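import Cfsg.Statements.S4479
import Cfsg.Agent.Char.KleinBlock
-- import your own Cfsg.Agent.* helpers here

set_option autoImplicit false
open Cfsg

namespace Cfsg.Agent.S4479

/-- An order formula from the principal 2-block. Let G be a finite group of order 4·g₀ with g₀ odd having no normal 2-complement (no normal subgroup of order g₀); let P be a Sylow 2-subgroup, J an involution of P, and fix a maximal ideal M of the algebraic integers containing 2. Suppose the principal 2-block consists of the principal character and three further distinct characters χ₁, χ₂, χ₃ of degrees x₁, x₂, x₃, with χ_i(J) = ε_i = ±1. Then, writing c(J) and c(P) for the orders of the centralizers of J and of P, the order of G equals 8·α·c(J)³/c(P)² with α = x₁x₂x₃ / ((x₁ + ε₁)(x₂ + ε₂)(x₃ + ε₃)). -/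
theorem result {G : Type*} [Group G] [Finite G] (M : Ideal Cfsg.AlgInt) (hM : Cfsg.IsPModular 2 M) (g₀ : ℕ) (hg₀ : Odd g₀) (hG : Nat.card G = 4 * g₀) (hnc : ¬ ∃ N : Subgroup G, N.Normal ∧ Nat.card N = g₀) (P : Sylow 2 G) (J : G) (hJ : J ∈ (P : Subgroup G)) (hJ2 : orderOf J = 2) (χ₁ χ₂ χ₃ : Cfsg.IrrCharacter G) (ε₁ ε₂ ε₃ : ℤ) (hB : Cfsg.principalBlock M G = {χ : Cfsg.IrrCharacter G | (χ : G → ℂ) = (fun _ => 1) ∨ χ = χ₁ ∨ χ = χ₂ ∨ χ = χ₃}) (hdist : (χ₁ : G → ℂ) ≠ (fun _ => 1) ∧ (χ₂ : G → ℂ) ≠ (fun _ => 1) ∧ (χ₃ : G → ℂ) ≠ (fun _ => 1) ∧ χ₁ ≠ χ₂ ∧ χ₁ ≠ χ₃ ∧ χ₂ ≠ χ₃) (hε : (ε₁ = 1 ∨ ε₁ = -1) ∧ (ε₂ = 1 ∨ ε₂ = -1) ∧ (ε₃ = 1 ∨ ε₃ = -1)) (hval : (χ₁ : G → ℂ) J = ε₁ ∧ (χ₂ : G → ℂ) J = ε₂ ∧ (χ₃ : G → ℂ) J = ε₃) : (Nat.card G : ℚ) = 8 * (((Cfsg.charDegree (χ₁ : G → ℂ) : ℚ) * Cfsg.charDegree (χ₂ : G → ℂ) * Cfsg.charDegree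 (χ₃ : G → ℂ)) / ((Cfsg.charDegree (χ₁ : G → ℂ) + ε₁) * (Cfsg.charDegree (χ₂ : G → ℂ) + ε₂) * (Cfsg.charDegree (χ₃ : G → ℂ) + ε₃))) * (Nat.card (Subgroup.centralizer ({J} : Set G)) : ℚ) ^ 3 / (Nat.card (Subgroup.centralizer ((P : Subgroup G) : Set G)) : ℚ) ^ 2 := by
  classical
  have := Fintype.ofFinite G
  obtain ⟨k, x₁, x₂, x₃, hk, ⟨h1, h2, h3⟩, ⟨o1, o2, o3⟩, hC, hrel, hcount, -, -⟩ :=
    Char.klein_data M hM g₀ hg₀ hG hnc P J hJ hJ2 χ₁ χ₂ χ₃ ε₁ ε₂ ε₃ hB hdist hε hval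
  rw [Blocks.charDegree_eq h1, Blocks.charDegree_eq h2, Blocks.charDegree_eq h3]
  obtain ⟨he1, he2, he3⟩ := hε
  set g := Nat.card G
  set c := Nat.card (Subgroup.centralizer ({J} : Set G)) with hc
  set cP := Nat.card (Subgroup.centralizer ((P : Subgroup G) : Set G)) with hcP
  have hcQ : (c : ℚ) = k * cP := by exact_mod_cast hC
  have hcount' : (g : ℚ) * (1 + (ε₁ : ℚ) / x₁ + (ε₂ : ℚ) / x₂ + (ε₃ : ℚ) / x₃) =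
      8 * (c : ℚ) * (k : ℚ) ^ 2 := by
    have h : (((g : ℚ) * (1 + (ε₁ : ℚ) / x₁ + (ε₂ : ℚ) / x₂ + (ε₃ : ℚ) / x₃) : ℚ) : ℂ) =
        ((8 * (c : ℚ) * (k : ℚ) ^ 2 : ℚ) : ℂ) := by push_cast; exact hcount
    exact_mod_cast h
  have p1 : (x₁ : ℚ) ≠ 0 := Nat.cast_ne_zero.2 o1.pos.ne'
  have p2 : (x₂ : ℚ) ≠ 0 := Nat.cast_ne_zero.2 o2.pos.ne'
  have p3 : (x₃ : ℚ) ≠ 0 := Nat.cast_ne_zero.2 o3.pos.ne'
  have hrel' : (1 : ℚ) + ε₁ * x₁ + ε₂ * x₂ + ε₃ * x₃ = 0 := by exact_mod_cast hrel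
  have q1 : (ε₁ : ℚ) * ε₁ = 1 := by rcases he1 with rfl | rfl <;> simp
  have q2 : (ε₂ : ℚ) * ε₂ = 1 := by rcases he2 with rfl | rfl <;> simp
  have q3 : (ε₃ : ℚ) * ε₃ = 1 := by rcases he3 with rfl | rfl <;> simp
  have hk0 : (k : ℚ) ≠ 0 := Nat.cast_ne_zero.2 hk.ne'
  have hcP0 : (cP : ℚ) ≠ 0 := Nat.cast_ne_zero.2 Nat.card_pos.ne'
  have hrhs : (8 : ℚ) * (c : ℚ) * (k : ℚ) ^ 2 ≠ 0 := by rw [hcQ]; positivity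
  set W := (1 : ℚ) + (ε₁ : ℚ) / x₁ + (ε₂ : ℚ) / x₂ + (ε₃ : ℚ) / x₃ with hW
  have hprod : ((x₁ : ℚ) + ε₁) * ((x₂ : ℚ) + ε₂) * ((x₃ : ℚ) + ε₃) = (x₁ : ℚ) * x₂ * x₃ * W := by
    rw [hW]
    field_simp
    linear_combination ((ε₁ : ℚ) * ε₂ * ε₃) * hrel' - (ε₂ : ℚ) * ε₃ * x₁ * q1 -
      (ε₁ : ℚ) * ε₃ * x₂ * q2 - (ε₁ : ℚ) * ε₂ * x₃ * q3
  have hW0 : W ≠ 0 := fun h => hrhs (by rw [← hcount', h, mul_zero])
  rw [hprod, hcQ]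
  rw [hcQ] at hcount'
  field_simp
  linear_combination hcount'

end Cfsg.Agent.S4479
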