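import Cfsg.Statements.S4126
import Cfsg.Agent.LocalStructure.OmegaAction
import Cfsg.Agent.Fusion.Frobenius
import Cfsg.Agent.Core.Complements
-- import your own Cfsg.Agent.* helpers here

set_option autoImplicit false
open Cfsg

namespace Cfsg.Agent.S4126

open Subgroup in
open scoped commutatorElement in
theorem le_centralizer_of_fixes_four {G : Type*} [Group G] [Finite G] {p : ℕ} [hp : Fact p.Prime]
    {A Q : Subgroup G} (hQ : IsPGroup p Q) (hAQ : A ≤ normalizer (Q : Set G))
    (hcop : (Nat.card A).Coprime p) (hΩ : ∀ v ∈ Q, (v ^ p = 1 ∨ (p = 2 ∧ v ^ 4 = 1)) → ∀ a ∈ A, a * v = v * a) :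
    A ≤ centralizer (Q : Set G) := by
  induction Q using WellFoundedLT.induction with
  | _ Q ih =>
  by_cases hne : Q = ⊥
  · subst hne
    intro x _
    simp [mem_centralizer_iff]
  obtain ⟨n, hn⟩ := IsPGroup.iff_card.mp hQ
  have hcopQ : (Nat.card A).Coprime (Nat.card Q) := by rw [hn]; exact hcop.pow_right n
  have hsolv : Group.IsSolvable Q := by have := hQ.isNilpotent; infer_instance
  set F : Subgroup G := (frattini Q).map Q.subtype with hF
  have hFQ : F ≤ Q := map_subtype_le _
  have hFlt : F < Q := by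
    refine lt_of_le_of_ne hFQ fun e => ?_
    have : Nontrivial Q := (nontrivial_iff_ne_bot Q).mpr hne
    have htop : frattini Q = ⊤ := by
      apply Subgroup.map_injective Q.subtype_injective
      rw [← hF, e, ← MonoidHom.range_eq_map, range_subtype]
    obtain ⟨M, hM, -⟩ := (eq_top_or_exists_le_coatom (⊥ : Subgroup Q)).resolve_left bot_ne_top
    exact hM.1 (top_le_iff.mp (htop.symm.le.trans (frattini_le_coatom hM)))
  have hAF : A ≤ centralizer (F : Set G) :=
    ih F hFlt (hQ.to_le hFQ) (Cfsg.Agent.LocalStructure.le_normalizer_map_characteristic hAQ _)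
      (fun v hv => hΩ v (hFQ hv))
  have hWQ := Cfsg.Agent.Coprime.commutator_le_of_le_normalizer hAQ
  by_cases hWlt : ⁅Q, A⁆ < Q
  · have hW := ih ⁅Q, A⁆ hWlt (hQ.to_le hWQ) (normalizer_commutator_ge_right Q A)
      (fun v hv => hΩ v (hWQ hv))
    have : ⁅⁅Q, A⁆, A⁆ = ⊥ :=
      commutator_eq_bot_iff_le_centralizer.mpr (le_centralizer_iff.mp hW)
    rw [Cfsg.Agent.Coprime.commutator_commutator_eq hAQ hcopQ (Or.inr hsolv)] at this
    exact le_centralizer_iff.mp (commutator_eq_bot_iff_le_centralizer.mp this)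
  have hQA : ⁅Q, A⁆ = Q := eq_of_le_of_not_lt hWQ hWlt
  have hQF : Q ≤ normalizer (F : Set G) := Cfsg.Agent.LocalStructure.le_normalizer_map_characteristic le_normalizer _
  have h1 : ⁅⁅F, Q⁆, A⁆ = ⊥ :=
    commutator_eq_bot_iff_le_centralizer.mpr
      ((Cfsg.Agent.Coprime.commutator_le_of_le_normalizer hQF).trans (le_centralizer_iff.mp hAF))
  have h2 : ⁅⁅A, F⁆, Q⁆ = ⊥ := by
    rw [commutator_eq_bot_iff_le_centralizer.mpr hAF, commutator_bot_left]
  have hFZ : F ≤ centralizer (Q : Set G) := by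
    have h3 := commutator_commutator_eq_bot_of_rotate h2 h1
    rw [commutator_comm] at h3
    have h4 : ⁅F, ⁅Q, A⁆⁆ = ⊥ := h3
    rw [hQA] at h4
    exact commutator_eq_bot_iff_le_centralizer.mp h4
  have hpow : ∀ x ∈ Q, x ^ p ∈ F := fun x hx =>
    ⟨⟨x, hx⟩ ^ p, (by
      have := Cfsg.Agent.Core.pow_mem_frattini hQ ⟨x, hx⟩
      exact this), rfl⟩
  have hcomm : ∀ x ∈ Q, ∀ y ∈ Q, ⁅x, y⁆ ∈ F := fun x hx y hy =>
    ⟨⁅(⟨x, hx⟩ : Q), ⟨y, hy⟩⁆, (by
      have : Group.IsNilpotent Q := hQ.isNilpotent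
      exact Cfsg.Agent.Core.commutator_le_frattini (Subgroup.commutator_mem_commutator (mem_top _) (mem_top _))), rfl⟩
  intro a ha
  rw [mem_centralizer_iff]
  intro x hx
  set z := a * x * a⁻¹ * x⁻¹ with hz
  have haxQ : a * x * a⁻¹ ∈ Q := (mem_normalizer_iff.mp (hAQ ha) x).mp hx
  have hzQ : z ∈ Q := Q.mul_mem haxQ (Q.inv_mem hx)
  have hax : a * x * a⁻¹ = z * x := by rw [hz]; group
  set c := ⁅x, z⁆ with hc
  have hcc : ∀ q ∈ Q, Commute c q := fun q hq =>
    (mem_centralizer_iff.mp (hFZ (hcomm x hx z hzQ)) q hq).symm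
  have hxz : x * z = c * (z * x) := by rw [hc, commutatorElement_def]; group
  have hxpz : ∀ m : ℕ, x ^ m * z = c ^ m * (z * x ^ m) := by
    intro m
    induction m with
    | zero => simp
    | succ m ihm =>
      calc x ^ (m + 1) * z = x * (x ^ m * z) := by rw [pow_succ']; group
        _ = x * c ^ m * (z * x ^ m) := by rw [ihm]; group
        _ = c ^ m * (x * z) * x ^ m := by rw [← ((hcc x hx).pow_left m).eq]; group
        _ = c ^ m * c * (z * (x * x ^ m)) := by rw [hxz]; group
        _ = _ := by rw [← pow_succ, ← pow_succ']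
  have hzxp : ∀ m : ℕ, (z * x) ^ m = c ^ (m.choose 2) * (z ^ m * x ^ m) := by
    intro m
    induction m with
    | zero => simp
    | succ m ihm =>
      calc (z * x) ^ (m + 1) = c ^ (m.choose 2) * (z ^ m * (x ^ m * z) * x) := by
            rw [pow_succ, ihm]; group
        _ = c ^ (m.choose 2) * ((z ^ m * c ^ m) * (z * x ^ m) * x) := by rw [hxpz]; group
        _ = c ^ (m.choose 2) * c ^ m * ((z ^ m * z) * (x ^ m * x)) := by
            rw [← ((hcc z hzQ).pow_pow m m).eq]; group
        _ = _ := by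
            rw [← pow_add, ← pow_succ, ← pow_succ, Nat.choose_succ_succ, Nat.choose_one_right,
              add_comm]
  have hcp : c ^ p = 1 := by
    have h5 : z * x ^ p = x ^ p * z := mem_centralizer_iff.mp (hFZ (hpow x hx)) z hzQ
    have h6 := hxpz p
    rw [h5] at h6
    calc c ^ p = c ^ p * (x ^ p * z) * (x ^ p * z)⁻¹ := by group
      _ = 1 := by rw [← h6]; group
  have h5 : (z * x) ^ p = x ^ p := by
    rw [← hax, conj_pow, mem_centralizer_iff.mp (le_centralizer_iff.mp hAF (hpow x hx)) a ha]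
    group
  have hz4 : z ^ p = 1 ∨ (p = 2 ∧ z ^ 4 = 1) := by
    by_cases hodd : p = 2
    · right
      refine ⟨hodd, ?_⟩
      subst hodd
      rw [hzxp, Nat.choose_self, pow_one] at h5
      have h6 : c * z ^ 2 = 1 := mul_right_cancel (b := x ^ 2) (by rw [mul_assoc, h5, one_mul])
      have h7 : z ^ 2 = c⁻¹ := eq_inv_of_mul_eq_one_right h6
      rw [show (4 : ℕ) = 2 * 2 from rfl, pow_mul, h7, inv_pow, hcp, inv_one]
    · left
      obtain ⟨k, hk⟩ := hp.out.dvd_choose_self two_ne_zero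
        (lt_of_le_of_ne hp.out.two_le (Ne.symm hodd))
      rw [hzxp, hk, pow_mul, hcp, one_pow, one_mul] at h5
      calc z ^ p = z ^ p * x ^ p * (x ^ p)⁻¹ := by group
        _ = 1 := by rw [h5]; group
  have hzp : z ^ (p * p) = 1 := by
    rcases hz4 with h | ⟨h2, h4⟩
    · rw [pow_mul, h, one_pow]
    · rw [h2]; exact h4
  have hza : a * z = z * a := hΩ z hzQ hz4 a ha
  have hiter : ∀ m : ℕ, a ^ m * x * (a ^ m)⁻¹ = z ^ m * x := by
    intro m
    induction m with
    | zero => simp
    | succ m ihm =>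
      calc a ^ (m + 1) * x * (a ^ (m + 1))⁻¹ = a * (a ^ m * x * (a ^ m)⁻¹) * a⁻¹ := by
            rw [pow_succ']; group
        _ = (a * z ^ m) * x * a⁻¹ := by rw [ihm]; group
        _ = z ^ m * (a * x * a⁻¹) := by rw [((show Commute a z from hza).pow_right m).eq]; group
        _ = _ := by rw [hax, pow_succ]; group
  have hzA : z ^ Nat.card A = 1 := by
    have h5 := hiter (Nat.card A)
    have h6 : a ^ Nat.card A = 1 :=
      orderOf_dvd_iff_pow_eq_one.mp (A.orderOf_dvd_natCard ha)
    rw [h6] at h5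
    simpa using h5.symm
  have hz1 : z = 1 := by
    have := pow_gcd_eq_one.mpr ⟨hzA, hzp⟩
    rwa [Nat.Coprime.gcd_eq_one (hcop.mul_right hcop), pow_one] at this
  rw [hz1, one_mul] at hax
  exact (mul_inv_eq_iff_eq_mul.mp hax).symm


open Subgroup in
open scoped commutatorElement in
theorem fixes_normal {G : Type*} [Group G] [Finite G] {p : ℕ} [Fact p.Prime] (S : Sylow p G)
    (h : ∀ x : G, (orderOf x = p ∨ (p = 2 ∧ orderOf x = 4)) → ∀ g : G, ∃ s ∈ (S : Subgroup G),
      g * x * g⁻¹ = s * x * s⁻¹) :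
    ∀ M : Subgroup G, M.Normal → M ≤ (S : Subgroup G) → ∀ g : G, (orderOf g).Coprime p →
      g ∈ centralizer (M : Set G) := by
  intro M
  induction M using WellFoundedLT.induction with
  | _ M ih =>
  intro hMn hMS g hg
  have := hMn
  by_cases hne : M = ⊥
  · subst hne; simp [mem_centralizer_iff]
  have hM : IsPGroup p M := S.isPGroup'.to_le hMS
  set Ω : Set G := {x | x ∈ M ∧ (orderOf x = p ∨ (p = 2 ∧ orderOf x = 4))}
  set M₀ := closure Ω
  have hM₀ : M₀ ≤ M := (closure_le M).mpr fun x hx => hx.1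
  have hblack : ∀ (_ : ∀ x ∈ Ω, Commute g x), g ∈ centralizer (M : Set G) := by
    intro hfix
    refine le_centralizer_of_fixes_four hM (A := zpowers g) ?_ ?_ ?_ (mem_zpowers g)
    · rw [Subgroup.normalizer_eq_top]; exact le_top
    · rwa [Nat.card_zpowers]
    · intro v hv hvp a ha
      obtain ⟨j, rfl⟩ := ha
      have hc : Commute g v := by
        rcases eq_or_ne v 1 with rfl | hv1
        · exact Commute.one_right g
        refine hfix v ⟨hv, ?_⟩
        rcases hvp with hv' | ⟨h2, h4⟩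
        · exact Or.inl (orderOf_eq_prime hv' hv1)
        · obtain ⟨k, hk, hk'⟩ := (Nat.dvd_prime_pow Nat.prime_two).mp
            (orderOf_dvd_of_pow_eq_one (show v ^ 2 ^ 2 = 1 from h4))
          interval_cases k
          · exact absurd (orderOf_eq_one_iff.mp hk') hv1
          · exact Or.inl (by rw [hk', h2, pow_one])
          · exact Or.inr ⟨h2, hk'⟩
      exact (hc.zpow_left j).eq
  rcases hM₀.lt_or_eq with hlt | heq
  · have hn : M₀.Normal := ⟨fun y hy k => by
      refine closure_induction (p := fun y _ => k * y * k⁻¹ ∈ M₀) ?_ (by simp) ?_ ?_ hy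
      · rintro x ⟨hx, hxo⟩
        refine subset_closure ⟨hMn.conj_mem x hx k, ?_⟩
        have e : orderOf (k * x * k⁻¹) = orderOf x := (MulAut.conj k).orderOf_eq x
        rw [e]; exact hxo
      · intro a b _ _ ha hb
        simpa [mul_assoc] using M₀.mul_mem ha hb
      · intro a _ ha
        simpa [mul_assoc] using M₀.inv_mem ha⟩
    exact hblack fun x hx =>
      (mem_centralizer_iff.mp (ih M₀ hlt hn (hlt.le.trans hMS) g hg) x (subset_closure hx)).symm
  have hSM : (S : Subgroup G) ≤ normalizer (M : Set G) := by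
    rw [Subgroup.normalizer_eq_top]; exact le_top
  have hWn : (⁅(⊤ : Subgroup G), M⁆).Normal := inferInstance
  have hW : ⁅(⊤ : Subgroup G), M⁆ ≤ ⁅M, (S : Subgroup G)⁆ := by
    rw [commutator_le]
    intro k _ y hy
    have hy' : y ∈ M₀ := by rw [heq]; exact hy
    clear hy
    refine closure_induction (p := fun y _ => ⁅k, y⁆ ∈ ⁅M, (S : Subgroup G)⁆) ?_ ?_ ?_ ?_ hy'
    · rintro x ⟨hx, hxo⟩
      obtain ⟨s, hs, he⟩ := h x hxo k
      have e : ⁅k, x⁆ = ⁅s, x⁆ := by rw [commutatorElement_def, commutatorElement_def, he]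
      rw [e, ← commutatorElement_inv]
      exact inv_mem (commutator_mem_commutator hx hs)
    · simp
    · intro a b ha _ h1 h2
      have e : ⁅k, a * b⁆ = ⁅k, a⁆ * (a * ⁅k, b⁆ * a⁻¹) := by simp [commutatorElement_def]; group
      rw [e]
      exact mul_mem h1 ((mem_normalizer_iff.mp
        (normalizer_commutator_ge_left M (S : Subgroup G) (hM₀ ha)) _).mp h2)
    · intro a ha h1
      have e : ⁅k, a⁻¹⁆ = a⁻¹ * ⁅k, a⁆⁻¹ * a⁻¹⁻¹ := by simp [commutatorElement_def]; group
      rw [e]
      exact (mem_normalizer_iff.mp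
        (normalizer_commutator_ge_left M (S : Subgroup G) (inv_mem (hM₀ ha))) _).mp (inv_mem h1)
  have hWlt : ⁅(⊤ : Subgroup G), M⁆ < M :=
    lt_of_le_of_lt hW (Cfsg.Agent.Coprime.commutator_lt_of_isPGroup S.isPGroup' hM hSM hne)
  have hc := ih _ hWlt hWn (hWlt.le.trans hMS) g hg
  refine hblack fun x hx => ?_
  have hw : ⁅g, x⁆ ∈ ⁅(⊤ : Subgroup G), M⁆ := commutator_mem_commutator (mem_top g) hx.1
  set w := ⁅g, x⁆ with hwdef
  have hgw : Commute g w := (mem_centralizer_iff.mp hc w hw).symm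
  have hiter : ∀ m : ℕ, g ^ m * x * (g ^ m)⁻¹ = w ^ m * x := by
    intro m
    induction m with
    | zero => simp
    | succ m ihm =>
      calc g ^ (m + 1) * x * (g ^ (m + 1))⁻¹ = g * (g ^ m * x * (g ^ m)⁻¹) * g⁻¹ := by
            rw [pow_succ']; group
        _ = (g * w ^ m) * x * g⁻¹ := by rw [ihm]; group
        _ = w ^ m * (g * x * g⁻¹) := by rw [(hgw.pow_right m).eq]; group
        _ = _ := by rw [hwdef, commutatorElement_def, pow_succ]; group
  have h1 : w ^ orderOf g = 1 := by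
    have h5 := hiter (orderOf g)
    rw [pow_orderOf_eq_one] at h5
    simpa using h5.symm
  obtain ⟨k, hk⟩ := IsPGroup.iff_orderOf.mp (S.isPGroup'.to_le hMS) ⟨w, hWlt.le hw⟩
  rw [Subgroup.orderOf_mk] at hk
  have h2 : orderOf w ∣ Nat.gcd (orderOf g) (p ^ k) :=
    Nat.dvd_gcd (orderOf_dvd_of_pow_eq_one h1) hk.dvd
  rw [(hg.pow_right k).gcd_eq_one, Nat.dvd_one, orderOf_eq_one_iff, hwdef,
    commutatorElement_eq_one_iff_commute] at h2
  exact h2



/-- Let G be a finite group and p a prime. Suppose every element of order p, and when p = 2 also every element of order 4, has a conjugacy class of p-power size. Then G has a normal p-complement. -/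
theorem result {G : Type*} [Group G] [Finite G] (p : ℕ) [Fact p.Prime]
    (h : ∀ x : G, (orderOf x = p ∨ (p = 2 ∧ orderOf x = 4)) → ∃ a : ℕ, (Subgroup.centralizer ({x} : Set G)).index = p ^ a) :
    Cfsg.HasNormalPComplement p G := by
  obtain ⟨S⟩ : Nonempty (Sylow p G) := inferInstance
  have hprod : ∀ x : G, (orderOf x = p ∨ (p = 2 ∧ orderOf x = 4)) → ∀ g : G,
      ∃ s ∈ (S : Subgroup G), g * x * g⁻¹ = s * x * s⁻¹ := by
    intro x hx g
    obtain ⟨a, ha⟩ := h x hx
    have hcop : (S : Subgroup G).index.Coprime (Subgroup.centralizer ({x} : Set G)).index := by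
      rw [ha]
      exact Nat.Coprime.pow_right a
        (((Fact.out : p.Prime).coprime_iff_not_dvd.mpr S.not_dvd_index).symm)
    obtain ⟨s, hs, c, hc, rfl⟩ := Cfsg.Agent.Core.exists_mul_eq_of_coprime hcop g
    refine ⟨s, hs, ?_⟩
    have hc' := Subgroup.mem_centralizer_singleton_iff.mp hc
    calc s * c * x * (s * c)⁻¹ = s * (c * x) * c⁻¹ * s⁻¹ := by group
      _ = s * x * s⁻¹ := by rw [hc']; group
  set Ω : Set G := {x | orderOf x = p ∨ (p = 2 ∧ orderOf x = 4)}
  have hΩS : ∀ x ∈ Ω, x ∈ (S : Subgroup G) := by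
    intro x hx
    have hxp : IsPGroup p (Subgroup.zpowers x) := by
      rcases hx with hx | ⟨h2, hx⟩
      · exact IsPGroup.of_card (n := 1) (by rw [Nat.card_zpowers, hx, pow_one])
      · exact IsPGroup.of_card (n := 2) (by rw [Nat.card_zpowers, hx, h2]; norm_num)
    obtain ⟨T, hT⟩ := hxp.exists_le_sylow
    obtain ⟨g, hg⟩ := MulAction.exists_smul_eq G T S
    have hgx : g * x * g⁻¹ ∈ (S : Subgroup G) := by
      rw [← hg, Sylow.coe_subgroup_smul]
      exact Subgroup.smul_mem_pointwise_smul x (MulAut.conj g) _ (hT (Subgroup.mem_zpowers x))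
    obtain ⟨s, hs, he⟩ := hprod x hx g
    rw [he] at hgx
    simpa [mul_assoc] using mul_mem (mul_mem (inv_mem hs) hgx) hs
  have hLn : (Subgroup.closure Ω).Normal := ⟨fun y hy k => by
    refine Subgroup.closure_induction (p := fun y _ => k * y * k⁻¹ ∈ Subgroup.closure Ω) ?_ (by simp) ?_ ?_ hy
    · intro x hx
      refine Subgroup.subset_closure ?_
      have e : orderOf (k * x * k⁻¹) = orderOf x := (MulAut.conj k).orderOf_eq x
      show orderOf (k * x * k⁻¹) = p ∨ (p = 2 ∧ orderOf (k * x * k⁻¹) = 4)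
      rw [e]; exact hx
    · intro a b _ _ ha hb
      simpa [mul_assoc] using Subgroup.mul_mem _ ha hb
    · intro a _ ha
      simpa [mul_assoc] using Subgroup.inv_mem _ ha⟩
  have hfix := fixes_normal S hprod _ hLn ((Subgroup.closure_le _).mpr hΩS)
  refine Cfsg.Agent.Fusion.hasNormalPComplement_of_frobenius fun Q hQ g hg hgo => ?_
  refine le_centralizer_of_fixes_four hQ (A := Subgroup.zpowers g) (Subgroup.zpowers_le.mpr hg)
    (by rwa [Nat.card_zpowers]) ?_ (Subgroup.mem_zpowers g)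
  intro v hv hvp a ha
  obtain ⟨j, rfl⟩ := ha
  have hc : Commute g v := by
    rcases eq_or_ne v 1 with rfl | hv1
    · exact Commute.one_right g
    refine (Subgroup.mem_centralizer_iff.mp (hfix g hgo) v (Subgroup.subset_closure ?_)).symm
    rcases hvp with hv' | ⟨h2, h4⟩
    · exact Or.inl (orderOf_eq_prime hv' hv1)
    · obtain ⟨k, hk, hk'⟩ := (Nat.dvd_prime_pow Nat.prime_two).mp
        (orderOf_dvd_of_pow_eq_one (show v ^ 2 ^ 2 = 1 from h4))
      interval_cases k
      · exact absurd (orderOf_eq_one_iff.mp hk') hv1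
      · exact Or.inl (by rw [hk', h2, pow_one])
      · exact Or.inr ⟨h2, hk'⟩
  exact (hc.zpow_left j).eq

end Cfsg.Agent.S4126
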