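import Cfsg.Statements.S0071
import Cfsg.Agent.Fusion.Frobenius

set_option autoImplicit false
open Cfsg

namespace Cfsg.Agent.S0071

/-- The Frobenius normal p-complement Theorem states that a Sylow p-subgroup has a normal complement exactly when, for each of its subgroups Q, every element of the normalizer of Q of order prime to p centralizes Q. -/
theorem result {G : Type*} [Group G] [Finite G] {p : ℕ} [Fact p.Prime] (P : Sylow p G) : (∃ N : Subgroup G, N.Normal ∧ N.IsComplement' (P : Subgroup G)) ↔ ∀ Q : Subgroup G, Q ≤ (P : Subgroup G) → ∀ g ∈ Subgroup.normalizer (Q : Set G), Nat.Coprime (orderOf g) p → g ∈ Subgroup.centralizer (Q : Set G) := by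
  constructor
  · rintro ⟨N, hN, hc⟩ Q hQ g hg hgo
    exact Fusion.mem_centralizer_of_hasNormalPComplement ⟨P, N, hN, hc⟩ (P.2.to_le hQ) hg hgo
  · intro h
    have hc : Cfsg.HasNormalPComplement p G := by
      refine Fusion.hasNormalPComplement_of_frobenius fun Q hQ g hg hgo => ?_
      obtain ⟨R, hR⟩ := hQ.exists_le_sylow
      obtain ⟨k, hk⟩ := MulAction.exists_smul_eq G P R
      have hle : Fusion.conjSub k Q ≤ (P : Subgroup G) := by
        intro x hx
        have h1 := hR (Fusion.mem_conjSub.mp hx)
        rw [← hk] at h1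
        obtain ⟨y, hy, hyx⟩ := h1
        simp at hyx
        rwa [← hyx]
      have h3 : k⁻¹ * g * k ∈ Subgroup.normalizer (Fusion.conjSub k Q : Set G) := by
        rw [← Fusion.conjSub_normalizer, Fusion.mem_conjSub]
        simpa [mul_assoc] using hg
      have h4 : Nat.Coprime (orderOf (k⁻¹ * g * k)) p := by
        rw [show k⁻¹ * g * k = MulAut.conj k⁻¹ g by simp, MulEquiv.orderOf_eq]
        exact hgo
      have h5 := Subgroup.mem_centralizer_iff.mp (h _ hle _ h3 h4)
      rw [Subgroup.mem_centralizer_iff]
      intro x hx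
      have h6 := h5 (k⁻¹ * x * k) (Fusion.mem_conjSub.mpr (by simpa [mul_assoc] using hx))
      calc x * g = k * ((k⁻¹ * x * k) * (k⁻¹ * g * k)) * k⁻¹ := by group
        _ = k * ((k⁻¹ * g * k) * (k⁻¹ * x * k)) * k⁻¹ := by rw [h6]
        _ = g * x := by group
    exact ⟨_, inferInstance, Fusion.isComplement'_pResidual hc P⟩

end Cfsg.Agent.S0071
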