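import Cfsg.Statements.S0493
import Cfsg.Agent.SmallSimple.Basic

set_option autoImplicit false
open Cfsg

namespace Cfsg.Agent.S0493

theorem two_prime_or (n : ℕ) (hn : n ≤ 100) (h0 : n ≠ 0) :
    n ∈ [30, 42, 60, 66, 70, 78, 84, 90] ∨
    ∃ q ∈ [2, 3, 5, 7, 11, 13, 17, 19, 23, 29, 31, 37, 41, 43, 47, 53, 59, 61, 67, 71, 73, 79, 83, 89, 97],
      ∃ p ∈ [2, 3, 5, 7], n ∣ p ^ 7 * q ^ 7 := by
  revert n
  decide +kernel

/-- A finite simple group of order at most 100 that is not cyclic has order 60. -/
theorem result {G : Type*} [Group G] [Finite G] [IsSimpleGroup G]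
    (hG : ¬ IsCyclic G) (h : Nat.card G ≤ 100) : Nat.card G = 60 := by
  have hG' := SmallSimple.not_comm_of_not_cyclic hG
  have : Fact (Nat.Prime 2) := ⟨Nat.prime_two⟩
  rcases two_prime_or _ h Nat.card_pos.ne' with hl | ⟨q, hq, p, hp, hd⟩
  · obtain ⟨P⟩ := (inferInstance : Nonempty (Sylow 2 G))
    have hP := SmallSimple.sylow_two_ne_top hG' P
    have hsq : ∀ m, Nat.card G = 2 * m → ¬ 2 ∣ m → False := by
      intro m hm hodd
      have h1 : Nat.card ↥(P : Subgroup G) = 2 ^ 1 := by
        rw [Sylow.card_eq_multiplicity, hm, Nat.factorization_mul (by norm_num)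
          (by rintro rfl; exact hodd (dvd_zero 2))]
        simp [Nat.Prime.factorization_self Nat.prime_two, Nat.factorization_eq_zero_of_not_dvd hodd]
      rcases SmallSimple.small_sylow P h1 le_rfl (by norm_num) hP with ⟨-, h⟩ | ⟨-, h⟩ <;> omega
    have : Fact (Nat.Prime 7) := ⟨by norm_num⟩
    simp only [List.mem_cons, List.not_mem_nil, or_false] at hl
    rcases hl with e | e | e | e | e | e | e | e
    · exact (hsq 15 e (by norm_num)).elim
    · exact (hsq 21 e (by norm_num)).elim
    · exact e
    · exact (hsq 33 e (by norm_num)).elim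
    · exact (hsq 35 e (by norm_num)).elim
    · exact (hsq 39 e (by norm_num)).elim
    · exfalso
      obtain ⟨S⟩ := (inferInstance : Nonempty (Sylow 7 G))
      have h7 : Nat.card ↥(S : Subgroup G) = 7 := by
        rw [Sylow.card_eq_multiplicity, e]
        rw [show (84 : ℕ) = 7 ^ 1 * 12 by norm_num, Nat.factorization_mul (by norm_num) (by norm_num),
          Finsupp.add_apply, Nat.Prime.factorization_pow (by norm_num),
          Nat.factorization_eq_zero_of_not_dvd (show ¬ 7 ∣ 12 by norm_num)]
        simp
      have hidx : (S : Subgroup G).index = 12 := by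
        have := (S : Subgroup G).card_mul_index
        rw [h7, e] at this; omega
      have h1 := S.card_dvd_index
      have h2 := card_sylow_modEq_one 7 G
      rw [hidx] at h1
      have h3 : Nat.card (Sylow 7 G) = 1 := by
        have hle := Nat.le_of_dvd (by norm_num) h1
        generalize Nat.card (Sylow 7 G) = N at *
        interval_cases N <;> simp_all (config := {decide := true}) [Nat.ModEq]
      have : Subsingleton (Sylow 7 G) := (Nat.card_eq_one_iff_unique.1 h3).1
      rcases (Sylow.normal_of_subsingleton S).eq_bot_or_eq_top with hb | hb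
      · rw [hb, Subgroup.card_bot] at h7; omega
      · rw [hb, Subgroup.card_top, e] at h7; omega
    · exact (hsq 45 e (by norm_num)).elim
  · exfalso
    have hp' : p.Prime := by
      simp only [List.mem_cons, List.not_mem_nil, or_false] at hp
      rcases hp with rfl | rfl | rfl | rfl <;> norm_num
    have hq' : q.Prime := by
      simp only [List.mem_cons, List.not_mem_nil, or_false] at hq
      rcases hq with rfl | rfl | rfl | rfl | rfl | rfl | rfl | rfl | rfl | rfl | rfl | rfl | rfl |
        rfl | rfl | rfl | rfl | rfl | rfl | rfl | rfl | rfl | rfl | rfl | rfl <;> norm_num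
    obtain ⟨a, b, ha, hb, hab⟩ := exists_dvd_and_dvd_of_dvd_mul hd
    obtain ⟨i, -, rfl⟩ := (Nat.dvd_prime_pow hp').1 ha
    obtain ⟨j, -, rfl⟩ := (Nat.dvd_prime_pow hq').1 hb
    exact hG' ⟨⟨IsSimpleGroup.comm_iff_isSolvable.2
      (Cfsg.Agent.S0144.result p q i j hp' hq' hab)⟩⟩

end Cfsg.Agent.S0493
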