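import Cfsg.Statements.S4812
-- import your own Cfsg.Agent.* helpers here

import Cfsg.Agent.GL2Rep.SLParity

set_option autoImplicit false
open Cfsg

namespace Cfsg.Agent.S4812

open Cfsg.Agent.GL2Rep Cfsg.Agent.GL2Rep.SL Matrix


/-- Let F be a finite field of characteristic 2 with q ≥ 4 elements and let S be isomorphic to PSL(2,F) or to SL(2,F). Then the vertices of the character degree graph of S are the primes dividing q(q²−1), and two distinct primes are adjacent exactly when both divide q + 1 or both divide q − 1; so the graph has the three connected components {2}, the primes dividing q + 1 and the primes dividing q − 1, each complete. -/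
theorem result (F : Type*) [Field F] [Fintype F] [CharP F 2] (q : ℕ) (hq : Fintype.card F = q) (h4 : 4 ≤ q) {S : Type*} [Group S] [Finite S] (hS : Nonempty (S ≃* Matrix.ProjectiveSpecialLinearGroup (Fin 2) F) ∨ Nonempty (S ≃* Matrix.SpecialLinearGroup (Fin 2) F)) : Cfsg.degreePrimes S = {r : ℕ | r.Prime ∧ r ∣ q * (q ^ 2 - 1)} ∧ ∀ r s : ℕ, (Cfsg.degreeGraph S).Adj r s ↔ (r ≠ s ∧ r.Prime ∧ s.Prime ∧ ((r ∣ q + 1 ∧ s ∣ q + 1) ∨ (r ∣ q - 1 ∧ s ∣ q - 1))) := by
  classical
  haveI : Fintype (GL (Fin 2) F) := Fintype.ofFinite _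
  obtain ⟨π, hπ, hker⟩ : ∃ π : Matrix.SpecialLinearGroup (Fin 2) F →* S, Function.Surjective π ∧ π.ker ≤ Subgroup.center (Matrix.SpecialLinearGroup (Fin 2) F) := by
    rcases hS with ⟨⟨e⟩⟩ | ⟨⟨e⟩⟩
    · refine ⟨e.symm.toMonoidHom.comp (QuotientGroup.mk' _), e.symm.surjective.comp (QuotientGroup.mk'_surjective _), fun x hx => ?_⟩
      rw [MonoidHom.mem_ker, MonoidHom.comp_apply] at hx
      exact (QuotientGroup.eq_one_iff x).1 (e.symm.map_eq_one_iff.1 hx)
    · refine ⟨e.symm.toMonoidHom, e.symm.surjective, fun x hx => ?_⟩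
      rw [e.symm.map_eq_one_iff.1 (MonoidHom.mem_ker.1 hx)]
      exact one_mem _
  have h2 : (2 : F) = 0 := CharTwo.two_eq_zero
  obtain ⟨hd0, hd1, hd2⟩ := degrees_occur π hπ hker (Or.inl ⟨h2, hq ▸ h4⟩)
  rw [hq] at hd0 hd1 hd2
  have opts : ∀ d ∈ Cfsg.charDegrees S, d = 1 ∨ d = q ∨ d = q + 1 ∨ d = q - 1 := by
    intro d hd
    rcases degree_options π hπ hd with h | h | h | h | ⟨h, -⟩ | ⟨h, -⟩ <;> first | exact absurd h2 h | omega
  have hfac : q ^ 2 - 1 = (q + 1) * (q - 1) := by simpa using Nat.sq_sub_sq q 1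
  obtain ⟨a, -, ha⟩ := FiniteField.card F 2
  refine ⟨?_, fun r s => ?_⟩
  · ext r
    simp only [Cfsg.degreePrimes, Set.mem_ofPred_eq, hfac]
    refine and_congr_right fun hr => ⟨?_, fun h => ?_⟩
    · rintro ⟨d, hd, hdvd⟩
      rcases opts d hd with rfl | rfl | rfl | rfl
      · exact absurd (Nat.eq_one_of_dvd_one hdvd) hr.ne_one
      · exact hdvd.mul_right _
      · exact (hdvd.mul_right _).mul_left _
      · exact (hdvd.mul_left _).mul_left _
    · rcases hr.dvd_mul.1 h with h | h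
      · exact ⟨q, hd0, h⟩
      · rcases hr.dvd_mul.1 h with h | h
        · exact ⟨_, hd1, h⟩
        · exact ⟨_, hd2, h⟩
  show (r ≠ s ∧ r.Prime ∧ s.Prime ∧ ∃ d ∈ Cfsg.charDegrees S, r * s ∣ d) ↔ _
  refine and_congr_right fun hne => and_congr_right fun hr => and_congr_right fun hs => ⟨?_, fun h => ?_⟩
  · rintro ⟨d, hd, hdvd⟩
    have h1 := dvd_trans (dvd_mul_right r s) hdvd
    have h2' := dvd_trans (dvd_mul_left s r) hdvd
    rcases opts d hd with rfl | rfl | rfl | rfl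
    · exact absurd (Nat.eq_one_of_dvd_one h1) hr.ne_one
    · exfalso
      rw [← hq, ha] at h1 h2'
      exact hne (((Nat.prime_dvd_prime_iff_eq hr Nat.prime_two).1 (hr.dvd_of_dvd_pow h1)).trans
        ((Nat.prime_dvd_prime_iff_eq hs Nat.prime_two).1 (hs.dvd_of_dvd_pow h2')).symm)
    · exact Or.inl ⟨h1, h2'⟩
    · exact Or.inr ⟨h1, h2'⟩
  · have hco := (Nat.coprime_primes hr hs).2 hne
    rcases h with ⟨a, b⟩ | ⟨a, b⟩
    · exact ⟨_, hd1, hco.mul_dvd_of_dvd_of_dvd a b⟩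
    · exact ⟨_, hd2, hco.mul_dvd_of_dvd_of_dvd a b⟩

end Cfsg.Agent.S4812
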