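import Mathlib
import Cfsg.Statements.S3669
import Cfsg.Agent.S0493
import Cfsg.Agent.Core.Hall
import Cfsg.Agent.S0494
import Cfsg.Agent.S4812
import Cfsg.Agent.Classical.SmallPSL
import Cfsg.Agent.ProjExt.Ratio
import Cfsg.Agent.Char.Integral
import Cfsg.Agent.Char.UniqueDivisible

set_option autoImplicit false
open Cfsg

namespace Cfsg.Agent.S3669
universe u

open Cfsg.Agent

theorem sylow_five : ∀ (n : ℕ) (G : Type u) [Group G] [Finite G], Nat.card G = n → n ∣ 60 → 5 ∣ n →
    (n = 60 → ¬ IsSimpleGroup G) → ∃ P : Subgroup G, P.Normal ∧ Nat.card P = 5 := by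
  haveI : Fact (Nat.Prime 5) := ⟨by norm_num⟩
  intro n
  induction n using Nat.strong_induction_on with
  | _ n ih =>
    intro G _ _ hn h60 h5 hns
    obtain ⟨m, rfl⟩ := h5
    have hm12 : m ∣ 12 := (Nat.mul_dvd_mul_iff_left (by norm_num : 0 < 5)).1 h60
    have hmle : m ≤ 12 := Nat.le_of_dvd (by norm_num) hm12
    have hm0 : 0 < m := Nat.pos_of_dvd_of_pos hm12 (by norm_num)
    have hm5 : ¬ 5 ∣ m := fun h => by have := h.trans hm12; omega
    obtain ⟨P⟩ := (inferInstance : Nonempty (Sylow 5 G))
    have hP : Nat.card (P : Subgroup G) = 5 := by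
      rw [Sylow.card_eq_multiplicity, hn, Nat.factorization_mul (by norm_num) hm0.ne', Finsupp.add_apply,
        Nat.Prime.factorization_self (by norm_num), Nat.factorization_eq_zero_of_not_dvd hm5]
      norm_num
    by_cases hn5 : Nat.card (Sylow 5 G) = 1
    · haveI := (Nat.card_eq_one_iff_unique.1 hn5).1
      exact ⟨P, Sylow.normal_of_subsingleton P, hP⟩
    have hmod : Nat.card (Sylow 5 G) % 5 = 1 := card_sylow_modEq_one 5 G
    have hdvd : Nat.card (Sylow 5 G) ∣ 12 := by
      have h1 : (P : Subgroup G).index = m := by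
        have := (P : Subgroup G).card_mul_index
        rw [hP, hn] at this; omega
      exact ((Sylow.card_dvd_index P).trans h1.dvd).trans hm12
    have hsyl : Nat.card (Sylow 5 G) = 6 := by
      have := Nat.le_of_dvd (by norm_num) hdvd
      have h0 := Nat.card_pos (α := Sylow 5 G)
      generalize Nat.card (Sylow 5 G) = s at *
      interval_cases s <;> omega
    have hm6 : 6 ∣ m := by
      have h1 : (P : Subgroup G).index = m := by
        have := (P : Subgroup G).card_mul_index
        rw [hP, hn] at this; omega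
      exact hsyl ▸ h1 ▸ Sylow.card_dvd_index P
    have hsimple : ¬ IsSimpleGroup G := by
      intro hS
      refine hns ?_ hS
      by_contra hne
      have hnc : ¬ IsCyclic G := by
        intro hc
        haveI := hc
        letI : CommGroup G := IsCyclic.commGroup
        haveI := Sylow.unique_of_normal P inferInstance
        exact hn5 Nat.card_unique
      exact hne (hn ▸ S0493.result hnc (by omega))
    haveI : Nontrivial G := Finite.one_lt_card_iff_nontrivial.1 (by omega)
    -- a minimal normal subgroup
    obtain ⟨N₀, hN₀n, hN₀b, hN₀t⟩ : ∃ N : Subgroup G, N.Normal ∧ N ≠ ⊥ ∧ N ≠ ⊤ := by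
      by_contra hc
      push Not at hc
      exact hsimple ⟨fun N hN => or_iff_not_imp_left.2 fun hb => hc N hN hb⟩
    obtain ⟨N, ⟨hNn, hNb, hNt⟩, hmin⟩ := exists_minimal_of_wellFoundedLT (fun N : Subgroup G => N.Normal ∧ N ≠ ⊥ ∧ N ≠ ⊤)
      ⟨N₀, hN₀n, hN₀b, hN₀t⟩
    haveI := hNn
    have hdn : Nat.card N ∣ 5 * m := hn ▸ Subgroup.card_subgroup_dvd_card N
    have hlt : Nat.card N < 5 * m := by
      rw [← hn]
      exact lt_of_le_of_ne (Subgroup.card_le_card_group N) fun h => hNt (Subgroup.eq_top_of_card_eq N h)
    -- a normal subgroup whose order is a multiple of five is enough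
    have key : ∀ K : Subgroup G, K.Normal → 5 ∣ Nat.card K → K ≠ ⊤ → ∃ P : Subgroup G, P.Normal ∧ Nat.card P = 5 := by
      intro K hK hK5 hKt
      haveI := hK
      have hKlt : Nat.card K < 5 * m := by
        rw [← hn]
        exact lt_of_le_of_ne (Subgroup.card_le_card_group K) fun h => hKt (Subgroup.eq_top_of_card_eq K h)
      have hKd : Nat.card K ∣ 60 := (hn ▸ Subgroup.card_subgroup_dvd_card K).trans h60
      obtain ⟨Q, hQn, hQ⟩ := ih _ hKlt K rfl hKd hK5 (fun h => by omega)
      haveI := hQn
      refine ⟨Q.map K.subtype, ?_, by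
        rw [← hQ]; exact (Nat.card_congr (Subgroup.equivMapOfInjective Q _ K.subtype_injective).toEquiv).symm⟩
      haveI : Fact (Nat.Prime 5) := ⟨by norm_num⟩
      haveI : Q.Characteristic := by
        obtain ⟨R⟩ := (inferInstance : Nonempty (Sylow 5 K))
        have hR : Nat.card (R : Subgroup K) = 5 := by
          have h1 : ¬ 5 ^ 2 ∣ Nat.card K := fun h => by have := h.trans hKd; omega
          obtain ⟨j, hj⟩ := IsPGroup.iff_card.1 R.2
          rcases Nat.lt_or_ge j 2 with hj2 | hj2
          · have := R.dvd_card_of_dvd_card hK5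
            interval_cases j <;> simp_all
          · exact absurd ((pow_dvd_pow 5 hj2).trans (hj ▸ Subgroup.card_subgroup_dvd_card _)) h1
        have hQp : IsPGroup 5 Q := IsPGroup.of_card (n := 1) (by simpa using hQ)
        obtain ⟨S, hS⟩ := hQp.exists_le_sylow
        have hSc : Nat.card (S : Subgroup K) = 5 := by rw [Sylow.card_eq_multiplicity, ← Sylow.card_eq_multiplicity R, hR]
        have hQS : Q = S := Subgroup.eq_of_le_of_card_ge hS (by rw [hSc, hQ])
        subst hQS
        exact S.characteristic_of_normal hQn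
      infer_instance
    by_cases hN5 : 5 ∣ Nat.card N
    · exact key N hNn hN5 hNt
    have hNm : Nat.card N ∣ m :=
      ((Nat.Prime.coprime_iff_not_dvd (by norm_num)).2 hN5).symm.dvd_of_dvd_mul_left hdn
    have hN1 : 1 < Nat.card N := Subgroup.one_lt_card_iff_ne_bot N |>.2 hNb
    have hQ5 : 5 ∣ Nat.card (G ⧸ N) := by
      have h1 : 5 ∣ Nat.card (G ⧸ N) * Nat.card N := by
        rw [← Subgroup.card_eq_card_quotient_mul_card_subgroup, hn]; exact dvd_mul_right _ _
      exact ((Nat.prime_five.dvd_mul).1 h1).resolve_right hN5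
    have hQd : Nat.card (G ⧸ N) ∣ 60 := (hn ▸ Subgroup.card_quotient_dvd_card N).trans h60
    have hQlt : Nat.card (G ⧸ N) < 5 * m := by
      rw [← hn, Subgroup.card_eq_card_quotient_mul_card_subgroup N]
      exact lt_mul_of_one_lt_right Nat.card_pos hN1
    obtain ⟨R, hRn, hR⟩ := ih _ hQlt (G ⧸ N) rfl hQd hQ5 (fun h => by omega)
    haveI := hRn
    have hKc : Nat.card (R.comap (QuotientGroup.mk' N)) = Nat.card N * 5 := by rw [Core.card_comap_mk, hR]
    by_cases hKt : R.comap (QuotientGroup.mk' N) = ⊤
    · -- then `N` has order six or twelve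
      rw [hKt, Subgroup.card_top, hn] at hKc
      have hNcard : Nat.card N = m := by omega
      haveI : Fact (Nat.Prime 3) := ⟨Nat.prime_three⟩
      have hab : ∃ a b : ℕ, Nat.card N = 2 ^ a * 3 ^ b := by
        rw [hNcard]
        rcases (show m = 6 ∨ m = 12 by omega) with rfl | rfl
        · exact ⟨1, 1, rfl⟩
        · exact ⟨2, 1, rfl⟩
      have hchar : ∀ M : Subgroup N, M.Characteristic → M ≠ ⊥ → M = ⊤ := by
        intro M hM hMb
        haveI := hM
        by_contra hMt
        have hle : M.map N.subtype ≤ N := Subgroup.map_subtype_le M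
        have heq := hmin ⟨inferInstance, fun h => hMb ((Subgroup.map_eq_bot_iff_of_injective M N.subtype_injective).1 h),
          fun h => hNt (top_le_iff.1 (h ▸ hle))⟩ hle
        refine hMt (Subgroup.eq_top_of_card_eq M ?_)
        rw [Nat.card_congr (Subgroup.equivMapOfInjective M _ N.subtype_injective).toEquiv, le_antisymm hle heq]
      haveI : Nontrivial N := Finite.one_lt_card_iff_nontrivial.1 hN1
      have hsolv : Group.IsSolvable N := Char.isSolvable_of_card_eq 2 3 Nat.prime_two Nat.prime_three _ N rfl hab
      have hlt' : _root_.commutator N < ⊤ := Group.IsSolvable.commutator_lt_top_of_nontrivial N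
      have hcomm : _root_.commutator N = ⊥ := by
        by_contra hne
        exact hlt'.ne (hchar _ inferInstance hne)
      obtain ⟨S⟩ := (inferInstance : Nonempty (Sylow 3 N))
      have hSn : (S : Subgroup N).Normal := ⟨fun x hx g => by
        have h1 : g * x * g⁻¹ * x⁻¹ ∈ _root_.commutator N := by
          rw [_root_.commutator_def, ← commutatorElement_def]
          exact Subgroup.commutator_mem_commutator (Subgroup.mem_top g) (Subgroup.mem_top x)
        rw [hcomm, Subgroup.mem_bot, mul_inv_eq_one] at h1
        rw [h1]; exact hx⟩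
      haveI := S.characteristic_of_normal hSn
      have h3 : 3 ∣ Nat.card N := by rw [hNcard]; omega
      have htop := hchar _ inferInstance (S.ne_bot_of_dvd_card h3)
      obtain ⟨j, hj⟩ := IsPGroup.iff_card.1 S.2
      rw [htop, Subgroup.card_top, hNcard] at hj
      have : 2 ∣ 3 ^ j := by rw [← hj]; omega
      exact absurd (Nat.prime_two.dvd_of_dvd_pow this) (by norm_num)
    · exact key _ inferInstance (hKc ▸ dvd_mul_left _ _) hKt

theorem five_mem_degreePrimes : 5 ∈ Cfsg.degreePrimes (alternatingGroup (Fin 5)) := by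
  haveI : Fintype (GaloisField 2 2) := Fintype.ofFinite _
  have hF : Fintype.card (GaloisField 2 2) = 4 := by
    rw [← Nat.card_eq_fintype_card, GaloisField.card 2 2 (by norm_num)]; norm_num
  obtain ⟨e⟩ := Classical.Small.psl_two_sixty (F := GaloisField 2 2) (Or.inl hF)
  rw [(S4812.result (GaloisField 2 2) 4 hF le_rfl (S := alternatingGroup (Fin 5)) (Or.inl ⟨e.symm⟩)).1]
  exact ⟨by norm_num, by norm_num⟩


/-- The character degree graph of a finite group has as vertices the primes dividing some irreducible complex character degree, two distinct primes being joined when their product divides some irreducible character degree; two groups have the same character degree graph when they have the same vertices and the same joined pairs. A finite group of order 60 with the same character degree graph as the alternating group A₅ (whose character degrees are 1, 3, 4, 5, so the graph has vertices 2, 3, 5 and no edges) is isomorphic to A₅. -/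
theorem result {G : Type*} [Group G] [Finite G] (hcard : Nat.card G = 60)
    (hΓ : Cfsg.degreePrimes G = Cfsg.degreePrimes (alternatingGroup (Fin 5)) ∧ Cfsg.degreeGraph G = Cfsg.degreeGraph (alternatingGroup (Fin 5))) : Nonempty (G ≃* alternatingGroup (Fin 5)) := by
  classical
  refine if hs : IsSimpleGroup G then (haveI := hs; S0494.result hcard) else False.elim ?_
  have h5 : 5 ∈ Cfsg.degreePrimes G := hΓ.1 ▸ five_mem_degreePrimes
  obtain ⟨-, d, ⟨χ, rfl⟩, hd⟩ := h5
  obtain ⟨P, hPn, hP⟩ := sylow_five 60 G hcard dvd_rfl (by norm_num) (fun _ => hs)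
  haveI := hPn
  haveI := Fintype.ofFinite G
  letI := Fintype.ofFinite P
  obtain ⟨φ, hφ⟩ := Cfsg.Agent.Char.exists_constituent_res (N := P) χ.2
  haveI : Fact (Nat.Prime 5) := ⟨by norm_num⟩
  haveI : IsCyclic P := isCyclic_of_prime_card hP
  have h1 : (φ : P → ℂ) 1 = 1 := Cfsg.Agent.Char.forall_degree_one_iff.2 (fun a b => by
    letI : CommGroup P := IsCyclic.commGroup
    exact mul_comm a b) φ
  obtain ⟨k, hk, hkd⟩ := Cfsg.Agent.ProjExt.exists_ratio_dvd_index χ.2 φ.2 hφ
  rw [h1, mul_one] at hk
  rw [Cfsg.Agent.Char.charDegree_eq_natCast hk] at hd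
  have hidx : P.index = 12 := by
    have := P.card_mul_index
    rw [hP, hcard] at this; omega
  have := hd.trans hkd
  omega

end Cfsg.Agent.S3669
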