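import Cfsg.Statements.S3277
import Cfsg.Agent.Fg24.InvolD8.KleinOrder
import Cfsg.Agent.MaxClass.Class
import Cfsg.Agent.TwoTransfer.Basic
import Cfsg.Agent.Fusion.Residual
import Cfsg.Agent.Fusion.Transfer
import Cfsg.Agent.Classical.SmallSimple
import Cfsg.Agent.S3669
import Cfsg.Agent.HSub.Basic

set_option autoImplicit false
open Cfsg

namespace Cfsg.Agent.S3277

open Subgroup

variable {G : Type*} [Group G] [Finite G] {x : G}

/-- An index-two normal subgroup avoiding an involution with self-centralizing four-group forces a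
normal elementary abelian subgroup of order at most four. -/
theorem exists_normal_elementary (hx : x * x = 1) (N : Subgroup G) [N.Normal] (hN : N.index = 2)
    (hxN : x ∉ N) (z : G) (hzN : z ∈ N) (hz1 : z ≠ 1)
    (hC : ∀ c, c * x = x * c → c = 1 ∨ c = x ∨ c = z ∨ c = x * z)
    (hCC : ∀ c, c * (x * z) = (x * z) * c → c * x = x * c)
    (hzx : z * x = x * z) (hz : z * z = 1) :
    ∃ E : Subgroup G, E.Normal ∧ Cfsg.IsElementaryAbelian 2 E ∧
      (Nat.card E = 2 ∨ Nat.card E = 4) := by
  classical
  have hmul : ∀ a b : G, (a * b ∈ N ↔ (a ∈ N ↔ b ∈ N)) := fun a b =>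
    mul_mem_iff_of_index_two hN
  have hconjN : ∀ g : G, g * z * g⁻¹ ∈ N := fun g =>
    (inferInstance : N.Normal).conj_mem z hzN g
  have hCz : ∀ c, c * x = x * c → c * z = z * c := by
    intro c hc
    rcases hC c hc with rfl | rfl | rfl | rfl
    · simp
    · exact hzx.symm
    · rfl
    · rw [mul_assoc, ← mul_assoc z x z, hzx, mul_assoc]
  -- every conjugate of `z` commutes with `z`
  have hkey : ∀ g : G, g * z * g⁻¹ * z = z * (g * z * g⁻¹) := by
    intro g
    set v := g * z * g⁻¹ with hv
    have hv2 : v * v = 1 := by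
      rw [hv, show g * z * g⁻¹ * (g * z * g⁻¹) = g * (z * z) * g⁻¹ by group, hz]; group
    have hxv : x * v ∉ N := fun h => hxN (((hmul x v).mp h).mpr (hconjN g))
    clear_value v
    set n := orderOf (x * v) with hn
    have heven : Even n := by
      rcases Nat.even_or_odd n with h | h
      · exact h
      · obtain ⟨j, hj⟩ := h
        exfalso
        have h1 := pow_orderOf_eq_one (x * v)
        rw [← hn, hj, pow_succ, pow_mul] at h1
        have h2 : ((x * v) ^ 2) ^ j ∈ N :=
          N.pow_mem (by rw [pow_two]; exact (hmul _ _).mpr Iff.rfl) j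
        exact hxv (((hmul _ _).mp (h1 ▸ N.one_mem)).mp h2)
    obtain ⟨r, hr⟩ := heven
    set t := (x * v) ^ r with ht
    have htt : t * t = 1 := by rw [ht, ← pow_add, ← hr, hn]; exact pow_orderOf_eq_one _
    have ht1 : t ≠ 1 := by
      intro h
      have hd := orderOf_dvd_of_pow_eq_one (x := x * v) h
      have hpos := orderOf_pos (x * v)
      rw [← hn] at hd hpos
      have := Nat.le_of_dvd (by omega) hd
      omega
    have hinv : ∀ w : G, w * w = 1 → w * (x * v) * w⁻¹ = (x * v)⁻¹ → t * w = w * t := by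
      intro w hw h
      have h1 : w * t * w⁻¹ = t := by
        rw [ht, ← conj_pow, h, inv_pow, inv_eq_of_mul_eq_one_right htt]
      calc t * w = w * t * w⁻¹ * w := by rw [h1]
        _ = w * t := by group
    have hxi : x⁻¹ = x := inv_eq_of_mul_eq_one_right hx
    have hvi : v⁻¹ = v := inv_eq_of_mul_eq_one_right hv2
    have htx : t * x = x * t := hinv x hx (by
      rw [mul_inv_rev, hxi, hvi, ← mul_assoc, hx, one_mul])
    have htv : t * v = v * t := hinv v hv2 (by
      rw [mul_inv_rev, hxi, hvi, mul_assoc v (x * v) v, mul_assoc x v v, hv2, mul_one])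
    rcases hC t htx with e | e | e | e
    · exact absurd e ht1
    · exact hCz v (by rw [← e]; exact htv.symm)
    · rw [← e]; exact htv.symm
    · exact hCz v (hCC v (by rw [← e]; exact htv.symm))
  set E := normalClosure ({z} : Set G) with hE
  have hgen : ∀ a ∈ Group.conjugatesOfSet ({z} : Set G),
      ∀ b ∈ Group.conjugatesOfSet ({z} : Set G), a * b = b * a := by
    intro a ha b hb
    rw [Group.mem_conjugatesOfSet_iff] at ha hb
    obtain ⟨z1, hz1', hga⟩ := ha
    obtain ⟨z2, hz2', hgb⟩ := hb
    rw [Set.mem_singleton_iff] at hz1' hz2'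
    obtain ⟨g, rfl⟩ := isConj_iff.mp (hz1' ▸ hga)
    obtain ⟨h, rfl⟩ := isConj_iff.mp (hz2' ▸ hgb)
    have h1 := hkey (h⁻¹ * g)
    calc g * z * g⁻¹ * (h * z * h⁻¹) = h * (h⁻¹ * g * z * (h⁻¹ * g)⁻¹ * z) * h⁻¹ := by group
      _ = h * (z * (h⁻¹ * g * z * (h⁻¹ * g)⁻¹)) * h⁻¹ := by rw [h1]
      _ = h * z * h⁻¹ * (g * z * g⁻¹) := by group
  have hcomm : IsMulCommutative E := by
    rw [hE, normalClosure]
    exact Subgroup.isMulCommutative_closure hgen
  have hE2 : ∀ e ∈ E, e ^ 2 = 1 := by
    intro e he
    rw [hE, normalClosure] at he hcomm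
    induction he using Subgroup.closure_induction with
    | mem a ha =>
      obtain ⟨z1, hz1', hga⟩ := Group.mem_conjugatesOfSet_iff.mp ha
      rw [Set.mem_singleton_iff] at hz1'
      obtain ⟨g, rfl⟩ := isConj_iff.mp (hz1' ▸ hga)
      rw [conj_pow, pow_two, hz]; group
    | one => simp
    | mul a b ha hb ha2 hb2 =>
      have : Commute a b := congrArg Subtype.val (hcomm.is_comm.comm ⟨a, ha⟩ ⟨b, hb⟩)
      rw [this.mul_pow, ha2, hb2, one_mul]
    | inv a _ ha2 => rw [inv_pow, ha2, inv_one]
  refine ⟨E, normalClosure_normal, ⟨hcomm, hE2⟩, ?_⟩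
  have hEN : E ≤ N := normalClosure_le_normal (Set.singleton_subset_iff.mpr hzN)
  have hzE : z ∈ E := subset_normalClosure (Set.mem_singleton z)
  have hsmall : ∀ e ∈ E, e * x = x * e → e = 1 ∨ e = z := by
    intro e he hex
    rcases hC e hex with h | h | h | h
    · exact Or.inl h
    · exact absurd (hEN (h ▸ he)) hxN
    · exact Or.inr h
    · exact absurd (((hmul x z).mp (hEN (h ▸ he))).mpr hzN) hxN
  let f : E →* E :=
    { toFun := fun e => ⟨x * e * x⁻¹ * e,
        E.mul_mem ((normalClosure_normal (s := ({z} : Set G))).conj_mem _ e.2 x) e.2⟩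
      map_one' := Subtype.ext (by simp)
      map_mul' := fun a b => by
        refine Subtype.ext ?_
        show x * ((a : G) * b) * x⁻¹ * (a * b) = x * a * x⁻¹ * a * (x * b * x⁻¹ * b)
        have hb : (x * (b : G) * x⁻¹) ∈ E :=
          (normalClosure_normal (s := ({z} : Set G))).conj_mem _ b.2 x
        have e1 : (x * (b : G) * x⁻¹) * a = a * (x * (b : G) * x⁻¹) :=
          congrArg Subtype.val (hcomm.is_comm.comm ⟨_, hb⟩ a)
        calc x * ((a : G) * b) * x⁻¹ * (a * b) = x * a * x⁻¹ * ((x * b * x⁻¹) * a) * b := by group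
          _ = x * a * x⁻¹ * (a * (x * b * x⁻¹)) * b := by rw [e1]
          _ = _ := by group }
  have hxi : x⁻¹ = x := inv_eq_of_mul_eq_one_right hx
  have hker : ∀ e : E, e ∈ f.ker → (e : G) = 1 ∨ (e : G) = z := by
    intro e he
    refine hsmall e e.2 ?_
    have h1 : x * (e : G) * x⁻¹ * e = 1 := congrArg Subtype.val (MonoidHom.mem_ker.mp he)
    have h2 := eq_inv_of_mul_eq_one_left h1
    rw [inv_eq_of_mul_eq_one_right (a := (e : G)) (by rw [← pow_two]; exact hE2 e e.2)] at h2
    calc (e : G) * x = x * e * x⁻¹ * x := by rw [h2]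
      _ = x * e := by group
  have hran : ∀ e : E, e ∈ f.range → (e : G) = 1 ∨ (e : G) = z := by
    rintro _ ⟨a, rfl⟩
    refine hsmall _ (f a).2 ?_
    have ha : (a : G) * (x * a * x⁻¹) = x * a * x⁻¹ * a :=
      congrArg Subtype.val (hcomm.is_comm.comm a
        ⟨_, (normalClosure_normal (s := ({z} : Set G))).conj_mem _ a.2 x⟩)
    show x * (a : G) * x⁻¹ * a * x = x * (x * a * x⁻¹ * a)
    calc x * (a : G) * x⁻¹ * a * x = x * ((a : G) * (x * a * x⁻¹)) := by rw [hxi]; group
      _ = x * (x * a * x⁻¹ * a) := by rw [ha]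
  have htwo : ∀ H : Subgroup E, (∀ e : E, e ∈ H → (e : G) = 1 ∨ (e : G) = z) →
      Nat.card H ≤ 2 := by
    intro H hH
    have hsub : (H : Set E) ⊆ {1, ⟨z, hzE⟩} := by
      intro e he
      rcases hH e he with h | h
      · exact Or.inl (Subtype.ext h)
      · exact Or.inr (Subtype.ext h)
    have h1 := Set.ncard_le_ncard hsub (Set.toFinite _)
    have h2 := Set.ncard_insert_le (1 : E) {⟨z, hzE⟩}
    rw [Set.ncard_singleton] at h2
    have h3 : Nat.card H = (H : Set E).ncard := Nat.card_coe_set_eq _
    omega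
  have h4 : Nat.card E ≤ 4 := by
    have h1 := f.ker.card_mul_index
    rw [index_ker] at h1
    have := Nat.mul_le_mul (htwo _ hker) (htwo _ hran)
    omega
  have : Fact (Nat.Prime 2) := ⟨Nat.prime_two⟩
  have hp : IsPGroup 2 E := fun e => ⟨1, Subtype.ext (by simpa using hE2 e e.2)⟩
  obtain ⟨k, hk⟩ := IsPGroup.iff_card.mp hp
  have hne : Nat.card E ≠ 1 := fun h => hz1 (by
    have := Subgroup.card_eq_one.mp h
    rw [this] at hzE
    exact hzE)
  rw [hk] at h4 hne ⊢
  rcases k with _ | _ | _ | k
  · simp at hne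
  · left; rfl
  · right; rfl
  · exfalso
    have := Nat.one_le_two_pow (n := k)
    rw [pow_succ, pow_succ, pow_succ] at h4
    omega

/-- Let G be a finite group containing an involution whose centralizer is elementary abelian of order 4. If G has no normal 2-complement and no normal elementary abelian 2-subgroup of order 2 or 4, then G is isomorphic to the alternating group of degree 5 (that is, to PSL(2, 5)). -/
theorem result {G : Type*} [Group G] [Finite G] (x : G) (hx : orderOf x = 2)
    (hC4 : Nat.card ↥(Subgroup.centralizer ({x} : Set G)) = 4) (hCe : ∀ c ∈ Subgroup.centralizer ({x} : Set G), c ^ 2 = 1)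
    (hnc : ¬ Cfsg.HasNormalPComplement 2 G)
    (hne : ∀ E : Subgroup G, E.Normal → Cfsg.IsElementaryAbelian 2 E → Nat.card ↥E ≠ 2 ∧ Nat.card ↥E ≠ 4) :
    Nonempty (G ≃* ↥(alternatingGroup (Fin 5))) := by
  classical
  have : Fact (Nat.Prime 2) := ⟨Nat.prime_two⟩
  set C := Subgroup.centralizer ({x} : Set G) with hCdef
  have hmC : ∀ c, c ∈ C ↔ c * x = x * c := fun c => mem_centralizer_singleton_iff
  have hx2 : x * x = 1 := by rw [← pow_two, ← hx]; exact pow_orderOf_eq_one x
  have hx1 : x ≠ 1 := fun h => by simp [h] at hx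
  have hxC : x ∈ C := (hmC x).mpr rfl
  have hCcomm : ∀ a ∈ C, ∀ b ∈ C, a * b = b * a := by
    intro a ha b hb
    have h1 := hCe _ (C.mul_mem ha hb)
    have h2 := hCe a ha
    have h3 := hCe b hb
    rw [pow_two] at h1 h2 h3
    calc a * b = (a * b)⁻¹ := eq_inv_of_mul_eq_one_left h1
      _ = b * a := by
        rw [mul_inv_rev, inv_eq_of_mul_eq_one_left h2, inv_eq_of_mul_eq_one_left h3]
  have hCp : IsPGroup 2 C := IsPGroup.of_card (n := 2) (by rw [hC4]; norm_num)
  obtain ⟨S, hCS⟩ := hCp.exists_le_sylow
  obtain ⟨k, hk⟩ := IsPGroup.iff_card.mp S.2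
  have h4S : 4 ∣ Nat.card (S : Subgroup G) := hC4 ▸ card_dvd_of_le hCS
  by_cases hS4 : Nat.card (S : Subgroup G) = 4
  · -- a self-centralizing Klein four Sylow subgroup
    have hSC : C = (S : Subgroup G) := eq_of_le_of_card_ge hCS (by rw [hS4, hC4])
    have hodd : Odd (S : Subgroup G).index := Nat.odd_iff.mpr (by
      have := S.not_dvd_index
      omega)
    have hGc : Nat.card G = 4 * (S : Subgroup G).index := by
      rw [← (S : Subgroup G).card_mul_index, hS4]
    have hnc' : ¬ ∃ N : Subgroup G, N.Normal ∧ Nat.card N = (S : Subgroup G).index := by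
      rintro ⟨N, hN, hcard⟩
      refine hnc (Fusion.hasNormalPComplement_iff_exists.mpr ⟨N, hN, ?_, 2, ?_⟩)
      · rw [hcard]; exact Nat.coprime_two_right.mpr hodd
      · have := N.card_mul_index
        rw [hcard, hGc, mul_comm 4] at this
        exact Nat.eq_of_mul_eq_mul_left (Nat.pos_of_ne_zero index_ne_zero_of_finite) this
    rcases Fg24.InvolD8.card_klein_selfcentralizing _ hodd hGc hnc' S x (hCS hxC) hx hC4 with h | h
    · -- order twelve
      exfalso
      have hN : Subgroup.normalizer ((S : Subgroup G) : Set G) = ⊤ := by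
        by_contra hne'
        have hle : Subgroup.normalizer ((S : Subgroup G) : Set G) ≤
            Subgroup.centralizer ((S : Subgroup G) : Set G) := by
          have h1 := card_subgroup_dvd_card (Subgroup.normalizer ((S : Subgroup G) : Set G))
          have h2 := card_dvd_of_le (le_normalizer (H := (S : Subgroup G)))
          rw [hGc, h] at h1
          rw [hS4] at h2
          have h3 : Nat.card (Subgroup.normalizer ((S : Subgroup G) : Set G)) ≠ 12 := fun e =>
            hne' (eq_top_of_card_eq _ (by rw [e, hGc, h]))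
          have h4 : Nat.card (Subgroup.normalizer ((S : Subgroup G) : Set G)) ≤ 12 :=
            Nat.le_of_dvd (by norm_num) h1
          have h5 : Nat.card (Subgroup.normalizer ((S : Subgroup G) : Set G)) = 4 := by
            generalize Nat.card (Subgroup.normalizer ((S : Subgroup G) : Set G)) = d at h1 h2 h3 h4
            interval_cases d <;> omega
          rw [← eq_of_le_of_card_ge (le_normalizer (H := (S : Subgroup G))) (by rw [h5, hS4])]
          intro a ha
          rw [mem_centralizer_iff]
          intro b hb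
          rw [← hSC] at ha hb
          exact hCcomm b hb a ha
        exact hnc (Fusion.hasNormalPComplement_of_normalizer_le_centralizer S hle)
      refine (hne (S : Subgroup G) (normalizer_eq_top_iff.mp hN) ⟨?_, ?_⟩).2 hS4
      · exact ⟨⟨fun a b => Subtype.ext (hCcomm a (hSC.symm.le a.2) b (hSC.symm.le b.2))⟩⟩
      · exact fun a ha => hCe a (hSC.symm.le ha)
    · -- order sixty
      have h60 : Nat.card G = 60 := by rw [hGc, h]
      by_cases hs : IsSimpleGroup G
      · exact Cfsg.Agent.Classical.Small.simple_sixty h60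
      exfalso
      obtain ⟨P, hPn, hP⟩ := S3669.sylow_five 60 G h60 dvd_rfl (by norm_num) (fun _ => hs)
      haveI := hPn
      have : Fact (Nat.Prime 5) := ⟨by norm_num⟩
      haveI : IsCyclic P := isCyclic_of_prime_card hP
      set D := Subgroup.centralizer (P : Set G) with hD
      haveI hDn : D.Normal := by rw [hD]; infer_instance
      let f : G →* MulAut P := MulAut.conjNormal
      have hfk : f.ker = D := by
        ext g
        rw [MonoidHom.mem_ker, hD, mem_centralizer_iff]
        constructor
        · intro hg y hy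
          have h1 : g * y * g⁻¹ = y :=
            congrArg (fun q : P => (q : G)) (DFunLike.congr_fun hg (⟨y, hy⟩ : P))
          calc y * g = g * y * g⁻¹ * g := by rw [h1]
            _ = g * y := by group
        · intro hg
          refine MulEquiv.ext fun y => Subtype.ext ?_
          show g * (y : G) * g⁻¹ = y
          rw [← hg y y.2, mul_inv_cancel_right]
      have hd4 : D.index ∣ 4 := by
        rw [← hfk, index_ker]
        refine (card_subgroup_dvd_card f.range).trans (dvd_of_eq ?_)
        rw [IsCyclic.card_mulAut, hP]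
        rfl
      have hxD : x ∉ D := by
        intro hxD
        have hle : P ≤ C := fun y hy => (hmC y).mpr (mem_centralizer_iff.mp hxD y hy)
        have := card_dvd_of_le hle
        rw [hP, hC4] at this
        norm_num at this
      have hDi : D.index ≠ 1 := fun e => hxD (index_eq_one.mp e ▸ mem_top x)
      have hDc := D.card_mul_index
      rw [h60] at hDc
      have hdle : D.index ≤ 4 := Nat.le_of_dvd (by norm_num) hd4
      rcases (show D.index = 2 ∨ D.index = 4 by
        generalize D.index = d at hd4 hDi hdle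
        interval_cases d <;> omega) with e | e
      · have hD30 : Nat.card D = 30 := by rw [e] at hDc; omega
        obtain ⟨T⟩ := (inferInstance : Nonempty (Sylow 2 D))
        have hT : Nat.card (T : Subgroup D) = 2 := by
          rw [T.card_eq_multiplicity, hD30]
          have : (30 : ℕ).factorization 2 = 1 := by
            rw [show (30 : ℕ) = 2 * 15 by norm_num, Nat.factorization_mul (by norm_num) (by norm_num),
              Nat.prime_two.factorization]
            simp [Nat.factorization_eq_zero_of_not_dvd]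
          rw [this, pow_one]
        have hcyc : IsCyclic (T : Subgroup D) := isCyclic_of_prime_card hT
        have hcomp := HSub.hasNormalPComplement_of_cyclic T (fun q hq _ => hq.two_le) hcyc
        set R := (Cfsg.pResidual 2 D).map D.subtype with hR
        have hRn : R.Normal := by
          rw [hR]
          haveI : (Cfsg.pResidual 2 D).Characteristic := Fusion.pResidual_characteristic
          infer_instance
        have hRcop : (Nat.card R).Coprime 2 := by
          rw [hR, card_map_of_injective D.subtype_injective]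
          exact Fusion.coprime_card_pResidual_of_hasNormalPComplement hcomp
        obtain ⟨j, hj⟩ := Fusion.index_pResidual_eq_pow (G := D) (p := 2)
        refine hnc (Fusion.hasNormalPComplement_iff_exists.mpr ⟨R, hRn, hRcop, j + 1, ?_⟩)
        rw [hR, index_map_subtype, hj, e, pow_succ]
      · refine hnc (Fusion.hasNormalPComplement_iff_exists.mpr ⟨D, hDn, ?_, 2, e⟩)
        rw [e] at hDc
        rw [show Nat.card D = 15 by omega]
        norm_num
  -- a larger Sylow subgroup
  exfalso
  set C' := Subgroup.centralizer ({(⟨x, hCS hxC⟩ : (S : Subgroup G))} : Set (S : Subgroup G))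
    with hC'def
  have hC'map : C'.map (S : Subgroup G).subtype = C := by
    ext c
    constructor
    · rintro ⟨c', hc', rfl⟩
      exact (hmC _).mpr (congrArg Subtype.val (mem_centralizer_singleton_iff.mp hc'))
    · intro hc
      exact ⟨⟨c, hCS hc⟩, mem_centralizer_singleton_iff.mpr (Subtype.ext ((hmC c).mp hc)), rfl⟩
  have hC'4 : Nat.card C' = 4 := by
    rw [← card_map_of_injective (S : Subgroup G).subtype_injective, hC'map, hC4]
  obtain ⟨m, a, b, u, hm, hScard, ha, hai, -, -, -⟩ :=
    ((MaxClass.mc_of_centralizer S.2 _ hC'4).resolve_left hS4).data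
  set M := (zpowers a).map (S : Subgroup G).subtype with hMdef
  have hMS : M ≤ (S : Subgroup G) := map_subtype_le _
  have hMi : M.relIndex (S : Subgroup G) = 2 := by
    rw [relIndex, subgroupOf, hMdef, comap_map_eq_self_of_injective (Subgroup.subtype_injective _),
      hai]
  obtain ⟨N, hNn, hN2, hxN⟩ := TwoTransfer.exists_index_two S M hMi x (hCS hxC)
    (fun j g hj _ => by
      obtain ⟨i, rfl⟩ : ∃ i, j = i + 1 := ⟨j - 1, by omega⟩
      have : x ^ 2 ^ (i + 1) = 1 := by
        rw [pow_succ', pow_mul, pow_two, hx2, one_pow]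
      rw [this, mul_one, inv_mul_cancel]
      exact M.one_mem)
    (fun g _ hgM => by
      obtain ⟨y, hy, hyx⟩ := hgM
      obtain ⟨i, rfl⟩ := hy
      -- the conjugate of `a` centralizes `x`
      have hga : g * (a : G) * g⁻¹ ∈ C := by
        refine (hmC _).mpr ?_
        have h1 : (a : G) * (g⁻¹ * x * g) = (g⁻¹ * x * g) * a := by
          rw [← hyx]
          exact congrArg Subtype.val (Commute.self_zpow a i).eq
        calc g * (a : G) * g⁻¹ * x = g * ((a : G) * (g⁻¹ * x * g)) * g⁻¹ := by group
          _ = g * ((g⁻¹ * x * g) * a) * g⁻¹ := by rw [h1]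
          _ = x * (g * (a : G) * g⁻¹) := by group
      have h2 := hCe _ hga
      rw [conj_pow, conj_eq_one_iff] at h2
      have h3 : a ^ 2 = 1 := Subtype.ext h2
      have h4 := Nat.le_of_dvd (by norm_num) (orderOf_dvd_of_pow_eq_one h3)
      rw [ha] at h4
      have : 2 ^ 2 ≤ 2 ^ m := Nat.pow_le_pow_right (by norm_num) hm
      omega)
  haveI := hNn
  have hmul : ∀ a b : G, (a * b ∈ N ↔ (a ∈ N ↔ b ∈ N)) := fun a b =>
    mul_mem_iff_of_index_two hN2
  obtain ⟨z, hzC, hz1, hzN⟩ : ∃ z ∈ C, z ≠ 1 ∧ z ∈ N := by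
    obtain ⟨c, hcC, hc1, hcx⟩ : ∃ c ∈ C, c ≠ 1 ∧ c ≠ x := by
      by_contra h
      push Not at h
      have hsub : (C : Set G) ⊆ {1, x} := fun c hc => by
        by_cases h1 : c = 1
        · exact Or.inl h1
        · exact Or.inr (h c hc h1)
      have h1 := Set.ncard_le_ncard hsub (Set.toFinite _)
      have h2 := Set.ncard_insert_le (1 : G) {x}
      rw [Set.ncard_singleton] at h2
      have h3 : Nat.card C = (C : Set G).ncard := Nat.card_coe_set_eq _
      omega
    by_cases hcN : c ∈ N
    · exact ⟨c, hcC, hc1, hcN⟩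
    · refine ⟨x * c, C.mul_mem hxC hcC, fun h => hcx ?_, (hmul x c).mpr (iff_of_false hxN hcN)⟩
      rw [eq_inv_of_mul_eq_one_right h, inv_eq_of_mul_eq_one_left hx2]
  have hzx : z * x = x * z := (hmC z).mp hzC
  have hxzN : x * z ∉ N := fun h => hxN (((hmul x z).mp h).mpr hzN)
  have hzx' : z ≠ x := fun h => hxN (h ▸ hzN)
  have hz2 : z * z = 1 := by rw [← pow_two]; exact hCe z hzC
  have hC' : ∀ c, c * x = x * c → c = 1 ∨ c = x ∨ c = z ∨ c = x * z := by
    intro c hc
    by_contra hne'
    push Not at hne'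
    obtain ⟨h1, h2, h3, h4⟩ := hne'
    letI : Fintype (C : Set G) := Fintype.ofFinite _
    have hsub : ({c, 1, x, z, x * z} : Finset G) ⊆ (C : Set G).toFinset := by
      intro d hd
      simp only [Finset.mem_insert, Finset.mem_singleton] at hd
      rw [Set.mem_toFinset]
      rcases hd with rfl | rfl | rfl | rfl | rfl
      · exact (hmC _).mpr hc
      · exact C.one_mem
      · exact hxC
      · exact hzC
      · exact C.mul_mem hxC hzC
    have h5 : ({c, 1, x, z, x * z} : Finset G).card = 5 := by
      have e1 : (1 : G) ≠ x * z := fun h => hzx' (by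
        rw [eq_inv_of_mul_eq_one_right h.symm, inv_eq_of_mul_eq_one_left hx2])
      have e2 : x ≠ x * z := fun h => hz1 (mul_eq_left.mp h.symm)
      have e3 : z ≠ x * z := fun h => hx1 (mul_eq_right.mp h.symm)
      simp [h1, h2, h3, h4, hx1.symm, hz1.symm, hzx'.symm, e1, e2, e3]
    have h6 := Finset.card_le_card hsub
    rw [h5, ← Set.ncard_eq_toFinset_card', ← Nat.card_coe_set_eq] at h6
    have h7 : Nat.card C = 4 := hC4
    change 5 ≤ Nat.card C at h6
    omega
  -- an element of `S` moving `x` to `x * z`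
  obtain ⟨s, hsC, hsn⟩ : ∃ s : (S : Subgroup G), s ∉ C' ∧
      s ∈ Subgroup.normalizer (C' : Set (S : Subgroup G)) := by
    haveI := S.2.isNilpotent
    have hlt : C' < ⊤ := lt_top_iff_ne_top.mpr fun e => hS4 (by rw [← hC'4, e, card_top])
    exact (SetLike.exists_of_lt (Group.normalizerCondition_of_isNilpotent C' hlt)).imp
      fun s h => ⟨h.2, h.1⟩
  have hs1 : ∀ c ∈ C, (s : G) * c * (s : G)⁻¹ ∈ C := by
    intro c hc
    rw [← hC'map] at hc ⊢
    obtain ⟨c', hc', rfl⟩ := hc
    exact ⟨s * c' * s⁻¹, (mem_normalizer_iff.mp hsn c').mp hc', rfl⟩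
  have hsx : (s : G) * x * (s : G)⁻¹ = x * z := by
    have hN' : (s : G) * x * (s : G)⁻¹ ∉ N := fun h => hxN (by
      have := hNn.conj_mem _ h (s : G)⁻¹
      rwa [show (s : G)⁻¹ * ((s : G) * x * (s : G)⁻¹) * ((s : G)⁻¹)⁻¹ = x by group] at this)
    rcases hC' _ ((hmC _).mp (hs1 x hxC)) with e | e | e | e
    · exact absurd (e ▸ N.one_mem) hN'
    · refine absurd (mem_centralizer_singleton_iff.mpr (Subtype.ext ?_)) hsC
      show (s : G) * x = x * s
      rw [← mul_inv_eq_iff_eq_mul]; exact e
    · exact absurd (e ▸ hzN) hN'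
    · exact e
  have hCC : ∀ c, c * (x * z) = (x * z) * c → c * x = x * c := by
    intro c hc
    rw [← hsx] at hc
    have h1 : (s : G)⁻¹ * c * s ∈ C := (hmC _).mpr (by
      calc (s : G)⁻¹ * c * s * x = (s : G)⁻¹ * (c * ((s : G) * x * (s : G)⁻¹)) * s := by group
        _ = (s : G)⁻¹ * ((s : G) * x * (s : G)⁻¹ * c) * s := by rw [hc]
        _ = x * ((s : G)⁻¹ * c * s) := by group)
    have h2 := hs1 _ h1
    rw [show (s : G) * ((s : G)⁻¹ * c * s) * (s : G)⁻¹ = c by group] at h2
    exact (hmC c).mp h2
  obtain ⟨E, hEn, hEe, hEc⟩ := exists_normal_elementary hx2 N hN2 hxN z hzN hz1 hC' hCC hzx hz2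
  rcases hEc with e | e
  · exact (hne E hEn hEe).1 e
  · exact (hne E hEn hEe).2 e

end Cfsg.Agent.S3277
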