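import Cfsg.Statements.S3377

set_option autoImplicit false
open Cfsg

namespace Cfsg.Agent.S3377

private lemma comp {G : Type*} [Group G] {H : Subgroup G} {r s t p q : G} (h1 : r * p * s⁻¹ ∈ H) (h2 : s * q * t⁻¹ ∈ H) :
    r * (p * q) * t⁻¹ ∈ H := by
  have := H.mul_mem h1 h2
  simpa [mul_assoc] using this

private lemma ded {G : Type*} [Group G] {H : Subgroup G} {i a b g : G} (pu pv : G) (hu : i * pu * a⁻¹ ∈ H) (hv : b * pv * i⁻¹ ∈ H)
    (rel : pu * g * pv = 1) : a * g * b⁻¹ ∈ H := by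
  have hg : g = pu⁻¹ * pv⁻¹ := by
    rw [eq_inv_mul_iff_mul_eq, eq_inv_iff_mul_eq_one]; exact rel
  have := H.mul_mem (H.inv_mem hu) (H.inv_mem hv)
  rw [hg]
  simpa [mul_assoc] using this

private lemma table {G : Type*} [Group G] {x y : G} (hx : x ^ 3 = 1) (hy : y ^ 5 = 1) (hxy : (x * y) ^ 2 = 1) :
    ∃ r : Fin 12 → G, r 0 = 1 ∧ (∀ i, ∃ j, r i * x * (r j)⁻¹ ∈ Subgroup.zpowers y) ∧
      ∀ i, ∃ j, r i * y * (r j)⁻¹ ∈ Subgroup.zpowers y := by
  let H := Subgroup.zpowers y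
  let r0 : G := 1
  let r1 : G := x
  let r2 : G := x * x
  let r3 : G := x * x * y
  let r4 : G := x * x * y * x
  let r5 : G := x * x * y * y
  let r6 : G := x * x * y * x * x
  let r7 : G := x * x * y * y * x
  let r8 : G := x * x * y * x * x * y
  let r9 : G := x * x * y * x * x * y * y
  let r10 : G := x * x * y * x * x * y * y * x
  let r11 : G := x * x * y * x * x * y * y * x * x
  have e0x : r0 * x * r1⁻¹ ∈ H := by simp [r0, r1]
  have e1x : r1 * x * r2⁻¹ ∈ H := by simp [r1, r2]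
  have e2y : r2 * y * r3⁻¹ ∈ H := by simp [r2, r3]
  have e3x : r3 * x * r4⁻¹ ∈ H := by simp [r3, r4]
  have e3y : r3 * y * r5⁻¹ ∈ H := by simp [r3, r5]
  have e4x : r4 * x * r6⁻¹ ∈ H := by simp [r4, r6]
  have e5x : r5 * x * r7⁻¹ ∈ H := by simp [r5, r7]
  have e6y : r6 * y * r8⁻¹ ∈ H := by simp [r6, r8]
  have e8y : r8 * y * r9⁻¹ ∈ H := by simp [r8, r9]
  have e9x : r9 * x * r10⁻¹ ∈ H := by simp [r9, r10]
  have e10x : r10 * x * r11⁻¹ ∈ H := by simp [r10, r11]
  have e0y : r0 * y * r0⁻¹ ∈ H := by simp [r0, H]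
  have e2x : r2 * x * r0⁻¹ ∈ H := ded (x * x) (1) (i := r0) (comp e0x e1x) (by simp)
    (by simpa [pow_succ, mul_assoc] using hx)
  have e6x : r6 * x * r3⁻¹ ∈ H := ded (x * x) (1) (i := r3) (comp e3x e4x) (by simp)
    (by simpa [pow_succ, mul_assoc] using hx)
  have e11x : r11 * x * r9⁻¹ ∈ H := ded (x * x) (1) (i := r9) (comp e9x e10x) (by simp)
    (by simpa [pow_succ, mul_assoc] using hx)
  have e1y : r1 * y * r2⁻¹ ∈ H := ded (x) (x * y) (i := r0) e0x (comp e2x e0y)
    (by simpa [pow_succ, mul_assoc] using hxy)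
  have e4y : r4 * y * r1⁻¹ ∈ H := ded (x * y * x) (1) (i := r1) (comp (comp e1x e2y) e3x) (by simp)
    (by simpa [pow_succ, mul_assoc] using hxy)
  have e7y : r7 * y * r6⁻¹ ∈ H := ded (x) (x * y) (i := r5) e5x (comp e6x e3y)
    (by simpa [pow_succ, mul_assoc] using hxy)
  have e5y : r5 * y * r4⁻¹ ∈ H := ded (y * y * y) (y) (i := r1) (comp (comp e1y e2y) e3y) e4y
    (by simpa [pow_succ, mul_assoc] using hy)
  have e8x : r8 * x * r5⁻¹ ∈ H := ded (x * y) (y) (i := r4) (comp e4x e6y) e5y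
    (by simpa [pow_succ, mul_assoc] using hxy)
  have e7x : r7 * x * r8⁻¹ ∈ H := ded (x) (x) (i := r5) e5x e8x
    (by simpa [pow_succ, mul_assoc] using hx)
  have e10y : r10 * y * r7⁻¹ ∈ H := ded (x * y * x) (1) (i := r7) (comp (comp e7x e8y) e9x) (by simp)
    (by simpa [pow_succ, mul_assoc] using hxy)
  have e9y : r9 * y * r10⁻¹ ∈ H := ded (y * y) (y * y) (i := r6) (comp e6y e8y) (comp e10y e7y)
    (by simpa [pow_succ, mul_assoc] using hy)
  have e11y : r11 * y * r11⁻¹ ∈ H := ded (x) (x * y) (i := r10) e10x (comp e11x e9y)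
    (by simpa [pow_succ, mul_assoc] using hxy)
  refine ⟨![r0, r1, r2, r3, r4, r5, r6, r7, r8, r9, r10, r11], rfl, fun i => ?_, fun i => ?_⟩
  · fin_cases i
    · exact ⟨1, e0x⟩
    · exact ⟨2, e1x⟩
    · exact ⟨0, e2x⟩
    · exact ⟨4, e3x⟩
    · exact ⟨6, e4x⟩
    · exact ⟨7, e5x⟩
    · exact ⟨3, e6x⟩
    · exact ⟨8, e7x⟩
    · exact ⟨5, e8x⟩
    · exact ⟨10, e9x⟩
    · exact ⟨11, e10x⟩
    · exact ⟨9, e11x⟩
  · fin_cases i
    · exact ⟨0, e0y⟩
    · exact ⟨2, e1y⟩
    · exact ⟨3, e2y⟩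
    · exact ⟨5, e3y⟩
    · exact ⟨1, e4y⟩
    · exact ⟨4, e5y⟩
    · exact ⟨8, e6y⟩
    · exact ⟨6, e7y⟩
    · exact ⟨9, e8y⟩
    · exact ⟨10, e9y⟩
    · exact ⟨7, e10y⟩
    · exact ⟨11, e11y⟩

private def a5x : alternatingGroup (Fin 5) :=
  ⟨⟨![1, 2, 0, 3, 4], ![2, 0, 1, 3, 4], by decide, by decide⟩, by rw [Equiv.Perm.mem_alternatingGroup]; decide⟩

private def a5y : alternatingGroup (Fin 5) :=
  ⟨⟨![2, 3, 4, 0, 1], ![3, 4, 0, 1, 2], by decide, by decide⟩, by rw [Equiv.Perm.mem_alternatingGroup]; decide⟩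

private lemma a5_gen (K : Subgroup (alternatingGroup (Fin 5))) (hx : a5x ∈ K) (hy : a5y ∈ K) : K = ⊤ := by
  have hxy : a5x * a5y ∈ K := K.mul_mem hx hy
  have o3 : orderOf a5x = 3 := orderOf_eq_prime (by decide) (by decide)
  have o5 : orderOf a5y = 5 := by
    haveI : Fact (Nat.Prime 5) := ⟨by norm_num⟩
    exact orderOf_eq_prime (by decide) (by decide)
  have o2 : orderOf (a5x * a5y) = 2 := orderOf_eq_prime (by decide) (by decide)
  have d3 := Subgroup.orderOf_dvd_natCard K hx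
  have d5 := Subgroup.orderOf_dvd_natCard K hy
  have d2 := Subgroup.orderOf_dvd_natCard K hxy
  rw [o3] at d3; rw [o5] at d5; rw [o2] at d2
  have d6 : 6 ∣ Nat.card K := Nat.Coprime.mul_dvd_of_dvd_of_dvd (m := 2) (n := 3) (by norm_num) d2 d3
  have d30 : 30 ∣ Nat.card K := Nat.Coprime.mul_dvd_of_dvd_of_dvd (m := 6) (n := 5) (by norm_num) d6 d5
  have hA : Nat.card (alternatingGroup (Fin 5)) = 60 := by
    rw [nat_card_alternatingGroup, Nat.card_fin]; rfl
  have hmul := K.index_mul_card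
  rw [hA] at hmul
  obtain ⟨c, hc⟩ := d30
  rw [hc] at hmul
  have hi2 : K.index = 1 ∨ K.index = 2 := by
    have h2 : K.index * c = 2 := by linarith
    exact (Nat.dvd_prime Nat.prime_two).mp ⟨c, h2.symm⟩
  rcases hi2 with h | h
  · exact Subgroup.index_eq_one.mp h
  · haveI := Subgroup.normal_of_index_eq_two h
    rcases IsSimpleGroup.eq_bot_or_eq_top_of_normal K inferInstance with h' | h'
    · rw [h', Subgroup.index_bot, hA] at h; norm_num at h
    · exact h'


/-- The alternating group of degree 5 has the presentation ⟨x, y | x³ = 1, y⁵ = 1, (xy)² = 1⟩: the group so presented is isomorphic to Alt(5). -/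
theorem result :
    Nonempty (PresentedGroup ({FreeGroup.of (0 : Fin 2) ^ 3, FreeGroup.of (1 : Fin 2) ^ 5,
        (FreeGroup.of (0 : Fin 2) * FreeGroup.of 1) ^ 2} : Set (FreeGroup (Fin 2))) ≃* alternatingGroup (Fin 5)) := by
  set R : Set (FreeGroup (Fin 2)) := {FreeGroup.of (0 : Fin 2) ^ 3, FreeGroup.of (1 : Fin 2) ^ 5,
        (FreeGroup.of (0 : Fin 2) * FreeGroup.of 1) ^ 2} with hR
  set x : PresentedGroup R := PresentedGroup.of 0 with hx'
  set y : PresentedGroup R := PresentedGroup.of 1 with hy'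
  have hx : x ^ 3 = 1 := by
    have := PresentedGroup.one_of_mem (rels := R) (x := FreeGroup.of 0 ^ 3) (by simp [R])
    simpa [x, PresentedGroup.of] using this
  have hy : y ^ 5 = 1 := by
    have := PresentedGroup.one_of_mem (rels := R) (x := FreeGroup.of 1 ^ 5) (by simp [R])
    simpa [y, PresentedGroup.of] using this
  have hxy : (x * y) ^ 2 = 1 := by
    have := PresentedGroup.one_of_mem (rels := R) (x := (FreeGroup.of 0 * FreeGroup.of 1) ^ 2) (by simp [R])
    simpa [x, y, PresentedGroup.of] using this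
  obtain ⟨r, hr0, htx, hty⟩ := table hx hy hxy
  let ι : Fin 5 × Fin 12 → PresentedGroup R := fun ki => y ^ (ki.1 : ℕ) * r ki.2
  have hH : ∀ h ∈ Subgroup.zpowers y, ∃ k : Fin 5, h = y ^ (k : ℕ) := by
    rintro h ⟨n, rfl⟩
    refine ⟨⟨(n % 5).toNat, by omega⟩, ?_⟩
    have h5 : y ^ n = y ^ (n % 5) := by
      conv_lhs => rw [← Int.mul_ediv_add_emod n 5, zpow_add, zpow_mul]
      simp [zpow_ofNat, hy]
    show y ^ n = y ^ (n % 5).toNat
    rw [h5, ← zpow_natCast, Int.toNat_of_nonneg (by omega)]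
  have hstep : ∀ g ∈ Set.range ι, ∀ z, (∀ i, ∃ j, r i * z * (r j)⁻¹ ∈ Subgroup.zpowers y) →
      g * z ∈ Set.range ι := by
    rintro _ ⟨⟨k, i⟩, rfl⟩ z hz
    obtain ⟨j, hj⟩ := hz i
    have hj' := (Subgroup.zpowers y).mul_mem ((Subgroup.zpowers y).pow_mem (Subgroup.mem_zpowers y) (k : ℕ)) hj
    obtain ⟨m, hm⟩ := hH _ hj'
    refine ⟨(m, j), ?_⟩
    simp only [ι]
    rw [← hm]; group
  have hrange : ∀ g, g ∈ Set.range ι := by
    intro g
    have hg : g ∈ Subgroup.closure (Set.range (PresentedGroup.of (rels := R))) := by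
      rw [PresentedGroup.closure_range_of]; trivial
    induction hg using Subgroup.closure_induction_right with
    | one => exact ⟨(0, 0), by simp [ι, hr0]⟩
    | mul_right u hu z hz ih =>
      obtain ⟨i, rfl⟩ := hz
      fin_cases i
      · exact hstep u ih x htx
      · exact hstep u ih y hty
    | mul_inv_cancel u hu z hz ih =>
      obtain ⟨i, rfl⟩ := hz
      fin_cases i
      · show u * x⁻¹ ∈ _
        have e : x⁻¹ = x * x := by
          rw [inv_eq_iff_mul_eq_one, ← hx]; simp [pow_succ, mul_assoc]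
        rw [e, ← mul_assoc]
        exact hstep _ (hstep u ih x htx) x htx
      · show u * y⁻¹ ∈ _
        have e : y⁻¹ = y * y * y * y := by
          rw [inv_eq_iff_mul_eq_one, ← hy]; simp [pow_succ, mul_assoc]
        rw [e, ← mul_assoc, ← mul_assoc, ← mul_assoc]
        exact hstep _ (hstep _ (hstep _ (hstep u ih y hty) y hty) y hty) y hty
  have hsurj : Function.Surjective ι := fun g => hrange g
  haveI : Finite (PresentedGroup R) := Finite.of_surjective ι hsurj
  have hle : Nat.card (PresentedGroup R) ≤ 60 := by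
    have := Nat.card_le_card_of_surjective ι hsurj
    simpa using this
  have hrel : ∀ w ∈ R, FreeGroup.lift (![a5x, a5y]) w = 1 := by
    intro w hw
    simp only [R, Set.mem_insert_iff, Set.mem_singleton_iff] at hw
    rcases hw with rfl | rfl | rfl
    · simp only [map_pow, FreeGroup.lift_apply_of]; decide
    · simp only [map_pow, FreeGroup.lift_apply_of]; decide
    · simp only [map_pow, map_mul, FreeGroup.lift_apply_of]; decide
  let f := PresentedGroup.toGroup hrel
  have hfs : Function.Surjective f := by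
    rw [← MonoidHom.range_eq_top]
    refine a5_gen _ ⟨x, ?_⟩ ⟨y, ?_⟩
    · exact PresentedGroup.toGroup.of (h := hrel) (x := 0)
    · exact PresentedGroup.toGroup.of (h := hrel) (x := 1)
  have hA : Nat.card (alternatingGroup (Fin 5)) = 60 := by
    rw [nat_card_alternatingGroup, Nat.card_fin]; rfl
  have hge := Nat.card_le_card_of_surjective f hfs
  rw [hA] at hge
  have hcard : Nat.card (PresentedGroup R) = Nat.card (alternatingGroup (Fin 5)) := by omega
  exact ⟨MulEquiv.ofBijective f ((Nat.bijective_iff_surjective_and_card f).mpr ⟨hfs, hcard⟩)⟩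

end Cfsg.Agent.S3377
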