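import Cfsg.Statements.S3050
import Cfsg.Agent.LocalStructure.SL2FPFThreeGroup

set_option autoImplicit false
open Cfsg

set_option linter.all false

namespace Cfsg.Agent.S3050

/-- Let G be a finite group with a normal 2-subgroup Q such that G/Q is isomorphic to SL(2, 2ⁿ) with n ≥ 2, and suppose some element of G of order 3 fixes no nonidentity element of Q under conjugation. Then Q is elementary abelian and is the direct product of normal subgroups of G on each of which G acts as SL(2, 2ⁿ) acts on its natural two-dimensional module (a Galois twist of the natural action allowed). -/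
theorem result {G : Type*} [Group G] [Finite G]
    (Q : Subgroup G) [Q.Normal] (hQ : IsPGroup 2 ↥Q) (n : ℕ) (hn : 2 ≤ n)
    (K : Type*) [Field K] [Fintype K] (hK : Fintype.card K = 2 ^ n)
    (e : G ⧸ Q ≃* Matrix.SpecialLinearGroup (Fin 2) K)
    (x : G) (hx : orderOf x = 3) (hfpf : ∀ q ∈ Q, x * q * x⁻¹ = q → q = 1) :
    Cfsg.IsElementaryAbelian 2 Q ∧
      ∃ (k : ℕ) (V : Fin k → Subgroup G), (∀ i, V i ≤ Q ∧ (V i).Normal ∧
        Cfsg.ActsAsSL2OnSection K ⊤ ⊤ (V i) ⊥) ∧ iSupIndep V ∧ ⨆ i, V i = Q := by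
  classical
  haveI : Fact (Nat.Prime 2) := ⟨Nat.prime_two⟩
  haveI : CharP K 2 := by
    obtain ⟨m, hr, hm⟩ := FiniteField.card K (ringChar K)
    rw [hK] at hm
    have h1 : 2 ∣ ringChar K ^ (m : ℕ) := hm ▸ dvd_pow_self 2 (by omega)
    exact (Nat.prime_dvd_prime_iff_eq Nat.prime_two hr).1 (Nat.prime_two.dvd_of_dvd_pow h1) ▸ ringChar.charP K
  have hK4 : 4 ≤ Fintype.card K := hK ▸ (show 2 ^ 2 ≤ 2 ^ n from Nat.pow_le_pow_right (by norm_num) hn)
  have hxQ : x ∉ Q := fun h => by
    obtain ⟨j, hj⟩ := IsPGroup.iff_orderOf.1 hQ ⟨x, h⟩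
    rw [← Subgroup.orderOf_coe, hx] at hj
    have : 3 ∣ 2 ^ j := hj ▸ dvd_refl 3
    exact absurd (Nat.le_of_dvd (by norm_num) ((Nat.prime_three).dvd_of_dvd_pow this)) (by norm_num)
  have hx3 : x ^ 3 ∈ Q := by rw [← hx, pow_orderOf_eq_one]; exact one_mem Q
  obtain ⟨hcomm, hsq⟩ := LocalStructure.SL2FPFThreeGroup.elementary_aux hK4 (Nat.card G) Q e x hQ hxQ hx3 hfpf rfl
  obtain ⟨k, c, hcb, hcm, hcc⟩ := LocalStructure.SL2FPFThreeGroup.exists_coords Q e Q hxQ hx3 hcomm hcomm hsq hfpf
  refine ⟨⟨IsMulCommutative.of_comm fun a b => Subtype.ext (hcomm a a.2 b b.2),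
    fun a ha => by rw [pow_two]; exact hsq a ha⟩, k, ?_⟩
  let E : Q ≃* Multiplicative (Fin k → Fin 2 → K) :=
    MulEquiv.ofBijective (MonoidHom.mk' (fun q => Multiplicative.ofAdd (c q)) fun a b => by rw [hcm]; rfl)
      (Multiplicative.ofAdd.bijective.comp hcb)
  let ι : Fin k → Multiplicative (Fin 2 → K) →* G := fun i => Q.subtype.comp
    (E.symm.toMonoidHom.comp (AddMonoidHom.single (fun _ : Fin k => (Fin 2 → K)) i).toMultiplicative)
  have hVQ : ∀ i, (ι i).range ≤ Q := fun i => by
    rintro _ ⟨ξ, rfl⟩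
    exact (E.symm _).2
  have hmem : ∀ (i : Fin k) (q : Q), (q : G) ∈ (ι i).range ↔ ∀ j, j ≠ i → c q j = 0 := fun i q => by
    constructor
    · rintro ⟨ξ, hξ⟩ j hj
      have h1 : E.symm (Multiplicative.ofAdd (Pi.single i (Multiplicative.toAdd ξ))) = q := Subtype.ext hξ
      have h2 : c q = Pi.single i (Multiplicative.toAdd ξ) := by
        rw [← h1]; exact congrArg Multiplicative.toAdd (E.apply_symm_apply _)
      rw [h2, Pi.single_eq_of_ne hj]
    · intro h
      refine ⟨Multiplicative.ofAdd (c q i), ?_⟩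
      show ((E.symm (Multiplicative.ofAdd (Pi.single i (c q i))) : Q) : G) = (q : G)
      refine congrArg Subtype.val ((MulEquiv.symm_apply_eq E).2 ?_)
      show _ = Multiplicative.ofAdd (c q)
      refine congrArg _ (funext fun j => ?_)
      by_cases hj : j = i
      · subst hj; rw [Pi.single_eq_same]
      · rw [Pi.single_eq_of_ne hj, h j hj]
  have hconj : ∀ (i : Fin k) (g u : G), u ∈ (ι i).range → g * u * g⁻¹ ∈ (ι i).range := fun i g u hu => by
    refine (hmem i ⟨_, Subgroup.Normal.conj_mem inferInstance u (hVQ i hu) g⟩).2 fun j hj => ?_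
    rw [hcc g ⟨u, hVQ i hu⟩ j, (hmem i ⟨u, hVQ i hu⟩).1 hu j hj, Matrix.mulVec_zero]
  refine ⟨fun i => (ι i).range, fun i => ⟨hVQ i, ⟨fun u hu g => hconj i g u hu⟩, ?_⟩, ?_, ?_⟩
  · refine ⟨fun g _ => Subgroup.mem_normalizer_iff.2 fun u => ⟨hconj i g u, fun h => ?_⟩, bot_le,
      (e.toMonoidHom.comp (QuotientGroup.mk' Q)).comp (⊤ : Subgroup G).subtype,
      MonoidHom.mk' (fun u : (ι i).range => Multiplicative.ofAdd (c ⟨(u : G), hVQ i u.2⟩ i)) (fun u w => ?_),
      ?_, ?_, ?_, ?_⟩
    · simpa [mul_assoc] using hconj i g⁻¹ _ h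
    · rw [← ofAdd_add, ← Pi.add_apply, ← hcm]; rfl
    · refine MonoidHom.range_eq_top.2 fun y => ?_
      obtain ⟨g, hg⟩ := (e.surjective.comp (QuotientGroup.mk'_surjective Q)) y
      exact ⟨⟨g, trivial⟩, hg⟩
    · intro w
      refine ⟨⟨ι i w, w, rfl⟩, ?_⟩
      show Multiplicative.ofAdd (c (E.symm (Multiplicative.ofAdd (Pi.single i (Multiplicative.toAdd w)))) i) = w
      have h1 : c (E.symm (Multiplicative.ofAdd (Pi.single i (Multiplicative.toAdd w)))) = Pi.single i (Multiplicative.toAdd w) :=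
        congrArg Multiplicative.toAdd (E.apply_symm_apply _)
      rw [h1, Pi.single_eq_same]; rfl
    · intro u
      constructor
      · intro h
        have h1 : c ⟨(u : G), hVQ i u.2⟩ = c 1 := funext fun j => by
          have hc1 : c 1 = 0 := by have := hcm 1 1; rw [one_mul] at this; exact left_eq_add.1 this
          rw [hc1]
          by_cases hj : j = i
          · subst hj; exact congrArg Multiplicative.toAdd h
          · exact (hmem i ⟨_, hVQ i u.2⟩).1 u.2 j hj
        exact Subgroup.mem_bot.2 (congrArg Subtype.val (hcb.1 h1))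
      · intro h
        have h1 : u = 1 := Subtype.ext (Subgroup.mem_bot.1 h)
        rw [h1]; exact map_one _
    · intro g u
      refine ⟨⟨(g : G) * (u : G) * (g : G)⁻¹, hconj i g u u.2⟩, rfl, ?_⟩
      exact hcc g ⟨u, hVQ i u.2⟩ i
  · intro i
    rw [disjoint_iff_inf_le]
    intro u hu
    let R : Subgroup Q :=
      { carrier := {q | c q i = 0}
        mul_mem' := fun {a b} ha hb => by
          show c (a * b) i = 0
          rw [hcm, Pi.add_apply, ha, hb, add_zero]
        one_mem' := by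
          show c 1 i = 0
          have := hcm 1 1; rw [one_mul] at this; rw [left_eq_add.1 this]; rfl
        inv_mem' := fun {a} ha => by
          show c a⁻¹ i = 0
          have := hcm a⁻¹ a; rw [inv_mul_cancel] at this
          have h1 := hcm 1 1; rw [one_mul] at h1; rw [left_eq_add.1 h1] at this
          have h2 := congrFun this i
          rw [Pi.add_apply, ha, add_zero] at h2
          exact h2.symm }
    have hle : (⨆ (j : Fin k) (_ : j ≠ i), (ι j).range) ≤ R.map Q.subtype := by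
      refine iSup₂_le fun j hj => ?_
      intro w hw
      exact ⟨⟨w, hVQ j hw⟩, (hmem j ⟨w, hVQ j hw⟩).1 hw i (Ne.symm hj), rfl⟩
    obtain ⟨q, hq, hqu⟩ : u ∈ R.map Q.subtype := hle hu.2
    have hu1 : (q : G) ∈ (ι i).range := by rw [show (q : G) = u from hqu]; exact hu.1
    have h1 : c q = c 1 := funext fun j => by
      have hc1 : c 1 = 0 := by have := hcm 1 1; rw [one_mul] at this; exact left_eq_add.1 this
      rw [hc1]
      by_cases hj : j = i
      · subst hj; exact hq
      · exact (hmem i q).1 hu1 j hj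
    rw [← show (q : G) = u from hqu, hcb.1 h1]; exact one_mem _
  · refine le_antisymm (iSup_le hVQ) fun q hq => ?_
    let T : AddSubgroup (Fin k → Fin 2 → K) :=
      { carrier := {v | ((E.symm (Multiplicative.ofAdd v) : Q) : G) ∈ ⨆ i, (ι i).range}
        add_mem' := fun {a b} ha hb => by
          show ((E.symm (Multiplicative.ofAdd (a + b)) : Q) : G) ∈ ⨆ i, (ι i).range
          rw [ofAdd_add, map_mul, Subgroup.coe_mul]
          exact mul_mem ha hb
        zero_mem' := by
          show ((E.symm (Multiplicative.ofAdd 0) : Q) : G) ∈ ⨆ i, (ι i).range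
          rw [ofAdd_zero, map_one, Subgroup.coe_one]
          exact one_mem _
        neg_mem' := fun {a} ha => by
          show ((E.symm (Multiplicative.ofAdd (-a)) : Q) : G) ∈ ⨆ i, (ι i).range
          rw [ofAdd_neg, map_inv, InvMemClass.coe_inv]
          exact inv_mem ha }
    have hT : c ⟨q, hq⟩ ∈ T := by
      rw [← Finset.univ_sum_single (c ⟨q, hq⟩)]
      refine sum_mem fun i _ => ?_
      show ((E.symm (Multiplicative.ofAdd (Pi.single i (c ⟨q, hq⟩ i))) : Q) : G) ∈ ⨆ i, (ι i).range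
      exact Subgroup.mem_iSup_of_mem i ⟨Multiplicative.ofAdd (c ⟨q, hq⟩ i), rfl⟩
    have h1 : E.symm (Multiplicative.ofAdd (c ⟨q, hq⟩)) = ⟨q, hq⟩ := (MulEquiv.symm_apply_eq E).2 rfl
    have h2 : ((E.symm (Multiplicative.ofAdd (c ⟨q, hq⟩)) : Q) : G) ∈ ⨆ i, (ι i).range := hT
    rwa [h1] at h2

end Cfsg.Agent.S3050
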