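import Cfsg.Statements.S4006
import Cfsg.Agent.ThreeInv.Quadratic
import Cfsg.Agent.Core.Fitting
import Cfsg.Agent.Fusion.UniqueInvolution

set_option autoImplicit false
open Cfsg

namespace Cfsg.Agent.S4006

open scoped commutatorElement IsMulCommutative

/-- In an abelian normal subgroup, conjugation operators. -/
def act {M : Type*} [Group M] (A : Subgroup M) [A.Normal] [IsMulCommutative A] :
    M →* AddMonoid.End (Additive A) where
  toFun g :=
    { toFun := fun u => Additive.ofMul ⟨g * (u.toMul : M) * g⁻¹, Subgroup.Normal.conj_mem inferInstance _ u.toMul.2 g⟩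
      map_zero' := Additive.toMul.injective (Subtype.ext (by simp))
      map_add' := fun u v => Additive.toMul.injective (Subtype.ext (by
        simp only [toMul_add, toMul_ofMul, Subgroup.coe_mul]; group)) }
  map_one' := AddMonoidHom.ext fun u => Additive.toMul.injective (Subtype.ext (by
    show (1 : M) * (u.toMul : M) * (1 : M)⁻¹ = (u.toMul : M)
    simp))
  map_mul' g h := AddMonoidHom.ext fun u => Additive.toMul.injective (Subtype.ext (by
    show g * h * (u.toMul : M) * (g * h)⁻¹ = g * (h * (u.toMul : M) * h⁻¹) * g⁻¹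
    group))

theorem act_sub_one {M : Type*} [Group M] (A : Subgroup M) [A.Normal] [IsMulCommutative A] (g : M)
    (u : Additive A) :
    ((((act A g) - 1 : AddMonoid.End (Additive A)) u).toMul : M) = ⁅g, (u.toMul : M)⁆ := by
  show g * (u.toMul : M) * g⁻¹ / (u.toMul : M) = _
  rw [commutatorElement_def, div_eq_mul_inv]

theorem ring_engel {R : Type*} [Ring R] {B C : R} (hB2 : B * B = 0) (hC2 : C * C = 0)
    (hBC2 : (B + C + B * C) * (B + C + B * C) = 0) :
    B * C + C * B = 0 ∧ (1 + B) * (1 + C) * (1 - B) * (1 - C) - 1 = B * C + B * C := by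
  have e0 : B * C + C * B + B * C * B + C * B * C + B * C * B * C = 0 := by
    calc B * C + C * B + B * C * B + C * B * C + B * C * B * C
        = (B + C + B * C) * (B + C + B * C) - B * B - C * C - B * B * C - B * (C * C) := by noncomm_ring
      _ = 0 := by rw [hBC2, hB2, hC2]; simp
  have hBCB : B * C * B = 0 := by
    have h1 : B * C * B + B * C * B * C = 0 := by
      calc B * C * B + B * C * B * C
          = B * (B * C + C * B + B * C * B + C * B * C + B * C * B * C)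
            - B * B * C - B * B * (C * B) - B * B * (C * B * C) := by noncomm_ring
        _ = 0 := by rw [e0, hB2]; simp
    calc B * C * B = (B * C * B + B * C * B * C) * (1 - C) + B * C * B * (C * C) := by noncomm_ring
      _ = 0 := by rw [h1, hC2]; simp
  have hCBC : C * B * C = 0 := by
    have h1 : C * B * C + B * C * B * C = 0 := by
      calc C * B * C + B * C * B * C
          = (B * C + C * B + B * C * B + C * B * C + B * C * B * C) * C
            - B * (C * C) - B * C * B * (C * C) - C * B * (C * C) := by noncomm_ring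
      _ = 0 := by rw [e0, hC2]; simp
    rwa [hBCB, zero_mul, add_zero] at h1
  have hanti' : B * C + C * B = 0 := by
    rw [hBCB, hCBC, zero_mul, add_zero, add_zero, add_zero] at e0
    exact e0
  refine ⟨hanti', ?_⟩
  calc (1 + B) * (1 + C) * (1 - B) * (1 - C) - 1
      = B * C - C * B - B * B + B * B * C - C * C - B * (C * C) + C * B * C - B * C * B
        + B * C * B * C := by noncomm_ring
    _ = B * C - C * B := by rw [hB2, hC2, hBCB, hCBC]; simp
    _ = B * C + B * C := by rw [eq_neg_of_add_eq_zero_right hanti']; abel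

theorem ring_combine {R : Type*} [Ring R] (X Y : R) :
    (X - 1) + (Y - 1) + (X - 1) * (Y - 1) = X * Y - 1 := by noncomm_ring

theorem ring_inverse {R : Type*} [Ring R] {X Y : R} (h1 : Y * X = 1) (h : (X - 1) * (X - 1) = 0) :
    Y = 1 - (X - 1) := by
  refine left_inv_eq_right_inv h1 ?_
  calc X * (1 - (X - 1)) = 1 - (X - 1) * (X - 1) := by noncomm_ring
    _ = 1 := by rw [h, sub_zero]

theorem ring_three {R : Type*} [Ring R] {P Q : R} (hcm : Q * P = P * Q) (hP : 1 + P + P * P = 0)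
    (hQ : 1 + Q + Q * Q = 0) (hPQ : 1 + P * Q + P * Q * (P * Q) = 0)
    (hPPQ : 1 + P * P * Q + P * P * Q * (P * P * Q) = 0) : (1 : R) + 1 + 1 = 0 := by
  have hP3 : P * P * P = 1 := by
    have h0 : P * P * P - 1 = (P - 1) * (1 + P + P * P) := by noncomm_ring
    rw [hP, mul_zero, sub_eq_zero] at h0
    exact h0
  have e1 : (P * Q) * (P * Q) = P * P * (Q * Q) := by
    calc (P * Q) * (P * Q) = P * (Q * P) * Q := by noncomm_ring
      _ = P * (P * Q) * Q := by rw [hcm]
      _ = P * P * (Q * Q) := by noncomm_ring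
  have e2 : (P * P * Q) * (P * P * Q) = P * (Q * Q) := by
    calc (P * P * Q) * (P * P * Q) = P * P * (Q * P) * (P * Q) := by noncomm_ring
      _ = P * P * (P * Q) * (P * Q) := by rw [hcm]
      _ = P * P * P * (Q * P) * Q := by noncomm_ring
      _ = P * (Q * Q) := by rw [hP3, one_mul, hcm, mul_assoc]
  rw [e1] at hPQ
  rw [e2] at hPPQ
  calc (1 : R) + 1 + 1
      = (1 + P + P * P) + (1 + Q + Q * Q) + (1 + P * Q + P * P * (Q * Q)) + (1 + P * P * Q + P * (Q * Q))
        - (1 + P + P * P) * (1 + Q + Q * Q) := by noncomm_ring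
    _ = 0 := by rw [hP, hQ, hPQ, hPPQ]; simp

/-- If every element commutes with its conjugates and three does not divide the order, every
commutator is central. -/
theorem commutator_central {M : Type*} [Group M] [Finite M]
    (hE : ∀ x g : M, Commute x (g * x * g⁻¹)) (h3 : ∀ x : M, x ^ 3 = 1 → x = 1) (a b z : M) :
    Commute ⁅a, b⁆ z := by
  have hc1 : ∀ x y : M, Commute ⁅x, y⁆ y := by
    intro x y
    rw [commutatorElement_def]
    exact ((hE y x).symm).mul_left (Commute.refl y).inv_left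
  have hc2 : ∀ x y : M, Commute ⁅x, y⁆ x := by
    intro x y
    have h := (hc1 y x).inv_left
    rwa [commutatorElement_inv] at h
  -- commutators with inverses
  have hinv : ∀ x u : M, ⁅x, u⁻¹⁆ = ⁅x, u⁆⁻¹ := by
    intro x u
    have e : ⁅x, u⁻¹⁆ = u⁻¹ * ⁅x, u⁆⁻¹ * u := by simp only [commutatorElement_def]; group
    rw [e, (hc1 x u).inv_left.inv_right.symm.eq, inv_mul_cancel_right]
  have hanti : ∀ x y w : M, ⁅x, ⁅w, y⁆⁆ = ⁅x, ⁅y, w⁆⁆⁻¹ := fun x y w => by
    rw [← hinv, commutatorElement_inv]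
  -- operators on the abelian normal closure of `w`
  have key : ∀ y x w : M, ⁅y, ⁅x, w⁆⁆ * ⁅x, ⁅y, w⁆⁆ = 1 ∧ ⁅⁅y, x⁆, w⁆ = ⁅y, ⁅x, w⁆⁆ * ⁅y, ⁅x, w⁆⁆ := by
    intro y x w
    obtain ⟨A, hA⟩ : ∃ A, A = Subgroup.normalClosure ({w} : Set M) := ⟨_, rfl⟩
    haveI : A.Normal := hA ▸ Subgroup.normalClosure_normal
    have hwA : w ∈ A := hA ▸ Subgroup.subset_normalClosure (Set.mem_singleton w)
    haveI : IsMulCommutative A := by
      rw [hA, Subgroup.normalClosure]
      refine Subgroup.isMulCommutative_closure ?_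
      intro u hu v hv
      rw [Group.mem_conjugatesOfSet_iff] at hu hv
      obtain ⟨u', hu', hu⟩ := hu
      obtain ⟨v', hv', hv⟩ := hv
      rw [Set.mem_singleton_iff] at hu' hv'
      subst u' v'
      obtain ⟨c, rfl⟩ := isConj_iff.1 hu
      obtain ⟨d, rfl⟩ := isConj_iff.1 hv
      have h := (hE w (c⁻¹ * d)).map (MulAut.conj c).toMonoidHom
      have e : c * (c⁻¹ * d * w * (c⁻¹ * d)⁻¹) * c⁻¹ = d * w * d⁻¹ := by group
      simp only [MulEquiv.coe_toMonoidHom, MulAut.conj_apply, e] at h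
      exact h.eq
    obtain ⟨φ, hφ⟩ : ∃ φ, φ = act A := ⟨_, rfl⟩
    have hsq : ∀ g, (φ g - 1) * (φ g - 1) = 0 := fun g => AddMonoidHom.ext fun u => by
      refine Additive.toMul.injective (Subtype.ext ?_)
      show (((φ g - 1 : AddMonoid.End (Additive A)) ((φ g - 1 : AddMonoid.End (Additive A)) u)).toMul : M) = _
      rw [hφ, act_sub_one, act_sub_one, commutatorElement_eq_one_iff_commute.2 (hc2 g _).symm]
      rfl
    obtain ⟨B, hB⟩ : ∃ B, B = φ y - 1 := ⟨_, rfl⟩
    obtain ⟨C, hC⟩ : ∃ C, C = φ x - 1 := ⟨_, rfl⟩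
    have hB2 : B * B = 0 := hB ▸ hsq y
    have hC2 : C * C = 0 := hC ▸ hsq x
    have hBC2 : (B + C + B * C) * (B + C + B * C) = 0 := by
      have e : B + C + B * C = φ (y * x) - 1 := by rw [map_mul, hB, hC, ring_combine]
      rw [e]; exact hsq _
    obtain ⟨hanti', hK'⟩ := ring_engel hB2 hC2 hBC2
    have hK : φ ⁅y, x⁆ - 1 = B * C + B * C := by
      rw [← hK', commutatorElement_def, map_mul, map_mul, map_mul,
        ring_inverse (by rw [← map_mul, inv_mul_cancel, map_one] : φ y⁻¹ * φ y = 1) (hsq y),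
        ring_inverse (by rw [← map_mul, inv_mul_cancel, map_one] : φ x⁻¹ * φ x = 1) (hsq x),
        hB, hC, add_sub_cancel, add_sub_cancel]
    subst hB; subst hC; subst hφ
    constructor
    · have h := congrArg (fun F : AddMonoid.End (Additive A) => ((F (Additive.ofMul ⟨w, hwA⟩)).toMul : M)) hanti'
      change ((((act A y - 1 : AddMonoid.End (Additive A)) ((act A x - 1 : AddMonoid.End (Additive A))
        (Additive.ofMul ⟨w, hwA⟩))).toMul : M)) * ((((act A x - 1 : AddMonoid.End (Additive A))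
        ((act A y - 1 : AddMonoid.End (Additive A)) (Additive.ofMul ⟨w, hwA⟩))).toMul : M)) = 1 at h
      rw [act_sub_one, act_sub_one, act_sub_one, act_sub_one] at h
      exact h
    · have h := congrArg (fun F : AddMonoid.End (Additive A) => ((F (Additive.ofMul ⟨w, hwA⟩)).toMul : M)) hK
      change ((((act A ⁅y, x⁆ - 1 : AddMonoid.End (Additive A)) (Additive.ofMul ⟨w, hwA⟩))).toMul : M) =
        ((((act A y - 1 : AddMonoid.End (Additive A)) ((act A x - 1 : AddMonoid.End (Additive A))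
          (Additive.ofMul ⟨w, hwA⟩))).toMul : M)) * ((((act A y - 1 : AddMonoid.End (Additive A))
          ((act A x - 1 : AddMonoid.End (Additive A)) (Additive.ofMul ⟨w, hwA⟩))).toMul : M)) at h
      rw [act_sub_one, act_sub_one, act_sub_one] at h
      exact h
  have s1 : ∀ x y w : M, ⁅y, ⁅x, w⁆⁆ = ⁅x, ⁅y, w⁆⁆⁻¹ := fun x y w => eq_inv_of_mul_eq_one_left (key y x w).1
  have cyc : ∀ x y w : M, ⁅x, ⁅y, w⁆⁆ = ⁅y, ⁅w, x⁆⁆ := by
    intro x y w
    rw [hanti y x w, s1 x y w, inv_inv]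
  obtain ⟨t, ht⟩ : ∃ t, t = ⁅z, ⁅a, b⁆⁆ := ⟨_, rfl⟩
  have h2 : t⁻¹ = t * t := by
    have h := (key a b z).2
    rw [← cyc z a b, ← ht, ← commutatorElement_inv z ⁅a, b⁆, ← ht] at h
    exact h
  have ht1 : t = 1 := h3 t (by rw [pow_succ, pow_two, ← h2, inv_mul_cancel])
  rw [ht, commutatorElement_eq_one_iff_commute] at ht1
  exact ht1.symm


theorem mul_pow_comm_aux {M : Type*} [Monoid M] (r : M) (i : ℕ) : (r ^ 2) ^ i * r ^ i = (r ^ 3) ^ i := by
  rw [← ((Commute.refl r).pow_left 2).mul_pow, ← pow_succ]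

variable {G : Type*} [Group G] [Finite G]

/-- Every element of `Nρ` is conjugate to `ρ` under `N`. -/
theorem exists_conj (N : Subgroup G) [N.Normal] {ρ : G} (hfix : ∀ n ∈ N, Commute ρ n → n = 1)
    {m : G} (hm : m ∈ N) : ∃ a ∈ N, m * ρ = a * ρ * a⁻¹ := by
  let f : N → N := fun a => ⟨(a : G) * (ρ * (a : G)⁻¹ * ρ⁻¹),
    N.mul_mem a.2 (Subgroup.Normal.conj_mem inferInstance _ (inv_mem a.2) ρ)⟩
  have hinj : Function.Injective f := by
    intro a b h
    have h1 : (a : G) * (ρ * (a : G)⁻¹ * ρ⁻¹) = (b : G) * (ρ * (b : G)⁻¹ * ρ⁻¹) := congrArg Subtype.val h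
    have hc : Commute ρ ((b : G)⁻¹ * a) := by
      show ρ * ((b : G)⁻¹ * a) = (b : G)⁻¹ * a * ρ
      have h2 : (b : G)⁻¹ * a * ρ * ((a : G)⁻¹ * b) = ρ := by
        calc (b : G)⁻¹ * a * ρ * ((a : G)⁻¹ * b)
            = (b : G)⁻¹ * ((a : G) * (ρ * (a : G)⁻¹ * ρ⁻¹)) * ρ * b := by group
          _ = (b : G)⁻¹ * ((b : G) * (ρ * (b : G)⁻¹ * ρ⁻¹)) * ρ * b := by rw [h1]
          _ = ρ := by group
      calc ρ * ((b : G)⁻¹ * a) = (b : G)⁻¹ * a * ρ * ((a : G)⁻¹ * b) * ((b : G)⁻¹ * a) := by rw [h2]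
        _ = (b : G)⁻¹ * a * ρ := by group
    exact Subtype.ext (inv_mul_eq_one.1 (hfix _ (N.mul_mem (inv_mem b.2) a.2) hc)).symm
  obtain ⟨a, ha⟩ := (Finite.injective_iff_surjective.1 hinj) ⟨m, hm⟩
  refine ⟨a, a.2, ?_⟩
  have e : (a : G) * (ρ * (a : G)⁻¹ * ρ⁻¹) = m := congrArg Subtype.val ha
  rw [← e]; group

/-- A fixed-point-free element of order three gives `x * ρx * ρ²x = 1`. -/
theorem triple (N : Subgroup G) [N.Normal] {ρ : G} (hρ : ρ ^ 3 = 1)
    (hfix : ∀ n ∈ N, Commute ρ n → n = 1) {x : G} (hx : x ∈ N) :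
    x * (ρ * x * ρ⁻¹) * (ρ ^ 2 * x * (ρ ^ 2)⁻¹) = 1 := by
  obtain ⟨a, -, ha⟩ := exists_conj N hfix hx
  have h : (x * ρ) ^ 3 = 1 := by rw [ha, conj_pow, hρ]; group
  calc x * (ρ * x * ρ⁻¹) * (ρ ^ 2 * x * (ρ ^ 2)⁻¹) = (x * ρ) ^ 3 * (ρ ^ 3)⁻¹ := by
        simp only [pow_succ, pow_zero, one_mul]; group
    _ = 1 := by rw [h, hρ]; group

theorem comm_image (N : Subgroup G) [N.Normal] {ρ : G} (hρ : ρ ^ 3 = 1)
    (hfix : ∀ n ∈ N, Commute ρ n → n = 1) {x : G} (hx : x ∈ N) : Commute x (ρ * x * ρ⁻¹) := by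
  have h2 : ρ ^ 2 = ρ⁻¹ := eq_inv_of_mul_eq_one_left (by rw [← pow_succ, hρ])
  have h := triple N hρ hfix hx
  have h' := triple N (ρ := ρ⁻¹) (by rw [inv_pow, hρ, inv_one])
    (fun n hn hc => hfix n hn (by simpa using hc.inv_left)) hx
  have e : (ρ⁻¹) ^ 2 = ρ := by rw [inv_pow, h2, inv_inv]
  rw [e, inv_inv] at h'
  rw [h2, inv_inv] at h
  -- `h'` is `x * ρ²x * ρx = 1`
  have a1 : x * (ρ * x * ρ⁻¹) = (ρ⁻¹ * x * ρ)⁻¹ := eq_inv_of_mul_eq_one_left h
  have a2 : ρ * x * ρ⁻¹ * x = (ρ⁻¹ * x * ρ)⁻¹ := by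
    have h3 : (ρ * x * ρ⁻¹) * (x * (ρ⁻¹ * x * ρ)) = 1 := mul_eq_one_comm.1 h'
    rw [← mul_assoc] at h3
    exact eq_inv_of_mul_eq_one_left h3
  exact a1.trans a2.symm

theorem engel (N : Subgroup G) [N.Normal] {ρ : G} (hρ : ρ ^ 3 = 1)
    (hfix : ∀ n ∈ N, Commute ρ n → n = 1) {x g : G} (hx : x ∈ N) (hg : g ∈ N) :
    Commute x (g * x * g⁻¹) := by
  have step : ∀ σ : G, σ ^ 3 = 1 → (∀ n ∈ N, Commute σ n → n = 1) → ∀ y ∈ N, ∀ h ∈ N,
      Commute y (h * (σ * y * σ⁻¹) * h⁻¹) := by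
    intro σ hσ hσf y hy h hh
    have hσ' : (h * σ) ^ 3 = 1 := by
      obtain ⟨a, -, ha⟩ := exists_conj N hσf hh
      rw [ha, conj_pow, hσ]; group
    have hf' : ∀ n ∈ N, Commute (h * σ) n → n = 1 := by
      obtain ⟨a, haN, ha⟩ := exists_conj N hσf hh
      intro n hn hc
      have h1 : Commute σ (a⁻¹ * n * a) := by
        have := hc.map (MulAut.conj a⁻¹).toMonoidHom
        simp only [MulEquiv.coe_toMonoidHom, MulAut.conj_apply, ha, inv_inv] at this
        rwa [show a⁻¹ * (a * σ * a⁻¹) * a = σ by group] at this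
      have h2 := hσf _ (by simpa using Subgroup.Normal.conj_mem inferInstance n hn a⁻¹) h1
      calc n = a * (a⁻¹ * n * a) * a⁻¹ := by group
        _ = 1 := by rw [h2]; group
    have := comm_image N hσ' hf' hy
    rwa [show h * σ * y * (h * σ)⁻¹ = h * (σ * y * σ⁻¹) * h⁻¹ by group] at this
  have hρ' : (ρ⁻¹) ^ 3 = 1 := by rw [inv_pow, hρ, inv_one]
  have hfix' : ∀ n ∈ N, Commute ρ⁻¹ n → n = 1 := fun n hn hc => hfix n hn (by simpa using hc.inv_left)
  obtain ⟨g', hg', rfl⟩ : ∃ g' ∈ N, g = ρ * g' * ρ⁻¹ :=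
    ⟨ρ⁻¹ * g * ρ, by simpa using Subgroup.Normal.conj_mem inferInstance g hg ρ⁻¹, by group⟩
  obtain ⟨y, hy⟩ : ∃ y, y = ρ * x * ρ⁻¹ := ⟨_, rfl⟩
  have hyN : y ∈ N := hy ▸ Subgroup.Normal.conj_mem inferInstance x hx ρ
  obtain ⟨w, hw⟩ : ∃ w, w = ρ⁻¹ * x * ρ := ⟨_, rfl⟩
  have hwN : w ∈ N := hw ▸ by simpa using Subgroup.Normal.conj_mem inferInstance x hx ρ⁻¹
  have c1 : Commute x (g' * w * g'⁻¹) := by simpa [hw] using step ρ⁻¹ hρ' hfix' x hx g' hg'
  have c2 : Commute y (g' * w * g'⁻¹) := by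
    have e : ρ * y * ρ⁻¹ = w := by
      have h2 : ρ * ρ = ρ⁻¹ := eq_inv_of_mul_eq_one_left (by rw [← pow_two, ← pow_succ, hρ])
      rw [hy, hw]
      calc ρ * (ρ * x * ρ⁻¹) * ρ⁻¹ = ρ * ρ * x * (ρ * ρ)⁻¹ := by group
        _ = _ := by rw [h2, inv_inv]
    rw [← e]
    exact step ρ hρ hfix y hyN g' hg'
  have hw' : w = (x * y)⁻¹ := by
    refine eq_inv_of_mul_eq_one_right ?_
    have h := triple N hρ hfix hx
    have h2 : ρ ^ 2 = ρ⁻¹ := eq_inv_of_mul_eq_one_left (by rw [← pow_succ, hρ])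
    rwa [h2, inv_inv, ← hy, ← hw] at h
  have c3 : Commute w (g' * w * g'⁻¹) := by
    have := (c1.mul_left c2).inv_left
    rwa [← hw'] at this
  -- transport back from `w` to `x`
  have hc := c3.map (MulAut.conj ρ).toMonoidHom
  simp only [MulEquiv.coe_toMonoidHom, MulAut.conj_apply] at hc
  rw [show ρ * w * ρ⁻¹ = x by rw [hw]; group,
    show ρ * (g' * w * g'⁻¹) * ρ⁻¹ = (ρ * g' * ρ⁻¹) * (ρ * w * ρ⁻¹) * (ρ * g' * ρ⁻¹)⁻¹ by group,
    show ρ * w * ρ⁻¹ = x by rw [hw]; group] at hc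
  exact hc

theorem engel_all (N : Subgroup G) [N.Normal] {ρ : G} (hρ : ρ ^ 3 = 1)
    (hfix : ∀ n ∈ N, Commute ρ n → n = 1) {x g : G} (hx : x ∈ N) (hg : g ∈ N) :
    Commute x (g * x * g⁻¹) := engel N hρ hfix hx hg

/-- A non-commutative group of order six is the symmetric group. -/
theorem equiv_perm_three {Q : Type*} [Group Q] [Finite Q] (h6 : Nat.card Q = 6) {t r : Q}
    (ht : orderOf t = 2) (htr : ¬ Commute t r) : Nonempty (Q ≃* Equiv.Perm (Fin 3)) := by
  obtain ⟨H, hH⟩ : ∃ H, H = Subgroup.zpowers t := ⟨_, rfl⟩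
  have hHc : Nat.card H = 2 := by rw [hH, Nat.card_zpowers, ht]
  have h3 : Nat.card (Q ⧸ H) = 3 := by
    have := H.card_eq_card_quotient_mul_card_subgroup
    rw [hHc, h6] at this; omega
  obtain ⟨φ, hφ⟩ : ∃ φ, φ = MulAction.toPermHom Q (Q ⧸ H) := ⟨_, rfl⟩
  have hker : φ.ker = ⊥ := by
    rw [hφ, ← Subgroup.normalCore_eq_ker]
    by_contra hne
    have heq : H.normalCore = H := by
      refine Subgroup.eq_of_le_of_card_ge H.normalCore_le ?_
      have hd := Subgroup.card_dvd_of_le H.normalCore_le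
      rw [hHc] at hd ⊢
      rcases (Nat.dvd_prime Nat.prime_two).1 hd with e | e
      · exact absurd (Subgroup.eq_bot_of_card_eq _ e) hne
      · exact e.ge
    have hn : H.Normal := heq ▸ H.normalCore_normal
    have hmem : r * t * r⁻¹ ∈ H := hn.conj_mem t (hH ▸ Subgroup.mem_zpowers t) r
    obtain ⟨w, -, hw⟩ := (Nat.card_eq_two_iff' (1 : H)).1 hHc
    have hne1 : r * t * r⁻¹ ≠ 1 := fun e => by
      rw [conj_eq_one_iff] at e; rw [e, orderOf_one] at ht; omega
    have e1 := hw ⟨_, hmem⟩ fun e => hne1 (congrArg Subtype.val e)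
    have e2 := hw ⟨t, hH ▸ Subgroup.mem_zpowers t⟩ fun e => by
      rw [show t = 1 from congrArg Subtype.val e, orderOf_one] at ht; omega
    exact htr (mul_inv_eq_iff_eq_mul.1 (congrArg Subtype.val (e1.trans e2.symm) : r * t * r⁻¹ = t)).symm
  obtain ⟨e⟩ : Nonempty ((Q ⧸ H) ≃ Fin 3) := ⟨(Finite.equivFinOfCardEq h3)⟩
  have hinj : Function.Injective φ := (MonoidHom.ker_eq_bot_iff φ).1 hker
  exact ⟨(MulEquiv.ofBijective φ ((Nat.bijective_iff_injective_and_card φ).2
    ⟨hinj, by rw [h6, Nat.card_perm, h3]; rfl⟩)).trans e.permCongrHom⟩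

section Main

variable (hord : ∀ g : G, orderOf g = 1 ∨ orderOf g = 2 ∨ orderOf g = 3 ∨ orderOf g = 4)

include hord

theorem no_six {x y : G} (hc : Commute x y) (hx : orderOf x = 3) (hy : orderOf y = 2) : False := by
  have h : orderOf (x * y) = 6 := by
    rw [hc.orderOf_mul_eq_mul_orderOf_of_coprime (by rw [hx, hy]; norm_num), hx, hy]
  rcases hord (x * y) with e | e | e | e <;> omega

theorem no_six' {x y : G} (hc : Commute x y) (hx : orderOf x = 3) (hy : y ^ 4 = 1) : y = 1 := by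
  by_contra h1
  by_cases h2 : y ^ 2 = 1
  · exact no_six hord hc hx (orderOf_eq_prime h2 h1)
  · exact no_six hord (hc.pow_right 2) hx (orderOf_eq_prime (by rw [← pow_mul]; exact hy) h2)

theorem fitting_le {p q : ℕ} [Fact p.Prime] [Fact q.Prime] (hpq : ({p, q} : Set ℕ) = {2, 3})
    (h : pCore q G = ⊥) : fittingSubgroup G ≤ pCore p G := by
  rw [Cfsg.Agent.Core.fittingSubgroup_eq_iSup_pCore]
  refine iSup_le fun r => ?_
  by_cases hb : pCore (r : ℕ) G = ⊥
  · rw [hb]; exact bot_le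
  haveI := Fact.mk r.2
  obtain ⟨n, hn⟩ := IsPGroup.iff_card.1 (Cfsg.Agent.Core.pCore_isPGroup (p := (r : ℕ)) (G := G))
  have hn0 : n ≠ 0 := fun e => hb (Subgroup.eq_bot_of_card_eq _ (by rw [hn, e, pow_zero]))
  obtain ⟨g, hg⟩ := exists_prime_orderOf_dvd_card' (r : ℕ)
    ((dvd_pow_self _ hn0).trans (hn ▸ (pCore (r : ℕ) G).card_subgroup_dvd_card))
  have hr : (r : ℕ) ∈ ({2, 3} : Set ℕ) := by
    rcases hord g with e | e | e | e <;> rw [hg] at e <;> first
      | exact absurd e r.2.ne_one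
      | exact Or.inl e
      | exact Or.inr e
      | exact absurd (e ▸ r.2) (by norm_num)
  rw [← hpq] at hr
  rcases hr with e | e
  · rw [e]
  · exact absurd (e ▸ h) hb

theorem three_power {y : G} {R : Subgroup G} (hR : IsPGroup 3 R) (hy : y ∈ R) (h1 : y ≠ 1) : orderOf y = 3 := by
  haveI : Fact (Nat.Prime 3) := ⟨Nat.prime_three⟩
  obtain ⟨k, hk⟩ := hR ⟨y, hy⟩
  obtain ⟨j, -, hj⟩ := (Nat.dvd_prime_pow Nat.prime_three).1
    (orderOf_dvd_of_pow_eq_one (congrArg Subtype.val hk : y ^ 3 ^ k = 1))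
  rcases hord y with e | e | e | e
  · exact absurd (orderOf_eq_one_iff.1 e) h1
  · rcases j with _ | j <;> rw [hj] at e
    · simp at e
    · rw [pow_succ] at e; omega
  · exact e
  · rcases j with _ | j <;> rw [hj] at e
    · simp at e
    · rw [pow_succ] at e; omega

theorem two_power {y : G} {R : Subgroup G} (hR : IsPGroup 2 R) (hy : y ∈ R) : y ^ 4 = 1 := by
  rcases hord y with e | e | e | e
  · rw [orderOf_eq_one_iff.1 e, one_pow]
  · rw [show 4 = 2 * 2 by norm_num, pow_mul, ← e, pow_orderOf_eq_one, one_pow]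
  · exfalso
    obtain ⟨k, hk⟩ := hR ⟨y, hy⟩
    obtain ⟨j, -, hj⟩ := (Nat.dvd_prime_pow Nat.prime_two).1
      (orderOf_dvd_of_pow_eq_one (congrArg Subtype.val hk : y ^ 2 ^ k = 1))
    rw [e] at hj
    rcases j with _ | j
    · simp at hj
    · rw [pow_succ] at hj; omega
  · rw [← e, pow_orderOf_eq_one]

/-- The two-core case. -/
theorem case_two (hsol : Group.IsSolvable G) (h23 : 3 ∣ Nat.card G) (h4 : ∃ g : G, orderOf g = 4)
    (hN : pCore 2 G ≠ ⊥) :
    ∃ (N : Subgroup G) (_ : N.Normal),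
      (IsPGroup 2 ↥N ∧ Monoid.exponent ↥N = 4 ∧ Group.nilpotencyClass ↥N ≤ 2 ∧ N.index = 3) ∨
      (Cfsg.IsElementaryAbelian 2 N ∧ Nonempty (G ⧸ N ≃* Equiv.Perm (Fin 3))) := by
  haveI : Fact (Nat.Prime 2) := ⟨Nat.prime_two⟩
  haveI : Fact (Nat.Prime 3) := ⟨Nat.prime_three⟩
  obtain ⟨N, hNdef⟩ : ∃ N, N = pCore 2 G := ⟨_, rfl⟩
  rw [← hNdef] at hN
  haveI : N.Normal := hNdef ▸ inferInstance
  have hNp : IsPGroup 2 N := hNdef ▸ Cfsg.Agent.Core.pCore_isPGroup
  have hfix : ∀ ρ : G, orderOf ρ = 3 → ∀ n ∈ N, Commute ρ n → n = 1 := fun ρ hρ n hn hc =>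
    no_six' hord hc hρ (two_power hord hNp hn)
  have hρ3 : ∀ ρ : G, orderOf ρ = 3 → ρ ^ 3 = 1 := fun ρ h => h ▸ pow_orderOf_eq_one ρ
  obtain ⟨ρ, hρ⟩ := exists_prime_orderOf_dvd_card' (G := G) 3 h23
  -- commutators are central
  have hcen : ∀ a b c : N, Commute ⁅a, b⁆ c := by
    refine commutator_central (M := N) (fun x g => Subtype.ext ?_) (fun x hx => Subtype.ext ?_)
    · simpa using (engel_all N (hρ3 ρ hρ) (hfix ρ hρ) x.2 g.2).eq
    · have h4' := two_power hord hNp x.2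
      have hx' : (x : G) ^ 3 = 1 := congrArg Subtype.val hx
      rw [pow_succ, hx', one_mul] at h4'
      exact h4'
  -- the Sylow 3-subgroups have order three
  have hsyl : ∀ R : Sylow 3 G, Nat.card (R : Subgroup G) = 3 := by
    intro R
    have hR1 : (R : Subgroup G) ≠ ⊥ := R.ne_bot_of_dvd_card h23
    haveI : Nontrivial (R : Subgroup G) := (Subgroup.nontrivial_iff_ne_bot _).2 hR1
    haveI := R.isPGroup'.center_nontrivial
    obtain ⟨⟨a, ha⟩, ha1⟩ := exists_ne (1 : Subgroup.center (R : Subgroup G))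
    have hao : orderOf (a : G) = 3 := three_power hord R.isPGroup' a.2
      fun e => ha1 (Subtype.ext (Subtype.ext e))
    have hz : ∀ b ∈ (R : Subgroup G), b ∈ Subgroup.zpowers (a : G) := by
      intro b hb
      by_contra hbz
      have hb1 : b ≠ 1 := fun e => hbz (e ▸ one_mem _)
      have hbo : orderOf b = 3 := three_power hord R.isPGroup' hb hb1
      have hab : Commute (a : G) b :=
        congrArg Subtype.val ((Subgroup.mem_center_iff.1 ha) ⟨b, hb⟩).symm
      have ho : ∀ k : ℕ, orderOf ((a : G) ^ k * b) = 3 := fun k =>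
        three_power hord R.isPGroup' ((R : Subgroup G).mul_mem (pow_mem a.2 k) hb) fun e =>
          hbz (by rw [← inv_eq_of_mul_eq_one_right e]; exact inv_mem (Subgroup.pow_mem _ (Subgroup.mem_zpowers _) k))
      -- a central element of `N`
      haveI : Nontrivial N := (Subgroup.nontrivial_iff_ne_bot N).2 hN
      haveI := hNp.center_nontrivial
      obtain ⟨⟨u, hu⟩, hu1⟩ := exists_ne (1 : Subgroup.center N)
      obtain ⟨A, hAdef⟩ : ∃ A, A = (Subgroup.center N).map N.subtype := ⟨_, rfl⟩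
      haveI : A.Normal := hAdef ▸ inferInstance
      haveI : IsMulCommutative A := hAdef ▸ inferInstance
      have hAN : A ≤ N := hAdef ▸ Subgroup.map_subtype_le _
      have huA : (u : G) ∈ A := hAdef ▸ ⟨u, hu, rfl⟩
      obtain ⟨φ, hφ⟩ : ∃ φ, φ = act A := ⟨_, rfl⟩
      have hσ : ∀ σ : G, orderOf σ = 3 → 1 + φ σ + φ σ * φ σ = 0 := fun σ hσ => AddMonoidHom.ext fun v => by
        refine Additive.toMul.injective (Subtype.ext ?_)
        have h := triple N (hρ3 σ hσ) (hfix σ hσ) (hAN v.toMul.2)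
        rw [pow_two] at h
        subst hφ
        show (v.toMul : G) * (σ * (v.toMul : G) * σ⁻¹) * (σ * (σ * (v.toMul : G) * σ⁻¹) * σ⁻¹) = 1
        rw [← h]; group
      have hP := hσ _ hao
      have hQ := hσ b hbo
      have hPQ := hσ _ (ho 1)
      have hPPQ := hσ _ (ho 2)
      have hcm : φ b * φ (a : G) = φ (a : G) * φ b := by rw [← map_mul, ← map_mul, hab.eq]
      simp only [pow_one, pow_two, map_mul] at hPQ hPPQ
      have h30 : (1 : AddMonoid.End (Additive A)) + 1 + 1 = 0 := ring_three hcm hP hQ hPQ hPPQ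
      have hu3 : (u : G) ^ 3 = 1 := by
        have h : ((1 + 1 + 1 : AddMonoid.End (Additive A))) (Additive.ofMul ⟨(u : G), huA⟩) = 0 := by
          rw [h30]; rfl
        have h' := congrArg (fun v : Additive A => (v.toMul : G)) h
        change (u : G) * (u : G) * (u : G) = 1 at h'
        rw [pow_succ, pow_two]; exact h'
      have hu4 := two_power hord hNp u.2
      rw [pow_succ, hu3, one_mul] at hu4
      exact hu1 (Subtype.ext (Subtype.ext hu4))
    have : (R : Subgroup G) = Subgroup.zpowers (a : G) := le_antisymm hz (Subgroup.zpowers_le.2 a.2)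
    rw [this, Nat.card_zpowers, hao]
  -- the quotient
  obtain ⟨Q, hQdef⟩ : ∃ Q, Q = pCore 3 (G ⧸ N) := ⟨_, rfl⟩
  haveI : Q.Normal := hQdef ▸ inferInstance
  have hQ2 : pCore 2 (G ⧸ N) = ⊥ := by subst hNdef; exact Cfsg.Agent.Core.pCore_quotient_eq_bot
  have hordQ : ∀ g : G ⧸ N, orderOf g = 1 ∨ orderOf g = 2 ∨ orderOf g = 3 ∨ orderOf g = 4 := by
    intro g
    obtain ⟨g, rfl⟩ := QuotientGroup.mk'_surjective N g
    have hd := orderOf_map_dvd (QuotientGroup.mk' N) g
    have hle := Nat.le_of_dvd (orderOf_pos g) hd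
    have hpos := orderOf_pos (QuotientGroup.mk' N g)
    rcases hord g with e | e | e | e <;> omega
  haveI : Group.IsSolvable (G ⧸ N) := solvable_of_surjective (QuotientGroup.mk'_surjective N)
  have hρQ : QuotientGroup.mk' N ρ ≠ 1 := by
    intro e
    rw [QuotientGroup.mk'_apply, QuotientGroup.eq_one_iff] at e
    have := no_six' hord (Commute.refl ρ) hρ (two_power hord hNp e)
    rw [this, orderOf_one] at hρ; omega
  haveI : Nontrivial (G ⧸ N) := ⟨⟨_, _, hρQ⟩⟩
  have hFQ : fittingSubgroup (G ⧸ N) ≤ Q := hQdef ▸ fitting_le hordQ (Set.pair_comm 3 2) hQ2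
  have hQne : Q ≠ ⊥ := fun e => Cfsg.Agent.Core.fittingSubgroup_ne_bot (le_bot_iff.1 (e ▸ hFQ))
  have hQc : Nat.card Q = 3 := by
    obtain ⟨R⟩ : Nonempty (Sylow 3 G) := inferInstance
    have hRq : Nat.card ((R.mapSurjective (QuotientGroup.mk'_surjective N)) : Subgroup (G ⧸ N)) ∣ 3 := by
      rw [Sylow.coe_mapSurjective]; exact (Subgroup.card_map_dvd _ _).trans (hsyl R).dvd
    have hle : Q ≤ ((R.mapSurjective (QuotientGroup.mk'_surjective N)) : Subgroup (G ⧸ N)) :=
      hQdef ▸ Cfsg.Agent.Core.pCore_le_sylow _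
    rcases (Nat.dvd_prime Nat.prime_three).1 ((Subgroup.card_dvd_of_le hle).trans hRq) with e | e
    · exact absurd (Subgroup.eq_bot_of_card_eq _ e) hQne
    · exact e
  have hQcyc : IsCyclic Q := isCyclic_of_prime_card hQc
  haveI : IsMulCommutative Q := IsCyclic.isMulCommutative
  have hCQ : Subgroup.centralizer (Q : Set (G ⧸ N)) = Q := by
    refine le_antisymm ?_ (Subgroup.le_centralizer Q)
    exact ((Subgroup.centralizer_le (SetLike.coe_subset_coe.2 hFQ)).trans
      Cfsg.Agent.Core.centralizer_fittingSubgroup_le).trans hFQ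
  have hdvd : Nat.card (G ⧸ N) ∣ 6 := by
    let ψ := MulAut.conjNormal (H := Q)
    have hker : ψ.ker ≤ Q := by
      intro g hg
      have : g ∈ Subgroup.centralizer (Q : Set (G ⧸ N)) := by
        rw [Subgroup.mem_centralizer_iff]
        intro q hq
        have h := congrArg Subtype.val (DFunLike.congr_fun (MonoidHom.mem_ker.1 hg) ⟨q, hq⟩)
        simp only [ψ, MulAut.conjNormal_apply, MulAut.one_apply] at h
        exact (mul_inv_eq_iff_eq_mul.1 h).symm
      rwa [hCQ] at this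
    have h2 : Nat.card ψ.range ∣ 2 := by
      have := ψ.range.card_subgroup_dvd_card
      rwa [IsCyclic.card_mulAut, hQc, Nat.totient_prime Nat.prime_three] at this
    rw [ψ.ker.card_eq_card_quotient_mul_card_subgroup,
      Nat.card_congr (QuotientGroup.quotientKerEquivRange ψ).toEquiv, show (6 : ℕ) = 2 * 3 by norm_num]
    exact Nat.mul_dvd_mul h2 (hQc ▸ Subgroup.card_dvd_of_le hker)
  refine ⟨N, inferInstance, ?_⟩
  have h3d : 3 ∣ Nat.card (G ⧸ N) := hQc ▸ Q.card_subgroup_dvd_card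
  rcases (show Nat.card (G ⧸ N) = 3 ∨ Nat.card (G ⧸ N) = 6 by
    have := Nat.le_of_dvd (by norm_num) hdvd
    have := Nat.card_pos (α := G ⧸ N)
    omega) with hc | hc
  · left
    refine ⟨hNp, ?_, ?_, hc⟩
    · obtain ⟨g, hg⟩ := h4
      have hgN : g ∈ N := by
        rw [← QuotientGroup.eq_one_iff, ← orderOf_eq_one_iff]
        have h1 := orderOf_dvd_natCard (g : G ⧸ N)
        have h2 := orderOf_map_dvd (QuotientGroup.mk' N) g
        rw [QuotientGroup.mk'_apply, hg] at h2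
        rw [hc] at h1
        exact Nat.eq_one_of_dvd_one ((show Nat.gcd 3 4 = 1 by norm_num) ▸ Nat.dvd_gcd h1 h2)
      refine Nat.dvd_antisymm ?_ ?_
      · exact Monoid.exponent_dvd_of_forall_pow_eq_one fun x => Subtype.ext (two_power hord hNp x.2)
      · have := Monoid.order_dvd_exponent (⟨g, hgN⟩ : N)
        rwa [Subgroup.orderOf_mk, hg] at this
    · haveI := hNp.isNilpotent
      refine (Subgroup.lowerCentralSeries_eq_bot_iff_nilpotencyClass_le).1 ?_
      refine Subgroup.lowerCentralSeries_succ_eq_bot ⊤ ?_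
      rw [Subgroup.lowerCentralSeries_succ, Subgroup.lowerCentralSeries_zero, Subgroup.commutator_le]
      intro a _ b _
      exact Subgroup.mem_center_iff.2 fun c => (hcen a b c).eq.symm
  · right
    -- an involution inverting `ρ`
    have hρim : orderOf (ρ : G ⧸ N) = 3 := by
      have h := orderOf_map_dvd (QuotientGroup.mk' N) ρ
      rw [hρ] at h
      rcases (Nat.dvd_prime Nat.prime_three).1 h with e | e
      · exact absurd (orderOf_eq_one_iff.1 e) hρQ
      · exact e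
    have hρmem : (ρ : G ⧸ N) ∈ Q := by
      obtain ⟨R⟩ : Nonempty (Sylow 3 (G ⧸ N)) := inferInstance
      have hRQ : (R : Subgroup (G ⧸ N)) = Q := (Subgroup.eq_of_le_of_card_ge (hQdef ▸ Cfsg.Agent.Core.pCore_le_sylow R) (by
        have := R.card_eq_multiplicity
        rw [this, hc, hQc]
        rw [show (6 : ℕ) = 2 * 3 by norm_num, Nat.factorization_mul (by norm_num) (by norm_num),
          Nat.Prime.factorization Nat.prime_two, Nat.Prime.factorization Nat.prime_three]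
        simp)).symm
      obtain ⟨S, hS⟩ := (IsPGroup.of_card (p := 3) (n := 1) (by rw [Nat.card_zpowers, hρim, pow_one]) :
        IsPGroup 3 (Subgroup.zpowers (ρ : G ⧸ N))).exists_le_sylow
      haveI := Sylow.unique_of_normal R (hRQ ▸ inferInstance)
      rw [← hRQ, ← Subsingleton.elim S R]
      exact hS (Subgroup.mem_zpowers _)
    obtain ⟨τ, hτ⟩ : ∃ τ : G ⧸ N, τ ∉ Q := by
      by_contra h
      push Not at h
      have h' : (⊤ : Subgroup (G ⧸ N)) = Q := le_antisymm (fun x _ => h x) le_top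
      rw [← h', Subgroup.card_top, hc] at hQc
      omega
    have hnc : ¬ Commute τ (ρ : G ⧸ N) := by
      intro hcm
      apply hτ
      rw [← hCQ, Subgroup.mem_centralizer_iff]
      intro q hq
      have hz : Subgroup.zpowers (ρ : G ⧸ N) = Q := Subgroup.eq_of_le_of_card_ge (Subgroup.zpowers_le.2 hρmem)
        (by rw [Nat.card_zpowers, hρim, hQc])
      rw [← hz] at hq
      obtain ⟨k, rfl⟩ := hq
      exact (hcm.zpow_right k).eq.symm
    obtain ⟨t0, rfl⟩ := QuotientGroup.mk'_surjective N τ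
    -- adjust `t0` to invert `ρ` exactly
    obtain ⟨k, hk⟩ : ∃ k : ℕ, (t0 * ρ * t0⁻¹ : G) * (ρ ^ k)⁻¹ ∈ N ∧ k < 3 := by
      have hm : ((t0 * ρ * t0⁻¹ : G) : G ⧸ N) ∈ Q := by
        rw [QuotientGroup.mk_mul, QuotientGroup.mk_mul, QuotientGroup.mk_inv]
        exact Subgroup.Normal.conj_mem inferInstance _ hρmem _
      have hz : Subgroup.zpowers (ρ : G ⧸ N) = Q := Subgroup.eq_of_le_of_card_ge (Subgroup.zpowers_le.2 hρmem)
        (by rw [Nat.card_zpowers, hρim, hQc])
      classical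
      rw [← hz, mem_zpowers_iff_mem_range_orderOf] at hm
      simp only [Finset.mem_image, Finset.mem_range, hρim] at hm
      obtain ⟨k, hk, he⟩ := hm
      refine ⟨k, ?_, hk⟩
      rw [← QuotientGroup.eq_one_iff, QuotientGroup.mk_mul _ (t0 * ρ * t0⁻¹) (ρ ^ k)⁻¹, ← he,
        QuotientGroup.mk_inv, QuotientGroup.mk_pow, mul_inv_cancel]
    have hk2 : k = 2 := by
      obtain ⟨hk, hlt⟩ := hk
      rw [← QuotientGroup.eq_one_iff, QuotientGroup.mk_mul _ (t0 * ρ * t0⁻¹) (ρ ^ k)⁻¹, QuotientGroup.mk_inv,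
        mul_inv_eq_one, QuotientGroup.mk_pow] at hk
      rw [QuotientGroup.mk_mul, QuotientGroup.mk_mul, QuotientGroup.mk_inv] at hk
      rcases (show k = 0 ∨ k = 1 ∨ k = 2 by omega) with rfl | rfl | rfl
      · rw [pow_zero, conj_eq_one_iff] at hk
        exact absurd hk hρQ
      · rw [pow_one] at hk
        exact absurd (show Commute (QuotientGroup.mk' N t0) (ρ : G ⧸ N) from mul_inv_eq_iff_eq_mul.1 hk) hnc
      · rfl
    subst hk2
    have hρ2 : orderOf (ρ ^ 2) = 3 := by rw [Nat.Coprime.orderOf_pow (by rw [hρ]; norm_num), hρ]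
    obtain ⟨a, haN, ha⟩ := exists_conj N (hfix _ hρ2) hk.1
    rw [inv_mul_cancel_right] at ha
    obtain ⟨t, ht⟩ : ∃ t, t = a⁻¹ * t0 := ⟨_, rfl⟩
    have htρ : t * ρ * t⁻¹ = ρ ^ 2 := by
      rw [ht, mul_inv_rev, inv_inv]
      calc a⁻¹ * t0 * ρ * (t0⁻¹ * a) = a⁻¹ * (t0 * ρ * t0⁻¹) * a := by group
        _ = a⁻¹ * (a * ρ ^ 2 * a⁻¹) * a := by rw [ha]
        _ = ρ ^ 2 := by group
    have htcomm : ¬ Commute t ρ := by
      intro hcm
      rw [hcm.eq, mul_inv_cancel_right, pow_two, left_eq_mul] at htρ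
      rw [htρ, orderOf_one] at hρ; omega
    have ht2 : Commute (t ^ 2) ρ := by
      show t ^ 2 * ρ = ρ * t ^ 2
      have h2 : t ^ 2 * ρ * (t ^ 2)⁻¹ = ρ := by
        calc t ^ 2 * ρ * (t ^ 2)⁻¹ = t * (t * ρ * t⁻¹) * t⁻¹ := by rw [pow_two]; group
          _ = t * ρ ^ 2 * t⁻¹ := by rw [htρ]
          _ = (t * ρ * t⁻¹) ^ 2 := by rw [conj_pow]
          _ = ρ ^ 3 * ρ := by rw [htρ, ← pow_mul, ← pow_succ]
          _ = ρ := by rw [hρ3 ρ hρ, one_mul]
      exact mul_inv_eq_iff_eq_mul.1 h2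
    have hto : orderOf t = 2 := by
      rcases hord t with e | e | e | e
      · exact absurd (by rw [orderOf_eq_one_iff.1 e]; exact Commute.one_left ρ) htcomm
      · exact e
      · exfalso
        apply htcomm
        have : t = (t ^ 2) ^ 2 := by
          rw [← pow_mul, show 2 * 2 = 3 + 1 by norm_num, pow_succ, ← e, pow_orderOf_eq_one, one_mul]
        rw [this]; exact ht2.pow_left 2
      · exfalso
        exact no_six hord ht2.symm hρ (by rw [orderOf_pow_of_dvd (by norm_num) (by rw [e]; norm_num), e])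
    have htt : t * t = 1 := by rw [← pow_two, ← hto, pow_orderOf_eq_one]
    -- every element of `N` squares to one
    have hsq : ∀ n ∈ N, n ^ 2 = 1 := by
      intro n hn
      -- the three conjugated images of `n`
      obtain ⟨c, hcdef⟩ : ∃ c : ℕ → G, c = fun i => t * (ρ ^ i * n * (ρ ^ i)⁻¹) * t⁻¹ := ⟨_, rfl⟩
      have hcN : ∀ i, c i ∈ N := fun i => hcdef ▸ Subgroup.Normal.conj_mem inferInstance _
        (Subgroup.Normal.conj_mem inferInstance n hn _) t
      have hprod : c 0 * c 1 * c 2 = 1 := by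
        subst hcdef
        have h := triple N (hρ3 ρ hρ) (hfix ρ hρ) hn
        calc _ = t * (n * (ρ * n * ρ⁻¹) * (ρ ^ 2 * n * (ρ ^ 2)⁻¹)) * t⁻¹ := by
              simp only [pow_zero, pow_one]; group
          _ = 1 := by rw [h]; group
      have hc01 : Commute (c 0) (c 1) := by
        subst hcdef
        have h := (comm_image N (hρ3 ρ hρ) (hfix ρ hρ) hn).map (MulAut.conj t).toMonoidHom
        simpa using h
      have hsqi : ∀ i, (n * c i) ^ 2 = 1 := by
        intro i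
        have hn' : orderOf (n * (t * ρ ^ i)) = 2 ∨ orderOf (n * (t * ρ ^ i)) = 4 := by
          have him : ((n * (t * ρ ^ i) : G) : G ⧸ N) ∉ Q := by
            rw [QuotientGroup.mk_mul, (QuotientGroup.eq_one_iff n).2 hn, one_mul, QuotientGroup.mk_mul,
              QuotientGroup.mk_pow, ht, QuotientGroup.mk_mul, QuotientGroup.mk_inv,
              (QuotientGroup.eq_one_iff a).2 haN, inv_one, one_mul]
            intro hmem
            exact hτ ((Subgroup.mul_mem_cancel_right Q (pow_mem hρmem i)).1 hmem)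
          have h3 : ∀ g : G, orderOf g = 1 ∨ orderOf g = 3 → (g : G ⧸ N) ∈ Q := by
            intro g hg
            obtain ⟨R⟩ : Nonempty (Sylow 3 (G ⧸ N)) := inferInstance
            have hd := orderOf_map_dvd (QuotientGroup.mk' N) g
            have hpow : IsPGroup 3 (Subgroup.zpowers (g : G ⧸ N)) := by
              rcases hg with e | e <;> rw [e] at hd
              · exact IsPGroup.of_card (n := 0) (by rw [Nat.card_zpowers]; exact (Nat.dvd_one.1 hd).trans (pow_zero 3).symm)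
              · rcases (Nat.dvd_prime Nat.prime_three).1 hd with e' | e'
                · exact IsPGroup.of_card (n := 0) (by rw [Nat.card_zpowers, pow_zero]; exact e')
                · exact IsPGroup.of_card (n := 1) (by rw [Nat.card_zpowers, pow_one]; exact e')
            obtain ⟨S, hS⟩ := hpow.exists_le_sylow
            have hQS : Q = (S : Subgroup (G ⧸ N)) := Subgroup.eq_of_le_of_card_ge
              (hQdef ▸ Cfsg.Agent.Core.pCore_le_sylow S) (by
                rw [S.card_eq_multiplicity, hc, hQc, show (6 : ℕ) = 2 * 3 by norm_num,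
                  Nat.factorization_mul (by norm_num) (by norm_num),
                  Nat.Prime.factorization Nat.prime_two, Nat.Prime.factorization Nat.prime_three]
                simp)
            rw [hQS]; exact hS (Subgroup.mem_zpowers _)
          rcases hord (n * (t * ρ ^ i)) with e | e | e | e
          · exact absurd (h3 _ (Or.inl e)) him
          · exact Or.inl e
          · exact absurd (h3 _ (Or.inr e)) him
          · exact Or.inr e
        have h4n : (n * (t * ρ ^ i)) ^ 4 = 1 := by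
          rcases hn' with e | e
          · rw [show 4 = 2 * 2 by norm_num, pow_mul, ← e, pow_orderOf_eq_one, one_pow]
          · rw [← e, pow_orderOf_eq_one]
        have htinv : ∀ i : ℕ, (t * ρ ^ i) * (t * ρ ^ i) = 1 := by
          intro i
          calc (t * ρ ^ i) * (t * ρ ^ i) = (t * ρ ^ i * t⁻¹) * (t * t) * ρ ^ i := by group
            _ = (t * ρ * t⁻¹) ^ i * ρ ^ i := by rw [htt, conj_pow, mul_one]
            _ = (ρ ^ 3) ^ i := by rw [htρ, mul_pow_comm_aux ρ i]
            _ = 1 := by rw [hρ3 ρ hρ, one_pow]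
        have hsquare : (n * (t * ρ ^ i)) ^ 2 = n * c i := by
          subst hcdef
          calc (n * (t * ρ ^ i)) ^ 2 = n * ((t * ρ ^ i) * n * (t * ρ ^ i)) := by rw [pow_two]; group
            _ = n * ((t * ρ ^ i) * n * (t * ρ ^ i)⁻¹) := by rw [inv_eq_of_mul_eq_one_right (htinv i)]
            _ = n * (t * (ρ ^ i * n * (ρ ^ i)⁻¹) * t⁻¹) := by group
        rw [← hsquare, ← pow_mul]; exact h4n
      -- squares of the images
      obtain ⟨w, hwdef⟩ : ∃ w : ℕ → N, w = fun i => ⟨c i, hcN i⟩ := ⟨_, rfl⟩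
      obtain ⟨m, hm⟩ : ∃ m : N, (m : G) = n := ⟨⟨n, hn⟩, rfl⟩
      have hw : ∀ i, (m * w i) ^ 2 = 1 := fun i => Subtype.ext (by
        subst hwdef; simp only [SubmonoidClass.coe_pow, Subgroup.coe_mul, hm]; exact hsqi i)
      have hsq2 : ∀ i, (w i) ^ 2 = (m ^ 2)⁻¹ * ⁅m, w i⁆ := by
        intro i
        have hcz := hcen m (w i)
        have h : m ^ 2 * ⁅m, w i⁆⁻¹ * (w i) ^ 2 = 1 := by
          rw [← hw i]
          calc m ^ 2 * ⁅m, w i⁆⁻¹ * (w i) ^ 2 = m * (m * ⁅m, w i⁆⁻¹) * (w i * w i) := by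
                rw [pow_two, pow_two]; group
            _ = m * (⁅m, w i⁆⁻¹ * m) * (w i * w i) := by rw [((hcz m).inv_left).eq]
            _ = (m * w i) ^ 2 := by rw [commutatorElement_def, pow_two]; group
        have h2 : Commute ⁅m, w i⁆⁻¹ (m ^ 2) := ((hcz m).inv_left).pow_right 2
        rw [← h2.eq, mul_assoc] at h
        calc (w i) ^ 2 = (m ^ 2)⁻¹ * (m ^ 2 * (w i) ^ 2) := by group
          _ = _ := by rw [eq_inv_of_mul_eq_one_right h, inv_inv]
      have hp : w 0 * w 1 * w 2 = 1 := Subtype.ext (by subst hwdef; simpa using hprod)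
      have hw01 : Commute (w 0) (w 1) := Subtype.ext (by subst hwdef; exact hc01.eq)
      have hp2 : (w 0) ^ 2 * (w 1) ^ 2 * (w 2) ^ 2 = 1 := by
        rw [← hw01.mul_pow, eq_inv_of_mul_eq_one_left hp, inv_pow, inv_mul_cancel]
      have hcomm : ⁅m, w 0⁆ * ⁅m, w 1⁆ * ⁅m, w 2⁆ = 1 := by
        have hmul : ∀ x y : N, ⁅m, x * y⁆ = ⁅m, x⁆ * ⁅m, y⁆ := by
          intro x y
          calc ⁅m, x * y⁆ = ⁅m, x⁆ * (x * ⁅m, y⁆ * x⁻¹) := by simp only [commutatorElement_def]; group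
            _ = _ := by rw [← (hcen m y x).eq, mul_inv_cancel_right]
        rw [← hmul, ← hmul, hp]; simp [commutatorElement_def]
      have h6 : (m ^ 2)⁻¹ * (m ^ 2)⁻¹ * (m ^ 2)⁻¹ = 1 := by
        rw [hsq2, hsq2, hsq2] at hp2
        calc (m ^ 2)⁻¹ * (m ^ 2)⁻¹ * (m ^ 2)⁻¹
            = (m ^ 2)⁻¹ * (m ^ 2)⁻¹ * (m ^ 2)⁻¹ * (⁅m, w 0⁆ * ⁅m, w 1⁆ * ⁅m, w 2⁆) := by rw [hcomm, mul_one]
          _ = (m ^ 2)⁻¹ * (m ^ 2)⁻¹ * ((m ^ 2)⁻¹ * ⁅m, w 0⁆) * ⁅m, w 1⁆ * ⁅m, w 2⁆ := by simp only [mul_assoc]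
          _ = (m ^ 2)⁻¹ * (m ^ 2)⁻¹ * (⁅m, w 0⁆ * (m ^ 2)⁻¹) * ⁅m, w 1⁆ * ⁅m, w 2⁆ := by rw [(hcen m (w 0) _).eq]
          _ = (m ^ 2)⁻¹ * ((m ^ 2)⁻¹ * ⁅m, w 0⁆) * ((m ^ 2)⁻¹ * ⁅m, w 1⁆) * ⁅m, w 2⁆ := by simp only [mul_assoc]
          _ = (m ^ 2)⁻¹ * (⁅m, w 0⁆ * (m ^ 2)⁻¹) * (⁅m, w 1⁆ * (m ^ 2)⁻¹) * ⁅m, w 2⁆ := by
              rw [(hcen m (w 0) _).eq, (hcen m (w 1) _).eq]
          _ = 1 := by rw [← hp2]; simp only [mul_assoc]
      have h6' : (n ^ 2) ^ 3 = 1 := by
        have h := congrArg (fun x : N => ((x : G))⁻¹) h6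
        simpa [hm, pow_succ, mul_assoc] using h
      have h4' := two_power hord hNp hn
      calc n ^ 2 = (n ^ 2) ^ 3 * ((n ^ 4))⁻¹ := by group
        _ = 1 := by rw [h6', h4', inv_one, one_mul]
    refine ⟨⟨⟨⟨fun x y => Subtype.ext ?_⟩⟩, hsq⟩, ?_⟩
    · have hx := hsq x x.2
      have hy := hsq y y.2
      have hxy := hsq ((x : G) * y) (mul_mem x.2 y.2)
      rw [pow_two] at hx hy hxy
      show (x : G) * y = y * x
      rw [← inv_eq_of_mul_eq_one_right hxy, mul_inv_rev, inv_eq_of_mul_eq_one_right hx,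
        inv_eq_of_mul_eq_one_right hy]
    · refine equiv_perm_three hc (t := (t : G ⧸ N)) (r := (ρ : G ⧸ N)) ?_ ?_
      · have h := orderOf_map_dvd (QuotientGroup.mk' N) t
        rw [hto] at h
        rcases (Nat.dvd_prime Nat.prime_two).1 h with e | e
        · exfalso
          apply hτ
          rw [QuotientGroup.mk'_apply, ← one_mul ((t0 : G ⧸ N))]
          have : (t : G ⧸ N) = 1 := orderOf_eq_one_iff.1 e
          rw [ht, QuotientGroup.mk_mul, QuotientGroup.mk_inv, (QuotientGroup.eq_one_iff a).2 haN, inv_one,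
            one_mul] at this
          rw [this, one_mul]; exact one_mem _
        · exact e
      · rw [ht, QuotientGroup.mk_mul, QuotientGroup.mk_inv, (QuotientGroup.eq_one_iff a).2 haN, inv_one, one_mul]
        exact hnc

/-- The three-core case. -/
theorem case_three (hsol : Group.IsSolvable G) (h4 : ∃ g : G, orderOf g = 4) (h2 : pCore 2 G = ⊥) :
    ∃ (N : Subgroup G) (_ : N.Normal),
      Cfsg.IsElementaryAbelian 3 N ∧ ((IsCyclic (G ⧸ N) ∧ N.index = 4) ∨ Nonempty (G ⧸ N ≃* QuaternionGroup 2)) := by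
  haveI : Fact (Nat.Prime 2) := ⟨Nat.prime_two⟩
  haveI : Fact (Nat.Prime 3) := ⟨Nat.prime_three⟩
  obtain ⟨N, hNdef⟩ : ∃ N, N = pCore 3 G := ⟨_, rfl⟩
  haveI : N.Normal := hNdef ▸ inferInstance
  have hNp : IsPGroup 3 N := hNdef ▸ Cfsg.Agent.Core.pCore_isPGroup
  obtain ⟨g4, hg4⟩ := h4
  haveI : Nontrivial G := ⟨⟨g4, 1, fun e => by rw [e, orderOf_one] at hg4; omega⟩⟩
  have hF : fittingSubgroup G ≤ N := hNdef ▸ fitting_le hord (Set.pair_comm 3 2) h2
  have hCN : Subgroup.centralizer (N : Set G) ≤ N :=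
    ((Subgroup.centralizer_le (SetLike.coe_subset_coe.2 hF)).trans
      Cfsg.Agent.Core.centralizer_fittingSubgroup_le).trans hF
  -- involutions invert `N`
  have hinv : ∀ z : G, orderOf z = 2 → ∀ n ∈ N, z * n * z⁻¹ = n⁻¹ := by
    intro z hz n hn
    have hzz : z * z = 1 := by rw [← pow_two, ← hz, pow_orderOf_eq_one]
    have hfixz : ∀ m ∈ N, Commute z m → m = 1 := fun m hm hc => by
      by_contra h1
      exact no_six hord hc.symm (three_power hord hNp hm h1) hz
    obtain ⟨a, -, ha⟩ := exists_conj N hfixz hn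
    have : (n * z) * (n * z) = 1 := by
      rw [ha]; calc a * z * a⁻¹ * (a * z * a⁻¹) = a * (z * z) * a⁻¹ := by group
        _ = 1 := by rw [hzz]; group
    calc z * n * z⁻¹ = n⁻¹ * ((n * z) * (n * z)) * (z * z)⁻¹ := by group
      _ = n⁻¹ := by rw [this, hzz]; group
  have hz0 : orderOf (g4 ^ 2) = 2 := by
    rw [orderOf_pow_of_dvd (by norm_num) (by rw [hg4]; norm_num), hg4]
  have hNab : IsMulCommutative N := ⟨⟨fun x y => Subtype.ext (by
    have h := hinv _ hz0 ((x : G) * y) (mul_mem x.2 y.2)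
    rw [← conj_mul, hinv _ hz0 x x.2, hinv _ hz0 y y.2, mul_inv_rev] at h
    exact (inv_injective (by rw [Subgroup.coe_mul, Subgroup.coe_mul, mul_inv_rev, mul_inv_rev]; exact h)).symm)⟩⟩
  have hel : Cfsg.IsElementaryAbelian 3 N := ⟨hNab, fun n hn => by
    by_cases h1 : n = 1
    · rw [h1, one_pow]
    · exact three_power hord hNp hn h1 ▸ pow_orderOf_eq_one n⟩
  refine ⟨N, inferInstance, hel, ?_⟩
  -- orders in the quotient
  have hone : ∀ g : G, g ^ 4 = 1 → g ∈ N → g = 1 := by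
    intro g hg hgN
    by_contra h1
    have := orderOf_dvd_of_pow_eq_one hg
    rw [three_power hord hNp hgN h1] at this
    norm_num at this
  -- the quotient has no element of order three
  have hno3 : ∀ g : G, orderOf g = 3 → g ∈ N := by
    intro g hg
    by_contra hgN
    obtain ⟨z, hz⟩ : ∃ z, z = g4 ^ 2 := ⟨_, rfl⟩
    rw [← hz] at hz0
    have hmem : g * z * g⁻¹ * z⁻¹ ∈ N := hCN (by
      rw [Subgroup.mem_centralizer_iff]
      intro n hn
      have h1 : orderOf (g * z * g⁻¹) = 2 := by rw [← MulAut.conj_apply, MulEquiv.orderOf_eq, hz0]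
      have h2 := hinv _ h1 n⁻¹ (inv_mem hn)
      rw [inv_inv] at h2
      have h3 := hinv z⁻¹ (by rw [orderOf_inv, hz0]) n hn
      have h4 : (g * z * g⁻¹ * z⁻¹) * n * (g * z * g⁻¹ * z⁻¹)⁻¹ = n := by
        calc (g * z * g⁻¹ * z⁻¹) * n * (g * z * g⁻¹ * z⁻¹)⁻¹
            = (g * z * g⁻¹) * (z⁻¹ * n * z⁻¹⁻¹) * (g * z * g⁻¹)⁻¹ := by group
          _ = n := by rw [h3, h2]
      exact (mul_inv_eq_iff_eq_mul.1 h4).symm)
    have hfixz : ∀ m ∈ N, Commute z m → m = 1 := fun m hm hc => by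
      by_contra h1
      exact no_six hord hc.symm (three_power hord hNp hm h1) hz0
    obtain ⟨a, haN, ha⟩ := exists_conj N hfixz hmem
    rw [inv_mul_cancel_right] at ha
    have hcm : Commute (a⁻¹ * g) z := by
      show a⁻¹ * g * z = z * (a⁻¹ * g)
      calc a⁻¹ * g * z = a⁻¹ * (g * z * g⁻¹) * g := by group
        _ = a⁻¹ * (a * z * a⁻¹) * g := by rw [ha]
        _ = z * (a⁻¹ * g) := by group
    have hne : a⁻¹ * g ∉ N := fun h => hgN ((Subgroup.mul_mem_cancel_left N (inv_mem haN)).1 h)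
    rcases hord (a⁻¹ * g) with e | e | e | e
    · exact hne ((orderOf_eq_one_iff.1 e) ▸ one_mem N)
    all_goals first
      | exact no_six hord hcm e hz0
      | (have him := orderOf_map_dvd (QuotientGroup.mk' N) (a⁻¹ * g)
         have him2 := orderOf_map_dvd (QuotientGroup.mk' N) g
         rw [map_mul, QuotientGroup.mk'_apply, (QuotientGroup.eq_one_iff a⁻¹).2 (inv_mem haN), one_mul, e] at him
         rw [hg] at him2
         have := Nat.dvd_gcd him him2
         norm_num at this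
         exact hgN this)
  have hcom : ∀ z z' : G, orderOf z = 2 → orderOf z' = 2 → (z : G ⧸ N) = z' := by
    intro z z' hz hz'
    rw [QuotientGroup.eq]
    refine hCN ?_
    rw [Subgroup.mem_centralizer_iff]
    intro n hn
    have h2 := hinv z' hz' n hn
    have h3 := hinv z⁻¹ (by rw [orderOf_inv, hz]) n⁻¹ (inv_mem hn)
    rw [inv_inv n] at h3
    have h4 : (z⁻¹ * z') * n * (z⁻¹ * z')⁻¹ = n := by
      calc (z⁻¹ * z') * n * (z⁻¹ * z')⁻¹ = z⁻¹ * (z' * n * z'⁻¹) * z⁻¹⁻¹ := by group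
        _ = n := by rw [h2, h3]
    exact (mul_inv_eq_iff_eq_mul.1 h4).symm
  have hlift : ∀ g : G, (g : G ⧸ N) ≠ 1 → g ^ 4 = 1 := by
    intro g hg
    rcases hord g with e | e | e | e
    · exact absurd (by rw [orderOf_eq_one_iff.1 e]; rfl) hg
    · rw [show 4 = 2 * 2 by norm_num, pow_mul, ← e, pow_orderOf_eq_one, one_pow]
    · exact absurd ((QuotientGroup.eq_one_iff g).2 (hno3 g e)) hg
    · rw [← e, pow_orderOf_eq_one]
  have hQ4 : ∀ x : G ⧸ N, x ^ 4 = 1 := by
    intro x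
    obtain ⟨g, rfl⟩ := QuotientGroup.mk_surjective x
    by_cases h : (g : G ⧸ N) = 1
    · rw [h, one_pow]
    · rw [← QuotientGroup.mk_pow, hlift g h]; rfl
  have hQ2 : IsPGroup 2 (G ⧸ N) := fun x => ⟨2, by norm_num; exact hQ4 x⟩
  have huniq : ∀ u v : G ⧸ N, orderOf u = 2 → orderOf v = 2 → u = v := by
    intro u v hu hv
    have key : ∀ g : G, orderOf (g : G ⧸ N) = 2 → orderOf g = 2 := by
      intro g hg
      have h1 : g ^ 2 ∈ N := by
        rw [← QuotientGroup.eq_one_iff, QuotientGroup.mk_pow, ← hg, pow_orderOf_eq_one]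
      have hne : (g : G ⧸ N) ≠ 1 := fun e => by rw [e, orderOf_one] at hg; omega
      have h4' : (g ^ 2) ^ 4 = 1 := by
        rw [← pow_mul, mul_comm, pow_mul, hlift g hne, one_pow]
      refine orderOf_eq_prime (hone _ h4' h1) fun e => ?_
      exact hne (by rw [e]; rfl)
    obtain ⟨g, rfl⟩ := QuotientGroup.mk_surjective u
    obtain ⟨h, rfl⟩ := QuotientGroup.mk_surjective v
    exact hcom g h (key g hu) (key h hv)
  have h4Q : orderOf (g4 : G ⧸ N) = 4 := by
    refine orderOf_eq_prime_pow (p := 2) (n := 1) ?_ (hQ4 _)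
    rw [pow_one, ← QuotientGroup.mk_pow, QuotientGroup.eq_one_iff]
    intro h
    have := hone _ (by rw [← pow_mul, mul_comm, pow_mul, ← hg4, pow_orderOf_eq_one, one_pow]) h
    rw [this, orderOf_one] at hz0; omega
  rcases Cfsg.Agent.Fusion.cyclic_or_quaternion hQ2 huniq with hcyc | ⟨k, hk, ⟨e⟩⟩
  · left
    haveI := hcyc
    refine ⟨hcyc, ?_⟩
    obtain ⟨c, hc⟩ := IsCyclic.exists_generator (α := G ⧸ N)
    have h1 : Nat.card (G ⧸ N) = orderOf c := (orderOf_eq_card_of_forall_mem_zpowers hc).symm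
    have h2 : orderOf c ∣ 4 := orderOf_dvd_of_pow_eq_one (hQ4 c)
    have h3 := orderOf_dvd_natCard (g4 : G ⧸ N)
    rw [h4Q, h1] at h3
    show Nat.card (G ⧸ N) = 4
    rw [h1]; exact Nat.dvd_antisymm h2 h3
  · right
    have hk1 : k = 1 := by
      by_contra hk1
      haveI : NeZero (2 ^ k) := ⟨pow_ne_zero _ two_ne_zero⟩
      have h1 : orderOf (e.symm (QuaternionGroup.a 1)) ∣ 4 := orderOf_dvd_of_pow_eq_one (hQ4 _)
      rw [MulEquiv.orderOf_eq e.symm, QuaternionGroup.orderOf_a_one] at h1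
      have h2 : 2 ^ 2 ≤ 2 ^ k := Nat.pow_le_pow_right (by norm_num) (by omega)
      have h3 := Nat.le_of_dvd (by norm_num) h1
      norm_num at h2; omega
    subst hk1
    exact ⟨e⟩

end Main

/-- A finite group whose set of element orders is exactly {1, 2, 3, 4} has a normal subgroup N such that either N is a 2-group of exponent 4 and nilpotency class at most 2 with G/N of order 3, or N is an elementary abelian 2-group with G/N isomorphic to the symmetric group of degree 3, or N is an elementary abelian 3-group with G/N cyclic of order 4 or quaternion of order 8. -/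
theorem result {G : Type*} [Group G] [Finite G] (h : Set.range (orderOf : G → ℕ) = {k : ℕ | 1 ≤ k ∧ k ≤ 4}) :
    ∃ (N : Subgroup G) (_ : N.Normal),
      (IsPGroup 2 ↥N ∧ Monoid.exponent ↥N = 4 ∧ Group.nilpotencyClass ↥N ≤ 2 ∧ N.index = 3) ∨
      (Cfsg.IsElementaryAbelian 2 N ∧ Nonempty (G ⧸ N ≃* Equiv.Perm (Fin 3))) ∨
      (Cfsg.IsElementaryAbelian 3 N ∧ ((IsCyclic (G ⧸ N) ∧ N.index = 4) ∨ Nonempty (G ⧸ N ≃* QuaternionGroup 2))) := by
  have hord : ∀ g : G, orderOf g = 1 ∨ orderOf g = 2 ∨ orderOf g = 3 ∨ orderOf g = 4 := by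
    intro g
    have h' : orderOf g ∈ {k : ℕ | 1 ≤ k ∧ k ≤ 4} := h ▸ Set.mem_range_self g
    obtain ⟨h1, h2⟩ := h'
    omega
  have hex : ∀ k : ℕ, 1 ≤ k → k ≤ 4 → ∃ g : G, orderOf g = k := fun k h1 h2 => by
    have h' : k ∈ Set.range (orderOf : G → ℕ) := h ▸ ⟨h1, h2⟩
    exact h'
  obtain ⟨g3, hg3⟩ := hex 3 (by norm_num) (by norm_num)
  have h4 := hex 4 (by norm_num) (by norm_num)
  have hsol : Group.IsSolvable G := by
    refine Cfsg.Agent.ThreeInv.isSolvable_two_primes 3 Nat.prime_three fun p hp hd => ?_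
    haveI := Fact.mk hp
    obtain ⟨g, hg⟩ := exists_prime_orderOf_dvd_card' p hd
    rcases hord g with e | e | e | e <;> rw [hg] at e
    exacts [absurd e hp.ne_one, Or.inl e, Or.inr e, absurd (e ▸ hp) (by norm_num)]
  by_cases hN : Cfsg.pCore 2 G = ⊥
  · obtain ⟨N, hn, hN'⟩ := case_three hord hsol h4 hN
    exact ⟨N, hn, Or.inr (Or.inr hN')⟩
  · obtain ⟨N, hn, hN'⟩ := case_two hord hsol (hg3 ▸ orderOf_dvd_natCard g3) h4 hN
    exact ⟨N, hn, hN'.imp id Or.inl⟩

end Cfsg.Agent.S4006
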