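import Cfsg.Statements.S0223
import Cfsg.Agent.Invol.StronglyEmbedded

set_option autoImplicit false
open Cfsg

namespace Cfsg.Agent.S0223

/-- Let H be a proper subgroup of even order of the finite group G. Then H is strongly embedded if and only if (i) C_G(t) ≤ H for every involution t of H and (ii) H controls fusion of its involutions: involutions of H conjugate in G are conjugate in H. -/
theorem result {G : Type*} [Group G] [Finite G] (H : Subgroup G) (hH : H ≠ ⊤) (heven : Even (Nat.card H)) : Cfsg.IsStronglyEmbedded H ↔ ((∀ t ∈ H, orderOf t = 2 → Subgroup.centralizer ({t} : Set G) ≤ H) ∧ (∀ t ∈ H, ∀ s ∈ H, orderOf t = 2 → orderOf s = 2 → IsConj t s → ∃ h ∈ H, h * t * h⁻¹ = s)) := by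
  constructor
  · intro hse
    refine ⟨fun t ht h2 => Invol.se_centralizer_le hse h2 ht, fun t ht s hs h2 _ hc => ?_⟩
    obtain ⟨c, rfl⟩ := isConj_iff.1 hc
    refine ⟨c, ?_, rfl⟩
    have h := Invol.se_mem hse (t := t) (g := c⁻¹) h2 ht (by rwa [inv_inv])
    exact inv_inv c ▸ inv_mem h
  · rintro ⟨h1, h2⟩
    refine (Invol.se_iff H).2 ⟨hH, heven, fun t g ht htH htg => ?_⟩
    have hs : orderOf (g⁻¹ * t * g) = 2 := by
      have := Invol.orderOf_conj g⁻¹ t
      rw [inv_inv] at this
      omega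
    obtain ⟨h, hh, he⟩ := h2 t htH (g⁻¹ * t * g) htg ht hs (isConj_iff.2 ⟨g⁻¹, by rw [inv_inv]⟩)
    have hc : g * h ∈ Subgroup.centralizer ({t} : Set G) := by
      rw [Subgroup.mem_centralizer_singleton_iff, ← mul_inv_eq_iff_eq_mul]
      calc g * h * t * (g * h)⁻¹ = g * (h * t * h⁻¹) * g⁻¹ := by group
        _ = t := by rw [he]; group
    have := mul_mem (h1 t htH ht hc) (inv_mem hh)
    rwa [mul_inv_cancel_right] at this

end Cfsg.Agent.S0223
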