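import Cfsg.Statements.S1358
import Cfsg.Agent.OddLocal.UStructure
-- import your own Cfsg.Agent.* helpers here

set_option autoImplicit false
open Cfsg Cfsg.Agent Cfsg.Agent.OddLocal Subgroup

namespace Cfsg.Agent.S1358

/-- Let G be a minimal simple group of odd order and M a maximal subgroup with standard factorisation M = K U M_σ. Then for every prime p, every Sylow p-subgroup of U is abelian and has no elementary abelian subgroup of order p ^ 3. -/
theorem result {G : Type*} [Group G] [Finite G] (hG : Cfsg.IsMinSimpleOddOrder G)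
    (M : Subgroup G) (hM : IsCoatom M) (K U : Subgroup G) (hKU : Cfsg.IsSigmaDecomposition M K U) :
    ∀ (p : ℕ), p.Prime → ∀ P : Sylow p U, IsMulCommutative (P : Subgroup U) ∧ Cfsg.PRankLE p 2 (P : Subgroup U) := by
  intro p hp P
  haveI := Fact.mk hp
  have hUM : U ≤ M := hKU.compl.1
  have hinj : Function.Injective ((inclusion hUM).comp (P : Subgroup U).subtype) :=
    (inclusion_injective hUM).comp (P : Subgroup U).subtype_injective
  by_cases hd : p ∣ Nat.card U
  · have hσ : p ∉ Cfsg.sigma M := ((sigmaDecomposition_compl hG hM hKU).2 p hp hd).2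
    refine ⟨?_, fun B hB hBp => ?_⟩
    · have hc := comm_of_not_sigma hG hM hσ (P.2.map U.subtype) ((map_subtype_le _).trans hUM)
      exact ⟨⟨fun a b => Subtype.ext (Subtype.ext (show ((a : U) : G) * ((b : U) : G) = ((b : U) : G) * ((a : U) : G)
        from congrArg (fun z : ↥((P : Subgroup U).map U.subtype) => (z : G)) (@mul_comm' _ _ hc
        ⟨_, mem_map_of_mem U.subtype a.2⟩ ⟨_, mem_map_of_mem U.subtype b.2⟩)))⟩⟩
    · have h2 : Cfsg.PRankLE p 2 ↥M := by
        by_contra hc
        exact hσ (alpha_subset_sigma hG hM ⟨hp, hc⟩)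
      have := h2 (B.map ((inclusion hUM).comp (P : Subgroup U).subtype))
        (@Subgroup.map_isMulCommutative _ _ _ _ B _ hB) (by
          rintro _ ⟨b, hb, rfl⟩
          rw [← map_pow, hBp b hb, map_one])
      rwa [card_map_of_injective hinj] at this
  · have h1 : (P : Subgroup U) = ⊥ := by
      rw [← Subgroup.card_eq_one, P.card_eq_multiplicity, Nat.factorization_eq_zero_of_not_dvd hd,
        pow_zero]
    refine ⟨?_, fun B _ _ => ?_⟩
    · rw [h1]; infer_instance
    · refine le_trans (card_le_card_group B) ?_
      rw [h1, card_bot]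
      exact Nat.one_le_pow _ _ hp.pos

end Cfsg.Agent.S1358
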