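import Cfsg.Statements.S1457
import Cfsg.Agent.QdFree.Consequences

set_option autoImplicit false
open Cfsg

namespace Cfsg.Agent.S1457

/-- Let G be a solvable group of odd order, p a prime, S a Sylow p-subgroup of G and A an abelian subgroup of S normal in S. Then A ≤ O_{p',p}(G). -/
theorem result {G : Type*} [Group G] [Finite G] [Group.IsSolvable G] (hodd : Odd (Nat.card G)) (p : ℕ) [Fact p.Prime] (S : Sylow p G) (A : Subgroup G) (hA : A ≤ (S : Subgroup G)) (hAc : IsMulCommutative A)
    (hAn : (S : Subgroup G) ≤ Subgroup.normalizer (A : Set G)) :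
    A ≤ Cfsg.pPrimePCore p G := by
  by_cases hp : p = 2
  · have hbot : A = ⊥ := eq_bot_iff.mpr fun a ha => by
      obtain ⟨k, hk⟩ := S.2 ⟨a, hA ha⟩
      obtain ⟨j, -, hj⟩ := (Nat.dvd_prime_pow (Fact.out : p.Prime)).mp
        (orderOf_dvd_of_pow_eq_one (congrArg Subtype.val hk : a ^ p ^ k = 1))
      rcases Nat.eq_zero_or_pos j with h | h
      · rw [h, pow_zero, orderOf_eq_one_iff] at hj
        exact Subgroup.mem_bot.mpr hj
      · exact absurd (hp ▸ (dvd_pow_self p h.ne').trans (hj ▸ orderOf_dvd_natCard a))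
          hodd.not_two_dvd_nat
    rw [hbot]
    exact bot_le
  set f := QuotientGroup.mk' (Cfsg.pPrimeCore p G)
  have hf : Function.Surjective f := QuotientGroup.mk'_surjective _
  set Q := Cfsg.pCore p (G ⧸ Cfsg.pPrimeCore p G)
  change A ≤ Q.comap f
  intro a ha
  have hAc' : IsMulCommutative (A.map f) := by
    refine ⟨⟨?_⟩⟩
    rintro ⟨_, x, hx, rfl⟩ ⟨_, y, hy, rfl⟩
    apply Subtype.ext
    show f x * f y = f y * f x
    rw [← map_mul, ← map_mul,
      show x * y = y * x from congrArg Subtype.val (hAc.is_comm.comm ⟨x, hx⟩ ⟨y, hy⟩)]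
  have hQN : Q ≤ Subgroup.normalizer (A.map f : Set (G ⧸ Cfsg.pPrimeCore p G)) :=
    (Core.pCore_le_sylow (S.mapSurjective hf)).trans
      ((Subgroup.map_mono hAn).trans (Subgroup.le_normalizer_map f))
  have hq := QdFree.mk_mem_pCore_of_odd hp
    (hodd.of_dvd_nat (Cfsg.pPrimeCore p G).card_quotient_dvd_card) (Core.pCore_isPGroup (p := p))
    (QdFree.quadratic_of_normalized hAc' hQN (Subgroup.mem_map_of_mem f ha))
  set C := Subgroup.centralizer (Q : Set (G ⧸ Cfsg.pPrimeCore p G))
  have hC : C ≤ Q := Layer.isPConstrained_iff_selfCentral.mp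
    (Layer.isPConstrained_of_isSolvable (G := G))
  have hle : (Cfsg.pCore p ((G ⧸ Cfsg.pPrimeCore p G) ⧸ C)).comap (QuotientGroup.mk' C) ≤ Q :=
    Core.le_pCore (hN := (inferInstance : (Cfsg.pCore p _).Normal).comap _)
      (Core.pCore_isPGroup.comap_of_ker_isPGroup _
        (by rw [QuotientGroup.ker_mk']; exact Core.pCore_isPGroup.to_le hC))
  exact hle hq

end Cfsg.Agent.S1457
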