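import Cfsg.Statements.S1458
import Cfsg.Agent.Fusion.ZJElem
import Cfsg.Agent.QdFree.PStable
import Cfsg.Agent.Layer.PConstraint
import Cfsg.Agent.OddLocal.PLengthOne

set_option autoImplicit false
open Cfsg

namespace Cfsg.Agent.S1458

/-- Let G be a solvable group of odd order, p a prime and S a Sylow p-subgroup of G. Then the subgroup generated by the centre of the Thompson subgroup of S and O_{p'}(G) is normal in G. -/
theorem result {G : Type*} [Group G] [Finite G] [Group.IsSolvable G] (hodd : Odd (Nat.card G)) (p : ℕ) [Fact p.Prime] (S : Sylow p G) :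
    (Cfsg.centerThompsonOf p (S : Subgroup G) ⊔ Cfsg.pPrimeCore p G).Normal := by
  rcases eq_or_ne p 2 with rfl | hp
  · have hS : (S : Subgroup G) = ⊥ := by
      obtain ⟨n, hn⟩ := IsPGroup.iff_card.mp S.2
      rcases n with _ | n
      · exact Subgroup.eq_bot_of_card_eq _ (by simpa using hn)
      · exact absurd ((hn ▸ dvd_pow_self 2 n.succ_ne_zero : (2 : ℕ) ∣ Nat.card (S : Subgroup G)).trans
          (Subgroup.card_subgroup_dvd_card _)) hodd.not_two_dvd_nat
    rw [le_bot_iff.mp ((Fusion.centerThompsonOf_le _).trans hS.le), bot_sup_eq]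
    infer_instance
  set N := Cfsg.pPrimeCore p G
  set f := QuotientGroup.mk' N
  have hker : f.ker = N := QuotientGroup.ker_mk' N
  have hfs : Function.Surjective f := QuotientGroup.mk'_surjective N
  have hst : Fusion.PStableNormal p (G ⧸ N) :=
    Fusion.pStableNormal_of_isNormalizerPStable (QdFree.isNormalizerPStable_of_free hp fun P _ _ hinv => by
      have h1 : Nat.card (Matrix.SpecialLinearGroup (Fin 2) (ZMod p)) ∣ Nat.card (G ⧸ N) := by
        obtain ⟨H, R, hR, ⟨φ⟩⟩ := hinv
        exact (((Nat.card_congr φ.toEquiv).symm.dvd.trans (Subgroup.card_quotient_dvd_card _)).trans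
          (Subgroup.card_subgroup_dvd_card H)).trans (Subgroup.card_subgroup_dvd_card _)
      have h2 : 2 ∣ Nat.card (Matrix.SpecialLinearGroup (Fin 2) (ZMod p)) := by
        have hne : (-1 : Matrix.SpecialLinearGroup (Fin 2) (ZMod p)) ≠ 1 := by
          intro h
          have h3 := congrArg (fun m : Matrix.SpecialLinearGroup (Fin 2) (ZMod p) => m.1 0 0) h
          have : Fact (2 < p) := ⟨lt_of_le_of_ne (Fact.out : p.Prime).two_le (Ne.symm hp)⟩
          simp at h3
          exact ZMod.neg_one_ne_one h3
        have h4 : orderOf (-1 : Matrix.SpecialLinearGroup (Fin 2) (ZMod p)) = 2 :=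
          orderOf_eq_prime (by simp) hne
        exact (dvd_of_eq h4.symm).trans (orderOf_dvd_natCard _)
      exact hodd.not_two_dvd_nat ((h2.trans h1).trans (Subgroup.card_quotient_dvd_card N)))
  have hn := Fusion.normal_centerThompsonOf hp hst (Fusion.isStronglyClosed_self (S.mapSurjective hfs))
    (Layer.isPConstrained_iff_selfCentral.mp Layer.isPConstrained_of_isSolvable)
  have hmap := (Fusion.GlaubermanThompson.isZSel_centerThompsonOf (p := p) hp).map G (G ⧸ N) f
    (S : Subgroup G) (by rw [hker]; exact OddLocal.inf_pPrimeCore_eq_bot S.2)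
  rw [Sylow.coe_mapSurjective, ← hmap] at hn
  have := hn.comap f
  rwa [Subgroup.comap_map_eq, hker] at this

end Cfsg.Agent.S1458
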