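import Cfsg.Statements.S1423
import Cfsg.Agent.OddLocal.SigmaLineUnique
-- import your own Cfsg.Agent.* helpers here

set_option autoImplicit false
open Cfsg

namespace Cfsg.Agent.S1423

/-- Let G be a minimal simple group of odd order, M a maximal subgroup, p ∈ σ(M), X ≤ M a subgroup of order p and P a Sylow p-subgroup of M_σ. If p ∈ β(M) or X ≤ (M_σ)', then C_G(X) ≤ M, M is the unique maximal subgroup containing C_G(X), and M is the unique maximal subgroup containing P. -/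
theorem result {G : Type*} [Group G] [Finite G] (hG : Cfsg.IsMinSimpleOddOrder G)
    (M : Subgroup G) (hM : IsCoatom M) (p : ℕ) [Fact p.Prime] (hp : p ∈ Cfsg.sigma M) (X : Subgroup G) (hXM : X ≤ M) (hX : Nat.card X = p)
    (P : Sylow p ↥(Cfsg.sigmaCore M)) (h : p ∈ Cfsg.beta M ∨ X ≤ ⁅Cfsg.sigmaCore M, Cfsg.sigmaCore M⁆) :
    (Subgroup.centralizer (X : Set G) ≤ M ∧ ∀ L : Subgroup G, IsCoatom L → Subgroup.centralizer (X : Set G) ≤ L → L = M) ∧ Cfsg.InUniqueMaximal ((P : Subgroup ↥(Cfsg.sigmaCore M)).map (Cfsg.sigmaCore M).subtype) ∧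
      (P : Subgroup ↥(Cfsg.sigmaCore M)).map (Cfsg.sigmaCore M).subtype ≤ M := by
  have hXg : IsPGroup p X := IsPGroup.of_card (n := 1) (by rw [hX, pow_one])
  obtain ⟨x, hxX, hx1⟩ := OddLocal.exists_mem_ne_one X (fun e => by
    rw [e, Subgroup.card_bot] at hX; exact (Fact.out : p.Prime).ne_one hX.symm)
  have hxp : x ^ p = 1 := by
    have h1 := pow_card_eq_one' (x := (⟨x, hxX⟩ : X))
    rw [hX] at h1
    exact congrArg Subtype.val h1
  have hXx : Subgroup.zpowers x = X := Subgroup.eq_of_le_of_card_ge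
    (Subgroup.zpowers_le.mpr hxX) (by rw [Nat.card_zpowers, orderOf_eq_prime hxp hx1, hX])
  have h' : p ∈ Cfsg.beta M ∨ x ∈ ⁅Cfsg.sigmaCore M, Cfsg.sigmaCore M⁆ :=
    h.imp id fun h => h hxX
  have hc := OddLocal.unique_centralizer_line hG hM hp (hXM hxX) hx1 hxp h'
  have hC : Subgroup.centralizer (X : Set G) = Subgroup.centralizer ({x} : Set G) := by
    rw [← hXx, Subgroup.zpowers_eq_closure, Subgroup.centralizer_closure]
  obtain ⟨S, hS⟩ := OddLocal.sylow_of_sigmaCore hG hM hp P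
  refine ⟨hC ▸ hc, hS ▸ OddLocal.inUniqueMaximal_sylow hG hM hp S
    (hS ▸ Subgroup.map_subtype_le _) (hXM hxX) hx1 hxp h',
    (Subgroup.map_subtype_le _).trans (OddLocal.sigmaCore_le M)⟩

end Cfsg.Agent.S1423
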