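import Cfsg.Statements.S1378
import Cfsg.Agent.OddLocal.SigmaPartition
-- import your own Cfsg.Agent.* helpers here

set_option autoImplicit false
open Cfsg Cfsg.Agent Cfsg.Agent.OddLocal

namespace Cfsg.Agent.S1378

/-- Let G be a minimal simple group of odd order. Then every prime dividing the order of G belongs to σ(M) for some maximal subgroup M, and if σ(M) and σ(N) have a prime in common for maximal subgroups M, N then N is conjugate to M; so the sets σ(M_i) over representatives of the conjugacy classes of maximal subgroups partition the prime divisors of #G. -/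
theorem result {G : Type*} [Group G] [Finite G] (hG : Cfsg.IsMinSimpleOddOrder G) :
    (∀ p : ℕ, p.Prime → p ∣ Nat.card G → ∃ M : Subgroup G, IsCoatom M ∧ p ∈ Cfsg.sigma M) ∧
      ∀ M N : Subgroup G, IsCoatom M → IsCoatom N → (Cfsg.sigma M ∩ Cfsg.sigma N).Nonempty → ∃ g : G, N = M.map (MulAut.conj g).toMonoidHom := by
  refine ⟨fun p hp hd => ?_, fun M N hM hN h => ?_⟩
  · haveI := Fact.mk hp
    obtain ⟨S⟩ : Nonempty (Sylow p G) := inferInstance
    have hS1 : (S : Subgroup G) ≠ ⊥ := S.ne_bot_of_dvd_card hd
    obtain ⟨M, hM, hle⟩ := (IsCoatomic.eq_top_or_exists_le_coatom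
      (Subgroup.normalizer ((S : Subgroup G) : Set G))).resolve_left
        (ne_top_of_normal_ne_bot hG hS1 (ne_top_of_isPGroup_minSimple hG S.2))
    have hSM : (S : Subgroup G) ≤ M := Subgroup.le_normalizer.trans hle
    refine ⟨M, hM, hp, (S.dvd_card_of_dvd_card hd).trans (Subgroup.card_dvd_of_le hSM),
      S.subtype hSM, ?_⟩
    rwa [Sylow.coe_subtype, Subgroup.map_subgroupOf_eq_of_le hSM]
  · obtain ⟨p, hpM, hpN⟩ := h
    haveI := Fact.mk hpM.1
    exact exists_conj_of_sigma_inter hG hM hN hpM hpN

end Cfsg.Agent.S1378
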