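import Cfsg.Statements.S1432
import Cfsg.Agent.OddLocal.KappaFixed
import Cfsg.Agent.S1378
-- import your own Cfsg.Agent.* helpers here

set_option autoImplicit false
open Cfsg Cfsg.Agent Cfsg.Agent.OddLocal Subgroup

namespace Cfsg.Agent.S1432

/-- Let G be a minimal simple group of odd order, M a maximal subgroup, x a non-identity element of M_σ and x' a non-identity element of C_M(x) no prime divisor of whose order lies in σ(M). Then either all prime divisors of the order of x' lie in κ(M) and C_G(x) ≤ M; or all of them lie in τ₂(M), they all lie in σ(L) for a single maximal subgroup L, and C_G(x') ≤ M with M the unique maximal subgroup containing C_G(x'). -/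
theorem result {G : Type*} [Group G] [Finite G] (hG : Cfsg.IsMinSimpleOddOrder G)
    (M : Subgroup G) (hM : IsCoatom M) (x : G) (hx : x ∈ Cfsg.sigmaCore M) (hx1 : x ≠ 1) (x' : G) (hx' : x' ∈ M ⊓ Subgroup.centralizer ({x} : Set G)) (hx'1 : x' ≠ 1)
    (hσ : ∀ p : ℕ, p.Prime → p ∣ orderOf x' → p ∉ Cfsg.sigma M) :
    ((∀ p : ℕ, p.Prime → p ∣ orderOf x' → p ∈ Cfsg.kappa M) ∧ Subgroup.centralizer ({x} : Set G) ≤ M) ∨
      ((∀ p : ℕ, p.Prime → p ∣ orderOf x' → p ∈ Cfsg.tau2 M) ∧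
        (∃ L : Subgroup G, IsCoatom L ∧ ∀ p : ℕ, p.Prime → p ∣ orderOf x' → p ∈ Cfsg.sigma L) ∧
        (Subgroup.centralizer ({x'} : Set G) ≤ M ∧ ∀ L : Subgroup G, IsCoatom L → Subgroup.centralizer ({x'} : Set G) ≤ L → L = M)) := by
  obtain ⟨hx'M, hx'C⟩ := hx'
  obtain ⟨E, hE, hx'E⟩ := exists_compl_ge_of_not_sigma hG hM (zpowers_le.mpr hx'M)
    (fun s hs hd => hσ s hs (by rwa [Nat.card_zpowers] at hd))
  rw [zpowers_le] at hx'E
  have hcomm : Commute x' x := mem_centralizer_singleton_iff.mp hx'C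
  have hline : ∀ p : ℕ, p.Prime → p ∣ orderOf x' → ∃ z : G, orderOf z = p ∧ z ∈ zpowers x' ∧
      z ∈ E ∧ Commute z x := fun p hp hd => ⟨x' ^ (orderOf x' / p),
    orderOf_pow_orderOf_div (orderOf_pos x').ne' hd, pow_mem (mem_zpowers x') _, pow_mem hx'E _,
    hcomm.pow_left _⟩
  have hcases : ∀ p : ℕ, p.Prime → p ∣ orderOf x' → p ∈ Cfsg.kappa M ∨ p ∈ Cfsg.tau2 M := by
    intro p hp hd
    haveI := Fact.mk hp
    obtain ⟨z, hzo, -, hzE, hzx⟩ := hline p hp hd
    have hzc : Nat.card (zpowers z) = p := by rw [Nat.card_zpowers, hzo]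
    refine (tau_of_not_sigma hG hM (hσ p hp hd) (hzc ▸ card_dvd_of_le
      (zpowers_le.mpr (hE.1 hzE)))).imp_left fun h13 => kappa_of_fixed hG hM h13 hzc
      (zpowers_le.mpr (hE.1 hzE)) fun e => hx1 ((eq_bot_iff_forall _).mp e x ⟨hx, ?_⟩)
    rw [centralizer_zpowers]
    exact mem_centralizer_of_commute hzx.symm
  by_cases hk : ∃ p : ℕ, p.Prime ∧ p ∣ orderOf x' ∧ p ∈ Cfsg.kappa M
  · obtain ⟨p, hp, hd, hκ⟩ := hk
    haveI := Fact.mk hp
    obtain ⟨z, hzo, hzx', hzE, hzx⟩ := hline p hp hd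
    have hzc : Nat.card (zpowers z) = p := by rw [Nat.card_zpowers, hzo]
    obtain ⟨K, hK, hzK, hKE⟩ := exists_kappa_hall hG hM hE (zpowers_le.mpr hzE)
      (piNum_of_card_prime hzc hp hκ)
    rw [zpowers_le] at hzK
    have hK1 : K ≠ ⊥ := fun e => by
      rw [e, mem_bot] at hzK
      rw [hzK, orderOf_one] at hzo
      exact hp.ne_one hzo.symm
    have hz1 : z ≠ 1 := fun e => hp.ne_one (by rw [← hzo, e, orderOf_one])
    obtain ⟨-, hfix, ⟨U, hUE, hUn, -, -, hU, hfree⟩, -⟩ := kappa_structure hG hM hE hK hK1 hKE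
    refine Or.inl ⟨fun q hq hqd => (hcases q hq hqd).resolve_right fun h2 => ?_, ?_⟩
    · haveI := Fact.mk hq
      obtain ⟨w, hwo, hwx', hwE, -⟩ := hline q hq hqd
      have hqκ : q ∉ Cfsg.kappa M := fun hc => by
        rcases kappa_tau13 hG hM hc with h | h
        · exact h2.2.2.2 h.2.2.2.2
        · exact h2.2.2.2 h.2.2.2
      have hwU : w ∈ U := mem_of_isPiHallOf_normal (M := E) ⟨hUE, hU.2.1, fun s hs hπ hd' =>
        hU.2.2 s hs hπ (hd'.trans (Dvd.intro _ (relIndex_mul_relIndex U E M hUE hE.1)))⟩ hUn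
        (zpowers_le.mpr hwE) (piNum_of_card_prime (by rw [Nat.card_zpowers, hwo]) hq
          ⟨hq, hqκ, h2.2.1⟩) (mem_zpowers w)
      have hwz : w ∈ U ⊓ centralizer ({z} : Set G) :=
        ⟨hwU, mem_centralizer_singleton_iff.mpr (setLike_mul_comm hwx' hzx')⟩
      rw [hfree z hzK hz1, mem_bot] at hwz
      rw [hwz, orderOf_one] at hwo
      exact hq.ne_one hwo.symm
    · refine centralizer_kappa_fixed_le hG hM hK hK1 ?_ hx1
      rw [← hfix z hzK hz1]
      exact ⟨hx, mem_centralizer_of_commute hzx.symm⟩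
  push Not at hk
  have h2 : ∀ p : ℕ, p.Prime → p ∣ orderOf x' → p ∈ Cfsg.tau2 M := fun p hp hd =>
    (hcases p hp hd).resolve_left (hk p hp hd)
  refine Or.inr ⟨h2, ?_, unique_of_tau2_elt hG hM hx'M hx'1 h2 ⟨hx'M, x, hx, hx1, hcomm⟩⟩
  obtain ⟨p, hp, hd⟩ := Nat.exists_prime_and_dvd (mt orderOf_eq_one_iff.mp hx'1)
  haveI := Fact.mk hp
  obtain ⟨L, hL, hpL⟩ := (Cfsg.Agent.S1378.result hG).1 p hp (hd.trans (_root_.orderOf_dvd_natCard x'))
  exact ⟨L, hL, fun q hq hqd => by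
    haveI := Fact.mk hq
    exact tau2_pair_sigma hG hM (h2 p hp hd) (h2 q hq hqd) hL hpL⟩

end Cfsg.Agent.S1432
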