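import Cfsg.Statements.S1362
import Cfsg.Agent.OddLocal.UStructure
import Cfsg.Agent.S1432
-- import your own Cfsg.Agent.* helpers here

set_option autoImplicit false
open Cfsg Cfsg.Agent Cfsg.Agent.OddLocal Subgroup

namespace Cfsg.Agent.S1362

/-- Let G be a minimal simple group of odd order and M a maximal subgroup with standard factorisation M = K U M_σ, and let A(M) be the set of elements of U M_σ centralizing some non-identity element of M_σ. Then A(M) with M_σ removed is a TI-subset of G. -/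
theorem result {G : Type*} [Group G] [Finite G] (hG : Cfsg.IsMinSimpleOddOrder G)
    (M : Subgroup G) (hM : IsCoatom M) (K U : Subgroup G) (hKU : Cfsg.IsSigmaDecomposition M K U) :
    Cfsg.IsTISubset (Cfsg.sigmaA M U \ (Cfsg.sigmaCore M : Set G)) := by
  obtain ⟨hHall, hn⟩ := sigmaDecomposition_hall hG hM hKU
  set X := Cfsg.sigmaA M U \ (Cfsg.sigmaCore M : Set G) with hXdef
  have hconj : ∀ m ∈ M, ∀ a ∈ X, m * a * m⁻¹ ∈ X := by
    rintro m hm a ⟨⟨⟨haM, y, hy, hy1, hay⟩, haU⟩, haσ⟩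
    refine ⟨⟨⟨M.mul_mem (M.mul_mem hm haM) (M.inv_mem hm), MulAut.conj m y,
      (mem_normalizer_iff.mp (le_normalizer_sigmaCore M hm) y).mp hy,
      fun e => hy1 ((MulAut.conj m).injective (e.trans (map_one _).symm)), ?_⟩,
      (mem_normalizer_iff.mp (hn hm) a).mp haU⟩,
      fun hc => haσ ((mem_normalizer_iff.mp (le_normalizer_sigmaCore M hm) a).mpr hc)⟩
    change MulAut.conj m a * MulAut.conj m y = MulAut.conj m y * MulAut.conj m a
    rw [← map_mul, hay, map_mul]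
  have hMn : M ≤ Subgroup.normalizer X := by
    intro m hm
    refine mem_set_normalizer_iff.mpr fun a => ⟨hconj m hm a, fun ha => ?_⟩
    have h1 := hconj m⁻¹ (M.inv_mem hm) _ ha
    simpa [mul_assoc] using h1
  intro g hg a ha hga
  exfalso
  refine hg (hMn ?_)
  obtain ⟨⟨⟨haM, y, hy, hy1, hay⟩, haU⟩, haσ⟩ := ha
  obtain ⟨q, hq, hqd, hqσ⟩ : ∃ q : ℕ, q.Prime ∧ q ∣ orderOf a ∧ q ∉ Cfsg.sigma M := by
    by_contra hc
    push Not at hc
    exact haσ (le_sigmaCore hG hM (zpowers_le.mpr haM)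
      (fun q hq hd => hc q hq (by rwa [Nat.card_zpowers] at hd)) (mem_zpowers a))
  haveI := Fact.mk hq
  set v := a ^ (orderOf a / q) with hv
  have hvo : orderOf v = q := orderOf_pow_orderOf_div (orderOf_pos a).ne' hqd
  have hv1 : v ≠ 1 := fun e => hq.ne_one (by rw [← hvo, e, orderOf_one])
  have hvy : Commute v y := (show Commute a y from hay).pow_left _
  have hqall : ∀ s : ℕ, s.Prime → s ∣ orderOf v → s = q := fun s hs hd =>
    (Nat.prime_dvd_prime_iff_eq hs hq).mp (hvo ▸ hd)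
  rcases Cfsg.Agent.S1432.result hG M hM y hy hy1 v
      ⟨M.pow_mem haM _, mem_centralizer_of_commute hvy⟩ hv1
      (fun s hs hd => hqall s hs hd ▸ hqσ) with ⟨hκ, -⟩ | ⟨-, -, hC, hu⟩
  · exact (hHall.2.1 q hq (hvo ▸ Subgroup.orderOf_dvd_natCard _
      ((U ⊔ Cfsg.sigmaCore M).pow_mem haU _)) (hκ q hq hvo.symm.dvd)).elim
  obtain ⟨⟨⟨hbM, y', hy', hy'1, hby⟩, hbU⟩, hbσ⟩ := hga
  have hv'1 : g * v * g⁻¹ ≠ 1 := fun e => hv1 (conj_eq_one_iff.mp e)
  have hv'y : Commute (g * v * g⁻¹) y' := by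
    have h1 := (show Commute (g * a * g⁻¹) y' from hby).pow_left (orderOf a / q)
    rwa [conj_pow] at h1
  have hv'M : g * v * g⁻¹ ∈ M := by
    have h1 := M.pow_mem hbM (orderOf a / q)
    rwa [conj_pow] at h1
  have hv'o : ∀ s : ℕ, s.Prime → s ∣ orderOf (g * v * g⁻¹) → s = q := fun s hs hd =>
    hqall s hs (by rwa [← MulAut.conj_apply, MulEquiv.orderOf_eq] at hd)
  rcases Cfsg.Agent.S1432.result hG M hM y' hy' hy'1 _
      ⟨hv'M, mem_centralizer_of_commute hv'y⟩ hv'1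
      (fun s hs hd => hv'o s hs hd ▸ hqσ) with ⟨hκ, -⟩ | ⟨-, -, hC', -⟩
  · exact (hHall.2.1 q hq (hvo ▸ Subgroup.orderOf_dvd_natCard _
      ((U ⊔ Cfsg.sigmaCore M).pow_mem haU _)) (hκ q hq (by
        rw [← MulAut.conj_apply, MulEquiv.orderOf_eq, hvo]))).elim
  have h1 : centralizer ({v} : Set G) ≤ M.map (MulAut.conj g⁻¹).toMonoidHom := by
    intro c hc
    rw [mem_map_conj_iff, inv_inv]
    refine hC' (mem_centralizer_singleton_iff.mpr ?_)
    have := mem_centralizer_singleton_iff.mp hc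
    calc g * c * g⁻¹ * (g * v * g⁻¹) = g * (c * v) * g⁻¹ := by group
      _ = g * (v * c) * g⁻¹ := by rw [this]
      _ = g * v * g⁻¹ * (g * c * g⁻¹) := by group
  exact inv_mem_iff.mp (mem_of_map_conj_eq hG hM (hu _ (isCoatom_map_conj hM g⁻¹) h1))

end Cfsg.Agent.S1362
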