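import Cfsg.Statements.S1387
import Cfsg.Agent.Coprime.SchurZassenhaus
import Cfsg.Agent.Coprime.Tools
import Cfsg.Agent.OddLocal.Basic
-- import your own Cfsg.Agent.* helpers here

set_option autoImplicit false
open Cfsg

namespace Cfsg.Agent.S1387

/-- Let M be a subgroup of a finite group G with type-P data (W₁, U, W₂) and H = M_F. Then the Fitting subgroup F(M) is generated by H and the centralizer of H in U. -/
theorem result {G : Type*} [Group G] [Finite G] (M W₁ U W₂ : Subgroup G) (hP : Cfsg.IsTypePWith M W₁ U W₂) :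
    Cfsg.fittingOf M = Cfsg.fittingHallOf M ⊔ (U ⊓ Subgroup.centralizer (Cfsg.fittingHallOf M : Set G)) := by
  refine le_antisymm (fun f hf => ?_) (sup_le ?_ ?_)
  · have hHF : Cfsg.fittingHallOf M ≤ Cfsg.fittingOf M := hP.fitting_eq ▸ le_sup_left
    obtain ⟨h, hh, u, hu, rfl⟩ := hP.U_compl.2.2.2 f (hP.fitting_le hf)
    refine Subgroup.mul_mem_sup hh ⟨hu, ?_⟩
    exact OddLocal.mem_centralizer_fittingHallOf
      (hP.U_compl.2.1.trans (Subgroup.commutator_le_self M)) hP.U_compl.2.2.1 hHF hu
      (((Cfsg.fittingOf M).mul_mem_cancel_left (hHF hh)).mp hf)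
  · exact hP.fitting_eq ▸ le_sup_left
  · rw [← hP.fitting_eq]
    exact le_sup_of_le_right (inf_le_inf_right _
      (hP.U_compl.2.1.trans (Subgroup.commutator_le_self M)))

end Cfsg.Agent.S1387
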