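import Cfsg.Statements.S1470
import Mathlib.FieldTheory.Finite.Trace
import Mathlib.Algebra.Polynomial.BigOperators

set_option autoImplicit false
open Cfsg

namespace Cfsg.Agent.S1470

open Polynomial

/-- Let p and q be odd primes with (p^q − 1)/(p − 1) coprime to p − 1, and let E be the set of elements a of the field with p ^ q elements whose norm to the prime field is 1 and for which 2 − a also has norm 1. If a⁻¹ ∈ E for every a ∈ E and E has at least two elements, then p ≤ q. -/
theorem result (p q : ℕ) [Fact p.Prime] [Fact q.Prime] (hp : p ≠ 2) (hq : q ≠ 2) (hA : Nat.Coprime ((p ^ q - 1) / (p - 1)) (p - 1))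
    (hinv : ∀ a ∈ {a : GaloisField p q | Algebra.norm (ZMod p) a = 1 ∧ Algebra.norm (ZMod p) (2 - a) = 1}, a⁻¹ ∈ {a : GaloisField p q | Algebra.norm (ZMod p) a = 1 ∧ Algebra.norm (ZMod p) (2 - a) = 1})
    (h2 : 2 ≤ Set.ncard {a : GaloisField p q | Algebra.norm (ZMod p) a = 1 ∧ Algebra.norm (ZMod p) (2 - a) = 1}) :
    p ≤ q := by
  have hq0 : q ≠ 0 := (Fact.out : q.Prime).ne_zero
  set E := {a : GaloisField p q | Algebra.norm (ZMod p) a = 1 ∧ Algebra.norm (ZMod p) (2 - a) = 1}
  obtain ⟨a, ha, ha1⟩ := Set.exists_ne_of_one_lt_ncard (show 1 < E.ncard from h2) 1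
  set b := a - 1 with hb
  have hb0 : b ≠ 0 := sub_ne_zero.mpr ha1
  set N := fun x : GaloisField p q => Algebra.norm (ZMod p) x
  have hne : ∀ x, N x = 1 → x ≠ 0 := fun x hx h => by simp [N, h] at hx
  have key : ∀ n : ℕ, N (1 - ((n : GaloisField p q) - 1) * b) = 1 ∧ N (1 - n * b) = 1 ∧
      (1 - ((n : GaloisField p q) - 1) * b) / (1 - n * b) ∈ E := by
    intro n
    induction n with
    | zero =>
      have h1 : (1 : GaloisField p q) - (((0 : ℕ) : GaloisField p q) - 1) * b = a := by
        simp [hb]
      refine ⟨?_, by simp [N], ?_⟩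
      · rw [h1]; exact ha.1
      · rw [h1]; simpa using ha
    | succ n ih =>
      obtain ⟨h1, h2', h3⟩ := ih
      have hd := hne _ h2'
      have he : 2 - (1 - ((n : GaloisField p q) - 1) * b) / (1 - n * b)
          = (1 - ((n + 1 : ℕ) : GaloisField p q) * b) / (1 - n * b) := by
        rw [eq_div_iff hd, sub_mul, div_mul_cancel₀ _ hd]
        push_cast; ring
      have h4 : 2 - (1 - ((n : GaloisField p q) - 1) * b) / (1 - n * b) ∈ E :=
        ⟨h3.2, by rw [sub_sub_cancel]; exact h3.1⟩
      have h5 : N (1 - ((n + 1 : ℕ) : GaloisField p q) * b) = 1 := by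
        have h := h3.2
        rw [he] at h
        have h6 := (Algebra.norm (ZMod p)).map_mul
          ((1 - ((n + 1 : ℕ) : GaloisField p q) * b) / (1 - n * b)) (1 - n * b)
        rw [div_mul_cancel₀ _ hd, h, one_mul] at h6
        exact h6.trans h2'
      refine ⟨?_, h5, ?_⟩
      · push_cast; simpa using h2'
      · have h6 := hinv _ h4
        rw [he, inv_div] at h6
        have : (1 : GaloisField p q) - (((n + 1 : ℕ) : GaloisField p q) - 1) * b = 1 - n * b := by
          push_cast; ring
        rw [this]; exact h6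
  -- the polynomial `∏ (1 - b ^ p ^ i X) - 1` has degree `q` and `p` roots
  let Q : (GaloisField p q)[X] := (∏ i ∈ Finset.range q, (C (-b ^ p ^ i) * X + C 1)) - 1
  have hdeg : Q.natDegree = q := by
    have hf : ∀ i ∈ Finset.range q, (C (-b ^ p ^ i) * X + C 1 : (GaloisField p q)[X]).natDegree = 1 :=
      fun i _ => natDegree_linear (neg_ne_zero.mpr (pow_ne_zero _ hb0))
    have hd : (∏ i ∈ Finset.range q, (C (-b ^ p ^ i) * X + C 1) : (GaloisField p q)[X]).natDegree = q := by
      rw [natDegree_prod _ _ fun i hi h => zero_ne_one (natDegree_zero.symm.trans (h ▸ hf i hi)), Finset.sum_congr rfl hf]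
      simp
    simp only [Q]
    rw [← C_1, natDegree_sub_C, hd]
  have hQ0 : Q ≠ 0 := fun h => hq0 (by simpa [h] using hdeg.symm)
  let R : Set (GaloisField p q) := (fun k : ZMod p => algebraMap (ZMod p) (GaloisField p q) k) '' Set.univ
  have hR : ∀ x ∈ R, Q.IsRoot x := by
    rintro _ ⟨k, -, rfl⟩
    have h1 := (key k.val).2.1
    have hk : algebraMap (ZMod p) (GaloisField p q) k = (k.val : GaloisField p q) := by
      rw [← map_natCast (algebraMap (ZMod p) (GaloisField p q)), ZMod.natCast_zmod_val]
    have h2 := congrArg (algebraMap (ZMod p) (GaloisField p q)) h1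
    rw [map_one, FiniteField.algebraMap_norm_eq_prod_pow, GaloisField.finrank p hq0,
      Nat.card_zmod] at h2
    simp only [IsRoot.def, Q, eval_sub, eval_prod, eval_add, eval_mul, eval_C, eval_X, eval_one]
    rw [sub_eq_zero]
    refine (Finset.prod_congr rfl fun i _ => ?_).trans h2
    rw [sub_pow_char_pow (1 : GaloisField p q) ((k.val : GaloisField p q) * b), one_pow, mul_pow, hk]
    have : ((k.val : ℕ) : GaloisField p q) ^ p ^ i = (k.val : GaloisField p q) := by
      rw [← hk, ← map_pow, ZMod.pow_card_pow]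
    rw [this]; ring
  have hcard : R.ncard = p := by
    rw [Set.ncard_image_of_injective _ (algebraMap (ZMod p) (GaloisField p q)).injective,
      Set.ncard_univ, Nat.card_zmod]
  calc p = R.ncard := hcard.symm
    _ ≤ Q.natDegree := by
      classical
      have hs : R ⊆ (Q.roots.toFinset : Set (GaloisField p q)) := fun x hx => by
        simpa [Multiset.mem_toFinset, mem_roots hQ0] using hR x hx
      exact (Set.ncard_le_ncard hs (Finset.finite_toSet _)).trans <| by
        rw [Set.ncard_coe_finset]; exact (Multiset.toFinset_card_le _).trans (card_roots' Q)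
    _ = q := hdeg

end Cfsg.Agent.S1470
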