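import Mathlib
import Cfsg.Statements.S1471
import Cfsg.Agent.NormPair.Basic

set_option autoImplicit false
open Cfsg

namespace Cfsg.Agent.S1471

/-- Let p and q be odd primes with (p^q − 1)/(p − 1) coprime to p − 1. Then there are at least two elements a of the field with p ^ q elements such that both a and 2 − a have norm 1 to the prime field. -/
theorem result (p q : ℕ) [Fact p.Prime] [Fact q.Prime] (hp : p ≠ 2) (hq : q ≠ 2) (hA : Nat.Coprime ((p ^ q - 1) / (p - 1)) (p - 1)) :
    2 ≤ Set.ncard {a : GaloisField p q | Algebra.norm (ZMod p) a = 1 ∧ Algebra.norm (ZMod p) (2 - a) = 1} := by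
  have hqp : q.Prime := Fact.out
  rcases Nat.lt_or_ge q 4 with h | h
  · obtain rfl : q = 3 := by have := hqp.two_le; omega
    obtain ⟨a, ha1, ha, ha'⟩ := Cfsg.Agent.NormPair.exists_three (p := p) hp
    refine (Set.one_lt_ncard (Set.toFinite _)).2 ⟨1, ⟨map_one _, ?_⟩, a, ⟨ha, ha'⟩, Ne.symm ha1⟩
    rw [show (2 : GaloisField p 3) - 1 = 1 by norm_num, map_one]
  · haveI : Fintype (GaloisField p q) := Fintype.ofFinite _
    exact Cfsg.Agent.NormPair.two_le_count hp h (by rw [← Nat.card_eq_fintype_card, GaloisField.card p q hqp.ne_zero])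

end Cfsg.Agent.S1471
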