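import Cfsg.Statements.S1472
import Cfsg.Agent.AppC.Main
import Cfsg.Agent.S1470
import Cfsg.Agent.S1471

set_option autoImplicit false
open Cfsg

namespace Cfsg.Agent.S1472

/-- Let p, q be primes with (p^q − 1)/(p − 1) coprime to p − 1, G a finite group, F a field with p ^ q elements, and P, U, Q subgroups of G with: f : G → F bijective from P onto F and additive on P; U normalizing P and acting through ψ : G → F, injective and multiplicative on U with ψ(u) ≠ 0 and f(uxu⁻¹) = ψ(u) f(x); #U · (p − 1) = p^q − 1; Q abelian of order coprime to p, normalized by every x ∈ P with f(x) in the prime field; and some y ∈ Q such that y x y⁻¹ normalizes U for every such x. Then p ≤ q. -/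
theorem result {G : Type*} [Group G] [Finite G] (p q : ℕ) [Fact p.Prime] [Fact q.Prime] (hA : Nat.Coprime ((p ^ q - 1) / (p - 1)) (p - 1))
    (F : Type*) [Field F] [Fintype F] (hF : Fintype.card F = p ^ q) (P U Q : Subgroup G) (f ψ : G → F)
    (hf : Set.BijOn f (P : Set G) Set.univ) (hfadd : ∀ x ∈ P, ∀ z ∈ P, f (x * z) = f x + f z)
    (hUP : U ≤ Subgroup.normalizer (P : Set G)) (hψ : ∀ u ∈ U, ψ u ≠ 0 ∧ ∀ x ∈ P, f (u * x * u⁻¹) = ψ u * f x)
    (hψmul : ∀ u ∈ U, ∀ v ∈ U, ψ (u * v) = ψ u * ψ v) (hψinj : Set.InjOn ψ (U : Set G)) (hUcard : Nat.card U * (p - 1) = p ^ q - 1)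
    (hQ : IsMulCommutative Q) (hQp : (Nat.card Q).Coprime p) (hP0Q : ∀ x ∈ P, f x ^ p = f x → x ∈ Subgroup.normalizer (Q : Set G))
    (y : G) (hy : y ∈ Q) (hP0U : ∀ x ∈ P, f x ^ p = f x → y * x * y⁻¹ ∈ Subgroup.normalizer (U : Set G)) :
    p ≤ q := by
  classical
  by_contra hlt
  rw [not_le] at hlt
  have hpp : p.Prime := Fact.out
  have hqp : q.Prime := Fact.out
  have hq2 := hqp.two_le
  have hdvd : p - 1 ∣ p ^ q - 1 := Nat.sub_one_dvd_pow_sub_one p q
  have hUN : (p ^ q - 1) / (p - 1) = Nat.card U := by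
    rw [← hUcard, Nat.mul_div_cancel _ (by omega)]
  have hqne : q ≠ 2 := by
    rintro rfl
    have h1 : Nat.card U = p + 1 := by
      have e : (p + 1) * (p - 1) = p ^ 2 - 1 := by
        have := Nat.sq_sub_sq p 1
        simpa using this.symm
      exact Nat.eq_of_mul_eq_mul_right (by omega) (hUcard.trans e.symm)
    rw [hUN, h1] at hA
    obtain ⟨j, hj⟩ := hpp.odd_of_ne_two (by omega)
    have h2 := Nat.eq_one_of_dvd_coprimes hA (show 2 ∣ p + 1 by omega) (show 2 ∣ p - 1 by omega)
    omega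
  have hq3 : 3 ≤ q := by omega
  have hp5 : 5 ≤ p := by
    rcases Nat.lt_or_ge p 5 with h | h
    · have : p = 4 := by omega
      subst this; norm_num at hpp
    · exact h
  haveI hchar : CharP F p := by
    haveI : Finite F := Finite.of_fintype F
    obtain ⟨r, hr⟩ := CharP.exists F
    haveI := hr
    obtain ⟨n, hrp, hn⟩ := FiniteField.card F r
    have : r = p := (Nat.prime_dvd_prime_iff_eq hrp hpp).1 (hrp.dvd_of_dvd_pow (n := q)
      (hF ▸ hn ▸ dvd_pow_self r n.ne_zero))
    subst this; exact hr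
  letI : Algebra (ZMod p) F := ZMod.algebra F p
  have hfr : Module.finrank (ZMod p) F = q := by
    have := Module.natCard_eq_pow_finrank (K := ZMod p) (V := F)
    rw [Nat.card_eq_fintype_card, hF, Nat.card_zmod] at this
    exact (Nat.pow_right_injective hpp.two_le this).symm
  let g : F → G := Function.invFunOn f (P : Set G)
  have gmem : ∀ a, g a ∈ P := fun a => Function.invFunOn_mem (hf.surjOn (Set.mem_univ a))
  have fg : ∀ a, f (g a) = a := fun a => Function.invFunOn_eq (hf.surjOn (Set.mem_univ a))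
  have finj : ∀ x ∈ P, ∀ z ∈ P, f x = f z → x = z := fun x hx z hz h => hf.injOn hx hz h
  have copp : (Nat.card U).Coprime p := by
    refine ((hpp.coprime_iff_not_dvd).2 fun h => ?_).symm
    have h1 : p ∣ p ^ q - 1 := hUcard ▸ h.mul_right _
    have h2 : p ∣ p ^ q := dvd_pow_self p (by omega)
    have h3 := Nat.dvd_sub h2 h1
    rw [Nat.sub_sub_self (Nat.one_le_pow _ _ hpp.pos)] at h3
    exact hpp.one_lt.ne' (Nat.dvd_one.1 h3)
  have fix : ∀ m : ZMod p, f (g (algebraMap (ZMod p) F m)) ^ p = f (g (algebraMap (ZMod p) F m)) := fun m => by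
    rw [fg, ← map_pow, ZMod.pow_card]
  let C : Cfsg.Agent.AppC.Config G F p q :=
    { U := U, Q := Q, g := g, ψ := ψ, y := y
      g_add := fun a b => finj _ (gmem _) _ (mul_mem (gmem _) (gmem _))
        (by rw [fg, hfadd _ (gmem _) _ (gmem _), fg, fg])
      g_inj := fun a b h => by rw [← fg a, h, fg]
      g_conj := fun u hu a => finj _ ((Subgroup.mem_normalizer_iff.1 (hUP hu) _).1 (gmem a)) _ (gmem _)
        (by rw [(hψ u hu).2 _ (gmem a), fg, fg])
      ψ_mul := hψmul
      ψ_inj := hψinj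
      ψ_ne := fun u hu => (hψ u hu).1
      U_card := hUcard
      cop := hUN ▸ hA
      copp := copp
      Q_comm := hQ
      Q_cop := hQp
      P0_norm := fun m => hP0Q _ (gmem _) (fix m)
      y_mem := hy
      T_norm := fun m => hP0U _ (gmem _) (fix m)
      finrank_eq := hfr }
  have hnorm : ∀ x : F, (x ∈ ψ '' (U : Set G)) ↔ Algebra.norm (ZMod p) x = 1 := by
    intro x
    have hN : ∀ x : F, algebraMap (ZMod p) F (Algebra.norm (ZMod p) x) = x ^ Nat.card U := by
      intro x
      rw [FiniteField.algebraMap_norm_eq_pow, Nat.card_zmod, Nat.card_eq_fintype_card (α := F), hF, hUN]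
    have hone : ∀ u ∈ U, ψ u ^ Nat.card U = 1 := fun u hu => by
      rw [← C.ψ_pow hu, show u ^ Nat.card U = 1 from congrArg Subtype.val (pow_card_eq_one' (x := (⟨u, hu⟩ : U)))]
      exact C.ψ_one
    constructor
    · rintro ⟨u, hu, rfl⟩
      exact (algebraMap (ZMod p) F).injective (by rw [hN, hone u hu, map_one])
    · intro h
      have hx : x ≠ 0 := by
        intro e; rw [e, Algebra.norm_zero] at h; exact zero_ne_one h
      obtain ⟨k, hk, u, hu, rfl⟩ := C.decomp hx
      have h1 : algebraMap (ZMod p) F k ^ Nat.card U = 1 := by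
        have := hN (algebraMap (ZMod p) F k * ψ u)
        rw [h, map_one, mul_pow, hone u hu, mul_one] at this
        exact this.symm
      rw [← map_pow, ← map_one (algebraMap (ZMod p) F)] at h1
      have h2 := (algebraMap (ZMod p) F).injective h1
      have h3 : orderOf k ∣ Nat.card U := orderOf_dvd_of_pow_eq_one h2
      have h4 : orderOf k ∣ p - 1 := orderOf_dvd_of_pow_eq_one (ZMod.pow_card_sub_one_eq_one hk)
      have h5 : k = 1 := orderOf_eq_one_iff.1 (Nat.eq_one_of_dvd_coprimes (hUN ▸ hA) h3 h4)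
      exact ⟨u, hu, by rw [h5, map_one, one_mul]⟩
  let e := GaloisField.algEquivGaloisFieldOfFintype p q hF
  have hp2 : p ≠ 2 := by omega
  refine absurd (Cfsg.Agent.S1470.result p q hp2 hqne hA ?_ (Cfsg.Agent.S1471.result p q hp2 hqne hA)) (by omega)
  rintro a ⟨ha, ha'⟩
  have hna : ∀ b, Algebra.norm (ZMod p) (e b) = Algebra.norm (ZMod p) b := fun b =>
    (Algebra.norm_eq_of_algEquiv e b).symm ▸ rfl
  obtain ⟨x, rfl⟩ := e.surjective a
  rw [hna] at ha
  rw [show (2 : GaloisField p q) - e x = e (2 - x) by rw [map_sub, map_ofNat], hna] at ha'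
  obtain ⟨u, hu, rfl⟩ := (hnorm x).2 ha
  obtain ⟨v, hv, hv'⟩ := (hnorm _).2 ha'
  obtain ⟨hu', w, hw, hw'⟩ := C.E_inv hqp (by omega) hp5 (u := u) ⟨hu, v, hv, by
    show ψ u + ψ v = 2
    rw [hv']; ring⟩
  refine ⟨?_, ?_⟩
  · rw [← map_inv₀, hna]
    exact (hnorm _).1 ⟨u⁻¹, hu', C.ψ_inv hu⟩
  · rw [← map_inv₀, show (2 : GaloisField p q) - e (ψ u)⁻¹ = e (2 - (ψ u)⁻¹) by rw [map_sub, map_ofNat], hna]
    refine (hnorm _).1 ⟨w, hw, ?_⟩
    rw [C.ψ_inv hu] at hw'
    linear_combination hw'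


end Cfsg.Agent.S1472
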