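import Cfsg.Statements.S1546
-- import your own Cfsg.Agent.* helpers here

set_option autoImplicit false
open Cfsg

namespace Cfsg.Agent.S1546

/-- Let p and q be odd primes and N = (p ^ q − 1) / (p − 1) = 1 + p + ⋯ + p^(q−1). Then N is odd; if p ≡ 1 (mod q) then q ∣ N; and if p is not ≡ 1 (mod q) then N is coprime to p − 1 and every divisor of N is ≡ 1 (mod q). -/
theorem result (p q : ℕ) (hp : p.Prime) (hq : q.Prime) (hp2 : p ≠ 2) (hq2 : q ≠ 2) : Odd ((p ^ q - 1) / (p - 1)) ∧ (p % q = 1 → q ∣ (p ^ q - 1) / (p - 1)) ∧ (p % q ≠ 1 → Nat.Coprime ((p ^ q - 1) / (p - 1)) (p - 1) ∧ ∀ x : ℕ, x ∣ (p ^ q - 1) / (p - 1) → x % q = 1) := by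
  have hp1 : 2 ≤ p := hp.two_le
  rw [← Nat.geomSum_eq hp1]
  set S := ∑ i ∈ Finset.range q, p ^ i with hS
  have hqo : Odd q := hq.odd_of_ne_two hq2
  have hodd : Odd S := by
    have hpo : (p : ZMod 2) = 1 := ZMod.natCast_eq_one_iff_odd.2 (hp.odd_of_ne_two hp2)
    rw [← ZMod.natCast_eq_one_iff_odd, hS]
    push_cast
    simp [hpo, ZMod.natCast_eq_one_iff_odd.2 hqo]
  have hmod : ∀ n : ℕ, (p : ZMod n) = 1 → (S : ZMod n) = q := by
    intro n h
    rw [hS]
    push_cast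
    simp [h]
  have hpeq : ∀ n : ℕ, n ∣ p - 1 → (p : ZMod n) = 1 := by
    intro n h
    have e : p = (p - 1) + 1 := by omega
    rw [e, Nat.cast_add, (ZMod.natCast_eq_zero_iff _ _).2 h, Nat.cast_one, zero_add]
  refine ⟨hodd, fun h => ?_, fun h => ?_⟩
  · rw [← ZMod.natCast_eq_zero_iff, hmod q, ZMod.natCast_self]
    rw [← ZMod.natCast_mod, h, Nat.cast_one]
  have hcop : Nat.Coprime S (p - 1) := by
    refine Nat.coprime_of_dvd fun r hr hrS hrp => ?_
    have h0 : (q : ZMod r) = 0 := by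
      rw [← hmod r (hpeq r hrp), (ZMod.natCast_eq_zero_iff _ _).2 hrS]
    have hrq : r = q := (Nat.prime_dvd_prime_iff_eq hr hq).1 ((ZMod.natCast_eq_zero_iff _ _).1 h0)
    apply h
    rw [hrq] at hrp
    obtain ⟨c, hc⟩ := hrp
    have e : p = 1 + q * c := by omega
    rw [e, Nat.add_mul_mod_self_left, Nat.mod_eq_of_lt hq.one_lt]
  refine ⟨hcop, fun x hx => ?_⟩
  have hprime : ∀ r : ℕ, r.Prime → r ∣ S → r % q = 1 := by
    intro r hr hrS
    haveI := Fact.mk hr
    have hgeo : (∑ i ∈ Finset.range q, (p : ZMod r) ^ i) = 0 := by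
      rw [← (ZMod.natCast_eq_zero_iff S r).2 hrS, hS]
      push_cast
      rfl
    have hpq : (p : ZMod r) ^ q = 1 := by
      have := geom_sum_mul (p : ZMod r) q
      rw [hgeo, zero_mul] at this
      exact sub_eq_zero.1 this.symm
    have hne : (p : ZMod r) ≠ 1 := by
      intro e
      have hd : r ∣ p - 1 := by
        rw [← ZMod.natCast_eq_zero_iff, Nat.cast_sub (by omega), e, Nat.cast_one, sub_self]
      exact hr.not_dvd_one (hcop ▸ Nat.dvd_gcd hrS hd)
    have hp0 : (p : ZMod r) ≠ 0 := by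
      intro e
      rw [e, zero_pow hq.ne_zero] at hpq
      exact zero_ne_one hpq
    haveI := Fact.mk hq
    have hord : orderOf (p : ZMod r) = q := orderOf_eq_prime hpq hne
    have hdvd : q ∣ r - 1 := hord ▸ ZMod.orderOf_dvd_card_sub_one hp0
    obtain ⟨c, hc⟩ := hdvd
    have e : r = 1 + q * c := by have := hr.two_le; omega
    rw [e, Nat.add_mul_mod_self_left, Nat.mod_eq_of_lt hq.one_lt]
  have hSne : S ≠ 0 := fun e => by simp [e] at hodd
  induction x using Nat.recOnMul with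
  | zero => exact absurd (Nat.eq_zero_of_zero_dvd hx) hSne
  | one => exact Nat.mod_eq_of_lt hq.one_lt
  | prime r hr => exact hprime r hr hx
  | mul a b ha hb =>
    rw [Nat.mul_mod, ha (dvd_of_mul_right_dvd hx), hb (dvd_of_mul_left_dvd hx)]
    simp [Nat.mod_eq_of_lt hq.one_lt]

end Cfsg.Agent.S1546
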