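import Cfsg.Statements.S0018
import Cfsg.Agent.Core.Fitting
-- import your own Cfsg.Agent.* helpers here

set_option autoImplicit false
open Cfsg

namespace Cfsg.Agent.S0018

/-- A finite solvable group whose Sylow p-subgroups are abelian has p-length one: a Sylow p-subgroup together with the largest normal subgroup of order prime to p generates a normal subgroup. -/
theorem result {G : Type*} [Group G] [Finite G] [Group.IsSolvable G]
    (p : ℕ) [Fact p.Prime] (P : Sylow p G) (hP : IsMulCommutative P) :
    ((P : Subgroup G) ⊔ Cfsg.pPrimeCore p G).Normal := by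
  set N := Cfsg.pPrimeCore p G with hN
  set f := QuotientGroup.mk' N with hf
  have hs := QuotientGroup.mk'_surjective N
  have h0 : Cfsg.pPrimeCore p (G ⧸ N) = ⊥ := Core.pPrimeCore_quotient_eq_bot
  have hF : Cfsg.fittingSubgroup (G ⧸ N) ≤ Cfsg.pCore p (G ⧸ N) := by
    rw [Core.fittingSubgroup_eq_iSup_pCore]
    refine iSup_le fun q => ?_
    have := Fact.mk q.2
    by_cases hq : (q : ℕ) = p
    · rw [hq]
    · exact (Core.pCore_le_pPrimeCore hq).trans (h0.le.trans bot_le)
  set Q := P.mapSurjective hs with hQ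
  have hQc : IsMulCommutative (Q : Subgroup (G ⧸ N)) := by
    rw [hQ, Sylow.coe_mapSurjective]
    infer_instance
  have hle : (Q : Subgroup (G ⧸ N)) ≤ Subgroup.centralizer (Cfsg.pCore p (G ⧸ N) : Set (G ⧸ N)) :=
    fun x hx y hy => setLike_mul_comm (Core.pCore_le_sylow Q hy) hx
  have hle2 : (Q : Subgroup (G ⧸ N)) ≤ Cfsg.pCore p (G ⧸ N) :=
    hle.trans ((Subgroup.centralizer_le (SetLike.coe_subset_coe.mpr hF)).trans
      (Core.centralizer_fittingSubgroup_le.trans hF))
  have hQn : ((Q : Subgroup (G ⧸ N))).Normal := by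
    rw [le_antisymm hle2 (Core.pCore_le_sylow Q)]
    infer_instance
  have := hQn.comap f
  rwa [hQ, Sylow.coe_mapSurjective, Subgroup.comap_map_eq, QuotientGroup.ker_mk'] at this

end Cfsg.Agent.S0018
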