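import Cfsg.Statements.S0111
import Cfsg.Agent.Invol.Pair
import Mathlib.GroupTheory.Perm.Cycle.Type
import Mathlib.GroupTheory.GroupAction.Quotient

set_option autoImplicit false
open Cfsg

namespace Cfsg.Agent.S0111

/-- The Thompson transfer lemma states that an involution of a Sylow 2-subgroup P lying outside a subgroup Q of index 2 in P either lies outside some normal subgroup of index 2 in G or is conjugate to an element of Q. -/
theorem result {G : Type*} [Group G] [Finite G] (P : Sylow 2 G) (Q : Subgroup G) (hQP : Q ≤ (P : Subgroup G)) (hQi : Q.relIndex (P : Subgroup G) = 2) (u : G) (hu : orderOf u = 2) (huP : u ∈ (P : Subgroup G)) (huQ : u ∉ Q) : (∃ M : Subgroup G, M.Normal ∧ M.index = 2 ∧ u ∉ M) ∨ ∃ g : G, g * u * g⁻¹ ∈ Q := by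
  classical
  by_cases hfix : ∃ g : G, g * u * g⁻¹ ∈ Q
  · exact Or.inr hfix
  left
  have : Fintype (G ⧸ Q) := Fintype.ofFinite _
  let f : G →* ℤˣ := Equiv.Perm.sign.comp (MulAction.toPermHom G (G ⧸ Q))
  let σ := MulAction.toPermHom G (G ⧸ Q) u
  have hfu : f u = -1 := by
    have hsq : σ ^ (2 ^ 1) = 1 := by
      rw [pow_one, pow_two, ← map_mul, Invol.mul_self_eq_one hu, map_one]
    have hsupp : σ.support = Finset.univ := by
      rw [Finset.eq_univ_iff_forall]
      intro q
      induction q using QuotientGroup.induction_on with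
      | _ g =>
        rw [Equiv.Perm.mem_support]
        intro he
        have he' : ((u * g : G) : G ⧸ Q) = (g : G ⧸ Q) := he
        rw [QuotientGroup.eq] at he'
        apply hfix ⟨g⁻¹, ?_⟩
        have := inv_mem he'
        simpa [mul_assoc] using this
    have hcard : Fintype.card (G ⧸ Q) = 2 * (P : Subgroup G).index := by
      rw [← Nat.card_eq_fintype_card, ← Subgroup.index, ← Subgroup.relIndex_mul_index hQP, hQi]
    have hodd : Odd (P : Subgroup G).index := by
      rw [← Nat.not_even_iff_odd, even_iff_two_dvd]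
      exact P.not_dvd_index
    have hne : σ ≠ 1 := by
      intro h1
      have h2 : σ.support = ∅ := Equiv.Perm.support_eq_empty_iff.2 h1
      rw [hsupp, Finset.univ_eq_empty_iff] at h2
      exact h2.elim ((1 : G) : G ⧸ Q)
    show Equiv.Perm.sign σ = -1
    have hord : orderOf σ = 2 := orderOf_eq_prime (by simpa using hsq) hne
    obtain ⟨n, hn⟩ := Equiv.Perm.cycleType_prime_order (σ := σ) (by rw [hord]; exact Nat.prime_two)
    rw [hord] at hn
    have hsum := Equiv.Perm.sum_cycleType σ
    rw [hn, Multiset.sum_replicate, hsupp, Finset.card_univ, hcard, smul_eq_mul] at hsum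
    rw [Equiv.Perm.sign_of_cycleType, hn, Multiset.sum_replicate, Multiset.card_replicate]
    have : Odd ((n + 1) • 2 + (n + 1)) := by
      rw [smul_eq_mul]
      obtain ⟨m, hm⟩ := hodd
      exact ⟨3 * m + 1, by omega⟩
    exact this.neg_one_pow
  have hsurj : Function.Surjective f := fun z => by
    rcases Int.units_eq_one_or z with rfl | rfl
    · exact ⟨1, map_one f⟩
    · exact ⟨u, hfu⟩
  refine ⟨f.ker, inferInstance, ?_, ?_⟩
  · rw [Subgroup.index_ker, MonoidHom.range_eq_top.2 hsurj, Subgroup.card_top, Nat.card_eq_fintype_card]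
    rfl
  · rw [MonoidHom.mem_ker, hfu]
    decide

end Cfsg.Agent.S0111
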