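import Mathlib

/-!
Yoshida's transfer argument: if a transfer-type product is nontrivial then a `p`-group maps onto
`Z_p ≀ Z_p`, realised as a Sylow `p`-subgroup of `Sym(p^2)`.
-/

set_option linter.all false

namespace Cfsg.Agent.WreathTransfer

open Subgroup MulAction

section Algebra

variable {p : ℕ} [hp : Fact p.Prime]

theorem fnSubgroup_eq_top {C : Type*} [CommGroup C] [Fintype C] (hexp : ∀ a : C, a ^ p = 1)
    (I : Subgroup (C → Multiplicative (ZMod p)))
    (hinv : ∀ f ∈ I, ∀ b : C, (fun a => f (b * a)) ∈ I)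
    {f : C → Multiplicative (ZMod p)} (hf : f ∈ I) (hne : ∏ a, f a ≠ 1) : I = ⊤ := by
  classical
  let A := MonoidAlgebra (ZMod p) C
  haveI : CharP A p := charP_of_injective_ringHom (R := ZMod p) (algebraMap (ZMod p) A).injective p
  let J : AddSubgroup A :=
    { carrier := {x | (fun a => Multiplicative.ofAdd (x.coeff a)) ∈ I}
      zero_mem' := by simp only [Set.mem_setOf_eq, MonoidAlgebra.coeff_zero, Finsupp.coe_zero,
                        Pi.zero_apply, ofAdd_zero]; exact I.one_mem
      add_mem' := by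
        intro x y hx hy
        have h := I.mul_mem hx hy
        simp only [Set.mem_setOf_eq, MonoidAlgebra.coeff_add, Finsupp.coe_add, Pi.add_apply, ofAdd_add]
        exact h
      neg_mem' := by
        intro x hx
        have h := I.inv_mem hx
        simp only [Set.mem_setOf_eq, MonoidAlgebra.coeff_neg, Finsupp.coe_neg, Pi.neg_apply, ofAdd_neg]
        exact h }
  let v : A := MonoidAlgebra.ofCoeff (Finsupp.equivFunOnFinite.symm fun a => (f a).toAdd)
  have hvc : ∀ a, v.coeff a = (f a).toAdd := fun a => by simp [v]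
  have hshift : ∀ b : C, MonoidAlgebra.single b (1 : ZMod p) * v ∈ J := by
    intro b
    show (fun a => Multiplicative.ofAdd ((MonoidAlgebra.single b (1 : ZMod p) * v).coeff a)) ∈ I
    have := hinv f hf b⁻¹
    have e : (fun a => Multiplicative.ofAdd ((MonoidAlgebra.single b (1 : ZMod p) * v).coeff a))
        = fun a => f (b⁻¹ * a) := by
      funext a; erw [MonoidAlgebra.coeff_single_mul_apply, one_mul, hvc, ofAdd_toAdd]
    rw [e]; exact this
  have hall : ∀ x : A, x * v ∈ J := by
    intro x
    induction x using MonoidAlgebra.induction_linear with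
    | zero => rw [zero_mul]; exact J.zero_mem
    | add a b ha hb => rw [add_mul]; exact J.add_mem ha hb
    | single b c =>
      have e : MonoidAlgebra.single b c = c.val • MonoidAlgebra.single b (1 : ZMod p) := by
        rw [MonoidAlgebra.smul_single, nsmul_eq_mul, mul_one, ZMod.natCast_zmod_val]
      rw [e, smul_mul_assoc]
      exact J.nsmul_mem (hshift b) _
  have hsum : v = ∑ a, MonoidAlgebra.single a (v.coeff a) := by
    conv_lhs => rw [← MonoidAlgebra.sum_coeff_single v]
    exact Finsupp.sum_fintype _ _ fun _ => by simp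
  set s : ZMod p := ∑ a, v.coeff a with hs
  have hs0 : s ≠ 0 := by
    intro h0
    apply hne
    have : (∏ a, f a).toAdd = 0 := by
      rw [toAdd_prod]
      simpa [hs, hvc] using h0
    simpa using congrArg Multiplicative.ofAdd this
  have hpow : v ^ p = MonoidAlgebra.single 1 s := by
    conv_lhs => rw [hsum]
    rw [sum_pow_char p]
    show (∑ a, (MonoidAlgebra.single a (v.coeff a) : MonoidAlgebra (ZMod p) C) ^ p) = _
    simp only [MonoidAlgebra.single_pow, hexp, ZMod.pow_card]
    rw [hs]
    exact (map_sum (MonoidAlgebra.singleAddHom (1 : C)) _ _).symm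
  rw [eq_top_iff]
  intro t _
  let w : A := MonoidAlgebra.ofCoeff (Finsupp.equivFunOnFinite.symm fun a => (t a).toAdd)
  have hw := hall (w * v ^ (p - 1) * MonoidAlgebra.single 1 s⁻¹)
  have e : w * v ^ (p - 1) * MonoidAlgebra.single 1 s⁻¹ * v = w := by
    have hp1 : v ^ (p - 1) * v = v ^ p := by
      rw [← pow_succ, Nat.sub_add_cancel hp.out.one_le]
    calc w * v ^ (p - 1) * MonoidAlgebra.single 1 s⁻¹ * v
        = w * (v ^ (p - 1) * v) * MonoidAlgebra.single 1 s⁻¹ := by ring
      _ = w * (MonoidAlgebra.single 1 s * MonoidAlgebra.single 1 s⁻¹) := by rw [hp1, hpow, mul_assoc]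
      _ = w := by
        rw [MonoidAlgebra.single_mul_single, one_mul, mul_inv_cancel₀ hs0,
          ← MonoidAlgebra.one_def, mul_one]
  rw [e] at hw
  have hw' : (fun a => Multiplicative.ofAdd (w.coeff a)) ∈ I := hw
  simpa [w] using hw'

end Algebra

section FixTerm

variable {X : Type*} [Group X] {H : Subgroup X} {T : Type*} [CommGroup T]

open Classical in
/-- The contribution of the coset of `c`, if fixed by `g`, to the transfer at `g`. -/
noncomputable def fixTerm (θ : H →* T) (g c : X) : T :=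
  if h : c⁻¹ * g * c ∈ H then θ ⟨c⁻¹ * g * c, h⟩ else 1

theorem fixTerm_of_mem (θ : H →* T) {g c : X} (h : c⁻¹ * g * c ∈ H) :
    fixTerm θ g c = θ ⟨c⁻¹ * g * c, h⟩ := by
  unfold fixTerm; rw [dif_pos h]

theorem fixTerm_of_not_mem (θ : H →* T) {g c : X} (h : c⁻¹ * g * c ∉ H) :
    fixTerm θ g c = 1 := by
  unfold fixTerm; rw [dif_neg h]

theorem fixTerm_congr (θ : H →* T) (g : X) {c d : X} (h : (c : X ⧸ H) = (d : X ⧸ H)) :
    fixTerm θ g c = fixTerm θ g d := by
  obtain ⟨n, rfl⟩ : ∃ n : H, d = c * n := ⟨⟨c⁻¹ * d, QuotientGroup.eq.mp h⟩, by simp⟩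
  by_cases hc : c⁻¹ * g * c ∈ H
  · have hcn : (c * (n : X))⁻¹ * g * (c * n) ∈ H := by
      have := H.mul_mem (H.mul_mem (H.inv_mem n.2) hc) n.2
      simpa [mul_assoc] using this
    rw [fixTerm_of_mem θ hc, fixTerm_of_mem θ hcn]
    have e : (⟨(c * (n : X))⁻¹ * g * (c * n), hcn⟩ : H) = n⁻¹ * ⟨c⁻¹ * g * c, hc⟩ * n := by
      apply Subtype.ext; simp [mul_assoc]
    rw [e, map_mul, map_mul, map_inv, mul_comm, mul_inv_cancel_left]
  · have hcn : (c * (n : X))⁻¹ * g * (c * n) ∉ H := by
      intro hh
      apply hc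
      have := H.mul_mem (H.mul_mem n.2 hh) (H.inv_mem n.2)
      simpa [mul_assoc] using this
    rw [fixTerm_of_not_mem θ hc, fixTerm_of_not_mem θ hcn]

/-- `θ` kills every element whose order properly divides that of `g`. -/
def Kills (θ : H →* T) (g : X) : Prop :=
  ∀ x : H, orderOf (x : X) ∣ orderOf g → orderOf (x : X) ≠ orderOf g → θ x = 1

theorem transfer_eq_prod_fixTerm [Finite X] [Fintype (X ⧸ H)] (θ : H →* T) (g : X)
    (hk : Kills θ g) : MonoidHom.transfer θ g = ∏ q : X ⧸ H, fixTerm θ g q.out := by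
  classical
  haveI := Fintype.ofFinite (Quotient (orbitRel (zpowers g) (X ⧸ H)))
  rw [MonoidHom.transfer_eq_prod_quotient_orbitRel_zpowers_quot,
    ← (quotientEquivSigmaZMod H g).symm.prod_comp, Fintype.prod_sigma]
  refine Fintype.prod_congr _ _ fun q => ?_
  set m := Function.minimalPeriod (g • ·) q.out with hm
  by_cases h1 : m = 1
  · haveI : Subsingleton (ZMod m) := by rw [h1]; infer_instance
    rw [Fintype.prod_subsingleton _ (0 : ZMod m), quotientEquivSigmaZMod_symm_apply,
      ZMod.cast_zero, zpow_zero, one_smul]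
    have hmem : q.out.out⁻¹ * g * q.out.out ∈ H := by
      have := QuotientGroup.out_conj_pow_minimalPeriod_mem H g q.out
      rwa [← hm, h1, pow_one] at this
    rw [fixTerm_of_mem θ hmem]
    congr 1
    apply Subtype.ext
    show _ * g ^ m * _ = _
    rw [h1, pow_one]
  · have hnf : g • q.out ≠ q.out := fun hh =>
      h1 (Function.minimalPeriod_eq_one_iff_isFixedPt.mpr hh)
    rw [Finset.prod_eq_one]
    · have hdvd : m ∣ orderOf g := by
        apply Function.IsPeriodicPt.minimalPeriod_dvd
        show (g • ·)^[orderOf g] q.out = q.out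
        rw [smul_iterate, pow_orderOf_eq_one]
        exact one_smul X q.out
      have ho : orderOf g ≠ 0 := (orderOf_pos g).ne'
      have hox : orderOf (q.out.out⁻¹ * g ^ m * q.out.out) = orderOf g / m := by
        have e : q.out.out⁻¹ * g ^ m * q.out.out = MulAut.conj q.out.out⁻¹ (g ^ m) := by simp
        rw [e, MulEquiv.orderOf_eq, orderOf_pow, Nat.gcd_eq_right hdvd]
      apply hk
      · show orderOf (q.out.out⁻¹ * g ^ m * q.out.out) ∣ _
        rw [hox]; exact Nat.div_dvd_of_dvd hdvd
      · show orderOf (q.out.out⁻¹ * g ^ m * q.out.out) ≠ _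
        rw [hox]; intro hh
        have := Nat.div_mul_cancel hdvd
        rw [hh] at this
        exact h1 ((Nat.mul_eq_left ho).mp this)
    · intro k _
      rw [quotientEquivSigmaZMod_symm_apply]
      apply fixTerm_of_not_mem
      intro hh
      apply hnf
      have hfix : g • (g ^ (ZMod.cast k : ℤ) • q.out) = g ^ (ZMod.cast k : ℤ) • q.out := by
        set x := g ^ (ZMod.cast k : ℤ) • q.out
        rw [← QuotientGroup.out_eq' x]
        show ((g * x.out : X) : X ⧸ H) = _
        rw [QuotientGroup.eq]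
        have := H.inv_mem hh
        simpa [mul_assoc] using this
      rw [smul_smul, (Commute.self_zpow g _).eq, ← smul_smul] at hfix
      exact smul_left_cancel _ hfix

end FixTerm

section PGroup

variable {p : ℕ} [hp : Fact p.Prime] {P : Type*} [Group P] [Finite P]

theorem factorization_factorial_sq : ((p ^ 2).factorial).factorization p = p + 1 := by
  have hlog : Nat.log p (p ^ 2) < 3 := by rw [Nat.log_pow hp.out.one_lt]; omega
  rw [Nat.factorization_factorial hp.out hlog]
  rw [show Finset.Ico 1 3 = {1, 2} from rfl, Finset.sum_pair (by norm_num),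
    Nat.div_self (pow_pos hp.out.pos 2), pow_one, pow_two, Nat.mul_div_cancel _ hp.out.pos]

/-- Conjugation by `c⁻¹` on a normal subgroup. -/
def conjIn (R : Subgroup P) [hR : R.Normal] (c : P) : R →* R where
  toFun h := ⟨c⁻¹ * h * c, by simpa using hR.conj_mem h h.2 c⁻¹⟩
  map_one' := Subtype.ext (by simp)
  map_mul' a b := Subtype.ext (by simp [mul_assoc])

theorem wreath_of_psi (hP : IsPGroup p P) (R : Subgroup P) [R.Normal] (hR : R.index = p)
    [Fintype (P ⧸ R)]
    (ψ : R →* Multiplicative (ZMod p)) (g : R)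
    (hne : ∏ a : P ⧸ R, ψ (conjIn R a.out g) ≠ 1) :
    ∃ (σ : Sylow p (Equiv.Perm (Fin (p ^ 2))))
      (f : P →* (σ : Subgroup (Equiv.Perm (Fin (p ^ 2))))), Function.Surjective f := by
  classical
  have hcard : Nat.card (P ⧸ R) = p := hR
  -- value depends only on the coset
  have hcongr : ∀ {c d : P} (h : R), (c : P ⧸ R) = d → ψ (conjIn R c h) = ψ (conjIn R d h) := by
    intro c d h hcd
    obtain ⟨n, rfl⟩ : ∃ n : R, d = c * n := ⟨⟨c⁻¹ * d, QuotientGroup.eq.mp hcd⟩, by simp⟩
    have e : conjIn R (c * n) h = n⁻¹ * conjIn R c h * n :=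
      Subtype.ext (by simp [conjIn, mul_assoc])
    rw [e, map_mul, map_mul, map_inv, mul_comm, mul_inv_cancel_left]
  let Φ : R →* (P ⧸ R → Multiplicative (ZMod p)) :=
    MonoidHom.pi fun a => ψ.comp (conjIn R a.out)
  have hΦ : ∀ h a, Φ h a = ψ (conjIn R a.out h) := fun _ _ => rfl
  have htop : Φ.range = ⊤ := by
    letI : CommGroup (P ⧸ R) :=
      { (inferInstance : Group (P ⧸ R)) with
        mul_comm := fun a b => by
          haveI := isCyclic_of_prime_card hcard
          exact (IsCyclic.commutative (α := P ⧸ R)).is_comm.comm a b }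
    refine fnSubgroup_eq_top (fun a => ?_) _ ?_ (f := Φ g) ⟨g, rfl⟩ hne
    · rw [← hcard]; exact pow_card_eq_one'
    · rintro _ ⟨h, rfl⟩ b
      refine ⟨conjIn R b.out h, funext fun a => ?_⟩
      rw [hΦ, hΦ, hcongr h (c := (b * a).out) (d := b.out * a.out)
        (by rw [QuotientGroup.out_eq', QuotientGroup.mk_mul, QuotientGroup.out_eq',
          QuotientGroup.out_eq'])]
      congr 1
      exact Subtype.ext (by simp [conjIn, mul_assoc])
  have hψ : ψ.range = ⊤ := by
    haveI : Fact (Nat.card (Multiplicative (ZMod p))).Prime :=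
      ⟨by rw [Nat.card_congr Multiplicative.toAdd, Nat.card_zmod]; exact hp.out⟩
    refine (ψ.range.eq_bot_or_eq_top_of_prime_card).resolve_left fun hb => hne ?_
    refine Finset.prod_eq_one fun a _ => ?_
    have := ψ.mem_range.mpr ⟨conjIn R a.out g, rfl⟩
    rwa [hb, Subgroup.mem_bot] at this
  let K : Subgroup P := ψ.ker.map R.subtype
  have hKi : K.index = p ^ 2 := by
    rw [Subgroup.index_map_subtype, Subgroup.index_ker, hψ, Subgroup.card_top,
      Nat.card_congr Multiplicative.toAdd, Nat.card_zmod, hR, pow_two]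
  let L : Subgroup P := Φ.ker.map R.subtype
  have hLi : L.index = p ^ (p + 1) := by
    rw [Subgroup.index_map_subtype, Subgroup.index_ker, htop, Subgroup.card_top, Nat.card_fun,
      Nat.card_congr Multiplicative.toAdd, Nat.card_zmod, hR, hcard, pow_succ]
  let e : P ⧸ K ≃ Fin (p ^ 2) := (Finite.equivFin (P ⧸ K)).trans (finCongr hKi)
  let f0 : P →* Equiv.Perm (Fin (p ^ 2)) :=
    e.permCongrHom.toMonoidHom.comp (MulAction.toPermHom P (P ⧸ K))
  have hker : f0.ker ≤ L := by
    intro x hx
    have h1 : MulAction.toPermHom P (P ⧸ K) x = 1 := by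
      apply e.permCongrHom.injective
      rw [map_one]; exact hx
    have hfix : ∀ c : P, c⁻¹ * x * c ∈ K := by
      intro c
      have h2 : x • (c : P ⧸ K) = c := by
        have := congrArg (fun σ : Equiv.Perm (P ⧸ K) => σ (c : P ⧸ K)) h1
        simpa using this
      have h3 := QuotientGroup.eq.mp (h2.symm.trans (MulAction.Quotient.smul_mk K x c))
      simpa [mul_assoc] using h3
    obtain ⟨y, hy, rfl⟩ : x ∈ K := by simpa using hfix 1
    refine ⟨y, ?_, rfl⟩
    rw [SetLike.mem_coe, MonoidHom.mem_ker]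
    funext a
    obtain ⟨z, hz, hze⟩ := hfix a.out
    have : z = conjIn R a.out y := Subtype.ext hze
    subst this
    exact hz
  have hdvd : p ^ (p + 1) ∣ Nat.card f0.range := by
    rw [← hLi, ← Subgroup.index_ker]
    exact Subgroup.index_dvd_of_le hker
  have hpg : IsPGroup p f0.range := hP.of_surjective _ f0.rangeRestrict_surjective
  obtain ⟨σ, hσ⟩ := hpg.exists_le_sylow
  have hσc : Nat.card σ = p ^ (p + 1) := by
    rw [σ.card_eq_multiplicity, Nat.card_perm, Nat.card_fin, factorization_factorial_sq]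
  have heq : f0.range = σ := Subgroup.eq_of_le_of_card_ge hσ
    (by
      have h5 : Nat.card σ ≤ Nat.card f0.range := hσc ▸ Nat.le_of_dvd Nat.card_pos hdvd
      exact h5)
  refine ⟨σ, (MulEquiv.subgroupCongr heq).toMonoidHom.comp f0.rangeRestrict, ?_⟩
  exact (MulEquiv.subgroupCongr heq).surjective.comp f0.rangeRestrict_surjective

theorem wreath_of_transfer (hP : IsPGroup p P) (Q : Subgroup P) (hQ : Q ≠ ⊤)
    (θ : Q →* Multiplicative (ZMod p)) (g : P) (hk : Kills θ g)
    (hne : MonoidHom.transfer θ g ≠ 1) :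
    ∃ (σ : Sylow p (Equiv.Perm (Fin (p ^ 2))))
      (f : P →* (σ : Subgroup (Equiv.Perm (Fin (p ^ 2))))), Function.Surjective f := by
  classical
  obtain ⟨n, hn⟩ := hP.exists_card_eq
  obtain ⟨k, hkQ⟩ := (hP.to_subgroup Q).exists_card_eq
  have hlt : k < n := by
    have h1 : Nat.card Q ≠ Nat.card P := fun hh => hQ (Subgroup.eq_top_of_card_eq _ hh)
    have h2 := Subgroup.card_le_card_group Q
    rw [hkQ, hn] at h1 h2
    exact (Nat.pow_lt_pow_iff_right hp.out.one_lt).mp (lt_of_le_of_ne h2 h1)
  obtain ⟨R, hRc, hle⟩ := Sylow.exists_subgroup_card_pow_prime_le (G := P) p (m := n - 1)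
    (hn ▸ pow_dvd_pow p (Nat.sub_le n 1)) Q hkQ (by omega)
  have hRi : R.index = p := by
    have := R.card_mul_index
    rw [hRc, hn] at this
    apply Nat.eq_of_mul_eq_mul_left (pow_pos hp.out.pos (n - 1))
    rw [this, ← pow_succ, Nat.sub_add_cancel (by omega)]
  haveI : R.Normal := Subgroup.normal_of_index_eq_minFac_card (by
    rw [hRi, hn, Nat.pow_minFac (by omega), hp.out.minFac_eq])
  haveI := Fintype.ofFinite (P ⧸ Q)
  haveI := Fintype.ofFinite (P ⧸ R)
  haveI := Fintype.ofFinite (R ⧸ Q.subgroupOf R)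
  rw [transfer_eq_prod_fixTerm θ g hk] at hne
  have hgR : g ∈ R := by
    by_contra hg
    apply hne
    refine Finset.prod_eq_one fun q _ => fixTerm_of_not_mem θ fun hh => hg ?_
    have := (inferInstance : R.Normal).conj_mem _ (hle hh) q.out
    simpa [mul_assoc] using this
  let θ' : Q.subgroupOf R →* Multiplicative (ZMod p) :=
    θ.comp (Subgroup.subgroupOfEquivOfLe hle).toMonoidHom
  let gR : R := ⟨g, hgR⟩
  let ψ : R →* Multiplicative (ZMod p) := MonoidHom.transfer θ'
  refine wreath_of_psi hP R hRi ψ gR ?_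
  rw [← (Subgroup.quotientEquivProdOfLE hle).symm.prod_comp, Fintype.prod_prod_type] at hne
  convert hne using 1
  refine Fintype.prod_congr _ _ fun a => ?_
  have hord : orderOf (conjIn R a.out gR) = orderOf g := by
    rw [← Subgroup.orderOf_coe]
    show orderOf (a.out⁻¹ * g * a.out) = _
    rw [show a.out⁻¹ * g * a.out = MulAut.conj a.out⁻¹ g by simp, MulEquiv.orderOf_eq]
  have hk' : Kills θ' (conjIn R a.out gR) := by
    intro x h1 h2
    rw [hord, ← Subgroup.orderOf_coe] at h1 h2
    exact hk _ h1 h2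
  show MonoidHom.transfer θ' _ = _
  rw [transfer_eq_prod_fixTerm θ' _ hk']
  refine Fintype.prod_congr _ _ fun r => ?_
  have hrep : (((Subgroup.quotientEquivProdOfLE hle).symm (a, r)).out : P ⧸ Q)
      = ((a.out * (r.out : P) : P) : P ⧸ Q) := by
    rw [QuotientGroup.out_eq']
    conv_lhs => rw [← QuotientGroup.out_eq' r]
    rfl
  rw [fixTerm_congr θ g hrep]
  have e : ((r.out⁻¹ * conjIn R a.out gR * r.out : R) : P)
      = (a.out * (r.out : P))⁻¹ * g * (a.out * r.out) := by
    simp [conjIn, gR, mul_assoc]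
  by_cases hm : r.out⁻¹ * conjIn R a.out gR * r.out ∈ Q.subgroupOf R
  · have hm' : (a.out * (r.out : P))⁻¹ * g * (a.out * r.out) ∈ Q := e ▸ hm
    rw [fixTerm_of_mem θ' hm, fixTerm_of_mem θ hm']
    exact congrArg θ (Subtype.ext e)
  · have hm' : (a.out * (r.out : P))⁻¹ * g * (a.out * r.out) ∉ Q := fun hh => hm (by
      rw [Subgroup.mem_subgroupOf, e]; exact hh)
    rw [fixTerm_of_not_mem θ' hm, fixTerm_of_not_mem θ hm']

end PGroup

end Cfsg.Agent.WreathTransfer
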