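import Mathlib
import Cfsg.Agent.WreathTransfer

/-!
The start of Yoshida's transfer argument for a subgroup `M` containing a Sylow `p`-subgroup `S`:
a bad character of `M`, and a double coset on which its transfer is nontrivial.
-/

set_option linter.all false

namespace Cfsg.Agent.FocalCharacter

open Subgroup MulAction Cfsg.Agent.WreathTransfer

theorem transfer_comp {G : Type*} [Group G] {H : Subgroup G} [H.FiniteIndex] {A B : Type*}
    [CommGroup A] [CommGroup B] (φ : H →* A) (χ : A →* B) (g : G) :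
    MonoidHom.transfer (χ.comp φ) g = χ (MonoidHom.transfer φ g) := by
  let := H.fintypeQuotientOfFiniteIndex
  rw [MonoidHom.transfer_def _ default, MonoidHom.transfer_def _ default]
  simp only [Subgroup.leftTransversals.diff, map_prod, MonoidHom.comp_apply]

/-- A character of order `p` of a finite abelian group separating a `p`-element from a subgroup. -/
theorem exists_char {A : Type*} [CommGroup A] [Finite A] {p : ℕ} [hp : Fact p.Prime]
    (V : Subgroup A) (h : ∃ a : A, a ∉ V ∧ ∃ k, orderOf a = p ^ k) :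
    ∃ χ : A →* Multiplicative (ZMod p), (∀ v ∈ V, χ v = 1) ∧
      ∃ a : A, (∃ k, orderOf a = p ^ k) ∧ χ a ≠ 1 := by
  classical
  obtain ⟨a, haV, k, hak⟩ := h
  obtain ⟨T⟩ : Nonempty (Sylow p (A ⧸ V)) := inferInstance
  have hbar : (a : A ⧸ V) ≠ 1 := fun hh => haV ((QuotientGroup.eq_one_iff a).mp hh)
  have hd : p ∣ Nat.card (A ⧸ V) := by
    obtain ⟨j, -, hj⟩ := (Nat.dvd_prime_pow hp.out).mp
      (hak ▸ orderOf_map_dvd (QuotientGroup.mk' V) a)
    have hj0 : j ≠ 0 := by
      rintro rfl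
      exact hbar (orderOf_eq_one_iff.mp (by simpa using hj))
    exact (dvd_pow_self p hj0).trans (hj ▸ orderOf_dvd_natCard _)
  -- the p-th power map is not surjective
  let π : (A ⧸ V) →* (A ⧸ V) := powMonoidHom p
  have hns : ¬ Function.Surjective π := by
    intro hs
    obtain ⟨x, hx⟩ := exists_prime_orderOf_dvd_card' p hd
    have hinj := Finite.injective_iff_surjective.mpr hs
    have : x = 1 := hinj (by
      show x ^ p = (1 : A ⧸ V) ^ p
      rw [one_pow, ← hx]; exact pow_orderOf_eq_one x)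
    rw [this, orderOf_one] at hx
    exact hp.out.one_lt.ne hx
  have hQ : IsPGroup p ((A ⧸ V) ⧸ π.range) := fun b => by
    refine ⟨1, ?_⟩
    obtain ⟨y, rfl⟩ := QuotientGroup.mk_surjective b
    rw [pow_one, ← QuotientGroup.mk_pow, QuotientGroup.eq_one_iff]
    exact ⟨y, rfl⟩
  obtain ⟨n, hn⟩ := hQ.exists_card_eq
  have hn0 : n ≠ 0 := by
    rintro rfl
    apply hns
    rw [← MonoidHom.range_eq_top]
    apply Subgroup.index_eq_one.mp
    simpa [Subgroup.index] using hn
  obtain ⟨W, hW⟩ := Sylow.exists_subgroup_card_pow_prime p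
    (hn ▸ pow_dvd_pow p (Nat.sub_le n 1) : p ^ (n - 1) ∣ Nat.card ((A ⧸ V) ⧸ π.range))
  have hWi : Nat.card (((A ⧸ V) ⧸ π.range) ⧸ W) = p := by
    have := W.card_mul_index
    rw [hW, hn] at this
    apply Nat.eq_of_mul_eq_mul_left (pow_pos hp.out.pos (n - 1))
    rw [← Subgroup.index, this, ← pow_succ, Nat.sub_add_cancel (by omega)]
  let e : ((A ⧸ V) ⧸ π.range) ⧸ W ≃* Multiplicative (ZMod p) :=
    mulEquivOfPrimeCardEq hWi (by rw [Nat.card_congr Multiplicative.toAdd, Nat.card_zmod])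
  let χ : A →* Multiplicative (ZMod p) := e.toMonoidHom.comp ((QuotientGroup.mk' W).comp
    ((QuotientGroup.mk' π.range).comp (QuotientGroup.mk' V)))
  have hsurj : Function.Surjective χ := e.surjective.comp ((QuotientGroup.mk'_surjective W).comp
    ((QuotientGroup.mk'_surjective _).comp (QuotientGroup.mk'_surjective V)))
  refine ⟨χ, fun v hv => ?_, ?_⟩
  · have : (v : A ⧸ V) = 1 := (QuotientGroup.eq_one_iff v).mpr hv
    simp [χ, this]
  -- a Sylow subgroup of `A` is not killed
  obtain ⟨T'⟩ : Nonempty (Sylow p A) := inferInstance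
  by_contra hcon
  push Not at hcon
  have hle : (T' : Subgroup A) ≤ χ.ker := by
    intro x hx
    obtain ⟨j, hj⟩ := T'.isPGroup' ⟨x, hx⟩
    obtain ⟨i, -, hi⟩ := (Nat.dvd_prime_pow hp.out).mp
      (orderOf_dvd_of_pow_eq_one (x := x) (n := p ^ j) (by simpa using congrArg Subtype.val hj))
    exact hcon x ⟨i, hi⟩
  have hi : χ.ker.index = p := by
    rw [Subgroup.index_ker, MonoidHom.range_eq_top.mpr hsurj, Subgroup.card_top,
      Nat.card_congr Multiplicative.toAdd, Nat.card_zmod]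
  have hd := Subgroup.index_dvd_of_le hle
  rw [hi] at hd
  exact T'.not_dvd_index hd

/-- A `p`-subgroup of `M` is conjugate in `M` into the Sylow subgroup `S ≤ M`. -/
theorem exists_conj_mem {G : Type*} [Group G] [Finite G] {p : ℕ} [Fact p.Prime] (S : Sylow p G)
    (M : Subgroup G) (hSN : (S : Subgroup G) ≤ M) (X : Subgroup G) (hXM : X ≤ M)
    (hX : IsPGroup p X) : ∃ m : M, ∀ x ∈ X, (m : G) * x * (m : G)⁻¹ ∈ (S : Subgroup G) := by
  have hXp : IsPGroup p (X.subgroupOf M) := hX.of_equiv (Subgroup.subgroupOfEquivOfLe hXM).symm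
  obtain ⟨T, hT⟩ := hXp.exists_le_sylow
  obtain ⟨m, hm⟩ := MulAction.exists_smul_eq M T (S.subtype hSN)
  refine ⟨m, fun x hx => ?_⟩
  have h1 : (⟨x, hXM hx⟩ : M) ∈ (T : Subgroup M) := hT (by simpa [Subgroup.mem_subgroupOf] using hx)
  have h2 : m * ⟨x, hXM hx⟩ * m⁻¹ ∈ ((m • T : Sylow p M) : Subgroup M) := by
    rw [Sylow.coe_subgroup_smul]
    exact Subgroup.smul_mem_pointwise_smul _ _ _ h1
  rw [hm] at h2
  simpa [Sylow.coe_subtype, Subgroup.mem_subgroupOf] using h2

theorem exists_bad_character {G : Type*} [Group G] [Finite G] {p : ℕ} [Fact p.Prime]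
    (S : Sylow p G) (M : Subgroup G) (hSN : (S : Subgroup G) ≤ M)
    (h : (S : Subgroup G) ⊓ commutator G ≠ (S : Subgroup G) ⊓ ⁅M, M⁆) :
    ∃ φ : M →* Multiplicative (ZMod p), (∀ x ∈ (S : Subgroup G), MonoidHom.transfer φ x = 1) ∧
      ∃ g : M, (g : G) ∈ (S : Subgroup G) ∧ φ g ≠ 1 ∧ Kills φ (g : G) := by
  classical
  have hder : ⁅M, M⁆ = (commutator M).map M.subtype := (Subgroup.map_subtype_commutator M).symm
  have hderle : ⁅M, M⁆ ≤ commutator G := Subgroup.commutator_mono le_top le_top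
  -- transfer to the abelianised normalizer
  let V : G →* Abelianization M := MonoidHom.transfer Abelianization.of
  let ι : (S : Subgroup G) →* Abelianization M := Abelianization.of.comp (Subgroup.inclusion hSN)
  let VS : (S : Subgroup G) →* Abelianization M := V.comp (S : Subgroup G).subtype
  have hprop : ∃ a, a ∉ VS.range ∧ ∃ k, orderOf a = p ^ k := by
    by_contra hcon
    push Not at hcon
    have hsub : ι.range ≤ VS.range := by
      rintro _ ⟨s, rfl⟩
      by_contra hn
      obtain ⟨k, hk⟩ := (IsPGroup.iff_orderOf.mp S.isPGroup') s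
      obtain ⟨i, -, hi⟩ := (Nat.dvd_prime_pow Fact.out).mp (hk ▸ orderOf_map_dvd ι s)
      exact hcon _ hn i hi
    -- kernels
    have hkV : (commutator G).subgroupOf S ≤ VS.ker := by
      intro s hs
      exact Abelianization.commutator_subset_ker V hs
    have hkι : ι.ker = ⁅M, M⁆.subgroupOf S := by
      ext s
      show Abelianization.of _ = 1 ↔ _
      rw [← MonoidHom.mem_ker, Abelianization.ker_of, Subgroup.mem_subgroupOf, hder]
      constructor
      · intro hh; exact ⟨_, hh, rfl⟩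
      · rintro ⟨y, hy, hye⟩
        rwa [show Subgroup.inclusion hSN s = y from Subtype.ext hye.symm]
    have h1 : (⁅M, M⁆.subgroupOf S).index ≤ ((commutator G).subgroupOf S).index := by
      rw [← hkι, Subgroup.index_ker]
      refine le_trans (Subgroup.card_le_of_le hsub) ?_
      rw [← Subgroup.index_ker]
      exact Nat.le_of_dvd (Nat.pos_of_ne_zero Subgroup.index_ne_zero_of_finite)
        (Subgroup.index_dvd_of_le hkV)
    have h2 : ⁅M, M⁆.subgroupOf S = (commutator G).subgroupOf S := by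
      refine Subgroup.eq_of_le_of_card_ge (Subgroup.comap_mono hderle) ?_
      have e1 := (⁅M, M⁆.subgroupOf (S : Subgroup G)).card_mul_index
      have e2 := ((commutator G).subgroupOf (S : Subgroup G)).card_mul_index
      by_contra hlt
      push Not at hlt
      have hpos : 0 < ((commutator G).subgroupOf (S : Subgroup G)).index :=
        Nat.pos_of_ne_zero Subgroup.index_ne_zero_of_finite
      have := Nat.mul_lt_mul_of_lt_of_le hlt h1 hpos
      omega
    apply h
    rw [inf_comm, ← Subgroup.subgroupOf_map_subtype, ← h2, Subgroup.subgroupOf_map_subtype,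
      inf_comm]
  obtain ⟨χ, hχV, a, ⟨ka, hka⟩, hχa⟩ := exists_char VS.range hprop
  let φ : M →* Multiplicative (ZMod p) := χ.comp Abelianization.of
  have htr : ∀ x ∈ (S : Subgroup G), MonoidHom.transfer φ x = 1 := fun x hx => by
    rw [transfer_comp]; exact hχV _ ⟨⟨x, hx⟩, rfl⟩
  -- φ is nontrivial on S
  have hex : ∃ s : M, (s : G) ∈ (S : Subgroup G) ∧ φ s ≠ 1 := by
    obtain ⟨y, hy⟩ := QuotientGroup.mk_surjective a
    by_contra hcon
    push Not at hcon
    apply hχa
    have hker : (S : Subgroup G).subgroupOf M ≤ φ.ker := fun s hs => hcon s hs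
    by_contra hne
    have hpT : Nat.card (Multiplicative (ZMod p)) = p := by
      rw [Nat.card_congr Multiplicative.toAdd, Nat.card_zmod]
    have hrange : φ.range = ⊤ := by
      haveI : Fact (Nat.card (Multiplicative (ZMod p))).Prime := ⟨by rw [hpT]; exact Fact.out⟩
      refine (φ.range.eq_bot_or_eq_top_of_prime_card).resolve_left fun hb => hne ?_
      have h1 : φ y ∈ φ.range := ⟨y, rfl⟩
      rw [hb, Subgroup.mem_bot] at h1
      rw [← hy]; exact h1
    have hd := Subgroup.index_dvd_of_le hker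
    rw [Subgroup.index_ker φ, hrange, Subgroup.card_top, hpT] at hd
    exact S.not_dvd_index (hd.trans (Subgroup.relIndex_dvd_index_of_le hSN))
  have hex' : ∃ n, ∃ s : M, (s : G) ∈ (S : Subgroup G) ∧ φ s ≠ 1 ∧ orderOf (s : G) = n :=
    let ⟨s, h1, h2⟩ := hex; ⟨_, s, h1, h2, rfl⟩
  obtain ⟨g, hgS, hφg, hgn⟩ := Nat.find_spec hex'
  have hmin : ∀ x : M, (x : G) ∈ (S : Subgroup G) → orderOf (x : G) < orderOf (g : G) → φ x = 1 :=
    fun x hx hlt => by
      by_contra hne
      exact Nat.find_min hex' (hgn ▸ hlt) ⟨x, hx, hne, rfl⟩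
  obtain ⟨kg, hkg⟩ := (IsPGroup.iff_orderOf.mp S.isPGroup') ⟨(g : G), hgS⟩
  rw [← Subgroup.orderOf_coe] at hkg
  have hgpos : 0 < orderOf (g : G) := orderOf_pos _
  have hkill : Kills φ (g : G) := by
    intro x h1 h2
    obtain ⟨m, hm⟩ := exists_conj_mem S M hSN (zpowers (x : G))
      (zpowers_le.mpr x.2) (by
        obtain ⟨j, -, hj⟩ := (Nat.dvd_prime_pow Fact.out).mp (hkg ▸ h1)
        exact IsPGroup.of_card (n := j) (by rw [Nat.card_zpowers, hj]))
    have hx' := hm (x : G) (mem_zpowers _)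
    have e : φ (m * x * m⁻¹) = φ x := by rw [map_mul, map_mul, map_inv, mul_comm (φ m), mul_inv_cancel_right]
    rw [← e]
    refine hmin (m * x * m⁻¹) hx' ?_
    rw [show ((m * x * m⁻¹ : M) : G) = MulAut.conj (m : G) (x : G) by simp, MulEquiv.orderOf_eq]
    exact lt_of_le_of_ne (Nat.le_of_dvd hgpos h1) h2
  exact ⟨φ, htr, g, hgS, hφg, hkill⟩

theorem exists_double_coset {G : Type*} [Group G] [Finite G] {p : ℕ} [Fact p.Prime]
    (S : Sylow p G) (M : Subgroup G) (hSN : (S : Subgroup G) ≤ M)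
    (h : (S : Subgroup G) ⊓ commutator G ≠ (S : Subgroup G) ⊓ ⁅M, M⁆) :
    ∃ (c : G) (Q : Subgroup ↥(S : Subgroup G)) (θ : Q →* Multiplicative (ZMod p))
      (gS : ↥(S : Subgroup G)),
      c ∉ M ∧ (∀ s : ↥(S : Subgroup G), s ∈ Q ↔ c⁻¹ * (s : G) * c ∈ M) ∧
        Kills θ gS ∧ MonoidHom.transfer θ gS ≠ 1 := by
  classical
  obtain ⟨φ, htr, g, hgS, hφg, hkill⟩ := exists_bad_character S M hSN h
  haveI := Fintype.ofFinite (G ⧸ M)
  have hprod := htr _ hgS
  rw [transfer_eq_prod_fixTerm φ _ hkill] at hprod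
  let S' : Subgroup G := (S : Subgroup G)
  let Ω := Quotient (orbitRel S' (G ⧸ M))
  haveI : Fintype Ω := Fintype.ofFinite Ω
  haveI : ∀ ω : Ω, Fintype (S' ⧸ stabilizer S' ω.out) := fun ω => Fintype.ofFinite _
  rw [← (selfEquivSigmaOrbitsQuotientStabilizer S' (G ⧸ M)).symm.prod_comp,
    Fintype.prod_sigma] at hprod
  -- the orbit of the coset `N`
  let q0   : G ⧸ M := ((1 : G)   : G ⧸ M)
  have hfix0 : ∀ s : S', s • q0 = q0 := by
    intro s
    show (((s : G) * 1 : G)   : G ⧸ M) = ((1 : G)   : G ⧸ M)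
    rw [QuotientGroup.eq]
    simpa using M.inv_mem (hSN s.2)
  let ω0 : Ω := Quotient.mk'' q0
  have hω0 : ω0.out = q0 := by
    have h1 : ω0.out ∈ MulAction.orbit S' q0 := (Quotient.exact' (Quotient.out_eq' ω0) :)
    obtain ⟨s, hs⟩ := h1
    rw [← hs]; exact hfix0 s
  -- a nontrivial orbit
  obtain ⟨ω, hωne, hωprod⟩ : ∃ ω : Ω, ω ≠ ω0 ∧ (∏ x : S' ⧸ stabilizer S' ω.out,
      fixTerm φ (g : G) ((selfEquivSigmaOrbitsQuotientStabilizer S' (G ⧸ M)).symm ⟨ω, x⟩).out) ≠ 1 := by
    by_contra hcon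
    push Not at hcon
    apply hφg
    rw [Fintype.prod_eq_single ω0 hcon] at hprod
    have hst : stabilizer S' ω0.out = ⊤ := by
      rw [eq_top_iff]; intro s _; rw [mem_stabilizer_iff, hω0]; exact hfix0 s
    haveI : Subsingleton (S' ⧸ stabilizer S' ω0.out) := ⟨fun a b => by
      obtain ⟨a, rfl⟩ := QuotientGroup.mk_surjective a
      obtain ⟨b, rfl⟩ := QuotientGroup.mk_surjective b
      rw [QuotientGroup.eq, hst]; trivial⟩
    rw [Fintype.prod_subsingleton _ ((1 : S') : S' ⧸ stabilizer S' ω0.out)] at hprod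
    have e : ((selfEquivSigmaOrbitsQuotientStabilizer S' (G ⧸ M)).symm
        ⟨ω0, ((1 : S') : S' ⧸ stabilizer S' ω0.out)⟩).out = q0.out := by
      congr 1
      show (1 : S') • ω0.out = q0
      rw [one_smul, hω0]
    rw [e, fixTerm_congr φ (g : G) (d := 1) (QuotientGroup.out_eq' _),
      fixTerm_of_mem φ (c := 1) (by simpa using g.2)] at hprod
    rw [← hprod]; congr 1; exact Subtype.ext (by simp)
  set c := ω.out.out with hc
  let Q : Subgroup S' := stabilizer S' ω.out
  have hQmem : ∀ s : S', s ∈ Q ↔ c⁻¹ * (s : G) * c ∈ M := by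
    intro s
    rw [mem_stabilizer_iff, ← QuotientGroup.out_eq' ω.out]
    show (((s : G) * c : G)   : G ⧸ M) = _ ↔ _
    rw [QuotientGroup.eq, ← inv_mem_iff]
    simp [mul_assoc, hc]
  let θ : Q →* Multiplicative (ZMod p) :=
    { toFun := fun s => φ ⟨c⁻¹ * ((s : S') : G) * c, (hQmem s).mp s.2⟩
      map_one' := by
        convert φ.map_one
        simp
      map_mul' := fun x y => by
        rw [← map_mul]
        congr 1
        exact Subtype.ext (by simp [mul_assoc]) }
  let gS : S' := ⟨(g : G), hgS⟩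
  have hkθ : Kills θ gS := by
    intro x h1 h2
    rw [← Subgroup.orderOf_coe (x : S'), ← Subgroup.orderOf_coe gS] at h1 h2
    refine hkill ⟨c⁻¹ * ((x : S') : G) * c, (hQmem x).mp x.2⟩ ?_ ?_ <;>
      rw [show ((⟨c⁻¹ * ((x : S') : G) * c, (hQmem x).mp x.2⟩ : M) : G) =
        MulAut.conj c⁻¹ ((x : S') : G) by simp, MulEquiv.orderOf_eq]
    · exact h1
    · exact h2
  refine ⟨c, Q, θ, gS, fun hcM => ?_, hQmem, hkθ, ?_⟩
  · apply hωne
    have : ω.out = q0 := by
      rw [← QuotientGroup.out_eq' ω.out, QuotientGroup.eq]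
      simpa using hcM
    rw [← Quotient.out_eq' ω, this]
  rw [@transfer_eq_prod_fixTerm S' _ Q _ _ _ (inferInstanceAs (Fintype (S' ⧸ stabilizer S' ω.out))) θ gS hkθ]
  convert hωprod using 1
  refine Fintype.prod_congr _ _ fun x => ?_
  have hrep : ((((selfEquivSigmaOrbitsQuotientStabilizer S' (G ⧸ M)).symm ⟨ω, x⟩).out : G)   : G ⧸ M)
      = (((x.out : G) * c : G)   : G ⧸ M) := by
    rw [QuotientGroup.out_eq']
    conv_lhs => rw [← QuotientGroup.out_eq' x]
    show x.out • ω.out = _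
    conv_lhs => rw [← QuotientGroup.out_eq' ω.out]
    rfl
  rw [fixTerm_congr φ (g : G) hrep]
  have e : c⁻¹ * ((x.out⁻¹ * gS * x.out : S') : G) * c
      = ((x.out : G) * c)⁻¹ * (g : G) * ((x.out : G) * c) := by
    simp [gS, mul_assoc]
  by_cases hm : x.out⁻¹ * gS * x.out ∈ Q
  · have hm' : ((x.out : G) * c)⁻¹ * (g : G) * ((x.out : G) * c) ∈ M := e ▸ (hQmem _).mp hm
    rw [fixTerm_of_mem θ hm, fixTerm_of_mem φ hm']
    exact congrArg φ (Subtype.ext e)
  · have hm' : ((x.out : G) * c)⁻¹ * (g : G) * ((x.out : G) * c) ∉ M := fun hh =>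
      hm ((hQmem _).mpr (e ▸ hh))
    rw [fixTerm_of_not_mem θ hm, fixTerm_of_not_mem φ hm']

end Cfsg.Agent.FocalCharacter
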