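import Mathlib
import Cfsg.Agent.WreathTransfer

/-!
Steps of Yoshida's transfer argument: descent through intermediate subgroups, the iterated
commutator identity, and the choice of a double coset with nontrivial contribution.
-/

set_option linter.all false

namespace Cfsg.Agent.YoshidaStep

open Subgroup MulAction Cfsg.Agent.WreathTransfer

section Descent

variable {P : Type*} [Group P] [Finite P] {T : Type*} [CommGroup T]
  {Q R : Subgroup P}

/-- `θ` seen on `Q.subgroupOf R`. -/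
noncomputable def restr (θ : Q →* T) (hle : Q ≤ R) : Q.subgroupOf R →* T :=
  θ.comp (Subgroup.subgroupOfEquivOfLe hle).toMonoidHom

theorem kills_restr (θ : Q →* T) (hle : Q ≤ R) {g a : P} (hk : Kills θ g) (h : a⁻¹ * g * a ∈ R) :
    Kills (restr θ hle) ⟨a⁻¹ * g * a, h⟩ := by
  intro x h1 h2
  have hord : orderOf (⟨a⁻¹ * g * a, h⟩ : R) = orderOf g := by
    rw [← Subgroup.orderOf_coe]
    show orderOf (a⁻¹ * g * a) = _
    rw [show a⁻¹ * g * a = MulAut.conj a⁻¹ g by simp, MulEquiv.orderOf_eq]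
  rw [hord, ← Subgroup.orderOf_coe] at h1 h2
  exact hk _ h1 h2

theorem fiber_eq [Fintype (R ⧸ Q.subgroupOf R)] (θ : Q →* T) (hle : Q ≤ R) {g a : P}
    (hk : Kills θ g) (h : a⁻¹ * g * a ∈ R) :
    MonoidHom.transfer (restr θ hle) ⟨a⁻¹ * g * a, h⟩ =
      ∏ r : R ⧸ Q.subgroupOf R, fixTerm θ g (a * (r.out : P)) := by
  rw [transfer_eq_prod_fixTerm _ _ (kills_restr θ hle hk h)]
  refine Fintype.prod_congr _ _ fun r => ?_
  have e : ((r.out⁻¹ * ⟨a⁻¹ * g * a, h⟩ * r.out : R) : P)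
      = (a * (r.out : P))⁻¹ * g * (a * r.out) := by
    simp [mul_assoc]
  by_cases hm : r.out⁻¹ * (⟨a⁻¹ * g * a, h⟩ : R) * r.out ∈ Q.subgroupOf R
  · have hm' : (a * (r.out : P))⁻¹ * g * (a * r.out) ∈ Q := e ▸ hm
    rw [fixTerm_of_mem _ hm, fixTerm_of_mem θ hm']
    exact congrArg θ (Subtype.ext e)
  · have hm' : (a * (r.out : P))⁻¹ * g * (a * r.out) ∉ Q := fun hh => hm (by
      rw [Subgroup.mem_subgroupOf, e]; exact hh)
    rw [fixTerm_of_not_mem _ hm, fixTerm_of_not_mem θ hm']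

theorem transfer_eq_prod_fiber [Fintype (P ⧸ Q)] [Fintype (P ⧸ R)]
    [Fintype (R ⧸ Q.subgroupOf R)] (θ : Q →* T) (hle : Q ≤ R) (g : P) (hk : Kills θ g) :
    MonoidHom.transfer θ g =
      ∏ a : P ⧸ R, ∏ r : R ⧸ Q.subgroupOf R, fixTerm θ g (a.out * (r.out : P)) := by
  rw [transfer_eq_prod_fixTerm θ g hk, ← (Subgroup.quotientEquivProdOfLE hle).symm.prod_comp,
    Fintype.prod_prod_type]
  refine Fintype.prod_congr _ _ fun a => Fintype.prod_congr _ _ fun r => fixTerm_congr θ g ?_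
  rw [QuotientGroup.out_eq']
  conv_lhs => rw [← QuotientGroup.out_eq' r]
  rfl

/-- If the transfer at `g` is nontrivial, so is it inside `R` at some conjugate of `g`. -/
theorem exists_descent (θ : Q →* T) (hle : Q ≤ R) (g : P) (hk : Kills θ g)
    (hne : MonoidHom.transfer θ g ≠ 1) :
    ∃ (a : P) (h : a⁻¹ * g * a ∈ R), MonoidHom.transfer (restr θ hle) ⟨a⁻¹ * g * a, h⟩ ≠ 1 := by
  classical
  haveI := Fintype.ofFinite (P ⧸ Q)
  haveI := Fintype.ofFinite (P ⧸ R)
  haveI := Fintype.ofFinite (R ⧸ Q.subgroupOf R)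
  rw [transfer_eq_prod_fiber θ hle g hk] at hne
  obtain ⟨a, -, ha⟩ := Finset.exists_ne_one_of_prod_ne_one hne
  obtain ⟨r, -, hr⟩ := Finset.exists_ne_one_of_prod_ne_one ha
  have hmem : a.out⁻¹ * g * a.out ∈ R := by
    by_contra hh
    apply hr
    apply fixTerm_of_not_mem
    intro h2
    apply hh
    have := R.mul_mem (R.mul_mem r.out.2 (hle h2)) (R.inv_mem r.out.2)
    simpa [mul_assoc] using this
  exact ⟨a.out, hmem, by rw [fiber_eq θ hle hk hmem]; exact ha⟩

theorem transfer_eq_prod_conjIn [hR : R.Normal] [Fintype (P ⧸ R)] (θ : Q →* T) (hle : Q ≤ R)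
    (g : R) (hk : Kills θ (g : P)) :
    MonoidHom.transfer θ (g : P) =
      ∏ a : P ⧸ R, MonoidHom.transfer (restr θ hle) (conjIn R a.out g) := by
  classical
  haveI := Fintype.ofFinite (P ⧸ Q)
  haveI := Fintype.ofFinite (R ⧸ Q.subgroupOf R)
  rw [transfer_eq_prod_fiber θ hle (g : P) hk]
  refine Fintype.prod_congr _ _ fun a => ?_
  have hmem : a.out⁻¹ * (g : P) * a.out ∈ R := (conjIn R a.out g).2
  rw [show conjIn R a.out g = ⟨a.out⁻¹ * (g : P) * a.out, hmem⟩ from rfl,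
    fiber_eq θ hle hk hmem]

end Descent

section Engel

open Polynomial in
/-- `(T - 1)^(p-1) = 1 + T + ⋯ + T^(p-1)` modulo `p`. -/
theorem sub_one_pow_prime_sub_one {p : ℕ} [hp : Fact p.Prime] :
    ((X : (ZMod p)[X]) - 1) ^ (p - 1) = ∑ i ∈ Finset.range p, X ^ i := by
  apply mul_right_cancel₀ (X_sub_C_ne_zero (1 : ZMod p))
  rw [map_one, geom_sum_mul, ← pow_succ, Nat.sub_add_cancel hp.out.one_le, sub_pow_char, one_pow]

theorem iterate_diff_sum {p : ℕ} [hp : Fact p.Prime] (f : ℕ → ℕ → ZMod p)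
    (hf : ∀ k i, f (k + 1) i = f k (i + 1) - f k i) :
    f (p - 1) 0 = ∑ i ∈ Finset.range p, f 0 i := by
  let S : Module.End (ZMod p) (ℕ → ZMod p) := LinearMap.funLeft (ZMod p) (ZMod p) Nat.succ
  have hS : ∀ (i : ℕ) (u : ℕ → ZMod p) (j : ℕ), ((S ^ i) u) j = u (j + i) := by
    intro i
    induction i with
    | zero => intro u j; simp
    | succ i ih =>
      intro u j
      rw [pow_succ, Module.End.mul_apply, ih]
      show u (Nat.succ (j + i)) = _
      rw [Nat.succ_eq_add_one, add_assoc]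
  have hk : ∀ k, f k = ((S - 1) ^ k) (f 0) := by
    intro k
    induction k with
    | zero => simp
    | succ k ih =>
      funext i
      rw [hf, pow_succ', Module.End.mul_apply, ← ih, LinearMap.sub_apply, Module.End.one_apply,
        Pi.sub_apply]
      rfl
  rw [hk]
  have h2 := congrArg (Polynomial.aeval S) (sub_one_pow_prime_sub_one (p := p))
  simp only [map_pow, map_sub, map_one, Polynomial.aeval_X, map_sum] at h2
  rw [h2, LinearMap.sum_apply, Finset.sum_apply]
  exact Finset.sum_congr rfl fun i _ => by rw [hS, Nat.zero_add]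

variable {p : ℕ} [hp : Fact p.Prime] {P : Type*} [Group P] [Finite P]

/-- `h ↦ h⁻¹ z⁻¹ h z` on a normal subgroup. -/
def dmap (R : Subgroup P) [R.Normal] (z : P) (h : R) : R := h⁻¹ * conjIn R z h

theorem dmap_coe (R : Subgroup P) [R.Normal] (z : P) (h : R) :
    (dmap R z h : P) = (h : P)⁻¹ * z⁻¹ * h * z := by
  simp [dmap, conjIn, mul_assoc]

theorem psi_dmap_ne_one (R : Subgroup P) [R.Normal] (hR : R.index = p) [Fintype (P ⧸ R)]
    (ψ : R →* Multiplicative (ZMod p)) {z : P} (hz : z ∉ R) (g : R)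
    (hne : ∏ a : P ⧸ R, ψ (conjIn R a.out g) ≠ 1) :
    ψ ((dmap R z)^[p - 1] g) ≠ 1 := by
  classical
  have hcard : Nat.card (P ⧸ R) = p := hR
  have hcongr : ∀ {c d : P} (h : R), (c : P ⧸ R) = d → ψ (conjIn R c h) = ψ (conjIn R d h) := by
    intro c d h hcd
    obtain ⟨n, rfl⟩ : ∃ n : R, d = c * n := ⟨⟨c⁻¹ * d, QuotientGroup.eq.mp hcd⟩, by simp⟩
    have e : conjIn R (c * n) h = n⁻¹ * conjIn R c h * n :=
      Subtype.ext (by simp [conjIn, mul_assoc])
    rw [e, map_mul, map_mul, map_inv, mul_comm, mul_inv_cancel_left]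
  let b : Fin p → P ⧸ R := fun i => (z : P ⧸ R) ^ (i : ℕ)
  have hord : orderOf (z : P ⧸ R) = p := by
    rcases (Nat.dvd_prime hp.out).mp (hcard ▸ orderOf_dvd_natCard (z : P ⧸ R)) with h | h
    · exact absurd ((QuotientGroup.eq_one_iff z).mp (orderOf_eq_one_iff.mp h)) hz
    · exact h
  have hb : Function.Bijective b := by
    rw [Fintype.bijective_iff_injective_and_card]
    refine ⟨fun i j hij => ?_, by rw [Fintype.card_fin, ← Nat.card_eq_fintype_card, hcard]⟩
    exact Fin.ext (pow_injOn_Iio_orderOf (hord.symm ▸ i.2) (hord.symm ▸ j.2) hij)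
  rw [← (Equiv.ofBijective b hb).prod_comp,
    Fintype.prod_congr _ (fun i : Fin p => ψ (conjIn R (z ^ (i : ℕ)) g))
      (fun i => hcongr g (by rw [QuotientGroup.out_eq']; rfl)),
    Fin.prod_univ_eq_prod_range (fun i => ψ (conjIn R (z ^ i) g))] at hne
  let f : ℕ → ℕ → ZMod p := fun k i => (ψ (conjIn R (z ^ i) ((dmap R z)^[k] g))).toAdd
  have hf : ∀ k i, f (k + 1) i = f k (i + 1) - f k i := by
    intro k i
    simp only [f, Function.iterate_succ_apply']
    set h := (dmap R z)^[k] g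
    have e : conjIn R (z ^ i) (dmap R z h) = (conjIn R (z ^ i) h)⁻¹ * conjIn R (z ^ (i + 1)) h := by
      apply Subtype.ext
      simp [dmap, conjIn, mul_assoc, pow_succ']
    rw [e, map_mul, map_inv, toAdd_mul, toAdd_inv, sub_eq_neg_add]
  intro h1
  apply hne
  have h2 := iterate_diff_sum f hf
  have e0 : f (p - 1) 0 = 0 := by
    show (ψ (conjIn R (z ^ 0) ((dmap R z)^[p - 1] g))).toAdd = 0
    rw [show conjIn R (z ^ 0) ((dmap R z)^[p - 1] g) = (dmap R z)^[p - 1] g from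
      Subtype.ext (by simp [conjIn]), h1, toAdd_one]
  rw [e0] at h2
  have h3 : (∏ i ∈ Finset.range p, ψ (conjIn R (z ^ i) g)).toAdd = 0 := by
    rw [toAdd_prod, h2]; rfl
  simpa using congrArg Multiplicative.ofAdd h3

end Engel

end Cfsg.Agent.YoshidaStep
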