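import Cfsg.Statements.S2792
import Cfsg.Agent.FocalCharacter
import Cfsg.Agent.YoshidaStep

set_option autoImplicit false
set_option linter.all false
open Cfsg

namespace Cfsg.Agent.S2792

open Subgroup MulAction Cfsg.Agent.WreathTransfer Cfsg.Agent.YoshidaStep Cfsg.Agent.FocalCharacter

theorem isCoatom_of_prime_index {H : Type*} [Group H] [Finite H] {K : Subgroup H} {p : ℕ}
    (hp : p.Prime) (hK : K.index = p) : IsCoatom K := by
  refine ⟨fun h => by rw [h, Subgroup.index_top] at hK; exact hp.one_lt.ne hK, fun L hL => ?_⟩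
  rcases (Nat.dvd_prime hp).mp (hK ▸ Subgroup.index_dvd_of_le hL.le) with h | h
  · exact Subgroup.index_eq_one.mp h
  · exfalso
    have := Subgroup.relIndex_mul_index hL.le
    rw [hK, h] at this
    have h1 : K.relIndex L = 1 := Nat.eq_of_mul_eq_mul_right hp.pos (by rw [this, one_mul])
    exact hL.not_ge (Subgroup.relIndex_eq_one.mp h1)

theorem exists_normal_index_prime {p : ℕ} [hp : Fact p.Prime] {P : Type*} [Group P] [Finite P]
    (hP : IsPGroup p P) {Q : Subgroup P} (hQ : Q ≠ ⊤) :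
    ∃ R : Subgroup P, Q ≤ R ∧ R.Normal ∧ R.index = p := by
  obtain ⟨n, hn⟩ := hP.exists_card_eq
  obtain ⟨k, hkQ⟩ := (hP.to_subgroup Q).exists_card_eq
  have hlt : k < n := by
    have h1 : Nat.card Q ≠ Nat.card P := fun hh => hQ (Subgroup.eq_top_of_card_eq _ hh)
    have h2 := Subgroup.card_le_card_group Q
    rw [hkQ, hn] at h1 h2
    exact (Nat.pow_lt_pow_iff_right hp.out.one_lt).mp (lt_of_le_of_ne h2 h1)
  obtain ⟨R, hRc, hle⟩ := Sylow.exists_subgroup_card_pow_prime_le (G := P) p (m := n - 1)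
    (hn ▸ pow_dvd_pow p (Nat.sub_le n 1)) Q hkQ (by omega)
  have hRi : R.index = p := by
    have := R.card_mul_index
    rw [hRc, hn] at this
    apply Nat.eq_of_mul_eq_mul_left (pow_pos hp.out.pos (n - 1))
    rw [this, ← pow_succ, Nat.sub_add_cancel (by omega)]
  exact ⟨R, hle, Subgroup.normal_of_index_eq_minFac_card (by
    rw [hRi, hn, Nat.pow_minFac (by omega), hp.out.minFac_eq]), hRi⟩

theorem result {G : Type*} [Group G] [Finite G] {p : ℕ} [Fact p.Prime] (S : Sylow p G) (W : Subgroup G) (hW : Cfsg.IsWeaklyClosed W (S : Subgroup G)) (h : (S : Subgroup G) ⊓ commutator G ≠ (S : Subgroup G) ⊓ ⁅Subgroup.normalizer (W : Set G), Subgroup.normalizer (W : Set G)⁆) : ∃ x ∈ (S : Subgroup G), ∃ z ∈ W, ∃ W₀ : Subgroup ↥W, IsCoatom W₀ ∧ (fun y : G => y⁻¹ * z⁻¹ * y * z)^[p - 1] x ∈ W₀.map W.subtype ∧ (fun y : G => y⁻¹ * z⁻¹ * y * z)^[p - 1] x ∉ ((frattini ↥W₀).map W₀.subtype).map W.subtype := by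
  classical
  set M := Subgroup.normalizer (W : Set G) with hM
  obtain ⟨hWS, hWc⟩ := hW
  have hmemM : ∀ g : G, W.map (MulAut.conj g).toMonoidHom = W → g ∈ M := by
    intro g hg
    rw [hM, Subgroup.mem_normalizer_iff]
    intro x
    constructor
    · intro hx; rw [← hg]; exact ⟨x, hx, by simp⟩
    · intro hx
      rw [← hg] at hx
      obtain ⟨y, hy, hye⟩ := hx
      have : y = x := (MulAut.conj g).injective (hye.trans (by simp))
      exact this ▸ hy
  have hSM : (S : Subgroup G) ≤ M := fun s hs => hmemM s (hWc s (by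
    rintro _ ⟨w, hw, rfl⟩
    exact (S : Subgroup G).mul_mem (Subgroup.mul_mem _ hs (hWS hw)) (Subgroup.inv_mem _ hs)))
  obtain ⟨c, Q, θ, gS, hcM, hQ, hkθ, hne⟩ := exists_double_coset S M hSM h
  -- `W` is not contained in `Q`
  have hWQ : ¬ W.subgroupOf (S : Subgroup G) ≤ Q := by
    intro hle
    let X : Subgroup G := W.map (MulAut.conj c⁻¹).toMonoidHom
    have hXM : X ≤ M := by
      rintro _ ⟨w, hw, rfl⟩
      have := (hQ ⟨w, hWS hw⟩).mp (hle hw)
      simpa using this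
    obtain ⟨m, hm⟩ := exists_conj_mem S M hSM X hXM ((S.isPGroup'.to_le hWS).map _)
    apply hcM
    have h1 : (m : G) * c⁻¹ ∈ M := hmemM _ (hWc _ (by
      rintro _ ⟨w, hw, rfl⟩
      have := hm _ ⟨w, hw, rfl⟩
      simpa [mul_assoc] using this))
    have h2 := M.mul_mem (M.inv_mem m.2) h1
    rw [← mul_assoc, inv_mul_cancel, one_mul] at h2
    simpa using h2
  let P : Subgroup G := (S : Subgroup G)
  let WP : Subgroup P := W.subgroupOf P
  haveI hWn : WP.Normal := ⟨fun w hw s => by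
    have h1 : (s : G) ∈ M := hSM s.2
    exact (Subgroup.mem_normalizer_iff.mp h1 (w : G)).mp hw⟩
  let T : Subgroup P := Q ⊔ WP
  have hQT : Q ≤ T := le_sup_left
  obtain ⟨a, haT, hψ1⟩ := exists_descent θ hQT gS hkθ hne
  have hQT' : Q.subgroupOf T ≠ ⊤ := fun hh => hWQ
    (le_trans (le_sup_right : WP ≤ T) (Subgroup.subgroupOf_eq_top.mp hh))
  obtain ⟨R, hQR, hRn, hRi⟩ := exists_normal_index_prime ((S.isPGroup').to_subgroup T) hQT'
  haveI := hRn
  haveI := Fintype.ofFinite (↥T ⧸ R)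
  let g' : ↥T := ⟨a⁻¹ * gS * a, haT⟩
  have hk1 := kills_restr θ hQT hkθ haT
  obtain ⟨b, hbR, -⟩ := exists_descent (restr θ hQT) hQR g' hk1 hψ1
  have hg'R : g' ∈ R := by
    have := hRn.conj_mem _ hbR b
    simpa [mul_assoc] using this
  rw [show (⟨a⁻¹ * gS * a, haT⟩ : ↥T) = ((⟨g', hg'R⟩ : R) : ↥T) from rfl,
    transfer_eq_prod_conjIn (restr θ hQT) hQR ⟨g', hg'R⟩ hk1] at hψ1
  let ψ : R →* Multiplicative (ZMod p) := MonoidHom.transfer (restr (restr θ hQT) hQR)
  -- an element of `W` outside `R`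
  let incl : W →* ↥T :=
    { toFun := fun w => ⟨⟨w, hWS w.2⟩, Subgroup.mem_sup_right (show (⟨(w : G), hWS w.2⟩ : P) ∈ WP from w.2)⟩
      map_one' := rfl
      map_mul' := fun x y => rfl }
  obtain ⟨z, hz⟩ : ∃ z : W, incl z ∉ R := by
    by_contra hcon
    push Not at hcon
    have hW' : WP ≤ R.map T.subtype := fun w hw =>
      ⟨incl ⟨w, hw⟩, hcon _, rfl⟩
    have hQ' : Q ≤ R.map T.subtype := fun q hq =>
      ⟨⟨q, hQT hq⟩, hQR (Subgroup.mem_subgroupOf.mpr hq), rfl⟩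
    have htop : (⊤ : Subgroup T) ≤ R := by
      intro t _
      obtain ⟨u, hu, hue⟩ := sup_le hQ' hW' t.2
      have : u = t := Subtype.ext hue
      exact this ▸ hu
    rw [top_le_iff.mp htop, Subgroup.index_top] at hRi
    exact (Fact.out : p.Prime).one_lt.ne hRi
  have hne2 := psi_dmap_ne_one R hRi ψ hz ⟨g', hg'R⟩ hψ1
  set y : R := (dmap R (incl z))^[p - 1] ⟨g', hg'R⟩ with hy
  have hsemi : Function.Semiconj (fun h : R => (((h : ↥T) : P) : G)) (dmap R (incl z))
      (fun u : G => u⁻¹ * (z : G)⁻¹ * u * (z : G)) := fun h => by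
    show (((dmap R (incl z) h : R) : ↥T) : P).1 = _
    rw [dmap_coe]
    simp [incl]
  have hyG : (fun u : G => u⁻¹ * (z : G)⁻¹ * u * (z : G))^[p - 1] ((g' : P) : G)
      = (((y : ↥T) : P) : G) := ((hsemi.iterate_right (p - 1)) ⟨g', hg'R⟩).symm
  have hyW : (((y : ↥T) : P) : G) ∈ W := by
    obtain ⟨k, hk⟩ : ∃ k, p - 1 = k + 1 :=
      ⟨p - 2, by have := (Fact.out : p.Prime).two_le; omega⟩
    rw [← hyG, hk, Function.iterate_succ_apply']
    set u := (fun u : G => u⁻¹ * (z : G)⁻¹ * u * (z : G))^[k] ((g' : P) : G) with hu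
    have huP : u ∈ M := hSM (by
      rw [hu, ← (hsemi.iterate_right k) ⟨g', hg'R⟩]
      exact SetLike.coe_mem _)
    have h1 : u⁻¹ * (z : G)⁻¹ * u ∈ W := by
      have := (Subgroup.mem_normalizer_iff.mp (M.inv_mem huP) (z : G)⁻¹).mp (W.inv_mem z.2)
      simpa [hM] using this
    exact W.mul_mem h1 z.2
  let W₀ : Subgroup W := R.comap incl
  have hW₀i : W₀.index = p := by
    have e : W₀ = ((QuotientGroup.mk' R).comp incl).ker := by
      rw [← MonoidHom.comap_ker, QuotientGroup.ker_mk']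
    rw [e, Subgroup.index_ker]
    haveI : Fact (Nat.card (↥T ⧸ R)).Prime :=
      ⟨by rw [show Nat.card (↥T ⧸ R) = p from hRi]; exact Fact.out⟩
    rw [((QuotientGroup.mk' R).comp incl).range.eq_bot_or_eq_top_of_prime_card.resolve_left
      (fun hb => hz ?_), Subgroup.card_top]
    · exact hRi
    · rw [← QuotientGroup.eq_one_iff]
      have h1 : (QuotientGroup.mk' R).comp incl z ∈ ((QuotientGroup.mk' R).comp incl).range :=
        ⟨z, rfl⟩
      rw [hb, Subgroup.mem_bot] at h1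
      exact h1
  have hincl : incl ⟨_, hyW⟩ = (y : ↥T) := rfl
  have hyW0 : (⟨_, hyW⟩ : W) ∈ W₀ := by
    show incl ⟨_, hyW⟩ ∈ R
    rw [hincl]; exact y.2
  refine ⟨((g' : P) : G), (g' : P).2, (z : G), z.2, W₀,
    isCoatom_of_prime_index Fact.out hW₀i, ⟨⟨_, hyW⟩, hyW0, hyG.symm⟩, ?_⟩
  rintro ⟨w, ⟨v, hv, hvw⟩, hw⟩
  let χ : W₀ →* Multiplicative (ZMod p) :=
    ψ.comp ((incl.comp W₀.subtype).codRestrict R fun v => v.2)
  have hχ : χ ⟨⟨_, hyW⟩, hyW0⟩ ≠ 1 := hne2
  have hker : IsCoatom χ.ker := by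
    apply isCoatom_of_prime_index (p := p) Fact.out
    have hpT : Nat.card (Multiplicative (ZMod p)) = p := by
      rw [Nat.card_congr Multiplicative.toAdd, Nat.card_zmod]
    haveI : Fact (Nat.card (Multiplicative (ZMod p))).Prime := ⟨by rw [hpT]; exact Fact.out⟩
    rw [Subgroup.index_ker, χ.range.eq_bot_or_eq_top_of_prime_card.resolve_left
      (fun hb => hχ ?_), Subgroup.card_top, hpT]
    have h1 : χ ⟨⟨_, hyW⟩, hyW0⟩ ∈ χ.range := ⟨_, rfl⟩
    rwa [hb, Subgroup.mem_bot] at h1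
  have hv' : v ∈ χ.ker := frattini_le_coatom hker hv
  apply hχ
  have hve : v = ⟨⟨_, hyW⟩, hyW0⟩ := by
    apply Subtype.ext
    apply Subtype.ext
    rw [show (v : W) = w from hvw]
    exact hw.trans hyG
  rw [← hve]
  exact hv'

end Cfsg.Agent.S2792
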