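import Cfsg.Statements.S4215
import Cfsg.Agent.S2792
import Cfsg.Agent.Fusion.Tate

set_option autoImplicit false
open Cfsg

set_option linter.all false

namespace Cfsg.Agent.S4215

/-- Let `P` be a Sylow `p`-subgroup of the finite group `G`, `Q` a subgroup of `P` weakly closed in `P` with respect to `G`, and `H` the normalizer of `Q`. Suppose that for all `u ∈ P` and `z ∈ Q` the iterated commutator `[u, z, …, z]` with `p - 1` entries `z` is trivial, where `[x, z] = x⁻¹z⁻¹xz` and `[x, z, z] = [[x, z], z]`. Then `O^p(H) = O^p(G) ∩ H`, where `O^p` denotes the subgroup generated by the elements of order prime to `p`; so the largest `p`-factor groups of `G` and of `H` are isomorphic. -/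
theorem result {G : Type*} [Group G] [Finite G] {p : ℕ} [Fact p.Prime] (P : Sylow p G) (Q : Subgroup G) (hQ : Cfsg.IsWeaklyClosed Q (P : Subgroup G)) (h : ∀ u ∈ (P : Subgroup G), ∀ z ∈ Q, (fun y : G => y⁻¹ * z⁻¹ * y * z)^[p - 1] u = 1) : Cfsg.pResidualOf p (Subgroup.normalizer (Q : Set G)) = Cfsg.pResidual p G ⊓ Subgroup.normalizer (Q : Set G) := by
  classical
  set N := Subgroup.normalizer (Q : Set G) with hN
  have hPN : (P : Subgroup G) ≤ N := by
    intro s hs
    have h1 := hQ.2 s (by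
      rintro _ ⟨w, hw, rfl⟩
      exact (P : Subgroup G).mul_mem (Subgroup.mul_mem _ hs (hQ.1 hw)) (Subgroup.inv_mem _ hs))
    rw [hN, Subgroup.mem_normalizer_iff]
    intro x
    constructor
    · intro hx; rw [← h1]; exact ⟨x, hx, by simp⟩
    · intro hx
      rw [← h1] at hx
      obtain ⟨y, hy, hye⟩ := hx
      have : y = x := (MulAut.conj s).injective (hye.trans (by simp))
      exact this ▸ hy
  have hfoc : (P : Subgroup G) ⊓ commutator G = (P : Subgroup G) ⊓ ⁅N, N⁆ := by
    by_contra hne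
    obtain ⟨x, hx, z, hz, W₀, -, -, hnot⟩ := Cfsg.Agent.S2792.result P Q hQ hne
    apply hnot
    rw [h x hx z hz]
    exact one_mem _
  have hT := Cfsg.Agent.Fusion.inf_pResidual_eq_of_commutator_inf_eq P N hPN (by
    rw [inf_comm, hfoc]; exact inf_le_right)
  refine le_antisymm (Cfsg.Agent.Fusion.map_pResidual_subgroup_le N) ?_
  rintro x ⟨hxM, hxN⟩
  have htop : (⟨x, hxN⟩ : N) ∈ ((P.subtype hPN : Sylow p N) : Subgroup N) ⊔ Cfsg.pResidual p N := by
    rw [Cfsg.Agent.Fusion.sylow_sup_pResidual]; trivial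
  haveI : (Cfsg.pResidual p N).Normal := inferInstance
  rw [← SetLike.mem_coe, Subgroup.mul_normal] at htop
  obtain ⟨y, hy, m, hm, hym⟩ := htop
  have hyP : (y : G) ∈ (P : Subgroup G) := by
    rw [Sylow.coe_subtype] at hy
    exact hy
  have hmM : (m : G) ∈ Cfsg.pResidual p G :=
    (Cfsg.Agent.Fusion.map_pResidual_subgroup_le N ⟨m, hm, rfl⟩).1
  have hx : x = (y : G) * m := (congrArg Subtype.val hym).symm
  have hyM : (y : G) ∈ Cfsg.pResidual p G := by
    have h1 := Subgroup.mul_mem _ hxM (Subgroup.inv_mem _ hmM)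
    rwa [hx, mul_inv_cancel_right] at h1
  have h2 : (y : G) ∈ (Cfsg.pResidual p N).map N.subtype := (hT ▸ ⟨hyP, hyM⟩ :
    (y : G) ∈ (P : Subgroup G) ⊓ (Cfsg.pResidual p N).map N.subtype).2
  rw [hx]
  exact Subgroup.mul_mem _ h2 ⟨m, hm, rfl⟩

end Cfsg.Agent.S4215
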