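import Cfsg.Statements.S0206
import Cfsg.Agent.Invol.Pair
import Mathlib.GroupTheory.SpecificGroups.Dihedral

set_option autoImplicit false
open Cfsg

namespace Cfsg.Agent.S0206

/-- Two distinct involutions x, y of a finite group generate a subgroup isomorphic to the dihedral group of order 2·|xy|. -/
theorem result {G : Type*} [Group G] [Finite G] (x y : G) (hx : orderOf x = 2) (hy : orderOf y = 2) (hxy : x ≠ y) : Nonempty (↥(Subgroup.closure ({x, y} : Set G)) ≃* DihedralGroup (orderOf (x * y))) := by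
  set n := orderOf (x * y) with hn
  have hn0 : NeZero n := ⟨(orderOf_pos _).ne'⟩
  have hpow : ∀ (i : ZMod n) (k : ℤ), (k : ZMod n) = i → (x * y) ^ (i.val : ℤ) = (x * y) ^ k := by
    intro i k hk
    rw [zpow_eq_zpow_iff_modEq, ← hn, ← ZMod.intCast_eq_intCast_iff, hk]
    simp
  let f : DihedralGroup n → Subgroup.closure ({x, y} : Set G) := fun d => match d with
    | .r i => ⟨(x * y) ^ (i.val : ℤ), Invol.zpow_mem_closure _⟩
    | .sr i => ⟨x * (x * y) ^ (i.val : ℤ), mul_mem Invol.self_mem_closure (Invol.zpow_mem_closure _)⟩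
  have hmul : ∀ a b, f (a * b) = f a * f b := by
    intro a b
    apply Subtype.ext
    rcases a with i | i <;> rcases b with j | j
    · show (x * y) ^ ((i + j).val : ℤ) = _ * _
      rw [hpow (i + j) ((i.val : ℤ) + j.val) (by simp), zpow_add]
    · show x * (x * y) ^ ((j - i).val : ℤ) = (x * y) ^ (i.val : ℤ) * (x * (x * y) ^ (j.val : ℤ))
      rw [hpow (j - i) (-(i.val : ℤ) + j.val) (by simp [sub_eq_neg_add]), ← mul_assoc,
        Invol.zpow_mul_self hx hy, zpow_add, mul_assoc]
    · show x * (x * y) ^ ((i + j).val : ℤ) = x * (x * y) ^ (i.val : ℤ) * (x * y) ^ (j.val : ℤ)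
      rw [hpow (i + j) ((i.val : ℤ) + j.val) (by simp), zpow_add, mul_assoc]
    · show (x * y) ^ ((j - i).val : ℤ) = x * (x * y) ^ (i.val : ℤ) * (x * (x * y) ^ (j.val : ℤ))
      rw [hpow (j - i) (-(i.val : ℤ) + j.val) (by simp [sub_eq_neg_add]), mul_assoc x,
        ← mul_assoc ((x * y) ^ (i.val : ℤ)), Invol.zpow_mul_self hx hy, mul_assoc x ((x * y) ^ (-(i.val : ℤ))),
        Invol.mul_mul_cancel_self hx, zpow_add]
  have hbij : Function.Bijective f := by
    constructor
    · intro a b hab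
      rw [Subtype.ext_iff] at hab
      rcases a with i | i <;> rcases b with j | j
      · change (x * y) ^ (i.val : ℤ) = (x * y) ^ (j.val : ℤ) at hab
        rw [zpow_eq_zpow_iff_modEq, ← hn, ← ZMod.intCast_eq_intCast_iff] at hab
        simpa using hab
      · exfalso
        change (x * y) ^ (i.val : ℤ) = x * (x * y) ^ (j.val : ℤ) at hab
        apply Invol.self_notMem_zpowers hx hy
        have h : x = (x * y) ^ (i.val : ℤ) * ((x * y) ^ (j.val : ℤ))⁻¹ := eq_mul_inv_of_mul_eq hab.symm
        have h2 := mul_mem (Subgroup.zpow_mem_zpowers (x * y) (i.val : ℤ))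
          (inv_mem (Subgroup.zpow_mem_zpowers (x * y) (j.val : ℤ)))
        rwa [← h] at h2
      · exfalso
        change x * (x * y) ^ (i.val : ℤ) = (x * y) ^ (j.val : ℤ) at hab
        apply Invol.self_notMem_zpowers hx hy
        have h : x = (x * y) ^ (j.val : ℤ) * ((x * y) ^ (i.val : ℤ))⁻¹ := eq_mul_inv_of_mul_eq hab
        have h2 := mul_mem (Subgroup.zpow_mem_zpowers (x * y) (j.val : ℤ))
          (inv_mem (Subgroup.zpow_mem_zpowers (x * y) (i.val : ℤ)))
        rwa [← h] at h2
      · change x * (x * y) ^ (i.val : ℤ) = x * (x * y) ^ (j.val : ℤ) at hab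
        rw [mul_left_cancel_iff, zpow_eq_zpow_iff_modEq, ← hn, ← ZMod.intCast_eq_intCast_iff] at hab
        simpa using hab
    · rintro ⟨d, hd⟩
      obtain ⟨k, rfl | rfl⟩ := Invol.closure_mem hx hy hd
      · exact ⟨.r (k : ZMod n), Subtype.ext (hpow _ k rfl)⟩
      · exact ⟨.sr (k : ZMod n), Subtype.ext (congrArg (x * ·) (hpow _ k rfl))⟩
  exact ⟨(MulEquiv.ofBijective (MonoidHom.mk' f hmul) hbij).symm⟩

end Cfsg.Agent.S0206
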