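import Cfsg.Statements.S3331
import Cfsg.Agent.SelfCentThree.Main

set_option autoImplicit false
open Cfsg

namespace Cfsg.Agent.S3331

/-- Let G be a finite group containing a subgroup X of order 3 with C_G(X) = X. Then one of the following holds: G has a nilpotent normal subgroup N of order prime to 3 with G/N of order 3 or isomorphic to Sym(3); or G has an elementary abelian normal 2-subgroup N with G/N isomorphic to the alternating group of degree 5; or G is isomorphic to PSL(2,7). -/
theorem result {G : Type*} [Group G] [Finite G]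
    (X : Subgroup G) (hX : Nat.card X = 3) (hC : Subgroup.centralizer (X : Set G) = X) :
    (∃ (N : Subgroup G) (hN : N.Normal), Group.IsNilpotent N ∧ (Nat.card N).Coprime 3 ∧
        (Nat.card (G ⧸ N) = 3 ∨ Nonempty (G ⧸ N ≃* Equiv.Perm (Fin 3)))) ∨
    (∃ (N : Subgroup G) (hN : N.Normal), IsMulCommutative N ∧ (∀ n ∈ N, n ^ 2 = 1) ∧
        Nonempty (G ⧸ N ≃* alternatingGroup (Fin 5))) ∨
    Nonempty (G ≃* Matrix.ProjectiveSpecialLinearGroup (Fin 2) (ZMod 7)) := by
  obtain ⟨x, hx, hne⟩ := (Subgroup.bot_or_exists_ne_one X).resolve_left fun e => by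
    rw [e, Subgroup.card_bot] at hX
    omega
  have : Fact (Nat.Prime 3) := ⟨Nat.prime_three⟩
  have hz : Subgroup.zpowers x = X := Subgroup.eq_of_le_of_card_ge (Subgroup.zpowers_le.2 hx) (by
    have hd : orderOf x ∣ 3 := hX ▸ Subgroup.orderOf_dvd_natCard X hx
    rcases (Nat.dvd_prime Nat.prime_three).1 hd with e | e
    · exact absurd (orderOf_eq_one_iff.1 e) hne
    · rw [Nat.card_zpowers, e, hX])
  have hsc : SelfCentThree.Sc x := by
    refine ⟨?_, hne, ?_⟩
    · have := hz ▸ hX
      rw [Nat.card_zpowers] at this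
      rw [← this, pow_orderOf_eq_one]
    · rw [← Subgroup.centralizer_closure, ← Subgroup.zpowers_eq_closure, hz, hC]
  exact SelfCentThree.concl _ G rfl x hsc

end Cfsg.Agent.S3331
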