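import Cfsg.Statements.S0046
import Cfsg.Agent.Core.FrobeniusGroup
import Mathlib.GroupTheory.Nilpotent
-- import your own Cfsg.Agent.* helpers here

set_option autoImplicit false
open Cfsg

namespace Cfsg.Agent.S0046

open scoped Pointwise

universe u

theorem isSubnormal_step {G : Type*} [Group G] {D M : Subgroup G} [Group.IsNilpotent M] (hDM : D < M) :
    D < M ⊓ Subgroup.normalizer (D : Set G) := by
  have hlt : D.subgroupOf M < ⊤ := lt_top_iff_ne_top.mpr fun e =>
    hDM.not_ge (Subgroup.subgroupOf_eq_top.mp e)
  have h := Group.normalizerCondition_of_isNilpotent (G := M) _ hlt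
  rw [← Subgroup.subgroupOf_normalizer_eq hDM.le] at h
  refine lt_of_le_not_ge (le_inf hDM.le Subgroup.le_normalizer) fun hle => h.not_ge fun x hx => ?_
  exact Subgroup.mem_subgroupOf.mpr (hle ⟨x.2, Subgroup.mem_subgroupOf.mp hx⟩)

theorem schmidt : ∀ (n : ℕ) (G : Type u) [Group G] [Finite G], Nat.card G = n →
    (∀ M : Subgroup G, IsCoatom M → Group.IsNilpotent M) → Group.IsSolvable G := by
  intro n
  induction n using Nat.strong_induction_on with
  | _ n ih =>
    intro G _ _ hn h
    by_cases hex : ∃ N : Subgroup G, N.Normal ∧ N ≠ ⊥ ∧ N ≠ ⊤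
    · obtain ⟨N, hN, hN1, hN2⟩ := hex
      obtain ⟨M, hM, hNM⟩ := (eq_top_or_exists_le_coatom N).resolve_left hN2
      have := h M hM
      have hNn := Core.isNilpotent_mono (h M hM) hNM
      have hQ : Group.IsSolvable (G ⧸ N) := by
        refine ih _ (hn ▸ Core.card_quotient_lt hN1) (G ⧸ N) rfl fun K hK => ?_
        have hK' : IsCoatom (K.comap (QuotientGroup.mk' N)) :=
          ⟨fun e => hK.1 (Subgroup.comap_injective (QuotientGroup.mk'_surjective N)
            (e.trans (Subgroup.comap_top _).symm)), fun L hL => by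
            have hNL : (QuotientGroup.mk' N).ker ≤ L :=
              (Subgroup.ker_le_comap _ K).trans hL.le
            have h1 : L.map (QuotientGroup.mk' N) = ⊤ := hK.2 _ (lt_of_le_of_ne
              (by rw [← Subgroup.map_comap_eq_self_of_surjective (QuotientGroup.mk'_surjective N) K]
                  exact Subgroup.map_mono hL.le)
              (fun e => hL.ne (by rw [e, Subgroup.comap_map_eq_self hNL])))
            rw [← Subgroup.comap_map_eq_self hNL, h1, Subgroup.comap_top]⟩
        rw [← Subgroup.map_comap_eq_self_of_surjective (QuotientGroup.mk'_surjective N) K]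
        exact Core.isNilpotent_map (h _ hK') _
      have : Group.IsSolvable N := inferInstance
      exact Group.isSolvable_of_ker_le_range N.subtype (QuotientGroup.mk' N) (by simp)
    · push Not at hex
      by_contra hns
      have hG : Nontrivial G := not_subsingleton_iff_nontrivial.mp fun hs => hns inferInstance
      have hbot : ∀ M : Subgroup G, IsCoatom M → M ≠ ⊥ := by
        rintro M hM rfl
        obtain ⟨x, hx⟩ := exists_ne (1 : G)
        have htop : Subgroup.zpowers x = ⊤ := hM.2 _ (bot_lt_iff_ne_bot.mpr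
          fun e => hx (Subgroup.zpowers_eq_bot.mp e))
        refine hns (Group.isSolvable_of_comm fun a b => ?_)
        obtain ⟨i, rfl⟩ := Subgroup.mem_zpowers_iff.mp (htop ▸ Subgroup.mem_top a)
        obtain ⟨j, rfl⟩ := Subgroup.mem_zpowers_iff.mp (htop ▸ Subgroup.mem_top b)
        exact (Commute.zpow_zpow_self x i j).eq
      have hTI : ∀ M₁ M₂ : Subgroup G, IsCoatom M₁ → IsCoatom M₂ → M₁ ≠ M₂ → M₁ ⊓ M₂ = ⊥ := by
        by_contra hc
        push Not at hc
        let S : Set (Subgroup G × Subgroup G) :=
          {q | IsCoatom q.1 ∧ IsCoatom q.2 ∧ q.1 ≠ q.2 ∧ q.1 ⊓ q.2 ≠ ⊥}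
        obtain ⟨A, B, hA, hB, hne, hD⟩ := hc
        obtain ⟨⟨A, B⟩, hAB, hmax⟩ := (Set.toFinite S).exists_maximalFor
          (fun q => q.1 ⊓ q.2) S ⟨(A, B), hA, hB, hne, hD⟩
        obtain ⟨hA, hB, hne, hD⟩ := hAB
        have hN : Subgroup.normalizer ((A ⊓ B : Subgroup G) : Set G) ≠ ⊤ := fun e =>
          hA.1 (top_le_iff.mp ((hex _ (Subgroup.normalizer_eq_top_iff.mp e) hD).ge.trans inf_le_left))
        obtain ⟨C, hC, hNC⟩ := (eq_top_or_exists_le_coatom _).resolve_left hN
        have key : ∀ E : Subgroup G, IsCoatom E → A ⊓ B < E → C = E := by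
          intro E hE hlt
          by_contra hne'
          have := h E hE
          have h1 := isSubnormal_step hlt
          have hle : A ⊓ B < C ⊓ E := lt_of_lt_of_le h1 (le_inf (inf_le_right.trans hNC) inf_le_left)
          have h2 := hmax (j := (C, E)) ⟨hC, hE, hne', fun e => not_lt_bot (e ▸ hle)⟩ hle.le
          exact hle.not_ge h2
        have hAlt : A ⊓ B < A := inf_le_left.lt_of_ne fun e =>
          hne ((hA.le_iff.mp (inf_eq_left.mp e)).resolve_left hB.1).symm
        have hBlt : A ⊓ B < B := inf_le_right.lt_of_ne fun e =>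
          hne ((hB.le_iff.mp (inf_eq_right.mp e)).resolve_left hA.1)
        exact hne ((key A hA hAlt).symm.trans (key B hB hBlt))
      obtain ⟨M, hM, -⟩ := (eq_top_or_exists_le_coatom (⊥ : Subgroup G)).resolve_left bot_ne_top
      have hnorm : Subgroup.normalizer (M : Set G) = M := by
        refine (hM.le_iff.mp Subgroup.le_normalizer).resolve_left fun e => ?_
        exact hM.1 (hex M (Subgroup.normalizer_eq_top_iff.mp e) (hbot M hM))
      have hF : IsFrobeniusComplement M := by
        refine ⟨hbot M hM, hM.1, fun g hg => hTI _ _ hM ?_ fun e => hg ?_⟩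
        · rw [Coprime.conj_smul_eq_map]
          exact ((MulAut.conj g).mapSubgroup.isCoatom_iff M).mpr hM
        · rw [← hnorm]; exact Coprime.mem_normalizer_of_conj_smul_eq e.symm
      obtain ⟨K, -, hK, hc⟩ := Core.exists_frobeniusKernel hF
      by_cases hK1 : K = ⊥
      · subst hK1
        exact hM.1 (Subgroup.isComplement'_bot_left.mp hc)
      · have hKt := hex K hK hK1
        subst hKt
        exact hbot M hM (Subgroup.isComplement'_top_left.mp hc)

/-- Schmidt's Theorem on minimal non-nilpotent groups: a finite group in which every maximal subgroup is nilpotent is solvable. -/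
theorem result {G : Type*} [Group G] [Finite G]
    (h : ∀ M : Subgroup G, IsCoatom M → Group.IsNilpotent M) : Group.IsSolvable G := by
  exact schmidt _ G rfl h

end Cfsg.Agent.S0046
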