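import Cfsg.Statements.S0558
import Cfsg.Agent.Fusion.Control
import Cfsg.Agent.Fusion.Residual
import Cfsg.Agent.Core.MinimalNonNilpotent
import Cfsg.Agent.Coprime.Tools
-- import your own Cfsg.Agent.* helpers here

set_option autoImplicit false
open Cfsg

namespace Cfsg.Agent.S0558

theorem index_inf_normal_dvd {G : Type*} [Group G] {ι : Type*} [DecidableEq ι] (N : ι → Subgroup G)
    (hN : ∀ i, (N i).Normal) (T : Finset ι) : (T.inf N).index ∣ ∏ i ∈ T, (N i).index := by
  induction T using Finset.induction_on with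
  | empty => simp
  | @insert a s ha ih =>
    rw [Finset.inf_insert, Finset.prod_insert ha,
      ← Subgroup.relIndex_mul_index (inf_le_right : N a ⊓ s.inf N ≤ s.inf N), Subgroup.inf_relIndex_right]
    have := hN a
    exact mul_dvd_mul (Subgroup.relIndex_dvd_index_of_normal _ _) ih

theorem hall_complement {G : Type*} [Group G] [Finite G] (H : Subgroup G)
    (hH : (Nat.card H).Coprime H.index)
    (h : ∀ p : ℕ, p.Prime → p ∣ Nat.card H → HasNormalPComplement p G) :
    ∃ N : Subgroup G, N.Normal ∧ Subgroup.IsComplement' N H := by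
  classical
  let T : Finset ℕ := (Nat.card H).primeFactors
  have hsp : ∀ p : {p // p ∈ T}, ∃ N : Subgroup G, N.Normal ∧ (Nat.card N).Coprime p ∧
      ∃ k, N.index = (p : ℕ) ^ k := fun p => by
    have hp := Nat.mem_primeFactors.mp p.2
    have := Fact.mk hp.1
    exact Fusion.hasNormalPComplement_iff_exists.mp (h p hp.1 hp.2.1)
  choose N hN hNc k hk using hsp
  let M : Subgroup G := Finset.univ.inf N
  have hMn : M.Normal := by
    show (Finset.univ.inf N).Normal
    rw [Finset.inf_eq_iInf]
    exact Subgroup.normal_iInf_normal fun i => Subgroup.normal_iInf_normal fun _ => hN i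
  have hMH : (Nat.card M).Coprime (Nat.card H) := by
    refine Nat.coprime_of_dvd' fun p hp hpM hpH => absurd hpM fun hpM => ?_
    have hpT : p ∈ T := Nat.mem_primeFactors.mpr ⟨hp, hpH, Nat.card_pos.ne'⟩
    exact hp.ne_one (Nat.eq_one_of_dvd_coprimes (hNc ⟨p, hpT⟩)
      (hpM.trans (Subgroup.card_dvd_of_le (Finset.inf_le (Finset.mem_univ _)))) dvd_rfl)
  have hidx : M.index.Coprime H.index := by
    refine Nat.Coprime.coprime_dvd_left (index_inf_normal_dvd N hN Finset.univ) (Nat.Coprime.prod_left fun p _ => ?_)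
    rw [hk p]
    exact Nat.Coprime.pow_left _ (hH.coprime_dvd_left (Nat.mem_primeFactors.mp p.2).2.1)
  refine ⟨M, hMn, Subgroup.isComplement'_of_coprime ?_ hMH⟩
  refine Nat.dvd_antisymm ?_ ?_
  · exact hMH.mul_dvd_of_dvd_of_dvd (Subgroup.card_subgroup_dvd_card M) (Subgroup.card_subgroup_dvd_card H)
  · have h1 : H.index ∣ Nat.card M := hidx.symm.dvd_of_dvd_mul_right
      (by rw [M.card_mul_index]; exact H.index_dvd_card)
    calc Nat.card G = H.index * Nat.card H := by rw [mul_comm, H.card_mul_index]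
      _ ∣ _ := mul_dvd_mul_right h1 _

/-- Let H be a subgroup of a finite group G that is not a Sylow subgroup of G for any prime, and suppose that for every prime p dividing the order of H and every Sylow p-subgroup P of H the normalizer of P in G is exactly H. Then some normal subgroup of G is a complement to H. -/
theorem result {G : Type*} [Group G] [Finite G] (H : Subgroup G) (hnot : ∀ p : ℕ, p.Prime → ∀ P : Sylow p G, (P : Subgroup G) ≠ H) (hnorm : ∀ p : ℕ, p.Prime → p ∣ Nat.card H → ∀ P : Sylow p H, Subgroup.normalizer (((P : Subgroup H).map H.subtype : Subgroup G) : Set G) = H) : ∃ N : Subgroup G, N.Normal ∧ Subgroup.IsComplement' N H := by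
  classical
  have hHb : H ≠ ⊥ := by
    obtain ⟨q, hqge, hq⟩ := Nat.exists_infinite_primes (Nat.card G + 1)
    have := Fact.mk hq
    obtain ⟨Q⟩ : Nonempty (Sylow q G) := inferInstance
    have hQ : (Q : Subgroup G) = ⊥ := by
      refine Subgroup.card_eq_one.mp ?_
      rw [Sylow.card_eq_multiplicity, Nat.factorization_eq_zero_of_not_dvd
        (fun h => by have := Nat.le_of_dvd Nat.card_pos h; omega), pow_zero]
    exact fun e => hnot q hq Q (hQ.trans e.symm)
  have hsylow : ∀ (p : ℕ) [Fact p.Prime], p ∣ Nat.card H → ∀ P : Sylow p H,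
      ∃ P' : Sylow p G, (P' : Subgroup G) = (P : Subgroup H).map H.subtype := by
    intro p _ hp P
    obtain ⟨R, hR⟩ := (P.isPGroup'.map H.subtype).exists_le_sylow
    refine ⟨R, le_antisymm ?_ hR⟩
    by_contra hle
    have hlt : ((P : Subgroup H).map H.subtype).subgroupOf (R : Subgroup G) < ⊤ :=
      lt_top_iff_ne_top.mpr fun e => hle (Subgroup.subgroupOf_eq_top.mp e)
    have := R.isPGroup'.isNilpotent
    have h1 := Group.normalizerCondition_of_isNilpotent (G := (R : Subgroup G)) _ hlt
    rw [← Subgroup.subgroupOf_normalizer_eq hR, hnorm p Fact.out hp P] at h1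
    obtain ⟨x, hxH, hxP⟩ := SetLike.exists_of_lt h1
    apply hxP
    have hle' : ((R : Subgroup G).subgroupOf H) = (P : Subgroup H) := P.3 (R.isPGroup'.comap_of_injective H.subtype H.subtype_injective)
      (fun y hy => hR (Subgroup.mem_map_of_mem H.subtype hy))
    have hx' : (⟨(x : G), hxH⟩ : H) ∈ (P : Subgroup H) := hle' ▸ Subgroup.mem_subgroupOf.mpr x.2
    exact Subgroup.mem_subgroupOf.mpr (Subgroup.mem_map_of_mem H.subtype hx')
  have hHall : (Nat.card H).Coprime H.index := by
    refine Nat.coprime_of_dvd' fun p hp hpH hpi => absurd hpi fun hpi => ?_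
    have := Fact.mk hp
    obtain ⟨P⟩ : Nonempty (Sylow p H) := inferInstance
    obtain ⟨P', hP'⟩ := hsylow p hpH P
    exact P'.not_dvd_index (hpi.trans (Subgroup.index_dvd_of_le (hP' ▸ Subgroup.map_subtype_le _)))
  refine hall_complement H hHall fun p hp hpH => ?_
  have := Fact.mk hp
  obtain ⟨P₀⟩ : Nonempty (Sylow p H) := inferInstance
  obtain ⟨P, hP⟩ := hsylow p hpH P₀
  have hPH : (P : Subgroup G) ≤ H := hP ▸ Subgroup.map_subtype_le _
  have hNP : Subgroup.normalizer ((P : Subgroup G) : Set G) = H := by rw [hP]; exact hnorm p hp hpH P₀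
  obtain ⟨q, hq, hqH, hqp⟩ : ∃ q : ℕ, q.Prime ∧ q ∣ Nat.card H ∧ q ≠ p := by
    by_contra hc
    push Not at hc
    refine hnot p hp P (Subgroup.eq_of_le_of_card_ge hPH ?_)
    rw [Sylow.card_eq_multiplicity]
    have h1 := Nat.eq_prime_pow_of_unique_prime_dvd (p := p) (n := Nat.card H) Nat.card_pos.ne'
      (fun {d} hd hdd => hc d hd hdd)
    rw [h1]
    refine Nat.pow_le_pow_right hp.pos ((hp.pow_dvd_iff_le_factorization Nat.card_pos.ne').mp ?_)
    rw [← h1]; exact Subgroup.card_subgroup_dvd_card H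
  have hcentral : ∀ (r : ℕ) [Fact r.Prime], r ∣ Nat.card H → r ≠ p → ∃ R : Sylow r G,
      (R : Subgroup G) ≤ H ⊓ Subgroup.centralizer ((P : Subgroup G) : Set G) ∧
      Subgroup.normalizer ((R : Subgroup G) : Set G) = H := by
    intro r _ hr hrp
    obtain ⟨R₀⟩ : Nonempty (Sylow r H) := inferInstance
    obtain ⟨R, hR⟩ := hsylow r hr R₀
    have hRH : (R : Subgroup G) ≤ H := hR ▸ Subgroup.map_subtype_le _
    have hNR : Subgroup.normalizer ((R : Subgroup G) : Set G) = H := by rw [hR]; exact hnorm r Fact.out hr R₀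
    refine ⟨R, le_inf hRH fun y hy => Subgroup.mem_centralizer_iff.mpr fun x hx => ?_, hNR⟩
    have hn1 : ((P : Subgroup G).subgroupOf H).Normal :=
      Subgroup.normal_subgroupOf_of_le_normalizer hNP.ge
    have hn2 : ((R : Subgroup G).subgroupOf H).Normal :=
      Subgroup.normal_subgroupOf_of_le_normalizer hNR.ge
    exact congrArg Subtype.val (Subgroup.commute_of_normal_of_disjoint _ _ hn1 hn2
      (IsPGroup.disjoint_of_ne p r hrp.symm _ _ (P.isPGroup'.comap_of_injective H.subtype H.subtype_injective)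
        (R.isPGroup'.comap_of_injective H.subtype H.subtype_injective))
      ⟨x, hPH hx⟩ ⟨y, hRH hy⟩ hx hy).eq
  have := Fact.mk hq
  obtain ⟨Q, hQ, hNQ⟩ := hcentral q hqH hqp
  refine Fusion.hasNormalPComplement_of_conj_controls P fun x hx g hgx => ?_
  set y := g * x * g⁻¹ with hy
  set C := Subgroup.centralizer ({y} : Set G) with hC
  have h1 : (Q : Subgroup G) ≤ C := fun a ha => Subgroup.mem_centralizer_singleton_iff.mpr
    (Subgroup.mem_centralizer_iff.mp (hQ ha).2 y hgx).symm
  have h2 : ((g • Q : Sylow q G) : Subgroup G) ≤ C := by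
    rintro _ ⟨a, ha, rfl⟩
    refine Subgroup.mem_centralizer_singleton_iff.mpr ?_
    have hax : x * a = a * x := Subgroup.mem_centralizer_iff.mp (hQ ha).2 x hx
    simp only [MulDistribMulAction.toMonoidEnd_apply, MulDistribMulAction.toMonoidHom_apply,
      MulAut.smul_def, MulAut.conj_apply, hy]
    calc g * a * g⁻¹ * (g * x * g⁻¹) = g * (a * x) * g⁻¹ := by group
      _ = g * (x * a) * g⁻¹ := by rw [hax]
      _ = _ := by group
  obtain ⟨c, hc⟩ := MulAction.exists_smul_eq C ((g • Q).subtype h2) (Q.subtype h1)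
  rw [Sylow.smul_subtype] at hc
  have hc' := Sylow.subtype_injective hc
  rw [Submonoid.smul_def, ← mul_smul] at hc'
  have hcg : ((c : G) * g) ∈ H := by
    rw [← hNQ]; exact Sylow.smul_eq_iff_mem_normalizer.mp hc'
  set L := H ⊓ Subgroup.centralizer ((P : Subgroup G) : Set G) with hL
  have hHsup : H ≤ (P : Subgroup G) ⊔ L := by
    rw [← Subgroup.subgroupOf_eq_top]
    refine Core.eq_top_of_forall_sylow fun r hr hrd => ?_
    have := Fact.mk hr
    rcases eq_or_ne r p with e | hrp
    · subst e
      exact ⟨P.subtype hPH, by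
        rw [Sylow.coe_subtype]; exact fun a ha => Subgroup.mem_sup_left (S := (P : Subgroup G)) ha⟩
    · obtain ⟨R, hR, -⟩ := hcentral r hrd hrp
      exact ⟨R.subtype (hR.trans inf_le_left), by
        rw [Sylow.coe_subtype]
        exact fun a ha => Subgroup.mem_sup_right (hR (Subgroup.mem_subgroupOf.mp ha))⟩
  have hLP : L ≤ Subgroup.normalizer ((P : Subgroup G) : Set G) := inf_le_left.trans hNP.ge
  obtain ⟨s, hs, t, ht, hst⟩ := (Coprime.mem_sup_of_le_normalizer hLP).mp (hHsup hcg)
  refine ⟨s, hs, ?_⟩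
  have hcy : (c : G) * y = y * c := Subgroup.mem_centralizer_singleton_iff.mp c.2
  have htx : x * t = t * x := Subgroup.mem_centralizer_iff.mp ht.2 x hx
  calc s * x * s⁻¹ = s * (t * x * t⁻¹) * s⁻¹ := by rw [← htx, mul_inv_cancel_right]
    _ = (s * t) * x * (s * t)⁻¹ := by group
    _ = (c : G) * y * (c : G)⁻¹ := by rw [hst, hy]; group
    _ = y := by rw [hcy, mul_inv_cancel_right]

end Cfsg.Agent.S0558
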