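import Cfsg.Statements.S0033
import Cfsg.Agent.Coprime.Action
import Cfsg.Agent.Coherence.ThompsonFPF
-- import your own Cfsg.Agent.* helpers here

set_option autoImplicit false
open Cfsg

namespace Cfsg.Agent.S0033

/-- Thompson's Theorem on fixed-point-free automorphisms: a finite group with an automorphism of prime order fixing only the identity is nilpotent. -/
theorem result {G : Type*} [Group G] [Finite G] (φ : G ≃* G)
    (hφ : MonoidHom.FixedPointFree (φ : G →* G)) (p : ℕ) (hp : p.Prime) (hord : orderOf φ = p) :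
    Group.IsNilpotent G := by
  classical
  let f : Subgroup.zpowers (φ : MulAut G) →* MulAut G := Subgroup.subtype _
  haveI := Coprime.finite_semidirect f
  let c : G ⋊[f] (Subgroup.zpowers (φ : MulAut G)) :=
    SemidirectProduct.inr ⟨φ, Subgroup.mem_zpowers _⟩
  have hc : c ^ p = 1 := by
    have h1 : (⟨φ, Subgroup.mem_zpowers _⟩ : Subgroup.zpowers (φ : MulAut G)) ^ p = 1 :=
      Subtype.ext (by rw [Subgroup.coe_pow, Subgroup.coe_one, ← hord]; exact pow_orderOf_eq_one _)
    rw [← map_pow, h1, map_one]
  have hfix : Coprime.inG f ⊓ Subgroup.centralizer {c} = ⊥ := by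
    rw [eq_bot_iff]
    rintro _ ⟨⟨g, rfl⟩, hg⟩
    have h1 := Subgroup.mem_centralizer_singleton_iff.mp hg
    have h2 : (SemidirectProduct.inl (φ g) : G ⋊[f] _) = SemidirectProduct.inl g := by
      exact (Coprime.inr_conj_inl f ⟨φ, Subgroup.mem_zpowers _⟩ g).symm.trans
        (mul_inv_eq_iff_eq_mul.mpr h1.symm)
    have h3 : g = 1 := hφ g (SemidirectProduct.inl_injective h2)
    rw [h3, map_one]
    exact one_mem _
  have hnil := Coherence.isNilpotent_of_fpf_prime hp hc
    (Coprime.inA_le_normalizer_inG f ⟨_, rfl⟩) hfix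
  exact Group.nilpotent_of_mulEquiv
    (MonoidHom.ofInjective (SemidirectProduct.inl_injective (φ := f))).symm

end Cfsg.Agent.S0033
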