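import Cfsg.Statements.S4218
import Cfsg.Agent.Layer.PConstraint
import Cfsg.Agent.Coprime.Basic
import Cfsg.Agent.Core.Frattini
import Cfsg.Agent.LocalStructure.Series
-- import your own Cfsg.Agent.* helpers here

set_option autoImplicit false
open Cfsg
open scoped commutatorElement

namespace Cfsg.Agent.S4218

theorem pCoreSelfCentral_quotient {G : Type*} [Group G] [Finite G] {p : ℕ} [Fact p.Prime]
    (hG : Cfsg.IsPSolvable p G) :
    Subgroup.centralizer (Cfsg.pCore p (G ⧸ Cfsg.pPrimeCore p G) : Set (G ⧸ Cfsg.pPrimeCore p G)) ≤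
      Cfsg.pCore p (G ⧸ Cfsg.pPrimeCore p G) :=
  Layer.pCoreSelfCentral_of_isPSolvable (Layer.isPSolvable_of_surjective hG (QuotientGroup.mk'_surjective _))
    Core.pPrimeCore_quotient_eq_bot

theorem aux {G : Type*} [Group G] [Finite G] {p : ℕ} [Fact p.Prime]
    (hC : Subgroup.centralizer (Cfsg.pCore p G : Set G) ≤ Cfsg.pCore p G) (g : G) :
    (∀ x ∈ Cfsg.pCore p G,
      g * x * g⁻¹ * x⁻¹ ∈ (frattini (Cfsg.pCore p G)).map (Cfsg.pCore p G).subtype) ↔
    g ∈ Cfsg.pCore p G := by
  classical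
  set P := Cfsg.pCore p G with hP
  have hPp : IsPGroup p P := Core.pCore_isPGroup
  haveI : Group.IsNilpotent P := hPp.isNilpotent
  set F : Subgroup G := (frattini P).map P.subtype with hF
  haveI hFn : F.Normal := inferInstance
  constructor
  · intro hg
    set K : Subgroup G := (Subgroup.centralizer
      ((P.map (QuotientGroup.mk' F) : Subgroup _) : Set (G ⧸ F))).comap (QuotientGroup.mk' F) with hK
    haveI : (P.map (QuotientGroup.mk' F)).Normal :=
      Subgroup.Normal.map inferInstance _ (QuotientGroup.mk'_surjective _)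
    haveI hKn : K.Normal := inferInstance
    have hKmem : ∀ a : G, a ∈ K ↔ ∀ x ∈ P, a * x * a⁻¹ * x⁻¹ ∈ F := by
      intro a
      rw [hK, Subgroup.mem_comap, Subgroup.mem_centralizer_iff]
      constructor
      · intro h x hx
        have h1 := h _ (Subgroup.mem_map_of_mem (QuotientGroup.mk' F) hx)
        refine (QuotientGroup.eq_one_iff _).mp ?_
        change QuotientGroup.mk' F (a * x * a⁻¹ * x⁻¹) = 1
        rw [map_mul, map_mul, map_mul, map_inv, map_inv, ← h1]
        simp
      · rintro h _ ⟨x, hx, rfl⟩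
        have h1 : QuotientGroup.mk' F (a * x * a⁻¹ * x⁻¹) = 1 := (QuotientGroup.eq_one_iff _).mpr (h x hx)
        rw [map_mul, map_mul, map_mul, map_inv, map_inv, mul_inv_eq_one, mul_inv_eq_iff_eq_mul] at h1
        exact h1.symm
    refine Core.le_pCore (N := K) (LocalStructure.isPGroup_of_forall_coprime fun a ha hap => ?_)
      ((hKmem g).mpr hg)
    obtain ⟨k, hk⟩ := IsPGroup.iff_card.mp hPp
    obtain ⟨k', hk'⟩ := IsPGroup.iff_card.mp (hPp.to_subgroup (frattini P))
    have h1 : Subgroup.zpowers a ≤ Subgroup.centralizer (P : Set G) := by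
      refine Coprime.le_centralizer_of_trivial_mod_frattini Subgroup.le_normalizer_of_normal ?_ ?_
      · rw [hk', Nat.card_zpowers]
        exact hap.pow_right k'
      · intro b hb x hx
        exact (hKmem b).mp ((Subgroup.zpowers_le.mpr ha) hb) x hx
    have h2 : a ∈ P := hC (h1 (Subgroup.mem_zpowers a))
    have h3 : orderOf a ∣ Nat.card P := Subgroup.orderOf_dvd_natCard _ h2
    rw [hk] at h3
    exact orderOf_eq_one_iff.mp (Nat.eq_one_of_dvd_coprimes (hap.pow_right k) dvd_rfl h3)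
  · intro hg x hx
    refine ⟨(⟨g, hg⟩ : P) * ⟨x, hx⟩ * (⟨g, hg⟩ : P)⁻¹ * (⟨x, hx⟩ : P)⁻¹,
      Core.commutator_le_frattini ?_, by simp⟩
    rw [← commutatorElement_def]
    exact Subgroup.commutator_mem_commutator (Subgroup.mem_top _) (Subgroup.mem_top _)


/-- Let `G` be a finite `p`-solvable group, `N₀ = O_{p'}(G)`, `P₁ = O_{p',p}(G)`, and let `F ≤ P₁` be the preimage of the Frattini subgroup of `P₁/N₀`. Then an element `g` of `G` induces the identity on `P₁/F` by conjugation (that is, `g x g⁻¹ x⁻¹ ∈ F` for all `x ∈ P₁`) if and only if `g ∈ P₁`: the group `G/P₁` acts faithfully on `P₁/F`. -/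
theorem result {G : Type*} [Group G] [Finite G] {p : ℕ} [Fact p.Prime] (hG : Cfsg.IsPSolvable p G) (g : G) : (∀ x ∈ Cfsg.pPrimePCore p G, g * x * g⁻¹ * x⁻¹ ∈ ((frattini (↥(Cfsg.pPrimePCore p G) ⧸ (Cfsg.pPrimeCore p G).subgroupOf (Cfsg.pPrimePCore p G))).comap (QuotientGroup.mk' ((Cfsg.pPrimeCore p G).subgroupOf (Cfsg.pPrimePCore p G)))).map (Cfsg.pPrimePCore p G).subtype) ↔ g ∈ Cfsg.pPrimePCore p G := by
  classical
  set f : G →* G ⧸ Cfsg.pPrimeCore p G := QuotientGroup.mk' _ with hfdef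
  set P : Subgroup (G ⧸ Cfsg.pPrimeCore p G) := Cfsg.pCore p _ with hPdef
  set P1 : Subgroup G := Cfsg.pPrimePCore p G with hP1
  have hP1mem : ∀ x : G, x ∈ P1 ↔ f x ∈ P := fun x => Iff.rfl
  let f' : P1 →* P := (f.comp P1.subtype).codRestrict P fun x => x.2
  have hf' : Function.Surjective f' := by
    rintro ⟨y, hy⟩
    obtain ⟨x, rfl⟩ := QuotientGroup.mk'_surjective _ y
    exact ⟨⟨x, hy⟩, rfl⟩
  have hker : f'.ker = (Cfsg.pPrimeCore p G).subgroupOf P1 := by
    ext x
    rw [MonoidHom.mem_ker, Subgroup.mem_subgroupOf, Subtype.ext_iff]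
    exact QuotientGroup.eq_one_iff _
  let e := (QuotientGroup.quotientMulEquivOfEq hker.symm).trans
    (QuotientGroup.quotientKerEquivOfSurjective f' hf')
  have hFrat : ∀ y : P1, QuotientGroup.mk' _ y ∈ frattini (P1 ⧸ (Cfsg.pPrimeCore p G).subgroupOf P1) ↔
      f' y ∈ frattini P := by
    intro y
    have he : e.toMonoidHom (QuotientGroup.mk' _ y) = f' y := rfl
    constructor
    · intro h
      rw [← he]
      exact Core.map_frattini_le_of_surjective (f := e.toMonoidHom) e.surjective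
        (Subgroup.mem_map_of_mem _ h)
    · intro h
      have h1 := Core.map_frattini_le_of_surjective (f := e.symm.toMonoidHom) e.symm.surjective
        (Subgroup.mem_map_of_mem _ h)
      rw [← he] at h1
      simpa using h1
  have hmain := aux (pCoreSelfCentral_quotient hG) (f g)
  constructor
  · intro h
    rw [hP1mem, ← hmain]
    intro y hy
    obtain ⟨x, rfl⟩ := QuotientGroup.mk'_surjective _ y
    obtain ⟨z, hz, hz'⟩ := h x hy
    refine ⟨f' z, (hFrat z).mp hz, ?_⟩
    change f (z : G) = _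
    rw [show ((z : P1) : G) = g * x * g⁻¹ * x⁻¹ from hz']
    simp
    rfl
  · intro h x hx
    have hmem : g * x * g⁻¹ * x⁻¹ ∈ P1 :=
      mul_mem (mul_mem (mul_mem h hx) (inv_mem h)) (inv_mem hx)
    refine ⟨⟨_, hmem⟩, (hFrat _).mpr ?_, rfl⟩
    obtain ⟨z, hz, hz'⟩ := hmain.mpr h (f x) hx
    have hzz : f' ⟨_, hmem⟩ = z := Subtype.ext (by
      refine Eq.trans ?_ hz'.symm
      change f (g * x * g⁻¹ * x⁻¹) = _
      simp)
    rw [hzz]
    exact hz

end Cfsg.Agent.S4218
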