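import Cfsg.Statements.S0713
import Mathlib.GroupTheory.GroupAction.Jordan
import Mathlib.GroupTheory.Sylow
import Mathlib.GroupTheory.Perm.Cycle.Type

set_option autoImplicit false
open Cfsg

namespace Cfsg.Agent.S0713

/-- Jordan's Theorem: a primitive permutation group of degree `n ≥ 5` containing a `p`-cycle for a prime `p ≤ n - 3` contains the alternating group. -/
theorem result {α : Type*} [Fintype α] [DecidableEq α] (G : Subgroup (Equiv.Perm α)) (hG : MulAction.IsPreprimitive G α) {p : ℕ} (hp : p.Prime) (hn : 5 ≤ Fintype.card α) (hpn : p + 3 ≤ Fintype.card α) {g : Equiv.Perm α} (hgc : g.IsCycle) (hgp : g.support.card = p) (hg : g ∈ G) : alternatingGroup α ≤ G := by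
  classical
  have : Fact p.Prime := ⟨hp⟩
  by_cases hp3 : p = 3
  · subst hp3
    exact Equiv.Perm.alternatingGroup_le_of_isPreprimitive_of_isThreeCycle_mem hG (card_support_eq_three_iff.1 hgp) hg
  set gG : G := ⟨g, hg⟩
  set t : Set α := (g.support : Set α)ᶜ with ht
  have htmem : ∀ x, x ∈ t ↔ g x = x := fun x => by
    simp [ht, Set.mem_compl_iff]
  have htc : t.ncard = Fintype.card α - p := by
    rw [ht, Set.ncard_compl, Set.ncard_coe_finset, hgp, Nat.card_eq_fintype_card]
  have hgfix : gG ∈ fixingSubgroup G t := (mem_fixingSubgroup_iff G).2 fun x hx => (htmem x).1 hx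
  have hKsupp : ∀ k : fixingSubgroup G t, ∀ x, x ∈ t → (k : G) • x = x := fun k x hx => (mem_fixingSubgroup_iff G).1 k.2 x hx
  -- transitive on the support
  have htrans : MulAction.IsPretransitive (fixingSubgroup G t) (SubMulAction.ofFixingSubgroup G t) := by
    refine ⟨fun x y => ?_⟩
    have hx : g x.1 ≠ x.1 := fun h => x.2 ((htmem _).2 h)
    have hy : g y.1 ≠ y.1 := fun h => y.2 ((htmem _).2 h)
    obtain ⟨i, hi⟩ := hgc.exists_pow_eq hx hy
    exact ⟨⟨gG ^ i, pow_mem hgfix i⟩, Subtype.ext hi⟩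
  have hcardcompl : Nat.card (SubMulAction.ofFixingSubgroup G t) = p := by
    rw [show Nat.card (SubMulAction.ofFixingSubgroup G t) = (tᶜ).ncard from Nat.card_coe_set_eq _, ht, compl_compl,
      Set.ncard_coe_finset, hgp]
  have hpp : MulAction.IsPreprimitive (fixingSubgroup G t) (SubMulAction.ofFixingSubgroup G t) :=
    MulAction.IsPreprimitive.of_prime_card (hcardcompl.symm ▸ hp)
  obtain ⟨m, hm⟩ : ∃ m, Fintype.card α - p = m + 1 := ⟨Fintype.card α - p - 1, by omega⟩
  have hmul := hG.isMultiplyPreprimitive (n := m) (htc.trans hm) (by rw [Nat.card_eq_fintype_card]; have := hp.two_le; omega) hpp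
  have hkt : MulAction.IsMultiplyPretransitive G α (m + 2) := hmul.isMultiplyPretransitive
  have hkt' : MulAction.IsMultiplyPretransitive G α (m + 1) :=
    MulAction.isMultiplyPretransitive_of_le (n := m + 2) (by omega) (by rw [Nat.card_eq_fintype_card]; have := hp.two_le; omega)
  -- Sylow subgroup
  set P : Subgroup (fixingSubgroup G t) := Subgroup.zpowers ⟨gG, hgfix⟩
  have hgord : orderOf g = p := hgc.orderOf.trans hgp
  have hPc : Nat.card P = p := by
    rw [Nat.card_zpowers]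
    have h1 := Subgroup.orderOf_coe (⟨gG, hgfix⟩ : fixingSubgroup G t)
    have h2 := Subgroup.orderOf_coe gG
    rw [← h1]; exact h2.symm.trans hgord
  have hfac : (Nat.card (fixingSubgroup G t)).factorization p = 1 := by
    let ψ : fixingSubgroup G t →* Equiv.Perm (SubMulAction.ofFixingSubgroup G t) := MulAction.toPermHom _ _
    have hψ : Function.Injective ψ := by
      intro k l hkl
      refine Subtype.ext (Subtype.ext (Equiv.ext fun x => ?_))
      by_cases hx : x ∈ t
      · exact (hKsupp k x hx).trans (hKsupp l x hx).symm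
      · exact congrArg Subtype.val (DFunLike.congr_fun hkl (⟨x, hx⟩ : SubMulAction.ofFixingSubgroup G t))
    have hd := Subgroup.card_dvd_of_injective ψ hψ
    rw [Nat.card_perm, hcardcompl] at hd
    have hlow : 1 ≤ (Nat.card (fixingSubgroup G t)).factorization p := by
      rw [← hp.pow_dvd_iff_le_factorization Nat.card_pos.ne', pow_one, ← hPc]
      exact Subgroup.card_subgroup_dvd_card P
    have hup : ¬ p ^ 2 ∣ p.factorial := by
      rw [← Nat.mul_factorial_pred hp.ne_zero, sq]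
      intro h
      have := Nat.dvd_of_mul_dvd_mul_left hp.pos h
      rw [hp.dvd_factorial] at this
      have := hp.two_le; omega
    by_contra hne
    exact hup (((hp.pow_dvd_iff_le_factorization Nat.card_pos.ne').2 (by omega : 2 ≤ _)).trans hd)
  let PS : Sylow p (fixingSubgroup G t) := Sylow.ofCard P (by rw [hPc, hfac, pow_one])
  have hnorm : ∀ π : Equiv.Perm α, (∀ x, x ∈ t ↔ π x ∈ t) →
      ∃ a : G, (∀ x ∈ t, a • x = π x) ∧ ∃ i : ℕ, a * gG * a⁻¹ = gG ^ i := by
    intro π hπ
    obtain ⟨e⟩ : Nonempty (Fin (m + 1) ≃ t) := Finite.card_eq.1 (by rw [Nat.card_fin, Nat.card_coe_set_eq, htc, hm])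
    let e' : Fin (m + 1) ↪ α := ⟨fun i => (e i : α), Subtype.val_injective.comp e.injective⟩
    obtain ⟨h, hh⟩ := hkt'.exists_smul_eq e' (e'.trans π.toEmbedding)
    have hhx : ∀ x ∈ t, h • x = π x := fun x hx => by
      have := DFunLike.congr_fun hh (e.symm ⟨x, hx⟩)
      have h1 : e' (e.symm ⟨x, hx⟩) = x := congrArg Subtype.val (e.apply_symm_apply ⟨x, hx⟩)
      rw [← h1]; exact this
    have hinvt : ∀ x ∈ t, h⁻¹ • x ∈ t := fun x hx => by
      have hy : π⁻¹ x ∈ t := (hπ _).2 (by simpa using hx)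
      have h1 := hhx _ hy
      rw [Equiv.Perm.inv_def, Equiv.apply_symm_apply] at h1
      rw [← Equiv.Perm.inv_def] at h1
      rwa [inv_smul_eq_iff.2 h1.symm]
    have hmemK : h * gG * h⁻¹ ∈ fixingSubgroup G t := (mem_fixingSubgroup_iff G).2 fun x hx => by
      rw [mul_smul, mul_smul, (mem_fixingSubgroup_iff G).1 hgfix _ (hinvt x hx), smul_inv_smul]
    have hQc : Nat.card (Subgroup.zpowers (⟨_, hmemK⟩ : fixingSubgroup G t)) = p := by
      rw [Nat.card_zpowers, ← Subgroup.orderOf_coe (⟨_, hmemK⟩ : fixingSubgroup G t)]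
      show orderOf (h * gG * h⁻¹) = p
      rw [show h * gG * h⁻¹ = MulAut.conj h gG from rfl, MulEquiv.orderOf_eq, ← Subgroup.orderOf_coe gG]
      exact hgord
    let QS : Sylow p (fixingSubgroup G t) := Sylow.ofCard (Subgroup.zpowers ⟨_, hmemK⟩) (by rw [hQc, hfac, pow_one])
    obtain ⟨k, hk⟩ := MulAction.exists_smul_eq (fixingSubgroup G t) QS PS
    have hmem : k * ⟨_, hmemK⟩ * k⁻¹ ∈ (PS : Subgroup (fixingSubgroup G t)) := by
      rw [← hk, Sylow.coe_subgroup_smul]
      exact Subgroup.smul_mem_pointwise_smul _ (MulAut.conj k) _ (Subgroup.mem_zpowers _)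
    obtain ⟨i, hi⟩ := mem_powers_iff_mem_zpowers.2 hmem
    refine ⟨(k : G) * h, fun x hx => ?_, i, ?_⟩
    · rw [mul_smul, hhx x hx, hKsupp k _ ((hπ x).1 hx)]
    · have := congrArg Subtype.val hi
      simp only [Subgroup.coe_mul, Subgroup.coe_inv, SubmonoidClass.coe_pow] at this
      rw [this, mul_inv_rev]; group
  obtain ⟨x, hx, y, hy, z, hz, hxy, hxz, hyz⟩ : ∃ x ∈ t, ∃ y ∈ t, ∃ z ∈ t, x ≠ y ∧ x ≠ z ∧ y ≠ z := by
    have h2 : 2 < t.ncard := by omega
    obtain ⟨x, y, z, hx, hy, hz, hxy, hxz, hyz⟩ := (Set.two_lt_ncard_iff (Set.toFinite t)).1 h2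
    exact ⟨x, hx, y, hy, z, hz, hxy, hxz, hyz⟩
  have hswap : ∀ u v, u ∈ t → v ∈ t → ∀ w, w ∈ t ↔ Equiv.swap u v w ∈ t := by
    intro u v hu hv w
    rw [Equiv.swap_apply_def]
    split_ifs with h1 h2
    · subst h1; simp [hu, hv]
    · subst h2; simp [hu, hv]
    · rfl
  obtain ⟨a, ha, ia, hia⟩ := hnorm _ (hswap x y hx hy)
  obtain ⟨b, hb, ib, hib⟩ := hnorm _ (hswap x z hx hz)
  set D : Equiv.Perm α := Equiv.swap x y * Equiv.swap x z * (Equiv.swap x y * Equiv.swap x z) with hD
  set T3 : Equiv.Perm α := Equiv.swap x y * Equiv.swap x z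
  have hT3 : T3.IsThreeCycle := Equiv.Perm.isThreeCycle_swap_mul_swap_same hxy hxz hyz
  set c : G := a⁻¹ * b⁻¹ * a * b with hc
  have hinvf : ∀ (u : G) (π : Equiv.Perm α), (∀ w ∈ t, u • w = π w) → (∀ w, w ∈ t ↔ π w ∈ t) → π⁻¹ = π →
      ∀ w ∈ t, u⁻¹ • w = π w := fun u π hu hπ hinv w hw => by
    rw [inv_smul_eq_iff, hu _ ((hπ w).1 hw)]
    have := π.symm_apply_apply w
    rw [← Equiv.Perm.inv_def, hinv] at this
    exact this.symm
  have hct : ∀ w ∈ t, c • w = D w := fun w hw => by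
    have hm1 := (hswap x z hx hz w).1 hw
    have hm2 := (hswap x y hx hy _).1 hm1
    have hm3 := (hswap x z hx hz _).1 hm2
    rw [hc, mul_smul, mul_smul, mul_smul, hb w hw, ha _ hm1, hinvf b _ hb (hswap x z hx hz) (Equiv.swap_inv _ _) _ hm2,
      hinvf a _ ha (hswap x y hx hy) (Equiv.swap_inv _ _) _ hm3]
    rfl
  have hDt : ∀ w, w ∈ t → D w ∈ t := fun w hw => by
    exact (hswap x y hx hy _).1 ((hswap x z hx hz _).1 ((hswap x y hx hy _).1 ((hswap x z hx hz _).1 hw)))
  have hcg : c * gG = gG * c := by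
    have conjpow : ∀ (u : G) (i j : ℕ), u * gG * u⁻¹ = gG ^ i → u * gG ^ j * u⁻¹ = gG ^ (i * j) := fun u i j h => by
      rw [pow_mul, ← h, conj_pow]
    have h1 : a * b * gG * (a * b)⁻¹ = b * a * gG * (b * a)⁻¹ := by
      calc a * b * gG * (a * b)⁻¹ = a * (b * gG * b⁻¹) * a⁻¹ := by group
        _ = gG ^ (ia * ib) := by rw [hib, conjpow a ia ib hia]
        _ = gG ^ (ib * ia) := by rw [mul_comm]
        _ = b * (a * gG * a⁻¹) * b⁻¹ := by rw [hia, conjpow b ib ia hib]
        _ = b * a * gG * (b * a)⁻¹ := by group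
    calc c * gG = (b * a)⁻¹ * (a * b * gG * (a * b)⁻¹) * (a * b) := by rw [hc]; group
      _ = (b * a)⁻¹ * (b * a * gG * (b * a)⁻¹) * (a * b) := by rw [h1]
      _ = gG * c := by rw [hc]; group
  have hcs : ∀ w, w ∉ t → (c ^ p : G) • w = w := by
    intro w hw
    have hgw : g w ≠ w := fun h => hw ((htmem _).2 h)
    have hcw : g (c • w) ≠ c • w := fun h => hgw (by
      have : c • gG • w = gG • c • w := by rw [← mul_smul, hcg, mul_smul]
      have h' : c • gG • w = c • w := this.trans h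
      exact smul_left_cancel c h')
    obtain ⟨j, hj⟩ := hgc.exists_pow_eq hgw hcw
    have hj' : (gG ^ j : G) • w = c • w := hj
    have hcomm : ∀ i, (gG ^ i) * c = c * gG ^ i := fun i => (Commute.pow_left (show Commute gG c from hcg.symm) i).eq
    have hall : ∀ n : ℕ, (c ^ n : G) • w = (gG ^ (j * n) : G) • w := by
      intro n
      induction n with
      | zero => simp
      | succ n ih =>
        rw [pow_succ', mul_smul, ih, ← mul_smul, ← hcomm, mul_smul, ← hj', ← mul_smul, ← pow_add]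
        congr 2
    rw [hall, show gG ^ (j * p) = 1 from Subtype.ext (by
      rw [SubmonoidClass.coe_pow, mul_comm, pow_mul]
      show (g ^ p) ^ j = 1
      rw [← hgord, pow_orderOf_eq_one, one_pow]), one_smul]
  have hcn : ∀ n : ℕ, ∀ w ∈ t, (c ^ n : G) • w = (D ^ n) w ∧ (D ^ n) w ∈ t := by
    intro n
    induction n with
    | zero => intro w hw; simp [hw]
    | succ n ih =>
      intro w hw
      rw [pow_succ', pow_succ', mul_smul, (ih w hw).1, hct _ (ih w hw).2]
      exact ⟨rfl, hDt _ (ih w hw).2⟩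
  have hcp : ((c ^ p : G) : Equiv.Perm α) = D ^ p := Equiv.ext fun w => by
    by_cases hw : w ∈ t
    · exact (hcn p w hw).1
    · have h3 : ∀ n, (D ^ n) w = w := fun n => by
        induction n with
        | zero => rfl
        | succ n ih =>
          rw [pow_succ', Equiv.Perm.mul_apply, ih]
          have hne : ∀ u, u ∈ t → w ≠ u := fun u hu h => hw (h ▸ hu)
          simp [hD, T3, Equiv.Perm.mul_apply, Equiv.swap_apply_of_ne_of_ne (hne x hx) (hne z hz),
            Equiv.swap_apply_of_ne_of_ne (hne x hx) (hne y hy)]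
      exact (hcs w hw).trans (h3 p).symm
  refine Equiv.Perm.alternatingGroup_le_of_isPreprimitive_of_isThreeCycle_mem hG (g := D ^ p) ?_ (hcp ▸ (c ^ p).2)
  have hD3 : D ^ p = T3 ^ (2 * p % 3) := by
    rw [show D = T3 ^ 2 from (sq T3).symm, ← pow_mul]
    have h := (pow_mod_orderOf T3 (2 * p)).symm
    rwa [hT3.orderOf] at h
  rw [hD3]
  have h12 : 2 * p % 3 = 1 ∨ 2 * p % 3 = 2 := by
    have : ¬ 3 ∣ p := fun h => hp3 ((Nat.prime_dvd_prime_iff_eq Nat.prime_three hp).1 h).symm
    omega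
  rcases h12 with h | h <;> rw [h]
  · rwa [pow_one]
  · rw [sq]; exact hT3.isThreeCycle_sq

end Cfsg.Agent.S0713
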