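import Cfsg.Statements.S0319
import Cfsg.Agent.BN.Basic

set_option autoImplicit false
open Cfsg Cfsg.Agent

namespace Cfsg.Agent.S0319

/-- Simplicity criterion for groups with a (B,N)-pair: if the distinguished generators admit no
splitting into two non-empty mutually commuting parts, `B` is solvable, `G` is perfect and the intersection
of all conjugates of `B` is trivial, then `G` is simple. -/
theorem result {G : Type*} [Group G] [Nontrivial G]
    (P : Cfsg.BNPair G) (hirr : P.Irreducible) (hsolv : Group.IsSolvable P.B) (hperf : commutator G = ⊤)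
    (hcore : P.B.normalCore = ⊥) : IsSimpleGroup G := by
  classical
  refine ⟨fun K hK => ?_⟩
  rw [or_iff_not_imp_left]
  intro hne
  have hB : P.B ≤ K ⊔ P.B := le_sup_right
  set J := P.S ∩ ((K ⊔ P.B : Subgroup G) : Set G) with hJdef
  have hMJ : K ⊔ P.B = P.parabolic J := BN.eq_parabolic hB
  have hJS : J ⊆ P.S := Set.inter_subset_left
  have hJne : J.Nonempty := by
    rw [Set.nonempty_iff_ne_empty]
    intro hJ
    apply hne
    rw [eq_bot_iff, ← hcore, Subgroup.normal_le_normalCore]
    calc K ≤ K ⊔ P.B := le_sup_left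
    _ = P.B := by rw [hMJ, hJ, BNPair.parabolic, Subgroup.closure_empty, sup_bot_eq]
  have hfull : J = P.S := by
    by_contra hne'
    have hne'' : (P.S \ J).Nonempty := Set.sdiff_nonempty.2 fun h => hne' (le_antisymm hJS h)
    obtain ⟨s, hs, r, hr, hsr⟩ := hirr J hJS hJne hne''
    apply hsr
    have hsS := hJS hs
    obtain ⟨hrS, hrJ⟩ := hr
    have hrP : r ∉ P.parabolic J := fun h => hrJ (BN.mem_of_mem_parabolic hJS hrS h)
    have hBJ : P.B ≤ P.parabolic J := BN.B_le_parabolic J
    have hKJ : K ≤ P.parabolic J := hMJ ▸ le_sup_left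
    have hrr : r * r ∈ P.parabolic J := hBJ (P.sq_mem r hrS)
    have hsP : s ∈ P.parabolic J :=
      BN.closure_le_parabolic J (Subgroup.subset_closure hs)
    have hsN := P.subset hsS
    have hrN := P.subset hrS
    set n := r * s * r with hn
    have hnN : n ∈ P.N := mul_mem (mul_mem hrN hsN) hrN
    have hn2 : n⁻¹ ∈ P.N := inv_mem hnN
    -- `n` lies in the parabolic subgroup of `J`
    have hnP : n ∈ P.parabolic J := by
      have hsM : s ∈ K ⊔ P.B := hMJ ▸ hsP
      obtain ⟨x, hx, b, hb, hsxb⟩ := Subgroup.mem_sup_of_normal_left.1 hsM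
      have e : n = (r * x * r⁻¹) * (r * b * r) := by rw [hn, ← hsxb]; group
      have hx' : r * x * r⁻¹ ∈ P.parabolic J := hKJ (hK.conj_mem x hx r)
      rcases P.mul_mem_union r hrS r hrN b hb with h | h
      · rw [e]
        exact mul_mem hx' (BN.mem_of_mem_dc_of_mem hBJ h hrr)
      · obtain ⟨a, ha, c, hc, hac⟩ := BN.mem_dc.1 h
        have hp : r * x * r⁻¹ * a ∈ P.parabolic J := mul_mem hx' (hBJ ha)
        obtain ⟨w, hw, hd⟩ := (BN.mem_parabolic_iff hJS _).1 (inv_mem hp)
        have hwN : w ∈ P.N := (Subgroup.closure_le _).2 (hJS.trans P.subset) hw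
        have hwP := BN.closure_le_parabolic (P := P) J hw
        have e2 : c * n⁻¹ = r⁻¹ * (r * x * r⁻¹ * a)⁻¹ := by rw [e, hac]; group
        rcases BN.inv_mul_step hrS hwN hd with h' | h' <;> rw [← e2] at h'
        · exfalso
          apply hrP
          have h'' := BN.mul_mem_dc h' (inv_mem hc)
          rw [inv_mul_cancel_left] at h''
          have h3 : (r * w)⁻¹ * n⁻¹ ∈ P.parabolic J :=
            hBJ (BN.eqv_of_mem_dc (mul_mem hrN hwN) hn2 h'')
          rw [hn] at h3
          have h4 : w⁻¹ * (r * r)⁻¹ * s⁻¹ * r⁻¹ ∈ P.parabolic J := by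
            simpa [mul_assoc] using h3
          have h5 : w⁻¹ * (r * r)⁻¹ * s⁻¹ ∈ P.parabolic J :=
            mul_mem (mul_mem (inv_mem hwP) (inv_mem hrr)) (inv_mem hsP)
          exact inv_mem_iff.1 ((Subgroup.mul_mem_cancel_left _ h5).1 h4)
        · have h'' := BN.mem_of_mem_dc_of_mem hBJ h' hwP
          exact inv_mem_iff.1 ((Subgroup.mul_mem_cancel_left _ (hBJ hc)).1 h'')
    obtain ⟨w, hw, hred, hp⟩ := BN.exists_reduced_of_mem_parabolic hJS hnN hnP
    have hwN := BN.prod_mem_N hred.1
    have hsr' : (s * r)⁻¹ * (r * w.prod) ∈ P.B := by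
      refine BN.eqv_trans ?_ (BN.eqv_mul_left r (BN.eqv_symm hp))
      rw [show r * n = r * (r * (s * r)) by rw [hn]; group]
      exact BN.eqv_sq_mul hrS (mul_mem hsN hrN)
    have hlen : BN.wlen P (r * w.prod) ≤ 2 := by
      rw [← BN.wlen_congr hsr']
      exact (BN.wlen_mul_le hsS hrN).trans (by rw [BN.wlen_gen hrS])
    have hgt : w.length < BN.wlen P (r * w.prod) := by
      by_contra hcon
      obtain ⟨u, a, v, he, huv⟩ := BN.exchange hrS hred (not_lt.1 hcon)
      apply hrP
      have huvP : (u ++ v).prod ∈ P.parabolic J := BN.prod_mem_parabolic fun z hz => hw z (by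
        rw [he]; simp only [List.mem_append, List.mem_cons] at hz ⊢; tauto)
      have h1 := mul_mem huvP (hBJ huv)
      rw [mul_inv_cancel_left] at h1
      exact (Subgroup.mul_mem_cancel_right _ (BN.prod_mem_parabolic hw)).1 h1
    match w, hw, hred, hp, hgt with
    | [], _, _, hp, _ =>
      exfalso
      apply BN.not_mem_B hsS
      simp only [List.prod_nil, inv_one, one_mul] at hp
      have h1 := mul_mem (BN.conj_mem' hrN hp hnN) (inv_mem (P.sq_mem r hrS))
      have e : s = r⁻¹ * n * r * (r * r)⁻¹ := by rw [hn]; group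
      rwa [e]
    | [t], hw, _, hp, _ =>
      have htJ : t ∈ J := hw t (by simp)
      simp only [List.prod_cons, List.prod_nil, mul_one] at hp
      have htsr : t ∈ P.parabolic ({r, s} : Set G) := by
        have hr' : r ∈ P.parabolic ({r, s} : Set G) :=
          BN.closure_le_parabolic _ (Subgroup.subset_closure (by simp))
        have hs' : s ∈ P.parabolic ({r, s} : Set G) :=
          BN.closure_le_parabolic _ (Subgroup.subset_closure (by simp))
        have h1 := mul_mem (mul_mem (mul_mem hr' hs') hr')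
          (inv_mem (BN.B_le_parabolic ({r, s} : Set G) hp))
        rw [← hn, mul_inv_rev, inv_inv, mul_inv_cancel_left] at h1
        exact h1
      have hts : t = s := by
        rcases BN.mem_of_mem_parabolic (Set.insert_subset hrS (Set.singleton_subset_iff.2 hsS))
          (hJS htJ) htsr with h | h
        · exact absurd (h ▸ htJ) hrJ
        · exact h
      rw [hts] at hp
      -- `r s` and `s r` agree modulo `B ⊓ N`
      have h2 : (s * r)⁻¹ * (r * s) ∈ P.B := by
        have h3 := BN.eqv_mul_right hsN hnN hrN hp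
        refine BN.eqv_trans h3 (BN.eqv_symm ?_)
        rw [hn]
        exact BN.eqv_mul_sq (r * s) hrS
      have h4 := inv_mem h2
      have h4N : ((s * r)⁻¹ * (r * s))⁻¹ ∈ P.N :=
        inv_mem (mul_mem (inv_mem (mul_mem hsN hrN)) (mul_mem hrN hsN))
      have h5 := P.conj_mem (r * s) (mul_mem hrN hsN) _ ⟨h4, h4N⟩
      have e : s * r * s⁻¹ * r⁻¹ = r * s * ((s * r)⁻¹ * (r * s))⁻¹ * (r * s)⁻¹ := by group
      rwa [e]
    | a :: b :: v, _, _, _, hgt =>
      exfalso
      simp only [List.length_cons] at hgt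
      omega
  have htop : K ⊔ P.B = ⊤ := by rw [hMJ, hfull, BN.parabolic_S]
  have hsurj : Function.Surjective ((QuotientGroup.mk' K).comp P.B.subtype) := by
    intro q
    obtain ⟨g, rfl⟩ := QuotientGroup.mk'_surjective K q
    obtain ⟨x, hx, b, hb, rfl⟩ :=
      Subgroup.mem_sup_of_normal_left.1 (show g ∈ K ⊔ P.B from htop ▸ Subgroup.mem_top g)
    refine ⟨⟨b, hb⟩, ?_⟩
    have hx1 : QuotientGroup.mk' K x = 1 := (QuotientGroup.eq_one_iff x).2 hx
    rw [MonoidHom.comp_apply, map_mul, hx1, one_mul]
    rfl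
  have hs2 : Group.IsSolvable (G ⧸ K) :=
    haveI := hsolv
    Group.isSolvable_of_surjective hsurj
  have hp2 : commutator (G ⧸ K) = ⊤ := by
    rw [commutator_def, ← Subgroup.map_top_of_surjective _ (QuotientGroup.mk'_surjective K),
      ← Subgroup.map_commutator, ← commutator_def, hperf]
  have hd : ∀ m, derivedSeries (G ⧸ K) m = ⊤ := by
    intro m
    induction m with
    | zero => rfl
    | succ m ih => rw [derivedSeries_succ, ih, ← commutator_def, hp2]
  obtain ⟨m, hm⟩ := hs2.solvable
  rw [hd m] at hm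
  rw [eq_top_iff]
  intro g _
  have hg : (g : G ⧸ K) ∈ (⊥ : Subgroup (G ⧸ K)) := hm ▸ Subgroup.mem_top _
  exact (QuotientGroup.eq_one_iff g).1 (Subgroup.mem_bot.1 hg)

end Cfsg.Agent.S0319
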