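import Cfsg.Statements.S0791
import Cfsg.Agent.Classical.OrthMat
-- import your own Cfsg.Agent.* helpers here

set_option autoImplicit false
open Cfsg

namespace Cfsg.Agent.S0791

/-- −1 ∈ Ω⁻_2m(q) iff q^m ≡ −1 (mod 4), for q odd and m ≥ 1; for the minus-type form quadFormMinus (m−1) with anisotropic binary part. -/
theorem result {F : Type*} [Field F] [Fintype F] {q : ℕ} (hF : Fintype.card F = q) (hodd : Odd q) (m : ℕ) (hm : 1 ≤ m) (a b : F) (hab : ∀ z₁ z₂ : F, z₁ ^ 2 + a * z₁ * z₂ + b * z₂ ^ 2 = 0 → z₁ = 0 ∧ z₂ = 0) : (∃ g : ↥(Cfsg.isometryGroup F (Cfsg.quadFormMinus (m - 1) F a b)), g ∈ Cfsg.Omega F (Cfsg.quadFormMinus (m - 1) F a b) ∧ ((g : Matrix.GeneralLinearGroup ((Fin (m - 1) ⊕ Fin (m - 1)) ⊕ Fin 2) F) : Matrix ((Fin (m - 1) ⊕ Fin (m - 1)) ⊕ Fin 2) ((Fin (m - 1) ⊕ Fin (m - 1)) ⊕ Fin 2) F) = -1) ↔ q ^ m % 4 = 3 := by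
  have h2 : (2 : F) ≠ 0 := Ring.two_ne_zero fun h => by
    have h' := FiniteField.even_card_of_char_two h
    rw [hF] at h'
    obtain ⟨r, hr⟩ := hodd
    omega
  obtain ⟨l, rfl⟩ : ∃ l, m = l + 1 := ⟨m - 1, by omega⟩
  rw [Nat.add_sub_cancel]
  open Cfsg.Agent.Classical.Quad QuadraticMap in
    let Q : QuadraticForm F ((Fin l ⊕ Fin l) ⊕ Fin 2 → F) := (hyp (binForm a b) l).comp (minusCoord l).toLinearMap
    have hQe : ⇑Q = Cfsg.quadFormMinus l F a b := funext fun x => by simp [Q, minusCoord_map]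
    have hQ : (polarBilin Q).Nondegenerate :=
      Iso.nondeg (Iso.symm ⟨minusCoord l, fun x => by simp [Q]⟩) (nondeg_hyp (nondeg_binForm hab) l)
    have hd : Module.finrank F ((Fin l ⊕ Fin l) ⊕ Fin 2 → F) = l + l + 2 := by simp
    have key := neg_one_iff_disc hQ h2 (by omega) (by rw [hd]; exact ⟨l + 1, by ring⟩)
      (Pi.basisFun F ((Fin l ⊕ Fin l) ⊕ Fin 2))
    rw [hQe] at key
    rw [key, disc_minus hF hodd hab]
    obtain ⟨k, rfl⟩ := hodd
    rw [show (l + 1) * (2 * k + 1 - 1) / 2 = (l + 1) * k by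
      rw [Nat.add_sub_cancel, mul_left_comm, Nat.mul_div_cancel_left _ (by norm_num : 0 < 2)], Nat.even_mul]
    rcases Nat.even_or_odd k with ⟨j, rfl⟩ | ⟨j, rfl⟩
    · rw [iff_true_intro (Or.inr ⟨j, rfl⟩ : Even (l + 1) ∨ Even (j + j)), not_true, false_iff, Nat.pow_mod,
        show (2 * (j + j) + 1) % 4 = 1 by omega, one_pow]
      norm_num
    · rcases Nat.even_or_odd (l + 1) with ⟨i, hi⟩ | ⟨i, hi⟩
      · rw [iff_true_intro (Or.inl ⟨i, hi⟩ : Even (l + 1) ∨ Even (2 * j + 1)), not_true, false_iff, hi, ← two_mul,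
          pow_mul, Nat.pow_mod, Nat.pow_mod (2 * (2 * j + 1) + 1) 2, show (2 * (2 * j + 1) + 1) % 4 = 3 by omega]
        norm_num
      · rw [hi, Nat.pow_mod, show (2 * (2 * j + 1) + 1) % 4 = 3 by omega, pow_succ, pow_mul, Nat.mul_mod,
          Nat.pow_mod]
        norm_num [Nat.even_add_one]

end Cfsg.Agent.S0791
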