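import Cfsg.Statements.S0790
import Cfsg.Agent.Classical.OrthMat
-- import your own Cfsg.Agent.* helpers here

set_option autoImplicit false
open Cfsg

namespace Cfsg.Agent.S0790

/-- −1 ∈ Ω⁺_2m(q) iff q^m ≡ 1 (mod 4), for q odd and m ≥ 1 (so that in the other case SO⁺_2m(q) = 2 × Ω⁺_2m(q)). -/
theorem result {F : Type*} [Field F] [Fintype F] {q : ℕ} (hF : Fintype.card F = q) (hodd : Odd q) (m : ℕ) (hm : 1 ≤ m) : (∃ g : ↥(Cfsg.isometryGroup F (Cfsg.quadFormPlus m F)), g ∈ Cfsg.Omega F (Cfsg.quadFormPlus m F) ∧ ((g : Matrix.GeneralLinearGroup (Fin m ⊕ Fin m) F) : Matrix (Fin m ⊕ Fin m) (Fin m ⊕ Fin m) F) = -1) ↔ q ^ m % 4 = 1 := by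
  have h2 : (2 : F) ≠ 0 := Ring.two_ne_zero fun h => by
    have h' := FiniteField.even_card_of_char_two h
    rw [hF] at h'
    obtain ⟨r, hr⟩ := hodd
    omega
  open Cfsg.Agent.Classical.Quad QuadraticMap in
    let Q : QuadraticForm F (Fin m ⊕ Fin m → F) := (hyp (zeroForm F) m).comp (plusCoord m).toLinearMap
    have hQe : ⇑Q = Cfsg.quadFormPlus m F := funext fun x => by simp [Q, plusCoord_map]
    have hQ : (polarBilin Q).Nondegenerate :=
      Iso.nondeg (Iso.symm ⟨plusCoord m, fun x => by simp [Q]⟩) (nondeg_hyp nondeg_zeroForm m)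
    have hd : Module.finrank F (Fin m ⊕ Fin m → F) = m + m := by simp
    have key := neg_one_iff_disc hQ h2 (by omega) (by rw [hd]; exact ⟨m, rfl⟩) (Pi.basisFun F (Fin m ⊕ Fin m))
    rw [hQe] at key
    rw [key, disc_plus hF hodd]
    obtain ⟨k, rfl⟩ := hodd
    rw [show m * (2 * k + 1 - 1) / 2 = m * k by
      rw [Nat.add_sub_cancel, mul_left_comm, Nat.mul_div_cancel_left _ (by norm_num : 0 < 2)], Nat.even_mul]
    rcases Nat.even_or_odd k with ⟨j, rfl⟩ | ⟨j, rfl⟩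
    · rw [iff_true_intro (Or.inr ⟨j, rfl⟩ : Even m ∨ Even (j + j)), true_iff, Nat.pow_mod,
        show (2 * (j + j) + 1) % 4 = 1 by omega, one_pow]
      try norm_num
    · rcases Nat.even_or_odd m with ⟨i, rfl⟩ | ⟨i, rfl⟩
      · rw [iff_true_intro (Or.inl ⟨i, rfl⟩ : Even (i + i) ∨ Even (2 * j + 1)), true_iff, ← two_mul, pow_mul,
          Nat.pow_mod, Nat.pow_mod (2 * (2 * j + 1) + 1) 2, show (2 * (2 * j + 1) + 1) % 4 = 3 by omega]
        norm_num
      · rw [Nat.pow_mod, show (2 * (2 * j + 1) + 1) % 4 = 3 by omega, pow_succ, pow_mul, Nat.mul_mod,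
          Nat.pow_mod]
        norm_num [Nat.even_add_one]

end Cfsg.Agent.S0790
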