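import Cfsg.Statements.S2261

set_option autoImplicit false
open Cfsg

namespace Cfsg.Agent.S2261

theorem upper {F : Type*} [Field F] [Fintype F] (d : ℕ) (hd : 1 ≤ d) (g : GL (Fin d) F) :
    (Fintype.card F - 1) * orderOf (QuotientGroup.mk g : GL (Fin d) F ⧸ Subgroup.center (GL (Fin d) F))
      ≤ Fintype.card F ^ d - 1 := by
  classical
  haveI : Nonempty (Fin d) := ⟨⟨0, hd⟩⟩
  set o := orderOf (QuotientGroup.mk g : GL (Fin d) F ⧸ Subgroup.center (GL (Fin d) F)) with ho
  set M : Matrix (Fin d) (Fin d) F := (g : Matrix (Fin d) (Fin d) F) with hM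
  let T : Finset (Matrix (Fin d) (Fin d) F) :=
    Finset.univ.image (fun c : Fin d → F => ∑ i : Fin d, c i • M ^ (i : ℕ))
  have hT : T.card ≤ Fintype.card F ^ d := by
    refine le_trans Finset.card_image_le ?_
    simp
  have hmem : ∀ P : Polynomial F, Polynomial.aeval M P ∈ T := by
    intro P
    have h1 : Polynomial.aeval M P = Polynomial.aeval M (P %ₘ M.charpoly) := by
      conv_lhs => rw [← Polynomial.modByMonic_add_div P M.charpoly]
      rw [map_add, map_mul, Matrix.aeval_self_charpoly, zero_mul, add_zero]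
    have hdeg : (P %ₘ M.charpoly).natDegree < d := by
      have hmon := Matrix.charpoly_monic M
      have h2 := Polynomial.natDegree_modByMonic_lt P hmon (fun h => by
        have := Matrix.charpoly_natDegree_eq_dim M
        rw [h, Polynomial.natDegree_one, Fintype.card_fin] at this
        omega)
      rwa [Matrix.charpoly_natDegree_eq_dim, Fintype.card_fin] at h2
    rw [h1, Polynomial.aeval_eq_sum_range' hdeg, Finset.mem_image]
    exact ⟨fun i => (P %ₘ M.charpoly).coeff i, Finset.mem_univ _,
      Fin.sum_univ_eq_sum_range (fun i => (P %ₘ M.charpoly).coeff i • M ^ i) d⟩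
  let f : Fˣ × Fin o → Matrix (Fin d) (Fin d) F := fun x => (x.1 : F) • M ^ (x.2 : ℕ)
  have hf : Function.Injective f := by
    rintro ⟨c, i⟩ ⟨c', j⟩ h
    simp only [f] at h
    have hij : i = j := by
      let z : GL (Fin d) F := Matrix.GeneralLinearGroup.scalar (Fin d) (c'⁻¹ * c)
      have hz : z ∈ Subgroup.center (GL (Fin d) F) := by
        rw [Matrix.GeneralLinearGroup.center_eq_range_scalar]; exact ⟨_, rfl⟩
      have he : g ^ (j : ℕ) = z * g ^ (i : ℕ) := by
        apply Units.ext
        have h' := congrArg (fun A => ((c'⁻¹ : Fˣ) : F) • A) h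
        simp only [smul_smul, Units.inv_mul, one_smul] at h'
        have hz' : (z : Matrix (Fin d) (Fin d) F) = Matrix.diagonal fun _ => ((c'⁻¹ * c : Fˣ) : F) := rfl
        rw [Units.val_mul, Units.val_pow_eq_pow_val, Units.val_pow_eq_pow_val, hz', ← hM, ← h',
          ← Matrix.smul_eq_diagonal_mul, Units.val_mul]
      have h2 := congrArg (fun x => (QuotientGroup.mk x : GL (Fin d) F ⧸ Subgroup.center (GL (Fin d) F))) he
      simp only [QuotientGroup.mk_mul, QuotientGroup.mk_pow, (QuotientGroup.eq_one_iff z).2 hz, one_mul] at h2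
      exact Fin.ext (pow_injOn_Iio_orderOf (Set.mem_Iio.2 i.2) (Set.mem_Iio.2 j.2) h2.symm)
    subst hij
    have : (c : F) = (c' : F) := by
      have hunit : M ^ (i : ℕ) ≠ 0 := (((g : GL (Fin d) F) ^ (i : ℕ))).ne_zero ∘ fun e => by
        simpa [hM] using e
      exact smul_left_injective F hunit h
    exact Prod.ext (Units.ext this) rfl
  have hsub : Finset.univ.image f ⊆ T.erase 0 := by
    intro A hA
    obtain ⟨⟨c, i⟩, -, rfl⟩ := Finset.mem_image.1 hA
    refine Finset.mem_erase.2 ⟨?_, ?_⟩
    · refine smul_ne_zero c.ne_zero ?_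
      intro e
      exact (g ^ (i : ℕ)).ne_zero (by simpa [hM] using e)
    · have := hmem (Polynomial.C (c : F) * Polynomial.X ^ (i : ℕ))
      simpa [f, Algebra.smul_def] using this
  have h0 : (0 : Matrix (Fin d) (Fin d) F) ∈ T := by simpa using hmem 0
  have := Finset.card_le_card hsub
  rw [Finset.card_image_of_injective _ hf, Finset.card_erase_of_mem h0, Finset.card_univ,
    Fintype.card_prod, Fintype.card_units, Fintype.card_fin] at this
  omega


/-- Let F be a finite field with q elements and d ≥ 1. Then every element of PGL_d(F) = GL_d(F)/Z has order at most (q^d − 1)/(q − 1), and some element (the image of a Singer cycle) has exactly this order. -/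
theorem result {F : Type*} [Field F] [Fintype F] (d : ℕ) (hd : 1 ≤ d) :
    (∀ g : (GL (Fin d) F ⧸ Subgroup.center (GL (Fin d) F)), (Fintype.card F - 1) * orderOf g ≤ Fintype.card F ^ d - 1) ∧
    (∃ g : (GL (Fin d) F ⧸ Subgroup.center (GL (Fin d) F)), (Fintype.card F - 1) * orderOf g = Fintype.card F ^ d - 1) := by
  classical
  refine ⟨fun g => QuotientGroup.induction_on g (upper d hd), ?_⟩
  haveI : NeZero d := ⟨by omega⟩
  haveI : Fact (ringChar F).Prime := ⟨CharP.char_is_prime F (ringChar F)⟩
  let L := FiniteField.Extension F (ringChar F) d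
  haveI : Fintype L := Fintype.ofFinite L
  let b : Module.Basis (Fin d) F L := Module.finBasisOfFinrankEq F L (FiniteField.finrank_extension F (ringChar F) d)
  let φ : L →ₐ[F] Matrix (Fin d) (Fin d) F := Algebra.leftMulMatrix b
  obtain ⟨α, hα⟩ := IsCyclic.exists_ofOrder_eq_natCard (α := Lˣ)
  let g : GL (Fin d) F := Units.map φ.toRingHom.toMonoidHom α
  refine ⟨QuotientGroup.mk g, le_antisymm (upper d hd g) ?_⟩
  set o := orderOf (QuotientGroup.mk g : GL (Fin d) F ⧸ Subgroup.center (GL (Fin d) F)) with ho
  have hopos : 0 < o := orderOf_pos _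
  have hcent : g ^ o ∈ Subgroup.center (GL (Fin d) F) := by
    rw [← QuotientGroup.eq_one_iff, QuotientGroup.mk_pow, ho, pow_orderOf_eq_one]
  rw [Matrix.GeneralLinearGroup.center_eq_range_scalar] at hcent
  obtain ⟨a, ha⟩ := hcent
  have hαo : ((α ^ o : Lˣ) : L) = algebraMap F L (a : F) := by
    apply Algebra.leftMulMatrix_injective b
    rw [AlgHom.commutes]
    have := congrArg Units.val ha
    simp only [g, Units.val_pow_eq_pow_val, Units.coe_map] at this
    rw [Units.val_pow_eq_pow_val, map_pow]
    exact this.symm.trans (by simp [Matrix.algebraMap_eq_diagonal, Pi.algebraMap_def])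
  have h1 : (α ^ o) ^ (Fintype.card F - 1) = 1 := by
    apply Units.ext
    rw [Units.val_pow_eq_pow_val, hαo, ← map_pow, FiniteField.pow_card_sub_one_eq_one _ a.ne_zero]
    simp
  rw [← pow_mul] at h1
  have h2 := orderOf_dvd_of_pow_eq_one h1
  rw [hα, Nat.card_units, FiniteField.natCard_extension, Nat.card_eq_fintype_card] at h2
  rw [mul_comm]
  refine Nat.le_of_dvd ?_ h2
  have : 1 < Fintype.card F := Fintype.one_lt_card
  exact Nat.mul_pos hopos (by omega)

end Cfsg.Agent.S2261
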