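import Cfsg.Statements.S0040
import Cfsg.Agent.Fusion.UniqueInvolution
import Cfsg.Agent.Coprime.Generation
-- import your own Cfsg.Agent.* helpers here

set_option autoImplicit false
open Cfsg

namespace Cfsg.Agent.S0040

open Subgroup in
theorem coprime_of_fpf {G : Type*} [Group G] [Finite G] {p : ℕ} [hp : Fact p.Prime] (K : Subgroup G)
    [K.Normal] {h : G} (hh : orderOf h = p) (hfix : K ⊓ centralizer {h} = ⊥) :
    p.Coprime (Nat.card K) := by
  have hn : h ∈ normalizer (K : Set G) := by rw [normalizer_eq_top]; exact mem_top h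
  set φ : MulAut K := K.normalizerMonoidHom ⟨h, hn⟩ with hφ
  set A := zpowers φ with hA
  have hAp : IsPGroup p A := IsPGroup.of_card_dvd_pow (n := 1) (by
    rw [Nat.card_zpowers, pow_one]
    exact (orderOf_map_dvd K.normalizerMonoidHom (⟨h, hn⟩ : normalizer (K : Set G))).trans
      (by rw [Subgroup.orderOf_mk, hh]))
  have hmod := hAp.card_modEq_card_fixedPoints (K : Type _)
  have hcard : Nat.card (MulAction.fixedPoints A K) = 1 := by
    rw [Nat.card_eq_one_iff_unique]
    refine ⟨⟨?_⟩, ⟨1, fun a => by show (a : MulAut K) 1 = 1; simp⟩⟩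
    suffices hone : ∀ x : MulAction.fixedPoints A K, (x : K) = 1 by
      intro x y; exact Subtype.ext ((hone x).trans (hone y).symm)
    rintro ⟨x, hx⟩
    have h1 : φ x = x := hx ⟨φ, mem_zpowers φ⟩
    have h2 : h * (x : G) * h⁻¹ = x := congrArg (fun y : K => (y : G)) h1
    have h3 : (x : G) ∈ K ⊓ centralizer {h} := by
      refine ⟨x.2, ?_⟩
      show (x : G) ∈ centralizer {h}
      rw [mem_centralizer_singleton_iff]
      calc (x : G) * h = h * (x : G) * h⁻¹ * h := by rw [h2]
        _ = h * x := by group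
    rw [hfix, mem_bot] at h3
    exact Subtype.ext h3
  rw [hcard] at hmod
  refine hp.out.coprime_iff_not_dvd.mpr fun hd => ?_
  have h1 : Nat.card K % p = 1 % p := hmod
  rw [Nat.mod_eq_zero_of_dvd hd, Nat.mod_eq_of_lt hp.out.one_lt] at h1
  omega


/-- Sylow subgroups of Frobenius complements: if H complements a nontrivial normal subgroup K and every nonidentity element of H has trivial centraliser in K, then each Sylow subgroup of H is cyclic or isomorphic to a generalized quaternion group. -/
theorem result {G : Type*} [Group G] [Finite G] (K H : Subgroup G) [K.Normal]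
    (hc : Subgroup.IsComplement' K H) (hK : K ≠ ⊥) (hfpf : ∀ h ∈ H, h ≠ 1 → K ⊓ Subgroup.centralizer {h} = ⊥)
    (p : ℕ) [Fact p.Prime] (P : Sylow p H) :
    IsCyclic P ∨ ∃ n : ℕ, Nonempty (P ≃* QuaternionGroup (2 ^ n)) := by
  have key : ∀ U V : Subgroup P, Nat.card U = p → Nat.card V = p → U = V := by
    intro U V hU hV
    have hp := (Fact.out : p.Prime)
    have hnt : Nontrivial P := Finite.one_lt_card_iff_nontrivial.mp
      (lt_of_lt_of_le (lt_of_lt_of_eq hp.one_lt hU.symm) (Subgroup.card_le_card_group U))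
    obtain ⟨Z, -, hZc, hZn, hZcard⟩ :=
      Cfsg.Agent.Fusion.exists_central_card_prime (G := P) P.isPGroup' ⊤ top_ne_bot
    suffices h : ∀ W : Subgroup P, Nat.card W = p → W = Z by rw [h U hU, h V hV]
    intro W hW
    by_contra hne
    set E : Subgroup P := W ⊔ Z
    have hEc : IsMulCommutative E :=
      Cfsg.Agent.Fusion.isMulCommutative_sup_of_le_centralizer
        ((isCyclic_of_prime_card hW).isMulCommutative) ((isCyclic_of_prime_card hZcard).isMulCommutative)
        (fun w _ z hz => Subgroup.mem_center_iff.mp (hZc hz) w |>.symm)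
    let ι : P →* G := H.subtype.comp (P : Subgroup H).subtype
    have hι : Function.Injective ι := Subtype.val_injective.comp Subtype.val_injective
    have hEG : IsMulCommutative (E.map ι) := ⟨⟨by
      rintro ⟨_, a, ha, rfl⟩ ⟨_, b, hb, rfl⟩
      apply Subtype.ext
      show ι a * ι b = ι b * ι a
      rw [← map_mul, ← map_mul]
      exact congrArg ι (congrArg Subtype.val (hEc.is_comm.comm (⟨a, ha⟩ : E) ⟨b, hb⟩))⟩⟩
    have hpow : ∀ x ∈ E.map ι, x ^ p = 1 := by
      rintro _ ⟨x, hx, rfl⟩
      have hcomm : ∀ a ∈ W, ∀ b ∈ Z, Commute a b := fun a _ b hb => Subgroup.mem_center_iff.mp (hZc hb) a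
      rw [SetLike.mem_coe, Subgroup.mem_sup_of_normal_right] at hx
      obtain ⟨a, ha, b, hb, rfl⟩ := hx
      rw [← map_pow, (hcomm a ha b hb).mul_pow,
        orderOf_dvd_iff_pow_eq_one.mp ((W.orderOf_dvd_natCard ha).trans hW.dvd),
        orderOf_dvd_iff_pow_eq_one.mp ((Z.orderOf_dvd_natCard hb).trans hZcard.dvd), mul_one, map_one]
    have hnc : ¬ IsCyclic (E.map ι) := by
      intro hcyc
      have hEcyc : IsCyclic E :=
        isCyclic_of_injective (E.equivMapOfInjective ι hι).toMonoidHom (MulEquiv.injective _)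
      obtain ⟨g, hg⟩ := hEcyc.exists_generator
      have hle : Nat.card E ≤ p := by
        rw [← orderOf_eq_card_of_forall_mem_zpowers hg]
        refine Nat.le_of_dvd hp.pos (orderOf_dvd_of_pow_eq_one ?_)
        have := hpow (ι g) ⟨g, g.2, rfl⟩
        rw [← map_pow, ← map_one ι] at this
        exact Subtype.ext (hι this)
      refine hne ((Subgroup.eq_of_le_of_card_ge (le_sup_left : W ≤ E) (hle.trans hW.ge)).trans
        (Subgroup.eq_of_le_of_card_ge (le_sup_right : Z ≤ E) (hle.trans hZcard.ge)).symm)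
    have hcop : (Nat.card (E.map ι)).Coprime (Nat.card K) := by
      obtain ⟨w, hw, hw1⟩ := (Subgroup.ne_bot_iff_exists_ne_one (H := W)).mp (fun e => by
        rw [e, Subgroup.card_bot] at hW; exact hp.ne_one hW.symm) |> fun ⟨w, hw⟩ => (⟨w.1, w.2, by simpa using hw⟩ : ∃ w, w ∈ W ∧ w ≠ 1)
      have hwo : orderOf (ι w) = p := orderOf_eq_prime (hpow _ ⟨w, Subgroup.mem_sup_left hw, rfl⟩)
        (fun e => hw1 (hι (e.trans (map_one ι).symm)))
      have hc := coprime_of_fpf K hwo (hfpf (ι w) (SetLike.coe_mem _) (fun e => hw1 (hι (e.trans (map_one ι).symm))))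
      obtain ⟨n, hn⟩ := IsPGroup.iff_card.mp ((P.isPGroup'.to_subgroup E).map ι)
      rw [hn]
      exact hc.pow_left n
    have hsup := Cfsg.Agent.Coprime.iSup_centralizer_eq (A := E.map ι) (K := K) hnc
      (by rw [Subgroup.normalizer_eq_top]; exact le_top) hcop
    refine hK (hsup.symm.trans (eq_bot_iff.mpr (iSup₂_le fun a ha => ?_)))
    obtain ⟨x, -, rfl⟩ := ha.1
    exact (hfpf _ (SetLike.coe_mem _) ha.2).le
  rcases Cfsg.Agent.Fusion.cyclic_or_quaternion_of_unique P.isPGroup' key with h | ⟨-, k, -, hk⟩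
  · exact Or.inl h
  · exact Or.inr ⟨k, hk⟩

end Cfsg.Agent.S0040
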