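import Cfsg.Statements.S0190
import Cfsg.Agent.Char.Induced
-- import your own Cfsg.Agent.* helpers here

set_option autoImplicit false
open Cfsg

namespace Cfsg.Agent.S0190

/-- For a transitive action of a finite group on X, the permutation character g ↦ (number of fixed points of g) is the function induced from the principal character of the stabilizer of any point. -/
theorem result {G : Type*} [Group G] [Fintype G] (X : Type*) [MulAction G X] [Finite X] [MulAction.IsPretransitive G X] (x : X) : (fun g : G => (Nat.card (MulAction.fixedBy X g) : ℂ)) = Cfsg.indFun (MulAction.stabilizer G x) (fun _ => 1) := by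
  classical
  funext g
  set H := MulAction.stabilizer G x with hH
  have hx : ∀ y : G, Cfsg.extendByZero H (fun _ => (1 : ℂ)) (y⁻¹ * g * y) =
      if g • (y • x) = y • x then 1 else 0 := by
    intro y
    have hiff : y⁻¹ * g * y ∈ H ↔ g • (y • x) = y • x := by
      rw [hH, MulAction.mem_stabilizer_iff, mul_smul, mul_smul, inv_smul_eq_iff]
    split_ifs with h
    · rw [Char.extendByZero_of_mem H _ (hiff.2 h)]
    · exact Char.extendByZero_of_not_mem H _ (mt hiff.1 h)
  have := Fintype.ofFinite X
  rw [Char.indFun_apply, Finset.sum_congr rfl fun y _ => hx y,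
    ← Finset.sum_fiberwise Finset.univ (fun y : G => y • x)]
  have hfib : ∀ z : X, (Finset.univ.filter fun y : G => y • x = z).card = Nat.card H := by
    intro z
    obtain ⟨a, rfl⟩ := MulAction.exists_smul_eq G x z
    rw [← Fintype.card_subtype, ← Nat.card_eq_fintype_card]
    refine (Nat.card_congr (Equiv.subtypeEquiv (Equiv.mulLeft a) fun b => ?_)).symm
    rw [hH, MulAction.mem_stabilizer_iff]
    simp [mul_smul]
  rw [Finset.sum_congr rfl fun z _ => Finset.sum_congr rfl (g := fun _ => if g • z = z then (1 : ℂ) else 0)
    fun y hy => by rw [(Finset.mem_filter.1 hy).2]]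
  simp only [Finset.sum_const, hfib, nsmul_eq_mul, ← Finset.mul_sum, Finset.sum_boole]
  rw [← mul_assoc, inv_mul_cancel₀ (Nat.cast_ne_zero.2 Nat.card_pos.ne'), one_mul,
    Nat.card_eq_fintype_card]
  congr 1
  rw [← Fintype.card_subtype]
  exact Fintype.card_congr (Equiv.subtypeEquivRight fun z => MulAction.mem_fixedBy)

end Cfsg.Agent.S0190
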