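import Cfsg.Statements.S0157
import Cfsg.Agent.Char.Gen
import Cfsg.Agent.Char.Induced
import Cfsg.Agent.S0190
-- import your own Cfsg.Agent.* helpers here

set_option autoImplicit false
open Cfsg

namespace Cfsg.Agent.S0157

/-- For a transitive action of a finite group on a finite set with at least two points: the action is 2-transitive if and only if the function sending g to (number of fixed points of g) − 1 is an irreducible character. -/
theorem result {G : Type*} [Group G] [Finite G] (X : Type*) [MulAction G X] [Finite X] [MulAction.IsPretransitive G X] (hX : 2 ≤ Nat.card X) : Cfsg.IsIrrCharacter G (fun g => (Nat.card (MulAction.fixedBy X g) : ℂ) - 1) ↔ MulAction.IsMultiplyPretransitive G X 2 := by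
  classical
  have := Fintype.ofFinite G
  have := Fintype.ofFinite X
  obtain ⟨x₀, x₁, hx01⟩ : ∃ a b : X, a ≠ b := by
    have : Nontrivial X := Finite.one_lt_card_iff_nontrivial.1 (by omega)
    exact exists_pair_ne X
  set π : G → ℂ := fun g => (Nat.card (MulAction.fixedBy X g) : ℂ) with hπ
  have hpi : π = indFun (MulAction.stabilizer G x₀) (fun _ => 1) := Cfsg.Agent.S0190.result X x₀
  have := Fintype.ofFinite (MulAction.stabilizer G x₀)
  have hchar : IsCharacter G π := hpi ▸ Char.isCharacter_indFun _ Char.isCharacter_one
  have hπ1 : classInner π (fun _ => 1) = 1 := by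
    rw [hpi, Char.classInner_indFun_left _ _ (Char.isClassFunction_of_isIrr Char.isIrrCharacter_one)]
    exact Char.classInner_irr_self Char.isIrrCharacter_one
  set Ω := Quotient (MulAction.orbitRel G (X × X))
  have := Fintype.ofFinite Ω
  have hππ : classInner π π = (Fintype.card Ω : ℂ) := by
    have hb := MulAction.sum_card_fixedBy_eq_card_orbits_mul_card_group G (X × X)
    have hfix : ∀ g : G, Fintype.card (MulAction.fixedBy (X × X) g) =
        Nat.card (MulAction.fixedBy X g) * Nat.card (MulAction.fixedBy X g) := by
      intro g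
      rw [← Nat.card_eq_fintype_card, ← Nat.card_prod]
      exact Nat.card_congr
        { toFun := fun p => (⟨p.1.1, congrArg Prod.fst p.2⟩, ⟨p.1.2, congrArg Prod.snd p.2⟩)
          invFun := fun q => ⟨(q.1.1, q.2.1), Prod.ext q.1.2 q.2.2⟩
          left_inv := fun _ => rfl
          right_inv := fun _ => rfl }
    simp only [hfix] at hb
    have hb' : (∑ g : G, (Nat.card (MulAction.fixedBy X g) : ℂ) * Nat.card (MulAction.fixedBy X g)) =
        (Fintype.card Ω : ℂ) * Fintype.card G := by exact_mod_cast hb
    simp only [classInner, hπ, Complex.conj_natCast]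
    rw [hb', Nat.card_eq_fintype_card]
    have : (Fintype.card G : ℂ) ≠ 0 := Nat.cast_ne_zero.2 Fintype.card_ne_zero
    field_simp
  have hsub : IsCharacter G (π - fun _ => 1) :=
    Char.IsChar.sub_constituent hchar Char.isIrrCharacter_one (by rw [hπ1]; exact one_ne_zero)
  have hnorm : classInner (π - fun _ => (1 : ℂ)) (π - fun _ => 1) = (Fintype.card Ω : ℂ) - 1 := by
    rw [Char.classInner_sub_left, Char.classInner_sub_right, Char.classInner_sub_right, hππ, hπ1,
      Char.classInner_irr_self Char.isIrrCharacter_one, ← Char.classInner_conj_symm π, hπ1, map_one]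
    ring
  let f : Ω → Prop := Quotient.lift (fun p : X × X => p.1 = p.2) fun p q ⟨g, hg⟩ => by
    simp only [← hg, eq_iff_iff]
    exact ⟨fun h => MulAction.injective g h, fun h => congrArg (g • ·) h⟩
  have hsurj : Function.Surjective f := by
    intro P
    by_cases hP : P
    · exact ⟨Quotient.mk'' (x₀, x₀), by simp [f, hP]⟩
    · exact ⟨Quotient.mk'' (x₀, x₁), by simp [f, hP, hx01]⟩
  have htwo : Fintype.card Ω = 2 ↔ MulAction.IsMultiplyPretransitive G X 2 := by
    rw [MulAction.is_two_pretransitive_iff, ← Nat.card_eq_fintype_card]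
    constructor
    · intro h a b c d hab hcd
      have hbij : Function.Bijective f :=
        (Nat.bijective_iff_surjective_and_card f).2 ⟨hsurj, by rw [h]; simp⟩
      have he : f (Quotient.mk'' (a, b)) = f (Quotient.mk'' (c, d)) := by simp [f, hab, hcd]
      obtain ⟨g, hg⟩ := Quotient.eq''.1 (hbij.1 he).symm
      exact ⟨g, congrArg Prod.fst hg, congrArg Prod.snd hg⟩
    · intro h
      have hinj : Function.Injective f := by
        intro p q hpq
        induction p using Quotient.inductionOn' with | _ p => ?_
        induction q using Quotient.inductionOn' with | _ q => ?_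
        change (p.1 = p.2) = (q.1 = q.2) at hpq
        refine Quotient.sound' ?_
        by_cases hp : p.1 = p.2
        · obtain ⟨g, hg⟩ := MulAction.exists_smul_eq G q.1 p.1
          have hq : q.1 = q.2 := hpq ▸ hp
          exact ⟨g, Prod.ext hg (by show g • q.2 = p.2; rw [← hq, hg, hp])⟩
        · obtain ⟨g, hg1, hg2⟩ := h (hpq ▸ hp : ¬ q.1 = q.2) hp
          exact ⟨g, Prod.ext hg1 hg2⟩
      rw [Nat.card_eq_of_bijective f ⟨hinj, hsurj⟩]
      simp
  rw [← htwo, show (fun g : G => (Nat.card (MulAction.fixedBy X g) : ℂ) - 1) = π - fun _ => 1 from rfl,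
    Char.isIrr_iff_norm_one hsub, hnorm]
  constructor
  · intro h
    have h' : (Fintype.card Ω : ℂ) = (2 : ℕ) := by push_cast; linear_combination h
    exact_mod_cast h'
  · intro h
    rw [h]; norm_num

end Cfsg.Agent.S0157
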