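import Cfsg.Statements.S0672
import Mathlib

set_option autoImplicit false
open Cfsg

namespace Cfsg.Agent.S0672

open scoped Pointwise in
/-- Separate statement: the unordered pair of two distinct points. -/
def pairOf {Ω : Type*} [DecidableEq Ω] (x y : Ω) (h : x ≠ y) : Set.powersetCard Ω 2 :=
  ⟨{x, y}, Finset.card_pair h⟩

open scoped Pointwise in
theorem smul_pairOf {G Ω : Type*} [Group G] [DecidableEq Ω] [MulAction G Ω] (g : G) (x y : Ω)
    (h : x ≠ y) : g • pairOf x y h = pairOf (g • x) (g • y) (fun e => h (smul_left_cancel g e)) := by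
  refine Subtype.ext ?_
  rw [Set.powersetCard.coe_smul]
  show g • ({x, y} : Finset Ω) = {g • x, g • y}
  simp [Finset.smul_finset_insert, Finset.smul_finset_singleton]

open scoped Pointwise in
theorem exists_pairOf {Ω : Type*} [DecidableEq Ω] (E : Set.powersetCard Ω 2) :
    ∃ (x y : Ω) (h : x ≠ y), E = pairOf x y h := by
  obtain ⟨x, y, h, hxy⟩ := Finset.card_eq_two.1 E.2
  exact ⟨x, y, h, Subtype.ext hxy⟩

open scoped Pointwise in

/-- Let a finite group act faithfully and doubly transitively with point stabilisers of even order, and let `K` have characteristic `p` dividing the degree. If the heart of the permutation module admits no non-zero equivariant map to the permutation module on unordered pairs (phrased: every intertwining map from the sum-zero functions vanishing on the constants is zero), the action is triply transitive. -/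
theorem result {G : Type*} [Group G] [Finite G] {K : Type*} [Field K] {p : ℕ} [Fact p.Prime] [CharP K p] {Ω : Type*} [Fintype Ω] [DecidableEq Ω] [MulAction G Ω] [FaithfulSMul G Ω] (h2 : MulAction.IsMultiplyPretransitive G Ω 2) (hp : p ∣ Fintype.card Ω) (heven : ∀ a : Ω, Even (Nat.card (MulAction.stabilizer G a))) (h : ∀ f : Representation.IntertwiningMap (Cfsg.permSumZero K G Ω).toRepresentation (Cfsg.permRep K G (Set.powersetCard Ω 2)), (∀ v : (Cfsg.permSumZero K G Ω).toSubmodule, (v : Ω → K) ∈ (Cfsg.permConstants K G Ω).toSubmodule → f v = 0) → f = 0) : MulAction.IsMultiplyPretransitive G Ω 3 := by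
  classical
  have hpretr : ∀ {a b c d : Ω}, a ≠ b → c ≠ d → ∃ g : G, g • a = c ∧ g • b = d := fun h h' =>
    MulAction.is_two_pretransitive_iff.1 h2 h h'
  have : Fintype (Set.powersetCard Ω 2) := Fintype.ofFinite _
  have hE : ∀ E E' : Set.powersetCard Ω 2, ∃ g : G, g • E = E' := by
    intro E E'
    obtain ⟨x, y, hxy, rfl⟩ := exists_pairOf E
    obtain ⟨x', y', hxy', rfl⟩ := exists_pairOf E'
    obtain ⟨g, h1, h2⟩ := hpretr hxy hxy'
    exact ⟨g, by rw [smul_pairOf]; subst h1; subst h2; rfl⟩
  have hmem : ∀ (g : G) (x : Ω) (E : Set.powersetCard Ω 2),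
      g • x ∈ ((g • E : Set.powersetCard Ω 2) : Finset Ω) ↔ x ∈ (E : Finset Ω) := fun g x E => by
    rw [Set.powersetCard.coe_smul, Finset.smul_mem_smul_finset_iff]
  -- transitivity on (point, disjoint pair)
  have htr : ∀ (E : Set.powersetCard Ω 2) (x x' : Ω), x ∉ (E : Finset Ω) → x' ∉ (E : Finset Ω) →
      ∃ g : G, g • x = x' ∧ g • E = E := by
    intro E x x' hx hx'
    by_contra hno
    let O : Ω → Ω → Set.powersetCard Ω 2 → K := fun x₀ z F =>
      if (z, F) ∈ MulAction.orbit G (x₀, E) then 1 else 0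
    have hOinv : ∀ (x₀ : Ω) (g : G) z F, O x₀ (g • z) (g • F) = O x₀ z F := fun x₀ g z F =>
      if_congr (by
        show (g • (z, F)) ∈ MulAction.orbit G (x₀, E) ↔ _
        rw [← MulAction.orbit_eq_iff, MulAction.orbit_smul, MulAction.orbit_eq_iff]) rfl rfl
    set s₁ := ∑ z, O x z E
    set s₂ := ∑ z, O x' z E
    let c : Ω → Set.powersetCard Ω 2 → K := fun z F =>
      if s₁ = 0 then O x z F else s₂ * O x z F - s₁ * O x' z F
    have hcinv : ∀ (g : G) z F, c (g • z) (g • F) = c z F := fun g z F => by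
      simp only [c, hOinv]
    have hcsum : ∀ F, ∑ z, c z F = 0 := by
      intro F
      obtain ⟨g, rfl⟩ := hE E F
      rw [← Equiv.sum_comp (MulAction.toPerm g) (fun z => c z (g • E))]
      simp only [MulAction.toPerm_apply, hcinv]
      by_cases h0 : s₁ = 0
      · simp only [c, if_pos h0]; exact h0
      · simp only [c, if_neg h0, Finset.sum_sub_distrib, ← Finset.mul_sum]
        exact sub_eq_zero.2 (mul_comm _ _)
    let L : (Ω → K) →ₗ[K] (Set.powersetCard Ω 2 → K) :=
      { toFun := fun v F => ∑ z, c z F * v z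
        map_add' := fun v w => by funext F; simp [mul_add, Finset.sum_add_distrib]
        map_smul' := fun a v => by funext F; simp [Finset.mul_sum, mul_left_comm] }
    have hLint : ∀ (g : G) v, L (Cfsg.permRep K G Ω g v) = Cfsg.permRep K G _ g (L v) := by
      intro g v
      funext F
      show ∑ z, c z F * v (g⁻¹ • z) = ∑ z, c z (g⁻¹ • F) * v z
      rw [← Equiv.sum_comp (MulAction.toPerm g) (fun z => c z F * v (g⁻¹ • z))]
      refine Finset.sum_congr rfl fun z _ => ?_
      rw [MulAction.toPerm_apply, inv_smul_smul, ← hcinv g⁻¹ (g • z) F, inv_smul_smul]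
    have hL := h (LinearMap.intertwiningMap_of_isIntertwiningMap
      (Cfsg.permSumZero K G Ω).toRepresentation (Cfsg.permRep K G (Set.powersetCard Ω 2))
      (L.comp (Cfsg.permSumZero K G Ω).toSubmodule.subtype)
      (fun g v => hLint g v.1)) (fun v hv => by
        obtain ⟨a, ha⟩ := Submodule.mem_span_singleton.1 hv
        show L v.1 = 0
        funext F
        show ∑ z, c z F * (v : Ω → K) z = 0
        rw [← ha]
        simp [← Finset.sum_mul, hcsum])
    have hzero : ∀ w z, c w E = c z E := by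
      intro w z
      rcases eq_or_ne w z with rfl | hwz
      · rfl
      let v : (Cfsg.permSumZero K G Ω).toSubmodule :=
        ⟨Pi.single w 1 - Pi.single z 1, by
          show ∑ i, (Pi.single w (1 : K) - Pi.single z 1 : Ω → K) i = 0
          simp [Finset.sum_sub_distrib, Finset.sum_pi_single']⟩
      have hv := congrFun (congrArg (fun f => f v) hL) E
      have hv' : ∑ i, c i E * (Pi.single w (1 : K) - Pi.single z 1 : Ω → K) i = 0 := hv
      simp [mul_sub, Finset.sum_sub_distrib, Pi.single_apply] at hv'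
      exact sub_eq_zero.1 hv'
    obtain ⟨a, b, hab, hEab⟩ := exists_pairOf E
    have haE : a ∈ (E : Finset Ω) := by rw [hEab]; exact Finset.mem_insert_self _ _
    have hOa : ∀ x₀, x₀ ∉ (E : Finset Ω) → O x₀ a E = 0 := fun x₀ hx₀ => if_neg fun ⟨g, hg⟩ => by
      obtain ⟨h1, h2⟩ := Prod.ext_iff.1 hg
      have := (hmem g x₀ E).not.2 hx₀
      simp only [Prod.smul_fst, Prod.smul_snd] at h1 h2
      rw [h1, h2] at this
      exact this haE
    have hca : c a E = 0 := by simp [c, hOa x hx, hOa x' hx']
    have hxx : O x x E = 1 := if_pos (MulAction.mem_orbit_self _)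
    have hxx' : O x' x' E = 1 := if_pos (MulAction.mem_orbit_self _)
    have hx'x : O x x' E = 0 := if_neg fun ⟨g, hg⟩ =>
      hno ⟨g, (Prod.ext_iff.1 hg).1, (Prod.ext_iff.1 hg).2⟩
    by_cases h0 : s₁ = 0
    · have := hzero x a
      rw [hca] at this
      simp [c, h0, hxx] at this
    · have := hzero x' a
      rw [hca] at this
      simp only [c, if_neg h0, hx'x, hxx', mul_zero, mul_one, zero_sub, neg_eq_zero] at this
      exact h0 this
  -- swapping a pair inside a stabiliser
  have hswap : ∀ a y z : Ω, a ≠ y → a ≠ z → y ≠ z →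
      ∃ g : G, g • a = a ∧ g • y = z ∧ g • z = y := by
    intro a y z hay haz hyz
    have h2' : Fact (Nat.Prime 2) := ⟨Nat.prime_two⟩
    obtain ⟨t, ht⟩ := exists_prime_orderOf_dvd_card' 2 (heven a).two_dvd
    rw [← Subgroup.orderOf_coe] at ht
    obtain ⟨u, hu⟩ : ∃ u : Ω, (t : G) • u ≠ u := by
      by_contra hall
      push Not at hall
      have : (t : G) = 1 := FaithfulSMul.eq_of_smul_eq_smul (α := Ω) fun u => by rw [hall u, one_smul]
      rw [this, orderOf_one] at ht
      norm_num at ht
    have htu : (t : G) • (t : G) • u = u := by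
      rw [← mul_smul, ← sq, ← ht, pow_orderOf_eq_one, one_smul]
    have hta : (t : G) • a = a := t.2
    have hau : a ≠ u := fun e => hu (e ▸ hta)
    have hatu : a ≠ (t : G) • u := fun e => hau (smul_left_cancel (t : G) (hta.trans e))
    -- move the pair {u, t u} onto {y, z}, fixing `a`
    obtain ⟨g, hg⟩ := hE (pairOf u ((t : G) • u) hu.symm) (pairOf y z hyz)
    have ha1 : g • a ∉ ((pairOf y z hyz : Set.powersetCard Ω 2) : Finset Ω) := by
      rw [← hg, hmem]
      simp [pairOf, hau, hatu]
    have ha2 : a ∉ ((pairOf y z hyz : Set.powersetCard Ω 2) : Finset Ω) := by simp [pairOf, hay, haz]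
    obtain ⟨k, hk1, hk2⟩ := htr _ (g • a) a ha1 ha2
    set m := k * g
    have hma : m⁻¹ • a = a := by rw [inv_smul_eq_iff, mul_smul, hk1]
    have hm : m • pairOf u ((t : G) • u) hu.symm = pairOf y z hyz := by
      rw [mul_smul, hg, hk2]
    refine ⟨m * t * m⁻¹, by rw [mul_smul, mul_smul, hma, hta]; exact (inv_smul_eq_iff.1 hma).symm, ?_⟩
    rw [smul_pairOf] at hm
    have hs : ({m • u, m • (t : G) • u} : Finset Ω) = {y, z} := congrArg Subtype.val hm
    have hy : y = m • u ∨ y = m • (t : G) • u := by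
      have : y ∈ ({y, z} : Finset Ω) := Finset.mem_insert_self _ _
      rw [← hs] at this; simpa using this
    have hz : z = m • u ∨ z = m • (t : G) • u := by
      have : z ∈ ({y, z} : Finset Ω) := by simp
      rw [← hs] at this; simpa using this
    rcases hy with rfl | rfl <;> rcases hz with rfl | rfl
    · exact absurd rfl hyz
    · simp [mul_smul, htu]
    · simp [mul_smul, htu]
    · exact absurd rfl hyz
  refine ⟨fun X Y => ?_⟩
  have hX : ∀ {i j : Fin 3}, i ≠ j → X i ≠ X j := fun h e => h (X.injective e)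
  have hY : ∀ {i j : Fin 3}, i ≠ j → Y i ≠ Y j := fun h e => h (Y.injective e)
  obtain ⟨g, hg⟩ := hE (pairOf (X 1) (X 2) (hX (by decide))) (pairOf (Y 1) (Y 2) (hY (by decide)))
  have ha1 : g • X 0 ∉ ((pairOf (Y 1) (Y 2) (hY (by decide)) : Set.powersetCard Ω 2) : Finset Ω) := by
    rw [← hg, hmem]
    simp [pairOf, hX (show (0 : Fin 3) ≠ 1 by decide), hX (show (0 : Fin 3) ≠ 2 by decide)]
  obtain ⟨k, hk1, hk2⟩ := htr _ (g • X 0) (Y 0) ha1 (by
    simp [pairOf, hY (show (0 : Fin 3) ≠ 1 by decide), hY (show (0 : Fin 3) ≠ 2 by decide)])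
  set m := k * g
  have hm : m • pairOf (X 1) (X 2) (hX (by decide)) = pairOf (Y 1) (Y 2) (hY (by decide)) := by
    rw [mul_smul, hg, hk2]
  rw [smul_pairOf] at hm
  have hs : ({m • X 1, m • X 2} : Finset Ω) = {Y 1, Y 2} := congrArg Subtype.val hm
  have hm0 : m • X 0 = Y 0 := by rw [mul_smul, hk1]
  have h1 : m • X 1 = Y 1 ∨ m • X 1 = Y 2 := by
    have : m • X 1 ∈ ({m • X 1, m • X 2} : Finset Ω) := Finset.mem_insert_self _ _
    rw [hs] at this; simpa using this
  have h2 : m • X 2 = Y 1 ∨ m • X 2 = Y 2 := by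
    have : m • X 2 ∈ ({m • X 1, m • X 2} : Finset Ω) := by simp
    rw [hs] at this; simpa using this
  have hne : m • X 1 ≠ m • X 2 := fun e => hX (by decide : (1 : Fin 3) ≠ 2) (smul_left_cancel m e)
  rcases h1 with h1 | h1 <;> rcases h2 with h2 | h2
  · exact absurd (h1.trans h2.symm) hne
  · exact ⟨m, DFunLike.ext _ _ fun i => by fin_cases i <;> simp [hm0, h1, h2]⟩
  · obtain ⟨s, hs0, hs1, hs2⟩ := hswap (Y 0) (Y 1) (Y 2) (hY (by decide)) (hY (by decide)) (hY (by decide))
    exact ⟨s * m, DFunLike.ext _ _ fun i => by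
      fin_cases i <;> simp [mul_smul, hm0, h1, h2, hs0, hs1, hs2]⟩
  · exact absurd (h1.trans h2.symm) hne

end Cfsg.Agent.S0672
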