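import Cfsg.Statements.S0674
import Cfsg.Agent.PermGroups.Modules
import Cfsg.Agent.PermGroups.Translation
import Mathlib.FieldTheory.Finite.Basic
import Mathlib.GroupTheory.Perm.Cycle.Type

set_option autoImplicit false
open Cfsg

namespace Cfsg.Agent.S0674

open Polynomial Cfsg.Agent.PermGroups

/-- A permutation of `ZMod p` preserving a small polynomial space is affine. -/
lemma affine_of_preserve {p : ℕ} [Fact p.Prime] {K : Type*} [Field K] [CharP K p] {r : ℕ} (hr : 2 ≤ r) (hrp : 2 * r ≤ p + 1)
    (π : Equiv.Perm (ZMod p)) (h : ∀ f ∈ polySpace p K r, (fun j => f (π j)) ∈ polySpace p K r) :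
    ∀ x, π x = π 0 + (π 1 - π 0) * x := by
  have hp : p.Prime := Fact.out
  have hx : ∀ j, j < r → (fun x : ZMod p => (ZMod.cast (π x) : K) ^ j) ∈ polySpace p K r := fun j hj =>
    h (fun x => (ZMod.cast x : K) ^ j) (mem_polySpace.2 ⟨X ^ j, by rw [degree_X_pow]; exact_mod_cast hj, fun x => by simp⟩)
  obtain ⟨Q, hQd, hQ⟩ := mem_polySpace.1 (hx 1 (by omega))
  simp only [pow_one] at hQ
  set d := Q.natDegree with hd
  have hdr : d < r := by
    rcases eq_or_ne Q 0 with h0 | h0
    · rw [hd, h0, natDegree_zero]; omega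
    · exact_mod_cast (degree_eq_natDegree h0 ▸ hQd)
  have hd1 : d ≤ 1 := by
    by_contra hd2
    set j := (r + d - 1) / d with hj
    have h1 := Nat.div_add_mod (r + d - 1) d
    have h2 := Nat.mod_lt (r + d - 1) (show d > 0 by omega)
    rw [← hj] at h1
    have hjr : j < r := by
      rw [hj, Nat.div_lt_iff_lt_mul (by omega)]
      have := Nat.add_le_mul hr (show 2 ≤ d by omega)
      omega
    obtain ⟨R, hRd, hR⟩ := mem_polySpace.1 (hx j hjr)
    have hQ0 : Q ≠ 0 := fun e => by simp [hd, e] at hd2
    have hdeg : (Q ^ j).degree = ((d * j : ℕ) : WithBot ℕ) := by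
      rw [degree_pow, degree_eq_natDegree hQ0, nsmul_eq_mul, ← Nat.cast_mul, mul_comm]
    have heq : Q ^ j - R = 0 := by
      refine evalFun_eq_zero (p := p) ?_ (funext fun x => ?_)
      · refine lt_of_le_of_lt (degree_sub_le _ _) (max_lt ?_ (lt_of_lt_of_le hRd (by exact_mod_cast (by omega : r ≤ p))))
        rw [hdeg]; exact_mod_cast (by omega : d * j < p)
      · rw [evalFun_apply, eval_sub, eval_pow, ← hQ x, ← hR x, sub_self]; rfl
    rw [sub_eq_zero] at heq
    rw [← heq, hdeg] at hRd
    have : d * j < r := by exact_mod_cast hRd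
    omega
  intro x
  have hlin : ∀ t, Q.eval t = Q.coeff 0 + Q.coeff 1 * t := fun t => by
    conv_lhs => rw [eq_X_add_C_of_natDegree_le_one hd1]
    simp only [eval_add, eval_mul, eval_C, eval_X]
    ring
  apply cast_injective (p := p) (K := K)
  show (ZMod.castHom (dvd_refl p) K) (π x) = (ZMod.castHom (dvd_refl p) K) (π 0 + (π 1 - π 0) * x)
  rw [map_add, map_mul, map_sub]
  simp only [ZMod.castHom_apply, hQ, hlin]
  simp

/-- A group acting faithfully by affine maps of the prime field is solvable. -/
lemma solvable_of_affine {p : ℕ} [Fact p.Prime] {G : Type*} [Group G] (φ : G →* Equiv.Perm (ZMod p)) (hφ : Function.Injective φ)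
    (h : ∀ g x, φ g x = φ g 0 + (φ g 1 - φ g 0) * x) : Group.IsSolvable G := by
  let c : G →* ZMod p :=
    { toFun := fun g => φ g 1 - φ g 0
      map_one' := by simp
      map_mul' := fun g k => by
        simp only [map_mul, Equiv.Perm.mul_apply]
        rw [h g (φ k 1), h g (φ k 0)]
        ring }
  have hker : ∀ a b : c.ker, a * b = b * a := fun a b => Subtype.ext (hφ (Equiv.ext fun x => by
    have hs : ∀ t : c.ker, ∀ y, φ t y = φ t 0 + y := fun t y => by
      have : φ t 1 - φ t 0 = 1 := t.2
      rw [h t y, this, one_mul]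
    simp only [Subgroup.coe_mul, map_mul, Equiv.Perm.mul_apply]
    rw [hs a (φ b x), hs b x, hs b (φ a x), hs a x]
    ring))
  have : Group.IsSolvable c.ker := Group.isSolvable_of_comm hker
  exact Group.isSolvable_of_ker_le_range c.ker.subtype c.toHomUnits (fun g hg => by
    rw [Subgroup.range_subtype]
    exact congrArg Units.val (MonoidHom.mem_ker.1 hg))

/-- Let `G` be a non-solvable transitive permutation group of prime degree `p` and `K` a field of characteristic `p`. Then the heart of the permutation module is irreducible: an invariant subspace containing the constants and contained in the sum-zero functions is one or the other. -/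
theorem result {α : Type*} [Fintype α] [DecidableEq α] {p : ℕ} [Fact p.Prime] (hα : Fintype.card α = p) (G : Subgroup (Equiv.Perm α)) [MulAction.IsPretransitive G α] (hG : ¬ Group.IsSolvable G) {K : Type*} [Field K] [CharP K p] (W : Subrepresentation (Cfsg.permRep K G α)) (h₁ : (Cfsg.permConstants K G α).toSubmodule ≤ W.toSubmodule) (h₂ : W.toSubmodule ≤ (Cfsg.permSumZero K G α).toSubmodule) : W = Cfsg.permConstants K G α ∨ W = Cfsg.permSumZero K G α := by
  classical
  have hp : p.Prime := Fact.out
  have hne : Nonempty α := Fintype.card_pos_iff.1 (hα ▸ hp.pos)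
  obtain ⟨a⟩ := hne
  have hpG : p ∣ Nat.card G := by
    rw [← hα, ← Nat.card_eq_fintype_card, ← MulAction.index_stabilizer_of_transitive G a]
    exact Subgroup.index_dvd_card _
  obtain ⟨σ, hσ⟩ := exists_prime_orderOf_dvd_card' p hpG
  have hmov : ∀ x : α, σ • x ≠ x := by
    have hσ' : orderOf (σ : Equiv.Perm α) = p := (Subgroup.orderOf_coe σ).trans hσ
    have hsc := Equiv.Perm.isCycle_of_prime_order' (by rw [hσ']; exact hp) (by rw [hσ', hα]; have := hp.two_le; omega)
    have hsupp : (σ : Equiv.Perm α).support = Finset.univ := by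
      apply Finset.eq_univ_of_card
      rw [← hsc.orderOf, hσ', hα]
    intro x hx
    exact Equiv.Perm.mem_support.1 (hsupp ▸ Finset.mem_univ x) hx
  let e0 : ZMod p → α := fun j => (σ ^ j.val) • a
  have he0 : ∀ n : ℕ, e0 (n : ZMod p) = (σ ^ n) • a := fun n => by
    show (σ ^ (n : ZMod p).val) • a = _
    rw [ZMod.val_natCast, ← hσ, pow_mod_orderOf]
  have hbij : Function.Bijective e0 := by
    rw [Fintype.bijective_iff_injective_and_card, ZMod.card, hα]
    refine ⟨?_, rfl⟩
    intro i j hij
    by_contra hne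
    wlog hlt : i.val < j.val generalizing i j with H
    · exact H hij.symm (Ne.symm hne) (lt_of_le_of_ne (not_lt.1 hlt) fun e => hne (ZMod.val_injective p e).symm)
    have hm : σ ^ (j.val - i.val) ∈ MulAction.stabilizer G a := by
      rw [MulAction.mem_stabilizer_iff]
      apply smul_left_cancel (σ ^ i.val)
      rw [← mul_smul, ← pow_add, Nat.add_sub_cancel' hlt.le]
      exact hij.symm
    have hlt2 : j.val - i.val < p := by have := j.val_lt; omega
    have hcop : Nat.Coprime (j.val - i.val) (orderOf σ) := by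
      rw [hσ, Nat.coprime_comm, hp.coprime_iff_not_dvd]
      exact fun hd => by have := Nat.le_of_dvd (by omega) hd; omega
    obtain ⟨m, hm'⟩ := exists_pow_eq_self_of_coprime hcop
    have : σ ∈ MulAction.stabilizer G a := hm' ▸ pow_mem hm m
    exact hmov a this
  let e : ZMod p ≃ α := Equiv.ofBijective e0 hbij
  have hesucc : ∀ j : ZMod p, σ⁻¹ • e j = e (j - 1) := fun j => by
    rw [inv_smul_eq_iff]
    show e0 j = σ • e0 (j - 1)
    have : j = (((j - 1).val + 1 : ℕ) : ZMod p) := by push_cast [ZMod.natCast_zmod_val]; ring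
    conv_lhs => rw [this, he0, pow_succ', mul_smul]
  let T : (α → K) ≃ₗ[K] (ZMod p → K) := LinearEquiv.funCongrLeft K K e
  have hT : ∀ f j, T f j = f (e j) := fun f j => rfl
  have trans_inv : ∀ U : Subrepresentation (Cfsg.permRep K G α),
      ∀ f ∈ U.toSubmodule.map (T : (α → K) →ₗ[K] (ZMod p → K)),
        (fun j => f (j - 1)) ∈ U.toSubmodule.map (T : (α → K) →ₗ[K] (ZMod p → K)) := by
    rintro U _ ⟨f, hf, rfl⟩
    refine ⟨_, U.apply_mem_toSubmodule σ hf, funext fun j => ?_⟩
    show f (σ⁻¹ • e j) = f (e (j - 1))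
    rw [hesucc]
  have hsum : ∀ f : α → K, ∑ x, f x = ∑ j, T f j := fun f => (Fintype.sum_equiv e _ _ fun j => rfl).symm
  have key : ∀ (r : ℕ) (U : Subrepresentation (Cfsg.permRep K G α)), 2 ≤ r → 2 * r ≤ p + 1 →
      U.toSubmodule.map (T : (α → K) →ₗ[K] (ZMod p → K)) = polySpace p K r → False := by
    intro r U hr hrp hU
    apply hG
    let φ : G →* Equiv.Perm (ZMod p) := e.symm.permCongrHom.toMonoidHom.comp G.subtype
    have hφ : ∀ g x, φ g x = e.symm (g • e x) := fun g x => rfl
    refine solvable_of_affine φ (e.symm.permCongrHom.injective.comp Subtype.val_injective) fun g => ?_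
    refine affine_of_preserve (K := K) hr hrp (φ g) fun f hf => ?_
    rw [← hU] at hf ⊢
    obtain ⟨u, hu, rfl⟩ := hf
    refine ⟨_, U.apply_mem_toSubmodule g⁻¹ hu, funext fun j => ?_⟩
    show u (g⁻¹⁻¹ • e j) = u (e (φ g j))
    rw [inv_inv, hφ, Equiv.apply_symm_apply]
  obtain ⟨hrle, hW⟩ := eq_polySpace _ (trans_inv W)
  set r := Module.finrank K (W.toSubmodule.map (T : (α → K) →ₗ[K] (ZMod p → K))) with hr
  have hrW : r = Module.finrank K W.toSubmodule := LinearEquiv.finrank_map_eq T _
  have hconst : ∀ c : K, (fun _ : α => c) ∈ W.toSubmodule := fun c => h₁ (Cfsg.Agent.PermGroups.mem_permConstants.2 ⟨c, fun _ => rfl⟩)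
  have hr1 : 1 ≤ r := by
    by_contra h0
    have : (1 : K) = 0 := by
      have hm : T (fun _ => 1) ∈ polySpace p K r := hW ▸ Submodule.mem_map_of_mem (hconst 1)
      obtain ⟨P, hP, hPe⟩ := mem_polySpace.1 hm
      have hr0 : r = 0 := by omega
      have hP0 : P = 0 := degree_eq_bot.1 (by
        rw [hr0] at hP
        exact Nat.WithBot.lt_zero_iff.1 (by exact_mod_cast hP))
      simpa [hP0, hT] using hPe 0
    exact one_ne_zero this
  have hxsum : ∀ i : ℕ, i < p - 1 → ∑ j : ZMod p, (ZMod.cast j : K) ^ i = 0 := fun i hi => by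
    have := congrArg (ZMod.castHom (dvd_refl p) K) (FiniteField.sum_pow_lt_card_sub_one (K := ZMod p) i (by rwa [ZMod.card]))
    simpa using this
  have hrp : r ≤ p - 1 := by
    by_contra hh
    have hm : T (Pi.single a 1) ∈ polySpace p K r := by
      have : r = p := by omega
      rw [this, polySpace_top]; trivial
    rw [← hW] at hm
    obtain ⟨u, hu, hue⟩ := hm
    have hs := h₂ hu
    rw [T.injective hue, Cfsg.Agent.PermGroups.mem_permSumZero] at hs
    simp at hs
  have to_eq : ∀ (U : Subrepresentation (Cfsg.permRep K G α)), U.toSubmodule.map (T : (α → K) →ₗ[K] (ZMod p → K)) =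
      W.toSubmodule.map (T : (α → K) →ₗ[K] (ZMod p → K)) → W = U := fun U h =>
    Subrepresentation.toSubmodule_injective (Submodule.map_injective_of_injective T.injective h.symm)
  rcases Nat.lt_or_ge r 2 with hsmall | hr2
  · left
    refine to_eq _ ?_
    rw [hW]
    apply Submodule.eq_of_le_of_finrank_le
    · rw [← hW]; exact Submodule.map_mono h₁
    · rw [finrank_polySpace hrle, LinearEquiv.finrank_map_eq T]
      show r ≤ Module.finrank K (Submodule.span K {(fun _ => 1 : α → K)})
      rw [finrank_span_singleton (fun h => one_ne_zero (congrFun h a))]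
      omega
  rcases Nat.lt_or_ge (2 * r) (p + 2) with hhalf | hhalf
  · exact (key r W hr2 (by omega) hW).elim
  rcases Nat.lt_or_ge r (p - 1) with hlt | hge
  · exfalso
    set U := Cfsg.Agent.PermGroups.orth W
    obtain ⟨hsle, hU⟩ := eq_polySpace _ (trans_inv U)
    set s := Module.finrank K (U.toSubmodule.map (T : (α → K) →ₗ[K] (ZMod p → K)))
    have hpair : ∀ P Q : K[X], P.degree < r → (∀ u ∈ U.toSubmodule, T u = evalFun Q →
        ∑ j : ZMod p, P.eval (ZMod.cast j : K) * Q.eval (ZMod.cast j : K) = 0) := by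
      intro P Q hP u hu huQ
      obtain ⟨w, hw, hwP⟩ : evalFun P ∈ W.toSubmodule.map (T : (α → K) →ₗ[K] (ZMod p → K)) :=
        hW ▸ mem_polySpace.2 ⟨P, hP, fun _ => rfl⟩
      have := hu w hw
      rw [hsum] at this
      rw [← this]
      refine Finset.sum_congr rfl fun j _ => ?_
      rw [← evalFun_apply, ← evalFun_apply, ← huQ, ← hwP]
      rfl
    have hlow : polySpace p K (p - r) ≤ polySpace p K s := by
      rw [← hU]
      intro f hf
      refine ⟨T.symm f, ?_, T.apply_symm_apply f⟩
      intro w hw
      obtain ⟨Q, hQ, hQe⟩ := mem_polySpace.1 hf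
      obtain ⟨P, hP, hPe⟩ := mem_polySpace.1 (hW ▸ Submodule.mem_map_of_mem hw : T w ∈ polySpace p K r)
      rw [hsum]
      have hterm : ∀ j, T (fun x => w x * T.symm f x) j = (P * Q).eval (ZMod.cast j : K) := fun j => by
        rw [eval_mul, ← hPe, ← hQe, hT]
        congr 1
        exact congrFun (T.apply_symm_apply f) j
      simp only [hterm]
      rcases eq_or_ne (P * Q) 0 with h0 | h0
      · simp [h0]
      have hdeg : (P * Q).natDegree < p - 1 := by
        have hP0 : P ≠ 0 := left_ne_zero_of_mul h0
        have hQ0 : Q ≠ 0 := right_ne_zero_of_mul h0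
        rw [natDegree_mul hP0 hQ0]
        have h1 := (natDegree_lt_iff_degree_lt hP0).2 hP
        have h2 := (natDegree_lt_iff_degree_lt hQ0).2 hQ
        omega
      simp only [eval_eq_sum_range]
      rw [Finset.sum_comm]
      refine Finset.sum_eq_zero fun i hi => ?_
      rw [← Finset.mul_sum, hxsum i (by have := Finset.mem_range.1 hi; omega), mul_zero]
    have hs2 : p - r ≤ s := by
      have := Submodule.finrank_mono hlow
      rwa [finrank_polySpace (by omega), finrank_polySpace hsle] at this
    have hsu : s ≤ p - r := by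
      by_contra hh
      obtain ⟨u, hu, hue⟩ : evalFun (X ^ (p - r)) ∈ U.toSubmodule.map (T : (α → K) →ₗ[K] (ZMod p → K)) :=
        hU ▸ mem_polySpace.2 ⟨_, by rw [degree_X_pow]; exact_mod_cast (by omega : p - r < s), fun _ => rfl⟩
      have h0 := hpair (X ^ (r - 1)) _ (by rw [degree_X_pow]; exact_mod_cast (by omega : r - 1 < r)) u hu hue
      simp only [eval_pow, eval_X, ← pow_add, show r - 1 + (p - r) = p - 1 by omega] at h0
      have hsum' : ∑ j : ZMod p, j ^ (p - 1) = -1 := by
        rw [← Finset.sum_erase_add _ _ (Finset.mem_univ 0), zero_pow (by have := hp.two_le; omega), add_zero,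
          Finset.sum_congr rfl (fun j hj => ZMod.pow_card_sub_one_eq_one (Finset.ne_of_mem_erase hj)),
          Finset.sum_const, Finset.card_erase_of_mem (Finset.mem_univ _), Finset.card_univ, ZMod.card,
          nsmul_eq_mul, mul_one, Nat.cast_sub hp.one_le, ZMod.natCast_self, Nat.cast_one, zero_sub]
      have := congrArg (ZMod.castHom (dvd_refl p) K) hsum'
      simp only [map_sum, map_pow, map_neg, map_one, ZMod.castHom_apply] at this
      rw [h0] at this
      simp at this
    exact key (p - r) U (by omega) (by omega) (by rw [hU]; congr 1; omega)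
  · right
    refine to_eq _ ?_
    symm
    apply Submodule.eq_of_le_of_finrank_le (Submodule.map_mono h₂)
    rw [LinearEquiv.finrank_map_eq T, ← hr]
    have hlt : Module.finrank K (Cfsg.permSumZero K G α).toSubmodule < p := by
      rw [← hα, ← Module.finrank_fintype_fun_eq_card K]
      refine Submodule.finrank_lt ?_
      intro htop
      have : (Pi.single a 1 : α → K) ∈ (Cfsg.permSumZero K G α).toSubmodule := htop ▸ Submodule.mem_top
      rw [Cfsg.Agent.PermGroups.mem_permSumZero] at this
      simp at this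
    omega

end Cfsg.Agent.S0674
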