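import Cfsg.Statements.S0671
import Cfsg.Agent.PermGroups.Modules

set_option autoImplicit false
open Cfsg

namespace Cfsg.Agent.S0671

/-- If the heart of the permutation module in characteristic `p` of a transitive action of degree `p ^ f` has no trivial composition factor, the action is doubly transitive. The hypothesis is phrased without composition series: no invariant subspaces `W < W'` between the constants and the sum-zero functions with trivial action on the quotient. -/
theorem result {G : Type*} [Group G] [Finite G] {K : Type*} [Field K] {p f : ℕ} [Fact p.Prime] [CharP K p] {Ω : Type*} [Fintype Ω] [MulAction G Ω] [MulAction.IsPretransitive G Ω] (hf : 1 ≤ f) (hcard : Fintype.card Ω = p ^ f) (h : ∀ W W' : Subrepresentation (Cfsg.permRep K G Ω), (Cfsg.permConstants K G Ω).toSubmodule ≤ W.toSubmodule → W.toSubmodule < W'.toSubmodule → W'.toSubmodule ≤ (Cfsg.permSumZero K G Ω).toSubmodule → ∃ g : G, ∃ v ∈ W'.toSubmodule, Cfsg.permRep K G Ω g v - v ∉ W.toSubmodule) : MulAction.IsMultiplyPretransitive G Ω 2 := by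
  classical
  rw [MulAction.is_two_pretransitive_iff]
  intro a b c d hab hcd
  by_contra hno
  push Not at hno
  obtain ⟨k, hk⟩ := MulAction.exists_smul_eq G c a
  set d' := k • d with hd'
  have hda : d' ≠ a := fun e => hcd (smul_left_cancel k (hk.trans e.symm))
  let O : Ω → Ω → Prop := fun y x => ∃ g : G, g • a = y ∧ g • b = x
  have hO : ∀ (g : G) y x, O y x → O (g • y) (g • x) := fun g y x ⟨h, h1, h2⟩ =>
    ⟨g * h, by rw [mul_smul, h1], by rw [mul_smul, h2]⟩
  have hO' : ∀ (g : G) y x, O (g • y) (g • x) ↔ O y x := fun g y x =>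
    ⟨fun hh => by simpa using hO g⁻¹ _ _ hh, hO g y x⟩
  have hd'O : ¬ O a d' := by
    rintro ⟨g, h1, h2⟩
    exact hno (k⁻¹ * g) (by rw [mul_smul, h1, ← hk, inv_smul_smul]) (by rw [mul_smul, h2, hd', inv_smul_smul])
  let row : Ω → ℕ := fun y => (Finset.univ.filter fun x => O y x).card
  let col : Ω → ℕ := fun x => (Finset.univ.filter fun y => O y x).card
  have hrow : ∀ y, row y = row a := fun y => by
    obtain ⟨g, rfl⟩ := MulAction.exists_smul_eq G a y
    refine Finset.card_equiv (MulAction.toPerm g⁻¹) fun x => ?_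
    simp only [Finset.mem_filter, Finset.mem_univ, true_and, MulAction.toPerm_apply]
    rw [← hO' g⁻¹, inv_smul_smul]
  have hcol : ∀ x, col x = col a := fun x => by
    obtain ⟨g, rfl⟩ := MulAction.exists_smul_eq G a x
    refine Finset.card_equiv (MulAction.toPerm g⁻¹) fun y => ?_
    simp only [Finset.mem_filter, Finset.mem_univ, true_and, MulAction.toPerm_apply]
    rw [← hO' g⁻¹, inv_smul_smul]
  have hrc : row a = col a := by
    have h1 : ∑ y, row y = ∑ x, col x := by
      simp only [row, col, Finset.card_filter]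
      exact Finset.sum_comm
    simp only [hrow, hcol, Finset.sum_const, Finset.card_univ, smul_eq_mul] at h1
    have hp : 0 < Fintype.card Ω := Fintype.card_pos_iff.2 ⟨a⟩
    exact Nat.eq_of_mul_eq_mul_left hp h1
  let B : (Ω → K) →ₗ[K] (Ω → K) :=
    { toFun := fun v y => (∑ x, if O y x then v x else 0) - (row a : K) * v y
      map_add' := fun v w => by
        funext y
        simp only [Pi.add_apply]
        rw [show (∑ x, if O y x then v x + w x else 0) = (∑ x, if O y x then v x else 0) + ∑ x, if O y x then w x else 0 by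
          rw [← Finset.sum_add_distrib]; exact Finset.sum_congr rfl fun x _ => by split <;> simp]
        ring
      map_smul' := fun e v => by
        funext y
        simp only [Pi.smul_apply, smul_eq_mul, RingHom.id_apply, mul_sub, Finset.mul_sum, mul_ite, mul_zero, mul_left_comm] }
  have hBρ : ∀ (g : G) v, B (Cfsg.permRep K G Ω g v) = Cfsg.permRep K G Ω g (B v) := fun g v => funext fun y => by
    show (∑ x, if O y x then v (g⁻¹ • x) else 0) - (row a : K) * v (g⁻¹ • y) =
      (∑ x, if O (g⁻¹ • y) x then v x else 0) - (row a : K) * v (g⁻¹ • y)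
    congr 1
    refine Fintype.sum_equiv (MulAction.toPerm g⁻¹) _ _ fun x => ?_
    simp only [MulAction.toPerm_apply, hO']
  have hBsum : ∀ v, ∑ y, B v y = 0 := fun v => by
    show ∑ y, ((∑ x, if O y x then v x else 0) - (row a : K) * v y) = 0
    rw [Finset.sum_sub_distrib, Finset.sum_comm]
    have : ∀ x, (∑ y, if O y x then v x else 0) = (row a : K) * v x := fun x => by
      rw [← Finset.sum_filter, Finset.sum_const, nsmul_eq_mul]
      congr 2
      exact (hcol x).trans hrc.symm
    simp only [this]
    exact sub_self _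
  have hBb : ∀ y, y ≠ b → B (Pi.single b 1) y = if O y b then 1 else 0 := fun y hy => by
    show (∑ x, if O y x then (Pi.single b 1 : Ω → K) x else 0) - (row a : K) * (Pi.single b 1 : Ω → K) y = _
    rw [Pi.single_eq_of_ne hy, mul_zero, sub_zero, Finset.sum_eq_single b (fun x _ hx => by simp [hx]) (by simp),
      Pi.single_eq_same]
  obtain ⟨y0, hy0b, hy0O⟩ : ∃ y, y ≠ b ∧ ¬ O y b := by
    obtain ⟨g, hg⟩ := MulAction.exists_smul_eq G d' b
    refine ⟨g • a, fun e => hda (smul_left_cancel g (hg.trans e.symm)), fun hh => hd'O ?_⟩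
    rw [← hO' g, hg]; exact hh
  have hBa : B (Pi.single b 1) a = 1 := by
    rw [hBb a hab, if_pos ⟨1, one_smul _ _, one_smul _ _⟩]
  have hB0 : B (Pi.single b 1) y0 = 0 := by rw [hBb y0 hy0b, if_neg hy0O]
  let W' : Subrepresentation (Cfsg.permRep K G Ω) :=
    { toSubmodule := LinearMap.range B
      apply_mem_toSubmodule := fun g v hv => by
        obtain ⟨u, rfl⟩ := hv; exact ⟨_, hBρ g u⟩ }
  let W : Subrepresentation (Cfsg.permRep K G Ω) :=
    { toSubmodule := (Cfsg.permSumZero K G Ω).toSubmodule.map B
      apply_mem_toSubmodule := fun g v hv => by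
        obtain ⟨u, hu, rfl⟩ := hv
        exact ⟨_, (Cfsg.permSumZero K G Ω).apply_mem_toSubmodule g hu, hBρ g u⟩ }
  let U : Subrepresentation (Cfsg.permRep K G Ω) :=
    { toSubmodule := LinearMap.ker B
      apply_mem_toSubmodule := fun g v hv => by
        rw [LinearMap.mem_ker] at hv ⊢
        rw [hBρ, hv, map_zero] }
  have hU : U.toSubmodule ≠ ⊤ := fun e => by
    have hm : (Pi.single b 1 : Ω → K) ∈ U.toSubmodule := e ▸ Submodule.mem_top
    have := congrFun (LinearMap.mem_ker.1 hm) a
    rw [hBa] at this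
    exact one_ne_zero this
  have hUle := Cfsg.Agent.PermGroups.le_sumZero hcard U hU
  have hWne : W.toSubmodule ≠ ⊥ := by
    intro e
    have hz : ∀ x, B (Pi.single x 1) = B (Pi.single b 1) := fun x => by
      have hm : B (Pi.single x 1 - Pi.single b 1) ∈ W.toSubmodule :=
        Submodule.mem_map_of_mem (by show ∑ y, (Pi.single x (1 : K) - Pi.single b 1 : Ω → K) y = 0; simp)
      rw [e, Submodule.mem_bot, map_sub, sub_eq_zero] at hm
      exact hm
    obtain ⟨g, hg⟩ := MulAction.exists_smul_eq G a y0
    have h1 := hBρ g (Pi.single b 1)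
    rw [Cfsg.Agent.PermGroups.permRep_single, hz (g • b)] at h1
    have h2 := congrFun h1 (g • a)
    rw [Cfsg.Agent.PermGroups.permRep_apply, inv_smul_smul, hg, hBa, hB0] at h2
    exact zero_ne_one h2
  have hlt : W.toSubmodule < W'.toSubmodule := by
    refine lt_of_le_of_ne (LinearMap.map_le_range) fun e => ?_
    have hm : B (Pi.single b 1) ∈ W.toSubmodule := e ▸ LinearMap.mem_range_self B _
    obtain ⟨s, hs, hsB⟩ := hm
    have hk : (Pi.single b 1 - s) ∈ U.toSubmodule := by
      show _ ∈ LinearMap.ker B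
      rw [LinearMap.mem_ker, map_sub, hsB, sub_self]
    have := hUle hk
    rw [Cfsg.Agent.PermGroups.mem_permSumZero] at this
    have hs0 : ∑ y, s y = 0 := hs
    simp [Finset.sum_sub_distrib, hs0] at this
  obtain ⟨g, v, ⟨u, rfl⟩, hgv⟩ := h W W' (Cfsg.Agent.PermGroups.constants_le hcard W hWne) hlt (by
    rintro _ ⟨u, rfl⟩; exact hBsum u)
  refine hgv ⟨Cfsg.permRep K G Ω g u - u, ?_, by rw [map_sub, hBρ]⟩
  show ∑ y, (Cfsg.permRep K G Ω g u - u) y = 0
  simp [Finset.sum_sub_distrib, Cfsg.Agent.PermGroups.sum_permRep]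

end Cfsg.Agent.S0671
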