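import Cfsg.Statements.S0675
import Cfsg.Agent.S0671
import Cfsg.Agent.S0674
import Cfsg.Agent.Char.Integral
import Mathlib.GroupTheory.Solvable

set_option autoImplicit false
open Cfsg

namespace Cfsg.Agent.S0675

/-- Burnside's Theorem on permutation groups of prime degree: a transitive permutation group of prime degree that is not solvable is doubly transitive. -/
theorem result {α : Type*} [Fintype α] [DecidableEq α] (hα : (Fintype.card α).Prime) (G : Subgroup (Equiv.Perm α)) [MulAction.IsPretransitive G α] : Group.IsSolvable G ∨ MulAction.IsMultiplyPretransitive G α 2 := by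
  classical
  set p := Fintype.card α with hp
  have : Fact p.Prime := ⟨hα⟩
  by_cases hsol : Group.IsSolvable G
  · exact Or.inl hsol
  right
  rcases Nat.lt_or_ge p 5 with h5 | h5
  · exfalso
    apply hsol
    have hd : Nat.card G ∣ 6 := by
      refine dvd_trans (Subgroup.card_subgroup_dvd_card G) ?_
      rw [Nat.card_perm, Nat.card_eq_fintype_card, ← hp]
      have := hα.two_le
      interval_cases p <;> first | decide | exact absurd hα (by decide)
    refine Cfsg.Agent.Char.isSolvable_of_card_eq 2 3 Nat.prime_two Nat.prime_three _ G rfl ?_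
    have hle := Nat.le_of_dvd (by norm_num) hd
    have hpos := Nat.card_pos (α := G)
    generalize Nat.card G = m at hd hle hpos ⊢
    interval_cases m <;> first | exact ⟨0, 0, rfl⟩ | exact ⟨1, 0, rfl⟩ | exact ⟨0, 1, rfl⟩ | exact ⟨1, 1, rfl⟩ | omega
  refine Cfsg.Agent.S0671.result (K := ZMod p) (p := p) (f := 1) le_rfl (by rw [pow_one]) fun W W' h1 hlt h2 => ?_
  have hW : W = Cfsg.permConstants (ZMod p) G α := by
    rcases Cfsg.Agent.S0674.result (p := p) hp.symm G hsol W h1 (hlt.le.trans h2) with h | h
    · exact h
    · exact absurd hlt (by rw [h]; exact not_lt_of_ge h2)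
  have hW' : W' = Cfsg.permSumZero (ZMod p) G α := by
    rcases Cfsg.Agent.S0674.result (p := p) hp.symm G hsol W' (h1.trans hlt.le) h2 with h | h
    · rw [h, hW] at hlt; exact absurd hlt (lt_irrefl _)
    · exact h
  subst hW hW'
  by_contra hno
  push Not at hno
  apply hsol
  have h20 : (2 : ZMod p) ≠ 0 := by
    intro h
    rw [show (2 : ZMod p) = ((2 : ℕ) : ZMod p) by simp, ZMod.natCast_eq_zero_iff] at h
    have := Nat.le_of_dvd (by norm_num) h
    omega
  have htriv : ∀ g : G, g = 1 := by
    intro g
    refine Subtype.ext (Equiv.ext fun x => ?_)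
    by_contra hx
    have hx' : g • x ≠ x := hx
    obtain ⟨y, -, hy⟩ := Finset.exists_mem_notMem_of_card_lt_card (s := ({x, g • x, g⁻¹ • x} : Finset α))
      (t := Finset.univ) (by
        have h3 : ({x, g • x, g⁻¹ • x} : Finset α).card ≤ 3 := Finset.card_le_three
        rw [Finset.card_univ, ← hp]; omega)
    simp only [Finset.mem_insert, Finset.mem_singleton, not_or] at hy
    set v : α → ZMod p := Pi.single x 1 - Pi.single y 1 with hv
    have hm := hno g v (by
      rw [Cfsg.Agent.PermGroups.mem_permSumZero, hv]
      simp [Finset.sum_sub_distrib])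
    obtain ⟨c, hc⟩ := Cfsg.Agent.PermGroups.mem_permConstants.1 hm
    rw [hv, map_sub, Cfsg.Agent.PermGroups.permRep_single, Cfsg.Agent.PermGroups.permRep_single] at hc
    have hgy : g • y ≠ x := fun e => hy.2.2 (by rw [← e, inv_smul_smul])
    -- evaluate at `g • x`, and at a point outside the four
    obtain ⟨z, -, hz⟩ := Finset.exists_mem_notMem_of_card_lt_card (s := ({x, y, g • x, g • y} : Finset α))
      (t := Finset.univ) (by
        have h4 : ({x, y, g • x, g • y} : Finset α).card ≤ 4 := Finset.card_le_four
        rw [Finset.card_univ, ← hp]; omega)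
    simp only [Finset.mem_insert, Finset.mem_singleton, not_or] at hz
    have hcz := hc z
    simp [hz.1, hz.2.1, hz.2.2.1, hz.2.2.2] at hcz
    have hcx := hc x
    rw [← hcz] at hcx
    simp [Pi.single_eq_of_ne (Ne.symm hx'), Pi.single_eq_of_ne hgy.symm, Pi.single_eq_of_ne (Ne.symm hy.1)] at hcx
  exact Group.isSolvable_of_comm fun a b => by rw [htriv a, htriv b]

end Cfsg.Agent.S0675
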