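import Cfsg.Statements.S0676
import Mathlib
import Cfsg.Agent.Char.Integral
import Cfsg.Agent.PrimeDegree.Inverting
import Cfsg.Agent.S0672
import Cfsg.Agent.S0674
import Cfsg.Agent.S0675

set_option autoImplicit false
open Cfsg

namespace Cfsg.Agent.S0676

open scoped Pointwise in

/-- A non-solvable transitive permutation group of prime degree `p` whose Sylow `p`-normaliser has even order is triply transitive. -/
theorem result {α : Type*} [Fintype α] [DecidableEq α] {p : ℕ} [Fact p.Prime] (hα : Fintype.card α = p) (G : Subgroup (Equiv.Perm α)) [MulAction.IsPretransitive G α] (hG : ¬ Group.IsSolvable G) (P : Sylow p G) (heven : Even (Nat.card (Subgroup.normalizer ((P : Subgroup G) : Set G)))) : MulAction.IsMultiplyPretransitive G α 3 := by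
  classical
  have hp : p.Prime := Fact.out
  have hns : ∀ (a : ℕ), a ≤ 3 → Fintype.card α = a → Group.IsSolvable G := by
    intro a ha hcard
    have hd : Nat.card G ∣ 6 := by
      refine dvd_trans (Subgroup.card_subgroup_dvd_card G) ?_
      rw [Nat.card_perm, Nat.card_eq_fintype_card, hcard]
      interval_cases a <;> decide
    refine Cfsg.Agent.Char.isSolvable_of_card_eq 2 3 Nat.prime_two Nat.prime_three _ G rfl ?_
    have hle := Nat.le_of_dvd (by norm_num) hd
    have hpos := Nat.card_pos (α := G)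
    generalize Nat.card G = m at hd hle hpos ⊢
    interval_cases m <;> first | exact ⟨0, 0, rfl⟩ | exact ⟨1, 0, rfl⟩ | exact ⟨0, 1, rfl⟩ | exact ⟨1, 1, rfl⟩ | omega
  have hp3 : 3 < p := by
    by_contra hle
    exact hG (hns p (by omega) hα)
  obtain ⟨σ, τ, hσ, hτ, hinv, hmov⟩ :=
    Cfsg.Agent.PrimeDegree.exists_inverting (by omega) hα G P heven
  obtain ⟨e, he1, he2⟩ :=
    Cfsg.Agent.PrimeDegree.exists_inverted_labelling (by omega) hα hσ hτ hinv hmov
  have h2t : MulAction.IsMultiplyPretransitive G α 2 :=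
    (Cfsg.Agent.S0675.result (hα.symm ▸ hp) G).resolve_left hG
  have hstab : ∀ a : α, Even (Nat.card (MulAction.stabilizer G a)) := by
    intro a
    have hτa : τ • e 0 = e 0 := by rw [he2, neg_zero]
    have h1 : 2 ∣ Nat.card (MulAction.stabilizer G (e 0)) := by
      have hdvd := _root_.orderOf_dvd_natCard (⟨τ, hτa⟩ : MulAction.stabilizer G (e 0))
      have hto : orderOf (⟨τ, hτa⟩ : MulAction.stabilizer G (e 0)) = 2 :=
        (Subgroup.orderOf_coe _).symm.trans hτ
      rwa [hto] at hdvd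
    obtain ⟨g, hg⟩ := MulAction.exists_smul_eq G (e 0) a
    rw [← Nat.card_congr (MulAction.stabilizerEquivStabilizer hg.symm).toEquiv]
    exact (even_iff_two_dvd).2 h1
  refine Cfsg.Agent.S0672.result (K := ZMod p) (p := p) h2t (by rw [hα]) hstab fun f hf => ?_
  let W : Subrepresentation (Cfsg.permRep (ZMod p) G α) :=
    { toSubmodule := (LinearMap.ker f.toLinearMap).map (Cfsg.permSumZero (ZMod p) G α).toSubmodule.subtype
      apply_mem_toSubmodule := fun g v hv => by
        obtain ⟨w, hw, rfl⟩ := Submodule.mem_map.1 hv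
        refine Submodule.mem_map.2 ⟨(Cfsg.permSumZero (ZMod p) G α).toRepresentation g w, ?_, rfl⟩
        rw [LinearMap.mem_ker] at hw ⊢
        exact (LinearMap.congr_fun (f.isIntertwining' g) w).trans (by
          rw [LinearMap.comp_apply, hw, map_zero]) }
  have hconst : ∀ v, v ∈ (Cfsg.permConstants (ZMod p) G α).toSubmodule →
      v ∈ (Cfsg.permSumZero (ZMod p) G α).toSubmodule := fun v hv => by
    obtain ⟨a, rfl⟩ := Submodule.mem_span_singleton.1 hv
    show ∑ x, (a • fun _ : α => (1 : ZMod p)) x = 0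
    simp [hα]
  let v0 : α → ZMod p := fun x => e.symm x
  have hv0 : v0 ∈ (Cfsg.permSumZero (ZMod p) G α).toSubmodule := by
    show ∑ x, e.symm x = 0
    rw [Equiv.sum_comp e.symm (fun i : ZMod p => i)]
    have h1 : ∑ i : ZMod p, i = ∑ i : ZMod p, -i := (Equiv.sum_comp (Equiv.neg _) (fun i => i)).symm
    rw [Finset.sum_neg_distrib] at h1
    have h2 : (2 : ZMod p) * ∑ i : ZMod p, i = 0 := by linear_combination h1
    refine (mul_eq_zero.1 h2).resolve_left fun h => ?_
    have : p ∣ 2 := (ZMod.natCast_eq_zero_iff 2 p).1 h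
    have := Nat.le_of_dvd two_pos this
    omega
  set u := f ⟨v0, hv0⟩ with hu
  have hsσ : ∀ i, σ⁻¹ • e i = e (i - 1) := fun i => by rw [inv_smul_eq_iff, he1, sub_add_cancel]
  have hsτ : ∀ i, τ⁻¹ • e i = e (-i) := fun i => by rw [inv_smul_eq_iff, he2, neg_neg]
  have hone : (fun _ : α => (1 : ZMod p)) ∈ (Cfsg.permConstants (ZMod p) G α).toSubmodule :=
    Submodule.mem_span_singleton_self _
  have hσu : ∀ E, u (σ⁻¹ • E) = u E := by
    intro E
    have h1 := congrFun (LinearMap.congr_fun (f.isIntertwining' σ) ⟨v0, hv0⟩) E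
    have h2 : (Cfsg.permSumZero (ZMod p) G α).toRepresentation σ ⟨v0, hv0⟩ =
        ⟨v0, hv0⟩ - ⟨_, hconst _ hone⟩ := by
      refine Subtype.ext (funext fun x => ?_)
      show e.symm (σ⁻¹ • x) = e.symm x - 1
      obtain ⟨i, rfl⟩ := e.surjective x
      rw [hsσ, e.symm_apply_apply, e.symm_apply_apply]
    have h3 : f ((Cfsg.permSumZero (ZMod p) G α).toRepresentation σ ⟨v0, hv0⟩) E = u (σ⁻¹ • E) := h1
    rw [h2, map_sub, hf ⟨_, hconst _ hone⟩ hone, sub_zero] at h3
    exact h3.symm
  have hσn : ∀ (n : ℕ) E, u (σ ^ n • E) = u E := by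
    intro n
    induction n with
    | zero => intro E; rw [pow_zero, one_smul]
    | succ n ih =>
      intro E
      rw [pow_succ', mul_smul, ← hσu, inv_smul_smul, ih]
  have hτu : ∀ E, u (τ⁻¹ • E) = - u E := by
    intro E
    have h1 := congrFun (LinearMap.congr_fun (f.isIntertwining' τ) ⟨v0, hv0⟩) E
    have h2 : (Cfsg.permSumZero (ZMod p) G α).toRepresentation τ ⟨v0, hv0⟩ = -⟨v0, hv0⟩ := by
      refine Subtype.ext (funext fun x => ?_)
      show e.symm (τ⁻¹ • x) = -(e.symm x)
      obtain ⟨i, rfl⟩ := e.surjective x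
      rw [hsτ, e.symm_apply_apply, e.symm_apply_apply]
    have h3 : f ((Cfsg.permSumZero (ZMod p) G α).toRepresentation τ ⟨v0, hv0⟩) E = u (τ⁻¹ • E) := h1
    rw [h2, map_neg] at h3
    exact h3.symm
  have hu0 : u = 0 := by
    funext E
    obtain ⟨x, y, hxy, rfl⟩ := Cfsg.Agent.S0672.exists_pairOf E
    obtain ⟨i, rfl⟩ := e.surjective x
    obtain ⟨j, rfl⟩ := e.surjective y
    have hen : ∀ (n : ℕ) k, σ ^ n • e k = e (k + n) := by
      intro n
      induction n with
      | zero => intro k; simp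
      | succ n ih => intro k; rw [pow_succ', mul_smul, ih, he1]; push_cast; ring_nf
    have heq : τ⁻¹ • Cfsg.Agent.S0672.pairOf (e i) (e j) hxy =
        σ ^ (-i - j).val • Cfsg.Agent.S0672.pairOf (e i) (e j) hxy := by
      refine ((Cfsg.Agent.S0672.smul_pairOf τ⁻¹ _ _ hxy).trans ?_).trans
        (Cfsg.Agent.S0672.smul_pairOf (σ ^ (-i - j).val) _ _ hxy).symm
      refine Subtype.ext ?_
      show ({τ⁻¹ • e i, τ⁻¹ • e j} : Finset α) = {σ ^ _ • e i, σ ^ _ • e j}
      rw [hsτ, hsτ, hen, hen, ZMod.natCast_zmod_val, Finset.pair_comm]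
      congr 2
      · ring
      · congr 1; ring
    have h1 := hτu (Cfsg.Agent.S0672.pairOf (e i) (e j) hxy)
    rw [heq, hσn] at h1
    have h2 : (2 : ZMod p) * u (Cfsg.Agent.S0672.pairOf (e i) (e j) hxy) = 0 := by linear_combination h1
    refine (mul_eq_zero.1 h2).resolve_left fun h => ?_
    have : p ∣ 2 := (ZMod.natCast_eq_zero_iff 2 p).1 h
    have := Nat.le_of_dvd two_pos this
    omega
  have hW := Cfsg.Agent.S0674.result (p := p) hα G hG W
    (fun v hv => Submodule.mem_map.2 ⟨⟨v, hconst v hv⟩, hf ⟨v, hconst v hv⟩ hv, rfl⟩)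
    (fun v hv => by obtain ⟨w, -, rfl⟩ := Submodule.mem_map.1 hv; exact w.2)
  have hWall : W = Cfsg.permSumZero (ZMod p) G α := by
    refine hW.resolve_left fun h => ?_
    have hmem : v0 ∈ W.toSubmodule := Submodule.mem_map.2 ⟨⟨v0, hv0⟩, hu0, rfl⟩
    rw [h] at hmem
    obtain ⟨a, ha⟩ := Submodule.mem_span_singleton.1 hmem
    have h0 := congrFun ha (e 0)
    have h1 := congrFun ha (e 1)
    simp [v0] at h0 h1
    rw [h0] at h1
    exact zero_ne_one h1
  apply DFunLike.ext
  intro v
  have hv : (v : α → ZMod p) ∈ W.toSubmodule := by rw [hWall]; exact v.2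
  obtain ⟨w, hw, hwv⟩ := Submodule.mem_map.1 hv
  rw [← Subtype.ext hwv]
  exact hw

end Cfsg.Agent.S0676
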