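import Cfsg.Statements.S4706
import Cfsg.Agent.Fg24.PrimeTwoP.Characters
import Cfsg.Agent.Zassenhaus.EvenSharp
import Cfsg.Agent.S0676
-- import your own Cfsg.Agent.* helpers here

set_option autoImplicit false
open Cfsg

namespace Cfsg.Agent.S4706

/-- Let p > 2 be a prime and G a permutation group on p letters whose Sylow p-subgroup P has normalizer of order 2p. Then either P is normal in G, or p − 1 = 2^a for some a and G is isomorphic to SL(2, 2^a). -/
theorem result {α : Type*} [Fintype α] [DecidableEq α] {p : ℕ} [Fact p.Prime] (hp : 2 < p) (hα : Fintype.card α = p) (G : Subgroup (Equiv.Perm α)) (P : Sylow p G) (hN : Nat.card (Subgroup.normalizer ((P : Subgroup G) : Set G)) = 2 * p) : (P : Subgroup G).Normal ∨ ∃ (a : ℕ) (F : Type) (_ : Field F) (_ : Fintype F), p = 2 ^ a + 1 ∧ Fintype.card F = 2 ^ a ∧ Nonempty (G ≃* Matrix.SpecialLinearGroup (Fin 2) F) := by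
  classical
  by_cases hn : (P : Subgroup G).Normal
  · exact Or.inl hn
  right
  have hPc := Agent.Fg24.PrimeTwoP.card_sylow hα hp P hN
  have := Agent.Fg24.PrimeTwoP.pretransitive hα hp P hN
  have hns : ¬ Group.IsSolvable G := fun h =>
    hn (Agent.Fg24.PrimeTwoP.normal_of_solvable hα h P hPc)
  have heven : Even (Nat.card (Subgroup.normalizer ((P : Subgroup G) : Set G))) := by
    rw [hN]; exact even_two_mul p
  have h3 : MulAction.IsMultiplyPretransitive G α 3 := Agent.S0676.result hα G hns P heven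
  have hn3 : 3 ≤ Nat.card α := by rw [Nat.card_eq_fintype_card, hα]; omega
  have h2 : MulAction.IsMultiplyPretransitive G α 2 :=
    MulAction.is_two_pretransitive_iff.mpr fun {a b c d} hab hcd => by
      obtain ⟨z, hza, hzb⟩ := Agent.Zassenhaus.exists_third hn3 a b
      obtain ⟨w, hwc, hwd⟩ := Agent.Zassenhaus.exists_third hn3 c d
      obtain ⟨g, h1, h2, -⟩ := Agent.Zassenhaus.exists_map_three h3 hab (Ne.symm hza) (Ne.symm hzb)
        hcd (Ne.symm hwc) (Ne.symm hwd)
      exact ⟨g, h1, h2⟩
  have C : Agent.Zassenhaus.ZCtx G α := Agent.Zassenhaus.zctx_of_three h3 hn3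
    (Agent.Fg24.PrimeTwoP.three_free hα hp G h2 P hPc
      (Agent.Fg24.PrimeTwoP.card_centralizer hα hp P hN) hN)
  obtain ⟨a, F, iF, iFF, -, hF, hcard, he, -⟩ := C.identify_even hn3
    (by rw [Nat.card_eq_fintype_card, hα]; exact (Fact.out : p.Prime).odd_of_ne_two (by omega))
    (Agent.Zassenhaus.exists_map_three h3)
  rw [Nat.card_eq_fintype_card, hα] at hcard
  exact ⟨a, F, iF, iFF, hcard, hF, he⟩

end Cfsg.Agent.S4706
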