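import Cfsg.Statements.S0601
import Cfsg.Agent.Thompson.Stable

set_option autoImplicit false
open Cfsg

namespace Cfsg.Agent.S0601

/-- Conjugation maps the `Ω₁(Z(S))` to one another. -/
theorem omega_conj {G : Type*} [Group G] [Finite G] {p : ℕ} [Fact p.Prime] (g : G) (S : Sylow p G) :
    ∃ T : Sylow p G,
      (Cfsg.omegaOne p ((S : Subgroup G) ⊓ Subgroup.centralizer ((S : Subgroup G) : Set G))).map
          (MulAut.conj g).toMonoidHom =
        Cfsg.omegaOne p ((T : Subgroup G) ⊓ Subgroup.centralizer ((T : Subgroup G) : Set G)) := by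
  refine ⟨g • S, ?_⟩
  rw [Thompson.omegaOne_map_of_injective (MulAut.conj g).injective,
    Thompson.map_centre_of_injective (MulAut.conj g).injective]
  rfl


/-- When O_p(G) contains its centralizer, the normal closure of Ω₁(Z(S)) is elementary abelian and G has no nontrivial normal p-subgroup modulo its centralizer. -/
theorem result {G : Type*} [Group G] [Finite G] {p : ℕ} [Fact p.Prime] (hc : Subgroup.centralizer (Cfsg.pCore p G : Set G) ≤ Cfsg.pCore p G) : (⨆ S : Sylow p G, Cfsg.omegaOne p (((S : Subgroup G)) ⊓ Subgroup.centralizer ((S : Subgroup G) : Set G))).Normal ∧ Cfsg.IsElementaryAbelian p (⨆ S : Sylow p G, Cfsg.omegaOne p (((S : Subgroup G)) ⊓ Subgroup.centralizer ((S : Subgroup G) : Set G))) ∧ ∀ D : Subgroup G, D.Normal → Subgroup.centralizer ((⨆ S : Sylow p G, Cfsg.omegaOne p (((S : Subgroup G)) ⊓ Subgroup.centralizer ((S : Subgroup G) : Set G)) : Subgroup G) : Set G) ≤ D → (∃ k : ℕ, (Subgroup.centralizer ((⨆ S : Sylow p G, Cfsg.omegaOne p (((S : Subgroup G)) ⊓ Subgroup.centralizer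 ((S : Subgroup G) : Set G)) : Subgroup G) : Set G)).relIndex D = p ^ k) → D = Subgroup.centralizer ((⨆ S : Sylow p G, Cfsg.omegaOne p (((S : Subgroup G)) ⊓ Subgroup.centralizer ((S : Subgroup G) : Set G)) : Subgroup G) : Set G) := by
  set Z : Sylow p G → Subgroup G := fun S =>
    Cfsg.omegaOne p ((S : Subgroup G) ⊓ Subgroup.centralizer ((S : Subgroup G) : Set G)) with hZ
  set V : Subgroup G := ⨆ S : Sylow p G, Z S with hV
  have hle : ∀ S, Z S ≤ Cfsg.omegaOne p
      (Cfsg.pCore p G ⊓ Subgroup.centralizer (Cfsg.pCore p G : Set G)) := by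
    intro S
    refine Thompson.omegaOne_mono fun x hx => ?_
    have hxc : x ∈ Subgroup.centralizer (Cfsg.pCore p G : Set G) :=
      Subgroup.centralizer_le (Core.pCore_le_sylow S) hx.2
    exact ⟨hc hxc, hxc⟩
  have hVn : V.Normal := by
    refine ⟨fun x hx g => ?_⟩
    have h1 : V ≤ V.comap (MulAut.conj g).toMonoidHom := by
      refine iSup_le fun S => ?_
      obtain ⟨T, hT⟩ := omega_conj g S
      rw [← Subgroup.map_le_iff_le_comap]
      exact hT.le.trans (le_iSup Z T)
    exact h1 hx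
  refine ⟨hVn, Thompson.ea_mono (Thompson.omegaOne_centre_ea p _) (iSup_le hle), fun D hDn hCD hk => ?_⟩
  obtain ⟨k, hk⟩ := hk
  refine le_antisymm ?_ hCD
  rw [Subgroup.le_centralizer_iff]
  refine iSup_le fun S => ?_
  rw [Subgroup.le_centralizer_iff]
  intro d hd
  obtain ⟨c, hcC, s, hs, rfl⟩ := Thompson.exists_mul_of_relIndex S hCD hk hd
  refine mul_mem (Subgroup.centralizer_le (le_iSup Z S) hcC) ?_
  refine Subgroup.mem_centralizer_iff.2 fun z hz => ?_
  exact (Subgroup.mem_centralizer_iff.1 (Thompson.omegaOne_le p _ hz).2 s hs.2).symm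

end Cfsg.Agent.S0601
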