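import Cfsg.Statements.S0608
import Cfsg.Agent.Thompson.Stable

set_option autoImplicit false
open Cfsg

namespace Cfsg.Agent.S0608

/-- Conjugation maps the `Ω₁(Z(S))` to one another. -/
theorem omega_conj {G : Type*} [Group G] [Finite G] {p : ℕ} [Fact p.Prime] (g : G) (S : Sylow p G) :
    (Cfsg.omegaOne p ((S : Subgroup G) ⊓ Subgroup.centralizer ((S : Subgroup G) : Set G))).map
        (MulAut.conj g).toMonoidHom =
      Cfsg.omegaOne p (((g • S : Sylow p G) : Subgroup G) ⊓
        Subgroup.centralizer (((g • S : Sylow p G) : Subgroup G) : Set G)) := by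
  rw [Thompson.omegaOne_map_of_injective (MulAut.conj g).injective,
    Thompson.map_centre_of_injective (MulAut.conj g).injective]
  rfl


/-- With trivial p'-core, Thompson factorizability is equivalent to J(G) centralizing the subgroup generated by all Ω₁(Z(S)), S Sylow. -/
theorem result {G : Type*} [Group G] [Finite G] {p : ℕ} [Fact p.Prime] (hO : Cfsg.pPrimeCore p G = ⊥) : Cfsg.IsThompsonFactorizable p G ↔ Cfsg.thompsonSubgroup p G ≤ Subgroup.centralizer ((⨆ S : Sylow p G, Cfsg.omegaOne p (((S : Subgroup G)) ⊓ Subgroup.centralizer ((S : Subgroup G) : Set G)) : Subgroup G) : Set G) := by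
  set Z : Sylow p G → Subgroup G := fun S =>
    Cfsg.omegaOne p ((S : Subgroup G) ⊓ Subgroup.centralizer ((S : Subgroup G) : Set G)) with hZ
  constructor
  · intro hf
    rw [Thompson.thompson_eq_iSup_sylow, iSup_le_iff]
    intro T
    rw [Subgroup.le_centralizer_iff]
    refine iSup_le fun S => ?_
    rw [Subgroup.le_centralizer_iff]
    obtain ⟨g, rfl⟩ := MulAction.exists_smul_eq G S T
    obtain ⟨x, hx, c, hc, n, hn, rfl⟩ := hf S g
    rw [hO, Subgroup.mem_bot] at hx
    subst hx
    have h0 : ((((1 * c * n) • S : Sylow p G)) : Subgroup G) =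
        (S : Subgroup G).map (MulAut.conj (1 * c * n)).toMonoidHom := rfl
    rw [h0, ← Thompson.thompsonOf_map_of_injective (MulAut.conj _).injective]
    rintro _ ⟨j, hj, rfl⟩
    have hj' : n * j * n⁻¹ ∈ Cfsg.thompsonSubgroupOf p (S : Subgroup G) :=
      (Subgroup.mem_normalizer_iff.1 hn j).1 hj
    refine Subgroup.mem_centralizer_iff.2 fun z hz => ?_
    have hcz : z * c = c * z := Subgroup.mem_centralizer_iff.1 hc z hz
    have hjz : (n * j * n⁻¹) * z = z * (n * j * n⁻¹) :=
      Subgroup.mem_centralizer_iff.1 (Thompson.omegaOne_le p _ hz).2 _ (Thompson.thompsonOf_le p _ hj')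
    have e : MulAut.conj (1 * c * n) j = c * (n * j * n⁻¹) * c⁻¹ := by
      simp [MulAut.conj_apply, mul_assoc]
    show z * MulAut.conj (1 * c * n) j = MulAut.conj (1 * c * n) j * z
    rw [e]
    exact (Commute.mul_right (Commute.mul_right hcz (Commute.symm hjz))
      (Commute.inv_right hcz)).eq
  · intro hJ S g
    have hVn : (⨆ S : Sylow p G, Z S).Normal := by
      refine ⟨fun x hx g => ?_⟩
      have h1 : (⨆ S : Sylow p G, Z S) ≤ (⨆ S : Sylow p G, Z S).comap (MulAut.conj g).toMonoidHom := by
        refine iSup_le fun T => ?_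
        rw [← Subgroup.map_le_iff_le_comap]
        exact (omega_conj g T).le.trans (le_iSup Z _)
      exact h1 hx
    set K := Subgroup.centralizer ((⨆ S : Sylow p G, Z S : Subgroup G) : Set G) with hK
    have hKn : K.Normal := inferInstance
    let P : Sylow p K := IsPGroup.toSylow
      (P := (S : Subgroup G).subgroupOf K)
      (S.isPGroup'.comap_of_injective K.subtype K.subtype_injective)
      (Thompson.not_dvd_relIndex_sylow S K)
    have hfr := Sylow.normalizer_sup_eq_top P
    have hg : g⁻¹ ∈ (↑(Subgroup.normalizer (((P : Subgroup K).map K.subtype : Subgroup G) : Set G) ⊔ K) : Set G) := by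
      rw [hfr]; trivial
    rw [Subgroup.mul_normal] at hg
    obtain ⟨n, hn, c, hc, hnc⟩ := hg
    have hP : (P : Subgroup K).map K.subtype = (S : Subgroup G) ⊓ K := Subgroup.subgroupOf_map_subtype _ _
    have hJeq : Cfsg.thompsonSubgroupOf p ((S : Subgroup G) ⊓ K) =
        Cfsg.thompsonSubgroupOf p (S : Subgroup G) := by
      have hSK : Cfsg.thompsonSubgroupOf p (S : Subgroup G) ≤ (S : Subgroup G) ⊓ K :=
        le_inf (Thompson.thompsonOf_le _ _) ((Thompson.thompsonOf_sylow_le S).trans hJ)
      obtain ⟨A, hA⟩ := Thompson.exists_maxEA p ↥(S : Subgroup G)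
      obtain ⟨h1, h2⟩ := (Thompson.maxEA_subgroup_iff (Subgroup.map_subtype_le A)).1
        (show (A.map (S : Subgroup G).subtype).subgroupOf _ ∈ _ by
          rw [Subgroup.subgroupOf, Subgroup.comap_map_eq_self_of_injective
            (S : Subgroup G).subtype_injective]; exact hA)
      have hAle : A.map (S : Subgroup G).subtype ≤ (S : Subgroup G) ⊓ K :=
        (Thompson.le_thompsonOf (Subgroup.map_subtype_le A) h1 h2).trans hSK
      refine le_antisymm (Thompson.thompsonOf_le_iff.2 fun B hB hBe hBmax => ?_)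
        (Thompson.thompsonOf_le_iff.2 fun B hB hBe hBmax => ?_)
      · exact Thompson.le_thompsonOf (hB.trans inf_le_left) hBe fun C hC hCe =>
          (h2 C hC hCe).trans (hBmax _ hAle h1)
      · exact Thompson.le_thompsonOf ((Thompson.le_thompsonOf hB hBe hBmax).trans hSK) hBe
          fun C hC hCe => hBmax C (hC.trans inf_le_left) hCe
    refine ⟨1, one_mem _, c⁻¹, ?_, n⁻¹, ?_, ?_⟩
    · exact Subgroup.centralizer_le (le_iSup Z S) (inv_mem hc)
    · refine inv_mem ?_
      rw [hP] at hn
      rw [← hJeq, Subgroup.mem_normalizer_iff_map_conj_eq]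
      rw [SetLike.mem_coe, Subgroup.mem_normalizer_iff_map_conj_eq] at hn
      exact (Thompson.thompsonOf_map_of_injective (p := p) (f := (MulAut.conj n).toMonoidHom)
        (MulAut.conj n).injective _).trans (congrArg (Cfsg.thompsonSubgroupOf p) hn)
    · rw [one_mul, ← mul_inv_rev, show n * c = g⁻¹ from hnc, inv_inv]

end Cfsg.Agent.S0608
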