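import Cfsg.Statements.S0618
import Cfsg.Agent.Thompson.Offender.Action
import Cfsg.Agent.S0603
import Cfsg.Agent.S0608

set_option autoImplicit false
open Cfsg

namespace Cfsg.Agent.S0618

/-- A p-separable group with trivial p'-core in which the Thompson factorization fails has p = 2 or 3, and J(G) induces on the normal closure of Ω₁(Z(S)) a group containing a normal SL(2, p). -/
theorem result {G : Type*} [Group G] [Finite G] {p : ℕ} [Fact p.Prime] (hsep : Cfsg.IsPSolvable p G) (hO : Cfsg.pPrimeCore p G = ⊥) (hnf : ¬ Cfsg.IsThompsonFactorizable p G) : (p = 2 ∨ p = 3) ∧ ∃ E : Subgroup G, Subgroup.centralizer ((⨆ S : Sylow p G, Cfsg.omegaOne p ((S : Subgroup G) ⊓ Subgroup.centralizer ((S : Subgroup G) : Set G))) : Set G) ≤ E ∧ E ≤ Cfsg.thompsonSubgroup p G ⊔ Subgroup.centralizer ((⨆ S : Sylow p G, Cfsg.omegaOne p ((S : Subgroup G) ⊓ Subgroup.centralizer ((S : Subgroup G) : Set G))) : Set G) ∧ Cfsg.thompsonSubgroup p G ⊔ Subgroup.centralizer ((⨆ S : Sylow p G, Cfsg.omegaOne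 p ((S : Subgroup G) ⊓ Subgroup.centralizer ((S : Subgroup G) : Set G))) : Set G) ≤ Subgroup.normalizer (E : Set G) ∧ ∃ hn : ((Subgroup.centralizer ((⨆ S : Sylow p G, Cfsg.omegaOne p ((S : Subgroup G) ⊓ Subgroup.centralizer ((S : Subgroup G) : Set G))) : Set G)).subgroupOf E).Normal, Nonempty ((↥E ⧸ (Subgroup.centralizer ((⨆ S : Sylow p G, Cfsg.omegaOne p ((S : Subgroup G) ⊓ Subgroup.centralizer ((S : Subgroup G) : Set G))) : Set G)).subgroupOf E) ≃* Matrix.SpecialLinearGroup (Fin 2) (ZMod p)) := by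
  have hc := Layer.pCoreSelfCentral_of_isPSolvable hsep hO
  obtain ⟨hn, hea, hD⟩ := Cfsg.Agent.S0601.result hc
  set V := ⨆ S : Sylow p G, Cfsg.omegaOne p ((S : Subgroup G) ⊓
    Subgroup.centralizer ((S : Subgroup G) : Set G)) with hVdef
  set C := Subgroup.centralizer (V : Set G) with hCdef
  set σ := Cfsg.Agent.Offender.act V with hσ
  have hker : σ.ker = C := Cfsg.Agent.Offender.act_ker
  have hcore : Cfsg.pCore p ((⊤ : Subgroup G).map σ) = ⊥ := by
    rw [← MonoidHom.range_eq_map]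
    exact Cfsg.Agent.Offender.pCore_range_eq_bot σ
      (Cfsg.Agent.Offender.pCore_quotient_eq_bot (by rw [hker]; exact hD))
  have hff := Cfsg.Agent.Offender.ff_of_thompson (V := V)
    (Cfsg.Agent.Offender.isPSolvable_subgroup hsep ⊤) le_top hea hcore
  rw [Cfsg.Agent.S0603.result ⊤ le_top] at hff
  set J := Cfsg.thompsonSubgroup p G with hJ
  have hH : J.map σ ≠ ⊥ := fun h0 =>
    hnf ((Cfsg.Agent.S0608.result hO).2 (((Subgroup.map_eq_bot_iff _).1 h0).trans hker.le))
  obtain ⟨L, hL⟩ := hff.exists_line hH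
  set E₀ := Cfsg.Agent.Offender.blk p (J.map σ) L with hE₀
  have hsupmap : (J ⊔ C).map σ = J.map σ := by
    rw [Subgroup.map_sup, (Subgroup.map_eq_bot_iff C).2 hker.ge, sup_bot_eq]
  set E := (J ⊔ C) ⊓ E₀.comap σ with hE
  have hEmap : E.map σ = E₀ := by
    refine le_antisymm (Subgroup.map_le_iff_le_comap.2 inf_le_right) fun y hy => ?_
    obtain ⟨j, hj, rfl⟩ := hL.blk_le hff hy
    exact ⟨j, ⟨Subgroup.mem_sup_left hj, hy⟩, rfl⟩
  have hunion : Subgroup.centralizer (⨆ S : Sylow p G, ((Cfsg.omegaOne p ((S : Subgroup G) ⊓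
      Subgroup.centralizer ((S : Subgroup G) : Set G)) : Subgroup G) : Set G)) = C := by
    rw [hCdef, hVdef, Subgroup.iSup_eq_closure, Subgroup.centralizer_closure, Set.iSup_eq_iUnion]
  rw [hunion]
  refine ⟨hL.eq_two_or_three hff, E, le_inf le_sup_right (hker.ge.trans (Subgroup.ker_le_comap _ _)),
    inf_le_left, ?_, ?_, ?_⟩
  · refine Cfsg.Agent.Coprime.le_normalizer_inf Subgroup.le_normalizer
      (le_trans ?_ (Subgroup.le_normalizer_comap σ))
    rw [← Subgroup.map_le_iff_le_comap, hsupmap]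
    exact hL.le_normalizer_blk hff
  · have : C.Normal := hker ▸ inferInstance
    exact this.subgroupOf E
  · obtain ⟨f⟩ := hL.exists_iso hff
    have hk : (σ.domRestrict E).ker = C.subgroupOf E := by rw [MonoidHom.ker_domRestrict, hker]
    have hr : (σ.domRestrict E).range = E₀ := by rw [MonoidHom.domRestrict_range, hEmap]
    have : (C.subgroupOf E).Normal := hk ▸ inferInstance
    exact ⟨(QuotientGroup.quotientMulEquivOfEq hk.symm).trans
      ((QuotientGroup.quotientKerEquivRange _).trans ((MulEquiv.subgroupCongr hr).trans f))⟩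

end Cfsg.Agent.S0618
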