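import Cfsg.Statements.S0339
import Cfsg.Agent.RankOne.Zassenhaus
-- import your own Cfsg.Agent.* helpers here

set_option autoImplicit false
open Cfsg
open Cfsg.Agent
open scoped Pointwise

namespace Cfsg.Agent.S0339

/-- A non-trivial normal subgroup of a Zassenhaus group is itself a Zassenhaus group on the same set. -/
theorem result {G Ω : Type*} [Group G] [MulAction G Ω] [Finite Ω]
    (hZ : Cfsg.IsZassenhausGroup G Ω) (N : Subgroup G) [N.Normal] (hN : N ≠ ⊥) :
    Cfsg.IsZassenhausGroup N Ω := by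
  have hT := RankOne.threeFree_of_zassenhaus hZ
  have hf := hT.faithful
  have : Finite G := Finite.of_injective (MulAction.toPermHom G Ω) MulAction.toPerm_injective
  have hTN := hT.normal_threeFree hZ.2.2.2.2 hN
  refine ⟨hTN.faithful, hTN.two_transitive, hTN.three, hTN.two, fun M hMn hMt => ?_⟩
  by_contra hcon
  push Not at hcon
  -- the image of `M` in `G` is a regular normal subgroup
  have key : ∀ M' : Subgroup N, M'.Normal → MulAction.IsPretransitive M' Ω →
      (∀ a : Ω, MulAction.stabilizer M' a = ⊥) → M' = M := by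
    intro M' hM'n hM't hM'r
    obtain ⟨g, -, a, b, hab, -, -⟩ := hTN.two
    have hinj : ∀ {L : Subgroup N}, (∀ a : Ω, MulAction.stabilizer L a = ⊥) →
        ∀ x ∈ L, ∀ y ∈ L, x • a = y • a → x = y := by
      intro L hL x hx y hy e
      have : (⟨y⁻¹ * x, L.mul_mem (L.inv_mem hy) hx⟩ : L) ∈ MulAction.stabilizer L a := by
        show (y⁻¹ * x) • a = a
        rw [mul_smul, e, inv_smul_smul]
      rw [hL a, Subgroup.mem_bot] at this
      exact (inv_mul_eq_one.mp (congrArg Subtype.val this)).symm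
    have hex := hTN.regular_exponent_two hMt hcon
    have hMc : ∀ x ∈ M, ∀ y ∈ M, x * y = y * x := fun x hx y hy => by
      have e1 := inv_eq_of_mul_eq_one_right (hex _ (M.mul_mem hx hy))
      rw [mul_inv_rev, inv_eq_of_mul_eq_one_right (hex x hx),
        inv_eq_of_mul_eq_one_right (hex y hy)] at e1
      exact e1.symm
    by_cases hI : M ⊓ M' = ⊥
    · exfalso
      obtain ⟨m', hm'⟩ := hM't.exists_smul_eq a b
      obtain ⟨m, hm⟩ := hMt.exists_smul_eq a b
      have hcomm : ∀ x ∈ M, x * (m' : N) = m' * x := fun x hx =>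
        (Subgroup.commute_of_normal_of_disjoint M M' hMn hM'n (disjoint_iff.mpr hI) x m' hx m'.2).eq
      set y := (m : N)⁻¹ * m'
      have hya : y • a = a := by
        rw [mul_smul, show (m' : N) • a = b from hm', inv_smul_eq_iff]
        exact hm.symm
      have hyc : ∀ x ∈ M, x * y = y * x := fun x hx => by
        rw [← mul_assoc, hMc x hx _ (M.inv_mem m.2), mul_assoc, hcomm x hx, ← mul_assoc]
      have hy1 : y = 1 := by
        refine hTN.faithful.eq_of_smul_eq_smul (α := Ω) fun c => ?_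
        obtain ⟨x, rfl⟩ := hMt.exists_smul_eq a c
        show y • ((x : N) • a) = (1 : N) • ((x : N) • a)
        rw [one_smul, ← mul_smul, ← hyc x x.2, mul_smul, hya]
      have hmm : (m : N) = m' := inv_mul_eq_one.mp hy1
      have hmem : (m : N) ∈ M ⊓ M' := ⟨m.2, hmm ▸ m'.2⟩
      rw [hI, Subgroup.mem_bot] at hmem
      apply hab
      rw [← hm]
      show a = (m : N) • a
      rw [hmem, one_smul]
    · have hle : ∀ L : Subgroup N, (∀ a : Ω, MulAction.stabilizer L a = ⊥) → M ⊓ M' ≤ L →
          L ≤ M ⊓ M' := by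
        intro L hL hIL x hx
        have : (M ⊓ M').Normal := inferInstance
        obtain ⟨i, hi, e⟩ := hTN.normal_transitive hI a (x • a)
        have hix := hinj hL i (hIL hi) x hx e
        exact hix ▸ hi
      exact le_antisymm ((hle M' hM'r inf_le_right).trans inf_le_left)
        ((hle M hcon inf_le_left).trans inf_le_right)
  set M₁ := M.map N.subtype
  have hnormal : M₁.Normal := ⟨by
    rintro _ ⟨x, hx, rfl⟩ g
    let c : N ≃* N := MulAut.conjNormal g
    set M' := M.map c.toMonoidHom with hM'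
    have hM'eq : M' = M := by
      refine key M' (hMn.map _ c.surjective) ⟨fun p q => ?_⟩ fun p => eq_bot_iff.mpr ?_
      · obtain ⟨m, hm⟩ := hMt.exists_smul_eq (g⁻¹ • p) (g⁻¹ • q)
        refine ⟨⟨c m, Subgroup.mem_map_of_mem _ m.2⟩, ?_⟩
        show (g * ((m : N) : G) * g⁻¹) • p = q
        rw [mul_smul, mul_smul, show ((m : N) : G) • g⁻¹ • p = g⁻¹ • q from hm, smul_inv_smul]
      · rintro ⟨_, m, hm, rfl⟩ hmp
        have h1 : (⟨m, hm⟩ : M) ∈ MulAction.stabilizer M (g⁻¹ • p) := by
          have h2 : (g * (m : G) * g⁻¹) • p = p := hmp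
          rw [mul_smul, mul_smul, smul_eq_iff_eq_inv_smul] at h2
          exact h2
        rw [hcon, Subgroup.mem_bot] at h1
        have hm1 : m = 1 := congrArg Subtype.val h1
        subst hm1
        exact (Subgroup.mem_bot).mpr (Subtype.ext (map_one c))
    have hmem : c x ∈ M := hM'eq ▸ Subgroup.mem_map_of_mem _ hx
    exact ⟨c x, hmem, rfl⟩⟩
  obtain ⟨a, ha⟩ := hZ.2.2.2.2 M₁ hnormal ⟨fun p q => by
    obtain ⟨m, hm⟩ := hMt.exists_smul_eq p q
    exact ⟨⟨_, Subgroup.mem_map_of_mem N.subtype m.2⟩, hm⟩⟩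
  refine ha (eq_bot_iff.mpr ?_)
  rintro ⟨_, m, hm, rfl⟩ hma
  have h1 : (⟨m, hm⟩ : M) ∈ MulAction.stabilizer M a := hma
  rw [hcon, Subgroup.mem_bot] at h1
  have hm1 : m = 1 := congrArg Subtype.val h1
  subst hm1
  exact (Subgroup.mem_bot).mpr (Subtype.ext rfl)

end Cfsg.Agent.S0339
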