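import Cfsg.Statements.S0741
import Mathlib.GroupTheory.Perm.Cycle.Type

set_option autoImplicit false
open Cfsg

namespace Cfsg.Agent.S0741

/-- If the two-point stabilisers of a finite Zassenhaus group of degree `n + 1` have even order `d`, then `2d ≥ n - 1`. -/
theorem result {G Ω : Type*} [Group G] [Finite G] [MulAction G Ω] [Fintype Ω] (hZ : Cfsg.IsZassenhausGroup G Ω) {a b : Ω} (hab : a ≠ b) (heven : Even (Nat.card ↥(MulAction.stabilizer G a ⊓ MulAction.stabilizer G b))) : Fintype.card Ω - 2 ≤ 2 * Nat.card ↥(MulAction.stabilizer G a ⊓ MulAction.stabilizer G b) := by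
  classical
  obtain ⟨hf, h2, h3, -, -⟩ := hZ
  have h2' : ∀ {x y u v : Ω}, x ≠ y → u ≠ v → ∃ g : G, g • x = u ∧ g • y = v := MulAction.is_two_pretransitive_iff.1 h2
  have : Fintype G := Fintype.ofFinite G
  have : Fact (Nat.Prime 2) := ⟨Nat.prime_two⟩
  obtain ⟨t, ht⟩ := exists_prime_orderOf_dvd_card' 2 (even_iff_two_dvd.1 heven)
  have ht' : orderOf (t : G) = 2 := (Subgroup.orderOf_coe t).trans ht
  let T : Finset G := Finset.univ.filter fun g => orderOf g = 2 ∧ ∃ x y : Ω, x ≠ y ∧ g • x = x ∧ g • y = y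
  let P : Finset (Ω × Ω) := Finset.univ.filter fun q => q.1 ≠ q.2
  let F : Finset (G × (Ω × Ω)) := (T ×ˢ P).filter fun u => u.1 • u.2.1 = u.2.1 ∧ u.1 • u.2.2 = u.2.2
  let S : Finset (G × (Ω × Ω)) := (T ×ˢ P).filter fun u => u.1 • u.2.1 = u.2.2 ∧ u.1 • u.2.2 = u.2.1
  set N := Fintype.card Ω
  set d := Nat.card ↥(MulAction.stabilizer G a ⊓ MulAction.stabilizer G b)
  have hPc : ∀ q ∈ P, q.1 ≠ q.2 := fun q hq => (Finset.mem_filter.1 hq).2
  have hF : P.card ≤ F.card := by
    refine Finset.card_le_card_of_surjOn (fun u => u.2) ?_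
    rintro ⟨x, y⟩ hq
    obtain ⟨g, hg1, hg2⟩ : ∃ g : G, g • a = x ∧ g • b = y := h2' hab (hPc _ hq)
    have hx : (g * (t : G) * g⁻¹) • x = x := by rw [← hg1, mul_smul, mul_smul, inv_smul_smul, t.2.1]
    have hy : (g * (t : G) * g⁻¹) • y = y := by rw [← hg2, mul_smul, mul_smul, inv_smul_smul, t.2.2]
    refine ⟨(g * (t : G) * g⁻¹, (x, y)), Finset.mem_filter.2 ⟨Finset.mem_product.2 ⟨Finset.mem_filter.2
      ⟨Finset.mem_univ _, ?_, x, y, hPc _ hq, hx, hy⟩, hq⟩, hx, hy⟩, rfl⟩
    rw [← ht']; exact MulEquiv.orderOf_eq (MulAut.conj g) (t : G)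
  have hfibF : F.card ≤ T.card * 2 := by
    refine le_of_le_of_eq (Finset.card_le_mul_card_image_of_maps_to (f := fun u => u.1) (t := T) (fun u hu =>
      (Finset.mem_product.1 (Finset.mem_filter.1 hu).1).1) 2 ?_) (Nat.mul_comm 2 T.card)
    intro g hg
    obtain ⟨hg2, x, y, hxy, hx, hy⟩ := (Finset.mem_filter.1 hg).2
    refine (Finset.card_le_card (t := {(g, (x, y)), (g, (y, x))}) ?_).trans Finset.card_le_two
    rintro ⟨g', u, v⟩ hm
    rw [Finset.mem_filter] at hm
    obtain ⟨hmF, rfl : g' = g⟩ := hm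
    obtain ⟨hmp, hu, hv⟩ := Finset.mem_filter.1 hmF
    have huv : u ≠ v := hPc _ (Finset.mem_product.1 hmp).2
    have hg1 : g' ≠ 1 := fun h => by rw [h, orderOf_one] at hg2; norm_num at hg2
    have key : ∀ w, g' • w = w → w = x ∨ w = y := fun w hw => by
      by_contra hh
      rw [not_or] at hh
      exact hg1 (h3 g' x y w hxy (Ne.symm hh.2) (Ne.symm hh.1) hx hy hw)
    rcases key u hu with rfl | rfl <;> rcases key v hv with rfl | rfl
    · exact absurd rfl huv
    · simp
    · simp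
    · exact absurd rfl huv
  have hfibS : T.card * (N - 2) ≤ S.card := by
    refine Finset.mul_card_image_le_card_of_maps_to (f := fun u => u.1) (t := T) (fun u hu =>
      (Finset.mem_product.1 (Finset.mem_filter.1 hu).1).1) (N - 2) ?_ |> le_of_eq_of_le (Nat.mul_comm _ _)
    intro g hg
    obtain ⟨hg2, x, y, hxy, hx, hy⟩ := (Finset.mem_filter.1 hg).2
    have hg1 : g ≠ 1 := fun h => by rw [h, orderOf_one] at hg2; norm_num at hg2
    have hc : ((Finset.univ : Finset Ω) \ {x, y}).card = N - 2 := by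
      rw [Finset.card_sdiff_of_subset (Finset.subset_univ _), Finset.card_univ, Finset.card_pair hxy]
    rw [← hc]
    refine Finset.card_le_card_of_injOn (fun w => (g, (w, g • w))) ?_ (fun w _ w' _ h => congrArg (fun u : G × (Ω × Ω) => u.2.1) h)
    intro w hw
    simp only [Finset.coe_sdiff, Finset.coe_univ, Finset.coe_insert, Finset.coe_singleton, Set.mem_diff, Set.mem_univ,
      true_and, Set.mem_insert_iff, Set.mem_singleton_iff, not_or] at hw
    have hne : w ≠ g • w := fun h => hg1 (h3 g x y w hxy (Ne.symm hw.2) (Ne.symm hw.1) hx hy h.symm)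
    refine Finset.mem_filter.2 ⟨Finset.mem_filter.2 ⟨Finset.mem_product.2 ⟨hg, Finset.mem_filter.2 ⟨Finset.mem_univ _, hne⟩⟩,
      rfl, ?_⟩, rfl⟩
    show g • g • w = w
    rw [← mul_smul, ← sq, ← hg2, pow_orderOf_eq_one, one_smul]
  have hSd : S.card ≤ d * P.card := by
    refine Finset.card_le_mul_card_image_of_maps_to (f := fun u => u.2) (t := P) (fun u hu =>
      (Finset.mem_product.1 (Finset.mem_filter.1 hu).1).2) d ?_
    rintro ⟨x, y⟩ hq
    obtain ⟨g, hg1, hg2⟩ : ∃ g : G, g • x = a ∧ g • y = b := h2' (hPc _ hq) hab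
    obtain ⟨w, hw1, hw2⟩ := h2' hab (Ne.symm hab)
    -- send an element of the fibre to an element of the two point stabiliser
    have hd : d = Fintype.card ↥(MulAction.stabilizer G a ⊓ MulAction.stabilizer G b) := Nat.card_eq_fintype_card
    rw [hd, ← Finset.card_univ]
    have hmem : ∀ u ∈ S.filter (fun u => u.2 = (x, y)), w * (g * u.1 * g⁻¹) ∈ MulAction.stabilizer G a ⊓ MulAction.stabilizer G b := by
      rintro ⟨s, q⟩ hu
      obtain ⟨hu1, rfl : q = (x, y)⟩ := Finset.mem_filter.1 hu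
      obtain ⟨-, hs1, hs2⟩ := Finset.mem_filter.1 hu1
      have hs1' : s • x = y := hs1
      have hs2' : s • y = x := hs2
      refine ⟨?_, ?_⟩
      · show (w * (g * s * g⁻¹)) • a = a
        rw [mul_smul, mul_smul, mul_smul, inv_smul_eq_iff.2 hg1.symm, hs1', hg2, hw2]
      · show (w * (g * s * g⁻¹)) • b = b
        rw [mul_smul, mul_smul, mul_smul, inv_smul_eq_iff.2 hg2.symm, hs2', hg1, hw1]
    refine Finset.card_le_card_of_injOn (fun u => if h : _ then ⟨w * (g * u.1 * g⁻¹), h⟩ else 1) (fun u _ => Finset.mem_univ _) ?_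
    intro u hu u' hu' h
    simp only [dif_pos (hmem u hu), dif_pos (hmem u' hu'), Subtype.mk.injEq, mul_right_inj, mul_left_inj] at h
    exact Prod.ext h ((Finset.mem_filter.1 hu).2.trans (Finset.mem_filter.1 hu').2.symm)
  have hPpos : 0 < P.card := Finset.card_pos.2 ⟨(a, b), Finset.mem_filter.2 ⟨Finset.mem_univ _, hab⟩⟩
  refine Nat.le_of_mul_le_mul_right ?_ hPpos
  calc (N - 2) * P.card ≤ (N - 2) * (T.card * 2) := Nat.mul_le_mul_left _ (hF.trans hfibF)
    _ = 2 * (T.card * (N - 2)) := by ring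
    _ ≤ 2 * (d * P.card) := Nat.mul_le_mul_left _ (hfibS.trans hSd)
    _ = 2 * d * P.card := by ring

end Cfsg.Agent.S0741
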