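import Cfsg.Statements.S0742
import Cfsg.Agent.Zassenhaus.PSL
import Cfsg.Agent.S0741
-- import your own Cfsg.Agent.* helpers here

set_option autoImplicit false
open Cfsg

namespace Cfsg.Agent.S0742

/-- A finite Zassenhaus group of degree `n + 1` with two-point stabilisers of even order `d` satisfying `2d ≤ n - 1` has `n = p^f` for an odd prime `p` and is isomorphic to `PSL(2, p^f)`. -/
theorem result {G Ω : Type*} [Group G] [Finite G] [MulAction G Ω] [Fintype Ω] (hZ : Cfsg.IsZassenhausGroup G Ω) {a b : Ω} (hab : a ≠ b) (heven : Even (Nat.card ↥(MulAction.stabilizer G a ⊓ MulAction.stabilizer G b))) (hd : 2 * Nat.card ↥(MulAction.stabilizer G a ⊓ MulAction.stabilizer G b) ≤ Fintype.card Ω - 2) : ∃ (p f : ℕ) (K : Type) (_ : Field K) (_ : Fintype K), p.Prime ∧ p ≠ 2 ∧ Fintype.card K = p ^ f ∧ Fintype.card Ω = p ^ f + 1 ∧ Nonempty (G ≃* Matrix.ProjectiveSpecialLinearGroup (Fin 2) K) := by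
  classical
  have h := S0741.result hZ hab heven
  obtain ⟨hf, h2, h3, -, -⟩ := hZ
  have C : Zassenhaus.ZCtx G Ω :=
    ⟨fun {x y u v} h h' => MulAction.is_two_pretransitive_iff.1 h2 h h', h3⟩
  have hpos : 0 < Nat.card ↥(MulAction.stabilizer G a ⊓ MulAction.stabilizer G b) := Nat.card_pos
  obtain ⟨j, hj⟩ := heven
  obtain ⟨p, f, K, iK, iFK, hp, hp2, hK, hO, hiso⟩ := C.identify
    (by rw [Nat.card_eq_fintype_card (α := Ω)]; omega) hab ⟨j, hj⟩
    (by rw [Nat.card_eq_fintype_card (α := Ω)]; show 2 * Nat.card ↥(MulAction.stabilizer G a ⊓ MulAction.stabilizer G b) + 2 = _; omega)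
  exact ⟨p, f, K, iK, iFK, hp, hp2, hK, by rw [← Nat.card_eq_fintype_card]; exact hO, hiso⟩

end Cfsg.Agent.S0742
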