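import Cfsg.Statements.S0606
import Cfsg.Agent.Thompson.Basic

set_option autoImplicit false
open Cfsg

namespace Cfsg.Agent.S0606

theorem card_sup_mul_card_inf_of_le_normalizer {G : Type*} [Group G] {H N : Subgroup G}
    (h : H ≤ Subgroup.normalizer (N : Set G)) :
    Nat.card (H ⊔ N : Subgroup G) * Nat.card (H ⊓ N : Subgroup G) = Nat.card H * Nat.card N := by
  have hle : H ⊔ N ≤ Subgroup.normalizer (N : Set G) := sup_le h Subgroup.le_normalizer
  have hn : (N.subgroupOf (H ⊔ N)).Normal := Subgroup.normal_subgroupOf_of_le_normalizer hle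
  have key := Core.card_sup_mul_card_inf (H.subgroupOf (H ⊔ N)) (N.subgroupOf (H ⊔ N))
  rw [← Subgroup.subgroupOf_sup le_sup_left le_sup_right] at key
  rw [Nat.card_congr (Subgroup.subgroupOfEquivOfLe (le_refl (H ⊔ N))).toEquiv,
    Nat.card_congr (Subgroup.subgroupOfEquivOfLe (le_sup_left : H ≤ H ⊔ N)).toEquiv,
    Nat.card_congr (Subgroup.subgroupOfEquivOfLe (le_sup_right : N ≤ H ⊔ N)).toEquiv] at key
  rw [← key]
  congr 1
  exact (Nat.card_congr (Subgroup.subgroupOfEquivOfLe
    (inf_le_left.trans le_sup_left : H ⊓ N ≤ H ⊔ N)).toEquiv).symm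


/-- Elementary abelian p-subgroups of maximal order are best offenders on any normal elementary abelian p-subgroup. -/
theorem result {G : Type*} [Group G] [Finite G] {p : ℕ} [Fact p.Prime] (V : Subgroup G) [V.Normal] (hV : Cfsg.IsElementaryAbelian p V) (A : Subgroup G) (hA : A ∈ Cfsg.maxElementaryAbelianSubgroups p G) : Cfsg.IsBestOffenderOn p V A := by
  obtain ⟨hAc, hAp⟩ := Thompson.ea_iff.1 hA.1
  refine ⟨fun B hB => ?_, ?_, fun a ha => by rw [hAp a ha]; exact one_mem _⟩
  · set C := V ⊓ Subgroup.centralizer (B : Set G) with hC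
    have hBC : B ≤ Subgroup.normalizer (C : Set G) := by
      refine le_trans ?_ (Subgroup.centralizer_le_normalizer (C : Set G))
      rw [Subgroup.le_centralizer_iff]
      exact inf_le_right
    have hCe : Cfsg.IsElementaryAbelian p C := Thompson.ea_mono hV inf_le_left
    have hcomm : B ≤ Subgroup.centralizer (C : Set G) := by
      rw [Subgroup.le_centralizer_iff]; exact inf_le_right
    have h1 : Nat.card ↥(B ⊔ C) * Nat.card ↥(B ⊓ C) = Nat.card B * Nat.card C :=
      card_sup_mul_card_inf_of_le_normalizer hBC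
    have h2 : Nat.card ↥(B ⊔ C) ≤ Nat.card A :=
      hA.2 _ (Thompson.ea_sup (Thompson.ea_mono hA.1 hB) hCe hcomm)
    have h3 : Nat.card ↥(B ⊓ C) ≤ Nat.card ↥(V ⊓ Subgroup.centralizer (A : Set G)) :=
      Subgroup.card_le_of_le (le_inf (inf_le_right.trans inf_le_left)
        ((inf_le_left.trans hB).trans hAc))
    rw [← h1]
    exact Nat.mul_le_mul h2 h3
  · refine le_trans ?_ bot_le
    rw [le_bot_iff, Subgroup.commutator_eq_bot_iff_le_centralizer]
    exact hAc

end Cfsg.Agent.S0606
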