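import Cfsg.Statements.S0607
import Cfsg.Agent.Thompson.Replacement
import Mathlib.Tactic.Group
open scoped commutatorElement

set_option autoImplicit false
open Cfsg

namespace Cfsg.Agent.S0607

/-- The replacement Theorem for the Thompson subgroup: from A of maximal order among elementary abelian p-subgroups one obtains A₀ = [V, A] C_A([V, A]) of the same kind, quadratic on V and nontrivial on V when A is. -/
theorem result {G : Type*} [Group G] [Finite G] {p : ℕ} [Fact p.Prime] (V : Subgroup G) [V.Normal] (hV : Cfsg.IsElementaryAbelian p V) (A : Subgroup G) (hA : A ∈ Cfsg.maxElementaryAbelianSubgroups p G) : (⁅V, A⁆ ⊔ (A ⊓ Subgroup.centralizer ((⁅V, A⁆ : Subgroup G) : Set G))) ∈ Cfsg.maxElementaryAbelianSubgroups p G ∧ ⁅⁅V, ⁅V, A⁆ ⊔ (A ⊓ Subgroup.centralizer ((⁅V, A⁆ : Subgroup G) : Set G))⁆, ⁅V, A⁆ ⊔ (A ⊓ Subgroup.centralizer ((⁅V, A⁆ : Subgroup G) : Set G))⁆ = ⊥ ∧ (⁅V, A⁆ ≠ ⊥ → ⁅V, ⁅V, A⁆ ⊔ (A ⊓ Subgroup.centralizer ((⁅V, A⁆ : Subgroup G) : Set G))⁆ ≠ ⊥)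 := by
  obtain ⟨⟨hBA, hAVB, hBeq⟩, hfix⟩ := Cfsg.Agent.Thompson.attains_centralizer_commutator V hV hA
  have hAc := (Cfsg.Agent.Thompson.ea_iff.1 hA.1).1
  have hVc := (Cfsg.Agent.Thompson.ea_iff.1 hV).1
  set U := ⁅V, A⁆ with hU
  set B := A ⊓ Subgroup.centralizer (U : Set G) with hB
  have hUV : U ≤ V := Subgroup.commutator_le_left V A
  have hUB : U ≤ Subgroup.centralizer (B : Set G) := Subgroup.le_centralizer_iff.1 inf_le_right
  set A₀ := U ⊔ B with hA₀
  have hA₀ea : Cfsg.IsElementaryAbelian p A₀ :=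
    Cfsg.Agent.Thompson.ea_sup (Cfsg.Agent.Thompson.ea_mono hV hUV)
      (Cfsg.Agent.Thompson.ea_mono hA.1 hBA) hUB
  set c := V ⊓ Subgroup.centralizer (B : Set G) with hc
  -- `U ⊔ B` is the product of `B` with its fixed points
  have hsup : c ⊔ B = A₀ := by
    rw [hfix, hA₀, sup_assoc, sup_eq_right.2 hAVB]
  have hinf : Nat.card (c ⊓ B : Subgroup G) ≤ Nat.card (A ⊓ V : Subgroup G) :=
    Subgroup.card_le_of_le (le_inf (inf_le_right.trans hBA) (inf_le_left.trans inf_le_left))
  have hcard : Nat.card A ≤ Nat.card A₀ := by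
    have h1 := Cfsg.Agent.Thompson.card_sup_mul_card_inf_of_comm
      (inf_le_right : c ≤ Subgroup.centralizer (B : Set G))
    rw [hsup, mul_comm (Nat.card c), hBeq] at h1
    refine Nat.le_of_mul_le_mul_right ?_ (Nat.card_pos (α := (A ⊓ V : Subgroup G)))
    rw [← h1]
    exact Nat.mul_le_mul_left _ hinf
  have hA₀c : A₀ ≤ Subgroup.centralizer (U : Set G) :=
    sup_le ((hUV.trans hVc).trans (Subgroup.centralizer_le hUV)) inf_le_right
  have hle : ⁅V, A₀⁆ ≤ U := by
    rw [Subgroup.commutator_le]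
    intro v hv z hz
    rw [hA₀, ← SetLike.mem_coe, Subgroup.coe_mul_of_left_le_normalizer_right _ _
      (hUB.trans (Subgroup.centralizer_le_normalizer _))] at hz
    obtain ⟨u, hu, b, hb, rfl⟩ := hz
    have hvu : ⁅v, u⁆ = 1 :=
      commutatorElement_eq_one_iff_mul_comm.2
        (Subgroup.mem_centralizer_iff.1 (hVc (hUV hu)) v hv)
    have e : ⁅v, u * b⁆ = ⁅v, u⁆ * (u * ⁅v, b⁆ * u⁻¹) := by
      simp only [commutatorElement_def]; group
    rw [e, hvu, one_mul]
    exact U.mul_mem (U.mul_mem hu (Subgroup.commutator_mem_commutator hv (hBA hb))) (U.inv_mem hu)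
  refine ⟨⟨hA₀ea, fun X hX => (hA.2 X hX).trans hcard⟩, ?_, ?_⟩
  · rw [eq_bot_iff, Subgroup.commutator_le]
    intro x hx y hy
    rw [Subgroup.mem_bot, commutatorElement_eq_one_iff_mul_comm]
    exact (Subgroup.mem_centralizer_iff.1 (hA₀c hy) x (hle hx))
  · intro hne h0
    apply hne
    have hBV : V ≤ Subgroup.centralizer (B : Set G) :=
      Subgroup.commutator_eq_bot_iff_le_centralizer.1
        (le_bot_iff.1 ((Subgroup.commutator_mono le_rfl (le_sup_right : B ≤ A₀)).trans h0.le))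
    have hVeq : V = U ⊔ (A ⊓ V) := by rw [← hfix, hc, inf_eq_left.2 hBV]
    have hUA : U ≤ ⁅U, A⁆ := by
      conv_lhs => rw [hU]
      rw [Subgroup.commutator_le]
      intro v hv a ha
      rw [hVeq] at hv
      have hnorm : U ≤ Subgroup.normalizer ((A ⊓ V : Subgroup G) : Set G) :=
        ((hUV.trans hVc).trans (Subgroup.centralizer_le inf_le_right)).trans
          (Subgroup.centralizer_le_normalizer _)
      rw [← SetLike.mem_coe, Subgroup.coe_mul_of_left_le_normalizer_right _ _ hnorm] at hv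
      obtain ⟨u, hu, w, hw, rfl⟩ := hv
      have hwa : ⁅w, a⁆ = 1 :=
        commutatorElement_eq_one_iff_mul_comm.2
          (Subgroup.mem_centralizer_iff.1 (hAc ha) w hw.1)
      have e : ⁅u * w, a⁆ = u * ⁅w, a⁆ * u⁻¹ * ⁅u, a⁆ := by
        simp only [commutatorElement_def]; group
      rw [e, hwa, mul_one, mul_inv_cancel, one_mul]
      exact Subgroup.commutator_mem_commutator hu ha
    set P := V ⊔ A with hP
    have hPp : IsPGroup p P :=
      IsPGroup.to_sup_of_normal_left (Cfsg.Agent.Thompson.ea_isPGroup hV)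
        (Cfsg.Agent.Thompson.ea_isPGroup hA.1)
    obtain ⟨n, hn⟩ := (Subgroup.isNilpotent_iff_lowerCentralSeries (S := P)).1 hPp.isNilpotent
    have hser : ∀ k, U ≤ P.lowerCentralSeries k := by
      intro k
      induction k with
      | zero => exact hUV.trans le_sup_left
      | succ k ih =>
        rw [Subgroup.lowerCentralSeries_succ]
        exact hUA.trans (Subgroup.commutator_mono ih le_sup_right)
    exact le_bot_iff.1 (hn ▸ hser n)

end Cfsg.Agent.S0607
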