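import Cfsg.Statements.S0541
import Cfsg.Agent.Core.Zipper
import Cfsg.Agent.Core.SystemNormalizer
-- import your own Cfsg.Agent.* helpers here

set_option autoImplicit false
open Pointwise
open Cfsg

namespace Cfsg.Agent.S0541

theorem isSubnormal_of_nilpotent {G : Type*} [Group G] [Finite G] [Group.IsNilpotent G]
    (H : Subgroup G) : H.IsSubnormal := by
  suffices h : ∀ n (H : Subgroup G), H.index = n → H.IsSubnormal from h _ H rfl
  intro n
  induction n using Nat.strong_induction_on with
  | _ n ih =>
    intro H hn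
    by_cases ht : H = ⊤
    · subst ht; exact Subgroup.IsSubnormal.top
    have hlt := Group.normalizerCondition_of_isNilpotent (G := G) H (lt_top_iff_ne_top.mpr ht)
    exact Subgroup.IsSubnormal.step H _ Subgroup.le_normalizer
      (ih _ (hn ▸ Subgroup.index_strictAnti hlt) _ rfl) Subgroup.normal_in_normalizer

open scoped Pointwise in
theorem smul_iSup' {G : Type*} [Group G] {ι : Sort*} (g : G) (f : ι → Subgroup G) :
    MulAut.conj g • (⨆ i, f i) = ⨆ i, MulAut.conj g • f i := Subgroup.map_iSup _ _

/-- Let Z and Y be subgroups of a finite group G and p a prime. Suppose that for every g in G the subgroup generated by the conjugates of g Z g⁻¹ under Y is a p-group. Then there is a Sylow p-subgroup P of G such that Y normalizes the subgroup generated by all conjugates of Z contained in P. -/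
theorem result {G : Type*} [Group G] [Finite G] (p : ℕ) [Fact p.Prime] (Z Y : Subgroup G) (h : ∀ g : G, IsPGroup p ↥(⨆ y ∈ Y, MulAut.conj (y * g) • Z)) : ∃ P : Sylow p G, Y ≤ Subgroup.normalizer ((⨆ g ∈ {g : G | MulAut.conj g • Z ≤ (P : Subgroup G)}, MulAut.conj g • Z : Subgroup G) : Set G) := by
  classical
  let gens : Subgroup G → Subgroup G := fun W =>
    ⨆ g ∈ {g : G | MulAut.conj g • Z ≤ W}, MulAut.conj g • Z
  have gens_le : ∀ W, gens W ≤ W := fun W => iSup₂_le fun g hg => hg
  have gens_mono : ∀ W W', W ≤ W' → gens W ≤ gens W' := fun W W' hWW => iSup₂_le fun g hg =>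
    le_iSup₂ (f := fun g (_ : g ∈ {g : G | MulAut.conj g • Z ≤ W'}) => MulAut.conj g • Z) g
      (le_trans (show MulAut.conj g • Z ≤ W from hg) hWW)
  have gens_ge : ∀ W g, MulAut.conj g • Z ≤ W → MulAut.conj g • Z ≤ gens W := fun W g hg =>
    le_iSup₂ (f := fun g (_ : g ∈ {g : G | MulAut.conj g • Z ≤ W}) => MulAut.conj g • Z) g hg
  let S : Set (Subgroup G) := {W | gens W = W ∧ IsPGroup p W ∧ Y ≤ Subgroup.normalizer (W : Set G)}
  have hne : (gens ⊥) ∈ S := by
    have e : gens ⊥ = ⊥ := le_bot_iff.mp (gens_le ⊥)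
    rw [e]
    exact ⟨e, IsPGroup.of_bot, by rw [Subgroup.normalizer_eq_top]; exact le_top⟩
  obtain ⟨W, hW, hmax⟩ := (Set.toFinite S).exists_maximal ⟨_, hne⟩
  obtain ⟨hgen, hpW, hYW⟩ := hW
  obtain ⟨P, hP⟩ := hpW.exists_le_sylow
  refine ⟨P, ?_⟩
  suffices h' : gens (P : Subgroup G) = W by
    show Y ≤ Subgroup.normalizer ((gens (P : Subgroup G) : Subgroup G) : Set G)
    rwa [h']
  -- every conjugate of `Z` in `P` normalizing `W` lies in `W`
  have key : ∀ g : G, MulAut.conj g • Z ≤ (P : Subgroup G) →
      MulAut.conj g • Z ≤ Subgroup.normalizer (W : Set G) → MulAut.conj g • Z ≤ W := by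
    intro g _ hgN
    set U : Subgroup G := ⨆ y ∈ Y, MulAut.conj (y * g) • Z with hU
    have hUN : U ≤ Subgroup.normalizer (W : Set G) := iSup₂_le fun y hy => by
      rw [map_mul, mul_smul]
      exact (Core.conj_le_of_le hgN).trans
        (Coprime.conj_smul_le_self (Subgroup.le_normalizer (hYW hy)) le_rfl)
    have hgU : MulAut.conj g • Z ≤ U := by
      refine le_trans ?_ (le_iSup₂ (f := fun y _ => MulAut.conj (y * g) • Z) 1 Y.one_mem)
      rw [one_mul]
    have hin : W ⊔ U ∈ S := by
      refine ⟨le_antisymm (gens_le _) (sup_le (hgen.ge.trans (gens_mono _ _ le_sup_left)) ?_),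
        hpW.to_sup_of_normal_left' (h g) hUN, ?_⟩
      · exact iSup₂_le fun y hy => gens_ge _ _ (le_sup_of_le_right
          (le_iSup₂ (f := fun y _ => MulAut.conj (y * g) • Z) y hy))
      · intro y hy
        refine Coprime.mem_normalizer_of_conj_smul_eq (le_antisymm ?_ ?_)
        · rw [Subgroup.smul_sup]
          refine sup_le_sup (Coprime.conj_smul_eq_self_of_mem_normalizer (hYW hy)).le ?_
          rw [hU]
          simp only [smul_iSup']
          refine iSup₂_le fun z hz => ?_
          rw [← mul_smul, ← map_mul, ← mul_assoc]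
          exact le_iSup₂ (f := fun y _ => MulAut.conj (y * g) • Z) (y * z) (Y.mul_mem hy hz)
        · rw [← Subgroup.pointwise_smul_le_pointwise_smul_iff (a := MulAut.conj y⁻¹), map_inv, inv_smul_smul, Subgroup.smul_sup, ← map_inv]
          refine sup_le_sup (Coprime.conj_smul_eq_self_of_mem_normalizer (hYW (Y.inv_mem hy))).le ?_
          rw [hU]
          simp only [smul_iSup']
          refine iSup₂_le fun z hz => ?_
          rw [← mul_smul, ← map_mul, ← mul_assoc]
          exact le_iSup₂ (f := fun w _ => MulAut.conj (w * g) • Z) (y⁻¹ * z)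
            (Y.mul_mem (Y.inv_mem hy) hz)
    exact hgU.trans (le_sup_right.trans (hmax hin le_sup_left))
  set W' := gens (P : Subgroup G) with hW'
  have hWW' : W ≤ W' := hgen.ge.trans (gens_mono _ _ hP)
  have hN : W' ≤ Subgroup.normalizer (W : Set G) := by
    by_contra hnot
    have hsub : (W.subgroupOf W').IsSubnormal := by
      have := (P.isPGroup'.to_le (gens_le (P : Subgroup G))).isNilpotent
      exact isSubnormal_of_nilpotent _
    obtain ⟨x, hx, hxN, hle⟩ := Core.exists_conj_le_normalizer_within hWW' hsub hnot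
    apply hxN
    refine Coprime.mem_normalizer_of_conj_smul_eq (Subgroup.eq_of_le_of_card_ge ?_
      (Coprime.card_conj_smul x W).ge)
    conv_lhs => rw [← hgen]
    simp only [gens, smul_iSup']
    refine iSup₂_le fun g hg => ?_
    rw [← mul_smul, ← map_mul]
    have h1 : MulAut.conj (x * g) • Z ≤ MulAut.conj x • W := by
      rw [map_mul, mul_smul]; exact Core.conj_le_of_le hg
    refine key _ (h1.trans ?_) (h1.trans hle)
    exact (Core.conj_le_of_le hP).trans (Core.conj_smul_eq_self_of_mem (gens_le _ hx)).le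
  refine le_antisymm (iSup₂_le fun g hg => key g hg ?_) hWW'
  exact (gens_ge _ g hg).trans hN

end Cfsg.Agent.S0541
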