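import Cfsg.Statements.S0129
import Cfsg.Agent.Fusion.PGroup

set_option autoImplicit false
open Cfsg

open scoped commutatorElement

namespace Cfsg.Agent.S0129

theorem le_centralizer_aux {G : Type*} [Group G] (M : Subgroup G) (x g : G)
    (hg : g ∈ Subgroup.centralizer (M : Set G)) (hx : x * g = g * x) :
    g ∈ Subgroup.centralizer ((M ⊔ Subgroup.zpowers x : Subgroup G) : Set G) := by
  refine Subgroup.zpowers_le.mp (Subgroup.le_centralizer_iff.mp (sup_le ?_ ?_))
  · exact Subgroup.le_centralizer_iff.mp (Subgroup.zpowers_le.mpr hg)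
  · rw [Subgroup.zpowers_le, Subgroup.mem_centralizer_iff]
    intro y hy
    obtain ⟨k, rfl⟩ := Subgroup.mem_zpowers_iff.mp hy
    exact ((show Commute x g from hx).zpow_right k).eq.symm

theorem index_centralizer_dvd {G : Type*} [Group G] [Finite G] {p : ℕ} [Fact p.Prime]
    (hG : IsPGroup p G) : ∀ (i : ℕ) (L : Subgroup G), L.Normal → Nat.card L = p ^ i →
      (Subgroup.centralizer (L : Set G)).index ≤ p ^ (i * (i - 1) / 2) := by
  intro i
  induction i with
  | zero =>
    intro L _ hL
    have : L = ⊥ := Subgroup.card_eq_one.mp (by simpa using hL)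
    subst this
    rw [show Subgroup.centralizer ((⊥ : Subgroup G) : Set G) = ⊤ from top_le_iff.mp fun x _ =>
      Subgroup.mem_centralizer_iff.mpr fun y hy => by
        rw [SetLike.mem_coe, Subgroup.mem_bot] at hy; simp [hy]]
    simp
  | succ i ih =>
    intro L hLn hL
    have hi : p ^ i ≤ Nat.card L :=
      hL ▸ Nat.pow_le_pow_right (Fact.out : p.Prime).pos i.le_succ
    obtain ⟨M, hMn, hML, hMc⟩ := Fusion.exists_normal_le_card_eq hG L hi
    have hlt : M < L := lt_of_le_of_ne hML fun e => by
      rw [← e, hMc] at hL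
      exact Nat.ne_of_lt (Nat.pow_lt_pow_succ (Fact.out : p.Prime).one_lt) hL
    obtain ⟨L', -, hML', hL'L, hL'c, hcomm⟩ := Fusion.exists_normal_card_succ hG M L hlt
    have hLL : L' = L :=
      Subgroup.eq_of_le_of_card_ge hL'L (by rw [hL'c, hMc, hL, pow_succ'])
    rw [hLL] at hcomm hL'c
    obtain ⟨x, hxL, hxM⟩ := SetLike.exists_of_lt hlt
    -- `L` is generated by `M` and `x`
    have hgen : M ⊔ Subgroup.zpowers x = L := by
      refine Subgroup.eq_of_le_of_card_ge (sup_le hML (Subgroup.zpowers_le.mpr hxL)) ?_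
      obtain ⟨k, hk⟩ := Subgroup.card_dvd_of_le (le_sup_left : M ≤ M ⊔ Subgroup.zpowers x)
      have hd := Subgroup.card_dvd_of_le
        (sup_le hML (Subgroup.zpowers_le.mpr hxL) : M ⊔ Subgroup.zpowers x ≤ L)
      rw [hk, hL'c, mul_comm p] at hd
      rcases (Nat.dvd_prime (Fact.out : p.Prime)).mp
        ((Nat.mul_dvd_mul_iff_left Nat.card_pos).mp hd) with rfl | rfl
      · rw [mul_one] at hk
        exact absurd ((Subgroup.eq_of_le_of_card_ge le_sup_left hk.le).ge
          (Subgroup.mem_sup_right (Subgroup.mem_zpowers x))) hxM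
      · rw [hL'c, hk, mul_comm]
    set C' := Subgroup.centralizer (M : Set G)
    set C := Subgroup.centralizer (L : Set G) with hC
    have hCC : C ≤ C' := Subgroup.centralizer_le hML
    have hrel : C.relIndex C' ≤ p ^ i := by
      rw [← hMc, Subgroup.relIndex, Subgroup.index_eq_card]
      refine Nat.card_le_card_of_injective
        (fun q => (⟨⁅x, ((Quotient.out q : C') : G)⁆,
          hcomm (Subgroup.commutator_mem_commutator hxL (Subgroup.mem_top _))⟩ : M)) ?_
      intro q r hqr
      have he : ⁅x, ((Quotient.out q : C') : G)⁆ = ⁅x, ((Quotient.out r : C') : G)⁆ :=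
        congrArg (fun w : M => (w : G)) hqr
      set u : G := ((Quotient.out q : C') : G) with hu
      set v : G := ((Quotient.out r : C') : G) with hv
      rw [← Quotient.out_eq q, ← Quotient.out_eq r]
      refine QuotientGroup.eq.mpr ?_
      rw [Subgroup.mem_subgroupOf, Subgroup.coe_mul, Subgroup.coe_inv, ← hu, ← hv, hC, ← hgen]
      have hcx : x * (u⁻¹ * v) = u⁻¹ * v * x := by
        simp only [commutatorElement_def] at he
        have h2 : u * x⁻¹ * u⁻¹ = v * x⁻¹ * v⁻¹ :=
          mul_left_cancel (a := x) (by simpa [mul_assoc] using he)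
        calc x * (u⁻¹ * v) = u⁻¹ * (u * x⁻¹ * u⁻¹)⁻¹ * v := by group
          _ = u⁻¹ * (v * x⁻¹ * v⁻¹)⁻¹ * v := by rw [h2]
          _ = u⁻¹ * v * x := by group
      have hmem : u⁻¹ * v ∈ C' :=
        mul_mem (inv_mem (Quotient.out q).2) (Quotient.out r).2
      refine (le_centralizer_aux M x _ hmem hcx : _)
    calc C.index = C.relIndex C' * C'.index := (Subgroup.relIndex_mul_index hCC).symm
      _ ≤ p ^ i * p ^ (i * (i - 1) / 2) := Nat.mul_le_mul hrel (ih M hMn hMc)
      _ = p ^ ((i + 1) * (i + 1 - 1) / 2) := by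
        rw [← pow_add]
        congr 1
        rcases i with _ | i
        · rfl
        have : (i + 1 + 1) * (i + 1 + 1 - 1) = (i + 1) * (i + 1 - 1) + 2 * (i + 1) := by
          simp only [Nat.add_sub_cancel]; ring
        rw [this, Nat.add_mul_div_left _ _ (by norm_num : 0 < 2)]
        ring
/-- The order of a p-group is bounded by p^(a(a+1)/2) when it has a maximal normal abelian subgroup of order p^a. -/
theorem result {G : Type*} [Group G] [Finite G] {p : ℕ} [Fact p.Prime] (hG : IsPGroup p G) (A : Subgroup G) [A.Normal] (hA : IsMulCommutative A) (hmax : ∀ B : Subgroup G, B.Normal → IsMulCommutative B → A ≤ B → B = A) (a : ℕ) (ha : Nat.card A = p ^ a) : Nat.card G ≤ p ^ (a * (a + 1) / 2) := by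
  have hC := Fusion.centralizer_eq_of_maximal_normal_abelian hG A hA hmax
  have h1 := index_centralizer_dvd hG a A inferInstance ha
  rw [hC] at h1
  rw [← A.card_mul_index, ha]
  refine (Nat.mul_le_mul_left _ h1).trans_eq ?_
  rw [← pow_add]
  congr 1
  rcases a with _ | a
  · rfl
  have : (a + 1) * (a + 1 + 1) = (a + 1) * (a + 1 - 1) + 2 * (a + 1) := by
    simp only [Nat.add_sub_cancel]; ring
  rw [this, Nat.add_mul_div_left _ _ (by norm_num : 0 < 2)]
  ring

end Cfsg.Agent.S0129
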