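import Cfsg.Statements.S0640
import Cfsg.Agent.Fusion.RankTwoAut

set_option autoImplicit false
open Cfsg

namespace Cfsg.Agent.S0640

set_option maxHeartbeats 400000

/-- For odd p, a prime q ≠ p dividing the order of the automorphism group of a p-group of rank at most 2 divides p² - 1 and is less than p. -/
theorem result {R : Type*} [Group R] [Finite R] {p : ℕ} [Fact p.Prime] (hp : p ≠ 2) (hR : IsPGroup p R) (hrk : Cfsg.PRankLE p 2 R) (q : ℕ) (hq : q.Prime) (hqp : q ≠ p) (hdvd : q ∣ Nat.card (MulAut R)) : q ∣ p ^ 2 - 1 ∧ q < p := by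
  have hpp : p.Prime := Fact.out
  haveI : Fact q.Prime := ⟨hq⟩
  obtain ⟨V, instG, instF, hc, hexp, hcard, ρ, hρ⟩ := Fusion.exists_rank_two_action hp hR hrk
  obtain ⟨a, ha⟩ := exists_prime_orderOf_dvd_card' q hdvd
  have ha1 : ρ a ≠ 1 := fun e => by
    have h1 := hρ a (by rw [ha]; exact (Nat.coprime_primes hq hpp).mpr hqp) e
    rw [h1, orderOf_one] at ha
    exact hq.one_lt.ne ha
  set b := ρ a with hb
  have hbp : IsPGroup q (Subgroup.zpowers b) := IsPGroup.of_card_dvd_pow (n := 1) (by
    rw [Nat.card_zpowers, pow_one]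
    exact ha ▸ orderOf_map_dvd ρ a)
  let F : Subgroup V :=
    { carrier := {x | b x = x}
      mul_mem' := fun {x y} hx hy => by
        simp only [Set.mem_ofPred_eq, map_mul] at hx hy ⊢
        rw [hx, hy]
      one_mem' := map_one b
      inv_mem' := fun {x} hx => by
        simp only [Set.mem_ofPred_eq, map_inv] at hx ⊢
        rw [hx] }
  have hfix : ∀ x : V, x ∈ MulAction.fixedPoints (Subgroup.zpowers b) V ↔ x ∈ F := by
    intro x
    constructor
    · intro hx
      exact hx ⟨b, Subgroup.mem_zpowers b⟩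
    · rintro hx ⟨c, hc'⟩
      have : Subgroup.zpowers b ≤ MulAction.stabilizer (MulAut V) x := by
        rw [Subgroup.zpowers_le]; exact hx
      exact this hc'
  have hmod := hbp.card_modEq_card_fixedPoints V
  rw [show Nat.card (MulAction.fixedPoints (Subgroup.zpowers b) V) = Nat.card F from
    Nat.card_congr (Equiv.subtypeEquivRight hfix)] at hmod
  have hV : IsPGroup p V := fun x => ⟨1, by rw [pow_one]; exact hexp x⟩
  obtain ⟨i, hi⟩ := IsPGroup.iff_card.mp hV
  obtain ⟨j, hj⟩ := IsPGroup.iff_card.mp (hV.to_subgroup F)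
  have hji : j < i := by
    rcases lt_or_ge j i with h | h
    · exact h
    · exfalso
      have hF : F = ⊤ := F.eq_top_of_le_card (by rw [hi, hj]; exact Nat.pow_le_pow_right hpp.pos h)
      exact ha1 (MulEquiv.ext fun x => (hF ▸ Subgroup.mem_top x : x ∈ F))
  have hi2 : i ≤ 2 := (Nat.pow_le_pow_iff_right hpp.one_lt).mp (hi ▸ hcard)
  rw [hi, hj] at hmod
  have hd : q ∣ p ^ j * (p ^ (i - j) - 1) := by
    rw [Nat.mul_sub, mul_one, ← pow_add, show j + (i - j) = i by omega]
    exact (Nat.modEq_iff_dvd' (Nat.pow_le_pow_right hpp.pos hji.le)).mp hmod.symm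
  have hd' : q ∣ p ^ (i - j) - 1 :=
    (Nat.Coprime.pow_right j ((Nat.coprime_primes hq hpp).mpr hqp)).dvd_of_dvd_mul_left hd
  have hd2 : q ∣ p ^ 2 - 1 := by
    rcases (show i - j = 1 ∨ i - j = 2 by omega) with h | h
    · rw [h, pow_one] at hd'
      refine hd'.trans ⟨p + 1, ?_⟩
      zify [hpp.one_lt.le, Nat.one_le_pow 2 p hpp.pos]
      ring
    · rwa [h] at hd'
  refine ⟨hd2, ?_⟩
  have h3 : q ∣ (p - 1) * (p + 1) := by
    rwa [show (p - 1) * (p + 1) = p ^ 2 - 1 by zify [hpp.one_lt.le, Nat.one_le_pow 2 p hpp.pos]; ring]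
  rcases hq.dvd_mul.mp h3 with h | h
  · have := Nat.le_of_dvd (by have := hpp.one_lt; omega) h
    have := hpp.one_lt
    omega
  · have hle := Nat.le_of_dvd (Nat.succ_pos p) h
    rcases Nat.lt_or_ge q (p + 1) with h4 | h4
    · omega
    · exfalso
      have hodd : Odd p := hpp.odd_of_ne_two hp
      have heq : q = p + 1 := by omega
      have he : Even q := by rw [heq]; exact hodd.add_one
      have := hq.even_iff.mp he
      have := hpp.one_lt
      omega

end Cfsg.Agent.S0640
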