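import Cfsg.Statements.S1451
import Cfsg.Agent.Fusion.RankQuot
import Cfsg.Agent.Fusion.OddAut
import Cfsg.Agent.Fusion.Frattini
import Cfsg.Agent.Embedded.RankCore
import Cfsg.Agent.Coprime.Hall
import Cfsg.Agent.Core.Fitting
import Cfsg.Agent.Coprime.PCoreTools
import Cfsg.Agent.S0640

set_option autoImplicit false
open Cfsg

namespace Cfsg.Agent.S1451

set_option maxHeartbeats 1000000
open Subgroup

universe u

variable {G : Type u} [Group G] [Finite G]

theorem le_of_coprime_index (H X : Subgroup G) [H.Normal] (h : (Nat.card X).Coprime H.index) :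
    X ≤ H := by
  intro x hx
  rw [← QuotientGroup.eq_one_iff]
  refine orderOf_eq_one_iff.mp (Nat.eq_one_of_dvd_coprimes h ?_ ?_)
  · exact (orderOf_map_dvd (QuotientGroup.mk' H) x).trans
      (Subgroup.orderOf_mk x hx ▸ orderOf_dvd_natCard _)
  · rw [index_eq_card]; exact orderOf_dvd_natCard _

theorem pRankLE_pCore {r : ℕ} [Fact r.Prime]
    (hr : Cfsg.RankLE 2 G ∨ Cfsg.RankLE 2 (Cfsg.fittingSubgroup G)) :
    Cfsg.PRankLE r 2 (Cfsg.pCore r G) := by
  rcases hr with h | h
  · exact Fusion.pRankLE_subgroup (h r Fact.out) _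
  · exact Embedded.pRankLE_mono (Core.pCore_le_fittingSubgroup r) (h r Fact.out)

theorem pCore_two_eq_bot (hodd : Odd (Nat.card G)) : Cfsg.pCore 2 G = ⊥ := by
  haveI : Fact (Nat.Prime 2) := ⟨Nat.prime_two⟩
  obtain ⟨n, hn⟩ := IsPGroup.iff_card.mp (Core.pCore_isPGroup (p := 2) (G := G))
  rcases n with _ | n
  · exact card_eq_one.mp (by simpa using hn)
  · exfalso
    have h1 : 2 ∣ Nat.card G := (dvd_pow_self 2 (Nat.succ_ne_zero n)).trans
      (hn ▸ card_subgroup_dvd_card _)
    exact (Nat.not_even_iff_odd.mpr hodd) (even_iff_two_dvd.mpr h1)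

theorem conjNormal_eq_one {r : ℕ} {x : G}
    (h : (MulAut.conjNormal x : MulAut (Cfsg.pCore r G)) = 1) :
    x ∈ centralizer (Cfsg.pCore r G : Set G) := mem_centralizer_iff.mpr fun y hy => by
  have h4 : x * y * x⁻¹ = y := by
    have h5 := congrArg (fun f : MulAut (Cfsg.pCore r G) => ((f ⟨y, hy⟩ : Cfsg.pCore r G) : G)) h
    simpa using h5
  rw [mul_inv_eq_iff_eq_mul] at h4
  exact h4.symm

theorem derived_centralizes [Group.IsSolvable G] (hodd : Odd (Nat.card G))
    (hr : Cfsg.RankLE 2 G ∨ Cfsg.RankLE 2 (Cfsg.fittingSubgroup G)) {r : ℕ} [hp : Fact r.Prime]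
    {x : G} (hx : x ∈ commutator G) (hxo : (orderOf x).Coprime r) :
    x ∈ centralizer (Cfsg.pCore r G : Set G) := by
  by_cases h2 : r = 2
  · subst h2
    rw [pCore_two_eq_bot hodd]
    exact mem_centralizer_iff.mpr fun y hy => by rw [mem_bot.mp hy]; simp
  obtain ⟨V, i1, i2, hc, hexp, hcard, ρ, hρ⟩ := Fusion.exists_rank_two_action h2
    (Core.pCore_isPGroup (p := r) (G := G)) (pRankLE_pCore hr)
  obtain ⟨k, hk⟩ := Fusion.exists_pow_eq_one_of_odd_aut h2 hc hexp hcard hodd
    (ρ.comp (MulAut.conjNormal (H := Cfsg.pCore r G))) x hx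
  refine conjNormal_eq_one (hρ _ (hxo.coprime_dvd_left (orderOf_map_dvd _ x)) ?_)
  refine orderOf_eq_one_iff.mp (Nat.eq_one_of_dvd_coprimes (hxo.pow_right k) ?_
    (orderOf_dvd_of_pow_eq_one hk))
  exact orderOf_map_dvd (ρ.comp (MulAut.conjNormal (H := Cfsg.pCore r G))) x

theorem large_centralizes (hodd : Odd (Nat.card G))
    (hr : Cfsg.RankLE 2 G ∨ Cfsg.RankLE 2 (Cfsg.fittingSubgroup G)) {r q : ℕ} [hp : Fact r.Prime]
    [hq : Fact q.Prime] (hrq : r < q) {x : G} {k : ℕ} (hx : x ^ q ^ k = 1) :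
    x ∈ centralizer (Cfsg.pCore r G : Set G) := by
  by_cases h2 : r = 2
  · subst h2
    rw [pCore_two_eq_bot hodd]
    exact mem_centralizer_iff.mpr fun y hy => by rw [mem_bot.mp hy]; simp
  refine conjNormal_eq_one ?_
  by_contra hne
  set a : MulAut (Cfsg.pCore r G) := MulAut.conjNormal x with ha
  obtain ⟨j, -, hj⟩ := (Nat.dvd_prime_pow hq.out).mp
    ((orderOf_map_dvd (MulAut.conjNormal (H := Cfsg.pCore r G)) x).trans
      (orderOf_dvd_of_pow_eq_one hx))
  rcases j with _ | j
  · exact hne (orderOf_eq_one_iff.mp (by rw [ha]; simpa using hj))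
  · have h1 : q ∣ Nat.card (MulAut (Cfsg.pCore r G)) :=
      ((dvd_pow_self q (Nat.succ_ne_zero j)).trans hj.symm.dvd).trans (orderOf_dvd_natCard _)
    have h3 := (S0640.result h2 (Core.pCore_isPGroup (p := r) (G := G)) (pRankLE_pCore hr) q hq.out
      hrq.ne' h1).2
    omega

theorem mem_pCore_of_mem_fitting {r : ℕ} [Fact r.Prime] {x : G}
    (hx : x ∈ Cfsg.fittingSubgroup G) (hxp : ∃ k : ℕ, x ^ r ^ k = 1) : x ∈ Cfsg.pCore r G := by
  haveI : Group.IsNilpotent (Cfsg.fittingSubgroup G) := Core.fittingSubgroup_isNilpotent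
  obtain ⟨P⟩ := (inferInstance : Nonempty (Sylow r (Cfsg.fittingSubgroup G)))
  haveI : (P : Subgroup (Cfsg.fittingSubgroup G)).Normal := inferInstance
  obtain ⟨k, hk⟩ := hxp
  have h1 : zpowers (⟨x, hx⟩ : Cfsg.fittingSubgroup G) ≤ (P : Subgroup (Cfsg.fittingSubgroup G)) := by
    refine le_of_coprime_index _ _ ?_
    rw [Nat.card_zpowers, Subgroup.orderOf_mk]
    exact (((Fact.out : r.Prime).coprime_iff_not_dvd.mpr P.not_dvd_index).pow_left k).coprime_dvd_left
      (orderOf_dvd_of_pow_eq_one hk)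
  have h2 : (P : Subgroup (Cfsg.fittingSubgroup G)).map (Cfsg.fittingSubgroup G).subtype ≤
      Cfsg.pCore r G := by
    rw [show (P : Subgroup (Cfsg.fittingSubgroup G)) = Cfsg.pCore r (Cfsg.fittingSubgroup G) from
      le_antisymm (Core.le_pCore P.isPGroup') (Core.pCore_le_sylow P), Core.map_pCore_normal]
    exact inf_le_left
  exact h2 ⟨_, zpowers_le.mp h1, rfl⟩

theorem le_of_forall_prime_power {H C : Subgroup G}
    (h : ∀ (q : ℕ) [Fact q.Prime], q ∣ Nat.card H → ∀ x ∈ H, (∃ k : ℕ, x ^ q ^ k = 1) → x ∈ C) :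
    H ≤ C := by
  rw [← subgroupOf_eq_top, ← index_eq_one]
  by_contra hne
  obtain ⟨q, hq, hqd⟩ := Nat.exists_prime_and_dvd hne
  haveI := Fact.mk hq
  obtain ⟨P⟩ := (inferInstance : Nonempty (Sylow q H))
  have hPC : (P : Subgroup H) ≤ C.subgroupOf H := fun x hx => by
    obtain ⟨k, hk⟩ := P.2 ⟨x, hx⟩
    exact h q (hqd.trans (index_dvd_card _)) x x.2 ⟨k, congrArg (fun y : (P : Subgroup H) => ((y : H) : G)) hk⟩
  exact P.not_dvd_index (hqd.trans (index_dvd_of_le hPC))

theorem commutator_le_fitting [Group.IsSolvable G] (hodd : Odd (Nat.card G))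
    (hr : Cfsg.RankLE 2 G ∨ Cfsg.RankLE 2 (Cfsg.fittingSubgroup G)) :
    commutator G ≤ Cfsg.fittingSubgroup G := by
  refine le_of_forall_prime_power fun q hq _ x hx hxq => ?_
  set W := commutator G ⊓ ⨅ r : Nat.Primes, ⨅ _ : (r : ℕ) ≠ q,
    centralizer (Cfsg.pCore (r : ℕ) G : Set G) with hW
  haveI : W.Normal := inferInstance
  have hcen : ∀ (r : Nat.Primes), (r : ℕ) ≠ q → ∀ y : W, (∃ k, y ^ (r : ℕ) ^ k = 1) →
      y ∈ center W := by
    intro r hrq y ⟨k, hk⟩
    haveI := Fact.mk r.2
    have hy : (y : G) ∈ commutator G := (mem_inf.mp y.2).1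
    have hyW : ∀ s : Nat.Primes, (s : ℕ) ≠ q → (y : G) ∈ centralizer (Cfsg.pCore (s : ℕ) G : Set G) := by
      intro s hs
      have := (mem_inf.mp y.2).2
      simp only [mem_iInf] at this
      exact this s hs
    have hk' : (y : G) ^ (r : ℕ) ^ k = 1 := congrArg Subtype.val hk
    have hyC : (y : G) ∈ centralizer (Cfsg.fittingSubgroup G : Set G) := by
      rw [← zpowers_le, le_centralizer_iff, Core.fittingSubgroup_eq_iSup_pCore]
      refine iSup_le fun s => ?_
      rw [← le_centralizer_iff, zpowers_le]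
      by_cases hs : (s : ℕ) = q
      · haveI := Fact.mk s.2
        refine derived_centralizes hodd hr hy ?_
        exact (((Nat.coprime_primes r.2 s.2).mpr (hs ▸ hrq)).pow_left k).coprime_dvd_left
          (orderOf_dvd_of_pow_eq_one hk')
      · exact hyW s hs
    have hyO := mem_pCore_of_mem_fitting (Core.centralizer_fittingSubgroup_le hyC) ⟨k, hk'⟩
    rw [mem_center_iff]
    intro w
    apply Subtype.ext
    have hw := (mem_inf.mp w.2).2
    simp only [mem_iInf] at hw
    exact (mem_centralizer_iff.mp (hw r hrq) (y : G) hyO).symm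
  have hWnil : Group.IsNilpotent W := by
    refine Group.of_quotient_center_nilpotent ?_
    refine IsPGroup.isNilpotent (p := q) (IsPGroup.of_card
      (Nat.eq_prime_pow_of_unique_prime_dvd Nat.card_pos.ne' ?_))
    intro r hr' hrd
    by_contra hrq
    haveI := Fact.mk hr'
    obtain ⟨P⟩ := (inferInstance : Nonempty (Sylow r W))
    refine P.not_dvd_index (hrd.trans ?_)
    rw [← index_eq_card]
    refine index_dvd_of_le fun y hy => hcen ⟨r, hr'⟩ hrq y ?_
    obtain ⟨k, hk⟩ := P.2 ⟨y, hy⟩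
    exact ⟨k, congrArg Subtype.val hk⟩
  refine Core.le_fittingSubgroup hWnil (mem_inf.mpr ⟨hx, ?_⟩)
  simp only [mem_iInf]
  intro r hrq
  haveI := Fact.mk r.2
  obtain ⟨k, hk⟩ := hxq
  exact derived_centralizes hodd hr hx
    ((((Nat.coprime_primes (Fact.out : q.Prime) r.2).mpr hrq.symm).pow_left k).coprime_dvd_left
      (orderOf_dvd_of_pow_eq_one hk))

/-- Let G be a solvable group of odd order such that G, or its Fitting subgroup, has no elementary abelian subgroup of order q ^ 3 for any prime q. Then G' is nilpotent; for every Sylow subgroup S of G, every characteristic subgroup T of S with T ≤ [S, S] is normal in G; and for every prime p, G has a characteristic subgroup that is a Hall subgroup for the set of primes greater than p. -/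
theorem result {G : Type*} [Group G] [Finite G] [Group.IsSolvable G] (hodd : Odd (Nat.card G)) (hr : Cfsg.RankLE 2 G ∨ Cfsg.RankLE 2 (Cfsg.fittingSubgroup G)) :
    Group.IsNilpotent ↥(commutator G) ∧
      (∀ (q : ℕ) [Fact q.Prime] (S : Sylow q G) (T : Subgroup ↥(S : Subgroup G)), T.Characteristic → T.map (S : Subgroup G).subtype ≤ ⁅(S : Subgroup G), (S : Subgroup G)⁆ →
        (T.map (S : Subgroup G).subtype).Normal) ∧
      ∀ p : ℕ, ∃ N : Subgroup G, N.Characteristic ∧ Cfsg.IsPiHall {q | q.Prime ∧ p < q} N := by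
  have hG' := commutator_le_fitting hodd hr
  haveI : Group.IsNilpotent (Cfsg.fittingSubgroup G) := Core.fittingSubgroup_isNilpotent
  refine ⟨Subgroup.isNilpotent_of_ker_le_center (Subgroup.inclusion hG') (by rw [(MonoidHom.ker_eq_bot_iff _).mpr (Subgroup.inclusion_injective hG')]; exact bot_le),
    fun q _ S T hT hTle => ?_, fun p => ?_⟩
  · set T' := T.map (S : Subgroup G).subtype with hT'
    have hTS : T' ≤ (S : Subgroup G) := map_subtype_le _
    have hNS : normalizer ((S : Subgroup G) : Set G) ≤ normalizer (T' : Set G) :=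
      Coprime.le_normalizer_map_of_characteristic le_rfl T hT
    set M := Cfsg.fittingSubgroup G ⊔ (S : Subgroup G) with hM
    haveI : M.Normal := Normal.of_commutator_le G (hG'.trans le_sup_left)
    have hfr : normalizer ((S : Subgroup G) : Set G) ⊔ M = ⊤ := by
      have := Fusion.normalizer_sylow_inf_sup_eq_top S M
      rwa [inf_eq_left.mpr le_sup_right] at this
    have hTO : T' ≤ Cfsg.pCore q G := by
      intro t ht
      refine mem_pCore_of_mem_fitting (hG' (Subgroup.commutator_mono le_top le_top (hTle ht))) ?_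
      obtain ⟨k, hk⟩ := S.2 ⟨t, hTS ht⟩
      exact ⟨k, congrArg Subtype.val hk⟩
    have hFN : Cfsg.fittingSubgroup G ≤ normalizer (T' : Set G) := by
      rw [Core.fittingSubgroup_eq_iSup_pCore]
      refine iSup_le fun r => ?_
      haveI := Fact.mk r.2
      by_cases hrq : (r : ℕ) = q
      · rw [hrq]
        exact (Core.pCore_le_sylow S).trans (Subgroup.le_normalizer.trans hNS)
      · refine le_trans ?_ (centralizer_le_normalizer _)
        rw [le_centralizer_iff]
        refine hTO.trans fun y hy => mem_centralizer_iff.mpr fun z hz => ?_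
        exact commute_of_normal_of_disjoint _ _ inferInstance inferInstance
          (IsPGroup.disjoint_of_ne (r : ℕ) q hrq _ _ Core.pCore_isPGroup Core.pCore_isPGroup) z y hz hy
    refine normalizer_eq_top_iff.mp (top_le_iff.mp (hfr.ge.trans (sup_le hNS (sup_le hFN ?_))))
    exact Subgroup.le_normalizer.trans hNS
  · obtain ⟨H, -, hH1, hH2⟩ := Coprime.exists_isPiHallOf (K := (⊤ : Subgroup G)) inferInstance
      {q | q.Prime ∧ p < q}
    simp only [relIndex_top_right] at hH2
    have hcop : (Nat.card H).Coprime H.index :=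
      Nat.coprime_of_dvd fun r hr' h1 h2 => hH2 r hr' (hH1 r hr' h1) h2
    have hFN : Cfsg.fittingSubgroup G ≤ normalizer (H : Set G) := by
      rw [Core.fittingSubgroup_eq_iSup_pCore]
      refine iSup_le fun r => ?_
      haveI := Fact.mk r.2
      by_cases hrp : p < (r : ℕ)
      · refine le_trans ?_ Subgroup.le_normalizer
        have h1 : H.relIndex (H ⊔ Cfsg.pCore (r : ℕ) G) ∣ Nat.card (Cfsg.pCore (r : ℕ) G) := by
          refine Dvd.intro (Nat.card (H ⊓ Cfsg.pCore (r : ℕ) G : Subgroup G)) ?_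
          have h1 := Core.card_sup_mul_card_inf H (Cfsg.pCore (r : ℕ) G)
          rw [← relIndex_bot_left (H := H ⊔ Cfsg.pCore (r : ℕ) G),
            ← relIndex_mul_relIndex _ _ _ bot_le (le_sup_left : H ≤ H ⊔ Cfsg.pCore (r : ℕ) G),
            relIndex_bot_left, mul_assoc] at h1
          exact Nat.eq_of_mul_eq_mul_left Nat.card_pos h1
        obtain ⟨m, hm⟩ := IsPGroup.iff_card.mp (Core.pCore_isPGroup (p := (r : ℕ)) (G := G))
        rw [hm] at h1
        have h2 : H.relIndex (H ⊔ Cfsg.pCore (r : ℕ) G) ∣ H.index :=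
          Dvd.intro _ (relIndex_mul_index (le_sup_left : H ≤ H ⊔ Cfsg.pCore (r : ℕ) G))
        exact le_sup_right.trans (relIndex_eq_one.mp (Nat.eq_one_of_dvd_coprimes
          ((r.2.coprime_iff_not_dvd.mpr (hH2 r r.2 ⟨r.2, hrp⟩)).pow_left m) h1 h2))
      · refine le_trans ?_ (centralizer_le_normalizer _)
        rw [le_centralizer_iff]
        refine le_of_forall_prime_power fun q hq hqH x _ ⟨k, hk⟩ => ?_
        have hpq : p < q := (hH1 q hq.out hqH).2
        exact large_centralizes hodd hr (show (r : ℕ) < q by omega) hk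
    set M := Cfsg.fittingSubgroup G ⊔ H with hM
    haveI : M.Normal := Normal.of_commutator_le G (hG'.trans le_sup_left)
    have hHM : H ≤ M := le_sup_right
    haveI : (H.subgroupOf M).Normal :=
      (normal_subgroupOf_iff_le_normalizer hHM).mpr (sup_le hFN Subgroup.le_normalizer)
    haveI hHn : H.Normal := ⟨fun h hh g => by
      have hm : g * h * g⁻¹ ∈ M := (inferInstance : M.Normal).conj_mem h (hHM hh) g
      have h1 : zpowers (⟨g * h * g⁻¹, hm⟩ : M) ≤ H.subgroupOf M := by
        refine le_of_coprime_index _ _ ?_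
        rw [Nat.card_zpowers, Subgroup.orderOf_mk]
        refine (hcop.coprime_dvd_left ?_).coprime_dvd_right (Dvd.intro _ (relIndex_mul_index hHM))
        rw [show g * h * g⁻¹ = MulAut.conj g h from rfl, MulEquiv.orderOf_eq]
        exact Subgroup.orderOf_mk h hh ▸ orderOf_dvd_natCard _
      exact mem_subgroupOf.mp (zpowers_le.mp h1)⟩
    refine ⟨H, ?_, hH1, hH2⟩
    rw [characteristic_iff_map_le]
    intro φ
    refine le_of_coprime_index _ _ ?_
    rwa [card_map_of_injective (f := φ.toMonoidHom) φ.injective]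

end Cfsg.Agent.S1451
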