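import Cfsg.Statements.S0873
import Cfsg.Agent.Char.Linear
import Mathlib.GroupTheory.PGroup

set_option autoImplicit false
open Cfsg

namespace Cfsg.Agent.S0873

/-- Let C be a normal subgroup of the finite group G of order prime to p and P a p-subgroup with C ⊔ P = G. Let λ be a character of C of degree 1 invariant under conjugation by G and equal to 1 at every element of C centralized by P. Then λ is identically 1. -/
theorem result {G : Type*} [Group G] [Finite G] (p : ℕ) [Fact p.Prime] (C P : Subgroup G) [hC : C.Normal] (hP : IsPGroup p P) (hcop : Nat.Coprime (Nat.card C) p) (hCP : C ⊔ P = ⊤) (lam : C → ℂ) (hlam : Cfsg.IsCharacter C lam ∧ lam 1 = 1) (hinv : ∀ (g : G) (c : C), lam ⟨g * c * g⁻¹, hC.conj_mem (c : G) c.2 g⟩ = lam c) (hker : ∀ c : C, (c : G) ∈ Subgroup.centralizer (P : Set G) → lam c = 1) : lam = fun _ => 1 := by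
  obtain ⟨f, rfl⟩ := Cfsg.Agent.Char.IsChar.exists_hom hlam.1 hlam.2
  have hf : ∀ (g : G) (c : C), f ⟨g * c * g⁻¹, hC.conj_mem (c : G) c.2 g⟩ = f c :=
    fun g c => Units.ext (hinv g c)
  funext c
  -- the fibre of `f` through `c` is stable under `P`
  let X := {d : C // f d = f c}
  letI : MulAction P X :=
    { smul := fun x d => ⟨⟨(x : G) * (d.1 : G) * (x : G)⁻¹, hC.conj_mem _ d.1.2 _⟩, (hf _ _).trans d.2⟩
      one_smul := fun d => Subtype.ext (Subtype.ext (show ((1 : P) : G) * _ * _ = _ by simp))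
      mul_smul := fun x y d => Subtype.ext (Subtype.ext (show ((x * y : P) : G) * _ * _ = (x : G) * ((y : G) * _ * _) * _ by
        simp [mul_assoc])) }
  have hX : Nat.card X = Nat.card f.ker := Nat.card_congr
    { toFun := fun d => ⟨c⁻¹ * d.1, by simp [MonoidHom.mem_ker, d.2]⟩
      invFun := fun k => ⟨c * k.1, by rw [map_mul, MonoidHom.mem_ker.mp k.2, mul_one]⟩
      left_inv := fun d => by simp
      right_inv := fun k => by simp }
  have hp : ¬ p ∣ Nat.card X := by
    intro h
    rw [hX] at h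
    have h2 : p ∣ Nat.card C := h.trans (Subgroup.card_subgroup_dvd_card _)
    exact (Fact.out : p.Prime).not_dvd_one (hcop ▸ Nat.dvd_gcd h2 dvd_rfl)
  obtain ⟨d, hd⟩ := hP.nonempty_fixed_point_of_prime_not_dvd_card X hp
  have hdc : (d.1 : G) ∈ Subgroup.centralizer (P : Set G) := by
    rw [Subgroup.mem_centralizer_iff]
    intro x hx
    have h1 : (x : G) * (d.1 : G) * x⁻¹ = d.1 :=
      congrArg (fun e : X => ((e.1 : C) : G)) (MulAction.mem_fixedPoints.mp hd ⟨x, hx⟩)
    calc x * (d.1 : G) = x * (d.1 : G) * x⁻¹ * x := by group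
      _ = d.1 * x := by rw [h1]
  have := hker d.1 hdc
  simp only at this ⊢
  rw [d.2] at this
  exact this

end Cfsg.Agent.S0873
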