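import Cfsg.Statements.S0947
import Cfsg.Agent.Blocks.Rank
import Cfsg.Agent.Blocks.Principal

set_option autoImplicit false
open Cfsg

namespace Cfsg.Agent.S0947

/-- Let z ≠ 1 be a p-element of the finite group G with centralizer H, and fix a maximal ideal M of the algebraic integers containing p. (i) For every y ∈ H of order prime to p, the sum over ζ in the principal block of G of |ζ (z * y)|² equals the sum over χ in the principal block of H of |χ y|². (ii) If moreover H has a normal p-complement (its largest normal subgroup of order prime to p has p-power index), that common value is the largest power of p dividing the order of H. -/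
theorem result {G : Type*} [Group G] [Finite G] (p : ℕ) [Fact p.Prime] (M : Ideal Cfsg.AlgInt) (hM : Cfsg.IsPModular p M) (z : G) (hz : ∃ k : ℕ, orderOf z = p ^ k) (hz1 : z ≠ 1) (y : Subgroup.centralizer ({z} : Set G)) (hy : ¬ p ∣ orderOf y) : (∑ᶠ ζ ∈ Cfsg.principalBlock M G, ‖(ζ : G → ℂ) (z * (y : G))‖ ^ 2 = ∑ᶠ χ ∈ Cfsg.principalBlock M (Subgroup.centralizer ({z} : Set G)), ‖(χ : Subgroup.centralizer ({z} : Set G) → ℂ) y‖ ^ 2) ∧ ((∃ k : ℕ, (Cfsg.pPrimeCore p (Subgroup.centralizer ({z} : Set G))).index = p ^ k) → ∑ᶠ ζ ∈ Cfsg.principalBlock M G, ‖(ζ : G → ℂ) (z * (y : G))‖ ^ 2 = ((p ^ (Nat.card (Subgroup.centralizer ({z} : Set G))).factorization p : ℕ) : ℝ)) := by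
  classical
  have := Fintype.ofFinite G
  have hp : p.Prime := Fact.out
  obtain ⟨k, hk⟩ := hz
  have hP : IsPGroup p (Subgroup.zpowers z) :=
    IsPGroup.of_card (n := k) (by rw [Nat.card_zpowers, hk])
  have hH' : ∀ c : G, c ∈ (Subgroup.centralizer ({z} : Set G)) ↔ ∀ u ∈ Subgroup.zpowers z, u * c = c * u := by
    intro c
    rw [Blocks.mem_centralizer_iff_comm]
    exact ⟨fun h u ⟨i, hi⟩ => hi ▸ ((show Commute z c from h).zpow_left i).eq,
      fun h => h z (Subgroup.mem_zpowers z)⟩
  have hB := Blocks.isPBlock_principalBlock (G := G) M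
  have hnorm : ∀ w : ℂ, ((‖w‖ ^ 2 : ℝ) : ℂ) = w * starRingEnd ℂ w := fun w => by
    rw [Complex.mul_conj']; push_cast; rfl
  have hi : ∑ᶠ ζ ∈ Cfsg.principalBlock M G, ‖(ζ : G → ℂ) (z * (y : G))‖ ^ 2 =
      ∑ᶠ χ ∈ Cfsg.principalBlock M (Subgroup.centralizer ({z} : Set G)), ‖(χ : (Subgroup.centralizer ({z} : Set G)) → ℂ) y‖ ^ 2 := by
    have h := Blocks.section_identity hM ⟨k, hk⟩ (Blocks.mem_centralizer_iff_comm z) hB hy hy
    rw [Blocks.inducing_principalBlock hM hP hH'] at h
    simp only [finsum_mem_eq_finite_toFinset_sum _ (Set.toFinite _)] at h ⊢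
    simp only [← hnorm, ← Complex.ofReal_sum] at h
    exact Complex.ofReal_injective h
  refine ⟨hi, fun hidx => ?_⟩
  rw [hi]
  set K := Cfsg.pPrimeCore p (Subgroup.centralizer ({z} : Set G)) with hKdef
  have hK : ¬ p ∣ Nat.card K := Core.not_dvd_card_pPrimeCore
  have hKn : K.Normal := inferInstance
  have hyK : y ∈ K := by
    obtain ⟨j, hj⟩ := hidx
    have h1 : y ^ K.index ∈ K := K.pow_index_mem y
    rw [hj] at h1
    obtain ⟨m, hm⟩ := exists_pow_eq_self_of_coprime
      (n := p ^ j) (x := y) ((hp.coprime_iff_not_dvd.2 hy).pow_left j)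
    rw [← hm]
    exact pow_mem h1 m
  have hcard : K.index = p ^ (Nat.card (Subgroup.centralizer ({z} : Set G))).factorization p := by
    obtain ⟨j, hj⟩ := hidx
    have h1 := congrArg (fun n => n.factorization p) (Subgroup.card_mul_index K)
    simp only [Nat.factorization_mul Nat.card_pos.ne' (Subgroup.index_ne_zero_of_finite),
      Finsupp.coe_add, Pi.add_apply, Nat.factorization_eq_zero_of_not_dvd hK, zero_add] at h1
    rw [← h1, hj, hp.factorization_pow, Finsupp.single_eq_same]
  -- values of members of the principal block on `K`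
  have hval : ∀ χ ∈ Cfsg.principalBlock M (Subgroup.centralizer ({z} : Set G)), (χ : (Subgroup.centralizer ({z} : Set G)) → ℂ) y = (χ : (Subgroup.centralizer ({z} : Set G)) → ℂ) 1 := by
    intro χ hχ
    have hc := Char.IsIrr.isCharacter χ.2
    have h1 : Blocks.omega (χ : (Subgroup.centralizer ({z} : Set G)) → ℂ) (Cfsg.blockCoeff (Cfsg.principalBlock M (Subgroup.centralizer ({z} : Set G)))) = 1 := by
      rw [Blocks.omega_blockCoeff, if_pos hχ]
    rw [Blocks.omega, div_eq_one_iff_eq (Char.IsIrr.one_ne_zero χ.2)] at h1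
    have hKne : (Nat.card K : ℂ) ≠ 0 := Nat.cast_ne_zero.2 Nat.card_pos.ne'
    have h2 : ∑ w ∈ Finset.univ.filter (· ∈ K), (χ : (Subgroup.centralizer ({z} : Set G)) → ℂ) w =
        (Nat.card K : ℂ) * (χ : (Subgroup.centralizer ({z} : Set G)) → ℂ) 1 := by
      rw [← h1, Finset.mul_sum, Finset.sum_filter]
      refine Finset.sum_congr rfl fun w _ => ?_
      rw [Blocks.blockCoeff_principalBlock_of_complement hM K hK hidx w]
      by_cases hw : w ∈ K
      · rw [if_pos hw, if_pos hw, mul_inv_cancel_left₀ hKne]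
      · rw [if_neg hw, if_neg hw, zero_mul, mul_zero]
    exact Blocks.char_eq_degree_of_sum_eq hc K h2 hyK
  apply Complex.ofReal_injective
  rw [finsum_mem_eq_finite_toFinset_sum _ (Set.toFinite _), Complex.ofReal_sum,
    Finset.sum_congr rfl fun χ hχ => by
      rw [hnorm, hval χ ((Set.Finite.mem_toFinset _).1 hχ)]]
  have he := Blocks.blockCoeff_principalBlock_of_complement hM K hK hidx (1 : (Subgroup.centralizer ({z} : Set G)))
  rw [Cfsg.blockCoeff, if_pos (one_mem K), finsum_mem_eq_finite_toFinset_sum _ (Set.toFinite _),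
    inv_mul_eq_iff_eq_mul₀ (Nat.cast_ne_zero.2 Nat.card_pos.ne')] at he
  rw [he, ← hcard, ← Subgroup.card_mul_index K]
  push_cast
  field_simp [Nat.cast_ne_zero (R := ℂ) |>.2 (Nat.card_pos (α := K)).ne']

end Cfsg.Agent.S0947
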