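import Cfsg.Statements.S5005
import Mathlib
import Cfsg.Agent.BlockApp.MathieuCommute
import Cfsg.Agent.Compute.Mathieu
import Cfsg.Agent.BlockChar.DefectCount
import Cfsg.Agent.BlockChar.DegreeSum
import Cfsg.Agent.CharArith.Central
import Cfsg.Agent.Char.Ortho

/-!
All irreducible characters of M22 lie in one 2-block: by fixed points the centralizers of the
nontrivial elements of odd order have Sylow 2-subgroups of order at most 4, so the degrees outside
the principal block are divisible by 32; the Sylow subgroups of order 5, 7, 11 leave 160 and 384.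
-/

set_option autoImplicit false
open Cfsg

namespace Cfsg.Agent.S5005

open scoped ComplexConjugate
open Cfsg.Agent Cfsg.Agent.Blocks Cfsg.Agent.BlockApp

/-- the group -/
abbrev G := ↥Cfsg.Spor.M22

theorem card_G : Nat.card G = 443520 := Compute.card_m22

theorem mem_M24 (g : G) : (g : Equiv.Perm GolayPt) ∈ M24 := g.2.1.1

theorem fix_none (g : G) : (g : Equiv.Perm GolayPt) none = none := g.2.1.2

theorem fix_zero (g : G) : (g : Equiv.Perm GolayPt) (some 0) = some 0 := g.2.2

theorem two_le_inter (x y : G) :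
    2 ≤ (MathieuCommute.fx (x : Equiv.Perm GolayPt) ∩ MathieuCommute.fx (y : Equiv.Perm GolayPt)).card := by
  calc 2 = ({none, some 0} : Finset GolayPt).card := by simp
    _ ≤ _ := Finset.card_le_card (by
      intro p hp
      simp only [Finset.mem_insert, Finset.mem_singleton] at hp
      rcases hp with rfl | rfl <;>
        simp [MathieuCommute.mem_fx, fix_none, fix_zero])

theorem prime_cases {q : ℕ} (hq : q.Prime) (h : q ∣ 443520) :
    q = 2 ∨ q = 3 ∨ q = 5 ∨ q = 7 ∨ q = 11 := by
  rw [show (443520 : ℕ) = 2 ^ 7 * 3 ^ 2 * 5 * 7 * 11 by norm_num] at h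
  rcases hq.dvd_mul.1 h with h | h
  · rcases hq.dvd_mul.1 h with h | h
    · rcases hq.dvd_mul.1 h with h | h
      · rcases hq.dvd_mul.1 h with h | h
        · exact Or.inl ((Nat.prime_dvd_prime_iff_eq hq Nat.prime_two).1 (hq.dvd_of_dvd_pow h))
        · exact Or.inr (Or.inl
            ((Nat.prime_dvd_prime_iff_eq hq Nat.prime_three).1 (hq.dvd_of_dvd_pow h)))
      · exact Or.inr (Or.inr (Or.inl ((Nat.prime_dvd_prime_iff_eq hq (by norm_num)).1 h)))
    · exact Or.inr (Or.inr (Or.inr (Or.inl ((Nat.prime_dvd_prime_iff_eq hq (by norm_num)).1 h))))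
  · exact Or.inr (Or.inr (Or.inr (Or.inr ((Nat.prime_dvd_prime_iff_eq hq (by norm_num)).1 h))))

theorem fix_count (x : G) {q : ℕ} (hq : q.Prime) (ho : orderOf x = q) :
    (q, (MathieuCommute.fx (x : Equiv.Perm GolayPt)).card) ∈
      [(2, 8), (3, 6), (5, 4), (7, 3), (11, 2)] := by
  have := Fact.mk hq
  obtain ⟨h2, h3, h5, h7, h11, -⟩ := MathieuCommute.card_fx (mem_M24 x) (q := q)
    (by rw [Subgroup.orderOf_coe, ho])
  have h0 := two_le_inter x x
  rw [Finset.inter_self] at h0
  rcases prime_cases hq (ho ▸ card_G ▸ orderOf_dvd_natCard x) with rfl | rfl | rfl | rfl | rfl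
  · rcases h2 rfl with h | h
    · simp [h]
    · omega
  · rcases h3 rfl with h | h
    · simp [h]
    · omega
  · simp [h5 rfl]
  · simp [h7 rfl]
  · simp [h11 rfl]

set_option synthInstance.maxSize 4000 in
theorem pair_table : ∀ a ∈ ([(2, 8), (3, 6), (5, 4), (7, 3), (11, 2)] : List (ℕ × ℕ)),
    ∀ b ∈ ([(2, 8), (3, 6), (5, 4), (7, 3), (11, 2)] : List (ℕ × ℕ)), a.1 ≠ b.1 →
      ∀ j : ℕ, j < 9 → 2 ≤ j → j ≤ a.2 → j ≤ b.2 → j % b.1 = a.2 % b.1 → j % a.1 = b.2 % a.1 →
        ((a.1 = 2 ∧ b.1 = 3) ∨ (a.1 = 3 ∧ b.1 = 2)) := by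
  decide +kernel

/-- Commuting elements of two prime orders have the orders 2 and 3. -/
theorem pair (x y : G) (hc : Commute x y) {q r : ℕ} (hq : q.Prime) (hr : r.Prime)
    (hx : orderOf x = q) (hy : orderOf y = r) (hne : q ≠ r) :
    (q = 2 ∧ r = 3) ∨ (q = 3 ∧ r = 2) := by
  have := Fact.mk hq
  have := Fact.mk hr
  have hc' : Commute (x : Equiv.Perm GolayPt) (y : Equiv.Perm GolayPt) :=
    congrArg Subtype.val hc.eq
  obtain ⟨h1, h2, h3, h4⟩ := MathieuCommute.inter_data hc' (q := q) (r := r)
    (by rw [Subgroup.orderOf_coe, hx]) (by rw [Subgroup.orderOf_coe, hy])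
  have hqx := fix_count x hq hx
  have h9 : (MathieuCommute.fx (x : Equiv.Perm GolayPt)).card < 9 := by
    simp only [List.mem_cons, Prod.mk.injEq, List.not_mem_nil, or_false] at hqx
    omega
  exact pair_table _ hqx _ (fix_count y hr hy) hne _ (lt_of_le_of_lt h1 h9) (two_le_inter x y)
    h1 h2 h3 h4

theorem cent_prime {p : ℕ} [hp : Fact p.Prime] (hp5 : 5 ≤ p) (P : Sylow p G)
    (hcard : Nat.card (P : Subgroup G) = p) :
    Nat.card (Subgroup.centralizer (P : Set G)) = p := by
  classical
  obtain ⟨e, he⟩ : ∃ e, (Subgroup.centralizer (P : Set G)).relIndex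
      (Subgroup.normalizer (P : Set G)) = e := ⟨_, rfl⟩
  have hS : BlockThms.OrderP.Setup P e := ⟨hcard, he⟩
  obtain ⟨x, hx, -, hxo⟩ := hS.exists_gen
  have hfac := hS.factorization.1
  have hall : ∀ r : ℕ, r.Prime → r ∣ Nat.card (Subgroup.centralizer (P : Set G)) → r = p := by
    intro r hr hrd
    have := Fact.mk hr
    obtain ⟨z, hz⟩ := exists_prime_orderOf_dvd_card' r hrd
    by_contra hne
    rcases pair x (z : G) (Subgroup.mem_centralizer_iff.1 z.2 x hx) hp.out hr hxo
      (by rw [Subgroup.orderOf_coe, hz]) (Ne.symm hne) with ⟨h, -⟩ | ⟨h, -⟩ <;> omega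
  have h2 := Nat.eq_prime_pow_of_unique_prime_dvd Nat.card_pos.ne' fun {r} hr hrd => hall r hr hrd
  rw [h2, hp.out.factorization_pow, Finsupp.single_eq_same] at hfac
  rw [h2, hfac, pow_one]

set_option synthInstance.maxSize 4000 in
theorem count_table : ∀ q ∈ ([5, 7, 11] : List ℕ), ∀ e : ℕ, e < 11 → e ∣ q - 1 →
    (e * q) ∣ 443520 → (443520 / (e * q)) % q = 1 →
      (q = 5 ∧ e = 4) ∨ (q = 7 ∧ e = 3) ∨ (q = 11 ∧ e = 5) := by
  decide +kernel

theorem sylow_data {p : ℕ} [hp : Fact p.Prime] (hp3 : p = 5 ∨ p = 7 ∨ p = 11) (P : Sylow p G) :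
    ∃ e, BlockThms.OrderP.Setup P e ∧ Nat.card (Subgroup.centralizer (P : Set G)) = p ∧
      ((p = 5 ∧ e = 4) ∨ (p = 7 ∧ e = 3) ∨ (p = 11 ∧ e = 5)) ∧
      Nat.card (Sylow p G) * (e * p) = 443520 := by
  classical
  have hfac : (Nat.card G).factorization p = 1 := by
    rw [card_G]
    rcases hp3 with rfl | rfl | rfl
    · rw [show (443520 : ℕ) = 5 * 88704 by norm_num, Nat.factorization_mul (by norm_num)
        (by norm_num), Finsupp.add_apply, hp.out.factorization_self,
        Nat.factorization_eq_zero_of_not_dvd (by norm_num)]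
    · rw [show (443520 : ℕ) = 7 * 63360 by norm_num, Nat.factorization_mul (by norm_num)
        (by norm_num), Finsupp.add_apply, hp.out.factorization_self,
        Nat.factorization_eq_zero_of_not_dvd (by norm_num)]
    · rw [show (443520 : ℕ) = 11 * 40320 by norm_num, Nat.factorization_mul (by norm_num)
        (by norm_num), Finsupp.add_apply, hp.out.factorization_self,
        Nat.factorization_eq_zero_of_not_dvd (by norm_num)]
  have hcard : Nat.card (P : Subgroup G) = p := by rw [P.card_eq_multiplicity, hfac, pow_one]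
  obtain ⟨e, he⟩ : ∃ e, (Subgroup.centralizer (P : Set G)).relIndex
      (Subgroup.normalizer (P : Set G)) = e := ⟨_, rfl⟩
  have hS : BlockThms.OrderP.Setup P e := ⟨hcard, he⟩
  have hC := cent_prime (by omega) P hcard
  have hN := hS.card_normalizer
  rw [hC] at hN
  have hidx := Sylow.card_eq_index_normalizer P
  have hmul := Subgroup.card_mul_index (Subgroup.normalizer ((P : Subgroup G) : Set G))
  rw [show (Subgroup.normalizer ((P : Subgroup G) : Set G)).index = Nat.card (Sylow p G) from
    hidx.symm, card_G, show Nat.card (Subgroup.normalizer ((P : Subgroup G) : Set G)) = e * p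
    from hN] at hmul
  refine ⟨e, hS, hC, ?_, by rw [mul_comm]; exact hmul⟩
  have hle := Nat.le_of_dvd (by omega) hS.exists_y.1
  refine count_table p (by simp; omega) e (by omega) hS.exists_y.1 ⟨_, hmul.symm⟩ ?_
  rw [← hmul, Nat.mul_div_cancel_left _ (Nat.mul_pos hS.e_pos hp.out.pos)]
  have h1 := card_sylow_modEq_one p G
  rw [Nat.ModEq, Nat.one_mod_eq_one.2 hp.out.ne_one] at h1
  exact h1

theorem card_elements {p : ℕ} [hp : Fact p.Prime] (hp3 : p = 5 ∨ p = 7 ∨ p = 11) :
    Nat.card {g : G // orderOf g = p} = Nat.card (Sylow p G) * (p - 1) :=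
  PrimeData.card_orderOf fun Q => (sylow_data hp3 Q).choose_spec.1.card

/-! ### The centralizers of elements of odd order -/

theorem three_bound (y : G) (hy : orderOf y = 3) :
    (Nat.card (Subgroup.centralizer ({y} : Set G))).factorization 2 ≤ 2 := by
  classical
  have := Fact.mk Nat.prime_two
  have := Fact.mk Nat.prime_three
  let P : Sylow 2 (Subgroup.centralizer ({y} : Set G)) := default
  let F : Finset GolayPt := MathieuCommute.fx (y : Equiv.Perm GolayPt) \ {none, some 0}
  have hy6 : (MathieuCommute.fx (y : Equiv.Perm GolayPt)).card = 6 := by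
    simpa using fix_count y Nat.prime_three hy
  have hF : F.card = 4 := by
    rw [Finset.card_sdiff_of_subset, hy6]
    · simp
    · intro p hp
      simp only [Finset.mem_insert, Finset.mem_singleton] at hp
      rcases hp with rfl | rfl <;> simp [MathieuCommute.mem_fx, fix_none, fix_zero]
  obtain ⟨a, ha⟩ := Finset.card_pos.1 (show 0 < F.card by omega)
  have hcomm : ∀ u : Subgroup.centralizer ({y} : Set G),
      Commute ((u : G) : Equiv.Perm GolayPt) (y : Equiv.Perm GolayPt) := fun u =>
    congrArg Subtype.val (Subgroup.mem_centralizer_singleton_iff.1 u.2)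
  have hmap : ∀ u : Subgroup.centralizer ({y} : Set G),
      ((u : G) : Equiv.Perm GolayPt) a ∈ F := by
    intro u
    obtain ⟨h1, h2⟩ := Finset.mem_sdiff.1 ha
    refine Finset.mem_sdiff.2 ⟨?_, fun h => h2 ?_⟩
    · rw [MathieuCommute.mem_fx, ← Equiv.Perm.mul_apply, ← (hcomm u).eq, Equiv.Perm.mul_apply,
        MathieuCommute.mem_fx.1 h1]
    · simp only [Finset.mem_insert, Finset.mem_singleton] at h ⊢
      exact h.imp (fun h => ((u : G) : Equiv.Perm GolayPt).injective (h.trans (fix_none _).symm))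
        (fun h => ((u : G) : Equiv.Perm GolayPt).injective (h.trans (fix_zero _).symm))
  have hker : ∀ w : (P : Subgroup (Subgroup.centralizer ({y} : Set G))),
      (((w : Subgroup.centralizer ({y} : Set G)) : G) : Equiv.Perm GolayPt) a = a → w = 1 := by
    intro w hw
    by_contra hw1
    obtain ⟨k, hk⟩ := IsPGroup.iff_orderOf.1 P.isPGroup' w
    have hk0 : k ≠ 0 := fun h => hw1 (orderOf_eq_one_iff.1 (by rw [hk, h, pow_zero]))
    obtain ⟨m, rfl⟩ := Nat.exists_eq_succ_of_ne_zero hk0
    obtain ⟨t, ht⟩ : ∃ t : Subgroup.centralizer ({y} : Set G),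
        t = ((w : Subgroup.centralizer ({y} : Set G))) ^ (2 ^ m) := ⟨_, rfl⟩
    have ht2 : orderOf (t : G) = 2 := by
      rw [ht, Subgroup.orderOf_coe, orderOf_pow_of_dvd (pow_ne_zero _ two_ne_zero)
        (by rw [Subgroup.orderOf_coe, hk, pow_succ]; exact Dvd.intro _ rfl),
        Subgroup.orderOf_coe, hk, pow_succ, Nat.mul_div_cancel_left _ (by positivity)]
    have hta : ((t : G) : Equiv.Perm GolayPt) a = a := by
      rw [ht, SubgroupClass.coe_pow, SubgroupClass.coe_pow]
      exact Equiv.Perm.pow_apply_eq_self_of_apply_eq_self hw _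
    obtain ⟨h1, h2, h3, h4⟩ := MathieuCommute.inter_data (hcomm t) (q := 2) (r := 3)
      (by rw [Subgroup.orderOf_coe, ht2]) (by rw [Subgroup.orderOf_coe, hy])
    have ht8 : (MathieuCommute.fx ((t : G) : Equiv.Perm GolayPt)).card = 8 := by
      simpa using fix_count (t : G) Nat.prime_two ht2
    have h3' : 3 ≤ (MathieuCommute.fx ((t : G) : Equiv.Perm GolayPt) ∩
        MathieuCommute.fx (y : Equiv.Perm GolayPt)).card := by
      obtain ⟨hay, han⟩ := Finset.mem_sdiff.1 ha
      calc 3 = (insert a ({none, some 0} : Finset GolayPt)).card := by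
            rw [Finset.card_insert_of_notMem han]; simp
        _ ≤ _ := Finset.card_le_card (by
          intro p hp
          simp only [Finset.mem_insert, Finset.mem_singleton] at hp
          rcases hp with rfl | rfl | rfl
          · exact Finset.mem_inter.2 ⟨MathieuCommute.mem_fx.2 hta, hay⟩
          · simp [MathieuCommute.mem_fx, fix_none]
          · simp [MathieuCommute.mem_fx, fix_zero])
    omega
  have hinj : Function.Injective fun w : (P : Subgroup (Subgroup.centralizer ({y} : Set G))) =>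
      (⟨_, hmap w⟩ : {p // p ∈ F}) := by
    intro w v h
    have h' := congrArg Subtype.val h
    simp only at h'
    have := hker (v⁻¹ * w) (by
      simp only [Subgroup.coe_mul, Subgroup.coe_inv, Equiv.Perm.mul_apply]
      rw [h']
      simp)
    exact (inv_mul_eq_one.1 this).symm
  have h4 := Nat.card_le_card_of_injective _ hinj
  rw [Nat.card_eq_finsetCard, hF, P.card_eq_multiplicity] at h4
  exact (Nat.pow_le_pow_iff_right (le_refl 2)).1 (h4.trans_eq (by norm_num))

theorem regular_bound (x : G) (hx : ¬ 2 ∣ orderOf x) (hx1 : x ≠ 1) :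
    (Nat.card (Subgroup.centralizer ({x} : Set G))).factorization 2 ≤ 2 := by
  by_cases hev : 2 ∣ Nat.card (Subgroup.centralizer ({x} : Set G))
  swap
  · rw [Nat.factorization_eq_zero_of_not_dvd hev]; exact Nat.zero_le _
  obtain ⟨q, hq, hqd⟩ := Nat.exists_prime_and_dvd (fun h => hx1 (orderOf_eq_one_iff.1 h))
  have := Fact.mk Nat.prime_two
  obtain ⟨t, ht⟩ := exists_prime_orderOf_dvd_card' 2 hev
  obtain ⟨y, hyd⟩ : ∃ y, y = x ^ (orderOf x / q) := ⟨_, rfl⟩
  have hy : orderOf y = q := by
    rw [hyd]; exact orderOf_pow_orderOf_div (orderOf_pos x).ne' hqd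
  have hty : Commute (t : G) y := by
    rw [hyd]
    exact Commute.pow_right (Subgroup.mem_centralizer_singleton_iff.1 t.2) _
  have hne : 2 ≠ q := fun h => hx (h ▸ hqd)
  rcases pair _ _ hty Nat.prime_two hq (by rw [Subgroup.orderOf_coe, ht]) hy hne with ⟨-, rfl⟩ | ⟨h, -⟩
  · have hle : Subgroup.centralizer ({x} : Set G) ≤ Subgroup.centralizer ({y} : Set G) := by
      intro c hc
      rw [hyd, Subgroup.mem_centralizer_singleton_iff]
      exact ((show Commute c x from Subgroup.mem_centralizer_singleton_iff.1 hc).pow_right _).eq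
    exact (((Nat.factorization_le_iff_dvd Nat.card_pos.ne' Nat.card_pos.ne').2
      (Subgroup.card_dvd_of_le hle)) 2).trans (three_bound y hy)
  · omega

theorem fac_two : (443520 : ℕ).factorization 2 = 7 := by
  rw [show (443520 : ℕ) = 2 ^ 7 * 3465 by norm_num, Nat.factorization_mul (by norm_num)
    (by norm_num), Finsupp.add_apply, Nat.Prime.factorization_pow Nat.prime_two,
    Finsupp.single_eq_same, Nat.factorization_eq_zero_of_not_dvd (by norm_num)]

/-! ### The characters -/

theorem norm_sum [Fintype G] (χ : Cfsg.IrrCharacter G) :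
    ∑ g : G, Complex.normSq ((χ : G → ℂ) g) = 443520 := by
  have h := Char.classInner_irr_self χ.2
  rw [Cfsg.classInner, card_G, inv_mul_eq_iff_eq_mul₀ (by norm_num), mul_one] at h
  apply Complex.ofReal_injective
  push_cast
  simp only [Nat.cast_ofNat] at h
  rw [← h]
  exact Finset.sum_congr rfl fun g _ => (Complex.mul_conj _).symm

theorem shifted_norm_sum [Fintype G] (χ : Cfsg.IrrCharacter G) (hne : χ ≠ triv G) :
    ∑ g : G, Complex.normSq ((χ : G → ℂ) g + (-1)) = 887040 := by
  have h := Char.classInner_irr_ne χ.2 (triv G).2 (fun h => hne (Subtype.ext h))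
  rw [Cfsg.classInner, card_G, mul_eq_zero] at h
  have h0 : ∑ g : G, ((χ : G → ℂ) g).re = 0 := by
    have := congrArg Complex.re (h.resolve_left (by norm_num))
    simpa [triv, Complex.re_sum] using this
  have hterm : ∀ g : G, Complex.normSq ((χ : G → ℂ) g + (-1)) =
      Complex.normSq ((χ : G → ℂ) g) - 2 * ((χ : G → ℂ) g).re + 1 := fun g => by
    simp [Complex.normSq_apply]; ring
  simp only [hterm]
  rw [Finset.sum_add_distrib, Finset.sum_sub_distrib, norm_sum, ← Finset.mul_sum, h0,
    Finset.sum_const, Finset.card_univ, ← Nat.card_eq_fintype_card, card_G]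
  norm_num

theorem deg_le (χ : Cfsg.IrrCharacter G) : Cfsg.charDegree (χ : G → ℂ) ≤ 665 := by
  classical
  have := Fintype.ofFinite G
  by_contra h
  have h1 := Finset.single_le_sum (f := fun g : G => Complex.normSq ((χ : G → ℂ) g))
    (fun g _ => Complex.normSq_nonneg _) (Finset.mem_univ (1 : G))
  rw [norm_sum, ← charDegree_cast (Char.IsIrr.isCharacter χ.2), Complex.normSq_natCast] at h1
  have h2 : Cfsg.charDegree (χ : G → ℂ) * Cfsg.charDegree (χ : G → ℂ) ≤ 443520 := by
    exact_mod_cast h1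
  have h3 := Nat.mul_le_mul (show 666 ≤ Cfsg.charDegree (χ : G → ℂ) by omega)
    (show 666 ≤ Cfsg.charDegree (χ : G → ℂ) by omega)
  omega

set_option synthInstance.maxSize 4000 in
theorem deg_table : ∀ k : ℕ, k < 21 → (32 * k) ∣ 443520 →
    ((32 * k) % 5 = 0 ∨ (32 * k) % 5 = 1 ∨ (32 * k) % 5 = 4) →
    ((32 * k) % 7 = 0 ∨ (32 * k) % 7 = 1 ∨ (32 * k) % 7 = 6 ∨ (32 * k) % 7 = 3 ∨ (32 * k) % 7 = 4) →
    ((32 * k) % 11 = 0 ∨ (32 * k) % 11 = 1 ∨ (32 * k) % 11 = 10 ∨ (32 * k) % 11 = 5 ∨
      (32 * k) % 11 = 6) → k = 5 ∨ k = 12 := by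
  decide +kernel

set_option maxHeartbeats 800000 in
theorem deg_options (χ : Cfsg.IrrCharacter G) (h32 : 32 ∣ Cfsg.charDegree (χ : G → ℂ)) :
    Cfsg.charDegree (χ : G → ℂ) = 160 ∨ Cfsg.charDegree (χ : G → ℂ) = 384 := by
  classical
  have := Fintype.ofFinite G
  have : Fact (Nat.Prime 5) := ⟨by norm_num⟩
  have : Fact (Nat.Prime 7) := ⟨by norm_num⟩
  have : Fact (Nat.Prime 11) := ⟨by norm_num⟩
  obtain ⟨e5, hS5, hC5, he5, -⟩ := sylow_data (p := 5) (by norm_num) default
  obtain ⟨e7, hS7, hC7, he7, -⟩ := sylow_data (p := 7) (by norm_num) default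
  obtain ⟨e11, hS11, hC11, he11, -⟩ := sylow_data (p := 11) (by norm_num) default
  have hdG : Cfsg.charDegree (χ : G → ℂ) ∣ 443520 := card_G ▸ CharArith.charDegree_dvd_card χ.2
  have hd0 := deg_le χ
  obtain ⟨k, hk⟩ := h32
  have h5 := PrimeData.degree_cases hS5 hC5 χ
  have h7 := PrimeData.degree_cases hS7 hC7 χ
  have h11 := PrimeData.degree_cases hS11 hC11 χ
  obtain rfl : e5 = 4 := by omega
  obtain rfl : e7 = 3 := by omega
  obtain rfl : e11 = 5 := by omega
  rw [hk] at hdG hd0 h5 h7 h11 ⊢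
  simp only [Int.ModEq, Nat.dvd_iff_mod_eq_zero] at h5 h7 h11
  have c5 : (32 * k) % 5 = 0 ∨ (32 * k) % 5 = 1 ∨ (32 * k) % 5 = 4 := by
    clear hdG h7 h11; omega
  have c7 : (32 * k) % 7 = 0 ∨ (32 * k) % 7 = 1 ∨ (32 * k) % 7 = 6 ∨ (32 * k) % 7 = 3 ∨
      (32 * k) % 7 = 4 := by
    clear hdG h5 h11 c5; omega
  have c11 : (32 * k) % 11 = 0 ∨ (32 * k) % 11 = 1 ∨ (32 * k) % 11 = 10 ∨ (32 * k) % 11 = 5 ∨
      (32 * k) % 11 = 6 := by
    clear hdG h5 h7 c5 c7; omega
  rcases deg_table k (by omega) hdG c5 c7 c11 with rfl | rfl <;> norm_num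

theorem not_384 (χ : Cfsg.IrrCharacter G) : Cfsg.charDegree (χ : G → ℂ) ≠ 384 := by
  classical
  intro hd
  have := Fintype.ofFinite G
  have hne : χ ≠ triv G := by
    rintro rfl
    rw [charDegree_eq (n := 1) (by simp [triv])] at hd
    omega
  have : Fact (Nat.Prime 7) := ⟨by norm_num⟩
  have : Fact (Nat.Prime 11) := ⟨by norm_num⟩
  have hval : ∀ g : G, (orderOf g = 7 ∨ orderOf g = 11) → (χ : G → ℂ) g = -1 := by
    intro g hg
    rcases hg with hg | hg
    · obtain ⟨Q, hQ⟩ := (IsPGroup.of_card (p := 7) (n := 1)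
        (by rw [Nat.card_zpowers, hg, pow_one]) :
        IsPGroup 7 (Subgroup.zpowers g)).exists_le_sylow
      obtain ⟨e, hS, hC, he, -⟩ := sylow_data (p := 7) (by norm_num) Q
      obtain rfl : e = 3 := by omega
      have := PrimeData.value_eq hS hC (by norm_num) χ (-1) (Or.inr rfl) (by rw [hd]; decide)
        (by decide) (by decide) (hQ (Subgroup.mem_zpowers g))
        (fun h => by rw [h, orderOf_one] at hg; omega)
      simpa using this
    · obtain ⟨Q, hQ⟩ := (IsPGroup.of_card (p := 11) (n := 1)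
        (by rw [Nat.card_zpowers, hg, pow_one]) :
        IsPGroup 11 (Subgroup.zpowers g)).exists_le_sylow
      obtain ⟨e, hS, hC, he, -⟩ := sylow_data (p := 11) (by norm_num) Q
      obtain rfl : e = 5 := by omega
      have := PrimeData.value_eq hS hC (by norm_num) χ (-1) (Or.inr rfl) (by rw [hd]; decide)
        (by decide) (by decide) (hQ (Subgroup.mem_zpowers g))
        (fun h => by rw [h, orderOf_one] at hg; omega)
      simpa using this
  have hn7 : (Finset.univ.filter fun g : G => orderOf g = 7).card = 126720 := by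
    obtain ⟨e, hS, -, he, hn⟩ := sylow_data (p := 7) (by norm_num) default
    obtain rfl : e = 3 := by omega
    rw [← Fintype.card_subtype, ← Nat.card_eq_fintype_card, card_elements (by norm_num)]
    omega
  have hn11 : (Finset.univ.filter fun g : G => orderOf g = 11).card = 80640 := by
    obtain ⟨e, hS, -, he, hn⟩ := sylow_data (p := 11) (by norm_num) default
    obtain rfl : e = 5 := by omega
    rw [← Fintype.card_subtype, ← Nat.card_eq_fintype_card, card_elements (by norm_num)]
    omega
  have hdis : Disjoint (Finset.univ.filter fun g : G => orderOf g = 7)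
      (Finset.univ.filter fun g : G => orderOf g = 11) :=
    Finset.disjoint_filter.2 fun g _ h => by omega
  have h1 : (1 : G) ∉ (Finset.univ.filter fun g : G => orderOf g = 7) ∪
      (Finset.univ.filter fun g : G => orderOf g = 11) := by simp
  have hle := Finset.sum_le_univ_sum_of_nonneg
    (f := fun g : G => Complex.normSq ((χ : G → ℂ) g + (-1)))
    (s := insert 1 ((Finset.univ.filter fun g : G => orderOf g = 7) ∪
      (Finset.univ.filter fun g : G => orderOf g = 11)))
    (fun g => Complex.normSq_nonneg _)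
  rw [shifted_norm_sum χ hne, Finset.sum_insert h1,
    Finset.sum_congr rfl (g := fun _ => (4 : ℝ)) (fun g hg => by
      rw [hval g (by simpa [Finset.mem_union] using hg)]; norm_num [Complex.normSq_apply]),
    Finset.sum_const, Finset.card_union_of_disjoint hdis, hn7, hn11,
    ← charDegree_cast (Char.IsIrr.isCharacter χ.2), hd] at hle
  norm_num [Complex.normSq_apply] at hle

theorem all_principal (M : Ideal Cfsg.AlgInt) (hM : Cfsg.IsPModular 2 M)
    (χ : Cfsg.IrrCharacter G) : χ ∈ Cfsg.principalBlock M G := by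
  classical
  have := Fintype.ofFinite G
  obtain ⟨B, hBdef⟩ : ∃ B, B = Cfsg.blockOf M (χ : G → ℂ) := ⟨_, rfl⟩
  have hB : Cfsg.IsPBlock M B := hBdef ▸ isPBlock_blockOf χ
  have hχB : χ ∈ B := hBdef ▸ mem_blockOf_self hM χ
  have hB0 := isPBlock_principalBlock (G := G) M
  have hd0 : Cfsg.blockDefect 2 (Cfsg.principalBlock M G) = 7 := by
    have h1 := BlockChar.minVal_le (p := 2) (triv_mem_principalBlock (G := G) hM)
    rw [charDegree_eq (n := 1) (by simp [triv]), Nat.factorization_one] at h1
    have h2 : BlockChar.minVal 2 (Cfsg.principalBlock M G) = 0 := by simpa using h1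
    rw [BlockChar.blockDefect_eq, h2, card_G, fac_two]
  obtain ⟨g, hg⟩ := exists_isDefectClass hM hB
  obtain ⟨hgd, hgreg⟩ := BlockChar.factorization_centralizer_eq hM hB hg
  by_cases hd7 : Cfsg.blockDefect 2 B = 7
  · have hone : Nat.card {C : ConjClasses G // ∃ g : G, ConjClasses.mk g = C ∧ ¬ 2 ∣ orderOf g ∧
        (Nat.card (Subgroup.centralizer ({g} : Set G))).factorization 2 = 7} ≤ 1 := by
      rw [Finite.card_le_one_iff_subsingleton]
      refine ⟨fun a b => ?_⟩
      obtain ⟨_, x, rfl, hx, hxc⟩ := a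
      obtain ⟨_, y, rfl, hy, hyc⟩ := b
      have h1 : x = 1 := by_contra fun h => by have := regular_bound x hx h; omega
      have h2 : y = 1 := by_contra fun h => by have := regular_bound y hy h; omega
      subst h1 h2
      rfl
    have hS := (BlockChar.card_blocks_defect_le hM 7).trans hone
    rw [Finite.card_le_one_iff_subsingleton] at hS
    have h := congrArg Subtype.val
      (Subsingleton.elim (α := {B : Set (Cfsg.IrrCharacter G) //
        Cfsg.IsPBlock M B ∧ Cfsg.blockDefect 2 B = 7}) ⟨B, hB, hd7⟩ ⟨_, hB0, hd0⟩)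
    simp only at h
    exact h ▸ hχB
  exfalso
  have hd2 : Cfsg.blockDefect 2 B ≤ 2 := by
    by_cases hg1 : g = 1
    · exfalso
      refine hd7 ?_
      rw [← hgd, hg1, show Subgroup.centralizer ({(1 : G)} : Set G) = ⊤ from
        Subgroup.centralizer_eq_top_iff_subset.2 (Set.singleton_subset_iff.2 (one_mem _)),
        Subgroup.card_top, card_G, fac_two]
    · exact hgd ▸ regular_bound g hgreg hg1
  have hmin : 5 ≤ BlockChar.minVal 2 B := by
    rw [BlockChar.blockDefect_eq, card_G, fac_two] at hd2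
    omega
  have hdeg : ∀ ψ ∈ B, Cfsg.charDegree (ψ : G → ℂ) = 160 := fun ψ hψ => by
    have h32 : 32 ∣ Cfsg.charDegree (ψ : G → ℂ) :=
      (Nat.pow_dvd_pow 2 hmin).trans (BlockChar.pow_minVal_dvd hψ)
    exact (deg_options ψ h32).resolve_right (not_384 ψ)
  have h160 : (160 : ℕ).factorization 2 = 5 := by
    rw [show (160 : ℕ) = 2 ^ 5 * 5 by norm_num, Nat.factorization_mul (by norm_num)
      (by norm_num), Finsupp.add_apply, Nat.Prime.factorization_pow Nat.prime_two,
      Finsupp.single_eq_same, Nat.factorization_eq_zero_of_not_dvd (by norm_num)]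
  have hmin5 : BlockChar.minVal 2 B = 5 := by
    have h := BlockChar.minVal_le (p := 2) hχB
    rw [hdeg χ hχB, h160] at h
    omega
  -- at most two members, by the principal 11-block
  have : Fact (Nat.Prime 11) := ⟨by norm_num⟩
  obtain ⟨e, hS, hC, he, -⟩ := sylow_data (p := 11) (by norm_num) default
  obtain rfl : e = 5 := by omega
  obtain ⟨N, hN⟩ := exists_isPModular 11 (by norm_num)
  obtain ⟨X, Y, a, s, -, -, hYc, hmem, -, hX, -, -, -⟩ := hS.principal_structure hN
  have hsub : (Finset.univ.filter fun ψ : Cfsg.IrrCharacter G => ψ ∈ B) ⊆ Y := by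
    intro ψ hψ
    have hψ160 := hdeg ψ (Finset.mem_filter.1 hψ).2
    have hpr : ψ ∈ Cfsg.principalBlock N G := by_contra fun h => by
      have := PrimeData.dvd_of_notMem hS hC hN h
      rw [hψ160] at this
      norm_num at this
    refine ((hmem ψ).1 hpr).resolve_left fun h => ?_
    obtain ⟨ha, hm, -⟩ := hX ψ h
    rw [hψ160] at hm
    rcases ha with ha | ha <;> rw [ha] at hm <;> exact absurd hm (by decide)
  have hn := Finset.card_le_card hsub
  have hpos : 0 < (Finset.univ.filter fun ψ : Cfsg.IrrCharacter G => ψ ∈ B).card :=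
    Finset.card_pos.2 ⟨χ, Finset.mem_filter.2 ⟨Finset.mem_univ _, hχB⟩⟩
  have hdv := (BlockChar.redDeg_sq_sum hM hB).1
  have hbs : BlockChar.bsum B (fun ψ => (BlockChar.redDeg 2 B ψ : ℤ) ^ 2) =
      ((Finset.univ.filter fun ψ : Cfsg.IrrCharacter G => ψ ∈ B).card : ℤ) * 25 := by
    rw [BlockChar.bsum, ← Finset.sum_filter, Finset.sum_congr rfl (g := fun _ => (25 : ℤ))
      (fun ψ hψ => by
        rw [BlockChar.redDeg, hdeg ψ (Finset.mem_filter.1 hψ).2, hmin5]; norm_num),
      Finset.sum_const, nsmul_eq_mul]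
  rw [hbs, BlockChar.blockDefect_eq, card_G, fac_two, hmin5] at hdv
  rw [hYc] at hn
  norm_num at hdv
  omega

/-- All irreducible complex characters of the Mathieu group `M₂₂` lie in a single 2-block: any two of them lie in the same block relative to every maximal ideal of the algebraic integers containing 2. -/
theorem result (M : Ideal Cfsg.AlgInt) (hM : Cfsg.IsPModular 2 M)
    (χ ψ : Cfsg.IrrCharacter ↥Cfsg.Spor.M22) : Cfsg.SameBlock M (χ : ↥Cfsg.Spor.M22 → ℂ) (ψ : ↥Cfsg.Spor.M22 → ℂ) := by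
  exact Blocks.sameBlock_trans hM (Blocks.sameBlock_symm (all_principal M hM χ))
    (all_principal M hM ψ)

end Cfsg.Agent.S5005
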