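import Cfsg.Statements.S0631
import Cfsg.Agent.Layer.PConstraint

set_option autoImplicit false
open Cfsg

namespace Cfsg.Agent.S0631

theorem isPConstrained_of_normal {G : Type*} [Group G] [Finite G] {p : ℕ} [Fact p.Prime]
    (h : Cfsg.IsPConstrained p G) (M : Subgroup G) [M.Normal] : Cfsg.IsPConstrained p M := by
  set f := QuotientGroup.mk' (pPrimeCore p G) with hf
  have hfs := QuotientGroup.mk'_surjective (pPrimeCore p G)
  set M' := M.map f with hM'
  have : M'.Normal := Subgroup.Normal.map inferInstance f hfs
  have hO : pPrimeCore p M' = ⊥ := by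
    have h1 := Core.map_pPrimeCore_normal (p := p) M'
    rw [Core.pPrimeCore_quotient_eq_bot, bot_inf_eq] at h1
    exact (Subgroup.map_eq_bot_iff_of_injective _ M'.subtype_injective).mp h1
  have hlayer : layer M' = ⊥ := by
    have h1 : (layer M').map M'.subtype ≤ layer (G ⧸ pPrimeCore p G) :=
      Layer.map_layer_subnormal_le (Subgroup.Normal.isSubnormal inferInstance)
    rw [Layer.isPConstrained_iff_layer.mp h, le_bot_iff] at h1
    exact (Subgroup.map_eq_bot_iff_of_injective _ M'.subtype_injective).mp h1
  rw [Layer.isPConstrained_iff_selfCentral]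
  have hker : (f.subgroupMap M).ker = pPrimeCore p M := by
    refine Subgroup.map_injective M.subtype_injective ?_
    rw [Core.map_pPrimeCore_normal]
    ext x
    constructor
    · rintro ⟨y, hy, rfl⟩
      exact ⟨(QuotientGroup.eq_one_iff (y : G)).mp (congrArg Subtype.val hy), y.2⟩
    · rintro ⟨hx, hxM⟩
      exact ⟨⟨x, hxM⟩, Subtype.ext ((QuotientGroup.eq_one_iff x).mpr hx), rfl⟩
  exact Layer.pCoreSelfCentral_congr
    ((QuotientGroup.quotientMulEquivOfEq hker.symm).trans
      (QuotientGroup.quotientKerEquivOfSurjective _ (f.subgroupMap_surjective M))).symm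
    ((Layer.pCoreSelfCentral_iff_layer hO).mpr hlayer)

/-- In a p-constrained group the normalizer and the centralizer of any p-subgroup are again p-constrained. -/
theorem result {G : Type*} [Group G] [Finite G] {p : ℕ} [Fact p.Prime] (hG : Cfsg.IsPConstrained p G) (P : Subgroup G) (hP : IsPGroup p P) : Cfsg.IsPConstrained p ↥(Subgroup.normalizer (P : Set G)) ∧ Cfsg.IsPConstrained p ↥(Subgroup.centralizer (P : Set G)) := by
  have hN := Layer.isPConstrained_normalizer hG hP
  refine ⟨hN, ?_⟩
  set N := Subgroup.normalizer (P : Set G)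
  set C := Subgroup.centralizer (P : Set G)
  have hCN : C ≤ N := Subgroup.centralizer_le_normalizer _
  have : (C.subgroupOf N).Normal := by
    rw [show C.subgroupOf N = P.normalizerMonoidHom.ker from P.normalizerMonoidHom_ker.symm]
    infer_instance
  have h := isPConstrained_of_normal hN (C.subgroupOf N)
  rw [Layer.isPConstrained_iff_selfCentral] at h ⊢
  let e := Subgroup.subgroupOfEquivOfLe hCN
  exact Layer.pCoreSelfCentral_congr
    (QuotientGroup.congr (pPrimeCore p (C.subgroupOf N)) (pPrimeCore p C) e (Core.map_pPrimeCore e)) h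

end Cfsg.Agent.S0631
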