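import Cfsg.Statements.S4034
import Cfsg.Agent.Char.Ortho
import Cfsg.Agent.Char.Integral
import Cfsg.Agent.Core.Basics
import Cfsg.Agent.Core.PCore
import Cfsg.Agent.Core.Fitting
import Cfsg.Agent.Core.Hall
-- import your own Cfsg.Agent.* helpers here

set_option autoImplicit false
open Cfsg

namespace Cfsg.Agent.S4034

open Subgroup
open scoped Pointwise

universe u

variable {G : Type u} [Group G]

theorem carrier_ncard [Finite G] (x : G) :
    (ConjClasses.mk x).carrier.ncard = (centralizer ({x} : Set G)).index := by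
  rw [← Char.card_isConj_eq_index, ← Nat.card_coe_set_eq]
  exact Nat.card_congr (Equiv.subtypeEquivRight fun y => by
    rw [ConjClasses.mem_carrier_iff_mk_eq, ConjClasses.mk_eq_mk_iff_isConj]
    exact ⟨IsConj.symm, IsConj.symm⟩)

/-- For `N` normal, `|N : C ∩ N|` divides `|G : C|`. -/
theorem relIndex_dvd_index [Finite G] (C N : Subgroup G) [N.Normal] : C.relIndex N ∣ C.index := by
  have h2 : Nat.card (C ⊓ N : Subgroup G) * C.relIndex N = Nat.card N := by
    rw [← inf_relIndex_right C N, ← relIndex_bot_left, relIndex_mul_relIndex ⊥ (C ⊓ N) N bot_le inf_le_right,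
      relIndex_bot_left]
  have h3 : Nat.card C * C.relIndex (C ⊔ N) = Nat.card (C ⊔ N : Subgroup G) := by
    rw [← relIndex_bot_left, relIndex_mul_relIndex ⊥ C (C ⊔ N) bot_le le_sup_left, relIndex_bot_left]
  have h1 := Core.card_sup_mul_card_inf C N
  rw [← h3, ← h2, mul_assoc, mul_comm (C.relIndex _)] at h1
  have h4 := Nat.eq_of_mul_eq_mul_left Nat.card_pos h1
  have h5 : C.relIndex (C ⊔ N) = C.relIndex N :=
    Nat.eq_of_mul_eq_mul_left (Nat.card_pos (α := (C ⊓ N : Subgroup G))) h4
  exact h5 ▸ relIndex_dvd_index_of_le le_sup_left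

theorem isSolvable_of_prime_card (h : (Nat.card G).Prime) : Group.IsSolvable G := by
  have := Fact.mk h
  have := isCyclic_of_prime_card (p := Nat.card G) rfl
  let _ := this.commGroup
  infer_instance

/-- An element of order prime to `p` lifts to such an element. -/
theorem exists_lift [Finite G] {G' : Type u} [Group G'] {p : ℕ} (hp : p.Prime) (f : G →* G')
    (hf : Function.Surjective f) (y : G') (hy : (orderOf y).Coprime p) :
    ∃ x : G, f x = y ∧ (orderOf x).Coprime p := by
  obtain ⟨x, rfl⟩ := hf y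
  obtain ⟨e, m, hm, he⟩ := Nat.exists_eq_pow_mul_and_not_dvd (orderOf_pos x).ne' p hp.ne_one
  obtain ⟨k, hk⟩ := exists_pow_eq_self_of_coprime (x := f x) (n := p ^ e) (Nat.Coprime.pow_left _ hy.symm)
  refine ⟨(x ^ p ^ e) ^ k, by rw [map_pow, map_pow, hk], ?_⟩
  refine Nat.Coprime.coprime_dvd_left ?_ ((hp.coprime_iff_not_dvd.2 hm).symm)
  refine orderOf_dvd_of_pow_eq_one ?_
  rw [← pow_mul, ← pow_mul, mul_comm k m, ← mul_assoc, ← he, pow_mul, pow_orderOf_eq_one, one_pow]

theorem index_map_centralizer_dvd [Finite G] {G' : Type u} [Group G'] {f : G →* G'}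
    (hf : Function.Surjective f) (x : G) :
    (centralizer ({f x} : Set G')).index ∣ (centralizer ({x} : Set G)).index := by
  refine dvd_trans (index_dvd_of_le ?_) (index_map_dvd _ hf)
  rintro _ ⟨c, hc, rfl⟩
  rw [mem_centralizer_singleton_iff, ← map_mul, ← map_mul, mem_centralizer_singleton_iff.1 hc]

theorem isPGroup_of_regular_eq_one [Finite G] {p : ℕ} (hp : p.Prime)
    (h : ∀ x : G, (orderOf x).Coprime p → x = 1) : IsPGroup p G := by
  have := Fact.mk hp
  refine IsPGroup.of_card (n := (Nat.card G).primeFactorsList.length)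
    (Nat.eq_prime_pow_of_unique_prime_dvd Nat.card_pos.ne' fun {q} hq hd => ?_)
  by_contra hne
  have := Fact.mk hq
  obtain ⟨x, hx⟩ := exists_prime_orderOf_dvd_card' q hd
  have h1 := h x (hx ▸ (Nat.coprime_primes hq hp).2 hne)
  rw [h1, orderOf_one] at hx
  exact hq.one_lt.ne hx

theorem isSolvable_of_class {p : ℕ} (hp : p.Prime) : ∀ (n : ℕ) (G : Type u) [Group G] [Finite G],
    Nat.card G = n →
    (∀ x : G, (orderOf x).Coprime p → ∃ k, (centralizer ({x} : Set G)).index ∣ p ^ k) →
    Group.IsSolvable G := by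
  intro n
  induction n using Nat.strong_induction_on with
  | _ n ih =>
  intro G _ _ hn h
  have := Fact.mk hp
  rcases subsingleton_or_nontrivial G with h1 | h1
  · infer_instance
  by_cases hs : IsSimpleGroup G
  · by_cases hreg : ∀ x : G, (orderOf x).Coprime p → x = 1
    · have := (isPGroup_of_regular_eq_one hp hreg).isNilpotent
      infer_instance
    · push Not at hreg
      obtain ⟨x, hx, hx1⟩ := hreg
      obtain ⟨k, hk⟩ := h x hx
      obtain ⟨j, -, hj⟩ := (Nat.dvd_prime_pow hp).1 hk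
      exact isSolvable_of_prime_card (Char.prime_card_of_class_prime_pow p j hp x hx1 hj)
  · obtain ⟨N, hN, hN1, hN2⟩ : ∃ N : Subgroup G, N.Normal ∧ N ≠ ⊥ ∧ N ≠ ⊤ := by
      by_contra hc
      push Not at hc
      exact hs ⟨fun N hN => or_iff_not_imp_left.2 (hc N hN)⟩
    rw [Group.isSolvable_iff_subgroup_quotient N]
    refine ⟨ih _ (hn ▸ Core.card_lt_of_ne_top hN2) N rfl fun x hx => ?_,
      ih _ (hn ▸ Core.card_quotient_lt hN1) (G ⧸ N) rfl fun y hy => ?_⟩
    · obtain ⟨k, hk⟩ := h x.1 (by rwa [orderOf_coe])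
      refine ⟨k, dvd_trans (dvd_trans ?_ (relIndex_dvd_index _ N)) hk⟩
      refine index_dvd_of_le fun c hc => ?_
      rw [mem_centralizer_singleton_iff]
      exact Subtype.ext (mem_centralizer_singleton_iff.1 (mem_subgroupOf.1 hc))
    · obtain ⟨x, rfl, hx⟩ := exists_lift hp (QuotientGroup.mk' N) (QuotientGroup.mk'_surjective N) y hy
      obtain ⟨k, hk⟩ := h x hx
      exact ⟨k, (index_map_centralizer_dvd (QuotientGroup.mk'_surjective N) x).trans hk⟩

theorem isSolvable_of_complement {p : ℕ} (hp : p.Prime) : ∀ (n : ℕ) (G : Type u) [Group G] [Finite G],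
    Nat.card G = n →
    (∃ H : Subgroup G, IsMulCommutative H ∧ (Nat.card H).Coprime p ∧ ∃ k, H.index ∣ p ^ k) →
    Group.IsSolvable G := by
  intro n
  induction n using Nat.strong_induction_on with
  | _ n ih =>
  rintro G _ _ hn ⟨H, hH, hHp, k, hk⟩
  have := Fact.mk hp
  rcases subsingleton_or_nontrivial G with h1 | h1
  · infer_instance
  by_cases hs : IsSimpleGroup G
  · rcases bot_or_exists_ne_one H with rfl | ⟨x, hx, hx1⟩
    · rw [index_bot] at hk
      obtain ⟨j, -, hj⟩ := (Nat.dvd_prime_pow hp).1 hk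
      have := (IsPGroup.of_card hj).isNilpotent
      infer_instance
    · have hle : H ≤ centralizer ({x} : Set G) := fun y hy =>
        mem_centralizer_singleton_iff.2 (congrArg Subtype.val (hH.is_comm.comm ⟨y, hy⟩ ⟨x, hx⟩))
      obtain ⟨j, -, hj⟩ := (Nat.dvd_prime_pow hp).1 ((index_dvd_of_le hle).trans hk)
      exact isSolvable_of_prime_card (Char.prime_card_of_class_prime_pow p j hp x hx1 hj)
  · obtain ⟨N, hN, hN1, hN2⟩ : ∃ N : Subgroup G, N.Normal ∧ N ≠ ⊥ ∧ N ≠ ⊤ := by
      by_contra hc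
      push Not at hc
      exact hs ⟨fun N hN => or_iff_not_imp_left.2 (hc N hN)⟩
    rw [Group.isSolvable_iff_subgroup_quotient N]
    refine ⟨ih _ (hn ▸ Core.card_lt_of_ne_top hN2) N rfl ⟨H.subgroupOf N, ?_, ?_, k, ?_⟩,
      ih _ (hn ▸ Core.card_quotient_lt hN1) (G ⧸ N) rfl ⟨H.map (QuotientGroup.mk' N), ?_, ?_, k, ?_⟩⟩
    · refine ⟨⟨fun a b => Subtype.ext (Subtype.ext ?_)⟩⟩
      have e : a.1.1 * b.1.1 = b.1.1 * a.1.1 := congrArg Subtype.val
        (hH.is_comm.comm ⟨a.1.1, mem_subgroupOf.1 a.2⟩ ⟨b.1.1, mem_subgroupOf.1 b.2⟩)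
      exact e
    · refine hHp.coprime_dvd_left ?_
      rw [← card_map_of_injective N.subtype_injective (K := H.subgroupOf N), subgroupOf_map_subtype]
      exact card_dvd_of_le inf_le_left
    · exact (relIndex_dvd_index H N).trans hk
    · refine ⟨⟨?_⟩⟩
      rintro ⟨_, a, ha, rfl⟩ ⟨_, b, hb, rfl⟩
      apply Subtype.ext
      show _ * _ = _ * _
      rw [← map_mul, ← map_mul, show a * b = b * a from congrArg Subtype.val (hH.is_comm.comm ⟨a, ha⟩ ⟨b, hb⟩)]
    · exact hHp.coprime_dvd_left (card_map_dvd H _)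
    · exact (index_map_dvd _ (QuotientGroup.mk'_surjective N)).trans hk

theorem commute_of_pCore_eq_bot [Finite G] [Group.IsSolvable G] {p : ℕ} [hp : Fact p.Prime]
    (hO : Cfsg.pCore p G = ⊥)
    (h : ∀ x : G, (orderOf x).Coprime p → ∃ k, (centralizer ({x} : Set G)).index ∣ p ^ k) :
    ∀ x y : G, (orderOf x).Coprime p → (orderOf y).Coprime p → x * y = y * x := by
  set F := Cfsg.fittingSubgroup G with hF
  have hFn : F.Normal := inferInstance
  have hFnil : Group.IsNilpotent F := Core.fittingSubgroup_isNilpotent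
  have hFp : (Nat.card F).Coprime p := by
    rw [Nat.coprime_comm, hp.out.coprime_iff_not_dvd]
    intro hd
    obtain ⟨S⟩ := (inferInstance : Nonempty (Sylow p F))
    have hSn : (S : Subgroup F).Normal :=
      Sylow.normal_of_normalizerCondition Group.normalizerCondition_of_isNilpotent S
    have hSc := S.characteristic_of_normal hSn
    have h1 : (S : Subgroup F).map F.subtype ≤ Cfsg.pCore p G := Core.le_pCore (S.2.map _)
    rw [hO, le_bot_iff, map_eq_bot_iff_of_injective _ F.subtype_injective] at h1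
    exact S.ne_bot_of_dvd_card hd h1
  have hcent : ∀ x : G, (orderOf x).Coprime p → F ≤ centralizer ({x} : Set G) := by
    intro x hx
    rw [← relIndex_eq_one]
    obtain ⟨k, hk⟩ := h x hx
    exact Nat.eq_one_of_dvd_coprimes (hFp.pow_right k) (relIndex_dvd_card _ _)
      ((relIndex_dvd_index _ F).trans hk)
  have hin : ∀ x : G, (orderOf x).Coprime p → x ∈ F := fun x hx =>
    Core.centralizer_fittingSubgroup_le (mem_centralizer_iff.2 fun f hf =>
      mem_centralizer_singleton_iff.1 (hcent x hx hf))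
  intro x y hx hy
  exact (mem_centralizer_singleton_iff.1 (hcent y hy (hin x hx)))


/-- Let G be a finite group and p a prime. Every conjugacy class of p-regular elements of G (elements of order prime to p) has p-power size if and only if G has an abelian p-complement, i.e. an abelian subgroup of order prime to p and p-power index. -/
theorem result {G : Type*} [Group G] [Finite G] {p : ℕ} (hp : p.Prime) :
    (∀ x : G, (orderOf x).Coprime p → ∃ k : ℕ, (ConjClasses.mk x).carrier.ncard = p ^ k) ↔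
    (∃ H : Subgroup G, IsMulCommutative H ∧ ¬ p ∣ Nat.card H ∧ ∃ k : ℕ, H.index = p ^ k) := by
  have := Fact.mk hp
  constructor
  · intro h
    have h' : ∀ x : G, (orderOf x).Coprime p → ∃ k, (Subgroup.centralizer ({x} : Set G)).index ∣ p ^ k :=
      fun x hx => let ⟨k, hk⟩ := h x hx; ⟨k, by rw [← carrier_ncard, hk]⟩
    have hsol := isSolvable_of_class hp _ G rfl h'
    obtain ⟨a, m, hm, he⟩ := Nat.exists_eq_pow_mul_and_not_dvd (Nat.card_pos (α := G)).ne' p hp.ne_one
    obtain ⟨H, hH⟩ := Core.exists_hall (G := G) (m := m) (n := p ^ a) (by rw [he, mul_comm])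
      (((hp.coprime_iff_not_dvd.2 hm).symm).pow_right a)
    refine ⟨H, ?_, hH ▸ hm, a, ?_⟩
    · set f := QuotientGroup.mk' (Cfsg.pCore p G) with hf
      have hf' := QuotientGroup.mk'_surjective (Cfsg.pCore p G)
      have hc := commute_of_pCore_eq_bot (Core.pCore_quotient_eq_bot (p := p) (G := G)) fun y hy => by
        obtain ⟨x, rfl, hx⟩ := exists_lift hp f hf' y hy
        obtain ⟨k, hk⟩ := h' x hx
        exact ⟨k, (index_map_centralizer_dvd hf' x).trans hk⟩
      have hord : ∀ x ∈ H, (orderOf x).Coprime p := fun x hx =>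
        Nat.Coprime.coprime_dvd_left (hH ▸ H.orderOf_dvd_natCard hx) (hp.coprime_iff_not_dvd.2 hm).symm
      refine ⟨⟨fun x y => Subtype.ext ?_⟩⟩
      have h2 := hc (f x.1) (f y.1) ((hord _ x.2).coprime_dvd_left (orderOf_map_dvd f _))
        ((hord _ y.2).coprime_dvd_left (orderOf_map_dvd f _))
      rw [← map_mul, ← map_mul, ← inv_mul_eq_one, ← map_inv, ← map_mul] at h2
      have h3 := (QuotientGroup.eq_one_iff _).1 h2
      obtain ⟨b, hb⟩ := IsPGroup.iff_orderOf.1 Core.pCore_isPGroup (⟨_, h3⟩ : Cfsg.pCore p G)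
      rw [Subgroup.orderOf_mk] at hb
      have h4 : orderOf ((x.1 * y.1)⁻¹ * (y.1 * x.1)) ∣ m :=
        hH ▸ H.orderOf_dvd_natCard (H.mul_mem (H.inv_mem (H.mul_mem x.2 y.2)) (H.mul_mem y.2 x.2))
      have h5 := Nat.eq_one_of_dvd_coprimes ((hp.coprime_iff_not_dvd.2 hm).pow_left b) hb.dvd h4
      exact inv_mul_eq_one.1 (orderOf_eq_one_iff.1 h5)
    · refine Nat.eq_of_mul_eq_mul_left (Nat.card_pos (α := H)) ?_
      rw [H.card_mul_index, he, hH, mul_comm]
  · rintro ⟨H, hH, hHp, k, hk⟩ x hx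
    have hHp' : (Nat.card H).Coprime p := (hp.coprime_iff_not_dvd.2 hHp).symm
    have hsol := isSolvable_of_complement hp _ G rfl ⟨H, hH, hHp', k, hk ▸ dvd_rfl⟩
    obtain ⟨g, hg⟩ := Core.exists_le_conj_hall (G := G) (n := p ^ k) (hk ▸ H.card_mul_index.symm)
      (hHp'.pow_right k) (H := H) rfl (K := Subgroup.zpowers x) (by rw [Nat.card_zpowers]; exact hx.pow_right k)
    have hle : MulAut.conj g • H ≤ Subgroup.centralizer ({x} : Set G) := by
      intro y hy
      have h1 := Coprime.mem_conj_smul.1 hy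
      have h2 := Coprime.mem_conj_smul.1 (hg (Subgroup.mem_zpowers x))
      rw [Subgroup.mem_centralizer_singleton_iff]
      have e : (g⁻¹ * y * g) * (g⁻¹ * x * g) = (g⁻¹ * x * g) * (g⁻¹ * y * g) :=
        congrArg Subtype.val (hH.is_comm.comm ⟨_, h1⟩ ⟨_, h2⟩)
      have e2 := congrArg (fun z => g * z * g⁻¹) e
      simpa [mul_assoc] using e2
    have hi : (MulAut.conj g • H).index = p ^ k := by
      refine Nat.eq_of_mul_eq_mul_left (Nat.card_pos (α := (MulAut.conj g • H : Subgroup G))) ?_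
      rw [(MulAut.conj g • H).card_mul_index, Coprime.card_conj_smul, ← hk, H.card_mul_index]
    obtain ⟨j, -, hj⟩ := (Nat.dvd_prime_pow hp).1 (hi ▸ Subgroup.index_dvd_of_le hle)
    exact ⟨j, by rw [carrier_ncard, hj]⟩

end Cfsg.Agent.S4034
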