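import Cfsg.Statements.S4035
import Cfsg.Agent.S4034
import Cfsg.Agent.Fusion.Residual
import Cfsg.Agent.ClassCount.Basic
import Mathlib.GroupTheory.SchurZassenhaus
-- import your own Cfsg.Agent.* helpers here

set_option autoImplicit false
open Cfsg

namespace Cfsg.Agent.S4035

open Subgroup in
theorem eq_top_of_cover {G : Type*} [Group G] [Finite G] (H : Subgroup G)
    (h : ∀ g : G, ∃ c : G, c⁻¹ * g * c ∈ H) : H = ⊤ := by
  classical
  rw [← index_eq_one]
  let f : (G ⧸ H) × {x : H // x ≠ 1} → {g : G // g ≠ 1} := fun z =>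
    ⟨z.1.out * ((z.2 : H) : G) * z.1.out⁻¹, fun e => z.2.2 (by
      have e' : ((z.2 : H) : G) = 1 := by simpa [mul_assoc] using congrArg (fun t => z.1.out⁻¹ * t * z.1.out) e
      exact_mod_cast e')⟩
  have hf : Function.Surjective f := by
    rintro ⟨g, hg⟩
    obtain ⟨c, hc⟩ := h g
    set q : G ⧸ H := QuotientGroup.mk c with hq
    obtain ⟨h0, hh0⟩ := QuotientGroup.mk_out_eq_mul H c
    have hmem : (h0 : G)⁻¹ * (c⁻¹ * g * c) * h0 ∈ H := H.mul_mem (H.mul_mem (H.inv_mem h0.2) hc) h0.2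
    refine ⟨(q, ⟨⟨_, hmem⟩, fun e => hg ?_⟩), ?_⟩
    · have e' : (h0 : G)⁻¹ * (c⁻¹ * g * c) * h0 = 1 := congrArg Subtype.val e
      simpa [mul_assoc] using congrArg (fun t => c * (h0 : G) * t * ((h0 : G))⁻¹ * c⁻¹) e'
    · apply Subtype.ext
      show q.out * ((h0 : G)⁻¹ * (c⁻¹ * g * c) * h0) * q.out⁻¹ = g
      rw [hh0]; group
  have hle := Nat.card_le_card_of_surjective f hf
  have hc : ∀ (α : Type _) [Finite α] (a : α), Nat.card {x : α // x ≠ a} = Nat.card α - 1 := by
    intro α _ a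
    have := Fintype.ofFinite α
    rw [Nat.card_eq_fintype_card, Nat.card_eq_fintype_card, Fintype.card_subtype_compl,
      Fintype.card_subtype_eq]
  rw [Nat.card_prod, hc, hc, ← Subgroup.index_eq_card, Nat.mul_sub, mul_one,
    mul_comm, card_mul_index] at hle
  have h1 : 0 < H.index := Nat.pos_of_ne_zero index_ne_zero_of_finite
  have h2 : H.index ≤ Nat.card G := Nat.le_of_dvd Nat.card_pos H.index_dvd_card
  omega

open Subgroup in
theorem exists_conj_le_centralizer {G : Type*} [Group G] [Finite G] {p : ℕ} [Fact p.Prime]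
    (P : Sylow p G) (x : G) (hx : ¬ p ∣ (centralizer ({x} : Set G)).index) :
    ∃ a : G, (P : Subgroup G) ≤ centralizer ({a⁻¹ * x * a} : Set G) := by
  obtain ⟨Q⟩ : Nonempty (Sylow p ↥(centralizer ({x} : Set G))) := inferInstance
  obtain ⟨S, hS⟩ := (Q.isPGroup'.map (centralizer ({x} : Set G)).subtype).exists_le_sylow
  obtain ⟨a, ha⟩ := MulAction.exists_smul_eq G P S
  refine ⟨a, fun y hy => ?_⟩
  have hSQ : (Q : Subgroup _).map (centralizer ({x} : Set G)).subtype = (S : Subgroup G) := by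
    refine Subgroup.eq_of_le_of_card_ge hS (le_of_eq ?_)
    rw [Subgroup.card_map_of_injective (Subgroup.subtype_injective _), Sylow.card_eq_multiplicity,
      Sylow.card_eq_multiplicity, ← card_mul_index (centralizer ({x} : Set G)),
      Nat.factorization_mul Nat.card_pos.ne' index_ne_zero_of_finite, Finsupp.add_apply,
      Nat.factorization_eq_zero_of_not_dvd hx, add_zero]
  have hy' : a * y * a⁻¹ ∈ (S : Subgroup G) := by
    rw [← ha, Sylow.coe_subgroup_smul, Subgroup.mem_pointwise_smul_iff_inv_smul_mem]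
    simpa [MulAut.smul_def, mul_assoc] using hy
  rw [← hSQ] at hy'
  have hcm := map_subtype_le _ hy'
  rw [mem_centralizer_singleton_iff] at hcm ⊢
  calc y * (a⁻¹ * x * a) = a⁻¹ * ((a * y * a⁻¹) * x) * a := by group
    _ = a⁻¹ * (x * (a * y * a⁻¹)) * a := by rw [hcm]
    _ = a⁻¹ * x * a * y := by group



/-- Let G be a finite group and p a prime such that p divides the size of no conjugacy class of p-regular elements (elements of order prime to p). Then G is the internal direct product of a Sylow p-subgroup P and a normal subgroup H of order prime to p: P is normal, P ⊓ H = 1 and PH = G. -/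
theorem result {G : Type*} [Group G] [Finite G] {p : ℕ} [Fact p.Prime]
    (h : ∀ x : G, (orderOf x).Coprime p → ¬ p ∣ (ConjClasses.mk x).carrier.ncard) (P : Sylow p G) :
    (P : Subgroup G).Normal ∧ ∃ H : Subgroup G, H.Normal ∧ ¬ p ∣ Nat.card H ∧
      (P : Subgroup G) ⊓ H = ⊥ ∧ (P : Subgroup G) ⊔ H = ⊤ := by
  have hP : ∀ x : G, (orderOf x).Coprime p →
      ∃ a : G, (P : Subgroup G) ≤ Subgroup.centralizer ({a⁻¹ * x * a} : Set G) := fun x hx =>
    exists_conj_le_centralizer P x (by rw [← Cfsg.Agent.S4034.carrier_ncard]; exact h x hx)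
  set M := (P : Subgroup G) ⊔ Subgroup.centralizer ((P : Subgroup G) : Set G)
  have hM : M = ⊤ := by
    refine eq_top_of_cover M fun g => ?_
    obtain ⟨u, v, huv, hcom, -, -, ⟨k, hk⟩, hv⟩ :=
      Cfsg.Agent.Fusion.exists_pPart_mul (p := p) g (isOfFinOrder_of_finite g)
    obtain ⟨a, ha⟩ := hP v hv
    set C := Subgroup.centralizer ({a⁻¹ * v * a} : Set G)
    have hu : a⁻¹ * u * a ∈ C := by
      rw [Subgroup.mem_centralizer_singleton_iff]
      calc a⁻¹ * u * a * (a⁻¹ * v * a) = a⁻¹ * (u * v) * a := by group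
        _ = a⁻¹ * (v * u) * a := by rw [hcom.eq]
        _ = a⁻¹ * v * a * (a⁻¹ * u * a) := by group
    have hord : ∃ j : ℕ, orderOf (⟨_, hu⟩ : C) = p ^ j := by
      have he : orderOf (⟨_, hu⟩ : C) = orderOf u := by
        rw [← Subgroup.orderOf_coe]; exact ((MulAut.conj a⁻¹).orderOf_eq u ▸ by simp)
      obtain ⟨j, -, hj⟩ := (Nat.dvd_prime_pow (Fact.out : p.Prime)).mp hk
      exact ⟨j, he.trans hj⟩
    obtain ⟨y, hy, hconj⟩ := Cfsg.Agent.ClassCount.exists_mem_sylow_isConj (P.subtype ha) _ hord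
    obtain ⟨c, hc⟩ := isConj_iff.mp hconj
    refine ⟨a * (c : G)⁻¹, ?_⟩
    have hc' : (c : G) * (a⁻¹ * u * a) * (c : G)⁻¹ = (y : G) := congrArg Subtype.val hc
    have hcv : (c : G) * (a⁻¹ * v * a) = a⁻¹ * v * a * (c : G) :=
      Subgroup.mem_centralizer_singleton_iff.mp c.2
    have hyP : (y : G) ∈ (P : Subgroup G) := by simpa [Sylow.coe_subtype, Subgroup.mem_subgroupOf] using hy
    have heq : (a * (c : G)⁻¹)⁻¹ * g * (a * (c : G)⁻¹) = (y : G) * (a⁻¹ * v * a) := by
      rw [huv, ← hc']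
      calc (a * (c : G)⁻¹)⁻¹ * (u * v) * (a * (c : G)⁻¹)
          = ((c : G) * (a⁻¹ * u * a) * (c : G)⁻¹) * ((c : G) * (a⁻¹ * v * a)) * (c : G)⁻¹ := by group
        _ = _ := by rw [hcv]; group
    rw [heq]
    refine M.mul_mem (Subgroup.mem_sup_left hyP) (Subgroup.mem_sup_right ?_)
    intro z hz
    exact Subgroup.mem_centralizer_singleton_iff.mp (ha hz)
  have hn : (P : Subgroup G).Normal := by
    rw [← Subgroup.normalizer_eq_top_iff, ← top_le_iff, ← hM]
    exact sup_le Subgroup.le_normalizer (Subgroup.centralizer_le_normalizer _)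
  refine ⟨hn, ?_⟩
  obtain ⟨H, hH⟩ := Subgroup.exists_right_complement'_of_coprime P.card_coprime_index
  have hcard : Nat.card H = (P : Subgroup G).index := (hH.symm.index_eq_card).symm
  have hHp : ¬ p ∣ Nat.card H := hcard ▸ P.not_dvd_index
  have hHc : (P : Subgroup G) ≤ Subgroup.centralizer (H : Set G) := by
    intro y hy x hx
    have hxp : (orderOf x).Coprime p := by
      have hd : orderOf x ∣ Nat.card H := Subgroup.orderOf_dvd_natCard H hx
      exact Nat.Coprime.symm ((Fact.out : p.Prime).coprime_iff_not_dvd.mpr fun e => hHp (e.trans hd))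
    obtain ⟨a, ha⟩ := hP x hxp
    have h1 := Subgroup.mem_centralizer_singleton_iff.mp (ha (hn.conj_mem y hy a⁻¹))
    simp only [inv_inv] at h1
    calc x * y = a * (a⁻¹ * x * a * (a⁻¹ * y * a)) * a⁻¹ := by group
      _ = a * (a⁻¹ * y * a * (a⁻¹ * x * a)) * a⁻¹ := by rw [h1]
      _ = y * x := by group
  refine ⟨H, ?_, hHp, disjoint_iff.mp hH.disjoint, hH.sup_eq_top⟩
  rw [← Subgroup.normalizer_eq_top_iff, ← top_le_iff, ← hH.sup_eq_top]
  exact sup_le (hHc.trans (Subgroup.centralizer_le_normalizer _)) Subgroup.le_normalizer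

end Cfsg.Agent.S4035
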