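import Cfsg.Statements.S0867
import Cfsg.Agent.ProjExt.Criteria

set_option autoImplicit false
open Cfsg

namespace Cfsg.Agent.S0867

/-- Let N be a normal subgroup of the finite group G and ϑ an irreducible character of N of degree d, invariant under conjugation by G, such that the index of N is coprime to the product of d and the determinantal order of ϑ. Then there is an irreducible character χ of G restricting to ϑ whose determinantal order equals that of ϑ, and χ is the only irreducible character of G restricting to ϑ whose determinantal order is coprime to the index of N. -/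
theorem result {G : Type*} [Group G] [Finite G] (N : Subgroup G) [hN : N.Normal] (ϑ : N → ℂ) (hϑ : Cfsg.IsIrrCharacter N ϑ) (hinv : ∀ (g : G) (n : N), ϑ ⟨g * n * g⁻¹, hN.conj_mem (n : G) n.2 g⟩ = ϑ n) (d : ℕ) (hd : ϑ 1 = d) (hcop : Nat.Coprime N.index (Cfsg.detOrder ϑ * d)) : ∃ χ : G → ℂ, (Cfsg.IsIrrCharacter G χ ∧ (∀ n : N, χ n = ϑ n) ∧ Cfsg.detOrder χ = Cfsg.detOrder ϑ) ∧ ∀ χ' : G → ℂ, Cfsg.IsIrrCharacter G χ' → (∀ n : N, χ' n = ϑ n) → Nat.Coprime N.index (Cfsg.detOrder χ') → χ' = χ := by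
  obtain ⟨lam, hlam⟩ := ProjExt.exists_detChar_hom (Char.IsIrr.isCharacter hϑ)
  have ho : Cfsg.detOrder ϑ = orderOf lam := by
    rw [Cfsg.detOrder, hlam, ProjExt.orderOf_hom_coe]
  have hlinv : ∀ (g : G) (n : N), lam ⟨g * n * g⁻¹, hN.conj_mem (n : G) n.2 g⟩ = lam n := by
    intro g n
    refine Units.ext ?_
    let c : N →* N := MonoidHom.mk' (fun n => ⟨g * n * g⁻¹, hN.conj_mem (n : G) n.2 g⟩)
      fun a b => Subtype.ext (by simp [mul_assoc])
    have h1 := congrFun (ProjExt.detChar_comp (Char.IsIrr.isCharacter hϑ) c) n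
    rw [show (fun x => ϑ (c x)) = ϑ from funext (hinv g), hlam] at h1
    exact h1.symm
  obtain ⟨μ, hμN, hμo, hμu⟩ := ProjExt.exists_ext_of_coprime N lam (ProjExt.orderOf_pos_hom lam)
    hlinv (Nat.Coprime.coprime_mul_right_right (ho ▸ hcop))
  have hcd : Nat.Coprime N.index d := Nat.Coprime.coprime_mul_left_right hcop
  have hμdet : ∀ n : N, (μ n : ℂ) = Cfsg.detChar ϑ n := fun n => by rw [hμN, hlam]
  obtain ⟨η, hη, hres⟩ := ProjExt.extends_of_det N hϑ hinv hd hcd μ hμdet
  obtain ⟨χ, ⟨hχ, hχres, hχdet⟩, huniq⟩ :=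
    ProjExt.exists_unique_det N hϑ hd hcd (Char.IsIrr.isCharacter hη) hres μ hμdet
  refine ⟨χ, ⟨hχ, hχres, ?_⟩, fun χ' hχ' hres' hcop' => ?_⟩
  · rw [ho, Cfsg.detOrder, hχdet, ProjExt.orderOf_hom_coe, hμo]
  · obtain ⟨ν, hν⟩ := ProjExt.exists_detChar_hom (Char.IsIrr.isCharacter hχ')
    refine huniq χ' (Char.IsIrr.isCharacter hχ') hres' ?_
    rw [Cfsg.detOrder, hν, ProjExt.orderOf_hom_coe] at hcop'
    rw [hν, hμu ν (fun n => ?_) hcop']
    refine Units.ext ?_
    rw [← congrFun hν (n : G), ← congrFun hlam n, show ϑ = fun n : N => χ' n from funext fun n => (hres' n).symm]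
    exact (congrFun (ProjExt.detChar_comp (Char.IsIrr.isCharacter hχ') N.subtype) n).symm

end Cfsg.Agent.S0867
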