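import Cfsg.Statements.S0169
import Cfsg.Agent.ProjExt.Ratio

set_option autoImplicit false
open Cfsg

namespace Cfsg.Agent.S0169

/-- Itô's Theorem on character degrees: the degree of an irreducible complex representation of a finite group divides the index of any abelian normal subgroup. -/
theorem result {G : Type*} [Group G] [Finite G] {V : Type*} [AddCommGroup V] [Module ℂ V] [FiniteDimensional ℂ V] (ρ : Representation ℂ G V) [ρ.IsIrreducible] (H : Subgroup G) [H.Normal] (hH : ∀ a ∈ H, ∀ b ∈ H, a * b = b * a) : Module.finrank ℂ V ∣ H.index := by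
  classical
  have := Fintype.ofFinite G
  letI := Fintype.ofFinite H
  have hχ : Cfsg.IsIrrCharacter G ρ.character :=
    Cfsg.Agent.Char.isIrrCharacter_of_rep ρ inferInstance
  obtain ⟨φ, hφ⟩ := Cfsg.Agent.Char.exists_constituent_res (N := H) hχ
  have h1 : (φ : H → ℂ) 1 = 1 :=
    Cfsg.Agent.Char.forall_degree_one_iff.2 (fun a b => Subtype.ext (hH a a.2 b b.2)) φ
  obtain ⟨k, hk, hd⟩ := Cfsg.Agent.ProjExt.exists_ratio_dvd_index hχ φ.2 hφ
  rw [h1, mul_one, ρ.char_one] at hk
  exact (Nat.cast_injective (R := ℂ) hk) ▸ hd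

end Cfsg.Agent.S0169
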