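import Cfsg.Statements.S4911
import Cfsg.Agent.Char.Glauberman.Correspondence
import Cfsg.Agent.Char.Glauberman.Bridge
import Cfsg.Agent.Char.Perm
import Cfsg.Agent.Char.FS

set_option autoImplicit false
open Cfsg

namespace Cfsg.Agent.S4911

open Char Char.Glauberman

universe u v

variable {K : Type u} [Group K]

/-- A class is real. -/
def RealClass (C : ConjClasses K) : Prop := ∀ k : K, ConjClasses.mk k = C → IsConj k k⁻¹

theorem isConj_inv_inv {x y : K} (h : IsConj x y) : IsConj x⁻¹ y⁻¹ := by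
  obtain ⟨c, hc⟩ := isConj_iff.1 h
  exact isConj_iff.2 ⟨c, by rw [← hc]; group⟩

theorem realClass_mk {x : K} : RealClass (ConjClasses.mk x) ↔ IsConj x x⁻¹ := by
  refine ⟨fun h => h x rfl, fun h k hk => ?_⟩
  have hkx := ConjClasses.mk_eq_mk_iff_isConj.1 hk
  exact hkx.trans (h.trans (isConj_inv_inv hkx.symm))

/-- The real characters are as many as the real classes. -/
theorem card_real [Finite K] :
    Nat.card {χ : IrrCharacter K // ∀ g, ((χ : K → ℂ) g).im = 0} =
      Nat.card {C : ConjClasses K // RealClass C} := by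
  have := Fintype.ofFinite K
  let τ : ConjClasses K → ConjClasses K := Quotient.map (fun x => x⁻¹) fun x y h => isConj_inv_inv h
  have hb := brauer_permutation conjIrr τ fun χ g g' h => by
    have h' : IsConj g⁻¹ g' := ConjClasses.mk_eq_mk_iff_isConj.1 h
    rw [conjIrr_apply, ← IsChar.inv_eq_conj (IsIrr.isCharacter χ.2)]
    exact classFun_isConj (isClassFunction_of_isIrr χ.2) h'
  rw [Nat.card_congr (Equiv.subtypeEquivRight fun χ : IrrCharacter K => (conjIrr_eq_iff χ).symm), hb]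
  refine Nat.card_congr (Equiv.subtypeEquivRight fun C => ?_)
  obtain ⟨x, rfl⟩ := ConjClasses.mk_surjective C
  rw [realClass_mk]
  exact ⟨fun h => (ConjClasses.mk_eq_mk_iff_isConj.1 h).symm,
    fun h => ConjClasses.mk_eq_mk_iff_isConj.2 h.symm⟩

variable [Fintype K] {A : Type v} [Group A] {p : ℕ} [hp : Fact p.Prime] {a : A →* MulAut K}

theorem mult_conjIrr (H : Subgroup K) [Fintype H] (χ : IrrCharacter K) (β : IrrCharacter H) :
    mult H (conjIrr χ) (conjIrr β) = mult H χ β := by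
  have h := mult_spec H (conjIrr χ) (conjIrr β)
  have e : classInner (fun x : H => (conjIrr χ : K → ℂ) x) (conjIrr β : H → ℂ) =
      starRingEnd ℂ (classInner (fun x : H => (χ : K → ℂ) x) (β : H → ℂ)) := by
    simp only [classInner, map_mul, map_inv₀, map_natCast, map_sum, conjIrr_apply]
  rw [e, mult_spec, map_natCast] at h
  exact_mod_cast h.symm

/-- The Glauberman correspondence restricted to real characters. -/
theorem card_real_inv (hA : IsPGroup p A) (hcop : ¬ p ∣ Nat.card K) [Fintype (Fixed a)] :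
    Nat.card {χ : IrrCharacter K // (∀ g, ((χ : K → ℂ) g).im = 0) ∧ InvFun a (χ : K → ℂ)} =
      Nat.card {β : IrrCharacter (Fixed a) // ∀ g, ((β : Fixed a → ℂ) g).im = 0} := by
  have hconj : ∀ (χ : IrrCharacter K) (β : IrrCharacter (Fixed a)),
      InvFun a (χ : K → ℂ) → vec (p := p) a χ β ≠ 0 →
      InvFun a (conjIrr χ : K → ℂ) ∧ vec (p := p) a (conjIrr χ) (conjIrr β) ≠ 0 := by
    intro χ β hχ hβ
    refine ⟨fun t g => ?_, ?_⟩
    · rw [conjIrr_apply, conjIrr_apply, hχ t g]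
    · rwa [vec, mult_conjIrr]
  choose f hf using fun χ : {χ : IrrCharacter K // (∀ g, ((χ : K → ℂ) g).im = 0) ∧
    InvFun a (χ : K → ℂ)} => (existsUnique_vec hA hcop χ.2.2).exists
  refine Nat.card_eq_of_bijective (fun χ => ⟨f χ, (conjIrr_eq_iff _).1 ?_⟩) ⟨?_, ?_⟩
  · have h := (hconj χ.1 (f χ) χ.2.2 (hf χ)).2
    rw [(conjIrr_eq_iff _).2 χ.2.1] at h
    exact (existsUnique_vec hA hcop χ.2.2).unique h (hf χ)
  · intro χ χ' h
    have h' : f χ = f χ' := congrArg Subtype.val h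
    exact Subtype.ext (eq_of_vec_ne_zero hA hcop χ.2.2 χ'.2.2 (hf χ) (h' ▸ hf χ'))
  · rintro ⟨β, hβ⟩
    obtain ⟨χ, hχ, hv⟩ := exists_vec_ne_zero hA hcop β
    have h := hconj χ β hχ hv
    rw [(conjIrr_eq_iff β).2 hβ] at h
    have hr : ∀ g, ((χ : K → ℂ) g).im = 0 :=
      (conjIrr_eq_iff χ).1 (eq_of_vec_ne_zero hA hcop h.1 hχ h.2 hv)
    have hf' : vec (p := p) a χ (f ⟨χ, hr, hχ⟩) ≠ 0 := hf ⟨χ, hr, hχ⟩
    have heq : f ⟨χ, hr, hχ⟩ = β := (existsUnique_vec hA hcop hχ).unique hf' hv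
    exact ⟨⟨χ, hr, hχ⟩, Subtype.ext heq⟩

/-- The real classes of the fixed points are the invariant real classes. -/
theorem card_realClass_inv (hA : IsPGroup p A) (hcop : ¬ p ∣ Nat.card K) :
    Nat.card {C : ConjClasses (Fixed a) // RealClass C} =
      Nat.card {C : ConjClasses K // RealClass C ∧
        ∀ (t : A) (g : K), ConjClasses.mk g = C → ConjClasses.mk (a t g) = C} := by
  have hinv : ∀ (c : Fixed a) (t : A) (g : K), ConjClasses.mk g = ConjClasses.mk (c : K) →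
      ConjClasses.mk (a t g) = ConjClasses.mk (c : K) := by
    intro c t g hg
    have h := (a t).toMonoidHom.map_isConj (ConjClasses.mk_eq_mk_iff_isConj.1 hg)
    rw [MulEquiv.coe_toMonoidHom, c.2 t] at h
    exact ConjClasses.mk_eq_mk_iff_isConj.2 h
  refine Nat.card_eq_of_bijective (fun C => ⟨ConjClasses.map (Fixed a).subtype C.1, ?_⟩) ⟨?_, ?_⟩
  · obtain ⟨C, hC⟩ := C
    obtain ⟨c, rfl⟩ := ConjClasses.mk_surjective C
    exact ⟨realClass_mk.2 ((Fixed a).subtype.map_isConj (realClass_mk.1 hC)), hinv c⟩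
  · rintro ⟨C, hC⟩ ⟨C', hC'⟩ h
    obtain ⟨c, rfl⟩ := ConjClasses.mk_surjective C
    obtain ⟨c', rfl⟩ := ConjClasses.mk_surjective C'
    exact Subtype.ext (ConjClasses.mk_eq_mk_iff_isConj.2 (isConj_fixed hA hcop
      (ConjClasses.mk_eq_mk_iff_isConj.1 (congrArg Subtype.val h))))
  · rintro ⟨C, hC, hi⟩
    obtain ⟨g, rfl⟩ := ConjClasses.mk_surjective C
    obtain ⟨c, hc, hgc⟩ := exists_fixed_in_class hA hcop (g := g) fun t =>
      (ConjClasses.mk_eq_mk_iff_isConj.1 (hi t g rfl)).symm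
    refine ⟨⟨ConjClasses.mk ⟨c, hc⟩, realClass_mk.2 (isConj_fixed hA hcop ?_)⟩,
      Subtype.ext (ConjClasses.mk_eq_mk_iff_isConj.2 hgc.symm)⟩
    exact hgc.symm.trans ((realClass_mk.1 hC).trans (isConj_inv_inv hgc))


/-- Let P and K be subgroups of a finite group with P a p-group normalizing K and K of order prime to p. Then the number of P-invariant real-valued irreducible complex characters of K equals the number of conjugacy classes of K that are real (closed under inversion) and P-invariant. Moreover, if every real-valued irreducible character of K is P-invariant, then every real element of K (one conjugate in K to its inverse) is conjugate in K to an element centralized by P. -/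
theorem result {G : Type*} [Group G] [Finite G] (p : ℕ) [Fact p.Prime] (P K : Subgroup G) (hP : IsPGroup p ↥P) (hK : ¬ p ∣ Nat.card ↥K) (hPK : P ≤ Subgroup.normalizer (K : Set G)) : Nat.card {θ : Cfsg.IrrCharacter ↥K // (∀ k : ↥K, ((θ : ↥K → ℂ) k).im = 0) ∧ (∀ x ∈ P, ∀ k k' : ↥K, (k' : G) = x * (k : G) * x⁻¹ → (θ : ↥K → ℂ) k' = (θ : ↥K → ℂ) k)} = Nat.card {c : ConjClasses ↥K // (∀ k : ↥K, ConjClasses.mk k = c → IsConj k k⁻¹) ∧ ∀ k : ↥K, ConjClasses.mk k = c → ∀ x ∈ P, ∀ k' : ↥K, (k' : G) = x * (k : G) * x⁻¹ → ConjClasses.mk k' = c} ∧ ((∀ θ : Cfsg.IrrCharacter ↥K, (∀ k : ↥K, ((θ : ↥K → ℂ) k).im = 0) → (∀ x ∈ P, ∀ k k' : ↥K, (k' : G) = x * (k : G) * x⁻¹ → (θ : ↥K → ℂ) k' = (θ : ↥K → ℂ) k)) → ∀ k : ↥K, IsConj k k⁻¹ → ∃ k' : ↥K, IsConj k k' ∧ ∀ x ∈ P, x * (k' : G) * x⁻¹ = (k' : G)) := by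
  classical
  have := Fintype.ofFinite ↥K
  have hnorm : ∀ s ∈ P, ∀ g ∈ K, s * g * s⁻¹ ∈ K := fun s hs g hg =>
    (Subgroup.mem_normalizer_iff.1 (hPK hs) g).1 hg
  set a := conjOp hnorm with ha
  have := Fintype.ofFinite (Fixed a)
  have e1 : Nat.card {θ : Cfsg.IrrCharacter ↥K // (∀ k : ↥K, ((θ : ↥K → ℂ) k).im = 0) ∧
      (∀ x ∈ P, ∀ k k' : ↥K, (k' : G) = x * (k : G) * x⁻¹ → (θ : ↥K → ℂ) k' = (θ : ↥K → ℂ) k)} =
      Nat.card {θ : Cfsg.IrrCharacter ↥K // (∀ k : ↥K, ((θ : ↥K → ℂ) k).im = 0) ∧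
        InvFun a (θ : ↥K → ℂ)} :=
    Nat.card_congr (Equiv.subtypeEquivRight fun θ => and_congr_right fun _ => (invFun_iff hnorm _).symm)
  have e2 : Nat.card {c : ConjClasses ↥K // RealClass c ∧
      ∀ (t : P) (g : ↥K), ConjClasses.mk g = c → ConjClasses.mk (a t g) = c} =
      Nat.card {c : ConjClasses ↥K // (∀ k : ↥K, ConjClasses.mk k = c → IsConj k k⁻¹) ∧
        ∀ k : ↥K, ConjClasses.mk k = c → ∀ x ∈ P, ∀ k' : ↥K,
          (k' : G) = x * (k : G) * x⁻¹ → ConjClasses.mk k' = c} :=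
    Nat.card_congr (Equiv.subtypeEquivRight fun c => and_congr Iff.rfl ((invClass_iff hnorm c).trans
      ⟨fun h k hk x hx k' e => h x hx k k' e hk, fun h s hs g g' e hg => h g hg s hs g' e⟩))
  have e3 := (card_real_inv (a := a) hP hK).trans ((card_real).trans (card_realClass_inv (a := a) hP hK))
  refine ⟨e1.trans (e3.trans e2), fun hall k hk => ?_⟩
  -- every real class is invariant
  have hle : Nat.card {c : ConjClasses ↥K // RealClass c} ≤ Nat.card {c : ConjClasses ↥K //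
      RealClass c ∧ ∀ (t : P) (g : ↥K), ConjClasses.mk g = c → ConjClasses.mk (a t g) = c} := by
    rw [← e3, ← card_real]
    refine le_of_eq (Nat.card_congr (Equiv.subtypeEquivRight fun θ => ?_))
    exact ⟨fun h => ⟨h, (invFun_iff hnorm _).2 (hall θ h)⟩, fun h => h.1⟩
  let incl : {c : ConjClasses ↥K // RealClass c ∧ ∀ (t : P) (g : ↥K),
      ConjClasses.mk g = c → ConjClasses.mk (a t g) = c} → {c : ConjClasses ↥K // RealClass c} :=
    fun c => ⟨c.1, c.2.1⟩
  have hinj : Function.Injective incl := fun x y h => by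
    have h' := congrArg Subtype.val h
    exact Subtype.ext h'
  obtain ⟨⟨c, hcr, hc⟩, hcc⟩ :=
    (hinj.bijective_of_nat_card_le hle).2 ⟨_, realClass_mk.2 hk⟩
  have hcc' : c = ConjClasses.mk k := congrArg Subtype.val hcc
  subst hcc'
  obtain ⟨k', hk', hkk'⟩ := exists_fixed_in_class (a := a) hP hK (g := k) fun t =>
    (ConjClasses.mk_eq_mk_iff_isConj.1 (hc t k rfl)).symm
  exact ⟨k', hkk', fun x hx => congrArg Subtype.val (hk' ⟨x, hx⟩)⟩

end Cfsg.Agent.S4911
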