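import Mathlib
import Cfsg.Agent.Char.Glauberman.Correspondence
import Cfsg.Agent.Char.Glauberman.Bridge
import Cfsg.Agent.Char.Clifford
import Cfsg.Agent.Char.Linear
import Cfsg.Agent.Fusion.Tate
import Cfsg.Agent.S0867
import Cfsg.Agent.Blocks.Congr
import Cfsg.Agent.Core.Solvable

set_option autoImplicit false
open Cfsg

namespace Cfsg.Agent.S4591

open Cfsg.Agent.Char Cfsg.Agent.Char.Glauberman
open scoped ComplexConjugate commutatorElement

universe u

section

variable {G : Type u} [Group G] [Finite G] {p : ℕ} [hp : Fact p.Prime]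

/-- A character of degree prime to `p` has an irreducible constituent of degree prime to `p`. -/
theorem exists_constituent_prime [Fintype G] {ψ : G → ℂ} (h : IsCharacter G ψ) {n : ℕ} (hn : ψ 1 = n)
    (hp' : ¬ p ∣ n) :
    ∃ χ : IrrCharacter G, ¬ p ∣ charDegree (χ : G → ℂ) ∧ classInner ψ (χ : G → ℂ) ≠ 0 := by
  classical
  choose a ha using fun χ : IrrCharacter G => classInner_isCharacter_eq_natCast h (IsIrr.isCharacter χ.2)
  choose d hd0 hd using fun χ : IrrCharacter G => IsIrr.degree χ.2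
  have h1 := congrFun (classFun_expansion (isClassFunction_of_isCharacter h)) 1
  simp only [Finset.sum_apply, Pi.smul_apply, smul_eq_mul, ha, hd, hn] at h1
  have h2 : n = ∑ χ, a χ * d χ := by exact_mod_cast h1
  by_contra! hno
  apply hp'
  rw [h2]
  refine Finset.dvd_sum fun χ _ => ?_
  by_cases hz : a χ = 0
  · simp [hz]
  · refine Dvd.dvd.mul_left ?_ _
    have := hno χ
    rw [Blocks.charDegree_eq (hd χ), ha, Nat.cast_eq_zero] at this
    exact by_contra fun hc => hz (this hc)

/-- An irreducible character of `p`-prime degree over a character of a subgroup of `p`-prime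
index with the same property. -/
theorem exists_over [Fintype G] (H : Subgroup G) (hH : ¬ p ∣ H.index) {η : H → ℂ} (hη : IsCharacter H η)
    {d : ℕ} (hd : η 1 = d) (hd' : ¬ p ∣ d) [Fintype H] :
    ∃ χ : IrrCharacter G, ¬ p ∣ charDegree (χ : G → ℂ) ∧
      classInner (fun h : H => (χ : G → ℂ) h) η ≠ 0 := by
  obtain ⟨χ, hχ, hne⟩ := exists_constituent_prime (p := p) (isCharacter_indFun H hη)
    (n := H.index * d) (by rw [indFun_apply_one, hd, Nat.cast_mul])
    (fun hc => (hp.out.dvd_mul.1 hc).elim hH hd')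
  refine ⟨χ, hχ, fun h0 => hne ?_⟩
  rw [classInner_indFun_left H η (isClassFunction_of_isIrr χ.2), ← classInner_conj_symm, h0,
    map_zero]

theorem irr_subsingleton [Subsingleton G] (β γ : IrrCharacter G) : β = γ := by
  have hc : ∀ a b : G, a * b = b * a := fun a b => Subsingleton.elim _ _
  refine Subtype.ext (funext fun g => ?_)
  rw [Subsingleton.elim g 1, IsIrr.degree_one_of_comm β.2 hc, IsIrr.degree_one_of_comm γ.2 hc]

variable {A : Type u} [Group A]

/-- Without nontrivial fixed points there is no nontrivial invariant character. -/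
theorem eq_one_of_fixed_trivial [Fintype G] (a : A →* MulAut G) (hA : IsPGroup p A)
    (hcop : ¬ p ∣ Nat.card G) (hfix : ∀ g ∈ Fixed a, g = 1) (θ : IrrCharacter G)
    (hθ : InvFun a (θ : G → ℂ)) : (θ : G → ℂ) = fun _ => 1 := by
  classical
  have : Fintype (Fixed a) := Fintype.ofFinite _
  haveI : Subsingleton (Fixed a) := ⟨fun x y => Subtype.ext ((hfix x x.2).trans (hfix y y.2).symm)⟩
  let one : IrrCharacter G := ⟨fun _ => 1, isIrrCharacter_one⟩
  have hone : InvFun a (one : G → ℂ) := fun _ _ => rfl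
  obtain ⟨β, hβ, -⟩ := existsUnique_vec hA hcop hθ
  obtain ⟨γ, hγ, -⟩ := existsUnique_vec hA hcop hone
  rw [irr_subsingleton γ β] at hγ
  rw [eq_of_vec_ne_zero hA hcop hθ hone hβ hγ]

/-- With nontrivial fixed points there is a nontrivial invariant character. -/
theorem exists_invariant_ne_one [Fintype G] (a : A →* MulAut G) (hA : IsPGroup p A)
    (hcop : ¬ p ∣ Nat.card G) {g : G} (hg : g ∈ Fixed a) (hg1 : g ≠ 1) :
    ∃ θ : IrrCharacter G, InvFun a (θ : G → ℂ) ∧ (θ : G → ℂ) ≠ fun _ => 1 := by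
  classical
  have : Fintype (Fixed a) := Fintype.ofFinite _
  obtain ⟨β, hβ⟩ := exists_irr_ne_at_one (g := (⟨g, hg⟩ : Fixed a))
    fun e => hg1 (congrArg Subtype.val e)
  obtain ⟨θ, hθ, hv⟩ := exists_vec_ne_zero hA hcop β
  refine ⟨θ, hθ, fun e => hv ?_⟩
  have h := mult_spec (Fixed a) θ β
  have hne : (fun _ : Fixed a => (1 : ℂ)) ≠ (β : Fixed a → ℂ) := fun e' => hβ (by rw [← e'])
  rw [e, classInner_irr_ne isIrrCharacter_one β.2 hne] at h
  rw [vec, show mult (Fixed a) θ β = 0 by exact_mod_cast h.symm, Nat.cast_zero]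

end

section

variable {H : Type u} [Group H] [Finite H] {p : ℕ} [hp : Fact p.Prime] (N P : Subgroup H)
  [N.Normal] (hNP : N ⊔ P = ⊤) (hN : ¬ p ∣ Nat.card N) (hP : IsPGroup p P)

include hP hNP in
theorem index_pow : ∃ k : ℕ, N.index = p ^ k := by
  have h1 : N.index = N.relIndex P := by
    rw [← Subgroup.relIndex_top_right, ← hNP, sup_comm, Subgroup.relIndex_sup_right]
  obtain ⟨m, hm⟩ := IsPGroup.iff_card.1 hP
  obtain ⟨k, -, hk⟩ := (Nat.dvd_prime_pow hp.out).1
    ((h1 ▸ Subgroup.relIndex_dvd_card N P).trans (dvd_of_eq hm))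
  exact ⟨k, hk⟩

include hP hNP hN in
/-- With `C_N(P) = 1` every character of degree prime to `p` kills `N` and `P'`. -/
theorem kernel_of_prime_degree (hfix : ∀ n ∈ N, n ∈ Subgroup.centralizer (P : Set H) → n = 1)
    (η : IrrCharacter H) (hη : ¬ p ∣ charDegree (η : H → ℂ)) {x : H}
    (hx : x ∈ N ⊔ ⁅P, P⁆) : (η : H → ℂ) x = (η : H → ℂ) 1 := by
  classical
  have := Fintype.ofFinite H
  have := Fintype.ofFinite N
  obtain ⟨d, hd0, hd⟩ := IsIrr.degree η.2
  rw [Blocks.charDegree_eq hd] at hη
  obtain ⟨θ, hθ⟩ := exists_constituent_res (N := N) η.2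
  obtain ⟨m, hm⟩ := classInner_isCharacter_eq_natCast
    (isCharacter_res N (IsIrr.isCharacter η.2)) (IsIrr.isCharacter θ.2)
  obtain ⟨k, -, hk⟩ := IsIrr.degree θ.2
  have hdeg := degree_eq_of_clifford η.2 θ.2 hθ
  rw [hm, hd, hk, ← Nat.cast_mul, ← Nat.cast_mul, Nat.cast_inj] at hdeg
  have htop : inertia (θ : N → ℂ) = ⊤ := by
    rw [← Subgroup.index_eq_one]
    obtain ⟨e, he⟩ := index_pow N P hNP hP
    have h1 := Subgroup.index_dvd_of_le (le_inertia (isClassFunction_of_isIrr θ.2))
    rw [he] at h1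
    obtain ⟨j, -, hj⟩ := (Nat.dvd_prime_pow hp.out).1 h1
    rcases Nat.eq_zero_or_pos j with rfl | hj0
    · simpa using hj
    · exfalso
      refine hη ((dvd_pow_self p hj0.ne').trans ?_)
      rw [← hj, hdeg]
      exact (Dvd.intro_left m rfl).mul_right k
  have hnorm : ∀ s ∈ P, ∀ g ∈ N, s * g * s⁻¹ ∈ N := fun s _ g hg =>
    (inferInstance : N.Normal).conj_mem g hg s
  have hθ1 : (θ : N → ℂ) = fun _ => 1 := by
    refine eq_one_of_fixed_trivial (conjOp hnorm) hP hN (fun g hg => ?_) θ fun s g => ?_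
    · rw [fixed_eq, Subgroup.mem_subgroupOf] at hg
      exact Subtype.ext (hfix g g.2 hg)
    · have h := congrFun (mem_inertia.1 (htop ▸ Subgroup.mem_top (s : H) : (s : H) ∈ inertia (θ : N → ℂ))) g
      exact h
  have hNker : N ≤ kerSubgroup (IsIrr.isCharacter η.2) := by
    intro n hn
    rw [mem_kerSubgroup]
    have h1 := clifford η.2 θ.2 hθ
    have horb : orbit (θ : N → ℂ) = {fun _ => 1} := by
      refine Finset.eq_singleton_iff_unique_mem.2 ⟨hθ1 ▸ self_mem_orbit _, fun ψ hψ => ?_⟩
      obtain ⟨g, rfl⟩ := mem_orbit.1 hψ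
      rw [hθ1]; rfl
    rw [horb, Finset.sum_singleton] at h1
    have h2 := congrFun h1 ⟨n, hn⟩
    have h3 := congrFun h1 1
    simp only [Pi.smul_apply, smul_eq_mul, mul_one, OneMemClass.coe_one] at h2 h3
    rw [h2, h3]
  obtain ⟨φ, hφ, hφη⟩ := IsIrr.exists_quotient N η.2 fun n hn => hNker hn
  obtain ⟨e, he⟩ := index_pow N P hNP hP
  have hφd : φ 1 = d := by rw [← hd, hφη 1]; rfl
  have hd1 : d = 1 := by
    have hdc := IsIrr.degree_dvd_card hφ hφd
    rw [← Subgroup.index_eq_card, he] at hdc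
    obtain ⟨j, -, hj⟩ := (Nat.dvd_prime_pow hp.out).1 hdc
    rcases Nat.eq_zero_or_pos j with rfl | hj0
    · simpa using hj
    · exact absurd (hj ▸ dvd_pow_self p hj0.ne') hη
  obtain ⟨f, hf⟩ := IsChar.exists_hom (IsIrr.isCharacter η.2) (by rw [hd, hd1, Nat.cast_one])
  have hle : N ⊔ ⁅P, P⁆ ≤ kerSubgroup (IsIrr.isCharacter η.2) := by
    refine sup_le hNker fun y hy => ?_
    rw [mem_kerSubgroup, hf]
    have : y ∈ commutator H := Subgroup.commutator_mono le_top le_top hy
    simp [hom_commutator_eq_one f this]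
  exact hle hx

include hP hNP hN in
/-- With `C_N(P) ≠ 1` some character of degree prime to `p` does not kill `N`. -/
theorem exists_prime_degree_ne {n₀ : H} (hn₀ : n₀ ∈ N)
    (hc : n₀ ∈ Subgroup.centralizer (P : Set H)) (hne : n₀ ≠ 1) :
    ∃ η : IrrCharacter H, ¬ p ∣ charDegree (η : H → ℂ) ∧
      ∃ n ∈ N, (η : H → ℂ) n ≠ (η : H → ℂ) 1 := by
  classical
  have := Fintype.ofFinite H
  have := Fintype.ofFinite N
  have hnorm : ∀ s ∈ P, ∀ g ∈ N, s * g * s⁻¹ ∈ N := fun s _ g hg =>
    (inferInstance : N.Normal).conj_mem g hg s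
  obtain ⟨θ, hinv, hθ1⟩ := exists_invariant_ne_one (conjOp hnorm) hP hN (g := ⟨n₀, hn₀⟩)
    (by rw [fixed_eq, Subgroup.mem_subgroupOf]; exact hc) fun e => hne (congrArg Subtype.val e)
  have htop : inertia (θ : N → ℂ) = ⊤ := by
    rw [eq_top_iff, ← hNP]
    exact sup_le (le_inertia (isClassFunction_of_isIrr θ.2)) fun s hs =>
      mem_inertia.2 (funext fun g => hinv ⟨s, hs⟩ g)
  obtain ⟨d, hd0, hd⟩ := IsIrr.degree θ.2
  obtain ⟨e, he⟩ := index_pow N P hNP hP
  have hdet : Cfsg.detOrder (θ : N → ℂ) ∣ Nat.card N := by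
    obtain ⟨lam, hlam⟩ := ProjExt.exists_detChar_hom (IsIrr.isCharacter θ.2)
    rw [detOrder, hlam, ProjExt.orderOf_hom_coe]
    exact orderOf_dvd_of_pow_eq_one (MonoidHom.ext fun g => by
      rw [MonoidHom.pow_apply, MonoidHom.one_apply, ← map_pow, pow_card_eq_one', map_one])
  have hcopN : N.index.Coprime (Nat.card N) := by
    rw [he]; exact (hp.out.coprime_iff_not_dvd.2 hN).pow_left e
  obtain ⟨χ, ⟨hirr, hres, -⟩, -⟩ := S0867.result N (θ : N → ℂ) θ.2
    (fun g n => congrFun (mem_inertia.1 (htop ▸ Subgroup.mem_top g : g ∈ inertia (θ : N → ℂ))) n)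
    d hd (Nat.Coprime.mul_right (hcopN.coprime_dvd_right hdet)
      (hcopN.coprime_dvd_right (IsIrr.degree_dvd_card θ.2 hd)))
  have hχd : χ 1 = d := by
    have := hres 1
    rwa [OneMemClass.coe_one, hd] at this
  refine ⟨⟨χ, hirr⟩, ?_, ?_⟩
  · rw [Blocks.charDegree_eq (χ := χ) hχd]
    exact fun hc => hN (hc.trans (IsIrr.degree_dvd_card θ.2 hd))
  · by_contra! hall
    apply hθ1
    have hk : ∀ g : N, (θ : N → ℂ) g = d := fun g => by rw [← hres g]; exact (hall g g.2).trans hχd
    have hd1 : d = 1 := by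
      have h := classInner_irr_self θ.2
      rw [classInner] at h
      simp only [hk, map_natCast, Finset.sum_const, Finset.card_univ, nsmul_eq_mul,
        ← Nat.card_eq_fintype_card] at h
      rw [inv_mul_cancel_left₀ Char.card_ne_zero] at h
      have : d * d = 1 := by exact_mod_cast h
      exact (mul_eq_one.1 this).1
    funext g
    rw [hk g, hd1, Nat.cast_one]

end

section

variable {G : Type u} [Group G] [Finite G] {p : ℕ} [hp : Fact p.Prime]

theorem res_kernel (H : Subgroup G) [Fintype H] (χ : IrrCharacter G) {η : H → ℂ}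
    (hη : IsIrrCharacter H η) (hne : classInner (fun h : H => (χ : G → ℂ) h) η ≠ 0) {x : H}
    (hx : (χ : G → ℂ) x = (χ : G → ℂ) 1) : η x = η 1 :=
  IsChar.constituent_kernel (isCharacter_res H (IsIrr.isCharacter χ.2)) hη hne
    (by simpa using hx)

theorem not_dvd_card_of_trivial (P : Sylow p G) (N : Subgroup G) [N.Normal]
    (hN : N ⊓ Subgroup.centralizer ((P : Subgroup G) : Set G) = ⊥) : ¬ p ∣ Nat.card N := by
  intro hd
  let Q : Subgroup P := N.subgroupOf (P : Subgroup G)
  haveI : Nontrivial P := by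
    refine (Subgroup.nontrivial_iff_ne_bot _).2 (P.ne_bot_of_dvd_card ?_)
    exact hd.trans (Subgroup.card_subgroup_dvd_card N)
  have hQne : Q ≠ ⊥ := by
    intro e
    rw [Subgroup.subgroupOf_eq_bot, disjoint_iff] at e
    have h1 : N.relIndex (P : Subgroup G) = Nat.card P := by
      have h := Subgroup.relIndex_mul_relIndex (⊥ : Subgroup G) (N ⊓ (P : Subgroup G)) P bot_le inf_le_right
      rw [Subgroup.relIndex_bot_left, Subgroup.relIndex_bot_left, e, Subgroup.card_bot, one_mul,
        ← e, Subgroup.inf_relIndex_right] at h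
      exact h
    have h2 : Nat.card N * Nat.card P ∣ Nat.card G := by
      rw [← Subgroup.card_mul_index N, ← h1]
      exact mul_dvd_mul_left _ (Subgroup.relIndex_dvd_index_of_normal N _)
    rw [← Subgroup.card_mul_index (P : Subgroup G), mul_comm (Nat.card N)] at h2
    exact P.not_dvd_index (hd.trans (Nat.dvd_of_mul_dvd_mul_left Nat.card_pos h2))
  haveI : Q.Normal := Subgroup.Normal.subgroupOf inferInstance _
  haveI := P.2.isNilpotent
  obtain ⟨z, ⟨hzQ, hz⟩, hz1⟩ :=
    (Subgroup.bot_or_exists_ne_one _).resolve_left (Core.inf_center_ne_bot (N := Q) hQne)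
  apply hz1
  have hmem : (z : G) ∈ N ⊓ Subgroup.centralizer ((P : Subgroup G) : Set G) :=
    ⟨Subgroup.mem_subgroupOf.1 hzQ, Subgroup.mem_centralizer_iff.2 fun y hy =>
      congrArg Subtype.val (Subgroup.mem_center_iff.1 hz ⟨y, hy⟩)⟩
  rw [hN, Subgroup.mem_bot] at hmem
  exact Subtype.ext hmem

end

/-- Let G be a finite group, p a prime and P a Sylow p-subgroup, and let N be the largest normal subgroup of G in which P has trivial centralizer (N is normal with C_N(P) = 1 and contains every normal subgroup with that property). Then the intersection of the kernels of the irreducible characters of G of degree prime to p is the normal core in G of the subgroup N·P' (P' the derived subgroup of P). In particular, when G has no nontrivial normal subgroup of order prime to p, that intersection is the normal core of P'. -/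
theorem result {G : Type*} [Group G] [Finite G] (p : ℕ) [Fact p.Prime] (P : Sylow p G) (N : Subgroup G) [N.Normal]
    (hN : N ⊓ Subgroup.centralizer ((P : Subgroup G) : Set G) = ⊥)
    (hmax : ∀ L : Subgroup G, L.Normal → L ⊓ Subgroup.centralizer ((P : Subgroup G) : Set G) = ⊥ → L ≤ N) :
    {g : G | ∀ χ : Cfsg.IrrCharacter G, ¬ p ∣ Cfsg.charDegree (χ : G → ℂ) → (χ : G → ℂ) g = (χ : G → ℂ) 1} =
      ((N ⊔ ⁅(P : Subgroup G), (P : Subgroup G)⁆).normalCore : Set G) := by
  classical
  have hp : Fact p.Prime := inferInstance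
  have := Fintype.ofFinite G
  set Pg := (P : Subgroup G) with hPg
  have hPidx : ¬ p ∣ Pg.index := P.not_dvd_index
  have hNp : ¬ p ∣ Nat.card N := not_dvd_card_of_trivial P N hN
  -- the intersection of the kernels, as a subgroup
  let L : Subgroup G := ⨅ χ : {χ : IrrCharacter G // ¬ p ∣ charDegree (χ : G → ℂ)},
    kerSubgroup (IsIrr.isCharacter χ.1.2)
  haveI hLn : L.Normal := Subgroup.normal_iInf_normal fun χ => kerSubgroup_normal _
  have hLmem : ∀ g, g ∈ L ↔ ∀ χ : IrrCharacter G, ¬ p ∣ charDegree (χ : G → ℂ) →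
      (χ : G → ℂ) g = (χ : G → ℂ) 1 := fun g => by
    simp only [L, Subgroup.mem_iInf, mem_kerSubgroup, Subtype.forall]
  suffices hLK : L = (N ⊔ ⁅Pg, Pg⁆).normalCore by
    ext g
    rw [Set.mem_setOf_eq, ← hLmem, hLK]
    rfl
  have hPcomm : ⁅Pg, Pg⁆ ≤ Pg := Subgroup.commutator_le_self Pg
  apply le_antisymm
  · -- the intersection meets `P` in `P'`
    have hLP : ∀ x ∈ L, x ∈ Pg → x ∈ ⁅Pg, Pg⁆ := by
      intro x hxL hxP
      let _ : Fintype Pg := Fintype.ofFinite _
      suffices hx : (⟨x, hxP⟩ : Pg) ∈ commutator Pg by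
        rw [← Subgroup.map_subtype_commutator]
        exact ⟨_, hx, rfl⟩
      by_contra hx
      obtain ⟨φ, hφ⟩ := CommGroup.exists_apply_ne_one_of_hasEnoughRootsOfUnity
        (Abelianization Pg) ℂ (a := Abelianization.of ⟨x, hxP⟩) fun e => hx (by
          rw [← Abelianization.ker_of]; exact e)
      let f : Pg →* ℂˣ := φ.comp Abelianization.of
      obtain ⟨χ, hχ, hne⟩ := exists_over (p := p) Pg hPidx (isCharacter_hom f) (d := 1)
        (by simp) hp.out.not_dvd_one
      have h := res_kernel Pg χ (isIrrCharacter_hom f) hne (x := ⟨x, hxP⟩)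
        ((hLmem x).1 hxL χ hχ)
      simp only [map_one, Units.val_one] at h
      exact hφ (Units.val_eq_one.1 h)
    have hTate : HasNormalPComplement p L := by
      refine Fusion.hasNormalPComplement_of_normal_inf_le_frattini P L fun x hx => ?_
      have hc : commutator Pg ≤ frattini Pg := by
        haveI := P.2.isNilpotent
        exact Core.commutator_le_frattini
      have h1 : x ∈ (commutator Pg).map Pg.subtype := by
        rw [Subgroup.map_subtype_commutator]; exact hLP x hx.1 hx.2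
      exact Subgroup.map_mono hc h1
    obtain ⟨S, M₀, hM₀n, hMS⟩ := hTate
    haveI := hM₀n
    have hM₀p : ¬ p ∣ Nat.card M₀ := by
      rw [← hMS.index_eq_card]; exact S.not_dvd_index
    have hM₀le : ∀ K : Subgroup L, ¬ p ∣ Nat.card K → K ≤ M₀ := by
      intro K hK
      rw [← Subgroup.relIndex_eq_one]
      refine Nat.eq_one_of_dvd_coprimes (?_ : Nat.Coprime M₀.index (Nat.card K))
        (Subgroup.relIndex_dvd_index_of_normal M₀ K) (Subgroup.relIndex_dvd_card M₀ K)
      obtain ⟨k, hk⟩ := IsPGroup.iff_card.1 S.2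
      rw [hMS.symm.index_eq_card, hk]
      exact (hp.out.coprime_iff_not_dvd.2 hK).pow_left k
    haveI hMn : (M₀.map L.subtype).Normal := by
      refine ⟨fun m hm g => ?_⟩
      obtain ⟨m, hm0, rfl⟩ := hm
      let e : MulAut L := MulAut.conjNormal g
      have h1 : M₀.map e.toMonoidHom ≤ M₀ := hM₀le _ (by
        have hc : Nat.card ↥(M₀.map e.toMonoidHom) = Nat.card M₀ :=
          Subgroup.card_map_of_injective (f := e.toMonoidHom) e.injective
        rwa [hc])
      exact ⟨e m, h1 ⟨m, hm0, rfl⟩, rfl⟩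
    set M := M₀.map L.subtype with hM
    have hMp : ¬ p ∣ Nat.card M := by
      rwa [hM, Subgroup.card_map_of_injective L.subtype_injective]
    have hMfix : M ⊓ Subgroup.centralizer (Pg : Set G) = ⊥ := by
      rw [eq_bot_iff]
      rintro n ⟨hnM, hnC⟩
      rw [Subgroup.mem_bot]
      by_contra hn1
      let H := M ⊔ Pg
      let _ : Fintype H := Fintype.ofFinite _
      let M' := M.subgroupOf H
      let P' := Pg.subgroupOf H
      haveI : M'.Normal := Subgroup.Normal.subgroupOf inferInstance _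
      have htop : M' ⊔ P' = ⊤ := by
        rw [← Subgroup.subgroupOf_sup le_sup_left le_sup_right, Subgroup.subgroupOf_self]
      have hM'p : ¬ p ∣ Nat.card M' := by
        rwa [Nat.card_congr (Subgroup.subgroupOfEquivOfLe (le_sup_left : M ≤ H)).toEquiv]
      obtain ⟨η, hη, m, hm, hmne⟩ := exists_prime_degree_ne (p := p) M' P' htop hM'p
        (P.2.comap_subtype) (n₀ := ⟨n, Subgroup.mem_sup_left hnM⟩) hnM
        (Subgroup.mem_centralizer_iff.2 fun y hy =>
          Subtype.ext (Subgroup.mem_centralizer_iff.1 hnC y hy))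
        fun e => hn1 (congrArg Subtype.val e)
      obtain ⟨d, hd0, hd⟩ := IsIrr.degree η.2
      rw [Blocks.charDegree_eq hd] at hη
      obtain ⟨χ, hχ, hne⟩ := exists_over (p := p) H
        (fun hc => hPidx (hc.trans (Subgroup.index_dvd_of_le le_sup_right))) (IsIrr.isCharacter η.2)
        hd hη
      refine hmne (res_kernel H χ η.2 hne ((hLmem _).1 ?_ χ hχ))
      exact Subgroup.map_subtype_le M₀ (Subgroup.mem_subgroupOf.1 hm)
    have hMN : M ≤ N := hmax M inferInstance hMfix
    refine Subgroup.normal_le_normalCore.2 fun x hxL => ?_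
    have hLPidx : ¬ p ∣ (Pg.subgroupOf L).index := fun hc =>
      hPidx (hc.trans (by
        rw [← Subgroup.inf_subgroupOf_right]
        have h := Subgroup.relIndex_dvd_index_of_normal L Pg
        have h2 : (Pg ⊓ L).relIndex L * L.index = (Pg ⊓ L).index :=
          Subgroup.relIndex_mul_index inf_le_right
        have h3 : (Pg ⊓ L).relIndex Pg * Pg.index = (Pg ⊓ L).index :=
          Subgroup.relIndex_mul_index inf_le_left
        rw [inf_comm, Subgroup.inf_relIndex_right, inf_comm] at h3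
        obtain ⟨c, hc'⟩ := h
        rw [← h3, hc'] at h2
        refine ⟨c, Nat.eq_of_mul_eq_mul_left (n := L.relIndex Pg) (Nat.pos_of_ne_zero ?_) ?_⟩
        · exact Subgroup.index_ne_zero_of_finite (H := L.subgroupOf Pg)
        · rw [h2.symm]; show _ = L.relIndex Pg * ((Pg ⊓ L).relIndex L * c); ring))
    have hLtop : M₀ ⊔ Pg.subgroupOf L = ⊤ := by
      rw [← Subgroup.index_eq_one]
      obtain ⟨k, hk⟩ := IsPGroup.iff_card.1 S.2
      have h1 : (M₀ ⊔ Pg.subgroupOf L).index ∣ p ^ k := by
        rw [← hk, ← hMS.symm.index_eq_card]; exact Subgroup.index_dvd_of_le le_sup_left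
      obtain ⟨j, -, hj⟩ := (Nat.dvd_prime_pow hp.out).1 h1
      rcases Nat.eq_zero_or_pos j with rfl | hj0
      · simpa using hj
      · exact absurd ((hj ▸ dvd_pow_self p hj0.ne').trans
          (Subgroup.index_dvd_of_le le_sup_right)) hLPidx
    have hxm : (⟨x, hxL⟩ : L) ∈ M₀ ⊔ Pg.subgroupOf L := hLtop ▸ Subgroup.mem_top _
    rw [Subgroup.mem_sup_of_normal_left] at hxm
    obtain ⟨m, hm, y, hy, e⟩ := hxm
    have hx : (m : G) * y = x := congrArg Subtype.val e
    rw [← hx]
    exact Subgroup.mul_mem_sup (hMN ⟨m, hm, rfl⟩) (hLP y y.2 hy)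
  · -- the core lies in every kernel
    set K := (N ⊔ ⁅Pg, Pg⁆).normalCore with hK
    intro x hx
    rw [hLmem]
    intro χ hχ
    let H := N ⊔ Pg
    let _ : Fintype H := Fintype.ofFinite _
    haveI : (N.subgroupOf H).Normal := Subgroup.Normal.subgroupOf inferInstance _
    have hKH : K ≤ H := (Subgroup.normalCore_le _).trans (sup_le_sup_left hPcomm N)
    obtain ⟨d, hd0, hd⟩ := IsIrr.degree χ.2
    rw [Blocks.charDegree_eq hd] at hχ
    obtain ⟨η, hη, hne⟩ := exists_constituent_prime (p := p)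
      (isCharacter_res H (IsIrr.isCharacter χ.2)) (n := d) hd hχ
    have hkey : ∀ y : H, (y : G) ∈ N ⊔ ⁅Pg, Pg⁆ → (η : H → ℂ) y = (η : H → ℂ) 1 := by
      intro y hy
      refine kernel_of_prime_degree (p := p) (N.subgroupOf H) (Pg.subgroupOf H) ?_ ?_
        P.2.comap_subtype ?_ η hη ?_
      · rw [← Subgroup.subgroupOf_sup le_sup_left le_sup_right, Subgroup.subgroupOf_self]
      · rwa [Nat.card_congr (Subgroup.subgroupOfEquivOfLe (le_sup_left : N ≤ H)).toEquiv]
      · intro n hn hc
        apply Subtype.ext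
        refine Subgroup.mem_bot.1 (hN ▸ ⟨hn, Subgroup.mem_centralizer_iff.2 fun z hz => ?_⟩)
        exact congrArg Subtype.val
          (Subgroup.mem_centralizer_iff.1 hc ⟨z, Subgroup.mem_sup_right hz⟩ hz)
      · have hle : N ⊔ ⁅Pg, Pg⁆ ≤
            (N.subgroupOf H ⊔ ⁅Pg.subgroupOf H, Pg.subgroupOf H⁆).map H.subtype := by
          rw [Subgroup.map_sup, Subgroup.map_commutator, Subgroup.map_subgroupOf_eq_of_le
            (le_sup_left : N ≤ H), Subgroup.map_subgroupOf_eq_of_le (le_sup_right : Pg ≤ H)]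
        obtain ⟨y', hy', e⟩ := hle hy
        rwa [← Subtype.ext e]
    let _ : Fintype K := Fintype.ofFinite _
    -- some constituent on `K` is trivial, so all are
    let one : IrrCharacter K := ⟨fun _ => 1, isIrrCharacter_one⟩
    suffices hone : classInner (fun k : K => (χ : G → ℂ) k) (one : K → ℂ) ≠ 0 by
      have h1 := clifford χ.2 one.2 hone
      have horb : orbit (one : K → ℂ) = {fun _ => 1} :=
        Finset.eq_singleton_iff_unique_mem.2 ⟨self_mem_orbit _, fun ψ hψ => by
          obtain ⟨g, rfl⟩ := mem_orbit.1 hψ; rfl⟩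
      rw [horb, Finset.sum_singleton] at h1
      have h2 := congrFun h1 ⟨x, hx⟩
      have h3 := congrFun h1 1
      simp only [Pi.smul_apply, smul_eq_mul, mul_one, OneMemClass.coe_one] at h2 h3
      rw [h2, h3]
    intro h0
    let K' := K.subgroupOf H
    let _ : Fintype K' := Fintype.ofFinite _
    have hres : IsCharacter H ((fun h : H => (χ : G → ℂ) h) - (η : H → ℂ)) :=
      IsChar.sub_constituent (isCharacter_res H (IsIrr.isCharacter χ.2)) η.2 hne
    let ε : K ≃* K' := (Subgroup.subgroupOfEquivOfLe hKH).symm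
    let ι : K →* H := Subgroup.inclusion hKH
    obtain ⟨a, ha⟩ := classInner_isCharacter_eq_natCast
      (isCharacter_comp ι hres) (IsIrr.isCharacter one.2)
    obtain ⟨dη, hdη0, hdη⟩ := IsIrr.degree η.2
    have hconst : (fun k : K => (η : H → ℂ) (ι k)) = (dη : ℂ) • (one : K → ℂ) := by
      funext k
      rw [Pi.smul_apply, smul_eq_mul, mul_one, hkey (ι k) (Subgroup.normalCore_le _ k.2), hdη]
    have hsum : (fun k : K => (χ : G → ℂ) k) =
        (fun k : K => ((fun h : H => (χ : G → ℂ) h) - (η : H → ℂ)) (ι k)) +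
          fun k : K => (η : H → ℂ) (ι k) := by
      funext k; simp [ι]
    rw [hsum, classInner_add_left, hconst, classInner_smul_left, classInner_irr_self one.2,
      mul_one, ha, ← Nat.cast_add, Nat.cast_eq_zero] at h0
    omega

end Cfsg.Agent.S4591
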