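import Cfsg.Statements.S3744
import Cfsg.Agent.Layer.PConstraint
import Cfsg.Agent.Core.MinimalNormal
import Cfsg.Agent.Coprime.Basic

set_option autoImplicit false
open Cfsg

namespace Cfsg.Agent.S3744

set_option maxHeartbeats 400000
open Subgroup
open scoped Pointwise

universe u

theorem exists_normal_case {p : ℕ} [Fact p.Prime] {G : Type u} [Group G] [Finite G] [Nontrivial G]
    (hG : Cfsg.IsPSolvable p G) : ∃ N : Subgroup G, N.Normal ∧ N ≠ ⊥ ∧
      (IsPGroup p N ∨ (Nat.card N).Coprime p) := by
  obtain ⟨n, S, h0, hl, -, hn, hi⟩ := hG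
  by_contra hcon
  have key : ∀ i : Fin (n + 1), S i = ⊥ := by
    intro i
    induction i using Fin.induction with
    | zero => exact h0
    | succ j ih =>
      by_contra hne
      refine hcon ⟨_, hn j.succ, hne, ?_⟩
      have := hi j
      rw [ih, relIndex_bot_left] at this
      exact this.imp (fun ⟨k, hk⟩ => IsPGroup.of_card hk) id
  exact top_ne_bot (hl.symm.trans (key (Fin.last n)))

theorem hall_psolvable {p : ℕ} [hp : Fact p.Prime] (G : Type u) [Group G] [Finite G]
    (hG : Cfsg.IsPSolvable p G) :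
    (∃ H : Subgroup G, (Nat.card H).Coprime p ∧ ∃ n, H.index = p ^ n) ∧
      ∀ U H : Subgroup G, (Nat.card U).Coprime p → (Nat.card H).Coprime p →
        (∃ n, H.index = p ^ n) → ∃ g : G, U.map (MulAut.conj g).toMonoidHom ≤ H := by
  induction hn : Nat.card G using Nat.strong_induction_on generalizing G with
  | _ n IH =>
  subst hn
  rcases subsingleton_or_nontrivial G with hs | hs
  · exact ⟨⟨⊥, by simp, 0, by rw [pow_zero, index_eq_one]; exact Subsingleton.elim _ _⟩,
      fun U H _ _ _ => ⟨1, fun x _ => Subsingleton.elim (1 : G) x ▸ one_mem H⟩⟩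
  obtain ⟨N, hNn, hN1, hN⟩ := exists_normal_case hG
  haveI := hNn
  set f := QuotientGroup.mk' N with hf
  have hfs : Function.Surjective f := QuotientGroup.mk'_surjective N
  have hker : f.ker = N := QuotientGroup.ker_mk' N
  obtain ⟨⟨H0, hH0, a, ha⟩, hU0⟩ := IH _ (Core.card_quotient_lt hN1) (G ⧸ N)
    (Layer.isPSolvable_of_surjective hG hfs) rfl
  have hmapcard : ∀ X : Subgroup G, Nat.card (X.map f) ∣ Nat.card X := fun X => card_dvd_of_surjective (f.subgroupMap X) (f.subgroupMap_surjective X)
  have himg : ∀ H : Subgroup G, (Nat.card H).Coprime p → (∃ n, H.index = p ^ n) →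
      (Nat.card (H.map f)).Coprime p ∧ ∃ n, (H.map f).index = p ^ n := by
    rintro H hH ⟨m, hm⟩
    refine ⟨hH.coprime_dvd_left (hmapcard H), ?_⟩
    obtain ⟨j, -, hj⟩ := (Nat.dvd_prime_pow hp.out).mp (hm ▸ index_map_dvd H hfs)
    exact ⟨j, hj⟩
  have hmapU : ∀ (U : Subgroup G) (g : G), (U.map f).map (MulAut.conj (f g)).toMonoidHom =
      (U.map (MulAut.conj g).toMonoidHom).map f := fun U g => by
    rw [Subgroup.map_map, Subgroup.map_map]
    exact congrArg (Subgroup.map · U) (MonoidHom.ext fun x => by simp)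
  rcases hN with hNp | hNc
  · -- `N` is a `p`-group
    set X := H0.comap f with hX
    have hNX : N ≤ X := hker ▸ Subgroup.ker_le_comap f H0
    obtain ⟨b, hb⟩ := IsPGroup.iff_card.mp hNp
    have hNidx : (N.subgroupOf X).index = Nat.card H0 := by
      have h1 : N.relIndex X = Nat.card H0 := by
        conv_lhs => rw [← hker, ← MonoidHom.comap_bot, hX, relIndex_comap,
          map_comap_eq_self_of_surjective hfs, relIndex_bot_left]
      exact h1
    have hcopN : (Nat.card (N.subgroupOf X)).Coprime (N.subgroupOf X).index := by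
      rw [Nat.card_congr (subgroupOfEquivOfLe hNX).toEquiv, hb, hNidx]
      exact hH0.symm.pow_left b
    obtain ⟨L, hL⟩ := exists_right_complement'_of_coprime hcopN
    refine ⟨⟨L.map X.subtype, ?_, ?_⟩, ?_⟩
    · rw [card_map_of_injective X.subtype_injective, ← hL.symm.index_eq_card, hNidx]
      exact hH0
    · refine ⟨b + a, ?_⟩
      have h5 : X.index = p ^ a := (index_comap_of_surjective H0 hfs).trans ha
      rw [index_map_subtype, h5, hL.index_eq_card,
        Nat.card_congr (subgroupOfEquivOfLe hNX).toEquiv, hb, pow_add]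
    · intro U H hU hH hHi
      obtain ⟨c, hc⟩ := hU0 (U.map f) (H.map f) (hU.coprime_dvd_left (hmapcard U)) (himg H hH hHi).1
        (himg H hH hHi).2
      obtain ⟨g, rfl⟩ := hfs c
      rw [hmapU, Subgroup.map_le_iff_le_comap, comap_map_eq, hker] at hc
      set U' := U.map (MulAut.conj g).toMonoidHom with hU'
      set A := H ⊓ (N ⊔ U') with hA
      have hAK : A ≤ normalizer (N : Set G) := by rw [normalizer_eq_top]; exact le_top
      have hUK : U' ≤ normalizer (N : Set G) := by rw [normalizer_eq_top]; exact le_top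
      have hU'c : (Nat.card U').Coprime p := by
        rw [hU', card_map_of_injective (MulAut.conj g).injective]; exact hU
      have hAc : (Nat.card A).Coprime p := hH.coprime_dvd_left (card_dvd_of_le inf_le_left)
      have hsup : N ⊔ A = N ⊔ U' := by
        refine le_antisymm (sup_le le_sup_left inf_le_right) (sup_le le_sup_left fun u hu => ?_)
        have h1 : u ∈ (↑(N ⊔ H) : Set G) := by rw [sup_comm]; exact hc hu
        rw [normal_mul] at h1
        obtain ⟨n, hn, h, hh, rfl⟩ := h1
        refine mul_mem_sup hn (mem_inf.mpr ⟨hh, ?_⟩)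
        have := mul_mem (mem_sup_left (T := U') (inv_mem hn)) (mem_sup_right (S := N) hu)
        rwa [inv_mul_cancel_left] at this
      have hd1 : N ⊓ A = ⊥ := inf_eq_bot_of_coprime (by rw [hb]; exact hAc.symm.pow_left b)
      have hd2 : N ⊓ U' = ⊥ := inf_eq_bot_of_coprime (by rw [hb]; exact hU'c.symm.pow_left b)
      have hcard : Nat.card U' = Nat.card A := by
        have h1 := congrArg (fun Y : Subgroup G => Nat.card Y) hsup
        simp only [Coprime.card_sup_eq_mul hAK hd1, Coprime.card_sup_eq_mul hUK hd2] at h1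
        exact (Nat.eq_of_mul_eq_mul_left Nat.card_pos h1).symm
      obtain ⟨k, -, hk⟩ := Coprime.exists_conj_eq (B := U') hAK
        (by rw [hb]; exact hAc.pow_right b) (Or.inr (Layer.isSolvable_of_isPGroup hNp))
        (le_sup_right.trans hsup.ge) hcard
      refine ⟨k * g, ?_⟩
      rintro _ ⟨u, hu, rfl⟩
      suffices h : (MulAut.conj (k * g)).toMonoidHom u ∈ A from (mem_inf.mp h).1
      rw [← hk, Coprime.mem_conj_smul]
      refine ⟨u, hu, ?_⟩
      simp [mul_assoc]
  · -- `N` has order prime to `p`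
    refine ⟨⟨H0.comap f, ?_, a, by rw [index_comap_of_surjective H0 hfs, ha]⟩, ?_⟩
    · have h1 : Nat.card (H0.comap f) = Nat.card H0 * Nat.card N := by
        have h2 := card_mul_index (H0.comap f)
        have h3 := card_mul_index H0
        have h4 : Nat.card G = Nat.card (G ⧸ N) * Nat.card N := card_eq_card_quotient_mul_card_subgroup N
        rw [index_comap_of_surjective H0 hfs, h4, ← h3, mul_assoc, mul_comm H0.index, ← mul_assoc] at h2
        exact Nat.eq_of_mul_eq_mul_right (Nat.pos_of_ne_zero index_ne_zero_of_finite) h2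
      rw [h1]
      exact hH0.mul_left hNc
    · intro U H hU hH hHi
      have hNH : N ≤ H := by
        obtain ⟨m, hm⟩ := hHi
        have hdvd : (H.subgroupOf (H ⊔ N)).index ∣ p ^ m :=
          hm ▸ Dvd.intro _ (relIndex_mul_index (le_sup_left : H ≤ H ⊔ N))
        have hdvd2 : H.relIndex (H ⊔ N) ∣ Nat.card N := by
          refine Dvd.intro (Nat.card (H ⊓ N : Subgroup G)) ?_
          have h1 := Core.card_sup_mul_card_inf H N
          rw [← relIndex_bot_left (H := H ⊔ N), ← relIndex_mul_relIndex _ _ _ bot_le (le_sup_left : H ≤ H ⊔ N),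
            relIndex_bot_left] at h1
          refine Nat.eq_of_mul_eq_mul_right (Nat.card_pos (α := H)) ?_
          linarith
        exact le_sup_right.trans (relIndex_eq_one.mp
          (Nat.eq_one_of_dvd_coprimes (hNc.pow_right m) hdvd2 hdvd))
      obtain ⟨c, hc⟩ := hU0 (U.map f) (H.map f) (hU.coprime_dvd_left (hmapcard U)) (himg H hH hHi).1
        (himg H hH hHi).2
      obtain ⟨g, rfl⟩ := hfs c
      rw [hmapU, Subgroup.map_le_iff_le_comap, comap_map_eq, hker] at hc
      exact ⟨g, hc.trans (sup_le le_rfl hNH)⟩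

/-- A finite p-soluble group has a p-complement, all its p-complements are conjugate, and every subgroup of order prime to p lies in one of them. Here a p-complement is a subgroup of order prime to p whose index is a power of p. -/
theorem result {G : Type*} [Group G] [Finite G] {p : ℕ} [Fact p.Prime] (hG : Cfsg.IsPSolvable p G) : (∃ H : Subgroup G, (Nat.card H).Coprime p ∧ ∃ n : ℕ, H.index = p ^ n) ∧ (∀ H₁ H₂ : Subgroup G, (Nat.card H₁).Coprime p → (∃ n : ℕ, H₁.index = p ^ n) → (Nat.card H₂).Coprime p → (∃ n : ℕ, H₂.index = p ^ n) → ∃ g : G, H₂ = H₁.map (MulAut.conj g).toMonoidHom) ∧ (∀ U : Subgroup G, (Nat.card U).Coprime p → ∃ H : Subgroup G, (Nat.card H).Coprime p ∧ (∃ n : ℕ, H.index = p ^ n) ∧ ∃ g : G, U.map (MulAut.conj g).toMonoidHom ≤ H) := by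
  obtain ⟨⟨H, hH, hHi⟩, hU⟩ := hall_psolvable G hG
  refine ⟨⟨H, hH, hHi⟩, fun H₁ H₂ h1 h1i h2 h2i => ?_, fun U hUc => ⟨H, hH, hHi, hU U H hUc hH hHi⟩⟩
  obtain ⟨g, hg⟩ := hU H₁ H₂ h1 h2 h2i
  refine ⟨g, (Subgroup.eq_of_le_of_card_ge hg ?_).symm⟩
  rw [Subgroup.card_map_of_injective (MulAut.conj g).injective]
  obtain ⟨g', hg'⟩ := hU H₂ H₁ h2 h1 h1i
  have := Subgroup.card_le_of_le hg'
  rwa [Subgroup.card_map_of_injective (MulAut.conj g').injective] at this

end Cfsg.Agent.S3744
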