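import Cfsg.Statements.S4201
import Mathlib


set_option autoImplicit false
open Cfsg

namespace Cfsg.Agent.S4201

/-- If N is a normal subgroup of the finite group X then k(X) ≤ k(N)·k(X ⧸ N), where k denotes the number of conjugacy classes. -/
theorem result {X : Type*} [Group X] [Finite X] (N : Subgroup X) [N.Normal] : Nat.card (ConjClasses X) ≤ Nat.card (ConjClasses N) * Nat.card (ConjClasses (X ⧸ N)) := by
  classical
  have := Fintype.ofFinite X
  have hL : ∀ (a : X) (q : X ⧸ N), Nat.card {b : X // (b : X ⧸ N) = q ∧ Commute a b} ≤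
      Nat.card {m : N // Commute a (m : X)} := by
    intro a q
    rcases isEmpty_or_nonempty {b : X // (b : X ⧸ N) = q ∧ Commute a b} with he | ⟨⟨b₀, hb₀, hc₀⟩⟩
    · rw [Nat.card_of_isEmpty]; exact Nat.zero_le _
    · refine Nat.card_le_card_of_injective (fun b => ⟨⟨b₀⁻¹ * b.1, QuotientGroup.eq.mp (hb₀.trans b.2.1.symm)⟩,
        (hc₀.inv_right).mul_right b.2.2⟩) fun b b' h => ?_
      have h1 := congrArg (fun m : {m : N // Commute a (m : X)} => (m.1 : X)) h
      exact Subtype.ext (mul_left_cancel h1)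
  let PX := {s : X × X // Commute s.1 s.2}
  let PN := {s : N × N // Commute s.1 s.2}
  let PQ := {s : (X ⧸ N) × (X ⧸ N) // Commute s.1 s.2}
  let π : PX → PQ := fun s => ⟨((s.1.1 : X ⧸ N), (s.1.2 : X ⧸ N)), s.2.map (QuotientGroup.mk' N)⟩
  have hfib : ∀ t : PQ, Nat.card {s : PX // π s = t} ≤ Nat.card PN := by
    rintro ⟨⟨q₁, q₂⟩, ht⟩
    let e : {s : PX // π s = ⟨(q₁, q₂), ht⟩} ≃
        Σ a : {a : X // (a : X ⧸ N) = q₁}, {b : X // (b : X ⧸ N) = q₂ ∧ Commute a.1 b} :=
      { toFun := fun s => ⟨⟨s.1.1.1, congrArg (fun t : PQ => t.1.1) s.2⟩,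
          ⟨s.1.1.2, congrArg (fun t : PQ => t.1.2) s.2, s.1.2⟩⟩
        invFun := fun u => ⟨⟨(u.1.1, u.2.1), u.2.2.2⟩, Subtype.ext (Prod.ext u.1.2 u.2.2.1)⟩
        left_inv := fun s => rfl
        right_inv := fun u => rfl }
    rw [Nat.card_congr e, Nat.card_sigma]
    refine (Finset.sum_le_sum fun a _ => hL a.1 q₂).trans ?_
    rw [← Nat.card_sigma]
    let e2 : (Σ a : {a : X // (a : X ⧸ N) = q₁}, {m : N // Commute a.1 (m : X)}) ≃
        Σ m : N, {a : X // (a : X ⧸ N) = q₁ ∧ Commute (m : X) a} :=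
      { toFun := fun u => ⟨u.2.1, u.1.1, u.1.2, u.2.2.symm⟩
        invFun := fun u => ⟨⟨u.2.1, u.2.2.1⟩, u.1, u.2.2.2.symm⟩
        left_inv := fun u => rfl
        right_inv := fun u => rfl }
    rw [Nat.card_congr e2, Nat.card_sigma]
    refine (Finset.sum_le_sum (g := fun m : N => Nat.card {m' : N // Commute (m : X) (m' : X)})
      fun m _ => hL (m : X) q₁).trans (le_of_eq ?_)
    rw [← Nat.card_sigma]
    exact Nat.card_congr
      { toFun := fun u => ⟨(u.1, u.2.1), Subtype.ext u.2.2⟩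
        invFun := fun s => ⟨s.1.1, s.1.2, congrArg Subtype.val s.2.eq⟩
        left_inv := fun u => rfl
        right_inv := fun s => rfl }
  have hmain : Nat.card PX ≤ Nat.card PN * Nat.card PQ := by
    rw [← Nat.card_congr (Equiv.sigmaFiberEquiv π), Nat.card_sigma]
    refine (Finset.sum_le_sum fun t _ => hfib t).trans (le_of_eq ?_)
    rw [Finset.sum_const, smul_eq_mul, Finset.card_univ, Nat.card_eq_fintype_card, Nat.card_eq_fintype_card,
      mul_comm]
  rw [card_comm_eq_card_conjClasses_mul_card, card_comm_eq_card_conjClasses_mul_card,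
    card_comm_eq_card_conjClasses_mul_card, ← N.card_mul_index, Subgroup.index_eq_card] at hmain
  have hpos : 0 < Nat.card N * Nat.card (X ⧸ N) := Nat.mul_pos Nat.card_pos Nat.card_pos
  refine Nat.le_of_mul_le_mul_right ?_ hpos
  calc Nat.card (ConjClasses X) * (Nat.card N * Nat.card (X ⧸ N))
      ≤ Nat.card (ConjClasses N) * Nat.card N * (Nat.card (ConjClasses (X ⧸ N)) * Nat.card (X ⧸ N)) := hmain
    _ = _ := by ring

end Cfsg.Agent.S4201
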