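import Cfsg.Statements.S4458
import Cfsg.Agent.Char.TwoDegreesGeneral
-- import your own Cfsg.Agent.* helpers here

set_option autoImplicit false
open Cfsg

namespace Cfsg.Agent.S4458

/-- If a finite group has exactly two irreducible character degrees, 1 and m with m ≠ 1, then its commutator subgroup is abelian. -/
theorem result {G : Type*} [Group G] [Finite G] (m : ℕ) (hcd : ∀ χ : Cfsg.IrrCharacter G, Cfsg.charDegree (χ : G → ℂ) = 1 ∨ Cfsg.charDegree (χ : G → ℂ) = m) (hm : ∃ χ : Cfsg.IrrCharacter G, Cfsg.charDegree (χ : G → ℂ) = m) (hm1 : m ≠ 1) : ∀ a ∈ commutator G, ∀ b ∈ commutator G, a * b = b * a := by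
  classical
  have := Fintype.ofFinite G
  have hsp : ∀ χ : Cfsg.IrrCharacter G, (χ : G → ℂ) 1 = (Cfsg.charDegree (χ : G → ℂ) : ℂ) :=
    Cfsg.Agent.Char.charDegree_spec'
  obtain ⟨χ₀, hχ₀⟩ := hm
  have hm0 : m ≠ 0 := fun h => Cfsg.Agent.Char.IsIrr.one_ne_zero χ₀.2 (by rw [hsp, hχ₀, h, Nat.cast_zero])
  have hcd' : ∀ χ : G → ℂ, Cfsg.IsIrrCharacter G χ → χ 1 = 1 ∨ χ 1 = m := fun χ hχ => by
    rcases hcd ⟨χ, hχ⟩ with h | h
    · left; rw [show χ 1 = _ from hsp ⟨χ, hχ⟩, h, Nat.cast_one]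
    · right; rw [show χ 1 = _ from hsp ⟨χ, hχ⟩, h]
  rcases Cfsg.Agent.Char.two_degrees_general (show 1 < m by omega) hcd' ⟨_, χ₀.2, by rw [hsp, hχ₀]⟩ with
    ⟨A, hA, hAab, hAi⟩ | ⟨p, e, hp, -, P, A, hP, hA, hPp, hAab, hdisj, hsup⟩
  · intro a ha b hb
    have hle := Cfsg.Agent.Char.commutator_le_of_index_le m hcd' A hAi.le
    exact hAab a (hle ha) b (hle hb)
  have := Fact.mk hp
  have hnil : Group.IsNilpotent G := by
    have hc : ∀ x ∈ P, ∀ y ∈ A, Commute x y := fun x hx y hy =>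
      Subgroup.commute_of_normal_of_disjoint P A hP hA (disjoint_iff.2 hdisj) x y hx hy
    let φ : ↥P × ↥A →* G := (P.subtype).noncommCoprod A.subtype fun x y => hc x x.2 y y.2
    have hsurj : Function.Surjective φ := by
      intro g
      have hg : g ∈ P ⊔ A := hsup ▸ Subgroup.mem_top g
      rw [Subgroup.mem_sup_of_normal_right] at hg
      obtain ⟨x, hx, y, hy, rfl⟩ := hg
      exact ⟨(⟨x, hx⟩, ⟨y, hy⟩), rfl⟩
    have : Group.IsNilpotent ↥P := hPp.isNilpotent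
    letI : CommGroup ↥A := { (inferInstance : Group ↥A) with
      mul_comm := fun a b => Subtype.ext (hAab a a.2 b b.2) }
    exact Group.nilpotent_of_surjective φ hsurj
  intro a ha b hb
  have hz : ∀ χ : Cfsg.IrrCharacter G, (χ : G → ℂ) (a * b * a⁻¹ * b⁻¹) = (χ : G → ℂ) 1 := by
    intro χ
    obtain ⟨H, lam, hH⟩ := Cfsg.Agent.Char.exists_monomial χ.2
    have h1 : (χ : G → ℂ) 1 = (H.index : ℂ) := by
      rw [hH, Cfsg.Agent.Char.indFun_apply_one, map_one, Units.val_one, mul_one]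
    have hle : H.index ≤ m := by
      rcases hcd' χ χ.2 with h | h <;> rw [h1] at h
      · have : H.index = 1 := by exact_mod_cast h
        omega
      · exact le_of_eq (by exact_mod_cast h)
    have hGH := Cfsg.Agent.Char.commutator_le_of_index_le m hcd' H hle
    rw [h1, hH, Cfsg.Agent.Char.indFun_apply, Finset.sum_congr rfl (g := fun _ => (1 : ℂ)) fun x _ => ?_,
      Finset.sum_const, Finset.card_univ, nsmul_eq_mul, mul_one, ← Nat.card_eq_fintype_card,
      ← Subgroup.card_mul_index H, Nat.cast_mul, ← mul_assoc,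
      inv_mul_cancel₀ (Nat.cast_ne_zero.2 Nat.card_pos.ne'), one_mul]
    have hxa : x⁻¹ * a * x ∈ H :=
      hGH (by simpa using (inferInstance : (commutator G).Normal).conj_mem a ha x⁻¹)
    have hxb : x⁻¹ * b * x ∈ H :=
      hGH (by simpa using (inferInstance : (commutator G).Normal).conj_mem b hb x⁻¹)
    let u : ↥H := ⟨_, hxa⟩
    let v : ↥H := ⟨_, hxb⟩
    have e : x⁻¹ * (a * b * a⁻¹ * b⁻¹) * x = ((u * v * u⁻¹ * v⁻¹ : ↥H) : G) := by
      simp only [u, v, Subgroup.coe_mul, Subgroup.coe_inv]; group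
    rw [e, Cfsg.Agent.Char.extendByZero_coe]
    show ((lam (u * v * u⁻¹ * v⁻¹) : ℂˣ) : ℂ) = 1
    simp [map_mul, map_inv, mul_comm (lam u) (lam v)]
  exact mul_inv_eq_iff_eq_mul.1 (mul_inv_eq_one.1 (Cfsg.Agent.Char.eq_one_of_forall_irr hz))

end Cfsg.Agent.S4458
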