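import Cfsg.Statements.S4541
import Cfsg.Agent.Blocks.Averaging

set_option autoImplicit false
open Cfsg

namespace Cfsg.Agent.S4541

/-- Let B be a 2-block of the finite group G (relative to a maximal ideal M of the algebraic integers containing 2), u a 2-element, and b a block of the centralizer of u inducing B (a subsection (u, b)), of defect q and 2-regular rank l; write s for the integer square root of l and k₀(B) for the number of members of B of height zero. If s is odd then k₀(B) ≤ s·2 ^ q, and otherwise (s + 1)·k₀(B) ≤ l·2 ^ q; in particular k₀(B) ≤ 2 ^ q when l ≤ 3. -/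
theorem result {G : Type*} [Group G] [Finite G] (M : Ideal Cfsg.AlgInt) (hM : Cfsg.IsPModular 2 M) (B : Set (Cfsg.IrrCharacter G)) (hB : Cfsg.IsPBlock M B) (u : G) (hu : ∃ j : ℕ, orderOf u = 2 ^ j) (b : Set (Cfsg.IrrCharacter ↥(Subgroup.centralizer ({u} : Set G)))) (hb : Cfsg.IsInducedBlock M (Subgroup.centralizer ({u} : Set G)) b B) : (Odd (Nat.sqrt (Cfsg.blockRank 2 b)) → Nat.card {χ : Cfsg.IrrCharacter G // χ ∈ B ∧ Cfsg.blockHeight 2 B (χ : G → ℂ) = 0} ≤ Nat.sqrt (Cfsg.blockRank 2 b) * 2 ^ Cfsg.blockDefect 2 b) ∧ (¬ Odd (Nat.sqrt (Cfsg.blockRank 2 b)) → (Nat.sqrt (Cfsg.blockRank 2 b) + 1) * Nat.card {χ : Cfsg.IrrCharacter G // χ ∈ B ∧ Cfsg.blockHeight 2 B (χ : G → ℂ) = 0} ≤ Cfsg.blockRank 2 b * 2 ^ Cfsg.blockDefect 2 b) ∧ (Cfsg.blockRank 2 b ≤ 3 → Nat.card {χ : Cfsg.IrrCharacter G // χ ∈ B ∧ Cfsg.blockHeight 2 B (χ : G → ℂ) = 0} ≤ 2 ^ Cfsg.blockDefect 2 b) := by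
  classical
  haveI : Fintype G := Fintype.ofFinite G
  haveI : Fintype (Subgroup.centralizer ({u} : Set G)) := Fintype.ofFinite _
  have hH : ∀ a : G, a ∈ Subgroup.centralizer ({u} : Set G) ↔ u * a = a * u := fun a => by
    rw [Subgroup.mem_centralizer_singleton_iff]
    exact eq_comm
  obtain ⟨a, ha, hsum⟩ := Agent.Blocks.exists_means_two (x := u) hM hH hu hb
  set n := Nat.card {χ : Cfsg.IrrCharacter G // χ ∈ B ∧ Cfsg.blockHeight 2 B (χ : G → ℂ) = 0}
    with hn
  set l := Cfsg.blockRank 2 b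
  set N := 2 ^ Cfsg.blockDefect 2 b with hN
  set s := Nat.sqrt l with hs
  rw [finsum_eq_sum_of_fintype] at hsum
  have hnc : (Finset.univ : Finset {χ : Cfsg.IrrCharacter G //
      χ ∈ B ∧ Cfsg.blockHeight 2 B (χ : G → ℂ) = 0}).card = n := by
    rw [Finset.card_univ, hn, Nat.card_eq_fintype_card]
  have hlo : ∀ L : ℤ, (∀ χ, L ≤ a χ) → L * n ≤ (l : ℤ) * N := fun L hL => by
    refine le_trans ?_ hsum
    rw [mul_comm, ← hnc, ← nsmul_eq_mul, ← Finset.sum_const]
    exact Finset.sum_le_sum fun χ _ => hL χ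
  have hN0 : (0 : ℤ) < N := by positivity
  have hl1 : (s : ℤ) * s ≤ l := by exact_mod_cast Nat.sqrt_le l
  have hl2 : (l : ℤ) ≤ (s : ℤ) * s + s + s := by exact_mod_cast Nat.sqrt_le_add l
  have h1 : Odd s → n ≤ s * N := by
    intro hodd
    by_contra hlt
    push_neg at hlt
    have hlt' : (s : ℤ) * N + 1 ≤ n := by exact_mod_cast hlt
    have hL : ∀ χ, ((s : ℤ) + 2) ≤ a χ := by
      intro χ
      obtain ⟨ho, hp, hle⟩ := ha χ
      by_contra hcon
      push_neg at hcon
      have has : a χ ≤ s := by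
        obtain ⟨i, hi⟩ := ho
        obtain ⟨j, hj⟩ := hodd
        omega
      nlinarith [mul_le_mul_of_nonneg_right has hN0.le]
    have := hlo _ hL
    nlinarith [mul_le_mul_of_nonneg_right hl2 hN0.le]
  have h2 : ¬ Odd s → (s + 1) * n ≤ l * N := by
    intro hev
    rw [Nat.not_odd_iff_even] at hev
    by_contra hlt
    push_neg at hlt
    have hlt' : (l : ℤ) * N + 1 ≤ ((s : ℤ) + 1) * n := by exact_mod_cast hlt
    have hL : ∀ χ, ((s : ℤ) + 1) ≤ a χ := by
      intro χ
      obtain ⟨ho, hp, hle⟩ := ha χ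
      by_contra hcon
      push_neg at hcon
      have has : a χ ≤ (s : ℤ) - 1 := by
        obtain ⟨i, hi⟩ := ho
        obtain ⟨j, hj⟩ := hev
        omega
      -- otherwise `n ≤ (s - 1) N`
      have hb : (n : ℤ) ≤ ((s : ℤ) - 1) * N := by nlinarith [mul_le_mul_of_nonneg_right has hN0.le]
      nlinarith [mul_le_mul_of_nonneg_right hl1 hN0.le,
        mul_le_mul_of_nonneg_left hb (show (0 : ℤ) ≤ (s : ℤ) + 1 by positivity)]
    have := hlo _ hL
    nlinarith
  refine ⟨h1, h2, fun h3 => ?_⟩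
  have hs2 : s < 2 := by
    rw [hs, Nat.sqrt_lt]
    omega
  rcases Nat.lt_or_ge s 1 with h | h
  · have hl0 : l = 0 := by
      have hs0 : s = 0 := by omega
      rw [hs0] at hl2
      omega
    have h0 := h2 (by rw [show s = 0 by omega]; simp)
    rw [show s = 0 by omega, hl0, Nat.zero_mul, Nat.zero_add, Nat.one_mul] at h0
    omega
  · have h0 := h1 (by rw [show s = 1 by omega]; exact odd_one)
    rwa [show s = 1 by omega, Nat.one_mul] at h0

end Cfsg.Agent.S4541
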