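import Cfsg.Statements.S4601
import Cfsg.Agent.Layer.PConstraint
import Cfsg.Agent.Coprime.Basic
-- import your own Cfsg.Agent.* helpers here

set_option autoImplicit false
open Cfsg

namespace Cfsg.Agent.S4601

open Subgroup in
universe u in
theorem exists_nontrivial_core {G : Type u} [Group G] [Finite G] {p : ℕ} [Fact p.Prime]
    (h : IsPSolvable p G) [Nontrivial G] : pCore p G ≠ ⊥ ∨ pPrimeCore p G ≠ ⊥ := by
  by_contra hc
  push Not at hc
  have h1 : centralizer (pCore p G : Set G) ≤ pCore p G := Layer.pCoreSelfCentral_of_isPSolvable h hc.2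
  have h2 : (⊤ : Subgroup G) ≤ centralizer (pCore p G : Set G) := by
    rw [hc.1]; intro x _; simp [mem_centralizer_iff]
  have h3 : (⊤ : Subgroup G) ≤ ⊥ := h2.trans (h1.trans hc.1.le)
  exact top_ne_bot (le_bot_iff.mp h3)

open Subgroup in
universe u in
theorem relIndex_sup_normal {G : Type u} [Group G] [Finite G] (S M : Subgroup G) [M.Normal] :
    S.relIndex (S ⊔ M) = S.relIndex M := by
  have h1 : Nat.card S * S.relIndex (S ⊔ M) = Nat.card (S ⊔ M : Subgroup G) := by
    rw [relIndex, ← Coprime.card_subgroupOf (le_sup_left : S ≤ S ⊔ M)]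
    exact card_mul_index _
  have h2 : Nat.card (S ⊓ M : Subgroup G) * S.relIndex M = Nat.card M := by
    rw [← inf_relIndex_right, relIndex, ← Coprime.card_subgroupOf (inf_le_right : S ⊓ M ≤ M)]
    exact card_mul_index _
  have h3 := Core.card_sup_mul_card_inf S M
  refine Nat.eq_of_mul_eq_mul_left (Nat.mul_pos (Nat.card_pos (α := S))
    (Nat.card_pos (α := (S ⊓ M : Subgroup G)))) ?_
  calc Nat.card S * Nat.card (S ⊓ M : Subgroup G) * S.relIndex (S ⊔ M)
      = Nat.card (S ⊔ M : Subgroup G) * Nat.card (S ⊓ M : Subgroup G) := by rw [← h1]; ring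
    _ = Nat.card S * Nat.card M := h3
    _ = _ := by rw [← h2]; ring

open Subgroup in
open scoped Pointwise in
universe u in
theorem aux : ∀ n : ℕ, ∀ (G : Type u) [Group G] [Finite G] (p q : ℕ) [Fact p.Prime] [Fact q.Prime],
    Nat.card G ≤ n → p ≠ q → (IsPSolvable p G ∨ IsPSolvable q G) →
    (∀ y : G, (∃ k : ℕ, orderOf y = q ^ k) → ¬ p ∣ (centralizer ({y} : Set G)).index) →
    ∃ Q : Sylow q G, ¬ p ∣ (normalizer ((Q : Subgroup G) : Set G)).index := by
  intro n
  induction n with
  | zero => intro G _ _ p q _ _ h; exact absurd h (by have := Nat.card_pos (α := G); omega)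
  | succ n ih =>
    intro G _ _ p q hp hq hn hpq hsolv h
    rcases subsingleton_or_nontrivial G with hs | hnt
    · obtain ⟨Q⟩ : Nonempty (Sylow q G) := inferInstance
      refine ⟨Q, ?_⟩
      rw [index_eq_one.mpr (Subsingleton.elim _ _)]
      exact hp.out.not_dvd_one
    obtain ⟨M, hMn, hM1, hM⟩ : ∃ M : Subgroup G, M.Normal ∧ M ≠ ⊥ ∧
        (IsPGroup q M ∨ ¬ q ∣ Nat.card M ∨ ¬ p ∣ Nat.card M) := by
      rcases hsolv with hs | hs
      · rcases exists_nontrivial_core hs with h1 | h1
        · refine ⟨pCore p G, inferInstance, h1, Or.inr (Or.inl fun hd => ?_)⟩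
          obtain ⟨k, hk⟩ := IsPGroup.iff_card.mp (Core.pCore_isPGroup (p := p) (G := G))
          exact hpq ((Nat.prime_dvd_prime_iff_eq hq.out hp.out).mp (hq.out.dvd_of_dvd_pow (hk ▸ hd))).symm
        · exact ⟨pPrimeCore p G, inferInstance, h1, Or.inr (Or.inr Core.not_dvd_card_pPrimeCore)⟩
      · rcases exists_nontrivial_core hs with h1 | h1
        · exact ⟨pCore q G, inferInstance, h1, Or.inl Core.pCore_isPGroup⟩
        · exact ⟨pPrimeCore q G, inferInstance, h1, Or.inr (Or.inl Core.not_dvd_card_pPrimeCore)⟩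
    have := hMn
    set f := QuotientGroup.mk' M with hf
    have hfs : Function.Surjective f := QuotientGroup.mk'_surjective M
    have hquot : ∀ y : G ⧸ M, (∃ k : ℕ, orderOf y = q ^ k) →
        ¬ p ∣ (centralizer ({y} : Set (G ⧸ M))).index := by
      intro y hy hd
      obtain ⟨x, rfl⟩ := hfs y
      obtain ⟨k, hk⟩ := hy
      -- the `q`-part of `x` is a lift
      set m := ordCompl[q] (orderOf x) with hm
      have hx := (isOfFinOrder_of_finite x).orderOf_pos
      have hmq : (q ^ k).Coprime m :=
        ((hq.out.coprime_iff_not_dvd.mpr (Nat.not_dvd_ordCompl hq.out hx.ne'))).pow_left k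
      obtain ⟨e, he⟩ := exists_pow_eq_self_of_coprime (x := f x) (hk ▸ hmq.symm)
      have hy' : ∃ j, orderOf ((x ^ m) ^ e) = q ^ j := by
        have hxm : orderOf (x ^ m) = ordProj[q] (orderOf x) := by
          rw [orderOf_pow_of_dvd (Nat.ordCompl_pos q hx.ne').ne' (Nat.ordCompl_dvd _ _)]
          exact Nat.div_eq_of_eq_mul_left (Nat.ordCompl_pos q hx.ne') (Nat.ordProj_mul_ordCompl_eq_self _ _).symm
        obtain ⟨j, -, hj⟩ := (Nat.dvd_prime_pow hq.out).mp (hxm ▸ orderOf_pow_dvd e)
        exact ⟨j, hj⟩
      refine h _ hy' (hd.trans ?_)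
      have himg : f ((x ^ m) ^ e) = f x := by rw [map_pow, map_pow, he]
      have hle : (centralizer ({(x ^ m) ^ e} : Set G)).map f ≤ centralizer ({f x} : Set (G ⧸ M)) := by
        rintro _ ⟨c, hc, rfl⟩
        rw [← himg]
        exact mem_centralizer_singleton_iff.mpr (by
          rw [← map_mul, ← map_mul, mem_centralizer_singleton_iff.mp hc])
      exact (index_dvd_of_le hle).trans (index_map_dvd _ hfs)
    obtain ⟨Qb, hQb⟩ := ih (G ⧸ M) p q
      (Nat.lt_succ_iff.mp ((Core.card_quotient_lt hM1).trans_le hn)) hpq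
      (hsolv.imp (fun h => Layer.isPSolvable_of_surjective h hfs)
        (fun h => Layer.isPSolvable_of_surjective h hfs)) hquot
    obtain ⟨Q, rfl⟩ := Sylow.mapSurjective_surjective hfs q Qb
    set J : Subgroup G := (normalizer (((Q.mapSurjective hfs : Sylow q (G ⧸ M)) : Subgroup (G ⧸ M)) : Set (G ⧸ M))).comap f
    have hJ : ¬ p ∣ J.index := by rw [index_comap_of_surjective _ hfs]; exact hQb
    set X : Subgroup G := M ⊔ (Q : Subgroup G)
    have hXJ : J ≤ normalizer (X : Set G) := by
      refine le_trans (le_normalizer_comap f) ?_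
      rw [Sylow.coe_mapSurjective, comap_map_eq, QuotientGroup.ker_mk', sup_comm]
    have hX : ¬ p ∣ (normalizer (X : Set G)).index := fun hd => hJ (hd.trans (index_dvd_of_le hXJ))
    have hQX : (Q : Subgroup G) ≤ X := le_sup_right
    rcases hM with hMq | hMq | hMp
    · refine ⟨Q, fun hd => hX (hd.trans (index_dvd_of_le ?_))⟩
      have : X = (Q : Subgroup G) := sup_eq_right.mpr (hMq.le_sylow_of_normal Q)
      rw [this]
    · -- `Q` centralises an invariant Sylow `p`-subgroup of `M`
      refine ⟨Q, ?_⟩
      have hQM : (Q : Subgroup G) ≤ normalizer (M : Set G) := le_normalizer_of_normal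
      have hcop : (Nat.card (Q : Subgroup G)).Coprime (Nat.card M) := by
        obtain ⟨k, hk⟩ := IsPGroup.iff_card.mp Q.isPGroup'
        rw [hk]; exact (hq.out.coprime_iff_not_dvd.mpr hMq).pow_left k
      have hQs := Layer.isSolvable_of_isPGroup Q.isPGroup'
      obtain ⟨T, hT⟩ := Coprime.exists_invariant_sylow hQM hcop (Or.inl hQs) p
      have hcen : ∀ y ∈ (Q : Subgroup G), ∀ t ∈ (T : Subgroup M).map M.subtype, Commute y t := by
        intro y hy
        obtain ⟨k, hk⟩ := IsPGroup.iff_orderOf.mp Q.isPGroup' ⟨y, hy⟩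
        rw [Subgroup.orderOf_mk] at hk
        set C := centralizer ({y} : Set G)
        obtain ⟨S⟩ : Nonempty (Sylow p C) := inferInstance
        have hSi : ¬ p ∣ ((S : Subgroup C).map C.subtype).index := by
          rw [index_map_subtype]
          exact hp.out.not_dvd_mul S.not_dvd_index (h y ⟨k, hk⟩)
        set S' := (S.isPGroup'.map C.subtype).toSylow hSi
        -- `S' ∩ M` is a Sylow subgroup of `M` centralised by `y`
        have hcyc : zpowers y ≤ (Q : Subgroup G) := zpowers_le.mpr hy
        have hcop' := hcop.coprime_dvd_left (card_dvd_of_le hcyc)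
        have hs' : Group.IsSolvable (zpowers y) := Core.isSolvable_mono hQs hcyc
        have hnd : ¬ p ∣ ((S' : Subgroup G).subgroupOf M).index := by
          intro hd
          have h1 : ((S' : Subgroup G).subgroupOf M).index ∣ (S' : Subgroup G).index := by
            change (S' : Subgroup G).relIndex M ∣ _
            rw [← relIndex_sup_normal]
            exact relIndex_dvd_index_of_le le_sup_left
          exact S'.not_dvd_index (hd.trans h1)
        set T₂ : Sylow p M := (S'.isPGroup'.comap_subtype).toSylow hnd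
        have hT₂ : ∀ t ∈ (T₂ : Subgroup M), Commute y (t : G) := fun t ht =>
          (mem_centralizer_singleton_iff.mp (map_subtype_le (H := C) _ ht)).symm
        have hT₂n : zpowers y ≤ normalizer ((T₂ : Subgroup M).map M.subtype : Set G) := by
          refine zpowers_le.mpr (centralizer_le_normalizer _ (mem_centralizer_iff.mpr ?_))
          rintro _ ⟨t, ht, rfl⟩
          exact (hT₂ t ht).eq.symm
        obtain ⟨c, hc, hcT⟩ := Coprime.exists_centralizer_conj_sylow (hcyc.trans hQM) hcop'
          (Or.inl hs') T₂ T hT₂n (hcyc.trans hT)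
        rintro _ ⟨t, ht, rfl⟩
        rw [← hcT] at ht
        change t ∈ MulAut.conj c • (T₂ : Subgroup M) at ht
        rw [Coprime.mem_conj_smul] at ht
        have h1 := hT₂ _ ht
        have hyc : Commute y (c : G) := mem_centralizer_iff.mp hc y (mem_zpowers y)
        have h2 := (hyc.mul_right h1).mul_right hyc.inv_right
        simpa [mul_assoc] using h2
      set N := normalizer ((Q : Subgroup G) : Set G)
      have hTN : (T : Subgroup M).map M.subtype ≤ N := fun t ht =>
        centralizer_le_normalizer _ (mem_centralizer_iff.mpr fun y hy => (hcen y hy t ht).eq)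
      have hfr : normalizer (X : Set G) ≤ M ⊔ N := by
        intro g hg
        have hgQ : ((g • Q : Sylow q G) : Subgroup G) ≤ X := by
          intro z hz
          rw [Sylow.coe_subgroup_smul, Coprime.mem_conj_smul] at hz
          exact (mem_normalizer_iff''.mp hg z).mpr (hQX hz)
        obtain ⟨x, hx⟩ := MulAction.exists_smul_eq X (Q.subtype hQX) ((g • Q).subtype hgQ)
        have hx' : (x : G) • Q = g • Q := by
          have := congrArg (fun R : Sylow q X => (R : Subgroup X).map X.subtype) hx
          simp only [Sylow.coe_subgroup_smul, Coprime.conj_smul_map_subtype, Sylow.coe_subtype,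
            map_subgroupOf_eq_of_le hQX, map_subgroupOf_eq_of_le hgQ] at this
          refine Sylow.ext ?_
          rw [Sylow.coe_subgroup_smul, Sylow.coe_subgroup_smul]
          rw [map_subgroupOf_eq_of_le (by rw [← Sylow.coe_subgroup_smul]; exact hgQ)] at this
          exact this
        have hn : (x : G)⁻¹ * g ∈ N := by
          refine Sylow.smul_eq_iff_mem_normalizer.mp ?_
          rw [mul_smul, ← hx', inv_smul_smul]
        obtain ⟨m, hm, z, hz, hmz⟩ := (Coprime.mem_sup_of_le_normalizer
          (le_normalizer_of_normal : (Q : Subgroup G) ≤ normalizer (M : Set G))).mp x.2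
        have : g = m * (z * ((x : G)⁻¹ * g)) := by rw [← mul_assoc, hmz, mul_inv_cancel_left]
        rw [this]
        exact mul_mem_sup hm (N.mul_mem (le_normalizer hz) hn)
      intro hd
      have h1 : N.index = N.relIndex (M ⊔ N) * (M ⊔ N).index := (relIndex_mul_index le_sup_right).symm
      rw [h1] at hd
      rcases hp.out.dvd_mul.mp hd with hd | hd
      · rw [sup_comm, relIndex_sup_normal] at hd
        refine T.not_dvd_index (hd.trans ?_)
        exact index_dvd_of_le (fun t ht => hTN (mem_map_of_mem M.subtype ht))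
      · exact hX (hd.trans (index_dvd_of_le hfr))
    · -- a Sylow `p`-subgroup of `N(X)` acts coprimely on `X`
      have hXp : ¬ p ∣ Nat.card X := by
        intro hd
        have h1 := hd.trans ((sup_comm (Q : Subgroup G) M ▸ Core.card_sup_dvd_mul (Q : Subgroup G) M))
        rcases hp.out.dvd_mul.mp h1 with h1 | h1
        · obtain ⟨k, hk⟩ := IsPGroup.iff_card.mp Q.isPGroup'
          exact hpq ((Nat.prime_dvd_prime_iff_eq hp.out hq.out).mp (hp.out.dvd_of_dvd_pow (hk ▸ h1)))
        · exact hMp h1
      obtain ⟨P₀⟩ : Nonempty (Sylow p (normalizer (X : Set G))) := inferInstance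
      set P' := (P₀ : Subgroup (normalizer (X : Set G))).map (normalizer (X : Set G)).subtype
      have hPi : ¬ p ∣ P'.index := by
        rw [index_map_subtype]; exact hp.out.not_dvd_mul P₀.not_dvd_index hX
      have hP' : IsPGroup p P' := P₀.isPGroup'.map _
      have hcop : (Nat.card P').Coprime (Nat.card X) := by
        obtain ⟨k, hk⟩ := IsPGroup.iff_card.mp hP'
        rw [hk]; exact (hp.out.coprime_iff_not_dvd.mpr hXp).pow_left k
      obtain ⟨Q₁, hQ₁⟩ := Coprime.exists_invariant_sylow (map_subtype_le _ : P' ≤ normalizer (X : Set G))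
        hcop (Or.inl (Layer.isSolvable_of_isPGroup hP')) q
      have hQi : ¬ q ∣ ((Q₁ : Subgroup X).map X.subtype).index := by
        rw [index_map_subtype]
        exact hq.out.not_dvd_mul Q₁.not_dvd_index fun hd => Q.not_dvd_index (hd.trans (index_dvd_of_le hQX))
      exact ⟨(Q₁.isPGroup'.map X.subtype).toSylow hQi, fun hd => hPi (hd.trans (index_dvd_of_le hQ₁))⟩


/-- Let p and q be primes and G a finite group that is p-solvable or q-solvable, in which no q-element has conjugacy class size divisible by p. Then some Sylow p-subgroup of G normalizes some Sylow q-subgroup of G. -/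
theorem result {G : Type*} [Group G] [Finite G] (p q : ℕ) [Fact p.Prime] [Fact q.Prime] (hsolv : Cfsg.IsPSolvable p G ∨ Cfsg.IsPSolvable q G)
    (h : ∀ y : G, (∃ k : ℕ, orderOf y = q ^ k) → ¬ p ∣ (Subgroup.centralizer ({y} : Set G)).index) :
    ∃ (P : Sylow p G) (Q : Sylow q G), (P : Subgroup G) ≤ Subgroup.normalizer ((Q : Subgroup G) : Set G) := by
  rcases eq_or_ne p q with rfl | hpq
  · obtain ⟨P⟩ : Nonempty (Sylow p G) := inferInstance
    exact ⟨P, P, Subgroup.le_normalizer⟩
  obtain ⟨Q, hQ⟩ := aux _ G p q le_rfl hpq hsolv h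
  set N := Subgroup.normalizer ((Q : Subgroup G) : Set G)
  obtain ⟨P₀⟩ : Nonempty (Sylow p N) := inferInstance
  have hPi : ¬ p ∣ ((P₀ : Subgroup N).map N.subtype).index := by
    rw [Subgroup.index_map_subtype]
    exact (Fact.out : p.Prime).not_dvd_mul P₀.not_dvd_index hQ
  exact ⟨(P₀.isPGroup'.map N.subtype).toSylow hPi, Q, Subgroup.map_subtype_le _⟩

end Cfsg.Agent.S4601
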