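import Mathlib
import Cfsg.Agent.Char.Integral
import Cfsg.Agent.Blocks.Idempotent
import Cfsg.Statements.S0910

set_option autoImplicit false
open Cfsg Cfsg.Agent Cfsg.Agent.Char
open scoped commutatorElement

namespace Cfsg.Agent.S0910

/-- Let G be a non-abelian finite simple group and p a prime. If an irreducible character χ lies in the principal block (relative to a maximal ideal of the algebraic integers containing p) and χ 1 is a power of p, then χ is the principal character. -/
theorem result {G : Type*} [Group G] [Finite G] (p : ℕ) [Fact p.Prime] (M : Ideal Cfsg.AlgInt) (hM : Cfsg.IsPModular p M) [IsSimpleGroup G] (hna : ∃ a b : G, a * b ≠ b * a) (χ : Cfsg.IrrCharacter G) (hχ : χ ∈ Cfsg.principalBlock M G) (k : ℕ) (hdeg : (χ : G → ℂ) 1 = (p : ℂ) ^ k) : (χ : G → ℂ) = fun _ => 1 := by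
  classical
  have := Fintype.ofFinite G
  obtain ⟨χ, hχirr⟩ := χ
  show χ = fun _ => 1
  replace hdeg : χ 1 = ((p ^ k : ℕ) : ℂ) := by push_cast; exact hdeg
  have hcomm : ∀ ρ : Representation ℂ G (Fin (p ^ k) → ℂ), (∀ a b : G, ρ a * ρ b = ρ b * ρ a) →
      ∀ x, ρ x = LinearMap.id := by
    intro ρ hcc x
    have hkill : commutator G ≤ MonoidHom.ker ρ.toHomUnits := by
      rw [commutator_eq_closure, Subgroup.closure_le]
      rintro _ ⟨a, b, rfl⟩
      rw [SetLike.mem_coe, MonoidHom.mem_ker, commutatorElement_def]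
      apply Units.ext
      rw [MonoidHom.coe_toHomUnits, map_mul, map_mul, map_mul, hcc a b, mul_assoc (ρ b),
        ← map_mul ρ a, mul_inv_cancel, map_one, mul_one, ← map_mul, mul_inv_cancel, map_one]
      rfl
    have htop : commutator G = ⊤ := by
      rcases ((inferInstance : (commutator G).Normal)).eq_bot_or_eq_top with h1 | h1
      · obtain ⟨a, b, hab⟩ := hna
        have h2 : ⁅a, b⁆ ∈ (⊥ : Subgroup G) :=
          h1 ▸ Subgroup.commutator_mem_commutator (Subgroup.mem_top a) (Subgroup.mem_top b)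
        exact absurd (commutatorElement_eq_one_iff_mul_comm.1 (Subgroup.mem_bot.1 h2)) hab
      · exact h1
    exact congrArg Units.val (MonoidHom.mem_ker.1 (hkill (htop ▸ Subgroup.mem_top x)))
  obtain ⟨m, ρ, hρ, hρχ⟩ := hχirr
  have hm : m = p ^ k := by
    have := ρ.char_one
    rw [hρχ, hdeg, Module.finrank_fin_fun] at this
    exact_mod_cast this.symm
  subst hm
  have hfin : Module.finrank ℂ (Fin (p ^ k) → ℂ) = p ^ k := Module.finrank_fin_fun ℂ
  suffices hlin : ∀ a b : G, ρ a * ρ b = ρ b * ρ a by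
    have hid := hcomm ρ hlin
    obtain ⟨hn', hU⟩ := isIrreducible_iff.1 hρ
    have hdim : Module.finrank ℂ (Fin (p ^ k) → ℂ) = 1 := by
      obtain ⟨v, hv⟩ := exists_ne (0 : Fin (p ^ k) → ℂ)
      rcases hU (ℂ ∙ v) (fun x w hw => by rw [hid]; exact hw) with h1 | h1
      · exact absurd (Submodule.span_singleton_eq_bot.1 h1) hv
      · rw [← finrank_top, ← h1, finrank_span_singleton hv]
    funext x
    rw [← hρχ]
    show LinearMap.trace ℂ _ (ρ x) = 1
    rw [hid, LinearMap.trace_id, hdim, Nat.cast_one]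
  rcases Nat.eq_zero_or_pos k with hk | hk
  · intro a b
    have hd : Module.finrank ℂ (Fin (p ^ k) → ℂ) = 1 := by rw [hfin, hk, pow_zero]
    have hnorm : ‖ρ.character a‖ = (Module.finrank ℂ (Fin (p ^ k) → ℂ) : ℝ) := by
      obtain ⟨μ, b', -, hμ, hχ'⟩ := exists_eigenbasis ρ a
      haveI : Subsingleton (Fin (Module.finrank ℂ (Fin (p ^ k) → ℂ))) := by rw [hd]; infer_instance
      have h1 : ∀ i, ‖μ i‖ = 1 := fun i =>
        Complex.norm_eq_one_of_pow_eq_one (hμ i) (orderOf_pos a).ne'
      rw [hχ', Fintype.sum_subsingleton _ (⟨0, by rw [hd]; exact Nat.one_pos⟩ : Fin (Module.finrank ℂ (Fin (p ^ k) → ℂ))), h1, hd, Nat.cast_one]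
    obtain ⟨ca, hca⟩ := (norm_character_eq_iff ρ a).1 hnorm
    rw [hca]; ext v; simp
  · -- p divides the order of G
    have hpG : p ∣ Nat.card G :=
      (dvd_pow_self p hk.ne').trans (IsIrr.degree_dvd_card ⟨_, ρ, hρ, hρχ⟩ hdeg)
    obtain ⟨P⟩ : Nonempty (Sylow p G) := inferInstance
    have : Nontrivial P := (Subgroup.nontrivial_iff_ne_bot _).2 (P.ne_bot_of_dvd_card hpG)
    have := P.2.center_nontrivial
    obtain ⟨⟨⟨z, hzP⟩, hzc⟩, hz1⟩ := exists_ne (1 : Subgroup.center P)
    have hzne : z ≠ 1 := fun e => hz1 (Subtype.ext (Subtype.ext e))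
    have hle : (P : Subgroup G) ≤ Subgroup.centralizer ({z} : Set G) := fun x hx => by
      rw [Subgroup.mem_centralizer_singleton_iff]
      exact congrArg Subtype.val (Subgroup.mem_center_iff.1 hzc ⟨x, hx⟩)
    have hidx : ¬ p ∣ (Subgroup.centralizer ({z} : Set G)).index := fun h =>
      P.not_dvd_index (h.trans (Subgroup.index_dvd_of_le hle))
    have hcop : (p ^ k).Coprime (Subgroup.centralizer ({z} : Set G)).index :=
      ((Fact.out : p.Prime).coprime_iff_not_dvd.2 hidx).pow_left k
    rcases IsIrr.zero_or_norm_eq ⟨_, ρ, hρ, hρχ⟩ z hdeg hcop with h0 | hnorm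
    · exfalso
      have hsame : SameBlock M (fun _ : G => (1 : ℂ)) χ := hχ
      have h := hsame z
      rw [show centralChar χ z = 0 by rw [centralChar, h0, mul_zero, zero_div], sub_zero,
        Blocks.centralChar_one, Blocks.memLocalIdeal_natCast_iff hM] at h
      exact hidx h
    · obtain ⟨N, hN, hNmem⟩ := exists_normal_of_scalar ρ
      rcases hN.eq_bot_or_eq_top with hb | ht
      · exact absurd (by simpa [hb] using (hNmem z).2 ((norm_character_eq_iff ρ z).1
          (by rw [hρχ, hfin]; exact hnorm))) hzne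
      intro a b
      obtain ⟨ω, hω⟩ := (hNmem a).1 (ht ▸ Subgroup.mem_top a)
      rw [hω]; ext v; simp

end Cfsg.Agent.S0910
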