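import Mathlib
import Cfsg.Agent.BlockThms.BrauerMap
import Cfsg.Statements.S0916

set_option autoImplicit false
open Cfsg Cfsg.Agent.BlockThms

namespace Cfsg.Agent.S0916

/-- Let P be a p-subgroup of the finite group G, C its centralizer and N its normalizer. Say that a conjugacy class (of G, or of N) has defect group P when P is a Sylow p-subgroup of the centralizer (in G, respectively in N) of some element of the class. Then: (i) if the class of g in G has defect group P, the elements of that class lying in C form a single N-class, again with defect group P; (ii) every N-class with defect group P arises this way from exactly one G-class with defect group P. -/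
theorem result {G : Type*} [Group G] [Finite G] (p : ℕ) [Fact p.Prime] (P : Subgroup G) (hP : IsPGroup p P) : (∀ g : G, (∃ S : Sylow p (Subgroup.centralizer ({g} : Set G)), (S : Subgroup (Subgroup.centralizer ({g} : Set G))).map (Subgroup.centralizer ({g} : Set G)).subtype = P) → (∃ c : G, IsConj g c ∧ c ∈ Subgroup.centralizer (P : Set G)) ∧ (∀ c₁ c₂ : G, IsConj g c₁ → IsConj g c₂ → c₁ ∈ Subgroup.centralizer (P : Set G) → c₂ ∈ Subgroup.centralizer (P : Set G) → ∃ n ∈ Subgroup.normalizer (P : Set G), n * c₁ * n⁻¹ = c₂)) ∧ (∀ c : G, c ∈ Subgroup.centralizer (P : Set G) → (∃ S : Sylow p (Subgroup.centralizer ({c} : Set G) ⊓ Subgroup.normalizer (P : Set G) : Subgroup G), (S : Subgroup ↥(Subgroup.centralizer ({c} : Set G) ⊓ Subgroup.normalizer (P : Set G))).map (Subgroup.centralizer ({c} : Set G) ⊓ Subgroup.normalizer (P : Set G)).subtype = P) → ∃ S : Sylow p (Subgroup.centralizer ({c} : Set G)), (S : Subgroup (Subgroup.centralizer ({c} : Set G))).map (Subgroup.centralizer ({c} : Set G)).subtype = P) := by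
  classical
  have hmapS : ∀ (C : Subgroup G) (S : Sylow p C), (S : Subgroup C).map C.subtype ≤ C ∧
      Nat.card ((S : Subgroup C).map C.subtype) = p ^ (Nat.card C).factorization p := fun C S =>
    ⟨Subgroup.map_subtype_le _, by
      rw [Subgroup.card_map_of_injective (Subgroup.subtype_injective _), Sylow.card_eq_multiplicity]⟩
  have mkSylow : ∀ (C R : Subgroup G), R ≤ C → IsPGroup p R →
      p ^ (Nat.card C).factorization p ≤ Nat.card R →
      ∃ S : Sylow p C, (S : Subgroup C).map C.subtype = R := by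
    intro C R hRC hR hcard
    obtain ⟨T, hT⟩ := (hR.comap_of_injective C.subtype (Subgroup.subtype_injective _)).exists_le_sylow
    refine ⟨T, (Subgroup.eq_of_le_of_card_ge ?_ ?_).symm⟩
    · rw [← Subgroup.map_comap_eq_self (f := C.subtype) (H := R) (by simpa using hRC)]
      exact Subgroup.map_mono hT
    · rw [(hmapS C T).2]; exact hcard
  refine ⟨fun g hg => ?_, fun c hc hS => ?_⟩
  · obtain ⟨S, hS⟩ := hg
    have hPg : P ≤ Subgroup.centralizer ({g} : Set G) := hS ▸ Subgroup.map_subtype_le _
    have hPcard : Nat.card P = p ^ (Nat.card (Subgroup.centralizer ({g} : Set G))).factorization p :=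
      hS ▸ (hmapS _ S).2
    refine ⟨⟨g, IsConj.refl g, mem_centralizer_of_le hPg⟩, fun c₁ c₂ h₁ h₂ hc₁ hc₂ => ?_⟩
    obtain ⟨x, hx⟩ := isConj_iff.1 (h₁.symm.trans h₂)
    have hcard2 : Nat.card (Subgroup.centralizer ({c₂} : Set G)) =
        Nat.card (Subgroup.centralizer ({g} : Set G)) := by
      obtain ⟨y, rfl⟩ := isConj_iff.1 h₂
      exact card_centralizer_conj g y
    have hle2 : P ≤ Subgroup.centralizer ({c₂} : Set G) := fun v hv =>
      Subgroup.mem_centralizer_singleton_iff.2 (Subgroup.mem_centralizer_iff.1 hc₂ v hv)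
    obtain ⟨T, hT⟩ := mkSylow _ P hle2 hP (by rw [hcard2, hPcard])
    obtain ⟨T', hT'⟩ := mkSylow (Subgroup.centralizer ({c₂} : Set G))
      (P.map (MulAut.conj x).toMonoidHom) (by
        rintro _ ⟨v, hv, rfl⟩
        rw [← hx]
        exact centralizer_conj_mem
          (Subgroup.mem_centralizer_singleton_iff.2 (Subgroup.mem_centralizer_iff.1 hc₁ v hv)))
      (hP.map _) (by rw [hcard2, Subgroup.card_map_of_injective (MulAut.conj x).injective, hPcard])
    obtain ⟨e, he⟩ := MulAction.exists_smul_eq (Subgroup.centralizer ({c₂} : Set G)) T' T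
    refine ⟨(e : G) * x, ?_, ?_⟩
    · rw [Subgroup.mem_normalizer_iff]
      have hmem : ∀ v : G, v ∈ P → (e : G) * x * v * ((e : G) * x)⁻¹ ∈ P := by
        intro v hv
        have h1 : x * v * x⁻¹ ∈ P.map (MulAut.conj x).toMonoidHom := ⟨v, hv, rfl⟩
        rw [← hT'] at h1
        obtain ⟨t, ht, hte⟩ := h1
        have hte' : (t : G) = x * v * x⁻¹ := hte
        rw [← hT, ← he]
        refine ⟨MulAut.conj e t, ⟨t, ht, rfl⟩, ?_⟩
        show ((e * t * e⁻¹ : Subgroup.centralizer ({c₂} : Set G)) : G) = _
        rw [Subgroup.coe_mul, Subgroup.coe_mul, Subgroup.coe_inv, hte']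
        group
      have heq : P.map (MulAut.conj ((e : G) * x)).toMonoidHom = P := by
        refine Subgroup.eq_of_le_of_card_ge ?_ (le_of_eq (Subgroup.card_map_of_injective
          (MulAut.conj ((e : G) * x)).injective).symm)
        rintro _ ⟨v, hv, rfl⟩
        exact hmem v hv
      intro v
      refine ⟨fun hv => hmem v hv, fun hv => ?_⟩
      rw [← heq] at hv
      obtain ⟨w, hw, hwe⟩ := hv
      have : w = v := (MulAut.conj ((e : G) * x)).injective hwe
      exact this ▸ hw
    · calc (e : G) * x * c₁ * ((e : G) * x)⁻¹ = (e : G) * (x * c₁ * x⁻¹) * (e : G)⁻¹ := by group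
        _ = c₂ := by rw [hx, Subgroup.mem_centralizer_singleton_iff.1 e.2, mul_inv_cancel_right]
  · set C := Subgroup.centralizer ({c} : Set G)
    set N := Subgroup.normalizer (P : Set G)
    obtain ⟨S, hS⟩ := hS
    have hPC : P ≤ C := fun v hv =>
      Subgroup.mem_centralizer_singleton_iff.2 (Subgroup.mem_centralizer_iff.1 hc v hv)
    obtain ⟨T, hT⟩ := (hP.comap_of_injective C.subtype (Subgroup.subtype_injective _)).exists_le_sylow
    refine ⟨T, ?_⟩
    have hPT : P ≤ (T : Subgroup C).map C.subtype := by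
      rw [← Subgroup.map_comap_eq_self (f := C.subtype) (H := P) (by simpa using hPC)]
      exact Subgroup.map_mono hT
    set T₀ := (T : Subgroup C).map C.subtype with hT₀
    by_contra hne
    have hlt : P.subgroupOf T₀ < ⊤ := lt_top_iff_ne_top.2 fun h =>
      hne (le_antisymm (Subgroup.subgroupOf_eq_top.1 h) hPT)
    have hT₀p : IsPGroup p T₀ := T.2.map _
    haveI := hT₀p.isNilpotent
    obtain ⟨u, hu, hu'⟩ := SetLike.exists_of_lt
      (normalizerCondition_of_isNilpotent (P.subgroupOf T₀) hlt)
    have huN : (u : G) ∈ N := by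
      rw [Subgroup.mem_normalizer_iff] at hu ⊢
      intro v
      constructor
      · intro hv
        exact (hu ⟨v, hPT hv⟩).1 hv
      · intro hv
        have hv' : v ∈ T₀ := by
          have := mul_mem (mul_mem (inv_mem u.2) (hPT hv)) u.2
          simpa [mul_assoc] using this
        exact (hu ⟨v, hv'⟩).2 hv
    have hR : IsPGroup p ↥(T₀ ⊓ N) := hT₀p.to_le inf_le_left
    have hRle : T₀ ⊓ N ≤ C ⊓ N := inf_le_inf_right _ (Subgroup.map_subtype_le _)
    have hRp : P ≤ T₀ ⊓ N := le_inf hPT Subgroup.le_normalizer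
    have hcardle : Nat.card ↥(T₀ ⊓ N) ≤ Nat.card P := by
      have h1 : Nat.card ↥(T₀ ⊓ N) ∣ Nat.card ↥(C ⊓ N) := Subgroup.card_dvd_of_le hRle
      obtain ⟨i, hi⟩ := IsPGroup.iff_card.1 hR
      have h2 : Nat.card P = p ^ (Nat.card ↥(C ⊓ N)).factorization p := by
        conv_lhs => rw [← hS]
        exact (hmapS _ S).2
      rw [h2, hi]
      exact Nat.pow_le_pow_right (Fact.out : p.Prime).pos
        (((Fact.out : p.Prime).pow_dvd_iff_le_factorization Nat.card_pos.ne').1 (hi ▸ h1))
    have hmem : (u : G) ∈ T₀ ⊓ N := ⟨u.2, huN⟩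
    rw [← Subgroup.eq_of_le_of_card_ge hRp hcardle] at hmem
    exact hu' hmem

end Cfsg.Agent.S0916
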