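import Cfsg.Statements.S0919
import Cfsg.Agent.Blocks.BrauerChar

set_option autoImplicit false
open Cfsg

namespace Cfsg.Agent.S0919

/-- Let P be a p-subgroup of the finite group G and H a subgroup with P·C_G(P) ≤ H ≤ N_G(P). Then for every block b of H relative to a maximal ideal M of the algebraic integers containing p, the induced block of b in G is defined: some block B of G has its central character congruent modulo M, at every element, to the central character of b induced to G. -/
theorem result {G : Type*} [Group G] [Finite G] (p : ℕ) [Fact p.Prime] (M : Ideal Cfsg.AlgInt) (hM : Cfsg.IsPModular p M) (P H : Subgroup G) (hP : IsPGroup p P) (hPH : P ≤ H) (hCH : Subgroup.centralizer (P : Set G) ≤ H) (hHN : H ≤ Subgroup.normalizer (P : Set G)) (b : Set (Cfsg.IrrCharacter H)) (hb : Cfsg.IsPBlock M b) : Cfsg.InducedBlockDefined M H b := by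
  classical
  have := Fintype.ofFinite G
  obtain ⟨ξ, hξ⟩ := Blocks.IsPBlock.nonempty hM hb
  obtain ⟨B, ⟨hB, hB'⟩, -⟩ :=
    (Blocks.isCenHom_trunc hM hP hCH hHN ξ).existsUnique_block hM
  refine ⟨B, hb, hB, fun ξ' hξ' χ hχ g => ?_⟩
  have h1 := Blocks.memLocalIdeal_induced_sub_brauer hM hP hPH hHN ξ g
  have h2 := hB' χ hχ _ (Blocks.isClassFunction_classInd g) (Blocks.memLocalRing_classInd hM g)
  rw [← Blocks.brauerCentralChar_eq_omega,
    Blocks.omega_classInd (Char.isClassFunction_of_isIrr χ.2)] at h2
  have h3 : Cfsg.MemLocalIdeal M (Cfsg.inducedCentralChar H (ξ' : H → ℂ) g -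
      Cfsg.inducedCentralChar H (ξ : H → ℂ) g) := by
    rw [Blocks.inducedCentralChar_eq_omega, Blocks.inducedCentralChar_eq_omega]
    exact Blocks.memLocalIdeal_omega_sub hM ξ'.2 ξ.2
      (Blocks.isClassFunction_res H (Blocks.isClassFunction_classInd g))
      (fun a => Blocks.memLocalRing_classInd hM g _) (Blocks.IsPBlock.sameBlock hM hb hξ' hξ)
  have := Blocks.memLocalIdeal_add hM (Blocks.memLocalIdeal_add hM h3 h1) h2
  simpa using this

end Cfsg.Agent.S0919
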