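import Cfsg.Statements.S4653
import Cfsg.Agent.Blocks.LocalIdem
import Cfsg.Agent.BlockThms.NormalCor

set_option autoImplicit false
open Cfsg

namespace Cfsg.Agent.S4653

/-- Fix a prime p and a maximal ideal M of the algebraic integers containing p. Let P be a normal p-subgroup of the finite group G and B a p-block of G. Then the idempotent of B is supported on C_G(P): its coefficient at every element of G outside C_G(P) is zero. -/
theorem result {G : Type*} [Group G] [Fintype G] (p : ℕ) [Fact p.Prime] (M : Ideal Cfsg.AlgInt) (hM : Cfsg.IsPModular p M) (P : Subgroup G) [P.Normal] (hP : IsPGroup p P) (B : Set (Cfsg.IrrCharacter G)) (hB : Cfsg.IsPBlock M B) (g : G) (hg : g ∉ Subgroup.centralizer (P : Set G)) : Cfsg.blockCoeff B g = 0 := by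
  classical
  set C := Subgroup.centralizer (P : Set G) with hC
  have hCn : ∀ x k : G, k * x * k⁻¹ ∈ C ↔ x ∈ C := by
    have key : ∀ x k : G, x ∈ C → k * x * k⁻¹ ∈ C := by
      intro x k hx
      rw [Subgroup.mem_centralizer_iff] at hx ⊢
      intro u hu
      have h1 := hx _ (show k⁻¹ * u * k ∈ (P : Set G) by
        simpa using Subgroup.Normal.conj_mem (inferInstance : P.Normal) u hu k⁻¹)
      calc u * (k * x * k⁻¹) = k * ((k⁻¹ * u * k) * x) * k⁻¹ := by group
        _ = k * (x * (k⁻¹ * u * k)) * k⁻¹ := by rw [h1]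
        _ = k * x * k⁻¹ * u := by group
    refine fun x k => ⟨fun h => ?_, key x k⟩
    simpa [mul_assoc] using key _ k⁻¹ h
  -- functions on characters given by class functions supported on `C`
  let Q : (Cfsg.IrrCharacter G → ℂ) → Prop := fun Φ => ∃ f : G → ℂ, Cfsg.IsClassFunction G f ∧
    (∀ x, x ∉ C → f x = 0) ∧ ∀ χ : Cfsg.IrrCharacter G, Blocks.omega (χ : G → ℂ) f = Φ χ
  have qconst : ∀ c : ℂ, Q fun _ => c := fun c => ⟨c • Blocks.delta G,
    fun x k => by simp [Blocks.isClassFunction_delta x k],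
    fun x hx => by simp [Blocks.delta, show x ≠ 1 from fun e => hx (e ▸ one_mem C)],
    fun χ => by rw [Blocks.omega_smul, Blocks.omega_delta (Char.IsIrr.one_ne_zero χ.2), mul_one]⟩
  have qsub : ∀ Φ Ψ, Q Φ → Q Ψ → Q fun χ => Φ χ - Ψ χ := by
    rintro Φ Ψ ⟨f, hf, hf0, hfv⟩ ⟨k, hk, hk0, hkv⟩
    exact ⟨f - k, fun a b => by simp [hf a b, hk a b], fun x hx => by simp [hf0 x hx, hk0 x hx],
      fun χ => by rw [Blocks.omega_sub, hfv, hkv]⟩
  have qmul : ∀ Φ Ψ, Q Φ → Q Ψ → Q fun χ => Φ χ * Ψ χ := by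
    rintro Φ Ψ ⟨f, hf, hf0, hfv⟩ ⟨k, hk, hk0, hkv⟩
    refine ⟨Blocks.conv f k, Blocks.isClassFunction_conv hf hk, fun x hx => ?_,
      fun χ => by rw [Blocks.omega_conv χ.2 hf hk, hfv, hkv]⟩
    refine Finset.sum_eq_zero fun a _ => ?_
    by_cases ha : a ∈ C
    · rw [hk0 _ fun h => hx (by simpa using mul_mem ha h), mul_zero]
    · rw [hf0 a ha, zero_mul]
  have qprod : ∀ (s : Finset (Cfsg.IrrCharacter G))
      (Φ : Cfsg.IrrCharacter G → Cfsg.IrrCharacter G → ℂ),
      (∀ i ∈ s, Q (Φ i)) → Q fun χ => ∏ i ∈ s, Φ i χ := by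
    intro s Φ
    induction s using Finset.induction_on with
    | empty => intro _; simpa using qconst 1
    | insert i s hi ih =>
      intro h
      simp only [Finset.prod_insert hi]
      exact qmul _ _ (h i (Finset.mem_insert_self i s))
        (ih fun j hj => h j (Finset.mem_insert_of_mem hj))
  -- the truncated idempotent
  set e := Cfsg.blockCoeff B with he
  set f : G → ℂ := fun x => if x ∈ C then e x else 0 with hf
  have hec : Cfsg.IsClassFunction G e := Blocks.isClassFunction_blockCoeff B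
  have hfc : Cfsg.IsClassFunction G f := fun x k => by simp only [hf, hCn, hec x k]
  set v : Cfsg.IrrCharacter G → ℂ := fun χ => Blocks.omega (χ : G → ℂ) f with hv
  have qv : Q v := ⟨f, hfc, fun x hx => if_neg hx, fun χ => rfl⟩
  have hcong : ∀ χ : Cfsg.IrrCharacter G,
      Cfsg.MemLocalIdeal M (v χ - if χ ∈ B then 1 else 0) := by
    intro χ
    have : Finite (ConjClasses G) := Quotient.finite _
    have := Fintype.ofFinite (ConjClasses G)
    rw [hv, ← Blocks.omega_blockCoeff B χ, ← Blocks.omega_sub, Blocks.omega_eq_sum_classes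
      (Char.isClassFunction_of_isIrr χ.2) (fun a b => by simp only [Pi.sub_apply, hfc a b, Blocks.isClassFunction_blockCoeff B a b])]
    refine Blocks.memLocalIdeal_sum hM _ fun D _ => ?_
    simp only [Pi.sub_apply, hf]
    split_ifs with hD
    · rw [sub_self, zero_mul]; exact Blocks.memLocalIdeal_zero hM
    · exact Blocks.memLocalIdeal_mul_left hM ((Blocks.localRing hM).sub_mem
        (Blocks.localRing hM).zero_mem (Blocks.memLocalRing_blockCoeff hM hB _))
        (BlockThms.memLocalIdeal_centralChar_of_notMem P hM hP χ hD)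
  have hne : ∀ φ ψ : Cfsg.IrrCharacter G, φ ∈ B → ψ ∉ B → v φ ≠ v ψ := by
    intro φ ψ hφ hψ h
    have h1 := hcong φ
    have h2 := hcong ψ
    rw [if_pos hφ, h] at h1
    rw [if_neg hψ, sub_zero] at h2
    exact Blocks.not_memLocalIdeal_one hM (by simpa using Blocks.memLocalIdeal_sub hM h2 h1)
  -- exact interpolation
  let S := Finset.univ.filter (· ∈ B)
  let T := Finset.univ.filter (· ∉ B)
  let E : Cfsg.IrrCharacter G → Cfsg.IrrCharacter G → ℂ := fun φ χ =>
    ∏ ψ ∈ T, (v χ - v ψ) * (v φ - v ψ)⁻¹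
  have qE : ∀ φ, Q (E φ) := fun φ => qprod T (fun ψ χ => (v χ - v ψ) * (v φ - v ψ)⁻¹) fun ψ _ =>
    qmul _ _ (qsub _ _ qv (qconst (v ψ))) (qconst _)
  obtain ⟨k, hkc, hk0, hkv⟩ := qsub _ _ (qconst 1)
    (qprod S (fun φ χ => 1 - E φ χ) fun φ _ => qsub _ _ (qconst 1) (qE φ))
  have hke : k = e := Blocks.eq_blockCoeff hkc B fun χ => by
    rw [hkv]
    by_cases hχ : χ ∈ B
    · have hE1 : E χ χ = 1 := Finset.prod_eq_one fun ψ hψ => mul_inv_cancel₀
        (sub_ne_zero.2 (hne χ ψ hχ (Finset.mem_filter.1 hψ).2))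
      simp only
      rw [if_pos hχ, Finset.prod_eq_zero (Finset.mem_filter.2 ⟨Finset.mem_univ χ, hχ⟩)
        (by rw [hE1, sub_self]), sub_zero]
    · simp only
      rw [if_neg hχ, Finset.prod_eq_one, sub_self]
      intro φ _
      rw [show E φ χ = 0 from Finset.prod_eq_zero
        (Finset.mem_filter.2 ⟨Finset.mem_univ χ, hχ⟩) (by rw [sub_self, zero_mul]), sub_zero]
  show e g = 0
  rw [← hke]
  exact hk0 g hg

end Cfsg.Agent.S4653
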