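import Cfsg.Statements.S2086
import Cfsg.Agent.SLMult.Main

set_option autoImplicit false
open Cfsg

namespace Cfsg.Agent.S2086

/-- Schur multipliers of the linear groups: for n ≥ 2 and a field F with q elements (q ≥ 4 when n = 2), apart from the five exceptional pairs (n, q) = (2, 4), (2, 9), (3, 2), (3, 4), (4, 2), the Schur multiplier of PSL_n(F) is cyclic of order gcd(n, q − 1); here the Schur multiplier is described through stem extensions, as in the definitions. -/
theorem result {F : Type*} [Field F] [Fintype F] {q : ℕ} (hF : Fintype.card F = q) (n : ℕ) (hn : 2 ≤ n) (h2 : n = 2 → 4 ≤ q) (hexc : (n, q) ∉ ({(2, 4), (2, 9), (3, 2), (3, 4), (4, 2)} : Set (ℕ × ℕ))) : Cfsg.HasCyclicSchurMultiplier (Matrix.ProjectiveSpecialLinearGroup (Fin n) F) (Nat.gcd n (q - 1)) := by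
  simp only [Set.mem_insert_iff, Set.mem_singleton_iff, Prod.mk.injEq, not_or] at hexc
  subst hF
  refine Cfsg.Agent.SLMult.psl_multiplier hn ?_ (Cfsg.Agent.SLMult.sl_multiplier_trivial ?_)
  · refine Cfsg.Agent.Classical.commutator_sl_eq_top ?_
    rw [Fintype.card_fin]
    by_cases h : n = 2
    · right
      refine Cfsg.Agent.SLMult.exists_sq_ne ?_ ?_ <;>
        (rw [Nat.card_eq_fintype_card]; have := h2 h; omega)
    · left; omega
  · by_cases h : n = 2
    · subst h
      exact Or.inl ⟨rfl, fun e => hexc.1 ⟨rfl, e⟩, fun e => hexc.2.1 ⟨rfl, e⟩⟩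
    · refine Or.inr ⟨by rw [Fintype.card_fin]; omega, fun h4 => ?_, fun h3 => ?_⟩
      · rw [Fintype.card_fin] at h4
        rw [Nat.card_eq_fintype_card]
        exact fun e => hexc.2.2.2.2 ⟨h4, e⟩
      · rw [Fintype.card_fin] at h3
        rw [Nat.card_eq_fintype_card]
        exact ⟨fun e => hexc.2.2.1 ⟨h3, e⟩, fun e => hexc.2.2.2.1 ⟨h3, e⟩⟩

end Cfsg.Agent.S2086
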