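import Cfsg.Statements.S0393
import Cfsg.Agent.Leech.Generators

set_option autoImplicit false
open Cfsg

namespace Cfsg.Agent.S0393

/-- The lattice has index 2^36 in ℤ^24 (unimodular at scale 1/8). -/
theorem result : Cfsg.leechLattice.index = 2 ^ 36 := by
  let ψ : (Cfsg.GolayPt → ℤ) →+ (ZMod 23 → ZMod 2) :=
    AddMonoidHom.mk' (fun x j => ((x (some j) - x none : ℤ) : ZMod 2))
      fun x y => by funext j; simp only [Pi.add_apply]; push_cast; ring
  have hψ : Function.Surjective ψ := fun b =>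
    ⟨fun p => match p with | none => 0 | some j => ((b j).val : ℤ), by funext j; simp [ψ]⟩
  set E := ψ.ker with hE
  have hEind : E.index = 2 ^ 23 := by
    rw [hE, AddSubgroup.index_ker, AddMonoidHom.range_eq_top.2 hψ, AddSubgroup.card_top]
    simp
  have hEdvd : ∀ x : E, ∀ i, (2 : ℤ) ∣ (x : Cfsg.GolayPt → ℤ) i - (x : Cfsg.GolayPt → ℤ) none := by
    rintro ⟨x, hx⟩ (_ | j)
    · simp
    · exact (ZMod.intCast_zmod_eq_zero_iff_dvd _ 2).1 (congrFun hx j)
  let half : E →+ (Cfsg.GolayPt → ℤ) :=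
    AddMonoidHom.mk' (fun x i => ((x : Cfsg.GolayPt → ℤ) i - (x : Cfsg.GolayPt → ℤ) none) / 2)
      fun x y => by
        funext i
        simp only [AddSubgroup.coe_add, Pi.add_apply]
        rw [show ∀ a b c d : ℤ, a + b - (c + d) = (a - c) + (b - d) from fun a b c d => by ring,
          Int.add_ediv_of_dvd_left (hEdvd x i)]
  have hhalf : ∀ (x : E) i,
      (x : Cfsg.GolayPt → ℤ) i = (x : Cfsg.GolayPt → ℤ) none + 2 * half x i := fun x i => by
    show _ = _ + 2 * (((x : Cfsg.GolayPt → ℤ) i - (x : Cfsg.GolayPt → ℤ) none) / 2)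
    rw [Int.mul_ediv_cancel' (hEdvd x i)]; ring
  let r2 : (Cfsg.GolayPt → ℤ) →+ (Cfsg.GolayPt → ZMod 2) :=
    AddMonoidHom.mk' Leech.red2 Leech.red2_add
  let Φ : E →+ ((Cfsg.GolayPt → ZMod 2) ⧸ Cfsg.golayCode) :=
    (Cfsg.golayCode.mkQ.toAddMonoidHom).comp (r2.comp half)
  have hΦ : Function.Surjective Φ := by
    intro q
    obtain ⟨w, rfl⟩ := Submodule.mkQ_surjective _ q
    let x : Cfsg.GolayPt → ℤ := fun i => 2 * (Leech.valVec w i - Leech.valVec w none)
    have hx : x ∈ E := by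
      funext j
      show ((x (some j) - x none : ℤ) : ZMod 2) = 0
      exact (ZMod.intCast_zmod_eq_zero_iff_dvd _ 2).2 ⟨Leech.valVec w (some j) - Leech.valVec w none, by
        simp [x]⟩
    refine ⟨⟨x, hx⟩, ?_⟩
    show Cfsg.golayCode.mkQ (Leech.red2 (half ⟨x, hx⟩)) = Cfsg.golayCode.mkQ w
    rw [Submodule.mkQ_apply, Submodule.mkQ_apply, Submodule.Quotient.eq]
    convert Submodule.smul_mem _ (w none) Leech.one_mem using 1
    funext i
    show (((x i - x none) / 2 : ℤ) : ZMod 2) - w i = w none * 1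
    have hv : ∀ a : ZMod 2, -a = a := by decide
    rw [show x i - x none = 2 * (Leech.valVec w i - Leech.valVec w none) by simp [x],
      Int.mul_ediv_cancel_left _ (by norm_num)]
    simp [Leech.valVec, hv]
  set K : AddSubgroup (Cfsg.GolayPt → ℤ) := Φ.ker.map E.subtype with hK
  have hKind : K.index = 2 ^ 35 := by
    rw [hK, AddSubgroup.index_map_subtype, AddSubgroup.index_ker,
      AddMonoidHom.range_eq_top.2 hΦ, AddSubgroup.card_top, hEind]
    have h1 := Submodule.card_eq_card_quotient_mul_card Cfsg.golayCode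
    rw [Module.natCard_eq_pow_finrank (K := ZMod 2) (V := Cfsg.golayCode),
      Leech.finrank_golayCode] at h1
    simp at h1
    norm_num at h1
    have h2 : Nat.card ((Cfsg.GolayPt → ZMod 2) ⧸ Cfsg.golayCode) = 4096 := by
      rw [Nat.card_eq_fintype_card]; omega
    rw [h2]
    norm_num
  have hKmem : ∀ x, x ∈ K ↔ ∃ y : Cfsg.GolayPt → ℤ,
      (∀ i, x i = x none + 2 * y i) ∧ Leech.red2 y ∈ Cfsg.golayCode := by
    intro x
    constructor
    · rintro ⟨⟨x, hx⟩, hk, rfl⟩
      exact ⟨half ⟨x, hx⟩, hhalf ⟨x, hx⟩,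
        (Submodule.Quotient.mk_eq_zero _).1 (show Cfsg.golayCode.mkQ _ = 0 from hk)⟩
    · rintro ⟨y, hy, hc⟩
      have hx : x ∈ E := by
        funext j
        show ((x (some j) - x none : ℤ) : ZMod 2) = 0
        exact (ZMod.intCast_zmod_eq_zero_iff_dvd _ 2).2 ⟨y (some j), by rw [hy (some j)]; push_cast; ring⟩
      refine ⟨⟨x, hx⟩, ?_, rfl⟩
      show Cfsg.golayCode.mkQ (Leech.red2 (half ⟨x, hx⟩)) = 0
      rw [Submodule.mkQ_apply, Submodule.Quotient.mk_eq_zero]
      convert hc using 2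
      funext i
      have := hhalf ⟨x, hx⟩ i
      have := hy i
      simp only at *
      omega
  have hKdvd : ∀ x : K, (4 : ℤ) ∣
      (∑ i, (x : Cfsg.GolayPt → ℤ) i) - 4 * (x : Cfsg.GolayPt → ℤ) none := by
    rintro ⟨x, hx⟩
    obtain ⟨y, hy, hc⟩ := (hKmem x).1 hx
    have e1 : ∑ i, x i = 24 * x none + 2 * ∑ i, y i := by
      rw [Finset.sum_congr rfl fun i _ => hy i, Finset.sum_add_distrib, Leech.sum_golayPt_const,
        Finset.mul_sum]
    have h2 : (2 : ℤ) ∣ ∑ i, y i := by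
      refine (ZMod.intCast_zmod_eq_zero_iff_dvd _ 2).1 ?_
      rw [Int.cast_sum]
      refine Eq.trans (Finset.sum_congr rfl fun i _ => ?_) (Leech.dot_eq_zero hc Leech.one_mem)
      simp [Leech.red2]
    simp only
    omega
  let ψ2 : K →+ ZMod 2 :=
    AddMonoidHom.mk' (fun x => ((((∑ i, (x : Cfsg.GolayPt → ℤ) i) -
        4 * (x : Cfsg.GolayPt → ℤ) none) / 4 : ℤ) : ZMod 2))
      fun x y => by
        simp only [AddSubgroup.coe_add, Pi.add_apply, Finset.sum_add_distrib]
        rw [← Int.cast_add, ← Int.add_ediv_of_dvd_left (hKdvd x)]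
        congr 2
        ring
  have hψ2 : Function.Surjective ψ2 := by
    intro a
    have hb : (Pi.single (some 0) 4 : Cfsg.GolayPt → ℤ) ∈ K := by
      refine (hKmem _).2 ⟨Pi.single (some 0) 2, fun i => ?_, ?_⟩
      · simp only [Pi.single_apply]; split_ifs <;> simp_all
      · convert zero_mem Cfsg.golayCode using 1
        funext i
        have h2 : (2 : ZMod 2) = 0 := rfl
        simp only [Leech.red2, Pi.single_apply]
        split_ifs <;> simp [h2]
    have h01 : a = 0 ∨ a = 1 := by revert a; decide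
    rcases h01 with rfl | rfl
    · exact ⟨0, map_zero _⟩
    · refine ⟨⟨_, hb⟩, ?_⟩
      simp [ψ2, Pi.single_apply]
  have heq : Cfsg.leechLattice = ψ2.ker.map K.subtype := by
    ext x
    rw [Leech.mem_lattice_iff]
    constructor
    · rintro ⟨m, y, hy, hs, hc⟩
      have hxK : x ∈ K := by
        refine (hKmem x).2 ⟨fun i => y i - y none, fun i => by rw [hy i, hy none]; ring, ?_⟩
        convert sub_mem hc (Submodule.smul_mem _ (Leech.red2 y none) Leech.one_mem) using 1
        funext i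
        simp [Leech.red2]
      refine ⟨⟨x, hxK⟩, ?_, rfl⟩
      refine (ZMod.intCast_zmod_eq_zero_iff_dvd _ 2).2 ?_
      obtain ⟨k, hk⟩ := hs
      have := hy none
      refine ⟨k - y none, ?_⟩
      simp only
      omega
    · rintro ⟨⟨x, hxK⟩, hk, rfl⟩
      obtain ⟨y, hy, hc⟩ := (hKmem x).1 hxK
      obtain ⟨k, hk2⟩ := (ZMod.intCast_zmod_eq_zero_iff_dvd _ 2).1 hk
      have h4 := hKdvd ⟨x, hxK⟩
      refine ⟨x none, y, hy, ?_, hc⟩
      show (8 : ℤ) ∣ (∑ i, x i) - 4 * x none
      simp only at hk2 h4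
      omega
  rw [heq, AddSubgroup.index_map_subtype, AddSubgroup.index_ker,
    AddMonoidHom.range_eq_top.2 hψ2, AddSubgroup.card_top, hKind]
  simp

end Cfsg.Agent.S0393
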