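import Cfsg.Statements.S2136
import Cfsg.Agent.Leech.CentTwoShape
import Cfsg.Agent.LargeExtra.SingularSubgroup
-- import your own Cfsg.Agent.* helpers here

set_option autoImplicit false
open Cfsg

namespace Cfsg.Agent.S2136

open Cfsg.Agent.Leech Cfsg.Agent.Leech.CentTwo

theorem tGen_fix : tGen.g • Spor.leechU = Spor.leechU :=
  Subtype.ext (toL_injective ((tGen.spec _).trans (by decide +kernel)))

/-- the involution -/
def tCo2 : ↥Spor.Co2 := ⟨tGen.g.1, tGen.g.2, tGen_fix⟩

/-- the centraliser of the involution as a subgroup of the full automorphism group -/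
def centEquiv : ↥(Subgroup.centralizer ({tCo2} : Set ↥Spor.Co2)) ≃* ↥CT where
  toFun g := ⟨⟨g.1.1, g.1.2.1⟩, g.1.2.2, Subgroup.mem_centralizer_singleton_iff.2
    (Subtype.ext ((congrArg Subtype.val (Subgroup.mem_centralizer_singleton_iff.1 g.2 :) :)))⟩
  invFun g := ⟨⟨g.1.1, g.1.2, g.2.1⟩, Subgroup.mem_centralizer_singleton_iff.2
    (Subtype.ext ((congrArg Subtype.val (Subgroup.mem_centralizer_singleton_iff.1 g.2.2 :) :)))⟩
  left_inv _ := rfl
  right_inv _ := rfl
  map_mul' _ _ := rfl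

/-- The Conway group Co₂ (the stabiliser of a minimal vector of the rank-24 lattice) has an involution whose centraliser C has largest normal 2-subgroup extraspecial of order 2^9 with quotient C / O₂(C) isomorphic to the symplectic group Sp(6, 2) (shape 2^{1+8}Sp(6, 2)). -/
theorem result : ∃ t : ↥Cfsg.Spor.Co2, orderOf t = 2 ∧ Cfsg.IsExtraspecial 2 (Cfsg.pCore 2 ↥(Subgroup.centralizer ({t} : Set ↥Cfsg.Spor.Co2))) ∧ Nat.card (Cfsg.pCore 2 ↥(Subgroup.centralizer ({t} : Set ↥Cfsg.Spor.Co2))) = 2 ^ 9 ∧ Nonempty (↥(Subgroup.centralizer ({t} : Set ↥Cfsg.Spor.Co2)) ⧸ Cfsg.pCore 2 ↥(Subgroup.centralizer ({t} : Set ↥Cfsg.Spor.Co2)) ≃* Matrix.symplecticGroup (Fin 3) (ZMod 2)) := by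
  have := finite_co0
  have h1 : tCo2 ≠ 1 := fun h => by
    have h2 : tGen.g = 1 := Subtype.ext (congrArg Subtype.val h :)
    have h3 := tGen.spec (oct (ptOf 2))
    rw [h2, one_smul] at h3
    revert h3
    decide +kernel
  have h2 : tCo2 ^ 2 = 1 := by
    have h3 : tGen.g * tGen.g = 1 := ext_of_oct fun i => Subtype.ext (toL_injective (by
      rw [mul_smul, tGen.spec, tGen.spec, one_smul]
      revert i
      decide +kernel))
    exact Subtype.ext (by
      rw [pow_two]
      exact (congrArg Subtype.val h3 :))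
  have : Finite ↥(Subgroup.centralizer ({tCo2} : Set ↥Spor.Co2)) :=
    Finite.of_equiv _ centEquiv.symm.toEquiv
  have hmap : (pCore 2 ↥(Subgroup.centralizer ({tCo2} : Set ↥Spor.Co2))).map centEquiv.toMonoidHom =
      act.ker := (Core.map_pCore centEquiv).trans pCore_CT
  let e : ↥(pCore 2 ↥(Subgroup.centralizer ({tCo2} : Set ↥Spor.Co2))) ≃* ↥act.ker :=
    (centEquiv.subgroupMap _).trans (MulEquiv.subgroupCongr hmap)
  refine ⟨tCo2, orderOf_eq_prime h2 h1, LargeExtra.extraspecial_congr e.symm isExtraspecial_ker, ?_, ?_⟩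
  · rw [Nat.card_congr e.toEquiv, counts.1]
    norm_num
  · obtain ⟨q⟩ := quot_iso
    exact ⟨(QuotientGroup.congr _ _ centEquiv hmap).trans q⟩

end Cfsg.Agent.S2136
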