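import Cfsg.Statements.S1571
import Cfsg.Agent.Leech.Monomial
import Cfsg.Agent.Compute.M24Base

set_option autoImplicit false
open scoped Pointwise
open Cfsg

namespace Cfsg.Agent.S1571

/-- The stabiliser of the standard cross in the automorphism group of the lattice is the monomial group of the code: each of its elements acts as a signed permutation with permutation part in the code's group and sign set a codeword, and it has order 4096 · 244823040. -/
theorem result : (∀ g : ↥Cfsg.Co0, (∀ v : ↥Cfsg.leechLattice, (v : Cfsg.GolayPt → ℤ) ∈ Cfsg.stdCross → ((g • v : ↥Cfsg.leechLattice) : Cfsg.GolayPt → ℤ) ∈ Cfsg.stdCross) → ∃ f ∈ Cfsg.golayMonomialMaps, ∀ v : ↥Cfsg.leechLattice, ((g • v : ↥Cfsg.leechLattice) : Cfsg.GolayPt → ℤ) = f (v : Cfsg.GolayPt → ℤ)) ∧ Nat.card {g : ↥Cfsg.Co0 // (∀ v : ↥Cfsg.leechLattice, (v : Cfsg.GolayPt → ℤ) ∈ Cfsg.stdCross → ((g • v : ↥Cfsg.leechLattice) : Cfsg.GolayPt → ℤ) ∈ Cfsg.stdCross)}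 = 4096 * 244823040 := by
  have hmem : ∀ (σ : Equiv.Perm Cfsg.GolayPt) (hσ : σ ∈ Cfsg.M24) (c : Cfsg.GolayPt → ZMod 2)
      (hc : c ∈ Cfsg.golayCode) (v : ↥Cfsg.leechLattice) (q : Cfsg.GolayPt),
      (((Leech.signCo0 c hc * Leech.permCo0 σ hσ) • v : ↥Cfsg.leechLattice) : Cfsg.GolayPt → ℤ) q =
        if c q = 0 then (v : Cfsg.GolayPt → ℤ) (σ⁻¹ q) else -(v : Cfsg.GolayPt → ℤ) (σ⁻¹ q) :=
    fun σ hσ c hc v q => by rw [mul_smul, Leech.signCo0_apply]; rfl
  have hstab : ∀ g : ↥Cfsg.Co0, (∀ v : ↥Cfsg.leechLattice, (v : Cfsg.GolayPt → ℤ) ∈ Cfsg.stdCross →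
      ((g • v : ↥Cfsg.leechLattice) : Cfsg.GolayPt → ℤ) ∈ Cfsg.stdCross) →
      ∃ σ, ∃ hσ : σ ∈ Cfsg.M24, ∃ c, ∃ hc : c ∈ Cfsg.golayCode,
        g = Leech.signCo0 c hc * Leech.permCo0 σ hσ := fun g hg =>
    Leech.exists_of_stdFrame g fun i => hg (Leech.oct i) ⟨i, 8, Or.inl rfl, rfl⟩
  have hconv : ∀ (σ : Equiv.Perm Cfsg.GolayPt) (hσ : σ ∈ Cfsg.M24) (c : Cfsg.GolayPt → ZMod 2)
      (hc : c ∈ Cfsg.golayCode) (v : ↥Cfsg.leechLattice), (v : Cfsg.GolayPt → ℤ) ∈ Cfsg.stdCross →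
      (((Leech.signCo0 c hc * Leech.permCo0 σ hσ) • v : ↥Cfsg.leechLattice) : Cfsg.GolayPt → ℤ) ∈ Cfsg.stdCross := by
    rintro σ hσ c hc v ⟨i, s, hs, hv⟩
    refine ⟨σ i, if c (σ i) = 0 then s else -s, ?_, funext fun q => ?_⟩
    · split_ifs
      · exact hs
      · omega
    rw [hmem, hv]
    by_cases hq : q = σ i
    · subst hq; simp
    · have : σ⁻¹ q ≠ i := fun e => hq (by rw [← e]; simp)
      simp only [Pi.single_apply, if_neg hq, if_neg this]
      simp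
  refine ⟨fun g hg => ?_, ?_⟩
  · obtain ⟨σ, hσ, c, hc, rfl⟩ := hstab g hg
    refine ⟨_, ⟨σ, hσ, Cfsg.support₂ c, (Leech.mem_supports_iff c).2 hc, rfl⟩, fun v => funext fun q => ?_⟩
    rw [hmem]
    simp only [Cfsg.signedPerm, Cfsg.support₂, Finset.mem_filter, Finset.mem_univ, true_and]
    by_cases h : c q = 0
    · rw [if_pos h, if_neg (not_not_intro h)]; rfl
    · rw [if_neg h, if_pos h]; rfl
  · let F : ↥Cfsg.golayCode × ↥Cfsg.M24 → {g : ↥Cfsg.Co0 // (∀ v : ↥Cfsg.leechLattice,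
        (v : Cfsg.GolayPt → ℤ) ∈ Cfsg.stdCross →
        ((g • v : ↥Cfsg.leechLattice) : Cfsg.GolayPt → ℤ) ∈ Cfsg.stdCross)} :=
      fun p => ⟨Leech.signCo0 p.1 p.1.2 * Leech.permCo0 p.2 p.2.2, hconv _ p.2.2 _ p.1.2⟩
    have hF : Function.Bijective F := by
      constructor
      · rintro ⟨⟨c, hc⟩, ⟨σ, hσ⟩⟩ ⟨⟨d, hd⟩, ⟨τ, hτ⟩⟩ h
        have h' := congrArg Subtype.val h
        have key : ∀ i q, (if c q = 0 then (Pi.single i 8 : Cfsg.GolayPt → ℤ) (σ⁻¹ q) else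
            -(Pi.single i 8 : Cfsg.GolayPt → ℤ) (σ⁻¹ q)) =
            (if d q = 0 then (Pi.single i 8 : Cfsg.GolayPt → ℤ) (τ⁻¹ q) else
            -(Pi.single i 8 : Cfsg.GolayPt → ℤ) (τ⁻¹ q)) := fun i q => by
          have := congrArg (fun g : ↥Cfsg.Co0 =>
            ((g • Leech.oct i : ↥Cfsg.leechLattice) : Cfsg.GolayPt → ℤ) q) h'
          simp only [F, hmem] at this
          exact this
        have hst : ∀ q, σ⁻¹ q = τ⁻¹ q := fun q => by
          by_contra hne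
          have := key (σ⁻¹ q) q
          rw [Pi.single_eq_same, Pi.single_eq_of_ne (Ne.symm hne)] at this
          split_ifs at this <;> omega
        have hcd : c = d := funext fun q => by
          have := key (σ⁻¹ q) q
          rw [← hst q, Pi.single_eq_same] at this
          have h01 : ∀ a : ZMod 2, a = 0 ∨ a = 1 := by decide
          rcases h01 (c q) with h1 | h1 <;> rcases h01 (d q) with h2 | h2 <;> simp [h1, h2] at this ⊢
        subst hcd
        obtain rfl : σ = τ := inv_injective (Equiv.ext hst)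
        rfl
      · rintro ⟨g, hg⟩
        obtain ⟨σ, hσ, c, hc, rfl⟩ := hstab g hg
        exact ⟨(⟨c, hc⟩, ⟨σ, hσ⟩), rfl⟩
    rw [← Nat.card_eq_of_bijective F hF, Nat.card_prod, Compute.card_m24,
      Module.natCard_eq_pow_finrank (K := ZMod 2) (V := Cfsg.golayCode), Leech.finrank_golayCode,
      Nat.card_zmod]
    norm_num

end Cfsg.Agent.S1571
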