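import Cfsg.Statements.S0397
import Cfsg.Agent.Leech.ModTwo
import Cfsg.Agent.S1571

set_option autoImplicit false
open Cfsg
open scoped Pointwise

namespace Cfsg.Agent.S0397

/-- The automorphism group of the lattice has order 8315553613086720000 = 2^22·3^9·5^4·7^2·11·13·23. -/
theorem result : Nat.card Cfsg.Co0 = 8315553613086720000 := by
  haveI : Finite ↥Cfsg.Co0 := Finite.of_injective Leech.mat13 fun g h e => by
    have e1 : Leech.mat13 (g * h⁻¹) = 1 := by
      rw [Leech.mat13_mul, e, ← Leech.mat13_mul, mul_inv_cancel, Leech.mat13_one]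
    exact mul_inv_eq_one.1 (Leech.eq_one_of_mat13 e1)
  have hidx : (MulAction.stabilizer ↥Cfsg.Co0 Leech.frame).index = 8292375 := by
    rw [MulAction.index_stabilizer]; exact Leech.ncard_orbit_frame
  have hfin : Leech.frame.Finite := by
    refine (Set.finite_of_ncard_ne_zero (s := Cfsg.stdCross) (by rw [Leech.ncard_stdCross]; norm_num)).preimage ?_
    exact Subtype.val_injective.injOn
  have hcard : Nat.card (MulAction.stabilizer ↥Cfsg.Co0 Leech.frame) = 4096 * 244823040 := by
    rw [← S1571.result.2]
    refine Nat.card_congr (Equiv.subtypeEquivRight fun g => ?_)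
    rw [MulAction.mem_stabilizer_iff]
    constructor
    · intro hg v hv
      have : g • v ∈ g • Leech.frame := Set.smul_mem_smul_set hv
      rwa [hg] at this
    · intro hg
      refine Set.eq_of_subset_of_ncard_le ?_ (le_of_eq ?_) hfin
      · rintro _ ⟨v, hv, rfl⟩
        exact hg v hv
      · exact (Set.ncard_smul_set g Leech.frame).symm
  rw [← Subgroup.card_mul_index (MulAction.stabilizer ↥Cfsg.Co0 Leech.frame), hidx, hcard]

end Cfsg.Agent.S0397
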