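import Cfsg.Statements.S0398
import Cfsg.Agent.Leech.Monomial

set_option autoImplicit false
open Cfsg

namespace Cfsg.Agent.S0398

/-- The centre of the lattice's automorphism group has order 2. -/
theorem result : Nat.card (Subgroup.center Cfsg.Co0) = 2 := by
  have hneg : ∀ (g : ↥Cfsg.Co0) (v : ↥Cfsg.leechLattice), g • (-v) = -(g • v) := fun g v => by
    have h0 : g • (0 : ↥Cfsg.leechLattice) = 0 := by
      have := Leech.smul_add' g 0 0
      rw [add_zero] at this
      exact left_eq_add.1 this
    have := Leech.smul_add' g (-v) v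
    rw [neg_add_cancel, h0] at this
    exact eq_neg_of_add_eq_zero_left this.symm
  set z : ↥Cfsg.Co0 := Leech.signCo0 1 Leech.one_mem with hz
  have hzv : ∀ v : ↥Cfsg.leechLattice, z • v = -v := fun v => Subtype.ext (by
    rw [hz, Leech.signCo0_apply, Leech.negOn_one]; rfl)
  have hzc : z ∈ Subgroup.center ↥Cfsg.Co0 := by
    rw [Subgroup.mem_center_iff]
    exact fun g => Leech.ext_of_oct fun i => by rw [mul_smul, mul_smul, hzv, hzv, hneg]
  have hz1 : z ≠ 1 := by
    intro h
    have := congrArg (fun v : ↥Cfsg.leechLattice => (v : Cfsg.GolayPt → ℤ) none)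
      (hzv (Leech.oct none))
    rw [h, one_smul] at this
    simp [Leech.oct] at this
  have hsep : ∀ i j : Cfsg.GolayPt, i ≠ j → ∃ r, Leech.row r i ≠ Leech.row r j := by decide +kernel
  have hmove : ∀ j : ZMod 23, ∃ k : ZMod 23, Cfsg.projInv none = some k := by decide +kernel
  have hall : ∀ g ∈ Subgroup.center ↥Cfsg.Co0, g = 1 ∨ g = z := by
    intro g hg
    have hcomm : ∀ (h : ↥Cfsg.Co0) (v : ↥Cfsg.leechLattice), g • (h • v) = h • (g • v) := fun h v => by
      rw [← mul_smul, ← mul_smul, Subgroup.mem_center_iff.1 hg h]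
    have hdiag : ∀ i j, j ≠ i → ((g • Leech.oct i : ↥Cfsg.leechLattice) : Cfsg.GolayPt → ℤ) j = 0 := by
      intro i j hji
      obtain ⟨r, hr⟩ := hsep i j (Ne.symm hji)
      have h := hcomm (Leech.signCo0 _ (Leech.row_mem r)) (Leech.oct i)
      have h01 : ∀ a : ZMod 2, a = 0 ∨ a = 1 := by decide
      have hoct : Leech.signCo0 _ (Leech.row_mem r) • Leech.oct i =
          if Leech.row r i = 0 then Leech.oct i else -Leech.oct i := by
        refine Subtype.ext (funext fun q => ?_)
        rw [Leech.signCo0_apply]
        simp only [Leech.negOn, Leech.oct]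
        by_cases hq : q = i
        · subst hq; split_ifs <;> simp
        · split_ifs <;> simp [hq]
      rw [hoct] at h
      have h2 := congrArg (fun v : ↥Cfsg.leechLattice => (v : Cfsg.GolayPt → ℤ) j) h
      simp only [Leech.signCo0_apply, Leech.negOn] at h2
      rcases h01 (Leech.row r i) with ha | ha <;> rcases h01 (Leech.row r j) with hb | hb <;>
        simp [ha, hb, hneg] at hr h2 <;> omega
    have hval : ∀ i, ((g • Leech.oct i : ↥Cfsg.leechLattice) : Cfsg.GolayPt → ℤ) i = 8 ∨
        ((g • Leech.oct i : ↥Cfsg.leechLattice) : Cfsg.GolayPt → ℤ) i = -8 := by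
      intro i
      have hn := Leech.sqNorm_smul g (Leech.oct i)
      simp only [sqNorm, Leech.oct] at hn
      rw [Finset.sum_eq_single i (fun b _ hb => by rw [show (⟨_, Leech.octVec_mem i⟩ : ↥Cfsg.leechLattice) = Leech.oct i from rfl, hdiag i b hb]; ring) (by simp),
        Finset.sum_eq_single i (fun b _ hb => by simp [hb]) (by simp)] at hn
      simp only [Pi.single_eq_same] at hn
      have : (((g • Leech.oct i : ↥Cfsg.leechLattice) : Cfsg.GolayPt → ℤ) i - 8) *
          (((g • Leech.oct i : ↥Cfsg.leechLattice) : Cfsg.GolayPt → ℤ) i + 8) = 0 := by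
        simp only [Leech.oct]
        linear_combination hn
      rcases mul_eq_zero.1 this with h | h
      · left; omega
      · right; omega
    set t : Cfsg.GolayPt → ℤ := fun i => ((g • Leech.oct i : ↥Cfsg.leechLattice) : Cfsg.GolayPt → ℤ) i with ht
    have hsingle : ∀ i, ((g • Leech.oct i : ↥Cfsg.leechLattice) : Cfsg.GolayPt → ℤ) = Pi.single i (t i) := fun i => by
      funext q
      by_cases hq : q = i
      · subst hq; simp [ht]
      · simp [hq, hdiag i q hq]
    have hperm : ∀ (σ : Equiv.Perm Cfsg.GolayPt) (hσ : σ ∈ Cfsg.M24) i, t (σ i) = t i := by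
      intro σ hσ i
      have hoct : Leech.permCo0 σ hσ • Leech.oct i = Leech.oct (σ i) := by
        refine Subtype.ext (funext fun q => ?_)
        rw [Leech.permCo0_apply]
        simp only [Leech.oct, Pi.single_apply]
        by_cases hq : q = σ i
        · subst hq; simp
        · rw [if_neg hq, if_neg]
          exact fun e => hq (by rw [← e]; simp)
      have h := congrArg (fun v : ↥Cfsg.leechLattice => (v : Cfsg.GolayPt → ℤ) (σ i))
        (hcomm (Leech.permCo0 σ hσ) (Leech.oct i))
      simp only [hoct, Leech.permCo0_apply] at h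
      rw [hsingle, hsingle] at h
      simpa using h
    obtain ⟨k0, hk0⟩ := hmove 0
    have hshift : ∀ j : ZMod 23, t (some (j + 1)) = t (some j) := fun j =>
      hperm Leech.shift Leech.shift_mem (some j)
    have hconst : ∀ j : ZMod 23, t (some j) = t (some 0) := by
      intro j
      obtain ⟨n, rfl⟩ : ∃ n : ℕ, (n : ZMod 23) = j := ⟨j.val, ZMod.natCast_zmod_val j⟩
      induction n with
      | zero => simp
      | succ n ih => push_cast; rw [hshift, ih]
    have hall' : ∀ i, t i = t none := by
      have h1 := hperm Cfsg.projInv Leech.projInv_mem none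
      rw [hk0, hconst] at h1
      intro i
      rcases i with _ | j
      · rfl
      · rw [hconst j, h1]
    rcases hval none with h | h
    · left
      refine Leech.ext_of_oct fun i => Subtype.ext ?_
      rw [hsingle, hall', one_smul, show t none = 8 from h]
      rfl
    · right
      refine Leech.ext_of_oct fun i => Subtype.ext ?_
      rw [hsingle, hall', hzv, show t none = -8 from h]
      funext q
      by_cases hq : q = i
      · subst hq; simp [Leech.oct]
      · simp [Leech.oct, hq]
  rw [Nat.card_eq_two_iff]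
  refine ⟨1, ⟨z, hzc⟩, fun h => hz1 (congrArg Subtype.val h).symm, ?_⟩
  ext ⟨g, hg⟩
  simp only [Set.mem_insert_iff, Set.mem_singleton_iff, Set.mem_univ, iff_true]
  rcases hall g hg with rfl | rfl
  · exact Or.inl rfl
  · exact Or.inr rfl

end Cfsg.Agent.S0398
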