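
import Cfsg.Statements.S0346
import Cfsg.Agent.Zassenhaus.NilGrow
import Cfsg.Agent.Zassenhaus.AbelianKernel

set_option autoImplicit false
open Cfsg

namespace Cfsg.Agent.S0346

/-- The number of points of a finite simple Zassenhaus group is `p^k + 1` for some prime power `p^k` (the regular normal
subgroup of a point stabiliser is a `p`-group). -/
theorem result {G Ω : Type*} [Group G] [Finite G] [MulAction G Ω] [Fintype Ω]
    (hZ : Cfsg.IsZassenhausGroup G Ω) [IsSimpleGroup G] :
    IsPrimePow (Fintype.card Ω - 1) := by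
  classical
  have C := Zassenhaus.zctx_of_zassenhaus hZ
  have h3 := Zassenhaus.three_le_of_zassenhaus hZ
  haveI : Nonempty Ω := (Nat.card_pos_iff.1 (by omega)).1
  obtain ⟨a⟩ := ‹Nonempty Ω›
  obtain ⟨b, hba⟩ := Fintype.exists_ne_of_one_lt_card (by rw [← Nat.card_eq_fintype_card]; omega) a
  have hab : a ≠ b := Ne.symm hba
  have hne := Zassenhaus.twoPt_ne_bot_of_zassenhaus hZ hab
  obtain ⟨F, hF⟩ := C.exists_kernel h3 hab hne
  have hn := hF.card_eq hab
  rw [← Nat.card_eq_fintype_card, ← hn, Nat.add_sub_cancel]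
  have hlarge : Nat.card Ω - 2 ≤ 2 * Nat.card (Zassenhaus.twoPt G a b) →
      IsPrimePow (Nat.card F) := fun h => by
    obtain ⟨-, p, hp, hpg, -⟩ := hF.elementary C hab h3 h
    haveI := Fact.mk hp
    obtain ⟨k, hk⟩ := hpg.exists_card_eq
    refine ⟨p, k, hp.prime, Nat.pos_of_ne_zero fun e => ?_, hk.symm⟩
    rw [e, pow_zero] at hk
    omega
  rcases Nat.even_or_odd (Nat.card (Zassenhaus.twoPt G a b)) with heven | hodd
  · have hb := S0741.result hZ hab heven
    rw [← Nat.card_eq_fintype_card] at hb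
    exact hlarge hb
  by_contra hnp
  have hnc : ¬ ∀ x y : G, x * y = y * x := by
    intro hall
    obtain ⟨h, hh, hh1⟩ := (Zassenhaus.twoPt G a b).bot_or_exists_ne_one.resolve_left hne
    obtain ⟨c, hca, hcb⟩ := Zassenhaus.exists_third h3 a b
    obtain ⟨g, hga, hgb⟩ := C.two hab (Ne.symm hca)
    exact hh1 (C.eq_one hab hh hca hcb (by rw [← hgb, ← mul_smul, hall, mul_smul, hh.2]))
  obtain ⟨hcyc, -, hinv⟩ := C.twoPt_inverted_odd h3 hab hodd hne
    fun q hq hqd => Zassenhaus.no_normal_complement hnc hq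
      (hqd.trans (Subgroup.card_subgroup_dvd_card _))
  let X : Zassenhaus.NCtx G Ω := ⟨a, b, F, C, h3, hab, hF,
    fun x hx y hy => congrArg Subtype.val (mul_comm' (⟨x, hx⟩ : Zassenhaus.twoPt G a b) ⟨y, hy⟩),
    hinv, hodd⟩
  haveI := Fintype.ofFinite G
  have hbound : Nat.card F ≤ 2 * Nat.card (Zassenhaus.twoPt G a b) + 1 :=
    X.two_mul_bound_of_not_primePow ((Subgroup.one_lt_card_iff_ne_bot _).2 hne) hnp
  exact hnp (hlarge (by omega))

end Cfsg.Agent.S0346
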