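import Cfsg.Statements.S0347
import Cfsg.Agent.Zassenhaus.EvenMain

set_option autoImplicit false
open Cfsg

namespace Cfsg.Agent.S0347

/-- If in a finite simple Zassenhaus group the stabiliser of a point `x` has a normal `2`-subgroup `U` which is
non-abelian and acts regularly on the points other than `x`, then the group is simple of Suzuki order (order-level
predicate `IsSuzuki`). -/
theorem result {G Ω : Type*} [Group G] [Finite G] [MulAction G Ω] [Finite Ω]
    (hZ : Cfsg.IsZassenhausGroup G Ω) [IsSimpleGroup G]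
    (x : Ω) (U : Subgroup G) (hUle : U ≤ MulAction.stabilizer G x) (hUn : (U.subgroupOf (MulAction.stabilizer G x)).Normal)
    (hU2 : IsPGroup 2 U) (hUna : ∃ u v : U, u * v ≠ v * u)
    (hreg : ∀ y z : Ω, y ≠ x → z ≠ x → ∃! u : U, (u : G) • y = z) :
    Cfsg.IsSuzuki G := by
  haveI := Fintype.ofFinite Ω
  obtain ⟨b, hb⟩ : ∃ b : Ω, x ≠ b := by
    by_contra h
    push Not at h
    obtain ⟨-, -, -, ⟨g, hg, y, z, hyz, -⟩, -⟩ := hZ
    exact hyz ((h y).symm.trans (h z))
  have hU : Zassenhaus.IsKernel U x :=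
    ⟨fun u hu => hUle hu, fun g hg u hu => hUn.conj_mem ⟨u, hUle hu⟩ hu ⟨g, hg⟩, hreg⟩
  obtain ⟨u, v, huv⟩ := hUna
  have X := Zassenhaus.evenCtx_of_simple hZ hb hU hU2
    ⟨u, u.2, v, v.2, fun e => huv (Subtype.ext e)⟩
  obtain ⟨n, ⟨m, rfl⟩, hn1, hd, hcard⟩ := X.exists_exponent
  refine ⟨‹_›, m, by omega, ?_⟩
  have e : Nat.card (Zassenhaus.twoPt G x b) = 2 ^ (2 * m + 1) - 1 := Nat.eq_sub_of_add_eq hd
  rw [X.card_group, hcard, e]
  ring

end Cfsg.Agent.S0347
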