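import Cfsg.Statements.S5626
import Cfsg.Agent.Plane4.Coord

set_option autoImplicit false
open Cfsg

namespace Cfsg.Agent.S5626

/-- Uniqueness of the projective plane of order 4: any two Steiner systems S(2, 5, 21) (21 points, lines of 5 points, two points on exactly one line) are isomorphic. -/
theorem result {α β : Type*} [Fintype α] [DecidableEq α] [Fintype β] [DecidableEq β] (hα : Fintype.card α = 21) (hβ : Fintype.card β = 21) {L : Set (Finset α)} {L' : Set (Finset β)} (hL : Cfsg.IsSteinerSystem 2 5 L) (hL' : Cfsg.IsSteinerSystem 2 5 L') : Cfsg.SetSystemIso L L' := by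
  classical
  have P : Agent.Plane4.IsPlane L := ⟨hα, hL⟩
  have P' : Agent.Plane4.IsPlane L' := ⟨hβ, hL'⟩
  obtain ⟨S, hS⟩ := Finset.card_pos.1 (show 0 < (P.indepSets 6).card by rw [P.counts.2]; norm_num)
  obtain ⟨S', hS'⟩ := Finset.card_pos.1 (show 0 < (P'.indepSets 6).card by rw [P'.counts.2]; norm_num)
  rw [P.mem_indepSets] at hS
  rw [P'.mem_indepSets] at hS'
  have himg : ∀ {γ : Type _} [DecidableEq γ] (T : Finset γ) (e : Fin 6 ≃ T),
      Finset.univ.image (fun i => (e i : γ)) = T := by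
    intro γ _ T e
    ext x
    simp only [Finset.mem_image, Finset.mem_univ, true_and]
    exact ⟨fun ⟨i, hi⟩ => hi ▸ (e i).2, fun hx => ⟨e.symm ⟨x, hx⟩, by simp⟩⟩
  let e := (S.equivFinOfCardEq hS.1).symm
  let e' := (S'.equivFinOfCardEq hS'.1).symm
  obtain ⟨Ψ, hΨ, -⟩ := P.exists_coord (fun i => (e i : α)) (Subtype.val_injective.comp e.injective)
    ((himg S e).symm ▸ hS.2)
  obtain ⟨Ψ', hΨ', -⟩ := P'.exists_coord (fun i => (e' i : β)) (Subtype.val_injective.comp e'.injective)
    (by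
      have : Finset.univ.image (fun i => (e' i : β)) = S' := by
        ext x
        simp only [Finset.mem_image, Finset.mem_univ, true_and]
        exact ⟨fun ⟨i, hi⟩ => hi ▸ (e' i).2, fun hx => ⟨e'.symm ⟨x, hx⟩, by simp⟩⟩
      exact this.symm ▸ hS'.2)
  exact ⟨Ψ.symm.trans Ψ', hΨ.image_eq hΨ'⟩

end Cfsg.Agent.S5626
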