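import Cfsg.Statements.S5628
import Cfsg.Agent.Plane4.Coord

set_option autoImplicit false
open Cfsg
open scoped Pointwise

namespace Cfsg.Agent.S5628

/-- In a projective plane of order 4 (a Steiner system S(2, 5, 21)), every permutation of the six points of a hyperoval (a 6-set met by no line in more than two points) is the restriction of exactly one automorphism of the plane. In particular the stabiliser of a hyperoval in the automorphism group is isomorphic to the symmetric group of degree 6 acting faithfully on the hyperoval. -/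
theorem result {α : Type*} [Fintype α] [DecidableEq α] (hα : Fintype.card α = 21) (L : Set (Finset α)) (hL : Cfsg.IsSteinerSystem 2 5 L) (H : Finset α) (hH : (H.card = 6 ∧ ∀ l ∈ L, (l ∩ H).card ≤ 2)) (σ : Equiv.Perm ↥H) : ∃! g : Equiv.Perm α, g ∈ Cfsg.setSystemAut L ∧ ∀ p : ↥H, g p = σ p := by
  classical
  have P : Agent.Plane4.IsPlane L := ⟨hα, hL⟩
  let e := (H.equivFinOfCardEq hH.1).symm
  let h : Fin 6 → α := fun i => (e i : α)
  let h' : Fin 6 → α := fun i => (σ (e i) : α)
  have hi : Function.Injective h := Subtype.val_injective.comp e.injective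
  have hi' : Function.Injective h' := Subtype.val_injective.comp (σ.injective.comp e.injective)
  have him : Finset.univ.image h = H := by
    ext x
    simp only [Finset.mem_image, Finset.mem_univ, true_and, h]
    exact ⟨fun ⟨i, hi⟩ => hi ▸ (e i).2, fun hx => ⟨e.symm ⟨x, hx⟩, by simp⟩⟩
  have him' : Finset.univ.image h' = H := by
    ext x
    simp only [Finset.mem_image, Finset.mem_univ, true_and, h']
    exact ⟨fun ⟨i, hi⟩ => hi ▸ (σ (e i)).2, fun hx => ⟨e.symm (σ.symm ⟨x, hx⟩), by simp⟩⟩
  obtain ⟨Ψ, hΨ, hΨh⟩ := P.exists_coord h hi (him.symm ▸ hH.2)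
  obtain ⟨Ψ', hΨ', hΨh'⟩ := P.exists_coord h' hi' (him'.symm ▸ hH.2)
  refine ⟨Ψ.symm.trans Ψ', ⟨?_, fun p => ?_⟩, ?_⟩
  · rw [MulAction.mem_stabilizer_iff]
    exact hΨ.image_eq hΨ'
  · obtain ⟨i, rfl⟩ := e.surjective p
    rw [Equiv.trans_apply, show Ψ.symm (e i : α) = Sum.inl i from Ψ.symm_apply_eq.2 (hΨh i).symm]
    exact hΨh' i
  · rintro g ⟨hg, hgσ⟩
    rw [MulAction.mem_stabilizer_iff] at hg
    have hc : Agent.Plane4.IsCoord L (Ψ.trans g) := by
      intro S
      rw [← hΨ S]
      conv_rhs => rw [← Set.smul_mem_smul_set_iff (a := g), hg]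
      have : g • S.map Ψ.toEmbedding = S.map (Ψ.trans g).toEmbedding := by
        rw [Finset.smul_finset_def, Finset.map_eq_image, Finset.map_eq_image, Finset.image_image]
        rfl
      rw [this]
    have := P.coord_unique h' hi' (him'.symm ▸ hH.2) hc hΨ'
      (fun i => by rw [Equiv.trans_apply, hΨh]; exact hgσ (e i)) hΨh'
    rw [← this]
    ext x
    simp

end Cfsg.Agent.S5628
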