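import Cfsg.Statements.S3992
import Mathlib
import Cfsg.Agent.Invol.Isolated
import Cfsg.Agent.Invol.ZStar
import Cfsg.Agent.Core.PCore
import Cfsg.Agent.Core.Basics
import Cfsg.Agent.Fusion.UniqueInvolution
import Cfsg.Agent.Coprime.SchurZassenhaus

set_option autoImplicit false
open Cfsg

namespace Cfsg.Agent.S3992

open Subgroup

universe u v

/-- Every element has prime-power order. -/
def EPPO (X : Type*) [Group X] : Prop := ∀ g : X, g ≠ 1 → IsPrimePow (orderOf g)

/-- Commuting elements of order `s` generate the same subgroup. -/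
def UniqueOrd (X : Type*) [Group X] (s : ℕ) : Prop :=
  ∀ x z : X, orderOf x = s → orderOf z = s → Commute x z → z ∈ zpowers x

variable {X : Type u} [Group X] [Finite X]

omit [Finite X] in
theorem EPPO.quotient (h : EPPO X) (N : Subgroup X) [N.Normal] : EPPO (X ⧸ N) := by
  intro g hg
  obtain ⟨x, rfl⟩ := QuotientGroup.mk_surjective g
  have hx : x ≠ 1 := by rintro rfl; exact hg rfl
  obtain ⟨p, k, hp, hk, hxk⟩ := (isPrimePow_nat_iff _).1 (h x hx)
  obtain ⟨i, -, hi⟩ := (Nat.dvd_prime_pow hp).1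
    (hxk ▸ orderOf_map_dvd (QuotientGroup.mk' N) x)
  refine (isPrimePow_nat_iff _).2 ⟨p, i, hp, ?_, hi.symm⟩
  rcases Nat.eq_zero_or_pos i with rfl | h0
  · rw [pow_zero, orderOf_eq_one_iff] at hi; exact absurd hi hg
  · exact h0

omit [Finite X] in
theorem EPPO.subgroup (h : EPPO X) (H : Subgroup X) : EPPO H := fun g hg => by
  rw [← Subgroup.orderOf_coe]
  exact h g fun e => hg (Subtype.ext e)

omit [Finite X] in
theorem EPPO.eq_prime (h : EPPO X) {x : X} {s t : ℕ} (hs : s.Prime) (ht : t.Prime)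
    (h1 : s ∣ orderOf x) (h2 : t ∣ orderOf x) : s = t := by
  rcases eq_or_ne x 1 with rfl | hx
  · rw [orderOf_one, Nat.dvd_one] at h1; exact absurd h1 hs.ne_one
  obtain ⟨p, k, hp, -, hxk⟩ := (isPrimePow_nat_iff _).1 (h x hx)
  rw [← hxk] at h1 h2
  rw [(Nat.prime_dvd_prime_iff_eq hs hp).1 (hs.dvd_of_dvd_pow h1),
    (Nat.prime_dvd_prime_iff_eq ht hp).1 (ht.dvd_of_dvd_pow h2)]

omit [Finite X] in
theorem EPPO.no_commute (h : EPPO X) {x y : X} {s t : ℕ} (hs : s.Prime) (ht : t.Prime) (hst : s ≠ t)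
    {i j : ℕ} (hx : orderOf x = s ^ i) (hi : i ≠ 0) (hy : orderOf y = t ^ j) (hj : j ≠ 0)
    (hc : Commute x y) : False := by
  have ho := hc.orderOf_mul_eq_mul_orderOf_of_coprime (by
    rw [hx, hy]; exact ((Nat.coprime_primes hs ht).2 hst).pow i j)
  rw [hx, hy] at ho
  refine hst (h.eq_prime (x := x * y) hs ht ?_ ?_) <;> rw [ho]
  · exact dvd_mul_of_dvd_left (dvd_pow_self s hi) _
  · exact dvd_mul_of_dvd_right (dvd_pow_self t hj) _

open scoped Classical in
/-- The counting identity: `K` fixed-point-free, of elements of prime order. -/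
theorem pow_sub_one_eq_one {K : Type*} {V : Type*} [Group K] [Fintype K]
    [CommGroup V] (φ : K →* MulAut V) (hfpf : ∀ k : K, k ≠ 1 → ∀ v, φ k v = v → v = 1)
    (hprime : ∀ k : K, k ≠ 1 → (orderOf k).Prime) (hK : Nontrivial K) (v : V) :
    v ^ (((Finset.univ.erase (1 : K)).image fun k => zpowers k).card - 1) = 1 := by
  classical
  have hsub : ∀ (Z : Subgroup K), (∃ z ∈ Z, z ≠ 1) →
      (∏ k ∈ Finset.univ.filter (· ∈ Z), φ k v) = 1 := by
    intro Z hZ
    obtain ⟨z, hzZ, hz1⟩ := hZ
    apply hfpf z hz1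
    rw [map_prod]
    refine Finset.prod_bij' (fun k _ => z * k) (fun k _ => z⁻¹ * k) ?_ ?_ ?_ ?_ ?_
    · intro k hk
      simp only [Finset.mem_filter, Finset.mem_univ, true_and] at hk ⊢
      exact Z.mul_mem hzZ hk
    · intro k hk
      simp only [Finset.mem_filter, Finset.mem_univ, true_and] at hk ⊢
      exact Z.mul_mem (Z.inv_mem hzZ) hk
    · intro k _; simp
    · intro k _; simp
    · intro k _; rw [map_mul, MulAut.mul_apply]
  obtain ⟨k₀, hk₀⟩ := exists_ne (1 : K)
  have htot : ∏ k ∈ Finset.univ.erase (1 : K), φ k v = v⁻¹ := by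
    have h := hsub ⊤ ⟨k₀, mem_top _, hk₀⟩
    simp only [mem_top, Finset.filter_true] at h
    rw [← Finset.mul_prod_erase _ _ (Finset.mem_univ (1 : K)), map_one, MulAut.one_apply] at h
    exact eq_inv_of_mul_eq_one_right h
  set I := (Finset.univ.erase (1 : K)).image fun k => zpowers k
  have hfib : ∀ Z ∈ I, ∏ k ∈ (Finset.univ.erase (1 : K)).filter (fun k => zpowers k = Z), φ k v = v⁻¹ := by
    intro Z hZ
    obtain ⟨x, hx, rfl⟩ := Finset.mem_image.1 hZ
    have hx1 := (Finset.mem_erase.1 hx).1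
    have hset : (Finset.univ.erase (1 : K)).filter (fun k => zpowers k = zpowers x) =
        (Finset.univ.filter (· ∈ zpowers x)).erase 1 := by
      ext k
      simp only [Finset.mem_filter, Finset.mem_erase, Finset.mem_univ, and_true, true_and]
      refine and_congr_right fun hk => ⟨fun e => e ▸ mem_zpowers k, fun hk' => ?_⟩
      have : Fact (orderOf x).Prime := ⟨hprime x hx1⟩
      have hd : orderOf k ∣ orderOf x := orderOf_dvd_of_mem_zpowers hk'
      refine eq_of_le_of_card_ge (zpowers_le.2 hk') ?_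
      rw [Nat.card_zpowers, Nat.card_zpowers]
      exact le_of_eq ((Nat.prime_dvd_prime_iff_eq (hprime k hk) (hprime x hx1)).1 hd).symm
    rw [hset]
    have h := hsub (zpowers x) ⟨x, mem_zpowers x, hx1⟩
    rw [← Finset.mul_prod_erase _ _ (show (1 : K) ∈ Finset.univ.filter (· ∈ zpowers x) by simp [one_mem]),
      map_one, MulAut.one_apply] at h
    exact eq_inv_of_mul_eq_one_right h
  have hgrp := Finset.prod_fiberwise_of_maps_to (s := Finset.univ.erase (1 : K)) (t := I)
    (g := fun k => zpowers k) (fun k hk => Finset.mem_image_of_mem _ hk) (fun k => φ k v)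
  rw [Finset.prod_congr rfl hfib, Finset.prod_const, htot, inv_pow, inv_inj] at hgrp
  have hI : 1 ≤ I.card := Finset.card_pos.2 ⟨zpowers k₀, Finset.mem_image.2 ⟨k₀, by simp [hk₀], rfl⟩⟩
  have : v ^ (I.card - 1) * v = v := by rw [← pow_succ, Nat.sub_add_cancel hI, hgrp]
  simpa using this

/-- A group of order `s ^ 2` and exponent `s` acts fixed-point-freely on no nontrivial `p`-group. -/
theorem eq_one_of_fpf_elementary {K : Type*} {V : Type*} [Group K] [Finite K] [CommGroup V]
    {p s : ℕ} (hp : p.Prime) (hs : s.Prime) (hsp : s ≠ p) (hcard : Nat.card K = s * s)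
    (hexp : ∀ k : K, k ^ s = 1) (hV : IsPGroup p V) (φ : K →* MulAut V)
    (hfpf : ∀ k : K, k ≠ 1 → ∀ v, φ k v = v → v = 1) (v : V) : v = 1 := by
  classical
  have := Fintype.ofFinite K
  have hord : ∀ k : K, k ≠ 1 → orderOf k = s := fun k hk => by
    have := Fact.mk hs
    exact orderOf_eq_prime (hexp k) hk
  have hnt : Nontrivial K := Finite.one_lt_card_iff_nontrivial.1 (by
    rw [hcard]; have := hs.two_le; nlinarith)
  have hv := pow_sub_one_eq_one φ hfpf (fun k hk => hord k hk ▸ hs) hnt v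
  set I := (Finset.univ.erase (1 : K)).image fun k => zpowers k
  have hsum : (Finset.univ.erase (1 : K)).card = I.card * (s - 1) := by
    rw [Finset.card_eq_sum_card_image (fun k : K => zpowers k) (Finset.univ.erase (1 : K))]
    refine Finset.sum_const_nat fun Z hZ => ?_
    obtain ⟨x, hx, rfl⟩ := Finset.mem_image.1 hZ
    have hx1 := (Finset.mem_erase.1 hx).1
    have hset : (Finset.univ.erase (1 : K)).filter (fun k => zpowers k = zpowers x) =
        (Finset.univ.filter (· ∈ zpowers x)).erase 1 := by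
      ext k
      simp only [Finset.mem_filter, Finset.mem_erase, Finset.mem_univ, and_true, true_and]
      refine and_congr_right fun hk => ⟨fun e => e ▸ mem_zpowers k, fun hk' => ?_⟩
      refine eq_of_le_of_card_ge (zpowers_le.2 hk') ?_
      rw [Nat.card_zpowers, Nat.card_zpowers, hord k hk, hord x hx1]
    rw [hset, Finset.card_erase_of_mem (by simp [one_mem]), ← Fintype.card_subtype,
      ← Nat.card_eq_fintype_card]
    exact congrArg (· - 1) ((Nat.card_zpowers x).trans (hord x hx1))
  rw [Finset.card_erase_of_mem (Finset.mem_univ _), Finset.card_univ, ← Nat.card_eq_fintype_card,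
    hcard] at hsum
  have hI : I.card = s + 1 := by
    have h2 := hs.two_le
    apply Nat.eq_of_mul_eq_mul_right (show 0 < s - 1 by omega)
    rw [← hsum]
    obtain ⟨t, rfl⟩ : ∃ t, s = t + 2 := ⟨s - 2, by omega⟩
    simp only [Nat.add_sub_cancel, show t + 2 - 1 = t + 1 by omega]
    have : (t + 2) * (t + 2) = (t + 2 + 1) * (t + 1) + 1 := by ring
    omega
  rw [hI, Nat.add_sub_cancel] at hv
  have := Fact.mk hp
  obtain ⟨k, hk⟩ := IsPGroup.iff_orderOf.1 hV v
  refine orderOf_eq_one_iff.1 (Nat.eq_one_of_dvd_coprimes ?_ (orderOf_dvd_of_pow_eq_one hv) hk.dvd)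
  exact ((Nat.coprime_primes hs hp).2 hsp).pow_right k

/-- A nonabelian group of order `q * r` in which every element has prime order. -/
theorem eq_one_of_fpf_frobenius {K : Type*} {V : Type*} [Group K] [Finite K] [CommGroup V]
    {p q r : ℕ} (hp : p.Prime) (hq : q.Prime) (hr : r.Prime) (hqr : q ≠ r) (hqp : q ≠ p)
    (hcard : Nat.card K = q * r) (C : Subgroup K) [C.Normal] (hC : Nat.card C = q)
    (hprime : ∀ k : K, k ≠ 1 → orderOf k ≠ q * r) (hV : IsPGroup p V) (φ : K →* MulAut V)
    (hfpf : ∀ k : K, k ≠ 1 → ∀ v, φ k v = v → v = 1) (v : V) : v = 1 := by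
  classical
  have := Fintype.ofFinite K
  have hordC : ∀ k : K, k ∈ C → k ≠ 1 → orderOf k = q := fun k hk hk1 => by
    have h := _root_.orderOf_dvd_natCard (⟨k, hk⟩ : C)
    rw [Subgroup.orderOf_mk, hC] at h
    exact ((Nat.dvd_prime hq).1 h).resolve_left (fun e => hk1 (orderOf_eq_one_iff.1 e))
  have hordO : ∀ k : K, k ∉ C → orderOf k = r := fun k hk => by
    have hd : orderOf k ∣ q * r := hcard ▸ _root_.orderOf_dvd_natCard k
    have hk1 : k ≠ 1 := fun e => hk (e ▸ one_mem _)
    have hmk : (k : K ⧸ C) ≠ 1 := fun e => hk ((QuotientGroup.eq_one_iff _).1 e)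
    have hidx : Nat.card (K ⧸ C) = r := by
      have := C.card_mul_index
      rw [hC, hcard, Subgroup.index_eq_card] at this
      exact Nat.eq_of_mul_eq_mul_left hq.pos this
    have hrk : r ∣ orderOf k := by
      have h1 : orderOf (k : K ⧸ C) ∣ r := hidx ▸ _root_.orderOf_dvd_natCard _
      rcases (Nat.dvd_prime hr).1 h1 with h | h
      · exact absurd (orderOf_eq_one_iff.1 h) hmk
      · exact h ▸ orderOf_map_dvd (QuotientGroup.mk' C) k
    obtain ⟨m, hm⟩ := hrk
    rw [hm, mul_comm q r] at hd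
    rcases (Nat.dvd_prime hq).1 (Nat.dvd_of_mul_dvd_mul_left hr.pos hd) with rfl | rfl
    · rw [hm, mul_one]
    · exact absurd (hm.trans (mul_comm r m)) (hprime k hk1)
  have hpr : ∀ k : K, k ≠ 1 → (orderOf k).Prime := fun k hk => by
    by_cases hC' : k ∈ C
    · rw [hordC k hC' hk]; exact hq
    · rw [hordO k hC']; exact hr
  have hnt : Nontrivial K := Finite.one_lt_card_iff_nontrivial.1 (by
    rw [hcard]; have := hq.two_le; have := hr.two_le; nlinarith)
  have hv := pow_sub_one_eq_one φ hfpf hpr hnt v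
  set S := Finset.univ.erase (1 : K) with hS
  set I := S.image fun k => zpowers k with hI0
  have hfib : ∀ Z ∈ I, (S.filter fun k => zpowers k = Z).card = if Z = C then q - 1 else r - 1 := by
    intro Z hZ
    obtain ⟨x, hx, rfl⟩ := Finset.mem_image.1 hZ
    have hx1 := (Finset.mem_erase.1 hx).1
    have hset : S.filter (fun k => zpowers k = zpowers x) =
        (Finset.univ.filter (· ∈ zpowers x)).erase 1 := by
      ext k
      simp only [hS, Finset.mem_filter, Finset.mem_erase, Finset.mem_univ, and_true, true_and]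
      refine and_congr_right fun hk => ⟨fun e => e ▸ mem_zpowers k, fun hk' => ?_⟩
      refine eq_of_le_of_card_ge (zpowers_le.2 hk') ?_
      rw [Nat.card_zpowers, Nat.card_zpowers]
      exact le_of_eq ((Nat.prime_dvd_prime_iff_eq (hpr k hk) (hpr x hx1)).1
        (orderOf_dvd_of_mem_zpowers hk')).symm
    rw [hset, Finset.card_erase_of_mem (by simp [one_mem]), ← Fintype.card_subtype,
      ← Nat.card_eq_fintype_card]
    rw [show Nat.card {k : K // k ∈ zpowers x} = orderOf x from Nat.card_zpowers x]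
    split
    · next h => rw [hordC x (h ▸ mem_zpowers x) hx1]
    · next h =>
      rw [hordO x fun hxC => h (eq_of_le_of_card_ge (zpowers_le.2 hxC) (by
        rw [hC, Nat.card_zpowers, hordC x hxC hx1]))]
  have hsum : S.card = ∑ Z ∈ I, if Z = C then q - 1 else r - 1 := by
    rw [hI0, Finset.card_eq_sum_card_image (fun k : K => zpowers k) S]
    exact Finset.sum_congr rfl hfib
  have hCmem : C ∈ I := by
    obtain ⟨⟨c, hc⟩, hc1⟩ := exists_prime_orderOf_dvd_card' (G := C) (hp := ⟨hq⟩) q (dvd_of_eq hC.symm)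
    rw [Subgroup.orderOf_mk] at hc1
    refine Finset.mem_image.2 ⟨c, Finset.mem_erase.2 ⟨fun e => ?_, Finset.mem_univ _⟩, ?_⟩
    · rw [e, orderOf_one] at hc1; exact hq.ne_one hc1.symm
    · exact eq_of_le_of_card_ge (zpowers_le.2 hc) (by rw [hC, Nat.card_zpowers, hc1])
  rw [← Finset.add_sum_erase I _ hCmem, if_pos rfl, Finset.sum_congr rfl (g := fun _ => r - 1)
    (fun Z hZ => if_neg (Finset.mem_erase.1 hZ).1), Finset.sum_const, smul_eq_mul,
    hS, Finset.card_erase_of_mem (Finset.mem_univ _), Finset.card_univ,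
    ← Nat.card_eq_fintype_card, hcard, Finset.card_erase_of_mem hCmem] at hsum
  have hI : I.card - 1 = q := by
    have h2 := hr.two_le
    have h3 := hq.two_le
    apply Nat.eq_of_mul_eq_mul_right (show 0 < r - 1 by omega)
    rw [Nat.mul_sub q r 1, mul_one]
    omega
  rw [hI] at hv
  have := Fact.mk hp
  obtain ⟨k, hk⟩ := IsPGroup.iff_orderOf.1 hV v
  refine orderOf_eq_one_iff.1 (Nat.eq_one_of_dvd_coprimes ?_ (orderOf_dvd_of_pow_eq_one hv) hk.dvd)
  exact ((Nat.coprime_primes hq hp).2 hqp).pow_right k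

/-- Commuting elements of order `s` in a group acting fixed-point-freely. -/
theorem uniqueOrd_of_fpf {Y : Type*} [Group Y] [Finite Y] {V : Type*} [CommGroup V] [Nontrivial V]
    {p s : ℕ} (hp : p.Prime) (hs : s.Prime) (hsp : s ≠ p) (hV : IsPGroup p V) (φ : Y →* MulAut V)
    (hfpf : ∀ k : Y, orderOf k = s → ∀ v, φ k v = v → v = 1) : UniqueOrd Y s := by
  intro x z hx hz hc
  by_contra hmem
  have hcp : ∀ (a : zpowers x) (b : zpowers z), Commute ((zpowers x).subtype a) ((zpowers z).subtype b) := by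
    rintro ⟨_, i, rfl⟩ ⟨_, j, rfl⟩
    exact hc.zpow_zpow i j
  let f : zpowers x × zpowers z →* Y := MonoidHom.noncommCoprod _ _ hcp
  have hinj : Function.Injective f := by
    rw [injective_iff_map_eq_one]
    rintro ⟨⟨a, ha⟩, ⟨b, hb⟩⟩ hab
    have hab' : a * b = 1 := hab
    have hbx : b ∈ zpowers x := by rw [eq_inv_of_mul_eq_one_right hab']; exact inv_mem ha
    have hb1 : b = 1 := by
      by_contra hb1
      have : Fact s.Prime := ⟨hs⟩
      have hzb : z ∈ zpowers b := by
        have hle : zpowers b ≤ zpowers z := zpowers_le.2 hb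
        have hd : orderOf b ∣ s := hz ▸ orderOf_dvd_of_mem_zpowers hb
        rw [eq_of_le_of_card_ge hle (by
          rw [Nat.card_zpowers, Nat.card_zpowers, hz,
            ((Nat.dvd_prime hs).1 hd).resolve_left fun e => hb1 (orderOf_eq_one_iff.1 e)])]
        exact mem_zpowers z
      exact hmem (zpowers_le.2 hbx hzb)
    subst hb1
    rw [mul_one] at hab'
    subst hab'
    rfl
  obtain ⟨v, hv⟩ := exists_ne (1 : V)
  refine hv (eq_one_of_fpf_elementary hp hs hsp (by rw [Nat.card_prod, Nat.card_zpowers, Nat.card_zpowers, hx, hz])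
    (fun k => ?_) hV (φ.comp f) (fun k hk => hfpf (f k) ?_) v)
  · refine Prod.ext ?_ ?_
    · have h := pow_card_eq_one' (x := k.1)
      rw [Nat.card_zpowers, hx] at h
      exact h
    · have h := pow_card_eq_one' (x := k.2)
      rw [Nat.card_zpowers, hz] at h
      exact h
  · have : Fact s.Prime := ⟨hs⟩
    refine orderOf_eq_prime ?_ fun e => hk (hinj (by rw [e, map_one]))
    rw [← map_pow]
    have h1 := pow_card_eq_one' (x := k.1)
    have h2 := pow_card_eq_one' (x := k.2)
    rw [Nat.card_zpowers, hx] at h1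
    rw [Nat.card_zpowers, hz] at h2
    rw [show k ^ s = 1 from Prod.ext h1 h2, map_one]

/-- An EPPO group acts by conjugation fixed-point-freely, away from `p`, on an abelian normal
`p`-subgroup centralized by `W`. -/
theorem exists_action (h : EPPO X) {p : ℕ} (hp : p.Prime) (W V : Subgroup X) [W.Normal] [V.Normal]
    (hV : IsPGroup p V) (hWV : ∀ w ∈ W, ∀ v ∈ V, w * v = v * w) :
    ∃ φ : X ⧸ W →* MulAut V, ∀ (k : X ⧸ W) (s : ℕ), s.Prime → s ≠ p → s ∣ orderOf k →
      ∀ v, φ k v = v → v = 1 := by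
  have hker : W ≤ (MulAut.conjNormal : X →* MulAut V).ker := fun w hw => by
    rw [MonoidHom.mem_ker]
    refine MulEquiv.ext fun v => Subtype.ext ?_
    rw [MulAut.conjNormal_apply, MulAut.one_apply, hWV w hw v v.2, mul_inv_cancel_right]
  refine ⟨QuotientGroup.lift W MulAut.conjNormal hker, fun k s hs hsp hsk v hv => ?_⟩
  obtain ⟨x, rfl⟩ := QuotientGroup.mk_surjective k
  rw [QuotientGroup.lift_mk] at hv
  have hc : x * v * x⁻¹ = (v : X) := by rw [← MulAut.conjNormal_apply]; exact congrArg Subtype.val hv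
  by_contra hv1
  have hsx : s ∣ orderOf x := hsk.trans (orderOf_map_dvd (QuotientGroup.mk' W) x)
  have hx1 : x ≠ 1 := by rintro rfl; rw [orderOf_one, Nat.dvd_one] at hsx; exact hs.ne_one hsx
  obtain ⟨t, i, ht, hi, hxi⟩ := (isPrimePow_nat_iff _).1 (h x hx1)
  have := Fact.mk hp
  obtain ⟨j, hj⟩ := IsPGroup.iff_orderOf.1 hV v
  rw [← Subgroup.orderOf_coe] at hj
  have hj0 : j ≠ 0 := by
    rintro rfl
    rw [pow_zero, orderOf_eq_one_iff] at hj
    exact hv1 (Subtype.ext hj)
  have hts : t = s := h.eq_prime ht hs (hxi ▸ dvd_pow_self t hi.ne') hsx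
  exact h.no_commute ht hp (hts ▸ hsp) hxi.symm hi.ne' hj hj0 (mul_inv_eq_iff_eq_mul.1 hc)

/-- An EPPO group without two independent commuting elements of equal prime order is solvable. -/
theorem solvable_of_uniqueOrd (h : EPPO X) (hu : ∀ s, s.Prime → UniqueOrd X s) :
    Group.IsSolvable X := by
  have huniq : ∀ (s : ℕ) [Fact s.Prime] (P : Sylow s X) (A B : Subgroup P),
      Nat.card A = s → Nat.card B = s → A = B := by
    intro s hs P A B hA hB
    have hnt : Nontrivial P := by
      refine Finite.one_lt_card_iff_nontrivial.1 (lt_of_lt_of_le hs.out.one_lt ?_)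
      exact hA.symm.le.trans A.card_le_card_group
    have := P.isPGroup'.center_nontrivial
    obtain ⟨k, hk0, hk⟩ := (P.isPGroup'.to_subgroup (center P)).nontrivial_iff_card.1 this
    obtain ⟨c, hc⟩ := exists_prime_orderOf_dvd_card' (G := center P) s (hk ▸ dvd_pow_self s hk0.ne')
    have key : ∀ A : Subgroup P, Nat.card A = s → A = zpowers (c : P) := by
      intro A hA
      have hco : orderOf (c : P) = s := (Subgroup.orderOf_coe c).trans hc
      obtain ⟨a, ha⟩ := exists_prime_orderOf_dvd_card' (G := A) s (dvd_of_eq hA.symm)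
      rw [← Subgroup.orderOf_coe] at ha
      have hAz : A = zpowers (a : P) := (eq_of_le_of_card_ge (zpowers_le.2 a.2)
        (le_of_eq (hA.trans ((Nat.card_zpowers (a : P)).trans ha).symm))).symm
      have hmem := hu s hs.out (((c : P)) : X) ((a : P) : X) ((Subgroup.orderOf_coe _).trans hco)
        ((Subgroup.orderOf_coe _).trans ha) (congrArg Subtype.val (mem_center_iff.1 c.2 a)).symm
      obtain ⟨i, hi⟩ := mem_zpowers_iff.1 hmem
      have hle : zpowers (a : P) ≤ zpowers (c : P) :=
        zpowers_le.2 (mem_zpowers_iff.2 ⟨i, Subtype.ext (by simpa using hi)⟩)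
      rw [hAz]
      exact eq_of_le_of_card_ge hle (le_of_eq (((Nat.card_zpowers (c : P)).trans hco).trans
        ((Nat.card_zpowers (a : P)).trans ha).symm))
    rw [key A hA, key B hB]
  have h2 : Fact (Nat.Prime 2) := ⟨Nat.prime_two⟩
  by_cases heven : 2 ∣ Nat.card X
  · let P : Sylow 2 X := default
    obtain ⟨z₀, hz₀⟩ := exists_prime_orderOf_dvd_card' (G := P) 2 (P.dvd_card_of_dvd_card heven)
    set z : X := (z₀ : X)
    have hz : orderOf z = 2 := (Subgroup.orderOf_coe z₀).trans hz₀
    have hiso : Cfsg.IsIsolatedInvolution z := by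
      refine Cfsg.Agent.Invol.isolated_of_sylow P hz fun g hg => ?_
      have ho : orderOf (⟨g * z * g⁻¹, hg⟩ : (P : Subgroup X)) = 2 := by
        rw [Subgroup.orderOf_mk, ← hz]
        exact (SemiconjBy.orderOf_eq g (by simp [SemiconjBy] : SemiconjBy g z (g * z * g⁻¹))).symm
      have he := huniq 2 P (zpowers (⟨g * z * g⁻¹, hg⟩ : (P : Subgroup X))) (zpowers z₀)
        ((Nat.card_zpowers _).trans ho) ((Nat.card_zpowers _).trans hz₀)
      obtain ⟨i, hi⟩ := mem_zpowers_iff.1 (he ▸ mem_zpowers (⟨g * z * g⁻¹, hg⟩ : (P : Subgroup X)))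
      rw [← zpow_mod_orderOf, hz₀] at hi
      rcases Int.emod_two_eq_zero_or_one i with h0 | h0
      · simp only [Nat.cast_ofNat, h0, zpow_zero] at hi
        rw [← hi, orderOf_one] at ho
        norm_num at ho
      · simp only [Nat.cast_ofNat, h0, zpow_one] at hi
        exact (congrArg Subtype.val hi).symm
    have hOn : (Cfsg.oddCore X).Normal := Cfsg.Agent.Core.pPrimeCore_normal
    set O := Cfsg.oddCore X
    have hOodd : ∀ y ∈ O, Odd (orderOf y) := fun y hy => by
      refine Nat.odd_iff.2 (Nat.two_dvd_ne_zero.1 fun hd => Cfsg.Agent.Core.not_dvd_card_pPrimeCore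
        (p := 2) (G := X) (hd.trans ?_))
      exact (Subgroup.orderOf_mk y hy).symm.dvd.trans (_root_.orderOf_dvd_natCard (⟨y, hy⟩ : O))
    have hzO : z ∉ O := fun hzO => by
      have := hOodd z hzO
      rw [hz] at this
      exact absurd this (by decide)
    -- the quotient is a `2`-group
    have hQ : IsPGroup 2 (X ⧸ O) := by
      intro a
      have hc : Commute (z : X ⧸ O) a := by
        obtain ⟨g, rfl⟩ := QuotientGroup.mk_surjective a
        have h1 := (QuotientGroup.eq_one_iff (N := O) _).2 (Cfsg.Agent.Invol.zstar hiso g)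
        simp only [QuotientGroup.mk_mul, QuotientGroup.mk_inv] at h1
        exact mul_inv_eq_iff_eq_mul.1 (mul_inv_eq_one.1 h1)
      by_contra hna
      push Not at hna
      have ha1 : a ≠ 1 := fun e => hna 0 (by simp [e])
      obtain ⟨t, i, ht, hi, hai⟩ := (isPrimePow_nat_iff _).1 (h.quotient O a ha1)
      have hz1 : orderOf (z : X ⧸ O) = 2 := by
        refine orderOf_eq_prime ?_ fun e => hzO ((QuotientGroup.eq_one_iff _).1 e)
        rw [← QuotientGroup.mk_pow, ← hz, pow_orderOf_eq_one, QuotientGroup.mk_one]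
      refine (h.quotient O).no_commute Nat.prime_two ht (fun e => hna i ?_) (i := 1)
        (by rw [hz1, pow_one]) one_ne_zero hai.symm hi.ne' hc
      rw [e, hai, pow_orderOf_eq_one]
    -- the odd core is abelian
    have hOc : ∀ a b : O, a * b = b * a := by
      let ψ : O →* O := (MulAut.conjNormal z : MulAut O).toMonoidHom
      have hψ : ∀ y : O, ((ψ y : O) : X) = z * y * z⁻¹ := fun y => MulAut.conjNormal_apply z y
      have hz2 : z * z = 1 := by rw [← sq, ← hz, pow_orderOf_eq_one]
      have hinvol : Function.Involutive ψ := fun y => Subtype.ext (by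
        rw [hψ, hψ, inv_eq_of_mul_eq_one_right hz2,
          show z * (z * (y : X) * z) * z = (z * z) * y * (z * z) by group, hz2, one_mul, mul_one])
      have hfpf : MonoidHom.FixedPointFree ψ := by
        intro y hy
        by_contra hy1
        have hyc : z * (y : X) * z⁻¹ = y := by rw [← hψ, hy]
        have hy1' : (y : X) ≠ 1 := fun e => hy1 (Subtype.ext e)
        obtain ⟨t, i, ht, hi, hyi⟩ := (isPrimePow_nat_iff _).1 (h y hy1')
        refine h.no_commute Nat.prime_two ht (fun e => ?_) (i := 1)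
          (by rw [hz, pow_one]) one_ne_zero hyi.symm hi.ne' (mul_inv_eq_iff_eq_mul.1 hyc)
        have := hOodd y y.2
        rw [← hyi, ← e] at this
        exact absurd ((Nat.odd_pow_iff hi.ne').1 this) (by decide)
      exact fun a b => hfpf.commute_all_of_involutive hinvol a b
    have : Group.IsSolvable O := Group.isSolvable_of_comm hOc
    have : Group.IsSolvable (X ⧸ O) := by
      have := hQ.isNilpotent
      infer_instance
    exact Group.isSolvable_of_ker_le_range O.subtype (QuotientGroup.mk' O)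
      (by rw [QuotientGroup.ker_mk', Subgroup.range_subtype])
  · have : IsZGroup X := ⟨fun s hs P => by
      have := Fact.mk hs
      rcases Cfsg.Agent.Fusion.cyclic_or_quaternion_of_unique P.isPGroup' (huniq s P) with hc | ⟨rfl, k, hk, ⟨e⟩⟩
      · exact hc
      · exfalso
        refine heven ((dvd_trans ?_ (P : Subgroup X).card_subgroup_dvd_card))
        rw [Nat.card_congr e.toEquiv]
        have : NeZero (2 ^ k) := ⟨by positivity⟩
        rw [Nat.card_eq_fintype_card, QuaternionGroup.card]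
        exact dvd_mul_of_dvd_left (by norm_num) _⟩
    infer_instance

/-- A nontrivial finite solvable group has a nontrivial normal abelian `s`-subgroup inside any
given nontrivial normal subgroup. -/
theorem exists_normal_abelian_pGroup (N : Subgroup X) [N.Normal] (hN : N ≠ ⊥)
    (hs : Group.IsSolvable N) :
    ∃ (s : ℕ) (A : Subgroup X), s.Prime ∧ A.Normal ∧ IsMulCommutative A ∧ A ≤ N ∧ A ≠ ⊥ ∧
      ∀ a ∈ A, a ^ s = 1 := by
  obtain ⟨M, hMn, hMc, hMN, hM⟩ := Cfsg.Agent.Coprime.exists_minimal_normal_abelian N hN hs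
  obtain ⟨s, hsp, hsM⟩ := Nat.exists_prime_and_dvd (fun h => hM (card_eq_one.1 h) : Nat.card M ≠ 1)
  have := Fact.mk hsp
  let A : Subgroup X :=
    { carrier := {x | x ∈ M ∧ x ^ s = 1}
      one_mem' := ⟨one_mem _, one_pow _⟩
      mul_mem' := fun {a b} ha hb => ⟨mul_mem ha.1 hb.1, by
        rw [(show Commute a b from congrArg Subtype.val (hMc.is_comm.comm (⟨a, ha.1⟩ : M) ⟨b, hb.1⟩)).mul_pow,
          ha.2, hb.2, one_mul]⟩
      inv_mem' := fun {a} ha => ⟨inv_mem ha.1, by rw [inv_pow, ha.2, inv_one]⟩ }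
  refine ⟨s, A, hsp, ⟨fun a ha g => ⟨hMn.conj_mem a ha.1 g, by rw [conj_pow, ha.2, mul_one, mul_inv_cancel]⟩⟩,
    ⟨⟨fun a b => Subtype.ext (congrArg Subtype.val (hMc.is_comm.comm (⟨a, a.2.1⟩ : M) ⟨b, b.2.1⟩) : _)⟩⟩,
    fun a ha => hMN ha.1, fun hbot => ?_, fun a ha => ha.2⟩
  obtain ⟨a, ha⟩ := exists_prime_orderOf_dvd_card' (G := M) s hsM
  rw [← Subgroup.orderOf_coe] at ha
  have : (a : X) ∈ A := ⟨a.2, ha ▸ pow_orderOf_eq_one _⟩
  rw [hbot, mem_bot] at this
  rw [this, orderOf_one] at ha
  exact hsp.ne_one ha.symm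

/-- The quotient data attached to a nontrivial `p`-core. -/
theorem exists_core_action (h : EPPO X) {p : ℕ} [Fact p.Prime] (hW : Cfsg.pCore p X ≠ ⊥) :
    ∃ (V : Subgroup X) (hVn : V.Normal) (_ : IsMulCommutative V) (φ : X ⧸ Cfsg.pCore p X →* MulAut V),
      IsPGroup p V ∧ Nontrivial V ∧ ∀ (k : X ⧸ Cfsg.pCore p X) (s : ℕ), s.Prime → s ≠ p →
        s ∣ orderOf k → ∀ v, φ k v = v → v = 1 := by
  set W := Cfsg.pCore p X
  have hWp : IsPGroup p W := Cfsg.Agent.Core.pCore_isPGroup
  set V : Subgroup X := (center W).map W.subtype with hVdef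
  have hVn : V.Normal := by rw [hVdef]; exact ConjAct.normal_of_characteristic_of_normal
  have hVc : IsMulCommutative V := ⟨⟨fun a b => by
    obtain ⟨a', ha', hae⟩ := a.2
    obtain ⟨b', -, hbe⟩ := b.2
    refine Subtype.ext ?_
    rw [Subgroup.coe_mul, Subgroup.coe_mul, ← hae, ← hbe, ← map_mul, ← map_mul, mem_center_iff.1 ha' b']⟩⟩
  have hVp : IsPGroup p V := (hWp.to_subgroup (center W)).map _
  have hWnt : Nontrivial W := (nontrivial_iff_ne_bot W).2 hW
  have hVnt : Nontrivial V := by
    have := hWp.center_nontrivial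
    exact (equivMapOfInjective (center W) _ W.subtype_injective).toEquiv.symm.nontrivial
  obtain ⟨φ, hφ⟩ := exists_action h (Fact.out (p := p.Prime)) W V hVp (fun w hw v hv => by
    obtain ⟨v', hv', rfl⟩ := hv
    exact congrArg Subtype.val (mem_center_iff.1 hv' ⟨w, hw⟩))
  exact ⟨V, hVn, hVc, φ, hVp, hVnt, hφ⟩

theorem radical_isPGroup (h : EPPO X) (hns : ¬ Group.IsSolvable X) (R : Subgroup X) [R.Normal]
    (hR : Group.IsSolvable R) : ∃ p : ℕ, p.Prime ∧ IsPGroup p R := by
  rcases eq_or_ne R ⊥ with rfl | hRb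
  · exact ⟨2, Nat.prime_two, IsPGroup.of_bot⟩
  obtain ⟨p, A, hp, hAn, -, -, hAb, hAp⟩ := exists_normal_abelian_pGroup R hRb hR
  have := Fact.mk hp
  refine ⟨p, hp, ?_⟩
  have hAW : A ≤ Cfsg.pCore p X :=
    Cfsg.Agent.Core.le_pCore fun a => ⟨1, Subtype.ext (by simpa using hAp a a.2)⟩
  have hWb : Cfsg.pCore p X ≠ ⊥ := fun e => hAb (le_bot_iff.1 (e ▸ hAW))
  by_cases hRW : R ≤ Cfsg.pCore p X
  · exact Cfsg.Agent.Core.pCore_isPGroup.to_le hRW
  exfalso
  set W := Cfsg.pCore p X with hWdef
  have hQe : EPPO (X ⧸ W) := h.quotient W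
  have hRn : (R.map (QuotientGroup.mk' W)).Normal :=
    Subgroup.Normal.map inferInstance _ (QuotientGroup.mk'_surjective _)
  have hRb' : R.map (QuotientGroup.mk' W) ≠ ⊥ := by
    rw [Ne, Subgroup.map_eq_bot_iff, QuotientGroup.ker_mk']
    exact hRW
  have hRs : Group.IsSolvable (R.map (QuotientGroup.mk' W)) :=
    Group.isSolvable_of_surjective (f := (QuotientGroup.mk' W).subgroupMap R)
      ((QuotientGroup.mk' W).subgroupMap_surjective R)
  obtain ⟨q, B, hq, hBn, hBc, -, hBb, hBq⟩ :=
    exists_normal_abelian_pGroup (R.map (QuotientGroup.mk' W)) hRb' hRs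
  have := Fact.mk hq
  have hBqp : IsPGroup q B := fun b => ⟨1, Subtype.ext (by simpa using hBq b b.2)⟩
  have hqp : q ≠ p := by
    rintro rfl
    exact hBb (le_bot_iff.1 ((Cfsg.Agent.Core.le_pCore hBqp).trans
      Cfsg.Agent.Core.pCore_quotient_eq_bot.le))
  obtain ⟨V, hVn, hVc, φ, hVp, hVnt, hφ⟩ := exists_core_action h hWb
  have := hVc
  have := hBc
  have := hBn
  obtain ⟨ψ, hψ⟩ := exists_action hQe hq (⊥ : Subgroup (X ⧸ W)) B hBqp (fun w hw v _ => by
    rw [mem_bot] at hw; rw [hw, one_mul, mul_one])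
  have hBnt : Nontrivial B := (nontrivial_iff_ne_bot B).2 hBb
  have hu : ∀ s, s.Prime → UniqueOrd (X ⧸ W) s := by
    intro s hs
    rcases eq_or_ne s p with hsp | hsp
    · letI : CommGroup B := { (inferInstance : Group B) with mul_comm := hBc.is_comm.comm }
      exact uniqueOrd_of_fpf hq hs (hsp ▸ hqp.symm) hBqp (ψ.comp (QuotientGroup.mk' ⊥))
        fun k hk v hv => hψ _ s hs (hsp ▸ hqp.symm) (by
          have hk1 : orderOf (QuotientGroup.mk' (⊥ : Subgroup (X ⧸ W)) k) = orderOf k :=
            orderOf_injective _ (by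
              rw [← MonoidHom.ker_eq_bot_iff, QuotientGroup.ker_mk']) k
          rw [hk1, hk]) v hv
    · letI : CommGroup V := { (inferInstance : Group V) with mul_comm := hVc.is_comm.comm }
      exact uniqueOrd_of_fpf hp hs hsp hVp φ fun k hk v hv => hφ k s hs hsp (by rw [hk]) v hv
  have : Group.IsSolvable (X ⧸ W) := solvable_of_uniqueOrd hQe hu
  have : Group.IsSolvable W := by
    have := (Cfsg.Agent.Core.pCore_isPGroup (p := p) (G := X)).isNilpotent
    infer_instance
  exact hns (Group.isSolvable_of_ker_le_range W.subtype (QuotientGroup.mk' W)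
    (by rw [QuotientGroup.ker_mk', Subgroup.range_subtype]))

theorem primeFactors_le_two (h : EPPO X) [Group.IsSolvable X] :
    (Nat.card X).primeFactors.card ≤ 2 := by
  classical
  rcases subsingleton_or_nontrivial X with hX | hX
  · simp
  obtain ⟨p, A, hp, hAn, -, -, hAb, hAp⟩ := exists_normal_abelian_pGroup (⊤ : Subgroup X)
    (fun e => by
      have : Nat.card (⊤ : Subgroup X) = 1 := by rw [e]; exact card_bot
      rw [card_top] at this
      exact absurd (Finite.one_lt_card (α := X)) (by omega))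
    (Group.isSolvable_of_surjective (f := (Subgroup.topEquiv (G := X)).symm.toMonoidHom)
      (MulEquiv.surjective _))
  have := Fact.mk hp
  have hAW : A ≤ Cfsg.pCore p X :=
    Cfsg.Agent.Core.le_pCore fun a => ⟨1, Subtype.ext (by simpa using hAp a a.2)⟩
  have hWb : Cfsg.pCore p X ≠ ⊥ := fun e => hAb (le_bot_iff.1 (e ▸ hAW))
  obtain ⟨V, hVn, hVc, φ, hVp, hVnt, hφ⟩ := exists_core_action h hWb
  set W := Cfsg.pCore p X with hWdef
  have hWp : IsPGroup p W := Cfsg.Agent.Core.pCore_isPGroup
  rcases subsingleton_or_nontrivial (X ⧸ W) with hQ | hQ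
  · have htop : W = ⊤ := QuotientGroup.subgroup_eq_top_of_subsingleton W hQ
    obtain ⟨k, hk⟩ := IsPGroup.iff_card.1 hWp
    rw [htop, card_top] at hk
    rw [hk]
    calc (p ^ k).primeFactors.card ≤ ({p} : Finset ℕ).card := Finset.card_le_card (by
          rcases Nat.eq_zero_or_pos k with rfl | hk0
          · simp
          · rw [Nat.primeFactors_prime_pow hk0.ne' hp])
      _ ≤ 2 := by simp
  obtain ⟨q, B, hq, hBn, hBc, -, hBb, hBq⟩ := exists_normal_abelian_pGroup (⊤ : Subgroup (X ⧸ W))
    (fun e => by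
      have : Nat.card (⊤ : Subgroup (X ⧸ W)) = 1 := by rw [e]; exact card_bot
      rw [card_top] at this
      exact absurd (Finite.one_lt_card (α := X ⧸ W)) (by omega))
    (Group.isSolvable_of_surjective (f := (Subgroup.topEquiv (G := X ⧸ W)).symm.toMonoidHom)
      (MulEquiv.surjective _))
  have := Fact.mk hq
  have hqp : q ≠ p := by
    rintro rfl
    exact hBb (le_bot_iff.1 ((Cfsg.Agent.Core.le_pCore (fun b => ⟨1, Subtype.ext (by simpa using hBq b b.2)⟩)).trans
      Cfsg.Agent.Core.pCore_quotient_eq_bot.le))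
  letI : CommGroup V := { (inferInstance : Group V) with mul_comm := hVc.is_comm.comm }
  have hu : UniqueOrd (X ⧸ W) q :=
    uniqueOrd_of_fpf hp hq hqp hVp φ fun k hk v hv => hφ k q hq hqp (by rw [hk]) v hv
  have hBnt : Nontrivial B := (nontrivial_iff_ne_bot B).2 hBb
  obtain ⟨⟨c, hcB⟩, hc⟩ := exists_ne (1 : B)
  have hc1 : c ≠ 1 := fun e => hc (Subtype.ext e)
  have hco : orderOf c = q := orderOf_eq_prime (hBq c hcB) hc1
  have hBz : B = zpowers c := by
    refine le_antisymm (fun b hb => ?_) (zpowers_le.2 hcB)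
    rcases eq_or_ne b 1 with rfl | hb1
    · exact one_mem _
    · exact hu c b hco (orderOf_eq_prime (hBq b hb) hb1)
        (congrArg Subtype.val (hBc.is_comm.comm (⟨c, hcB⟩ : B) ⟨b, hb⟩))
  have hBcard : Nat.card B = q := by rw [hBz, Nat.card_zpowers, hco]
  have hsub : (Nat.card X).primeFactors ⊆ {p, q} := by
    intro r hr
    rw [Finset.mem_insert, Finset.mem_singleton]
    by_contra hne
    push Not at hne
    have hrp := Nat.prime_of_mem_primeFactors hr
    have := Fact.mk hrp
    have hrQ : r ∣ Nat.card (X ⧸ W) := by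
      have hd : r ∣ Nat.card X := Nat.dvd_of_mem_primeFactors hr
      rw [W.card_eq_card_quotient_mul_card_subgroup] at hd
      obtain ⟨k, hk⟩ := IsPGroup.iff_card.1 hWp
      refine (hrp.dvd_mul.1 hd).resolve_right fun hd' => hne.1 ?_
      rw [hk] at hd'
      exact (Nat.prime_dvd_prime_iff_eq hrp hp).1 (hrp.dvd_of_dvd_pow hd')
    obtain ⟨y, hy⟩ := exists_prime_orderOf_dvd_card' r hrQ
    set K : Subgroup (X ⧸ W) := zpowers y ⊔ B
    have hinf : zpowers y ⊓ B = ⊥ := inf_eq_bot_of_coprime (by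
      rw [Nat.card_zpowers, hy, hBcard]; exact (Nat.coprime_primes hrp hq).2 hne.2)
    have hKcard : Nat.card K = q * r := by
      rw [Cfsg.Agent.Core.card_sup_of_inf_eq_bot hinf, Nat.card_zpowers, hy, hBcard, mul_comm]
    obtain ⟨v, hv⟩ := exists_ne (1 : V)
    refine hv (eq_one_of_fpf_frobenius hp hq hrp hne.2.symm hqp hKcard (B.subgroupOf K)
      ((Nat.card_congr (subgroupOfEquivOfLe (le_sup_right : B ≤ K)).toEquiv).trans hBcard)
      (fun k hk ho => ?_) hVp (φ.comp K.subtype) (fun k hk v hv => ?_) v)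
    · rw [← Subgroup.orderOf_coe] at ho
      exact hne.2.symm ((h.quotient W).eq_prime hq hrp (ho ▸ dvd_mul_right q r) (ho ▸ dvd_mul_left r q))
    · have hd : orderOf k ∣ q * r := hKcard ▸ _root_.orderOf_dvd_natCard k
      obtain ⟨s, hs, hsk⟩ := Nat.exists_prime_and_dvd (fun e => hk (orderOf_eq_one_iff.1 e))
      have hs' : s = q ∨ s = r := by
        rcases hs.dvd_mul.1 (hsk.trans hd) with h' | h'
        · exact Or.inl ((Nat.prime_dvd_prime_iff_eq hs hq).1 h')
        · exact Or.inr ((Nat.prime_dvd_prime_iff_eq hs hrp).1 h')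
      refine hφ (k : X ⧸ W) s hs ?_ (by rw [Subgroup.orderOf_coe]; exact hsk) v hv
      rcases hs' with rfl | rfl
      · exact hqp
      · exact hne.1
  exact (Finset.card_le_card hsub).trans Finset.card_le_two

theorem exists_monolith [Nontrivial X] (h : EPPO X)
    (hrad : ∀ N : Subgroup X, N.Normal → Group.IsSolvable N → N = ⊥) :
    ∃ M : Subgroup X, M.Normal ∧ IsSimpleGroup M ∧ ¬ IsMulCommutative M ∧
      ∀ N : Subgroup X, N.Normal → N ≠ ⊥ → M ≤ N := by
  classical
  obtain ⟨M, ⟨hMn, hMb⟩, hmin⟩ := wellFounded_lt.has_min {M : Subgroup X | M.Normal ∧ M ≠ ⊥}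
    ⟨⊤, inferInstance, (nontrivial_iff_ne_bot _).1 inferInstance⟩
  have hMns : ¬ Group.IsSolvable M := fun hs => hMb (hrad M hMn hs)
  -- two commuting sets: the second is a `p`-group
  have key : ∀ A B : Subgroup X, A ≠ ⊥ → (∀ a ∈ A, ∀ b ∈ B, Commute a b) →
      ∃ p : ℕ, p.Prime ∧ IsPGroup p B := by
    intro A B hA hAB
    obtain ⟨⟨a, ha⟩, ha1⟩ := ne_bot_iff_exists_ne_one.1 hA
    have ha1' : a ≠ 1 := fun e => ha1 (Subtype.ext e)
    obtain ⟨p, i, hp, hi, hai⟩ := (isPrimePow_nat_iff _).1 (h a ha1')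
    refine ⟨p, hp, fun b => ?_⟩
    rcases eq_or_ne b 1 with rfl | hb
    · exact ⟨0, by simp⟩
    obtain ⟨t, j, ht, hj, hbj⟩ := (isPrimePow_nat_iff _).1 (h (b : X) fun e => hb (Subtype.ext e))
    rcases eq_or_ne p t with hpt | hpt
    · refine ⟨j, Subtype.ext ?_⟩
      rw [Subgroup.coe_pow, hpt, hbj, pow_orderOf_eq_one, Subgroup.coe_one]
    · exact (h.no_commute hp ht hpt hai.symm hi.ne' hbj.symm hj.ne' (hAB a ha b b.2)).elim
  have hle : ∀ N : Subgroup X, N.Normal → N ≠ ⊥ → M ≤ N := by
    intro N hN hNb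
    by_contra hMN
    have hlt : M ⊓ N < M := lt_of_le_of_ne inf_le_left fun e => hMN (inf_eq_left.1 e)
    have hbot : M ⊓ N = ⊥ := by
      by_contra hne
      exact hmin (M ⊓ N) ⟨inferInstance, hne⟩ hlt
    obtain ⟨p, hp, hMp⟩ := key N M hNb fun a ha b hb =>
      (commute_of_normal_of_disjoint M N hMn hN (disjoint_iff.2 hbot) b a hb ha).symm
    exact hMns (by
      have := Fact.mk hp
      have := hMp.isNilpotent
      infer_instance)
  have hMnt : Nontrivial M := (nontrivial_iff_ne_bot M).2 hMb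
  refine ⟨M, hMn, ?_, fun hc => hMns (Group.isSolvable_of_comm fun a b => hc.is_comm.comm a b), hle⟩
  obtain ⟨S, ⟨hSn, hSb⟩, hSmin⟩ := wellFounded_lt.has_min {S : Subgroup M | S.Normal ∧ S ≠ ⊥}
    ⟨⊤, inferInstance, (nontrivial_iff_ne_bot _).1 inferInstance⟩
  have hStop : S = ⊤ := by
    by_contra hStop
    -- some conjugate of `S` differs from `S`
    obtain ⟨g, hg⟩ : ∃ g : X, S.map (MulAut.conjNormal g : MulAut M).toMonoidHom ≠ S := by
      by_contra hall
      push Not at hall
      have hn : (S.map M.subtype).Normal := ⟨fun y hy g => by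
        obtain ⟨s, hs, rfl⟩ := hy
        refine ⟨MulAut.conjNormal g s, ?_, MulAut.conjNormal_apply g s⟩
        exact (SetLike.ext_iff.1 (hall g) _).1 (mem_map_of_mem _ hs)⟩
      have hne : S.map M.subtype ≠ ⊥ := fun e =>
        hSb ((map_eq_bot_iff_of_injective _ M.subtype_injective).1 e)
      have h1 := hle _ hn hne
      refine hStop (eq_top_iff.2 fun m _ => ?_)
      obtain ⟨s, hs, hsm⟩ := h1 m.2
      exact (M.subtype_injective hsm) ▸ hs
    set T := S.map (MulAut.conjNormal g : MulAut M).toMonoidHom with hT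
    have hTn : T.Normal := hSn.map _ (MulAut.conjNormal g : MulAut M).surjective
    have hTb : T ≠ ⊥ := fun e =>
      hSb ((map_eq_bot_iff_of_injective _ (MulAut.conjNormal g : MulAut M).injective).1 e)
    have hST : S ⊓ T = ⊥ := by
      by_contra hne
      refine hSmin (S ⊓ T) ⟨inferInstance, hne⟩ (lt_of_le_of_ne inf_le_left fun e => hg ?_)
      refine (eq_of_le_of_card_ge (inf_eq_left.1 e) ?_).symm
      exact le_of_eq (Nat.card_congr (equivMapOfInjective S (MulAut.conjNormal g : MulAut M).toMonoidHom (MulAut.conjNormal g : MulAut M).injective).toEquiv).symm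
    obtain ⟨p, hp, hSp⟩ := key (T.map M.subtype) (S.map M.subtype)
      (fun e => hTb ((map_eq_bot_iff_of_injective _ M.subtype_injective).1 e))
      (by
        rintro _ ⟨t, ht, rfl⟩ _ ⟨s, hs, rfl⟩
        exact congrArg Subtype.val
          (commute_of_normal_of_disjoint S T hSn hTn (disjoint_iff.2 hST) s t hs ht).symm)
    have := Fact.mk hp
    have hSp' : IsPGroup p S := hSp.of_equiv (equivMapOfInjective S _ M.subtype_injective).symm
    have hcb : Cfsg.pCore p M ≠ ⊥ := fun e =>
      hSb (le_bot_iff.1 (e ▸ Cfsg.Agent.Core.le_pCore hSp'))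
    have hcn : ((Cfsg.pCore p M).map M.subtype).Normal := ConjAct.normal_of_characteristic_of_normal
    refine hcb ((map_eq_bot_iff_of_injective _ M.subtype_injective).1 (hrad _ hcn ?_))
    have := ((Cfsg.Agent.Core.pCore_isPGroup (p := p) (G := M)).map M.subtype).isNilpotent
    infer_instance
  exact ⟨fun N hN => (eq_or_ne N ⊥).imp id fun hne =>
    (not_lt_iff_le_imp_ge.1 (hSmin N ⟨hN, hne⟩) |> fun h => eq_top_iff.2 (hStop ▸ h (hStop ▸ le_top)))⟩


/-- Let G be a finite non-solvable group in which every element has prime-power order, and let R be its largest solvable normal subgroup. Then R is a p-group for some prime p; G/R has a non-abelian simple normal subgroup contained in every nontrivial normal subgroup of G/R (its unique minimal normal subgroup); and the order of every solvable subgroup of G has at most two prime divisors. -/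
theorem result {G : Type*} [Group G] [Finite G] (hns : ¬ Group.IsSolvable G) (hpp : ∀ g : G, g ≠ 1 → IsPrimePow (orderOf g))
    (R : Subgroup G) [R.Normal] (hRs : Group.IsSolvable ↥R) (hRmax : ∀ N : Subgroup G, N.Normal → Group.IsSolvable ↥N → N ≤ R) :
    (∃ p : ℕ, p.Prime ∧ IsPGroup p ↥R) ∧
      (∃ M : Subgroup (G ⧸ R), M.Normal ∧ IsSimpleGroup ↥M ∧ ¬ IsMulCommutative ↥M ∧
        ∀ N : Subgroup (G ⧸ R), N.Normal → N ≠ ⊥ → M ≤ N) ∧
      ∀ H : Subgroup G, Group.IsSolvable ↥H → (Nat.card ↥H).primeFactors.card ≤ 2 := by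
  classical
  refine ⟨radical_isPGroup hpp hns R hRs, ?_, fun H hH => ?_⟩
  · have hnt : Nontrivial (G ⧸ R) := by
      rcases subsingleton_or_nontrivial (G ⧸ R) with h | h
      · exact absurd (Group.isSolvable_of_surjective
          (f := ((MulEquiv.subgroupCongr (QuotientGroup.subgroup_eq_top_of_subsingleton R h)).trans Subgroup.topEquiv).toMonoidHom)
          (MulEquiv.surjective _)) hns
      · exact h
    refine exists_monolith ((EPPO.quotient hpp R)) fun N hN hs => ?_
    have hsol : Group.IsSolvable (N.comap (QuotientGroup.mk' R)) := by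
      let f : N.comap (QuotientGroup.mk' R) →* N :=
        ((QuotientGroup.mk' R).comp (Subgroup.subtype _)).codRestrict N fun x => x.2
      have hle : R ≤ N.comap (QuotientGroup.mk' R) := fun x hx => by
        rw [Subgroup.mem_comap, QuotientGroup.mk'_apply, (QuotientGroup.eq_one_iff x).2 hx]; exact one_mem _
      refine Group.isSolvable_of_ker_le_range (Subgroup.inclusion hle) f fun x hx => ?_
      have h1 : ((x : G) : G ⧸ R) = 1 := congrArg Subtype.val hx
      exact ⟨⟨x, (QuotientGroup.eq_one_iff _).1 h1⟩, rfl⟩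
    have h1 := hRmax _ (hN.comap _) hsol
    refine le_bot_iff.1 fun q hq => ?_
    obtain ⟨x, rfl⟩ := QuotientGroup.mk_surjective q
    rw [Subgroup.mem_bot, QuotientGroup.eq_one_iff]
    exact h1 hq
  · exact primeFactors_le_two (EPPO.subgroup hpp H)

end Cfsg.Agent.S3992
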