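import Cfsg.Statements.S4142
import Mathlib

set_option autoImplicit false
open Cfsg

namespace Cfsg.Agent.S4142

/-- Let G be a finite group and N a normal subgroup. Then the conjugacy class of every element g outside N is a union of cosets of N (gn is conjugate to g for all n ∈ N) if and only if for every g outside N the centralizer of g in G has the same order as the centralizer of gN in G/N. -/
theorem result {G : Type*} [Group G] [Finite G] (N : Subgroup G) [N.Normal] :
    (∀ g : G, g ∉ N → ∀ n ∈ N, ∃ x : G, x * g * x⁻¹ = g * n) ↔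
      ∀ g : G, g ∉ N → Nat.card (Subgroup.centralizer ({g} : Set G)) =
        Nat.card (Subgroup.centralizer ({(QuotientGroup.mk g : G ⧸ N)} : Set (G ⧸ N))) := by
  refine forall₂_congr fun g _ => ?_
  set D := (Subgroup.centralizer ({(QuotientGroup.mk g : G ⧸ N)} : Set (G ⧸ N))).comap
    (QuotientGroup.mk' N) with hD
  set C := Subgroup.centralizer ({g} : Set G) with hC
  have hmemD : ∀ x : G, x ∈ D ↔ g⁻¹ * (x * g * x⁻¹) ∈ N := by
    intro x
    rw [hD, Subgroup.mem_comap, Subgroup.mem_centralizer_singleton_iff, QuotientGroup.mk'_apply,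
      ← QuotientGroup.mk_mul, ← QuotientGroup.mk_mul, eq_comm, QuotientGroup.eq]
    have e : (g * x)⁻¹ * (x * g) = x⁻¹ * (g⁻¹ * (x * g * x⁻¹)) * x⁻¹⁻¹ := by group
    rw [e]
    exact ⟨fun h => by
      have := (‹N.Normal›).conj_mem _ h x
      simpa [mul_assoc] using this, fun h => (‹N.Normal›).conj_mem _ h x⁻¹⟩
  have hCD : C ≤ D := fun x hx => by
    rw [hmemD, Subgroup.mem_centralizer_singleton_iff.1 hx, mul_inv_cancel_right, inv_mul_cancel]
    exact N.one_mem
  let f : D ⧸ C.subgroupOf D → N := Quotient.lift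
    (fun x : D => (⟨g⁻¹ * ((x : G) * g * (x : G)⁻¹), (hmemD x).1 x.2⟩ : N))
    (fun a b hab => by
      replace hab := QuotientGroup.leftRel_apply.1 hab
      rw [Subgroup.mem_subgroupOf, hC, Subgroup.mem_centralizer_singleton_iff] at hab
      refine Subtype.ext ?_
      have hab' : (a : G)⁻¹ * b * g = g * ((a : G)⁻¹ * b) := hab
      calc g⁻¹ * ((a : G) * g * (a : G)⁻¹) = g⁻¹ * (a * (g * ((a : G)⁻¹ * b)) * (b : G)⁻¹) := by group
        _ = g⁻¹ * ((b : G) * g * (b : G)⁻¹) := by rw [← hab']; group)
  have hinj : Function.Injective f := by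
    intro a b
    induction a using Quotient.inductionOn with
    | _ a =>
      induction b using Quotient.inductionOn with
      | _ b =>
        intro h
        have h' : (a : G) * g * (a : G)⁻¹ = b * g * (b : G)⁻¹ :=
          mul_left_cancel (congrArg Subtype.val h)
        refine Quotient.sound ?_
        show (QuotientGroup.leftRel (C.subgroupOf D)).r a b
        rw [QuotientGroup.leftRel_apply, Subgroup.mem_subgroupOf, hC,
          Subgroup.mem_centralizer_singleton_iff]
        show (a : G)⁻¹ * b * g = g * ((a : G)⁻¹ * b)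
        calc (a : G)⁻¹ * b * g = (a : G)⁻¹ * ((b : G) * g * (b : G)⁻¹) * b := by group
          _ = g * ((a : G)⁻¹ * b) := by rw [← h']; group
  have hcard : Nat.card D = Nat.card (D ⧸ C.subgroupOf D) * Nat.card C := by
    rw [Subgroup.card_eq_card_quotient_mul_card_subgroup (C.subgroupOf D),
      Nat.card_congr (Subgroup.subgroupOfEquivOfLe hCD).toEquiv]
  have hcardD : Nat.card D = Nat.card N *
      Nat.card (Subgroup.centralizer ({(QuotientGroup.mk g : G ⧸ N)} : Set (G ⧸ N))) := by
    set Cb := Subgroup.centralizer ({(QuotientGroup.mk g : G ⧸ N)} : Set (G ⧸ N))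
    have h1 := D.card_mul_index
    rw [hD, Subgroup.index_comap_of_surjective _ (QuotientGroup.mk'_surjective N), ← hD,
      Subgroup.card_eq_card_quotient_mul_card_subgroup N, ← Cb.card_mul_index] at h1
    refine Nat.eq_of_mul_eq_mul_right (Nat.pos_of_ne_zero (Subgroup.index_ne_zero_of_finite (H := Cb))) ?_
    rw [h1]; ring
  constructor
  · intro h
    have hsurj : Function.Surjective f := by
      rintro ⟨n, hn⟩
      obtain ⟨x, hx⟩ := h n hn
      have hxD : x ∈ D := by rw [hmemD, hx, inv_mul_cancel_left]; exact hn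
      refine ⟨(⟨x, hxD⟩ : D), Subtype.ext ?_⟩
      show g⁻¹ * (x * g * x⁻¹) = n
      rw [hx, inv_mul_cancel_left]
    have e := hcard
    rw [Nat.card_eq_of_bijective f ⟨hinj, hsurj⟩, hcardD] at e
    exact (Nat.eq_of_mul_eq_mul_left Nat.card_pos e).symm
  · intro h n hn
    rw [← h, hcard] at hcardD
    have hb : Function.Bijective f :=
      hinj.bijective_of_nat_card_le (le_of_eq (Nat.eq_of_mul_eq_mul_right Nat.card_pos hcardD).symm)
    obtain ⟨q, hq⟩ := hb.2 ⟨n, hn⟩
    induction q using Quotient.inductionOn with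
    | _ x =>
      have : g⁻¹ * ((x : G) * g * (x : G)⁻¹) = n := congrArg Subtype.val hq
      exact ⟨x, by rw [← this, mul_inv_cancel_left]⟩

end Cfsg.Agent.S4142
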