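import Cfsg.Statements.S0496
import Cfsg.Agent.SmallOrder.SylowTable
import Cfsg.Agent.SmallOrder.Exclude720

set_option autoImplicit false
open Cfsg

namespace Cfsg.Agent.S0496

/-- A non-abelian finite simple group of order at most 1092 has order 60, 168, 360, 504, 660 or 1092. -/
theorem result {G : Type*} [Group G] [Finite G] [IsSimpleGroup G]
    (hG : ¬ IsMulCommutative G) (h : Nat.card G ≤ 1092) :
    Nat.card G = 60 ∨ Nat.card G = 168 ∨ Nat.card G = 360 ∨ Nat.card G = 504 ∨ Nat.card G = 660 ∨
      Nat.card G = 1092 := by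
  have h0 := Agent.SmallOrder.SylowTable.cases_of_le hG h
  simp only [Agent.SmallOrder.SylowTable.special, List.mem_cons, List.not_mem_nil, or_false] at h0
  rcases h0 with e | e | e | e | e | e | e | e | e | e | e | e | e | e | e | e
  · exact Or.inl e
  · exact Or.inr (Or.inl e)
  · exact Or.inr (Or.inr (Or.inl e))
  · exact (Agent.SmallOrder.not_card_420 hG e).elim
  · exact (Agent.SmallOrder.not_card_fifteen hG (a := 4) le_rfl (e.trans (by norm_num))).elim
  · exact Or.inr (Or.inr (Or.inr (Or.inl e)))
  · exact (Agent.SmallOrder.not_card_612 hG e).elim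
  · exact Or.inr (Or.inr (Or.inr (Or.inr (Or.inl e))))
  · have : Fact (Nat.Prime 3) := ⟨Nat.prime_three⟩
    exact (Agent.SmallOrder.Order720.not_card hG e).elim
  · exact (Agent.SmallOrder.not_card_756 hG e).elim
  · exact (Agent.SmallOrder.not_card_840 hG e).elim
  · exact (Agent.SmallOrder.not_card_fifteen hG (a := 5) (by norm_num) (e.trans (by norm_num))).elim
  · exact (Agent.SmallOrder.not_card_1008 hG e).elim
  · exact (Agent.SmallOrder.not_card_1040 hG e).elim
  · exact (Agent.SmallOrder.not_card_1080 hG e).elim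
  · exact Or.inr (Or.inr (Or.inr (Or.inr (Or.inr e))))

end Cfsg.Agent.S0496
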