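
import Cfsg.Statements.S0974
import Cfsg.Agent.SmallOrder.ExceptionalOrders

set_option autoImplicit false
open Cfsg

namespace Cfsg.Agent.S0974

/-- No finite simple group has order 3648 = 2^6 * 3 * 19. -/
theorem result {G : Type*} [Group G] [Finite G] [IsSimpleGroup G] : Nat.card G ≠ 3648 := by
  intro h
  have : Fact (Nat.Prime 19) := ⟨by norm_num⟩
  have hna := SmallOrder.not_comm_of_card (G := G) (by rw [h]; norm_num)
  obtain ⟨h1, h2, h3, h4⟩ := SmallOrder.sylow_data (p := 19) (a := 1) (m := 192)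
    (by rw [h]; norm_num) one_ne_zero (by norm_num) hna
  obtain ⟨n, hn⟩ : ∃ n, Nat.card (Sylow 19 G) = n := ⟨_, rfl⟩
  rw [hn] at h1 h2 h3
  have hle := Nat.le_of_dvd (by norm_num) h1
  have hn' : n = 96 := by interval_cases n <;> omega
  refine SmallOrder.not_card_of_degrees hna (p := 19) (m := 192) (n := 96) (e := 2) (by rw [h])
    (by norm_num) (hn.trans hn') (by norm_num) (by norm_num) (by norm_num) (by norm_num) ?_
  rw [h, show (3648 : ℕ) = 64 * 57 by norm_num, Nat.divisors_mul]
  decide +kernel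

end Cfsg.Agent.S0974
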