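
import Cfsg.Statements.S0976
import Cfsg.Agent.SmallOrder.Perm
import Cfsg.Agent.SmallOrder.Involution

set_option autoImplicit false
open Cfsg

namespace Cfsg.Agent.S0976

/-- No finite simple group has order 4032 = 2^6 * 3^2 * 7. -/
theorem result {G : Type*} [Group G] [Finite G] [IsSimpleGroup G] : Nat.card G ≠ 4032 := by
  intro h
  classical
  have h2 : Fact (Nat.Prime 2) := ⟨Nat.prime_two⟩
  have h3 : Fact (Nat.Prime 3) := ⟨by norm_num⟩
  have h7 : Fact (Nat.Prime 7) := ⟨by norm_num⟩
  have hna := SmallOrder.not_comm_of_card (G := G) (by rw [h]; norm_num)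
  have hsmall : ∀ H : Subgroup G, H ≠ ⊤ → 8 ≤ H.index := by
    intro H hH
    have hd := SmallOrder.two_mul_card_dvd hna H hH
    rw [h] at hd
    by_contra! hlt
    interval_cases H.index <;> norm_num [Nat.factorial] at hd
  -- the element of order seven
  obtain ⟨P⟩ : Nonempty (Sylow 7 G) := Sylow.nonempty
  have hP : Nat.card (P : Subgroup G) = 7 := by
    rw [SmallOrder.card_sylow_eq_pow (a := 1) (m := 576) (by rw [h]; norm_num) (by norm_num) P,
      pow_one]
  have hcyc := isCyclic_of_prime_card hP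
  obtain ⟨y, hy⟩ := exists_prime_orderOf_dvd_card' (G := (P : Subgroup G)) 7 hP.symm.dvd
  have hyG : orderOf (y : G) = 7 := by rw [Subgroup.orderOf_coe, hy]
  have hyP : Subgroup.zpowers (y : G) = P := by
    refine Subgroup.eq_of_le_of_card_ge (Subgroup.zpowers_le.2 y.2) ?_
    rw [hP, Nat.card_zpowers, hyG]
  have hCy : Subgroup.centralizer ((P : Subgroup G) : Set G) =
      Subgroup.centralizer ({(y : G)} : Set G) := by
    conv_lhs => rw [← hyP, Subgroup.zpowers_eq_closure, Subgroup.centralizer_closure]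
  -- the possible centralisers
  obtain ⟨hc, hN63⟩ : (Nat.card (Subgroup.centralizer ({(y : G)} : Set G)) = 56 ∨
        Nat.card (Subgroup.centralizer ({(y : G)} : Set G)) = 21) ∧
      (Nat.card (Subgroup.centralizer ({(y : G)} : Set G)) = 21 →
        Nat.card (Subgroup.normalizer ((P : Subgroup G) : Set G)) = 63) := by
    obtain ⟨g1, g2, g3, -⟩ := SmallOrder.sylow_data (p := 7) (a := 1) (m := 576)
      (by rw [h]; norm_num) one_ne_zero (by norm_num) hna
    obtain ⟨n, hn⟩ : ∃ n, Nat.card (Sylow 7 G) = n := ⟨_, rfl⟩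
    rw [hn] at g1 g2 g3
    have h8 : 8 ≤ n := by
      rw [← hn, P.card_eq_index_normalizer]
      exact hsmall _ (SmallOrder.normalizer_ne_top hna (by rw [h]; norm_num) P)
    obtain ⟨e, he, hNc, he1⟩ := SmallOrder.exists_normalizer_index (P : Subgroup G)
    rw [SmallOrder.card_mulAut_of_prime hP] at he
    have hne : e ≠ 1 := fun hh => SmallOrder.not_normalizer_le_centralizer hna
      (by rw [h]; norm_num) P (he1 hh)
    rw [hCy] at hNc
    obtain ⟨c, hcc⟩ : 7 ∣ Nat.card (Subgroup.centralizer ({(y : G)} : Set G)) := by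
      rw [← hCy]
      conv_lhs => rw [← hP]
      exact Subgroup.card_dvd_of_le (P : Subgroup G).le_centralizer
    have hm := SmallOrder.card_sylow_mul_card_normalizer P
    rw [hn, hNc, hcc, h] at hm
    have hce : n * (c * e) = 576 := by linarith
    have hn' : n = 8 ∨ n = 36 ∨ n = 64 ∨ n = 288 := by
      have hle := Nat.le_of_dvd (by norm_num) g1
      exact (show ∀ m ∈ List.range 577, m % 7 = 1 → 576 % m = 0 → 8 ≤ m →
        m = 8 ∨ m = 36 ∨ m = 64 ∨ m = 288 by decide +kernel) n (List.mem_range.2 (by omega)) g2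
          (Nat.mod_eq_zero_of_dvd g1) h8
    have hel := Nat.le_of_dvd (by norm_num) he
    have he0 : 0 < e := Nat.pos_of_ne_zero fun z => by rw [z, mul_zero, mul_zero] at hce; omega
    rcases hn' with rfl | rfl | rfl | rfl
    · -- a subgroup of index eight
      exfalso
      obtain ⟨k, hk, hkp, -, -, hd, -⟩ := SmallOrder.centralizer_bound hna
        (Subgroup.normalizer ((P : Subgroup G) : Set G))
        (SmallOrder.normalizer_ne_top hna (by rw [h]; norm_num) P) hyG
      rw [show (Subgroup.normalizer ((P : Subgroup G) : Set G)).index = 8 from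
        P.card_eq_index_normalizer.symm.trans hn] at hkp hd
      obtain rfl : k = 1 := by omega
      rw [hcc] at hd
      have hc1 : c ∣ 1 := Nat.dvd_of_mul_dvd_mul_left (by norm_num : 0 < 7) (by simpa using hd)
      rw [Nat.dvd_one.1 hc1] at hce
      omega
    · refine ⟨Or.inl ?_, fun h21 => ?_⟩
      · interval_cases e <;> omega
      · interval_cases e <;> omega
    · refine ⟨Or.inr ?_, fun _ => ?_⟩
      · interval_cases e <;> omega
      · rw [hNc, hcc, mul_assoc]; omega
    · exfalso
      have he2 : e = 2 ∧ c = 1 := by interval_cases e <;> omega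
      obtain ⟨rfl, rfl⟩ := he2
      refine SmallOrder.not_square_of_dihedral (P := (P : Subgroup G)) (by norm_num : (7 : ℕ) ≠ 2)
        (n := 288) (m := 24) hP ?_ ?_ (by rw [h]) (by norm_num)
      · rw [hCy, hcc]
      · rw [hNc, hcc]
  -- a subgroup of index twenty-one
  obtain ⟨H, hH, hidx⟩ : ∃ H : Subgroup G, H ≠ ⊤ ∧ (H.index = 9 ∨ H.index = 21) := by
    obtain ⟨g1, g2, g3, -⟩ := SmallOrder.sylow_data (p := 2) (a := 6) (m := 63)
      (by rw [h]; norm_num) (by norm_num) (by norm_num) hna
    obtain ⟨n, hn⟩ : ∃ n, Nat.card (Sylow 2 G) = n := ⟨_, rfl⟩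
    rw [hn] at g1 g2 g3
    by_cases h4 : n % 4 = 1
    · obtain ⟨T⟩ : Nonempty (Sylow 2 G) := Sylow.nonempty
      have hT := SmallOrder.normalizer_ne_top hna (by rw [h]; norm_num) T
      refine ⟨_, hT, ?_⟩
      have h8 := hsmall _ hT
      rw [show (Subgroup.normalizer ((T : Subgroup G) : Set G)).index = n from
        T.card_eq_index_normalizer.symm.trans hn] at h8 ⊢
      have := Nat.le_of_dvd (by norm_num) g1
      interval_cases n <;> omega
    · obtain ⟨H, k, m, hH, -, hk, hHk, hm, hm2, hm1⟩ := SmallOrder.exists_local (p := 2) (a := 5)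
        (m := 63) (by rw [h]; norm_num) (by norm_num) (by norm_num) hna
        (fun hh => h4 (by rw [hn] at hh; exact hh))
      refine ⟨H, hH, ?_⟩
      have h8 := hsmall H hH
      have hk7 : k ≤ 7 := by nlinarith
      have hk2 : 2 ≤ k := le_trans hm1 (Nat.le_of_dvd (Nat.pos_of_dvd_of_pos hk (by norm_num)) hm)
      interval_cases k <;> omega
  obtain ⟨hC, hH192⟩ : Nat.card (Subgroup.centralizer ({(y : G)} : Set G)) = 21 ∧
      H.index = 21 := by
    obtain ⟨k, hk, hkp, hfree, -, hd, hd2⟩ := SmallOrder.centralizer_bound hna H hH hyG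
    rcases hidx with hi | hi <;> rw [hi] at hkp hfree hd hd2
    · exfalso
      obtain rfl : k = 1 := by omega
      have := hd2 (Or.inl (by norm_num))
      rcases hc with hc | hc <;> rw [hc] at this <;> norm_num [Nat.factorial] at this
    · have hk3 : k * 7 = 21 := hfree fun h7' => by
        have hm := H.card_mul_index
        obtain ⟨a, ha⟩ := h7'
        rw [ha, hi, h] at hm
        omega
      obtain rfl : k = 3 := by omega
      refine ⟨hc.resolve_left fun hc' => ?_, hi⟩
      rw [hc'] at hd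
      norm_num [Nat.factorial] at hd
  have hN := hN63 hC
  have hH192' : Nat.card H = 192 := by
    have hm := H.card_mul_index
    rw [hH192, h] at hm
    omega
  -- the element of order three in the centraliser
  obtain ⟨w', hw'⟩ := exists_prime_orderOf_dvd_card'
    (G := Subgroup.centralizer ({(y : G)} : Set G)) 3 (by rw [hC]; norm_num)
  obtain ⟨w, hw, hwC⟩ : ∃ w : G, orderOf w = 3 ∧
      w ∈ Subgroup.centralizer ({(y : G)} : Set G) :=
    ⟨w', (Subgroup.orderOf_coe w').trans hw', w'.2⟩
  have hwy : Commute (y : G) w := (Subgroup.mem_centralizer_singleton_iff.1 hwC).symm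
  have hCcyc : Subgroup.centralizer ({(y : G)} : Set G) = Subgroup.zpowers ((y : G) * w) := by
    refine (Subgroup.eq_of_le_of_card_ge (Subgroup.zpowers_le.2 ?_) ?_).symm
    · exact Subgroup.mul_mem _ (Subgroup.mem_centralizer_singleton_iff.2 rfl) hwC
    · rw [hC, Nat.card_zpowers,
        hwy.orderOf_mul_eq_mul_orderOf_of_coprime (by rw [hyG, hw]; norm_num), hyG, hw]
  -- `w` is central in the normaliser of `P`
  have hNw : Subgroup.normalizer ((P : Subgroup G) : Set G) ≤
      Subgroup.centralizer ({w} : Set G) := by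
    intro g hg
    have hgC : g * w * g⁻¹ ∈ Subgroup.centralizer ((P : Subgroup G) : Set G) := by
      refine Subgroup.mem_centralizer_iff.2 fun a ha => ?_
      have ha' : g⁻¹ * a * g ∈ (P : Subgroup G) :=
        (Subgroup.mem_normalizer_iff''.1 hg a).1 ha
      have := Subgroup.mem_centralizer_iff.1 (hCy ▸ hwC : w ∈ _) _ ha'
      calc a * (g * w * g⁻¹) = g * (g⁻¹ * a * g * w) * g⁻¹ := by group
        _ = g * (w * (g⁻¹ * a * g)) * g⁻¹ := by rw [this]
        _ = g * w * g⁻¹ * a := by group
    rw [hCy, hCcyc] at hgC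
    obtain ⟨i, hi⟩ := Subgroup.mem_zpowers_iff.1 hgC
    rw [hwy.mul_zpow] at hi
    have h3i : (g * w * g⁻¹) ^ (3 : ℤ) = 1 := by
      rw [conj_zpow, zpow_ofNat, ← hw, pow_orderOf_eq_one, mul_one, mul_inv_cancel]
    rw [← hi, (hwy.zpow_zpow i i).mul_zpow, ← zpow_mul w, ← zpow_mul,
      mul_comm i 3, zpow_mul w, zpow_ofNat w, ← hw, pow_orderOf_eq_one, one_zpow, mul_one] at h3i
    have h7i : (7 : ℤ) ∣ i := by
      have := orderOf_dvd_iff_zpow_eq_one.2 h3i
      rw [hyG] at this
      omega
    have hyi : (y : G) ^ i = 1 := orderOf_dvd_iff_zpow_eq_one.1 (by rw [hyG]; exact_mod_cast h7i)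
    rw [hyi, one_mul] at hi
    -- an element of odd order cannot invert `w`
    have hsq : Commute (g * g) w := by
      have h1 : g * g * w * (g * g)⁻¹ = w ^ (i * i) := by
        calc g * g * w * (g * g)⁻¹ = g * (g * w * g⁻¹) * g⁻¹ := by group
          _ = g * w ^ i * g⁻¹ := by rw [hi]
          _ = (g * w * g⁻¹) ^ i := conj_zpow.symm
          _ = w ^ (i * i) := by rw [← hi, ← zpow_mul]
      have h3n : ¬ (3 : ℤ) ∣ i := fun hd => by
        have hwi : w ^ i = 1 := orderOf_dvd_iff_zpow_eq_one.1 (by rw [hw]; exact_mod_cast hd)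
        rw [hwi] at hi
        have : w = 1 := by
          have h' := hi.symm
          rwa [conj_eq_one_iff] at h'
        rw [this, orderOf_one] at hw
        omega
      have hii : (i * i) % 3 = 1 := by
        rw [Int.mul_emod]
        have : i % 3 = 1 ∨ i % 3 = 2 := by omega
        rcases this with e | e <;> rw [e] <;> norm_num
      rw [← zpow_mod_orderOf, hw, Nat.cast_ofNat, hii, zpow_one] at h1
      exact mul_inv_eq_iff_eq_mul.1 h1
    have ho : ¬ 2 ∣ orderOf g := fun hd => by
      have := hd.trans (Subgroup.orderOf_dvd_natCard _ hg)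
      rw [hN] at this
      norm_num at this
    rw [Subgroup.mem_centralizer_singleton_iff]
    have hgp : g = (g * g) ^ ((orderOf g + 1) / 2) := by
      rw [← sq, ← pow_mul, show 2 * ((orderOf g + 1) / 2) = orderOf g + 1 by omega, pow_succ,
        pow_orderOf_eq_one, one_mul]
    rw [hgp]
    exact (hsq.pow_left _).eq
  -- so the centraliser of `w` is that normaliser
  set M := Subgroup.centralizer ({w} : Set G) with hM
  have hMne : M ≠ ⊤ := fun e => by
    have : w ∈ Subgroup.center G := Subgroup.mem_center_iff.2 fun g =>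
      Subgroup.mem_centralizer_singleton_iff.1 (e ▸ Subgroup.mem_top g : g ∈ M)
    rw [SmallOrder.center_eq_bot hna, Subgroup.mem_bot] at this
    rw [this, orderOf_one] at hw
    omega
  have hPM : (P : Subgroup G) ≤ M := Subgroup.le_normalizer.trans hNw
  have hMN : Nat.card M = 63 ∧ Nat.card (Sylow 7 M) = 1 := by
    have hm := SmallOrder.card_sylow_mul_card_normalizer (P.subtype hPM)
    have hmod := SmallOrder.card_sylow_mod (G := M) 7
    rw [Sylow.coe_subtype, ← Subgroup.subgroupOf_normalizer_eq hPM,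
      Nat.card_congr (Subgroup.subgroupOfEquivOfLe hNw).toEquiv, hN] at hm
    obtain ⟨m, hm'⟩ : ∃ m, Nat.card (Sylow 7 M) = m := ⟨_, rfl⟩
    rw [hm'] at hm hmod ⊢
    have hi := M.card_mul_index
    rw [← hm, h] at hi
    have h8 := hsmall M hMne
    have hmi : m * M.index = 64 := by linarith
    have hm8 : m ≤ 8 := by nlinarith
    have hm1 : m = 1 ∨ m = 8 := by interval_cases m <;> omega
    rcases hm1 with rfl | rfl
    · exact ⟨by omega, rfl⟩
    · exfalso
      obtain ⟨k, hk, hkp, -, -, hd, -⟩ := SmallOrder.centralizer_bound hna M hMne hyG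
      rw [show M.index = 8 by omega] at hkp hd
      obtain rfl : k = 1 := by omega
      rw [hC] at hd
      norm_num [Nat.factorial] at hd
  -- `w` fixes no coset of `H`
  have hfix : ∀ g : G, g * w * g⁻¹ ∉ H := by
    intro g hg
    obtain ⟨k, hk, hkp, -, hcard, -, -⟩ := SmallOrder.centralizer_bound hna H hH hw
    obtain ⟨k', hk', hkp', hfree, hcard', -, -⟩ := SmallOrder.centralizer_bound hna H hH hyG
    rw [hH192] at hkp hcard hkp' hfree hcard'
    have hk7 : k' * 7 = 21 := hfree (by rw [hH192']; norm_num)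
    rw [hk7, Nat.sub_self] at hcard'
    let S : SubMulAction (Subgroup.zpowers (y : G)) (G ⧸ H) :=
      { carrier := MulAction.fixedBy (G ⧸ H) w
        smul_mem' := fun c x hx => by
          rw [MulAction.mem_fixedBy] at hx ⊢
          show w • ((c : G) • x) = (c : G) • x
          rw [smul_smul]
          obtain ⟨i, hi⟩ := Subgroup.mem_zpowers_iff.1 c.2
          rw [← hi, ((hwy.zpow_left i).eq).symm, mul_smul, hx] }
    have hmod := (IsPGroup.of_card (n := 1) (by rw [Nat.card_zpowers, hyG, pow_one]) :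
      IsPGroup 7 (Subgroup.zpowers (y : G))).card_modEq_card_fixedPoints S
    have hempty : Nat.card (MulAction.fixedPoints (Subgroup.zpowers (y : G)) S) = 0 := by
      rw [Nat.card_eq_zero]
      refine Or.inl ⟨fun x => ?_⟩
      have hx : (y : G) • (x.1 : G ⧸ H) = x.1 :=
        congrArg Subtype.val (x.2 ⟨y, Subgroup.mem_zpowers _⟩)
      have : Nonempty (MulAction.fixedBy (G ⧸ H) (y : G)) := ⟨⟨_, hx⟩⟩
      exact Nat.card_pos.ne' hcard'
    have hS : Nat.card S = 21 - k * 3 := hcard
    rw [hS, hempty] at hmod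
    have h0 : 21 - k * 3 = 0 := by
      unfold Nat.ModEq at hmod
      omega
    have : Nonempty (MulAction.fixedBy (G ⧸ H) w) := ⟨⟨(g⁻¹ : G), by
      rw [MulAction.mem_fixedBy, MulAction.Quotient.smul_mk, smul_eq_mul, QuotientGroup.eq]
      have := H.inv_mem hg
      simpa [mul_assoc] using this⟩⟩
    exact Nat.card_pos.ne' (hcard.trans h0)
  -- the Sylow three-subgroup
  obtain ⟨R, hR⟩ := (IsPGroup.of_card (n := 1) (by rw [Nat.card_zpowers, hw, pow_one]) :
    IsPGroup 3 (Subgroup.zpowers w)).exists_le_sylow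
  have hR9 : Nat.card (R : Subgroup G) = 3 ^ 2 :=
    SmallOrder.card_sylow_eq_pow (a := 2) (m := 448) (by rw [h]; norm_num) (by norm_num) R
  have hRab := IsPGroup.isMulCommutative_of_card_eq_prime_sq hR9
  have hwR : w ∈ (R : Subgroup G) := hR (Subgroup.mem_zpowers w)
  have hRM : (R : Subgroup G) ≤ M := fun r hr => by
    rw [hM, Subgroup.mem_centralizer_singleton_iff]
    exact (Subgroup.mem_centralizer_iff.1 ((R : Subgroup G).le_centralizer hr) w hwR).symm
  set NR := Subgroup.normalizer ((R : Subgroup G) : Set G) with hNR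
  have hRN : (R : Subgroup G) ≤ NR := Subgroup.le_normalizer
  have hNM : ∀ g ∈ NR, g ∈ M → g ∈ (R : Subgroup G) := by
    intro g hg hgM
    by_contra hgR
    -- otherwise `R` would be normal in `M` and centralise `P`
    have hRi : (R : Subgroup G) ≤ NR ⊓ M := le_inf hRN hRM
    have hlt : (R : Subgroup G) < NR ⊓ M :=
      lt_of_le_of_ne hRi fun e => hgR (e ▸ Subgroup.mem_inf.2 ⟨hg, hgM⟩)
    have hd1 := Subgroup.card_dvd_of_le hRi
    have hd2 := Subgroup.card_dvd_of_le (inf_le_right : NR ⊓ M ≤ M)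
    have hall : NR ⊓ M = M := by
      refine Subgroup.eq_of_le_of_card_ge inf_le_right ?_
      obtain ⟨a, ha⟩ := hd1
      obtain ⟨b, hb⟩ := hd2
      rw [hMN.1, ha, hR9] at hb
      rw [hMN.1, ha, hR9]
      have ha1 : a ≠ 1 := fun e => hlt.ne (Subgroup.eq_of_le_of_card_ge hRi (by rw [ha, e, mul_one]))
      have : a * b = 7 := by linarith
      rcases (Nat.dvd_prime h7.out).1 (Dvd.intro b this) with e | e <;> omega
    have hRC : (R : Subgroup G) ≤ Subgroup.centralizer ({(y : G)} : Set G) := by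
      intro r hr
      rw [← hCy]
      refine Subgroup.mem_centralizer_iff.2 fun a ha => ?_
      have haN : a ∈ NR := (hall ▸ inf_le_left : M ≤ NR) (hPM ha)
      have hrN : r ∈ Subgroup.normalizer ((P : Subgroup G) : Set G) := by
        have := (Subgroup.eq_of_le_of_card_ge hNw (by rw [hMN.1, hN])).symm ▸ hRM hr
        exact this
      have h1 : r * a * r⁻¹ * a⁻¹ ∈ (R : Subgroup G) := by
        rw [show r * a * r⁻¹ * a⁻¹ = r * (a * r⁻¹ * a⁻¹) by group]
        exact Subgroup.mul_mem _ hr ((Subgroup.mem_normalizer_iff.1 haN _).1 (inv_mem hr))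
      have h2 : r * a * r⁻¹ * a⁻¹ ∈ (P : Subgroup G) :=
        Subgroup.mul_mem _ ((Subgroup.mem_normalizer_iff.1 hrN _).1 ha) (inv_mem ha)
      have := Subgroup.inf_eq_bot_of_coprime (H := (R : Subgroup G)) (K := P)
        (by rw [hR9, hP]; norm_num)
      have h0 : r * a * r⁻¹ * a⁻¹ = 1 :=
        Subgroup.mem_bot.1 (this ▸ Subgroup.mem_inf.2 ⟨h1, h2⟩)
      exact (mul_inv_eq_iff_eq_mul.1 (mul_inv_eq_one.1 h0)).symm
    have := Subgroup.card_dvd_of_le hRC
    rw [hR9, hC] at this
    norm_num at this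
  -- the orbit of `w` in `R`
  let f : NR ⧸ (R : Subgroup G).subgroupOf NR → G :=
    Quotient.lift (fun g : NR => (g : G) * w * (g : G)⁻¹) fun a b hab => by
      have hm : (a : G)⁻¹ * b ∈ (R : Subgroup G) :=
        Subgroup.mem_subgroupOf.1 (QuotientGroup.leftRel_apply.1 hab : _ ∈ (R : Subgroup G).subgroupOf NR)
      have hcm := Subgroup.mem_centralizer_singleton_iff.1 (hRM hm)
      show (a : G) * w * (a : G)⁻¹ = (b : G) * w * (b : G)⁻¹
      calc (a : G) * w * (a : G)⁻¹ = (a : G) * (w * ((a : G)⁻¹ * b)) * (b : G)⁻¹ := by group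
        _ = (a : G) * ((a : G)⁻¹ * b * w) * (b : G)⁻¹ := by rw [hcm]
        _ = (b : G) * w * (b : G)⁻¹ := by group
  have hinj : Function.Injective f := by
    intro a b
    refine Quotient.inductionOn₂ a b fun a b hab => Quotient.sound ?_
    refine QuotientGroup.leftRel_apply.2 (hNM _ (NR.mul_mem (NR.inv_mem a.2) b.2) ?_)
    rw [hM, Subgroup.mem_centralizer_singleton_iff]
    change (a : G) * w * (a : G)⁻¹ = (b : G) * w * (b : G)⁻¹ at hab
    calc (a : G)⁻¹ * b * w = (a : G)⁻¹ * ((b : G) * w * (b : G)⁻¹) * b := by group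
      _ = w * ((a : G)⁻¹ * b) := by rw [← hab]; group
  have hreal : ∀ g h : G, g * w * g⁻¹ ≠ (h * w * h⁻¹)⁻¹ := by
    intro g h' e
    set k := h'⁻¹ * g with hk
    have hkw : k * w * k⁻¹ = w⁻¹ := by
      calc k * w * k⁻¹ = h'⁻¹ * (g * w * g⁻¹) * h' := by rw [hk]; group
        _ = w⁻¹ := by rw [e]; group
    -- then `k` normalises `P`, so centralises `w`
    have hkP : k ∈ Subgroup.normalizer ((P : Subgroup G) : Set G) := by
      rw [Subgroup.mem_normalizer_iff_map_conj_eq]
      have hmap : ((P : Subgroup G).map (MulAut.conj k).toMonoidHom) ≤ M := by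
        rintro _ ⟨a, ha, rfl⟩
        rw [hM, Subgroup.mem_centralizer_singleton_iff]
        have hca := Subgroup.mem_centralizer_singleton_iff.1 (hPM ha)
        have hca' : Commute a w⁻¹ := (show Commute a w from hca).inv_right
        simp only [MulEquiv.coe_toMonoidHom, MulAut.conj_apply]
        have hkw' : k⁻¹ * w * k = w⁻¹ := by
          have := congrArg (·⁻¹) hkw
          simp only [mul_inv_rev, inv_inv] at this
          calc k⁻¹ * w * k = k⁻¹ * (k * (w⁻¹ * k⁻¹)) * k := by rw [this]
            _ = w⁻¹ := by group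
        calc k * a * k⁻¹ * w = k * (a * (k⁻¹ * w * k)) * k⁻¹ := by group
          _ = k * (w⁻¹ * a) * k⁻¹ := by rw [hkw', hca'.eq]
          _ = (k * w * k⁻¹)⁻¹ * (k * a * k⁻¹) := by group
          _ = w * (k * a * k⁻¹) := by rw [hkw, inv_inv]
      obtain ⟨Q, hQ⟩ := (IsPGroup.of_card (n := 1) (show Nat.card
          ((((P : Subgroup G).map (MulAut.conj k).toMonoidHom)).subgroupOf M) = 7 ^ 1 by
        rw [Nat.card_congr (Subgroup.subgroupOfEquivOfLe hmap).toEquiv, ← Nat.card_congr
          ((P : Subgroup G).equivMapOfInjective _ (MulAut.conj k).injective).toEquiv, hP,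
          pow_one])).exists_le_sylow
      have : Subsingleton (Sylow 7 M) := (Nat.card_eq_one_iff_unique.1 hMN.2).1
      rw [Subsingleton.elim Q (P.subtype hPM), Sylow.coe_subtype] at hQ
      refine Subgroup.eq_of_le_of_card_ge (fun a ha => ?_) (le_of_eq (Nat.card_congr
        ((P : Subgroup G).equivMapOfInjective _ (MulAut.conj k).injective).toEquiv))
      exact Subgroup.mem_subgroupOf.1 (hQ (show (⟨a, hmap ha⟩ : M) ∈ _ from ha))
    have h1 := Subgroup.mem_centralizer_singleton_iff.1 (hNw hkP)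
    rw [h1, mul_inv_cancel_right] at hkw
    have : w ^ 2 = 1 := by rw [sq]; nth_rw 1 [hkw]; exact inv_mul_cancel w
    have := Nat.le_of_dvd (by norm_num) (orderOf_dvd_of_pow_eq_one this)
    omega
  obtain ⟨v, hvR, hv, hvH⟩ : ∃ v ∈ (R : Subgroup G), orderOf v = 3 ∧ ∃ g : G, g * v * g⁻¹ ∈ H := by
    obtain ⟨v₀, hv₀⟩ := exists_prime_orderOf_dvd_card' (G := H) 3 (by rw [hH192']; norm_num)
    obtain ⟨Q, hQ⟩ := (IsPGroup.of_card (n := 1)
      (by rw [Nat.card_zpowers, Subgroup.orderOf_coe, hv₀, pow_one]) :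
      IsPGroup 3 (Subgroup.zpowers (v₀ : G))).exists_le_sylow
    obtain ⟨g, hg⟩ := MulAction.exists_smul_eq G Q R
    refine ⟨g * v₀ * g⁻¹, ?_, ?_, g⁻¹, ?_⟩
    · rw [← hg, Sylow.coe_subgroup_smul]
      exact ⟨v₀, hQ (Subgroup.mem_zpowers _), by simp⟩
    · rw [show g * (v₀ : G) * g⁻¹ = MulAut.conj g v₀ by simp, MulEquiv.orderOf_eq,
        Subgroup.orderOf_coe, hv₀]
    · simpa [mul_assoc] using v₀.2
  have hcount : Nat.card (NR ⧸ (R : Subgroup G).subgroupOf NR) ≤ 3 := by
    have : Fintype (NR ⧸ (R : Subgroup G).subgroupOf NR) := Fintype.ofFinite _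
    have : Fintype G := Fintype.ofFinite G
    rw [Nat.card_eq_fintype_card, ← Finset.card_univ,
      ← Finset.card_image_of_injective _ hinj]
    set A := (Finset.univ : Finset (NR ⧸ (R : Subgroup G).subgroupOf NR)).image f with hA
    have hAm : ∀ a ∈ A, ∃ g ∈ NR, a = g * w * g⁻¹ := fun a ha => by
      obtain ⟨q, -, rfl⟩ := Finset.mem_image.1 ha
      induction q using Quotient.inductionOn with | h g => exact ⟨g, g.2, rfl⟩
    have hvne : ∀ a ∈ A, a ≠ v ∧ a⁻¹ ≠ v ∧ a ≠ 1 ∧ a ∈ (R : Subgroup G) := fun a ha => by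
      obtain ⟨g, hg, rfl⟩ := hAm a ha
      obtain ⟨g', hg'⟩ := hvH
      refine ⟨fun e => hfix (g' * g) ?_, fun e => hfix (g' * g) ?_, fun e => ?_,
        (Subgroup.mem_normalizer_iff.1 hg w).1 hwR⟩
      · rw [← e] at hg'; simpa [mul_assoc] using hg'
      · rw [← e] at hg'
        have := H.inv_mem hg'
        simpa [mul_assoc] using this
      · rw [conj_eq_one_iff] at e
        rw [e, orderOf_one] at hw
        omega
    have hv1 : v ≠ 1 := fun e => by rw [e, orderOf_one] at hv; omega
    have hvv : v ≠ v⁻¹ := fun e => by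
      have : v ^ 2 = 1 := by rw [sq]; nth_rw 1 [e]; exact inv_mul_cancel v
      have := Nat.le_of_dvd (by norm_num) (orderOf_dvd_of_pow_eq_one this)
      omega
    have hd1 : Disjoint A (A.image (·⁻¹)) := by
      rw [Finset.disjoint_left]
      intro a ha hb
      obtain ⟨b, hbA, rfl⟩ := Finset.mem_image.1 hb
      obtain ⟨g, -, e1⟩ := hAm _ ha
      obtain ⟨g', -, rfl⟩ := hAm b hbA
      exact hreal g g' e1.symm
    have hd2 : Disjoint (A ∪ A.image (·⁻¹)) ({1, v, v⁻¹} : Finset G) := by
      rw [Finset.disjoint_left]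
      intro a ha hb
      simp only [Finset.mem_insert, Finset.mem_singleton] at hb
      rcases Finset.mem_union.1 ha with ha | ha
      · obtain ⟨x1, x2, x3, -⟩ := hvne a ha
        rcases hb with rfl | rfl | rfl
        · exact x3 rfl
        · exact x1 rfl
        · exact x2 (inv_inv v)
      · obtain ⟨b, hb', rfl⟩ := Finset.mem_image.1 ha
        obtain ⟨x1, x2, x3, -⟩ := hvne b hb'
        rcases hb with e | e | e
        · exact x3 (inv_eq_one.1 e)
        · exact x2 e
        · exact x1 (inv_inj.1 e)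
    have h3c : ({1, v, v⁻¹} : Finset G).card = 3 :=
      Finset.card_eq_three.2 ⟨1, v, v⁻¹, hv1.symm, (inv_ne_one.2 hv1).symm, hvv, rfl⟩
    have hsub : A ∪ A.image (·⁻¹) ∪ {1, v, v⁻¹} ⊆
        Finset.univ.filter fun g : G => g ∈ (R : Subgroup G) := by
      intro a ha
      refine Finset.mem_filter.2 ⟨Finset.mem_univ _, ?_⟩
      rcases Finset.mem_union.1 ha with ha | ha
      · rcases Finset.mem_union.1 ha with ha | ha
        · exact (hvne a ha).2.2.2
        · obtain ⟨b, hb, rfl⟩ := Finset.mem_image.1 ha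
          exact inv_mem (hvne b hb).2.2.2
      · simp only [Finset.mem_insert, Finset.mem_singleton] at ha
        rcases ha with rfl | rfl | rfl
        · exact one_mem _
        · exact hvR
        · exact inv_mem hvR
    have hle := Finset.card_le_card hsub
    rw [Finset.card_union_of_disjoint hd2, Finset.card_union_of_disjoint hd1,
      Finset.card_image_of_injective _ inv_injective, h3c,
      show (Finset.univ.filter fun g : G => g ∈ (R : Subgroup G)).card = 9 by
        rw [← Fintype.card_subtype, ← Nat.card_eq_fintype_card]; exact hR9] at hle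
    omega
  -- so `R` is its own normaliser
  have hm := SmallOrder.card_sylow_mul_card_normalizer R
  have hmod := SmallOrder.card_sylow_mod (G := G) 3
  have hi := ((R : Subgroup G).subgroupOf NR).card_mul_index
  rw [Nat.card_congr (Subgroup.subgroupOfEquivOfLe hRN).toEquiv, hR9,
    Subgroup.index_eq_card] at hi
  rw [← hi, h] at hm
  obtain ⟨o, ho⟩ : ∃ o, Nat.card (NR ⧸ (R : Subgroup G).subgroupOf NR) = o := ⟨_, rfl⟩
  rw [ho] at hm hi hcount
  have ho1 : o = 1 := by interval_cases o <;> omega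
  subst ho1
  have hNReq : (R : Subgroup G) = NR :=
    Subgroup.eq_of_le_of_card_ge hRN (by rw [hR9, ← hi, mul_one])
  refine SmallOrder.not_normalizer_le_centralizer hna (by rw [h]; norm_num) R ?_
  exact hNReq.symm.le.trans (R : Subgroup G).le_centralizer

end Cfsg.Agent.S0976
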