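import Mathlib
import Cfsg.Agent.BlockThms.SimpleThreePrimes
import Cfsg.Statements.S1001

set_option autoImplicit false
open Cfsg

namespace Cfsg.Agent.S1001

/-- In a finite simple group whose order has the form p * 3^a * 2^b with p prime, the centralizer of any element of order p is the cyclic group it generates. -/
theorem result {G : Type*} [Group G] [Finite G] [IsSimpleGroup G] (p a b : ℕ) (hp : p.Prime) (hG : Nat.card G = p * 3 ^ a * 2 ^ b) (x : G) (hx : orderOf x = p) : Subgroup.centralizer ({x} : Set G) = Subgroup.zpowers x := by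
  have := Fact.mk hp
  have hzc : Nat.card (Subgroup.zpowers x) = p := by rw [Nat.card_zpowers, hx]
  have hxne : x ≠ 1 := fun h => hp.ne_one (by rw [← hx, h, orderOf_one])
  by_cases h23 : p = 2 ∨ p = 3
  · have hsol : Group.IsSolvable G := by
      rcases h23 with rfl | rfl
      · exact Char.isSolvable_of_card_eq 2 3 Nat.prime_two Nat.prime_three _ G rfl
          ⟨b + 1, a, by rw [hG]; ring⟩
      · exact Char.isSolvable_of_card_eq 2 3 Nat.prime_two Nat.prime_three _ G rfl
          ⟨b, a + 1, by rw [hG]; ring⟩
    have hcomm : ∀ u v : G, u * v = v * u := IsSimpleGroup.comm_iff_isSolvable.2 hsol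
    have hN : (Subgroup.zpowers x).Normal :=
      ⟨fun s hs g => by rw [hcomm g s, mul_inv_cancel_right]; exact hs⟩
    rw [hN.eq_bot_or_eq_top.resolve_left (by rwa [Subgroup.zpowers_eq_bot]), Subgroup.eq_top_iff']
    intro g
    rw [Subgroup.mem_centralizer_singleton_iff]
    exact hcomm g x
  · push Not at h23
    have hdvd : ¬ p ∣ 3 ^ a * 2 ^ b := fun h => by
      rcases hp.dvd_mul.1 h with h | h
      · exact h23.2 ((Nat.prime_dvd_prime_iff_eq hp Nat.prime_three).1 (hp.dvd_of_dvd_pow h))
      · exact h23.1 ((Nat.prime_dvd_prime_iff_eq hp Nat.prime_two).1 (hp.dvd_of_dvd_pow h))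
    have hfac : (Nat.card G).factorization p = 1 := by
      rw [hG, mul_assoc, Nat.factorization_mul hp.ne_zero
        (Nat.mul_ne_zero (pow_ne_zero _ (by norm_num)) (pow_ne_zero _ (by norm_num))),
        Finsupp.add_apply, Nat.factorization_eq_zero_of_not_dvd hdvd, hp.factorization_self]
    let S : Sylow p G := Sylow.ofCard (Subgroup.zpowers x) (by rw [hzc, hfac, pow_one])
    have h := BlockThms.sylow_self_centralizing 3 2 p a b Nat.prime_three Nat.prime_two
      (fun e => h23.2 e.symm) (fun e => h23.1 e.symm) (by rw [hG]; ring) S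
    rw [show (S : Set G) = (Subgroup.zpowers x : Set G) from rfl,
      show (S : Subgroup G) = Subgroup.zpowers x from rfl] at h
    rw [← h, Subgroup.zpowers_eq_closure, Subgroup.centralizer_closure]

end Cfsg.Agent.S1001
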