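
import Cfsg.Statements.S0977
import Cfsg.Agent.SmallOrder.Rational
import Cfsg.Agent.SmallOrder.Local
import Cfsg.Agent.SmallOrder.ExceptionalOrders
import Cfsg.Agent.S1001

set_option autoImplicit false
open Cfsg

namespace Cfsg.Agent.S0977

/-- The possible values at an involution of a signed character of signed degree `d`. -/
def vals (d : ℤ) : List ℤ :=
  ((List.range 41).map fun i : ℕ => (i : ℤ) - 20).filter fun a =>
    (a - d) % 2 == 0 && decide (a.natAbs ≤ d.natAbs)

/-- The candidates for the order of the centraliser of an involution. -/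
def cents : List ℕ :=
  (List.range 541).filter fun c => c % 2 == 0 && 4320 % c == 0 && c % 5 != 0

/-- No values solve the equation with `k = c ^ 2` and the column bound. -/
def checkInv (D : ℤ × ℤ × ℤ × ℤ) : Bool :=
  (vals D.1).all fun a => (vals D.2.1).all fun b => (vals D.2.2.1).all fun e =>
    let f := -1 - a - b - e
    !(decide (f ∈ vals D.2.2.2)) ||
      (let v := 864 + a * a * (864 / D.1) + b * b * (864 / D.2.1) + e * e * (864 / D.2.2.1) +
        f * f * (864 / D.2.2.2)
       let q := 1 + a * a + b * b + e * e + f * f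
       cents.all fun c => !(v == (c : ℤ) * c && decide (q ≤ (c : ℤ))))

/-- No values other than the degrees solve the equation for a central involution. -/
def checkCentral (D : ℤ × ℤ × ℤ × ℤ) : Bool :=
  (vals D.1).all fun a => (vals D.2.1).all fun b => (vals D.2.2.1).all fun e =>
    let f := -1 - a - b - e
    !(decide (f ∈ vals D.2.2.2)) || a == D.1 || b == D.2.1 || e == D.2.2.1 || f == D.2.2.2 ||
      (let v := 864 + a * a * (864 / D.1) + b * b * (864 / D.2.1) + e * e * (864 / D.2.2.1) +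
        f * f * (864 / D.2.2.2)
       !(v == 0) && cents.all fun c => !(c % 32 == 0) || !(v == (c : ℤ) * c))

theorem checks : checkInv (-24, -9, -4, 36) = true ∧ checkInv (-24, -9, 16, 16) = true ∧
    checkInv (-9, -4, -4, 16) = true ∧ checkCentral (-9, -4, 6, 6) = true := by decide +kernel

theorem degrees : ∀ a ∈ List.range 66, 4320 % a = 0 → a ≠ 1 →
    (a % 5 = 1 → (a : ℤ) ∈ [(-4 : ℤ), 6, -9, 16, -24, 36, -54]) ∧
    (a % 5 = 4 → -(a : ℤ) ∈ [(-4 : ℤ), 6, -9, 16, -24, 36, -54]) := by decide +kernel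

theorem tuples : ∀ a ∈ [(-4 : ℤ), 6, -9, 16, -24, 36, -54], ∀ b ∈ [(-4 : ℤ), 6, -9, 16, -24, 36, -54],
    ∀ c ∈ [(-4 : ℤ), 6, -9, 16, -24, 36, -54], ∀ d ∈ [(-4 : ℤ), 6, -9, 16, -24, 36, -54],
    a ≤ b → b ≤ c → c ≤ d → a + b + c + d = -1 →
    1 + a * a + b * b + c * c + d * d ≤ 4320 →
    (a, b, c, d) ∈ [((-24 : ℤ), (-9 : ℤ), (-4 : ℤ), (36 : ℤ)), (-24, -9, 16, 16), (-9, -4, -4, 16),
      (-9, -4, 6, 6)] := by decide +kernel

theorem mem_vals {a d : ℤ} (h2 : (a - d) % 2 = 0) (hd : a.natAbs ≤ d.natAbs) (hl : -20 ≤ a)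
    (hu : a ≤ 20) : a ∈ vals d := by
  simp only [vals, List.mem_filter, List.mem_map, List.mem_range, beq_iff_eq, Bool.and_eq_true,
    decide_eq_true_eq]
  exact ⟨⟨(a + 20).toNat, by omega, by omega⟩, h2, hd⟩

set_option maxHeartbeats 2000000 in
/-- No finite simple group has order 4320 = 2^5 * 3^3 * 5. -/
theorem result {G : Type*} [Group G] [Finite G] [IsSimpleGroup G] : Nat.card G ≠ 4320 := by
  intro h
  classical
  have := Fintype.ofFinite G
  have h2 : Fact (Nat.Prime 2) := ⟨Nat.prime_two⟩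
  have h5 : Fact (Nat.Prime 5) := ⟨by norm_num⟩
  have hna := SmallOrder.not_comm_of_card (G := G) (by rw [h]; norm_num)
  -- the Sylow five-subgroup
  obtain ⟨g1, g2, g3, -⟩ := SmallOrder.sylow_data (p := 5) (a := 1) (m := 864)
    (by rw [h]; norm_num) one_ne_zero (by norm_num) hna
  obtain ⟨n, hn⟩ : ∃ n, Nat.card (Sylow 5 G) = n := ⟨_, rfl⟩
  rw [hn] at g1 g2 g3
  obtain ⟨S⟩ : Nonempty (Sylow 5 G) := Sylow.nonempty
  set P : Subgroup G := (S : Subgroup G) with hPdef
  have hP : Nat.card P = 5 := by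
    rw [hPdef, SmallOrder.card_sylow_eq_pow (a := 1) (m := 864) (by rw [h]; norm_num) (by norm_num)
      S, pow_one]
  have hC1 : ∀ x : G, orderOf x = 5 → Nat.card (Subgroup.centralizer ({x} : Set G)) = 5 :=
    fun x hx => by
      rw [S1001.result 5 3 5 (by norm_num) (by rw [h]; norm_num) x hx, Nat.card_zpowers, hx]
  obtain ⟨y, hy⟩ := exists_prime_orderOf_dvd_card' (G := P) 5 hP.symm.dvd
  have hyG : orderOf (y : G) = 5 := (Subgroup.orderOf_coe y).trans hy
  have hC : Nat.card (Subgroup.centralizer (P : Set G)) = 5 := by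
    have hyP : Subgroup.zpowers (y : G) = P := by
      refine Subgroup.eq_of_le_of_card_ge (Subgroup.zpowers_le.2 y.2) ?_
      rw [hP, Nat.card_zpowers, hyG]
    rw [← hyP, Subgroup.zpowers_eq_closure, Subgroup.centralizer_closure, hC1 _ hyG]
  obtain ⟨e, he, hNc, he1⟩ := SmallOrder.exists_normalizer_index P
  rw [SmallOrder.card_mulAut_of_prime hP] at he
  have hne : e ≠ 1 := fun hh => SmallOrder.not_normalizer_le_centralizer hna
    (by rw [h]; norm_num) S (he1 hh)
  rw [hC] at hNc
  have hm := SmallOrder.card_sylow_mul_card_normalizer S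
  rw [hn, ← hPdef, hNc, h] at hm
  have hce : n * e = 864 := by linarith
  have hel := Nat.le_of_dvd (by norm_num) he
  obtain ⟨rfl, rfl⟩ : e = 4 ∧ n = 216 := by interval_cases e <;> omega
  have hN : Nat.card (Subgroup.normalizer (P : Set G)) = 5 * (5 - 1) := hNc
  have hG : Nat.card G = 5 * (5 - 1) * 216 := by rw [h]
  obtain ⟨m, hm1, hmsq, hmd, hmz, hminv⟩ := SmallOrder.exists_rational_mult hP hC hN hG
    (by norm_num) (by norm_num)
  set one : IrrCharacter G := ⟨fun _ => 1, Char.isIrrCharacter_one⟩ with hone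
  choose d hd0 hd using fun χ : IrrCharacter G => Char.IsIrr.degree χ.2
  have hd1 : d one = 1 := by
    have h9 := hd one
    change (1 : ℂ) = _ at h9
    exact_mod_cast h9.symm
  set J := Finset.univ.filter fun χ => m χ ≠ 0 ∧ χ ≠ one with hJ
  have hsplit : ∀ f : IrrCharacter G → ℂ, ∑ χ, (m χ : ℂ) * f χ =
      f one + ∑ χ ∈ J, (m χ : ℂ) * f χ := by
    intro f
    rw [← Finset.add_sum_erase _ _ (Finset.mem_univ one), hm1, Int.cast_one, one_mul]
    congr 1
    refine (Finset.sum_subset (fun χ hχ => Finset.mem_erase.2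
      ⟨(Finset.mem_filter.1 hχ).2.2, Finset.mem_univ _⟩) fun χ hχ hn' => ?_).symm
    have : m χ = 0 := by
      by_contra h0
      exact hn' (Finset.mem_filter.2 ⟨Finset.mem_univ _, h0, (Finset.mem_erase.1 hχ).1⟩)
    rw [this, Int.cast_zero, zero_mul]
  have hJsq : ∑ χ ∈ J, m χ ^ 2 = 4 := by
    have h9 := hsplit fun χ => (m χ : ℂ)
    simp only [hm1, Int.cast_one, ← sq] at h9
    have h8 : (∑ χ, m χ ^ 2 : ℤ) = 1 + ∑ χ ∈ J, m χ ^ 2 := by exact_mod_cast h9
    rw [hmsq] at h8
    push_cast at h8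
    linarith
  have hdeg : ∑ χ ∈ J, m χ * (d χ : ℤ) = -1 := by
    have h9 := hsplit fun χ => (χ : G → ℂ) 1
    rw [hmz 1 (by simp)] at h9
    simp only [hd, hd1, Nat.cast_one] at h9
    have h8 : (0 : ℤ) = 1 + ∑ χ ∈ J, m χ * (d χ : ℤ) := by exact_mod_cast h9
    linarith
  have hunit : ∀ χ ∈ J, m χ ^ 2 = 1 := by
    intro χ hχ
    have h0 := (Finset.mem_filter.1 hχ).2.1
    rw [← Finset.add_sum_erase _ _ hχ] at hJsq hdeg
    have hge : 0 ≤ ∑ ψ ∈ J.erase χ, m ψ ^ 2 := Finset.sum_nonneg fun _ _ => sq_nonneg _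
    have h2' : -2 ≤ m χ ∧ m χ ≤ 2 := ⟨by nlinarith, by nlinarith⟩
    by_contra hne
    have hcases : m χ = 2 ∨ m χ = -2 := by
      by_contra hh
      obtain hh' | hh' : m χ = 1 ∨ m χ = -1 := by omega
      all_goals exact hne (by rw [hh']; norm_num)
    have hzero : ∑ ψ ∈ J.erase χ, m ψ ^ 2 = 0 := by rcases hcases with e | e <;> rw [e] at hJsq <;> linarith
    have hall : ∀ ψ ∈ J.erase χ, m ψ * (d ψ : ℤ) = 0 := fun ψ hψ => by
      rw [sq_eq_zero_iff.1 ((Finset.sum_eq_zero_iff_of_nonneg fun _ _ => sq_nonneg _).1 hzero ψ hψ),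
        zero_mul]
    rw [Finset.sum_eq_zero hall, add_zero] at hdeg
    rcases hcases with e | e <;> rw [e] at hdeg <;> omega
  have hJ4 : J.card = 4 := by
    rw [Finset.sum_congr rfl hunit, Finset.sum_const, nsmul_eq_mul, mul_one] at hJsq
    exact_mod_cast hJsq
  -- the four characters, sorted by signed degree
  let ι₀ : Fin 4 ≃ J := (finCongr hJ4.symm).trans J.equivFin.symm
  let D₀ : Fin 4 → ℤ := fun i => m (ι₀ i : IrrCharacter G) * (d (ι₀ i : IrrCharacter G) : ℤ)
  let ι : Fin 4 ≃ J := (Tuple.sort D₀).trans ι₀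
  let ψ : Fin 4 → IrrCharacter G := fun i => (ι i : IrrCharacter G)
  let D : Fin 4 → ℤ := fun i => m (ψ i) * (d (ψ i) : ℤ)
  have hmono : Monotone D := Tuple.monotone_sort D₀
  have hψ : ∀ i, ψ i ∈ J := fun i => (ι i).2
  have hsum : ∀ {R : Type} [inst : AddCommMonoid R] (f : IrrCharacter G → R),
      ∑ χ ∈ J, f χ = f (ψ 0) + f (ψ 1) + f (ψ 2) + f (ψ 3) := by
    intro R inst f
    rw [← Finset.sum_coe_sort J f, ← Equiv.sum_comp ι, Fin.sum_univ_four]
  have hm' : ∀ i, m (ψ i) = 1 ∨ m (ψ i) = -1 := fun i =>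
    sq_eq_one_iff.1 (hunit _ (hψ i))
  -- squares
  have hcol : ∀ t : G, orderOf t = 2 → ∀ a : IrrCharacter G → ℤ,
      (∀ χ : IrrCharacter G, (χ : G → ℂ) t = a χ) →
      1 + ∑ χ ∈ J, a χ ^ 2 ≤ (Nat.card (Subgroup.centralizer ({t} : Set G)) : ℤ) := by
    intro t ht a ha
    have h9 := Char.second_orthogonality t t
    rw [if_pos (IsConj.refl t)] at h9
    simp only [ha, map_intCast] at h9
    have h8 : ∑ χ, a χ * a χ = (Nat.card (Subgroup.centralizer ({t} : Set G)) : ℤ) := by
      exact_mod_cast h9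
    have h1' : a one = 1 := by
      have := ha one
      change (1 : ℂ) = _ at this
      exact_mod_cast this.symm
    rw [← h8, ← Finset.add_sum_erase _ _ (Finset.mem_univ one), h1']
    simp only [← sq, one_pow, add_le_add_iff_left]
    exact Finset.sum_le_sum_of_subset_of_nonneg (fun χ hχ => Finset.mem_erase.2
      ⟨(Finset.mem_filter.1 hχ).2.2, Finset.mem_univ _⟩) fun _ _ _ => sq_nonneg _
  have hsq : 1 + ∑ χ ∈ J, (d χ : ℤ) ^ 2 ≤ 4320 := by
    have h9 := Char.sum_sq_degree (G := G)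
    simp only [hd, h] at h9
    have h8 : ∑ χ, (d χ : ℤ) ^ 2 = 4320 := by exact_mod_cast h9
    rw [← h8, ← Finset.add_sum_erase _ _ (Finset.mem_univ one), hd1]
    simp only [Nat.cast_one, one_pow, add_le_add_iff_left]
    exact Finset.sum_le_sum_of_subset_of_nonneg (fun χ hχ => Finset.mem_erase.2
      ⟨(Finset.mem_filter.1 hχ).2.2, Finset.mem_univ _⟩) fun _ _ _ => sq_nonneg _
  have hDmem : ∀ i, D i ∈ [(-4 : ℤ), 6, -9, 16, -24, 36, -54] := by
    intro i
    have hdv : d (ψ i) ∣ 4320 := h ▸ Char.IsIrr.degree_dvd_card (ψ i).2 (hd _)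
    have hne1 : d (ψ i) ≠ 1 := fun e1 => (Finset.mem_filter.1 (hψ i)).2.2 (Subtype.ext
      (SmallOrder.linear_trivial hna (ψ i) (by rw [hd, e1, Nat.cast_one])))
    have hlt : d (ψ i) < 66 := by
      have h9 := Finset.single_le_sum (f := fun χ => (d χ : ℤ) ^ 2)
        (fun _ _ => sq_nonneg _) (hψ i)
      by_contra! hh
      have : ((66 : ℕ) : ℤ) ^ 2 ≤ (d (ψ i) : ℤ) ^ 2 :=
        pow_le_pow_left₀ (by norm_num) (by exact_mod_cast hh) 2
      norm_num at this
      linarith
    have hcong := hmd (ψ i) (d (ψ i)) (hd _)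
    obtain ⟨c1, c2⟩ := degrees _ (List.mem_range.2 hlt) (Nat.mod_eq_zero_of_dvd hdv) hne1
    rcases hm' i with e1 | e1 <;> simp only [D, e1, one_mul, neg_one_mul] <;> rw [e1] at hcong
    · exact c1 (by omega)
    · exact c2 (by omega)
  have hS := tuples _ (hDmem 0) _ (hDmem 1) _ (hDmem 2) _ (hDmem 3) (hmono (by decide))
    (hmono (by decide)) (hmono (by decide)) (by rw [← hdeg, hsum]) (by
      refine le_trans (le_of_eq ?_) hsq
      rw [hsum]
      simp only [D]
      rcases hm' 0 with e0 | e0 <;> rcases hm' 1 with e1 | e1 <;> rcases hm' 2 with e2 | e2 <;>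
        rcases hm' 3 with e3 | e3 <;> rw [e0, e1, e2, e3] <;> ring)
  -- the values at an involution
  have hvalues : ∀ t : G, orderOf t = 2 → ∃ (A : Fin 4 → ℤ) (k : ℕ),
      (k = 0 ∨ k = Nat.card (Subgroup.centralizer ({t} : Set G)) ^ 2) ∧
      ((∃ g w : G, orderOf g = 5 ∧ (w * t * w⁻¹) * g * (w * t * w⁻¹)⁻¹ = g⁻¹) →
        k = Nat.card (Subgroup.centralizer ({t} : Set G)) ^ 2) ∧
      (∀ i, A i ∈ vals (D i) ∧ A i ≠ D i) ∧ A 3 = -1 - A 0 - A 1 - A 2 ∧
      1 + A 0 * A 0 + A 1 * A 1 + A 2 * A 2 + A 3 * A 3 ≤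
        (Nat.card (Subgroup.centralizer ({t} : Set G)) : ℤ) ∧
      864 + A 0 * A 0 * (864 / D 0) + A 1 * A 1 * (864 / D 1) + A 2 * A 2 * (864 / D 2) +
        A 3 * A 3 * (864 / D 3) = (k : ℤ) := by
    intro t ht
    choose a ha using fun χ : IrrCharacter G =>
      SmallOrder.exists_int_apply_involution (Char.IsIrr.isCharacter χ.2) ht
    obtain ⟨k, hk, hk', heq⟩ := hminv t ht
    have hbound : Nat.card (Subgroup.centralizer ({t} : Set G)) < 441 := by
      have hne : Subgroup.centralizer ({t} : Set G) ≠ ⊤ := fun e => by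
        have : t ∈ Subgroup.center G := Subgroup.mem_center_iff.2 fun g =>
          Subgroup.mem_centralizer_singleton_iff.1 (e ▸ Subgroup.mem_top g : g ∈ _)
        rw [SmallOrder.center_eq_bot hna, Subgroup.mem_bot] at this
        rw [this, orderOf_one] at ht
        omega
      have hd' := SmallOrder.two_mul_card_dvd hna _ hne
      have hmi := (Subgroup.centralizer ({t} : Set G)).card_mul_index
      rw [h] at hmi hd'
      have h5c : ¬ 5 ∣ Nat.card (Subgroup.centralizer ({t} : Set G)) := fun h5' => by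
        obtain ⟨x, hx⟩ := exists_prime_orderOf_dvd_card' 5 h5'
        have hxG : orderOf (x : G) = 5 := (Subgroup.orderOf_coe x).trans hx
        have hmem : t ∈ Subgroup.centralizer ({(x : G)} : Set G) :=
          Subgroup.mem_centralizer_singleton_iff.2
            (Subgroup.mem_centralizer_singleton_iff.1 x.2).symm
        have := Subgroup.orderOf_dvd_natCard _ hmem
        rw [hC1 _ hxG, ht] at this
        norm_num at this
      have h9 : 9 ≤ (Subgroup.centralizer ({t} : Set G)).index := by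
        by_contra! hlt
        interval_cases (Subgroup.centralizer ({t} : Set G)).index <;> norm_num [Nat.factorial] at hd'
      by_contra! hlt
      have h10 : (Subgroup.centralizer ({t} : Set G)).index ≤ 9 := by nlinarith
      rw [show (Subgroup.centralizer ({t} : Set G)).index = 9 by omega] at hmi
      omega
    have hc := hcol t ht a ha
    rw [hsum] at hc
    refine ⟨fun i => m (ψ i) * a (ψ i), k, hk, hk', fun i => ⟨mem_vals ?_ ?_ ?_ ?_, ?_⟩, ?_, ?_, ?_⟩
    · -- parity
      have hpar : (2 : ℤ) ∣ (d (ψ i) : ℤ) - a (ψ i) := by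
        obtain ⟨j, hj⟩ := Char.classInner_isCharacter_eq_natCast
          (Char.isCharacter_res (Subgroup.zpowers t) (Char.IsIrr.isCharacter (ψ i).2))
          (Char.isCharacter_one (G := Subgroup.zpowers t))
        have hcard : Nat.card (Subgroup.zpowers t) = 2 := by rw [Nat.card_zpowers, ht]
        have hu : ∀ u : Subgroup.zpowers t, u ≠ 1 → (u : G) = t := fun u hu => by
          obtain ⟨z, hz⟩ := Subgroup.mem_zpowers_iff.1 u.2
          rcases Int.even_or_odd' z with ⟨w, rfl | rfl⟩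
          · refine absurd (Subtype.ext ?_) hu
            rw [← hz, zpow_mul, zpow_ofNat, ← ht, pow_orderOf_eq_one, one_zpow]
            rfl
          · rw [← hz, zpow_add, zpow_one, zpow_mul, zpow_ofNat, ← ht, pow_orderOf_eq_one, one_zpow,
              one_mul]
        have hs : (d (ψ i) : ℂ) + (a (ψ i) : ℂ) = 2 * (j : ℂ) := by
          rw [← hj, classInner, hcard, Nat.cast_ofNat, mul_inv_cancel_left₀ two_ne_zero,
            ← Finset.add_sum_erase _ _ (Finset.mem_univ (1 : Subgroup.zpowers t)),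
            Finset.sum_congr rfl (g := fun _ => (a (ψ i) : ℂ)) fun u hu' => by
              rw [map_one, mul_one, hu u (Finset.ne_of_mem_erase hu'), ha],
            Finset.sum_const, Finset.card_erase_of_mem (Finset.mem_univ _), Finset.card_univ,
            ← Nat.card_eq_fintype_card, hcard]
          simp [hd]
        have hs' : (d (ψ i) : ℤ) + a (ψ i) = 2 * (j : ℤ) := by exact_mod_cast hs
        exact ⟨(j : ℤ) - a (ψ i), by linarith⟩
      rcases hm' i with e1 | e1 <;> simp only [D, e1, one_mul, neg_one_mul] <;> omega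
    · have h9 := Char.IsChar.norm_le (Char.IsIrr.isCharacter (ψ i).2) t
      rw [ha, hd, Complex.natCast_re, Complex.norm_intCast] at h9
      have h8 : ((a (ψ i)).natAbs : ℝ) ≤ (d (ψ i) : ℝ) := by rwa [Nat.cast_natAbs, Int.cast_abs]
      have h7 : (a (ψ i)).natAbs ≤ d (ψ i) := by exact_mod_cast h8
      rcases hm' i with e1 | e1 <;> simp only [D, e1, one_mul, neg_one_mul] <;> omega
    · have h9 : a (ψ i) ^ 2 < 441 := by
        have := Finset.single_le_sum (f := fun χ => a χ ^ 2) (fun _ _ => sq_nonneg _) (hψ i)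
        rw [hsum] at this
        have : (Nat.card (Subgroup.centralizer ({t} : Set G)) : ℤ) < 441 := by exact_mod_cast hbound
        linarith
      rcases hm' i with e1 | e1 <;> simp only [e1, one_mul, neg_one_mul] <;> nlinarith
    · have h9 : a (ψ i) ^ 2 < 441 := by
        have := Finset.single_le_sum (f := fun χ => a χ ^ 2) (fun _ _ => sq_nonneg _) (hψ i)
        rw [hsum] at this
        have : (Nat.card (Subgroup.centralizer ({t} : Set G)) : ℤ) < 441 := by exact_mod_cast hbound
        linarith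
      rcases hm' i with e1 | e1 <;> simp only [e1, one_mul, neg_one_mul] <;> nlinarith
    · -- the kernel is trivial
      intro e1
      have hh : (ψ i : G → ℂ) t = (ψ i : G → ℂ) 1 := by
        rw [ha, hd]
        have : a (ψ i) = (d (ψ i) : ℤ) := by
          rcases hm' i with e2 | e2 <;> simp only [D, e2, one_mul, neg_one_mul] at e1 <;> omega
        rw [this, Int.cast_natCast]
      have hch := Char.IsIrr.isCharacter (ψ i).2
      rcases (Subgroup.Normal.eq_bot_or_eq_top (H := Char.kerSubgroup hch) inferInstance) with h0 | h0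
      · have hmem : t ∈ Char.kerSubgroup hch := (Char.mem_kerSubgroup hch).2 hh
        rw [h0, Subgroup.mem_bot] at hmem
        rw [hmem, orderOf_one] at ht
        omega
      · have hall : ∀ g, (ψ i : G → ℂ) g = (ψ i : G → ℂ) 1 := fun g =>
          (Char.mem_kerSubgroup hch).1 (h0 ▸ Subgroup.mem_top g)
        have h9 := Char.classInner_irr_ne (ψ i).2 (Char.isIrrCharacter_one (G := G))
          fun e2 => (Finset.mem_filter.1 (hψ i)).2.2 (Subtype.ext e2)
        simp only [classInner, hall, map_one, mul_one, Finset.sum_const, Finset.card_univ,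
          nsmul_eq_mul, ← Nat.card_eq_fintype_card, ← mul_assoc] at h9
        rw [inv_mul_cancel₀ Char.card_ne_zero, one_mul] at h9
        exact Char.IsIrr.one_ne_zero (ψ i).2 h9
    · have h9 := hsplit fun χ => (χ : G → ℂ) t
      rw [hmz t (by rw [ht]; norm_num), hsum] at h9
      have h1' : a one = 1 := by
        have := ha one
        change (1 : ℂ) = _ at this
        exact_mod_cast this.symm
      simp only [ha, h1', Int.cast_one] at h9
      have h8 : (0 : ℤ) = 1 + (m (ψ 0) * a (ψ 0) + m (ψ 1) * a (ψ 1) + m (ψ 2) * a (ψ 2) +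
          m (ψ 3) * a (ψ 3)) := by exact_mod_cast h9
      linarith
    · rcases hm' 0 with e0 | e0 <;> rcases hm' 1 with e1 | e1 <;> rcases hm' 2 with e2 | e2 <;>
        rcases hm' 3 with e3 | e3 <;> simp only [e0, e1, e2, e3] <;> linarith
    · rw [hsplit, hsum] at heq
      have h1' : (one : G → ℂ) t ^ 2 / (one : G → ℂ) 1 = 1 := by simp [hone]
      simp only [h1'] at heq
      simp only [ha, hd, h] at heq
      have hkey : ∀ i, ((m (ψ i) * a (ψ i) * (m (ψ i) * a (ψ i)) * (864 / D i) : ℤ) : ℂ) =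
          864 * ((m (ψ i) : ℂ) * ((a (ψ i) : ℂ) ^ 2 / (d (ψ i) : ℂ))) := by
        intro i
        have hdv : D i ∣ 864 := (show ∀ v ∈ [(-4 : ℤ), 6, -9, 16, -24, 36, -54], v ∣ 864 by
          decide +kernel) _ (hDmem i)
        obtain ⟨q, hq⟩ := hdv
        have hD0 : D i ≠ 0 := fun e1 => by rw [e1, zero_mul] at hq; norm_num at hq
        rw [hq, Int.mul_ediv_cancel_left _ hD0]
        have hq' : (864 : ℂ) = (m (ψ i) : ℂ) * (d (ψ i) : ℂ) * (q : ℂ) := by exact_mod_cast hq
        have hd' : (d (ψ i) : ℂ) ≠ 0 := Nat.cast_ne_zero.2 (hd0 _).ne'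
        push_cast
        rw [hq']
        field_simp
      have : ((864 + m (ψ 0) * a (ψ 0) * (m (ψ 0) * a (ψ 0)) * (864 / D 0) +
          m (ψ 1) * a (ψ 1) * (m (ψ 1) * a (ψ 1)) * (864 / D 1) +
          m (ψ 2) * a (ψ 2) * (m (ψ 2) * a (ψ 2)) * (864 / D 2) +
          m (ψ 3) * a (ψ 3) * (m (ψ 3) * a (ψ 3)) * (864 / D 3) : ℤ) : ℂ) = ((k : ℤ) : ℂ) := by
        rw [Int.cast_add, Int.cast_add, Int.cast_add, Int.cast_add, hkey, hkey, hkey, hkey,
          Int.cast_natCast, Int.cast_ofNat]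
        linear_combination (864 : ℂ) * heq
      exact_mod_cast this
  have hcents : ∀ t : G, orderOf t = 2 →
      Nat.card (Subgroup.centralizer ({t} : Set G)) ∈ cents := by
    intro t ht
    obtain ⟨c, hc⟩ : ∃ c, Nat.card (Subgroup.centralizer ({t} : Set G)) = c := ⟨_, rfl⟩
    have hdc : c ∣ 4320 := by rw [← hc, ← h]; exact Subgroup.card_subgroup_dvd_card _
    have h2c : 2 ∣ c := by
      rw [← hc, ← ht]
      exact Subgroup.orderOf_dvd_natCard _ (Subgroup.mem_centralizer_singleton_iff.2 rfl)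
    have h5c : ¬ 5 ∣ c := fun h5' => by
      obtain ⟨x, hx⟩ := exists_prime_orderOf_dvd_card'
        (G := Subgroup.centralizer ({t} : Set G)) 5 (hc.symm ▸ h5')
      have hxG : orderOf (x : G) = 5 := (Subgroup.orderOf_coe x).trans hx
      have hmem : t ∈ Subgroup.centralizer ({(x : G)} : Set G) :=
        Subgroup.mem_centralizer_singleton_iff.2
          (Subgroup.mem_centralizer_singleton_iff.1 x.2).symm
      have := Subgroup.orderOf_dvd_natCard _ hmem
      rw [hC1 _ hxG, ht] at this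
      norm_num at this
    have hle : c ≤ 540 := by
      have hne : Subgroup.centralizer ({t} : Set G) ≠ ⊤ := fun e => by
        have : t ∈ Subgroup.center G := Subgroup.mem_center_iff.2 fun g =>
          Subgroup.mem_centralizer_singleton_iff.1 (e ▸ Subgroup.mem_top g : g ∈ _)
        rw [SmallOrder.center_eq_bot hna, Subgroup.mem_bot] at this
        rw [this, orderOf_one] at ht
        omega
      have hd' := SmallOrder.two_mul_card_dvd hna _ hne
      have hmi := (Subgroup.centralizer ({t} : Set G)).card_mul_index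
      rw [h, hc] at hmi
      rw [h] at hd'
      have h8 : 8 ≤ (Subgroup.centralizer ({t} : Set G)).index := by
        by_contra! hlt
        interval_cases (Subgroup.centralizer ({t} : Set G)).index <;> norm_num [Nat.factorial] at hd'
      nlinarith
    rw [hc]
    simp only [cents, List.mem_filter, List.mem_range, beq_iff_eq, bne_iff_ne, Bool.and_eq_true]
    exact ⟨by omega, ⟨by omega, Nat.mod_eq_zero_of_dvd hdc⟩, by omega⟩
  obtain ⟨hc1, hc2, hc3, hc4⟩ := checks
  -- an involution inverting an element of order five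
  obtain ⟨t, ht, hinv⟩ := SmallOrder.exists_inverting hP hC hN hG (by norm_num) (by norm_num) hyG
  obtain ⟨A, k, -, hk, hA, hA3, hAc, hAe⟩ := hvalues t ht
  have hk2 := hk ⟨(y : G), 1, hyG, by rw [one_mul, inv_one, mul_one]; exact hinv⟩
  subst hk2
  have hkill : ∀ a b c e : ℤ, D 0 = a → D 1 = b → D 2 = c → D 3 = e →
      checkInv (a, b, c, e) = true → False := by
    rintro _ _ _ _ rfl rfl rfl rfl hchk
    simp only [checkInv, List.all_eq_true] at hchk
    have h9 := hchk _ (hA 0).1 _ (hA 1).1 _ (hA 2).1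
    simp only [← hA3, decide_eq_true (hA 3).1, Bool.not_true, Bool.false_or, List.all_eq_true] at h9
    have h8 := h9 _ (hcents t ht)
    simp only [Bool.not_eq_true', Bool.and_eq_false_iff, decide_eq_false_iff_not, beq_eq_false_iff_ne]
      at h8
    rcases h8 with h8 | h8
    · exact h8 (by rw [hAe]; push_cast; ring)
    · exact h8 hAc
  simp only [List.mem_cons, List.not_mem_nil, or_false, Prod.mk.injEq] at hS
  rcases hS with ⟨e0, e1, e2, e3⟩ | ⟨e0, e1, e2, e3⟩ | ⟨e0, e1, e2, e3⟩ | ⟨e0, e1, e2, e3⟩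
  · exact hkill _ _ _ _ e0 e1 e2 e3 hc1
  · exact hkill _ _ _ _ e0 e1 e2 e3 hc2
  · exact hkill _ _ _ _ e0 e1 e2 e3 hc3
  -- a central involution
  obtain ⟨T⟩ : Nonempty (Sylow 2 G) := Sylow.nonempty
  obtain ⟨z, -, hz, hTz⟩ := SmallOrder.exists_central_involution_sylow (by rw [h]; norm_num) T
  have h32 := Subgroup.card_dvd_of_le hTz
  rw [SmallOrder.card_sylow_eq_pow (a := 5) (m := 135) (by rw [h]; norm_num) (by norm_num) T] at h32
  obtain ⟨B, j, hj, -, hB, hB3, -, hBe⟩ := hvalues z hz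
  simp only [checkCentral, List.all_eq_true] at hc4
  have h9 := hc4 _ (e0 ▸ (hB 0).1) _ (e1 ▸ (hB 1).1) _ (e2 ▸ (hB 2).1)
  have n0 := (hB 0).2
  have n1 := (hB 1).2
  have n2 := (hB 2).2
  have n3 := (hB 3).2
  have m3 := (hB 3).1
  rw [e0] at n0 hBe
  rw [e1] at n1 hBe
  rw [e2] at n2 hBe
  rw [e3] at n3 hBe m3
  simp only [← hB3, decide_eq_true m3, Bool.not_true, Bool.false_or, beq_eq_false_iff_ne.2 n0,
    beq_eq_false_iff_ne.2 n1, beq_eq_false_iff_ne.2 n2, beq_eq_false_iff_ne.2 n3, hBe,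
    Bool.and_eq_true, List.all_eq_true, Bool.not_eq_true', beq_eq_false_iff_ne] at h9
  rcases hj with rfl | rfl
  · exact h9.1 (by norm_num)
  · have h8 := h9.2 _ (hcents z hz)
    simp only [Bool.or_eq_true, Bool.not_eq_true', beq_eq_false_iff_ne] at h8
    rcases h8 with h8 | h8
    · exact h8 (Nat.mod_eq_zero_of_dvd h32)
    · exact h8 (by push_cast; ring)

end Cfsg.Agent.S0977
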