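import Cfsg.Statements.S1010
import Cfsg.Agent.Fg24.TwentyOne.Main
import Mathlib

/-!
S1010: no finite group has exactly 21 Sylow 5-subgroups.
A minimal counterexample is generated by its Sylow 5-subgroups and acts faithfully on them by even
permutations. Pigeonholing on lines forces order 5, the Sylow 7-normaliser forces 8 to divide the
point stabiliser, and then some involution is an odd permutation.
-/

set_option autoImplicit false
open Cfsg

namespace Cfsg.Agent.S1010

universe u

theorem aux : ∀ (n : ℕ) (G : Type u) [Group G] [Finite G],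
    Nat.card G = n → Nat.card (Sylow 5 G) ≠ 21 := by
  intro n
  induction n using Nat.strong_induction_on with
  | _ n ih =>
  intro G _ _ hn h21
  subst hn
  haveI : Fact (Nat.Prime 5) := ⟨by norm_num⟩
  -- generated by the Sylow 5-subgroups
  have hgen : ∀ H : Subgroup G, (∀ P : Sylow 5 G, (P : Subgroup G) ≤ H) → H = ⊤ := by
    intro H hH
    by_contra hne
    have hlt : Nat.card H < Nat.card G :=
      lt_of_le_of_ne (Subgroup.card_le_card_group H) fun e => hne (Subgroup.eq_top_of_card_eq H e)
    refine ih _ hlt H rfl ?_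
    refine Eq.trans ?_ h21
    refine (Nat.card_congr (Equiv.ofBijective (fun P : Sylow 5 G => P.subtype (hH P)) ⟨?_, ?_⟩)).symm
    · intro P Q h
      exact Sylow.subtype_injective h
    · intro S
      obtain ⟨Q, hQ⟩ := (S.isPGroup'.map H.subtype).exists_le_sylow
      refine ⟨Q, Sylow.ext (S.3 (Q.subtype (hH Q)).isPGroup' ?_)⟩
      intro x hx
      exact hQ ⟨x, hx, rfl⟩
  -- faithful on them
  have hfaith : ∀ g : G, (∀ Q : Sylow 5 G, g • Q = Q) → g = 1 := by
    intro g hg
    set f := MulAction.toPermHom G (Sylow 5 G) with hf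
    by_contra hne
    have hgk : g ∈ f.ker := by rw [MonoidHom.mem_ker]; exact Equiv.ext hg
    have hlt : Nat.card f.range < Nat.card G := by
      have h1 : Nat.card f.ker * Nat.card f.range = Nat.card G := by
        rw [← Subgroup.index_ker]; exact f.ker.card_mul_index
      haveI : Nontrivial f.ker := ⟨⟨⟨g, hgk⟩, 1, fun e => hne (congrArg Subtype.val e)⟩⟩
      have h2 : 1 < Nat.card f.ker := Finite.one_lt_card
      rw [← h1]
      exact lt_mul_of_one_lt_left Nat.card_pos h2
    let e : G ⧸ f.ker ≃* f.range := QuotientGroup.quotientKerEquivRange f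
    refine ih _ hlt (G ⧸ f.ker) (Nat.card_congr e.toEquiv) ?_
    refine Eq.trans ?_ h21
    have hsurj : Function.Surjective (QuotientGroup.mk' f.ker) := QuotientGroup.mk'_surjective _
    refine (Nat.card_congr (Equiv.ofBijective (Sylow.mapSurjective hsurj) ⟨?_, ?_⟩)).symm
    · intro P Q hPQ
      have hQ : (Q : Subgroup G) ≤ (P : Subgroup G) ⊔ f.ker := by
        have h1 : (P : Subgroup G).map (QuotientGroup.mk' f.ker) =
            (Q : Subgroup G).map (QuotientGroup.mk' f.ker) := by
          simpa only [Sylow.coe_mapSurjective] using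
            congrArg (fun S : Sylow 5 (G ⧸ f.ker) => (S : Subgroup (G ⧸ f.ker))) hPQ
        rw [Subgroup.map_eq_map_iff, QuotientGroup.ker_mk'] at h1
        rw [h1]
        exact le_sup_left
      have hN : (P : Subgroup G) ⊔ f.ker ≤ Subgroup.normalizer ((P : Subgroup G) : Set G) :=
        sup_le Subgroup.le_normalizer fun k hk => Sylow.smul_eq_iff_mem_normalizer.1
          (by simpa [hf] using congrArg (fun s : Equiv.Perm (Sylow 5 G) => s P) (MonoidHom.mem_ker.1 hk))
      have h1 : (Q : Subgroup G) ⊓ Subgroup.normalizer (P : Set G) = (Q : Subgroup G) :=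
        inf_eq_left.2 (hQ.trans hN)
      rw [Q.isPGroup'.inf_normalizer_sylow, inf_eq_left] at h1
      exact Sylow.ext (Q.3 P.2 h1)
    · exact Sylow.mapSurjective_surjective hsurj 5
  exact Fg24.TwentyOne.false_of_ctx ⟨h21, hfaith, hgen⟩

/-- No finite group has exactly twenty-one Sylow 5-subgroups. -/
theorem result {G : Type*} [Group G] [Finite G] : Nat.card (Sylow 5 G) ≠ 21 :=
  aux _ G rfl

end Cfsg.Agent.S1010
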