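
import Cfsg.Statements.S0978
import Cfsg.Agent.SmallOrder.Order5040
import Cfsg.Agent.SmallOrder.Table5040

set_option autoImplicit false
open Cfsg

namespace Cfsg.Agent.S0978

open Cfsg.Agent.SmallOrder

universe u

set_option maxHeartbeats 1000000 in
/-- The self-centralising case, by the characters at an inverting involution. -/
theorem case_seven {G : Type u} [Group G] [Finite G] [IsSimpleGroup G]
    (hna : ¬ IsMulCommutative G) (h : Nat.card G = 5040) [Fact (Nat.Prime 7)] (P : Sylow 7 G)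
    {y : G} (hy : orderOf y = 7) (hyP : Subgroup.zpowers y = (P : Subgroup G))
    (hN : Nat.card (Subgroup.normalizer ((P : Subgroup G) : Set G)) = 42)
    (hC : Nat.card (Subgroup.centralizer ({y} : Set G)) = 7) : False := by
  classical
  have := Fintype.ofFinite G
  have hP : Nat.card (P : Subgroup G) = 7 := by rw [← hyP, Nat.card_zpowers, hy]
  have hCP : Nat.card (Subgroup.centralizer ((P : Subgroup G) : Set G)) = 7 := by
    rw [← hyP, Subgroup.zpowers_eq_closure, Subgroup.centralizer_closure, hC]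
  have hN' : Nat.card (Subgroup.normalizer ((P : Subgroup G) : Set G)) = 7 * (7 - 1) := hN
  have hG : Nat.card G = 7 * (7 - 1) * 120 := by rw [h]
  obtain ⟨m, hm1, hmsq, hmd, hmz, hminv⟩ := exists_rational_mult hP hCP hN' hG
    (by norm_num) (by norm_num)
  set one : IrrCharacter G := ⟨fun _ => 1, Char.isIrrCharacter_one⟩ with hone
  choose d hd0 hd using fun χ : IrrCharacter G => Char.IsIrr.degree χ.2
  have hd1 : d one = 1 := by
    have h9 := hd one
    change (1 : ℂ) = _ at h9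
    exact_mod_cast h9.symm
  set J := Finset.univ.filter fun χ => m χ ≠ 0 ∧ χ ≠ one with hJ
  have hJone : one ∉ J := fun hh => (Finset.mem_filter.1 hh).2.2 rfl
  have hsplit : ∀ f : IrrCharacter G → ℂ, ∑ χ, (m χ : ℂ) * f χ =
      f one + ∑ χ ∈ J, (m χ : ℂ) * f χ := by
    intro f
    rw [← Finset.add_sum_erase _ _ (Finset.mem_univ one), hm1, Int.cast_one, one_mul]
    congr 1
    refine (Finset.sum_subset (fun χ hχ => Finset.mem_erase.2
      ⟨(Finset.mem_filter.1 hχ).2.2, Finset.mem_univ _⟩) fun χ hχ hn' => ?_).symm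
    have : m χ = 0 := by
      by_contra h0
      exact hn' (Finset.mem_filter.2 ⟨Finset.mem_univ _, h0, (Finset.mem_erase.1 hχ).1⟩)
    rw [this, Int.cast_zero, zero_mul]
  set O := Finset.univ \ (insert one J) with hO
  have hsum3 : ∀ g : IrrCharacter G → ℤ, ∑ χ, g χ = g one + ∑ χ ∈ J, g χ + ∑ χ ∈ O, g χ := by
    intro g
    rw [← Finset.sum_sdiff (Finset.subset_univ (insert one J)), Finset.sum_insert hJone, ← hO,
      add_comm]
  have hJsq : ∑ χ ∈ J, m χ ^ 2 = 6 := by
    have h9 := hsplit fun χ => (m χ : ℂ)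
    simp only [hm1, Int.cast_one, ← sq] at h9
    have h8 : (∑ χ, m χ ^ 2 : ℤ) = 1 + ∑ χ ∈ J, m χ ^ 2 := by exact_mod_cast h9
    rw [hmsq] at h8
    push_cast at h8
    linarith
  have hsqd : (∑ χ ∈ J, (d χ : ℤ) ^ 2) + ∑ χ ∈ O, (d χ : ℤ) ^ 2 = 5039 := by
    have h9 := Char.sum_sq_degree (G := G)
    simp only [hd, h] at h9
    have h8 : ∑ χ, (d χ : ℤ) ^ 2 = 5040 := by exact_mod_cast h9
    rw [hsum3, hd1, Nat.cast_one, one_pow] at h8
    linarith
  -- the terms
  let f : IrrCharacter G → ℤ × ℕ := fun χ => (m χ, d χ)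
  have hterm : ∀ χ ∈ J, f χ ∈ Table5040.terms := by
    intro χ hχ
    have hdv : d χ ∣ 5040 := h ▸ Char.IsIrr.degree_dvd_card χ.2 (hd _)
    have hne1 : d χ ≠ 1 := fun e1 => (Finset.mem_filter.1 hχ).2.2 (Subtype.ext
      (linear_trivial hna χ (by rw [hd, e1, Nat.cast_one])))
    have hlt : d χ < 71 := by
      have h9 := Finset.single_le_sum (f := fun χ => (d χ : ℤ) ^ 2) (fun _ _ => sq_nonneg _) hχ
      have h8 : 0 ≤ ∑ χ ∈ O, (d χ : ℤ) ^ 2 := Finset.sum_nonneg fun _ _ => sq_nonneg _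
      by_contra! hh
      have : ((71 : ℕ) : ℤ) ^ 2 ≤ (d χ : ℤ) ^ 2 :=
        pow_le_pow_left₀ (by norm_num) (by exact_mod_cast hh) 2
      norm_num at this
      linarith
    have hm0 := (Finset.mem_filter.1 hχ).2.1
    have hm6 : m χ ^ 2 ≤ 6 :=
      hJsq ▸ Finset.single_le_sum (f := fun χ => m χ ^ 2) (fun _ _ => sq_nonneg _) hχ
    have hm2 : -2 ≤ m χ ∧ m χ ≤ 2 := ⟨by nlinarith, by nlinarith⟩
    have hcong := hmd χ (d χ) (hd _)
    refine Table5040.mem_terms (d χ) (List.mem_range.2 hlt) (Nat.mod_eq_zero_of_dvd hdv) hne1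
      (m χ) ?_ (by omega)
    simp only [List.mem_cons, List.not_mem_nil, or_false]
    omega
  set L := J.toList.map f with hL
  obtain ⟨L', hL', hperm⟩ := Table5040.gen_complete Table5040.terms 6 L
    (fun a ha => by
      obtain ⟨χ, hχ, rfl⟩ := List.mem_map.1 ha
      exact hterm χ (Finset.mem_toList.1 hχ))
    (fun a ha => by
      obtain ⟨χ, hχ, rfl⟩ := List.mem_map.1 ha
      exact (Table5040.terms_dvd _ (hterm χ (Finset.mem_toList.1 hχ))).2) (by
      rw [hL, List.map_map, Finset.sum_map_toList]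
      have : ((∑ χ ∈ J, Table5040.wt (f χ) : ℕ) : ℤ) = ((6 : ℕ) : ℤ) := by
        rw [Nat.cast_sum]
        simp only [Table5040.wt, f, Nat.cast_mul, Int.natAbs_mul_self']
        rw [Finset.sum_congr rfl fun χ _ => (sq (m χ)).symm, hJsq]
        rfl
      exact_mod_cast this)
  obtain ⟨l, hl, hlmap⟩ := Table5040.exists_perm_map f hperm
  have hlJ : ∀ χ ∈ l, χ ∈ J := fun χ hχ => Finset.mem_toList.1 (hl.subset hχ)
  have hlsum : ∀ {R : Type} [inst : AddCommMonoid R] (g : IrrCharacter G → R),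
      (l.map g).sum = ∑ χ ∈ J, g χ := by
    intro R inst g
    rw [(hl.map g).sum_eq, Finset.sum_map_toList]
  have hgood : Table5040.good L' = true := List.all_eq_true.1 Table5040.check L' hL'
  rw [← hlmap] at hgood
  simp only [Table5040.good, Bool.or_eq_true, bne_iff_ne, decide_eq_true_eq, List.map_map,
    Function.comp_def, hlsum, f] at hgood
  rcases hgood with (hg | hg) | hg
  · refine hg ?_
    have h9 := hsplit fun χ => (χ : G → ℂ) 1
    rw [hmz 1 (by simp)] at h9
    simp only [hd, hd1, Nat.cast_one] at h9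
    have h8 : (0 : ℤ) = 1 + ∑ χ ∈ J, m χ * (d χ : ℤ) := by exact_mod_cast h9
    linarith
  · have h8 : 0 ≤ ∑ χ ∈ O, (d χ : ℤ) ^ 2 := Finset.sum_nonneg fun _ _ => sq_nonneg _
    have h7 : ((1 + ∑ χ ∈ J, d χ * d χ : ℕ) : ℤ) ≤ ((5040 : ℕ) : ℤ) := by
      push_cast
      simp only [← sq]
      linarith
    exact absurd (Int.ofNat_le.1 h7) (by omega)
  -- the inverting involution
  obtain ⟨t, ht, hinv⟩ := exists_inverting hP hCP hN' hG (by norm_num) (by norm_num) hy
  obtain ⟨k, -, hk, heq⟩ := hminv t ht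
  have hk' := hk ⟨y, 1, hy, by rw [one_mul, inv_one, mul_one]; exact hinv⟩
  obtain ⟨c, hc⟩ : ∃ c, Nat.card (Subgroup.centralizer ({t} : Set G)) = c := ⟨_, rfl⟩
  rw [hc] at hk'
  subst hk'
  have hcdvd : c ∣ 720 := by
    have h9 : c ∣ 7 * 720 := by
      rw [← hc, show 7 * 720 = Nat.card G by rw [h]]
      exact Subgroup.card_subgroup_dvd_card _
    refine Nat.Coprime.dvd_of_dvd_mul_left ?_ h9
    rw [Nat.coprime_comm, Nat.Prime.coprime_iff_not_dvd (by norm_num)]
    intro h7
    obtain ⟨x, hx⟩ := exists_prime_orderOf_dvd_card'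
      (G := Subgroup.centralizer ({t} : Set G)) 7 (hc.symm ▸ h7)
    have hxG : orderOf (x : G) = 7 := (Subgroup.orderOf_coe x).trans hx
    have hmem : t ∈ Subgroup.centralizer ({(x : G)} : Set G) :=
      Subgroup.mem_centralizer_singleton_iff.2
        (Subgroup.mem_centralizer_singleton_iff.1 x.2).symm
    have := Subgroup.orderOf_dvd_natCard _ hmem
    rw [card_centralizer_orderOf hP hCP hN' hG (by norm_num) hxG, ht] at this
    norm_num at this
  have hc2 : 2 ∣ c := hc ▸ ht ▸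
    Subgroup.orderOf_dvd_natCard _ (Subgroup.mem_centralizer_singleton_iff.2 rfl)
  have hc720 : c < 720 := by
    have h9 := Nat.le_of_dvd (by norm_num) hcdvd
    refine lt_of_le_of_ne h9 fun e => ?_
    have h8 := Order5040.small_index hna h _ (Order5040.ne_top_of_centralizer hna
      (fun e1 => by rw [e1, orderOf_one] at ht; omega) (x := t))
    have hi := (Subgroup.centralizer ({t} : Set G)).card_mul_index
    rw [hc, h, e] at hi
    omega
  have hc360 : c ≤ 360 := by
    obtain ⟨q, hq⟩ := hcdvd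
    rcases q with _ | _ | q
    · simp at hq
    · omega
    · have h9 : c * 2 ≤ c * (q + 1 + 1) := Nat.mul_le_mul_left c (by omega)
      omega
  have hcmem := Table5040.mem_cents c hc720 (Nat.mod_eq_zero_of_dvd hc2)
    (Nat.mod_eq_zero_of_dvd hcdvd)
  choose a ha using fun χ : IrrCharacter G =>
    exists_int_apply_involution (Char.IsIrr.isCharacter χ.2) ht
  have ha1 : a one = 1 := by
    have := ha one
    change (1 : ℂ) = _ at this
    exact_mod_cast this.symm
  have hcol : (∑ χ ∈ J, a χ * a χ) + ∑ χ ∈ O, a χ * a χ = (c : ℤ) - 1 := by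
    have h9 := Char.second_orthogonality t t
    rw [if_pos (IsConj.refl t), hc] at h9
    simp only [ha, map_intCast] at h9
    have h8 : ∑ χ, a χ * a χ = (c : ℤ) := by exact_mod_cast h9
    rw [hsum3, ha1] at h8
    linarith
  have hOnn : 0 ≤ ∑ χ ∈ O, a χ * a χ := Finset.sum_nonneg fun _ _ => mul_self_nonneg _
  have hfour : ∀ χ : IrrCharacter G, (4 : ℤ) ∣ (d χ : ℤ) - a χ := fun χ =>
    four_dvd_degree_sub_apply hna (Char.IsIrr.isCharacter χ.2) ht (hd χ) (ha χ)
  have hvals : ∀ χ ∈ l, a χ ∈ Table5040.vals (f χ).2 := by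
    intro χ hχ
    have h9 := Char.IsChar.norm_le (Char.IsIrr.isCharacter χ.2) t
    rw [ha, hd, Complex.natCast_re, Complex.norm_intCast] at h9
    have h8 : ((a χ).natAbs : ℝ) ≤ (d χ : ℝ) := by rwa [Nat.cast_natAbs, Int.cast_abs]
    refine Table5040.mem_vals (by exact_mod_cast h8) (hfour χ) ?_
    have h7 := Finset.single_le_sum (f := fun χ => a χ * a χ) (fun _ _ => mul_self_nonneg _)
      (hlJ χ hχ)
    have h6 : (c : ℤ) ≤ 360 := by exact_mod_cast hc360
    exact ⟨by nlinarith, by nlinarith⟩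
  have htot : ∑ χ ∈ J, m χ * a χ = -1 := by
    have h9 := hsplit fun χ => (χ : G → ℂ) t
    rw [hmz t (by rw [ht]; norm_num)] at h9
    simp only [ha, ha1, Int.cast_one] at h9
    have h8 : (0 : ℤ) = 1 + ∑ χ ∈ J, m χ * a χ := by exact_mod_cast h9
    linarith
  have hv : 720 + ∑ χ ∈ J, m χ * (a χ * a χ) * ((720 / d χ : ℕ) : ℤ) = (c : ℤ) * c := by
    rw [hsplit] at heq
    have h1' : (one : G → ℂ) t ^ 2 / (one : G → ℂ) 1 = 1 := by simp [hone]
    simp only [h1'] at heq
    simp only [ha, hd, h] at heq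
    have hkey : ∀ χ ∈ J, ((m χ * (a χ * a χ) * ((720 / d χ : ℕ) : ℤ) : ℤ) : ℂ) =
        720 * ((m χ : ℂ) * ((a χ : ℂ) ^ 2 / (d χ : ℂ))) := by
      intro χ hχ
      obtain ⟨q, hq⟩ := (Table5040.terms_dvd _ (hterm χ hχ)).1
      rw [hq, Nat.mul_div_cancel_left _ (hd0 χ)]
      have hd' : (d χ : ℂ) ≠ 0 := Nat.cast_ne_zero.2 (hd0 χ).ne'
      have hq' : (720 : ℂ) = (d χ : ℂ) * (q : ℂ) := by exact_mod_cast hq
      push_cast
      rw [hq']
      field_simp
    have : ((720 + ∑ χ ∈ J, m χ * (a χ * a χ) * ((720 / d χ : ℕ) : ℤ) : ℤ) : ℂ) =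
        (((c : ℤ) * c : ℤ) : ℂ) := by
      rw [Int.cast_add, Int.cast_sum, Finset.sum_congr rfl hkey, ← Finset.mul_sum]
      push_cast at heq ⊢
      linear_combination (720 : ℂ) * heq
    exact_mod_cast this
  have hbound : (c : ℤ) ≤ (Table5040.bound (l.map f) : ℤ) := by
    refine Int.ofNat_le.2 (Table5040.le_bound hcmem ?_)
    have h1c : 1 ≤ c := Nat.pos_of_dvd_of_pos hcdvd (by norm_num)
    have h9 : ∑ χ ∈ J, m χ * (a χ * a χ) * ((720 / d χ : ℕ) : ℤ) ≤
        ∑ χ ∈ J, (Table5040.top (l.map f) : ℤ) * (a χ * a χ) :=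
      Finset.sum_le_sum fun χ hχ => Table5040.weight_le
        (List.mem_map.2 ⟨χ, hl.mem_iff.2 (Finset.mem_toList.2 hχ), rfl⟩) _ (mul_self_nonneg _)
    rw [← Finset.mul_sum] at h9
    have h8 : (Table5040.top (l.map f) : ℤ) * ∑ χ ∈ J, a χ * a χ ≤
        (Table5040.top (l.map f) : ℤ) * ((c : ℤ) - 1) :=
      mul_le_mul_of_nonneg_left (by linarith) (Int.natCast_nonneg _)
    have h7 : ((c * c : ℕ) : ℤ) ≤ ((720 + (c - 1) * Table5040.top (l.map f) : ℕ) : ℤ) := by
      push_cast [Nat.cast_sub h1c]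
      linarith
    exact_mod_cast h7
  obtain ⟨hok, hsat⟩ := Table5040.scan_sound f a _ _ l 0 1 720 hg hvals
    (by rw [hlsum]; simpa [f] using htot) (by rw [hlsum]; linarith) c hcmem
    (by rw [hlsum]; simpa [f] using hv) (by rw [hlsum]; linarith)
  rw [hlsum] at hsat
  -- all other characters vanish at `t` and have degree divisible by twenty-eight
  have hO0 : ∀ χ ∈ O, a χ * a χ = 0 := (Finset.sum_eq_zero_iff_of_nonneg fun χ _ =>
    mul_self_nonneg (a χ)).1 (by linarith)
  have h784 : (784 : ℤ) ∣ ∑ χ ∈ O, (d χ : ℤ) ^ 2 := by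
    refine Finset.dvd_sum fun χ hχ => ?_
    have h4 := hfour χ
    rw [mul_self_eq_zero.1 (hO0 χ hχ), sub_zero] at h4
    have hm0 : m χ = 0 := by
      by_contra h0
      simp only [hO, Finset.mem_sdiff, Finset.mem_univ, true_and, Finset.mem_insert, hJ,
        Finset.mem_filter, not_or] at hχ
      exact hχ.2 ⟨h0, hχ.1⟩
    have h7 := hmd χ (d χ) (hd _)
    rw [hm0, sub_zero] at h7
    have h28 : (28 : ℤ) ∣ (d χ : ℤ) := by omega
    exact (show (784 : ℤ) = 28 ^ 2 by norm_num) ▸ pow_dvd_pow_of_dvd h28 2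
  simp only [bne_iff_ne] at hok
  refine hok ?_
  have h9 : (784 : ℤ) ∣ 5039 - ((∑ χ ∈ J, d χ * d χ : ℕ) : ℤ) := by
    push_cast
    simp only [← sq]
    rw [← hsqd, add_sub_cancel_left]
    exact h784
  omega

/-- No finite simple group has order 5040 = 2^4 * 3^2 * 5 * 7. -/
theorem result {G : Type*} [Group G] [Finite G] [IsSimpleGroup G] : Nat.card G ≠ 5040 := by
  intro h
  classical
  have h7 : Fact (Nat.Prime 7) := ⟨by norm_num⟩
  have hna := SmallOrder.not_comm_of_card (G := G) (by rw [h]; norm_num)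
  obtain ⟨g1, g2, g3, -⟩ := SmallOrder.sylow_data (p := 7) (a := 1) (m := 720)
    (by rw [h]; norm_num) one_ne_zero (by norm_num) hna
  obtain ⟨n, hn⟩ : ∃ n, Nat.card (Sylow 7 G) = n := ⟨_, rfl⟩
  rw [hn] at g1 g2 g3
  obtain ⟨P⟩ : Nonempty (Sylow 7 G) := Sylow.nonempty
  have hP : Nat.card (P : Subgroup G) = 7 := by
    rw [SmallOrder.card_sylow_eq_pow (a := 1) (m := 720) (by rw [h]; norm_num) (by norm_num) P,
      pow_one]
  obtain ⟨y', hy'⟩ := exists_prime_orderOf_dvd_card' (G := (P : Subgroup G)) 7 hP.symm.dvd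
  obtain ⟨y, hy, hyP⟩ : ∃ y : G, orderOf y = 7 ∧ Subgroup.zpowers y = (P : Subgroup G) :=
    ⟨y', (Subgroup.orderOf_coe y').trans hy', Subgroup.eq_of_le_of_card_ge
      (Subgroup.zpowers_le.2 y'.2)
      (by rw [hP, Nat.card_zpowers, Subgroup.orderOf_coe, hy'])⟩
  have hNne := SmallOrder.normalizer_ne_top hna (by rw [h]; norm_num) P
  have hidx : (Subgroup.normalizer ((P : Subgroup G) : Set G)).index = n :=
    P.card_eq_index_normalizer.symm.trans hn
  have hn8 : 8 ≤ n := hidx ▸ SmallOrder.Order5040.small_index hna h _ hNne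
  have hn' : n = 8 ∨ n = 15 ∨ n = 36 ∨ n = 120 := by
    exact (show ∀ m ∈ List.range 721, m % 7 = 1 → 720 % m = 0 → 8 ≤ m →
      m = 8 ∨ m = 15 ∨ m = 36 ∨ m = 120 by decide +kernel) n
      (List.mem_range.2 (by have := Nat.le_of_dvd (by norm_num) g1; omega)) g2
      (Nat.mod_eq_zero_of_dvd g1) hn8
  obtain ⟨e, he, hNc, he1⟩ := SmallOrder.exists_normalizer_index (P : Subgroup G)
  have hcyc := isCyclic_of_prime_card hP
  rw [SmallOrder.card_mulAut_of_prime hP] at he
  have hne : e ≠ 1 := fun hh => SmallOrder.not_normalizer_le_centralizer hna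
    (by rw [h]; norm_num) P (he1 hh)
  have hCy : Nat.card (Subgroup.centralizer ((P : Subgroup G) : Set G)) =
      Nat.card (Subgroup.centralizer ({y} : Set G)) := by
    rw [← hyP, Subgroup.zpowers_eq_closure, Subgroup.centralizer_closure]
  rw [hCy] at hNc
  have hm := SmallOrder.card_sylow_mul_card_normalizer P
  rw [hn, h] at hm
  obtain ⟨N, hN⟩ : ∃ N, Nat.card (Subgroup.normalizer ((P : Subgroup G) : Set G)) = N := ⟨_, rfl⟩
  obtain ⟨c, hc⟩ : ∃ c, Nat.card (Subgroup.centralizer ({y} : Set G)) = c := ⟨_, rfl⟩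
  rw [hN] at hm
  rw [hN, hc] at hNc
  have hel := Nat.le_of_dvd (by norm_num) he
  rcases hn' with rfl | rfl | rfl | rfl
  · rcases SmallOrder.Order5040.overgroup hna P hy hyP hNne le_rfl (Or.inl hidx) with hh | hh | hh <;>
      rw [hc] at hh <;> interval_cases e <;> omega
  · rcases SmallOrder.Order5040.overgroup hna P hy hyP hNne le_rfl (Or.inr hidx) with hh | hh | hh <;>
      rw [hc] at hh <;> interval_cases e <;> omega
  · have hc70 : c = 70 := by interval_cases e <;> omega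
    exact SmallOrder.Order5040.case_seventy hna h P hy hyP (hN.trans (by omega)) (hc.trans hc70)
  · have hN42 : N = 42 := by omega
    rw [hN42] at hN
    have hc' : c = 7 ∨ c = 14 ∨ c = 21 := by interval_cases e <;> omega
    rcases hc' with rfl | rfl | rfl
    · exact case_seven hna h P hy hyP hN hc
    · exact SmallOrder.Order5040.case_fourteen hna h P hy hyP hN hc
    · exact SmallOrder.Order5040.case_twentyone hna h P hy hyP hN hc

end Cfsg.Agent.S0978
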