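
import Cfsg.Statements.S0980
import Cfsg.Agent.SmallOrder.Involution
import Cfsg.Agent.SmallOrder.Local
import Cfsg.Agent.S1001

set_option autoImplicit false
open Cfsg

namespace Cfsg.Agent.S0980

/-- No finite simple group has order 5760 = 2^7 * 3^2 * 5. -/
theorem result {G : Type*} [Group G] [Finite G] [IsSimpleGroup G] : Nat.card G ≠ 5760 := by
  intro h
  classical
  have h2 : Fact (Nat.Prime 2) := ⟨Nat.prime_two⟩
  have h5 : Fact (Nat.Prime 5) := ⟨by norm_num⟩
  have hna := SmallOrder.not_comm_of_card (G := G) (by rw [h]; norm_num)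
  -- the Sylow five-subgroup
  obtain ⟨g1, g2, g3, -⟩ := SmallOrder.sylow_data (p := 5) (a := 1) (m := 1152)
    (by rw [h]; norm_num) one_ne_zero (by norm_num) hna
  obtain ⟨n, hn⟩ : ∃ n, Nat.card (Sylow 5 G) = n := ⟨_, rfl⟩
  rw [hn] at g1 g2 g3
  obtain ⟨P⟩ : Nonempty (Sylow 5 G) := Sylow.nonempty
  have hP : Nat.card (P : Subgroup G) = 5 := by
    rw [SmallOrder.card_sylow_eq_pow (a := 1) (m := 1152) (by rw [h]; norm_num) (by norm_num) P,
      pow_one]
  have hcyc := isCyclic_of_prime_card hP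
  obtain ⟨y, hy⟩ := exists_prime_orderOf_dvd_card' (G := (P : Subgroup G)) 5 hP.symm.dvd
  have hyG : orderOf (y : G) = 5 := (Subgroup.orderOf_coe y).trans hy
  have hyP : Subgroup.zpowers (y : G) = P := by
    refine Subgroup.eq_of_le_of_card_ge (Subgroup.zpowers_le.2 y.2) ?_
    rw [hP, Nat.card_zpowers, hyG]
  have hC : Nat.card (Subgroup.centralizer ((P : Subgroup G) : Set G)) = 5 := by
    have h1 := S1001.result 5 2 7 (by norm_num) (by rw [h]; norm_num) (y : G) hyG
    rw [← hyP, Subgroup.zpowers_eq_closure, Subgroup.centralizer_closure, h1, Nat.card_zpowers,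
      hyG]
  obtain ⟨e, he, hNc, he1⟩ := SmallOrder.exists_normalizer_index (P : Subgroup G)
  rw [SmallOrder.card_mulAut_of_prime hP] at he
  have hne : e ≠ 1 := fun hh => SmallOrder.not_normalizer_le_centralizer hna
    (by rw [h]; norm_num) P (he1 hh)
  rw [hC] at hNc
  have hm := SmallOrder.card_sylow_mul_card_normalizer P
  rw [hn, hNc, h] at hm
  have hce : n * e = 1152 := by linarith
  have hel := Nat.le_of_dvd (by norm_num) he
  obtain ⟨rfl, rfl⟩ : e = 2 ∧ n = 576 := by interval_cases e <;> omega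
  -- an involution central in a Sylow two-subgroup
  obtain ⟨T⟩ : Nonempty (Sylow 2 G) := Sylow.nonempty
  obtain ⟨z, -, hz, hTz⟩ := SmallOrder.exists_central_involution_sylow (by rw [h]; norm_num) T
  have h128 := Subgroup.card_dvd_of_le hTz
  rw [SmallOrder.card_sylow_eq_pow (a := 7) (m := 45) (by rw [h]; norm_num) (by norm_num) T] at h128
  have hle := SmallOrder.centralizer_involution_sq_le (P := (P : Subgroup G))
    (by norm_num : (5 : ℕ) ≠ 2) (n := 576) hP hC hNc (by rw [h]) hz
  have := Nat.le_of_dvd Nat.card_pos h128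
  nlinarith

end Cfsg.Agent.S0980
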