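import Cfsg.Statements.S0077
import Cfsg.Agent.Fusion.Transfer
import Cfsg.Agent.Fusion.Alperin

set_option autoImplicit false
open Cfsg

namespace Cfsg.Agent.S0077

/-- If a subgroup Z of the centre of a Sylow p-subgroup P is weakly closed in P, then P meets the derived subgroup of G exactly where it meets the derived subgroup of the normalizer of Z. -/
theorem result {G : Type*} [Group G] [Finite G] {p : ℕ} [Fact p.Prime] (P : Sylow p G) (Z : Subgroup G) (hZ : Z ≤ Subgroup.centralizer (P : Set G)) (hW : Cfsg.IsWeaklyClosed Z P) : commutator G ⊓ (P : Subgroup G) = ⁅Subgroup.normalizer (Z : Set G), Subgroup.normalizer (Z : Set G)⁆ ⊓ (P : Subgroup G) := by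
  have hPN : (P : Subgroup G) ≤ Subgroup.normalizer (Z : Set G) := by
    intro y hy
    rw [Subgroup.mem_normalizer_iff]
    intro h
    constructor
    · intro hh
      have := Subgroup.mem_centralizer_iff.mp (hZ hh) y hy
      rwa [this, mul_inv_cancel_right]
    · intro hh
      have h' := Subgroup.mem_centralizer_iff.mp (hZ hh) y⁻¹ (inv_mem hy)
      have h'' : h = y * h * y⁻¹ := by
        calc h = y⁻¹ * (y * h * y⁻¹) * y := by group
          _ = (y * h * y⁻¹) * y⁻¹ * y := by rw [h']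
          _ = y * h * y⁻¹ := by group
      rw [h'']; exact hh
  refine Fusion.commutator_inf_eq_of_controls P _ hPN fun x hx g hgx => ?_
  set y := g * x * g⁻¹ with hy
  set C := Subgroup.centralizer ({y} : Set G) with hC
  have hZC : Z ≤ C := fun z hz => by
    rw [hC, Subgroup.mem_centralizer_singleton_iff]
    exact (Subgroup.mem_centralizer_iff.mp (hZ hz) y hgx).symm
  set Z' := Fusion.conjSub g⁻¹ Z with hZ'
  have hZ'C : Z' ≤ C := fun z hz => by
    rw [hZ', Fusion.mem_conjSub, inv_inv] at hz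
    rw [hC, Subgroup.mem_centralizer_singleton_iff]
    have := Subgroup.mem_centralizer_iff.mp (hZ hz) x hx
    calc z * y = g * ((g⁻¹ * z * g) * x) * g⁻¹ := by rw [hy]; group
      _ = g * (x * (g⁻¹ * z * g)) * g⁻¹ := by rw [this]
      _ = y * z := by rw [hy]; group
  obtain ⟨R, hR⟩ := ((P.2.to_le hW.1).comap_subtype (K := C)).exists_le_sylow
  have hS : ¬ p ∣ ((R : Subgroup C).map C.subtype).relIndex C := by
    rw [Subgroup.relIndex, Subgroup.subgroupOf, Subgroup.comap_map_eq_self_of_injective C.subtype_injective]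
    exact R.not_dvd_index
  obtain ⟨m, hm, hle⟩ := Fusion.exists_conjSub_le_of_not_dvd_relIndex
    (Subgroup.map_subtype_le _) (R.2.map _) hS hZ'C
    (Fusion.isPGroup_conjSub (P.2.to_le hW.1))
  obtain ⟨R', hR'⟩ := (R.2.map C.subtype).exists_le_sylow
  obtain ⟨k, hk⟩ := MulAction.exists_smul_eq G P R'
  have hconv : ∀ W : Subgroup G, W ≤ (R : Subgroup C).map C.subtype →
      Fusion.conjSub k W ≤ (P : Subgroup G) := by
    intro W hWle u hu
    have h1 := hR' (hWle (Fusion.mem_conjSub.mp hu))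
    rw [← hk] at h1
    obtain ⟨w, hw, hwu⟩ := h1
    simp at hwu
    rwa [← hwu]
  have hweak : ∀ t : G, Fusion.conjSub t Z ≤ (P : Subgroup G) → Fusion.conjSub t Z = Z :=
    fun t ht => hW.2 t⁻¹ ht
  have e1 : Fusion.conjSub k Z = Z :=
    hweak k (hconv Z fun z hz => ⟨⟨z, hZC hz⟩, hR hz, rfl⟩)
  have e2 : Fusion.conjSub (g⁻¹ * m * k) Z = Z := by
    refine hweak _ ?_
    rw [← Fusion.conjSub_conjSub, ← Fusion.conjSub_conjSub]
    exact hconv _ hle
  have hk' := Fusion.mem_normalizer_of_conjSub_eq e1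
  have hgm := mul_mem (Fusion.mem_normalizer_of_conjSub_eq e2) (inv_mem hk')
  rw [mul_inv_cancel_right] at hgm
  refine ⟨(g⁻¹ * m)⁻¹, inv_mem hgm, ?_⟩
  have hmy : m * y = y * m := Subgroup.mem_centralizer_singleton_iff.mp hm
  calc (g⁻¹ * m)⁻¹ * x * (g⁻¹ * m)⁻¹⁻¹ = m⁻¹ * (y * m) := by rw [hy]; group
    _ = y := by rw [← hmy]; group

end Cfsg.Agent.S0077
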