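import Cfsg.Statements.S1230
import Cfsg.Agent.Zassenhaus.EvenSharp
import Cfsg.Agent.SL2Class.Classes
import Cfsg.Agent.Coprime.SchurZassenhaus

set_option autoImplicit false
open Cfsg

namespace Cfsg.Agent.S1230

open Subgroup MulAction

universe v

section Prep

variable {G : Type v} [Group G] [Finite G]

/-- The standing facts about the Sylow 2-subgroups. -/
structure Cfg (q : ℕ) : Prop where
  card : ∀ P : Sylow 2 G, Nat.card (P : Subgroup G) = q
  four : 4 ≤ q
  sq : ∀ (P : Sylow 2 G), ∀ t ∈ P, t * t = 1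
  cent : ∀ (P : Sylow 2 G), ∀ t ∈ P, t ≠ 1 → ∀ g : G, g * t = t * g → g ∈ P
  comm : ∀ (P : Sylow 2 G), ∀ t ∈ P, ∀ s ∈ P, t * s = s * t
  cover : ∀ t : G, t * t = 1 → ∃ P : Sylow 2 G, t ∈ P
  two : ∀ P : Sylow 2 G, ∃ Q : Sylow 2 G, Q ≠ P

variable {q : ℕ} (h : Cfg (G := G) q)
include h

theorem Cfg.eq_of_mem {t : G} (ht : t ≠ 1) {P Q : Sylow 2 G} (hP : t ∈ P) (hQ : t ∈ Q) : P = Q := by
  refine (Sylow.ext (le_antisymm (fun g hg => ?_) (fun g hg => ?_)))
  · exact h.cent Q t hQ ht g (h.comm P g hg t hP)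
  · exact h.cent P t hP ht g (h.comm Q g hg t hQ)

theorem Cfg.mem_smul {P Q : Sylow 2 G} {g t : G} (hg : g • P = Q) (ht : t ∈ P) :
    g * t * g⁻¹ ∈ Q := by
  rw [← hg]
  exact ⟨t, ht, rfl⟩

theorem Cfg.smul_eq {P Q : Sylow 2 G} {g t : G} (ht1 : t ≠ 1) (ht : t ∈ P)
    (hQ : g * t * g⁻¹ ∈ Q) : g • P = Q :=
  h.eq_of_mem (fun e => ht1 (conj_eq_one_iff.mp e)) (h.mem_smul rfl ht) hQ

theorem Cfg.mem_of_fix {P : Sylow 2 G} {t : G} (ht : t * t = 1) (hfix : t • P = P) : t ∈ P := by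
  have : Fact (Nat.Prime 2) := ⟨Nat.prime_two⟩
  have hp : IsPGroup 2 (zpowers t) := by
    by_cases h1 : t = 1
    · rw [h1, zpowers_one_eq_bot]; exact IsPGroup.of_bot
    · exact IsPGroup.of_card (n := 1)
        (by rw [Nat.card_zpowers, orderOf_eq_prime (by rw [pow_two]; exact ht) h1, pow_one])
  have h1 := IsPGroup.inf_normalizer_sylow hp P
  have h2 : t ∈ zpowers t ⊓ normalizer ((P : Subgroup G) : Set G) :=
    ⟨mem_zpowers t, Sylow.smul_eq_iff_mem_normalizer.mp hfix⟩
  exact (h1.le h2).2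

theorem Cfg.smul_self {P : Sylow 2 G} {t : G} (ht : t ∈ P) : t • P = P :=
  Sylow.smul_eq_iff_mem_normalizer.mpr (le_normalizer ht)

/-- Involutions of two distinct Sylow subgroups are conjugate by an involution. -/
theorem Cfg.exists_swap {P Q : Sylow 2 G} (hPQ : P ≠ Q) {t s : G} (ht : t ∈ P) (ht1 : t ≠ 1)
    (hs : s ∈ Q) (hs1 : s ≠ 1) :
    ∃ w : G, w * w = 1 ∧ w • P = Q ∧ w • Q = P ∧ w * t * w = s := by
  have ht2 := h.sq P t ht
  have hs2 := h.sq Q s hs
  have hti : t⁻¹ = t := inv_eq_of_mul_eq_one_right ht2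
  have hsi : s⁻¹ = s := inv_eq_of_mul_eq_one_right hs2
  set c := t * s with hc
  set n := orderOf c with hn
  have hpow : c ^ n = 1 := pow_orderOf_eq_one c
  have htc : t * c * t⁻¹ = c⁻¹ := by rw [hc, mul_inv_rev, hsi, hti, ← mul_assoc, ht2, one_mul]
  have hodd : Odd n := by
    rcases Nat.even_or_odd n with ⟨r, hr⟩ | ho
    · exfalso
      have hrr : c ^ r * c ^ r = 1 := by rw [← pow_add, ← hr]; exact hpow
      have hr1 : c ^ r ≠ 1 := fun e => by
        have hpos := orderOf_pos c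
        rw [← hn] at hpos
        have := Nat.le_of_dvd (by omega) (orderOf_dvd_of_pow_eq_one e)
        rw [← hn] at this
        omega
      have hcomt : c ^ r * t = t * c ^ r := by
        have h1 : t * c ^ r * t⁻¹ = c ^ r := by
          rw [← conj_pow, htc, inv_pow, inv_eq_of_mul_eq_one_right hrr]
        calc c ^ r * t = t * c ^ r * t⁻¹ * t := by rw [h1]
          _ = t * c ^ r := by group
      have hsc : s * c * s⁻¹ = c⁻¹ := by
        rw [hc, mul_inv_rev, hsi, hti, mul_assoc, mul_assoc t s s, hs2, mul_one]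
      have hcoms : c ^ r * s = s * c ^ r := by
        have h1 : s * c ^ r * s⁻¹ = c ^ r := by
          rw [← conj_pow, hsc, inv_pow, inv_eq_of_mul_eq_one_right hrr]
        calc c ^ r * s = s * c ^ r * s⁻¹ * s := by rw [h1]
          _ = s * c ^ r := by group
      exact hPQ (h.eq_of_mem hr1 (h.cent P t ht ht1 _ hcomt) (h.cent Q s hs hs1 _ hcoms))
    · exact ho
  obtain ⟨k, hk⟩ := hodd
  have hinv : t * c ^ k * t = (c ^ k)⁻¹ := by
    rw [← inv_pow, ← htc, conj_pow, hti]
  set w := c ^ k * t with hw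
  have hw2 : w * w = 1 := by
    rw [hw]
    calc c ^ k * t * (c ^ k * t) = c ^ k * (t * c ^ k * t) := by group
      _ = 1 := by rw [hinv, mul_inv_cancel]
  have hwts : w * t * w = s := by
    rw [hw]
    calc c ^ k * t * t * (c ^ k * t) = c ^ k * (t * t) * c ^ k * t := by group
      _ = c ^ (2 * k) * t := by rw [ht2, mul_one, ← pow_add, two_mul]
      _ = c⁻¹ * t := by
        rw [eq_inv_of_mul_eq_one_left (a := c ^ (2 * k)) (b := c) (by
          rw [← pow_succ, ← hk]; exact hpow)]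
      _ = s := by
        rw [hc, mul_inv_rev, hti, hsi, mul_assoc, ht2, mul_one]
  have hwP : w • P = Q := h.smul_eq ht1 ht (by
    rw [inv_eq_of_mul_eq_one_right hw2, hwts]; exact hs)
  exact ⟨w, hw2, hwP, by rw [← hwP, smul_smul, hw2, one_smul], hwts⟩

theorem Cfg.semiregular {P : Sylow 2 G} {g t : G} (ht : t ∈ P) (ht1 : t ≠ 1)
    (hg : g * t = t * g) : g ∈ P :=
  h.cent P t ht ht1 g hg

theorem Cfg.eq_one_of_mem {P Q : Sylow 2 G} (hPQ : P ≠ Q) {g : G} (hg : g ∈ P) (hQ : g • Q = Q) :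
    g = 1 := by
  by_contra h1
  exact hPQ (h.eq_of_mem h1 hg (h.mem_of_fix (h.sq P g hg) hQ))

/-- The structure of the two-point stabilizers. -/
theorem Cfg.pair_facts {P Q : Sylow 2 G} (hPQ : P ≠ Q) :
    Nat.card ↥(stabilizer G P ⊓ stabilizer G Q) = q - 1 ∧
    (∀ g : G, g • P = P → ∃ x ∈ P, ∃ d ∈ stabilizer G P ⊓ stabilizer G Q, g = x * d) ∧
    (∀ d ∈ stabilizer G P ⊓ stabilizer G Q, ∀ w : G, w * w = 1 → w • P = Q → w • Q = P →
      w * d * w = d⁻¹) ∧
    (∀ d ∈ stabilizer G P ⊓ stabilizer G Q, ∀ e ∈ stabilizer G P ⊓ stabilizer G Q,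
      d * e = e * d) := by
  classical
  set D := stabilizer G P ⊓ stabilizer G Q with hD
  set q' := q - 1 with hq'
  have hTsharp : ∀ R : Sylow 2 G, Nat.card {t : G // t ∈ R ∧ t ≠ 1} = q' := by
    intro R
    letI : Fintype (R : Subgroup G) := Fintype.ofFinite _
    have e : {t : G // t ∈ R ∧ t ≠ 1} ≃ {t : (R : Subgroup G) // t ≠ 1} :=
      { toFun := fun t => ⟨⟨t.1, t.2.1⟩, fun e => t.2.2 (congrArg Subtype.val e)⟩
        invFun := fun t => ⟨t.1, t.1.2, fun e => t.2 (Subtype.ext e)⟩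
        left_inv := fun t => rfl
        right_inv := fun t => rfl }
    rw [Nat.card_congr e, Nat.card_eq_fintype_card, Fintype.card_subtype_compl,
      Fintype.card_subtype_eq, ← Nat.card_eq_fintype_card, h.card R]
  -- upper bound
  obtain ⟨t, ht, ht1⟩ : ∃ t, t ∈ P ∧ t ≠ 1 := by
    have : Nonempty {t : G // t ∈ P ∧ t ≠ 1} :=
      (Nat.card_pos_iff.mp (by rw [hTsharp P]; have := h.four; omega)).1
    exact this.elim fun t => ⟨t.1, t.2⟩
  have hconj : ∀ d ∈ D, d * t * d⁻¹ ∈ P := fun d hd => h.mem_smul hd.1 ht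
  let f : D → {t : G // t ∈ P ∧ t ≠ 1} := fun d =>
    ⟨d * t * (d : G)⁻¹, hconj d d.2, fun e => ht1 (conj_eq_one_iff.mp e)⟩
  have hf : Function.Injective f := by
    intro d e he
    have he' : (d : G) * t * (d : G)⁻¹ = e * t * (e : G)⁻¹ := congrArg Subtype.val he
    have h1 : ((e : G)⁻¹ * d) * t = t * ((e : G)⁻¹ * d) := by
      calc (e : G)⁻¹ * d * t = (e : G)⁻¹ * (d * t * (d : G)⁻¹) * d := by group
        _ = (e : G)⁻¹ * (e * t * (e : G)⁻¹) * d := by rw [he']
        _ = t * ((e : G)⁻¹ * d) := by group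
    have h2 := h.eq_one_of_mem hPQ (h.semiregular ht ht1 h1) (D.mul_mem (D.inv_mem e.2) d.2).2
    exact Subtype.ext (inv_mul_eq_one.mp h2).symm
  have hle : Nat.card D ≤ q' := hTsharp P ▸ Nat.card_le_card_of_injective f hf
  -- the swaps
  have hsw : ∀ s : {s : G // s ∈ Q ∧ s ≠ 1},
      ∃ w : G, w * w = 1 ∧ w • P = Q ∧ w • Q = P ∧ w * t * w = (s : G) :=
    fun s => h.exists_swap hPQ ht ht1 s.2.1 s.2.2
  choose W hW using hsw
  -- products of two swaps
  have hprod : ∀ w v : G, w • Q = P → v • P = Q → w • P = Q → v • Q = P → w * v ∈ D :=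
    fun w v h1 h2 h3 h4 => ⟨show (w * v) • P = P by rw [mul_smul, h2, h1],
      show (w * v) • Q = Q by rw [mul_smul, h4, h3]⟩
  have hswinv : ∀ d ∈ D, ∀ w : G, w * w = 1 → w • P = Q → w • Q = P → w * d * w = d⁻¹ ∧
      q' ≤ Nat.card D := by
    intro d hd w hw hwP hwQ
    let g : {s : G // s ∈ Q ∧ s ≠ 1} → D := fun s =>
      ⟨w * W s, hprod w (W s) hwQ (hW s).2.1 hwP (hW s).2.2.1⟩
    have hg : Function.Injective g := by
      intro s s' e
      have e' : W s = W s' := mul_left_cancel (congrArg Subtype.val e)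
      exact Subtype.ext (by rw [← (hW s).2.2.2, ← (hW s').2.2.2, e'])
    have hge : q' ≤ Nat.card D := hTsharp Q ▸ Nat.card_le_card_of_injective g hg
    obtain ⟨s, hs⟩ := (hg.bijective_of_nat_card_le (by rw [hTsharp Q]; exact hle)).2 ⟨d, hd⟩
    have hs' : w * W s = d := congrArg Subtype.val hs
    refine ⟨?_, hge⟩
    rw [← hs', mul_inv_rev, inv_eq_of_mul_eq_one_right hw,
      inv_eq_of_mul_eq_one_right (hW s).1, ← mul_assoc w w, hw, one_mul]
  obtain ⟨s₀, hs₀⟩ : ∃ s, s ∈ Q ∧ s ≠ 1 := by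
    have : Nonempty {t : G // t ∈ Q ∧ t ≠ 1} :=
      (Nat.card_pos_iff.mp (by rw [hTsharp Q]; have := h.four; omega)).1
    exact this.elim fun t => ⟨t.1, t.2⟩
  obtain ⟨w₀, hw₀, hw₀P, hw₀Q, -⟩ := h.exists_swap hPQ ht ht1 hs₀.1 hs₀.2
  have hcard : Nat.card D = q' :=
    le_antisymm hle (hswinv 1 D.one_mem w₀ hw₀ hw₀P hw₀Q).2
  have hbij : Function.Bijective f := hf.bijective_of_nat_card_le (by rw [hTsharp P, hcard])
  refine ⟨hcard, fun g hg => ?_, fun d hd w hw hwP hwQ => (hswinv d hd w hw hwP hwQ).1,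
    fun d hd e he => ?_⟩
  · obtain ⟨d, hd⟩ := hbij.2 ⟨g * t * g⁻¹, h.mem_smul hg ht, fun e => ht1 (conj_eq_one_iff.mp e)⟩
    have hd' : (d : G) * t * (d : G)⁻¹ = g * t * g⁻¹ := congrArg Subtype.val hd
    have h1 : (g⁻¹ * d) * t = t * (g⁻¹ * d) := by
      calc g⁻¹ * d * t = g⁻¹ * (d * t * (d : G)⁻¹) * d := by group
        _ = g⁻¹ * (g * t * g⁻¹) * d := by rw [hd']
        _ = t * (g⁻¹ * d) := by group
    have h2 := h.semiregular ht ht1 h1
    refine ⟨g * (g⁻¹ * d)⁻¹ * g⁻¹, ?_, d, d.2, by group⟩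
    exact h.mem_smul hg ((P : Subgroup G).inv_mem h2)
  · have h1 := (hswinv (d * e) (D.mul_mem hd he) w₀ hw₀ hw₀P hw₀Q).1
    have h2 := (hswinv d hd w₀ hw₀ hw₀P hw₀Q).1
    have h3 := (hswinv e he w₀ hw₀ hw₀P hw₀Q).1
    have h4 : (d * e)⁻¹ = d⁻¹ * e⁻¹ := by
      rw [← h1, ← h2, ← h3]
      calc w₀ * (d * e) * w₀ = w₀ * d * (w₀ * w₀) * e * w₀ := by rw [hw₀]; group
        _ = w₀ * d * w₀ * (w₀ * e * w₀) := by group
    rw [mul_inv_rev] at h4
    exact inv_injective (by rw [mul_inv_rev, mul_inv_rev, h4])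

/-- An element fixing three Sylow subgroups is trivial. -/
theorem Cfg.three {P Q R : Sylow 2 G} (hPQ : P ≠ Q) (hQR : Q ≠ R) (hPR : P ≠ R) {d : G}
    (hP : d • P = P) (hQ : d • Q = Q) (hR : d • R = R) : d = 1 := by
  classical
  by_contra hd1
  set D := stabilizer G P ⊓ stabilizer G Q with hD
  have hdD : d ∈ D := ⟨hP, hQ⟩
  -- an element of a pair stabilizer determines it
  have hcent : ∀ A B : Sylow 2 G, A ≠ B → d • A = A → d • B = B → ∀ g, g • A = A →
      g * d = d * g → g ∈ stabilizer G A ⊓ stabilizer G B := by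
    intro A B hAB hdA hdB g hg hcomm
    obtain ⟨-, hdec, -, hab⟩ := h.pair_facts hAB
    obtain ⟨x, hx, e, he, rfl⟩ := hdec g hg
    have h1 : x * d = d * x := by
      have h2 := hab e he d ⟨hdA, hdB⟩
      calc x * d = x * e * d * e⁻¹ := by rw [mul_assoc x e d, h2]; group
        _ = d * x := by rw [hcomm]; group
    by_cases hx1 : x = 1
    · rw [hx1, one_mul]; exact he
    · exact absurd (h.eq_one_of_mem hAB (h.semiregular hx hx1 h1.symm) hdB) hd1
  have hsame : ∀ A B C : Sylow 2 G, A ≠ B → A ≠ C → d • A = A → d • B = B → d • C = C →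
      stabilizer G A ⊓ stabilizer G B ≤ stabilizer G C := by
    intro A B C hAB hAC hA hB hC g hg
    exact (hcent A C hAC hA hC g hg.1 ((h.pair_facts hAB).2.2.2 g hg d ⟨hA, hB⟩)).2
  have hfixD : ∀ S : Sylow 2 G, d • S = S → D ≤ stabilizer G S := by
    intro S hS
    by_cases hSP : P = S
    · exact hSP ▸ inf_le_left
    · exact hsame P Q S hPQ hSP hP hQ hS
  set F := {S : Sylow 2 G // d • S = S}
  -- swaps invert `d`
  have hinvd : ∀ (A B : Sylow 2 G), A ≠ B → d • A = A → d • B = B → ∀ w : G, w * w = 1 →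
      w • A = B → w • B = A → w * d * w = d⁻¹ := fun A B hAB hA hB w hw h1 h2 =>
    (h.pair_facts hAB).2.2.1 d ⟨hA, hB⟩ w hw h1 h2
  set Cd := centralizer ({d} : Set G) with hCd
  have hmCd : ∀ g, g ∈ Cd ↔ g * d = d * g := fun g => mem_centralizer_singleton_iff
  letI : MulAction Cd F :=
    { smul := fun c S => ⟨(c : G) • (S : Sylow 2 G), by
        rw [smul_smul, ← (hmCd c).mp c.2, mul_smul, S.2]⟩
      one_smul := fun S => Subtype.ext (one_smul G (S : Sylow 2 G))
      mul_smul := fun a b S => Subtype.ext (mul_smul (a : G) b (S : Sylow 2 G)) }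
  have hswapF : ∀ A B : Sylow 2 G, A ≠ B → d • A = A → d • B = B →
      ∃ w : G, w * w = 1 ∧ w • A = B ∧ w • B = A := by
    intro A B hAB _ _
    have : ∀ R : Sylow 2 G, ∃ t, t ∈ R ∧ t ≠ 1 := fun R => by
      by_contra hc
      push Not at hc
      have h1 : Nat.card (R : Subgroup G) = 1 := Subgroup.card_eq_one.mpr
        ((eq_bot_iff_forall _).mpr hc)
      rw [h.card R] at h1
      have := h.four
      omega
    obtain ⟨t, ht, ht1⟩ := this A
    obtain ⟨s, hs, hs1⟩ := this B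
    obtain ⟨w, h1, h2, h3, -⟩ := h.exists_swap hAB ht ht1 hs hs1
    exact ⟨w, h1, h2, h3⟩
  have htrans : ∀ A B : F, ∃ c : Cd, c • A = B := by
    rintro ⟨A, hA⟩ ⟨B, hB⟩
    by_cases hAB : A = B
    · exact ⟨1, Subtype.ext (by rw [one_smul]; exact hAB)⟩
    obtain ⟨X, hX, hXA, hXB⟩ : ∃ X : Sylow 2 G, d • X = X ∧ X ≠ A ∧ X ≠ B := by
      by_cases h1 : P ≠ A ∧ P ≠ B
      · exact ⟨P, hP, h1⟩
      by_cases h2 : Q ≠ A ∧ Q ≠ B
      · exact ⟨Q, hQ, h2⟩
      refine ⟨R, hR, fun e => ?_, fun e => ?_⟩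
      · subst e
        rw [not_and_or, not_not, not_not] at h1 h2
        rcases h1 with h1 | h1
        · exact hPR h1
        rcases h2 with h2 | h2
        · exact hQR h2
        · exact hPQ (h1.trans h2.symm)
      · subst e
        rw [not_and_or, not_not, not_not] at h1 h2
        rcases h1.symm with h1 | h1
        · exact hPR h1
        rcases h2.symm with h2 | h2
        · exact hQR h2
        · exact hPQ (h1.trans h2.symm)
    obtain ⟨v, hv, hvA, hvX⟩ := hswapF A X hXA.symm hA hX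
    obtain ⟨u, hu, huX, huB⟩ := hswapF X B hXB hX hB
    have hmem : u * v ∈ Cd := by
      refine (hmCd _).mpr ?_
      have h1 := hinvd A X hXA.symm hA hX v hv hvA hvX
      have h2 := hinvd X B hXB hX hB u hu huX huB
      have h3 : u * d⁻¹ * u = d := by
        rw [← inv_inj, mul_inv_rev, mul_inv_rev, inv_inv, inv_eq_of_mul_eq_one_right hu,
          ← mul_assoc, h2]
      calc u * v * d = u * (v * d * v) * v⁻¹ := by group
        _ = (u * d⁻¹ * u) * u⁻¹ * v⁻¹ := by rw [h1]; group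
        _ = d * (u⁻¹ * v⁻¹) := by rw [h3, mul_assoc]
        _ = d * (u * v) := by
          rw [inv_eq_of_mul_eq_one_right hu, inv_eq_of_mul_eq_one_right hv]
    refine ⟨⟨u * v, hmem⟩, Subtype.ext ?_⟩
    show (u * v) • A = B
    rw [mul_smul, hvA, huX]
  -- `C(d)` has odd order
  have hoddC : Odd (Nat.card Cd) := by
    rw [← Nat.not_even_iff_odd, even_iff_two_dvd]
    intro h2
    have : Fact (Nat.Prime 2) := ⟨Nat.prime_two⟩
    obtain ⟨⟨t, htC⟩, ht⟩ := exists_prime_orderOf_dvd_card' 2 h2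
    rw [Subgroup.orderOf_mk] at ht
    have ht1 : t ≠ 1 := fun e => by rw [e, orderOf_one] at ht; omega
    have ht2 : t * t = 1 := by rw [← pow_two, ← ht]; exact pow_orderOf_eq_one t
    obtain ⟨S, hS⟩ := h.cover t ht2
    have hdS : d ∈ S := h.cent S t hS ht1 d ((hmCd t).mp htC).symm
    exact hd1 (h.eq_one_of_mem hPQ (h.mem_of_fix (h.sq S d hdS) hP) hQ)
  -- so `F` has odd order
  haveI : IsPretransitive Cd F := ⟨htrans⟩
  have hoddF : Odd (Nat.card F) := by
    refine hoddC.of_dvd_nat ?_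
    have h1 := MulAction.index_stabilizer_of_transitive Cd (⟨P, hP⟩ : F)
    exact h1 ▸ Subgroup.index_dvd_card _
  -- an involution swapping `P` and `Q` fixes a member of `F`
  obtain ⟨w, hw, hwP, hwQ⟩ := hswapF P Q hPQ hP hQ
  have hwd := hinvd P Q hPQ hP hQ w hw hwP hwQ
  have hwdi : w * d⁻¹ * w = d := by
    rw [← inv_inj, mul_inv_rev, mul_inv_rev, inv_inv, inv_eq_of_mul_eq_one_right hw, ← mul_assoc,
      hwd]
  have hwF : ∀ S : F, d • (w • (S : Sylow 2 G)) = w • (S : Sylow 2 G) := by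
    intro S
    have h1 : d⁻¹ • (S : Sylow 2 G) = S := by rw [inv_smul_eq_iff, S.2]
    calc d • w • (S : Sylow 2 G) = (w * d⁻¹ * w) • w • (S : Sylow 2 G) := by rw [hwdi]
      _ = w • (S : Sylow 2 G) := by rw [smul_smul, mul_assoc, hw, mul_one, mul_smul, h1]
  let σ : F → F := fun S => ⟨w • (S : Sylow 2 G), hwF S⟩
  have hσ : Function.Involutive σ := fun S => Subtype.ext (by
    show w • w • (S : Sylow 2 G) = S
    rw [smul_smul, hw, one_smul])
  obtain ⟨S, hS⟩ : ∃ S : F, σ S = S := by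
    letI : Fintype F := Fintype.ofFinite F
    have : Fact (Nat.Prime 2) := ⟨Nat.prime_two⟩
    by_contra hno
    push Not at hno
    have hperm : (hσ.toPerm σ) ^ 2 = 1 := by
      ext x
      simp [pow_two, Equiv.Perm.mul_apply, hσ x]
    have hsupp : (hσ.toPerm σ).support = Finset.univ :=
      Finset.eq_univ_of_forall fun x => Equiv.Perm.mem_support.mpr (hno x)
    have h2 := Equiv.Perm.sum_cycleType (hσ.toPerm σ)
    rw [hsupp, Finset.card_univ, ← Nat.card_eq_fintype_card] at h2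
    have h3 : 2 ∣ (hσ.toPerm σ).cycleType.sum := Multiset.dvd_sum fun n hn => by
      have h4 : n ∣ 2 := (Equiv.Perm.dvd_of_mem_cycleType hn).trans (orderOf_dvd_of_pow_eq_one hperm)
      have h5 := Equiv.Perm.two_le_of_mem_cycleType hn
      have h6 := Nat.le_of_dvd (by norm_num) h4
      exact ⟨1, by omega⟩
    rw [h2] at h3
    obtain ⟨j, hj⟩ := hoddF
    omega
  have hwS : w ∈ (S : Sylow 2 G) := h.mem_of_fix hw (congrArg Subtype.val hS)
  have h1 : d⁻¹ * w * d⁻¹⁻¹ ∈ (S : Sylow 2 G) :=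
    h.mem_smul (by rw [inv_smul_eq_iff]; exact S.2.symm) hwS
  have h2 : w * (d⁻¹ * w * d⁻¹⁻¹) = d * d := by
    calc w * (d⁻¹ * w * d⁻¹⁻¹) = (w * d⁻¹ * w) * d := by group
      _ = d * d := by rw [hwdi]
  have h3 : d * d ∈ ((S : Sylow 2 G) : Subgroup G) := h2 ▸ mul_mem hwS h1
  have h4 : d * d = 1 := by
    have hfix : ∀ A : Sylow 2 G, d • A = A → (d * d) • A = A := fun A hA => by
      rw [mul_smul, hA, hA]
    rcases ne_or_eq (S : Sylow 2 G) P with hSP | hSP
    · exact h.eq_one_of_mem hSP h3 (hfix P hP)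
    · exact h.eq_one_of_mem (hSP ▸ hPQ) h3 (hfix Q hQ)
  exact hd1 (h.eq_one_of_mem hPQ (h.mem_of_fix h4 hP) hQ)

/-- Each point stabilizer is regular-by-complement on the other points. -/
theorem Cfg.trans {P Q R : Sylow 2 G} (hPQ : P ≠ Q) (hPR : P ≠ R) : ∃ x ∈ P, x • Q = R := by
  set D := stabilizer G P ⊓ stabilizer G Q with hD
  set D' := stabilizer G P ⊓ stabilizer G R with hD'
  obtain ⟨hcard, hdec, -, hab⟩ := h.pair_facts hPQ
  obtain ⟨hcard', hdec', -, -⟩ := h.pair_facts hPR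
  have hDn : D ≤ normalizer ((P : Subgroup G) : Set G) := fun g hg =>
    Sylow.smul_eq_iff_mem_normalizer.mp hg.1
  have hinf : (P : Subgroup G) ⊓ D = ⊥ := (eq_bot_iff_forall _).mpr fun g hg =>
    h.eq_one_of_mem hPQ hg.1 hg.2.2
  have hinf' : (P : Subgroup G) ⊓ D' = ⊥ := (eq_bot_iff_forall _).mpr fun g hg =>
    h.eq_one_of_mem hPR hg.1 hg.2.2
  have hsup : ∀ (B : Sylow 2 G), P ≠ B →
      (P : Subgroup G) ⊔ (stabilizer G P ⊓ stabilizer G B) = stabilizer G P := by
    intro B hB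
    refine le_antisymm (sup_le (fun g hg => h.smul_self hg) inf_le_left) fun g hg => ?_
    obtain ⟨x, hx, d, hd, rfl⟩ := (h.pair_facts hB).2.1 g hg
    exact mul_mem_sup hx hd
  have : Fact (Nat.Prime 2) := ⟨Nat.prime_two⟩
  have hcop : (Nat.card (P : Subgroup G)).Coprime (Nat.card D) := by
    obtain ⟨k, hk⟩ := IsPGroup.iff_card.mp P.2
    rw [hcard, ← h.card P, hk]
    rcases k with _ | k
    · simp
    refine Nat.Coprime.pow_left _ (Nat.coprime_two_left.mpr (Nat.odd_iff.mpr ?_))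
    have := Nat.one_le_two_pow (n := k)
    rw [pow_succ]
    omega
  obtain ⟨x, hx, hxD⟩ := Agent.Coprime.exists_conj_of_sup_eq hDn hinf hinf'
    ((hsup Q hPQ).trans (hsup R hPR).symm) hcop
    (Or.inl (by haveI := P.2.isNilpotent; infer_instance))
  refine ⟨x, hx, ?_⟩
  -- a non-trivial element of `D'` fixes `P`, `x • Q` and `R`
  obtain ⟨d, hd, hd1⟩ : ∃ d ∈ D, d ≠ 1 := by
    by_contra hc
    push Not at hc
    have h1 : Nat.card D = 1 := Subgroup.card_eq_one.mpr ((eq_bot_iff_forall _).mpr hc)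
    rw [hcard] at h1
    have := h.four
    omega
  have hxd : x * d * x⁻¹ ∈ D' := by
    rw [← hxD]
    exact ⟨d, hd, rfl⟩
  by_contra hne
  have hPxQ : P ≠ x • Q := fun e => hPQ (MulAction.injective x ((h.smul_self hx).trans e))
  have := h.three hPxQ hne hPR hxd.1 (by
    rw [mul_smul, mul_smul, inv_smul_smul, hd.2]) hxd.2
  exact hd1 (conj_eq_one_iff.mp this)

end Prep

/-- Let G be a finite group with a Sylow 2-subgroup T that is neither cyclic nor normal, such that the centralizer of every involution is an elementary abelian 2-group. Then G ≅ PSL(2,F) for a finite field F with |F| = |T|. -/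
theorem result {G : Type*} [Group G] [Finite G] (T : Sylow 2 G) (hnc : ¬ IsCyclic (T : Subgroup G)) (hnn : ¬ (T : Subgroup G).Normal) (hC : ∀ t : G, orderOf t = 2 → IsMulCommutative (Subgroup.centralizer ({t} : Set G)) ∧ ∀ c ∈ Subgroup.centralizer ({t} : Set G), c ^ 2 = 1) : ∃ (F : Type) (_ : Field F) (_ : Fintype F), Fintype.card F = Nat.card T ∧ Nonempty (G ≃* Matrix.ProjectiveSpecialLinearGroup (Fin 2) F) := by
  classical
  have : Fact (Nat.Prime 2) := ⟨Nat.prime_two⟩
  set q := Nat.card (T : Subgroup G) with hq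
  have hcard : ∀ P : Sylow 2 G, Nat.card (P : Subgroup G) = q := fun P => by
    rw [hq, P.card_eq_multiplicity, T.card_eq_multiplicity]
  have hnt : ∀ P : Sylow 2 G, Nontrivial (P : Subgroup G) := fun P => by
    rw [← Finite.one_lt_card_iff_nontrivial, hcard P]
    by_contra hle
    have h1 : Nat.card (T : Subgroup G) = 1 := by
      have := Nat.card_pos (α := (T : Subgroup G)); omega
    exact hnc (by
      haveI := (Nat.card_eq_one_iff_unique.mp h1).1
      infer_instance)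
  have hord : ∀ t : G, t ≠ 1 → t * t = 1 → orderOf t = 2 := fun t h1 h2 =>
    orderOf_eq_prime (by rw [pow_two]; exact h2) h1
  -- every Sylow 2-subgroup is elementary abelian
  have hel : ∀ P : Sylow 2 G, ∀ a ∈ P, ∀ b ∈ P, a * a = 1 ∧ a * b = b * a := by
    intro P a ha b hb
    haveI := hnt P
    have hne := P.2.center_nontrivial
    obtain ⟨w, hw⟩ := exists_prime_orderOf_dvd_card' (G := Subgroup.center (P : Subgroup G)) 2 (by
      obtain ⟨k, hk, hk'⟩ := (P.2.to_subgroup (Subgroup.center _)).nontrivial_iff_card.mp hne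
      rw [hk']; exact dvd_pow_self 2 hk.ne')
    rw [← Subgroup.orderOf_coe, ← Subgroup.orderOf_coe] at hw
    obtain ⟨hc, hsq⟩ := hC _ hw
    have hmem : ∀ c ∈ P, c ∈ Subgroup.centralizer ({((w : (P : Subgroup G)) : G)} : Set G) :=
      fun c hc => mem_centralizer_singleton_iff.mpr
        (congrArg Subtype.val (mem_center_iff.mp w.2 ⟨c, hc⟩))
    exact ⟨by rw [← pow_two]; exact hsq a (hmem a ha),
      congrArg Subtype.val (hc.is_comm.comm ⟨a, hmem a ha⟩ ⟨b, hmem b hb⟩)⟩
  have hcfg : Cfg (G := G) q := by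
    refine ⟨hcard, ?_, fun P t ht => (hel P t ht t ht).1, fun P t ht ht1 g hg => ?_,
      fun P t ht s hs => (hel P t ht s hs).2, fun t ht => ?_, fun P => ?_⟩
    · obtain ⟨k, hk⟩ := IsPGroup.iff_card.mp T.2
      rw [hq, hk]
      rcases k with _ | _ | k
      · exfalso
        have := hnt T
        rw [← Finite.one_lt_card_iff_nontrivial, hk] at this
        simp at this
      · exfalso
        exact hnc (isCyclic_of_prime_card (p := 2) (by rw [hk]; norm_num))
      · have := Nat.one_le_two_pow (n := k)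
        rw [pow_succ, pow_succ]; omega
    · obtain ⟨hc, hsq⟩ := hC t (hord t ht1 (hel P t ht t ht).1)
      have h1 : IsPGroup 2 (Subgroup.centralizer ({t} : Set G)) := fun c =>
        ⟨1, Subtype.ext (by simpa using hsq c c.2)⟩
      have h2 : (P : Subgroup G) ≤ Subgroup.centralizer ({t} : Set G) := fun c hc =>
        mem_centralizer_singleton_iff.mpr (hel P c hc t ht).2
      exact (P.is_maximal' h1 h2).le (mem_centralizer_singleton_iff.mpr hg)
    · have h1 : IsPGroup 2 (zpowers t) := by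
        by_cases ht1 : t = 1
        · rw [ht1, zpowers_one_eq_bot]; exact IsPGroup.of_bot
        · exact IsPGroup.of_card (n := 1) (by rw [Nat.card_zpowers, hord t ht1 ht, pow_one])
      obtain ⟨P, hP⟩ := h1.exists_le_sylow
      exact ⟨P, hP (mem_zpowers t)⟩
    · by_contra hc
      push Not at hc
      exact hnn (normalizer_eq_top_iff.mp (eq_top_iff.mpr fun g _ =>
        Sylow.smul_eq_iff_mem_normalizer.mp ((hc _).trans (hc T).symm)))
  -- the action on the Sylow subgroups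
  have hmove : ∀ {P Q R : Sylow 2 G}, P ≠ Q → P ≠ R → ∃ g : G, g • P = P ∧ g • Q = R := by
    intro P Q R h1 h2
    obtain ⟨x, hx, hxQ⟩ := hcfg.trans h1 h2
    exact ⟨x, hcfg.smul_self hx, hxQ⟩
  have htwo : ∀ {x y u v : Sylow 2 G}, x ≠ y → u ≠ v → ∃ g : G, g • x = u ∧ g • y = v := by
    intro x y u v hxy huv
    obtain ⟨g, hg⟩ := MulAction.exists_smul_eq G x u
    have h1 : u ≠ g • y := fun e => hxy (MulAction.injective g (hg.trans e))
    obtain ⟨k, hk, hky⟩ := hmove h1 huv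
    exact ⟨k * g, by rw [mul_smul, hg, hk], by rw [mul_smul, hky]⟩
  have hΩ : Nat.card (Sylow 2 G) = q + 1 := by
    obtain ⟨Q, hQ⟩ := hcfg.two T
    have e : Nat.card (T : Subgroup G) = Nat.card {R : Sylow 2 G // R ≠ T} := by
      refine Nat.card_congr (Equiv.ofBijective (fun x => ⟨(x : G) • Q, fun e => hQ
        (MulAction.injective (x : G) (e.trans (hcfg.smul_self x.2).symm))⟩) ⟨fun x y e => ?_, fun R => ?_⟩)
      · have e' : (x : G) • Q = (y : G) • Q := congrArg Subtype.val e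
        have h1 := hcfg.eq_one_of_mem hQ.symm ((T : Subgroup G).mul_mem
          ((T : Subgroup G).inv_mem y.2) x.2) (by rw [mul_smul, e', inv_smul_smul])
        exact Subtype.ext (inv_mul_eq_one.mp h1).symm
      · obtain ⟨x, hx, hxQ⟩ := hcfg.trans hQ.symm R.2.symm
        exact ⟨⟨x, hx⟩, Subtype.ext hxQ⟩
    rw [hq, e, ← Finite.card_option]
    exact Nat.card_congr (Equiv.optionSubtypeNe T).symm
  have hqeven : Even q := by
    obtain ⟨k, hk⟩ := IsPGroup.iff_card.mp T.2
    have := hcfg.four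
    rw [hq, hk] at this ⊢
    rcases k with _ | k
    · simp at this
    · exact ⟨2 ^ k, by rw [pow_succ]; omega⟩
  have hsharp : ∀ {x y z x' y' z' : Sylow 2 G}, x ≠ y → x ≠ z → y ≠ z → x' ≠ y' → x' ≠ z' →
      y' ≠ z' → ∃ g : G, g • x = x' ∧ g • y = y' ∧ g • z = z' := by
    intro x y z x' y' z' hxy hxz hyz hxy' hxz' hyz'
    obtain ⟨g, hgx, hgy⟩ := htwo hxy hxy'
    -- the two-point stabilizer is transitive on the other points
    have hz1 : g • z ≠ x' := fun e => hxz (MulAction.injective g (hgx.trans e.symm))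
    have hz2 : g • z ≠ y' := fun e => hyz (MulAction.injective g (hgy.trans e.symm))
    set D := stabilizer G x' ⊓ stabilizer G y'
    let f : D → {R : Sylow 2 G // R ≠ x' ∧ R ≠ y'} := fun d => ⟨(d : G) • g • z,
      fun e => hz1 (MulAction.injective (d : G) (e.trans (show (d : G) • x' = x' from d.2.1).symm)),
      fun e => hz2 (MulAction.injective (d : G) (e.trans (show (d : G) • y' = y' from d.2.2).symm))⟩
    have hf : Function.Injective f := by
      intro a b e
      have e' : (a : G) • g • z = (b : G) • g • z := congrArg Subtype.val e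
      have hab : ((b : G)⁻¹ * a) ∈ D := D.mul_mem (D.inv_mem b.2) a.2
      have h1 := hcfg.three hxy' hz2.symm hz1.symm hab.1 hab.2
        (by rw [mul_smul, e', inv_smul_smul])
      exact Subtype.ext (inv_mul_eq_one.mp h1).symm
    have hcardR : Nat.card {R : Sylow 2 G // R ≠ x' ∧ R ≠ y'} = q - 1 := by
      letI := Fintype.ofFinite (Sylow 2 G)
      rw [Nat.card_eq_fintype_card, Fintype.card_subtype,
        show Finset.univ.filter (fun R => R ≠ x' ∧ R ≠ y') = (Finset.univ.erase x').erase y' by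
          ext R; simp [and_comm],
        Finset.card_erase_of_mem (Finset.mem_erase.mpr ⟨hxy'.symm, Finset.mem_univ _⟩),
        Finset.card_erase_of_mem (Finset.mem_univ _), Finset.card_univ, ← Nat.card_eq_fintype_card,
        hΩ]
      omega
    obtain ⟨d, hd⟩ := (hf.bijective_of_nat_card_le
      (by rw [hcardR, (hcfg.pair_facts hxy').1])).2 ⟨z', hxz'.symm, hyz'.symm⟩
    refine ⟨d * g, ?_, ?_, ?_⟩
    · rw [mul_smul, hgx]; exact d.2.1
    · rw [mul_smul, hgy]; exact d.2.2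
    · rw [mul_smul]; exact congrArg Subtype.val hd
  have hctx : Zassenhaus.ZCtx G (Sylow 2 G) :=
    ⟨htwo, fun g x y z h1 h2 h3 => hcfg.three h1 h2 h3⟩
  obtain ⟨f, K, iK, iFK, -, hK, hΩK, ⟨e⟩, -⟩ := hctx.identify_even
    (by rw [hΩ]; have := hcfg.four; omega) (by rw [hΩ]; exact hqeven.add_one) hsharp
  have h2 : (2 : K) = 0 := by
    have : ((2 ^ f : ℕ) : K) = 0 := hK ▸ Nat.cast_card_eq_zero K
    exact eq_zero_of_pow_eq_zero (by exact_mod_cast this : (2 : K) ^ f = 0)
  refine ⟨K, iK, iFK, by rw [hK]; omega, ⟨e.trans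
    ((QuotientGroup.quotientMulEquivOfEq (Agent.SL2Class.center_eq_bot h2)).trans
      QuotientGroup.quotientBot).symm⟩⟩

end Cfsg.Agent.S1230
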