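import Cfsg.Statements.S3215
import Mathlib
import Cfsg.Agent.Core.Fitting
import Cfsg.Agent.Fusion.UniqueInvolution
import Cfsg.Agent.Fusion.PGroup
import Cfsg.Agent.Fusion.Residual
import Cfsg.Agent.Coprime.Generation

set_option autoImplicit false
open Cfsg

namespace Cfsg.Agent.S3215

open Subgroup

variable {H : Type*} [Group H] [Finite H]

/-- The hypotheses: solvable, trivial odd core, involution centralizers 2-nilpotent. -/
theorem centralizer_pCore_le [Group.IsSolvable H] (hO : Cfsg.oddCore H = ⊥) :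
    centralizer (Cfsg.pCore 2 H : Set H) ≤ Cfsg.pCore 2 H := by
  have hfit : Cfsg.fittingSubgroup H ≤ Cfsg.pCore 2 H := by
    rw [Cfsg.Agent.Core.fittingSubgroup_eq_iSup_pCore]
    refine iSup_le fun p => ?_
    rcases eq_or_ne (p : ℕ) 2 with h | h
    · rw [h]
    · haveI : Fact (p : ℕ).Prime := ⟨p.2⟩
      obtain ⟨k, hk⟩ := IsPGroup.iff_card.1
        (Cfsg.Agent.Core.pCore_isPGroup (p := (p : ℕ)) (G := H))
      have hle : Cfsg.pCore (p : ℕ) H ≤ Cfsg.oddCore H :=
        Cfsg.Agent.Core.le_pPrimeCore (by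
          rw [hk]; exact ((Nat.coprime_primes p.2 Nat.prime_two).2 h).pow_left k)
      rw [hO] at hle
      exact hle.trans bot_le
  exact (centralizer_le (fun x hx => hfit hx)).trans
    (Cfsg.Agent.Core.centralizer_fittingSubgroup_le.trans hfit)

omit [Finite H] in
theorem isPGroup_pCore : IsPGroup 2 (Cfsg.pCore 2 H) := Cfsg.Agent.Core.pCore_isPGroup

theorem exists_invol_fixed {t : H} (ht : IsPGroup 2 (zpowers t))
    (hne : Cfsg.pCore 2 H ≠ ⊥) :
    ∃ u ∈ Cfsg.pCore 2 H, orderOf u = 2 ∧ Commute t u := by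
  obtain ⟨S, hS⟩ := ht.exists_le_sylow
  have hYS : Cfsg.pCore 2 H ≤ S := Cfsg.Agent.Core.pCore_le_sylow S
  have h := Cfsg.Agent.Fusion.pGroup_inf_center_ne_bot S.2
    ((Cfsg.pCore 2 H).subgroupOf (S : Subgroup H))
    (fun h => hne (by
      rw [subgroupOf_eq_bot, disjoint_iff, inf_eq_left.2 hYS] at h
      exact h))
  obtain ⟨⟨z, hz⟩, hzo⟩ := exists_prime_orderOf_dvd_card' 2
    ((S.2.to_subgroup ((Cfsg.pCore 2 H).subgroupOf (S : Subgroup H) ⊓ center ↥(S : Subgroup H))
      ).card_eq_or_dvd.resolve_left (fun h1 => h (card_eq_one.1 h1)))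
  rw [Subgroup.orderOf_mk] at hzo
  refine ⟨(z : H), hz.1, (orderOf_coe z).trans hzo, ?_⟩
  exact congrArg Subtype.val (mem_center_iff.1 hz.2 ⟨t, hS (mem_zpowers t)⟩)

theorem not_commute_invol (hI : ∀ t : H, orderOf t = 2 →
      Cfsg.HasNormalPComplement 2 ↥(centralizer ({t} : Set H)))
    {t x : H} (ht : orderOf t = 2) (hx : Odd (orderOf x)) (hc : Commute x t) :
    ∀ y ∈ Cfsg.pCore 2 H, Commute t y → Commute x y := by
  intro y hy hty
  obtain ⟨P, K, hK, hKP⟩ := hI t ht
  have hxC : x ∈ centralizer ({t} : Set H) := mem_centralizer_singleton_iff.2 hc.eq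
  have hyC : y ∈ centralizer ({t} : Set H) := mem_centralizer_singleton_iff.2 hty.symm.eq
  haveI := hK
  set π := QuotientGroup.mk' K
  have hxK : (⟨x, hxC⟩ : centralizer ({t} : Set H)) ∈ K := by
    rw [← QuotientGroup.eq_one_iff, ← orderOf_eq_one_iff]
    have h1 : orderOf (π ⟨x, hxC⟩) ∣ orderOf x := by
      rw [← Subgroup.orderOf_mk (a := x) hxC]; exact orderOf_map_dvd π _
    obtain ⟨k, hk⟩ := IsPGroup.iff_card.1 P.2
    have h2 : orderOf (π ⟨x, hxC⟩) ∣ 2 ^ k := by
      rw [← hk, ← hKP.symm.index_eq_card, index_eq_card]; exact orderOf_dvd_natCard _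
    exact Nat.eq_one_of_dvd_coprimes ((Nat.coprime_two_right.2 hx).pow_right k) h1 h2
  set Y' := (Cfsg.pCore 2 H).subgroupOf (centralizer ({t} : Set H))
  have hY' : IsPGroup 2 Y' := isPGroup_pCore.comap_subtype
  have hdis : Disjoint K Y' := by
    rw [disjoint_iff]
    refine inf_eq_bot_of_coprime ?_
    obtain ⟨k, hk⟩ := IsPGroup.iff_card.1 hY'
    rw [hk]
    have hKi : ¬ 2 ∣ (P : Subgroup (centralizer ({t} : Set H))).index := P.not_dvd_index
    rw [hKP.index_eq_card] at hKi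
    exact ((Nat.prime_two.coprime_iff_not_dvd.2 hKi).symm).pow_right k
  exact congrArg Subtype.val (commute_of_normal_of_disjoint _ _ inferInstance inferInstance hdis
    ⟨x, hxC⟩ ⟨y, hyC⟩ hxK hy)

/-- Elements of odd order act without fixed points on the 2-core. -/
theorem eq_one_of_commute [Group.IsSolvable H] (hO : Cfsg.oddCore H = ⊥)
    (hI : ∀ t : H, orderOf t = 2 → Cfsg.HasNormalPComplement 2 ↥(centralizer ({t} : Set H)))
    {x y : H} (hx : Odd (orderOf x)) (hy : y ∈ Cfsg.pCore 2 H) (hy1 : y ≠ 1)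
    (hc : Commute x y) : x = 1 := by
  obtain ⟨k, hk⟩ := IsPGroup.iff_orderOf.1 isPGroup_pCore ⟨y, hy⟩
  rw [Subgroup.orderOf_mk] at hk
  have hk0 : k ≠ 0 := fun h => hy1 (orderOf_eq_one_iff.1 (by rw [hk, h, pow_zero]))
  set t := y ^ 2 ^ (k - 1) with ht
  have hto : orderOf t = 2 := by
    rw [ht, orderOf_pow_of_dvd (by positivity) (hk ▸ pow_dvd_pow 2 (by omega)), hk,
      Nat.pow_div (by omega) two_pos, show k - (k - 1) = 1 by omega, pow_one]
  have htY : t ∈ Cfsg.pCore 2 H := pow_mem hy _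
  have hxt : Commute x t := hc.pow_right _
  -- Thompson's P × Q lemma
  have htp : IsPGroup 2 (zpowers t) := IsPGroup.of_card (n := 1) (by rw [Nat.card_zpowers, hto, pow_one])
  have hxC : x ∈ centralizer (Cfsg.pCore 2 H : Set H) := by
    have hcop : (orderOf x).Coprime 2 := Nat.coprime_two_right.2 hx
    refine Cfsg.Agent.Coprime.thompson_pxq (p := 2) (P := zpowers t) (Q := zpowers x)
      (U := Cfsg.pCore 2 H) htp ?_ isPGroup_pCore ?_ ?_ ?_ ?_ (mem_zpowers x)
    · rw [Nat.card_zpowers]; exact hcop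
    · intro z hz w hw
      obtain ⟨i, rfl⟩ := mem_zpowers_iff.1 hz
      obtain ⟨j, rfl⟩ := mem_zpowers_iff.1 hw
      exact (hxt.zpow_zpow j i).eq
    · exact le_normalizer_of_normal
    · exact le_normalizer_of_normal
    · intro w hw z hz
      obtain ⟨hwY, hwC⟩ := mem_inf.1 hw
      obtain ⟨i, rfl⟩ := mem_zpowers_iff.1 hz
      have htw : Commute t w := mem_centralizer_iff.1 hwC t (mem_zpowers t)
      exact ((not_commute_invol hI hto hx hxt w hwY htw).zpow_left i).eq
  have hxY := centralizer_pCore_le hO hxC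
  obtain ⟨j, hj⟩ := IsPGroup.iff_orderOf.1 isPGroup_pCore ⟨x, hxY⟩
  rw [Subgroup.orderOf_mk] at hj
  rcases Nat.eq_zero_or_pos j with h | h
  · exact orderOf_eq_one_iff.1 (by rw [hj, h, pow_zero])
  · exact absurd hx (by rw [hj, Nat.not_odd_iff_even]
                        exact (Nat.even_pow.2 ⟨even_two, h.ne'⟩))

/-- An element of odd order and a 2-element commuting modulo the 2-core: one of them is trivial there. -/
theorem not_commute_mod [Group.IsSolvable H] (hO : Cfsg.oddCore H = ⊥)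
    (hI : ∀ t : H, orderOf t = 2 → Cfsg.HasNormalPComplement 2 ↥(centralizer ({t} : Set H)))
    {xb sb : H ⧸ Cfsg.pCore 2 H} {r : ℕ} [Fact r.Prime] (hr : r ≠ 2) (hx : orderOf xb = r)
    (hs : orderOf sb = 2) (hc : Commute xb sb) : False := by
  set π := QuotientGroup.mk' (Cfsg.pCore 2 H) with hπ
  obtain ⟨m, hm⟩ := IsPGroup.iff_card.1 (isPGroup_pCore (H := H))
  obtain ⟨x0, hx0⟩ := QuotientGroup.mk'_surjective (Cfsg.pCore 2 H) xb
  set x := x0 ^ 2 ^ m with hxdef
  have hr2 : r.Coprime 2 := (Nat.coprime_primes Fact.out Nat.prime_two).2 hr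
  have hπx : π x = xb ^ 2 ^ m := by rw [hxdef, map_pow]; exact congrArg (· ^ 2 ^ m) hx0
  have hπxo : orderOf (π x) = r := by
    rw [hπx, Nat.Coprime.orderOf_pow (by rw [hx]; exact hr2.pow_right m), hx]
  have hxo : orderOf x = r := by
    refine Nat.dvd_antisymm (orderOf_dvd_of_pow_eq_one ?_) (hπxo ▸ orderOf_map_dvd π x)
    rw [hxdef, ← pow_mul, mul_comm, pow_mul]
    have hY : x0 ^ r ∈ (Cfsg.pCore 2 H) := by
      rw [← QuotientGroup.eq_one_iff]
      change π (x0 ^ r) = 1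
      rw [map_pow, show π x0 = xb from hx0, ← hx, pow_orderOf_eq_one]
    have := orderOf_dvd_natCard (⟨_, hY⟩ : (Cfsg.pCore 2 H))
    rw [hm, orderOf_dvd_iff_pow_eq_one] at this
    exact congrArg Subtype.val this
  have hx1 : x ≠ 1 := fun h => by
    rw [h, orderOf_one] at hxo; exact (Fact.out : r.Prime).ne_one hxo.symm
  have hxodd : Odd (orderOf x) := by rw [hxo]; exact (Fact.out : r.Prime).odd_of_ne_two hr
  obtain ⟨s0, hs0⟩ := QuotientGroup.mk'_surjective (Cfsg.pCore 2 H) sb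
  -- conjugate `⟨x⟩` back inside `(Cfsg.pCore 2 H) ⊔ ⟨x⟩`
  have hyX : zpowers x ≤ normalizer ((Cfsg.pCore 2 H) : Set H) := le_normalizer_of_normal
  set L := (Cfsg.pCore 2 H) ⊔ zpowers x with hL
  have hcardL : Nat.card L = 2 ^ m * r := by
    rw [hL, Cfsg.Agent.Coprime.card_sup_eq_mul hyX, hm, Nat.card_zpowers, hxo]
    refine inf_eq_bot_of_coprime ?_
    rw [hm, Nat.card_zpowers, hxo]
    exact (hr2.pow_right m).symm
  have hxs : s0 * x * s0⁻¹ ∈ L := by
    have h1 : π (s0 * x * s0⁻¹) = π x := by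
      rw [map_mul, map_mul, map_inv, show π s0 = sb from hs0, hπx]
      rw [((hc.symm).pow_right (2 ^ m)).eq]; group
    have h2 : x⁻¹ * (s0 * x * s0⁻¹) ∈ (Cfsg.pCore 2 H) := QuotientGroup.eq.1 h1.symm
    have := L.mul_mem (mem_sup_right (mem_zpowers x) : x ∈ L) (mem_sup_left h2 : x⁻¹ * (s0 * x * s0⁻¹) ∈ L)
    simpa [mul_assoc] using this
  set Q : Subgroup L := (zpowers x).subgroupOf L with hQ
  set Q' : Subgroup L := (zpowers (s0 * x * s0⁻¹)).subgroupOf L with hQ'
  have hfac : (Nat.card L).factorization r = 1 := by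
    rw [hcardL, Nat.factorization_mul (by positivity) (Fact.out : r.Prime).ne_zero,
      Finsupp.add_apply, Nat.prime_two.factorization_pow, Finsupp.single_eq_of_ne hr,
      (Fact.out : r.Prime).factorization_self]
  let S1 : Sylow r L := Sylow.ofCard Q (by
    rw [hQ, Cfsg.Agent.Coprime.card_subgroupOf le_sup_right, Nat.card_zpowers, hxo, hfac, pow_one])
  let S2 : Sylow r L := Sylow.ofCard Q' (by
    rw [hQ', Cfsg.Agent.Coprime.card_subgroupOf (zpowers_le.2 hxs), Nat.card_zpowers, show orderOf (s0 * x * s0⁻¹) = orderOf x from MulEquiv.orderOf_eq (MulAut.conj s0) x,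
      hxo, hfac, pow_one])
  obtain ⟨l, hl⟩ := MulAction.exists_smul_eq L S1 S2
  obtain ⟨y, hy, xi, hxi, hyxi⟩ := (Cfsg.Agent.Coprime.mem_sup_of_le_normalizer hyX).1 l.2
  -- the element `y⁻¹ * s0` normalises `⟨x⟩`
  set s1 := y⁻¹ * s0 with hs1
  have hπs1 : π s1 = sb := by
    rw [hs1, map_mul, map_inv, show π y = 1 from (QuotientGroup.eq_one_iff _).2 hy, inv_one,
      one_mul]
    exact hs0
  have hmem : s1 * x * s1⁻¹ ∈ zpowers x := by
    have h1 : (⟨s0 * x * s0⁻¹, hxs⟩ : L) ∈ ((S2 : Subgroup L)) := mem_zpowers (s0 * x * s0⁻¹)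
    rw [← hl, Sylow.coe_subgroup_smul, mem_pointwise_smul_iff_inv_smul_mem] at h1
    have h2 : (l : H)⁻¹ * (s0 * x * s0⁻¹) * l ∈ zpowers x := by
      have h3 : ((MulAut.conj l)⁻¹ • (⟨s0 * x * s0⁻¹, hxs⟩ : L)) ∈ Q := h1
      rw [hQ, mem_subgroupOf] at h3
      simpa [MulAut.smul_def, mul_assoc] using h3
    have h4 := (zpowers x).mul_mem ((zpowers x).mul_mem hxi h2) ((zpowers x).inv_mem hxi)
    rw [← hyxi] at h4
    simpa [hs1, mul_assoc] using h4
  have hcomm : Commute s1 x := by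
    obtain ⟨j, hj⟩ := mem_zpowers_iff.1 hmem
    have h1 : π (x ^ j) = π x := by
      rw [hj, map_mul, map_mul, map_inv, hπs1, hπx]
      rw [((hc.symm).pow_right (2 ^ m)).eq]; group
    rw [map_zpow] at h1
    have h2 : (π x) ^ (j - 1) = 1 := by rw [zpow_sub, zpow_one, h1, mul_inv_cancel]
    have h3 : x ^ (j - 1) = 1 := by
      rw [← orderOf_dvd_iff_zpow_eq_one, hxo, ← hπxo, orderOf_dvd_iff_zpow_eq_one]; exact h2
    rw [zpow_sub, zpow_one, mul_inv_eq_one, hj, mul_inv_eq_iff_eq_mul] at h3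
    exact h3
  -- the 2-part
  obtain ⟨s, b, hsb, hsc, hsz, hbz, ⟨e, he⟩, hb⟩ :=
    Cfsg.Agent.Fusion.exists_pPart_mul (p := 2) s1 (isOfFinOrder_of_finite s1)
  have hπb : π b = 1 := by
    obtain ⟨i, hi⟩ := mem_zpowers_iff.1 hbz
    have h1 : π b = sb ^ i := by rw [← hi, map_zpow, hπs1]
    rw [← orderOf_eq_one_iff]
    have h2 : orderOf (π b) ∣ 2 := by
      rw [h1]; exact (orderOf_dvd_of_mem_zpowers (mem_zpowers_iff.2 ⟨i, rfl⟩)).trans hs.dvd
    exact Nat.eq_one_of_dvd_coprimes hb (orderOf_map_dvd π b) h2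
  have hπs : π s = sb := by
    have h1 := congrArg π hsb
    rw [map_mul π s b, hπb, mul_one] at h1
    exact h1.symm.trans hπs1
  have hs1' : s ≠ 1 := fun h => by
    rw [h, map_one] at hπs; rw [← hπs, orderOf_one] at hs; omega
  obtain ⟨e', -, he'⟩ := (Nat.dvd_prime_pow Nat.prime_two).1 he
  have he0 : e' ≠ 0 := fun h => hs1' (orderOf_eq_one_iff.1 (by rw [he', h, pow_zero]))
  set t := s ^ 2 ^ (e' - 1) with ht
  have hto : orderOf t = 2 := by
    rw [ht, orderOf_pow_of_dvd (by positivity) (he' ▸ pow_dvd_pow 2 (by omega)), he',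
      Nat.pow_div (by omega) two_pos, show e' - (e' - 1) = 1 by omega, pow_one]
  have hxs' : Commute x s := by
    obtain ⟨i, hi⟩ := mem_zpowers_iff.1 hsz
    rw [← hi]; exact hcomm.symm.zpow_right i
  have htp : IsPGroup 2 (zpowers t) := IsPGroup.of_card (n := 1) (by rw [Nat.card_zpowers, hto, pow_one])
  have hYne : (Cfsg.pCore 2 H) ≠ ⊥ := fun h => by
    have := centralizer_pCore_le hO (x := x) (mem_centralizer_iff.2 fun z hz => by
      rw [show z = 1 by rw [← mem_bot, ← h]; exact hz]; simp)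
    change x ∈ (Cfsg.pCore 2 H) at this
    rw [h, mem_bot] at this
    exact hx1 this
  obtain ⟨u, huY, huo, htu⟩ := exists_invol_fixed htp hYne
  have hxu := not_commute_invol hI hto hxodd (hxs'.pow_right _) u huY htu
  exact hx1 (eq_one_of_commute hO hI hxodd huY (fun h => by rw [h, orderOf_one] at huo; omega) hxu)

/-- Subgroups of odd prime power order are cyclic. -/
theorem isCyclic_of_odd [Group.IsSolvable H] (hO : Cfsg.oddCore H = ⊥)
    (hI : ∀ t : H, orderOf t = 2 → Cfsg.HasNormalPComplement 2 ↥(centralizer ({t} : Set H)))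
    {p : ℕ} [Fact p.Prime] (hp : p ≠ 2) {A : Subgroup H} (hA : IsPGroup p A) : IsCyclic A := by
  by_contra hnc
  suffices huniq : ∀ B C : Subgroup A, Nat.card B = p → Nat.card C = p → B = C by
    rcases Cfsg.Agent.Fusion.cyclic_or_quaternion_of_unique hA huniq with h | ⟨h, -⟩
    · exact hnc h
    · exact hp h
  by_contra hcon
  push Not at hcon
  obtain ⟨B, C, hB, hC, hBC⟩ := hcon
  haveI : Nontrivial ↥A := by
    by_contra hn
    rw [not_nontrivial_iff_subsingleton] at hn
    exact hBC (Subsingleton.elim B C)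
  haveI := hA.center_nontrivial
  obtain ⟨⟨c, hc⟩, hco⟩ := exists_prime_orderOf_dvd_card' p
    ((hA.to_subgroup (center ↥A)).card_eq_or_dvd.resolve_left Finite.one_lt_card.ne')
  rw [Subgroup.orderOf_mk] at hco
  obtain ⟨D, hD, hDne⟩ : ∃ D : Subgroup A, Nat.card D = p ∧ D ≠ zpowers c := by
    rcases eq_or_ne B (zpowers c) with h | h
    · exact ⟨C, hC, fun hb => hBC (h.trans hb.symm)⟩
    · exact ⟨B, hB, h⟩
  obtain ⟨⟨d, hdD⟩, hd⟩ := exists_prime_orderOf_dvd_card' (G := D) p (by rw [hD])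
  rw [Subgroup.orderOf_mk] at hd
  have hdc : d ∉ zpowers c := fun hdc => hDne (by
    have e1 : zpowers d = D := eq_of_le_of_card_ge (zpowers_le.2 hdD)
      (by rw [Nat.card_zpowers, hd, hD])
    have e2 : zpowers d = zpowers c := eq_of_le_of_card_ge (zpowers_le.2 hdc)
      (by rw [Nat.card_zpowers, Nat.card_zpowers, hd, hco])
    exact e1.symm.trans e2)
  have hcd : Commute (c : H) (d : H) := (congrArg Subtype.val (mem_center_iff.1 hc d)).symm
  have hcp : (c : H) ^ p = 1 := orderOf_dvd_iff_pow_eq_one.1 ((orderOf_coe c).trans hco).dvd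
  have hdp : (d : H) ^ p = 1 := orderOf_dvd_iff_pow_eq_one.1 ((orderOf_coe d).trans hd).dvd
  obtain ⟨m, hm⟩ := IsPGroup.iff_card.1 (isPGroup_pCore (H := H))
  have hcop : p.Coprime (Nat.card (Cfsg.pCore 2 H)) := by
    rw [hm]; exact ((Nat.coprime_primes Fact.out Nat.prime_two).2 hp).pow_right m
  have hfp : ∀ z : H, orderOf z = p → Cfsg.pCore 2 H ⊓ centralizer {z} ≤ ⊥ := by
    intro z hz y hy
    rw [mem_bot]
    by_contra hy1
    obtain ⟨hyY, hyc⟩ := mem_inf.1 hy
    have := eq_one_of_commute hO hI (x := z) (hz ▸ (Fact.out : p.Prime).odd_of_ne_two hp) hyY hy1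
      (mem_centralizer_singleton_iff.1 hyc).symm
    rw [this, orderOf_one] at hz
    exact (Fact.out : p.Prime).ne_one hz.symm
  have hle := Cfsg.Agent.Coprime.le_of_centralizers_le (K := Cfsg.pCore 2 H) (W := ⊥) hcd
    (le_normalizer_of_normal (mem_top _)) (le_normalizer_of_normal (mem_top _))
    (Fact.out : p.Prime) (hcp ▸ one_mem _) (hdp ▸ one_mem _) hcop
    (by
      obtain ⟨k, hk⟩ := IsPGroup.iff_card.1 (hA.to_le ((closure_le _).2 (by
        rintro v (rfl | rfl)
        · exact c.2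
        · exact d.2) : closure {(c : H), (d : H)} ≤ A))
      rw [hk]; exact hcop.pow_left k)
    (hfp _ ((orderOf_coe c).trans hco))
    (fun k => hfp _ (orderOf_eq_prime
      (by rw [(hcd.pow_left k).mul_pow, ← pow_mul, mul_comm, pow_mul, hcp, one_pow, one_mul, hdp])
      (fun h1 => hdc (by
        have : d = (c ^ k)⁻¹ := Subtype.ext (by push_cast; exact eq_inv_of_mul_eq_one_right h1)
        rw [this]; exact inv_mem (pow_mem (mem_zpowers c) k)))))
  have := centralizer_pCore_le hO (x := (c : H)) (mem_centralizer_iff.2 fun z hz => by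
    rw [mem_bot.1 (hle hz)]; simp)
  have h1 : (c : H) = 1 := mem_bot.1 (hle this)
  rw [← orderOf_eq_one_iff, orderOf_coe, hco] at h1
  exact (Fact.out : p.Prime).ne_one h1

theorem relIndex_dvd_index_normal {G : Type*} [Group G] [Finite G] (K N : Subgroup G) [N.Normal] :
    K.relIndex N ∣ K.index := by
  have h1 : (K ⊓ N).relIndex K = N.relIndex (K ⊔ N) := by
    rw [inf_relIndex_left, relIndex_sup_right]
  have h2 := (relIndex_mul_relIndex (K ⊓ N) K (K ⊔ N) inf_le_left le_sup_left).trans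
    (relIndex_mul_relIndex (K ⊓ N) N (K ⊔ N) inf_le_right le_sup_right).symm
  rw [h1, inf_relIndex_right, mul_comm] at h2
  rw [← Nat.eq_of_mul_eq_mul_right (Nat.pos_of_ne_zero FiniteIndex.index_ne_zero) h2]
  exact relIndex_dvd_index_of_le le_sup_left

/-- Let H be a finite solvable group with no nontrivial normal subgroup of odd order in which the centralizer of every involution has a normal 2-complement. Let X be a Hall 2'-subgroup of H (odd order, index a power of 2) and Y = O₂(H). Then no non-identity element of X commutes with a non-identity element of Y (so for X ≠ 1 the group XY is a Frobenius group with kernel Y), every Sylow subgroup of X is cyclic, XY is normal in H, and H/XY is a cyclic 2-group. -/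
theorem result {H : Type*} [Group H] [Finite H] (hsol : Group.IsSolvable H)
    (hO : Cfsg.oddCore H = ⊥)
    (hI : ∀ t : H, orderOf t = 2 → Cfsg.HasNormalPComplement 2 ↥(Subgroup.centralizer ({t} : Set H)))
    (X : Subgroup H) (hXodd : Odd (Nat.card X)) (hXidx : ∃ k : ℕ, X.index = 2 ^ k) :
    (∀ x ∈ X, x ≠ 1 → ∀ y ∈ Cfsg.pCore 2 H, y ≠ 1 → x * y ≠ y * x) ∧
      (∀ (p : ℕ) [Fact p.Prime] (P : Sylow p ↥X), IsCyclic ↥(P : Subgroup ↥X)) ∧
      (X ⊔ Cfsg.pCore 2 H).Normal ∧
      ∀ hN : (X ⊔ Cfsg.pCore 2 H).Normal, IsCyclic (H ⧸ (X ⊔ Cfsg.pCore 2 H)) ∧ IsPGroup 2 (H ⧸ (X ⊔ Cfsg.pCore 2 H)) := by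
  haveI := hsol
  set Y := Cfsg.pCore 2 H with hY
  refine ⟨fun x hx hx1 y hy hy1 hc => hx1 (eq_one_of_commute hO hI ?_ hy hy1 hc), fun p _ P => ?_,
    ?_⟩
  · rw [← Subgroup.orderOf_mk (a := x) hx]
    exact hXodd.of_dvd_nat (orderOf_dvd_natCard _)
  · rcases eq_or_ne p 2 with rfl | hp
    · obtain ⟨k, hk⟩ := IsPGroup.iff_card.1 P.2
      have h1 : Nat.card (P : Subgroup X) = 1 := by
        rcases Nat.eq_zero_or_pos k with h | h
        · rw [hk, h, pow_zero]
        · exact absurd (hXodd.of_dvd_nat (card_subgroup_dvd_card (P : Subgroup X)))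
            (by rw [hk, Nat.not_odd_iff_even]; exact Nat.even_pow.2 ⟨even_two, h.ne'⟩)
      haveI := (Nat.card_eq_one_iff_unique.1 h1).1
      exact isCyclic_of_subsingleton
    · have := isCyclic_of_odd hO hI hp (P.2.map X.subtype)
      exact isCyclic_of_surjective _
        ((P : Subgroup X).equivMapOfInjective X.subtype X.subtype_injective).symm.surjective
  -- the quotient by the 2-core
  set π := QuotientGroup.mk' Y with hπ
  have hπs : Function.Surjective π := QuotientGroup.mk'_surjective Y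
  obtain ⟨m, hm⟩ := IsPGroup.iff_card.1 (isPGroup_pCore (H := H))
  have hO2 : Cfsg.pCore 2 (H ⧸ Y) = ⊥ := Cfsg.Agent.Core.pCore_quotient_eq_bot
  haveI : Group.IsSolvable (H ⧸ Y) := Group.isSolvable_of_surjective hπs
  set F := Cfsg.fittingSubgroup (H ⧸ Y) with hF
  have hFodd : Odd (Nat.card F) := by
    rw [← Nat.not_even_iff_odd, even_iff_two_dvd]
    intro h2
    obtain ⟨P⟩ := (inferInstance : Nonempty (Sylow 2 F))
    haveI hPn : (P : Subgroup F).Normal := inferInstance
    have h1 := Subgroup.map_mono (f := F.subtype) (Cfsg.Agent.Core.le_pCore (N := (P : Subgroup F)) P.2)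
    rw [Cfsg.Agent.Core.map_pCore_normal, hO2, bot_inf_eq, le_bot_iff,
      Subgroup.map_eq_bot_iff_of_injective _ F.subtype_injective] at h1
    exact P.ne_bot_of_dvd_card h2 h1
  have hXY : X ⊔ Y = (X.map π).comap π := by
    rw [Subgroup.comap_map_eq, hπ, QuotientGroup.ker_mk']
  obtain ⟨k, hk⟩ := hXidx
  have hXi : ∃ k', (X.map π).index = 2 ^ k' := by
    obtain ⟨a, -, ha⟩ := (Nat.dvd_prime_pow Nat.prime_two).1 (hk ▸ X.index_map_dvd hπs)
    exact ⟨a, ha⟩
  obtain ⟨k', hk'⟩ := hXi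
  have hFX : F ≤ X.map π := by
    intro f hf
    set Xb := X.map π
    have hfn : F ≤ Subgroup.normalizer (F : Set (H ⧸ Y)) := Subgroup.le_normalizer
    have h1 : Xb.relIndex F ∣ 2 ^ k' := by
      rw [← hk']
      have h := Subgroup.relIndex_dvd_of_le_left F (inf_le_left : Xb ⊓ F ≤ Xb)
      exact relIndex_dvd_index_normal Xb F
    have h2 : Xb.relIndex F ∣ Nat.card F := Subgroup.index_dvd_card _
    have h3 : Xb.relIndex F = 1 := Nat.eq_one_of_dvd_coprimes
      ((Nat.coprime_two_right.2 hFodd).pow_right k') h2 h1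
    exact Subgroup.relIndex_eq_one.1 h3 hf
  -- `F` is cyclic, so the quotient by it is abelian
  have hFZ : IsZGroup F := by
    refine ⟨fun p hp P => ?_⟩
    haveI : Fact p.Prime := ⟨hp⟩
    rcases eq_or_ne p 2 with rfl | hp2
    · obtain ⟨j, hj⟩ := IsPGroup.iff_card.1 P.2
      have h1 : Nat.card (P : Subgroup F) = 1 := by
        rcases Nat.eq_zero_or_pos j with h | h
        · rw [hj, h, pow_zero]
        · exact absurd (hFodd.of_dvd_nat (card_subgroup_dvd_card (P : Subgroup F)))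
            (by rw [hj, Nat.not_odd_iff_even]; exact Nat.even_pow.2 ⟨even_two, h.ne'⟩)
      haveI := (Nat.card_eq_one_iff_unique.1 h1).1
      exact isCyclic_of_subsingleton
    · obtain ⟨S⟩ := (inferInstance : Nonempty (Sylow p H))
      haveI hcyc : IsCyclic ↥(S : Subgroup H) := isCyclic_of_odd hO hI hp2 S.2
      obtain ⟨T, hT⟩ := (P.2.map F.subtype).exists_le_sylow
      obtain ⟨g, hg⟩ := MulAction.exists_smul_eq (H ⧸ Y) (S.mapSurjective hπs) T
      haveI : IsCyclic ↥(S.mapSurjective hπs : Subgroup (H ⧸ Y)) := by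
        rw [Sylow.coe_mapSurjective]
        exact isCyclic_of_surjective _ (π.subgroupMap_surjective (S : Subgroup H))
      haveI : IsCyclic ↥(T : Subgroup (H ⧸ Y)) :=
        isCyclic_of_surjective _ (((S.mapSurjective hπs).equiv T).surjective)
      exact isCyclic_of_injective
        ((Subgroup.inclusion hT).comp ((P : Subgroup F).equivMapOfInjective F.subtype F.subtype_injective).toMonoidHom)
        ((Subgroup.inclusion_injective hT).comp ((P : Subgroup F).equivMapOfInjective F.subtype F.subtype_injective).injective)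
  haveI := hFZ
  haveI : Group.IsNilpotent F := Cfsg.Agent.Core.fittingSubgroup_isNilpotent
  haveI hFc : IsCyclic F := inferInstance
  have hab : ∀ a b : H ⧸ Y, a * b * a⁻¹ * b⁻¹ ∈ F := by
    intro a b
    apply Cfsg.Agent.Core.centralizer_fittingSubgroup_le
    refine Subgroup.mem_centralizer_iff.2 fun f hf => ?_
    obtain ⟨⟨c, hc⟩, hgen⟩ := IsCyclic.exists_zpow_surjective (G := F)
    have hpow : ∀ g : H ⧸ Y, ∃ i : ℤ, ∀ f ∈ F, g * f * g⁻¹ = f ^ i := by
      intro g
      obtain ⟨i, hi⟩ := hgen ⟨g * c * g⁻¹,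
        (Cfsg.Agent.Core.fittingSubgroup_normal).conj_mem c hc g⟩
      have hi' : c ^ i = g * c * g⁻¹ := congrArg Subtype.val hi
      refine ⟨i, fun f hf => ?_⟩
      obtain ⟨j, hj⟩ := hgen ⟨f, hf⟩
      have hj' : c ^ j = f := congrArg Subtype.val hj
      rw [← hj', ← conj_zpow, ← hi', ← zpow_mul, mul_comm, zpow_mul]
    obtain ⟨i, hi⟩ := hpow a
    obtain ⟨j, hj⟩ := hpow b
    have key : a * b * f * (a * b)⁻¹ = b * a * f * (b * a)⁻¹ := by
      calc a * b * f * (a * b)⁻¹ = a * (b * f * b⁻¹) * a⁻¹ := by group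
        _ = (f ^ j) ^ i := by rw [hj f hf, hi _ (F.zpow_mem hf j)]
        _ = (f ^ i) ^ j := by rw [← zpow_mul, mul_comm, zpow_mul]
        _ = b * (a * f * a⁻¹) * b⁻¹ := by rw [hi f hf, hj _ (F.zpow_mem hf i)]
        _ = b * a * f * (b * a)⁻¹ := by group
    have key2 : ∀ f' ∈ F, a * b * f' * (a * b)⁻¹ = b * a * f' * (b * a)⁻¹ := by
      intro f' hf'
      calc a * b * f' * (a * b)⁻¹ = a * (b * f' * b⁻¹) * a⁻¹ := by group
        _ = (f' ^ j) ^ i := by rw [hj f' hf', hi _ (F.zpow_mem hf' j)]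
        _ = (f' ^ i) ^ j := by rw [← zpow_mul, mul_comm, zpow_mul]
        _ = b * (a * f' * a⁻¹) * b⁻¹ := by rw [hi f' hf', hj _ (F.zpow_mem hf' i)]
        _ = b * a * f' * (b * a)⁻¹ := by group
    have hf2 : (b * a)⁻¹ * f * (b * a) ∈ F := by
      have h := (Cfsg.Agent.Core.fittingSubgroup_normal).conj_mem f hf (b * a)⁻¹
      rw [inv_inv] at h
      exact h
    have h3 := key2 _ hf2
    calc f * (a * b * a⁻¹ * b⁻¹)
        = (b * a * ((b * a)⁻¹ * f * (b * a)) * (b * a)⁻¹) * (a * b * a⁻¹ * b⁻¹) := by group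
      _ = a * b * a⁻¹ * b⁻¹ * f := by rw [← h3]; group
  haveI hXn : (X.map π).Normal := by
    refine ⟨fun x hx g => ?_⟩
    have h := (X.map π).mul_mem (hFX (hab g x)) hx
    simpa [mul_assoc] using h
  refine ⟨hXY ▸ hXn.comap π, fun hN => ?_⟩
  haveI := hN
  have hp2 : IsPGroup 2 (H ⧸ (X ⊔ Y)) := by
    obtain ⟨e, -, he⟩ := (Nat.dvd_prime_pow Nat.prime_two).1
      (hk ▸ Subgroup.index_dvd_of_le (le_sup_left : X ≤ X ⊔ Y))
    exact IsPGroup.of_card (by rw [← Subgroup.index_eq_card, he])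
  refine ⟨?_, hp2⟩
  -- a Sylow 2-subgroup of `H ⧸ Y` has a unique involution
  obtain ⟨S⟩ := (inferInstance : Nonempty (Sylow 2 (H ⧸ Y)))
  have hSF : (S : Subgroup (H ⧸ Y)) ⊓ F = ⊥ := by
    obtain ⟨j, hj⟩ := IsPGroup.iff_card.1 S.2
    refine Subgroup.inf_eq_bot_of_coprime ?_
    rw [hj]; exact (Nat.coprime_two_left.2 hFodd).pow_left j
  have hSab : ∀ a b : ↥(S : Subgroup (H ⧸ Y)), a * b = b * a := by
    intro a b
    have h1 : (a * b * a⁻¹ * b⁻¹ : H ⧸ Y) ∈ (S : Subgroup (H ⧸ Y)) ⊓ F :=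
      ⟨(a * b * a⁻¹ * b⁻¹).2, hab a b⟩
    rw [hSF, Subgroup.mem_bot] at h1
    push_cast at h1
    rw [mul_inv_eq_one, mul_inv_eq_iff_eq_mul] at h1
    exact Subtype.ext h1
  by_cases hFbot : F = ⊥
  · have htop : ∀ z : H ⧸ Y, z ∈ F := fun z => Cfsg.Agent.Core.centralizer_fittingSubgroup_le
      (Subgroup.mem_centralizer_iff.2 fun f hf => by
        rw [← hF, hFbot] at hf; rw [Subgroup.mem_bot.1 hf]; simp)
    haveI : Subsingleton (H ⧸ (X ⊔ Y)) := by
      refine ⟨fun a b => ?_⟩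
      obtain ⟨a, rfl⟩ := QuotientGroup.mk_surjective a
      obtain ⟨b, rfl⟩ := QuotientGroup.mk_surjective b
      refine QuotientGroup.eq.2 (Subgroup.mem_sup_right ?_)
      have := htop (π (a⁻¹ * b))
      rw [hFbot, Subgroup.mem_bot] at this
      exact (QuotientGroup.eq_one_iff _).1 this
    exact isCyclic_of_subsingleton
  have hone : ∀ u v : ↥(S : Subgroup (H ⧸ Y)), orderOf u = 2 → orderOf v = 2 → u = v := by
    intro u v hu hv
    by_contra huv
    have hfp : ∀ w : H ⧸ Y, orderOf w = 2 → F ⊓ Subgroup.centralizer {w} ≤ ⊥ := by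
      intro w hw
      rw [le_bot_iff]
      by_contra hne
      obtain ⟨r, hr, hrd⟩ := Nat.exists_prime_and_dvd (n := Nat.card ↥(F ⊓ Subgroup.centralizer {w}))
        (fun h => hne (Subgroup.card_eq_one.1 h))
      haveI : Fact r.Prime := ⟨hr⟩
      have hr2 : r ≠ 2 := by
        rintro rfl
        exact Nat.not_even_iff_odd.2 hFodd (even_iff_two_dvd.2
          (hrd.trans (Subgroup.card_dvd_of_le inf_le_left)))
      obtain ⟨⟨x, hx⟩, hxo⟩ := exists_prime_orderOf_dvd_card' r hrd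
      rw [Subgroup.orderOf_mk] at hxo
      exact not_commute_mod hO hI hr2 hxo hw
        (Subgroup.mem_centralizer_singleton_iff.1 (Subgroup.mem_inf.1 hx).2)
    have hu2 : (u : H ⧸ Y) ^ 2 = 1 := orderOf_dvd_iff_pow_eq_one.1 ((orderOf_coe u).trans hu).dvd
    have hv2 : (v : H ⧸ Y) ^ 2 = 1 := orderOf_dvd_iff_pow_eq_one.1 ((orderOf_coe v).trans hv).dvd
    have huv' : Commute (u : H ⧸ Y) v := congrArg Subtype.val (hSab u v)
    refine hFbot (le_bot_iff.1 (Cfsg.Agent.Coprime.le_of_centralizers_le huv'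
      (Subgroup.le_normalizer_of_normal (Subgroup.mem_top _))
      (Subgroup.le_normalizer_of_normal (Subgroup.mem_top _)) Nat.prime_two
      (hu2 ▸ one_mem _) (hv2 ▸ one_mem _) (Nat.coprime_two_left.2 hFodd) ?_
      (hfp _ ((orderOf_coe u).trans hu)) fun i => hfp _ ?_))
    · obtain ⟨j, hj⟩ := IsPGroup.iff_card.1 (S.2.to_le ((Subgroup.closure_le _).2 (by
        rintro z (rfl | rfl)
        · exact u.2
        · exact v.2) : Subgroup.closure {(u : H ⧸ Y), (v : H ⧸ Y)} ≤ S))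
      rw [hj]; exact (Nat.coprime_two_left.2 hFodd).pow_left j
    · refine orderOf_eq_prime (by
        rw [(huv'.pow_left i).mul_pow, ← pow_mul, mul_comm, pow_mul, hu2, one_pow, one_mul, hv2])
        fun h1 => ?_
      rcases Nat.even_or_odd i with ⟨j, rfl⟩ | ⟨j, rfl⟩
      · rw [← two_mul, pow_mul, hu2, one_pow, one_mul] at h1
        rw [← orderOf_eq_one_iff, orderOf_coe, hv] at h1
        omega
      · rw [pow_succ, pow_mul, hu2, one_pow, one_mul] at h1
        apply huv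
        apply Subtype.ext
        rw [eq_inv_of_mul_eq_one_left h1]
        exact inv_eq_of_mul_eq_one_right (by rw [← pow_two, hv2])
  haveI hScyc : IsCyclic ↥(S : Subgroup (H ⧸ Y)) := by
    rcases Cfsg.Agent.Fusion.cyclic_or_quaternion S.2 (fun u v hu hv => hone u v hu hv) with h | ⟨n, hn, ⟨e⟩⟩
    · exact h
    · exfalso
      have h1 := congrArg e (hSab (e.symm (QuaternionGroup.a 1)) (e.symm (QuaternionGroup.xa 0)))
      simp only [map_mul, MulEquiv.apply_symm_apply, QuaternionGroup.a_mul_xa,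
        QuaternionGroup.xa_mul_a, zero_sub, zero_add] at h1
      have h2 : ((2 : ℕ) : ZMod (2 * 2 ^ n)) = 0 := by
        have h3 := QuaternionGroup.xa.inj h1
        push_cast
        linear_combination -h3
      rw [ZMod.natCast_eq_zero_iff] at h2
      have := Nat.le_of_dvd two_pos h2
      have : 2 ≤ 2 ^ n := le_self_pow₀ (by norm_num) (by omega)
      omega
  let ψ : H ⧸ Y →* H ⧸ (X ⊔ Y) := QuotientGroup.map Y (X ⊔ Y) (MonoidHom.id H) (by simp [le_sup_right])
  refine isCyclic_of_surjective (ψ.comp (S : Subgroup (H ⧸ Y)).subtype) ?_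
  have hψs : Function.Surjective ψ := by
    intro z
    obtain ⟨z, rfl⟩ := QuotientGroup.mk_surjective z
    exact ⟨(z : H ⧸ Y), rfl⟩
  intro z
  have htop : ((S.mapSurjective hψs : Sylow 2 (H ⧸ (X ⊔ Y))) : Subgroup (H ⧸ (X ⊔ Y))) = ⊤ :=
    hp2.to_subgroup ⊤ |> fun h => le_antisymm le_top
      ((S.mapSurjective hψs).3 h le_top).le
  rw [Sylow.coe_mapSurjective] at htop
  obtain ⟨s, hs, rfl⟩ := htop.symm ▸ Subgroup.mem_top z
  exact ⟨⟨s, hs⟩, rfl⟩

end Cfsg.Agent.S3215
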