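import Cfsg.Statements.S3189
import Cfsg.Agent.E8Auto.Autom
import Cfsg.Agent.E8Auto.Chars

set_option autoImplicit false
open Cfsg
open scoped IsMulCommutative

namespace Cfsg.Agent.S3189

/-- Let G be a non-abelian finite simple group whose Sylow 2-subgroup S is elementary abelian of order 8, and suppose the centralizer of every involution of G is solvable. Then the normalizer of S modulo the centralizer of S has order 7. -/
theorem result {G : Type*} [Group G] [Finite G]
    [IsSimpleGroup G] (hG : ¬ IsMulCommutative G) (S : Sylow 2 G)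
    (hS : Cfsg.IsElementaryAbelian 2 (S : Subgroup G)) (hS8 : Nat.card ↥(S : Subgroup G) = 8)
    (hC : ∀ t : G, orderOf t = 2 → Group.IsSolvable ↥(Subgroup.centralizer ({t} : Set G))) :
    (Subgroup.centralizer ((S : Subgroup G) : Set G)).relIndex (Subgroup.normalizer ((S : Subgroup G) : Set G)) = 7 := by
  rcases Agent.E8Auto.automizer_cases hG S hS hS8 with h | ⟨t, x, ht, ht2, hxt, hxN, hxodd, hxC, hx3, hfix, hgen, hconj⟩
  · exact h
  · have : Fintype G := Fintype.ofFinite G
    obtain ⟨O, M, hd⟩ := Agent.E8Auto.exists_sect S hS hS8 ht ht2 hxt hxN hxodd hxC hx3 hfix hgen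
      (hC t ht2)
    have := hS.1
    exact (Agent.E8Auto.no_sect hS8 (fun s hs => Subgroup.mem_centralizer_singleton_iff.2
      (congrArg Subtype.val (mul_comm' (⟨s, hs⟩ : (S : Subgroup G)) ⟨t, ht⟩))) ht ht2 hconj hd).elim

end Cfsg.Agent.S3189
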