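import Cfsg.Statements.S5408
import Cfsg.Agent.Leech.QuadForm

set_option autoImplicit false
open Cfsg

namespace Cfsg.Agent.S5408

open Cfsg.Agent

section

variable {P : Type*} [Group P]

/-- the commutator used below -/
def comm' (x y : P) : P := y⁻¹ * x⁻¹ * y * x

theorem sq_mul_of_central (x y : P) (h : comm' x y ∈ Subgroup.center P) :
    (x * y) ^ 2 = x ^ 2 * y ^ 2 * comm' x y := by
  have hc : y * x = x * y * comm' x y := by simp only [comm']; group
  have hz := Subgroup.mem_center_iff.1 h y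
  calc (x * y) ^ 2 = x * (y * x) * y := by simp only [sq, mul_assoc]
    _ = x * x * y * (comm' x y * y) := by rw [hc]; simp only [mul_assoc]
    _ = x ^ 2 * y ^ 2 * comm' x y := by rw [← hz]; simp only [sq, mul_assoc]

theorem comm'_mul_left (x₁ x₂ y : P) (h : comm' x₁ y ∈ Subgroup.center P) :
    comm' (x₁ * x₂) y = comm' x₁ y * comm' x₂ y := by
  have hz : x₂⁻¹ * y⁻¹ * x₁⁻¹ * y * x₁ = x₂⁻¹ * (comm' x₁ y) := by simp only [comm', mul_assoc]
  have hz' := Subgroup.mem_center_iff.1 h (y⁻¹ * x₂⁻¹ * y)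
  calc comm' (x₁ * x₂) y = y⁻¹ * x₂⁻¹ * y * comm' x₁ y * x₂ := by simp only [comm']; group
    _ = comm' x₁ y * comm' x₂ y := by rw [hz']; simp only [comm', mul_assoc]

theorem comm'_congr (x y a b : P) (ha : a ∈ Subgroup.center P) (hb : b ∈ Subgroup.center P) :
    comm' (x * a) (y * b) = comm' x y := by
  simp only [comm', mul_inv_rev]
  have h1 : ∀ t, a * t = t * a := fun t => (Subgroup.mem_center_iff.1 ha t).symm
  have h2 : ∀ t, b * t = t * b := fun t => (Subgroup.mem_center_iff.1 hb t).symm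
  have h1' : ∀ t, a⁻¹ * t = t * a⁻¹ := fun t =>
    (Subgroup.mem_center_iff.1 (inv_mem ha) t).symm
  have h2' : ∀ t, b⁻¹ * t = t * b⁻¹ := fun t =>
    (Subgroup.mem_center_iff.1 (inv_mem hb) t).symm
  calc b⁻¹ * y⁻¹ * (a⁻¹ * x⁻¹) * (y * b) * (x * a)
      = y⁻¹ * (b⁻¹ * (a⁻¹ * x⁻¹) * y * b) * (x * a) := by rw [h2' y⁻¹]; simp only [mul_assoc]
    _ = y⁻¹ * (a⁻¹ * x⁻¹ * y) * (x * a) := by
        rw [h2' (a⁻¹ * x⁻¹), mul_assoc _ b⁻¹ y, h2' y]; simp [mul_assoc]
    _ = y⁻¹ * x⁻¹ * y * x := by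
        rw [h1' x⁻¹, mul_assoc x⁻¹ a⁻¹ y, h1' y]
        have : a⁻¹ * (x * a) = x := by rw [← mul_assoc, h1', mul_assoc, inv_mul_cancel, mul_one]
        simp only [mul_assoc, this]

end

theorem plus_of_data {G : Type*} [Group G] [Finite G] {z : G}
    (Q : Subgroup (Subgroup.centralizer ({z} : Set G))) [Q.Normal]
    (hQ : Cfsg.IsExtraspecial 2 Q) (hcard : Nat.card Q = 2 ^ (2 * 12 + 1))
    (e : (Subgroup.centralizer ({z} : Set G)) ⧸ Q ≃* Spor.Co1)
    (ψ : leechLattice → Q ⧸ Subgroup.center Q)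
    (hadd : ∀ v w : leechLattice, ψ (v + w) = ψ v * ψ w) (hsurj : Function.Surjective ψ)
    (hker : ∀ v : leechLattice, ψ v = 1 ↔ ∃ w : leechLattice, v = w + w)
    (hconj : ∀ (h : Subgroup.centralizer ({z} : Set G)) (g : Co0),
      (QuotientGroup.mk g : Spor.Co1) = e (QuotientGroup.mk h) →
      ∀ (v : leechLattice) (q : Q), ψ v = QuotientGroup.mk q →
        ψ (g • v) = QuotientGroup.mk
          ⟨h * q * h⁻¹, (inferInstance : Q.Normal).conj_mem (q : Subgroup.centralizer ({z} : Set G)) q.2 h⟩) :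
    ∃ E : Subgroup Q, Cfsg.IsElementaryAbelian 2 E ∧ Nat.card E = 2 ^ 13 := by
  classical
  have hψ0 : ψ 0 = 1 := by
    have := hadd 0 0
    rw [add_zero] at this
    exact left_eq_mul.1 this
  have hZcard : Nat.card (Subgroup.center Q) = 2 := hQ.2
  have hone : ∀ x : Q, x ∈ Subgroup.center Q → ∀ y ∈ Subgroup.center Q, x ≠ 1 → y ≠ 1 → x = y := by
    intro x hx y hy hx1 hy1
    obtain ⟨-, hu⟩ := Nat.card_eq_two_iff' (1 : Subgroup.center Q) |>.1 hZcard |>.choose_spec
    have a := hu ⟨x, hx⟩ (fun h => hx1 (congrArg Subtype.val h))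
    have b := hu ⟨y, hy⟩ (fun h => hy1 (congrArg Subtype.val h))
    exact congrArg Subtype.val (a.trans b.symm)
  let χ : Q → ZMod 2 := fun x => if x = 1 then 0 else 1
  have hχ : ∀ x ∈ Subgroup.center Q, ∀ y ∈ Subgroup.center Q, χ (x * y) = χ x + χ y := by
    intro x hx y hy
    simp only [χ]
    by_cases hx1 : x = 1
    · subst hx1; simp
    by_cases hy1 : y = 1
    · subst hy1; simp [hx1]
    rw [if_neg hx1, if_neg hy1]
    have hxy := hone x hx y hy hx1 hy1
    subst hxy
    have : x * x = 1 := by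
      by_contra h
      have := hone (x * x) (mul_mem hx hx) x hx h hx1
      exact hx1 (mul_eq_left.1 this)
    rw [if_pos this]; rfl
  -- the quotient has exponent two
  have hmk : ∀ {x y : Q}, (QuotientGroup.mk x : Q ⧸ Subgroup.center Q) = QuotientGroup.mk y →
      ∃ a ∈ Subgroup.center Q, y = x * a := fun {x y} h =>
    ⟨x⁻¹ * y, QuotientGroup.eq.1 h, by group⟩
  have hqcomm : ∀ a b : Q ⧸ Subgroup.center Q, a * b = b * a := by
    intro a b
    obtain ⟨v, rfl⟩ := hsurj a
    obtain ⟨w, rfl⟩ := hsurj b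
    rw [← hadd, ← hadd, add_comm]
  have hcen : ∀ x y : Q, comm' x y ∈ Subgroup.center Q := fun x y => by
    rw [← QuotientGroup.eq_one_iff]
    simp only [comm', QuotientGroup.mk_mul, QuotientGroup.mk_inv]
    rw [mul_assoc _ (QuotientGroup.mk y) (QuotientGroup.mk x), hqcomm (QuotientGroup.mk y),
      ← mul_assoc]
    group
  have hsq : ∀ x : Q, x ^ 2 ∈ Subgroup.center Q := fun x => by
    obtain ⟨v, hv⟩ := hsurj (QuotientGroup.mk x)
    rw [← QuotientGroup.eq_one_iff, QuotientGroup.mk_pow, ← hv, sq, ← hadd, hker]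
    exact ⟨v, rfl⟩
  have hsq_congr : ∀ {x y : Q}, (QuotientGroup.mk x : Q ⧸ Subgroup.center Q) = QuotientGroup.mk y →
      x ^ 2 = y ^ 2 := by
    intro x y h
    obtain ⟨a, ha, rfl⟩ := hmk h
    have hc : Commute x a := (Subgroup.mem_center_iff.1 ha x)
    rw [hc.mul_pow]
    have : a ^ 2 = 1 := by
      have := pow_card_eq_one' (G := Subgroup.center Q) (x := ⟨a, ha⟩)
      rw [hZcard] at this
      exact congrArg Subtype.val this
    rw [this, mul_one]
  let sec : leechLattice → Q := fun v => (ψ v).out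
  have hsec : ∀ v, (QuotientGroup.mk (sec v) : Q ⧸ Subgroup.center Q) = ψ v :=
    fun v => QuotientGroup.out_eq' _
  let f : leechLattice → ZMod 2 := fun v => χ (sec v ^ 2)
  let B : leechLattice → leechLattice → ZMod 2 := fun v w => χ (comm' (sec v) (sec w))
  have hfadd : ∀ v w, f (v + w) = f v + f w + B v w := by
    intro v w
    have h : sec (v + w) ^ 2 = (sec v * sec w) ^ 2 :=
      hsq_congr (by rw [hsec, hadd, QuotientGroup.mk_mul, hsec, hsec])
    simp only [f, B]
    rw [h, sq_mul_of_central _ _ (hcen _ _), hχ _ (mul_mem (hsq _) (hsq _)) _ (hcen _ _),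
      hχ _ (hsq _) _ (hsq _)]
  have hBadd : ∀ u v w, B (u + v) w = B u w + B v w := by
    intro u v w
    obtain ⟨a, ha, hae⟩ := hmk (x := sec u * sec v) (y := sec (u + v))
      (by rw [hsec, hadd, QuotientGroup.mk_mul, hsec, hsec])
    simp only [B]
    rw [hae, show sec w = sec w * 1 from (mul_one _).symm, comm'_congr _ _ a 1 ha (one_mem _),
      mul_one, comm'_mul_left _ _ _ (hcen _ _), hχ _ (hcen _ _) _ (hcen _ _)]
  have htwo : ∀ v w, f (v + (w + w)) = f v := by
    intro v w
    simp only [f]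
    congr 1
    refine hsq_congr ?_
    rw [hsec, hsec, hadd, (hker (w + w)).2 ⟨w, rfl⟩, mul_one]
  have hinv : ∀ (g : Co0) (v : leechLattice), f (g • v) = f v := by
    intro g v
    obtain ⟨h, hh⟩ := QuotientGroup.mk_surjective (e.symm (QuotientGroup.mk g))
    have hg : (QuotientGroup.mk g : Spor.Co1) = e (QuotientGroup.mk h) := by
      rw [hh, MulEquiv.apply_symm_apply]
    have hc := hconj h g hg v (sec v) (hsec v).symm
    rw [← hsec (g • v)] at hc
    have h2 := congrArg (fun t : Q => (t : Subgroup.centralizer ({z} : Set G))) (hsq_congr hc)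
    simp only [SubgroupClass.coe_pow] at h2
    rw [conj_pow] at h2
    have hiff : sec (g • v) ^ 2 = 1 ↔ sec v ^ 2 = 1 := by
      have hc1 : ∀ t : Q, t ^ 2 = 1 ↔ (t : Subgroup.centralizer ({z} : Set G)) ^ 2 = 1 := fun t => by
        rw [← SubgroupClass.coe_pow, OneMemClass.coe_eq_one]
      rw [hc1, hc1 (sec v), h2, conj_eq_one_iff]
    simp only [f, χ, hiff]
  have hvan := Leech.quad_vanish f B hfadd hBadd htwo
    (fun c hc v => hinv _ v) (fun v => hinv _ v)
  -- the preimage of the image of `doubleSub`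
  let Ψ : Multiplicative leechLattice →* Q ⧸ Subgroup.center Q :=
    { toFun := fun v => ψ v.toAdd
      map_one' := hψ0
      map_mul' := fun v w => hadd _ _ }
  let A : Subgroup (Multiplicative leechLattice) :=
    AddSubgroup.toSubgroup (Leech.doubleSub.addSubgroupOf leechLattice)
  let E : Subgroup Q := (A.map Ψ).comap (QuotientGroup.mk' (Subgroup.center Q))
  have hAindex : A.index = 2 ^ 12 := by
    rw [AddSubgroup.index_toSubgroup]; exact Leech.index_doubleSub
  have hEindex : E.index = 2 ^ 12 := by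
    rw [Subgroup.index_comap_of_surjective _ (QuotientGroup.mk'_surjective _),
      Subgroup.index_map_eq A (fun t => (hsurj t).elim fun v hv => ⟨Multiplicative.ofAdd v, hv⟩) ?_,
      hAindex]
    intro v hv
    obtain ⟨w, hw⟩ := (hker v.toAdd).1 hv
    show (v.toAdd : GolayPt → ℤ) ∈ Leech.doubleSub
    rw [hw]
    exact Leech.two_smul_mem_doubleSub w.2
  have hexp : ∀ x ∈ E, x ^ 2 = 1 := by
    intro x hx
    obtain ⟨v, hv, hvx⟩ := hx
    have h0 := hvan v.toAdd hv
    have hxs : x ^ 2 = sec v.toAdd ^ 2 := hsq_congr (by rw [hsec]; exact hvx.symm)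
    simp only [f, χ] at h0
    rw [hxs]
    by_contra hne
    rw [if_neg hne] at h0
    exact one_ne_zero h0
  refine ⟨E, ⟨⟨⟨fun a b => ?_⟩⟩, hexp⟩, ?_⟩
  · have hinvs : ∀ c : E, c⁻¹ = c := fun c => inv_eq_of_mul_eq_one_right
      (Subtype.ext (by rw [Subgroup.coe_mul, ← sq, hexp _ c.2]; rfl))
    have := hinvs (a * b)
    rw [mul_inv_rev, hinvs a, hinvs b] at this
    exact this.symm
  · have h := E.card_mul_index
    rw [hEindex, hcard] at h
    exact Nat.eq_of_mul_eq_mul_right (by norm_num : 0 < 2 ^ 12) (h.trans (by norm_num))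

/-- Let G be a finite group of Monster type at the involution z with Q the extraspecial normal subgroup of order 2^25 of C = C_G(z) (so C/Q is identified with the first Conway group with Q modulo its centre the Leech lattice modulo 2, and z is not weakly closed in Q). Then Q is of plus type: it contains an elementary abelian subgroup of order 2^13. -/
theorem result {G : Type*} [Group G] [Finite G] (z : G) (Q : Subgroup (Subgroup.centralizer ({z} : Set G))) [Q.Normal] (hM : Cfsg.IsOfMonsterType z Q) : ∃ E : Subgroup Q, Cfsg.IsElementaryAbelian 2 E ∧ Nat.card E = 2 ^ 13 := by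
  classical
  obtain ⟨⟨-, -, hQ, hcard, -⟩, e, ψ, hadd, hsurj, hker, hconj⟩ := hM
  exact plus_of_data Q hQ hcard e ψ hadd hsurj hker hconj

end Cfsg.Agent.S5408
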