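import Cfsg.Statements.S1485
import Cfsg.Agent.Char.Clifford


set_option autoImplicit false
open Cfsg

namespace Cfsg.Agent.S1485

/-- Let H be a normal subgroup of the finite group G and θ an irreducible character of H. On H, the function induced from θ equals r times the sum of the distinct G-conjugates of θ, where r is the number of elements of G fixing θ under conjugation divided by the order of H (the index of H in the inertia group). -/
theorem result {G : Type*} [Group G] [Fintype G] (H : Subgroup G) [hN : H.Normal] (θ : H → ℂ) (hθ : Cfsg.IsIrrCharacter H θ) : (fun h : H => Cfsg.indFun H θ h) = ((Nat.card {g : G // ∀ h : H, θ ⟨g * h * g⁻¹, hN.conj_mem h h.2 g⟩ = θ h} : ℂ) / (Nat.card H : ℂ)) • ∑ᶠ ψ ∈ {ψ : H → ℂ | ∃ g : G, ψ = fun h : H => θ ⟨g * h * g⁻¹, hN.conj_mem h h.2 g⟩}, ψ := by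
  classical
  set T := Char.inertia θ with hT
  have hcardT : Nat.card {g : G // ∀ h : H, θ ⟨g * h * g⁻¹, hN.conj_mem h h.2 g⟩ = θ h} =
      Nat.card T := Nat.card_congr (Equiv.subtypeEquivRight fun g => funext_iff.symm)
  rw [Char.res_indFun_eq_sum, hcardT]
  have hset : {ψ : H → ℂ | ∃ g : G, ψ = fun h : H => θ ⟨g * h * g⁻¹, hN.conj_mem h h.2 g⟩} =
      ↑(Char.orbit θ) := by
    ext ψ
    simp only [Set.mem_setOf_eq, Finset.mem_coe, Char.mem_orbit]
    exact exists_congr fun g => eq_comm
  rw [hset, finsum_mem_coe_finset]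
  have hfib : ∀ ψ ∈ Char.orbit θ,
      (Finset.univ.filter fun g : G => Char.conjFun g θ = ψ).card = Nat.card T := by
    intro ψ hψ
    obtain ⟨g₀, rfl⟩ := Char.mem_orbit.1 hψ
    rw [← Fintype.card_subtype, ← Nat.card_eq_fintype_card]
    refine Nat.card_congr
      { toFun := fun g => ⟨(g : G) * g₀⁻¹, ?_⟩
        invFun := fun t => ⟨(t : G) * g₀, ?_⟩
        left_inv := fun g => Subtype.ext (by simp)
        right_inv := fun t => Subtype.ext (by simp) }
    · rw [hT, Char.mem_inertia, ← Char.conjFun_conjFun, g.2, Char.conjFun_inv_cancel]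
    · rw [← Char.conjFun_conjFun, Char.mem_inertia.1 t.2]
  have hsum : ∑ g : G, Char.conjFun g θ = (Nat.card T : ℂ) • ∑ ψ ∈ Char.orbit θ, ψ := by
    rw [← Finset.sum_fiberwise_of_maps_to (t := Char.orbit θ)
      (fun g _ => Char.mem_orbit.2 ⟨g, rfl⟩), Finset.smul_sum]
    refine Finset.sum_congr rfl fun ψ hψ => ?_
    rw [Finset.sum_congr rfl (fun g hg => (Finset.mem_filter.1 hg).2), Finset.sum_const, hfib ψ hψ,
      Nat.cast_smul_eq_nsmul]
  rw [hsum, smul_smul, div_eq_inv_mul]

end Cfsg.Agent.S1485
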