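import Cfsg.Statements.S1528
import Cfsg.Agent.Coherence.Fixed


set_option autoImplicit false
open Cfsg

namespace Cfsg.Agent.S1528

/-- Let N be a normal subgroup of the finite group G such that every element of G commuting with a non-identity element of N lies in N. If χ is an irreducible character of G with χ n ≠ χ 1 for some n ∈ N, then χ is the function induced from some irreducible character of N. -/
theorem result {G : Type*} [Group G] [Fintype G] (N : Subgroup G) [N.Normal] (hC : ∀ n ∈ N, n ≠ 1 → Subgroup.centralizer ({n} : Set G) ≤ N) (χ : G → ℂ) (hχ : Cfsg.IsIrrCharacter G χ) (hker : ∃ n ∈ N, χ n ≠ χ 1) : ∃ φ : N → ℂ, Cfsg.IsIrrCharacter N φ ∧ χ = Cfsg.indFun N φ := by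
  classical
  letI := Fintype.ofFinite N
  obtain ⟨φ, hφ⟩ := Char.exists_constituent_res (N := N) hχ
  have hφ1 : (φ : N → ℂ) ≠ fun _ => 1 := by
    intro e
    obtain ⟨n, hn, hne⟩ := hker
    have h := Char.clifford hχ φ.2 hφ
    have horb : ∀ ψ ∈ Char.orbit (φ : N → ℂ), ψ = fun _ => (1 : ℂ) := by
      intro ψ hψ
      obtain ⟨g, rfl⟩ := Char.mem_orbit.1 hψ
      funext m
      rw [Char.conjFun_apply, e]
    have h1 := congrFun h ⟨n, hn⟩
    have h2 := congrFun h 1
    simp only [Pi.smul_apply, Finset.sum_apply, smul_eq_mul, OneMemClass.coe_one] at h1 h2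
    apply hne
    rw [h1, h2]
    congr 1
    exact Finset.sum_congr rfl fun ψ hψ => by rw [horb ψ hψ]
  have hin : Char.inertia (φ : N → ℂ) = N := by
    refine le_antisymm (fun g hg => ?_) (Char.le_inertia (Char.isClassFunction_of_isIrr φ.2))
    obtain ⟨h, hne, hconj⟩ :=
      (Coherence.fixed_irr_iff_fixed_class N g).1 ⟨φ, φ.2, hφ1, Char.mem_inertia.1 hg⟩
    obtain ⟨k, hk⟩ := isConj_iff.1 hconj
    have hk' := congrArg Subtype.val hk
    simp only [Subgroup.coe_mul, Subgroup.coe_inv, MulAut.conjNormal_apply] at hk'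
    have hmem : (k : G) * g ∈ N := hC h h.2 (fun e => hne (Subtype.ext e)) (by
      rw [Subgroup.mem_centralizer_singleton_iff]
      calc (k : G) * g * h = k * (g * h * g⁻¹) * (k : G)⁻¹ * (k * g) := by group
        _ = h * (k * g) := by rw [hk'])
    have := N.mul_mem (N.inv_mem k.2) hmem
    rwa [inv_mul_cancel_left] at this
  refine ⟨φ, φ.2, ?_⟩
  have hirr := Char.isIrr_indFun_of_inertia φ.2 hin
  by_contra hne
  have h0 := Char.classInner_irr_ne hirr hχ (Ne.symm hne)
  rw [Char.classInner_indFun_left N _ (Char.isClassFunction_of_isIrr hχ),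
    ← Char.classInner_conj_symm] at h0
  exact hφ (by simpa using h0)

end Cfsg.Agent.S1528
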