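import Cfsg.Statements.S0851
import Cfsg.Agent.Char.Exceptional
-- import your own Cfsg.Agent.* helpers here

set_option autoImplicit false
open Cfsg

namespace Cfsg.Agent.S0851

/-- Let K be a subgroup of the finite group G that meets each conjugate by an element outside its normalizer N trivially, is properly contained in N, and contains the centralizer of each of its non-identity elements (a T.I. subgroup with Frobenius normalizer). Suppose K is abelian, let e be the index of K in N, and call an irreducible character of N relevant when it takes at some element of K a value different from its degree. Then either there is exactly one relevant character and K is an elementary abelian p-group of order e + 1 for some prime p, or there are a sign ε and an injective map f from the relevant characters to the irreducible characters of G such that inducing χ - ξ to G gives ε (f χ - f ξ) for all relevant χ and ξ. -/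
theorem result {G : Type*} [Group G] [Fintype G] (K : Subgroup G) (hTI : ∀ g : G, g ∉ Subgroup.normalizer (K : Set G) → ∀ k ∈ K, g * k * g⁻¹ ∈ K → k = 1) (hlt : K < Subgroup.normalizer (K : Set G)) (hC : ∀ k ∈ K, k ≠ 1 → Subgroup.centralizer ({k} : Set G) ≤ K) (hab : ∀ a ∈ K, ∀ b ∈ K, a * b = b * a) : (Nat.card {χ : Cfsg.IrrCharacter (Subgroup.normalizer (K : Set G)) // ∃ k : Subgroup.normalizer (K : Set G), (k : G) ∈ K ∧ (χ : ↥(Subgroup.normalizer (K : Set G)) → ℂ) k ≠ (χ : ↥(Subgroup.normalizer (K : Set G)) → ℂ) 1} = 1 ∧ ∃ p : ℕ, p.Prime ∧ Cfsg.IsElementaryAbelian p K ∧ Nat.card K = (K.subgroupOf (Subgroup.normalizer (K : Set G))).index + 1) ∨ ∃ (ε : ℂ) (f : {χ : Cfsg.IrrCharacter (Subgroup.normalizer (K : Set G)) // ∃ k : Subgroup.normalizer (K : Set G), (k : G) ∈ K ∧ (χ : ↥(Subgroup.normalizer (K : Set G)) → ℂ) k ≠ (χ : ↥(Subgroup.normalizer (K : Set G)) → ℂ) 1} → Cfsg.IrrCharacter G), (ε = 1 ∨ ε = -1) ∧ Function.Injective f ∧ ∀ χ ξ, Cfsg.indFun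 (Subgroup.normalizer (K : Set G)) ((χ.1 : ↥(Subgroup.normalizer (K : Set G)) → ℂ) - (ξ.1 : ↥(Subgroup.normalizer (K : Set G)) → ℂ)) = ε • ((f χ : G → ℂ) - (f ξ : G → ℂ)) := by
  classical
  have hC' := Cfsg.Agent.Char.Exceptional.cent_local K hC
  set N : Subgroup G := Subgroup.normalizer (K : Set G) with hNdef
  set KL : Subgroup N := K.subgroupOf N
  have hKn : KL.Normal := Subgroup.normal_in_normalizer
  have := Fintype.ofFinite N
  have := Fintype.ofFinite KL
  have hT : KL ≠ ⊤ := fun e => hlt.not_ge (Subgroup.subgroupOf_eq_top.1 e)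
  have hInS : ∀ χ : {χ : Cfsg.IrrCharacter N // ∃ k : N, (k : G) ∈ K ∧ (χ : N → ℂ) k ≠ (χ : N → ℂ) 1},
      Cfsg.Agent.Char.Exceptional.InS KL (χ.1 : N → ℂ) := fun χ => ⟨χ.1.2, χ.2⟩
  have hdeg : ∀ χ : {χ : Cfsg.IrrCharacter N // ∃ k : N, (k : G) ∈ K ∧ (χ : N → ℂ) k ≠ (χ : N → ℂ) 1},
      (χ.1 : N → ℂ) 1 = (KL.index : ℂ) := by
    intro χ
    obtain ⟨φ, hφ, e⟩ := Cfsg.Agent.S1528.result KL hC' (χ.1 : N → ℂ) χ.1.2 χ.2
    rw [e, Cfsg.Agent.Char.indFun_apply_one, Cfsg.Agent.Char.IsIrr.degree_one_of_comm hφ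
      (fun a b => Subtype.ext (Subtype.ext (hab _ a.2 _ b.2))), mul_one]
  by_cases hcard : Nat.card {χ : Cfsg.IrrCharacter N // ∃ k : N, (k : G) ∈ K ∧ (χ : N → ℂ) k ≠ (χ : N → ℂ) 1} = 1
  · left
    refine ⟨hcard, ?_⟩
    obtain ⟨hsub, ⟨χ₀⟩⟩ := Nat.card_eq_one_iff_unique.1 hcard
    obtain ⟨k₀, hk₀, hk₀ne⟩ := χ₀.2
    have hb : KL ≠ ⊥ := fun e => hk₀ne (by
      rw [show k₀ = 1 from Subgroup.mem_bot.1 (e ▸ (show k₀ ∈ KL from hk₀))])
    have honly : ∀ χ : Cfsg.IrrCharacter N, χ ≠ χ₀.1 → ∀ k : N, (k : G) ∈ K →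
        (χ : N → ℂ) k = (χ : N → ℂ) 1 := fun χ hne k hk => by
      by_contra h
      exact hne (congrArg Subtype.val (@Subsingleton.elim _ hsub ⟨χ, k, hk, h⟩ χ₀))
    have hval : ∀ k : N, (k : G) ∈ K → k ≠ 1 → (χ₀.1 : N → ℂ) k = -1 := by
      intro k hk hk1
      have h0 := Cfsg.Agent.Char.sum_sq_degree (G := N)
      have hs := Cfsg.Agent.Char.second_orthogonality k (1 : N)
      rw [if_neg (fun h => hk1 (isConj_one_left.1 h))] at hs
      have hconj : ∀ χ : Cfsg.IrrCharacter N, (starRingEnd ℂ) ((χ : N → ℂ) 1) = (χ : N → ℂ) 1 := fun χ => by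
        obtain ⟨d, -, hd⟩ := Cfsg.Agent.Char.IsIrr.degree χ.2
        rw [hd, map_natCast]
      simp only [hconj] at hs
      rw [← Finset.add_sum_erase _ _ (Finset.mem_univ χ₀.1)] at hs h0
      rw [Finset.sum_congr rfl fun (χ : Cfsg.IrrCharacter N) hχ => show (χ : N → ℂ) k * (χ : N → ℂ) 1 = (χ : N → ℂ) 1 ^ 2 by
        rw [honly χ (Finset.ne_of_mem_erase hχ) k hk, sq]] at hs
      have hother : ∑ χ ∈ Finset.univ.erase χ₀.1, (χ : N → ℂ) 1 ^ 2 = (KL.index : ℂ) := by
        rw [Subgroup.index_eq_card, ← Cfsg.Agent.Char.sum_sq_degree (G := N ⧸ KL)]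
        refine (Finset.sum_bij (fun θ _ => (⟨_, Cfsg.Agent.Char.isIrrCharacter_comp (QuotientGroup.mk' KL)
          (QuotientGroup.mk'_surjective KL) θ.2⟩ : Cfsg.IrrCharacter N)) (fun θ _ => ?_) ?_ ?_ ?_).symm
        · refine Finset.mem_erase.2 ⟨fun e => hk₀ne ?_, Finset.mem_univ _⟩
          rw [← e]
          show (θ : N ⧸ KL → ℂ) _ = (θ : N ⧸ KL → ℂ) _
          rw [show QuotientGroup.mk' KL k₀ = 1 from (QuotientGroup.eq_one_iff k₀).2 hk₀, map_one]
        · intro a _ b _ e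
          refine Subtype.ext (funext fun q => ?_)
          obtain ⟨g, rfl⟩ := QuotientGroup.mk'_surjective KL q
          exact congrFun (congrArg Subtype.val e) g
        · intro χ hχ
          obtain ⟨φ, hφ, he⟩ := Cfsg.Agent.Char.IsIrr.exists_quotient KL χ.2
            (fun n hn => honly χ (Finset.ne_of_mem_erase hχ) n hn)
          exact ⟨⟨φ, hφ⟩, Finset.mem_univ _, Subtype.ext (funext fun g => (he g).symm)⟩
        · intro θ _
          show (θ : N ⧸ KL → ℂ) 1 ^ 2 = (θ : N ⧸ KL → ℂ) (QuotientGroup.mk' KL 1) ^ 2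
          rw [map_one]
      rw [hother, hdeg χ₀] at hs
      refine mul_left_cancel₀ (Nat.cast_ne_zero.2 (Subgroup.index_ne_zero_of_finite (H := KL)) :
        (KL.index : ℂ) ≠ 0) ?_
      linear_combination hs
    have hclass : ∀ a b : N, (a : G) ∈ K → (b : G) ∈ K → a ≠ 1 → b ≠ 1 → IsConj a b := by
      intro a b ha hb' ha1 hb1
      refine (Cfsg.Agent.Char.isConj_iff_forall_irr a b).2 fun χ => ?_
      by_cases h : χ = χ₀.1
      · rw [h, hval a ha ha1, hval b hb' hb1]
      · rw [honly χ h a ha, honly χ h b hb']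
    obtain ⟨k₁, hk₁, hk₁1⟩ := (Subgroup.bot_or_exists_ne_one KL).resolve_left hb
    obtain ⟨p, hp, hpd⟩ := Nat.exists_prime_and_dvd (n := Nat.card K) (fun h => hk₁1 (Subtype.ext (by
      have := Subgroup.eq_bot_of_card_eq K h
      exact Subgroup.mem_bot.1 (this ▸ (show (k₁ : G) ∈ K from hk₁)))))
    have := Fact.mk hp
    obtain ⟨y, hy⟩ := exists_prime_orderOf_dvd_card' (G := K) p hpd
    have hyN : (y : G) ∈ N := Subgroup.le_normalizer y.2
    refine ⟨p, hp, ⟨⟨⟨fun a b => Subtype.ext (hab a a.2 b b.2)⟩⟩, fun a ha => ?_⟩, ?_⟩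
    · by_cases ha1 : a = 1
      · rw [ha1, one_pow]
      obtain ⟨c, hc⟩ := isConj_iff.1 (hclass ⟨y, hyN⟩ ⟨a, Subgroup.le_normalizer ha⟩ y.2 ha
        (fun e => by
          have h1 : (y : G) = 1 := congrArg Subtype.val e
          rw [Subtype.ext (show (y : G) = ((1 : K) : G) from h1), orderOf_one] at hy
          exact hp.ne_one hy.symm)
        (fun e => ha1 (congrArg Subtype.val e)))
      have h2 : (c : G) * y * (c : G)⁻¹ = a := congrArg Subtype.val hc
      rw [← h2, conj_pow, ← Subgroup.coe_pow, ← hy, pow_orderOf_eq_one, Subgroup.coe_one, mul_one,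
        mul_inv_cancel]
    · have h1 : Cfsg.classInner (χ₀.1 : N → ℂ) (fun _ => 1) = 0 :=
        Cfsg.Agent.Char.classInner_irr_ne χ₀.1.2 Cfsg.Agent.Char.isIrrCharacter_one fun e => hk₀ne (by rw [e])
      have hc : (Nat.card N : ℂ)⁻¹ ≠ 0 := inv_ne_zero (Nat.cast_ne_zero.2 Nat.card_pos.ne')
      simp only [Cfsg.classInner, map_one, mul_one, mul_eq_zero, hc, false_or] at h1
      rw [← Finset.sum_subset (s₁ := Finset.univ.filter fun g : N => g ∈ KL) (Finset.subset_univ _)
        (fun g _ hg => (hInS χ₀).off hC' fun h => hg (Finset.mem_filter.2 ⟨Finset.mem_univ _, h⟩)),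
        ← Finset.add_sum_erase _ _ (Finset.mem_filter.2 ⟨Finset.mem_univ (1 : N), KL.one_mem⟩)] at h1
      have hrest : ∀ g ∈ (Finset.univ.filter fun g : N => g ∈ KL).erase 1, (χ₀.1 : N → ℂ) g = -1 :=
        fun g hg => hval g (Finset.mem_filter.1 (Finset.mem_of_mem_erase hg)).2 (Finset.ne_of_mem_erase hg)
      rw [Finset.sum_eq_card_nsmul hrest, Finset.card_erase_of_mem (Finset.mem_filter.2 ⟨Finset.mem_univ _, KL.one_mem⟩),
        hdeg χ₀, ← Fintype.card_subtype, ← Nat.card_eq_fintype_card, nsmul_eq_mul,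
        Nat.cast_sub (Nat.one_le_iff_ne_zero.2 Nat.card_pos.ne')] at h1
      have h2 : Nat.card {g : N // g ∈ KL} = Nat.card K :=
        Nat.card_congr (Subgroup.subgroupOfEquivOfLe Subgroup.le_normalizer).toEquiv
      rw [h2] at h1
      have h3 : (Nat.card K : ℂ) = ((KL.index + 1 : ℕ) : ℂ) := by
        push_cast at h1 ⊢
        linear_combination -h1
      exact_mod_cast h3
  · right
    let T := {χ : Cfsg.IrrCharacter N // ∃ k : N, (k : G) ∈ K ∧ (χ : N → ℂ) k ≠ (χ : N → ℂ) 1}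
    rcases isEmpty_or_nonempty T with hE | ⟨⟨χ₀⟩⟩
    · exact ⟨1, fun χ => hE.elim χ, Or.inl rfl, fun χ => hE.elim χ, fun χ => hE.elim χ⟩
    obtain ⟨χ₁, hχ₁⟩ : ∃ χ : T, χ ≠ χ₀ := by
      by_contra! h
      exact hcard (Nat.card_eq_one_iff_unique.2 ⟨⟨fun a b => (h a).trans (h b).symm⟩, ⟨χ₀⟩⟩)
    have hd : ∀ χ ξ : T, Cfsg.IsClassFunction N ((χ.1 : N → ℂ) - (ξ.1 : N → ℂ)) ∧
        (∀ x : N, (x : G) ∉ K → ((χ.1 : N → ℂ) - (ξ.1 : N → ℂ)) x = 0) ∧
        ((χ.1 : N → ℂ) - (ξ.1 : N → ℂ)) 1 = 0 := fun χ ξ =>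
      ⟨fun g k => by simp [Cfsg.Agent.Char.isClassFunction_of_isIrr χ.1.2 g k,
          Cfsg.Agent.Char.isClassFunction_of_isIrr ξ.1.2 g k],
        fun x hx => by simp [(hInS χ).off hC' (x := x) hx, (hInS ξ).off hC' (x := x) hx],
        by simp [hdeg χ, hdeg ξ]⟩
    have hin : ∀ χ ξ η ζ : T, Cfsg.classInner
        (Cfsg.indFun N ((χ.1 : N → ℂ) - (ξ.1 : N → ℂ))) (Cfsg.indFun N ((η.1 : N → ℂ) - (ζ.1 : N → ℂ))) =
        ((if χ = η then 1 else 0) - (if χ = ζ then 1 else 0)) - ((if ξ = η then 1 else 0) - (if ξ = ζ then 1 else 0)) := by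
      intro χ ξ η ζ
      obtain ⟨a, b, c⟩ := hd χ ξ
      have hii : ∀ u v : T, Cfsg.classInner (u.1 : N → ℂ) (v.1 : N → ℂ) = if u = v then 1 else 0 := by
        intro u v
        split_ifs with h
        · rw [h]; exact Cfsg.Agent.Char.classInner_irr_self v.1.2
        · exact Cfsg.Agent.Char.classInner_irr_ne u.1.2 v.1.2 fun e => h (Subtype.ext (Subtype.ext e))
      rw [Cfsg.Agent.Char.Exceptional.inner_ind K hTI hC a b c, Cfsg.Agent.Char.classInner_sub_left,
        Cfsg.Agent.Char.classInner_sub_right, Cfsg.Agent.Char.classInner_sub_right,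
        hii, hii, hii, hii]
    have hdec : ∀ χ : T, χ ≠ χ₀ → ∃ μ ν : Cfsg.IrrCharacter G, μ ≠ ν ∧
        Cfsg.indFun N ((χ.1 : N → ℂ) - (χ₀.1 : N → ℂ)) = (μ : G → ℂ) - (ν : G → ℂ) := by
      intro χ hne
      refine Cfsg.Agent.Coherence.norm_two_decomp (Cfsg.Agent.Char.isGeneralized_indFun N
        (Cfsg.Agent.Char.isGeneralized_sub
          (Cfsg.Agent.Char.isGeneralized_of_isCharacter (Cfsg.Agent.Char.IsIrr.isCharacter χ.1.2))
          (Cfsg.Agent.Char.isGeneralized_of_isCharacter (Cfsg.Agent.Char.IsIrr.isCharacter χ₀.1.2)))) ?_ ?_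
      · rw [hin, if_pos rfl, if_neg hne, if_neg hne.symm, if_pos rfl]; norm_num
      · rw [Cfsg.Agent.Char.indFun_apply_one, (hd χ χ₀).2.2, mul_zero]
    choose μ ν hμν hind using hdec
    have hxor : ∀ (i j : T) (hi : i ≠ χ₀) (hj : j ≠ χ₀), i ≠ j →
        (μ i hi = μ j hj ∧ ν i hi ≠ ν j hj) ∨ (μ i hi ≠ μ j hj ∧ ν i hi = ν j hj) := by
      intro i j hi hj hij
      have h := hin i χ₀ j χ₀
      rw [if_neg hij, if_neg hi, if_neg hj.symm, if_pos rfl, hind i hi, hind j hj,
        Cfsg.Agent.Char.classInner_sub_left, Cfsg.Agent.Char.classInner_sub_right,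
        Cfsg.Agent.Char.classInner_sub_right, Cfsg.Agent.Char.classInner_irrChar,
        Cfsg.Agent.Char.classInner_irrChar, Cfsg.Agent.Char.classInner_irrChar,
        Cfsg.Agent.Char.classInner_irrChar] at h
      have h1 := hμν i hi
      have h2 := hμν j hj
      by_cases e1 : μ i hi = μ j hj
      · refine Or.inl ⟨e1, fun e2 => ?_⟩
        rw [if_pos e1, if_pos e2, if_neg (e1 ▸ h2 : μ i hi ≠ ν j hj),
          if_neg (fun e => h1 (e1.trans e.symm))] at h
        norm_num at h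
      · refine Or.inr ⟨e1, by_contra fun e2 => ?_⟩
        rw [if_neg e1, if_neg e2] at h
        split_ifs at h <;> norm_num at h
    have key : ∀ (ε : ℂ) (f : T → Cfsg.IrrCharacter G), (ε = 1 ∨ ε = -1) → Function.Injective f →
        (∀ χ : T, Cfsg.indFun N ((χ.1 : N → ℂ) - (χ₀.1 : N → ℂ)) = ε • ((f χ : G → ℂ) - (f χ₀ : G → ℂ))) →
        ∃ (ε : ℂ) (f : T → Cfsg.IrrCharacter G), (ε = 1 ∨ ε = -1) ∧ Function.Injective f ∧
          ∀ χ ξ, Cfsg.indFun N ((χ.1 : N → ℂ) - (ξ.1 : N → ℂ)) = ε • ((f χ : G → ℂ) - (f ξ : G → ℂ)) := by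
      intro ε f hε hf h
      refine ⟨ε, f, hε, hf, fun χ ξ => ?_⟩
      rw [← sub_sub_sub_cancel_right (χ.1 : N → ℂ) (ξ.1 : N → ℂ) (χ₀.1 : N → ℂ),
        Cfsg.Agent.Char.indFun_sub, h χ, h ξ, ← smul_sub, sub_sub_sub_cancel_right]
    by_cases hQ : ∀ i j (hi : i ≠ χ₀) (hj : j ≠ χ₀), ν i hi = ν j hj
    · refine key 1 (fun χ => if h : χ = χ₀ then ν χ₁ hχ₁ else μ χ h) (Or.inl rfl) ?_ fun χ => ?_
      · intro a b e
        dsimp only at e
        split_ifs at e with ha hb' hb'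
        · exact ha.trans hb'.symm
        · exact absurd ((hQ b χ₁ hb' hχ₁).trans e).symm (hμν b hb')
        · exact absurd (e.trans (hQ χ₁ a hχ₁ ha)) (hμν a ha)
        · by_contra hne
          rcases hxor a b ha hb' hne with ⟨-, h⟩ | ⟨h, -⟩
          · exact h (hQ a b ha hb')
          · exact h e
      · rw [one_smul, dif_pos rfl]
        by_cases h : χ = χ₀
        · subst h; rw [dif_pos rfl, sub_self, sub_self, Cfsg.Agent.Char.indFun_zero]
        · rw [dif_neg h, hind χ h, hQ χ χ₁ h hχ₁]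
    · push Not at hQ
      obtain ⟨a, b, ha, hb', hab'⟩ := hQ
      have hμab : μ a ha = μ b hb' := by
        rcases hxor a b ha hb' (fun e => hab' (by subst e; rfl)) with ⟨h, -⟩ | ⟨-, h⟩
        · exact h
        · exact absurd h hab'
      have hall : ∀ i (hi : i ≠ χ₀), μ i hi = μ a ha := by
        intro i hi
        by_contra hne
        have hia : i ≠ a := fun e => hne (by subst e; rfl)
        have hib : i ≠ b := fun e => hne (by subst e; exact hμab.symm)
        have e1 := (hxor i a hi ha hia).resolve_left (fun h => hne h.1)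
        have e2 := (hxor i b hi hb' hib).resolve_left (fun h => hne (h.1.trans hμab.symm))
        exact hab' (e1.2.symm.trans e2.2)
      refine key (-1) (fun χ => if h : χ = χ₀ then μ a ha else ν χ h) (Or.inr rfl) ?_ fun χ => ?_
      · intro c d e
        dsimp only at e
        split_ifs at e with hc hd' hd'
        · exact hc.trans hd'.symm
        · exact absurd ((hall d hd').trans e) (hμν d hd')
        · exact absurd ((hall c hc).trans e.symm) (hμν c hc)
        · by_contra hne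
          rcases hxor c d hc hd' hne with ⟨-, h⟩ | ⟨h, -⟩
          · exact h e
          · exact h ((hall c hc).trans (hall d hd').symm)
      · rw [neg_one_smul, neg_sub, dif_pos rfl]
        by_cases h : χ = χ₀
        · subst h; rw [dif_pos rfl, sub_self, sub_self, Cfsg.Agent.Char.indFun_zero]
        · rw [dif_neg h, hind χ h, hall χ h]

end Cfsg.Agent.S0851
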