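import Cfsg.Statements.S0855
import Cfsg.Agent.Char.NormalAbelianSylow
import Cfsg.Agent.Char.PResidualCount
import Cfsg.Agent.CharArith.Central
-- import your own Cfsg.Agent.* helpers here

set_option autoImplicit false
open Cfsg

namespace Cfsg.Agent.S0855

/-- For a finite group G and a prime p: every irreducible character of G has degree a power of p if and only if G has an abelian normal subgroup whose order is prime to p and whose index is a power of p. -/
theorem result {G : Type*} [Group G] [Finite G] (p : ℕ) (hp : p.Prime) : (∀ χ : Cfsg.IrrCharacter G, ∃ k : ℕ, (χ : G → ℂ) 1 = (p : ℂ) ^ k) ↔ ∃ A : Subgroup G, A.Normal ∧ (∀ a ∈ A, ∀ b ∈ A, a * b = b * a) ∧ Nat.Coprime (Nat.card A) p ∧ ∃ k : ℕ, A.index = p ^ k := by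
  classical
  have := Fintype.ofFinite G
  have hF := Fact.mk hp
  constructor
  · intro h
    have hdeg : ∀ χ : Cfsg.IrrCharacter G, Cfsg.charDegree (χ : G → ℂ) ≠ 1 →
        p ∣ Cfsg.charDegree (χ : G → ℂ) := by
      intro χ hχ
      obtain ⟨k, hk⟩ := h χ
      rw [Cfsg.Agent.Char.charDegree_spec', ← Nat.cast_pow, Nat.cast_inj] at hk
      rw [hk] at hχ ⊢
      exact dvd_pow_self p (fun h0 => hχ (by rw [h0, pow_zero]))
    set K := Cfsg.pResidual p G
    have := Fintype.ofFinite K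
    have hK : ¬ p ∣ Nat.card K := Cfsg.Agent.Char.not_dvd_card_pResidual hp hdeg
    have h1 : ∀ θ : K → ℂ, Cfsg.IsIrrCharacter K θ → θ 1 = 1 := by
      intro θ hθ
      obtain ⟨χ, hχ⟩ := Cfsg.Agent.Char.exists_over K ⟨θ, hθ⟩
      obtain ⟨k, hk, -⟩ := Cfsg.Agent.ProjExt.exists_ratio_dvd_index χ.2 hθ hχ
      obtain ⟨j, hj⟩ := h χ
      have hd : θ 1 = (Cfsg.charDegree θ : ℂ) := Cfsg.Agent.Char.charDegree_spec' ⟨θ, hθ⟩
      rw [hj, hd, ← Nat.cast_pow, ← Nat.cast_mul, Nat.cast_inj] at hk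
      obtain ⟨i, -, hi⟩ := (Nat.dvd_prime_pow hp).1 (Dvd.intro_left k hk.symm)
      have h2 := Cfsg.Agent.CharArith.charDegree_dvd_card hθ
      rcases i with _ | i
      · rw [hd, hi, pow_zero, Nat.cast_one]
      · exact absurd ((dvd_pow_self p (Nat.succ_ne_zero i)).trans (hi ▸ h2)) hK
    refine ⟨K, inferInstance, fun a ha b hb => ?_, (hp.coprime_iff_not_dvd.2 hK).symm,
      Cfsg.Agent.Fusion.index_pResidual_eq_pow⟩
    exact congrArg Subtype.val (Cfsg.Agent.Char.forall_degree_one_iff.1 (fun θ => h1 θ θ.2) ⟨a, ha⟩ ⟨b, hb⟩)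
  · rintro ⟨A, hA, hab, -, k, hk⟩ χ
    have := Fintype.ofFinite A
    obtain ⟨⟨θ, hθ⟩, hcon⟩ := Cfsg.Agent.Char.exists_constituent_res (N := A) χ.2
    obtain ⟨m, hm, hmd⟩ := Cfsg.Agent.ProjExt.exists_ratio_dvd_index χ.2 hθ hcon
    rw [hk] at hmd
    obtain ⟨i, -, rfl⟩ := (Nat.dvd_prime_pow hp).1 hmd
    refine ⟨i, ?_⟩
    rw [hm, Cfsg.Agent.Char.IsIrr.degree_one_of_comm hθ (fun a b => Subtype.ext (hab a a.2 b b.2)),
      mul_one, Nat.cast_pow]

end Cfsg.Agent.S0855
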