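import Cfsg.Statements.S1491
import Cfsg.Agent.Char.AbelianInertia
import Cfsg.Agent.S0867
import Cfsg.Agent.Char.Glauberman.Count
-- import your own Cfsg.Agent.* helpers here

set_option autoImplicit false
open Cfsg

namespace Cfsg.Agent.S1491

/-- Let H be a normal subgroup of the finite group G and θ an irreducible character of H with inertia group T, where T/H is abelian (commutators of T lie in H) and the index of H in T is coprime to the order of H. Then the function induced from θ is the sum of a set of exactly [T:H] irreducible characters of G, each of degree [G:T] * θ(1). -/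
theorem result {G : Type*} [Group G] [Fintype G] (H T : Subgroup G) [hN : H.Normal] (θ : H → ℂ) (hθ : Cfsg.IsIrrCharacter H θ) (hT : ∀ g : G, g ∈ T ↔ ∀ h : H, θ ⟨g * h * g⁻¹, hN.conj_mem h h.2 g⟩ = θ h) (hab : ∀ x ∈ T, ∀ y ∈ T, x * y * x⁻¹ * y⁻¹ ∈ H) (hcop : Nat.Coprime (Nat.card H) (H.relIndex T)) : ∃ C : Finset (G → ℂ), (∀ χ ∈ C, Cfsg.IsIrrCharacter G χ) ∧ C.card = H.relIndex T ∧ Cfsg.indFun H θ = ∑ χ ∈ C, χ ∧ ∀ χ ∈ C, χ 1 = (T.index : ℂ) * θ 1 := by
  classical
  let := Fintype.ofFinite H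
  have hTI : Char.inertia θ = T := by
    ext g
    rw [hT]
    exact ⟨fun h n => congrFun (h : Char.conjFun g θ = θ) n, fun h => funext h⟩
  subst hTI
  obtain ⟨e, C, he, hC, hcard, hind, hdeg, hone⟩ := Char.ind_eq_smul_sum H hθ hab
  have hHT := Char.le_inertia (N := H) (Char.isClassFunction_of_isIrr hθ)
  let H' := H.subgroupOf (Char.inertia θ)
  have : H'.Normal := Subgroup.normal_subgroupOf
  let θ' : H' → ℂ := fun x => θ ⟨(x : Char.inertia θ), Subgroup.mem_subgroupOf.mp x.2⟩
  have hθ' : IsIrrCharacter H' θ' :=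
    (Char.isIrrCharacter_comp_equiv (Subgroup.subgroupOfEquivOfLe hHT)).2 hθ
  obtain ⟨d, -, hd⟩ := Char.IsIrr.degree hθ
  have hcard' : Nat.card H' = Nat.card H :=
    Nat.card_congr (Subgroup.subgroupOfEquivOfLe hHT).toEquiv
  have hcop' : H'.index.Coprime (Cfsg.detOrder θ' * d) := by
    have h0 : H'.index.Coprime (Nat.card H') := by
      rw [hcard']
      exact hcop.symm
    exact Nat.Coprime.mul_right
      (h0.coprime_dvd_right (Char.Glauberman.detOrder_dvd_card (Char.IsIrr.isCharacter hθ')))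
      (h0.coprime_dvd_right (Char.IsIrr.degree_dvd_card hθ' hd))
  obtain ⟨ψ, ⟨hψ, hψr, -⟩, -⟩ := S0867.result H' θ' hθ'
    (fun t x => congrFun (t.2 : Char.conjFun (t : G) θ = θ) ⟨_, Subgroup.mem_subgroupOf.mp x.2⟩)
    d hd hcop'
  have he1 : e = 1 := hone ψ hψ fun n h hn => hψr ⟨⟨n, h⟩, Subgroup.mem_subgroupOf.2 hn⟩
  subst he1
  refine ⟨C, hC, ?_, ?_, fun χ hχ => ?_⟩
  · simpa using hcard
  · simpa using hind
  · rw [hdeg χ hχ, Nat.cast_one, mul_one]

end Cfsg.Agent.S1491
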