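import Cfsg.Statements.S1782
import Cfsg.Agent.Core.Frattini

set_option autoImplicit false
open Cfsg

namespace Cfsg.Agent.S1782

open scoped commutatorElement

theorem frattini_eq_bot_of_exponent_two {R : Type*} [Group R] [Finite R]
    (h : ∀ x : R, x * x = 1) : frattini R = ⊥ := by
  classical
  have hinv : ∀ x : R, x⁻¹ = x := fun x => inv_eq_of_mul_eq_one_right (h x)
  have hcomm : ∀ x y : R, x * y = y * x := fun x y => by
    have := hinv (x * y); rw [mul_inv_rev, hinv, hinv] at this; exact this.symm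
  rw [eq_bot_iff]
  intro x hx
  by_contra hx1
  rw [Subgroup.mem_bot] at hx1
  let U : Set (Subgroup R) := {M | x ∉ M}
  obtain ⟨M, hM⟩ := U.toFinite.exists_maximal ⟨⊥, by simpa [U] using hx1⟩
  have key : ∀ y, y ∈ M ∨ y * x ∈ M := by
    intro y
    by_contra hy
    push Not at hy
    let M' : Subgroup R :=
      { carrier := {a | a ∈ M ∨ a * y ∈ M}
        one_mem' := Or.inl M.one_mem
        inv_mem' := fun {a} ha => by simpa [hinv] using ha
        mul_mem' := fun {a b} ha hb => by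
          rcases ha with ha | ha <;> rcases hb with hb | hb
          · exact Or.inl (M.mul_mem ha hb)
          · exact Or.inr (by rw [mul_assoc]; exact M.mul_mem ha hb)
          · exact Or.inr (by rw [mul_assoc, hcomm b y, ← mul_assoc]; exact M.mul_mem ha hb)
          · left
            have := M.mul_mem ha hb
            rwa [mul_assoc, hcomm b y, ← mul_assoc y y, h, one_mul] at this }
    have hxM' : x ∉ M' := by
      rintro (h1 | h1)
      · exact hM.1 h1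
      · exact hy.2 (hcomm x y ▸ h1)
    exact hy.1 (hM.2 (y := M') hxM' (fun a ha => Or.inl ha) (Or.inr (by rw [h]; exact M.one_mem)))
  have hco : IsCoatom M := by
    refine ⟨fun e => hM.1 (e ▸ Subgroup.mem_top x), fun K hK => ?_⟩
    obtain ⟨y, hyK, hyM⟩ := SetLike.exists_of_lt hK
    have hxK : x ∈ K := by
      have h1 := K.mul_mem hyK (hK.le ((key y).resolve_left hyM))
      rwa [← mul_assoc, h, one_mul] at h1
    rw [eq_top_iff]
    intro a _
    rcases key a with h1 | h1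
    · exact hK.le h1
    · have := K.mul_mem (hK.le h1) hxK
      rwa [mul_assoc, h, mul_one] at this
  exact hM.1 (frattini_le_coatom hco hx)

theorem step {S : Type*} [Group S] [Finite S] (hS : IsPGroup 2 S) (R T : Subgroup S)
    (hRnt : frattini ↥R ≠ ⊥) (hcard : Nat.card ↥R = Nat.card ↥T) (hRT : R ⊓ T = ⊥)
    (hR : ∀ t ∈ T, R.map (MulAut.conj t).toMonoidHom ≠ R →
      R ⊓ R.map (MulAut.conj t).toMonoidHom = ⊥ ∧
      ∀ a ∈ R, ∀ b ∈ R.map (MulAut.conj t).toMonoidHom, a * b = b * a)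
    (hT : ∀ r ∈ R, T.map (MulAut.conj r).toMonoidHom ≠ T →
      T ⊓ T.map (MulAut.conj r).toMonoidHom = ⊥ ∧
      ∀ a ∈ T, ∀ b ∈ T.map (MulAut.conj r).toMonoidHom, a * b = b * a) :
    ∀ t ∈ T, R.map (MulAut.conj t).toMonoidHom = R := by
  classical
  by_contra hcon
  push Not at hcon
  obtain ⟨t, htT, ht, ht2⟩ : ∃ t ∈ T, R.map (MulAut.conj t).toMonoidHom ≠ R ∧
      R.map (MulAut.conj (t * t)).toMonoidHom = R := by
    obtain ⟨t₀, ht₀T, ht₀⟩ := hcon
    obtain ⟨k, hk⟩ := hS t₀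
    have hex : ∃ j, R.map (MulAut.conj (t₀ ^ 2 ^ j)).toMonoidHom = R :=
      ⟨k, by rw [hk]; ext; simp⟩
    obtain ⟨j, hj⟩ : ∃ j, Nat.find hex = j + 1 := Nat.exists_eq_add_one_of_ne_zero fun e => ht₀ (by
      have := Nat.find_spec hex
      rwa [e, pow_zero, pow_one] at this)
    refine ⟨t₀ ^ 2 ^ j, T.pow_mem ht₀T _, Nat.find_min hex (by omega), ?_⟩
    have := Nat.find_spec hex
    rwa [hj, pow_succ, mul_two, pow_add] at this
  obtain ⟨hdisR, hcR⟩ := hR t htT ht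
  have hm : ∀ x ∈ R, t * x * t⁻¹ ∈ R.map (MulAut.conj t).toMonoidHom := fun x hx => ⟨x, hx, rfl⟩
  have heq1 : ∀ {A B : Subgroup S}, A ⊓ B = ⊥ → ∀ {x : S}, x ∈ A → x ∈ B → x = 1 :=
    fun e _ ha hb => Subgroup.mem_bot.1 (e ▸ Subgroup.mem_inf.2 ⟨ha, hb⟩)
  -- some element of `R` moves `T`
  obtain ⟨r, hrR, hr⟩ : ∃ r ∈ R, T.map (MulAut.conj r).toMonoidHom ≠ T := by
    by_contra hc
    push Not at hc
    have hf : ∀ x : ↥R, (x : S) * (t * (x : S)⁻¹ * t⁻¹) ∈ T := fun x => by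
      rw [show (x : S) * (t * (x : S)⁻¹ * t⁻¹) = (x : S) * t * (x : S)⁻¹ * t⁻¹ by group]
      refine T.mul_mem ?_ (T.inv_mem htT)
      have h1 : (x : S) * t * (x : S)⁻¹ ∈ T.map (MulAut.conj (x : S)).toMonoidHom := ⟨t, htT, rfl⟩
      rwa [hc x x.2] at h1
    let f : ↥R → ↥T := fun x => ⟨_, hf x⟩
    have hinj : Function.Injective f := by
      intro a b hab
      have e : (a : S) * (t * (a : S)⁻¹ * t⁻¹) = (b : S) * (t * (b : S)⁻¹ * t⁻¹) :=
        congrArg Subtype.val hab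
      have h1 : (b : S)⁻¹ * a = t * ((b : S)⁻¹ * a) * t⁻¹ := by
        calc (b : S)⁻¹ * a = (b : S)⁻¹ * ((a : S) * (t * (a : S)⁻¹ * t⁻¹)) * (t * a * t⁻¹) := by group
          _ = (b : S)⁻¹ * ((b : S) * (t * (b : S)⁻¹ * t⁻¹)) * (t * a * t⁻¹) := by rw [e]
          _ = _ := by group
      have h2 := heq1 hdisR (R.mul_mem (R.inv_mem b.2) a.2)
        (by rw [h1]; exact hm _ (R.mul_mem (R.inv_mem b.2) a.2))
      exact Subtype.ext (inv_mul_eq_one.1 h2).symm
    have hsurj := ((Nat.bijective_iff_injective_and_card f).2 ⟨hinj, hcard⟩).2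
    obtain ⟨a, ha⟩ := hsurj ⟨t, htT⟩
    apply ht
    have e : (a : S) * (t * (a : S)⁻¹ * t⁻¹) = t := congrArg Subtype.val ha
    have hN : t ∈ Subgroup.normalizer (R : Set S) := by
      rw [← e]
      refine mul_mem (Subgroup.le_normalizer a.2) (Subgroup.centralizer_le_normalizer _ ?_)
      exact Subgroup.mem_centralizer_iff.2 fun x hx => hcR x hx _ (hm _ (R.inv_mem a.2))
    ext x
    constructor
    · rintro ⟨y, hy, rfl⟩; exact (Subgroup.mem_normalizer_iff.1 hN y).1 hy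
    · intro hx
      exact ⟨t⁻¹ * x * t, by simpa using (Subgroup.mem_normalizer_iff.1 (inv_mem hN) x).1 hx,
        by simp [mul_assoc]⟩
  -- every element moving `T` is an involution
  have hinv : ∀ s ∈ R, T.map (MulAut.conj s).toMonoidHom ≠ T → s * s = 1 := by
    intro s hs hsT
    obtain ⟨-, hcT⟩ := hT s hs hsT
    have h1 : t * (s * t * s⁻¹) = s * t * s⁻¹ * t := hcT t htT _ ⟨t, htT, rfl⟩
    have hw : t * t * s⁻¹ * (t * t)⁻¹ ∈ R := by
      have h2 : (MulAut.conj (t * t)).toMonoidHom s⁻¹ ∈ R.map (MulAut.conj (t * t)).toMonoidHom :=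
        ⟨_, R.inv_mem hs, rfl⟩
      rw [ht2] at h2
      exact h2
    have h2 : t * s * t⁻¹ * (t * t * s⁻¹ * (t * t)⁻¹) = s * (t * s * t⁻¹)⁻¹ := by
      calc t * s * t⁻¹ * (t * t * s⁻¹ * (t * t)⁻¹) = t * (s * t * s⁻¹) * (t⁻¹ * t⁻¹) := by group
        _ = s * t * s⁻¹ * t * (t⁻¹ * t⁻¹) := by rw [h1]
        _ = _ := by group
    set u := t * s * t⁻¹
    set w := t * t * s⁻¹ * (t * t)⁻¹
    have hu : u ∈ R.map (MulAut.conj t).toMonoidHom := hm s hs
    have h3 : u * u = s * w⁻¹ := by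
      have c1 : s * u⁻¹ = u⁻¹ * s := hcR s hs _ (inv_mem hu)
      have c2 : w⁻¹ * u = u * w⁻¹ := hcR _ (R.inv_mem hw) u hu
      calc u * u = u * (u * w) * w⁻¹ * (w * u⁻¹ * w⁻¹ * u) := by
            rw [mul_assoc (w * u⁻¹) w⁻¹, c2]; group
        _ = u * (u⁻¹ * s) * w⁻¹ * (w * u⁻¹ * w⁻¹ * u) := by rw [h2, c1]
        _ = s * w⁻¹ := by rw [mul_assoc (w * u⁻¹) w⁻¹, c2]; group
    have h4 := heq1 hdisR (R.mul_mem hs (R.inv_mem hw)) (h3 ▸ mul_mem hu hu)
    rw [← h3] at h4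
    calc s * s = t⁻¹ * (u * u) * t := by simp only [u]; group
      _ = 1 := by rw [h4]; group
  obtain ⟨a, haR, ha⟩ : ∃ a ∈ R, a * a ≠ 1 := by
    by_contra hc
    push Not at hc
    exact hRnt (frattini_eq_bot_of_exponent_two fun x => Subtype.ext (hc x x.2))
  have haN : T.map (MulAut.conj a).toMonoidHom = T := by
    by_contra h; exact ha (hinv a haR h)
  obtain ⟨n, hnR, hn1, hnn, hnN⟩ : ∃ n ∈ R, n ≠ 1 ∧ n * n = 1 ∧
      ∀ x ∈ T, n * x * n⁻¹ ∈ T ∧ n⁻¹ * x * n ∈ T := by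
    have hex : ∃ j, a ^ 2 ^ j = 1 := hS a
    obtain ⟨j, hj⟩ : ∃ j, Nat.find hex = j + 1 := Nat.exists_eq_add_one_of_ne_zero fun e => ha (by
      have := Nat.find_spec hex
      rw [e, pow_zero, pow_one] at this
      rw [this, one_mul])
    refine ⟨a ^ 2 ^ j, R.pow_mem haR _, Nat.find_min hex (by omega), ?_, ?_⟩
    · have := Nat.find_spec hex
      rwa [hj, pow_succ, mul_two, pow_add] at this
    · have hN : a ^ 2 ^ j ∈ Subgroup.normalizer (T : Set S) := Subgroup.pow_mem _ (by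
        refine Subgroup.mem_normalizer_iff.2 fun x => ⟨fun hx => ?_, fun hx => ?_⟩
        · exact haN.le ⟨x, hx, rfl⟩
        · obtain ⟨y, hy, hye⟩ := haN.ge hx
          have : y = x := (MulAut.conj a).injective hye
          rwa [← this]) _
      intro x hx
      exact ⟨(Subgroup.mem_normalizer_iff.1 hN x).1 hx,
        by simpa using (Subgroup.mem_normalizer_iff.1 (inv_mem hN) x).1 hx⟩
  have hrn : T.map (MulAut.conj (r * n)).toMonoidHom ≠ T := by
    intro h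
    apply hr
    refine le_antisymm ?_ ?_
    · rintro _ ⟨x, hx, rfl⟩
      refine h.le ⟨n⁻¹ * x * n, (hnN x hx).2, ?_⟩
      simp [mul_assoc]
    · intro x hx
      obtain ⟨y, hy, rfl⟩ := h.ge hx
      exact ⟨n * y * n⁻¹, (hnN y hy).1, by simp [mul_assoc]⟩
  have hcomm : r * n = n * r := by
    have h1 := hinv _ (R.mul_mem hrR hnR) hrn
    have h2 : n⁻¹ = n := inv_eq_of_mul_eq_one_right hnn
    have h3 : r⁻¹ = r := inv_eq_of_mul_eq_one_right (hinv r hrR hr)
    calc r * n = (r * n)⁻¹ := (inv_eq_of_mul_eq_one_right h1).symm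
      _ = n * r := by rw [mul_inv_rev, h2, h3]
  set m := n * (t * n⁻¹ * t⁻¹) with hmdef
  have hmT : m ∈ T := by
    rw [hmdef, show n * (t * n⁻¹ * t⁻¹) = n * t * n⁻¹ * t⁻¹ by group]
    exact T.mul_mem (hnN t htT).1 (T.inv_mem htT)
  have hrm : r * m * r⁻¹ = m := by
    have hc : r * (t * n⁻¹ * t⁻¹) = (t * n⁻¹ * t⁻¹) * r :=
      hcR r hrR _ (hm _ (R.inv_mem hnR))
    calc r * m * r⁻¹ = (r * n) * (t * n⁻¹ * t⁻¹) * r⁻¹ := by rw [hmdef]; group
      _ = n * (r * (t * n⁻¹ * t⁻¹)) * r⁻¹ := by rw [hcomm]; group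
      _ = _ := by rw [hc, hmdef]; group
  have hm1 := heq1 (hT r hrR hr).1 hmT ⟨m, hmT, hrm⟩
  apply hn1
  refine heq1 hdisR hnR ⟨n, hnR, ?_⟩
  calc (MulAut.conj t).toMonoidHom n = t * n * t⁻¹ := rfl
    _ = m * (t * n * t⁻¹) := by rw [hm1, one_mul]
    _ = n := by rw [hmdef]; group

theorem comm_all {S : Type*} [Group S] [Finite S] (hS : IsPGroup 2 S)
    (Δ : Set (Subgroup S)) (hinv : ∀ s : S, ∀ R ∈ Δ, R.map (MulAut.conj s).toMonoidHom ∈ Δ)
    (hΦ : ∀ R ∈ Δ, frattini ↥R ≠ ⊥) (hord : ∀ R ∈ Δ, ∀ T ∈ Δ, Nat.card ↥R = Nat.card ↥T)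
    (hti : ∀ R ∈ Δ, ∀ T ∈ Δ, R = T ∨ R ⊓ T = ⊥) :
    ∀ (n : ℕ) (H : Subgroup S), Nat.card ↥H = n → ∀ R ∈ Δ, ∀ T ∈ Δ, R ≤ H → T ≤ H → R ≠ T →
      ∀ a ∈ R, ∀ b ∈ T, a * b = b * a := by
  intro n
  induction n using Nat.strong_induction_on with
  | _ n ih =>
    intro H hH R hR T hT hRH hTH hne
    have hconj : ∀ A ∈ Δ, ∀ B ∈ Δ, A ≤ H → B ≤ H → A ≠ B → ∀ h ∈ H,
        A.map (MulAut.conj h).toMonoidHom ≠ A →
        A ⊓ A.map (MulAut.conj h).toMonoidHom = ⊥ ∧
        ∀ a ∈ A, ∀ b ∈ A.map (MulAut.conj h).toMonoidHom, a * b = b * a := by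
      intro A hA B hB hAH hBH hAB h hh hhA
      refine ⟨(hti A hA _ (hinv h A hA)).resolve_left (fun e => hhA e.symm), ?_⟩
      have hAlt : A < H := lt_of_le_of_ne hAH fun e => by
        have hBA : B ≤ A := hBH.trans e.ge
        have hBb : B = ⊥ := by
          rw [← inf_eq_right.2 hBA]
          exact (hti A hA B hB).resolve_left hAB
        apply hΦ B hB
        rw [eq_bot_iff]
        intro x _
        exact Subtype.ext (Subgroup.mem_bot.1 (hBb.le x.2))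
      have : Group.IsNilpotent ↥H := (hS.to_subgroup H).isNilpotent
      obtain ⟨M, hM, hAM⟩ := (eq_top_or_exists_le_coatom (A.subgroupOf H)).resolve_left
        (fun e => not_le_of_gt hAlt (Subgroup.subgroupOf_eq_top.1 e))
      have hMn : M.Normal := Cfsg.Agent.Core.normal_of_isCoatom hM
      have hMlt : M.map H.subtype < H := lt_of_le_of_ne (Subgroup.map_subtype_le _) fun e =>
        hM.1 (Subgroup.map_injective H.subtype_injective
          (by rw [e, ← MonoidHom.range_eq_map, Subgroup.range_subtype]))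
      have hA' : A ≤ M.map H.subtype := fun x hx => ⟨⟨x, hAH hx⟩, hAM hx, rfl⟩
      have hA'' : A.map (MulAut.conj h).toMonoidHom ≤ M.map H.subtype := by
        rintro _ ⟨x, hx, rfl⟩
        exact ⟨⟨h, hh⟩ * ⟨x, hAH hx⟩ * ⟨h, hh⟩⁻¹, hMn.conj_mem _ (hAM hx) _, rfl⟩
      exact ih _ (hH ▸ Set.ncard_lt_ncard hMlt (Set.toFinite _)) _ rfl A hA _ (hinv h A hA)
        hA' hA'' (fun e => hhA e.symm)
    have hd := (hti R hR T hT).resolve_left hne
    have h1 := step hS R T (hΦ R hR) (hord R hR T hT) hd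
      (fun t ht => hconj R hR T hT hRH hTH hne t (hTH ht))
      (fun r hr => hconj T hT R hR hTH hRH hne.symm r (hRH hr))
    have h2 := step hS T R (hΦ T hT) (hord T hT R hR) (by rwa [inf_comm])
      (fun t ht => hconj T hT R hR hTH hRH hne.symm t (hRH ht))
      (fun r hr => hconj R hR T hT hRH hTH hne r (hTH hr))
    intro a ha b hb
    have e1 : a * b * a⁻¹ * b⁻¹ ∈ R := by
      rw [show a * b * a⁻¹ * b⁻¹ = a * (b * a⁻¹ * b⁻¹) by group]
      refine R.mul_mem ha ((h1 b hb).le ⟨a⁻¹, R.inv_mem ha, rfl⟩)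
    have e2 : a * b * a⁻¹ * b⁻¹ ∈ T :=
      T.mul_mem ((h2 a ha).le ⟨b, hb, rfl⟩) (T.inv_mem hb)
    have e3 := Subgroup.mem_bot.1 (hd.le ⟨e1, e2⟩)
    calc a * b = a * b * a⁻¹ * b⁻¹ * (b * a) := by group
      _ = b * a := by rw [e3, one_mul]

/-- Let S be a finite 2-group and Δ a set of subgroups of S closed under conjugation by S, all of the same order, each with nontrivial Frattini subgroup, and such that two distinct members of Δ meet trivially. Then any two distinct members of Δ commute elementwise. -/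
theorem result {S : Type*} [Group S] [Finite S] (hS : IsPGroup 2 S)
    (Δ : Set (Subgroup S)) (hinv : ∀ s : S, ∀ R ∈ Δ, R.map (MulAut.conj s).toMonoidHom ∈ Δ)
    (hΦ : ∀ R ∈ Δ, frattini ↥R ≠ ⊥) (hord : ∀ R ∈ Δ, ∀ T ∈ Δ, Nat.card ↥R = Nat.card ↥T)
    (hti : ∀ R ∈ Δ, ∀ T ∈ Δ, R = T ∨ R ⊓ T = ⊥) :
    ∀ R ∈ Δ, ∀ T ∈ Δ, R ≠ T → ⁅R, T⁆ = ⊥ := by
  intro R hR T hT hne
  rw [Subgroup.commutator_eq_bot_iff_le_centralizer]
  exact fun a ha => Subgroup.mem_centralizer_iff.2 fun b hb =>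
    (comm_all hS Δ hinv hΦ hord hti _ ⊤ rfl R hR T hT le_top le_top hne a ha b hb).symm

end Cfsg.Agent.S1782
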