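import Cfsg.Statements.S2326
import Cfsg.Agent.Chev.WeylAll

set_option autoImplicit false
open Cfsg

namespace Cfsg.Agent.S2326

open Cfsg.Agent.Chev

theorem not_dvd_prod {p q a : ℕ} (hp : p.Prime) (hq : q = p ^ a) (ha : a ≠ 0) (l : List ℕ)
    (hl : ∀ e ∈ l, e ≠ 0) : ¬ p ∣ (l.map fun e => q ^ e - 1).prod := by
  rw [hp.prime.dvd_prod_iff]
  rintro ⟨x, hx, h⟩
  obtain ⟨e, he, rfl⟩ := List.mem_map.1 hx
  have hd : p ∣ q ^ e := dvd_pow (hq ▸ dvd_pow_self p ha) (hl e he)
  have hpos : 1 ≤ q ^ e := Nat.one_le_pow _ _ (hq ▸ pow_pos hp.pos a)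
  have : p ∣ q ^ e - (q ^ e - 1) := Nat.dvd_sub hd h
  rw [show q ^ e - (q ^ e - 1) = 1 by omega] at this
  exact hp.one_lt.ne' (Nat.dvd_one.1 this)

universe u

theorem exists_sylow {F : Type u} [Field F] [Fintype F] (p : ℕ) [Fact p.Prime] [CharP F p]
    {D : Cfsg.Lie.ChevalleyDatum} (hF : Facts.{u} D) {d N : ℕ} {l : List ℕ} (hN : N = half D)
    (hl : ∀ e ∈ l, e ≠ 0)
    (h : d * Nat.card ↥(D.group F) =
      Fintype.card F ^ N * (l.map fun e => Fintype.card F ^ e - 1).prod) :
    ∃ P : Sylow p ↥(D.group F),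
      (P : Subgroup ↥(D.group F)) = (D.posUnipotent F).subgroupOf (D.group F) := by
  obtain ⟨n, hp, hq⟩ := FiniteField.card F p
  have hUG : D.posUnipotent F ≤ D.group F := le_sup_left.trans (borel_le_group hF)
  have hc : Nat.card ↥((D.posUnipotent F).subgroupOf (D.group F)) = Fintype.card F ^ half D := by
    rw [Nat.card_congr (Subgroup.subgroupOfEquivOfLe hUG).toEquiv, card_posUnipotent hF]
  have hP : IsPGroup p ↥((D.posUnipotent F).subgroupOf (D.group F)) :=
    IsPGroup.of_card (n := (n : ℕ) * half D) (by rw [hc, hq, pow_mul])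
  have hi : ¬ p ∣ ((D.posUnipotent F).subgroupOf (D.group F)).index := by
    intro hd
    apply not_dvd_prod hp hq n.ne_zero l hl
    have he := Subgroup.card_mul_index ((D.posUnipotent F).subgroupOf (D.group F))
    rw [hc] at he
    rw [← he, hN, ← mul_assoc, mul_comm d, mul_assoc] at h
    exact (Nat.eq_of_mul_eq_mul_left (pow_pos Fintype.card_pos _) h) ▸ hd.mul_left d
  exact ⟨hP.toSylow hi, rfl⟩

/-- In a Chevalley group of type G₂, B₂, D₄, F₄, E₆, E₇ or E₈ over a finite field of characteristic p, the subgroup U generated by the positive root elements is a Sylow p-subgroup. -/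
theorem result {F : Type*} [Field F] [Fintype F] (p : ℕ) [Fact p.Prime] [CharP F p] (D : Cfsg.Lie.ChevalleyDatum) (hD : D ∈ [Cfsg.Lie.chevG2, Cfsg.Lie.chevB2, Cfsg.Lie.chevD4, Cfsg.Lie.chevF4, Cfsg.Lie.chevE6, Cfsg.Lie.chevE7, Cfsg.Lie.chevE8]) :
    ∃ P : Sylow p ↥(D.group F), (P : Subgroup ↥(D.group F)) = (D.posUnipotent F).subgroupOf (D.group F) := by
  simp only [List.mem_cons, List.not_mem_nil, or_false] at hD
  rcases hD with rfl | rfl | rfl | rfl | rfl | rfl | rfl
  · exact exists_sylow p facts_chevG2 (by rfl) (by decide) (g2_card_group F)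
  · exact exists_sylow p facts_chevB2 (by rfl) (by decide) (b2_card_group F)
  · exact exists_sylow p facts_chevD4 (by rfl) (by decide) (d4_card_group F)
  · exact exists_sylow p facts_chevF4 (by rfl) (by decide) (f4_card_group F)
  · exact exists_sylow p facts_chevE6 (by rfl) (by decide) (e6_card_group F)
  · exact exists_sylow p facts_chevE7 (by rfl) (by decide) (e7_card_group F)
  · exact exists_sylow p facts_chevE8 (by rfl) (by decide) (e8_card_group F)

end Cfsg.Agent.S2326
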