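import Cfsg.Statements.S2160
import Cfsg.Agent.Chev.All
import Cfsg.Agent.Chev.Generation

set_option autoImplicit false
open Cfsg

namespace Cfsg.Agent.S2160

/-- In a Chevalley group of type G₂, B₂, D₄, F₄, E₆, E₇ or E₈ over a finite field, every field automorphism commutes with every graph automorphism. -/
theorem result {F : Type*} [Field F] [Finite F] (D : Cfsg.Lie.ChevalleyDatum) (hD : D ∈ [Cfsg.Lie.chevG2, Cfsg.Lie.chevB2, Cfsg.Lie.chevD4, Cfsg.Lie.chevF4, Cfsg.Lie.chevE6, Cfsg.Lie.chevE7, Cfsg.Lie.chevE8]) (f g : ↥(D.group F) ≃* ↥(D.group F))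
    (hf : D.IsFieldAut f) (hg : D.IsGraphAut g) (y : ↥(D.group F)) : f (g y) = g (f y) := by
  obtain ⟨σ, hσ⟩ := hf
  obtain ⟨π, -, hπ⟩ := hg
  have hF := Chev.facts_of_mem hD
  have hgen : ∀ (r : ℕ) (t : F), r < D.nroots → ∀ y : ↥(D.group F),
      (y : GL D.Idx F) = Chev.xG hF r t → ((f y : GL D.Idx F) = Chev.xG hF r (σ t)) :=
    fun r t hr y e => Units.ext (hσ y r t hr (congrArg Units.val e))
  obtain ⟨y, hy⟩ := y
  have key : ∀ x, x ∈ D.group F → ∀ hx : x ∈ D.group F, f (g ⟨x, hx⟩) = g (f ⟨x, hx⟩) := by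
    intro x hx
    rw [Chev.group_eq_closure_simple hF] at hx
    induction hx using Subgroup.closure_induction with
    | mem x hx =>
      intro hxG
      obtain ⟨i, t, e | e⟩ := hx
      · have hgx : (g ⟨x, hxG⟩ : GL D.Idx F) =
            Chev.xG hF (D.simple (π i)) (t ^ D.graphExp (ringChar F) i (π i)) :=
          Units.ext ((hπ ⟨x, hxG⟩ i t).1 (congrArg Units.val e))
        apply Subtype.ext
        rw [hgen _ _ (hF.simple_lt _ (π i).2) _ hgx]
        apply Units.ext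
        rw [(hπ (f ⟨x, hxG⟩) i (σ t)).1 (congrArg Units.val (hgen _ _ (hF.simple_lt i i.2) ⟨x, hxG⟩ e)), Chev.xG_val, map_pow]
      · have hgx : (g ⟨x, hxG⟩ : GL D.Idx F) =
            Chev.xG hF (D.neg (D.simple (π i))) (t ^ D.graphExp (ringChar F) i (π i)) :=
          Units.ext ((hπ ⟨x, hxG⟩ i t).2 (congrArg Units.val e))
        apply Subtype.ext
        rw [hgen _ _ (Chev.neg_lt hF (hF.simple_lt _ (π i).2)) _ hgx]
        apply Units.ext
        rw [(hπ (f ⟨x, hxG⟩) i (σ t)).2 (congrArg Units.val (hgen _ _ (Chev.neg_lt hF (hF.simple_lt i i.2)) ⟨x, hxG⟩ e)), Chev.xG_val, map_pow]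
    | one => intro h1; rw [show (⟨1, h1⟩ : ↥(D.group F)) = 1 from rfl]; simp
    | mul a b ha hb iha ihb =>
      intro hab
      rw [← Chev.group_eq_closure_simple hF] at ha hb
      rw [show (⟨a * b, hab⟩ : ↥(D.group F)) = ⟨a, ha⟩ * ⟨b, hb⟩ from rfl]
      simp only [map_mul, iha ha, ihb hb]
    | inv a ha iha =>
      intro hai
      rw [← Chev.group_eq_closure_simple hF] at ha
      rw [show (⟨a⁻¹, hai⟩ : ↥(D.group F)) = (⟨a, ha⟩)⁻¹ from rfl]
      simp only [map_inv, iha ha]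
  exact key y hy hy

end Cfsg.Agent.S2160
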