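import Cfsg.Statements.S4200
import Mathlib

set_option autoImplicit false
open Cfsg

namespace Cfsg.Agent.S4200

/-- Let Y be a subgroup of the finite group X, of index m. Then the numbers of conjugacy classes satisfy k(Y) ≤ m·k(X) and k(X) ≤ m·k(Y), and the second inequality is strict unless Y is normal in X. -/
theorem result {X : Type*} [Group X] [Finite X] (Y : Subgroup X) : Nat.card (ConjClasses Y) ≤ Y.index * Nat.card (ConjClasses X) ∧ Nat.card (ConjClasses X) ≤ Y.index * Nat.card (ConjClasses Y) ∧ (¬ Y.Normal → Nat.card (ConjClasses X) < Y.index * Nat.card (ConjClasses Y)) := by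
  have hX := card_comm_eq_card_conjClasses_mul_card X
  have hY := card_comm_eq_card_conjClasses_mul_card Y
  have hcard := Y.card_mul_index
  have h1 : Nat.card {p : Y × Y // Commute p.1 p.2} ≤ Nat.card {p : X × X // Commute p.1 p.2} :=
    Nat.card_le_card_of_injective
      (fun p => ⟨((p.1.1 : X), (p.1.2 : X)), congrArg Subtype.val p.2.eq⟩)
      (fun p q h => by
        have h' := congrArg Subtype.val h
        simp only [Prod.mk.injEq] at h'
        exact Subtype.ext (Prod.ext (Subtype.ext h'.1) (Subtype.ext h'.2)))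
  classical
  have relLe : ∀ C : Subgroup X, (Y.subgroupOf C).index ≤ Y.index := fun C => by
    show Y.relIndex C ≤ Y.index
    rw [← Subgroup.relIndex_top_right]
    exact Subgroup.relIndex_le_of_le_right le_top (by rw [Subgroup.relIndex_top_right]; exact Subgroup.index_ne_zero_of_finite)
  haveI : Fintype X := Fintype.ofFinite X
  haveI : Fintype Y := Fintype.ofFinite Y
  have eX : ∀ x : X, Nat.card {y : X // Commute x y} = Nat.card (Subgroup.centralizer ({x} : Set X)) :=
    fun x => Nat.card_congr (Equiv.subtypeEquivRight fun y => by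
      rw [Subgroup.mem_centralizer_singleton_iff]; exact eq_comm)
  have eY : ∀ x : X, Nat.card {y : Y // Commute x y} =
      Nat.card (Y.subgroupOf (Subgroup.centralizer ({x} : Set X))) := fun x =>
    Nat.card_congr
      { toFun := fun y => ⟨⟨y.1, Subgroup.mem_centralizer_singleton_iff.2 y.2.symm⟩, y.1.2⟩
        invFun := fun c => ⟨⟨c.1.1, c.2⟩, (Subgroup.mem_centralizer_singleton_iff.1 c.1.2).symm⟩
        left_inv := fun _ => rfl
        right_inv := fun _ => rfl }
  have hle : ∀ x : X, Nat.card {y : X // Commute x y} ≤ Y.index * Nat.card {y : Y // Commute x y} := by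
    intro x
    rw [eX, eY, ← (Y.subgroupOf (Subgroup.centralizer ({x} : Set X))).index_mul_card]
    exact Nat.mul_le_mul_right _ (relLe _)
  have hlt : ∀ x : X, (Y.subgroupOf (Subgroup.centralizer ({x} : Set X))).index < Y.index →
      Nat.card {y : X // Commute x y} < Y.index * Nat.card {y : Y // Commute x y} := by
    intro x hx
    rw [eX, eY, ← (Y.subgroupOf (Subgroup.centralizer ({x} : Set X))).index_mul_card]
    exact Nat.mul_lt_mul_of_pos_right hx Nat.card_pos
  have sXX : Nat.card {p : X × X // Commute p.1 p.2} = ∑ x : X, Nat.card {y : X // Commute x y} := by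
    rw [← Nat.card_sigma]
    exact Nat.card_congr
      { toFun := fun p => ⟨p.1.1, p.1.2, p.2⟩
        invFun := fun s => ⟨(s.1, s.2.1), s.2.2⟩
        left_inv := fun _ => rfl
        right_inv := fun _ => rfl }
  have sXY : ∑ x : X, Nat.card {y : Y // Commute x y} = ∑ y : Y, Nat.card {x : X // Commute (y : X) x} := by
    rw [← Nat.card_sigma, ← Nat.card_sigma]
    exact Nat.card_congr
      { toFun := fun s => ⟨s.2.1, s.1, s.2.2.symm⟩
        invFun := fun s => ⟨s.2.1, s.1, s.2.2.symm⟩
        left_inv := fun _ => rfl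
        right_inv := fun _ => rfl }
  have sYY : Nat.card {p : Y × Y // Commute p.1 p.2} = ∑ y : Y, Nat.card {z : Y // Commute (y : X) z} := by
    rw [← Nat.card_sigma]
    exact Nat.card_congr
      { toFun := fun p => ⟨p.1.1, p.1.2, congrArg Subtype.val p.2.eq⟩
        invFun := fun s => ⟨(s.1, s.2.1), Subtype.ext s.2.2⟩
        left_inv := fun _ => rfl
        right_inv := fun _ => rfl }
  -- the chain of estimates
  have hA : Nat.card (ConjClasses X) * Nat.card X ≤
      Y.index * ∑ y : Y, Nat.card {x : X // Commute (y : X) x} := by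
    rw [← hX, ← sXY, Finset.mul_sum]
    exact sXX ▸ Finset.sum_le_sum fun x _ => hle x
  have hB : Y.index * (Y.index * (Nat.card (ConjClasses Y) * Nat.card Y)) =
      Y.index * Nat.card (ConjClasses Y) * Nat.card X := by rw [← hcard]; ring
  have hYsum : ∑ y : Y, Y.index * Nat.card {z : Y // Commute (y : X) z} =
      Y.index * (Nat.card (ConjClasses Y) * Nat.card Y) := by
    rw [← Finset.mul_sum, ← sYY]; exact congrArg _ hY
  refine ⟨?_, ?_, fun hn => ?_⟩
  · have h3 := h1.trans_eq hX
    rw [hY, ← hcard] at h3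
    refine Nat.le_of_mul_le_mul_right (c := Nat.card Y) ?_ Nat.card_pos
    calc Nat.card (ConjClasses Y) * Nat.card Y ≤ _ := h3
      _ = Y.index * Nat.card (ConjClasses X) * Nat.card Y := by ring
  · refine Nat.le_of_mul_le_mul_right (c := Nat.card X) ?_ Nat.card_pos
    rw [← hB, ← hYsum]
    exact hA.trans (Nat.mul_le_mul_left _ (Finset.sum_le_sum fun y _ => hle y))
  · have hm : 0 < Y.index := Nat.pos_of_ne_zero Subgroup.index_ne_zero_of_finite
    refine Nat.lt_of_mul_lt_mul_right (a := Nat.card X) ?_
    rw [← hB, ← hYsum]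
    refine hA.trans_lt (Nat.mul_lt_mul_of_pos_left (Finset.sum_lt_sum (fun y _ => hle y) ?_) hm)
    by_contra hno
    push Not at hno
    refine hn ⟨fun n hn g => ?_⟩
    set C := Subgroup.centralizer ({n} : Set X)
    have heq : ¬ (Y.subgroupOf C).index < Y.index := fun h =>
      (hno ⟨n, hn⟩ (Finset.mem_univ _)).not_gt (hlt n h)
    let f : C ⧸ Y.subgroupOf C → X ⧸ Y := Quotient.lift (fun c : C => ((c : X) : X ⧸ Y))
      (fun a b hab => QuotientGroup.eq.2 (by
        have := QuotientGroup.leftRel_apply.1 hab
        exact this))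
    have hinj : Function.Injective f := by
      intro a b
      induction a using Quotient.inductionOn with
      | _ a =>
        induction b using Quotient.inductionOn with
        | _ b =>
          intro h
          have h' : ((a : X) : X ⧸ Y) = ((b : X) : X ⧸ Y) := h
          exact Quotient.sound (QuotientGroup.leftRel_apply.2 (Subgroup.mem_subgroupOf.2 (QuotientGroup.eq.1 h')))
    obtain ⟨q, hq⟩ := (hinj.bijective_of_nat_card_le (not_lt.1 heq)).2 (((g⁻¹ : X)) : X ⧸ Y)
    induction q using Quotient.inductionOn with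
    | _ c =>
      have hy : (c : X)⁻¹ * g⁻¹ ∈ Y := QuotientGroup.eq.1 hq
      have hc : (c : X) * n = n * c := Subgroup.mem_centralizer_singleton_iff.1 c.2
      have e : g * n * g⁻¹ = ((c : X)⁻¹ * g⁻¹)⁻¹ * n * ((c : X)⁻¹ * g⁻¹) := by
        calc g * n * g⁻¹ = g * (n * c) * (c : X)⁻¹ * g⁻¹ := by group
          _ = g * (c * n) * (c : X)⁻¹ * g⁻¹ := by rw [hc]
          _ = _ := by group
      rw [e]
      exact Y.mul_mem (Y.mul_mem (Y.inv_mem hy) hn) hy

end Cfsg.Agent.S4200
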