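import Cfsg.Statements.S0219
import Mathlib.GroupTheory.Transfer
import Mathlib.GroupTheory.SpecificGroups.Cyclic
import Mathlib.Tactic

set_option autoImplicit false
open Cfsg

namespace Cfsg.Agent.S0219

/-- If a finite group has even order and a cyclic Sylow 2-subgroup, then it has a subgroup of index 2 (consider the parity of permutations in the regular representation). -/
theorem result {G : Type*} [Group G] [Finite G] (heven : Even (Nat.card G)) (T : Sylow 2 G) (hT : IsCyclic (T : Subgroup G)) : ∃ H : Subgroup G, H.index = 2 := by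
  have hmin : (Nat.card G).minFac = 2 := by
    rw [Nat.minFac_eq_two_iff]
    exact even_iff_two_dvd.1 heven
  obtain ⟨f, hf⟩ : ∃ f : (T : Subgroup G) →* Multiplicative (ZMod 2), Function.Surjective f := by
    have h2 : 2 ∣ Nat.card (T : Subgroup G) := by
      simpa using T.pow_dvd_card_of_pow_dvd_card (n := 1) (by simpa using even_iff_two_dvd.1 heven)
    haveI := hT
    let e := (zmodCyclicMulEquiv hT).symm
    let q := (ZMod.castHom h2 (ZMod 2)).toAddMonoidHom.toMultiplicative
    refine ⟨q.comp e.toMonoidHom, ?_⟩
    intro z
    obtain ⟨w, hw⟩ := ZMod.castHom_surjective h2 z.toAdd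
    obtain ⟨v, hv⟩ := e.surjective (Multiplicative.ofAdd w)
    exact ⟨v, by simp [q, hv, hw]⟩
  have := hT
  have hc : Subgroup.normalizer ((T : Subgroup G) : Set G) ≤ Subgroup.centralizer ((T : Subgroup G) : Set G) :=
    IsCyclic.normalizer_le_centralizer hmin hT
  have hNT := MonoidHom.ker_transferSylow_isComplement' T hc
  let φ := MonoidHom.transferSylow T hc
  have hsurj : Function.Surjective φ := by
    apply MonoidHom.range_eq_top.1
    refine Subgroup.eq_top_of_card_eq _ ?_
    rw [← Subgroup.index_ker]
    exact hNT.symm.index_eq_card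
  refine ⟨(f.comp φ).ker, ?_⟩
  rw [Subgroup.index_ker, MonoidHom.range_eq_top.2 ((show Function.Surjective (f.comp φ) from hf.comp hsurj)), Subgroup.card_top,
    Nat.card_congr Multiplicative.toAdd, Nat.card_zmod]

end Cfsg.Agent.S0219
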