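import Cfsg.Statements.S4037
import Cfsg.Agent.BlockApp.Kazarin

set_option autoImplicit false
open Cfsg

namespace Cfsg.Agent.S4037

/-- If an element x of a finite group G has a conjugacy class of prime-power size, then the normal closure of x in G (the subgroup generated by the conjugacy class of x) is solvable. -/
theorem result {G : Type*} [Group G] [Finite G]
    (x : G) {p : ℕ} (hp : p.Prime) (k : ℕ) (hx : (ConjClasses.mk x).carrier.ncard = p ^ k) :
    Group.IsSolvable ↥(Subgroup.normalClosure ({x} : Set G)) := by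
  haveI : Fact p.Prime := ⟨hp⟩
  have hcl : (Subgroup.centralizer ({x} : Set G)).index = p ^ k := by
    rw [← hx, Subgroup.index_eq_card, ← Nat.card_coe_set_eq]
    refine Nat.card_congr (Equiv.ofBijective (fun q => Quotient.liftOn' q
      (fun g => (⟨g * x * g⁻¹, ConjClasses.mem_carrier_iff_mk_eq.2
        (ConjClasses.mk_eq_mk_iff_isConj.2 (isConj_iff.2 ⟨g, rfl⟩).symm)⟩ :
          (ConjClasses.mk x).carrier)) ?_) ⟨?_, ?_⟩)
    · intro c d h
      rw [QuotientGroup.leftRel_apply, Subgroup.mem_centralizer_singleton_iff] at h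
      apply Subtype.ext
      calc c * x * c⁻¹ = c * (x * (c⁻¹ * d)) * d⁻¹ := by group
        _ = d * x * d⁻¹ := by rw [← h]; group
    · intro u v
      refine Quotient.inductionOn₂' u v fun c d h => ?_
      apply Quotient.sound'
      rw [QuotientGroup.leftRel_apply, Subgroup.mem_centralizer_singleton_iff]
      have h' : c * x * c⁻¹ = d * x * d⁻¹ := congrArg Subtype.val h
      calc c⁻¹ * d * x = c⁻¹ * (d * x * d⁻¹) * d := by group
        _ = x * (c⁻¹ * d) := by rw [← h']; group
    · rintro ⟨y, hy⟩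
      obtain ⟨g, hg⟩ := isConj_iff.1
        (ConjClasses.mk_eq_mk_iff_isConj.1 (ConjClasses.mem_carrier_iff_mk_eq.1 hy)).symm
      exact ⟨QuotientGroup.mk g, Subtype.ext hg⟩
  set E := Subgroup.normalClosure ({x} : Set G) with hE
  let f := (QuotientGroup.mk' (Cfsg.pCore p G)).comp E.subtype
  have hcomm : ∀ u ∈ E, ∀ v ∈ E, Commute (u : G ⧸ Cfsg.pCore p G) (v : G ⧸ Cfsg.pCore p G) := by
    have h0 : ∀ g h : G, Commute ((g * x * g⁻¹ : G) : G ⧸ Cfsg.pCore p G)
        ((h * x * h⁻¹ : G) : G ⧸ Cfsg.pCore p G) := fun g h => by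
      have := (QuotientGroup.eq_one_iff _).2
        (Cfsg.Agent.Kazarin.commutator_conj_mem_pCore hcl g h)
      simp only [QuotientGroup.mk_mul, QuotientGroup.mk_inv] at this ⊢
      rw [mul_inv_eq_one, mul_inv_eq_iff_eq_mul] at this
      exact this
    intro u hu v hv
    have h1 : ∀ g : G, E ≤ (Subgroup.centralizer
        ({((g * x * g⁻¹ : G) : G ⧸ Cfsg.pCore p G)} : Set (G ⧸ Cfsg.pCore p G))).comap
        (QuotientGroup.mk' (Cfsg.pCore p G)) := fun g => by
      rw [hE, Subgroup.normalClosure, Subgroup.closure_le]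
      intro y hy
      obtain ⟨s, hs, hsy⟩ := Group.mem_conjugatesOfSet_iff.1 hy
      rw [Set.mem_singleton_iff] at hs
      obtain ⟨c, rfl⟩ := isConj_iff.1 hsy
      subst hs
      exact Subgroup.mem_centralizer_singleton_iff.2 (h0 c g)
    have h2 : E ≤ (Subgroup.centralizer
        ({(u : G ⧸ Cfsg.pCore p G)} : Set (G ⧸ Cfsg.pCore p G))).comap
        (QuotientGroup.mk' (Cfsg.pCore p G)) := by
      rw [hE, Subgroup.normalClosure, Subgroup.closure_le]
      intro y hy
      obtain ⟨s, hs, hsy⟩ := Group.mem_conjugatesOfSet_iff.1 hy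
      rw [Set.mem_singleton_iff] at hs
      obtain ⟨c, rfl⟩ := isConj_iff.1 hsy
      subst hs
      exact Subgroup.mem_centralizer_singleton_iff.2
        (Subgroup.mem_centralizer_singleton_iff.1 (h1 c hu)).symm
    exact (Subgroup.mem_centralizer_singleton_iff.1 (h2 hv)).symm
  haveI : Group.IsSolvable ↥(Cfsg.pCore p G) := by
    haveI : Group.IsNilpotent ↥(Cfsg.pCore p G) :=
      (Cfsg.Agent.Core.pCore_isPGroup (p := p) (G := G)).isNilpotent
    infer_instance
  haveI : Group.IsSolvable f.range := by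
    refine Group.isSolvable_of_comm ?_
    rintro ⟨_, a, rfl⟩ ⟨_, b, rfl⟩
    exact Subtype.ext (hcomm a a.2 b b.2).eq
  haveI : Group.IsSolvable ↥((Cfsg.pCore p G).subgroupOf E) :=
    Group.isSolvable_of_isSolvable_injective (f :=
      (E.subtype.comp ((Cfsg.pCore p G).subgroupOf E).subtype).codRestrict (Cfsg.pCore p G)
        fun z => z.2) (fun u v h => Subtype.ext (Subtype.ext (congrArg Subtype.val h :)))
  refine Group.isSolvable_of_ker_le_range ((Cfsg.pCore p G).subgroupOf E).subtype f.rangeRestrict ?_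
  intro e he
  refine ⟨⟨e, ?_⟩, rfl⟩
  have h := congrArg Subtype.val (MonoidHom.mem_ker.1 he)
  exact Subgroup.mem_subgroupOf.2 (by simpa [f] using h)

end Cfsg.Agent.S4037
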