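import Cfsg.Statements.S4127
import Cfsg.Agent.S4035
import Cfsg.Agent.S0028
import Cfsg.Agent.Fusion.Residual
import Cfsg.Agent.Core.Basics
import Cfsg.Agent.Core.PCore

set_option autoImplicit false
open Cfsg

namespace Cfsg.Agent.S4127

open Subgroup

/-- Let G be a finite group, p a prime and p^a the largest power of p dividing the size of any conjugacy class of G. If some element of p-power order has a conjugacy class of size exactly p^a, then G has a normal p-complement. -/
theorem result {G : Type*} [Group G] [Finite G] (p : ℕ) [Fact p.Prime]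
    (a : ℕ) (hmax : ∀ y : G, ¬ p ^ (a + 1) ∣ (Subgroup.centralizer ({y} : Set G)).index)
    (hx : ∃ x : G, (∃ k : ℕ, orderOf x = p ^ k) ∧ (Subgroup.centralizer ({x} : Set G)).index = p ^ a) :
    Cfsg.HasNormalPComplement p G := by
  classical
  have hpp : p.Prime := Fact.out
  obtain ⟨x, ⟨k, hk⟩, hxa⟩ := hx
  set C := centralizer ({x} : Set G) with hC
  have hcls : ∀ y : C, (orderOf y).Coprime p → ¬ p ∣ (ConjClasses.mk y).carrier.ncard := by
    intro y hy hd
    rw [Cfsg.Agent.S4034.carrier_ncard] at hd
    have e : centralizer ({y} : Set C) = (centralizer ({(y : G)} : Set G)).subgroupOf C := by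
      ext z
      simp only [mem_centralizer_singleton_iff, mem_subgroupOf]
      exact ⟨fun h => congrArg Subtype.val h, fun h => Subtype.ext h⟩
    rw [e] at hd
    change p ∣ (centralizer ({(y : G)} : Set G)).relIndex C at hd
    have hcomm : Commute x (y : G) := (mem_centralizer_singleton_iff.mp y.2).symm
    have hle : centralizer ({x * (y : G)} : Set G) = centralizer ({(y : G)} : Set G) ⊓ C := by
      apply le_antisymm
      · have hcop : (orderOf x).Coprime (orderOf (y : G)) := by
          rw [hk, Subgroup.orderOf_coe]; exact (hy.pow_right k).symm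
        obtain ⟨u, hu⟩ := exists_pow_eq_self_of_coprime hcop.symm
        have hxx : x ∈ zpowers (x * (y : G)) := by
          have h1 : (x * (y : G)) ^ orderOf (y : G) = x ^ orderOf (y : G) := by
            rw [hcomm.mul_pow, pow_orderOf_eq_one, mul_one]
          have h2 : ((x * (y : G)) ^ orderOf (y : G)) ^ u ∈ zpowers (x * (y : G)) :=
            pow_mem (pow_mem (mem_zpowers _) _) _
          rwa [h1, hu] at h2
        have hyy : (y : G) ∈ zpowers (x * (y : G)) := by
          have := mul_mem (inv_mem hxx) (mem_zpowers (x * (y : G)))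
          simpa using this
        intro z hz
        have hz' : Commute z (x * (y : G)) := mem_centralizer_singleton_iff.mp hz
        refine ⟨mem_centralizer_singleton_iff.mpr ?_, mem_centralizer_singleton_iff.mpr ?_⟩
        · obtain ⟨i, hi⟩ := hyy
          have e := (hz'.zpow_right i).eq
          rwa [show (x * (y : G)) ^ i = (y : G) from hi] at e
        · obtain ⟨i, hi⟩ := hxx
          have e := (hz'.zpow_right i).eq
          rwa [show (x * (y : G)) ^ i = x from hi] at e
      · intro z hz
        refine mem_centralizer_singleton_iff.mpr ?_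
        exact ((show Commute z x from mem_centralizer_singleton_iff.mp hz.2).mul_right
          (show Commute z (y : G) from mem_centralizer_singleton_iff.mp hz.1)).eq
    refine hmax (x * (y : G)) ?_
    rw [hle, ← relIndex_mul_index (inf_le_right : centralizer ({(y : G)} : Set G) ⊓ C ≤ C),
      inf_relIndex_right, hxa, pow_succ, mul_comm]
    exact Nat.mul_dvd_mul hd dvd_rfl
  obtain ⟨P0⟩ := (inferInstance : Nonempty (Sylow p C))
  obtain ⟨hP0n, H, hHn, hHp, hHbot, hHtop⟩ := Cfsg.Agent.S4035.result hcls P0
  set H' := H.map C.subtype with hH'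
  have hH'c : Nat.card H' = Nat.card H := card_map_of_injective (subtype_injective _)
  have hH'p : (Nat.card H').Coprime p := hH'c ▸ ((hpp.coprime_iff_not_dvd.mpr hHp).symm)
  have hprod : Nat.card C = Nat.card (P0 : Subgroup C) * Nat.card H := by
    have h := Core.card_sup_mul_card_inf (P0 : Subgroup C) H
    rw [hHtop, hHbot, card_top, card_bot, mul_one] at h
    exact h
  have hHidx : ∃ j, H.index = p ^ j := by
    obtain ⟨j, hj⟩ := IsPGroup.iff_card.mp P0.2
    refine ⟨j, Nat.eq_of_mul_eq_mul_left (Nat.card_pos (α := H)) ?_⟩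
    rw [card_mul_index, hprod, hj, mul_comm]
  obtain ⟨P, hP⟩ := (P0.2.map C.subtype).exists_le_sylow
  have hxC : x ∈ C := mem_centralizer_singleton_iff.mpr rfl
  have hxP : x ∈ (P : Subgroup G) := by
    refine hP ⟨⟨x, hxC⟩, ?_, rfl⟩
    have hp' : IsPGroup p (zpowers (⟨x, hxC⟩ : C)) :=
      IsPGroup.of_card (by rw [Nat.card_zpowers, Subgroup.orderOf_mk, hk])
    obtain ⟨R, hR⟩ := hp'.exists_le_sylow
    haveI : Subsingleton (Sylow p C) := (Sylow.unique_of_normal P0 hP0n).instSubsingleton
    rw [Subsingleton.elim P0 R]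
    exact hR (mem_zpowers _)
  have hcompl : (P : Subgroup G).IsComplement' H' := by
    refine isComplement'_of_coprime ?_ ?_
    · obtain ⟨j, hj⟩ := IsPGroup.iff_card.mp P.2
      obtain ⟨i, hi⟩ := IsPGroup.iff_card.mp P0.2
      have hG : Nat.card G = p ^ (i + a) * Nat.card H' := by
        rw [← card_mul_index C, hxa, hprod, hi, hH'c, pow_add]; ring
      have hPc : Nat.card (P : Subgroup G) = p ^ (i + a) := by
        rw [Sylow.card_eq_multiplicity, hG, Nat.factorization_mul (pow_ne_zero _ hpp.pos.ne') Nat.card_pos.ne',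
          Finsupp.add_apply, Nat.Prime.factorization_pow hpp, Finsupp.single_eq_same,
          Nat.factorization_eq_zero_of_not_dvd (hH'c ▸ hHp), add_zero]
      rw [hPc, hG]
    · obtain ⟨j, hj⟩ := IsPGroup.iff_card.mp P.2
      rw [hj]; exact (hH'p.pow_right j).symm
  have hH'C : H' ≤ C := map_subtype_le _
  have hclosure : Subgroup.normalClosure ({x} : Set G) ≤ (P : Subgroup G) := by
    refine (closure_le _).mpr fun z hz => ?_
    obtain ⟨a', ha', hconj⟩ := Group.mem_conjugatesOfSet_iff.mp hz
    rw [Set.mem_singleton_iff] at ha'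
    rw [ha'] at hconj
    obtain ⟨g, rfl⟩ := isConj_iff.mp hconj
    obtain ⟨⟨u, h⟩, hug⟩ := hcompl.2 g
    simp only at hug
    rw [← hug, show (u : G) * h * x * ((u : G) * h)⁻¹ = u * ((h : G) * x * (h : G)⁻¹) * (u : G)⁻¹ by group,
      mem_centralizer_singleton_iff.mp (hH'C h.2), mul_inv_cancel_right]
    exact mul_mem (mul_mem u.2 hxP) (inv_mem u.2)
  set K := Cfsg.pCore p G with hK
  have hxK : x ∈ K := Core.le_pCore (P.2.to_le hclosure) (Subgroup.subset_normalClosure rfl)
  have hKp : IsPGroup p K := Core.pCore_isPGroup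
  have hQ : H' ≤ centralizer (K : Set G) := by
    refine Cfsg.Agent.S0028.result p (zpowers x) H' K (IsPGroup.of_card (by rw [Nat.card_zpowers, hk]))
      hH'p hKp ?_ (by rw [normalizer_eq_top]; exact le_top) (by rw [normalizer_eq_top]; exact le_top) ?_
    · exact zpowers_le.mpr (mem_centralizer_iff.mpr fun h hh => mem_centralizer_singleton_iff.mp (hH'C hh))
    · intro u hu
      have huC : u ∈ C := centralizer_le (Set.singleton_subset_iff.mpr (mem_zpowers x)) hu.2
      have huP : (⟨u, huC⟩ : C) ∈ (P0 : Subgroup C) := by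
        obtain ⟨R, hR⟩ := ((hKp.to_le (show K ⊓ C ≤ K from inf_le_left)).comap_subtype (K := C)).exists_le_sylow
        haveI : Subsingleton (Sylow p C) := (Sylow.unique_of_normal P0 hP0n).instSubsingleton
        rw [Subsingleton.elim P0 R]
        exact hR ⟨hu.1, huC⟩
      refine mem_centralizer_iff.mpr fun h hh => ?_
      obtain ⟨h', hh', rfl⟩ := hh
      haveI := hHn
      exact congrArg Subtype.val ((Subgroup.commute_of_normal_of_disjoint (P0 : Subgroup C) H hP0n hHn
        (disjoint_iff.mpr hHbot) _ _ huP hh').eq).symm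
  have hH'n : H'.Normal := by
    refine ⟨fun h hh g => ?_⟩
    have h1 : g * h * g⁻¹ ∈ centralizer (K : Set G) :=
      (inferInstance : (centralizer (K : Set G)).Normal).conj_mem h (hQ hh) g
    have h2 : g * h * g⁻¹ ∈ C := centralizer_le (Set.singleton_subset_iff.mpr hxK) h1
    refine ⟨⟨_, h2⟩, ?_, rfl⟩
    obtain ⟨j, hj⟩ := hHidx
    have hpow := pow_index_mem H (⟨_, h2⟩ : C)
    rw [hj] at hpow
    have hcop : (p ^ j).Coprime (orderOf (⟨_, h2⟩ : C)) := by
      rw [Subgroup.orderOf_mk, show g * h * g⁻¹ = MulAut.conj g h from rfl, MulEquiv.orderOf_eq]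
      obtain ⟨h', hh', rfl⟩ := hh
      refine (Nat.Coprime.coprime_dvd_left ?_ hH'p).symm.pow_left j
      exact Subgroup.orderOf_dvd_natCard H' ⟨h', hh', rfl⟩
    obtain ⟨u, hu⟩ := exists_pow_eq_self_of_coprime hcop
    rw [← hu]
    exact pow_mem hpow u
  exact ⟨P, H', hH'n, hcompl.symm⟩

end Cfsg.Agent.S4127
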