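import Cfsg.Statements.S4135
import Cfsg.Agent.TwoClassSizes.NormalCount
-- import your own Cfsg.Agent.* helpers here

set_option autoImplicit false
open Cfsg

namespace Cfsg.Agent.S4135

/-- Let G be a finite group, r a prime and R a Sylow r-subgroup of G that is not central, N a normal subgroup of G containing R, and m a natural number such that every element of N has a conjugacy class in G of size 1 or m. Then N is nilpotent. -/
theorem result {G : Type*} [Group G] [Finite G] (r : ℕ) [Fact r.Prime]
    (R : Sylow r G) (hR : ¬ (R : Subgroup G) ≤ Subgroup.center G) (N : Subgroup G) [N.Normal] (hRN : (R : Subgroup G) ≤ N)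
    (m : ℕ) (h : ∀ x ∈ N, (Subgroup.centralizer ({x} : Set G)).index = 1 ∨ (Subgroup.centralizer ({x} : Set G)).index = m) : Group.IsNilpotent N := by
  refine Cfsg.Agent.TwoClassSizes.Normal.Hyp.isNilpotent (r := r) (R := (R : Subgroup G))
    ⟨Fact.out, inferInstance, ⟨R, rfl⟩, hRN, hR, fun x hx y hy hxZ hyZ => ?_⟩
  have key : ∀ v ∈ N, v ∉ Subgroup.center G → (Subgroup.centralizer ({v} : Set G)).index = m := by
    intro v hv hvZ
    refine (h v hv).resolve_left fun h1 => hvZ (Subgroup.mem_center_iff.2 fun g => ?_)
    have hg : g ∈ Subgroup.centralizer ({v} : Set G) := by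
      rw [Subgroup.index_eq_one.1 h1]; exact Subgroup.mem_top g
    exact Subgroup.mem_centralizer_singleton_iff.1 hg
  have h1 := (Subgroup.centralizer ({x} : Set G)).card_mul_index
  rw [key x hx hxZ, ← (Subgroup.centralizer ({y} : Set G)).card_mul_index, key y hy hyZ] at h1
  refine Nat.eq_of_mul_eq_mul_right (Nat.pos_of_ne_zero ?_) h1
  rw [← key x hx hxZ]
  exact Subgroup.index_ne_zero_of_finite

end Cfsg.Agent.S4135
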