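import Cfsg.Statements.S0898
import Cfsg.Agent.Char.FeitThompsonIneq
-- import your own Cfsg.Agent.* helpers here

set_option autoImplicit false
open Cfsg

namespace Cfsg.Agent.S0898

/-- Let H be an abelian subgroup of the finite group G meeting the centre of G trivially, such that for every non-central g the centralizer of g has nontrivial intersection with at most one conjugate of H. Let χ be an irreducible character of G with χ h ≠ χ 1 for some h in H, and let c be the inner product of the restriction of χ to H with the principal character. Then χ(1)² > (order of H)·c²; and if in addition χ 1 ≠ 1 and no proper normal subgroup of G contains H, then (1 + χ 1)² > order of H (both sides read as real numbers). -/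
theorem result {G : Type*} [Group G] [Fintype G] (H : Subgroup G) [Fintype H] (hab : ∀ a ∈ H, ∀ b ∈ H, a * b = b * a) (hZ : H ⊓ Subgroup.center G = ⊥) (hone : ∀ g : G, g ∉ Subgroup.center G → ∀ a b : G, Subgroup.centralizer ({g} : Set G) ⊓ H.map (MulAut.conj a).toMonoidHom ≠ ⊥ → Subgroup.centralizer ({g} : Set G) ⊓ H.map (MulAut.conj b).toMonoidHom ≠ ⊥ → H.map (MulAut.conj a).toMonoidHom = H.map (MulAut.conj b).toMonoidHom) (χ : G → ℂ) (hχ : Cfsg.IsIrrCharacter G χ) (hker : ∃ h ∈ H, χ h ≠ χ 1) : (χ 1).re ^ 2 > (Nat.card H : ℝ) * (Cfsg.classInner (fun h : H => χ h) (fun _ => 1)).re ^ 2 ∧ (χ 1 ≠ 1 → (∀ M : Subgroup G, M.Normal → H ≤ M → M = ⊤) → (1 + (χ 1).re) ^ 2 > (Nat.card H : ℝ)) := by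
  classical
  obtain ⟨d, hd0, hd⟩ := Agent.Char.IsIrr.degree hχ
  have hχc := Agent.Char.IsIrr.isCharacter hχ
  obtain ⟨c, hc⟩ := Agent.Char.classInner_isCharacter_eq_natCast
    (Agent.Char.isCharacter_res H hχc) (Agent.Char.isCharacter_one (G := H))
  have hmain := Agent.Char.feit_thompson_ineq H hab hZ hone hχ hd hc hker
  rw [hd, Complex.natCast_re, hc, Complex.natCast_re]
  refine ⟨by exact_mod_cast hmain, fun hd1 hM => ?_⟩
  set F : G → ℂ := fun g => χ g * χ g⁻¹ with hF
  have hFc : Cfsg.IsCharacter G F := Agent.Char.isCharacter_mul hχc (Agent.Char.isCharacter_inv hχc)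
  have hexp := Agent.Char.classFun_expansion (Agent.Char.isClassFunction_of_isCharacter hFc)
  choose a ha using fun ψ : Cfsg.IrrCharacter G =>
    Agent.Char.classInner_isCharacter_eq_natCast hFc (Agent.Char.IsIrr.isCharacter ψ.2)
  choose e he0 he using fun ψ : Cfsg.IrrCharacter G => Agent.Char.IsIrr.degree ψ.2
  choose k hk using fun ψ : Cfsg.IrrCharacter G => Agent.Char.classInner_isCharacter_eq_natCast
    (Agent.Char.isCharacter_res H (Agent.Char.IsIrr.isCharacter ψ.2))
    (Agent.Char.isCharacter_one (G := H))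
  have h1 : d ^ 2 = ∑ ψ, a ψ * e ψ := by
    have h := congrFun hexp 1
    simp only [Finset.sum_apply, Pi.smul_apply, smul_eq_mul, ha, he] at h
    simp only [hF, inv_one, hd] at h
    rw [sq]
    exact_mod_cast h
  -- the norm of the restriction
  obtain ⟨S, hS, hdS⟩ : ∃ S : ℕ,
      Cfsg.classInner (fun h : H => χ h) (fun h : H => χ h) = S ∧ d ≤ S := by
    have hres := Agent.Char.isCharacter_res H hχc
    choose m hm using fun θ : Cfsg.IrrCharacter H =>
      Agent.Char.classInner_isCharacter_eq_natCast hres (Agent.Char.IsIrr.isCharacter θ.2)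
    refine ⟨∑ θ, m θ ^ 2, ?_, ?_⟩
    · rw [Agent.Char.classInner_eq_sum (Agent.Char.isClassFunction_of_isCharacter hres), Nat.cast_sum]
      refine Finset.sum_congr rfl fun θ _ => ?_
      rw [← Agent.Char.classInner_conj_symm (φ := fun h : H => χ h), hm, Complex.conj_natCast,
        sq, Nat.cast_mul]
    · have h := congrFun (Agent.Char.classFun_expansion
        (Agent.Char.isClassFunction_of_isCharacter hres)) 1
      simp only [Finset.sum_apply, Pi.smul_apply, smul_eq_mul, hm, OneMemClass.coe_one, hd] at h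
      rw [Finset.sum_congr rfl fun θ _ => by
        rw [Agent.Char.IsIrr.degree_one_of_comm θ.2 fun x y => Subtype.ext (hab _ x.2 _ y.2), mul_one]] at h
      have h' : d = ∑ θ, m θ := by exact_mod_cast h
      rw [h']
      exact Finset.sum_le_sum fun θ _ => Nat.le_self_pow two_ne_zero _
  have h2 : S = ∑ ψ, a ψ * k ψ := by
    have h : Cfsg.classInner (fun h : H => F h) (fun _ => 1) = (S : ℂ) := by
      rw [← hS]
      simp only [Cfsg.classInner, map_one, mul_one, hF]
      congr 1
      exact Finset.sum_congr rfl fun x _ => by rw [← Agent.Char.IsChar.inv_eq_conj hχc]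
    have hres : (fun h : H => F h) =
        ∑ ψ : Cfsg.IrrCharacter G, (a ψ : ℂ) • (fun h : H => (ψ : G → ℂ) h) := by
      funext x
      have := congrFun hexp x
      simp only [Finset.sum_apply, Pi.smul_apply, smul_eq_mul, ha] at this ⊢
      exact this
    rw [hres, Agent.Char.classInner_sum_left] at h
    simp only [Agent.Char.classInner_smul_left, hk] at h
    exact_mod_cast h.symm
  -- the trivial constituent
  set one : Cfsg.IrrCharacter G := ⟨fun _ => 1, Agent.Char.isIrrCharacter_one⟩ with hone'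
  have ha1 : a one = 1 := by
    have h : ((a one : ℕ) : ℂ) = 1 := by
      rw [← ha, ← Agent.Char.classInner_irr_self hχ]
      simp only [Cfsg.classInner, hF, hone', map_one, mul_one]
      congr 1
      exact Finset.sum_congr rfl fun x _ => by rw [Agent.Char.IsChar.inv_eq_conj hχc]
    exact_mod_cast h
  have he1 : e one = 1 := by
    have h : ((e one : ℕ) : ℂ) = 1 := (he one).symm
    exact_mod_cast h
  have hk1 : k one = 1 := by
    have h := hk one
    simp only [hone', Cfsg.classInner, map_one, mul_one, Finset.sum_const, Finset.card_univ,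
      ← Nat.card_eq_fintype_card, nsmul_eq_mul, inv_mul_cancel₀ Agent.Char.card_ne_zero] at h
    exact_mod_cast h.symm
  set b := Real.sqrt (Nat.card H) with hb
  have hb0 : 0 < b := Real.sqrt_pos.2 (by exact_mod_cast Nat.card_pos)
  have hstrict : ∀ ψ, ψ ≠ one → b * k ψ < e ψ := by
    intro ψ hψ
    have hker' : ∃ h ∈ H, (ψ : G → ℂ) h ≠ (ψ : G → ℂ) 1 := by
      by_contra! hall
      have hψc := Agent.Char.IsIrr.isCharacter ψ.2
      let M : Subgroup G :=
        { carrier := {g | ∀ x, (ψ : G → ℂ) (g * x) = (ψ : G → ℂ) x}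
          one_mem' := fun x => by rw [one_mul]
          mul_mem' := fun {s t} hs ht x => by rw [mul_assoc, hs, ht]
          inv_mem' := fun {s} hs x => by rw [← hs (s⁻¹ * x), mul_inv_cancel_left] }
      have hMn : M.Normal := ⟨fun s hs g x => by
        have hcl := Agent.Char.isClassFunction_of_isCharacter hψc
        calc (ψ : G → ℂ) (g * s * g⁻¹ * x) = (ψ : G → ℂ) (g * (s * (g⁻¹ * x * g)) * g⁻¹) := by group
          _ = (ψ : G → ℂ) (g⁻¹ * x * g) := by rw [hcl, hs]
          _ = (ψ : G → ℂ) x := by simpa using hcl x g⁻¹⟩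
      have htop := hM M hMn fun x hx => Agent.Char.IsChar.mul_left_of_mem_kernel hψc (hall x hx)
      have hconst : ∀ g, (ψ : G → ℂ) g = (ψ : G → ℂ) 1 := fun g => by
        simpa using (htop ▸ Subgroup.mem_top g : g ∈ M) 1
      have h0 : Cfsg.classInner (ψ : G → ℂ) (one : G → ℂ) = 0 := Agent.Char.classInner_irr_ne ψ.2
        Agent.Char.isIrrCharacter_one fun e => hψ (Subtype.ext e)
      simp only [Cfsg.classInner, hone', map_one, mul_one, hconst, Finset.sum_const, Finset.card_univ,
        ← Nat.card_eq_fintype_card, nsmul_eq_mul,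
        inv_mul_cancel_left₀ (Agent.Char.card_ne_zero (G := G))] at h0
      exact Agent.Char.IsIrr.one_ne_zero ψ.2 h0
    have h := Agent.Char.feit_thompson_ineq H hab hZ hone ψ.2 (he ψ) (hk ψ) hker'
    refine lt_of_pow_lt_pow_left₀ 2 (Nat.cast_nonneg _) ?_
    rw [mul_pow, hb, Real.sq_sqrt (Nat.cast_nonneg _)]
    exact_mod_cast h
  rw [← Finset.add_sum_erase _ _ (Finset.mem_univ one), ha1, he1, mul_one] at h1
  rw [← Finset.add_sum_erase _ _ (Finset.mem_univ one), ha1, hk1, mul_one] at h2
  have hd2 : 2 ≤ d := by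
    by_contra h
    exact hd1 (by rw [show d = 1 by omega, Nat.cast_one])
  obtain ⟨ψ₀, hψ₀, hψ₀'⟩ : ∃ ψ ∈ Finset.univ.erase one, a ψ ≠ 0 := by
    by_contra! h
    rw [Finset.sum_eq_zero fun ψ hψ => by rw [h ψ hψ, zero_mul]] at h1
    nlinarith
  have hlt : b * ∑ ψ ∈ Finset.univ.erase one, ((a ψ * k ψ : ℕ) : ℝ) <
      ∑ ψ ∈ Finset.univ.erase one, ((a ψ * e ψ : ℕ) : ℝ) := by
    rw [Finset.mul_sum]
    refine Finset.sum_lt_sum (fun ψ hψ => ?_) ⟨ψ₀, hψ₀, ?_⟩
    · push_cast
      rw [mul_left_comm]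
      exact mul_le_mul_of_nonneg_left (hstrict ψ (Finset.ne_of_mem_erase hψ)).le (Nat.cast_nonneg _)
    · push_cast
      rw [mul_left_comm]
      exact mul_lt_mul_of_pos_left (hstrict ψ₀ (Finset.ne_of_mem_erase hψ₀))
        (by exact_mod_cast Nat.pos_of_ne_zero hψ₀')
  have h1r : (d : ℝ) ^ 2 = 1 + ∑ ψ ∈ Finset.univ.erase one, ((a ψ * e ψ : ℕ) : ℝ) := by
    exact_mod_cast h1
  have h2r : (S : ℝ) = 1 + ∑ ψ ∈ Finset.univ.erase one, ((a ψ * k ψ : ℕ) : ℝ) := by
    exact_mod_cast h2
  have hdS' : (d : ℝ) ≤ S := by exact_mod_cast hdS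
  have hd2' : (2 : ℝ) ≤ d := by exact_mod_cast hd2
  have hbd : b < d + 1 := by
    by_contra hcon
    push Not at hcon
    nlinarith
  calc (Nat.card H : ℝ) = b ^ 2 := (Real.sq_sqrt (Nat.cast_nonneg _)).symm
    _ < (1 + (d : ℝ)) ^ 2 := by nlinarith

end Cfsg.Agent.S0898
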