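import Cfsg.Statements.S0560
import Cfsg.Agent.CentLarge.Basic
import Cfsg.Agent.Coprime.SchurZassenhaus
import Mathlib.GroupTheory.Sylow
-- import your own Cfsg.Agent.* helpers here

set_option autoImplicit false
open Pointwise
open Cfsg

namespace Cfsg.Agent.S0560

open scoped Pointwise in
theorem conj_le_conj {G : Type*} [Group G] {A B : Subgroup G} (h : A ≤ B) (g : G) :
    MulAut.conj g • A ≤ MulAut.conj g • B := Subgroup.map_mono h

/-- Let the finite group G be the product HK of two subgroups and p a prime. Then there are Sylow p-subgroups P of H and Q of K and a Sylow p-subgroup R of G whose underlying set is the product set of P and Q. -/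
theorem result {G : Type*} [Group G] [Finite G] (H K : Subgroup G) (hHK : ∀ g : G, ∃ h ∈ H, ∃ k ∈ K, g = h * k) (p : ℕ) [Fact p.Prime] : ∃ (P : Sylow p H) (Q : Sylow p K) (R : Sylow p G), ((R : Subgroup G) : Set G) = (((P : Subgroup H).map H.subtype : Subgroup G) : Set G) * (((Q : Subgroup K).map K.subtype : Subgroup G) : Set G) := by
  obtain ⟨P₀⟩ : Nonempty (Sylow p H) := inferInstance
  obtain ⟨Q₀⟩ : Nonempty (Sylow p K) := inferInstance
  obtain ⟨R₀, hR₀⟩ := (P₀.isPGroup'.map H.subtype).exists_le_sylow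
  obtain ⟨S₀, hS₀⟩ := (Q₀.isPGroup'.map K.subtype).exists_le_sylow
  obtain ⟨g, hg⟩ := MulAction.exists_smul_eq G R₀ S₀
  obtain ⟨h, hh, k, hk, hgk⟩ := hHK g⁻¹
  let P : Sylow p H := (⟨h, hh⟩ : H)⁻¹ • P₀
  let Q : Sylow p K := (⟨k, hk⟩ : K) • Q₀
  let R : Sylow p G := h⁻¹ • R₀
  have hP : (P : Subgroup H).map H.subtype ≤ (R : Subgroup G) := by
    rintro _ ⟨_, ⟨x, hx, rfl⟩, rfl⟩
    exact ⟨(x : G), hR₀ ⟨x, hx, rfl⟩, by simp [MulAut.conj_apply]⟩
  have hQ : (Q : Subgroup K).map K.subtype ≤ (R : Subgroup G) := by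
    rintro _ ⟨_, ⟨x, hx, rfl⟩, rfl⟩
    have hxS : (x : G) ∈ (S₀ : Subgroup G) := hS₀ ⟨x, hx, rfl⟩
    rw [← hg] at hxS
    obtain ⟨y, hy, hyx⟩ := hxS
    refine ⟨y, hy, ?_⟩
    have hg' : g = k⁻¹ * h⁻¹ := by rw [← mul_inv_rev, ← hgk, inv_inv]
    simp only [MulDistribMulAction.toMonoidEnd_apply, MulDistribMulAction.toMonoidHom_apply,
      MulAut.smul_def, MulAut.conj_apply, Subgroup.coe_subtype, Subgroup.coe_mul,
      InvMemClass.coe_inv] at hyx ⊢
    rw [← hyx, hg']
    group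
  refine ⟨P, Q, R, ?_⟩
  set A := (P : Subgroup H).map H.subtype with hA
  set B := (Q : Subgroup K).map K.subtype with hB
  have hsub : (A : Set G) * (B : Set G) ⊆ ((R : Subgroup G) : Set G) := by
    rintro _ ⟨a, ha, b, hb, rfl⟩
    exact (R : Subgroup G).mul_mem (hP ha) (hQ hb)
  refine (Set.eq_of_subset_of_ncard_le hsub ?_ (Set.toFinite _)).symm
  rw [← Nat.card_coe_set_eq, ← Nat.card_coe_set_eq]
  have e0 : ∀ g : G, g ∈ (H : Set G) * (K : Set G) := fun g => by
    obtain ⟨a, ha, b, hb, rfl⟩ := hHK g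
    exact Set.mul_mem_mul ha hb
  have h1 := CentLarge.card_mul_card_inf H K
  rw [Set.eq_univ_of_forall e0, Nat.card_congr (Equiv.Set.univ G)] at h1
  have h2 := congrArg (fun n : ℕ => p ^ n.factorization p) h1
  rw [Nat.factorization_mul Nat.card_pos.ne' Nat.card_pos.ne',
    Nat.factorization_mul Nat.card_pos.ne' Nat.card_pos.ne'] at h2
  simp only [Finsupp.add_apply, pow_add, ← Sylow.card_eq_multiplicity P,
    ← Sylow.card_eq_multiplicity Q, ← Sylow.card_eq_multiplicity R] at h2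
  rw [← Subgroup.card_map_of_injective H.subtype_injective, ← hA,
    ← Subgroup.card_map_of_injective (K := (Q : Subgroup K)) K.subtype_injective, ← hB] at h2
  have h3 := CentLarge.card_mul_card_inf A B
  have h4 : IsPGroup p (A ⊓ B : Subgroup G) := R.isPGroup'.to_le (inf_le_left.trans hP)
  obtain ⟨c, hc⟩ := IsPGroup.iff_card.mp h4
  have h5 : Nat.card (A ⊓ B : Subgroup G) ≤ p ^ (Nat.card (H ⊓ K : Subgroup G)).factorization p := by
    rw [hc]
    refine Nat.pow_le_pow_right (Fact.out : p.Prime).pos ?_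
    have hd : p ^ c ∣ Nat.card (H ⊓ K : Subgroup G) := hc ▸ Subgroup.card_dvd_of_le
      (inf_le_inf (Subgroup.map_subtype_le _) (Subgroup.map_subtype_le _))
    exact ((Fact.out : p.Prime).pow_dvd_iff_le_factorization
      (Nat.card_pos (α := (H ⊓ K : Subgroup G))).ne').mp hd
  refine Nat.le_of_mul_le_mul_right ?_
    (Nat.card_pos (α := (A ⊓ B : Subgroup G)))
  rw [show Nat.card ↑((A : Set G) * (B : Set G)) * Nat.card (A ⊓ B : Subgroup G) = _ from h3, ← h2]
  exact Nat.mul_le_mul_left _ h5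

end Cfsg.Agent.S0560
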