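import Cfsg.Statements.S3861
import Cfsg.Agent.Core.PCore
import Cfsg.Agent.Invol.BaerSuzuki
import Cfsg.Agent.Coprime.Basic

set_option autoImplicit false
open Cfsg

namespace Cfsg.Agent.S3861

open Subgroup
open scoped Pointwise

/-- A finite group G has no non-identity element of odd order that is conjugate to its inverse if and only if the Sylow 2-subgroups of G are normal. -/
theorem result {G : Type*} [Group G] [Finite G] (P : Sylow 2 G) : (∀ x : G, x ≠ 1 → Odd (orderOf x) → ¬ IsConj x x⁻¹) ↔ (P : Subgroup G).Normal := by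
  have := Fact.mk Nat.prime_two
  constructor
  · intro hno
    set N : Subgroup G := Cfsg.pCore 2 G with hN
    set π := QuotientGroup.mk' N
    suffices hPN : (P : Subgroup G) ≤ N by
      rw [le_antisymm hPN (Core.pCore_le_sylow P)]
      infer_instance
    by_contra hPN
    have hne : Nontrivial ((P : Subgroup G).map π) := by
      rw [nontrivial_iff_ne_bot, ne_eq, Subgroup.map_eq_bot_iff, QuotientGroup.ker_mk']
      exact hPN
    obtain ⟨k, hk, hcard⟩ : ∃ k, 0 < k ∧ Nat.card ((P : Subgroup G).map π) = 2 ^ k :=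
      (P.2.map π).nontrivial_iff_card.mp hne
    obtain ⟨t, ht⟩ := exists_prime_orderOf_dvd_card' 2 (G := (P : Subgroup G).map π)
      (hcard ▸ dvd_pow_self 2 hk.ne')
    have ht' : orderOf (t : G ⧸ N) = 2 := (orderOf_coe t).trans ht
    obtain ⟨g, h, hh1, hhodd, hinv, -⟩ := Invol.exists_inverted_odd ht' fun M hMn hM hmem => by
      have h1 : M ≤ Cfsg.pCore 2 (G ⧸ N) := Core.le_pCore hM
      replace h1 := h1.trans (Core.pCore_quotient_eq_bot (p := 2) (G := G)).le
      have h2 : (t : G ⧸ N) = 1 := h1 hmem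
      rw [h2, orderOf_one] at ht'
      omega
    obtain ⟨x, hx⟩ := QuotientGroup.mk'_surjective N h
    obtain ⟨s, hs⟩ := QuotientGroup.mk'_surjective N (t : G ⧸ N)
    set e := (orderOf x).factorization 2
    set x0 := x ^ 2 ^ e with hx0
    have hx0odd : Odd (orderOf x0) := by
      rw [hx0, orderOf_pow_of_dvd (by positivity) (Nat.ordProj_dvd _ 2)]
      rw [Nat.odd_iff, ← Nat.two_dvd_ne_zero]
      exact Nat.not_dvd_ordCompl Nat.prime_two (orderOf_pos x).ne'
    have hy : π x0 = h ^ 2 ^ e := by rw [hx0, map_pow, hx]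
    have hy1 : π x0 ≠ 1 := by
      rw [hy]
      intro h0
      refine hh1 (orderOf_eq_one_iff.mp ?_)
      exact Nat.eq_one_of_dvd_coprimes ((Nat.coprime_two_right.mpr hhodd).pow_right e)
        dvd_rfl (orderOf_dvd_of_pow_eq_one h0)
    have hyinv : (t : G ⧸ N) * π x0 * (t : G ⧸ N)⁻¹ = (π x0)⁻¹ := by
      rw [hy, ← inv_pow, ← hinv, conj_pow]
    obtain ⟨a, ha⟩ := IsPGroup.exists_card_eq (p := 2) (G := N) Core.pCore_isPGroup
    have hcop : (Nat.card (zpowers x0)).Coprime (Nat.card N) := by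
      rw [Nat.card_zpowers, ha]
      exact (Nat.coprime_two_right.mpr hx0odd).pow_right a
    have hB : zpowers (s * x0 * s⁻¹) ≤ N ⊔ zpowers x0 := by
      rw [zpowers_le]
      have hmem : s * x0 * s⁻¹ * x0 ∈ N := by
        rw [← QuotientGroup.eq_one_iff]
        change π (s * x0 * s⁻¹ * x0) = 1
        rw [map_mul, map_mul, map_mul, map_inv, hs, hyinv, inv_mul_cancel]
      have := mul_mem_sup hmem (inv_mem (mem_zpowers x0))
      rwa [mul_inv_cancel_right] at this
    obtain ⟨k', hk', hkB⟩ := Coprime.exists_conj_eq (le_normalizer_of_normal) hcop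
      (Or.inl (Group.isSolvable_of_comm fun a b => Std.Commutative.comm a b)) hB (by
        rw [Nat.card_zpowers, Nat.card_zpowers, ← MulAut.conj_apply, MulEquiv.orderOf_eq])
    have hz : k' * (s * x0 * s⁻¹) * k'⁻¹ ∈ zpowers x0 := by
      rw [← hkB, Coprime.mem_conj_smul]
      simp [mul_assoc]
    have hz1 : k' * (s * x0 * s⁻¹) * k'⁻¹ * x0 = 1 := by
      rw [← mem_bot, ← Coprime.inf_eq_bot_of_coprime hcop]
      refine ⟨mul_mem hz (mem_zpowers x0), ?_⟩
      refine (QuotientGroup.eq_one_iff (N := N) _).mp ?_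
      change π (k' * (s * x0 * s⁻¹) * k'⁻¹ * x0) = 1
      rw [map_mul, map_mul, map_mul, map_mul, map_mul, map_inv, map_inv, hs,
        show π k' = 1 from (QuotientGroup.eq_one_iff k').mpr hk', one_mul, hyinv, inv_one, mul_one,
        inv_mul_cancel]
    refine hno x0 (fun h0 => hy1 (by rw [h0, map_one])) hx0odd (isConj_iff.mpr ⟨k' * s, ?_⟩)
    rw [← mul_eq_one_iff_eq_inv]
    simpa [mul_assoc] using hz1
  · intro hP x hx hodd hconj
    obtain ⟨g, hg⟩ := isConj_iff.mp hconj
    have hQodd : Odd (Nat.card (G ⧸ (P : Subgroup G))) := by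
      rw [Nat.odd_iff, ← Nat.two_dvd_ne_zero, ← index_eq_card]
      exact P.not_dvd_index
    set π := QuotientGroup.mk' (P : Subgroup G)
    have hy : π x ≠ 1 := fun h => by
      have hxP : x ∈ (P : Subgroup G) := (QuotientGroup.eq_one_iff x).mp h
      obtain ⟨k, hk⟩ := P.2 ⟨x, hxP⟩
      have hk' : x ^ 2 ^ k = 1 := congrArg Subtype.val hk
      exact hx (orderOf_eq_one_iff.mp (Nat.eq_one_of_dvd_coprimes
        ((Nat.coprime_two_right.mpr hodd).pow_right k) dvd_rfl (orderOf_dvd_of_pow_eq_one hk')))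
    have hgy : π g * π x * (π g)⁻¹ = (π x)⁻¹ := by rw [← map_mul, ← map_inv, ← map_mul, hg, map_inv]
    set u := π g
    set y := π x
    have h2 : Commute (u ^ 2) y := by
      have h' : u * (u * y * u⁻¹) * u⁻¹ = y := by
        rw [hgy]
        have := congrArg (·⁻¹) hgy
        simpa [mul_assoc] using this
      calc u ^ 2 * y = u * (u * y * u⁻¹) * u⁻¹ * (u * u) := by rw [pow_two]; simp [mul_assoc]
        _ = y * u ^ 2 := by rw [h', pow_two]
    obtain ⟨m, hm⟩ := exists_pow_eq_self_of_coprime (x := u) (n := 2)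
      ((Nat.coprime_two_left.mpr (hQodd.of_dvd_nat (orderOf_dvd_natCard u))))
    have hcomm : Commute u y := hm ▸ h2.pow_left m
    rw [hcomm.eq, mul_inv_cancel_right, eq_inv_iff_mul_eq_one, ← pow_two] at hgy
    exact hy (orderOf_eq_one_iff.mp (Nat.eq_one_of_dvd_coprimes
      (Nat.coprime_two_left.mpr (hQodd.of_dvd_nat (orderOf_dvd_natCard y)))
      (orderOf_dvd_of_pow_eq_one hgy) dvd_rfl))

end Cfsg.Agent.S3861
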