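import Cfsg.Statements.S0251
import Cfsg.Agent.Classical.SL2Gen
-- import your own Cfsg.Agent.* helpers here

set_option autoImplicit false
open Cfsg

namespace Cfsg.Agent.S0251

/-- PSL_2(3) is isomorphic to A_4. -/
theorem result {F : Type*} [Field F] [Fintype F] (hF : Fintype.card F = 3) : Nonempty (Matrix.ProjectiveSpecialLinearGroup (Fin 2) F ≃* alternatingGroup (Fin 4)) := by
  have h4 : Nat.card (Projectivization F (Fin 2 → F)) = 4 := by
    rw [Projectivization.card_of_finrank_two F (Fin 2 → F) (by simp), Nat.card_eq_fintype_card, hF]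
  have : Finite (Projectivization F (Fin 2 → F)) := Nat.finite_of_card_ne_zero (by omega)
  obtain ⟨e⟩ : Nonempty (Projectivization F (Fin 2 → F) ≃ Fin 4) := ⟨(Finite.equivFinOfCardEq h4)⟩
  let f : Matrix.ProjectiveSpecialLinearGroup (Fin 2) F →* Equiv.Perm (Fin 4) :=
    e.permCongrHom.toMonoidHom.comp Projectivization.PSLAction.toPermHom
  have hf : Function.Injective f :=
    e.permCongrHom.injective.comp Matrix.ProjectiveSpecialLinearGroup.toPermHom_injective
  refine ⟨(MonoidHom.ofInjective hf).trans (MulEquiv.subgroupCongr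
    (Equiv.Perm.eq_alternatingGroup_of_index_eq_two ?_))⟩
  have h1 := f.range.index_mul_card
  have h2 := Cfsg.Agent.Classical.card_psl_mul (ι := Fin 2) (F := F)
  rw [Cfsg.Agent.Classical.card_sl2, hF, Fintype.card_fin] at h2
  norm_num at h2
  rw [← Nat.card_congr (MonoidHom.ofInjective hf).toEquiv, Nat.card_perm, Nat.card_fin,
    show Nat.card (Matrix.ProjectiveSpecialLinearGroup (Fin 2) F) = 12 by omega] at h1
  norm_num [Nat.factorial] at h1
  omega

end Cfsg.Agent.S0251
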