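import Cfsg.Statements.S5887
import Cfsg.Agent.Classical.UnitaryTrans

set_option autoImplicit false
open Cfsg

namespace Cfsg.Agent.S5887

open Module

section

variable {F V : Type*} [Field F] [Finite F] [AddCommGroup V] [Module F V] [FiniteDimensional F V]

/-- an element of determinant one centralising a smaller field but not normalising a larger one -/
theorem exists_sep (L K : Subalgebra F (Module.End F V)) (hLc : ∀ x ∈ L, ∀ y ∈ L, x * y = y * x)
    (hLi : ∀ x ∈ L, x ≠ 0 → ∃ y ∈ L, x * y = 1) (hKi : ∀ x ∈ K, x ≠ 0 → ∃ y ∈ K, y * x = 1)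
    (hLK : L ≤ K) (hne : ¬ K ≤ L) (hdim : finrank F K < finrank F V) :
    ∃ T T' : Module.End F V, T * T' = 1 ∧ T' * T = 1 ∧ LinearMap.det T = 1 ∧ (∀ l ∈ L, T * l * T' = l) ∧
      ∃ k ∈ K, T * k * T' ∉ K := by
  haveI : Nontrivial V := nontrivial_of_finrank_pos (R := F) (by omega)
  have hone : (1 : Module.End F V) ≠ 0 := fun h => by
    obtain ⟨v, hv⟩ := exists_ne (0 : V)
    exact hv (LinearMap.congr_fun h v)
  have hfield : IsField L :=
    { exists_pair_ne := ⟨0, 1, fun h => hone (congrArg Subtype.val h).symm⟩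
      mul_comm := fun x y => Subtype.ext (hLc _ x.2 _ y.2)
      mul_inv_cancel := fun {a} ha => by
        obtain ⟨y, hy, h⟩ := hLi _ a.2 (fun e => ha (Subtype.ext e))
        exact ⟨⟨y, hy⟩, Subtype.ext h⟩ }
  letI : Field L := hfield.toField
  obtain ⟨u₀, hu₀⟩ := exists_ne (0 : V)
  let S : Submodule L V :=
    { carrier := {x | ∃ k ∈ K, k u₀ = x}
      add_mem' := fun {a b} ⟨k, hk, e⟩ ⟨k', hk', e'⟩ => ⟨k + k', K.add_mem hk hk', by rw [LinearMap.add_apply, e, e']⟩
      zero_mem' := ⟨0, K.zero_mem, rfl⟩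
      smul_mem' := fun l x ⟨k, hk, e⟩ => ⟨(l : Module.End F V) * k, K.mul_mem (hLK l.2) hk, by rw [Module.End.mul_apply, e]; rfl⟩ }
  have hS : S < ⊤ := lt_top_iff_ne_top.2 fun h => by
    let f : K →ₗ[F] V := (LinearMap.applyₗ u₀).comp K.val.toLinearMap
    have hf : LinearMap.range f = ⊤ := eq_top_iff.2 fun x _ => by
      obtain ⟨k, hk, e⟩ := (h ▸ Submodule.mem_top : x ∈ S)
      exact ⟨⟨k, hk⟩, e⟩
    have := LinearMap.finrank_range_le f
    rw [hf, finrank_top] at this
    omega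
  obtain ⟨φ, hφ, hle⟩ := S.exists_le_ker_of_lt_top hS
  have hmem : ∀ k ∈ K, φ (k u₀) = 0 := fun k hk => LinearMap.mem_ker.1 (hle ⟨k, hk, rfl⟩)
  have hu₀φ : φ u₀ = 0 := hmem 1 K.one_mem
  let N : Module.End F V :=
    { toFun := fun x => (φ x : Module.End F V) u₀
      map_add' := fun x y => by rw [map_add, Subalgebra.coe_add, LinearMap.add_apply]
      map_smul' := fun c x => by
        rw [show c • x = (algebraMap F L c) • x from rfl, map_smul, RingHom.id_apply]
        rfl }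
  have hN : ∀ x, N x = (φ x : Module.End F V) u₀ := fun _ => rfl
  have hNN : N * N = 0 := LinearMap.ext fun x => by
    show N (N x) = 0
    rw [hN, hN, hmem _ (hLK (φ x).2)]
    rfl
  have hT : (1 + N) * (1 - N) = 1 := by noncomm_ring [hNN]
  have hT' : (1 - N) * (1 + N) = 1 := by noncomm_ring [hNN]
  have hTl : ∀ l ∈ L, (1 + N) * l = l * (1 + N) := fun l hl => by
    rw [add_mul, mul_add, one_mul, mul_one]
    congr 1
    refine LinearMap.ext fun x => ?_
    show N ((⟨l, hl⟩ : L) • x) = l (N x)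
    rw [hN, map_smul, hN, smul_eq_mul, Subalgebra.coe_mul, Module.End.mul_apply]
  refine ⟨1 + N, 1 - N, hT, hT', ?_, fun l hl => by rw [hTl l hl, mul_assoc, hT, mul_one], ?_⟩
  · let g : V ≃ₗ[F] V := LinearEquiv.ofLinear (1 + N) (1 - N) hT hT'
    have := Cfsg.Agent.Classical.Herm.det_eq_one_of_cube g (by
      show ((1 + N) - 1) ^ 3 = 0
      rw [add_sub_cancel_left, pow_succ, pow_two, hNN, zero_mul])
    have h2 := congrArg Units.val this
    rw [LinearEquiv.coe_det, Units.val_one] at h2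
    exact h2
  · obtain ⟨k, hk, hkL⟩ := SetLike.not_le_iff_exists.1 hne
    refine ⟨k, hk, fun hk' => ?_⟩
    set k' := (1 + N) * k * (1 - N)
    have hTk : (1 + N) * k = k' * (1 + N) := by rw [mul_assoc _ (1 - N), hT', mul_one]
    have h0 := LinearMap.congr_fun hTk u₀
    simp only [Module.End.mul_apply, LinearMap.add_apply, Module.End.one_apply, hN, hmem k hk, hu₀φ, ZeroMemClass.coe_zero,
      LinearMap.zero_apply, add_zero] at h0
    have hkk : k = k' := by
      by_contra hne'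
      obtain ⟨y, -, hy⟩ := hKi _ (K.sub_mem hk hk') (sub_ne_zero.2 hne')
      apply hu₀
      rw [← Module.End.one_apply u₀ (R := F), ← hy, Module.End.mul_apply, LinearMap.sub_apply, h0, sub_self, map_zero]
    obtain ⟨x, hx⟩ : ∃ x, φ x = 1 := by
      obtain ⟨x, hx⟩ : ∃ x, φ x ≠ 0 := by by_contra! hc; exact hφ (LinearMap.ext hc)
      exact ⟨(φ x)⁻¹ • x, by rw [map_smul, smul_eq_mul, inv_mul_cancel₀ hx]⟩
    have h1 := LinearMap.congr_fun hTk x
    rw [← hkk] at h1
    simp only [Module.End.mul_apply, LinearMap.add_apply, Module.End.one_apply, map_add, hN, hx, OneMemClass.coe_one,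
      add_right_inj] at h1
    apply hkL
    by_cases hne' : (φ (k x) : Module.End F V) - k = 0
    · rw [← sub_eq_zero.1 hne']; exact (φ (k x)).2
    obtain ⟨y, -, hy⟩ := hKi _ (K.sub_mem (hLK (φ (k x)).2) hk) hne'
    exact absurd (by rw [← Module.End.one_apply u₀ (R := F), ← hy, Module.End.mul_apply, LinearMap.sub_apply, h1, sub_self, map_zero]) hu₀

end

section

open scoped Matrix

variable {F : Type*} [Field F] [Fintype F] {n : ℕ}

theorem exists_sep_gl (L K : Subalgebra F (Matrix (Fin n) (Fin n) F)) (hLc : ∀ x ∈ L, ∀ y ∈ L, x * y = y * x)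
    (hLi : ∀ x ∈ L, x ≠ 0 → ∃ y ∈ L, x * y = 1) (hKi : ∀ x ∈ K, x ≠ 0 → ∃ y ∈ K, y * x = 1)
    (hLK : L ≤ K) (hne : ¬ K ≤ L) (hdim : finrank F K < n) :
    ∃ g : GL (Fin n) F, g ∈ Cfsg.Geo.specialLinear (Fin n) F ∧ g ∈ Cfsg.Geo.subalgebraNormalizer L ∧
      g ∉ Cfsg.Geo.subalgebraNormalizer K := by
  let e : Matrix (Fin n) (Fin n) F ≃ₐ[F] Module.End F (Fin n → F) := Matrix.toLinAlgEquiv'
  have hiff : ∀ (S : Subalgebra F (Matrix (Fin n) (Fin n) F)) (x : Matrix (Fin n) (Fin n) F), e x ∈ S.map e.toAlgHom ↔ x ∈ S := fun S x =>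
    ⟨fun ⟨y, hy, h⟩ => e.injective h ▸ hy, fun h => ⟨x, h, rfl⟩⟩
  obtain ⟨T, T', h1, h2, hd, hl, k, hk, hkn⟩ := exists_sep (L.map e.toAlgHom) (K.map e.toAlgHom)
    (by rintro _ ⟨a, ha, rfl⟩ _ ⟨b, hb, rfl⟩; rw [← map_mul, hLc a ha b hb, map_mul])
    (by rintro _ ⟨a, ha, rfl⟩ h0; obtain ⟨y, hy, h⟩ := hLi a ha (fun e' => h0 (by rw [e', map_zero]))
        exact ⟨_, ⟨y, hy, rfl⟩, by rw [← map_mul, h, map_one]⟩)
    (by rintro _ ⟨a, ha, rfl⟩ h0; obtain ⟨y, hy, h⟩ := hKi a ha (fun e' => h0 (by rw [e', map_zero]))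
        exact ⟨_, ⟨y, hy, rfl⟩, by rw [← map_mul, h, map_one]⟩)
    (by rintro _ ⟨a, ha, rfl⟩; exact ⟨a, hLK ha, rfl⟩)
    (fun h => hne fun a ha => (hiff L a).1 (h ((hiff K a).2 ha)))
    (by rw [← (e.subalgebraMap K).toLinearEquiv.finrank_eq]; simpa using hdim)
  let g : GL (Fin n) F := ⟨e.symm T, e.symm T', by rw [← map_mul, h1, map_one], by rw [← map_mul, h2, map_one]⟩
  refine ⟨g, ?_, ?_, ?_⟩
  · show Matrix.GeneralLinearGroup.det g = 1
    refine Units.ext ?_
    rw [Matrix.GeneralLinearGroup.val_det_apply, Units.val_one, ← LinearMap.det_toLin']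
    show LinearMap.det (e (e.symm T)) = 1
    rw [e.apply_symm_apply, hd]
  · intro x
    have hgen : ∀ y, e.symm T * y * e.symm T' = e.symm (T * e y * T') := fun y => by
      rw [map_mul, map_mul, e.symm_apply_apply]
    show x ∈ L ↔ e.symm T * x * e.symm T' ∈ L
    rw [hgen, ← hiff L, ← hiff L (e.symm _), e.apply_symm_apply]
    refine ⟨fun hx => by rwa [hl _ hx], fun hx => ?_⟩
    have := hl _ hx
    have h' : T * (T * e x * T') * T' = T * e x * T' := this
    have h'' : T * e x * T' = e x := by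
      have := congrArg (fun z => T' * z * T) h'
      simp only [← mul_assoc, h2, one_mul] at this
      simp only [mul_assoc, h2, mul_one] at this
      simpa [mul_assoc] using this
    rwa [h''] at hx
  · intro hg
    obtain ⟨a, ha, rfl⟩ := hk
    refine hkn ⟨_, (hg a).1 ha, ?_⟩
    show e (e.symm T * a * e.symm T') = _
    rw [map_mul, map_mul, e.apply_symm_apply, e.apply_symm_apply]
    rfl

end

/-- Let F be a finite field, n a positive integer and r a composite number (r > 1, not prime) that divides n with r < n. Let K be a subalgebra of the algebra of n × n matrices over F which is a field of degree r over F (commutative, every non-zero element invertible, of dimension r over F). Then the normaliser N of K in GL_n(F) (a group of type ΓL_{n/r}(F_{q^r})) is not a maximal subgroup of GL_n(F), and N ∩ SL_n(F) is not a maximal subgroup of SL_n(F): both lie properly inside the normaliser of an intermediate subfield of prime degree over F. -/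
theorem result {F : Type*} [Field F]
    [Fintype F] (n r : ℕ) (hr1 : 1 < r) (hrp : ¬ r.Prime) (hrn : r ∣ n) (hlt : r < n)
    (K : Subalgebra F (Matrix (Fin n) (Fin n) F)) (hK : Cfsg.Geo.IsFieldSubalgebra r K) :
    ¬ IsCoatom (Cfsg.Geo.subalgebraNormalizer K) ∧
      ¬ Cfsg.Geo.IsMaximalIn (Cfsg.Geo.specialLinear (Fin n) F)
        (Cfsg.Geo.subalgebraNormalizer K ⊓ Cfsg.Geo.specialLinear (Fin n) F) := by
  classical
  have hn0 : 0 < n := by omega
  haveI : Nonempty (Fin n) := ⟨⟨0, hn0⟩⟩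
  have hKfield : IsField K :=
    { exists_pair_ne := ⟨0, 1, fun h => one_ne_zero (α := Matrix (Fin n) (Fin n) F) (congrArg Subtype.val h).symm⟩
      mul_comm := fun x y => Subtype.ext (hK.comm _ x.2 _ y.2)
      mul_inv_cancel := fun {a} ha => by
        obtain ⟨y, hy, h⟩ := hK.inv _ a.2 (fun e => ha (Subtype.ext e))
        exact ⟨⟨y, hy⟩, Subtype.ext h⟩ }
  letI : Field K := hKfield.toField
  haveI : Finite K := Module.finite_of_finite F
  haveI : Algebra.IsAlgebraic F K := Algebra.IsAlgebraic.of_finite F K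
  set s := r.minFac
  have hs : s.Prime := Nat.minFac_prime (by omega)
  have hsr : s ∣ r := r.minFac_dvd
  have hslt : s < r := lt_of_le_of_ne (Nat.le_of_dvd (by omega) hsr) fun h => hrp (h ▸ hs)
  let φ := FiniteField.frobeniusAlgEquivOfAlgebraic F K
  have hφo : orderOf φ = r := by rw [FiniteField.orderOf_frobeniusAlgEquivOfAlgebraic, hK.finrank_eq]
  let E' := IntermediateField.fixedField (Subgroup.zpowers (φ ^ s))
  let K₁ : Subalgebra F (Matrix (Fin n) (Fin n) F) := E'.toSubalgebra.map K.val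
  have hpow : ∀ x : K, (φ ^ s) x = x ^ (Fintype.card F ^ s) := fun x => by
    rw [AlgEquiv.coe_pow, FiniteField.coe_frobeniusAlgEquivOfAlgebraic_iterate]
  have hmem : ∀ x, x ∈ K₁ ↔ x ∈ K ∧ x ^ (Fintype.card F ^ s) = x := fun x => by
    constructor
    · rintro ⟨y, hy, rfl⟩
      have := (IntermediateField.mem_fixedField_iff _ y).1 hy _ (Subgroup.mem_zpowers _)
      rw [hpow] at this
      exact ⟨y.2, by simpa using congrArg Subtype.val this⟩
    · rintro ⟨hx, hxp⟩
      refine ⟨⟨x, hx⟩, (IntermediateField.mem_fixedField_iff _ _).2 fun f hf => ?_, rfl⟩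
      have : φ ^ s ∈ MulAction.stabilizer Gal(K/F) (⟨x, hx⟩ : K) := by
        rw [MulAction.mem_stabilizer_iff, AlgEquiv.smul_def, hpow]
        exact Subtype.ext (by simpa using hxp)
      exact Subgroup.zpowers_le.2 this hf
  have hfin : Module.finrank F K₁ = s := by
    have h1 : Module.finrank F K₁ = Module.finrank F E' :=
      (E'.toSubalgebra.equivMapOfInjective K.val Subtype.val_injective).toLinearEquiv.finrank_eq.symm
    have h2 := Module.finrank_mul_finrank F E' K
    rw [IntermediateField.finrank_fixedField_eq_card, Nat.card_zpowers, orderOf_pow' φ hs.pos.ne', hφo, Nat.gcd_eq_right hsr,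
      hK.finrank_eq] at h2
    rw [h1]
    exact Nat.eq_of_mul_eq_mul_right (Nat.div_pos hslt.le hs.pos) (h2.trans (Nat.mul_div_cancel' hsr).symm)
  have hK₁K : K₁ ≤ K := fun x hx => ((hmem x).1 hx).1
  have hK₁i : ∀ x ∈ K₁, x ≠ 0 → ∃ y ∈ K₁, x * y = 1 := by
    rintro _ ⟨y, hy, rfl⟩ h0
    have hy0 : y ≠ 0 := fun e => h0 (by rw [e]; rfl)
    exact ⟨_, ⟨y⁻¹, E'.inv_mem hy, rfl⟩, congrArg Subtype.val (mul_inv_cancel₀ hy0)⟩
  have hle : Cfsg.Geo.subalgebraNormalizer K ≤ Cfsg.Geo.subalgebraNormalizer K₁ := fun g hg x => by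
    rw [hmem, hmem, ← hg x, Units.conj_pow]
    refine and_congr_right fun _ => ⟨fun h => by rw [h], fun h => ?_⟩
    exact (Units.mul_right_inj g).1 ((Units.mul_left_inj g⁻¹).1 h)
  have hbotc : ∀ x ∈ (⊥ : Subalgebra F (Matrix (Fin n) (Fin n) F)), ∀ y ∈ (⊥ : Subalgebra F _), x * y = y * x := by
    intro x hx y _
    obtain ⟨a, rfl⟩ := Algebra.mem_bot.1 hx
    exact Algebra.commutes a y
  have hboti : ∀ x ∈ (⊥ : Subalgebra F (Matrix (Fin n) (Fin n) F)), x ≠ 0 → ∃ y ∈ (⊥ : Subalgebra F _), x * y = 1 := by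
    intro x hx h0
    obtain ⟨a, rfl⟩ := Algebra.mem_bot.1 hx
    exact ⟨algebraMap F _ a⁻¹, Algebra.mem_bot.2 ⟨_, rfl⟩, by
      rw [← map_mul, mul_inv_cancel₀ (fun e => h0 (by rw [e, map_zero])), map_one]⟩
  obtain ⟨g, hgS, hg1, hgK⟩ := exists_sep_gl K₁ K (fun x hx y hy => hK.comm _ (hK₁K hx) _ (hK₁K hy)) hK₁i
    (fun x hx h0 => by obtain ⟨y, hy, h⟩ := hK.inv x hx h0; exact ⟨y, hy, by rw [hK.comm y hy x hx, h]⟩) hK₁K
    (fun h => by
      have := Submodule.finrank_mono (show Subalgebra.toSubmodule K ≤ Subalgebra.toSubmodule K₁ from h)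
      rw [Subalgebra.finrank_toSubmodule, Subalgebra.finrank_toSubmodule, hfin, hK.finrank_eq] at this
      omega)
    (by rw [hK.finrank_eq]; exact hlt)
  obtain ⟨u, huS, -, huK₁⟩ := exists_sep_gl ⊥ K₁ hbotc hboti
    (fun x hx h0 => by
      obtain ⟨y, hy, h⟩ := hK₁i x hx h0; exact ⟨y, hy, by rw [hK.comm y (hK₁K hy) x (hK₁K hx), h]⟩) bot_le
    (fun h => by
      have := Submodule.finrank_mono (show Subalgebra.toSubmodule K₁ ≤ Subalgebra.toSubmodule ⊥ from h)
      rw [Subalgebra.finrank_toSubmodule, Subalgebra.finrank_toSubmodule, hfin, Subalgebra.finrank_bot] at this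
      have := hs.two_le
      omega)
    (by rw [hfin]; omega)
  refine ⟨fun hco => ?_, fun ⟨_, hmax⟩ => ?_⟩
  · rcases hle.eq_or_lt with h | h
    · exact hgK (h.ge hg1)
    · exact huK₁ ((hco.2 _ h).ge (Subgroup.mem_top u))
  · rcases hmax (Cfsg.Geo.subalgebraNormalizer K₁ ⊓ Cfsg.Geo.specialLinear (Fin n) F) (inf_le_inf_right _ hle) inf_le_right with h | h
    · exact hgK (h.le ⟨hg1, hgS⟩).1
    · exact huK₁ (h.ge huS).1

end Cfsg.Agent.S5887
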