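import Cfsg.Statements.S0039
import Cfsg.Agent.Core.FrobeniusGroup
-- import your own Cfsg.Agent.* helpers here

set_option autoImplicit false
open Cfsg

namespace Cfsg.Agent.S0039

/-- In a finite group that is a semidirect product of a normal subgroup K by a nontrivial subgroup H, H is a Frobenius complement exactly when each nonidentity element of H acts without nonidentity fixed points on K by conjugation. -/
theorem result {G : Type*} [Group G] [Finite G] (K H : Subgroup G) [K.Normal]
    (hc : Subgroup.IsComplement' K H) (hK : K ≠ ⊥) (hH : H ≠ ⊥) :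
    Cfsg.IsFrobeniusComplement H ↔ ∀ h ∈ H, h ≠ 1 → K ⊓ Subgroup.centralizer {h} = ⊥ := by
  constructor
  · intro hfc h hh h1
    refine eq_bot_iff.mpr fun k hk => ?_
    by_contra hk1
    have hkH : k ∉ H := fun hkH => hk1 (by
      have : k ∈ K ⊓ H := ⟨hk.1, hkH⟩
      rwa [disjoint_iff.mp hc.disjoint] at this)
    refine h1 (Core.malnormal_of_isFrobeniusComplement hfc k hkH h hh ?_)
    rw [(Subgroup.mem_centralizer_iff.mp hk.2 h rfl).symm, mul_inv_cancel_right]
    exact hh
  · intro hfix
    refine Core.isFrobeniusComplement_of_malnormal hH (fun e => hK ?_) fun g hg h hh hc' => ?_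
    · exact Subgroup.isComplement'_top_right.mp (e ▸ hc)
    by_contra h1
    have hg' : g ∈ H ⊔ K := sup_comm K H ▸ hc.sup_eq_top ▸ Subgroup.mem_top g
    obtain ⟨a, ha, k, hk, rfl⟩ := Subgroup.mem_sup_of_normal_right.mp hg'
    have h3 : k * h * k⁻¹ ∈ H := by
      have := H.mul_mem (H.mul_mem (H.inv_mem ha) hc') ha
      simpa [mul_assoc] using this
    have h4 : k * (h * k⁻¹ * h⁻¹) ∈ K ⊓ H :=
      ⟨K.mul_mem hk (‹K.Normal›.conj_mem _ (K.inv_mem hk) h),
        by simpa [mul_assoc] using H.mul_mem h3 (H.inv_mem hh)⟩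
    rw [disjoint_iff.mp hc.disjoint, Subgroup.mem_bot] at h4
    have h5 : k ∈ K ⊓ Subgroup.centralizer {h} := ⟨hk, Subgroup.mem_centralizer_iff.mpr fun y hy => by
      rw [Set.mem_singleton_iff.mp hy]
      have := congrArg (fun t => t * (h * k)) h4
      simpa [mul_assoc] using this.symm⟩
    rw [hfix h hh h1, Subgroup.mem_bot] at h5
    exact hg (by rw [h5, mul_one]; exact ha)

end Cfsg.Agent.S0039
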