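import Cfsg.Statements.S5637
import Cfsg.Agent.ClassicalMax.Tensor.Main

set_option autoImplicit false
open Cfsg

namespace Cfsg.Agent.S5637

open Module Matrix Cfsg.Agent.ClassicalMax Cfsg.Agent.ClassicalMax.Tensor
open scoped Kronecker

variable {F : Type*} [Field F] {n n₁ n₂ : ℕ}

/-- coordinates of a matrix in the tensor decomposition -/
noncomputable def coords (e : Fin n ≃ Fin n₁ × Fin n₂) (P : GL (Fin n) F) :
    Matrix (Fin n₁) (Fin n₂) F ≃ₗ[F] (Fin n → F) :=
  ({ toFun := fun X k => X (e k).1 (e k).2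
     map_add' := fun _ _ => rfl
     map_smul' := fun _ _ => rfl
     invFun := fun x => Matrix.of fun i j => x (e.symm (i, j))
     left_inv := fun X => by
       refine Matrix.ext fun i j => ?_
       show X (e (e.symm (i, j))).1 (e (e.symm (i, j))).2 = X i j
       rw [Equiv.apply_symm_apply]
     right_inv := fun x => funext fun k => by
       show x (e.symm ((e k).1, (e k).2)) = x k
       rw [Prod.mk.eta, Equiv.symm_apply_apply] } : Matrix (Fin n₁) (Fin n₂) F ≃ₗ[F] (Fin n → F)).trans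
    (glEquiv (Fin n) F P)

theorem kron_coords (e : Fin n ≃ Fin n₁ × Fin n₂) (A : Matrix (Fin n₁) (Fin n₁) F) (B : Matrix (Fin n₂) (Fin n₂) F)
    (X : Matrix (Fin n₁) (Fin n₂) F) :
    Matrix.reindex e.symm e.symm (A ⊗ₖ B) *ᵥ (fun k => X (e k).1 (e k).2) =
      fun k => (A * X * Bᵀ) (e k).1 (e k).2 := by
  have h := kronecker_mulVec_vec B Xᵀ A
  funext k
  have h2 := congrFun h (e k)
  rw [show B * Xᵀ * Aᵀ = (A * X * Bᵀ)ᵀ by rw [transpose_mul, transpose_mul, transpose_transpose, Matrix.mul_assoc]] at h2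
  refine Eq.trans ?_ h2
  simp only [Matrix.mulVec, dotProduct, Matrix.reindex_apply, Matrix.submatrix_apply, Equiv.symm_symm]
  exact Fintype.sum_equiv e _ _ fun c => rfl

theorem mem_iff (e : Fin n ≃ Fin n₁ × Fin n₂) (P g : GL (Fin n) F) :
    g ∈ Cfsg.Geo.tensorProductSubgroup n₁ n₂ e P ↔
      InN ((coords e P).trans ((glEquiv (Fin n) F g).trans (coords e P).symm)) := by
  constructor
  · rintro ⟨_, ⟨_, ⟨a, b, hab⟩, rfl⟩, rfl⟩
    let Bt : GL (Fin n₂) F := ⟨(b : Matrix (Fin n₂) (Fin n₂) F)ᵀ, ((b⁻¹ : GL (Fin n₂) F) : Matrix (Fin n₂) (Fin n₂) F)ᵀ,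
      by rw [← transpose_mul, ← Units.val_mul, inv_mul_cancel, Units.val_one, transpose_one],
      by rw [← transpose_mul, ← Units.val_mul, mul_inv_cancel, Units.val_one, transpose_one]⟩
    refine ⟨a, Bt, fun X => (LinearEquiv.symm_apply_eq (coords e P)).2 ?_⟩
    show glEquiv (Fin n) F (P * _ * P⁻¹) (glEquiv (Fin n) F P _) = glEquiv (Fin n) F P _
    rw [← LinearEquiv.mul_apply, ← map_mul, inv_mul_cancel_right, map_mul, LinearEquiv.mul_apply]
    congr 1
    rw [glEquiv_apply]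
    show Matrix.reindex e.symm e.symm _ *ᵥ _ = _
    rw [hab]
    exact kron_coords e _ _ X
  · rintro ⟨A, B, h⟩
    let Bt : GL (Fin n₂) F := ⟨(B : Matrix (Fin n₂) (Fin n₂) F)ᵀ, ((B⁻¹ : GL (Fin n₂) F) : Matrix (Fin n₂) (Fin n₂) F)ᵀ,
      by rw [← transpose_mul, ← Units.val_mul, inv_mul_cancel, Units.val_one, transpose_one],
      by rw [← transpose_mul, ← Units.val_mul, mul_inv_cancel, Units.val_one, transpose_one]⟩
    let k : GL (Fin n₁ × Fin n₂) F :=
      ⟨(A : Matrix (Fin n₁) (Fin n₁) F) ⊗ₖ (Bt : Matrix (Fin n₂) (Fin n₂) F),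
       ((A⁻¹ : GL (Fin n₁) F) : Matrix (Fin n₁) (Fin n₁) F) ⊗ₖ ((Bt⁻¹ : GL (Fin n₂) F) : Matrix (Fin n₂) (Fin n₂) F),
       by rw [← mul_kronecker_mul, ← Units.val_mul, ← Units.val_mul, mul_inv_cancel, mul_inv_cancel, Units.val_one,
            Units.val_one, one_kronecker_one],
       by rw [← mul_kronecker_mul, ← Units.val_mul, ← Units.val_mul, inv_mul_cancel, inv_mul_cancel, Units.val_one,
            Units.val_one, one_kronecker_one]⟩
    refine ⟨Cfsg.Geo.glReindex e.symm k, ⟨k, ⟨A, Bt, rfl⟩, rfl⟩, ?_⟩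
    apply (glEquiv (Fin n) F).injective
    refine LinearEquiv.ext fun x => ?_
    obtain ⟨X, rfl⟩ := (coords e P).surjective x
    have h1 := congrArg (coords e P) (h X)
    simp only [LinearEquiv.trans_apply, LinearEquiv.apply_symm_apply] at h1
    refine Eq.trans ?_ h1.symm
    show glEquiv (Fin n) F (P * _ * P⁻¹) (glEquiv (Fin n) F P _) = glEquiv (Fin n) F P _
    rw [← LinearEquiv.mul_apply, ← map_mul, inv_mul_cancel_right, map_mul, LinearEquiv.mul_apply]
    congr 1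
    rw [glEquiv_apply]
    show Matrix.reindex e.symm e.symm _ *ᵥ _ = _
    refine (kron_coords e _ _ X).trans ?_
    show (fun k => ((A : Matrix (Fin n₁) (Fin n₁) F) * X * ((B : Matrix (Fin n₂) (Fin n₂) F)ᵀ)ᵀ) (e k).1 (e k).2) = _
    rw [transpose_transpose]
    rfl

/-- For a finite field F with q elements and n = n₁ n₂ ≥ 13 with 2 ≤ n₁ < n₂, excluding n₁ = q = 2, the stabiliser in SL_n(F) of a tensor decomposition F^n ≅ F^(n₁) ⊗ F^(n₂) (the conjugate by any P of the Kronecker-product subgroup transported along any bijection Fin n ≃ Fin n₁ × Fin n₂, intersected with SL_n(F)) is a maximal subgroup of SL_n(F). -/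
theorem result {F : Type*} [Field F] [Fintype F] (n : ℕ) (hn : 13 ≤ n) (n₁ n₂ : ℕ) (h1 : 2 ≤ n₁) (h12 : n₁ < n₂) (hex : ¬ (n₁ = 2 ∧ Fintype.card F = 2)) (e : Fin n ≃ Fin n₁ × Fin n₂) (P : Matrix.GeneralLinearGroup (Fin n) F) : Cfsg.Geo.IsMaximalIn (Cfsg.Geo.specialLinear (Fin n) F) (Cfsg.Geo.tensorProductSubgroup n₁ n₂ e P ⊓ Cfsg.Geo.specialLinear (Fin n) F) := by
  classical
  set Ψ := coords e P with hΨ
  let conj : ((Fin n → F) ≃ₗ[F] (Fin n → F)) →* (Matrix (Fin n₁) (Fin n₂) F ≃ₗ[F] Matrix (Fin n₁) (Fin n₂) F) :=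
    { toFun := fun g => Ψ.trans (g.trans Ψ.symm)
      map_one' := LinearEquiv.ext fun x => Ψ.symm_apply_apply x
      map_mul' := fun g h => LinearEquiv.ext fun x => by
        simp [LinearEquiv.mul_apply] }
  have hlt : Fintype.card (Fin n₁) < Fintype.card (Fin n₂) := by rw [Fintype.card_fin, Fintype.card_fin]; exact h12
  have h2 : 2 ≤ Fintype.card (Fin n₁) := by rw [Fintype.card_fin]; exact h1
  have hconj : ∀ (χ : Dual F (Matrix (Fin n₁) (Fin n₂) F)) (y : Matrix (Fin n₁) (Fin n₂) F), χ y = 0 →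
      conj (tvec (χ ∘ₗ Ψ.symm.toLinearMap) (Ψ y)) = tvec χ y := fun χ y h => LinearEquiv.ext fun x => by
    show Ψ.symm (tvec (χ ∘ₗ Ψ.symm.toLinearMap) (Ψ y) (Ψ x)) = _
    rw [tvec_apply (by simpa using h), tvec_apply h]
    simp
  constructor
  · refine lt_of_le_of_ne inf_le_right fun heq => ?_
    obtain ⟨χ, y, h0, hN⟩ := exists_not_inN (F := F) h2 hlt
    refine hN ?_
    have hmem := (heq.ge (tvec_mem_specialLinear (χ ∘ₗ Ψ.symm.toLinearMap) (Ψ y))).1
    have := (mem_iff e P _).1 hmem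
    rw [MulEquiv.apply_symm_apply] at this
    rw [← hconj χ y h0]
    exact this
  intro M hM hMS
  by_cases hle : M ≤ Cfsg.Geo.tensorProductSubgroup n₁ n₂ e P
  · exact Or.inl (le_antisymm (le_inf hle hMS) hM)
  refine Or.inr (le_antisymm hMS (specialLinear_le M fun φ v hv => ?_))
  obtain ⟨g, hgM, hgK⟩ := SetLike.not_le_iff_exists.1 hle
  let X₀ : Subgroup (Matrix (Fin n₁) (Fin n₂) F ≃ₗ[F] Matrix (Fin n₁) (Fin n₂) F) :=
    (M.map (glEquiv (Fin n) F).toMonoidHom).map conj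
  have hX : Over X₀ :=
    { two := h2
      lt := hlt
      big := fun h => by
        rw [Nat.card_eq_fintype_card]
        rw [Fintype.card_fin] at h
        have := Fintype.one_lt_card (α := F)
        omega
      det := by
        rintro _ ⟨k, ⟨s, hsM, rfl⟩, rfl⟩
        show LinearMap.det ((Ψ.symm.toLinearMap ∘ₗ (glEquiv (Fin n) F s).toLinearMap) ∘ₗ Ψ.toLinearMap) = 1
        rw [← (mem_specialLinear_iff s).1 (hMS hsM), ← LinearMap.det_conj (glEquiv (Fin n) F s).toLinearMap Ψ.symm]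
        rfl
      le := fun h hN hdet => by
        let k : GL (Fin n) F := (glEquiv (Fin n) F).symm (Ψ.symm.trans (h.trans Ψ))
        have hkc : conj (glEquiv (Fin n) F k) = h := LinearEquiv.ext fun x => by
          show Ψ.symm (glEquiv (Fin n) F k (Ψ x)) = h x
          simp [k]
        have hkK : k ∈ Cfsg.Geo.tensorProductSubgroup n₁ n₂ e P := (mem_iff e P k).2 (by
          show InN (conj (glEquiv (Fin n) F k))
          rwa [hkc])
        have hkS : k ∈ Cfsg.Geo.specialLinear (Fin n) F := by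
          rw [mem_specialLinear_iff, MulEquiv.apply_symm_apply, ← hdet,
            ← LinearMap.det_conj h.toLinearMap Ψ]
          rfl
        exact ⟨_, ⟨k, hM ⟨hkK, hkS⟩, rfl⟩, hkc⟩ }
  have hg' : conj (glEquiv (Fin n) F g) ∈ X₀ := ⟨_, ⟨g, hgM, rfl⟩, rfl⟩
  have hχv : (φ ∘ₗ Ψ.toLinearMap) (Ψ.symm v) = 0 := by simpa using hv
  obtain ⟨_, ⟨k, hkM, rfl⟩, hk⟩ := all_tvec hX hg' (fun hN => hgK ((mem_iff e P g).2 hN)) _ _ hχv
  have hkk : k = (glEquiv (Fin n) F).symm (tvec φ v) := by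
    refine (MulEquiv.eq_symm_apply _).2 (LinearEquiv.ext fun x => ?_)
    have := congrArg Ψ (LinearEquiv.congr_fun hk (Ψ.symm x))
    rw [tvec_apply hχv] at this
    rw [tvec_apply hv]
    simpa [conj] using this
  exact hkk ▸ hkM

end Cfsg.Agent.S5637
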