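import Cfsg.Statements.S5639
import Cfsg.Agent.ClassicalMax.Subfield.Linear

set_option autoImplicit false
open Cfsg

namespace Cfsg.Agent.S5639

open Module Cfsg.Agent.ClassicalMax Cfsg.Agent.ClassicalMax.Subfield

variable {ι : Type} [Fintype ι] [DecidableEq ι] {F : Type*} [Field F] [Fintype F] (F₀ : Subfield F)

/-- the rational matrices times scalars, before conjugation -/
abbrev H₀ : Subgroup (Matrix.GeneralLinearGroup ι F) :=
  (Matrix.GeneralLinearGroup.map (F₀.subtype : F₀ →+* F)).range ⊔ Cfsg.Geo.scalars ι F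

theorem scalars_normal : (Cfsg.Geo.scalars ι F).Normal := ⟨fun z hz g => by
  obtain ⟨c, hc⟩ := (Cfsg.Geo.mem_scalars_iff z).1 hz
  refine (Cfsg.Geo.mem_scalars_iff _).2 ⟨c, ?_⟩
  rw [Units.val_mul, Units.val_mul, hc, mul_smul_comm, mul_one, smul_mul_assoc, ← Units.val_mul, mul_inv_cancel, Units.val_one]⟩

theorem single_eq (g : Matrix.GeneralLinearGroup ι F) (i j : ι) :
    glEquiv ι F g (Pi.single i 1) j = (g : Matrix ι ι F) j i := by
  rw [glEquiv_apply, Matrix.mulVec_single_one, Matrix.col_apply]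

theorem mem_H₀_iff (g : Matrix.GeneralLinearGroup ι F) : g ∈ H₀ F₀ ↔ Ratty F₀ (glEquiv ι F g) := by
  haveI := scalars_normal (ι := ι) (F := F)
  constructor
  · intro hg
    obtain ⟨_, ⟨y, rfl⟩, z, hz, rfl⟩ := Subgroup.mem_sup_of_normal_right.1 hg
    obtain ⟨c, hc⟩ := (Cfsg.Geo.mem_scalars_iff z).1 hz
    refine ⟨(c : F)⁻¹, inv_ne_zero c.ne_zero, fun i j => ?_⟩
    rw [Pi.smul_apply, single_eq, Units.val_mul, hc, mul_smul_comm, mul_one, Matrix.smul_apply, smul_eq_mul, smul_eq_mul,
      inv_mul_cancel_left₀ c.ne_zero]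
    exact ((y : Matrix ι ι F₀) j i).2
  · rintro ⟨c, hc, h⟩
    let A : Matrix ι ι F₀ := Matrix.of fun j i => ⟨c * (g : Matrix ι ι F) j i, by
      have := h i j
      rwa [Pi.smul_apply, single_eq, smul_eq_mul] at this⟩
    have hA : A.map F₀.subtype = c • (g : Matrix ι ι F) := Matrix.ext fun _ _ => rfl
    haveI : Fintype F₀ := Fintype.ofFinite F₀
    have hdet : A.det ≠ 0 := fun h0 => by
      have h1 : (A.map F₀.subtype).det = F₀.subtype A.det := (RingHom.map_det F₀.subtype A).symm
      rw [hA, h0, map_zero, Matrix.det_smul, mul_eq_zero] at h1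
      exact h1.elim (pow_ne_zero _ hc) (Matrix.GeneralLinearGroup.det g).ne_zero
    let y := Matrix.GeneralLinearGroup.mkOfDetNeZero A hdet
    let z : Matrix.GeneralLinearGroup ι F := Units.map (Matrix.scalar ι : F →+* Matrix ι ι F).toMonoidHom (Units.mk0 c⁻¹ (inv_ne_zero hc))
    refine Subgroup.mem_sup_of_normal_right.2 ⟨_, ⟨y, rfl⟩, z, ⟨_, rfl⟩, Units.ext ?_⟩
    show A.map F₀.subtype * Matrix.scalar ι c⁻¹ = (g : Matrix ι ι F)
    rw [hA, Matrix.scalar_apply, ← Matrix.smul_one_eq_diagonal, mul_smul_comm, mul_one, smul_smul, inv_mul_cancel₀ hc, one_smul]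

theorem tvec_proj (c : F) {i j : ι} (hij : i ≠ j) (x : ι → F) :
    tvec (c • LinearMap.proj j) (Pi.single i 1) x = x + Pi.single i (c * x j) := by
  rw [tvec_apply (by simp [hij.symm])]
  ext k
  rcases eq_or_ne k i with rfl | h <;> simp [*]

theorem main (hn : 3 ≤ Fintype.card ι) (r : ℕ) (hr : r.Prime) (hcard : Fintype.card F = Nat.card F₀ ^ r) :
    Cfsg.Geo.IsMaximalIn (Cfsg.Geo.specialLinear ι F) (H₀ F₀ ⊓ Cfsg.Geo.specialLinear ι F) := by
  classical
  constructor
  · refine lt_of_le_of_ne inf_le_right fun heq => ?_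
    obtain ⟨l, hl⟩ : ∃ l, l ∉ F₀ := by
      by_contra! hc
      have h1 : Nat.card F₀ = Nat.card F := Nat.card_congr (Equiv.subtypeUnivEquiv hc)
      have h0 : 1 < Nat.card F₀ := Finite.one_lt_card
      rw [Nat.card_eq_fintype_card (α := F), hcard] at h1
      have := Nat.pow_right_injective h0 ((pow_one _).trans h1)
      exact hr.ne_one this.symm
    obtain ⟨i, j, k, hij, hik, hjk⟩ := Fintype.two_lt_card_iff.1 (show 2 < Fintype.card ι by omega)
    have hmem := (heq.ge (tvec_mem_specialLinear (l • LinearMap.proj j) (Pi.single i 1))).1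
    replace hmem : _ ∈ H₀ F₀ := hmem
    rw [mem_H₀_iff, MulEquiv.apply_symm_apply] at hmem
    obtain ⟨c, hc, h⟩ := hmem
    have h1 := h k k
    have h2 := h j i
    rw [Pi.smul_apply, tvec_proj l hij] at h1 h2
    simp [hik.symm, hij, hjk, hjk.symm] at h1 h2
    exact hl (by simpa [mul_comm c l, mul_div_cancel_right₀ _ hc] using F₀.div_mem h2 h1)
  · intro M hM1 hM2
    by_cases hle : M ≤ H₀ F₀
    · exact Or.inl (le_antisymm (le_inf hle hM2) hM1)
    refine Or.inr (le_antisymm hM2 ?_)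
    set X := M.map (glEquiv ι F).toMonoidHom with hX
    have hrat : ∀ (f : Dual F (ι → F)) (v : ι → F), RF F₀ f → RV F₀ v → f v = 0 → tvec f v ∈ X := fun f v hf hv hfv => by
      refine ⟨(glEquiv ι F).symm (tvec f v), hM1 ⟨?_, tvec_mem_specialLinear f v⟩, MulEquiv.apply_symm_apply _ _⟩
      show _ ∈ H₀ F₀
      rw [mem_H₀_iff, MulEquiv.apply_symm_apply]
      refine ⟨1, one_ne_zero, fun i => ?_⟩
      rw [one_smul, tvec_apply hfv]
      exact (rv_single i).add (hv.smul (hf i))
    have hO : Over F₀ X := ⟨hn, ⟨r, hr, hcard⟩, hrat, fun x ⟨m, hm, e⟩ => by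
      rw [← e]; exact (mem_specialLinear_iff m).1 (hM2 hm)⟩
    obtain ⟨g, hgM, hg⟩ := SetLike.not_le_iff_exists.1 hle
    have hall := hO.all_tvec ⟨_, Subgroup.mem_map_of_mem _ hgM, fun h => hg ((mem_H₀_iff F₀ g).2 h)⟩
    have htop : M.comap (Matrix.SpecialLinearGroup.toGL : Matrix.SpecialLinearGroup ι F →* _) = ⊤ := by
      refine Cfsg.Agent.Classical.sl_eq_top_of_transvection _ fun i j hij c => ?_
      obtain ⟨m, hm, e⟩ := hall c i j hij
      show Matrix.SpecialLinearGroup.toGL _ ∈ M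
      suffices hh : Matrix.SpecialLinearGroup.toGL _ = m by rw [hh]; exact hm
      apply (glEquiv ι F).injective
      refine LinearEquiv.ext fun x => ?_
      rw [glEquiv_apply, show glEquiv ι F m x = tvec (c • LinearMap.proj j) (Pi.single i 1) x from LinearEquiv.congr_fun e x,
        tvec_proj c hij]
      show (Matrix.transvection i j c).mulVec x = _
      rw [Matrix.transvection, Cfsg.Agent.Classical.tv_mulVec]
    intro g hg
    have hdet : (g : Matrix ι ι F).det = 1 := congrArg Units.val (MonoidHom.mem_ker.1 hg)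
    let S : Matrix.SpecialLinearGroup ι F := ⟨(g : Matrix ι ι F), hdet⟩
    have : S ∈ M.comap (Matrix.SpecialLinearGroup.toGL : Matrix.SpecialLinearGroup ι F →* _) := htop ▸ Subgroup.mem_top _
    rwa [Subgroup.mem_comap, show Matrix.SpecialLinearGroup.toGL S = g from Units.ext rfl] at this

/-- For a finite field F, a subfield F₀ with |F| = |F₀| ^ r for a prime r, and n ≥ 13, the subfield group (the conjugate by any P of the product of GL_n(F₀) with the non-zero scalars of F, intersected with SL_n(F)) is a maximal subgroup of SL_n(F). -/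
theorem result {F : Type*} [Field F] [Fintype F] (n : ℕ) (hn : 13 ≤ n) (F₀ : Subfield F) (r : ℕ) (hr : r.Prime) (hcard : Fintype.card F = Nat.card F₀ ^ r) (P : Matrix.GeneralLinearGroup (Fin n) F) : Cfsg.Geo.IsMaximalIn (Cfsg.Geo.specialLinear (Fin n) F) (Cfsg.Geo.subfieldSubgroup F₀ P ⊓ Cfsg.Geo.specialLinear (Fin n) F) := by
  obtain ⟨h1, h2⟩ := main (ι := Fin n) F₀ (by rw [Fintype.card_fin]; omega) r hr hcard
  set c := (MulAut.conj P).toMonoidHom with hc
  have hinj : Function.Injective c := (MulAut.conj P).injective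
  have hS : (Cfsg.Geo.specialLinear (Fin n) F).map c = Cfsg.Geo.specialLinear (Fin n) F := by
    haveI : (Cfsg.Geo.specialLinear (Fin n) F).Normal := MonoidHom.normal_ker _
    exact Subgroup.Normal.map_conj_eq _ P
  have hK : Cfsg.Geo.subfieldSubgroup F₀ P ⊓ Cfsg.Geo.specialLinear (Fin n) F =
      (H₀ F₀ ⊓ Cfsg.Geo.specialLinear (Fin n) F).map c := by
    rw [Subgroup.map_inf _ _ _ hinj, hS]
    rfl
  rw [hK]
  refine ⟨by conv_rhs => rw [← hS]
             exact (Subgroup.map_lt_map_iff_of_injective hinj).2 h1, fun M hM1 hM2 => ?_⟩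
  have hsurj : Function.Surjective c := (MulAut.conj P).surjective
  rcases h2 (M.comap c) (Subgroup.map_le_iff_le_comap.1 hM1)
      ((Subgroup.comap_mono (hM2.trans hS.ge)).trans (le_of_eq (Subgroup.comap_map_eq_self_of_injective hinj _))) with h | h
  · exact Or.inl (by rw [← h, Subgroup.map_comap_eq_self_of_surjective hsurj])
  · refine Or.inr ?_
    rw [← Subgroup.map_comap_eq_self_of_surjective hsurj M, h, hS]

end Cfsg.Agent.S5639
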