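import Cfsg.Statements.S5642
import Cfsg.Agent.ClassicalMax.Transvection
import Cfsg.Agent.Classical.AltSimple

set_option autoImplicit false
open Cfsg

namespace Cfsg.Agent.S5642

open Cfsg.Agent.Classical Cfsg.Agent.ClassicalMax Module

section

variable {F V : Type*} [Field F] [AddCommGroup V] [Module F V] [FiniteDimensional F V] {B : LinearMap.BilinForm F V}

lemma tvec_eq_tv (hA : B.IsAlt) (v : V) (c : F) : tvec (c • B.flip v) v = Alt.tv hA v c :=
  LinearEquiv.ext fun x => by
    rw [tvec_apply (by simp [hA v]), Alt.tv_apply]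
    simp

lemma det_iso (hA : B.IsAlt) (hB : B.Nondegenerate) (g : V ≃ₗ[F] V) (hg : g ∈ Alt.isoGroup B) :
    LinearMap.det g.toLinearMap = 1 := by
  let H : Subgroup (Alt.isoGroup B) := (LinearEquiv.det.comp (Alt.isoGroup B).subtype).ker
  have : H = ⊤ := Alt.eq_top_of_tvE hA hB H fun v c => by
    rw [MonoidHom.mem_ker, Units.ext_iff]
    simp only [MonoidHom.comp_apply, Subgroup.coe_subtype, LinearEquiv.coe_det, Units.val_one]
    show LinearMap.det (Alt.tv hA v c).toLinearMap = 1
    rw [← tvec_eq_tv hA v c, det_tvec]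
  have hmem : (⟨g, hg⟩ : Alt.isoGroup B) ∈ H := this ▸ Subgroup.mem_top _
  rw [MonoidHom.mem_ker, Units.ext_iff] at hmem
  simpa only [MonoidHom.comp_apply, Subgroup.coe_subtype, LinearEquiv.coe_det, Units.val_one] using hmem

theorem all_transvections (hA : B.IsAlt) (hB : B.Nondegenerate) (M : Subgroup (V ≃ₗ[F] V))
    (hiso : ∀ g ∈ Alt.isoGroup B, g ∈ M)
    (g : V ≃ₗ[F] V) (hgM : g ∈ M) (hg : ¬ ∃ c : F, ∀ x y, B (g x) (g y) = c * B x y) :
    ∀ (φ : Dual F V) (v : V), φ v = 0 → tvec φ v ∈ M := by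
  have hrepr : ∀ φ : Dual F V, ∃ w, ∀ x, φ x = B x w := fun φ => by
    obtain ⟨w, -, hw⟩ := Alt.exists_repr hA (W := ⊤) (fun w _ hw => by
      by_contra! hc
      exact hw (hB.1 w fun z => hc z trivial)) φ
    exact ⟨w, fun x => (hw x trivial).symm⟩
  have hsymp : ∀ (v : V) (c : F), tvec (c • B.flip v) v ∈ M := fun v c =>
    tvec_eq_tv hA v c ▸ hiso _ (Alt.tv_mem_isoGroup hA v c)
  -- one transvection which is not symplectic
  obtain ⟨v, w, hv, hvw, hvwi, hmem⟩ : ∃ v w, v ≠ 0 ∧ B v w = 0 ∧ (∀ c : F, w ≠ c • v) ∧ tvec (B.flip w) v ∈ M := by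
    by_contra! hc
    apply hg
    obtain ⟨μ, hμ⟩ : ∃ μ : F, ∀ y u, (B.comp g.toLinearMap g.toLinearMap) y u = μ * B y u := by
      refine exists_scalar (fun z hz => hB.2 z hz) fun u => ?_
      rcases eq_or_ne u 0 with rfl | hu
      · exact ⟨0, fun y => by simp⟩
      have hφ : (B.flip u) u = 0 := hA u
      obtain ⟨w, hw⟩ := hrepr ((B.flip u).comp (g⁻¹ : V ≃ₗ[F] V).toLinearMap)
      have hw0 : B (g u) w = 0 := by
        rw [← hw]
        show B (g⁻¹ (g u)) u = 0
        rw [inv_apply, hA u]
      have hm : tvec (B.flip w) (g u) ∈ M := by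
        have := mul_mem (mul_mem hgM (one_smul F (B.flip u) ▸ hsymp u 1)) (inv_mem hgM)
        rw [conj_tvec g hφ] at this
        convert this using 2
        exact LinearMap.ext fun x => (hw x).symm
      obtain ⟨c, hc'⟩ : ∃ c : F, w = c • g u := by
        by_contra! hne
        exact hc (g u) w (fun h => hu (g.injective (h.trans g.map_zero.symm))) hw0 hne hm
      have hBu : ∀ y, B y u = c * B (g y) (g u) := fun y => by
        have := hw (g y)
        simpa [inv_apply, hc'] using this
      rcases eq_or_ne c 0 with rfl | hc0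
      · exact absurd (hB.2 u fun y => by simpa using hBu y) hu
      · exact ⟨c⁻¹, fun y => by rw [hBu y, ← mul_assoc, inv_mul_cancel₀ hc0, one_mul]; rfl⟩
    exact ⟨μ, hμ⟩
  intro φ v' hφ
  rcases eq_or_ne v' 0 with rfl | hv'
  · rw [tvec_zero_right]; exact one_mem M
  obtain ⟨w', hw'⟩ := hrepr φ
  obtain rfl : φ = B.flip w' := LinearMap.ext hw'
  by_cases hdep : ∃ c : F, w' = c • v'
  · obtain ⟨c, rfl⟩ := hdep
    rw [map_smul]; exact hsymp v' c
  push Not at hdep
  -- Witt moves the pair to the wanted one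
  have hli : LinearIndependent F ![v, w] := (LinearIndependent.pair_iff' hv).2 fun c h => hvwi c h.symm
  have hli' : LinearIndependent F ![v', w'] := (LinearIndependent.pair_iff' hv').2 fun c h => hdep c h.symm
  let b := Basis.span hli
  let ψ : Submodule.span F (Set.range ![v, w]) →ₗ[F] V := b.constr F ![v', w']
  have hinj : Function.Injective ψ := by
    intro x y e
    have key : ∀ z, ψ z = ∑ i, b.equivFun z i • ![v', w'] i := fun z => by
      simp only [ψ]; rw [Basis.constr_apply_fintype]
    rw [key, key] at e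
    exact b.equivFun.injective (hli'.fintypeLinearCombination_injective e)
  have hform : ∀ x x', B (ψ x) (ψ x') = B (x : V) (x' : V) := by
    have : (B.comp ψ ψ) = B.comp (Submodule.subtype _) (Submodule.subtype _) := by
      refine b.ext fun i => b.ext fun j => ?_
      show B (ψ (b i)) (ψ (b j)) = B (b i : V) (b j : V)
      simp only [ψ, Basis.constr_basis, b, Basis.span_apply]
      have h1 : B v' w' = 0 := hφ
      fin_cases i <;> fin_cases j <;> simp [hA v, hA w, hA v', hA w', hvw, h1, Alt.neg' hA v w, Alt.neg' hA v' w']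
    exact fun x x' => LinearMap.congr_fun₂ this x x'
  obtain ⟨t, ht, htx⟩ := Alt.witt hA (finrank F (⊤ : Submodule F V)) ⊤ rfl (fun z _ hz => by
      by_contra! hc
      exact hz (hB.1 z fun y => hc y trivial)) _ le_top ψ hinj (fun _ => trivial) hform
  have htiso : t ∈ Alt.isoGroup B := Alt.TG_le_isoGroup hA _ ht
  have htv : t v = v' := by
    have := htx (b 0)
    rw [show ψ (b 0) = v' from b.constr_basis F _ 0, show (b 0 : V) = v from Basis.coe_span_apply hli 0] at this
    exact this
  have htw : t w = w' := by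
    have := htx (b 1)
    rw [show ψ (b 1) = w' from b.constr_basis F _ 1, show (b 1 : V) = w from Basis.coe_span_apply hli 1] at this
    exact this
  have := mul_mem (mul_mem (hiso t htiso) hmem) (inv_mem (hiso t htiso))
  rw [conj_tvec t (show B.flip w v = 0 from hvw), htv] at this
  convert this using 2
  refine LinearMap.ext fun x => ?_
  show B x w' = B (t⁻¹ x) w
  rw [← htiso (t⁻¹ x) w, apply_inv, htw]

end

/-- For a finite field F and n ≥ 13, let f be a non-degenerate symplectic form on F^n (so n is even). Then the elements of SL_n(F) that are similarities of f (f(gu, gv) = c f(u, v) for a non-zero scalar c depending on g) form a maximal subgroup of SL_n(F). -/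
theorem result {F : Type*} [Field F] [Fintype F] (n : ℕ) (hn : 13 ≤ n) (f : (Fin n → F) → (Fin n → F) → F) (hf : Cfsg.Geo.IsSymplecticForm f) : Cfsg.Geo.IsMaximalIn (Cfsg.Geo.specialLinear (Fin n) F) (Cfsg.Geo.similarityGroup f ⊓ Cfsg.Geo.specialLinear (Fin n) F) := by
  classical
  let B : LinearMap.BilinForm F (Fin n → F) :=
    LinearMap.mk₂ F f hf.bilinear.add_left hf.bilinear.smul_left hf.bilinear.add_right hf.bilinear.smul_right
  have hBf : ∀ x y, B x y = f x y := fun x y => rfl
  have hA : B.IsAlt := hf.alternating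
  have hB : B.Nondegenerate :=
    ⟨fun x hx => by_contra fun h => (hf.nondegenerate x h).2.elim fun y hy => hy (hx y),
      fun x hx => by_contra fun h => (hf.nondegenerate x h).1.elim fun y hy => hy (hx y)⟩
  refine isMaximalIn_specialLinear _ ?_ fun M hK hg => ?_
  · obtain ⟨u, hu⟩ : ∃ u : Fin n → F, u ≠ 0 := ⟨fun _ => 1, fun h => one_ne_zero (congrFun h ⟨0, by omega⟩)⟩
    obtain ⟨u', hu'⟩ : ∃ u' : Fin n → F, B u u' = 1 := by
      obtain ⟨y, hy⟩ := (hf.nondegenerate u hu).2
      exact ⟨(f u y)⁻¹ • y, by rw [map_smul, hBf, smul_eq_mul, inv_mul_cancel₀ hy]⟩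
    let K := LinearMap.ker (B u) ⊓ LinearMap.ker (B u')
    obtain ⟨z, hz, hz0⟩ : ∃ z ∈ K, z ≠ 0 := by
      refine Submodule.exists_mem_ne_zero_of_ne_bot fun h => ?_
      have h1 := (B u).finrank_range_add_finrank_ker
      have h2 := Submodule.finrank_sup_add_finrank_inf_eq (LinearMap.ker (B u)) (LinearMap.ker (B u'))
      have h4 := (B u').finrank_range_add_finrank_ker
      have h3 := Submodule.finrank_le (LinearMap.ker (B u) ⊔ LinearMap.ker (B u'))
      have h5 := (Submodule.finrank_le (LinearMap.range (B u))).trans_eq (Module.finrank_self F)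
      have h6 := (Submodule.finrank_le (LinearMap.range (B u'))).trans_eq (Module.finrank_self F)
      rw [show LinearMap.ker (B u) ⊓ LinearMap.ker (B u') = ⊥ from h, finrank_bot] at h2
      rw [Module.finrank_fin_fun] at h1 h4 h3
      omega
    have hz1 : B u z = 0 := hz.1
    have hz2 : B u' z = 0 := hz.2
    have h0 : B.flip z u = 0 := hz1
    refine ⟨B.flip z, u, h0, fun hmem => ?_⟩
    obtain ⟨c, hc⟩ := hmem
    have hc' : ∀ x y, B (x + B x z • u) (y + B y z • u) = (c : F) * B x y := fun x y => by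
      have := hc x y
      rw [symm_mulVec, symm_mulVec, tvec_apply h0, tvec_apply h0] at this
      exact this
    have e1 := hc' u u'
    rw [hz1, hz2] at e1
    simp [hu'] at e1
    obtain ⟨x, hx⟩ := (hf.nondegenerate z hz0).1
    have e2 := hc' x u'
    rw [hz2, ← e1] at e2
    simp [hu', hBf] at e2
    exact hx e2
  · have hiso : ∀ g ∈ Alt.isoGroup B, g ∈ M := fun g hg => by
      have := hK ((glEquiv (Fin n) F).symm g) ⟨⟨1, fun x y => by
          rw [symm_mulVec, symm_mulVec, Units.val_one, one_mul]; exact hg x y⟩,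
        (mem_specialLinear_iff _).2 (by rw [MulEquiv.apply_symm_apply]; exact det_iso hA hB g hg)⟩
      rwa [MulEquiv.apply_symm_apply] at this
    obtain ⟨g, hgK, hgM⟩ := hg
    refine all_transvections hA hB M hiso _ hgM fun ⟨c, hc⟩ => hgK ?_
    have hc0 : c ≠ 0 := fun h => by
      obtain ⟨u, hu⟩ : ∃ u : Fin n → F, u ≠ 0 := ⟨fun _ => 1, fun h => one_ne_zero (congrFun h ⟨0, by omega⟩)⟩
      obtain ⟨y, hy⟩ := (hf.nondegenerate (glEquiv (Fin n) F g u) (fun he => hu ((glEquiv (Fin n) F g).injective (he.trans (map_zero _).symm)))).2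
      obtain ⟨y', rfl⟩ := (glEquiv (Fin n) F g).surjective y
      exact hy (by rw [← hBf, hc, h, zero_mul])
    exact ⟨Units.mk0 c hc0, fun x y => hc x y⟩

end Cfsg.Agent.S5642
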