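import Cfsg.Statements.S5647
import Cfsg.Agent.Classical.AltBasis
import Cfsg.Agent.ClassicalMax.Symplectic

set_option autoImplicit false
open Cfsg

namespace Cfsg.Agent.S5647

open Cfsg.Agent.Classical Cfsg.Agent.ClassicalMax Module

section

variable {F V : Type*} [Field F] [AddCommGroup V] [Module F V] {B : LinearMap.BilinForm F V}

/-- the map carrying one symplectic family to another, vanishing on the orthogonal -/
noncomputable def basisMap (B : LinearMap.BilinForm F V) {m : ℕ} (e f e' f' : Fin m → V) : V →ₗ[F] V :=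
  ∑ i, ((B.flip (f i)).smulRight (e' i) - (B.flip (e i)).smulRight (f' i))

lemma basisMap_apply {m : ℕ} (e f e' f' : Fin m → V) (x : V) :
    basisMap B e f e' f' x = ∑ i, (B x (f i) • e' i - B x (e i) • f' i) := by
  simp [basisMap]

lemma basisMap_mem {W : Submodule F V} {m : ℕ} {e' f' : Fin m → V} (h : Alt.IsSympBasis B W e' f') (e f : Fin m → V) (x : V) :
    basisMap B e f e' f' x ∈ W := by
  rw [basisMap_apply]
  exact W.sum_mem fun i _ => W.sub_mem (W.smul_mem _ (h.mem_e i)) (W.smul_mem _ (h.mem_f i))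

lemma basisMap_zero {W : Submodule F V} {m : ℕ} {e f : Fin m → V} (h : Alt.IsSympBasis B W e f) (e' f' : Fin m → V) {x : V}
    (hx : ∀ w ∈ W, B x w = 0) : basisMap B e f e' f' x = 0 := by
  rw [basisMap_apply]
  exact Finset.sum_eq_zero fun i _ => by rw [hx _ (h.mem_e i), hx _ (h.mem_f i)]; simp

lemma basisMap_form (hA : B.IsAlt) {W W' : Submodule F V} {m : ℕ} {e f e' f' : Fin m → V}
    (h : Alt.IsSympBasis B W e f) (h' : Alt.IsSympBasis B W' e' f') {x y : V} (hx : x ∈ W) (hy : y ∈ W) :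
    B (basisMap B e f e' f' x) (basisMap B e f e' f' y) = B x y := by
  have hself : ∀ z ∈ W, basisMap B e f e f z = z := by
    have : W ≤ LinearMap.eqLocus (basisMap B e f e f) LinearMap.id := by
      refine le_trans h.span (Submodule.span_le.2 ?_)
      rintro _ ⟨i | i, rfl⟩
      · show basisMap B e f e f (e i) = e i
        rw [basisMap_apply]
        simp [h.ef, h.ee, ite_smul]
      · show basisMap B e f e f (f i) = f i
        rw [basisMap_apply]
        simp [h.ff, Alt.neg' hA (e _) (f i), h.ef, ite_smul, neg_smul]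
    exact fun z hz => this hz
  conv_rhs => rw [← hself x hx, ← hself y hy]
  simp only [basisMap_apply, map_sum, map_sub, map_smul, LinearMap.sum_apply, LinearMap.sub_apply, LinearMap.smul_apply,
    h.ef, h.ee, h.ff, h'.ef, h'.ee, h'.ff, Alt.neg' hA (e _) (f _), Alt.neg' hA (e' _) (f' _)]

end

section

variable {F V : Type*} [Field F] [AddCommGroup V] [Module F V] {B : LinearMap.BilinForm F V} {t : ℕ}
  {D : Fin t → Submodule F V}

/-- the standing hypotheses on an orthogonal decomposition -/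
structure IsDecomp (B : LinearMap.BilinForm F V) (D : Fin t → Submodule F V) (k : ℕ) : Prop where
  alt : B.IsAlt
  nd : B.Nondegenerate
  top : iSup D = ⊤
  ndon : ∀ i, Alt.NDon B (D i)
  perp : ∀ i j, i ≠ j → ∀ x ∈ D i, ∀ y ∈ D j, B x y = 0
  rank : ∀ i, finrank F (D i) = k

variable {k : ℕ} [FiniteDimensional F V] (hD : IsDecomp B D k)
include hD

lemma ext_orth {x y : V} (h : ∀ i, ∀ z ∈ D i, B x z = B y z) : x = y := by
  refine sub_eq_zero.1 (hD.nd.1 _ fun z => ?_)
  have : (⊤ : Submodule F V) ≤ LinearMap.ker (B (x - y)) := hD.top ▸ iSup_le fun i z hz => by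
    simp [h i z hz]
  exact this trivial

lemma exists_swap (a b : Fin t) : ∃ h ∈ Alt.isoGroup B, ∀ i, ∀ x ∈ D i, h x ∈ D (Equiv.swap a b i) := by
  rcases eq_or_ne a b with rfl | hab
  · exact ⟨1, one_mem _, fun i x hx => by rwa [Equiv.swap_self, Equiv.refl_apply]⟩
  obtain ⟨m, e, f, hb, hm⟩ := Alt.exists_sympBasis hD.alt (D a) (hD.ndon a)
  obtain ⟨m', e', f', hb', hm'⟩ := Alt.exists_sympBasis hD.alt (D b) (hD.ndon b)
  obtain rfl : m = m' := by rw [hD.rank] at hm hm'; omega
  set Tab := basisMap B e f e' f'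
  set Tba := basisMap B e' f' e f
  set Taa := basisMap B e f e f
  set Tbb := basisMap B e' f' e' f'
  let h : V →ₗ[F] V := LinearMap.id - Taa - Tbb + Tab + Tba
  have hself : ∀ {W : Submodule F V} {m : ℕ} {e f : Fin m → V}, Alt.IsSympBasis B W e f → ∀ x ∈ W, basisMap B e f e f x = x := by
    intro W m e f hb x hx
    have : W ≤ LinearMap.eqLocus (basisMap B e f e f) LinearMap.id := by
      refine le_trans hb.span (Submodule.span_le.2 ?_)
      rintro _ ⟨i | i, rfl⟩
      · show basisMap B e f e f (e i) = e i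
        rw [basisMap_apply]
        simp [hb.ef, hb.ee, ite_smul]
      · show basisMap B e f e f (f i) = f i
        rw [basisMap_apply]
        simp [hb.ff, Alt.neg' hD.alt (e _) (f i), hb.ef, ite_smul, neg_smul]
    exact this hx
  have ha : ∀ x ∈ D a, h x = Tab x := fun x hx => by
    simp [h, Taa, Tbb, Tba, hself hb x hx, basisMap_zero hb' _ _ (hD.perp a b hab x hx)]
  have hbx : ∀ x ∈ D b, h x = Tba x := fun x hx => by
    simp [h, Taa, Tbb, Tab, hself hb' x hx, basisMap_zero hb _ _ (hD.perp b a hab.symm x hx)]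
  have ho : ∀ i, i ≠ a → i ≠ b → ∀ x ∈ D i, h x = x := fun i hia hib x hx => by
    simp [h, Taa, Tbb, Tab, Tba, basisMap_zero hb _ _ (hD.perp i a hia x hx), basisMap_zero hb' _ _ (hD.perp i b hib x hx)]
  have hmem : ∀ i, ∀ x ∈ D i, h x ∈ D (Equiv.swap a b i) := fun i x hx => by
    by_cases hia : i = a
    · subst hia; rw [ha x hx, Equiv.swap_apply_left]; exact basisMap_mem hb' _ _ x
    by_cases hib : i = b
    · subst hib; rw [hbx x hx, Equiv.swap_apply_right]; exact basisMap_mem hb _ _ x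
    rw [Equiv.swap_apply_of_ne_of_ne hia hib, ho i hia hib x hx]; exact hx
  have hiso : ∀ x y, B (h x) (h y) = B x y := by
    have hpure : ∀ i, ∀ x ∈ D i, ∀ j, ∀ y ∈ D j, B (h x) (h y) = B x y := by
      intro i x hx j y hy
      by_cases hij : i = j
      · subst hij
        by_cases hia : i = a
        · subst hia; rw [ha x hx, ha y hy]; exact basisMap_form hD.alt hb hb' hx hy
        by_cases hib : i = b
        · subst hib; rw [hbx x hx, hbx y hy]; exact basisMap_form hD.alt hb' hb hx hy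
        rw [ho i hia hib x hx, ho i hia hib y hy]
      · rw [hD.perp i j hij x hx y hy]
        exact hD.perp _ _ (fun e => hij ((Equiv.swap a b).injective e)) _ (hmem i x hx) _ (hmem j y hy)
    intro x y
    have h1 : ∀ i, ∀ x ∈ D i, B (h x) (h y) = B x y := fun i x hx => by
      have : (⊤ : Submodule F V) ≤ LinearMap.eqLocus ((B (h x)).comp h) (B x) :=
        hD.top ▸ iSup_le fun j y hy => hpure i x hx j y hy
      exact this (trivial : y ∈ (⊤ : Submodule F V))
    have : (⊤ : Submodule F V) ≤ LinearMap.eqLocus ((B.flip (h y)).comp h) (B.flip y) :=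
      hD.top ▸ iSup_le fun i x hx => h1 i x hx
    exact this (trivial : x ∈ (⊤ : Submodule F V))
  have hinj : Function.Injective h := fun x y e => sub_eq_zero.1 (hD.nd.1 _ fun z => by
    rw [← hiso (x - y) z, map_sub, e, sub_self, map_zero, LinearMap.zero_apply])
  exact ⟨LinearEquiv.ofInjectiveEndo h hinj, hiso, hmem⟩

open scoped _root_.Classical in
theorem all_centres (hk : 2 ≤ k) (hex : k = 2 → ∃ l : F, l ≠ 0 ∧ l ≠ 1) (M : Subgroup (V ≃ₗ[F] V))
    (hM : ∀ g ∈ Alt.isoGroup B, (∃ σ : Equiv.Perm (Fin t), ∀ i, ∀ x ∈ D i, g x ∈ D (σ i)) → g ∈ M)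
    (g : V ≃ₗ[F] V) (hgM : g ∈ M) (hgi : g ∈ Alt.isoGroup B)
    (hg : ¬ ∃ σ : Equiv.Perm (Fin t), ∀ i, ∀ x ∈ D i, g x ∈ D (σ i)) : ∀ v, v ∈ centres hD.alt M := by
  have hA := hD.alt
  set S := centres hA M
  have hdec : ∀ v i, ∃ a ∈ D i, ∀ z ∈ D i, B (v - a) z = 0 := fun v i => Alt.decomp hA (hD.ndon i) v
  choose P hP hP' using hdec
  have hPB : ∀ v i, ∀ z ∈ D i, B v z = B (P v i) z := fun v i z hz => by
    have := hP' v i z hz
    rwa [map_sub, LinearMap.sub_apply, sub_eq_zero] at this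
  have punique : ∀ v i a, a ∈ D i → (∀ z ∈ D i, B v z = B a z) → P v i = a := by
    intro v i a ha h
    by_contra hne
    obtain ⟨z, hz, hz'⟩ := hD.ndon i _ ((D i).sub_mem (hP v i) ha) (sub_ne_zero.2 hne)
    exact hz' (by rw [map_sub, LinearMap.sub_apply, ← hPB v i z hz, h z hz, sub_self])
  have padd : ∀ v w i, P (v + w) i = P v i + P w i := fun v w i =>
    punique _ _ _ ((D i).add_mem (hP v i) (hP w i)) fun z hz => by
      rw [map_add, map_add, LinearMap.add_apply, LinearMap.add_apply, hPB v i z hz, hPB w i z hz]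
  have psub : ∀ v w i, P (v - w) i = P v i - P w i := fun v w i =>
    punique _ _ _ ((D i).sub_mem (hP v i) (hP w i)) fun z hz => by
      rw [map_sub, map_sub, LinearMap.sub_apply, LinearMap.sub_apply, hPB v i z hz, hPB w i z hz]
  have psame : ∀ i x, x ∈ D i → P x i = x := fun i x hx => punique x i x hx fun _ _ => rfl
  have pother : ∀ i j x, x ∈ D i → j ≠ i → P x j = 0 := fun i j x hx hji =>
    punique x j 0 (D j).zero_mem fun z hz => by rw [hD.perp i j hji.symm x hx z hz, map_zero, LinearMap.zero_apply]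
  let supp : V → Finset (Fin t) := fun v => Finset.univ.filter fun i => P v i ≠ 0
  have hsupp : ∀ v i, i ∈ supp v ↔ P v i ≠ 0 := fun v i => by simp [supp]
  have hext : ∀ v w, (∀ i, P v i = P w i) → v = w := fun v w h => ext_orth hD fun i z hz => by
    rw [hPB v i z hz, h i, ← hPB w i z hz]
  have hblock : ∀ i, ∀ v ∈ D i, v ∈ S := fun i v hv c => by
    refine hM _ (Alt.tv_mem_isoGroup hA v c) ⟨1, fun j x hx => ?_⟩
    rw [Alt.tv_apply, Equiv.Perm.one_apply]
    by_cases hji : j = i
    · subst hji; exact (D j).add_mem hx ((D j).smul_mem _ hv)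
    · rw [hD.perp j i hji x hx v hv, mul_zero, zero_smul, add_zero]; exact hx
  have hsmall : ∀ v, (supp v).card ≤ 1 → v ∈ S := by
    intro v hv
    by_cases h0 : supp v = ∅
    · have : v = 0 := hext v 0 fun i => by
        have h1 : P v i = 0 := by by_contra h; exact Finset.notMem_empty i (h0 ▸ (hsupp v i).2 h)
        rw [h1, punique 0 i 0 (D i).zero_mem fun _ _ => rfl]
      rw [this]; exact zero_mem_centres
    obtain ⟨i, hi⟩ := Finset.nonempty_iff_ne_empty.2 h0
    have : v = P v i := hext _ _ fun j => by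
      by_cases hji : j = i
      · subst hji; rw [psame j _ (hP v j)]
      · rw [pother i j _ (hP v i) hji]
        by_contra h
        exact hji (Finset.card_le_one.1 hv j ((hsupp v j).2 h) i hi)
    rw [this]; exact hblock i _ (hP v i)
  have hlocal : ∀ i (t : V ≃ₗ[F] V), t ∈ Alt.TG B (D i) → t ∈ M ∧ t ∈ Alt.isoGroup B ∧
      (∀ x j, j ≠ i → P (t x) j = P x j) ∧ (∀ x, P (t x) i = t (P x i)) := by
    intro i s hs
    have hsi := Alt.TG_le_isoGroup hA _ hs
    have hfix : ∀ j, j ≠ i → ∀ z ∈ D j, s z = z := fun j hji z hz => Alt.TG_fix hs fun w hw => hD.perp j i hji z hz w hw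
    refine ⟨hM s hsi ⟨1, fun j x hx => ?_⟩, hsi, fun x j hji => punique _ _ _ (hP x j) fun z hz => ?_,
      fun x => punique _ _ _ (Alt.TG_maps hs (hP x i)) fun z hz => ?_⟩
    · rw [Equiv.Perm.one_apply]
      by_cases hji : j = i
      · subst hji; exact Alt.TG_maps hs hx
      · rw [hfix j hji x hx]; exact hx
    · have := hPB x j z hz
      rw [← this, ← hsi x z, hfix j hji z hz]
    · obtain ⟨z', hz', rfl⟩ : ∃ z' ∈ D i, s z' = z :=
        ⟨s⁻¹ z, Alt.TG_maps (inv_mem hs) hz, by rw [Alt.apply_inv_self]⟩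
      rw [hsi, hsi, hPB x i z' hz']
  -- a centre outside the blocks
  obtain ⟨v, hv, hv2⟩ : ∃ v ∈ S, 2 ≤ (supp v).card := by
    by_contra! hc
    have hD0 : ∀ i, ∃ x ∈ D i, x ≠ 0 := fun i => (D i).exists_mem_ne_zero_of_ne_bot fun h => by
      have := hD.rank i; rw [h, finrank_bot] at this; omega
    choose x0 hx0 hx00 using hD0
    have hpure : ∀ i, ∀ x ∈ D i, ∀ j j', P (g x) j ≠ 0 → P (g x) j' ≠ 0 → j = j' := fun i x hx j j' hj hj' =>
      Finset.card_le_one.1 (Nat.le_of_lt_succ (hc _ (map_mem_centres (hblock i x hx) hgM hgi))) j ((hsupp _ j).2 hj) j' ((hsupp _ j').2 hj')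
    have hex' : ∀ i, ∃ j, P (g (x0 i)) j ≠ 0 := fun i => by
      by_contra! h
      exact hx00 i (g.injective ((hext _ 0 fun j => by rw [h j, punique 0 j 0 (D j).zero_mem fun _ _ => rfl]).trans g.map_zero.symm))
    choose σ hσ using hex'
    have hto : ∀ i, ∀ x ∈ D i, g x ∈ D (σ i) := by
      intro i x hx
      have hz : ∀ j, j ≠ σ i → P (g x) j = 0 := by
        intro j hj
        by_contra h
        have h1 : P (g x) (σ i) = 0 := by by_contra h'; exact hj (hpure i x hx j _ h h')
        have h2 : P (g (x0 i)) j = 0 := by by_contra h'; exact hj (hpure i _ (hx0 i) j _ h' (hσ i))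
        refine hj (hpure i _ ((D i).add_mem hx (hx0 i)) j (σ i) ?_ ?_)
        · rw [map_add, padd, h2, add_zero]; exact h
        · rw [map_add, padd, h1, zero_add]; exact hσ i
      have : g x = P (g x) (σ i) := hext _ _ fun j => by
        by_cases hj : j = σ i
        · subst hj; rw [psame _ _ (hP _ _)]
        · rw [pother _ j _ (hP _ _) hj, hz j hj]
      rw [this]; exact hP _ _
    have hinj : Function.Injective σ := by
      intro i i' h
      by_contra hne
      have hmap : ∀ i, (D i).map g.toLinearMap = D (σ i) := fun i =>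
        Submodule.eq_of_le_of_finrank_eq (by rintro _ ⟨x, hx, rfl⟩; exact hto i x hx)
          (by rw [LinearEquiv.finrank_map_eq, hD.rank, hD.rank])
      have : D i = D i' := Submodule.map_injective_of_injective (f := g.toLinearMap) g.injective (by rw [hmap, hmap, h])
      obtain ⟨z, hz, hz'⟩ := hD.ndon i _ (hx0 i) (hx00 i)
      exact hz' (hD.perp i i' hne _ (hx0 i) z (this ▸ hz))
    exact hg ⟨Equiv.ofBijective σ hinj.bijective_of_finite, hto⟩
  -- exactly two
  obtain ⟨v2, hv2S, hv22⟩ : ∃ v2 ∈ S, (supp v2).card = 2 := by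
    rcases eq_or_ne (supp v).card 2 with h | h
    · exact ⟨v, hv, h⟩
    obtain ⟨j, hj, l, hl, hjl⟩ := Finset.one_lt_card.1 (show 1 < (supp v).card by omega)
    rw [hsupp] at hj hl
    obtain ⟨u, hu, hu1⟩ := Alt.exists_partner hA (hD.ndon j) (hP v j) hj
    obtain ⟨u', hu', hu'0, hu'ne, hu'B⟩ : ∃ u' ∈ D l, u' ≠ 0 ∧ u' ≠ P v l ∧ B (P v l) u' = 0 := by
      rcases Nat.lt_or_ge 2 k with h3 | h3
      · obtain ⟨x, hx, hxs⟩ := SetLike.not_le_iff_exists.1 (fun hle : D l ⊓ LinearMap.ker (B (P v l)) ≤ Submodule.span F {P v l} => by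
          have h1 := Submodule.finrank_mono hle
          have h2 := Submodule.finrank_sup_add_finrank_inf_eq (D l) (LinearMap.ker (B (P v l)))
          have h4 := Submodule.finrank_le (D l ⊔ LinearMap.ker (B (P v l)))
          have h5 := (B (P v l)).finrank_range_add_finrank_ker
          have h6 := (Submodule.finrank_le (LinearMap.range (B (P v l)))).trans_eq (Module.finrank_self F)
          rw [finrank_span_singleton hl] at h1
          rw [hD.rank] at h2
          omega)
        exact ⟨x, hx.1, fun h => hxs (h ▸ Submodule.zero_mem _), fun h => hxs (h ▸ Submodule.mem_span_singleton_self _), hx.2⟩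
      · obtain ⟨c, hc0, hc1⟩ := hex (by omega)
        exact ⟨c • P v l, (D l).smul_mem _ (hP v l), smul_ne_zero hc0 hl,
          fun h => hc1 (smul_left_injective F hl (h.trans (one_smul F _).symm)), by rw [map_smul, hA, smul_zero]⟩
    have hu0 : u ≠ 0 := fun h => by rw [h, map_zero] at hu1; exact zero_ne_one hu1
    obtain ⟨s, hs, hsu⟩ := exists_TG_map hA (hD.ndon j) (hP v j) hj hu hu0
    obtain ⟨s', hs', hsu'⟩ := exists_TG_map hA (hD.ndon l) (hP v l) hl hu' hu'0
    obtain ⟨hsM, hsi, hs1, hs2⟩ := hlocal j s hs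
    obtain ⟨hs'M, hs'i, hs'1, hs'2⟩ := hlocal l s' hs'
    set v' := s (s' v)
    have hv' : v' ∈ S := map_mem_centres (map_mem_centres hv hs'M hs'i) hsM hsi
    have e1 : P v' j = u := by rw [hs2, hs'1 v j hjl, hsu]
    have e2 : P v' l = u' := by rw [hs1 _ l (Ne.symm hjl), hs'2, hsu']
    have e3 : ∀ i, i ≠ j → i ≠ l → P v' i = P v i := fun i h1 h2 => by rw [hs1 _ i h1, hs'1 v i h2]
    set d := v' - v
    have hd : d = (u - P v j) + (u' - P v l) := hext _ _ fun i => by
      rw [psub, padd, psub, psub]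
      by_cases h1 : i = j
      · subst h1; rw [e1, psame _ _ hu, psame _ _ (hP v i), pother l i _ hu' hjl, pother l i _ (hP v l) hjl, sub_zero, add_zero]
      by_cases h2 : i = l
      · subst h2; rw [e2, psame _ _ hu', psame _ _ (hP v i), pother j i _ hu h1, pother j i _ (hP v j) h1, sub_zero, zero_add]
      rw [e3 i h1 h2, pother j i _ hu h1, pother j i _ (hP v j) h1, pother l i _ hu' h2, pother l i _ (hP v l) h2]; simp
    have hB' : B v' v = B u (P v j) := by
      have hdv : B d v = B u (P v j) := by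
        have f1 : ∀ z ∈ D j, B z v = B z (P v j) := fun z hz => by rw [Alt.neg' hA v z, hPB v j z hz, ← Alt.neg' hA]
        have f2 : ∀ z ∈ D l, B z v = B z (P v l) := fun z hz => by rw [Alt.neg' hA v z, hPB v l z hz, ← Alt.neg' hA]
        rw [hd, map_add, LinearMap.add_apply, f1 _ ((D j).sub_mem hu (hP v j)), f2 _ ((D l).sub_mem hu' (hP v l))]
        simp [hA (P v j), hA (P v l), Alt.neg' hA (P v l) u', hu'B]
      rw [show v' = d + v by simp [d], map_add, LinearMap.add_apply, hdv, hA v, add_zero]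
    have hdS : d ∈ S := by
      have := add_smul_mem_centres hv' hv (by rw [hB', Alt.neg' hA (P v j) u, hu1]; simp) (-1)
      rwa [neg_one_smul, ← sub_eq_add_neg] at this
    refine ⟨d, hdS, ?_⟩
    have : supp d = {j, l} := by
      ext i
      rw [hsupp, psub, Finset.mem_insert, Finset.mem_singleton]
      by_cases h1 : i = j
      · subst h1
        refine iff_of_true (sub_ne_zero.2 ?_) (Or.inl rfl)
        rw [e1]; intro h; rw [h, hA] at hu1; exact zero_ne_one hu1
      by_cases h2 : i = l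
      · subst h2; exact iff_of_true (sub_ne_zero.2 (e2 ▸ hu'ne)) (Or.inr rfl)
      exact iff_of_false (by rw [e3 i h1 h2, sub_self]; exact fun h => h rfl) (by tauto)
    rw [this, Finset.card_pair hjl]
  obtain ⟨p, q, hpq, hsuppv2⟩ := Finset.card_eq_two.1 hv22
  have hperm : ∀ a b, ∃ h ∈ M, h ∈ Alt.isoGroup B ∧ ∀ x i, P (h x) (Equiv.swap a b i) = h (P x i) := by
    intro a b
    obtain ⟨h, hhi, hhD⟩ := exists_swap hD a b
    refine ⟨h, hM h hhi ⟨_, hhD⟩, hhi, fun x i => punique _ _ _ (hhD i _ (hP x i)) fun z hz => ?_⟩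
    obtain ⟨z', hz', rfl⟩ : ∃ z' ∈ D i, h z' = z := by
      have hmap : (D i).map h.toLinearMap = D (Equiv.swap a b i) :=
        Submodule.eq_of_le_of_finrank_eq (by rintro _ ⟨x, hx, rfl⟩; exact hhD i x hx)
          (by rw [LinearEquiv.finrank_map_eq, hD.rank, hD.rank])
      rw [← hmap] at hz
      obtain ⟨z', hz', rfl⟩ := hz
      exact ⟨z', hz', rfl⟩
    rw [hhi, hhi, hPB x i z' hz']
  have htwo : ∀ a b, a ≠ b → ∀ y, (∀ i, P y i ≠ 0 ↔ i = a ∨ i = b) → y ∈ S := by
    intro a b hab y hy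
    obtain ⟨h1, h1M, h1i, h1P⟩ := hperm p a
    obtain ⟨h2, h2M, h2i, h2P⟩ := hperm (Equiv.swap p a q) b
    set v3 := h2 (h1 v2)
    have hv3 : v3 ∈ S := map_mem_centres (map_mem_centres hv2S h1M h1i) h2M h2i
    have hv3P : ∀ i, P v3 i ≠ 0 ↔ i = a ∨ i = b := by
      intro i
      obtain ⟨i1, rfl⟩ := (Equiv.swap (Equiv.swap p a q) b).surjective i
      obtain ⟨i0, rfl⟩ := (Equiv.swap p a).surjective i1
      rw [h2P, h1P, Ne, LinearEquiv.map_eq_zero_iff, LinearEquiv.map_eq_zero_iff, ← Ne, ← hsupp, hsuppv2, Finset.mem_insert,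
        Finset.mem_singleton]
      have hb : Equiv.swap (Equiv.swap p a q) b (Equiv.swap p a q) = b := Equiv.swap_apply_left _ _
      have ha : Equiv.swap (Equiv.swap p a q) b (Equiv.swap p a p) = a := by
        rw [Equiv.swap_apply_left]
        exact Equiv.swap_apply_of_ne_of_ne (fun e => hpq ((Equiv.swap p a).injective ((Equiv.swap_apply_left p a).trans e))) hab
      constructor
      · rintro (rfl | rfl)
        · exact Or.inl ha
        · exact Or.inr hb
      · rintro (e | e)
        · exact Or.inl ((Equiv.swap p a).injective ((Equiv.swap (Equiv.swap p a q) b).injective (e.trans ha.symm)))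
        · exact Or.inr ((Equiv.swap p a).injective ((Equiv.swap (Equiv.swap p a q) b).injective (e.trans hb.symm)))
    obtain ⟨s, hs, hsa⟩ := exists_TG_map hA (hD.ndon a) (hP v3 a) ((hv3P a).2 (Or.inl rfl)) (hP y a) ((hy a).2 (Or.inl rfl))
    obtain ⟨s', hs', hsb⟩ := exists_TG_map hA (hD.ndon b) (hP v3 b) ((hv3P b).2 (Or.inr rfl)) (hP y b) ((hy b).2 (Or.inr rfl))
    obtain ⟨hsM, hsi, hs1, hs2⟩ := hlocal a s hs
    obtain ⟨hs'M, hs'i, hs'1, hs'2⟩ := hlocal b s' hs'
    have : y = s (s' v3) := hext _ _ fun i => by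
      by_cases h1 : i = a
      · subst h1; rw [hs2, hs'1 v3 i hab, hsa]
      by_cases h2 : i = b
      · subst h2; rw [hs1 _ i h1, hs'2, hsb]
      rw [hs1 _ i h1, hs'1 v3 i h2]
      have e1 : P y i = 0 := by by_contra h; exact ((hy i).1 h).elim h1 h2
      have e2 : P v3 i = 0 := by by_contra h; exact ((hv3P i).1 h).elim h1 h2
      rw [e1, e2]
    rw [this]
    exact map_mem_centres (map_mem_centres hv3 hs'M hs'i) hsM hsi
  intro y
  suffices ∀ n, ∀ y, (supp y).card = n → y ∈ S from this _ y rfl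
  intro n
  induction n using Nat.strong_induction_on with
  | _ n ih => ?_
  intro y hy
  rcases Nat.lt_or_ge n 2 with h | h
  · exact hsmall y (by omega)
  obtain ⟨a, ha, b, hb, hab⟩ := Finset.one_lt_card.1 (show 1 < (supp y).card by omega)
  rw [hsupp] at ha hb
  rcases eq_or_ne n 2 with rfl | hn
  · obtain ⟨c, d, hcd, hy2⟩ := Finset.card_eq_two.1 hy
    exact htwo c d hcd y fun i => by rw [← hsupp, hy2]; simp
  obtain ⟨a', ha', ha1⟩ := Alt.exists_partner hA (hD.ndon a) (hP y a) ha
  set w := (P y a - a') + P y b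
  set x := y - w
  have hwa : P w a = P y a - a' := by rw [padd, psame _ _ ((D a).sub_mem (hP y a) ha'), pother b a _ (hP y b) hab, add_zero]
  have hwb : P w b = P y b := by rw [padd, psame _ _ (hP y b), pother a b _ ((D a).sub_mem (hP y a) ha') hab.symm, zero_add]
  have hwo : ∀ i, i ≠ a → i ≠ b → P w i = 0 := fun i h1 h2 => by
    rw [padd, pother a i _ ((D a).sub_mem (hP y a) ha') h1, pother b i _ (hP y b) h2, add_zero]
  have hne : P y a - a' ≠ 0 := fun e => by
    rw [sub_eq_zero] at e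
    rw [← e, hA] at ha1
    exact zero_ne_one ha1
  have hw : w ∈ S := htwo a b hab w fun i => by
    by_cases h1 : i = a
    · subst h1; rw [hwa]; exact iff_of_true hne (Or.inl rfl)
    by_cases h2 : i = b
    · subst h2; rw [hwb]; exact iff_of_true hb (Or.inr rfl)
    rw [hwo i h1 h2]; exact iff_of_false (fun e => e rfl) (by tauto)
  have hxS : x ∈ S := by
    refine ih (supp x).card ?_ x rfl
    rw [← hy]
    refine Finset.card_lt_card ((Finset.ssubset_iff_of_subset fun i hi => ?_).2 ⟨b, (hsupp y b).2 hb, fun h => ?_⟩)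
    · rw [hsupp] at hi ⊢
      intro h0
      by_cases h1 : i = a
      · subst h1; exact ha h0
      by_cases h2 : i = b
      · subst h2; exact hb h0
      rw [psub, hwo i h1 h2, h0, sub_zero] at hi
      exact hi rfl
    · rw [hsupp, psub, hwb, sub_self] at h
      exact h rfl
  have hxw : B x w ≠ 0 := by
    have f1 : B x (P y a - a') = B a' (P y a - a') := by
      rw [hPB x a _ ((D a).sub_mem (hP y a) ha'), psub, hwa, sub_sub_cancel]
    have f2 : B x (P y b) = 0 := by rw [hPB x b _ (hP y b), psub, hwb, sub_self, map_zero, LinearMap.zero_apply]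
    rw [map_add, f1, f2, add_zero, map_sub, hA, sub_zero, Alt.neg' hA (P y a) a', ha1]
    simp
  have := add_smul_mem_centres hxS hw hxw 1
  rwa [one_smul, sub_add_cancel] at this

end

/-- the statement with the bound on `m` lowered -/
theorem maximal {F : Type*} [Field F] [Fintype F] (m : ℕ) (hm : 3 ≤ m) {t : ℕ} (k : ℕ) (D : Fin t → Submodule F (Fin m ⊕ Fin m → F)) (hD : Cfsg.Geo.IsNondegenerateMDecomposition (Cfsg.sympForm m F) k D) (hex : ¬ (k = 2 ∧ Fintype.card F = 2)) : Cfsg.Geo.IsMaximalIn (Cfsg.spGL m F) (Cfsg.Geo.decompositionStabilizer D ⊓ Cfsg.spGL m F) := by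
  classical
  set B := sympB m F
  have hBf : ∀ x y, B x y = Cfsg.sympForm m F x y := fun x y => sympB_apply x y
  have hd : IsDecomp B D k :=
    { alt := sympB_isAlt
      nd := sympB_nondeg
      top := hD.decomp.iSup_eq_top
      ndon := fun i w hw hw0 => by
        obtain ⟨z, hz, hne⟩ := (hD.nondegenerate i w hw hw0).2
        exact ⟨z, hz, by rw [hBf]; exact hne⟩
      perp := fun i j hij x hx y hy => by
        rw [hBf]; exact hD.orthogonal i j hij x hx y hy
      rank := hD.decomp.finrank_eq }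
  have ht := hD.decomp.two_le
  let i0 : Fin t := ⟨0, by omega⟩
  let i1 : Fin t := ⟨1, by omega⟩
  have h01 : i0 ≠ i1 := fun h => by simpa [i0, i1] using congrArg Fin.val h
  have h0bot : ∀ i, D i ≠ ⊥ := fun i h => by
    have := hD.decomp.finrank_eq i; rw [h, finrank_bot] at this; have := hD.decomp.pos; omega
  obtain ⟨x₁, hx₁, hx₁0⟩ := (D i0).exists_mem_ne_zero_of_ne_bot (h0bot i0)
  obtain ⟨z₁, hz₁, hxz⟩ := hd.ndon i0 x₁ hx₁ hx₁0
  have hk : 2 ≤ k := by
    obtain ⟨l, -, -, -, hl⟩ := Alt.exists_sympBasis sympB_isAlt (D i0) (hd.ndon i0)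
    have := hD.decomp.finrank_eq i0; have := hD.decomp.pos
    omega
  have hex' : k = 2 → ∃ l : F, l ≠ 0 ∧ l ≠ 1 := fun h2 => by
    by_contra! hc
    refine hex ⟨h2, ?_⟩
    have : (Finset.univ : Finset F) = {0, 1} := by
      ext a; simp only [Finset.mem_univ, Finset.mem_insert, Finset.mem_singleton, true_iff]
      exact or_iff_not_imp_left.2 (hc a)
    rw [← Finset.card_univ, this, Finset.card_pair zero_ne_one]
  obtain ⟨u, hu, hu0⟩ := (D i1).exists_mem_ne_zero_of_ne_bot (h0bot i1)
  refine isMaximalIn_spGL _ ⟨z₁ + u, 1, fun hmem => ?_⟩ fun M hK ⟨g, hgM, hgi, hgK⟩ => ?_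
  · obtain ⟨σ, hσ⟩ := hmem
    have hto : ∀ i, ∀ x ∈ D i, Alt.tv (sympB_isAlt (F := F) (m := m)) (z₁ + u) 1 x ∈ D (σ i) := fun i x hx => by
      rw [← hσ i]
      exact ⟨x, hx, by rw [Matrix.toLin'_apply]; exact symm_mulVec _ x⟩
    obtain ⟨uu, huu, huu1⟩ := hd.ndon i1 u hu hu0
    have h1 := hto i0 x₁ hx₁
    rw [Alt.tv_apply, one_mul, map_add, hd.perp i0 i1 h01 x₁ hx₁ u hu, add_zero] at h1
    set y := x₁ + B x₁ z₁ • (z₁ + u) with hy
    by_cases hσ0 : σ i0 = i0
    · rw [hσ0] at h1
      have h2 : B x₁ z₁ • u ∈ D i0 := by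
        have : B x₁ z₁ • u = y - x₁ - B x₁ z₁ • z₁ := by rw [hy, smul_add]; abel
        rw [this]; exact (D i0).sub_mem ((D i0).sub_mem h1 hx₁) ((D i0).smul_mem _ hz₁)
      rw [(D i0).smul_mem_iff hxz] at h2
      exact huu1 (hd.perp i0 i1 h01 u h2 uu huu)
    · have h3 : B y z₁ = B x₁ z₁ := by
        rw [hy, map_add, LinearMap.add_apply, map_smul, LinearMap.smul_apply, map_add, LinearMap.add_apply, sympB_isAlt z₁,
          hd.perp i1 i0 h01.symm u hu z₁ hz₁]
        simp
      exact hxz (h3.symm.trans (hd.perp (σ i0) i0 hσ0 y h1 z₁ hz₁))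
  · have rk : ∀ (f : (Fin m ⊕ Fin m → F) ≃ₗ[F] (Fin m ⊕ Fin m → F)) (σ : Equiv.Perm (Fin t)),
        (∀ i, ∀ x ∈ D i, f x ∈ D (σ i)) → (glEquiv (Fin m ⊕ Fin m) F).symm f ∈ Cfsg.Geo.decompositionStabilizer D := by
      intro f σ hσ
      refine ⟨σ, fun i => ?_⟩
      have e : Matrix.toLin' (((glEquiv (Fin m ⊕ Fin m) F).symm f : Matrix.GeneralLinearGroup (Fin m ⊕ Fin m) F) : Matrix (Fin m ⊕ Fin m) (Fin m ⊕ Fin m) F) = f.toLinearMap :=
        LinearMap.ext fun x => by rw [Matrix.toLin'_apply]; exact symm_mulVec f x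
      rw [e]
      exact Submodule.eq_of_le_of_finrank_eq (by rintro _ ⟨x, hx, rfl⟩; exact hσ i x hx)
        (by rw [LinearEquiv.finrank_map_eq, hD.decomp.finrank_eq, hD.decomp.finrank_eq])
    exact all_centres hd hk hex' M (fun h hh ⟨σ, hσ⟩ => hK h hh (rk h σ hσ)) g hgM hgi fun ⟨σ, hσ⟩ => hgK (rk g σ hσ)

/-- For a finite field F with q elements and m ≥ 7, let D be a decomposition of F^(2m) into t ≥ 2 pairwise orthogonal subspaces of equal dimension k on each of which the standard alternating form is non-degenerate, spanning F^(2m). Unless k = 2 and q = 2, the elements of Sp_2m(F) permuting the members of D form a maximal subgroup of Sp_2m(F). -/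
theorem result {F : Type*} [Field F] [Fintype F] (m : ℕ) (hm : 7 ≤ m) {t : ℕ} (k : ℕ) (D : Fin t → Submodule F (Fin m ⊕ Fin m → F)) (hD : Cfsg.Geo.IsNondegenerateMDecomposition (Cfsg.sympForm m F) k D) (hex : ¬ (k = 2 ∧ Fintype.card F = 2)) : Cfsg.Geo.IsMaximalIn (Cfsg.spGL m F) (Cfsg.Geo.decompositionStabilizer D ⊓ Cfsg.spGL m F) :=
  maximal m (by omega) k D hD hex

end Cfsg.Agent.S5647
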