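import Cfsg.Statements.S5170
import Cfsg.Agent.GroupSub.CodeFus
import Cfsg.Agent.Compute.M24Base

set_option autoImplicit false
open Cfsg

namespace Cfsg.Agent.S5170

open Cfsg.Agent.GroupSub
open Cfsg.Agent.Compute (rep24 inM24B)

/-- Certificate for a Sylow 2-subgroup. -/
def cert : CodeFus.Cert where
  xs := [0xbd6d46b0674ba725a9e8810a688022,
    0x432573d5319ae160d1aa199c4788a0,
    0xbb2a83ca111b9362a9b49896479820,
    0x73e5435629b5da742a0b64ca410c20,
    0xb9da5146a0b3a4f4288b64e9030c29,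
    0xb9aa57c9a99ba2242a0b1da843b020,
    0xb98943812d1ba025aa289d8b57b032,
    0x55aa81c9a93862c2de1479964989c0,
    0x732a51ca303ddb64052b78a8499940,
    0xbb2541d5a93ba365aa08788a099824]
  k := 4
  pc := [(0, [1, 258, 60, 40, 48, 32, 64, 384, 256]),
    (32, [33, 74, 212, 72, 144, 32, 64, 128]),
    (0, [5, 74, 4, 8, 16, 32, 64]),
    (0, [33, 2, 36, 24, 16, 32]),
    (16, [17, 2, 20, 8, 16]),
    (0, [1, 2, 4, 8]),
    (0, [1, 2, 4]),
    (0, [1, 2]),
    (0, [1]),
    (0, [])]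
  z := 0xbb2541d5a93ba365aa08788a099824
  cols := [0, 130, 256, 260, 768, 776, 792, 1280, 1284]
  hists := [[0, 0, 0, 0, 22, 25, 1, 8, 8],
    [0, 0, 16, 16, 0, 16, 0, 0, 16],
    [0, 0, 16, 16, 8, 24, 0, 0, 0],
    [0, 0, 0, 64, 0, 0, 0, 0, 0],
    [32, 0, 0, 32, 0, 0, 0, 0, 0],
    [0, 0, 32, 32, 0, 0, 0, 0, 0],
    [0, 0, 16, 16, 8, 8, 0, 16, 0],
    [0, 0, 16, 16, 24, 8, 0, 0, 0],
    [0, 0, 16, 16, 8, 8, 0, 16, 0],
    [32, 0, 0, 32, 0, 0, 0, 0, 0],
    [0, 0, 16, 16, 16, 0, 0, 0, 16],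
    [0, 64, 0, 0, 0, 0, 0, 0, 0],
    [32, 0, 32, 0, 0, 0, 0, 0, 0],
    [64, 0, 0, 0, 0, 0, 0, 0, 0],
    [32, 0, 0, 0, 16, 0, 0, 16, 0],
    [32, 0, 32, 0, 0, 0, 0, 0, 0]]
  roots := [[285], [524], [852], [643], [790], [856]]
  steps := [([0], 0xa2e0661240515a8bbd2e08c51b4cf5, 0x58c1714495521b3b3d2c0d1d2314f0),
    ([0, 1], 0x604eab563712df38500433469448ae, 0x84e4a60a2b680d775083a9c282bec9),
    ([0, 1], 0x4b6a8585d6b949463e6650223848e2, 0x7c2ac488a3546cb99ef40a1cd20246),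
    ([0, 1, 2], 0x2c446832932217573ce1482d79346a, 0x2159180ed352c52680ee4d2ef0d506),
    ([3, 1, 3], 0x8512e3d4d1bb5ea90480588b69b103, 0x792561ae176d1c23b2a19c4a901948),
    ([3, 4], 0xb9da293d0b8382c99689312a01c556, 0xb80a95cc4f93aac80511b1d461d1a4),
    ([1, 3, 1, 3, 4, 5], 0x9acec6980811481b39577a69594071, 0x42c85b8c023aa74b24d0ac9cd0bd91),
    ([1, 2, 3, 4], 0x805e71550ab1aee945644d06069593, 0x6be4602d57ab0614c0f1a38482cec4)]
  fin := [[1, 8, 1],
    [5, 7, 3],
    [1, 3, 2, 4],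
    [3, 1, 3, 6],
    [1, 3, 2, 3, 6],
    [1, 3, 2, 3, 5],
    [5],
    [0, 3, 7, 3, 7],
    [1, 2],
    [0]]

theorem groupB_ok : cert.groupB inM24B = true := by decide +kernel

theorem squareB_ok : cert.squareB = true := by decide +kernel

theorem centerB_ok : cert.centerB = true := by decide +kernel

theorem histB_ok : cert.histB = true := by decide +kernel

theorem closedB_ok : cert.closedB inM24B = true := by decide +kernel

/-- The 2-fusion system of the Mathieu group M₂₄ (as the explicit permutation group of the 24 points preserving the binary Golay code) on a Sylow 2-subgroup is simple: saturated, over a nontrivial 2-group, with no normal subsystem other than the trivial one and itself. -/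
theorem result (S : Sylow 2 Cfsg.M24) : (Cfsg.groupFusionSystem (S : Subgroup Cfsg.M24)).IsSimple 2 := by
  exact CodeFus.isSimple_of_cert M24 inM24B (fun g => Compute.mem_M24_of_check) cert
    groupB_ok squareB_ok centerB_ok histB_ok closedB_ok (m := 239085)
    (by rw [Compute.card_m24]; decide +kernel) (by decide) S

end Cfsg.Agent.S5170
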