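import Cfsg.Statements.S2064
import Cfsg.Agent.OutMathieu.Main
import Cfsg.Agent.OutMathieu.M24ClassA
import Cfsg.Agent.OutMathieu.M24ClassB
import Cfsg.Agent.OutMathieu.M24ClassC
import Cfsg.Agent.Compute.Mathieu
import Cfsg.Agent.S5170

set_option autoImplicit false
open Cfsg

namespace Cfsg.Agent.S2064

open Cfsg.Agent.OutMathieu
open Cfsg.Agent.Compute (rep24 allBelow_eq_true)
open Cfsg.Agent.S5170 (cert)
open Cfsg.Agent.Compute (inM24B)

theorem hbase : certM24.baseB inM24B = true := by decide +kernel

theorem hpow : certM24.powB inM24B = true := by decide +kernel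

theorem hz : certM24.zB inM24B cert.z = true := by decide +kernel

theorem hsurv : certM24.survB = true := by decide +kernel

theorem hslp : rep24.slpCheck slpM24 [rep24.one, certM24.a, certM24.b]
    Compute.m24aL0.gens = true := by decide +kernel

theorem hzmove : rep24.okb cert.z = true ∧
    Compute.allBelow 24 (fun i => Nat.beq (rep24.act cert.z i) i) = false := by decide +kernel

theorem hlen : certM24.orbs.length = 495 := by decide +kernel

theorem hstep : ∀ j < certM24.orbs.length, ∀ i < certM24.p, certM24.stepB j i = true := by
  intro j hj i hi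
  rw [hlen] at hj
  have key : ∀ lo, certM24.classB lo 165 = true → ∀ k < 165, certM24.stepB (lo + k) i = true := by
    intro lo h k hk
    rw [OCert.classB, allBelow_eq_true] at h
    have h' := h k hk
    rw [allBelow_eq_true] at h'
    exact h' i hi
  rcases (show j < 165 ∨ (165 ≤ j ∧ j < 330) ∨ 330 ≤ j by omega) with h | ⟨h, h'⟩ | h
  · simpa using key 0 m24ClassA j h
  · simpa [show 165 + (j - 165) = j by omega] using key 165 m24ClassB (j - 165) (by omega)
  · simpa [show 330 + (j - 330) = j by omega] using key 330 m24ClassC (j - 330) (by omega)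

/-- The outer automorphism group of M24 is trivial. -/
theorem result : Nat.card (Cfsg.Out ↥Cfsg.M24) = 1 := by
  have hle : Cfsg.M24 ≤ Cfsg.M24 := le_rfl
  have hcard := card_out_le_of_cert hle (fun g => Compute.mem_M24_of_check) (gens := Compute.m24aL0.gens)
    Compute.m24_eq certM24 cert slpM24 hslp S5170.groupB_ok S5170.centerB_ok hzmove hbase hpow
    hstep hz hsurv (m := 239085) (by rw [Compute.card_m24]; decide +kernel) (by decide)
    (show Nat.Prime 23 by norm_num)
    (by rw [Compute.card_m24, show certM24.p = 23 from rfl]; decide)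
  exact le_antisymm (hcard.trans (le_of_eq rfl)) Nat.card_pos

end Cfsg.Agent.S2064
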