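import Cfsg.Statements.S1572
import Cfsg.Agent.Leech.MonoMax
-- import your own Cfsg.Agent.* helpers here

set_option autoImplicit false
open scoped Pointwise
open Cfsg

namespace Cfsg.Agent.S1572

/-- The stabiliser of the standard cross is a maximal proper subgroup of the lattice's automorphism group. -/
theorem result (H : Subgroup ↥Cfsg.Co0) (hH : (H : Set ↥Cfsg.Co0) = {g : ↥Cfsg.Co0 | (∀ v : ↥Cfsg.leechLattice, (v : Cfsg.GolayPt → ℤ) ∈ Cfsg.stdCross → ((g • v : ↥Cfsg.leechLattice) : Cfsg.GolayPt → ℤ) ∈ Cfsg.stdCross)}) : IsCoatom H := by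
  classical
  have hmem : ∀ g : ↥Cfsg.Co0, g ∈ H ↔ Leech.KeepsCross g := fun g => Set.ext_iff.1 hH g
  refine ⟨fun htop => ?_, fun K hK => ?_⟩
  · obtain ⟨g, hg⟩ := Leech.trans32 Leech.eW
      (show sqNorm (Leech.eW : GolayPt → ℤ) = 32 by decide +kernel)
    have h := ((hmem g⁻¹).1 (htop ▸ Subgroup.mem_top _)).even_leechU
    rw [← show g • Leech.eW = Spor.leechU from Subtype.ext hg, inv_smul_smul] at h
    revert h
    decide +kernel
  obtain ⟨hle, g, hgK, hgH⟩ := SetLike.lt_iff_le_and_exists.1 hK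
  have hmono : ∀ k, Leech.KeepsCross k → k ∈ K := fun k hk => hle ((hmem k).2 hk)
  have hstab := Leech.stabU_le_of_moves K hmono hgK fun h => hgH ((hmem g).2 h)
  refine eq_top_iff.2 fun x _ => ?_
  have hU : sqNorm ((Spor.leechU : leechLattice) : GolayPt → ℤ) = 32 := by decide +kernel
  have hw : sqNorm ((x • Spor.leechU : leechLattice) : GolayPt → ℤ) = 32 := by
    rw [Leech.sqNorm_smul]; exact hU
  set w := x • Spor.leechU with hwdef
  obtain ⟨a, b, -, -, hab, t, ht, htb⟩ := Leech.exists_eq_abs (w : GolayPt → ℤ)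
    (fun i => (Leech.sq_le_norm _ i).trans (by omega)) ∅ (by simp)
  have h2 : (2 : ℤ) ∣ 1 + -t := by rcases sq_eq_one_iff.1 ht with rfl | rfl <;> norm_num
  obtain ⟨h, hh, hhe⟩ := Leech.exists_keeps_fourPair a b hab (-t) (by rw [neg_sq]; exact ht) h2
  obtain ⟨h', hh', hhe'⟩ := Leech.exists_keeps_fourPair none (some 0) (by simp) (-1) (by norm_num)
    (by norm_num)
  have hd : dotInt ((Spor.leechU : leechLattice) : GolayPt → ℤ)
      ((h⁻¹ • w : leechLattice) : GolayPt → ℤ) = 0 := by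
    rw [← Leech.dotInt_smul h, smul_inv_smul, Leech.dotInt_comm, hhe, Leech.dot_fourPair, htb]
    linear_combination (-4 * (w : GolayPt → ℤ) a) * ht
  obtain ⟨k, hk1, hk2⟩ := Leech.trans_orth Spor.leechU Leech.eX (h⁻¹ • w) hU
    (by decide +kernel) (by rw [Leech.sqNorm_smul]; exact hw) (by decide +kernel) hd
  have hkx : x⁻¹ * (h * k * h') ∈ Leech.stabU := by
    show (x⁻¹ * (h * k * h')) • Spor.leechU = Spor.leechU
    rw [mul_smul, mul_smul, mul_smul, hhe', inv_smul_eq_iff, ← hwdef]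
    rw [show (Leech.fourPair none (some 0) 1 (-1) _ : leechLattice) = Leech.eX from rfl, hk2,
      smul_inv_smul]
  have hhk : h * k * h' ∈ K := mul_mem (mul_mem (hmono h hh) (hstab hk1)) (hmono h' hh')
  have := mul_mem hhk (inv_mem (hstab hkx))
  rwa [mul_inv_rev, inv_inv, mul_inv_cancel_left] at this

end Cfsg.Agent.S1572
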