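import Cfsg.Statements.S5167
import Cfsg.Agent.GroupSub.CodeFus
import Cfsg.Agent.Compute.M24Base
import Cfsg.Agent.GroupSub.M12Base

set_option autoImplicit false
open Cfsg

namespace Cfsg.Agent.S5167

open Cfsg.Agent.GroupSub
open Cfsg.Agent.Compute (rep24 inM24B)

open Cfsg.Agent.Compute (imgMask dodecadMask)

/-- Membership test for M12. -/
noncomputable def inM12B (g : ℕ) : Bool := inM24B g && Nat.beq (imgMask g dodecadMask) dodecadMask

/-- Certificate for a Sylow 2-subgroup. -/
def cert : CodeFus.Cert where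
  xs := [0xa45f7748b03cc80ad90d5b14930823,
    0xac5c75a0ada3e43bd8229995062480,
    0xbd9f474942acc833c509598ad64020,
    0xb94f49c9505b9237c5a4a82c860826,
    0x9956ea4141adc8c3c50d79ac91c840,
    0xa58f7706225cd2c7a9a4a98a81c240]
  k := 3
  pc := [(4, [13, 6, 4, 8, 16]),
    (12, [13, 10, 4, 8]),
    (0, [1, 6, 4]),
    (0, [1, 2]),
    (1, [1]),
    (0, [])]
  z := 0xa58f7706225cd2c7a9a4a98a81c240
  cols := [130, 260, 768, 776, 792, 1284]
  hists := [[0, 0, 0, 3, 1, 4],
    [0, 0, 0, 8, 0, 0],
    [8, 0, 0, 0, 0, 0],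
    [0, 0, 4, 0, 0, 4],
    [0, 8, 0, 0, 0, 0],
    [0, 0, 4, 4, 0, 0],
    [0, 0, 4, 0, 0, 4],
    [8, 0, 0, 0, 0, 0]]
  roots := [[41], [10], [22]]
  steps := [([0], 0x2be9650ea07442899e50ba5622198d, 0x3d2355a5c8b3c012cccc50ae3911b0),
    ([0], 0xb2eb1531c0b9444a4e0d3c9e940cc1, 0x7deab51a892c512b4c83385cc13410),
    ([0, 1, 2], 0x7cee7549622d026b398d892a84c060, 0xaacaeb48e2ba9098cc64a31e60c1a0),
    ([0], 0xa29d3b1221a94403be43b996c4c10d, 0x3cdf7a2622554042d861599d24360c),
    ([2, 3, 4], 0x728b75c2d28d42d9d184780e332502, 0xa45ca5c1f23dd899d84128ea8201a6)]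
  fin := [[3, 2],
    [5, 3],
    [0, 1, 3],
    [0, 1],
    [1, 4, 3],
    [0]]

theorem groupB_ok : cert.groupB inM12B = true := by decide +kernel

theorem squareB_ok : cert.squareB = true := by decide +kernel

theorem centerB_ok : cert.centerB = true := by decide +kernel

theorem histB_ok : cert.histB = true := by decide +kernel

theorem closedB_ok : cert.closedB inM12B = true := by decide +kernel

/-- The 2-fusion system of the Mathieu group M₁₂ (as the explicit permutation group carved out of the automorphism group of the binary Golay code) on a Sylow 2-subgroup is simple: saturated, over a nontrivial 2-group, with no normal subsystem other than the trivial one and itself. -/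
theorem result (S : Sylow 2 Cfsg.Spor.M12) : (Cfsg.groupFusionSystem (S : Subgroup Cfsg.Spor.M12)).IsSimple 2 := by
  exact CodeFus.isSimple_of_cert Cfsg.Spor.M12 inM12B (fun _ => M12Base.mem_M12_of_check) cert
    groupB_ok squareB_ok centerB_ok histB_ok closedB_ok (m := 1485)
    (by rw [M12Base.card_m12]; decide +kernel) (by decide) S

end Cfsg.Agent.S5167
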