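import Cfsg.Statements.S2061
import Cfsg.Agent.OutMathieu.Main
import Cfsg.Agent.OutMathieu.DataM12
import Cfsg.Agent.Compute.Mathieu
import Cfsg.Agent.S5167

set_option autoImplicit false
open Cfsg

namespace Cfsg.Agent.S2061

open Cfsg.Agent.OutMathieu
open Cfsg.Agent.Compute (rep24 allBelow_eq_true)
open Cfsg.Agent.S5167 (cert inM12B)

theorem hbase : certM12.baseB inM12B = true := by decide +kernel

theorem hpow : certM12.powB inM12B = true := by decide +kernel

theorem hclass : certM12.classB 0 45 = true := by decide +kernel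

theorem hz : certM12.zB inM12B cert.z = true := by decide +kernel

theorem hsurv : certM12.survB = true := by decide +kernel

theorem hslp : rep24.slpCheck slpM12 [rep24.one, certM12.a, certM12.b]
    Compute.m12L0.gens = true := by decide +kernel

theorem hzmove : rep24.okb cert.z = true ∧
    Compute.allBelow 24 (fun i => Nat.beq (rep24.act cert.z i) i) = false := by decide +kernel

theorem hlen : certM12.orbs.length = 45 := by decide +kernel

theorem hstep : ∀ j < certM12.orbs.length, ∀ i < certM12.p, certM12.stepB j i = true := by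
  intro j hj i hi
  rw [hlen] at hj
  have h := hclass
  rw [OCert.classB, allBelow_eq_true] at h
  have h' := h j hj
  rw [allBelow_eq_true, Nat.zero_add] at h'
  exact h' i hi

theorem hsep : sepB certM12.a certM12.b wordsM12 0 = true := by decide +kernel

theorem hprop : Compute.propB [] (Nat.xor (2 ^ 24 - 1) 0) = true := by decide +kernel

theorem houter : Compute.inM24B outerM12 = true ∧ Nat.beq (Compute.imgMask outerM12 Compute.dodecadMask) Compute.dodecadMask = false := by
  decide +kernel

theorem imgLt : Compute.imgMask outerM12 Compute.dodecadMask < 2 ^ 24 := by decide +kernel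

theorem hnorm_check : (Nat.beq (rep24.mul outerM12 outerInvM12) rep24.one && rep24.okb outerInvM12 &&
    Compute.m12L0.gens.all (fun s => rep24.okb s &&
      inM12B (rep24.mul (rep24.mul outerM12 s) outerInvM12))) = true := by
  decide +kernel

/-- The outer automorphism group of M12 has order two. -/
theorem result : Nat.card (Cfsg.Out ↥Cfsg.Spor.M12) = 2 := by
  have hle : Cfsg.Spor.M12 ≤ Cfsg.M24 := fun _ hx => hx.1
  have hcard := card_out_le_of_cert hle (fun _ => GroupSub.M12Base.mem_M12_of_check) (gens := Compute.m12L0.gens)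
    Compute.sporM12_eq certM12 cert slpM12 hslp S5167.groupB_ok S5167.centerB_ok hzmove hbase hpow
    hstep hz hsurv (m := 1485) (by rw [Compute.card_m12]; decide +kernel) (by decide)
    (show Nat.Prime 11 by norm_num)
    (by rw [Compute.card_m12, show certM12.p = 11 from rfl]; decide)
  refine le_antisymm (hcard.trans (le_of_eq rfl)) ?_
  obtain ⟨hGok, hGM⟩ := Compute.mem_M24_of_check houter.1
  have hbase' := hbase
  simp only [OCert.baseB, Bool.and_eq_true] at hbase'
  obtain ⟨⟨⟨⟨⟨⟨⟨⟨⟨⟨⟨⟨ha, hb⟩, -⟩, -⟩, -⟩, -⟩, -⟩, -⟩, -⟩, -⟩, -⟩, -⟩, -⟩ := hbase'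
  have hn := hnorm_check
  simp only [Bool.and_eq_true, List.all_eq_true, Nat.beq_eq] at hn
  obtain ⟨⟨hone, hGi⟩, hgens⟩ := hn
  have hGiok := rep24.okb_sound _ hGi
  have hinv : rep24.den outerInvM12 = (rep24.den outerM12)⁻¹ :=
    eq_inv_of_mul_eq_one_right (by rw [← rep24.den_mul _ _ hGok hGiok, hone, rep24.den_one])
  have hA := (fun _ => GroupSub.M12Base.mem_M12_of_check) _ ha
  have hB := (fun _ => GroupSub.M12Base.mem_M12_of_check) _ hb
  refine two_le_card_out hle (rep24.den outerM12) hGM ?_ ?_ _ _ hA.2 hB.2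
    (fun c hc hca hcb => eq_one_of_commute hA.1 hB.1 hsep hprop hc hca hcb)
  · intro hmem
    have h := (GroupSub.M12Base.mem_M12_iff.1 hmem).2
    rw [Compute.smul_suppM hGok] at h
    refine Bool.eq_false_iff.mp houter.2 ?_
    rw [Nat.beq_eq]
    exact (Compute.suppM_eq_iff imgLt (by decide +kernel)).mp h
  · have hspan : Cfsg.Spor.M12 = rep24.span Compute.m12L0.gens := Compute.sporM12_eq
    conv_lhs => rw [hspan, Compute.Rep.span, MonoidHom.map_closure]
    rw [Subgroup.closure_le]
    rintro _ ⟨_, ⟨g, hg, rfl⟩, rfl⟩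
    obtain ⟨hgo, hgc⟩ := hgens g hg
    have hgok := rep24.okb_sound _ hgo
    have := ((fun _ => GroupSub.M12Base.mem_M12_of_check) _ hgc).2
    rw [rep24.den_mul _ _ (rep24.ok_mul _ _ hGok hgok) hGiok, rep24.den_mul _ _ hGok hgok, hinv] at this
    exact this

end Cfsg.Agent.S2061
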