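
import Cfsg.Statements.S0992
import Cfsg.Agent.SmallOrder.Two

set_option autoImplicit false
open Cfsg

namespace Cfsg.Agent.S0992

/-- Let G be a non-abelian finite simple group of even order not divisible by 8, and T a Sylow 2-subgroup. Then T is a Klein four-group and the centralizer of T has index 3 in the normalizer of T. -/
theorem result {G : Type*} [Group G] [Finite G] [IsSimpleGroup G] (hG : ¬ IsMulCommutative G) (h2 : Even (Nat.card G)) (h8 : ¬ 8 ∣ Nat.card G) (T : Sylow 2 G) : IsKleinFour ↥(T : Subgroup G) ∧ (Subgroup.centralizer ((T : Subgroup G) : Set G)).relIndex (Subgroup.normalizer ((T : Subgroup G) : Set G)) = 3 := by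
  classical
  have h2p : Fact (Nat.Prime 2) := ⟨Nat.prime_two⟩
  have hmin := SmallOrder.minFac_eq_two h2
  have h2' : 2 ∣ Nat.card G := even_iff_two_dvd.1 h2
  have hnc := SmallOrder.not_isCyclic_sylow hG hmin T
  have hTc : Nat.card (T : Subgroup G) = 4 := by
    obtain ⟨k, hk⟩ := T.isPGroup'.exists_card_eq
    have h1 : k ≤ 2 := by
      by_contra! hlt
      apply h8
      calc (8 : ℕ) = 2 ^ 3 := by norm_num
        _ ∣ 2 ^ k := pow_dvd_pow 2 hlt
        _ = Nat.card (T : Subgroup G) := hk.symm
        _ ∣ Nat.card G := (T : Subgroup G).card_subgroup_dvd_card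
    rcases Nat.lt_or_ge k 2 with h | h
    · interval_cases k
      · exact absurd ((Subgroup.card_eq_one).1 (by simpa using hk)) (T.ne_bot_of_dvd_card h2')
      · exact absurd (isCyclic_of_prime_card (p := 2) (by simpa using hk)) hnc
    · rw [hk, show k = 2 by omega]; norm_num
  have hK : IsKleinFour (T : Subgroup G) := SmallOrder.isKleinFour_of_not_cyclic hTc hnc
  refine ⟨hK, ?_⟩
  have hTcomm : IsMulCommutative (T : Subgroup G) :=
    ⟨⟨fun a b => mul_comm_of_exponent_two hK.exponent_two a b⟩⟩
  set N := Subgroup.normalizer ((T : Subgroup G) : Set G) with hN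
  set C := Subgroup.centralizer ((T : Subgroup G) : Set G) with hC
  have hTC : (T : Subgroup G) ≤ C := fun a ha => Subgroup.mem_centralizer_iff.2 fun b hb =>
    (congrArg Subtype.val ((IsMulCommutative.is_comm (M := (T : Subgroup G))).comm ⟨a, ha⟩ ⟨b, hb⟩)).symm
  have hodd : ¬ 2 ∣ C.relIndex N := fun h => T.not_dvd_index
    (h.trans ((Subgroup.relIndex_dvd_of_le_left N hTC).trans
      (Subgroup.relIndex_dvd_index_of_le Subgroup.le_normalizer)))
  have hne : C.relIndex N ≠ 1 := fun h =>
    SmallOrder.not_normalizer_le_centralizer hG h2' T (Subgroup.relIndex_eq_one.1 h)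
  -- the automorphisms permute the three involutions
  let f : MulAut (T : Subgroup G) →* Equiv.Perm {x : (T : Subgroup G) // x ≠ 1} :=
    { toFun := fun σ => σ.toEquiv.subtypeEquiv fun x => by simp
      map_one' := Equiv.ext fun x => Subtype.ext rfl
      map_mul' := fun σ τ => Equiv.ext fun x => Subtype.ext rfl }
  have hf : Function.Injective f := fun σ τ h => MulEquiv.ext fun x => by
    by_cases hx : x = 1
    · simp [hx]
    · exact congrArg Subtype.val (Equiv.congr_fun h ⟨x, hx⟩)
  have h6 : C.relIndex N ∣ 6 := by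
    have h1 := Subgroup.card_dvd_of_injective
      (f.comp (QuotientGroup.kerLift (T : Subgroup G).normalizerMonoidHom))
      (hf.comp (QuotientGroup.kerLift_injective _))
    rw [Subgroup.normalizerMonoidHom_ker, ← Subgroup.index, ← Subgroup.relIndex, Nat.card_perm] at h1
    have := Fintype.ofFinite (T : Subgroup G)
    rw [Nat.card_eq_fintype_card, Fintype.card_subtype_compl, Fintype.card_subtype_eq,
      ← Nat.card_eq_fintype_card, hTc] at h1
    exact h1
  have := Nat.le_of_dvd (by norm_num) h6
  interval_cases C.relIndex N <;> omega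


end Cfsg.Agent.S0992
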