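
import Cfsg.Statements.S1012
import Cfsg.Agent.SmallOrder.Two

set_option autoImplicit false
open Cfsg

namespace Cfsg.Agent.S1012

/-- A group of order 24 containing no element of order 6 is isomorphic to the symmetric group of degree 4. -/
theorem result {G : Type*} [Group G] [Finite G] (h : Nat.card G = 24) (h6 : ∀ g : G, orderOf g ≠ 6) : Nonempty (G ≃* Equiv.Perm (Fin 4)) := by
  classical
  have h3 : Fact (Nat.Prime 3) := ⟨by norm_num⟩
  have hG : Nat.card G = 3 ^ 1 * 8 := by rw [h]; norm_num
  have hPc : ∀ P : Sylow 3 G, Nat.card (P : Subgroup G) = 3 := fun P => by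
    rw [SmallOrder.card_sylow_eq_pow hG (by norm_num) P, pow_one]
  obtain ⟨P⟩ : Nonempty (Sylow 3 G) := Sylow.nonempty
  set N := Subgroup.normalizer ((P : Subgroup G) : Set G) with hN
  -- no element of order 3 commutes with an involution
  have hno : ∀ s t : G, orderOf s = 3 → orderOf t = 2 → ¬ Commute s t := fun s t hs ht hc =>
    h6 (s * t) (by rw [hc.orderOf_mul_eq_mul_orderOf_of_coprime (by rw [hs, ht]; norm_num), hs, ht])
  obtain ⟨s, hs⟩ := exists_prime_orderOf_dvd_card' (G := (P : Subgroup G)) 3 (by rw [hPc])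
  have hsz : Subgroup.zpowers (s : G) = (P : Subgroup G) :=
    Subgroup.eq_of_le_of_card_ge (Subgroup.zpowers_le.2 s.2)
      (by rw [hPc, Nat.card_zpowers, Subgroup.orderOf_coe, hs])
  have hCc : ¬ 2 ∣ Nat.card (Subgroup.centralizer ((P : Subgroup G) : Set G)) := by
    intro hd
    have : Fact (Nat.Prime 2) := ⟨Nat.prime_two⟩
    obtain ⟨t, ht⟩ := exists_prime_orderOf_dvd_card' 2 hd
    refine hno s t (by rw [Subgroup.orderOf_coe, hs]) (by rw [Subgroup.orderOf_coe, ht]) ?_
    exact Subgroup.mem_centralizer_iff.1 t.2 _ s.2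
  obtain ⟨e, he, hNc, -⟩ := SmallOrder.exists_normalizer_index (P : Subgroup G)
  rw [SmallOrder.card_mulAut_of_prime (hPc P)] at he
  have hmul := SmallOrder.card_sylow_mul_card_normalizer P
  rw [h] at hmul
  have hd := SmallOrder.card_sylow_dvd hG (by norm_num)
  have hm := SmallOrder.card_sylow_mod (G := G) 3
  obtain ⟨n, hn⟩ : ∃ n, Nat.card (Sylow 3 G) = n := ⟨_, rfl⟩
  obtain ⟨c, hc⟩ : ∃ c, Nat.card (Subgroup.centralizer ((P : Subgroup G) : Set G)) = c := ⟨_, rfl⟩
  rw [hn] at hmul hd hm
  rw [hc] at hNc hCc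
  rw [hNc] at hmul
  have hn4 : n = 4 := by
    have he2 := Nat.le_of_dvd (by norm_num) he
    have hn8 := Nat.le_of_dvd (by norm_num) hd
    interval_cases n <;> first | omega | (interval_cases e <;> omega)
  subst hn4
  have hN6 : Nat.card N = 6 := by rw [hN, hNc]; linarith
  have hidx : N.index = 4 := P.card_eq_index_normalizer.symm.trans hn
  -- the kernel of the action on the four cosets is trivial
  have hK : N.normalCore = ⊥ := by
    by_contra hne
    set K := N.normalCore with hKdef
    have hd6 : Nat.card K ∣ 6 := hN6 ▸ Subgroup.card_dvd_of_le (Subgroup.normalCore_le N)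
    have hK1 : Nat.card K ≠ 1 := fun e => hne (Subgroup.card_eq_one.1 e)
    have hsub : Subsingleton (Sylow 3 G) → False := fun hs => by
      rw [Nat.card_eq_one_iff_unique.2 ⟨hs, ⟨P⟩⟩] at hn
      omega
    by_cases h3d : 3 ∣ Nat.card K
    · -- `P` would be normal
      apply hsub
      obtain ⟨t, ht⟩ := exists_prime_orderOf_dvd_card' (G := K) 3 h3d
      have htN : (t : G) ∈ N := Subgroup.normalCore_le N t.2
      have hp' : IsPGroup 3 (Subgroup.zpowers (t : G)) :=
        IsPGroup.of_card (n := 1) (by rw [Nat.card_zpowers, Subgroup.orderOf_coe, ht, pow_one])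
      have htP : Subgroup.zpowers (t : G) = (P : Subgroup G) := by
        refine Subgroup.eq_of_le_of_card_ge ?_ (by rw [hPc, Nat.card_zpowers, Subgroup.orderOf_coe, ht])
        intro x hx
        have h1 : x ∈ Subgroup.zpowers (t : G) ⊓ N := ⟨hx, Subgroup.zpowers_le.2 htN hx⟩
        rw [hN] at h1
        erw [hp'.inf_normalizer_sylow P] at h1
        exact h1.2
      have hPK : (P : Subgroup G) ≤ K := htP ▸ Subgroup.zpowers_le.2 t.2
      refine ⟨fun S T => ?_⟩
      have key : ∀ S : Sylow 3 G, (S : Subgroup G) = P := by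
        intro S
        obtain ⟨g, rfl⟩ := MulAction.exists_smul_eq G P S
        refine Subgroup.eq_of_le_of_card_ge ?_ (by rw [hPc, hPc])
        intro x hx
        have hxK : x ∈ K := by
          rw [Sylow.coe_subgroup_smul] at hx
          obtain ⟨y, hy, rfl⟩ := hx
          exact (Subgroup.normalCore_normal N).conj_mem y (hPK hy) g
        have hp'' : IsPGroup 3 ((g • P : Sylow 3 G) : Subgroup G) := Sylow.isPGroup' _
        have h1 : x ∈ ((g • P : Sylow 3 G) : Subgroup G) ⊓ N := ⟨hx, Subgroup.normalCore_le N hxK⟩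
        rw [hN] at h1
        erw [hp''.inf_normalizer_sylow P] at h1
        exact h1.2
      exact Sylow.ext ((key S).trans (key T).symm)
    · -- a central involution
      have hK2 : Nat.card K = 2 := by
        have := Nat.le_of_dvd (by norm_num) hd6
        interval_cases Nat.card K <;> omega
      have : Fact (Nat.Prime 2) := ⟨Nat.prime_two⟩
      obtain ⟨t, ht⟩ := exists_prime_orderOf_dvd_card' (G := K) 2 (by rw [hK2])
      refine hno s t (by rw [Subgroup.orderOf_coe, hs]) (by rw [Subgroup.orderOf_coe, ht]) ?_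
      have hmem : (s : G) * t * (s : G)⁻¹ ∈ K := (Subgroup.normalCore_normal N).conj_mem _ t.2 _
      have hcard : ∀ a : K, a = 1 ∨ a = t := fun a => by
        by_contra! hh
        have := (Nat.card_eq_two_iff' (1 : K)).1 hK2
        obtain ⟨b, hb, hb'⟩ := this
        have ht1 : t ≠ 1 := fun e => by rw [e, orderOf_one] at ht; omega
        exact hh.2 ((hb' a hh.1).trans (hb' t ht1).symm)
      rcases hcard ⟨_, hmem⟩ with h1 | h1
      · have h2 : (s : G) * t * (s : G)⁻¹ = 1 := congrArg Subtype.val h1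
        rw [conj_eq_one_iff] at h2
        rw [show t = 1 from Subtype.ext h2, orderOf_one] at ht
        omega
      · exact mul_inv_eq_iff_eq_mul.1 (congrArg Subtype.val h1)
  let e4 : (G ⧸ N) ≃ Fin 4 := (Finite.equivFin (G ⧸ N)).trans (finCongr hidx)
  let f : G →* Equiv.Perm (Fin 4) :=
    (e4.permCongrHom : Equiv.Perm (G ⧸ N) →* Equiv.Perm (Fin 4)).comp
      (MulAction.toPermHom G (G ⧸ N))
  have hf : Function.Injective f := by
    refine e4.permCongrHom.injective.comp ?_
    rw [← MonoidHom.ker_eq_bot_iff, ← Subgroup.normalCore_eq_ker, hK]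
  exact ⟨MulEquiv.ofBijective f ((Nat.bijective_iff_injective_and_card f).2
    ⟨hf, by rw [h, Nat.card_perm, Nat.card_fin]; rfl⟩)⟩


end Cfsg.Agent.S1012
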