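import Cfsg.Statements.S1496
import Cfsg.Agent.Coprime.Basic

set_option autoImplicit false
open Cfsg
open scoped Pointwise

namespace Cfsg.Agent.S1496

/-- Let H be a subgroup of the finite group G and g an element normalising H whose order is coprime to the order of H. Then for every h ∈ H there are x ∈ H and c ∈ H commuting with g such that x * (h * g) * x⁻¹ = c * g. -/
theorem result {G : Type*} [Group G] [Finite G] (H : Subgroup G) (g : G) (hg : g ∈ Subgroup.normalizer (H : Set G)) (hcop : Nat.Coprime (orderOf g) (Nat.card H)) (h : G) (hh : h ∈ H) : ∃ x ∈ H, ∃ c ∈ H, c * g = g * c ∧ x * (h * g) * x⁻¹ = c * g := by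
  have hAK : Subgroup.zpowers g ≤ Subgroup.normalizer (H : Set G) := by
    rwa [Subgroup.zpowers_le]
  have hcop' : (Nat.card (Subgroup.zpowers g)).Coprime (Nat.card H) := by
    rwa [Nat.card_zpowers]
  have hKS : H ⊔ Subgroup.zpowers (h * g) = H ⊔ Subgroup.zpowers g := by
    have hg' : g ∈ H ⊔ Subgroup.zpowers (h * g) := by
      have := Subgroup.mul_mem_sup (T := Subgroup.zpowers (h * g)) (H.inv_mem hh)
        (Subgroup.mem_zpowers (h * g))
      rwa [inv_mul_cancel_left] at this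
    refine le_antisymm (sup_le le_sup_left ?_) (sup_le le_sup_left ?_)
    · rw [Subgroup.zpowers_le]
      exact Subgroup.mul_mem_sup hh (Subgroup.mem_zpowers g)
    · rwa [Subgroup.zpowers_le]
  obtain ⟨B, hB, hBc⟩ := Cfsg.Agent.Coprime.exists_le_card_eq hAK hcop' hKS
  have hsolv : Group.IsSolvable (Subgroup.zpowers g) :=
    Group.isSolvable_of_comm fun a b => IsMulCommutative.is_comm.comm a b
  obtain ⟨k, hk, hkB⟩ := Cfsg.Agent.Coprime.exists_conj_eq hAK hcop' (Or.inl hsolv)
    (hB.trans (le_sup_right.trans_eq hKS)) hBc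
  have hgm : g ∈ MulAut.conj k • Subgroup.zpowers (h * g) :=
    Subgroup.pointwise_smul_le_pointwise_smul_iff.mpr hB (hkB.symm ▸ Subgroup.mem_zpowers g)
  rw [Cfsg.Agent.Coprime.mem_conj_smul] at hgm
  obtain ⟨i, hi⟩ := Subgroup.mem_zpowers_iff.mp hgm
  set u := k * (h * g) * k⁻¹ with hu
  have hug : u * g = g * u := by
    have hc : Commute (h * g) (k⁻¹ * g * k) := hi ▸ Commute.self_zpow _ i
    calc u * g = k * ((h * g) * (k⁻¹ * g * k)) * k⁻¹ := by simp [hu, mul_assoc]
      _ = k * ((k⁻¹ * g * k) * (h * g)) * k⁻¹ := by rw [hc.eq]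
      _ = g * u := by simp [hu, mul_assoc]
  refine ⟨k, hk, u * g⁻¹, ?_, ?_, by simp [hu, mul_assoc]⟩
  · have h1 : g * k⁻¹ * g⁻¹ ∈ H := (Subgroup.mem_normalizer_iff.mp hg _).mp (H.inv_mem hk)
    simpa [hu, mul_assoc] using H.mul_mem (H.mul_mem hk hh) h1
  · rw [inv_mul_cancel_right, ← mul_assoc, ← hug, mul_inv_cancel_right]

end Cfsg.Agent.S1496
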