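import Cfsg.Statements.S1514
import Cfsg.Agent.Coherence.Basic

set_option autoImplicit false
open Cfsg

namespace Cfsg.Agent.S1514

/-- Let S be a nonempty set of irreducible characters of the finite group L, closed under complex conjugation and containing no real-valued member, and τ a linear isometry on the integer combinations of S vanishing at 1, with values virtual characters of G vanishing at 1. Then there is a choice R making (S, τ, R) a coherence system. -/
theorem result {L : Type*} [Group L] [Fintype L] {G : Type*} [Group G] [Fintype G] (S : Set (L → ℂ)) (hS : S.Nonempty) (hirr : ∀ χ ∈ S, Cfsg.IsIrrCharacter L χ) (hconj : ∀ χ ∈ S, Cfsg.conjFun χ ∈ S ∧ Cfsg.conjFun χ ≠ χ) (τ : (L → ℂ) → (G → ℂ)) (hτ : Cfsg.IsLinearIsometryOn (Cfsg.zspanOn S {1}ᶜ) τ) (hτ1 : ∀ α ∈ Cfsg.zspanOn S {1}ᶜ, τ α 1 = 0) : ∃ R : (L → ℂ) → Finset (G → ℂ), Cfsg.IsCoherenceSystem S τ R := by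
  classical
  have key : ∀ χ ∈ S, ∃ p : Cfsg.IrrCharacter G × Cfsg.IrrCharacter G, p.1 ≠ p.2 ∧
      τ (χ - Cfsg.conjFun χ) = (p.1 : G → ℂ) - (p.2 : G → ℂ) := by
    intro χ hχ
    have hm := Coherence.sub_conjFun_mem (Char.IsIrr.isCharacter (hirr χ hχ)) hχ (hconj χ hχ).1
    obtain ⟨μ, ν, hne, he⟩ := Coherence.norm_two_decomp (hτ.2.2.2 _ hm)
      (by
        rw [hτ.2.2.1 _ hm _ hm]
        simp only [Char.classInner_sub_left, Char.classInner_sub_right,
          Char.classInner_irr_self (hirr χ hχ),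
          Char.classInner_irr_self (hirr _ (hconj χ hχ).1),
          Char.classInner_irr_ne (hirr χ hχ) (hirr _ (hconj χ hχ).1) (hconj χ hχ).2.symm,
          Char.classInner_irr_ne (hirr _ (hconj χ hχ).1) (hirr χ hχ) (hconj χ hχ).2]
        norm_num)
      (hτ1 _ hm)
    exact ⟨(μ, ν), hne, he⟩
  choose p hp1 hp2 using key
  let R : (L → ℂ) → Finset (G → ℂ) := fun χ =>
    if h : χ ∈ S then {((p χ h).1 : G → ℂ), -((p χ h).2 : G → ℂ)} else ∅
  have hne : ∀ χ (h : χ ∈ S), ((p χ h).1 : G → ℂ) ≠ -((p χ h).2 : G → ℂ) := by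
    intro χ h e
    obtain ⟨a, ha, ea⟩ := Char.IsIrr.degree (p χ h).1.2
    obtain ⟨b, hb, eb⟩ := Char.IsIrr.degree (p χ h).2.2
    have h1 := congrFun e 1
    rw [Pi.neg_apply, ea, eb] at h1
    have h2 : ((a + b : ℕ) : ℂ) = 0 := by push_cast; linear_combination h1
    have h3 : a + b = 0 := by exact_mod_cast h2
    omega
  have hR : ∀ χ (h : χ ∈ S) α, α ∈ R χ →
      α = ((p χ h).1 : G → ℂ) ∨ α = -((p χ h).2 : G → ℂ) := by
    intro χ h α hα
    simpa [R, h] using hα
  refine ⟨R, ⟨hS, fun χ h => Char.IsIrr.isCharacter (hirr χ h), fun χ h => (hconj χ h).1,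
    fun χ h => (hconj χ h).2, hτ, hτ1, fun χ hχ φ hφ hn =>
    Char.classInner_irr_ne (hirr χ hχ) (hirr φ hφ) hn, ?_, ?_, ?_, ?_⟩⟩
  · intro χ h α hα β hβ
    have h12 := Char.classInner_irr_ne (p χ h).1.2 (p χ h).2.2
      fun e => hp1 χ h (Subtype.ext e)
    have h21 := Coherence.inner_eq_zero_comm h12
    rcases hR χ h α hα with rfl | rfl <;> rcases hR χ h β hβ with rfl | rfl
    · simp [Char.classInner_irr_self (p χ h).1.2]
    · simp [hne χ h, Char.classInner_neg_right, h12]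
    · simp [(hne χ h).symm, Char.classInner_neg_left, h21]
    · simp [Char.classInner_neg_left, Char.classInner_neg_right,
        Char.classInner_irr_self (p χ h).2.2]
  · intro χ h α hα
    rcases hR χ h α hα with rfl | rfl
    · exact Coherence.SIrr.isGeneralized (Or.inl (p χ h).1.2)
    · exact Coherence.SIrr.isGeneralized (Coherence.SIrr.neg (Or.inl (p χ h).2.2))
  · intro χ h
    rw [hp2 χ h]
    simp [R, h, Finset.sum_pair (hne χ h), sub_eq_add_neg]
  · intro χ hχ φ hφ h1 h2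
    have hφc := (hconj φ hφ).1
    have hχc := (hconj χ hχ).1
    have hne1 : φ ≠ χ := fun e => by
      rw [e, Char.classInner_irr_self (hirr χ hχ)] at h1; exact one_ne_zero h1
    have hne2 : φ ≠ Cfsg.conjFun χ := fun e => by
      rw [e, Char.classInner_irr_self (hirr _ hχc)] at h2; exact one_ne_zero h2
    have hne3 : Cfsg.conjFun φ ≠ χ := fun e => hne2 (by rw [← e, Coherence.conjFun_conjFun])
    have hne4 : Cfsg.conjFun φ ≠ Cfsg.conjFun χ := fun e => hne1 (by
      rw [← Coherence.conjFun_conjFun φ, e, Coherence.conjFun_conjFun])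
    have hmφ := Coherence.sub_conjFun_mem (Char.IsIrr.isCharacter (hirr φ hφ)) hφ hφc
    have hmχ := Coherence.sub_conjFun_mem (Char.IsIrr.isCharacter (hirr χ hχ)) hχ hχc
    have hmix : Cfsg.classInner (((p φ hφ).1 : G → ℂ) - ((p φ hφ).2 : G → ℂ))
        (((1 : ℝ) : ℂ) • ((p χ hχ).1 : G → ℂ) - ((1 : ℝ) : ℂ) • ((p χ hχ).2 : G → ℂ)) = 0 := by
      rw [Complex.ofReal_one, one_smul, one_smul, ← hp2 φ hφ, ← hp2 χ hχ,
        hτ.2.2.1 _ hmφ _ hmχ]
      simp [Char.classInner_sub_left, Char.classInner_sub_right,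
        Char.classInner_irr_ne (hirr φ hφ) (hirr χ hχ) hne1,
        Char.classInner_irr_ne (hirr φ hφ) (hirr _ hχc) hne2,
        Char.classInner_irr_ne (hirr _ hφc) (hirr χ hχ) hne3,
        Char.classInner_irr_ne (hirr _ hφc) (hirr _ hχc) hne4]
    have hz1 := congrFun (hp2 φ hφ) 1
    have hz2 := congrFun (hp2 χ hχ) 1
    rw [hτ1 _ hmφ, Pi.sub_apply] at hz1
    rw [hτ1 _ hmχ, Pi.sub_apply] at hz2
    obtain ⟨e1, e2, e3, e4⟩ := Coherence.signed_cross (Or.inl (p φ hφ).1.2) (Or.inl (p φ hφ).2.2)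
      (Or.inl (p χ hχ).1.2) (Or.inl (p χ hχ).2.2) 1 1 one_ne_zero one_ne_zero
      (Char.classInner_irr_ne (p φ hφ).1.2 (p φ hφ).2.2 fun e => hp1 φ hφ (Subtype.ext e))
      (Char.classInner_irr_ne (p χ hχ).1.2 (p χ hχ).2.2 fun e => hp1 χ hχ (Subtype.ext e))
      hmix (sub_eq_zero.1 hz1.symm) (by simpa using sub_eq_zero.1 hz2.symm)
    intro α hα β hβ
    rcases hR φ hφ α hα with rfl | rfl <;> rcases hR χ hχ β hβ with rfl | rfl <;>
      simp [Char.classInner_neg_left, Char.classInner_neg_right, e1, e2, e3, e4]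

end Cfsg.Agent.S1514
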