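import Cfsg.Statements.S1517
import Cfsg.Agent.Coherence.System

set_option autoImplicit false
open Cfsg

namespace Cfsg.Agent.S1517

/-- Let (S, τ, R) be a coherence system from L to G such that φ 1 = ψ 1 for all φ, ψ ∈ S. Then (S, L minus 1, τ) is coherent. -/
theorem result {L : Type*} [Group L] [Fintype L] {G : Type*} [Group G] [Fintype G] (S : Set (L → ℂ)) (τ : (L → ℂ) → (G → ℂ)) (R : (L → ℂ) → Finset (G → ℂ)) (hS : Cfsg.IsCoherenceSystem S τ R) (hdeg : ∀ φ ∈ S, ∀ ψ ∈ S, φ 1 = ψ 1) : Cfsg.IsCoherent S {1}ᶜ τ := by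
  classical
  obtain ⟨χ₁, hχ₁⟩ := hS.nonempty
  have hfin := Coherence.System.finite hS
  have hne := fun φ (h : φ ∈ S) => Coherence.System.ne_zero hS h
  have hm : ∀ φ ∈ S, ∀ ψ ∈ S, φ - ψ ∈ Cfsg.zspanOn S {1}ᶜ := fun φ hφ ψ hψ =>
    Coherence.mem_zspanOn_compl_one.2 ⟨Coherence.zspan_sub (Coherence.mem_zspan_of_mem hφ)
      (Coherence.mem_zspan_of_mem hψ), by simp [hdeg φ hφ ψ hψ]⟩
  have hinn : ∀ φ ∈ S, ∀ ψ ∈ S, φ ≠ ψ → ψ ≠ Cfsg.conjFun φ →
      Cfsg.classInner (τ (φ - ψ)) (τ (φ - Cfsg.conjFun φ)) = Cfsg.classInner φ φ := by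
    intro φ hφ ψ hψ h1 h2
    rw [hS.isometry.2.2.1 _ (hm φ hφ ψ hψ) _ (Coherence.System.diff_mem hS hφ)]
    exact Coherence.System.diff_inner hS hφ (hS.orthogonal φ hφ ψ hψ h1)
      (hS.orthogonal _ (hS.conj_mem φ hφ) ψ hψ h2.symm)
  have hsqeq : ∀ φ ∈ S, ∀ ψ ∈ S, φ ≠ ψ → ψ ≠ Cfsg.conjFun φ →
      ∑ α ∈ R φ, ‖Cfsg.classInner (τ (φ - ψ)) α‖ ^ 2 = (Cfsg.classInner φ φ).re ∧
      ∀ χ ∈ S, Cfsg.classInner φ χ = 0 → Cfsg.classInner φ (Cfsg.conjFun χ) = 0 →
        Cfsg.classInner ψ χ = 0 → Cfsg.classInner ψ (Cfsg.conjFun χ) = 0 →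
        ∀ α ∈ R χ, Cfsg.classInner (τ (φ - ψ)) α = 0 := by
    intro φ hφ ψ hψ h1 h2
    have h2' : φ ≠ Cfsg.conjFun ψ := fun e => h2 (by rw [e, Coherence.conjFun_conjFun])
    obtain ⟨c, -, -, hle, -⟩ := Coherence.System.coeff hS hφ
      (hS.isometry.2.2.2 _ (hm φ hφ ψ hψ)) (hinn φ hφ ψ hψ h1 h2)
    obtain ⟨d, -, -, hle', -⟩ := Coherence.System.coeff hS hψ
      (hS.isometry.2.2.2 _ (hm ψ hψ φ hφ)) (hinn ψ hψ φ hφ h1.symm h2')
    have hflip : ∑ α ∈ R ψ, ‖Cfsg.classInner (τ (φ - ψ)) α‖ ^ 2 =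
        ∑ α ∈ R ψ, ‖Cfsg.classInner (τ (ψ - φ)) α‖ ^ 2 := by
      refine Finset.sum_congr rfl fun α _ => ?_
      rw [← neg_sub ψ φ, Coherence.iso_map_neg hS.isometry (hm ψ hψ φ hφ),
        Char.classInner_neg_left, norm_neg]
    have hnorm : (Cfsg.classInner (τ (φ - ψ)) (τ (φ - ψ))).re =
        (Cfsg.classInner φ φ).re + (Cfsg.classInner ψ ψ).re := by
      rw [hS.isometry.2.2.1 _ (hm φ hφ ψ hψ) _ (hm φ hφ ψ hψ)]
      simp [Char.classInner_sub_left, Char.classInner_sub_right,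
        hS.orthogonal φ hφ ψ hψ h1, hS.orthogonal ψ hψ φ hφ h1.symm]
    have hsimp : ∀ χ ∈ S, ∑ α ∈ R χ, ‖Cfsg.classInner (τ (φ - ψ)) α‖ ^ 2 /
        (Cfsg.classInner α α).re = ∑ α ∈ R χ, ‖Cfsg.classInner (τ (φ - ψ)) α‖ ^ 2 := fun χ hχ =>
      Finset.sum_congr rfl fun a ha => by simp [Coherence.System.R_self hS hχ ha]
    have hd : ∀ x ∈ R ψ, ∀ α ∈ R φ, Cfsg.classInner x α = 0 :=
      hS.disjoint φ hφ ψ hψ (hS.orthogonal ψ hψ φ hφ h1.symm)
        (hS.orthogonal ψ hψ _ (hS.conj_mem φ hφ) h2)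
    refine ⟨?_, fun χ hχ e1 e2 e3 e4 α hα => ?_⟩
    · have := Coherence.System.bessel_R hS hφ (R ψ) id
        (fun a ha => Coherence.System.R_ne_zero hS hψ ha)
        (fun a ha b hb hn => Coherence.System.R_orth hS hψ ha hb hn) hd (τ (φ - ψ))
      simp only [id_eq, hsimp ψ hψ, hnorm] at this
      linarith
    · have hdisj : Disjoint (R ψ) (R χ) := Finset.disjoint_left.2 fun x hx hx' => by
        have := hS.disjoint χ hχ ψ hψ e3 e4 x hx x hx'
        rw [Coherence.System.R_self hS hχ hx'] at this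
        exact one_ne_zero this
      have := Coherence.System.bessel_R hS hφ (R ψ ∪ R χ) id (by
          intro a ha
          rcases Finset.mem_union.1 ha with h | h
          · exact Coherence.System.R_ne_zero hS hψ h
          · exact Coherence.System.R_ne_zero hS hχ h)
        (by
          intro a ha b hb hn
          rcases Finset.mem_union.1 ha with h | h <;> rcases Finset.mem_union.1 hb with h' | h'
          · exact Coherence.System.R_orth hS hψ h h' hn
          · exact hS.disjoint χ hχ ψ hψ e3 e4 a h b h'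
          · exact Coherence.inner_eq_zero_comm (hS.disjoint χ hχ ψ hψ e3 e4 b h' a h)
          · exact Coherence.System.R_orth hS hχ h h' hn)
        (by
          intro a ha b hb
          rcases Finset.mem_union.1 ha with h | h
          · exact hd a h b hb
          · exact Coherence.inner_eq_zero_comm (hS.disjoint χ hχ φ hφ e1 e2 b hb a h))
        (τ (φ - ψ))
      simp only [id_eq, Finset.sum_union hdisj, hsimp ψ hψ, hsimp χ hχ, hnorm] at this
      have h0 : ∑ α ∈ R χ, ‖Cfsg.classInner (τ (φ - ψ)) α‖ ^ 2 = 0 :=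
        le_antisymm (by linarith) (Finset.sum_nonneg fun _ _ => sq_nonneg _)
      have := (Finset.sum_eq_zero_iff_of_nonneg fun _ _ => sq_nonneg _).1 h0 α hα
      simpa using this
  have hc1 := hS.conj_mem χ₁ hχ₁
  have hc1ne := hS.conj_ne χ₁ hχ₁
  have hd1 := Coherence.System.diff_mem hS hχ₁
  have horth1 := hS.orthogonal χ₁ hχ₁ _ hc1 hc1ne.symm
  have horth1' := Coherence.inner_eq_zero_comm horth1
  obtain ⟨F, hFgen, hFF, hF⟩ : ∃ F : G → ℂ, Cfsg.IsGeneralizedCharacter G F ∧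
      Cfsg.classInner F F = Cfsg.classInner χ₁ χ₁ ∧
      ∀ χ ∈ S, χ ≠ χ₁ → Cfsg.classInner F (τ (χ₁ - χ)) = Cfsg.classInner χ₁ χ₁ := by
    obtain ⟨n, hn⟩ := Coherence.classInner_self_natCast (hS.isCharacter χ₁ hχ₁)
    have hRcard : (R χ₁).card = 2 * n := by
      have h := hS.isometry.2.2.1 _ hd1 _ hd1
      rw [hS.sum_eq χ₁ hχ₁] at h
      simp only [Char.classInner_sum_left, Char.classInner_sum_right] at h
      rw [Finset.sum_congr rfl (fun a ha => Finset.sum_congr rfl fun b hb =>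
        hS.orthonormal χ₁ hχ₁ b hb a ha)] at h
      simp only [Finset.sum_ite_eq', Char.classInner_sub_left, Char.classInner_sub_right,
        horth1, horth1', Coherence.classInner_conjFun, hn, sub_zero, zero_sub, sub_neg_eq_add] at h
      rw [Finset.sum_congr rfl (fun a ha => if_pos ha), Finset.sum_const, nsmul_one] at h
      have h' : (((R χ₁).card : ℕ) : ℂ) = ((2 * n : ℕ) : ℂ) := by rw [h]; push_cast; ring
      exact_mod_cast h'
    obtain ⟨A, hA, hAc, hAi⟩ : ∃ A : Finset (G → ℂ), A ⊆ R χ₁ ∧ A.card = n ∧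
        ∀ χ ∈ S, χ ≠ χ₁ → χ ≠ Cfsg.conjFun χ₁ →
          ∑ α ∈ A, Cfsg.classInner α (τ (χ₁ - χ)) = n := by
      by_cases hex : ∃ θ ∈ S, θ ≠ χ₁ ∧ θ ≠ Cfsg.conjFun χ₁
      · obtain ⟨θ, hθ, hθ1, hθ2⟩ := hex
        obtain ⟨c, hc, hsum, -, heq⟩ := Coherence.System.coeff hS hχ₁
          (hS.isometry.2.2.2 _ (hm χ₁ hχ₁ θ hθ)) (hinn χ₁ hχ₁ θ hθ hθ1.symm hθ2)
        have h01 := heq (hsqeq χ₁ hχ₁ θ hθ hθ1.symm hθ2).1
        refine ⟨(R χ₁).filter fun α => c α = 1, Finset.filter_subset _ _, ?_, ?_⟩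
        · have h1 : ∑ α ∈ R χ₁, c α =
              (((R χ₁).filter fun α => c α = 1).card : ℤ) := by
            rw [Finset.card_filter, Nat.cast_sum]
            refine Finset.sum_congr rfl fun α hα => ?_
            rcases h01 α hα with e | e <;> simp [e]
          rw [hn, h1] at hsum
          exact_mod_cast hsum.symm
        · intro χ hχ hχ1 hχ2
          have hsame : ∀ α ∈ R χ₁,
              Cfsg.classInner (τ (χ₁ - χ)) α = Cfsg.classInner (τ (χ₁ - θ)) α := by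
            intro α hα
            have hdiff : Cfsg.classInner (τ (θ - χ)) α = 0 := by
              rcases eq_or_ne θ χ with rfl | hne1
              · rw [sub_self, Coherence.iso_map_zero hS.isometry Coherence.zspanOn_zero,
                  Char.classInner_zero_left]
              rcases eq_or_ne χ (Cfsg.conjFun θ) with rfl | hne2
              · rw [hS.sum_eq θ hθ, Char.classInner_sum_left]
                exact Finset.sum_eq_zero fun β hβ => hS.disjoint χ₁ hχ₁ θ hθ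
                  (hS.orthogonal θ hθ χ₁ hχ₁ hθ1) (hS.orthogonal θ hθ _ hc1 hθ2) β hβ α hα
              exact (hsqeq θ hθ χ hχ hne1 hne2).2 χ₁ hχ₁ (hS.orthogonal θ hθ χ₁ hχ₁ hθ1)
                (hS.orthogonal θ hθ _ hc1 hθ2) (hS.orthogonal χ hχ χ₁ hχ₁ hχ1)
                (hS.orthogonal χ hχ _ hc1 hχ2) α hα
            have hsplit : τ (χ₁ - χ) = τ (χ₁ - θ) + τ (θ - χ) := by
              rw [← hS.isometry.1 _ (hm χ₁ hχ₁ θ hθ) _ (hm θ hθ χ hχ), sub_add_sub_cancel]
            rw [hsplit, Char.classInner_add_left, hdiff, add_zero]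
          rw [hn] at hsum
          have h1 : ∀ α ∈ (R χ₁).filter (fun α => c α = 1),
              Cfsg.classInner α (τ (χ₁ - χ)) = 1 := fun α hα => by
            rw [Finset.mem_filter] at hα
            rw [← Char.classInner_conj_symm (τ (χ₁ - χ)), hsame α hα.1, hc α hα.1, hα.2]
            simp
          rw [Finset.sum_congr rfl h1, Finset.sum_const, nsmul_one]
          have h2 : ∑ α ∈ R χ₁, c α =
              (((R χ₁).filter fun α => c α = 1).card : ℤ) := by
            rw [Finset.card_filter, Nat.cast_sum]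
            refine Finset.sum_congr rfl fun α hα => ?_
            rcases h01 α hα with e | e <;> simp [e]
          rw [h2, Int.cast_natCast] at hsum
          exact hsum.symm
      · obtain ⟨A, hA, hAc⟩ := Finset.exists_subset_card_eq (s := R χ₁) (n := n) (by omega)
        push_neg at hex
        exact ⟨A, hA, hAc, fun χ hχ h h' => absurd (hex χ hχ h) h'⟩
    have hAort : ∀ β ∈ R χ₁, Cfsg.classInner (∑ α ∈ A, α) β = if β ∈ A then 1 else 0 := by
      intro β hβ
      rw [Char.classInner_sum_left,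
        Finset.sum_congr rfl (fun α hα => hS.orthonormal χ₁ hχ₁ α (hA hα) β hβ)]
      simp
    refine ⟨∑ α ∈ A, α, Char.isGeneralized_sum _ _ fun α hα => hS.virtual χ₁ hχ₁ α (hA hα),
      ?_, fun χ hχ hχ1 => ?_⟩
    · rw [Char.classInner_sum_right, Finset.sum_congr rfl (fun β hβ => hAort β (hA hβ)),
        Finset.sum_congr rfl (fun β hβ => if_pos hβ), Finset.sum_const, nsmul_one, hAc, hn]
    · rw [hn]
      by_cases hχ2 : χ = Cfsg.conjFun χ₁
      · rw [hχ2, hS.sum_eq χ₁ hχ₁, Char.classInner_sum_right, Finset.sum_congr rfl hAort,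
          ← Finset.sum_filter, Finset.filter_mem_eq_inter, Finset.inter_eq_right.2 hA,
          Finset.sum_const, nsmul_one, hAc]
      · rw [Char.classInner_sum_left]; exact hAi χ hχ hχ1 hχ2
  set f : (L → ℂ) → (G → ℂ) := fun χ => F - τ (χ₁ - χ) with hf
  have hFinner : ∀ χ ∈ S, Cfsg.classInner F (τ (χ₁ - χ)) =
      Cfsg.classInner χ₁ χ₁ - Cfsg.classInner χ₁ χ := by
    intro χ hχ
    rcases eq_or_ne χ χ₁ with rfl | h
    · rw [sub_self χ, Coherence.iso_map_zero hS.isometry Coherence.zspanOn_zero,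
        Char.classInner_zero_right, sub_self]
    · rw [hF χ hχ h, hS.orthogonal χ₁ hχ₁ χ hχ h.symm, sub_zero]
  obtain ⟨τ₁, hτ₁, hval⟩ := Coherence.exists_isometry_of_basis (S := hfin.toFinset)
    (fun φ hφ ψ hψ => hS.orthogonal φ (hfin.mem_toFinset.1 hφ) ψ (hfin.mem_toFinset.1 hψ))
    (fun φ hφ => hne φ (hfin.mem_toFinset.1 hφ)) f
    (fun φ hφ => Char.isGeneralized_sub hFgen
      (hS.isometry.2.2.2 _ (hm χ₁ hχ₁ φ (hfin.mem_toFinset.1 hφ))))
    (fun φ hφ ψ hψ => by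
      have hφ' := hfin.mem_toFinset.1 hφ
      have hψ' := hfin.mem_toFinset.1 hψ
      have h2 : Cfsg.classInner (τ (χ₁ - φ)) F =
          Cfsg.classInner χ₁ χ₁ - Cfsg.classInner φ χ₁ := by
        rw [← Char.classInner_conj_symm F, hFinner φ hφ', map_sub, Char.classInner_conj_symm,
          Char.classInner_conj_symm]
      simp only [hf, Char.classInner_sub_left, Char.classInner_sub_right, hFF, hFinner ψ hψ', h2,
        hS.isometry.2.2.1 _ (hm χ₁ hχ₁ φ hφ') _ (hm χ₁ hχ₁ ψ hψ')]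
      ring)
  rw [Set.Finite.coe_toFinset] at hτ₁
  refine ⟨⟨χ₁ - Cfsg.conjFun χ₁, hd1, fun e => hc1ne (sub_eq_zero.1 e).symm⟩, τ₁, hτ₁,
    fun α hα => ?_⟩
  obtain ⟨n, hn⟩ := Coherence.zspan_finset (s := hfin.toFinset)
    (by rw [Set.Finite.coe_toFinset]; exact hα.1)
  have hd0 : χ₁ 1 ≠ 0 := Coherence.char_conj_ne_one_ne_zero (hS.isCharacter χ₁ hχ₁) hc1ne
  have hsum0 : ∑ φ ∈ hfin.toFinset, n φ = 0 := by
    have h1 := (Coherence.mem_zspanOn_compl_one.1 hα).2
    rw [hn, Finset.sum_apply, Finset.sum_congr rfl (g := fun φ => (n φ : ℂ) * χ₁ 1)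
      (fun φ hφ => by simp [hdeg φ (hfin.mem_toFinset.1 hφ) χ₁ hχ₁]), ← Finset.sum_mul] at h1
    exact_mod_cast (mul_eq_zero.1 h1).resolve_right hd0
  have hdec : α = ∑ φ ∈ hfin.toFinset, (-n φ) • (χ₁ - φ) := by
    simp only [smul_sub, Finset.sum_sub_distrib, neg_smul, Finset.sum_neg_distrib,
      ← Finset.sum_smul, hsum0, zero_smul, neg_zero, zero_sub, neg_neg]
    exact hn
  have h1 : τ₁ α = ∑ φ ∈ hfin.toFinset, n φ • f φ := by
    rw [hn, Coherence.iso_zspan_sum hτ₁ _ _ fun φ hφ =>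
      Coherence.zspan_zsmul _ (Coherence.mem_zspan_of_mem (hfin.mem_toFinset.1 hφ))]
    exact Finset.sum_congr rfl fun φ hφ => by
      rw [hτ₁.2.1 _ (Coherence.mem_zspan_of_mem (hfin.mem_toFinset.1 hφ)), hval φ hφ]
  rw [h1, hdec, (Coherence.iso_zspanOn_sum hS.isometry _ _ _ fun φ hφ =>
    hm χ₁ hχ₁ φ (hfin.mem_toFinset.1 hφ)).1]
  simp only [hf, smul_sub, Finset.sum_sub_distrib, ← Finset.sum_smul, hsum0, zero_smul, zero_sub,
    neg_smul, Finset.sum_neg_distrib]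

end Cfsg.Agent.S1517
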