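import Cfsg.Statements.S1518
import Cfsg.Agent.Coherence.DadeGen
import Cfsg.Agent.Coherence.Basic

set_option autoImplicit false
open Cfsg

namespace Cfsg.Agent.S1518

/-- Under the Dade hypothesis for (A, L, H): if χ is an irreducible character of L vanishing at every non-identity element of L outside A, then the Dade image of χ − conj χ equals μ − conj μ for some irreducible character μ of G. -/
theorem result {G : Type*} [Group G] [Fintype G] (A : Set G) (L : Subgroup G) [Fintype L] (H : G → Subgroup G) (hD : Cfsg.DadeHypothesis A L H) (χ : L → ℂ) (hχ : Cfsg.IsIrrCharacter L χ) (hsupp : ∀ x : L, x ≠ 1 → (x : G) ∉ A → χ x = 0) : ∃ μ : G → ℂ, Cfsg.IsIrrCharacter G μ ∧ Cfsg.dadeIsometry A L H (χ - Cfsg.conjFun χ) = μ - Cfsg.conjFun μ := by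
  classical
  by_cases hreal : Cfsg.conjFun χ = χ
  · refine ⟨fun _ => 1, Char.isIrrCharacter_one, ?_⟩
    rw [hreal, sub_self]
    funext g
    simp only [Cfsg.conjFun, map_one, Pi.sub_apply, sub_self]
    rw [Cfsg.dadeIsometry]
    split_ifs <;> rfl
  set θ := χ - Cfsg.conjFun χ with hθ
  have hχc := Coherence.isIrr_conjFun hχ
  have hgen : Cfsg.IsGeneralizedCharacter L θ := Char.isGeneralized_sub
    (Char.isGeneralized_of_isCharacter (Char.IsIrr.isCharacter hχ))
    (Char.isGeneralized_of_isCharacter (Char.IsIrr.isCharacter hχc))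
  have hθA : ∀ x : L, (x : G) ∉ A → θ x = 0 := by
    intro x hx
    rcases eq_or_ne x 1 with rfl | h
    · simp [hθ, Coherence.isChar_conjFun_one (Char.IsIrr.isCharacter hχ)]
    · simp [hθ, Cfsg.conjFun, hsupp x h hx]
  have h1 : Cfsg.dadeIsometry A L H θ 1 = 0 := by
    refine Coherence.Dade.dade_eq_zero hD ?_
    rintro ⟨a, ha, u, hu, x, hx⟩
    have he : u = a⁻¹ := eq_inv_of_mul_eq_one_right (by rw [← hx]; group)
    have hu1 : u = 1 := Coherence.Dade.disjoint_L hD ha hu (he ▸ inv_mem (hD.subset ha))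
    rw [hu1, eq_comm, inv_eq_one] at he
    exact hD.one_not_mem (he ▸ ha)
  have hnorm : Cfsg.classInner (Cfsg.dadeIsometry A L H θ) (Cfsg.dadeIsometry A L H θ) = 2 := by
    rw [Coherence.Dade.inner_dade_dade hD θ θ (Char.IsGen.isClassFunction hgen) hθA
      (Char.IsGen.isClassFunction hgen)]
    simp only [hθ, Char.classInner_sub_left, Char.classInner_sub_right,
      Char.classInner_irr_self hχ, Char.classInner_irr_self hχc,
      Char.classInner_irr_ne hχ hχc (Ne.symm hreal), Char.classInner_irr_ne hχc hχ hreal]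
    norm_num
  obtain ⟨μ, ν, hne, he⟩ := Coherence.norm_two_decomp
    (Coherence.Dade.isGeneralized_dade hD hgen hθA) hnorm h1
  refine ⟨μ, μ.2, ?_⟩
  have hanti : Cfsg.conjFun (Cfsg.dadeIsometry A L H θ) = -Cfsg.dadeIsometry A L H θ := by
    funext g
    simp only [Cfsg.conjFun, Pi.neg_apply, Cfsg.dadeIsometry]
    split_ifs
    · simp [hθ, Cfsg.conjFun]
    · simp
  rw [he] at hanti
  have h2 := congrArg (fun f => Cfsg.classInner f (ν : G → ℂ)) hanti
  have hsub : Cfsg.conjFun ((μ : G → ℂ) - (ν : G → ℂ)) =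
      Cfsg.conjFun (μ : G → ℂ) - Cfsg.conjFun (ν : G → ℂ) := by
    funext g; simp [Cfsg.conjFun]
  simp only [hsub, neg_sub, Char.classInner_sub_left,
    Char.classInner_irr (Coherence.isIrr_conjFun μ.2) ν.2,
    Char.classInner_irr (Coherence.isIrr_conjFun ν.2) ν.2,
    Char.classInner_irr_self ν.2,
    Char.classInner_irr_ne μ.2 ν.2 (fun e => hne (Subtype.ext e))] at h2
  by_cases hm : Cfsg.conjFun (μ : G → ℂ) = (ν : G → ℂ)
  · rw [hm]; exact he
  · exfalso
    rw [if_neg hm] at h2
    split_ifs at h2 <;> norm_num at h2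

end Cfsg.Agent.S1518
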