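import Cfsg.Statements.S3911
import Mathlib
import Cfsg.Agent.Fusion.RankTwo

set_option autoImplicit false
open Cfsg

namespace Cfsg.Agent.S3911

open Subgroup
open scoped commutatorElement

universe u
variable {G : Type u} [Group G] [Finite G]

theorem card_eq_map_mul (M : Subgroup G) [M.Normal] (H : Subgroup G) :
    Nat.card H = Nat.card (H.map (QuotientGroup.mk' M)) * Nat.card (H ⊓ M : Subgroup G) := by
  set f := (QuotientGroup.mk' M).comp H.subtype with hf
  have hk : f.ker = M.subgroupOf H := by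
    rw [hf, ← MonoidHom.comap_ker, QuotientGroup.ker_mk']; rfl
  have hr : f.range = H.map (QuotientGroup.mk' M) := by
    rw [hf, MonoidHom.range_comp, Subgroup.range_subtype]
  rw [Subgroup.card_eq_card_quotient_mul_card_subgroup f.ker,
    Nat.card_congr (QuotientGroup.quotientKerEquivRange f).toEquiv, hr, hk,
    ← Subgroup.card_map_of_injective H.subtype_injective, Subgroup.subgroupOf_map_subtype, inf_comm]

theorem le_of_card_dvd {S H K : Subgroup G} (hS : IsCyclic S) (hH : H ≤ S) (hK : K ≤ S)
    (h : Nat.card H ∣ Nat.card K) : H ≤ K := by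
  classical
  have := Fintype.ofFinite S
  intro x hx
  have hsub : (Finset.univ.filter fun y : S => (y : G) ∈ K) =
      Finset.univ.filter fun y : S => y ^ Nat.card K = 1 := by
    refine Finset.eq_of_subset_of_card_le (fun y hy => ?_) ?_
    · simp only [Finset.mem_filter, Finset.mem_univ, true_and] at hy ⊢
      exact Subtype.ext (by
        rw [SubmonoidClass.coe_pow, OneMemClass.coe_one]
        exact orderOf_dvd_iff_pow_eq_one.1 (Subgroup.orderOf_dvd_natCard _ hy))
    · refine (IsCyclic.card_pow_eq_one_le Nat.card_pos).trans (le_of_eq ?_)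
      rw [← Fintype.card_subtype, ← Nat.card_eq_fintype_card]
      exact Nat.card_congr
        { toFun := fun k => ⟨⟨k.1, hK k.2⟩, k.2⟩
          invFun := fun y => ⟨y.1.1, y.2⟩
          left_inv := fun k => rfl
          right_inv := fun y => rfl }
  have h1 : (⟨x, hH hx⟩ : S) ∈ Finset.univ.filter fun y : S => y ^ Nat.card K = 1 := by
    simp only [Finset.mem_filter, Finset.mem_univ, true_and]
    exact Subtype.ext (by
      rw [SubmonoidClass.coe_pow, OneMemClass.coe_one]
      exact orderOf_dvd_iff_pow_eq_one.1 ((Subgroup.orderOf_dvd_natCard _ hx).trans h))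
  rw [← hsub, Finset.mem_filter] at h1
  exact h1.2

theorem factorization_inf_sylow {p : ℕ} [Fact p.Prime] (M : Subgroup G) [M.Normal] (S : Sylow p G) :
    Nat.card ((S : Subgroup G) ⊓ M : Subgroup G) = p ^ (Nat.card M).factorization p := by
  have h1 := card_eq_map_mul M (S : Subgroup G)
  have h2 := (S.mapSurjective (QuotientGroup.mk'_surjective M)).card_eq_multiplicity
  rw [Sylow.coe_mapSurjective] at h2
  rw [S.card_eq_multiplicity, h2, Subgroup.card_eq_card_quotient_mul_card_subgroup M,
    Nat.factorization_mul Nat.card_pos.ne' Nat.card_pos.ne', Finsupp.add_apply, pow_add] at h1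
  exact (Nat.eq_of_mul_eq_mul_left (pow_pos (Fact.out : p.Prime).pos _) h1).symm

def ConjClosed (G : Type u) [Group G] : Prop :=
  ∀ A B : Subgroup G, IsMulCommutative ↥A → IsMulCommutative ↥B → Nat.card ↥A = Nat.card ↥B →
    ∃ g : G, B = A.map (MulAut.conj g).toMonoidHom

theorem isCyclic_sylow (hB : ConjClosed G) (M : Subgroup G) [M.Normal] (hM : Odd (Nat.card M))
    {p : ℕ} [Fact p.Prime] (hpM : p ∣ Nat.card M) (hpQ : p ∣ Nat.card (G ⧸ M)) (S : Sylow p G) :
    IsCyclic (S : Subgroup G) := by
  have hpp : p.Prime := Fact.out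
  have hp : p ≠ 2 := by
    rintro rfl
    exact Nat.not_even_iff_odd.2 hM (even_iff_two_dvd.2 hpM)
  by_contra hnc
  obtain ⟨E, -, ⟨hEc, hEp⟩, hEcard⟩ := Fusion.exists_normal_elementary_card_sq hp S.isPGroup' hnc
  by_cases hexp : ∀ x : (S : Subgroup G), x ^ p = 1
  · obtain ⟨y, hyS, hyM⟩ : ∃ y ∈ (S : Subgroup G), y ∉ M := by
      by_contra h
      push_neg at h
      have h1 := factorization_inf_sylow M S
      rw [inf_eq_left.2 h, S.card_eq_multiplicity, Subgroup.card_eq_card_quotient_mul_card_subgroup M,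
        Nat.factorization_mul Nat.card_pos.ne' Nat.card_pos.ne', Finsupp.add_apply] at h1
      have h2 := Nat.pow_right_injective hpp.two_le h1
      have h3 := hpp.factorization_pos_of_dvd Nat.card_pos.ne' hpQ
      omega
    have hy : orderOf y = p := by
      refine orderOf_eq_prime (congrArg Subtype.val (hexp ⟨y, hyS⟩)) fun h => hyM (h ▸ one_mem M)
    obtain ⟨z, hz⟩ := exists_prime_orderOf_dvd_card' p hpM
    obtain ⟨g, hg⟩ := hB (zpowers (z : G)) (zpowers y) inferInstance inferInstance
      (by rw [Nat.card_zpowers, Nat.card_zpowers, hy, Subgroup.orderOf_coe, hz])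
    obtain ⟨w, hw, hwy⟩ := hg.le (mem_zpowers y)
    refine hyM ?_
    rw [← hwy]
    exact Normal.conj_mem inferInstance w (zpowers_le.2 z.2 hw) g
  · push_neg at hexp
    obtain ⟨x, hx⟩ := hexp
    obtain ⟨e, he⟩ := IsPGroup.iff_orderOf.1 S.isPGroup' x
    have he2 : 2 ≤ e := by
      by_contra h
      refine hx (orderOf_dvd_iff_pow_eq_one.1 ?_)
      rw [he]
      exact (pow_dvd_pow p (show e ≤ 1 by omega)).trans (pow_one p).dvd
    set z : G := (x : G) ^ p ^ (e - 2) with hz
    have hzo : orderOf z = p ^ 2 := by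
      rw [hz, orderOf_pow' _ (pow_ne_zero _ hpp.pos.ne'), Subgroup.orderOf_coe, he,
        Nat.gcd_eq_right (pow_dvd_pow p (by omega)), Nat.pow_div (by omega) hpp.pos]
      congr 1
      omega
    haveI := hEc
    obtain ⟨g, hg⟩ := hB (E.map (S : Subgroup G).subtype) (zpowers z)
      (Subgroup.map_isMulCommutative E _) inferInstance
      (by rw [Subgroup.card_map_of_injective (S : Subgroup G).subtype_injective, hEcard,
        Nat.card_zpowers, hzo])
    obtain ⟨w, ⟨v, hv, rfl⟩, hwz⟩ := hg.le (mem_zpowers z)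
    have h1 : z ^ p = 1 := by
      rw [← hwz, ← map_pow, show ((S : Subgroup G).subtype v) ^ p = 1 by rw [← map_pow, hEp v hv, map_one],
        map_one]
    have h2 := Nat.le_of_dvd hpp.pos (hzo ▸ orderOf_dvd_of_pow_eq_one h1)
    nlinarith [hpp.two_le]

theorem exists_lift (hB : ConjClosed G) (M : Subgroup G) [M.Normal] (hM : Odd (Nat.card M))
    (A : Subgroup (G ⧸ M)) (hA : IsMulCommutative A) :
    ∃ L : Subgroup G, IsMulCommutative L ∧ L.map (QuotientGroup.mk' M) = A ∧
      ∀ p, p.Prime → (Nat.card (L ⊓ M : Subgroup G)).factorization p =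
        if p ∣ Nat.card A then (Nat.card M).factorization p else 0 := by
  classical
  set q := QuotientGroup.mk' M with hq
  obtain ⟨L, hLA, hmin⟩ := exists_minimal_of_wellFoundedLT (fun L : Subgroup G => L.map q = A)
    ⟨A.comap q, Subgroup.map_comap_eq_self_of_surjective (QuotientGroup.mk'_surjective M) A⟩
  set f := q.comp L.subtype with hf
  have hfA : ∀ x, f x ∈ A := fun x => hLA ▸ mem_map_of_mem q x.2
  have hfN : ∀ x, f x = 1 ↔ (x : G) ∈ M := fun x => QuotientGroup.eq_one_iff (x : G)
  have hcomN : ∀ x y : L, (⁅x, y⁆ : L).1 ∈ M := fun x y => by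
    rw [← hfN, map_commutatorElement, commutatorElement_eq_one_iff_mul_comm]
    exact congrArg Subtype.val (hA.is_comm.comm ⟨f x, hfA x⟩ ⟨f y, hfA y⟩)
  have hcoatom : ∀ C : Subgroup L, IsCoatom C → M.subgroupOf L ≤ C := fun C hC => by
    by_contra hn
    have htop : C ⊔ M.subgroupOf L = ⊤ := hC.2 _ (lt_of_le_of_ne le_sup_left fun h => hn (h ▸ le_sup_right))
    have hN : (M.subgroupOf L).map f = ⊥ := (Subgroup.map_eq_bot_iff _).2 fun x hx => (hfN x).2 hx
    have h1 : (C.map L.subtype).map q = A := by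
      have hfr' : (⊤ : Subgroup L).map f = A := by
        rw [← MonoidHom.range_eq_map, hf, MonoidHom.range_comp, Subgroup.range_subtype, hLA]
      rw [Subgroup.map_map, ← hf]
      rw [← htop, Subgroup.map_sup, hN, sup_bot_eq] at hfr'
      exact hfr'
    have h2 : L ≤ C.map L.subtype := hmin h1 (Subgroup.map_subtype_le C)
    refine hC.1 (eq_top_iff.2 fun x _ => ?_)
    obtain ⟨y, hy, hyx⟩ := h2 x.2
    rwa [← L.subtype_injective hyx]
  have hfr : M.subgroupOf L ≤ frattini L := le_iInf₂ fun C hC => hcoatom C hC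
  haveI hnil : Group.IsNilpotent L := (Group.isNilpotent_of_finite_tfae.out 0 2 rfl rfl).2 fun C hC =>
    ⟨fun c hc g => by
      have h1 : ⁅g, c⁆ ∈ C := hcoatom C hC (hcomN g c)
      have := C.mul_mem h1 hc
      rwa [commutatorElement_def, inv_mul_cancel_right] at this⟩
  have hzero : ∀ p, p.Prime → ¬ p ∣ Nat.card A → p ∣ Nat.card M → ¬ p ∣ Nat.card L := by
    intro p hp hpA _ hpL
    haveI := Fact.mk hp
    let P : Sylow p L := default
    haveI hPn : (P : Subgroup L).Normal :=
      (Group.isNilpotent_of_finite_tfae.out 0 3 rfl rfl).1 hnil p ⟨hp⟩ P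
    have hPN : (P : Subgroup L) ≤ M.subgroupOf L := fun x hx => by
      refine (hfN x).1 (orderOf_eq_one_iff.1 (Nat.dvd_one.1 ?_))
      obtain ⟨k, hk⟩ := IsPGroup.iff_orderOf.1 P.isPGroup' ⟨x, hx⟩
      rw [Subgroup.orderOf_mk] at hk
      have h1 : orderOf (f x) ∣ p ^ k := hk ▸ orderOf_map_dvd f x
      have h2 : orderOf (f x) ∣ Nat.card A := Subgroup.orderOf_dvd_natCard _ (hfA x)
      exact (((hp.coprime_iff_not_dvd).2 hpA).pow_left k).gcd_eq_one ▸ Nat.dvd_gcd h1 h2
    obtain ⟨C, hC⟩ := Subgroup.exists_right_complement'_of_coprime (N := (P : Subgroup L))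
      P.card_coprime_index
    have hCtop : C = ⊤ := frattini_nongenerating (eq_top_iff.2 (by
      rw [← hC.sup_eq_top, sup_comm]; exact sup_le_sup_left (hPN.trans hfr) _))
    have h1 := hC.card_mul
    rw [hCtop, Subgroup.card_top] at h1
    exact P.ne_bot_of_dvd_card hpL (Subgroup.card_eq_one.1
      (Nat.eq_of_mul_eq_mul_right Nat.card_pos (h1.trans (one_mul _).symm)))
  refine ⟨L, ?_, hLA, ?_⟩
  · obtain ⟨e⟩ := (Group.isNilpotent_of_finite_tfae.out 0 4 rfl rfl).1 hnil
    have hcomm : ∀ (p : (Nat.card L).primeFactors) (P : Sylow p L) (x y : (P : Subgroup L)), x * y = y * x := by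
      intro p P x y
      haveI := Fact.mk (Nat.prime_of_mem_primeFactors p.2)
      have hpp : (p : ℕ).Prime := Fact.out
      by_cases hpM : (p : ℕ) ∣ Nat.card M
      · by_cases hpA : (p : ℕ) ∣ Nat.card A
        · have hpQ : (p : ℕ) ∣ Nat.card (G ⧸ M) := hpA.trans (Subgroup.card_subgroup_dvd_card A)
          obtain ⟨S, hS⟩ := (P.isPGroup'.map L.subtype).exists_le_sylow
          haveI := isCyclic_sylow hB M hM hpM hpQ S
          have h1 := (IsCyclic.commutative (α := (S : Subgroup G))).is_comm.comm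
            ⟨((x : L) : G), hS (mem_map_of_mem _ x.2)⟩ ⟨((y : L) : G), hS (mem_map_of_mem _ y.2)⟩
          exact Subtype.ext (Subtype.ext (congrArg Subtype.val h1 :))
        · exact absurd (Nat.dvd_of_mem_primeFactors p.2) (hzero p hpp hpA hpM)
      · refine commutatorElement_eq_one_iff_mul_comm.1 (orderOf_eq_one_iff.1 (Nat.dvd_one.1 ?_))
        obtain ⟨k, hk⟩ := IsPGroup.iff_orderOf.1 P.isPGroup' ⁅x, y⁆
        have h1 : orderOf ⁅x, y⁆ ∣ Nat.card M := by
          rw [← Subgroup.orderOf_coe, ← Subgroup.orderOf_coe]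
          refine Subgroup.orderOf_dvd_natCard _ ?_
          exact hcomN x y
        exact (((hpp.coprime_iff_not_dvd).2 hpM).pow_left k).gcd_eq_one ▸ Nat.dvd_gcd hk.dvd h1
    refine ⟨⟨fun a b => ?_⟩⟩
    obtain ⟨a, rfl⟩ := e.surjective a
    obtain ⟨b, rfl⟩ := e.surjective b
    rw [← map_mul, ← map_mul]
    exact congrArg e (funext fun p => funext fun P => hcomm p P _ _)
  · intro p hp
    haveI := Fact.mk hp
    have hdvdM : Nat.card (L ⊓ M : Subgroup G) ∣ Nat.card M := Subgroup.card_dvd_of_le inf_le_right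
    by_cases hpM : p ∣ Nat.card M
    swap
    · rw [Nat.factorization_eq_zero_of_not_dvd fun h => hpM (h.trans hdvdM),
        Nat.factorization_eq_zero_of_not_dvd hpM, ite_self]
    split_ifs with hpA
    · refine le_antisymm ((Nat.factorization_le_iff_dvd Nat.card_pos.ne' Nat.card_pos.ne').2 hdvdM p)
        ((hp.pow_dvd_iff_le_factorization Nat.card_pos.ne').1 ?_)
      let P : Sylow p L := default
      obtain ⟨S, hS⟩ := (P.isPGroup'.map L.subtype).exists_le_sylow
      have hcyc := isCyclic_sylow hB M hM hpM (hpA.trans (Subgroup.card_subgroup_dvd_card A)) S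
      rw [← factorization_inf_sylow M S]
      refine Subgroup.card_dvd_of_le (le_inf ?_ inf_le_right)
      obtain ⟨a, ha⟩ := IsPGroup.iff_card.1 (P.isPGroup'.map L.subtype)
      obtain ⟨b, hb⟩ := IsPGroup.iff_card.1 (S.isPGroup'.to_le (inf_le_left : (S : Subgroup G) ⊓ M ≤ S))
      rcases le_or_gt b a with hab | hab
      · exact (le_of_card_dvd hcyc inf_le_left hS (by rw [ha, hb]; exact pow_dvd_pow p hab)).trans
          (Subgroup.map_subtype_le _)
      · exfalso
        have h1 : P.map L.subtype ≤ L ⊓ M := le_inf (Subgroup.map_subtype_le _)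
          ((le_of_card_dvd hcyc hS inf_le_left (by rw [ha, hb]; exact pow_dvd_pow p hab.le)).trans inf_le_right)
        have h2 := Subgroup.card_dvd_of_le h1
        rw [Subgroup.card_map_of_injective L.subtype_injective, P.card_eq_multiplicity,
          hp.pow_dvd_iff_le_factorization Nat.card_pos.ne'] at h2
        rw [card_eq_map_mul M L, ← hq, hLA, Nat.factorization_mul Nat.card_pos.ne' Nat.card_pos.ne',
          Finsupp.add_apply] at h2
        have h3 := hp.factorization_pos_of_dvd Nat.card_pos.ne' hpA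
        omega
    · exact Nat.factorization_eq_zero_of_not_dvd fun h =>
        hzero p hp hpA hpM (h.trans (Subgroup.card_dvd_of_le inf_le_left))

/-- Let G be a finite group in which any two abelian subgroups of the same order are conjugate. If M is a normal subgroup of G of odd order, then any two abelian subgroups of G/M of the same order are conjugate in G/M. -/
theorem result {G : Type*} [Group G] [Finite G] (hB : ∀ A B : Subgroup G, IsMulCommutative ↥A → IsMulCommutative ↥B → Nat.card ↥A = Nat.card ↥B → ∃ g : G, B = A.map (MulAut.conj g).toMonoidHom) (M : Subgroup G) [M.Normal] (hM : Odd (Nat.card ↥M)) :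
    ∀ A B : Subgroup (G ⧸ M), IsMulCommutative ↥A → IsMulCommutative ↥B → Nat.card ↥A = Nat.card ↥B →
      ∃ g : G ⧸ M, B = A.map (MulAut.conj g).toMonoidHom := by
  intro A B hA hB' hcard
  obtain ⟨L, hL, hLA, hLf⟩ := exists_lift hB M hM A hA
  obtain ⟨K, hK, hKB, hKf⟩ := exists_lift hB M hM B hB'
  have hLM : Nat.card (L ⊓ M : Subgroup G) = Nat.card (K ⊓ M : Subgroup G) := by
    refine Nat.eq_of_factorization_eq Nat.card_pos.ne' Nat.card_pos.ne' fun p => ?_
    by_cases hp : p.Prime
    · rw [hLf p hp, hKf p hp, hcard]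
    · rw [Nat.factorization_eq_zero_of_not_prime _ hp, Nat.factorization_eq_zero_of_not_prime _ hp]
  obtain ⟨g, hg⟩ := hB L K hL hK (by
    rw [card_eq_map_mul M L, card_eq_map_mul M K, hLA, hKB, hcard, hLM])
  refine ⟨QuotientGroup.mk' M g, ?_⟩
  rw [← hKB, ← hLA, hg, Subgroup.map_map, Subgroup.map_map]
  congr 1

end Cfsg.Agent.S3911
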