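import Cfsg.Statements.S3909
import Mathlib

set_option autoImplicit false
open Cfsg

namespace Cfsg.Agent.S3909

/-- Let G be a finite group in which any two abelian subgroups of the same order are conjugate. Let M be a normal subgroup of G. If M contains an element of the same order as a ∈ G, then a ∈ M; and if M is elementary abelian of order p^t with p prime and t ≥ 2, then M is the unique Sylow p-subgroup of G. -/
theorem result {G : Type*} [Group G] [Finite G] (hB : ∀ A B : Subgroup G, IsMulCommutative ↥A → IsMulCommutative ↥B → Nat.card ↥A = Nat.card ↥B → ∃ g : G, B = A.map (MulAut.conj g).toMonoidHom) (M : Subgroup G) [M.Normal] :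
    (∀ a : G, (∃ m ∈ M, orderOf m = orderOf a) → a ∈ M) ∧
    ∀ (p t : ℕ) [Fact p.Prime], 2 ≤ t → Nat.card ↥M = p ^ t → Cfsg.IsElementaryAbelian p M → ∀ P : Sylow p G, (P : Subgroup G) = M := by
  have h1 : ∀ a : G, (∃ m ∈ M, orderOf m = orderOf a) → a ∈ M := by
    rintro a ⟨m, hm, hord⟩
    obtain ⟨g, hg⟩ := hB (Subgroup.zpowers m) (Subgroup.zpowers a) inferInstance inferInstance
      (by rw [Nat.card_zpowers, Nat.card_zpowers, hord])
    have ha : a ∈ (Subgroup.zpowers m).map (MulAut.conj g).toMonoidHom := hg ▸ Subgroup.mem_zpowers a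
    obtain ⟨y, hy, rfl⟩ := ha
    exact (‹M.Normal›).conj_mem y ((Subgroup.zpowers_le.2 hm) hy) g
  refine ⟨h1, fun p t _ ht hcard hM P => ?_⟩
  have hp : p.Prime := Fact.out
  -- some element of order p in M
  obtain ⟨m, hm⟩ := exists_prime_orderOf_dvd_card' (G := M) p
    (hcard ▸ dvd_pow_self p (by omega))
  have hMp : IsPGroup p M := IsPGroup.of_card hcard
  -- no element of order p ^ 2
  have hno : ∀ x : G, orderOf x ≠ p ^ 2 := by
    intro x hx
    obtain ⟨A, hA⟩ := Sylow.exists_subgroup_card_pow_prime (G := M) p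
      (hcard ▸ pow_dvd_pow p ht)
    haveI := hM.1
    obtain ⟨g, hg⟩ := hB (A.map M.subtype) (Subgroup.zpowers x) inferInstance inferInstance
      (by rw [Subgroup.card_map_of_injective M.subtype_injective, hA, Nat.card_zpowers, hx])
    have hxA : x ∈ (A.map M.subtype).map (MulAut.conj g).toMonoidHom := hg ▸ Subgroup.mem_zpowers x
    obtain ⟨y, ⟨z, -, rfl⟩, hy⟩ := hxA
    have hxp : x ^ p = 1 := by
      rw [← hy, ← map_pow]
      show (MulAut.conj g).toMonoidHom ((z : G) ^ p) = 1
      rw [hM.2 z z.2, map_one]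
    have hle := orderOf_le_of_pow_eq_one hp.pos hxp
    rw [hx, pow_two] at hle
    nlinarith [hp.two_le]
  -- all p-elements lie in M
  have hall : ∀ x : G, ∀ k : ℕ, orderOf x = p ^ k → x ∈ M := by
    intro x k hk
    match k with
    | 0 => rw [pow_zero, orderOf_eq_one_iff] at hk; rw [hk]; exact M.one_mem
    | 1 => exact h1 x ⟨m, m.2, by rw [← Subgroup.orderOf_coe] at hm; rw [hm, hk, pow_one]⟩
    | k + 2 =>
      refine absurd ?_ (hno (x ^ p ^ k))
      rw [orderOf_pow' x (pow_ne_zero _ hp.ne_zero), hk, pow_add,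
        Nat.gcd_mul_right_left, Nat.mul_div_cancel_left _ (pow_pos hp.pos _)]
  have hPM : (P : Subgroup G) ≤ M := fun x hx => by
    obtain ⟨k, hk⟩ := IsPGroup.iff_orderOf.1 P.2 ⟨x, hx⟩
    exact hall x k (by rwa [← Subgroup.orderOf_coe] at hk)
  exact (P.3 hMp hPM).symm

end Cfsg.Agent.S3909
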