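import Cfsg.Statements.S0728
import Mathlib.GroupTheory.Perm.Cycle.Type
import Mathlib.GroupTheory.GroupAction.MultipleTransitivity
import Mathlib.GroupTheory.PGroup

set_option autoImplicit false
open Cfsg

namespace Cfsg.Agent.S0728

open scoped Classical in
/-- the elements of order three are twice the ordered pairs of fixed points -/
lemma two_elements {α : Type*} [Fintype α] [DecidableEq α] (G : Subgroup (Equiv.Perm α))
    (h3 : MulAction.IsMultiplyPretransitive G α 3) (hsharp : ∀ x : Fin 3 ↪ α, MulAction.stabilizer G x = ⊥)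
    (h6 : 6 ≤ Fintype.card α) {a b : α} (hab : a ≠ b) (x0 : G) (hx0 : orderOf x0 = 3) (hx0a : x0 • a = a) (hx0b : x0 • b = b) :
    (Finset.univ.filter fun g : G => orderOf g = 3 ∧ g • a = a ∧ g • b = b).card ≤ 2 := by
  classical
  have emb : ∀ (x y z : α), x ≠ y → x ≠ z → y ≠ z → ∃ e : Fin 3 ↪ α, e 0 = x ∧ e 1 = y ∧ e 2 = z := fun x y z h1 h2 h3 =>
    ⟨⟨![x, y, z], fun i j e => by fin_cases i <;> fin_cases j <;> simp_all⟩, rfl, rfl, rfl⟩
  have trans3 : ∀ {x y z x' y' z' : α}, x ≠ y → x ≠ z → y ≠ z → x' ≠ y' → x' ≠ z' → y' ≠ z' →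
      ∃ g : G, g • x = x' ∧ g • y = y' ∧ g • z = z' := by
    intro x y z x' y' z' h1 h2 h4 h1' h2' h4'
    obtain ⟨e, e0, e1, e2⟩ := emb x y z h1 h2 h4
    obtain ⟨f, f0, f1, f2⟩ := emb x' y' z' h1' h2' h4'
    obtain ⟨g, hg⟩ := h3.exists_smul_eq e f
    exact ⟨g, by rw [← e0, ← f0, ← hg]; rfl, by rw [← e1, ← f1, ← hg]; rfl, by rw [← e2, ← f2, ← hg]; rfl⟩
  have uniq : ∀ (g : G) (x y z : α), x ≠ y → x ≠ z → y ≠ z → g • x = x → g • y = y → g • z = z → g = 1 := by
    intro g x y z h1 h2 h4 hx hy hz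
    obtain ⟨e, e0, e1, e2⟩ := emb x y z h1 h2 h4
    have : g ∈ MulAction.stabilizer G e := by
      rw [MulAction.mem_stabilizer_iff]; ext i
      show g • e i = e i
      fin_cases i
      · simpa [e0] using hx
      · simpa [e1] using hy
      · simpa [e2] using hz
    rwa [hsharp, Subgroup.mem_bot] at this
  have fix2 : ∀ (g : G), g ≠ 1 → ∀ x y z : α, x ≠ y → g • x = x → g • y = y → g • z = z → z = x ∨ z = y := by
    intro g hg x y z hxy hx hy hz
    by_contra h
    rw [not_or] at h
    exact hg (uniq g x y z hxy (Ne.symm h.1) (Ne.symm h.2) hx hy hz)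
  set N := Fintype.card α
  set T : Finset G := Finset.univ.filter fun g : G => orderOf g = 3
  -- the degree is 2 mod 3, so every element of order three fixes exactly two points
  have : Fact (Nat.Prime 3) := ⟨Nat.prime_three⟩
  have hfix : ∀ g ∈ T, (Finset.univ.filter fun x : α => g • x = x).card % 3 = N % 3 ∧
      (Finset.univ.filter fun x : α => g • x = x).card ≤ 2 := by
    intro g hg
    have hg3 : orderOf g = 3 := (Finset.mem_filter.1 hg).2
    have hg1 : g ≠ 1 := fun h => by rw [h, orderOf_one] at hg3; norm_num at hg3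
    constructor
    · have hP : IsPGroup 3 (Subgroup.zpowers g) := IsPGroup.of_card (n := 1) (by rw [Nat.card_zpowers, hg3]; rfl)
      have h := hP.card_modEq_card_fixedPoints α
      rw [Nat.card_eq_fintype_card (α := α)] at h
      rw [show Nat.card (MulAction.fixedPoints (Subgroup.zpowers g) α) = (Finset.univ.filter fun x : α => g • x = x).card from ?_] at h
      · exact h.symm
      · rw [← Fintype.card_subtype, ← Nat.card_eq_fintype_card]
        exact Nat.card_congr (Equiv.subtypeEquivRight fun x => ⟨fun hx => hx ⟨g, Subgroup.mem_zpowers g⟩, fun hx k => by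
          obtain ⟨i, hi⟩ := k.2
          show (k : G) • x = x
          rw [← hi]
          exact MulAction.mem_stabilizer_iff.1 ((MulAction.stabilizer G x).zpow_mem hx i)⟩)
    · rw [← not_lt, Finset.two_lt_card_iff]
      rintro ⟨x, y, z, hx, hy, hz, hxy, hxz, hyz⟩
      exact hg1 (uniq g x y z hxy hxz hyz (Finset.mem_filter.1 hx).2 (Finset.mem_filter.1 hy).2 (Finset.mem_filter.1 hz).2)
  have hx0T : x0 ∈ T := Finset.mem_filter.2 ⟨Finset.mem_univ _, hx0⟩
  have hN3 : N % 3 = 2 := by
    obtain ⟨h1, h2⟩ := hfix x0 hx0T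
    have : 2 ≤ (Finset.univ.filter fun x : α => x0 • x = x).card := by
      rw [← Finset.card_pair hab]
      exact Finset.card_le_card fun z hz => by
        rcases Finset.mem_insert.1 hz with rfl | hz
        · simp [hx0a]
        · simp [Finset.mem_singleton.1 hz, hx0b]
    omega
  have hfix2 : ∀ g ∈ T, (Finset.univ.filter fun x : α => g • x = x).card = 2 := fun g hg => by
    obtain ⟨h1, h2⟩ := hfix g hg; omega
  -- moved points against triples
  let P2 : Finset (α × α) := Finset.univ.filter fun q => q.1 ≠ q.2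
  let P3 : Finset (α × α × α) := Finset.univ.filter fun q => q.1 ≠ q.2.1 ∧ q.1 ≠ q.2.2 ∧ q.2.1 ≠ q.2.2
  have hP2 : P2.card = N * (N - 1) := by
    have : P2 = (Finset.univ : Finset α).offDiag := by ext q; simp [P2]
    rw [this, Finset.offDiag_card, Finset.card_univ, Nat.mul_sub, mul_one]
  have hP3 : P3.card ≤ (N - 2) * P2.card := by
    refine Finset.card_le_mul_card_image_of_maps_to (f := fun q => (q.1, q.2.1)) (t := P2)
      (fun q hq => Finset.mem_filter.2 ⟨Finset.mem_univ _, (Finset.mem_filter.1 hq).2.1⟩) (N - 2) ?_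
    rintro ⟨u, v⟩ huv
    have huv' : u ≠ v := (Finset.mem_filter.1 huv).2
    have hc : ((Finset.univ : Finset α) \ {u, v}).card = N - 2 := by
      rw [Finset.card_sdiff_of_subset (Finset.subset_univ _), Finset.card_univ, Finset.card_pair huv']
    rw [← hc]
    refine Finset.card_le_card_of_injOn (fun q => q.2.2) ?_ ?_
    · rintro ⟨p, q, r⟩ hm
      obtain ⟨hm1, he⟩ := Finset.mem_filter.1 hm
      obtain ⟨-, -, h2, h3⟩ := Finset.mem_filter.1 hm1
      simp only [Prod.mk.injEq] at he
      obtain ⟨rfl, rfl⟩ := he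
      simp [Ne.symm h2, Ne.symm h3]
    · rintro ⟨p, q, r⟩ hm ⟨p', q', r'⟩ hm' (rfl : r = r')
      have e1 := (Finset.mem_filter.1 hm).2
      have e2 := (Finset.mem_filter.1 hm').2
      simp only [Prod.mk.injEq] at e1 e2 ⊢
      exact ⟨e1.1.trans e2.1.symm, e1.2.trans e2.2.symm, trivial⟩
  let M : Finset (G × α) := (T ×ˢ Finset.univ).filter fun u => u.1 • u.2 ≠ u.2
  have hM : (N - 2) * T.card ≤ M.card := by
    refine Finset.mul_card_image_le_card_of_maps_to (f := fun u => u.1) (t := T)
      (fun u hu => (Finset.mem_product.1 (Finset.mem_filter.1 hu).1).1) (N - 2) ?_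
    intro g hg
    have hc : (Finset.univ.filter fun x : α => ¬ g • x = x).card = N - 2 := by
      have := Finset.card_filter_add_card_filter_not (s := (Finset.univ : Finset α)) (fun x : α => g • x = x)
      rw [hfix2 g hg, Finset.card_univ] at this
      omega
    rw [← hc]
    refine Finset.card_le_card_of_injOn (fun x => (g, x)) (fun x hx => ?_) (fun x _ y _ e => congrArg Prod.snd e)
    exact Finset.mem_filter.2 ⟨Finset.mem_filter.2 ⟨Finset.mem_product.2 ⟨hg, Finset.mem_univ _⟩, (Finset.mem_filter.1 hx).2⟩, rfl⟩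
  have hMP : M.card ≤ P3.card := by
    refine Finset.card_le_card_of_injOn (fun u => (u.2, u.1 • u.2, u.1 • u.1 • u.2)) ?_ ?_
    · rintro ⟨g, x⟩ hu
      obtain ⟨hu1, hmv⟩ := Finset.mem_filter.1 hu
      have hg3 : orderOf g = 3 := (Finset.mem_filter.1 (Finset.mem_product.1 hu1).1).2
      have h3x : g • g • g • x = x := by
        rw [← mul_smul, ← mul_smul, show g * g * g = g ^ 3 by rw [pow_succ, pow_two], ← hg3, pow_orderOf_eq_one, one_smul]
      have hmv' : g • x ≠ x := hmv
      refine Finset.mem_filter.2 ⟨Finset.mem_univ _, Ne.symm hmv', fun e => hmv' ?_, fun e => hmv' (smul_left_cancel g e).symm⟩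
      have e' : x = g • g • x := e
      calc g • x = g • g • g • x := congrArg (g • ·) e'
        _ = x := h3x
    · rintro ⟨g, x⟩ hu ⟨h, y⟩ hu' e
      simp only [Prod.mk.injEq] at e
      obtain ⟨rfl, e1, e2⟩ := e
      obtain ⟨hu1, hmv⟩ := Finset.mem_filter.1 hu
      obtain ⟨hu1', -⟩ := Finset.mem_filter.1 hu'
      have hg3 : orderOf g = 3 := (Finset.mem_filter.1 (Finset.mem_product.1 hu1).1).2
      have hh3 : orderOf h = 3 := (Finset.mem_filter.1 (Finset.mem_product.1 hu1').1).2
      have hmv' : g • x ≠ x := hmv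
      have h3x : ∀ k : G, orderOf k = 3 → k • k • k • x = x := fun k hk => by
        rw [← mul_smul, ← mul_smul, show k * k * k = k ^ 3 by rw [pow_succ, pow_two], ← hk, pow_orderOf_eq_one, one_smul]
      have e3 : g • g • x = h • g • x := by rw [e2, e1]
      have e4 : g • g • g • x = h • g • g • x := by
        rw [h3x g hg3]
        conv_rhs => rw [e2]
        rw [h3x h hh3]
      refine Prod.ext (inv_mul_eq_one.1 (uniq (h⁻¹ * g) x (g • x) (g • g • x) (Ne.symm hmv') (fun e => hmv' ?_)
        (fun e => hmv' (smul_left_cancel g e).symm) ?_ ?_ ?_)).symm rfl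
      · calc g • x = g • g • g • x := congrArg (g • ·) e
          _ = x := h3x g hg3
      · rw [mul_smul, inv_smul_eq_iff]; exact e1
      · rw [mul_smul, inv_smul_eq_iff]; exact e3
      · rw [mul_smul, inv_smul_eq_iff]; exact e4
  have hT : T.card ≤ N * (N - 1) := by
    have h := hM.trans (hMP.trans hP3)
    rw [hP2] at h
    exact Nat.le_of_mul_le_mul_left h (by omega)
  -- incidences with ordered pairs of fixed points
  let I : Finset (G × (α × α)) := (T ×ˢ P2).filter fun u => u.1 • u.2.1 = u.2.1 ∧ u.1 • u.2.2 = u.2.2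
  have hI : I.card ≤ 2 * T.card := by
    refine Finset.card_le_mul_card_image_of_maps_to (f := fun u => u.1) (t := T)
      (fun u hu => (Finset.mem_product.1 (Finset.mem_filter.1 hu).1).1) 2 ?_
    intro g hg
    obtain ⟨p, q, hpq, hF⟩ := Finset.card_eq_two.1 (hfix2 g hg)
    refine (Finset.card_le_card (t := {(g, (p, q)), (g, (q, p))}) ?_).trans Finset.card_le_two
    rintro ⟨g', u, v⟩ hm
    obtain ⟨hm1, rfl : g' = g⟩ := Finset.mem_filter.1 hm
    obtain ⟨hm2, hu, hv⟩ := Finset.mem_filter.1 hm1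
    have huv : u ≠ v := (Finset.mem_filter.1 (Finset.mem_product.1 hm2).2).2
    have hu' : u = p ∨ u = q := by
      have : u ∈ (Finset.univ.filter fun x : α => g' • x = x) := Finset.mem_filter.2 ⟨Finset.mem_univ _, hu⟩
      rw [hF] at this; simpa using this
    have hv' : v = p ∨ v = q := by
      have : v ∈ (Finset.univ.filter fun x : α => g' • x = x) := Finset.mem_filter.2 ⟨Finset.mem_univ _, hv⟩
      rw [hF] at this; simpa using this
    rcases hu' with rfl | rfl <;> rcases hv' with rfl | rfl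
    · exact absurd rfl huv
    · simp
    · simp
    · exact absurd rfl huv
  set d := (Finset.univ.filter fun g : G => orderOf g = 3 ∧ g • a = a ∧ g • b = b).card
  have hd : d * P2.card ≤ I.card := by
    refine Finset.mul_card_image_le_card_of_maps_to (f := fun u => u.2) (t := P2)
      (fun u hu => (Finset.mem_product.1 (Finset.mem_filter.1 hu).1).2) d ?_
    rintro ⟨u, v⟩ huv
    have huv' : u ≠ v := (Finset.mem_filter.1 huv).2
    obtain ⟨c, -, hc⟩ := Finset.exists_mem_notMem_of_card_lt_card (s := ({a, b} : Finset α)) (t := Finset.univ)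
      (lt_of_le_of_lt Finset.card_le_two (by rw [Finset.card_univ]; omega))
    obtain ⟨w, -, hw⟩ := Finset.exists_mem_notMem_of_card_lt_card (s := ({u, v} : Finset α)) (t := Finset.univ)
      (lt_of_le_of_lt Finset.card_le_two (by rw [Finset.card_univ]; omega))
    simp only [Finset.mem_insert, Finset.mem_singleton, not_or] at hc hw
    obtain ⟨k, hka, hkb, -⟩ := trans3 hab (Ne.symm hc.1) (Ne.symm hc.2) huv' (Ne.symm hw.1) (Ne.symm hw.2)
    refine Finset.card_le_card_of_injOn (fun g => (k * g * k⁻¹, (u, v))) (fun g hg => ?_) (fun g _ g' _ e => by simpa using e)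
    obtain ⟨-, hg3, hga, hgb⟩ := Finset.mem_filter.1 hg
    have hfu : (k * g * k⁻¹) • u = u := by rw [← hka, mul_smul, mul_smul, inv_smul_smul, hga]
    have hfv : (k * g * k⁻¹) • v = v := by rw [← hkb, mul_smul, mul_smul, inv_smul_smul, hgb]
    refine Finset.mem_filter.2 ⟨Finset.mem_filter.2 ⟨Finset.mem_product.2 ⟨Finset.mem_filter.2 ⟨Finset.mem_univ _, ?_⟩, huv⟩,
      hfu, hfv⟩, rfl⟩
    rw [← hg3]; exact MulEquiv.orderOf_eq (MulAut.conj k) g
  have hpos : 0 < P2.card := Finset.card_pos.2 ⟨(a, b), Finset.mem_filter.2 ⟨Finset.mem_univ _, hab⟩⟩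
  refine Nat.le_of_mul_le_mul_right (hd.trans (hI.trans ?_)) hpos
  rw [hP2]
  exact Nat.mul_le_mul_left 2 hT

/-- In a sharply triply transitive group of even degree at least 6 (degree `q + 1`, `q` odd), a two-point stabiliser has at most one subgroup of order 3. -/
theorem result {α : Type*} [Fintype α] [DecidableEq α] (heven : Even (Fintype.card α)) (h6 : 6 ≤ Fintype.card α) (G : Subgroup (Equiv.Perm α)) (h3 : MulAction.IsMultiplyPretransitive G α 3) (hsharp : ∀ x : Fin 3 ↪ α, MulAction.stabilizer G x = ⊥) {a b : α} (hab : a ≠ b) (A B : Subgroup G) (hA : A ≤ MulAction.stabilizer G a ⊓ MulAction.stabilizer G b) (hB : B ≤ MulAction.stabilizer G a ⊓ MulAction.stabilizer G b) (hA3 : Nat.card A = 3) (hB3 : Nat.card B = 3) : A = B := by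
  classical
  have : Fact (Nat.Prime 3) := ⟨Nat.prime_three⟩
  obtain ⟨x, hx⟩ := exists_prime_orderOf_dvd_card' (G := A) 3 (by rw [hA3])
  obtain ⟨y, hy⟩ := exists_prime_orderOf_dvd_card' (G := B) 3 (by rw [hB3])
  have hx' : orderOf (x : G) = 3 := (Subgroup.orderOf_coe x).trans hx
  have hy' : orderOf (y : G) = 3 := (Subgroup.orderOf_coe y).trans hy
  have hgen : ∀ (C : Subgroup G) (z : G), z ∈ C → Nat.card C = 3 → orderOf z = 3 → Subgroup.zpowers z = C := fun C z hz hC ho =>
    Subgroup.eq_of_le_of_card_ge (Subgroup.zpowers_le.2 hz) (by rw [Nat.card_zpowers, ho, hC])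
  set S := Finset.univ.filter fun g : G => orderOf g = 3 ∧ g • a = a ∧ g • b = b
  have hS : ∀ z : G, orderOf z = 3 → z • a = a → z • b = b → z ∈ S := fun z h1 h2 h3 =>
    Finset.mem_filter.2 ⟨Finset.mem_univ _, h1, h2, h3⟩
  have hne : (x : G) ≠ (x : G)⁻¹ := fun e => by
    have h2 : (x : G) ^ 2 = 1 := by rw [sq]; nth_rw 1 [e]; exact inv_mul_cancel _
    have := orderOf_dvd_of_pow_eq_one h2
    rw [hx'] at this; norm_num at this
  have hxS : ({(x : G), (x : G)⁻¹} : Finset G) ⊆ S := by
    intro z hz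
    rcases Finset.mem_insert.1 hz with rfl | hz
    · exact hS _ hx' (hA x.2).1 (hA x.2).2
    · rw [Finset.mem_singleton.1 hz]
      exact hS _ (by rw [orderOf_inv, hx']) (hA (A.inv_mem x.2)).1 (hA (A.inv_mem x.2)).2
  have hle : S.card ≤ 2 := two_elements G h3 hsharp h6 hab (x : G) hx' (hA x.2).1 (hA x.2).2
  have heq : ({(x : G), (x : G)⁻¹} : Finset G) = S :=
    Finset.eq_of_subset_of_card_le hxS (hle.trans (Finset.card_pair hne).symm.le)
  have hyA : (y : G) ∈ A := by
    have : (y : G) ∈ S := hS _ hy' (hB y.2).1 (hB y.2).2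
    rw [← heq] at this
    rcases Finset.mem_insert.1 this with h | h
    · rw [h]; exact x.2
    · rw [Finset.mem_singleton.1 h]; exact A.inv_mem x.2
  exact (hgen A _ hyA hA3 hy').symm.trans (hgen B _ y.2 hB3 hy')

end Cfsg.Agent.S0728
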