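import Cfsg.Statements.S0344
import Cfsg.Agent.Zassenhaus.PSL
import Cfsg.Agent.Zassenhaus.NotSharp
import Cfsg.Agent.S0741
-- import your own Cfsg.Agent.* helpers here

set_option autoImplicit false
open Cfsg

namespace Cfsg.Agent.S0344

/-- A finite simple Zassenhaus group with a two-point stabiliser of even order is isomorphic to `PSL₂(F)` for a finite
field `F` with more than three elements. -/
theorem result {G Ω : Type*} [Group G] [Finite G] [MulAction G Ω] [Finite Ω]
    (hZ : Cfsg.IsZassenhausGroup G Ω) [IsSimpleGroup G]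
    {a b : Ω} (hab : a ≠ b) (heven : Even (Nat.card ↥(MulAction.stabilizer G a ⊓ MulAction.stabilizer G b))) :
    ∃ (F : Type) (_ : Field F) (_ : Fintype F), 3 < Fintype.card F ∧ Nonempty (G ≃* Matrix.ProjectiveSpecialLinearGroup (Fin 2) F) := by
  classical
  haveI := Fintype.ofFinite Ω
  have h := S0741.result hZ hab heven
  obtain ⟨hf, h2, h3, -, -⟩ := hZ
  have C : Zassenhaus.ZCtx G Ω :=
    ⟨fun {x y u v} h h' => MulAction.is_two_pretransitive_iff.1 h2 h h', h3⟩
  rw [← Nat.card_eq_fintype_card] at h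
  have hN3 : 3 ≤ Nat.card Ω := by
    haveI : Nontrivial (Zassenhaus.twoPt G a b) := by
      rw [← Finite.one_lt_card_iff_nontrivial]
      have := Nat.card_pos (α := Zassenhaus.twoPt G a b)
      obtain ⟨j, hj⟩ := heven
      show 1 < Nat.card (Zassenhaus.twoPt G a b)
      have hj' : Nat.card (Zassenhaus.twoPt G a b) = j + j := hj
      omega
    obtain ⟨g, hg⟩ := exists_ne (1 : Zassenhaus.twoPt G a b)
    by_contra hlt
    apply hg
    refine Subtype.ext ?_
    haveI := hf
    refine FaithfulSMul.eq_of_smul_eq_smul (α := Ω) fun z => ?_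
    have hz : z = a ∨ z = b := by
      by_contra hz
      rw [not_or] at hz
      have : ({z, a, b} : Finset Ω).card = 3 :=
        Finset.card_eq_three.2 ⟨z, a, b, hz.1, hz.2, hab, rfl⟩
      have := Finset.card_le_univ ({z, a, b} : Finset Ω)
      rw [Nat.card_eq_fintype_card] at hlt
      omega
    rcases hz with rfl | rfl
    · rw [Subgroup.coe_one, one_smul]; exact g.2.1
    · rw [Subgroup.coe_one, one_smul]; exact g.2.2
  obtain ⟨F, hF⟩ := C.exists_kernel hN3 hab (fun e => by
    rw [show MulAction.stabilizer G a ⊓ MulAction.stabilizer G b = (⊥ : Subgroup G) from e,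
      Subgroup.card_bot] at heven
    exact absurd heven Nat.not_even_one)
  have hn := hF.card_eq hab
  obtain ⟨m, hm⟩ := hF.card_two_dvd C hab
  by_cases hfull : Nat.card (Zassenhaus.twoPt G a b) + 2 = Nat.card Ω
  · exact (C.not_simple hN3 hab heven hfull).elim
  have hd : 2 * Nat.card (Zassenhaus.twoPt G a b) + 2 = Nat.card Ω := by
    rcases (show m = 0 ∨ m = 1 ∨ 2 ≤ m by omega) with rfl | rfl | hm2
    · omega
    · omega
    · have : Nat.card (Zassenhaus.twoPt G a b) * 2 ≤ Nat.card (Zassenhaus.twoPt G a b) * m :=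
        Nat.mul_le_mul_left _ hm2
      change Nat.card Ω - 2 ≤ 2 * Nat.card (Zassenhaus.twoPt G a b) at h
      omega
  obtain ⟨p, f, K, iK, iFK, hp, hp2, hK, hO, hiso⟩ := C.identify hN3 hab heven hd
  refine ⟨K, iK, iFK, ?_, hiso⟩
  rw [hK]
  have hpos := Nat.card_pos (α := Zassenhaus.twoPt G a b)
  obtain ⟨j, hj⟩ := heven
  change Nat.card (Zassenhaus.twoPt G a b) = _ at hj
  omega

end Cfsg.Agent.S0344
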