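import Cfsg.Agent.BlockThms.BrauerMap
import Cfsg.Agent.Char.Induced
import Cfsg.Statements.S0944

set_option autoImplicit false
open Cfsg Cfsg.Agent.BlockThms Cfsg.Agent.Char

namespace Cfsg.Agent.S0944

/-- Let χ be an irreducible character of the finite group G and u an involution. Then χ u is a rational integer n with n ≡ χ 1 (mod 2). -/
theorem result {G : Type*} [Group G] [Finite G] (χ : Cfsg.IrrCharacter G) (u : G) (hu : orderOf u = 2) : ∃ n : ℤ, (χ : G → ℂ) u = (n : ℂ) ∧ (2 : ℤ) ∣ (Cfsg.charDegree (χ : G → ℂ) : ℤ) - n := by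
  obtain ⟨χ, m, ρ, hρ, rfl⟩ := χ
  show ∃ n : ℤ, ρ.character u = (n : ℂ) ∧ (2 : ℤ) ∣ (charDegree ρ.character : ℤ) - n
  obtain ⟨μ, b, -, hμ, hχ⟩ := exists_eigenbasis ρ u
  have hm : (ρ.character 1) = ((Module.finrank ℂ (Fin m → ℂ) : ℕ) : ℂ) := ρ.char_one
  have hd : charDegree ρ.character = Module.finrank ℂ (Fin m → ℂ) := by
    rw [charDegree, hm]; simp
  have hpm : ∀ i, ∃ s : ℤ, μ i = (s : ℂ) ∧ (2 : ℤ) ∣ 1 - s := fun i => by
    have := hμ i
    rw [hu] at this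
    rcases sq_eq_one_iff.1 this with h | h
    · exact ⟨1, by simp [h], by norm_num⟩
    · exact ⟨-1, by simp [h], by norm_num⟩
  choose s hs hs2 using hpm
  refine ⟨∑ i, s i, by rw [hχ]; push_cast; exact Finset.sum_congr rfl fun i _ => hs i, ?_⟩
  rw [hd]
  have : (Module.finrank ℂ (Fin m → ℂ) : ℤ) - ∑ i, s i = ∑ i, (1 - s i) := by
    rw [Finset.sum_sub_distrib]; simp
  rw [this]
  exact Finset.dvd_sum fun i _ => hs2 i

end Cfsg.Agent.S0944
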