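import Cfsg.Statements.S0188
import Cfsg.Agent.Char.Gen
-- import your own Cfsg.Agent.* helpers here

set_option autoImplicit false
open Cfsg

namespace Cfsg.Agent.S0188

/-- The irreducible complex characters of G × H are precisely the functions (g, h) ↦ φ g * ψ h with φ, ψ irreducible characters of G and H. -/
theorem result {G : Type*} [Group G] [Finite G] {H : Type*} [Group H] [Finite H] (θ : G × H → ℂ) : Cfsg.IsIrrCharacter (G × H) θ ↔ ∃ (φ : G → ℂ) (ψ : H → ℂ), Cfsg.IsIrrCharacter G φ ∧ Cfsg.IsIrrCharacter H ψ ∧ θ = fun x => φ x.1 * ψ x.2 := by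
  classical
  have := Fintype.ofFinite G
  have := Fintype.ofFinite H
  have hprod : ∀ (f : G → ℂ) (f' : H → ℂ) (φ : G → ℂ) (ψ : H → ℂ),
      classInner (fun x : G × H => f x.1 * f' x.2) (fun x => φ x.1 * ψ x.2) =
        classInner f φ * classInner f' ψ := by
    intro f f' φ ψ
    simp only [classInner, Nat.card_prod, Nat.cast_mul, Fintype.sum_prod_type, map_mul, mul_inv]
    rw [mul_mul_mul_comm, Finset.sum_mul_sum]
    congr 1
    refine Finset.sum_congr rfl fun g _ => Finset.sum_congr rfl fun h _ => ?_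
    ring
  have hirr : ∀ (φ : G → ℂ) (ψ : H → ℂ), IsIrrCharacter G φ → IsIrrCharacter H ψ →
      IsIrrCharacter (G × H) (fun x => φ x.1 * ψ x.2) := by
    intro φ ψ hφ hψ
    refine (Char.isIrr_iff_norm_one (Char.isCharacter_mul
      (Char.isCharacter_comp (MonoidHom.fst G H) (Char.IsIrr.isCharacter hφ))
      (Char.isCharacter_comp (MonoidHom.snd G H) (Char.IsIrr.isCharacter hψ)))).2 ?_
    show classInner (fun x : G × H => φ x.1 * ψ x.2) (fun x => φ x.1 * ψ x.2) = 1
    rw [hprod, Char.classInner_irr_self hφ, Char.classInner_irr_self hψ, one_mul]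
  constructor
  · intro hθ
    by_contra hcon
    push_neg at hcon
    have hθc := Char.isClassFunction_of_isIrr hθ
    have h0 : ∀ (φ : IrrCharacter G) (ψ : IrrCharacter H),
        (∑ h, (∑ g, θ (g, h) * (starRingEnd ℂ) ((φ : G → ℂ) g)) *
          (starRingEnd ℂ) ((ψ : H → ℂ) h)) = 0 := by
      intro φ ψ
      have hh := Char.classInner_irr_ne hθ (hirr φ ψ φ.2 ψ.2) (hcon φ ψ φ.2 ψ.2)
      rw [classInner, mul_eq_zero, or_iff_right (inv_ne_zero Char.card_ne_zero),
        Fintype.sum_prod_type, Finset.sum_comm] at hh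
      rw [← hh]
      refine Finset.sum_congr rfl fun h _ => ?_
      rw [Finset.sum_mul]
      refine Finset.sum_congr rfl fun g _ => ?_
      rw [map_mul]; ring
    have h1 : ∀ (φ : IrrCharacter G),
        (fun h => ∑ g, θ (g, h) * (starRingEnd ℂ) ((φ : G → ℂ) g)) = 0 := by
      intro φ
      refine Char.classFun_eq_zero ?_ fun ψ => ?_
      · intro h k
        refine Finset.sum_congr rfl fun g _ => ?_
        have h2 := hθc (g, h) ((1 : G), k)
        simp only [Prod.mk_mul_mk, Prod.inv_mk, one_mul, inv_one, mul_one] at h2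
        rw [h2]
      · rw [classInner, h0 φ ψ, mul_zero]
    refine Char.IsIrr.one_ne_zero hθ ?_
    have hz : (fun g => θ (g, (1 : H))) = 0 := by
      refine Char.classFun_eq_zero ?_ fun φ => ?_
      · intro g k
        have h2 := hθc (g, (1 : H)) (k, (1 : H))
        simp only [Prod.mk_mul_mk, Prod.inv_mk, one_mul, inv_one, mul_one] at h2
        exact h2
      · have h2 := congrFun (h1 φ) 1
        simp only [Pi.zero_apply] at h2
        rw [classInner, h2, mul_zero]
    exact congrFun hz 1
  · rintro ⟨φ, ψ, hφ, hψ, rfl⟩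
    exact hirr φ ψ hφ hψ

end Cfsg.Agent.S0188
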