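import Cfsg.Statements.S0740
import Mathlib.GroupTheory.Perm.Cycle.Type
import Mathlib.GroupTheory.PGroup

set_option autoImplicit false
open Cfsg

namespace Cfsg.Agent.S0740

/-- In a finite Zassenhaus group any two points `a ≠ b` are swapped by an involution; every such involution has exactly one fixed point when the degree is odd and 0 or 2 fixed points when the degree is even; and if the two-point stabiliser has even order, some such involution has exactly 2 fixed points. -/
theorem result {G Ω : Type*} [Group G] [Finite G] [MulAction G Ω] [Fintype Ω] (hZ : Cfsg.IsZassenhausGroup G Ω) {a b : Ω} (hab : a ≠ b) : (∃ s : G, orderOf s = 2 ∧ s • a = b ∧ s • b = a) ∧ (∀ s : G, orderOf s = 2 → s • a = b → s • b = a → (Odd (Fintype.card Ω) → Nat.card (MulAction.fixedBy Ω s) = 1) ∧ (Even (Fintype.card Ω) → Nat.card (MulAction.fixedBy Ω s) = 0 ∨ Nat.card (MulAction.fixedBy Ω s) = 2)) ∧ (Even (Fintype.card Ω) → Even (Nat.card ↥(MulAction.stabilizer G a ⊓ MulAction.stabilizer G b)) → ∃ s :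 G, orderOf s = 2 ∧ s • a = b ∧ s • b = a ∧ Nat.card (MulAction.fixedBy Ω s) = 2) := by
  classical
  obtain ⟨hf, h2, h3, -, -⟩ := hZ
  have h2' : ∀ {x y u v : Ω}, x ≠ y → u ≠ v → ∃ g : G, g • x = u ∧ g • y = v := MulAction.is_two_pretransitive_iff.1 h2
  have : Fact (Nat.Prime 2) := ⟨Nat.prime_two⟩
  have hconj : ∀ {s g : G}, orderOf s = 2 → orderOf (g * s * g⁻¹) = 2 := fun {s g} hs => by
    rw [← hs]; exact MulEquiv.orderOf_eq (MulAut.conj g) s
  have carry : ∀ {s : G} {x : Ω}, orderOf s = 2 → s • x ≠ x → ∃ g : G, g • x = a ∧ g • s • x = b ∧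
      (g * s * g⁻¹) • a = b ∧ (g * s * g⁻¹) • b = a := fun {s x} hs hx => by
    obtain ⟨g, hg1, hg2⟩ := h2' (Ne.symm hx) hab
    have htt : s • s • x = x := by rw [← mul_smul, ← sq, ← hs, pow_orderOf_eq_one, one_smul]
    exact ⟨g, hg1, hg2, by rw [mul_smul, mul_smul, ← hg1, inv_smul_smul, hg2],
      by rw [mul_smul, mul_smul, ← hg2, inv_smul_smul, htt, hg1]⟩
  have hmoves : ∀ {s : G}, s ≠ 1 → ∃ x : Ω, s • x ≠ x := fun {s} hs => by
    by_contra! h
    exact hs (FaithfulSMul.eq_of_smul_eq_smul (α := Ω) fun x => by rw [h x, one_smul])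
  have hfix : ∀ s : G, s ≠ 1 → Nat.card (MulAction.fixedBy Ω s) ≤ 2 := fun s hs => by
    by_contra h
    rw [Nat.card_eq_fintype_card, not_le, Fintype.two_lt_card_iff] at h
    obtain ⟨x, y, z, hxy, hxz, hyz⟩ := h
    exact hs (h3 s x y z (fun e => hxy (Subtype.ext e)) (fun e => hyz (Subtype.ext e)) (fun e => hxz (Subtype.ext e)) x.2 y.2 z.2)
  have hpar : ∀ s : G, orderOf s = 2 → Fintype.card Ω % 2 = Nat.card (MulAction.fixedBy Ω s) % 2 := fun s hs => by
    have hP : IsPGroup 2 (Subgroup.zpowers s) := IsPGroup.of_card (n := 1) (by rw [Nat.card_zpowers, hs]; rfl)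
    have := hP.card_modEq_card_fixedPoints Ω
    rw [Nat.card_eq_fintype_card (α := Ω)] at this
    rw [show Nat.card (MulAction.fixedBy Ω s) = Nat.card (MulAction.fixedPoints (Subgroup.zpowers s) Ω) from
      Nat.card_congr (Equiv.subtypeEquivRight fun x => ⟨fun hx g => by
        obtain ⟨k, hk⟩ := g.2
        show (g : G) • x = x
        rw [← hk]
        exact MulAction.mem_stabilizer_iff.1 ((MulAction.stabilizer G x).zpow_mem hx k),
        fun hx => hx ⟨s, Subgroup.mem_zpowers s⟩⟩)]
    exact this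
  refine ⟨?_, fun s hs hsa hsb => ?_, fun hev hD => ?_⟩
  · have hne : ∃ t : G, orderOf t = 2 := by
      obtain ⟨g, hg1, hg2⟩ := h2' hab (Ne.symm hab)
      refine exists_prime_orderOf_dvd_card' 2 ?_
      by_contra hodd
      have hg_odd : Odd (orderOf g) := Nat.not_even_iff_odd.1 fun he => hodd ((even_iff_two_dvd.1 he).trans (orderOf_dvd_natCard g))
      obtain ⟨k, hk⟩ := hg_odd
      have h2k : ∀ j : ℕ, (g ^ (2 * j)) • a = a := fun j => by
        induction j with
        | zero => simp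
        | succ j ih => rw [Nat.mul_succ, pow_add, mul_smul, sq, mul_smul, hg1, hg2, ih]
      have := pow_orderOf_eq_one g
      rw [hk, pow_succ'] at this
      have h' := congrArg (fun t : G => t • a) this
      simp only [mul_smul, h2k, hg1, one_smul] at h'
      exact hab h'.symm
    obtain ⟨t, ht⟩ := hne
    obtain ⟨x, hx⟩ := hmoves (s := t) (fun h => by rw [h, orderOf_one] at ht; norm_num at ht)
    obtain ⟨g, -, -, h1, h2⟩ := carry ht hx
    exact ⟨_, hconj ht, h1, h2⟩
  · have hs1 : s ≠ 1 := fun h => by rw [h, orderOf_one] at hs; norm_num at hs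
    have hle := hfix s hs1
    have hp := hpar s hs
    constructor
    · intro ho; rw [Nat.odd_iff] at ho; omega
    · intro he; rw [Nat.even_iff] at he; omega
  · obtain ⟨t, ht⟩ := exists_prime_orderOf_dvd_card' 2 (even_iff_two_dvd.1 hD)
    have ht' : orderOf (t : G) = 2 := (Subgroup.orderOf_coe t).trans ht
    have ht1 : (t : G) ≠ 1 := fun h => by rw [h, orderOf_one] at ht'; norm_num at ht'
    obtain ⟨x, hx⟩ := hmoves ht1
    obtain ⟨g, -, -, h1, h2⟩ := carry ht' hx
    refine ⟨_, hconj ht', h1, h2, ?_⟩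
    have h2fix : 2 ≤ Nat.card (MulAction.fixedBy Ω (g * (t : G) * g⁻¹)) := by
      rw [Nat.card_eq_fintype_card]
      refine Fintype.one_lt_card_iff.2 ⟨⟨g • a, ?_⟩, ⟨g • b, ?_⟩, fun h => hab (smul_left_cancel g (congrArg Subtype.val h))⟩
      · show (g * (t : G) * g⁻¹) • g • a = g • a
        rw [mul_smul, mul_smul, inv_smul_smul, t.2.1]
      · show (g * (t : G) * g⁻¹) • g • b = g • b
        rw [mul_smul, mul_smul, inv_smul_smul, t.2.2]
    have hn1 : g * (t : G) * g⁻¹ ≠ 1 := fun h => by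
      have := hconj (g := g) ht'; rw [h, orderOf_one] at this; norm_num at this
    have := hfix _ hn1
    omega

end Cfsg.Agent.S0740
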