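import Cfsg.Statements.S0878
-- import your own Cfsg.Agent.* helpers here

set_option autoImplicit false
open Cfsg

namespace Cfsg.Agent.S0878

/-- Let G be a Zassenhaus group on the finite set Ω, a a point, and let H be the subgroup of the stabilizer of a consisting of the identity and the elements fixing no point other than a (given here as a subgroup of the stabilizer of order one less than the number of points whose non-identity elements fix only a; it is the Frobenius kernel of the stabilizer). Then an element outside the stabilizer of a conjugates no non-identity element of H into H, and the normalizer of H is exactly the stabilizer of a. -/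
theorem result {G Ω : Type*} [Group G] [Finite G] [MulAction G Ω] [Fintype Ω] (hZ : Cfsg.IsZassenhausGroup G Ω) (a : Ω) (H : Subgroup G) (hHa : H ≤ MulAction.stabilizer G a) (hHcard : Nat.card H + 1 = Fintype.card Ω) (hHfix : ∀ u ∈ H, u ≠ 1 → ∀ c : Ω, u • c = c → c = a) : (∀ g : G, g ∉ MulAction.stabilizer G a → ∀ u ∈ H, g * u * g⁻¹ ∈ H → u = 1) ∧ Subgroup.normalizer (H : Set G) = MulAction.stabilizer G a := by
  classical
  obtain ⟨hf, h2, h3, ⟨g₀, hg₀, a₀, b₀, hab₀, ha₀, hb₀⟩, -⟩ := hZ
  have hHfix' : ∀ u ∈ H, ∀ c, c ≠ a → u • c = c → u = 1 := fun u hu c hc h =>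
    by_contra fun hu1 => hc (hHfix u hu hu1 c h)
  have hTI : ∀ g : G, g ∉ MulAction.stabilizer G a → ∀ u ∈ H, g * u * g⁻¹ ∈ H → u = 1 := by
    intro g hg u hu hgu
    by_contra hu1
    refine hg (hHfix _ hgu (fun e => hu1 (conj_eq_one_iff.1 e)) (g • a) ?_)
    rw [mul_smul, mul_smul, inv_smul_smul, hHa hu]
  refine ⟨hTI, le_antisymm (fun g hg => ?_) (fun g hg => ?_)⟩
  · by_contra hga
    have hH : H ≠ ⊥ := fun e => by
      rw [e, Subgroup.card_bot] at hHcard
      refine hg₀ (FaithfulSMul.eq_of_smul_eq_smul (α := Ω) fun c => ?_)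
      rw [one_smul]
      by_contra hc
      have : Fintype.card Ω ≥ 3 := Fintype.two_lt_card_iff.2
        ⟨a₀, b₀, c, hab₀, fun e => hc (e ▸ ha₀), fun e => hc (e ▸ hb₀)⟩
      omega
    obtain ⟨u, hu, hu1⟩ := (Subgroup.bot_or_exists_ne_one H).resolve_left hH
    exact hu1 (hTI g hga u hu ((Subgroup.mem_normalizer_iff.1 hg u).1 hu))
  -- the elements of the stabiliser fixing only `a`
  have := Fintype.ofFinite G
  set A := MulAction.stabilizer G a
  let T : Finset G := Finset.univ.filter fun u => u ∈ A ∧ u ≠ 1 ∧ ∀ c, u • c = c → c = a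
  let P : Finset Ω := Finset.univ.erase a
  let H' : Finset G := Finset.univ.filter fun u => u ∈ H
  let A' : Finset G := Finset.univ.filter fun u => u ∈ A
  let S : Ω → Finset G := fun c => Finset.univ.filter fun u => u ∈ A ∧ u • c = c
  have hH' : H'.card = Nat.card H := by rw [Nat.card_eq_fintype_card, Fintype.card_subtype]
  have hP : P.card = Nat.card H := by
    rw [Finset.card_erase_of_mem (Finset.mem_univ _), Finset.card_univ]; omega
  have horb : ∀ c ∈ P, H'.image (fun u => u • c) = P := by
    intro c hc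
    refine Finset.eq_of_subset_of_card_le (fun d hd => ?_) ?_
    · obtain ⟨u, hu, rfl⟩ := Finset.mem_image.1 hd
      refine Finset.mem_erase.2 ⟨fun e => (Finset.mem_erase.1 hc).1 ?_, Finset.mem_univ _⟩
      have hua : u • a = a := hHa (Finset.mem_filter.1 hu).2
      exact MulAction.injective u (show u • c = u • a by rw [e, hua])
    · rw [Finset.card_image_of_injOn, hH', hP]
      intro u hu v hv e
      simp only [H', Finset.coe_filter, Finset.mem_univ, true_and, Set.mem_setOf_eq] at hu hv
      refine inv_mul_eq_one.1 (hHfix' _ (H.mul_mem (H.inv_mem hu) hv) c (Finset.mem_erase.1 hc).1 ?_)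
      rw [mul_smul, inv_smul_eq_iff]
      exact e.symm
  have hS : ∀ c ∈ P, A'.card = Nat.card H * (S c).card := by
    intro c hc
    rw [← hH', ← Finset.card_product]
    refine (Finset.card_bij (fun t _ => t.1 * t.2) ?_ ?_ ?_).symm
    · intro t ht
      simp only [H', S, Finset.mem_product, Finset.mem_filter, Finset.mem_univ, true_and] at ht
      exact Finset.mem_filter.2 ⟨Finset.mem_univ _, A.mul_mem (hHa ht.1) ht.2.1⟩
    · intro t ht t' ht' e
      simp only [H', S, Finset.mem_product, Finset.mem_filter, Finset.mem_univ, true_and] at ht ht'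
      have h1 : t.1 = t'.1 := by
        refine inv_mul_eq_one.1 (hHfix' _ (H.mul_mem (H.inv_mem ht.1) ht'.1) c (Finset.mem_erase.1 hc).1 ?_)
        have h5 : (t.1 * t.2) • c = (t'.1 * t'.2) • c := by rw [e]
        rw [mul_smul, mul_smul, ht.2.2, ht'.2.2] at h5
        rw [mul_smul, inv_smul_eq_iff]
        exact h5.symm
      exact Prod.ext h1 (mul_left_cancel (h1 ▸ e))
    · intro u hu
      have huA : u ∈ A := (Finset.mem_filter.1 hu).2
      have huc : u • c ∈ P := Finset.mem_erase.2 ⟨fun e => (Finset.mem_erase.1 hc).1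
        (MulAction.injective u (show u • c = u • a by rw [e, show u • a = a from huA])),
        Finset.mem_univ _⟩
      rw [← horb c hc, Finset.mem_image] at huc
      obtain ⟨h, hh, he⟩ := huc
      have hh' : h ∈ H := (Finset.mem_filter.1 hh).2
      refine ⟨(h, h⁻¹ * u), Finset.mem_product.2 ⟨hh, Finset.mem_filter.2 ⟨Finset.mem_univ _,
        A.mul_mem (A.inv_mem (hHa hh')) huA, ?_⟩⟩, mul_inv_cancel_left _ _⟩
      rw [mul_smul, ← he, inv_smul_smul]
  have hcount : T.card + 1 + ∑ c ∈ P, ((S c).card - 1) = A'.card := by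
    have hsplit : A' = insert 1 (T ∪ P.biUnion fun c => (S c).erase 1) := by
      ext u
      simp only [A', T, P, S, Finset.mem_filter, Finset.mem_univ, true_and, Finset.mem_insert,
        Finset.mem_union, Finset.mem_biUnion, Finset.mem_erase, and_true]
      constructor
      · intro hu
        by_cases hu1 : u = 1
        · exact Or.inl hu1
        by_cases hfx : ∀ c, u • c = c → c = a
        · exact Or.inr (Or.inl ⟨hu, hu1, hfx⟩)
        push Not at hfx
        obtain ⟨c, hc, hca⟩ := hfx
        exact Or.inr (Or.inr ⟨c, hca, hu1, hu, hc⟩)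
      · rintro (rfl | ⟨hu, -⟩ | ⟨c, -, -, hu, -⟩)
        · exact A.one_mem
        · exact hu
        · exact hu
    rw [hsplit, Finset.card_insert_of_notMem (by simp [T]), Finset.card_union_of_disjoint ?_,
      Finset.card_biUnion ?_]
    · rw [Finset.sum_congr rfl (g := fun c => ((S c).erase 1).card) fun c _ =>
        (Finset.card_erase_of_mem (Finset.mem_filter.2 ⟨Finset.mem_univ _, A.one_mem, one_smul _ _⟩)).symm]
      omega
    · intro c hc d hd hcd
      refine Finset.disjoint_left.2 fun u hu hu' => hcd ?_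
      simp only [S, Finset.mem_erase, Finset.mem_filter, Finset.mem_univ, true_and] at hu hu'
      by_contra
      exact hu.1 (h3 u a c d (Finset.mem_erase.1 hc).1.symm hcd (Finset.mem_erase.1 hd).1.symm
        hu.2.1 hu.2.2 hu'.2.2)
    · refine Finset.disjoint_left.2 fun u hu hu' => ?_
      simp only [T, P, S, Finset.mem_filter, Finset.mem_univ, true_and, Finset.mem_biUnion,
        Finset.mem_erase] at hu hu'
      obtain ⟨c, ⟨hca, -⟩, -, -, hc⟩ := hu'
      exact hca (hu.2.2 c hc)
  have hTcard : T.card + 1 ≤ Nat.card H := by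
    have h5 : ∑ c ∈ P, ((S c).card - 1) + ∑ c ∈ P, 1 = ∑ c ∈ P, (S c).card := by
      rw [← Finset.sum_add_distrib]
      refine Finset.sum_congr rfl fun c _ => Nat.sub_add_cancel ?_
      exact Finset.card_pos.2 ⟨1, Finset.mem_filter.2 ⟨Finset.mem_univ _, A.one_mem, one_smul _ _⟩⟩
    have h6 : Nat.card H * ∑ c ∈ P, (S c).card = Nat.card H * A'.card := by
      rw [Finset.mul_sum, Finset.sum_congr rfl fun c hc => (hS c hc).symm, Finset.sum_const, hP,
        smul_eq_mul]
    have h7 := Nat.eq_of_mul_eq_mul_left Nat.card_pos h6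
    rw [Finset.sum_const, smul_eq_mul, mul_one, hP] at h5
    omega
  have heq : H'.erase 1 = T := by
    refine Finset.eq_of_subset_of_card_le (fun u hu => ?_) ?_
    · simp only [H', Finset.mem_erase, Finset.mem_filter, Finset.mem_univ, true_and] at hu
      exact Finset.mem_filter.2 ⟨Finset.mem_univ _, hHa hu.2, hu.1, hHfix u hu.2 hu.1⟩
    · rw [Finset.card_erase_of_mem (Finset.mem_filter.2 ⟨Finset.mem_univ _, H.one_mem⟩), hH']
      omega
  have hiff : ∀ u, u ≠ 1 → (u ∈ H ↔ u ∈ A ∧ ∀ c, u • c = c → c = a) := fun u hu1 => by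
    have := Finset.ext_iff.1 heq u
    simpa [H', T, hu1] using this
  have hconj : ∀ g ∈ A, ∀ u ∈ H, g * u * g⁻¹ ∈ H := by
    intro g hg u hu
    by_cases hu1 : u = 1
    · subst hu1; simp
    refine (hiff _ (fun e => hu1 (conj_eq_one_iff.1 e))).2
      ⟨A.mul_mem (A.mul_mem hg (hHa hu)) (A.inv_mem hg), fun c hc => ?_⟩
    have h8 : g⁻¹ • c = a := hHfix u hu hu1 _ (by
      rw [mul_smul, mul_smul] at hc
      exact eq_inv_smul_iff.2 hc)
    rw [← inv_smul_smul g⁻¹ c, h8, inv_inv]
    exact hg
  rw [Subgroup.mem_normalizer_iff]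
  refine fun u => ⟨hconj g hg u, fun hu => ?_⟩
  have := hconj g⁻¹ (A.inv_mem hg) _ hu
  simpa [mul_assoc] using this

end Cfsg.Agent.S0878
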