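import Cfsg.Statements.S0879
-- import your own Cfsg.Agent.* helpers here

set_option autoImplicit false
open Cfsg

namespace Cfsg.Agent.S0879

/-- Let G be a Zassenhaus group on the finite set Ω and E the stabilizer of two distinct points a, b. Then an element outside the normalizer of E conjugates no non-identity element of E into E, and E has index 2 in its normalizer. -/
theorem result {G Ω : Type*} [Group G] [Finite G] [MulAction G Ω] [Fintype Ω] (hZ : Cfsg.IsZassenhausGroup G Ω) {a b : Ω} (hab : a ≠ b) : (∀ g : G, g ∉ Subgroup.normalizer ((MulAction.stabilizer G a ⊓ MulAction.stabilizer G b : Subgroup G) : Set G) → ∀ x ∈ (MulAction.stabilizer G a ⊓ MulAction.stabilizer G b : Subgroup G), g * x * g⁻¹ ∈ (MulAction.stabilizer G a ⊓ MulAction.stabilizer G b : Subgroup G) → x = 1) ∧ ((MulAction.stabilizer G a ⊓ MulAction.stabilizer G b : Subgroup G).subgroupOf (Subgroup.normalizer ((MulAction.stabilizer G a ⊓ MulAction.stabilizer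 G b : Subgroup G) : Set G))).index = 2 := by
  obtain ⟨hf, h2, h3, ⟨g₀, hg₀, a₀, b₀, hab₀, ha₀, hb₀⟩, -⟩ := hZ
  have h2' : ∀ {x y u v : Ω}, x ≠ y → u ≠ v → ∃ g : G, g • x = u ∧ g • y = v :=
    MulAction.is_two_pretransitive_iff.1 h2
  set E : Subgroup G := MulAction.stabilizer G a ⊓ MulAction.stabilizer G b
  have hE : ∀ x : G, x ∈ E ↔ x • a = a ∧ x • b = b := fun x => Iff.rfl
  have hperm : ∀ {x : G}, x ∈ E → x ≠ 1 → ∀ c : Ω, x • c = c → c = a ∨ c = b := by
    intro x hx hx1 c hc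
    by_contra h
    push Not at h
    exact hx1 (h3 x a b c hab h.2.symm h.1.symm hx.1 hx.2 hc)
  have hmove : ∀ g x : G, x ∈ E → x ≠ 1 → g * x * g⁻¹ ∈ E →
      (g • a = a ∧ g • b = b) ∨ (g • a = b ∧ g • b = a) := by
    intro g x hx hx1 hgx
    have hne : g * x * g⁻¹ ≠ 1 := fun e => hx1 (conj_eq_one_iff.1 e)
    have ha : g • a = a ∨ g • a = b := hperm hgx hne _ (by rw [mul_smul, mul_smul, inv_smul_smul, hx.1])
    have hb : g • b = a ∨ g • b = b := hperm hgx hne _ (by rw [mul_smul, mul_smul, inv_smul_smul, hx.2])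
    have hd : g • a ≠ g • b := fun e => hab ((MulAction.injective g) e)
    rcases ha with ha | ha <;> rcases hb with hb | hb <;> first
      | exact absurd (ha.trans hb.symm) hd
      | exact Or.inl ⟨ha, hb⟩
      | exact Or.inr ⟨ha, hb⟩
  have hnorm : ∀ g : G, ((g • a = a ∧ g • b = b) ∨ (g • a = b ∧ g • b = a)) →
      g ∈ Subgroup.normalizer (E : Set G) := by
    intro g hg
    rw [Subgroup.mem_normalizer_iff]
    intro x
    have e : ∀ c : Ω, (g * x * g⁻¹) • (g • c) = g • c ↔ x • c = c := fun c => by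
      rw [mul_smul, mul_smul, inv_smul_smul]; exact (MulAction.injective g).eq_iff
    show x ∈ E ↔ g * x * g⁻¹ ∈ E
    rw [hE, hE]
    rcases hg with ⟨h1, h2⟩ | ⟨h1, h2⟩
    · have ea := e a; have eb := e b; rw [h1] at ea; rw [h2] at eb; rw [ea, eb]
    · have ea := e a; have eb := e b; rw [h1] at ea; rw [h2] at eb; rw [ea, eb, and_comm]
  have hne : ∃ x ∈ E, x ≠ 1 := by
    obtain ⟨t, h1, h2⟩ := h2' hab₀ hab
    refine ⟨t * g₀ * t⁻¹, ⟨?_, ?_⟩, fun e => hg₀ (conj_eq_one_iff.1 e)⟩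
    · show (t * g₀ * t⁻¹) • a = a
      rw [← h1, mul_smul, mul_smul, inv_smul_smul, ha₀]
    · show (t * g₀ * t⁻¹) • b = b
      rw [← h2, mul_smul, mul_smul, inv_smul_smul, hb₀]
  refine ⟨fun g hg x hx hgx => by_contra fun hx1 => hg (hnorm g (hmove g x hx hx1 hgx)), ?_⟩
  obtain ⟨s, hs1, hs2⟩ := h2' hab hab.symm
  rw [Subgroup.index_eq_two_iff]
  refine ⟨⟨s, hnorm s (Or.inr ⟨hs1, hs2⟩)⟩, fun n => ?_⟩
  obtain ⟨x, hx, hx1⟩ := hne
  have hn := hmove n x hx hx1 ((Subgroup.mem_normalizer_iff.1 n.2 x).1 hx)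
  show Xor' (((n : G) * s) ∈ E) ((n : G) ∈ E)
  rw [hE, hE, mul_smul, mul_smul, hs1, hs2]
  rcases hn with ⟨h1, h2⟩ | ⟨h1, h2⟩
  · exact Or.inr ⟨⟨h1, h2⟩, fun h => hab (h.1.symm.trans h2)⟩
  · exact Or.inl ⟨⟨h2, h1⟩, fun h => hab (h.1.symm.trans h1)⟩

end Cfsg.Agent.S0879
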