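import Mathlib.GroupTheory.Sylow
import Mathlib.GroupTheory.SpecificGroups.Cyclic
import Mathlib.GroupTheory.QuotientGroup.Basic
import Mathlib.Algebra.Group.Conj
import Cfsg.Agent.Invol.Count

/-!
# Frobenius' theorem on the number of solutions of `x ^ n = 1`

`gcd n |G|` divides the number of solutions, and the refinement for elements whose order is
divisible by `n`.
-/

namespace Cfsg.Agent.FrobeniusCount

open Subgroup

universe u

variable {G : Type u} [Group G]

/-- Splitting `x` into commuting parts of orders dividing the coprime numbers `A` and `d`. -/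
theorem card_split [Finite G] {A d e : ℕ} (hcop : A.Coprime d) (he1 : e ≡ 1 [MOD A]) (he0 : d ∣ e)
    (P : G → Prop) :
    Nat.card {x : G // x ^ (A * d) = 1 ∧ P (x ^ e)} =
      Nat.card (Σ u : {u : G // u ^ A = 1 ∧ P u},
        {v : centralizer ({(u : G)} : Set G) // v ^ d = 1}) := by
  obtain ⟨f, hf0, hf1⟩ := Nat.chineseRemainder hcop 0 1
  have hef : e + f ≡ 1 [MOD A * d] := by
    refine (Nat.modEq_and_modEq_iff_modEq_mul hcop).1 ⟨?_, ?_⟩
    · simpa using he1.add hf0
    · simpa using (Nat.modEq_zero_iff_dvd.2 he0).add hf1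
  have hpow : ∀ {k i j : ℕ} {y : G}, y ^ k = 1 → i ≡ j [MOD k] → y ^ i = y ^ j :=
    fun hy h => pow_eq_pow_iff_modEq.2 (h.of_dvd (orderOf_dvd_of_pow_eq_one hy))
  have hext : ∀ a b : (Σ u : {u : G // u ^ A = 1 ∧ P u},
      {v : centralizer ({(u : G)} : Set G) // v ^ d = 1}),
      (a.1 : G) = b.1 → ((a.2.1 : G)) = b.2.1 → a = b := by
    rintro ⟨⟨u, hu⟩, ⟨⟨v, hv⟩, hv'⟩⟩ ⟨⟨u', hu'⟩, ⟨⟨v', hw⟩, hw'⟩⟩ h1 h2
    dsimp only at h1 h2
    subst h1 h2
    rfl
  refine Nat.card_congr
    { toFun := fun x => ⟨⟨x.1 ^ e, ?_, x.2.2⟩, ⟨x.1 ^ f, ?_⟩, ?_⟩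
      invFun := fun uv => ⟨uv.1.1 * uv.2.1, ?_, ?_⟩
      left_inv := fun x => ?_
      right_inv := fun uv => ?_ }
  · obtain ⟨c, hc⟩ := he0
    rw [← pow_mul, show e * A = A * d * c by rw [hc]; ring, pow_mul, x.2.1, one_pow]
  · exact mem_centralizer_singleton_iff.2 ((Commute.refl x.1).pow_pow f e)
  · refine Subtype.ext ?_
    show (x.1 ^ f) ^ d = 1
    obtain ⟨c, hc⟩ := Nat.modEq_zero_iff_dvd.1 hf0
    rw [← pow_mul, show f * d = A * d * c by rw [hc]; ring, pow_mul, x.2.1, one_pow]
  · have hc : Commute (uv.1.1 : G) uv.2.1 :=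
      (mem_centralizer_singleton_iff.1 uv.2.1.2).symm
    rw [hc.mul_pow, pow_mul, uv.1.2.1, one_pow, one_mul, mul_comm A, pow_mul,
      ← coe_pow, uv.2.2, coe_one, one_pow]
  · have hc : Commute (uv.1.1 : G) uv.2.1 :=
      (mem_centralizer_singleton_iff.1 uv.2.1.2).symm
    obtain ⟨c, hc'⟩ := he0
    have h1 : (uv.1.1 * uv.2.1 : G) ^ e = uv.1.1 := by
      rw [hc.mul_pow, hpow uv.1.2.1 he1, pow_one, hc', pow_mul, ← coe_pow, uv.2.2, coe_one,
        one_pow, mul_one]
    rw [h1]; exact uv.1.2.2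
  · refine Subtype.ext ?_
    show x.1 ^ e * x.1 ^ f = x.1
    rw [← pow_add, hpow x.2.1 hef, pow_one]
  · obtain ⟨⟨u, hu, hPu⟩, ⟨⟨v, hv⟩, hvd⟩⟩ := uv
    have hc : Commute u v := (mem_centralizer_singleton_iff.1 hv).symm
    have hvd' : v ^ d = 1 := congrArg Subtype.val hvd
    obtain ⟨c, hc'⟩ := he0
    obtain ⟨c', hc''⟩ := Nat.modEq_zero_iff_dvd.1 hf0
    have h1 : (u * v) ^ e = u := by
      rw [hc.mul_pow, hpow hu he1, pow_one, hc', pow_mul, hvd', one_pow, mul_one]
    have h2 : (u * v) ^ f = v := by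
      rw [hc.mul_pow, hpow hvd' hf1, pow_one, hc'', pow_mul, hu, one_pow, one_mul]
    exact hext _ _ h1 h2

/-- Class-wise summation: `d` divides a sum of centralizer counts over an invariant set. -/
theorem dvd_card_sigma [Finite G] {d : ℕ} (hd : d ∣ Nat.card G) (S : G → Prop)
    (hS : ∀ u c, S u → S (c * u * c⁻¹))
    (h : ∀ u, S u → d.gcd (Nat.card (centralizer ({u} : Set G))) ∣
      Nat.card {v : centralizer ({u} : Set G) // v ^ d = 1}) :
    d ∣ Nat.card (Σ u : {u : G // S u}, {v : centralizer ({(u : G)} : Set G) // v ^ d = 1}) := by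
  classical
  have := Fintype.ofFinite G
  have : Finite (ConjClasses G) := Quotient.finite _
  have := Fintype.ofFinite (ConjClasses G)
  set f : G → ℕ := fun u => Nat.card {v : centralizer ({u} : Set G) // v ^ d = 1}
  have hf : ∀ u c, f (c * u * c⁻¹) = f u := by
    intro u c
    refine (Nat.card_congr
      { toFun := fun v : {v : centralizer ({u} : Set G) // v ^ d = 1} =>
          (⟨⟨c * (v.1 : G) * c⁻¹, ?_⟩, ?_⟩ :
            {v : centralizer ({c * u * c⁻¹} : Set G) // v ^ d = 1})
        invFun := fun v => ⟨⟨c⁻¹ * (v.1 : G) * c, ?_⟩, ?_⟩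
        left_inv := fun v => Subtype.ext (Subtype.ext (by simp [mul_assoc]))
        right_inv := fun v => Subtype.ext (Subtype.ext (by simp [mul_assoc])) }).symm
    · have h1 := mem_centralizer_singleton_iff.1 v.1.2
      rw [mem_centralizer_singleton_iff]
      calc c * v.1 * c⁻¹ * (c * u * c⁻¹) = c * (v.1 * u) * c⁻¹ := by group
        _ = c * (u * v.1) * c⁻¹ := by rw [h1]
        _ = _ := by group
    · refine Subtype.ext ?_
      show (c * v.1 * c⁻¹) ^ d = (1 : G)
      rw [conj_pow, ← coe_pow, v.2, coe_one, mul_one, mul_inv_cancel]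
    · have h1 := mem_centralizer_singleton_iff.1 v.1.2
      rw [mem_centralizer_singleton_iff]
      calc c⁻¹ * v.1 * c * u = c⁻¹ * (v.1 * (c * u * c⁻¹)) * c := by group
        _ = c⁻¹ * (c * u * c⁻¹ * v.1) * c := by rw [h1]
        _ = _ := by group
    · refine Subtype.ext ?_
      show (c⁻¹ * v.1 * c) ^ d = (1 : G)
      have h2 := conj_pow (a := c⁻¹) (b := (v.1 : G)) (i := d)
      rw [inv_inv] at h2
      rw [h2, ← coe_pow, v.2, coe_one, mul_one, inv_mul_cancel]
  rw [Nat.card_sigma]
  rw [← Finset.sum_subtype (Finset.univ.filter S) (fun x => by simp) f,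
    ← Finset.sum_fiberwise (Finset.univ.filter S) ConjClasses.mk f]
  refine Finset.dvd_sum fun C _ => ?_
  by_cases hne : ((Finset.univ.filter S).filter fun x => ConjClasses.mk x = C).Nonempty
  · obtain ⟨u, hu⟩ := hne
    rw [Finset.mem_filter, Finset.mem_filter] at hu
    have hset : ((Finset.univ.filter S).filter fun x => ConjClasses.mk x = C) =
        Finset.univ.filter fun x => IsConj u x := by
      ext x
      simp only [Finset.mem_filter, Finset.mem_univ, true_and, ← hu.2,
        ConjClasses.mk_eq_mk_iff_isConj]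
      refine ⟨fun hx => hx.2.symm, fun hx => ⟨?_, hx.symm⟩⟩
      obtain ⟨c, rfl⟩ := isConj_iff.1 hx
      exact hS u c hu.1.2
    rw [hset, Finset.sum_const_nat (m := f u) fun x hx => by
      obtain ⟨c, rfl⟩ := isConj_iff.1 (Finset.mem_filter.1 hx).2
      exact hf u c]
    have h1 := Cfsg.Agent.Invol.card_isConj_mul_card_centralizer u
    rw [Nat.card_eq_fintype_card (α := {y : G // IsConj u y}), Fintype.card_subtype] at h1
    set k := (Finset.univ.filter fun x => IsConj u x).card
    refine dvd_trans ?_ (Nat.mul_dvd_mul_left k (h u hu.1.2))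
    rw [← Nat.gcd_mul_left]
    exact Nat.dvd_gcd (Dvd.intro_left k rfl) (h1.symm ▸ hd)
  · rw [Finset.not_nonempty_iff_eq_empty.1 hne, Finset.sum_empty]
    exact dvd_zero d

theorem card_pow_eq_one_gcd [Finite G] (n : ℕ) :
    Nat.card {x : G // x ^ n = 1} = Nat.card {x : G // x ^ n.gcd (Nat.card G) = 1} := by
  refine Nat.card_congr (Equiv.subtypeEquivRight fun x => ?_)
  rw [← orderOf_dvd_iff_pow_eq_one, ← orderOf_dvd_iff_pow_eq_one, Nat.dvd_gcd_iff]
  simp [_root_.orderOf_dvd_natCard]

/-- Solutions of `v ^ d = 1` correspond to those in the quotient by a central subgroup of order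
prime to `d`. -/
theorem card_quotient_eq [Finite G] {Z : Subgroup G} [Z.Normal] (hZ : Z ≤ center G) {d : ℕ}
    (hcop : d.Coprime (Nat.card Z)) :
    Nat.card {v : G // v ^ d = 1} = Nat.card {q : G ⧸ Z // q ^ d = 1} := by
  refine Nat.card_eq_of_bijective (fun v => ⟨(v.1 : G ⧸ Z), by
    rw [← QuotientGroup.mk_pow, v.2, QuotientGroup.mk_one]⟩) ⟨?_, ?_⟩
  · intro v w hvw
    have h1 : v.1⁻¹ * w.1 ∈ Z := QuotientGroup.eq.1 (congrArg Subtype.val hvw)
    set z := v.1⁻¹ * w.1 with hz
    have hw : w.1 = v.1 * z := by rw [hz]; group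
    have hc : Commute v.1 z := mem_center_iff.1 (hZ h1) v.1
    have h2 : z ^ d = 1 := by
      have := w.2
      rwa [hw, hc.mul_pow, v.2, one_mul] at this
    have h3 := Nat.dvd_gcd (orderOf_dvd_of_pow_eq_one h2)
      ((Subgroup.orderOf_mk z h1) ▸ orderOf_dvd_natCard (⟨z, h1⟩ : Z))
    rw [hcop, Nat.dvd_one, orderOf_eq_one_iff] at h3
    exact Subtype.ext (by rw [hw, h3, mul_one])
  · rintro ⟨q, hq⟩
    obtain ⟨v, rfl⟩ := QuotientGroup.mk_surjective q
    rw [← QuotientGroup.mk_pow, QuotientGroup.eq_one_iff] at hq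
    obtain ⟨e, he0, he1⟩ := Nat.chineseRemainder hcop.symm 0 1
    obtain ⟨c, hc⟩ := Nat.modEq_zero_iff_dvd.1 he0
    refine ⟨⟨v ^ e, ?_⟩, Subtype.ext ?_⟩
    · rw [← pow_mul, mul_comm, pow_mul, hc, pow_mul]
      have h1 : (v ^ d) ^ Nat.card Z = 1 :=
        congrArg Subtype.val (pow_card_eq_one' (x := (⟨v ^ d, hq⟩ : Z)))
      rw [h1, one_pow]
    · show ((v ^ e : G) : G ⧸ Z) = (v : G ⧸ Z)
      rw [QuotientGroup.mk_pow]
      conv_rhs => rw [← pow_one (v : G ⧸ Z)]
      refine pow_eq_pow_iff_modEq.2 (he1.of_dvd (orderOf_dvd_of_pow_eq_one ?_))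
      rw [← QuotientGroup.mk_pow, (QuotientGroup.eq_one_iff _).2 hq]

private theorem frobenius_aux : ∀ (N : ℕ) (G : Type u) [Group G] [Finite G],
    Nat.card G = N → ∀ m : ℕ, m ∣ Nat.card G → m ∣ Nat.card {x : G // x ^ m = 1} := by
  intro N
  induction N using Nat.strong_induction_on with
  | _ N ih =>
  intro G _ _ hN
  suffices ∀ k m : ℕ, Nat.card G = m * k → m ∣ Nat.card {x : G // x ^ m = 1} by
    intro m ⟨k, hk⟩; exact this k m hk
  intro k
  induction k using Nat.strong_induction_on with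
  | _ k ihk =>
  intro m hm
  by_cases hk1 : k = 1
  · rw [hk1, mul_one] at hm
    subst hm
    exact dvd_of_eq (Nat.card_congr (Equiv.subtypeUnivEquiv fun x => pow_card_eq_one')).symm
  obtain ⟨p, hp, ⟨k', hk'⟩⟩ := Nat.exists_prime_and_dvd hk1
  have := Fact.mk hp
  have hk0 : 0 < k := Nat.pos_of_ne_zero fun e => (Nat.card_pos (α := G)).ne' (by rw [hm, e, mul_zero])
  have hm0 : m ≠ 0 := fun e => (Nat.card_pos (α := G)).ne' (by rw [hm, e, zero_mul])
  have hlt : k' < k := by
    have := hp.two_le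
    have : 0 < k' := Nat.pos_of_ne_zero fun e => hk0.ne' (by rw [hk', e, mul_zero])
    nlinarith
  have hmp : Nat.card G = m * p * k' := by rw [hm, hk', mul_assoc]
  have hI : m ∣ Nat.card {x : G // x ^ (m * p) = 1} :=
    (dvd_mul_right m p).trans (ihk k' hlt _ hmp)
  have hsplit : Nat.card {x : G // x ^ (m * p) = 1} =
      Nat.card {x : G // x ^ m = 1} + Nat.card {x : G // x ^ (m * p) = 1 ∧ ¬ x ^ m = 1} := by
    classical
    rw [← Nat.card_sum]
    refine Nat.card_congr
      { toFun := fun x => if hx : x.1 ^ m = 1 then .inl ⟨x.1, hx⟩ else .inr ⟨x.1, x.2, hx⟩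
        invFun := Sum.elim (fun x => ⟨x.1, by rw [pow_mul, x.2, one_pow]⟩) fun x => ⟨x.1, x.2.1⟩
        left_inv := fun x => ?_
        right_inv := fun x => ?_ }
    · by_cases hx : x.1 ^ m = 1 <;> simp [hx]
    · rcases x with ⟨x, hx⟩ | ⟨x, hx⟩
      · simp [hx]
      · simp [hx.2]
  obtain ⟨j, m', hm', hmj⟩ := Nat.exists_eq_pow_mul_and_not_dvd hm0 p hp.ne_one
  have hcop : (p ^ (j + 1)).Coprime m' := ((hp.coprime_iff_not_dvd).2 hm').pow_left _
  obtain ⟨e, he1, he0⟩ := Nat.chineseRemainder hcop 1 0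
  have hB : m ∣ Nat.card {x : G // x ^ (m * p) = 1 ∧ ¬ x ^ m = 1} := by
    nth_rw 1 [hmj]
    refine Nat.Coprime.mul_dvd_of_dvd_of_dvd (((hp.coprime_iff_not_dvd).2 hm').pow_left _) ?_ ?_
    · -- the power of `p`: count generators of cyclic subgroups
      classical
      have := Fintype.ofFinite G
      have := Fintype.ofFinite (Subgroup G)
      rw [Nat.card_eq_fintype_card, Fintype.card_subtype,
        Finset.card_eq_sum_card_fiberwise (f := fun x : G => zpowers x) (t := Finset.univ)
          (fun _ _ => Finset.mem_univ _)]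
      refine Finset.dvd_sum fun Z _ => ?_
      by_cases hne : ((Finset.univ.filter fun x : G => x ^ (m * p) = 1 ∧ ¬ x ^ m = 1).filter
          fun x => zpowers x = Z).Nonempty
      · obtain ⟨x, hx⟩ := hne
        simp only [Finset.mem_filter, Finset.mem_univ, true_and] at hx
        obtain ⟨⟨hx1, hx2⟩, hxZ⟩ := hx
        have hset : Nat.card {y : zpowers x // orderOf y = Nat.card (zpowers x)} =
            ((Finset.univ.filter fun x : G => x ^ (m * p) = 1 ∧ ¬ x ^ m = 1).filter
              fun x => zpowers x = Z).card := by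
          rw [← Nat.card_eq_finsetCard]
          refine Nat.card_congr
            { toFun := fun y => ⟨y.1.1, ?_⟩
              invFun := fun y => ⟨⟨y.1, ?_⟩, ?_⟩
              left_inv := fun y => rfl
              right_inv := fun y => rfl }
          · have hy : orderOf (y.1 : G) = orderOf x := by
              rw [Subgroup.orderOf_coe, y.2, Nat.card_zpowers]
            simp only [Finset.mem_filter, Finset.mem_univ, true_and, ← hxZ]
            refine ⟨⟨?_, ?_⟩, ?_⟩
            · rw [← orderOf_dvd_iff_pow_eq_one, hy, orderOf_dvd_iff_pow_eq_one]; exact hx1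
            · rw [← orderOf_dvd_iff_pow_eq_one, hy, orderOf_dvd_iff_pow_eq_one]; exact hx2
            · exact eq_of_le_of_card_ge ((zpowers_le).2 y.1.2)
                (le_of_eq (by simp only [Nat.card_zpowers, hy]))
          · have := y.2
            simp only [Finset.mem_filter] at this
            show (y : G) ∈ zpowers x
            exact (this.2.trans hxZ.symm) ▸ mem_zpowers _
          · have := y.2
            simp only [Finset.mem_filter] at this
            rw [Subgroup.orderOf_mk, ← Nat.card_zpowers, this.2, hxZ]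
        have := Fintype.ofFinite (zpowers x)
        rw [← hset, Nat.card_eq_fintype_card, Fintype.card_subtype, Nat.card_eq_fintype_card,
          IsCyclic.card_orderOf_eq_totient dvd_rfl, ← Nat.card_eq_fintype_card, Nat.card_zpowers]
        have hdvd : p ^ (j + 1) ∣ orderOf x := by
          rw [← orderOf_dvd_iff_pow_eq_one] at hx1 hx2
          obtain ⟨i, o, ho, hio⟩ := Nat.exists_eq_pow_mul_and_not_dvd (orderOf_pos x).ne' p hp.ne_one
          rw [hio] at hx1 hx2 ⊢
          refine Dvd.dvd.mul_right (pow_dvd_pow p ?_) o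
          by_contra hlt'
          refine hx2 ?_
          have ho' : o ∣ m' := by
            have h1 : o ∣ p ^ (j + 1) * m' :=
              (dvd_mul_left o _).trans (hx1.trans (dvd_of_eq (by rw [hmj, pow_succ]; ring)))
            exact (((hp.coprime_iff_not_dvd).2 ho).symm.pow_right _).dvd_of_dvd_mul_left h1
          rw [hmj]
          exact Nat.mul_dvd_mul (pow_dvd_pow p (by omega)) ho'
        refine dvd_trans ?_ (Nat.totient_dvd_of_dvd hdvd)
        rw [Nat.totient_prime_pow_succ hp]
        exact dvd_mul_right _ _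
      · rw [Finset.not_nonempty_iff_eq_empty.1 hne, Finset.card_empty]
        exact dvd_zero _
    · -- the part prime to `p`
      have hcg : Nat.card {x : G // x ^ (m * p) = 1 ∧ ¬ x ^ m = 1} =
          Nat.card {x : G // x ^ (p ^ (j + 1) * m') = 1 ∧ ¬ (x ^ e) ^ p ^ j = 1} := by
        rw [show p ^ (j + 1) * m' = m * p by rw [hmj, pow_succ]; ring]
        refine Nat.card_congr (Equiv.subtypeEquivRight fun x => and_congr_right fun hx => ?_)
        rw [← pow_mul, not_iff_not]
        have hme : m ∣ e * p ^ j := by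
          rw [hmj, mul_comm]
          exact Nat.mul_dvd_mul_right (Nat.modEq_zero_iff_dvd.1 he0) _
        constructor
        · intro h
          rw [← orderOf_dvd_iff_pow_eq_one] at h ⊢
          exact h.trans hme
        · intro h
          rw [← orderOf_dvd_iff_pow_eq_one] at h hx ⊢
          have hpe : ¬ p ∣ e := fun hd => hp.not_dvd_one ((Nat.ModEq.dvd_iff
            (he1.of_dvd (dvd_pow_self p (Nat.succ_ne_zero j))) dvd_rfl).1 hd)
          -- the `p`-part of the order divides `p ^ j`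
          obtain ⟨i, o, ho, hio⟩ := Nat.exists_eq_pow_mul_and_not_dvd (orderOf_pos x).ne' p hp.ne_one
          rw [hio] at h hx ⊢
          rw [hmj] at hx ⊢
          refine Nat.mul_dvd_mul ?_ ?_
          · have h1 : p ^ i ∣ e * p ^ j := (dvd_mul_right _ o).trans h
            exact (((hp.coprime_iff_not_dvd).2 hpe).pow_left i).dvd_of_dvd_mul_left h1
          · have h1 : o ∣ p ^ (j + 1) * m' :=
              (dvd_mul_left o _).trans (hx.trans (dvd_of_eq (by rw [pow_succ]; ring)))
            exact (((hp.coprime_iff_not_dvd).2 ho).symm.pow_right _).dvd_of_dvd_mul_left h1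
      rw [hcg, card_split hcop he1 (Nat.modEq_zero_iff_dvd.1 he0) fun u => ¬ u ^ p ^ j = 1]
      refine dvd_card_sigma (Dvd.intro_left _ hmj.symm |>.trans (Dvd.intro _ hm.symm))
        (fun u => u ^ p ^ (j + 1) = 1 ∧ ¬ u ^ p ^ j = 1) ?_ ?_
      · rintro u c ⟨h1, h2⟩
        rw [conj_pow, conj_pow, h1, mul_one, mul_inv_cancel, conj_eq_one_iff]
        exact ⟨rfl, h2⟩
      · rintro u ⟨hu1, hu2⟩
        set C := centralizer ({u} : Set G)
        have huC : u ∈ C := mem_centralizer_singleton_iff.2 rfl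
        set Z := zpowers (⟨u, huC⟩ : C)
        have hZ : Z ≤ center C := (zpowers_le).2 (mem_center_iff.2 fun v =>
          Subtype.ext (mem_centralizer_singleton_iff.1 v.2))
        have : Z.Normal := ⟨fun z hz g => by
          rw [mem_center_iff.1 (hZ hz) g, mul_inv_cancel_right]; exact hz⟩
        have hu : orderOf u = p ^ (j + 1) := orderOf_eq_prime_pow hu2 hu1
        have hZc : Nat.card Z = p ^ (j + 1) := by
          rw [Nat.card_zpowers, Subgroup.orderOf_mk, hu]
        have hCc : Nat.card C = Nat.card (C ⧸ Z) * p ^ (j + 1) :=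
          hZc ▸ Z.card_eq_card_quotient_mul_card_subgroup
        have hsmall : Nat.card (C ⧸ Z) < N := by
          have h1 : Nat.card C ≤ N := hN ▸ C.card_le_card_group
          have h2 : 1 < p ^ (j + 1) := Nat.one_lt_pow (Nat.succ_ne_zero j) hp.one_lt
          have h3 : 0 < Nat.card (C ⧸ Z) := Nat.card_pos
          nlinarith
        rw [card_quotient_eq hZ (d := m') (hZc ▸ hcop.symm), card_pow_eq_one_gcd]
        have hg : m'.gcd (Nat.card C) = m'.gcd (Nat.card (C ⧸ Z)) := by
          rw [hCc]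
          exact Nat.Coprime.gcd_mul_right_cancel_right _ hcop
        rw [hg]
        exact ih _ hsmall (C ⧸ Z) rfl _ (Nat.gcd_dvd_right _ _)
  rw [hsplit] at hI
  exact (Nat.dvd_add_left hB).1 hI

/-- **Frobenius**: `gcd n |G|` divides the number of solutions of `x ^ n = 1`. -/
theorem gcd_dvd_card_pow_eq_one [Finite G] (n : ℕ) :
    n.gcd (Nat.card G) ∣ Nat.card {x : G // x ^ n = 1} := by
  rw [card_pow_eq_one_gcd]
  exact frobenius_aux _ G rfl _ (Nat.gcd_dvd_right _ _)

/-- **Frobenius**: a divisor `n` of `|G|` divides the number of solutions of `x ^ n = 1`. -/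
theorem dvd_card_pow_eq_one [Finite G] {n : ℕ} (hn : n ∣ Nat.card G) :
    n ∣ Nat.card {x : G // x ^ n = 1} :=
  frobenius_aux _ G rfl n hn

/-- The number of elements of order divisible by `n` is a multiple of the part of `|G|` prime to
`n`. -/
theorem dvd_card_dvd_orderOf [Finite G] {n : ℕ} (hn : 0 < n) :
    Nat.card G / (Nat.card G).gcd (n ^ Nat.card G) ∣ Nat.card {g : G // n ∣ orderOf g} := by
  set g := Nat.card G
  set A := g.gcd (n ^ g)
  set d := g / A
  have hg0 : 0 < g := Nat.card_pos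
  have hgd : A * d = g := Nat.mul_div_cancel' (Nat.gcd_dvd_left _ _)
  have hdn : d.Coprime n := by
    refine Nat.coprime_of_dvd fun q hq hqd hqn => ?_
    obtain ⟨k, o, ho, hk⟩ := Nat.exists_eq_pow_mul_and_not_dvd hg0.ne' q hq.ne_one
    have hkg : k ≤ g := by
      refine le_trans (Nat.lt_pow_self hq.one_lt).le ?_
      exact Nat.le_of_dvd hg0 (Dvd.intro _ hk.symm)
    have h1 : q ^ k ∣ A :=
      Nat.dvd_gcd (Dvd.intro _ hk.symm) ((pow_dvd_pow q hkg).trans (pow_dvd_pow_of_dvd hqn g))
    have h2 : q ^ k * q ∣ q ^ k * o := by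
      rw [← hk, ← hgd]
      exact Nat.mul_dvd_mul h1 hqd
    exact ho (Nat.dvd_of_mul_dvd_mul_left (pow_pos hq.pos k) h2)
  have hcop : A.Coprime d :=
    (hdn.pow_right g).symm.coprime_dvd_left (Nat.gcd_dvd_right _ _)
  obtain ⟨e, he1, he0⟩ := Nat.chineseRemainder hcop 1 0
  have he0' := Nat.modEq_zero_iff_dvd.1 he0
  have hcg : Nat.card {x : G // n ∣ orderOf x} =
      Nat.card {x : G // x ^ (A * d) = 1 ∧ n ∣ orderOf (x ^ e)} := by
    refine Nat.card_congr (Equiv.subtypeEquivRight fun x => ?_)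
    rw [hgd]
    simp only [g, pow_card_eq_one', true_and]
    constructor
    · intro h
      have h1 : orderOf x ∣ orderOf (x ^ e) * d := by
        rw [orderOf_dvd_iff_pow_eq_one, ← orderOf_dvd_iff_pow_eq_one]
        have h2 : orderOf x ∣ A * d := hgd.symm ▸ orderOf_dvd_natCard x
        have h3 : orderOf x ∣ orderOf (x ^ e) * e := by
          rw [orderOf_dvd_iff_pow_eq_one, mul_comm, pow_mul, pow_orderOf_eq_one]
        refine dvd_trans (Nat.dvd_gcd h3 (h2.trans ?_)) (b := ((orderOf (x ^ e) * e).gcd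
          ((orderOf (x ^ e) * A) * d))) ?_
        · exact Nat.mul_dvd_mul_right (dvd_mul_left A _) d
        · have h4 : Nat.gcd e (A * d) = d := by
            rw [hcop.gcd_mul]
            have h5 : Nat.gcd e A = 1 := by
              rw [he1.gcd_eq]; exact Nat.gcd_one_left A
            rw [h5, one_mul, Nat.gcd_eq_right he0']
          rw [mul_assoc, Nat.gcd_mul_left, h4]
      exact (hdn.symm.dvd_of_dvd_mul_right) (h.trans h1)
    · exact fun h => h.trans (orderOf_pow_dvd e)
  rw [hcg, card_split hcop he1 he0' fun u => n ∣ orderOf u]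
  refine dvd_card_sigma (Nat.div_dvd_of_dvd (Nat.gcd_dvd_left _ _))
    (fun u => u ^ A = 1 ∧ n ∣ orderOf u) ?_ fun u _ => gcd_dvd_card_pow_eq_one _
  rintro u c ⟨h1, h2⟩
  refine ⟨by rw [conj_pow, h1, mul_one, mul_inv_cancel], ?_⟩
  rwa [show c * u * c⁻¹ = MulAut.conj c u from rfl, MulEquiv.orderOf_eq]

end Cfsg.Agent.FrobeniusCount
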