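
import Cfsg.Statements.S0885
import Cfsg.Agent.Zassenhaus.NilFinal
import Cfsg.Agent.Zassenhaus.AbelianKernel
import Cfsg.Agent.Zassenhaus.OddStab

set_option autoImplicit false
open Cfsg

namespace Cfsg.Agent.S0885

/-- Let G be a finite Zassenhaus group on Ω with h + 1 points whose two-point stabilizer E has odd order e, and let H be the subgroup of the stabilizer of a consisting of the identity and the elements fixing no point other than a (given here as a subgroup of the stabilizer of order one less than the number of points whose non-identity elements fix only a; it is the Frobenius kernel of the stabilizer). Then either h - 1 ≤ 2 * e, or H is a non-abelian 2-group whose commutator subgroup has index at most 4 * e ^ 2 + 1 in H. -/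
theorem result {G Ω : Type*} [Group G] [Finite G] [MulAction G Ω] [Fintype Ω] (hZ : Cfsg.IsZassenhausGroup G Ω) {a b : Ω} (hab : a ≠ b) (h e : ℕ) (hh : Fintype.card Ω = h + 1) (he : Nat.card ↥(MulAction.stabilizer G a ⊓ MulAction.stabilizer G b : Subgroup G) = e) (hodd : Odd e) (H : Subgroup G) (hHa : H ≤ MulAction.stabilizer G a) (hHcard : Nat.card H + 1 = Fintype.card Ω) (hHfix : ∀ u ∈ H, u ≠ 1 → ∀ c : Ω, u • c = c → c = a) : h - 1 ≤ 2 * e ∨ (IsPGroup 2 H ∧ (∃ u v : H, u * v ≠ v * u) ∧ (commutator H).index ≤ 4 * e ^ 2 + 1) := by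
  classical
  by_cases hsmall : h - 1 ≤ 2 * e
  · exact Or.inl hsmall
  refine Or.inr ?_
  push Not at hsmall
  have he' : Nat.card (Zassenhaus.twoPt G a b) = e := he
  have h3 := Zassenhaus.three_le_of_zassenhaus hZ
  have hker : Zassenhaus.IsKernel H a :=
    (Zassenhaus.OddCtx.mk hZ hab (by rw [he']; exact hodd) : Zassenhaus.OddCtx G a b).isKernel H hHa
      hHcard hHfix
  have hHh : Nat.card H = h := by omega
  have hΩ : Nat.card Ω = h + 1 := by rw [Nat.card_eq_fintype_card, hh]
  -- the kernel is not abelian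
  have hnc : ∃ u v : H, u * v ≠ v * u := by
    by_contra! hall
    rcases Zassenhaus.abelian_kernel_cases hZ hab hker (fun x hx y hy =>
      congrArg Subtype.val (hall ⟨x, hx⟩ ⟨y, hy⟩)) with h1 | ⟨h1, -⟩ <;>
      rw [he', hΩ] at h1 <;> omega
  -- pass to a simple subgroup
  obtain ⟨N, hFN, hNZ, hNs⟩ := Zassenhaus.exists_simple_sub hZ hker
  have CN := Zassenhaus.zctx_of_zassenhaus hNZ
  have hneN := Zassenhaus.twoPt_ne_bot_of_zassenhaus hNZ hab
  let ι : Zassenhaus.twoPt N a b →* Zassenhaus.twoPt G a b :=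
    { toFun := fun g => ⟨((g : N) : G), g.2⟩
      map_one' := rfl
      map_mul' := fun _ _ => rfl }
  have hdN : Nat.card (Zassenhaus.twoPt N a b) ∣ e := he' ▸ Subgroup.card_dvd_of_injective ι
    (fun g k e => Subtype.ext (Subtype.ext (congrArg Subtype.val e :)))
  have hoddN : Odd (Nat.card (Zassenhaus.twoPt N a b)) := hodd.of_dvd_nat hdN
  have hncN : ¬ ∀ x y : N, x * y = y * x := fun hall => by
    obtain ⟨u, v, huv⟩ := hnc
    exact huv (Subtype.ext (congrArg Subtype.val (hall ⟨u, hFN u.2⟩ ⟨v, hFN v.2⟩) :))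
  obtain ⟨hcycN, -, hinvN⟩ := CN.twoPt_inverted_odd h3 hab hoddN hneN
    fun q hq hqd => Zassenhaus.no_normal_complement hncN hq
      (hqd.trans (Subgroup.card_subgroup_dvd_card _))
  have hFN' : Zassenhaus.IsKernel (H.subgroupOf N) a :=
    ⟨fun u hu => hker.fix (u : G) hu, fun g hg u hu => hker.norm (g : G) hg (u : G) hu,
      fun y z hy hz => by
      obtain ⟨u, hu, huu⟩ := hker.reg y z hy hz
      exact ⟨⟨⟨u, hFN u.2⟩, u.2⟩, hu, fun w hw => Subtype.ext (Subtype.ext
        (congrArg Subtype.val (huu ⟨((w : N) : G), w.2⟩ hw) :))⟩⟩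
  let X : Zassenhaus.NCtx N Ω := ⟨a, b, H.subgroupOf N, CN, h3, hab, hFN',
    fun x hx y hy =>
      congrArg Subtype.val (mul_comm' (⟨x, hx⟩ : Zassenhaus.twoPt N a b) ⟨y, hy⟩),
    hinvN, hoddN⟩
  haveI := Fintype.ofFinite N
  have eF : X.F ≃* H := Subgroup.subgroupOfEquivOfLe hFN
  have eK : X.K ≃* H := (Subgroup.subgroupOfEquivOfLe (H := X.F) (K := X.L)
    fun u hu => X.ker.fix u hu).trans eF
  have hn : Nat.card X.F = h := (Nat.card_congr eF.toEquiv).trans hHh
  have hd1 : 1 < Nat.card (Zassenhaus.twoPt N a b) := (Subgroup.one_lt_card_iff_ne_bot _).2 hneN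
  have hde : Nat.card (Zassenhaus.twoPt N a b) ≤ e := Nat.le_of_dvd hodd.pos hdN
  obtain ⟨p, k, hp, hk, hpk⟩ : IsPrimePow (Nat.card X.F) := by
    by_contra hnp
    have hb : Nat.card X.F ≤ 2 * Nat.card (Zassenhaus.twoPt N a b) + 1 :=
      X.two_mul_bound_of_not_primePow hd1 hnp
    omega
  rw [← Nat.prime_iff] at hp
  have hp2 : p = 2 := by
    by_contra hp2
    have hoddF : Odd (Nat.card X.F) := hpk ▸ (hp.odd_of_ne_two hp2).pow
    obtain ⟨u, v, huv⟩ := hnc
    have hsq : (2 * Nat.card (Zassenhaus.twoPt N a b) + 1) *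
        (2 * Nat.card (Zassenhaus.twoPt N a b) + 1) ≤ Nat.card X.F :=
      X.sq_le_of_nonabelian hd1 hoddF ⟨eF.symm u, eF.symm v, fun e' => huv (eF.symm.injective
        (by rw [map_mul, map_mul, e']))⟩
    exact X.false_of_odd_kernel hd1 hp hp2 hpk.symm (by
      show 2 * (Nat.card (Zassenhaus.twoPt N a b) * Nat.card (Zassenhaus.twoPt N a b)) + 1 ≤ _
      nlinarith)
  subst hp2
  haveI : Fact (Nat.Prime 2) := ⟨hp⟩
  refine ⟨IsPGroup.of_card (n := k) (by rw [hHh, ← hn, hpk]), ?_, ?_⟩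
  · obtain ⟨u, v, huv⟩ := hnc
    exact ⟨u, v, huv⟩
  by_contra hr
  push Not at hr
  have hb : Nat.card X.F ≤ 2 * Nat.card (Zassenhaus.twoPt N a b) + 1 :=
    X.two_mul_bound_two_group hd1 hpk.symm (by
      rw [Zassenhaus.index_commutator_congr eK]
      refine lt_of_le_of_lt (Nat.add_le_add_right (Nat.mul_le_mul_left 4 ?_) 1) hr
      rw [pow_two]
      exact Nat.mul_le_mul hde hde)
  omega

end Cfsg.Agent.S0885
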