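import Cfsg.Statements.S0340
import Cfsg.Agent.Zassenhaus.EvenMain
import Cfsg.Agent.Zassenhaus.EvenSharp
import Cfsg.Agent.S0344
import Cfsg.Agent.S0885
import Cfsg.Agent.Fg24.Brauer.Classify

set_option autoImplicit false
open Cfsg

namespace Cfsg.Agent.S0340

/-- Classification of Zassenhaus groups, simple case, order-level form: a finite simple Zassenhaus group is
isomorphic to `PSL₂(F)` for some finite field `F` or is simple of Suzuki order. -/
theorem result {G Ω : Type*} [Group G] [Finite G] [MulAction G Ω]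
    [Finite Ω] (hZ : Cfsg.IsZassenhausGroup G Ω) [IsSimpleGroup G] :
    (∃ (F : Type) (_ : Field F) (_ : Fintype F), Nonempty (G ≃* Matrix.ProjectiveSpecialLinearGroup (Fin 2) F)) ∨ Cfsg.IsSuzuki G := by
  classical
  haveI := Fintype.ofFinite Ω
  have C := Zassenhaus.zctx_of_zassenhaus hZ
  have h3 := Zassenhaus.three_le_of_zassenhaus hZ
  haveI : Nonempty Ω := (Nat.card_pos_iff.1 (by omega)).1
  obtain ⟨a⟩ := ‹Nonempty Ω›
  obtain ⟨b, hba⟩ := Fintype.exists_ne_of_one_lt_card (by rw [← Nat.card_eq_fintype_card]; omega) a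
  have hab : a ≠ b := Ne.symm hba
  rcases Nat.even_or_odd (Nat.card (Zassenhaus.twoPt G a b)) with heven | hodd
  · obtain ⟨K, iK, iFK, -, hiso⟩ := S0344.result hZ hab heven
    exact Or.inl ⟨K, iK, iFK, hiso⟩
  have hne := Zassenhaus.twoPt_ne_bot_of_zassenhaus hZ hab
  obtain ⟨F, hF⟩ := C.exists_kernel h3 hab hne
  have hn := hF.card_eq hab
  by_cases hFc : ∀ x ∈ F, ∀ y ∈ F, x * y = y * x
  · rcases Zassenhaus.abelian_kernel_cases hZ hab hF hFc with hfull |
      ⟨-, p, f, K, iK, iFK, -, -, -, -, hiso⟩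
    · have hΩodd : Odd (Nat.card Ω) := by
        rw [← hfull]
        exact hodd.add_even even_two
      obtain ⟨f, K, iK, iFK, hf, hK, -, ⟨e⟩, -⟩ := C.identify_even h3 hΩodd
        (Zassenhaus.exists_map_three (C.three_transitive_of_full hab hfull))
      obtain ⟨χ⟩ := Fg24.Brauer.nonempty_sl_equiv_psl (F := K)
        (by rw [hK]; exact Nat.even_pow.2 ⟨even_two, by omega⟩)
      exact Or.inl ⟨K, iK, iFK, ⟨e.trans χ⟩⟩
    · exact Or.inl ⟨K, iK, iFK, hiso⟩
  push Not at hFc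
  obtain ⟨u, hu, v, hv, huv⟩ := hFc
  have hfix : ∀ w ∈ F, w ≠ 1 → ∀ c : Ω, w • c = c → c = a := fun w hw hw1 c hc =>
    by_contra fun hca => hw1 (hF.eq_one_of_fix hw hca hc)
  rcases S0885.result hZ hab (Nat.card F) (Nat.card (Zassenhaus.twoPt G a b))
      (by rw [← Nat.card_eq_fintype_card]; omega) rfl hodd F (fun w hw => hF.fix w hw)
      (by rw [← Nat.card_eq_fintype_card]; omega) hfix with hsmall | ⟨h2, -, -⟩
  · exact absurd (congrArg Subtype.val ((hF.elementary C hab h3 (by omega)).1.is_comm.comm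
      (⟨u, hu⟩ : F) ⟨v, hv⟩)) huv
  · have X := Zassenhaus.evenCtx_of_simple hZ hab hF h2 ⟨u, hu, v, hv, huv⟩
    obtain ⟨n, ⟨m, rfl⟩, hn1, hd, hcard⟩ := X.exists_exponent
    refine Or.inr ⟨‹_›, m, by omega, ?_⟩
    rw [X.card_group, hcard, Nat.eq_sub_of_add_eq hd]
    ring

end Cfsg.Agent.S0340
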