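import Cfsg.Statements.S0334
import Cfsg.Agent.RankOne.SuzukiOvoid
-- import your own Cfsg.Agent.* helpers here

set_option autoImplicit false
open Cfsg
open Cfsg.Agent
open scoped Pointwise

namespace Cfsg.Agent.S0334

/-- Every element of the Suzuki group preserves the alternating form with antidiagonal matrix:
`gᵀ J g = J`. Hence the Suzuki group is a subgroup of a 4-dimensional symplectic group. -/
theorem result {F : Type*} [Field F] [Fintype F] {m : ℕ} (hm : 1 ≤ m)
    (hF : Fintype.card F = 2 ^ (2 * m + 1)) {g : Matrix.SpecialLinearGroup (Fin 4) F}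
    (hg : g ∈ Cfsg.Sz F m) :
    (g : Matrix (Fin 4) (Fin 4) F).transpose * Cfsg.suzukiForm F * (g : Matrix (Fin 4) (Fin 4) F) =
      Cfsg.suzukiForm F := by
  have hG := RankOne.Ovoid.good_of_card (m := m) hF
  have hmem : ∀ v : Fin 4 → F, RankOne.Ovoid.OnOvoid m v →
      RankOne.Ovoid.OnOvoid m ((g : Matrix (Fin 4) (Fin 4) F).mulVec v) := by
    intro v hv
    have hv0 : v ≠ 0 := by
      obtain ⟨c, hc, rfl | ⟨x, y, rfl⟩⟩ := hv
      · exact smul_ne_zero hc RankOne.Ovoid.vInf_ne_zero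
      · exact smul_ne_zero hc (RankOne.Ovoid.vPt_ne_zero x y)
    have h1 : g • Projectivization.mk F v hv0 ∈ g • Cfsg.suzukiOvoid F m :=
      Set.smul_mem_smul_set ((RankOne.Ovoid.mem_suzukiOvoid hv0).mpr hv)
    rw [show g • Cfsg.suzukiOvoid F m = Cfsg.suzukiOvoid F m from hg] at h1
    exact (RankOne.Ovoid.mem_suzukiOvoid
      (v := (g : Matrix (Fin 4) (Fin 4) F).mulVec v) _).mp h1
  obtain ⟨k, hk⟩ := RankOne.Ovoid.form_scaled hG (Matrix.SpecialLinearGroup.toLin' g) hmem
  have hmat : (g : Matrix (Fin 4) (Fin 4) F).transpose * Cfsg.suzukiForm F *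
      (g : Matrix (Fin 4) (Fin 4) F) = k • Cfsg.suzukiForm F := by
    ext i j
    have h : RankOne.Ovoid.B ((g : Matrix (Fin 4) (Fin 4) F).mulVec (Pi.single i 1))
        ((g : Matrix (Fin 4) (Fin 4) F).mulVec (Pi.single j 1)) =
        k * RankOne.Ovoid.B (Pi.single i 1) (Pi.single j 1) := hk _ _
    simp [RankOne.Ovoid.B, Matrix.mulVec_single] at h
    simp [Matrix.mul_apply, Fin.sum_univ_four, Cfsg.suzukiForm, Matrix.transpose_apply]
    fin_cases i <;> fin_cases j <;> simp at h ⊢ <;> linear_combination h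
  have hJ : (Cfsg.suzukiForm F).det ≠ 0 := by
    refine Matrix.det_ne_zero_of_left_inverse (B := Cfsg.suzukiForm F) ?_
    ext i j
    fin_cases i <;> fin_cases j <;> simp [Matrix.mul_apply, Fin.sum_univ_four, Cfsg.suzukiForm]
  have hdet := congrArg Matrix.det hmat
  rw [Matrix.det_mul, Matrix.det_mul, Matrix.det_transpose, g.det_coe, one_mul, mul_one,
    Matrix.det_smul, Fintype.card_fin] at hdet
  have hk4 : k ^ 4 = 1 := mul_eq_right₀ hJ |>.mp hdet.symm
  have h0 : (k - 1) ^ 4 = 0 := by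
    have h2 := hG.two
    grind
  rw [hmat, sub_eq_zero.mp (eq_zero_of_pow_eq_zero h0), one_smul]

end Cfsg.Agent.S0334
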