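import Cfsg.Statements.S0338
import Cfsg.Agent.RankOne.Zassenhaus
-- import your own Cfsg.Agent.* helpers here

set_option autoImplicit false
open Cfsg
open Cfsg.Agent
open scoped Pointwise

namespace Cfsg.Agent.S0338

/-- A Zassenhaus group of odd degree is a simple group. -/
theorem result {G Ω : Type*} [Group G] [MulAction G Ω] [Fintype Ω]
    (hZ : Cfsg.IsZassenhausGroup G Ω) (hodd : Odd (Fintype.card Ω)) : IsSimpleGroup G := by
  have hT := RankOne.threeFree_of_zassenhaus hZ
  have hf := hT.faithful
  have : Finite G := Finite.of_injective (MulAction.toPermHom G Ω) MulAction.toPerm_injective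
  have hodd' : Odd (Nat.card Ω) := by rwa [Nat.card_eq_fintype_card]
  obtain ⟨g, hg1, a, -, -, -, -⟩ := hT.two
  have : Nontrivial G := ⟨⟨g, 1, hg1⟩⟩
  refine ⟨fun N hNn => or_iff_not_imp_left.mpr fun hN => ?_⟩
  have hTN := hT.normal_threeFree hZ.2.2.2.2 hN
  obtain ⟨t, Q, hS⟩ := hT.exists_setup hodd' a
  obtain ⟨t', Q', hS'⟩ := hTN.exists_setup hodd' a
  have hQN : Q ≤ N := hT.kernel_le hZ.2.2.2.2 hN hS.le hS.conj_mem
    fun b c hb hc => RankOne.regular hS hb hc
  have hD : Nat.card (RankOne.twoPt G a t) = Nat.card (RankOne.twoPt N a t') := by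
    have e1 : (Cfsg.invertedBy (RankOne.twoPt G a t) t : Set G) = (RankOne.twoPt G a t : Set G) :=
      Set.ext fun d => ⟨fun h => h.1, fun h => hT.twoPt_inverted hS d h⟩
    have e2 : (Cfsg.invertedBy (RankOne.twoPt N a t') t' : Set N) =
        (RankOne.twoPt N a t' : Set N) :=
      Set.ext fun d => ⟨fun h => h.1, fun h => hTN.twoPt_inverted hS' d h⟩
    have c1 := RankOne.card_invertedBy hS
    have c2 := RankOne.card_invertedBy hS'
    rw [e1] at c1
    rw [e2] at c2
    calc Nat.card (RankOne.twoPt G a t)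
        = Nat.card (Cfsg.involutionsIn (MulAction.stabilizer G a : Set G)) := c1
      _ = Nat.card (Cfsg.involutionsIn (MulAction.stabilizer N a : Set N)) := by
          refine (Nat.card_eq_of_bijective (fun s : Cfsg.involutionsIn
            (MulAction.stabilizer N a : Set N) => (⟨((s : N) : G), s.2.1,
              fun h => s.2.2.1 (Subtype.ext h), congrArg Subtype.val s.2.2.2⟩ :
            Cfsg.involutionsIn (MulAction.stabilizer G a : Set G))) ⟨?_, ?_⟩).symm
          · exact fun s s' h => Subtype.ext (Subtype.ext (congrArg Subtype.val h :))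
          · intro s
            exact ⟨⟨⟨s, hQN (RankOne.mem_I_Q hS s.2)⟩, s.2.1,
              fun h => s.2.2.1 (congrArg Subtype.val h), Subtype.ext s.2.2.2⟩, rfl⟩
      _ = Nat.card (RankOne.twoPt N a t') := c2.symm
  have hQ : Nat.card Q = Nat.card Q' :=
    Nat.add_right_cancel ((RankOne.card_points hS).symm.trans (RankOne.card_points hS'))
  refine Subgroup.eq_top_of_card_eq N ?_
  rw [RankOne.card_group hS, RankOne.card_group hS', hQ, hD]

end Cfsg.Agent.S0338
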