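import Cfsg.Statements.S3378
import Cfsg.Agent.FPF25.IcosPresentation
import Cfsg.Agent.FPF25.Sl25
import Cfsg.Agent.Char.Integral
import Cfsg.Agent.Classical.SmallSimple
-- import your own Cfsg.Agent.* helpers here

set_option autoImplicit false
open Cfsg

namespace Cfsg.Agent.S3378

open Subgroup

def rels : Set (FreeGroup (Fin 3)) :=
  {FreeGroup.of (0 : Fin 3) ^ 3, FreeGroup.of (1 : Fin 3) ^ 5, FreeGroup.of (2 : Fin 3) ^ 2,
    (FreeGroup.of (2 : Fin 3))⁻¹ * FreeGroup.of 0 * FreeGroup.of 2 * (FreeGroup.of (0 : Fin 3))⁻¹,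
    (FreeGroup.of (2 : Fin 3))⁻¹ * FreeGroup.of 1 * FreeGroup.of 2 * (FreeGroup.of (1 : Fin 3))⁻¹,
    (FreeGroup.of (0 : Fin 3) * FreeGroup.of 1) ^ 2 * (FreeGroup.of (2 : Fin 3))⁻¹}

/-- A group of order 120 generated by elements with these relations is the presented group. -/
theorem recognize {G : Type*} [Group G] [Finite G] (hG : Nat.card G = 120) {X Y z : G} (hz : ∀ g, Commute g z)
    (hz2 : z ^ 2 = 1) (hX : X ^ 3 = 1) (hY : Y ^ 5 = 1) (hXY : (X * Y) ^ 2 = z) (hgen : Subgroup.closure {X, Y} = ⊤) :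
    Nonempty (PresentedGroup rels ≃* G) := by
  have hf : ∀ r ∈ rels, FreeGroup.lift ![X, Y, z] r = 1 := by
    intro r hr
    unfold rels at hr
    rcases hr with rfl | rfl | rfl | rfl | rfl | rfl
    · simpa using hX
    · simpa using hY
    · simpa using hz2
    · simp only [map_mul, map_inv, FreeGroup.lift_apply_of]
      show z⁻¹ * X * z * X⁻¹ = 1
      rw [mul_assoc z⁻¹ X z, (hz X).eq]; group
    · simp only [map_mul, map_inv, FreeGroup.lift_apply_of]
      show z⁻¹ * Y * z * Y⁻¹ = 1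
      rw [mul_assoc z⁻¹ Y z, (hz Y).eq]; group
    · simp [hXY]
  set f := PresentedGroup.toGroup hf with hfdef
  have hf0 : f (PresentedGroup.of 0) = X := PresentedGroup.toGroup.of hf
  have hf1 : f (PresentedGroup.of 1) = Y := PresentedGroup.toGroup.of hf
  have hone : ∀ r ∈ rels, PresentedGroup.mk rels r = 1 := fun r hr => PresentedGroup.one_of_mem hr
  obtain ⟨x, hx⟩ : ∃ x : PresentedGroup rels, PresentedGroup.of 0 = x := ⟨_, rfl⟩
  obtain ⟨y, hy⟩ : ∃ y : PresentedGroup rels, PresentedGroup.of 1 = y := ⟨_, rfl⟩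
  obtain ⟨w, hw⟩ : ∃ w : PresentedGroup rels, PresentedGroup.of 2 = w := ⟨_, rfl⟩
  have e1 : x ^ 3 = 1 := by
    have := hone (FreeGroup.of (0 : Fin 3) ^ 3) (by simp [rels]); rw [map_pow] at this; rw [← hx]; exact this
  have e2 : y ^ 5 = 1 := by
    have := hone (FreeGroup.of (1 : Fin 3) ^ 5) (by simp [rels]); rw [map_pow] at this; rw [← hy]; exact this
  have e3 : w ^ 2 = 1 := by
    have := hone (FreeGroup.of (2 : Fin 3) ^ 2) (by simp [rels]); rw [map_pow] at this; rw [← hw]; exact this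
  have e4 : Commute x w := by
    have := hone ((FreeGroup.of (2 : Fin 3))⁻¹ * FreeGroup.of 0 * FreeGroup.of 2 * (FreeGroup.of (0 : Fin 3))⁻¹) (by simp [rels])
    simp only [map_mul, map_inv, mul_inv_eq_one] at this
    rw [mul_assoc, inv_mul_eq_iff_eq_mul] at this
    rw [← hx, ← hw]
    exact this
  have e5 : Commute y w := by
    have := hone ((FreeGroup.of (2 : Fin 3))⁻¹ * FreeGroup.of 1 * FreeGroup.of 2 * (FreeGroup.of (1 : Fin 3))⁻¹) (by simp [rels])
    simp only [map_mul, map_inv, mul_inv_eq_one] at this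
    rw [mul_assoc, inv_mul_eq_iff_eq_mul] at this
    rw [← hy, ← hw]
    exact this
  have e6 : (x * y) ^ 2 = w := by
    have := hone ((FreeGroup.of (0 : Fin 3) * FreeGroup.of 1) ^ 2 * (FreeGroup.of (2 : Fin 3))⁻¹) (by simp [rels])
    simp only [map_mul, map_inv, map_pow, mul_inv_eq_one] at this
    rw [← hx, ← hy, ← hw]
    exact this
  have htop : Subgroup.closure {x, y} = ⊤ := by
    refine eq_top_iff.mpr ?_
    rw [← PresentedGroup.closure_range_of rels, closure_le]
    rintro _ ⟨i, rfl⟩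
    obtain rfl | rfl | rfl : i = 0 ∨ i = 1 ∨ i = 2 := by revert i; decide
    · rw [hx]; exact subset_closure (Set.mem_insert _ _)
    · rw [hy]; exact subset_closure (Set.mem_insert_of_mem _ rfl)
    · rw [hw, ← e6]
      have hxm : x ∈ Subgroup.closure {x, y} := subset_closure (Set.mem_insert _ _)
      have hym : y ∈ Subgroup.closure {x, y} := subset_closure (Set.mem_insert_of_mem _ rfl)
      exact Subgroup.pow_mem _ (Subgroup.mul_mem _ hxm hym) 2
  have hzc : ∀ g : PresentedGroup rels, Commute g w := fun g => by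
    have hle : Subgroup.closure {x, y} ≤ centralizer {w} := (closure_le _).mpr fun u hu => mem_centralizer_singleton_iff.mpr <| by
      rcases hu with rfl | rfl
      · exact e4.eq
      · exact e5.eq
    exact mem_centralizer_singleton_iff.mp (hle (htop ▸ mem_top g))
  obtain ⟨hfin, hle⟩ := FPF25.IcosPres.card_closure_le hzc e3 e1 e2 e6 htop
  have hsurj : Function.Surjective f := by
    refine MonoidHom.range_eq_top.mp (top_le_iff.mp ?_)
    rw [← hgen, closure_le]
    rintro u (rfl | rfl)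
    · exact ⟨x, hx ▸ hf0⟩
    · exact ⟨y, hy ▸ hf1⟩
  exact ⟨MulEquiv.ofBijective f ((Nat.bijective_iff_surjective_and_card _).mpr
    ⟨hsurj, le_antisymm (hle.trans hG.ge) (Nat.card_le_card_of_surjective f hsurj)⟩)⟩

theorem small_solvable {H : Type*} [Group H] [Finite H] (h : Nat.card H ∣ 120) (h' : Nat.card H < 60) :
    Group.IsSolvable H := by
  have hB : ∀ p q : ℕ, p.Prime → q.Prime → (∃ a b : ℕ, Nat.card H = p ^ a * q ^ b) → Group.IsSolvable H :=
    fun p q hp hq hab => Char.isSolvable_of_card_eq p q hp hq _ H rfl hab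
  have key : ∀ n : Fin 60, n.val ∣ 120 → n.val = 30 ∨ (∃ a b : Fin 4, n.val = 2 ^ a.val * 3 ^ b.val) ∨
      (∃ a b : Fin 4, n.val = 2 ^ a.val * 5 ^ b.val) ∨ ∃ a b : Fin 4, n.val = 3 ^ a.val * 5 ^ b.val := by
    decide +kernel
  rcases key ⟨_, h'⟩ h with e | ⟨a, b, e⟩ | ⟨a, b, e⟩ | ⟨a, b, e⟩
  · have : IsZGroup H := IsZGroup.of_squarefree (by
      rw [show Nat.card H = 30 from e]
      decide +kernel)
    infer_instance
  · exact hB 2 3 Nat.prime_two Nat.prime_three ⟨a, b, e⟩
  · exact hB 2 5 Nat.prime_two Nat.prime_five ⟨a, b, e⟩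
  · exact hB 3 5 Nat.prime_three Nat.prime_five ⟨a, b, e⟩

theorem a5_triangle : ∃ a b : alternatingGroup (Fin 5), a ^ 3 = 1 ∧ b ^ 5 = 1 ∧ (a * b) ^ 2 = 1 ∧
    a ≠ 1 ∧ b ≠ 1 ∧ a * b ≠ 1 := by decide +kernel

theorem q8_unique : ∀ u v : QuaternionGroup 2, u * u = 1 → v * v = 1 → u ≠ 1 → v ≠ 1 → u = v := by
  decide +kernel

theorem sl25_bruhat : ∀ a b c d : ZMod 5, a * d - b * c = 1 → c ≠ 0 →
    (!![a, b; c, d] : Matrix (Fin 2) (Fin 2) (ZMod 5)) =
      (FPF25.up ((a - 1) * c ^ 3)).1 * (FPF25.low c).1 * (FPF25.up ((d - 1) * c ^ 3)).1 := by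
  decide +kernel

theorem sl25_gen (H : Subgroup (Matrix.SpecialLinearGroup (Fin 2) (ZMod 5)))
    (hu : ∀ b, FPF25.up b ∈ H) (hl : ∀ b, FPF25.low b ∈ H) : H = ⊤ := by
  have : Fact (Nat.Prime 5) := ⟨Nat.prime_five⟩
  have main : ∀ A : Matrix.SpecialLinearGroup (Fin 2) (ZMod 5), A.1 1 0 ≠ 0 → A ∈ H := by
    intro A hc
    have e : A = FPF25.up ((A.1 0 0 - 1) * A.1 1 0 ^ 3) * FPF25.low (A.1 1 0) * FPF25.up ((A.1 1 1 - 1) * A.1 1 0 ^ 3) := by
      have hdet : A.1 0 0 * A.1 1 1 - A.1 0 1 * A.1 1 0 = 1 := (Matrix.det_fin_two A.1).symm.trans A.2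
      obtain ⟨M, hM⟩ := A
      have key := sl25_bruhat
      refine Subtype.ext ?_
      simp only [Matrix.SpecialLinearGroup.coe_mul]
      exact (Matrix.eta_fin_two M).trans (key _ _ _ _ hdet hc)
    rw [e]
    exact mul_mem (mul_mem (hu _) (hl _)) (hu _)
  refine eq_top_iff.mpr fun A _ => ?_
  by_cases hc : A.1 1 0 = 0
  · have h1 : A * FPF25.low 1 ∈ H := main _ (by
      have hdet : A.1 0 0 * A.1 1 1 - A.1 0 1 * A.1 1 0 = 1 := (Matrix.det_fin_two A.1).symm.trans A.2
      rw [hc, mul_zero, sub_zero] at hdet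
      rw [Matrix.SpecialLinearGroup.coe_mul, Matrix.mul_apply, Fin.sum_univ_two, hc]
      simp [FPF25.low]
      intro e; rw [e, mul_zero] at hdet; exact zero_ne_one hdet)
    simpa using mul_mem h1 (inv_mem (hl 1))
  · exact main A hc

theorem sl25_iso : Nonempty (PresentedGroup rels ≃* Matrix.SpecialLinearGroup (Fin 2) (ZMod 5)) := by
  let X : Matrix.SpecialLinearGroup (Fin 2) (ZMod 5) := ⟨!![0, -1; 1, -1], by decide +kernel⟩
  refine recognize FPF25.card_sl25 (X := X) (Y := FPF25.up 1) (z := -1) (fun g => ?_) ?_ ?_ ?_ ?_ ?_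
  · show g * -1 = -1 * g
    simp
  · exact Subtype.ext (by decide +kernel)
  · exact Subtype.ext (by decide +kernel)
  · exact Subtype.ext (by decide +kernel)
  · exact Subtype.ext (by decide +kernel)
  · have hX : X ∈ Subgroup.closure ({X, FPF25.up 1} : Set _) := subset_closure (Set.mem_insert _ _)
    have hY : FPF25.up 1 ∈ Subgroup.closure ({X, FPF25.up 1} : Set _) := subset_closure (Set.mem_insert_of_mem _ rfl)
    have hu : ∀ b, FPF25.up b ∈ Subgroup.closure ({X, FPF25.up 1} : Set _) := fun b => by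
      have e : ∀ b : ZMod 5, (FPF25.up b).1 = ((FPF25.up 1) ^ b.val).1 := by decide +kernel
      rw [Subtype.ext (e b)]
      exact pow_mem hY _
    refine sl25_gen _ hu fun b => ?_
    have e : ∀ b : ZMod 5, (FPF25.low b).1 = (X * FPF25.up 1 * FPF25.up (-b) * (X * FPF25.up 1)⁻¹).1 := by
      decide +kernel
    rw [Subtype.ext (e b)]
    exact mul_mem (mul_mem (mul_mem hX hY) (hu _)) (inv_mem (mul_mem hX hY))

theorem group_iso {G : Type*} [Group G] [Finite G] (hG : Nat.card G = 120) (hns : ¬ Group.IsSolvable G)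
    (hP : ∀ P : Sylow 2 G, Nonempty ((P : Subgroup G) ≃* QuaternionGroup 2)) :
    Nonempty (PresentedGroup rels ≃* G) := by
  classical
  have : Fact (Nat.Prime 2) := ⟨Nat.prime_two⟩
  have : Fact (Nat.Prime 5) := ⟨Nat.prime_five⟩
  have hinv : ∀ Q : Subgroup G, IsPGroup 2 Q → ∀ u ∈ Q, ∀ v ∈ Q, u * u = 1 → v * v = 1 → u ≠ 1 → v ≠ 1 → u = v := by
    intro Q hQ u hu v hv hu2 hv2 hu1 hv1
    obtain ⟨P, hQP⟩ := hQ.exists_le_sylow
    obtain ⟨e⟩ := hP P
    have h := q8_unique (e ⟨u, hQP hu⟩) (e ⟨v, hQP hv⟩)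
      (by rw [← map_mul, ← map_one e]; exact congrArg e (Subtype.ext hu2))
      (by rw [← map_mul, ← map_one e]; exact congrArg e (Subtype.ext hv2))
      (fun h => hu1 (congrArg Subtype.val (e.injective (h.trans (map_one e).symm))))
      (fun h => hv1 (congrArg Subtype.val (e.injective (h.trans (map_one e).symm))))
    exact congrArg Subtype.val (e.injective h)
  have hno60 : ∀ L : Subgroup G, Nat.card L = 60 → Group.IsSolvable L := by
    intro L hL
    have : IsZGroup L := ⟨fun p hp P => by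
      have := Fact.mk hp
      have hc := P.card_eq_multiplicity
      rw [hL] at hc
      by_cases hp2 : p = 2
      · subst hp2
        rw [show (60 : ℕ).factorization 2 = 2 by decide +kernel] at hc
        have h4 : IsPGroup 2 ((P : Subgroup L).map L.subtype) := P.isPGroup'.map _
        obtain ⟨u, hu⟩ : ∃ u : (P : Subgroup L), orderOf u ≠ 1 ∧ orderOf u ≠ 2 := by
          by_contra hall
          push Not at hall
          have : Nontrivial (P : Subgroup L) := Finite.one_lt_card_iff_nontrivial.mp (by omega)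
          obtain ⟨u, hu⟩ := exists_ne (1 : (P : Subgroup L))
          have hsub : ∀ v : (P : Subgroup L), v = 1 ∨ v = u := fun v => by
            refine or_iff_not_imp_left.mpr fun hv => ?_
            have hsq : ∀ t : (P : Subgroup L), t ≠ 1 → ((t : L) : G) * ((t : L) : G) = 1 := fun t ht => by
              have := orderOf_dvd_iff_pow_eq_one.mp (dvd_of_eq (hall t (fun e => ht (orderOf_eq_one_iff.mp e))))
              rw [pow_two] at this
              exact congrArg (fun t : (P : Subgroup L) => ((t : L) : G)) this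
            exact Subtype.ext (Subtype.ext (hinv _ h4 _ ⟨v.1, v.2, rfl⟩ _ ⟨u.1, u.2, rfl⟩ (hsq v hv) (hsq u hu)
              (fun e => hv (Subtype.ext (Subtype.ext e))) (fun e => hu (Subtype.ext (Subtype.ext e)))))
          have hle := Nat.card_le_card_of_surjective (fun b : Bool => if b then u else 1) (fun v => by
            rcases hsub v with h | h
            · exact ⟨false, h.symm⟩
            · exact ⟨true, h.symm⟩)
          rw [hc, Nat.card_eq_fintype_card (α := Bool), Fintype.card_bool] at hle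
          omega
        have hd : orderOf u ∣ 2 ^ 2 := hc ▸ _root_.orderOf_dvd_natCard u
        obtain ⟨i, hi, he⟩ := (Nat.dvd_prime_pow Nat.prime_two).mp hd
        interval_cases i
        · exact absurd he (by simpa using hu.1)
        · exact absurd he (by simpa using hu.2)
        · exact isCyclic_of_orderOf_eq_card u (by rw [he, hc])
      · by_cases hd : p ∣ 60
        · have : p = 3 ∨ p = 5 := by
            have h60 := Nat.le_of_dvd (by norm_num) hd
            interval_cases p <;> first | omega | norm_num at hp | norm_num at hd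
          have h1 : (60 : ℕ).factorization p = 1 := by rcases this with rfl | rfl <;> decide +kernel
          rw [h1, pow_one] at hc
          exact isCyclic_of_prime_card hc
        · rw [Nat.factorization_eq_zero_of_not_dvd hd, pow_zero] at hc
          have := (Nat.card_eq_one_iff_unique.mp hc).1
          infer_instance⟩
    infer_instance
  have hext : ∀ N : Subgroup G, [N.Normal] → Group.IsSolvable N → Group.IsSolvable (G ⧸ N) → False := fun N _ h1 h2 =>
    hns (Group.isSolvable_of_ker_le_range N.subtype (QuotientGroup.mk' N) (by rw [QuotientGroup.ker_mk', range_subtype]))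
  have hnormal : ∀ N : Subgroup G, N.Normal → N = ⊥ ∨ Nat.card N = 2 ∨ N = ⊤ := by
    intro N hN
    have h1 := N.card_mul_index
    rw [hG] at h1
    by_contra hc
    push Not at hc
    obtain ⟨hb, h2, ht⟩ := hc
    have hb' : 1 < Nat.card N := N.one_lt_card_iff_ne_bot.mpr hb
    have ht' : 1 < N.index := N.one_lt_index_of_ne_top ht
    have hle : Nat.card N ≤ 60 := by nlinarith
    have hqc : Nat.card (G ⧸ N) = N.index := rfl
    have hd : N.index ∣ 120 := Dvd.intro_left _ h1
    have hlt : N.index < 60 := by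
      have : 3 ≤ Nat.card N := by omega
      nlinarith
    refine hext N ?_ (small_solvable (hqc ▸ hd) (hqc ▸ hlt))
    rcases eq_or_lt_of_le hle with e | e
    · exact hno60 N e
    · exact small_solvable (Dvd.intro _ h1) e
  obtain ⟨K, hKn, hK⟩ : ∃ K : Subgroup G, K.Normal ∧ Nat.card K = 2 := by
    by_contra hc
    push Not at hc
    have : Nontrivial G := Finite.one_lt_card_iff_nontrivial.mp (by omega)
    have hsimp : IsSimpleGroup G := ⟨fun N hN => (hnormal N hN).imp_right fun h =>
      h.resolve_left (hc N hN)⟩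
    obtain ⟨P⟩ := (inferInstance : Nonempty (Sylow 5 G))
    obtain ⟨hP5, hPi⟩ := Classical.Small.sylow_card_eq P (m := 24) (by rw [hG]) (by norm_num)
    have hne : Nat.card (P : Subgroup G) ≠ Nat.card G := by rw [hP5, hG]; norm_num
    have hab := Classical.Small.exists_noncomm P (by rw [hG]; norm_num) hne
    have hn1 := Classical.Small.sylow_card_ne_one P (by rw [hG]; norm_num) hne
    have hn2 : Nat.card (Sylow 5 G) ∣ 24 := hPi ▸ P.card_dvd_index
    have hn3 : Nat.card (Sylow 5 G) % 5 = 1 := card_sylow_modEq_one 5 G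
    have hn : Nat.card (Sylow 5 G) = 6 := by
      have := Nat.le_of_dvd (by norm_num) hn2
      generalize Nat.card (Sylow 5 G) = a at hn1 hn2 hn3 this
      interval_cases a <;> omega
    have := Fintype.ofFinite (Sylow 5 G)
    obtain ⟨hinj, hev⟩ := Classical.Small.perm_rep hab (MulAction.toPermHom G (Sylow 5 G)) fun h => by
      have hs : Subsingleton (Sylow 5 G) := ⟨fun a b => by
        obtain ⟨g, hg⟩ := MulAction.exists_smul_eq G a b
        have h' := DFunLike.congr_fun h g
        rw [← hg]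
        exact (DFunLike.congr_fun h' a).symm⟩
      rw [Nat.card_of_subsingleton P] at hn
      omega
    let A := alternatingGroup (Sylow 5 G)
    let R : Subgroup A := (MulAction.toPermHom G (Sylow 5 G)).range.subgroupOf A
    have hcR : Nat.card R = 120 :=
      (Nat.card_congr (subgroupOfEquivOfLe hev).toEquiv).trans
        ((Nat.card_congr (MonoidHom.ofInjective hinj).toEquiv).symm.trans hG)
    have : Nontrivial (Sylow 5 G) := Finite.one_lt_card_iff_nontrivial.mp (by omega)
    have hcA : Nat.card A = 360 := by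
      have h2 := nat_card_alternatingGroup (α := Sylow 5 G)
      rw [Nat.card_eq_fintype_card (α := Sylow 5 G)] at hn
      simp only [A, Nat.card_eq_fintype_card, hn, Nat.factorial] at h2 ⊢
      omega
    have hR3 : R.index = 3 := by
      have := R.card_mul_index
      rw [hcR, hcA] at this; omega
    have : IsSimpleGroup A := alternatingGroup.isSimpleGroup (by omega)
    rcases IsSimpleGroup.eq_bot_or_eq_top_of_normal R.normalCore inferInstance with h | h
    · have h3 := Nat.card_le_card_of_injective (MulAction.toPermHom A (A ⧸ R))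
        ((MonoidHom.ker_eq_bot_iff _).mp (R.normalCore_eq_ker ▸ h))
      rw [hcA, Nat.card_perm, ← index_eq_card, hR3] at h3
      norm_num at h3
    · have := h.ge.trans R.normalCore_le
      rw [top_le_iff] at this
      rw [this, index_top] at hR3
      omega
  have hKc : ∀ g : G, ∀ k ∈ K, Commute g k := fun g k hk => by
    rcases eq_or_ne k 1 with rfl | hk1
    · exact Commute.one_right g
    obtain ⟨⟨a, ha⟩, ⟨b, hb⟩, hab, huniv⟩ := Nat.card_eq_two_iff.mp hK
    have hmem : ∀ t ∈ K, t ≠ 1 → t = k := by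
      intro t ht ht1
      have h1 := Set.ext_iff.mp huniv ⟨1, one_mem K⟩
      have h2 := Set.ext_iff.mp huniv ⟨t, ht⟩
      have h3 := Set.ext_iff.mp huniv ⟨k, hk⟩
      simp only [Set.mem_insert_iff, Set.mem_singleton_iff, Subtype.mk.injEq, Set.mem_univ, iff_true] at h1 h2 h3
      rcases h1 with h1 | h1 <;> rcases h2 with h2 | h2 <;> rcases h3 with h3 | h3 <;>
        first | exact h2.trans h3.symm | exact absurd (h2.trans h1.symm) ht1 | exact absurd (h3.trans h1.symm) hk1
    have := hmem _ (hKn.conj_mem k hk g) fun e => hk1 (by simpa using e)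
    exact mul_inv_eq_iff_eq_mul.mp this
  obtain ⟨z, hz1, hzK⟩ : ∃ z : G, z ≠ 1 ∧ ∀ t, t ∈ K ↔ t = 1 ∨ t = z := by
    obtain ⟨z, hz, huniv⟩ := (Nat.card_eq_two_iff' (1 : K)).mp hK
    refine ⟨z, fun e => hz (Subtype.ext e), fun t => ⟨fun ht => ?_, ?_⟩⟩
    · rcases eq_or_ne (⟨t, ht⟩ : K) 1 with e | e
      · exact Or.inl (congrArg Subtype.val e)
      · exact Or.inr (congrArg Subtype.val (huniv _ e))
    · rintro (rfl | rfl)
      · exact one_mem K
      · exact z.2
  have hzm : z ∈ K := (hzK z).mpr (Or.inr rfl)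
  have hK2 : ∀ k ∈ K, k ^ 2 = 1 := fun k hk => orderOf_dvd_iff_pow_eq_one.mp (hK ▸ orderOf_dvd_natCard _ hk)
  have huniq : ∀ t : G, t * t = 1 → t ≠ 1 → t ∈ K := fun t ht ht1 => by
    have hQ : IsPGroup 2 (zpowers t ⊔ K : Subgroup G) := by
      refine IsPGroup.to_sup_of_normal_right (IsPGroup.of_card (n := 1) ?_) (IsPGroup.of_card (n := 1) (by rw [hK, pow_one]))
      rw [Nat.card_zpowers, pow_one]
      exact orderOf_eq_prime (by rw [pow_two, ht]) ht1
    rw [hinv _ hQ t (mem_sup_left (mem_zpowers t)) z (mem_sup_right hzm) ht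
      (by rw [← pow_two]; exact hK2 z hzm) ht1 hz1]
    exact hzm
  have hcQ : Nat.card (G ⧸ K) = 60 := by
    have := K.card_eq_card_quotient_mul_card_subgroup
    rw [hG, hK] at this; omega
  have : Nontrivial (G ⧸ K) := Finite.one_lt_card_iff_nontrivial.mp (by omega)
  have : IsSimpleGroup (G ⧸ K) := ⟨fun N hN => by
    have hsur := QuotientGroup.mk'_surjective K
    rcases hnormal (N.comap (QuotientGroup.mk' K)) inferInstance with h | h | h
    · refine Or.inl ?_
      rw [← map_comap_eq_self_of_surjective hsur N, h, Subgroup.map_bot]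
    · refine Or.inl ?_
      have hKle : K ≤ N.comap (QuotientGroup.mk' K) := fun k hk => by
        rw [mem_comap, QuotientGroup.mk'_apply, (QuotientGroup.eq_one_iff k).mpr hk]
        exact one_mem N
      rw [← map_comap_eq_self_of_surjective hsur N, ← eq_of_le_of_card_ge hKle (by rw [h, hK])]
      exact QuotientGroup.map_mk'_self K
    · refine Or.inr ?_
      rw [← map_comap_eq_self_of_surjective hsur N, h, map_top_of_surjective _ hsur]⟩
  obtain ⟨e⟩ := Classical.Small.simple_sixty hcQ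
  set π : G →* alternatingGroup (Fin 5) := e.toMonoidHom.comp (QuotientGroup.mk' K) with hπ
  have hπs : Function.Surjective π := e.surjective.comp (QuotientGroup.mk'_surjective K)
  have hπ1 : ∀ g, π g = 1 ↔ g ∈ K := fun g => by
    show e (QuotientGroup.mk' K g) = 1 ↔ _
    rw [MulEquiv.map_eq_one_iff]
    exact QuotientGroup.eq_one_iff g
  obtain ⟨a, b, ha, hb, hab, ha1, hb1, hab1⟩ := a5_triangle
  obtain ⟨X', hX'⟩ := hπs a
  obtain ⟨Y', hY'⟩ := hπs b
  have hX2 : X' ^ 6 = 1 := by
    rw [show 6 = 3 * 2 from rfl, pow_mul]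
    exact hK2 _ ((hπ1 _).mp (by rw [map_pow, hX', ha]))
  have hY2 : Y' ^ 10 = 1 := by
    rw [show 10 = 5 * 2 from rfl, pow_mul]
    exact hK2 _ ((hπ1 _).mp (by rw [map_pow, hY', hb]))
  have hXX : (X' ^ 4) ^ 3 = 1 := by rw [← pow_mul, show 4 * 3 = 6 * 2 from rfl, pow_mul, hX2, one_pow]
  have hYY : (Y' ^ 6) ^ 5 = 1 := by rw [← pow_mul, show 6 * 5 = 10 * 3 from rfl, pow_mul, hY2, one_pow]
  have hπX : π (X' ^ 4) = a := by rw [map_pow, hX', pow_succ, ha, one_mul]
  have hπY : π (Y' ^ 6) = b := by rw [map_pow, hY', pow_succ, hb, one_mul]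
  generalize hXd : X' ^ 4 = X at hXX hπX
  generalize hYd : Y' ^ 6 = Y at hYY hπY
  have hπXY : π (X * Y) = a * b := by rw [map_mul, hπX, hπY]
  have hXY : (X * Y) ^ 2 = z := by
    refine ((hzK _).mp ((hπ1 _).mp (by rw [map_pow, hπXY, hab]))).resolve_left fun h => hab1 ?_
    rw [← hπXY]
    refine (hπ1 _).mpr (huniq _ (by rw [← pow_two, h]) fun e1 => hab1 ?_)
    rw [← hπXY, e1, map_one]
  refine recognize hG (fun g => hKc g z hzm) (hK2 z hzm) hXX hYY hXY ?_
  set H := Subgroup.closure {X, Y} with hH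
  have hXH : X ∈ H := subset_closure (Set.mem_insert _ _)
  have hYH : Y ∈ H := subset_closure (Set.mem_insert_of_mem _ rfl)
  have hmap : H.map π = ⊤ := by
    have hm : a ∈ H.map π := hπX ▸ mem_map_of_mem π hXH
    have hm' : b ∈ H.map π := hπY ▸ mem_map_of_mem π hYH
    have hd3 : 3 ∣ Nat.card (H.map π) := (dvd_of_eq (orderOf_eq_prime (p := 3) ha ha1).symm).trans (Subgroup.orderOf_dvd_natCard _ hm)
    have hd5 : 5 ∣ Nat.card (H.map π) := (dvd_of_eq (orderOf_eq_prime (p := 5) hb hb1).symm).trans (Subgroup.orderOf_dvd_natCard _ hm')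
    have hd2 : 2 ∣ Nat.card (H.map π) := (dvd_of_eq (orderOf_eq_prime (p := 2) hab hab1).symm).trans (Subgroup.orderOf_dvd_natCard _ (mul_mem hm hm'))
    have hA : Nat.card (alternatingGroup (Fin 5)) = 60 := (Nat.card_congr e.toEquiv).symm.trans hcQ
    have h1 := (H.map π).card_mul_index
    rw [hA] at h1
    have h2 := Nat.le_of_dvd (by norm_num : 0 < 60) (Dvd.intro _ h1)
    by_contra hne
    have hne' : (H.map π).index ≠ 1 := fun h => hne (index_eq_one.mp h)
    have hi2 : (H.map π).index = 2 := by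
      obtain ⟨m, hm⟩ : 30 ∣ Nat.card (H.map π) :=
        Nat.Coprime.mul_dvd_of_dvd_of_dvd (by norm_num : Nat.Coprime 6 5)
          (Nat.Coprime.mul_dvd_of_dvd_of_dvd (by norm_num : Nat.Coprime 2 3) hd2 hd3) hd5
      rw [hm, mul_assoc] at h1
      have : m * (H.map π).index = 2 := by omega
      rcases (Nat.dvd_prime Nat.prime_two).mp (Dvd.intro_left _ this) with h | h <;> omega
    have : IsSimpleGroup (alternatingGroup (Fin 5)) := alternatingGroup.isSimpleGroup (by simp)
    rcases IsSimpleGroup.eq_bot_or_eq_top_of_normal _ (normal_of_index_eq_two hi2) with h | h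
    · rw [h, card_bot] at hd2; omega
    · exact hne h
  have hKH : K ≤ H := fun k hk => by
    rcases (hzK k).mp hk with rfl | rfl
    · exact one_mem H
    · rw [← hXY]; exact pow_mem (mul_mem hXH hYH) 2
  refine eq_top_iff.mpr fun g _ => ?_
  obtain ⟨h, hh, hhg⟩ := hmap.ge (mem_top (π g))
  have : h⁻¹ * g ∈ K := (hπ1 _).mp (by rw [map_mul, map_inv, hhg, inv_mul_cancel])
  simpa using mul_mem hh (hKH this)


/-- Every non-solvable group of order 120 whose Sylow 2-subgroups are quaternion of order 8 is isomorphic to SL(2,5), and SL(2,5) has the presentation ⟨x, y, z | x³ = y⁵ = z² = 1, z⁻¹xz = x, z⁻¹yz = y, (xy)² = z⟩. -/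
theorem result :
    (∀ (G : Type*) [Group G] [Finite G], Nat.card G = 120 → ¬ Group.IsSolvable G →
      (∀ P : Sylow 2 G, Nonempty ((P : Subgroup G) ≃* QuaternionGroup 2)) →
      Nonempty (G ≃* Matrix.SpecialLinearGroup (Fin 2) (ZMod 5))) ∧
    Nonempty (PresentedGroup ({FreeGroup.of (0 : Fin 3) ^ 3, FreeGroup.of (1 : Fin 3) ^ 5, FreeGroup.of (2 : Fin 3) ^ 2,
        (FreeGroup.of (2 : Fin 3))⁻¹ * FreeGroup.of 0 * FreeGroup.of 2 * (FreeGroup.of (0 : Fin 3))⁻¹,
        (FreeGroup.of (2 : Fin 3))⁻¹ * FreeGroup.of 1 * FreeGroup.of 2 * (FreeGroup.of (1 : Fin 3))⁻¹,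
        (FreeGroup.of (0 : Fin 3) * FreeGroup.of 1) ^ 2 * (FreeGroup.of (2 : Fin 3))⁻¹} : Set (FreeGroup (Fin 3)))
      ≃* Matrix.SpecialLinearGroup (Fin 2) (ZMod 5)) := by
  refine ⟨fun G _ _ hG hns hP => ?_, sl25_iso⟩
  obtain ⟨e⟩ := group_iso hG hns hP
  obtain ⟨e'⟩ := sl25_iso
  exact ⟨e.symm.trans e'⟩

end Cfsg.Agent.S3378
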