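import Cfsg.Statements.S0296
import Cfsg.Agent.Classical.OrthPOmega
-- import your own Cfsg.Agent.* helpers here

set_option autoImplicit false
open Cfsg

namespace Cfsg.Agent.S0296

/-- PΩ^+_{2m}(q) is simple for m at least 4. -/
theorem result {F : Type*} [Field F] [Fintype F] (m : ℕ) (hm : 4 ≤ m) : IsSimpleGroup (Cfsg.POmega F (Cfsg.quadFormPlus m F)) := by
  open Cfsg.Agent.Classical.Quad QuadraticMap in
    let Q : QuadraticForm F (Fin m ⊕ Fin m → F) := (hyp (zeroForm F) m).comp (plusCoord m).toLinearMap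
    have hQe : ⇑Q = Cfsg.quadFormPlus m F := funext fun x => by simp [Q, plusCoord_map]
    have hQ : (polarBilin Q).Nondegenerate :=
      Iso.nondeg (Iso.symm ⟨plusCoord m, fun x => by simp [Q]⟩) (nondeg_hyp nondeg_zeroForm m)
    rw [← hQe]
    exact isSimpleGroup_pomega hQ (by simp; omega)

end Cfsg.Agent.S0296
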