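import Cfsg.Statements.S3742
import Mathlib.GroupTheory.SpecificGroups.Quaternion
import Mathlib.Data.Fintype.Perm
import Mathlib.Data.Fintype.Pi

set_option autoImplicit false
open Cfsg

namespace Cfsg.Agent.S3742

open QuaternionGroup

/-- The map determined by the images of the two generators. -/
def ext2 (x y : QuaternionGroup 2) : QuaternionGroup 2 → QuaternionGroup 2
  | .a i => x ^ i.val
  | .xa i => y * x ^ i.val

/-- The map is an automorphism. -/
def Valid (x y : QuaternionGroup 2) : Prop :=
  (∀ p q, ext2 x y (p * q) = ext2 x y p * ext2 x y q) ∧ ∀ p q, ext2 x y p = ext2 x y q → p = q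

instance (x y : QuaternionGroup 2) : Decidable (Valid x y) := by unfold Valid; infer_instance

/-- Four choices of signs. -/
def tri : Fin 4 → Finset (QuaternionGroup 2) :=
  ![{a 1, xa 0, xa 3}, {a 1, xa 2, xa 1}, {a 3, xa 0, xa 1}, {a 3, xa 2, xa 3}]

/-- The four pairs of opposite sign choices. -/
def pairs (k : Fin 4) : Finset (Finset (QuaternionGroup 2)) :=
  {tri k, (tri k).image (fun p => a 2 * p)}

/-- The induced index. -/
def act (f : QuaternionGroup 2 → QuaternionGroup 2) (k : Fin 4) : Fin 4 :=
  if (tri k).image f ∈ pairs 0 then 0 else if (tri k).image f ∈ pairs 1 then 1 else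
    if (tri k).image f ∈ pairs 2 then 2 else 3

set_option maxRecDepth 100000 in
theorem act_spec : ∀ x y, Valid x y → ∀ k, ∀ s ∈ pairs k, s.image (ext2 x y) ∈ pairs (act (ext2 x y) k) := by
  decide +kernel

set_option maxRecDepth 100000 in
theorem pairs_inj : ∀ k l, ∀ s ∈ pairs k, s ∈ pairs l → k = l := by
  decide +kernel

set_option maxRecDepth 100000 in
theorem act_inj : ∀ x y, Valid x y → (∀ k, act (ext2 x y) k = k) → x = a 1 ∧ y = xa 0 := by
  decide +kernel

set_option maxRecDepth 100000 in
theorem act_surj : ∀ σ : Equiv.Perm (Fin 4), ∃ x y, Valid x y ∧ ∀ k, act (ext2 x y) k = σ k := by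
  decide +kernel

theorem eq_ext2 (α : MulAut (QuaternionGroup 2)) : (α : QuaternionGroup 2 → QuaternionGroup 2) = ext2 (α (a 1)) (α (xa 0)) := by
  funext p
  rcases p with i | i
  · show α (a i) = α (a 1) ^ i.val
    rw [← map_pow, a_one_pow, ZMod.natCast_zmod_val]
  · show α (xa i) = α (xa 0) * α (a 1) ^ i.val
    rw [← map_pow, ← map_mul, a_one_pow, ZMod.natCast_zmod_val, xa_mul_a, zero_add]

theorem valid_of (α : MulAut (QuaternionGroup 2)) : Valid (α (a 1)) (α (xa 0)) := by
  unfold Valid
  rw [← eq_ext2 α]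
  exact ⟨map_mul α, fun _ _ h => α.injective h⟩

theorem tri_mem (k : Fin 4) : tri k ∈ pairs k := Finset.mem_insert_self _ _

theorem act_comp (α β : MulAut (QuaternionGroup 2)) (k : Fin 4) :
    act (α * β : MulAut (QuaternionGroup 2)) k = act α (act β k) := by
  have h : ∀ (γ : MulAut (QuaternionGroup 2)) k s, s ∈ pairs k → s.image γ ∈ pairs (act γ k) := fun γ k s hs => by
    rw [eq_ext2 γ]; exact act_spec _ _ (valid_of γ) k s hs
  refine pairs_inj _ _ _ (h (α * β) k _ (tri_mem k)) ?_
  have h2 := h α _ _ (h β k _ (tri_mem k))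
  rw [Finset.image_image] at h2
  exact h2

theorem act_one (k : Fin 4) : act (1 : MulAut (QuaternionGroup 2)) k = k := by
  revert k; decide +kernel

/-- The permutation of the four pairs. -/
def toPerm : MulAut (QuaternionGroup 2) →* Equiv.Perm (Fin 4) where
  toFun α :=
    { toFun := act α
      invFun := act (α⁻¹ : MulAut (QuaternionGroup 2))
      left_inv := fun k => by rw [← act_comp, inv_mul_cancel, act_one]
      right_inv := fun k => by rw [← act_comp, mul_inv_cancel, act_one] }
  map_one' := Equiv.ext act_one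
  map_mul' α β := Equiv.ext (act_comp α β)

/-- The automorphism group of the quaternion group of order 8 is isomorphic to the symmetric group of degree 4. -/
theorem result : Nonempty (MulAut (QuaternionGroup 2) ≃* Equiv.Perm (Fin 4)) := by
  refine ⟨MulEquiv.ofBijective toPerm ⟨?_, ?_⟩⟩
  · rw [injective_iff_map_eq_one]
    intro α h
    have h' : ∀ k, act (ext2 (α (QuaternionGroup.a 1)) (α (QuaternionGroup.xa 0))) k = k := fun k => by
      rw [← eq_ext2]; exact congrArg (fun σ : Equiv.Perm (Fin 4) => σ k) h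
    obtain ⟨h1, h2⟩ := act_inj _ _ (valid_of α) h'
    refine MulEquiv.ext fun p => ?_
    rw [eq_ext2 α, h1, h2]
    exact congrFun (eq_ext2 1).symm p
  · intro σ
    obtain ⟨x, y, hv, hxy⟩ := act_surj σ
    let f : MulAut (QuaternionGroup 2) :=
      MulEquiv.ofBijective (MonoidHom.mk' (ext2 x y) hv.1) (Finite.injective_iff_bijective.1 hv.2)
    exact ⟨f, Equiv.ext hxy⟩

end Cfsg.Agent.S3742
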