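import Mathlib
import Cfsg.Statements.S1510
import Cfsg.Agent.CyclicTI.Basic

set_option autoImplicit false
open Cfsg

namespace Cfsg.Agent.S1510
theorem exists_split {L : Type*} [Group L] [Finite L] {A B : Subgroup L}
    (h : (Nat.card A).Coprime (Nat.card B)) :
    ∃ k : ℕ, ∀ a ∈ A, ∀ b ∈ B, Commute a b → (a * b) ^ k = a := by
  obtain ⟨k, hk1, hk2⟩ := Nat.chineseRemainder h 1 0
  refine ⟨k, fun a ha b hb hab => ?_⟩
  have ha1 : a ^ Nat.card A = 1 :=
    congrArg Subtype.val (pow_card_eq_one' (x := (⟨a, ha⟩ : A)))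
  have hb1 : b ^ Nat.card B = 1 :=
    congrArg Subtype.val (pow_card_eq_one' (x := (⟨b, hb⟩ : B)))
  rw [hab.mul_pow, pow_eq_pow_mod k ha1, hk1, ← pow_eq_pow_mod 1 ha1, pow_one,
    pow_eq_pow_mod k hb1, hk2, Nat.zero_mod, pow_zero, mul_one]

/-- Let L be a finite group with a normal subgroup K and a nontrivial cyclic subgroup W₁ of order coprime to its index, K ⊓ W₁ = ⊥ and K ⊔ W₁ = ⊤; let W₂ ≠ ⊥ be a cyclic subgroup of K with K ⊓ C_L(x) = W₂ for every non-identity x ∈ W₁, and suppose W₁ ⊔ W₂ has odd order. Then (W₁, W₂) is a self-normalising cyclic pair in L. -/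
theorem result {L : Type*} [Group L] [Fintype L] (K W₁ W₂ : Subgroup L) [hK : K.Normal] (hKW₁ : K ⊓ W₁ = ⊥) (hKW₁' : K ⊔ W₁ = ⊤) (hW₁ : W₁ ≠ ⊥) (hW₁c : IsCyclic W₁) (hHall : Nat.Coprime (Nat.card W₁) W₁.index) (hW₂ : W₂ ≠ ⊥) (hW₂c : IsCyclic W₂) (hW₂K : W₂ ≤ K) (hC : ∀ x ∈ W₁, x ≠ 1 → K ⊓ Subgroup.centralizer ({x} : Set L) = W₂) (hodd : Odd (Nat.card ↥(W₁ ⊔ W₂))) : Cfsg.IsSelfNormalizingCyclic W₁ W₂ := by
  have hcard : Nat.card L = Nat.card K * Nat.card W₁ :=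
    (Subgroup.isComplement'_of_disjoint_and_mul_eq_univ (disjoint_iff.2 hKW₁)
      (by rw [← Subgroup.normal_mul, hKW₁', Subgroup.coe_top])).card_mul_card.symm
  have hidx : W₁.index = Nat.card K := by
    have h1 := W₁.index_mul_card
    rw [hcard] at h1
    exact Nat.eq_of_mul_eq_mul_right Nat.card_pos h1
  have hcop : (Nat.card W₁).Coprime (Nat.card W₂) :=
    (hidx ▸ hHall).coprime_dvd_right (Subgroup.card_dvd_of_le hW₂K)
  have hcomm : ∀ a ∈ W₁, ∀ b ∈ W₂, a * b = b * a := by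
    intro a ha b hb
    by_cases h1 : a = 1
    · rw [h1, one_mul, mul_one]
    have h := (hC a ha h1).symm ▸ hb
    exact (Subgroup.mem_centralizer_singleton_iff.1 h.2).symm
  have hdis : W₁ ⊓ W₂ = ⊥ :=
    le_bot_iff.1 (fun x hx => hKW₁ ▸ (⟨hW₂K hx.2, hx.1⟩ : x ∈ K ⊓ W₁))
  obtain ⟨k, hk⟩ := exists_split hcop
  obtain ⟨l, hl⟩ := exists_split hcop.symm
  have hcyc : IsCyclic ↥(W₁ ⊔ W₂) := by
    obtain ⟨⟨a, ha⟩, hag⟩ := hW₁c.exists_generator
    obtain ⟨⟨b, hb⟩, hbg⟩ := hW₂c.exists_generator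
    have hab : Commute a b := hcomm a ha b hb
    have he : W₁ ⊔ W₂ = Subgroup.zpowers (a * b) := by
      refine le_antisymm (sup_le (fun x hx => ?_) fun x hx => ?_)
        (Subgroup.zpowers_le.2 (Subgroup.mul_mem_sup ha hb))
      · obtain ⟨i, hi⟩ := Subgroup.mem_zpowers_iff.1 (hag ⟨x, hx⟩)
        have hi' : a ^ i = x := congrArg Subtype.val hi
        rw [← hi']
        refine Subgroup.zpow_mem _ ?_ i
        have h1 := Subgroup.pow_mem _ (Subgroup.mem_zpowers (a * b)) k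
        rwa [hk a ha b hb hab] at h1
      · obtain ⟨i, hi⟩ := Subgroup.mem_zpowers_iff.1 (hbg ⟨x, hx⟩)
        have hi' : b ^ i = x := congrArg Subtype.val hi
        rw [← hi']
        refine Subgroup.zpow_mem _ ?_ i
        have h1 := Subgroup.pow_mem _ (Subgroup.mem_zpowers (a * b)) l
        have e : (a * b) ^ l = b := by rw [hab.eq]; exact hl b hb a ha hab.symm
        rwa [e] at h1
    rw [he]
    infer_instance
  refine ⟨hW₁, hW₂, hdis, hcomm, hcyc, fun X hX hXne => le_antisymm (fun g hg => ?_) ?_⟩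
  · obtain ⟨x, hx⟩ := hXne
    obtain ⟨hxW, hxU⟩ := hX hx
    have hy := (Subgroup.mem_set_normalizer_iff.1 hg x).1 hx
    obtain ⟨hyW, hyU⟩ := hX hy
    obtain ⟨a, ha, b, hb, hab⟩ := (CyclicTI.mem_sup_iff hcomm).1 hxW
    obtain ⟨a', ha', b', hb', hab'⟩ := (CyclicTI.mem_sup_iff hcomm).1 hyW
    have ha1 : a ≠ 1 := fun h => hxU (Or.inr (by rw [← hab, h, one_mul]; exact hb))
    have hq : ∀ c ∈ K, QuotientGroup.mk' K c = 1 := fun c hc => (QuotientGroup.eq_one_iff c).2 hc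
    have hW₁inj : ∀ c ∈ W₁, ∀ d ∈ W₁, QuotientGroup.mk' K c = QuotientGroup.mk' K d → c = d := by
      intro c hc d hd h
      have hm : c⁻¹ * d ∈ K ⊓ W₁ := ⟨QuotientGroup.eq.1 h, W₁.mul_mem (W₁.inv_mem hc) hd⟩
      rw [hKW₁, Subgroup.mem_bot] at hm
      exact inv_mul_eq_one.1 hm
    obtain ⟨m, hm, w, hw, rfl⟩ := Subgroup.mem_sup_of_normal_left.1
      (show g ∈ K ⊔ W₁ from hKW₁' ▸ Subgroup.mem_top g)
    have : IsMulCommutative W₁ := hW₁c.isMulCommutative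
    have hwa : w * a = a * w := congrArg Subtype.val (mul_comm' (⟨w, hw⟩ : W₁) ⟨a, ha⟩)
    have haa : a' = a := by
      refine hW₁inj a' ha' a ha ?_
      have h1 := congrArg (QuotientGroup.mk' K) hab'
      rw [map_mul, hq b' (hW₂K hb'), mul_one] at h1
      rw [h1, ← hab]
      simp only [map_mul, map_inv, hq m hm, hq b (hW₂K hb), one_mul, mul_one]
      rw [← map_mul, ← map_inv, ← map_mul, hwa, mul_inv_cancel_right]
    have hga : m * w * a * (m * w)⁻¹ = a := by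
      have h1 := hk a' ha' b' hb' (hcomm a' ha' b' hb')
      rw [hab', conj_pow, ← hab, hk a ha b hb (hcomm a ha b hb), haa] at h1
      exact h1
    have hma : m ∈ W₂ := by
      rw [← hC a ha ha1]
      refine ⟨hm, Subgroup.mem_centralizer_singleton_iff.2 ?_⟩
      have h1 : m * a * m⁻¹ = a := by
        rw [mul_inv_rev, mul_assoc m w a, hwa] at hga
        simpa [mul_assoc] using hga
      exact mul_inv_eq_iff_eq_mul.1 h1
    exact Subgroup.mul_mem _ (Subgroup.mem_sup_right hma) (Subgroup.mem_sup_left hw)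
  · intro w hw
    rw [Subgroup.mem_set_normalizer_iff]
    intro x
    have : IsMulCommutative ↥(W₁ ⊔ W₂) := hcyc.isMulCommutative
    have hfix : ∀ y ∈ X, w * y * w⁻¹ = y := fun y hy => by
      have h1 : w * y = y * w :=
        congrArg Subtype.val (mul_comm' (⟨w, hw⟩ : ↥(W₁ ⊔ W₂)) ⟨y, (hX hy).1⟩)
      rw [h1, mul_inv_cancel_right]
    refine ⟨fun hx => (hfix x hx).symm ▸ hx, fun hx => ?_⟩
    have h1 : w * x * w⁻¹ = x := mul_left_cancel (mul_right_cancel (hfix _ hx))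
    rwa [h1] at hx

end Cfsg.Agent.S1510
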