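import Cfsg.Statements.S1512
import Cfsg.Agent.Coprime.Basic

set_option autoImplicit false
open Cfsg
open scoped Pointwise

namespace Cfsg.Agent.S1512

/-- Let K be a normal subgroup of the finite group L and x a non-identity element whose order is coprime to the order of K, such that K ⊓ C_L(y) = W₂ for every non-identity element y of the cyclic group generated by x. Then the number of conjugacy classes of K mapped to themselves by conjugation by x is at most Nat.card W₂. -/
theorem result {L : Type*} [Group L] [Finite L] (K W₂ : Subgroup L) [hK : K.Normal] (x : L) (hx1 : x ≠ 1) (hx : Nat.Coprime (orderOf x) (Nat.card K)) (hC : ∀ y ∈ Subgroup.zpowers x, y ≠ 1 → K ⊓ Subgroup.centralizer ({y} : Set L) = W₂) : Nat.card {C : ConjClasses K // ConjClasses.map (MulEquiv.toMonoidHom ((MulAut.conjNormal x : MulAut K))) C = C} ≤ Nat.card W₂ := by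
  have hAK : Subgroup.zpowers x ≤ Subgroup.normalizer (K : Set L) :=
    Subgroup.le_normalizer_of_normal
  have hcop' : (Nat.card (Subgroup.zpowers x)).Coprime (Nat.card K) := by
    rwa [Nat.card_zpowers]
  have hW : K ⊓ Subgroup.centralizer ({x} : Set L) = W₂ := hC x (Subgroup.mem_zpowers x) hx1
  have hWK : W₂ ≤ K := hW ▸ inf_le_left
  have hfixW : ∀ w : W₂, ConjClasses.map (MulEquiv.toMonoidHom ((MulAut.conjNormal x : MulAut K)))
      (ConjClasses.mk (⟨w, hWK w.2⟩ : K)) = ConjClasses.mk (⟨w, hWK w.2⟩ : K) := by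
    intro w
    change ConjClasses.mk ((MulAut.conjNormal x : MulAut K) ⟨w, hWK w.2⟩) = _
    congr 1
    apply Subtype.ext
    rw [MulAut.conjNormal_apply]
    have := Subgroup.mem_centralizer_iff.mp (show (w : L) ∈ K ⊓ Subgroup.centralizer ({x} : Set L) by rw [hW]; exact w.2).2 x rfl
    rw [this, mul_inv_cancel_right]
  refine Nat.card_le_card_of_surjective (fun w : W₂ => ⟨_, hfixW w⟩) ?_
  rintro ⟨C, hCfix⟩
  induction C using Quotient.inductionOn with
  | _ k =>
  change ConjClasses.mk ((MulAut.conjNormal x : MulAut K) k) = ConjClasses.mk k at hCfix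
  obtain ⟨j, hj⟩ := isConj_iff.mp (ConjClasses.mk_eq_mk_iff_isConj.mp hCfix.symm)
  have hjx : (j : L) * k * (j : L)⁻¹ = x * k * x⁻¹ := by
    have := congrArg Subtype.val hj
    rw [MulAut.conjNormal_apply] at this
    simpa using this
  have hs : (j : L)⁻¹ * x ∈ Subgroup.centralizer ({(k : L)} : Set L) := by
    rw [Subgroup.mem_centralizer_iff]
    rintro _ rfl
    calc (k : L) * ((j : L)⁻¹ * x) = (j : L)⁻¹ * ((j : L) * k * (j : L)⁻¹) * x := by
          simp [mul_assoc]
      _ = (j : L)⁻¹ * x * k := by rw [hjx]; simp [mul_assoc]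
  have hKS : K ⊔ (Subgroup.centralizer ({(k : L)} : Set L) ⊓ (K ⊔ Subgroup.zpowers x)) =
      K ⊔ Subgroup.zpowers x := by
    refine le_antisymm (sup_le le_sup_left inf_le_right) (sup_le le_sup_left ?_)
    rw [Subgroup.zpowers_le]
    have := Subgroup.mul_mem_sup (T := Subgroup.centralizer ({(k : L)} : Set L) ⊓
      (K ⊔ Subgroup.zpowers x)) j.2 ⟨hs, (K ⊔ Subgroup.zpowers x).mul_mem
      (Subgroup.mem_sup_left (K.inv_mem j.2)) (Subgroup.mem_sup_right (Subgroup.mem_zpowers x))⟩
    rwa [mul_inv_cancel_left] at this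
  obtain ⟨B, hB, hBc⟩ := Cfsg.Agent.Coprime.exists_le_card_eq hAK hcop' hKS
  obtain ⟨i, hi, hiB⟩ := Cfsg.Agent.Coprime.exists_conj_eq hAK hcop'
    (Or.inl (Group.isSolvable_of_comm fun a b => IsMulCommutative.is_comm.comm a b))
    (hB.trans inf_le_right) hBc
  have hmemW : i * k * i⁻¹ ∈ W₂ := by
    rw [← hW]
    refine ⟨K.mul_mem (K.mul_mem hi k.2) (K.inv_mem hi), ?_⟩
    change i * k * i⁻¹ ∈ Subgroup.centralizer ({x} : Set L)
    rw [Subgroup.mem_centralizer_iff]
    intro y hy
    rw [Set.mem_singleton_iff] at hy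
    subst y
    have hx2 : x ∈ MulAut.conj i • B := hiB.symm ▸ Subgroup.mem_zpowers x
    rw [Cfsg.Agent.Coprime.mem_conj_smul] at hx2
    have := Subgroup.mem_centralizer_iff.mp (hB hx2).1 (k : L) rfl
    calc x * (i * k * i⁻¹) = i * ((i⁻¹ * x * i) * k) * i⁻¹ := by simp [mul_assoc]
      _ = i * (k * (i⁻¹ * x * i)) * i⁻¹ := by rw [this]
      _ = i * k * i⁻¹ * x := by simp [mul_assoc]
  refine ⟨⟨_, hmemW⟩, Subtype.ext ?_⟩
  apply ConjClasses.mk_eq_mk_iff_isConj.mpr
  rw [isConj_iff]
  refine ⟨(⟨i, hi⟩ : K)⁻¹, Subtype.ext ?_⟩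
  simp [mul_assoc]

end Cfsg.Agent.S1512
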