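import Cfsg.Statements.S0132
import Cfsg.Agent.Fusion.Frobenius
import Cfsg.Agent.Core.PCore
import Cfsg.Agent.OddLocal.Basic
import Mathlib.RingTheory.Coprime.Lemmas

set_option autoImplicit false
open Cfsg

namespace Cfsg.Agent.S0132

/-- A minimal non-p-nilpotent finite group is a minimal non-nilpotent group with a normal Sylow p-subgroup. -/
theorem result {G : Type*} [Group G] [Finite G] {p : ℕ} [Fact p.Prime] (h1 : ¬ Cfsg.HasNormalPComplement p G) (h2 : ∀ H : Subgroup G, H ≠ ⊤ → Cfsg.HasNormalPComplement p H) : (∀ H : Subgroup G, H ≠ ⊤ → Group.IsNilpotent H) ∧ ¬ Group.IsNilpotent G ∧ ∀ P : Sylow p G, (P : Subgroup G).Normal := by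
  classical
  have hp := (Fact.out : p.Prime)
  obtain ⟨Q, hQ, g₀, hg₀, hgc₀, hgn₀⟩ : ∃ Q : Subgroup G, IsPGroup p Q ∧ ∃ g ∈ Subgroup.normalizer (Q : Set G),
      (orderOf g).Coprime p ∧ g ∉ Subgroup.centralizer (Q : Set G) := by
    by_contra hcon
    push Not at hcon
    exact h1 (Fusion.hasNormalPComplement_of_frobenius hcon)
  -- a subgroup containing `Q` with an element acting non-trivially has no normal p-complement
  have key : ∀ H : Subgroup G, Q ≤ H → ∀ g ∈ H, g ∈ Subgroup.normalizer (Q : Set G) → (orderOf g).Coprime p →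
      g ∉ Subgroup.centralizer (Q : Set G) → H = ⊤ := by
    intro H hQH g hgH hg hgc hgn
    by_contra hne
    refine hgn (Subgroup.mem_centralizer_iff.2 fun x hx => ?_)
    have h3 := Fusion.mem_centralizer_of_hasNormalPComplement (h2 H hne) (Q := Q.subgroupOf H)
      (hQ.comap_of_injective H.subtype H.subtype_injective) (g := ⟨g, hgH⟩)
      (Subgroup.mem_normalizer_iff.2 fun y => Subgroup.mem_normalizer_iff.1 hg (y : G))
      (by rwa [Subgroup.orderOf_mk])
    exact congrArg Subtype.val (Subgroup.mem_centralizer_iff.1 h3 ⟨x, hQH hx⟩ hx)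
  have hNQ : Subgroup.normalizer (Q : Set G) = ⊤ := key _ Subgroup.le_normalizer g₀ hg₀ hg₀ hgc₀ hgn₀
  have hQn : Q.Normal := Subgroup.normalizer_eq_top_iff.1 hNQ
  -- such an element of least order has prime power order
  obtain ⟨g, ⟨hgc, hgn⟩, hmin⟩ := (Set.toFinite {g : G | (orderOf g).Coprime p ∧
    g ∉ Subgroup.centralizer (Q : Set G)}).exists_minimalFor (fun g => orderOf g) _ ⟨g₀, hgc₀, hgn₀⟩
  have hg1 : orderOf g ≠ 1 := fun h => hgn (by rw [orderOf_eq_one_iff] at h; rw [h]; exact one_mem _)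
  obtain ⟨q, hq, hqd⟩ := Nat.exists_prime_and_dvd hg1
  have hpow : ∀ r : ℕ, r.Prime → r ∣ orderOf g → g ^ r ∈ Subgroup.centralizer (Q : Set G) := by
    intro r hr hrd
    by_contra hn
    have h3 := hmin (j := g ^ r) ⟨hgc.coprime_dvd_left (orderOf_pow_dvd r), hn⟩ (by
      exact Nat.le_of_dvd (orderOf_pos g) (orderOf_pow_dvd r))
    simp only at h3
    rw [orderOf_pow' g hr.ne_zero, Nat.gcd_eq_right hrd] at h3
    exact absurd h3 (Nat.not_le.2 (Nat.div_lt_self (orderOf_pos g) hr.one_lt))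
  have honly : ∀ r : ℕ, r.Prime → r ∣ orderOf g → r = q := by
    intro r hr hrd
    by_contra hne
    obtain ⟨s, t, hst⟩ : IsCoprime (r : ℤ) (q : ℤ) :=
      Nat.isCoprime_iff_coprime.2 ((Nat.coprime_primes hr hq).2 hne)
    apply hgn
    have : g = (g ^ r) ^ s * (g ^ q) ^ t := by
      rw [← zpow_natCast g r, ← zpow_natCast g q, ← zpow_mul, ← zpow_mul, ← zpow_add,
        mul_comm (r : ℤ), mul_comm (q : ℤ), hst, zpow_one]
    rw [this]
    exact mul_mem (zpow_mem (hpow r hr hrd) s) (zpow_mem (hpow q hq hqd) t)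
  obtain ⟨k, hk⟩ : ∃ k, orderOf g = q ^ k :=
    ⟨_, Nat.eq_prime_pow_of_unique_prime_dvd (orderOf_pos g).ne' fun hr hrd => honly _ hr hrd⟩
  have hqp : q ≠ p := fun e => by
    have := Nat.Coprime.coprime_dvd_left hqd hgc
    rw [e, Nat.coprime_self] at this
    exact hp.ne_one this
  have hgN : g ∈ Subgroup.normalizer (Q : Set G) := hNQ ▸ Subgroup.mem_top g
  have htop : Q ⊔ Subgroup.zpowers g = ⊤ :=
    key _ le_sup_left g (Subgroup.mem_sup_right (Subgroup.mem_zpowers g)) hgN hgc hgn
  have hidx : Q.index ∣ q ^ k := by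
    rw [← hk, ← Nat.card_zpowers, Subgroup.index_eq_card]
    refine Subgroup.card_dvd_of_surjective ((QuotientGroup.mk' Q).comp (Subgroup.zpowers g).subtype) fun z => ?_
    obtain ⟨x, rfl⟩ := QuotientGroup.mk'_surjective Q z
    have hx : x ∈ Q ⊔ Subgroup.zpowers g := htop ▸ Subgroup.mem_top x
    rw [Subgroup.mem_sup_of_normal_left] at hx
    obtain ⟨a, ha, b, hb, rfl⟩ := hx
    refine ⟨⟨b, hb⟩, ?_⟩
    rw [MonoidHom.comp_apply, map_mul, show (QuotientGroup.mk' Q) a = 1 from (QuotientGroup.eq_one_iff a).2 ha,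
      one_mul]
    rfl
  have hQmax : ∀ P : Sylow p G, (P : Subgroup G) = Q := by
    intro P
    refine le_antisymm (fun x hx => ?_) ((Core.le_pCore hQ).trans (Core.pCore_le_sylow P))
    obtain ⟨j, hj⟩ := P.isPGroup' ⟨x, hx⟩
    have h1 : orderOf (QuotientGroup.mk' Q x) ∣ Nat.gcd (p ^ j) (q ^ k) := by
      refine Nat.dvd_gcd ?_ ((orderOf_dvd_natCard _).trans (by rw [← Subgroup.index_eq_card]; exact hidx))
      refine orderOf_dvd_of_pow_eq_one ?_
      rw [← map_pow, show x ^ p ^ j = 1 from congrArg Subtype.val hj, map_one]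
    rw [(Nat.Coprime.pow j k ((Nat.coprime_primes hp hq).2 (Ne.symm hqp))).gcd_eq_one, Nat.dvd_one,
      orderOf_eq_one_iff] at h1
    exact (QuotientGroup.eq_one_iff x).1 h1
  refine ⟨fun H hH => ?_, fun hnil => ?_, fun P => (hQmax P).symm ▸ hQn⟩
  · obtain ⟨K, hK, hKc, j, hKi⟩ := Fusion.hasNormalPComplement_iff_exists.1 (h2 H hH)
    refine ((Group.isNilpotent_of_finite_tfae (G := H)).out 0 3).mpr fun r hr R => ?_
    rcases eq_or_ne r p with rfl | hrp
    · have hR : (R : Subgroup H) = Q.subgroupOf H := by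
        refine (R.is_maximal' (hQ.comap_of_injective H.subtype H.subtype_injective) fun x hx => ?_).symm
        obtain ⟨P, hP⟩ := (R.isPGroup'.map H.subtype).exists_le_sylow
        exact Subgroup.mem_subgroupOf.2 (hQmax P ▸ hP ⟨x, hx, rfl⟩)
      rw [hR]
      infer_instance
    · have hle : (R : Subgroup H) ≤ K := by
        intro x hx
        obtain ⟨i, hi⟩ := R.isPGroup' ⟨x, hx⟩
        have h1 : orderOf (QuotientGroup.mk' K x) ∣ Nat.gcd (r ^ i) (p ^ j) := by
          refine Nat.dvd_gcd (orderOf_dvd_of_pow_eq_one ?_) ((orderOf_dvd_natCard _).trans (by rw [← Subgroup.index_eq_card, hKi]))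
          rw [← map_pow, show x ^ r ^ i = 1 from congrArg Subtype.val hi, map_one]
        rw [(Nat.Coprime.pow i j ((Nat.coprime_primes hr.out hp).2 hrp)).gcd_eq_one, Nat.dvd_one,
          orderOf_eq_one_iff] at h1
        exact (QuotientGroup.eq_one_iff x).1 h1
      have hKq : Nat.card K ∣ q ^ k := by
        refine Nat.dvd_trans ?_ hidx
        have h1 : Nat.card K ∣ Nat.card Q * Q.index := by
          rw [Subgroup.card_mul_index]
          exact (Subgroup.card_subgroup_dvd_card K).trans (Subgroup.card_subgroup_dvd_card H)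
        obtain ⟨m, hm⟩ := IsPGroup.iff_card.1 hQ
        rw [hm] at h1
        exact (hKc.pow_right m).dvd_of_dvd_mul_left h1
      rcases eq_or_ne r q with rfl | hrq
      · have hR : (R : Subgroup H) = K := by
          refine (R.is_maximal' ?_ hle).symm
          obtain ⟨m, -, hm⟩ := (Nat.dvd_prime_pow hq).1 hKq
          exact IsPGroup.of_card hm
        rw [hR]; exact hK
      · have hR : (R : Subgroup H) = ⊥ := by
          haveI := hr
          obtain ⟨m, hm⟩ := IsPGroup.iff_card.1 R.isPGroup'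
          refine Subgroup.eq_bot_of_card_eq _ (Nat.eq_one_of_dvd_coprimes ?_ dvd_rfl
            ((Subgroup.card_dvd_of_le hle).trans hKq))
          rw [hm]
          exact Nat.Coprime.pow m k ((Nat.coprime_primes hr.out hq).2 hrq)
        rw [hR]; infer_instance
  · have := hnil
    refine hgn (Subgroup.mem_centralizer_iff.2 fun x hx => ?_)
    obtain ⟨a, ha⟩ := hQ ⟨x, hx⟩
    exact (OddLocal.commute_of_coprime_orderOf hnil (Nat.Coprime.coprime_dvd_left
      (orderOf_dvd_of_pow_eq_one (congrArg Subtype.val ha)) (Nat.Coprime.pow_left a hgc.symm))).eq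

end Cfsg.Agent.S0132
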