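import Mathlib
import Cfsg.Statements.S3033
import Cfsg.Agent.Core.Huppert
import Cfsg.Agent.Core.MinimalNonNilpotent
import Cfsg.Agent.Core.MinimalNormal
import Cfsg.Agent.Fusion.Residual
import Cfsg.Agent.S0132
-- import your own Cfsg.Agent.* helpers here

set_option autoImplicit false
open Cfsg

namespace Cfsg.Agent.S3033

universe u

section Algebra

variable {q : ℕ} [Fact q.Prime] {W : Type*} [AddCommGroup W] [Module (ZMod q) W]

theorem eig_dec {A : Module.End (ZMod q) W} {l : ZMod q} (hl : l ≠ 1)
    (h : ∀ v, A (A v - l • v) = A v - l • v) (v : W) :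
    ∃ u w, A u = u ∧ A w = l • w ∧ v = u + w := by
  have h1 : (1 - l) ≠ 0 := sub_ne_zero.2 hl.symm
  refine ⟨(1 - l)⁻¹ • (A v - l • v), v - (1 - l)⁻¹ • (A v - l • v), ?_, ?_, by abel⟩
  · rw [map_smul, h]
  · have hu : (1 - l) • ((1 - l)⁻¹ • (A v - l • v)) = A v - l • v := by
      rw [smul_smul, mul_inv_cancel₀ h1, one_smul]
    generalize hgen : (1 - l)⁻¹ • (A v - l • v) = u at hu
    have hAu : A u = u := by rw [← hgen, map_smul, h]
    rw [map_sub, hAu, ← sub_eq_zero]
    calc A v - u - l • (v - u) = (A v - l • v) - (1 - l) • u := by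
          rw [sub_smul, one_smul, smul_sub]; abel
      _ = 0 := by rw [hu, sub_self]

theorem end_ext_eig {A B C : Module.End (ZMod q) W} {l : ZMod q} (hl : l ≠ 1)
    (h : ∀ v, A (A v - l • v) = A v - l • v) (h1 : ∀ u, A u = u → B u = C u)
    (h2 : ∀ w, A w = l • w → B w = C w) : B = C := by
  refine LinearMap.ext fun v => ?_
  obtain ⟨u, w, hu, hw, rfl⟩ := eig_dec hl h v
  rw [map_add, map_add, h1 u hu, h2 w hw]

/-- A supersolvable group acting irreducibly and faithfully over a prime field, with every element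
of prime power order prime to the characteristic having at most the two eigenvalues `1, l`,
acts by scalars. -/
theorem scalar_of_two_eig {M : Type*} [Group M] [Finite M] (hM : Cfsg.IsSupersolvable M)
    (T : M →* Module.End (ZMod q) W) (hinj : Function.Injective T)
    (hirr : ∀ U : Submodule (ZMod q) W, (∀ x, ∀ u ∈ U, T x u ∈ U) → U = ⊥ ∨ U = ⊤)
    (hE : ∀ (p : ℕ), p.Prime → p ≠ q → ∀ x : M, (∃ k, orderOf x = p ^ k) → T x ≠ 1 →
      ∃ l : ZMod q, l ≠ 1 ∧ ∀ v, T x (T x v - l • v) = T x v - l • v) :
    ∀ x : M, ∃ c : ZMod q, ∀ v, T x v = c • v := by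
  classical
  have hq : q.Prime := Fact.out
  rcases subsingleton_or_nontrivial W with hW | hW
  · exact fun x => ⟨1, fun v => Subsingleton.elim _ _⟩
  have hTi : ∀ (x : M) (v : W), T x⁻¹ (T x v) = v := fun x v => by
    rw [← Module.End.mul_apply, ← map_mul, inv_mul_cancel, map_one, Module.End.one_apply]
  let Z : Subgroup M :=
    { carrier := {x | ∃ c : ZMod q, ∀ v, T x v = c • v}
      one_mem' := ⟨1, fun v => by rw [map_one, Module.End.one_apply, one_smul]⟩
      mul_mem' := by
        rintro x y ⟨a, ha⟩ ⟨b, hb⟩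
        exact ⟨a * b, fun v => by rw [map_mul, Module.End.mul_apply, hb, map_smul, ha, smul_smul, mul_comm]⟩
      inv_mem' := by
        rintro x ⟨a, ha⟩
        have h0 : a ≠ 0 := fun h => by
          obtain ⟨v, hv⟩ := exists_ne (0 : W)
          have := hTi x v
          rw [ha, h, zero_smul, map_zero] at this
          exact hv this.symm
        refine ⟨a⁻¹, fun v => ?_⟩
        conv_rhs => rw [← hTi x v, ha, map_smul, smul_smul, inv_mul_cancel₀ h0, one_smul] }
  have hZn : Z.Normal := ⟨fun x hx h => by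
    obtain ⟨a, ha⟩ := hx
    refine ⟨a, fun v => ?_⟩
    rw [map_mul, map_mul, Module.End.mul_apply, Module.End.mul_apply, ha, map_smul]
    conv_lhs => rw [← inv_inv h, inv_inv, show T h (T h⁻¹ v) = v by
      rw [← Module.End.mul_apply, ← map_mul, mul_inv_cancel, map_one, Module.End.one_apply]]⟩
  suffices hZ : Z = ⊤ by
    intro x
    exact (hZ ▸ Subgroup.mem_top x : x ∈ Z)
  by_contra hZ
  have : Nontrivial (M ⧸ Z) := QuotientGroup.nontrivial_iff.2 hZ
  obtain ⟨N, hN, hr⟩ := Core.exists_prime_normal_of_isSupersolvable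
    (Core.isSupersolvable_of_surjective (QuotientGroup.mk'_surjective Z) hM)
  set r := Nat.card N with hrdef
  have hr' := Fact.mk hr
  obtain ⟨n0, hn0, hn1⟩ := (Subgroup.bot_or_exists_ne_one N).resolve_left
    (Core.ne_bot_of_card_prime hr)
  obtain ⟨a0, rfl⟩ := QuotientGroup.mk'_surjective Z n0
  set m := orderOf a0 / r ^ (orderOf a0).factorization r with hm
  set a := a0 ^ m with ha
  have hab : (QuotientGroup.mk' Z a) ∈ N := by rw [ha, map_pow]; exact pow_mem hn0 _
  have hordN : orderOf (QuotientGroup.mk' Z a0) = r := by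
    refine orderOf_eq_prime ?_ hn1
    have := pow_card_eq_one' (x := (⟨_, hn0⟩ : N))
    exact congrArg Subtype.val this
  have haZ : a ∉ Z := fun hz => by
    have h1 : (QuotientGroup.mk' Z a0) ^ m = 1 := by
      rw [← map_pow, QuotientGroup.mk'_apply, QuotientGroup.eq_one_iff]
      exact hz
    rw [← orderOf_dvd_iff_pow_eq_one, hordN] at h1
    exact Nat.not_dvd_ordCompl hr (orderOf_pos a0).ne' h1
  have hak : ∃ k, orderOf a = r ^ k := by
    refine ⟨(orderOf a0).factorization r, ?_⟩
    rw [ha, orderOf_pow_of_dvd (Nat.div_pos (Nat.le_of_dvd (orderOf_pos a0) (Nat.ordProj_dvd _ _))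
      (pow_pos hr.pos _)).ne' (Nat.ordCompl_dvd _ _),
      Nat.div_div_self (Nat.ordProj_dvd _ _) (orderOf_pos a0).ne']
  have har : a ^ r ∈ Z := by
    rw [← QuotientGroup.eq_one_iff, QuotientGroup.mk_pow]
    have h1 : (QuotientGroup.mk' Z a0) ^ r = 1 := by rw [← hordN]; exact pow_orderOf_eq_one _
    have h2 : ((a0 ^ m : M) : M ⧸ Z) ^ r = ((QuotientGroup.mk' Z a0) ^ r) ^ m := by
      rw [QuotientGroup.mk'_apply, QuotientGroup.mk_pow, ← pow_mul, ← pow_mul, mul_comm]
    rw [ha, h2, h1, one_pow]
  have hconj : ∀ h : M, ∃ (j : ℕ) (μ : ZMod q), ∀ v,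
      T h (T a (T h⁻¹ v)) = μ • (T a ^ j) v := by
    intro h
    have h1 : QuotientGroup.mk' Z (h * a * h⁻¹) ∈ Subgroup.zpowers (QuotientGroup.mk' Z a) := by
      have hne : (⟨_, hab⟩ : N) ≠ 1 := fun e => haZ ((QuotientGroup.eq_one_iff a).1 (congrArg Subtype.val e))
      have hc : QuotientGroup.mk' Z (h * a * h⁻¹) ∈ N := by
        rw [map_mul, map_mul, map_inv]; exact hN.conj_mem _ hab _
      have htop := zpowers_eq_top_of_prime_card (G := N) rfl hne
      have : (⟨_, hc⟩ : N) ∈ Subgroup.zpowers (⟨_, hab⟩ : N) := htop ▸ Subgroup.mem_top _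
      obtain ⟨i, hi⟩ := this
      exact ⟨i, by simpa using congrArg Subtype.val hi⟩
    rw [← mem_powers_iff_mem_zpowers] at h1
    obtain ⟨j, hj⟩ := h1
    have h2 : (a ^ j)⁻¹ * (h * a * h⁻¹) ∈ Z := by
      rw [← QuotientGroup.eq]
      simpa using hj
    obtain ⟨μ, hμ⟩ := h2
    refine ⟨j, μ, fun v => ?_⟩
    have h3 : h * a * h⁻¹ = a ^ j * ((a ^ j)⁻¹ * (h * a * h⁻¹)) := by rw [mul_inv_cancel_left]
    rw [← Module.End.mul_apply, ← Module.End.mul_apply, ← map_mul, ← map_mul, h3, map_mul,
      Module.End.mul_apply, hμ, map_pow, map_smul]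
  have hA1 : T a ≠ 1 := fun h => haZ ⟨1, fun v => by rw [h, Module.End.one_apply, one_smul]⟩
  have hinv : ∀ (h : M) (v : W), T h⁻¹ (T h v) = v := hTi
  have hinv' : ∀ (h : M) (v : W), T h (T h⁻¹ v) = v := fun h v => by
    simpa using hTi h⁻¹ v
  -- the fixed space of a normal set-up is trivial
  have hirrA : ∀ B : Module.End (ZMod q) W, B ≠ 1 → (∀ h v, B v = v → B (T h v) = T h v) →
      ∀ v, B v = v → v = 0 := by
    intro B hB hst v hv
    rcases hirr (LinearMap.ker (B - 1)) (fun x u hu => by
      simp only [LinearMap.mem_ker, LinearMap.sub_apply, Module.End.one_apply, sub_eq_zero] at hu ⊢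
      exact hst x u hu) with h | h
    · have : v ∈ LinearMap.ker (B - 1) := by
        simp [LinearMap.mem_ker, hv]
      rw [h] at this
      simpa using this
    · refine absurd (LinearMap.ext fun w => ?_) hB
      have : w ∈ LinearMap.ker (B - 1) := h ▸ Submodule.mem_top
      simpa [sub_eq_zero] using this
  have hrq : r ≠ q := by
    intro hrq
    obtain ⟨k, hk⟩ : ∃ k, orderOf a = q ^ k := by simpa only [hrq] using hak
    obtain ⟨c, hc⟩ : a ^ q ∈ Z := by simpa only [hrq] using har
    obtain ⟨v0, hv0⟩ := exists_ne (0 : W)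
    have hpow : ∀ (n : ℕ) v, T ((a ^ q) ^ n) v = c ^ n • v := by
      intro n v
      induction n with
      | zero => simp
      | succ n ih => rw [pow_succ, map_mul, Module.End.mul_apply, hc, map_smul, ih, smul_smul,
          pow_succ, mul_comm]
    have hc1 : c = 1 := by
      have h1 : ∀ v, T ((a ^ q) ^ (q ^ k)) v = v := fun v => by
        rw [← pow_mul, mul_comm, pow_mul, ← hk, pow_orderOf_eq_one, one_pow, map_one,
          Module.End.one_apply]
      have h2 := (hpow (q ^ k) v0).symm.trans (h1 v0)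
      rw [ZMod.pow_card_pow] at h2
      by_contra hne
      have h3 : (c - 1) • v0 = 0 := by rw [sub_smul, one_smul, h2, sub_self]
      rcases smul_eq_zero.1 h3 with h | h
      · exact hne (sub_eq_zero.1 h)
      · exact hv0 h
    have haq : T a ^ q = 1 := LinearMap.ext fun v => by
      rw [← map_pow, hc, hc1, one_smul, Module.End.one_apply]
    have hne : Nontrivial (Module.End (ZMod q) W) :=
      ⟨⟨T a, 1, hA1⟩⟩
    have : CharP (Module.End (ZMod q) W) q :=
      charP_of_injective_algebraMap (algebraMap (ZMod q) (Module.End (ZMod q) W)).injective q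
    have hnil : (T a - 1) ^ q = 0 := by
      rw [sub_pow_char_of_commute q (Commute.one_right (T a)), haq, one_pow, sub_self]
    obtain ⟨v, hv, hv'⟩ : ∃ v : W, v ≠ 0 ∧ T a v = v := by
      have hP : ∀ n : ℕ, ∀ w : W, w ≠ 0 → ((T a - 1) ^ n) w = 0 → ∃ v : W, v ≠ 0 ∧ T a v = v := by
        intro n
        induction n with
        | zero => intro w hw h; exact absurd (by simpa using h) hw
        | succ n ih =>
          intro w hw h
          by_cases h0 : (T a - 1) w = 0
          · exact ⟨w, hw, by simpa [sub_eq_zero] using h0⟩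
          · exact ih _ h0 (by rwa [pow_succ, Module.End.mul_apply] at h)
      exact hP q v0 hv0 (by rw [hnil]; rfl)
    refine hv (hirrA (T a) hA1 (fun h w hw => ?_) v hv')
    obtain ⟨j, μ, hμ⟩ := hconj h⁻¹
    have hAj : ∀ n : ℕ, (T a ^ n) w = w := fun n => by
      induction n with
      | zero => simp
      | succ n ih => rw [pow_succ, Module.End.mul_apply, hw, ih]
    have h4 : T h⁻¹ (T a (T h w)) = μ • w := by
      have := hμ w
      rw [inv_inv, hAj] at this
      exact this
    have h5 : T a (T h w) = μ • T h w := by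
      rw [← hinv' h (T a (T h w)), h4, map_smul]
    have h6 : ∀ n : ℕ, (T a ^ n) (T h w) = μ ^ n • T h w := fun n => by
      induction n with
      | zero => simp
      | succ n ih => rw [pow_succ, Module.End.mul_apply, h5, map_smul, ih, smul_smul, pow_succ, mul_comm]
    have h7 := h6 q
    rw [haq, Module.End.one_apply, ZMod.pow_card, ← h5] at h7
    exact h7.symm
  obtain ⟨l, hl, hA⟩ := hE r hr hrq a hak hA1
  obtain ⟨e1, he1, he1'⟩ : ∃ v : W, v ≠ 0 ∧ T a v = v := by
    by_contra hcon
    push Not at hcon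
    refine haZ ⟨l, fun v => ?_⟩
    by_contra hne
    exact hcon _ (sub_ne_zero.2 hne) (hA v)
  obtain ⟨el, hel, hel'⟩ : ∃ v : W, v ≠ 0 ∧ T a v = l • v := by
    by_contra hcon
    push Not at hcon
    refine hA1 (end_ext_eig hl hA (fun u hu => by rw [hu, Module.End.one_apply]) fun w hw => ?_)
    have : w = 0 := by
      by_contra h
      exact hcon w h hw
    simp [this]
  have hAu : ∀ (n : ℕ) (c : ZMod q) (u : W), T a u = c • u → (T a ^ n) u = c ^ n • u := fun n c u hu => by
    induction n with
    | zero => simp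
    | succ n ih => rw [pow_succ, Module.End.mul_apply, hu, map_smul, ih, smul_smul, pow_succ, mul_comm]
  have har1 : a ^ r = 1 ∧ l ^ r = 1 := by
    obtain ⟨c, hc⟩ := har
    have h1 := hAu r 1 e1 (by rw [one_smul]; exact he1')
    rw [← map_pow, hc, one_pow, one_smul] at h1
    have hc1 : c = 1 := by
      have h3 : (c - 1) • e1 = 0 := by rw [sub_smul, one_smul, h1, sub_self]
      exact sub_eq_zero.1 ((smul_eq_zero.1 h3).resolve_right he1)
    refine ⟨hinj (LinearMap.ext fun v => by rw [hc, hc1, one_smul, map_one, Module.End.one_apply]), ?_⟩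
    have h2 := hAu r l el hel'
    rw [← map_pow, hc, hc1, one_smul] at h2
    have h3 : (l ^ r - 1) • el = 0 := by rw [sub_smul, one_smul, ← h2, sub_self]
    exact sub_eq_zero.1 ((smul_eq_zero.1 h3).resolve_right hel)
  -- some element of prime power order does not centralize `a`
  obtain ⟨p, hp, h, ⟨kh, hkh⟩, hha⟩ : ∃ p : ℕ, p.Prime ∧ ∃ h : M, (∃ k, orderOf h = p ^ k) ∧
      h * a ≠ a * h := by
    by_contra hcon
    push Not at hcon
    have hC : Subgroup.centralizer ({a} : Set M) = ⊤ := by
      refine Core.eq_top_of_forall_sylow fun p hp _ => ?_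
      have := Fact.mk hp
      obtain ⟨P⟩ := (inferInstance : Nonempty (Sylow p M))
      refine ⟨P, fun x hx => Subgroup.mem_centralizer_singleton_iff.2 ?_⟩
      obtain ⟨k, hk⟩ := (IsPGroup.iff_orderOf.1 P.2) ⟨x, hx⟩
      exact hcon p hp x ⟨k, by rwa [Subgroup.orderOf_mk] at hk⟩
    refine he1 (hirrA (T a) hA1 (fun h w hw => ?_) e1 he1')
    have : h * a = a * h := Subgroup.mem_centralizer_singleton_iff.1 (hC ▸ Subgroup.mem_top h)
    rw [← Module.End.mul_apply, ← map_mul, ← this, map_mul, Module.End.mul_apply, hw]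
  obtain ⟨j, μ, hμ⟩ := hconj h
  have hBu : ∀ (c : ZMod q) (u : W), T a u = c • u → T h (T a (T h⁻¹ u)) = (μ * c ^ j) • u :=
    fun c u hu => by rw [hμ, hAu j c u hu, smul_smul]
  have key : ∀ (k : ZMod q) (v : W), v ≠ 0 → T h (T a (T h⁻¹ v)) = k • v →
      k = μ ∨ k = μ * l ^ j := by
    intro k v hv hk
    obtain ⟨u, w, hu, hw, rfl⟩ := eig_dec hl hA v
    have hu' := hBu 1 u (by rw [one_smul]; exact hu)
    have hw' := hBu l w hw
    simp only [map_add, hu', hw', smul_add, one_pow, mul_one] at hk
    have h1 : (μ - k) • u + (μ * l ^ j - k) • w = 0 := by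
      rw [sub_smul, sub_smul, sub_add_sub_comm, hk, sub_self]
    have h2 : ((μ * l ^ j - k) * (l - 1)) • w = 0 := by
      have := congrArg (fun z => T a z - z) h1
      simp only [map_add, map_smul, hu, hw, map_zero, sub_zero] at this
      rw [← this, mul_smul, sub_smul (M := W) l 1, one_smul, smul_sub]
      abel
    by_cases hw0 : w = 0
    · subst hw0
      simp only [smul_zero, add_zero] at h1 hv
      exact Or.inl (sub_eq_zero.1 ((smul_eq_zero.1 h1).resolve_right hv)).symm
    · rcases mul_eq_zero.1 ((smul_eq_zero.1 h2).resolve_right hw0) with h3 | h3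
      · exact Or.inr (sub_eq_zero.1 h3).symm
      · exact absurd (sub_eq_zero.1 h3) hl
  have hThne : ∀ v : W, v ≠ 0 → T h v ≠ 0 := fun v hv e => hv (by rw [← hTi h v, e, map_zero])
  have k1 := key 1 (T h e1) (hThne _ he1) (by rw [hinv h e1, he1', one_smul])
  have kl := key l (T h el) (hThne _ hel) (by rw [hinv h el, hel', map_smul])
  have hμl : μ = l ∧ μ * l ^ j = 1 := by
    rcases k1 with h1 | h1 <;> rcases kl with h2 | h2
    · exact absurd (h2.trans h1.symm) hl
    · exfalso
      have hBA : T h * T a * T h⁻¹ = T a := end_ext_eig hl hA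
        (fun u hu => by
          rw [Module.End.mul_apply, Module.End.mul_apply, hBu 1 u (by rw [one_smul]; exact hu),
            one_pow, mul_one, ← h1, one_smul, hu])
        (fun w hw => by rw [Module.End.mul_apply, Module.End.mul_apply, hBu l w hw, ← h2, hw])
      rw [← map_mul, ← map_mul] at hBA
      have := hinj hBA
      exact hha (by rw [mul_inv_eq_iff_eq_mul] at this; exact this)
    · exact ⟨h2.symm, h1.symm⟩
    · exact absurd (h2.trans h1.symm) hl
  have hz : ∀ v, T (h * a * h⁻¹ * a) v = l • v := by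
    intro v
    obtain ⟨u, w, hu, hw, rfl⟩ := eig_dec hl hA v
    simp only [map_mul, Module.End.mul_apply, map_add, hu, hw, map_smul,
      hBu 1 u (by rw [one_smul]; exact hu), hBu l w hw, one_pow, mul_one, smul_add]
    rw [hμl.2, one_smul, hμl.1]
  set b := a * (h * a * h⁻¹ * a) with hb
  have hTb : ∀ v, T b v = l • T a v := fun v => by
    rw [hb, map_mul, Module.End.mul_apply, hz, map_smul]
  have hTbn : ∀ (n : ℕ) v, T (b ^ n) v = l ^ n • (T a ^ n) v := fun n v => by
    induction n generalizing v with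
    | zero => simp
    | succ n ih => rw [pow_succ, map_mul, Module.End.mul_apply, hTb, map_smul, ih, smul_smul,
        pow_succ (T a), Module.End.mul_apply, pow_succ, mul_comm]
  have hbr : b ^ r = 1 := hinj (LinearMap.ext fun v => by
    rw [hTbn, har1.2, ← map_pow, har1.1, one_smul])
  have hbord : ∃ k, orderOf b = r ^ k := by
    obtain ⟨k, -, hk⟩ := (Nat.dvd_prime_pow hr).1 (show orderOf b ∣ r ^ 1 by
      rw [pow_one]; exact orderOf_dvd_of_pow_eq_one hbr)
    exact ⟨k, hk⟩
  have hb1 : T b ≠ 1 := fun e => by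
    have h1 := hTb e1
    rw [e, Module.End.one_apply, he1'] at h1
    have : (l - 1) • e1 = 0 := by rw [sub_smul, one_smul, ← h1, sub_self]
    exact hl (sub_eq_zero.1 ((smul_eq_zero.1 this).resolve_right he1))
  obtain ⟨m2, hm2, hB⟩ := hE r hr hrq b hbord hb1
  have hB' : ∀ (c : ZMod q) (u : W), u ≠ 0 → T b u = c • u → (c - 1) * (c - m2) = 0 := by
    intro c u hu hc
    have h1 := hB u
    rw [hc, ← sub_smul, map_smul, hc, smul_smul] at h1
    have h2 : ((c - m2) * c - (c - m2)) • u = 0 := by rw [sub_smul, h1, sub_self]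
    have := (smul_eq_zero.1 h2).resolve_right hu
    linear_combination this
  have hm2l : m2 = l := by
    have := hB' l e1 he1 (by rw [hTb, he1'])
    rcases mul_eq_zero.1 this with h | h
    · exact absurd (sub_eq_zero.1 h) hl
    · exact (sub_eq_zero.1 h).symm
  have hl2 : l * l = 1 := by
    have := hB' (l * l) el hel (by rw [hTb, hel', smul_smul])
    rw [hm2l] at this
    rcases mul_eq_zero.1 this with h | h
    · exact sub_eq_zero.1 h
    · have hl0 : l ≠ 0 := fun h0 => by
        have := har1.2
        rw [h0, zero_pow hr.ne_zero] at this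
        exact zero_ne_one this
      exact absurd ((mul_eq_left₀ hl0).1 (sub_eq_zero.1 h)) hl
  have hlneg : l = -1 := (mul_self_eq_one_iff.1 hl2).resolve_left hl
  have hr2 : r = 2 := by
    have h1 : orderOf l = r := orderOf_eq_prime har1.2 hl
    have h2 : orderOf l ∣ 2 := orderOf_dvd_of_pow_eq_one (by rw [pow_two, hl2])
    exact ((Nat.prime_dvd_prime_iff_eq hr Nat.prime_two).1 (h1 ▸ h2))
  have h2ne : (2 : ZMod q) ≠ 0 := fun h2 => hl (by rw [hlneg]; linear_combination -h2)
  -- `h` anticommutes with `a`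
  have hanti : ∀ g : M, g * a * g⁻¹ * a = h * a * h⁻¹ * a → ∀ v, T g (T a v) = - T a (T g v) := by
    intro g hg v
    have h1 : ∀ w, T g (T a (T g⁻¹ (T a w))) = - w := fun w => by
      rw [← Module.End.mul_apply, ← Module.End.mul_apply, ← Module.End.mul_apply, ← map_mul,
        ← map_mul, ← map_mul, hg, hz, hlneg, neg_smul, one_smul]
    have haa : a * a = 1 := by rw [← pow_two, ← hr2]; exact har1.1
    have h3 : T a (T a (T g v)) = T g v := by
      rw [← Module.End.mul_apply, ← map_mul, haa, map_one, Module.End.one_apply]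
    have := h1 (T a (T g v))
    rwa [h3, hTi] at this
  -- prime power elements anticommuting with `a` are involutions
  have hinvol : ∀ g : M, (∃ (p : ℕ) (k : ℕ), p.Prime ∧ orderOf g = p ^ k) →
      (∀ v, T g (T a v) = - T a (T g v)) → ∀ v, T g (T g v) = v := by
    rintro g ⟨p, k, hp, hk⟩ hga
    have hodd : ¬ Odd (orderOf g) := by
      intro ho
      obtain ⟨t, ht⟩ := ho
      have hcm : ∀ (n : ℕ) v, T (g ^ n) (T a v) = (-1 : ZMod q) ^ n • T a (T (g ^ n) v) := fun n v => by
        induction n generalizing v with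
        | zero => simp
        | succ n ih =>
          simp only [pow_succ, map_mul, Module.End.mul_apply]
          rw [hga, map_neg, ih]
          simp
      have h1 := hcm (orderOf g) e1
      rw [pow_orderOf_eq_one, map_one, Module.End.one_apply, Module.End.one_apply, he1', ht,
        pow_succ, pow_mul, neg_one_sq, one_pow, one_mul, neg_smul, one_smul] at h1
      have : (2 : ZMod q) • e1 = 0 := by rw [two_smul]; exact eq_neg_iff_add_eq_zero.1 h1
      exact he1 ((smul_eq_zero.1 this).resolve_left h2ne)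
    have hp2 : p = 2 := by
      by_contra hne
      exact hodd (hk ▸ (hp.odd_of_ne_two hne).pow)
    have hpq : p ≠ q := by rw [hp2, ← hr2]; exact hrq
    have hg1 : T g ≠ 1 := fun e => hodd (by
      rw [hinj (e.trans (map_one T).symm), orderOf_one]; exact odd_one)
    obtain ⟨m, -, hG⟩ := hE p hp hpq g ⟨k, hk⟩ hg1
    intro v
    have h1 : ∀ w, T g (T g w) - (1 + m) • T g w + m • w = 0 := fun w => by
      have := hG w
      rw [map_sub, map_smul] at this
      rw [add_smul, one_smul]
      calc T g (T g w) - (T g w + m • T g w) + m • w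
          = (T g (T g w) - m • T g w) - (T g w - m • w) := by abel
        _ = 0 := by rw [this, sub_self]
    have h2 := congrArg (T a) (h1 v)
    have hag : ∀ w, T a (T g w) = - T g (T a w) := fun w => by rw [hga, neg_neg]
    rw [map_zero, map_add, map_sub, map_smul, map_smul, hag, hag, map_neg, neg_neg] at h2
    have h3 := h1 (T a v)
    have h4 : ((2 : ZMod q) * (1 + m)) • T g (T a v) = 0 := by
      calc ((2 : ZMod q) * (1 + m)) • T g (T a v)
          = (T g (T g (T a v)) - (1 + m) • -T g (T a v) + m • T a v) -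
            (T g (T g (T a v)) - (1 + m) • T g (T a v) + m • T a v) := by
              rw [smul_neg, mul_smul, two_smul]; abel
        _ = 0 := by rw [h2, h3, sub_self]
    by_cases hm1 : 1 + m = 0
    · have := h1 v
      rw [hm1, zero_smul, sub_zero, show m = -1 from by linear_combination hm1, neg_smul,
        one_smul, add_neg_eq_zero] at this
      exact this
    · have h5 : T g (T a v) = 0 := (smul_eq_zero.1 h4).resolve_left (mul_ne_zero h2ne hm1)
      have : T a v = 0 := by rw [← hTi g (T a v), h5, map_zero]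
      have : v = 0 := by rw [← hTi a v, this, map_zero]
      simp [this]
  have hH := hinvol h ⟨p, kh, hp, hkh⟩ (hanti h rfl)
  have hanti2 := hanti (h * a) (by group)
  have hsq : ∀ v, T (h * a) (T (h * a) v) = -v := fun v => by
    have haa : a * a = 1 := by rw [← pow_two, ← hr2]; exact har1.1
    have h3 : T a (T a v) = v := by
      rw [← Module.End.mul_apply, ← map_mul, haa, map_one, Module.End.one_apply]
    simp only [map_mul, Module.End.mul_apply]
    have := hanti h rfl (T h (T a v))
    rw [this, hH, h3]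
  have h4 : (h * a) ^ 4 = 1 := hinj (LinearMap.ext fun v => by
    rw [show (4 : ℕ) = 1 + 1 + 1 + 1 by rfl, pow_succ, pow_succ, pow_succ, pow_one]
    simp only [map_mul, Module.End.mul_apply, map_one, Module.End.one_apply]
    have h5 := hsq v
    simp only [map_mul, Module.End.mul_apply] at h5
    have h6 := hsq (-v)
    simp only [map_mul, Module.End.mul_apply, neg_neg] at h6
    rw [h5]
    exact h6)
  obtain ⟨k4, -, hk4⟩ := (Nat.dvd_prime_pow Nat.prime_two).1
    (show orderOf (h * a) ∣ 2 ^ 2 from orderOf_dvd_of_pow_eq_one h4)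
  have hH2 := hinvol (h * a) ⟨2, k4, Nat.prime_two, hk4⟩ hanti2
  have := hH2 e1
  rw [hsq] at this
  have : (2 : ZMod q) • e1 = 0 := by
    rw [two_smul]; exact eq_neg_iff_add_eq_zero.1 this.symm
  exact he1 ((smul_eq_zero.1 this).resolve_left h2ne)

end Algebra

theorem hasNormalPComplement_of_isSupersolvable (n : ℕ) : ∀ (G : Type u) [Group G] [Finite G],
    Nat.card G = n → Cfsg.IsSupersolvable G → ∀ (p : ℕ) [Fact p.Prime],
    (∀ q : ℕ, q.Prime → q ∣ Nat.card G → p ≤ q) → Cfsg.HasNormalPComplement p G := by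
  induction n using Nat.strong_induction_on with
  | _ n ih =>
  intro G _ _ hn hss p _ hmin
  have hp : p.Prime := Fact.out
  rcases subsingleton_or_nontrivial G with hs | hs
  · exact Fusion.hasNormalPComplement_of_coprime (by rw [Nat.card_of_subsingleton (1 : G)]; exact Nat.coprime_one_left p)
  obtain ⟨N, hN, hNp⟩ := Core.exists_prime_normal_of_isSupersolvable hss
  have hQ := ih _ (hn ▸ Core.card_quotient_lt (Core.ne_bot_of_card_prime hNp)) (G ⧸ N) rfl
    (Core.isSupersolvable_of_surjective (QuotientGroup.mk'_surjective N) hss) p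
    (fun q hq hd => hmin q hq (hd.trans (Subgroup.card_quotient_dvd_card N)))
  by_cases hcop : (Nat.card N).Coprime p
  · exact Fusion.hasNormalPComplement_of_quotient N hcop hQ
  have hNc : Nat.card N = p := by
    by_contra hne
    exact hcop ((Nat.coprime_primes hNp hp).2 hne)
  -- the normal subgroup of order `p` is central
  have hcen : ∀ g : G, ∀ y ∈ N, g * y = y * g := by
    intro g y hy
    let f : G →* MulAut N := MulAut.conjNormal
    have hN' := Fact.mk hNp
    have : IsCyclic N := Core.isCyclic_of_card_prime hNp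
    have hfr : Nat.card f.range ∣ Nat.card G := Subgroup.card_range_dvd f
    have hfa : Nat.card f.range ∣ p - 1 := by
      have := (Subgroup.card_subgroup_dvd_card f.range)
      rwa [IsCyclic.card_mulAut, hNc, Nat.totient_prime hp] at this
    have h1 : Nat.card f.range = 1 := by
      by_contra hne
      obtain ⟨s, hs, hsd⟩ := Nat.exists_prime_and_dvd hne
      have h3 := hmin s hs (hsd.trans hfr)
      have h4 := Nat.le_of_dvd (by have := hp.two_le; omega) (hsd.trans hfa)
      have := hp.two_le
      omega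
    have h2 : f g = 1 := by
      have : f g ∈ f.range := ⟨g, rfl⟩
      rwa [Subgroup.card_eq_one.1 h1, Subgroup.mem_bot] at this
    have := congrArg (fun z : MulAut N => ((z ⟨y, hy⟩ : N) : G)) h2
    simp only [f, MulAut.conjNormal_apply, MulAut.one_apply] at this
    exact mul_inv_eq_iff_eq_mul.1 this
  set M := (Cfsg.pResidual p (G ⧸ N)).comap (QuotientGroup.mk' N) with hM
  have hNM : N ≤ M := fun x hx => by
    rw [hM, Subgroup.mem_comap, QuotientGroup.mk'_apply, (QuotientGroup.eq_one_iff x).2 hx]
    exact one_mem _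
  have hMc : Nat.card M = Nat.card N * Nat.card (Cfsg.pResidual p (G ⧸ N)) := Core.card_comap_mk N _
  have hrc := Fusion.coprime_card_pResidual_of_hasNormalPComplement hQ
  have hidx : (N.subgroupOf M).index = Nat.card (Cfsg.pResidual p (G ⧸ N)) := by
    have h1 := (N.subgroupOf M).card_mul_index
    rw [Nat.card_congr (Subgroup.subgroupOfEquivOfLe hNM).toEquiv, hMc] at h1
    exact Nat.eq_of_mul_eq_mul_left Nat.card_pos h1
  obtain ⟨K, hK⟩ := Subgroup.exists_right_complement'_of_coprime (N := N.subgroupOf M) (by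
    rw [hidx, Nat.card_congr (Subgroup.subgroupOfEquivOfLe hNM).toEquiv, hNc]; exact hrc.symm)
  have hKc : (Nat.card K).Coprime p := by rw [← hK.symm.index_eq_card, hidx]; exact hrc
  have hmem : ∀ x : G, (orderOf x).Coprime p → x ∈ K.map M.subtype := by
    intro x hx
    have hxM : x ∈ M := Fusion.mem_pResidual_of_coprime
      (hx.coprime_dvd_left (orderOf_map_dvd _ x))
    obtain ⟨⟨y, k⟩, hyk⟩ := hK.2 ⟨x, hxM⟩
    have hy : ((y : M) : G) ∈ N := y.2
    have hxe : x = ((y : M) : G) * ((k : M) : G) := (congrArg Subtype.val hyk).symm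
    have hcomm : Commute ((y : M) : G) ((k : M) : G) := (hcen _ _ hy).symm
    have h1 : ((y : M) : G) ^ orderOf x = ((((k : M) : G) ^ orderOf x))⁻¹ := by
      refine eq_inv_of_mul_eq_one_left ?_
      rw [← hcomm.mul_pow, ← hxe, pow_orderOf_eq_one]
    have h2 : (y : M) ^ orderOf x = 1 := by
      refine Subgroup.mem_bot.1 (hK.disjoint.le_bot ⟨pow_mem y.2 _, ?_⟩)
      have : (y : M) ^ orderOf x = ((k : M) ^ orderOf x)⁻¹ := Subtype.ext (by simpa using h1)
      rw [this]
      exact K.inv_mem (K.pow_mem k.2 _)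
    have h3 : ((y : M) : G) = 1 := by
      have h4 : ((y : M) : G) ^ p = 1 := by
        rw [← hNc]
        exact congrArg Subtype.val (pow_card_eq_one' (x := (⟨_, hy⟩ : N)))
      have h5 : ((y : M) : G) ^ orderOf x = 1 := by simpa using congrArg Subtype.val h2
      have := pow_gcd_eq_one.2 ⟨h5, h4⟩
      rwa [hx.gcd_eq_one, pow_one] at this
    exact ⟨k, k.2, by rw [hxe, h3, one_mul]; rfl⟩
  refine Fusion.hasNormalPComplement_iff_mul_closed.2 fun x y hx hy => ?_
  have := mul_mem (hmem x hx) (hmem y hy)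
  refine (hKc.coprime_dvd_left ?_)
  rw [← Subgroup.card_map_of_injective M.subtype_injective]
  exact Subgroup.orderOf_dvd_natCard _ this

/-- The hypothesis on conjugate pairs. -/
def PairHyp (G : Type*) [Group G] : Prop :=
  ∀ (p q : ℕ), p.Prime → q.Prime → p ≠ q → ∀ (x g : G), (∃ a : ℕ, orderOf x = p ^ a) →
    (∃ b : ℕ, orderOf g = q ^ b) →
      ¬ q ^ 2 ∣ Nat.card ↥(Subgroup.zpowers x ⊔ Subgroup.zpowers (g * x * g⁻¹))

theorem pairHyp_subgroup {G : Type*} [Group G] (h : PairHyp G) (H : Subgroup G) : PairHyp H := by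
  intro p q hp hq hpq x g hx hg hd
  refine h p q hp hq hpq x g (by simpa [Subgroup.orderOf_coe] using hx)
    (by simpa [Subgroup.orderOf_coe] using hg) ?_
  rw [← Subgroup.card_map_of_injective H.subtype_injective, Subgroup.map_sup, MonoidHom.map_zpowers,
    MonoidHom.map_zpowers] at hd
  simpa using hd

theorem exists_lift_prime_pow {G H : Type*} [Group G] [Finite G] [Group H] {f : G →* H}
    (hf : Function.Surjective f) {p : ℕ} (hp : p.Prime) {y : H} (hy : ∃ a, orderOf y = p ^ a) :
    ∃ x : G, f x = y ∧ ∃ a, orderOf x = p ^ a := by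
  obtain ⟨x, rfl⟩ := hf y
  obtain ⟨a, ha⟩ := hy
  set m := orderOf x / p ^ (orderOf x).factorization p with hm
  have hmd : m ∣ orderOf x := Nat.ordCompl_dvd _ _
  have hmc : m.Coprime (orderOf (f x)) := by
    rw [ha]
    exact ((hp.coprime_iff_not_dvd.2 (Nat.not_dvd_ordCompl hp (orderOf_pos x).ne')).symm).pow_right a
  obtain ⟨k, hk⟩ := exists_pow_eq_self_of_coprime (x := f x) hmc
  refine ⟨(x ^ m) ^ k, by rw [map_pow, map_pow, hk], ?_⟩
  have h1 : orderOf ((x ^ m) ^ k) ∣ p ^ (orderOf x).factorization p := by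
    refine orderOf_dvd_of_pow_eq_one ?_
    rw [← pow_mul, mul_comm k, pow_mul, ← pow_mul x, hm,
      Nat.div_mul_cancel (Nat.ordProj_dvd _ _), pow_orderOf_eq_one, one_pow]
  obtain ⟨i, -, hi⟩ := (Nat.dvd_prime_pow hp).1 h1
  exact ⟨i, hi⟩

theorem pairHyp_quotient {G : Type*} [Group G] [Finite G] (h : PairHyp G) (N : Subgroup G)
    [N.Normal] : PairHyp (G ⧸ N) := by
  intro p q hp hq hpq x g hx hg hd
  obtain ⟨x, rfl, hx'⟩ := exists_lift_prime_pow (QuotientGroup.mk'_surjective N) hp hx
  obtain ⟨g, rfl, hg'⟩ := exists_lift_prime_pow (QuotientGroup.mk'_surjective N) hq hg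
  refine h p q hp hq hpq x g hx' hg' ?_
  refine hd.trans ?_
  rw [← map_inv, ← map_mul, ← map_mul, ← MonoidHom.map_zpowers, ← MonoidHom.map_zpowers,
    ← Subgroup.map_sup]
  exact Subgroup.card_map_dvd _ _

theorem isSupersolvable_of_pairHyp (n : ℕ) : ∀ (G : Type u) [Group G] [Finite G],
    Nat.card G = n → PairHyp G → Cfsg.IsSupersolvable G := by
  induction n using Nat.strong_induction_on with
  | _ n ih =>
  intro G _ _ hn hG
  classical
  rcases subsingleton_or_nontrivial G with hs | hs
  · exact Core.isSupersolvable_of_subsingleton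
  have hprop : ∀ H : Subgroup G, H ≠ ⊤ → Cfsg.IsSupersolvable H := fun H hH =>
    ih _ (by rw [← hn, ← Subgroup.card_top (G := G)]; exact Core.card_lt_of_lt (lt_top_iff_ne_top.2 hH)) H rfl
      (pairHyp_subgroup hG H)
  -- solvability
  have hsol : Group.IsSolvable G := by
    set p := (Nat.card G).minFac with hpdef
    have hp := Fact.mk (Nat.minFac_prime (Finite.one_lt_card (α := G)).ne')
    have hmin : ∀ H : Subgroup G, H ≠ ⊤ → Cfsg.HasNormalPComplement p H := fun H hH =>
      hasNormalPComplement_of_isSupersolvable _ H rfl (hprop H hH) p fun q hq hd =>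
        Nat.minFac_le_of_dvd hq.two_le (hd.trans (Subgroup.card_subgroup_dvd_card H))
    by_cases hpc : Cfsg.HasNormalPComplement p G
    · obtain ⟨P, N, hN, hc⟩ := hpc
      have hNt : N ≠ ⊤ := fun e => by
        have h1 := hc.symm.index_eq_card
        rw [e, Subgroup.index_top] at h1
        have := P.dvd_card_of_dvd_card (Nat.minFac_dvd (Nat.card G))
        rw [← h1, Nat.dvd_one] at this
        exact hp.out.ne_one this
      have : Group.IsSolvable N := Core.IsSupersolvable.isSolvable (hprop N hNt)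
      obtain ⟨k, hk⟩ := IsPGroup.iff_card.1 P.2
      have hq : IsPGroup p (G ⧸ N) := IsPGroup.of_card (n := k) (by
        rw [← Subgroup.index_eq_card, hc.symm.index_eq_card]; exact hk)
      exact (Group.isSolvable_iff_subgroup_quotient N).2 ⟨this, by
        have := hq.isNilpotent; infer_instance⟩
    · obtain ⟨h1, h2, -⟩ := S0132.result hpc hmin
      exact Core.IsMinimalNonNilpotent.isSolvable ⟨h2, h1⟩
  refine Core.isSupersolvable_of_prime_index fun M hM => ?_
  obtain ⟨V, hV⟩ := Core.exists_isMinNormal (G := G)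
  have := hV.normal
  have hGV : Cfsg.IsSupersolvable (G ⧸ V) :=
    ih _ (hn ▸ Core.card_quotient_lt hV.ne_bot) _ rfl (pairHyp_quotient hG V)
  by_cases hVM : V ≤ M
  · have hsur := QuotientGroup.mk'_surjective V
    have hker : (QuotientGroup.mk' V).ker ≤ M := by rwa [QuotientGroup.ker_mk']
    have := Core.prime_index_of_isSupersolvable hGV (Core.isCoatom_map_of_ker_le hsur hker hM)
    rwa [Subgroup.index_map_eq M hsur hker] at this
  have htop : M ⊔ V = ⊤ := hM.2 _ (lt_of_le_of_ne le_sup_left fun e => hVM (e ▸ le_sup_right))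
  have hVab : IsMulCommutative V := hV.isMulCommutative
  have hcV : ∀ u ∈ V, ∀ v ∈ V, u * v = v * u := fun u hu v hv =>
    congrArg Subtype.val (mul_comm' (⟨u, hu⟩ : V) ⟨v, hv⟩)
  have hMV : M ⊓ V = ⊥ := by
    have hn' : (M ⊓ V).Normal := by
      rw [← Subgroup.normalizer_eq_top_iff, eq_top_iff, ← htop]
      refine sup_le (fun m hm => ?_) fun v hv => ?_
      · refine Subgroup.mem_normalizer_iff.2 fun x => ⟨fun hx => ⟨M.mul_mem (M.mul_mem hm hx.1)
          (M.inv_mem hm), hV.normal.conj_mem x hx.2 m⟩, fun hx => ?_⟩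
        have e : x = m⁻¹ * (m * x * m⁻¹) * m⁻¹⁻¹ := by group
        rw [e]
        exact ⟨M.mul_mem (M.mul_mem (M.inv_mem hm) hx.1) (M.inv_mem (M.inv_mem hm)),
          hV.normal.conj_mem _ hx.2 _⟩
      · refine Subgroup.mem_normalizer_iff.2 fun x => ⟨fun hx => ?_, fun hx => ?_⟩
        · rwa [hcV v hv x hx.2, mul_inv_cancel_right]
        · have h2 : x ∈ V := by
            have := hV.normal.conj_mem _ hx.2 v⁻¹
            simpa [mul_assoc] using this
          rwa [hcV v hv x h2, mul_inv_cancel_right] at hx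
    exact (hV.eq_of_le _ hn' inf_le_right).resolve_right fun e => hVM (e ▸ inf_le_left)
  have hidx : M.index = Nat.card V := by
    have hc := Core.card_sup_mul_card_inf M V
    rw [htop, Subgroup.card_top, hMV, Subgroup.card_bot, mul_one, ← M.card_mul_index] at hc
    exact Nat.eq_of_mul_eq_mul_left Nat.card_pos hc
  rw [hidx]
  obtain ⟨q, hq, hqV⟩ := hV.exists_prime_pow_eq_one
  have := Fact.mk hq
  let CM := (M ⊓ Subgroup.centralizer (V : Set G))
  by_cases hCM : CM = ⊥
  swap
  · -- `M` contains a normal subgroup of `G`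
    have hn' : CM.Normal := by
      rw [← Subgroup.normalizer_eq_top_iff, eq_top_iff, ← htop]
      refine sup_le (fun m hm => ?_) fun v hv => ?_
      · have h1 : m ∈ Subgroup.normalizer (M : Set G) := Subgroup.le_normalizer hm
        have h2 : m ∈ Subgroup.normalizer ((Subgroup.centralizer (V : Set G) : Subgroup G) : Set G) := by
          rw [Subgroup.normalizer_eq_top]; trivial
        exact Subgroup.mem_normalizer_iff.2 fun x =>
          and_congr (Subgroup.mem_normalizer_iff.1 h1 x) (Subgroup.mem_normalizer_iff.1 h2 x)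
      · refine Subgroup.mem_normalizer_iff.2 fun x => ⟨fun hx => ?_, fun hx => ?_⟩
        · have := Subgroup.mem_centralizer_iff.1 hx.2 v hv
          rwa [this, mul_inv_cancel_right]
        · have := Subgroup.mem_centralizer_iff.1 hx.2 v hv
          have h5 : v * x * v⁻¹ = x := by
            have := mul_right_cancel (b := v) (a := v * (v * x * v⁻¹)) (c := v * x)
              (by rw [this]; group)
            exact (mul_left_cancel this)
          rwa [h5] at hx
    obtain ⟨U, hUle, hU⟩ := @Core.exists_isMinNormal_le G _ _ CM hn' hCM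
    have := hU.normal
    have hUV : U ⊓ V = ⊥ := le_bot_iff.1 (hMV ▸ inf_le_inf_right V (hUle.trans inf_le_left))
    have hGU : Cfsg.IsSupersolvable (G ⧸ U) :=
      ih _ (hn ▸ Core.card_quotient_lt hU.ne_bot) _ rfl (pairHyp_quotient hG U)
    have hc := Core.card_map_mk_mul U V
    rw [inf_comm, hUV, Subgroup.card_bot, mul_one] at hc
    rw [← hc]
    refine Core.IsMinNormal.prime_card ?_ hGU
    refine ⟨hV.normal.map _ (QuotientGroup.mk'_surjective U), fun e => hV.ne_bot ?_, fun K hK hle => ?_⟩
    · rw [Subgroup.map_eq_bot_iff, QuotientGroup.ker_mk'] at e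
      rw [← inf_eq_right.2 e, hUV]
    · have hKn := hK.comap (QuotientGroup.mk' U)
      rcases hV.eq_of_le (K.comap (QuotientGroup.mk' U) ⊓ V) inferInstance inf_le_right with e | e
      · refine Or.inl (le_bot_iff.mp fun x hx => ?_)
        obtain ⟨v, hv, rfl⟩ := hle hx
        have : v ∈ K.comap (QuotientGroup.mk' U) ⊓ V := ⟨hx, hv⟩
        rw [e, Subgroup.mem_bot] at this
        rw [this, map_one]
        exact one_mem _
      · exact Or.inr (le_antisymm hle (Subgroup.map_le_iff_le_comap.mpr (inf_eq_right.mp e)))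
  letI : CommGroup V := { (inferInstance : Group V) with mul_comm := mul_comm' }
  obtain ⟨instMod⟩ : Nonempty (Module (ZMod q) (Additive V)) := ⟨AddCommGroup.zmodModule fun x => by
    exact congrArg Additive.ofMul (Subtype.ext (hqV _ (Additive.toMul x).2) : (Additive.toMul x) ^ q = 1)⟩
  let T : M →* Module.End (ZMod q) (Additive V) :=
    { toFun := fun m => AddMonoidHom.toZModLinearMap q
        (MonoidHom.toAdditive (MulAut.conjNormal (H := V) (m : G)).toMonoidHom)
      map_one' := by
        refine LinearMap.ext fun v => ?_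
        apply (Additive.toMul (α := ↥V)).injective
        apply Subtype.ext
        simp
      map_mul' := by
        intro a b
        refine LinearMap.ext fun v => ?_
        apply (Additive.toMul (α := ↥V)).injective
        apply Subtype.ext
        simp [mul_assoc] }
  have hT : ∀ (m : M) (v : Additive V),
      ((Additive.toMul (T m v) : V) : G) = (m : G) * (Additive.toMul v : V) * (m : G)⁻¹ :=
    fun m v => rfl
  have hinj : Function.Injective T := by
    intro a b hab
    have h1 : (b⁻¹ * a : M).1 ∈ CM := by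
      refine ⟨(b⁻¹ * a).2, Subgroup.mem_centralizer_iff.2 fun v hv => ?_⟩
      have h2 : T (b⁻¹ * a) = 1 := by rw [map_mul, hab, ← map_mul, inv_mul_cancel, map_one]
      have h3 := hT (b⁻¹ * a) (Additive.ofMul ⟨v, hv⟩)
      rw [h2] at h3
      exact eq_mul_inv_iff_mul_eq.1 h3
    rw [hCM, Subgroup.mem_bot] at h1
    have : b⁻¹ * a = 1 := Subtype.ext h1
    exact (inv_mul_eq_one.1 this).symm
  have hnormal : ∀ S : Subgroup G, S ≤ V → (∀ m : M, ∀ s ∈ S, (m : G) * s * (m : G)⁻¹ ∈ S) →
      S = ⊥ ∨ S = V := by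
    intro S hS hst
    refine hV.eq_of_le S ?_ hS
    rw [← Subgroup.normalizer_eq_top_iff, eq_top_iff, ← htop]
    refine sup_le (fun m hm => ?_) fun v hv => ?_
    · refine Subgroup.mem_normalizer_iff.2 fun x => ⟨fun hx => hst ⟨m, hm⟩ x hx, fun hx => ?_⟩
      have := hst ⟨m, hm⟩⁻¹ _ hx
      simpa [mul_assoc] using this
    · refine Subgroup.mem_normalizer_iff.2 fun x => ⟨fun hx => ?_, fun hx => ?_⟩
      · rwa [hcV v hv x (hS hx), mul_inv_cancel_right]
      · have h2 : x ∈ V := by
          have := hV.normal.conj_mem _ (hS hx) v⁻¹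
          simpa [mul_assoc] using this
        rwa [hcV v hv x h2, mul_inv_cancel_right] at hx
  have hscal := scalar_of_two_eig (hprop M hM.1) T hinj (fun U hU => ?_) (fun p hp hpq x hx hx1 => ?_)
  · -- scalar action
    obtain ⟨v, hv, hv1⟩ := (Subgroup.bot_or_exists_ne_one V).resolve_left hV.ne_bot
    rcases hnormal (Subgroup.zpowers v) (Subgroup.zpowers_le.2 hv) (fun m s hs => by
      obtain ⟨i, rfl⟩ := hs
      obtain ⟨c, hc⟩ := hscal m
      have h1 := hT m (Additive.ofMul ⟨v, hv⟩)
      rw [hc, ← ZMod.natCast_zmod_val c, Nat.cast_smul_eq_nsmul] at h1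
      have h2 : (m : G) * v * (m : G)⁻¹ = v ^ c.val := by
        simpa using h1.symm
      rw [← conj_zpow, h2]
      exact zpow_mem (pow_mem (Subgroup.mem_zpowers v) _) _) with h | h
    · exact absurd (Subgroup.zpowers_eq_bot.1 h) hv1
    · rw [← h, Nat.card_zpowers, orderOf_eq_prime (hqV v hv) hv1]
      exact hq
  · -- irreducibility
    let S : Subgroup G :=
      { carrier := {g | ∃ hg : g ∈ V, Additive.ofMul (⟨g, hg⟩ : V) ∈ U}
        one_mem' := ⟨one_mem V, U.zero_mem⟩
        mul_mem' := by
          rintro a b ⟨ha, ha'⟩ ⟨hb, hb'⟩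
          exact ⟨mul_mem ha hb, U.add_mem ha' hb'⟩
        inv_mem' := by
          rintro a ⟨ha, ha'⟩
          exact ⟨inv_mem ha, U.neg_mem ha'⟩ }
    rcases hnormal S (fun g hg => hg.1) (fun m s hs => ⟨hV.normal.conj_mem s hs.1 m, by
      have := hU m _ hs.2
      exact this⟩) with h | h
    · refine Or.inl (eq_bot_iff.2 fun u hu => ?_)
      have : ((Additive.toMul u : V) : G) ∈ S := ⟨(Additive.toMul u).2, hu⟩
      rw [h, Subgroup.mem_bot] at this
      exact (Submodule.mem_bot _).2 (congrArg Additive.ofMul (Subtype.ext this : Additive.toMul u = 1))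
    · refine Or.inr (eq_top_iff.2 fun u _ => ?_)
      have : ((Additive.toMul u : V) : G) ∈ S := h.symm ▸ (Additive.toMul u).2
      exact this.2
  · -- two eigenvalues
    have hxM : ∃ a, orderOf (x : G) = p ^ a := by
      obtain ⟨a, ha⟩ := hx
      exact ⟨a, by rw [Subgroup.orderOf_coe, ha]⟩
    have hline : ∀ v : Additive V, ∃ c : ZMod q, T x (T x v - v) = c • (T x v - v) := by
      intro v
      set d := T x v - v with hd
      by_contra hcon
      push Not at hcon
      set w : G := ((Additive.toMul v : V) : G) with hw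
      set S := Subgroup.zpowers (x : G) ⊔ Subgroup.zpowers (w⁻¹ * (x : G) * w⁻¹⁻¹) with hS
      refine hG p q hp hq hpq x w⁻¹ hxM ⟨_, (Nat.dvd_prime_pow hq (m := 1)).1 ?_ |>.choose_spec.2⟩ ?_
      · rw [orderOf_inv, pow_one]
        exact orderOf_dvd_of_pow_eq_one (hqV w (Additive.toMul v).2)
      -- two independent vectors in the pair subgroup
      let D : Submodule (ZMod q) (Additive V) :=
        AddSubgroup.toZModSubmodule q (Subgroup.toAddSubgroup ((S ⊓ V).subgroupOf V))
      have hxS : (x : G) ∈ S := (le_sup_left : _ ≤ S) (Subgroup.mem_zpowers _)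
      have hd1 : d ∈ D := by
        show ((Additive.toMul (T x v - v) : V) : G) ∈ S ⊓ V
        refine ⟨?_, (Additive.toMul (T x v - v) : V).2⟩
        have h1 : ((Additive.toMul (T x v - v) : V) : G) = (x : G) * w * (x : G)⁻¹ * w⁻¹ := by
          rw [toMul_sub, Subgroup.coe_div, hT, div_eq_mul_inv]
        have h2 : w⁻¹ * (x : G) * w⁻¹⁻¹ ∈ S := (le_sup_right : _ ≤ S) (Subgroup.mem_zpowers _)
        have h4 : w * (x : G) * w⁻¹ * (x : G)⁻¹ ∈ V := by
          have := mul_mem (Additive.toMul v).2 (hV.normal.conj_mem _ (inv_mem (Additive.toMul v).2) (x : G))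
          simpa [mul_assoc, hw] using this
        rw [h1]
        have h3 : (x : G) * w * (x : G)⁻¹ * w⁻¹ = w⁻¹ * ((x : G) * w * (x : G)⁻¹) := by
          rw [hcV _ (hV.normal.conj_mem w (Additive.toMul v).2 x) _ (inv_mem (Additive.toMul v).2)]
        rw [h3]
        have := mul_mem h2 (inv_mem hxS)
        simpa [mul_assoc] using this
      have hd2 : T x d ∈ D := by
        show ((Additive.toMul (T x d) : V) : G) ∈ S ⊓ V
        refine ⟨?_, (Additive.toMul (T x d) : V).2⟩
        rw [hT]
        exact S.mul_mem (S.mul_mem hxS hd1.1) (S.inv_mem hxS)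
      have hd0 : d ≠ 0 := fun h0 => hcon 0 (by rw [h0, map_zero, smul_zero])
      have hli : LinearIndependent (ZMod q) ![(⟨d, hd1⟩ : D), ⟨T x d, hd2⟩] := by
        refine (LinearIndependent.pair_iff' (fun e => hd0 (congrArg Subtype.val e))).2 fun c e => ?_
        exact hcon c (congrArg Subtype.val e).symm
      have h5 := hli.fintype_card_le_finrank
      simp only [Fintype.card_fin] at h5
      have h6 : Nat.card D = q ^ Module.finrank (ZMod q) D := by
        rw [Module.natCard_eq_pow_finrank (K := ZMod q), Nat.card_zmod]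
      have h7 : q ^ 2 ∣ Nat.card D := h6 ▸ pow_dvd_pow q h5
      refine h7.trans ?_
      have h8 : Nat.card D = Nat.card ↥(S ⊓ V) := by
        show Nat.card ↥((S ⊓ V).subgroupOf V) = _
        exact Nat.card_congr (Subgroup.subgroupOfEquivOfLe inf_le_right).toEquiv
      rw [h8]
      exact Subgroup.card_dvd_of_le inf_le_left
    -- a single eigenvalue on the image of `T x - 1`
    obtain ⟨v0, hv0⟩ : ∃ v, T x v ≠ v := by
      by_contra hcon
      push Not at hcon
      exact hx1 (LinearMap.ext hcon)
    obtain ⟨l, hl0⟩ := hline v0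
    set d0 := T x v0 - v0 with hd0
    have hd0' : d0 ≠ 0 := sub_ne_zero.2 hv0
    have hall : ∀ v, T x (T x v - v) = l • (T x v - v) := by
      intro v
      obtain ⟨c, hc⟩ := hline v
      obtain ⟨e, he⟩ := hline (v + v0)
      set d := T x v - v with hd
      have h1 : T x (v + v0) - (v + v0) = d + d0 := by rw [map_add, hd, hd0]; abel
      rw [h1, map_add, hc, hl0, smul_add] at he
      by_cases hdep : ∃ k : ZMod q, d = k • d0
      · obtain ⟨k, hk⟩ := hdep
        rw [hk, map_smul, hl0, smul_comm]
      · push Not at hdep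
        have h2 : (c - e) • d = (e - l) • d0 := by
          rw [sub_smul, sub_smul, sub_eq_sub_iff_add_eq_add, he]; abel
        by_cases hce : c - e = 0
        · have : e - l = 0 := by
            rw [hce, zero_smul] at h2
            exact (smul_eq_zero.1 h2.symm).resolve_right hd0'
          rw [hc, sub_eq_zero.1 hce, sub_eq_zero.1 this]
        · exact absurd (by rw [mul_smul, ← h2, smul_smul, inv_mul_cancel₀ hce, one_smul])
            (hdep ((c - e)⁻¹ * (e - l)))
    refine ⟨l, fun hl1 => ?_, fun v => ?_⟩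
    · subst hl1
      have hpw : ∀ n : ℕ, T (x ^ n) v0 = v0 + (n : ZMod q) • d0 := fun n => by
        induction n with
        | zero => simp
        | succ n ih =>
          rw [pow_succ', map_mul, Module.End.mul_apply, ih, map_add, map_smul, hall v0, one_smul]
          rw [Nat.cast_succ, add_smul, one_smul, hd0]
          abel
      have h1 := hpw (orderOf x)
      rw [pow_orderOf_eq_one, map_one, Module.End.one_apply, left_eq_add] at h1
      obtain ⟨a, ha⟩ := hx
      rw [ha, smul_eq_zero, ZMod.natCast_eq_zero_iff] at h1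
      rcases h1 with h1 | h1
      · exact hpq ((Nat.prime_dvd_prime_iff_eq hq hp).1 (hq.dvd_of_dvd_pow h1)).symm
      · exact hd0' h1
    · have := hall v
      rw [map_sub, smul_sub] at this
      rw [map_sub, map_smul]
      calc T x (T x v) - l • T x v = (T x (T x v) - T x v) + (T x v - l • T x v) := by abel
        _ = T x v - l • v := by rw [this]; abel

/-- Let G be a finite group such that for every pair of distinct primes p and q, every p-element x and every q-element g of G, the order of the subgroup generated by x and g x g⁻¹ is not divisible by q². Then G is supersolvable. -/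
theorem result {G : Type*} [Group G] [Finite G]
    (h : ∀ (p q : ℕ), p.Prime → q.Prime → p ≠ q → ∀ (x g : G), (∃ a : ℕ, orderOf x = p ^ a) → (∃ b : ℕ, orderOf g = q ^ b) →
      ¬ q ^ 2 ∣ Nat.card ↥(Subgroup.zpowers x ⊔ Subgroup.zpowers (g * x * g⁻¹))) :
    Cfsg.IsSupersolvable G := by
  exact isSupersolvable_of_pairHyp _ G rfl h

end Cfsg.Agent.S3033
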