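import Cfsg.Statements.S3559
import Cfsg.Agent.Fg24.SchurRing.BGroup

set_option autoImplicit false
open Cfsg

namespace Cfsg.Agent.S3559

/-- Let G act faithfully and transitively on a finite set whose number of points n ≥ 2 is not a prime power, and suppose G has a cyclic subgroup acting regularly (transitively with trivial point stabilizers). Then G is imprimitive or doubly transitive. -/
theorem result {G Ω : Type*} [Group G] [Finite G] [MulAction G Ω] [FaithfulSMul G Ω] [Finite Ω]
    (htrans : MulAction.IsPretransitive G Ω) (hn : 2 ≤ Nat.card Ω) (hnp : ¬ IsPrimePow (Nat.card Ω))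
    (C : Subgroup G) (hcyc : IsCyclic ↥C) (hC : MulAction.IsPretransitive ↥C Ω ∧ ∀ a : Ω, MulAction.stabilizer ↥C a = ⊥) :
    ¬ MulAction.IsPreprimitive G Ω ∨ MulAction.IsMultiplyPretransitive G Ω 2 := by
  classical
  by_cases hprim : MulAction.IsPreprimitive G Ω
  swap
  · exact Or.inl hprim
  right
  have : Nontrivial Ω := Finite.one_lt_card_iff_nontrivial.1 hn
  have : IsMulCommutative C := IsCyclic.isMulCommutative
  obtain ⟨a⟩ : Nonempty Ω := inferInstance
  have hcard : Nat.card C = Nat.card Ω := Nat.card_congr (Cfsg.Agent.Fg24.SchurRing.point hC a)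
  have hn1 : Nat.card Ω ≠ 1 := by omega
  obtain ⟨q, hq, hqn, hqp⟩ : ∃ q : ℕ, q.Prime ∧ q ∣ Nat.card Ω ∧ q ≠ (Nat.card Ω).minFac := by
    by_contra h
    push Not at h
    apply hnp
    rw [isPrimePow_iff_unique_prime_dvd]
    exact ⟨(Nat.card Ω).minFac, ⟨Nat.minFac_prime hn1, Nat.minFac_dvd _⟩,
      fun r hr => h r hr.1 hr.2⟩
  have := Fact.mk (Nat.minFac_prime hn1)
  refine Cfsg.Agent.Fg24.SchurRing.isMultiplyPretransitive_two hC hprim hq hqp
    (hcard ▸ Nat.minFac_dvd _) (hcard ▸ hqn) ?_
  cases nonempty_fintype C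
  rw [Nat.card_eq_fintype_card, Fintype.card_subtype]
  exact IsCyclic.card_pow_eq_one_le (Nat.minFac_pos _)

end Cfsg.Agent.S3559
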