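import Cfsg.Statements.S3972
import Mathlib
import Cfsg.Agent.PermGroups.PrimePowerCycle

set_option autoImplicit false
open Cfsg

namespace Cfsg.Agent.S3972

open MulAction Cfsg.Agent.Fg24.SchurRing
open scoped Pointwise

/-- Let `p` be a prime, `m ≥ 2`, and `G` a transitive but not doubly transitive permutation group on `p ^ m` points containing a permutation of order `p ^ m` (necessarily a full cycle). Then `G` is imprimitive, and the normal closure in `G` of the `p ^ (m - 1)`-th power of that permutation is an intransitive normal subgroup. -/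
theorem result {Ω : Type*} [Fintype Ω] [DecidableEq Ω] (p m : ℕ) (hp : p.Prime) (hm : 2 ≤ m) (hΩ : Fintype.card Ω = p ^ m) (G : Subgroup (Equiv.Perm Ω)) (htr : MulAction.IsPretransitive G Ω) (h2 : ¬ MulAction.IsMultiplyPretransitive G Ω 2) (g : G) (hg : orderOf g = p ^ m) : ¬ MulAction.IsPreprimitive G Ω ∧ ¬ MulAction.IsPretransitive (Subgroup.normalClosure ({g ^ (p ^ (m - 1))} : Set G)) Ω := by
  classical
  haveI := Fact.mk hp
  obtain ⟨l, rfl⟩ : ∃ l, m = l + 1 := ⟨m - 1, by omega⟩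
  show ¬ MulAction.IsPreprimitive G Ω ∧ ¬ MulAction.IsPretransitive (Subgroup.normalClosure ({g ^ (p ^ l)} : Set G)) Ω
  have hzne : g ^ p ^ l ≠ 1 := fun h => by
    have := Nat.le_of_dvd (pow_pos hp.pos l) (hg ▸ orderOf_dvd_of_pow_eq_one h)
    exact absurd this (not_le.2 (Nat.pow_lt_pow_right hp.one_lt (Nat.lt_succ_self l)))
  obtain ⟨a, ha⟩ : ∃ a : Ω, (g ^ p ^ l) • a ≠ a := by
    by_contra h
    push_neg at h
    exact hzne (Subtype.ext (Equiv.ext fun y => h y))
  have hper : MulAction.period g a = p ^ (l + 1) := by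
    obtain ⟨i, hi, hie⟩ := (Nat.dvd_prime_pow hp).1 (hg ▸ MulAction.period_dvd_orderOf g a)
    rcases Nat.lt_or_ge i (l + 1) with h | h
    · exact absurd (MulAction.pow_smul_eq_iff_period_dvd.2 (hie ▸ pow_dvd_pow p (Nat.le_of_lt_succ h))) ha
    · rw [hie, le_antisymm hi h]
  have hbij : Function.Bijective fun i : Fin (p ^ (l + 1)) => (g ^ (i : ℕ)) • a := by
    refine (Fintype.bijective_iff_injective_and_card _).2 ⟨fun i j h => ?_, by rw [Fintype.card_fin, hΩ]⟩
    have key : ∀ u v : ℕ, u ≤ v → v < p ^ (l + 1) → (g ^ u) • a = (g ^ v) • a → u = v := by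
      intro u v huv hv h
      obtain ⟨d, rfl⟩ := Nat.exists_eq_add_of_le huv
      rw [pow_add, mul_smul, smul_left_cancel_iff, eq_comm, MulAction.pow_smul_eq_iff_period_dvd, hper] at h
      have := Nat.eq_zero_of_dvd_of_lt h (by omega)
      omega
    rcases le_total i.1 j.1 with hij | hij
    · exact Fin.ext (key _ _ hij j.2 h)
    · exact Fin.ext (key _ _ hij i.2 h.symm).symm
  haveI : Nontrivial Ω := ⟨⟨_, _, ha⟩⟩
  set C : Subgroup G := Subgroup.zpowers g with hCdef
  haveI : IsMulCommutative C := inferInstance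
  have htrC : MulAction.IsPretransitive C Ω := by
    refine ⟨fun x y => ?_⟩
    obtain ⟨i, hi⟩ := hbij.2 x
    obtain ⟨j, hj⟩ := hbij.2 y
    refine ⟨(⟨g ^ (j : ℕ), pow_mem (Subgroup.mem_zpowers g) _⟩ : C) * (⟨g ^ (i : ℕ), pow_mem (Subgroup.mem_zpowers g) _⟩ : C)⁻¹, ?_⟩
    rw [mul_smul, ← hi, ← hj]
    show (g ^ (j : ℕ)) • ((g ^ (i : ℕ))⁻¹ • ((g ^ (i : ℕ)) • a)) = _
    rw [inv_smul_smul]
  have hstab : ∀ b : Ω, MulAction.stabilizer C b = ⊥ := by
    intro b
    rw [Subgroup.eq_bot_iff_forall]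
    intro s hs
    refine Subtype.ext (Subtype.ext (Equiv.ext fun y => ?_))
    obtain ⟨t, ht⟩ := htrC.exists_smul_eq b y
    show s • y = y
    rw [← ht, ← mul_smul, IsMulCommutative.is_comm.comm s t, mul_smul, MulAction.mem_stabilizer_iff.1 hs]
  have hCcard : Nat.card C = p ^ (l + 1) := by rw [hCdef, Nat.card_zpowers, hg]
  have hzo : orderOf (g ^ p ^ l) = p :=
    orderOf_eq_prime (by rw [← pow_mul, ← pow_succ, ← hg, pow_orderOf_eq_one]) hzne
  have hker : Nat.card {x : C // x ^ p = 1} = p := by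
    have := Fintype.ofFinite C
    refine le_antisymm ?_ ?_
    · rw [Nat.card_eq_fintype_card, Fintype.card_subtype]
      exact IsCyclic.card_pow_eq_one_le hp.pos
    · have hle : Subgroup.zpowers (g ^ p ^ l) ≤ C := Subgroup.zpowers_le.2 (pow_mem (Subgroup.mem_zpowers g) _)
      rw [← hzo, ← Nat.card_zpowers (g ^ p ^ l)]
      refine Nat.card_le_card_of_injective (fun w => ⟨⟨w.1, hle w.2⟩, Subtype.ext ?_⟩) ?_
      · show (w.1 : G) ^ Nat.card (Subgroup.zpowers (g ^ p ^ l)) = 1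
        exact orderOf_dvd_iff_pow_eq_one.1 (Subgroup.orderOf_dvd_natCard _ w.2)
      · intro u v h
        exact Subtype.ext (congrArg (fun w : {x : C // x ^ Nat.card (Subgroup.zpowers (g ^ p ^ l)) = 1} => (w.1 : G)) h)
  have hexp : ∃ c : C, c ^ p ≠ 1 := by
    refine ⟨⟨g, Subgroup.mem_zpowers g⟩, fun h => ?_⟩
    have h' := Nat.le_of_dvd hp.pos (hg ▸ orderOf_dvd_of_pow_eq_one (congrArg Subtype.val h : g ^ p = 1))
    exact absurd h' (not_le.2 (by
      calc p = p ^ 1 := (pow_one p).symm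
        _ < p ^ (l + 1) := Nat.pow_lt_pow_right hp.one_lt (by omega)))
  have hnp : ¬ MulAction.IsPreprimitive G Ω := fun hprim => h2 (by
    rw [MulAction.is_two_pretransitive_iff]
    intro u v c d huv hcd
    obtain ⟨k, hk⟩ := htrC.exists_smul_eq u c
    obtain ⟨x, hx⟩ := htrC.exists_smul_eq c ((k : G) • v)
    obtain ⟨y, hy⟩ := htrC.exists_smul_eq c d
    have hk' : (k : G) • u = c := hk
    have hx1 : x ≠ 1 := fun h => huv (by
      rw [h, one_smul, ← hk'] at hx
      exact MulAction.injective (k : G) hx)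
    have hy1 : y ≠ 1 := fun h => hcd (by rw [h, one_smul] at hy; exact hy)
    obtain ⟨h, hh, he⟩ := Cfsg.Agent.PrimePowerCycle.transitive_on_others (a := c) ⟨htrC, hstab⟩ hprim hker hexp x y hx1 hy1
    refine ⟨h * (k : G), by rw [mul_smul, hk', hh], ?_⟩
    rw [mul_smul, ← hx, ← act_spec ⟨htrC, hstab⟩ h x, he]
    exact hy)
  refine ⟨hnp, fun hN => ?_⟩
  obtain ⟨B, hB, hBns, hBne⟩ : ∃ B : Set Ω, MulAction.IsBlock G B ∧ ¬ B.Subsingleton ∧ B ≠ Set.univ := by
    by_contra h
    push_neg at h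
    exact hnp { htr with isTrivialBlock_of_isBlock := fun {B} hB => (em B.Subsingleton).imp id fun hns => h B hB (Set.not_subsingleton_iff.1 hns) }
  obtain ⟨b₁, hb₁, b₂, hb₂, hb⟩ := Set.not_subsingleton_iff.1 hBns
  obtain ⟨k, hk⟩ := htrC.exists_smul_eq b₁ b₂
  have hkB : (k : G) • B = B :=
    hB.smul_eq_of_mem hb₁ (show (k : G) • b₁ ∈ B by rw [show (k : G) • b₁ = b₂ from hk]; exact hb₂)
  have hk1 : (k : G) ≠ 1 := fun h => hb (by
    rw [← hk]; show b₁ = (k : G) • b₁; rw [h, one_smul])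
  have hzB : (g ^ p ^ l) • B = B := by
    have hmem : g ^ p ^ l ∈ MulAction.stabilizer G B := by
      refine (Subgroup.zpowers_le.2 (MulAction.mem_stabilizer_iff.2 hkB)) ?_
      obtain ⟨i, hi⟩ := mem_powers_iff_mem_zpowers.2 k.2
      have hi' : g ^ i = (k : G) := hi
      have hi0 : i ≠ 0 := fun h => hk1 (by rw [← hi', h, pow_zero])
      have hv : ¬ p ^ (l + 1) ∣ i := fun h => hk1 (by
        rw [← hi']; exact orderOf_dvd_iff_pow_eq_one.1 (hg ▸ h))
      obtain ⟨e, u, hu, rfl⟩ := Nat.exists_eq_pow_mul_and_not_dvd hi0 p hp.ne_one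
      have hel : e ≤ l := Nat.le_of_lt_succ (by
        by_contra hc
        exact hv ((pow_dvd_pow p (not_lt.1 hc)).mul_right u))
      obtain ⟨r, hr⟩ := exists_pow_eq_self_of_coprime (x := g) (n := u)
        (by rw [hg]; exact (((hp.coprime_iff_not_dvd).2 hu).pow_left _).symm)
      refine mem_powers_iff_mem_zpowers.1 ⟨r * p ^ (l - e), ?_⟩
      show (k : G) ^ (r * p ^ (l - e)) = g ^ p ^ l
      rw [← hi', ← pow_mul, show p ^ e * u * (r * p ^ (l - e)) = u * r * (p ^ e * p ^ (l - e)) by ring,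
        ← pow_add, show e + (l - e) = l by omega, pow_mul, pow_mul, hr]
    exact MulAction.mem_stabilizer_iff.1 hmem
  let K : Subgroup G := ⨅ h : G, MulAction.stabilizer G (h • B)
  haveI hKn : K.Normal := ⟨fun x hx y => by
    rw [Subgroup.mem_iInf] at hx ⊢
    intro h
    rw [MulAction.mem_stabilizer_iff]
    have := MulAction.mem_stabilizer_iff.1 (hx (y⁻¹ * h))
    rw [mul_smul, mul_smul, ← mul_smul y⁻¹ h B, this, smul_smul, mul_inv_cancel_left]⟩
  have hzK : g ^ p ^ l ∈ K := by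
    rw [Subgroup.mem_iInf]
    intro h
    rw [MulAction.mem_stabilizer_iff]
    obtain ⟨c, hc⟩ := htrC.exists_smul_eq b₁ (h • b₁)
    have hcB : (c : G) • B = h • B := by
      have h1 : (h⁻¹ * (c : G)) • B = B := hB.smul_eq_of_mem hb₁
        (by rw [mul_smul, show (c : G) • b₁ = h • b₁ from hc, inv_smul_smul]; exact hb₁)
      rwa [mul_smul, inv_smul_eq_iff] at h1
    rw [← hcB, smul_smul, show g ^ p ^ l * (c : G) = (c : G) * g ^ p ^ l from congrArg Subtype.val
      (IsMulCommutative.is_comm.comm (⟨g ^ p ^ l, pow_mem (Subgroup.mem_zpowers g) _⟩ : C) c), mul_smul, hzB]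
  refine hBne (Set.eq_univ_of_forall fun y => ?_)
  obtain ⟨⟨x, hx⟩, hxy⟩ := hN.exists_smul_eq b₁ y
  have hxK : x ∈ K := (Subgroup.normalClosure_le_normal (Set.singleton_subset_iff.2 hzK)) hx
  have hxB := MulAction.mem_stabilizer_iff.1 (Subgroup.mem_iInf.1 hxK 1)
  rw [one_smul] at hxB
  rw [← hxy, ← hxB]
  exact Set.smul_mem_smul_set hb₁

end Cfsg.Agent.S3972
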