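import Mathlib

/-!
A simplicity criterion from the index of a self-normalising subgroup.

If every nontrivial normal subgroup meeting `H` nontrivially is the whole group, some element of
`H` of prime order `q` can act nontrivially on no subgroup of prime power order dividing the
index of `H`, and `H` is its own normaliser, then the group is simple.
-/

set_option autoImplicit false

namespace Cfsg.Agent.IndexSimple

open Subgroup MulAction
open scoped Pointwise

variable {G : Type*} [Group G] [Finite G]

/-- A normal subgroup meeting `H` trivially has order dividing the index of `H`. -/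
theorem card_dvd_index_of_inf_eq_bot (H N : Subgroup G) [N.Normal] (h : N ⊓ H = ⊥) :
    Nat.card N ∣ H.index := by
  have h1 : N.relIndex (H ⊔ N) = Nat.card H := by
    rw [relIndex_sup_right, ← inf_relIndex_right, h, relIndex_bot_left]
  have h2 : Nat.card N * Nat.card H = Nat.card ↥(H ⊔ N) := by
    have := relIndex_mul_relIndex (⊥ : Subgroup G) N (H ⊔ N) bot_le le_sup_right
    rwa [relIndex_bot_left, relIndex_bot_left, h1] at this
  have h3 : Nat.card N * Nat.card H ∣ H.index * Nat.card H := by
    rw [h2, index_mul_card]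
    exact card_subgroup_dvd_card _
  exact Nat.dvd_of_mul_dvd_mul_right Nat.card_pos h3

/-- An element of prime order `q` centralises a normal subgroup whose prime power divisors
`r ^ k` have `r ^ k ≢ 1` modulo `q`. -/
theorem mem_centralizer_of_prime_pow (N : Subgroup G) [N.Normal] (h : G) (q : ℕ) [Fact q.Prime]
    (ho : orderOf h = q) (hN : ¬ q ∣ Nat.card N)
    (hpow : ∀ r k : ℕ, r.Prime → 0 < k → r ^ k ∣ Nat.card N → ¬ q ∣ r ^ k - 1) :
    h ∈ centralizer (N : Set G) := by
  let P : Subgroup G := zpowers h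
  have hP : IsPGroup q P := IsPGroup.of_card (n := 1) (by rw [Nat.card_zpowers, ho, pow_one])
  let φ : P →* MulAut N := (MulAut.conjNormal).comp P.subtype
  letI : MulDistribMulAction P N := MulDistribMulAction.compHom N φ
  have hact : ∀ (g : P) (x : N), ((g • x : N) : G) = (g : G) * x * (g : G)⁻¹ := fun g x => rfl
  let C : Subgroup N := (centralizer ({h} : Set G)).subgroupOf N
  suffices hC : C = ⊤ by
    rw [mem_centralizer_iff]
    intro x hx
    have hx' : (⟨x, hx⟩ : N) ∈ C := hC ▸ Subgroup.mem_top _
    exact ((mem_centralizer_iff.1 (mem_subgroupOf.1 hx')) h (Set.mem_singleton h)).symm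
  by_contra hC
  obtain ⟨r, hr, hrC⟩ := Nat.exists_prime_and_dvd (fun h1 => hC (index_eq_one.1 h1))
  haveI : Fact r.Prime := ⟨hr⟩
  have hnr : ¬ q ∣ Nat.card (Sylow r N) := by
    intro hd
    obtain ⟨R⟩ : Nonempty (Sylow r N) := inferInstance
    exact hN (hd.trans (R.card_dvd_index.trans R.1.index_dvd_card))
  obtain ⟨R, hR⟩ := hP.nonempty_fixed_point_of_prime_not_dvd_card (Sylow r N) hnr
  have hRinv : ∀ (g : P) (x : N), x ∈ (R : Subgroup N) → g • x ∈ (R : Subgroup N) := by
    intro g x hx
    have : g • (R : Subgroup N) = (R : Subgroup N) :=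
      congrArg (fun Q : Sylow r N => (Q : Subgroup N)) (hR g)
    rw [← this]
    exact Subgroup.smul_mem_pointwise_smul x g _ hx
  let S : SubMulAction P N := ⟨((R : Subgroup N) : Set N), fun g {x} hx => hRinv g x hx⟩
  have hmod := hP.card_modEq_card_fixedPoints S
  let D : Subgroup N := (R : Subgroup N) ⊓ C
  have hfix : Nat.card (fixedPoints P S) = Nat.card D := by
    refine Nat.card_congr
      { toFun := fun x => ⟨((x.1 : S) : N), x.1.2, ?_⟩
        invFun := fun x => ⟨⟨(x : N), x.2.1⟩, ?_⟩
        left_inv := fun x => rfl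
        right_inv := fun x => rfl }
    · refine mem_subgroupOf.2 (mem_centralizer_iff.2 fun y hy => ?_)
      rw [Set.mem_singleton_iff.1 hy]
      have h1 : ((⟨h, mem_zpowers h⟩ : P) • ((x.1 : S) : N) : N) = ((x.1 : S) : N) :=
        congrArg (fun z : S => (z : N)) (x.2 ⟨h, mem_zpowers h⟩)
      have h2 : h * (((x.1 : S) : N) : G) * h⁻¹ = (((x.1 : S) : N) : G) :=
        (hact ⟨h, mem_zpowers h⟩ _).symm.trans (congrArg Subtype.val h1)
      rw [mul_inv_eq_iff_eq_mul] at h2
      exact h2
    · intro g
      apply Subtype.ext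
      show g • (x : N) = (x : N)
      apply Subtype.ext
      rw [hact]
      have hc : Commute h ((x : N) : G) :=
        (mem_centralizer_iff.1 (mem_subgroupOf.1 x.2.2)) h (Set.mem_singleton h)
      obtain ⟨j, hj⟩ := mem_zpowers_iff.1 g.2
      rw [← hj, (hc.zpow_left j).eq, mul_inv_cancel_right]
  have hScard : Nat.card S = Nat.card (R : Subgroup N) := rfl
  rw [hfix, hScard] at hmod
  have hRp : IsPGroup r (R : Subgroup N) := R.2
  obtain ⟨k, hk⟩ := hRp.exists_card_eq
  obtain ⟨j, hjk, hj⟩ := (Nat.dvd_prime_pow hr).1 (hk ▸ card_dvd_of_le (inf_le_left : D ≤ _))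
  rw [hk, hj] at hmod
  rcases hjk.lt_or_eq with hlt | rfl
  · obtain ⟨e, rfl⟩ := Nat.exists_eq_add_of_le hlt.le
    have he : 0 < e := by omega
    have hdvd : r ^ (j + e) ∣ Nat.card N := hk ▸ card_subgroup_dvd_card _
    have hqr : ¬ q ∣ r ^ j := fun hd =>
      hN (hd.trans ((pow_dvd_pow r (Nat.le_add_right j e)).trans hdvd))
    have h1 : q ∣ r ^ (j + e) - r ^ j := (Nat.modEq_iff_dvd' (Nat.pow_le_pow_right hr.pos
      (Nat.le_add_right j e))).1 hmod.symm
    rw [show r ^ (j + e) - r ^ j = r ^ j * (r ^ e - 1) by rw [Nat.mul_sub, ← pow_add, mul_one]] at h1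
    exact hpow r e hr he ((pow_dvd_pow r (Nat.le_add_left e j)).trans hdvd)
      (((Fact.out : q.Prime).dvd_mul.1 h1).resolve_left hqr)
  · have hle : (R : Subgroup N) ≤ C := by
      have heq : D = (R : Subgroup N) :=
        eq_of_le_of_card_ge inf_le_left (by rw [hk, hj])
      exact heq ▸ inf_le_right
    exact R.not_dvd_index (hrC.trans (index_dvd_of_le hle))

/-- The criterion: `H` self-normalising, the normal closure of every nontrivial element of `H` is
everything, and an element of `H` of prime order `q` with `r ^ k ≢ 1` modulo `q` for the prime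
powers `r ^ k` dividing the index. -/
theorem isSimpleGroup (H : Subgroup G) (hnorm : normalizer (H : Set G) = H)
    (hclose : ∀ N : Subgroup G, N.Normal → N ⊓ H ≠ ⊥ → N = ⊤)
    (h : G) (hh : h ∈ H) (q : ℕ) [Fact q.Prime] (ho : orderOf h = q) (hq : ¬ q ∣ H.index)
    (hpow : ∀ r k : ℕ, r.Prime → 0 < k → r ^ k ∣ H.index → ¬ q ∣ r ^ k - 1) :
    IsSimpleGroup G := by
  have h1 : h ≠ 1 := fun h1 => by
    rw [h1, orderOf_one] at ho
    exact (Fact.out : q.Prime).one_lt.ne ho
  haveI : Nontrivial G := ⟨⟨h, 1, h1⟩⟩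
  refine ⟨fun N hN => ?_⟩
  by_cases hNH : N ⊓ H = ⊥
  · left
    have hd := card_dvd_index_of_inf_eq_bot H N hNH
    have hc : h ∈ centralizer (N : Set G) := mem_centralizer_of_prime_pow N h q ho
      (fun hq' => hq (hq'.trans hd)) fun r k hr hk hrk => hpow r k hr hk (hrk.trans hd)
    have htop : centralizer (N : Set G) = ⊤ := hclose _ inferInstance fun he =>
      h1 (by
        have : h ∈ centralizer (N : Set G) ⊓ H := ⟨hc, hh⟩
        rwa [he, mem_bot] at this)
    have hle : N ≤ H := by
      intro x hx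
      rw [← hnorm]
      refine mem_normalizer_iff.2 fun y => ?_
      have hy : y ∈ centralizer (N : Set G) := htop ▸ Subgroup.mem_top y
      rw [mem_centralizer_iff.1 hy x hx, mul_inv_cancel_right]
    rwa [inf_eq_left.2 hle] at hNH
  · exact Or.inr (hclose N hN hNH)

end Cfsg.Agent.IndexSimple
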