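import Mathlib
import Cfsg.Statements.S4482
import Cfsg.Agent.BlockThms.Dihedral.Order

set_option autoImplicit false
open Cfsg

namespace Cfsg.Agent.S4482

open DihedralGroup Cfsg.Agent Cfsg.Agent.Invol Cfsg.Agent.BlockThms.Dihedral


/-- An order formula for groups with dihedral Sylow 2-subgroups and one class of involutions. Let G be a finite group whose Sylow 2-subgroup P = ⟨σ, τ⟩ is dihedral of order 2^n ≥ 8 (σ of order 2^(n−1), τ an involution inverting σ), let J be the central involution σ^(2^(n−2)), and suppose J, τ and στ are conjugate in G. Fix M over 2 and let χ₁ be an irreducible character in the principal 2-block taking one constant value δ₁ = ±1 at every non-identity power of σ, with χ₁ ≠ 1. Then, with x₁ = χ₁(1) and c(·) denoting orders of centralizers, x₁ ≠ δ₁ and #G · (x₁ − δ₁)² = 2·x₁(x₁ + δ₁)·c(J)³·(1/c(J, τ) + 1/c(J, στ))², where c(J, y) is the order of the joint centralizer of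 J and y. -/
theorem result {G : Type*} [Group G] [Finite G] (M : Ideal Cfsg.AlgInt) (hM : Cfsg.IsPModular 2 M) (n : ℕ) (hn : 3 ≤ n) (P : Sylow 2 G) (σ τ : G) (hσ : σ ∈ (P : Subgroup G)) (hτ : τ ∈ (P : Subgroup G)) (hσo : orderOf σ = 2 ^ (n - 1)) (hτo : orderOf τ = 2) (hrel : τ * σ * τ⁻¹ = σ⁻¹) (hgen : Subgroup.closure ({σ, τ} : Set G) = (P : Subgroup G)) (hconj : IsConj (σ ^ (2 ^ (n - 2))) τ ∧ IsConj (σ ^ (2 ^ (n - 2))) (σ * τ)) (χ₁ : Cfsg.IrrCharacter G) (hχ₁ : χ₁ ∈ Cfsg.principalBlock M G) (h1 : (χ₁ : G → ℂ) ≠ (fun _ => 1)) (δ₁ : ℤ) (hδ₁ : δ₁ = 1 ∨ δ₁ = -1) (hval : ∀ l : ℕ, 0 < l → l < 2 ^ (n - 1) → (χ₁ : G → ℂ) (σ ^ l) = δ₁) : (Cfsg.charDegree (χ₁ : G → ℂ) : ℤ) ≠ δ₁ ∧ (Nat.card G : ℚ) * ((Cfsg.charDegree (χ₁ : G → ℂ) : ℚ) - δ₁) ^ 2 = 2 * (Cfsg.charDegree (χ₁ : G → ℂ) : ℚ) * ((Cfsg.charDegree (χ₁ : G → ℂ) : ℚ) + δ₁) * (Nat.card (Subgroup.centralizer ({σ ^ (2 ^ (n - 2))} : Set G)) : ℚ) ^ 3 * (1 /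 (Nat.card (Subgroup.centralizer ({σ ^ (2 ^ (n - 2)), τ} : Set G)) : ℚ) + 1 / (Nat.card (Subgroup.centralizer ({σ ^ (2 ^ (n - 2)), σ * τ} : Set G)) : ℚ)) ^ 2 := by
  classical
  have hne := h1
  clear h1
  have := Fintype.ofFinite G
  obtain ⟨k, rfl⟩ : ∃ k, n = k + 1 := ⟨n - 1, by omega⟩
  have hk : 2 ≤ k := by omega
  simp only [show k + 1 - 2 = k - 1 by omega, Nat.add_sub_cancel] at hσo hval hconj ⊢
  have hrange : ∀ ι : DihedralGroup (2 ^ k) →* G, Function.Injective ι → ι (r 1) = σ →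
      ι (sr 0) = τ → (P : Subgroup G) ≤ ι.range := by
    intro ι _ h1 h0
    rw [← hgen, Subgroup.closure_le]
    rintro x (rfl | rfl)
    · exact ⟨_, h1⟩
    · exact ⟨_, h0⟩
  obtain ⟨ι, D, h1, h0⟩ := ddata_of_gen hk hσ hτ hσo hτo hrel hrange
  obtain ⟨π, h⟩ := exists_proj D
  have hζ := Complex.isPrimitiveRoot_exp (2 ^ k) (pow_ne_zero k two_ne_zero)
  have he : (AddChar.zmodChar (2 ^ k) hζ.pow_eq_one).IsPrimitive :=
    AddChar.zmodChar_primitive_of_primitive_root _ hζ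
  have hJ : σ ^ 2 ^ (k - 1) = ι (r (dh k)) := by rw [← h1, map_natCast_rotation, natCast_dh]
  have hστ : σ * τ = ι (sr (-1)) := by rw [← h1, ← h0, ← map_mul, r_mul_sr, zero_sub]
  have hconj' : ∀ a, IsConj (ι (r (dh k))) (ι (sr a)) := by
    intro a
    have hc : ∀ c, IsConj (ι (sr a)) (ι (sr (a - 2 * c))) := fun c =>
      isConj_iff.2 ⟨ι (r c), by rw [← map_inv, ← map_mul, ← map_mul, r_conj_sr D.pos]⟩
    rw [← hJ]
    obtain ⟨c, hc' | hc'⟩ := dparity a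
    · have h' := hc c
      rw [show a - 2 * c = 0 by rw [hc', sub_self], h0] at h'
      exact hconj.1.trans h'.symm
    · have h' := hc (c + 1)
      rw [show a - 2 * (c + 1) = -1 by rw [hc']; ring, ← hστ] at h'
      exact hconj.2.trans h'.symm
  obtain ⟨hpos, key⟩ := h.order_formula D he hk hM hconj' hχ₁ hne δ₁ hδ₁
    (fun l hl0 hl => by rw [← map_natCast_rotation, h1]; exact hval l hl0 hl)
  rw [hJ, hστ, ← h0]
  obtain ⟨A, B, hAB, hA, hB⟩ := h.card_refl D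
  rw [hAB] at key
  show _ ∧ _
  set c := Nat.card (cJ ι) with hc
  set c1 := Nat.card (Subgroup.centralizer ({ι (r (dh k)), ι (sr 0)} : Set G)) with hc1
  set c2 := Nat.card (Subgroup.centralizer ({ι (r (dh k)), ι (sr (-1))} : Set G)) with hc2
  set x := Cfsg.charDegree (χ₁ : G → ℂ) with hx
  have c1pos : 0 < c1 := Nat.card_pos
  have c2pos : 0 < c2 := Nat.card_pos
  have cpos : 0 < c := Nat.card_pos
  have xpos : 0 < x := Blocks.charDegree_pos χ₁.2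
  have keyQ : (Nat.card G : ℚ) * ((x : ℚ) - δ₁) ^ 2 =
      2 * (x : ℚ) * ((x : ℚ) + δ₁) * (c : ℚ) * ((A : ℚ) + B) ^ 2 := by
    apply Rat.cast_injective (α := ℂ)
    push_cast
    push_cast at key
    exact key
  refine ⟨fun he' => ?_, ?_⟩
  · have hx' : (x : ℚ) = δ₁ := by exact_mod_cast he'
    have hApos : 0 < A := Nat.pos_of_ne_zero fun h' => by rw [h', zero_mul] at hA; omega
    rw [show (x : ℚ) - δ₁ = 0 by linarith, zero_pow two_ne_zero, mul_zero] at keyQ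
    have hd : (0 : ℚ) < (x : ℚ) + δ₁ := by exact_mod_cast hpos
    have : 0 < 2 * (x : ℚ) * ((x : ℚ) + δ₁) * (c : ℚ) * ((A : ℚ) + B) ^ 2 := by positivity
    linarith
  · have hAq : (A : ℚ) = c / c1 := by
      rw [eq_div_iff (Nat.cast_ne_zero.2 c1pos.ne'), ← Nat.cast_mul, hA]
    have hBq : (B : ℚ) = c / c2 := by
      rw [eq_div_iff (Nat.cast_ne_zero.2 c2pos.ne'), ← Nat.cast_mul, hB]
    rw [hAq, hBq] at keyQ
    linear_combination keyQ

end Cfsg.Agent.S4482
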