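import Cfsg.Statements.S3224
import Cfsg.Agent.MaxClass.Class

set_option autoImplicit false
open Cfsg

namespace Cfsg.Agent.S3224

/-- A finite 2-group containing an involution whose centralizer has order 4 is dihedral, quasi-dihedral (semidihedral), or of order 4. -/
theorem result {S : Type*} [Group S] [Finite S] (hS : IsPGroup 2 S)
    (x : S) (hx : orderOf x = 2) (hC : Nat.card ↥(Subgroup.centralizer ({x} : Set S)) = 4) :
    (∃ n : ℕ, Nonempty (S ≃* DihedralGroup n)) ∨ Cfsg.IsQuasiDihedral S ∨ Nat.card S = 4 := by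
  rcases MaxClass.mc_of_centralizer hS x hC with h | ⟨k, hk⟩ | ⟨k, hc, a, b, ha, hb, he⟩ | ⟨k, ⟨e⟩⟩
  · exact Or.inr (Or.inr h)
  · exact Or.inl ⟨_, hk⟩
  · exact Or.inr (Or.inl (MaxClass.isQuasiDihedral_of_data hc ha hb he))
  · refine Or.inr (Or.inr ?_)
    have htop : Subgroup.centralizer ({x} : Set S) = ⊤ := eq_top_iff.2 fun g _ =>
      Subgroup.mem_centralizer_singleton_iff.2 (e.injective (by
        rw [map_mul, map_mul]
        exact MaxClass.quaternion_involution_central
          ((orderOf_injective e.toMonoidHom e.injective x).trans hx) (e g)))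
    rwa [htop, Subgroup.card_top] at hC

end Cfsg.Agent.S3224
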