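import Cfsg.Statements.S3116
import Mathlib

set_option autoImplicit false
open Cfsg

namespace Cfsg.Agent.S3116

theorem isPGroup_mulAut {X : Type*} [Group X] [Finite X] (r : X) {k : ℕ} (hr : orderOf r = 2 ^ k)
    (hindex : Nat.card X = 2 * 2 ^ k)
    (hout : ∀ y : X, y ∉ Subgroup.zpowers r → orderOf y < 2 ^ k) : IsPGroup 2 (MulAut X) := by
  intro φ
  refine ⟨(orderOf φ).factorization 2, ?_⟩
  set ψ := φ ^ 2 ^ (orderOf φ).factorization 2 with hψ
  have hodd : Odd (orderOf ψ) := by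
    rw [hψ, orderOf_pow_of_dvd (by positivity) (Nat.ordProj_dvd _ _)]
    exact Nat.coprime_two_left.1 (Nat.coprime_ordCompl Nat.prime_two (orderOf_pos φ).ne')
  obtain ⟨m, hm⟩ := hodd
  have hψr : ψ r ∈ Subgroup.zpowers r := by
    by_contra h
    have := hout _ h
    rw [MulEquiv.orderOf_eq, hr] at this
    exact lt_irrefl _ this
  obtain ⟨i, hi⟩ := Subgroup.mem_zpowers_iff.1 hψr
  have hit : ∀ j : ℕ, (ψ ^ j) r = r ^ (i ^ j) := by
    intro j
    induction j with
    | zero => simp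
    | succ j ih => rw [pow_succ', MulAut.mul_apply, ih, map_zpow, ← hi, ← zpow_mul, ← pow_succ']
  have hmod : ((2 ^ k : ℕ) : ℤ) ∣ i ^ (2 * m + 1) - 1 := by
    have := hit (2 * m + 1)
    rw [← hm, pow_orderOf_eq_one] at this
    rw [← hr, orderOf_dvd_iff_zpow_eq_one, zpow_sub, ← hm, ← this]
    simp
  have hk0 : k ≠ 0 := by
    rintro rfl
    obtain ⟨y, hy⟩ : ∃ y, y ∉ Subgroup.zpowers r := by
      by_contra hall
      simp only [not_exists, not_not] at hall
      have := Nat.card_zpowers r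
      rw [(Subgroup.eq_top_iff' _).2 hall, Subgroup.card_top, hindex, hr] at this
      omega
    have := hout y hy
    have := orderOf_pos y
    omega
  have hiodd : Odd i := by
    by_contra he
    rw [Int.not_odd_iff_even] at he
    have h2 : (2 : ℤ) ∣ i ^ (2 * m + 1) - 1 := dvd_trans (by push_cast; exact dvd_pow_self 2 hk0) hmod
    have h3 : (2 : ℤ) ∣ i ^ (2 * m + 1) := dvd_pow he.two_dvd (by omega)
    have := dvd_sub h3 h2
    simp at this
  have hfix : ψ r = r := by
    rw [← hi]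
    conv_rhs => rw [← zpow_one r]
    rw [← mul_inv_eq_one, ← zpow_neg, ← zpow_add, ← sub_eq_add_neg, ← orderOf_dvd_iff_zpow_eq_one,
      hr]
    rw [← geom_sum_mul] at hmod
    refine IsCoprime.dvd_of_dvd_mul_left ?_ hmod
    push_cast
    apply IsCoprime.pow_left
    have hS : ∀ j : ℕ, Odd (∑ l ∈ Finset.range (2 * j + 1), i ^ l) := by
      intro j
      induction j with
      | zero => simp
      | succ j ih =>
        rw [show 2 * (j + 1) + 1 = 2 * j + 1 + 1 + 1 by ring,
          Finset.sum_range_succ _ (2 * j + 1 + 1), Finset.sum_range_succ _ (2 * j + 1), add_assoc]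
        exact ih.add_even (hiodd.pow.add_odd hiodd.pow)
    obtain ⟨l, hl⟩ := hS m
    exact ⟨-l, 1, by rw [hl]; ring⟩
  apply MulEquiv.ext
  intro y
  have hfz : ∀ z ∈ Subgroup.zpowers r, ψ z = z := fun z hz => by
    obtain ⟨j, rfl⟩ := Subgroup.mem_zpowers_iff.1 hz
    rw [map_zpow, hfix]
  rw [MulAut.one_apply]
  by_cases hy : y ∈ Subgroup.zpowers r
  · exact hfz y hy
  have hidx : (Subgroup.zpowers r).index = 2 := by
    have h1 := (Subgroup.zpowers r).card_mul_index
    rw [Nat.card_zpowers, hr, hindex] at h1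
    exact Nat.eq_of_mul_eq_mul_left (Nat.two_pow_pos k) (h1.trans (mul_comm _ _))
  have hψy : ψ y ∉ Subgroup.zpowers r := fun h => hy (by
    have : ψ (ψ y) = ψ y := hfz _ h
    exact ψ.injective this ▸ h)
  have hc : y⁻¹ * ψ y ∈ Subgroup.zpowers r := by
    rw [Subgroup.mul_mem_iff_of_index_two hidx]
    simp [hy, hψy]
  set c := y⁻¹ * ψ y with hcdef
  have hyc : ∀ j : ℕ, (ψ ^ j) y = y * c ^ j := by
    intro j
    induction j with
    | zero => simp
    | succ j ih =>
      rw [pow_succ', MulAut.mul_apply, ih, map_mul, map_pow, hfz c hc, pow_succ', ← mul_assoc,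
        hcdef, mul_inv_cancel_left]
  have h1 := hyc (2 * m + 1)
  rw [← hm, pow_orderOf_eq_one, MulAut.one_apply, left_eq_mul, hm] at h1
  have hd1 : orderOf c ∣ 2 * m + 1 := orderOf_dvd_of_pow_eq_one h1
  have hd2 : orderOf c ∣ 2 ^ k := hr ▸ orderOf_dvd_of_mem_zpowers hc
  have hcop : Nat.Coprime (2 * m + 1) (2 ^ k) :=
    ((Nat.coprime_two_right (n := 2 * m + 1)).2 ⟨m, rfl⟩).pow_right k
  have := orderOf_eq_one_iff.1 (Nat.eq_one_of_dvd_coprimes hcop hd1 hd2)
  rw [hcdef, inv_mul_eq_one] at this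
  exact this.symm


/-- The automorphism group of a dihedral 2-group of order at least 8, or of a quasi-dihedral (semidihedral) 2-group of order at least 16, is a 2-group. -/
theorem result {X : Type*} [Group X] [Finite X] (h2 : IsPGroup 2 X)
    (h : (∃ n : ℕ, 4 ≤ n ∧ Nonempty (X ≃* DihedralGroup n)) ∨ Cfsg.IsQuasiDihedral X) : IsPGroup 2 (MulAut X) := by
  classical
  have : Fact (Nat.Prime 2) := ⟨Nat.prime_two⟩
  rcases h with ⟨n, hn, ⟨e⟩⟩ | ⟨n, hn, hcard, x, y, hx, hy, hyx⟩
  · have : NeZero n := ⟨by omega⟩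
    have hc : Nat.card X = 2 * n := by
      rw [Nat.card_congr e.toEquiv, Nat.card_eq_fintype_card, DihedralGroup.card]
    obtain ⟨k, hk⟩ := IsPGroup.iff_card.1 h2
    obtain ⟨j, -, hj⟩ := (Nat.dvd_prime_pow Nat.prime_two).1
      (⟨2, by omega⟩ : n ∣ 2 ^ k)
    have hr : orderOf (e.symm (DihedralGroup.r 1)) = 2 ^ j := by
      rw [MulEquiv.orderOf_eq, DihedralGroup.orderOf_r_one, hj]
    refine isPGroup_mulAut _ hr (by omega) fun z hz => ?_
    rw [← MulEquiv.orderOf_eq e]
    cases hez : e z with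
    | r i =>
      exfalso
      apply hz
      rw [← e.symm_apply_apply z, hez]
      refine Subgroup.mem_zpowers_iff.2 ⟨(i.val : ℤ), ?_⟩
      rw [zpow_natCast, ← map_pow, DihedralGroup.r_one_pow, ZMod.natCast_zmod_val]
    | sr i => rw [DihedralGroup.orderOf_sr]; omega
  · have hyn : y ∉ Subgroup.zpowers x := by
      intro h
      obtain ⟨i, rfl⟩ := Subgroup.mem_zpowers_iff.1 h
      rw [((Commute.refl x).zpow_left i).eq, mul_inv_cancel_right] at hyx
      have h4 : x ^ (2 ^ (n - 1) - 2) = 1 := by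
        rw [← mul_eq_left (a := x), ← pow_succ']
        have : 2 ≤ 2 ^ (n - 1) := Nat.le_self_pow (by omega) 2
        rw [show 2 ^ (n - 1) - 2 + 1 = 2 ^ (n - 1) - 1 by omega, ← hyx]
      have hpos : 2 ^ 2 ≤ 2 ^ (n - 1) := Nat.pow_le_pow_right two_pos (by omega)
      have h5 := Nat.le_of_dvd (by omega) (orderOf_dvd_of_pow_eq_one h4)
      rw [hx] at h5
      have : 2 ^ n = 2 * 2 ^ (n - 1) := by rw [← pow_succ', show n - 1 + 1 = n by omega]
      omega
    have hidx : (Subgroup.zpowers x).index = 2 := by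
      have h1 := (Subgroup.zpowers x).card_mul_index
      rw [Nat.card_zpowers, hx, hcard, pow_succ] at h1
      exact Nat.eq_of_mul_eq_mul_left (Nat.two_pow_pos n) h1
    refine isPGroup_mulAut x hx (by rw [hcard, pow_succ']) fun z hz => ?_
    have hw : z * y ∈ Subgroup.zpowers x := by
      rw [Subgroup.mul_mem_iff_of_index_two hidx]
      simp [hz, hyn]
    obtain ⟨i, hi⟩ := Subgroup.mem_zpowers_iff.1 hw
    have hy2 : y * y = 1 := by rw [← sq, ← hy, pow_orderOf_eq_one]
    have hyi : y⁻¹ = y := inv_eq_of_mul_eq_one_right hy2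
    have hz' : z = x ^ i * y := by rw [hi, mul_assoc, hy2, mul_one]
    have hsq : z * z = x ^ (i * 2 ^ (n - 1)) := by
      have h1 : y * x ^ i * y⁻¹ = x ^ (((2 ^ (n - 1) - 1 : ℕ) : ℤ) * i) := by
        rw [← conj_zpow, hyx, ← zpow_natCast, ← zpow_mul]
      rw [hyi] at h1
      rw [hz', mul_assoc, ← mul_assoc y, h1, ← zpow_add]
      congr 1
      rw [Nat.cast_sub Nat.one_le_two_pow]
      push_cast
      ring
    have hord : orderOf z ∣ 4 := by
      apply orderOf_dvd_of_pow_eq_one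
      rw [show 4 = 2 * 2 from rfl, pow_mul, sq z, hsq, ← zpow_natCast (x ^ _), ← zpow_mul,
        ← orderOf_dvd_iff_zpow_eq_one, hx]
      push_cast
      rw [mul_assoc]
      exact dvd_mul_of_dvd_right (by rw [← pow_succ]; exact pow_dvd_pow _ (by omega)) _
    have := Nat.le_of_dvd (by norm_num) hord
    have : 2 ^ 3 ≤ 2 ^ n := Nat.pow_le_pow_right two_pos hn
    omega

end Cfsg.Agent.S3116
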