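import Cfsg.Statements.S0292
import Cfsg.Agent.Classical.OrthPOmega
-- import your own Cfsg.Agent.* helpers here

set_option autoImplicit false
open Cfsg

namespace Cfsg.Agent.S0292

/-- 2 |PΩ_{2m+1}(q)| = q^(m^2) prod_{i=1}^{m} (q^(2i) - 1), for q odd and m at least 3 (type B_m). -/
theorem result {F : Type*} [Field F] [Fintype F] {q : ℕ} (hF : Fintype.card F = q) (hodd : Odd q) (m : ℕ) (hm : 3 ≤ m) : 2 * Nat.card (Cfsg.POmega F (Cfsg.quadFormOdd m F)) = q ^ (m ^ 2) * ∏ i ∈ Finset.range m, (q ^ (2 * (i + 1)) - 1) := by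
  have h2 : (2 : F) ≠ 0 := Ring.two_ne_zero fun h => by
    have h' := FiniteField.even_card_of_char_two h
    rw [hF] at h'
    obtain ⟨r, hr⟩ := hodd
    omega
  open Cfsg.Agent.Classical.Quad QuadraticMap in
    let Q : QuadraticForm F (Unit ⊕ (Fin m ⊕ Fin m) → F) := (hyp (sqForm F) m).comp (oddCoord m).toLinearMap
    have hQe : ⇑Q = Cfsg.quadFormOdd m F := funext fun x => by simp [Q, oddCoord_map]
    have hQ : (polarBilin Q).Nondegenerate :=
      Iso.nondeg (Iso.symm ⟨oddCoord m, fun x => by simp [Q]⟩) (nondeg_hyp (nondeg_sqForm h2) m)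
    have hd : Module.finrank F (Unit ⊕ (Fin m ⊕ Fin m) → F) = 2 * m + 1 := by simp; ring
    have hno : ¬ ∃ g : Cfsg.isometryGroup F ⇑Q, g ∈ Cfsg.Omega F ⇑Q ∧
        ((g : Matrix.GeneralLinearGroup (Unit ⊕ (Fin m ⊕ Fin m)) F) :
          Matrix (Unit ⊕ (Fin m ⊕ Fin m)) (Unit ⊕ (Fin m ⊕ Fin m)) F) = -1 := by
      rintro ⟨g, hg, hg1⟩
      have hd1 := det_eq_dickson hQ (hex_of_two h2 _) g
      rw [((mem_commutator_iff hQ h2 (by omega) _).1 ((mem_omega_iff g).1 hg)).1, hg1, Matrix.det_neg,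
        Matrix.det_one, mul_one] at hd1
      simp [Fintype.card_sum, ← two_mul, pow_add, pow_mul] at hd1
      exact h2 (by linear_combination -hd1)
    have h1 := (card_center_omega hQ (by omega)).2 (Or.inl hno)
    have h3 := card_pomega_mul (Q := Q)
    rw [h1, mul_one, index_omega, index_commutator_odd hQ h2 (by omega)] at h3
    rw [hQe] at h3
    rw [Cfsg.Agent.Classical.Quad.card_isometryGroup_eq (oddCoord m) (oddCoord_map m), card_oG_odd hF h2,
      mul_assoc 2] at h3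
    omega

end Cfsg.Agent.S0292
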