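import Cfsg.Statements.S1228
import Cfsg.Agent.Invol.ECTransitive

set_option autoImplicit false
open Cfsg

namespace Cfsg.Agent.S1228

open Cfsg.Agent.Invol

/-- Let G be a finite group with a Sylow 2-subgroup T that is neither cyclic nor normal, such that the centralizer of every involution is an elementary abelian 2-group; put H = N_G(T), let u be an involution outside H and D = H ∩ uHu⁻¹. Then N_G(D) = D ⊔ ⟨u⟩, and a coset gH is fixed by every element of D exactly when gH = H or gH = uH. -/
theorem result {G : Type*} [Group G] [Finite G] (T : Sylow 2 G) (hnc : ¬ IsCyclic (T : Subgroup G)) (hnn : ¬ (T : Subgroup G).Normal) (hC : ∀ t : G, orderOf t = 2 → IsMulCommutative (Subgroup.centralizer ({t} : Set G)) ∧ ∀ c ∈ Subgroup.centralizer ({t} : Set G), c ^ 2 = 1) (u : G) (hu : orderOf u = 2) (huH : u ∉ Subgroup.normalizer ((T : Subgroup G) : Set G)) : Subgroup.normalizer ((Subgroup.normalizer ((T : Subgroup G) : Set G) ⊓ (Subgroup.normalizer ((T : Subgroup G) : Set G)).map (MulAut.conj u).toMonoidHom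 : Subgroup G) : Set G) = (Subgroup.normalizer ((T : Subgroup G) : Set G) ⊓ (Subgroup.normalizer ((T : Subgroup G) : Set G)).map (MulAut.conj u).toMonoidHom) ⊔ Subgroup.zpowers u ∧ ∀ g : G, ((∀ d ∈ Subgroup.normalizer ((T : Subgroup G) : Set G) ⊓ (Subgroup.normalizer ((T : Subgroup G) : Set G)).map (MulAut.conj u).toMonoidHom, d • (QuotientGroup.mk g : G ⧸ Subgroup.normalizer ((T : Subgroup G) : Set G)) = QuotientGroup.mk g) ↔ (QuotientGroup.mk g : G ⧸ Subgroup.normalizer ((T : Subgroup G) : Set G)) = QuotientGroup.mk 1 ∨ (QuotientGroup.mk g : G ⧸ Subgroup.normalizer ((T : Subgroup G) : Set G)) = QuotientGroup.mk u) := by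
  have E : ECData T u := ⟨hnc, hnn, hC, hu, huH⟩
  set H := Subgroup.normalizer ((T : Subgroup G) : Set G) with hH
  set D := H ⊓ H.map (MulAut.conj u).toMonoidHom with hD
  have huu := mul_self_eq_one hu
  have huo : u • (QuotientGroup.mk 1 : G ⧸ H) = QuotientGroup.mk u := by
    rw [MulAction.Quotient.smul_mk, smul_eq_mul, mul_one]
  obtain ⟨d0, hd0, hd01⟩ := E.exists_ne_one
  have hfix : ∀ x : G ⧸ H, (∀ d ∈ D, d • x = x) ↔ x = ecBase T ∨ x = u • ecBase T := fun x =>
    ⟨fun h => E.fix_two hd0 hd01 (h d0 hd0), by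
      rintro (rfl | rfl) d hd
      exacts [(E.mem_D.1 hd).1, (E.mem_D.1 hd).2]⟩
  refine ⟨le_antisymm (fun n hn => ?_) (sup_le Subgroup.le_normalizer (Subgroup.zpowers_le.2 ?_)),
    fun g => by rw [← huo]; exact hfix _⟩
  · have key : ∀ x : G ⧸ H, (∀ d ∈ D, d • x = x) → ∀ d ∈ D, d • n • x = n • x := by
      intro x hx d hd
      have h' : n⁻¹ * d * n ∈ D := by
        have := (Subgroup.mem_normalizer_iff.1 (inv_mem hn) d).1 hd
        rwa [inv_inv] at this
      rw [show d • n • x = n • (n⁻¹ * d * n) • x by rw [mul_smul, mul_smul, smul_inv_smul], hx _ h']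
    have h1 := (hfix _).1 (key _ ((hfix _).2 (Or.inl rfl)))
    have h2 := (hfix _).1 (key _ ((hfix _).2 (Or.inr rfl)))
    rcases h1 with h1 | h1
    · refine Subgroup.mem_sup_left (E.mem_D.2 ⟨h1, h2.resolve_left fun e => E.out_base ?_⟩)
      exact smul_left_cancel n (e.trans h1.symm)
    · have h3 : n • u • ecBase T = ecBase T := h2.resolve_right fun e =>
        E.out_base (smul_left_cancel n (e.trans h1.symm))
      have h4 : u * n ∈ D := E.mem_D.2 ⟨by rw [mul_smul, h1, smul_smul, huu, one_smul],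
        by rw [mul_smul, h3]⟩
      rw [show n = u * (u * n) by rw [← mul_assoc, huu, one_mul]]
      exact Subgroup.mul_mem _ (Subgroup.mem_sup_right (Subgroup.mem_zpowers u)) (Subgroup.mem_sup_left h4)
  · refine Subgroup.mem_normalizer_iff.2 fun x => ⟨fun hx => ?_, fun hx => ?_⟩
    · rw [ec_inverts hnc hnn hC hu huH hx]
      exact inv_mem hx
    · have h := ec_inverts hnc hnn hC hu huH hx
      rw [inv_eq_self hu, show u * (u * x * u) * u = (u * u) * x * (u * u) by group, huu, one_mul,
        mul_one] at h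
      rw [h]
      rw [inv_eq_self hu] at hx
      exact inv_mem hx

end Cfsg.Agent.S1228
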