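import Cfsg.Statements.S4735
import Cfsg.Agent.BlockThms.NormalCor
import Cfsg.Agent.Char.FixedBlock
import Cfsg.Agent.Char.Zero
import Cfsg.Agent.Core.PCore

set_option autoImplicit false
open Cfsg

namespace Cfsg.Agent.S4735

/-- Let p be a prime, M a maximal ideal of the algebraic integers containing p, G a finite group, H = O_p'(G) and Ḡ = G/H. For x ∈ G write λ(G, x) for the sum of |χ(x)|^2 over the irreducible characters χ in the principal p-block of G. Then λ(G, x) is a positive integer, λ(G, x) = λ(Ḡ, x̄) where x̄ is the image of x, and λ(G, x) ≤ #C_Ḡ(x̄). Moreover λ(G, 1) = [G : H] if and only if the principal block is the only p-block of Ḡ. -/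
theorem result {G : Type*} [Group G] [Finite G] (p : ℕ) [Fact p.Prime] (M : Ideal Cfsg.AlgInt) (hM : Cfsg.IsPModular p M) (x : G) : (∃ n : ℕ, 0 < n ∧ ∑ᶠ χ ∈ Cfsg.principalBlock M G, Complex.normSq ((χ : G → ℂ) x) = n) ∧ ∑ᶠ χ ∈ Cfsg.principalBlock M G, Complex.normSq ((χ : G → ℂ) x) = ∑ᶠ ψ ∈ Cfsg.principalBlock M (G ⧸ Cfsg.pPrimeCore p G), Complex.normSq ((ψ : G ⧸ Cfsg.pPrimeCore p G → ℂ) (QuotientGroup.mk x)) ∧ ∑ᶠ χ ∈ Cfsg.principalBlock M G, Complex.normSq ((χ : G → ℂ) x) ≤ (Nat.card ↥(Subgroup.centralizer ({(QuotientGroup.mk x : G ⧸ Cfsg.pPrimeCore p G)} : Set (G ⧸ Cfsg.pPrimeCore p G))) : ℝ) ∧ ((∑ᶠ χ ∈ Cfsg.principalBlock M G, Cfsg.charDegree (χ : G → ℂ) ^ 2) = (Cfsg.pPrimeCore p G).index ↔ ∀ B : Set (Cfsg.IrrCharacter (G ⧸ Cfsg.pPrimeCore p G)), Cfsg.IsPBlock M B → B = Cfsg.principalBlock M (G ⧸ Cfsg.pPrimeCore p G)) := by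
  classical
  have := Fintype.ofFinite G
  set N := Cfsg.pPrimeCore p G with hN
  have hNp : ¬ p ∣ Nat.card N := (Fact.out : p.Prime).coprime_iff_not_dvd.1 Core.coprime_card_pPrimeCore.symm
  have := Fintype.ofFinite N
  have := Fintype.ofFinite (G ⧸ N)
  let oneG : IrrCharacter G := ⟨fun _ => 1, Char.isIrrCharacter_one⟩
  let oneQ : IrrCharacter (G ⧸ N) := ⟨fun _ => 1, Char.isIrrCharacter_one⟩
  set BG := Cfsg.principalBlock M G with hBG
  set BQ := Cfsg.principalBlock M (G ⧸ N) with hBQ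
  set SG := Finset.univ.filter (· ∈ BG) with hSG
  set SQ := Finset.univ.filter (· ∈ BQ) with hSQ
  let infl : IrrCharacter (G ⧸ N) → IrrCharacter G := fun ψ => ⟨_, Char.isIrrCharacter_mk N ψ.2⟩
  have hinfl : ∀ ψ ∈ BQ, infl ψ ∈ BG := fun ψ hψ =>
    BlockThms.sameBlock_comp_mk N hM oneQ ψ hψ
  have hsurj : ∀ χ ∈ BG, ∃ ψ ∈ BQ, infl ψ = χ := by
    intro χ hχ
    obtain ⟨ψ', he, hb⟩ := BlockThms.exists_inflated N hM hNp oneQ χ hχ
    exact ⟨ψ', hb, Subtype.ext he.symm⟩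
  have hinj : Function.Injective infl := fun a b h => Subtype.ext (funext fun q => by
    obtain ⟨g, rfl⟩ := QuotientGroup.mk_surjective q
    exact congrFun (congrArg Subtype.val h) g)
  have hsum : ∀ (F : ℂ → ℝ) (y : G), ∑ χ ∈ SG, F ((χ : G → ℂ) y) =
      ∑ ψ ∈ SQ, F ((ψ : G ⧸ N → ℂ) (y : G ⧸ N)) := by
    intro F y
    refine (Finset.sum_bij (fun ψ _ => infl ψ) (fun ψ hψ => ?_) (fun a _ b _ h => hinj h)
      (fun χ hχ => ?_) fun ψ _ => rfl).symm
    · exact Finset.mem_filter.2 ⟨Finset.mem_univ _, hinfl ψ (Finset.mem_filter.1 hψ).2⟩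
    · obtain ⟨ψ, hψ, he⟩ := hsurj χ (Finset.mem_filter.1 hχ).2
      exact ⟨ψ, Finset.mem_filter.2 ⟨Finset.mem_univ _, hψ⟩, he⟩
  have e1 : ∑ᶠ χ ∈ BG, Complex.normSq ((χ : G → ℂ) x) =
      ∑ χ ∈ SG, Complex.normSq ((χ : G → ℂ) x) :=
    finsum_mem_eq_sum_of_inter_support_eq _ (by simp [hSG])
  have e2 : ∑ᶠ ψ ∈ BQ, Complex.normSq ((ψ : G ⧸ N → ℂ) (x : G ⧸ N)) =
      ∑ ψ ∈ SQ, Complex.normSq ((ψ : G ⧸ N → ℂ) (x : G ⧸ N)) :=
    finsum_mem_eq_sum_of_inter_support_eq _ (by simp [hSQ])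
  rw [e1, e2]
  refine ⟨?_, hsum Complex.normSq x, ?_, ?_⟩
  · set z : ℂ := ∑ χ ∈ SG, (χ : G → ℂ) x * (χ : G → ℂ) x⁻¹ with hz
    have hzr : z = ((∑ χ ∈ SG, Complex.normSq ((χ : G → ℂ) x) : ℝ) : ℂ) := by
      rw [hz, Complex.ofReal_sum]
      exact Finset.sum_congr rfl fun χ _ => by
        rw [Char.IsChar.inv_eq_conj (Char.IsIrr.isCharacter χ.2), Complex.mul_conj]
    have hcyc : z ∈ Char.cycField (Nat.card G) := sum_mem fun χ _ =>
      mul_mem (Char.IsChar.mem_cycField (Char.IsIrr.isCharacter χ.2) x)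
        (Char.IsChar.mem_cycField (Char.IsIrr.isCharacter χ.2) x⁻¹)
    obtain ⟨q, hq⟩ := Char.exists_rat_of_fixed Nat.card_pos.ne' hcyc fun k σ hk hσ => by
      have hval : ∀ (χ : IrrCharacter G) (g : G), σ ((χ : G → ℂ) g) = (χ : G → ℂ) (g ^ k) :=
        fun χ g => Char.galois_apply_pow σ hσ (Char.IsIrr.isCharacter χ.2) (orderOf_dvd_natCard g)
      let P : IrrCharacter G → IrrCharacter G := fun χ =>
        ⟨_, Char.isIrr_comp_pow k hk χ.2⟩
      have hPmem : ∀ χ ∈ SG, P χ ∈ SG := by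
        intro χ hχ
        refine Finset.mem_filter.2 ⟨Finset.mem_univ _, fun g => ?_⟩
        have h := (Finset.mem_filter.1 hχ).2 (g ^ k)
        simpa [Cfsg.centralChar, P, Char.centralizer_pow_eq hk] using h
      have hPinj : ∀ a ∈ SG, ∀ b ∈ SG, P a = P b → a = b := by
        intro a _ b _ h
        refine Subtype.ext (funext fun g => ?_)
        obtain ⟨g', rfl⟩ := (Nat.Coprime.pow_left_bijective (Nat.Coprime.symm hk)).2 g
        exact congrFun (congrArg Subtype.val h) g'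
      rw [hz, map_sum]
      simp only [map_mul, hval]
      refine Finset.sum_bij (fun χ _ => P χ) hPmem (fun a ha b hb h => hPinj a ha b hb h)
        (fun b hb => Finset.surj_on_of_inj_on_of_card_le (fun χ _ => P χ) hPmem
          (fun a b ha hb h => hPinj a ha b hb h) le_rfl b hb |>.imp fun a ⟨ha, e⟩ => ⟨ha, e.symm⟩)
        fun χ _ => ?_
      show _ = (χ : G → ℂ) (x ^ k) * (χ : G → ℂ) (x⁻¹ ^ k)
      rfl
    have hint : IsIntegral ℤ (q : ℂ) := hq ▸ IsIntegral.sum _ fun χ _ =>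
      (Char.IsChar.isIntegral (Char.IsIrr.isCharacter χ.2) x).mul
        (Char.IsChar.isIntegral (Char.IsIrr.isCharacter χ.2) x⁻¹)
    obtain ⟨n, hn⟩ := Char.exists_int_of_isIntegral_rat hint
    have hre : ∑ χ ∈ SG, Complex.normSq ((χ : G → ℂ) x) = (n : ℝ) := by
      have h1 := congrArg Complex.re (hzr.symm.trans hq)
      rw [Complex.ofReal_re, ← hn] at h1
      simpa using h1
    have h1 : (1 : ℝ) ≤ ∑ χ ∈ SG, Complex.normSq ((χ : G → ℂ) x) := by
      refine le_trans ?_ (Finset.single_le_sum (f := fun χ : IrrCharacter G => Complex.normSq ((χ : G → ℂ) x))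
        (fun χ _ => Complex.normSq_nonneg _)
        (Finset.mem_filter.2 ⟨Finset.mem_univ oneG, Blocks.sameBlock_refl hM _⟩))
      simp [oneG]
    rw [hre] at h1 ⊢
    have hn1 : 1 ≤ n := by exact_mod_cast h1
    exact ⟨n.toNat, by omega, by exact_mod_cast (Int.toNat_of_nonneg (by omega : (0 : ℤ) ≤ n)).symm⟩
  · rw [hsum Complex.normSq x]
    refine le_trans (Finset.sum_le_sum_of_subset_of_nonneg (Finset.subset_univ _)
      fun _ _ _ => Complex.normSq_nonneg _) (le_of_eq ?_)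
    have h := Char.second_orthogonality (x : G ⧸ N) (x : G ⧸ N)
    rw [if_pos (IsConj.refl _)] at h
    simp only [Complex.mul_conj] at h
    exact_mod_cast h
  · have e3 : ∑ᶠ χ ∈ BG, Cfsg.charDegree (χ : G → ℂ) ^ 2 =
        ∑ χ ∈ SG, Cfsg.charDegree (χ : G → ℂ) ^ 2 :=
      finsum_mem_eq_sum_of_inter_support_eq _ (by simp [hSG])
    have hd : ∀ ψ : IrrCharacter (G ⧸ N),
        (ψ : G ⧸ N → ℂ) 1 = (Cfsg.charDegree (ψ : G ⧸ N → ℂ) : ℂ) := fun ψ => by
      obtain ⟨n, -, hn⟩ := Char.IsIrr.degree ψ.2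
      rw [Blocks.charDegree_eq hn, hn]
    set d : IrrCharacter (G ⧸ N) → ℕ := fun ψ => Cfsg.charDegree (ψ : G ⧸ N → ℂ) with hdd
    have htot : ∑ ψ : IrrCharacter (G ⧸ N), d ψ ^ 2 = N.index := by
      have h := Char.sum_sq_degree (G := G ⧸ N)
      simp only [hd, ← Nat.cast_pow, ← Nat.cast_sum, Nat.cast_inj] at h
      rw [Subgroup.index_eq_card]
      exact h
    have e4 : ∑ χ ∈ SG, Cfsg.charDegree (χ : G → ℂ) ^ 2 = ∑ ψ ∈ SQ, d ψ ^ 2 := by
      have h := hsum (fun z => ((⌊z.re⌋₊ ^ 2 : ℕ) : ℝ)) 1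
      exact_mod_cast h
    rw [e3, e4, ← htot]
    constructor
    · intro h B hB
      have hall : ∀ ψ : IrrCharacter (G ⧸ N), ψ ∈ BQ := by
        intro ψ
        by_contra hψ
        have hlt : ∑ φ ∈ SQ, d φ ^ 2 < ∑ φ, d φ ^ 2 :=
          Finset.sum_lt_sum_of_subset (Finset.subset_univ _) (Finset.mem_univ ψ)
            (fun h' => hψ (Finset.mem_filter.1 h').2) (by
              obtain ⟨n, hn0, hn⟩ := Char.IsIrr.degree ψ.2
              rw [hdd]; simp only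
              rw [Blocks.charDegree_eq hn]
              positivity) fun _ _ _ => Nat.zero_le _
        exact hlt.ne h
      obtain ⟨ψ, hψ⟩ := Blocks.IsPBlock.nonempty hM hB
      ext φ
      exact ⟨fun _ => hall φ, fun hφ => Blocks.IsPBlock.mem_of_sameBlock hM hB hψ
        (Blocks.sameBlock_trans hM (Blocks.sameBlock_symm (hall ψ)) hφ)⟩
    · intro h
      refine Finset.sum_subset (Finset.subset_univ _) fun ψ _ hψ => absurd ?_ hψ
      refine Finset.mem_filter.2 ⟨Finset.mem_univ _, ?_⟩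
      show ψ ∈ BQ
      rw [← h _ (Blocks.isPBlock_blockOf ψ)]
      exact Blocks.mem_blockOf_self hM ψ

end Cfsg.Agent.S4735
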