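import Cfsg.Statements.S3494
import Cfsg.Agent.ExtremelyPrim.Basic
-- import your own Cfsg.Agent.* helpers here

set_option autoImplicit false
open Cfsg

namespace Cfsg.Agent.S3494

/-- Manning's Theorem on extremely primitive groups. Let a finite group G act faithfully and primitively on a finite set Ω with non-trivial point stabilizers, and suppose every point stabilizer G_α acts primitively on each of its orbits. Then G_α acts faithfully on each of its orbits other than {α}: an element of G_α fixing every point of one such orbit is the identity. -/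
theorem result {G : Type*} [Group G] [Finite G] {Ω : Type*} [Fintype Ω] [MulAction G Ω] [FaithfulSMul G Ω] (hprim : MulAction.IsPreprimitive G Ω) (hH : ∀ α : Ω, MulAction.stabilizer G α ≠ ⊥) (hep : ∀ (α : Ω) (ω : Ω), MulAction.IsPreprimitive (MulAction.stabilizer G α) (MulAction.orbit (MulAction.stabilizer G α) ω))
    (α ω : Ω) (hω : ω ≠ α) (h : MulAction.stabilizer G α) (hfix : ∀ x ∈ MulAction.orbit (MulAction.stabilizer G α) ω, h • x = x) : h = 1 := by
  let L : Subgroup G := MulAction.stabilizer G α ⊓
    fixingSubgroup G (MulAction.orbit (MulAction.stabilizer G α) ω)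
  have hn : MulAction.stabilizer G α ≤ Subgroup.normalizer (L : Set G) := by
    intro g hg
    rw [Subgroup.mem_normalizer_iff]
    have key : ∀ g ∈ MulAction.stabilizer G α, ∀ m ∈ L, g * m * g⁻¹ ∈ L := fun g hg m hm => by
      refine ⟨(MulAction.stabilizer G α).mul_mem ((MulAction.stabilizer G α).mul_mem hg hm.1)
        ((MulAction.stabilizer G α).inv_mem hg), (mem_fixingSubgroup_iff _).mpr fun x hx => ?_⟩
      have hx' : g⁻¹ • x ∈ MulAction.orbit (MulAction.stabilizer G α) ω := by
        obtain ⟨h0, hh0, rfl⟩ := ExtremelyPrim.mem_orbit_stab_iff.mp hx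
        exact ExtremelyPrim.mem_orbit_stab_iff.mpr
          ⟨g⁻¹ * h0, mul_mem (inv_mem hg) hh0, mul_smul _ _ _⟩
      rw [mul_smul, mul_smul, (mem_fixingSubgroup_iff _).mp hm.2 _ hx', smul_inv_smul]
    exact fun m => ⟨key g hg m, fun h => by simpa [mul_assoc] using key g⁻¹ (inv_mem hg) _ h⟩
  have hL := ExtremelyPrim.faithful_suborbit hprim hep hω (L := L) inf_le_left hn fun l hl =>
    (mem_fixingSubgroup_iff _).mp hl.2 ω (MulAction.mem_orbit_self ω)
  have hm : (h : G) ∈ L :=
    ⟨h.2, (mem_fixingSubgroup_iff _).mpr fun x hx => hfix x hx⟩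
  rw [hL, Subgroup.mem_bot] at hm
  exact Subtype.ext hm

end Cfsg.Agent.S3494
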