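import Cfsg.Agent.QdFree.ZJControl
import Cfsg.Agent.FusSys.TransvS4
import Cfsg.Agent.Coprime.Hall
import Cfsg.Agent.OrderType.Count
import Cfsg.Agent.QdFree.Involve
import Cfsg.Agent.Layer.PConstraint
import Mathlib.GroupTheory.GroupAction.Quotient

/-!
# Sections `S₄` and sections `S₃` of local automizers
-/

set_option autoImplicit false

namespace Cfsg.Agent.S4InvolveAux

open Subgroup
open scoped commutatorElement

universe u

variable {G : Type u} [Group G] [Finite G]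

/-- In a group mapping onto `S₃` some `3`-element outside the kernel is inverted by a `2`-element. -/
theorem exists_inverted {K : Type u} [Group K] [Finite K] (f : K →* Equiv.Perm (Fin 3))
    (hf : Function.Surjective f) :
    ∃ z t : K, (∃ j, t ^ 2 ^ j = 1) ∧ Odd (orderOf z) ∧ (∃ k, z ^ 3 ^ k = 1) ∧
      t * z * t⁻¹ = z⁻¹ ∧ f z ≠ 1 := by
  classical
  have : Fact (Nat.Prime 3) := ⟨Nat.prime_three⟩
  let A₃ : Subgroup (Equiv.Perm (Fin 3)) := (Equiv.Perm.sign (α := Fin 3)).ker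
  set R := A₃.comap f
  have hRn : R.Normal := (inferInstance : A₃.Normal).comap f
  obtain ⟨P⟩ : Nonempty (Sylow 3 R) := inferInstance
  have hfr := Sylow.normalizer_sup_eq_top P
  set P' := (P : Subgroup R).map R.subtype with hP'
  obtain ⟨s₀, hs₀⟩ := hf (Equiv.swap 0 1)
  obtain ⟨s, hs, r, hr, hsr⟩ := mem_sup_of_normal_right.mp
    (hfr ▸ mem_top s₀ : s₀ ∈ normalizer (P' : Set K) ⊔ R)
  have hfs : Equiv.Perm.sign (f s) ≠ 1 := by
    intro h
    have h1 : Equiv.Perm.sign (f (s * r)) = 1 := by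
      rw [map_mul, map_mul, h, one_mul]; exact hr
    rw [hsr, hs₀] at h1
    revert h1; decide
  -- the 2-part
  obtain ⟨j, m, hm, hjm⟩ := Nat.exists_eq_pow_mul_and_not_dvd (orderOf_pos s).ne' 2 (by norm_num)
  set t := s ^ m with ht
  have htN : t ∈ normalizer (P' : Set K) := pow_mem hs m
  have ht2 : t ^ 2 ^ j = 1 := by rw [ht, ← pow_mul, mul_comm, ← hjm, pow_orderOf_eq_one]
  have hft : Equiv.Perm.sign (f t) ≠ 1 := by
    rw [ht, map_pow, map_pow]
    rcases Int.units_eq_one_or (Equiv.Perm.sign (f s)) with h | h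
    · exact absurd h hfs
    · rw [h, (Nat.odd_iff.mpr (by omega) : Odd m).neg_one_pow]; decide
  -- the image of the Sylow subgroup
  have hsub : Function.Surjective (f.subgroupComap A₃) :=
    MonoidHom.subgroupComap_surjective_of_surjective f _ hf
  have hA₃3 : Nat.card A₃ = 3 := by
    rw [Nat.card_eq_fintype_card]; rfl
  have hPmap : P'.map f = A₃ := by
    have htop : (⊤ : Subgroup A₃) = (P.mapSurjective hsub : Subgroup A₃) :=
      ((P.mapSurjective hsub).is_maximal' ((IsPGroup.of_card (n := 1)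
        (by rw [hA₃3, pow_one])).of_equiv Subgroup.topEquiv.symm) le_top)
    refine le_antisymm ?_ fun y hy => ?_
    · rintro _ ⟨_, ⟨x, _, rfl⟩, rfl⟩
      exact x.2
    · obtain ⟨x, hx, hxy⟩ := htop.le (mem_top (⟨y, hy⟩ : A₃))
      exact ⟨x, ⟨x, hx, rfl⟩, congrArg Subtype.val hxy⟩
  -- fixed points of `t * t`
  set B := zpowers (t * t)
  have hP3 : IsPGroup 3 P' := P.isPGroup'.map _
  have hBN : B ≤ normalizer (P' : Set K) := zpowers_le.mpr (mul_mem htN htN)
  have hB2 : IsPGroup 2 B := by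
    rintro ⟨x, hx⟩
    obtain ⟨i, rfl⟩ := mem_zpowers_iff.mp hx
    refine ⟨j, Subtype.ext ?_⟩
    show ((t * t) ^ i) ^ 2 ^ j = 1
    rw [← zpow_natCast, zpow_comm, zpow_natCast, ← pow_two, ← pow_mul, mul_comm, pow_mul, ht2,
      one_pow, one_zpow]
  have hcop : (Nat.card B).Coprime (Nat.card P') :=
    IsPGroup.coprime_card_of_ne 2 3 (by norm_num) B P' hB2 hP3
  have hfB : B.map f = ⊥ := by
    rw [MonoidHom.map_zpowers, zpowers_eq_bot, map_mul]
    have : ∀ σ : Equiv.Perm (Fin 3), Equiv.Perm.sign σ ≠ 1 → σ * σ = 1 := by decide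
    exact this _ hft
  let u : Equiv.Perm (Fin 3) := Equiv.swap 0 1 * Equiv.swap 1 2
  have huA : u ∈ (P' ⊓ centralizer (B : Set K)).map f := by
    obtain ⟨y₀, hy₀, hy₀u⟩ : ∃ y₀ ∈ P', f y₀ = u := by
      have : u ∈ P'.map f := by rw [hPmap]; exact (by decide : Equiv.Perm.sign u = 1)
      exact mem_map.mp this
    have hBker : B ≤ normalizer ((P' ⊓ f.ker : Subgroup K) : Set K) :=
      Coprime.le_normalizer_inf hBN le_normalizer_of_normal
    obtain ⟨n, hn, hc⟩ := Coprime.exists_fixed_mem_leftCoset hBker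
      (hcop.coprime_dvd_right (card_dvd_of_le inf_le_left))
      (Or.inr (Layer.isSolvable_of_isPGroup (hP3.to_le inf_le_left))) (k := y₀) (fun a ha => by
        refine ⟨(mul_mem (inv_mem hy₀) ((mem_normalizer_iff.mp (hBN ha) y₀).mp hy₀) : y₀⁻¹ * (a * y₀ * a⁻¹) ∈ P'), ?_⟩
        show f (y₀⁻¹ * (a * y₀ * a⁻¹)) = 1
        have hfa : f a = 1 := mem_bot.mp (hfB ▸ mem_map_of_mem f ha)
        rw [map_mul, map_mul, map_mul, map_inv, map_inv, hfa, one_mul, inv_one, mul_one, inv_mul_cancel])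
    exact ⟨y₀ * n, ⟨mul_mem hy₀ hn.1, hc⟩, by rw [map_mul, MonoidHom.mem_ker.mp hn.2, mul_one, hy₀u]⟩
  obtain ⟨y, ⟨hyP, hyB⟩, hyu⟩ := huA
  refine ⟨y⁻¹ * (t * y * t⁻¹), t, ⟨j, ht2⟩, ?_, ?_, ?_, ?_⟩
  · obtain ⟨k, hk⟩ := hP3 ⟨_, mul_mem (inv_mem hyP) ((mem_normalizer_iff.mp htN y).mp hyP)⟩
    exact (Odd.pow (by decide : Odd 3)).of_dvd_nat (orderOf_dvd_of_pow_eq_one (congrArg Subtype.val hk))
  · obtain ⟨k, hk⟩ := hP3 ⟨_, mul_mem (inv_mem hyP) ((mem_normalizer_iff.mp htN y).mp hyP)⟩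
    exact ⟨k, congrArg Subtype.val hk⟩
  · have h : t * t * y = y * (t * t) := mem_centralizer_iff.mp hyB _ (mem_zpowers _)
    calc t * (y⁻¹ * (t * y * t⁻¹)) * t⁻¹ = t * y⁻¹ * t⁻¹ * (t * t * y) * (t * t)⁻¹ := by group
      _ = t * y⁻¹ * t⁻¹ * y := by rw [h, mul_assoc, mul_inv_cancel_right]
      _ = _ := by group
  · intro h
    rw [map_mul, map_mul, map_mul, map_inv, map_inv, hyu] at h
    have key : ∀ σ : Equiv.Perm (Fin 3), Equiv.Perm.sign σ ≠ 1 →
        (Equiv.swap 0 1 * Equiv.swap 1 2)⁻¹ * (σ * (Equiv.swap 0 1 * Equiv.swap 1 2) * σ⁻¹) ≠ 1 := by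
      decide
    exact key _ hft h

/-- The `n`-th derived subgroup of a subgroup. -/
def dSeries (T : Subgroup G) : ℕ → Subgroup G
  | 0 => T
  | n + 1 => ⁅dSeries T n, dSeries T n⁆

/-- A `3`-element acting on `T` nontrivially and inverted by a `2`-element gives a section `S₄`. -/
theorem involves_s4_of_inverted {T : Subgroup G} (hT : IsPGroup 2 T) {z t : G}
    (hzT : z ∈ normalizer (T : Set G)) (htT : t ∈ normalizer (T : Set G)) (hzo : Odd (orderOf z))
    (hz : z ∉ centralizer (T : Set G)) (hz3 : z ^ 3 ∈ centralizer (T : Set G))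
    (hinv : t * z * t⁻¹ * z ∈ centralizer (T : Set G)) {j : ℕ}
    (ht : t ^ 2 ^ j ∈ centralizer (T : Set G)) : Cfsg.Involves (Equiv.Perm (Fin 4)) G := by
  classical
  have : Fact (Nat.Prime 2) := ⟨Nat.prime_two⟩
  have hzcop : (orderOf z).Coprime 2 := Nat.coprime_two_right.mpr hzo
  -- a derived subgroup moved modulo the next one
  have hmap : ∀ n, dSeries T n = (derivedSeries T n).map T.subtype := by
    intro n
    induction n with
    | zero => rw [derivedSeries_zero, ← MonoidHom.range_eq_map, Subgroup.range_subtype]; rfl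
    | succ n ih => rw [derivedSeries_succ, map_commutator, ← ih]; rfl
  have hle : ∀ n, dSeries T n ≤ T := fun n => hmap n ▸ map_subtype_le _
  have hnorm : ∀ n, ∀ g ∈ normalizer (T : Set G), g ∈ normalizer (dSeries T n : Set G) := by
    intro n
    induction n with
    | zero => exact fun g hg => hg
    | succ n ih =>
      intro g hg
      rw [mem_normalizer_iff_map_conj_eq]
      show (⁅dSeries T n, dSeries T n⁆).map (MulAut.conj g).toMonoidHom = _
      rw [map_commutator, show (dSeries T n).map (MulAut.conj g).toMonoidHom = dSeries T n from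
        mem_normalizer_iff_map_conj_eq.mp (ih g hg)]
      rfl
  have hex : ∃ n, dSeries T n = ⊥ := by
    have := hT.isNilpotent
    obtain ⟨n, hn⟩ := (inferInstance : Group.IsSolvable T).solvable
    exact ⟨n, by rw [hmap, hn, Subgroup.map_bot]⟩
  obtain ⟨i, hi, hi'⟩ : ∃ i, z ∉ centralizer (dSeries T i : Set G) ∧
      z ∈ centralizer (dSeries T (i + 1) : Set G) := by
    obtain ⟨n, hn⟩ := hex
    by_contra hno
    push Not at hno
    have : ∀ k, z ∉ centralizer (dSeries T k : Set G) := by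
      intro k
      induction k with
      | zero => exact hz
      | succ k ih => exact hno k ih
    refine this n ?_
    rw [hn, mem_centralizer_iff]
    intro x hx
    rw [mem_bot.mp hx, one_mul, mul_one]
  set D := dSeries T i
  set D' := dSeries T (i + 1)
  have hD'D : D' ≤ D := commutator_le_self D
  have hzD : ¬ ∀ v ∈ D, z * v * z⁻¹ * v⁻¹ ∈ D' := fun h => hi (mem_centralizer_iff.mpr fun v hv =>
    (QdFree.ZJControl.commute_of_stable (hT.to_le (hle _)) hzcop hi' (h v hv)).eq.symm)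
  -- the local group
  set L₀ := closure ({z, t} : Set G) ⊔ D with hL₀
  have hL₀N : ∀ n, i ≤ n → n ≤ i + 1 → L₀ ≤ normalizer (dSeries T n : Set G) := by
    intro n h1 h2
    refine sup_le ((closure_le _).mpr ?_) ?_
    · rintro x (rfl | rfl)
      exacts [hnorm n _ hzT, hnorm n _ htT]
    · exact (hle i).trans fun x hx => hnorm n x (le_normalizer hx)
  set D₀ := D'.subgroupOf L₀
  have hD₀ : D₀.Normal := (normal_subgroupOf_iff_le_normalizer (hD'D.trans le_sup_right)).mpr
    (hL₀N (i + 1) (by omega) le_rfl)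
  set π := QuotientGroup.mk' D₀
  set z' : L₀ := ⟨z, mem_sup_left (subset_closure (Or.inl rfl))⟩
  set t' : L₀ := ⟨t, mem_sup_left (subset_closure (Or.inr rfl))⟩
  set V := (D.subgroupOf L₀).map π
  have hVn : V.Normal := ((normal_subgroupOf_iff_le_normalizer le_sup_right).mpr
    (hL₀N i le_rfl (by omega))).map π (QuotientGroup.mk'_surjective _)
  have hVc : IsMulCommutative V := by
    refine ⟨⟨?_⟩⟩
    rintro ⟨_, a, ha, rfl⟩ ⟨_, b, hb, rfl⟩
    refine Subtype.ext ?_
    show π a * π b = π b * π a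
    rw [← commutatorElement_eq_one_iff_mul_comm, ← map_commutatorElement]
    exact (QuotientGroup.eq_one_iff _).mpr (commutator_mem_commutator ha hb :
      ⁅(a : G), (b : G)⁆ ∈ D')
  have hV2 : IsPGroup 2 V := ((hT.to_le (hle i)).comap_of_injective _ L₀.subtype_injective).map π
  have hcen : ∀ x : L₀, (x : G) ∈ centralizer (T : Set G) → π x ∈ centralizer (V : Set _) := by
    intro x hx
    refine mem_centralizer_iff.mpr ?_
    rintro _ ⟨v, hv, rfl⟩
    rw [← map_mul, ← map_mul]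
    exact congrArg π (Subtype.ext (mem_centralizer_iff.mp hx v (hle i hv)))
  set Z := π z'
  set S := π t'
  have hZ3 : Z ^ 3 ∈ centralizer (V : Set _) := by
    rw [← map_pow]; exact hcen _ hz3
  have hS : S ^ 2 ^ j ∈ centralizer (V : Set _) := by
    rw [← map_pow]; exact hcen _ ht
  have hSZ : S * Z * S⁻¹ * Z ∈ centralizer (V : Set _) := by
    rw [← map_inv, ← map_mul, ← map_mul, ← map_mul]; exact hcen _ hinv
  have hZV : Z ∉ centralizer (V : Set _) := by
    intro h
    refine hzD fun v hv => ?_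
    have h1 := mem_centralizer_iff.mp h _ (mem_map_of_mem π
      (show (⟨v, mem_sup_right hv⟩ : L₀) ∈ D.subgroupOf L₀ from hv))
    have h2 : π (z' * ⟨v, mem_sup_right hv⟩ * z'⁻¹ * (⟨v, mem_sup_right hv⟩ : L₀)⁻¹) = 1 := by
      rw [map_mul, map_mul, map_mul, map_inv, map_inv, ← h1, mul_inv_cancel_right, mul_inv_cancel]
    have h3 : z' * ⟨v, mem_sup_right hv⟩ * z'⁻¹ * (⟨v, mem_sup_right hv⟩ : L₀)⁻¹ ∈ D₀ := by
      rw [← QuotientGroup.eq_one_iff]; exact h2
    exact h3
  -- a moved involution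
  obtain ⟨e, he, he2, hez⟩ : ∃ e ∈ V, e ^ 2 = 1 ∧ Z * e * Z⁻¹ ≠ e := by
    by_contra hno
    push Not at hno
    exact hZV (FusSys.mem_centralizer_of_fix_involutions V hVc hV2 (m := 3) (by decide) hZ3 hno)
  have hcomm : ∀ {a b}, a ∈ V → b ∈ V → Commute a b := fun ha hb =>
    congrArg Subtype.val (hVc.is_comm.comm (⟨_, ha⟩ : V) ⟨_, hb⟩)
  let cZ := (MulAut.conj Z).toMonoidHom
  let cS := (MulAut.conj S).toMonoidHom
  -- the involutions of norm one
  let Good : (L₀ ⧸ D₀) → Prop := fun w => w ∈ V ∧ w * w = 1 ∧ w * cZ w * cZ (cZ w) = 1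
  have hconjV : ∀ g : L₀ ⧸ D₀, ∀ {w}, w ∈ V → g * w * g⁻¹ ∈ V := fun g {w} hw => hVn.conj_mem w hw g
  have hgz : ∀ {w}, w ∈ V → cZ (cZ (cZ w)) = w := by
    intro w hw
    show Z * (Z * (Z * w * Z⁻¹) * Z⁻¹) * Z⁻¹ = w
    rw [show Z * (Z * (Z * w * Z⁻¹) * Z⁻¹) * Z⁻¹ = Z ^ 3 * w * (Z ^ 3)⁻¹ by
      simp only [pow_succ, pow_zero, one_mul, mul_inv_rev, mul_assoc],
      ← mem_centralizer_iff.mp hZ3 w hw, mul_inv_cancel_right]
  have hgS : ∀ {w}, w ∈ V → cZ (cS w) = cS (cZ (cZ w)) := by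
    intro w hw
    have hw' : cS (cZ (cZ w)) ∈ V := hconjV _ (hconjV _ (hconjV _ hw))
    have h1 := mem_centralizer_iff.mp hSZ _ (hconjV (Z⁻¹ * S * Z) (hgz hw ▸ hconjV Z (hconjV Z
      (hconjV Z hw))))
    show Z * (S * w * S⁻¹) * Z⁻¹ = S * (Z * (Z * w * Z⁻¹) * Z⁻¹) * S⁻¹
    have h2 := mem_centralizer_iff.mp hSZ (Z * (S * w * S⁻¹) * Z⁻¹) (hconjV _ (hconjV _ hw))
    have h3 := mem_centralizer_iff.mp hSZ (S * w * S⁻¹) (hconjV _ hw)
    have h4 := mem_centralizer_iff.mp hZ3 w hw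
    -- `S Z S⁻¹ Z` fixes `S w S⁻¹`
    have h5 : S * Z * S⁻¹ * (Z * (S * w * S⁻¹) * Z⁻¹) * S * Z⁻¹ * S⁻¹ = S * w * S⁻¹ := by
      calc S * Z * S⁻¹ * (Z * (S * w * S⁻¹) * Z⁻¹) * S * Z⁻¹ * S⁻¹
          = (S * Z * S⁻¹ * Z) * (S * w * S⁻¹) * (S * Z * S⁻¹ * Z)⁻¹ := by group
        _ = S * w * S⁻¹ := by rw [← h3, mul_inv_cancel_right]
    calc Z * (S * w * S⁻¹) * Z⁻¹
        = S * Z⁻¹ * S⁻¹ * (S * Z * S⁻¹ * (Z * (S * w * S⁻¹) * Z⁻¹) * S * Z⁻¹ * S⁻¹) *
            (S * Z * S⁻¹) := by group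
      _ = S * (Z⁻¹ * w * Z) * S⁻¹ := by rw [h5]; group
      _ = _ := by
        rw [show Z * (Z * w * Z⁻¹) * Z⁻¹ = Z⁻¹ * (Z ^ 3 * w * (Z ^ 3)⁻¹) * Z by
          simp [pow_succ, mul_assoc],
          ← h4, mul_inv_cancel_right]
  have hGoodS : ∀ {w}, Good w → Good (w * cS w) := by
    rintro w ⟨hw, hw2, hwn⟩
    have hSw : cS w ∈ V := hconjV _ hw
    refine ⟨mul_mem hw hSw, ?_, ?_⟩
    · rw [(hcomm hSw hw).mul_mul_mul_comm, hw2, one_mul, ← map_mul, hw2, map_one]
    · have e1 : cS w * cZ (cS w) * cZ (cZ (cS w)) = 1 := by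
        have hzz : cZ (cZ (cS w)) = cS (cZ w) := by
          rw [hgS hw, hgS (w := cZ (cZ w)) (hconjV _ (hconjV _ hw)),
            hgz (w := w) hw]
        rw [hzz, hgS hw, ← map_mul, ← map_mul, mul_assoc,
          (show Commute (cZ (cZ w)) (cZ w) from hcomm (hconjV _ (hconjV _ hw)) (hconjV _ hw)).eq,
          ← mul_assoc, hwn, map_one]
      have c1 := hconjV Z hw
      have c2 := hconjV Z c1
      have d1 := hconjV Z hSw
      have d2 := hconjV Z d1
      rw [map_mul, map_mul]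
      calc w * cS w * (cZ w * cZ (cS w)) * (cZ (cZ w) * cZ (cZ (cS w)))
          = (w * cZ w) * (cS w * cZ (cS w)) * (cZ (cZ w) * cZ (cZ (cS w))) := by
            rw [(show Commute (cS w) (cZ w) from hcomm hSw c1).mul_mul_mul_comm]
        _ = (w * cZ w * cZ (cZ w)) * (cS w * cZ (cS w) * cZ (cZ (cS w))) := by
            rw [(show Commute (cS w * cZ (cS w)) (cZ (cZ w)) from
              hcomm (mul_mem hSw d1) c2).mul_mul_mul_comm]
        _ = 1 := by rw [hwn, e1, one_mul]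
  obtain ⟨w, ⟨hwV, hw2, hwn⟩, hw1, hwS⟩ : ∃ w, Good w ∧ w ≠ 1 ∧ cS w = w := by
    set d := e * cZ e
    have hd : Good d := by
      have c1 := hconjV Z he
      have c2 := hconjV Z c1
      have he' : e * e = 1 := by rwa [pow_two] at he2
      refine ⟨mul_mem he c1, ?_, ?_⟩
      · show e * cZ e * (e * cZ e) = 1
        rw [(show Commute (cZ e) e from hcomm c1 he).mul_mul_mul_comm, he', one_mul, ← map_mul, he', map_one]
      · show e * cZ e * cZ (e * cZ e) * cZ (cZ (e * cZ e)) = 1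
        rw [map_mul, map_mul, hgz he]
        calc e * cZ e * (cZ e * cZ (cZ e)) * (cZ (cZ e) * e)
            = e * (cZ e * cZ e) * (cZ (cZ e) * cZ (cZ e)) * e := by group
          _ = e * cZ (e * e) * cZ (cZ (e * e)) * e := by simp only [map_mul]
          _ = 1 := by rw [he', map_one, map_one, mul_one, mul_one, he']
    have hd1 : d ≠ 1 := fun h => hez (by
      have := eq_inv_of_mul_eq_one_right h
      show cZ e = e
      rw [this, inv_eq_of_mul_eq_one_left]
      rwa [pow_two] at he2)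
    by_contra hno
    push Not at hno
    let δ : (L₀ ⧸ D₀) → (L₀ ⧸ D₀) := fun x => x * cS x
    have hiter : ∀ n, Good (δ^[n] d) ∧ δ^[n] d ≠ 1 := by
      intro n
      induction n with
      | zero => exact ⟨hd, hd1⟩
      | succ n ih =>
        rw [Function.iterate_succ_apply']
        refine ⟨hGoodS ih.1, fun h => hno _ ih.1 ih.2 ?_⟩
        have h1 : cS (δ^[n] d) = (δ^[n] d)⁻¹ := eq_inv_of_mul_eq_one_right h
        rw [h1, inv_eq_of_mul_eq_one_left ih.1.2.1]
    have hpow : ∀ n, ∀ x, Good x → δ^[2 ^ n] x = x * (S ^ 2 ^ n * x * (S ^ 2 ^ n)⁻¹) := by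
      intro n
      induction n with
      | zero => intro x _; simp [δ, cS]
      | succ n ih =>
        intro x hx
        have hg : Good (δ^[2 ^ n] x) := by
          generalize 2 ^ n = m
          induction m with
          | zero => exact hx
          | succ m ihm => rw [Function.iterate_succ_apply']; exact hGoodS ihm
        rw [pow_succ, mul_two, Function.iterate_add_apply, ih _ hg, ih x hx]
        set y := S ^ 2 ^ n * x * (S ^ 2 ^ n)⁻¹ with hy
        have hyV : y ∈ V := hconjV _ hx.1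
        have hyy : y * y = 1 := by
          rw [hy, show S ^ 2 ^ n * x * (S ^ 2 ^ n)⁻¹ * (S ^ 2 ^ n * x * (S ^ 2 ^ n)⁻¹) =
            S ^ 2 ^ n * (x * x) * (S ^ 2 ^ n)⁻¹ by group, hx.2.1, mul_one, mul_inv_cancel]
        calc x * y * (S ^ 2 ^ n * (x * y) * (S ^ 2 ^ n)⁻¹)
            = x * (y * y) * (S ^ (2 ^ n + 2 ^ n) * x * (S ^ (2 ^ n + 2 ^ n))⁻¹) := by
              rw [hy, pow_add]; group
          _ = _ := by rw [hyy, mul_one]
    have h1 := hpow j d hd
    rw [← mem_centralizer_iff.mp hS d hd.1, mul_inv_cancel_right, hd.2.1] at h1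
    exact (hiter (2 ^ j)).2 h1
  -- the four-group
  set a := cZ w
  set b := cZ a
  have haV : a ∈ V := hconjV _ hwV
  have ha2 : a * a = 1 := by rw [← map_mul, hw2, map_one]
  have hbe : b = w * a := by
    rw [← mul_left_cancel_iff (a := w * a), hwn, (hcomm haV hwV).mul_mul_mul_comm, hw2, ha2, one_mul]
  let W : Subgroup (L₀ ⧸ D₀) :=
    { carrier := {x | x = 1 ∨ x = w ∨ x = a ∨ x = b}
      one_mem' := Or.inl rfl
      mul_mem' := by
        have hwa : a * w = w * a := (hcomm haV hwV).eq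
        rintro x y (rfl | rfl | rfl | rfl) (rfl | rfl | rfl | rfl) <;>
          simp [hbe, mul_assoc, hw2, ha2, hwa] <;> simp [← mul_assoc, hw2, ha2, hwa] <;>
          simp [mul_assoc, ha2]
      inv_mem' := by
        rintro x (rfl | rfl | rfl | rfl)
        · exact Or.inl inv_one
        · exact Or.inr (Or.inl (inv_eq_of_mul_eq_one_left hw2))
        · exact Or.inr (Or.inr (Or.inl (inv_eq_of_mul_eq_one_left ha2)))
        · refine Or.inr (Or.inr (Or.inr (inv_eq_of_mul_eq_one_left ?_)))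
          rw [hbe, (hcomm haV hwV).mul_mul_mul_comm, hw2, ha2, one_mul] }
  have hWV : W ≤ V := by
    rintro x (rfl | rfl | rfl | rfl)
    exacts [one_mem _, hwV, haV, hconjV _ haV]
  set L := closure ({Z, S} : Set (L₀ ⧸ D₀)) ⊔ W with hL
  have hSa : cS a = b := by
    have := hgS (w := a) haV
    rw [show cZ (cZ a) = w from hgz hwV] at this
    rw [← hgz (w := cS a) (hconjV S haV), this, hwS]
  have hSb : cS b = a := by
    have := hgS (w := w) hwV
    rw [hwS] at this
    exact this.symm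
  have hWZ : closure ({Z, S} : Set (L₀ ⧸ D₀)) ≤ normalizer (W : Set _) := by
    refine (closure_le _).mpr ?_
    rintro g (rfl | rfl) <;> refine QdFree.ZJControl.mem_normalizer_of_conj ?_
    · rintro x (rfl | rfl | rfl | rfl)
      · exact Or.inl (by group)
      · exact Or.inr (Or.inr (Or.inl rfl))
      · exact Or.inr (Or.inr (Or.inr rfl))
      · exact Or.inr (Or.inl (hgz hwV))
    · rintro x (rfl | rfl | rfl | rfl)
      · exact Or.inl (by group)
      · exact Or.inr (Or.inl hwS)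
      · exact Or.inr (Or.inr (Or.inr hSa))
      · exact Or.inr (Or.inr (Or.inl hSb))
  set W' := W.subgroupOf L
  have : W'.Normal := (normal_subgroupOf_iff_le_normalizer le_sup_right).mpr
    (sup_le hWZ le_normalizer)
  have hW'c : IsMulCommutative W' := ⟨⟨fun x y => Subtype.ext (Subtype.ext (hcomm (hWV x.2) (hWV y.2)))⟩⟩
  let S' : L := ⟨S, mem_sup_left (subset_closure (Or.inr rfl))⟩
  let Z' : L := ⟨Z, mem_sup_left (subset_closure (Or.inl rfl))⟩
  have hmemC : ∀ {x : L}, x ∈ centralizer (W' : Set L) ↔ ∀ y ∈ W, y * (x : L₀ ⧸ D₀) = x * y := by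
    intro x
    constructor
    · exact fun h y hy => congrArg Subtype.val (mem_centralizer_iff.mp h ⟨y, mem_sup_right hy⟩ hy)
    · exact fun h => mem_centralizer_iff.mpr fun y hy => Subtype.ext (h y hy)
  have hab : a ≠ b := fun h => hw1 (by
    rw [hbe] at h
    exact mul_eq_right.mp h.symm)
  have hwa : w ≠ a := fun h => hab (congrArg cZ h : a = b)
  refine QdFree.involves_of_sec (QdFree.involves_of_subgroup (H := L) ?_) (K := L₀) (f := π)
    (QuotientGroup.mk'_surjective _)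
  refine FusSys.involves_s4_of_transvection_mod W' hW'c
    ((hV2.to_le hWV).comap_of_injective _ L.subtype_injective) (x := S') ?_ ?_ ?_ ?_
  · intro h
    have h1 := hmemC.mp h a (Or.inr (Or.inr (Or.inl rfl)))
    exact hab (by
      rw [← hSa]
      show a = S * a * S⁻¹
      rw [show S * a = a * S from h1.symm, mul_inv_cancel_right])
  · refine hmemC.mpr ?_
    have key : ∀ y, cS (cS y) = y → y * (S * S) = S * S * y := fun y hy => by
      have : S * (S * y * S⁻¹) * S⁻¹ = y := hy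
      calc y * (S * S) = S * (S * y * S⁻¹) * S⁻¹ * (S * S) := by rw [this]
        _ = _ := by group
    rintro y (rfl | rfl | rfl | rfl) <;> refine key _ ?_
    · rw [map_one, map_one]
    · rw [hwS, hwS]
    · rw [hSa, hSb]
    · rw [hSb, hSa]
  · have hlt : (centralizer ({S'} : Set L) ⊓ W') ≠ ⊥ := by
      refine (ne_bot_iff_exists_ne_one).mpr ⟨⟨⟨w, mem_sup_right (Or.inr (Or.inl rfl))⟩,
        mem_centralizer_singleton_iff.mpr (Subtype.ext ?_), Or.inr (Or.inl rfl)⟩,
        fun h => hw1 (congrArg Subtype.val (congrArg Subtype.val h :))⟩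
      exact (mul_inv_eq_iff_eq_mul.mp (hwS : S * w * S⁻¹ = w)).symm
    have hW4 : Nat.card W ≤ 4 := by
      let f : Fin 4 → W := ![⟨1, Or.inl rfl⟩, ⟨w, Or.inr (Or.inl rfl)⟩,
        ⟨a, Or.inr (Or.inr (Or.inl rfl))⟩, ⟨b, Or.inr (Or.inr (Or.inr rfl))⟩]
      refine le_trans (Nat.card_le_card_of_surjective f ?_) (by simp)
      rintro ⟨x, (rfl | rfl | rfl | rfl)⟩
      exacts [⟨0, rfl⟩, ⟨1, rfl⟩, ⟨2, rfl⟩, ⟨3, rfl⟩]
    have h1 := Cfsg.Agent.Coprime.card_mul_relIndex_of_le
      (inf_le_right : centralizer ({S'} : Set L) ⊓ W' ≤ W')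
    rw [inf_relIndex_right, Nat.card_congr (subgroupOfEquivOfLe (le_sup_right : W ≤ L)).toEquiv] at h1
    have h2 := (one_lt_card_iff_ne_bot _).mpr hlt
    nlinarith
  · intro T₀ hT₀ hCT₀ hT₀2 hmem
    set C := centralizer (W' : Set L)
    have hWV' : ∀ y ∈ W, y ∈ V := hWV
    have hz3' : Z' * Z' * Z' ∈ C := hmemC.mpr fun y hy => by
      show y * (Z * Z * Z) = Z * Z * Z * y
      rw [show Z * Z * Z = Z ^ 3 by simp [pow_succ]]
      exact mem_centralizer_iff.mp hZ3 y (hWV' y hy)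
    have hsz : S' * Z' * S'⁻¹ * Z' ∈ C := hmemC.mpr fun y hy =>
      mem_centralizer_iff.mp hSZ y (hWV' y hy)
    have hTmem : Z' * S' * Z'⁻¹ * S'⁻¹ ∈ T₀ := mul_mem (hT₀.conj_mem _ hmem Z') (inv_mem hmem)
    have hz2 : Z' * Z' ∈ T₀ := by
      have h5 : (S' * Z' * S'⁻¹ * Z') ∈ T₀ := hCT₀ hsz
      have h6 : Z' * Z' = (Z' * S' * Z'⁻¹ * S'⁻¹) * (S' * Z' * S'⁻¹ * Z') := by group
      rw [h6]; exact mul_mem hTmem h5
    obtain ⟨k, hk⟩ := hT₀2 _ hz2
    have hZC : Z' ∈ C := by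
      obtain ⟨m, hm⟩ : ∃ m : ℕ, 2 * 2 ^ k * 2 ^ k = 3 * m + 2 ∨ 2 * 2 ^ k * 2 ^ k = 3 * m + 1 :=
        ⟨(2 * 2 ^ k * 2 ^ k) / 3, by
          have h3 : ¬ 3 ∣ 2 * 2 ^ k * 2 ^ k := by
            intro h
            have := (Nat.Prime.dvd_mul Nat.prime_three).mp h
            rcases this with h | h
            · rcases (Nat.Prime.dvd_mul Nat.prime_three).mp h with h | h
              · norm_num at h
              · exact absurd (Nat.prime_three.dvd_of_dvd_pow h) (by norm_num)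
            · exact absurd (Nat.prime_three.dvd_of_dvd_pow h) (by norm_num)
          omega⟩
      have h7 : Z' ^ (2 * 2 ^ k * 2 ^ k) ∈ C := by
        rw [mul_assoc, mul_comm (2 ^ k), ← mul_assoc, pow_mul, pow_mul, pow_two]
        exact pow_mem hk _
      have h8 : Z' ^ 3 ∈ C := by rw [pow_succ, pow_two]; exact hz3'
      rcases hm with hm | hm
      · rw [hm, pow_add, pow_mul] at h7
        have h9 := (C.mul_mem_cancel_left (pow_mem h8 m)).mp h7
        have := mul_mem (inv_mem h9) h8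
        rwa [pow_succ Z' 2, inv_mul_cancel_left] at this
      · rw [hm, pow_add, pow_mul, pow_one] at h7
        exact (C.mul_mem_cancel_left (pow_mem h8 m)).mp h7
    exact hwa ((mul_inv_eq_iff_eq_mul.mpr (hmemC.mp hZC w (Or.inr (Or.inl rfl))).symm).symm)

end Cfsg.Agent.S4InvolveAux
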