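import Cfsg.Statements.S2834
import Cfsg.Agent.Core.PCore
import Cfsg.Agent.Fusion.Alperin

set_option autoImplicit false
open Cfsg

set_option linter.all false

namespace Cfsg.Agent.S2834

open Subgroup
open scoped Pointwise

/-- Conjugate of a subgroup. -/
abbrev cj {H : Type*} [Group H] (g : H) (X : Subgroup H) : Subgroup H := X.map (MulAut.conj g).toMonoidHom

theorem cj_cj {H : Type*} [Group H] (a b : H) (X : Subgroup H) : cj a (cj b X) = cj (a * b) X := by
  rw [cj, cj, Subgroup.map_map]; congr 1; ext x; simp [mul_assoc]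

theorem cj_one {H : Type*} [Group H] (X : Subgroup H) : cj 1 X = X := by
  ext x; simp [cj]

theorem mem_cj_iff {H : Type*} [Group H] {g x : H} {X : Subgroup H} : x ∈ cj g X ↔ g⁻¹ * x * g ∈ X := by
  constructor
  · rintro ⟨y, hy, rfl⟩; simpa [mul_assoc] using hy
  · intro h; exact ⟨_, h, by simp [mul_assoc]⟩

theorem cj_mono {H : Type*} [Group H] (g : H) {X Y : Subgroup H} (h : X ≤ Y) : cj g X ≤ cj g Y := map_mono h

theorem cj_inv_cj {H : Type*} [Group H] (g : H) (X : Subgroup H) : cj g⁻¹ (cj g X) = X := by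
  rw [cj_cj, inv_mul_cancel, cj_one]

theorem cj_inv_le {H : Type*} [Group H] {g : H} {X Y : Subgroup H} (h : X ≤ cj g Y) : cj g⁻¹ X ≤ Y :=
  (cj_mono _ h).trans (cj_inv_cj g Y).le

theorem mem_normalizer_of_cj_eq {H : Type*} [Group H] {g : H} {X : Subgroup H} (h : cj g X = X) :
    g ∈ normalizer (X : Set H) := by
  rw [mem_normalizer_iff]
  intro y
  constructor
  · intro hy; exact h.le ⟨y, hy, rfl⟩
  · intro hy
    obtain ⟨z, hz, hzy⟩ := h.ge hy
    rwa [← mul_left_cancel (mul_right_cancel (show g * z * g⁻¹ = g * y * g⁻¹ from hzy))]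

theorem cj_eq_of_normalizer {H : Type*} [Group H] [Finite H] {g : H} {X : Subgroup H} (h : g ∈ normalizer (X : Set H)) :
    cj g X = X :=
  eq_of_le_of_card_ge (by rintro _ ⟨y, hy, rfl⟩; exact (mem_normalizer_iff.mp h y).mp hy)
    (card_map_of_injective (MulAut.conj g).injective).ge

/-- The L-Lemma: let H be a finite group with Sylow p-subgroup T such that H is T-minimal (generated by the conjugates of T, T in exactly one maximal subgroup M), and let A ≤ T with A not contained in O_p(H). Then there is a subgroup L of H containing A·O_p(H) such that (a) A·O_p(L) lies in exactly one maximal subgroup L₀ of L, and L₀ = L ∩ gMg⁻¹ for some g ∈ H; (b) L = ⟨A, xAx⁻¹⟩·O_p(L) for every x ∈ L outside L₀. -/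
theorem result {H : Type*} [Group H] [Finite H] {p : ℕ} [Fact p.Prime] (T : Sylow p H) (hmin : Cfsg.IsMinimalOver (T : Subgroup H)) (M : Subgroup H) (hM : IsCoatom M ∧ (T : Subgroup H) ≤ M) (A : Subgroup H) (hAT : A ≤ (T : Subgroup H)) (hA : ¬ A ≤ Cfsg.pCore p H) : ∃ L : Subgroup H, A ⊔ Cfsg.pCore p H ≤ L ∧ ∃ L₀ : Subgroup H, A ⊔ (Cfsg.pCoreOf p L) ≤ L₀ ∧ L₀ < L ∧ (∀ X : Subgroup H, A ⊔ (Cfsg.pCoreOf p L) ≤ X → X < L → X ≤ L₀) ∧ (∃ g : H, L₀ = L ⊓ ((M : Subgroup H).map (MulAut.conj (g : H)).toMonoidHom)) ∧ ∀ x ∈ L, x ∉ L₀ → (A ⊔ ((A : Subgroup H).map (MulAut.conj (x : H)).toMonoidHom)) ⊔ (Cfsg.pCoreOf p L) = L := by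
  obtain ⟨hgen, M0, hM0, huniq⟩ := hmin
  have hmax : ∀ X : Subgroup H, (T : Subgroup H) ≤ X → X ≠ ⊤ → X ≤ M := by
    intro X hX hne
    obtain ⟨C, hC, hXC⟩ := (eq_top_or_exists_le_coatom X).resolve_left hne
    rw [huniq M hM, ← huniq C ⟨hC, hX.trans hXC⟩]
    exact hXC
  have hNM : ∀ c : H, cj c M = M → c ∈ M := by
    intro c hc
    by_contra hcM
    have h1 : normalizer (M : Set H) = ⊤ := (hM.1.le_iff.mp le_normalizer).resolve_right fun e =>
      hcM (e ▸ mem_normalizer_of_cj_eq hc)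
    haveI := normalizer_eq_top_iff.mp h1
    exact hM.1.1 (top_le_iff.mp (hgen.ge.trans (normalClosure_le_normal hM.2)))
  -- every Sylow subgroup lies in a unique conjugate of `M`
  have hSyl : ∀ S : Sylow p H, ∃ c : H, (S : Subgroup H) = cj c (T : Subgroup H) := by
    intro S
    obtain ⟨c, hc⟩ := MulAction.exists_smul_eq H T S
    exact ⟨c, by rw [← hc, Sylow.coe_subgroup_smul]; rfl⟩
  have hover : ∀ (c : H) (X : Subgroup H), cj c (T : Subgroup H) ≤ X → X ≠ ⊤ → X ≤ cj c M := by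
    intro c X hX hne
    have h1 := hmax (cj c⁻¹ X) ((cj_inv_cj c _).ge.trans (cj_mono _ hX)) fun e => hne (by
      have := congrArg (cj c) e
      rwa [cj_cj, mul_inv_cancel, cj_one, cj, map_top_of_surjective _ (MulAut.conj c).surjective] at this)
    have h2 := cj_mono c h1
    rwa [cj_cj, mul_inv_cancel, cj_one] at h2
  have hne_top : ∀ d : H, cj d M ≠ ⊤ := fun d e => hM.1.1 (by
    have := congrArg (cj d⁻¹) e
    rwa [cj_inv_cj, cj, map_top_of_surjective _ (MulAut.conj d⁻¹).surjective] at this)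
  have huniqS : ∀ c d : H, cj c (T : Subgroup H) ≤ cj d M → cj d M = cj c M := fun c d h =>
    eq_of_le_of_card_ge (hover c _ h (hne_top d))
      (by rw [card_map_of_injective (MulAut.conj c).injective, card_map_of_injective (MulAut.conj d).injective])
  set O := Cfsg.pCore p H with hO
  have hOp : IsPGroup p O := Core.pCore_isPGroup
  haveI hOn : O.Normal := Core.pCore_normal
  have hOall : ∀ c : H, O ≤ cj c M := fun c x hx => mem_cj_iff.mpr
    (hM.2 (Core.pCore_le_sylow T (by simpa using hOn.conj_mem x hx c⁻¹)))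
  -- the conjugates of `A` in a subgroup
  set 𝒜 : Set (Subgroup H) := Set.range fun h : H => cj h A with h𝒜
  have h𝒜inv : ∀ (g : H) (B : Subgroup H), B ∈ 𝒜 → cj g B ∈ 𝒜 := by
    rintro g _ ⟨h, rfl⟩
    exact ⟨g * h, (cj_cj g h A).symm⟩
  have h𝒜O : ∀ B ∈ 𝒜, ¬ B ≤ O := by
    rintro _ ⟨h, rfl⟩ hle
    refine hA fun a ha => ?_
    have h1 : h * a * h⁻¹ ∈ O := hle ⟨a, ha, rfl⟩
    have := hOn.conj_mem _ h1 h⁻¹
    simpa [mul_assoc] using this
  -- the class in a Sylow subgroup determines the conjugate of `M`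
  have hU : ∀ (c d : H), (∀ B ∈ 𝒜, B ≤ cj c (T : Subgroup H) → B ≤ cj d M) → cj d M = cj c M := by
    intro c d hB
    set Z := (⨆ B : {B : Subgroup H // B ∈ 𝒜 ∧ B ≤ cj c (T : Subgroup H)}, (B : Subgroup H)) with hZ
    have hZS : Z ≤ cj c (T : Subgroup H) := iSup_le fun B => B.2.2
    have hZM : Z ≤ cj d M := iSup_le fun B => hB B B.2.1 B.2.2
    obtain ⟨S0, hS0⟩ := ((T.isPGroup'.map (MulAut.conj c).toMonoidHom).to_le hZS).comap_of_injective (cj d M).subtype
      (cj d M).subtype_injective |>.exists_le_sylow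
    obtain ⟨Sd, hSd⟩ := (S0.isPGroup'.map (cj d M).subtype).exists_le_sylow
    obtain ⟨e, he⟩ := hSyl Sd
    -- replace by a Sylow subgroup of `H` inside `cj d M`
    obtain ⟨e, heM, heZ⟩ : ∃ e : H, cj e (T : Subgroup H) ≤ cj d M ∧ Z ≤ cj e (T : Subgroup H) := by
      obtain ⟨T1, hT1⟩ : ∃ T1 : Sylow p (cj d M), (T1 : Subgroup (cj d M)) = (cj d (T : Subgroup H)).subgroupOf (cj d M) := by
        have hle : cj d (T : Subgroup H) ≤ cj d M := cj_mono d hM.2
        refine ⟨((T.isPGroup'.map _).comap_of_injective (cj d M).subtype (cj d M).subtype_injective).toSylow ?_, rfl⟩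
        have hi : ¬ p ∣ (cj d (T : Subgroup H)).index := by
          have e' : (cj d (T : Subgroup H)).index = (T : Subgroup H).index :=
            index_map_equiv (T : Subgroup H) (MulAut.conj d)
          rw [e']; exact T.not_dvd_index
        intro hd
        refine hi ?_
        rw [← relIndex_mul_index hle]
        exact Dvd.dvd.mul_right hd _
      obtain ⟨m, hm⟩ := MulAction.exists_smul_eq (cj d M) T1 S0
      refine ⟨(m : H) * d, ?_, ?_⟩
      · rw [← cj_cj]
        exact (cj_mono _ (cj_mono d hM.2)).trans (cj_eq_of_normalizer (le_normalizer m.2)).le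
      · intro z hz
        have hz0 : (⟨z, hZM hz⟩ : cj d M) ∈ (S0 : Subgroup (cj d M)) := hS0 hz
        rw [← hm, Sylow.coe_subgroup_smul, hT1, mem_pointwise_smul_iff_inv_smul_mem] at hz0
        rw [← cj_cj, mem_cj_iff]
        have hv := mem_subgroupOf.mp hz0
        have he' : (m : H)⁻¹ * z * (m : H) = (((MulAut.conj m)⁻¹ • (⟨z, hZM hz⟩ : cj d M) : cj d M) : H) := by simp [mul_assoc]
        rw [he']
        exact hv
    set Z' := (⨆ B : {B : Subgroup H // B ∈ 𝒜 ∧ B ≤ cj e (T : Subgroup H)}, (B : Subgroup H)) with hZ'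
    have hsub : {B : Subgroup H | B ∈ 𝒜 ∧ B ≤ cj c (T : Subgroup H)} ⊆ {B : Subgroup H | B ∈ 𝒜 ∧ B ≤ cj e (T : Subgroup H)} :=
      fun B hB' => ⟨hB'.1, (le_iSup (fun B : {B : Subgroup H // B ∈ 𝒜 ∧ B ≤ cj c (T : Subgroup H)} => (B : Subgroup H)) ⟨B, hB'⟩).trans heZ⟩
    have hcard : ∀ u : H, {B : Subgroup H | B ∈ 𝒜 ∧ B ≤ cj u (T : Subgroup H)}.ncard =
        {B : Subgroup H | B ∈ 𝒜 ∧ B ≤ (T : Subgroup H)}.ncard := by
      intro u
      have himg : {B : Subgroup H | B ∈ 𝒜 ∧ B ≤ cj u (T : Subgroup H)} = cj u '' {B : Subgroup H | B ∈ 𝒜 ∧ B ≤ (T : Subgroup H)} := by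
        ext B
        constructor
        · rintro ⟨h1, h2⟩
          exact ⟨cj u⁻¹ B, ⟨h𝒜inv _ B h1, cj_inv_le h2⟩, by rw [cj_cj, mul_inv_cancel, cj_one]⟩
        · rintro ⟨B, ⟨h1, h2⟩, rfl⟩
          exact ⟨h𝒜inv _ B h1, cj_mono _ h2⟩
      rw [himg, Set.ncard_image_of_injective _ (map_injective (MulAut.conj u).injective)]
    have heqset := Set.eq_of_subset_of_ncard_le hsub (by rw [hcard, hcard]) (Set.toFinite _)
    have hZZ : Z = Z' := by
      refine le_antisymm (iSup_le fun B => le_iSup_of_le ⟨B.1, (heqset.le ⟨B.2.1, B.2.2⟩ : _)⟩ le_rfl)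
        (iSup_le fun B => le_iSup_of_le ⟨B.1, (heqset.ge ⟨B.2.1, B.2.2⟩ : _)⟩ le_rfl)
    have hnorm : ∀ u : H, cj u (T : Subgroup H) ≤
        normalizer (((⨆ B : {B : Subgroup H // B ∈ 𝒜 ∧ B ≤ cj u (T : Subgroup H)}, (B : Subgroup H)) : Subgroup H) : Set H) := by
      intro u s hs
      refine mem_normalizer_of_cj_eq (eq_of_le_of_card_ge ?_ (card_map_of_injective (MulAut.conj s).injective).ge)
      rw [cj, Subgroup.map_iSup]
      refine iSup_le fun B => le_iSup_of_le ⟨cj s B.1, h𝒜inv _ _ B.2.1, ?_⟩ le_rfl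
      exact (cj_mono s B.2.2).trans (cj_eq_of_normalizer (le_normalizer hs)).le
    by_cases htop : normalizer (Z : Set H) = ⊤
    · exfalso
      haveI := normalizer_eq_top_iff.mp htop
      have hZp : IsPGroup p Z := (T.isPGroup'.map _).to_le hZS
      obtain ⟨B, hB1, hB2⟩ : ∃ B, B ∈ 𝒜 ∧ B ≤ cj c (T : Subgroup H) := ⟨cj c A, ⟨c, rfl⟩, cj_mono _ hAT⟩
      exact h𝒜O B hB1 ((le_iSup (fun B : {B : Subgroup H // B ∈ 𝒜 ∧ B ≤ cj c (T : Subgroup H)} => (B : Subgroup H)) ⟨B, hB1, hB2⟩).trans (Core.le_pCore hZp))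
    · have h1 := hover c _ (hnorm c) htop
      have h2 : cj e (T : Subgroup H) ≤ cj c M := ((hnorm e).trans (le_of_eq (congrArg (fun W : Subgroup H => normalizer (W : Set H)) hZZ.symm))).trans h1
      rw [huniqS e d heM, huniqS e c h2]
  -- maximal intersection
  let Dset : H × H → Set (Subgroup H) := fun q => {B | B ∈ 𝒜 ∧ B ≤ cj q.1 (T : Subgroup H) ∧ B ≤ cj q.2 M}
  have hne : {q : H × H | cj q.2 M ≠ cj q.1 M}.Nonempty := by
    have : ∃ g, g ∉ M := by
      by_contra h; push Not at h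
      exact hM.1.1 (eq_top_iff.mpr fun x _ => h x)
    obtain ⟨g, hg⟩ := this
    exact ⟨(1, g), fun e => hg (hNM g (by rw [cj_one] at e; exact e))⟩
  obtain ⟨⟨c, d⟩, hcd, hmaxD⟩ := Set.exists_max_image _ (fun q => (Dset q).ncard) (Set.toFinite _) hne
  set E := O ⊔ (⨆ B : {B : Subgroup H // B ∈ Dset (c, d)}, (B : Subgroup H)) with hE
  have hES : E ≤ cj c (T : Subgroup H) := sup_le (fun x hx => mem_cj_iff.mpr
    (Core.pCore_le_sylow T (by simpa using hOn.conj_mem x hx c⁻¹))) (iSup_le fun B => B.2.2.1)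
  have hEM : E ≤ cj d M := sup_le (hOall d) (iSup_le fun B => B.2.2.2)
  have hDE : ∀ B ∈ Dset (c, d), B ≤ E := fun B hB => le_trans (le_iSup (fun B : {B : Subgroup H // B ∈ Dset (c, d)} => (B : Subgroup H)) ⟨B, hB⟩) le_sup_right
  -- a class member outside normalizing `E`
  have hmember : ∀ (u : H) (M' : Subgroup H), E ≤ cj u (T : Subgroup H) → (∀ B ∈ Dset (c, d), B ≤ M') →
      (∀ B ∈ 𝒜, B ≤ cj u (T : Subgroup H) → B ≤ M' → B ∈ Dset (c, d)) →
      (∃ B ∈ 𝒜, B ≤ cj u (T : Subgroup H) ∧ ¬ B ≤ M') →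
      ∃ B ∈ 𝒜, B ≤ cj u (T : Subgroup H) ∧ ¬ B ≤ M' ∧ B ≤ normalizer (E : Set H) := by
    intro u M' hEu hDM hback hex
    by_contra hno
    push Not at hno
    set U := cj u (T : Subgroup H) with hU'
    set N := U ⊓ normalizer (E : Set H) with hN
    have hEN : E ≤ N := le_inf hEu le_normalizer
    have hUp : IsPGroup p U := T.isPGroup'.map _
    have hmem : ∀ B ∈ 𝒜, B ≤ N → B ∈ Dset (c, d) := by
      intro B hB hBN
      refine hback B hB (hBN.trans inf_le_left) ?_
      by_contra hBM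
      exact hno B hB (hBN.trans inf_le_left) hBM (hBN.trans inf_le_right)
    have hNU : N = U := by
      by_contra hlt
      obtain ⟨v, hv, hvN⟩ := SetLike.exists_of_lt (Fusion.lt_inf_normalizer_of_isPGroup hUp (lt_of_le_of_ne inf_le_left hlt))
      refine hvN ⟨hv.1, mem_normalizer_of_cj_eq (eq_of_le_of_card_ge ?_ (card_map_of_injective (MulAut.conj v).injective).ge)⟩
      rw [hE, cj, Subgroup.map_sup, Subgroup.map_iSup]
      refine sup_le_sup (fun x hx => ?_) (iSup_le fun B => ?_)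
      · obtain ⟨y, hy, rfl⟩ := hx
        exact hOn.conj_mem y hy v
      · refine le_iSup_of_le (⟨cj v B.1, hmem _ (h𝒜inv _ _ B.2.1) ?_⟩ : {B : Subgroup H // B ∈ Dset (c, d)}) le_rfl
        exact (cj_mono v ((hDE _ B.2).trans hEN)).trans (cj_eq_of_normalizer hv.2).le
    obtain ⟨B, hB, hBU, hBM⟩ := hex
    exact hBM (hDM B (hmem B hB (hBU.trans hNU.ge)))
  obtain ⟨A', hA', hA'S, hA'M, hA'N⟩ := hmember c (cj d M) hES (fun B hB => hB.2.2) (fun B h1 h2 h3 => ⟨h1, h2, h3⟩) (by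
    by_contra hall; push Not at hall
    exact hcd (hU c d hall))
  set R := A' ⊔ E with hR
  have hRp : R ≤ cj c (T : Subgroup H) := sup_le hA'S hES
  have hRone : ∀ u : H, R ≤ cj u M → cj u M = cj c M := by
    intro u hu
    by_contra hne'
    have h1 := hmaxD (c, u) hne'
    have h2 : insert A' (Dset (c, d)) ⊆ Dset (c, u) := by
      rintro B (rfl | hB)
      · exact ⟨hA', hA'S, le_sup_left.trans hu⟩
      · exact ⟨hB.1, hB.2.1, ((hDE B hB).trans le_sup_right).trans hu⟩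
    have h3 := (Set.ncard_le_ncard h2 (Set.toFinite _))
    rw [Set.ncard_insert_of_notMem (fun hB => hA'M hB.2.2) (Set.toFinite _)] at h3
    omega
  have hNnot : ¬ normalizer (E : Set H) ≤ cj c M := by
    intro hle
    obtain ⟨e, heS, heM⟩ : ∃ e : H, E ≤ cj e (T : Subgroup H) ∧ cj e (T : Subgroup H) ≤ cj d M := by
      obtain ⟨T1, hT1⟩ : ∃ T1 : Sylow p (cj d M), (T1 : Subgroup (cj d M)) = (cj d (T : Subgroup H)).subgroupOf (cj d M) := by
        refine ⟨((T.isPGroup'.map _).comap_of_injective (cj d M).subtype (cj d M).subtype_injective).toSylow ?_, rfl⟩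
        intro hd
        refine T.not_dvd_index ?_
        have e' : (cj d (T : Subgroup H)).index = (T : Subgroup H).index :=
          index_map_equiv (T : Subgroup H) (MulAut.conj d)
        rw [← e', ← relIndex_mul_index (cj_mono d hM.2)]
        exact Dvd.dvd.mul_right hd _
      obtain ⟨S0, hS0⟩ := (((T.isPGroup'.map (MulAut.conj c).toMonoidHom).to_le hES).comap_of_injective (cj d M).subtype
        (cj d M).subtype_injective).exists_le_sylow
      obtain ⟨m, hm⟩ := MulAction.exists_smul_eq (cj d M) T1 S0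
      refine ⟨(m : H) * d, fun z hz => ?_, ?_⟩
      · have hz0 : (⟨z, hEM hz⟩ : cj d M) ∈ (S0 : Subgroup (cj d M)) := hS0 hz
        rw [← hm, Sylow.coe_subgroup_smul, hT1, mem_pointwise_smul_iff_inv_smul_mem] at hz0
        rw [← cj_cj, mem_cj_iff]
        have hv := mem_subgroupOf.mp hz0
        have he' : (m : H)⁻¹ * z * (m : H) = (((MulAut.conj m)⁻¹ • (⟨z, hEM hz⟩ : cj d M) : cj d M) : H) := by simp [mul_assoc]
        rw [he']
        exact hv
      · rw [← cj_cj]
        exact (cj_mono _ (cj_mono d hM.2)).trans (cj_eq_of_normalizer (le_normalizer m.2)).le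
    have heq : cj d M = cj e M := huniqS e d heM
    have hne' : cj c M ≠ cj e M := fun h => hcd (heq.trans h.symm)
    have hsub : Dset (c, d) ⊆ Dset (e, c) := fun B hB =>
      ⟨hB.1, (hDE B hB).trans heS, hB.2.1.trans (cj_mono c hM.2)⟩
    have hmax' := hmaxD (e, c) hne'
    have heq' : Dset (c, d) = Dset (e, c) := Set.eq_of_subset_of_ncard_le hsub hmax' (Set.toFinite _)
    obtain ⟨B, hB, hBe, hBM, hBN⟩ := hmember e (cj c M) heS (fun B hB => hB.2.1.trans (cj_mono c hM.2))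
      (fun B h1 h2 h3 => heq'.ge ⟨h1, h2, h3⟩) (by
        by_contra hall; push Not at hall
        exact hne' (hU e c hall))
    exact hBM (hBN.trans hle)
  -- the minimal subgroup
  obtain ⟨L', ⟨hRL, hLN, hLM⟩, hLmin⟩ := Set.Finite.exists_minimal
    (Set.toFinite {L' : Subgroup H | R ≤ L' ∧ L' ≤ normalizer (E : Set H) ∧ ¬ L' ≤ cj c M})
    ⟨normalizer (E : Set H), sup_le hA'N le_normalizer, le_rfl, hNnot⟩
  have hEO : E ≤ Cfsg.pCoreOf p L' := by
    have hEL : E ≤ L' := le_sup_right.trans hRL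
    haveI : (E.subgroupOf L').Normal := normal_subgroupOf_of_le_normalizer hLN
    refine (subgroupOf_map_subtype E L' ▸ inf_eq_left.mpr hEL).ge.trans (map_mono ?_)
    exact Core.le_pCore ((((T.isPGroup'.map (MulAut.conj c).toMonoidHom).to_le hES)).comap_of_injective L'.subtype L'.subtype_injective)
  have hcoreM : A' ⊔ Cfsg.pCoreOf p L' ≤ cj c M := by
    have hp1 : IsPGroup p (Cfsg.pCoreOf p L') := Core.pCore_isPGroup.map _
    have hn1 : A' ≤ normalizer ((Cfsg.pCoreOf p L' : Subgroup H) : Set H) := fun a ha =>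
      (le_normalizer_map L'.subtype) ⟨⟨a, hRL (mem_sup_left ha)⟩, (normalizer_eq_top (H := Cfsg.pCore p L')).ge (mem_top _), rfl⟩
    obtain ⟨S1, hS1⟩ := (((T.isPGroup'.map (MulAut.conj c).toMonoidHom).to_le hA'S).to_sup_of_normal_right' hp1 hn1).exists_le_sylow
    obtain ⟨u, hu⟩ := hSyl S1
    have h1 : A' ⊔ Cfsg.pCoreOf p L' ≤ cj u M := hS1.trans (hu.le.trans (cj_mono u hM.2))
    rw [← hRone u (le_trans (sup_le_sup_left hEO _) h1)]
    exact h1
  have hL0L : L' ⊓ cj c M < L' := lt_of_le_of_ne inf_le_left fun e => hLM (e ▸ inf_le_right)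
  have hbelow : ∀ X : Subgroup H, A' ⊔ Cfsg.pCoreOf p L' ≤ X → X < L' → X ≤ L' ⊓ cj c M := by
    intro X hX hlt
    refine le_inf hlt.le ?_
    by_contra hXM
    exact hlt.not_ge (hLmin ⟨(sup_le_sup_left hEO _).trans hX, hlt.le.trans hLN, hXM⟩ hlt.le)
  have hgenL : ∀ x ∈ L', x ∉ L' ⊓ cj c M → (A' ⊔ cj x A') ⊔ Cfsg.pCoreOf p L' = L' := by
    intro x hx hxM
    refine eq_of_le_of_not_lt (sup_le (sup_le (le_sup_left.trans hRL) ?_) (map_subtype_le _)) fun hlt => ?_
    · exact (cj_mono x (le_sup_left.trans hRL)).trans (cj_eq_of_normalizer (le_normalizer hx)).le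
    · have h1 := (hbelow _ (sup_le_sup_right le_sup_left _) hlt).trans inf_le_right
      have h2 : cj x R ≤ cj c M := by
        rw [hR, cj, Subgroup.map_sup]
        refine sup_le ((le_sup_right.trans le_sup_left).trans h1) ?_
        exact (cj_eq_of_normalizer (hLN hx)).le.trans (hEO.trans (le_sup_right.trans h1))
      have h3 := hRone (x⁻¹ * c) (by rw [← cj_cj]; exact (cj_inv_cj x R).ge.trans (cj_mono _ h2))
      have h4 : c⁻¹ * x⁻¹ * c ∈ M := hNM _ (by
        have := congrArg (cj c⁻¹) h3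
        rwa [cj_inv_cj, cj_cj, ← mul_assoc] at this)
      refine hxM ⟨hx, mem_cj_iff.mpr ?_⟩
      have := M.inv_mem h4
      simpa [mul_assoc] using this
  -- conjugate back to `A`
  obtain ⟨k, rfl⟩ := hA'
  set ψ := (MulAut.conj k⁻¹).toMonoidHom with hψ
  have hcore : Cfsg.pCoreOf p (cj k⁻¹ L') = cj k⁻¹ (Cfsg.pCoreOf p L') := by
    unfold Cfsg.pCoreOf
    rw [cj, cj, ← Core.map_pCore (L'.equivMapOfInjective (MulAut.conj k⁻¹).toMonoidHom (MulAut.conj k⁻¹).injective),
      Subgroup.map_map, Subgroup.map_map]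
    rfl
  refine ⟨cj k⁻¹ L', sup_le ?_ ?_, cj k⁻¹ (L' ⊓ cj c M), ?_, ?_, ?_, ⟨k⁻¹ * c, ?_⟩, ?_⟩
  · exact (cj_inv_cj k A).ge.trans (cj_mono _ (le_sup_left.trans hRL))
  · intro x hx
    refine mem_cj_iff.mpr (((le_sup_left.trans le_sup_right : O ≤ R).trans hRL) ?_)
    exact hOn.conj_mem x hx (k⁻¹)⁻¹ |> fun h => by simpa using h
  · rw [hcore]
    refine le_trans (sup_le_sup_right (cj_inv_cj k A).ge _) ?_
    rw [cj, cj, cj, ← Subgroup.map_sup]
    exact map_mono (le_inf (sup_le (le_sup_left.trans hRL) (map_subtype_le _)) hcoreM)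
  · exact lt_of_le_of_ne (cj_mono _ hL0L.le) fun e => hL0L.ne (map_injective (MulAut.conj k⁻¹).injective e)
  · intro X hX hlt
    rw [hcore] at hX
    have h1 : cj k X < L' := by
      refine lt_of_le_of_ne ?_ fun e => hlt.ne ?_
      · exact (cj_mono k hlt.le).trans (le_of_eq (by rw [cj_cj, mul_inv_cancel, cj_one]))
      · rw [← e, cj_inv_cj]
    have h2 := hbelow (cj k X) ?_ h1
    · exact (cj_inv_cj k X).ge.trans (cj_mono _ h2)
    · refine le_trans ?_ (cj_mono k hX)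
      rw [cj, cj, Subgroup.map_sup, ← cj, ← cj, ← cj, cj_cj, mul_inv_cancel, cj_one]
  · show cj k⁻¹ (L' ⊓ cj c M) = _
    rw [cj, map_inf_eq _ _ _ (MulAut.conj k⁻¹).injective, ← cj, ← cj, cj_cj]
  · intro x hx hxn
    show A ⊔ cj x A ⊔ Cfsg.pCoreOf p (cj k⁻¹ L') = cj k⁻¹ L'
    have h1 : k * x * k⁻¹ ∈ L' := by simpa using mem_cj_iff.mp hx
    have h2 := hgenL _ h1 fun h => hxn (mem_cj_iff.mpr (by simpa using h))
    rw [hcore]
    conv_rhs => rw [← h2]
    rw [cj, cj, cj, cj, Subgroup.map_sup, Subgroup.map_sup, ← cj, ← cj, ← cj, ← cj, ← cj, cj_cj, cj_cj, cj_cj,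
      show k⁻¹ * (k * x * k⁻¹) * k = x by group, inv_mul_cancel, cj_one]

end Cfsg.Agent.S2834
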