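import Cfsg.Statements.S1754
-- import your own Cfsg.Agent.* helpers here

set_option autoImplicit false
open Cfsg

namespace Cfsg.Agent.S1754

theorem quasisimple_congr {H K : Type*} [Group H] [Group K] (e : H ≃* K)
    (h : Cfsg.IsQuasisimple H) : Cfsg.IsQuasisimple K := by
  obtain ⟨hp, hs⟩ := h
  haveI := hp
  refine ⟨Group.IsPerfect.ofSurjective (f := e.toMonoidHom) e.surjective, ?_⟩
  have hm : (Subgroup.center H).map (e : H →* K) = Subgroup.center K := by
    ext y
    simp only [Subgroup.mem_map, Subgroup.mem_center_iff]
    constructor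
    · rintro ⟨x, hx, rfl⟩ g
      obtain ⟨g, rfl⟩ := e.surjective g
      simpa using congrArg e (hx g)
    · intro hy
      refine ⟨e.symm y, fun g => ?_, by simp⟩
      apply e.injective
      simpa using hy (e g)
  exact (QuotientGroup.congr _ _ e hm).symm.isSimpleGroup

/-- Let A be a standard subgroup of the finite group G (A quasisimple, C_G(A) tightly embedded of even order, A commuting elementwise with no other conjugate of itself, and N_G(A) = N_G(C_G(A))), and let t be an involution of G centralizing A. Then the centralizer of t lies in the normalizer of A; in particular A, viewed inside C_G(t), is a component of C_G(t). -/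
theorem result {G : Type*} [Group G] [Finite G]
    (A : Subgroup G) (hA : Cfsg.IsStandardSubgroup A) (t : G) (ht : orderOf t = 2) (htA : t ∈ Subgroup.centralizer (A : Set G)) :
    Subgroup.centralizer ({t} : Set G) ≤ Subgroup.normalizer (A : Set G) ∧
      Cfsg.IsComponent (A.subgroupOf (Subgroup.centralizer ({t} : Set G))) := by
  obtain ⟨hq, ⟨-, hte⟩, -, hnorm⟩ := hA
  have hle : Subgroup.centralizer ({t} : Set G) ≤ Subgroup.normalizer (A : Set G) := by
    intro g hg
    rw [hnorm]
    by_contra hn
    have ht' : t ∈ Subgroup.centralizer (A : Set G) ⊓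
        (Subgroup.centralizer (A : Set G)).map (MulAut.conj g).toMonoidHom := by
      refine ⟨htA, Subgroup.mem_map.2 ⟨t, htA, ?_⟩⟩
      have hc : g * t = t * g := (Subgroup.mem_centralizer_iff.1 hg t rfl).symm
      simp [MulAut.conj_apply, hc]
    have h2 := Subgroup.orderOf_dvd_natCard _ ht'
    rw [ht] at h2
    exact (Nat.not_even_iff_odd.2 (hte g hn)) (even_iff_two_dvd.2 h2)
  have hAC : A ≤ Subgroup.centralizer ({t} : Set G) := by
    intro a ha
    rw [Subgroup.mem_centralizer_iff]
    intro h hh
    rw [Set.mem_singleton_iff.1 hh]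
    exact (Subgroup.mem_centralizer_iff.1 htA a ha).symm
  refine ⟨hle, ?_, quasisimple_congr (Subgroup.subgroupOfEquivOfLe hAC).symm hq⟩
  haveI : (A.subgroupOf (Subgroup.centralizer ({t} : Set G))).Normal :=
    Subgroup.normal_subgroupOf_of_le_normalizer hle
  exact Subgroup.Normal.isSubnormal inferInstance

end Cfsg.Agent.S1754
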