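import Cfsg.Statements.S1127
import Cfsg.Agent.RankOne.Centralized
-- import your own Cfsg.Agent.* helpers here

set_option autoImplicit false
open Cfsg
open Cfsg.Agent
open scoped commutatorElement Pointwise

namespace Cfsg.Agent.S1127

/-- In the rank-one set-up (`G` finite and doubly transitive on `Ω`, `t` an involution moving `a`, `Q` normal in `G_a` with `G_a = Q D`, `Q ⊓ D = 1` for the two-point stabiliser `D = G_a ⊓ G_{t • a}`, `|Q|` even, `|D|` odd): if `s` is an involution of `G_a` and `r ∈ Q` satisfy `t s t = r⁻¹ t r`, then `C_D(t) = C_D(s)`; moreover `C_D(t) ⊓ C_D(K) = C_D(I ∩ G_a)`, where `K` is the set of elements of `D` inverted by `t` and `I ∩ G_a` the set of involutions of `G_a`. -/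
theorem result {G Ω : Type*} [Group G] [Finite G] [MulAction G Ω] {a : Ω} {t : G} {Q : Subgroup G}
    (hS : Cfsg.IsRankOneSetup G Ω a t Q) :
    (∀ s r : G, s ∈ Cfsg.involutionsIn (MulAction.stabilizer G a : Set G) → r ∈ Q → t * s * t = r⁻¹ * t * r →
        (MulAction.stabilizer G a ⊓ MulAction.stabilizer G (t • a)) ⊓ Subgroup.centralizer {t} = (MulAction.stabilizer G a ⊓ MulAction.stabilizer G (t • a)) ⊓ Subgroup.centralizer {s}) ∧
      (MulAction.stabilizer G a ⊓ MulAction.stabilizer G (t • a)) ⊓ Subgroup.centralizer {t} ⊓ Subgroup.centralizer (Cfsg.invertedBy (MulAction.stabilizer G a ⊓ MulAction.stabilizer G (t • a)) t) =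
        (MulAction.stabilizer G a ⊓ MulAction.stabilizer G (t • a)) ⊓ Subgroup.centralizer (Cfsg.involutionsIn (MulAction.stabilizer G a : Set G)) := by
  have htc : ∀ d : G, d * t = t * d ↔ t * d * t = d := fun d => by
    constructor
    · intro h; rw [← h, mul_assoc, hS.mul_self, mul_one]
    · intro h; nth_rw 1 [← h]; rw [mul_assoc _ t t, hS.mul_self, mul_one]
  have first : ∀ s r : G, s ∈ Cfsg.involutionsIn (MulAction.stabilizer G a : Set G) → r ∈ Q →
      t * s * t = r⁻¹ * t * r → ∀ d ∈ RankOne.twoPt G a t, (d * t = t * d ↔ d * s = s * d) := by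
    intro s r hs hr e d hd
    have hl : RankOne.Link Q t s 1 := ⟨r, hr, by rw [one_mul, e]⟩
    have hl' := RankOne.link_conj hS hd hl
    rw [mul_one] at hl'
    have h1 : d⁻¹ * s * d = s ↔ d * s = s * d := by
      constructor
      · intro h; nth_rw 1 [← h]; simp [mul_assoc]
      · intro h; rw [mul_assoc, ← h, inv_mul_cancel_left]
    rw [htc, ← h1]
    constructor
    · intro h
      rw [h, inv_mul_cancel] at hl'
      exact RankOne.link_unique_left hS (RankOne.one_mem_invertedBy hS.mul_self)
        (RankOne.conj_I hS hs (RankOne.twoPt_le hd)) hs hl' hl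
    · intro h
      rw [h] at hl'
      exact inv_mul_eq_one.mp (RankOne.link_unique_right hS
        (mul_mem (inv_mem (RankOne.t_conj_twoPt hS hd)) hd) (Subgroup.one_mem _) hl' hl)
  refine ⟨fun s r hs hr e => ?_, ?_⟩
  · ext d
    simp only [Subgroup.mem_inf, Subgroup.mem_centralizer_singleton_iff]
    exact and_congr_right fun hd => first s r hs hr e d hd
  obtain ⟨⟨s, r⟩, ⟨hs, hr, e⟩, -⟩ :=
    RankOne.link_exists_right hS (RankOne.one_mem_invertedBy hS.mul_self)
  simp only [one_mul] at hs hr e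
  ext d
  simp only [Subgroup.mem_inf, Subgroup.mem_centralizer_singleton_iff]
  simp only [Subgroup.mem_centralizer_iff]
  constructor
  · rintro ⟨⟨hd, hdt⟩, hdK⟩
    refine ⟨hd, fun s' hs' => ?_⟩
    obtain ⟨c, hc, rfl⟩ := RankOne.exists_conj_invertedBy hS hs hs'
    have h1 : Commute d s := (first s r hs hr e d hd).mp hdt
    have h2 : Commute d c := (hdK c hc).symm
    exact ((h2.inv_right.mul_right h1).mul_right h2).eq.symm
  · rintro ⟨hd, hdI⟩
    refine ⟨⟨hd, (first s r hs hr e d hd).mpr (hdI s hs).symm⟩, fun c hc => ?_⟩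
    have hkey : ∀ c ∈ Cfsg.invertedBy (RankOne.twoPt G a t) t, (c * d * c⁻¹) * t = t * (c * d * c⁻¹) := by
      intro c hc
      refine (first s r hs hr e _ (mul_mem (mul_mem hc.1 hd) (inv_mem hc.1))).mpr ?_
      have h1 := hdI _ (RankOne.conj_I hS hs (RankOne.twoPt_le hc.1))
      calc c * d * c⁻¹ * s = c * (d * (c⁻¹ * s * c)) * c⁻¹ := by simp [mul_assoc]
        _ = c * ((c⁻¹ * s * c) * d) * c⁻¹ := by rw [h1]
        _ = s * (c * d * c⁻¹) := by simp [mul_assoc]
    have hdt := (htc d).mp ((first s r hs hr e d hd).mpr (hdI s hs).symm)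
    have h1 := (htc _).mp (hkey c hc)
    rw [mul_assoc c d, ← mul_assoc t c, RankOne.t_smul_t_mul hS, ← mul_assoc t d,
      RankOne.t_smul_t_mul hS, hdt,
      ((RankOne.mem_invertedBy hS.mul_self).mp hc).2,
      ((RankOne.mem_invertedBy hS.mul_self).mp (RankOne.inv_mem_invertedBy hS.mul_self hc)).2,
      inv_inv] at h1
    have h2 : Commute (c * c) d := by
      show c * c * d = d * (c * c)
      calc c * c * d = c * (c * (d * c⁻¹)) * c := by simp [mul_assoc]
        _ = c * (c⁻¹ * (d * c)) * c := by rw [h1]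
        _ = d * (c * c) := by simp [mul_assoc]
    exact (RankOne.commute_of_commute_sq hS.odd_card hc.1 h2).eq

end Cfsg.Agent.S1127
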