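import Cfsg.Statements.S1160
import Cfsg.Agent.RankOne.ConstStabilizer
-- import your own Cfsg.Agent.* helpers here

set_option autoImplicit false
open Cfsg
open Cfsg.Agent

namespace Cfsg.Agent.S1160

/-- Let `p ≠ 2` be prime and `P` a finite `p`-group acting faithfully by additive automorphisms on a finite elementary abelian `q`-group `E` (`q` prime), such that `|P_a|` is the same for all `a ≠ 0`. Then `P` is cyclic and every non-identity element of `P` fixes only `0`. -/
theorem result {P E : Type*} [Group P] [Finite P]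
    [AddCommGroup E] [Finite E] [DistribMulAction P E] [FaithfulSMul P E]
    {p q : ℕ} [Fact p.Prime] (hp2 : p ≠ 2) (hP : IsPGroup p P) (hq : q.Prime) (hE : ∀ e : E, q • e = 0)
    (hconst : ∀ a b : E, a ≠ 0 → b ≠ 0 →
      Nat.card (MulAction.stabilizer P a) = Nat.card (MulAction.stabilizer P b)) :
    IsCyclic P ∧ ∀ g : P, g ≠ 1 → ∀ a : E, g • a = a → a = 0 := by
  have hpp : p.Prime := Fact.out
  rcases subsingleton_or_nontrivial E with hsub | hnt
  · have : Subsingleton P := ⟨fun x y =>
      FaithfulSMul.eq_of_smul_eq_smul (α := E) fun v => Subsingleton.elim _ _⟩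
    exact ⟨isCyclic_of_subsingleton, fun g hg => absurd (Subsingleton.elim g 1) hg⟩
  by_cases hpq : p = q
  · subst hpq
    -- a fixed non-zero vector
    obtain ⟨v, hv⟩ := exists_ne (0 : E)
    have hdvd : p ∣ Nat.card E := by
      rw [← addOrderOf_eq_prime (hE v) hv]
      exact addOrderOf_dvd_natCard v
    obtain ⟨a, ha, ha0⟩ := hP.exists_fixed_point_of_prime_dvd_card_of_fixed_point E hdvd
      (a := 0) (fun g => smul_zero g)
    have hP1 : ∀ g : P, g = 1 := by
      intro g
      refine FaithfulSMul.eq_of_smul_eq_smul (α := E) fun w => ?_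
      rw [one_smul]
      by_cases hw : w = 0
      · rw [hw, smul_zero]
      have htop : MulAction.stabilizer P a = ⊤ := (Subgroup.eq_top_iff' _).mpr fun g => ha g
      have hw' : MulAction.stabilizer P w = ⊤ := Subgroup.eq_top_of_card_eq _ (by
        rw [hconst w a hw ha0.symm, htop, Subgroup.card_top])
      have : g ∈ MulAction.stabilizer P w := hw' ▸ Subgroup.mem_top g
      exact this
    have : Subsingleton P := ⟨fun x y => (hP1 x).trans (hP1 y).symm⟩
    exact ⟨isCyclic_of_subsingleton, fun g hg => absurd (hP1 g) hg⟩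
  have hcyc := RankOne.isCyclic_of_const hp2 hP hq hpq hE hconst
  refine ⟨hcyc, fun g hg a hga => ?_⟩
  obtain ⟨n, hn⟩ := hP g
  obtain ⟨k, -, hk⟩ := (Nat.dvd_prime_pow hpp).mp (orderOf_dvd_of_pow_eq_one hn)
  have hk0 : k ≠ 0 := fun h => hg (orderOf_eq_one_iff.mp (by rw [hk, h, pow_zero]))
  have hzord : orderOf (g ^ (orderOf g / p)) = p :=
    orderOf_pow_orderOf_div (orderOf_pos g).ne' (hk ▸ dvd_pow_self p hk0)
  letI := IsCyclic.commGroup (α := P)
  refine RankOne.central_free hq hpq hE hconst (fun x => Commute.all (g ^ (orderOf g / p)) x)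
    (by nth_rw 2 [← hzord]; exact pow_orderOf_eq_one _)
    (fun h => hpp.ne_one (by rw [← hzord, h, orderOf_one])) ?_
  have h : g ∈ MulAction.stabilizer P a := hga
  exact pow_mem h _

end Cfsg.Agent.S1160
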