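import Cfsg.Statements.S0840
import Cfsg.Agent.Char.ClassAlg
import Cfsg.Agent.Char.Perm
-- import your own Cfsg.Agent.* helpers here

set_option autoImplicit false
open scoped ComplexConjugate
open Cfsg

namespace Cfsg.Agent.S0840

/-- Class multiplication coefficients from the character table: for elements a, b, c of a finite group G, the number of ordered pairs (x, y) with x conjugate to a, y conjugate to b and x * y = c equals the product of the sizes of the conjugacy classes of a and b, divided by the order of G, times the sum over the irreducible characters χ of χ a * χ b * conj (χ c) / χ 1. -/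
theorem result {G : Type*} [Group G] [Finite G] (a b c : G) : (Nat.card {p : G × G // IsConj a p.1 ∧ IsConj b p.2 ∧ p.1 * p.2 = c} : ℂ) = (Nat.card {x : G // IsConj a x} : ℂ) * (Nat.card {x : G // IsConj b x} : ℂ) / (Nat.card G : ℂ) * ∑ᶠ χ : Cfsg.IrrCharacter G, (χ : G → ℂ) a * (χ : G → ℂ) b * conj ((χ : G → ℂ) c) / (χ : G → ℂ) 1 := by
  classical
  have := Fintype.ofFinite G
  rw [finsum_eq_sum_of_fintype, Char.card_isConj_eq_index, Char.card_isConj_eq_index]
  let f : G → ℂ := fun c => (Nat.card {p : G × G // IsConj a p.1 ∧ IsConj b p.2 ∧ p.1 * p.2 = c} : ℂ)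
  have hf : Cfsg.IsClassFunction G f := by
    intro x k
    refine congrArg Nat.cast (Nat.card_congr (Equiv.subtypeEquiv
      ((MulAut.conj k⁻¹).toEquiv.prodCongr (MulAut.conj k⁻¹).toEquiv) fun p => ?_))
    show _ ↔ IsConj a (MulAut.conj k⁻¹ p.1) ∧ IsConj b (MulAut.conj k⁻¹ p.2) ∧
      MulAut.conj k⁻¹ p.1 * MulAut.conj k⁻¹ p.2 = x
    have hc : ∀ u v : G, IsConj u (MulAut.conj k⁻¹ v) ↔ IsConj u v := fun u v =>
      ⟨fun h => h.trans (isConj_iff.2 ⟨k⁻¹, rfl⟩).symm, fun h => h.trans (isConj_iff.2 ⟨k⁻¹, rfl⟩)⟩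
    rw [hc, hc, ← map_mul, ← (MulAut.conj k⁻¹).injective.eq_iff (a := p.1 * p.2)]
    refine and_congr_right fun _ => and_congr_right fun _ => iff_of_eq (congrArg _ ?_)
    simp [mul_assoc]
  refine (congrFun (Char.classFun_expansion hf) c).trans ?_
  simp only [Finset.sum_apply, Pi.smul_apply, smul_eq_mul, Finset.mul_sum]
  refine Fintype.sum_equiv (Function.Involutive.toPerm _ Char.conjIrr_conjIrr) _ _ fun χ => ?_
  show _ = _ * ((Char.conjIrr χ : G → ℂ) a * (Char.conjIrr χ : G → ℂ) b *
    starRingEnd ℂ ((Char.conjIrr χ : G → ℂ) c) / (Char.conjIrr χ : G → ℂ) 1)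
  obtain ⟨n, -, hn⟩ := Char.IsIrr.degree χ.2
  simp only [Char.conjIrr_apply, Complex.conj_conj, hn, Complex.conj_natCast]
  have hsum : ∑ g, f g * starRingEnd ℂ ((χ : G → ℂ) g) =
      starRingEnd ℂ (∑ x ∈ Finset.univ.filter (IsConj a), ∑ y ∈ Finset.univ.filter (IsConj b),
        (χ : G → ℂ) (x * y)) := by
    rw [← Finset.sum_product', map_sum]
    conv_rhs => rw [← Finset.sum_fiberwise_of_maps_to (g := fun p : G × G => p.1 * p.2)
      (t := Finset.univ) (fun _ _ => Finset.mem_univ _)]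
    refine Finset.sum_congr rfl fun y _ => Eq.symm ?_
    rw [Finset.sum_congr rfl fun s hs => by rw [(Finset.mem_filter.1 hs).2], Finset.sum_const,
      nsmul_eq_mul]
    show _ = (Nat.card _ : ℂ) * _
    rw [Nat.card_eq_fintype_card, Fintype.card_subtype]
    congr 2
    congr 1
    ext p
    simp [and_assoc]
  have hne : (n : ℂ) ≠ 0 := hn ▸ Char.IsIrr.one_ne_zero χ.2
  have h3 : (χ : G → ℂ) 1 * ∑ x ∈ Finset.univ.filter (IsConj a),
      ∑ y ∈ Finset.univ.filter (IsConj b), (χ : G → ℂ) (x * y) =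
      ((Subgroup.centralizer ({a} : Set G)).index : ℂ) *
        ((Subgroup.centralizer ({b} : Set G)).index : ℂ) * (χ : G → ℂ) a * (χ : G → ℂ) b := by
    convert Char.sum_classes_mul χ.2 a b
  have h2 := congrArg (starRingEnd ℂ) h3
  simp only [map_mul, map_natCast, hn] at h2
  rw [Cfsg.classInner, hsum]
  have hG : (Nat.card G : ℂ) ≠ 0 := Char.card_ne_zero
  field_simp
  linear_combination ((χ : G → ℂ) c) * h2

end Cfsg.Agent.S0840
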