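import Cfsg.Statements.S0996
import Cfsg.Agent.Fg24.Brauer.Classify
-- import your own Cfsg.Agent.* helpers here

set_option autoImplicit false
open Cfsg

namespace Cfsg.Agent.S0996

/-- Let G be a finite perfect group containing an element z of prime order p whose centralizer is the cyclic group it generates, and suppose the number 1 + n * p of Sylow p-subgroups satisfies n < (p + 3) / 2. Then p > 3 and G is isomorphic to the projective special linear group of dimension 2 over the field with p elements, or p - 1 is a power of 2 and G is isomorphic to that group over the field with p - 1 elements. -/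
theorem result {G : Type*} [Group G] [Finite G] (hperf : commutator G = ⊤) (p : ℕ) [Fact p.Prime] (z : G) (hz : orderOf z = p) (hC : Subgroup.centralizer ({z} : Set G) = Subgroup.zpowers z) (hn : 2 * Nat.card (Sylow p G) < (p + 1) * (p + 2)) : (∃ (F : Type) (_ : Field F) (_ : Fintype F), Fintype.card F = p ∧ 3 < p ∧ Nonempty (G ≃* Matrix.ProjectiveSpecialLinearGroup (Fin 2) F)) ∨ (∃ (m : ℕ) (F : Type) (_ : Field F) (_ : Fintype F), Fintype.card F = 2 ^ m ∧ p = 2 ^ m + 1 ∧ 3 < p ∧ Nonempty (G ≃* Matrix.ProjectiveSpecialLinearGroup (Fin 2) F)) := by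
  
  classical
  have hp : p.Prime := Fact.out
  have hzp : IsPGroup p (Subgroup.zpowers z) := IsPGroup.of_card (n := 1)
    (by rw [Nat.card_zpowers, hz, pow_one])
  obtain ⟨P, hP⟩ := hzp.exists_le_sylow
  have hzP : z ∈ (P : Subgroup G) := hP (Subgroup.mem_zpowers z)
  have hz1 : z ≠ 1 := fun h => hp.one_lt.ne (by rw [← hz, h, orderOf_one])
  have hPz : (P : Subgroup G) = Subgroup.zpowers z := by
    refine le_antisymm (fun x hx => ?_) hP
    have : Nontrivial (P : Subgroup G) := nontrivial_of_ne ⟨z, hzP⟩ 1 fun h => hz1 (congrArg Subtype.val h)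
    obtain ⟨⟨w, hw⟩, hw1⟩ := (Subgroup.nontrivial_iff_exists_ne_one _).1 P.isPGroup'.center_nontrivial
    have hwz : (w : G) ∈ Subgroup.zpowers z := by
      rw [← hC, Subgroup.mem_centralizer_singleton_iff]
      exact congrArg Subtype.val (Subgroup.mem_center_iff.1 hw1.1 ⟨z, hzP⟩).symm
    have hw' : (w : G) ≠ 1 := fun h => hw1.2 (Subtype.ext h)
    have hzw : z ∈ Subgroup.zpowers (w : G) := by
      have h1 : Subgroup.zpowers (w : G) = Subgroup.zpowers z := by
        refine Subgroup.eq_of_le_of_card_ge (Subgroup.zpowers_le.2 hwz) ?_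
        have h2 := Subgroup.orderOf_dvd_natCard _ hwz
        rw [Nat.card_zpowers, hz] at h2
        rw [Nat.card_zpowers, Nat.card_zpowers, hz]
        rcases (Nat.dvd_prime hp).1 h2 with h3 | h3
        · exact absurd (orderOf_eq_one_iff.1 h3) hw'
        · exact h3.ge
      exact h1 ▸ Subgroup.mem_zpowers z
    rw [← hC, Subgroup.mem_centralizer_singleton_iff]
    obtain ⟨i, rfl⟩ := hzw
    have h4 : x * (w : G) = (w : G) * x :=
      congrArg Subtype.val (Subgroup.mem_center_iff.1 hw1.1 ⟨x, hx⟩)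
    exact (show Commute x (w : G) from h4).zpow_right i
  have hPc : Nat.card (P : Subgroup G) = p := by rw [hPz, Nat.card_zpowers, hz]
  obtain ⟨n, hnp⟩ : ∃ n, Nat.card (Sylow p G) = n * p + 1 :=
    ⟨Nat.card (Sylow p G) / p, by
      conv_lhs => rw [← Nat.div_add_mod (Nat.card (Sylow p G)) p, card_sylow_modEq_one p G,
        Nat.mod_eq_of_lt hp.one_lt, mul_comm]⟩
  have hF : ¬ Agent.Fg24.Brauer.FForm p n := fun h => by
    have h1 := Nat.mul_le_mul_right p h.le
    rw [hnp] at hn
    nlinarith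
  obtain ⟨hconc, hle⟩ := Agent.Fg24.Brauer.quotient_core hperf P hPc hnp hF
  have hbot : Cfsg.pPrimeCore p G = ⊥ := by
    have hd : (Cfsg.pPrimeCore p G) ⊓ (P : Subgroup G) = ⊥ := Subgroup.inf_eq_bot_of_coprime <| by
      rw [hPc]
      exact (hp.coprime_iff_not_dvd.2 Agent.Core.not_dvd_card_pPrimeCore).symm
    refine (Subgroup.eq_bot_iff_forall _).2 fun x hx => ?_
    have hxP : x ∈ (P : Subgroup G) := by
      rw [hPz, ← hC, Subgroup.mem_centralizer_singleton_iff]
      have h1 : x * z * x⁻¹ * z⁻¹ ∈ Cfsg.pPrimeCore p G ⊓ (P : Subgroup G) := by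
        refine ⟨?_, mul_mem ((Subgroup.mem_normalizer_iff.1 (hle hx) z).1 hzP) ((P : Subgroup G).inv_mem hzP)⟩
        rw [show x * z * x⁻¹ * z⁻¹ = x * (z * x⁻¹ * z⁻¹) by group]
        exact mul_mem hx (Subgroup.Normal.conj_mem inferInstance _ (inv_mem hx) z)
      rw [hd, Subgroup.mem_bot, mul_inv_eq_one, mul_inv_eq_iff_eq_mul] at h1
      exact h1
    exact (Subgroup.mem_bot).1 (hd.le ⟨hx, hxP⟩)
  let φ : G ≃* G ⧸ Cfsg.pPrimeCore p G := (QuotientGroup.quotientBot (G := G)).symm.trans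
    (QuotientGroup.quotientMulEquivOfEq hbot.symm)
  rcases hconc with ⟨F, iF, iFF, h1, h3, ⟨ψ⟩⟩ | ⟨m, F, iF, iFF, hF', hpm, h3, ⟨ψ⟩⟩
  · exact Or.inl ⟨F, iF, iFF, h1, h3, ⟨φ.trans ψ⟩⟩
  · have hm : Even (Fintype.card F) := by
      rw [hF']
      refine Nat.even_pow.2 ⟨even_two, fun h0 => ?_⟩
      rw [h0] at hpm
      omega
    obtain ⟨χ⟩ := Agent.Fg24.Brauer.nonempty_sl_equiv_psl hm
    exact Or.inr ⟨m, F, iF, iFF, hF', hpm, h3, ⟨(φ.trans ψ).trans χ⟩⟩

end Cfsg.Agent.S0996
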