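import Cfsg.Statements.S0948
import Cfsg.Agent.Char.KleinSection
-- import your own Cfsg.Agent.* helpers here

set_option autoImplicit false
open Cfsg

namespace Cfsg.Agent.S0948

/-- Let the finite group G have a Sylow 2-subgroup P that is a Klein four-group, suppose all involutions of G are conjugate, and fix a maximal ideal M of the algebraic integers containing 2. Then the principal block consists of exactly four irreducible characters, the principal character and ζ₂, ζ₃, ζ₄, and there is a sign ε such that for every involution z: ζ₂ z = 1, ζ₃ z = ε, ζ₄ z = -1; moreover ζ₂ 1 ≡ 1, ζ₃ 1 ≡ ε, ζ₄ 1 ≡ -1 (mod 4), and 1 + ζ₂ y + ε ζ₃ y - ζ₄ y = 0 for every y of odd order. -/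
theorem result {G : Type*} [Group G] [Finite G] (M : Ideal Cfsg.AlgInt) (hM : Cfsg.IsPModular 2 M) (P : Sylow 2 G) (hP : IsKleinFour (P : Subgroup G)) (hone : ∀ s t : G, orderOf s = 2 → orderOf t = 2 → IsConj s t) : ∃ ζ₂ ζ₃ ζ₄ : Cfsg.IrrCharacter G, ∃ ε : ℤ, (ε = 1 ∨ ε = -1) ∧ (ζ₂ : G → ℂ) ≠ (fun _ => 1) ∧ (ζ₃ : G → ℂ) ≠ (fun _ => 1) ∧ ζ₂ ≠ ζ₃ ∧ ζ₂ ≠ ζ₄ ∧ ζ₃ ≠ ζ₄ ∧ Cfsg.principalBlock M G = {χ : Cfsg.IrrCharacter G | (χ : G → ℂ) = (fun _ => 1) ∨ χ = ζ₂ ∨ χ = ζ₃ ∨ χ = ζ₄} ∧ (∀ z : G, orderOf z = 2 → (ζ₂ : G → ℂ) z = 1 ∧ (ζ₃ : G → ℂ) z = (ε : ℂ) ∧ (ζ₄ : G → ℂ) z = -1) ∧ (4 : ℤ) ∣ (Cfsg.charDegree (ζ₂ : G → ℂ) : ℤ) - 1 ∧ (4 : ℤ) ∣ (Cfsg.charDegree (ζ₃ : G → ℂ) : ℤ) - ε ∧ (4 : ℤ) ∣ (Cfsg.charDegree (ζ₄ : G → ℂ) : ℤ) + 1 ∧ ∀ y : G, Odd (orderOf y) → 1 + (ζ₂ : G → ℂ) y + (ε : ℂ) * (ζ₃ : G → ℂ) y - (ζ₄ : G → ℂ) y = 0 := by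
  classical
  have := Fintype.ofFinite G
  have h2f : Fact (Nat.Prime 2) := ⟨Nat.prime_two⟩
  -- the group facts
  have hP4 : Nat.card (P : Subgroup G) = 4 := hP.card_four
  set g₀ := (P : Subgroup G).index with hg₀def
  have hG : Nat.card G = 4 * g₀ := by
    rw [hg₀def, ← Subgroup.card_mul_index (P : Subgroup G), hP4]
  have hg₀ : Odd g₀ := Nat.odd_iff.2 (Nat.two_dvd_ne_zero.1 P.not_dvd_index)
  have hord : ∀ z : (P : Subgroup G), z ≠ 1 → orderOf (z : G) = 2 := by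
    intro z hz
    rw [Subgroup.orderOf_coe]
    refine orderOf_eq_prime ?_ hz
    have h := Monoid.pow_exponent_eq_one z
    rwa [hP.exponent_two] at h
  obtain ⟨j, hj⟩ : ∃ j : (P : Subgroup G), j ≠ 1 := by
    have : Nontrivial (P : Subgroup G) := Finite.one_lt_card_iff_nontrivial.1 (by rw [hP4]; norm_num)
    exact exists_ne 1
  set J : G := (j : G) with hJdef
  have hJ : J ∈ (P : Subgroup G) := j.2
  have hJ2 : orderOf J = 2 := hord j hj
  have hconj : ∀ z : G, orderOf z = 2 → IsConj J z := fun z hz => hone J z hJ2 hz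
  have hnc : ¬ ∃ N : Subgroup G, N.Normal ∧ Nat.card N = g₀ := by
    rintro ⟨N, hN, hNc⟩
    have hidx : Nat.card (G ⧸ N) = 4 := by
      have h1 := Subgroup.card_eq_card_quotient_mul_card_subgroup N
      rw [hG, hNc] at h1
      exact (Nat.eq_of_mul_eq_mul_right hg₀.pos h1).symm
    have hab : ∀ a b : G ⧸ N, a * b = b * a :=
      IsPGroup.commutative_of_card_eq_prime_sq (p := 2) (by rw [hidx]; norm_num)
    have hall : ∀ z : (P : Subgroup G), z ≠ 1 → z = j := by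
      intro z hz
      obtain ⟨c, hc⟩ := isConj_iff.1 (hconj _ (hord z hz))
      have he : QuotientGroup.mk' N (z : G) = QuotientGroup.mk' N J := by
        rw [← hc, map_mul, map_mul, map_inv, hab _ (QuotientGroup.mk' N J), mul_inv_cancel_right]
      have hmem : J⁻¹ * (z : G) ∈ N := by
        rw [← QuotientGroup.eq_one_iff]
        show QuotientGroup.mk' N (J⁻¹ * (z : G)) = 1
        rw [map_mul, map_inv, he, inv_mul_cancel]
      by_contra hne
      have h1 : j⁻¹ * z ≠ 1 := fun h => hne (inv_mul_eq_one.1 h).symm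
      have h2 : 2 ∣ Nat.card N := by
        rw [← hord _ h1]
        exact Subgroup.orderOf_dvd_natCard N (x := ((j⁻¹ * z : (P : Subgroup G)) : G)) hmem
      rw [hNc] at h2
      exact P.not_dvd_index h2
    have hle : Nat.card (P : Subgroup G) ≤ 2 := by
      rw [Nat.card_eq_fintype_card, ← Finset.card_univ]
      calc (Finset.univ : Finset (P : Subgroup G)).card
          ≤ ({1, j} : Finset (P : Subgroup G)).card := Finset.card_le_card fun z _ => by
            by_cases h : z = 1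
            · simp [h]
            · simp [hall z h]
        _ ≤ 2 := Finset.card_le_two
    omega
  obtain ⟨a, haJ, hsum⟩ := Char.klein_section M hM g₀ hg₀ hG hnc P J hJ hJ2
  set B := Cfsg.principalBlock M G with hB
  have hBb := Blocks.isPBlock_principalBlock (G := G) M
  -- the principal character
  let χ₀ : IrrCharacter G := ⟨fun _ => 1, Char.isIrrCharacter_one⟩
  have h0B : χ₀ ∈ B := fun g => by rw [sub_self]; exact Blocks.memLocalIdeal_zero hM
  have ha0 : a χ₀ = 1 := by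
    have h := (haJ χ₀ h0B).2
    exact Int.cast_injective (α := ℂ) (by rw [← h, Int.cast_one])
  set S := (Finset.univ.filter fun χ => χ ∈ B).erase χ₀ with hS
  have hmemS : ∀ χ, χ ∈ S ↔ χ ≠ χ₀ ∧ χ ∈ B := fun χ => by simp [hS]
  have hsplit : ∀ F : IrrCharacter G → ℂ, (∑ χ : IrrCharacter G, if χ ∈ B then F χ else 0) =
      F χ₀ + ∑ χ ∈ S, F χ := fun F => by
    rw [← Finset.sum_filter, hS, Finset.add_sum_erase _ _ (by simp [h0B])]
  have hS3 : ∑ χ ∈ S, a χ ^ 2 = 3 := by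
    rw [← Finset.sum_filter, ← Finset.add_sum_erase _ _ (a := χ₀) (by simp [h0B]), ha0] at hsum
    linarith
  have hpm : ∀ χ ∈ S, a χ = 1 ∨ a χ = -1 := by
    intro χ hχ
    have h1 : a χ ^ 2 ≤ 3 := hS3 ▸ Finset.single_le_sum (fun ψ _ => sq_nonneg (a ψ)) hχ
    have h2 := (haJ χ ((hmemS χ).1 hχ).2).1
    have h3 : a χ ≤ 1 := by nlinarith
    have h4 : -1 ≤ a χ := by nlinarith
    omega
  have hcard : S.card = 3 := by
    have h := Finset.sum_congr (s₁ := S) rfl fun χ hχ => (show a χ ^ 2 = 1 by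
      rcases hpm χ hχ with e | e <;> rw [e] <;> norm_num)
    rw [hS3, Finset.sum_const, nsmul_eq_mul, mul_one] at h
    exact_mod_cast h.symm
  -- values at involutions and degrees
  have hval : ∀ χ ∈ B, ∀ z : G, orderOf z = 2 → (χ : G → ℂ) z = a χ := fun χ hχ z hz => by
    rw [← (haJ χ hχ).2]
    exact Char.classFun_isConj (Char.isClassFunction_of_isIrr χ.2) (hconj z hz).symm
  have hcong : ∀ χ ∈ B, (4 : ℤ) ∣ (Cfsg.charDegree (χ : G → ℂ) : ℤ) - a χ := by
    intro χ hχ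
    obtain ⟨n, -, hn⟩ := Char.IsIrr.degree χ.2
    rw [Blocks.charDegree_eq hn]
    obtain ⟨i, hi⟩ := Char.classInner_isCharacter_eq_natCast
      (Char.isCharacter_res (P : Subgroup G) (Char.IsIrr.isCharacter χ.2))
      (Char.isCharacter_one (G := (P : Subgroup G)))
    simp only [classInner, map_one, mul_one, hP4] at hi
    rw [← Finset.add_sum_erase _ _ (Finset.mem_univ (1 : (P : Subgroup G))),
      Finset.sum_congr rfl fun (z : (P : Subgroup G)) hz =>
        hval χ hχ (z : G) (hord z (Finset.ne_of_mem_erase hz)),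
      Finset.sum_const, Finset.card_erase_of_mem (Finset.mem_univ _), Finset.card_univ,
      ← Nat.card_eq_fintype_card, hP4] at hi
    simp only [OneMemClass.coe_one, hn] at hi
    have h : ((n : ℤ) : ℂ) + ((3 * a χ : ℤ) : ℂ) = ((4 * (i : ℤ) : ℤ) : ℂ) := by
      push_cast at hi ⊢
      norm_num at hi
      linear_combination 4 * hi
    have h' : (n : ℤ) + 3 * a χ = 4 * (i : ℤ) := by exact_mod_cast h
    exact ⟨(i : ℤ) - a χ, by linarith⟩
  -- orthogonality between sections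
  have hrel : ∀ y : G, Odd (orderOf y) → 1 + ∑ χ ∈ S, (a χ : ℂ) * (χ : G → ℂ) y = 0 := by
    intro y hy
    have hy' : Cfsg.IsPRegular 2 y := Nat.two_dvd_ne_zero.2 (Nat.odd_iff.1 hy)
    have hJ' : ¬ Cfsg.IsPRegular 2 J := fun h => h (by rw [hJ2])
    have h := BlockChar.sum_block_eq_zero hM hBb hy' hJ'
    rw [← h, hsplit, (haJ χ₀ h0B).2, ha0]
    refine congrArg₂ (· + ·) (by simp [χ₀]) (Finset.sum_congr rfl fun χ hχ => ?_)
    rw [(haJ χ ((hmemS χ).1 hχ).2).2, map_intCast, mul_comm]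
  -- both signs occur
  have hsgn : ∀ s : ℤ, (s = 1 ∨ s = -1) → ∃ χ ∈ S, a χ = s := by
    intro s hs
    by_contra hne
    push_neg at hne
    have h := congrArg Complex.re (hrel 1 (by rw [orderOf_one]; exact odd_one))
    have hall : ∀ χ ∈ S, a χ = -s := fun χ hχ => by
      have := hne χ hχ; rcases hpm χ hχ with e | e <;> omega
    rw [Finset.sum_congr rfl fun χ hχ => by rw [hall χ hχ], ← Finset.mul_sum] at h
    have h3 : (3 : ℝ) ≤ ∑ χ ∈ S, ((χ : G → ℂ) 1).re := by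
      calc (3 : ℝ) = ∑ χ ∈ S, (1 : ℝ) := by rw [Finset.sum_const, hcard]; norm_num
        _ ≤ _ := Finset.sum_le_sum fun χ _ => by
          obtain ⟨n, hn0, hn⟩ := Char.IsIrr.degree χ.2
          rw [hn, Complex.natCast_re]
          exact Nat.one_le_cast.2 (Nat.pos_of_ne_zero (by omega))
    rcases hs with rfl | rfl <;>
      simp [Complex.re_sum] at h <;> linarith
  obtain ⟨ζ₂, h2S, h2a⟩ := hsgn 1 (Or.inl rfl)
  obtain ⟨ζ₄, h4S, h4a⟩ := hsgn (-1) (Or.inr rfl)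
  have h24 : ζ₂ ≠ ζ₄ := fun h => by rw [h, h4a] at h2a; omega
  obtain ⟨ζ₃, h3⟩ : ∃ ζ₃, (S.erase ζ₂).erase ζ₄ = {ζ₃} := Finset.card_eq_one.1 (by
    rw [Finset.card_erase_of_mem (Finset.mem_erase.2 ⟨h24.symm, h4S⟩),
      Finset.card_erase_of_mem h2S, hcard])
  have h3mem : ζ₃ ∈ (S.erase ζ₂).erase ζ₄ := by rw [h3]; exact Finset.mem_singleton_self _
  obtain ⟨h34, h32, h3S⟩ : ζ₃ ≠ ζ₄ ∧ ζ₃ ≠ ζ₂ ∧ ζ₃ ∈ S := by
    simpa only [Finset.mem_erase] using h3mem
  have h2B := ((hmemS _).1 h2S)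
  have h3B := ((hmemS _).1 h3S)
  have h4B := ((hmemS _).1 h4S)
  refine ⟨ζ₂, ζ₃, ζ₄, a ζ₃, hpm ζ₃ h3S, fun h => h2B.1 (Subtype.ext h),
    fun h => h3B.1 (Subtype.ext h), h32.symm, h24, h34, ?_, ?_, ?_, hcong ζ₃ h3B.2, ?_, ?_⟩
  · ext χ
    refine ⟨fun hχ => ?_, ?_⟩
    · by_cases h0 : χ = χ₀
      · exact Or.inl (congrArg Subtype.val h0)
      · refine Or.inr ?_
        by_cases e2 : χ = ζ₂
        · exact Or.inl e2
        by_cases e4 : χ = ζ₄
        · exact Or.inr (Or.inr e4)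
        refine Or.inr (Or.inl (Finset.mem_singleton.1 (h3 ▸ ?_)))
        exact Finset.mem_erase.2 ⟨e4, Finset.mem_erase.2 ⟨e2, (hmemS χ).2 ⟨h0, hχ⟩⟩⟩
    · rintro (h | rfl | rfl | rfl)
      · rwa [show χ = χ₀ from Subtype.ext h]
      · exact h2B.2
      · exact h3B.2
      · exact h4B.2
  · intro z hz
    refine ⟨?_, hval ζ₃ h3B.2 z hz, ?_⟩
    · rw [hval ζ₂ h2B.2 z hz, h2a, Int.cast_one]
    · rw [hval ζ₄ h4B.2 z hz, h4a]; norm_num
  · have := hcong ζ₂ h2B.2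
    rwa [h2a] at this
  · have := hcong ζ₄ h4B.2
    rwa [h4a, sub_neg_eq_add] at this
  · intro y hy
    have h := hrel y hy
    rw [← Finset.add_sum_erase _ _ h2S, ← Finset.add_sum_erase _ _
      (Finset.mem_erase.2 ⟨h24.symm, h4S⟩), h3, Finset.sum_singleton, h2a, h4a] at h
    push_cast at h
    linear_combination h

end Cfsg.Agent.S0948
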