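import Cfsg.Statements.S4480
import Cfsg.Agent.Char.KleinBlock
import Cfsg.Agent.Char.RealOdd
-- import your own Cfsg.Agent.* helpers here

set_option autoImplicit false
open Cfsg

namespace Cfsg.Agent.S4480

/-- Same setting as the Klein-four order formula: G of order 4·g₀ (g₀ odd) with no normal 2-complement, P a Sylow 2-subgroup, J an involution of P, M over 2, principal 2-block {1, χ₁, χ₂, χ₃} with χ_i(J) = ε_i = ±1. Suppose ε₁ε₂ε₃ = −1 and ε₃ = −1, and put q = x₃ = χ₃(1). Then there is a natural number m with 4·c(J) = m·c(P)·(q + 1), and the order of G equals (m³·c(P)/4)·(q³ − q)/2, that is 8·#G = m³·c(P)·(q³ − q). -/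
theorem result {G : Type*} [Group G] [Finite G] (M : Ideal Cfsg.AlgInt) (hM : Cfsg.IsPModular 2 M) (g₀ : ℕ) (hg₀ : Odd g₀) (hG : Nat.card G = 4 * g₀) (hnc : ¬ ∃ N : Subgroup G, N.Normal ∧ Nat.card N = g₀) (P : Sylow 2 G) (J : G) (hJ : J ∈ (P : Subgroup G)) (hJ2 : orderOf J = 2) (χ₁ χ₂ χ₃ : Cfsg.IrrCharacter G) (ε₁ ε₂ ε₃ : ℤ) (hB : Cfsg.principalBlock M G = {χ : Cfsg.IrrCharacter G | (χ : G → ℂ) = (fun _ => 1) ∨ χ = χ₁ ∨ χ = χ₂ ∨ χ = χ₃}) (hdist : (χ₁ : G → ℂ) ≠ (fun _ => 1) ∧ (χ₂ : G → ℂ) ≠ (fun _ => 1) ∧ (χ₃ : G → ℂ) ≠ (fun _ => 1) ∧ χ₁ ≠ χ₂ ∧ χ₁ ≠ χ₃ ∧ χ₂ ≠ χ₃) (hε : (ε₁ = 1 ∨ ε₁ = -1) ∧ (ε₂ = 1 ∨ ε₂ = -1) ∧ (ε₃ = 1 ∨ ε₃ = -1)) (hval : (χ₁ : G → ℂ) J = ε₁ ∧ (χ₂ : G → ℂ) J = ε₂ ∧ (χ₃ : G → ℂ) J = ε₃) (hprod : ε₁ * ε₂ * ε₃ = -1) (hε₃ : ε₃ = -1) : ∃ m : ℕ, 4 * Nat.card (Subgroup.centralizer ({J} : Set G)) = m * Nat.card (Subgroup.centralizer ((P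 : Subgroup G) : Set G)) * (Cfsg.charDegree (χ₃ : G → ℂ) + 1) ∧ 8 * Nat.card G = m ^ 3 * Nat.card (Subgroup.centralizer ((P : Subgroup G) : Set G)) * (Cfsg.charDegree (χ₃ : G → ℂ) ^ 3 - Cfsg.charDegree (χ₃ : G → ℂ)) := by
  classical
  have := Fintype.ofFinite G
  obtain ⟨k, x₁, x₂, x₃, hk, ⟨h1, h2, h3⟩, ⟨o1, o2, o3⟩, hC, hrel, hcount, hfs, hconj⟩ :=
    Char.klein_data M hM g₀ hg₀ hG hnc P J hJ hJ2 χ₁ χ₂ χ₃ ε₁ ε₂ ε₃ hB hdist hε hval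
  rw [Blocks.charDegree_eq h3]
  obtain ⟨he1, he2, -⟩ := hε
  subst hε₃
  have hpos1 := o1.pos; have hpos2 := o2.pos; have hpos3 := o3.pos
  obtain ⟨rfl, rfl⟩ : ε₁ = 1 ∧ ε₂ = 1 := by
    rcases he1 with rfl | rfl <;> rcases he2 with rfl | rfl <;> omega
  obtain ⟨hv1, hv2, hv3⟩ := hval
  obtain ⟨-, -, -, hd12, hd13, hd23⟩ := hdist
  -- complex conjugation fixes the third character and exchanges the first two
  have hJval : ∀ χ : IrrCharacter G, ∀ e : ℤ, (χ : G → ℂ) J = e →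
      (Char.conjIrr χ : G → ℂ) J = e := fun χ e h => by simp [h]
  have hc3 : Char.conjIrr χ₃ = χ₃ := by
    have hv := hJval χ₃ _ hv3
    rcases hconj χ₃ (Or.inr (Or.inr rfl)) with h | h | h
    · rw [h, hv1] at hv; norm_num at hv
    · rw [h, hv2] at hv; norm_num at hv
    · exact h
  have hnu : ∀ (χ : IrrCharacter G) (x : ℕ), (χ : G → ℂ) 1 = x → Odd x → Char.conjIrr χ = χ →
      Char.fsInd (χ : G → ℂ) = 1 := fun χ x hx hxo hc =>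
    Char.fsInd_real_odd χ.2 ((Char.conjIrr_eq_iff χ).1 hc) hx hxo
  rw [hnu χ₃ _ h3 o3 hc3] at hfs
  push_cast at hfs
  have hne : ¬ (Char.conjIrr χ₁ = χ₁ ∧ Char.conjIrr χ₂ = χ₂) := by
    rintro ⟨c1, c2⟩
    rw [hnu χ₁ _ h1 o1 c1, hnu χ₂ _ h2 o2 c2] at hfs
    norm_num at hfs
  have hswap : Char.conjIrr χ₁ = χ₂ := by
    rcases hconj χ₁ (Or.inl rfl) with h | h | h
    · exfalso
      refine hne ⟨h, ?_⟩
      rcases hconj χ₂ (Or.inr (Or.inl rfl)) with h' | h' | h'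
      · exact absurd (by rw [← Char.conjIrr_conjIrr χ₂, h', h] : χ₂ = χ₁) (Ne.symm hd12)
      · exact h'
      · exact absurd (by rw [← Char.conjIrr_conjIrr χ₂, h', hc3] : χ₂ = χ₃) hd23
    · exact h
    · exact absurd (by rw [← Char.conjIrr_conjIrr χ₁, h, hc3] : χ₁ = χ₃) hd13
  have hx : x₂ = x₁ := by
    have h : (x₂ : ℂ) = x₁ := by rw [← h2, ← hswap, Char.conjIrr_apply, h1, Complex.conj_natCast]
    exact_mod_cast h
  subst hx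
  have hq : x₃ = 2 * x₂ + 1 := by omega
  set C := Subgroup.centralizer ({J} : Set G) with hCdef
  set cP := Nat.card (Subgroup.centralizer ((P : Subgroup G) : Set G)) with hcP
  have hidx : C.index * (x₂ + 1) ^ 2 = 4 * k ^ 2 * x₂ * x₃ := by
    have h : ((C.index * (x₂ + 1) ^ 2 : ℕ) : ℂ) = ((4 * k ^ 2 * x₂ * x₃ : ℕ) : ℂ) := by
      have hC0 : (Nat.card C : ℂ) ≠ 0 := Nat.cast_ne_zero.2 Nat.card_pos.ne'
      have hG' : (Nat.card G : ℂ) = (Nat.card C : ℂ) * C.index := by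
        rw [← Nat.cast_mul, Subgroup.card_mul_index]
      have hx3 : (x₃ : ℂ) = 2 * (x₂ : ℂ) + 1 := by rw [hq]; push_cast; ring
      have p2 : (x₂ : ℂ) ≠ 0 := Nat.cast_ne_zero.2 hpos2.ne'
      have p3 : (x₃ : ℂ) ≠ 0 := Nat.cast_ne_zero.2 hpos3.ne'
      rw [hG', mul_assoc, mul_assoc (8 : ℂ), mul_left_comm (8 : ℂ)] at hcount
      have h5 := mul_left_cancel₀ hC0 hcount
      push_cast at h5 ⊢
      field_simp at h5
      rw [hx3] at h5 ⊢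
      linear_combination (1 / 2 : ℂ) * h5
    exact_mod_cast h
  have hcop : (x₂ + 1).Coprime (x₂ * x₃) := by
    refine Nat.Coprime.mul_right ?_ ?_
    · simp
    · rw [hq]
      refine Nat.coprime_of_dvd' fun r _ h1 h2 => ?_
      have h3 : r ∣ 2 * (x₂ + 1) := h1.mul_left 2
      rw [show 2 * (x₂ + 1) = 2 * x₂ + 1 + 1 by ring] at h3
      exact (Nat.dvd_add_right h2).1 h3
  have hdvd : (x₂ + 1) ^ 2 ∣ (2 * k) ^ 2 := by
    refine (Nat.Coprime.pow_left 2 hcop).dvd_of_dvd_mul_right ⟨C.index, ?_⟩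
    rw [mul_comm ((x₂ + 1) ^ 2), hidx]; ring
  obtain ⟨m, hm⟩ := (Nat.pow_dvd_pow_iff two_ne_zero).1 hdvd
  refine ⟨m, ?_, ?_⟩
  · rw [hC, hq]
    calc 4 * (k * cP) = cP * (2 * (2 * k)) := by ring
      _ = m * cP * (2 * x₂ + 1 + 1) := by rw [hm]; ring
  · have hi : C.index = m ^ 2 * x₂ * x₃ := by
      refine Nat.eq_of_mul_eq_mul_right (pow_pos (Nat.succ_pos x₂) 2) (hidx.trans ?_)
      calc 4 * k ^ 2 * x₂ * x₃ = (2 * k) ^ 2 * x₂ * x₃ := by ring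
        _ = m ^ 2 * x₂ * x₃ * (x₂ + 1) ^ 2 := by rw [hm]; ring
    have hcube : x₃ ^ 3 - x₃ = x₃ * (2 * x₂) * (2 * (x₂ + 1)) := by
      refine Nat.sub_eq_of_eq_add ?_
      rw [hq]; ring
    rw [hcube, ← Subgroup.card_mul_index C, hi, hC]
    calc 8 * (k * cP * (m ^ 2 * x₂ * x₃)) = cP * m ^ 2 * x₂ * x₃ * (4 * (2 * k)) := by ring
      _ = m ^ 3 * cP * (x₃ * (2 * x₂) * (2 * (x₂ + 1))) := by rw [hm]; ring

end Cfsg.Agent.S4480
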