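import Cfsg.Statements.S1022
import Mathlib
import Cfsg.Agent.BlockThms.OrderP.Main
import Cfsg.Agent.CharArith.Central
import Cfsg.Agent.Char.Linear
import Cfsg.Agent.Char.Integral
import Cfsg.Agent.Fusion.Transfer

/-!
A simple group of order `2 ^ 7 * 3 ^ 3 * 7 * 19` would have 1008 Sylow 19-subgroups and an
involution `h` centralizing one of them. The degree relation in the principal 19-block forces two
characters of degree 56, two of degree 96 and one of degree 189; the congruences for their values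
at `h` and the integrality of their central characters then contradict column orthogonality.
-/
-- import your own Cfsg.Agent.* helpers here

set_option autoImplicit false
open Cfsg

namespace Cfsg.Agent.S1022

open scoped ComplexConjugate
open Cfsg.Agent Cfsg.Agent.Blocks

universe u

/-- The possible values at `h` of a character of degree 56. -/
def vals56 : List ℤ := [18, -20]

/-- The possible values at `h` of a character of degree 96. -/
def vals96 : List ℤ := [58, 20, -18, -56, -94]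

/-- The possible values at `h` of a character of degree 189. -/
def vals189 : List ℤ := [151, 113, 75, 37, -1, -39, -77, -115, -153]

/-- The least class size compatible with the value `v` of a character of degree `d`. -/
def need (d : ℕ) (v : ℤ) : ℕ := d / Nat.gcd d v.natAbs

theorem bound : ∀ a ∈ vals56, ∀ b ∈ vals96, ∀ c ∈ vals189,
    459648 < Nat.lcm (need 56 a) (Nat.lcm (need 96 b) (need 189 c)) *
      (1 + 2 * a.natAbs ^ 2 + 2 * b.natAbs ^ 2 + c.natAbs ^ 2) := by
  decide +kernel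

theorem degree_cases : ∀ d : ℕ, d < 678 → d ∣ 24192 → (d % 19 = 1 ∨ d % 19 = 18) →
    d = 1 ∨ d = 18 ∨ d = 56 ∨ d = 96 ∨ d = 189 := by
  decide +kernel

set_option synthInstance.maxSize 2000 in
theorem count_cases : ∀ e ∈ [2, 3, 6], ∀ b : ℕ, b < e → ∀ c : ℕ, c < e → ∀ d : ℕ, d < e →
    b + c + d + 1 = e → ((1 - 56 * b + 96 * c - 189 * d : ℤ).natAbs) ∣ 24192 →
    b = 2 ∧ c = 2 ∧ d = 1 := by
  decide +kernel

theorem small_divisor_left : ∀ n : ℕ, n < 156 → n % 19 = 1 → n ∣ 24192 →
    n = 1 ∨ n = 96 ∨ n = 1008 := by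
  decide +kernel

theorem small_divisor_right : ∀ m : ℕ, m < 156 → m ∣ 24192 → 24192 / m % 19 = 1 →
    24192 / m = 1 ∨ 24192 / m = 96 ∨ 24192 / m = 1008 := by
  decide +kernel

set_option synthInstance.maxSize 2000 in
theorem small_index : ∀ e : ℕ, e ≤ 18 → e ∣ 18 → e ∣ 24 → e ≠ 1 →
    e ∈ ([2, 3, 6] : List ℕ) := by
  decide +kernel

theorem need_dvd {d n : ℕ} {v : ℤ} (hd : 0 < d) (h : (d : ℤ) ∣ n * v) : need d v ∣ n := by
  have h2 : d ∣ n * v.natAbs := by
    have := Int.natAbs_dvd_natAbs.2 h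
    rwa [Int.natAbs_natCast, Int.natAbs_mul, Int.natAbs_natCast] at this
  have hg := Nat.gcd_pos_of_pos_left v.natAbs hd
  exact (Nat.coprime_div_gcd_div_gcd hg).dvd_of_dvd_mul_right
    (Nat.dvd_of_mul_dvd_mul_right hg (by
      rwa [Nat.div_mul_cancel (Nat.gcd_dvd_left d v.natAbs), mul_assoc,
        Nat.div_mul_cancel (Nat.gcd_dvd_right d v.natAbs)]))

/-- The value at an involution centralizing an element of order `p` where the character is `±1`. -/
theorem value_data {G : Type u} [Group G] [Fintype G] [IsSimpleGroup G] {p : ℕ} [Fact p.Prime]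
    (hp2 : p ≠ 2) (χ : Cfsg.IrrCharacter G) (hχ : (χ : G → ℂ) ≠ fun _ => 1) {z h : G}
    (hc : Commute z h) (hz : orderOf z = p) (hh : orderOf h = 2) (a : ℤ)
    (ha : (χ : G → ℂ) (z * h) = a)
    (hda : (Cfsg.charDegree (χ : G → ℂ) : ℤ) ≡ a [ZMOD p]) :
    ∃ v : ℤ, ∃ k : ℕ, (χ : G → ℂ) h = v ∧ 0 < k ∧
      v = Cfsg.charDegree (χ : G → ℂ) - 2 * (p * k : ℕ) ∧
      p * k ≤ Cfsg.charDegree (χ : G → ℂ) ∧
      (Cfsg.charDegree (χ : G → ℂ) : ℤ) ∣ ((Subgroup.centralizer ({h} : Set G)).index : ℤ) * v := by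
  classical
  have hp : p.Prime := Fact.out
  obtain ⟨M, hM⟩ := Blocks.exists_isPModular p hp
  have hχc := Char.IsIrr.isCharacter χ.2
  obtain ⟨d, hd⟩ : ∃ d, d = Cfsg.charDegree (χ : G → ℂ) := ⟨_, rfl⟩
  have hd1 : (χ : G → ℂ) 1 = (d : ℂ) := by rw [hd, charDegree_cast hχc]
  let H := Subgroup.zpowers h
  have := Fintype.ofFinite H
  choose m hm using fun μ : Cfsg.IrrCharacter H =>
    Char.classInner_isCharacter_eq_natCast (Char.isCharacter_res H hχc) (Char.IsIrr.isCharacter μ.2)
  have hexp := Char.classFun_expansion (Char.isClassFunction_of_isCharacter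
    (Char.isCharacter_res H hχc))
  have hh' : (⟨h, Subgroup.mem_zpowers h⟩ : H) * ⟨h, Subgroup.mem_zpowers h⟩ = 1 :=
    Subtype.ext (by
      show h * h = 1
      rw [← pow_two, ← hh, pow_orderOf_eq_one])
  have hμ : ∀ μ : Cfsg.IrrCharacter H, (μ : H → ℂ) 1 = 1 ∧
      ((μ : H → ℂ) ⟨h, Subgroup.mem_zpowers h⟩ = 1 ∨
        (μ : H → ℂ) ⟨h, Subgroup.mem_zpowers h⟩ = -1) := by
    intro μ
    have h1 := Char.IsIrr.degree_one_of_comm μ.2 fun a b : H => mul_comm' a b
    obtain ⟨f, hf⟩ := Char.IsChar.exists_hom (Char.IsIrr.isCharacter μ.2) h1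
    refine ⟨h1, ?_⟩
    rw [hf]
    have h2 : (f ⟨h, Subgroup.mem_zpowers h⟩ : ℂ) ^ 2 = 1 := by
      rw [← Units.val_pow_eq_pow_val, ← map_pow, pow_two, hh', map_one, Units.val_one]
    exact sq_eq_one_iff.1 h2
  obtain ⟨j, hjd, hj⟩ : ∃ j : ℕ, j ≤ d ∧ (χ : G → ℂ) h = (d : ℂ) - 2 * (j : ℂ) := by
    have e1 := congrFun hexp 1
    have e2 := congrFun hexp ⟨h, Subgroup.mem_zpowers h⟩
    simp only [Finset.sum_apply, Pi.smul_apply, smul_eq_mul, hm, OneMemClass.coe_one, hd1] at e1 e2
    have e1' : (d : ℂ) = ∑ μ, (m μ : ℂ) := by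
      rw [e1]
      exact Finset.sum_congr rfl fun μ _ => by rw [(hμ μ).1, mul_one]
    refine ⟨∑ μ ∈ Finset.univ.filter (fun μ : Cfsg.IrrCharacter H =>
      (μ : H → ℂ) ⟨h, Subgroup.mem_zpowers h⟩ = -1), m μ, ?_, ?_⟩
    · have h3 : d = ∑ μ, m μ := by exact_mod_cast e1'
      rw [h3]
      exact Finset.sum_le_sum_of_subset (Finset.subset_univ _)
    · show (χ : G → ℂ) h = _
      rw [e2, e1', Nat.cast_sum, Finset.mul_sum, Finset.sum_filter, ← Finset.sum_sub_distrib]
      refine Finset.sum_congr rfl fun μ _ => ?_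
      split_ifs with h1
      · rw [h1]; ring
      · rw [(hμ μ).2.resolve_right h1]; ring
  have hpj : p ∣ j := by
    have h1 := memLocalIdeal_char_sub_pPrimePart hM hχc (z * h)
    rw [(parts_mul hp hc ⟨1, by rw [hz, pow_one]⟩ (by
      rw [hh]
      exact fun h => hp2 ((Nat.prime_dvd_prime_iff_eq hp Nat.prime_two).1 h))).2, ha, hj] at h1
    have h2 : ((p : ℤ)) ∣ (d : ℤ) - 2 * j - a := by
      rw [← Blocks.memLocalIdeal_intCast_iff hM]
      push_cast
      exact h1
    have h3 : (p : ℤ) ∣ 2 * (j : ℤ) := by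
      have h4 := Int.ModEq.dvd hda.symm
      rw [← hd] at h4
      have h5 := dvd_sub h4 h2
      rwa [show ((d : ℤ) - a) - ((d : ℤ) - 2 * j - a) = 2 * j by ring] at h5
    have h6 : p ∣ 2 * j := by exact_mod_cast h3
    exact (hp.dvd_mul.1 h6).resolve_left fun h => hp2 ((Nat.prime_dvd_prime_iff_eq hp Nat.prime_two).1 h)
  obtain ⟨k, rfl⟩ := hpj
  refine ⟨(d : ℤ) - 2 * (p * k : ℕ), k, by rw [hj]; push_cast; ring, ?_, by rw [← hd],
    hd ▸ hjd, ?_⟩
  · refine Nat.pos_of_ne_zero fun hk => ?_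
    rw [hk, mul_zero, Nat.cast_zero, mul_zero, sub_zero, ← hd1] at hj
    rcases (inferInstance : (Char.kerSubgroup hχc).Normal).eq_bot_or_eq_top with hK | hK
    · have h1 : h ∈ (⊥ : Subgroup G) := hK ▸ hj
      rw [Subgroup.mem_bot] at h1
      rw [h1, orderOf_one] at hh
      omega
    · refine hχ ?_
      have htr : (χ : G → ℂ) = fun _ => (χ : G → ℂ) 1 :=
        funext fun g => (hK.symm ▸ Subgroup.mem_top g : g ∈ Char.kerSubgroup hχc)
      have hone := Char.classInner_irr_self χ.2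
      rw [htr] at hone ⊢
      simp only [Cfsg.classInner, hd1, Complex.conj_natCast, finsum_eq_sum_of_fintype,
        Finset.sum_const, Finset.card_univ, nsmul_eq_mul, ← Nat.card_eq_fintype_card] at hone
      rw [← mul_assoc, inv_mul_cancel₀ Char.card_ne_zero, one_mul] at hone
      have hdd : d * d = 1 := by exact_mod_cast hone
      funext g
      rw [hd1, Nat.eq_one_of_mul_eq_one_left hdd, Nat.cast_one]
  · obtain ⟨c, hc, he⟩ := CharArith.isIntegral_classSum χ.2 h
    rw [← Fintype.card_subtype, ← Nat.card_eq_fintype_card, Char.card_isConj_eq_index, hd1, hj] at he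
    have hd0 : (d : ℂ) ≠ 0 := by
      rw [← hd1]; exact Char.IsIrr.one_ne_zero χ.2
    have hq : c = ((((Subgroup.centralizer ({h} : Set G)).index : ℚ) *
        (((d : ℤ) - 2 * (p * k : ℕ) : ℤ) : ℚ) / (d : ℚ) : ℚ) : ℂ) := by
      push_cast
      rw [eq_div_iff hd0, mul_comm c, he]
      push_cast
      ring
    rw [hq] at hc
    obtain ⟨i, hi⟩ := Char.exists_int_of_isIntegral_rat hc
    refine ⟨i, ?_⟩
    rw [← hd]
    have hd0' : (d : ℚ) ≠ 0 := by exact_mod_cast hd0
    rw [eq_div_iff hd0'] at hi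
    have hi' : i * (d : ℤ) = ((Subgroup.centralizer ({h} : Set G)).index : ℤ) *
        ((d : ℤ) - 2 * (p * k : ℕ)) := by exact_mod_cast hi
    rw [← hi', mul_comm]

/-- The order and a nontrivial commuting involution. -/
theorem sylow_data {G : Type u} [Group G] [Finite G] [IsSimpleGroup G]
    (hG : Nat.card G = 459648) [Fact (Nat.Prime 19)] (P : Sylow 19 G) :
    Nat.card (P : Subgroup G) = 19 ∧
      (Subgroup.centralizer (P : Set G)).relIndex (Subgroup.normalizer (P : Set G)) ∈ [2, 3, 6] ∧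
      ∃ h ∈ Subgroup.centralizer (P : Set G), orderOf h = 2 := by
  classical
  have hp : Nat.Prime 19 := Fact.out
  have hfac : (459648 : ℕ).factorization 19 = 1 := by
    rw [show (459648 : ℕ) = 19 * 24192 by norm_num, Nat.factorization_mul (by norm_num) (by norm_num),
      Finsupp.add_apply, Nat.Prime.factorization_self hp,
      Nat.factorization_eq_zero_of_not_dvd (by norm_num)]
  have hcard : Nat.card (P : Subgroup G) = 19 := by
    rw [P.card_eq_multiplicity, hG, hfac, pow_one]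
  obtain ⟨e, he⟩ : ∃ e, e = (Subgroup.centralizer (P : Set G)).relIndex
      (Subgroup.normalizer (P : Set G)) := ⟨_, rfl⟩
  have hS : BlockThms.OrderP.Setup P e := ⟨hcard, he.symm⟩
  obtain ⟨x, hx, -, hxo⟩ := hS.exists_gen
  obtain ⟨he18, -⟩ := hS.exists_unitSet hx hxo
  obtain ⟨K, hKC, hK19, -, -, hCK, -⟩ := hS.exists_complement
  have hN := hS.card_normalizer
  rw [hCK] at hN
  have hidx := Sylow.card_eq_index_normalizer P
  have hmod := card_sylow_modEq_one 19 G
  have hmul := Subgroup.card_mul_index (Subgroup.normalizer ((P : Subgroup G) : Set G))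
  rw [show (Subgroup.normalizer ((P : Subgroup G) : Set G)).index = Nat.card (Sylow 19 G) from
    hidx.symm, hG] at hmul
  have hnd : Nat.card (Sylow 19 G) * (e * Nat.card K) = 24192 := by
    have h1 : Nat.card (Sylow 19 G) * (e * Nat.card K) * 19 = 24192 * 19 := by
      rw [show (24192 : ℕ) * 19 = 459648 by norm_num, ← hmul]
      rw [show Nat.card (Subgroup.normalizer ((P : Subgroup G) : Set G)) = e * (19 * Nat.card K)
        from hN]
      ring
    omega
  have hn : Nat.card (Sylow 19 G) = 1 ∨ Nat.card (Sylow 19 G) = 96 ∨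
      Nat.card (Sylow 19 G) = 1008 := by
    have h1 : Nat.card (Sylow 19 G) % 19 = 1 := by rw [hmod]
    by_cases hlt : Nat.card (Sylow 19 G) < 156
    · exact small_divisor_left _ hlt h1 ⟨_, hnd.symm⟩
    · have hm : e * Nat.card K < 156 := by
        by_contra hge
        have := Nat.mul_le_mul (not_lt.1 hlt) (not_lt.1 hge)
        omega
      have hm0 : 0 < e * Nat.card K := Nat.pos_of_ne_zero fun h0 => by rw [h0, mul_zero] at hnd; omega
      have hdiv : 24192 / (e * Nat.card K) = Nat.card (Sylow 19 G) :=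
        Nat.div_eq_of_eq_mul_left hm0 hnd.symm
      rw [← hdiv] at h1 ⊢
      exact small_divisor_right _ hm ⟨_, by rw [← hnd, mul_comm]⟩ h1
  have hne1 : Nat.card (Sylow 19 G) ≠ 1 := by
    intro h1
    have hnorm : (P : Subgroup G).Normal := by
      rw [← Subgroup.normalizer_eq_top_iff, ← Subgroup.index_eq_one]
      exact hidx.symm.trans h1
    rcases hnorm.eq_bot_or_eq_top with h | h
    · rw [h, Subgroup.card_bot] at hcard; norm_num at hcard
    · rw [h, Subgroup.card_top, hG] at hcard; norm_num at hcard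
  have he1 : e ≠ 1 := by
    rintro rfl
    obtain ⟨Q, N, hN', hc⟩ := Fusion.hasNormalPComplement_of_normalizer_le_centralizer P
      (Subgroup.relIndex_eq_one.1 he.symm)
    have h19 : Nat.card (Q : Subgroup G) = 19 := by rw [Q.card_eq_multiplicity, hG, hfac, pow_one]
    have hm := hc.card_mul
    rcases hN'.eq_bot_or_eq_top with h | h
    · rw [h, Subgroup.card_bot, h19, hG] at hm; norm_num at hm
    · rw [h, Subgroup.card_top, h19, hG] at hm; norm_num at hm
  have he18' : e ≤ 18 := Nat.le_of_dvd (by norm_num) he18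
  -- there are not 96 Sylow subgroups
  have hne96 : Nat.card (Sylow 19 G) ≠ 96 := by
    intro h96
    rw [h96] at hnd
    have h7 : 7 ∣ e * Nat.card K := ⟨36, by omega⟩
    have h7K : 7 ∣ Nat.card K := (Nat.Prime.dvd_mul (by norm_num)).1 h7 |>.resolve_left fun h => by
      obtain ⟨i, hi⟩ := he18
      obtain ⟨j, rfl⟩ := h
      have : 7 ∣ 19 - 1 := ⟨j * i, by rw [hi]; ring⟩
      norm_num at this
    have : Fact (Nat.Prime 7) := ⟨by norm_num⟩
    obtain ⟨w, hw⟩ := exists_prime_orderOf_dvd_card' 7 h7K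
    have hw' : orderOf (w : G) = 7 := by rw [Subgroup.orderOf_coe]; exact hw
    have hwC := hKC w.2
    have hxw : Commute x (w : G) := Subgroup.mem_centralizer_iff.1 hwC x hx
    have hfix : ∀ Q : Sylow 19 G, (w : G) • Q = Q := by
      intro Q
      by_cases hQ : Q = P
      · rw [hQ]
        exact Sylow.smul_eq_iff_mem_normalizer.2 (Subgroup.centralizer_le_normalizer _ hwC)
      let A := Subgroup.zpowers (x * (w : G))
      have hyo : orderOf (x * (w : G)) = 133 := by
        rw [hxw.orderOf_mul_eq_mul_orderOf_of_coprime (by rw [hxo, hw']; norm_num), hxo, hw']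
      have hdvd := Nat.card_congr (MulAction.orbitEquivQuotientStabilizer A Q)
      have hAcard : Nat.card A = 133 := by rw [Nat.card_zpowers, hyo]
      have hst := Subgroup.card_mul_index (MulAction.stabilizer A Q)
      rw [hAcard] at hst
      have hle : (MulAction.stabilizer A Q).index ≤ 96 := by
        rw [Subgroup.index_eq_card, ← hdvd, ← h96]
        exact Nat.card_le_card_of_injective Subtype.val Subtype.val_injective
      have hxA : x ∈ A := by
        refine ⟨((Nat.chineseRemainder (n := 19) (m := 7) (by norm_num) 1 0 : _) : ℕ), ?_⟩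
        show (x * (w : G)) ^ (((Nat.chineseRemainder (n := 19) (m := 7) (by norm_num) 1 0 : _) : ℕ) : ℤ) = x
        obtain ⟨r, hr1, hr2⟩ := Nat.chineseRemainder (n := 19) (m := 7) (by norm_num) 1 0
        rw [zpow_natCast, hxw.mul_pow]
        have e1 : x ^ r = x := by
          conv_rhs => rw [← pow_one x]
          exact pow_eq_pow_iff_modEq.2 (by rw [hxo]; exact hr1)
        have e2 : (w : G) ^ r = 1 := orderOf_dvd_iff_pow_eq_one.1
          (by rw [hw']; exact Nat.modEq_zero_iff_dvd.1 hr2)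
        rw [e1, e2, mul_one]
      have hwA : (w : G) ∈ A := by
        have h1 : x⁻¹ * (x * (w : G)) ∈ A := mul_mem (inv_mem hxA) (Subgroup.mem_zpowers _)
        rwa [inv_mul_cancel_left] at h1
      have hxnot : (⟨x, hxA⟩ : A) ∉ MulAction.stabilizer A Q := by
        intro h
        have h1 : x ∈ Subgroup.normalizer ((Q : Subgroup G) : Set G) :=
          Sylow.smul_eq_iff_mem_normalizer.1 h
        refine hQ (Sylow.ext ?_)
        have hQcard : Nat.card (Q : Subgroup G) = 19 := by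
          rw [Q.card_eq_multiplicity, hG, hfac, pow_one]
        have hP : (P : Subgroup G) ≤ Subgroup.normalizer ((Q : Subgroup G) : Set G) := by
          rw [← hS.zpowers_eq hx (by rintro rfl; simp at hxo)]
          exact Subgroup.zpowers_le.2 h1
        have hPQ : (P : Subgroup G) ≤ Q := fun y hy => by
          have h2 : y ∈ (P : Subgroup G) ⊓ Subgroup.normalizer ((Q : Subgroup G) : Set G) :=
            ⟨hy, hP hy⟩
          have h2 := (P.isPGroup'.inf_normalizer_sylow Q).le h2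
          exact h2.2
        exact (Subgroup.eq_of_le_of_card_ge hPQ (by rw [hQcard, hcard])).symm
      have hidx19 : (MulAction.stabilizer A Q).index = 19 ∨ (MulAction.stabilizer A Q).index = 7 ∨
          (MulAction.stabilizer A Q).index = 1 := by
        have hd : (MulAction.stabilizer A Q).index ∈ (133 : ℕ).divisors :=
          Nat.mem_divisors.2 ⟨⟨_, by rw [← hst, mul_comm]⟩, by norm_num⟩
        rw [show (133 : ℕ).divisors = {1, 7, 19, 133} by decide +kernel] at hd
        simp only [Finset.mem_insert, Finset.mem_singleton] at hd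
        omega
      have hmem : ∀ (a : A) (n : ℕ), n.Prime → orderOf (a : G) = n →
          (MulAction.stabilizer A Q).index.Coprime n → a ∈ MulAction.stabilizer A Q := by
        intro a n _ ha hco
        have h1 : a ^ (MulAction.stabilizer A Q).index ∈ MulAction.stabilizer A Q :=
          Subgroup.pow_index_mem _ a
        have h2 : a ^ n = 1 := by
          rw [← ha, Subgroup.orderOf_coe, pow_orderOf_eq_one]
        obtain ⟨i, j, hij⟩ := hco.isCoprime
        have e : a = (a ^ (MulAction.stabilizer A Q).index) ^ i * (a ^ n) ^ j := by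
          rw [← zpow_natCast, ← zpow_mul, ← zpow_natCast, ← zpow_mul, ← zpow_add]
          conv_lhs => rw [← zpow_one a]
          congr 1
          rw [← hij]; ring
        rw [e, h2, one_zpow, mul_one]
        exact zpow_mem h1 i
      rcases hidx19 with h | h | h
      · have := hmem ⟨(w : G), hwA⟩ 7 (by norm_num) hw' (by rw [h]; norm_num)
        exact this
      · exact absurd (hmem ⟨x, hxA⟩ 19 hp hxo (by rw [h]; norm_num)) hxnot
      · exact absurd ((Subgroup.index_eq_one.1 h).symm ▸ Subgroup.mem_top _) hxnot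
    have hker : (MulAction.toPermHom G (Sylow 19 G)).ker = ⊥ := by
      rcases ((inferInstance : (MulAction.toPermHom G (Sylow 19 G)).ker.Normal)).eq_bot_or_eq_top with
        h | h
      · exact h
      · exfalso
        refine hne1 (Nat.card_eq_one_iff_unique.2 ⟨⟨fun Q R => ?_⟩, inferInstance⟩)
        obtain ⟨g, rfl⟩ := MulAction.exists_smul_eq G Q R
        have h1 : g ∈ (MulAction.toPermHom G (Sylow 19 G)).ker := h ▸ Subgroup.mem_top g
        exact (congrFun (congrArg DFunLike.coe (MonoidHom.mem_ker.1 h1)) Q).symm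
    have hw1 : (w : G) ∈ (MulAction.toPermHom G (Sylow 19 G)).ker :=
      MonoidHom.mem_ker.2 (Equiv.ext fun Q => hfix Q)
    rw [hker, Subgroup.mem_bot] at hw1
    rw [hw1, orderOf_one] at hw'
    norm_num at hw'
  rcases hn with h | h | h
  · exact absurd h hne1
  · exact absurd h hne96
  rw [h] at hnd
  have h24 : e * Nat.card K = 24 := by omega
  have hee : e ∈ [2, 3, 6] := by
    exact small_index e he18' he18 ⟨_, h24.symm⟩ he1
  refine ⟨hcard, he ▸ hee, ?_⟩
  have h2 : 2 ∣ Nat.card K := by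
    simp only [List.mem_cons, List.not_mem_nil, or_false] at hee
    rcases hee with rfl | rfl | rfl <;> omega
  have : Fact (Nat.Prime 2) := ⟨Nat.prime_two⟩
  obtain ⟨w, hw⟩ := exists_prime_orderOf_dvd_card' 2 h2
  exact ⟨w, hKC w.2, by rw [Subgroup.orderOf_coe]; exact hw⟩

/-- No finite simple group has order 459648 = 2^7 * 3^3 * 7 * 19. -/
theorem result {G : Type*} [Group G] [Finite G] [IsSimpleGroup G] : Nat.card G ≠ 459648 := by
  classical
  intro hG
  have := Fintype.ofFinite G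
  have : Fact (Nat.Prime 19) := ⟨by norm_num⟩
  obtain ⟨P⟩ : Nonempty (Sylow 19 G) := inferInstance
  obtain ⟨hcard, he, h, hhC, hh⟩ := sylow_data hG P
  obtain ⟨e, he'⟩ : ∃ e, e = (Subgroup.centralizer (P : Set G)).relIndex
      (Subgroup.normalizer (P : Set G)) := ⟨_, rfl⟩
  rw [← he'] at he
  have hS : BlockThms.OrderP.Setup P e := ⟨hcard, he'.symm⟩
  have he6 : 2 ≤ e ∧ e ≤ 6 := by
    simp only [List.mem_cons, List.not_mem_nil, or_false] at he
    omega
  obtain ⟨M, hM⟩ := Blocks.exists_isPModular 19 (Fact.out : Nat.Prime 19)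
  obtain ⟨X, Y, a, s, -, hXc, hYc, hmem, hs, hX, hY, hYeq, hrel⟩ := hS.principal_structure hM
  obtain ⟨z, hz, hz1, hzo⟩ := hS.exists_gen
  have hzh : Commute z h := Subgroup.mem_centralizer_iff.1 hhC z hz
  -- degrees
  have hdeg : ∀ χ : Cfsg.IrrCharacter G, χ ∈ Cfsg.principalBlock M G →
      Cfsg.charDegree (χ : G → ℂ) ∣ 24192 ∧ Cfsg.charDegree (χ : G → ℂ) < 678 := by
    intro χ hχ
    have h1 : Cfsg.charDegree (χ : G → ℂ) ∣ 19 * 24192 := by
      rw [show (19 : ℕ) * 24192 = Nat.card G by rw [hG]]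
      exact Char.IsIrr.degree_dvd_card χ.2 (charDegree_cast (Char.IsIrr.isCharacter χ.2)).symm
    refine ⟨(((Fact.out : Nat.Prime 19).coprime_iff_not_dvd.2
      (hS.not_dvd_degree hM hχ)).symm).dvd_of_dvd_mul_left h1, ?_⟩
    have h2 : Cfsg.charDegree (χ : G → ℂ) ^ 2 ≤ 459648 := by
      rw [← hG]
      have h3 := Char.sum_sq_degree (G := G)
      simp only [← charDegree_cast (Char.IsIrr.isCharacter (Subtype.prop _))] at h3
      have h4 : ∑ ψ : Cfsg.IrrCharacter G, Cfsg.charDegree (ψ : G → ℂ) ^ 2 = Nat.card G := by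
        exact_mod_cast h3
      rw [← h4]
      exact Finset.single_le_sum (f := fun ψ : Cfsg.IrrCharacter G =>
        Cfsg.charDegree (ψ : G → ℂ) ^ 2) (fun _ _ => Nat.zero_le _) (Finset.mem_univ χ)
    by_contra hlt
    push Not at hlt
    nlinarith
  have htd : Cfsg.charDegree ((triv G : Cfsg.IrrCharacter G) : G → ℂ) = 1 :=
    charDegree_eq (by show (1 : ℂ) = _; simp)
  have htX : triv G ∈ X := by
    refine ((hmem _).1 (triv_mem_principalBlock hM)).resolve_right fun ht => ?_
    have h1 := hY _ ht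
    rw [htd] at h1
    simp only [List.mem_cons, List.not_mem_nil, or_false] at he
    rcases he with rfl | rfl | rfl <;> rcases hs with rfl | rfl <;> revert h1 <;> decide
  have hta : a (triv G) = 1 := by
    have h1 := (hX _ htX).2.1
    rw [htd] at h1
    rcases (hX _ htX).1 with h2 | h2
    · exact h2
    · exfalso
      rw [h2] at h1
      revert h1
      decide
  have hval : ∀ χ ∈ X.erase (triv G),
      ∃ v : ℤ, (χ : G → ℂ) h = v ∧
        ((Cfsg.charDegree (χ : G → ℂ) : ℤ) ∣ ((Subgroup.centralizer ({h} : Set G)).index : ℤ) * v) ∧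
        ((Cfsg.charDegree (χ : G → ℂ) = 56 ∧ a χ = -1 ∧ v ∈ vals56) ∨
          (Cfsg.charDegree (χ : G → ℂ) = 96 ∧ a χ = 1 ∧ v ∈ vals96) ∨
          (Cfsg.charDegree (χ : G → ℂ) = 189 ∧ a χ = -1 ∧ v ∈ vals189)) := by
    intro χ hχ'
    obtain ⟨hne, hχ⟩ := Finset.mem_erase.1 hχ'
    obtain ⟨ha, hda, haz⟩ := hX χ hχ
    have hzv := haz z hz hz1 h hhC (by rw [hh]; norm_num)
    have hχ1 : (χ : G → ℂ) ≠ fun _ => 1 := fun e => hne (Subtype.ext e)
    obtain ⟨v, k, hv, hk, hvk, hkd, hdvd⟩ :=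
      value_data (by norm_num) χ hχ1 hzh hzo hh (a χ) hzv hda
    refine ⟨v, hv, hdvd, ?_⟩
    obtain ⟨hd1, hd2⟩ := hdeg χ ((hmem χ).2 (Or.inl hχ))
    have hmod : Cfsg.charDegree (χ : G → ℂ) % 19 = 1 ∨ Cfsg.charDegree (χ : G → ℂ) % 19 = 18 := by
      have h3 := Int.ModEq.eq hda
      rcases ha with ha | ha <;> rw [ha] at h3 <;> norm_num at h3 <;> omega
    have h3 := Int.ModEq.eq hda
    simp only [vals56, vals96, vals189, List.mem_cons, List.not_mem_nil, or_false]
    rcases degree_cases _ hd2 hd1 hmod with hd | hd | hd | hd | hd <;>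
      rw [hd] at hkd hvk h3 ⊢ <;>
      rcases ha with ha | ha <;> rw [ha] at h3 ⊢ <;> norm_num at h3 <;> omega
  choose! v hv hvd hvc using hval
  let S : ℕ → Finset (Cfsg.IrrCharacter G) := fun d =>
    (X.erase (triv G)).filter fun χ => Cfsg.charDegree (χ : G → ℂ) = d
  have hsplit : ∀ (f : Cfsg.IrrCharacter G → ℤ), ∑ χ ∈ X, f χ =
      f (triv G) + (∑ χ ∈ S 56, f χ + ∑ χ ∈ S 96, f χ + ∑ χ ∈ S 189, f χ) := by
    intro f
    rw [← Finset.add_sum_erase _ _ htX]
    congr 1
    simp only [S, Finset.sum_filter, ← Finset.sum_add_distrib]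
    refine Finset.sum_congr rfl fun χ hχ => ?_
    rcases hvc χ hχ with ⟨hd, -⟩ | ⟨hd, -⟩ | ⟨hd, -⟩ <;> simp [hd]
  have hcount : ((e : ℤ)) = 1 + ((S 56).card + (S 96).card + (S 189).card : ℤ) := by
    rw [← hXc]
    simpa using hsplit fun _ => (1 : ℤ)
  have hS56 : ∀ χ ∈ S 56, a χ * (Cfsg.charDegree (χ : G → ℂ) : ℤ) = -56 := by
    intro χ hχ
    obtain ⟨hχ, hd⟩ := Finset.mem_filter.1 hχ
    rcases hvc χ hχ with ⟨hd', ha', -⟩ | ⟨hd', ha', -⟩ | ⟨hd', ha', -⟩ <;> rw [hd] at hd' <;>
      first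
        | omega
        | (rw [hd, ha']; norm_num)
  have hS96 : ∀ χ ∈ S 96, a χ * (Cfsg.charDegree (χ : G → ℂ) : ℤ) = 96 := by
    intro χ hχ
    obtain ⟨hχ, hd⟩ := Finset.mem_filter.1 hχ
    rcases hvc χ hχ with ⟨hd', ha', -⟩ | ⟨hd', ha', -⟩ | ⟨hd', ha', -⟩ <;> rw [hd] at hd' <;>
      first
        | omega
        | (rw [hd, ha']; norm_num)
  have hS189 : ∀ χ ∈ S 189, a χ * (Cfsg.charDegree (χ : G → ℂ) : ℤ) = -189 := by
    intro χ hχ
    obtain ⟨hχ, hd⟩ := Finset.mem_filter.1 hχ
    rcases hvc χ hχ with ⟨hd', ha', -⟩ | ⟨hd', ha', -⟩ | ⟨hd', ha', -⟩ <;> rw [hd] at hd' <;>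
      first
        | omega
        | (rw [hd, ha']; norm_num)
  have hcomb : (S 56).card = 2 ∧ (S 96).card = 2 ∧ (S 189).card = 1 := by
    refine count_cases e he _ (by omega) _ (by omega) _ (by omega) (by omega) ?_
    obtain ⟨θ, hθ⟩ : Y.Nonempty := Finset.card_pos.1 (hYc ▸ Nat.div_pos (by omega) hS.e_pos)
    have h1 := hrel θ hθ 1 (by rw [orderOf_one]; norm_num)
    simp only [← charDegree_cast (Char.IsIrr.isCharacter (Subtype.prop _))] at h1
    have h2 : s * (Cfsg.charDegree (θ : G → ℂ) : ℤ) +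
        ∑ χ ∈ X, a χ * (Cfsg.charDegree (χ : G → ℂ) : ℤ) = 0 := by exact_mod_cast h1
    rw [hsplit, Finset.sum_congr rfl hS56, Finset.sum_congr rfl hS96, Finset.sum_congr rfl hS189,
      hta, htd, Finset.sum_const, Finset.sum_const, Finset.sum_const] at h2
    have h3 : (1 - 56 * ((S 56).card : ℤ) + 96 * (S 96).card - 189 * (S 189).card) =
        -(s * (Cfsg.charDegree (θ : G → ℂ) : ℤ)) := by
      simp only [nsmul_eq_mul, Nat.cast_one, mul_one] at h2
      linarith
    rw [h3, Int.natAbs_neg, Int.natAbs_mul, Int.natAbs_natCast,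
      show s.natAbs = 1 by rcases hs with rfl | rfl <;> rfl, one_mul]
    exact (hdeg θ ((hmem θ).2 (Or.inr hθ))).1
  -- column orthogonality at the involution
  obtain ⟨n, hn⟩ : ∃ n, n = (Subgroup.centralizer ({h} : Set G)).index := ⟨_, rfl⟩
  have hnC : n * Nat.card (Subgroup.centralizer ({h} : Set G)) = 459648 := by
    rw [hn, mul_comm, Subgroup.card_mul_index, hG]
  have horth : ∑ χ ∈ X, ‖(χ : G → ℂ) h‖ ^ 2 ≤
      (Nat.card (Subgroup.centralizer ({h} : Set G)) : ℝ) := by
    have h1 : (∑ χ : Cfsg.IrrCharacter G, ‖(χ : G → ℂ) h‖ ^ 2 : ℝ) =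
        (Nat.card (Subgroup.centralizer ({h} : Set G)) : ℝ) := by
      have h2 := Char.second_orthogonality h h
      rw [if_pos (IsConj.refl h)] at h2
      simp only [Complex.mul_conj'] at h2
      exact_mod_cast h2
    rw [← h1]
    exact Finset.sum_le_univ_sum_of_nonneg fun χ => sq_nonneg _
  -- representatives with the smallest square
  have hmin : ∀ d, (S d).card ≠ 0 → ∃ χ ∈ S d,
      ((S d).card : ℤ) * (v χ) ^ 2 ≤ ∑ ψ ∈ S d, (v ψ) ^ 2 := by
    intro d hd
    obtain ⟨χ, hχ, hmin⟩ := Finset.exists_min_image (S d) (fun ψ => (v ψ) ^ 2)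
      (Finset.card_ne_zero.1 hd)
    refine ⟨χ, hχ, ?_⟩
    have := Finset.card_nsmul_le_sum (S d) (fun ψ => (v ψ) ^ 2) _ hmin
    rwa [nsmul_eq_mul] at this
  obtain ⟨x, hx, hxs⟩ := hmin 56 (by omega)
  obtain ⟨y, hy, hys⟩ := hmin 96 (by omega)
  obtain ⟨w, hw, hws⟩ := hmin 189 (by omega)
  rw [hcomb.1] at hxs
  rw [hcomb.2.1] at hys
  rw [hcomb.2.2] at hws
  obtain ⟨hx', hxd⟩ := Finset.mem_filter.1 hx
  obtain ⟨hy', hyd⟩ := Finset.mem_filter.1 hy
  obtain ⟨hw', hwd⟩ := Finset.mem_filter.1 hw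
  have hxm : v x ∈ vals56 := by
    rcases hvc x hx' with ⟨hd', -, h'⟩ | ⟨hd', -, h'⟩ | ⟨hd', -, h'⟩ <;>
      first
        | exact h'
        | omega
  have hym : v y ∈ vals96 := by
    rcases hvc y hy' with ⟨hd', -, h'⟩ | ⟨hd', -, h'⟩ | ⟨hd', -, h'⟩ <;>
      first
        | exact h'
        | omega
  have hwm : v w ∈ vals189 := by
    rcases hvc w hw' with ⟨hd', -, h'⟩ | ⟨hd', -, h'⟩ | ⟨hd', -, h'⟩ <;>
      first
        | exact h'
        | omega
  have hdvdn : Nat.lcm (need 56 (v x)) (Nat.lcm (need 96 (v y)) (need 189 (v w))) ∣ n := by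
    refine Nat.lcm_dvd (need_dvd (by norm_num) ?_) (Nat.lcm_dvd (need_dvd (by norm_num) ?_)
      (need_dvd (by norm_num) ?_))
    · have := hvd x hx'; rwa [hxd, ← hn] at this
    · have := hvd y hy'; rwa [hyd, ← hn] at this
    · have := hvd w hw'; rwa [hwd, ← hn] at this
  obtain ⟨u, hu⟩ : ∃ u : Cfsg.IrrCharacter G → ℤ, ∀ χ, u χ = if χ = triv G then 1 else v χ :=
    ⟨_, fun χ => rfl⟩
  have hsum : (∑ χ ∈ X, (u χ) ^ 2 : ℤ) ≤ (Nat.card (Subgroup.centralizer ({h} : Set G)) : ℤ) := by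
    have h1 : ((∑ χ ∈ X, (u χ) ^ 2 : ℤ) : ℝ) ≤
        (Nat.card (Subgroup.centralizer ({h} : Set G)) : ℝ) := by
      refine le_trans (le_of_eq ?_) horth
      push_cast
      refine Finset.sum_congr rfl fun χ hχ => ?_
      rw [hu]
      split_ifs with hχt
      · subst hχt
        simp [Blocks.triv]
      · rw [hv χ (Finset.mem_erase.2 ⟨hχt, hχ⟩)]
        rw [show ((v χ : ℤ) : ℂ) = ((v χ : ℝ) : ℂ) from (Complex.ofReal_intCast _).symm,
          Complex.norm_real, Real.norm_eq_abs, sq_abs]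
    exact_mod_cast h1
  rw [hsplit, hu, if_pos rfl] at hsum
  have hSv : ∀ d, ∑ χ ∈ S d, (u χ) ^ 2 = ∑ χ ∈ S d, (v χ) ^ 2 := fun d =>
    Finset.sum_congr rfl fun χ hχ => by
      rw [hu, if_neg (Finset.mem_erase.1 (Finset.mem_filter.1 hχ).1).1]
  rw [hSv, hSv, hSv] at hsum
  have hb : (459648 : ℕ) < _ := bound _ hxm _ hym _ hwm
  have hn0 : 0 < n := Nat.pos_of_ne_zero fun h0 => by simp [h0] at hnC
  have hfin : 1 + 2 * (v x).natAbs ^ 2 + 2 * (v y).natAbs ^ 2 + (v w).natAbs ^ 2 ≤
      Nat.card (Subgroup.centralizer ({h} : Set G)) := by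
    zify
    simp only [sq_abs]
    push_cast at hxs hys hws
    linarith
  exact absurd (hb.trans_le (Nat.mul_le_mul (Nat.le_of_dvd hn0 hdvdn) hfin)) (by omega)

end Cfsg.Agent.S1022
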