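import Cfsg.Statements.S4429
import Mathlib
import Cfsg.Agent.BlockThms.OrderP.Main
import Cfsg.Agent.CharArith.Central
import Cfsg.Agent.Char.Linear
import Cfsg.Agent.Char.Integral
import Cfsg.Agent.Fusion.Transfer
import Cfsg.Agent.S1022

/-!
The degrees of a simple group of order 7920: the principal 11-block has four characters with
degree congruent to 1 or -1 and two equal ones; the two possible patterns are separated with the
values at an involution centralizing an element of order 5 and with the principal 5-block.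
-/

set_option autoImplicit false
open Cfsg

namespace Cfsg.Agent.S4429

open scoped ComplexConjugate commutatorElement
open Cfsg.Agent Cfsg.Agent.Blocks

universe u

/-! ### Numerical lemmas -/

theorem count11 : ∀ n : ℕ, n < 721 → n ∣ 720 → n % 11 = 1 →
    n = 1 ∨ n = 12 ∨ n = 45 ∨ n = 144 := by
  decide +kernel

theorem no_pair : ∀ d : ℕ, d < 89 → d ∣ 720 → 11 ≤ d → (d % 11 = 1 ∨ d % 11 = 10) →
    ¬ (d + 1) ∣ 720 ∧ ¬ (d - 1) ∣ 720 := by
  decide +kernel

theorem degX : ∀ d : ℕ, d < 89 → d ∣ 720 → (d % 11 = 1 ∨ d % 11 = 10) →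
    d = 1 ∨ d = 10 ∨ d = 12 ∨ d = 45 := by
  decide +kernel

theorem degY : ∀ d : ℕ, d < 89 → d ∣ 720 → (d % 11 = 5 ∨ d % 11 = 6) →
    d ∈ [5, 6, 16, 60, 72] := by
  decide +kernel

set_option synthInstance.maxSize 4000 in
theorem pattern : ∀ y ∈ ([5, 6, 16, 60, 72] : List ℕ), ∀ A : ℕ, A < 5 → ∀ B : ℕ, B < 5 →
    ∀ C : ℕ, C < 5 → A + B + C = 4 →
    (1 - 10 * A + 12 * B + 45 * C : ℤ).natAbs = y →
    1 + 100 * A + 144 * B + 2025 * C + 2 * y * y ≤ 7920 →
    (A = 2 ∧ B = 2 ∧ C = 0 ∧ y = 5) ∨ (A = 3 ∧ B = 0 ∧ C = 1 ∧ y = 16) := by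
  decide +kernel

set_option synthInstance.maxSize 4000 in
theorem count5 : ∀ m : ℕ, m < 1585 → m ∣ 1584 → (1584 / m) % 5 = 1 → ¬ 11 ∣ m →
    m = 4 ∨ m = 9 ∨ m = 24 ∨ m = 144 := by
  decide +kernel

set_option synthInstance.maxSize 4000 in
theorem degL : ∀ d : ℕ, d < 89 → d ∣ 7920 → (d % 5 = 0 ∨ d % 5 = 1 ∨ d % 5 = 4) →
    (11 ∣ d ∨ d = 1 ∨ d = 10 ∨ d = 45 ∨ d = 16) →
    d ∈ ({1, 10, 11, 16, 44, 45, 55, 66} : Finset ℕ) := by
  decide +kernel

/-! ### Characters of a simple group -/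

section Simple

variable {G : Type u} [Group G] [Fintype G] [IsSimpleGroup G]

omit [Fintype G] in
theorem perfect (hna : ¬ IsMulCommutative G) : commutator G = ⊤ := by
  rcases ((inferInstance : (commutator G).Normal)).eq_bot_or_eq_top with h | h
  · refine absurd ⟨⟨fun a b => ?_⟩⟩ hna
    have h2 : ⁅a, b⁆ ∈ (⊥ : Subgroup G) :=
      h ▸ Subgroup.commutator_mem_commutator (Subgroup.mem_top a) (Subgroup.mem_top b)
    exact commutatorElement_eq_one_iff_mul_comm.1 (Subgroup.mem_bot.1 h2)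
  · exact h

theorem deg_one (hna : ¬ IsMulCommutative G) {χ : G → ℂ} (hχ : Cfsg.IsCharacter G χ)
    (h1 : χ 1 = 1) : χ = fun _ => 1 := by
  obtain ⟨f, hf⟩ := Char.IsChar.exists_hom hχ h1
  funext g
  rw [hf]
  show (f g : ℂ) = 1
  rw [Char.hom_commutator_eq_one f (perfect hna ▸ Subgroup.mem_top g), Units.val_one]

theorem faithful (hna : ¬ IsMulCommutative G) {χ : G → ℂ} (hχ : Cfsg.IsIrrCharacter G χ)
    (hne : χ ≠ fun _ => 1) {n : ℕ} (hn : χ 1 = n) {g : G} (hg : ‖χ g‖ = (n : ℝ)) : g = 1 := by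
  classical
  have hχc := Char.IsIrr.isCharacter hχ
  obtain ⟨m, ρ, hρ, rfl⟩ := hχ
  have hm : Module.finrank ℂ (Fin m → ℂ) = n := by
    rw [ρ.char_one] at hn; exact_mod_cast hn
  obtain ⟨N, hN, hNmem⟩ := Char.exists_normal_of_scalar ρ
  have hgN : g ∈ N := (hNmem g).2 ((Char.norm_character_eq_iff ρ g).1 (by rw [hm]; exact hg))
  rcases hN.eq_bot_or_eq_top with hb | ht
  · rwa [hb, Subgroup.mem_bot] at hgN
  exfalso
  refine hne ?_
  have hcc : ∀ a b : G, ρ a * ρ b = ρ b * ρ a := fun a b => by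
    obtain ⟨ω, hω⟩ := (hNmem a).1 (ht ▸ Subgroup.mem_top a)
    rw [hω]; ext v; simp
  have hkill : commutator G ≤ MonoidHom.ker ρ.toHomUnits := by
    rw [commutator_eq_closure, Subgroup.closure_le]
    rintro _ ⟨a, b, rfl⟩
    rw [SetLike.mem_coe, MonoidHom.mem_ker, commutatorElement_def]
    apply Units.ext
    rw [MonoidHom.coe_toHomUnits, map_mul, map_mul, map_mul, hcc a b, mul_assoc (ρ b),
      ← map_mul ρ a, mul_inv_cancel, map_one, mul_one, ← map_mul, mul_inv_cancel, map_one]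
    rfl
  have hρ1 : ∀ x, ρ x = LinearMap.id := fun x => by
    have h2 := MonoidHom.mem_ker.1 (hkill (perfect hna ▸ Subgroup.mem_top x))
    exact congrArg Units.val h2
  obtain ⟨hn', hU⟩ := Char.isIrreducible_iff.1 hρ
  have hdim : Module.finrank ℂ (Fin m → ℂ) = 1 := by
    obtain ⟨v, hv⟩ := exists_ne (0 : Fin m → ℂ)
    rcases hU (ℂ ∙ v) (fun x w hw => by rw [hρ1]; exact hw) with h1 | h1
    · exact absurd (Submodule.span_singleton_eq_bot.1 h1) hv
    · rw [← finrank_top, ← h1, finrank_span_singleton hv]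
  funext x
  show LinearMap.trace ℂ _ (ρ x) = 1
  rw [hρ1, LinearMap.trace_id, hdim, Nat.cast_one]

/-- The value of an irreducible character at an involution. -/
theorem inv_value (hna : ¬ IsMulCommutative G) (χ : Cfsg.IrrCharacter G) {h : G}
    (hh : orderOf h = 2) :
    ∃ v : ℤ, (χ : G → ℂ) h = v ∧ (Cfsg.charDegree (χ : G → ℂ) : ℤ) % 2 = v % 2 ∧
      -(Cfsg.charDegree (χ : G → ℂ) : ℤ) ≤ v ∧ v ≤ Cfsg.charDegree (χ : G → ℂ) ∧
      ((Cfsg.charDegree (χ : G → ℂ) : ℤ) ∣
        ((Subgroup.centralizer ({h} : Set G)).index : ℤ) * v) ∧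
      ((χ : G → ℂ) ≠ (fun _ => 1) →
        v ≠ Cfsg.charDegree (χ : G → ℂ) ∧ v ≠ -(Cfsg.charDegree (χ : G → ℂ) : ℤ)) := by
  classical
  have hχc := Char.IsIrr.isCharacter χ.2
  obtain ⟨d, hd⟩ : ∃ d, d = Cfsg.charDegree (χ : G → ℂ) := ⟨_, rfl⟩
  rw [← hd]
  have hd1 : (χ : G → ℂ) 1 = (d : ℂ) := by rw [hd, charDegree_cast hχc]
  let H := Subgroup.zpowers h
  have := Fintype.ofFinite H
  choose m hm using fun μ : Cfsg.IrrCharacter H =>
    Char.classInner_isCharacter_eq_natCast (Char.isCharacter_res H hχc) (Char.IsIrr.isCharacter μ.2)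
  have hexp := Char.classFun_expansion (Char.isClassFunction_of_isCharacter
    (Char.isCharacter_res H hχc))
  have hh' : (⟨h, Subgroup.mem_zpowers h⟩ : H) * ⟨h, Subgroup.mem_zpowers h⟩ = 1 :=
    Subtype.ext (by
      show h * h = 1
      rw [← pow_two, ← hh, pow_orderOf_eq_one])
  have hμ : ∀ μ : Cfsg.IrrCharacter H, (μ : H → ℂ) 1 = 1 ∧
      ((μ : H → ℂ) ⟨h, Subgroup.mem_zpowers h⟩ = 1 ∨
        (μ : H → ℂ) ⟨h, Subgroup.mem_zpowers h⟩ = -1) := by
    intro μ
    have h1 := Char.IsIrr.degree_one_of_comm μ.2 fun a b : H => mul_comm' a b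
    obtain ⟨f, hf⟩ := Char.IsChar.exists_hom (Char.IsIrr.isCharacter μ.2) h1
    refine ⟨h1, ?_⟩
    rw [hf]
    have h2 : (f ⟨h, Subgroup.mem_zpowers h⟩ : ℂ) ^ 2 = 1 := by
      rw [← Units.val_pow_eq_pow_val, ← map_pow, pow_two, hh', map_one, Units.val_one]
    exact sq_eq_one_iff.1 h2
  obtain ⟨j, hjd, hj⟩ : ∃ j : ℕ, j ≤ d ∧ (χ : G → ℂ) h = (d : ℂ) - 2 * (j : ℂ) := by
    have e1 := congrFun hexp 1
    have e2 := congrFun hexp ⟨h, Subgroup.mem_zpowers h⟩
    simp only [Finset.sum_apply, Pi.smul_apply, smul_eq_mul, hm, OneMemClass.coe_one, hd1] at e1 e2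
    have e1' : (d : ℂ) = ∑ μ, (m μ : ℂ) := by
      rw [e1]
      exact Finset.sum_congr rfl fun μ _ => by rw [(hμ μ).1, mul_one]
    refine ⟨∑ μ ∈ Finset.univ.filter (fun μ : Cfsg.IrrCharacter H =>
      (μ : H → ℂ) ⟨h, Subgroup.mem_zpowers h⟩ = -1), m μ, ?_, ?_⟩
    · have h3 : d = ∑ μ, m μ := by exact_mod_cast e1'
      rw [h3]
      exact Finset.sum_le_sum_of_subset (Finset.subset_univ _)
    · show (χ : G → ℂ) h = _
      rw [e2, e1', Nat.cast_sum, Finset.mul_sum, Finset.sum_filter, ← Finset.sum_sub_distrib]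
      refine Finset.sum_congr rfl fun μ _ => ?_
      split_ifs with h1
      · rw [h1]; ring
      · rw [(hμ μ).2.resolve_right h1]; ring
  have hv : (χ : G → ℂ) h = (((d : ℤ) - 2 * j : ℤ) : ℂ) := by rw [hj]; push_cast; ring
  refine ⟨(d : ℤ) - 2 * j, hv, by omega, by omega, by omega, ?_, fun hne => ?_⟩
  · obtain ⟨c, hc, he⟩ := CharArith.isIntegral_classSum χ.2 h
    rw [← Fintype.card_subtype, ← Nat.card_eq_fintype_card, Char.card_isConj_eq_index, hd1, hv] at he
    have hd0 : (d : ℂ) ≠ 0 := by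
      rw [← hd1]; exact Char.IsIrr.one_ne_zero χ.2
    have hq : c = ((((Subgroup.centralizer ({h} : Set G)).index : ℚ) *
        (((d : ℤ) - 2 * j : ℤ) : ℚ) / (d : ℚ) : ℚ) : ℂ) := by
      rw [eq_comm]
      push_cast
      rw [div_eq_iff hd0, mul_comm c, he]
      push_cast
      ring
    rw [hq] at hc
    obtain ⟨i, hi⟩ := Char.exists_int_of_isIntegral_rat hc
    refine ⟨i, ?_⟩
    have hd0' : (d : ℚ) ≠ 0 := by exact_mod_cast hd0
    rw [eq_div_iff hd0'] at hi
    have hi' : i * (d : ℤ) = ((Subgroup.centralizer ({h} : Set G)).index : ℤ) *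
        ((d : ℤ) - 2 * j) := by exact_mod_cast hi
    rw [← hi', mul_comm]
  · have hn : ‖(χ : G → ℂ) h‖ ≠ (d : ℝ) := fun e => by
      have h1 := faithful hna χ.2 hne hd1 e
      rw [h1, orderOf_one] at hh
      omega
    refine ⟨fun e => hn ?_, fun e => hn ?_⟩ <;> rw [hv, e] <;> simp

/-- Twice the second orthogonality relation: a lower bound for a centralizer. -/
theorem sum_norm_le (T : Finset (Cfsg.IrrCharacter G)) (h : G) (v : Cfsg.IrrCharacter G → ℤ)
    (hv : ∀ χ ∈ T, (χ : G → ℂ) h = v χ) :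
    ∑ χ ∈ T, (v χ) ^ 2 ≤ (Nat.card (Subgroup.centralizer ({h} : Set G)) : ℤ) := by
  have h1 : (∑ χ : Cfsg.IrrCharacter G, ‖(χ : G → ℂ) h‖ ^ 2 : ℝ) =
      (Nat.card (Subgroup.centralizer ({h} : Set G)) : ℝ) := by
    have h2 := Char.second_orthogonality h h
    rw [if_pos (IsConj.refl h)] at h2
    simp only [Complex.mul_conj'] at h2
    exact_mod_cast h2
  have h3 : ((∑ χ ∈ T, (v χ) ^ 2 : ℤ) : ℝ) ≤
      (Nat.card (Subgroup.centralizer ({h} : Set G)) : ℝ) := by
    rw [← h1]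
    refine le_trans (le_of_eq ?_) (Finset.sum_le_univ_sum_of_nonneg (s := T) (f := fun χ : Cfsg.IrrCharacter G => ‖(χ : G → ℂ) h‖ ^ 2) fun χ => sq_nonneg _)
    push_cast
    refine Finset.sum_congr rfl fun χ hχ => ?_
    rw [hv χ hχ, show ((v χ : ℤ) : ℂ) = ((v χ : ℝ) : ℂ) from (Complex.ofReal_intCast _).symm,
      Complex.norm_real, Real.norm_eq_abs, sq_abs]
  exact_mod_cast h3

variable {p : ℕ} [Fact p.Prime] {P : Sylow p G} {e : ℕ}

/-- The automizer is nontrivial. -/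
theorem e_ne_one (hS : BlockThms.OrderP.Setup P e) (hlt : p < Nat.card G) : e ≠ 1 := by
  rintro rfl
  obtain ⟨Q, N, hN', hc⟩ := Fusion.hasNormalPComplement_of_normalizer_le_centralizer P
    (Subgroup.relIndex_eq_one.1 hS.rel)
  have hq : Nat.card (Q : Subgroup G) = p := by
    rw [Q.card_eq_multiplicity, hS.factorization.2, pow_one]
  have hm := hc.card_mul
  have hp1 := (Fact.out : p.Prime).one_lt
  rcases hN'.eq_bot_or_eq_top with h | h
  · rw [h, Subgroup.card_bot, hq] at hm; omega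
  · rw [h, Subgroup.card_top, hq] at hm
    nlinarith

/-- Outside the principal block the degrees are divisible by `p` when `P` is self-centralizing. -/
theorem dvd_outside (hS : BlockThms.OrderP.Setup P e)
    (hC : Nat.card (Subgroup.centralizer (P : Set G)) = p) {M : Ideal Cfsg.AlgInt}
    (hM : Cfsg.IsPModular p M) {χ : Cfsg.IrrCharacter G}
    (hχ : χ ∉ Cfsg.principalBlock M G) : p ∣ Cfsg.charDegree (χ : G → ℂ) := by
  classical
  have hp : p.Prime := Fact.out
  obtain ⟨x, hx, hx1, hxo⟩ := hS.exists_gen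
  have h1 := hS.card_fiber hx hx1
  rw [hS.centralizer_eq hx hx1, hC] at h1
  have h2 : (BlockThms.OrderP.fiber p x).card = 1 := by
    have := hp.pos
    exact Nat.eq_of_mul_eq_mul_right this (h1.trans (one_mul p).symm)
  have h3 : BlockThms.OrderP.fiber p x = {x} := by
    obtain ⟨y, hy⟩ := Finset.card_eq_one.1 h2
    have h4 := BlockThms.OrderP.self_mem_fiber (p := p) (P := P) hx
    rw [hy, Finset.mem_singleton] at h4
    rw [hy, h4]
  have h0 := hS.avg_eq_zero hM hx hx1 hχ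
  rw [BlockThms.OrderP.avg, h3, Finset.card_singleton, Finset.sum_singleton, Nat.cast_one,
    inv_one, one_mul] at h0
  have hχc := Char.IsIrr.isCharacter χ.2
  have h5 := memLocalIdeal_char_sub_pPrimePart hM hχc x
  have h6 : pPrimePartOf p x = 1 := by
    have h7 := (parts_mul hp (Commute.one_right x) ⟨1, by rw [hxo, pow_one]⟩
      (by rw [orderOf_one, Nat.dvd_one]; exact hp.ne_one)).2
    rwa [mul_one] at h7
  rw [h6, h0, ← charDegree_cast hχc, sub_zero] at h5
  have h8 : (p : ℤ) ∣ (Cfsg.charDegree (χ : G → ℂ) : ℤ) := by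
    rw [← Blocks.memLocalIdeal_intCast_iff hM]
    push_cast
    exact h5
  exact_mod_cast h8

end Simple

/-! ### Order 7920 -/

section Order

variable {G : Type u} [Group G] [Fintype G] [IsSimpleGroup G] (hG : Nat.card G = 7920)
include hG

theorem not_comm : ¬ IsMulCommutative G := fun hc => by
  let : CommGroup G := { (inferInstance : Group G) with mul_comm := hc.is_comm.comm }
  have := IsSimpleGroup.prime_card (α := G)
  rw [hG] at this
  norm_num at this

theorem deg_facts (χ : Cfsg.IrrCharacter G) :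
    Cfsg.charDegree (χ : G → ℂ) ∣ 7920 ∧ Cfsg.charDegree (χ : G → ℂ) < 89 ∧
      0 < Cfsg.charDegree (χ : G → ℂ) := by
  classical
  refine ⟨?_, ?_, charDegree_pos χ.2⟩
  · rw [← hG]
    exact Char.IsIrr.degree_dvd_card χ.2 (charDegree_cast (Char.IsIrr.isCharacter χ.2)).symm
  · have h2 : Cfsg.charDegree (χ : G → ℂ) ^ 2 ≤ 7920 := by
      rw [← hG]
      have h3 := Char.sum_sq_degree (G := G)
      simp only [← charDegree_cast (Char.IsIrr.isCharacter (Subtype.prop _))] at h3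
      have h4 : ∑ ψ : Cfsg.IrrCharacter G, Cfsg.charDegree (ψ : G → ℂ) ^ 2 = Nat.card G := by
        exact_mod_cast h3
      rw [← h4]
      exact Finset.single_le_sum (f := fun ψ : Cfsg.IrrCharacter G =>
        Cfsg.charDegree (ψ : G → ℂ) ^ 2) (fun _ _ => Nat.zero_le _) (Finset.mem_univ χ)
    by_contra hlt
    push Not at hlt
    nlinarith

theorem sum_sq : ∑ χ : Cfsg.IrrCharacter G, (Cfsg.charDegree (χ : G → ℂ) : ℤ) ^ 2 = 7920 := by
  have h3 := Char.sum_sq_degree (G := G)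
  simp only [← charDegree_cast (Char.IsIrr.isCharacter (Subtype.prop _)), hG] at h3
  exact_mod_cast h3

/-- The count of the Sylow subgroups of order `p` through the normalizer. -/
theorem normalizer_count {p : ℕ} [Fact p.Prime] {P : Sylow p G} {e : ℕ}
    (hS : BlockThms.OrderP.Setup P e) :
    ∃ K : Subgroup G, K ≤ Subgroup.centralizer (P : Set G) ∧
      Nat.card (Subgroup.centralizer (P : Set G)) = p * Nat.card K ∧
      Nat.card (Sylow p G) * (e * Nat.card K) * p = 7920 := by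
  obtain ⟨K, hKC, -, -, -, hCK, -⟩ := hS.exists_complement
  refine ⟨K, hKC, hCK, ?_⟩
  have hN := hS.card_normalizer
  have hidx := Sylow.card_eq_index_normalizer P
  have hmul := Subgroup.card_mul_index (Subgroup.normalizer ((P : Subgroup G) : Set G))
  rw [show (Subgroup.normalizer ((P : Subgroup G) : Set G)).index = Nat.card (Sylow p G) from
    hidx.symm, hG, show Nat.card (Subgroup.normalizer ((P : Subgroup G) : Set G)) =
      e * Nat.card (Subgroup.centralizer (P : Set G)) from hN, hCK] at hmul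
  rw [← hmul]
  ring

theorem card_sylow (p : ℕ) [Fact p.Prime] (hp : p = 5 ∨ p = 11) (P : Sylow p G) :
    Nat.card (P : Subgroup G) = p := by
  rw [P.card_eq_multiplicity, hG]
  have h : (7920 : ℕ).factorization p = 1 := by
    rcases hp with rfl | rfl
    · rw [show (7920 : ℕ) = 5 * 1584 by norm_num, Nat.factorization_mul (by norm_num) (by norm_num),
        Finsupp.add_apply, Nat.Prime.factorization_self (by norm_num),
        Nat.factorization_eq_zero_of_not_dvd (by norm_num)]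
    · rw [show (7920 : ℕ) = 11 * 720 by norm_num, Nat.factorization_mul (by norm_num) (by norm_num),
        Finsupp.add_apply, Nat.Prime.factorization_self (by norm_num),
        Nat.factorization_eq_zero_of_not_dvd (by norm_num)]
  rw [h, pow_one]

theorem triv_data {p : ℕ} [Fact p.Prime] (hp : 2 < p) {e : ℕ}
    {M : Ideal Cfsg.AlgInt} (hM : Cfsg.IsPModular p M)
    (X Y : Finset (Cfsg.IrrCharacter G)) (a : Cfsg.IrrCharacter G → ℤ) (s : ℤ)
    (hmem : ∀ χ, χ ∈ Cfsg.principalBlock M G ↔ χ ∈ X ∨ χ ∈ Y) (hs : s = 1 ∨ s = -1)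
    (hne : ¬ ((1 : ℤ) ≡ -((e : ℤ) * s) [ZMOD p]))
    (hX : ∀ χ ∈ X, (a χ = 1 ∨ a χ = -1) ∧
      (Cfsg.charDegree (χ : G → ℂ) : ℤ) ≡ a χ [ZMOD p])
    (hY : ∀ θ ∈ Y, (Cfsg.charDegree (θ : G → ℂ) : ℤ) ≡ -((e : ℤ) * s) [ZMOD p]) :
    triv G ∈ X ∧ a (triv G) = 1 ∧ Cfsg.charDegree ((triv G : Cfsg.IrrCharacter G) : G → ℂ) = 1 := by
  have htd : Cfsg.charDegree ((triv G : Cfsg.IrrCharacter G) : G → ℂ) = 1 :=
    charDegree_eq (by show (1 : ℂ) = _; simp)
  have htX : triv G ∈ X := by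
    refine ((hmem _).1 (triv_mem_principalBlock hM)).resolve_right fun ht => ?_
    have h1 := hY _ ht
    rw [htd] at h1
    exact hne (by exact_mod_cast h1)
  refine ⟨htX, ?_, htd⟩
  have h1 := (hX _ htX).2
  rw [htd] at h1
  rcases (hX _ htX).1 with h2 | h2
  · exact h2
  · exfalso
    rw [h2] at h1
    have h3 : (p : ℤ) ∣ 2 := by simpa using Int.modEq_iff_dvd.1 h1.symm
    have := Int.le_of_dvd (by norm_num) h3
    omega

/-- The Sylow 11-subgroup is self-centralizing with automizer of order 5. -/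
theorem eleven [Fact (Nat.Prime 11)] (P : Sylow 11 G) :
    BlockThms.OrderP.Setup P 5 ∧ Nat.card (Subgroup.centralizer (P : Set G)) = 11 := by
  classical
  have hna := not_comm hG
  obtain ⟨e, he⟩ : ∃ e, e = (Subgroup.centralizer (P : Set G)).relIndex
      (Subgroup.normalizer (P : Set G)) := ⟨_, rfl⟩
  have hS : BlockThms.OrderP.Setup P e := ⟨card_sylow hG 11 (Or.inr rfl) P, he.symm⟩
  obtain ⟨K, hKC, hCK, hcount⟩ := normalizer_count hG hS
  have hnd : Nat.card (Sylow 11 G) * (e * Nat.card K) = 720 := by omega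
  have hmod : Nat.card (Sylow 11 G) % 11 = 1 := by rw [card_sylow_modEq_one 11 G]
  have hne1 : e ≠ 1 := e_ne_one hS (by rw [hG]; norm_num)
  have he10 : e ∣ 10 := hS.exists_y.1
  have hele : e ≤ 10 := Nat.le_of_dvd (by norm_num) he10
  have hcases := count11 _ (Nat.lt_succ_of_le (Nat.le_of_dvd (by norm_num) ⟨_, hnd.symm⟩))
    ⟨_, hnd.symm⟩ hmod
  have he4 : e = 2 ∨ e = 5 ∨ e = 10 := by
    have := hS.e_pos
    interval_cases e <;> omega
  have hK0 : 0 < Nat.card K := Nat.card_pos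
  rcases hcases with h | h | h | h <;> rw [h] at hnd
  · -- one Sylow subgroup
    exfalso
    have hnorm : (P : Subgroup G).Normal := by
      rw [← Subgroup.normalizer_eq_top_iff, ← Subgroup.index_eq_one]
      exact (Sylow.card_eq_index_normalizer P).symm.trans h
    have hc := hS.card
    rcases hnorm.eq_bot_or_eq_top with hb | ht
    · rw [hb, Subgroup.card_bot] at hc; norm_num at hc
    · rw [ht, Subgroup.card_top, hG] at hc; norm_num at hc
  · -- twelve Sylow subgroups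
    exfalso
    have h2 : 2 ∣ Nat.card K := by rcases he4 with rfl | rfl | rfl <;> omega
    have : Fact (Nat.Prime 2) := ⟨Nat.prime_two⟩
    obtain ⟨w, hw⟩ := exists_prime_orderOf_dvd_card' 2 h2
    have hw2 : orderOf (w : G) = 2 := by rw [Subgroup.orderOf_coe]; exact hw
    obtain ⟨x, hx, hx1, hxo⟩ := hS.exists_gen
    have hwC := hKC w.2
    have hxw : Commute x (w : G) := Subgroup.mem_centralizer_iff.1 hwC x hx
    have hstab : ∀ Q : Sylow 11 G, x • Q = Q → Q = P := by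
      intro Q hQ
      refine Sylow.ext ?_
      have h1 : x ∈ Subgroup.normalizer ((Q : Subgroup G) : Set G) :=
        Sylow.smul_eq_iff_mem_normalizer.1 hQ
      have hPle : (P : Subgroup G) ≤ Subgroup.normalizer ((Q : Subgroup G) : Set G) := by
        rw [← hS.zpowers_eq hx hx1]
        exact Subgroup.zpowers_le.2 h1
      have hPQ : (P : Subgroup G) ≤ Q := fun y hy => by
        have h2 : y ∈ (P : Subgroup G) ⊓ Subgroup.normalizer ((Q : Subgroup G) : Set G) :=
          ⟨hy, hPle hy⟩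
        exact ((P.isPGroup'.inf_normalizer_sylow Q).le h2).2
      exact (Subgroup.eq_of_le_of_card_ge hPQ
        (by rw [card_sylow hG 11 (Or.inr rfl) Q, hS.card])).symm
    have hfix : ∀ Q : Sylow 11 G, (w : G) • Q = Q := by
      intro Q
      by_cases hQ : Q = P
      · rw [hQ]
        exact Sylow.smul_eq_iff_mem_normalizer.2 (Subgroup.centralizer_le_normalizer _ hwC)
      have hxP : x • P = P :=
        Sylow.smul_eq_iff_mem_normalizer.2 (Subgroup.le_normalizer hx)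
      have hwP : (w : G) • P = P :=
        Sylow.smul_eq_iff_mem_normalizer.2 (Subgroup.centralizer_le_normalizer _ hwC)
      have hxne : ∀ k : ℕ, x ^ k • Q ≠ P := fun k hk => hQ (by
        have hkP : x ^ k • P = P :=
          Sylow.smul_eq_iff_mem_normalizer.2 (Subgroup.le_normalizer (pow_mem hx k))
        exact smul_left_cancel (x ^ k) (hk.trans hkP.symm))
      have hper : ∀ k : ℕ, x ^ k • Q = Q → 11 ∣ k := fun k hk => by
        by_contra hd
        have hco : Nat.Coprime k (orderOf x) := by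
          rw [hxo, Nat.coprime_comm]
          exact (Fact.out : Nat.Prime 11).coprime_iff_not_dvd.2 hd
        obtain ⟨m, hm⟩ := exists_pow_eq_self_of_coprime hco
        refine hQ (hstab Q ?_)
        rw [← hm]
        have : ∀ i : ℕ, (x ^ k) ^ i • Q = Q := fun i => by
          induction i with
          | zero => rw [pow_zero, one_smul]
          | succ i ih => rw [pow_succ, mul_smul, hk, ih]
        exact this m
      let F : Fin 11 → {R : Sylow 11 G // R ≠ P} := fun i => ⟨x ^ (i : ℕ) • Q, hxne i⟩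
      have hinj : Function.Injective F := by
        intro i j hij
        have h1 : x ^ (i : ℕ) • Q = x ^ (j : ℕ) • Q := congrArg Subtype.val hij
        have hi := i.isLt
        have hj := j.isLt
        apply Fin.ext
        rcases Nat.lt_trichotomy (i : ℕ) j with hlt | heq | hgt
        · have h2 : x ^ ((j : ℕ) - i) • Q = Q := by
            rw [← Nat.add_sub_cancel' hlt.le, pow_add, mul_smul] at h1
            exact (smul_left_cancel _ h1).symm
          have := hper _ h2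
          omega
        · exact heq
        · have h2 : x ^ ((i : ℕ) - j) • Q = Q := by
            rw [← Nat.add_sub_cancel' hgt.le, pow_add, mul_smul] at h1
            exact smul_left_cancel _ h1
          have := hper _ h2
          omega
      have hcard : Nat.card {R : Sylow 11 G // R ≠ P} = 11 := by
        have := Fintype.ofFinite (Sylow 11 G)
        rw [Nat.card_eq_fintype_card, Fintype.card_subtype_compl, ← Nat.card_eq_fintype_card, h,
          Fintype.card_subtype_eq]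
      have hsurj : Function.Surjective F :=
        ((Nat.bijective_iff_injective_and_card F).2 ⟨hinj, by rw [Nat.card_fin, hcard]⟩).2
      have hwQ : (w : G) • Q ≠ P := fun e => hQ (smul_left_cancel (w : G) (e.trans hwP.symm))
      obtain ⟨i, hi⟩ := hsurj ⟨(w : G) • Q, hwQ⟩
      have hi' : x ^ (i : ℕ) • Q = (w : G) • Q := congrArg Subtype.val hi
      have h2 : x ^ ((i : ℕ) + i) • Q = Q := by
        have hww : (w : G) * w = 1 := by rw [← pow_two, ← hw2, pow_orderOf_eq_one]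
        rw [pow_add, mul_smul, hi', ← mul_smul, (hxw.pow_left _).eq, mul_smul, hi', ← mul_smul,
          hww, one_smul]
      have := hper _ h2
      have hi0 : (i : ℕ) = 0 := by have := i.isLt; omega
      rw [← hi', hi0, pow_zero, one_smul]
    have hker : (w : G) ∈ (MulAction.toPermHom G (Sylow 11 G)).ker :=
      MonoidHom.mem_ker.2 (Equiv.ext fun Q => hfix Q)
    rcases ((inferInstance : (MulAction.toPermHom G (Sylow 11 G)).ker.Normal)).eq_bot_or_eq_top with
      hb | ht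
    · rw [hb, Subgroup.mem_bot] at hker
      rw [hker, orderOf_one] at hw2
      omega
    · have hone : Nat.card (Sylow 11 G) = 1 := Nat.card_eq_one_iff_unique.2
        ⟨⟨fun Q R => by
          obtain ⟨g, rfl⟩ := MulAction.exists_smul_eq G Q R
          have h1 : g ∈ (MulAction.toPermHom G (Sylow 11 G)).ker := ht ▸ Subgroup.mem_top g
          exact (congrFun (congrArg DFunLike.coe (MonoidHom.mem_ker.1 h1)) Q).symm⟩,
          inferInstance⟩
      omega
  · -- forty-five Sylow subgroups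
    exfalso
    obtain rfl : e = 2 := by rcases he4 with rfl | rfl | rfl <;> omega
    have h2 : 2 ∣ Nat.card K := ⟨4, by omega⟩
    have : Fact (Nat.Prime 2) := ⟨Nat.prime_two⟩
    obtain ⟨w, hw⟩ := exists_prime_orderOf_dvd_card' 2 h2
    have hw2 : orderOf (w : G) = 2 := by rw [Subgroup.orderOf_coe]; exact hw
    obtain ⟨M, hM⟩ := Blocks.exists_isPModular 11 (Fact.out : Nat.Prime 11)
    obtain ⟨X, Y, a, s, -, hXc, hYc, hmem, hs, hX, hY, -, hrel⟩ := hS.principal_structure hM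
    obtain ⟨htX, hta, htd⟩ := triv_data hG (by norm_num) hM X Y a s hmem hs
      (by rcases hs with rfl | rfl <;> decide) (fun χ hχ => ⟨(hX χ hχ).1, (hX χ hχ).2.1⟩) hY
    obtain ⟨z, hz, hz1, hzo⟩ := hS.exists_gen
    have hwC := hKC w.2
    obtain ⟨χ, hχ⟩ := Finset.card_eq_one.1 (show (X.erase (triv G)).card = 1 by
      rw [Finset.card_erase_of_mem htX, hXc])
    obtain ⟨hχne, hχX⟩ := Finset.mem_erase.1 (hχ.symm ▸ Finset.mem_singleton_self χ :
      χ ∈ X.erase (triv G))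
    obtain ⟨ha, hda, haz⟩ := hX χ hχX
    obtain ⟨v, k, -, hk, -, hkd, -⟩ := S1022.value_data (by norm_num) χ
      (fun e => hχne (Subtype.ext e)) (Subgroup.mem_centralizer_iff.1 hwC z hz) hzo hw2 (a χ)
      (haz z hz hz1 w hwC (by rw [hw2]; norm_num)) hda
    obtain ⟨θ, hθ⟩ : Y.Nonempty := Finset.card_pos.1 (by rw [hYc]; norm_num)
    have h1 := hrel θ hθ 1 (by rw [orderOf_one]; norm_num)
    simp only [← charDegree_cast (Char.IsIrr.isCharacter (Subtype.prop _))] at h1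
    have h3 : s * (Cfsg.charDegree (θ : G → ℂ) : ℤ) +
        ∑ ψ ∈ X, a ψ * (Cfsg.charDegree (ψ : G → ℂ) : ℤ) = 0 := by exact_mod_cast h1
    rw [← Finset.add_sum_erase _ _ htX, hχ, Finset.sum_singleton, hta, htd] at h3
    have h720 : ∀ ψ : Cfsg.IrrCharacter G, ψ ∈ Cfsg.principalBlock M G →
        Cfsg.charDegree (ψ : G → ℂ) ∣ 720 := fun ψ hψ =>
      (((Fact.out : Nat.Prime 11).coprime_iff_not_dvd.2
        (hS.not_dvd_degree hM hψ)).symm).dvd_of_dvd_mul_left
        (show _ ∣ 11 * 720 from (deg_facts hG ψ).1)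
    have hdθ := h720 θ ((hmem θ).2 (Or.inr hθ))
    have hdχ := h720 χ ((hmem χ).2 (Or.inl hχX))
    have hlt := (deg_facts hG χ).2.1
    have hθ0 := (deg_facts hG θ).2.2
    obtain ⟨d, hd⟩ : ∃ d, d = Cfsg.charDegree (χ : G → ℂ) := ⟨_, rfl⟩
    obtain ⟨y, hy⟩ : ∃ y, y = Cfsg.charDegree (θ : G → ℂ) := ⟨_, rfl⟩
    rw [← hd] at hdχ hlt hkd hda h3
    rw [← hy] at hdθ hθ0 h3
    have hmod' : d % 11 = 1 ∨ d % 11 = 10 := by
      have h4 := Int.ModEq.eq hda
      rcases ha with ha | ha <;> rw [ha] at h4 <;> norm_num at h4 <;> omega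
    obtain ⟨hp1, hp2⟩ := no_pair d hlt hdχ (le_trans (by omega) hkd) hmod'
    rcases hs with rfl | rfl <;> rcases ha with ha | ha <;> rw [ha] at h3 <;>
      first
        | (have : y = d + 1 := by omega
           exact hp1 (this ▸ hdθ))
        | (have : y = d - 1 := by omega
           exact hp2 (this ▸ hdθ))
        | omega
  · obtain rfl : e = 5 := by
      have : e * Nat.card K = 5 := by omega
      rcases he4 with rfl | rfl | rfl <;> omega
    refine ⟨hS, ?_⟩
    rw [hCK]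
    omega

/-- The principal 11-block. -/
theorem pattern11 [Fact (Nat.Prime 11)] :
    ∃ y : ℕ, ∃ Y : Finset (Cfsg.IrrCharacter G),
      Y.card = 2 ∧ (∀ θ ∈ Y, Cfsg.charDegree (θ : G → ℂ) = y) ∧
      ((y = 5 ∧ (∀ χ : Cfsg.IrrCharacter G, ¬ 11 ∣ Cfsg.charDegree (χ : G → ℂ) → χ ∉ Y →
          Cfsg.charDegree (χ : G → ℂ) = 1 ∨ Cfsg.charDegree (χ : G → ℂ) = 10 ∨
          Cfsg.charDegree (χ : G → ℂ) = 12) ∧
          ∃ χ : Cfsg.IrrCharacter G, Cfsg.charDegree (χ : G → ℂ) = 12) ∨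
       (y = 16 ∧ ∃ T : Finset (Cfsg.IrrCharacter G), ∃ φ : Cfsg.IrrCharacter G,
          T.card = 3 ∧ (∀ χ ∈ T, Cfsg.charDegree (χ : G → ℂ) = 10) ∧
          Cfsg.charDegree (φ : G → ℂ) = 45 ∧
          (∀ χ : Cfsg.IrrCharacter G, ¬ 11 ∣ Cfsg.charDegree (χ : G → ℂ) →
            χ = triv G ∨ χ ∈ T ∨ χ = φ ∨ χ ∈ Y) ∧
          ∀ θ ∈ Y, ∀ g : G, ¬ 11 ∣ orderOf g →
            (θ : G → ℂ) g = 1 - ∑ χ ∈ T, (χ : G → ℂ) g + (φ : G → ℂ) g)) := by
  classical
  obtain ⟨P⟩ : Nonempty (Sylow 11 G) := inferInstance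
  obtain ⟨hS, hC⟩ := eleven hG P
  obtain ⟨M, hM⟩ := Blocks.exists_isPModular 11 (Fact.out : Nat.Prime 11)
  obtain ⟨X, Y, a, s, hdisj, hXc, hYc, hmem, hs, hX, hY, hYeq, hrel⟩ := hS.principal_structure hM
  obtain ⟨htX, hta, htd⟩ := triv_data hG (by norm_num) hM X Y a s hmem hs
    (by rcases hs with rfl | rfl <;> decide) (fun χ hχ => ⟨(hX χ hχ).1, (hX χ hχ).2.1⟩) hY
  have hna := not_comm hG
  have h720 : ∀ ψ : Cfsg.IrrCharacter G, ψ ∈ Cfsg.principalBlock M G →
      Cfsg.charDegree (ψ : G → ℂ) ∣ 720 := fun ψ hψ =>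
    (((Fact.out : Nat.Prime 11).coprime_iff_not_dvd.2
      (hS.not_dvd_degree hM hψ)).symm).dvd_of_dvd_mul_left
      (show _ ∣ 11 * 720 from (deg_facts hG ψ).1)
  have hxc : ∀ χ ∈ X.erase (triv G),
      (Cfsg.charDegree (χ : G → ℂ) = 10 ∧ a χ = -1) ∨
      (Cfsg.charDegree (χ : G → ℂ) = 12 ∧ a χ = 1) ∨
      (Cfsg.charDegree (χ : G → ℂ) = 45 ∧ a χ = 1) := by
    intro χ hχ'
    obtain ⟨hne, hχ⟩ := Finset.mem_erase.1 hχ'
    obtain ⟨ha, hda, -⟩ := hX χ hχ
    have h4 := Int.ModEq.eq hda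
    have hmod : Cfsg.charDegree (χ : G → ℂ) % 11 = 1 ∨ Cfsg.charDegree (χ : G → ℂ) % 11 = 10 := by
      rcases ha with ha | ha <;> rw [ha] at h4 <;> norm_num at h4 <;> omega
    rcases degX _ (deg_facts hG χ).2.1 (h720 χ ((hmem χ).2 (Or.inl hχ))) hmod with hd | hd | hd | hd
    · refine absurd (Subtype.ext ?_) hne
      exact deg_one hna (Char.IsIrr.isCharacter χ.2)
        (by rw [← charDegree_cast (Char.IsIrr.isCharacter χ.2), hd, Nat.cast_one])
    all_goals
      rw [hd] at h4 ⊢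
      revert h4
      rcases ha with ha | ha <;> rw [ha] <;> norm_num
  let S : ℕ → Finset (Cfsg.IrrCharacter G) := fun d =>
    (X.erase (triv G)).filter fun χ => Cfsg.charDegree (χ : G → ℂ) = d
  have hS' : ∀ d, ∀ χ ∈ S d, χ ∈ X.erase (triv G) ∧ Cfsg.charDegree (χ : G → ℂ) = d :=
    fun d χ hχ => Finset.mem_filter.1 hχ
  have hsplit : ∀ (f : Cfsg.IrrCharacter G → ℂ), ∑ χ ∈ X, f χ =
      f (triv G) + (∑ χ ∈ S 10, f χ + ∑ χ ∈ S 12, f χ + ∑ χ ∈ S 45, f χ) := by
    intro f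
    rw [← Finset.add_sum_erase _ _ htX]
    congr 1
    simp only [S, Finset.sum_filter, ← Finset.sum_add_distrib]
    refine Finset.sum_congr rfl fun χ hχ => ?_
    rcases hxc χ hχ with ⟨hd, -⟩ | ⟨hd, -⟩ | ⟨hd, -⟩ <;> simp [hd]
  obtain ⟨θ₀, hθ₀⟩ : Y.Nonempty := Finset.card_pos.1 (by rw [hYc]; norm_num)
  obtain ⟨y, hy⟩ : ∃ y, y = Cfsg.charDegree (θ₀ : G → ℂ) := ⟨_, rfl⟩
  have hYd : ∀ θ ∈ Y, Cfsg.charDegree (θ : G → ℂ) = y := by
    intro θ hθ
    have h1 := hYeq θ hθ θ₀ hθ₀ 1 (by rw [orderOf_one]; norm_num)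
    rw [← charDegree_cast (Char.IsIrr.isCharacter θ.2),
      ← charDegree_cast (Char.IsIrr.isCharacter θ₀.2), ← hy] at h1
    exact_mod_cast h1
  have hy5 : y ∈ ([5, 6, 16, 60, 72] : List ℕ) := by
    rw [hy]
    refine degY _ (deg_facts hG θ₀).2.1 (h720 θ₀ ((hmem θ₀).2 (Or.inr hθ₀))) ?_
    have h4 := Int.ModEq.eq (hY θ₀ hθ₀)
    rcases hs with rfl | rfl <;> norm_num at h4 <;> omega
  have hrel' : ∀ θ ∈ Y, ∀ g : G, ¬ 11 ∣ orderOf g → (s : ℂ) * (θ : G → ℂ) g +
      (1 + (-(∑ χ ∈ S 10, (χ : G → ℂ) g) + ∑ χ ∈ S 12, (χ : G → ℂ) g +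
        ∑ χ ∈ S 45, (χ : G → ℂ) g)) = 0 := by
    intro θ hθ g hg
    rw [← hrel θ hθ g hg, hsplit, hta]
    have e1 : ∀ d : ℕ, ∀ c : ℤ, (∀ χ ∈ S d, a χ = c) →
        ∑ χ ∈ S d, (a χ : ℂ) * (χ : G → ℂ) g = (c : ℂ) * ∑ χ ∈ S d, (χ : G → ℂ) g := by
      intro d c hc
      rw [Finset.mul_sum]
      exact Finset.sum_congr rfl fun χ hχ => by rw [hc χ hχ]
    rw [e1 10 (-1) fun χ hχ => ?_, e1 12 1 fun χ hχ => ?_, e1 45 1 fun χ hχ => ?_]
    · simp [Blocks.triv]
    all_goals
      obtain ⟨h1, h2⟩ := hS' _ χ hχ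
      rcases hxc χ h1 with ⟨h3, h4⟩ | ⟨h3, h4⟩ | ⟨h3, h4⟩ <;> first | exact h4 | omega
  have hdeg : ∀ d : ℕ, ∑ χ ∈ S d, (χ : G → ℂ) 1 = ((S d).card * d : ℕ) := by
    intro d
    rw [Finset.sum_congr rfl (g := fun _ => (d : ℂ)) fun χ hχ => ?_]
    · simp
    · rw [← charDegree_cast (Char.IsIrr.isCharacter χ.2), (hS' d χ hχ).2]
  have hcount : (S 10).card + (S 12).card + (S 45).card = 4 := by
    have h1 := hsplit fun _ => (1 : ℂ)
    simp only [Finset.sum_const, nsmul_eq_mul, mul_one, hXc] at h1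
    have h2 : (5 : ℕ) = 1 + ((S 10).card + (S 12).card + (S 45).card) := by exact_mod_cast h1
    omega
  have habs : (1 - 10 * ((S 10).card : ℤ) + 12 * (S 12).card + 45 * (S 45).card).natAbs = y := by
    have h1 := hrel' θ₀ hθ₀ 1 (by rw [orderOf_one]; norm_num)
    rw [hdeg, hdeg, hdeg, ← charDegree_cast (Char.IsIrr.isCharacter θ₀.2), ← hy] at h1
    have h2 : s * (y : ℤ) + (1 + (-((((S 10).card * 10 : ℕ)) : ℤ) + ((S 12).card * 12 : ℕ) +
        ((S 45).card * 45 : ℕ))) = 0 := by exact_mod_cast h1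
    push_cast at h2
    rcases hs with rfl | rfl <;> omega
  have hsq : 1 + 100 * (S 10).card + 144 * (S 12).card + 2025 * (S 45).card + 2 * y * y ≤ 7920 := by
    have h1 : ∑ χ ∈ X ∪ Y, (Cfsg.charDegree (χ : G → ℂ) : ℤ) ^ 2 ≤ 7920 := by
      rw [← sum_sq hG]
      exact Finset.sum_le_univ_sum_of_nonneg fun χ => sq_nonneg _
    have e2 : ∀ d : ℕ, ∑ χ ∈ S d, (Cfsg.charDegree (χ : G → ℂ) : ℤ) ^ 2 =
        ((S d).card : ℤ) * (d : ℤ) ^ 2 := by
      intro d
      rw [Finset.sum_congr rfl (g := fun _ => (d : ℤ) ^ 2) fun χ hχ => by rw [(hS' d χ hχ).2]]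
      simp
    have h2 : ∑ χ ∈ X, (Cfsg.charDegree (χ : G → ℂ) : ℤ) ^ 2 =
        1 + (∑ χ ∈ S 10, (Cfsg.charDegree (χ : G → ℂ) : ℤ) ^ 2 +
          ∑ χ ∈ S 12, (Cfsg.charDegree (χ : G → ℂ) : ℤ) ^ 2 +
          ∑ χ ∈ S 45, (Cfsg.charDegree (χ : G → ℂ) : ℤ) ^ 2) := by
      have := hsplit fun χ => (((Cfsg.charDegree (χ : G → ℂ) : ℤ) ^ 2 : ℤ) : ℂ)
      rw [htd] at this
      exact_mod_cast this
    rw [Finset.sum_union hdisj, h2, e2, e2, e2,
      Finset.sum_congr rfl (g := fun _ => (y : ℤ) ^ 2) fun χ hχ => by rw [hYd χ hχ],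
      Finset.sum_const, hYc] at h1
    norm_num at h1
    have : ((1 + 100 * (S 10).card + 144 * (S 12).card + 2025 * (S 45).card + 2 * y * y : ℕ) : ℤ)
        ≤ ((7920 : ℕ) : ℤ) := by
      push_cast
      linarith
    exact_mod_cast this
  have hcov : ∀ χ : Cfsg.IrrCharacter G, ¬ 11 ∣ Cfsg.charDegree (χ : G → ℂ) →
      χ = triv G ∨ χ ∈ X.erase (triv G) ∨ χ ∈ Y := by
    intro χ hχ
    rcases (hmem χ).1 (by_contra fun h => hχ (dvd_outside hS hC hM h)) with h | h
    · by_cases ht : χ = triv G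
      · exact Or.inl ht
      · exact Or.inr (Or.inl (Finset.mem_erase.2 ⟨ht, h⟩))
    · exact Or.inr (Or.inr h)
  refine ⟨y, Y, by rw [hYc], hYd, ?_⟩
  rcases pattern y hy5 _ (by omega) _ (by omega) _ (by omega) hcount habs hsq with
    ⟨-, hB, hC0, rfl⟩ | ⟨hA, hB, hC1, rfl⟩
  · refine Or.inl ⟨rfl, fun χ hχ hχY => ?_, ?_⟩
    · rcases hcov χ hχ with rfl | h | h
      · exact Or.inl htd
      · rcases hxc χ h with ⟨hd, -⟩ | ⟨hd, -⟩ | ⟨hd, -⟩
        · exact Or.inr (Or.inl hd)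
        · exact Or.inr (Or.inr hd)
        · have : χ ∈ S 45 := Finset.mem_filter.2 ⟨h, hd⟩
          rw [Finset.card_eq_zero.1 hC0] at this
          exact absurd this (Finset.notMem_empty _)
      · exact absurd h hχY
    · obtain ⟨χ, hχ⟩ : (S 12).Nonempty := Finset.card_pos.1 (by omega)
      exact ⟨χ, (hS' _ χ hχ).2⟩
  · obtain ⟨φ, hφ⟩ := Finset.card_eq_one.1 hC1
    refine Or.inr ⟨rfl, S 10, φ, hA, fun χ hχ => (hS' _ χ hχ).2,
      (hS' 45 φ (hφ.symm ▸ Finset.mem_singleton_self φ)).2, fun χ hχ => ?_, fun θ hθ g hg => ?_⟩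
    · rcases hcov χ hχ with rfl | h | h
      · exact Or.inl rfl
      · rcases hxc χ h with ⟨hd, -⟩ | ⟨hd, -⟩ | ⟨hd, -⟩
        · exact Or.inr (Or.inl (Finset.mem_filter.2 ⟨h, hd⟩))
        · have : χ ∈ S 12 := Finset.mem_filter.2 ⟨h, hd⟩
          rw [Finset.card_eq_zero.1 hB] at this
          exact absurd this (Finset.notMem_empty _)
        · have : χ ∈ S 45 := Finset.mem_filter.2 ⟨h, hd⟩
          rw [hφ, Finset.mem_singleton] at this
          exact Or.inr (Or.inr (Or.inl this))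
      · exact Or.inr (Or.inr (Or.inr h))
    · have h1 := hrel' θ hθ g hg
      rw [Finset.card_eq_zero.1 hB, Finset.sum_empty, hφ, Finset.sum_singleton] at h1
      have h2 := hY θ hθ
      rw [hYd θ hθ] at h2
      have hs1 : s = -1 := by
        rcases hs with rfl | rfl
        · exact absurd h2 (by decide)
        · rfl
      rw [hs1] at h1
      push_cast at h1
      linear_combination -h1

/-- An involution centralizing an element of order 5 does not exist. -/
theorem no_inv [Fact (Nat.Prime 11)] {g h : G} (hg : orderOf g = 5) (hh : orderOf h = 2)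
    (hc : Commute g h) : False := by
  classical
  have hna := not_comm hG
  obtain ⟨n, hn⟩ : ∃ n, n = (Subgroup.centralizer ({h} : Set G)).index := ⟨_, rfl⟩
  obtain ⟨c, hcd⟩ : ∃ c, c = Nat.card (Subgroup.centralizer ({h} : Set G)) := ⟨_, rfl⟩
  have hnc : c * n = 7920 := by rw [hn, hcd, Subgroup.card_mul_index, hG]
  have h5c : 5 ∣ c := by
    rw [hcd, ← hg]
    exact Subgroup.orderOf_dvd_natCard _ (Subgroup.mem_centralizer_singleton_iff.2 hc.eq)
  have h5n : ¬ 5 ∣ n := by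
    intro h5
    obtain ⟨c', rfl⟩ := h5c
    obtain ⟨n', rfl⟩ := h5
    have : 25 ∣ 7920 := ⟨c' * n', by rw [← hnc]; ring⟩
    omega
  have h11n : 11 ∣ n := by
    rcases (Nat.Prime.dvd_mul (by norm_num : Nat.Prime 11)).1 (hnc ▸ (by norm_num : 11 ∣ 7920))
      with h11 | h11
    · exfalso
      rw [hcd] at h11
      obtain ⟨w, hw⟩ := exists_prime_orderOf_dvd_card' 11 h11
      have hw' : orderOf (w : G) = 11 := by rw [Subgroup.orderOf_coe]; exact hw
      obtain ⟨Q, hQ⟩ := (IsPGroup.of_card (p := 11) (n := 1)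
        (by rw [Nat.card_zpowers, hw', pow_one]) : IsPGroup 11 (Subgroup.zpowers (w : G))).exists_le_sylow
      obtain ⟨hS, hC⟩ := eleven hG Q
      have hwQ := hQ (Subgroup.mem_zpowers _)
      have hh' : h ∈ Subgroup.centralizer (Q : Set G) := by
        rw [← hS.centralizer_eq hwQ (by intro e; rw [e, orderOf_one] at hw'; omega),
          Subgroup.mem_centralizer_singleton_iff]
        exact (Subgroup.mem_centralizer_singleton_iff.1 w.2).symm
      have := Subgroup.orderOf_dvd_natCard _ hh'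
      rw [hh, hC] at this
      omega
    · exact h11
  have hn0 : 0 < n := Nat.pos_of_ne_zero fun h0 => by rw [h0, mul_zero] at hnc; omega
  have hmul5 : ∀ v : ℤ, (5 : ℤ) ∣ (n : ℤ) * v → (5 : ℤ) ∣ v := fun v hv =>
    ((Int.Prime.dvd_mul' (p := 5) (by norm_num) hv).resolve_left fun h =>
      h5n (by exact_mod_cast h))
  obtain ⟨y, Y, hYc, hYd, ⟨rfl, -⟩ | ⟨rfl, T, φ, hT, hTd, hφ, hcov, hrel⟩⟩ := pattern11 hG
  · obtain ⟨θ, hθ⟩ : Y.Nonempty := Finset.card_pos.1 (by omega)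
    obtain ⟨v, -, hpar, hlo, hhi, hdvd, hne⟩ := inv_value hna θ hh
    have hne' := hne fun e => by
      have h1 := hYd θ hθ
      rw [e, charDegree_eq (n := 1) (by simp)] at h1
      omega
    rw [hYd θ hθ] at hpar hlo hhi hdvd hne'
    rw [← hn] at hdvd
    have := hmul5 v hdvd
    omega
  · obtain ⟨v, hv, hpar, hlo, hhi, hdvd, hne⟩ := inv_value hna φ hh
    have hne' := hne fun e => by
      rw [e, charDegree_eq (n := 1) (by simp)] at hφ
      omega
    rw [hφ] at hpar hlo hhi hdvd hne'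
    rw [← hn] at hdvd
    have h5v := hmul5 v ((show (5 : ℤ) ∣ ((45 : ℕ) : ℤ) by norm_num).trans hdvd)
    have hten : ∀ χ ∈ T, (χ : G → ℂ) h = 0 := by
      intro χ hχ
      obtain ⟨w, hw, hwpar, hwlo, hwhi, hwdvd, hwne⟩ := inv_value hna χ hh
      have hwne' := hwne fun e => by
        have h1 := hTd χ hχ
        rw [e, charDegree_eq (n := 1) (by simp)] at h1
        omega
      rw [hTd χ hχ] at hwpar hwlo hwhi hwdvd hwne'
      rw [← hn] at hwdvd
      have := hmul5 w ((show (5 : ℤ) ∣ ((10 : ℕ) : ℤ) by norm_num).trans hwdvd)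
      rw [hw, show w = 0 by omega, Int.cast_zero]
    have hval : ∀ θ ∈ Y, (θ : G → ℂ) h = ((1 + v : ℤ) : ℂ) := by
      intro θ hθ
      rw [hrel θ hθ h (by rw [hh]; norm_num), Finset.sum_eq_zero hten, hv]
      push_cast
      ring
    obtain ⟨θ, hθ⟩ : Y.Nonempty := Finset.card_pos.1 (by omega)
    obtain ⟨w, hw, hwpar, hwlo, hwhi, hwdvd, hwne⟩ := inv_value hna θ hh
    have hw' : w = 1 + v := by
      rw [hval θ hθ] at hw
      exact_mod_cast hw.symm
    have hwne' := hwne fun e => by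
      have h1 := hYd θ hθ
      rw [e, charDegree_eq (n := 1) (by simp)] at h1
      omega
    rw [hYd θ hθ, hw'] at hwpar hwlo hwhi hwdvd hwne'
    rw [← hn] at hwdvd
    -- column orthogonality
    have hnotY : ∀ χ : Cfsg.IrrCharacter G, Cfsg.charDegree (χ : G → ℂ) ≠ 16 → χ ∉ Y :=
      fun χ hχ hm => hχ (hYd χ hm)
    have htd : Cfsg.charDegree ((triv G : Cfsg.IrrCharacter G) : G → ℂ) = 1 :=
      charDegree_eq (by show (1 : ℂ) = _; simp)
    have hb : 1 + v ^ 2 + 2 * (1 + v) ^ 2 ≤ (c : ℤ) := by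
      obtain ⟨u, hu⟩ : ∃ u : Cfsg.IrrCharacter G → ℤ, ∀ χ,
          u χ = if χ = triv G then 1 else if χ = φ then v else 1 + v := ⟨_, fun χ => rfl⟩
      have hφt : φ ≠ triv G := fun e => by rw [e, htd] at hφ; omega
      have hb0 := sum_norm_le (insert (triv G) (insert φ Y)) h u (by
        intro χ hχ
        simp only [Finset.mem_insert] at hχ
        rcases hχ with rfl | rfl | hχ
        · rw [hu, if_pos rfl]; simp [Blocks.triv]
        · rw [hu, if_neg hφt, if_pos rfl, hv]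
        · rw [hu, if_neg fun e => hnotY _ (by rw [e, htd]; omega) hχ,
            if_neg fun e => hnotY _ (by rw [e, hφ]; omega) hχ, hval χ hχ])
      rw [Finset.sum_insert (by
          simp only [Finset.mem_insert, not_or]
          exact ⟨hφt.symm, hnotY _ (by omega)⟩),
        Finset.sum_insert (hnotY _ (by omega)), hu, if_pos rfl, hu, if_neg hφt, if_pos rfl,
        Finset.sum_congr rfl (g := fun _ => (1 + v) ^ 2) fun χ hχ => by
          rw [hu, if_neg fun e => hnotY _ (by rw [e, htd]; omega) hχ,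
            if_neg fun e => hnotY _ (by rw [e, hφ]; omega) hχ],
        Finset.sum_const, hYc, ← hcd] at hb0
      simpa [add_assoc] using hb0
    obtain rfl | rfl | rfl : v = -15 ∨ v = -5 ∨ v = 5 := by omega
    · norm_num at hb hwdvd hdvd
      have : 264 ∣ n := by omega
      have h264 := Nat.le_of_dvd hn0 this
      have := Nat.mul_le_mul_left c h264
      omega
    · norm_num at hb hwdvd hdvd
      have : 396 ∣ n := by omega
      have h396 := Nat.le_of_dvd hn0 this
      have := Nat.mul_le_mul_left c h396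
      omega
    · norm_num at hb hwdvd hdvd
      have : 792 ∣ n := by omega
      have h792 := Nat.le_of_dvd hn0 this
      have := Nat.mul_le_mul_left c h792
      omega

/-- The Sylow 5-subgroup is self-centralizing with automizer of order 4. -/
theorem five [Fact (Nat.Prime 5)] [Fact (Nat.Prime 11)] (P : Sylow 5 G) :
    BlockThms.OrderP.Setup P 4 ∧ Nat.card (Subgroup.centralizer (P : Set G)) = 5 := by
  classical
  obtain ⟨e, he⟩ : ∃ e, e = (Subgroup.centralizer (P : Set G)).relIndex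
      (Subgroup.normalizer (P : Set G)) := ⟨_, rfl⟩
  have hS : BlockThms.OrderP.Setup P e := ⟨card_sylow hG 5 (Or.inl rfl) P, he.symm⟩
  obtain ⟨K, hKC, hCK, hcount⟩ := normalizer_count hG hS
  obtain ⟨x, hx, hx1, hxo⟩ := hS.exists_gen
  have hnd : Nat.card (Sylow 5 G) * (e * Nat.card K) = 1584 := by omega
  have hne1 : e ≠ 1 := e_ne_one hS (by rw [hG]; norm_num)
  have he4 : e ∣ 4 := hS.exists_y.1
  have hele : e ≤ 4 := Nat.le_of_dvd (by norm_num) he4
  have he24 : e = 2 ∨ e = 4 := by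
    have := hS.e_pos
    interval_cases e <;> omega
  have hodd : ¬ 2 ∣ Nat.card K := fun h2 => by
    have : Fact (Nat.Prime 2) := ⟨Nat.prime_two⟩
    obtain ⟨w, hw⟩ := exists_prime_orderOf_dvd_card' 2 h2
    exact no_inv hG hxo (show orderOf (w : G) = 2 by rw [Subgroup.orderOf_coe]; exact hw)
      (Subgroup.mem_centralizer_iff.1 (hKC w.2) x hx)
  have h11 : ¬ 11 ∣ Nat.card K := fun h11 => by
    obtain ⟨w, hw⟩ := exists_prime_orderOf_dvd_card' 11 h11
    have hw' : orderOf (w : G) = 11 := by rw [Subgroup.orderOf_coe]; exact hw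
    obtain ⟨Q, hQ⟩ := (IsPGroup.of_card (p := 11) (n := 1)
      (by rw [Nat.card_zpowers, hw', pow_one]) : IsPGroup 11 (Subgroup.zpowers (w : G))).exists_le_sylow
    obtain ⟨hS', hC'⟩ := eleven hG Q
    have hwQ := hQ (Subgroup.mem_zpowers _)
    have hx' : x ∈ Subgroup.centralizer (Q : Set G) := by
      rw [← hS'.centralizer_eq hwQ (by intro e; rw [e, orderOf_one] at hw'; omega),
        Subgroup.mem_centralizer_singleton_iff]
      exact Subgroup.mem_centralizer_iff.1 (hKC w.2) x hx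
    have := Subgroup.orderOf_dvd_natCard _ hx'
    rw [hxo, hC'] at this
    omega
  have hdvd : e * Nat.card K ∣ 1584 := ⟨_, by rw [← hnd, mul_comm]⟩
  have hm11 : ¬ 11 ∣ e * Nat.card K := fun h =>
    ((Nat.Prime.dvd_mul (by norm_num)).1 h).elim
      (fun h' => by rcases he24 with rfl | rfl <;> omega) h11
  have hdiv : 1584 / (e * Nat.card K) = Nat.card (Sylow 5 G) :=
    Nat.div_eq_of_eq_mul_left (Nat.pos_of_dvd_of_pos hdvd (by norm_num)) hnd.symm
  have hc := count5 _ (Nat.lt_succ_of_le (Nat.le_of_dvd (by norm_num) hdvd)) hdvd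
    (by rw [hdiv, card_sylow_modEq_one 5 G]) hm11
  obtain ⟨rfl, hK1⟩ : e = 4 ∧ Nat.card K = 1 := by
    rcases he24 with rfl | rfl <;> omega
  exact ⟨hS, by rw [hCK, hK1]⟩

end Order

/-- Let G be a simple group of order 7920. Then G has exactly ten irreducible complex characters,
of degrees 1, 10, 10, 10, 11, 16, 16, 44, 45, 55. -/
theorem result {G : Type*} [Group G] [Finite G] [IsSimpleGroup G] (hG : Nat.card G = 7920) : Nat.card (Cfsg.IrrCharacter G) = 10 ∧ ∀ n : ℕ, Nat.card {χ : Cfsg.IrrCharacter G // Cfsg.charDegree (χ : G → ℂ) = n} = (if n = 1 ∨ n = 11 ∨ n = 44 ∨ n = 45 ∨ n = 55 then 1 else if n = 10 then 3 else if n = 16 then 2 else 0) := by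
  classical
  have := Fintype.ofFinite G
  have : Fact (Nat.Prime 11) := ⟨by norm_num⟩
  have : Fact (Nat.Prime 5) := ⟨by norm_num⟩
  have hna := not_comm hG
  obtain ⟨P⟩ : Nonempty (Sylow 5 G) := inferInstance
  obtain ⟨hS, hC⟩ := five hG P
  obtain ⟨M, hM⟩ := Blocks.exists_isPModular 5 (Fact.out : Nat.Prime 5)
  obtain ⟨X, Y5, a, s, hdisj, hXc, hYc, hmem, hs, hX, hY, -, hrel⟩ := hS.principal_structure hM
  have hblock : ∀ χ : Cfsg.IrrCharacter G, χ ∈ X ∪ Y5 ↔ ¬ 5 ∣ Cfsg.charDegree (χ : G → ℂ) := by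
    intro χ
    rw [Finset.mem_union, ← hmem]
    exact ⟨hS.not_dvd_degree hM, fun h => by_contra fun h' => h (dvd_outside hS hC hM h')⟩
  -- the sign of a degree prime to five
  have hX5 : ∀ χ ∈ X, (Cfsg.charDegree (χ : G → ℂ) % 5 = 1 ∨ Cfsg.charDegree (χ : G → ℂ) % 5 = 4) ∧
      a χ = if Cfsg.charDegree (χ : G → ℂ) % 5 = 1 then 1 else -1 := by
    intro χ hχ
    obtain ⟨ha, hda, -⟩ := hX χ hχ
    have h4 := Int.ModEq.eq hda
    rcases ha with ha | ha <;> rw [ha] at h4 ⊢ <;> norm_num at h4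
    · have : Cfsg.charDegree (χ : G → ℂ) % 5 = 1 := by omega
      simp [this]
    · have : Cfsg.charDegree (χ : G → ℂ) % 5 = 4 := by omega
      simp [this]
  have hY5 : ∀ χ ∈ Y5, (Cfsg.charDegree (χ : G → ℂ) % 5 = 1 ∨ Cfsg.charDegree (χ : G → ℂ) % 5 = 4) ∧
      s = if Cfsg.charDegree (χ : G → ℂ) % 5 = 1 then 1 else -1 := by
    intro χ hχ
    have h4 := Int.ModEq.eq (hY χ hχ)
    rcases hs with rfl | rfl <;> norm_num at h4
    · have : Cfsg.charDegree (χ : G → ℂ) % 5 = 1 := by omega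
      simp [this]
    · have : Cfsg.charDegree (χ : G → ℂ) % 5 = 4 := by omega
      simp [this]
  have hmod5 : ∀ χ : Cfsg.IrrCharacter G, Cfsg.charDegree (χ : G → ℂ) % 5 = 0 ∨
      Cfsg.charDegree (χ : G → ℂ) % 5 = 1 ∨ Cfsg.charDegree (χ : G → ℂ) % 5 = 4 := by
    intro χ
    by_cases h : 5 ∣ Cfsg.charDegree (χ : G → ℂ)
    · omega
    · rcases Finset.mem_union.1 ((hblock χ).2 h) with h' | h'
      · exact Or.inr (hX5 χ h').1
      · exact Or.inr (hY5 χ h').1
  obtain ⟨y, Y, hY2, hYd, ⟨rfl, -, χ, hχ⟩ | ⟨rfl, T, φ, hT, hTd, hφ, hcov, -⟩⟩ := pattern11 hG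
  · have := hmod5 χ
    rw [hχ] at this
    omega
  have htd : Cfsg.charDegree ((triv G : Cfsg.IrrCharacter G) : G → ℂ) = 1 :=
    charDegree_eq (by show (1 : ℂ) = _; simp)
  obtain ⟨c, hc⟩ : ∃ c : ℕ → ℕ, ∀ n, c n = (Finset.univ.filter
      fun χ : Cfsg.IrrCharacter G => Cfsg.charDegree (χ : G → ℂ) = n).card := ⟨_, fun n => rfl⟩
  have hL : ∀ χ : Cfsg.IrrCharacter G, Cfsg.charDegree (χ : G → ℂ) ∈
      ({1, 10, 11, 16, 44, 45, 55, 66} : Finset ℕ) := by
    intro χ
    refine degL _ (deg_facts hG χ).2.1 (deg_facts hG χ).1 (hmod5 χ) ?_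
    by_cases h : 11 ∣ Cfsg.charDegree (χ : G → ℂ)
    · exact Or.inl h
    rcases hcov χ h with rfl | h' | rfl | h'
    · exact Or.inr (Or.inl htd)
    · exact Or.inr (Or.inr (Or.inl (hTd χ h')))
    · exact Or.inr (Or.inr (Or.inr (Or.inl hφ)))
    · exact Or.inr (Or.inr (Or.inr (Or.inr (hYd χ h'))))
  have hfib : ∀ g : ℕ → ℤ, ∑ χ : Cfsg.IrrCharacter G, g (Cfsg.charDegree (χ : G → ℂ)) =
      ∑ n ∈ ({1, 10, 11, 16, 44, 45, 55, 66} : Finset ℕ), (c n : ℤ) * g n := by
    intro g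
    rw [← Finset.sum_fiberwise_of_maps_to (fun χ _ => hL χ)]
    refine Finset.sum_congr rfl fun n _ => ?_
    rw [Finset.sum_congr rfl (g := fun _ => g n) fun χ hχ => by rw [(Finset.mem_filter.1 hχ).2],
      Finset.sum_const, nsmul_eq_mul, hc]
  have hfilt : ∀ (n : ℕ) (W : Finset (Cfsg.IrrCharacter G)), ¬ 11 ∣ n →
      (∀ χ ∈ W, Cfsg.charDegree (χ : G → ℂ) = n) →
      (∀ χ : Cfsg.IrrCharacter G, Cfsg.charDegree (χ : G → ℂ) = n → (χ = triv G ∨ χ ∈ T ∨ χ = φ ∨ χ ∈ Y) → χ ∈ W) →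
      c n = W.card := by
    intro n W hn h1 h2
    rw [hc]
    congr 1
    ext χ
    simp only [Finset.mem_filter, Finset.mem_univ, true_and]
    exact ⟨fun h => h2 χ h (hcov χ (h ▸ hn)), h1 χ⟩
  have hc1 : c 1 = 1 := hfilt 1 {triv G} (by norm_num)
    (fun χ hχ => by rw [Finset.mem_singleton.1 hχ, htd]) fun χ h h' => by
      rcases h' with rfl | h' | rfl | h'
      · simp
      · rw [hTd χ h'] at h; omega
      · rw [hφ] at h; omega
      · rw [hYd χ h'] at h; omega
  have hc45 : c 45 = 1 := hfilt 45 {φ} (by norm_num)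
    (fun χ hχ => by rw [Finset.mem_singleton.1 hχ, hφ]) fun χ h h' => by
      rcases h' with rfl | h' | rfl | h'
      · rw [htd] at h; omega
      · rw [hTd χ h'] at h; omega
      · simp
      · rw [hYd χ h'] at h; omega
  have hc10 : c 10 = 3 := (hfilt 10 T (by norm_num) hTd fun χ h h' => by
      rcases h' with rfl | h' | rfl | h'
      · rw [htd] at h; omega
      · exact h'
      · rw [hφ] at h; omega
      · rw [hYd χ h'] at h; omega).trans hT
  have hc16 : c 16 = 2 := (hfilt 16 Y (by norm_num) hYd fun χ h h' => by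
      rcases h' with rfl | h' | rfl | h'
      · rw [htd] at h; omega
      · rw [hTd χ h'] at h; omega
      · rw [hφ] at h; omega
      · exact h').trans hY2
  -- three equations
  have hsq := hfib fun n => (n : ℤ) ^ 2
  rw [sum_sq hG] at hsq
  have hnum := hfib fun n => if n % 5 = 0 then 0 else 1
  have hfive : ∑ χ : Cfsg.IrrCharacter G,
      (if Cfsg.charDegree (χ : G → ℂ) % 5 = 0 then (0 : ℤ) else 1) = 5 := by
    rw [← Finset.sum_subset (Finset.subset_univ (X ∪ Y5)) fun χ _ hχ => if_pos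
      (Nat.mod_eq_zero_of_dvd (of_not_not fun h => hχ ((hblock χ).2 h))),
      Finset.sum_congr rfl (g := fun _ => (1 : ℤ)) fun χ hχ => if_neg fun h =>
        (hblock χ).1 hχ (Nat.dvd_of_mod_eq_zero h),
      Finset.sum_const, Finset.card_union_of_disjoint hdisj, hXc, hYc]
    simp
  rw [hfive] at hnum
  have hsgn := hfib fun n => if n % 5 = 0 then 0 else if n % 5 = 1 then (n : ℤ) else -(n : ℤ)
  obtain ⟨θ, hθ⟩ : Y5.Nonempty := Finset.card_pos.1 (by rw [hYc]; norm_num)
  have hzero : ∑ χ : Cfsg.IrrCharacter G, (if Cfsg.charDegree (χ : G → ℂ) % 5 = 0 then (0 : ℤ)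
      else if Cfsg.charDegree (χ : G → ℂ) % 5 = 1 then (Cfsg.charDegree (χ : G → ℂ) : ℤ)
      else -(Cfsg.charDegree (χ : G → ℂ) : ℤ)) = 0 := by
    have h1 := hrel θ hθ 1 (by rw [orderOf_one]; norm_num)
    simp only [← charDegree_cast (Char.IsIrr.isCharacter (Subtype.prop _))] at h1
    have h3 : s * (Cfsg.charDegree (θ : G → ℂ) : ℤ) +
        ∑ ψ ∈ X, a ψ * (Cfsg.charDegree (ψ : G → ℂ) : ℤ) = 0 := by exact_mod_cast h1
    obtain ⟨θ', hθ'⟩ := Finset.card_eq_one.1 (show Y5.card = 1 by rw [hYc])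
    rw [hθ', Finset.mem_singleton] at hθ
    subst hθ
    rw [← Finset.sum_subset (Finset.subset_univ (X ∪ Y5)) fun χ _ hχ => if_pos
      (Nat.mod_eq_zero_of_dvd (of_not_not fun h => hχ ((hblock χ).2 h))),
      Finset.sum_union hdisj, ← h3, add_comm]
    refine congrArg₂ (· + ·) ?_ ?_
    · rw [hθ', Finset.sum_singleton]
      obtain ⟨hm, hss⟩ := hY5 θ (hθ'.symm ▸ Finset.mem_singleton_self θ)
      rw [if_neg (by omega), hss]
      split_ifs <;> ring
    · refine Finset.sum_congr rfl fun χ hχ => ?_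
      obtain ⟨hm, hss⟩ := hX5 χ hχ
      rw [if_neg (by omega), hss]
      split_ifs <;> ring
  rw [hzero] at hsgn
  simp [hc1, hc10, hc16, hc45] at hsq hnum hsgn
  have hc11 : c 11 = 1 := by omega
  have hc44 : c 44 = 1 := by omega
  have hc55 : c 55 = 1 := by omega
  have hc66 : c 66 = 0 := by omega
  refine ⟨?_, fun n => ?_⟩
  · have h := hfib fun _ => 1
    simp [hc1, hc10, hc16, hc45, hc11, hc44, hc55, hc66] at h
    rw [Nat.card_eq_fintype_card]
    omega
  · rw [Nat.card_eq_fintype_card, Fintype.card_subtype, ← hc]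
    by_cases hn : n ∈ ({1, 10, 11, 16, 44, 45, 55, 66} : Finset ℕ)
    · simp only [Finset.mem_insert, Finset.mem_singleton] at hn
      rcases hn with rfl | rfl | rfl | rfl | rfl | rfl | rfl | rfl <;>
        simp [hc1, hc10, hc16, hc45, hc11, hc44, hc55, hc66]
    · have h0 : Finset.univ.filter
          (fun χ : Cfsg.IrrCharacter G => Cfsg.charDegree (χ : G → ℂ) = n) = ∅ :=
        Finset.filter_eq_empty_iff.2 fun χ _ h => hn (h ▸ hL χ)
      rw [hc, h0, Finset.card_empty]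
      simp only [Finset.mem_insert, Finset.mem_singleton, not_or] at hn
      rw [if_neg (by omega), if_neg (by omega), if_neg (by omega)]

end Cfsg.Agent.S4429
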