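import Cfsg.Statements.S0042
import Cfsg.Agent.Fusion.FixedPointFree
import Cfsg.Agent.Char.Frobenius

set_option autoImplicit false
open Cfsg

open scoped Pointwise

namespace Cfsg.Agent.S0042

/-- In a finite Frobenius group, the Frobenius kernel is (the carrier of) a normal subgroup which is nilpotent. -/
theorem result {G : Type*} [Group G] [Finite G] (H : Subgroup G) (hH : Cfsg.IsFrobeniusComplement H) :
    ∃ N : Subgroup G, (N : Set G) = Cfsg.frobeniusKernel H ∧ N.Normal ∧ Group.IsNilpotent N := by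
  obtain ⟨hH1, -, hti⟩ := hH
  have hmal : ∀ g : G, g ∉ H → ∀ h ∈ H, g * h * g⁻¹ ∈ H → h = 1 := by
    intro g hg h hh hmem
    have h1 : g * h * g⁻¹ ∈ H ⊓ (MulAut.conj g • H) := ⟨hmem, Coprime.conj_mem_conj_smul hh⟩
    rw [hti g hg, Subgroup.mem_bot, mul_inv_eq_one] at h1
    exact mul_eq_left.mp h1
  obtain ⟨N, hN, hNH, hNmem⟩ := Char.frobenius_kernel H hmal
  refine ⟨N, ?_, hN, ?_⟩
  · ext x
    rw [SetLike.mem_coe, hNmem]
    show (x = 1 ∨ _) ↔ (x = 1 ∨ _)
    simp only [Coprime.mem_conj_smul]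
  obtain ⟨q, hq, hqd⟩ := Nat.exists_prime_and_dvd fun h => hH1 (Subgroup.eq_bot_of_card_eq H h)
  have := Fact.mk hq
  obtain ⟨c, hc⟩ := exists_prime_orderOf_dvd_card' (G := H) q hqd
  have hc1 : (c : G) ≠ 1 := fun h => by
    rw [show c = 1 from Subtype.ext h, orderOf_one] at hc
    exact hq.ne_one hc.symm
  have hcq : (c : G) ^ q = 1 := by rw [← hc, ← Subgroup.orderOf_coe, pow_orderOf_eq_one]
  refine Fusion.isNilpotent_of_fpf_prime hq hcq
    ((Subgroup.normalizer_eq_top (H := N)).ge (Subgroup.mem_top _)) ?_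
  rw [eq_bot_iff]
  rintro x ⟨hxN, hxc⟩
  have hcomm : x * c = c * x := Subgroup.mem_centralizer_singleton_iff.mp hxc
  by_cases hxH : x ∈ H
  · exact Subgroup.mem_bot.mpr ((Subgroup.mem_bot.mp
      (hNH.disjoint.eq_bot ▸ (⟨hxN, hxH⟩ : x ∈ N ⊓ H))))
  · exact absurd (hmal x hxH c c.2 (by rw [hcomm, mul_inv_cancel_right]; exact c.2)) hc1

end Cfsg.Agent.S0042
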