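import Cfsg.Statements.S0732
import Cfsg.Agent.Zassenhaus.PrimeSetup
import Cfsg.Agent.Zassenhaus.PrimePGL
import Cfsg.Agent.Zassenhaus.PrimeAffine
import Cfsg.Agent.Zassenhaus.AbelianKernel
import Cfsg.Agent.Classical.SmallSimple
import Cfsg.Agent.S0035

set_option autoImplicit false
open Cfsg
open Cfsg.Agent

namespace Cfsg.Agent.S0732

/-- A transitive permutation group on `p + 1` points (`p` prime) of order `(p+1) p d` with `d < p` is isomorphic to `PGL(2,p)` with `d = p - 1`, or to `PSL(2,p)` with `2d = p - 1`, or else `p + 1 = 2^q` for a prime `q`, `d = 1` or `d = q`, and the group is permutation-isomorphic to a group of semi-affine maps `x ↦ a φ(x) + b` of the field with `2^q` elements. -/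
theorem result {α : Type*} [Fintype α] [DecidableEq α] {p d : ℕ} (hp : p.Prime) (hα : Fintype.card α = p + 1) (G : Subgroup (Equiv.Perm α)) [MulAction.IsPretransitive G α] (hG : Nat.card G = (p + 1) * p * d) (hd : d < p) : (d = p - 1 ∧ Nonempty (G ≃* Matrix.ProjGenLinGroup (Fin 2) (ZMod p))) ∨ (2 * d = p - 1 ∧ Nonempty (G ≃* Matrix.ProjectiveSpecialLinearGroup (Fin 2) (ZMod p))) ∨ (∃ q : ℕ, q.Prime ∧ p + 1 = 2 ^ q ∧ (d = 1 ∨ d = q) ∧ ∃ e : α ≃ GaloisField 2 q, ∀ g : G, (e.symm.trans (((g : Equiv.Perm α)).trans e)) ∈ Cfsg.semiaffineGroup (GaloisField 2 q)) := by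
  classical
  haveI := Fact.mk hp
  haveI : FaithfulSMul G α := ⟨fun {g h} e => Subtype.ext (Equiv.ext e)⟩
  have hΩ : Nat.card α = p + 1 := by rw [Nat.card_eq_fintype_card, hα]
  obtain ⟨a, b, P, C, hab, hF, hPc, hE⟩ := Zassenhaus.exists_prime_setup hp hΩ hG hd
  have h2 := hp.two_le
  have h3 : 3 ≤ Nat.card α := by omega
  have hd0 : 0 < d := hE ▸ Nat.card_pos
  by_cases hfull : d = p - 1
  · exact Or.inl ⟨hfull, C.identify_pgl_prime h3 hab hF hPc (hE.trans hfull)⟩
  refine Or.inr ?_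
  have hp2 : p ≠ 2 := fun e => hfull (by omega)
  have affine : (∃ N : Subgroup G, N.Normal ∧ MulAction.IsPretransitive N α ∧
      ∀ x : α, MulAction.stabilizer N x = ⊥) → ∃ q : ℕ, q.Prime ∧ p + 1 = 2 ^ q ∧ (d = 1 ∨ d = q) ∧
        ∃ e : α ≃ GaloisField 2 q, ∀ g : G, (e.symm.trans (((g : Equiv.Perm α)).trans e)) ∈
          Cfsg.semiaffineGroup (GaloisField 2 q) := by
    rintro ⟨N, hNn, hNt, hNr⟩
    obtain ⟨q, hq, hpq, hdvd, e, he⟩ := C.semiaffine_prime hab hF hp2 hPc N hNr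
    rw [hE] at hdvd
    refine ⟨q, hq, hpq, (Nat.dvd_prime hq).1 hdvd, e, fun g => ?_⟩
    obtain ⟨u, c, φ, h⟩ := he g
    exact ⟨u, c, φ, fun x => h x⟩
  by_cases hN : ∃ N : Subgroup G, N.Normal ∧ MulAction.IsPretransitive N α ∧
      ∀ x : α, MulAction.stabilizer N x = ⊥
  · exact Or.inr (affine hN)
  have hd1 : d ≠ 1 := by
    intro hd1
    apply hN
    -- a sharply doubly transitive group has a regular normal subgroup
    have hbot : Zassenhaus.twoPt G a b = ⊥ := Subgroup.card_eq_one.1 (hE.trans hd1)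
    have hfix2 : ∀ (g : G) (x y : α), x ≠ y → g • x = x → g • y = y → g = 1 := by
      intro g x y hxy hx hy
      obtain ⟨k, hkx, hky⟩ := C.two hxy hab
      have hmem : k * g * k⁻¹ ∈ Zassenhaus.twoPt G a b :=
        ⟨by show (k * g * k⁻¹) • a = a; rw [← hkx, mul_smul, mul_smul, inv_smul_smul, hx],
          by show (k * g * k⁻¹) • b = b; rw [← hky, mul_smul, mul_smul, inv_smul_smul, hy]⟩
      rw [hbot, Subgroup.mem_bot] at hmem
      exact conj_eq_one_iff.1 hmem
    set D := MulAction.stabilizer G a with hD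
    have hDne : D ≠ ⊥ := fun e => by
      obtain ⟨u, hu, -⟩ := hF.reg b b (Ne.symm hab) (Ne.symm hab)
      have hPD : P ≤ D := hF.fix
      rw [e, le_bot_iff] at hPD
      rw [hPD, Subgroup.card_bot] at hPc
      omega
    have hDtop : D ≠ ⊤ := fun e => by
      obtain ⟨g, hg, -⟩ := C.two hab (Ne.symm hab)
      exact hab ((show g • a = a from e.ge (Subgroup.mem_top g)).symm.trans hg)
    have hFr : Cfsg.IsFrobeniusComplement D := by
      refine Core.isFrobeniusComplement_of_malnormal hDne hDtop fun g hg h hh hc => ?_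
      refine hfix2 h a (g⁻¹ • a) (fun e => hg ?_) hh ?_
      · show g • a = a
        exact (eq_inv_smul_iff.1 e)
      · have h1 : (g * h * g⁻¹) • a = a := hc
        rw [mul_smul, mul_smul] at h1
        exact (eq_inv_smul_iff.2 h1)
    obtain ⟨N, -, hNn, hNc⟩ := S0035.result D hFr
    have htr : ∀ x : α, ∃ n ∈ N, n • a = x := fun x => by
      obtain ⟨g, rfl⟩ := MulAction.exists_smul_eq G a x
      obtain ⟨⟨n, h⟩, e⟩ := hNc.2 g
      refine ⟨n, n.2, ?_⟩
      rw [← e]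
      show (n : G) • a = ((n : G) * (h : G)) • a
      rw [mul_smul, show (h : G) • a = a from h.2]
    refine ⟨N, hNn, ⟨fun x y => ?_⟩, fun x => eq_bot_iff.2 ?_⟩
    · obtain ⟨n, hn, rfl⟩ := htr x
      obtain ⟨m, hm, rfl⟩ := htr y
      exact ⟨⟨m * n⁻¹, N.mul_mem hm (N.inv_mem hn)⟩, by
        show (m * n⁻¹) • n • a = m • a
        rw [← mul_smul, inv_mul_cancel_right]⟩
    · rintro ⟨m, hm⟩ hmx
      obtain ⟨n, hn, rfl⟩ := htr x
      have h1 : n⁻¹ * m * n ∈ N ⊓ D := ⟨N.mul_mem (N.mul_mem (N.inv_mem hn) hm) hn, by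
        show (n⁻¹ * m * n) • a = a
        rw [mul_smul, mul_smul, inv_smul_eq_iff]
        exact hmx⟩
      rw [hNc.disjoint.eq_bot, Subgroup.mem_bot] at h1
      refine Subgroup.mem_bot.2 (Subtype.ext (?_ : m = 1))
      calc m = n * (n⁻¹ * m * n) * n⁻¹ := by group
        _ = 1 := by rw [h1]; group
  have hne : Zassenhaus.twoPt G a b ≠ ⊥ := fun e => hd1 (by rw [← hE, e, Subgroup.card_bot])
  have hZ : Cfsg.IsZassenhausGroup G α := by
    refine ⟨inferInstance, MulAction.is_two_pretransitive_iff.2 fun {_ _ _ _} h h' => C.two h h', C.three, ?_, ?_⟩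
    · obtain ⟨g, hg, hg1⟩ := (Subgroup.bot_or_exists_ne_one _).resolve_left hne
      exact ⟨g, hg1, a, b, hab, hg.1, hg.2⟩
    · intro N hNn hNt
      by_contra hcon
      push Not at hcon
      exact hN ⟨N, hNn, hNt, hcon⟩
  have hPab : ∀ x ∈ P, ∀ y ∈ P, x * y = y * x := fun x hx y hy => by
    haveI := isCyclic_of_prime_card hPc
    exact congrArg Subtype.val (mul_comm' (⟨x, hx⟩ : P) ⟨y, hy⟩)
  rcases Zassenhaus.abelian_kernel_cases hZ hab hF hPab with h | ⟨h, p', f, K, iK, iFK, -, -, hK, hO, ⟨φ⟩⟩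
  · exact absurd (show d = p - 1 by omega) hfull
  refine Or.inl ⟨by omega, ?_⟩
  have hKp : Fintype.card K = p := by omega
  obtain ⟨ψ⟩ := Cfsg.Agent.Classical.Small.psl_congr (n := 2) (ZMod.ringEquivOfPrime K hp hKp).symm
  exact ⟨φ.trans ψ⟩

end Cfsg.Agent.S0732
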