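
import Cfsg.Statements.S1009
import Cfsg.Agent.SmallOrder.Elements

set_option autoImplicit false
open Cfsg

namespace Cfsg.Agent.S1009

/-- Brodkey's Theorem: if a finite group has abelian Sylow p-subgroups, then there are two Sylow p-subgroups whose intersection equals the intersection of all Sylow p-subgroups. -/
theorem result {G : Type*} [Group G] [Finite G] (p : ℕ) [Fact p.Prime] (hab : ∀ P : Sylow p G, IsMulCommutative ↥(P : Subgroup G)) : ∃ P Q : Sylow p G, (P : Subgroup G) ⊓ (Q : Subgroup G) = ⨅ R : Sylow p G, (R : Subgroup G) := by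
  classical
  obtain ⟨⟨P, Q⟩, hmin⟩ := Finite.exists_min
    (fun x : Sylow p G × Sylow p G => Nat.card ↥((x.1 : Subgroup G) ⊓ x.2))
  refine ⟨P, Q, le_antisymm (le_iInf fun R => ?_) (le_inf (iInf_le _ P) (iInf_le _ Q))⟩
  set D := (P : Subgroup G) ⊓ (Q : Subgroup G) with hD
  by_contra hR
  have hab' : ∀ S : Sylow p G, ∀ a ∈ (S : Subgroup G), ∀ b ∈ (S : Subgroup G), a * b = b * a :=
    fun S a ha b hb => congrArg Subtype.val ((hab S).is_comm.comm ⟨a, ha⟩ ⟨b, hb⟩)
  set C := Subgroup.centralizer (D : Set G) with hC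
  have hPC : (P : Subgroup G) ≤ C := fun a ha =>
    Subgroup.mem_centralizer_iff.2 fun d hd => hab' P d hd.1 a ha
  have hQC : (Q : Subgroup G) ≤ C := fun a ha =>
    Subgroup.mem_centralizer_iff.2 fun d hd => hab' Q d hd.2 a ha
  obtain ⟨S, hS⟩ := ((R.isPGroup'.to_le inf_le_left : IsPGroup p ↥((R : Subgroup G) ⊓ C)).of_equiv
    (Subgroup.subgroupOfEquivOfLe inf_le_right).symm).exists_le_sylow
  obtain ⟨c, hc⟩ := MulAction.exists_smul_eq C (P.subtype hPC) S
  -- replace `R` by a conjugate meeting `C` inside `P`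
  set R' := (c : G)⁻¹ • R with hR'
  have hRC : ∀ x, x ∈ (R' : Subgroup G) → x ∈ C → x ∈ (P : Subgroup G) := by
    intro x hx hxC
    rw [hR', Sylow.coe_subgroup_smul, Subgroup.mem_pointwise_smul_iff_inv_smul_mem] at hx
    have hx' : (c : G) * x * (c : G)⁻¹ ∈ (R : Subgroup G) := by simpa [MulAut.smul_def] using hx
    have hxC' : (c : G) * x * (c : G)⁻¹ ∈ C := C.mul_mem (C.mul_mem c.2 hxC) (C.inv_mem c.2)
    have h1 : (⟨_, hxC'⟩ : C) ∈ (S : Subgroup C) := hS (Subgroup.mem_inf.2 ⟨hx', hxC'⟩)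
    rw [← hc, Sylow.coe_subgroup_smul, Subgroup.mem_pointwise_smul_iff_inv_smul_mem] at h1
    have h2 : (c : G)⁻¹ * ((c : G) * x * (c : G)⁻¹) * (c : G) ∈ (P : Subgroup G) := by
      simpa [MulAut.smul_def, Subgroup.mem_subgroupOf] using h1
    simpa [mul_assoc] using h2
  have hRD : ¬ D ≤ (R' : Subgroup G) := by
    refine fun hle => hR fun x hx => ?_
    have h1 := hle hx
    rw [hR', Sylow.coe_subgroup_smul, Subgroup.mem_pointwise_smul_iff_inv_smul_mem] at h1
    have h2 : (c : G) * x * (c : G)⁻¹ ∈ (R : Subgroup G) := by simpa [MulAut.smul_def] using h1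
    rwa [← Subgroup.mem_centralizer_iff.1 c.2 x hx, mul_inv_cancel_right] at h2
  have hle : (R' : Subgroup G) ⊓ Q ≤ D := fun x hx => ⟨hRC x hx.1 (hQC hx.2), hx.2⟩
  exact hRD ((Subgroup.eq_of_le_of_card_ge hle (hmin (R', Q))).ge.trans inf_le_left)


end Cfsg.Agent.S1009
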