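import Cfsg.Statements.S5454
import Cfsg.Agent.ThreeTrans.CoverThompson
import Cfsg.Agent.ThreeTrans.CountM22
import Cfsg.Agent.ThreeTrans.CentralLiftQuot
-- import your own Cfsg.Agent.* helpers here

set_option autoImplicit false
open Cfsg

namespace Cfsg.Agent.S5454

/-- A prime dividing the order of a group of automorphisms of a group of order `2 ^ 10`. -/
theorem prime_of_aut {A : Type*} [Group A] [Finite A] (hA : Nat.card A = 1024) (M : Subgroup (MulAut A)) {p : ℕ}
    (hp : p.Prime) (hdvd : p ∣ Nat.card M) : ∃ k < 10, p ∣ 1024 - 2 ^ k := by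
  have : Fact p.Prime := ⟨hp⟩
  obtain ⟨σ, hσ⟩ := exists_prime_orderOf_dvd_card' p hdvd
  set P : Subgroup (MulAut A) := Subgroup.zpowers (σ : MulAut A)
  have hP : IsPGroup p P := IsPGroup.of_card (n := 1) (by
    rw [Nat.card_zpowers, Subgroup.orderOf_coe, hσ, pow_one])
  let Fx : Subgroup A :=
    { carrier := {a | (σ : MulAut A) a = a}
      one_mem' := map_one _
      mul_mem' := fun {a b} ha hb => by show (σ : MulAut A) (a * b) = a * b; rw [map_mul, ha, hb]
      inv_mem' := fun {a} ha => by show (σ : MulAut A) a⁻¹ = a⁻¹; rw [map_inv, ha] }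
  have hfix : MulAction.fixedPoints P A = (Fx : Set A) := by
    ext a
    constructor
    · exact fun h => h ⟨σ, Subgroup.mem_zpowers _⟩
    · rintro h ⟨g, hg⟩
      have h1 : (σ : MulAut A) ∈ MulAction.stabilizer (MulAut A) a := h
      exact (Subgroup.zpowers_le.2 h1 hg : g ∈ MulAction.stabilizer (MulAut A) a)
  have hmod := hP.card_modEq_card_fixedPoints A
  rw [hfix, hA] at hmod
  obtain ⟨k, hk, hk'⟩ := (Nat.dvd_prime_pow Nat.prime_two).1
    (show Nat.card Fx ∣ 2 ^ 10 by rw [show (2 : ℕ) ^ 10 = 1024 from rfl, ← hA]; exact Fx.card_subgroup_dvd_card)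
  refine ⟨k, lt_of_le_of_ne hk fun h => ?_, ?_⟩
  · have htop : Fx = ⊤ := Subgroup.eq_top_of_card_eq _ (by rw [hk', h, hA]; rfl)
    have hσ1 : (σ : MulAut A) = 1 := MulEquiv.ext fun a => (htop ▸ Subgroup.mem_top a : a ∈ Fx)
    rw [← Subgroup.orderOf_coe, hσ1, orderOf_one] at hσ
    exact hp.one_lt.ne hσ
  · have e : Nat.card (Fx : Set A) = 2 ^ k := hk'
    rw [e] at hmod
    exact (Nat.modEq_iff_dvd' (Nat.pow_le_pow_right (by norm_num) hk)).1 hmod.symm

open Cfsg.Agent.ThreeTrans in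
/-- The two conjugates in the count. -/
theorem count_cases {n a b : ℕ} (ha : a ≤ 2) (hb : b ≤ 2) (hn : n = 1 + 21 * a + 280 * b) (h1 : 1 < n)
    (hdiv : ∀ p, p.Prime → p ∣ n → ∃ k < 10, p ∣ 1024 - 2 ^ k) :
    n = 22 ∨ (a = 0 ∧ b = 2 ∧ n = 561) := by
  have no : ∀ p, p.Prime → p ∣ n → (∀ k < 10, ¬ p ∣ 1024 - 2 ^ k) → False := fun p hp hd h => by
    obtain ⟨k, hk, hk'⟩ := hdiv p hp hd
    exact h k hk hk'
  interval_cases a <;> interval_cases b <;> norm_num at hn <;> subst hn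
  · omega
  · exact (no 281 (by norm_num) dvd_rfl (by decide +kernel)).elim
  · exact Or.inr ⟨rfl, rfl, rfl⟩
  · exact Or.inl rfl
  · exact (no 151 (by norm_num) (by norm_num) (by decide +kernel)).elim
  · exact (no 97 (by norm_num) (by norm_num) (by decide +kernel)).elim
  · exact (no 43 (by norm_num) dvd_rfl (by decide +kernel)).elim
  · exact (no 19 (by norm_num) (by norm_num) (by decide +kernel)).elim
  · exact (no 67 (by norm_num) (by norm_num) (by decide +kernel)).elim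

/-- Let G be a finite group with an involution d whose centralizer C is quasisimple with C modulo the subgroup generated by d isomorphic to the projective special unitary group of dimension 6 over the field with four elements, and suppose some conjugate of d other than d commutes with d. Let S be a Sylow 2-subgroup of C and A the Thompson subgroup of S (generated by the elementary abelian subgroups of S of largest order), regarded as a subgroup of G. Then A is elementary abelian of order 2^10, exactly 22 conjugates of d lie in A, and the normalizer of A permutes them transitively. -/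
theorem result {G : Type*} [Group G] [Finite G] (d : G) (hd : orderOf d = 2) (hq : Cfsg.IsQuasisimple ↥(Subgroup.centralizer ({d} : Set G))) [hzn : ((Subgroup.zpowers d).subgroupOf (Subgroup.centralizer ({d} : Set G))).Normal] (K : Type) [Field K] [Fintype K] (hK : Fintype.card K = 4) (e : ↥(Subgroup.centralizer ({d} : Set G)) ⧸ (Subgroup.zpowers d).subgroupOf (Subgroup.centralizer ({d} : Set G)) ≃* Cfsg.PSU 6 K 2) (hnwc : ∃ g : G, g * d * g⁻¹ ∈ Subgroup.centralizer ({d} : Set G) ∧ g * d * g⁻¹ ≠ d) (S : Sylow 2 ↥(Subgroup.centralizer ({d} : Set G))) (A : Subgroup G) (hA : A = (Cfsg.thompsonSubgroupOf 2 (S : Subgroup ↥(Subgroup.centralizer ({d} : Set G)))).map (Subgroup.centralizer ({d} : Set G)).subtype) : Cfsg.IsElementaryAbelian 2 A ∧ Nat.card A = 2 ^ 10 ∧ Set.ncard {x : G | x ∈ A ∧ IsConj d x} = 22 ∧ ∀ x ∈ A, ∀ y ∈ A, IsConj d x → IsConj d y → ∃ n ∈ Subgroup.normalizer (A : Set G), n * x * n⁻¹ = y := by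
  classical
  open Cfsg.Agent.ThreeTrans in
  obtain ⟨θ, hB, π, hsurj, hker, hcen⟩ := psu_proj_center hK e
  have hF : Nat.card K = 4 := by rw [Nat.card_eq_fintype_card, hK]
  have hd2 : d * d = 1 := by rw [← sq, ← hd]; exact pow_orderOf_eq_one d
  have hd1 : d ≠ 1 := fun h => by rw [h, orderOf_one] at hd; omega
  let z : (Subgroup.centralizer ({d} : Set G)) := ⟨d, Subgroup.mem_centralizer_singleton_iff.2 rfl⟩
  set ξ := QuotientGroup.mk' ((Subgroup.zpowers d).subgroupOf (Subgroup.centralizer ({d} : Set G))) with hξ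
  have hcov := Cfsg.Agent.ThreeTrans.cov_centralizer d hd
  have hS : Cfsg.Agent.ThreeTrans.UModel.Setup hB ξ π z :=
    ⟨hF, hcov, hsurj, hker, hcen,
      (QuotientGroup.eq_one_iff _).2 (Subgroup.mem_subgroupOf.2 (Subgroup.mem_zpowers d)),
      fun h => hd1 (congrArg Subtype.val h), fun c hc => by
        rcases Cfsg.Agent.ThreeTrans.eq_one_or_eq_d d hd hc with h | h
        · exact Or.inl (Subtype.ext h)
        · exact Or.inr (Subtype.ext h)⟩
  have hperf : commutator (Subgroup.centralizer ({d} : Set G)) = ⊤ := hq.1.commutator_eq_top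
  have hX : ¬ 2 ^ 16 ∣ Nat.card ((Subgroup.centralizer ({d} : Set G)) ⧸ (Subgroup.zpowers d).subgroupOf (Subgroup.centralizer ({d} : Set G))) := by
    rw [Nat.card_congr e.toEquiv, Cfsg.Agent.ThreeTrans.card_psu_six hK]
    norm_num
  have hnsq := (Cfsg.Agent.ThreeTrans.lift_conclusion d hd fun q hq' =>
    Cfsg.Agent.ThreeTrans.UModel.lift_involution hB hcov π hsurj (fun g hg => (hker g hg).2) hF hq').2
  obtain ⟨f, hJ, hconjK⟩ := Cfsg.Agent.ThreeTrans.UModel.thompson_cover hS S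
  rw [hJ] at hA
  set A0 := Cfsg.Agent.ThreeTrans.UModel.preRad ξ π f with hA0
  have hA0sq : ∀ c ∈ A0, c * c = 1 := fun c hc => Cfsg.Agent.ThreeTrans.UModel.preRad_sq hS f hc
  have hA0c : Nat.card A0 = 1024 := Cfsg.Agent.ThreeTrans.UModel.preRad_card hS f
  have hmemA : ∀ {a : G}, a ∈ A → ∃ c : (Subgroup.centralizer ({d} : Set G)), c ∈ A0 ∧ (c : G) = a := fun {a} ha => by
    rw [hA] at ha; exact ha
  have hsq : ∀ a ∈ A, a * a = 1 := by
    intro a ha
    obtain ⟨c, hc, rfl⟩ := hmemA ha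
    exact congrArg Subtype.val (hA0sq c hc)
  have hcomm : ∀ a ∈ A, ∀ b ∈ A, Commute a b := by
    intro a ha b hb
    obtain ⟨c, hc, rfl⟩ := hmemA ha
    obtain ⟨c', hc', rfl⟩ := hmemA hb
    exact congrArg Subtype.val (Cfsg.Agent.ThreeTrans.UModel.preRad_comm hS f hc hc').eq
  have hAc : Nat.card A = 1024 := by
    rw [hA, Subgroup.card_map_of_injective (Subgroup.subtype_injective (Subgroup.centralizer ({d} : Set G))), hA0c]
  have hzA : z ∈ A0 := by
    show ξ z ∈ f.rad.map π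
    rw [hS.z_map]; exact one_mem _
  have hdA : d ∈ A := by rw [hA]; exact ⟨z, hzA, rfl⟩
  -- transitivity
  have htr1 : ∀ x ∈ A, IsConj d x → ∃ n ∈ Subgroup.normalizer (A : Set G), n * d * n⁻¹ = x := by
    intro x hx hdx
    obtain ⟨g, hg⟩ := isConj_iff.1 hdx
    set A' : Subgroup G := A.map (MulAut.conj g⁻¹).toMonoidHom with hA'
    have hle : A' ≤ (Subgroup.centralizer ({d} : Set G)) := by
      rintro _ ⟨a, ha, rfl⟩
      show g⁻¹ * a * g⁻¹⁻¹ ∈ (Subgroup.centralizer ({d} : Set G))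
      refine Subgroup.mem_centralizer_singleton_iff.2 ?_
      rw [show d = g⁻¹ * x * g by rw [← hg]; group]
      calc g⁻¹ * a * g⁻¹⁻¹ * (g⁻¹ * x * g) = g⁻¹ * (a * x) * g := by group
        _ = g⁻¹ * (x * a) * g := by rw [(hcomm a ha x hx).eq]
        _ = g⁻¹ * x * g * (g⁻¹ * a * g⁻¹⁻¹) := by group
    obtain ⟨h, hh⟩ := hconjK (A'.subgroupOf (Subgroup.centralizer ({d} : Set G))) (fun c hc => by
        obtain ⟨a, ha, e⟩ := Subgroup.mem_subgroupOf.1 hc
        refine Subtype.ext ?_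
        show (c : G) * c = 1
        rw [← e, ← map_mul, hsq a ha, map_one])
      (by rw [Nat.card_congr (Subgroup.subgroupOfEquivOfLe hle).toEquiv, hA',
        Subgroup.card_map_of_injective (MulAut.conj g⁻¹).injective, hAc])
    refine ⟨g * (h : G)⁻¹, ?_, ?_⟩
    · rw [← inv_mem_iff, mul_inv_rev, inv_inv, Subgroup.mem_normalizer_iff_map_conj_eq]
      refine Subgroup.eq_of_le_of_card_ge ?_
        (Subgroup.card_map_of_injective (MulAut.conj ((h : G) * g⁻¹)).injective).ge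
      rintro _ ⟨a, ha, rfl⟩
      show (h : G) * g⁻¹ * a * ((h : G) * g⁻¹)⁻¹ ∈ A
      have h1 : h * ⟨g⁻¹ * a * g⁻¹⁻¹, hle ⟨a, ha, rfl⟩⟩ * h⁻¹ ∈ A0 :=
        hh ▸ Subgroup.mem_map_of_mem (MulAut.conj h).toMonoidHom (K := A'.subgroupOf (Subgroup.centralizer ({d} : Set G)))
          (x := ⟨g⁻¹ * a * g⁻¹⁻¹, hle ⟨a, ha, rfl⟩⟩) (Subgroup.mem_subgroupOf.2 ⟨a, ha, rfl⟩)
      rw [hA]
      exact ⟨_, h1, by simp [mul_assoc]⟩
    · have hdh : (h : G)⁻¹ * d * (h : G) = d := by
        rw [mul_assoc, ← Subgroup.mem_centralizer_singleton_iff.1 h.2, inv_mul_cancel_left]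
      calc g * (h : G)⁻¹ * d * (g * (h : G)⁻¹)⁻¹ = g * ((h : G)⁻¹ * d * h) * g⁻¹ := by group
        _ = x := by rw [hdh, hg]
  have htrans : ∀ x ∈ A, ∀ y ∈ A, IsConj d x → IsConj d y →
      ∃ n ∈ Subgroup.normalizer (A : Set G), n * x * n⁻¹ = y := by
    intro x hx y hy hdx hdy
    obtain ⟨n, hn, rfl⟩ := htr1 x hx hdx
    obtain ⟨m, hm, rfl⟩ := htr1 y hy hdy
    exact ⟨m * n⁻¹, mul_mem hm (inv_mem hn), by group⟩
  refine ⟨⟨⟨⟨fun a b => Subtype.ext (hcomm a a.2 b b.2).eq⟩⟩, fun a ha => by rw [sq]; exact hsq a ha⟩,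
    hAc, ?_, htrans⟩
  -- the number of conjugates
  set O : Set G := {x : G | x ∈ A ∧ IsConj d x} with hO
  have hOc : O.ncard = {c : (Subgroup.centralizer ({d} : Set G)) | c ∈ A0 ∧ IsConj d (c : G)}.ncard := by
    rw [← Set.ncard_image_of_injective {c : (Subgroup.centralizer ({d} : Set G)) | c ∈ A0 ∧ IsConj d (c : G)} (Subgroup.subtype_injective (Subgroup.centralizer ({d} : Set G)))]
    congr 1
    ext x
    constructor
    · rintro ⟨hx, hdx⟩
      obtain ⟨c, hc, rfl⟩ := hmemA hx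
      exact ⟨c, ⟨hc, hdx⟩, rfl⟩
    · rintro ⟨c, ⟨hc, hdx⟩, rfl⟩
      exact ⟨by rw [hA]; exact ⟨c, hc, rfl⟩, hdx⟩
  obtain ⟨a, b, ha, hb, hcount, hclosed⟩ := Cfsg.Agent.ThreeTrans.UModel.orbit_count hS hperf hX f
    (fun c => IsConj d (c : G)) (fun h c hc => hc.trans (isConj_iff.2 ⟨h, by simp⟩)) (IsConj.refl d)
    (fun u hu => hnsq (by
      obtain ⟨g, hg⟩ := isConj_iff.1 hu
      refine ⟨g⁻¹ * u * g, ?_⟩
      rw [sq, show g⁻¹ * (u : G) * g * (g⁻¹ * u * g) = g⁻¹ * ((u * u : (Subgroup.centralizer ({d} : Set G))) : G) * g by simp [mul_assoc],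
        ← hg]
      group))
  -- another conjugate
  have h1 : 1 < O.ncard := by
    obtain ⟨g, hgC, hgd⟩ := hnwc
    set c : (Subgroup.centralizer ({d} : Set G)) := ⟨g * d * g⁻¹, hgC⟩
    have hcc : c * c = 1 := Subtype.ext (by
      show g * d * g⁻¹ * (g * d * g⁻¹) = 1
      rw [show g * d * g⁻¹ * (g * d * g⁻¹) = g * (d * d) * g⁻¹ by group, hd2]; group)
    obtain ⟨h, hh⟩ := Cfsg.Agent.ThreeTrans.UModel.exists_conj_mem hS f (c := c)
      (by rw [← map_mul, hcc, map_one])
    rw [Set.one_lt_ncard_iff]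
    refine ⟨d, ((h * c * h⁻¹ : (Subgroup.centralizer ({d} : Set G))) : G), ⟨hdA, IsConj.refl d⟩, ⟨by rw [hA]; exact ⟨_, hh, rfl⟩, ?_⟩, ?_⟩
    · exact isConj_iff.2 ⟨(h : G) * g, by simp [c, mul_assoc]⟩
    · intro hE
      refine hgd ?_
      have hdh : (h : G)⁻¹ * d * (h : G) = d := by
        rw [mul_assoc, ← Subgroup.mem_centralizer_singleton_iff.1 h.2, inv_mul_cancel_left]
      calc g * d * g⁻¹ = (h : G)⁻¹ * ((h * c * h⁻¹ : (Subgroup.centralizer ({d} : Set G))) : G) * h := by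
            simp [c, mul_assoc]
        _ = (h : G)⁻¹ * d * h := congrArg (fun y => (h : G)⁻¹ * y * h) hE.symm
        _ = d := hdh
  -- the orbit
  set M := (Subgroup.normalizerMonoidHom A).range with hM
  have horb : O.ncard ∣ Nat.card M := by
    let d' : A := ⟨d, hdA⟩
    have e : Nat.card (MulAction.orbit M d') = O.ncard := by
      rw [Nat.card_coe_set_eq, ← Set.ncard_image_of_injective _ A.subtype_injective]
      congr 1
      ext x
      constructor
      · rintro ⟨_, ⟨⟨_, n, rfl⟩, rfl⟩, rfl⟩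
        exact ⟨((Subgroup.normalizerMonoidHom A n) d').2, isConj_iff.2 ⟨(n : G), rfl⟩⟩
      · rintro ⟨hx, hdx⟩
        obtain ⟨n, hn, hnx⟩ := htr1 x hx hdx
        exact ⟨⟨x, hx⟩, ⟨⟨_, ⟨⟨n, hn⟩, rfl⟩⟩, Subtype.ext hnx⟩, rfl⟩
    rw [← e, Nat.card_congr (MulAction.orbitEquivQuotientStabilizer M d')]
    exact Subgroup.card_quotient_dvd_card _
  have hdiv : ∀ p, p.Prime → p ∣ O.ncard → ∃ k < 10, p ∣ 1024 - 2 ^ k := fun p hp hd' =>
    prime_of_aut hAc M hp (hd'.trans horb)
  rcases count_cases ha hb (hOc.trans hcount) h1 hdiv with h | ⟨ha0, hb2, h561⟩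
  · exact h
  exfalso
  have hcl1 : ∀ y ∈ O, y ≠ d → y * d ∈ O := by
    rintro y ⟨hy, hdy⟩ hne
    obtain ⟨c, hc, rfl⟩ := hmemA hy
    have := hclosed ha0 hb2 c hc hdy fun h => hne (congrArg Subtype.val h)
    exact ⟨mul_mem hy hdA, this⟩
  have hmove : ∀ n ∈ Subgroup.normalizer (A : Set G), ∀ y ∈ O, n * y * n⁻¹ ∈ O := fun n hn y hy =>
    ⟨(Subgroup.mem_normalizer_iff.1 hn y).1 hy.1, hy.2.trans (isConj_iff.2 ⟨n, rfl⟩)⟩
  have hcl : ∀ x ∈ O, ∀ y ∈ O, x ≠ y → x * y ∈ O := by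
    intro x hx y hy hne
    obtain ⟨n, hn, rfl⟩ := htr1 x hx.1 hx.2
    have h' := hmove _ (inv_mem hn) y hy
    have := hmove n hn _ (hcl1 _ h' fun h => hne (by
      rw [← h]; group))
    rw [(hcomm _ hx.1 _ hy.1).eq]
    rwa [show n * (n⁻¹ * y * n⁻¹⁻¹ * d) * n⁻¹ = y * (n * d * n⁻¹) by group] at this
  have h1O : (1 : G) ∉ O := fun h => hd1 (by
    obtain ⟨g, hg⟩ := isConj_iff.1 h.2
    rw [mul_inv_eq_iff_eq_mul, one_mul] at hg
    exact mul_left_cancel (a := g) (by rw [hg, mul_one]))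
  let H : Subgroup G :=
    { carrier := insert 1 O
      one_mem' := Set.mem_insert _ _
      mul_mem' := fun {x y} hx hy => by
        rcases hx with rfl | hx
        · simpa using hy
        rcases hy with rfl | hy
        · simpa using Or.inr hx
        by_cases hne : x = y
        · subst hne; exact Or.inl (hsq x hx.1)
        · exact Or.inr (hcl x hx y hy hne)
      inv_mem' := fun {x} hx => by
        rcases hx with rfl | hx
        · simp
        · rw [inv_eq_of_mul_eq_one_left (hsq x hx.1)]; exact Or.inr hx }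
  have hHc : Nat.card H = 562 := by
    show Nat.card (insert 1 O : Set G) = 562
    rw [Nat.card_coe_set_eq, Set.ncard_insert_of_notMem h1O (Set.toFinite _), h561]
  have hHA : H ≤ A := by
    rintro x (rfl | hx)
    exacts [one_mem _, hx.1]
  have := Subgroup.card_dvd_of_le hHA
  rw [hHc, hAc] at this
  norm_num at this

end Cfsg.Agent.S5454
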