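import Cfsg.Statements.S2054
import Cfsg.Agent.Fi23Mult.Card
import Cfsg.Agent.ProjExt.Stem

set_option autoImplicit false
open Cfsg

set_option maxRecDepth 100000

namespace Cfsg.Agent.S2054

open Cfsg.Agent.Fi23Mult Cfsg.Agent.CosetCert
open scoped commutatorElement
open Cfsg.Spor (Fi23)
open Cfsg.Agent.Fi23Centralizer (rels23)

theorem ker_eq_bot (Γ : Type) [Group Γ] (σ : Γ →* Fi23) (hσ : Cfsg.IsStemExtension σ) :
    σ.ker = ⊥ := by
  obtain ⟨hs, ho, hk⟩ := hσ
  obtain ⟨L, hsigma, hrel, hA⟩ := exists_lift hs ho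
  have hS := spider σ ho L hsigma hrel hA
  have hp : ∀ w : List Spor.Fi23.Gen,
      FreeGroup.lift L (FreeGroup.mk (sgn w)) = (w.map L).prod :=
    fun w => (mk_sgn (FreeGroup.lift L) w).trans (by simp)
  have hr : ∀ r ∈ rels23, FreeGroup.lift L r = 1 := by
    rintro r (⟨x, -, y, -, rfl⟩ | hr)
    · rw [map_pow, map_mul, FreeGroup.lift_apply_of, FreeGroup.lift_apply_of]
      exact hrel x y
    · have he : Spor.Fi23.extra = [FreeGroup.mk (sgn SW), FreeGroup.mk (sgn AW)] := by
        decide +kernel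
      simp only [Set.mem_ofPred_eq, he, List.mem_cons, List.not_mem_nil, or_false] at hr
      rcases hr with rfl | rfl
      · rw [hp, hS]
      · rw [hp, hA]
  let ψ : Fi23 →* Γ := PresentedGroup.toGroup hr
  have hψ : ∀ g, σ (ψ g) = g := by
    have : σ.comp ψ = MonoidHom.id Fi23 := PresentedGroup.ext fun x => by
      simp [ψ, PresentedGroup.toGroup.of, hsigma]
    exact fun g => DFunLike.congr_fun this g
  have hcom : commutator Γ ≤ ψ.range := by
    rw [commutator_eq_closure, Subgroup.closure_le]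
    rintro _ ⟨x, y, rfl⟩
    have hd : ∀ x : Γ, x * (ψ (σ x))⁻¹ ∈ Subgroup.center Γ := fun x => ho (by
      rw [MonoidHom.mem_ker, map_mul, map_inv, hψ, mul_inv_cancel])
    refine ⟨⁅σ x, σ y⁆, ?_⟩
    rw [map_commutatorElement]
    have hc : ∀ c ∈ Subgroup.center Γ, ∀ g h : Γ, ⁅c * g, h⁆ = ⁅g, h⁆ := fun c hc g h => by
      simp only [commutatorElement_def, mul_inv_rev]
      symm
      calc g * h * g⁻¹ * h⁻¹ = (g * h * g⁻¹) * (c * c⁻¹) * h⁻¹ := by simp
        _ = c * g * h * (g⁻¹ * c⁻¹) * h⁻¹ := by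
          rw [← mul_assoc (g * h * g⁻¹) c, ← central hc (g * h * g⁻¹)]
          simp only [mul_assoc]
    have hx : x = x * (ψ (σ x))⁻¹ * ψ (σ x) := by simp
    have hy : y = y * (ψ (σ y))⁻¹ * ψ (σ y) := by simp
    conv_rhs => rw [hx, hy, hc _ (hd x), ← commutatorElement_inv, hc _ (hd y),
      commutatorElement_inv]
  rw [eq_bot_iff]
  intro x hx
  obtain ⟨g, rfl⟩ := hcom (hk hx)
  rw [MonoidHom.mem_ker, hψ] at hx
  rw [hx, map_one]
  exact Subgroup.mem_bot.2 rfl

/-- The Schur multiplier of the Fischer group Fi₂₃ (the finitely presented group of the definitions) is trivial; here the Schur multiplier is described through stem extensions, as in the definitions: surjective homomorphisms onto the group from a finite group, whose kernel is central in that finite group and contained in that finite group's commutator subgroup. -/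
theorem result : Cfsg.HasCyclicSchurMultiplier Cfsg.Spor.Fi23 1 := by
  have : Finite Cfsg.Spor.Fi23 := Fi23Order.card_bound.1
  exact Cfsg.Agent.ProjExt.Stem.hasCyclicSchurMultiplier_one
    fun Γ _ _ σ hσ => ker_eq_bot Γ σ hσ

end Cfsg.Agent.S2054
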