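import Cfsg.Statements.S3232
import Cfsg.Agent.Fi22Two.Main
import Cfsg.Agent.Fi22Two.Glue

set_option autoImplicit false
open Cfsg

namespace Cfsg.Agent.S3232

/-- Let G be a finite group with an involution z, H = C_G(z), such that J = O₂(H) is an (internal) direct product of a group of order 2 and an extraspecial group of order 2⁹, with derived subgroup J′ = ⟨z⟩, C_H(J) ≤ J and H/J ≅ Aut(PSp₄(3)). Then G = H·O(G); or some involution z₁ ∈ Z(J) outside ⟨z⟩ generates a normal subgroup of G and G has a subgroup G₀ of index 2 containing z₁ with G₀/⟨z₁⟩ ≅ U₆(2); or G is isomorphic to the Fischer group Fi₂₂. -/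
theorem result {G : Type*} [Group G] [Finite G] (z : G) (hz : orderOf z = 2)
    {F : Type*} [Field F] [Fintype F] (hF : Fintype.card F = 3) {K : Type*} [Field K] [Fintype K] (hK : Fintype.card K = 4)
    (A E : Subgroup ↥(Subgroup.centralizer ({z} : Set G))) (hAE : Cfsg.IsInternalDirectProduct A E (Cfsg.pCore 2 ↥(Subgroup.centralizer ({z} : Set G)))) (hA : Nat.card ↥A = 2)
    (hE : Cfsg.IsExtraspecial 2 ↥E) (hEc : Nat.card ↥E = 2 ^ 9)
    (zc : ↥(Subgroup.centralizer ({z} : Set G))) (hzc : (zc : G) = z) (hJ' : ⁅(Cfsg.pCore 2 ↥(Subgroup.centralizer ({z} : Set G))), (Cfsg.pCore 2 ↥(Subgroup.centralizer ({z} : Set G)))⁆ = Subgroup.zpowers zc)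
    (hCJ : Subgroup.centralizer ((Cfsg.pCore 2 ↥(Subgroup.centralizer ({z} : Set G))) : Set ↥(Subgroup.centralizer ({z} : Set G))) ≤ Cfsg.pCore 2 ↥(Subgroup.centralizer ({z} : Set G))) [hJn : (Cfsg.pCore 2 ↥(Subgroup.centralizer ({z} : Set G))).Normal]
    (e : (↥(Subgroup.centralizer ({z} : Set G)) ⧸ Cfsg.pCore 2 ↥(Subgroup.centralizer ({z} : Set G))) ≃* MulAut (Cfsg.PSp 2 F)) :
    Subgroup.centralizer ({z} : Set G) ⊔ Cfsg.oddCore G = ⊤ ∨
      (∃ z₁ : G, orderOf z₁ = 2 ∧ z₁ ∉ Subgroup.zpowers z ∧ (∃ h₁ : z₁ ∈ Subgroup.centralizer ({z} : Set G), (⟨z₁, h₁⟩ : ↥(Subgroup.centralizer ({z} : Set G))) ∈ Cfsg.pCore 2 ↥(Subgroup.centralizer ({z} : Set G)) ∧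
          ∀ j ∈ Cfsg.pCore 2 ↥(Subgroup.centralizer ({z} : Set G)), j * ⟨z₁, h₁⟩ = ⟨z₁, h₁⟩ * j) ∧ (Subgroup.zpowers z₁).Normal ∧
        ∃ (G₀ : Subgroup G) (hz₁ : z₁ ∈ G₀), G₀.index = 2 ∧
          ∃ hn : ((Subgroup.zpowers z₁).subgroupOf G₀).Normal,
            Nonempty ((↥G₀ ⧸ (Subgroup.zpowers z₁).subgroupOf G₀) ≃* Cfsg.PSU 6 K 2)) ∨
      Cfsg.Spor.IsoFi22 G := by
  obtain ⟨f⟩ := Cfsg.Agent.U62Rec.Sp43.psp_three_equiv hF
  obtain ⟨a, h, hE₀⟩ := Cfsg.Agent.Fi22Two.exists_hyp z hz A E hAE hA hE hEc zc hzc hJ' hCJ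
    ⟨e.trans (MulAut.congr f.symm)⟩
  rcases Cfsg.Agent.Fi22Two.main h hE₀ hK with hd | ⟨u, hu, hn, G₀, hmem, hidx, hq⟩ | hFi
  · exact Or.inl hd
  · refine Or.inr (Or.inl ⟨u, ?_, ?_, ?_, hn, G₀, hmem, hidx, hq⟩)
    · rcases hu with rfl | rfl
      exacts [h.orda, h.other.orda]
    · intro hu'
      rw [Cfsg.Agent.Fi22Two.mem_zpowers_two h.zz] at hu'
      have ho : orderOf u = 2 ∧ u ≠ z := by
        rcases hu with rfl | rfl
        exacts [⟨h.orda, h.ne⟩, ⟨h.other.orda, h.other.ne⟩]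
      rcases hu' with e1 | e1
      · rw [e1, orderOf_one] at ho; exact absurd ho.1 (by omega)
      · exact ho.2 e1
    · obtain ⟨hum, hucen⟩ : u ∈ Cfsg.Agent.LargeExtra.oc z ∧
          ∀ j ∈ Cfsg.Agent.LargeExtra.oc z, Commute u j := by
        rcases hu with rfl | rfl
        exacts [⟨h.a_mem, (h.centre _ h.a_mem).2 (Or.inr (Or.inr (Or.inl rfl)))⟩,
          ⟨h.other.a_mem, (h.centre _ h.other.a_mem).2 (Or.inr (Or.inr (Or.inr rfl)))⟩]
      obtain ⟨y, hy, hye⟩ := hum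
      refine ⟨hye ▸ y.2, ?_, fun j hj => Subtype.ext (hucen _ ⟨j, hj, rfl⟩).eq.symm⟩
      have he : (⟨u, hye ▸ y.2⟩ : ↥(Subgroup.centralizer ({z} : Set G))) = y := Subtype.ext hye.symm
      rw [he]; exact hy
  · exact Or.inr (Or.inr hFi)

end Cfsg.Agent.S3232
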