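import Cfsg.Statements.S5450
import Cfsg.Agent.S3232
import Cfsg.Agent.Fi22Aut.Result
import Cfsg.Agent.ThreeTrans.SU32

set_option autoImplicit false
open Cfsg

namespace Cfsg.Agent.S5450

universe v

theorem recognition : Fi22Aut.Recognition.{v} := by
  intro P _ _ z hz A E hAE hA hE hEc zc hzc hJ hC ⟨e⟩
  rcases S3232.result z hz (F := ZMod 3) (ZMod.card 3) (K := ThreeTrans.SU32.F4) ThreeTrans.SU32.F4.card_eq
    A E hAE hA hE hEc zc hzc hJ hC e with h | ⟨z₁, h1, h2, h3, h4, -⟩ | h
  · exact Or.inl h
  · exact Or.inr (Or.inl ⟨z₁, h1, h2, h3, h4⟩)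
  · exact Or.inr (Or.inr h)

/-- Let G be a finite group of large Fischer type at the involution z: the generalized Fitting subgroup Q of H = C_G(z) is extraspecial of order 2^13, H has normal subgroups Q ≤ H₁ ≤ H₂ with H₁/Q of order 3, H₂/H₁ the projective special unitary group of dimension 4 over the field with nine elements and H₂ of index 2 in H, and some conjugate of z other than z lies in Q. Let t be an involution of Q not conjugate to z in G, and K the generalized Fitting subgroup of the centralizer of t. Then K is quasisimple of index 2 in the centralizer of t, contains t, and the centralizer of t modulo the subgroup generated by t is isomorphic to the full automorphism group of the Fischer group Fi₂₂ (as presented). -/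
theorem result {G : Type*} [Group G] [Finite G] (z : G) (Q : Subgroup (Subgroup.centralizer ({z} : Set G))) [Q.Normal] (hF : Cfsg.IsOfLargeFischerTypeAt z Q) (t : G) (htQ : ∃ htc : t ∈ Subgroup.centralizer ({z} : Set G), (⟨t, htc⟩ : Subgroup.centralizer ({z} : Set G)) ∈ Q) (ht2 : orderOf t = 2) (ht : ¬ IsConj z t) (K : Subgroup ↥(Subgroup.centralizer ({t} : Set G))) (hK : K = Cfsg.generalizedFittingSubgroup ↥(Subgroup.centralizer ({t} : Set G))) [hn : ((Subgroup.zpowers t).subgroupOf (Subgroup.centralizer ({t} : Set G))).Normal] : Cfsg.IsQuasisimple ↥K ∧ K.index = 2 ∧ (∃ htc : t ∈ Subgroup.centralizer ({t} : Set G), (⟨t, htc⟩ : ↥(Subgroup.centralizer ({t} : Set G))) ∈ K) ∧ Nonempty (↥(Subgroup.centralizer ({t} : Set G)) ⧸ (Subgroup.zpowers t).subgroupOf (Subgroup.centralizer ({t} : Set G)) ≃* MulAut Cfsg.Spor.Fi22) := by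
  exact Fi22Aut.centralizer_of_class recognition hF t htQ ht2 ht K hK

end Cfsg.Agent.S5450
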