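import Cfsg.Statements.S0436
import Cfsg.Agent.ThreeTrans.Basic

set_option autoImplicit false
open Cfsg

namespace Cfsg.Agent.S0436

/-- For distinct commuting members a, b of a set of 3-transpositions E, a member e of E centralises the product a * b if and only if it centralises both a and b. -/
theorem result {G : Type*} [Group G] {E : Set G} (hE : Cfsg.IsThreeTranspositionSet E) {a b e : G} (ha : a ∈ E) (hb : b ∈ E) (he : e ∈ E) (hab : a ≠ b) (hcomm : Commute a b) : Commute e (a * b) ↔ (Commute e a ∧ Commute e b) := by
  constructor
  · intro h
    have h' : (a * b) * e * (a * b) = e := by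
      rw [← h.eq, mul_assoc, ← sq, (ThreeTrans.sq_eq_one_iff hE ha hb).2 hcomm, mul_one]
    by_cases hea : Commute e a
    · refine ⟨hea, ?_⟩
      have h2 := (hea.inv_right).mul_right h
      rwa [inv_mul_cancel_left] at h2
    by_cases heb : Commute e b
    · exfalso
      refine hea ?_
      have h2 := h.mul_right heb.inv_right
      rwa [mul_inv_cancel_right] at h2
    exfalso
    apply hab
    have h2 : b * e * b = a * e * a := by
      conv_rhs => rw [← h']
      simp only [mul_assoc, ThreeTrans.mul_self_mul hE ha, hcomm.symm.eq]
    rw [ThreeTrans.braid hE hb he fun h => heb h.symm,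
      ThreeTrans.braid hE ha he fun h => hea h.symm] at h2
    exact (mul_left_cancel (mul_right_cancel h2)).symm
  · exact fun h => h.1.mul_right h.2

end Cfsg.Agent.S0436
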