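import Cfsg.Statements.S5349
import Cfsg.Agent.ThreeTrans.Relations

set_option autoImplicit false
open Cfsg

namespace Cfsg.Agent.S5349

/-- Let D be a conjugacy class of 3-transpositions generating the finite group G, with at least two members, and d a member of D. Then the set of members of D commuting with exactly the same members of D as d coincides with the set of members of D lying in the coset of d modulo the largest normal 2-subgroup of G, and also with the orbit of d under conjugation by that normal 2-subgroup. -/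
theorem result {G : Type*} [Group G] [Finite G] {D : Set G} (hD : Cfsg.IsThreeTranspositionClass D) (hD2 : ∃ a ∈ D, ∃ b ∈ D, a ≠ b) {d : G} (hd : d ∈ D) : {v : G | v ∈ D ∧ ∀ e ∈ D, Commute v e ↔ Commute d e} = {v : G | v ∈ D ∧ d⁻¹ * v ∈ Cfsg.pCore 2 G} ∧ {v : G | v ∈ D ∧ ∀ e ∈ D, Commute v e ↔ Commute d e} = {v : G | ∃ g ∈ Cfsg.pCore 2 G, v = g * d * g⁻¹} := by
  classical
  have hG := ThreeTrans.class_toGroup hD
  have hTS := hD.1
  have hc := hG.2.1
  have hset : {v : G | v ∈ D ∧ ∀ e ∈ D, Commute v e ↔ Commute d e} =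
      {v : G | v ∈ D ∧ d⁻¹ * v ∈ Cfsg.pCore 2 G} := by
    apply Set.ext
    intro v
    constructor
    · rintro ⟨hv, h⟩
      exact ⟨hv, (ThreeTrans.tau_iff hG hd hv).1 fun e he => (h e he).symm⟩
    · rintro ⟨hv, h⟩
      exact ⟨hv, fun e he => ((ThreeTrans.tau_iff hG hd hv).2 h e he).symm⟩
  refine ⟨hset, ?_⟩
  rw [hset]
  apply Set.ext
  intro v
  constructor
  · rintro ⟨hv, hmem⟩
    have hτ := (ThreeTrans.tau_iff hG hd hv).2 hmem
    rcases eq_or_ne v d with rfl | hne
    · exact ⟨1, one_mem _, by group⟩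
    obtain ⟨e, he, hde⟩ := ThreeTrans.exists_not_commute hD hD2 hd
    have hve : ¬ Commute v e := fun h => hde ((hτ e he).2 h)
    -- the image of `e` under the pair
    set e' := v * d * e * (v * d)⁻¹ with he'
    have hτ' := ThreeTrans.tau_move hTS hc hv hd he (ThreeTrans.tau_symm hτ)
    have he'D : e' ∈ D := hc _ e he
    refine ⟨e * e', ?_, ?_⟩
    · exact ThreeTrans.tau_mem_pCore hTS hc he he'D (ThreeTrans.tau_symm hτ')
    · have hi := fun x hx => ThreeTrans.inv_eq hTS (d := x) hx
      have hdv : Commute d v := ThreeTrans.commute_of_tau hd hτ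
      have hvd : (v * d) * d * (v * d)⁻¹ = d := by
        rw [mul_inv_rev, hi v hv, hi d hd]
        simp only [mul_assoc, ThreeTrans.mul_self_mul hTS hd]
        rw [hdv.eq, ThreeTrans.mul_self_mul hTS hv]
      -- conjugation by `e'` sends `d` to `v e v`
      have h1 : e' * d * e' = (v * d) * (e * d * e) * (v * d)⁻¹ := by
        calc e' * d * e' = e' * ((v * d) * d * (v * d)⁻¹) * e' := by rw [hvd]
          _ = _ := by rw [he']; group
      have h2 : e' * d * e' = e * v * e := by
        rw [h1, ← ThreeTrans.braid hTS hd he hde, mul_inv_rev, hi v hv, hi d hd,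
          ← ThreeTrans.braid hTS hv he hve]
        simp only [mul_assoc, ThreeTrans.mul_self_mul hTS hd]
      have h3 : e * e' * d * (e * e')⁻¹ = e * (e' * d * e') * e := by
        rw [mul_inv_rev, hi e' he'D, hi e he]
        simp only [mul_assoc]
      rw [h3, h2]
      simp only [mul_assoc, ThreeTrans.mul_self_mul hTS he, ThreeTrans.mul_self hTS he, mul_one]
  · rintro ⟨g, hg, rfl⟩
    refine ⟨hc g d hd, ?_⟩
    have := (Core.pCore_normal (p := 2) (G := G)).conj_mem g hg d⁻¹
    rw [inv_inv] at this
    have h2 := mul_mem this (inv_mem hg)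
    rwa [← mul_assoc, ← mul_assoc]

end Cfsg.Agent.S5349
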