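import Cfsg.Statements.S5350
import Cfsg.Agent.ThreeTrans.Relations

set_option autoImplicit false
open Cfsg

namespace Cfsg.Agent.S5350

/-- Let D be a conjugacy class of 3-transpositions generating the finite group G, with at least two members, and d a member of D. Then the set of members w of D whose commuting partners in D (other than w) are exactly those of d (other than d) coincides with the set of members of D lying in the coset of d modulo the largest normal 3-subgroup of G, and also with the orbit of d under conjugation by that normal 3-subgroup. -/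
theorem result {G : Type*} [Group G] [Finite G] {D : Set G} (hD : Cfsg.IsThreeTranspositionClass D) (hD2 : ∃ a ∈ D, ∃ b ∈ D, a ≠ b) {d : G} (hd : d ∈ D) : {w : G | w ∈ D ∧ {y : G | y ∈ D ∧ y ≠ d ∧ Commute d y} = {y : G | y ∈ D ∧ y ≠ w ∧ Commute w y}} = {w : G | w ∈ D ∧ d⁻¹ * w ∈ Cfsg.pCore 3 G} ∧ {w : G | w ∈ D ∧ {y : G | y ∈ D ∧ y ≠ d ∧ Commute d y} = {y : G | y ∈ D ∧ y ≠ w ∧ Commute w y}} = {w : G | ∃ g ∈ Cfsg.pCore 3 G, w = g * d * g⁻¹} := by
  have hG := ThreeTrans.class_toGroup hD
  have hTS := hD.1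
  have hc := hG.2.1
  rw [ThreeTrans.theta_eq_setOf]
  have hset : {w : G | w ∈ D ∧ ThreeTrans.Theta D d w} =
      {w : G | w ∈ D ∧ d⁻¹ * w ∈ Cfsg.pCore 3 G} := by
    apply Set.ext
    intro w
    exact ⟨fun h => ⟨h.1, (ThreeTrans.theta_iff hG hd h.1).1 h.2⟩,
      fun h => ⟨h.1, (ThreeTrans.theta_iff hG hd h.1).2 h.2⟩⟩
  refine ⟨hset, ?_⟩
  rw [hset]
  apply Set.ext
  intro w
  constructor
  · rintro ⟨hw, hmem⟩
    rcases eq_or_ne d w with rfl | hne
    · exact ⟨1, one_mem _, by group⟩
    have hnc := ThreeTrans.not_commute_of_theta hw ((ThreeTrans.theta_iff hG hd hw).2 hmem) hne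
    refine ⟨d * w, ?_, ?_⟩
    · rwa [ThreeTrans.inv_eq hTS hd] at hmem
    · rw [mul_inv_rev, ThreeTrans.inv_eq hTS hd, ThreeTrans.inv_eq hTS hw,
        show d * w * d * (w * d) = d * (w * d * w) * d by group,
        ← ThreeTrans.braid hTS hd hw hnc]
      simp only [mul_assoc, ThreeTrans.mul_self_mul hTS hd, ThreeTrans.mul_self hTS hd, mul_one]
  · rintro ⟨g, hg, rfl⟩
    refine ⟨hc g d hd, ?_⟩
    have := (Core.pCore_normal (p := 3) (G := G)).conj_mem g hg d⁻¹
    rw [inv_inv] at this
    have h2 := mul_mem this (inv_mem hg)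
    rwa [← mul_assoc, ← mul_assoc]

end Cfsg.Agent.S5350
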