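import Cfsg.Statements.S0440
import Cfsg.Agent.ThreeTrans.Param
import Cfsg.Agent.ThreeTrans.OrthTwo
import Cfsg.Agent.Classical.SympGroup

set_option autoImplicit false
open Cfsg

namespace Cfsg.Agent.S0440

/-- In the symplectic group in dimension 2n ≥ 2 over the field with two elements, the elements g for which g - 1 has rank one (the symplectic transvections) form a conjugacy class of 3-transpositions generating the group. -/
theorem result (n : ℕ) (hn : 1 ≤ n) : Cfsg.IsThreeTranspositionClass {g : Matrix.symplecticGroup (Fin n) (ZMod 2) | ((g : Matrix (Fin n ⊕ Fin n) (Fin n ⊕ Fin n) (ZMod 2)) - 1).rank = 1} := by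
  classical
  set e := Classical.spEquiv n (ZMod 2)
  set B := Classical.sympB n (ZMod 2)
  have hA : B.IsAlt := Classical.sympB_isAlt
  have hB : B.Nondegenerate := Classical.sympB_nondeg
  have := Classical.nontrivial_symp (F := ZMod 2) hn
  have z2 : ∀ a : ZMod 2, a = 0 ∨ a = 1 := ThreeTrans.OrthTwo.z2
  have hneg : ∀ x y, B x y = B y x := fun x y => by rw [Classical.Alt.neg' hA y x, ZModModule.neg_eq_self]
  let T := fun v : {v : Fin n ⊕ Fin n → ZMod 2 // v ≠ 0} =>
    (⟨_, Classical.sympTransvection_mem (F := ZMod 2) (v : Fin n ⊕ Fin n → ZMod 2) 1⟩ :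
      Matrix.symplecticGroup (Fin n) (ZMod 2))
  have hone : ∀ v, ThreeTrans.OneDir (fun x => (T v).1.mulVec x) (v : Fin n ⊕ Fin n → ZMod 2) (B v) :=
    fun v x => by
      show (T v).1.mulVec x = _
      rw [Classical.sympTransvection_mulVec, one_mul, hneg]
  have hval : ∀ v : {v : Fin n ⊕ Fin n → ZMod 2 // v ≠ 0}, B v v = -2 := fun v => by
    rw [hA v]; decide
  have hfun : ∀ v : Fin n ⊕ Fin n → ZMod 2, v ≠ 0 → ∃ y, B v y = 1 := fun v hv => by
    by_contra hc
    push Not at hc
    exact hv (hB.1 v fun y => (z2 _).resolve_right (hc y))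
  have hmul : ∀ (a b : Matrix.symplecticGroup (Fin n) (ZMod 2)) x,
      (a * b).1.mulVec x = a.1.mulVec (b.1.mulVec x) := fun a b x => by
    rw [Submonoid.coe_mul, Matrix.mulVec_mulVec]
  have ext : ∀ a b : Matrix.symplecticGroup (Fin n) (ZMod 2),
      (∀ x, a.1.mulVec x = b.1.mulVec x) → a = b := fun a b h => Subtype.ext (ThreeTrans.eq_of_mulVec h)
  have hD : ∀ g : Matrix.symplecticGroup (Fin n) (ZMod 2), (g.1 - 1).rank = 1 ↔ ∃ v, T v = g := by
    intro g
    constructor
    · intro hg
      obtain ⟨v, φ, hv, ⟨x, hx⟩, hgv⟩ := ThreeTrans.exists_oneDir_of_rank hg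
      have hiso : ∀ a b, φ a * B v b + φ b * B a v = 0 := by
        intro a b
        have h := (Classical.mem_symplectic_iff g.1).1 g.2 a b
        rw [hgv, hgv] at h
        simp only [map_add, map_smul, LinearMap.add_apply, LinearMap.smul_apply, smul_eq_mul, hA v,
          mul_zero, add_zero] at h
        have hvv : Classical.sympB n (ZMod 2) v v = 0 := hA v
        linear_combination h - φ a * φ b * hvv
      have h1 : B x v = 1 := by
        refine (z2 _).resolve_left fun hc => hv (hB.1 v fun b => ?_)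
        have h := hiso x b
        rwa [hx, hc, one_mul, mul_zero, add_zero] at h
      refine ⟨⟨v, hv⟩, ext _ _ fun y => ?_⟩
      rw [hgv y]
      refine (hone ⟨v, hv⟩ y).trans ?_
      have h := hiso x y
      rw [hx, one_mul, h1, mul_one] at h
      rw [eq_neg_of_add_eq_zero_left h, ZModModule.neg_eq_self]
    · rintro ⟨v, rfl⟩
      exact ThreeTrans.rank_of_oneDir v.2 (hfun v v.2) (hone v)
  obtain ⟨v₀, hv₀⟩ := exists_ne (0 : Fin n ⊕ Fin n → ZMod 2)
  refine ThreeTrans.class_of_param T (fun v w => B (v : Fin n ⊕ Fin n → ZMod 2) w = 1) ⟨⟨v₀, hv₀⟩⟩ hD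
    ?_ ?_ ?_ ?_ ?_ ?_ ?_
  · intro v h
    obtain ⟨y, hy⟩ := hfun v v.2
    have := hone v y
    simp only [h, OneMemClass.coe_one, Matrix.one_mulVec, hy, one_smul, left_eq_add] at this
    exact v.2 this
  · intro v
    refine ext _ _ fun x => ?_
    rw [hmul, OneMemClass.coe_one, Matrix.one_mulVec]
    exact (hone v).sq (hval v) x
  · intro v w h
    refine ext _ _ fun x => ?_
    rw [hmul, hmul]
    have h0 := (z2 _).resolve_right h
    exact (hone v).comm (hone w) h0 (by rw [hneg, h0]) x
  · intro v w h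
    refine ext _ _ fun x => ?_
    simp only [hmul]
    exact (hone v).braid (hone w) (hval v) (hval w) (by rw [hneg w, h, one_mul]) x
  · intro g v
    show ((g * T v * g⁻¹ : Matrix.symplecticGroup (Fin n) (ZMod 2)).1 - 1).rank = 1
    simp only [Submonoid.coe_mul]
    rw [ThreeTrans.rank_conj_sub_one (congrArg Subtype.val (mul_inv_cancel g))]
    exact (hD _).2 ⟨v, rfl⟩
  · intro v w h hne
    obtain ⟨u, -, h1, h2⟩ := Classical.Alt.exists_both (Classical.Alt.ndon_top hB)
      (u := (v : Fin n ⊕ Fin n → ZMod 2)) (w := (w : Fin n ⊕ Fin n → ZMod 2)) trivial trivial v.2 w.2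
    refine ⟨⟨u, fun h => h1 ?_⟩, (z2 _).resolve_left h1, (z2 _).resolve_left h2⟩
    rw [h, map_zero]
  · rw [eq_top_iff, ← Classical.closure_sympTransvection (m := n) (F := ZMod 2), Subgroup.closure_le]
    rintro A ⟨w, c, hA'⟩
    by_cases hw : w = 0
    · rw [show A = 1 from ext _ _ fun x => by
        rw [hA', Classical.sympTransvection_mulVec, hw, smul_zero, add_zero, OneMemClass.coe_one,
          Matrix.one_mulVec]]
      exact one_mem _
    rcases z2 c with rfl | rfl
    · rw [show A = 1 from ext _ _ fun x => by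
        rw [hA', Classical.sympTransvection_mulVec, zero_mul, zero_smul, add_zero, OneMemClass.coe_one,
          Matrix.one_mulVec]]
      exact one_mem _
    · exact Subgroup.subset_closure ((hD A).2 ⟨⟨w, hw⟩, Subtype.ext hA'.symm⟩)

end Cfsg.Agent.S0440
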