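import Cfsg.Statements.S1631
import Cfsg.Agent.ThreeTrans.Param
import Cfsg.Agent.Classical.UnitaryGroup

set_option autoImplicit false
open scoped MatrixGroups
open Cfsg

namespace Cfsg.Agent.S1631

/-- The unitary transvections of SU(n, 2), n ≥ 4, form a generating conjugacy class of 3-transpositions. -/
theorem result (F : Type) [Field F] [Fintype F] [DecidableEq F] (hF : Fintype.card F = 4) (n : ℕ) (hn : 4 ≤ n) : Cfsg.IsThreeTranspositionClass {g : ↥(Cfsg.SU n F 2) | (((g : Matrix.SpecialLinearGroup (Fin n) F) : Matrix (Fin n) (Fin n) F) - 1).rank = 1} := by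
  obtain ⟨σ, hσq, hσ, hq, -⟩ := Classical.exists_powHom (F := F) (q := 2) (by rw [hF]; rfl)
  set B := Classical.hermB n σ
  have hB : Classical.Herm.IsHerm B := Classical.hermB_isHerm hσ n
  set e := Classical.suEquiv (F := F) n hσq
  haveI : CharP F 2 := charP_of_card_eq_prime_pow (f := 2) (by rw [hF]; rfl)
  have h2 : (2 : F) = 0 := CharP.cast_eq_zero F 2
  have hfix : ∀ a : F, σ a = a → a = 0 ∨ a = 1 := by
    intro a ha
    rw [hσq, sq] at ha
    rcases eq_or_ne a 0 with h | h
    · exact Or.inl h
    · exact Or.inr ((mul_eq_right₀ h).1 ha)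
  have hnorm : ∀ a : F, a ≠ 0 → a * σ a = 1 := by
    intro a ha
    have := FiniteField.pow_card_sub_one_eq_one a ha
    rw [hF] at this
    rw [hσq, ← pow_succ']
    exact this
  have hone' : (1 : F) + σ 1 = 0 := by rw [map_one, one_add_one_eq_two, h2]
  let T := fun v : {v : Fin n → F // v ≠ 0 ∧ B v v = 0} =>
    e.symm ⟨Classical.Herm.tvU v.2.2 1, Classical.Herm.tvU_mem hB v.2.2 hone'⟩
  have hT : ∀ v x, (T v).1.1.mulVec x = x + B v x • (v : Fin n → F) := fun v x => by
    rw [← Classical.suEquiv_apply hσq, MulEquiv.apply_symm_apply]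
    show x + ((1 : F) * B v x) • (v : Fin n → F) = _
    rw [one_mul]
  have hone : ∀ v, ThreeTrans.OneDir (fun x => (T v).1.1.mulVec x) (v : Fin n → F) (B v) := hT
  have hval : ∀ v : {v : Fin n → F // v ≠ 0 ∧ B v v = 0}, B v v = -2 := fun v => by
    rw [v.2.2, h2, neg_zero]
  have hfun : ∀ v : Fin n → F, v ≠ 0 → ∃ y, B v y = 1 := fun v hv => Classical.Herm.exists_pairing hB hv
  have hmul : ∀ (a b : Cfsg.SU n F 2) x, (a * b).1.1.mulVec x = a.1.1.mulVec (b.1.1.mulVec x) :=
    fun a b x => by rw [Subgroup.coe_mul, Matrix.SpecialLinearGroup.coe_mul, Matrix.mulVec_mulVec]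
  have ext : ∀ a b : Cfsg.SU n F 2, (∀ x, a.1.1.mulVec x = b.1.1.mulVec x) → a = b :=
    fun a b h => Subtype.ext (Subtype.ext (ThreeTrans.eq_of_mulVec h))
  have hD : ∀ g : Cfsg.SU n F 2, (g.1.1 - 1).rank = 1 ↔ ∃ v, T v = g := by
    intro g
    constructor
    · intro hg
      obtain ⟨v, φ, hv, ⟨x₀, hx₀⟩, hgv⟩ := ThreeTrans.exists_oneDir_of_rank hg
      have happ : ∀ x, (e g).1 x = x + φ x • v := fun x => by rw [Classical.suEquiv_apply]; exact hgv x
      have hiso : ∀ a b, φ b * B a v + σ (φ a) * B v b + σ (φ a) * φ b * B v v = 0 := by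
        intro a b
        have h : B ((e g).1 a) ((e g).1 b) = B a b := (e g).2.1 a b
        rw [happ, happ] at h
        simp only [map_add, map_smulₛₗ, LinearMap.add_apply, LinearMap.smul_apply, smul_eq_mul,
          RingHom.id_apply] at h
        linear_combination h
      have hφ : ∃ c, ∀ y, φ y = c * B v y := by
        have hker : ∀ y, φ y = 0 → B v y = 0 := by
          intro y hy
          have h := hiso x₀ y
          rw [hy, zero_mul, hx₀, map_one, one_mul, zero_add, mul_zero, zero_mul, add_zero] at h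
          exact h
        obtain ⟨y₀, hy₀⟩ := hfun v hv
        refine ⟨φ y₀, fun y => ?_⟩
        have h := hker (y - φ y • x₀) (by rw [map_sub, map_smul, hx₀, smul_eq_mul, mul_one, sub_self])
        have h' := hker (y₀ - φ y₀ • x₀) (by rw [map_sub, map_smul, hx₀, smul_eq_mul, mul_one, sub_self])
        rw [map_sub, map_smul, sub_eq_zero, smul_eq_mul] at h h'
        rw [hy₀] at h'
        calc φ y = φ y * (φ y₀ * B v x₀) := by rw [← h', mul_one]
          _ = φ y₀ * B v y := by rw [h]; ring
      obtain ⟨c, hc⟩ := hφ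
      have hc0 : c ≠ 0 := fun h0 => by rw [hc, h0, zero_mul] at hx₀; exact zero_ne_one hx₀
      let r : Fin n → F := fun j => B v (Pi.single j 1)
      have hr : ∀ x, r ⬝ᵥ x = B v x := fun x => by
        conv_rhs => rw [← Finset.univ_sum_single x, map_sum]
        refine Finset.sum_congr rfl fun j _ => ?_
        show B v (Pi.single j 1) * x j = B v (Pi.single j (x j))
        rw [show (Pi.single j (x j) : Fin n → F) = x j • Pi.single j 1 by
          rw [← Pi.single_smul, smul_eq_mul, mul_one], map_smul, smul_eq_mul, mul_comm]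
      have hmat : g.1.1 = 1 + Matrix.replicateCol Unit (c • v) * Matrix.replicateRow Unit r := by
        refine ThreeTrans.eq_of_mulVec fun x => ?_
        rw [hgv x, hc, Matrix.add_mulVec, Matrix.one_mulVec, ← Matrix.vecMulVec_eq,
          Matrix.vecMulVec_mulVec, op_smul_eq_smul, hr, smul_smul, mul_comm c]
      have hv0 : B v v = 0 := by
        have hdet := g.1.2
        rw [hmat, Matrix.det_one_add_replicateCol_mul_replicateRow, add_eq_left, dotProduct_smul, hr,
          smul_eq_mul] at hdet
        exact (mul_eq_zero.1 hdet).resolve_left hc0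
      have hcc : c + σ c = 0 := by
        refine (Classical.isometry_transvection_iff hσ hv hv0 c).1 fun x y => ?_
        rw [← hc, ← hc, ← happ, ← happ]
        exact (e g).2.1 x y
      have hc1 : c = 1 := by
        refine (hfix c ?_).resolve_left hc0
        rw [eq_neg_of_add_eq_zero_right hcc, CharTwo.neg_eq]
      refine ⟨⟨v, hv, hv0⟩, ext _ _ fun x => ?_⟩
      rw [hT, hgv x, hc, hc1, one_mul]
    · rintro ⟨v, rfl⟩
      exact ThreeTrans.rank_of_oneDir v.2.1 (hfun v v.2.1) (hone v)
  refine ThreeTrans.class_of_param T (fun v w => B (v : Fin n → F) w ≠ 0) ?_ hD ?_ ?_ ?_ ?_ ?_ ?_ ?_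
  · obtain ⟨v, hv, hv0⟩ := Classical.Herm.exists_isotropic hB
      (by rw [Module.finrank_fin_fun]; omega : 2 ≤ Module.finrank F (Fin n → F))
    exact ⟨⟨v, hv, hv0⟩⟩
  · intro v h
    obtain ⟨y, hy⟩ := hfun v v.2.1
    have := hT v y
    rw [h, OneMemClass.coe_one, Matrix.SpecialLinearGroup.coe_one, Matrix.one_mulVec, hy, one_smul,
      left_eq_add] at this
    exact v.2.1 this
  · intro v
    refine ext _ _ fun x => ?_
    rw [hmul, OneMemClass.coe_one, Matrix.SpecialLinearGroup.coe_one, Matrix.one_mulVec]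
    exact (hone v).sq (hval v) x
  · intro v w h
    refine ext _ _ fun x => ?_
    rw [hmul, hmul]
    have h0 := not_not.1 h
    exact (hone v).comm (hone w) h0 (by rw [← hB.symm, h0, map_zero]) x
  · intro v w h
    refine ext _ _ fun x => ?_
    simp only [hmul]
    exact (hone v).braid (hone w) (hval v) (hval w)
      (by rw [← hB.symm (v : Fin n → F) w, hnorm _ h]) x
  · intro g v
    show ((g * T v * g⁻¹ : Cfsg.SU n F 2).1.1 - 1).rank = 1
    simp only [Subgroup.coe_mul, Matrix.SpecialLinearGroup.coe_mul]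
    rw [ThreeTrans.rank_conj_sub_one (by
      rw [← Matrix.SpecialLinearGroup.coe_mul, ← Subgroup.coe_mul, mul_inv_cancel, OneMemClass.coe_one,
        Matrix.SpecialLinearGroup.coe_one])]
    exact (hD _).2 ⟨v, rfl⟩
  · intro v w h hne
    have hvw := not_not.1 h
    have hwv : B (w : Fin n → F) v = 0 := by rw [← hB.symm, hvw, map_zero]
    obtain ⟨a, ha, ha'⟩ : ∃ a, B (v : Fin n → F) a ≠ 0 ∧ B (w : Fin n → F) a ≠ 0 := by
      obtain ⟨a, ha⟩ := hfun v v.2.1
      obtain ⟨b, hb⟩ := hfun w w.2.1
      by_cases h1 : B (w : Fin n → F) a = 0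
      · by_cases h2 : B (v : Fin n → F) b = 0
        · exact ⟨a + b, by rw [map_add, ha, h2, add_zero]; exact one_ne_zero,
            by rw [map_add, h1, hb, zero_add]; exact one_ne_zero⟩
        · exact ⟨b, h2, by rw [hb]; exact one_ne_zero⟩
      · exact ⟨a, by rw [ha]; exact one_ne_zero, h1⟩
    have hr : σ (B a a) = B a a := hB.symm a a
    obtain ⟨c, hc⟩ := Classical.Herm.exists_trace hσ hr
    set t : F := (B a v)⁻¹ * c
    have hav : B a (v : Fin n → F) ≠ 0 := fun h0 => ha (by rw [← hB.symm, h0, map_zero])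
    have hu : B (a + t • (v : Fin n → F)) (a + t • (v : Fin n → F)) = 0 := by
      simp only [map_add, map_smulₛₗ, LinearMap.add_apply, LinearMap.smul_apply, smul_eq_mul, v.2.2,
        mul_zero, add_zero, RingHom.id_apply]
      rw [show t * B a (v : Fin n → F) = c by simp only [t]; field_simp,
        show σ t * B (v : Fin n → F) a = σ c by
          rw [← hB.symm a (v : Fin n → F), ← map_mul, show t * B a (v : Fin n → F) = c by
            simp only [t]; field_simp]]
      linear_combination hc + B a a * h2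
    refine ⟨⟨a + t • (v : Fin n → F), ?_, hu⟩, ?_, ?_⟩
    · intro h0
      have : B (w : Fin n → F) (a + t • (v : Fin n → F)) = 0 := by rw [h0, map_zero]
      rw [map_add, map_smul, hwv, smul_zero, add_zero] at this
      exact ha' this
    · show B (v : Fin n → F) (a + t • (v : Fin n → F)) ≠ 0
      rw [map_add, map_smul, v.2.2, smul_zero, add_zero]
      exact ha
    · show B (w : Fin n → F) (a + t • (v : Fin n → F)) ≠ 0
      rw [map_add, map_smul, hwv, smul_zero, add_zero]
      exact ha'
  · rw [eq_top_iff, ← Classical.closure_unitaryTransvection hσ hσq hq (by omega : 2 ≤ n) (by omega),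
      Subgroup.closure_le]
    rintro A ⟨v, c, hv0, hA'⟩
    obtain ⟨c', hc', hA''⟩ := Classical.transvection_mem_cases hσ hσq A hv0 hA'
    by_cases hdeg : c' = 0 ∨ v = 0
    · rw [show A = 1 from ext _ _ fun x => by
        rw [← Classical.suEquiv_apply hσq, hA'', Classical.Herm.tvU_apply, OneMemClass.coe_one,
          Matrix.SpecialLinearGroup.coe_one, Matrix.one_mulVec]
        rcases hdeg with h | h <;> simp [h]]
      exact one_mem _
    push Not at hdeg
    have hc1 : c' = 1 := by
      refine (hfix c' ?_).resolve_left hdeg.1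
      rw [eq_neg_of_add_eq_zero_right hc', CharTwo.neg_eq]
    refine Subgroup.subset_closure ((hD A).2 ⟨⟨v, hdeg.2, hv0⟩, e.injective (Subtype.ext ?_)⟩)
    rw [MulEquiv.apply_symm_apply, hA'']
    subst hc1
    rfl

end Cfsg.Agent.S1631
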