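import Cfsg.Statements.S5357
import Cfsg.Agent.ThreeTrans.Param
import Cfsg.Agent.Classical.QuadMat

set_option autoImplicit false
open scoped MatrixGroups
open Cfsg

namespace Cfsg.Agent.S5357

section Aux

open QuadraticMap Cfsg.Agent.Classical

variable {V : Type*} [AddCommGroup V] [Module (ZMod 3) V] {Q : QuadraticForm (ZMod 3) V}

/-- Outside pairwise orthogonal anisotropic vectors there is a further one. -/
theorem exists_aniso [FiniteDimensional (ZMod 3) V] (hQ : (polarBilin Q).Nondegenerate) {k : ℕ}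
    (x : Fin k → V) (hk : k < Module.finrank (ZMod 3) V) (h0 : ∀ i, Q (x i) ≠ 0)
    (hp : ∀ i j, i ≠ j → polar Q (x i) (x j) = 0) :
    ∃ y, (∀ i, polar Q y (x i) = 0) ∧ Q y ≠ 0 := by
  by_contra hc
  push Not at hc
  let L : V →ₗ[ZMod 3] (Fin k → ZMod 3) := LinearMap.pi fun i => (polarBilin Q).flip (x i)
  have hL : ∀ y i, L y i = polar Q y (x i) := fun y i => rfl
  suffices Function.Injective L by
    have := LinearMap.finrank_le_finrank_of_injective this
    rw [Module.finrank_fin_fun] at this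
    omega
  rw [injective_iff_map_eq_zero]
  intro r hr
  have hr' : ∀ i, polar Q r (x i) = 0 := fun i => by rw [← hL, hr]; rfl
  refine hQ.1 r fun z => ?_
  show polar Q r z = 0
  set z' := z - ∑ i, (polar Q z (x i) / polar Q (x i) (x i)) • x i with hz'
  have hne : ∀ i, polar Q (x i) (x i) ≠ 0 := fun i => by
    rw [Quad.polar_self']
    exact mul_ne_zero (by decide) (h0 i)
  have hz : ∀ j, polar Q z' (x j) = 0 := by
    intro j
    rw [← hL, hz', map_sub, map_sum]
    simp only [map_smul, Pi.sub_apply, Finset.sum_apply, Pi.smul_apply, smul_eq_mul, hL]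
    rw [Finset.sum_eq_single j (fun i _ hij => by rw [hp i j hij, mul_zero])
      (fun h => absurd (Finset.mem_univ j) h), div_mul_cancel₀ _ (hne j), sub_self]
  have h1 : polar Q r z' = 0 := by
    have h := hc (r + z') fun i => by rw [polar_add_left, hr' i, hz i, add_zero]
    rwa [Quad.map_add', hc r hr', hc z' hz, add_zero, zero_add] at h
  have h2 : polarBilin Q r (∑ i, (polar Q z (x i) / polar Q (x i) (x i)) • x i) = 0 := by
    rw [map_sum]
    refine Finset.sum_eq_zero fun i _ => ?_
    rw [map_smul, polarBilin_apply_apply, hr' i, smul_zero]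
  calc polar Q r z = polarBilin Q r (z' + ∑ i, (polar Q z (x i) / polar Q (x i) (x i)) • x i) := by
        rw [hz', sub_add_cancel]; rfl
    _ = 0 := by rw [map_add, h2, polarBilin_apply_apply, h1, add_zero]

theorem z3 {c a : ZMod 3} (hc : c ≠ 0) (ha : a ≠ 0) : a = c ∨ a = -c := by
  revert c a
  decide

end Aux

/-- Let Q be a non-degenerate quadratic form on the n-dimensional coordinate space over the field with three elements, n ≥ 5, and c a non-zero scalar. In the subgroup of the isometry group of Q generated by the reflections in vectors v with Q(v) = c, these reflections form a single conjugacy class of 3-transpositions generating that subgroup. -/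
theorem result (n : ℕ) (hn : 5 ≤ n) (Q : QuadraticForm (ZMod 3) (Fin n → ZMod 3)) (hQ : (QuadraticMap.polarBilin Q).Nondegenerate) (c : ZMod 3) (hc : c ≠ 0) : Cfsg.IsThreeTranspositionClass {g : ↥(Cfsg.reflectionSubgroup (⇑Q) c) | (g : ↥(Cfsg.isometryGroup (ZMod 3) (⇑Q))) ∈ Cfsg.reflectionsOfNorm (⇑Q) c} := by
  classical
  have hfr : Module.finrank (ZMod 3) (Fin n → ZMod 3) = n := Module.finrank_fin_fun _
  have two : (c + c = -c) ∧ (-c + -c = c) ∧ c * 2 ≠ 0 := by revert c hc; decide
  obtain ⟨two1, two2, two3⟩ := two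
  -- vectors of norm `c`
  have hex : ∃ v, Q v = c := by
    obtain ⟨x, -, hx⟩ := exists_aniso hQ ![] (by rw [hfr]; omega) (fun i => i.elim0) fun i => i.elim0
    obtain ⟨y, hyx, hy⟩ := exists_aniso hQ ![x] (by rw [hfr]; omega)
      (fun i => by fin_cases i; exact hx) fun i j h => by fin_cases i; fin_cases j; exact absurd rfl h
    rcases z3 hc hx with h | h
    · exact ⟨x, h⟩
    rcases z3 hc hy with h' | h'
    · exact ⟨y, h'⟩
    refine ⟨x + y, ?_⟩
    rw [Classical.Quad.map_add', h, h', QuadraticMap.polar_comm, show QuadraticMap.polar Q y x = 0 from hyx 0,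
      add_zero, two2]
  have hmem : ∀ v, Q v = c → ∃ g : ↥(Cfsg.isometryGroup (ZMod 3) ⇑Q),
      ∀ x, g.1.1.mulVec x = x - (QuadraticMap.polar Q x v / c) • v := fun v hv => by
    have h0 : Q v ≠ 0 := by rw [hv]; exact hc
    refine ⟨(Classical.Quad.oEquiv Q).symm ⟨_, Classical.Quad.refl_mem h0⟩, fun x => ?_⟩
    rw [← Classical.Quad.oEquiv_apply, MulEquiv.apply_symm_apply, Classical.Quad.refl_apply, hv]
  choose g₀ hg₀ using hmem
  have hgmat : ∀ v (hv : Q v = c), (g₀ v hv).1.1 = Cfsg.reflectionMatrix (⇑Q) v := fun v hv =>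
    ThreeTrans.eq_of_mulVec fun x => by rw [hg₀, Classical.Quad.reflectionMatrix_mulVec, hv]
  let T := fun v : {v : Fin n → ZMod 3 // Q v = c} =>
    (⟨g₀ v v.2, Subgroup.subset_closure ⟨v, v.2, hgmat v v.2⟩⟩ : ↥(Cfsg.reflectionSubgroup (⇑Q) c))
  have hT : ∀ (v : {v : Fin n → ZMod 3 // Q v = c}) x, (T v).1.1.1.mulVec x =
      x + (-(c⁻¹) * QuadraticMap.polar Q x v) • (v : Fin n → ZMod 3) := fun v x => by
    rw [neg_mul, neg_smul, ← sub_eq_add_neg, ← div_eq_inv_mul]
    exact hg₀ v v.2 x
  let φ := fun v : {v : Fin n → ZMod 3 // Q v = c} =>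
    (-(c⁻¹)) • (QuadraticMap.polarBilin Q).flip (v : Fin n → ZMod 3)
  have hone : ∀ v, ThreeTrans.OneDir (fun x => (T v).1.1.1.mulVec x) (v : Fin n → ZMod 3) (φ v) :=
    fun v x => hT v x
  have hval : ∀ v : {v : Fin n → ZMod 3 // Q v = c}, φ v v = -2 := fun v => by
    show -(c⁻¹) * QuadraticMap.polar Q (v : Fin n → ZMod 3) v = -2
    rw [Classical.Quad.polar_self', v.2]
    field_simp
  have hmul : ∀ (a b : ↥(Cfsg.reflectionSubgroup (⇑Q) c)) x,
      (a * b).1.1.1.mulVec x = a.1.1.1.mulVec (b.1.1.1.mulVec x) := fun a b x => by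
    rw [Subgroup.coe_mul, Subgroup.coe_mul, Units.val_mul, Matrix.mulVec_mulVec]
  have ext : ∀ a b : ↥(Cfsg.reflectionSubgroup (⇑Q) c),
      (∀ x, a.1.1.1.mulVec x = b.1.1.1.mulVec x) → a = b :=
    fun a b h => Subtype.ext (Subtype.ext (Units.ext (ThreeTrans.eq_of_mulVec h)))
  have hD : ∀ g : ↥(Cfsg.reflectionSubgroup (⇑Q) c),
      g.1 ∈ Cfsg.reflectionsOfNorm (⇑Q) c ↔ ∃ v, T v = g := by
    intro g
    constructor
    · rintro ⟨v, hv, hg⟩
      exact ⟨⟨v, hv⟩, Subtype.ext (Subtype.ext (Units.ext ((hgmat v hv).trans hg.symm)))⟩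
    · rintro ⟨v, rfl⟩
      exact ⟨v, v.2, hgmat v v.2⟩
  obtain ⟨v₀, hv₀⟩ := hex
  refine ThreeTrans.class_of_param T
    (fun v w => QuadraticMap.polar Q (v : Fin n → ZMod 3) w ≠ 0) ⟨⟨v₀, hv₀⟩⟩ hD ?_ ?_ ?_ ?_ ?_ ?_ ?_
  · intro v h
    have := (hone v) (v : Fin n → ZMod 3)
    simp only [h, OneMemClass.coe_one, Units.val_one, Matrix.one_mulVec, hval v, left_eq_add,
      smul_eq_zero] at this
    rcases this with h' | h'
    · exact absurd h' (by decide)
    · have := v.2
      rw [h', map_zero] at this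
      exact hc this.symm
  · intro v
    refine ext _ _ fun x => ?_
    rw [hmul, OneMemClass.coe_one, OneMemClass.coe_one, Units.val_one, Matrix.one_mulVec]
    exact (hone v).sq (hval v) x
  · intro v w h
    refine ext _ _ fun x => ?_
    rw [hmul, hmul]
    have h0 := not_not.1 h
    exact (hone v).comm (hone w)
      (by show -(c⁻¹) * QuadraticMap.polar Q (w : Fin n → ZMod 3) v = 0
          rw [QuadraticMap.polar_comm, h0, mul_zero])
      (by show -(c⁻¹) * QuadraticMap.polar Q (v : Fin n → ZMod 3) w = 0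
          rw [h0, mul_zero]) x
  · intro v w h
    refine ext _ _ fun x => ?_
    simp only [hmul]
    refine (hone v).braid (hone w) (hval v) (hval w) ?_ x
    show -(c⁻¹) * QuadraticMap.polar Q (w : Fin n → ZMod 3) v *
      (-(c⁻¹) * QuadraticMap.polar Q (v : Fin n → ZMod 3) w) = 1
    rw [QuadraticMap.polar_comm Q (w : Fin n → ZMod 3)]
    have key : ∀ a d : ZMod 3, a ≠ 0 → d ≠ 0 → -d * a * (-d * a) = 1 := by decide
    exact key _ _ h (inv_ne_zero hc)
  · intro g v
    have hg : g.1.1 ∈ Cfsg.isometryGroup (ZMod 3) ⇑Q := g.1.2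
    rw [Classical.Quad.mem_isometryGroup_iff] at hg
    refine ⟨g.1.1.1.mulVec v, (hg _).trans v.2, ThreeTrans.eq_of_mulVec fun x => ?_⟩
    rw [Classical.Quad.reflectionMatrix_mulVec, hg, v.2]
    show (g * T v * g⁻¹).1.1.1.mulVec x = _
    rw [hmul, hmul, hT]
    set y := (g⁻¹).1.1.1.mulVec x with hy
    have hgy : g.1.1.1.mulVec y = x := by
      rw [hy, ← hmul, mul_inv_cancel, OneMemClass.coe_one, OneMemClass.coe_one, Units.val_one,
        Matrix.one_mulVec]
    have hpol : QuadraticMap.polar Q y v = QuadraticMap.polar Q x (g.1.1.1.mulVec v) := by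
      simp only [QuadraticMap.polar, ← hgy, ← Matrix.mulVec_add, hg]
    rw [Matrix.mulVec_add, Matrix.mulVec_smul, hgy, hpol, neg_mul, neg_smul, ← sub_eq_add_neg,
      div_eq_inv_mul]
  · intro v w h _
    have hvw := not_not.1 h
    have hvn : Q (v : Fin n → ZMod 3) ≠ 0 := by rw [v.2]; exact hc
    have hwn : Q (w : Fin n → ZMod 3) ≠ 0 := by rw [w.2]; exact hc
    obtain ⟨x, hxp, hx⟩ := exists_aniso hQ ![(v : Fin n → ZMod 3), w] (by rw [hfr]; omega)
      (fun i => by fin_cases i; exacts [hvn, hwn]) fun i j hij => by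
        fin_cases i <;> fin_cases j
        all_goals first
          | exact absurd rfl hij
          | exact hvw
          | (rw [QuadraticMap.polar_comm]; exact hvw)
    obtain ⟨y, hyp, hy⟩ := exists_aniso hQ ![(v : Fin n → ZMod 3), w, x] (by rw [hfr]; omega)
      (fun i => by fin_cases i; exacts [hvn, hwn, hx]) fun i j hij => by
        fin_cases i <;> fin_cases j
        all_goals first
          | exact absurd rfl hij
          | exact hvw
          | exact hxp 0
          | exact hxp 1
          | (rw [QuadraticMap.polar_comm]; exact hvw)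
          | (rw [QuadraticMap.polar_comm]; exact hxp 0)
          | (rw [QuadraticMap.polar_comm]; exact hxp 1)
    obtain ⟨z, hzv, hzw, hz⟩ : ∃ z, QuadraticMap.polar Q z (v : Fin n → ZMod 3) = 0 ∧
        QuadraticMap.polar Q z (w : Fin n → ZMod 3) = 0 ∧ Q z = -c := by
      rcases z3 hc hx with e | e
      · rcases z3 hc hy with e' | e'
        · refine ⟨x + y, ?_, ?_, ?_⟩
          · rw [QuadraticMap.polar_add_left, show QuadraticMap.polar Q x (v : Fin n → ZMod 3) = 0 from hxp 0,
              show QuadraticMap.polar Q y (v : Fin n → ZMod 3) = 0 from hyp 0, add_zero]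
          · rw [QuadraticMap.polar_add_left, show QuadraticMap.polar Q x (w : Fin n → ZMod 3) = 0 from hxp 1,
              show QuadraticMap.polar Q y (w : Fin n → ZMod 3) = 0 from hyp 1, add_zero]
          · rw [Classical.Quad.map_add', e, e', QuadraticMap.polar_comm,
              show QuadraticMap.polar Q y x = 0 from hyp 2, add_zero, two1]
        · exact ⟨y, hyp 0, hyp 1, e'⟩
      · exact ⟨x, hxp 0, hxp 1, e⟩
    refine ⟨⟨(v : Fin n → ZMod 3) + w + z, ?_⟩, ?_, ?_⟩
    · rw [Classical.Quad.map_add', Classical.Quad.map_add', v.2, w.2, hvw, hz,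
        QuadraticMap.polar_add_left, QuadraticMap.polar_comm Q _ z, QuadraticMap.polar_comm Q _ z, hzv, hzw,
        add_zero, add_zero, add_zero, two1, two2]
    · show QuadraticMap.polar Q (v : Fin n → ZMod 3) ((v : Fin n → ZMod 3) + w + z) ≠ 0
      rw [QuadraticMap.polar_add_right, QuadraticMap.polar_add_right, Classical.Quad.polar_self', hvw,
        QuadraticMap.polar_comm Q _ z, hzv, add_zero, add_zero, v.2, mul_comm]
      exact two3
    · show QuadraticMap.polar Q (w : Fin n → ZMod 3) ((v : Fin n → ZMod 3) + w + z) ≠ 0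
      rw [QuadraticMap.polar_add_right, QuadraticMap.polar_add_right, Classical.Quad.polar_self',
        QuadraticMap.polar_comm Q _ (v : Fin n → ZMod 3), hvw,
        QuadraticMap.polar_comm Q _ z, hzw, add_zero, zero_add, w.2, mul_comm]
      exact two3
  · exact Subgroup.closure_closure_coe_preimage

end Cfsg.Agent.S5357
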