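import Cfsg.Statements.S0293
import Cfsg.Agent.Classical.OrthPOmega
import Cfsg.Agent.S0790
-- import your own Cfsg.Agent.* helpers here

set_option autoImplicit false
open Cfsg

namespace Cfsg.Agent.S0293

/-- gcd(4, q^m - 1) |PΩ^+_{2m}(q)| = q^(m(m-1)) (q^m - 1) prod_{i=1}^{m-1} (q^(2i) - 1), m at least 4 (type D_m). -/
theorem result {F : Type*} [Field F] [Fintype F] {q : ℕ} (hF : Fintype.card F = q) (m : ℕ) (hm : 4 ≤ m) : Nat.gcd 4 (q ^ m - 1) * Nat.card (Cfsg.POmega F (Cfsg.quadFormPlus m F)) = q ^ (m * (m - 1)) * (q ^ m - 1) * ∏ i ∈ Finset.range (m - 1), (q ^ (2 * (i + 1)) - 1) := by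
  open Cfsg.Agent.Classical.Quad QuadraticMap in
    let Q : QuadraticForm F (Fin m ⊕ Fin m → F) := (hyp (zeroForm F) m).comp (plusCoord m).toLinearMap
    have hQe : ⇑Q = Cfsg.quadFormPlus m F := funext fun x => by simp [Q, plusCoord_map]
    have hQ : (polarBilin Q).Nondegenerate :=
      Iso.nondeg (Iso.symm ⟨plusCoord m, fun x => by simp [Q]⟩) (nondeg_hyp nondeg_zeroForm m)
    have hd : Module.finrank F (Fin m ⊕ Fin m → F) = m + m := by simp
    have h3 := card_pomega_mul (Q := Q)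
    rw [index_omega] at h3
    obtain ⟨k, rfl⟩ : ∃ k, m = k + 1 := ⟨m - 1, by omega⟩
    have hO : Nat.card (Cfsg.isometryGroup F ⇑Q) =
        2 * (q ^ ((k + 1) * k) * (q ^ (k + 1) - 1) * ∏ i ∈ Finset.range k, (q ^ (2 * (i + 1)) - 1)) := by
      rw [hQe, Cfsg.Agent.Classical.Quad.card_isometryGroup_eq (plusCoord (k + 1)) (plusCoord_map (k + 1)),
        card_oG_plus hF]
      ring
    rw [hO] at h3
    rw [Nat.add_sub_cancel, ← hQe]
    have hcc := card_center_omega hQ (by omega)
    have hq1 : 1 ≤ q ^ (k + 1) := Nat.one_le_pow _ _ (hF ▸ Fintype.card_pos)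
    by_cases h2 : (2 : F) = 0
    · have : CharP F 2 := CharTwo.of_one_ne_zero_of_two_eq_zero one_ne_zero h2
      rw [hcc.2 (Or.inr h2), mul_one, (commutator_eq_ker_dickson hQ (Or.inr (by omega)) (by omega)).2] at h3
      have hev : Even (q ^ (k + 1)) := by
        have := FiniteField.even_card_of_char_two (F := F) (ringChar.eq F 2)
        rw [hF] at this
        exact (Nat.even_iff.2 this).pow_of_ne_zero (by omega)
      have hg : Nat.gcd 4 (q ^ (k + 1) - 1) = 1 := by
        have hodd : Nat.Coprime (2 ^ 2) (q ^ (k + 1) - 1) := by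
          refine Nat.Coprime.pow_left 2 ((Nat.prime_two.coprime_iff_not_dvd).2 ?_)
          obtain ⟨r, hr⟩ := hev
          omega
        exact hodd
      rw [hg, one_mul]
      omega
    · have hodd : Odd q := by
        rw [Nat.odd_iff, ← hF]
        exact FiniteField.odd_card_of_char_ne_two fun h => h2 (by
          have : CharP F 2 := h ▸ ringChar.charP F
          exact CharTwo.two_eq_zero)
      rw [index_commutator_odd hQ h2 (by omega)] at h3
      have hmod : q ^ (k + 1) % 2 = 1 := Nat.odd_iff.1 hodd.pow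
      have hkey : (∃ g : Cfsg.isometryGroup F ⇑Q, g ∈ Cfsg.Omega F ⇑Q ∧
          ((g : Matrix.GeneralLinearGroup (Fin (k + 1) ⊕ Fin (k + 1)) F) :
            Matrix (Fin (k + 1) ⊕ Fin (k + 1)) (Fin (k + 1) ⊕ Fin (k + 1)) F) = -1) ↔ q ^ (k + 1) % 4 = 1 := by
        have := Cfsg.Agent.S0790.result (F := F) hF hodd (k + 1) (by omega)
        rwa [← hQe] at this
      rw [Nat.gcd_rec]
      by_cases h4 : q ^ (k + 1) % 4 = 1
      · rw [hcc.1 ⟨hkey.2 h4, h2⟩] at h3
        rw [show (q ^ (k + 1) - 1) % 4 = 0 by omega]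
        norm_num
        omega
      · rw [hcc.2 (Or.inl (mt hkey.1 h4)), mul_one] at h3
        rw [show (q ^ (k + 1) - 1) % 4 = 2 by omega]
        norm_num
        omega

end Cfsg.Agent.S0293
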