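import Cfsg.Statements.S0501
import Cfsg.Agent.MacWilliams.Main

set_option autoImplicit false
open Cfsg

namespace Cfsg.Agent.S0501

/-- A finite 2-group in which every normal elementary abelian subgroup has order at most 4 has sectional rank at most
4: every quotient of every subgroup has no elementary abelian subgroup of order exceeding 16. -/
theorem result {P : Type*} [Group P] [Finite P] (hP : IsPGroup 2 P)
    (h : ∀ A : Subgroup P, A.Normal → IsMulCommutative A → (∀ a ∈ A, a ^ 2 = 1) → Nat.card A ≤ 4) :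
    Cfsg.SectionalPRankLE 2 4 P := by
  classical
  haveI : Fact (Nat.Prime 2) := ⟨Nat.prime_two⟩
  let OK : Subgroup P → Prop := fun A =>
    A.Normal ∧ (∀ a ∈ A, ∀ b ∈ A, a * b = b * a) ∧ ∀ a ∈ A, a ^ 4 = 1
  have hbot : OK ⊥ := by
    refine ⟨inferInstance, ?_, ?_⟩
    · intro a ha b hb
      rw [Subgroup.mem_bot.1 ha, Subgroup.mem_bot.1 hb]
    · intro a ha
      rw [Subgroup.mem_bot.1 ha, one_pow]
  haveI : Nonempty {A : Subgroup P // OK A} := ⟨⟨⊥, hbot⟩⟩
  obtain ⟨⟨A, hn, hc, he⟩, hmaxA⟩ := Finite.exists_max fun A : {A : Subgroup P // OK A} => Nat.card A.1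
  have hom := MacWilliams.omega_of_max hP hn hc he fun B hBn hAB hBc hBe =>
    (Subgroup.eq_of_le_of_card_ge hAB (hmaxA ⟨B, hBn, hBc, hBe⟩)).symm
  have hEn := MacWilliams.E1_normal hn hc
  have hsmall : Nat.card (MacWilliams.E1 A) ≤ 4 :=
    h _ hEn ⟨⟨fun u v => Subtype.ext (u.2.2.2 v v.2.1)⟩⟩ fun a ha => by rw [pow_two]; exact ha.2.1
  have hno : ∀ x : P, x * x = 1 → (∀ a ∈ MacWilliams.E1 A, x * a = a * x) →
      (∀ g : P, g * x * g⁻¹ * x⁻¹ ∈ MacWilliams.E1 A) →
      x ∈ MacWilliams.E1 A ∨ Nat.card (MacWilliams.E1 A) ≤ 2 := by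
    intro x hx hxc hxg
    by_contra hcon
    push Not at hcon
    set E := MacWilliams.E1 A with hE
    have hxi : x⁻¹ = x := inv_eq_of_mul_eq_one_right hx
    have hEc : ∀ u ∈ E, ∀ v ∈ E, u * v = v * u := fun u hu v hv => hu.2.2 v hv.1
    let B : Subgroup P :=
      { carrier := {y | y ∈ E ∨ y * x ∈ E}
        one_mem' := Or.inl E.one_mem
        mul_mem' := by
          rintro u v (hu | hu) (hv | hv)
          · exact Or.inl (mul_mem hu hv)
          · exact Or.inr (by rw [mul_assoc]; exact mul_mem hu hv)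
          · refine Or.inr ?_
            rw [mul_assoc, ← hxc v hv, ← mul_assoc]
            exact mul_mem hu hv
          · refine Or.inl ?_
            rw [show u * v = u * x * (x⁻¹ * (v * x)) * x⁻¹ by group, hxi, hxc _ hv,
              show u * x * (v * x * x) * x = u * x * (v * x * (x * x)) by group, hx, mul_one]
            exact mul_mem hu hv
        inv_mem' := by
          rintro u (hu | hu)
          · exact Or.inl (inv_mem hu)
          · refine Or.inr ?_
            rw [show u⁻¹ * x = x * (u * x)⁻¹ * x by group, hxc _ (inv_mem hu), mul_assoc, hx, mul_one]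
            exact inv_mem hu }
    have hform : ∀ y ∈ B, ∃ e ∈ E, y = e ∨ y = e * x := by
      rintro y (hy | hy)
      · exact ⟨y, hy, Or.inl rfl⟩
      · exact ⟨_, hy, Or.inr (by rw [mul_assoc, hx, mul_one])⟩
    have hcomm : ∀ u ∈ B, ∀ v ∈ B, u * v = v * u := by
      intro u hu v hv
      obtain ⟨e, he, hue⟩ := hform u hu
      obtain ⟨f, hf, hvf⟩ := hform v hv
      have c1 : Commute e f := hEc e he f hf
      have c2 : Commute x e := hxc e he
      have c3 : Commute x f := hxc f hf
      rcases hue with rfl | rfl <;> rcases hvf with rfl | rfl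
      · exact c1
      · exact c1.mul_right c2.symm
      · exact c1.mul_left c3
      · exact (c1.mul_right c2.symm).mul_left (c3.mul_right (Commute.refl x))
    have hsq : ∀ u ∈ B, u ^ 2 = 1 := by
      intro u hu
      obtain ⟨e, he, rfl | rfl⟩ := hform u hu
      · rw [pow_two]; exact he.2.1
      · rw [(show Commute x e from hxc e he).symm.mul_pow, pow_two, pow_two, he.2.1, hx, mul_one]
    have hBn : B.Normal := by
      refine ⟨fun y hy g => ?_⟩
      rcases hy with hy | hy
      · exact Or.inl (hEn.conj_mem y hy g)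
      · refine Or.inr ?_
        rw [show g * y * g⁻¹ * x = g * (y * x) * g⁻¹ * (g * x⁻¹ * g⁻¹ * x) by group, hxi]
        have h1 := hxg g
        rw [hxi] at h1
        exact mul_mem (hEn.conj_mem _ hy g) h1
    have hlt : E < B := lt_of_le_of_ne (fun u hu => Or.inl hu) fun q => hcon.1 (by
      rw [q]; exact Or.inr (by rw [hx]; exact E.one_mem))
    have h8 := h B hBn ⟨⟨fun u v => Subtype.ext (hcomm u u.2 v v.2)⟩⟩ hsq
    have h1 : Nat.card E < Nat.card B := by
      by_contra hge
      push Not at hge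
      exact hlt.ne (Subgroup.eq_of_le_of_card_ge hlt.le hge)
    obtain ⟨j, hj⟩ := Subgroup.card_dvd_of_le hlt.le
    rw [hj] at h1 h8
    rcases j with _ | _ | j
    · omega
    · omega
    · have := Nat.mul_le_mul_left (Nat.card E) (show 2 ≤ j + 1 + 1 by omega)
      omega
  have hS : MacWilliams.Su A := ⟨hP, hn, hc, he, hom, hsmall, hno⟩
  obtain ⟨Q, hQ⟩ := (hP.to_subgroup (⊤ : Subgroup P)).exists_le_sylow
  refine SecRankFour.sectional_of_good Q ?_
  rw [eq_top_iff.2 hQ]
  by_cases hex : ∃ a ∈ A, ∃ b ∈ A, a * a ≠ 1 ∧ b * b ≠ 1 ∧ a * a ≠ b * b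
  · obtain ⟨a, ha, b, hb, ha1, hb1, hab⟩ := hex
    have hfin : ({1, a * a, b * b} : Set P) ⊆ (MacWilliams.E1 A : Set P) := by
      rintro u (rfl | rfl | rfl)
      exacts [(MacWilliams.E1 A).one_mem, hS.sq_mem ha, hS.sq_mem hb]
    have h3 : 2 < Nat.card (MacWilliams.E1 A) := by
      have h3' := Set.ncard_le_ncard hfin (Set.toFinite _)
      rw [Set.ncard_insert_of_notMem (by simp [Ne.symm ha1, Ne.symm hb1]) (Set.toFinite _), Set.ncard_pair hab,
        ← Nat.card_coe_set_eq] at h3'
      exact h3'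
    have h4 := hS.card_four h3
    obtain ⟨z, hz, hz1, hzc⟩ := hS.exists_central h3.le
    have hne : a * a * (b * b) ≠ 1 := fun q =>
      hab ((mul_eq_one_iff_eq_inv.1 q).trans (inv_eq_of_mul_eq_one_right (hS.sq_mem hb).2.1))
    have hall : ({1, a * a, b * b, a * a * (b * b)} : Set P) = (MacWilliams.E1 A : Set P) := by
      refine Set.eq_of_subset_of_ncard_le ?_ ?_ (Set.toFinite _)
      · rintro u (rfl | rfl | rfl | rfl)
        exacts [(MacWilliams.E1 A).one_mem, hS.sq_mem ha, hS.sq_mem hb, mul_mem (hS.sq_mem ha) (hS.sq_mem hb)]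
      · rw [← Nat.card_coe_set_eq, show Nat.card ↥(MacWilliams.E1 A : Set P) = 4 from h4,
          Set.ncard_insert_of_notMem (by simp [Ne.symm ha1, Ne.symm hb1, Ne.symm hne]) (Set.toFinite _),
          Set.ncard_insert_of_notMem (by simp [hab, hb1]) (Set.toFinite _),
          Set.ncard_pair (by simp [ha1])]
    obtain ⟨c, hcA, hcz⟩ : ∃ c ∈ A, c * c = z := by
      have hz' : z ∈ ({1, a * a, b * b, a * a * (b * b)} : Set P) := hall.ge hz
      rcases hz' with q | q | q | q
      · exact absurd q hz1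
      · exact ⟨a, ha, q.symm⟩
      · exact ⟨b, hb, q.symm⟩
      · refine ⟨a * b, mul_mem ha hb, ?_⟩
        rw [show z = a * a * (b * b) from q, (show Commute b a from hc b hb a ha).mul_mul_mul_comm]
    obtain ⟨d, hdA, hd1, hdz⟩ : ∃ d ∈ A, d * d ≠ 1 ∧ c * c ≠ d * d := by
      by_cases q : c * c = a * a
      · exact ⟨b, hb, hb1, fun q' => hab (q ▸ q')⟩
      · exact ⟨a, ha, ha1, q⟩
    exact MacWilliams.Co.good_main ⟨hS, hcA, hdA, h4, hcz ▸ hz1, hd1, hdz, fun g => by rw [hcz]; exact hzc g⟩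
  · push Not at hex
    by_cases ha : ∃ a ∈ A, a * a ≠ 1
    · obtain ⟨a, ha, ha1⟩ := ha
      refine MacWilliams.good_small hS ha fun c hcA => ?_
      by_cases hc1 : c * c = 1
      · exact Or.inl hc1
      · exact Or.inr (hex a ha c hcA ha1 hc1).symm
    · push Not at ha
      exact MacWilliams.good_small hS A.one_mem fun c hcA => Or.inl (ha c hcA)

end Cfsg.Agent.S0501
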