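import Cfsg.Statements.S1232
import Cfsg.Agent.SelfCentEight.Main
import Cfsg.Agent.S0501

set_option autoImplicit false
open Cfsg

namespace Cfsg.Agent.S1232

/-- Let S be a finite 2-group containing an elementary abelian subgroup A of order 8 with C_S(A) = A. Then every section of S has 2-rank at most 4. -/
theorem result {S : Type*} [Group S] [Finite S] (hS : IsPGroup 2 S) (A : Subgroup S) (hA : Cfsg.IsElementaryAbelian 2 A) (hA8 : Nat.card A = 8) (hC : Subgroup.centralizer (A : Set S) = A) : Cfsg.SectionalPRankLE 2 4 S := by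
  classical
  by_cases hall : ∀ E : Subgroup S, E.Normal → IsMulCommutative E → (∀ e ∈ E, e ^ 2 = 1) → Nat.card E ≤ 4
  · exact Cfsg.Agent.S0501.result hS hall
  push Not at hall
  obtain ⟨E₁, hE₁n, -, hE₁2, hE₁c⟩ := hall
  haveI : Fact (Nat.Prime 2) := ⟨Nat.prime_two⟩
  let OK : Subgroup S → Prop := fun E => SelfCentEight.El E ∧ 4 < Nat.card E
  haveI : Nonempty {E : Subgroup S // OK E} :=
    ⟨⟨E₁, ⟨hE₁n, fun e he => by rw [← pow_two]; exact hE₁2 e he⟩, hE₁c⟩⟩
  obtain ⟨⟨E, hEl, hE4⟩, hmax⟩ := Finite.exists_max fun E : {E : Subgroup S // OK E} => Nat.card E.1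
  haveI := hEl.normal
  haveI := hEl.C_normal
  have hE8 : 8 ≤ Nat.card E := by
    have := SelfCentEight.double_of_lt hS (H := E) (H' := (⊥ : Subgroup S)) (k := 2) (by simpa using hE4)
    simpa using this
  obtain ⟨hAc, hA2'⟩ := hA
  have hA2 : ∀ b ∈ A, b * b = 1 := fun b hb => by rw [← pow_two]; exact hA2' b hb
  have hCA : ∀ y : S, (∀ b ∈ A, y * b = b * y) → y ∈ A := fun y hy =>
    hC.le (Subgroup.mem_centralizer_iff.2 fun b hb => (hy b hb).symm)
  obtain ⟨Q, hQ⟩ := (hS.to_subgroup (⊤ : Subgroup S)).exists_le_sylow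
  refine SecRankFour.sectional_of_good Q ?_
  rw [eq_top_iff.2 hQ]
  by_cases hne : A ≤ Subgroup.centralizer (E : Set S)
  · -- then `E` is `A`
    have hEA : E ≤ A := fun e he => hCA e fun b hb =>
      (SelfCentEight.El.C_comm (hne hb) he).symm
    have hEA' : E = A := Subgroup.eq_of_le_of_card_ge hEA (by rw [hA8]; exact hE8)
    subst hEA'
    exact SelfCentEight.good_self hS hEl hA8 hC.le
  obtain ⟨Z, hZE, hZc, -, hZ2⟩ := Fusion.exists_central_card_prime hS E fun e => by
    rw [e, Subgroup.card_bot] at hE4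
    omega
  obtain ⟨z, hz, hz1⟩ := Z.bot_or_exists_ne_one.resolve_left fun e => by
    rw [e, Subgroup.card_bot] at hZ2
    omega
  refine SelfCentEight.Pair.good (A := A) (E := E) (z := z) ⟨hS, hA2, hA8, hCA, hEl, hE8, ?_, hne, hZE hz, hz1,
    fun g => Subgroup.mem_center_iff.1 (hZc hz) g⟩
  -- maximality
  intro x hxC hx2 hxg
  by_contra hxE
  have hxi : x⁻¹ = x := inv_eq_of_mul_eq_one_right hx2
  have hxe : ∀ e ∈ E, x * e = e * x := fun e he => SelfCentEight.El.C_comm hxC he
  let B : Subgroup S :=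
    { carrier := {y | y ∈ E ∨ y * x ∈ E}
      one_mem' := Or.inl E.one_mem
      mul_mem' := by
        rintro u v (hu | hu) (hv | hv)
        · exact Or.inl (mul_mem hu hv)
        · exact Or.inr (by rw [mul_assoc]; exact mul_mem hu hv)
        · refine Or.inr ?_
          rw [mul_assoc, ← hxe v hv, ← mul_assoc]
          exact mul_mem hu hv
        · refine Or.inl ?_
          rw [show u * v = u * x * (x⁻¹ * (v * x)) * x⁻¹ by group, hxi, hxe _ hv,
            show u * x * (v * x * x) * x = u * x * (v * x * (x * x)) by group, hx2, mul_one]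
          exact mul_mem hu hv
      inv_mem' := by
        rintro u (hu | hu)
        · exact Or.inl (inv_mem hu)
        · refine Or.inr ?_
          rw [show u⁻¹ * x = x * (u * x)⁻¹ * x by group, hxe _ (inv_mem hu), mul_assoc, hx2, mul_one]
          exact inv_mem hu }
  have hsq : ∀ u ∈ B, u * u = 1 := by
    rintro u (hu | hu)
    · exact hEl.sq u hu
    · have e1 : u = u * x * x := by rw [mul_assoc, hx2, mul_one]
      rw [e1, show u * x * x * (u * x * x) = u * x * (x * (u * x)) * x by group, hxe _ hu, ← mul_assoc,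
        hEl.sq _ hu, one_mul, hx2]
  have hBn : B.Normal := by
    refine ⟨fun y hy g => ?_⟩
    rcases hy with hy | hy
    · exact Or.inl (hEl.normal.conj_mem y hy g)
    · refine Or.inr ?_
      rw [show g * y * g⁻¹ * x = g * (y * x) * g⁻¹ * (g * x⁻¹ * g⁻¹ * x) by group, hxi]
      have h1 := hxg g
      rw [hxi] at h1
      exact mul_mem (hEl.normal.conj_mem _ hy g) h1
  have hlt : E < B := lt_of_le_of_ne (fun u hu => Or.inl hu) fun q => hxE (by
    rw [q]; exact Or.inr (by rw [hx2]; exact E.one_mem))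
  have hle := hmax ⟨B, ⟨hBn, hsq⟩, hE4.trans_le (Subgroup.card_le_of_le hlt.le)⟩
  exact hlt.ne (Subgroup.eq_of_le_of_card_ge hlt.le hle)

end Cfsg.Agent.S1232
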