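import Cfsg.Statements.S0121
import Mathlib.GroupTheory.Frattini
import Mathlib.Tactic

set_option autoImplicit false
open Cfsg

namespace Cfsg.Agent.S0121

/-- A p'-automorphism of a p-group acting trivially on a critical subgroup is trivial. -/
theorem result {G : Type*} [Group G] [Finite G] {p : ℕ} [Fact p.Prime] (hG : IsPGroup p G) (H : Subgroup G) (hH : H.Characteristic) (h1 : (frattini H).map H.subtype ≤ Subgroup.centralizer (H : Set G)) (h2 : ⁅H, (⊤ : Subgroup G)⁆ ≤ H ⊓ Subgroup.centralizer (H : Set G)) (h3 : Subgroup.centralizer (H : Set G) ≤ H) (a : MulAut G) (ha : Nat.Coprime (orderOf a) p) (h : ∀ x ∈ H, a x = x) : a = 1 := by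
  apply MulEquiv.ext
  intro x
  have hc : x⁻¹ * a x ∈ Subgroup.centralizer (H : Set G) := by
    rw [Subgroup.mem_centralizer_iff]
    intro k hk
    have hk' : x * k * x⁻¹ ∈ H := (Subgroup.normal_of_characteristic H).conj_mem k hk x
    have h' := h _ hk'
    rw [map_mul, map_mul, map_inv, h k hk] at h'
    calc k * (x⁻¹ * a x) = x⁻¹ * (x * k * x⁻¹) * a x := by group
      _ = x⁻¹ * (a x * k * (a x)⁻¹) * a x := by rw [h']
      _ = x⁻¹ * a x * k := by group
  set c := x⁻¹ * a x with hcdef
  have hax : a x = x * c := by rw [hcdef]; group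
  have hac : a c = c := h c (h3 hc)
  have hn : ∀ n : ℕ, (a ^ n) x = x * c ^ n := by
    intro n
    induction n with
    | zero => simp
    | succ n ih =>
      rw [pow_succ' a, MulAut.mul_apply, ih, map_mul, map_pow, hac, hax, mul_assoc, ← pow_succ']
  have h0 := hn (orderOf a)
  rw [pow_orderOf_eq_one, MulAut.one_apply] at h0
  have hcn : c ^ orderOf a = 1 := mul_eq_left.1 h0.symm
  obtain ⟨k, hk⟩ := IsPGroup.iff_orderOf.1 hG c
  have hdvd : orderOf c ∣ orderOf a := orderOf_dvd_of_pow_eq_one hcn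
  have : orderOf c = 1 := Nat.eq_one_of_dvd_coprimes (ha.pow_right k) hdvd hk.dvd
  rw [hax, orderOf_eq_one_iff.1 this, mul_one, MulAut.one_apply]

end Cfsg.Agent.S0121
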