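import Cfsg.Statements.S0231
import Cfsg.Agent.Invol.Isolated
import Cfsg.Agent.Invol.KleinSylow

set_option autoImplicit false
open scoped Pointwise
open Cfsg

namespace Cfsg.Agent.S0231

/-- Let T be a Sylow 2-subgroup of the finite group G which is not normal and which intersects every other Sylow 2-subgroup trivially. Then G has a single conjugacy class of involutions. -/
theorem result {G : Type*} [Group G] [Finite G] (T : Sylow 2 G) (hnn : ¬ (T : Subgroup G).Normal) (hTI : ∀ g : G, MulAut.conj g • (T : Subgroup G) ≠ T → MulAut.conj g • (T : Subgroup G) ⊓ T = ⊥) (s t : G) (hs : orderOf s = 2) (ht : orderOf t = 2) : IsConj s t := by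
  have : Fact (Nat.Prime 2) := ⟨Nat.prime_two⟩
  by_contra hst
  have hTI' : ∀ (U V : Sylow 2 G) (w : G), w ≠ 1 → w ∈ (U : Subgroup G) → w ∈ (V : Subgroup G) → U = V := by
    intro U V w hw hU hV
    obtain ⟨a, rfl⟩ := MulAction.exists_smul_eq G T U
    obtain ⟨b, rfl⟩ := MulAction.exists_smul_eq G T V
    by_contra hne
    have h1 : MulAut.conj (b⁻¹ * a) • (T : Subgroup G) ≠ T := by
      intro he
      apply hne
      apply Sylow.ext
      rw [Sylow.coe_subgroup_smul, Sylow.coe_subgroup_smul]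
      conv_rhs => rw [← he, ← mul_smul, ← map_mul, mul_inv_cancel_left]
    have h2 := hTI _ h1
    rw [Sylow.coe_subgroup_smul] at hU hV
    have hm : b⁻¹ * w * b ∈ MulAut.conj (b⁻¹ * a) • (T : Subgroup G) ⊓ T := by
      refine Subgroup.mem_inf.2 ⟨?_, ?_⟩
      · rw [Subgroup.mem_pointwise_smul_iff_inv_smul_mem] at hU ⊢
        simpa [MulAut.smul_def, mul_assoc] using hU
      · rw [Subgroup.mem_pointwise_smul_iff_inv_smul_mem] at hV
        simpa [MulAut.smul_def] using hV
    rw [h2, Subgroup.mem_bot] at hm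
    apply hw
    calc w = b * (b⁻¹ * w * b) * b⁻¹ := by group
      _ = 1 := by rw [hm]; group
  have hsyl : ∀ w : G, orderOf w = 2 → ∃ U : Sylow 2 G, w ∈ (U : Subgroup G) := fun w hw => by
    obtain ⟨U, hU⟩ := (IsPGroup.of_card (n := 1) (G := Subgroup.zpowers w)
      (by rw [Nat.card_zpowers, hw, pow_one])).exists_le_sylow
    exact ⟨U, hU (Subgroup.mem_zpowers w)⟩
  have hcomm : ∀ a b : G, orderOf a = 2 → orderOf b = 2 → Commute a b →
      ∀ U : Sylow 2 G, a ∈ (U : Subgroup G) → b ∈ (U : Subgroup G) := by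
    intro a b ha hb hab U hU
    have hb' : b ∈ Subgroup.normalizer ((Subgroup.zpowers a : Subgroup G) : Set G) := by
      refine Subgroup.mem_normalizer_iff_map_conj_eq.2 ?_
      rw [MonoidHom.map_zpowers]
      congr 1
      show b * a * b⁻¹ = a
      rw [hab.symm.eq, mul_inv_cancel_right]
    have hp : IsPGroup 2 ↥(Subgroup.zpowers b ⊔ Subgroup.zpowers a) :=
      (IsPGroup.of_card (n := 1) (by rw [Nat.card_zpowers, hb, pow_one])).to_sup_of_normal_right'
        (IsPGroup.of_card (n := 1) (by rw [Nat.card_zpowers, ha, pow_one])) (Subgroup.zpowers_le.2 hb')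
    obtain ⟨V, hV⟩ := hp.exists_le_sylow
    rw [hTI' U V a (Invol.ne_one ha) hU (hV (Subgroup.mem_sup_right (Subgroup.mem_zpowers a)))]
    exact hV (Subgroup.mem_sup_left (Subgroup.mem_zpowers b))
  have hnonconj : ∀ a b : G, orderOf a = 2 → orderOf b = 2 → ¬ IsConj a b →
      ∀ U : Sylow 2 G, a ∈ (U : Subgroup G) → b ∈ (U : Subgroup G) := by
    intro a b ha hb hne U hU
    obtain ⟨-, z, hz, hza, hzb, -⟩ := Invol.exists_central_of_not_isConj ha hb hne
    exact hcomm z b hz hb hzb U (hcomm a z ha hz hza.symm U hU)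
  obtain ⟨U, hU⟩ := hsyl s hs
  have hUt := hnonconj s t hs ht hst U hU
  obtain ⟨V, hV⟩ : ∃ V : Sylow 2 G, V ≠ U := by
    by_contra hall
    push Not at hall
    apply hnn
    have : Subsingleton (Sylow 2 G) := ⟨fun A B => (hall A).trans (hall B).symm⟩
    exact T.normal_of_subsingleton
  obtain ⟨v, hvV, hv⟩ : ∃ v ∈ (V : Subgroup G), orderOf v = 2 := by
    obtain ⟨g, hg⟩ := Invol.exists_sylow_conj_mem V hs
    exact ⟨g * s * g⁻¹, hg, (Invol.orderOf_conj g s).trans hs⟩
  have hnotU : v ∉ (U : Subgroup G) := fun h => hV (hTI' V U v (Invol.ne_one hv) hvV h)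
  have h1 : IsConj s v := by_contra fun h => hnotU (hnonconj s v hs hv h U hU)
  have h2 : IsConj t v := by_contra fun h => hnotU (hnonconj t v ht hv h U hUt)
  exact hst (h1.trans h2.symm)

end Cfsg.Agent.S0231
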