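import Cfsg.Statements.S3053
import Cfsg.Agent.Fusion.Extraspecial
import Cfsg.Agent.Coprime.SchurZassenhaus

set_option autoImplicit false
open Cfsg

namespace Cfsg.Agent.S3053

open Subgroup
open scoped commutatorElement Pointwise

theorem mul_pow_class_two {H : Type*} [Group H] {a b : H} (hc : ∀ g : H, g * ⁅b, a⁆ = ⁅b, a⁆ * g) :
    ∀ n : ℕ, (a * b) ^ n = a ^ n * b ^ n * ⁅b, a⁆ ^ n.choose 2 := by
  have hba : b * a = a * b * ⁅b, a⁆ := by
    rw [hc (a * b), commutatorElement_def]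
    group
  generalize ⁅b, a⁆ = c at hc hba ⊢
  have hcm : ∀ g : H, ∀ k : ℕ, g * c ^ k = c ^ k * g := fun g k =>
    ((show Commute g c from hc g).pow_right k).eq
  have hswap : ∀ m : ℕ, b ^ m * a = a * b ^ m * c ^ m := by
    intro m
    induction m with
    | zero => simp
    | succ m ih =>
      calc b ^ (m + 1) * a = b * (b ^ m * a) := by rw [pow_succ', mul_assoc]
        _ = (b * a) * b ^ m * c ^ m := by rw [ih]; simp only [mul_assoc]
        _ = a * b * (c * b ^ m) * c ^ m := by rw [hba]; simp only [mul_assoc]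
        _ = a * (b * b ^ m) * (c * c ^ m) := by rw [← hc (b ^ m)]; simp only [mul_assoc]
        _ = a * b ^ (m + 1) * c ^ (m + 1) := by rw [← pow_succ', ← pow_succ']
  intro n
  induction n with
  | zero => simp
  | succ n ih =>
    rw [pow_succ (a * b), ih, Nat.choose_succ_succ', Nat.choose_one_right]
    calc a ^ n * b ^ n * c ^ n.choose 2 * (a * b)
        = a ^ n * (b ^ n * a) * b * c ^ n.choose 2 := by
          rw [mul_assoc (a ^ n * b ^ n), ← hcm (a * b)]; simp only [mul_assoc]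
      _ = a ^ n * (a * b ^ n * c ^ n) * b * c ^ n.choose 2 := by rw [hswap n]
      _ = a ^ n * a * (b ^ n * (c ^ n * b)) * c ^ n.choose 2 := by simp only [mul_assoc]
      _ = (a ^ n * a) * (b ^ n * b) * (c ^ n * c ^ n.choose 2) := by rw [← hcm b n]; simp only [mul_assoc]
      _ = _ := by rw [← pow_succ, ← pow_succ, ← pow_add]

/-- The facts used about extraspecial groups of order `p³` and exponent `p²`. -/
structure Setting {G : Type*} [Group G] (p : ℕ) (P : Subgroup G) (Z : Subgroup G) : Prop where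
  le : Z ≤ P
  card : Nat.card Z = p
  central : ∀ z ∈ Z, ∀ x ∈ P, x * z = z * x
  center : ∀ x ∈ P, (∀ y ∈ P, y * x = x * y) → x ∈ Z
  comm : ∀ x ∈ P, ∀ y ∈ P, ⁅x, y⁆ ∈ Z
  pow_mem : ∀ x ∈ P, x ^ p ∈ Z
  mul_pow : ∀ x ∈ P, ∀ y ∈ P, (x * y) ^ p = x ^ p * y ^ p
  exists_pow : ∃ x ∈ P, x ^ p ≠ 1

variable {G : Type*} [Group G] {p : ℕ} {P Z : Subgroup G}

/-- The subgroup of elements of order at most `p`. -/
def omega (h : Setting p P Z) : Subgroup G where
  carrier := {x | x ∈ P ∧ x ^ p = 1}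
  one_mem' := ⟨one_mem P, one_pow p⟩
  mul_mem' := fun {a b} ha hb => ⟨mul_mem ha.1 hb.1, by rw [h.mul_pow a ha.1 b hb.1, ha.2, hb.2, one_mul]⟩
  inv_mem' := fun {a} ha => ⟨inv_mem ha.1, by rw [inv_pow, ha.2, inv_one]⟩

variable [Fact p.Prime] [Finite G]

theorem Z_eq (h : Setting p P Z) {z : G} (hz : z ∈ Z) (h1 : z ≠ 1) : zpowers z = Z :=
  eq_of_le_of_card_ge (zpowers_le.2 hz) (by
    have hd : orderOf z ∣ p := h.card ▸ (orderOf_mk z hz ▸ orderOf_dvd_natCard (⟨z, hz⟩ : Z))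
    rcases (Nat.dvd_prime Fact.out).1 hd with e | e
    · exact absurd (orderOf_eq_one_iff.1 e) h1
    · rw [Nat.card_zpowers, e, h.card])

theorem Z_pow (h : Setting p P Z) {z : G} (hz : z ∈ Z) : z ^ p = 1 := by
  rw [← h.card]
  exact congrArg Subtype.val (pow_card_eq_one' (x := (⟨z, hz⟩ : Z)))

theorem card_omega (h : Setting p P Z) (hP : Nat.card P = p ^ 3) : Nat.card (omega h) = p ^ 2 := by
  let f : P →* Z :=
    { toFun := fun x => ⟨(x : G) ^ p, h.pow_mem x x.2⟩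
      map_one' := Subtype.ext (one_pow p)
      map_mul' := fun a b => Subtype.ext (h.mul_pow a a.2 b b.2) }
  have hsurj : Function.Surjective f := by
    obtain ⟨x, hx, hx1⟩ := h.exists_pow
    intro w
    have hw : (w : G) ∈ zpowers (x ^ p) := by rw [Z_eq h (h.pow_mem x hx) hx1]; exact w.2
    obtain ⟨k, hk⟩ := mem_zpowers_iff.1 hw
    refine ⟨⟨x, hx⟩ ^ k, Subtype.ext ?_⟩
    rw [map_zpow]
    exact hk
  have hk : f.ker.map P.subtype = omega h := by
    ext x
    constructor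
    · rintro ⟨w, hw, rfl⟩
      exact ⟨w.2, congrArg Subtype.val (MonoidHom.mem_ker.1 hw)⟩
    · exact fun hx => ⟨⟨x, hx.1⟩, MonoidHom.mem_ker.2 (Subtype.ext hx.2), rfl⟩
  have h1 := f.ker.card_mul_index
  rw [Subgroup.index_ker, MonoidHom.range_eq_top.2 hsurj, card_top, h.card,
    ← card_map_of_injective P.subtype_injective, hk, hP, pow_succ p 2] at h1
  exact Nat.eq_of_mul_eq_mul_right (Nat.Prime.pos Fact.out) h1

theorem omega_comm (h : Setting p P Z) (hP : Nat.card P = p ^ 3) :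
    ∀ a ∈ omega h, ∀ b ∈ omega h, a * b = b * a := by
  intro a ha b hb
  have := IsPGroup.commutative_of_card_eq_prime_sq (card_omega h hP) (⟨a, ha⟩ : omega h) ⟨b, hb⟩
  exact congrArg Subtype.val this

theorem exists_shift (h : Setting p P Z) {y : G} (hy : y ∈ P) (hyZ : y ∉ Z) {z : G} (hz : z ∈ Z) :
    ∃ u ∈ P, u * y * u⁻¹ = y * z := by
  obtain ⟨x, hx, hxy⟩ : ∃ x ∈ P, x * y ≠ y * x := by
    by_contra hno
    push Not at hno
    exact hyZ (h.center y hy hno)
  set c := x * y * x⁻¹ * y⁻¹ with hc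
  have hcZ : c ∈ Z := by rw [hc, ← commutatorElement_def]; exact h.comm x hx y hy
  have hc1 : c ≠ 1 := fun hh => hxy (by rw [hc, mul_inv_eq_one, mul_inv_eq_iff_eq_mul] at hh; exact hh)
  have hz' : z ∈ zpowers c := by rwa [Z_eq h hcZ hc1]
  have hfin : IsOfFinOrder c := isOfFinOrder_of_finite c
  rw [← hfin.mem_powers_iff_mem_zpowers, Submonoid.mem_powers_iff] at hz'
  obtain ⟨m, rfl⟩ := hz'
  refine ⟨x ^ m, pow_mem hx m, ?_⟩
  clear hfin hc1
  induction m with
  | zero => simp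
  | succ m ih =>
    have hxc : x * c ^ m = c ^ m * x := (h.central _ (pow_mem hcZ m) x hx)
    have hyc : y * c = c * y := h.central _ hcZ y hy
    rw [pow_succ' x, mul_inv_rev, show x * x ^ m * y * ((x ^ m)⁻¹ * x⁻¹) = x * (x ^ m * y * (x ^ m)⁻¹) * x⁻¹ by group,
      ih (pow_mem hcZ m)]
    calc x * (y * c ^ m) * x⁻¹ = (x * y * x⁻¹) * (x * c ^ m * x⁻¹) := by group
      _ = (c * y) * c ^ m := by rw [hxc, mul_inv_cancel_right, hc]; group
      _ = y * c ^ (m + 1) := by rw [← hyc, mul_assoc, ← pow_succ']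

omit [Fact p.Prime] [Finite G] in
theorem Setting.map (h : Setting p P Z) (g : G) :
    Setting p (P.map (MulAut.conj g).toMonoidHom) (Z.map (MulAut.conj g).toMonoidHom) where
  le := map_mono h.le
  card := by rw [card_map_of_injective (MulAut.conj g).injective, h.card]
  central := by
    rintro _ ⟨z, hz, rfl⟩ _ ⟨x, hx, rfl⟩
    rw [← map_mul, ← map_mul, h.central z hz x hx]
  center := by
    rintro _ ⟨x, hx, rfl⟩ hc
    refine ⟨x, h.center x hx fun y hy => (MulAut.conj g).injective ?_, rfl⟩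
    have := hc _ ⟨y, hy, rfl⟩
    rw [← map_mul, ← map_mul] at this
    exact this
  comm := by
    rintro _ ⟨x, hx, rfl⟩ _ ⟨y, hy, rfl⟩
    exact ⟨_, h.comm x hx y hy, map_commutatorElement _ _ _⟩
  pow_mem := by
    rintro _ ⟨x, hx, rfl⟩
    exact ⟨_, h.pow_mem x hx, map_pow _ _ _⟩
  mul_pow := by
    rintro _ ⟨x, hx, rfl⟩ _ ⟨y, hy, rfl⟩
    rw [← map_mul, ← map_pow, h.mul_pow x hx y hy, map_mul, map_pow, map_pow]
  exists_pow := by
    obtain ⟨x, hx, hx1⟩ := h.exists_pow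
    exact ⟨_, ⟨x, hx, rfl⟩, fun hh => hx1 ((MulAut.conj g).injective (by rw [map_pow, map_one]; exact hh))⟩

theorem main (hp : p ≠ 2) (S : Sylow p G) (h : Setting p (S : Subgroup G) Z)
    (hS : Nat.card S = p ^ 3) {z g : G} (hz : z ∈ Z) (hy : g * z * g⁻¹ ∈ S) : g * z * g⁻¹ ∈ Z := by
  classical
  by_contra hyZ
  set y := g * z * g⁻¹ with hydef
  have hz1 : z ≠ 1 := fun e => hyZ (by rw [hydef, e, mul_one, mul_inv_cancel]; exact one_mem _)
  set E := omega h with hE
  have hE2 := card_omega h hS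
  have hEc := omega_comm h hS
  have hyE : y ∈ E := ⟨hy, by rw [hydef, conj_pow, Z_pow h hz, mul_one, mul_inv_cancel]⟩
  have hzE : z ∈ E := ⟨h.le hz, Z_pow h hz⟩
  have hEP : E ≤ S := fun x hx => hx.1
  set C := centralizer ({y} : Set G) with hC
  have hgC : ((g • S : Sylow p G) : Subgroup G) ≤ C := by
    rw [Sylow.coe_subgroup_smul, Coprime.conj_smul_eq_map]
    rintro _ ⟨x, hx, rfl⟩
    rw [hC, mem_centralizer_singleton_iff, hydef]
    show g * x * g⁻¹ * (g * z * g⁻¹) = g * z * g⁻¹ * (g * x * g⁻¹)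
    calc g * x * g⁻¹ * (g * z * g⁻¹) = g * (x * z) * g⁻¹ := by group
      _ = g * (z * x) * g⁻¹ := by rw [h.central z hz x hx]
      _ = _ := by group
  have hEC : E ≤ C := fun x hx => mem_centralizer_singleton_iff.2 (hEc x hx y hyE)
  obtain ⟨Q, hQ⟩ := ((IsPGroup.of_card hE2).comap_of_injective C.subtype C.subtype_injective).exists_le_sylow
  obtain ⟨c, hcQ⟩ := MulAction.exists_smul_eq C ((g • S : Sylow p G).subtype hgC) Q
  set k := (c : G) * g with hk
  have hEk : ∀ e ∈ E, k⁻¹ * e * k ∈ S := by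
    intro e he
    have h1 : (⟨e, hEC he⟩ : C) ∈ Q := hQ (mem_subgroupOf.2 he)
    rw [← hcQ] at h1
    have h1' : (⟨e, hEC he⟩ : C) ∈ MulAut.conj c • (((g • S : Sylow p G).subtype hgC) : Subgroup C) := h1
    rw [Subgroup.mem_pointwise_smul_iff_inv_smul_mem] at h1'
    have h2 : (c : G)⁻¹ * e * c ∈ ((g • S : Sylow p G) : Subgroup G) := by
      simpa [MulAut.smul_def, mem_subgroupOf] using h1'
    rw [Sylow.coe_subgroup_smul, Coprime.conj_smul_eq_map] at h2
    obtain ⟨x, hx, hxe⟩ := h2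
    have hxe' : g * x * g⁻¹ = (c : G)⁻¹ * e * c := hxe
    rw [hk, show ((c : G) * g)⁻¹ * e * ((c : G) * g) = g⁻¹ * ((c : G)⁻¹ * e * c) * g by group, ← hxe',
      show g⁻¹ * (g * x * g⁻¹) * g = x by group]
    exact hx
  have hyk : k * z * k⁻¹ = y := by
    rw [hk, show (c : G) * g * z * ((c : G) * g)⁻¹ = (c : G) * (g * z * g⁻¹) * (c : G)⁻¹ by group,
      ← hydef, mem_centralizer_singleton_iff.1 c.2, mul_inv_cancel_right]
  have hk' := h.map k
  have hnormE : ∀ x ∈ (S : Subgroup G), ∀ e ∈ E, x * e * x⁻¹ ∈ E := fun x hx e he =>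
    ⟨mul_mem (mul_mem hx he.1) (inv_mem hx), by rw [conj_pow, he.2, mul_one, mul_inv_cancel]⟩
  have heq : E = omega hk' := by
    refine eq_of_le_of_card_ge (fun e he => ?_) ?_
    · exact ⟨⟨k⁻¹ * e * k, hEk e he, show k * (k⁻¹ * e * k) * k⁻¹ = e by group⟩, he.2⟩
    · rw [hE2, card_omega hk' ((card_map_of_injective (MulAut.conj k).injective).trans hS)]
  have hzZ' : y ∈ Z.map (MulAut.conj k).toMonoidHom := ⟨z, hz, hyk⟩
  have hy1 : y ≠ 1 := fun e => hyZ (e ▸ one_mem _)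
  have hzk : z ∉ Z.map (MulAut.conj k).toMonoidHom := by
    intro hzk
    apply hyZ
    rw [← Z_eq h hz hz1, Z_eq hk' hzk hz1]
    exact hzZ'
  have hzS' : z ∈ (S : Subgroup G).map (MulAut.conj k).toMonoidHom :=
    ⟨k⁻¹ * z * k, hEk z hzE, show k * (k⁻¹ * z * k) * k⁻¹ = z by group⟩
  obtain ⟨u, hu, huy⟩ := exists_shift h hy hyZ hz
  obtain ⟨v, hv, hvz⟩ := exists_shift hk' hzS' hzk hzZ'
  have huz : u * z * u⁻¹ = z := by rw [h.central z hz u hu, mul_inv_cancel_right]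
  have hvy : v⁻¹ * y * v = y := by
    rw [mul_assoc, ← hk'.central y hzZ' v hv, inv_mul_cancel_left]
  have hyz : y * z = z * y := hEc y hyE z hzE
  have hvz' : v⁻¹ * z * v = z * y⁻¹ := by
    have h' : v⁻¹ * (v * z * v⁻¹) * v = v⁻¹ * (z * y) * v := by rw [hvz]
    rw [show v⁻¹ * (z * y) * v = (v⁻¹ * z * v) * (v⁻¹ * y * v) by group, hvy,
      show v⁻¹ * (v * z * v⁻¹) * v = z by group] at h'
    exact eq_mul_inv_of_mul_eq h'.symm
  set W := u * v⁻¹ * u with hW
  have hWy : W * y * W⁻¹ = z := by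
    rw [hW, show u * v⁻¹ * u * y * (u * v⁻¹ * u)⁻¹ = u * (v⁻¹ * (u * y * u⁻¹) * v) * u⁻¹ by group, huy,
      show v⁻¹ * (y * z) * v = (v⁻¹ * y * v) * (v⁻¹ * z * v) by group, hvy, hvz',
      show u * (y * (z * y⁻¹)) * u⁻¹ = u * ((y * z) * y⁻¹) * u⁻¹ by group, hyz, mul_inv_cancel_right, huz]
  have hWz : W * z * W⁻¹ = y⁻¹ := by
    rw [hW, show u * v⁻¹ * u * z * (u * v⁻¹ * u)⁻¹ = u * (v⁻¹ * (u * z * u⁻¹) * v) * u⁻¹ by group, huz, hvz',
      show u * (z * y⁻¹) * u⁻¹ = (u * z * u⁻¹) * (u * y * u⁻¹)⁻¹ by group, huz, huy]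
    group
  set w := W * W with hw
  have hwz : w * z * w⁻¹ = z⁻¹ := by
    rw [hw, show W * W * z * (W * W)⁻¹ = W * (W * z * W⁻¹) * W⁻¹ by group, hWz,
      show W * y⁻¹ * W⁻¹ = (W * y * W⁻¹)⁻¹ by group, hWy]
  have hwy : w * y * w⁻¹ = y⁻¹ := by
    rw [hw, show W * W * y * (W * W)⁻¹ = W * (W * y * W⁻¹) * W⁻¹ by group, hWy, hWz]
  have hinv : ∀ e ∈ E, w * e * w⁻¹ = e⁻¹ := by
    let I : Subgroup G :=
      { carrier := {e | e ∈ E ∧ w * e * w⁻¹ = e⁻¹}
        one_mem' := ⟨one_mem E, by group⟩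
        mul_mem' := fun {a b} ha hb => ⟨mul_mem ha.1 hb.1, by
          rw [show w * (a * b) * w⁻¹ = (w * a * w⁻¹) * (w * b * w⁻¹) by group, ha.2, hb.2,
            ← mul_inv_rev, hEc b hb.1 a ha.1]⟩
        inv_mem' := fun {a} ha => ⟨inv_mem ha.1, by
          rw [show w * a⁻¹ * w⁻¹ = (w * a * w⁻¹)⁻¹ by group, ha.2]⟩ }
    have hIE : I ≤ E := fun e he => he.1
    obtain ⟨j, hj, hjI⟩ := (Nat.dvd_prime_pow Fact.out).1 (hE2 ▸ card_dvd_of_le hIE)
    have hj2 : j = 2 := by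
      by_contra hne
      have hle : Nat.card I ≤ p := hjI ▸
        (Nat.pow_le_pow_right (Nat.Prime.pos Fact.out) (show j ≤ 1 by omega)).trans (pow_one p).le
      have hZI : zpowers z = I := eq_of_le_of_card_ge (zpowers_le.2 ⟨hzE, hwz⟩)
        (by rw [Z_eq h hz hz1, h.card]; exact hle)
      apply hyZ
      rw [← Z_eq h hz hz1, hZI]
      exact ⟨hyE, hwy⟩
    intro e he
    rw [← eq_of_le_of_card_ge hIE (by rw [hjI, hj2, hE2])] at he
    exact he.2
  have hinv' : ∀ e ∈ E, w⁻¹ * e * w = e⁻¹ := by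
    intro e he
    have h2 := hinv e⁻¹ (inv_mem he)
    rw [inv_inv] at h2
    calc w⁻¹ * e * w = w⁻¹ * (w * e⁻¹ * w⁻¹) * w := by rw [h2]
      _ = e⁻¹ := by group
  obtain ⟨x, hxS, hx1⟩ := h.exists_pow
  set D := centralizer (E : Set G) with hD
  have hxE : ∀ e ∈ E, x⁻¹ * e * x ∈ E := fun e he => by simpa using hnormE x⁻¹ (inv_mem hxS) e he
  have hxD : ∀ d ∈ D, x * d * x⁻¹ ∈ D := fun d hd => mem_centralizer_iff.2 fun e he => by
    have h' := mem_centralizer_iff.1 hd _ (hxE e he)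
    calc e * (x * d * x⁻¹) = x * ((x⁻¹ * e * x) * d) * x⁻¹ := by group
      _ = x * (d * (x⁻¹ * e * x)) * x⁻¹ := by rw [h']
      _ = x * d * x⁻¹ * e := by group
  set c₀ := w * x * w⁻¹ * x⁻¹ with hc₀
  have hc₀D : c₀ ∈ D := mem_centralizer_iff.2 fun e he => by
    have h4 : c₀ * e * c₀⁻¹ = e := by
      rw [hc₀, show w * x * w⁻¹ * x⁻¹ * e * (w * x * w⁻¹ * x⁻¹)⁻¹
        = w * (x * (w⁻¹ * (x⁻¹ * e * x) * w) * x⁻¹) * w⁻¹ by group, hinv' _ (hxE e he),
        show x * (x⁻¹ * e * x)⁻¹ * x⁻¹ = e⁻¹ by group, hinv _ (inv_mem he), inv_inv]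
    exact (mul_inv_eq_iff_eq_mul.1 h4).symm
  have hED : E ≤ D := fun e he => mem_centralizer_iff.2 fun f hf => hEc f hf e he
  set n := E.relIndex D with hn
  have hnp : ¬ p ∣ n := by
    intro hd
    have h3 : p ^ 3 ∣ Nat.card D := by
      have h' := relIndex_mul_relIndex ⊥ E D bot_le hED
      rw [relIndex_bot_left, relIndex_bot_left, hE2] at h'
      rw [← h', pow_succ]
      exact Nat.mul_dvd_mul_left _ hd
    obtain ⟨R, hR⟩ := Sylow.exists_subgroup_card_pow_prime p h3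
    obtain ⟨R', hR'⟩ := ((IsPGroup.of_card hR).map D.subtype).exists_le_sylow
    have hR'eq : R.map D.subtype = R' := eq_of_le_of_card_ge hR' (by
      rw [card_map_of_injective D.subtype_injective, hR, Sylow.card_eq_multiplicity,
        ← S.card_eq_multiplicity, hS])
    obtain ⟨m, rfl⟩ := MulAction.exists_smul_eq G S R'
    have hS' : ((m • S : Sylow p G) : Subgroup G) ≤ D := hR'eq ▸ map_subtype_le R
    have hmS : ∀ r ∈ (S : Subgroup G), m * r * m⁻¹ ∈ ((m • S : Sylow p G) : Subgroup G) := fun r hr => by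
      rw [Sylow.coe_subgroup_smul, Coprime.conj_smul_eq_map]
      exact ⟨r, hr, rfl⟩
    have hEle : E ≤ Z.map (MulAut.conj m).toMonoidHom := by
      intro e he
      have h4 : E ⊔ ((m • S : Sylow p G) : Subgroup G) = ((m • S : Sylow p G) : Subgroup G) := by
        refine (m • S).3 ?_ le_sup_right
        exact IsPGroup.to_sup_of_normal_left' (IsPGroup.of_card hE2) (m • S).2
          (hS'.trans (centralizer_le_normalizer _))
      have h5 : e ∈ ((m • S : Sylow p G) : Subgroup G) := h4 ▸ mem_sup_left he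
      rw [Sylow.coe_subgroup_smul, Coprime.conj_smul_eq_map] at h5
      obtain ⟨r, hr, rfl⟩ := h5
      refine ⟨r, h.center r hr fun q hq => ?_, rfl⟩
      have h6 := mem_centralizer_iff.1 (hS' (hmS q hq)) _ he
      change m * r * m⁻¹ * (m * q * m⁻¹) = m * q * m⁻¹ * (m * r * m⁻¹) at h6
      calc q * r = m⁻¹ * (m * q * m⁻¹ * (m * r * m⁻¹)) * m := by group
        _ = m⁻¹ * (m * r * m⁻¹ * (m * q * m⁻¹)) * m := by rw [h6]
        _ = r * q := by group
    have h7 := Subgroup.card_le_of_le hEle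
    rw [hE2, card_map_of_injective (MulAut.conj m).injective, h.card] at h7
    have := (Fact.out : p.Prime).one_lt
    nlinarith
  have hEcen : E.subgroupOf D ≤ center D := fun e he => mem_center_iff.2 fun d =>
    Subtype.ext (mem_centralizer_iff.1 d.2 _ (mem_subgroupOf.1 he)).symm
  have hpowE : ∀ d ∈ D, d ^ n ∈ E := by
    intro d hd
    have : (E.subgroupOf D).Normal := ⟨fun a ha g => by
      rw [(mem_center_iff.1 (hEcen ha) g), mul_inv_cancel_right]; exact ha⟩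
    exact mem_subgroupOf.1 ((E.subgroupOf D).pow_index_mem (⟨d, hd⟩ : D))
  have hpowmul : ∀ a ∈ D, ∀ b ∈ D, (a * b) ^ n = a ^ n * b ^ n := by
    intro a ha b hb
    obtain ⟨l, hl⟩ : (center D).index ∣ n := Dvd.intro_left _ (relIndex_mul_index hEcen)
    have key : ((⟨a, ha⟩ : D) * ⟨b, hb⟩) ^ n = (⟨a, ha⟩ : D) ^ n * ⟨b, hb⟩ ^ n := by
      have h := congrArg Subtype.val (map_mul (MonoidHom.transferCenterPow D) (⟨a, ha⟩ : D) ⟨b, hb⟩)
      simp only [Subgroup.coe_mul, MonoidHom.transferCenterPow_apply] at h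
      rw [hl, pow_mul, pow_mul, pow_mul, h, Commute.mul_pow]
      exact (mem_center_iff.1 (by
        rw [← MonoidHom.transferCenterPow_apply]; exact SetLike.coe_mem _) _)
    exact congrArg Subtype.val key
  set e₀ := c₀ ^ n with he₀
  have hF : ∀ i : ℕ, (c₀ * x) ^ i * (x ^ i)⁻¹ ∈ D ∧
      ((c₀ * x) ^ i * (x ^ i)⁻¹) ^ n = (e₀ * x) ^ i * (x ^ i)⁻¹ := by
    intro i
    induction i with
    | zero => simp
    | succ i ih =>
      have e1 : ∀ a : G, (a * x) ^ (i + 1) * (x ^ (i + 1))⁻¹ = a * (x * ((a * x) ^ i * (x ^ i)⁻¹) * x⁻¹) :=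
        fun a => by rw [pow_succ' (a * x), pow_succ' x]; group
      rw [e1, e1]
      refine ⟨mul_mem hc₀D (hxD _ ih.1), ?_⟩
      rw [hpowmul _ hc₀D _ (hxD _ ih.1), conj_pow, ih.2]
  have h8 := (hF p).2
  have he₀E : e₀ ∈ E := hpowE _ hc₀D
  rw [h.mul_pow e₀ he₀E.1 x hxS, he₀E.2, one_mul, mul_inv_cancel, hc₀, inv_mul_cancel_right, conj_pow,
    hinv _ ⟨h.le (h.pow_mem x hxS), Z_pow h (h.pow_mem x hxS)⟩, ← pow_two, inv_pow, inv_pow, ← pow_mul,
    inv_eq_one] at h8
  have h9 : (x ^ p) ^ p = 1 := Z_pow h (h.pow_mem x hxS)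
  have hcop : Nat.Coprime p (2 * n) := by
    refine (Nat.Prime.coprime_iff_not_dvd Fact.out).2 fun hd => ?_
    rcases (Nat.Prime.dvd_mul Fact.out).1 hd with h2 | h2
    · exact hp ((Nat.prime_dvd_prime_iff_eq Fact.out Nat.prime_two).1 h2)
    · exact hnp h2
  have h10 := pow_gcd_eq_one.2 ⟨h9, h8⟩
  rw [hcop, pow_one] at h10
  exact hx1 h10


/-- Let p be an odd prime and G a finite group with a Sylow p-subgroup P that is extraspecial of order p³ and exponent p². Then the centre of P is strongly closed in P with respect to G: a G-conjugate of an element of Z(P) that lies in P already lies in Z(P). In particular a nontrivial central element of P is conjugate in G to no noncentral element of P. -/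
theorem result {G : Type*} [Group G] [Finite G]
    {p : ℕ} [Fact p.Prime] (hp : p ≠ 2) (P : Sylow p G) (hE : Cfsg.IsExtraspecial p ↥P)
    (hcard : Nat.card P = p ^ 3) (hexp : Monoid.exponent ↥P = p ^ 2) :
    Cfsg.IsStronglyClosed ((Subgroup.center ↥P).map (P : Subgroup G).subtype) (P : Subgroup G) := by
  classical
  have hS : Setting p (P : Subgroup G) ((center ↥P).map (P : Subgroup G).subtype) := by
    refine ⟨map_subtype_le _, (card_map_of_injective (P : Subgroup G).subtype_injective).trans hE.2, ?_, ?_, ?_, ?_, ?_, ?_⟩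
    · rintro _ ⟨z, hz, rfl⟩ x hx
      exact congrArg Subtype.val (mem_center_iff.1 hz ⟨x, hx⟩)
    · intro x hx hc
      exact ⟨⟨x, hx⟩, mem_center_iff.2 fun y => Subtype.ext (hc y y.2), rfl⟩
    · intro x hx y hy
      exact ⟨_, Fusion.es_commutator_mem hE ⟨x, hx⟩ ⟨y, hy⟩, map_commutatorElement (P : Subgroup G).subtype _ _⟩
    · intro x hx
      exact ⟨_, Fusion.es_pow_mem_center hE ⟨x, hx⟩, rfl⟩
    · intro x hx y hy
      have hc := Fusion.es_commutator_mem hE ⟨y, hy⟩ ⟨x, hx⟩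
      have h1 := mul_pow_class_two (a := (⟨x, hx⟩ : P)) (b := ⟨y, hy⟩) (mem_center_iff.1 hc) p
      obtain ⟨l, hl⟩ : p ∣ p.choose 2 := Nat.Prime.dvd_choose_self Fact.out two_ne_zero
        (lt_of_le_of_ne (Fact.out : p.Prime).two_le (Ne.symm hp))
      rw [hl, pow_mul, Fusion.es_center_pow hE hc, one_pow, mul_one] at h1
      exact congrArg Subtype.val h1
    · by_contra hno
      push Not at hno
      have h1 : Monoid.exponent ↥P ∣ p :=
        Monoid.exponent_dvd_of_forall_pow_eq_one fun x => Subtype.ext (hno x x.2)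
      rw [hexp] at h1
      have := Nat.le_of_dvd (Fact.out : p.Prime).pos h1
      have := (Fact.out : p.Prime).one_lt
      nlinarith
  exact ⟨map_subtype_le _, fun z hz g hg => main hp P hS hcard hz hg⟩

end Cfsg.Agent.S3053
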