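import Cfsg.Statements.S5318
import Cfsg.Agent.GroupSub.GL2Two
import Cfsg.Agent.GroupSub.SL3Invol
import Cfsg.Agent.GroupSub.Quotient

set_option autoImplicit false
open Cfsg

namespace Cfsg.Agent.S5318

open Matrix GroupSub.GL2Two

section

variable {F : Type*} [Field F]

local notation "G2" => GL (Fin 2) F
local notation "G3" => Matrix.SpecialLinearGroup (Fin 3) F
local notation:1024 "↥₂" A:1024 => ((A : GL (Fin 2) F) : Matrix (Fin 2) (Fin 2) F)
local notation:1024 "↥₃" A:1024 => ((A : Matrix.SpecialLinearGroup (Fin 3) F) : Matrix (Fin 3) (Fin 3) F)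

theorem two_ne_zero' [Fintype F] (hodd : Fintype.card F % 2 = 1) : (2 : F) ≠ 0 := fun h => by
  haveI : CharP F 2 := CharTwo.of_one_ne_zero_of_two_eq_zero one_ne_zero h
  have := FiniteField.even_card_of_char_two (ringChar.eq F 2)
  omega

/-- The matrix of the embedding. -/
noncomputable def iotaMat (g : G2) : Matrix (Fin 3) (Fin 3) F :=
  !![(↥₂ g) 0 0, (↥₂ g) 0 1, 0; (↥₂ g) 1 0, (↥₂ g) 1 1, 0; 0, 0, (↥₂ g).det⁻¹]

theorem iotaMat_det (g : G2) : (iotaMat g).det = 1 := by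
  rw [Matrix.det_fin_three]
  simp [iotaMat]
  have h : (↥₂ g) 0 0 * (↥₂ g) 1 1 - (↥₂ g) 0 1 * (↥₂ g) 1 0 ≠ 0 := det_ne g
  rw [det_fin_two, ← sub_mul]
  exact mul_inv_cancel₀ h

/-- The embedding of GL(2) into SL(3). -/
noncomputable def iota : G2 →* G3 where
  toFun g := ⟨iotaMat g, iotaMat_det g⟩
  map_one' := Subtype.ext (by ext a b; fin_cases a <;> fin_cases b <;> simp [iotaMat])
  map_mul' g h := Subtype.ext (by
    show iotaMat (g * h) = iotaMat g * iotaMat h
    have hd : (↥₂(g * h)).det = (↥₂ g).det * (↥₂ h).det := by rw [Units.val_mul, Matrix.det_mul]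
    ext a b
    fin_cases a <;> fin_cases b <;>
      simp [iotaMat, hd, Matrix.mul_apply, Fin.sum_univ_three, Fin.sum_univ_two, mul_comm])

theorem coe_iota (g : G2) : ↥₃(iota g) = iotaMat g := rfl

theorem iota_injective : Function.Injective (iota (F := F)) := by
  intro g h e
  have e' : iotaMat g = iotaMat h := congrArg (fun A : G3 => ↥₃ A) e
  refine Units.ext ?_
  ext a b
  have h00 := congrFun (congrFun e' 0) 0
  have h01 := congrFun (congrFun e' 0) 1
  have h10 := congrFun (congrFun e' 1) 0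
  have h11 := congrFun (congrFun e' 1) 1
  fin_cases a <;> fin_cases b
  exacts [by simpa [iotaMat] using h00, by simpa [iotaMat] using h01, by simpa [iotaMat] using h10,
    by simpa [iotaMat] using h11]

variable (F) in
/-- The scalar `-1` of GL(2). -/
noncomputable def zG : G2 := GroupSub.GL2Two.J F * GroupSub.GL2Two.J F

theorem coe_zG : ↥₂(zG F) = -1 := by
  ext a b; fin_cases a <;> fin_cases b <;> simp [zG, Matrix.mul_apply, Fin.sum_univ_two]

theorem zG_mem : zG F ∈ Qs F := Or.inl (mul_mem J_mem_QK J_mem_QK)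

theorem zG_sq : zG F * zG F = 1 := by
  refine Units.ext ?_
  rw [Units.val_mul, coe_zG, neg_mul_neg, one_mul, Units.val_one]

theorem zG_ne (h2 : (2 : F) ≠ 0) : zG F ≠ 1 := fun h => by
  have e := congrFun (congrFun (congrArg (fun A : G2 => ↥₂ A) h) 0) 0
  simp only [coe_zG] at e
  simp at e
  exact h2 (by linear_combination -e)

theorem coe_iota_zG : ↥₃(iota (zG F)) = Matrix.diagonal ![-1, -1, 1] := by
  rw [coe_iota]
  ext a b
  fin_cases a <;> fin_cases b <;> simp [iotaMat, coe_zG, Matrix.det_neg]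

theorem exists_iota_of_comm (h2 : (2 : F) ≠ 0) {x : G3} (hx : x * iota (zG F) = iota (zG F) * x) :
    ∃ g : G2, iota g = x := by
  have h : ↥₃ x * Matrix.diagonal ![-1, -1, 1] = Matrix.diagonal ![-1, -1, 1] * ↥₃ x := by
    rw [← coe_iota_zG]; exact congrArg (fun A : G3 => ↥₃ A) hx
  have hz : ∀ a b, (↥₃ x) a b * (![-1, -1, 1] : Fin 3 → F) b = (![-1, -1, 1] : Fin 3 → F) a * (↥₃ x) a b := by
    intro a b
    have := congrFun (congrFun h a) b
    rwa [Matrix.mul_diagonal, Matrix.diagonal_mul] at this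
  have hzero : ∀ w : F, -w = w → w = 0 := fun w e =>
    (mul_eq_zero.1 (show (2 : F) * w = 0 by linear_combination -e)).resolve_left h2
  have e02 := hz 0 2
  have e12 := hz 1 2
  have e20 := hz 2 0
  have e21 := hz 2 1
  simp at e02 e12 e20 e21
  have h02 : (↥₃ x) 0 2 = 0 := hzero _ (by linear_combination -e02)
  have h12 : (↥₃ x) 1 2 = 0 := hzero _ (by linear_combination -e12)
  have h20 : (↥₃ x) 2 0 = 0 := hzero _ (by linear_combination e20)
  have h21 : (↥₃ x) 2 1 = 0 := hzero _ (by linear_combination e21)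
  have hdet : (↥₃ x).det = 1 := x.2
  rw [Matrix.det_fin_three, h02, h12, h20, h21] at hdet
  set D := (↥₃ x) 0 0 * (↥₃ x) 1 1 - (↥₃ x) 0 1 * (↥₃ x) 1 0 with hD
  have hDx : D * (↥₃ x) 2 2 = 1 := by rw [hD]; linear_combination hdet
  have hD0 : D ≠ 0 := left_ne_zero_of_mul_eq_one hDx
  let g : G2 := Matrix.GeneralLinearGroup.mkOfDetNeZero !![(↥₃ x) 0 0, (↥₃ x) 0 1; (↥₃ x) 1 0, (↥₃ x) 1 1]
    (by rw [det_fin_two_of]; exact hD0)
  have hg : ↥₂ g = !![(↥₃ x) 0 0, (↥₃ x) 0 1; (↥₃ x) 1 0, (↥₃ x) 1 1] := rfl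
  have h22 : (↥₂ g).det⁻¹ = (↥₃ x) 2 2 := by
    rw [hg, det_fin_two_of, ← hD]; exact inv_eq_of_mul_eq_one_right hDx
  refine ⟨g, Subtype.ext ?_⟩
  show iotaMat g = ↥₃ x
  ext a b
  fin_cases a <;> fin_cases b <;> simp [iotaMat, h22] <;> simp [hg, h02, h12, h20, h21]

theorem invol_conj (h2 : (2 : F) ≠ 0) {x : G3} (hx : x * x = 1) (h1 : x ≠ 1) :
    ∃ g : G3, g * iota (zG F) * g⁻¹ = x :=
  GroupSub.sl3_invol_conj h2 coe_iota_zG hx h1

theorem exists_sylow [Fintype F] (h2 : (2 : F) ≠ 0) :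
    ∃ P : Sylow 2 G3, (P : Subgroup G3) = (Qs F).map iota := by
  haveI : Fact (Nat.Prime 2) := ⟨Nat.prime_two⟩
  obtain ⟨Q, hQ⟩ := exists_sylow_eq_Qs (F := F) h2
  have hp : IsPGroup 2 ((Qs F).map iota) := isPGroup_Qs.map iota
  obtain ⟨P, hP⟩ := hp.exists_le_sylow
  refine ⟨P, (Subgroup.eq_of_le_of_card_ge hP ?_).symm⟩
  rw [Subgroup.card_map_of_injective iota_injective, ← hQ]
  haveI : Nontrivial (P : Subgroup G3) := ⟨⟨⟨_, hP ⟨_, zG_mem, rfl⟩⟩, 1, fun e =>
    zG_ne h2 (iota_injective ((congrArg Subtype.val e).trans (map_one iota).symm))⟩⟩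
  haveI := P.isPGroup'.center_nontrivial
  obtain ⟨k, hk⟩ := IsPGroup.iff_card.1 (P.isPGroup'.to_subgroup (Subgroup.center (P : Subgroup G3)))
  have hdvd : 2 ∣ Nat.card (Subgroup.center (P : Subgroup G3)) := by
    rcases k with _ | k
    · rw [pow_zero] at hk; exact absurd hk Finite.one_lt_card.ne'
    · exact hk ▸ dvd_pow_self 2 k.succ_ne_zero
  obtain ⟨⟨⟨x, hxP⟩, hxC⟩, hord⟩ := exists_prime_orderOf_dvd_card' 2 hdvd
  rw [Subgroup.orderOf_mk, Subgroup.orderOf_mk] at hord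
  have hxx : x * x = 1 := by
    have h := pow_orderOf_eq_one x
    rw [hord, pow_two] at h
    exact h
  obtain ⟨g, hg⟩ := invol_conj h2 hxx (fun e => by rw [e, orderOf_one] at hord; omega)
  have hle : ∀ s ∈ (P : Subgroup G3), ∃ a : G2, iota a = g⁻¹ * s * g := by
    intro s hs
    refine exists_iota_of_comm h2 ?_
    have h : s * x = x * s := congrArg Subtype.val (Subgroup.mem_center_iff.1 hxC ⟨s, hs⟩)
    rw [← hg] at h
    calc g⁻¹ * s * g * iota (zG F) = g⁻¹ * (s * (g * iota (zG F) * g⁻¹)) * g := by group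
      _ = g⁻¹ * (g * iota (zG F) * g⁻¹ * s) * g := by rw [h]
      _ = iota (zG F) * (g⁻¹ * s * g) := by group
  set P' := (P : Subgroup G3).map (MulAut.conj g⁻¹).toMonoidHom with hP'
  have hP'le : P' ≤ (iota (F := F)).range := by
    rintro _ ⟨s, hs, rfl⟩
    obtain ⟨a, ha⟩ := hle s hs
    exact ⟨a, by rw [ha]; simp [MulAut.conj_apply]⟩
  have hP'p : IsPGroup 2 P' := P.isPGroup'.map _
  obtain ⟨R, hR⟩ := (hP'p.comap_of_injective iota iota_injective).exists_le_sylow
  calc Nat.card (P : Subgroup G3) = Nat.card P' :=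
        (Subgroup.card_map_of_injective (MulAut.conj g⁻¹).injective).symm
    _ = Nat.card (P'.comap iota) := by
        conv_lhs => rw [← Subgroup.map_comap_eq_self hP'le]
        exact Subgroup.card_map_of_injective iota_injective
    _ ≤ Nat.card (R : Subgroup G2) := Subgroup.card_le_of_le hR
    _ = Nat.card (Q : Subgroup G2) := Nat.card_congr (Sylow.equiv R Q).toEquiv

theorem center_card_coprime [Fintype F] (h2 : (2 : F) ≠ 0) :
    Nat.Coprime (Nat.card (QuotientGroup.mk' (Subgroup.center G3)).ker) 2 := by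
  haveI : Fact (Nat.Prime 2) := ⟨Nat.prime_two⟩
  rw [QuotientGroup.ker_mk', Nat.coprime_comm, Nat.prime_two.coprime_iff_not_dvd]
  intro hd
  obtain ⟨⟨c, hc⟩, hord⟩ := exists_prime_orderOf_dvd_card' 2 hd
  rw [Subgroup.orderOf_mk] at hord
  obtain ⟨r, hr3, hr⟩ := Matrix.SpecialLinearGroup.mem_center_iff.1 hc
  have hcc : ↥₃ c * ↥₃ c = 1 := by
    have h := pow_orderOf_eq_one c
    rw [hord, pow_two] at h
    exact congrArg (fun A : G3 => ↥₃ A) h
  have h00 := congrFun (congrFun hcc 0) 0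
  rw [← hr] at h00
  simp at h00
  rw [Fintype.card_fin] at hr3
  have hr1 : r = 1 := by linear_combination hr3 - r * h00
  have hc1 : c = 1 := Subtype.ext (by rw [← hr, hr1, map_one]; rfl)
  rw [hc1, orderOf_one] at hord
  omega

/-- An element of the centraliser of `J` with prescribed eigenvalues, given a square root of `-1`. -/
noncomputable def kk (h2 : (2 : F) ≠ 0) (i : F) (hi : i * i = -1) (l m : F) (hl : l ≠ 0) (hm : m ≠ 0) : G2 :=
  Matrix.GeneralLinearGroup.mkOfDetNeZero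
    !![(l + m) / 2, i * (l - m) / 2; -(i * (l - m) / 2), (l + m) / 2]
    (by
      rw [det_fin_two_of]
      intro e
      have e4 : (2 : F) * 2 * (l * m) = 0 := by
        field_simp at e
        linear_combination e - (l - m) ^ 2 * hi
      simp [h2, hl, hm] at e4)

theorem coe_kk (h2 : (2 : F) ≠ 0) (i : F) (hi : i * i = -1) (l m : F) (hl : l ≠ 0) (hm : m ≠ 0) :
    ↥₂(kk h2 i hi l m hl hm) = !![(l + m) / 2, i * (l - m) / 2; -(i * (l - m) / 2), (l + m) / 2] := rfl

theorem kk_mem_cJ (h2 : (2 : F) ≠ 0) (i : F) (hi : i * i = -1) (l m : F) (hl : l ≠ 0) (hm : m ≠ 0) :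
    kk h2 i hi l m hl hm ∈ cJ F :=
  mem_cJ.2 (by simp [coe_kk])

theorem det_kk (h2 : (2 : F) ≠ 0) (i : F) (hi : i * i = -1) (l m : F) (hl : l ≠ 0) (hm : m ≠ 0) :
    (↥₂(kk h2 i hi l m hl hm)).det = l * m := by
  rw [coe_kk, det_fin_two_of]
  field_simp
  linear_combination (l - m) ^ 2 * hi

theorem kk_mul (h2 : (2 : F) ≠ 0) (i : F) (hi : i * i = -1) (l m l' m' : F) (hl : l ≠ 0) (hm : m ≠ 0)
    (hl' : l' ≠ 0) (hm' : m' ≠ 0) :
    kk h2 i hi l m hl hm * kk h2 i hi l' m' hl' hm' =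
      kk h2 i hi (l * l') (m * m') (mul_ne_zero hl hl') (mul_ne_zero hm hm') := by
  refine Units.ext ?_
  rw [Units.val_mul, coe_kk, coe_kk, coe_kk]
  ext a b
  fin_cases a <;> fin_cases b <;> simp [Matrix.mul_apply, Fin.sum_univ_two] <;> field_simp <;>
    first
      | ring1
      | linear_combination (l - m) * (l' - m') * hi
      | linear_combination -(l - m) * (l' - m') * hi

theorem kk_mem_QK (h2 : (2 : F) ≠ 0) (i : F) (hi : i * i = -1) (l m : F) (hl : l ≠ 0) (hm : m ≠ 0)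
    {s : ℕ} (hls : l ^ 2 ^ s = 1) (hms : m ^ 2 ^ s = 1) : kk h2 i hi l m hl hm ∈ QK F := by
  refine ⟨kk_mem_cJ h2 i hi l m hl hm, s, ?_⟩
  have hpow : ∀ n : ℕ, kk h2 i hi l m hl hm ^ n =
      kk h2 i hi (l ^ n) (m ^ n) (pow_ne_zero _ hl) (pow_ne_zero _ hm) := by
    intro n
    induction n with
    | zero =>
      refine Units.ext ?_
      rw [pow_zero, coe_kk, Units.val_one]
      ext a b; fin_cases a <;> fin_cases b <;> simp [one_add_one_eq_two, h2]
    | succ n ih => simp only [pow_succ, ih, kk_mul]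
  rw [hpow]
  refine Units.ext ?_
  rw [coe_kk, hls, hms, Units.val_one]
  ext a b; fin_cases a <;> fin_cases b <;> simp [one_add_one_eq_two, h2]

/-- Eigenvector matrix of `J`. -/
noncomputable def eigC (h2 : (2 : F) ≠ 0) (i : F) (hi : i * i = -1) : G3 :=
  ⟨!![1, 1, 0; -i, i, 0; 0, 0, (2 * i)⁻¹], by
    have hi0 : i ≠ 0 := fun e => by simp [e] at hi
    rw [Matrix.det_fin_three]
    simp
    field_simp
    ring⟩

theorem iota_kk_eigC (h2 : (2 : F) ≠ 0) (i : F) (hi : i * i = -1) (l m : F) (hl : l ≠ 0) (hm : m ≠ 0) :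
    ↥₃(iota (kk h2 i hi l m hl hm)) * ↥₃(eigC h2 i hi) =
      ↥₃(eigC h2 i hi) * Matrix.diagonal ![l, m, (l * m)⁻¹] := by
  have hi0 : i ≠ 0 := fun e => by simp [e] at hi
  rw [coe_iota, iotaMat, det_kk, coe_kk]
  show _ * !![1, 1, 0; -i, i, 0; 0, 0, (2 * i)⁻¹] = !![1, 1, 0; -i, i, 0; 0, 0, (2 * i)⁻¹] * _
  ext a b
  fin_cases a <;> fin_cases b <;> simp [Matrix.mul_apply, Fin.sum_univ_three, Matrix.vecMul, dotProduct] <;>
    field_simp <;>
    first
      | ring1
      | linear_combination (l - m) * hi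
      | linear_combination -(l - m) * hi

variable (F) in
/-- A cyclic permutation of the coordinates. -/
def cyc3 : G3 := ⟨!![0, 1, 0; 0, 0, 1; 1, 0, 0], by simp [Matrix.det_fin_three]⟩

theorem kk_conj (h2 : (2 : F) ≠ 0) (i : F) (hi : i * i = -1) (u : F) (hu : u ≠ 0) :
    ∃ g : G3, g * iota (kk h2 i hi 1 u one_ne_zero hu) * g⁻¹ =
      iota (kk h2 i hi u u⁻¹ hu (inv_ne_zero hu)) := by
  set C := eigC h2 i hi
  refine ⟨C * cyc3 F * C⁻¹, ?_⟩
  have h1 : ↥₃(iota (kk h2 i hi 1 u one_ne_zero hu) * C) = ↥₃ C * Matrix.diagonal ![1, u, u⁻¹] := by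
    rw [Matrix.SpecialLinearGroup.coe_mul, iota_kk_eigC, one_mul]
  have h3 : ↥₃(iota (kk h2 i hi u u⁻¹ hu (inv_ne_zero hu)) * C) = ↥₃ C * Matrix.diagonal ![u, u⁻¹, 1] := by
    rw [Matrix.SpecialLinearGroup.coe_mul, iota_kk_eigC, mul_inv_cancel₀ hu, inv_one]
  set x := iota (kk h2 i hi 1 u one_ne_zero hu)
  set y := iota (kk h2 i hi u u⁻¹ hu (inv_ne_zero hu))
  have hd1 : ↥₃(C⁻¹ * x * C) = Matrix.diagonal ![1, u, u⁻¹] := by
    rw [mul_assoc, Matrix.SpecialLinearGroup.coe_mul, h1, ← Matrix.mul_assoc,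
      ← Matrix.SpecialLinearGroup.coe_mul, inv_mul_cancel, Matrix.SpecialLinearGroup.coe_one,
      Matrix.one_mul]
  have hd2 : ↥₃(C⁻¹ * y * C) = Matrix.diagonal ![u, u⁻¹, 1] := by
    rw [mul_assoc, Matrix.SpecialLinearGroup.coe_mul, h3, ← Matrix.mul_assoc,
      ← Matrix.SpecialLinearGroup.coe_mul, inv_mul_cancel, Matrix.SpecialLinearGroup.coe_one,
      Matrix.one_mul]
  have hpi : cyc3 F * (C⁻¹ * x * C) = C⁻¹ * y * C * cyc3 F := by
    refine Subtype.ext ?_
    rw [Matrix.SpecialLinearGroup.coe_mul (cyc3 F), Matrix.SpecialLinearGroup.coe_mul _ (cyc3 F), hd1, hd2]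
    show !![0, 1, 0; 0, 0, 1; 1, 0, 0] * _ = _ * !![0, 1, 0; 0, 0, 1; 1, 0, 0]
    ext a b
    fin_cases a <;> fin_cases b <;> simp [Matrix.mul_apply, Fin.sum_univ_three, Matrix.vecMul, dotProduct]
  calc C * cyc3 F * C⁻¹ * x * (C * cyc3 F * C⁻¹)⁻¹
      = C * (cyc3 F * (C⁻¹ * x * C)) * (cyc3 F)⁻¹ * C⁻¹ := by group
    _ = y := by rw [hpi]; group

theorem det_pow_two_eq (hno : ∀ i : F, i * i ≠ -1) : ∀ (n : ℕ) (u : F), u ^ 2 ^ n = 1 → u = 1 ∨ u = -1 := by
  intro n
  induction n with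
  | zero => intro u hu; left; simpa using hu
  | succ n ih =>
    intro u hu
    have h : (u ^ 2) ^ 2 ^ n = 1 := by rw [← pow_mul, ← pow_succ']; exact hu
    rcases ih _ h with e | e
    · exact sq_eq_one_iff.1 e
    · exact absurd (by rw [← pow_two]; exact e) (hno u)

theorem strongly_closed [Fintype F] (h2 : (2 : F) ≠ 0) (T : Subgroup G3)
    (hT : GroupSub.EltClosed ((Qs F).map iota) T) : T = ⊥ ∨ T = (Qs F).map iota := by
  haveI : Fact (Nat.Prime 2) := ⟨Nat.prime_two⟩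
  by_cases hb : T = ⊥
  · exact Or.inl hb
  refine Or.inr (le_antisymm hT.1 ?_)
  haveI : Nontrivial T := (Subgroup.nontrivial_iff_ne_bot _).2 hb
  obtain ⟨k, hk⟩ := IsPGroup.iff_card.1 (((isPGroup_Qs (F := F)).map iota).to_le hT.1)
  have hdT : 2 ∣ Nat.card T := by
    rcases k with _ | k
    · rw [pow_zero] at hk; exact absurd hk Finite.one_lt_card.ne'
    · exact hk ▸ dvd_pow_self 2 k.succ_ne_zero
  obtain ⟨⟨x, hx⟩, hord⟩ := exists_prime_orderOf_dvd_card' 2 hdT
  rw [Subgroup.orderOf_mk] at hord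
  have hxx : x * x = 1 := by
    have h := pow_orderOf_eq_one x
    rw [hord, pow_two] at h
    exact h
  obtain ⟨g₀, hg₀⟩ := invol_conj h2 hxx (fun e => by rw [e, orderOf_one] at hord; omega)
  have hcl : ∀ a b : G2, iota a ∈ T → b ∈ Qs F → (∃ g : G3, g * iota a * g⁻¹ = iota b) → iota b ∈ T := by
    rintro a b ha hb' ⟨g, hg⟩
    exact hg ▸ hT.2 _ ha g (hg.symm ▸ ⟨b, hb', rfl⟩)
  have hinv : ∀ a ∈ Qs F, a * a = 1 → iota a ∈ T := by
    intro a ha haa
    rcases eq_or_ne a 1 with rfl | ha1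
    · rw [map_one]; exact T.one_mem
    obtain ⟨g, hg⟩ := invol_conj h2 (x := iota a) (by rw [← map_mul, haa, map_one])
      (fun e => ha1 (iota_injective (e.trans (map_one iota).symm)))
    have e : g * g₀⁻¹ * x * (g * g₀⁻¹)⁻¹ = iota a := by rw [← hg₀, ← hg]; group
    exact e ▸ hT.2 x hx _ (e.symm ▸ ⟨a, ha, rfl⟩)
  have heT : iota (eM F) ∈ T := hinv _ eM_mem_Qs (eM_sq F)
  have he : ∀ k ∈ QK F, eM F * k ∈ Qs F := fun k hk => Or.inr (by rw [← mul_assoc, eM_sq, one_mul]; exact hk)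
  have hsl : ∀ k ∈ QK F, (↥₂ k).det = 1 → iota k ∈ T := by
    intro k hk hd
    have hsq : eM F * k * (eM F * k) = 1 := by
      refine Units.ext ?_
      rw [show eM F * k * (eM F * k) = eM F * k * eM F * k by group, conj_eM_mul hk.1, hd, map_one,
        Units.val_one]
    have := T.mul_mem heT (hinv _ (he k hk) hsq)
    rwa [← map_mul, ← mul_assoc, eM_sq, one_mul] at this
  have hgen : ∀ k ∈ QK F, iota k ∈ T := by
    intro k hk
    obtain ⟨n, hn⟩ := hk.2
    have hu : (↥₂ k).det ^ 2 ^ n = 1 := by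
      rw [← Matrix.det_pow, ← Units.val_pow_eq_pow_val, hn, Units.val_one, Matrix.det_one]
    by_cases hs : ∃ i : F, i * i = -1
    · obtain ⟨i, hi⟩ := hs
      set u := (↥₂ k).det with hudef
      have hu0 : u ≠ 0 := k.det_ne_zero
      have hk1 := kk_mem_QK h2 i hi 1 u one_ne_zero hu0 (one_pow _) hu
      have hk2 := kk_mem_QK h2 i hi u u⁻¹ hu0 (inv_ne_zero hu0) hu (by rw [inv_pow, hu, inv_one])
      have hT1 : iota (kk h2 i hi u u⁻¹ hu0 (inv_ne_zero hu0)) ∈ T :=
        hsl _ hk2 (by rw [det_kk, mul_inv_cancel₀ hu0])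
      obtain ⟨g, hg⟩ := kk_conj h2 i hi u hu0
      have hT2 : iota (kk h2 i hi 1 u one_ne_zero hu0) ∈ T :=
        hcl _ _ hT1 (Or.inl hk1) ⟨g⁻¹, by rw [← hg]; group⟩
      have hq : iota ((kk h2 i hi 1 u one_ne_zero hu0)⁻¹ * k) ∈ T := by
        refine hsl _ (mul_mem (inv_mem hk1) hk) ?_
        have e : (↥₂(kk h2 i hi 1 u one_ne_zero hu0)).det *
            (↥₂((kk h2 i hi 1 u one_ne_zero hu0)⁻¹ * k)).det = (↥₂ k).det := by
          rw [← Matrix.det_mul, ← Units.val_mul, mul_inv_cancel_left]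
        rw [det_kk, one_mul, ← hudef] at e
        exact mul_left_cancel₀ hu0 (e.trans (mul_one u).symm)
      have := T.mul_mem hT2 hq
      rwa [← map_mul, mul_inv_cancel_left] at this
    · push Not at hs
      rcases det_pow_two_eq hs n _ hu with hd | hd
      · exact hsl k hk hd
      set w := eM F * k with hw
      have hwd : (↥₂ w).det = 1 := by
        rw [hw, Units.val_mul, Matrix.det_mul, hd, coe_eM, det_fin_two_of]; ring
      have hwt : (↥₂ w) 1 1 = -(↥₂ w) 0 0 := by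
        obtain ⟨k1, -⟩ := mem_cJ.1 hk.1
        simp [hw, Matrix.mul_apply, Matrix.vecMul, dotProduct, Fin.sum_univ_two, k1]
      obtain ⟨Q, hQ⟩ := conj_J_of_trace_zero h2 hwd hwt
      have hwT : iota w ∈ T := hcl (GroupSub.GL2Two.J F) w (hsl _ J_mem_QK (by simp [det_fin_two_of])) (he k hk)
        ⟨iota Q, by rw [← map_inv, ← map_mul, ← map_mul, hQ]⟩
      have := T.mul_mem heT hwT
      rwa [← map_mul, hw, ← mul_assoc, eM_sq, one_mul] at this
  rintro _ ⟨a, ha, rfl⟩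
  rcases ha with ha | ha
  · exact hgen a ha
  · have := T.mul_mem heT (hgen _ ha)
    rwa [← map_mul, ← mul_assoc, eM_sq, one_mul] at this

theorem normalizer_le [Fintype F] (h2 : (2 : F) ≠ 0) :
    Subgroup.normalizer (((Qs F).map iota : Subgroup G3) : Set G3) ≤
      (Qs F).map iota ⊔ Subgroup.centralizer (((Qs F).map iota : Subgroup G3) : Set G3) := by
  intro g hg
  obtain ⟨x, hxQ, hx⟩ : g * iota (zG F) * g⁻¹ ∈ (Qs F).map iota :=
    (Subgroup.mem_normalizer_iff.1 hg _).1 ⟨_, zG_mem, rfl⟩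
  have hzc : ∀ a : G2, zG F * a = a * zG F := fun a => by
    refine Units.ext ?_
    rw [Units.val_mul, Units.val_mul, coe_zG, neg_one_mul, mul_neg_one]
  have hxc : ∀ a ∈ Qs F, x * a = a * x := by
    intro a ha
    refine iota_injective ?_
    obtain ⟨b, hb, hb'⟩ : g⁻¹ * iota a * (g⁻¹)⁻¹ ∈ (Qs F).map iota :=
      (Subgroup.mem_normalizer_iff.1 (Subgroup.inv_mem _ hg) _).1 ⟨a, ha, rfl⟩
    have e : iota a = g * iota b * g⁻¹ := by rw [hb']; group
    rw [map_mul, map_mul, hx, e]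
    calc g * iota (zG F) * g⁻¹ * (g * iota b * g⁻¹) = g * (iota (zG F) * iota b) * g⁻¹ := by group
      _ = g * (iota b * iota (zG F)) * g⁻¹ := by rw [← map_mul, hzc, map_mul]
      _ = g * iota b * g⁻¹ * (g * iota (zG F) * g⁻¹) := by group
  obtain ⟨r, hr⟩ := scalar_of_comm h2 (hxc _ (Or.inl J_mem_QK)) (hxc _ eM_mem_Qs)
  have hxx : x * x = 1 := by
    refine iota_injective ?_
    rw [map_mul, hx, show g * iota (zG F) * g⁻¹ * (g * iota (zG F) * g⁻¹) =
      g * (iota (zG F) * iota (zG F)) * g⁻¹ by group, ← map_mul, zG_sq, map_one, mul_one, mul_inv_cancel]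
  have hr2 : r ^ 2 = 1 := by
    have h := congrFun (congrFun (congrArg (fun A : G2 => ↥₂ A) hxx) 0) 0
    simp only [Units.val_mul, hr, Units.val_one] at h
    simp at h
    rw [pow_two]; exact h
  have hxz : x = zG F := by
    rcases sq_eq_one_iff.1 hr2 with rfl | rfl
    · exfalso
      have h1 : x = 1 := Units.ext (by rw [hr, map_one, Units.val_one])
      rw [h1, map_one] at hx
      refine zG_ne h2 (iota_injective ?_)
      have hx' := hx.symm
      rw [map_one]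
      simpa using hx'
    · exact Units.ext (by rw [hr, map_neg, map_one, coe_zG])
  rw [hxz] at hx
  obtain ⟨A, rfl⟩ := exists_iota_of_comm h2 (x := g) (mul_inv_eq_iff_eq_mul.1 hx.symm)
  have hA : A ∈ Subgroup.normalizer (Qs F : Set G2) := by
    refine GroupSub.mem_normalizer_of_cj_le ?_
    rintro _ ⟨q, hq, rfl⟩
    show A * q * A⁻¹ ∈ Qs F
    obtain ⟨q', hq', e⟩ := (Subgroup.mem_normalizer_iff.1 hg (iota q)).1 ⟨q, hq, rfl⟩
    rw [← map_inv, ← map_mul, ← map_mul] at e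
    rw [← iota_injective e]; exact hq'
  have h := Subgroup.mem_map_of_mem (iota (F := F)) (normalizer_Qs h2 hA)
  rw [Subgroup.map_sup] at h
  refine (sup_le le_sup_left (le_trans ?_ le_sup_right) : (Qs F).map iota ⊔ (Subgroup.center G2).map iota ≤ _) h
  rintro _ ⟨c, hc, rfl⟩ _ ⟨q, -, rfl⟩
  rw [← map_mul, ← map_mul, Subgroup.mem_center_iff.1 hc q]

end

/-- For a finite field F of odd order, the 2-fusion system of PSL(3,F) on a Sylow 2-subgroup (semidihedral or wreathed according as |F| ≡ 3 or 1 mod 4) is simple. -/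
theorem result {F : Type*} [Field F] [Fintype F] (hodd : Fintype.card F % 2 = 1) (S : Sylow 2 (Matrix.ProjectiveSpecialLinearGroup (Fin 3) F)) :
    (Cfsg.groupFusionSystem (S : Subgroup (Matrix.ProjectiveSpecialLinearGroup (Fin 3) F))).IsSimple 2 := by
  have h2 : (2 : F) ≠ 0 := two_ne_zero' hodd
  haveI : Fact (Nat.Prime 2) := ⟨Nat.prime_two⟩
  obtain ⟨P, hP⟩ := exists_sylow (F := F) h2
  refine GroupSub.isSimple_of_quotient (QuotientGroup.mk' _) (QuotientGroup.mk'_surjective _)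
    (le_of_eq (QuotientGroup.ker_mk' _)) (center_card_coprime h2) P ?_ ?_ ?_ S
  · rw [hP]
    intro h
    have hz : iota (zG F) ∈ (Qs F).map iota := ⟨_, zG_mem, rfl⟩
    rw [h, Subgroup.mem_bot] at hz
    exact zG_ne h2 (iota_injective (hz.trans (map_one iota).symm))
  · rw [hP]; exact strongly_closed h2
  · rw [hP]; exact normalizer_le h2

end Cfsg.Agent.S5318
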