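import Cfsg.Statements.S1217
-- import your own Cfsg.Agent.* helpers here

import Cfsg.Agent.GroupSub.GL2Shape

set_option autoImplicit false
open scoped MatrixGroups
open Cfsg

namespace Cfsg.Agent.S1217

open Matrix GroupSub GroupSub.GL2Two GroupSub.GL2Shape

section

variable {F : Type*} [Field F]

local notation "G2" => GL (Fin 2) F
local notation:1024 "↥ₘ" A:1024 => ((A : GL (Fin 2) F) : Matrix (Fin 2) (Fin 2) F)

/-- The elements of 2-power order of a subgroup of `Fˣ`. -/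
def tors2 (A : Subgroup Fˣ) : Subgroup Fˣ where
  carrier := {u | u ∈ A ∧ ∃ m : ℕ, u ^ 2 ^ m = 1}
  one_mem' := ⟨one_mem _, 0, one_pow _⟩
  mul_mem' := by
    rintro a b ⟨ha, m, hm⟩ ⟨hb, n, hn⟩
    refine ⟨mul_mem ha hb, m + n, ?_⟩
    rw [mul_pow, pow_add, pow_mul, hm, one_pow, one_mul, mul_comm, pow_mul, hn, one_pow]
  inv_mem' := by
    rintro a ⟨ha, m, hm⟩
    exact ⟨inv_mem ha, m, by rw [inv_pow, hm, inv_one]⟩

theorem isPGroup_tors2 (A : Subgroup Fˣ) : IsPGroup 2 (tors2 A) := by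
  rintro ⟨u, hu, m, hm⟩
  exact ⟨m, Subtype.ext hm⟩

theorem eig_pow_one {i : F} (hi : i * i = -1) {k : G2} (hk : k ∈ cJ F) {m : ℕ} (hm : k ^ 2 ^ m = 1) :
    ∃ u : Fˣ, u ^ 2 ^ m = 1 ∧ (u : F) = eig (RingHom.id F) i k := by
  have h : eig (RingHom.id F) i k ^ 2 ^ m = 1 := by rw [← eig_pow _ hi hk, hm, eig_one]
  obtain ⟨u, hu⟩ := IsUnit.of_pow_eq_one h (by positivity)
  exact ⟨u, Units.ext (by rw [Units.val_pow_eq_pow_val, hu, h, Units.val_one]), hu⟩

theorem pow_one_of_eig (h2 : (2 : F) ≠ 0) {i : F} (hi : i * i = -1) {k : G2} (hk : k ∈ cJ F) {u v : Fˣ} {a b : ℕ}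
    (hu : u ^ 2 ^ a = 1) (hv : v ^ 2 ^ b = 1) (hu' : (u : F) = eig (RingHom.id F) i k)
    (hv' : (v : F) = eig (RingHom.id F) (-i) k) : k ^ 2 ^ (a + b) = 1 := by
  have hi' : (-i) * (-i) = -1 := by rw [neg_mul_neg, hi]
  refine eig_ext h2 hi (pow_mem hk _) (one_mem _) ?_ ?_
  · rw [eig_pow _ hi hk, eig_one, ← hu', ← Units.val_pow_eq_pow_val, pow_add, pow_mul, hu, one_pow, Units.val_one]
  · rw [eig_pow _ hi' hk, eig_one, ← hv', ← Units.val_pow_eq_pow_val, pow_add, mul_comm, pow_mul, hv, one_pow,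
      Units.val_one]

theorem exists_sq_add_sq [Fintype F] (hodd : Fintype.card F % 2 = 1) (x : F) : ∃ a b : F, a * a + b * b = x := by
  obtain ⟨a, b, hab⟩ := FiniteField.exists_root_sum_quadratic (f := (Polynomial.X : Polynomial F) ^ 2)
    (g := (Polynomial.X : Polynomial F) ^ 2 - Polynomial.C x) (Polynomial.degree_X_pow 2)
    (Polynomial.degree_X_pow_sub_C (by decide) _) hodd
  refine ⟨a, b, ?_⟩
  simp at hab
  linear_combination hab

end


/-- Let F be a finite field with q elements, q odd, and P a Sylow 2-subgroup of GL(2,F). If q ≡ 3 (mod 4) then P is quasi-dihedral; if q ≡ 1 (mod 4) then P is wreathed. -/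
theorem result {F : Type*} [Field F] [Fintype F] (P : Sylow 2 (GL (Fin 2) F)) : (Fintype.card F % 4 = 3 → Cfsg.IsQuasiDihedral (P : Subgroup (GL (Fin 2) F))) ∧ (Fintype.card F % 4 = 1 → Cfsg.IsWreathed (P : Subgroup (GL (Fin 2) F))) := by
  haveI : Fact (Nat.Prime 2) := ⟨Nat.prime_two⟩
  suffices hmain : (Fintype.card F % 4 = 3 → Cfsg.IsQuasiDihedral (P : Subgroup (GL (Fin 2) F))) ∧
      (Fintype.card F % 4 = 1 → Cfsg.IsWreathed (P : Subgroup (GL (Fin 2) F))) from hmain
  constructor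
  · intro h3
    have hodd : Fintype.card F % 2 = 1 := by omega
    have h2 : (2 : F) ≠ 0 := S5318.two_ne_zero' hodd
    obtain ⟨Q, hQ⟩ := exists_sylow_eq_Qs (F := F) h2
    have hns : ¬ IsSquare (-1 : F) := by rw [FiniteField.isSquare_neg_one_iff]; omega
    obtain ⟨i, hi⟩ := IsAlgClosed.exists_eq_mul_self (-1 : AlgebraicClosure F)
    have hno : ∀ c : F, c * c ≠ -1 := fun c hc => hns ⟨c, hc.symm⟩
    refine GL2Shape.isQuasiDihedral ⊤ h2 (Subgroup.mem_top _) (Subgroup.mem_top _)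
      (algebraMap F (AlgebraicClosure F)) hi.symm ?_ ?_ ?_
      ((Q : Subgroup (GL (Fin 2) F)).subtype.comp (Sylow.equiv P Q).toMonoidHom)
      (Subtype.val_injective.comp (Sylow.equiv P Q).injective) ?_
    · intro k hk he
      obtain ⟨k1, k2⟩ := mem_cJ.1 hk.1.1
      set e := algebraMap F (AlgebraicClosure F)
      set a := (k : Matrix (Fin 2) (Fin 2) F) 0 0 with ha
      set c := (k : Matrix (Fin 2) (Fin 2) F) 1 0 with hc'
      have he' : e a + i * e c = 1 := he
      have hc0 : c = 0 := by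
        by_contra hc
        refine hno ((1 - a) / c) (e.injective ?_)
        have hec : e c ≠ 0 := fun h => hc (e.injective (by rw [h, map_zero]))
        rw [map_mul, map_div₀, map_sub, map_one, map_neg, map_one,
          show (1 - e a) / e c = i by rw [div_eq_iff hec]; linear_combination -he', ← hi]
      have ha1 : a = 1 := e.injective (by
        rw [hc0, map_zero, mul_zero, add_zero] at he'
        rw [he', map_one])
      refine Units.ext ?_
      ext x y
      fin_cases x <;> fin_cases y <;> simp [k1, k2, ← ha, ← hc', ha1, hc0]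
    · intro k hk
      obtain ⟨m, hm⟩ := hk.1.2
      refine S5318.det_pow_two_eq hno m _ ?_
      rw [← Matrix.det_pow, ← Units.val_pow_eq_pow_val, hm, Units.val_one, Matrix.det_one]
    · obtain ⟨a, c, hac⟩ := exists_sq_add_sq hodd (-1 : F)
      have hd : (!![a, -c; c, a] : Matrix (Fin 2) (Fin 2) F).det = -1 := by
        rw [det_fin_two_of]; linear_combination hac
      set k := Matrix.GeneralLinearGroup.mkOfDetNeZero !![a, -c; c, a] (by rw [hd]; simp) with hk
      have hkJ : k ∈ cJ F := mem_cJ.2 (by simp [hk])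
      obtain ⟨z, w, hzw, hz, hw, -, ⟨j, hzj⟩, r, hr, hwr⟩ := exists_parts 2 k
      refine ⟨z, ⟨⟨Subgroup.zpowers_le.2 hkJ hz, j, hzj⟩, Subgroup.mem_top _⟩, fun hz1 => ?_⟩
      have hw1 : (w : Matrix (Fin 2) (Fin 2) F).det ^ r = 1 := by
        rw [← Matrix.det_pow, ← Units.val_pow_eq_pow_val, hwr, Units.val_one, Matrix.det_one]
      have hkd : (z : Matrix (Fin 2) (Fin 2) F).det * (w : Matrix (Fin 2) (Fin 2) F).det = -1 := by
        rw [← Matrix.det_mul, ← Units.val_mul, ← hzw, ← hd]; rfl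
      rw [hz1, one_mul] at hkd
      rw [hkd, (Nat.coprime_two_left.1 hr).neg_one_pow] at hw1
      exact h2 (by linear_combination -hw1)
    · rw [MonoidHom.range_eq_map, ← Subgroup.map_map,
        Subgroup.map_top_of_surjective _ (Sylow.equiv P Q).surjective, ← MonoidHom.range_eq_map,
        Subgroup.range_subtype, GL2Shape.syl, inf_top_eq, hQ]
  · intro h1
    have hodd : Fintype.card F % 2 = 1 := by omega
    have h2 : (2 : F) ≠ 0 := S5318.two_ne_zero' hodd
    obtain ⟨Q, hQ⟩ := exists_sylow_eq_Qs (F := F) h2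
    obtain ⟨i, hi⟩ : IsSquare (-1 : F) := by rw [FiniteField.isSquare_neg_one_iff]; omega
    have hi0 : i ≠ 0 := fun e => by simp [e] at hi
    refine GL2Shape.isWreathed ⊤ h2 (Subgroup.mem_top _) i hi.symm (tors2 ⊤) (isPGroup_tors2 _)
      ⟨Units.mk0 i hi0, ⟨Subgroup.mem_top _, 2, Units.ext ?_⟩, rfl⟩ ?_
      ((Q : Subgroup (GL (Fin 2) F)).subtype.comp (Sylow.equiv P Q).toMonoidHom)
      (Subtype.val_injective.comp (Sylow.equiv P Q).injective) ?_
    · rw [Units.val_pow_eq_pow_val, Units.val_mk0, Units.val_one, show (2 : ℕ) ^ 2 = 2 * 2 from rfl, pow_mul,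
        pow_two i, ← hi, neg_one_sq]
    · intro k hk
      constructor
      · rintro ⟨-, m, hm⟩
        obtain ⟨u, hu, hu'⟩ := eig_pow_one hi.symm hk hm
        obtain ⟨v, hv, hv'⟩ := eig_pow_one (i := -i) (by rw [neg_mul_neg, ← hi]) hk hm
        exact ⟨⟨u, ⟨Subgroup.mem_top _, m, hu⟩, hu'⟩, v, ⟨Subgroup.mem_top _, m, hv⟩, hv'⟩
      · rintro ⟨⟨u, ⟨-, a, hu⟩, hu'⟩, v, ⟨-, b, hv⟩, hv'⟩
        exact ⟨Subgroup.mem_top _, a + b, pow_one_of_eig h2 hi.symm hk hu hv hu' hv'⟩
    · rw [MonoidHom.range_eq_map, ← Subgroup.map_map,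
        Subgroup.map_top_of_surjective _ (Sylow.equiv P Q).surjective, ← MonoidHom.range_eq_map,
        Subgroup.range_subtype, GL2Shape.syl, inf_top_eq, hQ]

end Cfsg.Agent.S1217
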