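import Cfsg.Statements.S5213
import Cfsg.Agent.Rank2Fus.SysInst
import Cfsg.Agent.S1237

set_option autoImplicit false
open Cfsg

namespace Cfsg.Agent.S5213

/-- Let S be a finite 2-group of 2-rank 2 (it has an elementary abelian subgroup of order 4 and none of order 8) and F a saturated fusion system over S with trivial centre. Then S is dihedral, semidihedral, wreathed, homocyclic abelian (a direct product of cyclic groups of one common order), or isomorphic to a Sylow 2-subgroup of the projective special unitary group PSU₃(4) (realised over the field with 16 elements). -/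
theorem result {Ω : Type*} [Group Ω] {S : Subgroup Ω} [Finite S] (hS : IsPGroup 2 S) (F : Cfsg.FusionSystem S) (hF : F.IsSaturated 2) (hr : Cfsg.PRankAtLeast 2 2 ↥S ∧ ¬ Cfsg.PRankAtLeast 2 3 ↥S) (hZ : F.center = ⊥) {K : Type*} [Field K] [Fintype K] (hK : Fintype.card K = 16) : (∃ m : ℕ, Nonempty (↥S ≃* DihedralGroup m)) ∨ Cfsg.IsQuasiDihedral ↥S ∨ Cfsg.IsWreathed ↥S ∨ (∃ n k : ℕ, Nonempty (↥S ≃* Multiplicative (Fin k → ZMod (2 ^ n)))) ∨ ∃ T : Sylow 2 (Cfsg.PSU 3 K 4), Nonempty (↥S ≃* ↥(T : Subgroup (Cfsg.PSU 3 K 4))) := by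
  haveI : Fact (Nat.Prime 2) := ⟨Nat.prime_two⟩
  obtain ⟨P⟩ : Nonempty (Sylow 2 (Cfsg.PSU 3 K 4)) := inferInstance
  have hU := Cfsg.Agent.Rank2Fus.uProp_sylow hK P
  have h2S : Cfsg.PRankLE 2 2 S := by
    intro A hA hexp
    by_contra hlt
    obtain ⟨k, hk⟩ := (hS.to_subgroup A).exists_card_eq
    refine hr.2 ⟨A, hA, hexp, ?_⟩
    rw [hk] at hlt ⊢
    refine Nat.pow_le_pow_right two_pos ?_
    by_contra hk3
    exact hlt (Nat.pow_le_pow_right two_pos (by omega))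
  have h1S : ¬ Cfsg.PRankLE 2 1 S := by
    intro hcon
    obtain ⟨A, hA, hexp, hA4⟩ := hr.1
    have := hcon A hA hexp
    omega
  have hclass : ∀ T : Subgroup S, Cfsg.PRankLE 2 2 T → ¬ Cfsg.PRankLE 2 1 T →
      Cfsg.Agent.Rank2Fus.HasTransAut T →
      (∃ n : ℕ, 1 ≤ n ∧ Nonempty (T ≃* Multiplicative (ZMod (2 ^ n) × ZMod (2 ^ n)))) ∨
        Cfsg.Agent.Rank2Fus.UProp T := fun T ha hb ⟨φ, hφ⟩ =>
    (Cfsg.Agent.S1237.result (hS.to_subgroup T) ha hb φ hφ hK P).imp_right fun ⟨e⟩ =>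
      Cfsg.Agent.Rank2Fus.uProp_of_equiv e hU
  rcases Cfsg.Agent.Rank2Fus.classify hS h2S h1S (Cfsg.Agent.Rank2Fus.fus_system hS F hF hZ) hclass with
    hd | hw | ⟨φ, hφ⟩
  · rcases hd with ⟨m, -, hm⟩ | hq
    · exact Or.inl ⟨m, hm⟩
    · exact Or.inr (Or.inl hq)
  · exact Or.inr (Or.inr (Or.inl hw))
  · rcases Cfsg.Agent.S1237.result hS h2S h1S φ hφ hK P with ⟨n, -, ⟨e⟩⟩ | he
    · exact Or.inr (Or.inr (Or.inr (Or.inl ⟨n, 2,
        ⟨e.trans (AddEquiv.toMultiplicative (LinearEquiv.piFinTwo ℤ (fun _ => ZMod (2 ^ n))).symm.toAddEquiv)⟩⟩)))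
    · exact Or.inr (Or.inr (Or.inr (Or.inr ⟨P, he⟩)))

end Cfsg.Agent.S5213
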