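import Cfsg.Statements.S1196
import Cfsg.Agent.Invol.WR

set_option autoImplicit false
open Cfsg

namespace Cfsg.Agent.S1196

/-- A wreathed 2-group S of order 2^(2n+1) has a unique commutative subgroup of order 2^(2n), and this subgroup is isomorphic to the direct product of two cyclic groups of order 2^n. -/
theorem result {S : Type*} [Group S] [Finite S] (hS : Cfsg.IsWreathed S) (n : ℕ) (hn : Nat.card S = 2 ^ (2 * n + 1)) : (∃! U : Subgroup S, IsMulCommutative U ∧ Nat.card U = 2 ^ (2 * n)) ∧ ∀ U : Subgroup S, IsMulCommutative U → Nat.card U = 2 ^ (2 * n) → Nonempty (U ≃* Multiplicative (ZMod (2 ^ n) × ZMod (2 ^ n))) := by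
  obtain ⟨x, y, z, hh⟩ := Cfsg.Agent.Invol.wrgen_exists' hS hn
  have key : ∀ U : Subgroup S, IsMulCommutative U → Nat.card U = 2 ^ (2 * n) → U = hh.toU.range := by
    intro U hc hU
    have hle : U ≤ hh.toU.range := by
      intro g hg
      rcases hh.cases g with h | ⟨i, j, rfl⟩
      · exact hh.mem_range_toU.2 h
      exfalso
      let f : ZMod (2 ^ n) × Bool → S := fun p =>
        if p.2 then Cfsg.Agent.Invol.ww x y n p.1 p.1
        else Cfsg.Agent.Invol.ww x y n p.1 p.1 * (Cfsg.Agent.Invol.ww x y n i j * z)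
      have hsub : (U : Set S) ⊆ Set.range f := by
        intro u hu
        have hcomm : u * (Cfsg.Agent.Invol.ww x y n i j * z) = Cfsg.Agent.Invol.ww x y n i j * z * u :=
          congrArg Subtype.val (hc.is_comm.comm (⟨u, hu⟩ : U) ⟨_, hg⟩)
        obtain ⟨a, h | h⟩ := hh.commute_wz hcomm
        · exact ⟨(a, true), h.symm⟩
        · exact ⟨(a, false), h.symm⟩
      have h1 := Set.ncard_le_ncard hsub (Set.finite_range f)
      have h2 : (Set.range f).ncard ≤ Nat.card (ZMod (2 ^ n) × Bool) := Finite.card_range_le f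
      have h3 : Nat.card (ZMod (2 ^ n) × Bool) = 2 ^ (n + 1) := by
        rw [Nat.card_prod, Nat.card_zmod, Nat.card_eq_fintype_card, Fintype.card_bool, pow_succ]
      have h4 : (U : Set S).ncard = 2 ^ (2 * n) := hU
      have h5 : 2 ^ (2 * n) ≤ 2 ^ (n + 1) := by omega
      have := (Nat.pow_le_pow_iff_right one_lt_two).1 h5
      have := hh.two_le
      omega
    exact Subgroup.eq_of_le_of_card_ge hle (by rw [hh.card_range_toU, hU])
  refine ⟨⟨hh.toU.range, ⟨hh.range_toU_comm, hh.card_range_toU⟩, fun U hU => key U hU.1 hU.2⟩, ?_⟩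
  intro U hc hU
  rw [key U hc hU]
  exact ⟨(MonoidHom.ofInjective hh.toU_inj).symm⟩

end Cfsg.Agent.S1196
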