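import Cfsg.Statements.S1197
import Cfsg.Agent.Invol.WR

set_option autoImplicit false
open Cfsg

namespace Cfsg.Agent.S1197

/-- Let S be a wreathed 2-group of order 2^(2n+1). Then Z(S) is cyclic of order 2^n, the derived subgroup S' is cyclic of order 2^n, and S/Z(S) is isomorphic to the dihedral group of order 2^(n+1). -/
theorem result {S : Type*} [Group S] [Finite S] (hS : Cfsg.IsWreathed S) (n : ℕ) (hn : Nat.card S = 2 ^ (2 * n + 1)) : IsCyclic (Subgroup.center S) ∧ Nat.card (Subgroup.center S) = 2 ^ n ∧ IsCyclic (commutator S) ∧ Nat.card (commutator S) = 2 ^ n ∧ Nonempty (S ⧸ Subgroup.center S ≃* DihedralGroup (2 ^ n)) := by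
  obtain ⟨x, y, z, hh⟩ := Cfsg.Agent.Invol.wrgen_exists' hS hn
  let f : Multiplicative (ZMod (2 ^ n)) →* S := MonoidHom.mk' (fun a => Cfsg.Agent.Invol.ww x y n a.toAdd a.toAdd)
    (fun a b => hh.w_add _ _ _ _)
  let g : Multiplicative (ZMod (2 ^ n)) →* S :=
    MonoidHom.mk' (fun a => Cfsg.Agent.Invol.ww x y n a.toAdd (-a.toAdd))
      (fun a b => by rw [toAdd_mul, neg_add]; exact hh.w_add _ _ _ _)
  have hfi : Function.Injective f := fun a b h => Multiplicative.toAdd.injective (hh.w_inj h).1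
  have hgi : Function.Injective g := fun a b h => Multiplicative.toAdd.injective (hh.w_inj h).1
  have hfr : f.range = Subgroup.center S := by
    ext s
    rw [hh.mem_center_iff]
    exact ⟨fun ⟨a, ha⟩ => ⟨a.toAdd, ha.symm⟩, fun ⟨i, hi⟩ => ⟨Multiplicative.ofAdd i, hi.symm⟩⟩
  have hgr : g.range = commutator S := by
    ext s
    refine ⟨fun ⟨a, ha⟩ => ha ▸ hh.antidiag_mem_commutator a.toAdd, fun hs => ?_⟩
    obtain ⟨i, hi⟩ := hh.commutator_cases hs
    exact ⟨Multiplicative.ofAdd i, hi.symm⟩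
  have hcard : Nat.card (Multiplicative (ZMod (2 ^ n))) = 2 ^ n := by
    rw [Nat.card_congr Multiplicative.toAdd, Nat.card_zmod]
  have ef := MonoidHom.ofInjective hfi
  have eg := MonoidHom.ofInjective hgi
  refine ⟨hfr ▸ isCyclic_of_surjective ef ef.surjective, by rw [← hfr, ← Nat.card_congr ef.toEquiv, hcard],
    hgr ▸ isCyclic_of_surjective eg eg.surjective, by rw [← hgr, ← Nat.card_congr eg.toEquiv, hcard], ?_⟩
  have hd : ∀ s : S, ∃ d : DihedralGroup (2 ^ n), ∀ i j,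
      (s = Cfsg.Agent.Invol.ww x y n i j → d = DihedralGroup.r (i - j)) ∧
      (s = Cfsg.Agent.Invol.ww x y n i j * z → d = DihedralGroup.sr (j - i)) := by
    intro s
    rcases hh.cases s with ⟨k, l, rfl⟩ | ⟨k, l, rfl⟩
    · refine ⟨DihedralGroup.r (k - l), fun i j => ⟨fun h => ?_, fun h => absurd h (hh.w_ne _ _ _ _)⟩⟩
      obtain ⟨rfl, rfl⟩ := hh.w_inj h; rfl
    · refine ⟨DihedralGroup.sr (l - k), fun i j => ⟨fun h => absurd h.symm (hh.w_ne _ _ _ _), fun h => ?_⟩⟩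
      obtain ⟨rfl, rfl⟩ := hh.wz_inj h; rfl
  choose d hd using hd
  have d1 : ∀ i j, d (Cfsg.Agent.Invol.ww x y n i j) = DihedralGroup.r (i - j) := fun i j => (hd _ i j).1 rfl
  have d2 : ∀ i j, d (Cfsg.Agent.Invol.ww x y n i j * z) = DihedralGroup.sr (j - i) :=
    fun i j => (hd _ i j).2 rfl
  have dmul : ∀ a b, d (a * b) = d a * d b := by
    intro a b
    rcases hh.cases a with ⟨i, j, rfl⟩ | ⟨i, j, rfl⟩ <;> rcases hh.cases b with ⟨k, l, rfl⟩ | ⟨k, l, rfl⟩
    · rw [hh.w_mul, d1, d1, d1, DihedralGroup.r_mul_r]; congr 1; ring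
    · rw [hh.w_mul_wz, d1, d2, d2, DihedralGroup.r_mul_sr]; congr 1; ring
    · rw [hh.wz_mul_w, d1, d2, d2, DihedralGroup.sr_mul_r]; congr 1; ring
    · rw [hh.wz_mul_wz, d1, d2, d2, DihedralGroup.sr_mul_sr]; congr 1; ring
  let D : S →* DihedralGroup (2 ^ n) := MonoidHom.mk' d dmul
  have hker : D.ker = Subgroup.center S := by
    ext s
    rw [hh.mem_center_iff, MonoidHom.mem_ker]
    show d s = 1 ↔ _
    rw [DihedralGroup.one_def]
    rcases hh.cases s with ⟨i, j, rfl⟩ | ⟨i, j, rfl⟩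
    · rw [d1, DihedralGroup.r.injEq]
      refine ⟨fun h => ⟨i, by rw [sub_eq_zero.1 h]⟩, fun ⟨k, hk⟩ => ?_⟩
      obtain ⟨rfl, rfl⟩ := hh.w_inj hk
      exact sub_self _
    · rw [d2]
      exact ⟨fun h => (DihedralGroup.noConfusion rfl (heq_of_eq h)), fun ⟨k, hk⟩ => absurd hk.symm (hh.w_ne _ _ _ _)⟩
  have hsurj : Function.Surjective D := by
    rintro (a | a)
    · exact ⟨Cfsg.Agent.Invol.ww x y n a 0, (d1 _ _).trans (by rw [sub_zero])⟩
    · exact ⟨Cfsg.Agent.Invol.ww x y n 0 a * z, (d2 _ _).trans (by rw [sub_zero])⟩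
  exact ⟨(QuotientGroup.quotientMulEquivOfEq hker.symm).trans
    (QuotientGroup.quotientKerEquivOfSurjective D hsurj)⟩

end Cfsg.Agent.S1197
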