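import Cfsg.Statements.S5198
import Cfsg.Agent.FusSys.ModT

set_option autoImplicit false
open Cfsg

namespace Cfsg.Agent.S5198

/-- Let F be a saturated fusion system over a finite p-group S and T a subgroup of S strongly closed in F (so T is normal in S). Then every element x of the hyperfocal subgroup of F acts on T by conjugation as an element of O^p(Aut_F(T))·Inn(T): there is an automorphism of T in the subgroup generated by the elements of Aut_F(T) of order prime to p together with the inner automorphisms of T that agrees with conjugation by x. -/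
theorem result {Ω : Type*} [Group Ω] {S : Subgroup Ω} [Finite S] (p : ℕ) [Fact p.Prime] (hS : IsPGroup p S) (F : Cfsg.FusionSystem S) (hF : F.IsSaturated p) (T : Subgroup Ω) (hT : F.StronglyClosed T) : ∀ x ∈ F.hyperfocalSubgroup p, ∃ α ∈ ((Cfsg.pResidual p ↥(F.autGroup T)).map (F.autGroup T).subtype ⊔ Cfsg.Inn ↥T : Subgroup (MulAut ↥T)), ∀ t : ↥T, ((α t : ↥T) : Ω) = x * (t : Ω) * x⁻¹ := by
  open Cfsg.Agent.FusSys Cfsg.FusionSystem in
  have hTS : T ≤ S := hT.1
  have hnT : S ≤ Subgroup.normalizer (T : Set Ω) := StronglyClosed.le_normalizer hT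
  haveI := finite_of_le hTS
  haveI : Finite (MulAut T) := Finite.of_injective _ MulEquiv.toEquiv_injective
  set K : Subgroup (MulAut T) :=
    (Cfsg.pResidual p (F.autGroup T)).map (F.autGroup T).subtype ⊔ Cfsg.Inn T with hK
  let M : Subgroup Ω := (K.comap T.normalizerMonoidHom).map (Subgroup.normalizer (T : Set Ω)).subtype
  have hmemM : ∀ x (hx : x ∈ S), x ∈ M ↔ T.normalizerMonoidHom ⟨x, hnT hx⟩ ∈ K := by
    intro x hx
    refine ⟨?_, fun h => ⟨_, h, rfl⟩⟩
    rintro ⟨y, hy, hyx⟩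
    have e : y = ⟨x, hnT hx⟩ := Subtype.ext hyx
    exact e ▸ hy
  have hTM : ∀ t ∈ T, t ∈ M := fun t ht => (hmemM t (hTS ht)).2 (Subgroup.mem_sup_right
    ⟨⟨t, ht⟩, MulEquiv.ext fun x => Subtype.ext rfl⟩)
  have hconj : ∀ x, ∀ hx : x ∈ S, T.normalizerMonoidHom ⟨x, hnT hx⟩ ∈ F.autGroup T := fun x hx =>
    autInducedBy_le_autGroup hTS (mem_autInducedBy_iff.2
      ⟨x, hx, hnT hx, fun y hy => apl_normalizerMonoidHom ⟨x, hnT hx⟩ hy⟩)
  suffices h : F.hyperfocalSubgroup p ≤ M ⊓ S by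
    intro x hx
    refine ⟨_, (hmemM x (h hx).2).1 (h hx).1, fun t => ?_⟩
    rw [← apl_coe]
    exact apl_normalizerMonoidHom ⟨x, hnT (h hx).2⟩ t.2
  rw [FusionSystem.hyperfocalSubgroup, Subgroup.closure_le]
  rintro _ ⟨P, α, u, hP, hα, rfl⟩
  haveI := finite_of_le hP
  haveI : Finite (MulAut P) := Finite.of_injective _ MulEquiv.toEquiv_injective
  refine ⟨?_, S.mul_mem (S.inv_mem (hP u.2)) (hP ((α : MulAut P) u).2)⟩
  rw [← apl_coe]
  revert u
  induction hα using Subgroup.closure_induction with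
  | one => intro u; rw [Subgroup.coe_one, apl_one u.2, inv_mul_cancel]; exact M.one_mem
  | mul a b _ _ iha ihb =>
    intro u
    have h1 := ihb u
    have h2 := iha ⟨_, apl_mem (b : MulAut P) u.2⟩
    rw [Subgroup.coe_mul, apl_mul _ _ u.2]
    have := M.mul_mem h1 h2
    rwa [mul_assoc, mul_inv_cancel_left] at this
  | inv a _ iha =>
    intro u
    have h1 := M.inv_mem (iha ⟨_, apl_mem (a : MulAut P)⁻¹ u.2⟩)
    rw [apl_apl_inv _ u.2, mul_inv_rev, inv_inv] at h1
    exact h1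
  | mem a ha =>
    intro u
    have ha' : Nat.Coprime (orderOf a) p := ha
    obtain ⟨g, hg, hgT⟩ := exists_extend_mod hS hF hT (iso_apl hP a.2).1
    have hgTT : ∀ t ∈ T, g t ∈ T := fun t ht =>
      StronglyClosed.mor_mem hT hg (Subgroup.mem_sup_right ht) ht
    have hgm : ∀ x ∈ P ⊔ T, g x ∈ P ⊔ T := fun x hx => hg.mem_of_sup
      (fun b hb => by
        have := Subgroup.mul_mem (P ⊔ T) (Subgroup.mem_sup_left (apl_mem (a : MulAut P) hb))
          (Subgroup.mem_sup_right (hgT b hb))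
        rwa [mul_inv_cancel_left] at this)
      (fun t ht => Subgroup.mem_sup_right (hgTT t ht)) hx
    haveI := finite_of_le hg.le
    haveI : Finite (MulAut ↥(P ⊔ T)) := Finite.of_injective _ MulEquiv.toEquiv_injective
    obtain ⟨β, hβ, hβx⟩ := Iso.exists_mem_autGroup (show Iso F (P ⊔ T) (P ⊔ T) g from
      ⟨hg, fun y => ⟨fun hy => hg.surj_of_card hg.le hgm le_rfl hy,
        fun ⟨x, hx, hxy⟩ => hxy ▸ hgm x hx⟩⟩)
    have hβT : ∀ t ∈ T, apl β t ∈ T := fun t ht => hβx t (Subgroup.mem_sup_right ht) ▸ hgTT t ht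
    have hpow : ∀ k : ℕ, (∀ x ∈ P, (apl ((a : MulAut P) ^ k) x)⁻¹ * apl (β ^ k) x ∈ T) ∧
        ∀ t ∈ T, apl (β ^ k) t ∈ T := by
      intro k
      induction k with
      | zero =>
        refine ⟨fun x hx => ?_, fun t ht => ?_⟩
        · rw [pow_zero, pow_zero, apl_one hx, apl_one (Subgroup.mem_sup_left hx), inv_mul_cancel]
          exact T.one_mem
        · rw [pow_zero, apl_one (Subgroup.mem_sup_right ht)]; exact ht
      | succ k ih =>
        refine ⟨fun x hx => ?_, fun t ht => ?_⟩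
        · have hy := apl_mem ((a : MulAut P) ^ k) hx
          have ht := ih.1 x hx
          rw [pow_succ' (a : MulAut P), apl_mul _ _ hx, pow_succ' β,
            apl_mul _ _ (Subgroup.mem_sup_left hx)]
          have e : apl (β ^ k) x =
              apl ((a : MulAut P) ^ k) x * ((apl ((a : MulAut P) ^ k) x)⁻¹ * apl (β ^ k) x) := by group
          rw [e, hβx _ ((P ⊔ T).mul_mem (Subgroup.mem_sup_left hy) (Subgroup.mem_sup_right ht)),
            hg.map_mul (Subgroup.mem_sup_left hy) (Subgroup.mem_sup_right ht), ← mul_assoc]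
          exact T.mul_mem (hgT _ hy) (hgTT _ ht)
        · rw [pow_succ' β, apl_mul _ _ (Subgroup.mem_sup_right ht)]
          exact hβT _ (ih.2 t ht)
    obtain ⟨e, m, hm, hord⟩ := Nat.exists_eq_pow_mul_and_not_dvd
      (orderOf_pos β).ne' p (Fact.out : p.Prime).ne_one
    obtain ⟨k, hk1, hk2⟩ := Nat.chineseRemainder (Nat.Coprime.pow_left e ha'.symm) 0 1
    have hak : (a : MulAut P) ^ k = (a : MulAut P) := by
      rw [← SubmonoidClass.coe_pow]
      refine congrArg Subtype.val ?_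
      conv_rhs => rw [← pow_one a]
      exact pow_eq_pow_iff_modEq.2 hk2
    have hβm : (β ^ k) ^ m = 1 := by
      obtain ⟨j, rfl⟩ := Nat.modEq_zero_iff_dvd.1 hk1
      rw [← pow_mul, mul_right_comm, ← hord, pow_mul, pow_orderOf_eq_one, one_pow]
    have hTi := StronglyClosed.iso_self hT (iso_apl hg.le ((F.autGroup _).pow_mem hβ k)).1 le_sup_right
    obtain ⟨γ, hγ, hγx⟩ := Iso.exists_mem_autGroup hTi
    have hγpow : γ ^ m = 1 := apl_ext fun t ht => by
      rw [← apl_pow le_sup_right (fun x hx => (hγx x hx).symm) m t ht, hβm,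
        apl_one (Subgroup.mem_sup_right ht), apl_one ht]
    have hγR : (⟨γ, hγ⟩ : F.autGroup T) ∈ Cfsg.pResidual p (F.autGroup T) := by
      refine Cfsg.Agent.Fusion.mem_pResidual_of_coprime (Nat.Coprime.coprime_dvd_left
        (orderOf_dvd_of_pow_eq_one (n := m) (Subtype.ext (by
          rw [SubmonoidClass.coe_pow]; exact hγpow))) ?_)
      exact ((Nat.Prime.coprime_iff_not_dvd Fact.out).2 hm).symm
    have hv : apl (β ^ k) u ∈ S :=
      hg.le (apl_mem (β ^ k) (Subgroup.mem_sup_left u.2))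
    have huv : (u : Ω)⁻¹ * apl (β ^ k) u ∈ S := S.mul_mem (S.inv_mem (hP u.2)) hv
    have key : (u : Ω)⁻¹ * apl (β ^ k) u ∈ M := by
      rw [hmemM _ huv]
      refine Subgroup.mem_sup_left (Subgroup.mem_map.2 ?_)
      set cu : F.autGroup T := ⟨_, hconj u (hP u.2)⟩ with hcu
      refine ⟨cu⁻¹ * ⟨γ, hγ⟩ * cu⁻¹⁻¹ * ⟨γ, hγ⟩⁻¹, ?_, apl_ext fun t ht => ?_⟩
      · exact mul_mem (Cfsg.Agent.Fusion.pResidualNormal.conj_mem _ hγR _) (inv_mem hγR)
      have hγ' : ∀ z ∈ T, apl γ (apl γ⁻¹ z) = z := fun z hz => apl_apl_inv γ hz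
      have hz : apl γ⁻¹ t ∈ T := apl_mem _ ht
      have hmi := (iso_apl hg.le ((F.autGroup _).pow_mem hβ k)).1
      show apl ((cu : MulAut T)⁻¹ * γ * ((cu : MulAut T)⁻¹)⁻¹ * γ⁻¹) t = _
      rw [apl_normalizerMonoidHom ⟨_, hnT huv⟩ ht, inv_inv, apl_mul _ _ ht, apl_mul _ _ hz,
        apl_mul _ _ (apl_mem _ hz)]
      have hcz : apl (cu : MulAut T) (apl γ⁻¹ t) = u * apl γ⁻¹ t * (u : Ω)⁻¹ :=
        apl_normalizerMonoidHom ⟨_, hnT (hP u.2)⟩ hz
      have hcT : (u : Ω) * apl γ⁻¹ t * (u : Ω)⁻¹ ∈ T := hcz ▸ apl_mem _ hz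
      have h1 : apl γ ((u : Ω) * apl γ⁻¹ t * (u : Ω)⁻¹) = apl (β ^ k) u * t * (apl (β ^ k) u)⁻¹ := by
        rw [hγx _ hcT, hmi.map_conj (Subgroup.mem_sup_left u.2) (Subgroup.mem_sup_right hz),
          ← hγx _ hz, hγ' t ht]
      rw [hcz, h1]
      have hw : apl (β ^ k) u * t * (apl (β ^ k) u)⁻¹ ∈ T := h1 ▸ apl_mem _ hcT
      have h2 := apl_inv_apl (cu : MulAut T) (x := (u : Ω)⁻¹ * (apl (β ^ k) u * t *
        (apl (β ^ k) u)⁻¹) * u) ((Subgroup.mem_normalizer_iff''.1 (hnT (hP u.2)) _).1 hw)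
      rw [show apl (cu : MulAut T) _ = _ from apl_normalizerMonoidHom ⟨_, hnT (hP u.2)⟩
        ((Subgroup.mem_normalizer_iff''.1 (hnT (hP u.2)) _).1 hw)] at h2
      have e3 : (u : Ω) * ((u : Ω)⁻¹ * (apl (β ^ k) u * t * (apl (β ^ k) u)⁻¹) * u) * (u : Ω)⁻¹ =
          apl (β ^ k) u * t * (apl (β ^ k) u)⁻¹ := by group
      rw [show ((⟨(u : Ω), hnT (hP u.2)⟩ : Subgroup.normalizer (T : Set Ω)) : Ω) = u from rfl,
        e3] at h2
      rw [h2]
      group
    have h3 := (hpow k).1 u u.2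
    rw [hak] at h3
    have h4 := M.mul_mem key (M.inv_mem (hTM _ h3))
    have e4 : (u : Ω)⁻¹ * apl (β ^ k) u * ((apl (a : MulAut P) u)⁻¹ * apl (β ^ k) u)⁻¹ =
        (u : Ω)⁻¹ * apl (a : MulAut P) u := by group
    rwa [e4] at h4

end Cfsg.Agent.S5198
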