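import Cfsg.Statements.S5199
import Cfsg.Agent.FusSys.Hyperfocal
import Cfsg.Agent.FusSys.Criteria

set_option autoImplicit false
open Cfsg

namespace Cfsg.Agent.S5199

/-- Let F be a saturated fusion system over a finite p-group S, E a normal subsystem of F over T, and F₀ a normal subsystem of F over a subgroup U containing both T and the hyperfocal subgroup of F, such that F₀ has p-power index in F. Then E is a subsystem of F₀. -/
theorem result {Ω : Type*} [Group Ω] {S : Subgroup Ω} [Finite S] (p : ℕ) [Fact p.Prime] (hS : IsPGroup p S) (F : Cfsg.FusionSystem S) (hF : F.IsSaturated p) {T U : Subgroup Ω} (E : Cfsg.FusionSystem T) (hE : E.IsNormalIn F p) (F₀ : Cfsg.FusionSystem U) (hF₀ : F₀.IsNormalIn F p) (hU : T ⊔ F.hyperfocalSubgroup p ≤ U) (hidx : F₀.HasPPowerIndexIn F p) : E.IsSubsystemOf F₀ := by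
  open Cfsg.Agent.FusSys in
  have hT : F.StronglyClosed T := hE.1.2.2.2.1
  have hTU : T ≤ U := le_sup_left.trans hU
  open Cfsg.Agent.FusSys in
  haveI := finite_of_le hT.1
  have hTp : IsPGroup p T := hS.to_le hT.1
  have hUS : U ≤ S := hF₀.1.2.2.2.1.1
  open Cfsg.Agent.FusSys in
  haveI := finite_of_le hUS
  open Cfsg.Agent.FusSys in
  have hM : SubRel E T (fun P f => P ≤ T ∧ (∀ x ∈ P, f x ∈ T) ∧ Mor F₀ P f) := by
    refine ⟨fun {P f g} ⟨h1, h2, h3⟩ he => ⟨h1, fun x hx => he x hx ▸ h2 x hx, h3.congr he⟩,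
      fun h => ⟨h.1, h.2.1⟩, fun {P s} hP hs => ⟨mor_conj hP hs, hP,
        fun x hx => T.mul_mem (T.mul_mem hs (hP hx)) (T.inv_mem hs), mor_conj (hP.trans hTU) (hTU hs)⟩, ?_, ?_⟩
    · rintro P Q f g - ⟨h1, -, h3⟩ - ⟨-, h2', h3'⟩ hfQ
      exact ⟨h1, fun x hx => h2' _ (hfQ x hx), h3.comp h3' hfQ⟩
    · rintro P Q f g hf ⟨h1, h2, h3⟩ hg hgf
      obtain ⟨k, hk, hkl, -⟩ := (show Iso F₀ P Q f from ⟨h3, hf.2⟩).symm
      refine ⟨hg.left_le, fun y hy => hg.right_le (hg.mem hy), hk.1.congr fun y hy => ?_⟩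
      obtain ⟨x, hx, rfl⟩ := hf.exists_eq hy
      rw [hgf x hx, hkl x hx]
  open Cfsg.Agent.FusSys in
  have hres : ∀ R ≤ T, (pResidual p (E.autGroup R)).map (E.autGroup R).subtype ≤ F₀.autGroup R := by
    intro R hR
    refine le_trans ?_ (hidx.2.2 R (hR.trans hTU))
    have hle : E.autGroup R ≤ F.autGroup R := by
      intro α hα
      exact Subgroup.subset_closure ((isSubsystemOf_iff_mor.1 hE.1.2.2.1 _ _ (iso_apl hR hα).1).hom_eq
        fun x => (apl_coe α x).symm)
    rw [show (E.autGroup R).subtype = (F.autGroup R).subtype.comp (Subgroup.inclusion hle) from rfl,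
      ← Subgroup.map_map]
    exact Subgroup.map_mono (Cfsg.Agent.Fusion.map_pResidual_le _)
  open Cfsg.Agent.FusSys in
  have htop : ∀ α ∈ E.autGroup T, Mor F₀ T (apl α) := by
    intro α hα
    rw [autGroup_eq_residual_sup hTp hE.1.1 ⟨le_rfl, fun Q _ => by
      haveI := finite_of_le (normalizerIn_le T T)
      exact Subgroup.card_le_of_le (le_inf (normalizerIn_le T Q) ((normalizerIn_le T Q).trans
        Subgroup.le_normalizer))⟩] at hα
    exact (iso_apl hTU ((sup_le (hres T le_rfl) ((autInducedBy_mono hTU).trans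
      (autInducedBy_le_autGroup hTU))) hα)).1
  open Cfsg.Agent.FusSys in
  refine isSubsystemOf_iff_mor.2 fun P f hf => ?_
  open Cfsg.Agent.FusSys in
  exact (residual_induction hTp hE.1.1 hM (fun α hα => ⟨le_rfl, fun x hx => apl_mem α hx, htop α hα⟩)
    (fun R hR α hα => ⟨hR, fun x hx => hR (apl_mem α hx), (iso_apl (hR.trans hTU) (hres R hR hα)).1⟩)
    P f hf).2.2

end Cfsg.Agent.S5199
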