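import Cfsg.Statements.S0649
import Mathlib.GroupTheory.Nilpotent

set_option autoImplicit false
open Cfsg

namespace Cfsg.Agent.S0649

/-- In the Glauberman replacement situation, if B does not normalize A then some element of B normalizes N_S(A) without normalizing A. -/
theorem result {S : Type*} [Group S] [Finite S] {p : ℕ} [Fact p.Prime] (hS : IsPGroup p S) (B : Subgroup S) [B.Normal] (hB2 : p = 2 → IsMulCommutative B) (A : Subgroup S) (hA : IsMulCommutative A) (hBA : ⁅B, B⁆ ≤ A) (hnot : ¬ B ≤ Subgroup.normalizer (A : Set S)) : ∃ b ∈ B, b ∈ Subgroup.normalizer ((Subgroup.normalizer (A : Set S)) : Set S) ∧ b ∉ Subgroup.normalizer (A : Set S) := by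
  set N := Subgroup.normalizer (A : Set S) with hN
  haveI : Group.IsNilpotent ↥(B ⊔ N) := (hS.to_subgroup _).isNilpotent
  have hlt : N.subgroupOf (B ⊔ N) < ⊤ := by
    rw [lt_top_iff_ne_top, Ne, Subgroup.subgroupOf_eq_top, sup_le_iff]
    exact fun h => hnot h.1
  obtain ⟨_, t, ht, htn⟩ := SetLike.lt_iff_le_and_exists.mp
    (Group.normalizerCondition_of_isNilpotent _ hlt)
  have htN : (t : S) ∈ Subgroup.normalizer (N : Set S) := by
    rw [Subgroup.mem_normalizer_iff] at ht ⊢
    intro y
    by_cases hy : y ∈ B ⊔ N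
    · have := ht ⟨y, hy⟩
      simpa [Subgroup.mem_subgroupOf] using this
    · constructor
      · intro hyN; exact absurd ((le_sup_right : N ≤ B ⊔ N) hyN) hy
      · intro hyN
        have h1 : (t : S) * y * (t : S)⁻¹ ∈ B ⊔ N := (le_sup_right : N ≤ B ⊔ N) hyN
        have h2 := mul_mem (mul_mem (inv_mem t.2) h1) t.2
        exact absurd (by simpa [mul_assoc] using h2) hy
  obtain ⟨b, hb, n, hn, hbn⟩ := Subgroup.mem_sup_of_normal_left.mp t.2
  have hnn : n ∈ Subgroup.normalizer (N : Set S) := Subgroup.le_normalizer hn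
  refine ⟨b, hb, ?_, fun hbN => htn ?_⟩
  · have h3 : b = (t : S) * n⁻¹ := by rw [← hbn]; group
    exact h3 ▸ mul_mem htN (inv_mem hnn)
  · rw [Subgroup.mem_subgroupOf, ← hbn]
    exact mul_mem hbN hn

end Cfsg.Agent.S0649
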