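import Cfsg.Statements.S5148
import Cfsg.Agent.FusSys.AbelianSimple
import Cfsg.Agent.FusSys.ElemCrit
import Cfsg.Agent.FusSys.Factor
import Cfsg.Agent.FusSys.ModT
import Cfsg.Agent.FusSys.Generation

set_option autoImplicit false
open Cfsg

namespace Cfsg.Agent.S5148

/-- A quasisimple fusion system over a finite p-group S (saturated, equal to its p-residual subsystem, with simple — in particular nontrivial — factor system modulo its centre) has S nonabelian. -/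
theorem result {Ω : Type*} [Group Ω] {S : Subgroup Ω} [Finite S] (p : ℕ) [Fact p.Prime] (hS : IsPGroup p S) (F : Cfsg.FusionSystem S) (hq : F.Quasisimple p) : ¬ IsMulCommutative S := by
  intro hc
  classical
  obtain ⟨hF, hperf, hsimp⟩ := hq
  have hab : ∀ x ∈ S, ∀ y ∈ S, x * y = y * x := fun x hx y hy =>
    congrArg Subtype.val (hc.1.1 (⟨x, hx⟩ : S) ⟨y, hy⟩)
  have hZ : F.IsCentral F.center := Cfsg.Agent.FusSys.isCentral_center
  have hZfix : ∀ P f, Cfsg.Agent.FusSys.Mor F P f → ∀ z ∈ F.center, z ∈ P → f z = z :=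
    fun P f hf z hz hzP => by
      obtain ⟨g, -, hgf, hgQ⟩ := (Cfsg.Agent.FusSys.isCentral_iff.1 hZ).2 P f hf
      rw [← hgf z hzP, hgQ z hz]
  have hZsc : F.StronglyClosed F.center := Cfsg.Agent.FusSys.stronglyClosed_iff.2
    ⟨hZ.1, fun R f hR hf x hx => by rw [hZfix R f hf x (hR hx) hx]; exact hR hx⟩
  set θ := QuotientGroup.mk' (F.center.subgroupOf S) with hθ
  have hker : ∀ s : S, θ s = 1 ↔ (s : Ω) ∈ F.center := fun s =>
    (QuotientGroup.eq_one_iff s).trans Subgroup.mem_subgroupOf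
  obtain ⟨E, hE⟩ := Cfsg.Agent.FusSys.exists_factorSystem hZsc hker
    (show θ.range = (⊤ : Subgroup (S ⧸ F.center.subgroupOf S)) from QuotientGroup.range_mk' _)
  have hs := hsimp E hE
  have hQp : IsPGroup p ↥(⊤ : Subgroup (S ⧸ F.center.subgroupOf S)) :=
    (hS.to_quotient _).to_subgroup _
  have habQ : ∀ x ∈ (⊤ : Subgroup (S ⧸ F.center.subgroupOf S)), ∀ y ∈ (⊤ : Subgroup (S ⧸ F.center.subgroupOf S)),
      x * y = y * x := by
    intro x _ y _
    obtain ⟨a, rfl⟩ := QuotientGroup.mk'_surjective _ x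
    obtain ⟨b, rfl⟩ := QuotientGroup.mk'_surjective _ y
    rw [← map_mul, ← map_mul, hc.1.1 a b]
  obtain ⟨-, hinner⟩ := (Cfsg.Agent.FusSys.simple_iff_comm hQp hs.1 habQ).1 hs
  have htop : IsPGroup p (F.autGroup S) := by
    refine Cfsg.Agent.FusSys.isPGroup_of_coprime_eq_one fun a ha => Subtype.ext ?_
    rw [← Subgroup.orderOf_coe] at ha
    refine Cfsg.Agent.FusSys.apl_ext fun x hx => ?_
    rw [show ((1 : F.autGroup S) : MulAut S) = 1 from rfl, Cfsg.Agent.FusSys.apl_one hx]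
    have hm := Cfsg.Agent.FusSys.iso_apl (F := F) le_rfl a.2
    obtain ⟨g', hg', hgg⟩ := Cfsg.Agent.FusSys.exists_iso_image hE hZsc hm hZ.1
    obtain ⟨ψ, hψ, hψg⟩ := hg'.1
    rw [hinner] at hψ
    obtain ⟨-, hid⟩ := (Cfsg.Agent.FusSys.mor_inner_comm habQ).1 ⟨ψ, hψ, hψg⟩
    have h1 := hgg x hx
    rw [hid _ ((Cfsg.Agent.FusSys.mem_imageAlong le_rfl).2 ⟨x, hx, rfl⟩)] at h1
    have h2 := (Cfsg.Agent.FusSys.thFn_eq_iff hker hx (hm.1.mem_S hx)).1 h1
    exact Cfsg.Agent.FusSys.eq_of_fixed_quot hS ha hx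
      (hZfix _ _ hm.1 _ h2 (S.mul_mem (S.inv_mem hx) (hm.1.mem_S hx)))
  have hF' : F = Cfsg.innerFusionSystem S := by
    refine Cfsg.Agent.FusSys.eq_inner_of_no_essential hS hF htop fun P hP => ?_
    exact (Cfsg.Agent.FusSys.essential_lt_top hS hF hP).ne (le_antisymm hP.1.1 fun s hs =>
      Cfsg.Agent.FusSys.centric_self hP.1 ⟨hs, Subgroup.mem_centralizer_iff.2
        fun y hy => hab y (hP.1.1 hy) s hs⟩)
  have hbot : F.hyperfocalSubgroup p = ⊥ := by
    refine le_bot_iff.1 ((Subgroup.closure_le _).2 ?_)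
    rintro _ ⟨P, α, x, hP, -, rfl⟩
    have hm := Cfsg.Agent.FusSys.iso_apl hP α.2
    obtain ⟨ψ, hψ, hψx⟩ := hm.1
    have hh : F.Hom P = (Cfsg.innerFusionSystem S).Hom P := congrArg (fun G => G.Hom P) hF'
    rw [hh] at hψ
    have h := ((Cfsg.Agent.FusSys.mor_inner_comm hab).1 ⟨ψ, hψ, hψx⟩).2 x x.2
    rw [Cfsg.Agent.FusSys.apl_coe] at h
    show (x : Ω)⁻¹ * _ ∈ (⊥ : Subgroup Ω)
    rw [h, inv_mul_cancel]
    exact one_mem _
  have hS1 : S = ⊥ := hperf ▸ hbot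
  refine hs.2.1 ((Subgroup.eq_bot_iff_forall _).2 fun q _ => ?_)
  obtain ⟨s, rfl⟩ := QuotientGroup.mk'_surjective _ q
  have h1 : s = 1 := Subtype.ext (Subgroup.mem_bot.1 (hS1.le s.2))
  rw [h1, map_one]

end Cfsg.Agent.S5148
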