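import Cfsg.Statements.S5159
import Cfsg.Agent.FusSys.SolvableExt

set_option autoImplicit false
open Cfsg
open scoped commutatorElement

namespace Cfsg.Agent.S5159

/-- Let F be a saturated fusion system over a finite p-group S, E a normal subsystem over T, and D the factor system of F modulo T (read through any homomorphism on S with kernel T). Then F is solvable if and only if E and D are solvable (solvable, for a system over a subgroup S: for every subgroup R other than S that is strongly closed in F, the factor system of F modulo R has a nontrivial subgroup normal in it). -/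
theorem result {Ω : Type*} [Group Ω] {S : Subgroup Ω} [Finite S] (p : ℕ) [Fact p.Prime] (hS : IsPGroup p S) (F : Cfsg.FusionSystem S) (hF : F.IsSaturated p) {T : Subgroup Ω} (E : Cfsg.FusionSystem T) (hE : E.IsNormalIn F p) {Ω' : Type*} [Group Ω'] {S' : Subgroup Ω'} (θ : S →* Ω') (D : Cfsg.FusionSystem S') (hD : F.IsFactorSystem T θ D) : F.IsSolvableSystem ↔ (E.IsSolvableSystem ∧ D.IsSolvableSystem) := by
  classical
  obtain ⟨hTS, hker, hrange, hmaps⟩ := hD
  have hD : F.IsFactorSystem T θ D := ⟨hTS, hker, hrange, hmaps⟩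
  have hT : F.StronglyClosed T := hE.1.2.2.2.1
  haveI := Cfsg.Agent.FusSys.finite_of_le hTS
  have hTp : IsPGroup p T := hS.to_le hTS
  haveI : Finite S' := hrange ▸ Finite.of_surjective _ θ.rangeRestrict_surjective
  have hS' : IsPGroup p S' := hrange ▸ hS.of_surjective _ θ.rangeRestrict_surjective
  have hDs : D.IsSaturated p := Cfsg.Agent.FusSys.factor_saturated hS hF hD hT
  have hsub := Cfsg.Agent.FusSys.isSubsystemOf_iff_mor.1 hE.1.2.2.1
  constructor
  · intro hsol
    obtain ⟨n, C, h0, hn, -, hC, hab⟩ := Cfsg.Agent.FusSys.exists_series_of_solvable hS hF hsol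
    constructor
    · refine Cfsg.Agent.FusSys.solvable_of_series hTp hE.1.1 (fun i => C i ⊓ T) (by simp [h0])
        (by show C (Fin.last n) ⊓ T = T; rw [hn]; exact inf_eq_right.2 hTS) (fun i => ?_) fun i => ?_
      · exact Cfsg.Agent.FusSys.stronglyClosed_iff.2 ⟨inf_le_right, fun X f hX hf x hx =>
          ⟨Cfsg.Agent.FusSys.StronglyClosed.mor_mem (hC i) (hsub _ _ hf) hx (hX hx).1, hf.mem_S hx⟩⟩
      · exact le_inf ((Subgroup.commutator_mono inf_le_left inf_le_left).trans (hab i))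
          (Subgroup.commutator_le.2 fun a ha b hb =>
            T.mul_mem (T.mul_mem (T.mul_mem ha.2 hb.2) (T.inv_mem ha.2)) (T.inv_mem hb.2))
    · refine Cfsg.Agent.FusSys.solvable_of_series hS' hDs (fun i => Cfsg.FusionSystem.imageAlong θ (C i))
        ?_ ?_ (fun i => Cfsg.Agent.FusSys.stronglyClosed_image hS hF hD hT (hC i)) fun i => ?_
      · show Cfsg.FusionSystem.imageAlong θ (C 0) = ⊥
        rw [h0, Cfsg.FusionSystem.imageAlong, Subgroup.bot_subgroupOf, Subgroup.map_bot]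
      · show Cfsg.FusionSystem.imageAlong θ (C (Fin.last n)) = S'
        rw [hn, Cfsg.FusionSystem.imageAlong, Subgroup.subgroupOf_self, ← MonoidHom.range_eq_map, hrange]
      · show ⁅((C i.succ).subgroupOf S).map θ, ((C i.succ).subgroupOf S).map θ⁆ ≤
          ((C i.castSucc).subgroupOf S).map θ
        rw [← Subgroup.map_commutator]
        refine Subgroup.map_mono (Subgroup.commutator_le.2 fun a ha b hb => ?_)
        exact hab i (Subgroup.commutator_mem_commutator ha hb)
  rintro ⟨hEsol, hDsol⟩ R hR hne hnorm Eq hEq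
  have key : ∃ X, F.StronglyClosed X ∧ ¬ X ≤ R ∧ ⁅X, X⁆ ≤ R := by
    by_cases hTR : T ≤ R
    · have hRi := Cfsg.Agent.FusSys.stronglyClosed_image hS hF hD hT hR
      have hne' : Cfsg.FusionSystem.imageAlong θ R ≠ S' := by
        intro e
        refine hne (le_antisymm hR.1 fun s hs => ?_)
        have h1 : θ ⟨s, hs⟩ ∈ Cfsg.FusionSystem.imageAlong θ R := e ▸ hrange ▸ ⟨⟨s, hs⟩, rfl⟩
        obtain ⟨r, hr, hrs⟩ := h1
        have h2 : (r : Ω)⁻¹ * s ∈ T := Cfsg.Agent.FusSys.mem_of_theta_eq hker hrs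
        have := R.mul_mem (show (r : Ω) ∈ R from hr) (hTR h2)
        rwa [mul_inv_cancel_left] at this
      obtain ⟨Y, hY, hlt, hYc⟩ := Cfsg.Agent.FusSys.exists_step_of_solvable hS' hDs hDsol hRi hne'
      refine ⟨Cfsg.FusionSystem.preimageAlong θ Y,
        Cfsg.Agent.FusSys.stronglyClosed_preimage hS hF hD hT hY, fun hle => hlt.not_ge fun y hy => ?_, ?_⟩
      · obtain ⟨x, hx, rfl⟩ := Cfsg.Agent.FusSys.exists_pre (hrange.symm ▸ hY.1 : Y ≤ θ.range) hy
        exact (Cfsg.Agent.FusSys.mem_imageAlong hR.1).2 ⟨x, hle hx, rfl⟩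
      · rw [Subgroup.commutator_le]
        intro a ha b hb
        obtain ⟨haS, haY⟩ := Cfsg.Agent.FusSys.mem_pre.1 ha
        obtain ⟨hbS, hbY⟩ := Cfsg.Agent.FusSys.mem_pre.1 hb
        rw [Cfsg.Agent.FusSys.thFn_apply haS] at haY
        rw [Cfsg.Agent.FusSys.thFn_apply hbS] at hbY
        have h := hYc (Subgroup.commutator_mem_commutator haY hbY)
        rw [← map_commutatorElement] at h
        obtain ⟨r, hr, hrs⟩ := h
        have h2 : (r : Ω)⁻¹ * ((⁅(⟨a, haS⟩ : S), ⟨b, hbS⟩⁆ : S) : Ω) ∈ T :=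
          Cfsg.Agent.FusSys.mem_of_theta_eq hker hrs
        have := R.mul_mem (show (r : Ω) ∈ R from hr) (hTR h2)
        rwa [mul_inv_cancel_left] at this
    · have hfin := Cfsg.Agent.FusSys.finite_subgroups_le (S := S)
        (fun X => F.StronglyClosed X ∧ X ≤ T ∧ X ≤ R) fun X hX => hX.1.1
      obtain ⟨X, hX, hmax⟩ := hfin.exists_maximal ⟨⊥, Cfsg.Agent.FusSys.stronglyClosed_of_isNormal
        Cfsg.Agent.FusSys.isNormal_bot, bot_le, bot_le⟩
      have hXT : X < T := lt_of_le_of_ne hX.2.1 fun e => hTR (e ▸ hX.2.2)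
      obtain ⟨X', hX', hlt, hX'T, hX'c⟩ :=
        Cfsg.Agent.FusSys.exists_step_below hS hE.1 hEsol hX.1 hXT
      exact ⟨X', hX', fun hle => hlt.not_ge (hmax ⟨hX', hX'T, hle⟩ hlt.le), hX'c.trans hX.2.2⟩
  obtain ⟨X, hX, hXR, hXc⟩ := key
  have hEs := Cfsg.Agent.FusSys.factor_saturated hS hF hEq hR
  have hn' := Cfsg.Agent.FusSys.isNormal_of_stronglyClosed_comm ((hS.to_quotient _).to_subgroup _) hEs
    (Cfsg.Agent.FusSys.stronglyClosed_image hS hF hEq hR hX) fun x hx y hy => by
      obtain ⟨a, ha, rfl⟩ := (Cfsg.Agent.FusSys.mem_imageAlong hX.1).1 hx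
      obtain ⟨b, hb, rfl⟩ := (Cfsg.Agent.FusSys.mem_imageAlong hX.1).1 hy
      rw [Cfsg.Agent.FusSys.thFn_apply (hX.1 ha), Cfsg.Agent.FusSys.thFn_apply (hX.1 hb)]
      rw [← commutatorElement_eq_one_iff_mul_comm, ← map_commutatorElement, hEq.2.1]
      exact hXc (Subgroup.commutator_mem_commutator ha hb)
  intro hbot
  have hle : Cfsg.FusionSystem.imageAlong (QuotientGroup.mk' (R.subgroupOf S)) X ≤ ⊥ :=
    hbot ▸ Cfsg.Agent.FusSys.le_core hn'
  refine hXR fun x hx => ?_
  exact (Cfsg.Agent.FusSys.thFn_eq_one_iff hEq.2.1 (hX.1 hx)).1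
    (Subgroup.mem_bot.1 (hle ((Cfsg.Agent.FusSys.mem_imageAlong hX.1).2 ⟨x, hx, rfl⟩)))

end Cfsg.Agent.S5159
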