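import Cfsg.Statements.S0089
import Cfsg.Agent.Invol.TransferLemmas

set_option autoImplicit false
open Cfsg

namespace Cfsg.Agent.S0089

/-- When all Sylow subgroups are abelian, the derived subgroup meets the centre trivially. -/
theorem result {G : Type*} [Group G] [Finite G] (h : ∀ p : ℕ, p.Prime → ∀ P : Sylow p G, IsMulCommutative P) : commutator G ⊓ Subgroup.center G = ⊥ := by
  rw [eq_bot_iff]
  intro z hz
  obtain ⟨hzG, hzZ⟩ := hz
  by_contra hz1
  obtain ⟨p, hp, hpd⟩ := Nat.exists_prime_and_dvd (n := orderOf z) (fun h => hz1 (orderOf_eq_one_iff.1 h))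
  have := Fact.mk hp
  obtain ⟨w, hw, hwo⟩ : ∃ w : G, w ∈ Subgroup.zpowers z ∧ orderOf w = p :=
    ⟨z ^ (orderOf z / p), Subgroup.npow_mem_zpowers z _, orderOf_pow_orderOf_div (orderOf_pos z).ne' hpd⟩
  have hwG : w ∈ commutator G := Subgroup.zpowers_le.2 hzG hw
  have hwZ : w ∈ Subgroup.center G := Subgroup.zpowers_le.2 hzZ hw
  have hwP : IsPGroup p (Subgroup.zpowers w) :=
    IsPGroup.of_card (n := 1) (by rw [Nat.card_zpowers, hwo, pow_one])
  obtain ⟨P, hP⟩ := hwP.exists_le_sylow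
  have := h p hp P
  have hw1 := Invol.eq_one_of_mem_abelian_hall (P : Subgroup G) (Invol.sylow_hall P)
    (hP (Subgroup.mem_zpowers w)) hwG hwZ
  rw [hw1, orderOf_one] at hwo
  exact hp.ne_one hwo.symm

end Cfsg.Agent.S0089
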