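import Cfsg.Statements.S1077
import Cfsg.Agent.Chev.All
import Cfsg.Agent.Chev.ExtraAll
import Cfsg.Agent.Chev.Steinberg

set_option autoImplicit false
open Cfsg

namespace Cfsg.Agent.S1077

/-- Steinberg's Theorem: there is a homomorphism `x̄_r(t) ↦ x_r(t)` from the presented group onto the Chevalley group whose kernel is precisely the centre; hence `L(K) ≅ Ḡ/Z(Ḡ)`. -/
theorem result {K : Type*} [Field K] (D : Cfsg.Lie.ChevalleyDatum) (hD : D ∈ [Cfsg.Lie.chevG2, Cfsg.Lie.chevB2, Cfsg.Lie.chevD4, Cfsg.Lie.chevF4, Cfsg.Lie.chevE6, Cfsg.Lie.chevE7, Cfsg.Lie.chevE8]) :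
    ∃ θ : D.SteinbergGroup K →* ↥(D.group K), Function.Surjective θ ∧ θ.ker = Subgroup.center (D.SteinbergGroup K) ∧
      ∀ (r : ℕ) (t : K), r < D.nroots → ((θ (D.stGen K r t) : GL D.Idx K) : Matrix D.Idx D.Idx K) = D.x K r t := by
  have hF := Cfsg.Agent.Chev.facts_of_mem hD
  have hE := Cfsg.Agent.Chev.extra_of_mem hD
  let L := Cfsg.Agent.Chev.stLift hF (F := K)
  refine ⟨L.θG, ?_, ?_, fun r t _ => congrArg Units.val (L.θ_X r t)⟩
  · rintro ⟨g, hg⟩
    obtain ⟨x, hx⟩ := L.range_θ.symm ▸ hg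
    exact ⟨x, Subtype.ext hx⟩
  · rw [← L.ker_eq_center hE]
    ext g
    exact ⟨fun h => congrArg Subtype.val h, fun h => Subtype.ext h⟩

end Cfsg.Agent.S1077
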