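import Cfsg.Statements.S4279
import Cfsg.Agent.Chev.G2OddCentralizer

set_option autoImplicit false
open Cfsg

namespace Cfsg.Agent.S4279

open Cfsg.Agent.Chev Cfsg.Agent.Chev.G2Odd in
/-- In the Chevalley group G of type G₂ over a finite field F of odd order q, the centralizer of an involution t has order q²(q² − 1)² and contains two elementwise commuting subgroups, each isomorphic to SL(2, F), which meet exactly in the subgroup generated by t and whose join has index 2 in the centralizer. -/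
theorem result {F : Type*} [Field F] [Fintype F] (hF : Odd (Fintype.card F)) (t : ↥(Cfsg.Lie.chevG2.group F)) (ht : orderOf t = 2) : Nat.card (Subgroup.centralizer ({t} : Set ↥(Cfsg.Lie.chevG2.group F))) = Fintype.card F ^ 2 * (Fintype.card F ^ 2 - 1) ^ 2 ∧ ∃ L₁ L₂ : Subgroup ↥(Cfsg.Lie.chevG2.group F), Nonempty (L₁ ≃* Matrix.SpecialLinearGroup (Fin 2) F) ∧ Nonempty (L₂ ≃* Matrix.SpecialLinearGroup (Fin 2) F) ∧ (∀ x ∈ L₁, ∀ y ∈ L₂, x * y = y * x) ∧ L₁ ⊓ L₂ = Subgroup.zpowers t ∧ L₁ ⊔ L₂ ≤ Subgroup.centralizer ({t} : Set ↥(Cfsg.Lie.chevG2.group F)) ∧ (L₁ ⊔ L₂).relIndex (Subgroup.centralizer ({t} : Set ↥(Cfsg.Lie.chevG2.group F))) = 2 := by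
  obtain ⟨S₁, S₂, C, hC, hS₁, hS₂, hcom, hinter, hle, hrel, hcard⟩ := centralizer_std (F := F) hF
  have h1 : t ^ 2 = 1 := ht ▸ pow_orderOf_eq_one t
  obtain ⟨e, he, het⟩ := conj_std hF t.2 (congrArg Subtype.val ((sq t).symm.trans h1 : t * t = 1))
    (fun h => by rw [show t = 1 from Subtype.ext h, orderOf_one] at ht; norm_num at ht)
  set ψ : ↥(Cfsg.Lie.chevG2.group F) →* _ :=
    (MulAut.conj e).toMonoidHom.comp (Cfsg.Lie.chevG2.group F).subtype with hψ
  have hinj : Function.Injective ψ := fun x y h => Subtype.ext ((MulAut.conj e).injective h)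
  have hzt : ψ t = zI := het
  have hrange : (Cfsg.Lie.chevG2.group F) ≤ ψ.range := fun x hx =>
    ⟨⟨e⁻¹ * x * e, mul_mem (mul_mem (inv_mem he) hx) he⟩,
      show e * (e⁻¹ * x * e) * e⁻¹ = x by group⟩
  have hCG : C ≤ (Cfsg.Lie.chevG2.group F) := hC ▸ inf_le_left
  have hS₁C : S₁ ≤ C := le_sup_left.trans hle
  have hS₂C : S₂ ≤ C := le_sup_right.trans hle
  have hmap : ∀ {S : Subgroup _}, S ≤ C → (S.comap ψ).map ψ = S := fun {S} hS =>
    Subgroup.map_comap_eq_self ((hS.trans hCG).trans hrange)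
  have equiv : ∀ {S : Subgroup _}, S ≤ C → Nonempty (↥(S.comap ψ) ≃* ↥S) := fun {S} hS =>
    ⟨((S.comap ψ).equivMapOfInjective ψ hinj).trans (MulEquiv.subgroupCongr (hmap hS))⟩
  have hcent : Subgroup.centralizer ({t} : Set ↥(Cfsg.Lie.chevG2.group F)) = C.comap ψ := by
    ext x
    rw [Subgroup.mem_comap, hC, Subgroup.mem_inf, Subgroup.mem_centralizer_singleton_iff,
      Subgroup.mem_centralizer_singleton_iff, ← hzt, ← map_mul, ← map_mul, hinj.eq_iff]
    exact ⟨fun h => ⟨mul_mem (mul_mem he x.2) (inv_mem he), h⟩, fun h => h.2⟩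
  have hz : Subgroup.zpowers zI = (Subgroup.zpowers t).map ψ := by
    rw [MonoidHom.map_zpowers, hzt]
  rw [hcent]
  refine ⟨?_, S₁.comap ψ, S₂.comap ψ, ?_, ?_, ?_, ?_, ?_, ?_⟩
  · rw [Nat.card_congr (equiv le_rfl).some.toEquiv, hcard]
  · exact ⟨(equiv hS₁C).some.trans hS₁.some⟩
  · exact ⟨(equiv hS₂C).some.trans hS₂.some⟩
  · intro x hx y hy
    refine hinj ?_
    rw [map_mul, map_mul]
    exact hcom _ hx _ hy
  · rw [← Subgroup.comap_inf, hinter, hz, Subgroup.comap_map_eq_self_of_injective hinj]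
  · exact sup_le (Subgroup.comap_mono hS₁C) (Subgroup.comap_mono hS₂C)
  · rw [← Subgroup.relIndex_map_map_of_injective _ _ hinj, Subgroup.map_sup, hmap hS₁C,
      hmap hS₂C, hmap le_rfl, hrel]

end Cfsg.Agent.S4279
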