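import Cfsg.Statements.S2325
-- import your own Cfsg.Agent.* helpers here

import Cfsg.Agent.SL2Class.Classes

set_option autoImplicit false
open Cfsg

namespace Cfsg.Agent.S2325

open Matrix SL2Class


/-- Over a finite field with q elements, q odd, the special linear group SL₂ has exactly q + 4 conjugacy classes. -/
theorem result {F : Type*} [Field F] [Fintype F] (hodd : Odd (Fintype.card F)) :
    Nat.card (ConjClasses (Matrix.SpecialLinearGroup (Fin 2) F)) = Fintype.card F + 4 := by
  classical
  have hodd' : Fintype.card F % 2 = 1 := Nat.odd_iff.1 hodd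
  have h2 : (2 : F) ≠ 0 := fun e => by
    haveI : CharP F 2 := CharTwo.of_one_ne_zero_of_two_eq_zero one_ne_zero e
    have := FiniteField.even_card_of_char_two (ringChar.eq F 2)
    omega
  have h22 : ((-2 : F)) * (-2) = 4 := by norm_num
  have h22' : (2 : F) * 2 = 4 := by norm_num
  have hne2 : (2 : F) ≠ -2 := fun e => mul_ne_zero h2 h2 (by linear_combination e)
  obtain ⟨ν, hν⟩ := exists_nonsquare (F := F) h2
  let Φ : F ⊕ (Bool ⊕ Bool) → ConjClasses (Matrix.SpecialLinearGroup (Fin 2) F) := fun x => ConjClasses.mk
    (x.elim (fun t => comp t) (fun y => y.elim (fun b => if b then 1 else -1)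
      (fun b => if b then compT 2 ν else compT (-2) ν)))
  have hnc : ∀ c g : Matrix.SpecialLinearGroup (Fin 2) F, NonScalar g → ¬ NonScalar c → ¬ IsConj g c := by
    intro c g hg hc hcon
    obtain ⟨k, rfl⟩ := isConj_iff.1 hcon
    exact hc (nonScalar_conj hg k)
  have hsc : ∀ b : Bool, ¬ NonScalar (if b then (1 : Matrix.SpecialLinearGroup (Fin 2) F) else -1) := by
    intro b; cases b
    · exact not_nonScalar_neg_one
    · exact not_nonScalar_one
  have hns : ∀ b : Bool, NonScalar (if b then compT 2 ν else compT (-2) ν) := by
    intro b; cases b <;> exact nonScalar_compT _ _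
  have hct : ∀ (t : F) (b : Bool), ¬ IsConj (comp t) (if b then compT 2 ν else compT (-2) ν) := by
    intro t b h
    have ht := tr_eq_of_isConj h
    cases b <;> simp at ht <;> subst ht <;> simp at h
    · exact not_isConj_compT h2 h22 hν (isConj_iff.2 h)
    · exact not_isConj_compT h2 h22' hν (isConj_iff.2 h)
  have hΦ : Function.Bijective Φ := by
    constructor
    · rintro (t | b | b) (s | c | c) e <;> have e' := ConjClasses.mk_eq_mk_iff_isConj.1 e <;>
        simp only [Sum.elim_inl, Sum.elim_inr] at e'
      · have := tr_eq_of_isConj e'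
        simp at this
        rw [this]
      · exact absurd e' (hnc _ _ (nonScalar_comp t) (hsc c))
      · exact absurd e' (hct t c)
      · exact absurd e'.symm (hnc _ _ (nonScalar_comp s) (hsc b))
      · obtain ⟨k, hk⟩ := isConj_iff.1 e'
        rw [Subgroup.mem_center_iff.1 (mem_center_iff.2 (hsc b)) k, mul_inv_cancel_right] at hk
        cases b <;> cases c <;> simp at hk
        · rfl
        · exact absurd hk (neg_one_ne_one h2)
        · exact absurd hk.symm (neg_one_ne_one h2)
        · rfl
      · exact absurd e'.symm (hnc _ _ (hns c) (hsc b))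
      · exact absurd e'.symm (hct s b)
      · exact absurd e' (hnc _ _ (hns b) (hsc c))
      · have := tr_eq_of_isConj e'
        cases b <;> cases c <;> simp at this
        · rfl
        · exact absurd this.symm hne2
        · exact absurd this hne2
        · rfl
    · intro C
      obtain ⟨g, rfl⟩ := ConjClasses.exists_rep C
      by_cases hg : NonScalar g
      · by_cases h4 : tr g * tr g = 4
        · rcases isConj_comp_or hg hν with e | e
          · exact ⟨Sum.inl (tr g), ConjClasses.mk_eq_mk_iff_isConj.2 e⟩
          · rcases mul_self_eq_mul_self_iff.1 (h4.trans h22'.symm) with ht | ht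
            · exact ⟨Sum.inr (Sum.inr true), ConjClasses.mk_eq_mk_iff_isConj.2 (by rw [ht] at e; simpa using e)⟩
            · exact ⟨Sum.inr (Sum.inr false), ConjClasses.mk_eq_mk_iff_isConj.2 (by rw [ht] at e; simpa using e)⟩
        · exact ⟨Sum.inl (tr g), ConjClasses.mk_eq_mk_iff_isConj.2
            (isConj_of_tr (nonScalar_comp _) hg (tr_comp _) (Or.inl (by simpa using h4)))⟩
      · rcases scalar_eq hg with rfl | rfl
        · exact ⟨Sum.inr (Sum.inl true), by simp [Φ]⟩
        · exact ⟨Sum.inr (Sum.inl false), by simp [Φ]⟩
  rw [← Nat.card_eq_of_bijective Φ hΦ, Nat.card_sum, Nat.card_sum, Nat.card_eq_fintype_card (α := F),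
    Nat.card_eq_fintype_card (α := Bool)]
  rfl

end Cfsg.Agent.S2325
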