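import Cfsg.Statements.S2331
-- import your own Cfsg.Agent.* helpers here

import Cfsg.Agent.SL2Class.Classes

set_option autoImplicit false
open Cfsg

namespace Cfsg.Agent.S2331

open Matrix SL2Class


/-- Over a finite field with q elements, q even, the special linear group SL₂ has exactly q + 1 conjugacy classes. -/
theorem result {F : Type*} [Field F] [Fintype F] [CharP F 2] :
    Nat.card (ConjClasses (Matrix.SpecialLinearGroup (Fin 2) F)) = Fintype.card F + 1 := by
  classical
  have h2 : (2 : F) = 0 := by exact_mod_cast CharP.cast_eq_zero F 2
  let Φ : Option F → ConjClasses (Matrix.SpecialLinearGroup (Fin 2) F) := fun x =>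
    ConjClasses.mk (x.elim 1 comp)
  have hΦ : Function.Bijective Φ := by
    constructor
    · rintro (_ | t) (_ | s) e <;> have e' := ConjClasses.mk_eq_mk_iff_isConj.1 e <;>
        simp only [Option.elim_none, Option.elim_some] at e'
      · rfl
      · exact absurd (isConj_one_right.1 e') (fun h => ne_one_of_nonScalar (nonScalar_comp s) h)
      · exact absurd (isConj_one_left.1 e') (fun h => ne_one_of_nonScalar (nonScalar_comp t) h)
      · have := tr_eq_of_isConj e'
        simp at this
        rw [this]
    · intro C
      obtain ⟨g, rfl⟩ := ConjClasses.exists_rep C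
      by_cases hg : NonScalar g
      · exact ⟨some (tr g), ConjClasses.mk_eq_mk_iff_isConj.2
          (isConj_of_tr (nonScalar_comp _) hg (tr_comp _) (Or.inr h2))⟩
      · refine ⟨none, congrArg ConjClasses.mk ?_⟩
        have : g ∈ Subgroup.center _ := mem_center_iff.2 hg
        rw [center_eq_bot h2, Subgroup.mem_bot] at this
        exact this.symm
  rw [← Nat.card_eq_of_bijective Φ hΦ, Nat.card_eq_fintype_card, Fintype.card_option]

end Cfsg.Agent.S2331
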