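import Cfsg.Statements.S2430
-- import your own Cfsg.Agent.* helpers here

import Cfsg.Agent.SL2Class.Torus
import Cfsg.Agent.GroupSub.TwoGroupInv

set_option autoImplicit false
open Cfsg

namespace Cfsg.Agent.S2430

open Matrix SL2Class

theorem key {F : Type*} [Field F] [Fintype F] {ℓ : ℕ} [Fact ℓ.Prime] (hℓ2 : ℓ ≠ 2)
    {g : Matrix.SpecialLinearGroup (Fin 2) F} (ht : tr g * tr g ≠ 4) {c r : ℕ}
    (hc : Nat.card (Subgroup.centralizer ({g} : Set (Matrix.SpecialLinearGroup (Fin 2) F))) = c) (hℓc : ℓ ∣ c)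
    (hG : Nat.card (Matrix.SpecialLinearGroup (Fin 2) F) = c * r) (hr : ¬ ℓ ∣ r)
    (P : Sylow ℓ (Matrix.SpecialLinearGroup (Fin 2) F)) :
    Nat.card (Subgroup.centralizer ((P : Subgroup (Matrix.SpecialLinearGroup (Fin 2) F)) : Set (Matrix.SpecialLinearGroup (Fin 2) F))) = c ∧
      IsCyclic (Subgroup.centralizer ((P : Subgroup (Matrix.SpecialLinearGroup (Fin 2) F)) : Set (Matrix.SpecialLinearGroup (Fin 2) F))) ∧
      Nat.card (Subgroup.normalizer ((P : Subgroup (Matrix.SpecialLinearGroup (Fin 2) F)) : Set (Matrix.SpecialLinearGroup (Fin 2) F))) = 2 * c := by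
  classical
  have hg := nonScalar_of_sq_ne ht
  set C := Subgroup.centralizer ({g} : Set (Matrix.SpecialLinearGroup (Fin 2) F)) with hC
  have hcyc : IsCyclic C := isCyclic_centralizer ht
  let R : Sylow ℓ C := default
  have hc0 : c ≠ 0 := hc ▸ (Nat.card_pos (α := C)).ne'
  have hr0 : r ≠ 0 := fun e => hr (e ▸ dvd_zero ℓ)
  set R₀ := (R : Subgroup C).map C.subtype with hR₀
  have hcard : Nat.card R₀ = ℓ ^ (Nat.card (Matrix.SpecialLinearGroup (Fin 2) F)).factorization ℓ := by
    rw [Subgroup.card_map_of_injective C.subtype_injective, Sylow.card_eq_multiplicity, hc, hG,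
      Nat.factorization_mul hc0 hr0, Finsupp.add_apply, Nat.factorization_eq_zero_of_not_dvd hr, add_zero]
  have hne : R₀ ≠ ⊥ := fun e => by
    rw [e, Subgroup.card_bot, hG] at hcard
    have h1 := (Fact.out : ℓ.Prime).factorization_pos_of_dvd (Nat.mul_ne_zero hc0 hr0) (hℓc.mul_right r)
    exact (Nat.one_lt_pow h1.ne' (Fact.out : ℓ.Prime).one_lt).ne hcard
  obtain ⟨x, hxR, hx1⟩ := R₀.ne_bot_iff_exists_ne_one.1 hne |> fun ⟨⟨x, hx⟩, h⟩ =>
    (⟨x, hx, fun e => h (Subtype.ext e)⟩ : ∃ x, x ∈ R₀ ∧ x ≠ 1)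
  have hRC : R₀ ≤ C := Subgroup.map_subtype_le _
  have hxs : NonScalar x := by
    intro h
    rcases scalar_eq (fun h' => h' h) with e | e
    · exact hx1 e
    · have h2 : orderOf x ∣ 2 := orderOf_dvd_of_pow_eq_one (by rw [e, pow_two, neg_mul_self_eq])
      obtain ⟨k, hk⟩ := R.isPGroup'.map C.subtype ⟨x, hxR⟩
      have h1 : orderOf x ∣ ℓ ^ k := orderOf_dvd_of_pow_eq_one (congrArg Subtype.val hk)
      have hco : Nat.Coprime 2 (ℓ ^ k) := ((Nat.coprime_primes Nat.prime_two Fact.out).2 (Ne.symm hℓ2)).pow_right k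
      exact hx1 (orderOf_eq_one_iff.1 (Nat.eq_one_of_dvd_coprimes hco h2 h1))
  have hCR : Subgroup.centralizer (R₀ : Set (Matrix.SpecialLinearGroup (Fin 2) F)) = C := by
    refine le_antisymm ?_ fun y hy z hz => centralizer_comm hg (hRC hz) hy
    rw [hC, ← centralizer_eq hg (hRC hxR) hxs]
    exact Subgroup.centralizer_le (Set.singleton_subset_iff.2 hxR)
  haveI : IsMulCommutative C := ⟨⟨fun a b => Subtype.ext (centralizer_comm hg a.2 b.2)⟩⟩
  have hRn : (R : Subgroup C).Normal := inferInstance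
  haveI : (R : Subgroup C).Characteristic := R.characteristic_of_normal hRn
  have hNR : Subgroup.normalizer (R₀ : Set (Matrix.SpecialLinearGroup (Fin 2) F)) =
      Subgroup.normalizer (C : Set (Matrix.SpecialLinearGroup (Fin 2) F)) := by
    refine le_antisymm (fun h hh => ?_) (fun h hh => ?_)
    · rw [← hCR, Subgroup.mem_normalizer_iff]
      intro y
      constructor
      · intro hy z hz
        have h1 := hy (h⁻¹ * z * h) (by simpa using (Subgroup.mem_normalizer_iff.1 (Subgroup.inv_mem _ hh) z).1 hz)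
        calc z * (h * y * h⁻¹) = h * (h⁻¹ * z * h * y) * h⁻¹ := by group
          _ = h * (y * (h⁻¹ * z * h)) * h⁻¹ := by rw [h1]
          _ = h * y * h⁻¹ * z := by group
      · intro hy z hz
        have h1 := hy (h * z * h⁻¹) ((Subgroup.mem_normalizer_iff.1 hh z).1 hz)
        calc z * y = h⁻¹ * (h * z * h⁻¹ * (h * y * h⁻¹)) * h := by group
          _ = h⁻¹ * (h * y * h⁻¹ * (h * z * h⁻¹)) * h := by rw [h1]
          _ = y * z := by group
    · have hmem : ∀ y ∈ C, (∃ k, y ^ ℓ ^ k = 1) → y ∈ R₀ := fun y hy ⟨k, hk⟩ => by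
        have hp : IsPGroup ℓ (Subgroup.zpowers (⟨y, hy⟩ : C) ⊔ (R : Subgroup C) : Subgroup C) :=
          (GroupSub.isPGroup_zpowers_of_pow (g := (⟨y, hy⟩ : C)) (Subtype.ext hk)).to_sup_of_normal_right R.isPGroup'
        exact ⟨⟨y, hy⟩, (R.is_maximal' hp le_sup_right) ▸
          (le_sup_left (a := Subgroup.zpowers (⟨y, hy⟩ : C)) (b := (R : Subgroup C)) (Subgroup.mem_zpowers _)), rfl⟩
      have hfwd : ∀ k ∈ Subgroup.normalizer (C : Set (Matrix.SpecialLinearGroup (Fin 2) F)), ∀ y ∈ R₀,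
          k * y * k⁻¹ ∈ R₀ := by
        intro k hk y hy
        refine hmem _ ((Subgroup.mem_normalizer_iff.1 hk y).1 (hRC hy)) ?_
        obtain ⟨j, hj⟩ := R.isPGroup'.map C.subtype ⟨y, hy⟩
        exact ⟨j, by rw [conj_pow, show y ^ ℓ ^ j = 1 from congrArg Subtype.val hj]; group⟩
      rw [Subgroup.mem_normalizer_iff]
      exact fun y => ⟨hfwd h hh y, fun hy => by
        simpa [mul_assoc] using hfwd h⁻¹ (Subgroup.inv_mem _ hh) _ hy⟩
  obtain ⟨a, ha⟩ := MulAction.exists_smul_eq (Matrix.SpecialLinearGroup (Fin 2) F) (Sylow.ofCard R₀ hcard) P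
  have hP : (P : Subgroup (Matrix.SpecialLinearGroup (Fin 2) F)) = R₀.map (MulAut.conj a).toMonoidHom := by
    rw [← ha]; rfl
  have himg : ((P : Subgroup (Matrix.SpecialLinearGroup (Fin 2) F)) : Set (Matrix.SpecialLinearGroup (Fin 2) F)) =
      (MulAut.conj a).toMonoidHom '' R₀ := by rw [hP, Subgroup.coe_map]
  have e1 : Subgroup.centralizer ((P : Subgroup (Matrix.SpecialLinearGroup (Fin 2) F)) : Set (Matrix.SpecialLinearGroup (Fin 2) F)) =
      C.map (MulAut.conj a).toMonoidHom := by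
    rw [← hCR, hP]
    ext y
    rw [Subgroup.mem_map_equiv]
    simp only [Subgroup.mem_centralizer_iff, Subgroup.coe_map, Set.forall_mem_image]
    constructor
    · intro h z hz
      have h1 := h hz
      simp at h1 ⊢
      calc z * (a⁻¹ * y * a) = a⁻¹ * (a * z * a⁻¹ * y) * a := by group
        _ = a⁻¹ * (y * (a * z * a⁻¹)) * a := by rw [h1]
        _ = a⁻¹ * y * a * z := by group
    · intro h z hz
      have h1 := h z hz
      simp at h1 ⊢
      calc a * z * a⁻¹ * y = a * (z * (a⁻¹ * y * a)) * a⁻¹ := by group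
        _ = a * (a⁻¹ * y * a * z) * a⁻¹ := by rw [h1]
        _ = y * (a * z * a⁻¹) := by group
  have e2 : Subgroup.normalizer ((P : Subgroup (Matrix.SpecialLinearGroup (Fin 2) F)) : Set (Matrix.SpecialLinearGroup (Fin 2) F)) =
      (Subgroup.normalizer (R₀ : Set (Matrix.SpecialLinearGroup (Fin 2) F))).map (MulAut.conj a).toMonoidHom := by
    rw [hP]; exact (Subgroup.map_equiv_normalizer_eq R₀ (MulAut.conj a)).symm
  refine ⟨?_, ?_, ?_⟩
  · rw [e1, Subgroup.card_map_of_injective (MulAut.conj a).injective, hc]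
  · rw [e1]; exact isCyclic_of_surjective (C.equivMapOfInjective _ (MulAut.conj a).injective).toMonoidHom
      (MulEquiv.surjective _)
  · rw [e2, Subgroup.card_map_of_injective (MulAut.conj a).injective, hNR, card_normalizer ht, hc]


/-- Let F be a finite field with q elements, q odd, ℓ an odd prime, and P a Sylow ℓ-subgroup of SL₂ over F. If ℓ divides q − 1, the centraliser of P is cyclic of order q − 1 (a split torus) and the normaliser of P has order 2(q − 1); if ℓ divides q + 1, the centraliser of P is cyclic of order q + 1 (a non-split torus) and the normaliser of P has order 2(q + 1). -/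
theorem result {F : Type*} [Field F] [Fintype F] (hodd : Odd (Fintype.card F)) (ℓ : ℕ) [Fact ℓ.Prime] (hℓ : ℓ ≠ 2)
    (P : Sylow ℓ (Matrix.SpecialLinearGroup (Fin 2) F)) :
    (ℓ ∣ Fintype.card F - 1 →
      Nat.card (Subgroup.centralizer ((P : Subgroup (Matrix.SpecialLinearGroup (Fin 2) F)) : Set (Matrix.SpecialLinearGroup (Fin 2) F))) = Fintype.card F - 1 ∧
      IsCyclic (Subgroup.centralizer ((P : Subgroup (Matrix.SpecialLinearGroup (Fin 2) F)) : Set (Matrix.SpecialLinearGroup (Fin 2) F))) ∧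
      Nat.card (Subgroup.normalizer ((P : Subgroup (Matrix.SpecialLinearGroup (Fin 2) F)) : Set (Matrix.SpecialLinearGroup (Fin 2) F))) = 2 * (Fintype.card F - 1)) ∧
    (ℓ ∣ Fintype.card F + 1 →
      Nat.card (Subgroup.centralizer ((P : Subgroup (Matrix.SpecialLinearGroup (Fin 2) F)) : Set (Matrix.SpecialLinearGroup (Fin 2) F))) = Fintype.card F + 1 ∧
      IsCyclic (Subgroup.centralizer ((P : Subgroup (Matrix.SpecialLinearGroup (Fin 2) F)) : Set (Matrix.SpecialLinearGroup (Fin 2) F))) ∧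
      Nat.card (Subgroup.normalizer ((P : Subgroup (Matrix.SpecialLinearGroup (Fin 2) F)) : Set (Matrix.SpecialLinearGroup (Fin 2) F))) = 2 * (Fintype.card F + 1)) := by
  classical
  have hodd' : Fintype.card F % 2 = 1 := Nat.odd_iff.1 hodd
  have h2 : (2 : F) ≠ 0 := fun e => by
    haveI : CharP F 2 := CharTwo.of_one_ne_zero_of_two_eq_zero one_ne_zero e
    have := FiniteField.even_card_of_char_two (ringChar.eq F 2)
    omega
  have hq := Fintype.one_lt_card (α := F)
  set q := Fintype.card F with hqdef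
  have hℓp := (Fact.out : ℓ.Prime)
  have h3 : ℓ ≠ 2 := hℓ
  have hsq : q ^ 2 - 1 = (q - 1) * (q + 1) := by
    obtain ⟨k, hk⟩ : ∃ k, q = k + 1 := ⟨q - 1, by omega⟩
    rw [hk, Nat.add_sub_cancel]
    have : (k + 1) ^ 2 = k * (k + 1 + 1) + 1 := by ring
    omega
  have hcard : Nat.card (Matrix.SpecialLinearGroup (Fin 2) F) = q * ((q - 1) * (q + 1)) := by rw [card_sl, hsq]
  have hnd : ∀ n : ℕ, ℓ ∣ n → ℓ ∣ n + 2 → False := fun n h1 h2 =>
    h3 ((Nat.prime_dvd_prime_iff_eq hℓp Nat.prime_two).1 ((Nat.dvd_add_right h1).1 h2))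
  have hnd1 : ∀ n : ℕ, ℓ ∣ n → ℓ ∣ n + 1 → False := fun n h1 h2 =>
    hℓp.one_lt.ne' (Nat.dvd_one.1 ((Nat.dvd_add_right h1).1 h2))
  constructor
  · intro hd
    have hne : q ≠ 3 := fun e => hnd1 1 (by
      have : ℓ ∣ 2 := by simpa [e] using hd
      exact absurd ((Nat.prime_dvd_prime_iff_eq hℓp Nat.prime_two).1 this) h3)
      (by simpa [e] using hd)
    obtain ⟨t, r, hr, ht⟩ := exists_split (F := F) (by omega)
    refine key h3 (g := comp t) (r := q * (q + 1)) (by rwa [tr_comp])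
      (card_cent_split (r := r) (by rwa [tr_comp]) (by rwa [tr_comp])) hd (by rw [hcard]; ring) ?_ P
    rw [hℓp.dvd_mul]
    rintro (h | h)
    · exact hnd1 (q - 1) hd (by rwa [Nat.sub_add_cancel (by omega)])
    · exact hnd (q - 1) hd (by rwa [show q - 1 + 2 = q + 1 by omega])
  · intro hd
    obtain ⟨g, hg, ht⟩ := exists_elliptic (F := F) h2
    refine key h3 (g := g) (r := q * (q - 1)) ht
      (card_cent_noRoot hg (nonScalar_of_sq_ne ht)) hd (by rw [hcard]; ring) ?_ P
    rw [hℓp.dvd_mul]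
    rintro (h | h)
    · exact hnd1 q h hd
    · exact hnd (q - 1) h (by rwa [show q - 1 + 2 = q + 1 by omega])

end Cfsg.Agent.S2430
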