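import Cfsg.Statements.S2431
-- import your own Cfsg.Agent.* helpers here

import Cfsg.Agent.SL2Class.Torus
import Cfsg.Agent.GroupSub.TwoGroupInv

set_option autoImplicit false
open Cfsg

namespace Cfsg.Agent.S2431

open Matrix SL2Class

section

variable {F : Type*} [Field F]

local notation "SG" => Matrix.SpecialLinearGroup (Fin 2) F
local notation:1024 "↥ₘ" A:1024 => ((A : Matrix.SpecialLinearGroup (Fin 2) F) : Matrix (Fin 2) (Fin 2) F)

/-- The elements of 2-power order in the centraliser of `g`. -/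
def C2 (g : SG) (hg : NonScalar g) : Subgroup SG where
  carrier := {x | x ∈ Subgroup.centralizer ({g} : Set SG) ∧ ∃ k : ℕ, x ^ 2 ^ k = 1}
  one_mem' := ⟨one_mem _, 0, one_pow _⟩
  mul_mem' := by
    rintro a b ⟨ha, m, hm⟩ ⟨hb, n, hn⟩
    refine ⟨mul_mem ha hb, m + n, ?_⟩
    rw [Commute.mul_pow (centralizer_comm hg ha hb), pow_add, pow_mul, hm, one_pow, one_mul, mul_comm, pow_mul,
      hn, one_pow]
  inv_mem' := by
    rintro a ⟨ha, m, hm⟩
    exact ⟨inv_mem ha, m, by rw [inv_pow, hm, inv_one]⟩

theorem neg_one_mem_C2 {g : SG} (hg : NonScalar g) : (-1 : SG) ∈ C2 g hg :=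
  ⟨Subgroup.mem_centralizer_singleton_iff.2 (Subgroup.mem_center_iff.1 neg_one_mem_center g).symm,
    1, by rw [pow_one, pow_two, neg_mul_self_eq]⟩

/-- The candidate Sylow 2-subgroup. -/
def S0 (g : SG) (hg : NonScalar g) (w : SG) (hw : w * g * w⁻¹ = g⁻¹) (hww : w * w = -1) : Subgroup SG where
  carrier := {x | x ∈ C2 g hg ∨ w * x ∈ C2 g hg}
  one_mem' := Or.inl (one_mem _)
  mul_mem' := by
    intro a b ha hb
    have hcw : ∀ c ∈ C2 g hg, w * c = c⁻¹ * w := fun c hc => by
      rw [← conj_centralizer hg hw hc.1, inv_mul_cancel_right]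
    rcases ha with ha | ha <;> rcases hb with hb | hb
    · exact Or.inl (mul_mem ha hb)
    · refine Or.inr ?_
      rw [← mul_assoc, hcw a ha, mul_assoc]
      exact mul_mem (inv_mem ha) hb
    · exact Or.inr (by rw [← mul_assoc]; exact mul_mem ha hb)
    · refine Or.inl ?_
      have e : a * b = w⁻¹ * ((w * a) * w⁻¹) * (w * b) := by group
      have e2 : w⁻¹ * ((w * a) * w⁻¹) = (w * a)⁻¹ * (w * w)⁻¹ := by
        have h := hcw ((w * a)⁻¹) (inv_mem ha)
        rw [inv_inv] at h
        calc w⁻¹ * ((w * a) * w⁻¹) = w⁻¹ * ((w * a) * w) * (w⁻¹ * w⁻¹) := by group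
          _ = w⁻¹ * (w * (w * a)⁻¹) * (w⁻¹ * w⁻¹) := by rw [← h]
          _ = (w * a)⁻¹ * (w * w)⁻¹ := by group
      rw [e, e2, hww]
      exact mul_mem (mul_mem (inv_mem ha) (inv_mem (neg_one_mem_C2 hg))) hb
  inv_mem' := by
    intro a ha
    have hcw : ∀ c ∈ C2 g hg, w * c = c⁻¹ * w := fun c hc => by
      rw [← conj_centralizer hg hw hc.1, inv_mul_cancel_right]
    rcases ha with ha | ha
    · exact Or.inl (inv_mem ha)
    · refine Or.inr ?_
      have e : w * a⁻¹ = (w * a) * (w * w) := by
        calc w * a⁻¹ = (w * (w * a)⁻¹) * w := by group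
          _ = ((w * a) * w) * w := by rw [hcw _ (inv_mem ha), inv_inv]
          _ = (w * a) * (w * w) := by group
      rw [e, hww]
      exact mul_mem ha (neg_one_mem_C2 hg)

theorem mem_S0 {g w x : SG} {hg : NonScalar g} {hw : w * g * w⁻¹ = g⁻¹} {hww : w * w = -1} :
    x ∈ S0 g hg w hw hww ↔ x ∈ C2 g hg ∨ w * x ∈ C2 g hg := Iff.rfl

theorem w_mem {g w : SG} {hg : NonScalar g} {hw : w * g * w⁻¹ = g⁻¹} {hww : w * w = -1} :
    w ∈ S0 g hg w hw hww := Or.inr (by rw [hww]; exact neg_one_mem_C2 hg)

theorem sq_of_out [Fintype F] {g w x : SG} (h2 : (2 : F) ≠ 0) (ht : tr g * tr g ≠ 4)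
    (hw : w * g * w⁻¹ = g⁻¹) (hx : w * x ∈ Subgroup.centralizer ({g} : Set SG)) : x * x = -1 := by
  refine sq_of_not_mem h2 ht ?_ fun hxc => inverting_notMem ht hw ?_
  · have e : x = w⁻¹ * (w * x) := by group
    rw [e]
    exact Subgroup.mul_mem _ (Subgroup.inv_mem _ (mem_normalizer_of_inverting (nonScalar_of_sq_ne ht) hw))
      (Subgroup.le_normalizer hx)
  · simpa using mul_mem hx (inv_mem hxc)

theorem nonScalar_of_sq {x : SG} (h2 : (2 : F) ≠ 0) (h : x * x = -1) : NonScalar x := fun hs => by
  rcases scalar_eq (fun h' => h' hs) with e | e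
  · rw [e, one_mul] at h; exact neg_one_ne_one h2 h.symm
  · rw [e, neg_mul_self_eq] at h; exact neg_one_ne_one h2 h.symm

theorem neg_one_sq_matrix {x : SG} (h : x * x = -1) : ↥ₘ x * ↥ₘ x = -1 := by
  rw [← Matrix.SpecialLinearGroup.coe_mul, h, coe_neg_one]

theorem tr_of_sq {x : SG} (h2 : (2 : F) ≠ 0) (h : x * x = -1) : tr x = 0 := by
  have e := g_sq x
  rw [neg_one_sq_matrix h, show (-1 : Matrix (Fin 2) (Fin 2) F) = lin x (-1) 0 by
    ext i j; simp [lin_apply]] at e
  exact (lin_ext (nonScalar_of_sq h2 h) e).2.symm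

theorem eq_or_neg {g x y : SG} (h2 : (2 : F) ≠ 0) (hg : NonScalar g)
    (hx : x ∈ Subgroup.centralizer ({g} : Set SG)) (hy : y ∈ Subgroup.centralizer ({g} : Set SG))
    (hxx : x * x = -1) (hyy : y * y = -1) : y = x ∨ y = -1 * x := by
  have hc : Commute x⁻¹ y := centralizer_comm hg (inv_mem hx) hy
  rcases sq_eq_one_cases h2 (x := x⁻¹ * y) (by
    rw [hc.symm.mul_mul_mul_comm, ← _root_.mul_inv_rev, hxx, hyy, inv_mul_cancel]) with e | e
  · exact Or.inl (inv_mul_eq_one.1 e).symm
  · exact Or.inr (by rw [inv_mul_eq_iff_eq_mul.1 e, Subgroup.mem_center_iff.1 neg_one_mem_center x])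

/-- An element of the normaliser sending a generator of the torus part into it lies in the Sylow subgroup. -/
theorem mem_S0_of_conj [Fintype F] {g w x y : SG} {hg : NonScalar g} {hw : w * g * w⁻¹ = g⁻¹} {hww : w * w = -1}
    (ht : tr g * tr g ≠ 4) (hx : x ∈ C2 g hg) (hxs : NonScalar x)
    (hy : y ∈ Subgroup.normalizer (S0 g hg w hw hww : Set SG)) (hyx : y * x * y⁻¹ ∈ C2 g hg) :
    y ∈ S0 g hg w hw hww := by
  set C := Subgroup.centralizer ({g} : Set SG)
  have h1 := centralizer_eq hg hx.1 hxs
  have h2 := centralizer_eq hg hyx.1 (nonScalar_conj hxs y)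
  have hN : y ∈ Subgroup.normalizer (C : Set SG) := by
    rw [Subgroup.mem_normalizer_iff]
    intro z
    show z ∈ Subgroup.centralizer ({g} : Set SG) ↔ y * z * y⁻¹ ∈ Subgroup.centralizer ({g} : Set SG)
    conv_lhs => rw [← h1]
    conv_rhs => rw [← h2]
    rw [Subgroup.mem_centralizer_singleton_iff, Subgroup.mem_centralizer_singleton_iff]
    constructor
    · intro e
      calc y * z * y⁻¹ * (y * x * y⁻¹) = y * (z * x) * y⁻¹ := by group
        _ = y * (x * z) * y⁻¹ := by rw [e]
        _ = y * x * y⁻¹ * (y * z * y⁻¹) := by group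
    · intro e
      calc z * x = y⁻¹ * (y * z * y⁻¹ * (y * x * y⁻¹)) * y := by group
        _ = y⁻¹ * (y * x * y⁻¹ * (y * z * y⁻¹)) * y := by rw [e]
        _ = x * z := by group
  have key : ∀ z ∈ C, z ∈ Subgroup.normalizer (S0 g hg w hw hww : Set SG) → z ∈ C2 g hg := by
    intro z hz hzN
    have hm : z * w * z⁻¹ ∈ S0 g hg w hw hww := (Subgroup.mem_normalizer_iff.1 hzN w).1 w_mem
    have hzi : w * z * w⁻¹ = z⁻¹ := conj_centralizer hg hw hz
    have e : w * (z * w * z⁻¹) = z⁻¹ * -1 * z⁻¹ := by
      rw [← hww, ← hzi]; group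
    rcases hm with h | h
    · exfalso
      refine inverting_notMem ht hw ?_
      have h' : z⁻¹ * (z * w * z⁻¹) * z ∈ C := mul_mem (mul_mem (inv_mem hz) h.1) hz
      rwa [show z⁻¹ * (z * w * z⁻¹) * z = w by group] at h'
    · rw [e, Subgroup.mem_center_iff.1 neg_one_mem_center, mul_assoc] at h
      have h' := mul_mem (inv_mem (neg_one_mem_C2 hg)) h
      rw [inv_mul_cancel_left] at h'
      obtain ⟨-, k, hk⟩ := h'
      refine ⟨hz, k + 1, ?_⟩
      rw [pow_succ', pow_mul, ← _root_.inv_inj, inv_one, ← inv_pow, pow_two, _root_.mul_inv_rev, hk]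
  rcases mem_normalizer_cases ht hw hN with hc | hc
  · exact Or.inl (key y hc hy)
  · exact Or.inr (key (w * y) hc (Subgroup.mul_mem _ (Subgroup.le_normalizer w_mem) hy))

theorem exists_torus [Fintype F] (h2 : (2 : F) ≠ 0) :
    ∃ g : SG, tr g * tr g ≠ 4 ∧ ∃ c r : ℕ, Nat.card (Subgroup.centralizer ({g} : Set SG)) = c ∧
      Nat.card SG = c * r ∧ 4 ∣ c ∧ r % 4 = 2 ∧
      ((Fintype.card F % 8 = 1 ∨ Fintype.card F % 8 = 7) → 8 ∣ c) ∧
      ((Fintype.card F % 8 = 3 ∨ Fintype.card F % 8 = 5) → c % 8 = 4) := by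
  have hodd := card_odd_of_two_ne_zero h2
  have hq1 := Fintype.one_lt_card (α := F)
  set q := Fintype.card F with hqdef
  have hq2 : q ^ 2 - 1 = (q - 1) * (q + 1) := by
    obtain ⟨k, hk⟩ : ∃ k, q = k + 1 := ⟨q - 1, by omega⟩
    rw [hk, Nat.add_sub_cancel]
    have : (k + 1) ^ 2 = k * (k + 1 + 1) + 1 := by ring
    omega
  by_cases h4 : q % 4 = 1
  · obtain ⟨t, r, hr, ht⟩ := exists_split (F := F) (by omega)
    refine ⟨comp t, by rwa [tr_comp], q - 1, q * (q + 1), card_cent_split (r := r) (by rwa [tr_comp])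
      (by rwa [tr_comp]), by rw [card_sl, ← hqdef, hq2]; ring, by omega, ?_, by omega, by omega⟩
    rw [Nat.mul_mod, h4, show (q + 1) % 4 = 2 by omega]
  · obtain ⟨g, hg, ht⟩ := exists_elliptic (F := F) h2
    refine ⟨g, ht, q + 1, q * (q - 1), card_cent_noRoot hg (nonScalar_of_sq_ne ht),
      by rw [card_sl, ← hqdef, hq2]; ring, by omega, ?_, by omega, by omega⟩
    rw [Nat.mul_mod, show q % 4 = 3 by omega, show (q - 1) % 4 = 2 by omega]

/-- The statement for one Sylow 2-subgroup. -/
theorem main [Fintype F] (h2 : (2 : F) ≠ 0) : ∃ P : Sylow 2 SG,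
    Subgroup.centralizer ((P : Subgroup SG) : Set SG) = Subgroup.center SG ∧
    ((Fintype.card F % 8 = 1 ∨ Fintype.card F % 8 = 7) → Subgroup.normalizer ((P : Subgroup SG) : Set SG) = (P : Subgroup SG)) ∧
    ((Fintype.card F % 8 = 3 ∨ Fintype.card F % 8 = 5) →
      Nat.card (Subgroup.normalizer ((P : Subgroup SG) : Set SG)) = 3 * Nat.card (P : Subgroup SG)) := by
  classical
  haveI : Fact (Nat.Prime 2) := ⟨Nat.prime_two⟩
  obtain ⟨g, ht, c, r, hc, hG, h4c, hr4, h8, h84⟩ := exists_torus (F := F) h2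
  have hg := nonScalar_of_sq_ne ht
  obtain ⟨w, hw⟩ := exists_inverting ht
  have hww : w * w = -1 := sq_of_not_mem h2 ht (mem_normalizer_of_inverting hg hw) (inverting_notMem ht hw)
  set C := Subgroup.centralizer ({g} : Set SG) with hC
  set D := C2 g hg with hD
  set S := S0 g hg w hw hww with hS
  haveI : IsMulCommutative C := ⟨⟨fun a b => Subtype.ext (centralizer_comm hg a.2 b.2)⟩⟩
  let R : Sylow 2 C := default
  have hDR : D.subgroupOf C = (R : Subgroup C) := by
    refine R.is_maximal' ?_ ?_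
    · rintro ⟨x, hx⟩
      obtain ⟨k, hk⟩ := hx.2
      exact ⟨k, Subtype.ext (Subtype.ext (by simpa using hk))⟩
    · intro x hx
      obtain ⟨k, hk⟩ := R.isPGroup' ⟨x, hx⟩
      exact ⟨x.2, k, by simpa using congrArg (fun y : (R : Subgroup C) => ((y : C) : SG)) hk⟩
  have hc0 : c ≠ 0 := hc ▸ (Nat.card_pos (α := C)).ne'
  have hr0 : r ≠ 0 := by omega
  have hcardD : Nat.card D = 2 ^ c.factorization 2 := by
    rw [← Nat.card_congr (Subgroup.subgroupOfEquivOfLe (show D ≤ C from fun x hx => hx.1)).toEquiv, hDR,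
      Sylow.card_eq_multiplicity, hc]
  have hn2 : 2 ≤ c.factorization 2 := (Nat.prime_two.pow_dvd_iff_le_factorization hc0).1 h4c
  have hcardS : Nat.card S = 2 * Nat.card D := by
    let e : Bool × D → S := fun p => if p.1 then ⟨w⁻¹ * p.2, Or.inr (by rw [mul_inv_cancel_left]; exact p.2.2)⟩
      else ⟨p.2, Or.inl p.2.2⟩
    have hne : ∀ a b : D, (a : SG) ≠ w⁻¹ * b := fun a b h => inverting_notMem ht hw (C.inv_mem_iff.1 (by
      have := C.mul_mem a.2.1 (C.inv_mem b.2.1)
      rwa [h, mul_inv_cancel_right] at this))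
    have he : Function.Bijective e := by
      constructor
      · rintro ⟨a, x⟩ ⟨b, y⟩ h
        have h' := congrArg Subtype.val h
        cases a <;> cases b <;> simp [e] at h'
        · simp [h']
        · exact absurd h' (hne x y)
        · exact absurd h'.symm (hne y x)
        · simp [h']
      · rintro ⟨x, hx | hx⟩
        · exact ⟨(false, ⟨x, hx⟩), rfl⟩
        · exact ⟨(true, ⟨w * x, hx⟩), Subtype.ext (by simp [e])⟩
    rw [← Nat.card_eq_of_bijective e he, Nat.card_prod, Nat.card_eq_fintype_card (α := Bool), Fintype.card_bool]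
  have hr1 : r.factorization 2 = 1 := by
    obtain ⟨j, hj⟩ : ∃ j, r = 2 * (2 * j + 1) := ⟨r / 4, by omega⟩
    rw [hj, Nat.factorization_mul two_ne_zero (by omega), Finsupp.add_apply, Nat.prime_two.factorization_self,
      Nat.factorization_eq_zero_of_not_dvd (show ¬ 2 ∣ 2 * j + 1 by omega)]
  have hcardS' : Nat.card S = 2 ^ (Nat.card SG).factorization 2 := by
    rw [hcardS, hcardD, hG, Nat.factorization_mul hc0 hr0, Finsupp.add_apply, hr1, pow_succ, mul_comm]
  refine ⟨Sylow.ofCard S hcardS', ?_⟩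
  rw [Sylow.coe_ofCard]
  haveI : IsCyclic C := isCyclic_centralizer ht
  haveI : IsCyclic D := isCyclic_of_injective
    (Subgroup.inclusion (show D ≤ C from fun x hx => hx.1)) (Subgroup.inclusion_injective _)
  obtain ⟨⟨x, hx⟩, hgen⟩ := IsCyclic.exists_generator (α := D)
  have hxord : orderOf x = 2 ^ c.factorization 2 := by
    rw [← hcardD, ← orderOf_eq_card_of_forall_mem_zpowers hgen, Subgroup.orderOf_mk]
  have hx4 : 4 ≤ orderOf x := hxord ▸ (show 2 ^ 2 ≤ _ from Nat.pow_le_pow_right two_pos hn2)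
  have hxs : NonScalar x := fun h => by
    have h' : x ^ 2 = 1 := by
      rcases scalar_eq (fun h' => h' h) with e | e
      · rw [e, one_pow]
      · rw [e, pow_two, neg_mul_self_eq]
    have := Nat.le_of_dvd two_pos (orderOf_dvd_of_pow_eq_one h')
    omega
  refine ⟨?_, fun h18 => ?_, fun h38 => ?_⟩
  · refine le_antisymm (fun y hy => ?_) (Subgroup.center_le_centralizer _)
    have hyC : y ∈ C := by
      rw [hC, ← centralizer_eq hg hx.1 hxs]
      exact Subgroup.mem_centralizer_singleton_iff.2 (hy x (Or.inl hx)).symm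
    have e := conj_centralizer hg hw hyC
    rw [hy w w_mem, mul_inv_cancel_right] at e
    exact mem_center_cases.2 (sq_eq_one_cases h2 (by nth_rw 2 [e]; exact mul_inv_cancel y))
  · refine le_antisymm (fun y hy => ?_) Subgroup.le_normalizer
    refine mem_S0_of_conj ht hx hxs hy (((Subgroup.mem_normalizer_iff.1 hy x).1 (Or.inl hx)).resolve_right fun h => ?_)
    have hs := sq_of_out h2 ht hw h.1
    have h4 : (y * x * y⁻¹) ^ 4 = 1 := by
      rw [show (4 : ℕ) = 2 * 2 from rfl, pow_mul, pow_two (y * x * y⁻¹), hs, pow_two, neg_mul_self_eq]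
    have e1 : orderOf (y * x * y⁻¹) = orderOf x := orderOf_injective (MulAut.conj y).toMonoidHom
      (MulAut.conj y).injective x
    have h8' : 3 ≤ c.factorization 2 := (Nat.prime_two.pow_dvd_iff_le_factorization hc0).1 (h8 h18)
    have h8'' : 8 ≤ orderOf x := hxord ▸ (show 2 ^ 3 ≤ _ from Nat.pow_le_pow_right two_pos h8')
    have := Nat.le_of_dvd (by norm_num) (e1 ▸ orderOf_dvd_of_pow_eq_one h4)
    omega
  · have hn : c.factorization 2 = 2 := by
      refine le_antisymm ?_ hn2
      by_contra h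
      have := (Nat.prime_two.pow_dvd_iff_le_factorization hc0).2 (show 3 ≤ c.factorization 2 by omega)
      have := h84 h38
      omega
    rw [hn] at hxord
    have hxx : x * x = -1 := by
      have h1 : (x * x) * (x * x) = 1 := by
        rw [← pow_two, ← pow_two, ← pow_mul, show 2 * 2 = orderOf x by rw [hxord]; rfl, pow_orderOf_eq_one]
      refine (sq_eq_one_cases h2 h1).resolve_left fun h => ?_
      have := Nat.le_of_dvd two_pos (orderOf_dvd_of_pow_eq_one (show x ^ 2 = 1 by rw [pow_two, h]))
      omega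
    have hDx : ∀ y ∈ D, ∃ a : ℕ, y = x ^ a := fun y hy => by
      obtain ⟨a, ha⟩ := (mem_powers_iff_mem_zpowers).2 (hgen ⟨y, hy⟩)
      exact ⟨a, (congrArg Subtype.val ha).symm⟩
    have hconj : ∀ y ∈ Subgroup.normalizer (S : Set SG), y * x * y⁻¹ ∈ S ∧ (y * x * y⁻¹) * (y * x * y⁻¹) = -1 :=
      fun y hy => ⟨(Subgroup.mem_normalizer_iff.1 hy x).1 (Or.inl hx), by
        rw [show y * x * y⁻¹ * (y * x * y⁻¹) = y * (x * x) * y⁻¹ by group, hxx,
          Subgroup.mem_center_iff.1 neg_one_mem_center y, mul_inv_cancel_right]⟩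
    set S' := S.subgroupOf (Subgroup.normalizer (S : Set SG))
    let φ : SG → Fin 3 := fun a => if a ∈ D then 0 else if w * a = 1 ∨ w * a = -1 then 1 else 2
    have hle : S'.index ≤ 3 := by
      let f : (Subgroup.normalizer (S : Set SG) ⧸ S') → Fin 3 := fun y => φ ((y.out : SG) * x * (y.out : SG)⁻¹)
      have hf : Function.Injective f := by
        intro y z hyz
        rw [← y.out_eq, ← z.out_eq]
        refine QuotientGroup.eq.2 ?_
        rw [Subgroup.mem_subgroupOf, Subgroup.coe_mul, Subgroup.coe_inv]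
        set u := (y.out : SG)
        set v := (z.out : SG)
        refine mem_S0_of_conj ht hx hxs (Subgroup.mul_mem _ (Subgroup.inv_mem _ y.out.2) z.out.2) ?_
        obtain ⟨ha, haa⟩ := hconj u y.out.2
        obtain ⟨hb, hbb⟩ := hconj v z.out.2
        have hab : v * x * v⁻¹ = u * x * u⁻¹ ∨ v * x * v⁻¹ = -1 * (u * x * u⁻¹) := by
          set a := u * x * u⁻¹
          set b := v * x * v⁻¹
          have h01 : φ a = φ b := hyz
          by_cases haD : a ∈ D <;> by_cases hbD : b ∈ D
          · exact eq_or_neg h2 hg haD.1 hbD.1 haa hbb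
          · simp only [φ, if_pos haD, if_neg hbD] at h01; split_ifs at h01 <;> simp at h01
          · simp only [φ, if_neg haD, if_pos hbD] at h01; split_ifs at h01 <;> simp at h01
          · simp only [φ, if_neg haD, if_neg hbD] at h01
            have hwa : w * a ∈ D := ha.resolve_left haD
            have hwb : w * b ∈ D := hb.resolve_left hbD
            have hd : ∀ d ∈ D, d = 1 ∨ d = -1 ∨ d * d = -1 := fun d hd => by
              obtain ⟨k, rfl⟩ := hDx d hd
              have e : x ^ k * x ^ k = (-1) ^ k := by rw [← (Commute.refl x).mul_pow, hxx]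
              rcases Nat.even_or_odd k with ⟨j, rfl⟩ | ⟨j, rfl⟩
              · rcases sq_eq_one_cases h2 (x := x ^ (j + j)) (by
                  rw [e, ← two_mul, pow_mul, pow_two, neg_mul_self_eq, one_pow]) with h | h
                · exact Or.inl h
                · exact Or.inr (Or.inl h)
              · refine Or.inr (Or.inr ?_)
                rw [e, pow_succ, pow_mul, pow_two, neg_mul_self_eq, one_pow, one_mul]
            have hcases : ∀ p q : SG, (p = 1 ∨ p = -1) → (q = 1 ∨ q = -1) → q = p ∨ q = -1 * p := by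
              rintro p q (rfl | rfl) (rfl | rfl)
              · exact Or.inl rfl
              · exact Or.inr (mul_one _).symm
              · exact Or.inr neg_mul_self_eq.symm
              · exact Or.inl rfl
            have hq : w * b = w * a ∨ w * b = -1 * (w * a) := by
              by_cases ha1 : w * a = 1 ∨ w * a = -1 <;> by_cases hb1 : w * b = 1 ∨ w * b = -1
              · exact hcases _ _ ha1 hb1
              · simp only [if_pos ha1, if_neg hb1] at h01; simp at h01
              · simp only [if_neg ha1, if_pos hb1] at h01; simp at h01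
              · refine eq_or_neg h2 hg hwa.1 hwb.1 ?_ ?_
                · rcases hd _ hwa with e | e | e
                  exacts [absurd (Or.inl e) ha1, absurd (Or.inr e) ha1, e]
                · rcases hd _ hwb with e | e | e
                  exacts [absurd (Or.inl e) hb1, absurd (Or.inr e) hb1, e]
            rcases hq with e | e
            · exact Or.inl (mul_left_cancel e)
            · refine Or.inr (mul_left_cancel (a := w) (e.trans ?_))
              rw [← mul_assoc, ← Subgroup.mem_center_iff.1 neg_one_mem_center w, mul_assoc]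
        have hgoal : u⁻¹ * v * x * (u⁻¹ * v)⁻¹ = u⁻¹ * (v * x * v⁻¹) * u := by group
        rw [hgoal]
        rcases hab with e | e <;> rw [e]
        · rw [show u⁻¹ * (u * x * u⁻¹) * u = x by group]; exact hx
        · rw [← mul_assoc u⁻¹, Subgroup.mem_center_iff.1 neg_one_mem_center u⁻¹,
            show -1 * u⁻¹ * (u * x * u⁻¹) * u = -1 * x by group]
          exact mul_mem (neg_one_mem_C2 hg) hx
      have := Nat.card_le_card_of_injective f hf
      rwa [Nat.card_eq_fintype_card (α := Fin 3), Fintype.card_fin] at this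
    have hodd : ¬ 2 ∣ S'.index := fun h => by
      refine Sylow.not_dvd_index (Sylow.ofCard S hcardS') (h.trans ?_)
      rw [Sylow.coe_ofCard]
      exact Subgroup.relIndex_dvd_index_of_le Subgroup.le_normalizer
    have h1 : S'.index ≠ 1 := by
      intro h
      rw [Subgroup.index_eq_one, Subgroup.subgroupOf_eq_top] at h
      set i := ↥ₘ x with hi
      set j := ↥ₘ w with hj
      set k := i * j with hk
      have hii : i * i = -1 := neg_one_sq_matrix hxx
      have hjj : j * j = -1 := neg_one_sq_matrix hww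
      have hji : j * i = -k := by
        have hxi : x⁻¹ = -1 * x := inv_eq_of_mul_eq_one_right (by
          rw [← mul_assoc, Subgroup.mem_center_iff.1 neg_one_mem_center x, mul_assoc, hxx, neg_mul_self_eq])
        have e : w * x = -1 * (x * w) := by
          rw [← mul_assoc, ← hxi, ← conj_centralizer hg hw hx.1, inv_mul_cancel_right]
        have := congrArg (fun A : SG => ↥ₘ A) e
        simpa using this
      have hkk : k * k = -1 := by
        calc k * k = i * (j * i) * j := by simp only [hk, mul_assoc]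
          _ = -1 := by rw [hji, hk]; simp only [mul_neg, neg_mul, ← mul_assoc, hii]; simp [mul_assoc, hjj]
      set H : Matrix (Fin 2) (Fin 2) F := (2 : F)⁻¹ • (-1 + i + j + k) with hH
      have hHi : H * i = k * H := by
        rw [hH, Matrix.smul_mul, Matrix.mul_smul]
        congr 1
        have e1 : k * i = j := by rw [hk, mul_assoc, hji, hk, mul_neg, ← mul_assoc, hii]; simp
        have e2 : k * j = -i := by rw [hk, mul_assoc, hjj]; simp
        simp only [add_mul, mul_add, neg_mul, mul_neg, one_mul, mul_one, hii, hji, e1, e2, hkk]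
        abel
      have hHj : H * j = i * H := by
        rw [hH, Matrix.smul_mul, Matrix.mul_smul]
        congr 1
        have e2 : k * j = -i := by rw [hk, mul_assoc, hjj]; simp
        have e3 : i * k = -j := by rw [hk, ← mul_assoc, hii]; simp
        simp only [add_mul, mul_add, neg_mul, mul_neg, one_mul, mul_one, hii, hjj, e2, e3, ← hk]
        abel
      have hHd : H.det = 1 := by
        have t1 : i 0 0 + i 1 1 = 0 := tr_of_sq h2 hxx
        have t2 : j 0 0 + j 1 1 = 0 := tr_of_sq h2 hww
        have t3 : k 0 0 + k 1 1 = 0 := tr_of_sq (x := x * w) h2 (Subtype.ext hkk)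
        have hsq : (-1 + i + j + k) * (-1 + i + j + k) =
            -(4 : F) • (1 : Matrix (Fin 2) (Fin 2) F) - (2 : F) • (-1 + i + j + k) := by
          have e1 : k * i = j := by rw [hk, mul_assoc, hji, hk, mul_neg, ← mul_assoc, hii]; simp
          have e2 : k * j = -i := by rw [hk, mul_assoc, hjj]; simp
          have e3 : i * k = -j := by rw [hk, ← mul_assoc, hii]; simp
          have e4 : j * k = i := by rw [hk, ← mul_assoc, hji, neg_mul, e2, neg_neg]
          simp only [add_mul, mul_add, neg_mul, mul_neg, one_mul, mul_one, hii, hjj, hji, e1, e2, e3, e4, hkk,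
            ← hk]
          module
        have h00 := congrFun (congrFun hsq 0) 0
        simp [Matrix.mul_apply, Fin.sum_univ_two] at h00
        rw [hH, Matrix.det_smul, det_fin_two, Fintype.card_fin]
        simp
        field_simp
        linear_combination (i 0 0 + j 0 0 + k 0 0 - 1) * (t1 + t2 + t3) - h00
      let h' : SG := ⟨H, hHd⟩
      have ei : h' * x * h'⁻¹ = x * w := mul_inv_eq_of_eq_mul (Subtype.ext hHi)
      have ej : h' * w * h'⁻¹ = x := mul_inv_eq_of_eq_mul (Subtype.ext hHj)
      have hfw : ∀ z ∈ S, h' * z * h'⁻¹ ∈ S := by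
        have hxa : ∀ a : ℕ, h' * x ^ a * h'⁻¹ ∈ S := fun a => by
          rw [← conj_pow, ei]; exact pow_mem (mul_mem (Or.inl hx) w_mem) a
        intro z hz
        rcases hz with hz | hz
        · obtain ⟨a, rfl⟩ := hDx z hz
          exact hxa a
        · obtain ⟨a, ha⟩ := hDx _ hz
          have e : z = w⁻¹ * x ^ a := by rw [← ha, inv_mul_cancel_left]
          rw [e, show h' * (w⁻¹ * x ^ a) * h'⁻¹ = (h' * w * h'⁻¹)⁻¹ * (h' * x ^ a * h'⁻¹) by group, ej]
          exact mul_mem (inv_mem (Or.inl hx)) (hxa a)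
      have hN : h' ∈ Subgroup.normalizer (S : Set SG) := GroupSub.mem_normalizer_of_cj_le (by
        rintro _ ⟨z, hz, rfl⟩; exact hfw z hz)
      have hn' := h hN
      have : h' * x * h'⁻¹ ∈ D := by
        rcases hn' with hd | hd
        · rw [centralizer_comm hg hd.1 hx.1, mul_inv_cancel_right]; exact hx
        · have e1 : h' = w⁻¹ * (w * h') := by group
          rw [e1, show w⁻¹ * (w * h') * x * (w⁻¹ * (w * h'))⁻¹ = w⁻¹ * ((w * h') * x * (w * h')⁻¹) * w by group,
            centralizer_comm hg hd.1 hx.1, mul_inv_cancel_right]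
          have e2 := congrArg (fun z => w⁻¹ * z⁻¹ * w) (conj_centralizer hg hw hx.1)
          simp only [inv_inv] at e2
          rw [← e2, show w⁻¹ * (w * x * w⁻¹)⁻¹ * w = x⁻¹ by group]
          exact inv_mem hx
      rw [ei] at this
      exact inverting_notMem ht hw (by simpa using mul_mem (inv_mem hx.1) this.1)
    have h3 : S'.index = 3 := by
      have : S'.index ≠ 0 := Subgroup.index_ne_zero_of_finite
      omega
    rw [← Subgroup.card_mul_index S', h3, Nat.card_congr (Subgroup.subgroupOfEquivOfLe Subgroup.le_normalizer).toEquiv,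
      mul_comm]

end


/-- Let F be a finite field with q elements, q odd, and S a Sylow 2-subgroup of SL₂ over F. The centraliser of S is the centre of SL₂ (of order 2); S is its own normaliser when q ≡ ±1 mod 8, and has index 3 in its normaliser when q ≡ ±3 mod 8. -/
theorem result {F : Type*} [Field F] [Fintype F] (hodd : Odd (Fintype.card F)) (S : Sylow 2 (Matrix.SpecialLinearGroup (Fin 2) F)) :
    Subgroup.centralizer ((S : Subgroup (Matrix.SpecialLinearGroup (Fin 2) F)) : Set (Matrix.SpecialLinearGroup (Fin 2) F)) = Subgroup.center (Matrix.SpecialLinearGroup (Fin 2) F) ∧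
    ((Fintype.card F % 8 = 1 ∨ Fintype.card F % 8 = 7) →
      Subgroup.normalizer ((S : Subgroup (Matrix.SpecialLinearGroup (Fin 2) F)) : Set (Matrix.SpecialLinearGroup (Fin 2) F)) = (S : Subgroup (Matrix.SpecialLinearGroup (Fin 2) F))) ∧
    ((Fintype.card F % 8 = 3 ∨ Fintype.card F % 8 = 5) →
      Nat.card (Subgroup.normalizer ((S : Subgroup (Matrix.SpecialLinearGroup (Fin 2) F)) : Set (Matrix.SpecialLinearGroup (Fin 2) F))) = 3 * Nat.card S) := by
  classical
  haveI : Fact (Nat.Prime 2) := ⟨Nat.prime_two⟩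
  have h2 : (2 : F) ≠ 0 := fun e => by
    haveI : CharP F 2 := CharTwo.of_one_ne_zero_of_two_eq_zero one_ne_zero e
    have := FiniteField.even_card_of_char_two (ringChar.eq F 2)
    have := Nat.odd_iff.1 hodd
    omega
  obtain ⟨P, h1, h18, h38⟩ := main (F := F) h2
  obtain ⟨a, ha⟩ := MulAction.exists_smul_eq (Matrix.SpecialLinearGroup (Fin 2) F) P S
  have hS : (S : Subgroup (Matrix.SpecialLinearGroup (Fin 2) F)) = (P : Subgroup (Matrix.SpecialLinearGroup (Fin 2) F)).map
      (MulAut.conj a).toMonoidHom := by rw [← ha]; rfl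
  have hN : Subgroup.normalizer ((S : Subgroup (Matrix.SpecialLinearGroup (Fin 2) F)) : Set (Matrix.SpecialLinearGroup (Fin 2) F)) =
      (Subgroup.normalizer ((P : Subgroup (Matrix.SpecialLinearGroup (Fin 2) F)) : Set (Matrix.SpecialLinearGroup (Fin 2) F))).map
        (MulAut.conj a).toMonoidHom := by
    rw [hS]; exact (Subgroup.map_equiv_normalizer_eq _ (MulAut.conj a)).symm
  refine ⟨le_antisymm (fun y hy => ?_) (Subgroup.center_le_centralizer _), fun h => by rw [hN, h18 h, ← hS],
    fun h => ?_⟩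
  · have hm : a⁻¹ * y * a ∈ Subgroup.centralizer ((P : Subgroup (Matrix.SpecialLinearGroup (Fin 2) F)) : Set (Matrix.SpecialLinearGroup (Fin 2) F)) := by
      intro z hz
      have e : a * z * a⁻¹ * y = y * (a * z * a⁻¹) := hy _ (by rw [hS]; exact ⟨z, hz, rfl⟩)
      calc z * (a⁻¹ * y * a) = a⁻¹ * (a * z * a⁻¹ * y) * a := by group
        _ = a⁻¹ * (y * (a * z * a⁻¹)) * a := by rw [e]
        _ = a⁻¹ * y * a * z := by group
    rw [h1] at hm
    have hm' := Subgroup.mem_center_iff.1 hm a
    have e : y = a⁻¹ * y * a := by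
      calc y = a * (a⁻¹ * y * a) * a⁻¹ := by group
        _ = a⁻¹ * y * a := by rw [hm']; group
    exact e ▸ hm
  · rw [hN, Subgroup.card_map_of_injective (MulAut.conj a).injective, h38 h, hS,
      Subgroup.card_map_of_injective (MulAut.conj a).injective]

end Cfsg.Agent.S2431
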