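import Cfsg.Statements.S2437
-- import your own Cfsg.Agent.* helpers here

import Cfsg.Agent.GL2Rep.SL

set_option autoImplicit false
open Cfsg

namespace Cfsg.Agent.S2437

open Cfsg.Agent.GL2Rep Matrix


/-- Over a finite field F with q elements, q odd, the upper triangular subgroup of SL₂ (a Borel subgroup, of order q(q − 1)) has exactly q + 3 conjugacy classes. -/
theorem result {F : Type*} [Field F] [Fintype F] (hodd : Odd (Fintype.card F)) :
    Nat.card (ConjClasses ((Cfsg.upperTriangularGL 2 F).comap Matrix.SpecialLinearGroup.toGL)) = Fintype.card F + 3 := by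
  classical
  have h2 : (2 : F) ≠ 0 := by
    intro e
    have := FiniteField.even_card_of_char_two ((CharP.ringChar_of_prime_eq_zero Nat.prime_two (by exact_mod_cast e)) )
    exact (Nat.not_even_iff_odd.2 hodd) (Nat.even_iff.2 this)
  let B := (Cfsg.upperTriangularGL 2 F).comap (Matrix.SpecialLinearGroup.toGL : Matrix.SpecialLinearGroup (Fin 2) F →* GL (Fin 2) F)
  have hP : Nat.card {p : B × B // Commute p.1 p.2} = Nat.card (ConjClasses B) * Nat.card B :=
    card_comm_eq_card_conjClasses_mul_card B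
  let eB : Equiv (Fˣ × F) B := Equiv.ofBijective _ (SL.bEl_bijective (F := F))
  have hcB : Nat.card B = (Fintype.card F - 1) * Fintype.card F := by
    rw [← Nat.card_congr eB, Nat.card_prod, Nat.card_units, Nat.card_eq_fintype_card]
  let f : (Fˣ × F) → (Fˣ × F) → Prop := fun p r =>
    r.2 * ((p.1 : F) - ((p.1⁻¹ : Fˣ) : F)) = p.2 * ((r.1 : F) - ((r.1⁻¹ : Fˣ) : F))
  have hcomm : ∀ p r : Fˣ × F, Commute (eB p) (eB r) ↔ f p r := by
    intro p r
    rw [Commute, SemiconjBy, Subtype.ext_iff]
    refine Iff.trans Subtype.ext_iff ?_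
    show (SL.bEl p.1 p.2 * SL.bEl r.1 r.2 : Matrix.SpecialLinearGroup (Fin 2) F).val = (SL.bEl r.1 r.2 * SL.bEl p.1 p.2 : Matrix.SpecialLinearGroup (Fin 2) F).val ↔ _
    rw [Matrix.SpecialLinearGroup.coe_mul, Matrix.SpecialLinearGroup.coe_mul, SL.coe_bEl, SL.coe_bEl]
    constructor
    · intro h
      have h01 := congrFun (congrFun h 0) 1
      simp [Matrix.mul_apply, Fin.sum_univ_two] at h01
      simp only [f, Units.val_inv_eq_inv_val]
      linear_combination h01
    · intro h
      simp only [f, Units.val_inv_eq_inv_val] at h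
      ext i j
      fin_cases i <;> fin_cases j <;> simp [Matrix.mul_apply, Fin.sum_univ_two] <;>
        first | linear_combination h | ring
  have hS : Nat.card {p : B × B // Commute p.1 p.2} = ∑ a : Fˣ, ∑ b : Fˣ,
      Nat.card {z : F × F // z.2 * ((a : F) - ((a⁻¹ : Fˣ) : F)) = z.1 * ((b : F) - ((b⁻¹ : Fˣ) : F))} := by
    let E0 : Equiv ((Fˣ × Fˣ) × (F × F)) (B × B) :=
      (Equiv.prodProdProdComm Fˣ Fˣ F F).trans (Equiv.prodCongr eB eB)
    rw [← Nat.card_congr (Equiv.subtypeEquiv (p := fun w => f (w.1.1, w.2.1) (w.1.2, w.2.2)) E0 fun w => (hcomm _ _).symm),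
      Nat.card_eq_fintype_card, ← Fintype.sum_prod_type']
    rw [Fintype.card_subtype, Finset.card_filter, Fintype.sum_prod_type]
    refine Finset.sum_congr rfl fun a _ => ?_
    rw [Nat.card_eq_fintype_card, Fintype.card_subtype, Finset.card_filter]
  have hz : ∀ a : Fˣ, (a : F) - ((a⁻¹ : Fˣ) : F) = 0 ↔ (a = 1 ∨ a = -1) := by
    intro a
    constructor
    · intro h
      have h1 : (a : F) * a = 1 := by
        calc (a : F) * a = (a : F) * ((a⁻¹ : Fˣ) : F) := congrArg (fun x => (a : F) * x) (sub_eq_zero.1 h)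
          _ = 1 := a.mul_inv
      rcases mul_self_eq_one_iff.1 h1 with e | e
      · exact Or.inl (Units.ext e)
      · exact Or.inr (Units.ext (by simpa using e))
    · rintro (rfl | rfl) <;> simp
  have hc : ∀ a b : Fˣ, Nat.card {z : F × F // z.2 * ((a : F) - ((a⁻¹ : Fˣ) : F)) = z.1 * ((b : F) - ((b⁻¹ : Fˣ) : F))} =
      if (a = 1 ∨ a = -1) ∧ (b = 1 ∨ b = -1) then Fintype.card F * Fintype.card F else Fintype.card F := by
    intro a b
    split_ifs with h
    · rw [(hz a).2 h.1, (hz b).2 h.2]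
      simp [Nat.card_eq_fintype_card]
    · rw [← Nat.card_eq_fintype_card]
      by_cases ha : (a : F) - ((a⁻¹ : Fˣ) : F) = 0
      · have hb : (b : F) - ((b⁻¹ : Fˣ) : F) ≠ 0 := fun e => h ⟨(hz a).1 ha, (hz b).1 e⟩
        refine Nat.card_congr (Equiv.ofBijective (fun z => z.1.2) ⟨fun z z' e => ?_, fun y => ?_⟩)
        · have h1 := mul_eq_zero.1 (z.2.symm.trans (mul_eq_zero_of_right _ ha))
          have h2 := mul_eq_zero.1 (z'.2.symm.trans (mul_eq_zero_of_right _ ha))
          exact Subtype.ext (Prod.ext ((h1.resolve_right hb).trans (h2.resolve_right hb).symm) e)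
        · exact ⟨⟨(0, y), (mul_eq_zero_of_right y ha).trans (zero_mul _).symm⟩, rfl⟩
      · refine Nat.card_congr (Equiv.ofBijective (fun z => z.1.1) ⟨fun z z' e => ?_, fun y => ?_⟩)
        · have h1 := z.2
          rw [show z.1.1 = z'.1.1 from e, ← z'.2] at h1
          exact Subtype.ext (Prod.ext e (mul_right_cancel₀ ha h1))
        · exact ⟨⟨(y, y * ((b : F) - ((b⁻¹ : Fˣ) : F)) / ((a : F) - ((a⁻¹ : Fˣ) : F))), div_mul_cancel₀ _ ha⟩, rfl⟩
  have hne : (1 : Fˣ) ≠ -1 := fun e => h2 (by
    have := congrArg (fun x : Fˣ => (x : F)) e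
    simp at this
    linear_combination this)
  have hcu : Fintype.card Fˣ = Fintype.card F - 1 := Fintype.card_units F
  have hin : ∀ a : Fˣ, (∑ b : Fˣ, if (a = 1 ∨ a = -1) ∧ (b = 1 ∨ b = -1) then Fintype.card F * Fintype.card F else Fintype.card F) =
      if (a = 1 ∨ a = -1) then 2 * (Fintype.card F * Fintype.card F) + (Fintype.card F - 3) * Fintype.card F else (Fintype.card F - 1) * Fintype.card F := by
    intro a
    by_cases ha : a = 1 ∨ a = -1
    · simp only [if_pos ha, and_iff_right ha]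
      rw [Finset.sum_ite, Finset.sum_const, Finset.sum_const, Finset.filter_not, Finset.card_univ_diff,
        show (Finset.univ.filter fun b : Fˣ => b = 1 ∨ b = -1) = {1, -1} by ext; simp, Finset.card_pair hne, hcu]
      simp only [smul_eq_mul]
      congr 2
    · simp only [if_neg ha, eq_false ha, false_and, if_false, Finset.sum_const, Finset.card_univ, hcu, smul_eq_mul]
  rw [hS] at hP
  simp only [hc, hin] at hP
  rw [Finset.sum_ite, Finset.sum_const, Finset.sum_const, Finset.filter_not, Finset.card_univ_diff,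
    show (Finset.univ.filter fun b : Fˣ => b = 1 ∨ b = -1) = {1, -1} by ext; simp, Finset.card_pair hne, hcu, hcB] at hP
  simp only [smul_eq_mul] at hP
  obtain ⟨m, hm⟩ : ∃ m, Fintype.card F = m + 3 := by
    have h1 := Fintype.one_lt_card (α := F)
    obtain ⟨k, hk⟩ := hodd
    exact ⟨Fintype.card F - 3, by omega⟩
  show Nat.card (ConjClasses B) = _
  rw [hm] at hP ⊢
  simp only [show m + 3 - 1 = m + 2 by omega, show m + 3 - 1 - 2 = m by omega, show m + 3 - 3 = m by omega,
    show m + 2 - 2 = m by omega] at hP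
  refine Nat.eq_of_mul_eq_mul_right (show 0 < (m + 2) * (m + 3) by positivity) (hP.symm.trans ?_)
  ring

end Cfsg.Agent.S2437
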