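import Cfsg.Statements.S2420
import Cfsg.Agent.GLFlags.Comp

set_option autoImplicit false
open scoped MatrixGroups
open Cfsg

namespace Cfsg.Agent.S2420

open Finset Cfsg.Agent.GLFlags

/-- The product of the q-integers. -/
def qprod (q m : ℕ) : ℕ := ∏ j ∈ Finset.range m, ∑ l ∈ Finset.range (j + 1), q ^ l

theorem prod_sub_eq (q m : ℕ) (hq : 2 ≤ q) :
    ∏ i : Fin m, (q ^ m - q ^ (i : ℕ)) = q ^ (∑ i ∈ range m, i) * (q - 1) ^ m * qprod q m := by
  rw [Fin.prod_univ_eq_prod_range (fun i => q ^ m - q ^ i) m, qprod]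
  have h1 : ∀ i ∈ range m, q ^ m - q ^ i = q ^ i * ((q - 1) * ∑ l ∈ range (m - 1 - i + 1), q ^ l) := by
    intro i hi
    rw [Finset.mem_range] at hi
    have hg : (q - 1) * ∑ l ∈ range (m - 1 - i + 1), q ^ l = q ^ (m - i) - 1 := by
      rw [mul_comm, geom_sum_mul_of_one_le (by omega : 1 ≤ q), show m - 1 - i + 1 = m - i by omega]
    rw [hg, Nat.mul_sub, mul_one, ← pow_add, show i + (m - i) = m by omega]
  rw [Finset.prod_congr rfl h1, Finset.prod_mul_distrib, Finset.prod_mul_distrib,
    Finset.prod_pow_eq_pow_sum, Finset.prod_const, Finset.card_range,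
    Finset.prod_range_reflect (fun j => ∑ l ∈ range (j + 1), q ^ l) m, mul_assoc]

theorem card_GL_type {F : Type*} [Field F] [Fintype F] {ι : Type*} [Fintype ι] [DecidableEq ι] :
    Nat.card (GL ι F) = Fintype.card F ^ (∑ i ∈ range (Fintype.card ι), i) *
      (Fintype.card F - 1) ^ Fintype.card ι * qprod (Fintype.card F) (Fintype.card ι) := by
  rw [Nat.card_congr (Units.mapEquiv
      (Matrix.reindexAlgEquiv F F (Fintype.equivFin ι)).toMulEquiv).toEquiv,
    Matrix.card_GL_field, prod_sub_eq _ _ (Fintype.one_lt_card (α := F))]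

theorem card_blockTriangular {F : Type*} [Field F] [Fintype F] {n : ℕ} (b : Fin n → Fin n) :
    Nat.card {g : GL (Fin n) F // (g : Matrix (Fin n) (Fin n) F).BlockTriangular b} =
      (∏ k : Fin n, Nat.card (GL {i // b i = k} F)) *
        Fintype.card F ^ (univ.filter fun x : Fin n × Fin n => b x.1 < b x.2).card := by
  classical
  rw [← Nat.card_pi, ← Fintype.card_subtype, ← Fintype.card_fun, ← Nat.card_eq_fintype_card,
    ← Nat.card_prod]
  let mat : ((k : Fin n) → GL {i // b i = k} F) × ({x : Fin n × Fin n // b x.1 < b x.2} → F) →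
      Matrix (Fin n) (Fin n) F := fun y i j =>
    if h : b i = b j then ((y.1 (b j) : GL {k // b k = b j} F) : Matrix {k // b k = b j} {k // b k = b j} F) ⟨i, h⟩ ⟨j, rfl⟩
    else if h' : b i < b j then y.2 ⟨(i, j), h'⟩ else 0
  have hmat : ∀ y, (mat y).BlockTriangular b := by
    intro y i j hij
    simp only [mat, dif_neg hij.ne', dif_neg hij.le.not_gt]
  have hblk : ∀ y k, (mat y).toSquareBlock b k = (y.1 k : Matrix _ _ F) := by
    intro y k
    ext ⟨i, hi⟩ ⟨j, hj⟩
    subst hj
    show mat y i j = _
    simp only [mat, dif_pos hi]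
  have hdet : ∀ y, IsUnit (mat y).det := by
    intro y
    rw [(hmat y).det_fintype, isUnit_iff_ne_zero, Finset.prod_ne_zero_iff]
    intro k _
    rw [hblk]
    exact (Matrix.isUnits_det_units (y.1 k)).ne_zero
  refine (Nat.card_eq_of_bijective (fun y =>
    (⟨((Matrix.isUnit_iff_isUnit_det _).2 (hdet y)).unit, hmat y⟩ :
      {g : GL (Fin n) F // (g : Matrix (Fin n) (Fin n) F).BlockTriangular b})) ⟨?_, ?_⟩).symm
  · intro y z h
    have h' : mat y = mat z := congrArg (fun g => (g.1 : Matrix (Fin n) (Fin n) F)) h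
    refine Prod.ext (funext fun k => Units.ext ?_) (funext fun x => ?_)
    · rw [← hblk, ← hblk, h']
    · have := congrFun (congrFun h' x.1.1) x.1.2
      simpa only [mat, dif_neg x.2.ne, dif_pos x.2] using this
  · rintro ⟨g, hg⟩
    have hd : ∀ k, IsUnit ((g : Matrix (Fin n) (Fin n) F).toSquareBlock b k).det := by
      intro k
      have h := Matrix.isUnits_det_units g
      rw [hg.det_fintype, isUnit_iff_ne_zero, Finset.prod_ne_zero_iff] at h
      exact isUnit_iff_ne_zero.2 (h k (Finset.mem_univ k))
    refine ⟨(fun k => ((Matrix.isUnit_iff_isUnit_det _).2 (hd k)).unit,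
      fun x => (g : Matrix (Fin n) (Fin n) F) x.1.1 x.1.2), Subtype.ext (Units.ext ?_)⟩
    ext i j
    show mat _ i j = _
    simp only [mat]
    split_ifs with h h'
    · simp only [IsUnit.unit_spec, Matrix.toSquareBlock_def, Matrix.of_apply]
    · rfl
    · exact (hg (lt_of_le_of_ne (not_lt.1 h') (Ne.symm h))).symm

/-- The number of partial flags of a given type: for a composition `μ` of `n` (with `n` parts, zeros allowed) and a field with `q` elements, the index of the standard parabolic subgroup `P_μ` in `GL_n(q)` times `∏_i {μ_i}` equals `{n}`, where `{r}` denotes the product over `k = 1, …, r` of the q-integers `1 + q + ⋯ + q^(k−1)`. -/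
theorem result {F : Type*} [Field F] [Fintype F] {q : ℕ} (hq : Fintype.card F = q) {n : ℕ} (μ : Fin n → ℕ) (hμ : ∑ i, μ i = n) :
    Nat.card (GL (Fin n) F ⧸ Cfsg.parabolicGL n F μ) * ∏ i : Fin n, ∏ j ∈ Finset.range (μ i), ∑ l ∈ Finset.range (j + 1), q ^ l =
      ∏ j ∈ Finset.range n, ∑ l ∈ Finset.range (j + 1), q ^ l := by
  classical
  subst hq
  set q := Fintype.card F with hq'
  have hq2 : 2 ≤ q := Fintype.one_lt_card
  set b := lab μ hμ with hb
  have hfib : ∀ k, Fintype.card {i // b i = k} = μ k := fun k => by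
    rw [Fintype.card_subtype, hb, card_lab_fibre hμ]
  have hP : Nat.card ↥(Cfsg.parabolicGL n F μ) =
      Nat.card {g : GL (Fin n) F // (g : Matrix (Fin n) (Fin n) F).BlockTriangular b} :=
    Nat.card_congr (Equiv.subtypeEquivRight fun g =>
      ⟨fun h i j hij => h (by simpa [hb, Fin.lt_def] using hij), fun h i j hij => h (by simpa [hb, Fin.lt_def] using hij)⟩)
  have hlag := (Subgroup.card_eq_card_quotient_mul_card_subgroup (Cfsg.parabolicGL n F μ))
  rw [hP, card_blockTriangular, card_GL_type] at hlag
  simp only [card_GL_type, hfib, Fintype.card_fin, ← hq'] at hlag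
  rw [Finset.prod_mul_distrib, Finset.prod_mul_distrib, Finset.prod_pow_eq_pow_sum,
    Finset.prod_pow_eq_pow_sum, hμ] at hlag
  set s := (univ.filter fun x : Fin n × Fin n => b x.1 < b x.2).card with hs
  have hexp : ∑ k, ∑ i ∈ range (μ k), i + s = ∑ i ∈ range n, i := by
    have hswap : (univ.filter fun x : Fin n × Fin n => b x.2 < b x.1).card = s := by
      rw [hs]
      refine Finset.card_bij (fun x _ => (x.2, x.1)) ?_ ?_ ?_
      · intro x hx; simpa using hx
      · intro x _ y _ h; simpa [Prod.ext_iff, and_comm] using h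
      · intro x hx; exact ⟨(x.2, x.1), by simpa using hx, rfl⟩
    have heq : (univ.filter fun x : Fin n × Fin n => b x.1 = b x.2).card = ∑ k, μ k * μ k := by
      rw [Finset.card_eq_sum_card_fiberwise (f := fun x : Fin n × Fin n => b x.1) (t := univ)
        (fun x _ => Finset.mem_univ _)]
      refine Finset.sum_congr rfl fun k _ => ?_
      rw [← card_lab_fibre hμ k, ← Finset.card_product]
      refine congrArg Finset.card ?_
      ext ⟨i, j⟩
      simp only [Finset.mem_filter, Finset.mem_univ, true_and, Finset.mem_product, hb]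
      exact ⟨fun h => ⟨h.2, h.1 ▸ h.2⟩, fun h => ⟨h.1.trans h.2.symm, h.1⟩⟩
    have htot : (univ.filter fun x : Fin n × Fin n => b x.1 = b x.2).card + s + s = n * n := by
      conv_lhs => arg 2; rw [← hswap]
      rw [hs, ← Finset.card_union_of_disjoint, ← Finset.card_union_of_disjoint,
        show n * n = (univ : Finset (Fin n × Fin n)).card by simp]
      · refine congrArg Finset.card ?_
        ext x
        simp only [Finset.mem_union, Finset.mem_filter, Finset.mem_univ, true_and, iff_true]
        rcases lt_trichotomy (b x.1) (b x.2) with h | h | h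
        · exact Or.inl (Or.inr h)
        · exact Or.inl (Or.inl h)
        · exact Or.inr h
      · rw [Finset.disjoint_left]
        intro x hx hx'
        simp only [Finset.mem_union, Finset.mem_filter, Finset.mem_univ, true_and] at hx hx'
        rcases hx with h | h
        · exact hx'.ne h.symm
        · exact lt_asymm h hx'
      · rw [Finset.disjoint_left]
        intro x hx hx'
        simp only [Finset.mem_filter, Finset.mem_univ, true_and] at hx hx'
        exact hx'.ne hx
    rw [heq] at htot
    have hz : ∀ m : ℕ, (∑ i ∈ range m, i) * 2 + m = m * m := fun m => by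
      rw [Finset.sum_range_id_mul_two]
      rcases m with _ | m
      · rfl
      · simp only [Nat.add_sub_cancel]; ring
    have hsum : (∑ k, ∑ i ∈ range (μ k), i) * 2 + n = ∑ k, μ k * μ k := by
      rw [Finset.sum_mul, ← Finset.sum_congr rfl (fun k _ => hz (μ k)), Finset.sum_add_distrib, hμ]
    have := hz n
    omega
  have hpos : 0 < q ^ (∑ i ∈ range n, i) * (q - 1) ^ n :=
    Nat.mul_pos (Nat.pow_pos (by omega)) (Nat.pow_pos (by omega))
  apply Nat.eq_of_mul_eq_mul_left hpos
  show _ = q ^ (∑ i ∈ range n, i) * (q - 1) ^ n * qprod q n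
  rw [hlag, ← hexp, pow_add]
  show q ^ _ * q ^ _ * (q - 1) ^ n * (Nat.card _ * ∏ k, qprod q (μ k)) = _
  ring

end Cfsg.Agent.S2420
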