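import Cfsg.Statements.S2119
import Mathlib

set_option autoImplicit false
open Cfsg

namespace Cfsg.Agent.S2119

open Equiv
variable {α : Type*} [DecidableEq α]
private def rot (p q r : α) : Perm α := swap p q * swap q r
private lemma rot_apply (p q r : α) (hpq : p ≠ q) (hpr : p ≠ r) (hqr : q ≠ r) (x : α) :
    rot p q r x = if x = p then q else if x = q then r else if x = r then p else x := by
  simp only [rot, Perm.mul_apply, swap_apply_def]
  split_ifs <;> simp_all
set_option maxHeartbeats 4000000 in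
private lemma share (p q r u v w : α) (hpq : p ≠ q) (hpr : p ≠ r) (hqr : q ≠ r) (huv : u ≠ v) (huw : u ≠ w) (hvw : v ≠ w)
    (n1 : ¬ (u = p ∧ v = r ∧ w = q)) (n2 : ¬ (u = r ∧ v = q ∧ w = p)) (n3 : ¬ (u = q ∧ v = p ∧ w = r))
    (h : ∀ x, rot p q r (rot u v w (rot p q r (rot u v w x))) = x) :
    ((u = p ∧ v = q) ∨ (v = p ∧ w = q) ∨ (w = p ∧ u = q)) ∨
    ((u = q ∧ v = r) ∨ (v = q ∧ w = r) ∨ (w = q ∧ u = r)) ∨
    ((u = r ∧ v = p) ∨ (v = r ∧ w = p) ∨ (w = r ∧ u = p)) := by
  have h1 := h u
  have h2 := h v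
  have h3 := h w
  have h4 := h p
  have h5 := h q
  have h6 := h r
  simp only [rot_apply p q r hpq hpr hqr, rot_apply u v w huv huw hvw] at h1 h2 h3 h4 h5 h6
  grind (splits := 60)

private lemma rot_rotate (p q r : α) (hpq : p ≠ q) (hpr : p ≠ r) (hqr : q ≠ r) : rot q r p = rot p q r := by
  ext x
  rw [rot_apply p q r hpq hpr hqr, rot_apply q r p hqr hpq.symm hpr.symm]
  grind

private lemma rot_inj {p q r t : α} (hpq : p ≠ q) (hpr : p ≠ r) (hqr : q ≠ r) (hpt : p ≠ t) (hqt : q ≠ t)
    (h : rot p q r = rot p q t) : r = t := by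
  have := congrArg (fun f : Perm α => f q) h
  simp only [rot_apply p q r hpq hpr hqr, rot_apply p q t hpq hpt hqt, if_neg hpq.symm, if_true] at this
  exact this

variable [Fintype α]

private lemma exists_rot {f : Perm α} (hf : f.IsThreeCycle) :
    ∃ p q r : α, p ≠ q ∧ p ≠ r ∧ q ≠ r ∧ f = rot p q r := by
  obtain ⟨a, ha⟩ : ∃ a, f a ≠ a := by
    by_contra h
    push Not at h
    have : f = 1 := Equiv.ext h
    rw [this] at hf
    have := hf.orderOf
    rw [orderOf_one] at this
    omega
  have hcyc := hf.isCycle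
  have h3 : ∀ x, f (f (f x)) = x := fun x => by
    have := congrArg (fun g : Perm α => g x) (pow_orderOf_eq_one f)
    rw [hf.orderOf] at this
    simpa [pow_succ] using this
  have h1 : f (f a) ≠ f a := fun h => ha (f.injective h)
  have h2 : f (f a) ≠ a := fun h => ha (by
    have := h3 a
    rw [h] at this
    exact this)
  refine ⟨a, f a, f (f a), ha.symm, h2.symm, h1.symm, ?_⟩
  ext x
  rw [rot_apply a (f a) (f (f a)) ha.symm h2.symm h1.symm]
  split_ifs with e1 e2 e3
  · rw [e1]
  · rw [e2]
  · rw [e3, h3]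
  · by_contra hx
    obtain ⟨i, hi⟩ := hcyc.exists_pow_eq (x := a) (y := x) ha hx
    have : ∀ i : ℕ, (f ^ i) a = a ∨ (f ^ i) a = f a ∨ (f ^ i) a = f (f a) := by
      intro i
      induction i with
      | zero => simp
      | succ i ih =>
        rw [pow_succ', Perm.mul_apply]
        rcases ih with h | h | h <;> rw [h] <;> simp [h3]
    rcases this i with h | h | h
    · exact e1 (hi ▸ h)
    · exact e2 (hi ▸ h)
    · exact e3 (hi ▸ h)

private lemma rot_isThreeCycle {p q r : α} (hpq : p ≠ q) (hpr : p ≠ r) (hqr : q ≠ r) :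
    (rot p q r).IsThreeCycle := by
  rw [rot, swap_comm p q]
  exact Perm.isThreeCycle_swap_mul_swap_same hpq.symm hqr hpr

private lemma rot_conj (σ : Perm α) (p q r : α) : σ * rot p q r * σ⁻¹ = rot (σ p) (σ q) (σ r) := by
  rw [rot, rot, Equiv.swap_apply_apply, Equiv.swap_apply_apply]
  group

/-- two three-cycles with product of order two share a directed edge -/
private lemma exists_edge {p q r : α} (hpq : p ≠ q) (hpr : p ≠ r) (hqr : q ≠ r) {g : Perm α} (hg : g.IsThreeCycle)
    (h2 : (rot p q r * g) ^ 2 = 1) (h1 : rot p q r * g ≠ 1) :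
    ∃ t, t ≠ p ∧ t ≠ q ∧ t ≠ r ∧ (g = rot p q t ∨ g = rot q r t ∨ g = rot r p t) := by
  obtain ⟨u, v, w, huv, huw, hvw, rfl⟩ := exists_rot hg
  have hinv : ∀ a b c : α, a ≠ b → a ≠ c → b ≠ c → rot a b c * rot a c b = 1 := by
    intro a b c hab hac hbc
    ext x
    rw [Perm.mul_apply, rot_apply a b c hab hac hbc, rot_apply a c b hac hab hbc.symm, Perm.one_apply]
    grind
  have hs := share p q r u v w hpq hpr hqr huv huw hvw
    (by rintro ⟨rfl, rfl, rfl⟩; exact h1 (hinv u w v huw huv hvw.symm))
    (by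
      rintro ⟨rfl, rfl, rfl⟩
      apply h1
      rw [show rot u v w = rot w u v from rot_rotate w u v huw.symm hvw.symm huv]
      exact hinv w v u hvw.symm huw.symm huv.symm)
    (by
      rintro ⟨rfl, rfl, rfl⟩
      apply h1
      rw [show rot u v w = rot v w u from (rot_rotate u v w huv huw hvw).symm]
      exact hinv v u w huv.symm hvw huw)
    (fun x => by
      have := congrArg (fun f : Perm α => f x) h2
      simpa [pow_two] using this)
  have hfg : rot p q r ≠ rot u v w := by
    intro h
    rw [← h, ← pow_two, ← pow_mul] at h2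
    have := orderOf_dvd_of_pow_eq_one h2
    rw [(rot_isThreeCycle hpq hpr hqr).orderOf] at this
    norm_num at this
  have e1 := rot_rotate u v w huv huw hvw
  have e2 := rot_rotate v w u hvw huv.symm huw.symm
  have c1 := rot_rotate p q r hpq hpr hqr
  have c2 := rot_rotate q r p hqr hpq.symm hpr.symm
  rcases hs with (⟨rfl, rfl⟩ | ⟨rfl, rfl⟩ | ⟨rfl, rfl⟩) | (⟨rfl, rfl⟩ | ⟨rfl, rfl⟩ | ⟨rfl, rfl⟩) |
    (⟨rfl, rfl⟩ | ⟨rfl, rfl⟩ | ⟨rfl, rfl⟩)
  · exact ⟨w, huw.symm, hvw.symm, fun h => hfg (by rw [h]), Or.inl rfl⟩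
  · exact ⟨u, huv, huw, fun h => hfg (by rw [h] at e1 ⊢; exact e1), Or.inl e1.symm⟩
  · exact ⟨v, hvw, huv.symm, fun h => hfg (by rw [h] at e1 e2 ⊢; rw [← e1]; exact e2), Or.inl (by rw [e2, e1])⟩
  · exact ⟨w, fun h => hfg (by rw [h]; exact c1.symm), huw.symm, hvw.symm, Or.inr (Or.inl rfl)⟩
  · exact ⟨u, fun h => hfg (by rw [h] at e1 ⊢), huv, huw, Or.inr (Or.inl e1.symm)⟩
  · exact ⟨v, fun h => hfg (by rw [h] at e1 e2 ⊢; first | done | rw [← e1, ← e2, c1] | (rw [← c1, ← e1, e2]; done) | exact (c1.symm.trans (e2.symm.trans e1)) | exact e1), hvw, huv.symm, Or.inr (Or.inl (by rw [e2, e1]))⟩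
  · exact ⟨w, hvw.symm, fun h => hfg (by rw [h, c2, c1]), huw.symm, Or.inr (Or.inr rfl)⟩
  · exact ⟨u, huw, fun h => hfg (by rw [h] at e1 ⊢; rw [← e1, c2, c1]), huv, Or.inr (Or.inr e1.symm)⟩
  · exact ⟨v, huv.symm, fun h => hfg (by rw [h] at e1 e2 ⊢), hvw, Or.inr (Or.inr (by rw [e2, e1]))⟩

private lemma factorial_ineq : ∀ j : ℕ, 3 ^ (j + 2) * (j + 3).factorial < (3 * j + 6).factorial
  | 0 => by decide
  | j + 1 => by
    have ih := factorial_ineq j
    rw [show j + 1 + 3 = (j + 3) + 1 by ring, Nat.factorial_succ (j + 3), show j + 1 + 2 = (j + 2) + 1 by ring,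
      pow_succ, show 3 * (j + 1) + 6 = (3 * j + 6) + 1 + 1 + 1 by ring, Nat.factorial_succ (3 * j + 6 + 1 + 1),
      Nat.factorial_succ (3 * j + 6 + 1), Nat.factorial_succ (3 * j + 6)]
    calc 3 ^ (j + 2) * 3 * ((j + 3 + 1) * (j + 3).factorial) = (3 * (j + 4)) * (3 ^ (j + 2) * (j + 3).factorial) := by ring
      _ < (3 * (j + 4)) * (3 * j + 6).factorial := Nat.mul_lt_mul_of_pos_left ih (by omega)
      _ ≤ _ := by
        rw [← mul_assoc, ← mul_assoc]
        exact Nat.mul_le_mul_right _ (le_trans (show 3 * (j + 4) ≤ (3 * j + 6 + 1 + 1 + 1) * (3 * j + 6 + 1 + 1) by nlinarith) (Nat.le_mul_of_pos_right _ (by omega)))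

private lemma class_ne {m k : ℕ} (hk : 2 ≤ k) (h : m + 3 * k ≠ 6) :
    m.factorial * 3 ^ k * k.factorial ≠ (m + 3 * k - 3).factorial * 3 := by
  rcases eq_or_lt_of_le hk with rfl | hk3
  · have hm : m ≠ 0 := by omega
    have e : (m + 2 + 1).factorial = (m + 3) * ((m + 2) * (m + 1)) * m.factorial := by
      rw [Nat.factorial_succ, Nat.factorial_succ, Nat.factorial_succ]; ring
    rw [show m + 3 * 2 - 3 = m + 2 + 1 by omega, e]
    intro hh
    have hp := Nat.factorial_pos m
    have : (m + 3) * ((m + 2) * (m + 1)) = 6 := by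
      apply Nat.eq_of_mul_eq_mul_right hp
      norm_num [Nat.factorial] at hh
      linarith
    have : 4 * (3 * 2) ≤ (m + 3) * ((m + 2) * (m + 1)) := by gcongr <;> omega
    omega
  · obtain ⟨j, rfl⟩ : ∃ j, k = j + 3 := ⟨k - 3, by omega⟩
    refine ne_of_lt ?_
    have h2 : m.factorial * (3 * j + 6).factorial ≤ (m + 3 * (j + 3) - 3).factorial := by
      rw [show m + 3 * (j + 3) - 3 = m + (3 * j + 6) by omega]
      exact Nat.le_of_dvd (Nat.factorial_pos _) (Nat.factorial_mul_factorial_dvd_factorial_add _ _)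
    calc m.factorial * 3 ^ (j + 3) * (j + 3).factorial = m.factorial * (3 ^ (j + 2) * (j + 3).factorial) * 3 := by ring
      _ < m.factorial * (3 * j + 6).factorial * 3 :=
        Nat.mul_lt_mul_of_pos_right (Nat.mul_lt_mul_of_pos_left (factorial_ineq j) (Nat.factorial_pos m)) (by norm_num)
      _ ≤ _ := Nat.mul_le_mul_right 3 h2


/-- Automorphisms of the alternating groups: for n ≥ 4 with n ≠ 6, every automorphism of the alternating group of degree n is conjugation by a unique permutation, i.e. conjugation induces an isomorphism from the symmetric group of degree n onto the automorphism group of the alternating group (so the outer automorphism group has order 2). -/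
theorem result (n : ℕ) (hn : 4 ≤ n) (h6 : n ≠ 6) : Function.Bijective (MulAut.conjNormal : Equiv.Perm (Fin n) →* MulAut ↥(alternatingGroup (Fin n))) := by
  classical
  set A := alternatingGroup (Fin n)
  have hmem : ∀ p q r : Fin n, p ≠ q → p ≠ r → q ≠ r → rot p q r ∈ A := fun p q r h1 h2 h3 =>
    (rot_isThreeCycle h1 h2 h3).mem_alternatingGroup
  constructor
  · rw [injective_iff_map_eq_one]
    intro σ hσ
    by_contra hne
    obtain ⟨a, ha⟩ : ∃ a, σ a ≠ a := by
      by_contra h; push Not at h; exact hne (Equiv.ext h)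
    obtain ⟨b, -, hb⟩ := Finset.exists_mem_notMem_of_card_lt_card (s := ({a, σ a} : Finset (Fin n))) (t := Finset.univ)
      (lt_of_le_of_lt Finset.card_le_two (by rw [Finset.card_univ, Fintype.card_fin]; omega))
    obtain ⟨c, -, hc⟩ := Finset.exists_mem_notMem_of_card_lt_card (s := ({a, σ a, b} : Finset (Fin n))) (t := Finset.univ)
      (lt_of_le_of_lt Finset.card_le_three (by rw [Finset.card_univ, Fintype.card_fin]; omega))
    simp only [Finset.mem_insert, Finset.mem_singleton, not_or] at hb hc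
    have hk := congrArg (fun ψ : MulAut A => ((ψ ⟨rot a b c, hmem a b c (Ne.symm hb.1) (Ne.symm hc.1) (Ne.symm hc.2.2)⟩ : A) : Perm (Fin n))) hσ
    simp only [MulAut.conjNormal_apply, MulAut.one_apply, rot_conj] at hk
    have hk' := congrArg (fun f : Perm (Fin n) => f (σ a)) hk
    simp only [rot_apply _ _ _ (σ.injective.ne (Ne.symm hb.1)) (σ.injective.ne (Ne.symm hc.1)) (σ.injective.ne (Ne.symm hc.2.2)),
      rot_apply a b c (Ne.symm hb.1) (Ne.symm hc.1) (Ne.symm hc.2.2), if_true, if_neg ha, if_neg (Ne.symm hb.2),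
      if_neg (Ne.symm hc.2.1)] at hk'
    exact absurd (σ.injective hk') hb.1
  intro ψ
  let F : A → Perm (Fin n) := fun g => ((ψ g : A) : Perm (Fin n))
  have hFmul : ∀ g h, F (g * h) = F g * F h := fun g h => by simp [F]
  have hF3 : ∀ g : A, (g : Perm (Fin n)).IsThreeCycle → (F g).IsThreeCycle := by
    intro g hg
    have ho : orderOf (F g) = 3 := by
      rw [show F g = ((ψ g : A) : Perm (Fin n)) from rfl, Subgroup.orderOf_coe, MulEquiv.orderOf_eq,
        ← Subgroup.orderOf_coe, hg.orderOf]
    obtain ⟨k, hk⟩ := Perm.cycleType_prime_order (σ := F g) (ho.symm ▸ Nat.prime_three)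
    rw [ho] at hk
    rcases Nat.eq_zero_or_pos k with rfl | hk0
    · exact hk
    exfalso
    have hs := (F g).sum_cycleType_le
    rw [hk, Multiset.sum_replicate, smul_eq_mul, Fintype.card_fin] at hs
    have hn6 : 6 ≤ n := by omega
    -- centralisers in A are half of those in the symmetric group
    have hhalf : ∀ x : A, (∃ y : Perm (Fin n), Perm.sign y = -1 ∧ y * x = x * y) →
        Nat.card (Subgroup.centralizer {(x : Perm (Fin n))}) = 2 * Nat.card (Subgroup.centralizer {x}) := by
      rintro x ⟨y, hy, hyx⟩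
      let C := Subgroup.centralizer {(x : Perm (Fin n))}
      let s : C →* ℤˣ := Perm.sign.comp C.subtype
      have hr : s.range = ⊤ := by
        rw [eq_top_iff]
        intro u _
        rcases Int.units_eq_one_or u with rfl | rfl
        · exact ⟨1, map_one s⟩
        · exact ⟨⟨y, Subgroup.mem_centralizer_singleton_iff.mpr hyx⟩, hy⟩
      have h := s.ker.card_mul_index
      rw [Subgroup.index_ker, hr, Subgroup.card_top, show Nat.card ℤˣ = 2 by rw [Nat.card_eq_fintype_card]; rfl] at h
      rw [← h, mul_comm]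
      congr 1
      exact Nat.card_congr
        { toFun := fun z => ⟨⟨z.1.1, Perm.mem_alternatingGroup.mpr z.2⟩,
            Subgroup.mem_centralizer_singleton_iff.mpr (Subtype.ext (Subgroup.mem_centralizer_singleton_iff.mp z.1.2))⟩
          invFun := fun z => ⟨⟨z.1.1, Subgroup.mem_centralizer_singleton_iff.mpr (congrArg Subtype.val (Subgroup.mem_centralizer_singleton_iff.mp z.2))⟩, Perm.mem_alternatingGroup.mp z.1.2⟩
          left_inv := fun z => rfl
          right_inv := fun z => rfl }
    have hodd : ∀ x : A, orderOf (x : Perm (Fin n)) = 3 → (x : Perm (Fin n)).IsThreeCycle → ∃ y : Perm (Fin n), Perm.sign y = -1 ∧ y * x = x * y := by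
      intro x _ hx
      obtain ⟨p, q, r, h1, h2, h3, hpqr⟩ := exists_rot hx
      obtain ⟨a, -, ha⟩ := Finset.exists_mem_notMem_of_card_lt_card (s := ({p, q, r} : Finset (Fin n))) (t := Finset.univ)
        (lt_of_le_of_lt Finset.card_le_three (by rw [Finset.card_univ, Fintype.card_fin]; omega))
      obtain ⟨b, -, hb⟩ := Finset.exists_mem_notMem_of_card_lt_card (s := ({p, q, r, a} : Finset (Fin n))) (t := Finset.univ)
        (lt_of_le_of_lt Finset.card_le_four (by rw [Finset.card_univ, Fintype.card_fin]; omega))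
      simp only [Finset.mem_insert, Finset.mem_singleton, not_or] at ha hb
      refine ⟨swap a b, Perm.sign_swap (Ne.symm hb.2.2.2), ?_⟩
      have e := rot_conj (swap a b) p q r
      rw [swap_apply_of_ne_of_ne (Ne.symm ha.1) (Ne.symm hb.1), swap_apply_of_ne_of_ne (Ne.symm ha.2.1) (Ne.symm hb.2.1),
        swap_apply_of_ne_of_ne (Ne.symm ha.2.2) (Ne.symm hb.2.2.1), ← hpqr] at e
      calc swap a b * x = swap a b * x * (swap a b)⁻¹ * swap a b := by group
        _ = x * swap a b := by rw [e]
    -- an odd permutation commuting with the product of several three-cycles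
    have hodd2 : ∃ y : Perm (Fin n), Perm.sign y = -1 ∧ y * F g = F g * y := by
      by_contra hcon
      push Not at hcon
      have hle : Subgroup.centralizer {F g} ≤ alternatingGroup (Fin n) := by
        intro y hy
        rcases Int.units_eq_one_or (Perm.sign y) with h | h
        · exact Perm.mem_alternatingGroup.mpr h
        · exact absurd (Subgroup.mem_centralizer_singleton_iff.mp hy) (hcon y h)
      have := Equiv.Perm.count_le_one_of_centralizer_le_alternating hle 3
      rw [hk, Multiset.count_replicate_self] at this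
      omega
    have h1 := hhalf g (hodd g hg.orderOf hg)
    have h2 := hhalf (ψ g) hodd2
    have e : Nat.card (Subgroup.centralizer {g}) = Nat.card (Subgroup.centralizer {ψ g}) := by
      refine Nat.card_congr ((ψ : A ≃ A).subtypeEquiv fun x => ?_)
      simp only [Subgroup.mem_centralizer_singleton_iff]
      rw [← ψ.injective.eq_iff, map_mul, map_mul]
      rfl
    rw [e, ← h2] at h1
    rw [Perm.nat_card_centralizer, Perm.nat_card_centralizer, show ((ψ g : A) : Perm (Fin n)).cycleType = _ from hk,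
      show (g : Perm (Fin n)).cycleType = {3} from hg] at h1
    obtain ⟨m, hm⟩ : ∃ m, n = m + 3 * (k + 1) := ⟨n - 3 * (k + 1), by omega⟩
    refine class_ne (m := m) (k := k + 1) (by omega) (hm ▸ h6) ?_
    have e1 : ({3} : Multiset ℕ) = Multiset.replicate 1 3 := rfl
    simp only [e1, Multiset.toFinset_replicate, if_neg (Nat.succ_ne_zero _), Finset.prod_singleton, Multiset.count_replicate_self,
      Multiset.sum_replicate, Multiset.prod_replicate, smul_eq_mul, Fintype.card_fin] at h1
    rw [show n - (k + 1) * 3 = m by omega, show n - 1 * 3 = m + 3 * (k + 1) - 3 by omega] at h1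
    simpa using h1.symm
  -- the base pair
  obtain ⟨a, b, c, hab, hac, hbc⟩ := Fintype.two_lt_card_iff.1 (show 2 < Fintype.card (Fin n) by rw [Fintype.card_fin]; omega)
  obtain ⟨d, -, hd⟩ := Finset.exists_mem_notMem_of_card_lt_card (s := ({a, b, c} : Finset (Fin n))) (t := Finset.univ)
    (lt_of_le_of_lt Finset.card_le_three (by rw [Finset.card_univ, Fintype.card_fin]; omega))
  simp only [Finset.mem_insert, Finset.mem_singleton, not_or] at hd
  let G : ∀ x : Fin n, x ≠ a → x ≠ b → A := fun x h1 h2 => ⟨rot a b x, hmem a b x hab (Ne.symm h1) (Ne.symm h2)⟩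
  have hrel : ∀ x y (hxa : x ≠ a) (hxb : x ≠ b) (hya : y ≠ a) (hyb : y ≠ b), x ≠ y →
      (F (G x hxa hxb) * F (G y hya hyb)) ^ 2 = 1 ∧ F (G x hxa hxb) * F (G y hya hyb) ≠ 1 := by
    intro x y hxa hxb hya hyb hxy
    have key : (rot a b x * rot a b y) ^ 2 = 1 ∧ rot a b x * rot a b y ≠ 1 := by
      constructor
      · ext z
        simp only [pow_two, Perm.mul_apply, rot_apply a b x hab (Ne.symm hxa) (Ne.symm hxb), rot_apply a b y hab (Ne.symm hya) (Ne.symm hyb), Perm.one_apply]
        grind
      · intro h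
        have := congrArg (fun f : Perm (Fin n) => f a) h
        simp only [Perm.mul_apply, rot_apply a b x hab (Ne.symm hxa) (Ne.symm hxb), rot_apply a b y hab (Ne.symm hya) (Ne.symm hyb), Perm.one_apply] at this
        grind
    rw [← hFmul]
    constructor
    · rw [pow_two, ← hFmul, ← pow_two]
      have : (G x hxa hxb * G y hya hyb) ^ 2 = 1 := Subtype.ext (by simpa using key.1)
      rw [this]; simp [F]
    · intro h
      apply key.2
      have h' : ψ (G x hxa hxb * G y hya hyb) = ψ 1 := by rw [map_one]; exact Subtype.ext h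
      exact congrArg Subtype.val (ψ.injective h')
  have hFinj : Function.Injective F := fun g h e => ψ.injective (Subtype.ext e)
  obtain ⟨p₀, q₀, r₀, h1, h2, h3, hc₀⟩ := exists_rot (hF3 (G c (Ne.symm hac) (Ne.symm hbc)) (rot_isThreeCycle hab hac hbc))
  obtain ⟨hcd1, hcd2⟩ := hrel c d (Ne.symm hac) (Ne.symm hbc) hd.1 hd.2.1 (Ne.symm hd.2.2)
  rw [hc₀] at hcd1 hcd2
  obtain ⟨t₀, ht1, ht2, ht3, ht⟩ := exists_edge h1 h2 h3 (hF3 _ (rot_isThreeCycle hab (Ne.symm hd.1) (Ne.symm hd.2.1))) hcd1 hcd2
  obtain ⟨p, q, r, s, hpq, hpr, hqr, hsp, hsq, hsr, hFc, hFd⟩ : ∃ p q r s, p ≠ q ∧ p ≠ r ∧ q ≠ r ∧ s ≠ p ∧ s ≠ q ∧ s ≠ r ∧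
      F (G c (Ne.symm hac) (Ne.symm hbc)) = rot p q r ∧ F (G d hd.1 hd.2.1) = rot p q s := by
    rcases ht with h | h | h
    · exact ⟨p₀, q₀, r₀, t₀, h1, h2, h3, ht1, ht2, ht3, hc₀, h⟩
    · exact ⟨q₀, r₀, p₀, t₀, h3, h1.symm, h2.symm, ht2, ht3, ht1, by rw [hc₀, rot_rotate p₀ q₀ r₀ h1 h2 h3], h⟩
    · exact ⟨r₀, p₀, q₀, t₀, h2.symm, h3.symm, h1, ht3, ht1, ht2, by
        rw [hc₀, rot_rotate q₀ r₀ p₀ h3 h1.symm h2.symm, rot_rotate p₀ q₀ r₀ h1 h2 h3], h⟩
  -- every image has the common edge, or lies inside four points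
  have hcases : ∀ x (hxa : x ≠ a) (hxb : x ≠ b), x ≠ c → x ≠ d →
      (∃ t, t ≠ p ∧ t ≠ q ∧ F (G x hxa hxb) = rot p q t) ∨
      (F (G x hxa hxb) = rot q r s ∨ F (G x hxa hxb) = rot r p s) := by
    intro x hxa hxb hxc hxd
    obtain ⟨a1, a2⟩ := hrel c x (Ne.symm hac) (Ne.symm hbc) hxa hxb (Ne.symm hxc)
    obtain ⟨b1, b2⟩ := hrel d x hd.1 hd.2.1 hxa hxb (Ne.symm hxd)
    rw [hFc] at a1 a2
    rw [hFd] at b1 b2
    obtain ⟨t, t1, t2, t3, ht⟩ := exists_edge hpq hpr hqr (hF3 _ (rot_isThreeCycle hab (Ne.symm hxa) (Ne.symm hxb))) a1 a2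
    rcases ht with h | h | h
    · exact Or.inl ⟨t, t1, t2, h⟩
    · obtain ⟨t', u1, u2, u3, ht'⟩ := exists_edge hpq hsp.symm hsq.symm (hF3 _ (rot_isThreeCycle hab (Ne.symm hxa) (Ne.symm hxb))) b1 b2
      rcases ht' with h' | h' | h'
      · exact Or.inl ⟨t', u1, u2, h'⟩
      all_goals
        right; left
        rw [h]
        have e := h.symm.trans h'
        have e1 := congrArg (fun f : Perm (Fin n) => f p) e
        have e2 := congrArg (fun f : Perm (Fin n) => f q) e
        have e3 := congrArg (fun f : Perm (Fin n) => f r) e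
        have e4 := congrArg (fun f : Perm (Fin n) => f s) e
        simp only [rot_apply q r t hqr (Ne.symm t2) (Ne.symm t3), rot_apply q s t' hsq.symm (Ne.symm u2) (Ne.symm u3),
          rot_apply s p t' hsp (Ne.symm u3) (Ne.symm u1)] at e1 e2 e3 e4
        grind
    · obtain ⟨t', u1, u2, u3, ht'⟩ := exists_edge hpq hsp.symm hsq.symm (hF3 _ (rot_isThreeCycle hab (Ne.symm hxa) (Ne.symm hxb))) b1 b2
      rcases ht' with h' | h' | h'
      · exact Or.inl ⟨t', u1, u2, h'⟩
      all_goals
        right; right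
        rw [h]
        have e := h.symm.trans h'
        have e1 := congrArg (fun f : Perm (Fin n) => f p) e
        have e2 := congrArg (fun f : Perm (Fin n) => f q) e
        have e3 := congrArg (fun f : Perm (Fin n) => f r) e
        have e4 := congrArg (fun f : Perm (Fin n) => f s) e
        simp only [rot_apply r p t hpr.symm (Ne.symm t3) (Ne.symm t1), rot_apply q s t' hsq.symm (Ne.symm u2) (Ne.symm u3),
          rot_apply s p t' hsp (Ne.symm u3) (Ne.symm u1)] at e1 e2 e3 e4
        grind
  -- a third edge through the three points is impossible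
  have hgen : ∀ K : Subgroup A, (∀ x (hxa : x ≠ a) (hxb : x ≠ b), G x hxa hxb ∈ K) → K = ⊤ := by
    intro K hK
    rw [eq_top_iff, ← alternatingGroup.closure_isThreeCycles_eq_top, Subgroup.closure_le]
    rintro ⟨g, hg⟩ hg3
    obtain ⟨u, v, w, huv, huw, hvw, rfl⟩ := exists_rot hg3
    -- closure in the symmetric group
    set M := K.map A.subtype with hM
    have hMx : ∀ x, x ≠ a → x ≠ b → rot a b x ∈ M := fun x h1 h2 => ⟨G x h1 h2, hK x h1 h2, rfl⟩
    have hMi : ∀ x, x ≠ a → x ≠ b → rot b a x ∈ M := by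
      intro x h1 h2
      have e : rot b a x = (rot a b x)⁻¹ := by
        rw [eq_inv_iff_mul_eq_one]
        ext z
        simp only [Perm.mul_apply, rot_apply b a x hab.symm (Ne.symm h2) (Ne.symm h1), rot_apply a b x hab (Ne.symm h1) (Ne.symm h2), Perm.one_apply]
        grind
      rw [e]; exact M.inv_mem (hMx x h1 h2)
    have hax : ∀ x y, x ≠ a → x ≠ b → y ≠ a → y ≠ b → x ≠ y → rot a x y ∈ M ∧ rot b x y ∈ M := by
      intro x y h1 h2 h3 h4 h5
      constructor
      · have e : rot a x y = rot b a y * rot a b x * (rot b a y)⁻¹ := by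
          rw [rot_conj, rot_apply b a y hab.symm (Ne.symm h4) (Ne.symm h3) a, rot_apply b a y hab.symm (Ne.symm h4) (Ne.symm h3) b,
            rot_apply b a y hab.symm (Ne.symm h4) (Ne.symm h3) x, if_pos rfl, if_neg hab, if_pos rfl, if_neg h2, if_neg h1, if_neg h5]
          exact rot_rotate y a x h3 h5.symm (Ne.symm h1)
        rw [e]; exact M.mul_mem (M.mul_mem (hMi y h3 h4) (hMx x h1 h2)) (M.inv_mem (hMi y h3 h4))
      · have e : rot b x y = rot a b y * rot b a x * (rot a b y)⁻¹ := by
          rw [rot_conj, rot_apply a b y hab (Ne.symm h3) (Ne.symm h4) b, rot_apply a b y hab (Ne.symm h3) (Ne.symm h4) a,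
            rot_apply a b y hab (Ne.symm h3) (Ne.symm h4) x, if_pos rfl, if_neg hab.symm, if_pos rfl, if_neg h1, if_neg h2, if_neg h5]
          exact rot_rotate y b x h4 h5.symm (Ne.symm h2)
        rw [e]; exact M.mul_mem (M.mul_mem (hMx y h3 h4) (hMi x h1 h2)) (M.inv_mem (hMx y h3 h4))
    have hall : ∀ u v w : Fin n, u ≠ v → u ≠ w → v ≠ w → rot u v w ∈ M := by
      intro u v w huv huw hvw
      have r1 := rot_rotate u v w huv huw hvw
      have r2 := rot_rotate v w u hvw huv.symm huw.symm
      by_cases hu : u = a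
      · subst hu
        by_cases hv : v = b
        · subst hv; exact hMx w (Ne.symm huw) (Ne.symm hvw)
        by_cases hw : w = b
        · subst hw; rw [← r1, ← r2]; exact hMi v (Ne.symm huv) hv
        exact (hax v w (Ne.symm huv) hv (Ne.symm huw) hw hvw).1
      by_cases hv : v = a
      · subst hv
        rw [← r1]
        by_cases hw : w = b
        · subst hw; exact hMx u hu huw
        by_cases hu' : u = b
        · subst hu'; rw [r1]; exact hMi w (Ne.symm hvw) hw
        exact (hax w u (Ne.symm hvw) hw hu hu' huw.symm).1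
      by_cases hw : w = a
      · subst hw
        rw [← r1, ← r2]
        by_cases hu' : u = b
        · subst hu'; exact hMx v hv huv.symm
        by_cases hv' : v = b
        · subst hv'; rw [r2]; exact hMi u hu hu'
        exact (hax u v hu hu' hv hv' huv).1
      by_cases hu' : u = b
      · subst hu'; exact (hax v w hv (Ne.symm huv) hw (Ne.symm huw) hvw).2
      by_cases hv' : v = b
      · subst hv'; rw [← r1]; exact (hax w u hw (Ne.symm hvw) hu hu' huw.symm).2
      by_cases hw' : w = b
      · subst hw'; rw [← r1, ← r2]; exact (hax u v hu hu' hv hv' huv).2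
      have e : rot u v w = rot a u b * rot a v w * (rot a u b)⁻¹ := by
        rw [rot_conj]
        ext z
        simp only [rot_apply a u b (Ne.symm hu) hab hu', rot_apply u v w huv huw hvw]
        simp [hu, hv, hw, hv', hw', Ne.symm huv, Ne.symm huw]
        rw [rot_apply u v w huv huw hvw]
      have m1 : rot a u b ∈ M := by
        rw [← rot_rotate a u b (Ne.symm hu) hab hu', ← rot_rotate u b a hu' hu hab.symm]
        exact hMx u hu hu' |> fun h => by
          rw [← rot_rotate b a u hab.symm (Ne.symm hu') (Ne.symm hu), ← rot_rotate a u b (Ne.symm hu) hab hu'] at *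
          exact hMi u hu hu' |> fun h' => by
            simpa [rot_rotate a u b (Ne.symm hu) hab hu', rot_rotate u b a hu' hu hab.symm] using h'
      rw [e]
      exact M.mul_mem (M.mul_mem m1 ((hax v w hv hv' hw hw' hvw).1)) (M.inv_mem m1)
    obtain ⟨k, hk, hke⟩ := hall u v w huv huw hvw
    have : k = ⟨rot u v w, hg⟩ := Subtype.ext hke
    rw [← this]; exact hk
  have hpoint : ∀ x (hxa : x ≠ a) (hxb : x ≠ b), ∃ t, t ≠ p ∧ t ≠ q ∧ F (G x hxa hxb) = rot p q t := by
    by_contra hcon
    push Not at hcon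
    obtain ⟨e, hea, heb, he⟩ := hcon
    have hec : e ≠ c := by rintro rfl; exact he r hpr.symm hqr.symm hFc
    have hed : e ≠ d := by rintro rfl; exact he s hsp hsq hFd
    have hn5 : 5 ≤ n := by
      have : ({a, b, c, d, e} : Finset (Fin n)).card = 5 := by
        simp [hab, hac, hbc, Ne.symm hd.1, Ne.symm hd.2.1, Ne.symm hd.2.2, Ne.symm hea, Ne.symm heb, Ne.symm hec, Ne.symm hed]
      have := this ▸ Finset.card_le_univ ({a, b, c, d, e} : Finset (Fin n))
      rw [Fintype.card_fin] at this; exact this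
    have hE : F (G e hea heb) = rot q r s ∨ F (G e hea heb) = rot r p s := by
      rcases hcases e hea heb hec hed with ⟨t, t1, t2, h⟩ | h
      · exact absurd h (he t t1 t2)
      · exact h
    -- all images move only p q r s
    obtain ⟨z, -, hz⟩ := Finset.exists_mem_notMem_of_card_lt_card (s := ({p, q, r, s} : Finset (Fin n))) (t := Finset.univ)
      (lt_of_le_of_lt Finset.card_le_four (by rw [Finset.card_univ, Fintype.card_fin]; omega))
    simp only [Finset.mem_insert, Finset.mem_singleton, not_or] at hz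
    obtain ⟨hzp, hzq, hzr, hzs⟩ := hz
    let K : Subgroup A := ((MulAction.stabilizer (Perm (Fin n)) z).comap A.subtype).comap ψ.toMonoidHom
    have hfixmem : ∀ x hxa hxb, F (G x hxa hxb) z = z → G x hxa hxb ∈ K := fun x _ _ h => h
    have hK : K = ⊤ := by
      refine hgen K fun x hxa hxb => hfixmem x hxa hxb ?_
      by_cases hxc : x = c
      · subst hxc; rw [hFc, rot_apply p q r hpq hpr hqr]; simp [hzp, hzq, hzr]
      by_cases hxd : x = d
      · subst hxd; rw [hFd, rot_apply p q s hpq hsp.symm hsq.symm]; simp [hzp, hzq, hzs]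
      rcases hcases x hxa hxb hxc hxd with ⟨t, t1, t2, h⟩ | h | h
      · have hxe : x ≠ e := by rintro rfl; exact he t t1 t2 h
        obtain ⟨b1, b2⟩ := hrel e x hea heb hxa hxb (Ne.symm hxe)
        rw [h]
        by_cases ht' : t = r ∨ t = s
        · rcases ht' with rfl | rfl
          · exfalso; exact hxc (by simpa [G, Subtype.ext_iff] using rot_inj hab (Ne.symm hxa) (Ne.symm hxb) hac hbc (congrArg Subtype.val (hFinj (h.trans hFc.symm))))
          · exfalso; exact hxd (rot_inj hab (Ne.symm hxa) (Ne.symm hxb) (Ne.symm hd.1) (Ne.symm hd.2.1) (congrArg Subtype.val (hFinj (h.trans hFd.symm))))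
        push Not at ht'
        exfalso
        rcases hE with hE | hE
        · rw [h, hE] at b1
          have e1 := congrArg (fun f : Perm (Fin n) => f p) b1
          simp only [pow_two, Perm.mul_apply, rot_apply q r s hqr hsq.symm hsr.symm, rot_apply p q t hpq (Ne.symm t1) (Ne.symm t2), Perm.one_apply] at e1
          grind
        · rw [h, hE] at b1
          have e1 := congrArg (fun f : Perm (Fin n) => f p) b1
          have e2 := congrArg (fun f : Perm (Fin n) => f q) b1
          simp only [pow_two, Perm.mul_apply, rot_apply r p s hpr.symm hsr.symm hsp.symm, rot_apply p q t hpq (Ne.symm t1) (Ne.symm t2), Perm.one_apply] at e1 e2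
          grind
      · rw [h, rot_apply q r s hqr hsq.symm hsr.symm]; simp [hzq, hzr, hzs]
      · rw [h, rot_apply r p s hpr.symm hsr.symm hsp.symm]; simp [hzr, hzp, hzs]
    have hall : ∀ g : A, (g : Perm (Fin n)) z = z := by
      intro g
      have : ψ.symm g ∈ K := by rw [hK]; trivial
      have h' : ((ψ (ψ.symm g) : A) : Perm (Fin n)) z = z := this
      simpa using h'
    have := hall ⟨rot z p q, hmem z p q hzp hzq hpq⟩
    simp only [rot_apply z p q hzp hzq hpq, if_true] at this
    exact hzp this.symm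
  choose f hfp hfq hf using hpoint
  let σ₀ : Fin n → Fin n := fun x => if h : x = a then p else if h' : x = b then q else f x h h'
  have hσ : Function.Injective σ₀ := by
    intro x y h
    simp only [σ₀] at h
    split_ifs at h with hx hy hy' hx' hy hy' hy hy'
    all_goals first
      | (subst_vars; rfl)
      | exact absurd h hpq
      | exact absurd h hpq.symm
      | exact absurd h (hfp _ _ _)
      | exact absurd h.symm (hfp _ _ _)
      | exact absurd h (hfq _ _ _)
      | exact absurd h.symm (hfq _ _ _)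
      | skip
    have h' := hFinj ((hf x hx hx').trans (by rw [h]; exact (hf y hy hy').symm))
    exact rot_inj hab (Ne.symm hx) (Ne.symm hx') (Ne.symm hy) (Ne.symm hy') (congrArg Subtype.val h')
  let σ : Perm (Fin n) := Equiv.ofBijective σ₀ (Finite.injective_iff_bijective.1 hσ)
  refine ⟨σ, ?_⟩
  have hK : ((MulAut.conjNormal σ : MulAut A).toMonoidHom.eqLocus ψ.toMonoidHom) = ⊤ := by
    refine hgen _ fun x hxa hxb => ?_
    show MulAut.conjNormal σ (G x hxa hxb) = ψ (G x hxa hxb)
    apply Subtype.ext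
    rw [MulAut.conjNormal_apply, show ((ψ (G x hxa hxb) : A) : Perm (Fin n)) = F (G x hxa hxb) from rfl, hf x hxa hxb]
    show σ * rot a b x * σ⁻¹ = _
    rw [rot_conj]
    have ea : σ a = p := by simp [σ, σ₀]
    have eb : σ b = q := by simp [σ, σ₀, hab.symm]
    have ex : σ x = f x hxa hxb := by simp [σ, σ₀, hxa, hxb]
    rw [ea, eb, ex]
  ext g : 1
  have : g ∈ ((MulAut.conjNormal σ : MulAut A).toMonoidHom.eqLocus ψ.toMonoidHom) := by rw [hK]; trivial
  exact this

end Cfsg.Agent.S2119
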