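import Cfsg.Statements.S3612
import Cfsg.Agent.HalfNorm.NoLines
import Cfsg.Agent.HalfNorm.Main

set_option autoImplicit false
open Cfsg
open scoped Pointwise

namespace Cfsg.Agent.S3612

/-- Let G be an insoluble group acting faithfully and transitively on a finite set of prime size p, and suppose the normalizer of a Sylow p-subgroup of G has order p(p-1)/2. If p > 7, then the stabilizer of a point acts primitively on the remaining p - 1 points. -/
theorem result {G Ω : Type*} [Group G] [Finite G] [MulAction G Ω] [FaithfulSMul G Ω] [Finite Ω]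
    (p : ℕ) (hp : p.Prime) (hΩ : Nat.card Ω = p) (htrans : MulAction.IsPretransitive G Ω)
    (hins : ¬ Group.IsSolvable G) (P : Sylow p G)
    (hN : 2 * Nat.card ↥(Subgroup.normalizer ((P : Subgroup G) : Set G)) = p * (p - 1))
    (hp7 : 7 < p) (α : Ω) :
    MulAction.IsPreprimitive ↥(MulAction.stabilizer G α) ↥(SubMulAction.ofStabilizer G α) := by
  classical
  have : Fact p.Prime := ⟨hp⟩
  have := htrans
  have := Fintype.ofFinite Ω
  -- doubly transitive by Burnside
  let G' := (MulAction.toPermHom G Ω).range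
  let ι : G ≃* G' := MonoidHom.ofInjective MulAction.toPerm_injective
  have : MulAction.IsPretransitive G' Ω := ⟨fun a b => (MulAction.exists_smul_eq G a b).elim fun g hg => ⟨ι g, hg⟩⟩
  have h2' : MulAction.IsMultiplyPretransitive G' Ω 2 :=
    (Cfsg.Agent.S0675.result (by rwa [← Nat.card_eq_fintype_card, hΩ]) G').resolve_left
      fun h => hins (Group.isSolvable_of_isSolvable_injective (f := ι.toMonoidHom) ι.injective)
  have h2 : ∀ {a b c d : Ω}, a ≠ b → c ≠ d → ∃ g : G, g • a = c ∧ g • b = d := by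
    intro a b c d hab hcd
    obtain ⟨g, hg⟩ := (MulAction.is_two_pretransitive_iff.1 h2') hab hcd
    obtain ⟨g, rfl⟩ := ι.surjective g
    exact ⟨g, hg⟩
  have hpre : MulAction.IsPretransitive ↥(MulAction.stabilizer G α) ↥(SubMulAction.ofStabilizer G α) := by
    refine ⟨fun x y => ?_⟩
    obtain ⟨g, hga, hgx⟩ := h2 (Ne.symm ((SubMulAction.mem_ofStabilizer_iff G α).1 x.2)) (Ne.symm ((SubMulAction.mem_ofStabilizer_iff G α).1 y.2))
    exact ⟨⟨g, hga⟩, Subtype.ext hgx⟩
  refine { isTrivialBlock_of_isBlock := fun {B} hB => ?_ }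
  by_contra hnt
  rw [MulAction.IsTrivialBlock, not_or, Set.not_subsingleton_iff, ← ne_eq, Set.ne_univ_iff_exists_notMem] at hnt
  obtain ⟨⟨b₁, hb₁, b₂, hb₂, hb12⟩, z, hz⟩ := hnt
  let B' : Finset Ω := B.toFinite.toFinset.image (fun x => (x : Ω))
  have hmem : ∀ y : Ω, y ∈ B' ↔ ∃ x ∈ B, (x : Ω) = y := fun y => by simp [B']
  have hαB : α ∉ B' := fun h => by
    obtain ⟨x, -, hx⟩ := (hmem α).1 h
    exact (SubMulAction.mem_ofStabilizer_iff G α).1 x.2 hx
  have hβB : (b₁ : Ω) ∈ B' := (hmem _).2 ⟨b₁, hb₁, rfl⟩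
  have hblock : ∀ g : G, g • α = α → g • (b₁ : Ω) ∈ B' → B'.image (g • ·) = B' := by
    intro g hg hgb
    obtain ⟨x, hx, hxe⟩ := (hmem _).1 hgb
    let s : MulAction.stabilizer G α := ⟨g, hg⟩
    have hsB : s • B = B := hB.smul_eq_of_nonempty (g := s) ⟨x, ⟨b₁, hb₁, Subtype.ext hxe.symm⟩, hx⟩
    ext y
    simp only [Finset.mem_image, hmem]
    constructor
    · rintro ⟨_, ⟨w, hw, rfl⟩, rfl⟩
      exact ⟨s • w, hsB ▸ Set.smul_mem_smul_set hw, rfl⟩
    · rintro ⟨w, hw, rfl⟩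
      rw [← hsB] at hw
      obtain ⟨v, hv, rfl⟩ := hw
      exact ⟨_, ⟨v, hv, rfl⟩, rfl⟩
  have hB2 : 2 ≤ B'.card := Finset.one_lt_card.2
    ⟨b₁, hβB, b₂, (hmem _).2 ⟨b₂, hb₂, rfl⟩, fun h => hb12 (Subtype.ext h)⟩
  have hzB : (z : Ω) ∉ B' := fun h => by
    obtain ⟨x, hx, hxe⟩ := (hmem _).1 h
    exact hz (Subtype.ext hxe ▸ hx)
  have hzα : (z : Ω) ≠ α := (SubMulAction.mem_ofStabilizer_iff G α).1 z.2
  have hBp : B'.card + 2 ≤ p := by
    have h := Finset.card_le_univ (insert α (insert (z : Ω) B'))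
    rw [Finset.card_insert_of_notMem (by simp [hαB, hzα.symm]), Finset.card_insert_of_notMem hzB,
      ← Nat.card_eq_fintype_card, hΩ] at h
    omega
  obtain ⟨L, h1, h2l, h3, h4, h5⟩ := Cfsg.Agent.HalfNorm.exists_lines hΩ hins P hN h2 B' hαB hβB hblock hB2 hBp
  exact Cfsg.Agent.HalfNorm.no_lines hΩ hins P hN hp7 L (k := B'.card + 1) (by omega) (by omega) h1 h2l h3 h4 h5
    (fun h : α = (b₁ : Ω) => hαB (h ▸ hβB))

end Cfsg.Agent.S3612
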