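import Cfsg.Statements.S0519
import Cfsg.Agent.MaxClass.CyclicNormal
import Cfsg.Agent.Fusion.PGroup

set_option autoImplicit false
open Cfsg

namespace Cfsg.Agent.S0519

/-- Let P be a finite p-group in which every abelian normal subgroup is cyclic, but which has a non-cyclic abelian
subgroup. Then p = 2 and P is generalized quaternion, dihedral of order at least 16, or quasi-dihedral. -/
theorem result {P : Type*} [Group P] [Finite P] (p : ℕ) [Fact p.Prime]
    (hP : IsPGroup p P) (hn : ∀ A : Subgroup P, A.Normal → IsMulCommutative A → IsCyclic A)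
    (hm : ∃ B : Subgroup P, IsMulCommutative B ∧ ¬ IsCyclic B) :
    p = 2 ∧ ((∃ n : ℕ, Nonempty (P ≃* QuaternionGroup n)) ∨ (∃ n : ℕ, 8 ≤ n ∧ Nonempty (P ≃* DihedralGroup n)) ∨
      Cfsg.IsQuasiDihedral P) := by
  obtain ⟨B, hBa, hBc⟩ := hm
  have hna : ¬ IsMulCommutative P := fun hc => hBc (by
    have := hn ⊤ inferInstance ⟨⟨fun x y => Subtype.ext (hc.is_comm.comm x.1 y.1)⟩⟩
    exact (Subgroup.subgroupOfEquivOfLe (le_top : B ≤ ⊤)).isCyclic.1 inferInstance)
  obtain ⟨U, -, hUn, hUa, hmax⟩ :=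
    Fusion.exists_maximal_normal_abelian (⊥ : Subgroup P) ⟨⟨fun x y => Subsingleton.elim _ _⟩⟩
  have hCU := Fusion.centralizer_eq_of_maximal_normal_abelian hP U hUa hmax
  obtain ⟨n, hn'⟩ := IsPGroup.iff_card.1 (hP.to_subgroup U)
  rcases MaxClass.cyclic_normal_cases hP hna U (hn U hUn hUa) hn' hCU with ⟨hp, hc, h⟩ | ⟨-, hE, hE2, hEc⟩
  · subst hp
    refine ⟨rfl, ?_⟩
    rcases h with ⟨k, hk⟩ | ⟨k, hk, a, b, ha, hb, he⟩ | ⟨k, hk⟩
    · rcases k with _ | k
      · exfalso
        have h8 : Nat.card P = 8 := by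
          rw [Nat.card_congr hk.some.toEquiv, DihedralGroup.nat_card]; norm_num
        obtain ⟨j, hj, hj'⟩ := (Nat.dvd_prime_pow Nat.prime_two).1
          (show Nat.card B ∣ 2 ^ 3 by rw [show 2 ^ 3 = Nat.card P by rw [h8]; norm_num]; exact B.card_subgroup_dvd_card)
        have hj2 : j = 2 := by
          rcases (by omega : j = 0 ∨ j = 1 ∨ j = 2 ∨ j = 3) with rfl | rfl | rfl | rfl
          · have := (Nat.card_eq_one_iff_unique.1 hj').1
            exact absurd (inferInstance : IsCyclic B) hBc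
          · exact absurd (isCyclic_of_prime_card (p := 2) hj') hBc
          · rfl
          · refine absurd ⟨⟨fun x y => ?_⟩⟩ hna
            have htop : B = ⊤ := Subgroup.eq_top_of_card_eq B (by rw [hj', h8]; norm_num)
            exact congrArg Subtype.val (hBa.is_comm.comm ⟨x, htop ▸ Subgroup.mem_top x⟩ ⟨y, htop ▸ Subgroup.mem_top y⟩)
        subst hj2
        have hi := B.card_mul_index
        rw [hj', h8] at hi
        exact hBc (hn B (Subgroup.normal_of_index_eq_two (by omega)) hBa)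
      · exact Or.inr (Or.inl ⟨2 ^ (k + 1 + 2), by
          calc 8 = 2 ^ 3 := rfl
            _ ≤ 2 ^ (k + 1 + 2) := Nat.pow_le_pow_right two_pos (by omega), hk⟩)
    · exact Or.inr (Or.inr (MaxClass.isQuasiDihedral_of_data hk ha hb he))
    · exact Or.inl ⟨_, hk⟩
  · exfalso
    have := hn _ inferInstance hE.1
    obtain ⟨g, hg⟩ := this
    have hg2 : orderOf g = p ^ 2 := by
      rw [← hE2, orderOf_eq_card_of_forall_mem_zpowers hg]
    have h1 : orderOf g ∣ p := orderOf_dvd_iff_pow_eq_one.2 (Subtype.ext (hE.2 _ g.2))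
    rw [hg2] at h1
    have hle := Nat.le_of_dvd (Fact.out : p.Prime).pos h1
    have := (Fact.out : p.Prime).two_le
    nlinarith

end Cfsg.Agent.S0519
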