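import Cfsg.Statements.S3380
import Cfsg.Agent.S0519
import Cfsg.Agent.Fusion.UniqueInvolution

set_option autoImplicit false
open Cfsg

namespace Cfsg.Agent.S3380

variable {G : Type*} [Group G] [Finite G] {p : ℕ} [Fact p.Prime]

/-- A non-cyclic `p`-group that is not quaternion, dihedral or semidihedral has a non-cyclic
abelian normal subgroup. -/
theorem exists_normal_abelian (hG : IsPGroup p G) (hnc : ¬ IsCyclic G)
    (hnq : ∀ n : ℕ, ¬ Nonempty (G ≃* QuaternionGroup n))
    (hnd : ∀ n : ℕ, ¬ Nonempty (G ≃* DihedralGroup n)) (hnsd : ¬ Cfsg.IsQuasiDihedral G) :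
    ∃ A : Subgroup G, A.Normal ∧ IsMulCommutative A ∧ ¬ IsCyclic A := by
  by_contra hcon
  push Not at hcon
  by_cases hm : ∃ B : Subgroup G, IsMulCommutative B ∧ ¬ IsCyclic B
  · rcases (Cfsg.Agent.S0519.result p hG hcon hm).2 with ⟨n, h⟩ | ⟨n, -, h⟩ | h
    · exact hnq n h
    · exact hnd n h
    · exact hnsd h
  · push Not at hm
    have hp := (Fact.out : p.Prime)
    have huniq : ∀ K : Subgroup G, Nat.card K = p → ∀ z : G, orderOf z = p → z ∈ Subgroup.center G →
        K = Subgroup.zpowers z := by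
      intro K hK z hz hzc
      obtain ⟨u, hu⟩ : ∃ u : ↥K, orderOf u = p := exists_prime_orderOf_dvd_card' p (dvd_of_eq hK.symm)
      have hsz : K ≤ Subgroup.centralizer (Subgroup.zpowers z : Set G) := by
        intro k _
        rw [Subgroup.mem_centralizer_iff]
        intro y hy
        have hyc : y ∈ Subgroup.center G := Subgroup.zpowers_le.2 hzc hy
        exact (Subgroup.mem_center_iff.1 hyc k).symm
      haveI hKc : IsMulCommutative (Subgroup.closure ({(u : G), z} : Set G)) :=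
        Subgroup.isMulCommutative_closure (by
          rintro a (rfl | rfl) b (rfl | rfl)
          · rfl
          · exact Subgroup.mem_center_iff.1 hzc _
          · exact (Subgroup.mem_center_iff.1 hzc _).symm
          · rfl)
      haveI := hm _ hKc
      let M := Subgroup.closure ({(u : G), z} : Set G)
      have huM : (u : G) ∈ M := Subgroup.subset_closure (Or.inl rfl)
      have hzM : z ∈ M := Subgroup.subset_closure (Or.inr rfl)
      have hmem : (u : G) ∈ Subgroup.zpowers z :=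
        Cfsg.Agent.Fusion.mem_zpowers_of_orderOf_dvd (A := M) inferInstance huM hzM
          (by rw [Subgroup.orderOf_coe, hu, hz])
      have h2 : Subgroup.zpowers (u : G) = Subgroup.zpowers z :=
        Subgroup.eq_of_le_of_card_ge (Subgroup.zpowers_le.2 hmem)
          (by rw [Nat.card_zpowers, Nat.card_zpowers, Subgroup.orderOf_coe, hu, hz])
      rw [← h2]
      refine (Subgroup.eq_of_le_of_card_ge (Subgroup.zpowers_le.2 u.2) ?_).symm
      rw [hK, Nat.card_zpowers, Subgroup.orderOf_coe, hu]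
    haveI : Nontrivial G := by
      rcases subsingleton_or_nontrivial G with h | h
      · exact absurd (isCyclic_of_subsingleton (α := G)) hnc
      · exact h
    haveI : Nontrivial (Subgroup.center G) := hG.center_nontrivial
    obtain ⟨z, hz⟩ : ∃ z : ↥(Subgroup.center G), orderOf z = p := by
      obtain ⟨k, hk⟩ := IsPGroup.iff_card.1 (hG.to_subgroup (Subgroup.center G))
      refine exists_prime_orderOf_dvd_card' p (hk ▸ dvd_pow_self p ?_)
      rintro rfl
      rw [pow_zero] at hk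
      exact (Finite.one_lt_card (α := Subgroup.center G)).ne' hk
    have hz' : orderOf (z : G) = p := by rw [Subgroup.orderOf_coe]; exact hz
    rcases Cfsg.Agent.Fusion.cyclic_or_quaternion_of_unique hG
      (fun H K hH hK => by rw [huniq H hH z hz' z.2, huniq K hK z hz' z.2]) with h | ⟨-, k, -, h⟩
    · exact hnc h
    · exact hnq _ h

/-- A normal subgroup not inside `Z` has an element outside `Z` whose commutators with everything
lie in `Z`. -/
theorem exists_step [Group.IsNilpotent G] {S Z : Subgroup G} (hS : S.Normal) (h : ¬ S ≤ Z) :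
    ∃ e ∈ S, e ∉ Z ∧ ∀ g : G, g * e * g⁻¹ * e⁻¹ ∈ Z := by
  classical
  let Γ := fun n => S ⊓ (⊤ : Subgroup G).lowerCentralSeries n
  have hex : ∃ n, Γ n ≤ Z := ⟨Group.nilpotencyClass G, by
    simp only [Γ, Subgroup.lowerCentralSeries_nilpotencyClass, inf_bot_eq, bot_le]⟩
  have h0 : Nat.find hex ≠ 0 := by
    intro h0
    have := Nat.find_spec hex
    rw [h0] at this
    exact h (by simpa [Γ] using this)
  obtain ⟨m, hm⟩ := Nat.exists_eq_succ_of_ne_zero h0
  have hnot : ¬ Γ m ≤ Z := Nat.find_min hex (by omega)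
  obtain ⟨e, he, heZ⟩ := SetLike.not_le_iff_exists.1 hnot
  refine ⟨e, he.1, heZ, fun g => ?_⟩
  have hspec := Nat.find_spec hex
  rw [hm] at hspec
  refine hspec ⟨S.mul_mem (hS.conj_mem e he.1 g) (S.inv_mem he.1), ?_⟩
  rw [Subgroup.lowerCentralSeries_succ, Subgroup.commutator_comm]
  exact Subgroup.commutator_mem_commutator (Subgroup.mem_top g) he.2

/-- The Clifford decomposition along a normal elementary abelian subgroup `⟨z, e⟩`. -/
theorem decompose (q : ℕ) [Fact q.Prime] {V : Type*} [AddCommGroup V] [Module (ZMod q) V] [Finite V]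
    (ρ : G →* (V ≃ₗ[ZMod q] V)) (hρ : Function.Injective ρ)
    (hirr : ∀ W : Submodule (ZMod q) V, (∀ g : G, ∀ w ∈ W, ρ g w ∈ W) → W = ⊥ ∨ W = ⊤)
    (z e : G) (hz : orderOf z = p) (hzc : z ∈ Subgroup.center G) (hep : e ^ p = 1)
    (hez : e ∉ Subgroup.zpowers z) (hcomm : ∀ g : G, g * e * g⁻¹ * e⁻¹ ∈ Subgroup.zpowers z) :
    ∃ (H : Subgroup G) (W : Fin p → Submodule (ZMod q) V), H.index = p ∧
      iSup W = ⊤ ∧ iSupIndep W ∧
      (∀ h ∈ H, ∀ i, ∀ w ∈ W i, ρ h w ∈ W i) ∧
      (∀ i, ∃ h ∈ H, h ≠ 1 ∧ ∀ w ∈ W i, ρ h w = w) ∧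
      ∀ g : G, g ∉ H → ∃ σ : Equiv.Perm (Fin p), orderOf σ = p ∧ ∀ i, (W i).map (ρ g : V →ₗ[ZMod q] V) = W (σ i) := by
  classical
  have hp := (Fact.out : p.Prime)
  haveI : NeZero p := ⟨hp.ne_zero⟩
  have hzg : ∀ g : G, g * z = z * g := fun g => Subgroup.mem_center_iff.1 hzc g
  have hzp : z ^ p = 1 := hz ▸ pow_orderOf_eq_one z
  have hzmod : ∀ n : ℕ, z ^ (n % p) = z ^ n := fun n => by
    have h : ∀ m, orderOf z = m → z ^ (n % m) = z ^ n := fun m hm => hm ▸ pow_mod_orderOf z n
    exact h p hz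
  have hact : ∀ (a b : G) (v : V), ρ (a * b) v = ρ a (ρ b v) := fun a b v => by rw [map_mul]; rfl
  have hone : ∀ v : V, ρ 1 v = v := fun v => by rw [map_one]; rfl
  -- no nontrivial power of `z` fixes a nonzero vector
  have hfix : ∀ y ∈ Subgroup.center G, y ≠ 1 → ∀ v : V, ρ y v = v → v = 0 := by
    intro y hy hy1 v hv
    let W : Submodule (ZMod q) V := LinearMap.eqLocus (ρ y : V →ₗ[ZMod q] V) LinearMap.id
    have hW : ∀ w, w ∈ W ↔ ρ y w = w := fun w => Iff.rfl
    rcases hirr W (fun g w hw => by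
      rw [hW] at hw ⊢
      rw [← hact, ← Subgroup.mem_center_iff.1 hy g, hact, hw]) with h | h
    · exact (Submodule.mem_bot (R := ZMod q)).1 (h ▸ (hW v).2 hv)
    · refine absurd (hρ ?_) hy1
      rw [map_one]
      exact LinearEquiv.ext fun w => (hW w).1 (h ▸ Submodule.mem_top)
  have hzpow : ∀ j : ℕ, ¬ p ∣ j → ∀ v : V, ρ (z ^ j) v = v → v = 0 := fun j hj =>
    hfix _ (Subgroup.pow_mem _ hzc j) (fun h => hj (hz ▸ orderOf_dvd_of_pow_eq_one h))
  have hpq : (p : ZMod q) ≠ 0 := by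
    intro h0
    rw [ZMod.natCast_eq_zero_iff] at h0 <;> skip
    have hqp : q = p := (Nat.prime_dvd_prime_iff_eq (Fact.out : q.Prime) hp).1 h0
    let φ : Multiplicative (ZMod p) →* (V ≃ₗ[ZMod q] V) :=
      ρ.comp (AddMonoidHom.toMultiplicativeLeft
        (ZMod.lift p ⟨(zmultiplesHom (Additive G)) (Additive.ofMul z), by
          rw [zmultiplesHom_apply, natCast_zsmul, ← ofMul_pow, ← hz, pow_orderOf_eq_one]; rfl⟩))
    have hφ : φ (Multiplicative.ofAdd 1) = ρ z := by
      change ρ (Additive.toMul (ZMod.lift p _ 1)) = ρ z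
      rw [show (1 : ZMod p) = ((1 : ℤ) : ZMod p) by simp, ZMod.lift_coe]
      simp
    letI : MulAction (Multiplicative (ZMod p)) V := MulAction.compHom V φ
    have hP : IsPGroup p (Multiplicative (ZMod p)) := IsPGroup.of_card (n := 1) (by simp)
    have hfp : ∀ v : V, v ∈ MulAction.fixedPoints (Multiplicative (ZMod p)) V → v = 0 := by
      intro v hv
      have := hv (Multiplicative.ofAdd 1)
      rw [show (Multiplicative.ofAdd (1 : ZMod p)) • v = φ (Multiplicative.ofAdd 1) v from rfl, hφ] at this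
      exact hfix z hzc (fun h => hp.ne_one (by rw [← hz, h, orderOf_one])) v this
    have h0mem : (0 : V) ∈ MulAction.fixedPoints (Multiplicative (ZMod p)) V := fun m => map_zero (φ m)
    have hdvd : p ∣ Nat.card V := by
      obtain ⟨v, hv⟩ : ∃ v : V, v ≠ 0 := by
        by_contra hall
        push Not at hall
        exact hp.ne_one (by rw [← hz, hρ (show ρ z = ρ 1 from LinearEquiv.ext fun w => by rw [hall w, map_zero, map_zero]), orderOf_one])
      have := addOrderOf_dvd_natCard v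
      rwa [addOrderOf_eq_prime (p := q) (ZModModule.char_nsmul_eq_zero q v) hv, hqp] at this
    obtain ⟨b, hb, hb0⟩ := hP.exists_fixed_point_of_prime_dvd_card_of_fixed_point V hdvd h0mem
    exact hb0 (hfp b hb).symm
  let u : Fin p → G := fun i => e * z ^ (i : ℕ)
  have hu_comm : ∀ i : Fin p, Commute e (z ^ (i : ℕ)) := fun i => Commute.pow_right (hzg e) _
  have hup : ∀ i, u i ^ p = 1 := fun i => by
    rw [(hu_comm i).mul_pow, hep, ← pow_mul, mul_comm, pow_mul, hzp, one_pow, one_mul]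
  let W : Fin p → Submodule (ZMod q) V := fun i =>
    LinearMap.eqLocus (ρ (u i) : V →ₗ[ZMod q] V) LinearMap.id
  have hW : ∀ i w, w ∈ W i ↔ ρ (u i) w = w := fun i w => Iff.rfl
  let P : Fin p → (V →ₗ[ZMod q] V) := fun i =>
    ∑ j ∈ Finset.range p, (ρ (u i ^ j) : V →ₗ[ZMod q] V)
  have hP : ∀ i v, P i v = ∑ j ∈ Finset.range p, ρ (u i ^ j) v := fun i v => by
    simp [P, LinearMap.sum_apply]
  have hPmem : ∀ i v, P i v ∈ W i := by
    intro i v
    rw [hW, hP, map_sum]
    obtain ⟨n, hn⟩ : ∃ n, p = n + 1 := Nat.exists_eq_succ_of_ne_zero hp.ne_zero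
    rw [hn, Finset.sum_range_succ' (fun j => ρ (u i ^ j) v),
      Finset.sum_range_succ (fun j => ρ (u i) (ρ (u i ^ j) v))]
    refine congrArg₂ (· + ·) (Finset.sum_congr rfl fun j _ => ?_) ?_
    · rw [← hact, ← pow_succ']
    · rw [← hact, ← pow_succ', ← hn, hup, pow_zero]
  -- a power of `z` with exponent prime to `p` sums to zero over a period
  have hsum0 : ∀ (m : ℕ) (v : V), ¬ p ∣ m → (∑ i ∈ Finset.range p, ρ ((z ^ m) ^ i) v) = 0 := by
    intro m v hm
    refine hzpow m hm _ ?_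
    rw [map_sum]
    obtain ⟨n, hn⟩ : ∃ n, p = n + 1 := Nat.exists_eq_succ_of_ne_zero hp.ne_zero
    rw [hn, Finset.sum_range_succ' (fun j => ρ ((z ^ m) ^ j) v),
      Finset.sum_range_succ (fun j => ρ (z ^ m) (ρ ((z ^ m) ^ j) v))]
    refine congrArg₂ (· + ·) (Finset.sum_congr rfl fun j _ => ?_) ?_
    · rw [← hact, ← pow_succ']
    · rw [← hact, ← pow_succ', ← hn, ← pow_mul, mul_comm, pow_mul, hzp, one_pow,
        pow_zero]
  have hupow : ∀ (i : Fin p) (j : ℕ), u i ^ j = e ^ j * (z ^ j) ^ (i : ℕ) := fun i j => by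
    rw [(hu_comm i).mul_pow, ← pow_mul, ← pow_mul, mul_comm j]
  have hsum : ∀ v : V, ∑ i, P i v = (p : ZMod q) • v := by
    intro v
    simp_rw [hP, hupow, hact]
    rw [Finset.sum_comm, Finset.sum_eq_single_of_mem 0 (Finset.mem_range.2 hp.pos)]
    · simp [hone, Nat.cast_smul_eq_nsmul]
    · intro j hj hj0
      rw [← map_sum, Fin.sum_univ_eq_sum_range (fun i => ρ ((z ^ j) ^ i) v),
        hsum0 j v (fun h => hj0 (Nat.eq_zero_of_dvd_of_lt h (Finset.mem_range.1 hj))), map_zero]
  have hPfix : ∀ i, ∀ w ∈ W i, P i w = (p : ZMod q) • w := by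
    intro i w hw
    have hpow : ∀ j : ℕ, ρ (u i ^ j) w = w := by
      intro j
      induction j with
      | zero => rw [pow_zero, hone]
      | succ j ih => rw [pow_succ, hact, (hW i w).1 hw, ih]
    rw [hP, Finset.sum_congr rfl fun j _ => hpow j, Finset.sum_const, Finset.card_range,
      Nat.cast_smul_eq_nsmul]
  have hPzero : ∀ i k, k ≠ i → ∀ w ∈ W k, P i w = 0 := by
    intro i k hki w hw
    have hpow : ∀ j : ℕ, ρ (u k ^ j) w = w := by
      intro j
      induction j with
      | zero => rw [pow_zero, hone]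
      | succ j ih => rw [pow_succ, hact, (hW k w).1 hw, ih]
    have hlt := k.isLt
    have heq : u i = z ^ ((i : ℕ) + (p - (k : ℕ))) * u k := by
      change e * z ^ (i : ℕ) = z ^ ((i : ℕ) + (p - (k : ℕ))) * (e * z ^ (k : ℕ))
      rw [(hu_comm k).eq, ← mul_assoc, ← pow_add, show (i : ℕ) + (p - (k : ℕ)) + (k : ℕ) = (i : ℕ) + p by omega,
        pow_add, hzp, mul_one, (Commute.pow_right (hzg e) _).eq]
    have hcz : Commute (z ^ ((i : ℕ) + (p - (k : ℕ)))) (u k) :=
      (Commute.pow_right (hzg (u k)) _).symm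
    rw [hP, ← hsum0 ((i : ℕ) + (p - (k : ℕ))) w]
    · refine Finset.sum_congr rfl fun j _ => ?_
      rw [heq, hcz.mul_pow, hact, hpow]
    · intro hd
      apply hki
      obtain ⟨c, hc⟩ := hd
      have : c = 1 := by
        have := i.isLt
        rcases Nat.lt_or_ge c 2 with h | h
        · interval_cases c <;> omega
        · exfalso
          have : p * 2 ≤ p * c := Nat.mul_le_mul_left p h
          omega
      subst this
      exact Fin.ext (by omega)
  have hscale : ∀ (w : V), (p : ZMod q) • w = 0 → w = 0 := fun w hw => by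
    rcases smul_eq_zero.1 hw with h | h
    · exact absurd h hpq
    · exact h
  have hsup : iSup W = ⊤ := by
    rw [eq_top_iff]
    intro v _
    have : v = ((p : ZMod q))⁻¹ • ∑ i, P i v := by rw [hsum, smul_smul, inv_mul_cancel₀ hpq, one_smul]
    rw [this]
    exact Submodule.smul_mem _ _ (Submodule.sum_mem _ fun i _ => Submodule.mem_iSup_of_mem i (hPmem i v))
  have hind : iSupIndep W := by
    intro i
    rw [Submodule.disjoint_def]
    intro w hw hw'
    refine hscale w ?_
    rw [← hPfix i w hw]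
    exact LinearMap.mem_ker.1 ((iSup₂_le fun k hk => fun x hx => LinearMap.mem_ker.2 (hPzero i k hk x hx) :
      (⨆ (k) (_ : k ≠ i), W k) ≤ LinearMap.ker (P i)) hw')
  -- the commutator homomorphism
  let φ : G →* ↥(Subgroup.zpowers z) :=
    { toFun := fun g => ⟨g * e * g⁻¹ * e⁻¹, hcomm g⟩
      map_one' := by ext; simp
      map_mul' := fun g h => by
        ext
        have hc : g * (h * e * h⁻¹ * e⁻¹) * g⁻¹ = h * e * h⁻¹ * e⁻¹ := by
          rw [Subgroup.mem_center_iff.1 (Subgroup.zpowers_le.2 hzc (hcomm h)) g, mul_inv_cancel_right]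
        have hc2 := Subgroup.mem_center_iff.1 (Subgroup.zpowers_le.2 hzc (hcomm h)) (g * e * g⁻¹ * e⁻¹)
        change g * h * e * (g * h)⁻¹ * e⁻¹ = g * e * g⁻¹ * e⁻¹ * (h * e * h⁻¹ * e⁻¹)
        rw [hc2]
        calc g * h * e * (g * h)⁻¹ * e⁻¹ = g * (h * e * h⁻¹ * e⁻¹) * g⁻¹ * (g * e * g⁻¹ * e⁻¹) := by group
          _ = _ := by rw [hc] }
  have hker : ∀ g, g ∈ φ.ker ↔ g * e * g⁻¹ * e⁻¹ = 1 := fun g => by
    rw [MonoidHom.mem_ker]
    exact ⟨fun h => congrArg Subtype.val h, fun h => Subtype.ext h⟩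
  have hne : φ.range ≠ ⊥ := by
    intro hbot
    have hec : e ∈ Subgroup.center G := Subgroup.mem_center_iff.2 fun g => by
      have := (hker g).1 (by
        rw [MonoidHom.mem_ker]
        exact Subgroup.mem_bot.1 (hbot ▸ ⟨g, rfl⟩))
      rw [mul_inv_eq_one, mul_inv_eq_iff_eq_mul] at this
      exact this
    -- then some `W i` is a nonzero invariant subspace, fixed by a nontrivial central element
    have hu1 : ∀ i, u i ≠ 1 := fun i h => hez (by
      rw [eq_inv_of_mul_eq_one_left h]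
      exact Subgroup.inv_mem _ (Subgroup.pow_mem _ (Subgroup.mem_zpowers z) _))
    have hall : ∀ i, W i = ⊥ := fun i => by
      rw [Submodule.eq_bot_iff]
      exact fun w hw => hfix _ (Subgroup.mul_mem _ hec (Subgroup.pow_mem _ hzc _)) (hu1 i) w ((hW i w).1 hw)
    have hz1 : z ≠ 1 := fun h => hp.ne_one (by rw [← hz, h, orderOf_one])
    refine hz1 (hρ (LinearEquiv.ext fun v => ?_))
    have hv : v = 0 := by
      have : v ∈ iSup W := hsup ▸ Submodule.mem_top
      rw [iSup_eq_bot.2 hall] at this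
      exact (Submodule.mem_bot _).1 this
    rw [hv, map_zero, map_zero]
  have hindex : φ.ker.index = p := by
    rw [Subgroup.index_ker]
    have hd : Nat.card φ.range ∣ p := by
      rw [← hz, ← Nat.card_zpowers]; exact Subgroup.card_subgroup_dvd_card _
    rcases (Nat.dvd_prime hp).1 hd with h | h
    · exact absurd (Subgroup.eq_bot_of_card_eq _ h) hne
    · exact h
  have hconj : ∀ g : G, ∃ a : Fin p, g * e * g⁻¹ = e * z ^ (a : ℕ) ∧ (g ∉ φ.ker → a ≠ 0) := by
    intro g
    obtain ⟨a, ha, haeq⟩ : ∃ a < p, z ^ a = g * e * g⁻¹ * e⁻¹ := by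
      have h := mem_zpowers_iff_mem_range_orderOf.1 (hcomm g)
      rw [hz, Finset.mem_image] at h
      obtain ⟨a, ha, h⟩ := h
      exact ⟨a, Finset.mem_range.1 ha, h⟩
    refine ⟨⟨a, ha⟩, ?_, fun hg ha0 => hg ((hker g).2 ?_)⟩
    · change g * e * g⁻¹ = e * z ^ a
      rw [(Commute.pow_right (hzg e) a).eq, haeq, inv_mul_cancel_right]
    · rw [← haeq, show a = 0 from congrArg Fin.val ha0, pow_zero]
  have hperm : ∀ (g : G) (a : Fin p), g * e * g⁻¹ = e * z ^ (a : ℕ) →
      ∀ i, (W i).map (ρ g : V →ₗ[ZMod q] V) = W (i + a) := by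
    intro g a ha i
    have hg : g * u i = u (i + a) * g := by
      change g * (e * z ^ (i : ℕ)) = e * z ^ ((i + a : Fin p) : ℕ) * g
      rw [Fin.val_add, hzmod]
      rw [← mul_assoc, show g * e = e * z ^ (a : ℕ) * g from by rw [← ha, inv_mul_cancel_right],
        mul_assoc (e * z ^ (a : ℕ)), (Commute.pow_right (hzg g) _).eq, ← mul_assoc, mul_assoc e,
        ← pow_add, add_comm]
    ext w
    rw [Submodule.mem_map]
    constructor
    · rintro ⟨x, hx, rfl⟩
      rw [hW] at hx ⊢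
      change ρ (u (i + a)) (ρ g x) = ρ g x
      rw [← hact, ← hg, hact, hx]
    · intro hw
      refine ⟨ρ g⁻¹ w, (hW _ _).2 ?_, ?_⟩
      · rw [← hact, show u i * g⁻¹ = g⁻¹ * u (i + a) from by
          rw [eq_inv_mul_iff_mul_eq, ← mul_assoc, hg, mul_inv_cancel_right], hact, (hW _ _).1 hw]
      · change ρ g (ρ g⁻¹ w) = w
        rw [← hact, mul_inv_cancel, hone]
  refine ⟨φ.ker, W, hindex, hsup, hind, ?_, ?_, ?_⟩
  · intro h hh i w hw
    have h1 : h * e * h⁻¹ = e * z ^ ((0 : Fin p) : ℕ) := by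
      rw [Fin.val_zero, pow_zero, mul_one]
      exact mul_inv_eq_one.1 ((hker h).1 hh)
    have := hperm h 0 h1 i
    rw [add_zero] at this
    rw [← this]
    exact Submodule.mem_map_of_mem hw
  · intro i
    refine ⟨u i, (hker _).2 ?_, fun h => hez ?_, fun w hw => (hW i w).1 hw⟩
    · rw [mul_inv_eq_one, mul_inv_eq_iff_eq_mul, show u i = e * z ^ (i : ℕ) from rfl, mul_assoc,
        ← (hu_comm i).eq]
    · rw [eq_inv_of_mul_eq_one_left h]
      exact Subgroup.inv_mem _ (Subgroup.pow_mem _ (Subgroup.mem_zpowers z) _)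
  · intro g hg
    obtain ⟨a, ha, ha0⟩ := hconj g
    refine ⟨Equiv.addRight a, ?_, fun i => hperm g a ha i⟩
    have hpow : ∀ (k : ℕ) (i : Fin p), ((Equiv.addRight a) ^ k) i = i + k • a := by
      intro k
      induction k with
      | zero => intro i; simp
      | succ k ih => intro i; rw [pow_succ', Equiv.Perm.mul_apply, ih, succ_nsmul, ← add_assoc]; rfl
    refine orderOf_eq_prime (Equiv.ext fun i => ?_) fun h => ha0 hg ?_
    · rw [hpow]
      have : p • a = 0 := by
        have h := card_nsmul_eq_zero (x := a)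
        rwa [Fintype.card_fin] at h
      rw [this, add_zero]; rfl
    · have h2 := congrArg (fun σ : Equiv.Perm (Fin p) => σ 0) h
      simpa using h2

/-- Let a finite p-group G act faithfully and irreducibly on a non-trivial finite vector space V over the field with q elements (q prime), and suppose G is not cyclic, generalized quaternion, dihedral or semidihedral. Then G has a subgroup H of index p and V is the direct sum of p subspaces, each invariant under H, on none of which H acts faithfully, and which every element of G outside H permutes in a single p-cycle. -/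
theorem result
    (q : ℕ) [Fact q.Prime] {V : Type*} [AddCommGroup V] [Module (ZMod q) V] [Finite V] [Nontrivial V]
    {G : Type*} [Group G] [Finite G] (p : ℕ) [Fact p.Prime] (hG : IsPGroup p G)
    (ρ : G →* (V ≃ₗ[ZMod q] V)) (hρ : Function.Injective ρ)
    (hirr : ∀ W : Submodule (ZMod q) V, (∀ g : G, ∀ w ∈ W, ρ g w ∈ W) → W = ⊥ ∨ W = ⊤)
    (hnc : ¬ IsCyclic G) (hnq : ∀ n : ℕ, ¬ Nonempty (G ≃* QuaternionGroup n))
    (hnd : ∀ n : ℕ, ¬ Nonempty (G ≃* DihedralGroup n)) (hnsd : ¬ Cfsg.IsQuasiDihedral G) :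
    ∃ (H : Subgroup G) (W : Fin p → Submodule (ZMod q) V), H.index = p ∧
      iSup W = ⊤ ∧ iSupIndep W ∧
      (∀ h ∈ H, ∀ i, ∀ w ∈ W i, ρ h w ∈ W i) ∧
      (∀ i, ∃ h ∈ H, h ≠ 1 ∧ ∀ w ∈ W i, ρ h w = w) ∧
      ∀ g : G, g ∉ H → ∃ σ : Equiv.Perm (Fin p), orderOf σ = p ∧ ∀ i, (W i).map (ρ g : V →ₗ[ZMod q] V) = W (σ i) := by
  classical
  have hp := (Fact.out : p.Prime)
  haveI := hG.isNilpotent
  obtain ⟨A, hAn, hAc, hAnc⟩ := exists_normal_abelian hG hnc hnq hnd hnsd
  have hA : ∀ x ∈ A, ∀ y ∈ A, x * y = y * x := fun x hx y hy =>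
    congrArg Subtype.val (hAc.is_comm.comm (⟨x, hx⟩ : ↥A) ⟨y, hy⟩)
  let S : Subgroup G :=
    { carrier := {x | x ∈ A ∧ x ^ p = 1}
      one_mem' := ⟨A.one_mem, one_pow p⟩
      mul_mem' := fun {x y} hx hy => ⟨A.mul_mem hx.1 hy.1, by
        rw [(show Commute x y from hA x hx.1 y hy.1).mul_pow, hx.2, hy.2, one_mul]⟩
      inv_mem' := fun {x} hx => ⟨A.inv_mem hx.1, by rw [inv_pow, hx.2, inv_one]⟩ }
  have hSn : S.Normal := ⟨fun x hx g => ⟨hAn.conj_mem x hx.1 g, by rw [conj_pow, hx.2, mul_one, mul_inv_cancel]⟩⟩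
  obtain ⟨x, hxA, hx⟩ : ∃ x ∈ S, x ≠ 1 := by
    by_contra hcon
    push Not at hcon
    refine hAnc (Cfsg.Agent.Fusion.isCyclic_of_unique (p := p) (hG.to_subgroup A) hAc fun u hu v hv hvo hup => ?_)
    rw [hcon u ⟨hu, hup⟩]; exact Subgroup.one_mem _
  obtain ⟨z, hzS, hz1, hzcomm⟩ := exists_step (Z := ⊥) hSn (fun h => hx (Subgroup.mem_bot.1 (h hxA)))
  have hz1' : z ≠ 1 := fun h => hz1 (h ▸ Subgroup.one_mem _)
  have hzo : orderOf z = p := orderOf_eq_prime hzS.2 hz1'
  have hzc : z ∈ Subgroup.center G := Subgroup.mem_center_iff.2 fun g => by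
    have := Subgroup.mem_bot.1 (hzcomm g)
    rw [mul_inv_eq_one, mul_inv_eq_iff_eq_mul] at this
    exact this
  have hnot : ¬ S ≤ Subgroup.zpowers z := by
    intro hle
    refine hAnc (Cfsg.Agent.Fusion.isCyclic_of_unique (p := p) (hG.to_subgroup A) hAc fun u hu v hv hvo hup => ?_)
    have hvz : Subgroup.zpowers v = Subgroup.zpowers z := by
      refine Subgroup.eq_of_le_of_card_ge (Subgroup.zpowers_le.2 (hle ⟨hv, hvo ▸ pow_orderOf_eq_one v⟩)) ?_
      rw [Nat.card_zpowers, Nat.card_zpowers, hvo, hzo]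
    rw [hvz]
    exact hle ⟨hu, hup⟩
  obtain ⟨e, heS, hez, hecomm⟩ := exists_step hSn hnot
  exact decompose q ρ hρ hirr z e hzo hzc heS.2 hez hecomm

end Cfsg.Agent.S3380
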