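import Cfsg.Statements.S2538
import Mathlib
import Cfsg.Agent.AltHall.Main

set_option autoImplicit false
open Cfsg

namespace Cfsg.Agent.S2538

theorem key {G : Type*} [Group G] [Finite G] (P A : Subgroup G) [A.Normal] :
    P.relIndex A ∣ P.index ∧ (A.relIndex P = A.index → P.index = P.relIndex A) := by
  have e1 := Subgroup.relIndex_mul_index (inf_le_right : P ⊓ A ≤ A)
  have e2 := Subgroup.relIndex_mul_index (inf_le_left : P ⊓ A ≤ P)
  rw [Subgroup.inf_relIndex_right] at e1
  rw [Subgroup.inf_relIndex_left, ← e1] at e2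
  have hr : A.relIndex P ≠ 0 := Subgroup.index_ne_zero_of_finite
  refine ⟨?_, fun h => ?_⟩
  · obtain ⟨t, ht⟩ := A.relIndex_dvd_index_of_normal P
    refine ⟨t, mul_left_cancel₀ hr ?_⟩
    rw [e2, ht]
    ring
  · rw [← h] at e2
    exact mul_left_cancel₀ hr (by rw [e2, mul_comm])


/-- For every `n` and every set of primes `π`, a subgroup of the alternating group of degree `n` is a Hall `π`-subgroup of it if and only if it is the intersection with the alternating group of some Hall `π`-subgroup of the symmetric group of degree `n`. -/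
theorem result (n : ℕ) (π : Set ℕ)
    (M : Subgroup ↥(alternatingGroup (Fin n))) :
    Cfsg.IsPiHall π M ↔ ∃ M₀ : Subgroup (Equiv.Perm (Fin n)), Cfsg.IsPiHall π M₀ ∧ M = M₀.subgroupOf (alternatingGroup (Fin n)) := by
  classical
  constructor
  swap
  · rintro ⟨M₀, ⟨h1, h2⟩, rfl⟩
    exact ⟨fun p hp hd => h1 p hp (hd.trans (Subgroup.card_comap_dvd_of_injective M₀ _ (Subgroup.subtype_injective (alternatingGroup (Fin n))))),
      fun p hp hπ hd => h2 p hp hπ (hd.trans (key M₀ (alternatingGroup (Fin n))).1)⟩
  rintro ⟨h1, h2⟩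
  have hcard : Nat.card (M.map (alternatingGroup (Fin n)).subtype) = Nat.card M :=
    Subgroup.card_map_of_injective (Subgroup.subtype_injective (alternatingGroup (Fin n)))
  have hback : (M.map (alternatingGroup (Fin n)).subtype).subgroupOf (alternatingGroup (Fin n)) = M :=
    Subgroup.comap_map_eq_self_of_injective (Subgroup.subtype_injective (alternatingGroup (Fin n))) M
  by_cases htwo : 2 ∈ π
  swap
  · refine ⟨M.map (alternatingGroup (Fin n)).subtype, ⟨fun p hp hd => h1 p hp (hcard ▸ hd), fun p hp hπ hd => ?_⟩, hback.symm⟩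
    rw [Subgroup.index_map, (alternatingGroup (Fin n)).ker_subtype, sup_bot_eq, (alternatingGroup (Fin n)).range_subtype, hp.dvd_mul] at hd
    rcases hd with hd | hd
    · exact h2 p hp hπ hd
    · rcases subsingleton_or_nontrivial (Fin n) with hs | hs
      · have : Subsingleton (Equiv.Perm (Fin n)) := inferInstance
        have h0 : (alternatingGroup (Fin n)) = ⊤ := Subsingleton.elim _ _
        rw [h0, Subgroup.index_top] at hd
        exact hp.one_lt.ne' (Nat.eq_one_of_dvd_one hd)
      · rw [alternatingGroup.index_eq_two] at hd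
        exact htwo ((Nat.prime_dvd_prime_iff_eq hp Nat.prime_two).1 hd ▸ hπ)
  rcases subsingleton_or_nontrivial (Fin n) with hs | hs
  · refine ⟨⊤, ⟨fun p hp hd => ?_, fun p hp hπ hd => ?_⟩, Subsingleton.elim _ _⟩
    · rw [Subgroup.card_top, Nat.card_of_subsingleton (1 : Equiv.Perm (Fin n))] at hd
      exact (hp.one_lt.ne' (Nat.eq_one_of_dvd_one hd)).elim
    · rw [Subgroup.index_top] at hd
      exact hp.one_lt.ne' (Nat.eq_one_of_dvd_one hd)
  have hn : 2 ≤ n := by
    have := Fintype.one_lt_card (α := Fin n)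
    rw [Fintype.card_fin] at this
    omega
  have hH : AltHall.HallAlt π (M.map (alternatingGroup (Fin n)).subtype) := by
    refine ⟨Subgroup.map_subtype_le M, fun p hp hd => h1 p hp (hcard ▸ hd), fun p hp hπ hd => h2 p hp hπ ?_⟩
    have e : (M.map (alternatingGroup (Fin n)).subtype).relIndex (alternatingGroup (Fin n)) = M.index := congrArg Subgroup.index hback
    exact e ▸ hd
  obtain ⟨P, hMP, hP, x, hx, hsx⟩ := AltHall.ext_of_hallAlt n (Fintype.card_fin n) hn hH htwo
  have hle : M ≤ P.subgroupOf (alternatingGroup (Fin n)) := fun m hm => hMP ⟨m, hm, rfl⟩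
  have heq : M = P.subgroupOf (alternatingGroup (Fin n)) := by
    refine le_antisymm hle (Subgroup.relIndex_eq_one.1 (Nat.eq_one_iff_not_exists_prime_dvd.2 fun p hp hd => ?_))
    have hπ : p ∈ π := hP p hp ((hd.trans (Subgroup.relIndex_dvd_card _ _)).trans
      (Subgroup.card_comap_dvd_of_injective P _ (Subgroup.subtype_injective (alternatingGroup (Fin n)))))
    exact h2 p hp hπ (hd.trans ⟨_, (Subgroup.relIndex_mul_index hle).symm⟩)
  have hr : (alternatingGroup (Fin n)).relIndex P = (alternatingGroup (Fin n)).index := by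
    have hd := (alternatingGroup (Fin n)).relIndex_dvd_index_of_normal P
    rw [alternatingGroup.index_eq_two] at hd ⊢
    rcases (Nat.dvd_prime Nat.prime_two).1 hd with e | e
    · have hxA : Equiv.Perm.sign x = 1 := Subgroup.relIndex_eq_one.1 e hx
      rw [hsx] at hxA
      exact absurd hxA (by decide)
    · exact e
  refine ⟨P, ⟨hP, fun p hp hπ hd => h2 p hp hπ ?_⟩, heq⟩
  rw [(key P (alternatingGroup (Fin n))).2 hr] at hd
  rw [heq]
  exact hd

end Cfsg.Agent.S2538
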