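import Cfsg.Statements.S1682
import Cfsg.Agent.CosetCert.Sp44.InHe

set_option autoImplicit false
open Cfsg

namespace Cfsg.Agent.S1682

/-- In the presented Held group, the subgroup H generated by the images of a, c, d, e, f, (ab)^2 and (bcde)^7 has a normal subgroup of index 2 isomorphic to the 4-dimensional symplectic group over a field with four elements. -/
theorem result : ∃ (N : Subgroup (((Subgroup.closure ({Cfsg.Spor.He.a, Cfsg.Spor.He.c, Cfsg.Spor.He.d, Cfsg.Spor.He.e, Cfsg.Spor.He.f, (Cfsg.Spor.He.a * Cfsg.Spor.He.b) ^ 2, (Cfsg.Spor.He.b * Cfsg.Spor.He.c * Cfsg.Spor.He.d * Cfsg.Spor.He.e) ^ 7} : Set (FreeGroup Cfsg.Spor.He.Gen))).map (PresentedGroup.mk (Cfsg.Spor.coxRelators Cfsg.Spor.He.edges ∪ {r | r ∈ Cfsg.Spor.He.extra}))))) (K : Type) (_ : Field K) (_ : Fintype K), N.Normal ∧ N.index = 2 ∧ Fintype.card K = 4 ∧ Nonempty (N ≃* Matrix.symplecticGroup (Fin 2) K) := by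
  have hset : ({Cfsg.Spor.He.a, Cfsg.Spor.He.c, Cfsg.Spor.He.d, Cfsg.Spor.He.e, Cfsg.Spor.He.f,
      (Cfsg.Spor.He.a * Cfsg.Spor.He.b) ^ 2,
      (Cfsg.Spor.He.b * Cfsg.Spor.He.c * Cfsg.Spor.He.d * Cfsg.Spor.He.e) ^ 7} :
        Set (FreeGroup Cfsg.Spor.He.Gen)) = {g | g ∈ CosetCert.HeSp44.subGens} := by
    ext x; simp [CosetCert.HeSp44.subGens]
  obtain ⟨ψ, hinj, hle⟩ := CosetCert.Sp44.exists_embed
  obtain ⟨e⟩ := CosetCert.Sp44.exists_iso
  rw [hset]
  let ψ' : CosetCert.Sp44.P →* CosetCert.Sp44.heSub := ψ.codRestrict _ fun g => hle ⟨g, rfl⟩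
  have hinj' : Function.Injective ψ' := fun a b h => hinj (congrArg Subtype.val h)
  have hidx := CosetCert.Sp44.index_range ψ' hinj' CosetCert.Sp44.card_heSub
  exact ⟨ψ'.range, ThreeTrans.SU32.F4, inferInstance, inferInstance,
    Subgroup.normal_of_index_eq_two hidx, hidx, ThreeTrans.SU32.F4.card_eq,
    ⟨(MonoidHom.ofInjective hinj').symm.trans e⟩⟩

end Cfsg.Agent.S1682
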