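import Mathlib
import Cfsg.Statements.S4231
import Cfsg.Agent.S0254
import Cfsg.Agent.S0813
import Cfsg.Agent.S2119
import Cfsg.Agent.Classical.Dickson2.Tools

set_option autoImplicit false
open Cfsg

namespace Cfsg.Agent.S4231
open scoped commutatorElement

theorem card_aut_dvd (n : ℕ) (hn : 5 ≤ n) :
    Nat.card (MulAut (alternatingGroup (Fin n))) ∣ 4 * Nat.card (alternatingGroup (Fin n)) := by
  haveI : Nontrivial (Fin n) := Fin.nontrivial_iff_two_le.2 (by omega)
  have h2 := two_mul_nat_card_alternatingGroup (α := Fin n)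
  by_cases h6 : n = 6
  · subst h6
    haveI : Fintype (GaloisField 3 2) := Fintype.ofFinite _
    obtain ⟨e⟩ := Cfsg.Agent.S0254.result (F := GaloisField 3 2)
      (by rw [← Nat.card_eq_fintype_card, GaloisField.card 3 2 (by norm_num)]; norm_num)
    have h := Cfsg.Agent.S0813.result (F := GaloisField 3 2) 3 2 (by norm_num)
      (by rw [← Nat.card_eq_fintype_card, GaloisField.card 3 2 (by norm_num)]) 2 le_rfl
      (fun _ => by norm_num)
    rw [Nat.card_congr (MulAut.congr e).toEquiv, Cfsg.Agent.Classical.Dickson2.card_pgl_two,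
      ← Nat.card_eq_fintype_card (α := GaloisField 3 2), GaloisField.card 3 2 (by norm_num)] at h
    rw [h]
    have hA : Nat.card (alternatingGroup (Fin 6)) = 360 := by
      rw [Nat.card_perm, Nat.card_eq_fintype_card (α := Fin 6), Fintype.card_fin] at h2
      have : Nat.factorial 6 = 720 := rfl
      omega
    rw [hA]
    norm_num
  · rw [← Nat.card_congr (MulEquiv.ofBijective _ (Cfsg.Agent.S2119.result n (by omega) h6)).toEquiv,
      ← h2, show 4 * Nat.card (alternatingGroup (Fin n)) = 2 * (2 * Nat.card (alternatingGroup (Fin n)))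
        by ring]
    exact dvd_mul_left _ _

/-- Below degree `p²` a `p`-group of permutations is abelian. -/
theorem comm_of_lt_sq {n p : ℕ} [Fact p.Prime] (hnp : n < p ^ 2)
    (Q : Subgroup (Equiv.Perm (Fin n))) (hQ : IsPGroup p Q) (x y : Q) : x * y = y * x := by
  classical
  rw [← commutatorElement_eq_one_iff_mul_comm]
  refine Subtype.ext (Equiv.ext fun b => ?_)
  show ⁅x, y⁆ • b = b
  obtain ⟨k, hk⟩ := hQ.card_orbit b
  have hle : Nat.card (MulAction.orbit Q b) ≤ n :=
    (Nat.card_le_card_of_injective _ Subtype.val_injective).trans (by simp)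
  have hk1 : k ≤ 1 := by
    by_contra hk2
    have : p ^ 2 ≤ p ^ k := Nat.pow_le_pow_right (Fact.out : p.Prime).pos (by omega)
    omega
  set S := MulAction.stabilizer Q b
  have hidx : S.index = p ^ k := by rw [MulAction.index_stabilizer, ← Nat.card_coe_set_eq, hk]
  have : Subgroup.Normal S := by
    rcases (show k = 0 ∨ k = 1 by omega) with rfl | rfl
    · rw [pow_zero, Subgroup.index_eq_one] at hidx
      rw [hidx]; infer_instance
    · refine Subgroup.normal_of_index_eq_minFac_card ?_
      obtain ⟨m, hm⟩ := IsPGroup.iff_card.1 hQ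
      rw [hidx, pow_one, hm, Nat.Prime.pow_minFac (Fact.out : p.Prime)]
      rintro rfl
      have := hidx ▸ S.index_dvd_card
      rw [hm, pow_zero, pow_one, Nat.dvd_one] at this
      exact (Fact.out : p.Prime).ne_one this
  show ⁅x, y⁆ ∈ S
  refine (QuotientGroup.eq_one_iff _).1 ?_
  rw [← QuotientGroup.mk'_apply, map_commutatorElement, commutatorElement_eq_one_iff_mul_comm]
  have hcyc : IsCyclic (Q ⧸ S) := by
    rcases (show k = 0 ∨ k = 1 by omega) with rfl | rfl
    · have : Subsingleton (Q ⧸ S) := (Nat.card_eq_one_iff_unique.1 (by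
        rw [← Subgroup.index_eq_card, hidx, pow_zero])).1
      exact isCyclic_of_subsingleton
    · exact isCyclic_of_prime_card (p := p) (by rw [← Subgroup.index_eq_card, hidx, pow_one])
  let := IsCyclic.commGroup (α := Q ⧸ S)
  exact mul_comm _ _

/-- Sylow subgroups for odd primes with `n < p²` are abelian. -/
theorem sylow_comm {n p : ℕ} [Fact p.Prime] (hn : 5 ≤ n) (hp : p ≠ 2) (hnp : n < p ^ 2)
    (G : Subgroup (MulAut (alternatingGroup (Fin n)))) (P : Sylow p G) :
    IsMulCommutative (P : Subgroup G) := by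
  classical
  let c : alternatingGroup (Fin n) →* MulAut (alternatingGroup (Fin n)) := MulAut.conj
  have hc : Function.Injective c := by
    rw [injective_iff_map_eq_one]
    intro a ha
    have : a ∈ Subgroup.center (alternatingGroup (Fin n)) := by
      rw [Subgroup.mem_center_iff]
      intro b
      have := DFunLike.congr_fun ha b
      simp only [c, MulAut.conj_apply, MulAut.one_apply] at this
      exact (mul_inv_eq_iff_eq_mul.1 this).symm
    rwa [alternatingGroup.center_eq_bot (by simp; omega), Subgroup.mem_bot] at this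
  let R : Sylow p (alternatingGroup (Fin n)) := default
  have hpp : p.Prime := Fact.out
  have hco : ¬ p ∣ 4 := fun h =>
    hp ((Nat.prime_dvd_prime_iff_eq hpp Nat.prime_two).1 (hpp.dvd_of_dvd_pow (n := 2) (by simpa using h)))
  have hA0 : Nat.card (alternatingGroup (Fin n)) ≠ 0 := Nat.card_pos.ne'
  let R' : Sylow p (MulAut (alternatingGroup (Fin n))) := Sylow.ofCard ((R : Subgroup _).map c) (by
    rw [Subgroup.card_map_of_injective hc, R.card_eq_multiplicity]
    congr 1
    refine le_antisymm ?_ ?_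
    · exact (Nat.factorization_le_iff_dvd hA0 Nat.card_pos.ne').2
        (Subgroup.card_dvd_of_injective c hc) p
    · have h := (Nat.factorization_le_iff_dvd Nat.card_pos.ne' (by positivity)).2 (card_aut_dvd n hn) p
      rw [Nat.factorization_mul (by norm_num) hA0, Finsupp.add_apply,
        Nat.factorization_eq_zero_of_not_dvd hco, zero_add] at h
      exact h)
  obtain ⟨Q, hPQ⟩ := (P.2.map G.subtype).exists_le_sylow
  obtain ⟨g, hg⟩ := MulAction.exists_smul_eq (MulAut (alternatingGroup (Fin n))) R' Q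
  have hR : ∀ a ∈ (R : Subgroup (alternatingGroup (Fin n))),
      ∀ b ∈ (R : Subgroup (alternatingGroup (Fin n))), a * b = b * a := by
    intro a ha b hb
    have h := comm_of_lt_sq hnp ((R : Subgroup _).map (alternatingGroup (Fin n)).subtype)
      (R.2.map _) ⟨_, a, ha, rfl⟩ ⟨_, b, hb, rfl⟩
    exact Subtype.ext (congrArg Subtype.val h :)
  have hQ : ∀ u ∈ (Q : Subgroup (MulAut (alternatingGroup (Fin n)))),
      ∃ a ∈ (R : Subgroup (alternatingGroup (Fin n))), u = g * c a * g⁻¹ := by
    intro u hu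
    rw [← hg] at hu
    obtain ⟨z, hz, rfl⟩ := Subgroup.mem_map.1 hu
    obtain ⟨a, ha, rfl⟩ := Subgroup.mem_map.1 hz
    exact ⟨a, ha, rfl⟩
  refine ⟨⟨fun x y => Subtype.ext (Subtype.ext ?_)⟩⟩
  obtain ⟨a, ha, hxa⟩ := hQ _ (hPQ ⟨_, x.2, rfl⟩)
  obtain ⟨b, hb, hyb⟩ := hQ _ (hPQ ⟨_, y.2, rfl⟩)
  simp only [Subgroup.coe_subtype] at hxa hyb
  show (x : G).1 * (y : G).1 = (y : G).1 * (x : G).1
  rw [hxa, hyb, conj_mul, conj_mul, ← map_mul, ← map_mul, hR a ha b hb]

/-- An element of order `p * q` when there is room. -/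
theorem exists_orderOf {n p q : ℕ} (hp : p.Prime) (hq : q.Prime) (hpq : p ≠ q) (hn : 5 ≤ n)
    (hp2 : p ^ 2 ≤ n ∨ p = 2) (hq2 : q ^ 2 ≤ n ∨ q = 2) :
    ∃ a : alternatingGroup (Fin n), orderOf a = p * q := by
  classical
  have hlcm : Nat.lcm p q = p * q := ((Nat.coprime_primes hp hq).2 hpq).lcm_eq_mul
  have main : ∀ (m : Multiset ℕ), m.sum ≤ n → (∀ a ∈ m, 2 ≤ a) → Even (m.sum + Multiset.card m) →
      m.lcm = p * q → ∃ a : alternatingGroup (Fin n), orderOf a = p * q := by
    intro m h1 h2 h3 h4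
    obtain ⟨σ, hσ⟩ := (Equiv.Perm.exists_with_cycleType_iff (Fin n) (m := m)).2
      ⟨by rwa [Fintype.card_fin], h2⟩
    refine ⟨⟨σ, ?_⟩, ?_⟩
    · rw [Equiv.Perm.mem_alternatingGroup, Equiv.Perm.sign_of_cycleType, hσ]
      exact h3.neg_one_pow
    · rw [← Subgroup.orderOf_coe]
      show orderOf σ = _
      rw [← Equiv.Perm.lcm_cycleType, hσ, h4]
  rcases hp.eq_two_or_odd' with rfl | hpo
  · have hqo : Odd q := hq.odd_of_ne_two hpq.symm
    have hq9 : q ^ 2 ≤ n := hq2.resolve_right hpq.symm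
    have hq3 : 3 ≤ q := by have := hq.two_le; omega
    have h1 : 3 * q ≤ q ^ 2 := by rw [sq]; exact Nat.mul_le_mul_right q hq3
    refine main {2, 2, q} ?_ ?_ ?_ ?_
    · simp; omega
    · simp; omega
    · obtain ⟨r, rfl⟩ := hqo
      exact ⟨r + 4, by simp; ring⟩
    · simp [lcm_eq_nat_lcm, ← Nat.lcm_assoc, hlcm]
  rcases hq.eq_two_or_odd' with rfl | hqo
  · have hp9 : p ^ 2 ≤ n := hp2.resolve_right hpq
    have hp3 : 3 ≤ p := by have := hp.two_le; have := hpo; rcases hpo with ⟨r, hr⟩; omega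
    have h1 : 3 * p ≤ p ^ 2 := by rw [sq]; exact Nat.mul_le_mul_right p hp3
    refine main {p, 2, 2} ?_ ?_ ?_ ?_
    · simp; omega
    · simp; omega
    · obtain ⟨r, rfl⟩ := hpo
      exact ⟨r + 4, by simp; ring⟩
    · simp [lcm_eq_nat_lcm, Nat.lcm_assoc, hlcm]
  have hpn : p ^ 2 ≤ n := hp2.resolve_right (by rintro rfl; exact absurd hpo (by decide))
  have hqn : q ^ 2 ≤ n := hq2.resolve_right (by rintro rfl; exact absurd hqo (by decide))
  have h1 : 2 * p ≤ p ^ 2 := by rw [sq]; exact Nat.mul_le_mul_right p hp.two_le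
  have h2 : 2 * q ≤ q ^ 2 := by rw [sq]; exact Nat.mul_le_mul_right q hq.two_le
  refine main {p, q} ?_ ?_ ?_ ?_
  · simp; omega
  · simp; exact ⟨hp.two_le, hq.two_le⟩
  · obtain ⟨r, rfl⟩ := hpo
    obtain ⟨s, rfl⟩ := hqo
    exact ⟨r + s + 2, by simp; ring⟩
  · simp [lcm_eq_nat_lcm, hlcm]

/-- Let n ≥ 5 and let G be a group of automorphisms of the alternating group of degree n containing all inner automorphisms. If p ≠ q are primes and G has no element of order pq, then every Sylow p-subgroup of G is abelian or every Sylow q-subgroup of G is abelian. -/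
theorem result (n : ℕ) (hn : 5 ≤ n) (G : Subgroup (MulAut (alternatingGroup (Fin n))))
    (hG : (MulAut.conj : alternatingGroup (Fin n) →* MulAut (alternatingGroup (Fin n))).range ≤ G)
    (p q : ℕ) [Fact p.Prime] [Fact q.Prime] (hpq : p ≠ q) (h : ∀ g : G, orderOf g ≠ p * q) :
    (∀ P : Sylow p G, IsMulCommutative (P : Subgroup G)) ∨ (∀ Q : Sylow q G, IsMulCommutative (Q : Subgroup G)) := by
  classical
  by_contra hcon
  push Not at hcon
  obtain ⟨⟨P, hP⟩, ⟨Q, hQ⟩⟩ := hcon
  have hp : p ^ 2 ≤ n ∨ p = 2 := by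
    by_contra h'
    push Not at h'
    exact hP (sylow_comm hn h'.2 h'.1 G P)
  have hq : q ^ 2 ≤ n ∨ q = 2 := by
    by_contra h'
    push Not at h'
    exact hQ (sylow_comm hn h'.2 h'.1 G Q)
  obtain ⟨a, ha⟩ := exists_orderOf (Fact.out : p.Prime) (Fact.out : q.Prime) hpq hn hp hq
  have hc : Function.Injective (MulAut.conj : alternatingGroup (Fin n) →* _) := by
    rw [injective_iff_map_eq_one]
    intro a ha
    have : a ∈ Subgroup.center (alternatingGroup (Fin n)) := by
      rw [Subgroup.mem_center_iff]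
      intro b
      have := DFunLike.congr_fun ha b
      simp only [MulAut.conj_apply, MulAut.one_apply] at this
      exact (mul_inv_eq_iff_eq_mul.1 this).symm
    rwa [alternatingGroup.center_eq_bot (by simp; omega), Subgroup.mem_bot] at this
  refine h ⟨MulAut.conj a, hG ⟨a, rfl⟩⟩ ?_
  rw [← Subgroup.orderOf_coe]
  exact (orderOf_injective _ hc a).trans ha

end Cfsg.Agent.S4231
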