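import Cfsg.Agent.IndexSimple

/-!
Normal subgroups meeting a split extension `H = A M`, with `M` simple and `A` an abelian normal
subgroup on which `M` acts faithfully and irreducibly.
-/

set_option autoImplicit false

namespace Cfsg.Agent.IndexSimple

open Subgroup

variable {G : Type*} [Group G]

/-- A normal subgroup meeting `H = A M` nontrivially is everything, when some element of `A` is
conjugate under `t` to an element of `H` outside `A` and the normal subgroups containing `M`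
are everything. -/
theorem normal_eq_top_of_split (H A M : Subgroup G) (hAH : A ≤ H) (hnorm : H ≤ normalizer (A : Set G))
    (hAab : ∀ a ∈ A, ∀ b ∈ A, a * b = b * a) (hHAM : ∀ h ∈ H, ∃ a ∈ A, ∃ m ∈ M, h = a * m)
    (hMH : M ≤ H) [IsSimpleGroup M]
    (hfaith : ∃ m ∈ M, ∃ a ∈ A, m * a ≠ a * m)
    (hirr : ∀ a ∈ A, a ≠ 1 → A ≤ closure {y | ∃ m ∈ M, y = m * a * m⁻¹})
    (hmix : ∃ t : G, ∃ a ∈ A, t * a * t⁻¹ ∈ H ∧ t * a * t⁻¹ ∉ A)
    (hgen : ∀ N : Subgroup G, N.Normal → M ≤ N → N = ⊤)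
    (N : Subgroup G) (hN : N.Normal) (hNH : N ⊓ H ≠ ⊥) : N = ⊤ := by
  have hNA : ∃ a ∈ A, a ≠ 1 ∧ a ∈ N := by
    obtain ⟨b, hb, hb1⟩ := (Subgroup.ne_bot_iff_exists_ne_one).1 hNH |>.elim
      fun x hx => (⟨(x : G), x.2, fun h => hx (Subtype.ext h)⟩ : ∃ b, b ∈ N ⊓ H ∧ b ≠ 1)
    by_cases hbA : b ∈ A
    · exact ⟨b, hbA, hb1, hb.1⟩
    by_contra hno
    have hcomm : ∀ a ∈ A, b * a = a * b := by
      intro a ha
      have h1 : b * a * b⁻¹ * a⁻¹ ∈ A :=
        A.mul_mem ((mem_normalizer_iff.1 (hnorm hb.2) a).1 ha) (A.inv_mem ha)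
      have h2 : b * a * b⁻¹ * a⁻¹ ∈ N := by
        rw [show b * a * b⁻¹ * a⁻¹ = b * (a * b⁻¹ * a⁻¹) by group]
        exact N.mul_mem hb.1 (hN.conj_mem _ (N.inv_mem hb.1) a)
      have h3 : b * a * b⁻¹ * a⁻¹ = 1 := by
        by_contra h3
        exact hno ⟨_, h1, h3, h2⟩
      rwa [mul_inv_eq_one, mul_inv_eq_iff_eq_mul] at h3
    obtain ⟨a', ha', m, hm, rfl⟩ := hHAM b hb.2
    have hm1 : m ≠ 1 := fun h => hbA (by rw [h, mul_one]; exact ha')
    have hmA : ∀ a ∈ A, m * a = a * m := by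
      intro a ha
      have h := hcomm a ha
      rw [← mul_assoc a a' m, hAab a ha a' ha', mul_assoc a' a m, mul_assoc a' m a] at h
      exact mul_left_cancel h
    let K : Subgroup M := (centralizer (A : Set G)).subgroupOf M
    have hK : K.Normal := by
      refine ⟨fun k hk g => mem_subgroupOf.2 (mem_centralizer_iff.2 fun a ha => ?_)⟩
      have hg : (g : G)⁻¹ * a * g ∈ A :=
        (mem_normalizer_iff'.1 (hnorm (hMH g.2)) _).2 (by simpa [← mul_assoc] using ha)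
      have h := mem_centralizer_iff.1 (mem_subgroupOf.1 hk) _ hg
      show a * ((g : G) * k * (g : G)⁻¹) = (g : G) * k * (g : G)⁻¹ * a
      calc a * ((g : G) * k * (g : G)⁻¹) = g * (((g : G)⁻¹ * a * g) * k) * (g : G)⁻¹ := by group
        _ = g * (k * ((g : G)⁻¹ * a * g)) * (g : G)⁻¹ := by rw [h]
        _ = _ := by group
    rcases IsSimpleGroup.eq_bot_or_eq_top_of_normal K hK with hbot | htop
    · have : (⟨m, hm⟩ : M) ∈ K := mem_subgroupOf.2 (mem_centralizer_iff.2 fun a ha => (hmA a ha).symm)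
      rw [hbot, mem_bot] at this
      exact hm1 (congrArg Subtype.val this)
    · obtain ⟨m₀, hm₀, a₀, ha₀, hne⟩ := hfaith
      have : (⟨m₀, hm₀⟩ : M) ∈ K := htop ▸ Subgroup.mem_top _
      exact hne (mem_centralizer_iff.1 (mem_subgroupOf.1 this) a₀ ha₀).symm
  obtain ⟨a, haA, ha1, haN⟩ := hNA
  have hAN : A ≤ N := (hirr a haA ha1).trans ((closure_le _).2 (by
    rintro _ ⟨m, -, rfl⟩
    exact hN.conj_mem a haN m))
  obtain ⟨t, a₁, ha₁, hH, hnA⟩ := hmix
  obtain ⟨a₂, ha₂, m, hm, he⟩ := hHAM _ hH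
  have hmN : m ∈ N := by
    have : a₂ * m ∈ N := he ▸ hN.conj_mem a₁ (hAN ha₁) t
    exact (N.mul_mem_cancel_left (hAN ha₂)).1 this
  rcases IsSimpleGroup.eq_bot_or_eq_top_of_normal (N.subgroupOf M) inferInstance with hbot | htop
  · have : (⟨m, hm⟩ : M) ∈ N.subgroupOf M := mem_subgroupOf.2 hmN
    rw [hbot, mem_bot] at this
    have hm1 : m = 1 := congrArg Subtype.val this
    rw [he, hm1, mul_one] at hnA
    exact absurd ha₂ hnA
  · exact hgen N hN (fun x hx => mem_subgroupOf.1 (htop ▸ Subgroup.mem_top (⟨x, hx⟩ : M)))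

end Cfsg.Agent.IndexSimple
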