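import Cfsg.Statements.S1239
import Cfsg.Agent.Invol.WR
import Cfsg.Agent.Invol.QDMax
import Cfsg.Agent.Invol.ZStarElt

set_option autoImplicit false
open Cfsg

namespace Cfsg.Agent.S1239

open Cfsg.Agent.Invol

/-- A central element of a Sylow 2-subgroup is not conjugate to its product with a central involution. -/
theorem no_shift {Q : Type*} [Group Q] [Finite Q] (P : Sylow 2 Q) {x c : Q}
    (hx : x ∈ Subgroup.centralizer ((P : Subgroup Q) : Set Q))
    (hxc : x * c ∈ Subgroup.centralizer ((P : Subgroup Q) : Set Q))
    (hc : c ∈ Subgroup.center Q) (hc2 : c * c = 1) (hc1 : c ≠ 1) :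
    ¬ IsConj x (x * c) := by
  intro h
  obtain ⟨g, hg⟩ := isConj_iff.1 h
  obtain ⟨n, hn, he⟩ := P.conj_eq_normalizer_conj_of_mem_centralizer x g⁻¹ hx
    (by rw [inv_inv, hg]; exact hxc)
  rw [inv_inv, hg] at he
  set m := n⁻¹ with hm
  have hmN : m ∈ Subgroup.normalizer ((P : Subgroup Q) : Set Q) := (Subgroup.normalizer _).inv_mem hn
  have he' : m * x * m⁻¹ = x * c := by rw [hm, inv_inv]; exact he.symm
  have hiter : ∀ k : ℕ, m ^ k * x * (m ^ k)⁻¹ = x * c ^ k := by
    intro k
    induction k with
    | zero => simp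
    | succ k ih =>
      have hck : c ^ k * m⁻¹ = m⁻¹ * c ^ k := (Subgroup.mem_center_iff.1 (Subgroup.pow_mem _ hc k) m⁻¹).symm
      calc m ^ (k + 1) * x * (m ^ (k + 1))⁻¹ = m * (m ^ k * x * (m ^ k)⁻¹) * m⁻¹ := by
            rw [pow_succ' m k]; group
        _ = m * x * (c ^ k * m⁻¹) := by rw [ih]; group
        _ = (m * x * m⁻¹) * c ^ k := by rw [hck]; group
        _ = x * c ^ (k + 1) := by rw [he', mul_assoc, ← pow_succ']
  obtain ⟨d, a, hd, hda⟩ : ∃ d a : ℕ, ¬ 2 ∣ d ∧ orderOf m = 2 ^ a * d :=
    ⟨_, _, Nat.not_dvd_ordCompl Nat.prime_two (orderOf_pos m).ne', (Nat.ordProj_mul_ordCompl_eq_self _ 2).symm⟩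
  have hmP : m ^ d ∈ P := by
    let N := Subgroup.normalizer ((P : Subgroup Q) : Set Q)
    let P' : Sylow 2 N := P.subtype Subgroup.le_normalizer
    have : (P' : Subgroup N).Normal := by rw [P.coe_subtype]; exact Subgroup.normal_in_normalizer
    have : Subsingleton (Sylow 2 N) := @Unique.instSubsingleton _ (Sylow.unique_of_normal P' ‹_›)
    have ho : ∃ j, orderOf (⟨m ^ d, N.pow_mem hmN d⟩ : N) = 2 ^ j := by
      obtain ⟨j, -, hj⟩ := (Nat.dvd_prime_pow Nat.prime_two).1
        (orderOf_dvd_of_pow_eq_one (show (m ^ d) ^ (2 ^ a) = 1 by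
          rw [← pow_mul, mul_comm, ← hda, pow_orderOf_eq_one]))
      exact ⟨j, by rw [Subgroup.orderOf_mk, hj]⟩
    obtain ⟨j, hj⟩ := ho
    obtain ⟨R, hR⟩ := (IsPGroup.of_card (n := j)
      (show Nat.card (Subgroup.zpowers (⟨m ^ d, N.pow_mem hmN d⟩ : N)) = 2 ^ j by
        rw [Nat.card_zpowers, hj])).exists_le_sylow
    rw [Subsingleton.elim R P', P.coe_subtype] at hR
    exact Subgroup.mem_subgroupOf.1 (hR (Subgroup.mem_zpowers _))
  have h1 := hiter d
  rw [Subgroup.mem_centralizer_iff.1 hx _ hmP, mul_inv_cancel_right] at h1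
  obtain ⟨i, rfl⟩ : Odd d := Nat.odd_iff.2 (by omega)
  rw [pow_succ, pow_mul, pow_two, hc2, one_pow, one_mul] at h1
  exact hc1 (left_eq_mul.1 h1)

/-- Let X be a finite group whose Sylow 2-subgroup S is quasi-dihedral or wreathed, and suppose some involution of S is isolated in X. Then the product of the largest normal odd-order subgroup O(X) with the centre of S is normal in X. -/
theorem result {X : Type*} [Group X] [Finite X] (S : Sylow 2 X) (hS : Cfsg.IsQuasiDihedral (S : Subgroup X) ∨ Cfsg.IsWreathed (S : Subgroup X)) (z : X) (hzS : z ∈ S) (hz : Cfsg.IsIsolatedInvolution z) : (Cfsg.oddCore X ⊔ (Subgroup.center (S : Subgroup X)).map (S : Subgroup X).subtype).Normal := by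
  have : Fact (Nat.Prime 2) := ⟨Nat.prime_two⟩
  set O := Cfsg.oddCore X with hO
  have hOn : O.Normal := inferInstanceAs (Cfsg.pPrimeCore 2 X).Normal
  set W := (Subgroup.center (S : Subgroup X)).map (S : Subgroup X).subtype with hW
  have key : ∀ w ∈ W, ∀ g : X, w * g * w⁻¹ * g⁻¹ ∈ O := by
    have hdisj : ∀ x ∈ (S : Subgroup X), x ∈ O → x = 1 := by
      intro x hx hxO
      obtain ⟨j, hj⟩ := IsPGroup.iff_orderOf.1 S.2 ⟨x, hx⟩
      rw [Subgroup.orderOf_mk] at hj
      have h1 : orderOf x ∣ Nat.card O := Subgroup.orderOf_dvd_natCard O hxO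
      rcases Nat.eq_zero_or_pos j with rfl | hpos
      · rwa [pow_zero, orderOf_eq_one_iff] at hj
      · exact absurd ((dvd_pow_self 2 hpos.ne').trans (hj ▸ h1))
          (Cfsg.Agent.Core.not_dvd_card_pPrimeCore (p := 2) (G := X))
    set π := QuotientGroup.mk' O with hπ
    have hinj : ∀ x ∈ (S : Subgroup X), ∀ y ∈ (S : Subgroup X), π x = π y → x = y := by
      intro x hx y hy h
      exact inv_mul_eq_one.1 (hdisj _ ((S : Subgroup X).mul_mem ((S : Subgroup X).inv_mem hx) hy) (QuotientGroup.eq.1 h))
    have hzc : π z ∈ Subgroup.center (X ⧸ O) := zstar_mem_center hz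
    have hzZ : (⟨z, hzS⟩ : (S : Subgroup X)) ∈ Subgroup.center (S : Subgroup X) := by
      refine Subgroup.mem_center_iff.2 fun s => Subtype.ext ?_
      refine hinj _ ((S : Subgroup X).mul_mem s.2 hzS) _ ((S : Subgroup X).mul_mem hzS s.2) ?_
      show π ((s : X) * z) = π (z * (s : X))
      rw [map_mul, map_mul]
      exact Subgroup.mem_center_iff.1 hzc _
    rcases hS with hQD | hWR
    · obtain ⟨x, y, n, hh⟩ := qdgen_exists hQD
      have hc : ∀ w ∈ Subgroup.center (S : Subgroup X), (w : X) = 1 ∨ (w : X) = z := by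
        set c := qc x n (qh n)
        have hc2 : c * c = 1 := by
          show qc x n (qh n) * qc x n (qh n) = 1
          rw [← hh.c_add, ← two_mul, hh.two_h, QDGen.c_zero]
        have hcase : ∀ w ∈ Subgroup.center (S : Subgroup X), w = 1 ∨ w = c := by
          intro w hw
          rw [hh.center_eq] at hw
          obtain ⟨i, rfl⟩ := Subgroup.mem_zpowers_iff.1 hw
          rcases Int.even_or_odd' i with ⟨k, rfl | rfl⟩
          · left; rw [zpow_mul, zpow_two, hc2, one_zpow]
          · right; rw [zpow_add, zpow_mul, zpow_two, hc2, one_zpow, one_mul, zpow_one]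
        have hzc' : (⟨z, hzS⟩ : (S : Subgroup X)) = c := (hcase _ hzZ).resolve_left fun e => by
          have h1 : z = 1 := congrArg Subtype.val e
          have := hz.1; rw [h1, orderOf_one] at this; omega
        intro w hw
        rcases hcase w hw with rfl | rfl
        · exact Or.inl rfl
        · exact Or.inr (congrArg Subtype.val hzc').symm
      rintro _ ⟨w, hw, rfl⟩ g
      rcases hc w hw with h | h
      · rw [Subgroup.subtype_apply, h]; simp
      · rw [Subgroup.subtype_apply, h]; exact zstar hz g
    · obtain ⟨x, y, ζ, n, hh⟩ := wrgen_exists hWR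
      have hzw : (⟨z, hzS⟩ : (S : Subgroup X)) = ww x y n (wh n) (wh n) := by
        obtain ⟨i, hi⟩ := hh.mem_center_iff.1 hzZ
        have h2 : orderOf (ww x y n i i) = 2 := by rw [← hi, Subgroup.orderOf_mk]; exact hz.1
        have h3 : ww x y n i i * ww x y n i i = 1 := by
          have := pow_orderOf_eq_one (ww x y n i i)
          rwa [h2, pow_two] at this
        rcases (hh.w_sq_one h3).1 with rfl | rfl
        · rw [WRGen.w_zero, orderOf_one] at h2; omega
        · exact hi

      have hπc : ∀ a, π ((ww x y n a a : (S : Subgroup X)) : X) ∈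
          Subgroup.centralizer (((S : Subgroup X).map π : Subgroup (X ⧸ O)) : Set (X ⧸ O)) := by
        intro a
        refine Subgroup.mem_centralizer_iff.2 ?_
        rintro _ ⟨s, hs, rfl⟩
        rw [← map_mul, ← map_mul]
        exact congrArg π (congrArg Subtype.val (hh.center_commute a ⟨s, hs⟩))
      have main : ∀ (j : ℕ) (a : ZMod (2 ^ n)), (2 ^ j : ℕ) * a = 0 → ∀ g : X,
          g * ((ww x y n a a : (S : Subgroup X)) : X) * g⁻¹ ∈ S →
          g * ((ww x y n a a : (S : Subgroup X)) : X) * g⁻¹ = ((ww x y n a a : (S : Subgroup X)) : X) := by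
        intro j
        induction j with
        | zero =>
          intro a ha g _
          rw [pow_zero, Nat.cast_one, one_mul] at ha
          subst ha
          rw [WRGen.w_zero, Subgroup.coe_one, mul_one, mul_inv_cancel]
        | succ j ih =>
          intro a ha g hg
          set x0 := ww x y n a a with hx0
          set Y : (S : Subgroup X) := ⟨g * (x0 : X) * g⁻¹, hg⟩ with hY
          have hsq : Y * Y = x0 * x0 := by
            apply Subtype.ext
            have e : g * ((x0 : X) * x0) * g⁻¹ = g * (x0 : X) * g⁻¹ * (g * (x0 : X) * g⁻¹) := by group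
            have := ih (a + a) (by rw [← ha, pow_succ]; push_cast; ring) g (by
              rw [← hh.w_mul, Subgroup.coe_mul, e]; exact (Y * Y).2)
            rw [← hh.w_mul, Subgroup.coe_mul, e] at this
            exact this
          by_contra hne
          have hYne : Y ≠ x0 := fun e => hne (congrArg Subtype.val e)
          have hshift : ∃ s : (S : Subgroup X), s * Y * s⁻¹ = Y * ww x y n (wh n) (wh n) ∨
              Y = x0 * ww x y n (wh n) (wh n) := by
            rcases hh.cases Y with ⟨b, c, hbc⟩ | ⟨b, c, hbc⟩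
            · rw [hbc, hh.w_mul, hx0, hh.w_mul] at hsq
              obtain ⟨e1, e2⟩ := hh.w_inj hsq
              rcases hh.two_mul_eq_zero (i := b - a) (by linear_combination e1) with hb | hb <;>
                rcases hh.two_mul_eq_zero (i := c - a) (by linear_combination e2) with hc | hc
              · exact absurd (by rw [hbc, sub_eq_zero.1 hb, sub_eq_zero.1 hc, hx0]) hYne
              · refine ⟨ζ, Or.inl ?_⟩
                rw [hbc, hh.z_mul, mul_inv_cancel_right, hh.w_mul]
                congr 1
                · linear_combination hc - hb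
                · linear_combination hb - hc - hh.two_h
              · refine ⟨ζ, Or.inl ?_⟩
                rw [hbc, hh.z_mul, mul_inv_cancel_right, hh.w_mul]
                congr 1
                · linear_combination hc - hb - hh.two_h
                · linear_combination hb - hc
              · refine ⟨1, Or.inr ?_⟩
                rw [hbc, hx0, hh.w_mul]
                congr 1
                · linear_combination hb
                · linear_combination hc
            · refine ⟨ww x y n (wh n) 0, Or.inl ?_⟩
              rw [hbc, hh.w_conj_wz, hh.wz_mul_w]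
              congr 2
              · ring
              · linear_combination -hh.two_h
          obtain ⟨s, hshift⟩ := hshift
          let P : Sylow 2 (X ⧸ O) := S.mapSurjective (QuotientGroup.mk'_surjective O)
          have hP : (P : Subgroup (X ⧸ O)) = (S : Subgroup X).map π := rfl
          have hx0z : π ((x0 : X)) * π z = π ((ww x y n (a + wh n) (a + wh n) : (S : Subgroup X)) : X) := by
            rw [← map_mul, ← hh.w_mul, ← hzw]; rfl
          have hns : ¬ IsConj (π (x0 : X)) (π (x0 : X) * π z) := by
            refine no_shift P (hP ▸ hπc a) ?_ hzc ?_ ?_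
            · rw [hP, hx0z]; exact hπc _
            · rw [← map_mul, ← pow_two, ← hz.1, pow_orderOf_eq_one, map_one]
            · intro e
              have h1 : z = 1 := hinj z hzS 1 (one_mem _) (e.trans (map_one π).symm)
              have := hz.1; rw [h1, orderOf_one] at this; omega
          apply hns
          rcases hshift with h | h
          · refine isConj_iff.2 ⟨(π g)⁻¹ * π (s : X) * π g, ?_⟩
            have h' : (s : X) * (g * x0 * g⁻¹) * (s : X)⁻¹ = g * x0 * g⁻¹ * z := by
              have := congrArg Subtype.val h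
              rw [← hzw] at this
              exact this
            calc (π g)⁻¹ * π (s : X) * π g * π (x0 : X) * ((π g)⁻¹ * π (s : X) * π g)⁻¹
                = (π g)⁻¹ * π ((s : X) * (g * x0 * g⁻¹) * (s : X)⁻¹) * π g := by
                  simp only [map_mul, map_inv]; group
              _ = π (x0 : X) * ((π g)⁻¹ * π z * π g) := by
                  rw [h']; simp only [map_mul, map_inv]; group
              _ = π (x0 : X) * π z := by
                  rw [Subgroup.mem_center_iff.1 hzc (π g)⁻¹, inv_mul_cancel_right]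
          · refine isConj_iff.2 ⟨π g, ?_⟩
            have h' : g * x0 * g⁻¹ = x0 * z := by
              have := congrArg Subtype.val h
              rw [← hzw] at this
              exact this
            rw [← map_inv, ← map_mul, ← map_mul, h', map_mul]
      rintro _ ⟨w, hw, rfl⟩ g
      refine zstar_elt S w.2 (fun v hv g' hg' => ?_) g
      have hv' : (⟨v, (Subgroup.zpowers_le.2 w.2) hv⟩ : (S : Subgroup X)) ∈ Subgroup.center (S : Subgroup X) := by
        obtain ⟨i, rfl⟩ := Subgroup.mem_zpowers_iff.1 hv
        have := Subgroup.zpow_mem _ hw i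
        exact this
      obtain ⟨a, ha⟩ := hh.mem_center_iff.1 hv'
      have ha' : v = ((ww x y n a a : (S : Subgroup X)) : X) := congrArg Subtype.val ha
      rw [ha'] at hg' ⊢
      exact main n a (by rw [ZMod.natCast_self, zero_mul]) g' hg'
  refine ⟨fun n hn g => ?_⟩
  have hle : (O ⊔ W).map (MulAut.conj g).toMonoidHom ≤ O ⊔ W := by
    rw [Subgroup.map_sup]
    refine sup_le ?_ ?_
    · rintro _ ⟨a, ha, rfl⟩
      exact Subgroup.mem_sup_left (hOn.conj_mem a ha g)
    · rintro _ ⟨a, ha, rfl⟩
      show g * a * g⁻¹ ∈ O ⊔ W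
      rw [show g * a * g⁻¹ = (a * g * a⁻¹ * g⁻¹)⁻¹ * a by group]
      exact Subgroup.mul_mem_sup (O.inv_mem (key a ha g)) ha
  exact hle ⟨n, hn, rfl⟩

end Cfsg.Agent.S1239
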