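import Mathlib

/-!
Two conjugate involutions of a symmetric group are joined by a third one with odd products.
-/

set_option autoImplicit false

namespace Cfsg.Agent.InvolOddGraph

open Equiv Finset

variable {α : Type*} [Fintype α] [DecidableEq α]

theorem pow_fix_of_orderOf {σ : Perm α} (h : Odd (orderOf σ)) (x : α) :
    ∃ m : ℕ, Odd m ∧ (σ ^ m) x = x := ⟨orderOf σ, h, by rw [pow_orderOf_eq_one]; rfl⟩

theorem odd_orderOf_of_fix {σ : Perm α} (h : ∀ x, ∃ m : ℕ, Odd m ∧ (σ ^ m) x = x) : Odd (orderOf σ) := by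
  choose m hm hfix using h
  have hN : σ ^ (∏ x, m x) = 1 := by
    refine Perm.ext fun x => ?_
    obtain ⟨c, hc⟩ := Finset.dvd_prod_of_mem m (Finset.mem_univ x)
    rw [hc, pow_mul]
    exact Perm.pow_apply_eq_self_of_apply_eq_self (hfix x) c
  exact Odd.of_dvd_nat (Finset.prod_induction _ Odd (fun _ _ => Odd.mul) odd_one fun x _ => hm x)
    (orderOf_dvd_of_pow_eq_one hN)

/-- Inserting two fixed points into one cycle keeps the order odd. -/
theorem odd_insert {π : Perm α} {a p c : α} (ha : π a = a) (hp : π p = p) (hap : a ≠ p) (hca : c ≠ a)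
    (hcp : c ≠ p) (h : Odd (orderOf π)) : Odd (orderOf (π * swap a c * swap p a)) := by
  set σ := π * swap a c * swap p a with hσ
  have hsc : σ c = a := by simp [hσ, swap_apply_of_ne_of_ne hcp hca, ha]
  have hsa : σ a = p := by simp [hσ, swap_apply_of_ne_of_ne hap.symm hcp.symm, hp]
  have hsp : σ p = π c := by simp [hσ]
  have hoth : ∀ v, v ≠ c → v ≠ a → v ≠ p → σ v = π v := fun v h1 h2 h3 => by
    simp [hσ, swap_apply_of_ne_of_ne h3 h2, swap_apply_of_ne_of_ne h2 h1]
  clear_value σ
  have hfixed : ∀ {v w : α}, π v = v → (∃ j : ℕ, (π ^ j) w = v) → w = v := fun {v w} hv ⟨j, hj⟩ =>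
    (π ^ j).injective (hj.trans (Perm.pow_apply_eq_self_of_apply_eq_self hv j).symm)
  have hne : ∀ j : ℕ, (π ^ j) c ≠ a ∧ (π ^ j) c ≠ p := fun j =>
    ⟨fun e => hca (hfixed ha ⟨j, e⟩), fun e => hcp (hfixed hp ⟨j, e⟩)⟩
  set L := Function.minimalPeriod π c with hLdef
  have hLpos : 0 < L := Function.minimalPeriod_pos_of_mem_periodicPts
    ⟨orderOf π, orderOf_pos π, by
      show (⇑π)^[orderOf π] c = c
      rw [← Perm.coe_pow, pow_orderOf_eq_one]; rfl⟩
  have hLodd : Odd L := Odd.of_dvd_nat h (Function.IsPeriodicPt.minimalPeriod_dvd (by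
    show (⇑π)^[orderOf π] c = c
    rw [← Perm.coe_pow, pow_orderOf_eq_one]; rfl))
  have hLfix : (π ^ L) c = c := by
    rw [Perm.coe_pow]; exact Function.iterate_minimalPeriod
  have hLmin : ∀ j, 0 < j → j < L → (π ^ j) c ≠ c := fun j hj0 hjL e => by
    rw [Perm.coe_pow] at e
    exact Function.not_isPeriodicPt_of_pos_of_lt_minimalPeriod hj0.ne' hjL e
  have hrun : ∀ j, 0 < j → j ≤ L → (σ ^ (2 + j)) c = (π ^ j) c := by
    intro j
    induction j with
    | zero => omega
    | succ j ih =>
      intro _ hj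
      rw [show 2 + (j + 1) = (2 + j) + 1 by omega, pow_succ', Perm.mul_apply]
      rcases Nat.eq_zero_or_pos j with rfl | hj0
      · rw [add_zero, zero_add, pow_one]
        show σ (σ (σ c)) = π c
        rw [hsc, hsa, hsp]
      · rw [ih hj0 (by omega), hoth _ (hLmin j hj0 (by omega)) (hne j).1 (hne j).2, pow_succ',
          Perm.mul_apply]
  have hc : (σ ^ (L + 2)) c = c := by rw [add_comm, hrun L hLpos le_rfl, hLfix]
  have hodd : Odd (L + 2) := by rw [Nat.odd_add]; simp [hLodd, even_two]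
  have horb : ∀ i : ℕ, (σ ^ (L + 2)) ((σ ^ i) c) = (σ ^ i) c := fun i => by
    rw [← Perm.mul_apply, ← pow_add, add_comm, pow_add, Perm.mul_apply, hc]
  refine odd_orderOf_of_fix fun x => ?_
  by_cases hxa : x = a
  · exact ⟨L + 2, hodd, by subst hxa; simpa [hsc] using horb 1⟩
  by_cases hxp : x = p
  · refine ⟨L + 2, hodd, ?_⟩
    subst hxp
    have := horb 2
    rwa [pow_two, Perm.mul_apply, hsc, hsa] at this
  by_cases hx : ∃ j : ℕ, (π ^ j) c = x
  · obtain ⟨j, rfl⟩ := hx
    refine ⟨L + 2, hodd, ?_⟩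
    rw [← Nat.mod_add_div j L, pow_add π, pow_mul π, Perm.mul_apply,
      Perm.pow_apply_eq_self_of_apply_eq_self hLfix (j / L)]
    rcases Nat.eq_zero_or_pos (j % L) with h0 | h0
    · rw [h0, pow_zero]; exact hc
    · rw [← hrun _ h0 (Nat.mod_lt j hLpos).le]; exact horb _
  · push Not at hx
    obtain ⟨m, hm, hmx⟩ := pow_fix_of_orderOf h x
    have hagree : ∀ i : ℕ, (σ ^ i) x = (π ^ i) x := by
      intro i
      induction i with
      | zero => rfl
      | succ i ih =>
        rw [pow_succ', Perm.mul_apply, ih, pow_succ', Perm.mul_apply]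
        refine hoth _ (fun e => ?_) (fun e => hxa (hfixed ha ⟨i, e⟩)) (fun e => hxp (hfixed hp ⟨i, e⟩))
        obtain ⟨r, hr⟩ : ∃ r, i + r = orderOf π * (i + 1) :=
          ⟨orderOf π * (i + 1) - i, by have := orderOf_pos π; have := Nat.le_mul_of_pos_left (i + 1) this; omega⟩
        refine hx r ?_
        rw [← e, ← Perm.mul_apply, ← pow_add, add_comm, hr, pow_mul, pow_orderOf_eq_one, one_pow]
        rfl
    exact ⟨m, hm, (hagree m).trans hmx⟩

/-- An involution with `k` two-cycles supported in `S`. -/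
structure Mt (S : Finset α) (k : ℕ) (x : Perm α) : Prop where
  sq : ∀ v, x (x v) = v
  sub : x.support ⊆ S
  card : x.support.card = 2 * k

theorem Mt.fix {S : Finset α} {k : ℕ} {x : Perm α} (h : Mt S k x) {v : α} (hv : v ∉ S) : x v = v := by
  by_contra hne
  exact hv (h.sub (Perm.mem_support.2 hne))

theorem Mt.erase {S : Finset α} {k : ℕ} {x : Perm α} (h : Mt S k x) {a b : α} (hab : x a = b) (hne : b ≠ a)
    {T : Finset α} (hT : ∀ v ∈ x.support, v ≠ a → v ≠ b → v ∈ T) :
    Mt T (k - 1) (x * swap a b) ∧ (x * swap a b) a = a ∧ (x * swap a b) b = b ∧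
      ∀ v, v ≠ a → v ≠ b → (x * swap a b) v = x v := by
  have hba : x b = a := hab ▸ h.sq a
  have h1 : (x * swap a b) a = a := by simp [hba]
  have h2 : (x * swap a b) b = b := by simp [hab]
  have h3 : ∀ v, v ≠ a → v ≠ b → (x * swap a b) v = x v := fun v ha hb => by
    simp [swap_apply_of_ne_of_ne ha hb]
  have hs : (x * swap a b).support = (x.support.erase a).erase b := by
    ext v
    simp only [Perm.mem_support, mem_erase]
    by_cases ha : v = a
    · subst ha; simp [h1]
    by_cases hb : v = b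
    · subst hb; simp [h2]
    simp [h3 v ha hb, ha, hb]
  refine ⟨⟨fun v => ?_, ?_, ?_⟩, h1, h2, h3⟩
  · by_cases ha : v = a
    · rw [ha, h1, h1]
    by_cases hb : v = b
    · rw [hb, h2, h2]
    have ha' : x v ≠ a := fun e => hb (by rw [← h.sq v, e, hab])
    have hb' : x v ≠ b := fun e => ha (by rw [← h.sq v, e, hba])
    rw [h3 v ha hb, h3 _ ha' hb', h.sq]
  · rw [hs]
    intro v hv
    simp only [mem_erase] at hv
    exact hT v hv.2.2 hv.2.1 hv.1
  · rw [hs, card_erase_of_mem (mem_erase.2 ⟨hne, Perm.mem_support.2 (by rw [hba]; exact hne.symm)⟩),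
      card_erase_of_mem (Perm.mem_support.2 (by rw [hab]; exact hne)), h.card]
    omega

theorem Mt.add {T S : Finset α} {k : ℕ} {z : Perm α} (h : Mt T k z) {p a : α} (hpa : p ≠ a) (hp : p ∉ T)
    (ha : a ∉ T) (hTS : T ⊆ S) (hpS : p ∈ S) (haS : a ∈ S) : Mt S (k + 1) (z * swap p a) := by
  have hzp := h.fix hp
  have hza := h.fix ha
  have hs : (z * swap p a).support = insert p (insert a z.support) := by
    ext v
    simp only [Perm.mem_support, mem_insert]
    by_cases h1 : v = p
    · subst h1; simp [hza, hpa.symm]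
    by_cases h2 : v = a
    · subst h2; simp [hzp, hpa]
    simp [swap_apply_of_ne_of_ne h1 h2, h1, h2]
  refine ⟨fun v => ?_, ?_, ?_⟩
  · by_cases h1 : v = p
    · subst h1; simp [hza, hzp]
    by_cases h2 : v = a
    · subst h2; simp [hza, hzp]
    have h3 : z v ≠ p := fun e => h1 (z.injective (e.trans hzp.symm))
    have h4 : z v ≠ a := fun e => h2 (z.injective (e.trans hza.symm))
    simp [swap_apply_of_ne_of_ne h1 h2, swap_apply_of_ne_of_ne h3 h4, h.sq]
  · rw [hs, insert_subset_iff, insert_subset_iff]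
    exact ⟨hpS, haS, h.sub.trans hTS⟩
  · rw [hs, card_insert_of_notMem, card_insert_of_notMem, h.card]
    · ring
    · exact fun e => Perm.mem_support.1 e hza
    · rw [mem_insert]; exact fun e => e.elim hpa fun e => Perm.mem_support.1 e hzp

/-- One edge joins a fixed and a moved point. -/
theorem odd_add {T : Finset α} {k k' : ℕ} {x z : Perm α} {S : Finset α} (hx : Mt S k x) (hz : Mt T k' z)
    {p a : α} (hp : x p = p) (ha : x a ≠ a) (hpT : p ∉ T) (haT : a ∉ T)
    (h : Odd (orderOf (x * swap a (x a) * z))) : Odd (orderOf (x * (z * swap p a))) := by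
  have hzp := hz.fix hpT
  have hza := hz.fix haT
  have hap : a ≠ p := fun e => ha (e ▸ hp)
  have hbp : x a ≠ p := fun e => hap (x.injective (e.trans hp.symm))
  set b := x a with hb
  have hba : x b = a := hx.sq a
  have hπa : (x * swap a b * z) a = a := by simp [hza, hba]
  have hπp : (x * swap a b * z) p = p := by simp [hzp, swap_apply_of_ne_of_ne hap.symm hbp.symm, hp]
  have key : x * (z * swap p a) = (x * swap a b * z) * swap a (z b) * swap p a := by
    have h1 : z * swap a (z b) = swap a b * z := by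
      rw [Equiv.mul_swap_eq_swap_mul, hza, hz.sq]
    rw [mul_assoc (x * swap a b) z, h1, ← mul_assoc (x * swap a b), mul_assoc x (swap a b) (swap a b),
      Equiv.swap_mul_self, mul_one, mul_assoc]
  rw [key]
  exact odd_insert hπa hπp hap (fun e => ha (z.injective (e.trans hza.symm)))
    (fun e => hbp (z.injective (e.trans hzp.symm))) h

theorem edge_step {S : Finset α} {k : ℕ} {x : Perm α} (hx : Mt S (k + 1) x) {p q : α}
    (h : (x p = p ∧ x q ≠ q) ∨ (x q = q ∧ x p ≠ p)) :
    ∃ x' : Perm α, Mt ((S.erase p).erase q) k x' ∧ ∀ z, Mt ((S.erase p).erase q) k z →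
      Odd (orderOf (x' * z)) → Odd (orderOf (x * (z * swap p q))) := by
  have hnp : p ∉ (S.erase p).erase q := by simp
  have hnq : q ∉ (S.erase p).erase q := by simp
  rcases h with ⟨hp, hq⟩ | ⟨hq, hp⟩
  · obtain ⟨h1, -⟩ := hx.erase (a := q) rfl hq (T := (S.erase p).erase q) (fun v hv h1 _ =>
      mem_erase.2 ⟨h1, mem_erase.2 ⟨fun e => Perm.mem_support.1 hv (e ▸ hp), hx.sub hv⟩⟩)
    exact ⟨_, h1, fun z hz ho => odd_add hx hz hp hq hnp hnq ho⟩
  · obtain ⟨h1, -⟩ := hx.erase (a := p) rfl hp (T := (S.erase p).erase q) (fun v hv h1 _ =>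
      mem_erase.2 ⟨fun e => Perm.mem_support.1 hv (e ▸ hq), mem_erase.2 ⟨h1, hx.sub hv⟩⟩)
    exact ⟨_, h1, fun z hz ho => swap_comm p q ▸ odd_add hx hz hq hp hnq hnp ho⟩

theorem odd_self {x : Perm α} {S : Finset α} {k : ℕ} (hx : Mt S k x) : Odd (orderOf (x * x)) := by
  rw [show x * x = 1 from Perm.ext hx.sq, orderOf_one]; exact odd_one

/-- The conclusion. -/
def Joined (S : Finset α) (k : ℕ) (x y : Perm α) : Prop :=
  ∃ z, Mt S k z ∧ Odd (orderOf (x * z)) ∧ Odd (orderOf (y * z))

/-- Some point is fixed. -/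
theorem joined_of_lt : ∀ (k : ℕ) (S : Finset α) (x y : Perm α), 2 * k < S.card → Mt S k x → Mt S k y →
    Joined S k x y := by
  intro k
  induction k with
  | zero =>
    intro S x y _ hx hy
    have h : ∀ w : Perm α, Mt S 0 w → w = 1 := fun w hw =>
      Perm.support_eq_empty_iff.1 (card_eq_zero.1 hw.card)
    exact ⟨x, hx, odd_self hx, by rw [h y hy, h x hx, mul_one, orderOf_one]; exact odd_one⟩
  | succ k ih =>
    intro S x y hS hx hy
    obtain ⟨p, q, hpS, hqS, hpq, h1, h2⟩ : ∃ p q, p ∈ S ∧ q ∈ S ∧ p ≠ q ∧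
        ((x p = p ∧ x q ≠ q) ∨ (x q = q ∧ x p ≠ p)) ∧ ((y p = p ∧ y q ≠ q) ∨ (y q = q ∧ y p ≠ p)) := by
      by_cases heq : x.support = y.support
      · obtain ⟨q, hq⟩ : x.support.Nonempty := card_pos.1 (by rw [hx.card]; omega)
        obtain ⟨p, hpS, hp⟩ := exists_mem_notMem_of_card_lt_card (show x.support.card < S.card by rw [hx.card]; omega)
        refine ⟨p, q, hpS, hx.sub hq, fun e => hp (e ▸ hq),
          Or.inl ⟨Perm.notMem_support.1 hp, Perm.mem_support.1 hq⟩,
          Or.inl ⟨Perm.notMem_support.1 (heq ▸ hp), Perm.mem_support.1 (heq ▸ hq)⟩⟩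
      · obtain ⟨p, hp, hp'⟩ : ∃ p ∈ y.support, p ∉ x.support := not_subset.1 fun hs =>
          heq (eq_of_subset_of_card_le hs (by rw [hx.card, hy.card])).symm
        obtain ⟨q, hq, hq'⟩ : ∃ q ∈ x.support, q ∉ y.support := not_subset.1 fun hs =>
          heq (eq_of_subset_of_card_le hs (by rw [hx.card, hy.card]))
        exact ⟨p, q, hy.sub hp, hx.sub hq, fun e => hp' (e ▸ hq),
          Or.inl ⟨Perm.notMem_support.1 hp', Perm.mem_support.1 hq⟩,
          Or.inr ⟨Perm.notMem_support.1 hq', Perm.mem_support.1 hp⟩⟩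
    obtain ⟨x', hx', hxo⟩ := edge_step hx h1
    obtain ⟨y', hy', hyo⟩ := edge_step hy h2
    have hc : ((S.erase p).erase q).card = S.card - 2 := by
      rw [card_erase_of_mem (mem_erase.2 ⟨hpq.symm, hqS⟩), card_erase_of_mem hpS]; omega
    obtain ⟨z, hz, hzx, hzy⟩ := ih _ x' y' (by omega) hx' hy'
    exact ⟨z * swap p q, hz.add hpq (by simp) (by simp)
      ((erase_subset _ _).trans (erase_subset _ _)) hpS hqS, hxo z hz hzx, hyo z hz hzy⟩

theorem common_edge {S T : Finset α} {k : ℕ} {z : Perm α} (hz : Mt T k z) {a b : α} (ha : a ∉ T) (hb : b ∉ T)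
    {x : Perm α} (hx : Mt S (k + 1) x) (hab : x a = b)
    (h : Odd (orderOf (x * swap a b * z))) : Odd (orderOf (x * (z * swap a b))) := by
  have h1 : z * swap a b = swap a b * z := by
    rw [Equiv.mul_swap_eq_swap_mul, hz.fix ha, hz.fix hb]
  rw [h1, ← mul_assoc]
  exact h

/-- Two edges of `z` contract three edges of `x` to one. -/
theorem odd_contract {T : Finset α} {k : ℕ} {x z : Perm α} (hx : ∀ v, x (x v) = v) (hz : Mt T k z)
    {A B C D u w : α} (hA : x A = u) (hD : x D = w) (hB : x B = C) (hAT : A ∉ T) (hBT : B ∉ T) (hCT : C ∉ T)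
    (hDT : D ∉ T) (hnd : [A, B, C, D, u, w].Nodup)
    (h : Odd (orderOf (x * swap A u * swap D w * swap B C * swap u w * z))) :
    Odd (orderOf (x * (z * swap A B * swap C D))) := by
  simp only [List.nodup_cons, List.mem_cons, List.not_mem_nil, or_false, not_or, List.nodup_nil, and_true, not_false_eq_true] at hnd
  obtain ⟨⟨hAB, hAC, hAD, hAu, hAw⟩, ⟨hBC, hBD, hBu, hBw⟩, ⟨hCD, hCu, hCw⟩, ⟨hDu, hDw⟩, huw⟩ := hnd
  have hu : x u = A := hA ▸ hx A
  have hw : x w = D := hD ▸ hx D
  have hC : x C = B := hB ▸ hx B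
  set x' := x * swap A u * swap D w * swap B C * swap u w with hx'
  have e1 : x' A = A := by
    simp only [hx', Perm.mul_apply]
    rw [swap_apply_of_ne_of_ne hAu hAw, swap_apply_of_ne_of_ne hAB hAC, swap_apply_of_ne_of_ne hAD hAw,
      swap_apply_left, hu]
  have e2 : x' B = B := by
    simp only [hx', Perm.mul_apply]
    rw [swap_apply_of_ne_of_ne hBu hBw, swap_apply_left, swap_apply_of_ne_of_ne hCD hCw,
      swap_apply_of_ne_of_ne (Ne.symm hAC) hCu, hC]
  have e3 : x' C = C := by
    simp only [hx', Perm.mul_apply]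
    rw [swap_apply_of_ne_of_ne hCu hCw, swap_apply_right, swap_apply_of_ne_of_ne hBD hBw,
      swap_apply_of_ne_of_ne (Ne.symm hAB) hBu, hB]
  have e4 : x' D = D := by
    simp only [hx', Perm.mul_apply]
    rw [swap_apply_of_ne_of_ne hDu hDw, swap_apply_of_ne_of_ne (Ne.symm hBD) (Ne.symm hCD), swap_apply_left,
      swap_apply_of_ne_of_ne (Ne.symm hAw) (Ne.symm huw), hw]
  have zA := hz.fix hAT
  have zB := hz.fix hBT
  have zC := hz.fix hCT
  have zD := hz.fix hDT
  have zne : ∀ {P Q : α}, z P = P → Q ≠ P → z Q ≠ P := fun hP hQ e => hQ (z.injective (e.trans hP.symm))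
  set u₁ := z u with hu₁
  set w₁ := z w with hw₁
  have hu₁w₁ : u₁ ≠ w₁ := fun e => huw (z.injective e)
  set π := x' * z with hπ
  set σ₁ := π * swap A u₁ * swap C A with hσ₁
  have hpA : π A = A := by simp [hπ, zA, e1]
  have hpB : π B = B := by simp [hπ, zB, e2]
  have hpC : π C = C := by simp [hπ, zC, e3]
  have hpD : π D = D := by simp [hπ, zD, e4]
  have ho1 : Odd (orderOf σ₁) := odd_insert hpA hpC hAC (zne zA (Ne.symm hAu)) (zne zC (Ne.symm hCu)) h
  have h1D : σ₁ D = D := by
    simp only [hσ₁, Perm.mul_apply]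
    rw [swap_apply_of_ne_of_ne (Ne.symm hCD) (Ne.symm hAD), swap_apply_of_ne_of_ne (Ne.symm hAD) (zne zD (Ne.symm hDu)).symm, hpD]
  have h1B : σ₁ B = B := by
    simp only [hσ₁, Perm.mul_apply]
    rw [swap_apply_of_ne_of_ne hBC (Ne.symm hAB), swap_apply_of_ne_of_ne (Ne.symm hAB) (zne zB (Ne.symm hBu)).symm, hpB]
  have key : x * (z * swap A B * swap C D) = σ₁ * swap D w₁ * swap B D := by
    have hz1 : ∀ v, z v = u → v = u₁ := fun v e => by rw [hu₁, ← e, hz.sq]
    have hz2 : ∀ v, z v = w → v = w₁ := fun v e => by rw [hw₁, ← e, hz.sq]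
    have hxx : ∀ v, x' v = x ((swap A u) ((swap D w) ((swap B C) ((swap u w) v)))) := fun v => by simp [hx']
    have hσ : ∀ v, σ₁ v = x' (z (swap A u₁ (swap C A v))) := fun v => by simp [hσ₁, hπ]
    have hA1 : A ≠ u₁ := (zne zA (Ne.symm hAu)).symm
    have hB1 : B ≠ u₁ := (zne zB (Ne.symm hBu)).symm
    have hC1 : C ≠ u₁ := (zne zC (Ne.symm hCu)).symm
    have hD1 : D ≠ u₁ := (zne zD (Ne.symm hDu)).symm
    have hA2 : A ≠ w₁ := (zne zA (Ne.symm hAw)).symm
    have hB2 : B ≠ w₁ := (zne zB (Ne.symm hBw)).symm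
    have hC2 : C ≠ w₁ := (zne zC (Ne.symm hCw)).symm
    have hD2 : D ≠ w₁ := (zne zD (Ne.symm hDw)).symm
    have zu : z u₁ = u := hz.sq u
    have zw : z w₁ = w := hz.sq w
    refine Perm.ext fun v => ?_
    simp only [Perm.mul_apply]
    by_cases vA : v = A
    · subst vA
      rw [swap_apply_of_ne_of_ne hAC hAD, swap_apply_left, zB, hB, swap_apply_of_ne_of_ne hAB hAD,
        swap_apply_of_ne_of_ne hAD hA2, hσ, swap_apply_right, swap_apply_of_ne_of_ne (Ne.symm hAC) hC1, zC, e3]
    by_cases vB : v = B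
    · subst vB
      rw [swap_apply_of_ne_of_ne hBC hBD, swap_apply_right, zA, hA, swap_apply_left, swap_apply_left, hσ,
        swap_apply_of_ne_of_ne (Ne.symm hC2) (Ne.symm hA2), swap_apply_of_ne_of_ne (Ne.symm hA2) (Ne.symm hu₁w₁),
        zw, hxx, swap_apply_right, swap_apply_of_ne_of_ne (Ne.symm hBu) (Ne.symm hCu),
        swap_apply_of_ne_of_ne (Ne.symm hDu) huw, swap_apply_right, hA]
    by_cases vC : v = C
    · subst vC
      rw [swap_apply_left, swap_apply_of_ne_of_ne (Ne.symm hAD) (Ne.symm hBD), zD, hD,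
        swap_apply_of_ne_of_ne (Ne.symm hBC) hCD, swap_apply_of_ne_of_ne hCD hC2, hσ, swap_apply_left,
        swap_apply_left, zu, hxx, swap_apply_left, swap_apply_of_ne_of_ne (Ne.symm hBw) (Ne.symm hCw),
        swap_apply_right, swap_apply_of_ne_of_ne (Ne.symm hAD) hDu, hD]
    by_cases vD : v = D
    · subst vD
      rw [swap_apply_right, swap_apply_of_ne_of_ne (Ne.symm hAC) (Ne.symm hBC), zC, hC, swap_apply_right,
        swap_apply_of_ne_of_ne hBD hB2, h1B]
    rw [swap_apply_of_ne_of_ne vC vD, swap_apply_of_ne_of_ne vA vB, swap_apply_of_ne_of_ne vB vD]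
    by_cases vw : v = w₁
    · subst vw
      rw [zw, hw, swap_apply_right, h1D]
    rw [swap_apply_of_ne_of_ne vD vw, hσ, swap_apply_of_ne_of_ne vC vA]
    by_cases vu : v = u₁
    · subst vu
      rw [zu, hu, swap_apply_right, zA, e1]
    rw [swap_apply_of_ne_of_ne vA vu, hxx, swap_apply_of_ne_of_ne (fun e => vu (hz1 v e)) (fun e => vw (hz2 v e)),
      swap_apply_of_ne_of_ne (zne zB vB) (zne zC vC), swap_apply_of_ne_of_ne (zne zD vD) (fun e => vw (hz2 v e)),
      swap_apply_of_ne_of_ne (zne zA vA) (fun e => vu (hz1 v e))]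
  rw [key]
  exact odd_insert h1D h1B (Ne.symm hBD) (zne zD (Ne.symm hDw)) (zne zB (Ne.symm hBw)) ho1

theorem contract_mt {S : Finset α} {k : ℕ} {x : Perm α} (hx : Mt S (k + 2) x) (hS : x.support = S)
    {A B C D u w : α} (hA : x A = u) (hD : x D = w) (hB : x B = C) (hnd : [A, B, C, D, u, w].Nodup) :
    Mt ((((S.erase A).erase B).erase C).erase D) k (x * swap A u * swap D w * swap B C * swap u w) := by
  simp only [List.nodup_cons, List.mem_cons, List.not_mem_nil, or_false, not_or, List.nodup_nil, and_true, not_false_eq_true] at hnd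
  obtain ⟨⟨hAB, hAC, hAD, hAu, hAw⟩, ⟨hBC, hBD, hBu, hBw⟩, ⟨hCD, hCu, hCw⟩, ⟨hDu, hDw⟩, huw⟩ := hnd
  obtain ⟨h1, a1, a2, a3⟩ := hx.erase hA (Ne.symm hAu) (T := (S.erase A).erase u)
    (fun v hv h1 h2 => mem_erase.2 ⟨h2, mem_erase.2 ⟨h1, hx.sub hv⟩⟩)
  have hD1 : (x * swap A u) D = w := (a3 D (Ne.symm hAD) hDu).trans hD
  obtain ⟨h2, b1, b2, b3⟩ := h1.erase hD1 (Ne.symm hDw) (T := (((S.erase A).erase u).erase D).erase w)
    (fun v hv h3 h4 => mem_erase.2 ⟨h4, mem_erase.2 ⟨h3, h1.sub hv⟩⟩)
  have hB2 : (x * swap A u * swap D w) B = C :=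
    (b3 B hBD hBw).trans ((a3 B (Ne.symm hAB) hBu).trans hB)
  obtain ⟨h3, -⟩ := h2.erase hB2 (Ne.symm hBC) (T := (((((S.erase A).erase u).erase D).erase w).erase B).erase C)
    (fun v hv h3 h4 => mem_erase.2 ⟨h4, mem_erase.2 ⟨h3, h2.sub hv⟩⟩)
  have hk : k + 2 - 1 - 1 - 1 = k - 1 := by omega
  have h4 := h3.add (S := (((S.erase A).erase B).erase C).erase D) huw (by simp) (by simp)
    (fun v hv => by simp only [mem_erase] at hv ⊢; tauto)
    (by simp only [mem_erase]; exact ⟨Ne.symm hDu, Ne.symm hCu, Ne.symm hBu, Ne.symm hAu, hS ▸ Perm.mem_support.2 (fun e => hAu (x.injective (hA.trans e.symm)))⟩)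
    (by simp only [mem_erase]; exact ⟨Ne.symm hDw, Ne.symm hCw, Ne.symm hBw, Ne.symm hAw, hS ▸ Perm.mem_support.2 (fun e => hDw (x.injective (hD.trans e.symm)))⟩)
  rw [hk] at h4
  rcases k with _ | k
  · exfalso
    have hsub : ({A, B, C, D, u, w} : Finset α) ⊆ x.support := by
      intro v hv
      simp only [mem_insert, mem_singleton] at hv
      rw [Perm.mem_support]
      rcases hv with rfl | rfl | rfl | rfl | rfl | rfl <;> intro e
      · exact hAu (e.symm.trans hA)
      · exact hBC (e.symm.trans hB)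
      · exact hBC (x.injective (hB.trans e.symm))
      · exact hDw (e.symm.trans hD)
      · exact hAu (x.injective (hA.trans e.symm))
      · exact hDw (x.injective (hD.trans e.symm))
    have := card_le_card hsub
    rw [hx.card] at this
    simp [hAB, hAC, hAD, hAu, hAw, hBC, hBD, hBu, hBw, hCD, hCu, hCw, hDu, hDw, huw] at this
  · exact h4

/-- A configuration transported along an embedding. -/
theorem joined_of_emb {m k : ℕ} {S : Finset α} {x y : Perm α} (hx : Mt S k x) (hy : Mt S k y)
    (hm : S.card = m) (e : Fin m → α) (he : Function.Injective e) (heS : ∀ i, e i ∈ S) (X Y Z : Perm (Fin m))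
    (hX : ∀ i, x (e i) = e (X i)) (hY : ∀ i, y (e i) = e (Y i))
    (hZ : ∀ i, Z (Z i) = i) (hZc : Z.support.card = 2 * k)
    (hXZ : ∃ m, Odd m ∧ (X * Z) ^ m = 1) (hYZ : ∃ m, Odd m ∧ (Y * Z) ^ m = 1) : Joined S k x y := by
  let ι : Fin m ↪ α := ⟨e, he⟩
  have himg : Finset.univ.map ι = S := eq_of_subset_of_card_le
    (fun v hv => by obtain ⟨i, -, rfl⟩ := Finset.mem_map.1 hv; exact heS i) (by simp [hm])
  have hext : ∀ (w : Perm α) (W : Perm (Fin m)), Mt S k w → (∀ i, w (e i) = e (W i)) →
      w = Perm.viaEmbeddingHom ι W := fun w W hw hW => Perm.ext fun v => by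
    by_cases hv : v ∈ Set.range ι
    · obtain ⟨i, rfl⟩ := hv
      rw [Perm.viaEmbeddingHom_apply, Perm.viaEmbedding_apply]
      exact hW i
    · rw [Perm.viaEmbeddingHom_apply, Perm.viaEmbedding_apply_of_notMem _ _ _ hv]
      refine hw.fix fun hvS => hv ?_
      rw [← himg] at hvS
      obtain ⟨i, -, rfl⟩ := Finset.mem_map.1 hvS
      exact ⟨i, rfl⟩
  have hodd : ∀ W : Perm (Fin m), (∃ m, Odd m ∧ W ^ m = 1) → Odd (orderOf (Perm.viaEmbeddingHom ι W)) :=
    fun W ⟨m, hm, hW⟩ => Odd.of_dvd_nat hm ((orderOf_map_dvd _ W).trans (orderOf_dvd_of_pow_eq_one hW))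
  refine ⟨Perm.viaEmbeddingHom ι Z, ⟨fun v => ?_, fun v hv => ?_, ?_⟩, ?_, ?_⟩
  · rw [← Perm.mul_apply, ← map_mul, show Z * Z = 1 from Perm.ext hZ, map_one]; rfl
  · rw [← himg]
    by_contra hn
    refine Perm.mem_support.1 hv (Perm.viaEmbedding_apply_of_notMem _ _ _ fun ⟨i, hi⟩ => hn ?_)
    exact Finset.mem_map.2 ⟨i, mem_univ i, hi⟩
  · have hs : (Perm.viaEmbeddingHom ι Z).support = Z.support.map ι := by
      ext v
      rw [Perm.mem_support, Finset.mem_map]
      constructor
      · intro hv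
        by_cases hr : v ∈ Set.range ι
        · obtain ⟨i, rfl⟩ := hr
          exact ⟨i, Perm.mem_support.2 fun h => hv (by
            rw [Perm.viaEmbeddingHom_apply, Perm.viaEmbedding_apply, h]), rfl⟩
        · exact absurd (Perm.viaEmbedding_apply_of_notMem _ _ _ hr) hv
      · rintro ⟨i, hi, rfl⟩ h
        rw [Perm.viaEmbeddingHom_apply, Perm.viaEmbedding_apply] at h
        exact Perm.mem_support.1 hi (ι.injective h)
    rw [hs, card_map, hZc]
  · rw [hext x X hx hX, ← map_mul]; exact hodd _ hXZ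
  · rw [hext y Y hy hY, ← map_mul]; exact hodd _ hYZ

theorem nodup_le {S : Finset α} (l : List α) (h : l.Nodup) (hs : ∀ v ∈ l, v ∈ S) : l.length ≤ S.card := by
  rw [← List.toFinset_card_of_nodup h]
  exact card_le_card fun v hv => hs v (List.mem_toFinset.1 hv)

set_option maxHeartbeats 1000000 in
/-- The perfect matchings. -/
theorem joined_of_eq : ∀ (k : ℕ) (S : Finset α) (x y : Perm α), S.card = 2 * k → Mt S k x → Mt S k y →
    (k = 2 → x = y) → Joined S k x y := by
  intro k
  induction k using Nat.strong_induction_on with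
  | _ k ih =>
  intro S x y hS hx hy h2
  by_cases hxy : x = y
  · exact ⟨x, hx, odd_self hx, hxy ▸ odd_self hx⟩
  have hxs : x.support = S := eq_of_subset_of_card_le hx.sub (by rw [hS, hx.card])
  have hys : y.support = S := eq_of_subset_of_card_le hy.sub (by rw [hS, hy.card])
  have mx : ∀ {v}, v ∈ S → x v ≠ v := fun hv => Perm.mem_support.1 (hxs ▸ hv)
  have my : ∀ {v}, v ∈ S → y v ≠ v := fun hv => Perm.mem_support.1 (hys ▸ hv)
  have xS : ∀ {v}, v ∈ S → x v ∈ S := fun {v} hv => hx.sub (Perm.apply_mem_support.2 (hxs ▸ hv))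
  have yS : ∀ {v}, v ∈ S → y v ∈ S := fun {v} hv => hy.sub (Perm.apply_mem_support.2 (hys ▸ hv))
  have hk2 : k ≠ 2 := fun e => hxy (h2 e)
  have hk0 : k ≠ 0 := fun e => hxy (by
    rw [Perm.support_eq_empty_iff.1 (card_eq_zero.1 (hx.card.trans (by omega))),
      Perm.support_eq_empty_iff.1 (card_eq_zero.1 (hy.card.trans (by omega)))])
  by_cases hcom : ∃ a ∈ S, x a = y a
  · obtain ⟨a, haS, hya⟩ := hcom
    set b := x a with hb
    have hba : b ≠ a := mx haS
    have hbS : b ∈ S := xS haS
    have hcard : ((S.erase a).erase b).card = S.card - 2 := by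
      rw [card_erase_of_mem (mem_erase.2 ⟨hba, hbS⟩), card_erase_of_mem haS]; omega
    obtain ⟨hx', x1, x2, x3⟩ := hx.erase hb.symm hba (T := (S.erase a).erase b)
      (fun v hv h1 h2 => mem_erase.2 ⟨h2, mem_erase.2 ⟨h1, hx.sub hv⟩⟩)
    obtain ⟨hy', y1, y2, y3⟩ := hy.erase hya.symm hba (T := (S.erase a).erase b)
      (fun v hv h1 h2 => mem_erase.2 ⟨h2, mem_erase.2 ⟨h1, hy.sub hv⟩⟩)
    by_cases h3 : k = 3
    · by_cases hsame : ∃ c ∈ S, c ≠ a ∧ c ≠ b ∧ x c = y c
      · obtain ⟨c, hcS, hca, hcb, hc⟩ := hsame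
        refine absurd (Perm.ext fun v => ?_) hxy
        by_cases hv : v ∈ S
        swap
        · rw [hx.fix hv, hy.fix hv]
        have hxb : x b = y b := by
          have h1 := hx.sq a
          have h2 := hy.sq a
          rw [← hya] at h2
          rw [hb, h1, h2]
        have hxxc : x (x c) = y (x c) := by
          rw [hx.sq, hc, hy.sq]
        by_cases hva : v = a
        · rw [hva]; exact hb.symm.trans hya
        by_cases hvb : v = b
        · rw [hvb]; exact hxb
        by_cases hvc : v = c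
        · rw [hvc]; exact hc
        by_cases hvd : v = x c
        · rw [hvd]; exact hxxc
        have hca' : x c ≠ a := fun e => hcb (by rw [← hx.sq c, e])
        have hcb' : x c ≠ b := fun e => hca (x.injective e)
        have hinS : ∀ {f : Perm α}, (∀ t, f (f t) = t) → f a = b → f c = x c → v ≠ a → v ≠ b → v ≠ c → v ≠ x c →
            (∀ {t}, t ∈ S → f t ∈ S) → f v ∈ ((((S.erase a).erase b).erase c).erase (x c)) := by
          intro f hf hfa hfc h1 h2 h3 h4 hfS
          simp only [mem_erase]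
          exact ⟨fun e => h3 (f.injective (e.trans hfc.symm)), fun e => h4 (by rw [← hfc, ← e, hf]),
            fun e => h1 (f.injective (e.trans hfa.symm)), fun e => h2 (by rw [← hfa, ← e, hf]), hfS hv⟩
        have hvT : v ∈ (((S.erase a).erase b).erase c).erase (x c) := by
          simp [hva, hvb, hvc, hvd, hv]
        have hT : ((((S.erase a).erase b).erase c).erase (x c)).card = 2 := by
          rw [card_erase_of_mem (by simp [mx hcS, hca', hcb', xS hcS]),
            card_erase_of_mem (by simp [hca, hcb, hcS]), hcard, hS, h3]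
        obtain ⟨s, t, -, hst⟩ := Finset.card_eq_two.1 hT
        have h5 := hinS hx.sq hb.symm rfl hva hvb hvc hvd xS
        have h6 := hinS hy.sq hya.symm hc.symm hva hvb hvc hvd yS
        have n5 := mx hv
        have n6 := my hv
        rw [hst, mem_insert, mem_singleton] at hvT h5 h6
        grind
      push Not at hsame
      obtain ⟨c, hc⟩ : ((S.erase a).erase b).Nonempty := card_pos.1 (by omega)
      simp only [mem_erase] at hc
      obtain ⟨hcb, hca, hcS⟩ := hc
      have hca' : x c ≠ a := fun e => hcb (by rw [← hx.sq c, e])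
      have hcb' : x c ≠ b := fun e => hca (x.injective e)
      have hda : y c ≠ a := fun e => hcb (by rw [← hy.sq c, e, ← hya])
      have hdb : y c ≠ b := fun e => hca (y.injective (e.trans hya))
      have hne : x c ≠ y c := hsame c hcS hca hcb
      set d := x c with hd
      set e₁ := y c with he₁
      set f₁ := x e₁ with hf₁
      have he₁S : e₁ ∈ S := yS hcS
      have hdS : d ∈ S := xS hcS
      have hfa : f₁ ≠ a := fun e => hdb (by rw [← hx.sq e₁, ← hf₁, e])
      have hfb : f₁ ≠ b := fun e => hda (x.injective e)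
      have hfc : f₁ ≠ c := fun e => hne (by rw [hd, ← e, hf₁, hx.sq])
      have hfd : f₁ ≠ d := fun e => my hcS (x.injective e)
      have hxd : x d = c := by rw [hd]; exact hx.sq c
      have hxf : x f₁ = e₁ := by rw [hf₁]; exact hx.sq e₁
      have hyd : y d = f₁ := by
        have hyS : y d ∈ S := yS hdS
        have h1 : y d ≠ a := fun e => hcb' (by rw [← hy.sq d, e, ← hya])
        have h2 : y d ≠ b := fun e => hca' (y.injective (e.trans hya))
        have h3' : y d ≠ c := fun e => hne (by rw [he₁, ← e, hy.sq])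
        have h4 : y d ≠ d := my hdS
        have h5 : y d ≠ e₁ := fun e => mx hcS (y.injective (e.trans he₁))
        by_contra h6
        have hsub : ({a, b, c, d, e₁, f₁, y d} : Finset α) ⊆ S := by
          simp only [insert_subset_iff, singleton_subset_iff]
          exact ⟨haS, hbS, hcS, hdS, he₁S, xS he₁S, hyS⟩
        have := nodup_le (S := S) [a, b, c, d, e₁, f₁, y d] (by
          simp only [List.nodup_cons, List.mem_cons, List.not_mem_nil, or_false, not_or, List.nodup_nil, and_true,
            not_false_eq_true]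
          exact ⟨⟨hba.symm, hca.symm, hca'.symm, hda.symm, hfa.symm, h1.symm⟩,
            ⟨hcb.symm, hcb'.symm, hdb.symm, hfb.symm, h2.symm⟩, ⟨(mx hcS).symm, (my hcS).symm, hfc.symm, h3'.symm⟩,
            ⟨hne, hfd.symm, h4.symm⟩, ⟨(mx he₁S).symm, h5.symm⟩, Ne.symm h6⟩)
          (fun v hv => hsub (by simpa using hv))
        rw [hS, h3] at this
        simp at this
      have hyf : y f₁ = d := by rw [← hyd]; exact hy.sq d
      have hye : y e₁ = c := by rw [he₁]; exact hy.sq c
      have hxb : x b = a := by rw [hb]; exact hx.sq a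
      have hyb : y b = a := by rw [hya]; exact hy.sq a
      have hd' : d ≠ c := mx hcS
      have he' : e₁ ≠ c := my hcS
      have hf' : f₁ ≠ e₁ := mx he₁S
      refine joined_of_emb hx hy (m := 6) (by rw [hS, h3]) ![a, b, c, d, e₁, f₁] ?_ ?_
        (swap 0 1 * swap 2 3 * swap 4 5) (swap 0 1 * swap 2 4 * swap 3 5) (swap 0 2 * swap 1 5 * swap 3 4)
        ?_ ?_ (by decide) (by rw [h3]; decide) ⟨3, by decide, by decide +kernel⟩ ⟨3, by decide, by decide +kernel⟩
      · intro i j hij
        fin_cases i <;> fin_cases j <;> simp at hij ⊢ <;> grind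
      · intro i; fin_cases i <;> simp [haS, hbS, hcS, hdS, he₁S, xS he₁S, hf₁]
      · intro i
        fin_cases i <;>
          simp [Perm.mul_apply, swap_apply_def, hxb, hxd, hxf, ← hb, ← hd, ← hf₁] <;>
          decide
      · intro i
        fin_cases i <;>
          simp [Perm.mul_apply, swap_apply_def, hyb, hyd, hyf, hye, ← hya, ← he₁] <;>
          decide
    · obtain ⟨z, hz, hzx, hzy⟩ := ih (k - 1) (by omega) _ _ _ (by omega) hx' hy' (fun e => absurd (show k = 3 by omega) h3)
      have hk : k = k - 1 + 1 := by omega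
      rw [hk] at hx hy ⊢
      exact ⟨z * swap a b, hz.add hba.symm (by simp) (by simp)
        ((erase_subset _ _).trans (erase_subset _ _)) haS hbS,
        common_edge hz (by simp) (by simp) hx hb.symm hzx,
        common_edge hz (by simp) (by simp) hy hya.symm hzy⟩
  push Not at hcom
  obtain ⟨B, hBS⟩ : S.Nonempty := card_pos.1 (by omega)
  by_cases h4 : k = 4
  · have hxx : ∀ {s t}, x s = t → x t = s := fun h => h ▸ hx.sq _
    have hyy : ∀ {s t}, y s = t → y t = s := fun h => h ▸ hy.sq _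
    obtain ⟨v1, hv1⟩ : ∃ v, x B = v := ⟨_, rfl⟩
    have v1S : v1 ∈ S := hv1 ▸ xS hBS
    obtain ⟨v2, hv2⟩ : ∃ v, y v1 = v := ⟨_, rfl⟩
    have v2S : v2 ∈ S := hv2 ▸ yS v1S
    obtain ⟨v3, hv3⟩ : ∃ v, x v2 = v := ⟨_, rfl⟩
    have v3S : v3 ∈ S := hv3 ▸ xS v2S
    have n10 : v1 ≠ B := hv1 ▸ mx hBS
    have n21 : v2 ≠ v1 := hv2 ▸ my v1S
    have n20 : v2 ≠ B := fun e => hcom v1 v1S (by rw [hxx hv1, hv2, e])
    have n32 : v3 ≠ v2 := hv3 ▸ mx v2S
    have n30 : v3 ≠ B := fun e => n21 (by rw [← hxx hv3, e, hv1])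
    have n31 : v3 ≠ v1 := fun e => n20 (by rw [← hxx hv3, e, hxx hv1])
    obtain ⟨v4, hv4⟩ : ∃ v, y v3 = v := ⟨_, rfl⟩
    have v4S : v4 ∈ S := hv4 ▸ yS v3S
    have n43 : v4 ≠ v3 := hv4 ▸ my v3S
    have n41 : v4 ≠ v1 := fun e => n32 (by rw [← hyy hv4, e, hv2])
    have n42 : v4 ≠ v2 := fun e => n31 (by rw [← hyy hv4, e, hyy hv2])
    by_cases c40 : v4 = B
    · rw [c40] at hv4
      obtain ⟨w, hw⟩ : ((((S.erase B).erase v1).erase v2).erase v3).Nonempty := card_pos.1 (by
        rw [card_erase_of_mem (by simp [n30, n31, n32, v3S]), card_erase_of_mem (by simp [n20, n21, v2S]),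
          card_erase_of_mem (by simp [n10, v1S]), card_erase_of_mem hBS, hS, h4]
        norm_num)
      simp only [mem_erase] at hw
      obtain ⟨w3, w2, w1, w0, hwS⟩ := hw
      obtain ⟨r1, hr1⟩ : ∃ v, x w = v := ⟨_, rfl⟩
      obtain ⟨r2, hr2⟩ : ∃ v, y r1 = v := ⟨_, rfl⟩
      obtain ⟨r3, hr3⟩ : ∃ v, x r2 = v := ⟨_, rfl⟩
      have r1S : r1 ∈ S := hr1 ▸ xS hwS
      have r2S : r2 ∈ S := hr2 ▸ yS r1S
      have r3S : r3 ∈ S := hr3 ▸ xS r2S
      have hx1 := hxx hv1
      have hx3 := hxx hv3
      have hy2 := hyy hv2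
      have hy0 := hyy hv4
      have a1 : r1 ≠ w := hr1 ▸ mx hwS
      have a10 : r1 ≠ B := fun e => w1 (by rw [← hxx hr1, e, hv1])
      have a11 : r1 ≠ v1 := fun e => w0 (by rw [← hxx hr1, e, hx1])
      have a12 : r1 ≠ v2 := fun e => w3 (by rw [← hxx hr1, e, hv3])
      have a13 : r1 ≠ v3 := fun e => w2 (by rw [← hxx hr1, e, hx3])
      have a2 : r2 ≠ r1 := hr2 ▸ my r1S
      have a20 : r2 ≠ w := fun e => hcom r1 r1S (by rw [hxx hr1, hr2, e])
      have b0 : r2 ≠ B := fun e => a13 (by rw [← hyy hr2, e, hy0])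
      have b1 : r2 ≠ v1 := fun e => a12 (by rw [← hyy hr2, e, hv2])
      have b2 : r2 ≠ v2 := fun e => a11 (by rw [← hyy hr2, e, hy2])
      have b3 : r2 ≠ v3 := fun e => a10 (by rw [← hyy hr2, e, hv4])
      have c0 : r3 ≠ B := fun e => b1 (by rw [← hxx hr3, e, hv1])
      have c1 : r3 ≠ v1 := fun e => b0 (by rw [← hxx hr3, e, hx1])
      have c2 : r3 ≠ v2 := fun e => b3 (by rw [← hxx hr3, e, hv3])
      have c3 : r3 ≠ v3 := fun e => b2 (by rw [← hxx hr3, e, hx3])
      have c4 : r3 ≠ r2 := hr3 ▸ mx r2S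
      have c5 : r3 ≠ w := fun e => a2 (by rw [← hxx hr3, e, hr1])
      have c6 : r3 ≠ r1 := fun e => a20 (by rw [← hxx hr3, e, hxx hr1])
      have hinj : Function.Injective ![B, v1, v2, v3, w, r1, r2, r3] := by
        intro i j hij
        fin_cases i <;> fin_cases j <;> simp at hij ⊢ <;> grind
      have hall : ∀ v ∈ S, v = B ∨ v = v1 ∨ v = v2 ∨ v = v3 ∨ v = w ∨ v = r1 ∨ v = r2 ∨ v = r3 := by
        have he : Finset.univ.map ⟨_, hinj⟩ = S := eq_of_subset_of_card_le
          (fun v hv => by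
            obtain ⟨i, -, rfl⟩ := Finset.mem_map.1 hv
            fin_cases i <;> simp [hBS, v1S, v2S, v3S, hwS, r1S, r2S, r3S])
          (by simp [hS, h4])
        intro v hv
        rw [← he, Finset.mem_map] at hv
        obtain ⟨i, -, rfl⟩ := hv
        fin_cases i <;> simp
      have hy3 : y r3 = w := by
        rcases hall _ (yS r3S) with e | e | e | e | e | e | e | e
        · exact absurd (by rw [← hyy e, hy0]) c3
        · exact absurd (by rw [← hyy e, hv2]) c2
        · exact absurd (by rw [← hyy e, hy2]) c1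
        · exact absurd (by rw [← hyy e, hv4]) c0
        · exact e
        · exact absurd (by rw [← hyy e, hr2]) c4
        · exact absurd (by rw [← hyy e, hyy hr2]) c6
        · exact absurd e (my r3S)
      have hyw := hyy hy3
      have hyr2 := hyy hr2
      have hxr1 := hxx hr1
      have hxr3 := hxx hr3
      refine joined_of_emb hx hy (m := 8) (by rw [hS, h4]) ![B, v1, v2, v3, w, r1, r2, r3] hinj ?_
        (swap 0 1 * swap 2 3 * swap 4 5 * swap 6 7) (swap 1 2 * swap 3 0 * swap 5 6 * swap 7 4)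
        (swap 0 1 * swap 2 4 * swap 3 7 * swap 5 6) ?_ ?_ (by decide) (by rw [h4]; decide) ⟨15, by decide, by decide +kernel⟩ ⟨15, by decide, by decide +kernel⟩
      · intro i; fin_cases i <;> simp [hBS, v1S, v2S, v3S, hwS, r1S, r2S, r3S]
      · intro i
        fin_cases i <;> simp [Perm.mul_apply, swap_apply_def, hv1, hx1, hv3, hx3, hr1, hxr1, hr3, hxr3] <;> decide
      · intro i
        fin_cases i <;> simp [Perm.mul_apply, swap_apply_def, hv2, hy2, hv4, hy0, hr2, hyr2, hy3, hyw] <;> decide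
    · obtain ⟨v5, hv5⟩ : ∃ v, x v4 = v := ⟨_, rfl⟩
      obtain ⟨v6, hv6⟩ : ∃ v, y v5 = v := ⟨_, rfl⟩
      obtain ⟨v7, hv7⟩ : ∃ v, x v6 = v := ⟨_, rfl⟩
      have v5S : v5 ∈ S := hv5 ▸ xS v4S
      have v6S : v6 ∈ S := hv6 ▸ yS v5S
      have v7S : v7 ∈ S := hv7 ▸ xS v6S
      have hx1 := hxx hv1
      have hx3 := hxx hv3
      have hx5 := hxx hv5
      have hx7 := hxx hv7
      have hy2 := hyy hv2
      have hy4 := hyy hv4
      have hy6 := hyy hv6
      have n54 : v5 ≠ v4 := hv5 ▸ mx v4S
      have n50 : v5 ≠ B := fun e => n41 (by rw [← hx5, e, hv1])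
      have n51 : v5 ≠ v1 := fun e => c40 (by rw [← hx5, e, hx1])
      have n52 : v5 ≠ v2 := fun e => n43 (by rw [← hx5, e, hv3])
      have n53 : v5 ≠ v3 := fun e => n42 (by rw [← hx5, e, hx3])
      have n65 : v6 ≠ v5 := hv6 ▸ my v5S
      have n61 : v6 ≠ v1 := fun e => n52 (by rw [← hy6, e, hv2])
      have n62 : v6 ≠ v2 := fun e => n51 (by rw [← hy6, e, hy2])
      have n63 : v6 ≠ v3 := fun e => n54 (by rw [← hy6, e, hv4])
      have n64 : v6 ≠ v4 := fun e => n53 (by rw [← hy6, e, hy4])
      have hsix : ∀ v ∈ S, v ∉ ({B, v1, v2, v3, v4, v5} : Finset α) → (({B, v1, v2, v3, v4, v5} : Finset α) ⊆ S) →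
          ∀ u ∈ S, u ∉ ({B, v1, v2, v3, v4, v5} : Finset α) → u ≠ v → ∀ t ∈ S,
            t ∈ ({B, v1, v2, v3, v4, v5} : Finset α) ∨ t = v ∨ t = u := by
        intro v hv hvn hsub u hu hun huv t ht
        by_contra hc
        push Not at hc
        have hle := nodup_le (S := S) [B, v1, v2, v3, v4, v5, v, u, t] (by
          simp only [List.nodup_cons, List.mem_cons, List.not_mem_nil, or_false, not_or, List.nodup_nil, and_true,
            not_false_eq_true]
          simp only [mem_insert, mem_singleton, not_or] at hvn hun hc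
          grind) (fun q hq => by
            simp only [List.mem_cons, List.not_mem_nil, or_false] at hq
            rcases hq with rfl | rfl | rfl | rfl | rfl | rfl | rfl | rfl | rfl <;> assumption)
        rw [hS, h4] at hle
        simp at hle
      have hsub6 : ({B, v1, v2, v3, v4, v5} : Finset α) ⊆ S := by
        simp only [insert_subset_iff, singleton_subset_iff]
        exact ⟨hBS, v1S, v2S, v3S, v4S, v5S⟩
      have n60 : v6 ≠ B := by
        intro e
        -- two further points would be joined by both involutions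
        obtain ⟨w, hw⟩ : (S \ {B, v1, v2, v3, v4, v5}).Nonempty := card_pos.1 (by
          rw [card_sdiff_of_subset hsub6, hS, h4]
          have : ({B, v1, v2, v3, v4, v5} : Finset α).card ≤ 6 := card_le_six
          omega)
        simp only [mem_sdiff] at hw
        obtain ⟨hwS, hwn⟩ := hw
        have hxw : x w ∉ ({B, v1, v2, v3, v4, v5} : Finset α) := by
          simp only [mem_insert, mem_singleton, not_or] at hwn ⊢
          grind
        have hyw : y w ∉ ({B, v1, v2, v3, v4, v5} : Finset α) := by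
          simp only [mem_insert, mem_singleton, not_or] at hwn ⊢
          grind
        rcases hsix w hwS hwn hsub6 (x w) (xS hwS) hxw (mx hwS) (y w) (yS hwS) with h | h | h
        · exact hyw h
        · exact my hwS h
        · exact hcom w hwS h.symm
      have n76 : v7 ≠ v6 := hv7 ▸ mx v6S
      have n70 : v7 ≠ B := fun e => n61 (by rw [← hx7, e, hv1])
      have n71 : v7 ≠ v1 := fun e => n60 (by rw [← hx7, e, hx1])
      have n72 : v7 ≠ v2 := fun e => n63 (by rw [← hx7, e, hv3])
      have n73 : v7 ≠ v3 := fun e => n62 (by rw [← hx7, e, hx3])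
      have n74 : v7 ≠ v4 := fun e => n65 (by rw [← hx7, e, hv5])
      have n75 : v7 ≠ v5 := fun e => n64 (by rw [← hx7, e, hx5])
      have hy7 : y v7 = B := by
        rcases hsix v6 v6S (by simp [n60, n61, n62, n63, n64, n65]) hsub6 v7 v7S
          (by simp [n70, n71, n72, n73, n74, n75]) n76 (y v7) (yS v7S) with h | h | h
        · simp only [mem_insert, mem_singleton] at h
          rcases h with e | e | e | e | e | e
          · exact e
          · exact absurd (by rw [← hyy e, hv2]) n72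
          · exact absurd (by rw [← hyy e, hy2]) n71
          · exact absurd (by rw [← hyy e, hv4]) n74
          · exact absurd (by rw [← hyy e, hy4]) n73
          · exact absurd (by rw [← hyy e, hv6]) n76
        · exact absurd (by rw [← hyy h, hy6]) n75
        · exact absurd h (my v7S)
      have hy0 := hyy hy7
      refine joined_of_emb hx hy (m := 8) (by rw [hS, h4]) ![B, v1, v2, v3, v4, v5, v6, v7] ?_ ?_
        (swap 0 1 * swap 2 3 * swap 4 5 * swap 6 7) (swap 1 2 * swap 3 4 * swap 5 6 * swap 7 0)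
        (swap 0 1 * swap 2 4 * swap 3 7 * swap 5 6) ?_ ?_ (by decide) (by rw [h4]; decide) ⟨15, by decide, by decide +kernel⟩ ⟨15, by decide, by decide +kernel⟩
      · intro i j hij
        fin_cases i <;> fin_cases j <;> simp at hij ⊢ <;> grind
      · intro i; fin_cases i <;> simp [hBS, v1S, v2S, v3S, v4S, v5S, v6S, v7S]
      · intro i
        fin_cases i <;> simp [Perm.mul_apply, swap_apply_def, hv1, hx1, hv3, hx3, hv5, hx5, hv7, hx7] <;> decide
      · intro i
        fin_cases i <;> simp [Perm.mul_apply, swap_apply_def, hv2, hy2, hv4, hy4, hv6, hy6, hy7, hy0] <;> decide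
  · -- contraction
    set C := x B with hC
    have hCS : C ∈ S := xS hBS
    have hk3 : 3 ≤ k := by
      have := nodup_le (S := S) [B, C, y B] (by simp [(mx hBS).symm, (my hBS).symm, hC, hcom B hBS])
        (by simp [hBS, hCS, yS hBS])
      rw [hS] at this
      simp at this
      omega
    obtain ⟨A, hA⟩ : ((((S.erase B).erase C).erase (y B)).erase (y C)).Nonempty := card_pos.1 (by
      have h1 : ∀ (T : Finset α) (t : α), T.card - 1 ≤ (T.erase t).card := fun T t => pred_card_le_card_erase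
      have := h1 S B
      have := h1 (S.erase B) C
      have := h1 ((S.erase B).erase C) (y B)
      have := h1 (((S.erase B).erase C).erase (y B)) (y C)
      omega)
    simp only [mem_erase] at hA
    obtain ⟨hAyC, hAyB, hAC, hAB, hAS⟩ := hA
    set D := y A with hD
    have hDS : D ∈ S := yS hAS
    have hDB : D ≠ B := fun e => hAyB (by rw [← e, hy.sq])
    have hDC : D ≠ C := fun e => hAyC (by rw [← e, hy.sq])
    have hDA : D ≠ A := my hAS
    have hCB : C ≠ B := mx hBS
    have hxC : x C = B := hx.sq B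
    have hndx : [A, B, C, D, x A, x D].Nodup := by
      simp only [List.nodup_cons, List.mem_cons, List.not_mem_nil, or_false, not_or, List.nodup_nil, and_true,
        not_false_eq_true]
      refine ⟨⟨hAB, hAC, hDA.symm, (mx hAS).symm, fun e => hcom A hAS ?_⟩, ⟨hCB.symm, hDB.symm, fun e => hAC ?_, fun e => hDC ?_⟩,
        ⟨hDC.symm, fun e => hAB (x.injective e.symm), fun e => hDB (x.injective e.symm)⟩, ⟨fun e => hcom A hAS ?_, (mx hDS).symm⟩,
        fun e => hDA (x.injective e).symm⟩
      · show x A = D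
        conv_lhs => rw [e]
        exact hx.sq D
      · rw [← hx.sq A, ← e]
      · rw [← hx.sq D, ← e]
      · show x A = D
        exact e.symm
    have hndy : [B, A, D, C, y B, y C].Nodup := by
      simp only [List.nodup_cons, List.mem_cons, List.not_mem_nil, or_false, not_or, List.nodup_nil, and_true,
        not_false_eq_true]
      refine ⟨⟨hAB.symm, hDB.symm, hCB.symm, (my hBS).symm, fun e => hcom B hBS ?_⟩, ⟨hDA.symm, hAC, hAyB, hAyC⟩,
        ⟨hDC, fun e => hAB (y.injective e), fun e => hAC (y.injective e)⟩, ⟨fun e => hcom B hBS ?_, (my hCS).symm⟩,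
        fun e => hCB (y.injective e).symm⟩
      · show C = y B
        conv_rhs => rw [e]
        exact (hy.sq C).symm
      · exact e
    have hk : k = k - 2 + 2 := by omega
    have hx2 := hx
    have hy2 := hy
    rw [hk] at hx2 hy2
    have hT : (((S.erase B).erase A).erase D).erase C = (((S.erase A).erase B).erase C).erase D := by
      ext v; simp only [mem_erase]; tauto
    have hx' := contract_mt hx2 hxs (u := x A) (w := x D) rfl rfl hC.symm hndx
    have hy' := contract_mt hy2 hys (A := B) (B := A) (C := D) (D := C) (u := y B) (w := y C) rfl rfl hD.symm hndy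
    rw [hT] at hy'
    have hc : ((((S.erase A).erase B).erase C).erase D).card = 2 * (k - 2) := by
      rw [card_erase_of_mem (by simp [hDA, hDB, hDC, hDS]), card_erase_of_mem (by simp [hAC.symm, hCB, hCS]),
        card_erase_of_mem (by simp [hAB.symm, hBS]), card_erase_of_mem hAS, hS]
      omega
    obtain ⟨z, hz, hzx, hzy⟩ := ih (k - 2) (by omega) _ _ _ hc hx' hy' (fun e => absurd (show k = 4 by omega) h4)
    have hz1 := hz.add (S := ((S.erase C).erase D)) hAB (by simp) (by simp)
      (fun v hv => by simp only [mem_erase] at hv ⊢; tauto) (by simp [hAC, hDA.symm, hAS]) (by simp [hCB.symm, hDB.symm, hBS])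
    have hz2 := hz1.add (S := S) hDC.symm (by simp) (by simp)
      ((erase_subset _ _).trans (erase_subset _ _)) hCS hDS
    rw [show k - 2 + 1 + 1 = k by omega] at hz2
    refine ⟨_, hz2, odd_contract hx.sq hz rfl rfl hC.symm (by simp) (by simp) (by simp) (by simp) hndx hzx, ?_⟩
    have := odd_contract hy.sq hz (A := B) (B := A) (C := D) (D := C) (u := y B) (w := y C) rfl rfl hD.symm
      (by simp) (by simp) (by simp) (by simp) hndy hzy
    rwa [swap_comm B A, swap_comm D C] at this

theorem joined {n : ℕ} (hn : 5 ≤ n) {k : ℕ} {x y : Perm (Fin n)} (hx : Mt univ k x) (hy : Mt univ k y) :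
    Joined univ k x y := by
  have hle : 2 * k ≤ n := by
    have := card_le_univ x.support
    rw [hx.card, Fintype.card_fin] at this
    exact this
  rcases hle.lt_or_eq with h | h
  · exact joined_of_lt k _ x y (by simpa using h) hx hy
  · exact joined_of_eq k _ x y (by simp [h]) hx hy (by omega)

/-- A class of involutions is described by the support size. -/
theorem mt_iff {n : ℕ} {t x : Perm (Fin n)} (ht : orderOf t = 2) :
    IsConj t x ↔ Mt univ (t.support.card / 2) x := by
  have key : ∀ w : Perm (Fin n), w * w = 1 → w.cycleType = Multiset.replicate (w.support.card / 2) 2 := by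
    intro w hw
    have h : ∀ c ∈ w.cycleType, c = 2 := fun c hc => by
      have h1 : c ∣ 2 := (Perm.dvd_of_mem_cycleType hc).trans (orderOf_dvd_of_pow_eq_one (by rw [pow_two, hw]))
      have h2 := Perm.two_le_of_mem_cycleType hc
      exact le_antisymm (Nat.le_of_dvd (by norm_num) h1) h2
    have h1 := Multiset.eq_replicate_card.2 h
    rw [← Perm.sum_cycleType]
    conv_rhs => rw [h1, Multiset.sum_replicate, smul_eq_mul, Nat.mul_div_cancel _ (by norm_num)]
    exact h1
  have ht2 : t * t = 1 := by rw [← pow_two, ← ht, pow_orderOf_eq_one]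
  have hcard : t.support.card = 2 * (t.support.card / 2) := by
    conv_lhs => rw [← Perm.sum_cycleType, key t ht2, Multiset.sum_replicate, smul_eq_mul]
    exact mul_comm _ _
  constructor
  · intro hc
    have hx2 : x * x = 1 := by
      obtain ⟨g, rfl⟩ := isConj_iff.1 hc
      rw [show g * t * g⁻¹ * (g * t * g⁻¹) = g * (t * t) * g⁻¹ by group, ht2]
      group
    refine ⟨fun v => by rw [← Perm.mul_apply, hx2]; rfl, subset_univ _, ?_⟩
    rw [← Perm.sum_cycleType, ← Perm.isConj_iff_cycleType_eq.1 hc, Perm.sum_cycleType]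
    exact hcard
  · intro hx
    rw [Perm.isConj_iff_cycleType_eq, key t ht2, key x (Perm.ext hx.sq), hx.card]
    congr 1
    omega

/-- Two distinct commuting members of the class. -/
theorem exists_commuting {n : ℕ} (hn : 5 ≤ n) {k : ℕ} (hk : 1 ≤ k) {x : Perm (Fin n)} (hx : Mt univ k x) :
    ∃ y, Mt univ k y ∧ y ≠ x ∧ x * y = y * x := by
  obtain ⟨a, ha⟩ : x.support.Nonempty := card_pos.1 (by rw [hx.card]; omega)
  set b := x a with hb
  have hba : b ≠ a := Perm.mem_support.1 ha
  have hxb : x b = a := hx.sq a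
  obtain ⟨hx', f1, f2, f3⟩ := hx.erase hb.symm hba (T := (univ.erase a).erase b) (fun v _ h1 h2 => by simp [h1, h2])
  by_cases hk1 : k = 1
  · have hs : x.support = {a, b} := (eq_of_subset_of_card_le (by
      simp [insert_subset_iff, ha, Perm.mem_support, hxb, hba.symm]) (by rw [hx.card, hk1, card_pair hba.symm])).symm
    obtain ⟨p, hp, q, hq, hpq⟩ := one_lt_card.1 (show 1 < (univ \ x.support).card by
      rw [card_sdiff_of_subset (subset_univ _), hx.card, hk1, card_univ, Fintype.card_fin]; omega)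
    simp only [mem_sdiff, mem_univ, true_and, Perm.notMem_support] at hp hq
    have hone : Mt (∅ : Finset (Fin n)) 0 (1 : Perm (Fin n)) := ⟨fun _ => rfl, by simp, by simp⟩
    have := hone.add (S := univ) hpq (by simp) (by simp) (by simp) (mem_univ p) (mem_univ q)
    rw [one_mul, zero_add] at this
    refine ⟨swap p q, hk1 ▸ this, fun e => ?_, ?_⟩
    · have h1 : swap p q p = x p := by rw [e]
      rw [swap_apply_left, hp] at h1
      exact hpq h1.symm
    · rw [Equiv.mul_swap_eq_swap_mul, hp, hq]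
  · obtain ⟨c, hc⟩ : (x * swap a b).support.Nonempty := card_pos.1 (by rw [hx'.card]; omega)
    set d := (x * swap a b) c with hd
    have hdc : d ≠ c := Perm.mem_support.1 hc
    have hca : c ≠ a := fun e => Perm.mem_support.1 hc (e ▸ f1)
    have hcb : c ≠ b := fun e => Perm.mem_support.1 hc (e ▸ f2)
    have hdx : d = x c := hd ▸ f3 c hca hcb
    have hda : d ≠ a := fun e => hcb (by rw [← hx.sq c, ← hdx, e])
    have hdb : d ≠ b := fun e => hca (x.injective (hdx ▸ e))
    obtain ⟨hx'', g1, g2, g3⟩ := hx'.erase hd.symm hdc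
      (T := (((univ.erase a).erase b).erase c).erase d) (fun v hv h1 h2 =>
        mem_erase.2 ⟨h2, mem_erase.2 ⟨h1, hx'.sub hv⟩⟩)
    set x₀ := x * swap a b * swap c d with hx₀
    have h1 := hx''.add (S := (univ.erase b).erase d) hca.symm (by simp) (by simp)
      (fun v hv => by simp only [mem_erase, mem_univ, and_true] at hv ⊢; tauto) (by simp [hda.symm, hba.symm]) (by simp [hdc.symm, hcb])
    have h2 := h1.add (S := univ) hdb.symm (by simp) (by simp) (subset_univ _) (mem_univ b) (mem_univ d)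
    rw [show k - 1 - 1 + 1 + 1 = k by omega] at h2
    have hxx : x = x₀ * swap c d * swap a b := by
      rw [hx₀, mul_assoc (x * swap a b), Equiv.swap_mul_self, mul_one, mul_assoc, Equiv.swap_mul_self, mul_one]
    refine ⟨x₀ * swap a c * swap b d, h2, fun e => ?_, ?_⟩
    · have h3 : (x₀ * swap a c * swap b d) a = x a := by rw [e]
      rw [Perm.mul_apply, Perm.mul_apply, swap_apply_of_ne_of_ne hba.symm hda.symm, swap_apply_left, g1] at h3
      exact hcb (h3.trans hb.symm)
    · set y := x₀ * swap a c * swap b d with hy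
      have hx0a : x₀ a = a := hx''.fix (by simp)
      have hx0b : x₀ b = b := hx''.fix (by simp)
      have ya : y a = c := by simp [hy, swap_apply_of_ne_of_ne hba.symm hda.symm, g1]
      have yb : y b = d := by simp [hy, swap_apply_of_ne_of_ne hda hdc, g2]
      have yc : y c = a := by simp [hy, swap_apply_of_ne_of_ne hcb hdc.symm, hx0a]
      have yd : y d = b := by simp [hy, swap_apply_of_ne_of_ne hba hcb.symm, hx0b]
      have hxd : x d = c := by rw [hdx]; exact hx.sq c
      have hoth : ∀ v, v ≠ a → v ≠ b → v ≠ c → v ≠ d → y v = x v := fun v va vb vc vd => by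
        simp [hy, hx₀, swap_apply_of_ne_of_ne va vc, swap_apply_of_ne_of_ne vb vd, swap_apply_of_ne_of_ne va vb, swap_apply_of_ne_of_ne vc vd]
      refine Perm.ext fun v => ?_
      simp only [Perm.mul_apply]
      by_cases va : v = a
      · rw [va, ya, ← hb, yb, ← hdx]
      by_cases vb : v = b
      · rw [vb, yb, hxb, ya, hxd]
      by_cases vc : v = c
      · rw [vc, yc, ← hdx, yd, hb]
      by_cases vd : v = d
      · rw [vd, yd, hxb, hxd, yc]
      have h1 : x v ≠ a := fun e => vb (by rw [← hx.sq v, e])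
      have h2 : x v ≠ b := fun e => va (x.injective (e.trans hb))
      have h3 : x v ≠ c := fun e => vd (by rw [← hx.sq v, e, hdx])
      have h4 : x v ≠ d := fun e => vc (x.injective (e.trans hdx))
      rw [hoth v va vb vc vd, hoth _ h1 h2 h3 h4]

theorem main (n : ℕ) (hn : 5 ≤ n) (t : Perm (Fin n)) (ht : orderOf t = 2) :
    (SimpleGraph.fromRel fun x y : {x : Perm (Fin n) // IsConj t x} => Odd (orderOf (x.1 * y.1))).Connected ∧
      (SimpleGraph.fromRel fun x y : {x : Perm (Fin n) // IsConj t x} => Odd (orderOf (x.1 * y.1))).diam = 2 := by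
  set G := SimpleGraph.fromRel fun x y : {x : Perm (Fin n) // IsConj t x} => Odd (orderOf (x.1 * y.1)) with hG
  set k := t.support.card / 2 with hk
  have hk1 : 1 ≤ k := by
    have h1 : 2 ≤ t.support.card := Perm.two_le_card_support_of_ne_one fun e => by
      rw [e, orderOf_one] at ht; omega
    omega
  have hadj : ∀ x y : {x : Perm (Fin n) // IsConj t x}, x = y ∨ Odd (orderOf (x.1 * y.1)) → G.edist x y ≤ 1 := by
    intro x y h
    by_cases hxy : x = y
    · subst hxy; simp
    · exact le_of_eq (SimpleGraph.edist_eq_one_iff_adj.2 ⟨hxy, Or.inl (h.resolve_left hxy)⟩)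
  have htwo : ∀ x y : {x : Perm (Fin n) // IsConj t x}, G.edist x y ≤ 2 := by
    intro x y
    obtain ⟨z, hz, h1, h2⟩ := joined hn ((mt_iff ht).1 x.2) ((mt_iff ht).1 y.2)
    let Z : {x : Perm (Fin n) // IsConj t x} := ⟨z, (mt_iff ht).2 hz⟩
    calc G.edist x y ≤ G.edist x Z + G.edist Z y := SimpleGraph.edist_triangle
      _ ≤ 1 + 1 := add_le_add (hadj x Z (Or.inr h1))
          (by rw [SimpleGraph.edist_comm]; exact hadj y Z (Or.inr h2))
      _ = 2 := by norm_num
  have : Nonempty {x : Perm (Fin n) // IsConj t x} := ⟨⟨t, IsConj.refl t⟩⟩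
  have hconn : G.Connected := by
    refine (SimpleGraph.connected_iff _).2 ⟨fun x y => ?_, inferInstance⟩
    exact SimpleGraph.reachable_of_edist_ne_top (ne_top_of_le_ne_top (by simp) (htwo x y))
  refine ⟨hconn, ?_⟩
  have hle : G.ediam ≤ 2 := SimpleGraph.ediam_le_iff.2 htwo
  obtain ⟨y, hy, hyx, hcomm⟩ := exists_commuting hn hk1 ((mt_iff ht).1 (IsConj.refl t))
  let T : {x : Perm (Fin n) // IsConj t x} := ⟨t, IsConj.refl t⟩
  let Y : {x : Perm (Fin n) // IsConj t x} := ⟨y, (mt_iff ht).2 hy⟩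
  have hne : T ≠ Y := fun e => hyx (congrArg Subtype.val e).symm
  have heven : ∀ u v : Perm (Fin n), u * v = v * u → u * u = 1 → v * v = 1 → Odd (orderOf (u * v)) → u = v := by
    intro u v hc hu hv ho
    have h2 : orderOf (u * v) ∣ 2 := orderOf_dvd_of_pow_eq_one (by
      rw [pow_two, mul_assoc, ← mul_assoc v, ← hc, mul_assoc, hv, mul_one, hu])
    have h1 : u * v = 1 := orderOf_eq_one_iff.1
      (((Nat.dvd_prime Nat.prime_two).1 h2).resolve_right fun h => by rw [h] at ho; exact absurd ho (by decide))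
    rw [eq_inv_of_mul_eq_one_left h1]
    exact (eq_inv_of_mul_eq_one_left hv).symm
  have ht2 : t * t = 1 := by rw [← pow_two, ← ht, pow_orderOf_eq_one]
  have hy2 : y * y = 1 := Perm.ext hy.sq
  have h1 : ¬ G.edist T Y ≤ 1 := fun h => by
    have hpos : G.edist T Y ≠ 0 := fun e => hne (SimpleGraph.edist_eq_zero_iff.1 e)
    have h' : G.edist T Y = 1 := le_antisymm h (Order.one_le_iff_pos.2 (pos_iff_ne_zero.2 hpos))
    rcases (SimpleGraph.edist_eq_one_iff_adj.1 h').2 with ho | ho
    · exact hyx (heven t y hcomm ht2 hy2 ho).symm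
    · exact hyx (heven y t hcomm.symm hy2 ht2 ho)
  have hge : 2 ≤ G.ediam := by
    refine le_trans ?_ (SimpleGraph.edist_le_ediam (u := T) (v := Y))
    exact Order.add_one_le_of_lt (not_le.1 h1)
  rw [SimpleGraph.diam, le_antisymm hle hge]
  rfl

end Cfsg.Agent.InvolOddGraph
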