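import Cfsg.Statements.S3439
import Cfsg.Agent.SpecU42.TwoFrob
import Cfsg.Agent.SpecU42.Spectrum

set_option autoImplicit false
open Cfsg

namespace Cfsg.Agent.S3439

section Prep

theorem range_orderOf_eq {G : Type*} [Group G] [Finite G]
    (h : ∀ x : G, orderOf x ∣ 5 ∨ orderOf x ∣ 9 ∨ orderOf x ∣ 12)
    (h5 : ∃ x : G, orderOf x = 5) (h9 : ∃ x : G, orderOf x = 9) (h12 : ∃ x : G, orderOf x = 12) :
    Set.range (orderOf : G → ℕ) = {d | d ∣ 5 ∨ d ∣ 9 ∨ d ∣ 12} := by
  have key : ∀ {n d : ℕ}, (∃ x : G, orderOf x = n) → d ∣ n → ∃ y : G, orderOf y = d := by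
    rintro n d ⟨x, rfl⟩ ⟨e, he⟩
    have hp := orderOf_pos x
    have he0 : e ≠ 0 := by rintro rfl; omega
    exact ⟨x ^ e, by rw [orderOf_pow' x he0, Nat.gcd_eq_right ⟨d, by rw [he, mul_comm]⟩, he,
      Nat.mul_div_cancel _ (Nat.pos_of_ne_zero he0)]⟩
  refine Set.eq_of_subset_of_subset ?_ ?_
  · rintro d ⟨x, rfl⟩
    exact h x
  · rintro d (hd | hd | hd)
    exacts [key h5 hd, key h9 hd, key h12 hd]

end Prep

/-- There is a finite solvable group with exactly the same set of element orders as the simple group PSp(4,3). -/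
theorem result {F : Type*} [Field F] [Fintype F] (hF : Fintype.card F = 3) :
    ∃ (H : Type) (_ : Group H) (_ : Fintype H), Group.IsSolvable H ∧ Set.range (orderOf : H → ℕ) = Set.range (orderOf : Cfsg.PSp 2 F → ℕ) := by
  refine ⟨SpecU42.H, inferInstance, Fintype.ofFinite _, SpecU42.isSolvable, ?_⟩
  rw [range_orderOf_eq SpecU42.order_dvd SpecU42.exists_five SpecU42.exists_nine SpecU42.exists_twelve,
    range_orderOf_eq (SpecU42.psp_order_dvd hF) (SpecU42.exists_psp_five hF) (SpecU42.exists_psp_nine hF)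
      (SpecU42.exists_psp_twelve hF)]

end Cfsg.Agent.S3439
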