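import Cfsg.Statements.S2905
import Cfsg.Agent.Core.Basics
import Cfsg.Agent.Core.PCore
import Cfsg.Agent.Fusion.Residual
import Cfsg.Agent.Layer.Subnormal

set_option autoImplicit false
open Cfsg

set_option linter.all false

namespace Cfsg.Agent.S2905

open Subgroup

theorem descend {P : Type*} [Group P] [Finite P] (S F M K : Subgroup P) (hKM : K ≤ M) (hSK : S ≤ normalizer (K : Set P))
    (hbig : ∀ L : Subgroup P, ¬ L ≤ M → L ⊔ S = ⊤) (hF : ∀ C : Subgroup P, C.Normal → C ≤ M → C ≤ F) :
    ∀ n (L : Subgroup P), Nat.card L = n → K ≤ L → (K.subgroupOf L).IsSubnormal → S ≤ normalizer (L : Set P) →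
      ¬ L ≤ M → K ≤ F := by
  intro n
  induction n using Nat.strong_induction_on with
  | _ n ih =>
  intro L hn hKL hsn hSL hLM
  rcases hsn.lt_normal with h | ⟨C0, hC0n, hKC0, hC0⟩
  · exact absurd (subgroupOf_eq_top.mp h) fun h' => hLM (h'.trans hKM)
  set C := (normalClosure ((K.subgroupOf L : Subgroup L) : Set L)).map L.subtype with hC
  have hCL : C < L := by
    refine lt_of_le_of_ne (map_subtype_le _) fun e => hC0.ne (top_le_iff.mp ?_)
    haveI := hC0n
    refine le_trans (le_of_eq ?_) (normalClosure_le_normal hKC0)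
    apply map_injective L.subtype_injective
    rw [← MonoidHom.range_eq_map, range_subtype]
    exact e.symm
  have hKC : K ≤ C := fun k hk => ⟨⟨k, hKL hk⟩, subset_normalClosure hk, rfl⟩
  have hmin : ∀ D : Subgroup P, K ≤ D → L ≤ normalizer (D : Set P) → C ≤ D := by
    intro D hKD hLD
    rw [hC, map_le_iff_le_comap]
    haveI : (D.subgroupOf L).Normal := normal_subgroupOf_of_le_normalizer hLD
    exact normalClosure_le_normal (N := D.subgroupOf L) fun k hk => hKD hk
  have hLC : L ≤ normalizer (C : Set P) := fun l hl => (le_normalizer_map L.subtype)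
    ⟨⟨l, hl⟩, (normalizer_eq_top (H := normalClosure ((K.subgroupOf L : Subgroup L) : Set L))).ge (mem_top _), rfl⟩
  have hSC : S ≤ normalizer (C : Set P) := by
    intro s hs
    have h1 : C ≤ C.comap (MulAut.conj s).toMonoidHom := by
      refine hmin _ (fun k hk => hKC ((mem_normalizer_iff.mp (hSK hs) k).mp hk)) fun l hl => ?_
      have hl' : s * l * s⁻¹ ∈ normalizer (C : Set P) := hLC ((mem_normalizer_iff.mp (hSL hs) l).mp hl)
      rw [mem_normalizer_iff]
      intro y
      show s * y * s⁻¹ ∈ C ↔ s * (l * y * l⁻¹) * s⁻¹ ∈ C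
      rw [mem_normalizer_iff.mp hl' (s * y * s⁻¹)]
      rw [show s * l * s⁻¹ * (s * y * s⁻¹) * (s * l * s⁻¹)⁻¹ = s * (l * y * l⁻¹) * s⁻¹ by group]
    have heq : C.map (MulAut.conj s).toMonoidHom = C :=
      eq_of_le_of_card_ge (map_le_iff_le_comap.mpr h1) (card_map_of_injective (MulAut.conj s).injective).ge
    rw [mem_normalizer_iff]
    intro y
    refine ⟨fun hy => h1 hy, fun hy => ?_⟩
    obtain ⟨z, hz, hzy⟩ := heq.ge hy
    rwa [← mul_left_cancel (mul_right_cancel (show s * z * s⁻¹ = s * y * s⁻¹ from hzy))]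
  by_cases hCM : C ≤ M
  · have : C.Normal := normalizer_eq_top_iff.mp (top_le_iff.mp ((hbig L hLM).ge.trans (sup_le hLC hSC)))
    exact hKC.trans (hF C this hCM)
  · refine ih _ ?_ C rfl hKC ?_ hSC hCM
    · rw [← hn]
      refine lt_of_le_of_ne (card_le_of_le hCL.le) fun e => hCL.ne (eq_of_le_of_card_ge hCL.le e.ge)
    · have := hsn.comap (inclusion hCL.le)
      exact this

/-- Let P be a finite p-minimal group (a Sylow p-subgroup S is not normal and lies in a unique maximal subgroup M of P) and let F be the normal core of M. Then: every subnormal subgroup N of P contained in M satisfies N ∩ S ≤ O_p(P); if O^p(P) has a normal Sylow p-subgroup then the order of P has at most two prime divisors; every normal subgroup N of P either contains O^p(P) or is contained in F; and O^p(P)F ⧸ F is a minimal normal subgroup of P ⧸ F. -/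
theorem result {P : Type*} [Group P] [Finite P] {p : ℕ} [Fact p.Prime] (hP : Cfsg.IsPMinimal p P) (S : Sylow p P) (M : Subgroup P) (hM : IsCoatom M) (hSM : (S : Subgroup P) ≤ M) [hF : M.normalCore.Normal] : (∀ N : Subgroup P, N.IsSubnormal → N ≤ M → N ⊓ (S : Subgroup P) ≤ Cfsg.pCore p P) ∧ ((∀ T : Sylow p ↥(Cfsg.pResidual p P), (T : Subgroup ↥(Cfsg.pResidual p P)).Normal) → (Nat.card P).primeFactors.card ≤ 2) ∧ (∀ N : Subgroup P, N.Normal → Cfsg.pResidual p P ≤ N ∨ N ≤ M.normalCore) ∧ (∀ N : Subgroup P, N.Normal → M.normalCore ≤ N → N ≤ Cfsg.pResidual p P ⊔ M.normalCore → N = M.normalCore ∨ N = Cfsg.pResidual p P ⊔ M.normalCore) ∧ M.normalCore < Cfsg.pResidual p P ⊔ M.normalCore := by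
  obtain ⟨hSn, hex⟩ := hP S
  obtain ⟨M0, hM0, huniq⟩ := hex
  have hle : ∀ X : Subgroup P, (S : Subgroup P) ≤ X → X ≠ ⊤ → X ≤ M := by
    intro X hX hne
    obtain ⟨C, hC, hXC⟩ := (eq_top_or_exists_le_coatom X).resolve_left hne
    rw [huniq M ⟨hM, hSM⟩, ← huniq C ⟨hC, hX.trans hXC⟩]
    exact hXC
  have hbig : ∀ L : Subgroup P, ¬ L ≤ M → L ⊔ (S : Subgroup P) = ⊤ := fun L hL => by
    by_contra hne
    exact hL (le_sup_left.trans (hle _ le_sup_right hne))
  set R := Cfsg.pResidual p P with hR
  have hRS : (S : Subgroup P) ⊔ R = ⊤ :=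
    Fusion.sylow_sup_eq_top_of_isPGroup_quotient S R Fusion.isPGroup_quotient_pResidual
  have hRM : ¬ R ≤ M := fun h => hM.1 (top_le_iff.mp (hRS.ge.trans (sup_le hSM h)))
  set F := M.normalCore with hFdef
  have hFM : F ≤ M := M.normalCore_le
  have hFmax : ∀ C : Subgroup P, C.Normal → C ≤ M → C ≤ F := fun C hC hCM => by
    haveI := hC; exact normal_le_normalCore.mpr hCM
  -- normal subgroups
  have hthree : ∀ N : Subgroup P, N.Normal → R ≤ N ∨ N ≤ F := by
    intro N hN
    by_cases hNM : N ≤ M
    · exact Or.inr (hFmax N hN hNM)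
    haveI := hN
    refine Or.inl (Fusion.pResidual_le_of_isPGroup_quotient N ?_)
    intro u
    obtain ⟨x, rfl⟩ := QuotientGroup.mk'_surjective N u
    obtain ⟨n, hn, s, hs, rfl⟩ := mem_sup_of_normal_left.mp ((hbig N hNM).ge (mem_top x))
    obtain ⟨k, hk⟩ := S.isPGroup' ⟨s, hs⟩
    refine ⟨k, ?_⟩
    rw [map_mul, show QuotientGroup.mk' N n = 1 from (QuotientGroup.eq_one_iff n).mpr hn, one_mul, ← map_pow,
      show s ^ p ^ k = 1 from congrArg Subtype.val hk, map_one]
  refine ⟨?_, ?_, hthree, fun N hN hFN hNR => ?_, lt_of_le_of_ne le_sup_right fun e => hRM ((le_sup_left.trans e.ge).trans hFM)⟩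
  · -- subnormal subgroups of `M`
    intro N hN hNM
    obtain ⟨K, ⟨hKsn, hKM, hNK⟩, hKmax⟩ := Set.Finite.exists_maximal
      (Set.toFinite {K : Subgroup P | K.IsSubnormal ∧ K ≤ M ∧ N ≤ K}) ⟨N, hN, hNM, le_rfl⟩
    have hSK : (S : Subgroup P) ≤ normalizer (K : Set P) := by
      intro s hs
      set K' := K.map (MulAut.conj s).toMonoidHom with hK'
      have h1 : K'.IsSubnormal := hKsn.map (MulAut.conj s).surjective
      have h2 : K' ≤ M := by
        rintro _ ⟨k, hk, rfl⟩
        exact mul_mem (mul_mem (hSM hs) (hKM hk)) (inv_mem (hSM hs))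
      have h3 : K ⊔ K' ≤ K := hKmax ⟨Layer.isSubnormal_sup hKsn h1, sup_le hKM h2, hNK.trans le_sup_left⟩ le_sup_left
      have heq : K' = K := eq_of_le_of_card_ge (le_sup_right.trans h3) (card_map_of_injective (MulAut.conj s).injective).ge
      rw [mem_normalizer_iff]
      intro y
      refine ⟨fun hy => heq.le ⟨y, hy, rfl⟩, fun hy => ?_⟩
      obtain ⟨z, hz, hzy⟩ := heq.ge hy
      rwa [← mul_left_cancel (mul_right_cancel (show s * z * s⁻¹ = s * y * s⁻¹ from hzy))]
    have hKF : K ≤ F := descend (S : Subgroup P) F M K hKM hSK hbig hFmax _ ⊤ rfl le_top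
      (hKsn.comap (⊤ : Subgroup P).subtype) (by rw [normalizer_eq_top (H := (⊤ : Subgroup P))]; exact le_top)
      (fun h => hM.1 (top_le_iff.mp h))
    haveI : F.Normal := hF
    set T := F ⊓ (S : Subgroup P) with hT
    obtain ⟨Q, hQ⟩ : ∃ Q : Sylow p F, (Q : Subgroup F) = (S : Subgroup P).subgroupOf F := by
      obtain ⟨Q, hQ⟩ := (S.isPGroup'.comap_of_injective F.subtype F.subtype_injective).exists_le_sylow
      refine ⟨Q, (eq_of_le_of_card_ge hQ ?_).symm⟩
      obtain ⟨S2, hS2⟩ := (Q.isPGroup'.map F.subtype).exists_le_sylow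
      obtain ⟨c, hc⟩ := MulAction.exists_smul_eq P S2 S
      let cF : F ≃* F := MulAut.conjNormal c
      have hle' : (Q : Subgroup F).map cF.toMonoidHom ≤ (S : Subgroup P).comap F.subtype := by
        rintro _ ⟨u, hu, rfl⟩
        rw [← hc, mem_comap, Sylow.coe_subgroup_smul]
        exact smul_mem_pointwise_smul (u : P) (MulAut.conj c) (S2 : Subgroup P) (hS2 ⟨u, hu, rfl⟩)
      exact (card_map_of_injective cF.injective).ge.trans (card_le_of_le hle')
    have hfr := Sylow.normalizer_sup_eq_top Q
    rw [hQ, subgroupOf_map_subtype, inf_comm, ← hT] at hfr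
    have hTn : T.Normal := by
      rw [← normalizer_eq_top_iff]
      by_contra hne
      refine hM.1 (top_le_iff.mp (hfr.ge.trans (sup_le (hle _ ?_ hne) hFM)))
      exact fun s hs => Subgroup.inf_normalizer_le_normalizer_inf ⟨(normalizer_eq_top (H := F)).ge (mem_top s), le_normalizer hs⟩
    refine le_trans (inf_le_inf_right _ (hNK.trans hKF)) ?_
    exact Core.le_pCore (S.isPGroup'.to_le inf_le_right)
  · -- `p`-closed residual
    intro hT
    by_contra hcard
    push Not at hcard
    apply hRM
    obtain ⟨T⟩ : Nonempty (Sylow p R) := inferInstance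
    haveI hTn := hT T
    set T' := (T : Subgroup R).map R.subtype with hT'
    haveI hT'n : T'.Normal := by
      haveI : (T : Subgroup R).Characteristic := T.characteristic_of_normal hTn
      exact ConjAct.normal_of_characteristic_of_normal
    have hTS : T' ≤ (S : Subgroup P) := (T.isPGroup'.map R.subtype).le_sylow_of_normal S
    have key : ∀ r : ℕ, r.Prime → r ≠ p → ∃ Q : Sylow r R, (Q : Subgroup R).map R.subtype ≤ M := by
      intro r hr hrp
      haveI := Fact.mk hr
      obtain ⟨Q⟩ : Nonempty (Sylow r R) := inferInstance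
      set Q' := (Q : Subgroup R).map R.subtype with hQ'
      set K := T' ⊔ Q' with hK
      have hfr := Sylow.normalizer_sup_eq_top Q
      have hnn : normalizer (Q' : Set P) ≤ normalizer (K : Set P) := fun z hz =>
        Subgroup.normalizer_inf_normalizer_le_normalizer_sup T' Q' ⟨(normalizer_eq_top (H := T')).ge (mem_top z), hz⟩
      have hRK : normalizer (K : Set P) ⊔ R = ⊤ := top_le_iff.mp (hfr.ge.trans (sup_le_sup_right hnn _))
      have hTK : T' ≤ normalizer (K : Set P) := le_sup_left.trans le_normalizer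
      obtain ⟨S0⟩ : Nonempty (Sylow p ↥(normalizer (K : Set P))) := inferInstance
      set S0' := (S0 : Subgroup ↥(normalizer (K : Set P))).map (normalizer (K : Set P)).subtype with hS0'
      have hidx : ¬ p ∣ (normalizer (K : Set P)).index := by
        have e : (normalizer (K : Set P)).relIndex R = (normalizer (K : Set P)).index := by
          have e1 : R.relIndex (normalizer (K : Set P)) = R.index := by
            rw [← relIndex_sup_right, hRK, relIndex_top_right]
          have e2 := relIndex_mul_index (inf_le_right : normalizer (K : Set P) ⊓ R ≤ R)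
          have e3 := relIndex_mul_index (inf_le_left : normalizer (K : Set P) ⊓ R ≤ normalizer (K : Set P))
          rw [inf_relIndex_right] at e2
          rw [inf_relIndex_left, e1, ← e2, mul_comm R.index] at e3
          exact (Nat.eq_of_mul_eq_mul_right (Nat.pos_of_ne_zero index_ne_zero_of_finite) e3).symm
        rw [← e]
        intro hd
        have h1 : (normalizer (K : Set P)).relIndex R ∣ T'.relIndex R := relIndex_dvd_of_le_left R hTK
        have h2 : T'.relIndex R = (T : Subgroup R).index := by
          rw [relIndex, hT', subgroupOf, comap_map_eq_self_of_injective R.subtype_injective]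
        exact T.not_dvd_index (h2 ▸ hd.trans h1)
      have hS0i : ¬ p ∣ S0'.index := by
        rw [← relIndex_mul_index (map_subtype_le _ : S0' ≤ normalizer (K : Set P))]
        refine fun hd => ((Fact.out : p.Prime).dvd_mul.mp hd).elim ?_ hidx
        rw [relIndex, subgroupOf, comap_map_eq_self_of_injective (normalizer (K : Set P)).subtype_injective]
        exact S0.not_dvd_index
      set S1 := (S0.isPGroup'.map _ : IsPGroup p S0').toSylow hS0i with hS1
      obtain ⟨c, hc⟩ := MulAction.exists_smul_eq P S1 S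
      set φ := (MulAut.conj c).toMonoidHom with hφ
      have hSK : (S : Subgroup P) ≤ normalizer ((K.map φ : Subgroup P) : Set P) := by
        rw [← hc, Sylow.coe_subgroup_smul]
        refine le_trans ?_ (le_normalizer_map φ)
        exact map_mono (map_subtype_le _)
      by_cases htop : (S : Subgroup P) ⊔ K.map φ = ⊤
      · exfalso
        haveI hKn : (K.map φ).Normal := normalizer_eq_top_iff.mp
          (top_le_iff.mp (htop.ge.trans (sup_le hSK le_normalizer)))
        have hsub : (Nat.card P).primeFactors ⊆ {p, r} := by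
          intro s hs
          rw [Finset.mem_insert, Finset.mem_singleton]
          obtain ⟨hsp, hsd, -⟩ := Nat.mem_primeFactors.mp hs
          have h1 : Nat.card P ∣ Nat.card (S : Subgroup P) * Nat.card (K.map φ) := by
            rw [← card_top, ← htop]; exact Core.card_sup_dvd_mul _ _
          have h2 : Nat.card (K.map φ) ∣ Nat.card T' * Nat.card Q' := by
            rw [card_map_of_injective (MulAut.conj c).injective, hK, sup_comm, mul_comm]
            exact Core.card_sup_dvd_mul _ _
          obtain ⟨a, ha⟩ := IsPGroup.iff_card.mp S.isPGroup'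
          obtain ⟨b, hb⟩ := IsPGroup.iff_card.mp (T.isPGroup'.map R.subtype : IsPGroup p T')
          obtain ⟨d, hd⟩ := IsPGroup.iff_card.mp (Q.isPGroup'.map R.subtype : IsPGroup r Q')
          have h3 : s ∣ p ^ a * (p ^ b * r ^ d) := by
            rw [← ha, ← hb, ← hd]; exact hsd.trans (h1.trans (mul_dvd_mul_left _ h2))
          rcases hsp.dvd_mul.mp h3 with h | h
          · exact Or.inl ((Nat.prime_dvd_prime_iff_eq hsp Fact.out).mp (hsp.dvd_of_dvd_pow h))
          rcases hsp.dvd_mul.mp h with h | h
          · exact Or.inl ((Nat.prime_dvd_prime_iff_eq hsp Fact.out).mp (hsp.dvd_of_dvd_pow h))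
          · exact Or.inr ((Nat.prime_dvd_prime_iff_eq hsp hr).mp (hsp.dvd_of_dvd_pow h))
        have := (Finset.card_le_card hsub).trans Finset.card_le_two
        omega
      · have hKM : K.map φ ≤ M := le_sup_right.trans (hle _ le_sup_left htop)
        let cR : R ≃* R := MulAut.conjNormal c
        refine ⟨Q.mapSurjective (f := cR.toMonoidHom) cR.surjective, ?_⟩
        refine le_trans ?_ ((map_mono (le_sup_right : Q' ≤ K)).trans hKM)
        show ((Q : Subgroup R).map cR.toMonoidHom).map R.subtype ≤ Q'.map φ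
        rw [hQ', Subgroup.map_map, Subgroup.map_map]
        exact le_of_eq rfl
    rw [← subgroupOf_eq_top, ← card_eq_iff_eq_top]
    refine Nat.dvd_antisymm (card_subgroup_dvd_card _) ?_
    refine (Nat.dvd_iff_prime_pow_dvd_dvd _ _).mpr fun r k hr hrk => ?_
    haveI := Fact.mk hr
    obtain ⟨Q, hQ⟩ : ∃ Q : Sylow r R, (Q : Subgroup R).map R.subtype ≤ M := by
      by_cases hrp : r = p
      · subst hrp
        exact ⟨T, hTS.trans hSM⟩
      · exact key r hr hrp
    refine dvd_trans (Sylow.pow_dvd_card_of_pow_dvd_card Q hrk) (card_dvd_of_le ?_)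
    exact map_le_iff_le_comap.mp hQ
  · rcases hthree N hN with h | h
    · exact Or.inr (le_antisymm hNR (sup_le h hFN))
    · exact Or.inl (le_antisymm h hFN)

end Cfsg.Agent.S2905
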