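import Cfsg.Statements.S0660
import Cfsg.Agent.Coprime.Tools
-- import your own Cfsg.Agent.* helpers here

set_option autoImplicit false
open Cfsg

namespace Cfsg.Agent.S0660

/-- Under a coprime action on an abelian group, an invariant subgroup that is complemented admits an invariant complement. -/
theorem result {G : Type*} [Group G] [Finite G] (V A U : Subgroup G) (hVab : IsMulCommutative V) (hAV : A ≤ Subgroup.normalizer (V : Set G)) (hcop : (Nat.card A).Coprime (Nat.card V)) (hUV : U ≤ V) (hAU : A ≤ Subgroup.normalizer (U : Set G)) (W : Subgroup G) (hWV : W ≤ V) (hUW : U ⊓ W = ⊥) (hUWV : U ⊔ W = V) : ∃ W' : Subgroup G, W' ≤ V ∧ A ≤ Subgroup.normalizer (W' : Set G) ∧ U ⊓ W' = ⊥ ∧ U ⊔ W' = V := by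
  classical
  have := Fintype.ofFinite A
  letI : CommGroup V := { (inferInstance : Group V) with mul_comm := fun x y => hVab.is_comm.comm x y }
  let cj : A →* MulAut V := V.normalizerMonoidHom.comp (Subgroup.inclusion hAV)
  have hcj : ∀ (a : A) (v : V), ((cj a v : V) : G) = (a : G) * v * (a : G)⁻¹ := fun a v => rfl
  set U' : Subgroup V := U.subgroupOf V with hU'
  set W₀ : Subgroup V := W.subgroupOf V with hW₀
  -- the projection onto `U'` along `W₀`
  have hsup : U' ⊔ W₀ = ⊤ := by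
    apply Subgroup.map_injective V.subtype_injective
    rw [Subgroup.map_sup, hU', hW₀, Subgroup.map_subgroupOf_eq_of_le hUV,
      Subgroup.map_subgroupOf_eq_of_le hWV, hUWV, ← MonoidHom.range_eq_map, Subgroup.range_subtype]
  have hinf : U' ⊓ W₀ = ⊥ := by
    rw [eq_bot_iff]
    rintro x ⟨hxU, hxW⟩
    rw [Subgroup.mem_bot]
    have : (x : G) ∈ U ⊓ W := ⟨hxU, hxW⟩
    rw [hUW, Subgroup.mem_bot] at this
    exact Subtype.ext this
  let m : U' × W₀ →* V := (U'.subtype.comp (MonoidHom.fst _ _)) * (W₀.subtype.comp (MonoidHom.snd _ _))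
  have hm : Function.Bijective m := by
    refine ⟨?_, fun v => ?_⟩
    · intro x y h
      exact Subgroup.mul_injective_of_disjoint (disjoint_iff.mpr hinf) h
    · have hv : v ∈ U' ⊔ W₀ := hsup ▸ Subgroup.mem_top v
      obtain ⟨u, hu, w, hw, rfl⟩ := Subgroup.mem_sup.mp hv
      exact ⟨(⟨u, hu⟩, ⟨w, hw⟩), rfl⟩
  let e : V →* V := U'.subtype.comp
    ((MonoidHom.fst U' W₀).comp (MulEquiv.ofBijective m hm).symm.toMonoidHom)
  have he_mem : ∀ v, e v ∈ U' := fun v => ((MulEquiv.ofBijective m hm).symm v).1.2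
  have he_fix : ∀ v ∈ U', e v = v := by
    intro v hv
    change (((MulEquiv.ofBijective m hm).symm v).1 : V) = v
    rw [show (MulEquiv.ofBijective m hm).symm v = (⟨v, hv⟩, 1) from
      (MulEquiv.ofBijective m hm).symm_apply_eq.mpr (by
        change v = (v : V) * ((1 : W₀) : V)
        simp)]
  have hUinv : ∀ (a : A) (v : V), v ∈ U' → cj a v ∈ U' := by
    intro a v hv
    rw [hU', Subgroup.mem_subgroupOf, hcj]
    exact (Subgroup.mem_normalizer_iff.mp (hAU a.2) _).mp hv
  let π : V →* V :=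
    { toFun := fun v => ∏ a : A, cj a (e (cj a⁻¹ v))
      map_one' := by simp
      map_mul' := fun v w => by simp [Finset.prod_mul_distrib] }
  have hπ_mem : ∀ v, π v ∈ U' := fun v => Subgroup.prod_mem _ fun a _ => hUinv a _ (he_mem _)
  have hπ_fix : ∀ v ∈ U', π v = v ^ Nat.card A := by
    intro v hv
    change ∏ a : A, cj a (e (cj a⁻¹ v)) = _
    have h : ∀ a : A, cj a (e (cj a⁻¹ v)) = v := fun a => by
      rw [he_fix _ (hUinv _ _ hv), ← MulAut.mul_apply, ← map_mul, mul_inv_cancel, map_one,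
        MulAut.one_apply]
    rw [Finset.prod_congr rfl (fun a _ => h a), Finset.prod_const, Finset.card_univ,
      Nat.card_eq_fintype_card]
  have hequiv : ∀ (b : A) (v : V), π (cj b v) = cj b (π v) := by
    intro b v
    change ∏ a : A, cj a (e (cj a⁻¹ (cj b v))) = cj b (∏ a : A, cj a (e (cj a⁻¹ v)))
    rw [map_prod]
    refine Fintype.prod_equiv (Equiv.mulLeft b⁻¹) _ _ fun a => ?_
    change cj a (e (cj a⁻¹ (cj b v))) = cj b (cj (b⁻¹ * a) (e (cj (b⁻¹ * a)⁻¹ v)))
    rw [← MulAut.mul_apply V (cj a⁻¹), ← map_mul, ← MulAut.mul_apply V (cj b), ← map_mul,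
      mul_inv_cancel_left, mul_inv_rev, inv_inv]
  refine ⟨π.ker.map V.subtype, Subgroup.map_subtype_le _, ?_, ?_, ?_⟩
  · intro b hb
    rw [Subgroup.mem_normalizer_iff]
    have key : ∀ (c : A) (x : G), x ∈ π.ker.map V.subtype → (c : G) * x * (c : G)⁻¹ ∈ π.ker.map V.subtype := by
      rintro c _ ⟨v, hv, rfl⟩
      refine ⟨cj c v, ?_, hcj c v⟩
      rw [SetLike.mem_coe, MonoidHom.mem_ker, hequiv, MonoidHom.mem_ker.mp hv, map_one]
    refine fun x => ⟨key ⟨b, hb⟩ x, fun hx => ?_⟩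
    have := key ⟨b⁻¹, A.inv_mem hb⟩ _ hx
    simpa [mul_assoc] using this
  · rw [eq_bot_iff]
    rintro x ⟨hxU, ⟨v, hv, rfl⟩⟩
    rw [Subgroup.mem_bot]
    have h1 : v ^ Nat.card A = 1 := by rw [← hπ_fix v hxU]; exact hv
    have : v = 1 := (powCoprime hcop.symm).injective (by
      change v ^ Nat.card A = (1 : V) ^ Nat.card A
      rw [h1, one_pow])
    rw [this]; rfl
  · refine le_antisymm (sup_le hUV (Subgroup.map_subtype_le _)) fun x hx => ?_
    obtain ⟨u, hu⟩ := (powCoprime hcop.symm).surjective (π ⟨x, hx⟩)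
    change u ^ Nat.card A = π ⟨x, hx⟩ at hu
    have huU : u ∈ U' := by
      have h := hπ_mem ⟨x, hx⟩
      obtain ⟨n, hn⟩ := exists_pow_eq_self_of_coprime (x := u) (n := Nat.card A)
        (hcop.coprime_dvd_right (orderOf_dvd_natCard u))
      rw [← hn, hu]
      exact pow_mem h n
    have hker : u⁻¹ * ⟨x, hx⟩ ∈ π.ker := by
      rw [MonoidHom.mem_ker, map_mul, map_inv, hπ_fix u huU, hu, inv_mul_cancel]
    have := Subgroup.mul_mem_sup (S := U) (T := π.ker.map V.subtype) huU (Subgroup.mem_map_of_mem _ hker)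
    simpa using this

end Cfsg.Agent.S0660
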