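import Cfsg.Statements.S0638
import Cfsg.Agent.Metacyclic.Split
-- import your own Cfsg.Agent.* helpers here

set_option autoImplicit false
open Cfsg
open Cfsg.Agent

namespace Cfsg.Agent.S0638
open Cfsg.Agent in
theorem omega_one_result {R : Type*} [Group R] [Finite R] {p : ℕ} [hpf : Fact p.Prime] (hp : p ≠ 2) (hR : IsPGroup p R) (hm : Cfsg.IsMetacyclic R) (hnc : ¬ IsCyclic R) :
    Cfsg.IsElementaryAbelian p (Cfsg.omegaOne p (⊤ : Subgroup R)) ∧ Nat.card ↥(Cfsg.omegaOne p (⊤ : Subgroup R)) = p ^ 2 := by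
  classical
  obtain ⟨D⟩ := Metacyclic.exists_data hp hR hm
  have hpp := hpf.out
  have hpZ : Prime (p : ℤ) := Nat.prime_iff_prime_int.mp hpp
  have hα : 1 ≤ D.α := by
    by_contra h
    refine hnc (IsCyclic.mk ⟨D.b, fun g => ?_⟩)
    obtain ⟨x, y, rfl⟩ := D.hgen' g
    have ha : D.a = 1 := orderOf_eq_one_iff.mp (by rw [D.ha, show D.α = 0 by omega, pow_zero])
    exact ⟨y, by simp [Metacyclic.Data.el, ha]⟩
  have hβ : 1 ≤ D.β := by
    by_contra h
    refine hnc (IsCyclic.mk ⟨D.a, fun g => ?_⟩)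
    obtain ⟨x, y, rfl⟩ := D.hgen' g
    exact mul_mem (Subgroup.zpow_mem_zpowers _ _) ((D.hb y).mpr (by rw [show D.β = 0 by omega, pow_zero]; exact one_dvd _))
  set u₀ := D.a ^ ((p : ℤ) ^ (D.α - 1)) with hu₀
  have hu₀p : u₀ ^ p = 1 := by
    rw [hu₀, ← zpow_natCast, ← zpow_mul, D.zpow_a_eq_one_iff, ← pow_succ, Nat.sub_add_cancel hα]
  have hu₀1 : u₀ ≠ 1 := fun h => by
    rw [hu₀, D.zpow_a_eq_one_iff, pow_dvd_pow_iff (by exact_mod_cast hpp.ne_zero) hpZ.not_isUnit] at h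
    omega
  have hcent : ∀ g : R, Commute u₀ g := fun g => by
    obtain ⟨x, y, rfl⟩ := D.hgen' g
    rw [show u₀ = D.el ((p : ℤ) ^ (D.α - 1)) 0 by simp [hu₀, Metacyclic.Data.el], D.commute_iff, show D.S 0 = 0 from Metacyclic.geo_zero _, mul_zero, sub_zero]
    refine ((D.hiff _).mp ?_).mul_right _
    rw [show (p : ℤ) ^ D.α = p * (p : ℤ) ^ (D.α - 1) by rw [← pow_succ', Nat.sub_add_cancel hα]]
    exact mul_dvd_mul_right ((dvd_pow_self _ (by have := D.ht1; omega)).trans D.htr) _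
  -- at most `p ^ 2` solutions of `g ^ p = 1`
  set T : Set R := {g | g ^ p = 1} with hT
  have hTc : T.ncard ≤ p ^ 2 := by
    have hrep : ∀ c : Fin p, ∃ g₀ : R, ∀ (x : ℤ), (D.el x (p ^ (D.β - 1) * c)) ^ p = 1 →
        ∃ m : ℤ, D.el x (p ^ (D.β - 1) * c) = u₀ ^ m * g₀ := by
      intro c
      by_cases h : ∃ x : ℤ, (D.el x (p ^ (D.β - 1) * c)) ^ p = 1
      · obtain ⟨x₀, hx₀⟩ := h
        refine ⟨D.el x₀ (p ^ (D.β - 1) * c), fun x hx => ?_⟩
        rw [← hx₀, D.el_pow, D.el_pow, Metacyclic.Data.el, Metacyclic.Data.el, mul_left_inj, D.zpow_a_eq_iff, ← sub_mul] at hx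
        obtain ⟨A, hA⟩ := Metacyclic.geo_prime hp D.ht1 (D.dvd_pow_sub_one' (p ^ (D.β - 1) * c))
        rw [sub_eq_iff_eq_add] at hA
        have hu : ¬ (p : ℤ) ∣ (p : ℤ) ^ D.t * A + 1 := fun h' =>
          hpZ.not_dvd_one ((dvd_add_right ((dvd_pow_self _ (by have := D.ht1; omega)).mul_right _)).mp h')
        rw [hA, show (p : ℤ) ^ (D.t + 1) * A + p = p * ((p : ℤ) ^ D.t * A + 1) by rw [pow_succ]; ring,
          show (p : ℤ) ^ D.α = p * (p : ℤ) ^ (D.α - 1) by rw [← pow_succ', Nat.sub_add_cancel hα],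
          mul_left_comm, mul_dvd_mul_iff_left (by exact_mod_cast hpp.ne_zero)] at hx
        obtain ⟨m, hm⟩ := (((hpZ.coprime_iff_not_dvd).mpr hu).pow_left).dvd_of_dvd_mul_right hx
        refine ⟨m, ?_⟩
        rw [hu₀, ← zpow_mul, ← hm, Metacyclic.Data.el, Metacyclic.Data.el, ← mul_assoc, ← zpow_add, sub_add_cancel]
      · exact ⟨1, fun x hx => absurd ⟨x, hx⟩ h⟩
    choose g₀ hg₀ using hrep
    let f : Fin p × Fin p → R := fun mc => u₀ ^ (mc.1 : ℕ) * g₀ mc.2
    have hsub : T ⊆ Set.range f := by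
      intro g hg
      obtain ⟨x, y, rfl⟩ := D.hgen' g
      obtain ⟨s, hs⟩ := D.pow_b_β_mem
      have hy : p ^ (D.β - 1) ∣ y := by
        have h1 : (D.el x y) ^ p ∈ Subgroup.zpowers D.a := by rw [hg]; exact one_mem _
        rw [D.el_pow, Metacyclic.Data.el, Subgroup.mul_mem_cancel_left _ (Subgroup.zpow_mem_zpowers _ _), D.hb,
          show p ^ D.β = p ^ (D.β - 1) * p by rw [← pow_succ, Nat.sub_add_cancel hβ]] at h1
        exact (Nat.mul_dvd_mul_iff_right hpp.pos).mp h1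
      obtain ⟨e, rfl⟩ := hy
      have he : D.el x (p ^ (D.β - 1) * e) = D.el (x + s * ((e / p : ℕ) : ℤ)) (p ^ (D.β - 1) * (e % p)) := by
        simp only [Metacyclic.Data.el]
        rw [zpow_add, mul_assoc]
        congr 1
        rw [zpow_mul, zpow_natCast, ← hs, ← pow_mul, ← pow_add]
        congr 1
        conv_lhs => rw [← Nat.div_add_mod e p]
        rw [show p ^ D.β = p ^ (D.β - 1) * p by rw [← pow_succ, Nat.sub_add_cancel hβ]]
        ring
      rw [hT, Set.mem_setOf_eq, he] at hg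
      obtain ⟨m, hm⟩ := hg₀ ⟨e % p, Nat.mod_lt _ hpp.pos⟩ _ hg
      have hpos : (0 : ℤ) < p := by exact_mod_cast hpp.pos
      refine ⟨(⟨(m % (p : ℤ)).toNat, ?_⟩, ⟨e % p, Nat.mod_lt _ hpp.pos⟩), ?_⟩
      · rw [Int.toNat_lt (Int.emod_nonneg _ hpos.ne')]; exact Int.emod_lt_of_pos _ hpos
      · have he2 : u₀ ^ (m % (p : ℤ)).toNat = u₀ ^ m := by
          rw [← zpow_natCast, Int.toNat_of_nonneg (Int.emod_nonneg _ hpos.ne'), Int.emod_def, zpow_sub, zpow_mul,
            zpow_natCast, hu₀p, one_zpow, inv_one, mul_one]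
        show u₀ ^ (m % (p : ℤ)).toNat * _ = _
        rw [he2, he, hm]
    refine (Set.ncard_le_ncard hsub (Set.toFinite _)).trans ?_
    rw [← Set.image_univ]
    refine (Set.ncard_image_le (Set.toFinite _)).trans ?_
    rw [Set.ncard_univ, Nat.card_prod, Nat.card_fin, sq]
  -- a second element of order `p`
  obtain ⟨A, B, hA, hB, hAB, hcard⟩ := D.exists_split
  have hne : ∀ X Y : Subgroup R, IsCyclic ↥Y → Nat.card ↥X * Nat.card ↥Y = Nat.card R → X ≠ ⊥ := by
    intro X Y hY h hX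
    rw [hX, Subgroup.card_bot, one_mul] at h
    have hYtop : Y = ⊤ := Subgroup.eq_top_of_card_eq Y h
    exact hnc (isCyclic_of_surjective (Subgroup.topEquiv.toMonoidHom.comp (MulEquiv.subgroupCongr hYtop).toMonoidHom)
      (Subgroup.topEquiv.surjective.comp (MulEquiv.subgroupCongr hYtop).surjective))
  have hord : ∀ X : Subgroup R, X ≠ ⊥ → ∃ v ∈ X, v ≠ 1 ∧ v ^ p = 1 := by
    intro X hX
    have hdvd : p ∣ Nat.card ↥X := by
      obtain ⟨k, hk⟩ := (hR.to_subgroup X).exists_card_eq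
      rcases k with _ | k
      · exact absurd ((Subgroup.eq_bot_iff_card _).mpr (hk.trans (pow_zero p))) hX
      · rw [hk]; exact dvd_pow_self p (Nat.succ_ne_zero k)
    obtain ⟨v, hv⟩ := exists_prime_orderOf_dvd_card' p hdvd
    exact ⟨v, v.2, fun h => by rw [← Subgroup.orderOf_coe, h, orderOf_one] at hv; exact hpp.ne_one hv.symm,
      orderOf_dvd_iff_pow_eq_one.mp (dvd_of_eq ((Subgroup.orderOf_coe v).trans hv))⟩
  have hu₀ord : orderOf u₀ = p := orderOf_eq_prime hu₀p hu₀1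
  obtain ⟨v, hv1, hvp, hvu⟩ : ∃ v : R, v ≠ 1 ∧ v ^ p = 1 ∧ v ∉ Subgroup.zpowers u₀ := by
    obtain ⟨v, hvA, hv1, hvp⟩ := hord A (hne A B hB hcard)
    obtain ⟨w, hwB, hw1, hwp⟩ := hord B (hne B A hA (by rw [mul_comm]; exact hcard))
    by_contra hc
    push Not at hc
    have hvw : Subgroup.zpowers v = Subgroup.zpowers u₀ := Subgroup.eq_of_le_of_card_ge
      (Subgroup.zpowers_le.mpr (hc v hv1 hvp)) (by rw [Nat.card_zpowers, Nat.card_zpowers, hu₀ord, orderOf_eq_prime hvp hv1])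
    have hwA : w ∈ A := (Subgroup.zpowers_le.mpr hvA) (hvw.symm ▸ hc w hw1 hwp)
    exact hw1 (Subgroup.mem_bot.mp (hAB ▸ Subgroup.mem_inf.mpr ⟨hwA, hwB⟩))
  set E := Subgroup.closure ({u₀, v} : Set R) with hE
  have hEc : IsMulCommutative ↥E := Subgroup.isMulCommutative_closure (by
    intro a ha b hb
    simp only [Set.mem_insert_iff, Set.mem_singleton_iff] at ha hb
    rcases ha with ha | ha <;> rcases hb with hb | hb <;> rw [ha, hb]
    exacts [(hcent v).eq, (hcent v).eq.symm])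
  have hEp : ∀ e ∈ E, e ^ p = 1 := by
    intro e he
    induction he using Subgroup.closure_induction with
    | mem z hz => rcases hz with rfl | rfl; exacts [hu₀p, hvp]
    | one => exact one_pow p
    | mul a b ha hb iha ihb => rw [(show Commute a b from setLike_mul_comm (s := E) ha hb).mul_pow, iha, ihb, one_mul]
    | inv a _ iha => rw [inv_pow, iha, inv_one]
  have hET : (E : Set R) ⊆ T := fun e he => hEp e he
  have hEcard : p ^ 2 ≤ Nat.card ↥E := by
    obtain ⟨k, hk⟩ := (hR.to_subgroup E).exists_card_eq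
    have hle : Subgroup.zpowers u₀ < E := lt_of_le_of_ne (Subgroup.zpowers_le.mpr (Subgroup.subset_closure (Set.mem_insert _ _)))
      fun h => hvu (h ▸ Subgroup.subset_closure (Set.mem_insert_of_mem _ rfl))
    have h1 : p < Nat.card ↥E := by
      rw [← hu₀ord, ← Nat.card_zpowers]
      exact lt_of_le_of_ne (Subgroup.card_le_of_le hle.le) fun h => hle.ne (Subgroup.eq_of_le_of_card_ge hle.le h.ge)
    rw [hk] at h1 ⊢
    refine Nat.pow_le_pow_right hpp.pos ?_
    by_contra h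
    have := Nat.pow_le_pow_right hpp.pos (show k ≤ 1 by omega)
    rw [pow_one] at this
    omega
  have hTE : T = (E : Set R) := (Set.eq_of_subset_of_ncard_le hET (hTc.trans (by
    rwa [← Nat.card_coe_set_eq])) (Set.toFinite _)).symm
  have hΩ : Cfsg.omegaOne p (⊤ : Subgroup R) = E := by
    refine le_antisymm ((Subgroup.closure_le _).mpr ?_) fun e he => Subgroup.subset_closure ?_
    · intro g hg
      rw [← hTE]
      exact hg.2
    · exact ⟨Subgroup.mem_top _, hEp e he⟩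
  rw [hΩ]
  refine ⟨⟨hEc, hEp⟩, le_antisymm ?_ hEcard⟩
  rw [← SetLike.coe_sort_coe, Nat.card_coe_set_eq]
  exact (Set.ncard_le_ncard hET (Set.toFinite _)).trans hTc


/-- For odd p, in a non-cyclic metacyclic p-group the elements of order dividing p generate an elementary abelian subgroup of order p². -/
theorem result {R : Type*} [Group R] [Finite R] {p : ℕ} [Fact p.Prime] (hp : p ≠ 2) (hR : IsPGroup p R) (hm : Cfsg.IsMetacyclic R) (hnc : ¬ IsCyclic R) : Cfsg.IsElementaryAbelian p (Cfsg.omegaOne p (⊤ : Subgroup R)) ∧ Nat.card ↥(Cfsg.omegaOne p (⊤ : Subgroup R)) = p ^ 2 := by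
  exact omega_one_result hp hR hm hnc

end Cfsg.Agent.S0638
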