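import Cfsg.Statements.S3704
-- import your own Cfsg.Agent.* helpers here

set_option autoImplicit false
open Cfsg

namespace Cfsg.Agent.S3704

open scoped BigOperators

section
variable {G Ω : Type*} [Group G] [MulAction G Ω] (H : Subgroup G)

/-- `x` lies in the translate of `S` by the coset `q` -/
def InTr (S : Set Ω) (q : G ⧸ H) (x : Ω) : Prop := ∃ g : G, (g : G ⧸ H) = q ∧ g⁻¹ • x ∈ S

theorem inTr_iff {S : Set Ω} (hS : ∀ h ∈ H, ∀ x ∈ S, h • x ∈ S) (g : G) (x : Ω) :
    InTr H S (g : G ⧸ H) x ↔ g⁻¹ • x ∈ S := by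
  refine ⟨?_, fun h => ⟨g, rfl, h⟩⟩
  rintro ⟨k, hk, hx⟩
  have h1 := hS _ (QuotientGroup.eq.mp hk.symm) _ hx
  rwa [← mul_smul, mul_assoc, mul_inv_cancel, mul_one] at h1

theorem inTr_smul (S : Set Ω) (g : G) (q : G ⧸ H) (x : Ω) :
    InTr H S (g • q) (g • x) ↔ InTr H S q x := by
  have key : ∀ (g : G) (q : G ⧸ H) (x : Ω), InTr H S q x → InTr H S (g • q) (g • x) := by
    rintro g q x ⟨k, rfl, hx⟩
    exact ⟨g * k, rfl, by rwa [mul_inv_rev, mul_smul, inv_smul_smul]⟩
  refine ⟨fun h => ?_, key g q x⟩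
  simpa using key g⁻¹ _ _ h

variable [Fintype (G ⧸ H)]

open Classical in
/-- indicator of `InTr` -/
noncomputable def ind (S : Set Ω) (q : G ⧸ H) (x : Ω) : ℚ := if InTr H S q x then 1 else 0

/-- the number of cosets translating `S` over `x` and `T` over `y` -/
noncomputable def cnt (S T : Set Ω) (x y : Ω) : ℚ := ∑ q : G ⧸ H, ind H S q x * ind H T q y

theorem cnt_smul (S T : Set Ω) (g : G) (x y : Ω) :
    cnt H S T (g • x) (g • y) = cnt H S T x y := by
  refine (Fintype.sum_equiv (MulAction.toPerm g) _ _ fun q => ?_).symm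
  change ind H S q x * ind H T q y = ind H S (g • q) (g • x) * ind H T (g • q) (g • y)
  classical
  unfold ind
  exact congrArg₂ (· * ·) (if_congr (inTr_smul H S g q x).symm rfl rfl) (if_congr (inTr_smul H T g q y).symm rfl rfl)

theorem cnt_comm (S T : Set Ω) (x y : Ω) : cnt H S T x y = cnt H T S y x :=
  Finset.sum_congr rfl fun _ _ => mul_comm _ _

theorem cnt_pos {S T : Set Ω} {g : G} {x y : Ω} (hx : g⁻¹ • x ∈ S) (hy : g⁻¹ • y ∈ T) :
    0 < cnt H S T x y := by
  refine Finset.sum_pos' (fun q _ => ?_) ⟨g, Finset.mem_univ _, ?_⟩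
  · unfold ind; split_ifs <;> norm_num
  · unfold ind
    rw [if_pos ⟨g, rfl, hx⟩, if_pos ⟨g, rfl, hy⟩]
    norm_num

theorem ind_mul_eq_zero {S T : Set Ω} (hS : ∀ h ∈ H, ∀ x ∈ S, h • x ∈ S)
    (hT : ∀ h ∈ H, ∀ x ∈ T, h • x ∈ T) (hd : Disjoint S T) (q : G ⧸ H) (x : Ω) :
    ind H S q x * ind H T q x = 0 := by
  induction q using QuotientGroup.induction_on with
  | _ g =>
    unfold ind
    rw [inTr_iff H hS, inTr_iff H hT]
    split_ifs with h1 h2 <;> try norm_num
    exact Set.disjoint_left.mp hd h1 h2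

theorem ind_sum_eq_one {A B C : Set Ω} (hA : ∀ h ∈ H, ∀ x ∈ A, h • x ∈ A)
    (hB : ∀ h ∈ H, ∀ x ∈ B, h • x ∈ B) (hC : ∀ h ∈ H, ∀ x ∈ C, h • x ∈ C)
    (hAB : Disjoint A B) (hAC : Disjoint A C) (hBC : Disjoint B C)
    (hcov : ∀ x, x ∈ A ∨ x ∈ B ∨ x ∈ C) (q : G ⧸ H) (x : Ω) :
    ind H A q x + ind H B q x + ind H C q x = 1 := by
  induction q using QuotientGroup.induction_on with
  | _ g =>
    unfold ind
    rw [inTr_iff H hA, inTr_iff H hB, inTr_iff H hC]
    rcases hcov (g⁻¹ • x) with h | h | h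
    · rw [if_pos h, if_neg (Set.disjoint_left.mp hAB h), if_neg (Set.disjoint_left.mp hAC h)]
      norm_num
    · rw [if_neg (Set.disjoint_right.mp hAB h), if_pos h, if_neg (Set.disjoint_left.mp hBC h)]
      norm_num
    · rw [if_neg (Set.disjoint_right.mp hAC h), if_neg (Set.disjoint_right.mp hBC h), if_pos h]
      norm_num

variable [Fintype Ω]

theorem inner_eq (h2 : ∀ a b c d : Ω, a ≠ b → c ≠ d → ∃ g : G, g • a = c ∧ g • b = d)
    (S T : Set Ω) {x y : Ω} (hxy : x ≠ y) (v w : Ω → ℚ) (hv : ∑ z, v z = 0) :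
    ∑ q : G ⧸ H, (∑ z, ind H S q z * v z) * (∑ z, ind H T q z * w z) =
      (cnt H S T x x - cnt H S T x y) * ∑ z, v z * w z := by
  classical
  have hval : ∀ a b : Ω, cnt H S T a b =
      cnt H S T x y + if a = b then cnt H S T x x - cnt H S T x y else 0 := by
    intro a b
    split_ifs with h
    · subst h
      obtain ⟨c, hc⟩ : ∃ c : Ω, a ≠ c := by
        by_cases hax : a = x
        · exact ⟨y, hax ▸ hxy⟩
        · exact ⟨x, hax⟩
      obtain ⟨g, h1, -⟩ := h2 x y a c hxy hc
      rw [← h1, cnt_smul]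
      ring
    · obtain ⟨g, h1, h1'⟩ := h2 x y a b hxy h
      rw [← h1, ← h1', cnt_smul, add_zero]
  calc ∑ q : G ⧸ H, (∑ z, ind H S q z * v z) * (∑ z, ind H T q z * w z)
      = ∑ q : G ⧸ H, ∑ a, ∑ b, ind H S q a * ind H T q b * (v a * w b) :=
        Finset.sum_congr rfl fun q _ => by
          rw [Finset.sum_mul_sum]
          exact Finset.sum_congr rfl fun a _ => Finset.sum_congr rfl fun b _ => by ring
    _ = ∑ a, ∑ b, cnt H S T a b * (v a * w b) := by
        rw [Finset.sum_comm]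
        refine Finset.sum_congr rfl fun a _ => ?_
        rw [Finset.sum_comm]
        exact Finset.sum_congr rfl fun b _ => (Finset.sum_mul _ _ _).symm
    _ = ∑ a, (cnt H S T x y * (∑ b, w b) * v a +
          (cnt H S T x x - cnt H S T x y) * (v a * w a)) := by
        refine Finset.sum_congr rfl fun a _ => ?_
        rw [Finset.mul_sum, Finset.sum_mul]
        conv_lhs => enter [2, b]; rw [hval a b, add_mul, ite_mul, zero_mul]
        rw [Finset.sum_add_distrib, Finset.sum_ite_eq, if_pos (Finset.mem_univ a)]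
        congr 1
        exact Finset.sum_congr rfl fun b _ => by ring
    _ = _ := by
        rw [Finset.sum_add_distrib, ← Finset.mul_sum, ← Finset.mul_sum, hv, mul_zero, zero_add]

end


/-- Let G be a finite group acting faithfully and 2-transitively on a finite set Ω of size n, and let H be a subgroup of index n in G which is not transitive on Ω and fixes no point of Ω. Then H has exactly two orbits on Ω. -/
theorem result {G Ω : Type*} [Group G] [Finite G] [MulAction G Ω] [FaithfulSMul G Ω] [Finite Ω] (h2 : MulAction.IsMultiplyPretransitive G Ω 2) (H : Subgroup G) (hidx : H.index = Nat.card Ω) (hnt : ¬ MulAction.IsPretransitive H Ω) (hfix : ∀ a : Ω, ∃ h : H, h • a ≠ a) : Nat.card (MulAction.orbitRel.Quotient H Ω) = 2 := by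
  classical
  have : Fintype Ω := Fintype.ofFinite Ω
  have : Fintype (G ⧸ H) := Fintype.ofFinite _
  set π : Ω → MulAction.orbitRel.Quotient H Ω := Quotient.mk'' with hπ
  have hπs : Function.Surjective π := Quotient.mk''_surjective
  have hπh : ∀ h ∈ H, ∀ x, π (h • x) = π x := fun h hh x => Quotient.sound' ⟨⟨h, hh⟩, rfl⟩
  have : Fintype (MulAction.orbitRel.Quotient H Ω) := Fintype.ofFinite _
  rw [Nat.card_eq_fintype_card]
  have hΩ : Nonempty Ω := by
    by_contra h
    rw [not_nonempty_iff] at h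
    rw [Nat.card_of_isEmpty] at hidx
    exact Subgroup.index_ne_zero_of_finite hidx
  refine le_antisymm ?_ ?_
  · by_contra hlt
    obtain ⟨o, o₁, o₂, ho1, ho2, ho12⟩ := Fintype.two_lt_card_iff.mp (not_le.mp hlt)
    obtain ⟨x, hx⟩ := hπs o
    obtain ⟨y, hy⟩ := hπs o₁
    obtain ⟨z, hz⟩ := hπs o₂
    let A : Set Ω := π ⁻¹' {o}
    let B : Set Ω := π ⁻¹' {o₁}
    let C : Set Ω := π ⁻¹' ({o, o₁}ᶜ)
    have hA : ∀ h ∈ H, ∀ t ∈ A, h • t ∈ A := fun h hh t ht => by simpa [A, hπh h hh] using ht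
    have hB : ∀ h ∈ H, ∀ t ∈ B, h • t ∈ B := fun h hh t ht => by simpa [B, hπh h hh] using ht
    have hC : ∀ h ∈ H, ∀ t ∈ C, h • t ∈ C := fun h hh t ht => by simpa [C, hπh h hh] using ht
    have hAB : Disjoint A B := Disjoint.preimage _ (Set.disjoint_singleton.mpr ho1)
    have hAC : Disjoint A C := Disjoint.preimage _ (by simp)
    have hBC : Disjoint B C := Disjoint.preimage _ (by simp)
    have hcov : ∀ t, t ∈ A ∨ t ∈ B ∨ t ∈ C := fun t => by
      by_cases h1 : π t = o
      · exact Or.inl h1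
      by_cases h1' : π t = o₁
      · exact Or.inr (Or.inl h1')
      exact Or.inr (Or.inr (by simp [C, h1, h1']))
    have hxy : x ≠ y := fun h => ho1 (hx.symm.trans (h ▸ hy))
    have h2' : ∀ a b c d : Ω, a ≠ b → c ≠ d → ∃ g : G, g • a = c ∧ g • b = d :=
      fun _ _ _ _ h h' => MulAction.is_two_pretransitive_iff.mp h2 h h'
    have hd0 : ∀ S T : Set Ω, (∀ h ∈ H, ∀ t ∈ S, h • t ∈ S) → (∀ h ∈ H, ∀ t ∈ T, h • t ∈ T) →
        Disjoint S T → cnt H S T x x = 0 := fun S T hS hT hd =>
      Finset.sum_eq_zero fun q _ => ind_mul_eq_zero H hS hT hd q x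
    have hrow : ∀ S : Set Ω, cnt H S A x y + cnt H S B x y + cnt H S C x y
        = cnt H S A x x + cnt H S B x x + cnt H S C x x := by
      intro S
      simp only [cnt, ← Finset.sum_add_distrib, ← mul_add,
        ind_sum_eq_one H hA hB hC hAB hAC hBC hcov]
    have hposAC : 0 < cnt H A C x y := by
      have hzx : x ≠ z := fun h => ho2 (hx.symm.trans (h ▸ hz))
      obtain ⟨g, hg1, hg2⟩ := h2' x z x y hzx hxy
      refine cnt_pos H (g := g) ?_ ?_
      · rw [inv_smul_eq_iff.mpr hg1.symm]; exact hx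
      · rw [inv_smul_eq_iff.mpr hg2.symm]
        simpa [C, hz] using And.intro (Ne.symm ho2) (Ne.symm ho12)
    have hposBC : 0 < cnt H B C x y := by
      have hzy : y ≠ z := fun h => ho12 (hy.symm.trans (h ▸ hz))
      obtain ⟨g, hg1, hg2⟩ := h2' y z x y hzy hxy
      refine cnt_pos H (g := g) ?_ ?_
      · rw [inv_smul_eq_iff.mpr hg1.symm]; exact hy
      · rw [inv_smul_eq_iff.mpr hg2.symm]
        simpa [C, hz] using And.intro (Ne.symm ho2) (Ne.symm ho12)
    have hposAB : 0 < cnt H A B x y := cnt_pos H (g := 1) (by simpa [A] using hx) (by simpa [B] using hy)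
    let L : (Ω → ℚ) × (Ω → ℚ) →ₗ[ℚ] (G ⧸ H → ℚ) × ℚ × ℚ :=
      { toFun := fun p => (fun q => (∑ t, ind H A q t * p.1 t) + ∑ t, ind H B q t * p.2 t,
          ∑ t, p.1 t, ∑ t, p.2 t)
        map_add' := fun p p' => by
          refine Prod.ext (funext fun q => ?_) (Prod.ext ?_ ?_) <;>
            simp [mul_add, Finset.sum_add_distrib] <;> ring
        map_smul' := fun c p => by
          refine Prod.ext (funext fun q => ?_) (Prod.ext ?_ ?_) <;>
            simp [Finset.mul_sum, mul_add, mul_left_comm] }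
    have hn : 6 ≤ Fintype.card Ω := by
      obtain ⟨h, hh⟩ := hfix x
      obtain ⟨k, hk⟩ := hfix y
      obtain ⟨l, hl⟩ := hfix z
      have e : ∀ (m : H) (t : Ω), π (m • t) = π t := fun m t => hπh m m.2 t
      have d1 : ∀ t t' : Ω, π t ≠ π t' → t ≠ t' := fun t t' h e => h (congrArg π e)
      let f : Fin 6 → Ω := ![x, h • x, y, k • y, z, l • z]
      have hf : Function.Injective f := by
        intro i j hij
        have h' := congrArg π hij
        fin_cases i <;> fin_cases j <;>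
          simp_all [f, eq_comm, Ne]
      simpa using Fintype.card_le_of_injective f hf
    have hdim : Module.finrank ℚ ((G ⧸ H → ℚ) × ℚ × ℚ) < Module.finrank ℚ ((Ω → ℚ) × (Ω → ℚ)) := by
      have hq : Fintype.card (G ⧸ H) = Fintype.card Ω := by
        rw [← Nat.card_eq_fintype_card, ← Nat.card_eq_fintype_card]; exact hidx
      simp [Module.finrank_prod, hq]
      omega
    obtain ⟨⟨v, w⟩, hp, hp0⟩ := (Submodule.ne_bot_iff _).mp (L.ker_ne_bot_of_finrank_lt hdim)
    have hL : L (v, w) = 0 := hp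
    have hv : ∑ t, v t = 0 := congrArg (fun r => r.2.1) hL
    have hw : ∑ t, w t = 0 := congrArg (fun r => r.2.2) hL
    have hq : ∀ q, (∑ t, ind H A q t * v t) + ∑ t, ind H B q t * w t = 0 :=
      fun q => congrFun (congrArg Prod.fst hL) q
    have h0 : ∑ q : G ⧸ H, ((∑ t, ind H A q t * v t) + ∑ t, ind H B q t * w t) *
        ((∑ t, ind H A q t * v t) + ∑ t, ind H B q t * w t) = 0 :=
      Finset.sum_eq_zero fun q _ => by rw [hq, mul_zero]
    simp only [add_mul, mul_add, Finset.sum_add_distrib, inner_eq H h2' _ _ hxy v v hv,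
      inner_eq H h2' _ _ hxy v w hv, inner_eq H h2' _ _ hxy w v hw, inner_eq H h2' _ _ hxy w w hw] at h0
    have hBA : cnt H B A x y = cnt H A B x y := by
      obtain ⟨g, h1, h1'⟩ := h2' x y y x hxy hxy.symm
      conv_lhs => rw [← cnt_smul H B A g x y, h1, h1', cnt_comm]
    have eAA := hrow A
    have eBB := hrow B
    rw [hd0 A B hA hB hAB, hd0 A C hA hC hAC] at eAA
    rw [hd0 B A hB hA hAB.symm, hd0 B C hB hC hBC, hBA] at eBB
    rw [hd0 A B hA hB hAB, hd0 B A hB hA hAB.symm, hBA] at h0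
    have hcomm : ∑ t, w t * v t = ∑ t, v t * w t := Finset.sum_congr rfl fun t _ => mul_comm _ _
    have hdiff : ∑ t, (v t - w t) * (v t - w t) =
        (∑ t, v t * v t) - 2 * (∑ t, v t * w t) + ∑ t, w t * w t := by
      rw [Finset.mul_sum, ← Finset.sum_sub_distrib, ← Finset.sum_add_distrib]
      exact Finset.sum_congr rfl fun t _ => by ring
    have hnn : ∀ u : Ω → ℚ, 0 ≤ ∑ t, u t * u t := fun u =>
      Finset.sum_nonneg fun t _ => mul_self_nonneg _
    have key : cnt H A C x y * (∑ t, v t * v t) + cnt H B C x y * (∑ t, w t * w t) +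
        cnt H A B x y * ∑ t, (v t - w t) * (v t - w t) = 0 := by
      rw [hdiff]
      rw [hcomm] at h0
      linear_combination h0 + (∑ t, v t * v t) * eAA + (∑ t, w t * w t) * eBB
    have t1 := mul_nonneg hposAC.le (hnn v)
    have t2 := mul_nonneg hposBC.le (hnn w)
    have t3 := mul_nonneg hposAB.le (hnn fun t => v t - w t)
    have zv : ∑ t, v t * v t = 0 :=
      (mul_eq_zero.mp (by linarith : cnt H A C x y * (∑ t, v t * v t) = 0)).resolve_left hposAC.ne'
    have zw : ∑ t, w t * w t = 0 :=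
      (mul_eq_zero.mp (by linarith : cnt H B C x y * (∑ t, w t * w t) = 0)).resolve_left hposBC.ne'
    refine hp0 (Prod.ext (funext fun t => ?_) (funext fun t => ?_))
    · exact mul_self_eq_zero.mp
        ((Finset.sum_eq_zero_iff_of_nonneg fun i _ => mul_self_nonneg _).mp zv t (Finset.mem_univ t))
    · exact mul_self_eq_zero.mp
        ((Finset.sum_eq_zero_iff_of_nonneg fun i _ => mul_self_nonneg _).mp zw t (Finset.mem_univ t))
  · by_contra hlt
    have hs : Subsingleton (MulAction.orbitRel.Quotient H Ω) :=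
      Fintype.card_le_one_iff_subsingleton.mp (by omega)
    exact hnt ⟨fun a b => Quotient.exact' (Subsingleton.elim (π b) (π a))⟩

end Cfsg.Agent.S3704
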