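import Cfsg.Statements.S5168
import Cfsg.Agent.GroupSub.CodeFus
import Cfsg.Agent.Compute.M24Base

set_option autoImplicit false
open Cfsg

namespace Cfsg.Agent.S5168

open Cfsg.Agent.GroupSub
open Cfsg.Agent.Compute (rep24 inM24B)

open scoped Pointwise

/-- Membership test for M22. -/
noncomputable def inM22B (g : ℕ) : Bool :=
  inM24B g && Nat.beq (rep24.act g 23) 23 && Nat.beq (rep24.act g 0) 0

theorem pt_23 : rep24.pt 23 = (none : GolayPt) := by
  rw [Compute.rep24_pt (by norm_num)]; rfl

theorem pt_0 : rep24.pt 0 = (some 0 : GolayPt) := by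
  rw [Compute.rep24_pt (by norm_num)]; rfl

theorem mem_of_check (g : ℕ) (h : inM22B g = true) : rep24.Ok g ∧ rep24.den g ∈ Cfsg.Spor.M22 := by
  simp only [inM22B, Bool.and_eq_true, Nat.beq_eq] at h
  obtain ⟨⟨h0, h23⟩, h00⟩ := h
  obtain ⟨hok, hm⟩ := Compute.mem_M24_of_check h0
  refine ⟨hok, ⟨hm, MulAction.mem_stabilizer_iff.2 ?_⟩, MulAction.mem_stabilizer_iff.2 ?_⟩
  · have e := rep24.act_spec g 23 hok (show 23 < rep24.n from (by decide : 23 < 24))
    rw [h23, pt_23] at e
    exact e
  · have e := rep24.act_spec g 0 hok (show 0 < rep24.n from (by decide : 0 < 24))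
    rw [h00, pt_0] at e
    exact e

theorem card_m22 : Nat.card Cfsg.Spor.M22 = 443520 := by
  obtain ⟨hb0, hb1, -⟩ := Compute.bases_m24a
  have hc := Compute.Rep.checkChain_tail Compute.m24a_check
  have e : Cfsg.Spor.M22 = rep24.chainGroup (Compute.m24aChain.tail.tail) := by
    rw [Cfsg.Spor.M22, Cfsg.Spor.M23, Compute.m24_eq, ← pt_23, ← pt_0,
      show Compute.rep24.chainGroup Compute.m24aChain ⊓
        MulAction.stabilizer (Equiv.Perm GolayPt) (rep24.pt 23) = _ from
        Compute.Rep.chainGroup_inf_stabilizer Compute.m24a_check hb0]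
    exact Compute.Rep.chainGroup_inf_stabilizer hc hb1
  rw [e]
  exact (Compute.Rep.card_chainGroup _ (Compute.Rep.checkChain_tail hc)).trans (by decide +kernel)

/-- Certificate for a Sylow 2-subgroup. -/
def cert : CodeFus.Cert where
  xs := [0xbd1767a4b09b8c4aaa483b62c08860,
    0xbd6c98b66e7c24330a883aca462820,
    0xbcdb4b0d877a2b12a92e8116690820,
    0xbb6468d6702bac34a9683d1e160880,
    0xb8d9494dae7c2353292742c85b0820,
    0xbcd8fb0db0a3a3522828394cb90920,
    0xbc9a91d9900bab132a883ac85989e0]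
  k := 3
  pc := [(0, [5, 18, 4, 56, 16, 32]),
    (0, [5, 2, 4, 24, 16]),
    (0, [13, 2, 4, 8]),
    (0, [5, 2, 4]),
    (0, [1, 2]),
    (0, [1]),
    (0, [])]
  z := 0xbc9a91d9900bab132a883ac85989e0
  cols := [130, 260, 776, 792, 1284]
  hists := [[0, 0, 11, 1, 4],
    [0, 8, 8, 0, 0],
    [0, 0, 8, 0, 8],
    [0, 16, 0, 0, 0],
    [0, 8, 8, 0, 0],
    [0, 8, 0, 0, 8],
    [0, 16, 0, 0, 0],
    [16, 0, 0, 0, 0]]
  roots := [[11], [86], [69], [34]]
  steps := [([0], 0xba4d6634872aa53aa16e152217c060, 0xbd166634a21a2534baca855f109c80),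
    ([0], 0xb90e959a127cdc868a83b45952a820, 0xb9c89740d17b56598a8cac87642820),
    ([1, 2, 1], 0xbc22b7d08e326a5159880c9433cda0, 0xba9b211ab69c029a15c81bd9122ce0),
    ([2, 1, 2], 0xb8ed2492300a8cf9a16e395b4a8980, 0xbd4645d230620a14ba6a3b4d2b09e0),
    ([2, 4, 2], 0xbda4da283149c4bab2131b8a6221e0, 0xbd9734560909a8a649e2710a33b620)]
  fin := [[0, 5, 1, 5],
    [1, 5, 1],
    [0, 4, 3, 4],
    [3, 4, 3],
    [1, 2, 1, 3],
    [2, 4, 2, 4],
    [0]]

theorem groupB_ok : cert.groupB inM22B = true := by decide +kernel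

theorem squareB_ok : cert.squareB = true := by decide +kernel

theorem centerB_ok : cert.centerB = true := by decide +kernel

theorem histB_ok : cert.histB = true := by decide +kernel

theorem closedB_ok : cert.closedB inM22B = true := by decide +kernel

/-- The 2-fusion system of the Mathieu group M₂₂ (as the explicit permutation group carved out of the automorphism group of the binary Golay code) on a Sylow 2-subgroup is simple: saturated, over a nontrivial 2-group, with no normal subsystem other than the trivial one and itself. -/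
theorem result (S : Sylow 2 Cfsg.Spor.M22) : (Cfsg.groupFusionSystem (S : Subgroup Cfsg.Spor.M22)).IsSimple 2 := by
  exact CodeFus.isSimple_of_cert Cfsg.Spor.M22 inM22B mem_of_check cert
    groupB_ok squareB_ok centerB_ok histB_ok closedB_ok (m := 3465)
    (by rw [card_m22]; decide +kernel) (by decide) S

end Cfsg.Agent.S5168
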