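import Cfsg.Statements.S2062
import Cfsg.Agent.OutMathieu.Main
import Cfsg.Agent.OutMathieu.DataM22
import Cfsg.Agent.Compute.Mathieu
import Cfsg.Agent.S5168

set_option autoImplicit false
open Cfsg

namespace Cfsg.Agent.S2062

open Cfsg.Agent.OutMathieu
open Cfsg.Agent.Compute (rep24 allBelow_eq_true)
open Cfsg.Agent.S5168 (inM22B cert)

theorem hbase : certM22.baseB inM22B = true := by decide +kernel

theorem hpow : certM22.powB inM22B = true := by decide +kernel

theorem hclass : certM22.classB 0 105 = true := by decide +kernel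

theorem hz : certM22.zB inM22B cert.z = true := by decide +kernel

theorem hsurv : certM22.survB = true := by decide +kernel

theorem hslp : rep24.slpCheck slpM22 [rep24.one, certM22.a, certM22.b]
    Compute.m24aL2.gens = true := by decide +kernel

theorem hzmove : rep24.okb cert.z = true ∧
    Compute.allBelow 24 (fun i => Nat.beq (rep24.act cert.z i) i) = false := by decide +kernel

theorem hlen : certM22.orbs.length = 105 := by decide +kernel

theorem hstep : ∀ j < certM22.orbs.length, ∀ i < certM22.p, certM22.stepB j i = true := by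
  intro j hj i hi
  rw [hlen] at hj
  have h := hclass
  rw [OCert.classB, allBelow_eq_true] at h
  have h' := h j hj
  rw [allBelow_eq_true, Nat.zero_add] at h'
  exact h' i hi

theorem hsep : sepB certM22.a certM22.b wordsM22 0x800001 = true := by decide +kernel

theorem hprop : Compute.propB [(0, [15]), (23, [])] (Nat.xor (2 ^ 24 - 1) 0x800001) = true := by decide +kernel

theorem houter : Compute.inM24B outerM22 = true ∧ Nat.beq (rep24.act outerM22 23) 23 = false := by
  decide +kernel

theorem hnorm_check : (Nat.beq (rep24.mul outerM22 outerInvM22) rep24.one && rep24.okb outerInvM22 &&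
    Compute.m24aL2.gens.all (fun s => rep24.okb s &&
      inM22B (rep24.mul (rep24.mul outerM22 s) outerInvM22))) = true := by
  decide +kernel

/-- The outer automorphism group of M22 has order two. -/
theorem result : Nat.card (Cfsg.Out ↥Cfsg.Spor.M22) = 2 := by
  have hle : Cfsg.Spor.M22 ≤ Cfsg.M24 := fun _ hx => hx.1.1
  have hcard := card_out_le_of_cert hle S5168.mem_of_check (gens := Compute.m24aL2.gens)
    Compute.m22_eq certM22 cert slpM22 hslp S5168.groupB_ok S5168.centerB_ok hzmove hbase hpow
    hstep hz hsurv (m := 3465) (by rw [Compute.card_m22]; decide +kernel) (by decide)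
    (show Nat.Prime 11 by norm_num)
    (by rw [Compute.card_m22, show certM22.p = 11 from rfl]; decide)
  refine le_antisymm (hcard.trans (le_of_eq rfl)) ?_
  obtain ⟨hGok, hGM⟩ := Compute.mem_M24_of_check houter.1
  have hbase' := hbase
  simp only [OCert.baseB, Bool.and_eq_true] at hbase'
  obtain ⟨⟨⟨⟨⟨⟨⟨⟨⟨⟨⟨⟨ha, hb⟩, -⟩, -⟩, -⟩, -⟩, -⟩, -⟩, -⟩, -⟩, -⟩, -⟩, -⟩ := hbase'
  have hn := hnorm_check
  simp only [Bool.and_eq_true, List.all_eq_true, Nat.beq_eq] at hn
  obtain ⟨⟨hone, hGi⟩, hgens⟩ := hn
  have hGiok := rep24.okb_sound _ hGi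
  have hinv : rep24.den outerInvM22 = (rep24.den outerM22)⁻¹ :=
    eq_inv_of_mul_eq_one_right (by rw [← rep24.den_mul _ _ hGok hGiok, hone, rep24.den_one])
  have hA := S5168.mem_of_check _ ha
  have hB := S5168.mem_of_check _ hb
  refine two_le_card_out hle (rep24.den outerM22) hGM ?_ ?_ _ _ hA.2 hB.2
    (fun c hc hca hcb => eq_one_of_commute hA.1 hB.1 hsep hprop hc hca hcb)
  · intro hmem
    have h23 : rep24.den outerM22 (none : GolayPt) = none := MulAction.mem_stabilizer_iff.1 hmem.1.2
    have e := rep24.act_spec _ 23 hGok (show 23 < 24 by norm_num)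
    rw [S5168.pt_23, Equiv.Perm.smul_def, h23, ← S5168.pt_23] at e
    have := rep24.pt_inj _ _ (show 23 < 24 by norm_num) (rep24.act_lt _ _ hGok (show 23 < 24 by norm_num)) e
    exact Bool.eq_false_iff.mp houter.2 (Nat.beq_eq ▸ this.symm)
  · have hspan : Cfsg.Spor.M22 = rep24.span Compute.m24aL2.gens := Compute.m22_eq
    conv_lhs => rw [hspan, Compute.Rep.span, MonoidHom.map_closure]
    rw [Subgroup.closure_le]
    rintro _ ⟨_, ⟨g, hg, rfl⟩, rfl⟩
    obtain ⟨hgo, hgc⟩ := hgens g hg
    have hgok := rep24.okb_sound _ hgo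
    have := (S5168.mem_of_check _ hgc).2
    rw [rep24.den_mul _ _ (rep24.ok_mul _ _ hGok hgok) hGiok, rep24.den_mul _ _ hGok hgok, hinv] at this
    exact this

end Cfsg.Agent.S2062
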