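import Cfsg.Statements.S5569
import Cfsg.Agent.J4Type.V11.Setup
import Cfsg.Agent.J4Type.V11.CentT
-- import your own Cfsg.Agent.* helpers here

set_option autoImplicit false
open Cfsg

namespace Cfsg.Agent.S5569

/-- Let G be a finite non-abelian simple group of Janko-four type (an involution z whose centralizer H has an extraspecial largest normal 2-subgroup E of order 2^13 containing its centralizer in H, a normal subgroup N ≥ E of H with N/E of order 3 and H/N the automorphism group of M₂₂, and a subgroup P ≤ N of order 3 with C_E(P) = ⟨z⟩, N_H(P) ≠ C_H(P) and P ≤ C_H(P)′). Then the centralizer of an involution t of G that is not conjugate to z is a split extension of an elementary abelian normal subgroup of order 2^11 by a complement isomorphic to the automorphism group of M₂₂. -/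
theorem result {G : Type*} [Group G] [Finite G] [IsSimpleGroup G] (hG : ¬ IsMulCommutative G) (z : G) (hJ : Cfsg.IsOfJankoFourTypeAt z) (t : G) (ht : orderOf t = 2) (hnc : ¬ IsConj z t) :
    ∃ V K : Subgroup G, V ≤ Subgroup.centralizer ({t} : Set G) ∧ K ≤ Subgroup.centralizer ({t} : Set G) ∧
    Subgroup.centralizer ({t} : Set G) ≤ Subgroup.normalizer (V : Set G) ∧ Cfsg.IsElementaryAbelian 2 V ∧ Nat.card ↥V = 2 ^ 11 ∧
    K ⊓ V = ⊥ ∧ K ⊔ V = Subgroup.centralizer ({t} : Set G) ∧ Nonempty (↥K ≃* MulAut ↥Cfsg.Spor.M22) := by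
  obtain ⟨P, hJ⟩ := hJ
  obtain ⟨B, S⟩ := J4Type.V11.exists_sys hG hJ
  obtain ⟨F, hF⟩ := J4Type.V11.Frame.exists_good S
  have ht2 : t * t = 1 := by rw [← pow_two, ← ht]; exact pow_orderOf_eq_one t
  have ht1 : t ≠ 1 := fun h => by rw [h, orderOf_one] at ht; exact absurd ht (by norm_num)
  obtain ⟨g, rfl⟩ := isConj_iff.1 ((F.classes hF ht2 ht1).resolve_left hnc)
  have hinj := J4Type.V11.cj_inj g
  obtain ⟨K, hK, h1, h2, ⟨e⟩⟩ := F.exists_lc_split hF
  have hcent : Subgroup.centralizer ({g * F.tt * g⁻¹} : Set G) = F.lc.map (J4Type.V11.cj g) := F.lc_conj g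
  rw [hcent]
  refine ⟨F.grp.map (J4Type.V11.cj g), K.map (J4Type.V11.cj g), Subgroup.map_mono F.grp_le_lc,
    Subgroup.map_mono hK, ?_, J4Type.V11.elem_map (MulAut.conj g) F.isElementary, ?_, ?_,
    by rw [← Subgroup.map_sup, h2], ⟨(K.equivMapOfInjective _ hinj).symm.trans e⟩⟩
  · rw [F.normalizer_conj g]
    exact Subgroup.map_mono (F.cent_le_nrm hF)
  · rw [Subgroup.card_map_of_injective hinj, F.card_grp]
  · rw [← Subgroup.map_inf _ _ _ hinj, h1, Subgroup.map_bot]

end Cfsg.Agent.S5569
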