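import Cfsg.Statements.S5564
import Cfsg.Agent.S2062
import Cfsg.Agent.J4Type.ClassesThree
import Cfsg.Agent.J4Type.CoverFinal
import Cfsg.Agent.J4Type.FusionMain
import Cfsg.Agent.J4Type.Orbits.Lin

set_option autoImplicit false
open Cfsg

namespace Cfsg.Agent.S5564

/-- Let G be a finite non-abelian simple group of Janko-four type (an involution z whose centralizer H has an extraspecial largest normal 2-subgroup E of order 2^13 containing its centralizer in H, a normal subgroup N ≥ E of H with N/E of order 3 and H/N the automorphism group of M₂₂, and a subgroup P ≤ N of order 3 with C_E(P) = ⟨z⟩, N_H(P) ≠ C_H(P) and P ≤ C_H(P)′). Then G has exactly one conjugacy class of elements of order 3. -/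
theorem result {G : Type*} [Group G] [Finite G] [IsSimpleGroup G] (hG : ¬ IsMulCommutative G) (hJ : Cfsg.IsOfJankoFourType G) :
    ∀ x y : G, orderOf x = 3 → orderOf y = 3 → IsConj x y := by
  obtain ⟨z, P, hJ⟩ := hJ
  obtain ⟨B, hM⟩ := J4Type.Orbits.exists_model_janko hJ
  obtain ⟨g, hg, hgz⟩ := J4Type.Base.exists_conj_mem_oc hJ hG
  have hc : J4Type.Conf z (g * z * g⁻¹) := ⟨hg, hgz, g, rfl⟩
  obtain ⟨hperf, -, hZ, hIso, hN⟩ := J4Type.sixfold_of_conf hJ hM hM.linFacts hc
  have := Compute.isSimpleGroup_m22
  exact J4Type.isConj_three S2062.result hJ hperf hZ hIso hN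
    (J4Type.exists_conj_cSub (J4Type.Base.actData hJ) hM.linFacts hc)

end Cfsg.Agent.S5564
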