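import Cfsg.Statements.S5567
import Cfsg.Agent.J4Type.V11.Setup
import Cfsg.Agent.J4Type.V11.Transport
import Cfsg.Agent.J4Type.V11.Complement
-- import your own Cfsg.Agent.* helpers here

set_option autoImplicit false
open Cfsg

namespace Cfsg.Agent.S5567

/-- Let G be a finite non-abelian simple group of Janko-four type (an involution z whose centralizer H has an extraspecial largest normal 2-subgroup E of order 2^13 containing its centralizer in H, a normal subgroup N ≥ E of H with N/E of order 3 and H/N the automorphism group of M₂₂, and a subgroup P ≤ N of order 3 with C_E(P) = ⟨z⟩, N_H(P) ≠ C_H(P) and P ≤ C_H(P)′). Then every elementary abelian subgroup V of G of order 2^11 contains its centralizer, and its normalizer is a split extension of V by a complement isomorphic to the Mathieu group M₂₄. -/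
theorem result {G : Type*} [Group G] [Finite G] [IsSimpleGroup G] (hG : ¬ IsMulCommutative G) (hJ : Cfsg.IsOfJankoFourType G) (V : Subgroup G) (hV : Cfsg.IsElementaryAbelian 2 V) (hcard : Nat.card ↥V = 2 ^ 11) :
    Subgroup.centralizer (V : Set G) ≤ V ∧ ∃ K : Subgroup G, K ≤ Subgroup.normalizer (V : Set G) ∧ K ⊓ V = ⊥ ∧ K ⊔ V = Subgroup.normalizer (V : Set G) ∧ Cfsg.Spor.IsoM24 ↥K := by
  obtain ⟨z, P, hJ⟩ := hJ
  obtain ⟨B, S⟩ := J4Type.V11.exists_sys hG hJ
  obtain ⟨F, hF⟩ := J4Type.V11.Frame.exists_good S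
  obtain ⟨g, rfl⟩ := F.exists_conj_grp hV hcard
  refine ⟨F.centralizer_conj g, ?_⟩
  obtain ⟨K, hK, h1, h2, ⟨e⟩⟩ := F.exists_split hF
  rw [F.normalizer_conj g]
  have hinj := J4Type.V11.cj_inj g
  refine ⟨K.map (J4Type.V11.cj g), Subgroup.map_mono hK, ?_, by rw [← Subgroup.map_sup, h2],
    ⟨(K.equivMapOfInjective _ hinj).symm.trans e⟩⟩
  rw [← Subgroup.map_inf _ _ _ hinj, h1, Subgroup.map_bot]

end Cfsg.Agent.S5567
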