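import Cfsg.Statements.S5570
import Cfsg.Agent.J4Type.V11.Setup
import Cfsg.Agent.TenLocal.Transport
import Cfsg.Agent.TenLocal.Classify
import Cfsg.Agent.TenLocal.Split
import Cfsg.Agent.TenLocal.Quot
-- import your own Cfsg.Agent.* helpers here

set_option autoImplicit false
open Cfsg

namespace Cfsg.Agent.S5570

/-- Let G be a finite non-abelian simple group of Janko-four type (an involution z whose centralizer H has an extraspecial largest normal 2-subgroup E of order 2^13 containing its centralizer in H, a normal subgroup N ≥ E of H with N/E of order 3 and H/N the automorphism group of M₂₂, and a subgroup P ≤ N of order 3 with C_E(P) = ⟨z⟩, N_H(P) ≠ C_H(P) and P ≤ C_H(P)′). Then G has self-centralizing elementary abelian subgroups of order 2^10, any two of them are conjugate, and for such a subgroup A the normalizer of A is a split extension of A by a complement isomorphic to L₅(2) under which A has no proper non-trivial invariant subgroup. -/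
theorem result {G : Type*} [Group G] [Finite G] [IsSimpleGroup G] (hG : ¬ IsMulCommutative G) (hJ : Cfsg.IsOfJankoFourType G) :
    (∃ A : Subgroup G, Cfsg.IsElementaryAbelian 2 A ∧ Nat.card ↥A = 2 ^ 10 ∧ Subgroup.centralizer (A : Set G) = A) ∧
    (∀ A A' : Subgroup G, Cfsg.IsElementaryAbelian 2 A → Nat.card ↥A = 2 ^ 10 → Subgroup.centralizer (A : Set G) = A → Cfsg.IsElementaryAbelian 2 A' → Nat.card ↥A' = 2 ^ 10 → Subgroup.centralizer (A' : Set G) = A' → ∃ g : G, A' = A.map (MulAut.conj g).toMonoidHom) ∧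
    ∀ A : Subgroup G, Cfsg.IsElementaryAbelian 2 A → Nat.card ↥A = 2 ^ 10 → Subgroup.centralizer (A : Set G) = A →
      (∃ B : Subgroup G, B ≤ Subgroup.normalizer (A : Set G) ∧ B ⊓ A = ⊥ ∧ B ⊔ A = Subgroup.normalizer (A : Set G) ∧
        Nonempty (↥B ≃* Matrix.SpecialLinearGroup (Fin 5) (ZMod 2))) ∧
      ∀ W : Subgroup G, W ≤ A → Subgroup.normalizer (A : Set G) ≤ Subgroup.normalizer (W : Set G) → W = ⊥ ∨ W = A := by
  obtain ⟨z, P, hJ⟩ := hJ
  obtain ⟨B, S⟩ := J4Type.V11.exists_sys hG hJ
  obtain ⟨T⟩ := TenLocal.exists_sect S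
  have hcl : T.ClassLe := fun A h1 h2 h3 h4 => TenLocal.conj_std_of_le T h1 h2 h3 h4
  refine ⟨⟨T.std, T.std_elem, T.card_std, le_antisymm T.std_self
    fun x hx => Subgroup.mem_centralizer_iff.2 fun a ha => T.std_comm ha hx⟩, ?_, ?_⟩
  · intro A A' hA hc hC hA' hc' hC'
    obtain ⟨g, hg⟩ := TenLocal.conj_std T hA hc hC.le
    obtain ⟨g', hg'⟩ := TenLocal.conj_std T hA' hc' hC'.le
    refine ⟨g'⁻¹ * g, (TenLocal.map_cj_inv hg').trans ?_⟩
    rw [← hg, TenLocal.map_cj_cj]
    rfl
  · intro A hA hc hC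
    obtain ⟨g, hg⟩ := TenLocal.conj_std T hA hc hC.le
    have hA' := TenLocal.map_cj_inv hg
    subst hA'
    have hN := T.card_norm hcl
    obtain ⟨B₀, h1, h2, h3⟩ := T.split hN
    exact ⟨TenLocal.split_map g⁻¹ h1 h2 h3
        (TenLocal.sl_five_of_complement T (T.classes_std hcl).1 hN B₀ h1 h2 h3),
      fun W hW hn => TenLocal.irreducible_map g⁻¹ (fun W hW hn => T.irreducible hcl hW hn) hW hn⟩

end Cfsg.Agent.S5570
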