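import Cfsg.Statements.S0198
import Cfsg.Agent.Char.Gen
-- import your own Cfsg.Agent.* helpers here

set_option autoImplicit false
open Cfsg

namespace Cfsg.Agent.S0198

/-- The isometry lemma behind exceptional characters. Let τ be a family of generalized characters of a finite group G indexed by Fin n, with τ i₀ = 0, every τ i vanishing at the identity, and inner products ⟨τ i, τ j⟩ = 2 if i = j and 1 otherwise for i, j ≠ i₀. Then there are a sign ε and pairwise distinct irreducible characters μ i with τ i = ε (μ i − μ i₀) for all i. -/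
theorem result {G : Type*} [Group G] [Fintype G] (n : ℕ) (i₀ : Fin n) (τ : Fin n → (G → ℂ)) (h0 : τ i₀ = 0) (hgen : ∀ i, Cfsg.IsGeneralizedCharacter G (τ i)) (hone : ∀ i, τ i 1 = 0) (hgram : ∀ i j, i ≠ i₀ → j ≠ i₀ → Cfsg.classInner (τ i) (τ j) = if i = j then 2 else 1) : ∃ ε : ℂ, (ε = 1 ∨ ε = -1) ∧ ∃ μ : Fin n → (G → ℂ), (∀ i, Cfsg.IsIrrCharacter G (μ i)) ∧ Function.Injective μ ∧ ∀ i, τ i = ε • (μ i - μ i₀) := by
  classical
  have hpq : ∀ i, i ≠ i₀ → ∃ P Q : Cfsg.IrrCharacter G, P ≠ Q ∧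
      τ i = (P : G → ℂ) - (Q : G → ℂ) := by
    intro i hi
    obtain ⟨m, -, he, hn⟩ := Char.IsGen.exists_mult (hgen i)
    rw [hgram i i hi hi, if_pos rfl] at hn
    have hs : ∑ ψ, m ψ ^ 2 = 2 := by exact_mod_cast hn.symm
    set s := Finset.univ.filter fun ψ => m ψ ≠ 0 with hsdef
    have hterm : ∀ ψ ∈ s, m ψ ^ 2 = 1 := by
      intro ψ hψ
      have h1 : m ψ ^ 2 ≤ 2 := hs ▸ Finset.single_le_sum (fun φ _ => sq_nonneg (m φ))
        (Finset.mem_univ ψ)
      have h2 : m ψ ≠ 0 := (Finset.mem_filter.1 hψ).2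
      have h3 : -1 ≤ m ψ := by nlinarith
      have h4 : m ψ ≤ 1 := by nlinarith
      rcases (show m ψ = 1 ∨ m ψ = -1 by omega) with e | e <;> simp [e]
    have hcard : s.card = 2 := by
      have h1 : ∑ ψ ∈ s, m ψ ^ 2 = 2 := by
        rw [← hs]
        exact Finset.sum_subset (Finset.subset_univ s) fun ψ _ hψ => by
          simp only [hsdef, Finset.mem_filter, Finset.mem_univ, true_and, not_not] at hψ
          simp [hψ]
      rw [Finset.sum_congr rfl hterm, Finset.sum_const, nsmul_eq_mul, mul_one] at h1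
      exact_mod_cast h1
    obtain ⟨P, Q, hPQ, hs2⟩ := Finset.card_eq_two.1 hcard
    have he2 : τ i = (m P : ℂ) • (P : G → ℂ) + (m Q : ℂ) • (Q : G → ℂ) := by
      rw [he, ← Finset.sum_pair (f := fun ψ => (m ψ : ℂ) • (ψ : G → ℂ)) hPQ, ← hs2]
      exact (Finset.sum_subset (Finset.subset_univ s) fun ψ _ hψ => by
          simp only [hsdef, Finset.mem_filter, Finset.mem_univ, true_and, not_not] at hψ
          simp [hψ]).symm
    obtain ⟨a, ha, hda⟩ := Char.IsIrr.degree P.2
    obtain ⟨b, hb, hdb⟩ := Char.IsIrr.degree Q.2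
    have hz : m P * (a : ℤ) + m Q * b = 0 := by
      have h1 := congrFun he2 1
      simp only [hone, Pi.add_apply, Pi.smul_apply, smul_eq_mul, hda, hdb] at h1
      exact_mod_cast h1.symm
    have hP1 := sq_eq_one_iff.1 (hterm P (by rw [hs2]; simp))
    have hQ1 := sq_eq_one_iff.1 (hterm Q (by rw [hs2]; simp))
    rcases hP1 with e | e <;> rcases hQ1 with e' | e' <;> rw [e, e'] at hz he2
    · omega
    · exact ⟨P, Q, hPQ, by rw [he2]; simp [sub_eq_add_neg]⟩
    · exact ⟨Q, P, hPQ.symm, by rw [he2]; simp [sub_eq_add_neg, add_comm]⟩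
    · omega
  obtain ⟨χ₁⟩ : Nonempty (Cfsg.IrrCharacter G) := ⟨⟨_, Char.isIrrCharacter_one⟩⟩
  have hpq' : ∀ i, ∃ P Q : Cfsg.IrrCharacter G,
      i ≠ i₀ → P ≠ Q ∧ τ i = (P : G → ℂ) - (Q : G → ℂ) := fun i => by
    by_cases hi : i = i₀
    · exact ⟨χ₁, χ₁, fun h => absurd hi h⟩
    · obtain ⟨P, Q, h⟩ := hpq i hi; exact ⟨P, Q, fun _ => h⟩
  choose P Q hPQ using hpq'
  have hrel : ∀ i j, i ≠ i₀ → j ≠ i₀ → i ≠ j →
      (P i = P j ∧ Q i ≠ Q j) ∨ (P i ≠ P j ∧ Q i = Q j) := by
    intro i j hi hj hij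
    have h := hgram i j hi hj
    rw [(hPQ i hi).2, (hPQ j hj).2, if_neg hij] at h
    simp only [Char.classInner_sub_left, Char.classInner_sub_right, Char.classInner_irrChar] at h
    have hne1 := (hPQ i hi).1
    have hne2 := (hPQ j hj).1
    by_cases h1 : P i = P j <;> by_cases h2 : Q i = Q j
    · have ha : P i ≠ Q j := h1.symm ▸ hne2
      have hb : Q i ≠ P j := h2.symm ▸ hne2.symm
      simp [h1, h2, hne2, hne2.symm] at h
    · exact Or.inl ⟨h1, h2⟩
    · exact Or.inr ⟨h1, h2⟩
    · rw [if_neg h1, if_neg h2] at h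
      split_ifs at h <;> norm_num at h
  by_cases hcase : ∀ i j, i ≠ i₀ → j ≠ i₀ → P i = P j
  · by_cases hex : ∃ j, j ≠ i₀
    · obtain ⟨j, hj⟩ := hex
      refine ⟨-1, Or.inr rfl, fun i => if i = i₀ then (P j : G → ℂ) else (Q i : G → ℂ), fun i => ?_,
        fun a b hab => ?_, fun i => ?_⟩
      · dsimp only; split_ifs <;> exact Subtype.property _
      · dsimp only at hab
        split_ifs at hab with ha hb hb
        · exact ha.trans hb.symm
        · exact absurd ((hcase b j hb hj).trans (Subtype.ext hab)) (hPQ b hb).1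
        · exact absurd ((hcase a j ha hj).trans (Subtype.ext hab.symm)) (hPQ a ha).1
        · by_contra hne
          rcases hrel a b ha hb hne with ⟨-, h⟩ | ⟨h, -⟩
          · exact h (Subtype.ext hab)
          · exact h (hcase a b ha hb)
      · dsimp only
        by_cases hi : i = i₀
        · subst hi; simp [h0]
        · rw [if_neg hi, if_pos rfl, (hPQ i hi).2, hcase i j hi hj]; simp
    · push Not at hex
      refine ⟨1, Or.inl rfl, fun _ => (χ₁ : G → ℂ), fun _ => χ₁.2,
        fun a b _ => (hex a).trans (hex b).symm, fun i => ?_⟩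
      rw [hex i, h0]; simp
  · push Not at hcase
    obtain ⟨i1, i2, h1, h2, h12⟩ := hcase
    have hne12 : i1 ≠ i2 := fun e => h12 (by rw [e])
    have hQ12 : Q i1 = Q i2 := by
      rcases hrel i1 i2 h1 h2 hne12 with ⟨h, -⟩ | ⟨-, h⟩
      · exact absurd h h12
      · exact h
    have hall : ∀ k, k ≠ i₀ → Q k = Q i1 := by
      intro k hk
      by_contra hne
      have hk1 : k ≠ i1 := fun e => hne (by rw [e])
      have hk2 : k ≠ i2 := fun e => hne (by rw [e, hQ12])
      rcases hrel k i1 hk h1 hk1 with ⟨ha, -⟩ | ⟨-, ha⟩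
      · rcases hrel k i2 hk h2 hk2 with ⟨hb, -⟩ | ⟨-, hb⟩
        · exact h12 (ha.symm.trans hb)
        · exact hne (hb.trans hQ12.symm)
      · exact hne ha
    refine ⟨1, Or.inl rfl, fun i => if i = i₀ then (Q i1 : G → ℂ) else (P i : G → ℂ), fun i => ?_,
      fun a b hab => ?_, fun i => ?_⟩
    · dsimp only; split_ifs <;> exact Subtype.property _
    · dsimp only at hab
      split_ifs at hab with ha hb hb
      · exact ha.trans hb.symm
      · exact absurd ((Subtype.ext hab).symm.trans (hall b hb).symm) (hPQ b hb).1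
      · exact absurd ((Subtype.ext hab).trans (hall a ha).symm) (hPQ a ha).1
      · by_contra hne
        rcases hrel a b ha hb hne with ⟨-, h⟩ | ⟨h, -⟩
        · exact h ((hall a ha).trans (hall b hb).symm)
        · exact h (Subtype.ext hab)
    · dsimp only
      by_cases hi : i = i₀
      · subst hi; simp [h0]
      · rw [if_neg hi, if_pos rfl, (hPQ i hi).2, hall i hi]; simp

end Cfsg.Agent.S0198
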