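import Cfsg.Statements.S4412

set_option autoImplicit false
set_option linter.unusedSectionVars false
open Cfsg

namespace Cfsg.Agent.S4412

section basic
variable {P : Type*} [Group P] [Finite P]

theorem sq_inj (hodd : Odd (Nat.card P)) {x y : P} (h : x * x = y * y) : x = y := by
  obtain ⟨m, hm⟩ := hodd
  have key : ∀ z : P, (z * z) ^ (m + 1) = z := fun z => by
    rw [← pow_two, ← pow_mul, show 2 * (m + 1) = Nat.card P + 1 by omega, pow_succ,
      pow_card_eq_one', one_mul]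
  rw [← key x, h, key y]

theorem eq_one_of_eq_inv (hodd : Odd (Nat.card P)) {x : P} (h : x = x⁻¹) : x = 1 :=
  sq_inj hodd (by rw [one_mul]; nth_rewrite 2 [h]; rw [mul_inv_cancel])

/-- `x` is a product of a fixed and an inverted element, inside any invariant subgroup. -/
theorem split (hodd : Odd (Nat.card P)) (σ : MulAut P) (hσ : ∀ x, σ (σ x) = x) (Q : Subgroup P)
    (hQ : ∀ x ∈ Q, σ x ∈ Q) {x : P} (hx : x ∈ Q) :
    ∃ c ∈ Q, ∃ d ∈ Q, σ c = c ∧ σ d = d⁻¹ ∧ x = c * d := by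
  obtain ⟨m, hm⟩ := hodd
  have hd2 : ((σ x)⁻¹ * x) ^ (m + 1) * ((σ x)⁻¹ * x) ^ (m + 1) = (σ x)⁻¹ * x := by
    rw [← pow_add, show (m + 1) + (m + 1) = Nat.card P + 1 by omega, pow_succ, pow_card_eq_one',
      one_mul]
  set u := (σ x)⁻¹ * x with hu
  set d := u ^ (m + 1) with hd
  have huQ : u ∈ Q := Q.mul_mem (Q.inv_mem (hQ x hx)) hx
  have hσu : σ u = u⁻¹ := by rw [hu, map_mul, map_inv, hσ, mul_inv_rev, inv_inv]
  have hσd : σ d = d⁻¹ := by rw [hd, map_pow, hσu, inv_pow]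
  refine ⟨x * d⁻¹, Q.mul_mem hx (Q.inv_mem (pow_mem huQ _)), d, pow_mem huQ _, ?_, hσd,
    (inv_mul_cancel_right x d).symm⟩
  rw [map_mul, map_inv, hσd, inv_inv]
  calc σ x * d = σ x * (d * d) * d⁻¹ := by group
    _ = x * d⁻¹ := by rw [hd2, hu, mul_inv_cancel_left]

theorem split_unique (hodd : Odd (Nat.card P)) (σ : MulAut P) {c d c' d' : P} (hc : σ c = c)
    (hd : σ d = d⁻¹) (hc' : σ c' = c') (hd' : σ d' = d'⁻¹) (h : c * d = c' * d') :
    c = c' ∧ d = d' := by
  have e : σ (c * d) = σ (c' * d') := by rw [h]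
  rw [map_mul, map_mul, hc, hd, hc', hd'] at e
  have h2 : d * d = d' * d' := by
    calc d * d = (c * d⁻¹)⁻¹ * (c * d) := by group
      _ = (c' * d'⁻¹)⁻¹ * (c' * d') := by rw [e, h]
      _ = d' * d' := by group
  have hdd := sq_inj hodd h2
  subst hdd
  exact ⟨mul_right_cancel h, rfl⟩

/-- generation by the fixed points of the involutions of a four-group -/
theorem four_gen (hodd : Odd (Nat.card P)) (a b : MulAut P) (ha : ∀ x, a (a x) = x)
    (hb : ∀ x, b (b x) = x) (hab : ∀ x, a (b x) = b (a x)) (Q : Subgroup P)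
    (haQ : ∀ x ∈ Q, a x ∈ Q) (hbQ : ∀ x ∈ Q, b x ∈ Q) (M : Subgroup P)
    (hM : ∀ y ∈ Q, a y = y ∨ b y = y ∨ a (b y) = y → y ∈ M) {x : P} (hx : x ∈ Q) : x ∈ M := by
  obtain ⟨c, hc, i, hi, hac, hai, rfl⟩ := split hodd a ha Q haQ hx
  refine M.mul_mem (hM c hc (Or.inl hac)) ?_
  obtain ⟨e, he, d, hd, hbe, hbd, rfl⟩ := split hodd b hb Q hbQ hi
  refine M.mul_mem (hM e he (Or.inr (Or.inl hbe))) ?_
  have h1 : b (a e) = a e := by rw [← hab, hbe]
  have h2 : b (a d) = (a d)⁻¹ := by rw [← hab, hbd, map_inv]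
  have h3 : b (e * d⁻¹ * e⁻¹) = (e * d⁻¹ * e⁻¹)⁻¹ := by
    rw [map_mul, map_mul, map_inv, map_inv, hbe, hbd]; group
  obtain ⟨k1, k2⟩ := split_unique hodd b h1 h2
    (show b e⁻¹ = e⁻¹ by rw [map_inv, hbe]) h3
    (show a e * a d = e⁻¹ * (e * d⁻¹ * e⁻¹) by rw [← map_mul, hai]; group)
  obtain ⟨m, hm⟩ := id hodd
  set r := e ^ (m + 1) with hr
  have hrr : r * r = e := by
    rw [hr, ← pow_add, show (m + 1) + (m + 1) = Nat.card P + 1 by omega, pow_succ, pow_card_eq_one',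
      one_mul]
  have har : a r = r⁻¹ := by rw [hr, map_pow, k1, inv_pow]
  have hbr : b r = r := by rw [hr, map_pow, hbe]
  have hrQ : r ∈ Q := pow_mem he _
  have hf : a (b (r * d * r⁻¹)) = r * d * r⁻¹ := by
    simp only [map_mul, map_inv, hbr, hbd, har, k2, inv_inv]
    conv_lhs => rw [← hrr]
    group
  have hfM := hM _ (Q.mul_mem (Q.mul_mem hrQ hd) (Q.inv_mem hrQ)) (Or.inr (Or.inr hf))
  have hrM := hM r hrQ (Or.inr (Or.inl hbr))
  simpa [mul_assoc] using M.mul_mem (M.mul_mem (M.inv_mem hrM) hfM) hrM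

theorem commute_of_fpf (hodd : Odd (Nat.card P)) (w u : MulAut P) (hu : ∀ x, u (u x) = x)
    (hwu : ∀ x, w (u x) = u (w x)) (hfpf : ∀ z, w z = z → u z = z → z = 1) {x y : P}
    (hx : w x = x) (hy : w y = y) : x * y = y * x := by
  set Q := MonoidHom.eqLocus w.toMonoidHom (MonoidHom.id P)
  have hinv : ∀ z, w z = z → u z = z⁻¹ := by
    intro z hz
    obtain ⟨c, hc, d, hd, huc, hud, rfl⟩ := split hodd u hu Q
      (fun t ht => show w (u t) = u t by rw [hwu, show w t = t from ht]) (show z ∈ Q from hz)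
    rw [hfpf c hc huc, one_mul]
    exact hud
  have h := hinv (x * y) (by rw [map_mul, hx, hy])
  rw [map_mul, hinv x hx, hinv y hy, mul_inv_rev] at h
  have := congrArg (fun t => x * (y * (t * (y * x)))) h
  group at this ⊢
  exact this

/-- Two elements in a cyclic fixed group are moved alike. -/
theorem not_separated {p : ℕ} [hp : Fact p.Prime] (hp2 : p ≠ 2) (hP : IsPGroup p P) (T U : MulAut P)
    (hTU : ∀ x, T (U x) = U (T x)) (hT : ∃ g : P, ∀ x : P, T x = x ↔ x ∈ Subgroup.zpowers g)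
    {x y : P} (hx : T x = x) (hy : T y = y) (hUx : U x = x) (hUy : U y = y⁻¹) : x = 1 ∨ y = 1 := by
  obtain ⟨g, hg⟩ := hT
  obtain ⟨k, hk⟩ : U g ∈ Subgroup.zpowers g :=
    (hg _).mp (by rw [hTU, (hg g).mpr (Subgroup.mem_zpowers g)])
  have key : ∀ z, T z = z → U z = z ^ k := by
    intro z hz
    obtain ⟨i, rfl⟩ := (hg z).mp hz
    simp only at hk ⊢
    rw [map_zpow, ← hk, ← zpow_mul, ← zpow_mul, mul_comm]
  by_contra h
  push Not at h
  have hdvd : ∀ z : P, z ≠ 1 → p ∣ orderOf z := by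
    intro z hz
    obtain ⟨n, hn⟩ := IsPGroup.iff_orderOf.mp hP z
    rcases n with _ | n
    · exact absurd (orderOf_eq_one_iff.mp (hn.trans (pow_zero p))) hz
    · exact hn ▸ dvd_pow_self p (Nat.succ_ne_zero n)
  have h1 : (orderOf x : ℤ) ∣ k - 1 := orderOf_dvd_iff_zpow_eq_one.mpr (by
    rw [zpow_sub, zpow_one, ← key x hx, hUx, mul_inv_cancel])
  have h2 : (orderOf y : ℤ) ∣ k + 1 := orderOf_dvd_iff_zpow_eq_one.mpr (by
    rw [zpow_add, zpow_one, ← key y hy, hUy, inv_mul_cancel])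
  have h3 : (p : ℤ) ∣ 2 := by
    have := dvd_sub ((Int.natCast_dvd_natCast.mpr (hdvd y h.2)).trans h2)
      ((Int.natCast_dvd_natCast.mpr (hdvd x h.1)).trans h1)
    rwa [show k + 1 - (k - 1) = (2 : ℤ) by ring] at this
  exact hp2 ((Nat.prime_dvd_prime_iff_eq hp.out Nat.prime_two).mp (by exact_mod_cast h3))

theorem card_le_sq_of_two_gen {P : Type*} [CommGroup P] [Finite P] (p : ℕ) (hp : 0 < p) (a b : P)
    (h : Subgroup.closure {a, b} = ⊤) : Nat.card {x : P // x ^ p = 1} ≤ p * p := by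
  set f := powMonoidHom (α := P) p
  have h1 : Nat.card {x : P // x ^ p = 1} = f.range.index := by
    have e1 := f.ker.card_mul_index
    have e2 := f.range.card_mul_index
    rw [Subgroup.index_ker] at e1
    rw [show Nat.card {x : P // x ^ p = 1} = Nat.card f.ker from rfl]
    rw [← e2, mul_comm] at e1
    exact Nat.eq_of_mul_eq_mul_left Nat.card_pos e1
  rw [h1, Subgroup.index_eq_card]
  refine le_of_le_of_eq (Nat.card_le_card_of_surjective
    (fun ij : Fin p × Fin p => ((a ^ (ij.1 : ℕ) * b ^ (ij.2 : ℕ) : P) : P ⧸ f.range)) ?_) (by simp)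
  intro q
  induction q using QuotientGroup.induction_on with
  | H x =>
    obtain ⟨i, j, rfl⟩ := Subgroup.mem_closure_pair.mp (h ▸ Subgroup.mem_top x)
    have hp' : (p : ℤ) ≠ 0 := by exact_mod_cast hp.ne'
    refine ⟨(⟨(i % p).toNat, ?_⟩, ⟨(j % p).toNat, ?_⟩), ?_⟩
    · have := Int.emod_lt_of_pos i (show (0 : ℤ) < p by exact_mod_cast hp)
      have := Int.emod_nonneg i hp'
      omega
    · have := Int.emod_lt_of_pos j (show (0 : ℤ) < p by exact_mod_cast hp)
      have := Int.emod_nonneg j hp'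
      omega
    simp only
    rw [← zpow_natCast a, ← zpow_natCast b, Int.toNat_of_nonneg (Int.emod_nonneg i hp'),
      Int.toNat_of_nonneg (Int.emod_nonneg j hp'), QuotientGroup.eq]
    refine ⟨a ^ (i / p) * b ^ (j / p), ?_⟩
    change (a ^ (i / p) * b ^ (j / p)) ^ p = _
    rw [← zpow_natCast, mul_zpow, ← zpow_mul, ← zpow_mul, mul_inv, ← zpow_neg, ← zpow_neg,
      mul_mul_mul_comm, ← zpow_add, ← zpow_add]
    congr 1 <;> congr 1 <;> [have := Int.emod_add_mul_ediv i p; have := Int.emod_add_mul_ediv j p] <;>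
      linarith

end basic

set_option maxHeartbeats 1600000 in
/-- Let p be an odd prime, P a finite p-group and I an elementary abelian subgroup of order 8 of Aut(P). Call T ∈ I, T ≠ 1, broad when its fixed-point subgroup C_P(T) is not cyclic. Suppose I has a proper subgroup I₀ containing no broad element such that the product of any two broad elements lies in I₀. Then P is abelian of rank exactly 3 (generated by three elements but not by two), there are exactly three broad elements and they generate I, and I₀ is exactly the set of products of two broad elements. -/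
theorem result
    {P : Type*} [Group P] [Finite P] (p : ℕ) (hp : p.Prime) (hp2 : p ≠ 2) (hP : IsPGroup p P)
    (I : Subgroup (MulAut P)) (hI : Cfsg.IsElementaryAbelian 2 I) (hI8 : Nat.card ↥I = 8)
    (I₀ : Subgroup (MulAut P)) (hI₀ : I₀ < I)
    (hdisj : ∀ T ∈ I₀, T ≠ 1 → ∃ g : P, ∀ x : P, (T x = x ↔ x ∈ Subgroup.zpowers g))
    (hprod : ∀ T ∈ I, ∀ T' ∈ I, T ≠ 1 → T' ≠ 1 → (¬ ∃ g : P, ∀ x : P, (T x = x ↔ x ∈ Subgroup.zpowers g)) →
      (¬ ∃ g : P, ∀ x : P, (T' x = x ↔ x ∈ Subgroup.zpowers g)) → T * T' ∈ I₀) :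
    IsMulCommutative P ∧ (∃ a b c : P, Subgroup.closure {a, b, c} = ⊤) ∧ (¬ ∃ a b : P, Subgroup.closure {a, b} = ⊤) ∧
      Nat.card {T : MulAut P // T ∈ I ∧ T ≠ 1 ∧ ¬ ∃ g : P, ∀ x : P, (T x = x ↔ x ∈ Subgroup.zpowers g)} = 3 ∧
      Subgroup.closure {T : MulAut P | T ∈ I ∧ T ≠ 1 ∧ ¬ ∃ g : P, ∀ x : P, (T x = x ↔ x ∈ Subgroup.zpowers g)} = I ∧
      (I₀ : Set (MulAut P)) = {S : MulAut P | ∃ T T' : MulAut P, T ∈ I ∧ T' ∈ I ∧ T ≠ 1 ∧ T' ≠ 1 ∧
        (¬ ∃ g : P, ∀ x : P, (T x = x ↔ x ∈ Subgroup.zpowers g)) ∧ (¬ ∃ g : P, ∀ x : P, (T' x = x ↔ x ∈ Subgroup.zpowers g)) ∧ S = T * T'} := by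
  classical
  haveI : Fact p.Prime := ⟨hp⟩
  obtain ⟨hIc, hI2⟩ := hI
  have hodd : Odd (Nat.card P) := by
    obtain ⟨n, hn⟩ := IsPGroup.iff_card.mp hP
    rw [hn]
    exact (hp.odd_of_ne_two hp2).pow
  have hsq : ∀ T ∈ I, T * T = 1 := fun T hT => by
    have := hI2 T hT
    rwa [pow_two] at this
  have hinv2 : ∀ T ∈ I, ∀ x, T (T x) = x := fun T hT x => by
    rw [← MulAut.mul_apply, hsq T hT]; rfl
  have hcm : ∀ T ∈ I, ∀ U ∈ I, T * U = U * T := fun T hT U hU =>
    congrArg Subtype.val (hIc.is_comm.comm (⟨T, hT⟩ : I) ⟨U, hU⟩)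
  have hcomm : ∀ T ∈ I, ∀ U ∈ I, ∀ x, T (U x) = U (T x) := fun T hT U hU x => by
    rw [← MulAut.mul_apply, hcm T hT U hU]; rfl
  -- every element is one of eight products
  have cover : ∀ a ∈ I, ∀ b ∈ I, ∀ u ∈ I, a ≠ 1 → b ≠ 1 → b ≠ a →
      u ∉ ({1, a, b, a * b} : Set (MulAut P)) → ∀ T ∈ I,
      T ∈ ({1, a, b, a * b} : Set (MulAut P)) ∨ T * u ∈ ({1, a, b, a * b} : Set (MulAut P)) := by
    intro a ha b hb u hu ha1 hb1 hba huK T hT
    let K : Subgroup (MulAut P) := {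
      carrier := {1, a, b, a * b}
      one_mem' := by simp
      mul_mem' := by
        have e1 := hsq a ha
        have e2 := hsq b hb
        have e3 := hcm b hb a ha
        have e4 : b * (a * b) = a := by rw [← mul_assoc, e3, mul_assoc, e2, mul_one]
        have e5 : a * (a * b) = b := by rw [← mul_assoc, e1, one_mul]
        have e6 : a * b * a = b := by rw [mul_assoc, e3, e5]
        have e7 : a * b * b = a := by rw [mul_assoc, e2, mul_one]
        have e8 : a * b * (a * b) = 1 := hsq _ (I.mul_mem ha hb)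
        intro x y hx hy
        simp only [Set.mem_insert_iff, Set.mem_singleton_iff] at hx hy ⊢
        rcases hx with rfl | rfl | rfl | rfl <;> rcases hy with rfl | rfl | rfl | rfl <;>
          simp [e1, e2, e3, e4, e5, e6, e7, e8]
      inv_mem' := by
        intro x hx
        simp only [Set.mem_insert_iff, Set.mem_singleton_iff] at hx ⊢
        have hxI : x ∈ I := by
          rcases hx with rfl | rfl | rfl | rfl
          exacts [I.one_mem, ha, hb, I.mul_mem ha hb]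
        rw [inv_eq_of_mul_eq_one_left (hsq x hxI)]
        exact hx }
    have hKI : K ≤ I := by
      intro x hx
      change x ∈ ({1, a, b, a * b} : Set (MulAut P)) at hx
      simp only [Set.mem_insert_iff, Set.mem_singleton_iff] at hx
      rcases hx with rfl | rfl | rfl | rfl
      exacts [I.one_mem, ha, hb, I.mul_mem ha hb]
    have hK4 : Nat.card K = 4 := by
      have n1 : a ≠ a * b := fun e => hb1 (by simpa using e)
      have n2 : b ≠ a * b := fun e => ha1 (by simpa using e)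
      have n3 : 1 ≠ a * b := fun e => hba (by
        have := congrArg (a * ·) e
        simp only [mul_one, ← mul_assoc, hsq a ha, one_mul] at this
        exact this.symm)
      change Nat.card ↥({1, a, b, a * b} : Set (MulAut P)) = 4
      rw [Nat.card_coe_set_eq, Set.ncard_insert_of_notMem (by simp [ha1.symm, hb1.symm, n3]),
        Set.ncard_insert_of_notMem (by simp [Ne.symm hba, n1]),
        Set.ncard_insert_of_notMem (by simp [n2]), Set.ncard_singleton]
    have hidx : (K.subgroupOf I).index = 2 := by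
      have := (K.subgroupOf I).card_mul_index
      rw [Nat.card_congr (Subgroup.subgroupOfEquivOfLe hKI).toEquiv, hK4, hI8] at this
      omega
    by_cases hTK : T ∈ K
    · exact Or.inl hTK
    · refine Or.inr (?_ : T * u ∈ K)
      have := (Subgroup.mul_mem_iff_of_index_two hidx (a := (⟨T, hT⟩ : I)) (b := ⟨u, hu⟩)).mpr
        (by simp only [Subgroup.mem_subgroupOf]; exact iff_of_false hTK huK)
      exact this
  have pick : ∀ S : Finset (MulAut P), S.card < 8 → ∃ u ∈ I, u ∉ S := by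
    intro S hS
    by_contra hcon
    push Not at hcon
    have : Nat.card I ≤ Nat.card (S : Set (MulAut P)) :=
      Nat.card_mono S.finite_toSet hcon
    rw [hI8, Nat.card_coe_set_eq, Set.ncard_coe_finset] at this
    omega
  -- eigen elements generate
  have gen : ∀ M : Subgroup P, (∀ z : P, (∀ T ∈ I, T z = z ∨ T z = z⁻¹) → z ∈ M) → ∀ x, x ∈ M := by
    intro M hM
    have two : ∀ a ∈ I, ∀ b ∈ I, a ≠ 1 → b ≠ 1 → b ≠ a → ∀ x, a x = x → b x = x → x ∈ M := by
      intro a ha b hb ha1 hb1 hba x hax hbx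
      obtain ⟨u, hu, huK⟩ := pick {1, a, b, a * b} (lt_of_le_of_lt Finset.card_le_four (by norm_num))
      set Q := MonoidHom.eqLocus a.toMonoidHom (MonoidHom.id P) ⊓
        MonoidHom.eqLocus b.toMonoidHom (MonoidHom.id P)
      obtain ⟨c, hc, d, hd, huc, hud, rfl⟩ := split hodd u (hinv2 u hu) Q (fun t ht =>
        ⟨show a (u t) = u t by rw [hcomm a ha u hu, show a t = t from ht.1],
          show b (u t) = u t by rw [hcomm b hb u hu, show b t = t from ht.2]⟩)
        (show x ∈ Q from ⟨hax, hbx⟩)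
      have hz : ∀ z ∈ Q, (u z = z ∨ u z = z⁻¹) → ∀ T ∈ I, T z = z ∨ T z = z⁻¹ := by
        intro z hz huz T hT
        have hK : ∀ k ∈ ({1, a, b, a * b} : Set (MulAut P)), k z = z := by
          intro k hk
          simp only [Set.mem_insert_iff, Set.mem_singleton_iff] at hk
          rcases hk with rfl | rfl | rfl | rfl
          · rfl
          · exact hz.1
          · exact hz.2
          · rw [MulAut.mul_apply, show b z = z from hz.2]; exact hz.1
        rcases cover a ha b hb u hu ha1 hb1 hba (by simpa using huK) T hT with h | h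
        · exact Or.inl (hK T h)
        · have e : T = u * (T * u) := by
            rw [hcm T hT u hu, ← mul_assoc, hsq u hu, one_mul]
          rw [e, MulAut.mul_apply, hK _ h]
          exact huz
      exact M.mul_mem (hM c (hz c hc (Or.inl huc))) (hM d (hz d hd (Or.inr hud)))
    intro x
    obtain ⟨a, ha, ha1⟩ := pick {1} (by simp)
    obtain ⟨b, hb, hb1⟩ := pick {1, a} (lt_of_le_of_lt Finset.card_le_two (by norm_num))
    simp only [Finset.mem_insert, Finset.mem_singleton, not_or] at ha1 hb1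
    have one : ∀ t ∈ I, t ≠ 1 → ∀ y, t y = y → y ∈ M := by
      intro t ht ht1 y hy
      obtain ⟨v, hv, hv1⟩ := pick {1, t} (lt_of_le_of_lt Finset.card_le_two (by norm_num))
      obtain ⟨w, hw, hw1⟩ := pick {1, t, v, t * v} (lt_of_le_of_lt Finset.card_le_four (by norm_num))
      simp only [Finset.mem_insert, Finset.mem_singleton, not_or] at hv1 hw1
      set Q := MonoidHom.eqLocus t.toMonoidHom (MonoidHom.id P)
      refine four_gen hodd v w (hinv2 v hv) (hinv2 w hw) (hcomm v hv w hw) Q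
        (fun z hz => show t (v z) = v z by rw [hcomm t ht v hv, show t z = z from hz])
        (fun z hz => show t (w z) = w z by rw [hcomm t ht w hw, show t z = z from hz]) M ?_
        (show y ∈ Q from hy)
      intro z hz h
      have hvw1 : v * w ≠ 1 := fun e => hw1.2.2.1 (by
        have := congrArg (v * ·) e
        simpa [← mul_assoc, hsq v hv] using this)
      have hvwt : v * w ≠ t := fun e => hw1.2.2.2 (by
        rw [hcm t ht v hv, ← e, ← mul_assoc, hsq v hv, one_mul])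
      rcases h with h | h | h
      · exact two t ht v hv ht1 hv1.1 hv1.2 z hz h
      · exact two t ht w hw ht1 hw1.1 hw1.2.1 z hz h
      · exact two t ht (v * w) (I.mul_mem hv hw) ht1 hvw1 hvwt z hz h
    have hab1 : a * b ≠ 1 := fun e => hb1.2 (by
      have := congrArg (a * ·) e
      simpa [← mul_assoc, hsq a ha] using this)
    refine four_gen hodd a b (hinv2 a ha) (hinv2 b hb) (hcomm a ha b hb) ⊤ (fun _ _ => trivial)
      (fun _ _ => trivial) M ?_ (Subgroup.mem_top x)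
    rintro y - (h | h | h)
    · exact one a ha ha1 y h
    · exact one b hb hb1.1 y h
    · exact one (a * b) (I.mul_mem ha hb) hab1 y h
  have moved : ∀ T ∈ I, T ≠ 1 → ∃ g : P, g ≠ 1 ∧ (∀ U ∈ I, U g = g ∨ U g = g⁻¹) ∧ T g = g⁻¹ := by
    intro T hT hT1
    by_contra hcon
    push Not at hcon
    refine hT1 (MulEquiv.ext fun x => ?_)
    refine gen (MonoidHom.eqLocus T.toMonoidHom (MonoidHom.id P)) (fun z hz => ?_) x
    by_cases h1 : z = 1
    · subst h1; exact map_one T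
    · exact (hz T hT).resolve_right (hcon z h1 hz)
  have hne : ∀ g : P, g ≠ 1 → g⁻¹ ≠ g := fun g hg e => hg (eq_one_of_eq_inv hodd e.symm)
  -- a dual basis
  have adj : ∀ g : P, (∀ U ∈ I, U g = g ∨ U g = g⁻¹) → ∀ v ∈ I, v g = g⁻¹ → ∀ u ∈ I,
      ∃ u' ∈ I, (u' = u ∨ u' = u * v) ∧ u' g = g := by
    intro g hg v hv hvg u hu
    rcases hg u hu with h | h
    · exact ⟨u, hu, Or.inl rfl, h⟩
    · refine ⟨u * v, I.mul_mem hu hv, Or.inr rfl, ?_⟩
      rw [MulAut.mul_apply, hvg, map_inv, h, inv_inv]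
  obtain ⟨a₀, ha₀, ha₀1⟩ := pick {1} (by simp)
  simp only [Finset.mem_singleton] at ha₀1
  obtain ⟨g₁, hg₁n, hg₁, h11⟩ := moved a₀ ha₀ ha₀1
  obtain ⟨u₀, hu₀, hu₀n⟩ := pick {1, a₀} (lt_of_le_of_lt Finset.card_le_two (by norm_num))
  simp only [Finset.mem_insert, Finset.mem_singleton, not_or] at hu₀n
  obtain ⟨b₀, hb₀, hb₀e, h21⟩ := adj g₁ hg₁ a₀ ha₀ h11 u₀ hu₀
  have hb₀1 : b₀ ≠ 1 := by
    rintro rfl
    rcases hb₀e with h | h
    · exact hu₀n.1 h.symm
    · exact hu₀n.2 (by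
        have := congrArg (· * a₀) h
        simpa [mul_assoc, hsq a₀ ha₀] using this.symm)
  obtain ⟨g₂, hg₂n, hg₂, h22⟩ := moved b₀ hb₀ hb₀1
  obtain ⟨a₁, ha₁, ha₁e, h12⟩ := adj g₂ hg₂ b₀ hb₀ h22 a₀ ha₀
  have h11' : a₁ g₁ = g₁⁻¹ := by
    rcases ha₁e with rfl | rfl
    · exact h11
    · rw [MulAut.mul_apply, h21, h11]
  obtain ⟨u₁, hu₁, hu₁n⟩ := pick {1, a₁, b₀, a₁ * b₀} (lt_of_le_of_lt Finset.card_le_four (by norm_num))
  simp only [Finset.mem_insert, Finset.mem_singleton, not_or] at hu₁n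
  obtain ⟨u₂, hu₂, hu₂e, h31⟩ := adj g₁ hg₁ a₁ ha₁ h11' u₁ hu₁
  obtain ⟨c, hc, hce, h32⟩ := adj g₂ hg₂ b₀ hb₀ h22 u₂ hu₂
  have h31' : c g₁ = g₁ := by
    rcases hce with rfl | rfl
    · exact h31
    · rw [MulAut.mul_apply, h21, h31]
  have hc1 : c ≠ 1 := by
    rintro rfl
    have cancel : ∀ {u v : MulAut P}, v ∈ I → (1 : MulAut P) = u * v → u = v := fun {u v} hv e => by
      rw [← mul_one u, ← hsq v hv, ← mul_assoc, ← e, one_mul]
    rcases hce with h | h
    · rcases hu₂e with e | e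
      · exact hu₁n.1 (e.symm.trans h.symm)
      · exact hu₁n.2.1 (cancel ha₁ (h.trans e))
    · rcases hu₂e with e | e
      · exact hu₁n.2.2.1 (e ▸ cancel hb₀ h)
      · refine hu₁n.2.2.2 (cancel (I.mul_mem ha₁ hb₀) ?_)
        rw [← mul_assoc, ← e, ← h]
  obtain ⟨g₃, hg₃n, hg₃, h33⟩ := moved c hc hc1
  obtain ⟨a, ha, hae, h13⟩ := adj g₃ hg₃ c hc h33 a₁ ha₁
  obtain ⟨b, hb, hbe, h23⟩ := adj g₃ hg₃ c hc h33 b₀ hb₀
  have A1 : a g₁ = g₁⁻¹ := by
    rcases hae with rfl | rfl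
    · exact h11'
    · rw [MulAut.mul_apply, h31', h11']
  have A2 : a g₂ = g₂ := by
    rcases hae with rfl | rfl
    · exact h12
    · rw [MulAut.mul_apply, h32, h12]
  have B1 : b g₁ = g₁ := by
    rcases hbe with rfl | rfl
    · exact h21
    · rw [MulAut.mul_apply, h31', h21]
  have B2 : b g₂ = g₂⁻¹ := by
    rcases hbe with rfl | rfl
    · exact h22
    · rw [MulAut.mul_apply, h32, h22]
  have ha1 : a ≠ 1 := fun e => hne g₁ hg₁n (by rw [← A1, e]; rfl)
  have hb1 : b ≠ 1 := fun e => hne g₂ hg₂n (by rw [← B2, e]; rfl)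
  have hba : b ≠ a := fun e => hne g₁ hg₁n (by rw [← A1, ← e, B1])
  have hca : c ≠ a := fun e => hne g₁ hg₁n (by rw [← A1, ← e, h31'])
  have hcb : c ≠ b := fun e => hne g₂ hg₂n (by rw [← B2, ← e, h32])
  have hcK : c ∉ ({1, a, b, a * b} : Set (MulAut P)) := by
    simp only [Set.mem_insert_iff, Set.mem_singleton_iff, not_or]
    refine ⟨hc1, hca, hcb, fun e => hne g₃ hg₃n ?_⟩
    rw [← h33, e, MulAut.mul_apply, h23, h13]
  set Br : MulAut P → Prop := fun T => ¬ ∃ g : P, ∀ x : P, (T x = x ↔ x ∈ Subgroup.zpowers g) with hBr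
  have broad : ∀ T ∈ I, ∀ U ∈ I, ∀ x y : P, x ≠ 1 → y ≠ 1 → T x = x → T y = y → U x = x →
      U y = y⁻¹ → Br T := by
    intro T hT U hU x y hx hy h1 h2 h3 h4 hcyc
    rcases not_separated hp2 hP T U (hcomm T hT U hU) hcyc h1 h2 h3 h4 with h | h
    exacts [hx h, hy h]
  have hBa : Br a := broad a ha b hb g₃ g₂ hg₃n hg₂n h13 A2 h23 B2
  have hBb : Br b := broad b hb a ha g₃ g₁ hg₃n hg₁n h23 B1 h13 A1
  have hBc : Br c := broad c hc a ha g₂ g₁ hg₂n hg₁n h32 h31' A2 A1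
  have hab1 : a * b ≠ 1 := fun e => hne g₁ hg₁n (by
    rw [← A1]; conv_lhs => rw [← B1, ← MulAut.mul_apply, e]
    rfl)
  have hac1 : a * c ≠ 1 := fun e => hne g₁ hg₁n (by
    rw [← A1]; conv_lhs => rw [← h31', ← MulAut.mul_apply, e]
    rfl)
  have hbc1 : b * c ≠ 1 := fun e => hne g₂ hg₂n (by
    rw [← B2]; conv_lhs => rw [← h32, ← MulAut.mul_apply, e]
    rfl)
  have cab := hdisj _ (hprod a ha b hb ha1 hb1 hBa hBb) hab1
  have cac := hdisj _ (hprod a ha c hc ha1 hc1 hBa hBc) hac1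
  have cbc := hdisj _ (hprod b hb c hc hb1 hc1 hBb hBc) hbc1
  -- the cyclic fixed groups
  have oneAxis : ∀ a ∈ I, ∀ b ∈ I, ∀ c ∈ I, (∃ g : P, ∀ x : P, ((a * b) x = x ↔ x ∈ Subgroup.zpowers g)) →
      ∀ g : P, g ≠ 1 → a g = g → b g = g → c g = g⁻¹ →
      ∀ x, (a * b) x = x → a x = x ∧ b x = x ∧ c x = x⁻¹ := by
    intro a ha b hb c hc hcyc g hgn hag hbg hcg x hx
    have habI := I.mul_mem ha hb
    have hg' : (a * b) g = g := by rw [MulAut.mul_apply, hbg, hag]
    set Q := MonoidHom.eqLocus (a * b).toMonoidHom (MonoidHom.id P)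
    have hQinv : ∀ U ∈ I, ∀ t ∈ Q, U t ∈ Q := fun U hU t ht =>
      show (a * b) (U t) = U t by rw [hcomm _ habI U hU, show (a * b) t = t from ht]
    obtain ⟨u, hu, d, hd, hau, had, rfl⟩ := split hodd a (hinv2 a ha) Q (hQinv a ha) (show x ∈ Q from hx)
    have hd1 : d = 1 := (not_separated hp2 hP (a * b) a (hcomm _ habI a ha) hcyc hg' hd hag had).resolve_left hgn
    subst hd1
    rw [mul_one] at hx ⊢
    have hbu : b u = u := by
      have := congrArg a (show (a * b) u = u from hu)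
      rw [MulAut.mul_apply, hinv2 a ha, hau] at this
      exact this
    obtain ⟨e, he, f, hf, hce, hcf, hef⟩ := split hodd c (hinv2 c hc) Q (hQinv c hc) hu
    have he1 : e = 1 := (not_separated hp2 hP (a * b) c (hcomm _ habI c hc) hcyc he hg' hce hcg).resolve_right hgn
    rw [he1, one_mul] at hef
    subst hef
    exact ⟨hau, hbu, hcf⟩
  have X3 := oneAxis a ha b hb c hc cab g₃ hg₃n h13 h23 h33
  have X2 := oneAxis a ha c hc b hb cac g₂ hg₂n A2 h32 B2
  have X1 := oneAxis b hb c hc a ha cbc g₁ hg₁n B1 h31' A1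
  obtain ⟨t₃, ht₃⟩ := id cab
  obtain ⟨t₂, ht₂⟩ := id cac
  obtain ⟨t₁, ht₁⟩ := id cbc
  obtain ⟨p3a, p3b, p3c⟩ := X3 t₃ ((ht₃ t₃).mpr (Subgroup.mem_zpowers _))
  obtain ⟨p2a, p2c, p2b⟩ := X2 t₂ ((ht₂ t₂).mpr (Subgroup.mem_zpowers _))
  obtain ⟨p1b, p1c, p1a⟩ := X1 t₁ ((ht₁ t₁).mpr (Subgroup.mem_zpowers _))
  have htop : Subgroup.closure ({t₁, t₂, t₃} : Set P) = ⊤ := by
    refine eq_top_iff.mpr fun x _ => gen _ (fun z hz => ?_) x
    have hle : ∀ t ∈ ({t₁, t₂, t₃} : Set P), Subgroup.zpowers t ≤ Subgroup.closure ({t₁, t₂, t₃} : Set P) :=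
      fun t ht => Subgroup.zpowers_le.mpr (Subgroup.subset_closure ht)
    have h3 : (a * b) z = z → z ∈ Subgroup.closure ({t₁, t₂, t₃} : Set P) := fun h =>
      hle t₃ (by simp) ((ht₃ z).mp h)
    have h2 : (a * c) z = z → z ∈ Subgroup.closure ({t₁, t₂, t₃} : Set P) := fun h =>
      hle t₂ (by simp) ((ht₂ z).mp h)
    have h1 : (b * c) z = z → z ∈ Subgroup.closure ({t₁, t₂, t₃} : Set P) := fun h =>
      hle t₁ (by simp) ((ht₁ z).mp h)
    rcases hz a ha with ea | ea <;> rcases hz b hb with eb | eb <;> rcases hz c hc with ec | ec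
    all_goals first
      | (refine h3 ?_; simp [MulAut.mul_apply, map_inv, ea, eb]; done)
      | (refine h2 ?_; simp [MulAut.mul_apply, map_inv, ea, ec]; done)
      | (refine h1 ?_; simp [MulAut.mul_apply, map_inv, eb, ec]; done)
  have c12 : t₁ * t₂ = t₂ * t₁ := commute_of_fpf hodd c (a * b) (hinv2 _ (I.mul_mem ha hb))
    (hcomm c hc _ (I.mul_mem ha hb)) (fun z h1 h2 => eq_one_of_eq_inv hodd
      (h1.symm.trans (X3 z h2).2.2)) p1c p2c
  have c13 : t₁ * t₃ = t₃ * t₁ := commute_of_fpf hodd b (a * c) (hinv2 _ (I.mul_mem ha hc))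
    (hcomm b hb _ (I.mul_mem ha hc)) (fun z h1 h2 => eq_one_of_eq_inv hodd
      (h1.symm.trans (X2 z h2).2.2)) p1b p3b
  have c23 : t₂ * t₃ = t₃ * t₂ := commute_of_fpf hodd a (b * c) (hinv2 _ (I.mul_mem hb hc))
    (hcomm a ha _ (I.mul_mem hb hc)) (fun z h1 h2 => eq_one_of_eq_inv hodd
      (h1.symm.trans (X1 z h2).2.2)) p2a p3a
  have hPc : IsMulCommutative P := by
    have := Subgroup.isMulCommutative_closure (k := ({t₁, t₂, t₃} : Set P)) (by
      intro x hx y hy
      simp only [Set.mem_insert_iff, Set.mem_singleton_iff] at hx hy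
      rcases hx with rfl | rfl | rfl <;> rcases hy with rfl | rfl | rfl <;>
        first | rfl | assumption | exact c12.symm | exact c13.symm | exact c23.symm)
    exact ⟨⟨fun x y => congrArg Subtype.val (this.is_comm.comm
      (⟨x, htop.symm ▸ Subgroup.mem_top x⟩ : Subgroup.closure ({t₁, t₂, t₃} : Set P))
      ⟨y, htop.symm ▸ Subgroup.mem_top y⟩)⟩⟩
  letI : CommGroup P := { ‹Group P› with mul_comm := hPc.is_comm.comm }
  -- independent elements of order `p`
  have ordp : ∀ g : P, g ≠ 1 → ∃ i : ℕ, orderOf (g ^ i) = p := by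
    intro g hg
    have hd : p ∣ orderOf g := by
      obtain ⟨n, hn⟩ := IsPGroup.iff_orderOf.mp hP g
      rcases n with _ | n
      · exact absurd (orderOf_eq_one_iff.mp (hn.trans (pow_zero p))) hg
      · exact hn ▸ dvd_pow_self p (Nat.succ_ne_zero n)
    refine ⟨orderOf g / p, ?_⟩
    exact orderOf_pow_orderOf_div (orderOf_pos g).ne' hd
  obtain ⟨i₁, hi₁⟩ := ordp g₁ hg₁n
  obtain ⟨i₂, hi₂⟩ := ordp g₂ hg₂n
  obtain ⟨i₃, hi₃⟩ := ordp g₃ hg₃n
  set z₁ := g₁ ^ i₁ with hz₁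
  set z₂ := g₂ ^ i₂ with hz₂
  set z₃ := g₃ ^ i₃ with hz₃
  have hge : p * (p * p) ≤ Nat.card {x : P // x ^ p = 1} := by
    have hzp : ∀ z : P, orderOf z = p → ∀ k : ℕ, (z ^ k) ^ p = 1 := fun z hz k => by
      rw [← pow_mul, mul_comm, pow_mul, ← hz, pow_orderOf_eq_one, one_pow]
    let F : Fin p × (Fin p × Fin p) → {x : P // x ^ p = 1} := fun q =>
      ⟨z₁ ^ (q.1 : ℕ) * z₂ ^ (q.2.1 : ℕ) * z₃ ^ (q.2.2 : ℕ), by
        rw [mul_pow, mul_pow, hzp z₁ hi₁, hzp z₂ hi₂, hzp z₃ hi₃, one_mul, one_mul]⟩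
    refine le_of_eq_of_le (by simp) (Nat.card_le_card_of_injective F ?_)
    intro q r hqr
    have h : z₁ ^ (q.1 : ℕ) * z₂ ^ (q.2.1 : ℕ) * z₃ ^ (q.2.2 : ℕ) =
        z₁ ^ (r.1 : ℕ) * z₂ ^ (r.2.1 : ℕ) * z₃ ^ (r.2.2 : ℕ) := congrArg Subtype.val hqr
    set w₁ := z₁ ^ (q.1 : ℕ) / z₁ ^ (r.1 : ℕ) with hw₁
    set w₂ := z₂ ^ (q.2.1 : ℕ) / z₂ ^ (r.2.1 : ℕ) with hw₂
    set w₃ := z₃ ^ (q.2.2 : ℕ) / z₃ ^ (r.2.2 : ℕ) with hw₃
    have hprod1 : w₁ * w₂ * w₃ = 1 := by
      rw [hw₁, hw₂, hw₃, div_mul_div_comm, div_mul_div_comm, h, div_self']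
    have aw₁ : a w₁ = w₁⁻¹ := by simp [hw₁, hz₁, map_div, A1, inv_pow, div_eq_mul_inv, mul_comm]
    have aw₂ : a w₂ = w₂ := by simp [hw₂, hz₂, map_div, A2]
    have aw₃ : a w₃ = w₃ := by simp [hw₃, hz₃, map_div, h13]
    have bw₂ : b w₂ = w₂⁻¹ := by simp [hw₂, hz₂, map_div, B2, inv_pow, div_eq_mul_inv, mul_comm]
    have bw₃ : b w₃ = w₃ := by simp [hw₃, hz₃, map_div, h23]
    have e1 : w₁ = 1 := by
      refine eq_one_of_eq_inv hodd ?_
      have := congrArg a hprod1
      rw [map_mul, map_mul, map_one, aw₁, aw₂, aw₃] at this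
      exact mul_right_cancel (mul_right_cancel (hprod1.trans this.symm))
    rw [e1, one_mul] at hprod1
    have e2 : w₂ = 1 := by
      refine eq_one_of_eq_inv hodd ?_
      have := congrArg b hprod1
      rw [map_mul, map_one, bw₂, bw₃] at this
      exact mul_right_cancel (hprod1.trans this.symm)
    rw [e2, one_mul] at hprod1
    have inj : ∀ z : P, orderOf z = p → ∀ i j : Fin p, z ^ (i : ℕ) = z ^ (j : ℕ) → i = j :=
      fun z hz i j e => Fin.ext (pow_injOn_Iio_orderOf (by simp [hz, i.isLt]) (by simp [hz, j.isLt]) e)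
    exact Prod.ext (inj z₁ hi₁ _ _ (div_eq_one.mp e1))
      (Prod.ext (inj z₂ hi₂ _ _ (div_eq_one.mp e2)) (inj z₃ hi₃ _ _ (div_eq_one.mp hprod1)))
  -- the remaining element is not broad
  have habc : ¬ Br (a * b * c) := by
    refine not_not.mpr ⟨1, fun x => ?_⟩
    have hall : ∀ x ∈ Subgroup.closure ({t₁, t₂, t₃} : Set P), (a * b * c) x = x⁻¹ := by
      intro x hx
      induction hx using Subgroup.closure_induction with
      | mem y hy =>
        simp only [Set.mem_insert_iff, Set.mem_singleton_iff] at hy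
        rcases hy with rfl | rfl | rfl <;>
          simp [MulAut.mul_apply, p1a, p1b, p1c, p2a, p2b, p2c, p3a, p3b, p3c]
      | one => simp
      | mul y z _ _ ey ez => rw [map_mul, ey, ez, mul_inv]
      | inv y _ ey => rw [map_inv, ey]
    rw [Subgroup.zpowers_one_eq_bot, Subgroup.mem_bot]
    refine ⟨fun h => eq_one_of_eq_inv hodd ?_, fun h => by rw [h, map_one]⟩
    exact h.symm.trans (hall x (htop.symm ▸ Subgroup.mem_top x))
  have nab : ¬ Br (a * b) := not_not.mpr cab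
  have nac : ¬ Br (a * c) := not_not.mpr cac
  have nbc : ¬ Br (b * c) := not_not.mpr cbc
  have eight : ∀ T ∈ I, T = 1 ∨ T = a ∨ T = b ∨ T = a * b ∨ T = c ∨ T = a * c ∨ T = b * c ∨
      T = a * b * c := by
    intro T hT
    rcases cover a ha b hb c hc ha1 hb1 hba hcK T hT with h | h
    · simp only [Set.mem_insert_iff, Set.mem_singleton_iff] at h
      rcases h with h | h | h | h
      exacts [Or.inl h, Or.inr (Or.inl h), Or.inr (Or.inr (Or.inl h)),
        Or.inr (Or.inr (Or.inr (Or.inl h)))]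
    · simp only [Set.mem_insert_iff, Set.mem_singleton_iff] at h
      have e : T = T * c * c := by rw [mul_assoc, hsq c hc, mul_one]
      refine Or.inr (Or.inr (Or.inr (Or.inr ?_)))
      rcases h with h | h | h | h <;> rw [h] at e
      exacts [Or.inl (e.trans (one_mul c)), Or.inr (Or.inl e), Or.inr (Or.inr (Or.inl e)),
        Or.inr (Or.inr (Or.inr e))]
  have hset : {T : MulAut P | T ∈ I ∧ T ≠ 1 ∧ Br T} = {a, b, c} := by
    ext T
    simp only [Set.mem_ofPred_eq, Set.mem_insert_iff, Set.mem_singleton_iff]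
    constructor
    · rintro ⟨hT, hT1, hTB⟩
      rcases eight T hT with rfl | rfl | rfl | rfl | rfl | rfl | rfl | rfl
      exacts [absurd rfl hT1, Or.inl rfl, Or.inr (Or.inl rfl), absurd hTB nab, Or.inr (Or.inr rfl),
        absurd hTB nac, absurd hTB nbc, absurd hTB habc]
    · rintro (rfl | rfl | rfl)
      exacts [⟨ha, ha1, hBa⟩, ⟨hb, hb1, hBb⟩, ⟨hc, hc1, hBc⟩]
  refine ⟨hPc, ⟨t₁, t₂, t₃, htop⟩, ?_, ?_, ?_, ?_⟩
  · rintro ⟨x, y, hxy⟩
    have := hge.trans (card_le_sq_of_two_gen p hp.pos x y hxy)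
    have := hp.two_le
    nlinarith
  · change Nat.card ↥{T : MulAut P | T ∈ I ∧ T ≠ 1 ∧ Br T} = 3
    rw [hset, Nat.card_coe_set_eq, Set.ncard_insert_of_notMem (by simp [hba.symm, hca.symm]),
      Set.ncard_insert_of_notMem (by simp [hcb.symm]), Set.ncard_singleton]
  · change Subgroup.closure {T : MulAut P | T ∈ I ∧ T ≠ 1 ∧ Br T} = I
    rw [hset]
    refine le_antisymm ((Subgroup.closure_le I).mpr ?_) fun T hT => ?_
    · simp [Set.insert_subset_iff, ha, hb, hc]
    · have h1 : ∀ t ∈ ({a, b, c} : Set (MulAut P)), t ∈ Subgroup.closure ({a, b, c} : Set (MulAut P)) :=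
        fun t ht => Subgroup.subset_closure ht
      rcases eight T hT with rfl | rfl | rfl | rfl | rfl | rfl | rfl | rfl
      · exact one_mem _
      exacts [h1 _ (by simp), h1 _ (by simp), mul_mem (h1 _ (by simp)) (h1 _ (by simp)),
        h1 _ (by simp), mul_mem (h1 _ (by simp)) (h1 _ (by simp)),
        mul_mem (h1 _ (by simp)) (h1 _ (by simp)),
        mul_mem (mul_mem (h1 _ (by simp)) (h1 _ (by simp))) (h1 _ (by simp))]
  · ext S
    simp only [SetLike.mem_coe, Set.mem_ofPred_eq]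
    constructor
    · intro hS
      have notIn : ∀ T, T ≠ 1 → Br T → T ∉ I₀ := fun T h1 h2 h => h2 (hdisj T h h1)
      rcases eight S (hI₀.le hS) with rfl | rfl | rfl | rfl | rfl | rfl | rfl | rfl
      · exact ⟨a, a, ha, ha, ha1, ha1, hBa, hBa, (hsq a ha).symm⟩
      · exact absurd hS (notIn _ ha1 hBa)
      · exact absurd hS (notIn _ hb1 hBb)
      · exact ⟨a, b, ha, hb, ha1, hb1, hBa, hBb, rfl⟩
      · exact absurd hS (notIn _ hc1 hBc)
      · exact ⟨a, c, ha, hc, ha1, hc1, hBa, hBc, rfl⟩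
      · exact ⟨b, c, hb, hc, hb1, hc1, hBb, hBc, rfl⟩
      · refine absurd ?_ (notIn c hc1 hBc)
        have := I₀.mul_mem (I₀.inv_mem (hprod a ha b hb ha1 hb1 hBa hBb)) hS
        rwa [inv_mul_cancel_left] at this
    · rintro ⟨T, T', hT, hT', h1, h1', h2, h2', rfl⟩
      exact hprod T hT T' hT' h1 h1' h2 h2'

end Cfsg.Agent.S4412
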