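import Cfsg.Statements.S3035
import Cfsg.Agent.Fg24.InvolD8.Fused
import Cfsg.Agent.Invol.IsolatedApps

set_option autoImplicit false
open Cfsg

namespace Cfsg.Agent.S3035

/-- Let G be a finite group with an involution z whose centralizer is dihedral of order 8. Then G = C_G(z) O(G) with O(G) the largest normal subgroup of odd order, or G is isomorphic to the symmetric group of degree 4, the symmetric group of degree 5, the group SL₃(2), or the alternating group of degree 6. -/
theorem result {G : Type*} [Group G] [Finite G] (z : G) (hz : orderOf z = 2)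
    (hC : Nonempty (↥(Subgroup.centralizer ({z} : Set G)) ≃* DihedralGroup 4)) :
    Subgroup.centralizer ({z} : Set G) ⊔ Cfsg.oddCore G = ⊤ ∨ Nonempty (G ≃* Equiv.Perm (Fin 4)) ∨ Nonempty (G ≃* Equiv.Perm (Fin 5)) ∨
      Nonempty (G ≃* Matrix.SpecialLinearGroup (Fin 3) (ZMod 2)) ∨ Nonempty (G ≃* ↥(alternatingGroup (Fin 6))) := by
  classical
  obtain ⟨e⟩ := hC
  have h2f : Fact (Nat.Prime 2) := ⟨Nat.prime_two⟩
  set C := Subgroup.centralizer ({z} : Set G) with hCdef
  have hC8 : Nat.card C = 8 := Fg24.InvolD8.card_centralizer e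
  have h16 : ¬ 16 ∣ Nat.card G := by
    intro h16
    obtain ⟨K, hK, hCK⟩ := Sylow.exists_subgroup_card_pow_succ (p := 2) (n := 3)
      (show 2 ^ (3 + 1) ∣ Nat.card G from h16) (H := C) hC8
    have hidx : (C.subgroupOf K).index = 2 := by
      have h := (C.subgroupOf K).card_mul_index
      rw [Nat.card_congr (Subgroup.subgroupOfEquivOfLe hCK).toEquiv, hC8, hK] at h
      omega
    have hn : (C.subgroupOf K).Normal := Subgroup.normal_of_index_eq_two hidx
    have hKC : K ≤ C := by
      intro k hk
      have hnor := (Subgroup.normal_subgroupOf_iff_le_normalizer hCK).1 hn hk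
      have hzC : z ∈ C := Subgroup.mem_centralizer_singleton_iff.2 rfl
      have hkz := (Subgroup.mem_normalizer_iff.1 hnor z).1 hzC
      have hcen : ∀ d, e ⟨k * z * k⁻¹, hkz⟩ * d = d * e ⟨k * z * k⁻¹, hkz⟩ := by
        intro d
        obtain ⟨⟨y, hy⟩, rfl⟩ := e.surjective d
        rw [← map_mul, ← map_mul]
        refine congrArg e (Subtype.ext ?_)
        show k * z * k⁻¹ * y = y * (k * z * k⁻¹)
        have hy' : k⁻¹ * y * k ∈ C := (Subgroup.mem_normalizer_iff.1 hnor _).2 (by
          rw [show k * (k⁻¹ * y * k) * k⁻¹ = y by group]; exact hy)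
        have h := Subgroup.mem_centralizer_singleton_iff.1 hy'
        calc k * z * k⁻¹ * y = k * (z * (k⁻¹ * y * k)) * k⁻¹ := by group
          _ = k * (k⁻¹ * y * k * z) * k⁻¹ := by rw [h]
          _ = y * (k * z * k⁻¹) := by group
      have hz2 : z * z = 1 := by rw [← sq, ← hz, pow_orderOf_eq_one]
      have h1 := Fg24.InvolD8.dih_central _ (by
          rw [← map_mul, ← map_one e]
          refine congrArg e (Subtype.ext ?_)
          show k * z * k⁻¹ * (k * z * k⁻¹) = 1
          rw [conj_mul, hz2, mul_one, mul_inv_cancel]) (by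
          rw [← map_one e, e.injective.ne_iff]
          intro h
          have h' : k * z * k⁻¹ = 1 := congrArg Subtype.val h
          rw [conj_eq_one_iff] at h'
          rw [h', orderOf_one] at hz
          omega) (hcen _) (hcen _)
      rw [← Fg24.InvolD8.map_self e hz] at h1
      have h2 : k * z * k⁻¹ = z := congrArg Subtype.val (e.injective h1)
      exact Subgroup.mem_centralizer_singleton_iff.2 (mul_inv_eq_iff_eq_mul.1 h2)
    have := Subgroup.card_le_of_le hKC
    rw [hK, hC8] at this
    omega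
  let S : Sylow 2 G := Sylow.ofCard C (by
    have h8 : 2 ^ 3 ∣ Nat.card G := by
      have h := Subgroup.card_subgroup_dvd_card C
      rw [hC8] at h
      norm_num
      exact h
    have h1 : 3 ≤ (Nat.card G).factorization 2 :=
      (Nat.Prime.pow_dvd_iff_le_factorization Nat.prime_two Nat.card_pos.ne').1 h8
    have h2 : ¬ 4 ≤ (Nat.card G).factorization 2 := fun h =>
      h16 ((Nat.Prime.pow_dvd_iff_le_factorization Nat.prime_two Nat.card_pos.ne').2 h)
    rw [hC8, show (Nat.card G).factorization 2 = 3 by omega]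
    norm_num)
  have hSC : (S : Subgroup G) = C := rfl
  obtain ⟨k, ι, D, hk⟩ := Invol.ddata_exists S (m := 4) (by norm_num) e
  obtain rfl : k = 2 := by
    have : 2 ^ k = 2 ^ 2 := hk.symm
    exact Nat.pow_right_injective le_rfl this
  have hz' : z = ι (DihedralGroup.r (Invol.dh 2)) := by
    have hzS : z ∈ (S : Subgroup G) := by rw [hSC]; exact Subgroup.mem_centralizer_singleton_iff.2 rfl
    obtain ⟨d, hd⟩ := D.exists_eq hzS
    have hcen : ∀ f, d * f = f * d := fun f => D.inj (by
      rw [map_mul, map_mul, hd]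
      have : ι f ∈ C := hSC ▸ D.mem f
      exact (Subgroup.mem_centralizer_singleton_iff.1 this).symm)
    have hz2 : z * z = 1 := by rw [← sq, ← hz, pow_orderOf_eq_one]
    have hd2 : d = DihedralGroup.r 2 :=
      Fg24.InvolD8.dih_central d (D.inj (by rw [map_mul, map_one, hd, hz2])) (fun h => by
        rw [h, map_one] at hd; rw [← hd, orderOf_one] at hz; omega) (hcen _) (hcen _)
    rw [← hd, hd2, Fg24.InvolD8.dh_two]
  have hC' : Subgroup.centralizer ({ι (DihedralGroup.r (Invol.dh 2))} : Set G) = (S : Subgroup G) := by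
    rw [← hz', hSC]
  by_cases hex : ∃ b, IsConj (ι (DihedralGroup.sr b)) (ι (DihedralGroup.r (Invol.dh 2)))
  · obtain ⟨b, hb⟩ := hex
    have hO : Cfsg.oddCore G = ⊥ := by
      refine Fg24.InvolD8.oddCore_eq_bot_of_pair (t := ι (DihedralGroup.sr b)) hz (D.sr_order b) ?_ ?_ hC8
        (hz' ▸ hb.symm) ?_
      · rw [hz']; exact (D.z_comm (D.mem _)).symm
      · rw [hz']
        intro h
        exact DihedralGroup.noConfusion rfl (heq_of_eq (D.inj h))
      · rw [hz', ← map_mul, DihedralGroup.r_mul_sr]
        refine hb.symm.trans (isConj_iff.2 ⟨ι (DihedralGroup.r 1), ?_⟩)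
        rw [← map_inv, ← map_mul, ← map_mul, Invol.r_conj_sr D.pos, Fg24.InvolD8.dh_two, mul_one]
    by_cases hall : ∀ a, IsConj (ι (DihedralGroup.sr a)) (ι (DihedralGroup.r (Invol.dh 2)))
    · rcases Fg24.InvolD8.equiv_of_fused hO S D hC' hall with h | h
      · exact Or.inr (Or.inr (Or.inr (Or.inl h)))
      · exact Or.inr (Or.inr (Or.inr (Or.inr h)))
    · obtain ⟨a, ha⟩ := not_forall.1 hall
      rcases Fg24.InvolD8.mixed hO S D hC' ha hb with h | h
      · exact Or.inr (Or.inl h)
      · exact Or.inr (Or.inr (Or.inl h))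
  · left
    have hiso : Cfsg.IsIsolatedInvolution z := by
      refine ⟨hz, fun g hg => ?_⟩
      have hgS : g * z * g⁻¹ ∈ (S : Subgroup G) := by
        rw [hSC]; exact Subgroup.mem_centralizer_singleton_iff.2 hg.symm.eq
      have ho : orderOf (g * z * g⁻¹) = 2 := by
        rw [← MulAut.conj_apply, MulEquiv.orderOf_eq]; exact hz
      rcases D.involution_cases hgS ho with h | ⟨a, h⟩
      · rw [h, ← hz']
      · exact absurd ⟨a, hz' ▸ h ▸ (isConj_iff.2 ⟨g, rfl⟩ : IsConj z (g * z * g⁻¹)).symm⟩ hex
    refine eq_top_iff.2 fun g _ => ?_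
    obtain ⟨o, ho, hc⟩ := Invol.isolated_decomp hiso g
    rw [show g = o * (o⁻¹ * g) by group]
    exact mul_mem (Subgroup.mem_sup_right ho)
      (Subgroup.mem_sup_left (Subgroup.mem_centralizer_singleton_iff.2 hc.eq))

end Cfsg.Agent.S3035
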