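import Cfsg.Statements.S0542
import Cfsg.Agent.Core.Basics
-- import your own Cfsg.Agent.* helpers here

set_option autoImplicit false
open Cfsg

namespace Cfsg.Agent.S0542

/-- A Sylow p-subgroup of a finite group meets every subnormal subgroup H in a Sylow p-subgroup of H. -/
theorem result {G : Type*} [Group G] [Finite G] (p : ℕ) [Fact p.Prime] (H : Subgroup G) (hH : H.IsSubnormal) (S : Sylow p G) : ∃ Q : Sylow p H, (Q : Subgroup H) = (S : Subgroup G).subgroupOf H := by
  have key : ∀ K : Subgroup G, K.IsSubnormal → ¬ p ∣ (S : Subgroup G).relIndex K := by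
    intro K hK
    induction hK with
    | top => rw [Subgroup.relIndex_top_right]; exact S.not_dvd_index
    | step H K hHK _ hN ih =>
      intro hd
      refine ih (hd.trans ?_)
      have := hN
      have h1 := Core.card_sup_mul_card_inf ((S : Subgroup G).subgroupOf K) (H.subgroupOf K)
      have h2 : (S : Subgroup G).relIndex H = ((S : Subgroup G).subgroupOf K).relIndex (H.subgroupOf K) := by
        rw [Subgroup.relIndex_subgroupOf hHK]
      set Q := (S : Subgroup G).subgroupOf K with hQ
      set N := H.subgroupOf K with hN'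
      rw [h2]
      have h3 : Nat.card (Q ⊓ N : Subgroup K) * Q.relIndex N = Nat.card N := by
        rw [← Subgroup.inf_relIndex_right, ← Subgroup.relIndex_bot_left, ← Subgroup.relIndex_bot_left,
          Subgroup.relIndex_mul_relIndex _ _ _ bot_le inf_le_right]
      have h4 : Nat.card (Q ⊔ N : Subgroup K) = Nat.card Q * Q.relIndex N := by
        refine Nat.eq_of_mul_eq_mul_left (Nat.card_pos (α := (Q ⊓ N : Subgroup K))) ?_
        rw [mul_comm, h1, ← h3]; ring
      have h5 : Nat.card Q * Q.relIndex N ∣ Nat.card K := h4 ▸ Subgroup.card_subgroup_dvd_card _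
      rw [← Q.card_mul_index] at h5
      exact (Nat.mul_dvd_mul_iff_left Nat.card_pos).mp h5
  exact ⟨((S.isPGroup').comap_subtype (K := (H : Subgroup G))).toSylow (key H hH),
    IsPGroup.toSylow_coe _ _⟩

end Cfsg.Agent.S0542
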