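import Cfsg.Statements.S0567
import Mathlib.GroupTheory.IsSubnormal
import Mathlib.GroupTheory.Commutator.Basic
import Cfsg.Agent.Coprime.Tools
-- import your own Cfsg.Agent.* helpers here

set_option autoImplicit false
open Cfsg

namespace Cfsg.Agent.S0567

/-- A subgroup H of a group G is subnormal exactly when, for some m, the subgroup obtained from G by taking the commutator with H m times in succession is contained in H. -/
theorem result {G : Type*} [Group G] (H : Subgroup G) : H.IsSubnormal ↔ ∃ m : ℕ, (fun K : Subgroup G => ⁅K, H⁆)^[m] ⊤ ≤ H := by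
  constructor
  · intro hH
    have key : ∀ K : Subgroup G, K.IsSubnormal → H ≤ K →
        ∃ m : ℕ, (fun K : Subgroup G => ⁅K, H⁆)^[m] ⊤ ≤ K := by
      intro K hK
      induction hK with
      | top => exact fun _ => ⟨0, le_top⟩
      | step L K hLK _ hN ih =>
        intro hHL
        obtain ⟨m, hm⟩ := ih (hHL.trans hLK)
        refine ⟨m + 1, ?_⟩
        rw [Function.iterate_succ_apply']
        refine (Subgroup.commutator_mono hm hHL).trans ?_
        exact Subgroup.le_normalizer_iff_commutator_le_right.mp
          ((Subgroup.normal_subgroupOf_iff_le_normalizer hLK).mp hN)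
    exact key H hH le_rfl
  · rintro ⟨m, hm⟩
    set f : Subgroup G → Subgroup G := fun K => ⁅K, H⁆ with hf
    have hnorm : ∀ i, H ≤ Subgroup.normalizer ((f^[i] ⊤ : Subgroup G) : Set G) := by
      intro i
      induction i with
      | zero => rw [Function.iterate_zero_apply, Subgroup.normalizer_eq_top]; exact le_top
      | succ i _ => rw [Function.iterate_succ_apply']; exact Subgroup.normalizer_commutator_ge_right _ _
    suffices ∀ i, (f^[i] ⊤ ⊔ H).IsSubnormal by
      have := this m
      rwa [sup_eq_right.mpr hm] at this
    intro i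
    induction i with
    | zero => rw [Function.iterate_zero_apply, top_sup_eq]; exact Subgroup.IsSubnormal.top
    | succ i ih =>
      set X := f^[i] ⊤ with hX
      rw [Function.iterate_succ_apply', ← hX]
      show (⁅X, H⁆ ⊔ H).IsSubnormal
      have hle : ⁅X, H⁆ ⊔ H ≤ X ⊔ H :=
        sup_le_sup_right (Subgroup.le_normalizer_iff_commutator_le_left.mp (hnorm i)) H
      refine Subgroup.IsSubnormal.step _ _ hle ih ((Subgroup.normal_subgroupOf_iff_le_normalizer hle).mpr ?_)
      refine sup_le ?_ (le_sup_right.trans Subgroup.le_normalizer)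
      intro x hx
      have h1 : ∀ y ∈ X, (⁅X, H⁆ ⊔ H : Subgroup G).map (MulAut.conj y).toMonoidHom ≤ ⁅X, H⁆ ⊔ H := by
        intro y hy
        rw [Subgroup.map_sup]
        refine sup_le ?_ ?_
        · rw [← Coprime.conj_smul_eq_map]
          exact (Coprime.conj_smul_eq_self_of_mem_normalizer
            (Subgroup.normalizer_commutator_ge_left X H hy)).le.trans le_sup_left
        · rintro _ ⟨h, hh, rfl⟩
          have h2 := Subgroup.mul_mem_sup (Subgroup.commutator_mem_commutator hy hh) hh
          simpa [commutatorElement_def] using h2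
      refine Subgroup.mem_normalizer_iff.mpr fun z =>
        ⟨fun hz => h1 x hx ⟨z, hz, rfl⟩, fun hz => ?_⟩
      have h3 := h1 x⁻¹ (X.inv_mem hx) ⟨_, hz, rfl⟩
      simpa [mul_assoc] using h3

end Cfsg.Agent.S0567
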