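import Cfsg.Statements.S0404
import Cfsg.Agent.Leech.SimpleHSMcL

set_option autoImplicit false
open Cfsg

namespace Cfsg.Agent.S0404

/-- Joint stabiliser of two minimal vectors with coordinate dot product −8 is simple of order 898128000. -/
theorem result (v w : Cfsg.leechLattice) (hv : Cfsg.sqNorm (v : Cfsg.GolayPt → ℤ) = 32) (hw : Cfsg.sqNorm (w : Cfsg.GolayPt → ℤ) = 32) (hvw : Cfsg.dotInt (v : Cfsg.GolayPt → ℤ) (w : Cfsg.GolayPt → ℤ) = -8) : Cfsg.IsMcL ↥(MulAction.stabilizer Cfsg.Co0 v ⊓ MulAction.stabilizer Cfsg.Co0 w) := by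
  obtain ⟨g, g1, g2⟩ := Cfsg.Agent.Leech.trans_pairs' v w Cfsg.Spor.leechU Cfsg.Agent.Leech.eW hv hw
    (show Cfsg.sqNorm Cfsg.Spor.vecU = 32 by decide +kernel)
    (show Cfsg.sqNorm (Cfsg.Agent.Leech.eW : Cfsg.GolayPt → ℤ) = 32 by decide +kernel) (-8) (Or.inr rfl) hvw
    (show Cfsg.dotInt Cfsg.Spor.vecU (Cfsg.Agent.Leech.eW : Cfsg.GolayPt → ℤ) = -8 by decide +kernel)
  obtain ⟨e⟩ := Cfsg.Agent.Leech.stab_pair_iso g v w
  rw [g1, g2] at e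
  obtain ⟨hs, hc⟩ := Cfsg.Agent.Leech.simple_mcl
  exact ⟨MulEquiv.isSimpleGroup (H := ↥Cfsg.Agent.Leech.mclGroup) e, (Nat.card_congr e.toEquiv).trans hc⟩

end Cfsg.Agent.S0404
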