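import Cfsg.Statements.S1581
import Cfsg.Agent.Leech.Orbits275

set_option autoImplicit false
open Cfsg

namespace Cfsg.Agent.S1581

/-- The McLaughlin group acts with rank 3 and subdegrees 1, 112, 162 on its 275 points: the point stabiliser has two orbits on the remaining points, distinguished by customary inner product 1 or 2 with the fixed point. -/
theorem result (u v x : ↥Cfsg.leechLattice) (hu : Cfsg.sqNorm (u : Cfsg.GolayPt → ℤ) = 48) (hv : Cfsg.sqNorm (v : Cfsg.GolayPt → ℤ) = 32 ∧ Cfsg.sqNorm ((u - v) : Cfsg.GolayPt → ℤ) = 32) (hx : x ∈ {x : ↥Cfsg.leechLattice | Cfsg.sqNorm (x : Cfsg.GolayPt → ℤ) = 32 ∧ Cfsg.sqNorm ((u - x) : Cfsg.GolayPt → ℤ) = 32 ∧ Cfsg.dotInt (v : Cfsg.GolayPt → ℤ) (x : Cfsg.GolayPt → ℤ) = 16}) : {y : ↥Cfsg.leechLattice | y ∈ {x : ↥Cfsg.leechLattice | Cfsg.sqNorm (x : Cfsg.GolayPt → ℤ)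 = 32 ∧ Cfsg.sqNorm ((u - x) : Cfsg.GolayPt → ℤ) = 32 ∧ Cfsg.dotInt (v : Cfsg.GolayPt → ℤ) (x : Cfsg.GolayPt → ℤ) = 16} ∧ Cfsg.dotInt (x : Cfsg.GolayPt → ℤ) (y : Cfsg.GolayPt → ℤ) = 8}.ncard = 112 ∧ {y : ↥Cfsg.leechLattice | y ∈ {x : ↥Cfsg.leechLattice | Cfsg.sqNorm (x : Cfsg.GolayPt → ℤ) = 32 ∧ Cfsg.sqNorm ((u - x) : Cfsg.GolayPt → ℤ) = 32 ∧ Cfsg.dotInt (v : Cfsg.GolayPt → ℤ) (x : Cfsg.GolayPt → ℤ) = 16} ∧ y ≠ x ∧ Cfsg.dotInt (x : Cfsg.GolayPt → ℤ) (y : Cfsg.GolayPt → ℤ) = 16}.ncard = 162 ∧ ∀ y ∈ {x : ↥Cfsg.leechLattice | Cfsg.sqNorm (x : Cfsg.GolayPt → ℤ) = 32 ∧ Cfsg.sqNorm ((u - x) : Cfsg.GolayPt → ℤ) = 32 ∧ Cfsg.dotInt (v : Cfsg.GolayPt → ℤ) (x : Cfsg.GolayPt → ℤ) = 16}, ∀ y' ∈ {x : ↥Cfsg.leechLattice | Cfsg.sqNorm (x : Cfsg.GolayPt → ℤ) = 32 ∧ Cfsg.sqNorm ((u - x) : Cfsg.GolayPt → ℤ) = 32 ∧ Cfsg.dotInt (v :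 Cfsg.GolayPt → ℤ) (x : Cfsg.GolayPt → ℤ) = 16}, y ≠ x → y' ≠ x → Cfsg.dotInt (x : Cfsg.GolayPt → ℤ) (y : Cfsg.GolayPt → ℤ) = Cfsg.dotInt (x : Cfsg.GolayPt → ℤ) (y' : Cfsg.GolayPt → ℤ) → ∃ g : ↥Cfsg.Co0, g • u = u ∧ g • v = v ∧ g • x = x ∧ g • y = y' := by
  obtain ⟨g, g1, g2, g3⟩ := Cfsg.Agent.Leech.normal_triple u v x hu hv.1 hx.1
    ((Cfsg.Agent.Leech.sq_sub_iff u v hu hv.1).1 hv.2)
    ((Cfsg.Agent.Leech.sq_sub_iff u x hu hx.1).1 hx.2.1) hx.2.2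
  have g1' : g • u = Cfsg.Spor.leechV := Subtype.ext g1
  obtain ⟨c8, c16, o8, o16, hall⟩ := Cfsg.Agent.Leech.qclasses
  have hX : ∀ y : ↥Cfsg.leechLattice, y ∈ {x : ↥Cfsg.leechLattice | Cfsg.sqNorm (x : Cfsg.GolayPt → ℤ) = 32 ∧ Cfsg.sqNorm ((u - x) : Cfsg.GolayPt → ℤ) = 32 ∧ Cfsg.dotInt (v : Cfsg.GolayPt → ℤ) (x : Cfsg.GolayPt → ℤ) = 16} ↔ g • y ∈ Cfsg.Agent.Leech.qX := by
    intro y
    show _ ↔ Cfsg.sqNorm ((g • y : ↥Cfsg.leechLattice) : Cfsg.GolayPt → ℤ) = 32 ∧ _ ∧ _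
    rw [Cfsg.Agent.Leech.sqNorm_smul, ← g1, ← g2, Cfsg.Agent.Leech.dotInt_smul, Cfsg.Agent.Leech.dotInt_smul]
    constructor
    · rintro ⟨a, b, c⟩; exact ⟨a, (Cfsg.Agent.Leech.sq_sub_iff u y hu a).1 b, c⟩
    · rintro ⟨a, b, c⟩; exact ⟨a, (Cfsg.Agent.Leech.sq_sub_iff u y hu a).2 b, c⟩
  have hd : ∀ y : ↥Cfsg.leechLattice, Cfsg.dotInt ((-Cfsg.Agent.Leech.tripX : ↥Cfsg.leechLattice) : Cfsg.GolayPt → ℤ) ((g • y : ↥Cfsg.leechLattice) : Cfsg.GolayPt → ℤ) = Cfsg.dotInt (x : Cfsg.GolayPt → ℤ) (y : Cfsg.GolayPt → ℤ) := fun y => by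
    rw [← g3, Cfsg.Agent.Leech.dotInt_smul]
  have hxx : Cfsg.dotInt ((-Cfsg.Agent.Leech.tripX : ↥Cfsg.leechLattice) : Cfsg.GolayPt → ℤ) ((-Cfsg.Agent.Leech.tripX : ↥Cfsg.leechLattice) : Cfsg.GolayPt → ℤ) = 32 := by decide +kernel
  refine ⟨?_, ?_, ?_⟩
  · refine (Cfsg.Agent.Leech.ncard_move g _ (· ∈ Cfsg.Agent.Leech.qC 8) fun y => ?_).trans c8
    show _ ↔ _ ∧ _
    rw [hd y]
    exact and_congr (hX y) Iff.rfl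
  · refine (Cfsg.Agent.Leech.ncard_move g _ (· ∈ Cfsg.Agent.Leech.qC 16) fun y => ?_).trans c16
    show _ ↔ _ ∧ _
    rw [hd y]
    constructor
    · rintro ⟨a, -, c⟩; exact ⟨(hX y).1 a, c⟩
    · rintro ⟨a, c⟩
      refine ⟨(hX y).2 a, ?_, c⟩
      rintro rfl
      have e := hd y
      rw [g3, hxx] at e
      omega
  · intro y hy y' hy' hne hne' he
    obtain ⟨k, hk1, hk2⟩ : ∃ k ∈ Cfsg.Agent.Leech.stab1581, k • (g • y) = g • y' := by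
      have ne : ∀ z, z ≠ x → g • z ≠ -Cfsg.Agent.Leech.tripX := fun z hz e => hz (MulAction.injective g (e.trans g3.symm))
      have hk : ∀ {d : ℤ} {r : ↥Cfsg.leechLattice}, MulAction.orbit ↥Cfsg.Agent.Leech.stab1581 r = Cfsg.Agent.Leech.qC d →
          g • y ∈ Cfsg.Agent.Leech.qC d → ∃ k ∈ Cfsg.Agent.Leech.stab1581, k • (g • y) = g • y' := by
        intro d r hr hy1
        have hy2 : g • y' ∈ Cfsg.Agent.Leech.qC d := ⟨(hX y').1 hy', by rw [hd, ← he, ← hd]; exact hy1.2⟩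
        rw [← hr] at hy1 hy2
        obtain ⟨⟨a, ha⟩, e1⟩ := hy1
        obtain ⟨⟨b, hb⟩, e2⟩ := hy2
        refine ⟨b * a⁻¹, mul_mem hb (inv_mem ha), ?_⟩
        rw [← e1, ← e2]
        show (b * a⁻¹) • a • r = b • r
        rw [mul_smul, inv_smul_smul]
      rcases hall _ ((hX y).1 hy) with h | h | h
      · exact absurd h (ne y hne)
      · exact hk o8 h
      · exact hk o16 h
    simp only [Cfsg.Agent.Leech.stab1581, Subgroup.mem_inf, MulAction.mem_stabilizer_iff] at hk1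
    obtain ⟨⟨e1, e2⟩, e3⟩ := hk1
    refine ⟨g⁻¹ * k * g, ?_, ?_, ?_, ?_⟩
    · rw [mul_smul, mul_smul, g1', e1, inv_smul_eq_iff, g1']
    · rw [mul_smul, mul_smul, g2, e2, inv_smul_eq_iff, g2]
    · rw [mul_smul, mul_smul, g3, e3, inv_smul_eq_iff, g3]
    · rw [mul_smul, mul_smul, hk2, inv_smul_smul]

end Cfsg.Agent.S1581
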