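import Cfsg.Statements.S2762
import Cfsg.Agent.QdFree.QdSylow
import Cfsg.Agent.Core.PCore
-- import your own Cfsg.Agent.* helpers here

set_option autoImplicit false
open Cfsg Matrix

namespace Cfsg.Agent.S2762

open Cfsg.Agent.QdFree Matrix in
theorem pCore_sl2 {F : Type*} [Field F] [Fintype F] {p : ℕ} [Fact p.Prime] [CharP F p]
    (N : Subgroup (SpecialLinearGroup (Fin 2) F)) [N.Normal] (hN : IsPGroup p N) : N = ⊥ := by
  classical
  have htr : ∀ x ∈ N, (x : Matrix (Fin 2) (Fin 2) F).trace = 2 := by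
    intro x hx
    obtain ⟨k, hk⟩ := hN ⟨x, hx⟩
    have hk' : (x : Matrix (Fin 2) (Fin 2) F) ^ p ^ k = 1 := by
      have := congrArg (fun y : N => ((y : SpecialLinearGroup (Fin 2) F) : Matrix (Fin 2) (Fin 2) F)) hk
      simpa using this
    have hn : IsNilpotent ((x : Matrix (Fin 2) (Fin 2) F) - 1) :=
      ⟨p ^ k, by rw [sub_pow_char_pow_of_commute p k (Commute.one_right _), hk', one_pow, sub_self]⟩
    have h0 := (Matrix.isNilpotent_trace_of_isNilpotent hn).eq_zero
    rw [trace_sub, trace_one] at h0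
    simpa [sub_eq_zero] using h0
  rw [Subgroup.eq_bot_iff_forall]
  intro x hx
  let U : SpecialLinearGroup (Fin 2) F := ⟨!![1, 1; 0, 1], by simp [det_fin_two]⟩
  let L : SpecialLinearGroup (Fin 2) F := ⟨!![1, 0; 1, 1], by simp [det_fin_two]⟩
  have key : ∀ g : SpecialLinearGroup (Fin 2) F, g * x * g⁻¹ * x⁻¹ ∈ N := fun g =>
    mul_mem (Subgroup.Normal.conj_mem inferInstance x hx g) (inv_mem hx)
  have hd : x 0 0 * x 1 1 - x 0 1 * x 1 0 = 1 := by
    have := x.2; rwa [det_fin_two] at this
  have ht : x 0 0 + x 1 1 = 2 := by simpa [trace_fin_two] using htr x hx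
  have hc : x 1 0 = 0 := by
    have h := htr _ (key U)
    simp only [Matrix.SpecialLinearGroup.coe_mul, Matrix.SpecialLinearGroup.coe_inv, adjugate_fin_two,
      show (U : Matrix (Fin 2) (Fin 2) F) = !![1, 1; 0, 1] from rfl] at h
    simp [trace_fin_two, Matrix.mul_apply, Matrix.vecMul, dotProduct, Fin.sum_univ_two] at h
    have h2 : x 1 0 * x 1 0 = 0 := by linear_combination h - 2 * hd
    exact mul_self_eq_zero.mp h2
  have hb : x 0 1 = 0 := by
    have h := htr _ (key L)
    simp only [Matrix.SpecialLinearGroup.coe_mul, Matrix.SpecialLinearGroup.coe_inv, adjugate_fin_two,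
      show (L : Matrix (Fin 2) (Fin 2) F) = !![1, 0; 1, 1] from rfl] at h
    simp [trace_fin_two, Matrix.mul_apply, Matrix.vecMul, dotProduct, Fin.sum_univ_two] at h
    have h2 : x 0 1 * x 0 1 = 0 := by linear_combination h - 2 * hd
    exact mul_self_eq_zero.mp h2
  have ha : x 0 0 = 1 := by
    have h2 : (x 0 0 - 1) * (x 0 0 - 1) = 0 := by
      rw [hc, hb] at hd
      linear_combination x 0 0 * ht - hd
    exact sub_eq_zero.mp (mul_self_eq_zero.mp h2)
  have hd' : x 1 1 = 1 := by linear_combination ht - ha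
  ext i j
  fin_cases i <;> fin_cases j <;> simp [ha, hb, hc, hd']

/-- Structure of Qd over a finite field F of characteristic p (the affine subgroup of SL₃(F)): its largest normal p-subgroup is the group of translations (matrices with upper-left block the identity), the block-diagonal matrices form a complement isomorphic to SL₂(F), and the translation subgroup is a natural SL₂(F)-module for that complement. -/
theorem result {F : Type*} [Field F] [Fintype F] {p : ℕ} [Fact p.Prime] [CharP F p] : (∀ M : ↥(Cfsg.qdOver F), M ∈ Cfsg.pCore p ↥(Cfsg.qdOver F) ↔ ((M : Matrix.SpecialLinearGroup (Fin 3) F) : Matrix (Fin 3) (Fin 3) F) 0 0 = 1 ∧ ((M : Matrix.SpecialLinearGroup (Fin 3) F) : Matrix (Fin 3) (Fin 3) F) 0 1 = 0 ∧ ((M : Matrix.SpecialLinearGroup (Fin 3) F) : Matrix (Fin 3) (Fin 3) F) 1 0 = 0 ∧ ((M : Matrix.SpecialLinearGroup (Fin 3) F) : Matrix (Fin 3) (Fin 3) F) 1 1 = 1) ∧ ∃ K : Subgroup ↥(Cfsg.qdOver F), (∀ M : ↥(Cfsg.qdOver F), M ∈ K ↔ ((M : Matrix.SpecialLinearGroup (Fin 3) F) : Matrix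 (Fin 3) (Fin 3) F) 0 2 = 0 ∧ ((M : Matrix.SpecialLinearGroup (Fin 3) F) : Matrix (Fin 3) (Fin 3) F) 1 2 = 0) ∧ K ⊓ Cfsg.pCore p ↥(Cfsg.qdOver F) = ⊥ ∧ K ⊔ Cfsg.pCore p ↥(Cfsg.qdOver F) = ⊤ ∧ Nonempty (↥K ≃* Matrix.SpecialLinearGroup (Fin 2) F) ∧ Cfsg.IsNaturalSL2Module F (Cfsg.pCore p ↥(Cfsg.qdOver F)) K := by
  set e := Cfsg.Agent.QdFree.qdOverEquiv (F := F)
  let inlH : Multiplicative (Fin 2 → F) →* Cfsg.Agent.QdFree.Affine F := SemidirectProduct.inl
  have hpc : Cfsg.pCore p (Cfsg.Agent.QdFree.Affine F) = inlH.range := by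
    refine le_antisymm ?_ ?_
    · intro g hg
      have hn := (Cfsg.Agent.Core.pCore_normal (p := p) (G := Cfsg.Agent.QdFree.Affine F)).map
        SemidirectProduct.rightHom SemidirectProduct.rightHom_surjective
      have hb := pCore_sl2 (p := p) _ ((Cfsg.Agent.Core.pCore_isPGroup (p := p)
        (G := Cfsg.Agent.QdFree.Affine F)).map SemidirectProduct.rightHom)
      have h1 : g.right = 1 := Subgroup.mem_bot.mp (hb ▸ ⟨g, hg, rfl⟩)
      exact ⟨g.left, SemidirectProduct.ext rfl h1.symm⟩
    · have hk : inlH.range = (SemidirectProduct.rightHom : Cfsg.Agent.QdFree.Affine F →* _).ker :=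
        SemidirectProduct.range_inl_eq_ker_rightHom
      have : inlH.range.Normal := hk ▸ inferInstance
      refine Cfsg.Agent.Core.le_pCore ?_
      rintro ⟨_, u, rfl⟩
      refine ⟨1, Subtype.ext ?_⟩
      show inlH u ^ p ^ 1 = 1
      rw [← map_pow, show u ^ p ^ 1 = 1 from Multiplicative.toAdd.injective (by
        rw [pow_one, toAdd_pow, toAdd_one]; ext i; simp), map_one]
  have hmem : ∀ M : Cfsg.qdOver F, M ∈ Cfsg.pCore p (Cfsg.qdOver F) ↔ (e.symm M).right = 1 := by
    intro M
    rw [← Cfsg.Agent.Core.map_pCore e, Subgroup.mem_map_equiv, hpc]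
    exact ⟨by rintro ⟨u, hu⟩; rw [← hu]; rfl, fun h => ⟨_, SemidirectProduct.ext rfl h.symm⟩⟩
  let k : Matrix.SpecialLinearGroup (Fin 2) F →* Cfsg.qdOver F :=
    e.toMonoidHom.comp SemidirectProduct.inr
  have hk : Function.Injective k := e.injective.comp SemidirectProduct.inr_injective
  have hsymm : ∀ A, e.symm (k A) = SemidirectProduct.inr A := fun A => e.symm_apply_apply _
  have hcoe : ∀ g : Cfsg.Agent.QdFree.Affine F,
      ((e g : Matrix.SpecialLinearGroup (Fin 3) F) : Matrix (Fin 3) (Fin 3) F) =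
        Cfsg.Agent.QdFree.affMat (g.right : Matrix (Fin 2) (Fin 2) F) g.left.toAdd := fun g => rfl
  refine ⟨fun M => ?_, k.range, fun M => ?_, ?_, ?_, ⟨(MonoidHom.ofInjective hk).symm⟩, ?_⟩
  · obtain ⟨g, rfl⟩ := e.surjective M
    rw [hmem, e.symm_apply_apply]
    constructor
    · intro h
      simp [hcoe, Cfsg.Agent.QdFree.affMat, h]
    · intro h
      simp [hcoe, Cfsg.Agent.QdFree.affMat] at h
      obtain ⟨h00, h01, h10, h11⟩ := h
      ext i j
      fin_cases i <;> fin_cases j <;> simp [h00, h01, h10, h11]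
  · obtain ⟨g, rfl⟩ := e.surjective M
    constructor
    · rintro ⟨A, hA⟩
      obtain rfl : SemidirectProduct.inr A = g := e.injective hA
      simp [hcoe, Cfsg.Agent.QdFree.affMat]
    · intro h
      simp [hcoe, Cfsg.Agent.QdFree.affMat] at h
      refine ⟨g.right, congrArg e (SemidirectProduct.ext ?_ rfl)⟩
      refine Multiplicative.toAdd.injective (funext fun i => ?_)
      fin_cases i <;> simp [h.1, h.2]
  · rw [eq_bot_iff]
    rintro _ ⟨⟨A, rfl⟩, h⟩
    have h1 := (hmem _).mp h
    rw [hsymm] at h1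
    rw [Subgroup.mem_bot, show A = 1 from h1, map_one]
  · rw [eq_top_iff]
    intro M _
    have : M = e (SemidirectProduct.inl (e.symm M).left) * k (e.symm M).right := by
      show M = e _ * e _
      rw [← map_mul, SemidirectProduct.inl_left_mul_inr_right, e.apply_symm_apply]
    rw [this]
    refine mul_mem (Subgroup.mem_sup_right ((hmem _).mpr ?_)) (Subgroup.mem_sup_left ⟨_, rfl⟩)
    rw [e.symm_apply_apply, SemidirectProduct.right_inl]
  · set V := Cfsg.pCore p (Cfsg.qdOver F)
    refine ⟨by rw [Subgroup.normalizer_eq_top]; exact le_top,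
      (MonoidHom.ofInjective hk).symm.toMonoidHom,
      { toFun := fun v => (e.symm (Additive.toMul v).1).left.toAdd
        invFun := fun u => Additive.ofMul ⟨e (SemidirectProduct.inl (Multiplicative.ofAdd u)),
          (hmem _).mpr (by rw [e.symm_apply_apply, SemidirectProduct.right_inl])⟩
        left_inv := fun v => Additive.toMul.injective (Subtype.ext (e.symm.injective (by
          rw [toMul_ofMul]
          simp only [e.symm_apply_apply]
          exact SemidirectProduct.ext (by simp) ((hmem _).mp (Additive.toMul v).2).symm)))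
        right_inv := fun u => by simp
        map_add' := fun a b => by
          rw [toMul_add, Subgroup.coe_mul, map_mul, SemidirectProduct.mul_left,
            (hmem _).mp (Additive.toMul a).2, map_one]
          rfl },
      (MonoidHom.ofInjective hk).symm.surjective, ?_, ?_⟩
    · rw [(MonoidHom.ker_eq_bot_iff _).mpr (MonoidHom.ofInjective hk).symm.injective, eq_comm,
        Subgroup.eq_bot_iff_forall]
      rintro ⟨_, A, rfl⟩ hl
      rw [Subgroup.mem_subgroupOf, Subgroup.mem_centralizer_iff] at hl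
      refine Subtype.ext ?_
      show k A = 1
      suffices A = 1 by rw [this, map_one]
      have hfix : ∀ u : Fin 2 → F, (A : Matrix (Fin 2) (Fin 2) F) *ᵥ u = u := by
        intro u
        have := congrArg (fun x => (e.symm x).left.toAdd) (hl (e (SemidirectProduct.inl (Multiplicative.ofAdd u)))
          ((hmem _).mpr (by rw [e.symm_apply_apply, SemidirectProduct.right_inl])))
        simp [hsymm, Cfsg.Agent.QdFree.vecAct_apply] at this
        funext i
        have := congrFun this i
        fin_cases i <;> simpa [Matrix.mulVec, dotProduct, Fin.sum_univ_two, eq_comm] using this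
      refine Subtype.ext (Matrix.ext_of_mulVec_single fun i => ?_)
      rw [hfix, Matrix.SpecialLinearGroup.coe_one, Matrix.one_mulVec]
    · rintro ⟨_, A, rfl⟩ v
      refine ⟨⟨k A * v.1 * (k A)⁻¹,
        Subgroup.Normal.conj_mem inferInstance v.1 v.2 _⟩, rfl, ?_⟩
      have hA : (MonoidHom.ofInjective hk).symm ⟨k A, A, rfl⟩ = A :=
        (MonoidHom.ofInjective hk).symm_apply_apply A
      show (e.symm (k A * v.1 * (k A)⁻¹)).left.toAdd =
        ((((MonoidHom.ofInjective hk).symm ⟨k A, A, rfl⟩ : Matrix.SpecialLinearGroup (Fin 2) F)) : Matrix (Fin 2) (Fin 2) F) *ᵥ (e.symm v.1).left.toAdd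
      rw [hA]
      simp [hsymm, (hmem _).mp v.2, Cfsg.Agent.QdFree.vecAct_apply]

end Cfsg.Agent.S2762
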