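import Cfsg.Statements.S4209
import Cfsg.Agent.Regular.PolySeq
-- import your own Cfsg.Agent.* helpers here

set_option autoImplicit false
open Cfsg

namespace Cfsg.Agent.S4209

/-- A finite `p`-group of nilpotency class less than `p` (the term of index `p - 1` of the lower central series of the whole group, indexed from `0`, is trivial) is a regular `p`-group. -/
theorem result {G : Type*} [Group G] [Finite G] {p : ℕ} [Fact p.Prime] (hG : IsPGroup p G) (hcl : (⊤ : Subgroup G).lowerCentralSeries (p - 1) = ⊥) : Cfsg.IsRegularPGroup p G := by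
  refine ⟨hG, fun a b n => ?_⟩
  rcases Nat.eq_zero_or_pos n with rfl | hn
  · exact ⟨1, Subgroup.one_mem _, by simp⟩
  set H := Subgroup.closure ({a, b} : Set G) with hH
  set N := (Cfsg.powerClosure p n ⁅H, H⁆) with hN
  have hle : (commutator H).map H.subtype = ⁅H, H⁆ := by
    rw [commutator_def, Subgroup.map_commutator, ← MonoidHom.range_eq_map, Subgroup.range_subtype]
  -- work in the quotient of `H` by the powers of its derived subgroup
  have hnorm : (N.subgroupOf H).Normal := by
    refine ⟨fun x hx g => ?_⟩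
    rw [Subgroup.mem_subgroupOf] at hx ⊢
    show (g : G) * x * (g : G)⁻¹ ∈ N
    revert hx
    generalize (x : G) = y
    intro hy
    rw [hN, Cfsg.powerClosure] at hy ⊢
    induction hy using Subgroup.closure_induction with
    | mem y hy =>
      obtain ⟨z, hz, rfl⟩ := hy
      rw [← conj_pow]
      refine Subgroup.subset_closure ⟨(g : G) * z * (g : G)⁻¹, ?_, rfl⟩
      rw [← hle] at hz ⊢
      obtain ⟨w, hw, rfl⟩ := hz
      exact ⟨g * w * g⁻¹, Subgroup.Normal.conj_mem inferInstance w hw g, rfl⟩
    | one => simp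
    | mul y z _ _ hy hz =>
      have h1 := Subgroup.mul_mem _ hy hz
      rwa [show (g : G) * y * (g : G)⁻¹ * ((g : G) * z * (g : G)⁻¹) = (g : G) * (y * z) * (g : G)⁻¹ by group] at h1
    | inv y _ hy =>
      have h1 := Subgroup.inv_mem _ hy
      rwa [show ((g : G) * y * (g : G)⁻¹)⁻¹ = (g : G) * y⁻¹ * (g : G)⁻¹ by group] at h1
  let π := QuotientGroup.mk' (N.subgroupOf H)
  have hclH : (⊤ : Subgroup H).lowerCentralSeries (p - 1) = ⊥ := by
    refine (Subgroup.map_eq_bot_iff_of_injective _ H.subtype_injective).1 (le_bot_iff.1 ?_)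
    rw [← hcl, Subgroup.map_lowerCentralSeries]
    exact Subgroup.lowerCentralSeries_mono (p - 1) le_top
  have h := Cfsg.Agent.Regular.PolySeq.mul_pow_eq (G := H ⧸ N.subgroupOf H) (p := p) (n := n) Fact.out hn.ne'
    (by
      rw [← Subgroup.map_top_of_surjective π (QuotientGroup.mk'_surjective _),
        ← Subgroup.map_lowerCentralSeries, hclH, Subgroup.map_bot])
    (fun x hx => by
      have h1 : commutator (H ⧸ N.subgroupOf H) = (commutator H).map π := by
        rw [commutator_def, commutator_def, Subgroup.map_commutator,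
          Subgroup.map_top_of_surjective π (QuotientGroup.mk'_surjective _)]
      rw [h1] at hx
      obtain ⟨w, hw, rfl⟩ := hx
      rw [← map_pow, QuotientGroup.mk'_apply, QuotientGroup.eq_one_iff, Subgroup.mem_subgroupOf]
      refine Subgroup.subset_closure ⟨(w : G), ?_, by simp⟩
      rw [← hle]
      exact ⟨w, hw, rfl⟩)
    (π ⟨a, Subgroup.subset_closure (Or.inl rfl)⟩) (π ⟨b, Subgroup.subset_closure (Or.inr rfl)⟩)
  rw [← map_mul, ← map_pow, ← map_pow, ← map_pow, ← map_mul] at h
  have h2 := QuotientGroup.eq.1 h.symm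
  rw [Subgroup.mem_subgroupOf] at h2
  exact ⟨_, h2, by simp [mul_assoc]⟩

end Cfsg.Agent.S4209
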