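import Cfsg.Statements.S2985
import Cfsg.Agent.Baumann.Cent.Final

set_option autoImplicit false
open Cfsg

namespace Cfsg.Agent.S2985

/-- Let G be a finite group of characteristic p (C_G(O_p(G)) ≤ O_p(G)), T a Sylow p-subgroup and E a B(T)-block of G, with W_E = [Ω₁(Z(O_p(E))), E]. Then E is normalized by C_G(W_E); that is, E is a normal subgroup of E·C_G(W_E). -/
theorem result {G : Type*} [Group G] [Finite G] {p : ℕ} [Fact p.Prime] (hG : Subgroup.centralizer (Cfsg.pCore p G : Set G) ≤ Cfsg.pCore p G) (T : Sylow p G) (E : Subgroup G) (hE : Cfsg.IsBaumannBlock p (T : Subgroup G) E) : Subgroup.centralizer ((⁅Cfsg.omegaOneCenter p (Cfsg.pCoreOf p E), E⁆ : Subgroup G) : Set G) ≤ Subgroup.normalizer (E : Set G) := by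
  by_cases hQW : ⁅pCore p G, E⁆ ≤ omegaOneCenter p (pCoreOf p E)
  · exact Agent.Baumann.centralizer_WE_le_normalizer_of_le hG hE hQW
  rcases Agent.Baumann.Sub.generic_or_exc hE with hgen | hexc
  · exact absurd ((Agent.Baumann.block_commutator_pCore_le hE).trans hgen.le) hQW
  obtain rfl := hexc.three
  set R := ⁅pCore 3 G, E⁆ with hR
  have hRQ : R ≤ pCoreOf 3 E := Agent.Baumann.block_commutator_pCore_le hE
  have hER : E ≤ Subgroup.normalizer (R : Set G) := Subgroup.normalizer_commutator_ge_right _ _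
  have hQ : Agent.Baumann.Sub.bQ 3 E ≤ R ⊔ Agent.Baumann.Sub.bW 3 E :=
    ((hexc.irrQ.irr (R ⊔ Agent.Baumann.Sub.bW 3 E) le_sup_right
      (sup_le hRQ (Agent.Baumann.Sub.bW_le_bQ E))
      (Agent.Layer.le_normalizer_sup hER (Agent.Baumann.Sub.le_normalizer_bW E))).resolve_left
      fun h => hQW (le_sup_left.trans h.le)).ge
  have hWE := Agent.Baumann.WE_le_omega hG hE
  have hQO : Agent.Baumann.Sub.bQ 3 E ≤ pCore 3 G := by
    rw [show Agent.Baumann.Sub.bQ 3 E = ⁅Agent.Baumann.Sub.bQ 3 E, E⁆ from hE.2.2.1.symm]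
    exact (Subgroup.commutator_mono hQ le_rfl).trans (Agent.LocalStructure.commutator_sup_le
      (fun x _ => Subgroup.le_normalizer_of_normal (Subgroup.mem_top x))
      (fun x _ => Subgroup.le_normalizer_of_normal (Subgroup.mem_top x))
      (fun x _ => Subgroup.le_normalizer_of_normal (Subgroup.mem_top x))
      ((Subgroup.commutator_mono (Subgroup.commutator_le_left (pCore 3 G) E) le_rfl).trans
        (Subgroup.commutator_le_left (pCore 3 G) E))
      (hWE.trans (Agent.Baumann.omegaOneCenter_le _)))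
  refine (Agent.Baumann.Cent.Ctx.mk (T := T) hG hE hexc (le_antisymm hRQ ?_)).centralizer_le_normalizer
  conv_lhs => rw [show Agent.Baumann.Sub.bQ 3 E = ⁅Agent.Baumann.Sub.bQ 3 E, E⁆ from hE.2.2.1.symm]
  exact Subgroup.commutator_mono hQO le_rfl

end Cfsg.Agent.S2985
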