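import Cfsg.Statements.S2822
import Cfsg.Agent.LocalStructure.YL


set_option autoImplicit false
open Cfsg

set_option linter.all false

namespace Cfsg.Agent.S2822

/-- Let H be a finite group, p a prime, T a Sylow p-subgroup, and L, M subgroups of characteristic p containing T, with largest p-reduced normal subgroups Y_L, Y_M. If L·C_H(Y_M) = M·C_H(Y_M), then Y_M ≤ Y_L. -/
theorem result {H : Type*} [Group H] [Finite H] {p : ℕ} [Fact p.Prime] (T : Sylow p H) (L M : Subgroup H) (hTL : (T : Subgroup H) ≤ L) (hTM : (T : Subgroup H) ≤ M) (hL : Subgroup.centralizer (Cfsg.pCore p ↥L : Set ↥L) ≤ Cfsg.pCore p ↥L) (hM : Subgroup.centralizer (Cfsg.pCore p ↥M : Set ↥M) ≤ Cfsg.pCore p ↥M) : L ⊔ Subgroup.centralizer (((Cfsg.largestPReducedOf p M) : Subgroup H) : Set H) = M ⊔ Subgroup.centralizer (((Cfsg.largestPReducedOf p M) : Subgroup H) : Set H) → (Cfsg.largestPReducedOf p M) ≤ (Cfsg.largestPReducedOf p L) := by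
  intro heq
  set Y : Subgroup H := Cfsg.largestPReducedOf p M with hY
  have hred := LocalStructure.reducedIn_largest (p := p) M
  set C : Subgroup H := Subgroup.centralizer (Y : Set H) with hC
  have hLY : L ≤ Subgroup.normalizer (Y : Set H) :=
    (le_sup_left.trans heq.le).trans (sup_le hred.le_normalizer (Subgroup.centralizer_le_normalizer _))
  have hCL : L ≤ Subgroup.normalizer (C : Set H) := Coprime.le_normalizer_centralizer hLY
  have hYL : Y ≤ L := (LocalStructure.reduced_le_pCoreOf hred).trans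
    ((LocalStructure.pCoreOf_le_sylow hTM T.isPGroup'
      (LocalStructure.sylow_not_dvd_relIndex T hTM)).trans hTL)
  refine LocalStructure.le_largestOf ⟨hYL, hLY, hred.ea, fun K hKL hLK hg => ?_⟩
  -- transfer `K` to `M`
  set K' : Subgroup H := (K ⊔ C) ⊓ M with hK'
  have hX : M ≤ Subgroup.normalizer ((K ⊔ C : Subgroup H) : Set H) :=
    (le_sup_left.trans heq.ge).trans (sup_le (Coprime.le_normalizer_sup hLK hCL)
      (le_sup_right.trans Subgroup.le_normalizer))
  have hK'C : K' ≤ C := by
    refine hred.reduced K' inf_le_right (Coprime.le_normalizer_inf_of_le hX le_rfl) fun g hg' hgc => ?_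
    obtain ⟨c, hc, k, hk, rfl⟩ := (Coprime.mem_sup_of_le_normalizer (N := C) (A := K)
      (hKL.trans hCL)).mp (sup_comm K C ▸ hg'.1)
    obtain ⟨j, hj⟩ := LocalStructure.exists_pow_mem_of_coprime_mem hg hk
    have h1 : ∀ m : ℕ, (c * k) ^ m * (k ^ m)⁻¹ ∈ C := by
      intro m
      induction m with
      | zero => simp
      | succ m ih =>
        have h2 : k ^ m * c * (k ^ m)⁻¹ ∈ C :=
          (Subgroup.mem_normalizer_iff.mp (Subgroup.pow_mem _ (hCL (hKL hk)) m) c).mp hc
        have e : (c * k) ^ (m + 1) * (k ^ (m + 1))⁻¹ =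
            ((c * k) ^ m * (k ^ m)⁻¹) * (k ^ m * c * (k ^ m)⁻¹) := by
          rw [pow_succ, pow_succ]; group
        rw [e]
        exact C.mul_mem ih h2
    have h3 : (c * k) ^ p ^ j ∈ C := by
      have := C.mul_mem (h1 (p ^ j)) hj
      simpa using this
    exact LocalStructure.mem_of_pow_mem_of_coprime h3 hgc
  intro k hk
  obtain ⟨c, hc, m, hm, e⟩ := (Coprime.mem_sup_of_le_normalizer (N := C) (A := M)
    (Coprime.le_normalizer_centralizer hred.le_normalizer)).mp
      (sup_comm M C ▸ heq ▸ Subgroup.mem_sup_left (hKL hk))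
  have hmK : m ∈ K' := by
    refine ⟨?_, hm⟩
    rw [show m = c⁻¹ * k by rw [← e]; group]
    exact Subgroup.mul_mem _ (Subgroup.mem_sup_right (C.inv_mem hc)) (Subgroup.mem_sup_left hk)
  rw [← e]
  exact C.mul_mem hc (hK'C hmK)

end Cfsg.Agent.S2822
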