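import Cfsg.Statements.S2824
import Cfsg.Agent.LocalStructure.YL2


set_option autoImplicit false
open Cfsg

set_option linter.all false

namespace Cfsg.Agent.S2824

/-- Let H be a finite group, p a prime, T a Sylow p-subgroup, L and M subgroups of characteristic p containing T, Y_L the largest p-reduced normal subgroup of L and T₀ = C_T(Y_L). If M·C_H(Y_L) = L·C_H(Y_L), then L* := N_M(T₀) has Y_{L*} = Y_L and L·C_H(Y_L) = L*·C_H(Y_L). -/
theorem result {H : Type*} [Group H] [Finite H] {p : ℕ} [Fact p.Prime] (T : Sylow p H) (L M : Subgroup H) (hTL : (T : Subgroup H) ≤ L) (hTM : (T : Subgroup H) ≤ M) (hL : Subgroup.centralizer (Cfsg.pCore p ↥L : Set ↥L) ≤ Cfsg.pCore p ↥L) (hM : Subgroup.centralizer (Cfsg.pCore p ↥M : Set ↥M) ≤ Cfsg.pCore p ↥M) (T₀ : Subgroup H) (hT₀ : T₀ = (T : Subgroup H) ⊓ Subgroup.centralizer (((Cfsg.largestPReducedOf p L) : Subgroup H) : Set H)) (hfac : M ⊔ Subgroup.centralizer (((Cfsg.largestPReducedOf p L) : Subgroup H) : Set H) = L ⊔ Subgroup.centralizer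 (((Cfsg.largestPReducedOf p L) : Subgroup H) : Set H)) (Ls : Subgroup H) (hLs : Ls = M ⊓ Subgroup.normalizer ((T₀ : Subgroup H) : Set H)) : (Cfsg.largestPReducedOf p Ls) = (Cfsg.largestPReducedOf p L) ∧ L ⊔ Subgroup.centralizer (((Cfsg.largestPReducedOf p L) : Subgroup H) : Set H) = Ls ⊔ Subgroup.centralizer (((Cfsg.largestPReducedOf p L) : Subgroup H) : Set H) := by
  set Y : Subgroup H := Cfsg.largestPReducedOf p L with hY
  have hred := LocalStructure.reducedIn_largest (p := p) L
  set C : Subgroup H := Subgroup.centralizer (Y : Set H) with hC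
  have hcp : LocalStructure.CharP p L := LocalStructure.charP_iff.mpr hL
  have hMY : M ≤ Subgroup.normalizer (Y : Set H) :=
    (le_sup_left.trans hfac.le).trans (sup_le hred.le_normalizer (Subgroup.centralizer_le_normalizer _))
  have hidxM := LocalStructure.sylow_not_dvd_relIndex T hTM
  have hT0M : M ≤ (M ⊓ Subgroup.normalizer (T₀ : Set H)) ⊔ (M ⊓ C) := by
    rw [hT₀]; exact LocalStructure.frattini_centralizer hTM T.isPGroup' hidxM hMY
  have hT₀n : (T : Subgroup H) ≤ Subgroup.normalizer (T₀ : Set H) := by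
    rw [hT₀]
    exact Coprime.le_normalizer_inf Subgroup.le_normalizer
      (Coprime.le_normalizer_centralizer (hTM.trans hMY))
  have hTLs : (T : Subgroup H) ≤ Ls := hLs ▸ le_inf hTM hT₀n
  have heq : L ⊔ C = Ls ⊔ C := by
    rw [← hfac, hLs]
    refine le_antisymm (sup_le (hT0M.trans (sup_le le_sup_left (inf_le_right.trans le_sup_right))) le_sup_right)
      (sup_le (inf_le_left.trans le_sup_left) le_sup_right)
  refine ⟨le_antisymm ?_ ?_, heq⟩
  · -- `Y_{Ls} ≤ Y_L`
    have hredS := LocalStructure.reducedIn_largest (p := p) Ls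
    have hY0 : LocalStructure.omegaZ p T₀ = Y := by
      rw [hT₀]
      exact (LocalStructure.largestOf_eq_omegaZ hcp hTL T.isPGroup'
        (LocalStructure.sylow_not_dvd_relIndex T hTL)).symm
    have hYT0 : Y ≤ T₀ := hY0 ▸ LocalStructure.omegaZ_le T₀
    have hLsT0 : Ls ≤ Subgroup.normalizer (T₀ : Set H) := hLs ▸ inf_le_right
    have hT0core : T₀ ≤ Cfsg.pCoreOf p Ls :=
      LocalStructure.le_pCoreOf_of_normal ((hT₀ ▸ inf_le_left : T₀ ≤ (T : Subgroup H)).trans hTLs) hLsT0
        (T.isPGroup'.to_le (hT₀ ▸ inf_le_left))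
    have hcore : Cfsg.pCoreOf p Ls ≤ (T : Subgroup H) := LocalStructure.pCoreOf_le_sylow hTLs T.isPGroup'
      (LocalStructure.sylow_not_dvd_relIndex T hTLs)
    intro y hy
    have hyc : y ∈ Subgroup.centralizer (T₀ : Set H) :=
      Subgroup.centralizer_le (SetLike.coe_subset_coe.mpr hT0core)
        (Subgroup.le_centralizer_iff.mp (LocalStructure.pCoreOf_le_centralizer hredS) hy)
    rw [← hY0]
    refine LocalStructure.mem_omegaZ_iff.mpr ⟨?_, hyc, hredS.ea.2 y hy⟩
    rw [hT₀]
    exact ⟨hcore (LocalStructure.reduced_le_pCoreOf hredS hy),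
      Subgroup.centralizer_le (SetLike.coe_subset_coe.mpr hYT0) hyc⟩
  · exact LocalStructure.largest_le_of_sup_eq T hTLs hTL heq.symm

end Cfsg.Agent.S2824
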