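import Cfsg.Statements.S3939
import Cfsg.Agent.Fusion.Residual
import Cfsg.Agent.Core.Basics
import Cfsg.Agent.Coprime.Basic
import Cfsg.Agent.Invol.BaerSuzuki
import Mathlib.GroupTheory.Nilpotent
-- import your own Cfsg.Agent.* helpers here

set_option autoImplicit false
open Cfsg

namespace Cfsg.Agent.S3939

open scoped commutatorElement

open Subgroup in
theorem mem_of_primePow_parts {G : Type*} [Group G] [Finite G] (S : Subgroup G) :
    ∀ b : G, (∀ c ∈ zpowers b, ∀ q k : ℕ, q.Prime → orderOf c = q ^ k → c ∈ S) → b ∈ S := by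
  intro b
  induction hn : orderOf b using Nat.strong_induction_on generalizing b with
  | _ n ih =>
  intro h
  subst hn
  rcases eq_or_ne (orderOf b) 1 with h1 | h1
  · rw [orderOf_eq_one_iff.mp h1]; exact S.one_mem
  have hq := Nat.minFac_prime h1
  have := Fact.mk hq
  obtain ⟨a, c, hac, -, ha, hc, ⟨k, hk⟩, hcq⟩ :=
    Cfsg.Agent.Fusion.exists_pPart_mul (p := (orderOf b).minFac) b (isOfFinOrder_of_finite b)
  rw [hac]
  obtain ⟨j, -, hj⟩ := (Nat.dvd_prime_pow hq).mp hk
  refine S.mul_mem (h a ha _ j hq hj) (ih (orderOf c) ?_ c rfl fun d hd => h d (zpowers_le.mpr hc hd))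
  refine lt_of_le_of_ne (Nat.le_of_dvd (orderOf_pos b) (orderOf_dvd_of_mem_zpowers hc)) fun e => ?_
  rw [e] at hcq
  exact (hq.coprime_iff_not_dvd.mp hcq.symm) (Nat.minFac_dvd _)

open Subgroup in
theorem mem_sylow_of_nilpotent {G : Type*} [Group G] [Finite G] [Group.IsNilpotent G] {p : ℕ}
    [Fact p.Prime] (P : Sylow p G) {a : G} {k : ℕ} (ha : orderOf a = p ^ k) : a ∈ (P : Subgroup G) :=
  by
  obtain ⟨T, hT⟩ :=
    (IsPGroup.of_card (n := k) (by rw [Nat.card_zpowers, ha]) : IsPGroup p (zpowers a)).exists_le_sylow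
  obtain ⟨c, hc⟩ := MulAction.exists_smul_eq G P T
  have hn : (P : Subgroup G).Normal := inferInstance
  rw [Sylow.smul_eq_of_normal] at hc
  exact hc ▸ hT (mem_zpowers a)

open Subgroup in
theorem commute_of_primePow {G : Type*} [Group G] [Finite G] [Group.IsNilpotent G] {p q : ℕ}
    [Fact p.Prime] [Fact q.Prime] (hne : p ≠ q) {a b : G} {j k : ℕ} (ha : orderOf a = p ^ j)
    (hb : orderOf b = q ^ k) : Commute a b := by
  obtain ⟨P⟩ : Nonempty (Sylow p G) := inferInstance
  obtain ⟨Q⟩ : Nonempty (Sylow q G) := inferInstance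
  exact Subgroup.commute_of_normal_of_disjoint _ _ inferInstance inferInstance
    (IsPGroup.disjoint_of_ne p q hne _ _ P.isPGroup' Q.isPGroup') a b
    (mem_sylow_of_nilpotent P ha) (mem_sylow_of_nilpotent Q hb)

open Subgroup in
theorem le_hypercentre {G : Type*} [Group G] [Finite G] {p : ℕ} [Fact p.Prime] (S : Sylow p G) :
    ∀ M : Subgroup G, M.Normal → M ≤ (S : Subgroup G) →
      Cfsg.pResidual p G ≤ centralizer (M : Set G) → ∃ n, M ≤ Subgroup.upperCentralSeries G n := by
  intro M
  induction M using WellFoundedLT.induction with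
  | _ M ih =>
  intro hMn hMS hK
  have := hMn
  by_cases hne : M = ⊥
  · exact ⟨0, hne ▸ bot_le⟩
  have hSM : (S : Subgroup G) ≤ normalizer (M : Set G) := by
    rw [Subgroup.normalizer_eq_top]; exact le_top
  have hW : ⁅M, (⊤ : Subgroup G)⁆ ≤ ⁅M, (S : Subgroup G)⁆ := by
    rw [commutator_le]
    intro y hy k _
    have hk : k ∈ (S : Subgroup G) ⊔ Cfsg.pResidual p G := by
      rw [Cfsg.Agent.Fusion.sylow_sup_pResidual]; exact mem_top k
    rw [Subgroup.mem_sup_of_normal_right] at hk
    obtain ⟨s, hs, c, hc, rfl⟩ := hk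
    have hcy : y * c = c * y := mem_centralizer_iff.mp (hK hc) y hy
    have e : ⁅y, s * c⁆ = ⁅y, s⁆ := by
      rw [commutatorElement_def, commutatorElement_def]
      calc y * (s * c) * y⁻¹ * (s * c)⁻¹ = y * s * (c * y⁻¹) * c⁻¹ * s⁻¹ := by group
        _ = y * s * (y⁻¹ * c) * c⁻¹ * s⁻¹ := by
          rw [show c * y⁻¹ = y⁻¹ * c by
            calc c * y⁻¹ = y⁻¹ * (y * c) * y⁻¹ := by group
              _ = y⁻¹ * (c * y) * y⁻¹ := by rw [hcy]
              _ = y⁻¹ * c := by group]
        _ = _ := by group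
    rw [e]
    exact commutator_mem_commutator hy hs
  have hlt : ⁅M, (⊤ : Subgroup G)⁆ < M := lt_of_le_of_lt hW
    (Cfsg.Agent.Coprime.commutator_lt_of_isPGroup S.isPGroup' (S.isPGroup'.to_le hMS) hSM hne)
  obtain ⟨n, hn⟩ := ih _ hlt inferInstance (hlt.le.trans hMS)
    (hK.trans (centralizer_le hlt.le))
  refine ⟨n + 1, fun y hy => Subgroup.mem_upperCentralSeries_succ_iff.mpr fun k => hn ?_⟩
  exact commutator_mem_commutator hy (mem_top k)

open Subgroup in
theorem mem_hypercentre {G : Type*} [Group G] [Finite G] {p k : ℕ} [hp : Fact p.Prime] {g : G}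
    (hg : orderOf g = p ^ k) (h : ∀ x : G, Group.IsNilpotent ↥(Subgroup.closure ({x, g} : Set G))) :
    g ∈ ⨆ n : ℕ, Subgroup.upperCentralSeries G n := by
  have hconj : ∀ c : G, ∀ x : G, Group.IsNilpotent ↥(Subgroup.closure ({x, c * g * c⁻¹} : Set G)) := by
    intro c x
    have := Cfsg.Agent.Core.isNilpotent_map (h (c⁻¹ * x * c)) (MulAut.conj c).toMonoidHom
    rw [MonoidHom.map_closure, Set.image_insert_eq, Set.image_singleton] at this
    simp only [MulEquiv.coe_toMonoidHom, MulAut.conj_apply] at this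
    have e : c * (c⁻¹ * x * c) * c⁻¹ = x := by group
    exact e ▸ this
  have hord : ∀ c : G, orderOf (c * g * c⁻¹) = p ^ k := fun c =>
    ((MulAut.conj c).orderOf_eq g).trans hg
  have hBS : ∀ c : G, IsPGroup p ↥(zpowers g ⊔ (zpowers g).map (MulAut.conj c).toMonoidHom) := by
    intro c
    set H := Subgroup.closure ({c * g * c⁻¹, g} : Set G)
    have hH : Group.IsNilpotent H := h _
    obtain ⟨P⟩ : Nonempty (Sylow p H) := inferInstance
    refine (P.isPGroup'.map H.subtype).to_le ?_
    rw [MonoidHom.map_zpowers, sup_le_iff, zpowers_le, zpowers_le]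
    have hgH : g ∈ H := subset_closure (by simp)
    have hcH : c * g * c⁻¹ ∈ H := subset_closure (by simp)
    exact ⟨⟨⟨g, hgH⟩, mem_sylow_of_nilpotent (k := k) P (by rw [Subgroup.orderOf_mk]; exact hg), rfl⟩,
      ⟨⟨_, hcH⟩, mem_sylow_of_nilpotent (k := k) P (by rw [Subgroup.orderOf_mk]; exact hord c), rfl⟩⟩
  obtain ⟨N, hN, hNp, hgN⟩ := Cfsg.Agent.Invol.baerSuzuki (zpowers g)
    (IsPGroup.of_card (n := k) (by rw [Nat.card_zpowers, hg])) hBS
  have := hN
  obtain ⟨S⟩ : Nonempty (Sylow p G) := inferInstance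
  have hLN : normalClosure ({g} : Set G) ≤ N :=
    normalClosure_le_normal (by simpa using hgN (mem_zpowers g))
  have hK : Cfsg.pResidual p G ≤ centralizer (normalClosure ({g} : Set G) : Set G) := by
    show Subgroup.closure _ ≤ _
    rw [closure_le]
    intro b (hb : (orderOf b).Coprime p)
    refine mem_of_primePow_parts _ b fun d hd q j hq hj => ?_
    have := Fact.mk hq
    have hCn : d ∈ centralizer (Group.conjugatesOfSet ({g} : Set G)) := by
      rw [mem_centralizer_iff]
      intro y hy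
      rw [Group.mem_conjugatesOfSet_iff] at hy
      obtain ⟨g', hg', hy⟩ := hy
      rw [Set.mem_singleton_iff.mp hg'] at hy
      obtain ⟨c, rfl⟩ := isConj_iff.mp hy
      by_cases hd1 : j = 0
      · subst hd1; rw [pow_zero] at hj; rw [orderOf_eq_one_iff.mp hj, one_mul, mul_one]
      have hqp : p ≠ q := by
        rintro rfl
        have h1 : p ∣ orderOf b :=
          ((dvd_pow_self p hd1).trans (hj ▸ dvd_refl _)).trans (orderOf_dvd_of_mem_zpowers hd)
        exact (hp.out.coprime_iff_not_dvd.mp hb.symm) h1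
      have hH : Group.IsNilpotent ↥(Subgroup.closure ({d, c * g * c⁻¹} : Set G)) := hconj c d
      have hcom := commute_of_primePow (G := ↥(Subgroup.closure ({d, c * g * c⁻¹} : Set G))) hqp
        (a := ⟨c * g * c⁻¹, subset_closure (by simp)⟩) (b := ⟨d, subset_closure (by simp)⟩)
        (j := k) (k := j) (by rw [Subgroup.orderOf_mk]; exact hord c) (by rw [Subgroup.orderOf_mk]; exact hj)
      exact congrArg Subtype.val hcom.eq
    rw [show normalClosure ({g} : Set G) = Subgroup.closure (Group.conjugatesOfSet ({g} : Set G)) from rfl,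
      centralizer_closure]
    exact hCn
  obtain ⟨n, hn⟩ := le_hypercentre S (normalClosure ({g} : Set G)) inferInstance
    (hLN.trans (hNp.le_sylow_of_normal S)) hK
  exact Subgroup.mem_iSup_of_mem n (hn (subset_normalClosure rfl))

open Subgroup in
theorem subgroupOf_upperCentralSeries_le {G : Type*} [Group G] (H : Subgroup G) :
    ∀ n, (Subgroup.upperCentralSeries G n).subgroupOf H ≤ Subgroup.upperCentralSeries H n := by
  intro n
  induction n with
  | zero =>
    intro x hx
    rw [Subgroup.upperCentralSeries_zero, mem_subgroupOf, mem_bot] at hx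
    rw [Subgroup.upperCentralSeries_zero, mem_bot]; exact Subtype.ext hx
  | succ n ih =>
    intro x hx
    rw [mem_subgroupOf, Subgroup.mem_upperCentralSeries_succ_iff] at hx
    rw [Subgroup.mem_upperCentralSeries_succ_iff]
    exact fun y => ih (mem_subgroupOf.mpr (hx y))



/-- In a finite group G the set of elements g such that the subgroup generated by g and x is nilpotent for every x ∈ G is exactly the hypercenter of G (the last term of the upper central series). -/
theorem result {G : Type*} [Group G] [Finite G] (g : G) :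
    (∀ x : G, Group.IsNilpotent ↥(Subgroup.closure ({x, g} : Set G))) ↔ g ∈ ⨆ n : ℕ, Subgroup.upperCentralSeries G n := by
  constructor
  · intro h
    refine mem_of_primePow_parts _ g fun c hc q k hq hk => ?_
    have := Fact.mk hq
    refine mem_hypercentre hk fun x => Cfsg.Agent.Core.isNilpotent_mono (h x) ?_
    rw [Subgroup.closure_le]
    rintro y (rfl | hy)
    · exact Subgroup.subset_closure (by simp)
    · rw [Set.mem_singleton_iff.mp hy]
      exact Subgroup.zpowers_le.mpr (Subgroup.subset_closure (by simp : g ∈ ({x, g} : Set G))) hc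
  · intro hg x
    rw [Subgroup.mem_iSup_of_directed (Subgroup.upperCentralSeries_mono G).directed_le] at hg
    obtain ⟨n, hn⟩ := hg
    set H := Subgroup.closure ({x, g} : Set G)
    let Z := Subgroup.upperCentralSeries H n
    have hx : x ∈ H := Subgroup.subset_closure (by simp)
    have hgH : g ∈ H := Subgroup.subset_closure (by simp)
    have key : ∀ y : H, ∃ j : ℤ, (y : H ⧸ Z) = ((⟨x, hx⟩ : H) : H ⧸ Z) ^ j := by
      rintro ⟨y, hy⟩
      refine Subgroup.closure_induction (p := fun y hy => ∃ j : ℤ,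
        ((⟨y, hy⟩ : H) : H ⧸ Z) = ((⟨x, hx⟩ : H) : H ⧸ Z) ^ j) ?_ ?_ ?_ ?_ hy
      · rintro z (rfl | hz)
        · exact ⟨1, (zpow_one _).symm⟩
        · refine ⟨0, ?_⟩
          rw [zpow_zero, QuotientGroup.eq_one_iff]
          refine subgroupOf_upperCentralSeries_le H n ?_
          rw [Subgroup.mem_subgroupOf]; show z ∈ _; rw [show z = g from hz]
          exact hn
      · exact ⟨0, (zpow_zero _).symm⟩
      · rintro a b ha hb ⟨i, hi⟩ ⟨j, hj⟩
        refine ⟨i + j, ?_⟩
        rw [zpow_add, ← hi, ← hj, ← QuotientGroup.mk_mul]; rfl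
      · rintro a ha ⟨i, hi⟩
        refine ⟨-i, ?_⟩
        rw [zpow_neg, ← hi, ← QuotientGroup.mk_inv]; rfl
    refine ⟨⟨n + 1, ?_⟩⟩
    rw [eq_top_iff]
    intro y _
    rw [Subgroup.mem_upperCentralSeries_succ_iff]
    intro z
    show ⁅y, z⁆ ∈ Z
    rw [← QuotientGroup.eq_one_iff, commutatorElement_def]
    obtain ⟨i, hi⟩ := key y
    obtain ⟨j, hj⟩ := key z
    simp only [QuotientGroup.mk_mul, QuotientGroup.mk_inv, hi, hj]
    group

end Cfsg.Agent.S3939
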