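import Cfsg.Statements.S3937
import Cfsg.Agent.Layer.Zipper
import Cfsg.Agent.Core.Fitting
import Cfsg.Agent.S3939
-- import your own Cfsg.Agent.* helpers here

set_option autoImplicit false
open Cfsg

namespace Cfsg.Agent.S3937

universe u

open Subgroup in
theorem isSubnormal_of_nilpotent {G : Type*} [Group G] [Finite G] [Group.IsNilpotent G] :
    ∀ H : Subgroup G, H.IsSubnormal := by
  intro H
  induction H using WellFoundedGT.induction with
  | _ H ih =>
  rcases eq_or_ne H ⊤ with rfl | hne
  · exact IsSubnormal.top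
  have hlt : H < normalizer (H : Set G) := Group.normalizerCondition_of_isNilpotent H (lt_top_iff_ne_top.mpr hne)
  exact IsSubnormal.step H _ le_normalizer (ih _ hlt)
    ((normal_subgroupOf_iff_le_normalizer le_normalizer).mpr le_rfl)

open Subgroup in
theorem engel_subgroup {G : Type*} [Group G] (H : Subgroup G) (g : H) :
    ∀ (n : ℕ) (x : H), (((List.replicate n g).foldl (fun a b => a * b * a⁻¹ * b⁻¹) x : H) : G) =
      (List.replicate n (g : G)).foldl (fun a b => a * b * a⁻¹ * b⁻¹) (x : G) := by
  intro n
  induction n with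
  | zero => intro x; rfl
  | succ n ih =>
    intro x
    rw [List.replicate_succ, List.replicate_succ, List.foldl_cons, List.foldl_cons, ih]
    rfl

open Subgroup in
theorem mem_fitting_of_isSubnormal {G : Type*} [Group G] [Finite G] {g : G}
    (h : (zpowers g).IsSubnormal) : g ∈ Cfsg.fittingSubgroup G := by
  refine Cfsg.Agent.S3939.mem_of_primePow_parts _ g fun c hc q k hq hk => ?_
  have := Fact.mk hq
  have hcg : zpowers c ≤ zpowers g := zpowers_le.mpr hc
  have hsn : (zpowers c).IsSubnormal := by
    refine IsSubnormal.step _ _ hcg h ((normal_subgroupOf_iff_le_normalizer hcg).mpr ?_)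
    refine le_trans ?_ (centralizer_le_normalizer _)
    rintro _ ⟨i, rfl⟩
    rw [mem_centralizer_iff]
    rintro _ ⟨j, rfl⟩
    obtain ⟨l, rfl⟩ := hc
    exact (((Commute.refl g).zpow_zpow i l).zpow_right j).symm.eq
  exact Cfsg.Agent.Core.pCore_le_fittingSubgroup q
    (Cfsg.Agent.Layer.subnormal_le_pCore hsn (IsPGroup.of_card (n := k) (by rw [Nat.card_zpowers, hk]))
      (mem_zpowers c))

open Subgroup in
theorem engel_mem_fitting : ∀ (n : ℕ) (G : Type u) [Group G] [Finite G], Nat.card G = n → ∀ g : G,
    (∀ x : G, ∃ n : ℕ, (List.replicate n g).foldl (fun a b => a * b * a⁻¹ * b⁻¹) x = 1) →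
      g ∈ Cfsg.fittingSubgroup G := by
  intro n
  induction n using Nat.strong_induction_on with
  | _ n IH =>
  intro G _ _ hn g hg
  subst hn
  by_cases hsn : (zpowers g).IsSubnormal
  · exact mem_fitting_of_isSubnormal hsn
  have hfit : ∀ H : Subgroup G, ∀ hgH : g ∈ H, H ≠ ⊤ → (⟨g, hgH⟩ : H) ∈ Cfsg.fittingSubgroup H := by
    intro H hgH hH
    refine IH _ (Cfsg.Agent.Core.card_lt_of_ne_top hH) H rfl ⟨g, hgH⟩ fun x => ?_
    obtain ⟨m, hm⟩ := hg (x : G)
    exact ⟨m, Subtype.ext ((engel_subgroup H ⟨g, hgH⟩ m x).trans hm)⟩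
  obtain ⟨M, ⟨hM, hgM⟩, huniq⟩ := Cfsg.Agent.Layer.zipper (zpowers g) (fun H hH hHt => by
    have hgH : g ∈ H := hH (mem_zpowers g)
    have hle : zpowers (⟨g, hgH⟩ : H) ≤ Cfsg.fittingSubgroup H := zpowers_le.mpr (hfit H hgH hHt)
    have hnil : Group.IsNilpotent (Cfsg.fittingSubgroup H) := Cfsg.Agent.Core.fittingSubgroup_isNilpotent
    have h1 := IsSubnormal.trans hle (isSubnormal_of_nilpotent _)
      (Subgroup.Normal.isSubnormal (H := Cfsg.fittingSubgroup H) inferInstance)
    convert h1 using 1
    apply map_injective H.subtype_injective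
    rw [map_subgroupOf_eq_of_le hH, MonoidHom.map_zpowers]
    rfl) hsn
  by_cases hMn : M.Normal
  · have := hMn
    have h1 : g ∈ (Cfsg.fittingSubgroup M).map M.subtype :=
      ⟨⟨g, hgM (mem_zpowers g)⟩, hfit M (hgM (mem_zpowers g)) hM.1, rfl⟩
    rw [Cfsg.Agent.Core.map_fittingSubgroup_normal] at h1
    exact h1.1
  exfalso
  have hN : normalizer (M : Set G) = M :=
    (((IsCoatom.le_iff hM).mp le_normalizer).resolve_left fun h => hMn (normalizer_eq_top_iff.mp h))
  have key : ∀ (m : ℕ) (x : G),
      (List.replicate m g).foldl (fun a b => a * b * a⁻¹ * b⁻¹) x = 1 → x ∈ M := by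
    intro m
    induction m with
    | zero => intro x hx; rw [List.replicate_zero, List.foldl_nil] at hx; rw [hx]; exact one_mem M
    | succ m ih =>
      intro x hx
      rw [List.replicate_succ, List.foldl_cons] at hx
      have h1 := M.mul_mem (ih _ hx) (hgM (mem_zpowers g))
      rw [inv_mul_cancel_right] at h1
      set M' := M.comap (MulAut.conj x).toMonoidHom
      have hM' : IsCoatom M' :=
        (OrderIso.isCoatom_iff ((MulAut.conj x).symm.mapSubgroup) M).mpr hM |> fun h => by
          convert h using 1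
          exact (Subgroup.map_equiv_eq_comap_symm (MulAut.conj x).symm M).symm
      have he : M' = M := huniq M' ⟨hM', zpowers_le.mpr h1⟩
      rw [← hN, mem_normalizer_iff]
      intro y
      constructor
      · intro hy
        rw [← he] at hy
        exact hy
      · intro hy
        rw [← he]
        exact hy
  exact hM.1 (eq_top_iff.mpr fun x _ => let ⟨m, hm⟩ := hg x; key m x hm)



/-- Baer's characterization of the Fitting subgroup: in a finite group G, an element g lies in the Fitting subgroup if and only if g is a left Engel element, that is, for every x there is n with [x, g, g, …, g] = 1 (n entries g, [a, b] = aba⁻¹b⁻¹). -/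
theorem result {G : Type*} [Group G] [Finite G] (g : G) :
    g ∈ Cfsg.fittingSubgroup G ↔ ∀ x : G, ∃ n : ℕ, (List.replicate n g).foldl (fun a b => a * b * a⁻¹ * b⁻¹) x = 1 := by
  constructor
  · intro hg x
    have hnil : Group.IsNilpotent (Cfsg.fittingSubgroup G) := Cfsg.Agent.Core.fittingSubgroup_isNilpotent
    obtain ⟨c, hc⟩ := (Subgroup.isNilpotent_iff_lowerCentralSeries (Cfsg.fittingSubgroup G)).mp hnil
    refine ⟨c + 1, ?_⟩
    have hstep : ∀ (m j : ℕ) (y : G), y ∈ (Cfsg.fittingSubgroup G).lowerCentralSeries j →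
        (List.replicate m g).foldl (fun a b => a * b * a⁻¹ * b⁻¹) y ∈
          (Cfsg.fittingSubgroup G).lowerCentralSeries (j + m) := by
      intro m
      induction m with
      | zero => intro j y hy; simpa using hy
      | succ m ih =>
        intro j y hy
        rw [List.replicate_succ, List.foldl_cons, show j + (m + 1) = (j + 1) + m by omega]
        refine ih (j + 1) _ ?_
        rw [Subgroup.lowerCentralSeries_succ]
        exact Subgroup.commutator_mem_commutator hy hg
    rw [List.replicate_succ, List.foldl_cons]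
    have h1 : x * g * x⁻¹ * g⁻¹ ∈ (Cfsg.fittingSubgroup G).lowerCentralSeries 0 := by
      rw [Subgroup.lowerCentralSeries_zero]
      exact mul_mem ((inferInstance : (Cfsg.fittingSubgroup G).Normal).conj_mem g hg x) (inv_mem hg)
    have h2 := hstep c 0 _ h1
    rw [zero_add, hc, Subgroup.mem_bot] at h2
    exact h2
  · exact engel_mem_fitting _ G rfl g

end Cfsg.Agent.S3937
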