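import Cfsg.Statements.S2815
import Cfsg.Agent.Layer.FStar
import Cfsg.Agent.Core.Fitting
import Cfsg.Agent.Fusion.Residual
import Cfsg.Agent.Coprime.Tools

set_option autoImplicit false
open Cfsg

namespace Cfsg.Agent.S2815

open Subgroup
open scoped commutatorElement

/-- Let H be a finite group and p a prime dividing its order with O_p(H) = 1, and suppose K = O^p(H) (generated by the elements of order prime to p) is quasisimple. Then K = F*(H); for every nontrivial p-subgroup Y of H, K = [K, Y] and K lies in the subgroup generated by the K-conjugates of Y; every normal subgroup of H not containing K has order prime to p; and H is p-irreducible. -/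
theorem result {H : Type*} [Group H] [Finite H] {p : ℕ} [Fact p.Prime] (hp : p ∣ Nat.card H) (hO : Cfsg.pCore p H = ⊥) (hq : Cfsg.IsQuasisimple ↥(Cfsg.pResidual p H)) : Cfsg.pResidual p H = Cfsg.generalizedFittingSubgroup H ∧ (∀ Y : Subgroup H, IsPGroup p ↥Y → Y ≠ ⊥ → ⁅Cfsg.pResidual p H, Y⁆ = Cfsg.pResidual p H ∧ Cfsg.pResidual p H ≤ ⨆ k : ↥(Cfsg.pResidual p H), Y.map (MulAut.conj (k : H)).toMonoidHom) ∧ (∀ C : Subgroup H, C.Normal → ¬ Cfsg.pResidual p H ≤ C → (Nat.card ↥C).Coprime p) ∧ Cfsg.IsPIrreducible p H := by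
  set R := Cfsg.pResidual p H with hR
  haveI hRc : R.Characteristic := Fusion.pResidual_characteristic
  haveI hRn : R.Normal := Subgroup.normal_of_characteristic R
  set C := centralizer (R : Set H) with hC
  haveI hCn : C.Normal := by
    rw [← normalizer_eq_top_iff, eq_top_iff]
    exact Coprime.le_normalizer_centralizer (by rw [normalizer_eq_top (H := R)])
  have hFR : Cfsg.fittingSubgroup H ≤ R := by
    rw [Core.fittingSubgroup_eq_iSup_pCore]
    refine iSup_le fun q => ?_
    haveI := Fact.mk q.2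
    by_cases hqp : (q : ℕ) = p
    · rw [hqp, hO]; exact bot_le
    intro x hx
    refine Fusion.mem_pResidual_of_coprime ?_
    obtain ⟨k, hk⟩ := IsPGroup.iff_orderOf.1 (Core.pCore_isPGroup (p := (q : ℕ)) (G := H)) ⟨x, hx⟩
    rw [Subgroup.orderOf_mk] at hk
    rw [hk]
    exact Nat.Coprime.pow_left _ ((Nat.coprime_primes q.2 Fact.out).2 hqp)
  have hCR : C ≤ R := by
    let f : C →* H ⧸ R := (QuotientGroup.mk' R).comp C.subtype
    have hker : f.ker ≤ center C := fun c hc => by
      have hcR : (c : H) ∈ R := (QuotientGroup.eq_one_iff _).1 hc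
      exact mem_center_iff.2 fun d => Subtype.ext (mem_centralizer_iff.1 d.2 _ hcR).symm
    haveI : Group.IsNilpotent (H ⧸ R) := Fusion.isPGroup_quotient_pResidual.isNilpotent
    haveI : Group.IsNilpotent C := Subgroup.isNilpotent_of_ker_le_center f hker
    exact (Core.le_fittingSubgroup (N := C) inferInstance).trans hFR
  have hCp : (Nat.card C).Coprime p := by
    rw [Nat.coprime_comm, (Fact.out : p.Prime).coprime_iff_not_dvd]
    intro hd
    obtain ⟨z, hz⟩ := exists_prime_orderOf_dvd_card' p hd
    have hn : (zpowers z).Normal := ⟨fun a ha g => by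
      obtain ⟨j, rfl⟩ := mem_zpowers_iff.1 ha
      have hg : Commute g z := Subtype.ext (mem_centralizer_iff.1 z.2 _ (hCR g.2))
      rw [(hg.zpow_right j).eq, mul_inv_cancel_right]
      exact ha⟩
    have hsn := hn.isSubnormal.trans' (hCn.isSubnormal)
    rw [MonoidHom.map_zpowers] at hsn
    have h1 := Layer.subnormal_le_pCore (p := p) hsn
      (IsPGroup.of_card (n := 1) (by rw [Nat.card_zpowers, coe_subtype, orderOf_coe, hz, pow_one]))
    rw [hO, le_bot_iff, zpowers_eq_bot] at h1
    rw [← orderOf_coe, show (z : H) = 1 from h1, orderOf_one] at hz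
    exact (Fact.out : p.Prime).ne_one hz.symm
  have hRp : Cfsg.IsComponent R := ⟨hRn.isSubnormal, hq⟩
  have h3 : ∀ N : Subgroup H, N.Normal → ¬ R ≤ N → N ≤ C := by
    intro N hN hRN
    have h := (Layer.component_le_or_commute hRp hN.isSubnormal).resolve_left hRN
    exact commutator_eq_bot_iff_le_centralizer.1 (Layer.commutator_eq_bot_symm h)
  refine ⟨le_antisymm ((Layer.component_le_layer hRp).trans le_sup_left) (sup_le (sSup_le fun L hL => ?_) hFR),
    fun Y hY hY1 => ⟨?_, ?_⟩, fun N hN hRN => hCp.coprime_dvd_left (card_dvd_of_le (h3 N hN hRN)), ?_, ?_⟩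
  · by_contra hLR
    have h := (Layer.component_le_or_commute hL hRn.isSubnormal).resolve_left hLR
    exact hLR ((commutator_eq_bot_iff_le_centralizer.1 h).trans hCR)
  · have hle : ⁅R, Y⁆ ≤ R := commutator_le_left R Y
    have hnorm : R ≤ normalizer ((⁅R, Y⁆ : Subgroup H) : Set H) := normalizer_commutator_ge_left R Y
    refine (Layer.qs_sub_normalized_cases hq hle hnorm).resolve_right fun h => hY1 ?_
    have h' : ⁅⁅R, R⁆, Y⁆ = ⊥ := commutator_commutator_eq_bot_of_rotate h
      (by rwa [Subgroup.commutator_comm Y R])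
    rw [Layer.qs_subgroup_perfect hq] at h'
    have hYC : Y ≤ C := commutator_eq_bot_iff_le_centralizer.1 (Layer.commutator_eq_bot_symm h')
    have := inf_eq_bot_of_coprime (H := Y) (K := C) (by
      obtain ⟨k, hk⟩ := IsPGroup.iff_card.1 hY
      rw [hk]; exact (hCp.symm).pow_left k)
    rwa [inf_eq_left.2 hYC] at this
  · set S := ⨆ k : ↥R, Y.map (MulAut.conj (k : H)).toMonoidHom with hS
    have hYS : Y ≤ S := by
      refine le_trans (le_of_eq ?_) (le_iSup (fun k : ↥R => Y.map (MulAut.conj (k : H)).toMonoidHom) 1)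
      rw [OneMemClass.coe_one, map_one]
      exact (Subgroup.map_id Y).symm
    have hRY : ⁅R, Y⁆ ≤ S := by
      rw [commutator_le]
      intro r hr y hy
      refine mul_mem ?_ (inv_mem (hYS hy))
      exact le_iSup (fun k : ↥R => Y.map (MulAut.conj (k : H)).toMonoidHom) ⟨r, hr⟩ ⟨y, hy, rfl⟩
    refine le_trans (le_of_eq ?_) hRY
    refine ((Layer.qs_sub_normalized_cases hq (commutator_le_left R Y)
      (normalizer_commutator_ge_left R Y)).resolve_right fun h => hY1 ?_).symm
    have h' : ⁅⁅R, R⁆, Y⁆ = ⊥ := commutator_commutator_eq_bot_of_rotate h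
      (by rwa [Subgroup.commutator_comm Y R])
    rw [Layer.qs_subgroup_perfect hq] at h'
    have hYC : Y ≤ C := commutator_eq_bot_iff_le_centralizer.1 (Layer.commutator_eq_bot_symm h')
    have := inf_eq_bot_of_coprime (H := Y) (K := C) (by
      obtain ⟨k, hk⟩ := IsPGroup.iff_card.1 hY
      rw [hk]; exact (hCp.symm).pow_left k)
    rwa [inf_eq_left.2 hYC] at this
  · intro hcl
    obtain ⟨P⟩ : Nonempty (Sylow p H) := inferInstance
    haveI := hcl P
    exact P.ne_bot_of_dvd_card hp (le_bot_iff.1 (hO ▸ Core.le_pCore P.2))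
  · intro N hN hNcl
    by_contra hRN
    refine hNcl fun P => ?_
    have hcop : (Nat.card N).Coprime p := hCp.coprime_dvd_left (card_dvd_of_le (h3 N hN hRN))
    obtain ⟨k, hk⟩ := IsPGroup.iff_card.1 P.2
    have : Nat.card (P : Subgroup N) = 1 := Nat.eq_one_of_dvd_coprimes
      (show (Nat.card N).Coprime (p ^ k) from hcop.pow_right k) (card_subgroup_dvd_card _)
      (dvd_of_eq hk)
    rw [card_eq_one.1 this]
    infer_instance

end Cfsg.Agent.S2815
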