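import Cfsg.Statements.S2530
import Mathlib

set_option autoImplicit false
open Cfsg

namespace Cfsg.Agent.S2530

section Abstract

variable {W : Type*} [Group W] (s : ℕ → W)

/-- The coset representatives: descending runs. -/
def run (n : ℕ) : ℕ → W
  | 0 => 1
  | k + 1 => run n k * s (n - k)

variable {s} {N : ℕ} (hsq : ∀ i, i < N → s i * s i = 1)
    (hcomm : ∀ i j, i + 1 < j → j < N → s i * s j = s j * s i)
    (hbraid : ∀ i, i + 1 < N → s i * s (i + 1) * s i = s (i + 1) * s i * s (i + 1))

include hcomm in
theorem run_comm {n : ℕ} (hn : n < N) : ∀ k j, j + k < n + 1 → j < n →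
    j + k ≠ n → s j * run s n k = run s n k * s j := by
  intro k
  induction k with
  | zero => intro j _ _ _; simp [run]
  | succ k ih =>
    intro j hj hjn hne
    show s j * (run s n k * s (n - k)) = run s n k * s (n - k) * s j
    rw [← mul_assoc, ih j (by omega) hjn (by omega), mul_assoc, hcomm j (n - k) (by omega) (by omega),
      ← mul_assoc]

include hcomm hbraid in
theorem run_shift {n : ℕ} (hn : n < N) : ∀ k, k ≤ n + 1 →
    ∀ j, j ≤ n → n + 1 < j + k → run s n k * s j = s (j - 1) * run s n k := by
  intro k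
  induction k with
  | zero => intro _ j hj h; omega
  | succ k ih =>
    intro hk j hj hjk
    have hstep : run s n (k + 1) = run s n k * s (n - k) := rfl
    rw [hstep]
    rcases Nat.lt_or_ge (n - k + 1) j with h | h
    · rw [mul_assoc, hcomm (n - k) j h (by omega), ← mul_assoc, ih (by omega) j hj (by omega), mul_assoc]
    · obtain ⟨l, rfl⟩ : ∃ l, k = l + 1 := ⟨k - 1, by omega⟩
      have e : run s n (l + 1) = run s n l * s (n - l) := rfl
      rw [e, show n - l = j by omega, show n - (l + 1) = j - 1 by omega]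
      have hb := hbraid (j - 1) (by omega)
      rw [show j - 1 + 1 = j by omega] at hb
      calc run s n l * s j * s (j - 1) * s j = run s n l * (s j * s (j - 1) * s j) := by
            simp only [mul_assoc]
        _ = run s n l * (s (j - 1) * s j * s (j - 1)) := by rw [hb]
        _ = run s n l * s (j - 1) * s j * s (j - 1) := by simp only [mul_assoc]
        _ = s (j - 1) * run s n l * s j * s (j - 1) := by
            rw [run_comm hcomm hn l (j - 1) (by omega) (by omega) (by omega)]
        _ = _ := by simp only [mul_assoc]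

include hsq hcomm hbraid in
theorem card_closure_le : ∀ n, n ≤ N →
    (Subgroup.closure (s '' Set.Iio n) : Set W).Finite ∧
      Nat.card (Subgroup.closure (s '' Set.Iio n)) ≤ (n + 1).factorial := by
  intro n
  induction n with
  | zero =>
    intro _
    rw [show (s '' Set.Iio 0) = ∅ by simp, Subgroup.closure_empty]
    exact ⟨by simp, by simp⟩
  | succ n ih =>
    intro hn
    obtain ⟨hfin, hcard⟩ := ih (by omega)
    set H := Subgroup.closure (s '' Set.Iio n) with hH
    have hmemH : ∀ j, j < n → s j ∈ H := fun j hj => Subgroup.subset_closure ⟨j, hj, rfl⟩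
    let f : H × Fin (n + 2) → W := fun p => (p.1 : W) * run s n p.2
    have hstep : ∀ j, j ≤ n → ∀ p, f p * s j ∈ Set.range f := by
      intro j hj ⟨⟨h, hh⟩, k, hk⟩
      show h * run s n k * s j ∈ _
      by_cases h1 : j + k = n
      · refine ⟨(⟨h, hh⟩, ⟨k + 1, by omega⟩), ?_⟩
        show h * (run s n k * s (n - k)) = _
        rw [show n - k = j by omega, mul_assoc]
      by_cases h2 : j + k = n + 1
      · refine ⟨(⟨h, hh⟩, ⟨k - 1, by omega⟩), ?_⟩
        obtain ⟨l, rfl⟩ : ∃ l, k = l + 1 := ⟨k - 1, by omega⟩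
        show h * run s n (l + 1 - 1) = h * (run s n l * s (n - l)) * s j
        rw [show n - l = j by omega, Nat.add_sub_cancel, mul_assoc, mul_assoc, hsq j (by omega), mul_one]
      by_cases h3 : j + k < n
      · refine ⟨(⟨h * s j, mul_mem hh (hmemH j (by omega))⟩, ⟨k, hk⟩), ?_⟩
        show h * s j * run s n k = _
        rw [mul_assoc, run_comm hcomm (by omega) k j (by omega) (by omega) h1, ← mul_assoc]
      · refine ⟨(⟨h * s (j - 1), mul_mem hh (hmemH (j - 1) (by omega))⟩, ⟨k, hk⟩), ?_⟩
        show h * s (j - 1) * run s n k = _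
        rw [mul_assoc, mul_assoc, run_shift hcomm hbraid (by omega) k (by omega) j hj (by omega)]
    have hsub : (Subgroup.closure (s '' Set.Iio (n + 1)) : Set W) ⊆ Set.range f := by
      intro x hx
      induction hx using Subgroup.closure_induction_right with
      | one => exact ⟨(1, ⟨0, by omega⟩), by simp [f, run]⟩
      | mul_right x _ y hy ihx =>
        obtain ⟨j, hj, rfl⟩ := hy
        obtain ⟨p, rfl⟩ := ihx
        exact hstep j (Nat.lt_succ_iff.1 hj) p
      | mul_inv_cancel x _ y hy ihx =>
        obtain ⟨j, hj, rfl⟩ := hy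
        obtain ⟨p, rfl⟩ := ihx
        rw [inv_eq_of_mul_eq_one_right (hsq j (lt_of_lt_of_le hj hn))]
        exact hstep j (Nat.lt_succ_iff.1 hj) p
    haveI : Finite H := hfin.to_subtype
    have hrange : (Set.range f).Finite := Set.finite_range f
    refine ⟨hrange.subset hsub, ?_⟩
    calc Nat.card (Subgroup.closure (s '' Set.Iio (n + 1)))
        ≤ Nat.card (Set.range f) := Nat.card_mono hrange hsub
      _ ≤ Nat.card (H × Fin (n + 2)) := Finite.card_range_le f
      _ ≤ (n + 1 + 1).factorial := by
          rw [Nat.card_prod, Nat.card_fin, Nat.factorial_succ (n + 1), mul_comm (n + 1 + 1)]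
          exact Nat.mul_le_mul_right _ hcard

end Abstract

open Equiv in
theorem swaps_liftable (n : ℕ) : (CoxeterMatrix.A n).IsLiftable
    (fun i : Fin n => swap i.castSucc i.succ) := by
  intro i j
  have hM : CoxeterMatrix.A n i j = if i = j then 1 else (if (j : ℕ) + 1 = i ∨ (i : ℕ) + 1 = j then 3 else 2) := rfl
  rw [hM]
  split_ifs with h1 h2
  · subst h1; simp
  · have key : ∀ a b c : Fin (n + 1), a ≠ b → a ≠ c → b ≠ c → (swap a b * swap a c) ^ 3 = 1 := by
      intro a b c hab hac hbc
      rw [← (Equiv.Perm.isThreeCycle_swap_mul_swap_same hab hac hbc).orderOf]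
      exact pow_orderOf_eq_one _
    rcases h2 with h2 | h2
    · have e : j.succ = i.castSucc := Fin.ext (by simpa using h2)
      show (swap i.castSucc i.succ * swap j.castSucc j.succ) ^ 3 = 1
      rw [e, swap_comm j.castSucc]
      exact key _ _ _ (Fin.ne_of_val_ne (by simp)) (Fin.ne_of_val_ne (by simp; omega))
        (Fin.ne_of_val_ne (by simp; omega))
    · have e : i.succ = j.castSucc := Fin.ext (by simpa using h2)
      show (swap i.castSucc i.succ * swap j.castSucc j.succ) ^ 3 = 1
      rw [← e, swap_comm i.castSucc]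
      exact key _ _ _ (Fin.ne_of_val_ne (by simp)) (Fin.ne_of_val_ne (by simp; omega))
        (Fin.ne_of_val_ne (by simp; omega))
  · have hv : (i : ℕ) ≠ j := fun h => h1 (Fin.ext h)
    have hd : Equiv.Perm.Disjoint (swap i.castSucc i.succ) (swap j.castSucc j.succ) := by
      intro x
      by_cases hx : x = i.castSucc ∨ x = i.succ
      · right
        refine swap_apply_of_ne_of_ne ?_ ?_ <;> refine Fin.ne_of_val_ne ?_ <;>
          rcases hx with rfl | rfl <;> simp <;> omega
      · push Not at hx
        exact Or.inl (swap_apply_of_ne_of_ne hx.1 hx.2)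
    rw [hd.commute.mul_pow, pow_two, pow_two, swap_mul_self, swap_mul_self, one_mul]

/-- The Coxeter presentation of the symmetric group: for every n, the symmetric group on n+1 letters is the Coxeter group of type A_n with the adjacent transpositions (i, i+1) as simple reflections; that is, it is presented by generators r_1, …, r_n subject to r_i² = 1, (r_i r_j)² = 1 for |i − j| > 1 and (r_i r_{i+1})³ = 1, with r_i mapping to (i, i+1). -/
theorem result (n : ℕ) :
    ∃ cs : CoxeterSystem (CoxeterMatrix.A n) (Equiv.Perm (Fin (n + 1))), ∀ i : Fin n, cs.simple i = Equiv.swap i.castSucc i.succ := by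
  let M := CoxeterMatrix.A n
  let cs0 := M.toCoxeterSystem
  let s : ℕ → M.Group := fun i => if h : i < n then cs0.simple ⟨i, h⟩ else 1
  have hs : ∀ i (h : i < n), s i = cs0.simple ⟨i, h⟩ := fun i h => dif_pos h
  have hsq : ∀ i, i < n → s i * s i = 1 := fun i h => by
    rw [hs i h]; exact cs0.simple_mul_simple_self _
  have hinv : ∀ i, i < n → (s i)⁻¹ = s i := fun i h => inv_eq_of_mul_eq_one_right (hsq i h)
  have hM : ∀ a b : Fin n, M a b =
      if a = b then 1 else (if (b : ℕ) + 1 = a ∨ (a : ℕ) + 1 = b then 3 else 2) := fun a b => rfl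
  have hcomm : ∀ i j, i + 1 < j → j < n → s i * s j = s j * s i := by
    intro i j hij hj
    have h := cs0.simple_mul_simple_pow ⟨i, by omega⟩ ⟨j, hj⟩
    rw [show M ⟨i, by omega⟩ ⟨j, hj⟩ = 2 by
      rw [hM, if_neg (Fin.ne_of_val_ne (show i ≠ j by omega)), if_neg (by simp only; omega)],
      ← hs i (by omega), ← hs j hj, pow_two] at h
    have := inv_eq_of_mul_eq_one_right h
    rw [mul_inv_rev, hinv i (by omega), hinv j hj] at this
    exact this.symm
  have hbraid : ∀ i, i + 1 < n → s i * s (i + 1) * s i = s (i + 1) * s i * s (i + 1) := by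
    intro i hi
    have h := cs0.simple_mul_simple_pow ⟨i, by omega⟩ ⟨i + 1, hi⟩
    rw [show M ⟨i, by omega⟩ ⟨i + 1, hi⟩ = 3 by
      rw [hM, if_neg (Fin.ne_of_val_ne (show i ≠ i + 1 by omega)), if_pos (Or.inr rfl)],
      ← hs i (by omega), ← hs (i + 1) hi] at h
    have h' : s i * s (i + 1) * s i * (s (i + 1) * s i * s (i + 1)) = 1 := by
      rw [← h, pow_succ, pow_two]; simp only [mul_assoc]
    have := inv_eq_of_mul_eq_one_left h'
    rw [mul_inv_rev, mul_inv_rev, hinv i (by omega), hinv (i + 1) hi, ← mul_assoc] at this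
    exact this.symm
  have htop : Subgroup.closure (s '' Set.Iio n) = ⊤ := by
    rw [← cs0.subgroup_closure_range_simple]
    congr 1
    ext x
    constructor
    · rintro ⟨i, hi, rfl⟩; exact ⟨⟨i, hi⟩, (hs i hi).symm⟩
    · rintro ⟨i, rfl⟩; exact ⟨i, i.2, hs i i.2⟩
  obtain ⟨hfin, hcard⟩ := card_closure_le hsq hcomm hbraid n le_rfl
  rw [htop] at hfin hcard
  rw [Subgroup.card_top] at hcard
  haveI : Finite M.Group := Set.finite_univ_iff.1 (by simpa using hfin)
  let φ : M.Group →* Equiv.Perm (Fin (n + 1)) := cs0.lift ⟨_, swaps_liftable n⟩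
  have hφs : ∀ i : Fin n, φ (cs0.simple i) = Equiv.swap i.castSucc i.succ := fun i =>
    cs0.lift_apply_simple (swaps_liftable n) i
  have hsurj : Function.Surjective φ := by
    intro σ
    have hle : Submonoid.closure (Set.range fun i : Fin n => Equiv.swap i.castSucc i.succ) ≤
        MonoidHom.mrange φ := by
      rw [Submonoid.closure_le]
      rintro _ ⟨i, rfl⟩
      exact ⟨_, hφs i⟩
    rw [Equiv.Perm.mclosure_swap_castSucc_succ] at hle
    exact hle (Submonoid.mem_top σ)
  have hPcard : Nat.card (Equiv.Perm (Fin (n + 1))) = (n + 1).factorial := by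
    rw [Nat.card_perm, Nat.card_fin]
  have hbij : Function.Bijective φ := (Nat.bijective_iff_surjective_and_card φ).2
    ⟨hsurj, le_antisymm (hPcard ▸ hcard) (Nat.card_le_card_of_surjective φ hsurj)⟩
  refine ⟨⟨(MulEquiv.ofBijective φ hbij).symm⟩, fun i => ?_⟩
  exact hφs i

end Cfsg.Agent.S2530
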