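import Cfsg.Statements.S2121
import Cfsg.Agent.ChevAut.OutIndex
import Cfsg.Agent.Chev.WeylAll
-- import your own Cfsg.Agent.* helpers here

set_option autoImplicit false
open Cfsg

namespace Cfsg.Agent.S2121

/-- Outer automorphisms of the Chevalley groups of type G₂: over a field with q = p^f (p prime) ≥ 3 elements, the outer automorphism group of G₂(q) has order f when p ≠ 3 and 2f when p = 3 (field automorphisms, and in characteristic 3 also the exceptional graph automorphism). -/
theorem result {F : Type*} [Field F] [Fintype F] (p f : ℕ) [Fact p.Prime] [CharP F p] (hF : Fintype.card F = p ^ f) (hq : 3 ≤ p ^ f) : Nat.card (Cfsg.Out ↥(Cfsg.Lie.chevG2.group F)) = (if p = 3 then 2 * f else f) := by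
  have hf : 1 ≤ f := Nat.one_le_iff_ne_zero.2 fun h => by rw [h, pow_zero] at hq; omega
  have hD : Cfsg.Lie.chevG2 ∈ [Cfsg.Lie.chevG2, Cfsg.Lie.chevB2, Cfsg.Lie.chevD4, Cfsg.Lie.chevF4,
    Cfsg.Lie.chevE6, Cfsg.Lie.chevE7, Cfsg.Lie.chevE8] := by simp
  have hN : 1 * Nat.card ↥(Cfsg.Lie.chevG2.diagonalSubgroup F) =
      (Fintype.card F - 1) ^ Cfsg.Lie.chevG2.rank := by
    have := Chev.g2_card_diagonal F
    simpa [Fin.prod_univ_succ] using this
  have hc : ringChar F = p := ringChar.eq F p
  by_cases h3 : p = 3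
  · rw [if_pos h3, ChevAut.card_out (Chev.facts_of_mem hD) (ChevAut.autFacts_of_mem hD) hD hf hF hN
      (ChevAut.g2_index_three (hc.trans h3))]
  · rw [if_neg h3, ChevAut.card_out (Chev.facts_of_mem hD) (ChevAut.autFacts_of_mem hD) hD hf hF hN
      (ChevAut.g2_index_other (by omega) (by rw [hc]; exact h3)), one_mul, one_mul]

end Cfsg.Agent.S2121
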