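import Cfsg.Statements.S0197
import Cfsg.Agent.InvolGL23.Model
import Cfsg.Agent.InvolGL23.Comb
import Cfsg.Agent.Invol.Count
import Cfsg.Agent.Invol.SectionInduce
import Cfsg.Agent.TwoTransfer.Basic
import Cfsg.Agent.Fusion.Alperin
import Cfsg.Agent.SmallOrder.Involution

set_option autoImplicit false
open Cfsg

namespace Cfsg.Agent.S0197

open Cfsg.Agent.InvolGL23
open scoped ComplexConjugate

universe u

theorem z_sq {G : Type u} [Group G] {z : G} (hz : orderOf z = 2) : z * z = 1 := by
  rw [← sq, ← hz, pow_orderOf_eq_one]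

theorem z_ne {G : Type u} [Group G] {z : G} (hz : orderOf z = 2) : z ≠ 1 := by
  rintro rfl
  rw [orderOf_one] at hz
  omega

section

variable {G : Type u} [Group G] {z : G}
  (e : Subgroup.centralizer ({z} : Set G) ≃* Matrix.GeneralLinearGroup (Fin 2) (ZMod 3))

local notation "GL23" => Matrix.GeneralLinearGroup (Fin 2) (ZMod 3)

/-- The embedding of `GL(2,3)`. -/
def emb : GL23 →* G := (Subgroup.centralizer ({z} : Set G)).subtype.comp e.symm.toMonoidHom

theorem emb_injective : Function.Injective (emb e) := fun a b h =>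
  e.symm.injective (Subtype.ext h)

theorem emb_mem (g : GL23) : emb e g ∈ Subgroup.centralizer ({z} : Set G) := (e.symm g).2

theorem exists_emb {x : G} (hx : x ∈ Subgroup.centralizer ({z} : Set G)) : ∃ g, emb e g = x :=
  ⟨e ⟨x, hx⟩, congrArg Subtype.val (e.symm_apply_apply _)⟩

theorem emb_e (c : Subgroup.centralizer ({z} : Set G)) : emb e (e c) = c :=
  congrArg Subtype.val (e.symm_apply_apply c)

theorem eq_of_toQ {a b : GL23} (h : toQ a = toQ b) : emb e a = emb e b := by
  rw [toQ_injective h]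

/-- The element mapping to the central involution is `z`. -/
theorem emb_eq_z (hz : orderOf z = 2) {g : GL23} (hg : toQ g = qneg) : emb e g = z := by
  have hzC : z ∈ Subgroup.centralizer ({z} : Set G) := Subgroup.mem_centralizer_singleton_iff.2 rfl
  obtain ⟨a, ha⟩ := exists_emb e hzC
  refine (eq_of_toQ e (hg.trans ?_)).trans ha
  have hsq : a * a = 1 := emb_injective e (by rw [map_mul, map_one, ha, z_sq hz])
  refine (central_eq _ (toQ_mem a) (by rw [← toQ_mul, hsq, toQ_one]) (fun h => ?_)
    fun r hr => ?_).symm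
  · rw [toQ_injective (h.trans toQ_one.symm), map_one] at ha
    rw [← ha, orderOf_one] at hz
    omega
  · obtain ⟨b, rfl⟩ := toQ_surj hr
    rw [← toQ_mul, ← toQ_mul]
    congr 1
    refine emb_injective e ?_
    rw [map_mul, map_mul, ha]
    exact (Subgroup.mem_centralizer_singleton_iff.1 (emb_mem e b)).symm

/-- The subgroup of a closed list. -/
def subOf (L : Finset Q) (h1 : qone ∈ L) (hm : ∀ a ∈ L, ∀ b ∈ L, qmul a b ∈ L)
    (hi : ∀ a ∈ L, ∃ b ∈ L, qmul a b = qone) : Subgroup GL23 where
  carrier := {g | toQ g ∈ L}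
  one_mem' := by simpa [toQ_one] using h1
  mul_mem' := fun {a b} ha hb => by
    show toQ (a * b) ∈ L
    rw [toQ_mul]; exact hm _ ha _ hb
  inv_mem' := fun {a} ha => by
    obtain ⟨b, hb, e⟩ := hi _ ha
    show toQ a⁻¹ ∈ L
    have hmul : qmul (toQ a) (toQ a⁻¹) = qone := by rw [← toQ_mul, mul_inv_cancel, toQ_one]
    obtain ⟨b', rfl⟩ : ∃ b', toQ b' = b := by
      by_cases hbe : b ∈ els
      · exact toQ_surj hbe
      · exfalso
        apply hbe
        refine Finset.mem_filter.2 ⟨Finset.mem_univ _, fun h0 => ?_⟩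
        have hdet : ∀ x y : Q, qdet (qmul x y) = qdet x * qdet y := fun x y => by
          simp only [qdet, qmul]; ring
        have h9 := congrArg qdet e
        rw [hdet, h0, mul_zero] at h9
        exact absurd h9 (by decide)
    rw [← toQ_mul, ← toQ_one] at e
    rwa [inv_eq_of_mul_eq_one_right (toQ_injective e)]

theorem card_subOf (L : Finset Q) (h1 : qone ∈ L) (hm : ∀ a ∈ L, ∀ b ∈ L, qmul a b ∈ L)
    (hi : ∀ a ∈ L, ∃ b ∈ L, qmul a b = qone) (hL : L ⊆ els) :
    Nat.card (subOf L h1 hm hi) = L.card := by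
  have hb : Function.Bijective fun g : subOf L h1 hm hi =>
      (⟨toQ g.1, g.2⟩ : {q // q ∈ L}) := by
    refine ⟨fun g h e => Subtype.ext (toQ_injective (congrArg Subtype.val e)), fun q => ?_⟩
    obtain ⟨g, hg⟩ := toQ_surj (hL q.2)
    exact ⟨⟨g, show toQ g ∈ L from hg ▸ q.2⟩, Subtype.ext hg⟩
  rw [Nat.card_congr (Equiv.ofBijective _ hb), Nat.card_eq_fintype_card, Fintype.card_coe]

/-- The Sylow two-subgroup of the model. -/
def SS : Subgroup GL23 :=
  subOf syl (syl_facts.2.1 syl_facts.2.2.1) syl_mul.1 syl_mul.2.1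

/-- Its quaternion subgroup. -/
def MM : Subgroup GL23 := subOf quat syl_facts.2.2.1 syl_mul.2.2.1 syl_mul.2.2.2

/-- The Sylow two-subgroup of `G` and the fusion of the involutions of the centraliser. -/
theorem fusion [Finite G] [IsSimpleGroup G] (hz : orderOf z = 2) :
    Nat.card G % 32 = 16 ∧ ∀ g : GL23, g * g = 1 → g ≠ 1 → ∃ w, w * z * w⁻¹ = emb e g := by
  have hC : Nat.card (Subgroup.centralizer ({z} : Set G)) = 48 := by
    rw [Nat.card_congr e.toEquiv, card_gl23]
  obtain ⟨hsub, hqs, hq1, hts, htq, hns, hsc, hqc, htt⟩ := syl_facts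
  set S₀ := SS.map (emb e) with hS₀
  have hS₀c : Nat.card S₀ = 2 ^ 4 := by
    rw [hS₀, Subgroup.card_map_of_injective (emb_injective e), SS,
      card_subOf _ _ _ _ hsub, hsc]
    norm_num
  obtain ⟨S, hS⟩ := (IsPGroup.of_card hS₀c).exists_le_sylow
  have hS₀C : S₀ ≤ Subgroup.centralizer ({z} : Set G) := by
    rintro _ ⟨g, -, rfl⟩
    exact emb_mem e g
  have hzS : z ∈ S₀ := by
    obtain ⟨a, ha⟩ := toQ_surj (hsub hns)
    exact ⟨a, show toQ a ∈ syl from ha ▸ hns, emb_eq_z e hz ha⟩
  have hSeq : (S : Subgroup G) = S₀ := by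
    by_contra hne
    have hlt : S₀ < (S : Subgroup G) := lt_of_le_of_ne hS (Ne.symm hne)
    obtain ⟨x, hx, hx0⟩ := SetLike.exists_of_lt
      (Fusion.lt_inf_normalizer_of_isPGroup S.2 hlt)
    obtain ⟨hxS, hxN⟩ := hx
    have hw : x * z * x⁻¹ ∈ S₀ := (Subgroup.mem_normalizer_iff.1 hxN z).1 hzS
    obtain ⟨m, hm, hme⟩ := hw
    have hmz : toQ m = qneg := by
      refine syl_center _ hm ?_ (fun h => ?_) fun b hb => ?_
      · rw [← toQ_mul, ← toQ_one]
        congr 1
        refine emb_injective e ?_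
        rw [map_mul, map_one, hme, show x * z * x⁻¹ * (x * z * x⁻¹) = x * (z * z) * x⁻¹ by group,
          z_sq hz, mul_one, mul_inv_cancel]
      · rw [toQ_injective (h.trans toQ_one.symm), map_one] at hme
        exact z_ne hz (conj_eq_one_iff.1 hme.symm)
      · obtain ⟨b', rfl⟩ := toQ_surj (hsub hb)
        rw [← toQ_mul, ← toQ_mul]
        congr 1
        refine emb_injective e ?_
        rw [map_mul, map_mul, hme]
        have hb0 : x⁻¹ * emb e b' * x ∈ S₀ :=
          (Subgroup.mem_normalizer_iff''.1 hxN _).1 ⟨b', hb, rfl⟩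
        have hc := Subgroup.mem_centralizer_singleton_iff.1 (hS₀C hb0)
        calc x * z * x⁻¹ * emb e b' = x * (z * (x⁻¹ * emb e b' * x)) * x⁻¹ := by group
          _ = x * (x⁻¹ * emb e b' * x * z) * x⁻¹ := by rw [hc]
          _ = emb e b' * (x * z * x⁻¹) := by group
    rw [emb_eq_z e hz hmz] at hme
    have hxC : x ∈ Subgroup.centralizer ({z} : Set G) :=
      Subgroup.mem_centralizer_singleton_iff.2 (eq_mul_inv_iff_mul_eq.1 hme).symm
    have hT : S₀ = (S : Subgroup G) ⊓ Subgroup.centralizer ({z} : Set G) := by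
      refine Subgroup.eq_of_le_of_card_ge (le_inf hS hS₀C) ?_
      obtain ⟨n, hn⟩ := IsPGroup.iff_card.1
        (S.2.to_le (inf_le_left : (S : Subgroup G) ⊓ Subgroup.centralizer ({z} : Set G) ≤ S))
      rw [hn, hS₀c]
      refine Nat.pow_le_pow_right (by norm_num) (by_contra fun h5 => ?_)
      have h32 : 2 ^ 5 ∣ 48 := (pow_dvd_pow 2 (by omega : 5 ≤ n)).trans
        (hn ▸ hC ▸ Subgroup.card_dvd_of_le inf_le_right)
      norm_num at h32
    exact hx0 (hT ▸ ⟨hxS, hxC⟩)
  have hG : Nat.card G % 32 = 16 := by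
    have h := (S : Subgroup G).card_mul_index
    rw [hSeq, hS₀c] at h
    have hodd : ¬ 2 ∣ S₀.index := hSeq ▸ S.not_dvd_index
    omega
  refine ⟨hG, ?_⟩
  obtain ⟨t, ht⟩ := toQ_surj (hsub hts)
  have ht1 : t * t = 1 := toQ_injective (by rw [toQ_mul, ht, htt, toQ_one])
  have hM : (MM.map (emb e)).relIndex (S : Subgroup G) = 2 := by
    have h := ((MM.map (emb e)).subgroupOf (S : Subgroup G)).card_mul_index
    rw [Nat.card_congr (Subgroup.subgroupOfEquivOfLe (show MM.map (emb e) ≤ (S : Subgroup G) by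
          rw [hSeq]
          exact Subgroup.map_mono fun g hg => hqs hg)).toEquiv,
        Subgroup.card_map_of_injective (emb_injective e), MM,
        card_subOf _ _ _ _ (hqs.trans hsub), hqc, hSeq, hS₀c] at h
    rw [Subgroup.relIndex, hSeq, MM]
    omega
  have htC : ∃ w, w * z * w⁻¹ = emb e t := by
    by_contra hno
    obtain ⟨N, hN, hNi, -⟩ := TwoTransfer.exists_index_two S (MM.map (emb e)) hM (emb e t)
      (show emb e t ∈ (S : Subgroup G) by rw [hSeq]; exact ⟨t, show toQ t ∈ syl from ht ▸ hts, rfl⟩)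
      (fun k g hk _ => by
        have h2 : emb e t ^ 2 ^ k = 1 := by
          obtain ⟨j, rfl⟩ := Nat.exists_eq_add_of_le' hk
          rw [← map_pow, pow_succ', pow_mul, sq, ht1, one_pow, map_one]
        rw [h2, mul_one, inv_mul_cancel]
        exact one_mem _)
      (fun g _ hgM => by
        obtain ⟨m, hm, hme⟩ := hgM
        refine hno ⟨g, ?_⟩
        have hmz : toQ m = qneg := by
          refine quat_invol _ hm ?_ fun h => ?_
          · rw [← toQ_mul, ← toQ_one]
            congr 1
            refine emb_injective e ?_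
            rw [map_mul, map_one, hme]
            rw [show g⁻¹ * emb e t * g * (g⁻¹ * emb e t * g) = g⁻¹ * (emb e t * emb e t) * g by
              group, ← map_mul, ht1, map_one, mul_one, inv_mul_cancel]
          · rw [toQ_injective (h.trans toQ_one.symm), map_one] at hme
            have h9 : emb e t = emb e 1 := by
              rw [map_one]
              calc emb e t = g * (g⁻¹ * emb e t * g) * g⁻¹ := by group
                _ = 1 := by rw [← hme, mul_one, mul_inv_cancel]
            rw [emb_injective e h9, toQ_one] at ht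
            exact absurd ht (by decide)
        rw [emb_eq_z e hz hmz] at hme
        calc g * z * g⁻¹ = g * (g⁻¹ * emb e t * g) * g⁻¹ := congrArg (fun w => g * w * g⁻¹) hme
          _ = emb e t := by group)
    rcases hN.eq_bot_or_eq_top with rfl | rfl
    · rw [Subgroup.index_bot] at hNi
      omega
    · simp at hNi
  intro g hg hg1
  by_cases hgz : toQ g = qneg
  · exact ⟨1, by rw [emb_eq_z e hz hgz, one_mul, inv_one, mul_one]⟩
  obtain ⟨r, hr, hr'⟩ := invol_conj _ (toQ_mem g) (by rw [← toQ_mul, hg, toQ_one])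
    (fun h => hg1 (toQ_injective (h.trans toQ_one.symm))) hgz
  obtain ⟨c, rfl⟩ := toQ_surj hr
  rw [← ht, ← toQ_mul, ← toQ_mul] at hr'
  obtain ⟨w, hw⟩ := htC
  refine ⟨emb e c * w, ?_⟩
  rw [show emb e c * w * z * (emb e c * w)⁻¹ = emb e c * (w * z * w⁻¹) * (emb e c)⁻¹ by group, hw,
    ← map_mul, toQ_injective hr', map_mul, mul_inv_cancel_right]

variable [Fintype G]

/-- The virtual character on the centraliser. -/
noncomputable def phi (i : Fin 5) (c : Subgroup.centralizer ({z} : Set G)) : ℂ := theta i (e c)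

/-- The induced virtual character. -/
noncomputable def ind (i : Fin 5) : G → ℂ := indFun (Subgroup.centralizer ({z} : Set G)) (phi e i)

theorem phi_gen (i : Fin 5) :
    IsGeneralizedCharacter (Subgroup.centralizer ({z} : Set G)) (phi e i) :=
  Char.isGeneralized_comp e.toMonoidHom (isGeneralized_theta i)

theorem ind_gen (i : Fin 5) : IsGeneralizedCharacter G (ind e i) :=
  Char.isGeneralized_indFun _ (phi_gen e i)

/-- A nonzero value forces a power to be the central involution. -/
theorem phi_support (hz : orderOf z = 2) {i : Fin 5} {c : Subgroup.centralizer ({z} : Set G)}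
    (h : phi e i c ≠ 0) : ∃ j : ℕ, (c : G) ^ j = z := by
  obtain ⟨j, -, hj⟩ := vf_support i _ (toQ_mem (e c)) fun h0 => h (by
    rw [phi, theta, h0, map_zero])
  refine ⟨j, ?_⟩
  rw [← toQ_pow] at hj
  have h9 := emb_eq_z e hz hj
  rw [map_pow, emb_e] at h9
  exact h9

/-- Two involutions with product among the special elements centralise `z`. -/
theorem mem_of_product (hz : orderOf z = 2) {u v : G} (hu : u * u = 1) (hv : v * v = 1) {j : ℕ}
    (hj : (u * v) ^ j = z) : u ∈ Subgroup.centralizer ({z} : Set G) := by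
  rw [Subgroup.mem_centralizer_singleton_iff]
  have h1 : u * (u * v) * u⁻¹ = (u * v)⁻¹ := by
    rw [mul_inv_rev, inv_eq_of_mul_eq_one_right hu, inv_eq_of_mul_eq_one_right hv, ← mul_assoc u u,
      hu, one_mul]
  have h2 : u * z * u⁻¹ = z⁻¹ := by rw [← hj, ← conj_pow, h1, inv_pow]
  have hz2 : z * z = 1 := z_sq hz
  rw [inv_eq_of_mul_eq_one_right hz2] at h2
  exact mul_inv_eq_iff_eq_mul.1 h2

/-- The special elements are fused inside the centraliser only. -/
theorem special_ti (hz : orderOf z = 2) {x y : G} {i j : ℕ} (hi : x ^ i = z)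
    (hj : (y⁻¹ * x * y) ^ j = z) : y ∈ Subgroup.centralizer ({z} : Set G) := by
  rw [Subgroup.mem_centralizer_singleton_iff]
  have h1 : y⁻¹ * z * y = z := by
    refine Invol.eq_of_isCyclic_of_orderOf_two (S := Subgroup.zpowers (y⁻¹ * x * y))
      inferInstance ?_ hz ?_ ?_
    · rw [show y⁻¹ * z * y = MulAut.conj y⁻¹ z by simp, MulEquiv.orderOf_eq, hz]
    · refine ⟨(i : ℤ), ?_⟩
      show (y⁻¹ * x * y) ^ (i : ℤ) = _
      rw [zpow_natCast]
      calc (y⁻¹ * x * y) ^ i = (y⁻¹ * x * (y⁻¹)⁻¹) ^ i := by rw [inv_inv]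
        _ = y⁻¹ * x ^ i * (y⁻¹)⁻¹ := conj_pow
        _ = y⁻¹ * z * y := by rw [hi, inv_inv]
    · rw [← hj]; exact Subgroup.pow_mem _ (Subgroup.mem_zpowers _) _
  calc y * z = y * (y⁻¹ * z * y) := by rw [h1]
    _ = z * y := by group

/-- On special elements the induced character agrees. -/
theorem ind_apply (hz : orderOf z = 2) (i : Fin 5) (c : Subgroup.centralizer ({z} : Set G)) {j : ℕ}
    (hj : (c : G) ^ j = z) : ind e i c = phi e i c := by
  classical
  have key : ∀ y : G, extendByZero (Subgroup.centralizer ({z} : Set G)) (phi e i) (y⁻¹ * c * y) = if y ∈ (Subgroup.centralizer ({z} : Set G)) then phi e i c else 0 := by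
    intro y
    split_ifs with hy
    · rw [Char.extendByZero_of_mem (Subgroup.centralizer ({z} : Set G)) _ (Subgroup.mul_mem (Subgroup.centralizer ({z} : Set G)) (Subgroup.mul_mem (Subgroup.centralizer ({z} : Set G)) (Subgroup.inv_mem (Subgroup.centralizer ({z} : Set G)) hy) c.2) hy)]
      refine Eq.trans (congrArg (phi e i) (Subtype.ext ?_))
        (Char.IsGen.isClassFunction (phi_gen e i) c ⟨y⁻¹, Subgroup.inv_mem (Subgroup.centralizer ({z} : Set G)) hy⟩)
      simp
    · by_contra hne
      have hm : y⁻¹ * c * y ∈ (Subgroup.centralizer ({z} : Set G)) := by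
        by_contra hm; exact hne (Char.extendByZero_of_not_mem (Subgroup.centralizer ({z} : Set G)) _ hm)
      rw [Char.extendByZero_of_mem (Subgroup.centralizer ({z} : Set G)) _ hm] at hne
      obtain ⟨k, hk⟩ := phi_support e hz hne
      exact hy (special_ti hz hj hk)
  rw [ind, Char.indFun_apply, Finset.sum_congr rfl fun y _ => key y, Finset.sum_ite,
    Finset.sum_const, Finset.sum_const_zero, add_zero, nsmul_eq_mul,
    ← Fintype.card_subtype, ← Nat.card_eq_fintype_card]
  exact inv_mul_cancel_left₀ (Nat.cast_ne_zero.2 Nat.card_pos.ne') _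

/-- Inner products of functions on the centraliser given in the model. -/
theorem inner_model (f g : Q → Z2) [Fintype (Subgroup.centralizer ({z} : Set G))] :
    classInner (fun c : Subgroup.centralizer ({z} : Set G) => toC (f (toQ (e c))))
      (fun c => toC (g (toQ (e c)))) = (48 : ℂ)⁻¹ * toC (∑ q ∈ els, f q * star (g q)) := by
  classical
  rw [classInner, Nat.card_congr e.toEquiv, card_gl23, map_sum, Nat.cast_ofNat]
  congr 1
  rw [← sum_toQ fun q => toC (f q * star (g q))]
  refine Fintype.sum_equiv e.toEquiv _ _ fun c => ?_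
  simp [toC_star]

theorem ind_inner (hz : orderOf z = 2) (i j : Fin 5) :
    classInner (ind e i) (ind e j) = (gram i j : ℂ) := by
  classical
  rw [ind, Char.classInner_indFun_left _ _ (Char.IsGen.isClassFunction (ind_gen e j))]
  have h : classInner (phi e i) (fun c => ind e j (c : G)) = classInner (phi e i) (phi e j) := by
    unfold classInner
    congr 1
    refine Finset.sum_congr rfl fun c _ => ?_
    by_cases h0 : phi e i c = 0
    · rw [h0, zero_mul, zero_mul]
    · obtain ⟨k, hk⟩ := phi_support e hz h0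
      beta_reduce
      rw [ind_apply e hz j c hk]
  rw [h]
  refine (inner_model e (vf i) (vf j)).trans ?_
  rw [vf_gram, map_intCast]
  push_cast
  ring

theorem ind_one (i : Fin 5) : classInner (ind e i) (fun _ => (1 : ℂ)) = (triv i : ℂ) := by
  classical
  rw [ind, Char.classInner_indFun_left _ _ (fun _ _ => rfl)]
  have h := inner_model e (vf i) (fun _ => 1)
  simp only [map_one, star_one, mul_one] at h
  refine h.trans ?_
  rw [vf_triv, map_intCast]
  push_cast
  ring

theorem ind_at_one (i : Fin 5) : ind e i 1 = 0 := by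
  rw [ind, Char.indFun_apply_one, phi, theta, map_one, toQ_one, vf_one, map_zero, mul_zero]

/-- The indicator of `z`. -/
theorem value_eq (hz : orderOf z = 2) (ψ : IrrCharacter G) :
    ∑ i, (coeff i : ℂ) * classInner (ind e i) (ψ : G → ℂ) = conj ((ψ : G → ℂ) z) := by
  classical
  simp only [ind, Char.classInner_indFun_left _ _ (Char.isClassFunction_of_isIrr ψ.2)]
  simp only [classInner, Nat.card_congr e.toEquiv, card_gl23, Finset.mul_sum]
  rw [Finset.sum_comm]
  obtain ⟨a, ha⟩ := toQ_surj qneg_central.1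
  have hsum : ∀ c : Subgroup.centralizer ({z} : Set G),
      ∑ i, (coeff i : ℂ) * phi e i c = if c = e.symm a then 48 else 0 := by
    intro c
    have h := congrArg toC (vf_indicator _ (toQ_mem (e c)))
    simp only [map_sum, map_mul, map_intCast] at h
    refine h.trans ?_
    by_cases hc : toQ (e c) = qneg
    · rw [if_pos hc, if_pos, map_ofNat]
      exact e.eq_symm_apply.2 (toQ_injective (hc.trans ha.symm))
    · rw [if_neg hc, if_neg, map_zero]
      intro hc'
      exact hc (by rw [hc', e.apply_symm_apply, ha])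
  have hstep : ∀ c : Subgroup.centralizer ({z} : Set G),
      ∑ i, (coeff i : ℂ) * ((↑(48 : ℕ) : ℂ)⁻¹ * (phi e i c * conj ((ψ : G → ℂ) c))) =
        (48 : ℂ)⁻¹ * ((if c = e.symm a then 48 else 0) * conj ((ψ : G → ℂ) c)) := fun c => by
    rw [← hsum, Finset.sum_mul, Finset.mul_sum]
    refine Finset.sum_congr rfl fun i _ => ?_
    push_cast
    ring
  rw [Finset.sum_congr rfl fun c _ => hstep c, Finset.sum_eq_single (e.symm a)]
  · rw [if_pos rfl, show ((e.symm a : Subgroup.centralizer ({z} : Set G)) : G) = z from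
      emb_eq_z e hz ha]
    ring
  · intro c _ hc
    rw [if_neg hc, zero_mul, mul_zero]
  · intro h
    exact absurd (Finset.mem_univ _) h

/-- The pairs of involutions. -/
theorem sum_pairs (hz : orderOf z = 2)
    (hfus : ∀ g : GL23, g * g = 1 → g ≠ 1 → ∃ w, w * z * w⁻¹ = emb e g) (i : Fin 5) :
    ∑ a : G, ind e i (a * z * a⁻¹ * z) = (48 : ℂ) * (48 * pairs i) := by
  classical
  have hcard : Nat.card (Subgroup.centralizer ({z} : Set G)) = 48 := by rw [Nat.card_congr e.toEquiv, card_gl23]
  set E := extendByZero (Subgroup.centralizer ({z} : Set G)) (phi e i) with hE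
  have hz2 : z * z = 1 := z_sq hz
  have hinv : ∀ w : G, w * z * w⁻¹ * (w * z * w⁻¹) = 1 := fun w => by
    rw [show w * z * w⁻¹ * (w * z * w⁻¹) = w * (z * z) * w⁻¹ by group, hz2, mul_one, mul_inv_cancel]
  set out := Finset.univ.filter fun g : G => g ∈ (Subgroup.centralizer ({z} : Set G)) ∧ g * g = 1 ∧ g ≠ 1 with hout
  have hfib : ∀ h : G → ℂ, (∀ w, h (w * z * w⁻¹) ≠ 0 → w * z * w⁻¹ ∈ (Subgroup.centralizer ({z} : Set G))) →
      ∑ b : G, h (b * z * b⁻¹) = (48 : ℂ) * ∑ u ∈ out, h u := by
    intro h hh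
    rw [← Finset.sum_fiberwise Finset.univ (fun b : G => b * z * b⁻¹) _, Finset.mul_sum]
    rw [← Finset.sum_subset (Finset.subset_univ out) fun u _ hu => ?_]
    · refine Finset.sum_congr rfl fun u hu => ?_
      rw [Finset.sum_congr rfl fun b hb => by rw [(Finset.mem_filter.1 hb).2],
        Finset.sum_const, nsmul_eq_mul]
      congr 1
      obtain ⟨-, hu1, hu2, hu3⟩ := Finset.mem_filter.1 hu
      obtain ⟨g, rfl⟩ := exists_emb e hu1
      obtain ⟨w, hw⟩ := hfus g (emb_injective e (by rw [map_mul, hu2, map_one]))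
        (fun h1 => hu3 (by rw [h1, map_one]))
      rw [show (48 : ℂ) = ((48 : ℕ) : ℂ) by norm_num, Nat.cast_inj, ← hcard,
        Nat.card_eq_fintype_card, Fintype.card_subtype]
      refine Finset.card_nbij' (fun b => w⁻¹ * b) (fun b => w * b) ?_ ?_
        (fun b _ => by simp) (fun b _ => by simp)
      · intro b hb
        simp only [Finset.mem_univ, true_and, Finset.coe_filter, Set.mem_ofPred_eq] at hb ⊢
        rw [Subgroup.mem_centralizer_singleton_iff]
        rw [← hw] at hb
        calc w⁻¹ * b * z = w⁻¹ * (b * z * b⁻¹) * b := by group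
          _ = z * (w⁻¹ * b) := by rw [hb]; group
      · intro b hb
        simp only [Finset.mem_univ, true_and, Finset.coe_filter, Set.mem_ofPred_eq] at hb ⊢
        rw [Subgroup.mem_centralizer_singleton_iff] at hb
        rw [← hw]
        calc w * b * z * (w * b)⁻¹ = w * (b * z) * b⁻¹ * w⁻¹ := by group
          _ = w * z * w⁻¹ := by rw [hb]; group
    · refine Finset.sum_eq_zero fun b hb => ?_
      by_contra hne0
      have h9 := hh b hne0
      rw [(Finset.mem_filter.1 hb).2] at h9
      refine hu (Finset.mem_filter.2 ⟨Finset.mem_univ _, h9, ?_, ?_⟩) <;>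
        rw [← (Finset.mem_filter.1 hb).2]
      · exact hinv b
      · intro h1
        exact z_ne hz (conj_eq_one_iff.1 h1)
  have hEne : ∀ g, E g ≠ 0 → ∃ j : ℕ, g ^ j = z := by
    intro g hg
    have hgC : g ∈ (Subgroup.centralizer ({z} : Set G)) := by
      by_contra hh
      exact hg (Char.extendByZero_of_not_mem (Subgroup.centralizer ({z} : Set G)) _ hh)
    rw [hE, Char.extendByZero_of_mem (Subgroup.centralizer ({z} : Set G)) _ hgC] at hg
    exact phi_support e hz hg
  have hmem : ∀ w y : G, E (w * z * w⁻¹ * (y * z * y⁻¹)) ≠ 0 →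
      w * z * w⁻¹ ∈ (Subgroup.centralizer ({z} : Set G)) ∧ y * z * y⁻¹ ∈ (Subgroup.centralizer ({z} : Set G)) := by
    intro w y h
    have hprod : w * z * w⁻¹ * (y * z * y⁻¹) ∈ (Subgroup.centralizer ({z} : Set G)) := by
      by_contra hh
      exact h (Char.extendByZero_of_not_mem (Subgroup.centralizer ({z} : Set G)) _ hh)
    obtain ⟨j, hj⟩ := hEne _ h
    have hu := mem_of_product hz (hinv w) (hinv y) hj
    exact ⟨hu, (Subgroup.mul_mem_cancel_left (Subgroup.centralizer ({z} : Set G)) hu).1 hprod⟩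
  have e1 : ∀ g : G, ind e i g = (48 : ℂ)⁻¹ * ∑ y : G, E (y⁻¹ * g * y) := fun g => by
    rw [ind, Char.indFun_apply, hcard, Nat.cast_ofNat]
  simp only [e1, ← Finset.mul_sum]
  rw [Finset.sum_comm]
  have e2 : ∀ y : G, ∑ a : G, E (y⁻¹ * (a * z * a⁻¹ * z) * y) =
      ∑ b : G, E (b * z * b⁻¹ * (y⁻¹ * z * y⁻¹⁻¹)) := fun y => by
    refine Fintype.sum_equiv (Equiv.mulLeft y⁻¹) _ _ fun a => ?_
    congr 1
    simp only [Equiv.coe_mulLeft]
    group
  rw [Finset.sum_congr rfl fun y _ => e2 y, Finset.sum_comm]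
  have e3 : ∀ u : G, ∑ y : G, E (u * (y⁻¹ * z * y⁻¹⁻¹)) = ∑ y : G, E (u * (y * z * y⁻¹)) :=
    fun u => Fintype.sum_equiv (Equiv.inv G) _ _ fun y => by simp
  simp only [e3]
  rw [hfib (fun u => ∑ y : G, E (u * (y * z * y⁻¹))) fun w hw => ?_]
  · have e4 : ∀ u ∈ out, ∑ y : G, E (u * (y * z * y⁻¹)) = (48 : ℂ) * ∑ v ∈ out, E (u * v) := by
      intro u hu
      obtain ⟨-, hu1, -⟩ := Finset.mem_filter.1 hu
      refine hfib (fun v => E (u * v)) fun w hw => ?_
      have : u * (w * z * w⁻¹) ∈ (Subgroup.centralizer ({z} : Set G)) := by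
        by_contra hh
        exact hw (Char.extendByZero_of_not_mem (Subgroup.centralizer ({z} : Set G)) _ hh)
      exact (Subgroup.mul_mem_cancel_left (Subgroup.centralizer ({z} : Set G)) hu1).1 this
    rw [Finset.sum_congr rfl e4, ← Finset.mul_sum, ← mul_assoc, ← mul_assoc,
      inv_mul_cancel₀ (by norm_num : (48 : ℂ) ≠ 0), one_mul]
    congr 1
    have hq : ∀ F : Q → ℂ, ∀ H : G → ℂ, (∀ g : GL23, H (emb e g) = F (toQ g)) →
        ∑ u ∈ out, H u = ∑ q ∈ invols, F q := by
      intro F H hH
      refine Finset.sum_bij (fun u hu => toQ (e ⟨u, (Finset.mem_filter.1 hu).2.1⟩))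
        ?_ ?_ ?_ ?_
      · intro u hu
        obtain ⟨-, hu1, hu2, hu3⟩ := Finset.mem_filter.1 hu
        refine Finset.mem_filter.2 ⟨toQ_mem _, ?_, fun h => hu3 ?_⟩
        · rw [← toQ_mul, ← map_mul, show (⟨u, hu1⟩ : (Subgroup.centralizer ({z} : Set G))) * ⟨u, hu1⟩ = 1 from Subtype.ext hu2,
            map_one, toQ_one]
        · exact congrArg Subtype.val (e.injective ((toQ_injective (h.trans toQ_one.symm)).trans
            (map_one e).symm))
      · intro u _ v _ h
        exact congrArg Subtype.val (e.injective (toQ_injective h))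
      · intro q hq
        obtain ⟨hq1, hq2, hq3⟩ := Finset.mem_filter.1 hq
        obtain ⟨g, rfl⟩ := toQ_surj hq1
        refine ⟨emb e g, Finset.mem_filter.2 ⟨Finset.mem_univ _, emb_mem e g, ?_, ?_⟩, ?_⟩
        · rw [← map_mul, toQ_injective ((toQ_mul g g).trans (hq2.trans toQ_one.symm)), map_one]
        · intro h
          exact hq3 (by rw [emb_injective e (h.trans (map_one (emb e)).symm), toQ_one])
        · show toQ (e ⟨emb e g, _⟩) = toQ g
          congr 1
          exact e.apply_symm_apply g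
      · intro u hu
        rw [← hH, emb_e]
    have hEg : ∀ g : GL23, E (emb e g) = toC (vf i (toQ g)) := fun g => by
      rw [hE, Char.extendByZero_of_mem (Subgroup.centralizer ({z} : Set G)) _ (emb_mem e g)]
      show toC (vf i (toQ (e (e.symm g)))) = _
      rw [e.apply_symm_apply]
    rw [hq (fun p => ∑ q ∈ invols, toC (vf i (qmul p q))) _ fun g =>
      hq (fun q => toC (vf i (qmul (toQ g) q))) _ fun k => by rw [← map_mul, hEg, toQ_mul]]
    simp only [← map_sum]
    rw [vf_pairs, map_intCast]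
    push_cast
    ring
  · obtain ⟨y, -, hy⟩ := Finset.exists_ne_zero_of_sum_ne_zero hw
    exact (hmem w y hy).1

end

/-- If a finite simple group has an involution whose centralizer is isomorphic to the general linear group GL(2, 3), then the group has order 5616 or 7920. -/
theorem result {G : Type*} [Group G] [Finite G] [IsSimpleGroup G] (t : G) (ht : orderOf t = 2) (e : Subgroup.centralizer ({t} : Set G) ≃* Matrix.GeneralLinearGroup (Fin 2) (ZMod 3)) : Nat.card G = 5616 ∨ Nat.card G = 7920 := by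
  classical
  have := Fintype.ofFinite G
  obtain ⟨h16, hfus⟩ := fusion e ht
  choose m hm _ hn using fun i => Char.IsGen.exists_mult (ind_gen e i)
  choose d hd0 hd using fun ψ : IrrCharacter G => Char.IsIrr.degree ψ.2
  set o : IrrCharacter G := ⟨fun _ => 1, Char.isIrrCharacter_one⟩ with ho
  have hmo : ∀ i, m i o = triv i := fun i => by
    exact_mod_cast (hm i o).symm.trans (ind_one e i)
  have hgram : ∀ i j, ∑ ψ, m i ψ * m j ψ = gram i j := fun i j => by
    have h := ind_inner e ht i j
    have hexp : ind e j = ∑ ψ : IrrCharacter G, (m j ψ : ℂ) • (ψ : G → ℂ) := by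
      refine (Char.classFun_expansion (Char.IsGen.isClassFunction (ind_gen e j))).trans
        (Finset.sum_congr rfl fun ψ _ => by rw [hm])
    have h2 : classInner (ind e i) (ind e j) = ((∑ ψ, m i ψ * m j ψ : ℤ) : ℂ) := by
      have key : classInner (ind e i) (ind e j) =
          ∑ ψ : IrrCharacter G, conj (m j ψ : ℂ) * classInner (ind e i) (ψ : G → ℂ) := by
        conv_lhs => rw [hexp]
        simp only [classInner, Finset.sum_apply, Pi.smul_apply, smul_eq_mul, map_sum, map_mul,
          Finset.mul_sum]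
        rw [Finset.sum_comm]
        exact Finset.sum_congr rfl fun ψ _ => Finset.sum_congr rfl fun g _ => by ring
      rw [key, Int.cast_sum]
      refine Finset.sum_congr rfl fun ψ _ => ?_
      rw [hm, map_intCast]
      push_cast
      ring
    exact_mod_cast h2.symm.trans h
  have hdeg : ∀ i, ∑ ψ, m i ψ * (d ψ : ℤ) = 0 := fun i => by
    have h := Invol.apply_eq_sum (Char.IsGen.isClassFunction (ind_gen e i)) 1
    simp only [hm, hd, ind_at_one] at h
    exact_mod_cast h
  have hval : ∀ ψ : IrrCharacter G,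
      (ψ : G → ℂ) t = (Comb.val (m 0) (m 1) (m 2) (m 3) (m 4) ψ : ℂ) := fun ψ => by
    have h := congrArg conj (value_eq e ht ψ)
    simp only [hm, Complex.conj_conj, map_sum, map_mul, map_intCast] at h
    rw [← h]
    simp [Fin.sum_univ_five, coeff, Comb.val]
  have hG0 : (Nat.card G : ℂ) ≠ 0 := Char.card_ne_zero
  have hexpand : ∀ ψ : IrrCharacter G, (ψ : G → ℂ) t ^ 2 / (ψ : G → ℂ) 1 =
      (Nat.card G : ℂ)⁻¹ * ∑ a, (ψ : G → ℂ) (a * t * a⁻¹ * t) := fun ψ => by
    have h := CharArith.classMult ψ.2 t t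
    have h1 := Char.IsIrr.one_ne_zero ψ.2
    field_simp
    linear_combination -h
  have hkey : ∀ i, (Nat.card G : ℚ) * ∑ ψ, (m i ψ : ℚ) *
      (Comb.val (m 0) (m 1) (m 2) (m 3) (m 4) ψ : ℚ) ^ 2 / ((d ψ : ℤ) : ℚ) =
        48 * (48 * pairs i) := fun i => by
    have h : (Nat.card G : ℂ) * ∑ ψ : IrrCharacter G, (m i ψ : ℂ) *
        ((ψ : G → ℂ) t ^ 2 / (ψ : G → ℂ) 1) = 48 * (48 * pairs i) := by
      rw [← sum_pairs e ht hfus i]
      simp only [hexpand, Finset.mul_sum]
      rw [Finset.sum_comm]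
      refine Finset.sum_congr rfl fun a _ => ?_
      rw [← Invol.apply_eq_sum (Char.IsGen.isClassFunction (ind_gen e i)) (a * t * a⁻¹ * t)]
      refine Finset.sum_congr rfl fun ψ _ => ?_
      rw [hm]
      field_simp
    simp only [hval, hd] at h
    simp only [mul_div_assoc]
    push_cast
    exact_mod_cast h
  have hsys : Comb.Sys o (fun ψ => (d ψ : ℤ)) (m 0) (m 1) (m 2) (m 3) (m 4) := by
    have hg := fun i j => hgram i j
    have hsq : ∀ i, ∑ ψ, m i ψ ^ 2 = gram i i := fun i => by
      rw [← hgram i i]; simp only [pow_two]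
    refine
      { pos := fun ψ => by exact_mod_cast hd0 ψ
        one := ?_
        Ao := hmo 0, Bo := hmo 1, Po := hmo 2, Qo := hmo 3, Ro := hmo 4
        AA := hsq 0, BB := hsq 1, PP := hsq 2, QQ := hsq 3, RR := hsq 4
        AB := hg 0 1, PA := hg 2 0, PB := hg 2 1, QA := hg 3 0, QB := hg 3 1
        RA := hg 4 0, RB := hg 4 1, PQ := hg 2 3, PR := hg 4 2, QR := hg 4 3
        dA := hdeg 0, dB := hdeg 1, dP := hdeg 2, dQ := hdeg 3, dR := hdeg 4 }
    have h := hd o
    simp only [ho] at h
    exact_mod_cast h.symm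
  obtain ⟨X, F, hF, hF1, hX, hXF, eP, eR⟩ := hsys.extract
  have kP := hkey 2
  have kR := hkey 4
  rw [eP] at kP
  rw [eR] at kR
  rw [show pairs 2 = 4 from rfl] at kP
  rw [show pairs 4 = 6 from rfl] at kR
  refine Comb.solve hF hF1 hX hXF h16 (kP.trans (by norm_num)) (kR.trans (by norm_num))

end Cfsg.Agent.S0197
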