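import Cfsg.Statements.S2916
import Cfsg.Agent.L33Rec.Amalgam
import Cfsg.Agent.L33Rec.Model
import Cfsg.Agent.S0197
import Cfsg.Agent.Fg24.M11.Ident
import Cfsg.Agent.Compute.MathieuActions

set_option autoImplicit false
open Cfsg

namespace Cfsg.Agent.S2916

/-- Let G be a finite group with O²(G) = G (no proper normal subgroup of 2-power index), and let t be an involution of G whose centralizer C_G(t) is isomorphic to GL₂(3). Then G is isomorphic to PSL₃(3) or to the Mathieu group M₁₁. -/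
theorem result {G : Type*} [Group G] [Finite G] (hO : Cfsg.pResidual 2 G = ⊤) (t : G) (ht : orderOf t = 2) (hC : Nonempty (↥(Subgroup.centralizer ({t} : Set G)) ≃* GL (Fin 2) (ZMod 3))) : (∃ (F : Type) (_ : Field F) (_ : Fintype F), Fintype.card F = 3 ∧ Nonempty (G ≃* Matrix.ProjectiveSpecialLinearGroup (Fin 3) F)) ∨ Cfsg.Spor.IsoM11 G := by
  obtain ⟨e⟩ := hC
  have hG2 := L33Rec.no_index_two (G := G) hO
  obtain ⟨-, hfus⟩ := L33Rec.fusion e hG2 ht
  haveI := L33Rec.isSimpleGroup e hG2 ht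
  rcases Cfsg.Agent.S0197.result t ht e with hG | hG
  · left
    haveI : Fact (Nat.Prime 3) := ⟨Nat.prime_three⟩
    refine ⟨ZMod 3, inferInstance, inferInstance, ZMod.card 3, ?_⟩
    obtain ⟨ψ, hψ⟩ := L33Rec.exists_surjective e ht hG hfus
    obtain ⟨φ, hφ⟩ := L33Rec.model_surjective
    obtain ⟨i⟩ := L33Rec.gamma_iso hG ψ hψ
    obtain ⟨j⟩ := L33Rec.gamma_iso Cfsg.Agent.L33Graph.card_L33 φ hφ
    exact ⟨i.symm.trans j⟩
  · right
    haveI := Cfsg.Agent.Compute.isSimpleGroup_m11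
    letI := Fintype.ofFinite G
    haveI : Finite Cfsg.Spor.M11 :=
      Nat.finite_of_card_ne_zero (by rw [Cfsg.Agent.Compute.card_m11]; norm_num)
    letI := Fintype.ofFinite Cfsg.Spor.M11
    exact Fg24.M11.unique_7920 (H := Cfsg.Spor.M11) hG Cfsg.Agent.Compute.card_m11

end Cfsg.Agent.S2916
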