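import Cfsg.Statements.S5166
import Cfsg.Agent.GroupSub.CodeFus
import Cfsg.Agent.Compute.M24Base
import Cfsg.Agent.GroupSub.M12Base

set_option autoImplicit false
open Cfsg

namespace Cfsg.Agent.S5166

open Cfsg.Agent.GroupSub
open Cfsg.Agent.Compute (rep24 inM24B)

open Cfsg.Agent.Compute (imgMask dodecadMask)
open scoped Pointwise

/-- Membership test for M11. -/
noncomputable def inM11B (g : ℕ) : Bool :=
  inM24B g && Nat.beq (imgMask g dodecadMask) dodecadMask && Nat.beq (rep24.act g 0) 0

theorem mem_of_check (g : ℕ) (h : inM11B g = true) : rep24.Ok g ∧ rep24.den g ∈ Cfsg.Spor.M11 := by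
  rw [inM11B, Bool.and_eq_true, Nat.beq_eq] at h
  obtain ⟨hok, hm⟩ := M12Base.mem_M12_of_check h.1
  refine ⟨hok, hm, MulAction.mem_stabilizer_iff.2 ?_⟩
  have e := rep24.act_spec g 0 hok (show 0 < rep24.n from (by decide : 0 < 24))
  rw [h.2, M12Base.pt_zero] at e
  exact e

/-- Certificate for a Sylow 2-subgroup. -/
def cert : CodeFus.Cert where
  xs := [0x7aa36284edbd510a2d2c71a621c880,
    0xbae957b6289ba44b1cd0524ac18820,
    0x2b9557b2c19ae4489d22a1aed1c100,
    0xbacea991c87c58db5130a98b218440]
  k := 2
  pc := [(4, [7, 6, 4]),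
    (0, [3, 2]),
    (1, [1]),
    (0, [])]
  z := 0xbacea991c87c58db5130a98b218440
  cols := [130, 776, 792, 1284]
  hists := [[0, 1, 1, 2],
    [0, 4, 0, 0],
    [0, 0, 0, 4],
    [4, 0, 0, 0]]
  roots := [[7], [12]]
  steps := [([0], 0xaaef6785463d1ac744692ca6820a00, 0xad2ee299419adacb45047c0e348a40),
    ([0, 1], 0xb515129a68754437dd8d391690ca00, 0x55dd688a815bd092d4903ca6663460),
    ([1, 2], 0xbd8f19a2842a9ac5b872a99f048440, 0xbd8f19a2842a9ac5b872a99f048440)]
  fin := [[3],
    [2],
    [1, 2],
    [0]]

theorem groupB_ok : cert.groupB inM11B = true := by decide +kernel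

theorem squareB_ok : cert.squareB = true := by decide +kernel

theorem centerB_ok : cert.centerB = true := by decide +kernel

theorem histB_ok : cert.histB = true := by decide +kernel

theorem closedB_ok : cert.closedB inM11B = true := by decide +kernel

/-- The 2-fusion system of the Mathieu group M₁₁ (as the explicit permutation group carved out of the automorphism group of the binary Golay code) on a Sylow 2-subgroup is simple: saturated, over a nontrivial 2-group, with no normal subsystem other than the trivial one and itself. -/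
theorem result (S : Sylow 2 Cfsg.Spor.M11) : (Cfsg.groupFusionSystem (S : Subgroup Cfsg.Spor.M11)).IsSimple 2 := by
  exact CodeFus.isSimple_of_cert Cfsg.Spor.M11 inM11B mem_of_check cert
    groupB_ok squareB_ok centerB_ok histB_ok closedB_ok (m := 495)
    (by rw [M12Base.card_m11]; decide +kernel) (by decide) S

end Cfsg.Agent.S5166
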