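import Cfsg.Statements.S2060
import Cfsg.Agent.OutMathieu.Main
import Cfsg.Agent.OutMathieu.DataM11
import Cfsg.Agent.Compute.Mathieu
import Cfsg.Agent.S5166

set_option autoImplicit false
open Cfsg

namespace Cfsg.Agent.S2060

open Cfsg.Agent.OutMathieu
open Cfsg.Agent.Compute (rep24 allBelow_eq_true)
open Cfsg.Agent.S5166 (inM11B cert)

theorem hbase : certM11.baseB inM11B = true := by decide +kernel

theorem hpow : certM11.powB inM11B = true := by decide +kernel

theorem hclass : certM11.classB 0 15 = true := by decide +kernel

theorem hz : certM11.zB inM11B cert.z = true := by decide +kernel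

theorem hsurv : certM11.survB = true := by decide +kernel

theorem hslp : rep24.slpCheck slpM11 [rep24.one, certM11.a, certM11.b]
    Compute.m12L1.gens = true := by decide +kernel

theorem hzmove : rep24.okb cert.z = true ∧
    Compute.allBelow 24 (fun i => Nat.beq (rep24.act cert.z i) i) = false := by decide +kernel

theorem hlen : certM11.orbs.length = 15 := by decide +kernel

theorem hstep : ∀ j < certM11.orbs.length, ∀ i < certM11.p, certM11.stepB j i = true := by
  intro j hj i hi
  rw [hlen] at hj
  have h := hclass
  rw [OCert.classB, allBelow_eq_true] at h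
  have h' := h j hj
  rw [allBelow_eq_true, Nat.zero_add] at h'
  exact h' i hi

/-- The outer automorphism group of M11 is trivial. -/
theorem result : Nat.card (Cfsg.Out ↥Cfsg.Spor.M11) = 1 := by
  have hle : Cfsg.Spor.M11 ≤ Cfsg.M24 := fun _ hx => hx.1.1
  have hcard := card_out_le_of_cert hle S5166.mem_of_check (gens := Compute.m12L1.gens)
    Compute.m11_eq certM11 cert slpM11 hslp S5166.groupB_ok S5166.centerB_ok hzmove hbase hpow
    hstep hz hsurv (m := 495) (by rw [Compute.card_m11]; decide +kernel) (by decide)
    (show Nat.Prime 11 by norm_num)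
    (by rw [Compute.card_m11, show certM11.p = 11 from rfl]; decide)
  exact le_antisymm (hcard.trans (le_of_eq rfl)) Nat.card_pos

end Cfsg.Agent.S2060
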