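import Cfsg.Statements.S0712

set_option autoImplicit false
open Cfsg

namespace Cfsg.Agent.S0712

/-- adding two points to multiple transitivity -/
lemma add_two {G α : Type*} [Group G] [MulAction G α] (s : Set α) [Finite s] {m : ℕ} (hsm : s.ncard = m)
    (hm : MulAction.IsMultiplyPretransitive G α m)
    (h2 : MulAction.IsMultiplyPretransitive (fixingSubgroup G s) (SubMulAction.ofFixingSubgroup G s) 2) :
    MulAction.IsMultiplyPretransitive G α (m + 2) := by
  obtain ⟨eq⟩ : Nonempty (Fin m ≃ s) := Finite.card_eq.1 (by simp [Nat.card_coe_set_eq, hsm])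
  let e : Fin m ↪ α := ⟨fun i => (eq i : α), Subtype.val_injective.comp eq.injective⟩
  have key : ∀ x : Fin (m + 2) ↪ α, ∃ g : G, (∀ i : Fin m, g • x (Fin.castAdd 2 i) = e i) ∧
      ∀ j : Fin 2, g • x (Fin.natAdd m j) ∉ s := by
    intro x
    obtain ⟨g, hg⟩ := hm.exists_smul_eq ((Fin.castAddEmb 2).trans x) e
    refine ⟨g, fun i => DFunLike.congr_fun hg i, fun j hj => ?_⟩
    obtain ⟨i, hi⟩ := eq.surjective ⟨_, hj⟩
    have h1 : g • x (Fin.castAdd 2 i) = g • x (Fin.natAdd m j) := (DFunLike.congr_fun hg i).trans (congrArg Subtype.val hi)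
    have h3 := congrArg Fin.val (x.injective (smul_left_cancel g h1))
    simp at h3
    omega
  refine ⟨fun x y => ?_⟩
  obtain ⟨gx, hx, hx'⟩ := key x
  obtain ⟨gy, hy, hy'⟩ := key y
  let u : Fin 2 ↪ SubMulAction.ofFixingSubgroup G s :=
    ⟨fun j => ⟨gx • x (Fin.natAdd m j), hx' j⟩, fun j k h => by simpa using congrArg Subtype.val h⟩
  let v : Fin 2 ↪ SubMulAction.ofFixingSubgroup G s :=
    ⟨fun j => ⟨gy • y (Fin.natAdd m j), hy' j⟩, fun j k h => by simpa using congrArg Subtype.val h⟩
  obtain ⟨h, hh⟩ := h2.exists_smul_eq u v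
  refine ⟨gy⁻¹ * (h : G) * gx, ?_⟩
  ext i
  rw [Function.Embedding.smul_apply]
  rw [mul_smul, mul_smul, inv_smul_eq_iff]
  induction i using Fin.addCases with
  | left i => rw [hx, hy]; exact (mem_fixingSubgroup_iff G).1 h.2 _ (eq i).2
  | right j => exact congrArg Subtype.val (DFunLike.congr_fun hh j)

/-- Jordan: a primitive group in which the pointwise stabiliser of a set `s` is doubly transitive on the complement of `s` (which has at least 2 points) is `(|s| + 2)`-transitive. -/
theorem result {α : Type*} [Fintype α] [DecidableEq α] (G : Subgroup (Equiv.Perm α)) (hG : MulAction.IsPreprimitive G α) (s : Set α) {m : ℕ} (hsm : s.ncard = m) (hm : m + 2 ≤ Fintype.card α) (h2 : MulAction.IsMultiplyPretransitive (fixingSubgroup G s) (SubMulAction.ofFixingSubgroup G s) 2) : MulAction.IsMultiplyPretransitive G α (m + 2) := by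
  rcases Nat.eq_zero_or_pos m with rfl | hm0
  · exact add_two s hsm MulAction.is_zero_pretransitive h2
  · obtain ⟨n, rfl⟩ : ∃ n, m = n + 1 := ⟨m - 1, by omega⟩
    have hP := hG.isMultiplyPreprimitive hsm (by rw [Nat.card_eq_fintype_card]; omega)
      (MulAction.isPreprimitive_of_is_two_pretransitive h2)
    have : MulAction.IsMultiplyPretransitive G α (n + 2) := ((MulAction.isMultiplyPreprimitive_iff _ _ _).1 hP).1
    exact add_two s hsm (MulAction.isMultiplyPretransitive_of_le (n := n + 2) (by omega) (by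
      rw [Nat.card_eq_fintype_card]; omega)) h2

end Cfsg.Agent.S0712
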