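import Cfsg.Statements.S2387
import Cfsg.Agent.MatModule.GLSemisimple

set_option autoImplicit false
open scoped MatrixGroups
open Cfsg

namespace Cfsg.Agent.S2387

open Cfsg.Agent.MatModule Polynomial

universe u

theorem card_monic {F : Type*} [Field F] [Fintype F] (n : ℕ) :
    Nat.card {f : F[X] // f.Monic ∧ f.natDegree = n + 1 ∧ f.coeff 0 ≠ 0} =
      (Fintype.card F - 1) * Fintype.card F ^ n := by
  classical
  set E := (monicEquivDegreeLT (R := F) (n + 1)).trans (degreeLTEquiv F (n + 1)).toEquiv with hE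
  have h0 : ∀ f, E f 0 = f.1.coeff 0 := by
    intro f
    show (f.1.eraseLead).coeff 0 = f.1.coeff 0
    rw [eraseLead_coeff_of_ne _ (by rw [f.2.2]; exact Nat.succ_ne_zero n |>.symm)]
  rw [Nat.card_congr (show {f : F[X] // f.Monic ∧ f.natDegree = n + 1 ∧ f.coeff 0 ≠ 0} ≃
      {c : Fin (n + 1) → F // c 0 ≠ 0} from
    ((Equiv.subtypeEquivRight fun f => and_assoc.symm).trans
      (Equiv.subtypeSubtypeEquivSubtypeInter _ (fun f : F[X] => f.coeff 0 ≠ 0)).symm).trans
      (E.subtypeEquiv fun f => by rw [h0]))]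
  rw [Nat.card_congr ((Fin.consEquiv (fun _ => F)).symm.subtypeEquiv (q := fun y => y.1 ≠ 0)
      (p := fun c : Fin (n + 1) → F => c 0 ≠ 0) fun c => Iff.rfl),
    Nat.card_congr (Equiv.prodSubtypeFstEquivSubtypeProd (p := fun a : F => a ≠ 0)),
    Nat.card_prod, Nat.card_fun, Nat.card_eq_fintype_card (α := F), Nat.card_fin,
    ← Nat.card_congr unitsEquivNeZero, Nat.card_units, Nat.card_eq_fintype_card]

/-- Every monic polynomial not divisible by `X` is the characteristic polynomial of a semisimple element. -/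
theorem exists_semisimple {F : Type u} [Field F] [Fintype F] (p : ℕ) [Fact p.Prime] [CharP F p]
    {n : ℕ} (f : F[X]) (hf : f.Monic) (hdeg : f.natDegree = n) (h0 : f.coeff 0 ≠ 0) :
    ∃ g : GL (Fin n) F, (orderOf g).Coprime p ∧ (g : Matrix (Fin n) (Fin n) F).charpoly = f := by
  classical
  set ι := ULift.{u} (UniqueFactorizationMonoid.normalizedFactors f).ToType with hι
  set s : ι → F[X] := fun i => (i.down : F[X]) with hs'
  have hmem : ∀ i, s i ∈ UniqueFactorizationMonoid.normalizedFactors f :=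
    fun i => Multiset.coe_mem
  have hirr : ∀ i, Irreducible (s i) :=
    fun i => UniqueFactorizationMonoid.irreducible_of_normalized_factor _ (hmem i)
  have hmon : ∀ i, (s i).Monic := fun i => by
    rw [← UniqueFactorizationMonoid.normalize_normalized_factor _ (hmem i)]
    exact monic_normalize (hirr i).ne_zero
  haveI : ∀ i, Module.Finite F (AdjoinRoot (s i)) := fun i => finite_adjoinRoot (s i) (hmon i)
  haveI : Module.Finite F (∀ i, AdjoinRoot (s i)) := Module.Finite.pi
  have hprod : ∏ i, s i = f := by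
    rw [← Equiv.prod_comp Equiv.ulift.symm]
    show ∏ i : (UniqueFactorizationMonoid.normalizedFactors f).ToType, (i : F[X]) = f
    rw [← Multiset.prod_eq_prod_coe, UniqueFactorizationMonoid.prod_normalizedFactors_eq hf.ne_zero,
      hf.normalize_eq_self]
  set a : ∀ i, AdjoinRoot (s i) := fun i => AdjoinRoot.root (s i) with ha
  have hunit : ∀ i, a i ≠ 0 := by
    intro i h
    have h1 : AdjoinRoot.mk (s i) X = 0 := h
    rw [AdjoinRoot.mk_eq_zero] at h1
    apply h0
    have h2 : s i ∣ f := UniqueFactorizationMonoid.dvd_of_mem_normalizedFactors (hmem i)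
    have h3 : (X : F[X]) ∣ f := ((hirr i).associated_of_dvd irreducible_X h1).symm.dvd.trans h2
    exact X_dvd_iff.1 h3
  set m := ∏ i, (Nat.card (AdjoinRoot (s i)) - 1) with hm
  haveI : ∀ i, Finite (AdjoinRoot (s i)) := fun i => Module.finite_of_finite F
  have hcop : m.Coprime p := by
    refine Nat.Coprime.prod_left fun i _ => ?_
    haveI := Fact.mk (hirr i)
    rw [Nat.coprime_comm, Nat.Prime.coprime_iff_not_dvd Fact.out]
    intro hd
    rw [Module.natCard_eq_pow_finrank (K := F)] at hd
    obtain ⟨e, -, he⟩ := FiniteField.card F p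
    have hpos : 0 < Module.finrank F (AdjoinRoot (s i)) := Module.finrank_pos
    have hdq : p ∣ Nat.card F ^ Module.finrank F (AdjoinRoot (s i)) := by
      refine dvd_trans ?_ (dvd_pow_self _ hpos.ne')
      rw [Nat.card_eq_fintype_card, he]
      exact dvd_pow_self p e.ne_zero
    have h1 := Nat.dvd_sub hdq hd
    have hone : 1 ≤ Nat.card F ^ Module.finrank F (AdjoinRoot (s i)) := Nat.one_le_pow _ _ Nat.card_pos
    rw [Nat.sub_sub_self hone] at h1
    exact (Fact.out : p.Prime).ne_one (Nat.eq_one_of_dvd_one h1)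
  have hpow : (rootMul s) ^ m = 1 := by
    have e : ∀ (k : ℕ) (v : ∀ i, AdjoinRoot (s i)), (rootMul s ^ k) v = a ^ k * v := by
      intro k
      induction k with
      | zero => intro v; simp
      | succ k ih =>
        intro v
        rw [pow_succ', Module.End.mul_apply, ih, pow_succ', mul_assoc]
        rfl
    refine LinearMap.ext fun v => ?_
    rw [e, Module.End.one_apply]
    have : a ^ m = 1 := by
      funext i
      haveI := Fact.mk (hirr i)
      haveI : Fintype (AdjoinRoot (s i)) := Fintype.ofFinite _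
      obtain ⟨c, hc⟩ := Finset.dvd_prod_of_mem (fun j => Nat.card (AdjoinRoot (s j)) - 1) (Finset.mem_univ i)
      rw [Pi.pow_apply, Pi.one_apply, hm, hc, pow_mul, Nat.card_eq_fintype_card,
        FiniteField.pow_card_sub_one_eq_one _ (hunit i), one_pow]
    rw [this, one_mul]
  have hm0 : m ≠ 0 := by
    intro h
    rw [h, Nat.coprime_zero_left] at hcop
    exact (Fact.out : p.Prime).ne_one hcop
  have hrank : Module.finrank F (∀ i, AdjoinRoot (s i)) = n := by
    rw [← LinearMap.charpoly_natDegree (rootMul s), charpoly_rootMul s hmon, hprod, hdeg]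
  set Φ : (∀ i, AdjoinRoot (s i)) ≃ₗ[F] (Fin n → F) :=
    LinearEquiv.ofFinrankEq _ _ (by rw [hrank, Module.finrank_fintype_fun_eq_card, Fintype.card_fin])
  set M := LinearMap.toMatrix' (Φ.conj (rootMul s)) with hM
  have hMpow : M ^ m = 1 := by
    have h1 : (Φ.conj (rootMul s)) ^ m = 1 := by
      have h := congrArg Φ.conjRingEquiv hpow
      rwa [map_pow, map_one] at h
    have h2 : LinearMap.toMatrixAlgEquiv' (Φ.conj (rootMul s)) ^ m = 1 := by
      rw [← map_pow, h1, map_one]
    exact h2
  set g : GL (Fin n) F := Units.ofPowEqOne M m hMpow hm0 with hg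
  refine ⟨g, hcop.coprime_dvd_left (orderOf_dvd_of_pow_eq_one (Units.ext hMpow)), ?_⟩
  show M.charpoly = f
  rw [hM, ← Matrix.charpoly_toLin', Matrix.toLin'_toMatrix', LinearEquiv.charpoly_conj,
    charpoly_rootMul s hmon, hprod]

/-- In `GL_n(q)` with `n ≥ 1`, `q` a power of the prime `p`, the number of conjugacy classes of elements of order prime to `p` (diagonalisable over the algebraic closure; determined by the characteristic polynomial) is `(q - 1) q^(n-1)`. -/
theorem result {F : Type*} [Field F] [Fintype F] {q : ℕ} (hq : Fintype.card F = q) (p : ℕ) [Fact p.Prime] [CharP F p] (n : ℕ) (hn : 1 ≤ n) :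
    Nat.card {c : ConjClasses (GL (Fin n) F) // ∃ g : GL (Fin n) F, ConjClasses.mk g = c ∧ (orderOf g).Coprime p} = (q - 1) * q ^ (n - 1) := by
  classical
  obtain ⟨n, rfl⟩ := Nat.exists_eq_add_of_le' hn
  rw [← hq, Nat.add_sub_cancel, ← card_monic n]
  have hok : ∀ g : GL (Fin (n + 1)) F, (g : Matrix (Fin (n + 1)) (Fin (n + 1)) F).charpoly.Monic ∧
      (g : Matrix (Fin (n + 1)) (Fin (n + 1)) F).charpoly.natDegree = n + 1 ∧
      (g : Matrix (Fin (n + 1)) (Fin (n + 1)) F).charpoly.coeff 0 ≠ 0 := by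
    intro g
    refine ⟨Matrix.charpoly_monic _, by rw [Matrix.charpoly_natDegree_eq_dim, Fintype.card_fin], ?_⟩
    intro h
    exact (Matrix.isUnits_det_units g).ne_zero
      (by rw [Matrix.det_eq_sign_charpoly_coeff, h, mul_zero])
  refine Nat.card_eq_of_bijective (fun c => ⟨_, hok c.2.choose⟩) ⟨?_, ?_⟩
  · intro c d h
    have h' := congrArg Subtype.val h
    obtain ⟨x, hx⟩ := exists_conj_of_matrix_charpoly_eq (p := p) _ _ c.2.choose_spec.2
      d.2.choose_spec.2 h'
    refine Subtype.ext ?_
    rw [← c.2.choose_spec.1, ← d.2.choose_spec.1]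
    exact ConjClasses.mk_eq_mk_iff_isConj.2 (isConj_iff.2 ⟨x, hx⟩)
  · rintro ⟨f, hf, hd, h0⟩
    obtain ⟨g, hg, hgf⟩ := exists_semisimple p f hf hd h0
    refine ⟨⟨ConjClasses.mk g, g, rfl, hg⟩, Subtype.ext ?_⟩
    have hs := Exists.choose_spec (show ∃ g' : GL (Fin (n + 1)) F,
      ConjClasses.mk g' = ConjClasses.mk g ∧ (orderOf g').Coprime p from ⟨g, rfl, hg⟩)
    obtain ⟨x, hx⟩ := isConj_iff.1 (ConjClasses.mk_eq_mk_iff_isConj.1 hs.1)
    show Matrix.charpoly _ = f
    have e := congrArg (fun z : GL (Fin (n + 1)) F =>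
      (z : Matrix (Fin (n + 1)) (Fin (n + 1)) F).charpoly) hx
    simp only [Units.val_mul] at e
    rw [Matrix.charpoly_mul_comm, ← mul_assoc, ← Units.val_mul, inv_mul_cancel, Units.val_one,
      one_mul] at e
    exact e.trans hgf

end Cfsg.Agent.S2387
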