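import Cfsg.Statements.S3995
import Cfsg.Agent.FrobeniusCount
import Cfsg.Agent.Fusion.UniqueInvolution
import Mathlib

set_option autoImplicit false
open Cfsg

namespace Cfsg.Agent.S3995

open Subgroup

universe u

variable {G : Type u} [Group G] [Finite G]

theorem totient_dvd (m : ℕ) : m.totient ∣ Nat.card {g : G // orderOf g = m} := by
  classical
  have := Fintype.ofFinite G
  rw [Nat.card_eq_fintype_card, Fintype.card_subtype,
    Finset.card_eq_sum_card_image (fun x : G => zpowers x)]
  refine Finset.dvd_sum fun Z hZ => ?_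
  obtain ⟨x, hx, rfl⟩ := Finset.mem_image.1 hZ
  simp only [Finset.mem_filter, Finset.mem_univ, true_and] at hx
  have hset : Nat.card {y : zpowers x // orderOf y = m} =
      ((Finset.univ.filter fun g : G => orderOf g = m).filter
        fun g => zpowers g = zpowers x).card := by
    rw [← Nat.card_eq_finsetCard]
    refine Nat.card_congr
      { toFun := fun y => ⟨y.1.1, ?_⟩
        invFun := fun y => ⟨⟨y.1, ?_⟩, ?_⟩
        left_inv := fun y => rfl
        right_inv := fun y => rfl }
    · simp only [Finset.mem_filter, Finset.mem_univ, true_and]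
      have hy : orderOf (y.1 : G) = m := by rw [Subgroup.orderOf_coe, y.2]
      exact ⟨hy, eq_of_le_of_card_ge ((zpowers_le).2 y.1.2)
        (le_of_eq (by simp only [Nat.card_zpowers, hy, hx]))⟩
    · have := y.2
      simp only [Finset.mem_filter] at this
      exact (SetLike.ext_iff.1 this.2 _).1 (mem_zpowers _)
    · have := y.2
      simp only [Finset.mem_filter] at this
      rw [← Subgroup.orderOf_coe]
      exact this.1.2
  rw [← hset, Nat.card_eq_fintype_card, Fintype.card_subtype,
    IsCyclic.card_orderOf_eq_totient (by rw [← Nat.card_eq_fintype_card, Nat.card_zpowers, hx])]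

theorem card_pow_eq_one_eq_sum (d : ℕ) (hd : d ≠ 0) :
    Nat.card {x : G // x ^ d = 1} = ∑ m ∈ d.divisors, Nat.card {g : G // orderOf g = m} := by
  classical
  have := Fintype.ofFinite G
  simp only [Nat.card_eq_fintype_card, Fintype.card_subtype]
  rw [Finset.card_eq_sum_card_fiberwise (f := fun x : G => orderOf x) (t := d.divisors)
    (fun x hx => by
      simp only [Finset.coe_filter, Set.mem_ofPred_eq, Finset.mem_univ, true_and] at hx
      exact Finset.mem_coe.2 (Nat.mem_divisors.2 ⟨orderOf_dvd_of_pow_eq_one hx, hd⟩))]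
  refine Finset.sum_congr rfl fun m hm => ?_
  rw [Finset.filter_filter]
  congr 1
  refine Finset.filter_congr fun x _ => ⟨fun h => h.2, fun h => ⟨?_, h⟩⟩
  rw [← orderOf_dvd_iff_pow_eq_one, h]
  exact (Nat.mem_divisors.1 hm).1

theorem card_prime_pow_eq_one {p : ℕ} (hp : p.Prime) :
    Nat.card {x : G // x ^ p = 1} = 1 + Nat.card {g : G // orderOf g = p} := by
  rw [card_pow_eq_one_eq_sum p hp.ne_zero, hp.divisors, Finset.sum_pair hp.one_lt.ne]
  congr 1
  simp only [orderOf_eq_one_iff]
  exact Nat.card_unique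

theorem card_four_pow_eq_one :
    Nat.card {x : G // x ^ 4 = 1} = 1 + Nat.card {g : G // orderOf g = 2} +
      Nat.card {g : G // orderOf g = 4} := by
  rw [card_pow_eq_one_eq_sum 4 (by norm_num), show (4 : ℕ).divisors = {1, 2, 4} by decide]
  rw [Finset.sum_insert (by decide), Finset.sum_pair (by decide)]
  have : Nat.card {g : G // orderOf g = 1} = 1 := by
    simp only [orderOf_eq_one_iff]
    exact Nat.card_unique
  omega

theorem exists_orderOf_of_dvd {m : ℕ} {x : G} (h : m ∣ orderOf x) : ∃ y : G, orderOf y = m :=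
  ⟨_, orderOf_pow_orderOf_div (orderOf_pos x).ne' h⟩

theorem pow_eq_one_of_no_next {p : ℕ} (hp : p.Prime) {c : ℕ}
    (hno : ∀ y : G, orderOf y ≠ p ^ (c + 1)) {x : G} {a : ℕ} (hx : x ^ (p ^ a) = 1) :
    x ^ (p ^ c) = 1 := by
  obtain ⟨i, -, hi⟩ := (Nat.dvd_prime_pow hp).1 (orderOf_dvd_of_pow_eq_one hx)
  rw [← orderOf_dvd_iff_pow_eq_one, hi]
  apply pow_dvd_pow
  by_contra hlt
  obtain ⟨y, hy⟩ := exists_orderOf_of_dvd (x := x) (m := p ^ (c + 1))
    (by rw [hi]; exact pow_dvd_pow p (by omega))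
  exact hno y hy

/-- Everything the two-value hypothesis gives. -/
structure TwoVals (G : Type u) [Group G] [Finite G] (n : ℕ) : Prop where
  ne_one : n ≠ 1
  vals : ∀ x : G, Nat.card {g : G // orderOf g = orderOf x} = 1 ∨
    Nat.card {g : G // orderOf g = orderOf x} = n
  hit : ∃ x : G, Nat.card {g : G // orderOf g = orderOf x} = n

variable {n : ℕ}

theorem TwoVals.big (h : TwoVals G n) {x : G} (hx : 3 ≤ orderOf x) :
    Nat.card {g : G // orderOf g = orderOf x} = n ∧ 2 ≤ n ∧ 2 ∣ n ∧ (orderOf x).totient ∣ n := by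
  have hev : Even (orderOf x).totient := Nat.totient_even hx
  have hpos : 0 < (orderOf x).totient := Nat.totient_pos.2 (by omega)
  have hd := totient_dvd (G := G) (orderOf x)
  rcases h.vals x with h1 | h1
  · rw [h1, Nat.dvd_one] at hd
    rw [hd] at hev
    exact absurd hev (by decide)
  · rw [h1] at hd
    have : 2 ∣ n := hev.two_dvd.trans hd
    have hn0 : n ≠ 0 := by
      rw [← h1]
      have : Nonempty {g : G // orderOf g = orderOf x} := ⟨⟨x, rfl⟩⟩
      exact Nat.card_pos.ne'
    exact ⟨h1, by omega, this, hd⟩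

theorem TwoVals.no_sq (h : TwoVals G n) {p : ℕ} (hp : p.Prime) (hodd : p ≠ 2) (y : G) :
    orderOf y ≠ p ^ 2 := by
  intro hy
  have h3 : 3 ≤ p := by have := hp.two_le; omega
  obtain ⟨w, hw⟩ := exists_orderOf_of_dvd (x := y) (m := p) (by rw [hy]; exact dvd_pow_self p two_ne_zero)
  have hNp := (h.big (x := w) (by omega)).1
  rw [hw] at hNp
  have hd := (h.big (x := y) (by rw [hy]; nlinarith)).2.2.2
  rw [hy, Nat.totient_prime_pow hp (by norm_num)] at hd
  have hpn : p ∣ n := (dvd_mul_of_dvd_left (by simp) _).trans hd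
  have hF := Cfsg.Agent.FrobeniusCount.dvd_card_pow_eq_one
    (G := G) (n := p) (hw ▸ _root_.orderOf_dvd_natCard w)
  rw [card_prime_pow_eq_one hp, hNp] at hF
  have := (Nat.dvd_add_left hpn).1 hF
  exact hp.one_lt.ne' (Nat.dvd_one.1 this)

theorem TwoVals.dvd_succ (h : TwoVals G n) {M : ℕ} (hM : M ∣ Nat.card G) (hMo : ¬ 2 ∣ M) :
    M ∣ n + 1 := by
  refine (Nat.dvd_iff_prime_pow_dvd_dvd _ _).2 fun p k hp hk => ?_
  rcases Nat.eq_zero_or_pos k with rfl | hk0
  · simp
  have hpM : p ∣ M := (dvd_pow_self p hk0.ne').trans hk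
  have hodd : p ≠ 2 := fun e => hMo (e ▸ hpM)
  have h3 : 3 ≤ p := by have := hp.two_le; omega
  have := Fact.mk hp
  obtain ⟨w, hw⟩ := exists_prime_orderOf_dvd_card' p (hpM.trans hM)
  have hNp := (h.big (x := w) (by omega)).1
  rw [hw] at hNp
  have hF := Cfsg.Agent.FrobeniusCount.dvd_card_pow_eq_one (G := G) (n := p ^ k) (hk.trans hM)
  have heq : Nat.card {x : G // x ^ (p ^ k) = 1} = Nat.card {x : G // x ^ p = 1} := by
    refine Nat.card_congr (Equiv.subtypeEquivRight fun x => ⟨fun hx => ?_, fun hx => ?_⟩)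
    · simpa using pow_eq_one_of_no_next hp (c := 1) (h.no_sq hp hodd) hx
    · obtain ⟨c, hc⟩ := dvd_pow_self p hk0.ne'
      rw [hc, pow_mul, hx, one_pow]
  rw [heq, card_prime_pow_eq_one hp, hNp, Nat.add_comm] at hF
  exact hF

theorem card_ge_of_three (h : TwoVals G n) (S : Finset ℕ)
    (hS : ∀ m ∈ S, 3 ≤ m ∧ ∃ x : G, orderOf x = m) :
    1 + Nat.card {g : G // orderOf g = 2} + S.card * n ≤ Nat.card G := by
  classical
  have := Fintype.ofFinite G
  have h1 : Nat.card {g : G // orderOf g = 1} = 1 := by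
    simp only [orderOf_eq_one_iff]
    exact Nat.card_unique
  have hnot1 : 1 ∉ insert 2 S := by
    intro hm
    rcases Finset.mem_insert.1 hm with h | h
    · omega
    · have := (hS 1 h).1; omega
  have hnot2 : 2 ∉ S := fun hm => by have := (hS 2 hm).1; omega
  have hsum : ∑ m ∈ insert 1 (insert 2 S), Nat.card {g : G // orderOf g = m} ≤ Nat.card G := by
    simp only [Nat.card_eq_fintype_card, Fintype.card_subtype]
    rw [← Finset.card_biUnion]
    · exact Finset.card_le_univ _
    · intro a _ b _ hab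
      simp only [Function.onFun]
      rw [Finset.disjoint_filter]
      intro x _ h1 h2
      exact hab (h1.symm.trans h2)
  rw [Finset.sum_insert hnot1, Finset.sum_insert hnot2, h1,
    Finset.sum_congr rfl (g := fun _ => n) (fun m hm => by
      obtain ⟨h3, x, hx⟩ := hS m hm
      subst hx
      exact (h.big h3).1), Finset.sum_const, smul_eq_mul] at hsum
  omega

theorem card_eq_of_all (h : TwoVals G n) :
    ∃ S : Finset ℕ, (∀ m, m ∈ S ↔ 3 ≤ m ∧ ∃ x : G, orderOf x = m) ∧
      Nat.card G = 1 + Nat.card {g : G // orderOf g = 2} + S.card * n := by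
  classical
  have := Fintype.ofFinite G
  refine ⟨(Finset.univ.image fun x : G => orderOf x).filter (fun m => 3 ≤ m), fun m => by
    simp [and_comm], le_antisymm ?_ (card_ge_of_three h _ fun m hm => by simp at hm; exact ⟨hm.2, hm.1⟩)⟩
  set S := (Finset.univ.image fun x : G => orderOf x).filter (fun m => 3 ≤ m) with hSdef
  have h1 : Nat.card {g : G // orderOf g = 1} = 1 := by
    simp only [orderOf_eq_one_iff]
    exact Nat.card_unique
  have hsum : Nat.card G = ∑ m ∈ insert 1 (insert 2 S), Nat.card {g : G // orderOf g = m} := by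
    simp only [Nat.card_eq_fintype_card, Fintype.card_subtype]
    refine Finset.card_eq_sum_card_fiberwise (fun x _ => ?_)
    rw [Finset.mem_coe, Finset.mem_insert, Finset.mem_insert, hSdef, Finset.mem_filter,
      Finset.mem_image]
    have := orderOf_pos x
    by_cases h3 : 3 ≤ orderOf x
    · exact Or.inr (Or.inr ⟨⟨x, Finset.mem_univ _, rfl⟩, h3⟩)
    · omega
  have hnot2 : 2 ∉ S := by simp [hSdef]
  have hnot1 : 1 ∉ insert 2 S := by simp [hSdef]
  rw [Finset.sum_insert hnot1, Finset.sum_insert hnot2, h1,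
    Finset.sum_congr rfl (g := fun _ => n) (fun m hm => by
      rw [hSdef, Finset.mem_filter, Finset.mem_image] at hm
      obtain ⟨⟨x, -, rfl⟩, h3⟩ := hm
      exact (h.big h3).1), Finset.sum_const, smul_eq_mul] at hsum
  omega

theorem case_many {z w : G} (h : TwoVals G n) (hz : orderOf z = 2) (hw : orderOf w = 2) (hne : z ≠ w) :
    IsPGroup 2 G ∧ 3 ≤ Nat.card G ∧ Monoid.exponent G = 2 := by
  have h2G : 2 ∣ Nat.card G := hz ▸ _root_.orderOf_dvd_natCard z
  have hN1 : Nat.card {g : G // orderOf g = 2} ≠ 1 := by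
    intro h1
    have := (Nat.card_eq_one_iff_unique.1 h1).1
    exact hne (congrArg Subtype.val (Subsingleton.elim (⟨z, hz⟩ : {g : G // orderOf g = 2}) ⟨w, hw⟩))
  have hN : Nat.card {g : G // orderOf g = 2} = n := by
    rcases h.vals z with h1 | h1 <;> rw [hz] at h1
    · exact absurd h1 hN1
    · exact h1
  have hF := Cfsg.Agent.FrobeniusCount.dvd_card_pow_eq_one (G := G) (n := 2) h2G
  rw [card_prime_pow_eq_one Nat.prime_two, hN] at hF
  have hle : ∀ x : G, orderOf x ≤ 2 := by
    intro x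
    by_contra hx
    have := (h.big (x := x) (by omega)).2.2.1
    omega
  have hall : ∀ x : G, x ^ 2 = 1 := by
    intro x
    have := orderOf_pos x
    have := hle x
    rw [← orderOf_dvd_iff_pow_eq_one]
    interval_cases (orderOf x) <;> decide
  refine ⟨fun x => ⟨1, by simpa using hall x⟩, ?_, ?_⟩
  · have := Fintype.ofFinite G
    classical
    rw [Nat.card_eq_fintype_card]
    have h1z : (1 : G) ≠ z := by rintro rfl; simp at hz
    have h1w : (1 : G) ≠ w := by rintro rfl; simp at hw
    calc 3 = ({1, z, w} : Finset G).card := by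
          rw [Finset.card_insert_of_notMem (by simp [h1z, h1w]), Finset.card_pair hne]
      _ ≤ _ := Finset.card_le_univ _
  · exact Nat.dvd_antisymm (Monoid.exponent_dvd_of_forall_pow_eq_one hall)
      (hz ▸ Monoid.order_dvd_exponent z)

theorem case_none (h : TwoVals G n) (hno : ∀ z : G, orderOf z ≠ 2) :
    ∃ p : ℕ, p.Prime ∧ IsPGroup p G ∧ 3 ≤ Nat.card G ∧ Monoid.exponent G = p := by
  have hGo : ¬ 2 ∣ Nat.card G := fun h2 => by
    have := Fact.mk Nat.prime_two
    obtain ⟨z, hz⟩ := exists_prime_orderOf_dvd_card' 2 h2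
    exact hno z hz
  obtain ⟨x, hx⟩ := h.hit
  have hxne : orderOf x ≠ 1 := by
    intro e
    rw [e] at hx
    simp only [orderOf_eq_one_iff] at hx
    rw [Nat.card_unique] at hx
    exact h.ne_one hx.symm
  have h3 : ∀ y : G, orderOf y ≠ 1 → 3 ≤ orderOf y := fun y hy => by
    have := orderOf_pos y
    have := hno y
    omega
  obtain ⟨p, hp, hpd⟩ := Nat.exists_prime_and_dvd hxne
  obtain ⟨w, hw⟩ := exists_orderOf_of_dvd hpd
  have hp3 : 3 ≤ p := hw ▸ h3 w (by rw [hw]; exact hp.ne_one)
  have hn2 : 2 ≤ n := (h.big (h3 x hxne)).2.1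
  have hle := Nat.le_of_dvd (by omega) (h.dvd_succ dvd_rfl hGo)
  have hN2 : Nat.card {g : G // orderOf g = 2} = 0 := by
    have : IsEmpty {g : G // orderOf g = 2} := ⟨fun g => hno g.1 g.2⟩
    exact Nat.card_of_isEmpty
  have hall : ∀ y : G, y ^ p = 1 := by
    intro y
    by_contra hy
    have hy1 : orderOf y ≠ 1 := fun e => hy (by rw [orderOf_eq_one_iff.1 e, one_pow])
    have hyp : orderOf y ≠ p := fun e => hy (e ▸ pow_orderOf_eq_one y)
    have := card_ge_of_three h {orderOf y, p} (fun m hm => by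
      rcases Finset.mem_insert.1 hm with rfl | hm
      · exact ⟨h3 y hy1, y, rfl⟩
      · rw [Finset.mem_singleton] at hm; subst hm; exact ⟨hp3, w, hw⟩)
    rw [Finset.card_pair hyp, hN2] at this
    omega
  refine ⟨p, hp, fun y => ⟨1, by simpa using hall y⟩, ?_, ?_⟩
  · exact hp3.trans (hw ▸ Nat.le_of_dvd Nat.card_pos (_root_.orderOf_dvd_natCard w))
  · exact Nat.dvd_antisymm (Monoid.exponent_dvd_of_forall_pow_eq_one hall)
      (hw ▸ Monoid.order_dvd_exponent w)

theorem prod_of_central {z : G} (hz : orderOf z = 2) (hzc : ∀ x : G, z * x = x * z)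
    {Q : Subgroup G} (hQ : ¬ 2 ∣ Nat.card Q) (hcard : Nat.card G = 2 * Nat.card Q) :
    Nonempty (G ≃* Multiplicative (ZMod 2) × Q) := by
  have hcz : Nat.card (zpowers z) = 2 := by rw [Nat.card_zpowers, hz]
  let e : Multiplicative (ZMod 2) ≃* zpowers z :=
    mulEquivOfCyclicCardEq (by simp [hcz])
  let f : Multiplicative (ZMod 2) × Q →* G :=
    MonoidHom.noncommCoprod ((zpowers z).subtype.comp e.toMonoidHom) Q.subtype (fun a x => by
      have hc : Commute z (x : G) := hzc x
      obtain ⟨k, hk⟩ := mem_zpowers_iff.1 (e a).2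
      show Commute ((e a : zpowers z) : G) (x : G)
      rw [← hk]
      exact hc.zpow_left k)
  have hinj : Function.Injective f := by
    rw [injective_iff_map_eq_one]
    rintro ⟨a, x⟩ hax
    have hax' : ((e a : zpowers z) : G) * (x : G) = 1 := hax
    have hmem : (x : G) ∈ zpowers z := by
      rw [eq_inv_of_mul_eq_one_right hax']
      exact inv_mem (e a).2
    have hd1 : orderOf (x : G) ∣ 2 := by
      have := _root_.orderOf_dvd_natCard (⟨x, hmem⟩ : zpowers z)
      rwa [hcz, Subgroup.orderOf_mk] at this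
    have hd2 : orderOf (x : G) ∣ Nat.card Q := Subgroup.orderOf_coe x ▸ _root_.orderOf_dvd_natCard x
    have hx1 : (x : G) = 1 := by
      rcases (Nat.dvd_prime Nat.prime_two).1 hd1 with h1 | h1
      · exact orderOf_eq_one_iff.1 h1
      · exact absurd (h1 ▸ hd2) hQ
    rw [hx1, mul_one] at hax'
    have ha : a = 1 := e.injective (by rw [map_one]; exact Subtype.ext hax')
    exact Prod.ext ha (Subtype.ext hx1)
  refine ⟨(MulEquiv.ofBijective f ⟨hinj, ?_⟩).symm⟩
  exact (Nat.bijective_iff_injective_and_card f).2 ⟨hinj, by simp [hcard, Nat.card_prod]⟩ |>.2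

theorem case_one_no4 {z : G} (h : TwoVals G n) (hz : orderOf z = 2)
    (huniq : ∀ w : G, orderOf w = 2 → w = z) (hno : ∀ y : G, orderOf y ≠ 4) :
    ∃ (p : ℕ) (Q : Subgroup G), p.Prime ∧ p ≠ 2 ∧ IsPGroup p Q ∧ Monoid.exponent Q = p ∧
      Nonempty (G ≃* Multiplicative (ZMod 2) × Q) := by
  have hzc : ∀ x : G, z * x = x * z := fun x => by
    have := huniq (x * z * x⁻¹) (by rw [← hz]; exact (SemiconjBy.orderOf_eq _ (by simp [SemiconjBy, mul_assoc] : SemiconjBy x z (x * z * x⁻¹))).symm)
    calc z * x = x * z * x⁻¹ * x := by rw [this]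
      _ = x * z := inv_mul_cancel_right _ _
  have hN2 : Nat.card {g : G // orderOf g = 2} = 1 := by
    rw [Nat.card_eq_one_iff_unique]
    exact ⟨⟨fun a b => Subtype.ext ((huniq a a.2).trans (huniq b b.2).symm)⟩, ⟨⟨z, hz⟩⟩⟩
  have := Fact.mk Nat.prime_two
  let S : Sylow 2 G := default
  have hS2 : Nat.card S = 2 := by
    refine le_antisymm ?_ (Nat.le_of_dvd Nat.card_pos
      (S.dvd_card_of_dvd_card (hz ▸ _root_.orderOf_dvd_natCard z)))
    refine le_of_le_of_eq ?_ ((Nat.card_zpowers z).trans hz)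
    refine card_le_of_le fun x hx => ?_
    obtain ⟨a, ha⟩ := S.isPGroup' ⟨x, hx⟩
    have hx2 : x ^ 2 = 1 := by
      simpa using pow_eq_one_of_no_next Nat.prime_two (c := 1) hno (x := x) (a := a)
        (by simpa using congrArg Subtype.val ha)
    rcases eq_or_ne x 1 with rfl | hx1
    · exact one_mem _
    · rw [huniq x (orderOf_eq_prime hx2 hx1)]; exact mem_zpowers _
  set M := (S : Subgroup G).index with hM
  have hMo : ¬ 2 ∣ M := S.not_dvd_index
  have hcard : 2 * M = Nat.card G := by rw [← hS2]; exact card_mul_index _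
  have hMn := h.dvd_succ (hcard ▸ dvd_mul_left M 2) hMo
  have hnle : M ≤ n + 1 := Nat.le_of_dvd (by omega) hMn
  obtain ⟨x, hx⟩ := h.hit
  have hM1 : M ≠ 1 := by
    intro e
    have hx2 : orderOf x ∣ 2 := by
      have := _root_.orderOf_dvd_natCard x
      rwa [← hcard, e] at this
    rcases (Nat.dvd_prime Nat.prime_two).1 hx2 with h1 | h1
    · rw [h1] at hx
      simp only [orderOf_eq_one_iff] at hx
      rw [Nat.card_unique] at hx
      exact h.ne_one hx.symm
    · rw [h1, hN2] at hx
      exact h.ne_one hx.symm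
  obtain ⟨p, hp, hpM⟩ := Nat.exists_prime_and_dvd hM1
  have := Fact.mk hp
  have hodd : p ≠ 2 := fun e => hMo (e ▸ hpM)
  have hp3 : 3 ≤ p := by have := hp.two_le; omega
  obtain ⟨w, hw⟩ := exists_prime_orderOf_dvd_card' p (hpM.trans (hcard ▸ dvd_mul_left M 2))
  have hwz : orderOf (z * w) = 2 * p := by
    rw [Commute.orderOf_mul_eq_mul_orderOf_of_coprime (hzc w)
      (by rw [hz, hw]; exact (Nat.coprime_primes Nat.prime_two hp).2 hodd.symm), hz, hw]
  have hn2 : 2 ≤ n := (h.big (x := w) (by omega)).2.1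
  have hall : ∀ y : G, 3 ≤ orderOf y → orderOf y = p ∨ orderOf y = 2 * p := by
    intro y hy
    by_contra hne
    push Not at hne
    have := card_ge_of_three h {orderOf y, p, 2 * p} (fun m hm => by
      simp only [Finset.mem_insert, Finset.mem_singleton] at hm
      rcases hm with rfl | rfl | rfl
      · exact ⟨hy, y, rfl⟩
      · exact ⟨hp3, w, hw⟩
      · exact ⟨by omega, _, hwz⟩)
    rw [Finset.card_insert_of_notMem (by simp [hne.1, hne.2]), Finset.card_pair (by omega), hN2] at this
    omega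
  obtain ⟨T, hT, hGc⟩ := card_eq_of_all h
  have hTc : T.card = 2 := by
    have : T = {p, 2 * p} := by
      ext m
      rw [hT]
      simp only [Finset.mem_insert, Finset.mem_singleton]
      constructor
      · rintro ⟨h3, y, rfl⟩; exact hall y h3
      · rintro (rfl | rfl)
        · exact ⟨hp3, w, hw⟩
        · exact ⟨by omega, _, hwz⟩
    rw [this, Finset.card_pair (by omega)]
  rw [hTc, hN2] at hGc
  let Q : Sylow p G := default
  have hQM : Nat.card Q = M := by
    have hdvd : M ∣ Nat.card Q := by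
      refine (Nat.dvd_iff_prime_pow_dvd_dvd _ _).2 fun q k hq hk => ?_
      rcases Nat.eq_zero_or_pos k with rfl | hk0
      · simp
      have hqp : q = p := by
        have := Fact.mk hq
        have hqM : q ∣ M := (dvd_pow_self q hk0.ne').trans hk
        obtain ⟨y, hy⟩ := exists_prime_orderOf_dvd_card' q (hqM.trans (hcard ▸ dvd_mul_left M 2))
        have hq2 : q ≠ 2 := fun e => hMo (e ▸ hqM)
        have := hq.two_le
        rcases hall y (by omega) with h1 | h1
        · omega
        · rw [hy] at h1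
          exact absurd (h1 ▸ dvd_mul_right 2 p : 2 ∣ q) (fun hd =>
            hq2 ((Nat.prime_dvd_prime_iff_eq Nat.prime_two hq).1 hd).symm)
      subst hqp
      exact Q.pow_dvd_card_of_pow_dvd_card (hk.trans (hcard ▸ dvd_mul_left M 2))
    refine Nat.dvd_antisymm ?_ hdvd
    have hd := (Q : Subgroup G).card_subgroup_dvd_card
    rw [← hcard] at hd
    refine (Nat.Coprime.dvd_of_dvd_mul_left ?_ hd)
    obtain ⟨a, ha⟩ := Q.isPGroup'.exists_card_eq
    rw [ha]
    exact ((Nat.coprime_primes hp Nat.prime_two).2 hodd).pow_left a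
  have hexp : ∀ y : Q, y ^ p = 1 := by
    intro y
    obtain ⟨a, ha⟩ := Q.isPGroup' y
    refine Subtype.ext ?_
    simpa using pow_eq_one_of_no_next hp (c := 1) (h.no_sq hp hodd) (x := (y : G)) (a := a)
      (by simpa using congrArg Subtype.val ha)
  refine ⟨p, Q, hp, hodd, Q.isPGroup', ?_, prod_of_central hz hzc ?_ ?_⟩
  · refine Nat.dvd_antisymm (Monoid.exponent_dvd_of_forall_pow_eq_one hexp) ?_
    obtain ⟨y, hy⟩ := exists_prime_orderOf_dvd_card' (G := Q) p (by rw [hQM]; exact hpM)
    have := Monoid.order_dvd_exponent y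
    rwa [hy] at this
  · rw [hQM]; exact hMo
  · rw [hQM]; exact hcard.symm

theorem case_one_4 {z : G} (h : TwoVals G n) (hz : orderOf z = 2)
    (huniq : ∀ w : G, orderOf w = 2 → w = z) {v : G} (hv : orderOf v = 4) :
    Nonempty (G ≃* QuaternionGroup 2) ∨ (IsCyclic G ∧ Nat.card G = 4) := by
  have hN2 : Nat.card {g : G // orderOf g = 2} = 1 := by
    rw [Nat.card_eq_one_iff_unique]
    exact ⟨⟨fun a b => Subtype.ext ((huniq a a.2).trans (huniq b b.2).symm)⟩, ⟨⟨z, hz⟩⟩⟩
  have hN4 : Nat.card {g : G // orderOf g = 4} = n := hv ▸ (h.big (x := v) (by omega)).1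
  obtain ⟨-, hn2, hne, -⟩ := h.big (x := v) (by omega)
  have h4G : 4 ∣ Nat.card G := hv ▸ _root_.orderOf_dvd_natCard v
  have hF4 := Cfsg.Agent.FrobeniusCount.dvd_card_pow_eq_one (G := G) (n := 4) h4G
  rw [card_four_pow_eq_one, hN2, hN4] at hF4
  have hno8 : ∀ y : G, orderOf y ≠ 2 ^ (2 + 1) := by
    intro y hy
    have hd := (h.big (x := y) (by rw [hy]; norm_num)).2.2.2
    rw [hy, Nat.totient_prime_pow Nat.prime_two (by norm_num)] at hd
    norm_num at hd
    omega
  have := Fact.mk Nat.prime_two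
  let S : Sylow 2 G := default
  set M := (S : Subgroup G).index with hM
  set T := Nat.card S with hTdef
  have hMo : ¬ 2 ∣ M := S.not_dvd_index
  have hcard : T * M = Nat.card G := card_mul_index _
  obtain ⟨b, hb⟩ : ∃ b, T = 2 ^ b := S.isPGroup'.exists_card_eq
  have hTF : T ∣ n + 2 := by
    have hF := Cfsg.Agent.FrobeniusCount.dvd_card_pow_eq_one (G := G) (n := T)
      (hcard ▸ dvd_mul_right T M)
    have h4T : 4 ∣ T := by
      have h4 : 4 ∣ T * M := hcard ▸ h4G
      have hc : Nat.Coprime 4 M := by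
        have := ((Nat.Prime.coprime_iff_not_dvd Nat.prime_two).2 hMo).pow_left 2
        exact this
      exact hc.dvd_of_dvd_mul_right h4
    have heq : Nat.card {x : G // x ^ T = 1} = Nat.card {x : G // x ^ 4 = 1} := by
      refine Nat.card_congr (Equiv.subtypeEquivRight fun x => ⟨fun hx => ?_, fun hx => ?_⟩)
      · rw [hb] at hx
        exact pow_eq_one_of_no_next Nat.prime_two (c := 2) hno8 hx
      · obtain ⟨c, hc⟩ := h4T
        rw [hc, pow_mul, hx, one_pow]
    rw [heq, card_four_pow_eq_one, hN2, hN4] at hF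
    rwa [show n + 2 = 1 + 1 + n by omega]
  have hsmall : ∀ y : S, orderOf y ≤ 4 := by
    intro y
    obtain ⟨a, ha⟩ := S.isPGroup' y
    have := pow_eq_one_of_no_next Nat.prime_two (c := 2) hno8 (x := (y : G)) (a := a)
      (by simpa using congrArg Subtype.val ha)
    rw [← Subgroup.orderOf_coe]
    exact Nat.le_of_dvd (by norm_num) (orderOf_dvd_of_pow_eq_one this)
  have h4le : 4 ≤ T := by
    have h4 : 4 ∣ T * M := hcard ▸ h4G
    have hc : Nat.Coprime 4 M := ((Nat.Prime.coprime_iff_not_dvd Nat.prime_two).2 hMo).pow_left 2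
    exact Nat.le_of_dvd Nat.card_pos (hc.dvd_of_dvd_mul_right h4)
  have hshape : (IsCyclic S ∧ T = 4) ∨ (Nonempty (S ≃* QuaternionGroup 2) ∧ T = 8) := by
    rcases Cfsg.Agent.Fusion.cyclic_or_quaternion S.isPGroup' (fun u u' hu hu' => by
      refine Subtype.ext ((huniq _ ?_).trans (huniq _ ?_).symm)
      · rw [Subgroup.orderOf_coe, hu]
      · rw [Subgroup.orderOf_coe, hu']) with hc | ⟨k, hk, ⟨e⟩⟩
    · obtain ⟨g, hg⟩ := hc.exists_ofOrder_eq_natCard
      have := hsmall g
      exact Or.inl ⟨hc, by omega⟩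
    · have : NeZero (2 ^ k) := ⟨by positivity⟩
      have h1 := hsmall (e.symm (QuaternionGroup.a 1))
      rw [MulEquiv.orderOf_eq, QuaternionGroup.orderOf_a_one] at h1
      have hk1 : k = 1 := by
        by_contra hk1
        have h4 : 2 ^ 2 ≤ 2 ^ k := Nat.pow_le_pow_right (by norm_num) (by omega)
        omega
      subst hk1
      refine Or.inr ⟨⟨e⟩, ?_⟩
      rw [hTdef, Nat.card_congr e.toEquiv, Nat.card_eq_fintype_card, QuaternionGroup.card]
      norm_num
  by_cases hM1 : M = 1
  · have hTop : (S : Subgroup G) = ⊤ := Subgroup.index_eq_one.1 hM1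
    let e : S ≃* G := (MulEquiv.subgroupCongr hTop).trans Subgroup.topEquiv
    rcases hshape with ⟨hc, hT⟩ | ⟨⟨q⟩, -⟩
    · exact Or.inr ⟨e.isCyclic.1 hc, by rw [← Nat.card_congr e.toEquiv]; exact hT⟩
    · exact Or.inl ⟨e.symm.trans q⟩
  exfalso
  obtain ⟨p, hp, hpM⟩ := Nat.exists_prime_and_dvd hM1
  have := Fact.mk hp
  have hodd : p ≠ 2 := fun e => hMo (e ▸ hpM)
  have hp3 : 3 ≤ p := by have := hp.two_le; omega
  have hzc : ∀ x : G, z * x = x * z := fun x => by
    have := huniq (x * z * x⁻¹) (by rw [← hz]; exact (SemiconjBy.orderOf_eq _ (by simp [SemiconjBy, mul_assoc] : SemiconjBy x z (x * z * x⁻¹))).symm)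
    calc z * x = x * z * x⁻¹ * x := by rw [this]
      _ = x * z := inv_mul_cancel_right _ _
  obtain ⟨w, hw⟩ := exists_prime_orderOf_dvd_card' p (hpM.trans (hcard ▸ dvd_mul_left M T))
  have hwz : orderOf (z * w) = 2 * p := by
    rw [Commute.orderOf_mul_eq_mul_orderOf_of_coprime (hzc w)
      (by rw [hz, hw]; exact (Nat.coprime_primes Nat.prime_two hp).2 hodd.symm), hz, hw]
  have hp4 : p ≠ 4 := fun e => by rw [e] at hp; norm_num at hp
  have hge := card_ge_of_three h {4, p, 2 * p} (fun m hm => by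
    simp only [Finset.mem_insert, Finset.mem_singleton] at hm
    rcases hm with rfl | rfl | rfl
    · exact ⟨by norm_num, v, hv⟩
    · exact ⟨hp3, w, hw⟩
    · exact ⟨by omega, _, hwz⟩)
  rw [Finset.card_insert_of_notMem (by simp only [Finset.mem_insert, Finset.mem_singleton]; omega),
    Finset.card_pair (by omega), hN2] at hge
  obtain ⟨j, hj⟩ := h.dvd_succ (hcard ▸ dvd_mul_left M T) hMo
  obtain ⟨K, hK, hGc⟩ := card_eq_of_all h
  rw [hN2] at hGc
  have hjo : ¬ 2 ∣ j := fun h2 => by
    have : 2 ∣ n + 1 := hj ▸ dvd_mul_of_dvd_right h2 M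
    omega
  have hcase : T = 4 ∨ T = 8 := by
    rcases hshape with ⟨-, h'⟩ | ⟨-, h'⟩ <;> omega
  have hKle : K.card ≤ ((Nat.card G).divisors.filter fun m => 3 ≤ m ∧ m ≠ 8).card := by
    refine Finset.card_le_card fun m hm => ?_
    obtain ⟨h3, y, rfl⟩ := (hK m).1 hm
    rw [Finset.mem_filter, Nat.mem_divisors]
    exact ⟨⟨_root_.orderOf_dvd_natCard y, Nat.card_pos.ne'⟩, h3, by simpa using hno8 y⟩
  have hM3 : 3 ≤ M := hp3.trans (Nat.le_of_dvd (Nat.pos_of_ne_zero fun e => hMo (e ▸ dvd_zero 2)) hpM)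
  by_cases hj1 : j = 1
  · subst hj1
    rw [mul_one] at hj
    rcases hcase with hT | hT <;> rw [hT] at hcard hTF
    · have hd : n ∣ 2 := by
        have h1 : n ∣ Nat.card G - 4 * n - 2 := by
          rw [hGc]
          refine ⟨K.card - 4, ?_⟩
          rw [Nat.mul_sub, mul_comm n K.card, mul_comm n 4]
          omega
        have h2 : Nat.card G - 4 * n - 2 = 2 := by omega
        rwa [h2] at h1
      have := Nat.le_of_dvd (by norm_num) hd
      have hG12 : Nat.card G = 12 := by omega
      rw [hG12, show ((12 : ℕ).divisors.filter fun m => 3 ≤ m ∧ m ≠ 8).card = 4 by decide] at hKle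
      nlinarith
    · have hd : n ∣ 6 := by
        have h1 : n ∣ Nat.card G - 8 * n - 2 := by
          rw [hGc]
          refine ⟨K.card - 8, ?_⟩
          rw [Nat.mul_sub, mul_comm n K.card, mul_comm n 8]
          omega
        have h2 : Nat.card G - 8 * n - 2 = 6 := by omega
        rwa [h2] at h1
      have := Nat.le_of_dvd (by norm_num) hd
      have hn6 : n = 6 := by omega
      have hG56 : Nat.card G = 56 := by omega
      rw [hG56, show ((56 : ℕ).divisors.filter fun m => 3 ≤ m ∧ m ≠ 8).card = 5 by decide] at hKle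
      nlinarith
  · have hj3 : 3 ≤ j := by
      rcases Nat.eq_zero_or_pos j with rfl | h0
      · omega
      · omega
    have h3M : 3 * M ≤ n + 1 := by
      calc 3 * M ≤ j * M := Nat.mul_le_mul_right M hj3
        _ = n + 1 := by rw [hj, mul_comm]
    rcases hcase with hT | hT <;> rw [hT] at hcard <;> omega


/-- Let G be a finite group such that the numbers of elements of each order that occurs in G (the numbers #{g : o(g) = m}, m ranging over the element orders of G) take exactly two values, 1 and some n ≠ 1. Then either G is a p-group of exponent p and order at least 3 for some prime p, or G is the quaternion group of order 8, or G is cyclic of order 4, or G ≅ Z₂ × P for a p-group P of exponent p with p an odd prime. -/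
theorem result {G : Type*} [Group G] [Finite G] (n : ℕ) (hn : n ≠ 1) (h : ((fun m : ℕ => Nat.card {g : G // orderOf g = m}) '' Set.range (orderOf : G → ℕ)) = {1, n}) :
    (∃ p : ℕ, p.Prime ∧ IsPGroup p G ∧ 3 ≤ Nat.card G ∧ Monoid.exponent G = p) ∨
      Nonempty (G ≃* QuaternionGroup 2) ∨ (IsCyclic G ∧ Nat.card G = 4) ∨
      (∃ (p : ℕ) (P : Type) (_ : Group P) (_ : Finite P), p.Prime ∧ p ≠ 2 ∧ IsPGroup p P ∧ Monoid.exponent P = p ∧
        Nonempty (G ≃* Multiplicative (ZMod 2) × P)) := by
  classical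
  have := Fintype.ofFinite G
  have hv : Cfsg.Agent.S3995.TwoVals G n := by
    refine ⟨hn, fun x => ?_, ?_⟩
    · have : Nat.card {g : G // orderOf g = orderOf x} ∈ ({1, n} : Set ℕ) :=
        h ▸ ⟨orderOf x, ⟨x, rfl⟩, rfl⟩
      simpa using this
    · have : n ∈ ((fun m : ℕ => Nat.card {g : G // orderOf g = m}) '' Set.range (orderOf : G → ℕ)) :=
        h ▸ Or.inr rfl
      obtain ⟨_, ⟨x, rfl⟩, hx⟩ := this
      exact ⟨x, hx⟩
  by_cases hz : ∃ z : G, orderOf z = 2
  · obtain ⟨z, hz⟩ := hz
    by_cases hu : ∀ w : G, orderOf w = 2 → w = z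
    · by_cases h4 : ∃ v : G, orderOf v = 4
      · obtain ⟨v, hv4⟩ := h4
        rcases case_one_4 hv hz hu hv4 with h' | h'
        · exact Or.inr (Or.inl h')
        · exact Or.inr (Or.inr (Or.inl h'))
      · push Not at h4
        obtain ⟨p, Q, hp, hodd, hQ, hexp, ⟨e⟩⟩ := case_one_no4 hv hz hu h4
        have : Small.{0} Q := Countable.toSmall _
        let s : Q ≃* Shrink.{0} Q := (Shrink.mulEquiv (α := Q)).symm
        refine Or.inr (Or.inr (Or.inr ⟨p, Shrink.{0} Q, inferInstance, Finite.of_equiv _ s.toEquiv,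
          hp, hodd, hQ.of_equiv s, ?_, ⟨e.trans ((MulEquiv.refl _).prodCongr s)⟩⟩))
        rw [← Monoid.exponent_eq_of_mulEquiv s, hexp]
    · push Not at hu
      obtain ⟨w, hw, hne⟩ := hu
      exact Or.inl ⟨2, Nat.prime_two, case_many hv hz hw (Ne.symm hne)⟩
  · push Not at hz
    exact Or.inl (case_none hv hz)

end Cfsg.Agent.S3995
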