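import Cfsg.Statements.S2553
import Cfsg.Agent.SubA8.Main
import Cfsg.Agent.Classical.AltEight
-- import your own Cfsg.Agent.* helpers here

set_option autoImplicit false
open Cfsg

namespace Cfsg.Agent.S2553

theorem gl_to_psl {n : ℕ} :
    Nonempty (GL (Fin n) (ZMod 2) ≃* Matrix.ProjectiveSpecialLinearGroup (Fin n) (ZMod 2)) := by
  have hu : ∀ x : (ZMod 2)ˣ, x = 1 := fun x => Units.ext (by
    have key : ∀ a : ZMod 2, a ≠ 0 → a = 1 := by decide
    exact key _ x.ne_zero)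
  let toS : GL (Fin n) (ZMod 2) →* Matrix.SpecialLinearGroup (Fin n) (ZMod 2) :=
    { toFun := fun g => ⟨g.1, by
        have := congrArg Units.val (hu (Matrix.GeneralLinearGroup.det g))
        simpa using this⟩
      map_one' := rfl
      map_mul' := fun _ _ => rfl }
  have hb : Function.Bijective toS := by
    refine ⟨fun a b h => Units.ext (congrArg Subtype.val h), fun s => ?_⟩
    exact ⟨Matrix.SpecialLinearGroup.toGL s, Subtype.ext rfl⟩
  have hz : Subgroup.center (Matrix.SpecialLinearGroup (Fin n) (ZMod 2)) = ⊥ := by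
    rw [eq_bot_iff]
    intro A hA
    obtain ⟨r, hr, hA'⟩ := Matrix.SpecialLinearGroup.mem_center_iff.mp hA
    have key : ∀ a : ZMod 2, a = 0 ∨ a = 1 := by decide
    rcases Nat.eq_zero_or_pos n with rfl | hn
    · exact Subgroup.mem_bot.mpr (Subtype.ext (Subsingleton.elim _ _))
    rcases key r with rfl | rfl
    · rw [Fintype.card_fin, zero_pow hn.ne'] at hr
      exact absurd hr zero_ne_one
    · exact Subgroup.mem_bot.mpr (Subtype.ext (by rw [← hA', map_one, Matrix.SpecialLinearGroup.coe_one]))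
  exact ⟨(MulEquiv.ofBijective toS hb).trans
    ((QuotientGroup.quotientBot).symm.trans (QuotientGroup.quotientMulEquivOfEq hz.symm))⟩


/-- Let H be a nontrivial subgroup of GL(4,2) (a group isomorphic to the alternating group of degree 8) whose largest normal 2-subgroup and largest normal subgroup of odd order are both trivial. Then H is isomorphic to an alternating group of degree n for some 5 ≤ n ≤ 8, to the symmetric group of degree 5 or 6, or to GL(3,2). -/
theorem result (H : Subgroup (GL (Fin 4) (ZMod 2))) (hH : H ≠ ⊥) (hO : Cfsg.pPrimeCore 2 ↥H = ⊥) (hO2 : Cfsg.pCore 2 ↥H = ⊥) :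
    (∃ n : ℕ, 5 ≤ n ∧ n ≤ 8 ∧ Nonempty (↥H ≃* alternatingGroup (Fin n))) ∨
    Nonempty (↥H ≃* Equiv.Perm (Fin 5)) ∨ Nonempty (↥H ≃* Equiv.Perm (Fin 6)) ∨ Nonempty (↥H ≃* GL (Fin 3) (ZMod 2)) := by
  obtain ⟨e4⟩ := gl_to_psl (n := 4)
  obtain ⟨e8⟩ := Cfsg.Agent.Classical.L34.psl_four_two (F := ZMod 2) (by simp)
  obtain ⟨e3⟩ := gl_to_psl (n := 3)
  obtain ⟨e7⟩ := Cfsg.Agent.Classical.Small.psl_seven_three (F := ZMod 7) (K := ZMod 2) (by simp) (by simp)
  let f : GL (Fin 4) (ZMod 2) →* Equiv.Perm (Fin 8) :=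
    (alternatingGroup (Fin 8)).subtype.comp (e4.trans e8).toMonoidHom
  have hf : Function.Injective f := (alternatingGroup (Fin 8)).subtype_injective.comp (e4.trans e8).injective
  let eH : H ≃* H.map f := H.equivMapOfInjective f hf
  have hrf : Cfsg.Agent.SubA8.RadFree H := Cfsg.Agent.SubA8.radFree_of_cores hO2 hO
  have hA : H.map f ≤ alternatingGroup (Fin 8) := by
    rintro _ ⟨g, -, rfl⟩
    exact ((e4.trans e8) g).2
  have hne : H.map f ≠ ⊥ := by
    rwa [Ne, Subgroup.map_eq_bot_iff_of_injective _ hf]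
  rcases Cfsg.Agent.SubA8.classify hA (hrf.of_equiv eH) hne (H.subtype.comp eH.symm.toMonoidHom)
    (H.subtype_injective.comp eH.symm.injective) with ⟨n, h5, h8, ⟨i⟩⟩ | ⟨⟨i⟩⟩ | ⟨⟨i⟩⟩ | ⟨⟨i⟩⟩
  · exact Or.inl ⟨n, h5, h8, ⟨eH.trans i⟩⟩
  · exact Or.inr (Or.inl ⟨eH.trans i⟩)
  · exact Or.inr (Or.inr (Or.inl ⟨eH.trans i⟩))
  · exact Or.inr (Or.inr (Or.inr ⟨(eH.trans i).trans (e7.trans e3.symm)⟩))

end Cfsg.Agent.S2553
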