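import Cfsg.Statements.S1011
import Cfsg.Agent.SmallOrder.Unique504
import Cfsg.Agent.Classical.SmallPSL

set_option autoImplicit false
open Cfsg

namespace Cfsg.Agent.S1011

/-- A simple group of order 504 is isomorphic to the projective special linear group of dimension 2 over the field with 8 elements. -/
theorem result {G : Type*} [Group G] [Finite G] [IsSimpleGroup G] (h : Nat.card G = 504) {F : Type*} [Field F] [Fintype F] (hF : Fintype.card F = 8) : Nonempty (G ≃* Matrix.ProjectiveSpecialLinearGroup (Fin 2) F) := by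
  classical
  have hx : ∃ x : F, x ≠ 0 ∧ x ^ 2 ≠ 1 := Classical.Small.exists_sq_ne_one (by omega)
  have hs : IsSimpleGroup (Matrix.ProjectiveSpecialLinearGroup (Fin 2) F) :=
    Classical.isSimpleGroup_psl (Or.inr ⟨by simp, hx⟩)
  have hc : Nat.card (Matrix.ProjectiveSpecialLinearGroup (Fin 2) F) = 504 := by
    have h1 := Classical.card_psl_mul (F := F) (ι := Fin 2)
    have h2 := Classical.card_sl_mul (F := F) hF 2 (by norm_num)
    rw [Fintype.card_fin, hF] at h1
    rw [Fin.prod_univ_two] at h2
    norm_num [-Nat.card_eq_fintype_card] at h1 h2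
    omega
  obtain ⟨e₁⟩ := SmallOrder.Order504.nonempty_equiv_model h
  obtain ⟨e₂⟩ := SmallOrder.Order504.nonempty_equiv_model hc
  exact ⟨e₁.trans e₂.symm⟩

end Cfsg.Agent.S1011
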