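import Cfsg.Statements.S2614
import Cfsg.Agent.Classical.OrthDiag
-- import your own Cfsg.Agent.* helpers here

set_option autoImplicit false
open Cfsg

namespace Cfsg.Agent.S2614

/-- For the form x_0² + Σ x_j y_j on F^(2m+1), F finite with q elements, q odd, and 1 ≤ i ≤ m: the involution of determinant one negating the first i hyperbolic pairs (and fixing x_0 and the other pairs) lies in Ω_(2m+1)(q) (commutator subgroup of the orthogonal group) if and only if q^i ≡ 1 (mod 4); its (−1)-eigenspace is a hyperbolic 2i-space. -/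
theorem result {F : Type*} [Field F] [Fintype F] {q : ℕ} (hF : Fintype.card F = q) (hq : Odd q) {m : ℕ} (i : ℕ) (hi : 1 ≤ i) (him : i ≤ m) : (∃ g : ↥(Cfsg.isometryGroup F (Cfsg.quadFormOdd m F)), g ∈ Cfsg.Omega F (Cfsg.quadFormOdd m F) ∧ ((g : Matrix.GeneralLinearGroup (Unit ⊕ (Fin m ⊕ Fin m)) F) : Matrix (Unit ⊕ (Fin m ⊕ Fin m)) (Unit ⊕ (Fin m ⊕ Fin m)) F) = Matrix.diagonal (fun k : Unit ⊕ (Fin m ⊕ Fin m) => if (Sum.elim (fun _ : Unit => i) (Sum.elim (fun j : Fin m => (j : ℕ)) (fun j : Fin m => (j : ℕ))) k) < i then (-1 : F) else 1)) ↔ q ^ i % 4 = 1 := by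
  open Cfsg.Agent.Classical.Quad QuadraticMap in
    have h2 : (2 : F) ≠ 0 := Ring.two_ne_zero fun h => by
      have h' := FiniteField.even_card_of_char_two h
      rw [hF] at h'
      obtain ⟨r, hr⟩ := hq
      omega
    let Q : QuadraticForm F (Unit ⊕ (Fin m ⊕ Fin m) → F) := (hyp (sqForm F) m).comp (oddCoord m).toLinearMap
    have hQe : ⇑Q = Cfsg.quadFormOdd m F := funext fun x => by simp [Q, oddCoord_map]
    have hQ : (polarBilin Q).Nondegenerate :=
      Iso.nondeg (Iso.symm ⟨oddCoord m, fun x => by simp [Q]⟩) (nondeg_hyp (nondeg_sqForm h2) m)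
    have hz : ∀ v, Q v = v (Sum.inl ()) ^ 2 + ∑ j, v (Sum.inr (Sum.inl j)) * v (Sum.inr (Sum.inr j)) :=
      fun v => congrFun hQe v
    have hp : ∀ v w, polar Q v w = (∑ j, (v (Sum.inr (Sum.inl j)) * w (Sum.inr (Sum.inr j)) +
        w (Sum.inr (Sum.inl j)) * v (Sum.inr (Sum.inr j)))) + 2 * v (Sum.inl ()) * w (Sum.inl ()) := fun v w => by
      rw [show polar Q v w = polar (hyp (sqForm F) m) (oddCoord m v) (oddCoord m w) by simp [polar, Q], polar_hyp, oddCoord_apply, oddCoord_apply]
      simp [polar, sqForm]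
      ring
    rw [← hQe, diag_neg_pairs_iff hQ h2 (fun j : Fin m => Sum.inr (Sum.inl j)) (fun j => Sum.inr (Sum.inr j))
      (fun j => by simp [hz, Pi.single_apply]) (fun j => by simp [hz, Pi.single_apply])
      (fun j => by simp [hp, Pi.single_apply])
      (fun j t h1 h2 => by
        rcases t with u | a | a <;> simp [hp, Pi.single_apply] at * <;> simp_all [eq_comm])
      (fun a b hab => ⟨fun h => hab (Sum.inl_injective (Sum.inr_injective h)),
        fun h => hab (Sum.inr_injective (Sum.inr_injective h))⟩)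
      (fun a b h => Sum.inl_ne_inr (Sum.inr_injective h)) _ (Finset.univ.filter fun j : Fin m => (j : ℕ) < i)
      (fun j hj => by simp_all) (fun t ht => by
        rcases t with u | a | a <;> refine if_neg fun h => ?_
        · exact lt_irrefl i h
        · exact (ht a (by simpa using h)).1 rfl
        · exact (ht a (by simpa using h)).2 rfl),
      card_fin_lt him, pow_mod_four_iff hF hq]

end Cfsg.Agent.S2614
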