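import Cfsg.Statements.S5515
import Cfsg.Agent.AutPOmega.Triality.OddFour
import Cfsg.Agent.Layer.FStar

set_option autoImplicit false
open Cfsg

namespace Cfsg.Agent.S5515

open Agent.AutPOmega Agent.AutPOmega.Triality

theorem perm_three_conj_aux : ∀ c : Equiv.Perm (Fin 4), c ^ 3 = 1 → c ≠ 1 →
    ∃ a, c a = a ∧ ∀ h : Equiv.Perm (Fin 4), (h * c * h⁻¹ = c ∨ h * c * h⁻¹ = c⁻¹) → h a = a := by
  decide +kernel

/-- The subgroups of order six of the symmetric group on four letters are point stabilisers. -/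
theorem exists_fix (H : Subgroup (Equiv.Perm (Fin 4))) (h6 : Nat.card H = 6) :
    ∃ a, ∀ h, h ∈ H ↔ h a = a := by
  classical
  have : Fact (Nat.Prime 3) := ⟨Nat.prime_three⟩
  obtain ⟨c, hc⟩ := exists_prime_orderOf_dvd_card' (G := H) 3 (by rw [h6]; norm_num)
  have hc3 : (c : Equiv.Perm (Fin 4)) ^ 3 = 1 := by
    rw [← Subgroup.coe_pow, ← hc, pow_orderOf_eq_one]; rfl
  have hc1 : (c : Equiv.Perm (Fin 4)) ≠ 1 := fun h => by
    rw [← Subgroup.orderOf_coe, h, orderOf_one] at hc; norm_num at hc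
  obtain ⟨a, ha, hfix⟩ := perm_three_conj_aux c hc3 hc1
  have hZ : (Subgroup.zpowers c).index = 2 := by
    have h := (Subgroup.zpowers c).card_mul_index
    rw [Nat.card_zpowers, hc, h6] at h
    omega
  have : (Subgroup.zpowers c).Normal := Subgroup.normal_of_index_eq_two hZ
  have hfixH : ∀ h : H, (h : Equiv.Perm (Fin 4)) a = a := fun h => by
    apply hfix
    have hm : h * c * h⁻¹ ∈ Subgroup.zpowers c := ‹(Subgroup.zpowers c).Normal›.conj_mem c (Subgroup.mem_zpowers c) h
    have hne : h * c * h⁻¹ ≠ 1 := fun h' => hc1 (by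
      have : c = 1 := by simpa [mul_assoc] using congrArg (fun z => h⁻¹ * z * h) h'
      rw [this]; rfl)
    obtain ⟨i, hi, hi'⟩ : ∃ i < 3, c ^ i = h * c * h⁻¹ := by
      obtain ⟨n, hn⟩ := mem_powers_iff_mem_zpowers.2 hm
      exact ⟨n % 3, Nat.mod_lt _ (by norm_num), by rw [← hc, pow_mod_orderOf]; exact hn⟩
    interval_cases i
    · exact absurd (by rw [← hi', pow_zero]) hne
    · exact Or.inl (by simpa using (congrArg Subtype.val hi').symm)
    · refine Or.inr ?_
      have h2 : c ^ 2 = c⁻¹ := eq_inv_of_mul_eq_one_left (by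
        rw [← pow_succ]; simpa [hc] using pow_orderOf_eq_one c)
      rw [h2] at hi'
      simpa using (congrArg Subtype.val hi').symm
  refine ⟨a, fun h => ⟨fun hh => hfixH ⟨h, hh⟩, fun hh => ?_⟩⟩
  have hle : H ≤ MulAction.stabilizer (Equiv.Perm (Fin 4)) a := fun x hx => hfixH ⟨x, hx⟩
  have hcard : Nat.card (MulAction.stabilizer (Equiv.Perm (Fin 4)) a) = 6 := by
    rw [Nat.card_eq_fintype_card]
    fin_cases a <;> rfl
  rw [Subgroup.eq_of_le_of_card_ge hle (by rw [hcard, h6])]
  exact hh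

theorem six_conj (H K : Subgroup (Equiv.Perm (Fin 4))) (hH : Nat.card H = 6) (hK : Nat.card K = 6) :
    ∃ g : Equiv.Perm (Fin 4), H.map (MulAut.conj g).toMonoidHom = K := by
  obtain ⟨a, ha⟩ := exists_fix H hH
  obtain ⟨b, hb⟩ := exists_fix K hK
  refine ⟨Equiv.swap a b, Subgroup.ext fun x => ?_⟩
  rw [Subgroup.mem_map_equiv, MulAut.conj_symm_apply, ha, hb, Equiv.swap_inv, Equiv.Perm.mul_apply,
    Equiv.Perm.mul_apply, Equiv.swap_apply_left]
  constructor
  · intro h
    have := congrArg (Equiv.swap a b) h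
    simpa using this
  · intro h
    rw [h, Equiv.swap_apply_right]

instance : Fact (Nat.Prime 3) := ⟨Nat.prime_three⟩

abbrev P3 := Cfsg.POmega (ZMod 3) (Cfsg.quadFormPlus 4 (ZMod 3))

/-- The outer automorphism group of POmega+(8,3) is the symmetric group on four letters. -/
theorem out_iso : Nonempty (Cfsg.Out P3 ≃* Equiv.Perm (Fin 4)) := by
  obtain ⟨e⟩ := out_odd_four (F := ZMod 3) (by rw [ZMod.card]; decide)
  have : Subsingleton (ZMod 3 ≃+* ZMod 3) := ⟨fun f g => RingEquiv.ext fun x => by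
    rw [show f x = x from RingHom.congr_fun (Subsingleton.elim (f : ZMod 3 →+* ZMod 3) (RingHom.id _)) x,
      show g x = x from RingHom.congr_fun (Subsingleton.elim (g : ZMod 3 →+* ZMod 3) (RingHom.id _)) x]⟩
  let : Unique (ZMod 3 ≃+* ZMod 3) := uniqueOfSubsingleton 1
  exact ⟨e.trans MulEquiv.prodUnique⟩

theorem conj_P3_injective : Function.Injective (MulAut.conj : P3 →* MulAut P3) := conj_injective8 (F := ZMod 3)

/-- A group of this shape is a group of automorphisms with image of order six among the outer ones. -/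
theorem embed {P : Type} [Group P] (hP : Function.Injective (MulAut.conj : P →* MulAut P)) {X : Type*} [Group X] [Finite X] [hn : (Cfsg.generalizedFittingSubgroup X).Normal]
    (e : ↥(Cfsg.generalizedFittingSubgroup X) ≃* P)
    (q : X ⧸ Cfsg.generalizedFittingSubgroup X ≃* Equiv.Perm (Fin 3)) :
    ∃ R : Subgroup (MulAut P), Cfsg.Inn P ≤ R ∧ Nonempty (X ≃* R) ∧
      Nat.card (R.map (QuotientGroup.mk' (Cfsg.Inn P))) = 6 := by
  set L := Cfsg.generalizedFittingSubgroup X with hL
  set ψ : X →* MulAut P := (MulAut.congr e).toMonoidHom.comp MulAut.conjNormal with hψ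
  have hψapp : ∀ (x : X) (l : L), ψ x (e l) = e (MulAut.conjNormal x l) := fun x l => by
    simp [hψ, MulAut.congr]
  have hin : ∀ l : L, ψ (l : X) = MulAut.conj (e l) := fun l => MulEquiv.ext fun y => by
    obtain ⟨m, rfl⟩ := e.surjective y
    rw [hψapp, MulAut.conj_apply, ← map_inv, ← map_mul, ← map_mul]
    congr 1
  have hinj : Function.Injective ψ := (injective_iff_map_eq_one _).2 fun x hx => by
    have hxC : x ∈ Subgroup.centralizer (L : Set X) := Subgroup.mem_centralizer_iff.2 fun l hl => by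
      have h1 := hψapp x ⟨l, hl⟩
      rw [hx, MulAut.one_apply] at h1
      have h2 : x * l * x⁻¹ = l := (congrArg Subtype.val (e.injective h1)).symm
      calc l * x = x * l * x⁻¹ * x := by rw [h2]
        _ = x * l := by group
    have hxL : x ∈ L := Agent.Layer.centralizer_generalizedFitting_le hxC
    have h3 := hin ⟨x, hxL⟩
    rw [show ψ ((⟨x, hxL⟩ : L) : X) = ψ x from rfl, hx] at h3
    have h4 : e ⟨x, hxL⟩ = 1 := hP (by rw [← h3, map_one])
    exact congrArg Subtype.val (e.map_eq_one_iff.1 h4)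
  have hInn : Cfsg.Inn P ≤ ψ.range := by
    rintro _ ⟨y, rfl⟩
    obtain ⟨l, rfl⟩ := e.surjective y
    exact ⟨l, hin l⟩
  refine ⟨ψ.range, hInn, ⟨MonoidHom.ofInjective hinj⟩, ?_⟩
  set π := (QuotientGroup.mk' (Cfsg.Inn P)).comp ψ with hπ
  have hker : π.ker = L := by
    ext x
    rw [MonoidHom.mem_ker, hπ, MonoidHom.comp_apply, QuotientGroup.mk'_apply, QuotientGroup.eq_one_iff]
    constructor
    · rintro ⟨y, hy⟩
      obtain ⟨l, rfl⟩ := e.surjective y
      rw [← hin l] at hy
      rw [← hinj hy]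
      exact l.2
    · intro hx
      exact ⟨e ⟨x, hx⟩, (hin ⟨x, hx⟩).symm⟩
  rw [MonoidHom.map_range, ← hπ, ← Subgroup.index_ker, hker, Subgroup.index_eq_card,
    Nat.card_congr q.toEquiv, Nat.card_eq_fintype_card, Fintype.card_perm, Fintype.card_fin]
  rfl


/-- Two groups of this shape are isomorphic. -/
theorem core {P : Type} [Group P] (hP : Function.Injective (MulAut.conj : P →* MulAut P))
    (o : Cfsg.Out P ≃* Equiv.Perm (Fin 4)) {G G' : Type*} [Group G] [Finite G] [Group G'] [Finite G']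
    [(Cfsg.generalizedFittingSubgroup G).Normal] [(Cfsg.generalizedFittingSubgroup G').Normal]
    (e : ↥(Cfsg.generalizedFittingSubgroup G) ≃* P) (e' : ↥(Cfsg.generalizedFittingSubgroup G') ≃* P)
    (q : G ⧸ Cfsg.generalizedFittingSubgroup G ≃* Equiv.Perm (Fin 3))
    (q' : G' ⧸ Cfsg.generalizedFittingSubgroup G' ≃* Equiv.Perm (Fin 3)) : Nonempty (G ≃* G') := by
  obtain ⟨R, hR, ⟨i⟩, h6⟩ := embed hP e q
  obtain ⟨R', hR', ⟨i'⟩, h6'⟩ := embed hP e' q'
  set J := R.map (QuotientGroup.mk' (Cfsg.Inn P)) with hJ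
  set J' := R'.map (QuotientGroup.mk' (Cfsg.Inn P)) with hJ'
  obtain ⟨g, hg⟩ := six_conj (J.map o.toMonoidHom) (J'.map o.toMonoidHom)
    (by rw [← h6]; exact (Nat.card_congr (o.subgroupMap J).toEquiv).symm)
    (by rw [← h6']; exact (Nat.card_congr (o.subgroupMap J').toEquiv).symm)
  obtain ⟨α, hα⟩ := QuotientGroup.mk'_surjective (Cfsg.Inn P) (o.symm g)
  have hmap : R.map (MulAut.conj α).toMonoidHom = R' := by
    have hJJ : J.map (MulAut.conj (o.symm g)).toMonoidHom = J' := by
      apply Subgroup.map_injective (f := o.toMonoidHom) o.injective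
      rw [← hg, hJ]
      simp only [Subgroup.map_map]
      refine congrArg (fun f : MulAut P →* Equiv.Perm (Fin 4) => Subgroup.map f R) (MonoidHom.ext fun x => ?_)
      simp
    have h1 : ∀ S : Subgroup (MulAut P), Cfsg.Inn P ≤ S →
        (S.map (QuotientGroup.mk' (Cfsg.Inn P))).comap (QuotientGroup.mk' (Cfsg.Inn P)) = S := fun S hS => by
      rw [Subgroup.comap_map_eq, QuotientGroup.ker_mk', sup_eq_left.2 hS]
    have h2 : Cfsg.Inn P ≤ R.map (MulAut.conj α).toMonoidHom := fun x hx => by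
      rw [Subgroup.mem_map_equiv, MulAut.conj_symm_apply]
      exact hR ((Cfsg.innNormal P).conj_mem' x hx α)
    rw [← h1 R' hR', ← h1 _ h2, ← hJ', ← hJJ, hJ, Subgroup.map_map, Subgroup.map_map]
    refine congrArg (Subgroup.comap _) (congrArg (fun f => Subgroup.map f R) ?_)
    ext x
    simp [← hα]
  exact ⟨i.trans (((MulAut.conj α).subgroupMap R).trans ((MulEquiv.subgroupCongr hmap).trans i'.symm))⟩


/-- Let G and G′ be finite groups whose generalized Fitting subgroups are isomorphic to PΩ⁺(8, 3) (the commutator subgroup of the isometry group of the hyperbolic quadratic form in dimension 8 over the field with three elements, modulo its centre) with quotients isomorphic to the symmetric group of degree 3. Then G and G′ are isomorphic. -/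
theorem result {G G' : Type*} [Group G] [Finite G] [Group G'] [Finite G'] (hF : Nonempty (↥(Cfsg.generalizedFittingSubgroup G) ≃* Cfsg.POmega (ZMod 3) (Cfsg.quadFormPlus 4 (ZMod 3)))) (hF' : Nonempty (↥(Cfsg.generalizedFittingSubgroup G') ≃* Cfsg.POmega (ZMod 3) (Cfsg.quadFormPlus 4 (ZMod 3)))) [hn : (Cfsg.generalizedFittingSubgroup G).Normal] [hn' : (Cfsg.generalizedFittingSubgroup G').Normal] (hq : Nonempty (G ⧸ Cfsg.generalizedFittingSubgroup G ≃* Equiv.Perm (Fin 3))) (hq' : Nonempty (G' ⧸ Cfsg.generalizedFittingSubgroup G' ≃* Equiv.Perm (Fin 3))) : Nonempty (G ≃* G') := by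
  obtain ⟨e⟩ := hF
  obtain ⟨e'⟩ := hF'
  obtain ⟨q⟩ := hq
  obtain ⟨q'⟩ := hq'
  obtain ⟨o⟩ := out_iso
  exact core conj_P3_injective o e e' q q'

end Cfsg.Agent.S5515
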