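import Cfsg.Statements.S3300
import Cfsg.Agent.Extra2.Key

set_option autoImplicit false
open Cfsg

namespace Cfsg.Agent.S3300

/-- Let G be a finite group with no nontrivial 2-group quotient (O^2(G) = G), z an involution of G with H = C_G(z), and suppose E = O_2(H) is extraspecial with C_G(E) ≤ E and of order 2^(2n+1) with n ≥ 3. If H has a normal subgroup of index 2, then z is conjugate in G to an element of E other than z. -/
theorem result {G : Type*} [Group G] [Finite G] (hres : Cfsg.pResidual 2 G = ⊤) (z : G) (hz : orderOf z = 2)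
    (E : Subgroup G) (hE : E = (Cfsg.pCore 2 ↥(Subgroup.centralizer ({z} : Set G))).map (Subgroup.centralizer ({z} : Set G)).subtype)
    (hext : Cfsg.IsExtraspecial 2 ↥E) (hcent : Subgroup.centralizer (E : Set G) ≤ E) (n : ℕ) (hn : 3 ≤ n) (hcard : Nat.card ↥E = 2 ^ (2 * n + 1))
    (K : Subgroup G) (hKH : K ≤ Subgroup.centralizer ({z} : Set G))
    (hKn : ∀ h ∈ Subgroup.centralizer ({z} : Set G), K.map (MulAut.conj h).toMonoidHom = K)
    (hKi : K.relIndex (Subgroup.centralizer ({z} : Set G)) = 2) :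
    ∃ g : G, g * z * g⁻¹ ∈ E ∧ g * z * g⁻¹ ≠ z := by
  classical
  have d := Extra2.data_of_pCore z hz E hE hext hcent
  have hE32 : ¬ Nat.card E ≤ 32 := by
    have : 2 ^ 7 ≤ Nat.card E := hcard ▸ Nat.pow_le_pow_right (by norm_num) (by omega)
    omega
  by_contra hne
  push Not at hne
  set φ : Subgroup.centralizer ({z} : Set G) →* Multiplicative (ZMod 2) :=
    MonoidHom.mk' (fun h => if (h : G) ∈ K then 1 else Multiplicative.ofAdd (1 : ZMod 2))
      (fun a b => by
        have h := Subgroup.mul_mem_iff_of_index_two (H := K.subgroupOf _) hKi (a := a) (b := b)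
        simp only [Subgroup.mem_subgroupOf, Subgroup.coe_mul] at h
        by_cases ha : (a : G) ∈ K <;> by_cases hb : (b : G) ∈ K <;> simp [ha, hb, h] <;> decide)
    with hφ
  have hA : ∀ a : Multiplicative (ZMod 2), a * a = 1 := by decide
  have htwo : ∀ h, (∃ k, orderOf h = 2 ^ k) → φ h = 1 := by
    intro h hh
    refine d.char_eq_one hres hA φ ?_ ?_ h hh
    · intro g hwz hwH e he hcov x _ _ _
      refine absurd (hne g (d.mem_of_index_two (Subgroup.mem_centralizer_singleton_iff.mpr hwH) ?_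
        he hcov)) hwz
      rw [show g * z * g⁻¹ * (g * z * g⁻¹) = g * (z * z) * g⁻¹ by group, d.z2]
      group
    · intro g hwz hwH e₁ he₁ e₂ he₂ hcov hzg
      obtain ⟨a, ha, b, hb, haw, hbw, hab⟩ : ∃ a ∈ E, ∃ b ∈ E,
          a * (g * z * g⁻¹) = g * z * g⁻¹ * a ∧ b * (g * z * g⁻¹) = g * z * g⁻¹ * b ∧
            a * b ≠ b * a := by
        by_contra hc
        push Not at hc
        exact hE32 (d.card_le_of_abelian he₁ he₂ hcov hc)
      have hconj : ∀ x : G, x * (g * z * g⁻¹) = g * z * g⁻¹ * x →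
          g⁻¹ * x * g ∈ Subgroup.centralizer ({z} : Set G) := fun x hx => by
        rw [Subgroup.mem_centralizer_singleton_iff]
        calc g⁻¹ * x * g * z = g⁻¹ * (x * (g * z * g⁻¹)) * g := by group
          _ = g⁻¹ * (g * z * g⁻¹ * x) * g := by rw [hx]
          _ = z * (g⁻¹ * x * g) := by group
      have he : (⟨_, hzg⟩ : Subgroup.centralizer ({z} : Set G)) =
          ⟨_, hconj a haw⟩ * ⟨_, hconj b hbw⟩ * (⟨_, hconj a haw⟩)⁻¹ * (⟨_, hconj b hbw⟩)⁻¹ := by
        refine Subtype.ext ?_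
        show g⁻¹ * z * g = g⁻¹ * a * g * (g⁻¹ * b * g) * (g⁻¹ * a * g)⁻¹ * (g⁻¹ * b * g)⁻¹
        calc g⁻¹ * z * g = g⁻¹ * ((z * (b * a)) * (a⁻¹ * b⁻¹)) * g := by group
          _ = g⁻¹ * ((a * b) * (a⁻¹ * b⁻¹)) * g := by rw [← d.anti ha hb hab]
          _ = _ := by group
      rw [he, map_mul, map_mul, map_mul, map_inv, map_inv, mul_right_comm (φ _) (φ _) (φ _)⁻¹,
        mul_inv_cancel, one_mul, mul_inv_cancel]
  obtain ⟨h, hh⟩ : ∃ h : Subgroup.centralizer ({z} : Set G), (h : G) ∉ K := by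
    by_contra hc
    push Not at hc
    have : K.subgroupOf (Subgroup.centralizer ({z} : Set G)) = ⊤ :=
      Subgroup.subgroupOf_eq_top.mpr fun x hx => hc ⟨x, hx⟩
    rw [Subgroup.relIndex, this, Subgroup.index_top] at hKi
    exact absurd hKi (by norm_num)
  have : Fact (Nat.Prime 2) := ⟨Nat.prime_two⟩
  obtain ⟨a, b, hab, -, -, -, ⟨k, hk⟩, hb⟩ :=
    Fusion.exists_pPart_mul (p := 2) h (isOfFinOrder_of_finite h)
  obtain ⟨j, -, hj⟩ := (Nat.dvd_prime_pow Nat.prime_two).mp hk
  have h1 : φ h = 1 := by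
    rw [hab, map_mul, htwo a ⟨j, hj⟩, one_mul, ← orderOf_eq_one_iff]
    have h2 : orderOf (φ b) ∣ 2 :=
      orderOf_dvd_of_pow_eq_one (by rw [pow_two, hA])
    exact Nat.dvd_one.mp (hb ▸ Nat.dvd_gcd (orderOf_map_dvd φ b) h2)
  simp [hφ, hh] at h1

end Cfsg.Agent.S3300
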