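import Cfsg.Statements.S2279
import Cfsg.Agent.RegGen.PairGen

set_option autoImplicit false
open Cfsg

namespace Cfsg.Agent.S2279

open Polynomial in
theorem sep_of {F : Type*} [Field F] {d : ℕ} (hd : 2 ≤ d) (a : F)
    (h : ∀ z : AlgebraicClosure F, z ≠ 0 → (d : AlgebraicClosure F) * z + algebraMap F _ a * ((d : AlgebraicClosure F) - 1) = 0 →
      z ^ (d - 1) * (z + algebraMap F _ a) + (-1) ^ d = 0 → False) :
    (X ^ d + Polynomial.C a * X ^ (d - 1) + Polynomial.C ((-1) ^ d) : F[X]).Separable := by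
  classical
  set f : F[X] := X ^ d + Polynomial.C a * X ^ (d - 1) + Polynomial.C ((-1) ^ d) with hf
  rw [Polynomial.separable_def, ← EuclideanDomain.gcd_isUnit_iff]
  by_contra hu
  rw [Polynomial.isUnit_iff_degree_eq_zero] at hu
  obtain ⟨z, hz⟩ := IsAlgClosed.exists_aeval_eq_zero (AlgebraicClosure F) _ hu
  have hz1 : aeval z f = 0 := by
    obtain ⟨k, hk⟩ := EuclideanDomain.gcd_dvd_left f (derivative f)
    rw [hk, map_mul, hz, zero_mul]
  have hz2 : aeval z (derivative f) = 0 := by
    obtain ⟨k, hk⟩ := EuclideanDomain.gcd_dvd_right f (derivative f)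
    rw [hk, map_mul, hz, zero_mul]
  obtain ⟨e, rfl⟩ : ∃ e, d = e + 2 := ⟨d - 2, by omega⟩
  simp only [hf, derivative_add, derivative_C] at hz1 hz2
  simp only [derivative_mul, derivative_C, derivative_X_pow, map_add, map_mul, map_pow,
    aeval_C, aeval_X, map_zero, zero_mul, zero_add, add_zero, map_natCast, show e + 2 - 1 = e + 1 by omega,
    show e + 1 - 1 = e by omega] at hz1 hz2
  push_cast at hz1 hz2
  have hz0 : z ≠ 0 := by
    intro h0
    rw [h0] at hz1
    simp at hz1
  refine h z hz0 ?_ ?_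
  · refine (mul_eq_zero.1 (?_ : z ^ e * _ = 0)).resolve_left (pow_ne_zero _ hz0)
    push_cast
    linear_combination hz2
  · rw [show e + 2 - 1 = e + 1 by omega]
    linear_combination hz1

/-- A coefficient making `X^d + a X^(d-1) + (-1)^d` separable and nonzero at `1`. -/
theorem exists_coeff {F : Type*} [Field F] {d : ℕ} (hd : 2 ≤ d) (t : F) (ht : t ≠ 0) :
    ∃ a : F, (Polynomial.X ^ d + Polynomial.C a * Polynomial.X ^ (d - 1) + Polynomial.C ((-1) ^ d) : Polynomial F).Separable ∧
      1 + a + (-1) ^ d ≠ 0 ∧ (t ^ 2 ≠ 4 → a + 2 ≠ 0) := by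
  have inj := (algebraMap F (AlgebraicClosure F)).injective
  have cast0 : (d : F) = 0 ↔ (d : AlgebraicClosure F) = 0 := by
    rw [← map_natCast (algebraMap F (AlgebraicClosure F)), map_eq_zero_iff _ inj]
  rcases Nat.even_or_odd d with hev | hod
  · by_cases h0 : (d : F) = 0
    · refine ⟨-1, sep_of hd _ fun z hz h1 h2 => ?_, by rw [hev.neg_one_pow]; norm_num, fun _ => by norm_num⟩
      rw [cast0.1 h0, map_neg, map_one] at h1
      norm_num at h1
    · have h2 : (2 : F) ≠ 0 := fun h => h0 (by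
        obtain ⟨k, rfl⟩ := hev
        rw [Nat.cast_add, ← two_mul, h, zero_mul])
      refine ⟨0, sep_of hd _ fun z hz h1 h3 => ?_, by rw [hev.neg_one_pow, add_zero]; norm_num [h2], fun _ => by simpa using h2⟩
      rw [map_zero, zero_mul, add_zero, mul_eq_zero] at h1
      exact h1.elim (fun h => h0 (cast0.2 h)) hz
  · have hgood : ∀ a : F, a ^ 2 = t ^ 2 → 1 + a + (-1) ^ d ≠ 0 ∧ (t ^ 2 ≠ 4 → a + 2 ≠ 0) := by
      intro a ha
      refine ⟨?_, fun h4 h => ?_⟩
      · rw [hod.neg_one_pow]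
        intro h
        have : a = 0 := by linear_combination h
        rw [this, zero_pow (by norm_num), eq_comm] at ha
        exact ht (pow_eq_zero_iff (by norm_num) |>.1 ha)
      · refine h4 ?_
        rw [← ha, show a = -2 by linear_combination h]
        ring
    by_contra hno
    push_neg at hno
    have hbad : ∀ a : F, a ^ 2 = t ^ 2 → ∃ z : AlgebraicClosure F, z ≠ 0 ∧
        (d : AlgebraicClosure F) * z + algebraMap F _ a * ((d : AlgebraicClosure F) - 1) = 0 ∧
        z ^ (d - 1) * (z + algebraMap F _ a) + (-1) ^ d = 0 := by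
      intro a ha
      by_contra hh
      push_neg at hh
      obtain ⟨h1, h2⟩ := hno a (sep_of hd a fun z hz e1 e2 => hh z hz e1 e2) (hgood a ha).1
      exact (hgood a ha).2 h1 h2
    obtain ⟨z, hz, e1, e2⟩ := hbad t rfl
    obtain ⟨w, hw, f1, f2⟩ := hbad (-t) (by ring)
    have hd0 : (d : AlgebraicClosure F) ≠ 0 := by
      intro h
      rw [h] at e1
      simp at e1
      exact ht e1
    rw [map_neg] at f1 f2
    have hwz : w = -z := by
      have : (d : AlgebraicClosure F) * (w + z) = 0 := by linear_combination e1 + f1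
      exact eq_neg_of_add_eq_zero_left ((mul_eq_zero.1 this).resolve_left hd0)
    have hev : Even (d - 1) := by obtain ⟨k, rfl⟩ := hod; exact ⟨k, by omega⟩
    rw [hwz, hev.neg_pow] at f2
    rw [hod.neg_one_pow] at e2 f2
    have h2 : (2 : AlgebraicClosure F) = 0 := by linear_combination -e2 - f2
    obtain ⟨k, rfl⟩ := hod
    have h3 : ((2 * k + 1 : ℕ) : AlgebraicClosure F) = 1 := by push_cast; rw [h2]; ring
    rw [h3] at e1
    simp at e1
    exact hz e1

/-- Two regular unipotent elements generate; over a prime field they can be taken conjugate. -/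
theorem two_generate {F : Type*} [Field F] [Fintype F] (d : ℕ) (hd : 2 ≤ d) :
    (∃ u : Matrix.SpecialLinearGroup (Fin (d + 2)) F,
      (IsNilpotent (u.1 - 1) ∧ (u.1 - 1) ^ (d + 2 - 1) ≠ 0) ∧
      Subgroup.closure ({u, Cfsg.Agent.RegGen.lowU (d + 2) F} : Set (Matrix.SpecialLinearGroup (Fin (d + 2)) F)) = ⊤) ∧
    ((Fintype.card F).Prime → ∃ u g : Matrix.SpecialLinearGroup (Fin (d + 2)) F,
      (IsNilpotent (u.1 - 1) ∧ (u.1 - 1) ^ (d + 2 - 1) ≠ 0) ∧
      Subgroup.closure ({u, g * u * g⁻¹} : Set (Matrix.SpecialLinearGroup (Fin (d + 2)) F)) = ⊤) := by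
  classical
  open Cfsg.Agent.RegGen in
  have hprime : (Fintype.card F).Prime → ∃ u g : Matrix.SpecialLinearGroup (Fin (d + 2)) F,
      (IsNilpotent (u.1 - 1) ∧ (u.1 - 1) ^ (d + 2 - 1) ≠ 0) ∧ g * u * g⁻¹ = lowU (d + 2) F ∧
      Subgroup.closure ({u, g * u * g⁻¹} : Set (Matrix.SpecialLinearGroup (Fin (d + 2)) F)) = ⊤ := by
    intro hp
    obtain ⟨a, hsep, h1, -⟩ := exists_coeff hd (1 : F) one_ne_zero
    obtain ⟨hS, N, hN, hNF⟩ := exists_data hd a hsep h1
    have hs := sA_last hd a
    set c := esign d F with hc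
    have hc0 : c ≠ 0 := fun h => by
      have := esign_sq (d := d) (F := F)
      rw [← hc, h, mul_zero] at this
      exact zero_ne_one this
    obtain ⟨g, hg⟩ := exists_conj (sA d a) c hd hs hc
    refine ⟨pairU (sA d a) c hd hs, g, ⟨isNilpotent_pairU _ _ hd hs, pairU_pow_ne _ _ hd hs hc0⟩, hg, ?_⟩
    rw [hg]
    refine pair_generates (sA d a) c hd hs hS hN hNF ?_ _ (Subgroup.subset_closure (by simp))
      (Subgroup.subset_closure (by simp))
    intro A hA _
    haveI : Fact (Nat.card F).Prime := ⟨by rw [Nat.card_eq_fintype_card]; exact hp⟩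
    refine (A.eq_bot_or_eq_top_of_prime_card).resolve_left fun h => ?_
    rw [h, AddSubgroup.mem_bot] at hA
    exact mul_ne_zero (pow_ne_zero _ (neg_ne_zero.2 one_ne_zero)) (mul_ne_zero hc0 hc0) hA
  refine ⟨?_, fun hp => by obtain ⟨u, g, h1, -, h2⟩ := hprime hp; exact ⟨u, g, h1, h2⟩⟩
  by_cases hp : (Fintype.card F).Prime
  · obtain ⟨u, g, h1, h2, h3⟩ := hprime hp
    exact ⟨u, h1, h2 ▸ h3⟩
  open Cfsg.Agent.RegGen in
  have h4 : 4 ≤ Fintype.card F := by
    have h2 := Fintype.one_lt_card (α := F)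
    by_contra h
    have : Fintype.card F = 2 ∨ Fintype.card F = 3 := by omega
    rcases this with h' | h' <;> exact hp (by rw [h']; norm_num)
  obtain ⟨γ, hγ⟩ := IsCyclic.exists_generator (α := Fˣ)
  have hgen : ∀ (A : AddSubgroup F) (r₀ : F), r₀ ≠ 0 → r₀ ∈ A → (∀ r ∈ A, r * (γ : F) ∈ A) → A = ⊤ := by
    intro A r₀ hr0 hA hmul
    rw [AddSubgroup.eq_top_iff']
    intro x
    rcases eq_or_ne x 0 with rfl | hx
    · exact A.zero_mem
    obtain ⟨k, hk⟩ := (mem_powers_iff_mem_zpowers (x := γ)).2 (hγ (Units.mk0 x hx / Units.mk0 r₀ hr0))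
    have hk' := congrArg (fun z : Fˣ => (z : F)) hk
    simp only [Units.val_pow_eq_pow_val, Units.val_div_eq_div_val, Units.val_mk0] at hk'
    have hall : ∀ j : ℕ, r₀ * (γ : F) ^ j ∈ A := by
      intro j
      induction j with
      | zero => simpa using hA
      | succ j ih => rw [pow_succ, ← mul_assoc]; exact hmul _ ih
    have := hall k
    rwa [hk', mul_div_cancel₀ _ hr0] at this
  obtain ⟨a, c, hsep, h1, hc0, hμ⟩ : ∃ a c : F,
      (Polynomial.X ^ d + Polynomial.C a * Polynomial.X ^ (d - 1) + Polynomial.C ((-1) ^ d) : Polynomial F).Separable ∧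
      1 + a + (-1) ^ d ≠ 0 ∧ c ≠ 0 ∧ (-1) ^ (d + 1) * c * (2 + rr d (sA d a) c 0 - sA d a 0) = (γ : F) := by
    rcases Nat.lt_or_ge d 3 with hd3 | hd3
    · obtain rfl : d = 2 := by omega
      obtain ⟨c, hc0, ha⟩ : ∃ c : F, c ≠ 0 ∧ (c - 2 - (γ : F) / c) ^ 2 ≠ 4 := by
        by_cases h2 : (2 : F) = 0
        · refine ⟨1, one_ne_zero, fun h => ?_⟩
          have h' : (1 - (γ : F)) ^ 2 = 0 := by
            rw [h2, sub_zero, div_one, show (4 : F) = 2 * 2 by norm_num, h2, mul_zero] at h
            exact h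
          have hg1 : γ = 1 := Units.ext (by
            rw [Units.val_one]; exact (sub_eq_zero.1 (pow_eq_zero_iff (by norm_num) |>.1 h')).symm)
          have hcard : Fintype.card Fˣ ≤ 1 := Fintype.card_le_one_iff.2 fun x y => by
            obtain ⟨i, rfl⟩ := hγ x
            obtain ⟨j, rfl⟩ := hγ y
            simp [hg1]
          rw [Fintype.card_units] at hcard
          omega
        · have h40 : (4 : F) ≠ 0 := by rw [show (4 : F) = 2 * 2 by norm_num]; exact mul_ne_zero h2 h2
          refine ⟨4, h40, fun h => ?_⟩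
          have h' : ((4 - 2 - (γ : F) / 4) - 2) * ((4 - 2 - (γ : F) / 4) + 2) = 0 := by linear_combination h
          rcases mul_eq_zero.1 h' with e | e
          · have : (γ : F) / 4 = 0 := by linear_combination -e
            exact γ.ne_zero ((div_eq_zero_iff.1 this).resolve_right h40)
          · have hsq : (γ : F) = 4 * 4 := by
              have : (γ : F) / 4 = 4 := by linear_combination -e
              rwa [div_eq_iff h40] at this
            obtain ⟨x, hx⟩ := FiniteField.exists_nonsquare (F := F) (fun hc => h2 (by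
              haveI : CharP F 2 := ringChar.of_eq hc
              exact CharTwo.two_eq_zero))
            have hx0 : x ≠ 0 := fun h0 => hx (by rw [h0]; exact IsSquare.zero)
            obtain ⟨k, hk⟩ := hγ (Units.mk0 x hx0)
            refine hx ⟨(4 : F) ^ k, ?_⟩
            have hk' := congrArg (fun z : Fˣ => (z : F)) hk
            simp only [Units.val_zpow_eq_zpow_val, Units.val_mk0, hsq] at hk'
            rw [← hk', mul_zpow]
      refine ⟨c - 2 - (γ : F) / c, c, sep_of le_rfl _ fun z hz e1 e2 => ?_, ?_, hc0, ?_⟩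
      · refine ha ((algebraMap F (AlgebraicClosure F)).injective ?_)
        rw [map_pow, map_ofNat]
        rw [show (2 : ℕ) - 1 = 1 from rfl, pow_one, neg_one_sq] at e2
        simp only [Nat.cast_ofNat] at e1
        linear_combination (2 * z + algebraMap F (AlgebraicClosure F) (c - 2 - (γ : F) / c)) * e1 - 4 * e2
      · rw [neg_one_sq]
        intro h
        refine ha ?_
        rw [show c - 2 - (γ : F) / c = -2 by linear_combination h]
        ring
      · simp [rr, sA]
        field_simp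
        ring
    · obtain ⟨t, ht0, ht2⟩ : ∃ t : F, t ≠ 0 ∧ t ^ 2 ≠ 4 := by
        by_contra h
        push_neg at h
        have hsub : (Finset.univ : Finset F) ⊆ {0, 2, -2} := by
          intro x _
          rcases eq_or_ne x 0 with rfl | hx
          · simp
          · have h' : (x - 2) * (x + 2) = 0 := by linear_combination h x hx
            rcases mul_eq_zero.1 h' with e | e
            · simp [sub_eq_zero.1 e]
            · simp [eq_neg_of_add_eq_zero_left e]
        have := (Finset.card_le_card hsub).trans Finset.card_le_three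
        rw [Finset.card_univ] at this
        omega
      obtain ⟨a, hsep, h1, ha2⟩ := exists_coeff hd t ht0
      have ha := ha2 ht2
      refine ⟨a, (-1) ^ (d + 1) * (γ : F) / (2 + a), hsep, h1, ?_, ?_⟩
      · exact div_ne_zero (mul_ne_zero (pow_ne_zero _ (neg_ne_zero.2 one_ne_zero)) γ.ne_zero) (by rwa [add_comm] at ha)
      · simp only [rr, sA, show ¬ (1 : ℕ) ≤ 0 by omega, if_false, if_true, show ¬ (0 + 2 = d) by omega]
        have h2a : (2 : F) + a ≠ 0 := by rwa [add_comm] at ha
        have hsq : ((-1 : F) ^ (d + 1)) * (-1) ^ (d + 1) = 1 := by rw [← mul_pow]; simp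
        field_simp
        linear_combination (2 + a) * hsq
  obtain ⟨hS, N, hN, hNF⟩ := exists_data hd a hsep h1
  have hs := sA_last hd a
  refine ⟨pairU (sA d a) c hd hs, ⟨isNilpotent_pairU _ _ hd hs, pairU_pow_ne _ _ hd hs hc0⟩, ?_⟩
  refine pair_generates (sA d a) c hd hs hS hN hNF ?_ _ (Subgroup.subset_closure (by simp))
    (Subgroup.subset_closure (by simp))
  intro A hA hmul
  refine hgen A _ (mul_ne_zero (pow_ne_zero _ (neg_ne_zero.2 one_ne_zero)) (mul_ne_zero hc0 hc0)) hA fun r hr => ?_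
  rw [← hμ]
  exact hmul r hr

theorem lowU_regular {F : Type*} [Field F] (n : ℕ) (hn : 1 ≤ n) :
    IsNilpotent ((Cfsg.Agent.RegGen.lowU n F).1 - 1) ∧ ((Cfsg.Agent.RegGen.lowU n F).1 - 1) ^ (n - 1) ≠ 0 := by
  have e : (Cfsg.Agent.RegGen.lowU n F).1 - 1 = ((Cfsg.Agent.RegGen.regU n F).1 - 1).transpose := by
    rw [Matrix.transpose_sub, Matrix.transpose_one]; rfl
  obtain ⟨k, hk⟩ := Cfsg.Agent.RegGen.regU_isNilpotent (n := n) (F := F)
  refine ⟨⟨k, by rw [e, ← Matrix.transpose_pow, hk, Matrix.transpose_zero]⟩, fun h => ?_⟩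
  rw [e, ← Matrix.transpose_pow, Matrix.transpose_eq_zero] at h
  exact Cfsg.Agent.RegGen.regU_pow_ne hn h


/-- Let F be a finite field with q elements and n ≥ 4. Then SL_n(F) is generated by two regular unipotent elements (elements u with u − 1 nilpotent and (u − 1)^(n−1) ≠ 0); if q is prime, the two can be taken conjugate in SL_n(F). -/
theorem result {F : Type*} [Field F] [Fintype F] (n : ℕ) (hn : 4 ≤ n) :
    (∃ u v : Matrix.SpecialLinearGroup (Fin n) F, (IsNilpotent ((u : Matrix (Fin n) (Fin n) F) - 1) ∧ ((u : Matrix (Fin n) (Fin n) F) - 1) ^ (n - 1) ≠ 0) ∧ (IsNilpotent ((v : Matrix (Fin n) (Fin n) F) - 1) ∧ ((v : Matrix (Fin n) (Fin n) F) - 1) ^ (n - 1) ≠ 0) ∧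
      Subgroup.closure ({u, v} : Set (Matrix.SpecialLinearGroup (Fin n) F)) = ⊤) ∧
    ((Fintype.card F).Prime → ∃ u g : Matrix.SpecialLinearGroup (Fin n) F, (IsNilpotent ((u : Matrix (Fin n) (Fin n) F) - 1) ∧ ((u : Matrix (Fin n) (Fin n) F) - 1) ^ (n - 1) ≠ 0) ∧
      Subgroup.closure ({u, g * u * g⁻¹} : Set (Matrix.SpecialLinearGroup (Fin n) F)) = ⊤) := by
  obtain ⟨d, rfl⟩ : ∃ d, n = d + 2 := ⟨n - 2, by omega⟩
  obtain ⟨⟨u, hu, hgen⟩, hprime⟩ := two_generate (F := F) d (by omega)
  exact ⟨⟨u, _, hu, lowU_regular (d + 2) (by omega), hgen⟩, hprime⟩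

end Cfsg.Agent.S2279
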