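import Cfsg.Statements.S2286
import Cfsg.Agent.SL2Pres.Even
-- import your own Cfsg.Agent.* helpers here

set_option autoImplicit false
open Cfsg

namespace Cfsg.Agent.S2286

open Cfsg.Agent.SL2Pres Matrix in
open scoped MatrixGroups in
theorem center_card_le {F : Type*} [Field F] [Fintype F] :
    Nat.card (Subgroup.center SL(2, F)) ≤ 2 := by
  classical
  have hr : ∀ A : Subgroup.center SL(2, F), ∃ r : F, (r = 1 ∨ r = -1) ∧ A.1.1 = scalar (Fin 2) r := by
    intro A
    obtain ⟨r, hr, hA⟩ := Matrix.SpecialLinearGroup.mem_center_iff.mp A.2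
    refine ⟨r, ?_, hA.symm⟩
    rw [Fintype.card_fin] at hr
    exact sq_eq_one_iff.mp hr
  choose r hr1 hr2 using hr
  let g : Subgroup.center SL(2, F) → Fin 2 := fun A => if r A = 1 then 0 else 1
  have hg : Function.Injective g := by
    intro A B h
    apply Subtype.ext
    apply Subtype.ext
    rw [hr2, hr2]
    rcases hr1 A with a | a <;> rcases hr1 B with b | b <;> rw [a, b] <;>
      simp only [g, a, b, ↓reduceIte] at h <;> simp_all
  exact (Nat.card_le_card_of_injective g hg).trans (by simp)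

open Cfsg.Agent.SL2Pres Matrix in
open scoped MatrixGroups in
theorem main_aux {F : Type*} [Field F] [Fintype F] :
    (∃ rels : Finset (FreeGroup (Fin 3)), rels.card ≤ 9 ∧ Nonempty (PresentedGroup (↑rels : Set (FreeGroup (Fin 3))) ≃* SL(2, F))) ∧ (∃ rels : Finset (FreeGroup (Fin 3)), rels.card ≤ 9 ∧ Nonempty (PresentedGroup (↑rels : Set (FreeGroup (Fin 3))) ≃* Matrix.ProjectiveSpecialLinearGroup (Fin 2) F)) ∧
    (CharP F 2 → ∃ rels : Finset (FreeGroup (Fin 3)), rels.card ≤ 5 ∧ Nonempty (PresentedGroup (↑rels : Set (FreeGroup (Fin 3))) ≃* Matrix.ProjectiveSpecialLinearGroup (Fin 2) F)) := by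
  classical
  obtain ⟨p, hchar⟩ := CharP.exists F
  have : Fact p.Prime := ⟨CharP.char_is_prime F p⟩
  let alg : Algebra (ZMod p) F := ZMod.algebra F p
  obtain ⟨ν, hν⟩ := exists_gen_unit F
  let π : SL(2, F) →* Matrix.ProjectiveSpecialLinearGroup (Fin 2) F := QuotientGroup.mk' _
  have hπ : Function.Surjective π := QuotientGroup.mk'_surjective _
  have hid : Function.Surjective (MonoidHom.id SL(2, F)) := fun x => ⟨x, rfl⟩
  have hsplit : Nat.card SL(2, F) = Nat.card (Matrix.ProjectiveSpecialLinearGroup (Fin 2) F) *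
      Nat.card (Subgroup.center SL(2, F)) :=
    Subgroup.card_eq_card_quotient_mul_card_subgroup _
  have hq := Fintype.one_lt_card (α := F)
  have hνN : ν ^ (Fintype.card F - 1) = 1 := hν ▸ pow_orderOf_eq_one ν
  rcases eq_or_ne p 2 with rfl | hp2
  · have hcen : Nat.card (Subgroup.center SL(2, F)) = 1 := by
      rw [Nat.card_eq_one_iff_unique]
      refine ⟨⟨fun A B => ?_⟩, ⟨1⟩⟩
      suffices h : ∀ A : Subgroup.center SL(2, F), A.1.1 = 1 from
        Subtype.ext (Subtype.ext ((h A).trans (h B).symm))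
      intro A
      obtain ⟨r, hr, hA⟩ := Matrix.SpecialLinearGroup.mem_center_iff.mp A.2
      rw [Fintype.card_fin, sq_eq_one_iff, neg_eq' (F := F) 1, or_self] at hr
      rw [← hA, hr, map_one]
    rw [hcen, mul_one] at hsplit
    have hmain : ∀ (T : Type _) [Group T] [Finite T] (f : SL(2, F) →* T), Function.Surjective f →
        Nat.card SL(2, F) ≤ Nat.card T → ∃ rels : Finset (FreeGroup (Fin 3)), rels.card ≤ 5 ∧
          Nonempty (PresentedGroup (↑rels : Set (FreeGroup (Fin 3))) ≃* T) := by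
      intro T _ _ f hf hle
      rw [card_target] at hle
      rcases eq_or_ne (Fintype.card F) 2 with h2 | h2
      · exact two_case hν h2 f hf (le_trans (by rw [h2]) hle)
      · exact even_case hν (by omega) f hf hle
    obtain ⟨a, ha, ha'⟩ := hmain _ (MonoidHom.id _) hid le_rfl
    obtain ⟨b, hb, hb'⟩ := hmain _ π hπ hsplit.le
    exact ⟨⟨a, ha.trans (by norm_num), ha'⟩, ⟨b, hb.trans (by norm_num), hb'⟩, fun _ => ⟨b, hb, hb'⟩⟩
  · obtain ⟨N, hN⟩ : ∃ N, Fintype.card F - 1 = 2 * N := by
      have := Nat.odd_iff.mpr (FiniteField.odd_card_of_char_ne_two (F := F)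
        (by rw [ringChar.eq F p]; exact hp2))
      obtain ⟨t, ht⟩ := this
      exact ⟨t, by omega⟩
    have hN0 : 0 < N := by omega
    have hneg : ν ^ N = -1 := by
      have h1 : ((ν : F) ^ N) ^ 2 = 1 := by
        rw [← pow_mul, mul_comm, ← hN, ← Units.val_pow_eq_pow_val, hνN, Units.val_one]
      rcases sq_eq_one_iff.mp h1 with h | h
      · exfalso
        have := Nat.le_of_dvd hN0 (hν ▸ orderOf_dvd_of_pow_eq_one
          (Units.ext (by rw [Units.val_pow_eq_pow_val, h, Units.val_one]) : ν ^ N = 1))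
        omega
      · exact Units.ext (by simpa using h)
    have h1 : (MonoidHom.id SL(2, F)) (dM ν) ^ (Fintype.card F - 1) = 1 := by
      simp only [MonoidHom.id_apply]
      rw [← dM_pow, hνN]
      exact map_one (dHom (F := F))
    have h2 : π (dM ν) ^ N = 1 := by
      rw [← map_pow, ← dM_pow, hneg]
      refine (QuotientGroup.eq_one_iff _).mpr (Matrix.SpecialLinearGroup.mem_center_iff.mpr
        ⟨-1, by simp, ?_⟩)
      ext i j; fin_cases i <;> fin_cases j <;> simp [dM_coe]
    refine ⟨?_, ?_, fun h => absurd (CharP.eq F hchar h) hp2⟩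
    · exact odd_case hp2 hν (MonoidHom.id _) hid (Fintype.card F - 1) N (by omega) h1
        (by simp only [MonoidHom.id_apply]; rw [← dM_pow, hneg]) (Or.inl ⟨rfl, hN.symm⟩)
        (card_target (F := F)).ge
    · refine odd_case hp2 hν π hπ N 0 hN0 h2 ?_ (Or.inr ⟨hN.symm, rfl⟩) ?_
      · rw [pow_zero, ← hneg, dM_pow, map_pow, h2]
      · have hle := center_card_le (F := F)
        rw [card_target, hN] at hsplit
        have := Nat.mul_le_mul_left (Nat.card (Matrix.ProjectiveSpecialLinearGroup (Fin 2) F)) hle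
        nlinarith


/-- For every finite field F, SL_2(F) and PSL_2(F) have presentations with 3 generators and at most 9 relations; when F has characteristic 2, PSL_2(F) has a presentation with 3 generators and at most 5 relations. -/
theorem result {F : Type*} [Field F] [Fintype F] :
    (∃ rels : Finset (FreeGroup (Fin 3)), rels.card ≤ 9 ∧ Nonempty (PresentedGroup (↑rels : Set (FreeGroup (Fin 3))) ≃* Matrix.SpecialLinearGroup (Fin 2) F)) ∧ (∃ rels : Finset (FreeGroup (Fin 3)), rels.card ≤ 9 ∧ Nonempty (PresentedGroup (↑rels : Set (FreeGroup (Fin 3))) ≃* Matrix.ProjectiveSpecialLinearGroup (Fin 2) F)) ∧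
    (CharP F 2 → ∃ rels : Finset (FreeGroup (Fin 3)), rels.card ≤ 5 ∧ Nonempty (PresentedGroup (↑rels : Set (FreeGroup (Fin 3))) ≃* Matrix.ProjectiveSpecialLinearGroup (Fin 2) F)) := by
  exact main_aux

end Cfsg.Agent.S2286
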