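import Cfsg.Statements.S1373
import Cfsg.Agent.OddLocal.KappaDerived
-- import your own Cfsg.Agent.* helpers here

set_option autoImplicit false
open Cfsg Cfsg.Agent Cfsg.Agent.OddLocal Subgroup

namespace Cfsg.Agent.S1373

/-- Let G be a minimal simple group of odd order and M a maximal subgroup with standard factorisation M = K U M_σ, K ≠ 1 and U = 1. Then M_σ ∩ C_G(K) has prime order. -/
theorem result {G : Type*} [Group G] [Finite G] (hG : Cfsg.IsMinSimpleOddOrder G)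
    (M : Subgroup G) (hM : IsCoatom M) (K U : Subgroup G) (hKU : Cfsg.IsSigmaDecomposition M K U) (hK1 : K ≠ ⊥) (hU : U = ⊥) :
    (Nat.card ↥(Cfsg.sigmaCore M ⊓ Subgroup.centralizer (K : Set G))).Prime := by
  have hK := hKU.hall
  obtain ⟨hE, -⟩ := sigmaDecomposition_compl hG hM hKU
  have hm : IsMember (K ⊔ kStar M K) M K := ⟨hM, hK, hK1, rfl⟩
  obtain ⟨-, -, -, L, -, -, huniq⟩ := kappa_pair hG hM hK hK1
  obtain ⟨X, K', hX, r, hr, hrd, hrσ, hrκ⟩ := hm.exists_not_P1 hG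
  rcases huniq X K' hX with ⟨rfl, rfl⟩ | ⟨rfl, rfl⟩
  · haveI := Fact.mk hr
    have h1 := (dvd_compl_iff hG hM hE).mpr ⟨hrd, hrσ⟩
    rw [hU, bot_sup_eq] at h1
    exact absurd (hK.2.1 r hr h1) hrκ
  · exact kappa_prime_of_not_P1 hG hX.1 hX.2.1 hX.2.2.1 hr hrd hrσ hrκ

end Cfsg.Agent.S1373
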