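import Cfsg.Statements.S1447
import Cfsg.Agent.Metacyclic.Coprime
import Cfsg.Agent.S0638
import Cfsg.Agent.Coprime.Basic
import Cfsg.Agent.Coprime.Derived
-- import your own Cfsg.Agent.* helpers here

set_option autoImplicit false
open Cfsg
open Cfsg.Agent
open scoped commutatorElement Pointwise

namespace Cfsg.Agent.S1447
open Cfsg.Agent in
theorem abelian_of_commutator_eq {X : Type*} [Group X] [Finite X] {p : ℕ} [hp : Fact p.Prime] (hp2 : p ≠ 2)
    {K A : Subgroup X} (hK : IsPGroup p K) (hm : Cfsg.IsMetacyclic K) (hAK : A ≤ Subgroup.normalizer (K : Set X))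
    (hcop : (Nat.card A).Coprime (Nat.card K)) (hKA : ⁅K, A⁆ = K) : IsMulCommutative K := by
  by_contra hnc
  obtain ⟨M, h, hh, hcM, hf⟩ := Metacyclic.exists_fixed_coset hp2 hK hm hnc
  set φ : A →* MulAut K := K.normalizerMonoidHom.comp (Subgroup.inclusion hAK)
  have hφ : ∀ (a : A) (g : K), ((φ a g : K) : X) = (a : X) * g * (a : X)⁻¹ := fun a g => rfl
  set M' := M.map K.subtype
  have hAM : A ≤ Subgroup.normalizer (M' : Set X) := by
    have key : ∀ a ∈ A, ∀ m ∈ M', a * m * a⁻¹ ∈ M' := by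
      rintro a ha _ ⟨g, hg, rfl⟩
      exact ⟨φ ⟨a, ha⟩ g, (hf _).1 g hg, hφ ⟨a, ha⟩ g⟩
    intro a ha
    rw [Subgroup.mem_normalizer_iff]
    refine fun m => ⟨key a ha m, fun hm' => ?_⟩
    simpa [mul_assoc] using key a⁻¹ (inv_mem ha) _ hm'
  have hM'K : M' ≤ K := Subgroup.map_subtype_le M
  obtain ⟨n, hn, hnC⟩ := Coprime.exists_fixed_mem_leftCoset hAM
    (hcop.coprime_dvd_right (Subgroup.card_dvd_of_le hM'K))
    (Or.inr (by
      have := (hK.to_le hM'K).isNilpotent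
      infer_instance)) (k := (h : X)) fun a ha => ⟨h⁻¹ * φ ⟨a, ha⟩ h, (hf _).2, by
        rw [Subgroup.subtype_apply, Subgroup.coe_mul, Subgroup.coe_inv, hφ]⟩
  have hder : ⁅K, K⁆ ≤ M' := by
    rw [← Subgroup.map_subtype_commutator]
    exact Subgroup.map_mono hcM
  have hmem : (h : X) * n ∈ M' := hder (Coprime.inf_centralizer_le_derived hAK hcop hKA
    ⟨mul_mem h.2 (hM'K hn), hnC⟩)
  obtain ⟨g, hg, hgh⟩ := (Subgroup.mul_mem_cancel_right _ hn).mp hmem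
  exact hh (Subtype.ext hgh ▸ hg)

open Cfsg.Agent in
theorem isCyclic_of_inf_eq_bot {X : Type*} [Group X] [Finite X] {p : ℕ} [hpf : Fact p.Prime] (hp2 : p ≠ 2)
    {R P Q : Subgroup X} (hR : IsPGroup p R) (hm : Cfsg.IsMetacyclic R) (hPR : P ≤ R) (hQR : Q ≤ R)
    (hQ : Q ≠ ⊥) (hPQ : P ⊓ Q = ⊥) : IsCyclic P := by
  by_contra hnc
  have hncR : ¬ IsCyclic R := fun h => hnc (Subgroup.isCyclic_of_le hPR)
  have hmP : Cfsg.IsMetacyclic P := Metacyclic.isMetacyclic_of_injective hm (Subgroup.inclusion hPR) (Subgroup.inclusion_injective _)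
  obtain ⟨⟨-, -⟩, hcP⟩ := S0638.result hp2 (hR.to_le hPR) hmP hnc
  obtain ⟨⟨-, -⟩, hcR⟩ := S0638.result hp2 hR hm hncR
  have hmap : ∀ S : Subgroup X, (Cfsg.omegaOne p (⊤ : Subgroup S)).map S.subtype = Cfsg.omegaOne p S := by
    intro S
    rw [Cfsg.omegaOne, MonoidHom.map_closure]
    congr 1
    ext x
    constructor
    · rintro ⟨g, ⟨-, hg⟩, rfl⟩
      exact ⟨g.2, by rw [Subgroup.subtype_apply, ← Subgroup.coe_pow, hg, Subgroup.coe_one]⟩
    · rintro ⟨hx, hxp⟩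
      exact ⟨⟨x, hx⟩, ⟨Subgroup.mem_top _, Subtype.ext hxp⟩, rfl⟩
  have heq : Cfsg.omegaOne p P = Cfsg.omegaOne p R := by
    refine Subgroup.eq_of_le_of_card_ge (Subgroup.closure_mono fun x hx => ⟨hPR hx.1, hx.2⟩) (le_of_eq ?_)
    rw [← hmap R, ← hmap P, Subgroup.card_map_of_injective R.subtype_injective,
      Subgroup.card_map_of_injective P.subtype_injective, hcP, hcR]
  obtain ⟨k, hk⟩ := (hR.to_le hQR).exists_card_eq
  rcases k with _ | k
  · exact hQ ((Subgroup.eq_bot_iff_card _).mpr (hk.trans (pow_zero p)))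
  obtain ⟨v, hv⟩ := exists_prime_orderOf_dvd_card' (G := Q) p (hk ▸ dvd_pow_self p (Nat.succ_ne_zero k))
  have hvp : (v : X) ^ p = 1 := by
    rw [← Subgroup.coe_pow, ← hv, pow_orderOf_eq_one, Subgroup.coe_one]
  have h1 : (v : X) ∈ Cfsg.omegaOne p P := heq ▸ Subgroup.subset_closure ⟨hQR v.2, hvp⟩
  have h2 : (v : X) ∈ P ⊓ Q := ⟨(Subgroup.closure_le P).mpr (fun x hx => hx.1) h1, v.2⟩
  rw [hPQ, Subgroup.mem_bot] at h2
  rw [Subgroup.orderOf_coe v |>.symm, h2, orderOf_one] at hv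
  exact hpf.out.ne_one hv.symm



/-- Let G be a finite group, p an odd prime, R a metacyclic p-subgroup and A a subgroup of order coprime to p normalizing R. Then [R, A] is abelian; R is generated by [R, A] and R ∩ C_G(A), which meet trivially; and if R is non-abelian and A does not centralize R, then [R, A] and R ∩ C_G(A) are nontrivial cyclic groups and [R, R] ≤ [R, A]. -/
theorem result {G : Type*} [Group G] [Finite G] (p : ℕ) [Fact p.Prime] (hp : p ≠ 2) (R A : Subgroup G) (hR : IsPGroup p R) (hRm : Cfsg.IsMetacyclic R)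
    (hA : (A ≤ Subgroup.normalizer (R : Set G))) (hcop : (Nat.card A).Coprime p) :
    IsMulCommutative ↥⁅R, A⁆ ∧ ⁅R, A⁆ ⊔ (R ⊓ Subgroup.centralizer (A : Set G)) = R ∧ ⁅R, A⁆ ⊓ (R ⊓ Subgroup.centralizer (A : Set G)) = ⊥ ∧
      (¬ IsMulCommutative R → ¬ A ≤ Subgroup.centralizer (R : Set G) →
        ⁅R, A⁆ ≠ ⊥ ∧ IsCyclic ↥⁅R, A⁆ ∧ (R ⊓ Subgroup.centralizer (A : Set G)) ≠ ⊥ ∧ IsCyclic ↥(R ⊓ Subgroup.centralizer (A : Set G)) ∧ ⁅R, R⁆ ≤ ⁅R, A⁆) := by
  have hpp : p.Prime := Fact.out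
  obtain ⟨k, hk⟩ := hR.exists_card_eq
  have hcR : (Nat.card A).Coprime (Nat.card R) := hk ▸ hcop.pow_right k
  have hRs : Group.IsSolvable R := by
    have := hR.isNilpotent
    infer_instance
  have hKR : ⁅R, A⁆ ≤ R := Coprime.commutator_le_of_le_normalizer hA
  set K := ⁅R, A⁆ with hKdef
  set C := R ⊓ Subgroup.centralizer (A : Set G) with hC
  have hAK : A ≤ Subgroup.normalizer (K : Set G) := le_sup_right.trans Coprime.le_normalizer_commutator
  have hRK : R ≤ Subgroup.normalizer (K : Set G) := le_sup_left.trans Coprime.le_normalizer_commutator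
  have hKA : ⁅K, A⁆ = K := Coprime.commutator_commutator_eq hA hcR (Or.inr hRs)
  have hsup : K ⊔ C = R := Coprime.commutator_sup_centralizer hA hcR (Or.inr hRs)
  have hKm : Cfsg.IsMetacyclic K := Metacyclic.isMetacyclic_of_injective hRm (Subgroup.inclusion hKR) (Subgroup.inclusion_injective _)
  have hcK : (Nat.card A).Coprime (Nat.card K) := hcR.coprime_dvd_right (Subgroup.card_dvd_of_le hKR)
  have hKc : IsMulCommutative K := abelian_of_commutator_eq hp (hR.to_le hKR) hKm hAK hcK hKA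
  have hinf : K ⊓ C = ⊥ := by
    rw [hC, ← inf_assoc, inf_eq_left.mpr hKR]
    have h := Coprime.centralizer_inf_commutator_eq_bot hAK hcK
    rwa [hKA, inf_right_comm, inf_idem] at h
  refine ⟨hKc, hsup, hinf, fun hnab hncent => ?_⟩
  have hK : K ≠ ⊥ := fun h => hncent (Subgroup.le_centralizer_iff.mp
    (Subgroup.commutator_eq_bot_iff_le_centralizer.mp h))
  have hCb : C ≠ ⊥ := fun h => by
    rw [h, sup_bot_eq] at hsup
    exact hnab (hsup ▸ hKc)
  have hCc : IsCyclic C := isCyclic_of_inf_eq_bot hp hR hRm inf_le_left hKR hK (by rw [inf_comm]; exact hinf)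
  refine ⟨hK, isCyclic_of_inf_eq_bot hp hR hRm hKR inf_le_left hCb hinf, hCb, hCc, ?_⟩
  rw [Subgroup.commutator_le]
  intro g₁ hg₁ g₂ hg₂
  have hset : (R : Set G) = (K : Set G) * (C : Set G) := by
    rw [← hsup]; exact Subgroup.coe_mul_of_right_le_normalizer_left K C (inf_le_left.trans hRK)
  rw [← SetLike.mem_coe, hset] at hg₁ hg₂
  obtain ⟨k₁, hk₁, c₁, hc₁, rfl⟩ := hg₁
  obtain ⟨k₂, hk₂, c₂, hc₂, rfl⟩ := hg₂
  have hcc : c₁ * c₂ = c₂ * c₁ := setLike_mul_comm (s := C) hc₁ hc₂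
  have hn : ∀ c ∈ C, ∀ x ∈ K, c * x * c⁻¹ ∈ K := fun c hc x hx =>
    (Subgroup.mem_normalizer_iff.mp (hRK (inf_le_left (a := R) hc)) x).mp hx
  rw [commutatorElement_def, show k₁ * c₁ * (k₂ * c₂) * (k₁ * c₁)⁻¹ * (k₂ * c₂)⁻¹
    = k₁ * (c₁ * k₂ * c₁⁻¹) * (c₁ * c₂ * c₁⁻¹ * k₁⁻¹ * c₂⁻¹) * k₂⁻¹ by group, hcc, mul_inv_cancel_right]
  exact mul_mem (mul_mem (mul_mem hk₁ (hn c₁ hc₁ k₂ hk₂)) (hn c₂ hc₂ _ (inv_mem hk₁))) (inv_mem hk₂)

end Cfsg.Agent.S1447
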