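import Cfsg.Statements.S1412
import Cfsg.Agent.OddLocal.FusionControl
import Cfsg.Agent.OddLocal.RankTwoCommutator
-- import your own Cfsg.Agent.* helpers here

set_option autoImplicit false
open Cfsg

namespace Cfsg.Agent.S1412

/-- Let G be a minimal simple group of odd order, p a prime and P a Sylow p-subgroup of G with no elementary abelian subgroup of order p ^ 3. Then either P is abelian, or P is generated by two elementwise-commuting subgroups P₁, P₂ with P₁ nonabelian of order p ^ 3 and exponent p, P₂ cyclic, and the elements of P₂ of order dividing p generating exactly the centre of P₁. -/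
theorem result {G : Type*} [Group G] [Finite G] (hG : Cfsg.IsMinSimpleOddOrder G) (p : ℕ) [Fact p.Prime] (P : Sylow p G) (hr : Cfsg.PRankLE p 2 (P : Subgroup G)) :
    IsMulCommutative (P : Subgroup G) ∨ ∃ P₁ P₂ : Subgroup G, P₁ ⊔ P₂ = (P : Subgroup G) ∧ (∀ a ∈ P₁, ∀ b ∈ P₂, a * b = b * a) ∧
        ¬ IsMulCommutative P₁ ∧ Nat.card P₁ = p ^ 3 ∧ Monoid.exponent P₁ = p ∧ IsCyclic P₂ ∧
        Subgroup.closure {x : G | x ∈ P₂ ∧ x ^ p = 1} = P₁ ⊓ Subgroup.centralizer (P₁ : Set G) := by
  classical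
  set Pg := (P : Subgroup G) with hPg
  have hodd : Odd (Nat.card G) := hG.1
  by_cases hP1 : Pg = ⊥
  · left
    rw [hP1]
    exact ⟨⟨fun a b => Subsingleton.elim _ _⟩⟩
  have hp2 : p ≠ 2 := by
    rintro rfl
    have h := ((P.2.card_eq_or_dvd).resolve_left fun h => hP1 (Subgroup.card_eq_one.mp h)).trans
      (Subgroup.card_subgroup_dvd_card _)
    exact hodd.not_two_dvd_nat h
  set N := Subgroup.normalizer (Pg : Set G) with hN
  have hPN : Pg ≤ N := Subgroup.le_normalizer
  haveI : (Pg.subgroupOf N).Normal := Subgroup.normal_in_normalizer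
  have hco : Nat.Coprime (Nat.card (Pg.subgroupOf N)) (Pg.subgroupOf N).index := by
    rw [← P.coe_subtype hPN]
    exact (P.subtype hPN).card_coprime_index
  obtain ⟨V₀, hV₀⟩ := Subgroup.exists_right_complement'_of_coprime hco
  set V := V₀.map N.subtype with hV
  have hVN : V ≤ N := Subgroup.map_subtype_le _
  have hcompl : Cfsg.IsComplIn Pg V N := by
    refine ⟨hPN, hVN, ?_, fun m hm => ?_⟩
    · rw [eq_bot_iff]
      rintro _ ⟨hx, w, hw, rfl⟩
      have h1 : w ∈ Pg.subgroupOf N ⊓ V₀ := ⟨hx, hw⟩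
      rw [hV₀.disjoint.eq_bot, Subgroup.mem_bot] at h1
      rw [h1, map_one]
      exact Subgroup.one_mem _
    · obtain ⟨⟨a, b⟩, hab⟩ := hV₀.2 (⟨m, hm⟩ : N)
      exact ⟨(a : N), a.2, (b : N), ⟨b, b.2, rfl⟩, (congrArg Subtype.val hab).symm⟩
  have hRA := (OddLocal.sylow_eq_commutator_complement hG P hcompl).1
  have hVcard : Nat.card V = (Pg.subgroupOf N).index := by
    rw [hV, Subgroup.card_map_of_injective N.subtype_injective]
    exact hV₀.symm.index_eq_card.symm
  have hcop : (Nat.card V).Coprime p := by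
    rw [hVcard, Nat.coprime_comm, (Fact.out : p.Prime).coprime_iff_not_dvd]
    intro hd
    refine (P.subtype hPN).not_dvd_index ?_
    rwa [Sylow.coe_subtype]
  obtain ⟨-, h⟩ := OddLocal.rank_two_commutator_structure hp2 P.2 hP1 hr hVN hcop
    (hodd.of_dvd_nat (Subgroup.card_subgroup_dvd_card V)) hRA.symm
  refine h.imp_right ?_
  rintro ⟨R₁, R₂, h1, h2, h3, h4, h5, h6, h7, h8, -⟩
  exact ⟨R₁, R₂, h1, h2, h3, h4, h5, h6, h7.trans h8.symm⟩

end Cfsg.Agent.S1412
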