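import Cfsg.Statements.S1494
import Cfsg.Agent.Char.Linear
import Cfsg.Agent.Char.Gen
import Mathlib.RingTheory.RootsOfUnity.Complex
import Mathlib.RingTheory.RootsOfUnity.Minpoly


set_option autoImplicit false
open Cfsg

namespace Cfsg.Agent.S1494

/-- Let χ be a generalized character of the finite group G, p a prime, x an element of order p and y an element commuting with x. Then χ(x * y) − χ(y) = (1 − ε) * ω for some algebraic integer ω, where ε = exp(2πi/p). -/
theorem result {G : Type*} [Group G] [Finite G] (χ : G → ℂ) (hχ : Cfsg.IsGeneralizedCharacter G χ) (p : ℕ) (hp : p.Prime) (x y : G) (hx : orderOf x = p) (hxy : x * y = y * x) : ∃ ω : ℂ, IsIntegral ℤ ω ∧ χ (x * y) - χ y = (1 - Complex.exp (2 * Real.pi * Complex.I / p)) * ω := by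
  classical
  have := Fintype.ofFinite G
  set ε : ℂ := Complex.exp (2 * Real.pi * Complex.I / p) with hε
  set K := Subgroup.closure ({x, y} : Set G) with hK
  have hcomm : IsMulCommutative K := by
    refine Subgroup.isMulCommutative_closure ?_
    intro a ha b hb
    simp only [Set.mem_insert_iff, Set.mem_singleton_iff] at ha hb
    rcases ha with rfl | rfl <;> rcases hb with rfl | rfl
    · rfl
    · exact hxy
    · exact hxy.symm
    · rfl
  letI := Fintype.ofFinite K
  let x' : K := ⟨x, Subgroup.subset_closure (by simp)⟩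
  let y' : K := ⟨y, Subgroup.subset_closure (by simp)⟩
  have hres := Char.isGeneralized_comp K.subtype hχ
  obtain ⟨m, -, hm, -⟩ := Char.IsGen.exists_mult hres
  have hεp : IsPrimitiveRoot ε p := Complex.isPrimitiveRoot_exp p hp.ne_zero
  have : NeZero p := ⟨hp.ne_zero⟩
  have key : ∀ l : Cfsg.IrrCharacter K, ∃ ω : ℂ, IsIntegral ℤ ω ∧
      (l : K → ℂ) (x' * y') - (l : K → ℂ) y' = (1 - ε) * ω := by
    intro l
    obtain ⟨f, hf⟩ := Char.IsChar.exists_hom (Char.IsIrr.isCharacter l.2)
      (Char.IsIrr.degree_one_of_isMulCommutative l.2)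
    have hxp : ((f x' : ℂˣ) : ℂ) ^ p = 1 := by
      rw [← Units.val_pow_eq_pow_val, ← map_pow]
      have : x' ^ p = 1 := Subtype.ext (by simp [x', ← hx, pow_orderOf_eq_one])
      rw [this, map_one, Units.val_one]
    obtain ⟨i, -, hi⟩ := hεp.eq_pow_of_pow_eq_one hxp
    have hy : IsIntegral ℤ ((f y' : ℂˣ) : ℂ) := by
      have := Char.IsChar.isIntegral (Char.isCharacter_hom f) y'
      exact this
    refine ⟨-((f y' : ℂˣ) : ℂ) * ∑ j ∈ Finset.range i, ε ^ j, IsIntegral.mul hy.neg
      (IsIntegral.sum _ fun j _ => (hεp.isIntegral hp.pos).pow j), ?_⟩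
    have hg := geom_sum_mul ε i
    rw [hf]
    simp only [map_mul, Units.val_mul, ← hi]
    linear_combination -((f y' : ℂˣ) : ℂ) * hg
  choose ω hω hωe using key
  refine ⟨∑ l, (m l : ℂ) * ω l, IsIntegral.sum _ fun l _ =>
    IsIntegral.mul (isIntegral_algebraMap (x := m l)) (hω l), ?_⟩
  have h1 := congrFun hm (x' * y')
  have h2 := congrFun hm y'
  simp only [Subgroup.coe_subtype, Finset.sum_apply, Pi.smul_apply, smul_eq_mul,
    Subgroup.coe_mul] at h1 h2
  rw [h1, h2, ← Finset.sum_sub_distrib, Finset.mul_sum]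
  refine Finset.sum_congr rfl fun l _ => ?_
  rw [← mul_sub, hωe]; ring

end Cfsg.Agent.S1494
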