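import Cfsg.Statements.S1495
import Cfsg.Agent.Char.Integral
import Mathlib.RingTheory.Polynomial.Cyclotomic.Roots
import Mathlib.RingTheory.Polynomial.Cyclotomic.Eval
import Mathlib.RingTheory.RootsOfUnity.Complex


set_option autoImplicit false
open Cfsg

namespace Cfsg.Agent.S1495

/-- Let p be a prime, ε = exp(2πi/p), and n an integer such that n = (1 − ε) * ω for some algebraic integer ω. Then p divides n. -/
theorem result (p : ℕ) (hp : p.Prime) (n : ℤ) (ω : ℂ) (hω : IsIntegral ℤ ω) (h : (n : ℂ) = (1 - Complex.exp (2 * Real.pi * Complex.I / p)) * ω) : (p : ℤ) ∣ n := by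
  classical
  set ε : ℂ := Complex.exp (2 * Real.pi * Complex.I / p) with hε
  have hεp : IsPrimitiveRoot ε p := Complex.isPrimitiveRoot_exp p hp.ne_zero
  have hεi : IsIntegral ℤ ε := hεp.isIntegral hp.pos
  have : NeZero p := ⟨hp.ne_zero⟩
  have : Fact p.Prime := ⟨hp⟩
  by_contra hdvd
  have hprod : (p : ℂ) = ∏ μ ∈ primitiveRoots p ℂ, (1 - μ) := by
    rw [← Polynomial.eval_one_cyclotomic_prime (R := ℂ) (p := p),
      Polynomial.cyclotomic_eq_prod_X_sub_primitiveRoots hεp, Polynomial.eval_prod]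
    simp
  obtain ⟨ν, hνi, hν⟩ : ∃ ν : ℂ, IsIntegral ℤ ν ∧ (p : ℂ) = (1 - ε) * ν := by
    refine ⟨∏ μ ∈ (primitiveRoots p ℂ).erase ε, (1 - μ), IsIntegral.prod _ fun μ hμ => ?_, ?_⟩
    · exact isIntegral_one.sub
        ((isPrimitiveRoot_of_mem_primitiveRoots (Finset.mem_of_mem_erase hμ)).isIntegral hp.pos)
    · rw [hprod, Finset.mul_prod_erase _ (fun μ => 1 - μ) ((mem_primitiveRoots hp.pos).2 hεp)]
  obtain ⟨u, w, huw⟩ := (Int.isCoprime_iff_nat_coprime (a := n) (b := (p : ℤ))).2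
    (show Nat.Coprime n.natAbs p from (hp.coprime_iff_not_dvd.2 fun hd => hdvd
      (Int.natCast_dvd.2 hd)).symm)
  have huwC : (u : ℂ) * n + (w : ℂ) * p = 1 := by exact_mod_cast huw
  set W := (u : ℂ) * ω + (w : ℂ) * ν with hW
  have hWi : IsIntegral ℤ W :=
    (IsIntegral.mul (isIntegral_algebraMap (x := u)) hω).add
      (IsIntegral.mul (isIntegral_algebraMap (x := w)) hνi)
  have hW1 : (1 - ε) * W = 1 := by
    rw [hW]
    linear_combination huwC - (u : ℂ) * h - (w : ℂ) * hν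
  have hinv : ∀ μ ∈ primitiveRoots p ℂ, ∃ z : ℂ, IsIntegral ℤ z ∧ (1 - μ) * z = 1 := by
    intro μ hμ
    have hμp := isPrimitiveRoot_of_mem_primitiveRoots hμ
    obtain ⟨j, -, hj⟩ := hμp.eq_pow_of_pow_eq_one hεp.pow_eq_one
    refine ⟨W * ∑ i ∈ Finset.range j, μ ^ i,
      IsIntegral.mul hWi (IsIntegral.sum _ fun i _ => (hμp.isIntegral hp.pos).pow i), ?_⟩
    have hg := mul_neg_geom_sum μ j
    calc (1 - μ) * (W * ∑ i ∈ Finset.range j, μ ^ i) = W * ((1 - μ) * ∑ i ∈ Finset.range j, μ ^ i) := by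
          ring
      _ = 1 := by rw [hg, hj, mul_comm, hW1]
  choose! z hzi hz using hinv
  have hone : (p : ℂ) * ∏ μ ∈ primitiveRoots p ℂ, z μ = 1 := by
    rw [hprod, ← Finset.prod_mul_distrib]
    exact Finset.prod_eq_one hz
  have hint : IsIntegral ℤ (((1 : ℕ) : ℂ) / (p : ℂ)) := by
    rw [Nat.cast_one, one_div, inv_eq_of_mul_eq_one_right hone]
    exact IsIntegral.prod _ hzi
  exact hp.one_lt.ne' (Nat.dvd_one.1 (Char.nat_dvd_of_isIntegral hp.ne_zero hint))

end Cfsg.Agent.S1495
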