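import Cfsg.Statements.S1418
import Cfsg.Agent.OddLocal.TauTwoContext
-- import your own Cfsg.Agent.* helpers here

set_option autoImplicit false
open Cfsg

namespace Cfsg.Agent.S1418

/-- Let G be a minimal simple group of odd order, M a maximal subgroup, E a complement to M_σ in M, p ∈ τ₂(M), and A ≤ E elementary abelian of order p ^ 2. Then A is normal in E and contains every subgroup of E of order p; C_G(A) ≤ M ∩ N_G(A) = E and N_G(A) is not contained in M; and for every subgroup X ≤ A of order p centralizing a non-identity element of M_σ, C_G(X) ≤ M and M is the unique maximal subgroup containing C_G(X). -/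
theorem result {G : Type*} [Group G] [Finite G] (hG : Cfsg.IsMinSimpleOddOrder G)
    (M : Subgroup G) (hM : IsCoatom M) (E : Subgroup G) (hE : Cfsg.IsComplIn E (Cfsg.sigmaCore M) M) (p : ℕ) [Fact p.Prime] (hp : p ∈ Cfsg.tau2 M) (A : Subgroup G) (hA : (A ≤ E ∧ Cfsg.IsElementaryAbelian p A ∧ Nat.card A = p ^ 2)) :
    (E ≤ Subgroup.normalizer (A : Set G) ∧ ∀ X : Subgroup G, X ≤ E → Nat.card X = p → X ≤ A) ∧
      (Subgroup.centralizer (A : Set G) ≤ M ⊓ Subgroup.normalizer (A : Set G) ∧ M ⊓ Subgroup.normalizer (A : Set G) = E ∧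
        ¬ Subgroup.normalizer (A : Set G) ≤ M) ∧
      ∀ X : Subgroup G, X ≤ A → Nat.card X = p → Cfsg.sigmaCore M ⊓ Subgroup.centralizer (X : Set G) ≠ ⊥ → (Subgroup.centralizer (X : Set G) ≤ M ∧ ∀ L : Subgroup G, IsCoatom L → Subgroup.centralizer (X : Set G) ≤ L → L = M) := by
  obtain ⟨hAE, hAe, hA2⟩ := hA
  have h := OddLocal.isTauPair_of_tau2 hG hM hp ⟨hAE.trans hE.1, hAe, hA2⟩
  have he := h.isExceptional hG hM
  have hn := he.le_normalizer_of_compl hG hM hE hAE
  have hpg := Coprime.ea_isPGroup hAe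
  refine ⟨⟨hn, fun X hXE hXc => ?_⟩, ⟨le_inf (h.cent_le hG hM)
    (Subgroup.centralizer_le_normalizer _), ?_, ?_⟩, fun X hXA hXc hX => ?_⟩
  · have hXg : IsPGroup p X := IsPGroup.of_card (n := 1) (by rw [pow_one, hXc])
    obtain ⟨PE, hPE⟩ := OddLocal.exists_sylow_ge hXg hXE
    obtain ⟨P, hP⟩ := OddLocal.compl_sylow_exists hG hM hE PE h.not_sigma
    have hAP : A ≤ (P : Subgroup M).map M.subtype := by
      haveI : (A.comap E.subtype).Normal := Subgroup.normal_subgroupOf_of_le_normalizer hn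
      rw [hP]
      intro a ha
      exact ⟨⟨a, hAE ha⟩, (hpg.comap_of_injective E.subtype E.subtype_injective).le_sylow_of_normal PE
        (show (⟨a, hAE ha⟩ : E) ∈ A.comap E.subtype from ha), rfl⟩
    intro x hx
    refine ((he.structure_of_sylow hG hM P hAP).1 x (hP ▸ hPE hx)).mp ?_
    have h1 := pow_card_eq_one' (x := (⟨x, hx⟩ : X))
    rw [hXc] at h1
    exact congrArg Subtype.val h1
  · refine le_antisymm ?_ (le_inf hE.1 hn)
    intro m hm
    obtain ⟨e, hee, k, hk, rfl⟩ := hE.2.2.2 m hm.1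
    have hkN : k ∈ Subgroup.normalizer (A : Set G) := by
      have := (Subgroup.normalizer (A : Set G)).mul_mem
        ((Subgroup.normalizer (A : Set G)).inv_mem (hn hee)) hm.2
      rwa [inv_mul_cancel_left] at this
    suffices hk1 : k = 1 by rw [hk1, mul_one]; exact hee
    have hc : k ∈ Cfsg.sigmaCore M ⊓ Subgroup.centralizer (A : Set G) := by
      refine ⟨hk, Subgroup.mem_centralizer_iff.mpr fun a ha => ?_⟩
      have h1 : k * a * k⁻¹ * a⁻¹ ∈ A :=
        A.mul_mem ((Subgroup.mem_normalizer_iff.mp hkN a).mp ha) (A.inv_mem ha)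
      have h2 : k * a * k⁻¹ * a⁻¹ ∈ Cfsg.sigmaCore M := by
        have h4 := (Cfsg.sigmaCore M).mul_mem hk ((Subgroup.mem_normalizer_iff.mp
          (OddLocal.le_normalizer_sigmaCore M (h.le ha)) k⁻¹).mp ((Cfsg.sigmaCore M).inv_mem hk))
        simpa [mul_assoc] using h4
      have h3 : k * a * k⁻¹ * a⁻¹ ∈ (⊥ : Subgroup G) := by
        rw [← Coprime.inf_eq_bot_of_coprime (h.coprime_sigma hG hM (le_refl (Cfsg.sigmaCore M)))]
        exact ⟨h1, h2⟩
      rw [Subgroup.mem_bot, mul_inv_eq_one, mul_inv_eq_iff_eq_mul] at h3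
      exact h3.symm
    rw [h.fixed_eq_bot hG hM, Subgroup.mem_bot] at hc
    exact hc
  · intro hle
    obtain ⟨P, hAP⟩ := OddLocal.exists_sylow_ge hpg h.le
    obtain ⟨n, hn', hnM⟩ := OddLocal.exists_not_mem_normalizer hG hM h.dvd_card h.not_sigma P
    exact hnM (hle ((he.structure_of_sylow hG hM P hAP).2.1 hn'))
  · exact h.unique_centralizer hG hM hXA hX
      (fun e => by rw [e, Subgroup.card_bot] at hXc; exact (Fact.out : p.Prime).ne_one hXc.symm)

end Cfsg.Agent.S1418
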