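import Cfsg.Statements.S1414
import Cfsg.Agent.OddLocal.BetaCore
-- import your own Cfsg.Agent.* helpers here

set_option autoImplicit false
open Cfsg

namespace Cfsg.Agent.S1414

/-- Let G be a minimal simple group of odd order, M a maximal subgroup, β(M) the set of ideal primes in α(M), and M_β = O_{β(M)}(M). Then M_β is a Hall β(M)-subgroup of M and of G; M' and M_σ each have a nilpotent Hall β(M)'-subgroup; and for each prime p dividing the order of M with p ∉ β(M), both M' and M_σ have normal p-complements and every prime dividing the index of O_{p'}(M) in M is at most p. -/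
theorem result {G : Type*} [Group G] [Finite G] (hG : Cfsg.IsMinSimpleOddOrder G)
    (M : Subgroup G) (hM : IsCoatom M) :
    Cfsg.IsPiHallOf (Cfsg.beta M) (Cfsg.piCoreOf (Cfsg.beta M) M) M ∧ Cfsg.IsPiHall (Cfsg.beta M) (Cfsg.piCoreOf (Cfsg.beta M) M) ∧
      (∃ H : Subgroup G, Cfsg.IsPiHallOf {q | q.Prime ∧ q ∉ Cfsg.beta M} H ⁅M, M⁆ ∧ Group.IsNilpotent H) ∧
      (∃ H : Subgroup G, Cfsg.IsPiHallOf {q | q.Prime ∧ q ∉ Cfsg.beta M} H (Cfsg.sigmaCore M) ∧ Group.IsNilpotent H) ∧
      ∀ p : ℕ, p.Prime → p ∣ Nat.card M → p ∉ Cfsg.beta M →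
        Cfsg.HasNormalPComplement p ↥⁅M, M⁆ ∧ Cfsg.HasNormalPComplement p ↥(Cfsg.sigmaCore M) ∧
        ∀ q : ℕ, q.Prime → q ∣ (Cfsg.pPrimeCore p ↥M).index → q ≤ p := by
  classical
  haveI : Group.IsSolvable M := hG.2.2.2 M hM.1
  have hoddM : Odd (Nat.card M) := hG.1.of_dvd_nat (Subgroup.card_subgroup_dvd_card M)
  have hβσ : Cfsg.beta M ⊆ Cfsg.sigma M := fun q hq => OddLocal.alpha_subset_sigma hG hM hq.1
  have key : ∀ q : ℕ, q.Prime → q ∣ Nat.card M → q ∉ Cfsg.beta M →
      Cfsg.HasNormalPComplement q ↥(commutator M) ∧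
      ∀ r : ℕ, r.Prime → r ∣ (Cfsg.pPrimeCore q ↥M).index → r ≤ q := by
    intro q hq hqM hqb
    haveI := Fact.mk hq
    obtain ⟨P⟩ : Nonempty (Sylow q M) := inferInstance
    have h := Cfsg.Agent.S1455.result (G := M) hoddM q hqM P
      (OddLocal.sylow_narrow_of_not_beta hG hM hqM hqb P)
      (fun _ => OddLocal.pLengthLE_one_of_coatom hG hM)
    exact ⟨h.2.2.1, h.1⟩
  have hcm : ∀ q : ℕ, q.Prime → q ∣ Nat.card (commutator M) → q ∉ Cfsg.beta M →
      Cfsg.HasNormalPComplement q ↥(commutator M) := fun q hq hd hb =>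
    (key q hq (hd.trans (Subgroup.card_subgroup_dvd_card _)) hb).1
  -- the `β`-core of `M'`
  set M' := commutator M with hM'
  set K := Cfsg.piCore (Cfsg.beta M) M' with hK
  let S : Set ℕ := {q | q.Prime ∧ q ∣ Nat.card M' ∧ q ∉ Cfsg.beta M}
  let K₀ : Subgroup M' := ⨅ q ∈ S, Cfsg.pResidual q M'
  haveI hK₀n : K₀.Normal := Subgroup.normal_iInf_normal fun q => Subgroup.normal_iInf_normal
    fun _ => inferInstance
  have hK₀K : K₀ ≤ K := by
    refine le_sSup ⟨hK₀n, fun r hr hd => ?_⟩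
    by_contra hrb
    haveI := Fact.mk hr
    have hrS : r ∈ S := ⟨hr, hd.trans (Subgroup.card_subgroup_dvd_card _), hrb⟩
    have h1 : r ∣ Nat.card (Cfsg.pResidual r M') :=
      hd.trans (Subgroup.card_dvd_of_le (iInf₂_le r hrS))
    exact hr.ne_one (Nat.eq_one_of_dvd_coprimes
      (Fusion.coprime_card_pResidual_of_hasNormalPComplement (hcm r hr hrS.2.1 hrb)) h1 dvd_rfl)
  have hmemK : ∀ (q : ℕ), q ∈ Cfsg.beta M → ∀ x : M', (∃ k : ℕ, x ^ q ^ k = 1) → x ∈ K := by
    rintro q hq x ⟨k, hk⟩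
    refine hK₀K ?_
    simp only [K₀, Subgroup.mem_iInf]
    intro r hr
    haveI := Fact.mk hr.1
    refine Fusion.mem_pResidual_of_coprime ?_
    refine Nat.Coprime.coprime_dvd_left (orderOf_dvd_of_pow_eq_one hk) (Nat.Coprime.pow_left k ?_)
    exact (Nat.coprime_primes hq.1.1 hr.1).mpr fun h => hr.2.2 (h ▸ hq)
  have hKKM : K.map M'.subtype ≤ Cfsg.piCore (Cfsg.beta M) M := by
    haveI : K.Characteristic := OddLocal.piCore_characteristic _
    refine le_sSup ⟨inferInstance, fun r hr hd => ?_⟩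
    rw [Subgroup.card_map_of_injective M'.subtype_injective] at hd
    exact OddLocal.piNum_piCore (Cfsg.beta M) r hr hd
  have hHallOf : Cfsg.IsPiHallOf (Cfsg.beta M) (Cfsg.piCoreOf (Cfsg.beta M) M) M := by
    refine OddLocal.isPiHallOf_piCoreOf fun q hq _ P x hx => ?_
    have hxM' : x ∈ M' := OddLocal.sylow_le_commutator_self hG hM (hβσ hq) P hx
    obtain ⟨k, hk⟩ := P.2 ⟨x, hx⟩
    exact hKKM ⟨⟨x, hxM'⟩, hmemK q hq ⟨x, hxM'⟩ ⟨k, Subtype.ext (by
      simpa using congrArg Subtype.val hk)⟩, rfl⟩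
  -- nilpotent Hall complements in subgroups of `M'`
  have hnilp : ∀ L : Subgroup M', ∃ H : Subgroup G,
      Cfsg.IsPiHallOf {q | q.Prime ∧ q ∉ Cfsg.beta M} H ((L.map M'.subtype).map M.subtype) ∧
        Group.IsNilpotent H := by
    intro L
    set KL := K.subgroupOf L with hKL
    haveI : KL.Normal := inferInstance
    have hKLb : ∀ r : ℕ, r.Prime → r ∣ Nat.card KL → r ∈ Cfsg.beta M := fun r hr hd => by
      refine OddLocal.piNum_piCore (G := M') (Cfsg.beta M) r hr (hd.trans ?_)
      rw [hKL, ← Subgroup.inf_subgroupOf_right,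
        Nat.card_congr (Subgroup.subgroupOfEquivOfLe inf_le_right).toEquiv]
      exact Subgroup.card_dvd_of_le inf_le_left
    have hidx : ∀ r : ℕ, r.Prime → r ∈ Cfsg.beta M → ¬ r ∣ KL.index := by
      intro r hr hrb hd
      haveI := Fact.mk hr
      obtain ⟨P⟩ : Nonempty (Sylow r L) := inferInstance
      refine P.not_dvd_index (hd.trans (Subgroup.index_dvd_of_le fun x hx => ?_))
      obtain ⟨k, hk⟩ := P.2 ⟨x, hx⟩
      exact Subgroup.mem_subgroupOf.mpr (hmemK r hrb x ⟨k, by
        simpa using congrArg (fun y : (P : Subgroup L) => ((y : L) : M')) hk⟩)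
    have hco : Nat.Coprime (Nat.card KL) KL.index := Nat.coprime_of_dvd fun r hr h1 h2 =>
      hidx r hr (hKLb r hr h1) h2
    obtain ⟨H, hH⟩ := Subgroup.exists_right_complement'_of_coprime hco
    let f : L →* G := (M.subtype.comp M'.subtype).comp L.subtype
    have hf : Function.Injective f := (M.subtype_injective.comp M'.subtype_injective).comp
      L.subtype_injective
    have hrange : (L.map M'.subtype).map M.subtype = (⊤ : Subgroup L).map f := by
      rw [← MonoidHom.range_eq_map, Subgroup.map_map]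
      ext x
      constructor
      · rintro ⟨y, hy, rfl⟩
        exact ⟨⟨y, hy⟩, rfl⟩
      · rintro ⟨y, rfl⟩
        exact ⟨y, y.2, rfl⟩
    refine ⟨H.map f, ⟨?_, ?_, ?_⟩, ?_⟩
    · rw [hrange]
      exact Subgroup.map_mono le_top
    · intro r hr hd
      rw [Subgroup.card_map_of_injective hf, ← hH.symm.index_eq_card] at hd
      exact ⟨hr, fun hb => hidx r hr hb hd⟩
    · rintro r hr ⟨-, hb⟩ hd
      rw [hrange, Subgroup.relIndex_map_map_of_injective _ _ hf, Subgroup.relIndex_top_right,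
        hH.index_eq_card] at hd
      exact hb (hKLb r hr hd)
    · suffices hHn : Group.IsNilpotent H from
        @Group.nilpotent_of_mulEquiv _ _ _ _ hHn (H.equivMapOfInjective f hf)
      let S' : Type := {q : ℕ // q ∈ S}
      haveI : Finite S' := Finite.of_injective
        (fun q : S' => (⟨q.1, Nat.lt_succ_of_le (Nat.le_of_dvd Nat.card_pos q.2.2.1)⟩ :
          Fin (Nat.card M' + 1))) fun a b h => Subtype.ext (congrArg Fin.val h :)
      let φ : H →* ((q : S') → M' ⧸ Cfsg.pResidual q.1 M') := Pi.monoidHom fun q =>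
        ((QuotientGroup.mk' (Cfsg.pResidual q.1 M')).comp L.subtype).comp H.subtype
      have hφ : Function.Injective φ := by
        rw [← MonoidHom.ker_eq_bot_iff, eq_bot_iff]
        intro h hh
        have h1 : ((h : L) : M') ∈ K₀ := by
          simp only [K₀, Subgroup.mem_iInf]
          intro q hq
          exact (QuotientGroup.eq_one_iff _).mp (congrFun (MonoidHom.mem_ker.mp hh) ⟨q, hq⟩ :)
        have h2 : (h : L) ∈ KL ⊓ H := ⟨Subgroup.mem_subgroupOf.mpr (hK₀K h1), h.2⟩
        rw [hH.disjoint.eq_bot, Subgroup.mem_bot] at h2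
        exact Subgroup.mem_bot.mpr (Subtype.ext h2)
      haveI : ∀ q : S', Group.IsNilpotent (M' ⧸ Cfsg.pResidual q.1 M') := fun q => by
        haveI := Fact.mk q.2.1
        exact (Fusion.isPGroup_quotient_pResidual (p := q.1)).isNilpotent
      exact Group.nilpotent_of_mulEquiv (MonoidHom.ofInjective hφ).symm
  have hMM : ((⊤ : Subgroup M').map M'.subtype).map M.subtype = ⁅M, M⁆ := by
    rw [← MonoidHom.range_eq_map, Subgroup.range_subtype, hM', Subgroup.map_subtype_commutator]
  have hσle := OddLocal.sigma_le_commutator hG hM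
  have hMσ : (((Cfsg.piCore (Cfsg.sigma M) M).subgroupOf M').map M'.subtype).map M.subtype =
      Cfsg.sigmaCore M := by
    rw [Subgroup.map_subgroupOf_eq_of_le hσle]
    rfl
  refine ⟨hHallOf, OddLocal.isPiHall_of_sigma hG hM hβσ hHallOf, hMM ▸ hnilp _, hMσ ▸ hnilp _,
    fun p hp hpM hpb => ?_⟩
  haveI := Fact.mk hp
  obtain ⟨h1, h2⟩ := key p hp hpM hpb
  refine ⟨?_, ?_, h2⟩
  · have e : M' ≃* ↥⁅M, M⁆ := (M'.equivMapOfInjective M.subtype M.subtype_injective).trans
      (MulEquiv.subgroupCongr (by rw [hM', Subgroup.map_subtype_commutator]))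
    exact (Fusion.hasNormalPComplement_congr e).mp h1
  · have e : ↥(Cfsg.piCore (Cfsg.sigma M) M) ≃* ↥(Cfsg.sigmaCore M) :=
      (Cfsg.piCore (Cfsg.sigma M) M).equivMapOfInjective M.subtype M.subtype_injective
    exact (Fusion.hasNormalPComplement_congr e).mp
      (Fusion.hasNormalPComplement_of_injective (Subgroup.inclusion hσle)
        (Subgroup.inclusion_injective hσle) h1)

end Cfsg.Agent.S1414
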