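import Cfsg.Statements.S1525
import Cfsg.Agent.Coherence.Dade

set_option autoImplicit false
open Cfsg

namespace Cfsg.Agent.S1525

/-- Under the Dade hypothesis for (A, L, H), let χ be a class function of G and let ψ be a function on L whose value at each a ∈ A is the average of χ over the coset a·H(a). Then (1/|G|) Σ |χ g|² over the elements g of G conjugate into some coset a·H(a) with a ∈ A is at least (1/|L|) Σ_{a ∈ A ∩ L} |ψ a|². -/
theorem result {G : Type*} [Group G] [Fintype G] (A : Set G) (L : Subgroup G) [Fintype L] (H : G → Subgroup G) (hD : Cfsg.DadeHypothesis A L H) (χ : G → ℂ) (hχ : Cfsg.IsClassFunction G χ) (ψ : L → ℂ) (hψ : ∀ a : L, (a : G) ∈ A → ψ a = (Nat.card (H a) : ℂ)⁻¹ * ∑ᶠ u ∈ (H a : Set G), χ (a * u)) : (Nat.card L : ℝ)⁻¹ * ∑ᶠ a ∈ {a : L | (a : G) ∈ A}, ‖ψ a‖ ^ 2 ≤ (Nat.card G : ℝ)⁻¹ * ∑ᶠ g ∈ {g : G | ∃ a ∈ A, ∃ u ∈ H a, ∃ x : G, x * g * x⁻¹ = a * u}, ‖χ g‖ ^ 2 := by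
  classical
  have hcount := Coherence.Dade.sum_support hD (fun g => ((‖χ g‖ ^ 2 : ℝ) : ℂ))
    (fun g k => by simp [hχ g k])
  have hreal : (Nat.card L : ℝ) *
      ∑ g ∈ Finset.univ.filter (· ∈ Coherence.Dade.support A H), ‖χ g‖ ^ 2 =
      (Nat.card G : ℝ) * ∑ a ∈ Finset.univ.filter (fun a : L => (a : G) ∈ A),
        (Nat.card (H (a : G)) : ℝ)⁻¹ *
          ∑ u ∈ Finset.univ.filter (· ∈ H (a : G)), ‖χ ((a : G) * u)‖ ^ 2 := by
    apply Complex.ofReal_injective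
    push_cast
    push_cast at hcount
    exact hcount
  rw [finsum_mem_eq_finite_toFinset_sum _ (Set.toFinite _),
    finsum_mem_eq_finite_toFinset_sum _ (Set.toFinite _)]
  have hs1 : (Set.toFinite {a : L | (a : G) ∈ A}).toFinset =
      Finset.univ.filter (fun a : L => (a : G) ∈ A) := by ext; simp
  have hs2 : (Set.toFinite {g : G | ∃ a ∈ A, ∃ u ∈ H a, ∃ x : G, x * g * x⁻¹ = a * u}).toFinset =
      Finset.univ.filter (· ∈ Coherence.Dade.support A H) := by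
    ext g; simp only [Set.Finite.mem_toFinset, Finset.mem_filter, Finset.mem_univ, true_and]; rfl
  rw [hs1, hs2]
  have hL : (0 : ℝ) < Nat.card L := Nat.cast_pos.2 Nat.card_pos
  have hG : (0 : ℝ) < Nat.card G := Nat.cast_pos.2 Nat.card_pos
  have hle : ∑ a ∈ Finset.univ.filter (fun a : L => (a : G) ∈ A), ‖ψ a‖ ^ 2 ≤
      ∑ a ∈ Finset.univ.filter (fun a : L => (a : G) ∈ A),
        (Nat.card (H (a : G)) : ℝ)⁻¹ *
          ∑ u ∈ Finset.univ.filter (· ∈ H (a : G)), ‖χ ((a : G) * u)‖ ^ 2 := by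
    refine Finset.sum_le_sum fun a ha => ?_
    have ha' : (a : G) ∈ A := (Finset.mem_filter.1 ha).2
    rw [hψ a ha', finsum_mem_eq_finite_toFinset_sum _ (Set.toFinite _)]
    have hs : (Set.toFinite (H (a : G) : Set G)).toFinset =
        Finset.univ.filter (· ∈ H (a : G)) := by ext; simp
    rw [hs]
    set T := Finset.univ.filter (· ∈ H (a : G)) with hT
    have hcard : (T.card : ℝ) = Nat.card (H (a : G)) := by
      rw [Nat.card_eq_fintype_card, Fintype.card_subtype, hT]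
    have hpos : (0 : ℝ) < Nat.card (H (a : G)) := Nat.cast_pos.2 Nat.card_pos
    rw [norm_mul, norm_inv, Complex.norm_natCast, mul_pow, pow_two ((Nat.card (H (a : G)) : ℝ)⁻¹),
      mul_assoc]
    refine mul_le_mul_of_nonneg_left ?_ (by positivity)
    rw [inv_mul_le_iff₀ hpos, ← hcard]
    calc ‖∑ u ∈ T, χ ((a : G) * u)‖ ^ 2 ≤ (∑ u ∈ T, ‖χ ((a : G) * u)‖) ^ 2 :=
          pow_le_pow_left₀ (norm_nonneg _) (norm_sum_le _ _) 2
      _ ≤ _ := sq_sum_le_card_mul_sum_sq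
  have hgoal : ∀ s t : ℝ, s ≤ t → ∀ w : ℝ, (Nat.card L : ℝ) * w = (Nat.card G : ℝ) * t →
      (Nat.card L : ℝ)⁻¹ * s ≤ (Nat.card G : ℝ)⁻¹ * w := by
    intro s t hst w hw
    rw [inv_mul_le_iff₀ hL, mul_left_comm, hw, inv_mul_cancel_left₀ hG.ne']
    exact hst
  exact hgoal _ _ hle _ hreal

end Cfsg.Agent.S1525
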