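import Cfsg.Statements.S1352
import Cfsg.Agent.OddLocal.KappaDecomp
-- import your own Cfsg.Agent.* helpers here

set_option autoImplicit false
open Cfsg Cfsg.Agent Cfsg.Agent.OddLocal Subgroup

namespace Cfsg.Agent.S1352

/-- Let G be a minimal simple group of odd order, M a maximal subgroup and K a cyclic Hall κ(M)-subgroup of M. Then there is a subgroup U of M, normalized by K, with U ∩ K M_σ = 1 and M = U K M_σ; moreover U M_σ is normal in M for any such U. -/
theorem result {G : Type*} [Group G] [Finite G] (hG : Cfsg.IsMinSimpleOddOrder G)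
    (M : Subgroup G) (hM : IsCoatom M) (K : Subgroup G)
    (hKc : IsCyclic K) (hK : Cfsg.IsPiHallOf (Cfsg.kappa M) K M) :
    (∃ U : Subgroup G, Cfsg.IsSigmaDecomposition M K U) ∧
      ∀ U : Subgroup G, Cfsg.IsSigmaDecomposition M K U → M ≤ Subgroup.normalizer ((U ⊔ Cfsg.sigmaCore M : Subgroup G) : Set G) := by
  obtain ⟨E, hE, hKE⟩ := exists_compl_ge_of_not_sigma hG hM hK.1
    (fun s hs hd => (hK.2.1 s hs hd).2.2.1)
  refine ⟨?_, fun U hU => ?_⟩
  · by_cases hK1 : K = ⊥
    · refine ⟨E, hKc, hK, ?_, ?_⟩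
      · rw [hK1, bot_sup_eq]; exact hE
      · rw [hK1]; exact bot_le
    · obtain ⟨-, -, ⟨U, hUE, hUn, hUK, -, hU, -⟩, -⟩ := kappa_structure hG hM hE hK hK1 hKE
      have hKn : K ≤ normalizer (Cfsg.sigmaCore M : Set G) :=
        hK.1.trans (le_normalizer_sigmaCore M)
      refine ⟨U, hKc, hK, ⟨hUE.trans hE.1, sup_le hK.1 (sigmaCore_le M), ?_, fun m hm => ?_⟩,
        hKE.trans hUn⟩
      · refine Coprime.inf_eq_bot_of_coprime (Nat.coprime_of_dvd fun s hs h1 h2 => ?_)
        rcases hs.dvd_mul.mp (h2.trans (sup_comm K (Cfsg.sigmaCore M) ▸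
          card_sup_dvd_mul hKn)) with h | h
        · exact (hU.2.1 s hs h1).2.2 (piNum_sigmaCore M s hs h)
        · exact (hU.2.1 s hs h1).2.1 (hK.2.1 s hs h)
      · obtain ⟨a, ha, b, hb, rfl⟩ := hE.2.2.2 m hm
        obtain ⟨u, hu, k, hk, rfl⟩ :=
          (Coprime.mem_sup_of_le_normalizer (hKE.trans hUn)).mp (hUK ha)
        exact ⟨u, hu, k * b, mul_mem (mem_sup_left hk) (mem_sup_right hb), by group⟩
  · obtain ⟨hE', -⟩ := sigmaDecomposition_compl hG hM hU
    intro m hm
    obtain ⟨a, ha, b, hb, rfl⟩ := hE'.2.2.2 m hm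
    refine mul_mem ?_ (Subgroup.le_normalizer (mem_sup_right hb))
    refine mem_normalizer_of_map_conj ?_
    rw [Subgroup.map_sup, map_conj_eq_self_of_mem (sup_le Subgroup.le_normalizer hU.normal ha),
      map_conj_eq_self_of_mem (le_normalizer_sigmaCore M (hE'.1 ha))]

end Cfsg.Agent.S1352
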