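import Cfsg.Statements.S1376
import Cfsg.Agent.OddLocal.SupportKappa
import Cfsg.Agent.OddLocal.SupportSigma
import Cfsg.Agent.OddLocal.KappaFixed
-- import your own Cfsg.Agent.* helpers here

set_option autoImplicit false
open Cfsg Cfsg.Agent Cfsg.Agent.OddLocal Subgroup

namespace Cfsg.Agent.S1376

/-- Let G be a minimal simple group of odd order, M a maximal subgroup, x ≠ 1 in M_σ with C_G(x) not contained in M, and N a maximal subgroup containing C_G(x) with κ(N) nonempty. Then κ(M) is empty, M has a cyclic Frobenius complement (M is a Frobenius group), and M_F is not a TI-subset of G. -/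
theorem result {G : Type*} [Group G] [Finite G] (hG : Cfsg.IsMinSimpleOddOrder G)
    (M : Subgroup G) (hM : IsCoatom M) (x : G) (hx : x ∈ Cfsg.sigmaCore M) (hx1 : x ≠ 1) (hxM : ¬ Subgroup.centralizer ({x} : Set G) ≤ M)
    (N : Subgroup G) (hN : IsCoatom N) (hxN : Subgroup.centralizer ({x} : Set G) ≤ N) (hkN : (Cfsg.kappa N).Nonempty) :
    Cfsg.kappa M = ∅ ∧ (∃ E : Subgroup ↥M, Cfsg.IsFrobeniusComplement E ∧ IsCyclic E) ∧ ¬ Cfsg.IsTISubset (Cfsg.fittingHallOf M : Set G) := by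
  obtain ⟨N', hN', -, -, huniq, h2, hMN, -, -⟩ := exists_support hG hM hx hx1 hxM
  obtain rfl : N = N' := huniq N hN hxN
  obtain ⟨p, hp, hpd⟩ := Nat.exists_prime_and_dvd (mt orderOf_eq_one_iff.mp hx1)
  haveI := Fact.mk hp
  have hp2 := h2 p hp hpd
  obtain ⟨K, hK, -, hKE⟩ := exists_kappa_hall hG hN hMN (bot_le : (⊥ : Subgroup G) ≤ M ⊓ N)
    (fun l hl hd => absurd (card_bot (G := G) ▸ hd) hl.not_dvd_one)
  have hK1 : K ≠ ⊥ := by
    obtain ⟨q, hq⟩ := hkN
    intro e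
    refine hK.2.2 q hq.1 hq ?_
    rw [e, relIndex_bot_left]
    exact hq.2.1
  obtain ⟨U, h, hUK⟩ := exists_decomp_in_compl hG hN hMN hK hK1 hKE
  obtain ⟨A, hAE, hA⟩ := exists_plane_in_compl hG hN hMN hp2
  obtain ⟨-, hUp⟩ := sigmaDecomposition_compl hG hN h
  have hpκ : p ∉ Cfsg.kappa N := fun hc => by
    rcases kappa_tau13 hG hN hc with h' | h'
    · exact hp2.2.2.2 h'.2.2.2.2
    · exact hp2.2.2.2 h'.2.2.2
  have hAU : A ≤ U := by
    refine mem_of_isPiHallOf_normal (π := {s | s ∉ Cfsg.kappa N}) (M := U ⊔ K)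
      ⟨le_sup_left, fun s hs hd => (hUp s hs hd).1, fun s hs hsκ hd => ?_⟩
      (sigmaDecomposition_structure hG hN h hK1).2.1 (hUK ▸ hAE) (fun s hs hd => ?_)
    · have h2 : U.relIndex (U ⊔ K) ∣ Nat.card K := Nat.dvd_of_mul_dvd_mul_left Nat.card_pos
        (Coprime.card_mul_relIndex_of_le (le_sup_left : U ≤ U ⊔ K) ▸ card_sup_dvd_mul h.normal)
      exact hsκ (h.hall.2.1 s hs (hd.trans h2))
    · rw [hA.card] at hd
      rw [(Nat.prime_dvd_prime_iff_eq hs hp).mp (hs.dvd_of_dvd_pow hd)]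
      exact hpκ
  have hpU : p ∣ Nat.card U := (hA.card ▸ dvd_pow_self p two_ne_zero).trans (card_dvd_of_le hAU)
  have hU1 : U ≠ ⊥ := fun e => hp.not_dvd_one (by rwa [e, card_bot] at hpU)
  have hσ : p ∈ Cfsg.sigma M :=
    piNum_sigmaCore M p hp (hpd.trans (Subgroup.orderOf_dvd_natCard _ hx))
  have hUM : U ≤ M := le_sup_left.trans (hUK.le.trans inf_le_left)
  obtain ⟨R, hR⟩ := exists_sylow_ge (M := U) (Coprime.ea_isPGroup hA.elem) hAU
  have hNR : normalizer (((R : Subgroup U).map U.subtype : Subgroup G) : Set G) ≤ M :=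
    normalizer_le_of_not_isCyclic hG hM hσ (R.2.map _) ((map_subtype_le _).trans hUM) fun hc =>
      hA.not_isCyclic (isCyclic_of_le hc hR)
  obtain ⟨-, -, -, L, hmem, hKst, -⟩ := kappa_pair hG hN hK hK1
  have hAσ : A ≤ Cfsg.sigmaCore M :=
    le_sigmaCore_of_isPGroup hG hM (hAU.trans hUM) (Coprime.ea_isPGroup hA.elem) hσ
  obtain ⟨hc, hKD, -, hκ, -⟩ :=
    support_setting hG hM hN h hK1 hU1 hmem.1 hKst.symm hmem.2.1 hpU R hNR hA hAσ
  have hfpf : ∀ {e : G}, e ∈ M ⊓ L → e ≠ 1 → Cfsg.sigmaCore M ⊓ centralizer ({e} : Set G) = ⊥ :=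
    fun {e} he he1 => support_fpf hG hM hN h hK1 hU1 hmem.1 hKst.symm hmem.2.1 hpU R hNR hA hAσ
      he he1
  haveI := support_cyclic hG hM hN h hK1 hU1 hmem.1 hKst.symm hmem.2.1 hpU R hNR hA hAσ
  refine ⟨Set.eq_empty_of_forall_notMem hκ, ⟨(M ⊓ L).subgroupOf M,
    isFrobeniusComplement_of_fpf hG hM hc (ne_bot_of_le_ne_bot hK1 hKD) (fun e he he1 => hfpf he he1),
    (subgroupOfEquivOfLe hc.1).isCyclic.mpr inferInstance⟩, fun hTI => ?_⟩
  obtain ⟨l, hl, hld⟩ := exists_prime_dvd_of_ne_bot hK1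
  haveI := Fact.mk hl
  obtain ⟨⟨y, hy⟩, hyo⟩ := exists_prime_orderOf_dvd_card' l hld
  rw [← orderOf_coe] at hyo
  change orderOf y = l at hyo
  have hy1 : y ≠ 1 := fun e => hl.ne_one (by rw [← hyo, e, orderOf_one])
  have hnil : Group.IsNilpotent (Cfsg.sigmaCore M) := FixedPointFree.isNilpotent_of_fpf hl (c := y)
    (by rw [← hyo, pow_orderOf_eq_one]) (le_normalizer_sigmaCore M (hKD hy).1)
    (Coprime.isSolvable_of_le (sigmaCore_le M) (isSolvable_coatom hG hM)) (hfpf (hKD hy) hy1)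
  rw [fittingHallOf_eq_of_nilpotent hG hM hnil] at hTI
  obtain ⟨c, hc', hcM⟩ := SetLike.not_le_iff_exists.mp hxM
  refine hx1 (hTI c (fun hcn => hcM ?_) x hx ?_)
  · refine (normalizer_eq_of_coatom hG hM (sigmaCore_ne_bot hG hM) (fun e => hM.1 ?_)
      (le_normalizer_sigmaCore M)).le hcn
    exact top_le_iff.mp (e ▸ sigmaCore_le M)
  · rw [mem_centralizer_singleton_iff.mp hc']
    simpa using hx

end Cfsg.Agent.S1376
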