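import Cfsg.Statements.S1531
import Cfsg.Agent.Coherence.Criteria

set_option autoImplicit false
open Cfsg

namespace Cfsg.Agent.S1531

/-- Let N be a subgroup of the finite group G, S a set of irreducible characters of N, and α a linear isometry on the integer combinations of S vanishing at 1 with values virtual characters of G vanishing at 1. Let X, Y ⊆ S be disjoint, each with at least two members, and σ, τ linear isometries on ℤ[X], ℤ[Y] into virtual characters agreeing with α on the members vanishing at 1. Then ⟨σ χ, τ η⟩ = 0 for χ ∈ X, η ∈ Y; and if for some χ₀ ∈ X, η₀ ∈ Y with degrees c = χ₀ 1, e = η₀ 1 one has α (c • η₀ − e • χ₀) = c • τ η₀ − e • σ χ₀, then (X ∪ Y, N minus 1, α) is coherent. -/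
theorem result {G : Type*} [Group G] [Fintype G] (N : Subgroup G) [Fintype N] (S X Y : Set (N → ℂ)) (hirr : ∀ ξ ∈ S, Cfsg.IsIrrCharacter N ξ) (hXS : X ⊆ S) (hYS : Y ⊆ S) (hXY : Disjoint X Y) (hX2 : ∃ a ∈ X, ∃ b ∈ X, a ≠ b) (hY2 : ∃ a ∈ Y, ∃ b ∈ Y, a ≠ b) (α : (N → ℂ) → (G → ℂ)) (hα : Cfsg.IsLinearIsometryOn (Cfsg.zspanOn S {1}ᶜ) α) (hα1 : ∀ θ ∈ Cfsg.zspanOn S {1}ᶜ, α θ 1 = 0) (σ τ : (N → ℂ) → (G → ℂ)) (hσ : Cfsg.IsLinearIsometryOn (Cfsg.zspan X) σ) (hσα : ∀ θ ∈ Cfsg.zspanOn X {1}ᶜ, σ θ = α θ) (hτ : Cfsg.IsLinearIsometryOn (Cfsg.zspan Y) τ) (hτα : ∀ θ ∈ Cfsg.zspanOn Y {1}ᶜ, τ θ = α θ) : (∀ χ ∈ X, ∀ η ∈ Y, Cfsg.classInner (σ χ) (τ η) = 0) ∧ ((∃ χ₀ ∈ X, ∃ η₀ ∈ Y, α (χ₀ 1 • η₀ - η₀ 1 • χ₀) = χ₀ 1 • τ η₀ - η₀ 1 • σ χ₀) → Cfsg.IsCoherent (X ∪ Y) {1}ᶜ α) := by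
  classical
  have hirrX : ∀ χ ∈ X, Cfsg.IsIrrCharacter N χ := fun χ h => hirr χ (hXS h)
  have hirrY : ∀ χ ∈ Y, Cfsg.IsIrrCharacter N χ := fun χ h => hirr χ (hYS h)
  have hsirr : ∀ (T : Set (N → ℂ)) (ρ : (N → ℂ) → (G → ℂ)), (∀ χ ∈ T, Cfsg.IsIrrCharacter N χ) →
      Cfsg.IsLinearIsometryOn (Cfsg.zspan T) ρ → ∀ χ ∈ T, Coherence.SIrr G (ρ χ) := by
    intro T ρ hT hρ χ hχ
    have hz := Coherence.mem_zspan_of_mem hχ
    obtain ⟨μ, e | e⟩ := Char.IsGen.eq_pm_irr (hρ.2.2.2 _ hz)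
      (by rw [hρ.2.2.1 _ hz _ hz, Char.classInner_irr_self (hT χ hχ)])
    · exact Or.inl (e ▸ μ.2)
    · exact Or.inr (by rw [e, neg_neg]; exact μ.2)
  have hdiff : ∀ (T : Set (N → ℂ)), T ⊆ S → ∀ (ρ : (N → ℂ) → (G → ℂ)),
      Cfsg.IsLinearIsometryOn (Cfsg.zspan T) ρ → (∀ θ ∈ Cfsg.zspanOn T {1}ᶜ, ρ θ = α θ) →
      ∀ χ ∈ T, ∀ η ∈ T, ∀ a b : ℕ, χ 1 = (a : ℂ) → η 1 = (b : ℂ) →
        (b : ℂ) • χ - (a : ℂ) • η ∈ Cfsg.zspanOn T {1}ᶜ ∧
        α ((b : ℂ) • χ - (a : ℂ) • η) = (b : ℂ) • ρ χ - (a : ℂ) • ρ η ∧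
        (b : ℂ) * ρ χ 1 = (a : ℂ) * ρ η 1 := by
    intro T hT ρ hρ hρα χ hχ η hη a b ea eb
    have hzχ := Coherence.mem_zspan_of_mem hχ
    have hzη := Coherence.mem_zspan_of_mem hη
    have hm : (b : ℂ) • χ - (a : ℂ) • η ∈ Cfsg.zspanOn T {1}ᶜ :=
      Coherence.mem_zspanOn_compl_one.2 ⟨Coherence.zspan_sub (Coherence.zspan_natCast_smul b hzχ)
        (Coherence.zspan_natCast_smul a hzη), by simp [ea, eb, mul_comm]⟩
    have he : α ((b : ℂ) • χ - (a : ℂ) • η) = (b : ℂ) • ρ χ - (a : ℂ) • ρ η := by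
      rw [← hρα _ hm, Coherence.iso_zspan_sub hρ (Coherence.zspan_natCast_smul b hzχ)
        (Coherence.zspan_natCast_smul a hzη), Coherence.iso_zspan_natCast hρ b hzχ,
        Coherence.iso_zspan_natCast hρ a hzη]
    refine ⟨hm, he, ?_⟩
    have := hα1 _ (Coherence.zspanOn_mono hT hm)
    rw [he] at this
    simpa [sub_eq_zero] using this
  have hzero : ∀ χ ∈ X, ∀ η ∈ Y, Cfsg.classInner (σ χ) (τ η) = 0 := by
    intro χ hχ η hη
    obtain ⟨χ', hχ', hne⟩ : ∃ χ' ∈ X, χ' ≠ χ := by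
      obtain ⟨a, ha, b, hb, hab⟩ := hX2
      rcases eq_or_ne a χ with rfl | h
      · exact ⟨b, hb, hab.symm⟩
      · exact ⟨a, ha, h⟩
    obtain ⟨η', hη', hne'⟩ : ∃ η' ∈ Y, η' ≠ η := by
      obtain ⟨a, ha, b, hb, hab⟩ := hY2
      rcases eq_or_ne a η with rfl | h
      · exact ⟨b, hb, hab.symm⟩
      · exact ⟨a, ha, h⟩
    obtain ⟨a, ha, ea⟩ := Char.IsIrr.degree (hirrX χ hχ)
    obtain ⟨a', ha', ea'⟩ := Char.IsIrr.degree (hirrX χ' hχ')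
    obtain ⟨b, hb, eb⟩ := Char.IsIrr.degree (hirrY η hη)
    obtain ⟨b', hb', eb'⟩ := Char.IsIrr.degree (hirrY η' hη')
    obtain ⟨hm1, he1, h11⟩ := hdiff X hXS σ hσ hσα χ hχ χ' hχ' a a' ea ea'
    obtain ⟨hm2, he2, h22⟩ := hdiff Y hYS τ hτ hτα η hη η' hη' b b' eb eb'
    have hxy : ∀ p ∈ X, ∀ q ∈ Y, Cfsg.classInner p q = 0 := fun p hp q hq =>
      Char.classInner_irr_ne (hirrX p hp) (hirrY q hq)
        (fun e => Set.disjoint_left.1 hXY hp (e ▸ hq))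
    have hmix : Cfsg.classInner
        (((a' : ℝ) : ℂ) • σ χ - ((a : ℝ) : ℂ) • σ χ')
        (((b' : ℝ) : ℂ) • τ η - ((b : ℝ) : ℂ) • τ η') = 0 := by
      simp only [Complex.ofReal_natCast]
      rw [← he1, ← he2, hα.2.2.1 _ (Coherence.zspanOn_mono hXS hm1) _
        (Coherence.zspanOn_mono hYS hm2)]
      simp [Char.classInner_sub_left, Char.classInner_sub_right, Char.classInner_smul_left,
        Char.classInner_smul_right, hxy _ hχ _ hη, hxy _ hχ _ hη', hxy _ hχ' _ hη,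
        hxy _ hχ' _ hη']
    refine Coherence.signed_cross_weighted (hsirr X σ hirrX hσ χ hχ) (hsirr X σ hirrX hσ χ' hχ')
      (hsirr Y τ hirrY hτ η hη) (hsirr Y τ hirrY hτ η' hη') a' a b' b
      (Nat.cast_ne_zero.2 ha'.ne') (Nat.cast_ne_zero.2 hb'.ne') ?_ ?_ hmix ?_ ?_
    · rw [hσ.2.2.1 _ (Coherence.mem_zspan_of_mem hχ) _ (Coherence.mem_zspan_of_mem hχ'),
        Char.classInner_irr_ne (hirrX χ hχ) (hirrX χ' hχ') hne.symm]
    · rw [hτ.2.2.1 _ (Coherence.mem_zspan_of_mem hη) _ (Coherence.mem_zspan_of_mem hη'),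
        Char.classInner_irr_ne (hirrY η hη) (hirrY η' hη') hne'.symm]
    · simp only [Complex.ofReal_natCast]; exact h11
    · simp only [Complex.ofReal_natCast]; exact h22
  refine ⟨hzero, ?_⟩
  rintro ⟨χ₀, hχ₀, η₀, hη₀, hhyp⟩
  obtain ⟨a, ha, ea⟩ := Char.IsIrr.degree (hirrX χ₀ hχ₀)
  obtain ⟨b, hb, eb⟩ := Char.IsIrr.degree (hirrY η₀ hη₀)
  rw [ea, eb] at hhyp
  have hXY' : X ∪ Y ⊆ S := Set.union_subset hXS hYS
  have hirrU : ∀ χ ∈ X ∪ Y, Cfsg.IsIrrCharacter N χ := fun χ h => hirr χ (hXY' h)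
  have hfin := Coherence.irr_set_finite hirrU
  set f : (N → ℂ) → (G → ℂ) := fun χ => if χ ∈ X then σ χ else τ χ with hf
  have hfX : ∀ χ ∈ X, f χ = σ χ := fun χ h => by simp [hf, h]
  have hfY : ∀ χ ∈ Y, f χ = τ χ := fun χ h => by
    simp [hf, Set.disjoint_right.1 hXY h]
  obtain ⟨τ₁, hτ₁, hval⟩ := Coherence.exists_isometry_of_basis (S := hfin.toFinset)
    (fun p hp q hq h => Char.classInner_irr_ne (hirrU p (hfin.mem_toFinset.1 hp))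
      (hirrU q (hfin.mem_toFinset.1 hq)) h)
    (fun p hp e => Char.IsIrr.one_ne_zero (hirrU p (hfin.mem_toFinset.1 hp)) (by rw [e]; rfl)) f
    (fun p hp => by
      rcases hfin.mem_toFinset.1 hp with h | h
      · rw [hfX p h]; exact hσ.2.2.2 _ (Coherence.mem_zspan_of_mem h)
      · rw [hfY p h]; exact hτ.2.2.2 _ (Coherence.mem_zspan_of_mem h))
    (fun p hp q hq => by
      rcases hfin.mem_toFinset.1 hp with h | h <;> rcases hfin.mem_toFinset.1 hq with h' | h'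
      · rw [hfX p h, hfX q h',
          hσ.2.2.1 _ (Coherence.mem_zspan_of_mem h) _ (Coherence.mem_zspan_of_mem h')]
      · rw [hfX p h, hfY q h', hzero p h q h', Char.classInner_irr_ne (hirrX p h) (hirrY q h')
          (fun e => Set.disjoint_left.1 hXY h (e ▸ h'))]
      · rw [hfY p h, hfX q h', Coherence.inner_eq_zero_comm (hzero q h' p h),
          Char.classInner_irr_ne (hirrY p h) (hirrX q h')
          (fun e => Set.disjoint_left.1 hXY h' (e ▸ h))]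
      · rw [hfY p h, hfY q h',
          hτ.2.2.1 _ (Coherence.mem_zspan_of_mem h) _ (Coherence.mem_zspan_of_mem h')])
  rw [Set.Finite.coe_toFinset] at hτ₁
  have hsame : ∀ (T : Set (N → ℂ)) (ρ : (N → ℂ) → (G → ℂ)), T ⊆ X ∪ Y →
      Cfsg.IsLinearIsometryOn (Cfsg.zspan T) ρ → (∀ χ ∈ T, f χ = ρ χ) →
      ∀ θ ∈ Cfsg.zspan T, τ₁ θ = ρ θ := by
    intro T ρ hT hρ hfρ θ hθ
    have hr := Coherence.IsLinearIsometryOn.mono hτ₁ (Coherence.zspan_mono hT)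
    refine (Coherence.zspan_induction (P := fun θ => θ ∈ Cfsg.zspan T ∧ τ₁ θ = ρ θ) hθ
      (fun χ hχ => ⟨Coherence.mem_zspan_of_mem hχ, by
        rw [hval χ (hfin.mem_toFinset.2 (hT hχ)), hfρ χ hχ]⟩)
      ⟨Coherence.zspan_zero, by rw [Coherence.iso_map_zero hr Coherence.zspan_zero,
        Coherence.iso_map_zero hρ Coherence.zspan_zero]⟩
      (fun p q hp hq hp' hq' => ⟨Coherence.zspan_add hp hq, by
        rw [hr.1 p hp q hq, hρ.1 p hp q hq, hp'.2, hq'.2]⟩)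
      (fun n p hp hp' => ⟨Coherence.zspan_zsmul n hp, by
        rw [hr.2.1 p hp, hρ.2.1 p hp, hp'.2]⟩)).2
  refine ⟨?_, τ₁, hτ₁, fun θ hθ => ?_⟩
  · obtain ⟨p, hp, q, hq, hpq⟩ := hX2
    obtain ⟨a', ha', ea'⟩ := Char.IsIrr.degree (hirrX p hp)
    obtain ⟨b', hb', eb'⟩ := Char.IsIrr.degree (hirrX q hq)
    obtain ⟨hm1, -, -⟩ := hdiff X hXS σ hσ hσα p hp q hq a' b' ea' eb'
    refine ⟨_, Coherence.zspanOn_mono Set.subset_union_left hm1, fun e => ?_⟩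
    have := congrArg (fun θ => Cfsg.classInner θ p) e
    simp only [Char.classInner_sub_left, Char.classInner_smul_left, Char.classInner_zero_left,
      Char.classInner_irr_self (hirrX p hp),
      Char.classInner_irr_ne (hirrX q hq) (hirrX p hp) hpq.symm, mul_zero, sub_zero, mul_one,
      Nat.cast_eq_zero] at this
    omega
  have hzU : Cfsg.zspan (X ∪ Y) =
      ((Submodule.span ℤ X ⊔ Submodule.span ℤ Y : Submodule ℤ (N → ℂ)) : Set (N → ℂ)) := by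
    rw [← Submodule.span_union]; rfl
  obtain ⟨p, hp, q, hq, hpq⟩ := Submodule.mem_sup.1 (show θ ∈ _ from hzU ▸ hθ.1)
  obtain ⟨k, hk⟩ := Coherence.isGeneralized_one_int (Coherence.isGeneralized_zspan
    (fun χ h => Char.isGeneralized_of_isCharacter (Char.IsIrr.isCharacter (hirrY χ h))) hq)
  have hθ1 := (Coherence.mem_zspanOn_compl_one.1 hθ).2
  rw [← hpq, Pi.add_apply, hk] at hθ1
  have hp1 : p 1 = -(k : ℂ) := eq_neg_of_add_eq_zero_left hθ1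
  set P := (a : ℤ) • p + k • χ₀ with hP
  set Q := (b : ℤ) • q - k • η₀ with hQ
  set E := (a : ℂ) • η₀ - (b : ℂ) • χ₀ with hE
  have hzp : p ∈ Cfsg.zspan X := hp
  have hzq : q ∈ Cfsg.zspan Y := hq
  have hz0 := Coherence.mem_zspan_of_mem hχ₀
  have hw0 := Coherence.mem_zspan_of_mem hη₀
  have hPm : P ∈ Cfsg.zspanOn X {1}ᶜ := Coherence.mem_zspanOn_compl_one.2
    ⟨Coherence.zspan_add (Coherence.zspan_zsmul _ hzp) (Coherence.zspan_zsmul _ hz0),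
      by simp [hP, hp1, ea]; ring⟩
  have hQm : Q ∈ Cfsg.zspanOn Y {1}ᶜ := Coherence.mem_zspanOn_compl_one.2
    ⟨Coherence.zspan_sub (Coherence.zspan_zsmul _ hzq) (Coherence.zspan_zsmul _ hw0),
      by simp [hQ, hk, eb]; ring⟩
  have hux : X ⊆ X ∪ Y := Set.subset_union_left
  have huy : Y ⊆ X ∪ Y := Set.subset_union_right
  have hzE1 : (a : ℂ) • η₀ ∈ Cfsg.zspan (X ∪ Y) :=
    Coherence.zspan_natCast_smul a (Coherence.zspan_mono huy hw0)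
  have hzE2 : (b : ℂ) • χ₀ ∈ Cfsg.zspan (X ∪ Y) :=
    Coherence.zspan_natCast_smul b (Coherence.zspan_mono hux hz0)
  have hEm : E ∈ Cfsg.zspanOn (X ∪ Y) {1}ᶜ := Coherence.mem_zspanOn_compl_one.2
    ⟨Coherence.zspan_sub hzE1 hzE2, by simp [hE, ea, eb, mul_comm]⟩
  have hτE : τ₁ E = α E := by
    rw [hE, hhyp, Coherence.iso_zspan_sub hτ₁ hzE1 hzE2,
      Coherence.iso_zspan_natCast hτ₁ a (Coherence.zspan_mono huy hw0),
      Coherence.iso_zspan_natCast hτ₁ b (Coherence.zspan_mono hux hz0),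
      hval χ₀ (hfin.mem_toFinset.2 (hux hχ₀)), hval η₀ (hfin.mem_toFinset.2 (huy hη₀)),
      hfX χ₀ hχ₀, hfY η₀ hη₀]
  have hPU := Coherence.zspanOn_mono (A := ({1}ᶜ : Set N)) hux hPm
  have hQU := Coherence.zspanOn_mono (A := ({1}ᶜ : Set N)) huy hQm
  have hdec : ((a : ℤ) * b) • θ = (b : ℤ) • P + (a : ℤ) • Q + k • E := by
    rw [← hpq, hP, hQ, hE]; funext x; simp; ring
  have hrhs := Coherence.zspanOn_add (Coherence.zspanOn_zsmul (b : ℤ) hPU)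
    (Coherence.zspanOn_zsmul (a : ℤ) hQU)
  have h1 : τ₁ (((a : ℤ) * b) • θ) = α (((a : ℤ) * b) • θ) := by
    rw [hdec, hτ₁.1 _ hrhs.1 _ (Coherence.zspan_zsmul _ hEm.1),
      hτ₁.1 _ (Coherence.zspan_zsmul _ hPU.1) _ (Coherence.zspan_zsmul _ hQU.1),
      hτ₁.2.1 _ hPU.1, hτ₁.2.1 _ hQU.1, hτ₁.2.1 _ hEm.1, hτE,
      hsame X σ hux hσ hfX P hPm.1, hsame Y τ huy hτ hfY Q hQm.1, hσα P hPm, hτα Q hQm,
      hα.1 _ (Coherence.zspanOn_mono hXY' hrhs) _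
        (Coherence.zspanOn_zsmul _ (Coherence.zspanOn_mono hXY' hEm)),
      hα.1 _ (Coherence.zspanOn_zsmul _ (Coherence.zspanOn_mono hXY' hPU)) _
        (Coherence.zspanOn_zsmul _ (Coherence.zspanOn_mono hXY' hQU)),
      hα.2.1 _ (Coherence.zspanOn_mono hXY' hPU), hα.2.1 _ (Coherence.zspanOn_mono hXY' hQU),
      hα.2.1 _ (Coherence.zspanOn_mono hXY' hEm)]
  rw [hτ₁.2.1 _ hθ.1, hα.2.1 _ (Coherence.zspanOn_mono hXY' hθ)] at h1
  funext g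
  have h2 := congrFun h1 g
  have hab : (a : ℂ) * (b : ℂ) ≠ 0 := by
    exact_mod_cast (Nat.mul_pos ha hb).ne'
  simp at h2
  rcases h2 with h2 | h2
  · exact h2
  · omega

end Cfsg.Agent.S1531
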