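import Cfsg.Statements.S1442
import Cfsg.Agent.Coprime.Basic

set_option autoImplicit false
open Cfsg

namespace Cfsg.Agent.S1442

/-- Let G be a finite group, H a nilpotent subgroup and A a subgroup normalizing H with the orders of A and H coprime. Put C = H ∩ C_G(A). If H ∩ C_G(C) ≤ C then A centralizes H. -/
theorem result {G : Type*} [Group G] [Finite G] (H A : Subgroup G) (hH : Group.IsNilpotent H) (hA : (A ≤ Subgroup.normalizer (H : Set G))) (hcop : (Nat.card A).Coprime (Nat.card H))
    (hC : H ⊓ Subgroup.centralizer (((H ⊓ Subgroup.centralizer (A : Set G)) : Subgroup G) : Set G) ≤ (H ⊓ Subgroup.centralizer (A : Set G))) :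
    A ≤ Subgroup.centralizer (H : Set G) := by
  set C : Subgroup G := H ⊓ Subgroup.centralizer (A : Set G) with hCdef
  by_contra hne
  have hlt : C.subgroupOf H < ⊤ := lt_top_iff_ne_top.mpr fun h => hne
    (Subgroup.le_centralizer_iff.mp ((Subgroup.subgroupOf_eq_top.mp h).trans inf_le_right))
  obtain ⟨x, hx, hxC⟩ := SetLike.exists_of_lt
    (@Group.normalizerCondition_of_isNilpotent _ _ hH _ hlt)
  set N : Subgroup G := H ⊓ Subgroup.normalizer (C : Set G) with hNdef
  have hAC : A ≤ Subgroup.normalizer (C : Set G) :=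
    Cfsg.Agent.Coprime.le_normalizer_inf hA
      (Cfsg.Agent.Coprime.le_normalizer_centralizer Subgroup.le_normalizer)
  have hAN : A ≤ Subgroup.normalizer (N : Set G) :=
    Cfsg.Agent.Coprime.le_normalizer_inf_of_le hA hAC
  have h1 : ⁅⁅A, C⁆, N⁆ = ⊥ := by
    rw [Subgroup.commutator_comm A C,
      Subgroup.commutator_eq_bot_iff_le_centralizer.mpr inf_le_right, Subgroup.commutator_bot_left]
  have h2 : ⁅⁅C, N⁆, A⁆ = ⊥ := by
    rw [Subgroup.commutator_eq_bot_iff_le_centralizer]
    exact (Subgroup.le_normalizer_iff_commutator_le_left.mp inf_le_right).trans inf_le_right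
  have h3 : ⁅⁅N, A⁆, C⁆ = ⊥ := Subgroup.commutator_commutator_eq_bot_of_rotate h1 h2
  rw [Subgroup.commutator_eq_bot_iff_le_centralizer] at h3
  have h4 : ⁅N, A⁆ ≤ Subgroup.centralizer (A : Set G) :=
    ((le_inf ((Cfsg.Agent.Coprime.commutator_le_of_le_normalizer hAN).trans inf_le_left) h3).trans
      hC).trans inf_le_right
  have h5 : ⁅N, A⁆ = ⊥ := by
    rw [← Cfsg.Agent.Coprime.commutator_commutator_eq hAN
      (hcop.coprime_dvd_right (Subgroup.card_dvd_of_le inf_le_left))
      (Or.inr (Cfsg.Agent.Coprime.isSolvable_of_le inf_le_left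
        (by haveI := hH; infer_instance)))]
    exact Subgroup.commutator_eq_bot_iff_le_centralizer.mpr h4
  rw [Subgroup.commutator_eq_bot_iff_le_centralizer] at h5
  refine hxC ?_
  have hxN : (x : G) ∈ N := by
    refine ⟨x.2, ?_⟩
    change (x : G) ∈ Subgroup.normalizer (C : Set G)
    rw [Subgroup.mem_normalizer_iff]
    intro v
    constructor
    · intro hv
      exact (Subgroup.mem_normalizer_iff.mp hx ⟨v, hv.1⟩).mp hv
    · intro hv
      have hvH : v ∈ H := by
        have := H.mul_mem (H.mul_mem (H.inv_mem x.2) hv.1) x.2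
        simpa [mul_assoc] using this
      exact (Subgroup.mem_normalizer_iff.mp hx ⟨v, hvH⟩).mpr hv
  exact ⟨x.2, h5 hxN⟩

end Cfsg.Agent.S1442
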