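import Cfsg.Statements.S1524
import Cfsg.Agent.OddChars.TICoherence

set_option autoImplicit false
open Cfsg

namespace Cfsg.Agent.S1524

/-- Let G be a finite group and H ≤ L subgroups with L of odd order, H ≠ ⊥ nilpotent and normal in L with a nontrivial complement W₁ in L (H ⊓ W₁ = ⊥, H ⊔ W₁ = L) acting on H without non-identity fixed points (L is a Frobenius group with kernel H), and suppose the underlying set of H is a TI-subset of G whose normaliser is L. Let S be the set of functions on L induced from the non-principal irreducible characters of H. Then (S, L minus 1, induction to G) is coherent. -/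
theorem result {G : Type*} [Group G] [Fintype G] (H L W₁ : Subgroup G) [Fintype L] (hodd : Odd (Nat.card L)) (hHL : H ≤ L) (hW₁L : W₁ ≤ L) (hH1 : H ≠ ⊥) (hW1 : W₁ ≠ ⊥) (hnil : Group.IsNilpotent H) (hHn : ∀ x ∈ L, ∀ h ∈ H, x * h * x⁻¹ ∈ H) (hinf : H ⊓ W₁ = ⊥) (hsup : H ⊔ W₁ = L) (hfpf : ∀ w ∈ W₁, w ≠ 1 → ∀ h ∈ H, w * h = h * w → h = 1) (hTI : Cfsg.IsTISubset (H : Set G)) (hN : Subgroup.normalizer (H : Set G) = L) : Cfsg.IsCoherent (Cfsg.inducedIrrAbove (H.subgroupOf L) ⊥) {1}ᶜ (fun α : L → ℂ => Cfsg.indFun L α) := by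
  classical
  subst hN
  -- every element of `L` outside `H` acts without fixed points
  have hfrobL : ∀ h ∈ H, h ≠ 1 → ∀ c ∈ Subgroup.normalizer (H : Set G), c * h = h * c → c ∈ H := by
    intro h hh hh1 c hc hcomm
    rw [← hsup] at hc
    rw [← SetLike.mem_coe, Subgroup.coe_mul_of_right_le_normalizer_left H W₁ hW₁L] at hc
    obtain ⟨a, ha, w, hw, rfl⟩ := Set.mem_mul.1 hc
    by_cases hw1 : w = 1
    · simpa [hw1] using ha
    exfalso
    -- `a * w` is conjugate to `w` under `H`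
    let f : H → H := fun x => ⟨(x : G) * (w * (x : G)⁻¹ * w⁻¹),
      H.mul_mem x.2 (hHn w (hW₁L hw) _ (H.inv_mem x.2))⟩
    have hf : Function.Surjective f := Finite.surjective_of_injective fun x y hxy => by
      have h1 : (x : G) * (w * (x : G)⁻¹ * w⁻¹) = (y : G) * (w * (y : G)⁻¹ * w⁻¹) :=
        congrArg Subtype.val hxy
      have h2 : w * ((y : G)⁻¹ * x) = ((y : G)⁻¹ * x) * w := by
        calc w * ((y : G)⁻¹ * x) = (y : G)⁻¹ * ((y : G) * (w * (y : G)⁻¹ * w⁻¹)) * w * x := by group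
          _ = (y : G)⁻¹ * ((x : G) * (w * (x : G)⁻¹ * w⁻¹)) * w * x := by rw [h1]
          _ = ((y : G)⁻¹ * x) * w := by group
      exact (Subtype.ext (inv_mul_eq_one.1
        (hfpf w hw hw1 _ (H.mul_mem (H.inv_mem y.2) x.2) h2))).symm
    obtain ⟨x, hx⟩ := hf ⟨a, ha⟩
    have h3 : (x : G) * (w * (x : G)⁻¹ * w⁻¹) = a := congrArg Subtype.val hx
    rw [← h3] at hcomm
    have h4 : w * ((x : G)⁻¹ * h * x) = ((x : G)⁻¹ * h * x) * w := by
      calc w * ((x : G)⁻¹ * h * x) = (x : G)⁻¹ * ((x : G) * (w * (x : G)⁻¹ * w⁻¹) * w * h) * x := by group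
        _ = (x : G)⁻¹ * (h * ((x : G) * (w * (x : G)⁻¹ * w⁻¹) * w)) * x := by rw [hcomm]
        _ = ((x : G)⁻¹ * h * x) * w := by group
    have h5 := hfpf w hw hw1 _ (H.mul_mem (H.mul_mem (H.inv_mem x.2) hh) x.2) h4
    apply hh1
    calc h = (x : G) * ((x : G)⁻¹ * h * x) * (x : G)⁻¹ := by group
      _ = 1 := by rw [h5]; group
  have hC : ∀ k ∈ H, k ≠ 1 → Subgroup.centralizer ({k} : Set G) ≤ H := by
    intro k hk hk1 c hc
    rw [Subgroup.mem_centralizer_singleton_iff] at hc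
    refine hfrobL k hk hk1 c (by_contra fun hcL => hk1 (hTI c hcL k hk ?_)) hc
    rw [hc, mul_inv_cancel_right]; exact hk
  have hlt : H < Subgroup.normalizer (H : Set G) := lt_of_le_of_ne hHL fun e => hW1 (eq_bot_iff.2 (hinf ▸ le_inf (e ▸ hW₁L) le_rfl))
  rcases OddChars.ti_trichotomy hTI hlt hH1 hnil hC with ⟨hcard, -⟩ | ⟨P, hP, -⟩ | ⟨-, h⟩
  · exfalso
    have h1 : Odd (Nat.card H) := hodd.of_dvd_nat (Subgroup.card_dvd_of_le hHL)
    have h2 : Odd (H.subgroupOf (Subgroup.normalizer (H : Set G))).index := hodd.of_dvd_nat (Subgroup.index_dvd_card _)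
    rw [hcard] at h1
    exact (Nat.not_even_iff_odd.2 h1) h2.add_one
  · exfalso
    obtain ⟨i, hi⟩ := (hP ▸ P.2 : IsPGroup 2 H).exists_card_eq
    have h1 : Odd (Nat.card H) := hodd.of_dvd_nat (Subgroup.card_dvd_of_le hHL)
    rw [hi] at h1
    rcases i with _ | i
    · exact hH1 (Subgroup.card_eq_one.1 (by rw [hi, pow_zero]))
    · exact absurd h1 (Nat.not_odd_iff_even.2 (Nat.even_pow.2 ⟨even_two, by omega⟩))
  · exact h

end Cfsg.Agent.S1524
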