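import Cfsg.Statements.S1516
import Cfsg.Agent.Coherence.System

set_option autoImplicit false
open Cfsg

namespace Cfsg.Agent.S1516

/-- Let (S, τ, R) be a coherence system from L to G with degrees φ 1 = d φ and squared norms ⟨φ, φ⟩ = n φ for φ ∈ S. Let S₁ ⊆ S be a finite subset closed under complex conjugation such that (S₁, L minus 1, τ) is coherent, let χ ∈ S with χ ∉ S₁ and conj χ ∉ S₁, and let χ₁ ∈ S₁ with d χ₁ dividing d χ and 2 d χ d χ₁ < Σ_{φ ∈ S₁} (d φ)² / n φ. Then S₁ together with χ and conj χ is coherent. -/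
theorem result {L : Type*} [Group L] [Fintype L] {G : Type*} [Group G] [Fintype G] (S : Set (L → ℂ)) (τ : (L → ℂ) → (G → ℂ)) (R : (L → ℂ) → Finset (G → ℂ)) (hS : Cfsg.IsCoherenceSystem S τ R) (d n : (L → ℂ) → ℕ) (hd : ∀ φ ∈ S, φ 1 = (d φ : ℂ)) (hn : ∀ φ ∈ S, Cfsg.classInner φ φ = (n φ : ℂ)) (S₁ : Finset (L → ℂ)) (hS₁ : ↑S₁ ⊆ S) (hS₁c : ∀ φ ∈ S₁, Cfsg.conjFun φ ∈ S₁) (hcoh : Cfsg.IsCoherent (↑S₁ : Set (L → ℂ)) {1}ᶜ τ) (χ : L → ℂ) (hχ : χ ∈ S) (hχ₁ : χ ∉ S₁) (hχ₂ : Cfsg.conjFun χ ∉ S₁) (χ₁ : L → ℂ) (hχ₁S : χ₁ ∈ S₁) (hdvd : d χ₁ ∣ d χ) (hineq : (2 * d χ * d χ₁ : ℝ) < ∑ φ ∈ S₁, ((d φ : ℝ) ^ 2 / (n φ : ℝ))) : Cfsg.IsCoherent (↑S₁ ∪ {χ, Cfsg.conjFun χ} : Set (L → ℂ)) {1}ᶜ τ := by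
  classical
  obtain ⟨hnz, τ₁, hτ₁, hagree⟩ := hcoh
  have hne := fun φ (h : φ ∈ S) => Coherence.System.ne_zero hS h
  obtain ⟨a, ha⟩ := hdvd
  have hm₁ : χ₁ ∈ S := hS₁ hχ₁S
  have hχc : Cfsg.conjFun χ ∈ S := hS.conj_mem χ hχ
  have hd1 : d χ₁ ≠ 0 := fun h => by
    have := Coherence.char_conj_ne_one_ne_zero (hS.isCharacter χ₁ hm₁) (hS.conj_ne χ₁ hm₁)
    exact this (by rw [hd χ₁ hm₁, h, Nat.cast_zero])
  have hnpos : ∀ φ ∈ S, n φ ≠ 0 := fun φ hφ h => hne φ hφ (by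
    rw [← Char.classInner_self_eq_zero, hn φ hφ, h, Nat.cast_zero])
  have hdeg : χ 1 = (a : ℂ) * χ₁ 1 := by
    rw [hd χ hχ, hd χ₁ hm₁, ha]; push_cast; ring
  have hsub : insert χ (↑S₁ : Set (L → ℂ)) ⊆ S := Set.insert_subset hχ hS₁
  have hgen : ∀ φ ∈ S, Cfsg.IsGeneralizedCharacter L φ := fun φ h =>
    Char.isGeneralized_of_isCharacter (hS.isCharacter φ h)
  have hτ' := Coherence.IsLinearIsometryOn.mono hS.isometry
    (Coherence.zspanOn_mono (A := ({1}ᶜ : Set L)) hsub)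
  obtain ⟨x, hform, hsumeq⟩ := Coherence.exists_shift S₁ χ χ₁ a hχ₁S hχ₁
    (fun φ hφ ψ hψ => hS.orthogonal φ (hsub hφ) ψ (hsub hψ)) (fun φ hφ => hgen φ (hsub hφ))
    hτ' hτ₁ hagree hdeg d n (fun φ h => hd φ (hS₁ h)) (fun φ h => hn φ (hS₁ h))
    (fun φ h => hnpos φ (hS₁ h)) hd1
  set θ := χ - (a : ℂ) • χ₁ with hθ
  have hθm : θ ∈ Cfsg.zspanOn S {1}ᶜ :=
    Coherence.mem_zspanOn_compl_one.2 ⟨Coherence.zspan_sub (Coherence.mem_zspan_of_mem hχ)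
      (Coherence.zspan_natCast_smul _ (Coherence.mem_zspan_of_mem hm₁)), by simp [hθ, hdeg]⟩
  have o1 : Cfsg.classInner χ χ₁ = 0 :=
    hS.orthogonal χ hχ χ₁ hm₁ fun e => hχ₁ (e ▸ hχ₁S)
  have o2 : Cfsg.classInner (Cfsg.conjFun χ) χ₁ = 0 :=
    hS.orthogonal _ hχc χ₁ hm₁ fun e => hχ₂ (e ▸ hχ₁S)
  have hcr : ∀ φ ∈ S₁, ∀ α ∈ R χ, Cfsg.classInner (τ₁ φ) α = 0 := fun φ hφ α hα =>
    Coherence.System.image_orth_R hS hS₁ hτ₁ hagree (Finset.mem_coe.2 hφ)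
      (Finset.mem_coe.2 (hS₁c φ hφ)) hχ
      (hS.orthogonal φ (hS₁ hφ) χ hχ fun e => hχ₁ (e ▸ hφ))
      (hS.orthogonal φ (hS₁ hφ) _ hχc fun e => hχ₂ (e ▸ hφ)) hα
  have hβinner : Cfsg.classInner (τ θ) (τ (χ - Cfsg.conjFun χ)) = Cfsg.classInner χ χ := by
    rw [hS.isometry.2.2.1 _ hθm _ (Coherence.System.diff_mem hS hχ)]
    exact Coherence.System.diff_inner hS hχ
      (by rw [Char.classInner_smul_right, o1, mul_zero])
      (by rw [Char.classInner_smul_right, o2, mul_zero])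
  obtain ⟨c, -, -, hle, -⟩ := Coherence.System.coeff hS hχ (hS.isometry.2.2.2 _ hθm) hβinner
  have himne : ∀ φ ∈ S₁, τ₁ φ ≠ 0 := fun φ hφ e => by
    have := hτ₁.2.2.1 _ (Coherence.mem_zspan_of_mem hφ) _ (Coherence.mem_zspan_of_mem hφ)
    rw [e, Char.classInner_zero_left] at this
    exact hne φ (hS₁ hφ) ((Char.classInner_self_eq_zero φ).1 this.symm)
  have hb := Coherence.System.bessel_R hS hχ S₁ τ₁ himne (fun φ hφ ψ hψ hn' => by
    rw [hτ₁.2.2.1 _ (Coherence.mem_zspan_of_mem hφ) _ (Coherence.mem_zspan_of_mem hψ),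
      hS.orthogonal φ (hS₁ hφ) ψ (hS₁ hψ) hn']) hcr (τ θ)
  rw [hsumeq, hS.isometry.2.2.1 _ hθm _ hθm] at hb
  have hnorm : (Cfsg.classInner θ θ).re =
      (Cfsg.classInner χ χ).re + (a : ℝ) ^ 2 * n χ₁ := by
    simp [hθ, Char.classInner_sub_left, Char.classInner_sub_right, Char.classInner_smul_left,
      Char.classInner_smul_right, o1, Coherence.inner_eq_zero_comm o1, hn χ₁ hm₁, pow_two,
      mul_assoc]
  rw [hnorm] at hb
  have hx : x = 0 := by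
    by_contra hx
    have := Coherence.shift_pos (d := d χ) hd1 (by rw [ha, mul_comm]) hineq hx
    linarith
  subst hx
  obtain ⟨τ₂, hτ₂, hagree₂, hold, hnew⟩ := Coherence.coherent_insert S₁ χ χ₁ a hχ₁S hχ₁
    (fun φ hφ ψ hψ => hS.orthogonal φ (hsub hφ) ψ (hsub hψ)) (fun φ hφ => hne φ (hsub hφ))
    (fun φ hφ => hgen φ (hsub hφ)) hτ' hτ₁ hagree hdeg
    (fun φ hφ => by rw [← hθ, hform φ hφ]; simp)
  have hsub2 : insert (Cfsg.conjFun χ) (↑(insert χ S₁) : Set (L → ℂ)) ⊆ S := by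
    rw [Finset.coe_insert]; exact Set.insert_subset hχc hsub
  have hτ'' := Coherence.IsLinearIsometryOn.mono hS.isometry
    (Coherence.zspanOn_mono (A := ({1}ᶜ : Set L)) hsub2)
  have hnotmem : Cfsg.conjFun χ ∉ insert χ S₁ := by
    rw [Finset.mem_insert]; exact not_or.2 ⟨hS.conj_ne χ hχ, hχ₂⟩
  have hflip : τ (Cfsg.conjFun χ - ((1 : ℕ) : ℂ) • χ) = -∑ α ∈ R χ, α := by
    rw [Nat.cast_one, one_smul, ← neg_sub, Coherence.iso_map_neg hS.isometry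
      (Coherence.System.diff_mem hS hχ), hS.sum_eq χ hχ]
  have hinner2 : ∀ φ ∈ insert χ S₁,
      Cfsg.classInner (τ (Cfsg.conjFun χ - ((1 : ℕ) : ℂ) • χ)) (τ₂ φ) =
        Cfsg.classInner (Cfsg.conjFun χ - ((1 : ℕ) : ℂ) • χ) φ := by
    intro φ hφ
    rw [hflip, Nat.cast_one, one_smul, Char.classInner_neg_left, Char.classInner_sum_left]
    rcases Finset.mem_insert.1 hφ with rfl | hφ'
    · rw [hnew, Char.classInner_sub_left, hS.orthogonal _ hχc φ hχ (hS.conj_ne φ hχ), zero_sub,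
        ← Char.classInner_sum_left, ← hS.sum_eq φ hχ, Char.classInner_add_right,
        Char.classInner_smul_right, ← Char.classInner_conj_symm (τ θ), hβinner,
        Char.classInner_conj_symm]
      have h0 : Cfsg.classInner (τ (φ - Cfsg.conjFun φ)) (τ₁ χ₁) = 0 := by
        rw [hS.sum_eq φ hχ, Char.classInner_sum_left]
        exact Finset.sum_eq_zero fun α hα =>
          Coherence.inner_eq_zero_comm (hcr χ₁ hχ₁S α hα)
      rw [h0, mul_zero, add_zero]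
    · rw [hold φ hφ', Finset.sum_eq_zero fun α hα =>
        Coherence.inner_eq_zero_comm (hcr φ hφ' α hα), Char.classInner_sub_left,
        hS.orthogonal χ hχ φ (hS₁ hφ') fun e => hχ₁ (e ▸ hφ'),
        hS.orthogonal _ hχc φ (hS₁ hφ') fun e => hχ₂ (e ▸ hφ'), neg_zero, sub_zero]
  obtain ⟨τ₃, hτ₃, hagree₃, -, -⟩ := Coherence.coherent_insert (insert χ S₁) (Cfsg.conjFun χ) χ 1
    (Finset.mem_insert_self χ S₁) hnotmem
    (fun φ hφ ψ hψ => hS.orthogonal φ (hsub2 hφ) ψ (hsub2 hψ)) (fun φ hφ => hne φ (hsub2 hφ))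
    (fun φ hφ => hgen φ (hsub2 hφ)) hτ''
    (by rw [Finset.coe_insert]; exact hτ₂) (by rw [Finset.coe_insert]; exact hagree₂)
    (by rw [Nat.cast_one, one_mul]; exact Coherence.isChar_conjFun_one (hS.isCharacter χ hχ))
    hinner2
  have hset : (↑S₁ ∪ {χ, Cfsg.conjFun χ} : Set (L → ℂ)) =
      insert (Cfsg.conjFun χ) (↑(insert χ S₁) : Set (L → ℂ)) := by
    rw [Finset.coe_insert]; ext y; simp; tauto
  rw [hset]
  obtain ⟨γ, hγ, hγ0⟩ := hnz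
  exact ⟨⟨γ, Coherence.zspanOn_mono
    (by rw [Finset.coe_insert]; exact (Set.subset_insert _ _).trans (Set.subset_insert _ _)) hγ,
    hγ0⟩, τ₃, hτ₃, hagree₃⟩

end Cfsg.Agent.S1516
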