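import Cfsg.Statements.S1455
import Cfsg.Agent.Fusion.Residual
import Cfsg.Agent.Layer.PConstraint
import Cfsg.Agent.OddLocal.PLengthOne
import Cfsg.Agent.OddLocal.NarrowAction
-- import your own Cfsg.Agent.* helpers here

set_option autoImplicit false
open Cfsg

namespace Cfsg.Agent.S1455

/-- Let G be a solvable group of odd order, p a prime dividing its order, and S a Sylow p-subgroup of G that is narrow; if S has an elementary abelian subgroup of order p ^ 3 assume also G = O_{p',p,p'}(G). Then every prime dividing the index of O_{p'}(G) is at most p; if p = 3 or p is the smallest prime divisor of #G then G has a normal p-complement; G' has a normal p-complement; every subgroup of G' of order coprime to p lies in O_{p'}(G'); and G' ≤ O_{p',p}(G) with the index of O_{p',p}(G) coprime to p. -/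
theorem result {G : Type*} [Group G] [Finite G] [Group.IsSolvable G] (hodd : Odd (Nat.card G)) (p : ℕ) [Fact p.Prime] (hpG : p ∣ Nat.card G) (S : Sylow p G) (hS : Cfsg.IsNarrow p ↥(S : Subgroup G))
    (hpl : ¬ Cfsg.PRankLE p 2 ↥(S : Subgroup G) → Cfsg.PLengthLE p 1 G) :
    (∀ q : ℕ, q.Prime → q ∣ (Cfsg.pPrimeCore p G).index → q ≤ p) ∧
      ((p = 3 ∨ ∀ q : ℕ, q.Prime → q ∣ Nat.card G → p ≤ q) → Cfsg.HasNormalPComplement p G) ∧
      Cfsg.HasNormalPComplement p ↥(commutator G) ∧
      (∀ L : Subgroup ↥(commutator G), (Nat.card L).Coprime p → L ≤ Cfsg.pPrimeCore p ↥(commutator G)) ∧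
      commutator G ≤ Cfsg.pPrimePCore p G ∧ ((Cfsg.pPrimePCore p G).index).Coprime p := by
  have hp2 : p ≠ 2 := by
    rintro rfl
    exact absurd (Odd.of_dvd_nat hodd hpG) (by decide)
  set N := Cfsg.pPrimeCore p G with hN
  haveI hNn : N.Normal := inferInstance
  set π := QuotientGroup.mk' N with hπ
  have hπs : Function.Surjective π := QuotientGroup.mk'_surjective N
  set X := G ⧸ N
  have hXodd : Odd (Nat.card X) := hodd.of_dvd_nat (Subgroup.card_quotient_dvd_card N)
  haveI : Group.IsSolvable X := Group.isSolvable_of_surjective hπs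
  set R := Cfsg.pCore p X with hR
  haveI hRn : R.Normal := Core.pCore_normal
  have hRp : IsPGroup p R := Core.pCore_isPGroup
  have hXb : Cfsg.pPrimeCore p X = ⊥ := Core.pPrimeCore_quotient_eq_bot
  have hsc : Subgroup.centralizer (R : Set X) ≤ R := by
    have h1 := Core.centralizer_fittingSubgroup_le (G := X)
    rwa [Layer.fitting_eq_pCore_of_pPrimeCore_eq_bot hXb] at h1
  have hNS : (S : Subgroup G) ⊓ N = ⊥ := OddLocal.inf_pPrimeCore_eq_bot S.2
  set S' := S.mapSurjective hπs with hS'
  have hS'e : (S' : Subgroup X) = (S : Subgroup G).map π := rfl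
  set eS : ↥(S : Subgroup G) ≃* ↥(S' : Subgroup X) :=
    (MulEquiv.ofBijective ((π.comp (S : Subgroup G).subtype).codRestrict (S' : Subgroup X)
      fun s => Subgroup.mem_map_of_mem π s.2) ⟨fun a b h => Subtype.ext (by
        have h1 : π (a : G) = π (b : G) := congrArg Subtype.val h
        have h2 : (a : G)⁻¹ * b ∈ (S : Subgroup G) ⊓ N :=
          ⟨(S : Subgroup G).mul_mem ((S : Subgroup G).inv_mem a.2) b.2, QuotientGroup.eq.mp h1⟩
        rw [hNS, Subgroup.mem_bot, inv_mul_eq_one] at h2
        exact h2), fun x => by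
        obtain ⟨s, hs, hsx⟩ := x.2
        exact ⟨⟨s, hs⟩, Subtype.ext hsx⟩⟩) with heS
  have hRS : R ≤ (S' : Subgroup X) := Core.pCore_le_sylow S'
  have hcase : ¬ Cfsg.PRankLE p 2 R → Cfsg.IsNarrow p R := by
    intro hr
    have hrS : ¬ Cfsg.PRankLE p 2 ↥(S : Subgroup G) := fun h => hr (OddLocal.pRankLE_of_injective
      (eS.symm.toMonoidHom.comp (Subgroup.inclusion hRS))
      (eS.symm.injective.comp (Subgroup.inclusion_injective hRS)) h)
    haveI := OddLocal.normal_pPrimeCore_sup (hpl hrS) S
    have h1 : ((S' : Subgroup X)).Normal := by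
      have h2 : (N ⊔ (S : Subgroup G)).map π = (S' : Subgroup X) := by
        rw [Subgroup.map_sup, hS'e, hπ, QuotientGroup.map_mk'_self, bot_sup_eq]
      rw [← h2]
      exact Subgroup.Normal.map inferInstance π hπs
    have h3 : R = (S' : Subgroup X) := le_antisymm hRS (Core.le_pCore S'.2)
    exact OddLocal.isNarrow_congr (eS.trans (MulEquiv.subgroupCongr h3.symm)) hS
  have hkey : ∀ y ∈ commutator X, (orderOf y).Coprime p → y = 1 := by
    intro y hy hcop
    have h1 : y ∈ Subgroup.centralizer (R : Set X) := by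
      by_cases hr : Cfsg.PRankLE p 2 R
      · exact OddLocal.mem_centralizer_of_rank_two hXodd hp2 hRp hr hy hcop
      · exact OddLocal.mem_centralizer_of_narrow hp2 hRp hr (hcase hr) hcop
          (OddLocal.trivialOnSmallFactors_commutator hy)
    obtain ⟨k, hk⟩ := hRp ⟨y, hsc h1⟩
    refine orderOf_eq_one_iff.mp (Nat.eq_one_of_dvd_coprimes (hcop.pow_right k) dvd_rfl
      (orderOf_dvd_of_pow_eq_one (congrArg Subtype.val hk)))
  have hcommp : IsPGroup p (commutator X) := by
    intro z
    obtain ⟨k, n, hn, hkn⟩ := Nat.exists_eq_pow_mul_and_not_dvd (orderOf_pos (z : X)).ne' p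
      (Fact.out : p.Prime).ne_one
    refine ⟨k, Subtype.ext ?_⟩
    refine hkey _ (pow_mem z.2 _) ?_
    refine Nat.Coprime.coprime_dvd_left (orderOf_dvd_of_pow_eq_one ?_)
      (((Fact.out : p.Prime).coprime_iff_not_dvd.mpr hn).symm)
    rw [SubmonoidClass.coe_pow, ← pow_mul, ← hkn, pow_orderOf_eq_one]
  have ha : ∀ q : ℕ, q.Prime → q ∣ N.index → q ≤ p := by
    intro q hq hqd
    by_cases hqp : q = p
    · exact hqp.le
    haveI := Fact.mk hq
    rw [Subgroup.index_eq_card] at hqd
    obtain ⟨x, hx⟩ := exists_prime_orderOf_dvd_card' q hqd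
    have hxcop : (orderOf x).Coprime p := hx ▸ (Nat.coprime_primes hq Fact.out).mpr hqp
    have hxR : x ∉ Subgroup.centralizer (R : Set X) := fun h => by
      obtain ⟨k, hk⟩ := hRp ⟨x, hsc h⟩
      exact hq.ne_one (hx ▸ Nat.eq_one_of_dvd_coprimes (hxcop.pow_right k) dvd_rfl
        (orderOf_dvd_of_pow_eq_one (congrArg Subtype.val hk)))
    have hp1 := (Fact.out : p.Prime).two_le
    by_cases hq1 : q ∣ p - 1
    · have := Nat.le_of_dvd (by omega) hq1
      omega
    by_cases hr : Cfsg.PRankLE p 2 R
    · have h1 := OddLocal.dvd_succ_of_rank_two hp2 hRp hr (by rwa [hx]) hxcop (by rwa [hx]) hxR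
      rw [hx] at h1
      have h2 := Nat.le_of_dvd (by omega) h1
      rcases eq_or_lt_of_le h2 with h | h
      · have : Odd q := Odd.of_dvd_nat hXodd hqd
        exact absurd (h ▸ this) (Nat.not_odd_iff_even.mpr
          ((Fact.out : p.Prime).odd_of_ne_two hp2).add_one)
      · omega
    · refine absurd ?_ hxR
      refine OddLocal.mem_centralizer_of_narrow hp2 hRp hr (hcase hr) hxcop
        (OddLocal.trivialOnSmallFactors_of_coprime ?_)
      rw [hx]
      exact (hq.coprime_iff_not_dvd.mpr hq1).symm
  have hXR : commutator X ≤ R := Core.le_pCore hcommp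
  have hG'q : ∀ g ∈ commutator G, ∃ k : ℕ, g ^ p ^ k ∈ N := fun g hg => by
    have h1 : π g ∈ commutator X := by
      have h2 : (commutator G).map π ≤ commutator X := by
        rw [_root_.commutator_def, Subgroup.map_commutator, _root_.commutator_def]
        exact Subgroup.commutator_mono le_top le_top
      exact h2 (Subgroup.mem_map_of_mem π hg)
    obtain ⟨k, hk⟩ := hcommp ⟨π g, h1⟩
    refine ⟨k, (QuotientGroup.eq_one_iff _).mp ?_⟩
    show π (g ^ p ^ k) = 1
    rw [map_pow]
    exact congrArg Subtype.val hk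
  refine ⟨ha, ?_, ?_, ?_, ?_, ?_⟩
  · intro hsm
    refine Fusion.hasNormalPComplement_of_normal_isPGroup_quotient N Core.coprime_card_pPrimeCore ?_
    refine OddLocal.isPGroup_of_forall_prime (X := (⊤ : Subgroup X)) ?_ |>.of_equiv Subgroup.topEquiv
    intro q hq hqd
    rw [Subgroup.card_top] at hqd
    have h1 := ha q hq (by rwa [Subgroup.index_eq_card])
    rcases hsm with h3 | h
    · subst h3
      have : Odd q := Odd.of_dvd_nat hXodd hqd
      rcases hq.eq_two_or_odd with h | h
      · subst h; exact absurd this (by decide)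
      · have := hq.two_le
        omega
    · exact le_antisymm h1 (h q hq (hqd.trans (Subgroup.card_quotient_dvd_card N)))
  · refine Fusion.hasNormalPComplement_of_normal_isPGroup_quotient (N.subgroupOf (commutator G))
      ((Core.coprime_card_pPrimeCore (G := G) (p := p)).coprime_dvd_left ?_) ?_
    · rw [← Subgroup.card_map_of_injective (commutator G).subtype_injective]
      refine Subgroup.card_dvd_of_le ?_
      rintro _ ⟨x, hx, rfl⟩
      exact hx
    · intro z
      obtain ⟨g, rfl⟩ := QuotientGroup.mk_surjective z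
      obtain ⟨k, hk⟩ := hG'q g g.2
      refine ⟨k, ?_⟩
      rw [← QuotientGroup.mk_pow]
      exact (QuotientGroup.eq_one_iff _).mpr hk
  · intro L hL
    have hcop : (Nat.card (N.subgroupOf (commutator G))).Coprime p := by
      refine (Core.coprime_card_pPrimeCore (G := G) (p := p)).coprime_dvd_left ?_
      rw [← Subgroup.card_map_of_injective (commutator G).subtype_injective]
      refine Subgroup.card_dvd_of_le ?_
      rintro _ ⟨x, hx, rfl⟩
      exact hx
    refine le_trans (fun l hl => ?_) (Core.le_pPrimeCore hcop)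
    obtain ⟨k, hk⟩ := hG'q l l.2
    have h1 : (orderOf (l : G)).Coprime p := by
      rw [Subgroup.orderOf_coe]
      exact hL.coprime_dvd_left (Subgroup.orderOf_dvd_natCard L hl)
    obtain ⟨m, hm⟩ := exists_pow_eq_self_of_coprime (h1.pow_right k).symm
    show (l : G) ∈ N
    rw [← hm]
    exact pow_mem hk m
  · intro g hg
    show π g ∈ Cfsg.pCore p (G ⧸ Cfsg.pPrimeCore p G)
    refine hXR ?_
    have h2 : (commutator G).map π ≤ commutator X := by
      rw [_root_.commutator_def, Subgroup.map_commutator, _root_.commutator_def]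
      exact Subgroup.commutator_mono le_top le_top
    exact h2 (Subgroup.mem_map_of_mem π hg)
  · show ((R.comap π).index).Coprime p
    rw [Subgroup.index_comap_of_surjective _ hπs]
    obtain ⟨P, hP⟩ := hcommp.exists_le_sylow
    haveI : (P : Subgroup X).Normal := Subgroup.Normal.of_commutator_le _ hP
    refine Nat.Coprime.coprime_dvd_left (Subgroup.index_dvd_of_le (Core.le_pCore P.2)) ?_
    exact ((Fact.out : p.Prime).coprime_iff_not_dvd.mpr P.not_dvd_index).symm

end Cfsg.Agent.S1455
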