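import Cfsg.Statements.S1429
import Cfsg.Agent.OddLocal.TauTwoNonabelian
import Cfsg.Agent.OddLocal.SigmaNormalizer
import Cfsg.Agent.Fusion.FixedPointFree
-- import your own Cfsg.Agent.* helpers here

set_option autoImplicit false
open Cfsg Cfsg.Agent Cfsg.Agent.OddLocal

namespace Cfsg.Agent.S1429

/-- Let G be a minimal simple group of odd order and M a maximal subgroup such that κ(M) is not the whole of the primes of M outside σ(M) (M is not of type P₁). Let p divide the order of M with p ∉ σ(M) ∪ κ(M), S a Sylow p-subgroup of M, and A the subgroup generated by the elements of S of order dividing p. Then A has order at most p ^ 2, M_σ ∩ C_G(A) = 1, and M_σ is nilpotent. -/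
theorem result {G : Type*} [Group G] [Finite G] (hG : Cfsg.IsMinSimpleOddOrder G)
    (M : Subgroup G) (hM : IsCoatom M) (hP1 : ¬ (∀ q : ℕ, q.Prime → q ∣ Nat.card M → q ∉ Cfsg.sigma M → q ∈ Cfsg.kappa M))
    (p : ℕ) [Fact p.Prime] (hpM : p ∣ Nat.card M) (hp : p ∉ Cfsg.sigma M ∪ Cfsg.kappa M) (S : Sylow p M) :
    Nat.card ↥(Subgroup.closure {x : G | x ∈ (S : Subgroup M).map M.subtype ∧ x ^ p = 1}) ≤ p ^ 2 ∧
      Cfsg.sigmaCore M ⊓ Subgroup.centralizer ((Subgroup.closure {x : G | x ∈ (S : Subgroup M).map M.subtype ∧ x ^ p = 1} : Subgroup G) : Set G) = ⊥ ∧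
      Group.IsNilpotent (Cfsg.sigmaCore M) := by
  obtain ⟨hpσ, hpκ⟩ := not_or.mp hp
  set S' := (S : Subgroup M).map M.subtype with hS'
  set Ω := Subgroup.closure {x : G | x ∈ S' ∧ x ^ p = 1} with hΩ
  have hΩS : Ω ≤ S' := (Subgroup.closure_le _).mpr fun x hx => hx.1
  by_cases hr : PRankLE p 1 M
  swap
  · have h2 : p ∈ tau2 M := ⟨Fact.out, hpσ, (by
      by_contra hc; exact hpσ (alpha_subset_sigma hG hM ⟨Fact.out, hc⟩)), hr⟩
    obtain ⟨hc, A, hAS, h⟩ := sylow_comm_of_tau2 hG hM h2 S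
    have hΩA : Ω ≤ A := (Subgroup.closure_le _).mpr fun x hx =>
      h.mem_of_pow hG hM hx.2 (le_centralizer_of_isMulCommutative le_rfl hAS hc hx.1)
    have hAΩ : A ≤ Ω := fun a ha => Subgroup.subset_closure ⟨hAS ha, h.elem.2 a ha⟩
    have hΩA' : Ω = A := le_antisymm hΩA hAΩ
    refine ⟨?_, ?_, (h.isExceptional hG hM).sigmaCore_nilpotent hG hM⟩
    · rw [hΩA', h.card]
    · rw [hΩA']; exact h.fixed_eq_bot hG hM
  have hp2 : p ≠ 2 := by
    intro e
    exact absurd (hG.1.of_dvd_nat (hpM.trans (Subgroup.card_subgroup_dvd_card M))) (by rw [e]; decide)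
  have hcyc : ∀ P : Sylow p M, IsCyclic (P : Subgroup M) := fun P =>
    isCyclic_of_pRankLE_one hp2 P.2 (pRankLE_of_injective (Subgroup.subtype _)
      (Subgroup.subtype_injective _) hr)
  obtain ⟨P, hP⟩ : ∃ P : Sylow p M, ∀ x : M, x ∈ (P : Subgroup M) → x ≠ 1 →
      ∀ y ∈ sigmaCore M, (x : G) * y = y * x → y = 1 := by
    by_contra hcon
    push Not at hcon
    refine hpκ ⟨Fact.out, hpM, hpσ, fun P => ⟨hcyc P, ?_⟩⟩
    obtain ⟨x, hx, hx1, y, hy, hxy, hy1⟩ := hcon P
    exact ⟨x, hx, hx1, y, hy, hy1, hxy⟩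
  obtain ⟨m, hm⟩ := MulAction.exists_smul_eq M S P
  have hS : ∀ z : G, z ∈ S' → z ≠ 1 → sigmaCore M ⊓ Subgroup.centralizer {z} = ⊥ := by
    intro z hz hz1
    obtain ⟨s, hs, rfl⟩ := hz
    rw [eq_bot_iff]
    intro y hy
    rw [Subgroup.mem_bot]
    have hx : m * s * m⁻¹ ∈ (P : Subgroup M) := by
      rw [← hm, Sylow.coe_subgroup_smul]
      exact Subgroup.smul_mem_pointwise_smul s (MulAut.conj m) _ hs
    have hy' := (Subgroup.mem_normalizer_iff.mp (le_normalizer_sigmaCore M m.2) y).mp hy.1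
    have hyc := Subgroup.mem_centralizer_singleton_iff.mp hy.2
    have h1 := hP _ hx (fun e => hz1 (by
      rw [mul_inv_eq_one, mul_eq_left] at e; simp [e])) _ hy' (by
      calc ((m * s * m⁻¹ : M) : G) * ((m : G) * y * (m : G)⁻¹) = (m : G) * ((s : G) * y) * (m : G)⁻¹ := by
            simp [mul_assoc]
        _ = (m : G) * (y * (s : G)) * (m : G)⁻¹ := by
            rw [show (s : G) * y = y * (s : G) from hyc.symm]
        _ = (m : G) * y * (m : G)⁻¹ * ((m * s * m⁻¹ : M) : G) := by simp [mul_assoc])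
    rwa [mul_inv_eq_one, mul_eq_left] at h1
  obtain ⟨z, hz⟩ := exists_prime_orderOf_dvd_card' p (G := (S : Subgroup M)) (S.dvd_card_of_dvd_card hpM)
  have hzS : ((z : M) : G) ∈ S' := Subgroup.mem_map_of_mem _ z.2
  have hzo : orderOf ((z : M) : G) = p := by rw [Subgroup.orderOf_coe, Subgroup.orderOf_coe, hz]
  have hz1 : ((z : M) : G) ≠ 1 := fun e => (Fact.out : p.Prime).ne_one (by rw [← hzo, e, orderOf_one])
  have hzp : ((z : M) : G) ^ p = 1 := by
    have h := pow_orderOf_eq_one ((z : M) : G)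
    rwa [hzo] at h
  have hzΩ : ((z : M) : G) ∈ Ω := Subgroup.subset_closure ⟨hzS, hzp⟩
  haveI : IsCyclic ↥S' := (Subgroup.equivMapOfInjective _ _ M.subtype_injective).isCyclic.mp (hcyc S)
  refine ⟨?_, ?_, Fusion.isNilpotent_of_fpf_prime (Fact.out : p.Prime)
    (c := ((z : M) : G)) hzp
    (le_normalizer_sigmaCore M (z : M).2) (hS _ hzS hz1)⟩
  · refine le_trans ?_ (Nat.le_self_pow two_ne_zero p)
    have hle : Ω ≤ (Subgroup.zpowers ((z : M) : G)) := by
      refine (Subgroup.closure_le _).mpr fun x hx => ?_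
      by_cases hx1 : x = 1
      · rw [hx1]; exact one_mem _
      rw [← eq_of_card_eq_of_isCyclic (S := S') inferInstance (Subgroup.zpowers_le.mpr hx.1)
        (Subgroup.zpowers_le.mpr hzS) (by
          rw [Nat.card_zpowers, Nat.card_zpowers, hzo, orderOf_eq_prime hx.2 hx1])]
      exact Subgroup.mem_zpowers x
    exact (Subgroup.card_le_of_le hle).trans (by rw [Nat.card_zpowers, hzo])
  · rw [eq_bot_iff]
    exact (le_inf inf_le_left (inf_le_right.trans (Subgroup.centralizer_le (by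
      simpa using hzΩ)))).trans (hS _ hzS hz1).le

end Cfsg.Agent.S1429
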