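import Cfsg.Statements.S1351
import Cfsg.Agent.OddLocal.KappaPartner
-- import your own Cfsg.Agent.* helpers here

set_option autoImplicit false
open Cfsg Cfsg.Agent Cfsg.Agent.OddLocal Subgroup

namespace Cfsg.Agent.S1351

/-- Let G be a minimal simple group of odd order and M a maximal subgroup. Then M possesses a Hall κ(M)-subgroup, and every Hall κ(M)-subgroup of M is cyclic. -/
theorem result {G : Type*} [Group G] [Finite G] (hG : Cfsg.IsMinSimpleOddOrder G)
    (M : Subgroup G) (hM : IsCoatom M) :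
    (∃ K : Subgroup G, Cfsg.IsPiHallOf (Cfsg.kappa M) K M) ∧
      ∀ K : Subgroup G, Cfsg.IsPiHallOf (Cfsg.kappa M) K M → IsCyclic K := by
  refine ⟨?_, fun K hK => ?_⟩
  · obtain ⟨E, hE, -⟩ := exists_compl_ge_of_not_sigma hG hM (bot_le : (⊥ : Subgroup G) ≤ M)
      (fun s hs hd => absurd (card_bot (G := G) ▸ hd) hs.not_dvd_one)
    obtain ⟨K, hK, -, -⟩ := exists_kappa_hall hG hM hE bot_le
      (fun s hs hd => absurd (card_bot (G := G) ▸ hd) hs.not_dvd_one)
    exact ⟨K, hK⟩
  · by_cases hK1 : K = ⊥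
    · rw [hK1]; infer_instance
    · exact (kappa_pair hG hM hK hK1).1

end Cfsg.Agent.S1351
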