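import Cfsg.Statements.S1430
import Cfsg.Agent.OddLocal.KappaDecomp
-- import your own Cfsg.Agent.* helpers here

set_option autoImplicit false
open Cfsg Cfsg.Agent Cfsg.Agent.OddLocal Subgroup

namespace Cfsg.Agent.S1430

/-- Let G be a minimal simple group of odd order, M a maximal subgroup, K ≠ 1 a Hall κ(M)-subgroup of M and K* = M_σ ∩ C_G(K). Then M_σ ∩ C_G(k) = K* for every non-identity k ∈ K; there is an abelian subgroup U of M, a Hall subgroup of M for the primes outside κ(M) ∪ σ(M), normalized by K with U ∩ C_G(k) = 1 for all non-identity k ∈ K; and for every subgroup X ≤ K of prime order, M ∩ N_G(X) = M ∩ N_G(K) = K ⊔ K*, and X ≤ M*_σ for every maximal subgroup M* containing N_G(X). -/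
theorem result {G : Type*} [Group G] [Finite G] (hG : Cfsg.IsMinSimpleOddOrder G)
    (M : Subgroup G) (hM : IsCoatom M) (K : Subgroup G) (hK : Cfsg.IsPiHallOf (Cfsg.kappa M) K M) (hK1 : K ≠ ⊥) :
    (∀ k ∈ K, k ≠ 1 → Cfsg.sigmaCore M ⊓ Subgroup.centralizer ({k} : Set G) = (Cfsg.sigmaCore M ⊓ Subgroup.centralizer (K : Set G))) ∧
      (∃ U : Subgroup G, IsMulCommutative U ∧ Cfsg.IsPiHallOf {q | q.Prime ∧ q ∉ Cfsg.kappa M ∧ q ∉ Cfsg.sigma M} U M ∧
        K ≤ Subgroup.normalizer (U : Set G) ∧ ∀ k ∈ K, k ≠ 1 → U ⊓ Subgroup.centralizer ({k} : Set G) = ⊥) ∧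
      ∀ X : Subgroup G, X ≤ K → (Nat.card X).Prime →
        M ⊓ Subgroup.normalizer (X : Set G) = K ⊔ (Cfsg.sigmaCore M ⊓ Subgroup.centralizer (K : Set G)) ∧ M ⊓ Subgroup.normalizer (K : Set G) = K ⊔ (Cfsg.sigmaCore M ⊓ Subgroup.centralizer (K : Set G)) ∧
        ∀ Mstar : Subgroup G, IsCoatom Mstar → Subgroup.normalizer (X : Set G) ≤ Mstar → X ≤ Cfsg.sigmaCore Mstar := by
  obtain ⟨E, hE, hKE⟩ := exists_compl_ge_of_not_sigma hG hM hK.1
    (fun s hs hd => (hK.2.1 s hs hd).2.2.1)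
  obtain ⟨hne, hfix, ⟨U, hUE, hUn, hUK, hUc, hU, hfree⟩, hX⟩ :=
    kappa_structure hG hM hE hK hK1 hKE
  refine ⟨hfix, ⟨U, hUc, hU, hKE.trans hUn, hfree⟩, fun X hXK hXp => ?_⟩
  haveI := Fact.mk hXp
  obtain ⟨hKX, hEX⟩ := hX rfl hXK
  obtain ⟨x, hxX, hx1, -, hxg⟩ := exists_generator_of_card (P := X) rfl
  have hCX : Cfsg.sigmaCore M ⊓ centralizer (X : Set G) =
      Cfsg.sigmaCore M ⊓ centralizer (K : Set G) := by
    rw [← hxg, centralizer_zpowers, hfix x (hXK hxX) hx1]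
  have hge : ∀ Y : Subgroup G, Y ≤ K → K ≤ normalizer (Y : Set G) →
      K ⊔ (Cfsg.sigmaCore M ⊓ centralizer (K : Set G)) ≤ M ⊓ normalizer (Y : Set G) :=
    fun Y hY hn => sup_le (le_inf hK.1 hn) (le_inf (inf_le_left.trans (sigmaCore_le M))
      ((inf_le_right.trans (centralizer_le (SetLike.coe_subset_coe.mpr hY))).trans
        (centralizer_le_normalizer _)))
  refine ⟨le_antisymm ((inf_normalizer_compl_le hG hM hE (hXK.trans hKE)).trans
      (sup_le_sup hEX hCX.le)) (hge X hXK hKX),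
    le_antisymm ((inf_normalizer_compl_le hG hM hE hKE).trans (sup_le ?_ le_sup_right))
      (hge K le_rfl Subgroup.le_normalizer), fun Mstar hMs hle => ?_⟩
  · rintro e ⟨he, heN⟩
    obtain ⟨v, hv, k, hk, rfl⟩ :=
      (Coprime.mem_sup_of_le_normalizer (hKE.trans hUn)).mp (hUK he)
    have hvN : v ∈ normalizer (K : Set G) := by
      have := (normalizer (K : Set G)).mul_mem heN
        ((normalizer (K : Set G)).inv_mem (Subgroup.le_normalizer hk))
      rwa [mul_inv_cancel_right] at this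
    have hxK : x ∈ K := hXK hxX
    have hbot : U ⊓ K = ⊥ := Coprime.inf_eq_bot_of_coprime (Nat.coprime_of_dvd
      fun l hl h1 h2 => (hU.2.1 l hl h1).2.1 (hK.2.1 l hl h2))
    have hd : v * x * v⁻¹ * x⁻¹ ∈ U ⊓ K := by
      refine ⟨?_, K.mul_mem ((mem_normalizer_iff.mp hvN x).mp hxK) (inv_mem hxK)⟩
      have h1 := (mem_normalizer_iff.mp (hUn (hKE hxK)) v⁻¹).mp (inv_mem hv)
      simpa [mul_assoc] using U.mul_mem hv h1
    rw [hbot, mem_bot, mul_inv_eq_one, mul_inv_eq_iff_eq_mul] at hd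
    have hv1 : v = 1 := mem_bot.mp (hfree x hxK hx1 ▸
      (⟨hv, mem_centralizer_singleton_iff.mpr hd⟩ : v ∈ U ⊓ centralizer ({x} : Set G)))
    rw [hv1, one_mul]
    exact mem_sup_left hk
  · have hκ := hK.2.1 _ hXp (card_dvd_of_le hXK)
    exact le_sigmaCore_of_isPGroup hG hMs (Subgroup.le_normalizer.trans hle)
      (isPGroup_of_card_prime rfl) (sigma_of_line_overgroup hG hM (kappa_tau13 hG hM hκ) rfl
        (hXK.trans hK.1) (fixed_ne_bot_of_kappa hG hM hκ rfl (hXK.trans hK.1)) hMs hle)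

end Cfsg.Agent.S1430
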