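import Cfsg.Statements.S1431
import Cfsg.Agent.OddLocal.KappaFixed
-- import your own Cfsg.Agent.* helpers here

set_option autoImplicit false
open Cfsg Cfsg.Agent Cfsg.Agent.OddLocal Subgroup

namespace Cfsg.Agent.S1431

/-- Let G be a minimal simple group of odd order, M a maximal subgroup, K ≠ 1 a Hall κ(M)-subgroup of M and K* = M_σ ∩ C_G(K). Then K* ∩ gMg⁻¹ = 1 for g ∉ M; K ∩ gKg⁻¹ = 1 for g ∈ M outside K K*; for every prime p dividing the order of K* and every Sylow p-subgroup S of M_σ, M is the unique maximal subgroup containing S, and S is not contained in K*; and every subgroup Y of G whose prime divisors lie in σ(M) and with Y ∩ K* ≠ 1 is contained in M_σ. -/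
theorem result {G : Type*} [Group G] [Finite G] (hG : Cfsg.IsMinSimpleOddOrder G)
    (M : Subgroup G) (hM : IsCoatom M) (K : Subgroup G) (hK : Cfsg.IsPiHallOf (Cfsg.kappa M) K M) (hK1 : K ≠ ⊥) :
    (∀ g : G, g ∉ M → (Cfsg.sigmaCore M ⊓ Subgroup.centralizer (K : Set G)) ⊓ M.map (MulAut.conj g).toMonoidHom = ⊥) ∧
      (∀ g ∈ M, g ∉ K ⊔ (Cfsg.sigmaCore M ⊓ Subgroup.centralizer (K : Set G)) → K ⊓ K.map (MulAut.conj g).toMonoidHom = ⊥) ∧
      (∀ (p : ℕ), p.Prime → p ∣ Nat.card ↥(Cfsg.sigmaCore M ⊓ Subgroup.centralizer (K : Set G)) → ∀ S : Sylow p ↥(Cfsg.sigmaCore M),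
        Cfsg.InUniqueMaximal ((S : Subgroup ↥(Cfsg.sigmaCore M)).map (Cfsg.sigmaCore M).subtype) ∧
        (S : Subgroup ↥(Cfsg.sigmaCore M)).map (Cfsg.sigmaCore M).subtype ≤ M ∧
        ¬ (S : Subgroup ↥(Cfsg.sigmaCore M)).map (Cfsg.sigmaCore M).subtype ≤ (Cfsg.sigmaCore M ⊓ Subgroup.centralizer (K : Set G))) ∧
      ∀ Y : Subgroup G, (∀ p : ℕ, p.Prime → p ∣ Nat.card Y → p ∈ Cfsg.sigma M) → Y ⊓ (Cfsg.sigmaCore M ⊓ Subgroup.centralizer (K : Set G)) ≠ ⊥ → Y ≤ Cfsg.sigmaCore M := by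
  obtain ⟨E, hE, hKE⟩ := exists_compl_ge_of_not_sigma hG hM hK.1
    (fun s hs hd => (hK.2.1 s hs hd).2.2.1)
  obtain ⟨hne, hfix, -, hX⟩ := kappa_structure hG hM hE hK hK1 hKE
  refine ⟨fun g hg => kappa_fixed_inf_conj hG hM hK hK1 hg, fun g hgM hg => ?_, fun p hp hpd S => ?_,
    fun Y hY hne' => ?_⟩
  · by_contra hint
    obtain ⟨p, hp, hpd⟩ := exists_prime_dvd_of_ne_bot hint
    haveI := Fact.mk hp
    obtain ⟨⟨a, haK, hag⟩, hao⟩ := exists_prime_orderOf_dvd_card' p hpd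
    rw [← orderOf_coe] at hao
    change orderOf a = p at hao
    replace hag := mem_map_conj_iff.mp hag
    set b := g⁻¹ * a * g with hb
    have hbo : orderOf b = p := by
      rw [hb, show g⁻¹ * a * g = g⁻¹ * a * g⁻¹⁻¹ by rw [inv_inv], ← MulAut.conj_apply,
        MulEquiv.orderOf_eq, hao]
    have hac : Nat.card (zpowers a) = p := by rw [Nat.card_zpowers, hao]
    have hbc : Nat.card (zpowers b) = p := by rw [Nat.card_zpowers, hbo]
    obtain ⟨hKn, hEX⟩ := hX hac (zpowers_le.mpr haK)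
    have hbn : zpowers b ≤ normalizer (zpowers a : Set G) := (zpowers_le.mpr hag).trans hKn
    have hpg : IsPGroup p ↥(zpowers b ⊔ zpowers a) :=
      (isPGroup_of_card_prime hbc).to_sup_of_normal_right' (isPGroup_of_card_prime hac) hbn
    have hκ := hK.2.1 p hp (hac ▸ card_dvd_of_le (zpowers_le.mpr haK))
    have hcyc : IsCyclic ↥(zpowers b ⊔ zpowers a) := isCyclic_of_rankLE_one_odd hG.1 hpg
      (sup_le (zpowers_le.mpr (hK.1 hag)) (zpowers_le.mpr (hK.1 haK)))
      ((kappa_tau13 hG hM hκ).elim (·.2.2.2.2) (·.2.2.2))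
    have heq : zpowers a = zpowers b :=
      eq_of_card_eq_of_isCyclic hcyc le_sup_right le_sup_left (hac.trans hbc.symm)
    have hgn : g ∈ normalizer (zpowers a : Set G) := by
      refine mem_normalizer_of_map_conj ?_
      conv_lhs => rw [heq]
      rw [MonoidHom.map_zpowers]
      congr 1
      change g * b * g⁻¹ = a
      rw [hb]
      group
    have ha1 : a ≠ 1 := fun e => hp.ne_one (by rw [← hao, e, orderOf_one])
    refine hg (((inf_normalizer_compl_le hG hM hE ((zpowers_le.mpr haK).trans hKE)).trans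
      (sup_le_sup hEX ?_)) ⟨hgM, hgn⟩)
    rw [centralizer_zpowers, hfix a haK ha1]
  · haveI := Fact.mk hp
    obtain ⟨hU, hnle⟩ := kappa_fixed_sylow hG hM hK hK1 hpd S
    exact ⟨hU, (map_subtype_le _).trans (sigmaCore_le M), hnle⟩
  · obtain ⟨y, ⟨hyY, hyK⟩, hy1⟩ := exists_mem_ne_one _ hne'
    obtain ⟨g, hg⟩ := exists_conj_le_sigmaCore hG hM (fun e => hne' (by rw [e, bot_inf_eq])) hY
    have hgM : g⁻¹ ∈ M := by
      by_contra hc
      refine hy1 ((eq_bot_iff_forall _).mp (kappa_fixed_inf_conj hG hM hK hK1 hc) y ⟨hyK, ?_⟩)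
      refine mem_map_conj_iff.mpr ?_
      rw [inv_inv]
      exact sigmaCore_le M (hg (mem_map_of_mem _ hyY))
    intro z hz
    have h1 := hg (mem_map_of_mem (MulAut.conj g).toMonoidHom hz)
    have h2 := (mem_normalizer_iff.mp (le_normalizer_sigmaCore M hgM) _).mp h1
    simpa [mul_assoc] using h2

end Cfsg.Agent.S1431
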