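import Cfsg.Statements.S1439
import Cfsg.Agent.OddLocal.SigmaNormalizer
import Cfsg.Agent.OddLocal.TauTwoNonabelian
-- import your own Cfsg.Agent.* helpers here

set_option autoImplicit false
set_option linter.style.haveILetI false
open Cfsg Cfsg.Agent Cfsg.Agent.OddLocal

namespace Cfsg.Agent.S1439

/-- Let G be a minimal simple group of odd order and M a maximal subgroup, and let Y be the largest normal subgroup of F(M) involving no prime of σ(M). Then Y is cyclic, every prime divisor of its order lies in τ₂(M), and F(M) is generated by F(M_σ) and Y (a direct product, the orders being coprime). -/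
theorem result {G : Type*} [Group G] [Finite G] (hG : Cfsg.IsMinSimpleOddOrder G)
    (M : Subgroup G) (hM : IsCoatom M) :
    IsCyclic ↥(Cfsg.piCoreOf {q | q.Prime ∧ q ∉ Cfsg.sigma M} (Cfsg.fittingOf M)) ∧
      (∀ p : ℕ, p.Prime → p ∣ Nat.card ↥(Cfsg.piCoreOf {q | q.Prime ∧ q ∉ Cfsg.sigma M} (Cfsg.fittingOf M)) → p ∈ Cfsg.tau2 M) ∧
      Cfsg.fittingOf M = Cfsg.fittingOf (Cfsg.sigmaCore M) ⊔ Cfsg.piCoreOf {q | q.Prime ∧ q ∉ Cfsg.sigma M} (Cfsg.fittingOf M) := by
  set π : Set ℕ := {q | q.Prime ∧ q ∉ sigma M} with hπ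
  set F := fittingOf M with hF
  set Y := piCoreOf π F with hY
  have hFM : F ≤ M := fittingOf_le M
  have hYF : Y ≤ F := piCoreOf_le π F
  have hYM : Y ≤ M := hYF.trans hFM
  have hMY : M ≤ Subgroup.normalizer (Y : Set G) :=
    LocalStructure.le_normalizer_map_characteristic (le_normalizer_fittingOf M) (piCore π F)
  have hYσ : ∀ r : ℕ, r.Prime → r ∣ Nat.card Y → r ∉ sigma M := fun r hr hd =>
    (piNum_piCoreOf π F r hr hd).2
  have hdisj : sigmaCore M ⊓ Y = ⊥ := Coprime.inf_eq_bot_of_coprime
    (Nat.coprime_of_dvd fun r hr h1 h2 => hYσ r hr h2 (piNum_sigmaCore M r hr h1))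
  have hcent : sigmaCore M ≤ Subgroup.centralizer (Y : Set G) := by
    intro k hk
    rw [Subgroup.mem_centralizer_iff]
    intro y hy
    have h1 : y * k * y⁻¹ * k⁻¹ ∈ (⊥ : Subgroup G) := by
      rw [← hdisj]
      refine ⟨(sigmaCore M).mul_mem ((Subgroup.mem_normalizer_iff.mp
        (le_normalizer_sigmaCore M (hYM hy)) k).mp hk) ((sigmaCore M).inv_mem hk), ?_⟩
      have h := Y.mul_mem hy ((Subgroup.mem_normalizer_iff.mp
        (hMY (sigmaCore_le M hk)) y⁻¹).mp (Y.inv_mem hy))
      simpa [mul_assoc] using h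
    rw [Subgroup.mem_bot, mul_inv_eq_one, mul_inv_eq_iff_eq_mul] at h1
    exact h1
  have hYn : Group.IsNilpotent Y := Core.isNilpotent_mono (isNilpotent_fittingOf M) hYF
  haveI : IsZGroup Y := by
    constructor
    intro r hr S
    haveI := Fact.mk hr
    by_cases hS : (S : Subgroup Y) = ⊥
    · rw [hS]; infer_instance
    obtain ⟨s, hs, hsd⟩ := exists_prime_dvd_of_ne_bot hS
    obtain ⟨j, hj⟩ := IsPGroup.iff_card.mp S.2
    have hsr : s = r := (Nat.prime_dvd_prime_iff_eq hs hr).mp (hs.dvd_of_dvd_pow (hj ▸ hsd))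
    haveI : (S : Subgroup Y).Characteristic := Sylow.characteristic_of_normal S
      ((by haveI := hYn; infer_instance))
    have hc := isCyclic_of_centralizes hG hM (S.2.map Y.subtype) ((Subgroup.map_subtype_le _).trans hYM)
      (LocalStructure.le_normalizer_map_characteristic hMY (S : Subgroup Y))
      (hcent.trans (Subgroup.centralizer_le (Subgroup.map_subtype_le _)))
      (hYσ r hr (hsr ▸ hsd.trans (Subgroup.card_subgroup_dvd_card _)))
    exact (Subgroup.equivMapOfInjective _ _ Y.subtype_injective).isCyclic.mpr hc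
  haveI := hYn
  refine ⟨inferInstance, fun r hr hd => ?_, ?_⟩
  · haveI := Fact.mk hr
    obtain ⟨y, hy⟩ := exists_prime_orderOf_dvd_card' r hd
    have hy' : orderOf (y : G) = r := by rw [Subgroup.orderOf_coe, hy]
    have hY0 : IsCyclic ↥Y := inferInstance
    have hn : Subgroup.normalizer (Subgroup.zpowers (y : G) : Set G) ≤ M := by
      have h1 : M ≤ Subgroup.normalizer (Subgroup.zpowers (y : G) : Set G) :=
        hMY.trans (normalizer_le_normalizer_of_isCyclic hY0 (Subgroup.zpowers_le.mpr y.2))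
      rcases (eq_or_lt_of_le h1) with h | h
      · exact h.ge
      · exfalso
        refine ne_top_of_normal_ne_bot hG (D := Subgroup.zpowers (y : G)) (by
          rw [Ne, Subgroup.zpowers_eq_bot]; intro e; rw [e, orderOf_one] at hy'
          exact hr.ne_one hy'.symm) (ne_top_of_not_dvd hM
            (Subgroup.zpowers_le.mpr (hYM y.2))) (hM.2 _ h)
    obtain ⟨⟨h2, h1⟩, -⟩ := rank_two_of_normalizer_le hG hM (hYσ r hr hd)
      (X := Subgroup.zpowers (y : G)) (by rw [Nat.card_zpowers, hy']) hn
    exact ⟨hr, hYσ r hr hd, h2, h1⟩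
  · have h1 : fittingOf (sigmaCore M) ≤ F :=
      le_fittingOf_of_normal ((fittingOf_le _).trans (sigmaCore_le M))
        (LocalStructure.le_normalizer_map_characteristic (le_normalizer_sigmaCore M) _)
        (isNilpotent_fittingOf _)
    refine le_antisymm (fun x hx => ?_) (sup_le h1 hYF)
    refine mem_of_prime_power_parts fun r _ z hz hd hk => ?_
    obtain ⟨k, hk⟩ := hk
    have hzF : z ∈ F := (Subgroup.zpowers_le.mpr hx) hz
    by_cases hrσ : r ∈ sigma M
    · refine Subgroup.mem_sup_left ?_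
      obtain ⟨i, -, hi⟩ := (Nat.dvd_prime_pow Fact.out).mp (orderOf_dvd_of_pow_eq_one hk)
      have hzK : z ∈ sigmaCore M ⊓ F := ⟨le_sigmaCore_of_isPGroup hG hM
        (Subgroup.zpowers_le.mpr (hFM hzF))
        (IsPGroup.of_card (n := i) (by rw [Nat.card_zpowers, hi])) hrσ (Subgroup.mem_zpowers z), hzF⟩
      refine le_fittingOf_of_normal (M := sigmaCore M) inf_le_left ?_
        (Core.isNilpotent_mono (isNilpotent_fittingOf M) inf_le_right) hzK
      intro m hm
      refine mem_normalizer_of_map_conj ?_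
      rw [Subgroup.map_inf _ _ _ (MulAut.conj m).injective, map_conj_eq_self_of_mem (Subgroup.le_normalizer hm),
        map_conj_eq_self_of_mem (le_normalizer_fittingOf M (sigmaCore_le M hm))]
    · refine Subgroup.mem_sup_right ?_
      haveI : Group.IsNilpotent F := isNilpotent_fittingOf M
      obtain ⟨i, -, hi⟩ := (Nat.dvd_prime_pow Fact.out).mp (orderOf_dvd_of_pow_eq_one hk)
      have hpz : IsPGroup r (Subgroup.zpowers (⟨z, hzF⟩ : F)) :=
        IsPGroup.of_card (n := i) (by rw [Nat.card_zpowers, ← Subgroup.orderOf_coe, hi])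
      obtain ⟨S, hS⟩ := hpz.exists_le_sylow
      have hSn : (S : Subgroup F).Normal := inferInstance
      exact le_piCoreOf (Subgroup.map_subtype_le _)
        (Coprime.le_normalizer_map_of_characteristic Subgroup.le_normalizer _
          (Sylow.characteristic_of_normal S hSn))
        (piNum_of_isPGroup (π := π) (q := r) ⟨Fact.out, hrσ⟩ (S.2.map F.subtype))
        (show z ∈ (S : Subgroup F).map F.subtype from ⟨⟨z, hzF⟩, hS (Subgroup.mem_zpowers _), rfl⟩)

end Cfsg.Agent.S1439
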