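import Cfsg.Statements.S1428
import Cfsg.Agent.OddLocal.TauOneCommute
-- import your own Cfsg.Agent.* helpers here

set_option autoImplicit false
open Cfsg Cfsg.Agent Cfsg.Agent.OddLocal
open scoped commutatorElement

namespace Cfsg.Agent.S1428

/-- Let G be a minimal simple group of odd order, M a maximal subgroup, E a complement to M_σ in M, p ∈ τ₁(M), P ≤ E a subgroup of order p, and R a subgroup of prime order of E ∩ C_G(P). Then M_σ ∩ C_G(P) ≤ M_σ ∩ C_G(R). -/
theorem result {G : Type*} [Group G] [Finite G] (hG : Cfsg.IsMinSimpleOddOrder G)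
    (M : Subgroup G) (hM : IsCoatom M) (E : Subgroup G) (hE : Cfsg.IsComplIn E (Cfsg.sigmaCore M) M) (p : ℕ) (hp : p ∈ Cfsg.tau1 M) (P : Subgroup G) (hPE : P ≤ E) (hP : Nat.card P = p)
    (R : Subgroup G) (hRE : R ≤ E ⊓ Subgroup.centralizer (P : Set G)) (hR : (Nat.card R).Prime) :
    Cfsg.sigmaCore M ⊓ Subgroup.centralizer (P : Set G) ≤ Cfsg.sigmaCore M ⊓ Subgroup.centralizer (R : Set G) := by
  haveI : Fact p.Prime := ⟨hp.1⟩
  haveI : Fact (Nat.card R).Prime := ⟨hR⟩
  have hPM : P ≤ M := hPE.trans hE.1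
  have hRE' : R ≤ E := hRE.trans inf_le_left
  have hRM : R ≤ M := hRE'.trans hE.1
  have hRP : R ≤ Subgroup.centralizer (P : Set G) := hRE.trans inf_le_right
  have hrσ : Nat.card R ∉ sigma M :=
    compl_prime_not_sigma hG hM hE hR (Subgroup.card_dvd_of_le hRE')
  refine le_inf inf_le_left ?_
  by_contra hfail
  obtain ⟨q, hq, L, Y, hL, hnc, hqL, hqM, hqβ, hYq, hYσ, hYL, hY1, hRY, hYfix, hCY, hRL, hr1, hKeq, hMle⟩ :=
    failure_data hG hM hp hP hPM (r := Nat.card R) rfl hRM hrσ hRP hfail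
  have hLne : L ≠ M := fun e => hnc 1 (by rw [map_conj_eq_self_of_mem (one_mem _), e])
  set B := piCoreOf (beta M) M with hB
  have hHall := (Cfsg.Agent.S1414.result hG M hM).1
  have hBn : M ≤ Subgroup.normalizer (B : Set G) := le_normalizer_piCoreOf _ _
  have hBσ : B ≤ sigmaCore M := le_sigmaCore hG hM (piCoreOf_le _ _) fun s hs hd =>
    alpha_subset_sigma hG hM (hHall.2.1 s hs hd).1
  have hYM : Y ≤ M := hYσ.trans (sigmaCore_le M)
  by_cases hsym : sigmaCore M ⊓ Subgroup.centralizer (R : Set G) ≤ Subgroup.centralizer (P : Set G)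
  swap
  · -- the symmetrical situation
    obtain ⟨q', -, L', Y', -, -, -, -, -, -, -, -, -, -, -, -, -, -, hKeq', hMle'⟩ :=
      failure_data hG hM (p := Nat.card R) (r := p) hr1 rfl hRM hP hPM hp.2.1
        (Subgroup.le_centralizer_iff.mp hRP) hsym
    have h1 : ⁅Y, R⁆ ≤ B := by
      rw [Subgroup.commutator_le]
      intro y hy a ha
      obtain ⟨b, hb, k, hk, hbk⟩ := (Coprime.mem_sup_of_le_normalizer
        (inf_le_left.trans hBn)).mp (hMle' (hYM hy))
      have hkc : k ∈ Subgroup.centralizer (R : Set G) := by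
        have hkσ : k ∈ sigmaCore M := by
          have := (sigmaCore M).mul_mem ((sigmaCore M).inv_mem (hBσ hb)) (hYσ hy)
          rwa [← hbk, inv_mul_cancel_left] at this
        exact (hKeq'.ge ⟨hkσ, hk.2⟩).2
      have hka : k * a = a * k := (Subgroup.mem_centralizer_iff.mp hkc a ha).symm
      rw [← hbk, commutatorElement_def,
        show b * k * a * (b * k)⁻¹ * a⁻¹ = b * (k * a * k⁻¹ * b⁻¹ * a⁻¹) by group, hka,
        mul_inv_cancel_right]
      exact B.mul_mem hb ((Subgroup.mem_normalizer_iff.mp (hBn (hRM ha)) b⁻¹).mp (B.inv_mem hb))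
    have h2 : ⁅Y, R⁆ ≤ (⊥ : Subgroup G) := by
      rw [← Coprime.inf_eq_bot_of_coprime (H := Y) (K := B) (Nat.coprime_of_dvd fun s hs h h' => by
        haveI := Fact.mk hs
        obtain ⟨j, hj⟩ := IsPGroup.iff_card.mp hYq
        exact hqβ ((Nat.prime_dvd_prime_iff_eq hs Fact.out).mp (hs.dvd_of_dvd_pow (hj ▸ h)) ▸
          hHall.2.1 s hs h'))]
      exact le_inf (Coprime.commutator_le_of_le_normalizer hRY) h1
    rw [le_bot_iff, Subgroup.commutator_eq_bot_iff_le_centralizer] at h2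
    exact hY1 (le_bot_iff.mp (hYfix ▸ le_inf le_rfl h2))
  by_cases hB1 : B = ⊥
  · rw [hB1, bot_sup_eq] at hMle
    exact hLne.symm ((eq_or_lt_of_le (hMle.trans inf_le_right)).resolve_right
      fun h => hL.1 (hM.2 L h))
  obtain ⟨u, hu, hud⟩ := exists_prime_dvd_of_ne_bot hB1
  haveI := Fact.mk hu
  have huβ := hHall.2.1 u hu hud
  have huσ := alpha_subset_sigma hG hM huβ.1
  haveI : Group.IsSolvable B :=
    Coprime.isSolvable_of_le (piCoreOf_le _ _) (isSolvable_coatom hG hM)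
  obtain ⟨j, hj⟩ := IsPGroup.iff_card.mp hYq
  have hcop : (Nat.card ↥(Y ⊔ R)).Coprime (Nat.card B) := Nat.coprime_of_dvd fun s hs h h' => by
    rcases hs.dvd_mul.mp (h.trans (card_sup_dvd_mul hRY)) with h1 | h1
    · exact hqβ ((Nat.prime_dvd_prime_iff_eq hs Fact.out).mp (hs.dvd_of_dvd_pow (hj ▸ h1)) ▸
        hHall.2.1 s hs h')
    · exact hrσ ((Nat.prime_dvd_prime_iff_eq hs hR).mp h1 ▸
        alpha_subset_sigma hG hM (hHall.2.1 s hs h').1)
  obtain ⟨U₀, hU⟩ := Coprime.exists_invariant_sylow ((sup_le hYM hRM).trans hBn) hcop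
    (Or.inr inferInstance) u
  set U := (U₀ : Subgroup B).map B.subtype with hU'
  have hUB : U ≤ B := Subgroup.map_subtype_le _
  obtain ⟨c, hcR, hc1⟩ := exists_mem_ne_one R (fun e => hR.ne_one (by rw [e, Subgroup.card_bot]))
  have hc : c ^ Nat.card R = 1 := congrArg Subtype.val (pow_card_eq_one' (x := (⟨c, hcR⟩ : R)))
  have hcgen : Subgroup.zpowers c = R := Subgroup.eq_of_le_of_card_ge (Subgroup.zpowers_le.mpr hcR)
    (by rw [Nat.card_zpowers, orderOf_eq_prime hc hc1])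
  have hcent : Subgroup.centralizer ({c} : Set G) = Subgroup.centralizer (R : Set G) := by
    rw [← hcgen, Subgroup.zpowers_eq_closure, Subgroup.centralizer_closure]
  have hYLσ : Y ≤ sigmaCore L := le_sigmaCore_of_isPGroup hG hL hYL hYq hqL
  have hdisj : B ⊓ sigmaCore L = ⊥ := Coprime.inf_eq_bot_of_coprime
    (Nat.coprime_of_dvd fun s hs h h' => by
      haveI := Fact.mk hs
      exact not_alpha_of_sigma hG hL (piNum_sigmaCore L s hs h') hM (nonconj_symm hnc)
        (hHall.2.1 s hs h).1)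
  have hYU : Y ≤ Subgroup.centralizer (U : Set G) := by
    refine le_centralizer_of_fixed_omega (prime_ne_two hG hud) (U₀.2.map _) hR
      (fun e => hrσ (e ▸ huσ)) hc ?_ (le_sup_left.trans hU) (hU (Subgroup.mem_sup_right hcR))
      (hRY hcR) (by rw [hcent]; exact hYfix) ?_
    · intro hd
      exact hqβ ((Nat.prime_dvd_prime_iff_eq hu Fact.out).mp (hu.dvd_of_dvd_pow (hj ▸ hd)) ▸ huβ)
    intro v hv _ hcv
    have hvL : v ∈ L := (hKeq.le ⟨hBσ (hUB hv), hsym ⟨hBσ (hUB hv),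
      hcent ▸ Subgroup.mem_centralizer_singleton_iff.mpr hcv.eq.symm⟩⟩).2
    rw [Subgroup.mem_centralizer_iff]
    intro y hy
    have h1 : y * v * y⁻¹ * v⁻¹ ∈ B ⊓ sigmaCore L := by
      refine ⟨B.mul_mem ((Subgroup.mem_normalizer_iff.mp (hBn (hYM hy)) v).mp (hUB hv))
        (B.inv_mem (hUB hv)), ?_⟩
      have h := (sigmaCore L).mul_mem (hYLσ hy) ((Subgroup.mem_normalizer_iff.mp
        (le_normalizer_sigmaCore L hvL) y⁻¹).mp ((sigmaCore L).inv_mem (hYLσ hy)))
      simpa [mul_assoc] using h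
    rw [hdisj, Subgroup.mem_bot, mul_inv_eq_one, mul_inv_eq_iff_eq_mul] at h1
    exact h1
  obtain ⟨V, hVM, hVe, hV3⟩ := exists_elementary_of_not_pRankLE huβ.1.2
  obtain ⟨Q, hQ⟩ := exists_sylow_ge (Coprime.ea_isPGroup hVe)
    (mem_of_isPiHallOf_normal hHall hBn hVM (piNum_of_isPGroup huβ (Coprime.ea_isPGroup hVe)))
  obtain ⟨b, hb⟩ := MulAction.exists_smul_eq B Q U₀
  have hVU : V.map (MulAut.conj (b : G)).toMonoidHom ≤ U := by
    rw [hU', ← hb, map_subtype_sylow_smul]
    exact Subgroup.map_mono hQ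
  exact hLne (eq_of_unique (inUniqueMaximal_of_elementary_three hG
    (isElementaryAbelian_map hVe (b : G)) (by rw [card_map_conj]; exact hV3)) hM
    (hVU.trans ((hUB.trans (piCoreOf_le _ _)))) hL
    (hVU.trans ((Subgroup.le_centralizer_iff.mp hYU).trans hCY)))

end Cfsg.Agent.S1428
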