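import Cfsg.Statements.S1363
import Cfsg.Agent.OddLocal.KappaOutside
-- import your own Cfsg.Agent.* helpers here

set_option autoImplicit false
open Cfsg Cfsg.Agent Cfsg.Agent.OddLocal Subgroup

namespace Cfsg.Agent.S1363

/-- Let G be a minimal simple group of odd order and M a maximal subgroup with standard factorisation M = K U M_σ and K ≠ 1. Then U is abelian and the normalizer of U in G is not contained in M. -/
theorem result {G : Type*} [Group G] [Finite G] (hG : Cfsg.IsMinSimpleOddOrder G)
    (M : Subgroup G) (hM : IsCoatom M) (K U : Subgroup G) (hKU : Cfsg.IsSigmaDecomposition M K U) (hK1 : K ≠ ⊥) :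
    IsMulCommutative U ∧ ¬ Subgroup.normalizer (U : Set G) ≤ M := by
  refine ⟨(sigmaDecomposition_structure hG hM hKU hK1).1, fun hle => ?_⟩
  by_cases hU1 : U = ⊥
  · rw [hU1, normalizer_eq_top_iff.mpr inferInstance] at hle
    exact hM.1 (top_le_iff.mp hle)
  obtain ⟨r, hr, hrU⟩ := exists_prime_dvd_of_ne_bot hU1
  haveI := Fact.mk hr
  obtain ⟨R⟩ : Nonempty (Sylow r U) := inferInstance
  obtain ⟨H, hH, hNR⟩ := exists_coatom_ge_normalizer hG hM
    ((map_subtype_le _).trans hKU.compl.1 :
      (R : Subgroup U).map U.subtype ≤ M)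
    (fun e => R.ne_bot_of_dvd_card hrU ((map_eq_bot_iff_of_injective _ U.subtype_injective).mp e))
  obtain ⟨-, -, -, L, hL, he, -⟩ := kappa_pair hG hM hKU.hall hK1
  exact normalizer_U_not_le hG hM hKU hK1 hU1 hL.1 he.symm hL.2.1 hH hrU R hNR
    (inf_le_right.trans hle)

end Cfsg.Agent.S1363
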