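import Cfsg.Statements.S1366
import Cfsg.Agent.OddLocal.KappaPartner
-- import your own Cfsg.Agent.* helpers here

set_option autoImplicit false
open Cfsg Cfsg.Agent Cfsg.Agent.OddLocal Subgroup

namespace Cfsg.Agent.S1366

/-- Let G be a minimal simple group of odd order, M a maximal subgroup with standard factorisation M = K U M_σ, K ≠ 1, and K* = M_σ ∩ C_G(K). Then there is exactly one maximal subgroup M* of G such that K = M*_σ ∩ C_G(K*) and K* is a Hall κ(M*)-subgroup of M* (in particular κ(M*) is nonempty). -/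
theorem result {G : Type*} [Group G] [Finite G] (hG : Cfsg.IsMinSimpleOddOrder G)
    (M : Subgroup G) (hM : IsCoatom M) (K U : Subgroup G) (hKU : Cfsg.IsSigmaDecomposition M K U) (hK1 : K ≠ ⊥) :
    ∃! Mstar : Subgroup G, IsCoatom Mstar ∧ K = Cfsg.sigmaCore Mstar ⊓ Subgroup.centralizer ((Cfsg.sigmaCore M ⊓ Subgroup.centralizer (K : Set G)) : Set G) ∧
        Cfsg.IsPiHallOf (Cfsg.kappa Mstar) (Cfsg.sigmaCore M ⊓ Subgroup.centralizer (K : Set G)) Mstar := by
  have hK := hKU.hall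
  obtain ⟨-, -, -, L, hL, he, huniq⟩ := kappa_pair hG hM hK hK1
  refine ⟨L, ⟨hL.1, he.symm, hL.2.1⟩, fun X hX => ?_⟩
  rcases huniq X _ (isMember_partner hG hM hK hK1 hX.1 hX.2.1 hX.2.2) with h | h
  · exfalso
    obtain ⟨p, hp, hpd⟩ := exists_prime_dvd_of_ne_bot hK1
    exact (hK.2.1 p hp hpd).2.2.1
      (piNum_sigmaCore M p hp ((h.2.symm ▸ hpd).trans (card_dvd_of_le inf_le_left)))
  · exact h.1

end Cfsg.Agent.S1366
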