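import Cfsg.Statements.S1369
import Cfsg.Agent.OddLocal.KappaTI
import Cfsg.Agent.S1351
-- import your own Cfsg.Agent.* helpers here

set_option autoImplicit false
open Cfsg Cfsg.Agent Cfsg.Agent.OddLocal Subgroup

namespace Cfsg.Agent.S1369

/-- Let G be a minimal simple group of odd order, M a maximal subgroup with standard factorisation M = K U M_σ, K ≠ 1, K* = M_σ ∩ C_G(K), and M* a maximal subgroup with K = M*_σ ∩ C_G(K*) and K* a Hall κ(M*)-subgroup of M*. Then either U ≠ 1 or every K*-invariant complement of K* M*_σ in M* is nontrivial; and every maximal subgroup H of G with κ(H) nonempty is conjugate to M or to M*. -/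
theorem result {G : Type*} [Group G] [Finite G] (hG : Cfsg.IsMinSimpleOddOrder G)
    (M : Subgroup G) (hM : IsCoatom M) (K U : Subgroup G) (hKU : Cfsg.IsSigmaDecomposition M K U) (hK1 : K ≠ ⊥) (Mstar : Subgroup G) (hMstar : IsCoatom Mstar)
    (hKst : K = Cfsg.sigmaCore Mstar ⊓ Subgroup.centralizer ((Cfsg.sigmaCore M ⊓ Subgroup.centralizer (K : Set G)) : Set G))
    (hKstH : Cfsg.IsPiHallOf (Cfsg.kappa Mstar) (Cfsg.sigmaCore M ⊓ Subgroup.centralizer (K : Set G)) Mstar) :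
    (U ≠ ⊥ ∨ ∀ Ustar : Subgroup G, Cfsg.IsSigmaDecomposition Mstar (Cfsg.sigmaCore M ⊓ Subgroup.centralizer (K : Set G)) Ustar → Ustar ≠ ⊥) ∧
      ∀ H : Subgroup G, IsCoatom H → (Cfsg.kappa H).Nonempty →
        ∃ g : G, H = M.map (MulAut.conj g).toMonoidHom ∨ H = Mstar.map (MulAut.conj g).toMonoidHom := by
  have hK := hKU.hall
  have hm : IsMember (K ⊔ kStar M K) M K := ⟨hM, hK, hK1, rfl⟩
  have hm' := isMember_partner hG hM hK hK1 hMstar hKst hKstH
  obtain ⟨-, -, -, L, hL, he, huniq⟩ := kappa_pair hG hM hK hK1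
  have hLeq : Mstar = L := by
    rcases huniq _ _ hm' with h | h
    · obtain ⟨p, hp, hpd⟩ := exists_prime_dvd_of_ne_bot hK1
      exact absurd (piNum_sigmaCore M p hp ((h.2.symm ▸ hpd).trans (card_dvd_of_le inf_le_left)))
        (hK.2.1 p hp hpd).2.2.1
    · exact h.1
  have hpair : ∀ X K' : Subgroup G, IsMember (K ⊔ kStar M K) X K' →
      (X = M ∧ K' = K) ∨ (X = Mstar ∧ K' = kStar M K) := fun X K' hX => hLeq ▸ huniq X K' hX
  refine ⟨?_, fun H hH hκ => ?_⟩
  · by_cases hU1 : U = ⊥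
    · refine Or.inr fun V hV hV1 => ?_
      obtain ⟨X, K', hX, q, hq, hqd, hqσ, hqκ⟩ := hm.exists_not_P1 hG
      rcases hpair X K' hX with ⟨rfl, rfl⟩ | ⟨rfl, rfl⟩
      · obtain ⟨hE, -⟩ := sigmaDecomposition_compl hG hM hKU
        haveI := Fact.mk hq
        have h1 := (dvd_compl_iff hG hM hE).mpr ⟨hqd, hqσ⟩
        rw [hU1, bot_sup_eq] at h1
        exact hqκ (hK.2.1 q hq h1)
      · obtain ⟨hE, -⟩ := sigmaDecomposition_compl hG hMstar hV
        haveI := Fact.mk hq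
        have h1 := (dvd_compl_iff hG hMstar hE).mpr ⟨hqd, hqσ⟩
        rw [hV1, bot_sup_eq] at h1
        exact hqκ (hKstH.2.1 q hq h1)
    · exact Or.inl hU1
  · obtain ⟨KH, hKH⟩ := (Cfsg.Agent.S1351.result hG H hH).1
    have hKH1 : KH ≠ ⊥ := by
      intro e
      obtain ⟨p, hp⟩ := hκ
      refine hKH.2.2 p hp.1 hp ?_
      rw [e, relIndex_bot_left]
      exact hp.2.1
    set A := {a : G | ∃ g : G, ∃ z ∈ memberRest (K ⊔ kStar M K), a = g * z * g⁻¹} with hA
    set B := {a : G | ∃ g : G, ∃ z ∈ memberRest (KH ⊔ kStar H KH), a = g * z * g⁻¹} with hB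
    obtain ⟨a, haA, haB⟩ : (A ∩ B).Nonempty := by
      by_contra hne
      rw [Set.not_nonempty_iff_eq_empty] at hne
      have h1 := Set.ncard_union_add_ncard_inter A B
      rw [hne, Set.ncard_empty] at h1
      have h2 := Set.ncard_le_card (A ∪ B)
      have h3 : Nat.card G < 2 * A.ncard := half_lt_conj_rest hG hM hK hK1
      have h4 : Nat.card G < 2 * B.ncard := half_lt_conj_rest hG hH hKH hKH1
      omega
    obtain ⟨g, z, hz, rfl⟩ := haA
    obtain ⟨g', z', hz', he'⟩ := haB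
    have hcard : Nat.card (centralizer ({z'} : Set G)) ∣ Nat.card (centralizer ({z} : Set G)) := by
      rw [← card_map_conj (centralizer ({z'} : Set G)) (g⁻¹ * g')]
      refine card_dvd_of_le ?_
      rintro _ ⟨c, hc, rfl⟩
      have hc' := mem_centralizer_singleton_iff.mp hc
      refine mem_centralizer_singleton_iff.mpr ?_
      have hzz : z = g⁻¹ * g' * z' * (g⁻¹ * g')⁻¹ := by
        calc z = g⁻¹ * (g * z * g⁻¹) * g := by group
          _ = g⁻¹ * g' * z' * (g⁻¹ * g')⁻¹ := by rw [he']; group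
      change g⁻¹ * g' * c * (g⁻¹ * g')⁻¹ * z = z * (g⁻¹ * g' * c * (g⁻¹ * g')⁻¹)
      rw [hzz]
      calc g⁻¹ * g' * c * (g⁻¹ * g')⁻¹ * (g⁻¹ * g' * z' * (g⁻¹ * g')⁻¹)
          = g⁻¹ * g' * (c * z') * (g⁻¹ * g')⁻¹ := by group
        _ = _ := by rw [hc']; group
    rw [centralizer_rest hG hM hK hK1 hz, centralizer_rest hG hH hKH hKH1 hz'] at hcard
    obtain ⟨q, hq, hqd⟩ := exists_prime_dvd_of_ne_bot (IsMember.kStar_ne_bot hG
      (⟨hH, hKH, hKH1, rfl⟩ : IsMember (KH ⊔ kStar H KH) H KH))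
    haveI := Fact.mk hq
    have hqH := piNum_sigmaCore H q hq (hqd.trans (card_dvd_of_le inf_le_left))
    obtain ⟨X, K', hX, hqX, -⟩ := hm.exists_of_dvd hG hq
      ((hqd.trans (card_dvd_of_le le_sup_right)).trans hcard)
    obtain ⟨c, hc⟩ := exists_conj_of_sigma_inter hG hX.1 hH hqX hqH
    rcases hpair X K' hX with ⟨rfl, -⟩ | ⟨rfl, -⟩
    · exact ⟨c, Or.inl hc⟩
    · exact ⟨c, Or.inr hc⟩

end Cfsg.Agent.S1369
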