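import Cfsg.Statements.S1383
import Cfsg.Agent.OddLocal.TypeClass
import Cfsg.Agent.OddLocal.NonTI

set_option autoImplicit false
open Cfsg Cfsg.Agent.OddLocal Subgroup

namespace Cfsg.Agent.S1383

/-- Let G be a minimal simple group of odd order and M a maximal subgroup with standard factorisation M = K U M_σ. Then M is of Type V if and only if K ≠ 1, U = 1 and M_F = M_σ. -/
theorem result {G : Type*} [Group G] [Finite G] (hG : Cfsg.IsMinSimpleOddOrder G)
    (M : Subgroup G) (hM : IsCoatom M) (K U : Subgroup G) (hKU : Cfsg.IsSigmaDecomposition M K U) :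
    Cfsg.IsOfTypeV M ↔ (K ≠ ⊥ ∧ U = ⊥ ∧ Cfsg.fittingHallOf M = Cfsg.sigmaCore M) := by
  constructor
  · rintro ⟨W₁, V, W₂, hP, hV1, -⟩
    obtain ⟨hK1, -, ha, hb, -⟩ := typeP_invariants hG hM hKU hP
    have hU : U = ⊥ := by_contra fun hU1 => (ha hU1).1 hV1
    exact ⟨hK1, hU, by_contra fun he => (hb hU he).1 hV1⟩
  · rintro ⟨hK1, hU, he⟩
    obtain ⟨V, hVn, hKV, hV, hVU, -⟩ := exists_typeP_compl hG hM hKU hK1
    refine ⟨K, V, kStar M K, isTypePWith_of_compl hG hM hKU hK1 hVn hKV hV, (hVU he).trans hU, ?_⟩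
    by_cases hTI : IsTISubset (fittingHallOf M : Set G)
    · exact Or.inl hTI
    obtain ⟨g, hg, x, hx, hgx, hx1⟩ : ∃ g : G, g ∉ Subgroup.normalizer (fittingHallOf M : Set G) ∧
        ∃ x ∈ fittingHallOf M, g * x * g⁻¹ ∈ fittingHallOf M ∧ x ≠ 1 := by
      simpa [IsTISubset] using hTI
    have hgM : g ∉ M := fun h => hg (le_normalizer_fittingHallOf M h)
    have hX : fittingOf M ⊓ (fittingOf M).map (MulAut.conj g).toMonoidHom ≠ ⊥ := fun hbot =>
      hx1 (conj_eq_one_iff.1 (mem_bot.1 (hbot ▸ mem_inf.2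
        ⟨fittingHallOf_le_fittingOf M hgx, mem_map_of_mem _ (fittingHallOf_le_fittingOf M hx)⟩)))
    obtain ⟨-, ⟨hXle, -⟩, -, hcases⟩ := nonTI_structure hG hM hKU hgM hX
    have hD : ⁅M, M⁆ = fittingHallOf M := by rw [derived_eq hG hM hKU hK1, hU, bot_sup_eq, he]
    have hc : IsComplIn (fittingHallOf M) K M := hD ▸ isComplIn_derived_kappa hG hM hKU hK1
    have hrel : (fittingHallOf M).relIndex M = Nat.card K := by
      have h1 := Coprime.card_mul_relIndex_of_le hc.1
      rw [← IsComplIn.card_mul hc] at h1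
      exact Nat.eq_of_mul_eq_mul_left Nat.card_pos h1
    rcases hcases with ⟨h, -⟩ | ⟨p, hp, hXp, -, -, -, hcyc, hexp⟩ | ⟨p, hp, hXp, -, -, hcyc, hP3, -, -, -, hdvd⟩
    · exact absurd h hK1
    · have hpd : p ∣ Nat.card (fittingHallOf M) := hXp ▸ card_dvd_of_le hXle
      refine Or.inr (Or.inl ⟨p, hp, hpd, ?_, hcyc⟩)
      haveI : IsCyclic K := hKU.cyclic
      have hcard : Nat.card (↥M ⧸ fittingHall ↥M) = Nat.card K := by
        rw [← hrel, relIndex, fittingHallOf, subgroupOf,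
          comap_map_eq_self_of_injective M.subtype_injective, ← index_eq_card]
      haveI : IsCyclic (↥M ⧸ fittingHall ↥M) := isCyclic_of_surjective
        ((QuotientGroup.mk' (fittingHall ↥M)).comp (inclusion hc.2.1)) (fun q => by
          obtain ⟨⟨m, hm⟩, rfl⟩ := QuotientGroup.mk'_surjective _ q
          obtain ⟨a, ha, b, hb, e⟩ := hc.2.2.2 m hm
          obtain ⟨a', ha', e'⟩ := mem_map.1 ha
          refine ⟨⟨b, hb⟩, ?_⟩
          have hn : (inclusion hc.2.1 ⟨b, hb⟩)⁻¹ * a' * inclusion hc.2.1 ⟨b, hb⟩ ∈ fittingHall ↥M := by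
            simpa using (inferInstance : (fittingHall ↥M).Normal).conj_mem a' ha'
              (inclusion hc.2.1 ⟨b, hb⟩)⁻¹
          refine (QuotientGroup.eq).2 ?_
          convert hn using 1
          refine Subtype.ext ?_
          simp only [coe_subtype] at e'
          simp [e, e', mul_assoc])
      rw [← hcard, ← IsCyclic.exponent_eq_card]
      exact hexp p hp hpd
    · exact Or.inr (Or.inr ⟨p, hp, hXp ▸ card_dvd_of_le hXle, hP3, hrel ▸ hdvd, hcyc⟩)

end Cfsg.Agent.S1383
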