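import Cfsg.Statements.S1375
import Cfsg.Agent.OddLocal.SupportCoset
import Cfsg.Agent.OddLocal.KappaDecomp
-- import your own Cfsg.Agent.* helpers here

set_option autoImplicit false
open Cfsg Cfsg.Agent Cfsg.Agent.OddLocal Subgroup

namespace Cfsg.Agent.S1375

/-- Let G be a minimal simple group of odd order, M a maximal subgroup, x ≠ 1 in M_σ with C_G(x) not contained in M. Then exactly one maximal subgroup N contains C_G(x); for it N_σ = N_F, C_{N_σ}(x) is a normal subgroup of C_G(x) complementing C_M(x), M ∩ N is a complement to N_σ in N, and for every standard factorisation N = K' U' N_σ one has U' ≠ 1 and x ∈ A(N) with x ∉ N_σ. -/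
theorem result {G : Type*} [Group G] [Finite G] (hG : Cfsg.IsMinSimpleOddOrder G)
    (M : Subgroup G) (hM : IsCoatom M) (x : G) (hx : x ∈ Cfsg.sigmaCore M) (hx1 : x ≠ 1) (hxM : ¬ Subgroup.centralizer ({x} : Set G) ≤ M) :
    ∃ N : Subgroup G, (IsCoatom N ∧ Subgroup.centralizer ({x} : Set G) ≤ N) ∧ (∀ L : Subgroup G, IsCoatom L → Subgroup.centralizer ({x} : Set G) ≤ L → L = N) ∧
        Cfsg.sigmaCore N = Cfsg.fittingHallOf N ∧
        Subgroup.centralizer ({x} : Set G) ≤ Subgroup.normalizer ((Cfsg.sigmaCore N ⊓ Subgroup.centralizer ({x} : Set G) : Subgroup G) : Set G) ∧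
        Cfsg.IsComplIn (M ⊓ Subgroup.centralizer ({x} : Set G)) (Cfsg.sigmaCore N ⊓ Subgroup.centralizer ({x} : Set G)) (Subgroup.centralizer ({x} : Set G)) ∧
        Cfsg.IsComplIn (M ⊓ N) (Cfsg.sigmaCore N) N ∧
        ∀ K' U' : Subgroup G, Cfsg.IsSigmaDecomposition N K' U' → U' ≠ ⊥ ∧ x ∈ Cfsg.sigmaA N U' ∧ x ∉ Cfsg.sigmaCore N := by
  obtain ⟨N, hN, hne, hle, hu, h2, hMN, -, heq⟩ := exists_support hG hM hx hx1 hxM
  have hS : IsSupport M x (Cfsg.sigmaCore N ⊓ centralizer ({x} : Set G)) :=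
    Or.inr ⟨hxM, N, hN, hle, rfl⟩
  obtain ⟨hn, hcompl, -, -⟩ := hS.structure hG hM hx hx1
  refine ⟨N, ⟨hN, hle⟩, hu, heq, hn, hcompl, hMN, fun K' U' hKU => ?_⟩
  obtain ⟨p, hp, hpd⟩ := Nat.exists_prime_and_dvd (mt orderOf_eq_one_iff.mp hx1)
  haveI := Fact.mk hp
  have hp2 := h2 p hp hpd
  have hxN : x ∈ N := hle (mem_centralizer_singleton_iff.mpr rfl)
  have hκ : ∀ q : ℕ, q.Prime → q ∣ orderOf x → q ∉ Cfsg.kappa N := fun q hq hd hc => by
    haveI := Fact.mk hq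
    rcases kappa_tau13 hG hN hc with h | h
    · exact (h2 q hq hd).2.2.2 h.2.2.2.2
    · exact (h2 q hq hd).2.2.2 h.2.2.2
  obtain ⟨hHall, hNn⟩ := sigmaDecomposition_hall hG hN hKU
  have hxU : x ∈ U' ⊔ Cfsg.sigmaCore N := mem_of_isPiHallOf_normal hHall hNn
    (zpowers_le.mpr hxN) (fun q hq hd => hκ q hq (by rwa [Nat.card_zpowers] at hd)) (mem_zpowers x)
  have hxσ : x ∉ Cfsg.sigmaCore N := fun hc => hp2.2.1 (piNum_sigmaCore N p hp
    (hpd.trans (Subgroup.orderOf_dvd_natCard _ hc)))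
  refine ⟨fun e => hxσ ?_, ⟨⟨hxN, ?_⟩, hxU⟩, hxσ⟩
  · rw [e, bot_sup_eq] at hxU
    exact hxU
  obtain ⟨c, hc, hcM⟩ := SetLike.not_le_iff_exists.mp hxM
  obtain ⟨a, ha, b, hb, rfl⟩ := hcompl.2.2.2 c hc
  exact ⟨b, hb.1, fun e => hcM (by rw [e, mul_one]; exact ha.1),
    (mem_centralizer_singleton_iff.mp hb.2).symm⟩

end Cfsg.Agent.S1375
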