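import Cfsg.Statements.S5339

set_option autoImplicit false
open Cfsg

namespace Cfsg.Agent.S5339

/-- Let F be a saturated fusion system over a nontrivial finite p-group S such that Aut_F(S) consists of inner automorphisms only and S has no strongly closed subgroup other than 1 and S. Then F is simple. -/
theorem result {Ω : Type*} [Group Ω] {S : Subgroup Ω} [Finite S] (p : ℕ) [Fact p.Prime] (hS : IsPGroup p S) (F : Cfsg.FusionSystem S) (hF : F.IsSaturated p) (hS1 : S ≠ ⊥) (htop : F.autGroup S = Cfsg.Inn ↥S) (hsc : ∀ T : Subgroup Ω, F.StronglyClosed T → T = ⊥ ∨ T = S) : F.IsSimple p := by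
  refine ⟨hF, hS1, fun T E hE => ?_⟩
  obtain ⟨⟨hEs, -, hsub, hTc, -, hfr⟩, -⟩ := hE
  rcases hsc T hTc with h | h
  · exact Or.inl h
  · subst h
    refine Or.inr ⟨rfl, fun P => Set.Subset.antisymm (hsub P) fun φ hφ => ?_⟩
    obtain ⟨α, hα, φ₀, hφ₀, h0⟩ := hfr P (F.le_of_mem hφ).1 φ hφ
    rw [htop] at hα
    obtain ⟨s, rfl⟩ := hα
    have hval : ∀ x : P, φ₀ x ∈ T := (E.le_of_mem hφ₀).2
    have hc := E.comp_mem hφ₀ (E.conj_mem (le_refl T) s.2) hval
    have e : φ = (conjHom T (s : Ω)).comp (φ₀.codRestrict T hval) := by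
      ext x
      rw [h0 x (hval x)]
      rfl
    rw [e]; exact hc

end Cfsg.Agent.S5339
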