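import Cfsg.Statements.S1136
import Cfsg.Agent.RankOneClass.Main
import Cfsg.Agent.RankOneClass.OddPart
import Cfsg.Agent.RankOneClass.Abelian
import Cfsg.Agent.RankOneClass.LinCase
import Cfsg.Agent.RankOneClass.SqCase
import Cfsg.Agent.RankOneClass.Lines.Main
import Cfsg.Agent.RankOneClass.Bound
import Cfsg.Agent.RankOneClass.CoordMain
import Cfsg.Agent.RankOneClass.Recog
import Cfsg.Agent.RankOneClass.UniEight

set_option autoImplicit false
open Cfsg

namespace Cfsg.Agent.S1136

/-- In the rank-one set-up (`G` finite and doubly transitive on `Ω`, `t` an involution moving `a`, `Q` normal in `G_a` with `G_a = Q D`, `Q ⊓ D = 1` for the two-point stabiliser `D = G_a ⊓ G_{t • a}`, `|Q|` even, `|D|` odd), with the action faithful and `G` containing two distinct commuting involutions: `G` has a normal subgroup `L` of odd index which is isomorphic to `PSL₂(q)`, to a Suzuki group `Sz(q)`, or to `PSU₃(q)` (realised over the field with `q²` elements), for some power `q` of 2 with `q > 2`. -/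
theorem result {G Ω : Type*} [Group G] [Finite G] [MulAction G Ω] [FaithfulSMul G Ω] {a : Ω} {t : G} {Q : Subgroup G}
    (hS : Cfsg.IsRankOneSetup G Ω a t Q)
    (h2 : ∃ x y : G, x ≠ 1 ∧ y ≠ 1 ∧ x ≠ y ∧ x * x = 1 ∧ y * y = 1 ∧ x * y = y * x) :
    ∃ L : Subgroup G, L.Normal ∧ Odd L.index ∧
      ((∃ (F : Type) (_ : Field F) (_ : Fintype F), (∃ n : ℕ, 2 ≤ n ∧ Fintype.card F = 2 ^ n) ∧
          Nonempty (L ≃* Matrix.ProjectiveSpecialLinearGroup (Fin 2) F)) ∨
        Cfsg.Lie.IsoSuzuki L ∨
        (∃ (F : Type) (_ : Field F) (_ : Fintype F) (n : ℕ), 2 ≤ n ∧ Fintype.card F = (2 ^ n) ^ 2 ∧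
          Nonempty (L ≃* Cfsg.PSU 3 F (2 ^ n)))) := by
  exact (RankOneClass.classification_of_stages
    { pgroup := fun G _ _ Ω _ a t Q => RankOneClass.pGroupStmt G a t Q
      abelian := fun G _ _ Ω _ a t Q => RankOneClass.abelianStmt G a t Q
      lin := fun G _ _ Ω _ a t Q => RankOneClass.linStmt
      square := fun G _ _ Ω _ a t Q => RankOneClass.squareStmt
      lines := fun G _ _ Ω _ a t Q => RankOneClass.linesStmt a t Q
      wLarge := fun G _ _ Ω _ a t Q => RankOneClass.wLargeStmt a t Q
      coord := fun G _ _ Ω _ a t Q => RankOneClass.coordStmt G a t Q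
      recog := fun G _ _ Ω _ a t Q => RankOneClass.recog a t Q
      eight := fun G _ _ Ω _ a t Q => RankOneClass.eightStmt }
    ⟨inferInstance, hS, h2⟩).2

end Cfsg.Agent.S1136
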