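import Cfsg.Statements.S1163
import Cfsg.Agent.Suzuki.Fusion
-- import your own Cfsg.Agent.* helpers here

set_option autoImplicit false
open Cfsg
open Cfsg.Agent

namespace Cfsg.Agent.S1163

/-- For the Suzuki group Sz(q), q = 2^(2m+1) ≥ 8, realised as the elements g of Sp₄(F) with g* = g^θ (θ the 2^(m+1)-th power map, so that θ² is squaring): `|Sz(q)| = q² (q - 1) (q² + 1)`, and there is a Sylow 2-subgroup `S` whose normaliser `H` has order `q²(q-1)` and index `q² + 1`, the action of `Sz(q)` on the cosets of `H` is doubly transitive, and `S` acts regularly on the cosets other than `H` itself. -/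
theorem result {F : Type*} [Field F] [Fintype F] {m : ℕ} (hm : 1 ≤ m) (hF : Fintype.card F = 2 ^ (2 * m + 1)) :
    Nat.card ↥(Cfsg.Lie.Sz F (2 ^ (m + 1))) = (2 ^ (2 * m + 1)) ^ 2 * (2 ^ (2 * m + 1) - 1) * ((2 ^ (2 * m + 1)) ^ 2 + 1) ∧
    ∃ S : Sylow 2 ↥(Cfsg.Lie.Sz F (2 ^ (m + 1))),
      Nat.card (Subgroup.normalizer ((S : Subgroup ↥(Cfsg.Lie.Sz F (2 ^ (m + 1)))) : Set ↥(Cfsg.Lie.Sz F (2 ^ (m + 1))))) = (2 ^ (2 * m + 1)) ^ 2 * (2 ^ (2 * m + 1) - 1) ∧
      (Subgroup.normalizer ((S : Subgroup ↥(Cfsg.Lie.Sz F (2 ^ (m + 1)))) : Set ↥(Cfsg.Lie.Sz F (2 ^ (m + 1))))).index = (2 ^ (2 * m + 1)) ^ 2 + 1 ∧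
      MulAction.IsMultiplyPretransitive ↥(Cfsg.Lie.Sz F (2 ^ (m + 1))) (↥(Cfsg.Lie.Sz F (2 ^ (m + 1))) ⧸ Subgroup.normalizer ((S : Subgroup ↥(Cfsg.Lie.Sz F (2 ^ (m + 1)))) : Set ↥(Cfsg.Lie.Sz F (2 ^ (m + 1))))) 2 ∧
      ∀ x y : ↥(Cfsg.Lie.Sz F (2 ^ (m + 1))) ⧸ Subgroup.normalizer ((S : Subgroup ↥(Cfsg.Lie.Sz F (2 ^ (m + 1)))) : Set ↥(Cfsg.Lie.Sz F (2 ^ (m + 1)))),
        x ≠ (QuotientGroup.mk 1) → y ≠ (QuotientGroup.mk 1) → ∃! s : ↥(S : Subgroup ↥(Cfsg.Lie.Sz F (2 ^ (m + 1)))), (s : ↥(Cfsg.Lie.Sz F (2 ^ (m + 1)))) • x = y := by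
  classical
  obtain ⟨e⟩ := Suzuki.nonempty_equiv (F := F) hm hF
  have hG := RankOne.Ovoid.good_of_card (m := m) hF
  have : Fact (Nat.Prime 2) := ⟨Nat.prime_two⟩
  set L := ↥(Cfsg.Lie.Sz F (2 ^ (m + 1)))
  let : MulAction L (Cfsg.suzukiOvoid F m) := MulAction.compHom _ e.symm.toMonoidHom
  have hsmul : ∀ (l : L) (p : Cfsg.suzukiOvoid F m), l • p = e.symm l • p := fun _ _ => rfl
  have h2 : MulAction.IsMultiplyPretransitive L (Cfsg.suzukiOvoid F m) 2 := by
    rw [MulAction.is_two_pretransitive_iff]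
    intro a b c d hab hcd
    obtain ⟨g, hga, hgb⟩ :=
      (MulAction.is_two_pretransitive_iff.mp (Suzuki.pretransitive_two hG)) hab hcd
    exact ⟨e g, by rw [hsmul, e.symm_apply_apply, hga], by rw [hsmul, e.symm_apply_apply, hgb]⟩
  have h1 : MulAction.IsPretransitive L (Cfsg.suzukiOvoid F m) :=
    MulAction.isPretransitive_of_is_two_pretransitive
  have hcard : Nat.card L = Nat.card (Cfsg.Sz F m) := (Nat.card_congr e.toEquiv).symm
  have hq : Nat.card F = 2 ^ (2 * m + 1) := by rw [Nat.card_eq_fintype_card, hF]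
  let S0 : Subgroup L := (Suzuki.U hG).comap e.symm.toMonoidHom
  let S : Sylow 2 L :=
    ((Suzuki.U_isPGroup hG hF).comap_of_injective e.symm.toMonoidHom e.symm.injective).toSylow
      (by
        rw [Subgroup.index_comap_of_surjective _ e.symm.surjective]
        exact Suzuki.not_dvd_index_U hG hm hF)
  have hN : Subgroup.normalizer ((S : Subgroup L) : Set L) =
      MulAction.stabilizer L (Suzuki.pI : Cfsg.suzukiOvoid F m) := by
    show Subgroup.normalizer (((Suzuki.U hG).comap e.symm.toMonoidHom : Subgroup L) : Set L) = _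
    ext l
    rw [MulAction.mem_stabilizer_iff, hsmul, ← MulAction.mem_stabilizer_iff,
      ← Suzuki.normalizer_U hG hm hF]
    constructor
    · intro h x
      have := h (e x)
      simpa using this
    · intro h x
      have := h (e.symm x)
      simpa using this
  refine ⟨?_, S, ?_, ?_, ?_, ?_⟩
  · rw [hcard, Suzuki.card_eq hm hF, hq]
  · rw [hN, ← hq, ← Suzuki.card_stabilizer hm hF]
    refine Nat.card_congr (Equiv.subtypeEquiv e.symm.toEquiv fun l => ?_)
    exact Iff.rfl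
  · rw [hN, MulAction.index_stabilizer_of_transitive, RankOne.Ovoid.card_ovoid, hF]
  · rw [MulAction.is_two_pretransitive_iff]
    intro a b c d hab hcd
    induction a using QuotientGroup.induction_on with | H a => ?_
    induction b using QuotientGroup.induction_on with | H b => ?_
    induction c using QuotientGroup.induction_on with | H c => ?_
    induction d using QuotientGroup.induction_on with | H d => ?_
    have key : ∀ x y : L, (QuotientGroup.mk x : L ⧸ Subgroup.normalizer ((S : Subgroup L) : Set L)) =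
        QuotientGroup.mk y ↔ x • (Suzuki.pI : Cfsg.suzukiOvoid F m) = y • Suzuki.pI := by
      intro x y
      rw [QuotientGroup.eq, hN, MulAction.mem_stabilizer_iff, mul_smul, inv_smul_eq_iff, eq_comm]
    obtain ⟨g, hga, hgb⟩ := (MulAction.is_two_pretransitive_iff.mp h2)
      (fun h => hab ((key a b).mpr h)) (fun h => hcd ((key c d).mpr h))
    exact ⟨g, (key (g * a) c).mpr (by rw [mul_smul, hga]),
      (key (g * b) d).mpr (by rw [mul_smul, hgb])⟩
  · intro x y hx hy
    induction x using QuotientGroup.induction_on with | H x => ?_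
    induction y using QuotientGroup.induction_on with | H y => ?_
    have key : ∀ x y : L, (QuotientGroup.mk x : L ⧸ Subgroup.normalizer ((S : Subgroup L) : Set L)) =
        QuotientGroup.mk y ↔ x • (Suzuki.pI : Cfsg.suzukiOvoid F m) = y • Suzuki.pI := by
      intro x y
      rw [QuotientGroup.eq, hN, MulAction.mem_stabilizer_iff, mul_smul, inv_smul_eq_iff, eq_comm]
    have hx' : x • (Suzuki.pI : Cfsg.suzukiOvoid F m) ≠ Suzuki.pI := fun h =>
      hx ((key x 1).mpr (by rw [h, one_smul]))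
    have hy' : y • (Suzuki.pI : Cfsg.suzukiOvoid F m) ≠ Suzuki.pI := fun h =>
      hy ((key y 1).mpr (by rw [h, one_smul]))
    obtain ⟨⟨u, hu⟩, hue, huni⟩ := Suzuki.U_regular hG hx' hy'
    refine ⟨⟨e u, show e.symm (e u) ∈ Suzuki.U hG by rwa [e.symm_apply_apply]⟩, ?_, ?_⟩
    · exact (key (e u * x) y).mpr (by rw [mul_smul, hsmul, e.symm_apply_apply]; exact hue)
    · rintro ⟨s, hs⟩ h
      have h' := (key (s * x) y).mp h
      rw [mul_smul, hsmul] at h'
      refine Subtype.ext ?_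
      show s = e u
      have h2 : e.symm s = u := congrArg Subtype.val (huni ⟨e.symm s, hs⟩ h')
      rw [← h2, e.apply_symm_apply]

end Cfsg.Agent.S1163
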