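import Cfsg.Statements.S0295
import Cfsg.Agent.Classical.OrthPOmega
-- import your own Cfsg.Agent.* helpers here

set_option autoImplicit false
open Cfsg

namespace Cfsg.Agent.S0295

/-- PΩ_{2m+1}(q) is simple for q odd and m at least 3. -/
theorem result {F : Type*} [Field F] [Fintype F] (hodd : Odd (Fintype.card F)) (m : ℕ) (hm : 3 ≤ m) : IsSimpleGroup (Cfsg.POmega F (Cfsg.quadFormOdd m F)) := by
  have h2 : (2 : F) ≠ 0 := Ring.two_ne_zero fun h => by
    have h' := FiniteField.even_card_of_char_two h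
    obtain ⟨r, hr⟩ := hodd
    omega
  open Cfsg.Agent.Classical.Quad QuadraticMap in
    let Q : QuadraticForm F (Unit ⊕ (Fin m ⊕ Fin m) → F) := (hyp (sqForm F) m).comp (oddCoord m).toLinearMap
    have hQe : ⇑Q = Cfsg.quadFormOdd m F := funext fun x => by simp [Q, oddCoord_map]
    have hQ : (polarBilin Q).Nondegenerate :=
      Iso.nondeg (Iso.symm ⟨oddCoord m, fun x => by simp [Q]⟩) (nondeg_hyp (nondeg_sqForm h2) m)
    rw [← hQe]
    exact isSimpleGroup_pomega hQ (by simp; omega)

end Cfsg.Agent.S0295
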