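import Cfsg.Statements.S5317
import Cfsg.Agent.GroupSub.Data

set_option autoImplicit false
open Cfsg

namespace Cfsg.Agent.S5317

section Abstract

variable {G : Type*} [Group G] [Finite G]

theorem prime_dvd_card_of_pgroup {H : Type*} [Group H] [Finite H] [Nontrivial H] (h : IsPGroup 2 H) :
    2 ∣ Nat.card H := by
  obtain ⟨n, hn⟩ := IsPGroup.iff_card.1 h
  rcases n with _ | n
  · rw [pow_zero] at hn; exact absurd hn Finite.one_lt_card.ne'
  · exact hn ▸ dvd_pow_self 2 n.succ_ne_zero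

theorem mem_sylow_of_two_pow (S : Sylow 2 G) {g : G}
    (hg : g ∈ Subgroup.normalizer ((S : Subgroup G) : Set G)) {k : ℕ} (hk : g ^ 2 ^ k = 1) :
    g ∈ (S : Subgroup G) := by
  have hz : IsPGroup 2 (Subgroup.zpowers g) := by
    rintro ⟨x, i, rfl⟩
    exact ⟨k, Subtype.ext (by
      show (g ^ i) ^ 2 ^ k = 1
      rw [← zpow_natCast, ← zpow_mul, mul_comm, zpow_mul, zpow_natCast, hk, one_zpow])⟩
  have hp := hz.to_sup_of_normal_right' S.isPGroup' (Subgroup.zpowers_le.2 hg)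
  have := S.is_maximal' hp le_sup_right
  exact this ▸ Subgroup.mem_sup_left (Subgroup.mem_zpowers g)

/-- Simplicity of the 2-fusion system when all involutions are conjugate and an involution centraliser is
an abelian group with unique involution, extended by an inversion, with an element of order 4. -/
theorem dihedral_simple (j : G) (A : Subgroup G)
    (hconj : ∀ x : G, x * x = 1 → x ≠ 1 → ∃ g : G, g * j * g⁻¹ = x) (hj1 : j ≠ 1) (hj : j * j = 1)
    (hA : ∀ t ∈ A, j * t = t * j) (hAc : ∀ t ∈ A, ∀ u ∈ A, t * u = u * t)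
    (hne : ∃ w : G, j * w = w * j ∧ w ∉ A)
    (hanti : ∀ w : G, j * w = w * j → w ∉ A → w * w = 1 ∧ ∀ t ∈ A, w * t * w⁻¹ = t⁻¹)
    (huniq : ∀ t ∈ A, t * t = 1 → t = 1 ∨ t = j)
    (hidx : ∀ v w : G, j * v = v * j → j * w = w * j → v ∉ A → w ∉ A → v * w ∈ A)
    (hq : ∃ t ∈ A, t * t = j) (S : Sylow 2 G) :
    (Cfsg.groupFusionSystem (S : Subgroup G)).IsSimple 2 := by
  haveI : Fact (Nat.Prime 2) := ⟨Nat.prime_two⟩
  have hjp : IsPGroup 2 (Subgroup.zpowers j) := by
    rintro ⟨x, i, rfl⟩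
    exact ⟨1, Subtype.ext (by
      show (j ^ i) ^ 2 ^ 1 = 1
      rw [← zpow_natCast, ← zpow_mul, mul_comm, zpow_mul, zpow_natCast, pow_one, pow_two, hj, one_zpow])⟩
  obtain ⟨P, hP⟩ := hjp.exists_le_sylow
  haveI : Nontrivial (P : Subgroup G) :=
    ⟨⟨⟨j, hP (Subgroup.mem_zpowers j)⟩, 1, fun h => hj1 (congrArg Subtype.val h)⟩⟩
  haveI := P.isPGroup'.center_nontrivial
  have hdvd : 2 ∣ Nat.card (Subgroup.center (P : Subgroup G)) :=
    prime_dvd_card_of_pgroup (P.isPGroup'.to_subgroup _)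
  obtain ⟨z, hz⟩ := exists_prime_orderOf_dvd_card' 2 hdvd
  have hzz : (((z : (P : Subgroup G)) : G)) * ((z : (P : Subgroup G)) : G) = 1 := by
    have h := pow_orderOf_eq_one z
    rw [hz, pow_two] at h
    exact congrArg (fun y : Subgroup.center (P : Subgroup G) => ((y : (P : Subgroup G)) : G)) h
  have hz1 : ((z : (P : Subgroup G)) : G) ≠ 1 := fun h => by
    rw [show z = 1 from Subtype.ext (Subtype.ext h), orderOf_one] at hz
    omega
  obtain ⟨g₀, hg₀⟩ := hconj _ hzz hz1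
  let S₀ : Sylow 2 G := g₀⁻¹ • P
  have hmem : ∀ x : G, x ∈ (S₀ : Subgroup G) ↔ g₀ * x * g₀⁻¹ ∈ (P : Subgroup G) := by
    intro x
    rw [show (S₀ : Subgroup G) = GroupSub.cj g₀⁻¹ (P : Subgroup G) from rfl, GroupSub.mem_cj]
    simp [mul_assoc]
  have hjS : j ∈ (S₀ : Subgroup G) := (hmem j).2 (hg₀ ▸ (z : (P : Subgroup G)).2)
  have hjc : ∀ s ∈ (S₀ : Subgroup G), j * s = s * j := by
    intro s hs
    have h := congrArg Subtype.val (Subgroup.mem_center_iff.1 z.2 ⟨_, (hmem s).1 hs⟩)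
    simp only [Subgroup.coe_mul] at h
    rw [← hg₀] at h
    have h' : g₀ * (s * j) * g₀⁻¹ = g₀ * (j * s) * g₀⁻¹ := by
      rw [show g₀ * (s * j) * g₀⁻¹ = g₀ * s * g₀⁻¹ * (g₀ * j * g₀⁻¹) by group, h]
      group
    exact (mul_left_cancel (mul_right_cancel h')).symm
  obtain ⟨w, hwS, hwA⟩ : ∃ w ∈ (S₀ : Subgroup G), w ∉ A := by
    by_contra! hall
    obtain ⟨w, hw, hwA⟩ := hne
    obtain ⟨hw2, hwt⟩ := hanti w hw hwA
    refine hwA (hall w (mem_sylow_of_two_pow S₀ (GroupSub.mem_normalizer_of_cj_le ?_) (k := 1)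
      (by rw [pow_one, pow_two, hw2])))
    rintro _ ⟨s, hs, rfl⟩
    show w * s * w⁻¹ ∈ (S₀ : Subgroup G)
    rw [hwt s (hall s hs)]
    exact (S₀ : Subgroup G).inv_mem hs
  obtain ⟨hw2, hwt⟩ := hanti w (hjc w hwS) hwA
  obtain ⟨t, htA, ht⟩ := hq
  have ht4 : t ^ 2 ^ 2 = 1 := by
    rw [show (2 : ℕ) ^ 2 = 2 * 2 from rfl, pow_mul, pow_two t, ht, pow_two, hj]
  have htS : t ∈ (S₀ : Subgroup G) := by
    refine mem_sylow_of_two_pow S₀ (GroupSub.mem_normalizer_of_cj_le ?_) ht4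
    rintro _ ⟨s, hs, rfl⟩
    show t * s * t⁻¹ ∈ (S₀ : Subgroup G)
    by_cases hsA : s ∈ A
    · rw [hAc t htA s hsA, mul_inv_cancel_right]; exact hs
    · obtain ⟨-, hst⟩ := hanti s (hjc s hs) hsA
      have h1 : t * s = s * t⁻¹ := by
        rw [← hst t htA, ← mul_assoc, ← mul_assoc]
        have hs2 := (hanti s (hjc s hs) hsA).1
        rw [hs2, one_mul, inv_eq_of_mul_eq_one_right hs2]
      rw [h1, mul_assoc, ← mul_inv_rev, ht]
      exact (S₀ : Subgroup G).mul_mem hs ((S₀ : Subgroup G).inv_mem hjS)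
  refine GroupSub.isSimple_of_data S₀
    (fun h => hj1 (Subgroup.mem_bot.1 (h ▸ hjS))) (fun T hT => ?_) ?_ S
  · by_cases hb : T = ⊥
    · exact Or.inl hb
    refine Or.inr (le_antisymm hT.1 fun s hs => ?_)
    haveI : Nontrivial T := T.nontrivial_iff_ne_bot.2 hb
    have hdT : 2 ∣ Nat.card T := prime_dvd_card_of_pgroup (S₀.isPGroup'.to_le hT.1)
    obtain ⟨⟨x, hx⟩, hxo⟩ := exists_prime_orderOf_dvd_card' 2 hdT
    rw [Subgroup.orderOf_mk] at hxo
    have hxx : x * x = 1 := by rw [← pow_two, ← hxo, pow_orderOf_eq_one]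
    have hx1 : x ≠ 1 := fun h => by rw [h, orderOf_one] at hxo; omega
    have hinv : ∀ y ∈ (S₀ : Subgroup G), y * y = 1 → y ∈ T := by
      intro y hy hyy
      rcases eq_or_ne y 1 with rfl | hy1
      · exact T.one_mem
      obtain ⟨a, ha⟩ := hconj x hxx hx1
      obtain ⟨b, hb⟩ := hconj y hyy hy1
      have e : (b * a⁻¹) * x * (b * a⁻¹)⁻¹ = y := by rw [← ha, ← hb]; group
      exact e ▸ hT.2 x hx _ (e.symm ▸ hy)
    by_cases hsA : s ∈ A
    · have hswA : s * w ∉ A := fun h => hwA (by simpa using A.mul_mem (A.inv_mem hsA) h)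
      have hsw := (S₀ : Subgroup G).mul_mem hs hwS
      have := T.mul_mem (hinv _ hsw (hanti _ (hjc _ hsw) hswA).1) (hinv w hwS hw2)
      rwa [mul_assoc, hw2, mul_one] at this
    · exact hinv s hs (hanti s (hjc s hs) hsA).1
  · intro g hg
    refine Subgroup.mem_sup_left (Subgroup.mem_sup_left ?_)
    have hxS : g * j * g⁻¹ ∈ (S₀ : Subgroup G) := (Subgroup.mem_normalizer_iff.1 hg j).1 hjS
    have hcS : g * j * g⁻¹ * t = t * (g * j * g⁻¹) := by
      have h := hjc _ ((Subgroup.mem_normalizer_iff.1 (Subgroup.inv_mem _ hg) t).1 htS)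
      calc g * j * g⁻¹ * t = g * (j * (g⁻¹ * t * (g⁻¹)⁻¹)) * g⁻¹ := by group
        _ = t * (g * j * g⁻¹) := by rw [h]; group
    have hx2 : g * j * g⁻¹ * (g * j * g⁻¹) = 1 := by
      rw [show g * j * g⁻¹ * (g * j * g⁻¹) = g * (j * j) * g⁻¹ by group, hj, mul_one, mul_inv_cancel]
    have hxA : g * j * g⁻¹ ∈ A := by
      by_contra hxA
      have h := (hanti _ (hjc _ hxS) hxA).2 t htA
      rw [hcS, mul_inv_cancel_right] at h
      exact hj1 (by rw [← ht]; nth_rw 1 [h]; exact inv_mul_cancel t)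
    have hgj : g * j * g⁻¹ = j := (huniq _ hxA hx2).resolve_left
      (fun h => hj1 (by simpa using h))
    have hgc : j * g = g * j := (mul_inv_eq_iff_eq_mul.1 hgj).symm
    by_cases hgA : g ∈ A
    · have hgw : g * w * g⁻¹ ∈ (S₀ : Subgroup G) := (Subgroup.mem_normalizer_iff.1 hg w).1 hwS
      have e : g * w * g⁻¹ * w⁻¹ = g * g := by
        rw [mul_assoc g w, mul_assoc g, hwt g⁻¹ (A.inv_mem hgA), inv_inv]
      have hgg : g * g ∈ (S₀ : Subgroup G) :=
        e ▸ (S₀ : Subgroup G).mul_mem hgw ((S₀ : Subgroup G).inv_mem hwS)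
      obtain ⟨k, hk⟩ := S₀.isPGroup' ⟨_, hgg⟩
      have hk' : (g * g) ^ 2 ^ k = 1 := congrArg Subtype.val hk
      exact mem_sylow_of_two_pow S₀ hg (k := k + 1) (by rw [pow_succ', pow_mul, pow_two, hk'])
    · exact mem_sylow_of_two_pow S₀ hg (k := 1) (by rw [pow_one, pow_two, (hanti g hgc hgA).1])

end Abstract

open Matrix

local notation "SL2" => Matrix.SpecialLinearGroup (Fin 2)

variable {F : Type*} [Field F]

local notation:1024 "↥ₘ" A:1024 => ((A : Matrix.SpecialLinearGroup (Fin 2) F) : Matrix (Fin 2) (Fin 2) F)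

/-- The projection to PSL. -/
abbrev proj : SL2 F →* Matrix.ProjectiveSpecialLinearGroup (Fin 2) F :=
  QuotientGroup.mk' _

variable (F) in
/-- The standard element with square `-1`. -/
def jMat : SL2 F := ⟨!![0, -1; 1, 0], by simp [det_fin_two]⟩

@[simp] theorem coe_jMat : ↥ₘ(jMat F) = !![0, -1; 1, 0] := rfl

variable (F) in
/-- Its centraliser. -/
abbrev centJ : Subgroup (SL2 F) := Subgroup.centralizer {jMat F}

theorem two_ne_zero' [Fintype F] (hodd : Fintype.card F % 2 = 1) : (2 : F) ≠ 0 := fun h => by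
  haveI : CharP F 2 := CharTwo.of_one_ne_zero_of_two_eq_zero one_ne_zero h
  have := FiniteField.even_card_of_char_two (ringChar.eq F 2)
  omega

theorem entries_det (g : SL2 F) :
    (↥ₘ g) 0 0 * (↥ₘ g) 1 1 - (↥ₘ g) 0 1 * (↥ₘ g) 1 0 = 1 := by
  rw [← det_fin_two]; exact g.2

theorem proj_eq_iff (x y : SL2 F) : proj x = proj y ↔ ↥ₘ x = ↥ₘ y ∨ ↥ₘ x = -↥ₘ y := by
  constructor
  · intro h
    have hc : x⁻¹ * y ∈ Subgroup.center (SL2 F) := (QuotientGroup.eq (s := Subgroup.center (SL2 F))).1 h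
    obtain ⟨r, hr, hs⟩ := Matrix.SpecialLinearGroup.mem_center_iff.1 hc
    have hy : ↥ₘ y = ↥ₘ x * Matrix.scalar (Fin 2) r := by
      rw [hs]
      show _ = ((x * (x⁻¹ * y) : SL2 F) : Matrix (Fin 2) (Fin 2) F)
      rw [mul_inv_cancel_left]
    simp only [Fintype.card_fin] at hr
    rcases sq_eq_one_iff.1 hr with rfl | rfl
    · left; rw [hy, map_one, mul_one]
    · right; rw [hy, map_neg, map_one, mul_neg, mul_one, neg_neg]
  · rintro (h | h)
    · rw [show x = y from Subtype.ext h]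
    · refine (QuotientGroup.eq (s := Subgroup.center (SL2 F))).2
        (Matrix.SpecialLinearGroup.mem_center_iff.2 ⟨-1, by simp, ?_⟩)
      have hxy : x = -y := Subtype.ext (by simpa using h)
      have e : x⁻¹ * y = -1 := by
        rw [hxy, inv_mul_eq_iff_eq_mul, mul_neg, mul_one, neg_neg]
      rw [e, map_neg, map_one]
      simp

variable (F) in
theorem jbar_sq : proj (jMat F) * proj (jMat F) = 1 := by
  rw [← map_mul, ← map_one (proj (F := F)), proj_eq_iff]
  right
  ext a b; fin_cases a <;> fin_cases b <;> simp [coe_jMat]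

theorem jbar_ne (_h2 : (2 : F) ≠ 0) : proj (jMat F) ≠ 1 := by
  rw [← map_one (proj (F := F)), Ne, proj_eq_iff]
  rintro (h | h) <;> simpa [coe_jMat] using congrFun (congrFun h 1) 0

theorem mem_centJ {x : SL2 F} : x ∈ centJ F ↔ (↥ₘ x) 1 1 = (↥ₘ x) 0 0 ∧ (↥ₘ x) 0 1 = -(↥ₘ x) 1 0 := by
  rw [Subgroup.mem_centralizer_singleton_iff]
  constructor
  · intro h
    have h00 := congrArg (fun A : SL2 F => (↥ₘ A) 0 0) h
    have h10 := congrArg (fun A : SL2 F => (↥ₘ A) 1 0) h
    simp [coe_jMat, Matrix.mul_apply, Fin.sum_univ_two] at h00 h10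
    exact ⟨by linear_combination h10, by linear_combination h00⟩
  · rintro ⟨h1, h2⟩
    refine Subtype.ext ?_
    ext a b
    fin_cases a <;> fin_cases b <;> simp [coe_jMat, Matrix.mul_apply, Fin.sum_univ_two, h1, h2]

theorem anti_of_not_mem {x : SL2 F} (h : proj (jMat F) * proj x = proj x * proj (jMat F))
    (hx : x ∉ centJ F) : (↥ₘ x) 1 1 = -(↥ₘ x) 0 0 ∧ (↥ₘ x) 0 1 = (↥ₘ x) 1 0 := by
  rw [← map_mul, ← map_mul, proj_eq_iff] at h
  rcases h with h | h
  · exact absurd (Subgroup.mem_centralizer_singleton_iff.2 (show x * jMat F = jMat F * x from Subtype.ext h.symm)) hx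
  have h00 := congrFun (congrFun h 0) 0
  have h10 := congrFun (congrFun h 1) 0
  simp [coe_jMat, Matrix.mul_apply, Fin.sum_univ_two] at h00 h10
  exact ⟨by linear_combination h10, by linear_combination -h00⟩

theorem sq_of_trace_zero {x : SL2 F} (hd : (↥ₘ x) 1 1 = -(↥ₘ x) 0 0) : proj x * proj x = 1 := by
  rw [← map_mul, ← map_one (proj (F := F)), proj_eq_iff]
  right
  have hdet := entries_det x
  rw [hd] at hdet
  ext a b
  fin_cases a <;> fin_cases b <;> simp [Matrix.mul_apply, Fin.sum_univ_two, hd] <;>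
    first
      | ring1
      | linear_combination -hdet

theorem trace_zero_of_invol {g : SL2 F} (h : proj g * proj g = 1) (h1 : proj g ≠ 1) :
    (↥ₘ g) 1 1 = -(↥ₘ g) 0 0 := by
  have hdet := entries_det g
  rw [← map_mul, ← map_one (proj (F := F)), proj_eq_iff] at h
  rw [← map_one (proj (F := F)), Ne, proj_eq_iff, not_or] at h1
  by_contra hne
  have hs : (↥ₘ g) 0 0 + (↥ₘ g) 1 1 ≠ 0 := fun e => hne (eq_neg_of_add_eq_zero_right e)
  have e01 : ((↥ₘ g) 0 0 + (↥ₘ g) 1 1) * (↥ₘ g) 0 1 = 0 := by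
    rcases h with h | h <;>
      · have := congrFun (congrFun h 0) 1
        simp [Matrix.mul_apply, Fin.sum_univ_two] at this
        linear_combination this
  have e10 : ((↥ₘ g) 0 0 + (↥ₘ g) 1 1) * (↥ₘ g) 1 0 = 0 := by
    rcases h with h | h <;>
      · have := congrFun (congrFun h 1) 0
        simp [Matrix.mul_apply, Fin.sum_univ_two] at this
        linear_combination this
  have eq : ((↥ₘ g) 0 0 + (↥ₘ g) 1 1) * ((↥ₘ g) 0 0 - (↥ₘ g) 1 1) = 0 := by
    rcases h with h | h <;>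
      · have ha := congrFun (congrFun h 0) 0
        have hb := congrFun (congrFun h 1) 1
        simp [Matrix.mul_apply, Fin.sum_univ_two] at ha hb
        linear_combination ha - hb
  have hb0 := (mul_eq_zero.1 e01).resolve_left hs
  have hc0 := (mul_eq_zero.1 e10).resolve_left hs
  have had := sub_eq_zero.1 ((mul_eq_zero.1 eq).resolve_left hs)
  have ha2 : (↥ₘ g) 0 0 ^ 2 = 1 := by
    linear_combination hdet + (↥ₘ g) 1 0 * hb0 + (↥ₘ g) 0 0 * had
  rcases sq_eq_one_iff.1 ha2 with ha | ha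
  · exact h1.1 (by ext a b; fin_cases a <;> fin_cases b <;> simp [hb0, hc0, ← had, ha])
  · exact h1.2 (by ext a b; fin_cases a <;> fin_cases b <;> simp [hb0, hc0, ← had, ha])

theorem exists_sum_two_sq [Fintype F] (hodd : Fintype.card F % 2 = 1) (d : F) :
    ∃ a b : F, a ^ 2 + b ^ 2 = d := by
  obtain ⟨a, b, hab⟩ := FiniteField.exists_root_sum_quadratic (R := F)
    (Polynomial.degree_X_pow 2) (Polynomial.degree_X_pow_sub_C (by decide) d) hodd
  refine ⟨a, b, ?_⟩
  simp only [Polynomial.eval_pow, Polynomial.eval_X, Polynomial.eval_sub, Polynomial.eval_C] at hab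
  linear_combination hab

theorem conj_trace_zero [Fintype F] (hodd : Fintype.card F % 2 = 1) (g : SL2 F)
    (hd : (↥ₘ g) 1 1 = -(↥ₘ g) 0 0) : ∃ P : SL2 F, P * jMat F = g * P := by
  have hdet := entries_det g
  have h2 := two_ne_zero' hodd
  obtain ⟨x, y, u, v, hu, hv, hQ⟩ : ∃ x y u v : F, u = (↥ₘ g) 0 0 * x + (↥ₘ g) 0 1 * y ∧
      v = (↥ₘ g) 1 0 * x - (↥ₘ g) 0 0 * y ∧ x * v - y * u ≠ 0 := by
    by_cases hc : (↥ₘ g) 1 0 = 0
    · by_cases hb : (↥ₘ g) 0 1 = 0
      · refine ⟨1, 1, _, _, rfl, rfl, ?_⟩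
        have ha : (↥ₘ g) 0 0 ≠ 0 := fun ha => one_ne_zero (α := F) (by
          rw [← hdet, ha, hb, zero_mul, zero_mul, sub_zero])
        rw [hb, hc]
        intro e
        exact mul_ne_zero h2 ha (by linear_combination -e)
      · refine ⟨0, 1, _, _, rfl, rfl, ?_⟩
        intro e
        exact hb (by linear_combination -e)
    · refine ⟨1, 0, _, _, rfl, rfl, ?_⟩
      intro e
      exact hc (by linear_combination e)
  obtain ⟨α, β, hab⟩ := exists_sum_two_sq hodd (x * v - y * u)⁻¹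
  rw [hd] at hdet
  let P : SL2 F := ⟨!![α * x + β * u, α * u - β * x; α * y + β * v, α * v - β * y], by
    rw [det_fin_two_of]
    linear_combination (x * v - y * u) * hab + mul_inv_cancel₀ hQ⟩
  have hP : ↥ₘ P = !![α * x + β * u, α * u - β * x; α * y + β * v, α * v - β * y] := rfl
  refine ⟨P, Subtype.ext ?_⟩
  ext i k
  subst hu hv
  fin_cases i <;> fin_cases k <;> simp [hP, coe_jMat, Matrix.mul_apply, Fin.sum_univ_two, hd] <;>
    first
      | ring1
      | linear_combination (β * x) * hdet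
      | linear_combination (α * x) * hdet
      | linear_combination (β * y) * hdet
      | linear_combination (α * y) * hdet
      | linear_combination -(β * x) * hdet
      | linear_combination -(α * x) * hdet
      | linear_combination -(β * y) * hdet
      | linear_combination -(α * y) * hdet

theorem invol_conj [Fintype F] (hodd : Fintype.card F % 2 = 1)
    (x : Matrix.ProjectiveSpecialLinearGroup (Fin 2) F) (hx : x * x = 1) (hx1 : x ≠ 1) :
    ∃ g : Matrix.ProjectiveSpecialLinearGroup (Fin 2) F, g * proj (jMat F) * g⁻¹ = x := by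
  obtain ⟨g, rfl⟩ := QuotientGroup.mk'_surjective _ x
  obtain ⟨P, hP⟩ := conj_trace_zero hodd g (trace_zero_of_invol hx hx1)
  exact ⟨proj P, by rw [← map_inv, ← map_mul, ← map_mul, hP, mul_inv_cancel_right]⟩

variable (F) in
theorem tbar_le : ∀ t ∈ (centJ F).map proj, proj (jMat F) * t = t * proj (jMat F) := by
  rintro _ ⟨t, ht, rfl⟩
  rw [← map_mul, ← map_mul]
  exact congrArg proj (Subgroup.mem_centralizer_singleton_iff.1 ht).symm

variable (F) in
theorem tbar_comm : ∀ t ∈ (centJ F).map proj, ∀ u ∈ (centJ F).map proj, t * u = u * t := by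
  rintro _ ⟨t, ht, rfl⟩ _ ⟨u, hu, rfl⟩
  obtain ⟨t1, t2⟩ := mem_centJ.1 ht
  obtain ⟨u1, u2⟩ := mem_centJ.1 hu
  rw [← map_mul, ← map_mul]
  refine congrArg proj (Subtype.ext ?_)
  ext a b
  fin_cases a <;> fin_cases b <;> simp [Matrix.mul_apply, Fin.sum_univ_two, t1, t2, u1, u2] <;> ring_nf

theorem not_mem_of_rep {x : SL2 F} (hx : proj x ∉ (centJ F).map proj) : x ∉ centJ F :=
  fun h => hx ⟨x, h, rfl⟩

variable (F) in
theorem d_anti : ∀ w, proj (jMat F) * w = w * proj (jMat F) → w ∉ (centJ F).map proj →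
    w * w = 1 ∧ ∀ t ∈ (centJ F).map proj, w * t * w⁻¹ = t⁻¹ := by
  intro w
  obtain ⟨w, rfl⟩ := QuotientGroup.mk'_surjective _ w
  intro hw hn
  obtain ⟨w1, w2⟩ := anti_of_not_mem hw (not_mem_of_rep hn)
  have hw2 : proj w * proj w = 1 := sq_of_trace_zero w1
  refine ⟨hw2, ?_⟩
  rintro _ ⟨t, ht, rfl⟩
  obtain ⟨t1, t2⟩ := mem_centJ.1 ht
  have h1 : proj (w * t) * proj (w * t) = 1 := by
    refine sq_of_trace_zero ?_
    simp [Matrix.mul_apply, Fin.sum_univ_two, w1, w2, t1, t2]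
  rw [map_mul] at h1
  rw [inv_eq_of_mul_eq_one_right hw2]
  exact eq_inv_of_mul_eq_one_left (by rw [mul_assoc (proj w * proj t)]; exact h1)

theorem tbar_invol (h2 : (2 : F) ≠ 0) : ∀ t ∈ (centJ F).map proj, t * t = 1 → t = 1 ∨ t = proj (jMat F) := by
  rintro _ ⟨t, ht, rfl⟩ h
  by_cases h1 : proj t = 1
  · exact Or.inl h1
  obtain ⟨t1, t2⟩ := mem_centJ.1 ht
  have hd := trace_zero_of_invol h h1
  have ha : (↥ₘ t) 0 0 = 0 := by
    have e : (↥ₘ t) 0 0 * 2 = 0 := by linear_combination hd - t1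
    exact (mul_eq_zero.1 e).resolve_right h2
  have hdet := entries_det t
  have hc : (↥ₘ t) 1 0 ^ 2 = 1 := by
    rw [ha] at hdet
    linear_combination hdet + (↥ₘ t) 1 0 * t2
  refine Or.inr ((proj_eq_iff _ _).2 ?_)
  rcases sq_eq_one_iff.1 hc with hc | hc
  · left; ext a b; fin_cases a <;> fin_cases b <;> simp [coe_jMat, t2, t1, ha, hc]
  · right; ext a b; fin_cases a <;> fin_cases b <;> simp [coe_jMat, t2, t1, ha, hc]

theorem tbar_ne_top [Fintype F] (h2 : (2 : F) ≠ 0) :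
    ∃ w, proj (jMat F) * w = w * proj (jMat F) ∧ w ∉ (centJ F).map proj := by
  have hodd : Fintype.card F % 2 = 1 := by
    by_contra h
    have h0 : Fintype.card F % 2 = 0 := by omega
    haveI := ringChar.charP F
    refine h2 ?_
    have h' := FiniteField.even_card_iff_char_two.2 h0
    haveI : CharP F 2 := ringChar.of_eq h'
    exact CharTwo.two_eq_zero
  obtain ⟨a, b, hab⟩ := exists_sum_two_sq hodd (-1 : F)
  let w : SL2 F := ⟨!![a, b; b, -a], by rw [det_fin_two_of]; linear_combination -hab⟩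
  have hwc : ↥ₘ w = !![a, b; b, -a] := rfl
  refine ⟨proj w, ?_, ?_⟩
  · rw [← map_mul, ← map_mul, proj_eq_iff]
    right
    ext i k; fin_cases i <;> fin_cases k <;> simp [hwc, coe_jMat, Matrix.mul_apply, Fin.sum_univ_two]
  · rintro ⟨t, ht, htw⟩
    obtain ⟨t1, t2⟩ := mem_centJ.1 ht
    have hcase : (↥ₘ w) 1 1 = (↥ₘ w) 0 0 ∧ (↥ₘ w) 0 1 = -(↥ₘ w) 1 0 := by
      rcases (proj_eq_iff _ _).1 htw with e | e
      · exact ⟨e ▸ t1, e ▸ t2⟩
      · have e' : ↥ₘ w = -↥ₘ t := by rw [e, neg_neg]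
        simp only [e', Matrix.neg_apply, neg_inj]
        exact ⟨t1, t2⟩
    obtain ⟨c1, c2⟩ := hcase
    simp [hwc] at c1 c2
    have ha : a = 0 := by
      have e : a * 2 = 0 := by linear_combination -c1
      exact (mul_eq_zero.1 e).resolve_right h2
    have hb : b = 0 := by
      have e : b * 2 = 0 := by linear_combination c2
      exact (mul_eq_zero.1 e).resolve_right h2
    rw [ha, hb] at hab
    simp at hab

variable (F) in
theorem d_mul : ∀ v w, proj (jMat F) * v = v * proj (jMat F) → proj (jMat F) * w = w * proj (jMat F) →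
    v ∉ (centJ F).map proj → w ∉ (centJ F).map proj → v * w ∈ (centJ F).map proj := by
  intro v w
  obtain ⟨v, rfl⟩ := QuotientGroup.mk'_surjective _ v
  obtain ⟨w, rfl⟩ := QuotientGroup.mk'_surjective _ w
  intro hv hw hvn hwn
  obtain ⟨v1, v2⟩ := anti_of_not_mem hv (not_mem_of_rep hvn)
  obtain ⟨w1, w2⟩ := anti_of_not_mem hw (not_mem_of_rep hwn)
  refine ⟨v * w, mem_centJ.2 ?_, map_mul _ _ _⟩
  constructor <;> simp [Matrix.mul_apply, Fin.sum_univ_two, v1, v2, w1, w2] <;> ring_nf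

theorem exists_quarter [Fintype F] (hodd : Fintype.card F % 2 = 1) (h16 : 16 ∣ Fintype.card F ^ 2 - 1) :
    ∃ t ∈ (centJ F).map proj, t * t = proj (jMat F) := by
  have h2 := two_ne_zero' hodd
  obtain ⟨r, hr⟩ : IsSquare (2 : F) := by
    rw [FiniteField.isSquare_two_iff]
    obtain ⟨k, hk⟩ : ∃ k, Fintype.card F = 8 * k + Fintype.card F % 8 :=
      ⟨_, (Nat.div_add_mod _ 8).symm⟩
    constructor <;> intro e <;> rw [e] at hk <;> rw [hk] at h16
    · have : (8 * k + 3) ^ 2 - 1 = 16 * (4 * k * k + 3 * k) + 8 := by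
        rw [Nat.sub_eq_iff_eq_add (Nat.one_le_pow _ _ (by omega))]; ring
      omega
    · have : (8 * k + 5) ^ 2 - 1 = 16 * (4 * k * k + 5 * k + 1) + 8 := by
        rw [Nat.sub_eq_iff_eq_add (Nat.one_le_pow _ _ (by omega))]; ring
      omega
  have hr0 : r ≠ 0 := fun h => h2 (by rw [hr, h, mul_zero])
  let t : SL2 F := ⟨!![r⁻¹, -r⁻¹; r⁻¹, r⁻¹], by
    rw [det_fin_two_of]; field_simp; linear_combination hr⟩
  have htc : ↥ₘ t = !![r⁻¹, -r⁻¹; r⁻¹, r⁻¹] := rfl
  refine ⟨proj t, ⟨t, mem_centJ.2 (by simp [htc]), rfl⟩, ?_⟩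
  rw [← map_mul]
  refine congrArg proj (Subtype.ext ?_)
  ext i k
  fin_cases i <;> fin_cases k <;> simp [htc, coe_jMat, Matrix.mul_apply, Fin.sum_univ_two] <;>
    field_simp <;>
    first
      | linear_combination hr
      | linear_combination -2 * hr
      | linear_combination 2 * hr
      | linear_combination -hr

/-- Let F be a finite field of odd order q with q² ≡ 1 mod 16 (so that a Sylow 2-subgroup of PSL(2,q), dihedral of order the 2-part of (q²−1)/2, has order at least 8). Then the 2-fusion system of PSL(2,F) on a Sylow 2-subgroup is simple: saturated, over a nontrivial 2-group, with no normal subsystem other than the trivial one and itself. -/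
theorem result {F : Type*} [Field F] [Fintype F] (hodd : Fintype.card F % 2 = 1) (h16 : 16 ∣ Fintype.card F ^ 2 - 1)
    (S : Sylow 2 (Matrix.ProjectiveSpecialLinearGroup (Fin 2) F)) :
    (Cfsg.groupFusionSystem (S : Subgroup (Matrix.ProjectiveSpecialLinearGroup (Fin 2) F))).IsSimple 2 := by
  have h2 : (2 : F) ≠ 0 := two_ne_zero' hodd
  haveI : Finite (Matrix.ProjectiveSpecialLinearGroup (Fin 2) F) :=
    Finite.of_surjective _ (QuotientGroup.mk'_surjective _)
  exact dihedral_simple (proj (jMat F)) ((centJ F).map proj)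
    (invol_conj hodd) (jbar_ne h2) (jbar_sq F) (tbar_le F) (tbar_comm F) (tbar_ne_top h2)
    (d_anti F) (tbar_invol h2) (d_mul F) (exists_quarter hodd h16) S

end Cfsg.Agent.S5317
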