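import Cfsg.Statements.S2507
-- import your own Cfsg.Agent.* helpers here

import Cfsg.Agent.SL2Class.PSL

set_option autoImplicit false
open Cfsg

namespace Cfsg.Agent.S2507

open Matrix SL2Class


/-- Let F be a finite field with q = 2^f ≥ 4 elements. The conjugacy class sizes of PSL(2,F) are exactly 1, q(q − 1), q² − 1 and q(q + 1). -/
theorem result {F : Type*} [Field F] [Fintype F]
    (h2 : 2 ∣ Fintype.card F) (h4 : 4 ≤ Fintype.card F) :
    Set.range (fun g : (Matrix.ProjectiveSpecialLinearGroup (Fin 2) F) => (Subgroup.centralizer ({g} : Set (Matrix.ProjectiveSpecialLinearGroup (Fin 2) F))).index) =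
      {1, Fintype.card F * (Fintype.card F - 1), Fintype.card F ^ 2 - 1, Fintype.card F * (Fintype.card F + 1)} := by
  classical
  have h2' : (2 : F) = 0 := by
    by_contra h
    have := card_odd_of_two_ne_zero h
    omega
  set q := Fintype.card F with hqdef
  have hq2 : q ^ 2 - 1 = (q - 1) * (q + 1) := by
    obtain ⟨k, hk⟩ : ∃ k, q = k + 1 := ⟨q - 1, by omega⟩
    rw [hk, Nat.add_sub_cancel]
    have : (k + 1) ^ 2 = k * (k + 1 + 1) + 1 := by ring
    omega
  have hidx : ∀ x : Matrix.SpecialLinearGroup (Fin 2) F, ∀ c d : ℕ,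
      Nat.card (Subgroup.centralizer ({x} : Set (Matrix.SpecialLinearGroup (Fin 2) F))) = c → c ≠ 0 →
      q * ((q - 1) * (q + 1)) = d * c →
      (Subgroup.centralizer ({proj x} : Set (Matrix.ProjectiveSpecialLinearGroup (Fin 2) F))).index = d := by
    intro x c d hc hc0 hcd
    rw [index_proj_of_tr_ne (Or.inr h2')]
    have h := Subgroup.index_mul_card (Subgroup.centralizer ({x} : Set (Matrix.SpecialLinearGroup (Fin 2) F)))
    rw [hc, card_sl, ← hqdef, hq2, hcd] at h
    exact mul_right_cancel₀ hc0 h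
  have hell : ∃ t : F, NoRoot t ∧ t * t ≠ 4 := by
    obtain ⟨t, ht⟩ := exists_noRoot (F := F)
    exact ⟨t, ht, fun e => ht 1 (by linear_combination h2' - ((sq_eq_four_iff_even h2' t).1 e))⟩
  have ez : (comp (0 : F) : Matrix.SpecialLinearGroup (Fin 2) F) = comp 0 := rfl
  ext m
  simp only [Set.mem_range, Set.mem_insert_iff, Set.mem_singleton_iff]
  constructor
  · rintro ⟨g, rfl⟩
    obtain ⟨x, rfl⟩ := proj_surjective g
    by_cases hx : NonScalar x
    · by_cases ht : tr x * tr x = 4
      · exact Or.inr (Or.inr (Or.inl (hidx x q _ (card_cent_double_even h2' hx ((sq_eq_four_iff_even h2' _).1 ht))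
          (by omega) (by rw [hq2]; ring))))
      · rcases noRoot_or_root (tr x) with h | ⟨r, hr⟩
        · exact Or.inr (Or.inl (hidx x (q + 1) _ (card_cent_noRoot h hx) (by omega) (by ring)))
        · exact Or.inr (Or.inr (Or.inr (hidx x (q - 1) _ (card_cent_split hr ht) (by omega) (by ring))))
    · left
      have : proj x = 1 := proj_eq_one.2 (mem_center_iff.2 hx)
      rw [this, Subgroup.index_eq_one, eq_top_iff]
      exact fun y _ => Subgroup.mem_centralizer_singleton_iff.2 (by rw [mul_one, one_mul])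
  · rintro (rfl | rfl | rfl | rfl)
    · refine ⟨1, ?_⟩
      rw [Subgroup.index_eq_one, eq_top_iff]
      exact fun y _ => Subgroup.mem_centralizer_singleton_iff.2 (by rw [mul_one, one_mul])
    · obtain ⟨t, ht, -⟩ := hell
      exact ⟨proj (comp t), hidx _ (q + 1) _ (card_cent_noRoot (by rwa [tr_comp]) (nonScalar_comp t)) (by omega)
        (by ring)⟩
    · exact ⟨proj (comp 0), hidx _ q _ (card_cent_double_even h2' (nonScalar_comp 0) (tr_comp 0)) (by omega)
        (by rw [hq2]; ring)⟩
    · obtain ⟨t, r, hr, ht⟩ := exists_split (F := F) h4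
      exact ⟨proj (comp t), hidx _ (q - 1) _ (card_cent_split (r := r) (by rwa [tr_comp]) (by rwa [tr_comp]))
        (by omega) (by ring)⟩

end Cfsg.Agent.S2507
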