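import Cfsg.Statements.S2508
-- import your own Cfsg.Agent.* helpers here

import Cfsg.Agent.SL2Class.PSL

set_option autoImplicit false
open Cfsg

namespace Cfsg.Agent.S2508

open Matrix SL2Class


/-- Let F be a finite field with q elements, q odd and q ≥ 7. If q ≡ 1 (mod 4) the conjugacy class sizes of PSL(2,F) are exactly 1, (q² − 1)/2, q(q + 1)/2, q(q − 1) and q(q + 1); if q ≡ 3 (mod 4) they are exactly 1, (q² − 1)/2, q(q − 1)/2, q(q + 1) and q(q − 1). -/
theorem result {F : Type*} [Field F] [Fintype F]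
    (hodd : ¬ 2 ∣ Fintype.card F) (h7 : 7 ≤ Fintype.card F) :
    (Fintype.card F % 4 = 1 →
      Set.range (fun g : (Matrix.ProjectiveSpecialLinearGroup (Fin 2) F) => (Subgroup.centralizer ({g} : Set (Matrix.ProjectiveSpecialLinearGroup (Fin 2) F))).index) =
        {1, (Fintype.card F ^ 2 - 1) / 2, Fintype.card F * (Fintype.card F + 1) / 2,
          Fintype.card F * (Fintype.card F - 1), Fintype.card F * (Fintype.card F + 1)}) ∧
    (Fintype.card F % 4 = 3 →
      Set.range (fun g : (Matrix.ProjectiveSpecialLinearGroup (Fin 2) F) => (Subgroup.centralizer ({g} : Set (Matrix.ProjectiveSpecialLinearGroup (Fin 2) F))).index) =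
        {1, (Fintype.card F ^ 2 - 1) / 2, Fintype.card F * (Fintype.card F - 1) / 2,
          Fintype.card F * (Fintype.card F + 1), Fintype.card F * (Fintype.card F - 1)}) := by
  classical
  have hodd' : Fintype.card F % 2 = 1 := by omega
  have h2 : (2 : F) ≠ 0 := fun e => by
    haveI : CharP F 2 := CharTwo.of_one_ne_zero_of_two_eq_zero one_ne_zero e
    have := FiniteField.even_card_of_char_two (ringChar.eq F 2)
    omega
  set q := Fintype.card F with hqdef
  have hneg : ∀ t : F, t ≠ 0 → t ≠ -t := fun t ht e =>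
    mul_ne_zero h2 ht (by linear_combination e)
  have hq2 : q ^ 2 - 1 = (q - 1) * (q + 1) := by
    obtain ⟨k, hk⟩ : ∃ k, q = k + 1 := ⟨q - 1, by omega⟩
    rw [hk, Nat.add_sub_cancel]
    have : (k + 1) ^ 2 = k * (k + 1 + 1) + 1 := by ring
    omega
  have hidx : ∀ x : Matrix.SpecialLinearGroup (Fin 2) F, ∀ c d : ℕ, tr x ≠ -tr x →
      Nat.card (Subgroup.centralizer ({x} : Set (Matrix.SpecialLinearGroup (Fin 2) F))) = c → c ≠ 0 →
      q * ((q - 1) * (q + 1)) = d * c →
      (Subgroup.centralizer ({proj x} : Set (Matrix.ProjectiveSpecialLinearGroup (Fin 2) F))).index = d := by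
    intro x c d ht hc hc0 hcd
    rw [index_proj_of_tr_ne (Or.inl ht)]
    have h := Subgroup.index_mul_card (Subgroup.centralizer ({x} : Set (Matrix.SpecialLinearGroup (Fin 2) F)))
    rw [hc, card_sl, ← hqdef, hq2, hcd] at h
    exact mul_right_cancel₀ hc0 h
  have hidx0 : ∀ x : Matrix.SpecialLinearGroup (Fin 2) F, ∀ c d : ℕ, tr x = 0 →
      Nat.card (Subgroup.centralizer ({x} : Set (Matrix.SpecialLinearGroup (Fin 2) F))) = c → c ≠ 0 →
      q * ((q - 1) * (q + 1)) = d * 2 * c →
      (Subgroup.centralizer ({proj x} : Set (Matrix.ProjectiveSpecialLinearGroup (Fin 2) F))).index = d := by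
    intro x c d ht hc hc0 hcd
    have h := Subgroup.index_mul_card (Subgroup.centralizer ({x} : Set (Matrix.SpecialLinearGroup (Fin 2) F)))
    rw [hc, card_sl, ← hqdef, hq2, hcd, ← index_proj_trace_zero h2 ht] at h
    exact mul_right_cancel₀ two_ne_zero (mul_right_cancel₀ hc0 h)
  have hm1 : NoRoot (0 : F) ↔ q % 4 = 3 := by
    have e : IsSquare ((0 : F) * 0 - 4) ↔ IsSquare (-1 : F) := by
      constructor
      · rintro ⟨c, hc⟩; exact ⟨c / 2, by field_simp; linear_combination hc⟩
      · rintro ⟨c, hc⟩; exact ⟨2 * c, by linear_combination 4 * hc⟩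
    rw [noRoot_iff_not_isSquare h2, e, FiniteField.isSquare_neg_one_iff, ← hqdef]
    omega
  have h04 : (0 : F) * 0 ≠ 4 := fun e => mul_ne_zero h2 h2 (by linear_combination -e)
  obtain ⟨ge, hge, hge4⟩ := exists_elliptic (F := F) h2
  obtain ⟨xe, hxe4, hxe0, hxec⟩ := exists_generator_props h2 hge4
    (by rw [card_cent_noRoot hge (nonScalar_of_sq_ne hge4)]; omega)
  rw [card_cent_noRoot hge (nonScalar_of_sq_ne hge4), ← hqdef] at hxec
  obtain ⟨ts, rs, hrs, hts⟩ := exists_split (F := F) (by omega)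
  obtain ⟨xs, hxs4, hxs0, hxsc⟩ := exists_generator_props h2 (g := comp ts) (by rwa [tr_comp])
    (by rw [card_cent_split (r := rs) (by rwa [tr_comp]) (by rwa [tr_comp])]; omega)
  rw [card_cent_split (g := comp ts) (r := rs) (by rwa [tr_comp]) (by rwa [tr_comp]), ← hqdef] at hxsc
  have hu : (Subgroup.centralizer ({proj (comp (2 : F))} : Set (Matrix.ProjectiveSpecialLinearGroup (Fin 2) F))).index
      = (q ^ 2 - 1) / 2 := by
    refine hidx _ (2 * q) _ (by rw [tr_comp]; exact hneg 2 h2)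
      (card_cent_double h2 (nonScalar_comp 2) (by rw [tr_comp]; norm_num)) (by omega) ?_
    obtain ⟨j, hj⟩ : 2 ∣ q ^ 2 - 1 := by rw [hq2]; exact (show 2 ∣ q - 1 by omega).mul_right _
    rw [← hq2, hj, Nat.mul_div_cancel_left _ two_pos]
    ring
  have he1 := hidx xe (q + 1) (q * (q - 1)) hxe0 hxec (by omega) (by ring)
  have hs1 := hidx xs (q - 1) (q * (q + 1)) hxs0 hxsc (by omega) (by ring)
  have h1 : (Subgroup.centralizer ({(1 : Matrix.ProjectiveSpecialLinearGroup (Fin 2) F)} :
      Set (Matrix.ProjectiveSpecialLinearGroup (Fin 2) F))).index = 1 := by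
    rw [Subgroup.index_eq_one, eq_top_iff]
    exact fun y _ => Subgroup.mem_centralizer_singleton_iff.2 (by rw [mul_one, one_mul])
  have hcases : ∀ x : Matrix.SpecialLinearGroup (Fin 2) F, ∀ d : ℕ,
      (Subgroup.centralizer ({proj x} : Set (Matrix.ProjectiveSpecialLinearGroup (Fin 2) F))).index = d →
      d = 1 ∨ d = (q ^ 2 - 1) / 2 ∨ d = q * (q - 1) ∨ d = q * (q + 1) ∨
        (q % 4 = 1 ∧ d = q * (q + 1) / 2) ∨ (q % 4 = 3 ∧ d = q * (q - 1) / 2) := by
    intro x d hd
    subst hd
    by_cases hx : NonScalar x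
    swap
    · left; rw [show proj x = 1 from proj_eq_one.2 (mem_center_iff.2 hx)]; exact h1
    by_cases ht : tr x * tr x = 4
    · right; left
      refine hidx x (2 * q) _ (hneg _ (fun e => h04 (by rw [← e]; exact ht))) (card_cent_double h2 hx ht)
        (by omega) ?_
      obtain ⟨j, hj⟩ : 2 ∣ q ^ 2 - 1 := by rw [hq2]; exact (show 2 ∣ q - 1 by omega).mul_right _
      rw [← hq2, hj, Nat.mul_div_cancel_left _ two_pos]
      ring
    by_cases h0 : tr x = 0
    · rcases noRoot_or_root (0 : F) with h | ⟨r, hr⟩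
      · refine Or.inr (Or.inr (Or.inr (Or.inr (Or.inr ⟨hm1.1 h, hidx0 x (q + 1) _ h0
          (card_cent_noRoot (h0 ▸ h) hx) (by omega) ?_⟩))))
        rw [Nat.div_mul_cancel ((show 2 ∣ q - 1 by omega).mul_left q)]
        ring
      · refine Or.inr (Or.inr (Or.inr (Or.inr (Or.inl ⟨?_, hidx0 x (q - 1) _ h0
          (card_cent_split (r := r) (by rw [h0]; exact hr) ht) (by omega) ?_⟩))))
        · by_contra hq4
          exact (hm1.2 (by omega)) r hr
        · rw [Nat.div_mul_cancel ((show 2 ∣ q + 1 by omega).mul_left q)]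
          ring
    rcases noRoot_or_root (tr x) with h | ⟨r, hr⟩
    · exact Or.inr (Or.inr (Or.inl (hidx x (q + 1) _ (hneg _ h0) (card_cent_noRoot h hx) (by omega) (by ring))))
    · exact Or.inr (Or.inr (Or.inr (Or.inl (hidx x (q - 1) _ (hneg _ h0) (card_cent_split hr ht) (by omega)
        (by ring)))))
  constructor
  · intro hq4
    have hno : ¬ NoRoot (0 : F) := fun h => by have := hm1.1 h; omega
    obtain ⟨r, hr⟩ := (noRoot_or_root (0 : F)).resolve_left hno
    have hs0 : (Subgroup.centralizer ({proj (comp (0 : F))} : Set (Matrix.ProjectiveSpecialLinearGroup (Fin 2) F))).index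
        = q * (q + 1) / 2 := hidx0 _ (q - 1) _ (tr_comp 0)
      (card_cent_split (r := r) (by rw [tr_comp]; exact hr) (by rwa [tr_comp])) (by omega)
      (by rw [Nat.div_mul_cancel ((show 2 ∣ q + 1 by omega).mul_left q)]; ring)
    ext d
    simp only [Set.mem_range, Set.mem_insert_iff, Set.mem_singleton_iff]
    constructor
    · rintro ⟨g, rfl⟩
      obtain ⟨x, rfl⟩ := proj_surjective g
      have := hcases x _ rfl
      omega
    · rintro (rfl | rfl | rfl | rfl | rfl)
      exacts [⟨1, h1⟩, ⟨_, hu⟩, ⟨_, hs0⟩, ⟨_, he1⟩, ⟨_, hs1⟩]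
  · intro hq4
    have he0 : (Subgroup.centralizer ({proj (comp (0 : F))} : Set (Matrix.ProjectiveSpecialLinearGroup (Fin 2) F))).index
        = q * (q - 1) / 2 := hidx0 _ (q + 1) _ (tr_comp 0)
      (card_cent_noRoot (by rw [tr_comp]; exact hm1.2 hq4) (nonScalar_comp 0)) (by omega)
      (by rw [Nat.div_mul_cancel ((show 2 ∣ q - 1 by omega).mul_left q)]; ring)
    ext d
    simp only [Set.mem_range, Set.mem_insert_iff, Set.mem_singleton_iff]
    constructor
    · rintro ⟨g, rfl⟩
      obtain ⟨x, rfl⟩ := proj_surjective g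
      have := hcases x _ rfl
      omega
    · rintro (rfl | rfl | rfl | rfl | rfl)
      exacts [⟨1, h1⟩, ⟨_, hu⟩, ⟨_, he0⟩, ⟨_, hs1⟩, ⟨_, he1⟩]

end Cfsg.Agent.S2508
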