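import Cfsg.Statements.S4765
-- import your own Cfsg.Agent.* helpers here

import Cfsg.Agent.GL2Rep.SLParity

set_option autoImplicit false
open Cfsg

namespace Cfsg.Agent.S4765

open Cfsg.Agent.GL2Rep Cfsg.Agent.GL2Rep.SL Matrix


/-- Let F be a finite field of characteristic p with at least 4 elements. Then PSL(2,F) has exactly one irreducible complex character of degree divisible by p, and its degree is the order of F. -/
theorem result (p : ℕ) [Fact p.Prime] (F : Type*) [Field F] [Fintype F] [CharP F p] (hF : 4 ≤ Fintype.card F) : Nat.card {χ : Cfsg.IrrCharacter (Matrix.ProjectiveSpecialLinearGroup (Fin 2) F) // p ∣ Cfsg.charDegree (χ : Matrix.ProjectiveSpecialLinearGroup (Fin 2) F → ℂ)} = 1 ∧ ∀ χ : Cfsg.IrrCharacter (Matrix.ProjectiveSpecialLinearGroup (Fin 2) F), p ∣ Cfsg.charDegree (χ : Matrix.ProjectiveSpecialLinearGroup (Fin 2) F → ℂ) → Cfsg.charDegree (χ : Matrix.ProjectiveSpecialLinearGroup (Fin 2) F → ℂ) = Fintype.card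 F := by
  classical
  haveI : Fintype (GL (Fin 2) F) := Fintype.ofFinite _
  let π : Matrix.SpecialLinearGroup (Fin 2) F →* Matrix.ProjectiveSpecialLinearGroup (Fin 2) F := QuotientGroup.mk' _
  have hπ : Function.Surjective π := QuotientGroup.mk'_surjective _
  have hpF : p ∣ Fintype.card F := by
    obtain ⟨a, -, ha⟩ := FiniteField.card F p
    rw [ha]; exact dvd_pow_self p a.2.ne'
  have hp : p.Prime := Fact.out
  have key : ∀ φ : Cfsg.IrrCharacter (Matrix.ProjectiveSpecialLinearGroup (Fin 2) F),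
      p ∣ Cfsg.charDegree (φ : Matrix.ProjectiveSpecialLinearGroup (Fin 2) F → ℂ) →
      (fun g => (φ : Matrix.ProjectiveSpecialLinearGroup (Fin 2) F → ℂ) (π g)) = St := by
    intro φ hdvd
    obtain ⟨d, hd, h⟩ := nat_cases (Cfsg.Agent.Char.isIrrCharacter_comp π hπ φ.2)
    have hdd : Cfsg.charDegree (φ : Matrix.ProjectiveSpecialLinearGroup (Fin 2) F → ℂ) = d := by
      simp only [map_one] at hd
      simp [Cfsg.charDegree, hd]
    rw [hdd] at hdvd
    have no : ∀ n, d ∣ n → p ∣ n := fun n h => hdvd.trans h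
    have hp1 : ∀ n, p ∣ n → p ∣ n + 1 → False := fun n a b => hp.not_dvd_one ((Nat.dvd_add_right a).1 b)
    rcases h with ⟨e, -⟩ | ⟨-, e⟩ | ⟨e, -⟩ | ⟨-, e, -⟩ | ⟨e, -⟩ | ⟨-, e, -⟩
    · exact absurd (e ▸ hdvd) hp.not_dvd_one
    · exact e
    · exact (hp1 _ hpF (e ▸ hdvd)).elim
    · exact (hp1 _ hpF (e ▸ no (2 * d) ⟨2, by ring⟩)).elim
    · exact (hp1 d hdvd (e.symm ▸ hpF)).elim
    · exact (hp1 (2 * d) (no _ ⟨2, by ring⟩) (e.symm ▸ hpF)).elim
  obtain ⟨φ₀, hφ₀, he⟩ := Cfsg.Agent.Char.IsIrr.exists_quotient (Subgroup.center (Matrix.SpecialLinearGroup (Fin 2) F)) (St_isIrr (F := F))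
    (trivial_on_center (by rw [St_neg_one, St_one]))
  have hdeg0 : Cfsg.charDegree φ₀ = Fintype.card F := by
    show ⌊(φ₀ ((1 : Matrix.SpecialLinearGroup (Fin 2) F) : Matrix.ProjectiveSpecialLinearGroup (Fin 2) F)).re⌋₊ = _
    rw [← he, St_one, Complex.natCast_re, Nat.floor_natCast]
  have uniq : ∀ φ : Cfsg.IrrCharacter (Matrix.ProjectiveSpecialLinearGroup (Fin 2) F),
      p ∣ Cfsg.charDegree (φ : Matrix.ProjectiveSpecialLinearGroup (Fin 2) F → ℂ) → φ = ⟨φ₀, hφ₀⟩ := by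
    intro φ h
    refine Subtype.ext (funext fun y => ?_)
    obtain ⟨g, rfl⟩ := hπ y
    exact (congrFun (key φ h) g).trans (he g)
  refine ⟨?_, fun φ h => by rw [uniq φ h]; exact hdeg0⟩
  rw [Nat.card_eq_one_iff_unique]
  exact ⟨⟨fun a b => Subtype.ext ((uniq _ a.2).trans (uniq _ b.2).symm)⟩, ⟨⟨⟨φ₀, hφ₀⟩, by simpa [hdeg0] using hpF⟩⟩⟩

end Cfsg.Agent.S4765
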