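import Cfsg.Statements.S2155
import Cfsg.Agent.Chev.All
import Cfsg.Agent.Chev.RadicalCentralizer
import Cfsg.Agent.Layer.PConstraint
import Cfsg.Agent.Core.PCore

set_option autoImplicit false
open Cfsg

namespace Cfsg.Agent.S2155

open Cfsg.Lie Cfsg.Agent.Chev
open scoped MatrixGroups

theorem exists_checks {D : ChevalleyDatum}
    (hD : D ∈ [chevG2, chevB2, chevD4, chevF4, chevE6, chevE7, chevE8]) :
    ∃ C : Cert, Checks D C ∧ chkLinked D C = true := by
  simp only [List.mem_cons, List.not_mem_nil, or_false] at hD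
  rcases hD with rfl | rfl | rfl | rfl | rfl | rfl | rfl
  exacts [⟨g2Cert, g2_checks, by decide +kernel⟩, ⟨b2Cert, b2_checks, by decide +kernel⟩,
    ⟨d4Cert, d4_checks, by decide +kernel⟩, ⟨f4Cert, f4_checks, by decide +kernel⟩,
    ⟨e6Cert, e6_checks, by decide +kernel⟩, ⟨e7Cert, e7_checks, by decide +kernel⟩,
    ⟨e8Cert, e8_checks, by decide +kernel⟩]

/-- In a Chevalley group of type G₂, B₂, D₄, F₄, E₆, E₇ or E₈ over a finite field of characteristic p (for types G₂ and B₂ the field is assumed to have at least 3 elements, so that the group is simple), the generalized Fitting subgroup of every proper standard parabolic subgroup P_J is a p-group (P_J is p-constrained with trivial largest normal subgroup of order prime to p). -/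
theorem result {F : Type*} [Field F] [Fintype F] (p : ℕ) [Fact p.Prime] [CharP F p] (D : Cfsg.Lie.ChevalleyDatum) (hD : D ∈ [Cfsg.Lie.chevG2, Cfsg.Lie.chevB2, Cfsg.Lie.chevD4, Cfsg.Lie.chevF4, Cfsg.Lie.chevE6, Cfsg.Lie.chevE7, Cfsg.Lie.chevE8]) (hq : (D = Cfsg.Lie.chevG2 ∨ D = Cfsg.Lie.chevB2) → 3 ≤ Fintype.card F) (J : Set ℕ) (hJ : ∃ i, i < D.rank ∧ i ∉ J) : IsPGroup p ↥(Cfsg.generalizedFittingSubgroup ↥(D.parabolicSubgroup F J)) := by
  classical
  obtain ⟨C, hC, hc⟩ := exists_checks hD
  have hF := facts_of_mem hD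
  set P := D.parabolicSubgroup F J with hP
  have hUP : D.unipotentRadical F J ≤ P := le_sup_left.trans (radical_sup_levi hF J).le
  have hPG : P ≤ D.group F := by
    refine sup_le (borel_le_group hF) ((Subgroup.closure_le _).2 ?_)
    rintro g ⟨j, -, hj, e⟩
    rw [show g = nG hF (D.simple j) 1 from Units.ext (e.trans (nG_val hF _ 1).symm)]
    exact nG_mem_group hF _ _
  have hUU : D.unipotentRadical F J ≤ D.posUnipotent F := by
    refine (Subgroup.closure_le _).2 ?_
    rintro g ⟨r, t, hr, -, e⟩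
    exact Subgroup.subset_closure ⟨r, t, hr, e⟩
  haveI : Finite ↥P := Subtype.finite
  obtain ⟨n, -, hn⟩ := FiniteField.card F p
  have hU : IsPGroup p ↥(D.posUnipotent F) :=
    IsPGroup.of_card (n := n * half D) (by rw [card_posUnipotent hF, hn, ← pow_mul])
  set Q := (D.unipotentRadical F J).subgroupOf P with hQ
  haveI : Q.Normal :=
    (Subgroup.normal_subgroupOf_iff_le_normalizer hUP).2 (parabolic_le_normalizer hF J)
  have hQp : IsPGroup p ↥Q :=
    (hU.to_le hUU).of_equiv (Subgroup.subgroupOfEquivOfLe hUP).symm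
  have hle : Q ≤ pCore p ↥P := Core.le_pCore hQp
  have hsc : Layer.PCoreSelfCentral p ↥P := by
    intro g hg
    refine hle ?_
    rw [hQ, Subgroup.mem_subgroupOf]
    refine centralizer_radical_le hC hF J hJ hc (hPG g.2) fun y hy => ?_
    have := congrArg Subtype.val
      (Subgroup.mem_centralizer_iff.1 hg ⟨y, hUP hy⟩ (hle (Subgroup.mem_subgroupOf.2 hy)))
    simp only [Subgroup.coe_mul] at this
    rw [← this, mul_inv_cancel_right]
  rw [Layer.generalizedFitting_eq_pCore_iff.2 hsc]
  exact Core.pCore_isPGroup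

end Cfsg.Agent.S2155
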