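import Cfsg.Statements.S0701

set_option autoImplicit false
open Cfsg

namespace Cfsg.Agent.S0701

/-- The centraliser in the full symmetric group of a transitive permutation group `G` is semiregular, and it is transitive if and only if `G` is regular. -/
theorem result {α : Type*} (G : Subgroup (Equiv.Perm α)) [MulAction.IsPretransitive G α] : (∀ c ∈ Subgroup.centralizer (G : Set (Equiv.Perm α)), ∀ a : α, c a = a → c = 1) ∧ (MulAction.IsPretransitive (Subgroup.centralizer (G : Set (Equiv.Perm α))) α ↔ ∀ a : α, MulAction.stabilizer G a = ⊥) := by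
  have comm : ∀ c ∈ Subgroup.centralizer (G : Set (Equiv.Perm α)), ∀ g ∈ G, ∀ b : α, c (g b) = g (c b) := by
    intro c hc g hg b
    exact (DFunLike.congr_fun (Subgroup.mem_centralizer_iff.1 hc g hg) b).symm
  refine ⟨fun c hc a hca => Equiv.ext fun b => ?_, fun h a => ?_, fun h => ⟨fun a b => ?_⟩⟩
  · obtain ⟨g, rfl⟩ := MulAction.exists_smul_eq G a b
    show c ((g : Equiv.Perm α) a) = _
    rw [comm c hc _ g.2, hca]
    rfl
  · rw [eq_bot_iff]
    intro g hg
    rw [Subgroup.mem_bot]
    refine Subtype.ext (Equiv.ext fun b => ?_)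
    obtain ⟨c, rfl⟩ := MulAction.exists_smul_eq (Subgroup.centralizer (G : Set (Equiv.Perm α))) a b
    show (g : Equiv.Perm α) ((c : Equiv.Perm α) a) = (c : Equiv.Perm α) a
    rw [← comm _ c.2 _ g.2]
    exact congrArg _ hg
  · have inj : ∀ x : α, Function.Bijective fun g : G => g • x := fun x =>
      ⟨fun g k hgk => by
        have : k⁻¹ * g ∈ MulAction.stabilizer G x := by
          rw [MulAction.mem_stabilizer_iff, mul_smul]; simp only at hgk; rw [hgk, inv_smul_smul]
        rw [h x, Subgroup.mem_bot, inv_mul_eq_one] at this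
        exact this.symm, fun y => MulAction.exists_smul_eq G x y⟩
    let ea := Equiv.ofBijective _ (inj a)
    let eb := Equiv.ofBijective _ (inj b)
    let c : Equiv.Perm α := ea.symm.trans eb
    have hc : ∀ g : G, c (g • a) = g • b := fun g => by
      show eb (ea.symm (g • a)) = _
      rw [show ea.symm (g • a) = g from ea.symm_apply_apply g]
      rfl
    refine ⟨⟨c, Subgroup.mem_centralizer_iff.2 fun g hg => Equiv.ext fun y => ?_⟩, ?_⟩
    · obtain ⟨k, rfl⟩ := MulAction.exists_smul_eq G a y
      show g (c (k • a)) = c (g (k • a))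
      rw [hc k]
      have : g (k • a) = (⟨g, hg⟩ * k : G) • a := by rw [mul_smul]; rfl
      rw [this, hc, mul_smul]
      rfl
    · show c a = b
      simpa using hc 1

end Cfsg.Agent.S0701
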