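import Cfsg.Statements.S0710
import Cfsg.Agent.S0701
import Mathlib.GroupTheory.Sylow
import Mathlib.GroupTheory.SpecificGroups.Cyclic

set_option autoImplicit false
open Cfsg

namespace Cfsg.Agent.S0710

/-- No transitive permutation group on 13 points has order `13 * 12 * 11 * 10 * 9 * 8`. -/
theorem result {α : Type*} [Fintype α] [DecidableEq α] (hα : Fintype.card α = 13) (G : Subgroup (Equiv.Perm α)) [MulAction.IsPretransitive G α] : Nat.card G ≠ 13 * 12 * 11 * 10 * 9 * 8 := by
  intro hG
  have : Fact (Nat.Prime 13) := ⟨by decide⟩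
  obtain ⟨P⟩ : Nonempty (Sylow 13 G) := inferInstance
  have hPc : Nat.card P = 13 := by
    rw [P.card_eq_multiplicity, hG]
    have h1 : (13 * 12 * 11 * 10 * 9 * 8 : ℕ).factorization 13 = 1 := by
      rw [show (13 * 12 * 11 * 10 * 9 * 8 : ℕ) = 13 * 95040 by norm_num,
        Nat.factorization_mul (by norm_num) (by norm_num), Finsupp.add_apply,
        (by decide : Nat.Prime 13).factorization_self, Nat.factorization_eq_zero_of_not_dvd (by norm_num)]
    rw [h1, pow_one]
  set M' : Subgroup (Equiv.Perm α) := (P : Subgroup G).map G.subtype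
  have hM'c : Nat.card M' = 13 := by
    rw [← hPc]
    exact (Nat.card_congr ((P : Subgroup G).equivMapOfInjective _ G.subtype_injective).toEquiv).symm
  have htr : MulAction.IsPretransitive M' α := by
    have hne : Nonempty α := Fintype.card_pos_iff.1 (by omega)
    obtain ⟨a⟩ := hne
    -- some orbit has size 13
    obtain ⟨x, hx⟩ : ∃ x : α, ¬ Nat.card (MulAction.orbit M' x) = 1 := by
      by_contra hc
      push Not at hc
      have hbot : M' = ⊥ := (Subgroup.eq_bot_iff_forall _).2 fun g hg => Equiv.ext fun x => by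
        have : Subsingleton (MulAction.orbit M' x) := (Nat.card_eq_one_iff_unique.1 (hc x)).1
        exact congrArg Subtype.val (Subsingleton.elim (⟨g x, ⟨⟨g, hg⟩, rfl⟩⟩ : MulAction.orbit M' x) ⟨x, MulAction.mem_orbit_self x⟩)
      rw [hbot, Subgroup.card_bot] at hM'c
      omega
    have hd : Nat.card (MulAction.orbit M' x) = 13 := by
      have h := Nat.card_congr (MulAction.orbitEquivQuotientStabilizer M' x)
      have hdvd : Nat.card (MulAction.orbit M' x) ∣ 13 := by
        rw [h, ← hM'c]
        exact Subgroup.index_dvd_card _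
      exact ((Nat.dvd_prime (by decide)).1 hdvd).resolve_left hx
    have huniv : MulAction.orbit M' x = Set.univ := by
      refine Set.eq_of_subset_of_ncard_le (Set.subset_univ _) ?_
      rw [Set.ncard_univ, ← Nat.card_coe_set_eq, hd, Nat.card_eq_fintype_card, hα]
    refine ⟨fun u v => ?_⟩
    obtain ⟨g, hg⟩ : u ∈ MulAction.orbit M' x := huniv ▸ Set.mem_univ u
    obtain ⟨k, hk⟩ : v ∈ MulAction.orbit M' x := huniv ▸ Set.mem_univ v
    exact ⟨k * g⁻¹, by rw [mul_smul, ← hg]; simp only [inv_smul_smul]; exact hk⟩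
  set N := Subgroup.normalizer ((P : Subgroup G) : Set G) with hN
  set C := Subgroup.centralizer ((P : Subgroup G) : Set G) with hC
  have hCle : Nat.card C ≤ 13 := by
    obtain ⟨a⟩ : Nonempty α := Fintype.card_pos_iff.1 (by omega)
    rw [← hα, ← Nat.card_eq_fintype_card]
    refine Nat.card_le_card_of_injective (fun c : C => (c : G) • a) fun c d hcd => ?_
    have hmem : ∀ c : C, ((c : G) : Equiv.Perm α) ∈ Subgroup.centralizer (M' : Set (Equiv.Perm α)) := by
      intro c
      rw [Subgroup.mem_centralizer_iff]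
      rintro _ ⟨m, hm, rfl⟩
      exact congrArg Subtype.val (Subgroup.mem_centralizer_iff.1 c.2 m hm)
    have hfix : (((d : G) : Equiv.Perm α)⁻¹ * ((c : G) : Equiv.Perm α)) a = a := by
      rw [Equiv.Perm.mul_apply]
      have hcd' : ((c : G) : Equiv.Perm α) a = ((d : G) : Equiv.Perm α) a := hcd
      rw [hcd']
      exact ((d : G) : Equiv.Perm α).symm_apply_apply a
    have h1 := (Cfsg.Agent.S0701.result M').1 _ (mul_mem (inv_mem (hmem d)) (hmem c)) a hfix
    rw [inv_mul_eq_one] at h1
    exact Subtype.ext (Subtype.ext h1.symm)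
  have hcyc : IsCyclic P := isCyclic_of_prime_card hPc
  have hPC : (P : Subgroup G) ≤ C := fun x hx => Subgroup.mem_centralizer_iff.2 fun y hy =>
    congrArg Subtype.val (IsCyclic.isMulCommutative.is_comm.comm (⟨y, hy⟩ : P) ⟨x, hx⟩)
  have hCeq : Nat.card C = 13 := le_antisymm hCle (hPc ▸ Subgroup.card_le_of_le hPC)
  let ψ : N →* MulAut (P : Subgroup G) := (P : Subgroup G).normalizerMonoidHom
  have hk : ψ.ker = C.subgroupOf N := Subgroup.normalizerMonoidHom_ker _
  have hCN : C ≤ N := by
    intro c hc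
    rw [hN, Subgroup.mem_normalizer_iff]
    intro y
    refine ⟨fun hy => ?_, fun hy => ?_⟩
    · rw [← Subgroup.mem_centralizer_iff.1 hc y hy, mul_inv_cancel_right]
      exact hy
    · have := Subgroup.mem_centralizer_iff.1 hc _ hy
      have he : c * y * c⁻¹ = y := by
        have h2 : c * y = c * (c * y * c⁻¹) := by rw [← this]; group
        exact (mul_left_cancel h2).symm
      rwa [he] at hy
  have hNc : ∃ d, d ∣ 12 ∧ Nat.card N = 13 * d := by
    refine ⟨Nat.card ψ.range, ?_, ?_⟩
    · refine dvd_trans (Subgroup.card_subgroup_dvd_card _) ?_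
      rw [IsCyclic.card_mulAut, hPc]
      decide
    · rw [Subgroup.card_eq_card_quotient_mul_card_subgroup ψ.ker, hk,
        Nat.card_congr (Subgroup.subgroupOfEquivOfLe hCN).toEquiv, hCeq, mul_comm, ← hk,
        Nat.card_congr (QuotientGroup.quotientKerEquivRange ψ).toEquiv]
  obtain ⟨d, hd, hNd⟩ := hNc
  have h1 : Nat.card (Sylow 13 G) * (13 * d) = 13 * 95040 := by
    rw [← hNd, hN, Sylow.card_eq_index_normalizer P]
    exact (Subgroup.index_mul_card N).trans (by rw [hG])
  have h2 := card_sylow_modEq_one 13 G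
  have hd' : d ∣ 12 := hd
  have : Nat.card (Sylow 13 G) * d = 95040 := by
    have : 13 * (Nat.card (Sylow 13 G) * d) = 13 * 95040 := by rw [← h1]; ring
    omega
  have hdm : d ≡ 95040 [MOD 13] := by
    rw [← this]
    exact (by simpa using (h2.mul_right d).symm)
  have hd12 : d ≤ 12 := Nat.le_of_dvd (by norm_num) hd'
  interval_cases d <;> simp_all [Nat.ModEq]

end Cfsg.Agent.S0710
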