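import Cfsg.Statements.S0735
import Mathlib.GroupTheory.GroupAction.Primitive
import Mathlib.GroupTheory.Perm.Cycle.Type

set_option autoImplicit false
open Cfsg

namespace Cfsg.Agent.S0735

open scoped Pointwise

/-- A 2-homogeneous permutation group (transitive on 2-subsets) of even order is doubly transitive; a non-trivial 2-homogeneous group is primitive. -/
theorem result {α : Type*} [Fintype α] [DecidableEq α] (G : Subgroup (Equiv.Perm α)) (h2 : MulAction.IsPretransitive G (Set.powersetCard α 2)) (hα : 3 ≤ Fintype.card α) : (Even (Nat.card G) → MulAction.IsMultiplyPretransitive G α 2) ∧ (G ≠ ⊥ → MulAction.IsPreprimitive G α) := by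
  classical
  have move : ∀ x y u v : α, x ≠ y → u ≠ v → ∃ g : G, (g • x = u ∧ g • y = v) ∨ (g • x = v ∧ g • y = u) := by
    intro x y u v hxy huv
    obtain ⟨g, hg⟩ := h2.exists_smul_eq ⟨{x, y}, Finset.card_pair hxy⟩ ⟨{u, v}, Finset.card_pair huv⟩
    have hg' : g • ({x, y} : Finset α) = {u, v} := congrArg Subtype.val hg
    rw [Finset.smul_finset_insert, Finset.smul_finset_singleton] at hg'
    have hgx : g • x = u ∨ g • x = v := by
      have : g • x ∈ ({u, v} : Finset α) := by rw [← hg']; simp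
      simpa using this
    have hgy : g • y = u ∨ g • y = v := by
      have : g • y ∈ ({u, v} : Finset α) := by rw [← hg']; simp
      simpa using this
    have hne : g • x ≠ g • y := fun h => hxy (smul_left_cancel g h)
    refine ⟨g, ?_⟩
    rcases hgx with h | h <;> rcases hgy with h' | h'
    · exact absurd (h.trans h'.symm) hne
    · exact Or.inl ⟨h, h'⟩
    · exact Or.inr ⟨h, h'⟩
    · exact absurd (h.trans h'.symm) hne
  constructor
  · intro heven
    have : Fact (Nat.Prime 2) := ⟨Nat.prime_two⟩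
    obtain ⟨t, ht⟩ := exists_prime_orderOf_dvd_card' 2 (even_iff_two_dvd.1 heven)
    have ht1 : t ≠ 1 := fun h => by rw [h, orderOf_one] at ht; norm_num at ht
    obtain ⟨x, hx⟩ : ∃ x, t • x ≠ x := by
      by_contra! h
      exact ht1 (Subtype.ext (Equiv.ext h))
    have htt : t • t • x = x := by
      rw [← mul_smul, ← sq, ← ht, pow_orderOf_eq_one, one_smul]
    rw [MulAction.is_two_pretransitive_iff]
    intro a b c d hab hcd
    obtain ⟨g, hg⟩ := move x (t • x) a b (Ne.symm hx) hab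
    obtain ⟨k, hk⟩ := move x (t • x) c d (Ne.symm hx) hcd
    obtain ⟨g', hg1, hg2⟩ : ∃ g' : G, g' • x = a ∧ g' • t • x = b := by
      rcases hg with ⟨h1, h2⟩ | ⟨h1, h2⟩
      · exact ⟨g, h1, h2⟩
      · exact ⟨g * t, by rw [mul_smul, h2], by rw [mul_smul, htt, h1]⟩
    obtain ⟨k', hk1, hk2⟩ : ∃ k' : G, k' • x = c ∧ k' • t • x = d := by
      rcases hk with ⟨h1, h2⟩ | ⟨h1, h2⟩
      · exact ⟨k, h1, h2⟩
      · exact ⟨k * t, by rw [mul_smul, h2], by rw [mul_smul, htt, h1]⟩
    exact ⟨k' * g'⁻¹, by rw [mul_smul, ← hg1, inv_smul_smul, hk1], by rw [mul_smul, ← hg2, inv_smul_smul, hk2]⟩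
  · intro hne
    have third : ∀ x y : α, ∃ z, z ≠ x ∧ z ≠ y := fun x y => by
      obtain ⟨z, -, hz⟩ := Finset.exists_mem_notMem_of_card_lt_card (s := ({x, y} : Finset α)) (t := Finset.univ) (by
        have h2 : ({x, y} : Finset α).card ≤ 2 := Finset.card_le_two
        rw [Finset.card_univ]; omega)
      exact ⟨z, by simpa using hz⟩
    obtain ⟨g0, hg0⟩ : ∃ g : G, g ≠ 1 := by
      by_contra! h
      exact hne ((Subgroup.eq_bot_iff_forall _).2 fun g hg => congrArg Subtype.val (h ⟨g, hg⟩))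
    obtain ⟨x0, hx0⟩ : ∃ x, g0 • x ≠ x := by
      by_contra! h
      exact hg0 (Subtype.ext (Equiv.ext h))
    have : MulAction.IsPretransitive G α := ⟨fun u v => by
      rcases eq_or_ne u v with rfl | huv
      · exact ⟨1, one_smul _ _⟩
      obtain ⟨g, hg⟩ := move x0 (g0 • x0) u v (Ne.symm hx0) huv
      rcases hg with ⟨h1, h2⟩ | ⟨h1, h2⟩
      · exact ⟨g * g0 * g⁻¹, by rw [mul_smul, mul_smul, ← h1, inv_smul_smul, h2]⟩
      · exact ⟨g * g0⁻¹ * g⁻¹, by rw [mul_smul, mul_smul, ← h2, inv_smul_smul, inv_smul_smul, h1]⟩⟩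
    constructor
    intro B hB
    by_cases hs : B.Subsingleton
    · exact Or.inl hs
    refine Or.inr (Set.eq_univ_of_forall fun z => ?_)
    by_contra hz
    rw [Set.not_subsingleton_iff] at hs
    obtain ⟨x, hx, y, hy, hxy⟩ := hs
    have hxz : x ≠ z := fun h => hz (h ▸ hx)
    obtain ⟨g, hg⟩ := move x y x z hxy hxz
    rcases hg with ⟨h1, h2⟩ | ⟨h1, h2⟩
    · have := MulAction.isBlock_iff_smul_eq_of_nonempty.1 hB (g := g) ⟨x, ⟨x, hx, h1⟩, hx⟩
      exact hz (this ▸ ⟨y, hy, h2⟩)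
    · have := MulAction.isBlock_iff_smul_eq_of_nonempty.1 hB (g := g) ⟨x, ⟨y, hy, h2⟩, hx⟩
      exact hz (this ▸ ⟨x, hx, h1⟩)

end Cfsg.Agent.S0735
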