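import Cfsg.Statements.S0736
import Mathlib.Data.Nat.Choose.Lucas
import Mathlib.Combinatorics.Enumerative.DoubleCounting

set_option autoImplicit false
open Cfsg

namespace Cfsg.Agent.S0736

theorem choose_mod_one (p : ℕ) [hp : Fact p.Prime] (a : ℕ) :
    ∀ j : ℕ, (j * p ^ a + (p ^ a - 1)).choose (p ^ a - 1) ≡ 1 [MOD p] := by
  induction a with
  | zero => intro j; simp; rfl
  | succ a ih =>
    intro j
    have h1 : 1 ≤ p ^ a := Nat.one_le_pow _ _ hp.out.pos
    have hsub : p ^ (a + 1) - 1 = (p - 1) + p * (p ^ a - 1) := by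
      rw [pow_succ', Nat.mul_sub, mul_one]
      have : p ≤ p * p ^ a := Nat.le_mul_of_pos_right _ h1
      have := hp.out.pos
      omega
    have hlt : p - 1 < p := by have := hp.out.pos; omega
    have hn : j * p ^ (a + 1) + (p ^ (a + 1) - 1) = (p - 1) + p * (j * p ^ a + (p ^ a - 1)) := by
      rw [hsub, pow_succ']
      ring
    have h := Choose.choose_modEq_choose_mod_mul_choose_div_nat
      (n := j * p ^ (a + 1) + (p ^ (a + 1) - 1)) (k := p ^ (a + 1) - 1) (p := p)
    rw [hn, hsub, Nat.add_mul_mod_self_left, Nat.add_mul_mod_self_left, Nat.mod_eq_of_lt hlt,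
      Nat.add_mul_div_left _ _ hp.out.pos, Nat.add_mul_div_left _ _ hp.out.pos,
      Nat.div_eq_of_lt hlt, zero_add, zero_add, Nat.choose_self, one_mul] at h
    rw [hn, hsub]
    exact h.trans (ih j)

/-- A `k`-homogeneous permutation group of degree `n`, `k ≥ 2`, with `k + q - 1 ≤ n` for every prime power `q` dividing `k`, is `(k-1)`-homogeneous. -/
theorem result {α : Type*} [Fintype α] [DecidableEq α] (G : Subgroup (Equiv.Perm α)) {k : ℕ} (hk : 2 ≤ k) (hG : MulAction.IsPretransitive G (Set.powersetCard α k)) (hq : ∀ q : ℕ, IsPrimePow q → q ∣ k → k + q - 1 ≤ Fintype.card α) : MulAction.IsPretransitive G (Set.powersetCard α (k - 1)) := by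
  classical
  obtain ⟨hG⟩ := hG
  have hkn : k ≤ Fintype.card α := by
    obtain ⟨p, hp, hpk⟩ := Nat.exists_prime_and_dvd (show k ≠ 1 by omega)
    have := hq p hp.isPrimePow hpk
    have := hp.two_le
    omega
  refine ⟨fun A B => ?_⟩
  set O : Finset α → Prop := fun S => ∃ g : G, S = (g • (A : Set.powersetCard α (k - 1))).val with hO
  have hOsmul : ∀ (g : G) (S : Finset α), O S → O (S.image (g • ·)) := by
    rintro g S ⟨h, rfl⟩
    exact ⟨g * h, by rw [mul_smul]; rfl⟩
  set c : Finset α → ℕ := fun K => ((K.powersetCard (k - 1)).filter O).card with hc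
  have hcle : ∀ (g : G) (K : Finset α), c K ≤ c (K.image (g • ·)) := by
    intro g K
    refine Finset.card_le_card_of_injOn (fun S => S.image (g • ·)) ?_ ?_
    · intro S hS
      simp only [Finset.mem_coe, Finset.mem_filter, Finset.mem_powersetCard] at hS ⊢
      exact ⟨⟨Finset.image_subset_image hS.1.1,
        by rw [Finset.card_image_of_injective _ (MulAction.injective g)]; exact hS.1.2⟩,
        hOsmul g S hS.2⟩
    · exact fun S _ T _ h => Finset.image_injective (MulAction.injective g) h
  obtain ⟨K₀, hAK, hK₀⟩ := Finset.exists_superset_card_eq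
    (s := (A : Finset α)) (n := k) (by rw [A.2]; omega) hkn
  have hconst : ∀ K : Finset α, K.card = k → c K = c K₀ := by
    intro K hK
    obtain ⟨g, hg⟩ := hG ⟨K₀, hK₀⟩ ⟨K, hK⟩
    obtain ⟨g', hg'⟩ := hG ⟨K, hK⟩ ⟨K₀, hK₀⟩
    have e1 : K₀.image (g • ·) = K := congrArg Subtype.val hg
    have e2 : K.image (g' • ·) = K₀ := congrArg Subtype.val hg'
    exact le_antisymm (e2 ▸ hcle g' K) (e1 ▸ hcle g K₀)
  have hpos : 0 < c K₀ := Finset.card_pos.2 ⟨(A : Finset α), Finset.mem_filter.2
    ⟨Finset.mem_powersetCard.2 ⟨hAK, A.2⟩, 1, by rw [one_smul]⟩⟩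
  have hk0 : k ≠ 0 := by omega
  have hdvd : k ∣ c K₀ := by
    rw [Nat.dvd_iff_prime_pow_dvd_dvd]
    intro p e hp hpe
    rcases Nat.eq_zero_or_pos e with rfl | he
    · simp
    haveI := Fact.mk hp
    set q := p ^ e with hq'
    have hq1 : 1 ≤ q := Nat.one_le_pow _ _ hp.pos
    have hn := hq q (hp.isPrimePow.pow he.ne') hpe
    obtain ⟨Y, -, hY⟩ := Finset.exists_subset_card_eq
      (s := (Finset.univ : Finset α)) (n := k + q - 1) (by rw [Finset.card_univ]; omega)
    -- double counting inside `Y`
    have hcount : c K₀ * (k + q - 1).choose k = ((Y.powersetCard (k - 1)).filter O).card * q := by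
      have h := Finset.sum_card_bipartiteAbove_eq_sum_card_bipartiteBelow
        (fun (K S : Finset α) => S ⊆ K) (s := Y.powersetCard k)
        (t := (Y.powersetCard (k - 1)).filter O)
      rw [Finset.sum_const_nat (m := c K₀), Finset.sum_const_nat (m := q), Finset.card_powersetCard,
        hY] at h
      · rw [mul_comm]; exact h
      · intro S hS
        simp only [Finset.mem_filter, Finset.mem_powersetCard] at hS
        have : Finset.bipartiteBelow (fun (K S : Finset α) => S ⊆ K) (Y.powersetCard k) S =
            (Y \ S).image (fun x => insert x S) := by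
          ext K
          simp only [Finset.mem_bipartiteBelow, Finset.mem_powersetCard, Finset.mem_image,
            Finset.mem_sdiff]
          constructor
          · rintro ⟨⟨hKY, hKc⟩, hSK⟩
            obtain ⟨x, hx⟩ := Finset.card_eq_one.1 (show (K \ S).card = 1 by
              rw [Finset.card_sdiff_of_subset hSK]; omega)
            have hxK : x ∈ K \ S := by rw [hx]; exact Finset.mem_singleton_self x
            rw [Finset.mem_sdiff] at hxK
            refine ⟨x, ⟨hKY hxK.1, hxK.2⟩, ?_⟩
            rw [Finset.insert_eq, ← hx, Finset.sdiff_union_of_subset hSK]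
          · rintro ⟨x, ⟨hxY, hxS⟩, rfl⟩
            refine ⟨⟨Finset.insert_subset hxY hS.1.1, ?_⟩, Finset.subset_insert x S⟩
            rw [Finset.card_insert_of_notMem hxS]; omega
        rw [this, Finset.card_image_of_injOn, Finset.card_sdiff_of_subset hS.1.1]
        · omega
        · intro x hx y hy hxy
          simp only [Finset.mem_coe, Finset.mem_sdiff] at hx hy
          have : x ∈ insert y S := by
            rw [← show insert x S = insert y S from hxy]; exact Finset.mem_insert_self x S
          exact (Finset.mem_insert.1 this).resolve_right hx.2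
      · intro K hK
        rw [Finset.mem_powersetCard] at hK
        rw [← hconst K hK.2]
        refine congrArg Finset.card ?_
        ext S
        simp only [Finset.mem_bipartiteAbove, Finset.mem_filter, Finset.mem_powersetCard]
        exact ⟨fun h => ⟨⟨h.2, h.1.1.2⟩, h.1.2⟩, fun h => ⟨⟨⟨h.1.1.trans hK.1, h.1.2⟩, h.2⟩, h.1.1⟩⟩
    obtain ⟨j, hj⟩ := hpe
    have hchoose : ¬ p ∣ (k + q - 1).choose k := by
      have h := choose_mod_one p e j
      have e1 : j * q + (q - 1) = k + q - 1 := by rw [hj, mul_comm q j]; omega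
      rw [← hq', e1, Nat.choose_symm_of_eq_add (show k + q - 1 = (q - 1) + k by omega)] at h
      intro hd
      exact absurd ((Nat.modEq_zero_iff_dvd.2 hd).symm.trans h) (by
        intro hh
        exact hp.one_lt.ne' (Nat.eq_one_of_dvd_one ((Nat.modEq_iff_dvd' (Nat.zero_le 1)).1 hh)))
    exact (Nat.Coprime.pow_left e ((Nat.Prime.coprime_iff_not_dvd hp).2 hchoose)).dvd_of_dvd_mul_right
      ⟨_, hcount.trans (mul_comm _ _)⟩
  obtain ⟨K, hBK, hK⟩ := Finset.exists_superset_card_eq
    (s := (B : Finset α)) (n := k) (by rw [B.2]; omega) hkn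
  have hcK : c K = (K.powersetCard (k - 1)).card := by
    have hle : c K ≤ (K.powersetCard (k - 1)).card := Finset.card_filter_le _ _
    have hkk : (K.powersetCard (k - 1)).card = k := by
      rw [Finset.card_powersetCard, hK, ← Nat.choose_symm (show k - 1 ≤ k by omega),
        show k - (k - 1) = 1 by omega, Nat.choose_one_right]
    refine le_antisymm hle ?_
    rw [hkk, hconst K hK]
    exact Nat.le_of_dvd hpos hdvd
  have hall := Finset.card_filter_eq_iff.1 hcK
  obtain ⟨g, hg⟩ := hall (B : Finset α) (Finset.mem_powersetCard.2 ⟨hBK, B.2⟩)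
  exact ⟨g, Subtype.ext hg.symm⟩

end Cfsg.Agent.S0736
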