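import Cfsg.Statements.S0743

set_option autoImplicit false
open Cfsg

namespace Cfsg.Agent.S0743

/-- Gleason's lemma for actions -/
lemma gleason {p : ℕ} (hp : p.Prime) : ∀ k : ℕ, ∀ (G : Type*) [Group G] [Finite G] (α : Type*) [Fintype α] [MulAction G α],
    k < Fintype.card α →
    (∀ s : Finset α, s.card = k → ∃ P : Subgroup G, IsPGroup p P ∧ MulAction.fixedPoints P α = (s : Set α)) →
    MulAction.IsMultiplyPretransitive G α k := by
  have : Fact p.Prime := ⟨hp⟩
  intro k
  induction k with
  | zero => intros; exact MulAction.is_zero_pretransitive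
  | succ k ih =>
    intro G _ _ α _ _ hk h
    classical
    have htrans : MulAction.IsPretransitive G α := by
      refine ⟨fun a b => ?_⟩
      by_contra hab
      set O : Finset α := (MulAction.orbit G a).toFinset with hO
      have ha : a ∈ O := Set.mem_toFinset.2 (MulAction.mem_orbit_self a)
      have hb : b ∉ O := fun hb => hab (MulAction.mem_orbit_iff.1 (Set.mem_toFinset.1 hb))
      have hmod : ∀ s : Finset α, s.card = k + 1 → O.card ≡ (O ∩ s).card [MOD p] := by
        intro s hs
        obtain ⟨P, hP, hfix⟩ := h s hs
        have hh := hP.card_modEq_card_fixedPoints (MulAction.orbit G a)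
        have e1 : Nat.card (MulAction.orbit G a) = O.card := by
          rw [hO, Set.toFinset_card, Nat.card_eq_fintype_card]
        have e2 : Nat.card (MulAction.fixedPoints P (MulAction.orbit G a)) = (O ∩ s).card := by
          rw [← Nat.card_eq_finsetCard]
          refine Nat.card_congr
            { toFun := fun x => ⟨x.1.1, Finset.mem_inter.2 ⟨Set.mem_toFinset.2 x.1.2, ?_⟩⟩
              invFun := fun x => ⟨⟨x.1, Set.mem_toFinset.1 (Finset.mem_inter.1 x.2).1⟩, ?_⟩
              left_inv := fun x => rfl
              right_inv := fun x => rfl }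
          · have : x.1.1 ∈ MulAction.fixedPoints P α := fun g => congrArg Subtype.val (x.2 g)
            rw [hfix] at this
            exact this
          · intro g
            have : x.1 ∈ MulAction.fixedPoints P α := by rw [hfix]; exact (Finset.mem_inter.1 x.2).2
            exact Subtype.ext (this g)
        rwa [e1, e2] at hh
      obtain ⟨t, ht, htc⟩ : ∃ t : Finset α, t ⊆ Finset.univ \ {a, b} ∧ t.card = k := by
        refine Finset.exists_subset_card_eq ?_
        rw [Finset.card_sdiff_of_subset (Finset.subset_univ _), Finset.card_univ]
        have : ({a, b} : Finset α).card ≤ 2 := Finset.card_le_two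
        omega
      have hat : a ∉ t := fun e => by simpa using ht e
      have hbt : b ∉ t := fun e => by simpa using ht e
      have m1 := hmod (insert a t) (by rw [Finset.card_insert_of_notMem hat, htc])
      have m2 := hmod (insert b t) (by rw [Finset.card_insert_of_notMem hbt, htc])
      rw [Finset.inter_insert_of_mem ha, Finset.card_insert_of_notMem (fun e => hat (Finset.mem_inter.1 e).2)] at m1
      rw [Finset.inter_insert_of_notMem hb] at m2
      have := (Nat.modEq_iff_dvd' (Nat.le_succ _)).1 (m2.symm.trans m1)
      rw [Nat.succ_eq_add_one, Nat.add_sub_cancel_left] at this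
      exact hp.not_dvd_one this
    obtain ⟨a⟩ : Nonempty α := Fintype.card_pos_iff.1 (by omega)
    rw [← Nat.succ_eq_add_one, SubMulAction.ofStabilizer.isMultiplyPretransitive (a := a)]
    have : Fintype (SubMulAction.ofStabilizer G a) := Fintype.ofFinite _
    refine ih (MulAction.stabilizer G a) (SubMulAction.ofStabilizer G a) ?_ ?_
    · have := SubMulAction.nat_card_ofStabilizer_add_one_eq (G := G) a
      rw [Nat.card_eq_fintype_card, Nat.card_eq_fintype_card] at this
      omega
    · intro t ht
      have hat : a ∉ t.map (Function.Embedding.subtype _) := by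
        intro e
        obtain ⟨x, -, hx⟩ := Finset.mem_map.1 e
        exact x.2 hx
      obtain ⟨P, hP, hfix⟩ := h (insert a (t.map (Function.Embedding.subtype _)))
        (by rw [Finset.card_insert_of_notMem hat, Finset.card_map, ht])
      have hle : P ≤ MulAction.stabilizer G a := by
        intro g hg
        have : a ∈ MulAction.fixedPoints P α := by rw [hfix]; simp
        exact this ⟨g, hg⟩
      refine ⟨P.subgroupOf _, hP.comap_of_injective _ (Subgroup.subtype_injective _), ?_⟩
      ext x
      have hx : (x : α) ∈ MulAction.fixedPoints P α ↔ x ∈ t := by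
        have hxa : (x : α) ≠ a := x.2
        rw [hfix]
        simp [hxa]
      rw [Finset.mem_coe, ← hx]
      constructor
      · intro hh g
        exact congrArg Subtype.val (hh ⟨⟨g.1, hle g.2⟩, g.2⟩)
      · intro hh g
        exact Subtype.ext (hh ⟨g.1.1, g.2⟩)

/-- Gleason's Lemma: let `p` be a prime and `1 ≤ k < n`; if every `k`-subset of the `n` points is exactly the fixed-point set of some `p`-subgroup of `G`, then `G` is `k`-transitive. -/
theorem result {α : Type*} [Fintype α] [DecidableEq α] (G : Subgroup (Equiv.Perm α)) {p k : ℕ} (hp : p.Prime) (hk : 1 ≤ k) (hkn : k < Fintype.card α) (h : ∀ s : Finset α, s.card = k → ∃ P : Subgroup G, IsPGroup p P ∧ MulAction.fixedPoints P α = (s : Set α)) : MulAction.IsMultiplyPretransitive G α k := by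
  exact gleason hp k G α hkn h

end Cfsg.Agent.S0743
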