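import Cfsg.Statements.S0744
import Cfsg.Agent.S0743
import Mathlib.GroupTheory.Sylow

set_option autoImplicit false
open Cfsg

namespace Cfsg.Agent.S0744

/-- If for some `k > 1` the pointwise stabilisers of all `(k-1)`-subsets have the same order `> 1` and those of all `k`-subsets have the same order, then the group is `(k-1)`-transitive. -/
theorem result {α : Type*} [Fintype α] [DecidableEq α] (G : Subgroup (Equiv.Perm α)) {k : ℕ} (hk : 1 < k) (hkn : k ≤ Fintype.card α) (l m : ℕ) (hl : 1 < l) (hkm1 : ∀ s : Finset α, s.card = k - 1 → Nat.card (fixingSubgroup G (s : Set α)) = l) (hkm : ∀ s : Finset α, s.card = k → Nat.card (fixingSubgroup G (s : Set α)) = m) : MulAction.IsMultiplyPretransitive G α (k - 1) := by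
  classical
  have hfin : ∀ s : Finset α, s.card = k - 1 → ∀ x ∉ s,
      Nat.card (MulAction.stabilizer (fixingSubgroup G (s : Set α)) x) = m := by
    intro s hs x hx
    rw [← hkm (insert x s) (by rw [Finset.card_insert_of_notMem hx, hs]; omega)]
    refine Nat.card_congr
      { toFun := fun g => ⟨g.1.1, ?_⟩
        invFun := fun g => ⟨⟨g.1, ?_⟩, ?_⟩
        left_inv := fun g => rfl
        right_inv := fun g => rfl }
    · rw [mem_fixingSubgroup_iff]
      intro y hy
      rcases Finset.mem_insert.1 (Finset.mem_coe.1 hy) with rfl | hy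
      · exact g.2
      · exact (mem_fixingSubgroup_iff G).1 g.1.2 y hy
    · exact (mem_fixingSubgroup_iff G).2 fun y hy =>
        (mem_fixingSubgroup_iff G).1 g.2 y (Finset.mem_coe.2 (Finset.mem_insert_of_mem hy))
    · exact (mem_fixingSubgroup_iff G).1 g.2 x (Finset.mem_coe.2 (Finset.mem_insert_self x s))
  obtain ⟨s0, -, hs0⟩ := Finset.exists_subset_card_eq (s := (Finset.univ : Finset α)) (n := k - 1)
    (by rw [Finset.card_univ]; omega)
  have hml : m < l := by
    have hne : ∃ g : fixingSubgroup G (s0 : Set α), g ≠ 1 := by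
      have : Nontrivial (fixingSubgroup G (s0 : Set α)) :=
        Finite.one_lt_card_iff_nontrivial.1 (by rw [hkm1 s0 hs0]; exact hl)
      exact exists_ne 1
    obtain ⟨g, hg⟩ := hne
    obtain ⟨x, hx⟩ : ∃ x, g • x ≠ x := by
      by_contra! hc
      exact hg (Subtype.ext (Subtype.ext (Equiv.ext hc)))
    have hxs : x ∉ s0 := fun hh => hx ((mem_fixingSubgroup_iff G).1 g.2 x hh)
    rw [← hkm1 s0 hs0, ← hfin s0 hs0 x hxs]
    exact lt_of_le_of_ne (Subgroup.card_le_card_group _) fun e =>
      hx (show g ∈ MulAction.stabilizer _ x by rw [Subgroup.eq_top_of_card_eq _ e]; trivial)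
  obtain ⟨p, hp, hpp⟩ : ∃ p : ℕ, p.Prime ∧ ∀ i, p ^ i ∣ m → p ^ (i + 1) ∣ l := by
    obtain ⟨s, rfl⟩ : m ∣ l := by
      obtain ⟨x, hx⟩ : ∃ x, x ∉ s0 := by
        by_contra! hc
        rw [Finset.eq_univ_of_forall hc, Finset.card_univ] at hs0
        omega
      rw [← hkm1 s0 hs0, ← hfin s0 hs0 x hx]
      exact Subgroup.card_subgroup_dvd_card _
    have hs1 : s ≠ 1 := by rintro rfl; simp at hml
    refine ⟨s.minFac, Nat.minFac_prime hs1, fun i hi => ?_⟩
    rw [pow_succ]
    exact mul_dvd_mul hi (Nat.minFac_dvd s)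
  have : Fact p.Prime := ⟨hp⟩
  refine Cfsg.Agent.S0743.result G hp (by omega) (by omega) fun s hs => ?_
  obtain ⟨Q⟩ : Nonempty (Sylow p (fixingSubgroup G (s : Set α))) := inferInstance
  refine ⟨(Q : Subgroup (fixingSubgroup G (s : Set α))).map (fixingSubgroup G (s : Set α)).subtype, Q.isPGroup'.map _, ?_⟩
  ext x
  constructor
  · intro hx
    by_contra hxs
    have hle : (Q : Subgroup _) ≤ MulAction.stabilizer (fixingSubgroup G (s : Set α)) x := fun g hg =>
      hx ⟨g.1, Subgroup.mem_map_of_mem _ hg⟩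
    have h1 : Nat.card Q ∣ m := hfin s hs x hxs ▸ Subgroup.card_dvd_of_le hle
    rw [Q.card_eq_multiplicity] at h1
    have h2 := hpp _ h1
    have hl0 : l ≠ 0 := by omega
    rw [hkm1 s hs] at h2
    exact Nat.pow_succ_factorization_not_dvd hl0 hp h2
  · rintro hx ⟨g, hg⟩
    obtain ⟨q, -, rfl⟩ := Subgroup.mem_map.1 hg
    exact (mem_fixingSubgroup_iff G).1 q.2 x hx

end Cfsg.Agent.S0744
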