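import Cfsg.Statements.S3899
import Cfsg.Agent.ClassCount.Pi

set_option autoImplicit false
open Cfsg

namespace Cfsg.Agent.S3899

theorem result {G : Type*} [Group G] [Finite G] (π : Finset ℕ) (hπ : ∀ r ∈ π, r.Prime) (h2 : 2 ∉ π) (p : ℕ) (hp : p ∈ π)
    (hmin : ∀ r ∈ π, p ≤ r) (hk : (p + 1) * π.prod (fun r => r ^ (Nat.card G).factorization r) < 2 * p * Nat.card {c : ConjClasses G // ∀ x ∈ c.carrier, ∀ r : ℕ, r.Prime → r ∣ orderOf x → r ∈ π}) :
    (∃ N : Subgroup G, N.Normal ∧ (∀ r : ℕ, r.Prime → r ∣ Nat.card ↥N → r ∉ π) ∧ ∀ r : ℕ, r.Prime → r ∣ N.index → r ∈ π) ∧ ∃ H : Subgroup G, Cfsg.IsPiHall (↑π : Set ℕ) H ∧ IsMulCommutative ↥H := by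
  classical
  have key : ∀ r ∈ π, ∃ N : Subgroup G, N.Normal ∧ ¬ r ∣ Nat.card N ∧
      (∃ j : ℕ, N.index = r ^ j) ∧ ∀ a b : G, a * b * a⁻¹ * b⁻¹ ∈ N := by
    intro r hr
    have := Fact.mk (hπ r hr)
    obtain ⟨P⟩ : Nonempty (Sylow r G) := inferInstance
    have hb := ClassCount.kPi_le_kP_mul π hπ r (hπ r hr) fun H =>
      ClassCount.kPi_le_piPart (π.erase r) (fun s hs => hπ s (Finset.mem_of_mem_erase hs)) ↥(H : Subgroup G)
    have hprod : π.prod (fun s => s ^ (Nat.card G).factorization s) =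
        r ^ (Nat.card G).factorization r * ClassCount.piPart (π.erase r) G :=
      (Finset.mul_prod_erase π (fun s => s ^ (Nat.card G).factorization s) hr).symm
    rw [hprod, ← P.card_eq_multiplicity] at hk
    have h1 : (p + 1) * Nat.card (P : Subgroup G) < 2 * p * ClassCount.kP r G := by
      have h3 := lt_of_lt_of_le hk (Nat.mul_le_mul_left (2 * p) hb)
      rw [← mul_assoc, ← mul_assoc] at h3
      exact Nat.lt_of_mul_lt_mul_right h3
    have hpr := hmin r hr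
    have h4 : (r + 1) * Nat.card (P : Subgroup G) < 2 * r * ClassCount.kP r G := by
      have hp0 : 0 < p := (hπ p hp).pos
      apply Nat.lt_of_mul_lt_mul_left (a := p)
      calc p * ((r + 1) * Nat.card (P : Subgroup G))
          ≤ r * ((p + 1) * Nat.card (P : Subgroup G)) := by nlinarith
        _ < r * (2 * p * ClassCount.kP r G) :=
            (Nat.mul_lt_mul_left (hπ r hr).pos).mpr h1
        _ = p * (2 * r * ClassCount.kP r G) := by ring
    obtain ⟨hab, N, hN, hNc⟩ :=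
      ClassCount.complement_of_many_classes (fun h => h2 (h ▸ hr)) P h4
    refine ⟨N, hN, ?_, ?_, ?_⟩
    · exact hNc.index_eq_card ▸ P.not_dvd_index
    · exact ⟨_, hNc.symm.index_eq_card.trans P.card_eq_multiplicity⟩
    · intro a b
      let φ : ↥(P : Subgroup G) →* G ⧸ N := (QuotientGroup.mk' N).comp (P : Subgroup G).subtype
      have hsurj : Function.Surjective φ := fun q => by
        obtain ⟨g, rfl⟩ := QuotientGroup.mk'_surjective N q
        obtain ⟨⟨n, x⟩, hnx⟩ := hNc.2 g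
        refine ⟨x, ?_⟩
        rw [← hnx]
        change ((x : G) : G ⧸ N) = ((n : G) * (x : G) : G)
        rw [QuotientGroup.mk_mul, (QuotientGroup.eq_one_iff (n : G)).mpr n.2, one_mul]
      obtain ⟨x, hx⟩ := hsurj (a : G ⧸ N)
      obtain ⟨y, hy⟩ := hsurj (b : G ⧸ N)
      rw [← QuotientGroup.eq_one_iff]
      simp only [QuotientGroup.mk_mul, QuotientGroup.mk_inv, ← hx, ← hy]
      rw [← map_mul, hab.is_comm.comm x y, map_mul, mul_inv_cancel_right, mul_inv_cancel]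
  choose Nf hn hnd hidx hcomm using key
  let N : Subgroup G := ⨅ r : π, Nf r.1 r.2
  have hNn : N.Normal := Subgroup.normal_iInf_normal fun r : π => hn r.1 r.2
  have hNπ : ∀ r : ℕ, r.Prime → r ∣ Nat.card ↥N → r ∉ π := fun r _ hrd hrπ =>
    hnd r hrπ (hrd.trans (Subgroup.card_dvd_of_le (iInf_le (fun s : π => Nf s.1 s.2) ⟨r, hrπ⟩)))
  have hNi : ∀ r : ℕ, r.Prime → r ∣ N.index → r ∈ π := by
    intro r hr hrd
    have := Fact.mk hr
    obtain ⟨q, hq⟩ := exists_prime_orderOf_dvd_card' r (G := G ⧸ N) hrd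
    obtain ⟨g, rfl⟩ := QuotientGroup.mk_surjective q
    have hgN : g ∉ N := fun h => hr.ne_one (hq ▸ orderOf_eq_one_iff.mpr
      ((QuotientGroup.eq_one_iff g).mpr h))
    have hgr : g ^ r ∈ N := by
      rw [← QuotientGroup.eq_one_iff, QuotientGroup.mk_pow, ← hq, pow_orderOf_eq_one]
    obtain ⟨⟨s, hs⟩, hgs⟩ : ∃ s : π, g ∉ Nf s.1 s.2 := by
      by_contra! h
      exact hgN (Subgroup.mem_iInf.mpr h)
    have := hn s hs
    have hord : orderOf (g : G ⧸ Nf s hs) = r := orderOf_eq_prime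
      (by rw [← QuotientGroup.mk_pow, QuotientGroup.eq_one_iff]
          exact iInf_le (fun s : π => Nf s.1 s.2) ⟨s, hs⟩ hgr)
      (fun h => hgs ((QuotientGroup.eq_one_iff g).mp h))
    obtain ⟨j, hj⟩ := hidx s hs
    have : r ∣ s ^ j := hord ▸ hj ▸ orderOf_dvd_natCard (g : G ⧸ Nf s hs)
    rwa [(Nat.prime_dvd_prime_iff_eq hr (hπ s hs)).mp (hr.dvd_of_dvd_pow this)]
  refine ⟨⟨N, hNn, hNπ, hNi⟩, ?_⟩
  have hco : (Nat.card ↥N).Coprime N.index :=
    Nat.coprime_of_dvd fun r hr h1 h2 => hNπ r hr h1 (hNi r hr h2)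
  obtain ⟨H, hH⟩ := Subgroup.exists_right_complement'_of_coprime hco
  refine ⟨H, ⟨fun r hr hrd => hNi r hr (hH.symm.index_eq_card ▸ hrd),
    fun r hr hrπ hrd => hNπ r hr (hH.index_eq_card ▸ hrd) hrπ⟩, ⟨⟨fun x y => ?_⟩⟩⟩
  have hmem : (x : G) * y * (x : G)⁻¹ * (y : G)⁻¹ ∈ N ⊓ H :=
    Subgroup.mem_inf.mpr ⟨Subgroup.mem_iInf.mpr fun r => hcomm r.1 r.2 x y,
      H.mul_mem (H.mul_mem (H.mul_mem x.2 y.2) (H.inv_mem x.2)) (H.inv_mem y.2)⟩
  rw [hH.disjoint.eq_bot, Subgroup.mem_bot, mul_inv_eq_one, mul_inv_eq_iff_eq_mul] at hmem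
  exact Subtype.ext hmem

end Cfsg.Agent.S3899
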