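import Mathlib

/-!
The principal ideal theorem: the transfer from a finite group to the abelianisation of its
derived subgroup is trivial.  Determinant-trick proof on the splitting module.
-/

set_option linter.all false

namespace Cfsg.Agent.PrincipalIdeal

open scoped commutatorElement

variable (G : Type*) [Group G] [Finite G]

/-- The coefficient group `G'/G''`, written additively. -/
abbrev Ab := Additive (Abelianization ↥(commutator G))

variable {G}

/-- A normalised section of `G → G/G'`. -/
noncomputable def sec (q : Abelianization G) : G :=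
  letI := Classical.decEq (Abelianization G)
  if q = 1 then 1 else q.out

@[simp] theorem sec_one : sec (1 : Abelianization G) = 1 := by simp [sec]

@[simp] theorem of_sec (q : Abelianization G) : Abelianization.of (sec q) = q := by
  unfold sec
  split_ifs with h
  · rw [h, map_one]
  · exact QuotientGroup.out_eq' q

theorem mem_commutator_iff {g : G} : g ∈ commutator G ↔ Abelianization.of g = 1 := by
  rw [← MonoidHom.mem_ker, Abelianization.ker_of]

/-- The class of the `G'`-part of `g`. -/
noncomputable def al (g : G) : Ab G :=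
  Additive.ofMul (Abelianization.of
    ⟨g * (sec (Abelianization.of g))⁻¹, mem_commutator_iff.mpr (by simp)⟩)

theorem of_surjective (H : Type*) [Group H] :
    Function.Surjective (Abelianization.of : H → Abelianization H) :=
  QuotientGroup.mk'_surjective _

theorem ab_surjective (a : Ab G) :
    ∃ k : commutator G, a = Additive.ofMul (Abelianization.of k) := by
  obtain ⟨k, hk⟩ := of_surjective _ (Additive.toMul a)
  exact ⟨k, by rw [hk]; rfl⟩

/-- Conjugation action on `G'/G''`. -/
noncomputable def cA (g : G) : Ab G →+ Ab G :=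
  MonoidHom.toAdditive (Abelianization.map
    (MulAut.conjNormal (H := commutator G) g).toMonoidHom)

theorem cA_of (g : G) (k : commutator G) :
    cA g (Additive.ofMul (Abelianization.of k)) =
      Additive.ofMul (Abelianization.of (MulAut.conjNormal g k)) := rfl

theorem cA_mul (g h : G) (a : Ab G) : cA (g * h) a = cA g (cA h a) := by
  obtain ⟨k, rfl⟩ := ab_surjective a
  rw [cA_of, cA_of, cA_of, map_mul]; rfl

theorem cA_of_mem {g : G} (hg : g ∈ commutator G) (a : Ab G) : cA g a = a := by
  obtain ⟨k, rfl⟩ := ab_surjective a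
  rw [cA_of]
  congr 1
  rw [show MulAut.conjNormal g k = (⟨g, hg⟩ : commutator G) * k * (⟨g, hg⟩ : commutator G)⁻¹ from
    Subtype.ext (by simp), map_mul, map_mul, map_inv]
  exact mul_inv_cancel_comm (Abelianization.of (⟨g, hg⟩ : commutator G)) (Abelianization.of k)

/-- The action of `G/G'` on `G'/G''`. -/
noncomputable def act (x : Abelianization G) : Ab G →+ Ab G := cA (sec x)

theorem cA_eq_act (g : G) (a : Ab G) : cA g a = act (Abelianization.of g) a := by
  have hm : g * (sec (Abelianization.of g))⁻¹ ∈ commutator G := mem_commutator_iff.mpr (by simp)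
  conv_lhs => rw [show g = (g * (sec (Abelianization.of g))⁻¹) * sec (Abelianization.of g) by
    rw [inv_mul_cancel_right]]
  rw [cA_mul, cA_of_mem hm]; rfl

theorem act_one (a : Ab G) : act (1 : Abelianization G) a = a := by
  rw [act, sec_one]; exact cA_of_mem (one_mem _) a

theorem act_act (x y : Abelianization G) (a : Ab G) : act x (act y a) = act (x * y) a := by
  show cA (sec x) (cA (sec y) a) = _
  rw [← cA_mul, cA_eq_act, map_mul, of_sec, of_sec]

/-- The cocycle. -/
noncomputable def coc (x y : Abelianization G) : Ab G := al (sec x * sec y)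

theorem al_sec (q : Abelianization G) : al (sec q : G) = 0 := by
  unfold al
  simp only [of_sec, mul_inv_cancel]
  rw [show (⟨1, _⟩ : commutator G) = 1 from rfl, map_one]; rfl

theorem al_mul (g h : G) : al (g * h) =
    al g + act (Abelianization.of g) (al h) + coc (Abelianization.of g) (Abelianization.of h) := by
  unfold al act coc al
  rw [cA_of, ← ofMul_mul, ← ofMul_mul, ← map_mul, ← map_mul]
  refine congrArg Additive.ofMul (congrArg Abelianization.of (Subtype.ext ?_))
  simp [mul_assoc]

theorem coc_one_right (x : Abelianization G) : coc x 1 = 0 := by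
  rw [coc, sec_one, mul_one, al_sec]

theorem coc_one_left (x : Abelianization G) : coc 1 x = 0 := by
  rw [coc, sec_one, one_mul, al_sec]

theorem coc_assoc (x y z : Abelianization G) :
    coc x y + coc (x * y) z = act x (coc y z) + coc x (y * z) := by
  have h1 : al (sec x * sec y * sec z) = coc x y + coc (x * y) z := by
    rw [al_mul, map_mul, of_sec, of_sec, of_sec, al_sec, map_zero, add_zero]; rfl
  have h2 : al (sec x * (sec y * sec z)) = act x (coc y z) + coc x (y * z) := by
    rw [al_mul, map_mul, of_sec, of_sec, of_sec, al_sec, zero_add]; rfl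
  rw [← h1, ← h2, mul_assoc]

variable (G) in
/-- The ambient group of the splitting module. -/
abbrev Amb := Ab G × (Abelianization G → ℤ)

variable [Fintype (Abelianization G)]

variable (G) in
/-- The splitting module. -/
noncomputable def M : AddSubgroup (Amb G) where
  carrier := {w | ∑ q, w.2 q = 0}
  zero_mem' := by simp
  add_mem' := by intro a b ha hb; simp_all [Finset.sum_add_distrib]
  neg_mem' := by intro a ha; simp_all [Finset.sum_neg_distrib]

/-- The action on the ambient group. -/
noncomputable def rho (x : Abelianization G) : Amb G →+ Amb G where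
  toFun w := (act x w.1 + ∑ q, w.2 q • coc x q, fun q => w.2 (x⁻¹ * q))
  map_zero' := by simp; rfl
  map_add' a b := by
    ext1
    · simp only [Prod.fst_add, map_add, Prod.snd_add, Pi.add_apply, add_smul,
        Finset.sum_add_distrib]
      abel
    · rfl

theorem rho_mem (x : Abelianization G) {w : Amb G} (hw : w ∈ M G) : rho x w ∈ M G := by
  show ∑ q, w.2 (x⁻¹ * q) = 0
  exact (Equiv.sum_comp (Equiv.mulLeft x⁻¹) w.2).trans hw

theorem rho_rho (x y : Abelianization G) {w : Amb G} (hw : w ∈ M G) :
    rho x (rho y w) = rho (x * y) w := by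
  ext1
  · show act x (act y w.1 + ∑ q, w.2 q • coc y q) + ∑ q, w.2 (y⁻¹ * q) • coc x q
        = act (x * y) w.1 + ∑ q, w.2 q • coc (x * y) q
    rw [← Equiv.sum_comp (Equiv.mulLeft y) (fun q => w.2 (y⁻¹ * q) • coc x q)]
    simp only [Equiv.coe_mulLeft, inv_mul_cancel_left, map_add, map_sum, map_zsmul, act_act]
    rw [add_assoc, ← Finset.sum_add_distrib]
    have hw' : ∑ q, w.2 q = 0 := hw
    have : ∑ q, w.2 q • (act x (coc y q) + coc x (y * q))
        = ∑ q, w.2 q • coc x y + ∑ q, w.2 q • coc (x * y) q := by
      rw [← Finset.sum_add_distrib]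
      exact Finset.sum_congr rfl fun q _ => by rw [← smul_add, coc_assoc]
    simp only [smul_add] at this
    rw [this, ← Finset.sum_smul, hw', zero_smul, zero_add]
  · funext q
    show w.2 (y⁻¹ * (x⁻¹ * q)) = w.2 ((x * y)⁻¹ * q)
    rw [mul_inv_rev, mul_assoc]

theorem rho_one {w : Amb G} : rho 1 w = w := by
  ext1
  · show act 1 w.1 + ∑ q, w.2 q • coc 1 q = w.1
    simp [act_one, coc_one_left]
  · funext q; show w.2 (1⁻¹ * q) = _; simp

/-- The action as a monoid homomorphism into the endomorphisms of `M`. -/
noncomputable def rhoHom : Abelianization G →* AddMonoid.End (M G) where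
  toFun x :=
    { toFun := fun m => ⟨rho x m, rho_mem x m.2⟩
      map_zero' := Subtype.ext (map_zero (rho x))
      map_add' := fun a b => Subtype.ext (map_add (rho x) _ _) }
  map_one' := by ext1 m; exact Subtype.ext rho_one
  map_mul' x y := by ext1 m; exact Subtype.ext (rho_rho x y m.2).symm

variable (G) in
/-- The group ring of `G/G'`. -/
abbrev R := MonoidAlgebra ℤ (Abelianization G)

/-- The ring action on `M`. -/
noncomputable def phi : R G →+* AddMonoid.End (M G) :=
  MonoidAlgebra.liftNCRingHom (Int.castRingHom _) rhoHom fun x _ => Int.cast_commute x _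

noncomputable local instance instModuleM : Module (R G) (M G) :=
  Module.compHom (M G) (phi (G := G))

theorem single_smul (q : Abelianization G) (c : ℤ) (m : M G) :
    ((MonoidAlgebra.single q c • m : M G) : Amb G) = c • rho q m := by
  show ((phi (MonoidAlgebra.single q c) m : M G) : Amb G) = _
  rw [phi, MonoidAlgebra.liftNCRingHom_single]
  show (((c : AddMonoid.End (M G)) ((rhoHom q) m) : M G) : Amb G) = _
  rw [AddMonoid.End.intCast_apply, AddSubgroup.coe_zsmul]
  rfl

theorem smul_coe (u : R G) (m : M G) :
    ((u • m : M G) : Amb G) = ∑ q, u.coeff q • rho q m := by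
  conv_lhs => rw [← MonoidAlgebra.sum_coeff_single u, Finsupp.sum_fintype _ _ (fun i => by simp)]
  rw [Finset.sum_smul, AddSubmonoidClass.coe_finsetSum]
  exact Finset.sum_congr rfl fun q _ => single_smul q _ m

section Main

open Classical

/-- The vector `δ_q - δ_1`. -/
noncomputable def uvec (q : Abelianization G) : Abelianization G → ℤ :=
  Pi.single q 1 - Pi.single 1 1

/-- The derivation. -/
noncomputable def d (g : G) : M G :=
  ⟨(al g, uvec (Abelianization.of g)), by
    show ∑ q, uvec (Abelianization.of g) q = 0
    simp [uvec, Finset.sum_sub_distrib]⟩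

theorem sum_uvec_smul {N : Type*} [AddCommGroup N] (f : Abelianization G → N) (q : Abelianization G) :
    ∑ r, uvec q r • f r = f q - f 1 := by
  simp [uvec, sub_smul, Finset.sum_sub_distrib, Pi.single_apply, ite_smul]

theorem rho_d (x : Abelianization G) (g : G) :
    rho x (d g : Amb G) = (d (sec x * g) : Amb G) - (d (sec x) : Amb G) := by
  ext1
  · show act x (al g) + ∑ q, uvec (Abelianization.of g) q • coc x q = al (sec x * g) - al (sec x)
    rw [sum_uvec_smul, coc_one_right, sub_zero, al_sec, sub_zero, al_mul, of_sec, al_sec, zero_add]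
  · funext q
    show uvec (Abelianization.of g) (x⁻¹ * q) =
      uvec (Abelianization.of (sec x * g)) q - uvec (Abelianization.of (sec x)) q
    have e : ∀ r : Abelianization G, (Pi.single r (1 : ℤ) : Abelianization G → ℤ) (x⁻¹ * q)
        = (Pi.single (x * r) (1 : ℤ) : Abelianization G → ℤ) q := by
      intro r
      simp [Pi.single_apply, inv_mul_eq_iff_eq_mul]
    simp only [uvec, Pi.sub_apply, map_mul, of_sec, e, mul_one]
    ring

theorem d_mul (g h : G) : (d (g * h) : Amb G) = (d g : Amb G) + rho (Abelianization.of g) (d h) := by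
  ext1
  · show al (g * h) = al g + (act _ (al h) + ∑ q, uvec (Abelianization.of h) q • coc _ q)
    rw [sum_uvec_smul, coc_one_right, sub_zero, al_mul, add_assoc]
  · funext q
    show uvec (Abelianization.of (g * h)) q =
      uvec (Abelianization.of g) q + uvec (Abelianization.of h) ((Abelianization.of g)⁻¹ * q)
    have e : ∀ r : Abelianization G,
        (Pi.single r (1 : ℤ) : Abelianization G → ℤ) ((Abelianization.of g)⁻¹ * q)
        = (Pi.single (Abelianization.of g * r) (1 : ℤ) : Abelianization G → ℤ) q := by
      intro r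
      simp [Pi.single_apply, inv_mul_eq_iff_eq_mul]
    simp only [uvec, Pi.sub_apply, map_mul, e, mul_one]
    ring

theorem d_of_mem (k : commutator G) :
    (d (k : G) : Amb G) = (Additive.ofMul (Abelianization.of k), 0) := by
  have h1 : Abelianization.of (k : G) = 1 := mem_commutator_iff.mp k.2
  ext1
  · show al (k : G) = _
    unfold al
    refine congrArg Additive.ofMul (congrArg Abelianization.of (Subtype.ext ?_))
    simp [h1]
  · show uvec (Abelianization.of (k : G)) = 0
    simp [uvec, h1]

variable [Fintype G]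

/-- The elements `∑ aᵢ • d i` with all `aᵢ` in the augmentation ideal. -/
noncomputable def IM (ε : R G →+* ℤ) : AddSubgroup (M G) where
  carrier := {m | ∃ a : G → R G, (∀ i, ε (a i) = 0) ∧ m = ∑ i, a i • d i}
  zero_mem' := ⟨0, by simp, by simp⟩
  add_mem' := by
    rintro _ _ ⟨a, ha, rfl⟩ ⟨b, hb, rfl⟩
    exact ⟨a + b, fun i => by simp [ha i, hb i], by simp [add_smul, Finset.sum_add_distrib]⟩
  neg_mem' := by
    rintro _ ⟨a, ha, rfl⟩
    exact ⟨-a, fun i => by simp [ha i], by simp [neg_smul]⟩

theorem span_d (m : M G) : ∃ c : G → R G, m = ∑ i, c i • d i := by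
  let V : AddSubgroup (M G) :=
    { carrier := {m | ∃ c : G → R G, m = ∑ i, c i • d i}
      zero_mem' := ⟨0, by simp⟩
      add_mem' := by
        rintro _ _ ⟨a, rfl⟩ ⟨b, rfl⟩
        exact ⟨a + b, by simp [add_smul, Finset.sum_add_distrib]⟩
      neg_mem' := by
        rintro _ ⟨a, rfl⟩
        exact ⟨-a, by simp [neg_smul]⟩ }
  have hd : ∀ g, d g ∈ V := fun g => ⟨Pi.single g 1, by
    simp [Pi.single_apply, ite_smul]⟩
  obtain ⟨⟨a, v⟩, hv⟩ := m
  obtain ⟨k, hk⟩ := ab_surjective a
  have e : (⟨(a, v), hv⟩ : M G) = d (k : G) + ∑ q, v q • d (sec q) := by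
    apply Subtype.ext
    rw [AddSubgroup.coe_add, AddSubmonoidClass.coe_finsetSum, d_of_mem]
    have hk' : Additive.ofMul (Abelianization.of k) = a := hk.symm
    rw [hk']
    have hv' : ∑ q, v q = 0 := hv
    ext1
    · rw [Prod.fst_add, Prod.fst_sum]
      simp [d, al_sec]
    · funext r
      rw [Prod.snd_add, Prod.snd_sum, Pi.add_apply, Finset.sum_apply]
      simp [d, uvec, Pi.single_apply, mul_sub, Finset.sum_sub_distrib, ← Finset.sum_mul, hv']
  show _ ∈ V
  rw [e]
  exact V.add_mem (hd _) (V.sum_mem fun q _ => V.zsmul_mem (hd _) _)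

set_option maxHeartbeats 800000 in
theorem exists_annihilator :
    ∃ u : R G, (∀ m : M G, u • m = 0) ∧ ∀ q, u.coeff q = u.coeff 1 ∧ (u.coeff 1).natAbs = 1 := by
  let ε : R G →+* ℤ :=
    MonoidAlgebra.liftNCRingHom (RingHom.id ℤ) (1 : Abelianization G →* ℤ) fun x y => Commute.all _ _
  have hε : ∀ q c, ε (MonoidAlgebra.single q c) = c := by
    intro q c; simp [ε]
  -- `g ↦ d g` modulo `I M`
  let J := IM ε
  have hJmul : ∀ g h, d (g * h) - d g - d h ∈ J := by
    intro g h
    refine ⟨Pi.single h (MonoidAlgebra.single (Abelianization.of g) 1 - 1), fun i => ?_, ?_⟩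
    · rw [Pi.single_apply]
      split_ifs
      · rw [map_sub, hε, map_one, sub_self]
      · exact map_zero ε
    · apply Subtype.ext
      simp only [Pi.single_apply, ite_smul, zero_smul, Finset.sum_ite_eq', Finset.mem_univ,
        if_true, sub_smul, one_smul, AddSubgroup.coe_sub, single_smul, d_mul]
      abel
  let D : G →* Multiplicative (M G ⧸ J) :=
    MonoidHom.mk' (fun g => Multiplicative.ofAdd ((d g : M G) : M G ⧸ J)) fun g h => by
      rw [← ofAdd_add, ← QuotientAddGroup.mk_add]
      refine congrArg Multiplicative.ofAdd (QuotientAddGroup.eq_iff_sub_mem.mpr ?_)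
      rw [← sub_sub]; exact hJmul g h
  let π : (G → ℤ) →+ Additive (Abelianization G) :=
    { toFun := fun n => ∑ g, n g • Additive.ofMul (Abelianization.of g)
      map_zero' := by simp
      map_add' := fun a b => by simp [add_smul, Finset.sum_add_distrib] }
  have hπs : Function.Surjective π := fun y => by
    obtain ⟨g, hg⟩ := of_surjective G (Additive.toMul y)
    refine ⟨Pi.single g 1, ?_⟩
    show ∑ i, _ = _
    simp only [Pi.single_apply, ite_smul, zero_smul, Finset.sum_ite_eq', Finset.mem_univ, if_true,
      one_smul]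
    rw [hg]; rfl
  let K := π.ker
  have hKi : K.index = Nat.card (Abelianization G) := by
    rw [AddSubgroup.index_ker, AddMonoidHom.range_eq_top.mpr hπs, AddSubgroup.card_top]
    exact Nat.card_congr Additive.toMul
  have hrank : Module.finrank ℤ K.toIntSubmodule = Fintype.card G := by
    refine le_antisymm ((Submodule.finrank_le _).trans (by simp)) ?_
    let h := Nat.card (Abelianization G)
    have hmem : ∀ v : G → ℤ, (nsmulAddMonoidHom h : (G → ℤ) →+ (G → ℤ)) v ∈ K := fun v => by
      show π (h • v) = 0
      rw [map_nsmul]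
      exact (card_nsmul_eq_zero' : Nat.card (Additive (Abelianization G)) • π v = 0)
    let L : (G → ℤ) →ₗ[ℤ] K.toIntSubmodule :=
      (((nsmulAddMonoidHom h : (G → ℤ) →+ (G → ℤ))).codRestrict K hmem).toIntLinearMap
    have hL : Function.Injective L := by
      intro a b hab
      have h2 : h • a = h • b := congrArg (fun z : K.toIntSubmodule => (z : G → ℤ)) hab
      exact nsmul_right_injective Nat.card_pos.ne' h2
    simpa using LinearMap.finrank_le_finrank_of_injective hL
  let bK : Module.Basis G ℤ K.toIntSubmodule :=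
    (Module.finBasisOfFinrankEq ℤ _ hrank).reindex (Fintype.equivFin G).symm
  let n : G → G → ℤ := fun j i => ((bK j : K.toIntSubmodule) : G → ℤ) i
  have hrel : ∀ j, ∑ i, n j i • d i ∈ J := by
    intro j
    rw [← QuotientAddGroup.eq_zero_iff]
    let L : Additive (Abelianization G) →+ M G ⧸ J := MonoidHom.toAdditiveLeft (Abelianization.lift D)
    have h0 : π (fun i => n j i) = 0 := (bK j).2
    have h1 := congrArg L h0
    rw [map_zero] at h1
    rw [← h1]
    show (QuotientAddGroup.mk' J) _ = L (∑ g, _)
    rw [map_sum, map_sum]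
    refine Finset.sum_congr rfl fun g _ => ?_
    rw [map_zsmul, map_zsmul]
    rfl
  choose a ha hae using hrel
  let B : Matrix G G (R G) := Matrix.of fun j i => (n j i : R G) - a j i
  have hB : ∀ j, ∑ i, B j i • d i = 0 := by
    intro j
    simp only [B, Matrix.of_apply, sub_smul, Finset.sum_sub_distrib, Int.cast_smul_eq_zsmul,
      ← hae j, sub_self]
  have hdet : ∀ i : G, B.det • d i = 0 := by
    intro i
    have h1 : ∀ k, ∑ j, B.adjugate i j * B j k = if i = k then B.det else 0 := by
      intro k
      have := congrFun (congrFun (Matrix.adjugate_mul B) i) k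
      simpa [Matrix.mul_apply, Matrix.one_apply] using this
    have h2 : ∑ j, B.adjugate i j • ∑ k, B j k • d k = 0 :=
      Finset.sum_eq_zero fun j _ => by rw [hB, smul_zero]
    simp only [Finset.smul_sum, smul_smul] at h2
    rw [Finset.sum_comm] at h2
    simp only [← Finset.sum_smul, h1, ite_smul, zero_smul, Finset.sum_ite_eq, Finset.mem_univ,
      if_true] at h2
    exact h2
  have hann : ∀ m : M G, B.det • m = 0 := by
    intro m
    obtain ⟨c, rfl⟩ := span_d m
    rw [Finset.smul_sum]
    exact Finset.sum_eq_zero fun i _ => by rw [smul_comm, hdet, smul_zero]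
  refine ⟨B.det, hann, ?_⟩
  have hconst : ∀ q, B.det.coeff q = B.det.coeff 1 := by
    intro x
    have h := congrArg (fun m : M G => ((m : Amb G).2 1)) (hann (d (sec x⁻¹)))
    simp only [smul_coe, Prod.snd_sum, Finset.sum_apply, Prod.smul_snd, Pi.smul_apply,
      AddSubgroup.coe_zero, Prod.snd_zero, Pi.zero_apply, smul_eq_mul] at h
    have e : ∀ q : Abelianization G, (rho q (d (sec x⁻¹) : Amb G)).2 1
        = (if q = x then 1 else 0) - (if q = 1 then (1 : ℤ) else 0) := by
      intro q
      show uvec (Abelianization.of (sec x⁻¹)) (q⁻¹ * 1) = _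
      simp [uvec, Pi.single_apply, inv_eq_iff_eq_inv]
    simp only [e, mul_sub, mul_ite, mul_one, mul_zero, Finset.sum_sub_distrib, Finset.sum_ite_eq',
      Finset.mem_univ, if_true] at h
    exact sub_eq_zero.mp h
  intro q
  refine ⟨hconst q, ?_⟩
  -- augmentation of the determinant
  have h1 : (ε B.det).natAbs = Nat.card (Abelianization G) := by
    rw [RingHom.map_det, ← hKi, AddSubgroup.index_eq_natAbs_det (Pi.basisFun ℤ G) K bK,
      Module.Basis.det_apply, ← Matrix.det_transpose]
    congr 2
    ext i j
    simp [B, ha, n, Module.Basis.toMatrix_apply]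
    rfl
  have h2 : ε B.det = (Nat.card (Abelianization G) : ℤ) * B.det.coeff 1 := by
    conv_lhs => rw [← MonoidAlgebra.sum_coeff_single B.det,
      Finsupp.sum_fintype _ _ (fun i => by simp)]
    rw [map_sum]
    simp only [hε, hconst, Finset.sum_const, Finset.card_univ, Nat.card_eq_fintype_card,
      nsmul_eq_mul]
  rw [h2, Int.natAbs_mul, Int.natAbs_natCast] at h1
  exact Nat.eq_of_mul_eq_mul_left Nat.card_pos (h1.trans (mul_one _).symm)

theorem sum_al_eq_zero (g : G) : ∑ x : Abelianization G, al (sec x * g) = 0 := by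
  obtain ⟨u, hu, hq⟩ := exists_annihilator (G := G)
  have h := congrArg (fun m : M G => ((m : Amb G).1)) (hu (d g))
  simp only [smul_coe, Prod.fst_sum, AddSubgroup.coe_zero, Prod.fst_zero, (fun q => (hq q).1),
    Prod.smul_fst] at h
  have e : ∀ x, (rho x (d g : Amb G)).1 = al (sec x * g) := by
    intro x
    rw [rho_d, Prod.fst_sub]
    show al (sec x * g) - al (sec x) = _
    rw [al_sec, sub_zero]
  simp only [e, ← Finset.smul_sum] at h
  rcases Int.natAbs_eq_iff.mp (hq 1).2 with h1 | h1
  · rwa [h1, Nat.cast_one, one_smul] at h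
  · rwa [h1, Nat.cast_one, neg_smul, one_smul, neg_eq_zero] at h

end Main

theorem transfer_commutator_eq_one (G : Type*) [Group G] [Finite G] :
    MonoidHom.transfer (Abelianization.of : ↥(commutator G) →* Abelianization ↥(commutator G))
      = (1 : G →* Abelianization ↥(commutator G)) := by
  classical
  haveI := Fintype.ofFinite G
  letI : Fintype (G ⧸ commutator G) := (commutator G).fintypeQuotientOfFiniteIndex
  letI : Fintype (Abelianization G) := (commutator G).fintypeQuotientOfFiniteIndex
  refine MonoidHom.ext fun g => ?_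
  let φ : G ⧸ commutator G → Abelianization G := fun q => q
  let f : G ⧸ commutator G → G := fun q => (sec (φ q)⁻¹)⁻¹
  have hf : ∀ q, ((f q : G) : G ⧸ commutator G) = q := fun q => by
    show Abelianization.of ((sec (φ q)⁻¹)⁻¹) = φ q
    rw [map_inv, of_sec, inv_inv]
  let T : (commutator G).LeftTransversal := ⟨Set.range f, Subgroup.isComplement_range_left hf⟩
  rw [MonoidHom.transfer_def _ T]
  have hT : ∀ q, (T.2.leftQuotientEquiv q : G) = f q := fun q =>
    Subgroup.IsComplement.leftQuotientEquiv_apply hf q
  apply Additive.ofMul.injective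
  show Additive.ofMul _ = (0 : Ab G)
  let E : G ⧸ commutator G ≃ Abelianization G :=
    { toFun := fun q => (φ q)⁻¹
      invFun := fun x => (x⁻¹ : Abelianization G)
      left_inv := fun q => inv_inv (φ q)
      right_inv := fun x => inv_inv x }
  rw [← sum_al_eq_zero g, Subgroup.leftTransversals.diff, ofMul_prod,
    ← Equiv.sum_comp E (fun x => al (sec x * g))]
  refine Fintype.sum_congr _ _ fun q => ?_
  unfold al
  refine congrArg Additive.ofMul (congrArg Abelianization.of (Subtype.ext ?_))
  show ((T.2.leftQuotientEquiv q : G))⁻¹ * ((g • T).2.leftQuotientEquiv q : G) = _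
  rw [Subgroup.smul_apply_eq_smul_apply_inv_smul, hT, hT]
  have e : φ (g⁻¹ • q) = (Abelianization.of g)⁻¹ * φ q := by
    obtain ⟨r, hr⟩ := QuotientGroup.mk_surjective q
    subst hr
    show Abelianization.of (g⁻¹ * r) = (Abelianization.of g)⁻¹ * Abelianization.of r
    rw [map_mul, map_inv]
  show ((sec (φ q)⁻¹)⁻¹)⁻¹ * (g * (sec (φ (g⁻¹ • q))⁻¹)⁻¹) =
    sec (φ q)⁻¹ * g * (sec (Abelianization.of (sec (φ q)⁻¹ * g)))⁻¹
  rw [e, map_mul, of_sec, inv_inv, mul_inv_rev, inv_inv, mul_assoc]

end Cfsg.Agent.PrincipalIdeal
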