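import Cfsg.Statements.S1250

set_option autoImplicit false
open Cfsg
open scoped Pointwise

namespace Cfsg.Agent.S1250

/-- Let S be a Sylow p-subgroup of the finite group G, A ≤ S strongly closed in S, and N a normal subgroup. Then the image of A in G ⧸ N is strongly closed in the image of S (which is a Sylow p-subgroup of G ⧸ N). -/
theorem result {G : Type*} [Group G] [Finite G] {p : ℕ} [Fact p.Prime] (S : Sylow p G) (A : Subgroup G) (hA : Cfsg.IsStronglyClosed A (S : Subgroup G)) (N : Subgroup G) [N.Normal] : Cfsg.IsStronglyClosed (A.map (QuotientGroup.mk' N)) ((S : Subgroup G).map (QuotientGroup.mk' N)) := by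
  refine ⟨Subgroup.map_mono hA.1, ?_⟩
  rintro _ ⟨x, hx, rfl⟩ g hg
  obtain ⟨g, rfl⟩ := QuotientGroup.mk'_surjective N g
  rw [← map_inv, ← map_mul, ← map_mul] at hg ⊢
  set M := (S : Subgroup G) ⊔ N
  have hyM : g * x * g⁻¹ ∈ M := by
    obtain ⟨s, hs, hse⟩ := hg
    have h1 : s⁻¹ * (g * x * g⁻¹) ∈ N := QuotientGroup.eq.mp hse
    have := M.mul_mem (Subgroup.mem_sup_left hs) (Subgroup.mem_sup_right h1)
    simpa using this
  -- the `p`-element `g x g⁻¹` of `M` is conjugate in `M` into the Sylow subgroup `S`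
  obtain ⟨j, hj⟩ := S.2 ⟨x, hA.1 hx⟩
  have hp : IsPGroup p (Subgroup.zpowers (⟨g * x * g⁻¹, hyM⟩ : M)) := by
    refine IsPGroup.of_card (n := (orderOf (⟨g * x * g⁻¹, hyM⟩ : M)).factorization p) ?_
    rw [Nat.card_zpowers]
    have hd : orderOf (⟨g * x * g⁻¹, hyM⟩ : M) ∣ p ^ j :=
      orderOf_dvd_of_pow_eq_one (Subtype.ext (by
        have : x ^ p ^ j = 1 := by simpa using congrArg Subtype.val hj
        simp [conj_pow, this]))
    obtain ⟨i, _, hi⟩ := (Nat.dvd_prime_pow Fact.out).mp hd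
    rw [hi, Nat.factorization_pow, (Fact.out : p.Prime).factorization]
    simp
  obtain ⟨P, hP⟩ := hp.exists_le_sylow
  obtain ⟨m, hm⟩ := MulAction.exists_smul_eq M (S.subtype le_sup_left) P
  have h1 : (⟨g * x * g⁻¹, hyM⟩ : M) ∈ (P : Subgroup M) := hP (Subgroup.mem_zpowers _)
  rw [← hm] at h1
  change _ ∈ ((MulAut.conj m • S.subtype le_sup_left : Sylow p M) : Subgroup M) at h1
  rw [Sylow.pointwise_smul_def] at h1
  obtain ⟨s, hs, hse⟩ := h1
  have hse' : (m : G) * s * (m : G)⁻¹ = g * x * g⁻¹ := congrArg Subtype.val hse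
  obtain ⟨s₁, hs₁, n, hn, hmn⟩ : ∃ s₁ ∈ (S : Subgroup G), ∃ n ∈ N, n * s₁ = (m : G) := by
    have h : (m : G) ∈ N ⊔ (S : Subgroup G) := sup_comm (S : Subgroup G) N ▸ (m.2 : (m : G) ∈ M)
    obtain ⟨n, hn, s₁, hs₁, h⟩ := Subgroup.mem_sup_of_normal_left.mp h
    exact ⟨s₁, hs₁, n, hn, h⟩
  have hsS : (s : G) ∈ (S : Subgroup G) := hs
  have h2 : (n⁻¹ * g) * x * (n⁻¹ * g)⁻¹ ∈ (S : Subgroup G) := by
    rw [show (n⁻¹ * g) * x * (n⁻¹ * g)⁻¹ = n⁻¹ * (g * x * g⁻¹) * n by simp [mul_assoc], ← hse', ← hmn]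
    rw [show n⁻¹ * (n * s₁ * s * (n * s₁)⁻¹) * n = s₁ * s * s₁⁻¹ by simp [mul_assoc]]
    exact mul_mem (mul_mem hs₁ hsS) (inv_mem hs₁)
  refine ⟨_, hA.2 x hx _ h2, ?_⟩
  have : QuotientGroup.mk' N n = 1 := (QuotientGroup.eq_one_iff n).mpr hn
  simp [map_mul, map_inv, this]

end Cfsg.Agent.S1250
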