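import Cfsg.Statements.S2898
import Cfsg.Agent.Core.PCore
import Cfsg.Agent.Fusion.PGroup


set_option autoImplicit false
open Cfsg

set_option linter.all false

namespace Cfsg.Agent.S2898

variable {G : Type*} [Group G]

theorem inv_of_fixedPointFree {W : Subgroup G} [Finite W] {z : G} (hz : z * z = 1)
    (hn : ∀ w ∈ W, z * w * z⁻¹ ∈ W) (hfpf : ∀ w ∈ W, Commute z w → w = 1) :
    ∀ w ∈ W, z * w * z⁻¹ = w⁻¹ := by
  have hzi : z⁻¹ = z := inv_eq_of_mul_eq_one_right hz
  let f : W → W := fun w => ⟨(w : G)⁻¹ * (z * w * z⁻¹), mul_mem (inv_mem w.2) (hn w w.2)⟩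
  have hinj : Function.Injective f := by
    intro v w h
    have h' : (v : G)⁻¹ * (z * v * z⁻¹) = (w : G)⁻¹ * (z * w * z⁻¹) := congrArg Subtype.val h
    apply Subtype.ext
    refine mul_inv_eq_one.1 (hfpf _ (mul_mem v.2 (inv_mem w.2)) (mul_inv_eq_iff_eq_mul.1 ?_))
    calc z * ((v : G) * (w : G)⁻¹) * z⁻¹
        = (v : G) * ((v : G)⁻¹ * (z * v * z⁻¹)) * (z * w * z⁻¹)⁻¹ := by simp [mul_assoc]
      _ = _ := by rw [h']; simp [mul_assoc]
  intro u hu
  obtain ⟨w, hw⟩ := (Finite.injective_iff_surjective.1 hinj) ⟨u, hu⟩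
  have hw' : (w : G)⁻¹ * (z * w * z⁻¹) = u := congrArg Subtype.val hw
  subst hw'
  calc z * ((w : G)⁻¹ * (z * w * z⁻¹)) * z⁻¹
      = (z * (w : G)⁻¹ * z⁻¹) * ((z * z) * w * (z⁻¹ * z⁻¹)) := by simp [mul_assoc]
    _ = (z * (w : G)⁻¹ * z⁻¹) * w := by rw [hzi, hz, one_mul, mul_one]
    _ = _ := by simp [mul_assoc]

/-- A nontrivial normal subgroup of a 2-group contains a central involution. -/
theorem exists_central_of_normal {S : Type*} [Group S] [Finite S] (hS : IsPGroup 2 S)
    (D : Subgroup S) [D.Normal] [Nontrivial D] :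
    ∃ w : S, w ∈ D ∧ orderOf w = 2 ∧ w ∈ Subgroup.center S := by
  haveI : Fact (Nat.Prime 2) := ⟨Nat.prime_two⟩
  have hpos : D ⊓ Subgroup.center S ≠ ⊥ :=
    Fusion.pGroup_inf_center_ne_bot hS D ((Subgroup.nontrivial_iff_ne_bot D).mp inferInstance)
  haveI : Nontrivial (D ⊓ Subgroup.center S : Subgroup S) := (Subgroup.nontrivial_iff_ne_bot _).mpr hpos
  obtain ⟨m, hm0, hm⟩ := (hS.to_subgroup (D ⊓ Subgroup.center S)).nontrivial_iff_card.mp inferInstance
  obtain ⟨w, hw⟩ := exists_prime_orderOf_dvd_card' 2 (hm ▸ dvd_pow_self 2 hm0.ne')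
  exact ⟨w, w.2.1, by rw [Subgroup.orderOf_coe, hw], w.2.2⟩

/-- Let G be a finite group of even order with parabolic characteristic 2. If the centre of G ⧸ O(G) is trivial, then O(G) = 1. -/
theorem result {G : Type*} [Group G] [Finite G] (h2 : 2 ∣ Nat.card G) (hG : Cfsg.IsOfParabolicCharacteristic 2 G) [hN : (Cfsg.oddCore G).Normal] (hZ : Subgroup.center (G ⧸ Cfsg.oddCore G) = ⊥) : Cfsg.oddCore G = ⊥ := by
  classical
  set O : Subgroup G := Cfsg.oddCore G with hO
  by_contra hne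
  have hcopO : (Nat.card O).Coprime 2 := Core.coprime_card_pPrimeCore (G := G) (p := 2)
  obtain ⟨S⟩ : Nonempty (Sylow 2 G) := inferInstance
  -- central involutions of `S` invert `O`
  have hinv : ∀ z : G, orderOf z = 2 → (∀ s ∈ (S : Subgroup G), s * z = z * s) →
      ∀ o ∈ O, z * o * z⁻¹ = o⁻¹ := by
    intro z hz hzS
    set R : Subgroup G := Subgroup.zpowers z with hR
    set N : Subgroup G := Subgroup.normalizer (R : Set G) with hNdef
    have hRp : IsPGroup 2 R := IsPGroup.of_card (n := 1) (by rw [hR, Nat.card_zpowers, hz, pow_one])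
    have hR0 : R ≠ ⊥ := by
      rw [hR, Ne, Subgroup.zpowers_eq_bot]
      intro e
      rw [e, orderOf_one] at hz
      exact absurd hz (by norm_num)
    have hSN : (S : Subgroup G) ≤ N := by
      refine le_trans (fun s hs => ?_) (Subgroup.centralizer_le_normalizer _)
      rw [hR, Subgroup.zpowers_eq_closure, Subgroup.centralizer_closure, Subgroup.mem_centralizer_iff]
      rintro _ rfl
      exact (hzS s hs).symm
    have hchar := hG R hRp hR0 ⟨S, hSN⟩
    refine inv_of_fixedPointFree ?_ (fun o ho => hN.conj_mem o ho z) ?_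
    · rw [← pow_two, ← hz, pow_orderOf_eq_one]
    intro o ho hzo
    have hoN : o ∈ N := by
      refine Subgroup.centralizer_le_normalizer _ ?_
      rw [hR, Subgroup.zpowers_eq_closure, Subgroup.centralizer_closure, Subgroup.mem_centralizer_iff]
      rintro _ rfl
      exact hzo.eq
    have hON : (O.subgroupOf N).Normal := hN.comap N.subtype
    have hcop : (Nat.card (O.subgroupOf N)).Coprime 2 :=
      hcopO.coprime_dvd_left (Subgroup.card_comap_dvd_of_injective O N.subtype N.subtype_injective)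
    have hle : O.subgroupOf N ≤ Cfsg.pPrimeCore 2 N := Core.le_pPrimeCore hcop
    have hmem : (⟨o, hoN⟩ : N) ∈ Cfsg.pPrimeCore 2 N := hle ho
    have h1 : (⟨o, hoN⟩ : N) ∈ Cfsg.pCore 2 N := hchar (by
      rw [Subgroup.mem_centralizer_iff]
      intro q hq
      exact Subgroup.mem_centralizer_iff.mp (Core.pCore_le_centralizer_pPrimeCore hq) _ hmem |>.symm)
    have h3 : (⟨o, hoN⟩ : N) ∈ Cfsg.pCore 2 N ⊓ Cfsg.pPrimeCore 2 N := ⟨h1, hmem⟩
    rw [Subgroup.inf_eq_bot_of_coprime (Core.coprime_card_pCore_pPrimeCore)] at h3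
    exact congrArg Subtype.val (Subgroup.mem_bot.mp h3)
  have hodd1 : ∀ o ∈ O, o = o⁻¹ → o = 1 := by
    intro o ho he
    have h1 : o ^ 2 = 1 := by rw [pow_two]; nth_rewrite 1 [he]; exact inv_mul_cancel o
    have h2 : o ^ Nat.card O = 1 := orderOf_dvd_iff_pow_eq_one.mp (O.orderOf_dvd_natCard ho)
    have := pow_gcd_eq_one.mpr ⟨h2, h1⟩
    rwa [hcopO.gcd_eq_one, pow_one] at this
  set C : Subgroup G := Subgroup.centralizer (O : Set G) with hC
  -- `C` has odd order
  have hCodd : (Nat.card C).Coprime 2 := by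
    rw [Nat.coprime_comm, Nat.prime_two.coprime_iff_not_dvd]
    intro hdvd
    obtain ⟨c, hc⟩ := exists_prime_orderOf_dvd_card' 2 hdvd
    obtain ⟨T, hT⟩ := (IsPGroup.of_card (n := 1) (by rw [Nat.card_zpowers, Subgroup.orderOf_coe, hc, pow_one]) :
      IsPGroup 2 (Subgroup.zpowers (c : G))).exists_le_sylow
    obtain ⟨g, hg⟩ := MulAction.exists_smul_eq G T S
    have hcS : g * c * g⁻¹ ∈ (S : Subgroup G) := by
      rw [← hg]
      exact ⟨c, hT (Subgroup.mem_zpowers (c : G)), by simp⟩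
    have hCn : C.Normal := inferInstance
    -- a central element of order two of `S` in `C`
    set D : Subgroup (S : Subgroup G) := C.subgroupOf S with hD
    have hDn : D.Normal := hCn.comap _
    have hD0 : D ≠ ⊥ := by
      intro e
      have h4 : (⟨g * c * g⁻¹, hcS⟩ : (S : Subgroup G)) ∈ D := hCn.conj_mem c c.2 g
      rw [e, Subgroup.mem_bot] at h4
      have h5 : g * (c : G) * g⁻¹ = 1 := congrArg Subtype.val h4
      rw [mul_inv_eq_one, mul_eq_left] at h5
      have h6 : orderOf (c : G) = 2 := by rw [Subgroup.orderOf_coe, hc]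
      rw [h5, orderOf_one] at h6
      exact absurd h6 (by norm_num)
    haveI : Nontrivial D := (Subgroup.nontrivial_iff_ne_bot D).mpr hD0
    have hmeet := exists_central_of_normal S.isPGroup' D
    obtain ⟨w, hwD, hwo, hwc⟩ := hmeet
    have hwO := hinv (w : G) (by rw [Subgroup.orderOf_coe, hwo]) (fun s hs =>
      congrArg Subtype.val (Subgroup.mem_center_iff.mp hwc ⟨s, hs⟩))
    obtain ⟨o, ho, ho1⟩ := (Subgroup.bot_or_exists_ne_one O).resolve_left hne
    have h7 := hwO o ho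
    have h8 : o * (w : G) = (w : G) * o := Subgroup.mem_centralizer_iff.mp hwD o ho
    rw [← h8, mul_inv_cancel_right] at h7
    exact ho1 (hodd1 o ho h7)
  have hCn : C.Normal := inferInstance
  have hCO : C ≤ O := Core.le_pPrimeCore hCodd
  -- a central involution of `S` is central modulo `O`
  haveI : Nontrivial (S : Subgroup G) := (Subgroup.nontrivial_iff_ne_bot _).mpr (S.ne_bot_of_dvd_card h2)
  haveI : Nontrivial (⊤ : Subgroup (S : Subgroup G)) := (Subgroup.nontrivial_iff_ne_bot _).mpr top_ne_bot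
  obtain ⟨z', -, hzo, hzc⟩ := exists_central_of_normal S.isPGroup' (⊤ : Subgroup (S : Subgroup G))
  set z : G := (z' : G) with hz
  have hzi := hinv z (by rw [hz, Subgroup.orderOf_coe, hzo]) (fun s hs =>
    congrArg Subtype.val (Subgroup.mem_center_iff.mp hzc ⟨s, hs⟩))
  have hzcen : (QuotientGroup.mk z : G ⧸ O) ∈ Subgroup.center (G ⧸ O) := by
    rw [Subgroup.mem_center_iff]
    intro gb
    obtain ⟨g, rfl⟩ := QuotientGroup.mk_surjective gb
    rw [← QuotientGroup.mk_mul, ← QuotientGroup.mk_mul, QuotientGroup.eq]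
    apply hCO
    rw [hC, Subgroup.mem_centralizer_iff]
    intro o ho
    set o1 := g * (z * o * z⁻¹) * g⁻¹ with ho1
    have e1 : o1 = (g * o * g⁻¹)⁻¹ := by rw [ho1, hzi o ho]; group
    have e2 : z * (g * o * g⁻¹) * z⁻¹ = (g * o * g⁻¹)⁻¹ := hzi _ (hN.conj_mem o ho g)
    have e3 : (g * z) * o * (g * z)⁻¹ = (z * g) * o * (z * g)⁻¹ := by
      calc (g * z) * o * (g * z)⁻¹ = o1 := by rw [ho1]; group
        _ = z * (g * o * g⁻¹) * z⁻¹ := by rw [e1, e2]
        _ = _ := by group
    calc o * ((g * z)⁻¹ * (z * g)) = (g * z)⁻¹ * ((g * z) * o * (g * z)⁻¹) * (z * g) := by group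
      _ = (g * z)⁻¹ * ((z * g) * o * (z * g)⁻¹) * (z * g) := by rw [e3]
      _ = (g * z)⁻¹ * (z * g) * o := by group
  rw [hZ, Subgroup.mem_bot, QuotientGroup.eq_one_iff] at hzcen
  obtain ⟨o, ho, ho1⟩ := (Subgroup.bot_or_exists_ne_one O).resolve_left hne
  have hz2 : orderOf z = 2 := by rw [hz, Subgroup.orderOf_coe, hzo]
  have hd := O.orderOf_dvd_natCard hzcen
  rw [hz2] at hd
  exact absurd (Nat.eq_one_of_dvd_coprimes hcopO hd dvd_rfl) (by norm_num)

end Cfsg.Agent.S2898
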