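import Cfsg.Statements.S1329
import Cfsg.Agent.FourFixed.Core
import Cfsg.Agent.Char.Glauberman.Bridge
import Cfsg.Agent.Coprime.Basic
import Cfsg.Agent.Invol.UniqueInvolution

set_option autoImplicit false
open Cfsg

namespace Cfsg.Agent.S1329

open scoped commutatorElement

variable {G : Type*} [Group G]

/-- The right hand side of the statement. -/
def gen (A B Y : Subgroup G) : Subgroup G :=
  ⨆ B₀ : {B₀ : Subgroup G // B₀ ≤ B ∧ ∀ [(B₀.subgroupOf B).Normal], IsCyclic (↥B ⧸ B₀.subgroupOf B)},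
    Y ⊓ Subgroup.centralizer (B : Set G) ⊓
      ⁅Y ⊓ Subgroup.centralizer ((B₀ : Subgroup G) : Set G), A⁆

theorem gen_mono {A B X Y : Subgroup G} (h : X ≤ Y) : gen A B X ≤ gen A B Y :=
  iSup_mono fun _ => inf_le_inf (inf_le_inf_right _ h)
    (Subgroup.commutator_mono (inf_le_inf_right _ h) le_rfl)

theorem le_gen {A B Y B₀ : Subgroup G} (hle : B₀ ≤ B)
    (hcyc : ∀ [(B₀.subgroupOf B).Normal], IsCyclic (↥B ⧸ B₀.subgroupOf B)) :
    Y ⊓ Subgroup.centralizer (B : Set G) ⊓ ⁅Y ⊓ Subgroup.centralizer (B₀ : Set G), A⁆ ≤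
      gen A B Y :=
  le_iSup (fun B₀ : {B₀ : Subgroup G // B₀ ≤ B ∧
    ∀ [(B₀.subgroupOf B).Normal], IsCyclic (↥B ⧸ B₀.subgroupOf B)} =>
      Y ⊓ Subgroup.centralizer (B : Set G) ⊓
        ⁅Y ⊓ Subgroup.centralizer ((B₀ : Subgroup G) : Set G), A⁆) ⟨B₀, hle, hcyc⟩

/-- `A` normalises `Y ∩ C(S)` for a set `S` it centralises. -/
theorem normalizes_inf {A Y : Subgroup G} (hAY : A ≤ Subgroup.normalizer (Y : Set G)) {S : Set G}
    (hAS : ∀ a ∈ A, ∀ s ∈ S, s * a = a * s) :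
    A ≤ Subgroup.normalizer ((Y ⊓ Subgroup.centralizer S : Subgroup G) : Set G) := by
  intro a ha
  have key : ∀ b ∈ A, ∀ x ∈ Y ⊓ Subgroup.centralizer S,
      b * x * b⁻¹ ∈ Y ⊓ Subgroup.centralizer S := by
    rintro b hb x ⟨hxY, hxS⟩
    refine ⟨(Subgroup.mem_normalizer_iff.1 (hAY hb) x).1 hxY, fun s hs => ?_⟩
    have h1 : s * b = b * s := hAS b hb s hs
    have h2 : s * b⁻¹ = b⁻¹ * s := hAS _ (inv_mem hb) s hs
    have h3 : s * x = x * s := hxS s hs
    rw [← mul_assoc, ← mul_assoc, h1, mul_assoc b, h3, ← mul_assoc, mul_assoc (b * x), h2,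
      ← mul_assoc]
  refine Subgroup.mem_normalizer_iff.2 fun x => ⟨key a ha x, fun h => ?_⟩
  have := key a⁻¹ (inv_mem ha) _ h
  simpa [mul_assoc] using this

open Cfsg.Agent.Char.Glauberman in
theorem fixed_le_gen [Finite G] {A B Y : Subgroup G} (hA2 : IsPGroup 2 A)
    (hAc : IsMulCommutative A) (hB : B ≤ A) (hYodd : Odd (Nat.card Y))
    (hAY : A ≤ Subgroup.normalizer (Y : Set G)) (hYA : ⁅Y, A⁆ = Y) (t₁ t₂ : G)
    (ht₁ : t₁ ∈ B) (ht₂ : t₂ ∈ B) (hs₁ : t₁ * t₁ ∈ Subgroup.centralizer (Y : Set G))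
    (hs₂ : t₂ * t₂ ∈ Subgroup.centralizer (Y : Set G))
    (hIH : ∀ t ∈ ({t₁, t₂, t₁ * t₂} : Set G),
      ⁅Y ⊓ Subgroup.centralizer {t}, A⁆ ⊓ Subgroup.centralizer (B : Set G) ≤ gen A B Y) :
    Y ⊓ Subgroup.centralizer (A : Set G) ≤ gen A B Y := by
  classical
  have hnorm : ∀ s ∈ A, ∀ g ∈ Y, s * g * s⁻¹ ∈ Y := fun s hs g hg =>
    (Subgroup.mem_normalizer_iff.1 (hAY hs) g).1 hg
  set a := conjOp hnorm with ha
  have := Fintype.ofFinite Y
  have := Fintype.ofFinite (Fixed a)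
  let τ₁ : A := ⟨t₁, hB ht₁⟩
  let τ₂ : A := ⟨t₂, hB ht₂⟩
  have hcomm : ∀ s t : A, s * t = t * s := fun s t => hAc.is_comm.comm s t
  have hinvol : ∀ t : A, (t : G) * t ∈ Subgroup.centralizer (Y : Set G) →
      ∀ y, a t (a t y) = y := by
    intro t ht y
    apply Subtype.ext
    have h := Subgroup.mem_centralizer_iff.1 ht y y.2
    rw [conjOp_apply, conjOp_apply]
    calc (t : G) * (t * y * (t : G)⁻¹) * (t : G)⁻¹ = ((t : G) * t) * y * ((t : G) * t)⁻¹ := by
          group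
      _ = y := by rw [← h, mul_inv_cancel_right]
  have hgen : Coprime.actCommutator a = ⊤ := by
    have hle : ⁅Y, A⁆ ≤ (Coprime.actCommutator a).map Y.subtype := by
      rw [Subgroup.commutator_le]
      intro y hy s hs
      refine ⟨(⟨y⁻¹, inv_mem hy⟩ : Y)⁻¹ * a ⟨s, hs⟩ ⟨y⁻¹, inv_mem hy⟩,
        Subgroup.subset_closure ⟨⟨s, hs⟩, ⟨y⁻¹, inv_mem hy⟩, rfl⟩, ?_⟩
      show y⁻¹⁻¹ * (s * y⁻¹ * s⁻¹) = _
      rw [commutatorElement_def]
      group
    rw [hYA] at hle
    refine eq_top_iff.2 fun y _ => ?_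
    obtain ⟨y', hy', he⟩ := hle y.2
    rwa [← Subtype.ext he]
  let S : Set (Fixed a) := {c | ∃ t ∈ ({t₁, t₂, t₁ * t₂} : Set G),
    ((c : Y) : G) ∈ ⁅Y ⊓ Subgroup.centralizer {t}, A⁆}
  let M : Subgroup (Fixed a) := Subgroup.normalClosure S
  have hfixC : ∀ c : Fixed a, ((c : Y) : G) ∈ Subgroup.centralizer (A : Set G) := fun c =>
    Subgroup.mem_subgroupOf.1 ((fixed_eq hnorm).le c.2)
  have hM : ∀ c ∈ M, ((c : Y) : G) ∈ gen A B Y := by
    intro c hc
    have hle : M ≤ (gen A B Y).comap (Y.subtype.comp (Fixed a).subtype) := by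
      show Subgroup.normalClosure S ≤ _
      rw [Subgroup.normalClosure, Subgroup.closure_le]
      intro x hx
      obtain ⟨c₀, ⟨t, ht, hc₀⟩, hconj⟩ := Group.mem_conjugatesOfSet_iff.1 hx
      obtain ⟨d, rfl⟩ := isConj_iff.1 hconj
      have htB : t ∈ B := by
        rcases ht with rfl | rfl | rfl
        exacts [ht₁, ht₂, mul_mem ht₁ ht₂]
      have hd : ((d : Y) : G) ∈ Y ⊓ Subgroup.centralizer {t} :=
        ⟨(d : Y).2, fun s hs => by
          rw [Set.mem_singleton_iff] at hs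
          subst hs
          exact hfixC d s (hB htB)⟩
      refine hIH t ht ⟨?_, Subgroup.centralizer_le (SetLike.coe_subset_coe.2 hB) (hfixC (d * c₀ * d⁻¹))⟩
      exact (Subgroup.mem_normalizer_iff.1
        (Subgroup.normalizer_commutator_ge_left _ A hd) _).1 hc₀
    exact hle hc
  intro g hg
  have hgA : (⟨g, hg.1⟩ : Y) ∈ Fixed a := (fixed_eq hnorm).ge (Subgroup.mem_subgroupOf.2 hg.2)
  refine hM ⟨⟨g, hg.1⟩, hgA⟩ ?_
  by_contra hgM
  have : M.Normal := Subgroup.normalClosure_normal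
  obtain ⟨χ, hχ⟩ := Char.exists_irr_ne_at_one
    (g := (QuotientGroup.mk ⟨⟨g, hg.1⟩, hgA⟩ : Fixed a ⧸ M))
    (fun h => hgM ((QuotientGroup.eq_one_iff _).1 h))
  let μ : IrrCharacter (Fixed a) := ⟨fun c => (χ : Fixed a ⧸ M → ℂ) (QuotientGroup.mk' M c),
    Char.isIrrCharacter_comp (QuotientGroup.mk' M) (QuotientGroup.mk'_surjective M) χ.2⟩
  have hone := FourFixed.eq_one hYodd hA2 hcomm hgen τ₁ τ₂ (hinvol τ₁ hs₁) (hinvol τ₂ hs₂) μ
    (fun t ht c hc hcm => by
      have htG : (t : G) ∈ ({t₁, t₂, t₁ * t₂} : Set G) := by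
        rcases ht with rfl | rfl | rfl <;> simp [τ₁, τ₂]
      have hle : Coprime.actCommutator (FourFixed.actFix hcomm a t) ≤
          (⁅Y ⊓ Subgroup.centralizer {(t : G)}, A⁆ : Subgroup G).comap
            (Y.subtype.comp (FourFixed.fix (a t)).subtype) := by
        rw [Coprime.actCommutator, Subgroup.closure_le]
        rintro _ ⟨s, y, rfl⟩
        have hy : ((y : Y) : G) ∈ Y ⊓ Subgroup.centralizer {(t : G)} :=
          ⟨(y : Y).2, fun r hr => by
            rw [Set.mem_singleton_iff] at hr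
            subst hr
            exact mul_inv_eq_iff_eq_mul.1 (congrArg Subtype.val (FourFixed.mem_fix.1 y.2))⟩
        have h := Subgroup.commutator_mem_commutator (inv_mem hy) s.2
        refine Subgroup.mem_comap.2 ?_
        show ((y : Y) : G)⁻¹ * ((s : G) * ((y : Y) : G) * (s : G)⁻¹) ∈ _
        rw [commutatorElement_def, inv_inv] at h
        simpa [mul_assoc] using h
      have hcM : c ∈ M := Subgroup.subset_normalClosure ⟨(t : G), htG, hle hcm⟩
      show (χ : Fixed a ⧸ M → ℂ) (QuotientGroup.mk' M c) =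
        (χ : Fixed a ⧸ M → ℂ) (QuotientGroup.mk' M 1)
      rw [map_one (QuotientGroup.mk' M),
        show QuotientGroup.mk' M c = 1 from (QuotientGroup.eq_one_iff _).2 hcM])
  exact hχ ((hone ⟨⟨g, hg.1⟩, hgA⟩).trans ((hone 1).symm.trans
    (congrArg (χ : Fixed a ⧸ M → ℂ) (map_one (QuotientGroup.mk' M)))))

theorem le_gen_self [Finite G] {A B : Subgroup G} (hA2 : IsPGroup 2 A)
    (hAc : IsMulCommutative A) (hB : B ≤ A) : ∀ (k : ℕ) (Y : Subgroup G),
    Odd (Nat.card Y) → A ≤ Subgroup.normalizer (Y : Set G) → ⁅Y, A⁆ = Y →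
    Nat.card B - Nat.card (B ⊓ Subgroup.centralizer (Y : Set G) : Subgroup G) ≤ k →
    Y ⊓ Subgroup.centralizer (B : Set G) ≤ gen A B Y := by
  intro k
  induction k using Nat.strong_induction_on with
  | _ k ih =>
  intro Y hYodd hAY hYA hk
  have hcommA : ∀ x ∈ A, ∀ y ∈ A, x * y = y * x := fun x hx y hy =>
    congrArg Subtype.val (hAc.is_comm.comm (⟨x, hx⟩ : A) ⟨y, hy⟩)
  set B₁ := B ⊓ Subgroup.centralizer (Y : Set G) with hB₁
  have : IsMulCommutative B := ⟨⟨fun x y => Subtype.ext (hcommA x (hB x.2) y (hB y.2))⟩⟩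
  have hnB : (B₁.subgroupOf B).Normal := ⟨fun n hn g => by
    rwa [(IsMulCommutative.is_comm.comm g n : g * n = n * g), mul_inv_cancel_right]⟩
  by_cases hcyc : IsCyclic (↥B ⧸ B₁.subgroupOf B)
  · have hY : Y ⊓ Subgroup.centralizer (B₁ : Set G) = Y :=
      inf_eq_left.2 (Subgroup.le_centralizer_iff.1 inf_le_right)
    have h := le_gen (A := A) (B := B) (Y := Y) (B₀ := B₁) inf_le_left (fun {_} => hcyc)
    rw [hY, hYA] at h
    exact le_trans (le_inf le_rfl inf_le_left) h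
  -- two independent involutions of `B / C_B(Y)`
  have hBp : IsPGroup 2 B := hA2.to_le hB
  have : IsMulCommutative (↥B ⧸ B₁.subgroupOf B) := ⟨⟨fun x y => by
    obtain ⟨x, rfl⟩ := QuotientGroup.mk'_surjective _ x
    obtain ⟨y, rfl⟩ := QuotientGroup.mk'_surjective _ y
    rw [← map_mul, ← map_mul, (IsMulCommutative.is_comm.comm x y : x * y = y * x)]⟩⟩
  obtain ⟨x, y, hx, hy, hxy⟩ : ∃ x y : ↥B ⧸ B₁.subgroupOf B,
      orderOf x = 2 ∧ orderOf y = 2 ∧ x ≠ y := by
    by_contra! h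
    exact hcyc (Invol.isCyclic_of_unique_involution (hBp.to_quotient _) fun x y hx hy =>
      h x y hx hy)
  obtain ⟨t₁, rfl⟩ := QuotientGroup.mk'_surjective _ x
  obtain ⟨t₂, rfl⟩ := QuotientGroup.mk'_surjective _ y
  have hsq : ∀ t : B, orderOf (QuotientGroup.mk' (B₁.subgroupOf B) t) = 2 →
      (t : G) * t ∈ Subgroup.centralizer (Y : Set G) ∧
        (t : G) ∉ Subgroup.centralizer (Y : Set G) := by
    intro t ht
    constructor
    · have h := pow_orderOf_eq_one (QuotientGroup.mk' (B₁.subgroupOf B) t)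
      rw [ht, pow_two, ← map_mul] at h
      exact (Subgroup.mem_subgroupOf.1 ((QuotientGroup.eq_one_iff _).1 h)).2
    · intro htC
      have h : QuotientGroup.mk' (B₁.subgroupOf B) t = 1 :=
        (QuotientGroup.eq_one_iff _).2 (Subgroup.mem_subgroupOf.2 ⟨t.2, htC⟩)
      rw [h, orderOf_one] at ht
      omega
  have h12 : (t₁ : G) * t₂ ∉ Subgroup.centralizer (Y : Set G) := by
    intro htC
    have h : QuotientGroup.mk' (B₁.subgroupOf B) (t₁ * t₂) = 1 :=
      (QuotientGroup.eq_one_iff _).2 (Subgroup.mem_subgroupOf.2 ⟨(t₁ * t₂).2, htC⟩)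
    have h1 := pow_orderOf_eq_one (QuotientGroup.mk' (B₁.subgroupOf B) t₁)
    rw [hx, pow_two] at h1
    rw [map_mul] at h
    exact hxy (mul_left_cancel (h1.trans h.symm))
  have hcopA : ∀ K : Subgroup G, K ≤ Y → (Nat.card A).Coprime (Nat.card K) := fun K hK => by
    obtain ⟨r, hr⟩ := IsPGroup.iff_card.1 hA2
    rw [hr]
    exact Nat.Coprime.pow_left r (Nat.coprime_two_left.2
      (hYodd.of_dvd_nat (Subgroup.card_dvd_of_le hK)))
  have : Group.IsNilpotent A := by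
    have : Fact (Nat.Prime 2) := ⟨Nat.prime_two⟩
    exact hA2.isNilpotent
  have hAsol : Group.IsSolvable A := inferInstance
  have hIH : ∀ t ∈ ({(t₁ : G), (t₂ : G), (t₁ : G) * t₂} : Set G),
      ⁅Y ⊓ Subgroup.centralizer {t}, A⁆ ⊓ Subgroup.centralizer (B : Set G) ≤ gen A B Y := by
    intro t ht
    have htB : t ∈ B := by
      rcases ht with rfl | rfl | rfl
      exacts [t₁.2, t₂.2, mul_mem t₁.2 t₂.2]
    have htC : t ∉ Subgroup.centralizer (Y : Set G) := by
      rcases ht with rfl | rfl | rfl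
      exacts [(hsq t₁ hx).2, (hsq t₂ hy).2, h12]
    set K := Y ⊓ Subgroup.centralizer {t} with hK
    have hAK : A ≤ Subgroup.normalizer (K : Set G) := normalizes_inf hAY fun a ha s hs => by
      rw [Set.mem_singleton_iff] at hs
      subst hs
      exact hcommA _ (hB htB) a ha
    have hXY : ⁅K, A⁆ ≤ Y := (Coprime.commutator_le_of_le_normalizer hAK).trans inf_le_left
    have hlt : Nat.card B₁ <
        Nat.card (B ⊓ Subgroup.centralizer ((⁅K, A⁆ : Subgroup G) : Set G) : Subgroup G) := by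
      by_contra! hge
      have hle : B₁ ≤ B ⊓ Subgroup.centralizer ((⁅K, A⁆ : Subgroup G) : Set G) :=
        inf_le_inf_left _ (Subgroup.centralizer_le (SetLike.coe_subset_coe.2 hXY))
      have heq := Subgroup.eq_of_le_of_card_ge hle hge
      have htm : t ∈ B ⊓ Subgroup.centralizer ((⁅K, A⁆ : Subgroup G) : Set G) := by
        refine ⟨htB, fun z hz => ?_⟩
        have hz' : z ∈ Subgroup.centralizer {t} :=
          ((Coprime.commutator_le_of_le_normalizer hAK).trans inf_le_right) hz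
        exact (hz' t rfl).symm
      rw [← heq] at htm
      exact htC htm.2
    have hle2 : Nat.card (B ⊓ Subgroup.centralizer ((⁅K, A⁆ : Subgroup G) : Set G) : Subgroup G) ≤
        Nat.card B := Subgroup.card_le_of_le inf_le_left
    exact le_trans (ih _ (by omega) ⁅K, A⁆
      (hYodd.of_dvd_nat (Subgroup.card_dvd_of_le hXY))
      (Subgroup.normalizer_commutator_ge_right K A)
      (Coprime.commutator_commutator_eq hAK (hcopA K inf_le_left) (Or.inl hAsol)) le_rfl)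
      (gen_mono hXY)
  set C := Y ⊓ Subgroup.centralizer (B : Set G) with hC
  have hAC : A ≤ Subgroup.normalizer (C : Set G) :=
    normalizes_inf hAY fun a ha s hs => hcommA s (hB hs) a ha
  rw [← Coprime.commutator_sup_centralizer hAC (hcopA C inf_le_left) (Or.inl hAsol)]
  refine sup_le ?_ ?_
  · refine le_trans (le_inf (Coprime.commutator_le_of_le_normalizer hAC) le_rfl)
      (le_gen le_rfl fun {_} => ?_)
    have : Subsingleton (↥B ⧸ B.subgroupOf B) := by
      rw [QuotientGroup.subsingleton_iff, Subgroup.subgroupOf_self]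
    infer_instance
  · exact le_trans (inf_le_inf_right _ inf_le_left) (fixed_le_gen hA2 hAc hB hYodd hAY hYA
      t₁ t₂ t₁.2 t₂.2 (hsq t₁ hx).1 (hsq t₂ hy).1 hIH)

/-- Let A be an abelian 2-subgroup of the finite group G, B ≤ A, and Y a subgroup of odd order normalized by A with ⁅Y, A⁆ = Y. Then Y ∩ C_G(B) is generated by the subgroups Y ∩ C_G(B) ∩ ⁅Y ∩ C_G(B₀), A⁆, B₀ ranging over the subgroups of B with B / B₀ cyclic. -/
theorem result {G : Type*} [Group G] [Finite G] (A B Y : Subgroup G) (hA2 : IsPGroup 2 ↥A) (hAc : IsMulCommutative ↥A) (hB : B ≤ A) (hYodd : Odd (Nat.card ↥Y)) (hAY : A ≤ Subgroup.normalizer (Y : Set G)) (hYA : ⁅Y, A⁆ = Y) : Y ⊓ Subgroup.centralizer (B : Set G) = ⨆ B₀ : {B₀ : Subgroup G // B₀ ≤ B ∧ ∀ [(B₀.subgroupOf B).Normal], IsCyclic (↥B ⧸ B₀.subgroupOf B)}, Y ⊓ Subgroup.centralizer (B : Set G) ⊓ ⁅Y ⊓ Subgroup.centralizer ((B₀ : Subgroup G) : Set G), A⁆ := by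
  refine le_antisymm (le_gen_self hA2 hAc hB _ Y hYodd hAY hYA le_rfl) ?_
  exact iSup_le fun _ => inf_le_left

end Cfsg.Agent.S1329
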