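import Cfsg.Statements.S1330
import Cfsg.Agent.S1329
import Cfsg.Agent.Layer.Balance
import Cfsg.Agent.Layer.PComponent
import Cfsg.Agent.Coprime.Elementary
import Cfsg.Agent.Coprime.Tools
import Cfsg.Prelude.Def_Balance

set_option autoImplicit false
open Cfsg

namespace Cfsg.Agent.S1330

open Subgroup
open scoped commutatorElement

variable {G : Type*} [Group G]

local notation "Core" x:max => centralizerPPrimeCore 2 x
local notation "RC" B:max => Layer.cCore 2 B

/-- One factor of the functor. -/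
abbrev part (a : G) (B : Subgroup G) : Subgroup G := ⁅Core a, B⁆ ⊔ (Core a ⊓ RC B)

theorem symm {A₁ A₂ : Subgroup G} (h : IsCoreSeparated A₁ A₂) : IsCoreSeparated A₂ A₁ := by
  obtain ⟨h1, h2, h3, h4, h5, h6, h7, h8⟩ := h
  refine ⟨h2, h1, h4, h3, h5.symm, by rw [inf_comm]; exact h6,
    fun x hx y hy => (h7 y hy x hx).symm, fun a ha ha1 E hE => ?_⟩
  rw [sup_comm] at ha
  exact (h8 a ha ha1 E hE).symm

variable {A₁ A₂ : Subgroup G}

theorem comm_sup (h : IsCoreSeparated A₁ A₂) {x y : G} (hx : x ∈ A₁ ⊔ A₂) (hy : y ∈ A₁ ⊔ A₂) :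
    x * y = y * x := by
  have hA : A₁ ⊔ A₂ ≤ centralizer ((A₁ ⊔ A₂ : Subgroup G) : Set G) := by
    rw [le_centralizer_iff]
    refine sup_le ?_ ?_ <;> rw [le_centralizer_iff] <;> refine sup_le ?_ ?_
    · exact Coprime.ea_le_centralizer h.1
    · exact fun y hy x hx => h.2.2.2.2.2.2.1 x hx y hy
    · exact fun x hx y hy => (h.2.2.2.2.2.2.1 x hx y hy).symm
    · exact Coprime.ea_le_centralizer h.2.1
  exact (mem_centralizer_iff.1 (hA hx) y hy).symm

theorem mem_centralizer_of_mem (h : IsCoreSeparated A₁ A₂) {a b : G} (ha : a ∈ A₁ ⊔ A₂)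
    (hb : b ∈ A₁ ⊔ A₂) : b ∈ centralizer ({a} : Set G) :=
  mem_centralizer_singleton_iff.2 (comm_sup h hb ha)

theorem exists_mul (h : IsCoreSeparated A₁ A₂) {a : G} (ha : a ∈ A₁ ⊔ A₂) :
    ∃ u ∈ A₁, ∃ v ∈ A₂, u * v = a := by
  refine (Coprime.mem_sup_of_le_normalizer ?_).1 ha
  exact le_trans (show A₂ ≤ centralizer (A₁ : Set G) from fun y hy x hx => h.2.2.2.2.2.2.1 x hx y hy)
    (centralizer_le_normalizer _)

theorem core_le (a : G) : Core a ≤ centralizer ({a} : Set G) := map_subtype_le _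

variable [Finite G]

theorem card_core_odd (a : G) : Odd (Nat.card (Core a)) := by
  rw [Layer.centralizerPPrimeCore_eq_cCore]
  exact Nat.coprime_two_right.1 (Layer.coprime_card_cCore _)

theorem conj_core {a g x : G} (hg : g ∈ centralizer ({a} : Set G)) (hx : x ∈ Core a) :
    g * x * g⁻¹ ∈ Core a := by
  obtain ⟨y, hy, rfl⟩ := hx
  exact ⟨⟨g, hg⟩ * y * ⟨g, hg⟩⁻¹, Core.pPrimeCore_normal.conj_mem y hy _, rfl⟩

theorem centralizer_le_normalizer_core (a : G) :
    centralizer ({a} : Set G) ≤ normalizer ((Core a : Subgroup G) : Set G) :=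
  Subgroup.le_normalizer_iff.2 fun _ hg _ hx => conj_core hg hx

theorem sup_le_normalizer_core (h : IsCoreSeparated A₁ A₂) {a : G} (ha : a ∈ A₁ ⊔ A₂) :
    A₁ ⊔ A₂ ≤ normalizer ((Core a : Subgroup G) : Set G) :=
  fun _ hb => centralizer_le_normalizer_core a (mem_centralizer_of_mem h ha hb)

theorem sup_le_centralizer (h : IsCoreSeparated A₁ A₂) {B : Subgroup G} (hB : B ≤ A₁ ⊔ A₂) :
    A₁ ⊔ A₂ ≤ centralizer (B : Set G) := fun _ hx _ hy => comm_sup h (hB hy) hx

theorem sup_le_normalizer_part (h : IsCoreSeparated A₁ A₂) {a : G} (ha : a ∈ A₁ ⊔ A₂) :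
    A₁ ⊔ A₂ ≤ normalizer ((part a A₁ : Subgroup G) : Set G) := by
  have hO := sup_le_normalizer_core h ha
  have hA := sup_le_centralizer h (le_sup_left : A₁ ≤ A₁ ⊔ A₂)
  refine Coprime.le_normalizer_sup ?_ (Coprime.le_normalizer_inf hO ?_)
  · refine Subgroup.le_normalizer_iff.2 fun g hg x hx => ?_
    have hle : ⁅Core a, A₁⁆ ≤ (⁅Core a, A₁⁆).comap (MulAut.conj g).toMonoidHom := by
      rw [commutator_le]
      intro y hy s hs
      refine Subgroup.mem_comap.2 ?_
      show MulAut.conj g ⁅y, s⁆ ∈ _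
      rw [map_commutatorElement]
      refine commutator_mem_commutator ((Subgroup.le_normalizer_iff.1 hO) g hg y hy) ?_
      show g * s * g⁻¹ ∈ A₁
      rw [← mem_centralizer_iff.1 (hA hg) s hs, mul_inv_cancel_right]
      exact hs
    exact hle hx
  · exact hA.trans ((centralizer_le_normalizer _).trans (Layer.normalizer_le_normalizer_cCore _))

theorem part_le_core (h : IsCoreSeparated A₁ A₂) {a : G} (ha : a ∈ A₁ ⊔ A₂) :
    part a A₁ ≤ Core a :=
  sup_le (Coprime.commutator_le_of_le_normalizer (le_sup_left.trans (sup_le_normalizer_core h ha)))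
    inf_le_left

/-- The quotient map of `C(c)` onto `C(c) / O(C(c))`. -/
abbrev qmk (c : G) : ↥(centralizer ({c} : Set G)) →* ↥(centralizer ({c} : Set G)) ⧸
    pPrimeCore 2 ↥(centralizer ({c} : Set G)) := QuotientGroup.mk' _

theorem zpowers_isPGroup (h : IsCoreSeparated A₁ A₂) {c : G} {a : ↥(centralizer ({c} : Set G))}
    (ha : (a : G) ∈ A₁ ⊔ A₂) : IsPGroup 2 ↥(zpowers (qmk c a)) := by
  obtain ⟨u, hu, v, hv, huv⟩ := exists_mul h ha
  have h2 : (qmk c a) ^ 2 = 1 := by
    rw [← map_pow, show a ^ 2 = 1 from Subtype.ext (by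
      rw [SubmonoidClass.coe_pow, ← huv, Commute.mul_pow (h.2.2.2.2.2.2.1 u hu v hv),
        h.1.2 u hu, h.2.1.2 v hv, one_mul]; rfl), map_one]
  rintro ⟨x, hx⟩
  obtain ⟨i, rfl⟩ := mem_zpowers_iff.1 hx
  refine ⟨1, Subtype.ext ?_⟩
  rw [SubmonoidClass.coe_pow, pow_one]
  show (qmk c a ^ i) ^ 2 = 1
  rw [← zpow_natCast, ← zpow_mul, mul_comm, zpow_mul, zpow_natCast, h2, one_zpow]

theorem sq_eq_one (h : IsCoreSeparated A₁ A₂) {a : G} (ha : a ∈ A₁ ⊔ A₂) : a ^ 2 = 1 := by
  obtain ⟨u, hu, v, hv, rfl⟩ := exists_mul h ha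
  rw [Commute.mul_pow (h.2.2.2.2.2.2.1 u hu v hv), h.1.2 u hu, h.2.1.2 v hv, one_mul]

/-- Core separation on a component of `C(c) / O(C(c))`. -/
theorem separated (h : IsCoreSeparated A₁ A₂) {c : G} (hc : c ∈ A₁ ⊔ A₂) (hc1 : c ≠ 1)
    {K : Subgroup (↥(centralizer ({c} : Set G)) ⧸ pPrimeCore 2 ↥(centralizer ({c} : Set G)))}
    (hK : IsComponent K) :
    (∀ s : ↥(centralizer ({c} : Set G)), (s : G) ∈ A₁ → qmk c s ∈ centralizer (K : Set _)) ∨
    (∀ s : ↥(centralizer ({c} : Set G)), (s : G) ∈ A₂ → qmk c s ∈ centralizer (K : Set _)) := by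
  have key : ∀ B : Subgroup G, ⁅(Layer.pComponentOver 2 K).map
      (centralizer ({c} : Set G)).subtype, B⁆ ≤ Core c →
      ∀ s : ↥(centralizer ({c} : Set G)), (s : G) ∈ B → qmk c s ∈ centralizer (K : Set _) := by
    intro B hB s hs
    rw [mem_centralizer_iff, ← Layer.map_pComponentOver hK]
    rintro _ ⟨e, he, rfl⟩
    have hm := hB (commutator_mem_commutator (mem_map_of_mem _ he) hs)
    obtain ⟨y, hy, hye⟩ := hm
    have h1 : qmk c ⁅e, s⁆ = 1 := by
      rw [← show y = ⁅e, s⁆ from Subtype.ext hye]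
      exact (QuotientGroup.eq_one_iff y).2 hy
    rw [map_commutatorElement, commutatorElement_eq_one_iff_mul_comm] at h1
    exact h1
  rcases h.2.2.2.2.2.2.2 c hc hc1 _ (Layer.isPComponent_pComponentOver hK) with h1 | h1
  · exact Or.inl (key _ h1)
  · exact Or.inr (key _ h1)

/-- Elements of `O(C(a)) ∩ C(c)` acting trivially on all components lie in `O(C(c))`. -/
theorem mem_core_of_centralizes (h : IsCoreSeparated A₁ A₂) {a c x : G} (ha : a ∈ A₁ ⊔ A₂)
    (hc : c ∈ A₁ ⊔ A₂) (hx : x ∈ Core a) (hxc : x ∈ centralizer ({c} : Set G))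
    (hK : ∀ K : Subgroup (↥(centralizer ({c} : Set G)) ⧸ pPrimeCore 2 ↥(centralizer ({c} : Set G))),
      IsComponent K → qmk c ⟨x, hxc⟩ ∈ centralizer (K : Set _)) :
    x ∈ Core c := by
  have hw := Layer.mk_mem_cCore (p := 2) (mem_centralizer_of_mem h hc ha) (sq_eq_one h ha) hxc hx
  rw [← Layer.mk_eq_one_iff_mem_centralizerPPrimeCore hxc]
  have hp := zpowers_isPGroup h (a := ⟨a, mem_centralizer_of_mem h hc ha⟩) ha
  exact Layer.eq_one_of_pCore_of_coprime (Layer.mem_pCore_of_centralizes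
    Core.pPrimeCore_quotient_eq_bot hK (Layer.cCore_le_centralizer_pCore hp hw))
    ((Layer.coprime_card_cCore _).coprime_dvd_left (orderOf_dvd_natCard _ hw))

/-- A commutator of a normalising element with a centralising one centralises. -/
theorem commutator_mem_centralizer {Q : Type*} [Group Q] {K : Subgroup Q} {w s : Q}
    (hw : w ∈ normalizer (K : Set Q)) (hs : s ∈ centralizer (K : Set Q)) :
    ⁅w, s⁆ ∈ centralizer (K : Set Q) := by
  rw [commutatorElement_def]
  refine mul_mem ?_ (inv_mem hs)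
  exact (mem_normalizer_iff.1 (Coprime.le_normalizer_centralizer le_rfl hw) s).1 hs

theorem isComponent_conj {Q : Type*} [Group Q] {K : Subgroup Q} (hK : IsComponent K) (g : Q) :
    IsComponent (K.map (MulAut.conj g).toMonoidHom) := Layer.isComponent_map_conj hK g

theorem conj_centralizer {Q : Type*} [Group Q] {K : Subgroup Q} {g x : Q}
    (hx : x ∈ centralizer ((K.map (MulAut.conj g⁻¹).toMonoidHom : Subgroup Q) : Set Q)) :
    g * x * g⁻¹ ∈ centralizer (K : Set Q) := by
  rw [mem_centralizer_iff]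
  intro k hk
  have h : g⁻¹ * k * g⁻¹⁻¹ * x = x * (g⁻¹ * k * g⁻¹⁻¹) :=
    mem_centralizer_iff.1 hx _ ⟨k, hk, rfl⟩
  rw [inv_inv] at h
  calc k * (g * x * g⁻¹) = g * (g⁻¹ * k * g * x) * g⁻¹ := by group
    _ = g * x * g⁻¹ * k := by rw [h]; group

theorem commutator_central {Q : Type*} [Group Q] {w r a v : Q} (hr : ∀ g, r * g = g * r)
    (hwa : w * a = a * w) : ⁅w, r * a * v⁆ = a * ⁅w, v⁆ * a⁻¹ := by
  rw [mul_assoc r a v, commutatorElement_mul_right_eq_mul_conj, Commute.commutator_eq (hr w).symm,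
    one_mul, hr, mul_inv_cancel_right, commutatorElement_mul_right_eq_mul_conj,
    Commute.commutator_eq hwa, one_mul]

theorem mem_centralizer_conj {Q : Type*} [Group Q] {K : Subgroup Q} {g z : Q}
    (hz : z ∈ centralizer (K : Set Q)) (hgz : Commute z g) :
    z ∈ centralizer ((K.map (MulAut.conj g).toMonoidHom : Subgroup Q) : Set Q) := by
  rw [mem_centralizer_iff]
  rintro _ ⟨k, hk, rfl⟩
  exact ((hgz.mul_right (mem_centralizer_iff.1 hz k hk).symm).mul_right hgz.inv_right).eq.symm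

theorem four_group {B : Subgroup G} (hB : IsElementaryAbelian 2 B) (h4 : Nat.card B = 4) {c u s : G}
    (hc : c ∈ B) (hc1 : c ≠ 1) (hu : u ∈ B) (hu1 : u ≠ 1) (huc : u ≠ c) (hs : s ∈ B) :
    s = 1 ∨ s = c ∨ s = u ∨ s = c * u := by
  by_contra hcon
  push Not at hcon
  have hcu : c * u ≠ 1 := fun e => huc (by
    have h := hB.2 c hc
    rw [pow_two] at h
    exact mul_left_cancel (e.trans h.symm))
  have hsub : ({1, c, u, c * u, s} : Set G) ⊆ (B : Set G) := by
    rintro x (rfl | rfl | rfl | rfl | rfl)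
    exacts [one_mem _, hc, hu, mul_mem hc hu, hs]
  have h5 : ({1, c, u, c * u, s} : Set G).ncard = 5 := by
    rw [Set.ncard_insert_of_notMem (by simp [hc1.symm, hu1.symm, hcu.symm, hcon.1.symm]),
      Set.ncard_insert_of_notMem (by simp [huc.symm, hu1, hcon.2.1.symm]),
      Set.ncard_insert_of_notMem (by simp [hc1, hcon.2.2.1.symm]),
      Set.ncard_insert_of_notMem (by simp [hcon.2.2.2.symm]), Set.ncard_singleton]
  have := Set.ncard_le_ncard hsub (Set.toFinite _)
  rw [h5, ← Nat.card_coe_set_eq] at this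
  exact absurd (this.trans h4.le) (by norm_num)

/-- The main step. -/
theorem commutator_le_core (h : IsCoreSeparated A₁ A₂) {a c : G} (ha : a ∈ A₁ ⊔ A₂)
    (hc : c ∈ A₁) (hc1 : c ≠ 1) :
    ⁅Core a ⊓ centralizer ({c} : Set G), A₁⁆ ≤ Core c := by
  classical
  rw [commutator_le]
  intro w hw s hs
  have hsA : s ∈ A₁ ⊔ A₂ := mem_sup_left hs
  have hcA : c ∈ A₁ ⊔ A₂ := mem_sup_left hc
  have hsC : s ∈ centralizer ({c} : Set G) := mem_centralizer_of_mem h hcA hsA
  have hwC : w ∈ centralizer ({c} : Set G) := hw.2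
  have haC : a ∈ centralizer ({c} : Set G) := mem_centralizer_of_mem h hcA ha
  have hmem : ⁅w, s⁆ ∈ Core a := by
    rw [show ⁅w, s⁆ = w * (s * w⁻¹ * s⁻¹) by simp [commutatorElement_def, mul_assoc]]
    exact mul_mem hw.1 (conj_core (mem_centralizer_of_mem h ha hsA) (inv_mem hw.1))
  have hmemC : ⁅w, s⁆ ∈ centralizer ({c} : Set G) :=
    mul_mem (mul_mem (mul_mem hwC hsC) (inv_mem hwC)) (inv_mem hsC)
  refine mem_core_of_centralizes h ha hcA hmem hmemC fun K hK => ?_
  set f := qmk c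
  set W : ↥(centralizer ({c} : Set G)) := ⟨w, hwC⟩ with hW
  set S : ↥(centralizer ({c} : Set G)) := ⟨s, hsC⟩ with hS
  set Aa : ↥(centralizer ({c} : Set G)) := ⟨a, haC⟩ with hAa
  rw [show f ⟨⁅w, s⁆, hmemC⟩ = ⁅f W, f S⁆ by rw [← map_commutatorElement]; rfl]
  have hwQ : f W ∈ Layer.cCore 2 (zpowers (f Aa)) :=
    Layer.mk_mem_cCore haC (sq_eq_one h ha) hwC hw.1
  have hp : IsPGroup 2 ↥(zpowers (f Aa)) := zpowers_isPGroup h (a := Aa) ha
  have hWn : f W ∈ normalizer (K : Set _) :=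
    Layer.cCore_le_normalizer_component Core.pPrimeCore_quotient_eq_bot hp hK hwQ
  have hfc : ∀ g, f ⟨c, mem_centralizer_of_mem h hcA hcA⟩ * g =
      g * f ⟨c, mem_centralizer_of_mem h hcA hcA⟩ := fun g => by
    obtain ⟨g, rfl⟩ := QuotientGroup.mk'_surjective _ g
    rw [← map_mul, ← map_mul]
    exact congrArg f (Subtype.ext (mem_centralizer_singleton_iff.1 g.2).symm)
  rcases separated h hcA hc1 hK with h1 | h2
  · exact commutator_mem_centralizer hWn (h1 S hs)
  · obtain ⟨u, hu, v, hv, huv⟩ := exists_mul h ha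
    have hvA : v ∈ A₁ ⊔ A₂ := mem_sup_right hv
    have huA : u ∈ A₁ ⊔ A₂ := mem_sup_left hu
    set U : ↥(centralizer ({c} : Set G)) := ⟨u, mem_centralizer_of_mem h hcA huA⟩ with hU
    set V : ↥(centralizer ({c} : Set G)) := ⟨v, mem_centralizer_of_mem h hcA hvA⟩ with hV
    have hVK : f V ∈ centralizer (K : Set _) := h2 V hv
    by_cases hs0 : s = 1 ∨ s = c
    · -- `s` is central
      have h1 : ⁅f W, f S⁆ = 1 := by
        rw [commutatorElement_eq_one_iff_mul_comm]
        rcases hs0 with hs0 | hs0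
        · rw [show S = 1 from Subtype.ext hs0, map_one, mul_one, one_mul]
        · rw [show S = ⟨c, mem_centralizer_of_mem h hcA hcA⟩ from Subtype.ext hs0, hfc]
      rw [h1]
      exact one_mem _
    push Not at hs0
    have hcomm : ∀ {x y : ↥(centralizer ({c} : Set G))}, (x : G) ∈ A₁ ⊔ A₂ → (y : G) ∈ A₁ ⊔ A₂ →
        f x * f y = f y * f x := fun {x y} hx hy => by
      rw [← map_mul, ← map_mul]
      exact congrArg f (Subtype.ext (comm_sup h hx hy))
    by_cases hu0 : u = 1 ∨ u = c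
    · -- `a` centralises `K` and its conjugate
      have hz : ∀ L : Subgroup (↥(centralizer ({c} : Set G)) ⧸
          pPrimeCore 2 ↥(centralizer ({c} : Set G))), IsComponent L → f V ∈ centralizer (L : Set _) →
          f W ∈ centralizer (L : Set _) := by
        intro L hL hVL
        refine Layer.cCore_centralizes_of_centralized Core.pPrimeCore_quotient_eq_bot hp hL ?_ hwQ
        rw [le_centralizer_iff, zpowers_le]
        have hUL : f U ∈ centralizer (L : Set _) := by
          rcases hu0 with hu0 | hu0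
          · rw [show U = 1 from Subtype.ext hu0, map_one]
            exact one_mem _
          · rw [show U = ⟨c, mem_centralizer_of_mem h hcA hcA⟩ from Subtype.ext hu0]
            exact fun k _ => (hfc k).symm
        rw [show Aa = U * V from Subtype.ext huv.symm, map_mul]
        exact mul_mem hUL hVL
      have hK' := isComponent_conj hK (f S)⁻¹
      rw [show ⁅f W, f S⁆ = f W * (f S * (f W)⁻¹ * (f S)⁻¹) by
        simp [commutatorElement_def, mul_assoc]]
      exact mul_mem (hz K hK hVK) (conj_centralizer (inv_mem (hz _ hK'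
        (mem_centralizer_conj hVK (Commute.inv_right (hcomm hvA hsA))))))
    · -- `s` acts as `a` times an element centralising `K`
      push Not at hu0
      obtain ⟨r, hr, hsr⟩ : ∃ r, (r = 1 ∨ r = c) ∧ s = r * u := by
        rcases four_group h.1 h.2.2.1 hc hc1 hu hu0.1 hu0.2 hs with e | e | e | e
        · exact absurd e hs0.1
        · exact absurd e hs0.2
        · exact ⟨1, Or.inl rfl, by rw [one_mul]; exact e⟩
        · exact ⟨c, Or.inr rfl, e⟩
      have hrA : r ∈ A₁ ⊔ A₂ := by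
        rcases hr with rfl | rfl
        exacts [one_mem _, hcA]
      set R : ↥(centralizer ({c} : Set G)) := ⟨r, mem_centralizer_of_mem h hcA hrA⟩ with hR
      have hRc : ∀ g, f R * g = g * f R := by
        rcases hr with hr | hr
        · intro g
          rw [show R = 1 from Subtype.ext hr, map_one, one_mul, mul_one]
        · rw [show R = ⟨c, mem_centralizer_of_mem h hcA hcA⟩ from Subtype.ext hr]
          exact hfc
      have hSR : f S = f R * f Aa * (f V)⁻¹ := by
        rw [show S = R * U from Subtype.ext hsr, show Aa = U * V from Subtype.ext huv.symm,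
          map_mul, map_mul, ← mul_assoc, mul_inv_cancel_right]
      have hWA : f W * f Aa = f Aa * f W := by
        rw [← map_mul, ← map_mul]
        exact congrArg f (Subtype.ext (mem_centralizer_singleton_iff.1 (core_le a hw.1)))
      have hK' := isComponent_conj hK (f Aa)⁻¹
      have hW' : f W ∈ normalizer ((K.map (MulAut.conj (f Aa)⁻¹).toMonoidHom : Subgroup _) : Set _) :=
        Layer.cCore_le_normalizer_component Core.pPrimeCore_quotient_eq_bot hp hK' hwQ
      have hVK' : (f V)⁻¹ ∈ centralizer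
          ((K.map (MulAut.conj (f Aa)⁻¹).toMonoidHom : Subgroup _) : Set _) :=
        inv_mem (mem_centralizer_conj hVK (Commute.inv_right (hcomm hvA ha)))
      rw [show ⁅f W, f S⁆ = f Aa * ⁅f W, (f V)⁻¹⁆ * (f Aa)⁻¹ by
        rw [hSR, commutator_central hRc hWA]]
      exact conj_centralizer (commutator_mem_centralizer hW' hVK')

theorem le_RC {B : Subgroup G} {c : G} (hc : c ∈ B) :
    Core c ⊓ centralizer (B : Set G) ≤ RC B := by
  refine Layer.le_cCore inf_le_right ?_ ?_
  · exact Coprime.le_normalizer_inf_of_le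
      ((centralizer_le (Set.singleton_subset_iff.2 hc)).trans (centralizer_le_normalizer_core c))
      le_rfl
  · exact Nat.coprime_two_right.2 ((card_core_odd c).of_dvd_nat (card_dvd_of_le inf_le_left))

theorem coprime_four {B : Subgroup G} (hB : IsElementaryAbelian 2 B) {K : Subgroup G}
    (hK : Odd (Nat.card K)) : (Nat.card B).Coprime (Nat.card K) := by
  haveI : Fact (Nat.Prime 2) := ⟨Nat.prime_two⟩
  exact Coprime.ea_coprime hB (by rw [← even_iff_two_dvd]; exact Nat.not_even_iff_odd.2 hK)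

/-- The fixed points of `A₁` in `[O(C(a)), A₁]` lie in `O(C(A₁))`. -/
theorem commutator_fixed_le (h : IsCoreSeparated A₁ A₂) {a : G} (ha : a ∈ A₁ ⊔ A₂) :
    ⁅Core a, A₁⁆ ⊓ centralizer (A₁ : Set G) ≤ RC A₁ := by
  haveI : Fact (Nat.Prime 2) := ⟨Nat.prime_two⟩
  have hAO : A₁ ≤ normalizer ((Core a : Subgroup G) : Set G) :=
    le_sup_left.trans (sup_le_normalizer_core h ha)
  have hYO : ⁅Core a, A₁⁆ ≤ Core a := Coprime.commutator_le_of_le_normalizer hAO
  refine le_trans (S1329.result A₁ A₁ ⁅Core a, A₁⁆ (Coprime.ea_isPGroup h.1) h.1.1 le_rfl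
    ((card_core_odd a).of_dvd_nat (card_dvd_of_le hYO)) (normalizer_commutator_ge_right _ _)
    (Coprime.commutator_commutator_eq hAO (coprime_four h.1 (card_core_odd a))
      (Or.inl (Coprime.ea_isSolvable h.1)))).le ?_
  refine iSup_le ?_
  rintro ⟨B₀, hB₀, hcyc⟩
  obtain ⟨c, hc, hc1⟩ : ∃ c ∈ B₀, c ≠ 1 := by
    by_contra! hall
    obtain rfl : B₀ = ⊥ := (eq_bot_iff_forall B₀).2 hall
    rw [bot_subgroupOf] at hcyc
    exact Coprime.ea_not_isCyclic h.1 (by rw [h.2.2.1]; norm_num)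
      ((MulEquiv.isCyclic QuotientGroup.quotientBot).1 hcyc)
  refine le_trans (le_inf ?_ (inf_le_left.trans inf_le_right)) (le_RC (hB₀ hc))
  refine inf_le_right.trans (le_trans (commutator_mono ?_ le_rfl)
    (commutator_le_core h ha (hB₀ hc) hc1))
  exact inf_le_inf hYO (centralizer_le (Set.singleton_subset_iff.2 hc))

theorem part_fixed_le (h : IsCoreSeparated A₁ A₂) {a : G} (ha : a ∈ A₁ ⊔ A₂) :
    part a A₁ ⊓ centralizer (A₁ : Set G) ≤ RC A₁ := by
  rintro x ⟨hx, hxC⟩
  obtain ⟨y, hy, z, hz, rfl⟩ := (Coprime.mem_sup_of_le_normalizer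
    (inf_le_left.trans (normalizer_commutator_ge_left (Core a) A₁))).1 hx
  have hzC : z ∈ centralizer (A₁ : Set G) := Layer.cCore_le A₁ hz.2
  exact mul_mem (commutator_fixed_le h ha ⟨hy, ((centralizer (A₁ : Set G)).mul_mem_cancel_right hzC).1 hxC⟩) hz.2

/-- `A₁` centralising a component forces the part over `A₁` to centralise it. -/
theorem part_centralizes (h : IsCoreSeparated A₁ A₂) {a b : G} (ha : a ∈ A₁ ⊔ A₂)
    (hb : b ∈ A₁ ⊔ A₂)
    {K : Subgroup (↥(centralizer ({b} : Set G)) ⧸ pPrimeCore 2 ↥(centralizer ({b} : Set G)))}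
    (hK : IsComponent K)
    (hAK : ∀ s : ↥(centralizer ({b} : Set G)), (s : G) ∈ A₁ → qmk b s ∈ centralizer (K : Set _))
    {x : G} (hx : x ∈ part a A₁) (hxb : x ∈ centralizer ({b} : Set G)) :
    qmk b ⟨x, hxb⟩ ∈ centralizer (K : Set _) := by
  haveI : Fact (Nat.Prime 2) := ⟨Nat.prime_two⟩
  set V := part a A₁ ⊓ centralizer ({b} : Set G) with hV
  have hVa : V ≤ Core a := inf_le_left.trans (part_le_core h ha)
  have hAb : A₁ ⊔ A₂ ≤ centralizer ({b} : Set G) := fun t ht => mem_centralizer_of_mem h hb ht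
  have hAV : A₁ ≤ normalizer (V : Set G) :=
    le_sup_left.trans (Coprime.le_normalizer_inf_of_le (sup_le_normalizer_part h ha) hAb)
  have hA1b : A₁ ≤ centralizer ({b} : Set G) := le_sup_left.trans hAb
  have hp := zpowers_isPGroup h (a := ⟨a, mem_centralizer_of_mem h hb ha⟩) ha
  have hdec := Coprime.commutator_sup_centralizer hAV
    (coprime_four h.1 ((card_core_odd a).of_dvd_nat (card_dvd_of_le hVa)))
    (Or.inl (Coprime.ea_isSolvable h.1))
  let T : Subgroup G := ((centralizer (K : Set _)).comap (qmk b)).map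
    (centralizer ({b} : Set G)).subtype
  have hT : ∀ (z : G) (hz : z ∈ centralizer ({b} : Set G)),
      qmk b ⟨z, hz⟩ ∈ centralizer (K : Set _) → z ∈ T := fun z hz hm => ⟨⟨z, hz⟩, hm, rfl⟩
  have hle : V ≤ T := by
    rw [← hdec]
    refine sup_le ((commutator_le).2 fun w hw s hs => ?_) fun y hy => ?_
    · have hwb : w ∈ centralizer ({b} : Set G) := hw.2
      refine hT _ (mul_mem (mul_mem (mul_mem hwb (hA1b hs)) (inv_mem hwb)) (inv_mem (hA1b hs))) ?_
      have hwQ := Layer.mk_mem_cCore (p := 2) (mem_centralizer_of_mem h hb ha) (sq_eq_one h ha) hwb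
        (hVa hw)
      have := commutator_mem_centralizer (Layer.cCore_le_normalizer_component
        Core.pPrimeCore_quotient_eq_bot hp hK hwQ) (hAK ⟨s, hA1b hs⟩ hs)
      rw [← map_commutatorElement] at this
      exact this
    · have hyb : y ∈ centralizer ({b} : Set G) := hy.1.2
      refine hT y hyb ?_
      have hyR : y ∈ RC A₁ := part_fixed_le h ha ⟨hy.1.1, hy.2⟩
      have h1 : (⟨y, hyb⟩ : ↥(centralizer ({b} : Set G))) ∈
          Layer.cCore 2 (A₁.subgroupOf (centralizer ({b} : Set G))) :=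
        Layer.cCore_mem_subgroup hA1b hyR
      have hpA : IsPGroup 2 ↥(A₁.subgroupOf (centralizer ({b} : Set G))) :=
        (Coprime.ea_isPGroup h.1).comap_of_injective _ (Subgroup.subtype_injective _)
      have hker : (Nat.card (qmk b).ker).Coprime 2 := by
        rw [QuotientGroup.ker_mk']
        exact Core.coprime_card_pPrimeCore
      have h2 := Layer.map_cCore_le (QuotientGroup.mk'_surjective _) hker hpA
        (mem_map_of_mem (qmk b) h1)
      refine Layer.cCore_centralizes_of_centralized Core.pPrimeCore_quotient_eq_bot (hpA.map _) hK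
        ?_ h2
      rw [le_centralizer_iff]
      rintro _ ⟨s, hs, rfl⟩
      exact hAK s hs
  obtain ⟨z, hz, hzx⟩ := hle (show x ∈ V from ⟨hx, hxb⟩)
  rwa [show (⟨x, hxb⟩ : ↥(centralizer ({b} : Set G))) = z from Subtype.ext hzx.symm]

theorem le_part (h : IsCoreSeparated A₁ A₂) {a b : G} (ha : a ∈ A₁ ⊔ A₂)
    {X : Subgroup G} (hXn : A₁ ⊔ A₂ ≤ normalizer (X : Set G)) (hXa : X ≤ part a A₁)
    (hXb : X ≤ Core b) : X ≤ part b A₁ := by
  have hAX : A₁ ≤ normalizer (X : Set G) := le_sup_left.trans hXn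
  rw [← Coprime.commutator_sup_centralizer hAX
    (coprime_four h.1 ((card_core_odd b).of_dvd_nat (card_dvd_of_le hXb)))
    (Or.inl (Coprime.ea_isSolvable h.1))]
  exact sup_le ((commutator_mono hXb le_rfl).trans le_sup_left)
    (le_trans (le_inf (inf_le_left.trans hXb) (le_trans (inf_le_inf_right _ hXa) (part_fixed_le h ha)))
      le_sup_right)

/-- Let A₁, A₂ be core-separated four-subgroups of the finite group G and A = A₁A₂. For a ∈ G put O_a = O(C_G(a)) and θ a = ⋂_{i=1,2} ( ⁅O_a, A_i⁆ · (O_a ∩ O(C_G(A_i))) ). Then θ is an A-signalizer functor for the prime 2. -/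
theorem result {G : Type*} [Group G] [Finite G] (A₁ A₂ : Subgroup G) (hcs : Cfsg.IsCoreSeparated A₁ A₂) : Cfsg.IsSignalizerFunctor 2 (A₁ ⊔ A₂) (fun a => (⁅Cfsg.centralizerPPrimeCore 2 a, A₁⁆ ⊔ (Cfsg.centralizerPPrimeCore 2 a ⊓ ((Cfsg.oddCore ↥(Subgroup.centralizer ((A₁ : Subgroup G) : Set G))).map (Subgroup.centralizer ((A₁ : Subgroup G) : Set G)).subtype))) ⊓ (⁅Cfsg.centralizerPPrimeCore 2 a, A₂⁆ ⊔ (Cfsg.centralizerPPrimeCore 2 a ⊓ ((Cfsg.oddCore ↥(Subgroup.centralizer ((A₂ : Subgroup G) : Set G))).map (Subgroup.centralizer ((A₂ : Subgroup G) : Set G)).subtype)))) := by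
  have hs := symm hcs
  have hmem : ∀ a ∈ A₁ ⊔ A₂, a ∈ A₂ ⊔ A₁ := fun a ha => by rwa [sup_comm]
  have hn : ∀ a ∈ A₁ ⊔ A₂, A₁ ⊔ A₂ ≤ normalizer ((part a A₁ ⊓ part a A₂ : Subgroup G) : Set G) :=
    fun a ha => Coprime.le_normalizer_inf (sup_le_normalizer_part hcs ha)
      ((sup_comm A₁ A₂).le.trans (sup_le_normalizer_part hs (hmem a ha)))
  change IsSignalizerFunctor 2 (A₁ ⊔ A₂) fun a => part a A₁ ⊓ part a A₂
  refine ⟨fun a ha _ => ?_, fun a ha _ hdvd => ?_, fun a ha _ b hb x hx => ?_,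
    fun a ha _ b hb hb1 => ?_⟩
  · exact inf_le_left.trans ((part_le_core hcs ha).trans (core_le a))
  · have hodd := (card_core_odd a).of_dvd_nat
      (card_dvd_of_le (inf_le_left.trans (part_le_core hcs ha) : part a A₁ ⊓ part a A₂ ≤ Core a))
    exact Nat.not_even_iff_odd.2 hodd (even_iff_two_dvd.2 hdvd)
  · exact (Subgroup.le_normalizer_iff.1 (hn a ha)) b hb x hx
  · set X := (part a A₁ ⊓ part a A₂) ⊓ centralizer ({b} : Set G)
    have hXn : A₁ ⊔ A₂ ≤ normalizer (X : Set G) :=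
      Coprime.le_normalizer_inf_of_le (hn a ha) fun t ht => mem_centralizer_of_mem hcs hb ht
    have hXb : X ≤ Core b := by
      rintro x ⟨⟨hx1, hx2⟩, hxb⟩
      refine mem_core_of_centralizes hcs ha hb (part_le_core hcs ha hx1) hxb fun K hK => ?_
      rcases separated hcs hb hb1 hK with h1 | h2
      · exact part_centralizes hcs ha hb hK h1 hx1 hxb
      · exact part_centralizes hs (hmem a ha) (hmem b hb) hK h2 hx2 hxb
    exact le_inf (le_part hcs ha hXn (inf_le_left.trans inf_le_left) hXb)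
      (le_part hs (hmem a ha) ((sup_comm A₂ A₁).le.trans hXn) (inf_le_left.trans inf_le_right) hXb)

end Cfsg.Agent.S1330
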