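import Cfsg.Statements.S1251
import Cfsg.Agent.Invol.ZStarElt

set_option autoImplicit false
open Cfsg

namespace Cfsg.Agent.S1251

open Cfsg.Agent in
theorem core {X : Type*} [Group X] [Finite X] (T : Sylow 2 X) (A H : Subgroup X) [H.Normal]
    (hAT : A ≤ (T : Subgroup X))
    (hA : ∀ a ∈ A, ∀ x : X, x * a * x⁻¹ ∈ T → x * a * x⁻¹ ∈ A)
    (hsup : A ⊔ H = ⊤) (hdisj : A ⊓ H = ⊥) (hO : Cfsg.oddCore H = ⊥) {a : X} (ha : a ∈ A)
    {h : X} (hh : h ∈ H) : Commute a h := by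
  have hsame : ∀ b ∈ A, ∀ h' ∈ H, h' * b * h'⁻¹ ∈ A → h' * b * h'⁻¹ = b := fun b hb h' hh' hm => by
    have h1 : h' * b * h'⁻¹ * b⁻¹ ∈ A ⊓ H := ⟨mul_mem hm (A.inv_mem hb), by
      rw [mul_assoc h' b, mul_assoc h' (b * h'⁻¹)]
      exact mul_mem hh' (Subgroup.Normal.conj_mem ‹H.Normal› _ (H.inv_mem hh') b)⟩
    rwa [hdisj, Subgroup.mem_bot, mul_inv_eq_one] at h1
  -- the group `H⟨a⟩`
  set Y := Subgroup.zpowers a ⊔ H with hY
  have haY : a ∈ Y := Subgroup.mem_sup_left (Subgroup.mem_zpowers a)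
  have hHY : H ≤ Y := le_sup_right
  have hTHcomm : ∀ t ∈ (T : Subgroup X), t ∈ H → ∀ b ∈ A, t * b * t⁻¹ = b := fun t ht htH b hb =>
    hsame b hb t htH (hA b hb t (mul_mem (mul_mem ht (hAT hb)) (inv_mem ht)))
  have hdec : ∀ y ∈ Y, ∃ i : ℤ, ∃ k ∈ H, y = k * a ^ i := fun y hy => by
    obtain ⟨k, hk, w, hw, rfl⟩ := Subgroup.mem_sup_of_normal_left.1 (show y ∈ H ⊔ Subgroup.zpowers a by rwa [hY, sup_comm] at hy)
    obtain ⟨i, rfl⟩ := Subgroup.mem_zpowers_iff.1 hw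
    exact ⟨i, k, hk, rfl⟩
  -- a Sylow subgroup of `Y` inside `T`
  obtain ⟨U, hU⟩ := ((T.2.to_le (show (T : Subgroup X) ⊓ Y ≤ T from inf_le_left)).comap_subtype :
    IsPGroup 2 (((T : Subgroup X) ⊓ Y).subgroupOf Y)).exists_le_sylow
  have hUT : ∀ u : Y, u ∈ U → (u : X) ∈ T := by
    have hidx : ¬ 2 ∣ (((T : Subgroup X) ⊓ H).subgroupOf H).index := by
      rw [Subgroup.inf_subgroupOf_right]
      exact fun hd => T.not_dvd_index (hd.trans (show (T : Subgroup X).relIndex H ∣ _ by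
        have e1 := Core.card_sup_mul_card_inf (T : Subgroup X) H
        have e2 : Nat.card ((T : Subgroup X) ⊓ H : Subgroup X) * (T : Subgroup X).relIndex H = Nat.card H := by
          rw [← Subgroup.inf_relIndex_right, ← Subgroup.relIndex_bot_left, ← Subgroup.relIndex_bot_left,
            Subgroup.relIndex_mul_relIndex _ _ _ bot_le inf_le_right]
        have e3 : Nat.card (T : Subgroup X) * (T : Subgroup X).relIndex ((T : Subgroup X) ⊔ H) =
            Nat.card ((T : Subgroup X) ⊔ H : Subgroup X) := by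
          rw [← Subgroup.relIndex_bot_left, ← Subgroup.relIndex_bot_left,
            Subgroup.relIndex_mul_relIndex _ _ _ bot_le le_sup_left]
        have e : (T : Subgroup X).relIndex H = (T : Subgroup X).relIndex ((T : Subgroup X) ⊔ H) := by
          rw [← e3, ← e2] at e1
          refine (Nat.eq_of_mul_eq_mul_left (Nat.mul_pos (Nat.card_pos (α := (T : Subgroup X))) (Nat.card_pos (α := ((T : Subgroup X) ⊓ H : Subgroup X)))) ?_).symm
          rw [mul_right_comm, e1, mul_assoc]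
        exact e ▸ Subgroup.relIndex_dvd_index_of_le le_sup_left))
    intro u hu
    obtain ⟨i, k, hk, he⟩ := hdec u u.2
    have hai : (⟨a ^ i, zpow_mem haY i⟩ : Y) ∈ U :=
      hU ⟨zpow_mem (hAT ha) i, zpow_mem haY i⟩
    have hkU : (⟨k, hHY hk⟩ : Y) ∈ U := by
      have : (⟨k, hHY hk⟩ : Y) = u * ⟨a ^ i, zpow_mem haY i⟩⁻¹ := Subtype.ext (by simp [he])
      rw [this]
      exact mul_mem hu (inv_mem hai)
    set W : Subgroup X := ((U : Subgroup Y).map Y.subtype) ⊓ H with hW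
    have hTW : (T : Subgroup X) ⊓ H ≤ W := fun w hw =>
      ⟨⟨⟨w, hHY hw.2⟩, hU ⟨hw.1, hHY hw.2⟩, rfl⟩, hw.2⟩
    have hWp : IsPGroup 2 W := (U.2.map Y.subtype).to_le inf_le_left
    have hWT : (T : Subgroup X) ⊓ H = W := by
      refine Subgroup.eq_of_le_of_card_ge hTW ?_
      obtain ⟨Q, hQ⟩ := (hWp.comap_subtype : IsPGroup 2 (W.subgroupOf H)).exists_le_sylow
      have hPs : Nat.card (((T : Subgroup X) ⊓ H).subgroupOf H) = Nat.card Q :=
        Nat.card_congr (Sylow.equiv (((T.2.to_le (show (T : Subgroup X) ⊓ H ≤ T from inf_le_left)).comap_subtype :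
          IsPGroup 2 (((T : Subgroup X) ⊓ H).subgroupOf H)).toSylow hidx) Q).toEquiv
      have := Subgroup.card_le_of_le (show W.subgroupOf H ≤ (Q : Subgroup H) from hQ)
      rw [← hPs] at this
      rw [Nat.card_congr (Subgroup.subgroupOfEquivOfLe (show (T : Subgroup X) ⊓ H ≤ H from inf_le_right)).toEquiv,
        Nat.card_congr (Subgroup.subgroupOfEquivOfLe (show W ≤ H from inf_le_right)).toEquiv] at this
      exact this
    have : k ∈ (T : Subgroup X) ⊓ H := hWT ▸ ⟨⟨_, hkU, rfl⟩, hk⟩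
    rw [he]
    exact mul_mem this.1 (zpow_mem (hAT ha) i)
  have key := Invol.zstar_elt U (x := (⟨a, haY⟩ : Y)) (hU ⟨hAT ha, haY⟩) (fun y hy g hg => by
    obtain ⟨i, rfl⟩ := Subgroup.mem_zpowers_iff.1 hy
    refine Subtype.ext ?_
    obtain ⟨j, k, hk, hg'⟩ := hdec g g.2
    have hm : (g : X) * a ^ i * (g : X)⁻¹ ∈ T := by simpa using hUT _ hg
    have hmA := hA _ (zpow_mem ha i) g hm
    have he : (g : X) * a ^ i * (g : X)⁻¹ = k * a ^ i * k⁻¹ := by rw [hg']; group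
    rw [he] at hmA
    simpa [he] using hsame _ (zpow_mem ha i) k hk hmA) ⟨h, hHY hh⟩
  haveI : (H.subgroupOf Y).Normal := inferInstance
  have hz : Cfsg.pPrimeCore 2 Y ⊓ H.subgroupOf Y = ⊥ := by
    rw [← Core.map_pPrimeCore_normal]
    have h1 := Core.map_pPrimeCore (p := 2) (Subgroup.subgroupOfEquivOfLe hHY)
    rw [show Cfsg.pPrimeCore 2 H = ⊥ from hO, Subgroup.map_eq_bot_iff_of_injective _
      (Subgroup.subgroupOfEquivOfLe hHY).injective] at h1
    rw [h1, Subgroup.map_bot]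
  have hm : (⟨a, haY⟩ : Y) * ⟨h, hHY hh⟩ * (⟨a, haY⟩ : Y)⁻¹ * (⟨h, hHY hh⟩ : Y)⁻¹ ∈
      Cfsg.pPrimeCore 2 Y ⊓ H.subgroupOf Y := ⟨key,
    mul_mem (Subgroup.Normal.conj_mem ‹H.Normal› h hh a) (H.inv_mem hh)⟩
  rw [hz, Subgroup.mem_bot, mul_inv_eq_one, mul_inv_eq_iff_eq_mul] at hm
  exact congrArg Subtype.val hm

/-- Let S be a Sylow 2-subgroup of the finite group G and A ≤ S strongly closed in S. If H is a subgroup normalized by A with no nontrivial normal subgroup of odd order and A ∩ H = 1, then A ≤ C_G(H). -/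
theorem result {G : Type*} [Group G] [Finite G] (S : Sylow 2 G) (A : Subgroup G) (hA : Cfsg.IsStronglyClosed A (S : Subgroup G)) (H : Subgroup G) (hAH : A ≤ Subgroup.normalizer (H : Set G)) (hO : Cfsg.oddCore ↥H = ⊥) (hdisj : A ⊓ H = ⊥) : A ≤ Subgroup.centralizer (H : Set G) := by
  intro a ha
  refine Subgroup.mem_centralizer_iff.2 fun h hh => ?_
  set X := A ⊔ H with hX
  have hAX : A ≤ X := le_sup_left
  have hHX : H ≤ X := le_sup_right
  have hXN : X ≤ Subgroup.normalizer (H : Set G) := sup_le hAH Subgroup.le_normalizer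
  haveI : (H.subgroupOf X).Normal := Subgroup.normal_subgroupOf_of_le_normalizer hXN
  obtain ⟨T, hT⟩ := ((S.2.to_le hA.1).comap_subtype : IsPGroup 2 (A.subgroupOf X)).exists_le_sylow
  obtain ⟨Q, hQ⟩ := (T.2.map X.subtype).exists_le_sylow
  obtain ⟨g, hg⟩ := MulAction.exists_smul_eq G Q S
  have hgS : ∀ q ∈ Q, g * q * g⁻¹ ∈ S := fun q hq => by
    rw [← hg]
    show g * q * g⁻¹ ∈ ((g • Q : Sylow 2 G) : Subgroup G)
    rw [Sylow.coe_subgroup_smul]
    exact ⟨q, hq, rfl⟩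
  have hgA : ∀ b ∈ A, g * b * g⁻¹ ∈ A := fun b hb =>
    hA.2 b hb g (hgS b (hQ ⟨⟨b, hAX hb⟩, hT hb, rfl⟩))
  have hgA' : ∀ b : G, g * b * g⁻¹ ∈ A → b ∈ A := fun b hb => by
    have hmap : A.map (MulAut.conj g).toMonoidHom = A :=
      Subgroup.eq_of_le_of_card_ge (by rintro _ ⟨c, hc, rfl⟩; exact hgA c hc)
        (le_of_eq (Nat.card_congr (A.equivMapOfInjective _ (MulAut.conj g).injective).toEquiv))
    rw [← hmap] at hb
    obtain ⟨c, hc, e⟩ := hb
    exact ((MulAut.conj g).injective e) ▸ hc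
  have := core T (A.subgroupOf X) (H.subgroupOf X) hT
    (fun b hb x hx => hgA' _ (by
      have h1 := hgS _ (hQ ⟨_, hx, rfl⟩)
      have h2 := hA.2 (b : G) hb (g * (x : G)) (show _ ∈ (S : Subgroup G) by
        simpa [mul_assoc] using (show _ ∈ (S : Subgroup G) from h1))
      simpa [mul_assoc] using h2))
    (by rw [← Subgroup.subgroupOf_sup hAX hHX, Subgroup.subgroupOf_self])
    (by rw [Subgroup.subgroupOf, Subgroup.subgroupOf, ← Subgroup.comap_inf, hdisj]; exact Subgroup.bot_subgroupOf X)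
    (by
      have h1 := Cfsg.Agent.Core.map_pPrimeCore (p := 2) (Subgroup.subgroupOfEquivOfLe hHX)
      rwa [show Cfsg.pPrimeCore 2 H = ⊥ from hO, Subgroup.map_eq_bot_iff_of_injective _
        (Subgroup.subgroupOfEquivOfLe hHX).injective] at h1)
    (a := ⟨a, hAX ha⟩) ha (h := ⟨h, hHX hh⟩) hh
  exact (congrArg Subtype.val this.eq).symm

end Cfsg.Agent.S1251
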