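import Cfsg.Statements.S2989
import Cfsg.Agent.PushRankOne.CLPush

set_option autoImplicit false
open Cfsg
open scoped commutatorElement

namespace Cfsg.Agent.S2989

/-- Let G be a finite group and S a Sylow p-subgroup of G in the basic pushing-up situation (G ≠ 1, C_G(O_p(G)) ≤ O_p(G), S lies in a unique maximal subgroup of G, and some quotient of G is isomorphic to PSL₂ over a field of order a power of p), and suppose that S centralizes Z(J(S)), where J(S) is generated by the abelian subgroups of S of largest order (that is, J̃(S) = C_S(Z(J(S))) = S). Call a subgroup R of S centrally large if |R|·|Z(R)| is as large as possible among subgroups of S, and let S_Φ be the subgroup generated by the Frattini subgroups Φ(Q) of those minimal centrally large subgroups Q of S whose Ω₁(Z(Q)) has the largest order among minimal centrally large subgroups. Then Z(S) or S_Φ is normal in G; and if S_Φ = 1, the minimal centrally large subgroups of S are exactly the abelian subgroups of S of largest order,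 and at least one of them is elementary abelian. -/
theorem result {G : Type*} [Group G] [Finite G] {p : ℕ} [Fact p.Prime] (S : Subgroup G) (hE : Cfsg.IsPushingUpSituation p S) (hJ : S ≤ Subgroup.centralizer (Cfsg.centerThompsonAOf S : Set G)) : ((S ⊓ Subgroup.centralizer (S : Set G)).Normal ∨ ((Cfsg.frattiniOfMinimalCLJoin p ↥S).map S.subtype).Normal) ∧ (Cfsg.frattiniOfMinimalCLJoin p ↥S = ⊥ → (∀ Q : Subgroup ↥S, Cfsg.IsMinimalCentrallyLarge Q ↔ Q ∈ Cfsg.maxAbelianSubgroups ↥S) ∧ ∃ A ∈ Cfsg.maxAbelianSubgroups ↥S, Cfsg.IsElementaryAbelian p A) := by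
  refine ⟨?_, fun hbot => ?_⟩
  · obtain ⟨-, ⟨P, rfl⟩, hC, huniq, K, hK, F, iF, iFt, n, hF, hiso⟩ := hE
    haveI := hK
    obtain ⟨M, hs⟩ := PushRankOne.setup_of_iso P hC huniq K F n hF hiso
    by_cases hc : (P : Subgroup G) ⊓ Subgroup.centralizer ((P : Subgroup G) : Set G) ≤ Subgroup.center G
    · exact Or.inl ⟨fun z hz g => by
        rw [Subgroup.mem_center_iff.1 (hc hz) g, mul_inv_cancel_right]; exact hz⟩
    refine Or.inr ⟨fun x hx g => ?_⟩
    unfold Cfsg.frattiniOfMinimalCLJoin at hx ⊢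
    rw [Subgroup.map_iSup] at hx ⊢
    refine (iSup_le fun T => ?_ : _ ≤ (⨆ T : {T : Subgroup ↥(P : Subgroup G) //
      Cfsg.IsMinimalCentrallyLarge T ∧ Nat.card ↥(Cfsg.omegaOneCenter p T) =
        Cfsg.maxOmegaCenterOfMinimalCL p ↥(P : Subgroup G)},
        ((frattini ↥(T : Subgroup ↥(P : Subgroup G))).map (T : Subgroup ↥(P : Subgroup G)).subtype).map
          (P : Subgroup G).subtype).comap (MulAut.conj g).toMonoidHom) hx
    rw [← PushRankOne.phi_map (P : Subgroup G).subtype_injective, ← Subgroup.map_le_iff_le_comap]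
    obtain ⟨T₁, hT₁, hT₁Q, hle⟩ := PushRankOne.big_push hs hJ hc ((PushRankOne.big_map_iff _).1 T.2)
    have hcj := hT₁.1.cj hT₁Q (Core.pCore_le_sylow P) g
    have hbig : PushRankOne.Big p (P : Subgroup G) (Offender.cj g T₁) :=
      ⟨hcj.1, fun T' hT' => (hT₁.2 T' hT').trans (PushRankOne.oz_cj g T₁).ge⟩
    have hsub := Subgroup.map_subgroupOf_eq_of_le hbig.1.1.1
    rw [← hsub] at hbig
    refine le_trans (le_trans (Subgroup.map_mono hle) ?_) (le_iSup _ ⟨_, (PushRankOne.big_map_iff _).2 hbig⟩)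
    rw [← PushRankOne.phi_map (P : Subgroup G).subtype_injective]
    dsimp only
    rw [hsub]
    exact le_of_eq (PushRankOne.phi_map (MulAut.conj g).injective T₁).symm
  · obtain ⟨Q, hQ, hmax⟩ := Set.exists_max_image {Q : Subgroup ↥S | Cfsg.IsMinimalCentrallyLarge Q}
      (fun Q => Nat.card (Cfsg.omegaOneCenter p Q)) (Set.toFinite _) (by
        obtain ⟨R, hR⟩ := CentLarge.exists_isCentrallyLarge (G := ↥S)
        obtain ⟨Q, -, hQ⟩ := CentLarge.exists_isMinimalCentrallyLarge_le hR
        exact ⟨Q, hQ⟩)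
    have hbig : Nat.card (Cfsg.omegaOneCenter p Q) = Cfsg.maxOmegaCenterOfMinimalCL p ↥S := by
      refine le_antisymm (le_csSup ⟨Nat.card (Cfsg.omegaOneCenter p Q), ?_⟩ ⟨Q, hQ, rfl⟩)
        (csSup_le' ?_)
      all_goals
        rintro k ⟨R, hR, rfl⟩
        exact hmax R hR
    have hphi : (frattini ↥Q).map Q.subtype = ⊥ := le_bot_iff.1 (hbot ▸
      le_iSup (fun R : {R : Subgroup ↥S // Cfsg.IsMinimalCentrallyLarge R ∧
        Nat.card ↥(Cfsg.omegaOneCenter p R) = Cfsg.maxOmegaCenterOfMinimalCL p ↥S} =>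
        (frattini ↥(R : Subgroup ↥S)).map (R : Subgroup ↥S).subtype) ⟨Q, hQ, hbig⟩)
    rw [Subgroup.map_eq_bot_iff_of_injective _ Q.subtype_injective] at hphi
    obtain ⟨-, ⟨P, rfl⟩, -⟩ := hE
    have hQp : IsPGroup p ↥Q := P.2.to_subgroup Q
    haveI := hQp.isNilpotent
    have hab : Q ≤ Subgroup.centralizer (Q : Set ↥(P : Subgroup G)) := fun a ha =>
      Subgroup.mem_centralizer_iff.2 fun b hb => by
        have h1 := Core.commutator_le_frattini
          (Subgroup.commutator_mem_commutator (Subgroup.mem_top (⟨b, hb⟩ : ↥Q)) (Subgroup.mem_top ⟨a, ha⟩))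
        rw [hphi, Subgroup.mem_bot, commutatorElement_eq_one_iff_mul_comm] at h1
        exact congrArg Subtype.val h1
    have hpow : ∀ a ∈ Q, a ^ p = 1 := fun a ha => by
      have h1 := Core.pow_mem_frattini hQp ⟨a, ha⟩
      rw [hphi, Subgroup.mem_bot] at h1
      exact congrArg Subtype.val h1
    have hiff := CentLarge.minimal_iff_maxAbelian hQ
      (CentLarge.isMulCommutative_iff_le_centralizer.2 hab)
    exact ⟨hiff, Q, (hiff Q).1 hQ, Thompson.ea_iff.2 ⟨hab, hpow⟩⟩


end Cfsg.Agent.S2989
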