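import Cfsg.Statements.S2990
import Cfsg.Agent.PushRankOne.CLPush

set_option autoImplicit false
open Cfsg
open scoped commutatorElement

namespace Cfsg.Agent.S2990

/-- Let G be a finite group and S a Sylow p-subgroup of G in the basic pushing-up situation (G ≠ 1, C_G(O_p(G)) ≤ O_p(G), S lies in a unique maximal subgroup of G, and some quotient of G is isomorphic to PSL₂ over a field of order a power of p), and suppose that S centralizes Z(J(S)), where J(S) is generated by the abelian subgroups of S of largest order (that is, J̃(S) = C_S(Z(J(S))) = S). Call a subgroup R of S centrally large if |R|·|Z(R)| is as large as possible among subgroups of S, let Q be a minimal centrally large subgroup of S and let S_MCL be the subgroup generated by all minimal centrally large subgroups of S. Then the derived subgroup [Q, Q] is characteristic in S; Z(S) ∩ [Q, Q] or S_MCL is normal in G; and if [Q, Q] = 1, the minimal centrally large subgroups of S are exactly the abelian subgroups of S of largest order. -/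
theorem result {G : Type*} [Group G] [Finite G] {p : ℕ} [Fact p.Prime] (S : Subgroup G) (hE : Cfsg.IsPushingUpSituation p S) (hJ : S ≤ Subgroup.centralizer (Cfsg.centerThompsonAOf S : Set G)) (Q : Subgroup ↥S) (hQ : Cfsg.IsMinimalCentrallyLarge Q) : (⁅Q, Q⁆).Characteristic ∧ (((S ⊓ Subgroup.centralizer (S : Set G)) ⊓ (⁅Q, Q⁆).map S.subtype).Normal ∨ ((Cfsg.minimalCentrallyLargeJoin ↥S).map S.subtype).Normal) ∧ (⁅Q, Q⁆ = ⊥ → ∀ R : Subgroup ↥S, Cfsg.IsMinimalCentrallyLarge R ↔ R ∈ Cfsg.maxAbelianSubgroups ↥S) := by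
  have hchar : (⁅Q, Q⁆).Characteristic := by
    refine Subgroup.characteristic_iff_map_eq.2 fun φ => ?_
    have hQ' : Cfsg.IsMinimalCentrallyLarge (Q.map φ.toMonoidHom) := by
      have hcl : ∀ R : Subgroup ↥S, Cfsg.IsCentrallyLarge R →
          Cfsg.IsCentrallyLarge (R.map φ.toMonoidHom) := fun R hR => by
        rw [CentLarge.isCentrallyLarge_iff] at hR ⊢
        refine ⟨hR.1.map φ, ?_⟩
        rw [CentLarge.centralizer_map φ R]
        exact Subgroup.map_mono hR.2
      obtain ⟨T, hT, hTm⟩ := CentLarge.exists_isMinimalCentrallyLarge_le (hcl Q hQ.1)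
      have e := (CentLarge.card_eq_of_minimal hTm hQ).1
      rwa [Subgroup.eq_of_le_of_card_ge hT
        (by rw [e, Subgroup.card_map_of_injective φ.injective])] at hTm
    rw [Subgroup.map_commutator]
    exact le_antisymm
      ((CentLarge.commutator_le_inf hQ' hQ).trans (Subgroup.commutator_mono inf_le_right inf_le_right))
      ((CentLarge.commutator_le_inf hQ hQ').trans (Subgroup.commutator_mono inf_le_right inf_le_right))
  refine ⟨hchar, ?_, fun h => CentLarge.minimal_iff_maxAbelian hQ
    (CentLarge.isMulCommutative_iff_le_centralizer.2 (Subgroup.commutator_eq_bot_iff_le_centralizer.1 h))⟩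
  obtain ⟨-, ⟨P, rfl⟩, hC, huniq, K, hK, F, iF, iFt, n, hF, hiso⟩ := hE
  haveI := hK
  obtain ⟨M, hs⟩ := PushRankOne.setup_of_iso P hC huniq K F n hF hiso
  rw [Subgroup.map_commutator]
  set R := Q.map (P : Subgroup G).subtype with hR
  have hRm : PushRankOne.MCL (P : Subgroup G) R := (PushRankOne.mcl_map_iff Q).1 hQ
  by_cases hc : (P : Subgroup G) ⊓ Subgroup.centralizer ((P : Subgroup G) : Set G) ⊓ ⁅R, R⁆ ≤ Subgroup.center G
  · exact Or.inl ⟨fun z hz g => by
      rw [Subgroup.mem_center_iff.1 (hc hz) g, mul_inv_cancel_right]; exact hz⟩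
  refine Or.inr ?_
  have hall := PushRankOne.mcl_push hs hJ hRm hc
  refine ⟨fun x hx g => ?_⟩
  have hle : (Cfsg.minimalCentrallyLargeJoin ↥(P : Subgroup G)).map (P : Subgroup G).subtype ≤
      ((Cfsg.minimalCentrallyLargeJoin ↥(P : Subgroup G)).map (P : Subgroup G).subtype).comap
        (MulAut.conj g).toMonoidHom := by
    rw [Subgroup.map_le_iff_le_comap]
    refine sSup_le fun T hT => ?_
    rw [← Subgroup.map_le_iff_le_comap]
    intro t ht
    have hT' : PushRankOne.MCL (P : Subgroup G) (T.map (P : Subgroup G).subtype) :=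
      (PushRankOne.mcl_map_iff T).1 hT
    have hc := hT'.cj (hall _ hT') (Core.pCore_le_sylow P) g
    have hm : g * t * g⁻¹ ∈ Offender.cj g (T.map (P : Subgroup G).subtype) :=
      Offender.mem_cj.2 (by simpa [mul_assoc] using ht)
    exact ⟨⟨_, hc.1.1.1 hm⟩, le_sSup (s := {R | Cfsg.IsMinimalCentrallyLarge R}) hc.1.subgroupOf hm, rfl⟩
  exact hle hx


end Cfsg.Agent.S2990
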