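import Cfsg.Statements.S1121
import Cfsg.Agent.RankOne.Basic
-- import your own Cfsg.Agent.* helpers here

set_option autoImplicit false
open Cfsg
open Cfsg.Agent
open scoped commutatorElement Pointwise

namespace Cfsg.Agent.S1121

/-- In the rank-one set-up (`G` finite and doubly transitive on `Ω`, `t` an involution moving `a`, `Q` normal in `G_a` with `G_a = Q D`, `Q ⊓ D = 1` for the two-point stabiliser `D = G_a ⊓ G_{t • a}`, `|Q|` even, `|D|` odd): if `s` is an involution of `G_a` and `u` an involution outside `G_a`, then `s u` has odd order; and any two involutions of `G` are conjugate. -/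
theorem result {G Ω : Type*} [Group G] [Finite G] [MulAction G Ω] {a : Ω} {t : G} {Q : Subgroup G}
    (hS : Cfsg.IsRankOneSetup G Ω a t Q) :
    (∀ s u : G, s ∈ MulAction.stabilizer G a → s ≠ 1 → s * s = 1 → u ∉ MulAction.stabilizer G a → u ≠ 1 → u * u = 1 → Odd (orderOf (s * u))) ∧
      ∀ u v : G, u ≠ 1 → u * u = 1 → v ≠ 1 → v * v = 1 → ∃ g : G, g * u * g⁻¹ = v := by
  refine ⟨fun s u hs hs1 hs2 hu hu1 hu2 => ?_,
    fun u v hu1 hu hv1 hv => RankOne.invol_conj_t hS hu1 hu hv1 hv⟩
  by_contra hodd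
  obtain ⟨k, hk⟩ := Nat.not_odd_iff_even.mp hodd
  have hk0 : 0 < k := by have := orderOf_pos (s * u); omega
  set z := (s * u) ^ k with hz
  have hz2 : z * z = 1 := by rw [hz, ← pow_add, ← hk, pow_orderOf_eq_one]
  have hz1 : z ≠ 1 := pow_ne_one_of_lt_orderOf (by omega) (by omega)
  have hzi : z⁻¹ = z := inv_eq_of_mul_eq_one_right hz2
  have hsi : s⁻¹ = s := inv_eq_of_mul_eq_one_right hs2
  have hui : u⁻¹ = u := inv_eq_of_mul_eq_one_right hu2
  have hsz : Commute s z := by
    have h1 : s * (s * u) * s⁻¹ = (s * u)⁻¹ := by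
      rw [mul_inv_rev, hsi, hui, ← mul_assoc, hs2, one_mul]
    have h2 : s * z * s⁻¹ = z := by
      rw [hz, ← MulAut.conj_apply, map_pow, MulAut.conj_apply, h1, inv_pow, ← hz, hzi]
    exact mul_inv_eq_iff_eq_mul.mp h2
  have hzu : Commute z u := by
    have h : Commute z (s * u) := (Commute.refl _).pow_left _
    have := (hsz.symm.mul_right h)
    rwa [← mul_assoc, hs2, one_mul] at this
  have hza := RankOne.commute_fixed_point hS hs2 hs1 (show s • a = a from hs) hsz
  exact hu (RankOne.commute_fixed_point hS hz2 hz1 hza hzu)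

end Cfsg.Agent.S1121
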