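import Cfsg.Statements.S1618
import Cfsg.Agent.S5560
import Cfsg.Agent.Core.PCore
import Cfsg.Agent.Invol.Pair

set_option autoImplicit false
open Cfsg

namespace Cfsg.Agent.S1618

/-- A group generated by a class of involutions whose pairwise products (of distinct members) have p-power order for a fixed odd prime p has nilpotent derived subgroup. -/
theorem result {G : Type*} [Group G] [Finite G] (p : ℕ) (hp : p.Prime) (hodd : p ≠ 2) {D : Set G} (hinv : ∀ d ∈ D, orderOf d = 2) (hconj : ∃ d ∈ D, D = conjugatesOf d) (hgen : Subgroup.closure D = ⊤) (hprod : ∀ x ∈ D, ∀ y ∈ D, x ≠ y → ∃ k : ℕ, orderOf (x * y) = p ^ k) : Group.IsNilpotent ↥(commutator G) := by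
  obtain ⟨d, hdD, rfl⟩ := hconj
  have hd := hinv d hdD
  have hprod' : ∀ a ∈ conjugatesOf d, ∀ b ∈ conjugatesOf d, ∃ k : ℕ, orderOf (a * b) = p ^ k := by
    intro a ha b hb
    rcases eq_or_ne a b with rfl | hne
    · exact ⟨0, by rw [Invol.mul_self_eq_one (hinv a ha), orderOf_one, pow_zero]⟩
    · exact hprod a ha b hb hne
  have hmem := S5560.result hp hodd d hd hprod'
  set π := QuotientGroup.mk' (pCore p G)
  have hle : commutator G ≤ pCore p G := by
    rw [← QuotientGroup.ker_mk' (pCore p G)]
    have hcyc : ∀ x : G, π x ∈ Subgroup.zpowers (π d) := by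
      intro x
      have : x ∈ (Subgroup.zpowers (π d)).comap π := by
        refine (Subgroup.closure_le _).2 ?_ (hgen ▸ Subgroup.mem_top x)
        intro a ha
        have h1 : π (a * d) = 1 := (QuotientGroup.eq_one_iff _).2 (hmem a ha d mem_conjugatesOf_self)
        rw [map_mul, mul_eq_one_iff_eq_inv] at h1
        rw [SetLike.mem_coe, Subgroup.mem_comap, h1]
        exact inv_mem (Subgroup.mem_zpowers _)
      exact this
    refine Subgroup.commutator_le.2 fun a _ b _ => ?_
    rw [MonoidHom.mem_ker, map_commutatorElement, commutatorElement_eq_one_iff_commute]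
    obtain ⟨i, hi⟩ := hcyc a
    obtain ⟨j, hj⟩ := hcyc b
    exact hi ▸ hj ▸ Commute.zpow_zpow_self (π d) i j
  haveI : Fact p.Prime := ⟨hp⟩
  exact (Core.pCore_isPGroup.to_le hle).isNilpotent

end Cfsg.Agent.S1618
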