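import Cfsg.Statements.S2475
-- import your own Cfsg.Agent.* helpers here

import Cfsg.Agent.SL2Class.PSL

set_option autoImplicit false
open Cfsg

namespace Cfsg.Agent.S2475

open Matrix SL2Class


/-- The set of element orders of PSL(2,q): let F be a finite field of characteristic p with q ≥ 4 elements and d = gcd(2, q − 1). The orders of elements of PSL(2,F) are exactly the divisors of p, of (q − 1)/d and of (q + 1)/d. -/
theorem result {F : Type*} [Field F] [Fintype F] (p : ℕ) [Fact p.Prime] [CharP F p] (h4 : 4 ≤ Fintype.card F) :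
    Set.range (orderOf : Matrix.ProjectiveSpecialLinearGroup (Fin 2) F → ℕ) =
      {m : ℕ | m ∣ p ∨ m ∣ (Fintype.card F - 1) / Nat.gcd 2 (Fintype.card F - 1) ∨ m ∣ (Fintype.card F + 1) / Nat.gcd 2 (Fintype.card F - 1)} := by
  classical
  have hq := Fintype.one_lt_card (α := F)
  ext m
  simp only [Set.mem_range, Set.mem_setOf_eq]
  constructor
  · rintro ⟨g, rfl⟩
    obtain ⟨x, rfl⟩ := proj_surjective g
    exact orderOf_proj_dvd x p
  · intro hm
    have key : ∀ (x : Matrix.SpecialLinearGroup (Fin 2) F) (n : ℕ), orderOf (proj x) = n → n ≠ 0 → m ∣ n →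
        ∃ g : Matrix.ProjectiveSpecialLinearGroup (Fin 2) F, orderOf g = m := fun x n hx hn hmn =>
      ⟨proj x ^ (n / m), by rw [← hx]; exact orderOf_pow_orderOf_div (hx ▸ hn) (hx ▸ hmn)⟩
    rcases hm with hm | hm | hm
    · refine key (comp 2) p ?_ (Fact.out : p.Prime).ne_zero hm
      refine orderOf_eq_prime ?_ fun e => mem_center_iff.1 (proj_eq_one.1 e) (nonScalar_comp 2)
      rw [← map_pow, proj_eq_one]
      exact pow_tr_eq_four (by rw [tr_comp]; norm_num) p
    · obtain ⟨t, r, hr, ht⟩ := exists_split (F := F) h4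
      obtain ⟨x, hx⟩ := exists_orderOf_proj (g := comp t) (by rwa [tr_comp])
        (card_cent_split (r := r) (by rwa [tr_comp]) (by rwa [tr_comp])) (by omega)
      refine key x _ hx ?_ hm
      exact (Nat.div_pos (Nat.le_of_dvd (by omega) (Nat.gcd_dvd_right 2 _)) (Nat.gcd_pos_of_pos_left _ two_pos)).ne'
    · obtain ⟨t, ht⟩ := exists_noRoot (F := F)
      have hs : tr (comp t) * tr (comp t) ≠ 4 := by
        rw [tr_comp]
        by_cases h2 : (2 : F) = 0
        · intro e
          refine ht 1 ?_
          linear_combination h2 - ((sq_eq_four_iff_even h2 t).1 e)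
        · exact sq_ne_four_of_noRoot h2 ht
      obtain ⟨x, hx⟩ := exists_orderOf_proj hs
        (card_cent_noRoot (by rwa [tr_comp]) (nonScalar_comp t)) (by omega)
      refine key x _ hx ?_ hm
      exact (Nat.div_pos ((Nat.le_of_dvd two_pos (Nat.gcd_dvd_left 2 _)).trans (by omega))
        (Nat.gcd_pos_of_pos_left _ two_pos)).ne'

end Cfsg.Agent.S2475
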