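import Cfsg.Statements.S2455
-- import your own Cfsg.Agent.* helpers here

import Cfsg.Agent.SL2Class.PSL

set_option autoImplicit false
open Cfsg

namespace Cfsg.Agent.S2455

open Matrix SL2Class

section

variable {F : Type*} [Field F]

local notation "SG" => Matrix.SpecialLinearGroup (Fin 2) F
local notation "PG" => Matrix.ProjectiveSpecialLinearGroup (Fin 2) F

/-- The element used as the first factor. -/
def uu (t : F) (ν : Fˣ) (a b c : F) (h : a * (t - a) - b * c = 1) : SG :=
  ⟨!![a, (ν : F) * b; ((ν⁻¹ : Fˣ) : F) * c, t - a], by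
    rw [det_fin_two_of]
    have e : (ν : F) * ((ν⁻¹ : Fˣ) : F) = 1 := by rw [← Units.val_mul, mul_inv_cancel, Units.val_one]
    linear_combination h - b * c * e⟩

theorem tr_uu (t : F) (ν : Fˣ) (a b c : F) (h : a * (t - a) - b * c = 1) : tr (uu t ν a b c h) = t := by
  simp [tr, uu]

theorem tr_uu_inv_mul (t s : F) (ν : Fˣ) (a b c : F) (h : a * (t - a) - b * c = 1) :
    tr ((uu t ν a b c h)⁻¹ * compT s ν) = -b + c + a * s := by
  have e : (ν : F) * ((ν⁻¹ : Fˣ) : F) = 1 := by rw [← Units.val_mul, mul_inv_cancel, Units.val_one]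
  rw [tr, Matrix.SpecialLinearGroup.coe_mul, Matrix.SpecialLinearGroup.coe_inv, coe_compT]
  simp [uu, Matrix.adjugate_fin_two, Matrix.mul_apply, Fin.sum_univ_two]
  field_simp
  ring

theorem product_of_two [Fintype F] {x : SG} (hx : tr x * tr x ≠ 4) {h : SG} {s : F} {ν : Fˣ}
    (hh : IsConj (compT s ν) h) {a b c : F} (hdet : a * (tr x - a) - b * c = 1)
    (htr : -b + c + a * s = tr x ∨ -b + c + a * s = -tr x) :
    ∃ u v : PG, proj h = (u * proj x * u⁻¹) * (v * proj x * v⁻¹) := by
  have key : ∀ y : SG, tr y = tr x ∨ tr y = -tr x → ∃ u : PG, proj y = u * proj x * u⁻¹ := by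
    intro y hy
    rcases hy with e | e
    · obtain ⟨k, hk⟩ := isConj_iff.1 (isConj_of_tr (nonScalar_of_sq_ne hx)
        (nonScalar_of_sq_ne (by rw [e]; exact hx)) e.symm (Or.inl hx))
      exact ⟨proj k, by rw [← map_inv, ← map_mul, ← map_mul, hk]⟩
    · have hn : tr (-x) * tr (-x) ≠ 4 := by rw [tr_neg, neg_mul_neg]; exact hx
      obtain ⟨k, hk⟩ := isConj_iff.1 (isConj_of_tr (nonScalar_of_sq_ne hn)
        (nonScalar_of_sq_ne (by rw [e, neg_mul_neg]; exact hx)) (by rw [tr_neg, e]) (Or.inl hn))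
      refine ⟨proj k, ?_⟩
      rw [← hk, map_mul, map_mul, map_inv, show proj (-x) = proj x from (proj_eq_iff.2 (Or.inr rfl)).symm]
  obtain ⟨k, rfl⟩ := isConj_iff.1 hh
  obtain ⟨u, hu⟩ := key (uu (tr x) ν a b c hdet) (Or.inl (tr_uu _ _ _ _ _ _))
  obtain ⟨v, hv⟩ := key ((uu (tr x) ν a b c hdet)⁻¹ * compT s ν) (by rw [tr_uu_inv_mul]; exact htr)
  refine ⟨proj k * u, proj k * v, ?_⟩
  have hcv : proj (compT s ν) = proj (uu (tr x) ν a b c hdet) * (v * proj x * v⁻¹) := by
    rw [← hv, ← map_mul, mul_inv_cancel_left]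
  rw [map_mul, map_mul, map_inv, hcv, hu]
  group

end


/-- A strong covering result in the direction of Thompson's conjecture (non-identity elements) for PSL(2,q), q odd: let F be a finite field of odd characteristic p with at least 5 elements and let x ∈ PSL(2,F) have order greater than 2 and not divisible by p (so x is not unipotent). Then every non-identity element of PSL(2,F) is a product of two conjugates of x. -/
theorem result {F : Type*} [Field F] [Fintype F] (p : ℕ) [Fact p.Prime] [CharP F p] (hp : p ≠ 2) (h5 : 5 ≤ Fintype.card F)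
    (x : Matrix.ProjectiveSpecialLinearGroup (Fin 2) F) (hx2 : 2 < orderOf x) (hxp : ¬ p ∣ orderOf x) : ∀ g : Matrix.ProjectiveSpecialLinearGroup (Fin 2) F, g ≠ 1 → ∃ u v : Matrix.ProjectiveSpecialLinearGroup (Fin 2) F, g = (u * x * u⁻¹) * (v * x * v⁻¹) := by
  classical
  intro g hg
  obtain ⟨x, rfl⟩ := proj_surjective x
  obtain ⟨h, rfl⟩ := proj_surjective g
  have h2 : (2 : F) ≠ 0 := fun e => hp ((Nat.prime_dvd_prime_iff_eq Fact.out Nat.prime_two).1
    ((CharP.cast_eq_zero_iff F p 2).1 (by exact_mod_cast e)))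
  set t := tr x with htdef
  have ht4 : t * t ≠ 4 := by
    intro e
    have hd : orderOf (proj x) ∣ p := orderOf_proj_dvd_iff.2 (pow_tr_eq_four e p)
    rcases (Nat.dvd_prime Fact.out).1 hd with e1 | e1
    · omega
    · exact hxp (e1 ▸ dvd_rfl)
  have ht0 : t ≠ 0 := by
    intro e
    have hxx : x ^ 2 = -1 := Subtype.ext (by
      rw [pow_two, Matrix.SpecialLinearGroup.coe_mul, g_sq, ← htdef, e, coe_neg_one]
      ext i j; simp [lin_apply])
    have hd : orderOf (proj x) ∣ 2 := orderOf_proj_dvd_iff.2 (by rw [hxx]; exact neg_one_mem_center)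
    have := Nat.le_of_dvd two_pos hd
    omega
  have hns : NonScalar h := fun hs => hg (proj_eq_one.2 (mem_center_iff.2 (fun h' => h' hs)))
  set s := tr h with hsdef
  obtain ⟨ν, hν⟩ := exists_nonsquare (F := F) h2
  obtain ⟨μ, hμ⟩ : ∃ μ : Fˣ, IsConj (compT s μ) h := by
    rcases isConj_comp_or hns hν with e | e
    · refine ⟨1, ?_⟩
      have : compT s (1 : Fˣ) = comp s := Subtype.ext (by simp [coe_compT, coe_comp])
      rw [this]; exact e
    · exact ⟨ν, e⟩
  by_cases hs : s * s = 4
  · rcases mul_self_eq_mul_self_iff.1 (show s * s = 2 * 2 by linear_combination hs) with hs2 | hs2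
    · exact product_of_two ht4 hμ (a := 1 / (2 * t)) (b := 1 / (2 * t)) (c := -t - 1 / (2 * t))
        (by rw [← htdef]; field_simp; ring) (Or.inr (by rw [← htdef, hs2]; field_simp; ring))
    · exact product_of_two ht4 hμ (a := 1 / (2 * t)) (b := -(1 / (2 * t))) (c := t + 1 / (2 * t))
        (by rw [← htdef]; field_simp; ring) (Or.inl (by rw [← htdef, hs2]; field_simp; ring))
  · have hD : (4 : F) - s * s ≠ 0 := sub_ne_zero.2 (Ne.symm hs)
    obtain ⟨X, b, hXb⟩ := FiniteField.exists_root_sum_quadratic (f := (Polynomial.X : Polynomial F) ^ 2)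
      (g := Polynomial.C (4 - s * s) * Polynomial.X ^ 2 + Polynomial.C (4 * t - 2 * s * t) * Polynomial.X +
        Polynomial.C (4 - t * t))
      (Polynomial.degree_X_pow 2) (Polynomial.degree_quadratic hD) (card_odd_of_two_ne_zero h2)
    simp at hXb
    set a := (X + s * b + t) / 2 with hadef
    have ha : 2 * a = X + s * b + t := by rw [hadef]; field_simp
    exact product_of_two ht4 hμ (a := a) (b := b) (c := t + b - a * s)
      (mul_left_cancel₀ (mul_ne_zero h2 h2) (by
        rw [← htdef]; linear_combination -hXb + (-(2 * a) - X + s * b + t) * ha)) (Or.inl (by rw [← htdef]; ring))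

end Cfsg.Agent.S2455
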