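import Cfsg.Statements.S0685
import Cfsg.Agent.Core.RegularLinear
-- import your own Cfsg.Agent.* helpers here

set_option autoImplicit false
open Cfsg

namespace Cfsg.Agent.S0685

/-- In a linear group over the prime field that is regular on non-zero vectors and has no irreducible cyclic normal subgroup, a maximal normal abelian subgroup is properly contained in its centraliser, which is non-abelian. -/
theorem result {p : ℕ} [Fact p.Prime] {V : Type*} [AddCommGroup V] [Module (ZMod p) V] [Finite V] (H : Subgroup (V ≃ₗ[ZMod p] V)) (hreg : ∀ v w : V, v ≠ 0 → w ≠ 0 → ∃! h : H, (h : V ≃ₗ[ZMod p] V) v = w) (hI : ∀ A : Subgroup H, A.Normal → IsCyclic A → ∃ W : Submodule (ZMod p) V, W ≠ ⊥ ∧ W ≠ ⊤ ∧ ∀ a ∈ A, ∀ v ∈ W, ((a : H) : V ≃ₗ[ZMod p] V) v ∈ W) (A : Subgroup H) (hAn : A.Normal) (hAc : IsMulCommutative A) (hAmax : ∀ B : Subgroup H, B.Normal → IsMulCommutative B → A ≤ B → B = A) : A < Subgroup.centralizer (A : Set H) ∧ ¬ IsMulCommutative (Subgroup.centralizer (A : Set H)) := by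
  rcases subsingleton_or_nontrivial V with hV | hV
  · have : Subsingleton (Submodule (ZMod p) V) :=
      ⟨fun W W' => SetLike.ext fun x => by simp [Subsingleton.elim x 0]⟩
    obtain ⟨W, hW0, -, -⟩ := hI ⊥ inferInstance inferInstance
    exact absurd (Subsingleton.elim W ⊥) hW0
  have hc := Agent.Core.abelian_cyclic H hreg hV A
  obtain ⟨W₀, h0, h1, hinv⟩ := hI A hAn hc
  have hne : Subgroup.centralizer (A : Set H) ≠ A :=
    Agent.Core.not_self_centralizing H hreg A h0 h1 fun a w hw => hinv a a.2 w hw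
  have hle : A ≤ Subgroup.centralizer (A : Set H) := fun a ha => Subgroup.mem_centralizer_iff.2
    fun b hb => congrArg Subtype.val (hAc.is_comm.comm ⟨b, hb⟩ ⟨a, ha⟩)
  refine ⟨lt_of_le_of_ne hle (Ne.symm hne), fun hcomm => hne (hAmax _ inferInstance hcomm hle)⟩

end Cfsg.Agent.S0685
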