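import Cfsg.Statements.S3335
import Mathlib
import Cfsg.Agent.Carmichael.Bound

set_option autoImplicit false
open Cfsg

namespace Cfsg.Agent.S3335

/-- A presentation of the alternating group of degree n ≥ 3 on generators x_1, …, x_{n−2} (indexed here by 0, …, n−3): the first generator cubes to 1, every other generator squares to 1, the product of two consecutive generators has order dividing 3, and the product of two generators at distance at least 2 has order dividing 2. The group so presented is isomorphic to the alternating group of degree n. -/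
theorem result (n : ℕ) (hn : 3 ≤ n) :
    Nonempty (PresentedGroup
      ({g : FreeGroup (Fin (n - 2)) | ∃ i : Fin (n - 2), i.val = 0 ∧ g = FreeGroup.of i ^ 3} ∪
       {g | ∃ i : Fin (n - 2), 1 ≤ i.val ∧ g = FreeGroup.of i ^ 2} ∪
       {g | ∃ i j : Fin (n - 2), j.val = i.val + 1 ∧ g = (FreeGroup.of i * FreeGroup.of j) ^ 3} ∪
       {g | ∃ i j : Fin (n - 2), i.val + 1 < j.val ∧ g = (FreeGroup.of i * FreeGroup.of j) ^ 2})
      ≃* alternatingGroup (Fin n)) := by
  classical
  obtain ⟨m, rfl⟩ : ∃ m, n = m + 3 := ⟨n - 3, by omega⟩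
  set rels : Set (FreeGroup (Fin (m + 3 - 2))) := {g : FreeGroup (Fin (m + 3 - 2)) | ∃ i : Fin (m + 3 - 2), i.val = 0 ∧ g = FreeGroup.of i ^ 3} ∪
       {g | ∃ i : Fin (m + 3 - 2), 1 ≤ i.val ∧ g = FreeGroup.of i ^ 2} ∪
       {g | ∃ i j : Fin (m + 3 - 2), j.val = i.val + 1 ∧ g = (FreeGroup.of i * FreeGroup.of j) ^ 3} ∪
       {g | ∃ i j : Fin (m + 3 - 2), i.val + 1 < j.val ∧ g = (FreeGroup.of i * FreeGroup.of j) ^ 2} with hrels
  let P := PresentedGroup rels
  let e : ℕ → P := fun i => if h : i < m + 3 - 2 then PresentedGroup.of ⟨i, h⟩ else 1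
  have he : ∀ i (h : i < m + 3 - 2), e i = PresentedGroup.mk rels (FreeGroup.of ⟨i, h⟩) := fun i h => dif_pos h
  have R : Cfsg.Agent.Carmichael.Rels e (m + 3 - 2) := by
    constructor
    · intro h
      rw [he 0 h, ← map_pow]
      exact PresentedGroup.one_of_mem (Or.inl (Or.inl (Or.inl ⟨_, rfl, rfl⟩)))
    · intro i h1 h
      rw [he i h, ← map_pow]
      exact PresentedGroup.one_of_mem (Or.inl (Or.inl (Or.inr ⟨_, h1, rfl⟩)))
    · intro i h
      rw [he i (by omega), he (i + 1) h, ← map_mul, ← map_pow]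
      exact PresentedGroup.one_of_mem (Or.inl (Or.inr ⟨_, _, rfl, rfl⟩))
    · intro i j h1 h
      rw [he i (by omega), he j h, ← map_mul, ← map_pow]
      exact PresentedGroup.one_of_mem (Or.inr ⟨_, _, h1, rfl⟩)
  obtain ⟨S, hS, hSeq⟩ := Cfsg.Agent.Carmichael.closure_bound _ R
  have hall : ∀ x : P, x ∈ S := fun x => by
    rw [← Finset.mem_coe, ← hSeq, SetLike.mem_coe]
    have : (⊤ : Subgroup P) ≤ Subgroup.closure (e '' Set.Iio (m + 3 - 2)) := by
      rw [← PresentedGroup.closure_range_of rels]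
      refine Subgroup.closure_mono ?_
      rintro _ ⟨i, rfl⟩
      exact ⟨i.val, i.2, dif_pos i.2⟩
    exact this (Subgroup.mem_top x)
  have hfin : Finite P := Finite.of_injective (fun x => (⟨x, hall x⟩ : S)) fun x y h => congrArg Subtype.val h
  have hcard : 2 * Nat.card P ≤ (m + 3).factorial := by
    have h1 : Nat.card P ≤ S.card := by
      rw [← Nat.card_eq_finsetCard S]
      exact Nat.card_le_card_of_injective (fun x => (⟨x, hall x⟩ : S)) fun x y h => congrArg Subtype.val h
    rw [show m + 3 - 2 + 2 = m + 3 by omega] at hS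
    omega
  -- the permutations
  let pt : ∀ i, i < m + 3 → Fin (m + 3) := fun i h => ⟨i, h⟩
  let t : Equiv.Perm (Fin (m + 3)) := Equiv.swap (pt 0 (by omega)) (pt 1 (by omega))
  let s : Fin (m + 3 - 2) → Equiv.Perm (Fin (m + 3)) := fun i => Equiv.swap (pt (i + 1) (by omega)) (pt (i + 2) (by omega))
  let f : Fin (m + 3 - 2) → Equiv.Perm (Fin (m + 3)) := fun i => t * s i
  have htt : t * t = 1 := Equiv.swap_mul_self _ _
  have hts : ∀ i : Fin (m + 3 - 2), 1 ≤ i.val → t * s i * t⁻¹ = s i := by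
    intro i hi
    show _ * Equiv.swap _ _ * _ = _
    rw [← Equiv.swap_apply_apply,
      Equiv.swap_apply_of_ne_of_ne (Fin.ne_of_val_ne (by show i.val + 1 ≠ 0; omega)) (Fin.ne_of_val_ne (by show i.val + 1 ≠ 1; omega)),
      Equiv.swap_apply_of_ne_of_ne (Fin.ne_of_val_ne (by show i.val + 2 ≠ 0; omega)) (Fin.ne_of_val_ne (by show i.val + 2 ≠ 1; omega))]
  have hts0 : ∀ i : Fin (m + 3 - 2), i.val = 0 → t * s i * t⁻¹ = Equiv.swap (pt 0 (by omega)) (pt 2 (by omega)) := by
    intro i hi
    show _ * Equiv.swap _ _ * _ = _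
    rw [← Equiv.swap_apply_apply]
    have h1 : pt (i + 1) (by omega) = pt 1 (by omega) := Fin.ext (by show i.val + 1 = 1; omega)
    have h2 : pt (i + 2) (by omega) = pt 2 (by omega) := Fin.ext (by show i.val + 2 = 2; omega)
    rw [h1, h2, Equiv.swap_apply_right, Equiv.swap_apply_of_ne_of_ne (Fin.ne_of_val_ne (by show 2 ≠ 0; omega)) (Fin.ne_of_val_ne (by show 2 ≠ 1; omega))]
  have hprod : ∀ i j : Fin (m + 3 - 2), f i * f j = t * s i * t⁻¹ * s j := fun i j => by
    simp only [f, t, Equiv.swap_inv, mul_assoc]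
  have htinv : t⁻¹ = t := Equiv.swap_inv _ _
  have hrel : ∀ r ∈ rels, FreeGroup.lift f r = 1 := by
    rintro r (((⟨i, hi, rfl⟩ | ⟨i, hi, rfl⟩) | ⟨i, j, hij, rfl⟩) | ⟨i, j, hij, rfl⟩) <;>
      rw [map_pow] <;> try rw [map_mul]
    all_goals simp only [FreeGroup.lift_apply_of]
    · have h3 : (f i).IsThreeCycle := by
        show (t * s i).IsThreeCycle
        have h1 : pt (i + 1) (by omega) = pt 1 (by omega) := Fin.ext (by show i.val + 1 = 1; omega)
        simp only [t, s]
        rw [h1, Equiv.swap_comm (pt 0 _)]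
        exact Equiv.Perm.isThreeCycle_swap_mul_swap_same (Fin.ne_of_val_ne (by show 1 ≠ 0; omega))
          (Fin.ne_of_val_ne (by show 1 ≠ i.val + 2; omega)) (Fin.ne_of_val_ne (by show 0 ≠ i.val + 2; omega))
      exact orderOf_dvd_iff_pow_eq_one.1 (dvd_of_eq h3.orderOf)
    · rw [pow_two, hprod, hts i hi]
      exact Equiv.swap_mul_self _ _
    · rw [hprod]
      have hx : pt (i + 2) (by omega) = pt (j + 1) (by omega) := Fin.ext (by show i.val + 2 = j.val + 1; omega)
      have h3 : (t * s i * t⁻¹ * s j).IsThreeCycle := by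
        rcases Nat.eq_zero_or_pos i.val with h0 | h0
        · rw [hts0 i h0]
          simp only [s]
          rw [show pt (j + 1) (by omega) = pt 2 (by omega) from Fin.ext (by show j.val + 1 = 2; omega), Equiv.swap_comm (pt 0 _)]
          exact Equiv.Perm.isThreeCycle_swap_mul_swap_same (Fin.ne_of_val_ne (by show 2 ≠ 0; omega))
            (Fin.ne_of_val_ne (by show 2 ≠ j.val + 2; omega)) (Fin.ne_of_val_ne (by show 0 ≠ j.val + 2; omega))
        · rw [hts i h0]
          simp only [s]
          rw [← hx, Equiv.swap_comm (pt (i + 1) _)]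
          exact Equiv.Perm.isThreeCycle_swap_mul_swap_same (Fin.ne_of_val_ne (by show i.val + 2 ≠ i.val + 1; omega))
            (Fin.ne_of_val_ne (by show i.val + 2 ≠ j.val + 2; omega)) (Fin.ne_of_val_ne (by show i.val + 1 ≠ j.val + 2; omega))
      exact orderOf_dvd_iff_pow_eq_one.1 (dvd_of_eq h3.orderOf)
    · rw [hprod]
      have hd : (t * s i * t⁻¹) * s j = s j * (t * s i * t⁻¹) := by
        rcases Nat.eq_zero_or_pos i.val with h0 | h0
        · rw [hts0 i h0]
          refine mul_inv_eq_iff_eq_mul.1 ?_ |>.symm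
          show Equiv.swap _ _ * Equiv.swap _ _ * (Equiv.swap _ _)⁻¹ = _
          rw [← Equiv.swap_apply_apply,
            Equiv.swap_apply_of_ne_of_ne (Fin.ne_of_val_ne (by show 0 ≠ j.val + 1; omega)) (Fin.ne_of_val_ne (by show 0 ≠ j.val + 2; omega)),
            Equiv.swap_apply_of_ne_of_ne (Fin.ne_of_val_ne (by show 2 ≠ j.val + 1; omega)) (Fin.ne_of_val_ne (by show 2 ≠ j.val + 2; omega))]
        · rw [hts i h0]
          refine mul_inv_eq_iff_eq_mul.1 ?_ |>.symm
          show Equiv.swap _ _ * Equiv.swap _ _ * (Equiv.swap _ _)⁻¹ = _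
          rw [← Equiv.swap_apply_apply,
            Equiv.swap_apply_of_ne_of_ne (Fin.ne_of_val_ne (by show i.val + 1 ≠ j.val + 1; omega)) (Fin.ne_of_val_ne (by show i.val + 1 ≠ j.val + 2; omega)),
            Equiv.swap_apply_of_ne_of_ne (Fin.ne_of_val_ne (by show i.val + 2 ≠ j.val + 1; omega)) (Fin.ne_of_val_ne (by show i.val + 2 ≠ j.val + 2; omega))]
      have hsq : ∀ k, s k * s k = 1 := fun k => Equiv.swap_mul_self _ _
      rw [pow_two, mul_assoc, ← mul_assoc (s j), ← hd]
      calc t * s i * t⁻¹ * (t * s i * t⁻¹ * s j * s j) = t * (s i * s i) * t⁻¹ * (s j * s j) := by group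
        _ = 1 := by rw [hsq, hsq]; group
  let φ : P →* Equiv.Perm (Fin (m + 3)) := PresentedGroup.toGroup hrel
  have hf : ∀ i, f i ∈ φ.range := fun i => ⟨PresentedGroup.of i, PresentedGroup.toGroup.of hrel⟩
  have hle : φ.range ≤ alternatingGroup (Fin (m + 3)) := by
    rw [MonoidHom.range_eq_map, ← PresentedGroup.closure_range_of rels, MonoidHom.map_closure, Subgroup.closure_le]
    rintro _ ⟨_, ⟨i, rfl⟩, rfl⟩
    rw [SetLike.mem_coe, Equiv.Perm.mem_alternatingGroup]
    show Equiv.Perm.sign (PresentedGroup.toGroup hrel (PresentedGroup.of i)) = 1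
    rw [PresentedGroup.toGroup.of]
    show Equiv.Perm.sign (Equiv.swap _ _ * Equiv.swap _ _) = 1
    rw [map_mul, Equiv.Perm.sign_swap (Fin.ne_of_val_ne (by show 0 ≠ 1; omega)),
      Equiv.Perm.sign_swap (Fin.ne_of_val_ne (by show i.val + 1 ≠ i.val + 2; omega))]
    rfl
  have hnorm : Subgroup.zpowers t ≤ Subgroup.normalizer (φ.range : Set (Equiv.Perm (Fin (m + 3)))) := by
    rw [Subgroup.zpowers_le]
    refine Subgroup.mem_normalizer_fintype fun x hx => ?_
    obtain ⟨g, rfl⟩ := hx
    suffices φ.range ≤ φ.range.comap (MulAut.conj t).toMonoidHom from this ⟨g, rfl⟩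
    conv_lhs => rw [MonoidHom.range_eq_map, ← PresentedGroup.closure_range_of rels, MonoidHom.map_closure]
    rw [Subgroup.closure_le]
    rintro _ ⟨_, ⟨i, rfl⟩, rfl⟩
    show t * PresentedGroup.toGroup hrel (PresentedGroup.of i) * t⁻¹ ∈ φ.range
    rw [PresentedGroup.toGroup.of]
    convert φ.range.inv_mem (hf i) using 1
    show t * (t * s i) * t⁻¹ = (t * s i)⁻¹
    rw [mul_inv_rev, htinv, ← mul_assoc t, htt, one_mul, show (s i)⁻¹ = s i from Equiv.swap_inv _ _]
  have htop : φ.range ⊔ Subgroup.zpowers t = ⊤ := by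
    rw [eq_top_iff, ← Subgroup.closure_eq_top_of_mclosure_eq_top (Equiv.Perm.mclosure_swap_castSucc_succ (m + 2)), Subgroup.closure_le]
    rintro _ ⟨⟨k, hk⟩, rfl⟩
    show Equiv.swap _ _ ∈ φ.range ⊔ Subgroup.zpowers t
    rcases k with _ | k
    · exact Subgroup.mem_sup_right (Subgroup.mem_zpowers t)
    · have := Subgroup.mul_mem_sup (S := Subgroup.zpowers t) (T := φ.range) (Subgroup.mem_zpowers t) (hf ⟨k, by omega⟩)
      rw [sup_comm]
      simp only [f, ← mul_assoc, htt, one_mul] at this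
      exact this
  have hprodset := Subgroup.coe_mul_of_right_le_normalizer_left φ.range (Subgroup.zpowers t) hnorm
  rw [htop] at hprodset
  have hn : (m + 3).factorial ≤ Nat.card φ.range * 2 := by
    have h1 := Set.natCard_mul_le (s := (φ.range : Set (Equiv.Perm (Fin (m + 3))))) (t := (Subgroup.zpowers t : Set _))
    rw [← hprodset] at h1
    have h2 : Nat.card (Subgroup.zpowers t) ≤ 2 := by
      rw [Nat.card_zpowers]
      exact Nat.le_of_dvd two_pos (orderOf_dvd_of_pow_eq_one (by rw [pow_two, htt]))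
    calc (m + 3).factorial = Nat.card (⊤ : Subgroup (Equiv.Perm (Fin (m + 3)))) := by
          rw [Subgroup.card_top, Nat.card_perm, Nat.card_eq_fintype_card, Fintype.card_fin]
      _ ≤ Nat.card φ.range * Nat.card (Subgroup.zpowers t) := h1
      _ ≤ _ := Nat.mul_le_mul_left _ h2
  have hA : 2 * Nat.card (alternatingGroup (Fin (m + 3))) = (m + 3).factorial := by
    rw [two_mul_nat_card_alternatingGroup, Nat.card_perm, Nat.card_eq_fintype_card, Fintype.card_fin]
  have hinjle : Nat.card φ.range ≤ Nat.card P := Nat.card_le_card_of_surjective φ.rangeRestrict φ.rangeRestrict_surjective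
  have hbij : Function.Bijective φ.rangeRestrict :=
    (Nat.bijective_iff_surjective_and_card _).2 ⟨φ.rangeRestrict_surjective, by omega⟩
  have heq : φ.range = alternatingGroup (Fin (m + 3)) := Subgroup.eq_of_le_of_card_ge hle (by omega)
  exact ⟨(MulEquiv.ofBijective _ hbij).trans (MulEquiv.subgroupCongr heq)⟩

end Cfsg.Agent.S3335
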