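import Cfsg.Statements.S0984
import Cfsg.Agent.SmallOrder.Order2520.Recognize

set_option autoImplicit false
open Cfsg

namespace Cfsg.Agent.S0984

/-- A simple group of order 2520 is isomorphic to the alternating group of degree 7. -/
theorem result {G : Type*} [Group G] [Finite G] [IsSimpleGroup G] (h : Nat.card G = 2520) : Nonempty (G ≃* alternatingGroup (Fin 7)) := by
  by_cases hcase : ∀ H : Subgroup G, H ≠ ⊤ → 7 < H.index
  · exact SmallOrder.Order2520.nonempty_equiv ⟨h, hcase⟩
  push Not at hcase
  obtain ⟨H, hH, hle⟩ := hcase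
  have hna : ¬ IsMulCommutative G := SmallOrder.not_comm_of_card (by rw [h]; norm_num)
  have hd := SmallOrder.two_mul_card_dvd hna H hH
  rw [h] at hd
  have h7 : H.index = 7 := by
    by_contra hne
    have h6 := Nat.factorial_le (show H.index ≤ 6 by omega)
    have := (Nat.le_of_dvd (Nat.factorial_pos _) hd).trans h6
    norm_num [Nat.factorial] at this
  obtain ⟨f, -, hf, -, hs⟩ := SmallOrder.exists_hom_alt hna H hH
  let c := (finCongr h7).permCongrHom
  have hmem : ∀ g, c (f g) ∈ alternatingGroup (Fin 7) := fun g => Equiv.Perm.mem_alternatingGroup.2 (by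
    show Equiv.Perm.sign ((finCongr h7).permCongr (f g)) = 1
    rw [Equiv.Perm.sign_permCongr, hs g])
  let F : G →* alternatingGroup (Fin 7) :=
    ((c : Equiv.Perm (Fin H.index) →* Equiv.Perm (Fin 7)).comp f).codRestrict _ hmem
  have hF : Function.Injective F := fun a b hab => hf (c.injective (congrArg Subtype.val hab))
  have hA : 2 * Nat.card (alternatingGroup (Fin 7)) = 5040 := by
    rw [two_mul_nat_card_alternatingGroup, Nat.card_perm, Nat.card_fin]; rfl
  exact ⟨MulEquiv.ofBijective F (hF.bijective_of_nat_card_le (by rw [h]; omega))⟩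

end Cfsg.Agent.S0984
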