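import Mathlib
import Cfsg.Statements.S0848
import Cfsg.Agent.BlockThms.Dihedral.Order

set_option autoImplicit false
open Cfsg

namespace Cfsg.Agent.S0848

open DihedralGroup Cfsg.Agent Cfsg.Agent.Invol Cfsg.Agent.BlockThms.Dihedral


/-- If a finite group equals its own commutator subgroup and contains an involution whose centralizer is isomorphic to the dihedral group of order 8, then the group has order 168 or 360. -/
theorem result {G : Type*} [Group G] [Finite G] (hperf : commutator G = ⊤) (t : G) (ht : orderOf t = 2) (e : Subgroup.centralizer ({t} : Set G) ≃* DihedralGroup 4) : Nat.card G = 168 ∨ Nat.card G = 360 := by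
  classical
  have := Fintype.ofFinite G
  have := Fact.mk Nat.prime_two
  set C := Subgroup.centralizer ({t} : Set G) with hC
  let ι : DihedralGroup (2 ^ 2) →* G := C.subtype.comp e.symm.toMonoidHom
  have hιinj : Function.Injective ι := C.subtype_injective.comp e.symm.injective
  have hιrange : ι.range = C := by
    ext x
    constructor
    · rintro ⟨d, rfl⟩
      exact (e.symm d).2
    · intro hx
      exact ⟨e ⟨x, hx⟩, by simp [ι]⟩
  have hcard : Nat.card C = 8 := by
    rw [Nat.card_congr e.toEquiv, DihedralGroup.nat_card]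
  have htC : t ∈ C := Subgroup.mem_centralizer_singleton_iff.2 rfl
  have hd4 : ∀ a : DihedralGroup 4, (∀ b, b * a = a * b) → a ≠ 1 → a = r 2 := by decide
  have hcentral : ∀ x (hx : x ∈ C), (∀ y ∈ C, y * x = x * y) → x ≠ 1 → x = ι (r 2) := by
    intro x hx hc hne
    have h1 := hd4 (e ⟨x, hx⟩) (fun b => by
      rw [← e.apply_symm_apply b, ← map_mul, ← map_mul]
      exact congrArg e (Subtype.ext (hc _ (e.symm b).2)))
      (fun h0 => hne (congrArg Subtype.val ((map_eq_one_iff e e.injective).1 h0)))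
    show x = ((e.symm (r 2) : C) : G)
    rw [← h1, e.symm_apply_apply]
  have ht1 : t ≠ 1 := fun h0 => by rw [h0, orderOf_one] at ht; omega
  have htz : t = ι (r (dh 2)) := by
    rw [show (dh 2 : ZMod (2 ^ 2)) = 2 by decide]
    exact hcentral t htC (fun y hy => Subgroup.mem_centralizer_singleton_iff.1 hy) ht1
  -- the centralizer is a Sylow subgroup
  obtain ⟨S, hCS⟩ := (IsPGroup.of_card (p := 2) (n := 3) (by rw [hcard]; norm_num) :
    IsPGroup 2 C).exists_le_sylow
  have hSC : (S : Subgroup G) ≤ C := by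
    have : Nontrivial (S : Subgroup G) :=
      ⟨⟨t, hCS htC⟩, 1, fun h0 => ht1 (congrArg Subtype.val h0)⟩
    have := S.2.center_nontrivial
    obtain ⟨⟨⟨x, hxS⟩, hx⟩, hx1⟩ := exists_ne (1 : Subgroup.center (S : Subgroup G))
    have hcomm : ∀ y ∈ (S : Subgroup G), y * x = x * y := fun y hy =>
      congrArg Subtype.val (Subgroup.mem_center_iff.1 hx ⟨y, hy⟩)
    have hxC : x ∈ C := Subgroup.mem_centralizer_singleton_iff.2 (hcomm t (hCS htC)).symm
    have hxt : x = ι (r 2) := hcentral x hxC (fun y hy => hcomm y (hCS hy))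
      (fun h0 => hx1 (Subtype.ext (Subtype.ext h0)))
    have hxt' : x = t := by rw [hxt, htz, show (dh 2 : ZMod (2 ^ 2)) = 2 by decide]
    exact fun y hy => Subgroup.mem_centralizer_singleton_iff.2 (hxt' ▸ hcomm y hy)
  have D : DData S 2 ι := ⟨by norm_num, hιinj, by rw [hιrange]; exact le_antisymm hCS hSC⟩
  -- all involutions are conjugate
  have hconj : ∀ a, IsConj (ι (r (dh 2))) (ι (sr a)) := by
    intro a
    by_contra hn
    obtain ⟨N, -, hN2, ha⟩ := D.index_two_of_not_conj (fun h0 => hn h0.symm)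
    refine ha ?_
    have hle : commutator G ≤ N := by
      rw [commutator_def, Subgroup.commutator_le]
      intro p _ q _
      rw [commutatorElement_def]
      simp only [Subgroup.mul_mem_iff_of_index_two hN2, inv_mem_iff]
      tauto
    exact hle (hperf ▸ Subgroup.mem_top _)
  obtain ⟨π, h⟩ := exists_proj D
  have hζ := Complex.isPrimitiveRoot_exp (2 ^ 2) (pow_ne_zero 2 two_ne_zero)
  have he : (AddChar.zmodChar (2 ^ 2) hζ.pow_eq_one).IsPrimitive :=
    AddChar.zmodChar_primitive_of_primitive_root _ hζ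
  obtain ⟨M, hM⟩ := Blocks.exists_isPModular 2 Nat.prime_two
  obtain ⟨χ₁, χ₂, χ₃, η, δ₁, δ₂, δ₃, L⟩ := exists_labels h D le_rfl he
  obtain ⟨hpos, key⟩ := h.order_formula D he le_rfl hM hconj (L.mem₁ h D hM)
    (fun h0 => L.ne_one₁ (Subtype.ext h0)) δ₁ L.sign₁ (fun l hl0 hl => L.value₁ h D hM he (fun h0 => by
      have := natCast_eq_imp hl (by norm_num) (h0.trans Nat.cast_zero.symm)
      omega))
  have hcJ : Nat.card (cJ ι) = 8 := by rw [← hcard, hC, htz]
  have hrefl : (refl π).card = 4 := by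
    have hb : ∀ d, iotaC D d ∈ refl π ↔ ∃ a, d = sr a := by
      intro d
      rw [mem_refl, h.proj_iotaC D, ← map_mul]
      constructor
      · exact fun h0 => h0.2
      · rintro ⟨a, rfl⟩
        exact ⟨by rw [sr_mul_self, map_one], a, rfl⟩
    have hsurj : ∀ s : cJ ι, ∃ d, iotaC D d = s := fun s => by
      have : (s : G) ∈ ι.range := by rw [hιrange, hC, htz]; exact s.2
      obtain ⟨d, hd⟩ := this
      exact ⟨d, Subtype.ext hd⟩
    rw [show (4 : ℕ) = (Finset.univ : Finset (ZMod (2 ^ 2))).card by simp]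
    symm
    refine Finset.card_bij (fun a _ => iotaC D (sr a)) (fun a _ => (hb _).2 ⟨a, rfl⟩)
      (fun a _ b _ h0 => by
        have h1 := congrArg (fun w : cJ ι => (w : G)) h0
        exact sr.inj (D.inj h1)) fun s hs => ?_
    obtain ⟨d, rfl⟩ := hsurj s
    obtain ⟨a, rfl⟩ := (hb d).1 hs
    exact ⟨a, Finset.mem_univ _, rfl⟩
  rw [hcJ, hrefl] at key
  have h2 := S.card_eq_multiplicity
  rw [D.card_sylow] at h2
  obtain ⟨m, hm⟩ : 8 ∣ Nat.card G := by
    have := Nat.ordProj_dvd (Nat.card G) 2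
    rwa [← h2] at this
  have hmodd : ¬ 2 ∣ m := fun h0 => by
    have h4 := Nat.not_dvd_ordCompl Nat.prime_two (Nat.card_pos (α := G)).ne'
    rw [← h2, hm] at h4
    exact h4 (by simpa using h0)
  have hZ : (Nat.card G : ℤ) * ((Cfsg.charDegree (χ₁ : G → ℂ) : ℤ) - δ₁) ^ 2 =
      2 * (Cfsg.charDegree (χ₁ : G → ℂ) : ℤ) * ((Cfsg.charDegree (χ₁ : G → ℂ) : ℤ) + δ₁) * 8 * 4 ^ 2 := by
    apply Int.cast_injective (α := ℂ)
    push_cast
    push_cast at key
    linear_combination key
  rw [hm] at hZ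
  push_cast at hZ
  obtain ⟨x, hx⟩ : ∃ x : ℤ, (Cfsg.charDegree (χ₁ : G → ℂ) : ℤ) = x := ⟨_, rfl⟩
  have hx1 : 1 ≤ x := by
    rw [← hx]; exact_mod_cast Blocks.charDegree_pos χ₁.2
  rw [hx] at hZ hpos
  have hmZ : (m : ℤ) * (x - δ₁) ^ 2 = 32 * (x * (x + δ₁)) := by linarith
  have hu : 0 < x - δ₁ := by
    rcases L.sign₁ with h0 | h0 <;> subst h0
    · by_contra hle
      obtain rfl : x = 1 := by omega
      norm_num at hmZ
    · omega
  have hdvd : x - δ₁ ∣ 64 := by
    refine ⟨m * (x - δ₁) - 32 * (x - δ₁) - 96 * δ₁, ?_⟩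
    rcases L.sign₁ with h0 | h0 <;> subst h0 <;> linear_combination -hmZ
  obtain ⟨u, hu'⟩ : ∃ u : ℕ, x - δ₁ = u := ⟨(x - δ₁).toNat, (Int.toNat_of_nonneg hu.le).symm⟩
  have hu64 : u ∈ Nat.divisors 64 := Nat.mem_divisors.2 ⟨by
    rw [hu'] at hdvd; exact_mod_cast hdvd, by norm_num⟩
  obtain rfl : x = u + δ₁ := by omega
  rw [hm]
  rw [show Nat.divisors 64 = {1, 2, 4, 8, 16, 32, 64} by decide] at hu64
  simp only [Finset.mem_insert, Finset.mem_singleton] at hu64
  rcases L.sign₁ with h0 | h0 <;> subst h0 <;>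
    rcases hu64 with rfl | rfl | rfl | rfl | rfl | rfl | rfl
  all_goals norm_num at hmZ
  all_goals omega

end Cfsg.Agent.S0848
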