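import Cfsg.Statements.S0007
-- import your own Cfsg.Agent.* helpers here

set_option autoImplicit false
open Cfsg

namespace Cfsg.Agent.S0007

/-- Subgroups of coprime index: the intersection has index equal to the product of the indices, and every element is a product of an element of the first subgroup and an element of the second. -/
theorem result {G : Type*} [Group G] [Finite G] (H K : Subgroup G)
    (h : H.index.Coprime K.index) :
    (H ⊓ K).index = H.index * K.index ∧ ∀ g : G, ∃ x ∈ H, ∃ y ∈ K, g = x * y := by
  have hd : H.index * K.index ∣ (H ⊓ K).index := h.mul_dvd_of_dvd_of_dvd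
    (Subgroup.index_dvd_of_le inf_le_left) (Subgroup.index_dvd_of_le inf_le_right)
  have hle : (H ⊓ K).index ≤ H.index * K.index := Subgroup.index_inf_le
  have heq : (H ⊓ K).index = H.index * K.index :=
    le_antisymm hle (Nat.le_of_dvd (Nat.pos_of_ne_zero Subgroup.index_ne_zero_of_finite) hd)
  refine ⟨heq, fun g => ?_⟩
  have h2 : (H ⊓ K).index = (H ⊓ K).relIndex H * H.index :=
    (Subgroup.relIndex_mul_index inf_le_left).symm
  rw [Subgroup.inf_relIndex_left, heq, mul_comm] at h2
  have h3 : K.relIndex H = K.index :=
    (Nat.eq_of_mul_eq_mul_right (Nat.pos_of_ne_zero Subgroup.index_ne_zero_of_finite) h2).symm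
  let f : H ⧸ K.subgroupOf H → G ⧸ K := Quotient.map' Subtype.val (by
    intro a b hab
    rw [QuotientGroup.leftRel_apply] at hab ⊢
    exact hab)
  have hinj : Function.Injective f := by
    intro a b hab
    induction a using QuotientGroup.induction_on with
    | _ a =>
      induction b using QuotientGroup.induction_on with
      | _ b =>
        apply QuotientGroup.eq.mpr
        have hab' : ((a : G) : G ⧸ K) = ((b : G) : G ⧸ K) := hab
        show ((a⁻¹ * b : H) : G) ∈ K
        simpa using QuotientGroup.eq.mp hab'
  have hsurj : Function.Surjective f :=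
    (hinj.bijective_of_nat_card_le (by
      change K.index ≤ K.relIndex H
      exact h3.ge)).2
  obtain ⟨a, ha⟩ := hsurj (g : G ⧸ K)
  induction a using QuotientGroup.induction_on with
  | _ a =>
    have ha' : ((a : G) : G ⧸ K) = (g : G ⧸ K) := ha
    refine ⟨a, a.2, (a : G)⁻¹ * g, QuotientGroup.eq.mp ha', ?_⟩
    rw [mul_inv_cancel_left]

end Cfsg.Agent.S0007
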