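import Cfsg.Statements.S0010
import Mathlib.GroupTheory.Sylow
import Mathlib.Tactic

set_option autoImplicit false
open Cfsg

namespace Cfsg.Agent.S0010

/-- The largest normal p-subgroup of a finite group is the intersection of all its Sylow p-subgroups. -/
theorem result {G : Type*} [Group G] [Finite G] (p : ℕ) [Fact p.Prime] :
    Cfsg.pCore p G = ⨅ P : Sylow p G, (P : Subgroup G) := by
  refine le_antisymm (le_iInf fun P => sSup_le fun N hN => ?_) (le_sSup ⟨?_, ?_⟩)
  · have := hN.1
    exact hN.2.le_sylow_of_normal P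
  · refine ⟨fun x hx g => ?_⟩
    rw [Subgroup.mem_iInf] at hx ⊢
    intro P
    have hxg := hx (g⁻¹ • P)
    rw [Sylow.coe_subgroup_smul, Subgroup.mem_pointwise_smul_iff_inv_smul_mem] at hxg
    simpa [MulAut.smul_def] using hxg
  · exact (default : Sylow p G).2.to_le (iInf_le _ _)

end Cfsg.Agent.S0010
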