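import Cfsg.Statements.S0013
import Cfsg.Agent.Core.Frattini
import Mathlib.RingTheory.Int.Basic
-- import your own Cfsg.Agent.* helpers here

set_option autoImplicit false
open Cfsg

namespace Cfsg.Agent.S0013

/-- In a finite p-group the Frattini subgroup is the smallest normal subgroup with elementary abelian quotient: it lies below any normal subgroup containing all commutators and all p-th powers. -/
theorem result {G : Type*} [Group G] [Finite G] (p : ℕ) [Fact p.Prime]
    (hG : IsPGroup p G) (N : Subgroup G) [N.Normal] (hcomm : commutator G ≤ N) (hpow : ∀ x : G, x ^ p ∈ N) :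
    frattini G ≤ N := by
  intro x hx
  by_contra hxN
  obtain ⟨K, ⟨hNK, hxK⟩, hmax⟩ := (Set.toFinite {K : Subgroup G | N ≤ K ∧ x ∉ K}).exists_maximal
    ⟨N, le_rfl, hxN⟩
  have hKn : K.Normal := ⟨fun k hk g => by
    have h1 : g * k * g⁻¹ * k⁻¹ ∈ K :=
      hNK (hcomm (Subgroup.commutator_mem_commutator (Subgroup.mem_top g) (Subgroup.mem_top k)))
    simpa [mul_assoc] using K.mul_mem h1 hk⟩
  have hstep : ∀ L : Subgroup G, K < L → x ∈ L := fun L hL => by
    by_contra hxL
    exact hL.2 (hmax ⟨hNK.trans hL.le, hxL⟩ hL.le)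
  have hco : IsCoatom K := by
    refine ⟨fun e => hxK (e ▸ Subgroup.mem_top x), fun L hL => top_le_iff.mp fun y _ => ?_⟩
    by_cases hy : y ∈ K
    · exact hL.le hy
    have hxy : x ∈ K ⊔ Subgroup.zpowers y := hstep _ (lt_of_le_of_ne le_sup_left fun e => hy (by
      rw [e]; exact Subgroup.mem_sup_right (Subgroup.mem_zpowers y)))
    obtain ⟨k, hk, z, ⟨i, rfl⟩, hxe⟩ := Subgroup.mem_sup_of_normal_left.mp hxy
    have hxL : x ∈ L := hstep L hL
    have hyi : y ^ i ∈ L := by
      have := L.mul_mem (L.inv_mem (hL.le hk)) hxL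
      rw [← hxe] at this
      simpa [mul_assoc] using this
    have hnd : ¬ (p : ℤ) ∣ i := by
      rintro ⟨j, rfl⟩
      refine hxK (hxe ▸ K.mul_mem hk ?_)
      show y ^ ((p : ℤ) * j) ∈ K
      rw [zpow_mul, zpow_natCast]
      exact K.zpow_mem (hNK (hpow y)) j
    obtain ⟨a, b, hab⟩ := ((Nat.prime_iff_prime_int.mp (Fact.out : p.Prime)).coprime_iff_not_dvd.mpr hnd)
    have he : y = (y ^ (p : ℕ)) ^ a * (y ^ i) ^ b := by
      rw [← zpow_natCast, ← zpow_mul, ← zpow_mul, ← zpow_add, mul_comm (p : ℤ) a, mul_comm i b, hab,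
        zpow_one]
    rw [he]
    exact L.mul_mem (L.zpow_mem (hL.le (hNK (hpow y))) a) (L.zpow_mem hyi b)
  exact hxK (frattini_le_coatom hco hx)

end Cfsg.Agent.S0013
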