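import Cfsg.Statements.S0014
import Cfsg.Agent.Core.Frattini
-- import your own Cfsg.Agent.* helpers here

set_option autoImplicit false
open Cfsg

namespace Cfsg.Agent.S0014

theorem index_step {G : Type*} [Group G] [Finite G] {p : ℕ} [hp : Fact p.Prime] {H : Subgroup G} [H.Normal]
    {x : G} (hx : x ∉ H) (hxp : x ^ p ∈ H) :
    H.index = p * (H ⊔ Subgroup.zpowers x).index := by
  let f := QuotientGroup.mk' H
  have hf : Function.Surjective f := QuotientGroup.mk'_surjective H
  have hmap : (H ⊔ Subgroup.zpowers x).map f = Subgroup.zpowers (f x) := by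
    rw [Subgroup.map_sup, MonoidHom.map_zpowers,
      (Subgroup.map_eq_bot_iff H).mpr (by simp [f]), bot_sup_eq]
  have ho : orderOf (f x) = p := by
    refine orderOf_eq_prime ?_ ?_
    · rw [← map_pow]; exact (QuotientGroup.eq_one_iff _).mpr hxp
    · exact fun h => hx ((QuotientGroup.eq_one_iff _).mp h)
  rw [← Subgroup.index_map_eq (H ⊔ Subgroup.zpowers x) hf (by simp [f]), hmap,
    H.index_eq_card, ← Subgroup.card_mul_index (Subgroup.zpowers (f x)), Nat.card_zpowers, ho]

open scoped commutatorElement in
theorem normal_of_frattini_le {G : Type*} [Group G] [Finite G] {p : ℕ} [Fact p.Prime] (hG : IsPGroup p G)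
    {H : Subgroup G} (h : frattini G ≤ H) : H.Normal :=
  have := hG.isNilpotent
  ⟨fun a ha g => by
    have hc : ⁅g, a⁆ ∈ H := h (Core.commutator_le_frattini
      (Subgroup.commutator_mem_commutator (Subgroup.mem_top _) (Subgroup.mem_top _)))
    have := H.mul_mem hc ha
    rwa [commutatorElement_def, inv_mul_cancel_right] at this⟩

theorem card_minimal {G : Type*} [Group G] [Finite G] {p n : ℕ} [hp : Fact p.Prime] (hG : IsPGroup p G)
    (hn : (frattini G).index = p ^ n) [DecidableEq G] {T : Finset G} (hT : Subgroup.closure (T : Set G) = ⊤)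
    (hmin : ∀ x ∈ T, Subgroup.closure ((T.erase x : Finset G) : Set G) ≠ ⊤) : T.card = n := by
  have key : ∀ A : Finset G, A ⊆ T →
      (frattini G).index = p ^ A.card * (frattini G ⊔ Subgroup.closure (A : Set G)).index := by
    intro A
    induction A using Finset.induction with
    | empty => intro _; simp
    | insert x A hxA ih =>
      intro hsub
      rw [Finset.insert_subset_iff] at hsub
      have hN : (frattini G ⊔ Subgroup.closure (A : Set G)).Normal :=
        normal_of_frattini_le hG le_sup_left
      have hx : x ∉ frattini G ⊔ Subgroup.closure (A : Set G) := by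
        intro hx
        refine hmin x hsub.1 (Core.eq_top_of_sup_frattini le_rfl ?_)
        refine top_le_iff.mp (hT.ge.trans ((Subgroup.closure_le _).mpr fun y hy => ?_))
        by_cases hyx : y = x
        · subst hyx
          have hle : frattini G ⊔ Subgroup.closure (A : Set G) ≤
              Subgroup.closure ((T.erase y : Finset G) : Set G) ⊔ frattini G := by
            refine sup_le le_sup_right (le_sup_of_le_left (Subgroup.closure_mono ?_))
            intro z hz
            simp only [Finset.coe_erase, Set.mem_sdiff, Finset.mem_coe, Set.mem_singleton_iff]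
            exact ⟨hsub.2 hz, fun e => hxA (e ▸ hz)⟩
          exact hle hx
        · exact Subgroup.mem_sup_left (Subgroup.subset_closure (by simp [hyx, Finset.mem_coe.mp hy]))
      have hpow : x ^ p ∈ frattini G ⊔ Subgroup.closure (A : Set G) :=
        Subgroup.mem_sup_left (Core.pow_mem_frattini hG x)
      rw [ih hsub.2, index_step hx hpow, Finset.card_insert_of_notMem hxA, pow_succ, mul_assoc,
        sup_assoc, Finset.coe_insert, Set.insert_eq, Set.union_comm, Subgroup.closure_union,
        ← Subgroup.zpowers_eq_closure]
  have h := key T subset_rfl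
  rw [hT, sup_top_eq, Subgroup.index_top, mul_one, hn] at h
  exact (Nat.pow_right_injective hp.out.two_le h).symm

theorem exists_minimal' {G : Type*} [Group G] [DecidableEq G] (S : Finset G)
    (hS : Subgroup.closure (S : Set G) = ⊤) :
    ∃ T ⊆ S, Subgroup.closure (T : Set G) = ⊤ ∧
      ∀ x ∈ T, Subgroup.closure ((T.erase x : Finset G) : Set G) ≠ ⊤ := by
  induction S using Finset.strongInduction with
  | H S ih =>
    by_cases h : ∀ x ∈ S, Subgroup.closure ((S.erase x : Finset G) : Set G) ≠ ⊤
    · exact ⟨S, subset_rfl, hS, h⟩
    push Not at h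
    obtain ⟨x, hx, hx'⟩ := h
    obtain ⟨T, hT, h2⟩ := ih _ (Finset.erase_ssubset hx) hx'
    exact ⟨T, hT.trans (Finset.erase_subset _ _), h2⟩

/-- Burnside's basis Theorem: in a finite p-group whose Frattini quotient has order p ^ n, every generating set contains n elements that already generate, and no set with fewer than n elements generates. -/
theorem result {G : Type*} [Group G] [Finite G] (p n : ℕ) [Fact p.Prime]
    (hG : IsPGroup p G) (hn : (frattini G).index = p ^ n) :
    (∀ S : Finset G, Subgroup.closure (S : Set G) = ⊤ → ∃ T : Finset G, T ⊆ S ∧ T.card = n ∧ Subgroup.closure (T : Set G) = ⊤) ∧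
    (∀ T : Finset G, Subgroup.closure (T : Set G) = ⊤ → n ≤ T.card) := by
  classical
  refine ⟨fun S hS => ?_, fun S hS => ?_⟩
  · obtain ⟨T, hTS, hT, hmin⟩ := exists_minimal' S hS
    exact ⟨T, hTS, card_minimal hG hn hT hmin, hT⟩
  · obtain ⟨T, hTS, hT, hmin⟩ := exists_minimal' S hS
    exact (card_minimal hG hn hT hmin).ge.trans (Finset.card_le_card hTS)

end Cfsg.Agent.S0014
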