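import Cfsg.Statements.S0015
import Cfsg.Agent.Core.Solvable
-- import your own Cfsg.Agent.* helpers here

set_option autoImplicit false
open Cfsg

namespace Cfsg.Agent.S0015

/-- In a finite nilpotent group, an abelian normal subgroup that is maximal among abelian normal subgroups equals its own centralizer. -/
theorem result {G : Type*} [Group G] [Finite G] [Group.IsNilpotent G]
    (N : Subgroup G) [N.Normal] [IsMulCommutative N]
    (hmax : ∀ M : Subgroup G, M.Normal → IsMulCommutative M → N ≤ M → M = N) :
    Subgroup.centralizer (N : Set G) = N := by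
  refine le_antisymm ?_ (Subgroup.le_centralizer N)
  by_contra hle
  set f := QuotientGroup.mk' N with hf
  have hs := QuotientGroup.mk'_surjective N
  set C := Subgroup.centralizer (N : Set G) with hC
  have hCn : (C.map f).Normal := Subgroup.Normal.map inferInstance f hs
  have hCb : C.map f ≠ ⊥ := fun h => hle (by
    have := (Subgroup.map_eq_bot_iff C).mp h
    rwa [hf, QuotientGroup.ker_mk'] at this)
  obtain ⟨z, hz, hz1⟩ := (Subgroup.bot_or_exists_ne_one _).resolve_left (Core.inf_center_ne_bot hCb)
  obtain ⟨⟨c, hc, rfl⟩, hzc⟩ := hz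
  set M := (Subgroup.zpowers (f c)).comap f with hM
  have hnorm : (Subgroup.zpowers (f c)).Normal := ⟨fun w hw g => by
    have hw' : w ∈ Subgroup.center (G ⧸ N) := Subgroup.zpowers_le.mpr hzc hw
    rw [Subgroup.mem_center_iff.mp hw' g, mul_assoc, mul_inv_cancel, mul_one]
    exact hw⟩
  have hMN : M = Subgroup.zpowers c ⊔ N := by
    rw [hM, ← MonoidHom.map_zpowers, Subgroup.comap_map_eq, hf, QuotientGroup.ker_mk']
  have hMc : IsMulCommutative M := by
    rw [hMN, ← Subgroup.le_centralizer_iff_isMulCommutative]
    have h1 : Subgroup.zpowers c ⊔ N ≤ Subgroup.centralizer (N : Set G) :=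
      sup_le (Subgroup.zpowers_le.mpr hc) (Subgroup.le_centralizer N)
    refine sup_le ?_ ?_
    · rw [Subgroup.zpowers_le, Subgroup.mem_centralizer_iff]
      intro y hy
      obtain ⟨u, hu, n, hn, rfl⟩ := Subgroup.mem_sup_of_normal_right.mp hy
      obtain ⟨i, rfl⟩ := hu
      exact ((Commute.refl c).zpow_left i |>.mul_left (Subgroup.mem_centralizer_iff.mp hc n hn)).eq
    · exact fun n hn y hy => (Subgroup.mem_centralizer_iff.mp (h1 hy) n hn).symm
  have := hmax M (hnorm.comap f) hMc (hMN ▸ le_sup_right)
  refine hz1 ((QuotientGroup.eq_one_iff c).mpr ?_)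
  have hc' : c ∈ M := Subgroup.mem_zpowers (f c)
  rwa [this] at hc'

end Cfsg.Agent.S0015
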