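import Cfsg.Statements.S0017
import Cfsg.Agent.Core.Fitting
-- import your own Cfsg.Agent.* helpers here

set_option autoImplicit false
open Cfsg

namespace Cfsg.Agent.S0017

/-- In a finite solvable group whose largest normal subgroup of order prime to p is trivial, the centralizer of the p-core is contained in the p-core. -/
theorem result {G : Type*} [Group G] [Finite G] [Group.IsSolvable G] (p : ℕ) [Fact p.Prime]
    (h : Cfsg.pPrimeCore p G = ⊥) :
    Subgroup.centralizer (Cfsg.pCore p G : Set G) ≤ Cfsg.pCore p G := by
  have hF : Cfsg.fittingSubgroup G ≤ Cfsg.pCore p G := by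
    rw [Core.fittingSubgroup_eq_iSup_pCore]
    refine iSup_le fun q => ?_
    have := Fact.mk q.2
    by_cases hq : (q : ℕ) = p
    · rw [hq]
    · exact (Core.pCore_le_pPrimeCore hq).trans (h.le.trans bot_le)
  exact (Subgroup.centralizer_le (SetLike.coe_subset_coe.mpr hF)).trans
    (Core.centralizer_fittingSubgroup_le.trans hF)

end Cfsg.Agent.S0017
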