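import Cfsg.Statements.S0020
import Cfsg.Agent.Core.Complements
-- import your own Cfsg.Agent.* helpers here

set_option autoImplicit false
open Pointwise
open Cfsg

namespace Cfsg.Agent.S0020

open scoped Pointwise

/-- A finite solvable group admits a Sylow system: Sylow subgroups, one for each prime, that pairwise permute as sets. -/
theorem result {G : Type*} [Group G] [Finite G] [Group.IsSolvable G] :
    ∃ S : (p : Nat.Primes) → Sylow (p : ℕ) G,
      ∀ p q : Nat.Primes, (S p : Set G) * (S q : Set G) = (S q : Set G) * (S p : Set G) := by
  obtain ⟨K, hK⟩ := Core.exists_complementSystem (G := G)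
  classical
  have hS : ∀ p : Nat.Primes, Nat.card (((Core.primesOf G).erase p).inf K : Subgroup G) =
      (p : ℕ) ^ (Nat.card G).factorization p := by
    intro p
    rw [Core.card_finset_inf hK (U := {p}) (by simp) (by
      intro q hq
      simp only [Finset.mem_disjUnion, Finset.mem_erase, Finset.mem_singleton]
      tauto), Finset.prod_singleton]
  refine ⟨fun p => haveI := Fact.mk p.2; Sylow.ofCard _ (hS p), fun p q => ?_⟩
  have := Fact.mk p.2
  have := Fact.mk q.2
  simp only [Sylow.coe_ofCard, ← Sylow.coe_coe]
  by_cases hpq : p = q
  · rw [hpq]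
  have key : ∀ p q : Nat.Primes, p ≠ q →
      ((((Core.primesOf G).erase p).inf K : Subgroup G) : Set G) *
        (((Core.primesOf G).erase q).inf K : Subgroup G) =
      ((((Core.primesOf G).erase p).erase q).inf K : Subgroup G) := by
    intro p q hpq
    refine Core.coe_mul_eq_of_card (Finset.inf_mono (Finset.erase_subset _ _))
      (Finset.inf_mono ?_) ?_ ?_
    · rw [Finset.erase_right_comm]; exact Finset.erase_subset _ _
    · refine Subgroup.disjoint_of_coprime_natCard ?_
      rw [hS, hS]
      exact Core.coprime_prime_pow p.2 q.2 (fun e => hpq (Subtype.ext e)) _ _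
    · rw [hS, hS, Core.card_finset_inf hK (U := {p, q}) (by simp) (by
        intro r hr
        simp only [Finset.mem_disjUnion, Finset.mem_erase, Finset.mem_insert, Finset.mem_singleton]
        tauto), Finset.prod_pair hpq]
  rw [key p q hpq, key q p (Ne.symm hpq), Finset.erase_right_comm]

end Cfsg.Agent.S0020
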