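import Cfsg.Statements.S0021
import Cfsg.Agent.Core.Complements
-- import your own Cfsg.Agent.* helpers here

set_option autoImplicit false
open Pointwise
open Cfsg

namespace Cfsg.Agent.S0021

open scoped Pointwise
/-- Products of pairwise permuting Sylow subgroups. -/
theorem exists_product {G : Type*} [Group G] [Finite G]
    (S : (p : Nat.Primes) → Sylow (p : ℕ) G)
    (hS : ∀ p q : Nat.Primes, (S p : Set G) * (S q : Set G) = (S q : Set G) * (S p : Set G))
    (T : Finset Nat.Primes) :
    ∃ U : Subgroup G, (∀ q : Nat.Primes, (S q : Set G) * (U : Set G) = (U : Set G) * (S q : Set G)) ∧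
      Nat.card U = ∏ p ∈ T, (p : ℕ) ^ (Nat.card G).factorization p := by
  classical
  induction T using Finset.induction_on with
  | empty => exact ⟨⊥, fun q => by simp, by simp⟩
  | @insert a T ha ih =>
    obtain ⟨U, hU, hUc⟩ := ih
    have := Fact.mk a.2
    have he := Core.exists_sup_of_mul_comm (H := (S a : Subgroup G)) (K := U) (hU a)
    refine ⟨(S a : Subgroup G) ⊔ U, fun q => ?_, ?_⟩
    · rw [he, Sylow.coe_coe, ← mul_assoc, hS, mul_assoc, hU q, ← mul_assoc]
    · have hd : Disjoint (S a : Subgroup G) U := by
        refine Subgroup.disjoint_of_coprime_natCard ?_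
        rw [(S a).card_eq_multiplicity, hUc]
        exact Nat.Coprime.prod_right fun q hq =>
          Core.coprime_prime_pow a.2 q.2 (fun e => ha (by rwa [← Subtype.ext e] at hq)) _ _
      rw [Finset.prod_insert ha, ← hUc, ← (S a).card_eq_multiplicity, ← Nat.card_prod,
        ← Set.ncard_range_of_injective (Subgroup.mul_injective_of_disjoint hd)]
      rw [← SetLike.coe_sort_coe ((S a : Subgroup G) ⊔ U), Nat.card_coe_set_eq, he]
      refine congrArg Set.ncard ?_
      ext z
      simp [Set.mem_mul]
      rfl

/-- A finite group with a family of pairwise permuting Sylow subgroups, one for each prime, is solvable (this direction rests on Burnside's two-prime Theorem). -/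
theorem result {G : Type*} [Group G] [Finite G]
    (S : (p : Nat.Primes) → Sylow (p : ℕ) G)
    (hS : ∀ p q : Nat.Primes, (S p : Set G) * (S q : Set G) = (S q : Set G) * (S p : Set G)) :
    Group.IsSolvable G := by
  classical
  refine Core.isSolvable_of_complements fun p hp => ?_
  obtain ⟨a, rfl⟩ : ∃ a : Nat.Primes, (a : ℕ) = p := ⟨⟨p, hp⟩, rfl⟩
  obtain ⟨U, -, hU⟩ := exists_product S hS ((Core.primesOf G).erase a)
  refine ⟨U, ?_⟩
  have h := U.card_mul_index
  have h' := Core.prod_primes_eq_card (G := G) (T := insert a ((Core.primesOf G).erase a))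
    (by intro q hq; simp only [Finset.mem_insert, Finset.mem_erase]; tauto)
  rw [Finset.prod_insert (by simp), mul_comm] at h'
  rw [hU] at h
  exact Nat.eq_of_mul_eq_mul_left (Finset.prod_pos fun (q : Nat.Primes) _ => pow_pos q.2.pos _)
    (h.trans h'.symm)

end Cfsg.Agent.S0021
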