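import Cfsg.Statements.S0030
import Cfsg.Agent.Coprime.Basic

set_option autoImplicit false
open Cfsg

namespace Cfsg.Agent.S0030

/-- Under coprime action fixed points of a product of two invariant subgroups factor: if K = X Y with X and Y normalised by A then every A-fixed element of K is a product of an A-fixed element of X and an A-fixed element of Y. -/
theorem result {G : Type*} [Group G] [Finite G] (A K : Subgroup G) (hAK : A ≤ Subgroup.normalizer (K : Set G))
    (hcop : (Nat.card A).Coprime (Nat.card K)) (hsolv : Group.IsSolvable A ∨ Group.IsSolvable K)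
    (X Y : Subgroup G) (hX : X ≤ K) (hY : Y ≤ K) (hXA : A ≤ Subgroup.normalizer (X : Set G)) (hYA : A ≤ Subgroup.normalizer (Y : Set G))
    (hXY : ∀ k ∈ K, ∃ x ∈ X, ∃ y ∈ Y, k = x * y) (k : G) (hk : k ∈ K ⊓ Subgroup.centralizer (A : Set G)) :
    ∃ x ∈ X ⊓ Subgroup.centralizer (A : Set G), ∃ y ∈ Y ⊓ Subgroup.centralizer (A : Set G), k = x * y := by
  obtain ⟨x, hx, y, hy, rfl⟩ := hXY k hk.1
  have hfix : ∀ a ∈ A, x⁻¹ * (a * x * a⁻¹) ∈ X ⊓ Y := by
    intro a ha
    have hax := (Subgroup.mem_normalizer_iff.mp (hXA ha) x).mp hx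
    refine ⟨X.mul_mem (X.inv_mem hx) hax, ?_⟩
    have hay := (Subgroup.mem_normalizer_iff.mp (hYA ha) y⁻¹).mp (Y.inv_mem hy)
    have hk' := Subgroup.mem_centralizer_iff.mp hk.2 a ha
    have h1 : a * x * a⁻¹ = x * y * (a * y⁻¹ * a⁻¹) := by
      calc a * x * a⁻¹ = (a * (x * y)) * y⁻¹ * a⁻¹ := by simp [mul_assoc]
        _ = (x * y * a) * y⁻¹ * a⁻¹ := by rw [hk']
        _ = x * y * (a * y⁻¹ * a⁻¹) := by simp [mul_assoc]
    rw [SetLike.mem_coe, h1]
    simpa [mul_assoc] using Y.mul_mem hy hay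
  obtain ⟨n, hn, hc⟩ := Cfsg.Agent.Coprime.exists_fixed_mem_leftCoset
    (Cfsg.Agent.Coprime.le_normalizer_inf hXA hYA)
    (hcop.coprime_dvd_right (Subgroup.card_dvd_of_le (inf_le_left.trans hX)))
    (hsolv.imp id (Cfsg.Agent.Coprime.isSolvable_of_le (inf_le_left.trans hX))) hfix
  refine ⟨x * n, ⟨X.mul_mem hx hn.1, hc⟩, n⁻¹ * y, ⟨Y.mul_mem (Y.inv_mem hn.2) hy, ?_⟩, by
    simp [mul_assoc]⟩
  have := (Subgroup.centralizer (A : Set G)).mul_mem
    ((Subgroup.centralizer (A : Set G)).inv_mem hc) hk.2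
  simpa [mul_assoc] using this

end Cfsg.Agent.S0030
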