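import Cfsg.Statements.S0031
import Cfsg.Agent.Coprime.Basic

set_option autoImplicit false
open Cfsg
open scoped Pointwise

namespace Cfsg.Agent.S0031

/-- A fixed-point-free automorphism of a finite group maps some Sylow p-subgroup to itself. -/
theorem result {G : Type*} [Group G] [Finite G] (φ : G ≃* G)
    (hφ : MonoidHom.FixedPointFree (φ : G →* G)) (p : ℕ) [Fact p.Prime] :
    ∃ P : Sylow p G, (P : Subgroup G).map (φ : G →* G) = P := by
  obtain ⟨P⟩ : Nonempty (Sylow p G) := inferInstance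
  have hinj : Function.Injective (φ : G →* G) := φ.injective
  have hcard : Nat.card ((P : Subgroup G).map (φ : G →* G)) =
      p ^ (Nat.card G).factorization p := by
    rw [Subgroup.card_map_of_injective hinj, P.card_eq_multiplicity]
  obtain ⟨g, hg⟩ := MulAction.exists_smul_eq G P (Sylow.ofCard _ hcard)
  obtain ⟨x, hx⟩ := hφ.commutatorMap_surjective g⁻¹
  refine ⟨x⁻¹ • P, ?_⟩
  have hg' : MulAut.conj g • (P : Subgroup G) = (P : Subgroup G).map (φ : G →* G) := by
    rw [← Sylow.coe_subgroup_smul, hg, Sylow.coe_ofCard]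
  rw [Sylow.coe_subgroup_smul, Cfsg.Agent.Coprime.map_conj_smul, ← hg',
    ← Cfsg.Agent.Coprime.conj_mul_smul]
  congr 2
  have h1 : x * ((φ : G →* G) x)⁻¹ = g⁻¹ := by
    simpa [MonoidHom.commutatorMap, div_eq_mul_inv] using hx
  calc (φ : G →* G) x⁻¹ * g = x⁻¹ * (x * ((φ : G →* G) x)⁻¹) * g := by
        rw [map_inv, inv_mul_cancel_left]
    _ = x⁻¹ := by rw [h1, inv_mul_cancel_right]

end Cfsg.Agent.S0031
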