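import Cfsg.Statements.S0032
import Cfsg.Agent.Coprime.Basic

set_option autoImplicit false
open Cfsg

namespace Cfsg.Agent.S0032

/-- If an automorphism of a finite group fixes only the identity and maps a normal subgroup N into itself, then the only cosets of N it fixes are those in N: a fixed coset xN forces x ∈ N. -/
theorem result {G : Type*} [Group G] [Finite G] (φ : G ≃* G)
    (hφ : MonoidHom.FixedPointFree (φ : G →* G)) (N : Subgroup G) [N.Normal] (hN : ∀ n ∈ N, φ n ∈ N)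
    (x : G) (hx : (φ x)⁻¹ * x ∈ N) : x ∈ N := by
  have hinj : Function.Injective (fun n : N => (⟨(φ n)⁻¹ * n,
      N.mul_mem (N.inv_mem (hN n n.2)) n.2⟩ : N)) := by
    intro a b h
    have h' : (φ (a : G))⁻¹ * (a : G) = (φ (b : G))⁻¹ * (b : G) := congrArg Subtype.val h
    have h1 : ((a : G) * (b : G)⁻¹) = φ ((a : G) * (b : G)⁻¹) := by
      rw [map_mul, map_inv]
      calc (a : G) * (b : G)⁻¹ = φ (a : G) * ((φ (a : G))⁻¹ * (a : G)) * (b : G)⁻¹ := by simp
        _ = φ (a : G) * ((φ (b : G))⁻¹ * (b : G)) * (b : G)⁻¹ := by rw [h']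
        _ = φ (a : G) * (φ (b : G))⁻¹ := by simp [mul_assoc]
    exact Subtype.ext (mul_inv_eq_one.mp (hφ _ h1.symm))
  obtain ⟨n, hn⟩ := Finite.surjective_of_injective hinj ⟨_, hx⟩
  have hn' : (φ (n : G))⁻¹ * (n : G) = (φ x)⁻¹ * x := congrArg Subtype.val hn
  have h1 : φ (x * (n : G)⁻¹) = x * (n : G)⁻¹ := by
    rw [map_mul, map_inv]
    calc φ x * (φ (n : G))⁻¹ = φ x * ((φ (n : G))⁻¹ * (n : G)) * (n : G)⁻¹ := by simp [mul_assoc]
      _ = x * (n : G)⁻¹ := by rw [hn', mul_inv_cancel_left]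
  rw [mul_inv_eq_one.mp (hφ _ h1)]
  exact n.2

end Cfsg.Agent.S0032
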