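import Cfsg.Statements.S0037
import Cfsg.Agent.Core.FrobeniusGroup
-- import your own Cfsg.Agent.* helpers here

set_option autoImplicit false
open Pointwise
open Cfsg

namespace Cfsg.Agent.S0037

open scoped Pointwise

/-- Of two Frobenius complements in one finite group, the one of smaller (or equal) order is conjugate to a subgroup of the other. -/
theorem result {G : Type*} [Group G] [Finite G] (H H₀ : Subgroup G)
    (hH : Cfsg.IsFrobeniusComplement H) (hH₀ : Cfsg.IsFrobeniusComplement H₀) (hle : Nat.card H₀ ≤ Nat.card H) :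
    ∃ g : G, MulAut.conj g • H₀ ≤ H := by
  obtain ⟨N, hN, hNn, hc⟩ := Core.exists_frobeniusKernel hH
  have hm := Core.malnormal_of_isFrobeniusComplement hH₀
  suffices hb : H₀ ⊓ N = ⊥ by
    obtain ⟨g, hg⟩ := Core.exists_le_conj_of_covered hH fun x hx hx1 => by
      by_contra hno
      push Not at hno
      have hxN : x ∈ N := by rw [← SetLike.mem_coe, hN]; exact Or.inr hno
      have : x ∈ H₀ ⊓ N := ⟨hx, hxN⟩
      rw [hb, Subgroup.mem_bot] at this
      exact hx1 this
    refine ⟨g⁻¹, ?_⟩
    have := Subgroup.pointwise_smul_le_pointwise_smul_iff (a := MulAut.conj g⁻¹) |>.mpr hg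
    rwa [← Coprime.conj_mul_smul, inv_mul_cancel, map_one, one_smul] at this
  by_contra hne
  -- `E = H₀ ∩ N` would be a Frobenius complement of `N`
  have hNb : N ≠ ⊥ := fun e => hH.2.1 (Subgroup.isComplement'_bot_left.mp (e ▸ hc))
  obtain ⟨e, he, he1⟩ := (Subgroup.bot_or_exists_ne_one _).resolve_left hne
  set E := H₀.subgroupOf N with hEdef
  have hE : Cfsg.IsFrobeniusComplement E := by
    refine Core.isFrobeniusComplement_of_malnormal (fun h => he1 ?_) (fun h => ?_) ?_
    · have : (⟨e, he.2⟩ : N) ∈ E := Subgroup.mem_subgroupOf.mpr he.1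
      rw [h, Subgroup.mem_bot] at this
      exact congrArg Subtype.val this
    · have hle : N ≤ H₀ := Subgroup.subgroupOf_eq_top.mp h
      obtain ⟨g, hg⟩ : ∃ g, g ∉ H₀ := by
        by_contra hall
        push Not at hall
        exact hH₀.2.1 (top_le_iff.mp fun g _ => hall g)
      obtain ⟨n, hn, hn1⟩ := (Subgroup.bot_or_exists_ne_one N).resolve_left hNb
      exact hn1 (hm g hg n (hle hn) (hle (hNn.conj_mem n hn g)))
    · intro n hn z hz hc'
      rw [Subgroup.mem_subgroupOf] at hn hz hc'
      exact Subtype.ext (hm n hn z hz (by simpa using hc'))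
  obtain ⟨M, hM, -, hMc⟩ := Core.exists_frobeniusKernel hE
  have hEcop : (Nat.card E).Coprime (Nat.card M) :=
    hMc.index_eq_card.symm ▸ Core.coprime_card_index_of_isFrobeniusComplement hE
  have hEm : E.map N.subtype = H₀ ⊓ N := by
    rw [hEdef, Subgroup.subgroupOf_map_subtype]
  have htop : ⊤ ≤ H₀ ⊔ N := by
    intro g _
    set E' := (MulAut.conj g • (H₀ ⊓ N)).subgroupOf N with hE'def
    have hle : MulAut.conj g • (H₀ ⊓ N) ≤ N :=
      Coprime.conj_smul_le_self (by rw [Subgroup.normalizer_eq_top]; trivial) inf_le_right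
    have hc' : Nat.card E' = Nat.card E := by
      rw [hE'def, Coprime.card_subgroupOf hle, Coprime.card_conj_smul,
        ← hEm, Subgroup.card_map_of_injective N.subtype_injective]
    obtain ⟨n, hn⟩ := Core.exists_le_conj_of_covered hE (L := E') fun x hx hx1 => by
      by_contra hno
      push Not at hno
      have hxM : x ∈ M := by rw [← SetLike.mem_coe, hM]; exact Or.inr hno
      exact hx1 (orderOf_eq_one_iff.mp (Nat.eq_one_of_dvd_coprimes hEcop
        ((E'.orderOf_dvd_natCard hx).trans (dvd_of_eq hc')) (M.orderOf_dvd_natCard hxM)))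
    have hn' := Subgroup.map_mono (f := N.subtype) hn
    rw [Coprime.conj_smul_map_subtype, hEm, hE'def, Subgroup.map_subgroupOf_eq_of_le hle] at hn'
    have heg : g * e * g⁻¹ ∈ MulAut.conj g • (H₀ ⊓ N) := Coprime.conj_mem_conj_smul he
    have := hn' heg
    rw [Coprime.mem_conj_smul] at this
    have hin : (n : G)⁻¹ * g ∈ H₀ := by
      by_contra hout
      exact he1 (hm _ hout e he.1 (by simpa [mul_assoc] using this.1))
    have h2 := Subgroup.mul_mem_sup (show (n : G) ∈ N from n.2) hin
    rw [sup_comm] at h2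
    simpa using h2
  have h1 := Core.card_sup_mul_card_inf H₀ N
  rw [top_le_iff.mp htop, Subgroup.card_top, ← hc.card_mul_card, mul_comm (Nat.card H₀),
    mul_assoc] at h1
  have h2 := Nat.eq_of_mul_eq_mul_left Nat.card_pos h1
  have h3 : 1 < Nat.card (H₀ ⊓ N : Subgroup G) := (Subgroup.one_lt_card_iff_ne_bot _).mpr hne
  have h4 : Nat.card H * 2 ≤ Nat.card H * Nat.card (H₀ ⊓ N : Subgroup G) :=
    Nat.mul_le_mul_left _ h3
  have h5 : 0 < Nat.card H := Nat.card_pos
  omega

end Cfsg.Agent.S0037
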