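import Cfsg.Statements.S0038
import Cfsg.Agent.S0037
import Cfsg.Agent.S0042
import Cfsg.Agent.Core.Fitting
import Cfsg.Agent.Core.FrobeniusGroup
import Cfsg.Agent.Char.Artin
-- import your own Cfsg.Agent.* helpers here

set_option autoImplicit false
open Pointwise
open Cfsg

namespace Cfsg.Agent.S0038

open scoped Pointwise

theorem card_eq_index_fitting {G : Type*} [Group G] [Finite G] {H : Subgroup G}
    (hH : Cfsg.IsFrobeniusComplement H) : Nat.card H = (fittingSubgroup G).index := by
  obtain ⟨N, hN, hNc, hNnil⟩ : ∃ N : Subgroup G, N.Normal ∧ Subgroup.IsComplement' N H ∧ Group.IsNilpotent N := by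
    obtain ⟨N, hNset, hNn, hNnil⟩ := S0042.result H hH
    obtain ⟨M, hMset, hMn, hMc⟩ := Core.exists_frobeniusKernel hH
    obtain rfl : N = M := SetLike.coe_injective (hNset.trans hMset.symm)
    exact ⟨N, hNn, hMc, hNnil⟩
  have hcop := Core.coprime_card_index_of_isFrobeniusComplement hH
  rw [hNc.index_eq_card] at hcop
  have hle : N ≤ fittingSubgroup G := Core.le_fittingSubgroup (hN := hN) hNnil
  have hinf : fittingSubgroup G ⊓ H = ⊥ := by
    refine eq_bot_iff.mpr fun x hx => ?_
    by_contra hx1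
    have hNb : N ≤ ⊥ := fun n hn => by
      by_contra hn1
      have := Core.fittingSubgroup_isNilpotent (G := G)
      have hnH : n ∉ H := fun h => hn1 (hNc.disjoint.eq_bot ▸ (⟨hn, h⟩ : n ∈ N ⊓ H))
      have hco : (orderOf (⟨n, hle hn⟩ : fittingSubgroup G)).Coprime (orderOf (⟨x, hx.1⟩ : fittingSubgroup G)) := by
        rw [Subgroup.orderOf_mk, Subgroup.orderOf_mk]
        refine (hcop.symm.coprime_dvd_left ?_).coprime_dvd_right ?_
        · exact Subgroup.orderOf_mk n hn ▸ orderOf_dvd_natCard (⟨n, hn⟩ : N)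
        · exact Subgroup.orderOf_mk x hx.2 ▸ orderOf_dvd_natCard (⟨x, hx.2⟩ : H)
      have hcm : n * x = x * n := congrArg Subtype.val (Char.commute_of_nilpotent_coprime hco).eq
      refine hx1 (Core.malnormal_of_isFrobeniusComplement hH n hnH x hx.2 ?_)
      rw [hcm, mul_inv_cancel_right]
      exact hx.2
    exact hH.2.1 (Subgroup.isComplement'_bot_left.mp ((le_bot_iff.mp hNb) ▸ hNc))
  have hFN : fittingSubgroup G = N := by
    refine le_antisymm (fun g hg => ?_) hle
    obtain ⟨n, hn, h, hh, rfl⟩ := (Subgroup.mem_sup_of_normal_left (s := N)).mp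
      (hNc.sup_eq_top ▸ Subgroup.mem_top g)
    have h1 : h ∈ fittingSubgroup G ⊓ H := ⟨by simpa using mul_mem (inv_mem (hle hn)) hg, hh⟩
    rw [hinf, Subgroup.mem_bot] at h1
    simpa [h1] using hn
  rw [hFN, hNc.symm.index_eq_card]

/-- All Frobenius complements of a finite group are conjugate to one another. -/
theorem result {G : Type*} [Group G] [Finite G] (H H₀ : Subgroup G)
    (hH : Cfsg.IsFrobeniusComplement H) (hH₀ : Cfsg.IsFrobeniusComplement H₀) :
    ∃ g : G, MulAut.conj g • H₀ = H := by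
  obtain ⟨g, hg⟩ := S0037.result H H₀ hH hH₀
    ((card_eq_index_fitting hH₀).trans (card_eq_index_fitting hH).symm).le
  exact ⟨g, Subgroup.eq_of_le_of_card_ge hg (by
    rw [Coprime.card_conj_smul, card_eq_index_fitting hH, card_eq_index_fitting hH₀])⟩

end Cfsg.Agent.S0038
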