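import Cfsg.Statements.S0572
import Mathlib.Tactic.Group
import Mathlib.GroupTheory.Subgroup.Centralizer
-- import your own Cfsg.Agent.* helpers here

set_option autoImplicit false
open Cfsg

namespace Cfsg.Agent.S0572

open scoped commutatorElement

/-- Itô's Theorem: if a group G is the product AB of two abelian subgroups, then the commutator subgroup of G is abelian, i.e. the second term of the derived series is trivial. -/
theorem result {G : Type*} [Group G] (A B : Subgroup G) [IsMulCommutative A] [IsMulCommutative B] (hAB : ∀ g : G, ∃ a ∈ A, ∃ b ∈ B, g = a * b) : derivedSeries G 2 = ⊥ := by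
  have hBA : ∀ g : G, ∃ b ∈ B, ∃ a ∈ A, g = b * a := fun g => by
    obtain ⟨a, ha, b, hb, he⟩ := hAB g⁻¹
    exact ⟨b⁻¹, B.inv_mem hb, a⁻¹, A.inv_mem ha, by rw [← mul_inv_rev, ← he, inv_inv]⟩
  -- conjugation of a commutator by `x ∈ A` only moves its `B` entry, and dually
  have hx : ∀ x ∈ A, ∀ b ∈ B, ∀ b' ∈ B, ∀ c ∈ A, x * b * x⁻¹ = b' * c →
      ∀ a ∈ A, x * ⁅a, b⁆ * x⁻¹ = ⁅a, b'⁆ := by
    intro x hxA b _ b' _ c hc he a ha
    have hxa : x * a * x⁻¹ = a := by rw [setLike_mul_comm hxA ha, mul_assoc, mul_inv_cancel, mul_one]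
    have hca : c * a⁻¹ * c⁻¹ = a⁻¹ := by
      rw [setLike_mul_comm hc (A.inv_mem ha), mul_assoc, mul_inv_cancel, mul_one]
    calc x * ⁅a, b⁆ * x⁻¹ = (x * a * x⁻¹) * (x * b * x⁻¹) * (x * a * x⁻¹)⁻¹ * (x * b * x⁻¹)⁻¹ := by
          rw [commutatorElement_def]; group
      _ = a * b' * (c * a⁻¹ * c⁻¹) * b'⁻¹ := by rw [hxa, he]; group
      _ = ⁅a, b'⁆ := by rw [hca, commutatorElement_def]
  have hy : ∀ y ∈ B, ∀ a ∈ A, ∀ a' ∈ A, ∀ d ∈ B, y * a * y⁻¹ = a' * d →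
      ∀ b ∈ B, y * ⁅a, b⁆ * y⁻¹ = ⁅a', b⁆ := by
    intro y hyB a _ a' _ d hd he b hb
    have hyb : y * b * y⁻¹ = b := by rw [setLike_mul_comm hyB hb, mul_assoc, mul_inv_cancel, mul_one]
    have hdb : d * b * d⁻¹ = b := by rw [setLike_mul_comm hd hb, mul_assoc, mul_inv_cancel, mul_one]
    calc y * ⁅a, b⁆ * y⁻¹ = (y * a * y⁻¹) * (y * b * y⁻¹) * (y * a * y⁻¹)⁻¹ * (y * b * y⁻¹)⁻¹ := by
          rw [commutatorElement_def]; group
      _ = a' * (d * b * d⁻¹) * a'⁻¹ * b⁻¹ := by rw [hyb, he]; group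
      _ = ⁅a', b⁆ := by rw [hdb, commutatorElement_def]
  set S : Set G := {g | ∃ a ∈ A, ∃ b ∈ B, ⁅a, b⁆ = g} with hS
  set D := Subgroup.closure S with hD
  -- the generating commutators commute
  have hcomm : ∀ u ∈ S, ∀ v ∈ S, u * v = v * u := by
    rintro _ ⟨a, ha, b, hb, rfl⟩ _ ⟨x, hxA, y, hyB, rfl⟩
    obtain ⟨b1, hb1, a1, ha1, he1⟩ := hBA (x * b * x⁻¹)
    obtain ⟨a2, ha2, b2, hb2, he2⟩ := hAB (y * a * y⁻¹)
    have h1 : x * (y * ⁅a, b⁆ * y⁻¹) * x⁻¹ = ⁅a2, b1⁆ := by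
      rw [hy y hyB a ha a2 ha2 b2 hb2 he2 b hb, hx x hxA b hb b1 hb1 a1 ha1 he1 a2 ha2]
    have h2 : y * (x * ⁅a, b⁆ * x⁻¹) * y⁻¹ = ⁅a2, b1⁆ := by
      rw [hx x hxA b hb b1 hb1 a1 ha1 he1 a ha, hy y hyB a ha a2 ha2 b2 hb2 he2 b1 hb1]
    have h3 : y * x * ⁅a, b⁆ * (y * x)⁻¹ = x * y * ⁅a, b⁆ * (x * y)⁻¹ := by
      simp only [mul_inv_rev]
      simp only [mul_assoc] at h1 h2 ⊢
      rw [h1, h2]
    have h4 : ⁅a, b⁆ = (y⁻¹ * x⁻¹) * (y * x * ⁅a, b⁆ * (y * x)⁻¹) * (x * y) := by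
      rw [h3]; group
    -- replay with `(x, y)` replaced by their inverses
    obtain ⟨b3, hb3, a3, ha3, he3⟩ := hBA (x⁻¹ * b * x⁻¹⁻¹)
    obtain ⟨a4, ha4, b4, hb4, he4⟩ := hAB (y⁻¹ * a * y⁻¹⁻¹)
    have g1 : x⁻¹ * (y⁻¹ * ⁅a, b⁆ * y⁻¹⁻¹) * x⁻¹⁻¹ = ⁅a4, b3⁆ := by
      rw [hy _ (B.inv_mem hyB) a ha a4 ha4 b4 hb4 he4 b hb,
        hx _ (A.inv_mem hxA) b hb b3 hb3 a3 ha3 he3 a4 ha4]
    have g2 : y⁻¹ * (x⁻¹ * ⁅a, b⁆ * x⁻¹⁻¹) * y⁻¹⁻¹ = ⁅a4, b3⁆ := by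
      rw [hx _ (A.inv_mem hxA) b hb b3 hb3 a3 ha3 he3 a ha,
        hy _ (B.inv_mem hyB) a ha a4 ha4 b4 hb4 he4 b3 hb3]
    have g3 := g1.trans g2.symm
    simp only [inv_inv] at g3
    calc ⁅a, b⁆ * ⁅x, y⁆ = x * y * (y⁻¹ * (x⁻¹ * ⁅a, b⁆ * x) * y) * (x⁻¹ * y⁻¹) := by
          rw [commutatorElement_def x y]; group
      _ = x * y * (x⁻¹ * (y⁻¹ * ⁅a, b⁆ * y) * x) * (x⁻¹ * y⁻¹) := by rw [g3]
      _ = ⁅x, y⁆ * ⁅a, b⁆ := by rw [commutatorElement_def x y]; group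
  have hDc : IsMulCommutative D := Subgroup.isMulCommutative_closure hcomm
  have hDn : D.Normal := by
    refine ⟨fun n hn g => ?_⟩
    induction hn using Subgroup.closure_induction with
    | mem u hu =>
      obtain ⟨a, ha, b, hb, rfl⟩ := hu
      obtain ⟨x, hxA, y, hyB, rfl⟩ := hAB g
      obtain ⟨a2, ha2, b2, hb2, he2⟩ := hAB (y * a * y⁻¹)
      obtain ⟨b1, hb1, a1, ha1, he1⟩ := hBA (x * b * x⁻¹)
      refine Subgroup.subset_closure ⟨a2, ha2, b1, hb1, ?_⟩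
      rw [← hx x hxA b hb b1 hb1 a1 ha1 he1 a2 ha2, ← hy y hyB a ha a2 ha2 b2 hb2 he2 b hb]
      group
    | one => rw [mul_one, mul_inv_cancel]; exact one_mem _
    | mul u v _ _ hu hv => simpa [mul_assoc] using D.mul_mem hu hv
    | inv u _ hu => simpa [mul_assoc] using D.inv_mem hu
  -- modulo `D` the group is abelian
  have hle : commutator G ≤ D := by
    have hab : ∀ a ∈ A, ∀ b ∈ B, (a : G ⧸ D) * b = (b : G ⧸ D) * a := by
      intro a ha b hb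
      have h1 : ((⁅a, b⁆ : G) : G ⧸ D) = 1 :=
        (QuotientGroup.eq_one_iff _).mpr (Subgroup.subset_closure ⟨a, ha, b, hb, rfl⟩)
      rw [commutatorElement_def] at h1
      simp only [QuotientGroup.mk_mul, QuotientGroup.mk_inv] at h1
      exact commutatorElement_eq_one_iff_mul_comm.mp h1
    refine Subgroup.commutator_le.mpr fun g _ h _ => ?_
    rw [← QuotientGroup.eq_one_iff]
    obtain ⟨a, ha, b, hb, rfl⟩ := hAB g
    obtain ⟨a', ha', b', hb', rfl⟩ := hAB h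
    have e : Commute (((a * b : G)) : G ⧸ D) (((a' * b' : G)) : G ⧸ D) := by
      have haa : Commute (a : G ⧸ D) a' := congrArg QuotientGroup.mk (setLike_mul_comm ha ha')
      have hbb : Commute (b : G ⧸ D) b' := congrArg QuotientGroup.mk (setLike_mul_comm hb hb')
      have hab' : Commute (a : G ⧸ D) b' := hab a ha b' hb'
      have hba : Commute (b : G ⧸ D) a' := (hab a' ha' b hb).symm
      simp only [QuotientGroup.mk_mul]
      exact (haa.mul_right hab').mul_left (hba.mul_right hbb)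
    exact commutatorElement_eq_one_iff_mul_comm.mpr e.eq
  rw [derivedSeries_succ, derivedSeries_one, eq_bot_iff, Subgroup.commutator_le]
  intro u hu v hv
  rw [Subgroup.mem_bot, commutatorElement_eq_one_iff_mul_comm]
  exact setLike_mul_comm (hle hu) (hle hv)

end Cfsg.Agent.S0572
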