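import Cfsg.Statements.S0049
import Cfsg.Agent.Core.Frattini
import Mathlib.GroupTheory.SchurZassenhaus
-- import your own Cfsg.Agent.* helpers here

set_option autoImplicit false
open Cfsg

namespace Cfsg.Agent.S0049

/-- A prime divisor of the order of a finite group also divides the index of the Frattini subgroup. -/
theorem result {G : Type*} [Group G] [Finite G] (p : ℕ) (hp : p.Prime) (hdvd : p ∣ Nat.card G) :
    p ∣ (frattini G).index := by
  have := Fact.mk hp
  by_contra hnd
  obtain ⟨P⟩ := (inferInstance : Nonempty (Sylow p (frattini G)))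
  have hnil : Group.IsNilpotent (frattini G) := frattini_nilpotent
  have hPn : (P : Subgroup (frattini G)).Normal := inferInstance
  have hPc := P.characteristic_of_normal hPn
  set P' := (P : Subgroup (frattini G)).map (frattini G).subtype with hP'
  have hn : P'.Normal := inferInstance
  have hidx : ¬ p ∣ P'.index := by
    rw [hP', Subgroup.index_map_subtype]
    exact fun h => (hp.dvd_mul.mp h).elim P.not_dvd_index hnd
  obtain ⟨k, hk⟩ := IsPGroup.iff_card.mp (P.isPGroup'.map (frattini G).subtype)
  have hcop : (Nat.card P').Coprime P'.index := by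
    rw [hk]
    exact (hp.coprime_iff_not_dvd.mpr hidx).pow_left k
  obtain ⟨H, hH⟩ := Subgroup.exists_right_complement'_of_coprime hcop
  have htop : H = ⊤ := Core.eq_top_of_sup_frattini (Subgroup.map_subtype_le (P : Subgroup (frattini G)))
    (by rw [sup_comm]; exact hH.sup_eq_top)
  have hbot : P' = ⊥ := Subgroup.isComplement'_top_right.mp (htop ▸ hH)
  rw [hbot, Subgroup.index_bot] at hidx
  exact hidx hdvd

end Cfsg.Agent.S0049
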