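import Cfsg.Statements.S0054
import Mathlib.GroupTheory.GroupAction.MultipleTransitivity
import Mathlib.GroupTheory.PGroup
-- import your own Cfsg.Agent.* helpers here

set_option autoImplicit false
open Cfsg

namespace Cfsg.Agent.S0054

/-- A regular normal subgroup of a finite 2-transitive group is elementary abelian: it is commutative and all its elements have order dividing one prime. -/
theorem result {G : Type*} [Group G] [Finite G]
    {X : Type*} [Nonempty X] [MulAction G X] (h2 : MulAction.IsMultiplyPretransitive G X 2)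
    (N : Subgroup G) [N.Normal] (htrans : MulAction.IsPretransitive N X) (hreg : ∀ x : X, MulAction.stabilizer N x = ⊥) :
    IsMulCommutative N ∧ ∃ p : ℕ, p.Prime ∧ ∀ n ∈ N, n ^ p = 1 := by
  by_cases hN : N = ⊥
  · subst hN
    exact ⟨⟨⟨fun a b => Subsingleton.elim _ _⟩⟩, 2, Nat.prime_two,
      fun n hn => by rw [Subgroup.mem_bot.mp hn, one_pow]⟩
  obtain ⟨x⟩ := (inferInstance : Nonempty X)
  have free : ∀ n ∈ N, n • x = x → n = 1 := fun n hn h => by
    have h' : (⟨n, hn⟩ : N) ∈ MulAction.stabilizer N x := h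
    rw [hreg x, Subgroup.mem_bot] at h'
    exact congrArg Subtype.val h'
  have conjTo : ∀ a ∈ N, ∀ b ∈ N, a ≠ 1 → b ≠ 1 → ∃ g : G, g * a * g⁻¹ = b := by
    intro a ha b hb ha1 hb1
    have hne : ∀ u ∈ N, u ≠ 1 → x ≠ u • x := fun u hu hu1 e => hu1 (free u hu e.symm)
    obtain ⟨g, hg1, hg2⟩ :=
      MulAction.is_two_pretransitive_iff.mp h2 (hne a ha ha1) (hne b hb hb1)
    refine ⟨g, ?_⟩
    have hmem : g * a * g⁻¹ ∈ N := Subgroup.Normal.conj_mem inferInstance a ha g
    have h : b⁻¹ * (g * a * g⁻¹) = 1 := free _ (N.mul_mem (N.inv_mem hb) hmem) (by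
      rw [mul_smul, mul_smul, mul_smul, show g⁻¹ • x = x from inv_smul_eq_iff.mpr hg1.symm, hg2,
        inv_smul_smul])
    exact (inv_mul_eq_one.mp h).symm
  have h1 : Nat.card N ≠ 1 := fun h => hN (Subgroup.card_eq_one.mp h)
  obtain ⟨p, hp, hpd⟩ := Nat.exists_prime_and_dvd h1
  have := Fact.mk hp
  obtain ⟨⟨y, hyN⟩, hy⟩ := exists_prime_orderOf_dvd_card' (G := N) p hpd
  rw [← orderOf_injective N.subtype Subtype.val_injective] at hy
  have hy1 : y ≠ 1 := fun e => hp.ne_one (by rw [← hy]; simp [e])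
  have hpow : ∀ n ∈ N, n ^ p = 1 := by
    intro n hn
    by_cases hn1 : n = 1
    · rw [hn1, one_pow]
    obtain ⟨g, rfl⟩ := conjTo y hyN n hn hy1 hn1
    rw [conj_pow, show y ^ p = 1 from hy ▸ pow_orderOf_eq_one y, mul_one, mul_inv_cancel]
  refine ⟨?_, p, hp, hpow⟩
  have : Nontrivial N := N.nontrivial_iff_ne_bot.mpr hN
  have hNp : IsPGroup p N := fun z => ⟨1, Subtype.ext (by simpa using hpow z z.2)⟩
  obtain ⟨⟨⟨c, hcN⟩, hcc⟩, hc1⟩ := @exists_ne _ hNp.center_nontrivial (1 : Subgroup.center N)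
  have hc1' : c ≠ 1 := fun e => hc1 (Subtype.ext (Subtype.ext e))
  have hall : ∀ a ∈ N, ∀ b ∈ N, a * b = b * a := by
    intro a ha b hb
    by_cases ha1 : a = 1
    · rw [ha1, one_mul, mul_one]
    obtain ⟨g, rfl⟩ := conjTo c hcN a ha hc1' ha1
    have h := congrArg Subtype.val (Subgroup.mem_center_iff.mp hcc
      ⟨g⁻¹ * b * g⁻¹⁻¹, Subgroup.Normal.conj_mem inferInstance b hb g⁻¹⟩)
    simp only [Subgroup.coe_mul, inv_inv] at h
    have e : g * (c * (g⁻¹ * b * g)) * g⁻¹ = g * ((g⁻¹ * b * g) * c) * g⁻¹ := by rw [h]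
    simpa [mul_assoc] using e
  exact ⟨⟨fun a b => Subtype.ext (hall a a.2 b b.2)⟩⟩

end Cfsg.Agent.S0054
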