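import Cfsg.Statements.S0057
import Cfsg.Agent.Coprime.Basic

set_option autoImplicit false
open Cfsg
open scoped commutatorElement

namespace Cfsg.Agent.S0057

/-- Under coprime action, if the centraliser of A in K has prime index p in K then the commutator subgroup [K, A] has order exactly p. -/
theorem result {G : Type*} [Group G] [Finite G] (A K : Subgroup G) (hAK : A ≤ Subgroup.normalizer (K : Set G))
    (hcop : (Nat.card A).Coprime (Nat.card K)) (hsolv : Group.IsSolvable A ∨ Group.IsSolvable K)
    (p : ℕ) (hp : p.Prime) (hidx : (K ⊓ Subgroup.centralizer (A : Set G)).relIndex K = p) :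
    Nat.card (⁅K, A⁆ : Subgroup G) = p := by
  have : Fact p.Prime := ⟨hp⟩
  set C : Subgroup G := K ⊓ Subgroup.centralizer (A : Set G) with hC
  have hCK : C ≤ K := inf_le_left
  obtain ⟨P, hP⟩ := Cfsg.Agent.Coprime.exists_invariant_sylow hAK hcop hsolv p
  set P' : Subgroup G := (P : Subgroup K).map K.subtype with hP'
  have hP'K : P' ≤ K := Subgroup.map_subtype_le _
  have hPp : IsPGroup p P' := P.2.map _
  have hPC : ¬ P' ≤ C := by
    intro h
    have h1 := Subgroup.relIndex_dvd_of_le_left (L := K) h
    rw [hidx] at h1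
    apply P.not_dvd_index
    have h2 : P'.relIndex K = (P : Subgroup K).index :=
      congrArg Subgroup.index (Subgroup.comap_map_eq_self_of_injective K.subtype_injective _)
    rwa [← h2]
  set D : Subgroup G := P' ⊓ C with hD
  have hDidx : D.relIndex P' = p := by
    have hne : D.relIndex P' ≠ 1 := fun h =>
      hPC ((Subgroup.relIndex_eq_one.mp h).trans inf_le_right)
    have hle : D.relIndex P' ≤ p := by
      rw [hD, Subgroup.inf_relIndex_left, ← hidx]
      exact Nat.le_of_dvd (by rw [hidx]; exact hp.pos) (dvd_rfl) |>.trans'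
        (Subgroup.relIndex_le_of_le_right hP'K (by rw [hidx]; exact hp.ne_zero))
    obtain ⟨j, hj⟩ := IsPGroup.iff_card.mp hPp
    have hdvd : D.relIndex P' ∣ p ^ j := hj ▸ Subgroup.index_dvd_card _
    obtain ⟨i, -, hi⟩ := (Nat.dvd_prime_pow hp).mp hdvd
    rcases i with _ | _ | i
    · exact absurd (hi.trans (pow_zero p)) hne
    · rw [hi, pow_one]
    · exfalso
      rw [hi] at hle
      have := Nat.pow_le_pow_right hp.pos (show 2 ≤ i + 1 + 1 by omega)
      have : p * p ≤ p := le_trans (by rw [← pow_two]; exact this) hle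
      nlinarith [hp.two_le]
  have hDc : A ≤ Subgroup.centralizer (D : Set G) :=
    Subgroup.le_centralizer_iff.mp (inf_le_right.trans inf_le_right)
  -- `D` is normal in `P'`
  have hDn : P' ≤ Subgroup.normalizer (D : Set G) := by
    have hlt : D.subgroupOf P' < ⊤ := lt_top_iff_ne_top.mpr fun h => hp.ne_one (by
      rw [← hDidx, Subgroup.relIndex, h, Subgroup.index_top])
    have hlt2 := @Group.normalizerCondition_of_isNilpotent _ _ hPp.isNilpotent _ hlt
    have htop : Subgroup.normalizer ((D.subgroupOf P' : Subgroup P') : Set P') = ⊤ := by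
      rw [← Subgroup.index_eq_one]
      have hdvd : (Subgroup.normalizer ((D.subgroupOf P' : Subgroup P') : Set P')).index ∣ p :=
        (Subgroup.index_dvd_of_le hlt2.le).trans (dvd_of_eq hDidx)
      rcases (Nat.dvd_prime hp).mp hdvd with h | h
      · exact h
      · exfalso
        have := Subgroup.index_strictAnti hlt2
        rw [h] at this
        exact lt_irrefl p (this.trans_eq hDidx)
    have := Subgroup.normalizer_eq_top_iff.mp htop
    exact (Subgroup.normal_subgroupOf_iff_le_normalizer inf_le_left).mp this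
  set Z : Subgroup G := ⁅P', A⁆ with hZ
  have hZP : Z ≤ P' := Cfsg.Agent.Coprime.commutator_le_of_le_normalizer hP
  have hcopP : (Nat.card A).Coprime (Nat.card P') :=
    hcop.coprime_dvd_right (Subgroup.card_dvd_of_le hP'K)
  have hsolvP : Group.IsSolvable A ∨ Group.IsSolvable P' :=
    hsolv.imp id (Cfsg.Agent.Coprime.isSolvable_of_le hP'K)
  have hZD : Z ≤ Subgroup.centralizer (D : Set G) := by
    rw [← Subgroup.commutator_eq_bot_iff_le_centralizer, hZ]
    refine Subgroup.commutator_commutator_eq_bot_of_rotate ?_ ?_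
    · rw [Subgroup.commutator_comm A D,
        Subgroup.commutator_eq_bot_iff_le_centralizer.mpr (Subgroup.le_centralizer_iff.mp hDc),
        Subgroup.commutator_bot_left]
    · rw [Subgroup.commutator_eq_bot_iff_le_centralizer]
      refine (le_trans ?_ (Subgroup.le_centralizer_iff.mp hDc))
      rw [Subgroup.commutator_comm]
      exact Subgroup.le_normalizer_iff_commutator_le_right.mp hDn
  have hDZidx : D.relIndex Z ≤ p := by
    have hZpos : D.relIndex P' ≠ 0 := by rw [hDidx]; exact hp.ne_zero
    exact (Subgroup.relIndex_le_of_le_right hZP hZpos).trans hDidx.le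
  -- `Z` is abelian
  have hZab : IsMulCommutative Z := by
    have hcen : D.subgroupOf Z ≤ Subgroup.center Z := by
      intro d hd
      rw [Subgroup.mem_center_iff]
      intro z
      exact Subtype.ext (Subgroup.mem_centralizer_iff.mp (hZD z.2) d hd).symm
    have hn : (D.subgroupOf Z).Normal :=
      Subgroup.normal_subgroupOf_of_le_normalizer (hZP.trans hDn)
    have hcy : IsCyclic (Z ⧸ D.subgroupOf Z) := by
      by_cases h1 : Nat.card (Z ⧸ D.subgroupOf Z) = 1
      · have : Subsingleton (Z ⧸ D.subgroupOf Z) := (Nat.card_eq_one_iff_unique.mp h1).1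
        exact isCyclic_of_subsingleton
      · obtain ⟨j, hj⟩ := IsPGroup.iff_card.mp (hPp.to_le hZP)
        have hdvd : (D.subgroupOf Z).index ∣ p ^ j := hj ▸ Subgroup.index_dvd_card _
        rw [← Subgroup.index_eq_card] at h1
        obtain ⟨i, -, hi⟩ := (Nat.dvd_prime_pow hp).mp hdvd
        refine isCyclic_of_prime_card (p := p) ?_
        rw [← Subgroup.index_eq_card, hi]
        rcases i with _ | _ | i
        · exact absurd (hi.trans (pow_zero p)) h1
        · exact pow_one p
        · exfalso
          have hle : (D.subgroupOf Z).index ≤ p := hDZidx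
          rw [hi] at hle
          have := (Nat.pow_lt_pow_right hp.one_lt (show 1 < i + 1 + 1 by omega))
          rw [pow_one] at this
          omega
    refine ⟨⟨fun a b => commutative_of_cyclic_center_quotient (QuotientGroup.mk' (D.subgroupOf Z))
      (by rw [QuotientGroup.ker_mk']; exact hcen) a b⟩⟩
  have hAZ : A ≤ Subgroup.normalizer (Z : Set G) := Subgroup.normalizer_commutator_ge_right P' A
  have hZZ : ⁅Z, A⁆ = Z := Cfsg.Agent.Coprime.commutator_commutator_eq hP hcopP hsolvP
  have hZdisj : Z ⊓ Subgroup.centralizer (A : Set G) = ⊥ := by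
    have h := Cfsg.Agent.Coprime.centralizer_inf_commutator_eq_bot (A := A) (V := Z) hAZ
      (hcopP.coprime_dvd_right (Subgroup.card_dvd_of_le hZP))
    rw [hZZ] at h
    rwa [inf_right_comm, inf_idem] at h
  have hDZbot : D ⊓ Z = ⊥ := by
    rw [eq_bot_iff, ← hZdisj]
    exact fun x hx => ⟨hx.2, hx.1.2.2⟩
  have hZcard : Nat.card Z = p := by
    have h1 : D.relIndex Z = Nat.card Z := by
      rw [← Subgroup.inf_relIndex_right, hDZbot, Subgroup.relIndex_bot_left]
    have hle : Nat.card Z ≤ p := h1 ▸ hDZidx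
    obtain ⟨j, hj⟩ := IsPGroup.iff_card.mp (hPp.to_le hZP)
    rcases j with _ | _ | j
    · exfalso
      have hZbot : Z = ⊥ := Subgroup.card_eq_one.mp (by rw [hj, pow_zero])
      exact hPC (le_inf hP'K (Subgroup.commutator_eq_bot_iff_le_centralizer.mp hZbot))
    · rw [hj, pow_one]
    · exfalso
      rw [hj] at hle
      have := (Nat.pow_lt_pow_right hp.one_lt (show 1 < j + 1 + 1 by omega))
      rw [pow_one] at this
      omega
  have hKcard : Nat.card K = p * Nat.card C := by
    have := (C.subgroupOf K).card_mul_index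
    rw [Cfsg.Agent.Coprime.card_subgroupOf hCK] at this
    rw [← this, mul_comm, ← Subgroup.relIndex, hidx]
  -- every element of `K` is `z * c`
  have hsurj : ∀ k ∈ K, ∃ z ∈ Z, ∃ c ∈ C, z * c = k := by
    intro k hk
    have hinj : Function.Injective (fun q : Z × C => (⟨(q.1 : G) * q.2,
        K.mul_mem (hP'K (hZP q.1.2)) (hCK q.2.2)⟩ : K)) := by
      intro a b h
      refine Subgroup.mul_injective_of_disjoint (disjoint_iff.mpr ?_) (congrArg Subtype.val h)
      rw [eq_bot_iff, ← hZdisj]
      exact inf_le_inf_left _ inf_le_right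
    have hbij := (Nat.bijective_iff_injective_and_card _).mpr ⟨hinj, by
      rw [Nat.card_prod, hZcard, hKcard]⟩
    obtain ⟨⟨z, c⟩, hzc⟩ := hbij.2 ⟨k, hk⟩
    exact ⟨z, z.2, c, c.2, congrArg Subtype.val hzc⟩
  suffices h : ⁅K, A⁆ = Z by rw [h, hZcard]
  refine le_antisymm ?_ (Subgroup.commutator_mono hP'K le_rfl)
  rw [Subgroup.commutator_le]
  intro k hk a ha
  obtain ⟨z, hz, c, hc, rfl⟩ := hsurj k hk
  have hca : c * a = a * c := (Subgroup.mem_centralizer_iff.mp hc.2 a ha).symm
  have e : (z * c) * a * (z * c)⁻¹ * a⁻¹ = z * a * z⁻¹ * a⁻¹ := by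
    calc (z * c) * a * (z * c)⁻¹ * a⁻¹ = z * (c * a) * c⁻¹ * z⁻¹ * a⁻¹ := by simp [mul_assoc]
      _ = z * (a * c) * c⁻¹ * z⁻¹ * a⁻¹ := by rw [hca]
      _ = z * a * z⁻¹ * a⁻¹ := by simp [mul_assoc]
  rw [commutatorElement_def, e]
  exact hZZ.le (Subgroup.commutator_mem_commutator hz ha)

end Cfsg.Agent.S0057
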