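import Cfsg.Statements.S0060
import Mathlib.GroupTheory.Sylow
import Mathlib.Tactic

set_option autoImplicit false
open Pointwise
open Cfsg

namespace Cfsg.Agent.S0060

/-- Brodkey's Theorem: in a finite group with abelian Sylow p-subgroups and no nontrivial normal p-subgroup, some conjugate of a Sylow p-subgroup meets it trivially. -/
theorem result {G : Type*} [Group G] [Finite G] (p : ℕ) [Fact p.Prime]
    (S : Sylow p G) (hS : IsMulCommutative S) (hOp : Cfsg.pCore p G = ⊥) :
    ∃ g : G, (S : Subgroup G) ⊓ MulAut.conj g • (S : Subgroup G) = ⊥ := by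
  classical
  obtain ⟨g₀, hmin⟩ := Finite.exists_min (fun g : G => Nat.card ↥((S : Subgroup G) ⊓ MulAut.conj g • (S : Subgroup G)))
  refine ⟨g₀, ?_⟩
  set D := (S : Subgroup G) ⊓ MulAut.conj g₀ • (S : Subgroup G) with hD
  suffices hle : ∀ R : Sylow p G, D ≤ (R : Subgroup G) by
    have hN : ∃ N : Subgroup G, N.Normal ∧ IsPGroup p N ∧ D ≤ N := by
      refine ⟨⨅ R : Sylow p G, (R : Subgroup G), ⟨fun x hx g => ?_⟩, S.2.to_le (iInf_le _ S), le_iInf hle⟩
      rw [Subgroup.mem_iInf] at hx ⊢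
      intro P
      have hxg := hx (g⁻¹ • P)
      rw [Sylow.coe_subgroup_smul, Subgroup.mem_pointwise_smul_iff_inv_smul_mem] at hxg
      simpa [MulAut.smul_def] using hxg
    obtain ⟨N, hNn, hNp, hDN⟩ := hN
    rw [eq_bot_iff, ← hOp]
    exact hDN.trans (le_sSup ⟨hNn, hNp⟩)
  intro R
  set C := Subgroup.centralizer (D : Set G) with hCdef
  have habel : ∀ P : Sylow p G, ∀ a ∈ P, ∀ b ∈ P, a * b = b * a := by
    intro P a ha b hb
    obtain ⟨g, rfl⟩ := MulAction.exists_smul_eq G S P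
    change _ ∈ ((g • S : Sylow p G) : Subgroup G) at ha hb
    rw [Sylow.coe_subgroup_smul, Subgroup.mem_pointwise_smul_iff_inv_smul_mem] at ha hb
    have h := congrArg Subtype.val (hS.is_comm.comm ⟨_, ha⟩ ⟨_, hb⟩)
    apply (MulAut.conj g)⁻¹.injective
    rw [map_mul, map_mul]
    exact h
  have hleC : ∀ P : Sylow p G, D ≤ (P : Subgroup G) → (P : Subgroup G) ≤ C := by
    intro P hP a ha
    rw [hCdef, Subgroup.mem_centralizer_iff]
    exact fun d hd => (habel P a ha d (hP hd)).symm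
  have hSC : (S : Subgroup G) ≤ C := hleC S inf_le_left
  let T : Sylow p G := g₀ • S
  have hT : (T : Subgroup G) = MulAut.conj g₀ • (S : Subgroup G) := Sylow.coe_subgroup_smul
  have hTC : (T : Subgroup G) ≤ C := hleC T (hT ▸ inf_le_right)
  obtain ⟨Q, hQ⟩ := (R.2.to_le (inf_le_left : (R : Subgroup G) ⊓ C ≤ R)).comap_subtype (K := C) |>.exists_le_sylow
  obtain ⟨c, hc⟩ := MulAction.exists_smul_eq C (S.subtype hSC) Q
  let x : G := c
  have hxD : MulAut.conj x • D = D := by
    have : ∀ d ∈ D, x * d * x⁻¹ = d := fun d hd => by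
      show (c : G) * d * (c : G)⁻¹ = d
      rw [← Subgroup.mem_centralizer_iff.1 c.2 d hd]; group
    refine le_antisymm ?_ ?_
    · rintro _ ⟨d, hd, rfl⟩
      simpa [this d hd] using hd
    · intro d hd
      exact ⟨d, hd, by simpa using this d hd⟩
  have hRC : (R : Subgroup G) ⊓ C ≤ MulAut.conj x • (S : Subgroup G) := by
    intro r hr
    have h1 : (⟨r, hr.2⟩ : C) ∈ (Q : Subgroup C) := hQ (Subgroup.mem_subgroupOf.2 hr)
    rw [← hc, Sylow.coe_subgroup_smul, Subgroup.mem_pointwise_smul_iff_inv_smul_mem] at h1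
    rw [Subgroup.mem_pointwise_smul_iff_inv_smul_mem]
    simpa [MulAut.smul_def, Subgroup.mem_subgroupOf, x] using h1
  let U : Sylow p G := x • T
  have hU : (U : Subgroup G) = MulAut.conj x • (T : Subgroup G) := Sylow.coe_subgroup_smul
  have hUC : (U : Subgroup G) ≤ C := hleC U (by
    rw [hU, ← hxD, hT]; exact Subgroup.pointwise_smul_le_pointwise_smul_iff.2 inf_le_right)
  have hUR : (U : Subgroup G) ⊓ (R : Subgroup G) ≤ D := by
    intro r hr
    have h1 : r ∈ MulAut.conj x • (S : Subgroup G) := hRC ⟨hr.2, hUC hr.1⟩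
    have h2 : r ∈ MulAut.conj x • (T : Subgroup G) := hU ▸ hr.1
    rw [← hxD, Subgroup.mem_pointwise_smul_iff_inv_smul_mem]
    rw [Subgroup.mem_pointwise_smul_iff_inv_smul_mem] at h1 h2
    exact ⟨h1, hT ▸ h2⟩
  obtain ⟨a, ha⟩ := MulAction.exists_smul_eq G U S
  obtain ⟨b, hb⟩ := MulAction.exists_smul_eq G S (a • R)
  have hcard : Nat.card D ≤ Nat.card ↥((U : Subgroup G) ⊓ (R : Subgroup G)) := by
    refine (hmin b).trans_eq ?_
    have h1 : (S : Subgroup G) = MulAut.conj a • (U : Subgroup G) := by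
      rw [← Sylow.coe_subgroup_smul, ha]
    have h2 : MulAut.conj b • (S : Subgroup G) = MulAut.conj a • (R : Subgroup G) := by
      rw [← Sylow.coe_subgroup_smul, hb, Sylow.coe_subgroup_smul]
    rw [h2, h1, ← Subgroup.smul_inf]
    exact Nat.card_congr (Subgroup.equivSMul (MulAut.conj a) _).toEquiv.symm
  have := Subgroup.eq_of_le_of_card_ge hUR hcard
  exact this.ge.trans inf_le_right

end Cfsg.Agent.S0060
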