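import Cfsg.Statements.S0063
import Mathlib.GroupTheory.Nilpotent
import Mathlib.GroupTheory.PGroup
import Mathlib.GroupTheory.SpecificGroups.Cyclic
-- import your own Cfsg.Agent.* helpers here

set_option autoImplicit false
open Cfsg

namespace Cfsg.Agent.S0063

theorem class_le.{u} {p : ℕ} [hp : Fact p.Prime] : ∀ (m : ℕ) (G : Type u) [Group G] [Finite G],
    Nat.card G = p ^ m → Group.nilpotencyClass G ≤ max (m - 1) 1 := by
  intro m
  induction m using Nat.strong_induction_on with
  | _ m ih =>
    intro G _ _ hG
    have hpG : IsPGroup p G := IsPGroup.of_card hG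
    have := hpG.isNilpotent
    by_cases hab : IsMulCommutative G
    · exact ((Group.IsNilpotent.nilpotencyClass_le_one_iff (G := G)).mpr hab).trans (le_max_right _ _)
    have : Nontrivial G := not_subsingleton_iff_nontrivial.mp fun h => hab ⟨⟨fun a b => Subsingleton.elim _ _⟩⟩
    obtain ⟨j, hj⟩ := IsPGroup.iff_card.mp (hpG.to_quotient (Subgroup.center G))
    have hncyc : ¬ IsCyclic (G ⧸ Subgroup.center G) := fun _ =>
      hab (MonoidHom.isMulCommutative_of_isCyclic_of_ker_le_center (QuotientGroup.mk' (Subgroup.center G)) (by simp))
    have hj2 : 2 ≤ j := by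
      by_contra h
      apply hncyc
      interval_cases j
      · have : Subsingleton (G ⧸ Subgroup.center G) :=
          (Nat.card_eq_one_iff_unique.mp (by simpa using hj)).1
        exact isCyclic_of_subsingleton
      · exact isCyclic_of_prime_card (p := p) (by simpa using hj)
    have hjm : j < m := by
      have := hpG.center_nontrivial
      have h1 := Subgroup.card_eq_card_quotient_mul_card_subgroup (Subgroup.center G)
      rw [hj, hG] at h1
      have h2 : 1 < Nat.card (Subgroup.center G) := Finite.one_lt_card
      refine (Nat.pow_lt_pow_iff_right hp.out.one_lt).mp ?_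
      rw [h1]
      exact lt_mul_of_one_lt_right (pow_pos hp.out.pos _) h2
    rw [Group.nilpotencyClass_eq_quotient_center_plus_one]
    have h3 := ih j hjm (G ⧸ Subgroup.center G) hj
    omega

/-- A finite group of prime-power order p ^ m with m > 1 is nilpotent of class at most m - 1. -/
theorem result {G : Type*} [Group G] [Finite G] (p m : ℕ) [Fact p.Prime]
    (hG : Nat.card G = p ^ m) (hm : 1 < m) : Group.nilpotencyClass G ≤ m - 1 := by
  have h := class_le (p := p) m G hG
  omega

end Cfsg.Agent.S0063
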