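import Cfsg.Statements.S0064
import Cfsg.Agent.Core.Frattini
-- import your own Cfsg.Agent.* helpers here

set_option autoImplicit false
open Cfsg

namespace Cfsg.Agent.S0064

/-- A finite group is nilpotent exactly when each of its subgroups is subnormal. -/
theorem result {G : Type*} [Group G] [Finite G] :
    Group.IsNilpotent G ↔ ∀ H : Subgroup G, H.IsSubnormal := by
  constructor
  · intro hnil
    suffices ∀ n, ∀ H : Subgroup G, H.index = n → H.IsSubnormal from fun H => this _ H rfl
    intro n
    induction n using Nat.strong_induction_on with
    | _ n ih =>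
      intro H hn
      by_cases htop : H = ⊤
      · rw [htop]; exact Subgroup.IsSubnormal.top
      · have hlt : H < Subgroup.normalizer (H : Set G) :=
          Group.normalizerCondition_of_isNilpotent H (lt_top_iff_ne_top.mpr htop)
        exact Subgroup.IsSubnormal.step H _ hlt.le
          (ih _ (hn ▸ Subgroup.index_strictAnti hlt) _ rfl) Subgroup.normal_in_normalizer
  · intro h
    refine ((Group.isNilpotent_of_finite_tfae (G := G)).out 0 2).mpr fun M hM => ?_
    rcases (h M).lt_normal with h' | ⟨K, hK, hMK, hKt⟩
    · exact absurd h' hM.1
    · rcases hMK.eq_or_lt with rfl | hlt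
      · exact hK
      · exact absurd (hM.2 K hlt) hKt.ne

end Cfsg.Agent.S0064
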