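import Cfsg.Statements.S0067
import Cfsg.Agent.Core.Zipper
import Cfsg.Agent.Core.Frattini
import Cfsg.Agent.Layer.FStar
-- import your own Cfsg.Agent.* helpers here

set_option autoImplicit false
open Pointwise
open Cfsg

namespace Cfsg.Agent.S0067

open scoped Pointwise

/-- If the join of a subgroup A with each of its conjugates is nilpotent, then A is subnormal in the finite group and contained in the Fitting subgroup. -/
theorem result {G : Type*} [Group G] [Finite G] (A : Subgroup G)
    (h : ∀ g : G, Group.IsNilpotent (A ⊔ MulAut.conj g • A : Subgroup G)) : A.IsSubnormal ∧ A ≤ Cfsg.fittingSubgroup G := by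
  have hsn : A.IsSubnormal := by
    refine Core.isSubnormal_of_forall_conj fun g => ?_
    have hg := h g
    suffices ∀ n, ∀ H : Subgroup (A ⊔ MulAut.conj g • A : Subgroup G), H.index = n → H.IsSubnormal from
      this _ _ rfl
    intro n
    induction n using Nat.strong_induction_on with
    | _ n ih =>
      intro H hn
      by_cases htop : H = ⊤
      · rw [htop]; exact Subgroup.IsSubnormal.top
      · have hlt : H < Subgroup.normalizer (H : Set (A ⊔ MulAut.conj g • A : Subgroup G)) :=
          Group.normalizerCondition_of_isNilpotent H (lt_top_iff_ne_top.mpr htop)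
        exact Subgroup.IsSubnormal.step H _ hlt.le
          (ih _ (hn ▸ Subgroup.index_strictAnti hlt) _ rfl) Subgroup.normal_in_normalizer
  exact ⟨hsn, Layer.subnormal_le_fitting hsn (Core.isNilpotent_mono (h 1) le_sup_left)⟩

end Cfsg.Agent.S0067
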