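import Cfsg.Statements.S0068
import Cfsg.Agent.Core.FrobeniusGroup
-- import your own Cfsg.Agent.* helpers here

set_option autoImplicit false
open Cfsg

namespace Cfsg.Agent.S0068

/-- Frobenius complements of even order: if H complements a nontrivial normal subgroup K, each nonidentity element of H has trivial centraliser in K, and H has even order, then H contains a unique involution s, K is abelian, and s inverts every element of K. -/
theorem result {G : Type*} [Group G] [Finite G] (K H : Subgroup G) [K.Normal]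
    (hc : Subgroup.IsComplement' K H) (hK : K ≠ ⊥) (hfpf : ∀ h ∈ H, h ≠ 1 → K ⊓ Subgroup.centralizer {h} = ⊥)
    (heven : 2 ∣ Nat.card H) :
    (∃ s ∈ H, orderOf s = 2 ∧ (∀ t ∈ H, orderOf t = 2 → t = s) ∧ ∀ k ∈ K, s * k * s⁻¹ = k⁻¹) ∧ IsMulCommutative K := by
  obtain ⟨⟨s, hsH⟩, hs⟩ := exists_prime_orderOf_dvd_card' (G := H) 2 heven
  rw [Subgroup.orderOf_mk] at hs
  have key : ∀ t ∈ H, orderOf t = 2 → ∀ k ∈ K, t * k * t⁻¹ = k⁻¹ := by
    intro t ht ht2 k hk
    have ht1 : t ≠ 1 := fun e => by simp [e] at ht2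
    have htt : t⁻¹ = t := inv_eq_of_mul_eq_one_right (by rw [← sq, ← ht2, pow_orderOf_eq_one])
    let f : K → K := fun x => ⟨(x : G)⁻¹ * (t * x * t⁻¹),
      K.mul_mem (K.inv_mem x.2) (‹K.Normal›.conj_mem x x.2 t)⟩
    have hf : Function.Injective f := by
      intro x y hxy
      have h : (x : G)⁻¹ * (t * x * t⁻¹) = (y : G)⁻¹ * (t * y * t⁻¹) := congrArg Subtype.val hxy
      have h2 : (y : G) * (x : G)⁻¹ ∈ K ⊓ Subgroup.centralizer {t} := by
        refine ⟨K.mul_mem y.2 (K.inv_mem x.2), Subgroup.mem_centralizer_iff.mpr fun z hz => ?_⟩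
        rw [Set.mem_singleton_iff.mp hz]
        have h3 := congrArg (fun w => (y : G) * w * (t * (x : G)⁻¹)) h
        simpa [mul_assoc] using h3.symm
      rw [hfpf t ht ht1, Subgroup.mem_bot, mul_inv_eq_one] at h2
      exact Subtype.ext h2.symm
    obtain ⟨x, hx⟩ := (Finite.injective_iff_surjective.mp hf) ⟨k, hk⟩
    have hx' : (x : G)⁻¹ * (t * x * t⁻¹) = k := congrArg Subtype.val hx
    rw [← hx', mul_inv_rev, inv_inv]
    calc t * ((x : G)⁻¹ * (t * x * t⁻¹)) * t⁻¹ = t * (x : G)⁻¹ * t * x * (t * t)⁻¹ := by simp [mul_assoc]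
      _ = (t * x * t⁻¹)⁻¹ * x := by rw [show t * t = 1 by rw [← sq, ← ht2, pow_orderOf_eq_one]]; simp [mul_assoc, htt]
  refine ⟨⟨s, hsH, hs, fun t ht ht2 => ?_, key s hsH hs⟩, ⟨⟨fun a b => ?_⟩⟩⟩
  · by_contra hne
    obtain ⟨k, hk, hk1⟩ := (Subgroup.bot_or_exists_ne_one K).resolve_left hK
    have hst : s⁻¹ * t ≠ 1 := fun e => hne (inv_mul_eq_one.mp e).symm
    have h2 : k ∈ K ⊓ Subgroup.centralizer {s⁻¹ * t} := by
      refine ⟨hk, Subgroup.mem_centralizer_iff.mpr fun z hz => ?_⟩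
      rw [Set.mem_singleton_iff.mp hz]
      have h4 : t * k * t⁻¹ = s * k * s⁻¹ := (key t ht ht2 k hk).trans (key s hsH hs k hk).symm
      have h5 := congrArg (fun w => s⁻¹ * w * t) h4
      simpa [mul_assoc] using h5
    rw [hfpf _ (H.mul_mem (H.inv_mem hsH) ht) hst, Subgroup.mem_bot] at h2
    exact hk1 h2
  · refine Subtype.ext ?_
    have h1 := key s hsH hs _ (K.mul_mem a.2 b.2)
    have h2 : s * ((a : G) * b) * s⁻¹ = (a : G)⁻¹ * (b : G)⁻¹ := by
      rw [← key s hsH hs a a.2, ← key s hsH hs b b.2]; simp [mul_assoc]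
    rw [h2, ← mul_inv_rev, inv_inj] at h1
    exact h1.symm

end Cfsg.Agent.S0068
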