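import Cfsg.Statements.S0069
import Cfsg.Agent.Core.FPF
import Cfsg.Agent.S0039
import Cfsg.Agent.S0042
-- import your own Cfsg.Agent.* helpers here

set_option autoImplicit false
open Cfsg

namespace Cfsg.Agent.S0069

/-- A Frobenius complement has nontrivial centre: if H ≠ 1 complements a nontrivial normal subgroup K and every nonidentity element of H has trivial centraliser in K, then the centre of H is nontrivial. -/
theorem result {G : Type*} [Group G] [Finite G] (K H : Subgroup G) [K.Normal]
    (hc : Subgroup.IsComplement' K H) (hK : K ≠ ⊥) (hH : H ≠ ⊥) (hfpf : ∀ h ∈ H, h ≠ 1 → K ⊓ Subgroup.centralizer {h} = ⊥) :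
    Subgroup.center H ≠ ⊥ := by
  have hF := (S0039.result K H hc hK hH).mpr hfpf
  obtain ⟨N, hNset, hNn, hNnil⟩ := S0042.result H hF
  obtain ⟨M, hMset, hMn, hMc⟩ := Core.exists_frobeniusKernel hF
  have hNM : N = M := SetLike.coe_injective (hNset.trans hMset.symm)
  subst hNM
  have := hNnil
  have hNne : N ≠ ⊥ := fun e => hF.2.1 (Subgroup.isComplement'_bot_left.mp (e ▸ hMc))
  have : Nontrivial N := (Subgroup.nontrivial_iff_ne_bot N).mpr hNne
  set W : Subgroup G := (Subgroup.center N).map N.subtype with hW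
  have hWab : IsMulCommutative W := by
    refine ⟨⟨?_⟩⟩
    rintro ⟨_, a, ha, rfl⟩ ⟨_, b, hb, rfl⟩
    exact Subtype.ext (congrArg Subtype.val (Subgroup.mem_center_iff.mp ha b)).symm
  have hWn : H ≤ Subgroup.normalizer (W : Set G) := by
    have : W.Normal := inferInstance
    rw [Subgroup.normalizer_eq_top]; exact le_top
  have hW1 : W ≠ ⊥ := fun e => Group.IsNilpotent.center_ne_bot (G := N) ((Subgroup.map_eq_bot_iff_of_injective _ N.subtype_injective).mp e)
  have hfpf' : ∀ h ∈ H, h ≠ 1 → W ⊓ Subgroup.centralizer {h} = ⊥ := by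
    intro h hh h1
    refine eq_bot_iff.mpr fun x hx => ?_
    have hxN : x ∈ N := Subgroup.map_subtype_le _ hx.1
    by_contra hx1
    have hxH : x ∉ H := fun hxH => hx1 (hMc.disjoint.eq_bot ▸ (⟨hxN, hxH⟩ : x ∈ N ⊓ H))
    refine h1 (Core.malnormal_of_isFrobeniusComplement hF x hxH h hh ?_)
    rw [Subgroup.mem_centralizer_singleton_iff.mp hx.2, mul_inv_cancel_right]
    exact hh
  have : Nontrivial W := (Subgroup.nontrivial_iff_ne_bot W).mpr hW1
  have : Nontrivial H := (Subgroup.nontrivial_iff_ne_bot H).mpr hH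
  open scoped IsMulCommutative in
  exact (Core.exists_isFPF hWn hfpf').center_ne_bot

end Cfsg.Agent.S0069
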