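import Cfsg.Statements.S0073
import Cfsg.Agent.Fusion.Control

set_option autoImplicit false
open Cfsg

namespace Cfsg.Agent.S0073

/-- For a finite non-abelian simple group, either the cube of the least prime divisor of the order divides the order, or 12 does. -/
theorem result {G : Type*} [Group G] [Finite G] [IsSimpleGroup G] (hG : ∃ x y : G, x * y ≠ y * x) : (Nat.card G).minFac ^ 3 ∣ Nat.card G ∨ 12 ∣ Nat.card G := by
  by_contra hcon
  push Not at hcon
  obtain ⟨h3, h12⟩ := hcon
  obtain ⟨x, y, hxy⟩ := hG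
  have hne1 : Nat.card G ≠ 1 := fun e => hxy (by
    have := (Nat.card_eq_one_iff_unique.mp e).1
    exact Subsingleton.elim _ _)
  set p := (Nat.card G).minFac with hpdef
  have hp : p.Prime := Nat.minFac_prime hne1
  have := Fact.mk hp
  obtain ⟨P⟩ := (inferInstance : Nonempty (Sylow p G))
  obtain ⟨k, hk⟩ := IsPGroup.iff_card.mp P.2
  have hk2 : k ≤ 2 := by
    by_contra hlt
    exact h3 ((pow_dvd_pow p (by omega : 3 ≤ k)).trans (hk ▸ Subgroup.card_subgroup_dvd_card _))
  have hk1 : k ≠ 0 := by
    rintro rfl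
    exact P.ne_bot_of_dvd_card (Nat.minFac_dvd _) (Subgroup.card_eq_one.mp (by simpa using hk))
  have hab : IsMulCommutative (P : Subgroup G) := by
    interval_cases k
    · exact absurd rfl hk1
    · have : IsCyclic (P : Subgroup G) := isCyclic_of_prime_card (p := p) (by simpa using hk)
      exact IsCyclic.isMulCommutative
    · exact IsPGroup.isMulCommutative_of_card_eq_prime_sq hk
  have hc : Cfsg.HasNormalPComplement p G := by
    refine Fusion.hasNormalPComplement_of_normalizer_le_centralizer P
      (Fusion.normalizer_le_centralizer_of_primePow P hab fun q hq hqp hqd n hn hord => ?_)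
    have := Fact.mk hq
    have hpq : p < q := lt_of_le_of_ne (Nat.minFac_le_of_dvd hq.two_le hqd) (Ne.symm hqp)
    refine Fusion.mem_centralizer_of_card_modEq hn hord fun d hd hne hmod => ?_
    rw [hk] at hd hmod hne
    obtain ⟨j, hj, rfl⟩ := (Nat.dvd_prime_pow hp).mp hd
    have hjk : j < k := lt_of_le_of_ne hj (by rintro rfl; exact hne rfl)
    have hp2 := hp.two_le
    have h1k : j = 0 ∧ k = 1 ∨ j = 0 ∧ k = 2 ∨ j = 1 ∧ k = 2 := by omega
    rcases h1k with ⟨rfl, rfl⟩ | ⟨rfl, rfl⟩ | ⟨rfl, rfl⟩
    · rw [pow_zero, pow_one] at hmod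
      have := Nat.ModEq.eq_of_lt_of_lt hmod (hq.one_lt) hpq
      omega
    · rw [pow_zero] at hmod
      have hd2 : q ∣ p ^ 2 - 1 := (Nat.modEq_iff_dvd' (Nat.one_le_pow _ _ hp.pos)).mp hmod
      rw [show p ^ 2 - 1 = (p + 1) * (p - 1) by simpa using Nat.sq_sub_sq p 1] at hd2
      rcases hq.dvd_mul.mp hd2 with h | h
      · have hq1 : q = p + 1 := le_antisymm (Nat.le_of_dvd (by omega) h) hpq
        have hpe : p = 2 := by
          rcases Nat.even_or_odd p with he | ho
          · exact (Nat.Prime.even_iff hp).mp he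
          · have : q = 2 := (Nat.Prime.even_iff hq).mp (hq1 ▸ ho.add_one)
            omega
        apply h12
        have h4 : 4 ∣ Nat.card G := by
          have := hk ▸ Subgroup.card_subgroup_dvd_card (P : Subgroup G)
          rwa [hpe] at this
        have h3' : 3 ∣ Nat.card G := by rwa [hq1, hpe] at hqd
        exact Nat.Coprime.mul_dvd_of_dvd_of_dvd (by norm_num : Nat.Coprime 4 3) h4 h3'
      · have := Nat.le_of_dvd (by omega) h
        omega
    · rw [pow_one] at hmod
      have hd2 : q ∣ p ^ 2 - p := (Nat.modEq_iff_dvd' (Nat.le_self_pow (by norm_num) p)).mp hmod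
      rw [show p ^ 2 - p = p * (p - 1) by rw [Nat.mul_sub, mul_one, pow_two]] at hd2
      rcases hq.dvd_mul.mp hd2 with h | h
      · exact hqp ((Nat.prime_dvd_prime_iff_eq hq hp).mp h)
      · have := Nat.le_of_dvd (by omega) h
        omega
  have hN : Cfsg.pResidual p G = ⊥ := by
    refine (Subgroup.Normal.eq_bot_or_eq_top inferInstance).resolve_right fun ht => ?_
    have := Fusion.coprime_card_pResidual_of_hasNormalPComplement hc
    rw [ht, Subgroup.card_top] at this
    exact (Nat.Prime.coprime_iff_not_dvd hp).mp this.symm (Nat.minFac_dvd _)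
  have htop : (P : Subgroup G) = ⊤ := by
    have := Fusion.sylow_sup_pResidual P
    rwa [hN, sup_bot_eq] at this
  exact hxy (congrArg (fun z : (P : Subgroup G) => (z : G))
    (mul_comm' (⟨x, htop.ge (Subgroup.mem_top x)⟩ : (P : Subgroup G)) ⟨y, htop.ge (Subgroup.mem_top y)⟩))

end Cfsg.Agent.S0073
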