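import Cfsg.Statements.S0076
import Cfsg.Agent.Fusion.Alperin

set_option autoImplicit false
open Cfsg

namespace Cfsg.Agent.S0076

/-- Two P-invariant subsets of a Sylow p-subgroup P that are conjugate in G are conjugate under the normalizer of P. -/
theorem result {G : Type*} [Group G] [Finite G] {p : ℕ} [Fact p.Prime] (P : Sylow p G) (X Y : Set G) (hXP : X ⊆ P) (hYP : Y ⊆ P) (hX : ∀ x ∈ P, (fun y => x * y * x⁻¹) '' X = X) (hY : ∀ x ∈ P, (fun y => x * y * x⁻¹) '' Y = Y) (g : G) (hg : (fun y => g * y * g⁻¹) '' X = Y) : ∃ n ∈ Subgroup.normalizer (P : Set G), (fun y => n * y * n⁻¹) '' X = Y := by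
  have hconj : ∀ (g : G) (S : Set G), (fun y => g * y * g⁻¹) '' S = Fusion.conjSet g⁻¹ S := by
    intro g S; simp [Fusion.conjSet]
  have hnorm : ∀ (g : G) (S : Set G), Fusion.conjSet g⁻¹ S = S → g ∈ Subgroup.normalizer S := by
    intro g S hS
    rw [Subgroup.mem_normalizer_iff_conj_image_eq, show ⇑(MulAut.conj g) = fun a => g * a * g⁻¹
      from rfl, hconj]
    exact hS
  set N := Subgroup.normalizer Y with hN
  have hPN : (P : Subgroup G) ≤ N := fun x hx => hnorm x Y (by rw [← hconj]; exact hY x hx)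
  have hTN : Fusion.conjSub g⁻¹ (P : Subgroup G) ≤ N := by
    intro x hx
    rw [Fusion.mem_conjSub, inv_inv] at hx
    refine hnorm x Y ?_
    rw [← hg, hconj, ← Fusion.conjSet_mul]
    conv_rhs => rw [← hX _ hx, hconj, ← Fusion.conjSet_mul]
    congr 1
    group
  obtain ⟨m, hm, hle⟩ := Fusion.exists_conjSub_le_of_not_dvd_relIndex (p := p) hPN P.2
    (fun hd => P.not_dvd_index (hd.trans (Subgroup.relIndex_dvd_index_of_le hPN))) hTN
    (Fusion.isPGroup_conjSub P.2)
  rw [Fusion.conjSub_conjSub] at hle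
  refine ⟨(g⁻¹ * m)⁻¹, inv_mem (Fusion.mem_normalizer_of_conjSub_eq
    (Subgroup.eq_of_le_of_card_ge hle (Fusion.card_conjSub _ _).ge)), ?_⟩
  rw [hconj, inv_inv, Fusion.conjSet_mul, ← hconj g X, hg]
  have := Subgroup.mem_normalizer_iff_conj_image_eq.mp (inv_mem hm)
  rw [show ⇑(MulAut.conj m⁻¹) = fun a => m⁻¹ * a * m⁻¹⁻¹ from rfl, hconj, inv_inv] at this
  exact this

end Cfsg.Agent.S0076
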