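import Cfsg.Statements.S0078
import Cfsg.Agent.Fusion.Tate
import Cfsg.Agent.S0077

set_option autoImplicit false
open Cfsg

namespace Cfsg.Agent.S0078

/-- In a p-normal group, a Sylow p-subgroup P meets O^p(G) exactly where it meets O^p(V), for any subgroup V containing the normalizer of the centre of P. -/
theorem result {G : Type*} [Group G] [Finite G] {p : ℕ} [Fact p.Prime] (P : Sylow p G) (hn : ∀ Q : Sylow p G, (P : Subgroup G) ⊓ Subgroup.centralizer (P : Set G) ≤ (Q : Subgroup G) → (Q : Subgroup G) ⊓ Subgroup.centralizer (Q : Set G) = (P : Subgroup G) ⊓ Subgroup.centralizer (P : Set G)) (V : Subgroup G) (hV : Subgroup.normalizer (((P : Subgroup G) ⊓ Subgroup.centralizer (P : Set G) : Subgroup G) : Set G) ≤ V) : (P : Subgroup G) ⊓ Cfsg.pResidual p G = (P : Subgroup G) ⊓ (Cfsg.pResidual p V).map V.subtype := by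
  set Z := (P : Subgroup G) ⊓ Subgroup.centralizer (P : Set G) with hZ
  -- `Z(P)` is weakly closed
  have hW : Cfsg.IsWeaklyClosed Z P := by
    refine ⟨inf_le_left, fun g hg => ?_⟩
    set R : Sylow p G := g⁻¹ • P with hR
    have hmem : ∀ x, x ∈ (R : Subgroup G) ↔ g * x * g⁻¹ ∈ (P : Subgroup G) := by
      intro x
      constructor
      · rintro ⟨y, hy, rfl⟩
        simp [mul_assoc]
        exact hy
      · intro hx
        exact ⟨_, hx, by simp [mul_assoc]⟩
    have hZR : Z ≤ (R : Subgroup G) := fun z hz => (hmem z).mpr (hg ⟨z, hz, by simp⟩)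
    have h1 := hn R hZR
    have hmem' : ∀ x, g⁻¹ * x * g ∈ (R : Subgroup G) ↔ x ∈ (P : Subgroup G) := fun x => by
      rw [hmem, show g * (g⁻¹ * x * g) * g⁻¹ = x by group]
    ext x
    rw [Subgroup.mem_map_equiv]
    constructor
    · intro hx
      have hx' : g⁻¹ * x * g ∈ Z := by simpa [mul_assoc] using hx
      rw [← h1] at hx'
      refine ⟨(hmem' x).mp hx'.1, Subgroup.mem_centralizer_iff.mpr
        fun y hy => ?_⟩
      have h2 := Subgroup.mem_centralizer_iff.mp hx'.2 (g⁻¹ * y * g)
        ((hmem' y).mpr hy)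
      calc y * x = g * ((g⁻¹ * y * g) * (g⁻¹ * x * g)) * g⁻¹ := by group
        _ = g * ((g⁻¹ * x * g) * (g⁻¹ * y * g)) * g⁻¹ := by rw [h2]
        _ = x * y := by group
    · intro hx
      have hx' : g⁻¹ * x * g ∈ Z := by
        rw [← h1]
        refine ⟨(hmem' x).mpr hx.1, Subgroup.mem_centralizer_iff.mpr
          fun y hy => ?_⟩
        have h2 := Subgroup.mem_centralizer_iff.mp hx.2 (g * y * g⁻¹) ((hmem y).mp hy)
        calc y * (g⁻¹ * x * g) = g⁻¹ * ((g * y * g⁻¹) * x) * g := by group
          _ = g⁻¹ * (x * (g * y * g⁻¹)) * g := by rw [h2]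
          _ = g⁻¹ * x * g * y := by group
      simpa [mul_assoc] using hx'
  have hPN : (P : Subgroup G) ≤ Subgroup.normalizer (Z : Set G) := by
    intro x hx
    rw [Subgroup.mem_normalizer_iff]
    intro z
    constructor
    · intro hz
      have := Subgroup.mem_centralizer_iff.mp hz.2 x hx
      rwa [this, mul_inv_cancel_right]
    · intro hz
      have h2 := Subgroup.mem_centralizer_iff.mp hz.2 x⁻¹ (Subgroup.inv_mem _ hx)
      have h3 : x * z * x⁻¹ = z := by
        calc x * z * x⁻¹ = (x * z * x⁻¹) * x⁻¹ * x := by group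
          _ = x⁻¹ * (x * z * x⁻¹) * x := by rw [h2]
          _ = z := by group
      rwa [h3] at hz
  refine Fusion.inf_pResidual_eq_of_commutator_inf_eq P V (hPN.trans hV) ?_
  rw [Cfsg.Agent.S0077.result P Z inf_le_right hW]
  exact inf_le_left.trans (Subgroup.commutator_mono hV hV)

end Cfsg.Agent.S0078
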