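import Cfsg.Statements.S0079
import Cfsg.Agent.Fusion.Control

set_option autoImplicit false
open Cfsg

namespace Cfsg.Agent.S0079

/-- A nilpotent Hall subgroup has a normal complement exactly when elements of it that are conjugate in the whole group are already conjugate inside it. -/
theorem result {G : Type*} [Group G] [Finite G] (H : Subgroup G) (hH : Group.IsNilpotent H) (hHall : Nat.Coprime (Nat.card H) H.index) : (∃ N : Subgroup G, N.Normal ∧ N.IsComplement' H) ↔ ∀ x ∈ H, ∀ y ∈ H, (∃ g : G, g * x * g⁻¹ = y) → ∃ h ∈ H, h * x * h⁻¹ = y := by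
  constructor
  · rintro ⟨N, hN, hc⟩ x hx y hy ⟨g, rfl⟩
    have hg : g ∈ ((N ⊔ H : Subgroup G) : Set G) := by rw [hc.sup_eq_top]; trivial
    rw [Subgroup.normal_mul] at hg
    obtain ⟨n, hn, h, hh, rfl⟩ := hg
    refine ⟨h, hh, ?_⟩
    set a := h * x * h⁻¹ with ha
    have haH : a ∈ H := mul_mem (mul_mem hh hx) (inv_mem hh)
    have hb : n * h * x * (n * h)⁻¹ = n * a * n⁻¹ := by rw [ha]; group
    rw [hb] at hy ⊢
    have h1 : n * a * n⁻¹ * a⁻¹ ∈ H := mul_mem hy (inv_mem haH)
    have h2 : n * a * n⁻¹ * a⁻¹ ∈ N := by
      rw [show n * a * n⁻¹ * a⁻¹ = n * (a * n⁻¹ * a⁻¹) by group]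
      exact mul_mem hn (hN.conj_mem _ (inv_mem hn) a)
    have h3 : n * a * n⁻¹ * a⁻¹ = 1 :=
      Subgroup.mem_bot.mp (hc.disjoint.eq_bot.le ⟨h2, h1⟩)
    exact (mul_inv_eq_one.mp h3).symm
  · intro hfus
    set N := Subgroup.closure {g : G | Nat.Coprime (orderOf g) (Nat.card H)} with hNdef
    have hNn : N.Normal := by
      refine ⟨fun x hx g => ?_⟩
      have : N.map (MulAut.conj g).toMonoidHom ≤ N := by
        rw [hNdef, MonoidHom.map_closure, Subgroup.closure_le]
        rintro _ ⟨z, hz, rfl⟩
        refine Subgroup.subset_closure ?_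
        show Nat.Coprime (orderOf ((MulAut.conj g) z)) _
        rwa [MulEquiv.orderOf_eq]
      exact this ⟨x, hx, rfl⟩
    refine ⟨N, hNn, ?_⟩
    have hcop : Nat.Coprime (Nat.card N) (Nat.card H) := by
      refine Nat.coprime_of_dvd fun q hq hqN hqH => ?_
      have := Fact.mk hq
      obtain ⟨P⟩ := (inferInstance : Nonempty (Sylow q H))
      set Q : Subgroup G := (P : Subgroup H).map H.subtype with hQdef
      have hQi : ¬ q ∣ Q.index := by
        rw [hQdef, Subgroup.index_map_subtype]
        intro hd
        rcases hq.dvd_mul.mp hd with h | h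
        · exact P.not_dvd_index h
        · exact hq.not_dvd_one (hHall ▸ Nat.dvd_gcd hqH h)
      let Q' : Sylow q G := (P.2.map H.subtype).toSylow hQi
      have hctrl : ∀ x ∈ Q', ∀ g : G, g * x * g⁻¹ ∈ Q' →
          ∃ s ∈ Q', s * x * s⁻¹ = g * x * g⁻¹ := by
        intro x hx g hgx
        obtain ⟨x', hx', rfl⟩ := hx
        obtain ⟨y', hy', hy'eq⟩ := hgx
        obtain ⟨h, hh, heq⟩ := hfus _ x'.2 _ y'.2 ⟨g, hy'eq.symm⟩
        obtain ⟨a, b, hab, -, ha, -, hao, hbo⟩ :=
          Fusion.exists_pPart_mul (p := q) (⟨h, hh⟩ : H) (isOfFinOrder_of_finite _)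
        have hPn : (P : Subgroup H).Normal := inferInstance
        have haP : a ∈ (P : Subgroup H) := by
          obtain ⟨i, hi⟩ := hao
          obtain ⟨R, hR⟩ := (IsPGroup.of_card_dvd_pow (n := i)
            (by rwa [Nat.card_zpowers]) : IsPGroup q (Subgroup.zpowers a)).exists_le_sylow
          obtain ⟨t, ht⟩ := MulAction.exists_smul_eq H P R
          rw [Sylow.smul_eq_of_normal] at ht
          exact ht ▸ hR (Subgroup.mem_zpowers a)
        have hbc : b * x' = x' * b := by
          have := Fusion.mem_centralizer_of_hasNormalPComplement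
            (Fusion.hasNormalPComplement_of_conj_controls P ?_) P.2 (g := b)
            (by rw [Subgroup.normalizer_eq_top]; exact Subgroup.mem_top b) hbo
          · exact ((Subgroup.mem_centralizer_iff.mp this) x' hx').symm
          · intro u hu v _
            obtain ⟨a', b', hab', -, -, -, hao', hbo'⟩ :=
              Fusion.exists_pPart_mul (p := q) v (isOfFinOrder_of_finite v)
            obtain ⟨i, hi⟩ := hao'
            obtain ⟨R, hR⟩ := (IsPGroup.of_card_dvd_pow (n := i)
              (by rwa [Nat.card_zpowers]) : IsPGroup q (Subgroup.zpowers a')).exists_le_sylow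
            obtain ⟨t, ht⟩ := MulAction.exists_smul_eq H P R
            rw [Sylow.smul_eq_of_normal] at ht
            refine ⟨a', ht ▸ hR (Subgroup.mem_zpowers a'), ?_⟩
            have hcomm : Commute b' u := by
              have hnil := hH
              by_cases hu1 : u = 1
              · rw [hu1]; exact Commute.one_right _
              obtain ⟨e⟩ := ((Group.isNilpotent_of_finite_tfae (G := H)).out 0 4).mp hnil
              have key : ∀ z w : (∀ r : (Nat.card H).primeFactors, ∀ S : Sylow r H, S),
                  Nat.Coprime (orderOf z) (orderOf w) → Commute z w := by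
                intro z w hzw
                refine funext fun r => funext fun S => ?_
                have := Fact.mk (Nat.prime_of_mem_primeFactors r.2)
                have h1 := orderOf_map_dvd ((Pi.evalMonoidHom (fun S : Sylow r H => (S : Subgroup H)) S).comp
                  (Pi.evalMonoidHom _ r)) z
                have h2 := orderOf_map_dvd ((Pi.evalMonoidHom (fun S : Sylow r H => (S : Subgroup H)) S).comp
                  (Pi.evalMonoidHom _ r)) w
                simp only [MonoidHom.coe_comp, Function.comp_apply, Pi.evalMonoidHom_apply] at h1 h2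
                obtain ⟨i, hi⟩ := IsPGroup.iff_orderOf.mp S.2 (z r S)
                obtain ⟨j, hj⟩ := IsPGroup.iff_orderOf.mp S.2 (w r S)
                have h12 := (hzw.coprime_dvd_left h1).coprime_dvd_right h2
                rw [hi, hj] at h12
                simp only [Pi.mul_apply]
                rcases i with _ | i
                · rw [pow_zero, orderOf_eq_one_iff] at hi
                  simp [hi]
                rcases j with _ | j
                · rw [pow_zero, orderOf_eq_one_iff] at hj
                  simp [hj]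
                exact absurd h12 (Nat.Prime.not_coprime_iff_dvd.mpr ⟨_, Fact.out,
                  dvd_pow_self _ i.succ_ne_zero, dvd_pow_self _ j.succ_ne_zero⟩)
              obtain ⟨i, hi⟩ := IsPGroup.iff_orderOf.mp P.2 ⟨u, hu⟩
              rw [Subgroup.orderOf_mk] at hi
              have := (key (e.symm b') (e.symm u) (by
                rw [MulEquiv.orderOf_eq, MulEquiv.orderOf_eq, hi]
                exact hbo'.pow_right i)).map e
              simpa using this
            rw [hab']
            calc a' * u * a'⁻¹ = a' * (u * b' * b'⁻¹) * a'⁻¹ := by group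
              _ = a' * (b' * u * b'⁻¹) * a'⁻¹ := by rw [hcomm.eq]
              _ = a' * b' * u * (a' * b')⁻¹ := by group
        refine ⟨(a : G), ⟨a, haP, rfl⟩, ?_⟩
        have hh' : h = (a : G) * b := congrArg (fun z : H => (z : G)) hab
        have hbc' : (b : G) * x' = x' * b := congrArg (fun z : H => (z : G)) hbc
        show (a : G) * x' * (a : G)⁻¹ = g * x' * g⁻¹
        calc (a : G) * x' * (a : G)⁻¹ = a * (x' * b * (b : G)⁻¹) * (a : G)⁻¹ := by group
          _ = a * (b * x' * (b : G)⁻¹) * (a : G)⁻¹ := by rw [hbc']
          _ = h * x' * h⁻¹ := by rw [hh']; group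
          _ = g * x' * g⁻¹ := heq.trans hy'eq
      have hc := Fusion.coprime_card_pResidual_of_hasNormalPComplement
        (Fusion.hasNormalPComplement_of_conj_controls Q' hctrl)
      have hle : N ≤ pResidual q G := by
        rw [hNdef, Subgroup.closure_le]
        intro z hz
        exact Fusion.mem_pResidual_of_coprime (hz.coprime_dvd_right hqH)
      exact hq.not_dvd_one (hc ▸ Nat.dvd_gcd (hqN.trans (Subgroup.card_dvd_of_le hle)) dvd_rfl)
    have hidx : Nat.Coprime N.index H.index := by
      refine Nat.coprime_of_dvd fun r hr hrN hrH => ?_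
      have := Fact.mk hr
      obtain ⟨R⟩ := (inferInstance : Nonempty (Sylow r G))
      refine R.not_dvd_index (hrN.trans (Subgroup.index_dvd_of_le fun z hz => ?_))
      obtain ⟨i, hi⟩ := IsPGroup.iff_orderOf.mp R.2 ⟨z, hz⟩
      rw [Subgroup.orderOf_mk] at hi
      refine Subgroup.subset_closure ?_
      show Nat.Coprime (orderOf z) (Nat.card H)
      rw [hi]
      exact Nat.Coprime.pow_left _ ((Nat.Prime.coprime_iff_not_dvd hr).mpr fun hd =>
        hr.not_dvd_one (hHall ▸ Nat.dvd_gcd hd hrH))
    have hprod : Nat.card N * N.index = Nat.card H * H.index := by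
      rw [N.card_mul_index, H.card_mul_index]
    have e1 : Nat.card N = H.index := by
      apply Nat.dvd_antisymm
      · exact hcop.dvd_of_dvd_mul_left ⟨N.index, hprod.symm⟩
      · exact hidx.symm.dvd_of_dvd_mul_right ⟨Nat.card H, by rw [hprod]; ring⟩
    exact Subgroup.isComplement'_of_coprime (by rw [e1, ← H.card_mul_index]; ring) hcop

end Cfsg.Agent.S0079
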