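import Cfsg.Statements.S0080
import Cfsg.Agent.Fusion.Transfer

set_option autoImplicit false
open Cfsg
open scoped IsMulCommutative

namespace Cfsg.Agent.S0080

/-- When the index of H is prime to the order of H/H', the focal subgroup of H is G' ∩ H, and H/(G' ∩ H) has a normal complement. -/
theorem result {G : Type*} [Group G] [Finite G] (H : Subgroup G) (h : Nat.Coprime H.index (⁅H, H⁆.relIndex H)) : Subgroup.focalSubgroup H = commutator G ⊓ H ∧ ∃ N : Subgroup G, N.Normal ∧ N ⊓ H = commutator G ⊓ H ∧ N ⊔ H = ⊤ := by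
  set F := H.focalSubgroupOf
  have hcop : Nat.Coprime (Nat.card (H ⧸ F)) H.index := by
    refine Nat.Coprime.coprime_dvd_left ?_ h.symm
    rw [← Subgroup.index_eq_card]
    exact Subgroup.index_dvd_of_le (Subgroup.comap_mono H.commutator_le_focalSubgroup)
  have hbij : ∀ x : H ⧸ F, ∃ m : ℕ, (x ^ H.index) ^ m = x := fun x =>
    exists_pow_eq_self_of_coprime (hcop.symm.coprime_dvd_right (orderOf_dvd_natCard x))
  have hker : H.transferFocal.ker ⊓ H = H.focalSubgroup := by
    refine le_antisymm (fun g hg => ?_)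
      (le_inf (H.focalSubgroup_le_commutator.trans (Abelianization.commutator_subset_ker _))
        H.focalSubgroup_le)
    have h1 := MonoidHom.mem_ker.mp hg.1
    rw [Subgroup.transferFocal_eq_pow H ⟨g, hg.2⟩] at h1
    obtain ⟨m, hm⟩ := hbij ((⟨g, hg.2⟩ : H) : H ⧸ F)
    rw [h1, one_pow] at hm
    exact (QuotientGroup.eq_one_iff (⟨g, hg.2⟩ : H)).mp hm.symm
  have hfoc : H.focalSubgroup = commutator G ⊓ H :=
    le_antisymm (le_inf H.focalSubgroup_le_commutator H.focalSubgroup_le)
      ((inf_le_inf_right _ (Abelianization.commutator_subset_ker _)).trans hker.le)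
  refine ⟨hfoc, H.transferFocal.ker, inferInstance, hker.trans hfoc, ?_⟩
  refine top_le_iff.mp fun g _ => ?_
  obtain ⟨m, hm⟩ := hbij (H.transferFocal g)
  obtain ⟨x, hx⟩ := QuotientGroup.mk_surjective (H.transferFocal g)
  have h3 : H.transferFocal ((x : G) ^ m) = H.transferFocal g := by
    rw [map_pow, Subgroup.transferFocal_eq_pow H x, hx, hm]
  rw [show g = g * ((x : G) ^ m)⁻¹ * (x : G) ^ m by group]
  refine mul_mem (Subgroup.mem_sup_left ?_) (Subgroup.mem_sup_right (pow_mem x.2 m))
  rw [MonoidHom.mem_ker, map_mul, map_inv, h3, mul_inv_cancel]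

end Cfsg.Agent.S0080
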