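import Cfsg.Statements.S0082
import Cfsg.Agent.Fusion.Transfer
import Mathlib.RingTheory.Int.Basic
import Mathlib.NumberTheory.Basic

set_option autoImplicit false
open Cfsg

namespace Cfsg.Agent.S0082

/-- With a cyclic Sylow p-subgroup, either there is a normal p-complement or the elements of order prime to p generate the whole group. -/
theorem result {G : Type*} [Group G] [Finite G] {p : ℕ} [Fact p.Prime] (P : Sylow p G) (hP : IsCyclic P) : Cfsg.HasNormalPComplement p G ∨ Cfsg.pResidual p G = ⊤ := by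
  by_cases hcase : ∀ n ∈ Subgroup.normalizer (P : Set G), ∀ x ∈ P, n * x * n⁻¹ = x
  · refine Or.inl (Fusion.hasNormalPComplement_of_normalizer_le_centralizer P fun n hn => ?_)
    rw [Subgroup.mem_centralizer_iff]
    intro x hx
    calc x * n = n * x * n⁻¹ * n := by rw [hcase n hn x hx]
      _ = n * x := by group
  refine Or.inr ?_
  have hPc : IsMulCommutative (P : Subgroup G) := IsCyclic.isMulCommutative
  obtain ⟨x₀, hx₀⟩ := hP.exists_generator
  obtain ⟨k, hk⟩ := IsPGroup.iff_card.mp P.2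
  have hord : orderOf (x₀ : G) = p ^ k := by
    rw [Subgroup.orderOf_coe, orderOf_eq_card_of_forall_mem_zpowers hx₀, hk]
  have hgen : ∀ x ∈ P, ∃ i : ℤ, (x₀ : G) ^ i = x := fun x hx => by
    obtain ⟨i, hi⟩ := Subgroup.mem_zpowers_iff.mp (hx₀ ⟨x, hx⟩)
    exact ⟨i, by simpa using congrArg (fun y : (P : Subgroup G) => (y : G)) hi⟩
  push Not at hcase
  obtain ⟨n, hn, x, hx, hne⟩ := hcase
  have hne0 : n * (x₀ : G) * n⁻¹ ≠ x₀ := by
    intro he
    obtain ⟨i, rfl⟩ := hgen x hx
    apply hne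
    rw [← conj_zpow, he]
  obtain ⟨r, hr⟩ := hgen _ ((Subgroup.mem_normalizer_iff.mp hn x₀).mp x₀.2)
  by_cases hdvd : (p : ℤ) ∣ r - 1
  · exfalso
    apply hne0
    have hiter : ∀ j : ℕ, n ^ j * (x₀ : G) * (n ^ j)⁻¹ = (x₀ : G) ^ (r ^ j) := by
      intro j
      induction j with
      | zero => simp
      | succ j ih =>
        rw [pow_succ', show n * n ^ j * (x₀ : G) * (n * n ^ j)⁻¹ =
          n * (n ^ j * (x₀ : G) * (n ^ j)⁻¹) * n⁻¹ by group, ih, ← conj_zpow, ← hr, ← zpow_mul,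
          ← pow_succ']
    obtain ⟨a, b, hab, -, ha, hb, ⟨i, hi⟩, hbc⟩ :=
      Fusion.exists_pPart_mul (p := p) n (isOfFinOrder_of_finite n)
    have hfix : n ^ p ^ k * (x₀ : G) * (n ^ p ^ k)⁻¹ = x₀ := by
      rw [hiter]
      conv_rhs => rw [← zpow_one (x₀ : G)]
      rw [zpow_eq_zpow_iff_modEq, hord, Int.modEq_comm, Int.modEq_iff_dvd]
      have := dvd_sub_pow_of_dvd_sub hdvd k
      rw [one_pow] at this
      refine dvd_trans ?_ this
      exact_mod_cast pow_dvd_pow p k.le_succ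
    obtain ⟨j, hj⟩ := Subgroup.mem_zpowers_iff.mp hb
    have hb' : b * (x₀ : G) = x₀ * b := by
      have h1 : Commute (n ^ p ^ k) (x₀ : G) := by
        show n ^ p ^ k * (x₀ : G) = x₀ * n ^ p ^ k
        calc n ^ p ^ k * (x₀ : G) = n ^ p ^ k * (x₀ : G) * (n ^ p ^ k)⁻¹ * n ^ p ^ k := by group
          _ = x₀ * n ^ p ^ k := by rw [hfix]
      have h2 : b ^ p ^ k = (n ^ p ^ k) ^ j := by
        rw [← hj, ← zpow_natCast, ← zpow_natCast n, ← zpow_mul, ← zpow_mul, mul_comm]
      obtain ⟨m, hm⟩ := exists_pow_eq_self_of_coprime (hbc.pow_right k).symm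
      rw [← hm, h2]
      exact ((h1.zpow_left j).pow_left m).eq
    have ha' : a ∈ (P : Subgroup G) := by
      have haN : a ∈ Subgroup.normalizer (P : Set G) := (Subgroup.zpowers_le.mpr hn) ha
      have h4 : IsPGroup p (Subgroup.zpowers a) := IsPGroup.of_card_dvd_pow (n := i)
        (by rwa [Nat.card_zpowers])
      have h5 := h4.inf_normalizer_sylow P
      exact ((h5.le : _ ≤ _) ⟨Subgroup.mem_zpowers a, haN⟩).2
    have hac : a * (x₀ : G) = x₀ * a :=
      congrArg (fun y : (P : Subgroup G) => (y : G)) (mul_comm' (⟨a, ha'⟩ : (P : Subgroup G)) x₀)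
    rw [hab, mul_inv_rev, mul_assoc a b, hb', ← mul_assoc a, hac]
    group
  · have h2 : (x₀ : G) ^ (r - 1) ∈ pResidual p G := by
      refine Fusion.commutator_le_pResidual_of_isMulCommutative P hPc ?_
      rw [zpow_sub_one, hr]
      exact Subgroup.commutator_mem_commutator (Subgroup.mem_top n) (Subgroup.mem_top (x₀ : G))
    have hcop : IsCoprime (r - 1) ((p ^ k : ℕ) : ℤ) := by
      push_cast
      exact (((Nat.prime_iff_prime_int.mp Fact.out).coprime_iff_not_dvd).mpr hdvd).symm.pow_right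
    obtain ⟨u, v, huv⟩ := hcop
    have hx0 : (x₀ : G) ∈ pResidual p G := by
      have h3 : (x₀ : G) = ((x₀ : G) ^ (r - 1)) ^ u := by
        rw [← zpow_mul]
        conv_lhs => rw [← zpow_one (x₀ : G), ← huv]
        rw [zpow_add, mul_comm u, mul_comm v, zpow_mul (x₀ : G) _ v, zpow_natCast, ← hord,
          pow_orderOf_eq_one, one_zpow, mul_one]
      rw [h3]
      exact zpow_mem h2 u
    refine top_le_iff.mp ((Fusion.sylow_sup_pResidual P).ge.trans (sup_le (fun y hy => ?_) le_rfl))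
    obtain ⟨i, rfl⟩ := hgen y hy
    exact zpow_mem hx0 i

end Cfsg.Agent.S0082
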