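import Cfsg.Statements.S0083
import Cfsg.Agent.Fusion.Transfer

set_option autoImplicit false
open Cfsg

namespace Cfsg.Agent.S0083

/-- For an abelian Sylow p-subgroup P, a normal p-complement exists exactly when the normalizer of P is an internal direct product of P with some subgroup. -/
theorem result {G : Type*} [Group G] [Finite G] {p : ℕ} [Fact p.Prime] (P : Sylow p G) (hP : IsMulCommutative P) : Cfsg.HasNormalPComplement p G ↔ ∃ Q : Subgroup G, Q ≤ Subgroup.centralizer (P : Set G) ∧ Q ⊓ (P : Subgroup G) = ⊥ ∧ Q ⊔ (P : Subgroup G) = Subgroup.normalizer (P : Set G) := by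
  constructor
  · intro h
    refine ⟨Subgroup.normalizer (P : Set G) ⊓ pResidual p G, ?_, ?_, ?_⟩
    · intro g hg
      rw [Subgroup.mem_centralizer_iff]
      intro x hx
      have hb : (P : Subgroup G) ⊓ pResidual p G = ⊥ :=
        disjoint_iff.mp (Fusion.isComplement'_pResidual h P).disjoint.symm
      have h1 : g * x * g⁻¹ * x⁻¹ ∈ (P : Subgroup G) ⊓ pResidual p G := by
        refine ⟨mul_mem ((Subgroup.mem_normalizer_iff.mp hg.1 x).mp hx) (Subgroup.inv_mem _ hx), ?_⟩
        rw [show g * x * g⁻¹ * x⁻¹ = g * (x * g⁻¹ * x⁻¹) by group]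
        exact mul_mem hg.2
          ((inferInstance : (pResidual p G).Normal).conj_mem _ (Subgroup.inv_mem _ hg.2) x)
      rw [hb, Subgroup.mem_bot] at h1
      calc x * g = (g * x * g⁻¹ * x⁻¹) * x * g := by rw [h1, one_mul]
        _ = g * x := by group
    · refine le_bot_iff.mp ?_
      rw [← disjoint_iff.mp (Fusion.isComplement'_pResidual h P).disjoint]
      exact inf_le_inf_right _ inf_le_right
    · refine le_antisymm (sup_le inf_le_left Subgroup.le_normalizer) fun g hg => ?_
      have hg' : g ∈ ((pResidual p G ⊔ (P : Subgroup G) : Subgroup G) : Set G) := by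
        rw [sup_comm, Fusion.sylow_sup_pResidual P]; trivial
      rw [Subgroup.normal_mul] at hg'
      obtain ⟨a, ha, b, hb, rfl⟩ := hg'
      refine mul_mem (Subgroup.mem_sup_left ⟨?_, ha⟩) (Subgroup.mem_sup_right hb)
      have := mul_mem hg (inv_mem (Subgroup.le_normalizer hb))
      simpa using this
  · rintro ⟨Q, hQ, -, hQP⟩
    refine Fusion.hasNormalPComplement_of_normalizer_le_centralizer P ?_
    rw [← hQP]
    exact sup_le hQ (Subgroup.le_centralizer_iff_isMulCommutative.mpr hP)

end Cfsg.Agent.S0083
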