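import Cfsg.Statements.S0084
import Cfsg.Agent.Fusion.Control

set_option autoImplicit false
open Cfsg

namespace Cfsg.Agent.S0084

/-- A group whose Sylow 2-subgroups are Klein four-groups and whose order is prime to 3 has a normal 2-complement. -/
theorem result {G : Type*} [Group G] [Finite G] (T : Sylow 2 G) (hT : IsKleinFour T) (h3 : ¬ 3 ∣ Nat.card G) : Cfsg.HasNormalPComplement 2 G := by
  have h4 : Nat.card (T : Subgroup G) = 4 := hT.card_four
  refine Fusion.hasNormalPComplement_of_normalizer_le_centralizer T
    (Fusion.normalizer_le_centralizer_of_primePow T IsKleinFour.isMulCommutative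
      fun q hq hq2 hqd n hn hord => ?_)
  have := Fact.mk hq
  have hq5 : 4 < q := by
    by_contra hlt
    have hq3 : q ≠ 3 := fun e => h3 (e ▸ hqd)
    have := hq.two_le
    obtain rfl : q = 4 := by omega
    exact absurd hq (by decide)
  refine Fusion.mem_centralizer_of_card_modEq hn hord fun d hd hne hmod => hne ?_
  rw [h4] at hd hmod ⊢
  exact Nat.ModEq.eq_of_lt_of_lt hmod ((Nat.le_of_dvd (by norm_num) hd).trans_lt hq5) hq5

end Cfsg.Agent.S0084
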