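import Cfsg.Statements.S0085
import Cfsg.Agent.Fusion.Control

set_option autoImplicit false
open Cfsg

namespace Cfsg.Agent.S0085

/-- A group whose Sylow 2-subgroups are elementary abelian of order 8 and whose order is prime to 3 and to 7 has a normal 2-complement. -/
theorem result {G : Type*} [Group G] [Finite G] (T : Sylow 2 G) (h8 : Nat.card T = 8) (he : ∀ x : T, x * x = 1) (h3 : ¬ 3 ∣ Nat.card G) (h7 : ¬ 7 ∣ Nat.card G) : Cfsg.HasNormalPComplement 2 G := by
  have hab : IsMulCommutative (T : Subgroup G) := by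
    refine ⟨⟨fun a b => ?_⟩⟩
    have hinv : ∀ x : (T : Subgroup G), x⁻¹ = x := fun x => inv_eq_of_mul_eq_one_right (he x)
    calc a * b = (a * b)⁻¹ := (hinv _).symm
      _ = b⁻¹ * a⁻¹ := mul_inv_rev a b
      _ = b * a := by rw [hinv, hinv]
  refine Fusion.hasNormalPComplement_of_normalizer_le_centralizer T
    (Fusion.normalizer_le_centralizer_of_primePow T hab fun q hq hq2 hqd n hn hord => ?_)
  have := Fact.mk hq
  have h8' : Nat.card (T : Subgroup G) = 8 := h8
  have hq3 : q ≠ 3 := fun e => h3 (e ▸ hqd)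
  have hq7 : q ≠ 7 := fun e => h7 (e ▸ hqd)
  refine Fusion.mem_centralizer_of_card_modEq hn hord fun d hd hne hmod => ?_
  rw [h8'] at hd hmod hne
  have hd' : q ∣ 8 - d := (Nat.modEq_iff_dvd' (Nat.le_of_dvd (by norm_num) hd)).mp hmod
  have hq9 : q ≤ 8 := (Nat.le_of_dvd (by
    have := Nat.le_of_dvd (by norm_num) hd
    omega) hd').trans (Nat.sub_le _ _)
  have := Nat.le_of_dvd (by norm_num) hd
  have := hq.two_le
  have h4 : q ≠ 4 := fun e => by subst e; exact absurd hq (by decide)
  have h6 : q ≠ 6 := fun e => by subst e; exact absurd hq (by decide)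
  have h8q : q ≠ 8 := fun e => by subst e; exact absurd hq (by decide)
  interval_cases d <;> interval_cases q <;> omega

end Cfsg.Agent.S0085
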