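import Cfsg.Statements.S0087
import Cfsg.Agent.Fusion.AbelianNormal
import Cfsg.Agent.S0079

set_option autoImplicit false
open Cfsg

namespace Cfsg.Agent.S0087

/-- A Hall subgroup that is central in its normalizer has a normal complement. -/
theorem result {G : Type*} [Group G] [Finite G] (H : Subgroup G) (hHall : Nat.Coprime (Nat.card H) H.index) (h : Subgroup.normalizer (H : Set G) ≤ Subgroup.centralizer (H : Set G)) : ∃ N : Subgroup G, N.Normal ∧ N.IsComplement' H := by
  have hab : IsMulCommutative H :=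
    Subgroup.le_centralizer_iff_isMulCommutative.mp (Subgroup.le_normalizer.trans h)
  have hnil : Group.IsNilpotent H := by
    letI : CommGroup H := { (inferInstance : Group H) with mul_comm := hab.is_comm.comm }
    infer_instance
  refine (Cfsg.Agent.S0079.result H hnil hHall).mpr ?_
  rintro x hx y hy ⟨g, rfl⟩
  refine ⟨1, one_mem H, ?_⟩
  set C := Subgroup.centralizer ({x} : Set G) with hC
  have hHC : H ≤ C := fun z hz => by
    rw [hC, Subgroup.mem_centralizer_singleton_iff]
    exact congrArg (fun u : H => (u : G)) (hab.is_comm.comm ⟨z, hz⟩ ⟨x, hx⟩)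
  have hKC : Fusion.conjSub g H ≤ C := fun z hz => by
    rw [hC, Subgroup.mem_centralizer_singleton_iff]
    have : g * z * g⁻¹ * (g * x * g⁻¹) = g * x * g⁻¹ * (g * z * g⁻¹) :=
      congrArg (fun u : H => (u : G)) (hab.is_comm.comm ⟨_, Fusion.mem_conjSub.mp hz⟩ ⟨_, hy⟩)
    calc z * x = g⁻¹ * (g * z * g⁻¹ * (g * x * g⁻¹)) * g := by group
      _ = g⁻¹ * (g * x * g⁻¹ * (g * z * g⁻¹)) * g := by rw [this]
      _ = x * z := by group
  obtain ⟨c, hc, hce⟩ := Fusion.exists_conjSub_eq_of_isMulCommutative_hall hKC hHC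
    (Subgroup.map_isMulCommutative H _) hab
    (by
      rw [Fusion.card_conjSub]
      refine hHall.coprime_dvd_right ((Subgroup.relIndex_dvd_index_of_le hKC).trans ?_)
      exact (Subgroup.index_map_of_bijective (MulAut.conj g⁻¹).bijective H).dvd)
    (Fusion.card_conjSub g H).symm
  rw [Fusion.conjSub_conjSub] at hce
  have h1 := Subgroup.mem_centralizer_iff.mp (h (Fusion.mem_normalizer_of_conjSub_eq hce)) x hx
  have h2 : c * x = x * c := Subgroup.mem_centralizer_singleton_iff.mp hc
  calc (1 : G) * x * 1⁻¹ = x := by group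
    _ = (g * c * x) * (g * c)⁻¹ := by rw [← h1]; group
    _ = g * (c * x) * c⁻¹ * g⁻¹ := by group
    _ = g * x * g⁻¹ := by rw [h2]; group

end Cfsg.Agent.S0087
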