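import Cfsg.Statements.S0090
import Cfsg.Agent.Fusion.AbelianNormal

set_option autoImplicit false
open Cfsg

namespace Cfsg.Agent.S0090

/-- An abelian normal Hall subgroup A splits as the internal direct product of G' ∩ A and Z(G) ∩ A, and [A, G] = G' ∩ A. -/
theorem result {G : Type*} [Group G] [Finite G] (A : Subgroup G) [A.Normal] (hc : IsMulCommutative A) (hHall : Nat.Coprime (Nat.card A) A.index) : ⁅A, (⊤ : Subgroup G)⁆ = commutator G ⊓ A ∧ (commutator G ⊓ A) ⊓ (Subgroup.center G ⊓ A) = ⊥ ∧ (commutator G ⊓ A) ⊔ (Subgroup.center G ⊓ A) = A := by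
  have := hc
  have hcop : (Nat.card A).Coprime A.index := hHall
  have h2 : commutator G ⊓ A ⊓ (Subgroup.center G ⊓ A) = ⊥ := by
    rw [eq_bot_iff]
    intro z hz
    obtain ⟨⟨hzG, hzA⟩, hzZ, -⟩ := hz
    open IsMulCommutative in
    have htr : MonoidHom.transfer (MonoidHom.id A) z = ⟨z ^ A.index, pow_mem hzA _⟩ :=
      MonoidHom.transfer_eq_pow _ _ fun k g₀ hk => by
        rw [mul_assoc, ← Subgroup.mem_center_iff.mp (pow_mem hzZ k) g₀, inv_mul_cancel_left]
    open IsMulCommutative in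
    have h0 : MonoidHom.transfer (MonoidHom.id A) z = 1 :=
      MonoidHom.mem_ker.mp (Abelianization.commutator_subset_ker _ hzG)
    rw [h0] at htr
    have h1 : z ^ A.index = 1 := (congrArg (fun u : A => (u : G)) htr).symm
    have h3 : orderOf z ∣ Nat.gcd (Nat.card A) A.index :=
      Nat.dvd_gcd (A.orderOf_dvd_natCard hzA) (orderOf_dvd_of_pow_eq_one h1)
    rw [hcop.gcd_eq_one, Nat.dvd_one, orderOf_eq_one_iff] at h3
    exact Subgroup.mem_bot.mpr h3
  have h1le : ⁅A, (⊤ : Subgroup G)⁆ ≤ commutator G ⊓ A :=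
    le_inf (Subgroup.commutator_mono le_top le_rfl) (Subgroup.commutator_le_left _ _)
  have h3 : A ≤ ⁅A, (⊤ : Subgroup G)⁆ ⊔ (Subgroup.center G ⊓ A) := by
    obtain ⟨ψ, hψc, -, -, hψ⟩ := Fusion.exists_norm_hom A
    intro a ha
    obtain ⟨m, hm⟩ := exists_pow_eq_self_of_coprime
      (hcop.symm.coprime_dvd_right (A.orderOf_dvd_natCard ha))
    rw [← hm]
    refine pow_mem ?_ m
    rw [show a ^ A.index = (ψ ⟨a, ha⟩ : G) * (((a ^ A.index)⁻¹ * (ψ ⟨a, ha⟩ : G))⁻¹) by group]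
    exact mul_mem (Subgroup.mem_sup_right ⟨hψc _, (ψ ⟨a, ha⟩).2⟩)
      (Subgroup.mem_sup_left (inv_mem (hψ ⟨a, ha⟩)))
  refine ⟨le_antisymm h1le ?_, h2, le_antisymm (sup_le inf_le_right inf_le_right)
    (h3.trans (sup_le_sup_right h1le _))⟩
  intro a ha
  have hmem : a ∈ ((⁅A, (⊤ : Subgroup G)⁆ ⊔ (Subgroup.center G ⊓ A) : Subgroup G) : Set G) :=
    h3 ha.2
  rw [Subgroup.normal_mul] at hmem
  obtain ⟨u, hu, v, hv, rfl⟩ := hmem
  have : v ∈ commutator G ⊓ A ⊓ (Subgroup.center G ⊓ A) := by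
    refine ⟨?_, hv⟩
    have := mul_mem (inv_mem (h1le hu)) ha
    rwa [inv_mul_cancel_left] at this
  rw [h2, Subgroup.mem_bot] at this
  simpa [this] using hu

end Cfsg.Agent.S0090
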