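import Cfsg.Statements.S0092
import Cfsg.Agent.Fusion.AbelianNormal
import Cfsg.Agent.Coprime.Basic
import Cfsg.Agent.Coprime.SchurZassenhaus
import Cfsg.Agent.S0075

set_option autoImplicit false
open Cfsg

open scoped commutatorElement

namespace Cfsg.Agent.S0092

/-- If the Sylow p-subgroups of O^p(G) are abelian then G splits over O^p(G). -/
theorem result {G : Type*} [Group G] [Finite G] {p : ℕ} [Fact p.Prime] (h : ∀ Q : Sylow p (Cfsg.pResidual p G), IsMulCommutative Q) : ∃ K : Subgroup G, K.IsComplement' (Cfsg.pResidual p G) := by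
  set M := pResidual p G with hM
  obtain ⟨S⟩ := (inferInstance : Nonempty (Sylow p M))
  have hSab : IsMulCommutative (S : Subgroup M) := h S
  set Q := (S : Subgroup M).map M.subtype with hQdef
  have hQM : Q ≤ M := Subgroup.map_subtype_le _
  have hQp : IsPGroup p Q := S.2.map _
  have hQab : IsMulCommutative Q := Subgroup.map_isMulCommutative _ _
  have hQi : ¬ p ∣ Q.relIndex M := by
    rw [hQdef, Subgroup.relIndex, Subgroup.subgroupOf,
      Subgroup.comap_map_eq_self_of_injective M.subtype_injective]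
    exact S.not_dvd_index
  obtain ⟨P, hP⟩ := hQp.exists_le_sylow
  have hPQ : (P : Subgroup G) ⊓ M = Q :=
    Fusion.eq_of_isPGroup_of_not_dvd_relIndex hQM hQp hQi inf_le_right P.2.to_inf_left
      (le_inf hP hQM)
  set N := Subgroup.normalizer (Q : Set G) with hN
  have hMn : M.Normal := inferInstance
  have hPN : (P : Subgroup G) ≤ N := fun x hx => by
    refine Fusion.mem_normalizer_of_conjSub_eq ?_
    rw [← hPQ, Fusion.conjSub, Subgroup.map_inf_eq _ _ _ (MulAut.conj x⁻¹).injective,
      ← Fusion.conjSub, ← Fusion.conjSub,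
      Fusion.conjSub_eq_of_mem_normalizer (Subgroup.le_normalizer hx),
      Fusion.conjSub_eq_of_mem_normalizer (Subgroup.normalizer_eq_top (H := M) ▸ Subgroup.mem_top x)]
  have hGN : N ⊔ M = ⊤ :=
    top_le_iff.mp ((Fusion.sylow_sup_pResidual P).ge.trans (sup_le_sup_right hPN M))
  set NM := N ⊓ M with hNM
  have hQNM : Q ≤ NM := le_inf Subgroup.le_normalizer hQM
  have hNMn : NM ≤ Subgroup.normalizer (Q : Set G) := inf_le_left
  have : (Q.subgroupOf NM).Normal :=
    (Subgroup.normal_subgroupOf_iff_le_normalizer hQNM).mpr hNMn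
  have hQc : Nat.Coprime (Nat.card (Q.subgroupOf NM)) (Q.subgroupOf NM).index := by
    rw [Nat.card_congr (Subgroup.subgroupOfEquivOfLe hQNM).toEquiv]
    obtain ⟨k, hk⟩ := IsPGroup.iff_card.mp hQp
    rw [hk]
    exact Nat.Coprime.pow_left _ ((Nat.Prime.coprime_iff_not_dvd Fact.out).mpr fun hd => hQi
      (hd.trans ⟨_, (Subgroup.relIndex_mul_relIndex Q NM M hQNM inf_le_right).symm⟩))
  obtain ⟨K₀', hK₀⟩ := Subgroup.exists_right_complement'_of_coprime hQc
  set K₀ := K₀'.map NM.subtype with hK₀def
  have hK₀NM : K₀ ≤ NM := Subgroup.map_subtype_le _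
  have hsup : Q ⊔ K₀ = NM := by
    have := congrArg (Subgroup.map NM.subtype) hK₀.sup_eq_top
    rwa [Subgroup.map_sup, Subgroup.map_subgroupOf_eq_of_le hQNM, ← MonoidHom.range_eq_map,
      Subgroup.range_subtype] at this
  have hinf : Q ⊓ K₀ = ⊥ := by
    rw [eq_bot_iff]
    rintro z ⟨hzQ, y, hy, rfl⟩
    have : y ∈ Q.subgroupOf NM ⊓ K₀' := ⟨hzQ, hy⟩
    rw [disjoint_iff.mp hK₀.disjoint, Subgroup.mem_bot] at this
    simp [this]
  have hcard : Nat.Coprime (Nat.card K₀) (Nat.card Q) := by
    rw [hK₀def, Subgroup.card_map_of_injective NM.subtype_injective, ← hK₀.symm.index_eq_card,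
      ← Nat.card_congr (Subgroup.subgroupOfEquivOfLe hQNM).toEquiv]
    exact hQc.symm
  have hK₀n : K₀ ≤ Subgroup.normalizer (Q : Set G) := hK₀NM.trans hNMn
  -- `C_Q(K₀) = 1`
  have hCQ : Q ⊓ Subgroup.centralizer (K₀ : Set G) = ⊥ := by
    have h75 := Cfsg.Agent.S0075.result S hSab
    have h76 : pResidual p M = ⊤ := Fusion.pResidual_pResidual
    rw [h76, inf_top_eq] at h75
    have hle : Q ≤ ⁅Q, K₀⁆ := by
      calc Q = (⁅(S : Subgroup M), Subgroup.normalizer (S : Set M)⁆).map M.subtype := by
            rw [← h75, hQdef]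
        _ = ⁅Q, (Subgroup.normalizer ((S : Subgroup M) : Set M)).map M.subtype⁆ := by
            rw [Subgroup.map_commutator, hQdef]
            rfl
        _ ≤ ⁅Q, NM⁆ := Subgroup.commutator_mono le_rfl (le_inf
            (fun z hz => by
              obtain ⟨y, hy, rfl⟩ := hz
              refine Fusion.mem_normalizer_of_conjSub_eq ?_
              ext x
              rw [Fusion.mem_conjSub]
              constructor
              · rintro ⟨w, hw, hwx⟩
                refine ⟨y⁻¹ * w * y, ((Subgroup.mem_normalizer_iff''.mp hy) w).mp hw, ?_⟩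
                simp only [map_mul, map_inv, hwx]
                group
              · rintro ⟨w, hw, rfl⟩
                exact ⟨y * w * y⁻¹, (Subgroup.mem_normalizer_iff.mp hy w).mp hw, by simp⟩)
            (Subgroup.map_subtype_le _))
        _ ≤ ⁅Q, K₀⁆ := by
            refine Subgroup.commutator_le.mpr fun a ha b hb => ?_
            rw [← hsup] at hb
            obtain ⟨q, hq, k, hk, rfl⟩ :=
              (Coprime.mem_sup_of_le_normalizer hK₀n).mp hb
            have hq' : a * q = q * a :=
              congrArg (fun w : Q => (w : G)) (hQab.is_comm.comm ⟨a, ha⟩ ⟨q, hq⟩)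
            have hak : ⁅a, k⁆ ∈ Q :=
              Coprime.commutator_le_of_le_normalizer hK₀n (Subgroup.commutator_mem_commutator ha hk)
            have hq2 : q * ⁅a, k⁆ = ⁅a, k⁆ * q :=
              congrArg (fun w : Q => (w : G)) (hQab.is_comm.comm ⟨q, hq⟩ ⟨_, hak⟩)
            have : ⁅a, q * k⁆ = ⁅a, k⁆ := by
              calc ⁅a, q * k⁆ = ⁅a, q⁆ * (q * ⁅a, k⁆ * q⁻¹) := by
                    simp only [commutatorElement_def]; group
                _ = ⁅a, k⁆ := by
                    rw [commutatorElement_eq_one_iff_mul_comm.mpr hq', one_mul, hq2,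
                      mul_inv_cancel_right]
            rw [this]
            exact Subgroup.commutator_mem_commutator ha hk
    have := (Coprime.abelian_decomposition hK₀n hcard).1
    rw [le_antisymm (Coprime.commutator_le_of_le_normalizer hK₀n) hle] at this
    exact le_bot_iff.mp ((le_inf le_rfl inf_le_left).trans this.le)
  -- Frattini argument
  set N' := N ⊓ Subgroup.normalizer (K₀ : Set G) with hN'
  have hN'G : N' ⊔ M = ⊤ := by
    refine top_le_iff.mp (hGN.ge.trans (sup_le ?_ le_sup_right))
    intro n hn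
    have hconjQ : Fusion.conjSub n Q = Q := Fusion.conjSub_eq_of_mem_normalizer hn
    have hconjNM : Fusion.conjSub n NM = NM := by
      rw [hNM, Fusion.conjSub, Subgroup.map_inf_eq _ _ _ (MulAut.conj n⁻¹).injective,
        ← Fusion.conjSub, ← Fusion.conjSub,
        Fusion.conjSub_eq_of_mem_normalizer (Subgroup.le_normalizer hn),
        Fusion.conjSub_eq_of_mem_normalizer
          (Subgroup.normalizer_eq_top (H := M) ▸ Subgroup.mem_top n)]
    have hsolv : Group.IsSolvable Q := by
      have := hQp.isNilpotent; infer_instance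
    obtain ⟨q, hq, hqe⟩ := Coprime.exists_conj_of_sup_eq (N := Q) (H := Fusion.conjSub n K₀)
      (K := K₀) (((Fusion.conjSub_mono hK₀NM).trans hconjNM.le).trans hNMn)
      (by
        rw [← hconjQ, Fusion.conjSub, Fusion.conjSub,
          ← Subgroup.map_inf_eq _ _ _ (MulAut.conj n⁻¹).injective, hinf, Subgroup.map_bot])
      hinf (by
        conv_lhs => rw [← hconjQ]
        rw [Fusion.conjSub, Fusion.conjSub, ← Subgroup.map_sup, hsup, ← Fusion.conjSub, hconjNM])
      (by rw [Fusion.card_conjSub]; exact hcard.symm) (Or.inl hsolv)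
    have hqn : n * q⁻¹ ∈ Subgroup.normalizer (K₀ : Set G) := by
      refine Fusion.mem_normalizer_of_conjSub_eq ?_
      rw [← Fusion.conjSub_conjSub, Fusion.conjSub, inv_inv]
      exact hqe
    rw [show n = n * q⁻¹ * q by group]
    exact mul_mem (Subgroup.mem_sup_left ⟨mul_mem hn (Subgroup.inv_mem _ (Subgroup.le_normalizer hq)), hqn⟩)
      (Subgroup.mem_sup_right (hQM hq))
  have hN'M : N' ⊓ M = K₀ := by
    refine le_antisymm ?_ (le_inf (le_inf (hK₀NM.trans inf_le_left) Subgroup.le_normalizer)
      (hK₀NM.trans inf_le_right))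
    rintro z ⟨⟨hzN, hzK⟩, hzM⟩
    have hz : z ∈ NM := ⟨hzN, hzM⟩
    rw [← hsup] at hz
    obtain ⟨q, hq, k, hk, rfl⟩ := (Coprime.mem_sup_of_le_normalizer hK₀n).mp hz
    have hqN : q ∈ Subgroup.normalizer (K₀ : Set G) := by
      have := mul_mem hzK (Subgroup.inv_mem _ (Subgroup.le_normalizer hk))
      rwa [mul_inv_cancel_right] at this
    have h2 := Coprime.mem_centralizer_of_mem_normalizer hK₀n hinf hq hqN
    have : q ∈ Q ⊓ Subgroup.centralizer (K₀ : Set G) := ⟨hq, h2⟩
    rw [hCQ, Subgroup.mem_bot] at this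
    rwa [this, one_mul]
  obtain ⟨R⟩ := (inferInstance : Nonempty (Sylow p N'))
  set R' := (R : Subgroup N').map N'.subtype with hR'
  refine ⟨R', Subgroup.IsComplement'.symm ?_⟩
  refine Subgroup.isComplement'_of_disjoint_and_mul_eq_univ (disjoint_iff.mpr ?_) ?_
  · rw [eq_bot_iff]
    rintro z ⟨hzM, hzR⟩
    have hzK : z ∈ K₀ := hN'M ▸ ⟨Subgroup.map_subtype_le _ hzR, hzM⟩
    have hKp : Nat.Coprime (Nat.card K₀) p := by
      rw [hK₀def, Subgroup.card_map_of_injective NM.subtype_injective, ← hK₀.symm.index_eq_card]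
      exact ((Nat.Prime.coprime_iff_not_dvd Fact.out).mpr fun hd => hQi
        (hd.trans ⟨_, (Subgroup.relIndex_mul_relIndex Q NM M hQNM inf_le_right).symm⟩)).symm
    obtain ⟨j, hj⟩ := IsPGroup.iff_card.mp (R.2.map N'.subtype)
    have hd : Disjoint K₀ R' :=
      Subgroup.disjoint_of_coprime_natCard (hj ▸ hKp.pow_right j)
    exact hd.le_bot ⟨hzK, hzR⟩
  · have hsupN' : (R : Subgroup N') ⊔ M.subgroupOf N' = ⊤ := by
      have hMN'n : (M.subgroupOf N').Normal := hMn.subgroupOf N'
      refine Fusion.sylow_sup_eq_top_of_isPGroup_quotient R _ ?_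
      refine (Fusion.isPGroup_quotient_pResidual (G := G) (p := p)).of_injective
        (QuotientGroup.lift (M.subgroupOf N') ((QuotientGroup.mk' M).comp N'.subtype)
          (fun x hx => (QuotientGroup.eq_one_iff (x : G)).mpr hx)) ?_
      rw [injective_iff_map_eq_one]
      intro a
      obtain ⟨x, rfl⟩ := QuotientGroup.mk_surjective a
      intro hx
      exact (QuotientGroup.eq_one_iff x).mpr ((QuotientGroup.eq_one_iff (x : G)).mp hx)
    have h2 : R' ⊔ (N' ⊓ M) = N' := by
      have := congrArg (Subgroup.map N'.subtype) hsupN'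
      rwa [Subgroup.map_sup, Subgroup.subgroupOf_map_subtype, ← MonoidHom.range_eq_map,
        Subgroup.range_subtype, inf_comm] at this
    rw [← Subgroup.normal_mul, show M ⊔ R' = ⊤ from top_le_iff.mp (hN'G.ge.trans
      (sup_le (h2.ge.trans (sup_le le_sup_right (inf_le_right.trans le_sup_left))) le_sup_left)),
      Subgroup.coe_top]

end Cfsg.Agent.S0092
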