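import Cfsg.Statements.S0094
import Mathlib.GroupTheory.Frattini
import Mathlib.GroupTheory.Abelianization.Defs
import Mathlib.Tactic

set_option autoImplicit false
open Cfsg

namespace Cfsg.Agent.S0094

open scoped commutatorElement

/-- In a special p-group every central element has order dividing p. -/
theorem result {P : Type*} [Group P] [Finite P] {p : ℕ} [Fact p.Prime] (h : Cfsg.IsSpecial p P) (z : P) (hz : z ∈ Subgroup.center P) : z ^ p = 1 := by
  obtain ⟨hP, hF, hD⟩ := h
  rw [← hD, commutator_def] at hz
  have hpow : ∀ x : P, x ^ p ∈ Subgroup.center P := by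
    intro x
    rw [← hF, frattini, Order.radical, Subgroup.mem_iInf]
    intro M
    rw [Subgroup.mem_iInf]
    intro hM
    have hnil : Group.IsNilpotent P := hP.isNilpotent
    have hMn : M.Normal := Subgroup.NormalizerCondition.normal_of_coatom M Group.normalizerCondition_of_isNilpotent hM
    have hidx : M.index = p := by
      have := hMn
      obtain ⟨n, hn⟩ := hP.index M
      have hsimple : ∀ K : Subgroup (P ⧸ M), K = ⊥ ∨ K = ⊤ := by
        intro K
        rcases hM.le_iff.1 (QuotientGroup.le_comap_mk' M K) with hc | hc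
        · exact Or.inr (by rw [← Subgroup.map_comap_eq_self_of_surjective (QuotientGroup.mk'_surjective M) K, hc, Subgroup.map_top_of_surjective _ (QuotientGroup.mk'_surjective M)])
        · exact Or.inl (by rw [← Subgroup.map_comap_eq_self_of_surjective (QuotientGroup.mk'_surjective M) K, hc, QuotientGroup.map_mk'_self])
      have hn1 : 1 ≤ n := by
        by_contra hn0
        rw [Nat.lt_one_iff.1 (not_le.1 hn0), pow_zero, Subgroup.index_eq_one] at hn
        exact hM.1 hn
      obtain ⟨x, hx⟩ := exists_prime_orderOf_dvd_card' (G := P ⧸ M) p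
        (by rw [← Subgroup.index, hn]; exact dvd_pow_self p (by omega))
      rcases hsimple (Subgroup.zpowers x) with hb | ht
      · rw [Subgroup.zpowers_eq_bot] at hb
        rw [hb, orderOf_one] at hx
        exact absurd hx.symm (Fact.out : p.Prime).ne_one
      · rw [Subgroup.index, ← hx, ← Nat.card_zpowers, ht, Subgroup.card_top]
    rw [← hidx]
    exact Subgroup.pow_index_mem M x
  rw [Subgroup.commutator_def] at hz
  have hZc : ∀ a b : P, ⁅a, b⁆ ∈ Subgroup.center P := fun a b => hD ▸
    Subgroup.commutator_mem_commutator (Subgroup.mem_top a) (Subgroup.mem_top b)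
  induction hz using Subgroup.closure_induction with
  | mem w hw =>
    obtain ⟨a, -, b, -, rfl⟩ := hw
    have key : ∀ k : ℕ, ⁅a ^ k, b⁆ = ⁅a, b⁆ ^ k := by
      intro k
      induction k with
      | zero => simp
      | succ k ih =>
        rw [pow_succ' a, pow_succ' ⁅a, b⁆, ← ih]
        have hc := Subgroup.mem_center_iff.1 (hZc (a ^ k) b) a
        calc ⁅a * a ^ k, b⁆ = a * ⁅a ^ k, b⁆ * b * a⁻¹ * b⁻¹ := by
              simp only [commutatorElement_def]; group
          _ = ⁅a ^ k, b⁆ * ⁅a, b⁆ := by rw [hc]; simp only [commutatorElement_def]; group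
          _ = ⁅a, b⁆ * ⁅a ^ k, b⁆ := (Subgroup.mem_center_iff.1 (hZc (a ^ k) b) _).symm
    rw [← key, commutatorElement_eq_one_iff_mul_comm]
    exact (Subgroup.mem_center_iff.1 (hpow a) b).symm
  | one => exact one_pow p
  | mul a b ha _ iha ihb =>
    have hac : a ∈ Subgroup.center P := by
      have : Subgroup.closure {g | ∃ g₁ ∈ (⊤ : Subgroup P), ∃ g₂ ∈ (⊤ : Subgroup P), ⁅g₁, g₂⁆ = g} ≤ Subgroup.center P := by
        rw [Subgroup.closure_le]; rintro _ ⟨x, -, y, -, rfl⟩; exact hZc x y
      exact this ha
    rw [(show Commute a b from (Subgroup.mem_center_iff.1 hac b).symm).mul_pow, iha, ihb, one_mul]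
  | inv a _ ha => rw [inv_pow, ha, inv_one]

end Cfsg.Agent.S0094
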