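import Cfsg.Statements.S0097
import Cfsg.Agent.Fusion.Extraspecial

set_option autoImplicit false
open Cfsg

namespace Cfsg.Agent.S0097

/-- For odd p and E extraspecial, the subgroup generated by the elements of order dividing p has exponent dividing p and index at most p. -/
theorem result {E : Type*} [Group E] [Finite E] {p : ℕ} [Fact p.Prime] (hp : p ≠ 2) (h : Cfsg.IsExtraspecial p E) : (Subgroup.closure {x : E | x ^ p = 1}).index ≤ p ∧ ∀ g ∈ Subgroup.closure {x : E | x ^ p = 1}, g ^ p = 1 := by
  have hle := Fusion.es_commutator_le h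
  refine ⟨?_, fun g hg => Fusion.pow_prime_eq_one_of_mem_closure hp hle hg⟩
  obtain ⟨t, ht⟩ := Nat.Prime.dvd_choose_self (Fact.out : p.Prime) two_ne_zero
    (lt_of_le_of_ne (Fact.out : p.Prime).two_le (Ne.symm hp))
  let φ : E →* Subgroup.center E := MonoidHom.mk' (fun x => ⟨x ^ p, Fusion.es_pow_mem_center h x⟩)
    fun a b => Subtype.ext (by
      show (a * b) ^ p = a ^ p * b ^ p
      rw [Fusion.mul_pow_of_commute_commutator
        (Subgroup.mem_center_iff.mp (Fusion.es_commutator_mem h b a) a).symm
        (Subgroup.mem_center_iff.mp (Fusion.es_commutator_mem h b a) b).symm, ht, pow_mul,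
        Fusion.es_center_pow h (Fusion.es_commutator_mem h b a), one_pow, mul_one])
  have hle' : φ.ker ≤ Subgroup.closure {x : E | x ^ p = 1} :=
    fun x hx => Subgroup.subset_closure (congrArg (fun w : Subgroup.center E => (w : E)) hx)
  refine le_trans (Nat.le_of_dvd (Nat.pos_of_ne_zero Subgroup.index_ne_zero_of_finite)
    (Subgroup.index_dvd_of_le hle')) ?_
  rw [Subgroup.index_ker]
  exact (Subgroup.card_le_card_group _).trans h.2.le

end Cfsg.Agent.S0097
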