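import Cfsg.Statements.S3799
import Cfsg.Agent.Fusion.Critical
import Cfsg.Agent.LargeExtra.SingularSubgroup

set_option autoImplicit false
open Cfsg

namespace Cfsg.Agent.S3799

open scoped commutatorElement
open Matrix

variable {p n : ℕ}

/-- Index set with a first, a last and `n` middle points. -/
abbrev Idx (n : ℕ) : Type := Option (Option (Fin n))

/-- The Heisenberg matrix with row `a`, column `b` and corner `c`. -/
def heis (a b : Fin n → ZMod p) (c : ZMod p) : Matrix (Idx n) (Idx n) (ZMod p) := fun i j =>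
  match i, j with
  | none, none => 1
  | none, some none => c
  | none, some (some j) => a j
  | some none, some none => 1
  | some (some i), some none => b i
  | some (some i), some (some j) => if i = j then 1 else 0
  | some none, none => 0
  | some none, some (some _) => 0
  | some (some _), none => 0

theorem heis_mul (a b a' b' : Fin n → ZMod p) (c c' : ZMod p) :
    heis a b c * heis a' b' c' = heis (a + a') (b + b') (c + c' + a ⬝ᵥ b') := by
  ext i j
  rcases i with - | (- | i) <;> rcases j with - | (- | j) <;>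
    simp [Matrix.mul_apply, Fintype.sum_option, heis, dotProduct, add_assoc, add_comm, add_left_comm]

theorem heis_zero : heis (0 : Fin n → ZMod p) 0 0 = 1 := by
  ext i j
  rcases i with - | (- | i) <;> rcases j with - | (- | j) <;> simp [heis, Matrix.one_apply]

/-- Heisenberg matrices as units. -/
def heisUnit (v : (Fin n → ZMod p) × (Fin n → ZMod p) × ZMod p) :
    (Matrix (Idx n) (Idx n) (ZMod p))ˣ where
  val := heis v.1 v.2.1 v.2.2
  inv := heis (-v.1) (-v.2.1) (-v.2.2 + v.1 ⬝ᵥ v.2.1)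
  val_inv := by
    rw [heis_mul, ← heis_zero]
    congr 1
    · simp
    · simp
    · simp
  inv_val := by
    rw [heis_mul, ← heis_zero]
    congr 1
    · simp
    · simp
    · simp

theorem heisUnit_mul (v w : (Fin n → ZMod p) × (Fin n → ZMod p) × ZMod p) :
    heisUnit v * heisUnit w = heisUnit (v.1 + w.1, v.2.1 + w.2.1, v.2.2 + w.2.2 + v.1 ⬝ᵥ w.2.1) :=
  Units.ext (heis_mul _ _ _ _ _ _)

theorem heisUnit_injective :
    Function.Injective (heisUnit : (Fin n → ZMod p) × (Fin n → ZMod p) × ZMod p → _) := by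
  intro v w h
  have h' : heis v.1 v.2.1 v.2.2 = heis w.1 w.2.1 w.2.2 := congrArg Units.val h
  refine Prod.ext (funext fun j => ?_) (Prod.ext (funext fun j => ?_) ?_)
  · exact congrFun (congrFun h' none) (some (some j))
  · exact congrFun (congrFun h' (some (some j))) (some none)
  · exact congrFun (congrFun h' none) (some none)

theorem heisUnit_zero : heisUnit (0 : (Fin n → ZMod p) × (Fin n → ZMod p) × ZMod p) = 1 :=
  Units.ext heis_zero

variable (p n) in
/-- The Heisenberg subgroup. -/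
def heisGroup : Subgroup (Matrix (Idx n) (Idx n) (ZMod p))ˣ where
  carrier := Set.range heisUnit
  one_mem' := ⟨0, heisUnit_zero⟩
  mul_mem' := by rintro _ _ ⟨v, rfl⟩ ⟨w, rfl⟩; exact ⟨_, (heisUnit_mul v w).symm⟩
  inv_mem' := by
    rintro _ ⟨v, rfl⟩
    exact ⟨(-v.1, -v.2.1, -v.2.2 + v.1 ⬝ᵥ v.2.1), Units.ext rfl⟩

theorem card_heisGroup [Fact p.Prime] : Nat.card (heisGroup p n) = p ^ (1 + 2 * n) := by
  rw [show Nat.card (heisGroup p n) = Nat.card ((Fin n → ZMod p) × (Fin n → ZMod p) × ZMod p) from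
    Nat.card_congr (Equiv.ofInjective _ heisUnit_injective).symm]
  simp only [Nat.card_prod, Nat.card_fun, Nat.card_zmod, Nat.card_eq_fintype_card (α := Fin n),
    Fintype.card_fin]
  ring

theorem heisUnit_pow (v : (Fin n → ZMod p) × (Fin n → ZMod p) × ZMod p) (k : ℕ) :
    heisUnit v ^ k = heisUnit (k • v.1, k • v.2.1,
      k • v.2.2 + (Nat.choose k 2) • (v.1 ⬝ᵥ v.2.1)) := by
  induction k with
  | zero => simpa using (heisUnit_zero (p := p) (n := n)).symm.trans (congrArg heisUnit (show (0 : (Fin n → ZMod p) × (Fin n → ZMod p) × ZMod p) = (0, 0, 0) from rfl))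
  | succ k ih =>
    rw [pow_succ, ih, heisUnit_mul, Nat.choose_succ_succ, Nat.choose_one_right]
    congr 1
    simp only [succ_nsmul, add_nsmul, smul_dotProduct]
    ext <;> simp; ring

theorem heisUnit_comm_iff (v w : (Fin n → ZMod p) × (Fin n → ZMod p) × ZMod p) :
    heisUnit v * heisUnit w = heisUnit w * heisUnit v ↔ v.1 ⬝ᵥ w.2.1 = w.1 ⬝ᵥ v.2.1 := by
  rw [heisUnit_mul, heisUnit_mul]
  constructor
  · intro h
    have := (Prod.ext_iff.1 (Prod.ext_iff.1 (heisUnit_injective h)).2).2
    rw [add_comm w.2.2] at this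
    exact add_left_cancel this
  · intro h
    rw [h, add_comm v.1, add_comm v.2.1, add_comm v.2.2]

theorem heisUnit_exponent [Fact p.Prime] (hp : p ≠ 2)
    (v : (Fin n → ZMod p) × (Fin n → ZMod p) × ZMod p) : heisUnit v ^ p = 1 := by
  have hp' : p.Prime := Fact.out
  have h2 : 2 < p := lt_of_le_of_ne hp'.two_le hp.symm
  rw [heisUnit_pow, ← heisUnit_zero]
  congr 1
  refine Prod.ext ?_ (Prod.ext ?_ ?_)
  · ext i; simp
  · ext i; simp
  · have : (p : ℕ) ∣ Nat.choose p 2 := hp'.dvd_choose_self two_ne_zero h2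
    obtain ⟨k, hk⟩ := this
    simp [hk, mul_nsmul, nsmul_eq_mul]

theorem heisGroup_extraspecial [Fact p.Prime] (hp : p ≠ 2) (hn : 1 ≤ n) :
    Cfsg.IsExtraspecial p (heisGroup p n) := by
  classical
  have hp' : p.Prime := Fact.out
  have hG : IsPGroup p (heisGroup p n) := IsPGroup.of_card (n := 1 + 2 * n) card_heisGroup
  haveI : Finite (heisGroup p n) := Nat.finite_of_card_ne_zero
    (by rw [card_heisGroup]; exact pow_ne_zero _ hp'.ne_zero)
  let z : Fin 1 → heisGroup p n := fun _ => ⟨heisUnit (0, 0, 1), ⟨_, rfl⟩⟩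
  have hcen : ∀ g : heisGroup p n, g ∈ Subgroup.center (heisGroup p n) ↔
      ∃ c : ZMod p, (g : (Matrix (Idx n) (Idx n) (ZMod p))ˣ) = heisUnit (0, 0, c) := by
    rintro ⟨_, v, rfl⟩
    constructor
    · intro hv
      have h : ∀ w : (Fin n → ZMod p) × (Fin n → ZMod p) × ZMod p, v.1 ⬝ᵥ w.2.1 = w.1 ⬝ᵥ v.2.1 := fun w => (heisUnit_comm_iff v w).1
        (congrArg Subtype.val (Subgroup.mem_center_iff.1 hv ⟨_, w, rfl⟩)).symm
      refine ⟨v.2.2, ?_⟩
      show heisUnit v = _
      congr 1
      refine Prod.ext (funext fun i => ?_) (Prod.ext (funext fun i => ?_) rfl)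
      · simpa using h (0, Pi.single i 1, 0)
      · simpa using (h (Pi.single i 1, 0, 0)).symm
    · rintro ⟨c, hc⟩
      refine Subgroup.mem_center_iff.2 ?_
      rintro ⟨_, w, rfl⟩
      refine Subtype.ext ?_
      show heisUnit w * heisUnit v = heisUnit v * heisUnit w
      rw [show heisUnit v = _ from hc, heisUnit_comm_iff]
      simp
  have hcard : Nat.card (Subgroup.center (heisGroup p n)) = p := by
    refine (Nat.card_congr (Equiv.ofBijective
      (fun c : ZMod p => (⟨⟨heisUnit (0, 0, c), ⟨_, rfl⟩⟩, (hcen _).2 ⟨c, rfl⟩⟩ :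
        Subgroup.center (heisGroup p n))) ⟨fun c d h => ?_, fun g => ?_⟩)).symm.trans (Nat.card_zmod p)
    · exact (Prod.ext_iff.1 (Prod.ext_iff.1 (heisUnit_injective
        (congrArg (fun u : Subgroup.center (heisGroup p n) =>
          ((u : heisGroup p n) : (Matrix (Idx n) (Idx n) (ZMod p))ˣ)) h))).2).2
    · obtain ⟨c, hc⟩ := (hcen g.1).1 g.2
      exact ⟨c, Subtype.ext (Subtype.ext hc.symm)⟩
  have hcle : commutator (heisGroup p n) ≤ Subgroup.center (heisGroup p n) := by
    rw [commutator_def, Subgroup.commutator_le]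
    rintro ⟨_, v, rfl⟩ - ⟨_, w, rfl⟩ -
    refine (hcen _).2 ⟨v.1 ⬝ᵥ w.2.1 - w.1 ⬝ᵥ v.2.1, ?_⟩
    show ⁅heisUnit v, heisUnit w⁆ = _
    rw [commutatorElement_def, mul_inv_eq_iff_eq_mul, mul_inv_eq_iff_eq_mul, heisUnit_mul,
      heisUnit_mul, heisUnit_mul]
    congr 1
    refine Prod.ext ?_ (Prod.ext ?_ ?_)
    · simp [add_comm]
    · simp [add_comm]
    · simp; ring
  have heq : commutator (heisGroup p n) = Subgroup.center (heisGroup p n) := by
    refine Subgroup.eq_of_le_of_card_ge hcle ?_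
    rw [hcard]
    obtain ⟨k, hk⟩ := (hG.to_subgroup (commutator (heisGroup p n))).exists_card_eq
    rcases k with - | k
    · exfalso
      rw [pow_zero, Subgroup.card_eq_one] at hk
      let A : heisGroup p n := ⟨heisUnit (Pi.single (⟨0, hn⟩ : Fin n) 1, 0, 0), ⟨_, rfl⟩⟩
      let B : heisGroup p n := ⟨heisUnit (0, Pi.single (⟨0, hn⟩ : Fin n) 1, 0), ⟨_, rfl⟩⟩
      have h0 : ⁅A, B⁆ ∈ commutator (heisGroup p n) :=
        Subgroup.commutator_mem_commutator (Subgroup.mem_top A) (Subgroup.mem_top B)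
      have h : ⁅A, B⁆ = 1 := by rw [hk] at h0; exact h0
      rw [commutatorElement_eq_one_iff_mul_comm] at h
      have h' := (heisUnit_comm_iff _ _).1 (congrArg Subtype.val h)
      simp at h'
    · rw [hk]; exact Nat.le_self_pow (by omega) p
  refine ⟨⟨hG, le_antisymm ?_ ?_, heq⟩, hcard⟩
  · refine Fusion.frattini_le_of_elementary (p := p) _ hcle ?_
    rintro ⟨_, v, rfl⟩
    rw [show (⟨heisUnit v, ⟨v, rfl⟩⟩ : heisGroup p n) ^ p = 1 from
      Subtype.ext (heisUnit_exponent hp v)]
    exact one_mem _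
  · have := hG.isNilpotent
    exact heq ▸ Core.commutator_le_frattini

/-- For every odd prime p and every n ≥ 1 there is an extraspecial p-group of order p^(1+2n) and exponent p; concretely, the general linear group of degree n + 2 over the field with p elements contains such a subgroup. -/
theorem result (p : ℕ) [Fact p.Prime] (hp : p ≠ 2) (n : ℕ) (hn : 1 ≤ n) : ∃ E : Subgroup (Matrix.GeneralLinearGroup (Fin (n + 2)) (ZMod p)), Cfsg.IsExtraspecial p ↥E ∧ Nat.card E = p ^ (1 + 2 * n) ∧ ∀ x ∈ E, x ^ p = 1 := by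
  let e : Idx n ≃ Fin (n + 2) := Fintype.equivFinOfCardEq (by simp)
  let f : (Matrix (Idx n) (Idx n) (ZMod p))ˣ ≃* Matrix.GeneralLinearGroup (Fin (n + 2)) (ZMod p) :=
    Units.mapEquiv (Matrix.reindexAlgEquiv (ZMod p) (ZMod p) e).toMulEquiv
  refine ⟨(heisGroup p n).map f.toMonoidHom, ?_, ?_, ?_⟩
  · haveI : Finite (heisGroup p n) := Nat.finite_of_card_ne_zero
      (by rw [card_heisGroup]; exact pow_ne_zero _ (Fact.out : p.Prime).ne_zero)
    exact LargeExtra.extraspecial_congr ((heisGroup p n).equivMapOfInjective f.toMonoidHom f.injective)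
      (heisGroup_extraspecial hp hn)
  · exact (Nat.card_congr ((heisGroup p n).equivMapOfInjective f.toMonoidHom f.injective).toEquiv).symm.trans card_heisGroup
  · rintro _ ⟨_, ⟨v, rfl⟩, rfl⟩
    rw [← map_pow, heisUnit_exponent hp v, map_one]

end Cfsg.Agent.S3799
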