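import Cfsg.Statements.S0098
import Cfsg.Agent.S3799
import Cfsg.Agent.Fusion.Extraspecial

set_option autoImplicit false
open Cfsg

namespace Cfsg.Agent.S0098

open Subgroup Cfsg.Agent.Fusion in
open scoped commutatorElement in
/-- Coordinates on a non-degenerate subgroup of an extraspecial group of exponent `p`. -/
theorem model_exists {E : Type*} [Group E] [Finite E] {p : ℕ} [Fact p.Prime] (h : Cfsg.IsExtraspecial p E)
    (he : ∀ x : E, x ^ p = 1) {z : E} (hz : z ∈ center E) (hz1 : z ≠ 1) :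
    ∀ (m : ℕ) (H : Subgroup E), center E ≤ H → H ⊓ centralizer (H : Set E) ≤ center E →
      Nat.card H = p ^ (2 * m + 1) →
      ∃ f : (Fin m → ZMod p) × (Fin m → ZMod p) → E, (∀ v, f v ∈ H) ∧
        (∀ v w, f v * f w = z ^ (v.1 ⬝ᵥ w.2).val * f (v + w)) ∧ ∀ v, f v ∈ center E → v = 0 := by
  have hpp : p.Prime := Fact.out
  haveI : NeZero p := ⟨hpp.ne_zero⟩
  have hle := es_commutator_le h
  have hadd : ∀ (g : E) (x y : ZMod p), g ^ (x + y).val = g ^ x.val * g ^ y.val := fun g x y => by
    rw [← pow_add, ZMod.val_add, ← pow_eq_pow_mod _ (he g)]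
  have hmul : ∀ (g : E) (x y : ZMod p), g ^ (x * y).val = (g ^ x.val) ^ y.val := fun g x y => by
    rw [← pow_mul, ZMod.val_mul, ← pow_eq_pow_mod _ (he g)]
  intro m
  induction m with
  | zero =>
    intro H _ _ _
    refine ⟨fun _ => 1, fun _ => H.one_mem, fun v w => by simp [dotProduct], fun v _ => ?_⟩
    exact Prod.ext (funext fun i => i.elim0) (funext fun i => i.elim0)
  | succ m ih =>
    intro H hZ hnd hcard
    obtain ⟨a, ha, haZ⟩ : ∃ a ∈ H, a ∉ center E := by
      by_contra hne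
      push Not at hne
      rw [le_antisymm hne hZ, h.2] at hcard
      exact absurd hcard (Nat.ne_of_lt (by
        calc p = p ^ 1 := (pow_one p).symm
          _ < p ^ (2 * (m + 1) + 1) := Nat.pow_lt_pow_right hpp.one_lt (by omega)))
    obtain ⟨b₀, hb₀, hab₀⟩ := es_exists_partner H hnd ha haZ
    obtain ⟨i, hi⟩ := mem_zpowers_iff.1 ((es_center_zpowers h (es_commutator_mem h a b₀) hab₀).ge hz)
    set b := b₀ ^ i with hbdef
    have hb : b ∈ H := zpow_mem hb₀ i
    have habz : ⁅a, b⁆ = z := by rw [hbdef, commutatorElement_zpow_right_of_le_center hle, hi]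
    have hab : ⁅a, b⁆ ≠ 1 := habz ▸ hz1
    have hzc : ∀ (n : ℕ) (g : E), z ^ n * g = g * z ^ n := fun n g =>
      ((mem_center_iff.1 (pow_mem hz n)) g).symm
    have hswap : ∀ x y : ZMod p, a ^ x.val * b ^ y.val = z ^ (x * y).val * (b ^ y.val * a ^ x.val) := by
      intro x y
      have e : ⁅a ^ x.val, b ^ y.val⁆ = z ^ (x * y).val := by
        rw [← zpow_natCast a, ← zpow_natCast b, commutatorElement_zpow_left_of_le_center hle,
          commutatorElement_zpow_right_of_le_center hle, habz, zpow_natCast, zpow_natCast, ← pow_mul,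
          mul_comm x y, hmul, ← pow_mul]
      rw [← e, commutatorElement_def]
      group
    obtain ⟨K, hKH, hZK, hKnd, hKcard, hKcomm, -⟩ := es_step h H hZ hnd ha hb hab
    obtain ⟨f, hfK, hfmul, hfinj⟩ := ih K hZK hKnd (by
      rw [hcard, show 2 * (m + 1) + 1 = 2 + (2 * m + 1) by ring, pow_add] at hKcard
      exact (Nat.eq_of_mul_eq_mul_left (pow_pos hpp.pos 2) hKcard).symm)
    refine ⟨fun v => b ^ (v.2 (Fin.last m)).val * a ^ (v.1 (Fin.last m)).val *
      f (fun i => v.1 i.castSucc, fun i => v.2 i.castSucc),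
      fun v => mul_mem (mul_mem (pow_mem hb _) (pow_mem ha _)) (hKH (hfK _)), fun v w => ?_, fun v hv => ?_⟩
    · simp only
      set fv := f (fun i => v.1 i.castSucc, fun i => v.2 i.castSucc)
      set fw := f (fun i => w.1 i.castSucc, fun i => w.2 i.castSucc)
      have hcw : Commute fv (b ^ (w.2 (Fin.last m)).val * a ^ (w.1 (Fin.last m)).val) :=
        (((hKcomm _ (hfK _)).2.pow_left _).symm).mul_right (((hKcomm _ (hfK _)).1.pow_left _).symm)
      have hd : v.1 ⬝ᵥ w.2 = v.1 (Fin.last m) * w.2 (Fin.last m) +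
          (fun i : Fin m => v.1 i.castSucc) ⬝ᵥ (fun i : Fin m => w.2 i.castSucc) := by
        simp only [dotProduct, Fin.sum_univ_castSucc]
        ring
      have hassoc : ∀ A B X C D Y : E, A * B * X * (C * D * Y) = A * B * (X * (C * D)) * Y := fun A B X C D Y => by group
      have hassoc2 : ∀ A B C D X Y : E, A * B * (C * D * X) * Y = A * (B * C) * D * (X * Y) := fun A B C D X Y => by group
      have hlast : ∀ u : ℕ, ∀ t : ℕ, ∀ A C B D F : E,
          A * (z ^ u * (C * B)) * D * (z ^ t * F) = z ^ u * z ^ t * (A * C * (B * D) * F) := by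
        intro u t A C B D F
        rw [← mul_assoc A, ← hzc u A]
        simp only [← mul_assoc]
        rw [mul_assoc _ D (z ^ t), ← hzc t D]
        simp only [← mul_assoc]
        rw [show z ^ u * A * C * B * z ^ t = z ^ u * z ^ t * A * C * B by
          rw [mul_assoc (z ^ u * A * C), ← hzc t B, ← mul_assoc, mul_assoc (z ^ u * A), ← hzc t C,
            ← mul_assoc, mul_assoc (z ^ u), ← hzc t A, ← mul_assoc]]
      rw [hassoc, hcw.eq, hassoc2, hswap, hfmul, hlast, ← hadd, ← hadd, ← hadd, ← hd]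
      rfl
    · set i₁ := v.1 (Fin.last m)
      set j₁ := v.2 (Fin.last m)
      set k := f (fun i => v.1 i.castSucc, fun i => v.2 i.castSucc) with hk
      have hak : Commute a k := (hKcomm _ (hfK _)).1
      have hbk : Commute b k := (hKcomm _ (hfK _)).2
      have e1 : ⁅b ^ j₁.val * a ^ i₁.val * k, b⁆ = 1 :=
        commutatorElement_eq_one_iff_mul_comm.2 (mem_center_iff.1 hv b).symm
      have e2 : ⁅a, b ^ j₁.val * a ^ i₁.val * k⁆ = 1 :=
        commutatorElement_eq_one_iff_mul_comm.2 (mem_center_iff.1 hv a)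
      rw [commutatorElement_mul_left_of_le_center hle, commutatorElement_mul_left_of_le_center hle,
        commutatorElement_eq_one_iff_mul_comm.2 hbk.symm.eq,
        commutatorElement_eq_one_iff_mul_comm.2 (Commute.pow_self b _).eq, one_mul, mul_one,
        ← zpow_natCast a, commutatorElement_zpow_left_of_le_center hle, habz, zpow_natCast] at e1
      rw [commutatorElement_mul_right_of_le_center hle, commutatorElement_mul_right_of_le_center hle,
        commutatorElement_eq_one_iff_mul_comm.2 hak.eq,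
        commutatorElement_eq_one_iff_mul_comm.2 (Commute.self_pow a _).eq, mul_one, mul_one,
        ← zpow_natCast b, commutatorElement_zpow_right_of_le_center hle, habz, zpow_natCast] at e2
      have h0 : ∀ x : ZMod p, z ^ x.val = 1 → x = 0 := fun x hx => by
        have hd := orderOf_dvd_of_pow_eq_one hx
        rw [orderOf_eq_prime (he z) hz1] at hd
        rw [← ZMod.val_eq_zero]
        exact Nat.eq_zero_of_dvd_of_lt hd (ZMod.val_lt x)
      have hi0 := h0 _ e1
      have hj0 := h0 _ e2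
      simp only at hv
      rw [show v.1 (Fin.last m) = 0 from hi0, show v.2 (Fin.last m) = 0 from hj0, ZMod.val_zero, pow_zero,
        pow_zero, one_mul, one_mul] at hv
      have h00 := hfinj _ hv
      refine Prod.ext (funext fun i => ?_) (funext fun i => ?_)
      · exact Fin.lastCases (motive := fun i => v.1 i = 0) hi0 (fun j => congrFun (congrArg Prod.fst h00) j) i
      · exact Fin.lastCases (motive := fun i => v.2 i = 0) hj0 (fun j => congrFun (congrArg Prod.snd h00) j) i

open Subgroup Cfsg.Agent.Fusion in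
/-- An extraspecial group of exponent `p` is a Heisenberg group. -/
theorem exists_equiv_heis {E : Type*} [Group E] [Finite E] {p : ℕ} [Fact p.Prime]
    (h : Cfsg.IsExtraspecial p E) (he : ∀ x : E, x ^ p = 1) :
    ∃ n : ℕ, Nonempty (E ≃* S3799.heisGroup p n) := by
  have hpp : p.Prime := Fact.out
  haveI : NeZero p := ⟨hpp.ne_zero⟩
  obtain ⟨z, hz, hz1⟩ : ∃ z ∈ center E, z ≠ 1 := by
    haveI : Nontrivial (center E) := Finite.one_lt_card_iff_nontrivial.1 (by rw [h.2]; exact hpp.one_lt)
    obtain ⟨w, hw⟩ := exists_ne (1 : center E)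
    exact ⟨w, w.2, fun e => hw (Subtype.ext e)⟩
  obtain ⟨n, hn⟩ := es_card_eq h ⊤ le_top es_top_nondeg
  obtain ⟨f, -, hmul, hinj⟩ := model_exists h he hz hz1 n ⊤ le_top es_top_nondeg hn
  rw [Subgroup.card_top] at hn
  let ψ : (Fin n → ZMod p) × (Fin n → ZMod p) × ZMod p → E := fun v => z ^ v.2.2.val * f (v.1, v.2.1)
  have hadd : ∀ (x y : ZMod p), z ^ (x + y).val = z ^ x.val * z ^ y.val := fun x y => by
    rw [← pow_add, ZMod.val_add, ← pow_eq_pow_mod _ (he z)]
  have hψ : ∀ v w, ψ (v.1 + w.1, v.2.1 + w.2.1, v.2.2 + w.2.2 + v.1 ⬝ᵥ w.2.1) = ψ v * ψ w := by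
    intro v w
    simp only [ψ]
    calc z ^ (v.2.2 + w.2.2 + v.1 ⬝ᵥ w.2.1).val * f (v.1 + w.1, v.2.1 + w.2.1)
        = z ^ v.2.2.val * z ^ w.2.2.val * (f (v.1, v.2.1) * f (w.1, w.2.1)) := by
          rw [hmul, hadd, hadd]; simp only [mul_assoc]; rfl
      _ = z ^ v.2.2.val * f (v.1, v.2.1) * (z ^ w.2.2.val * f (w.1, w.2.1)) := by
          have hc := mem_center_iff.1 (pow_mem hz w.2.2.val) (f (v.1, v.2.1))
          simp only [← mul_assoc]
          rw [mul_assoc (z ^ v.2.2.val), ← hc, ← mul_assoc]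
  let φ : S3799.heisGroup p n →* E := MonoidHom.mk' (fun x => ψ x.2.choose) fun x y => by
    have e : (x * y).2.choose = (x.2.choose.1 + y.2.choose.1, x.2.choose.2.1 + y.2.choose.2.1,
        x.2.choose.2.2 + y.2.choose.2.2 + x.2.choose.1 ⬝ᵥ y.2.choose.2.1) := by
      apply S3799.heisUnit_injective
      rw [(x * y).2.choose_spec, Subgroup.coe_mul, ← S3799.heisUnit_mul, x.2.choose_spec, y.2.choose_spec]
    show ψ (x * y).2.choose = _
    rw [e, hψ]
  have hφ : Function.Injective φ := by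
    refine (injective_iff_map_eq_one φ).2 fun x hx => ?_
    set v := x.2.choose
    have hx' : z ^ v.2.2.val * f (v.1, v.2.1) = 1 := hx
    have h12 : ((v.1, v.2.1) : (Fin n → ZMod p) × (Fin n → ZMod p)) = 0 := hinj _ (by
      rw [← inv_eq_of_mul_eq_one_right hx']
      exact inv_mem (pow_mem hz _))
    have hf0 : f 0 = 1 := by
      have := hmul 0 0
      simp only [Prod.fst_zero, Prod.snd_zero, zero_dotProduct, ZMod.val_zero, pow_zero, one_mul,
        add_zero] at this
      exact mul_eq_left.1 this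
    rw [h12, hf0, mul_one] at hx'
    have h3 : v.2.2 = 0 := by
      have hd := orderOf_dvd_of_pow_eq_one hx'
      rw [orderOf_eq_prime (he z) hz1] at hd
      rw [← ZMod.val_eq_zero]
      exact Nat.eq_zero_of_dvd_of_lt hd (ZMod.val_lt _)
    have hv : v = 0 := Prod.ext (Prod.ext_iff.1 h12).1 (Prod.ext (Prod.ext_iff.1 h12).2 h3)
    refine Subtype.ext ?_
    rw [← x.2.choose_spec, show x.2.choose = v from rfl, hv, S3799.heisUnit_zero]
    rfl
  haveI : Finite (S3799.heisGroup p n) := Nat.finite_of_card_ne_zero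
    (by rw [S3799.card_heisGroup]; exact pow_ne_zero _ hpp.ne_zero)
  exact ⟨n, ⟨(MulEquiv.ofBijective φ ((Nat.bijective_iff_injective_and_card φ).2
    ⟨hφ, by rw [S3799.card_heisGroup, hn]; ring⟩)).symm⟩⟩

/-- For odd p, extraspecial p-groups of exponent p are determined up to isomorphism by their order. -/
theorem result {E₁ : Type*} {E₂ : Type*} [Group E₁] [Group E₂] [Finite E₁] [Finite E₂] {p : ℕ} [Fact p.Prime] (hp : p ≠ 2) (h₁ : Cfsg.IsExtraspecial p E₁) (h₂ : Cfsg.IsExtraspecial p E₂) (he₁ : Monoid.exponent E₁ = p) (he₂ : Monoid.exponent E₂ = p) (hc : Nat.card E₁ = Nat.card E₂) : Nonempty (E₁ ≃* E₂) := by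
  have e1 : ∀ x : E₁, x ^ p = 1 := fun x => he₁ ▸ Monoid.pow_exponent_eq_one x
  have e2 : ∀ x : E₂, x ^ p = 1 := fun x => he₂ ▸ Monoid.pow_exponent_eq_one x
  obtain ⟨n₁, ⟨f₁⟩⟩ := exists_equiv_heis h₁ e1
  obtain ⟨n₂, ⟨f₂⟩⟩ := exists_equiv_heis h₂ e2
  have hc' : Nat.card (S3799.heisGroup p n₁) = Nat.card (S3799.heisGroup p n₂) := by
    rw [← Nat.card_congr f₁.toEquiv, hc, Nat.card_congr f₂.toEquiv]
  rw [S3799.card_heisGroup, S3799.card_heisGroup] at hc'
  have := Nat.pow_right_injective (Fact.out : p.Prime).two_le hc'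
  obtain rfl : n₁ = n₂ := by omega
  exact ⟨f₁.trans f₂.symm⟩

end Cfsg.Agent.S0098
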