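import Cfsg.Statements.S0099
import Cfsg.Agent.Fg24.ExtraTwo

set_option autoImplicit false
open Cfsg

namespace Cfsg.Agent.S0099

/-- Among three extraspecial 2-groups of equal order, some two are isomorphic. -/
theorem result {E₁ : Type*} {E₂ : Type*} {E₃ : Type*} [Group E₁] [Group E₂] [Group E₃] [Finite E₁] [Finite E₂] [Finite E₃] (h₁ : Cfsg.IsExtraspecial 2 E₁) (h₂ : Cfsg.IsExtraspecial 2 E₂) (h₃ : Cfsg.IsExtraspecial 2 E₃) (h12 : Nat.card E₁ = Nat.card E₂) (h23 : Nat.card E₂ = Nat.card E₃) : Nonempty (E₁ ≃* E₂) ∨ Nonempty (E₂ ≃* E₃) ∨ Nonempty (E₁ ≃* E₃) := by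
  obtain ⟨m₁, c₁, ⟨e₁⟩⟩ := Fg24.ExtraTwo.exists_equiv_heis h₁
  obtain ⟨m₂, c₂, ⟨e₂⟩⟩ := Fg24.ExtraTwo.exists_equiv_heis h₂
  obtain ⟨m₃, c₃, ⟨e₃⟩⟩ := Fg24.ExtraTwo.exists_equiv_heis h₃
  have hm : ∀ {a b : ℕ} {c d : ZMod 2}, Nat.card (LargeExtra.Heis a c) = Nat.card (LargeExtra.Heis b d) → a = b := by
    intro a b c d h
    rw [LargeExtra.Heis.card, LargeExtra.Heis.card] at h
    have := Nat.pow_right_injective le_rfl h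
    omega
  obtain rfl : m₁ = m₂ := hm (by rw [← Nat.card_congr e₁.toEquiv, h12, Nat.card_congr e₂.toEquiv])
  obtain rfl : m₁ = m₃ := hm (by rw [← Nat.card_congr e₂.toEquiv, h23, Nat.card_congr e₃.toEquiv])
  have hc : c₁ = c₂ ∨ c₂ = c₃ ∨ c₁ = c₃ := (by decide : ∀ a b c : ZMod 2, a = b ∨ b = c ∨ a = c) c₁ c₂ c₃
  rcases hc with rfl | rfl | rfl
  · exact Or.inl ⟨e₁.trans e₂.symm⟩
  · exact Or.inr (Or.inl ⟨e₂.trans e₃.symm⟩)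
  · exact Or.inr (Or.inr ⟨e₁.trans e₃.symm⟩)

end Cfsg.Agent.S0099
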