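import Cfsg.Statements.S0101
import Cfsg.Agent.Invol.TransferLemmas
import Mathlib.GroupTheory.Nilpotent

set_option autoImplicit false
open Cfsg

namespace Cfsg.Agent.S0101

/-- In a perfect central extension, the kernel meets each Sylow p-subgroup P inside the Frattini subgroup of P. -/
theorem result {H : Type*} {G : Type*} [Group H] [Group G] [Finite H] (σ : H →* G) (hσ : Function.Surjective σ) (hc : σ.ker ≤ Subgroup.center H) (hH : commutator H = ⊤) {p : ℕ} [Fact p.Prime] (P : Sylow p H) : σ.ker ⊓ (P : Subgroup H) ≤ (frattini P).map (P : Subgroup H).subtype := by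
  intro z hz
  obtain ⟨hzk, hzP⟩ := hz
  refine ⟨⟨z, hzP⟩, ?_, rfl⟩
  simp only [frattini, Order.radical, SetLike.mem_coe, Subgroup.mem_iInf]
  intro M hM
  have hnil : Group.IsNilpotent (P : Subgroup H) := P.2.isNilpotent
  have hMn : M.Normal := Subgroup.NormalizerCondition.normal_of_coatom M Group.normalizerCondition_of_isNilpotent hM
  have hab : Std.Commutative (α := ((P : Subgroup H) ⧸ M)) (· * ·) := by
    have hsimple : IsSimpleGroup ((P : Subgroup H) ⧸ M) := by
      have : Nontrivial ((P : Subgroup H) ⧸ M) := QuotientGroup.nontrivial_iff.2 hM.1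
      refine ⟨fun K _ => ?_⟩
      rcases hM.le_iff.1 (QuotientGroup.le_comap_mk' M K) with hc | hc
      · exact Or.inr (by rw [← Subgroup.map_comap_eq_self_of_surjective (QuotientGroup.mk'_surjective M) K, hc, Subgroup.map_top_of_surjective _ (QuotientGroup.mk'_surjective M)])
      · exact Or.inl (by rw [← Subgroup.map_comap_eq_self_of_surjective (QuotientGroup.mk'_surjective M) K, hc, QuotientGroup.map_mk'_self])
    have : Group.IsNilpotent ((P : Subgroup H) ⧸ M) := inferInstance
    have hle := Group.nilpotencyClass_le_one_of_isSimple_of_isNilpotent (G := (P : Subgroup H) ⧸ M)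
    exact ⟨fun a b => (Group.IsNilpotent.nilpotencyClass_le_one_iff.1 hle).is_comm.comm a b⟩
  let : CommGroup ((P : Subgroup H) ⧸ M) :=
    { (inferInstance : Group ((P : Subgroup H) ⧸ M)) with mul_comm := hab.comm }
  have h := Invol.map_pow_index_eq_one_of_mem_commutator (QuotientGroup.mk' M) ⟨z, hzP⟩
    (hc hzk) (hH ▸ Subgroup.mem_top z)
  have hq : IsPGroup p ((P : Subgroup H) ⧸ M) := P.2.to_quotient M
  have h1 := (hq.powEquiv' P.not_dvd_index).injective (a₁ := QuotientGroup.mk' M ⟨z, hzP⟩) (a₂ := 1)
    (by simpa using h)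
  exact (QuotientGroup.eq_one_iff _).1 h1

end Cfsg.Agent.S0101
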