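import Cfsg.Statements.S0102
import Cfsg.Agent.Invol.TransferLemmas

set_option autoImplicit false
open Cfsg

namespace Cfsg.Agent.S0102

/-- A finite perfect group with cyclic Sylow p-subgroups has no perfect central extension whose kernel has order divisible by p. -/
theorem result {G : Type*} {H : Type*} [Group G] [Group H] [Finite G] [Finite H] (hG : commutator G = ⊤) {p : ℕ} [Fact p.Prime] (hcyc : ∀ P : Sylow p G, IsCyclic P) (σ : H →* G) (hσ : Function.Surjective σ) (hz : σ.ker ≤ Subgroup.center H) (hH : commutator H = ⊤) : ¬ p ∣ Nat.card σ.ker := by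
  intro hdvd
  obtain ⟨w, hw⟩ := exists_prime_orderOf_dvd_card' p hdvd
  have hwP : IsPGroup p (Subgroup.zpowers (w : H)) :=
    IsPGroup.of_card (n := 1) (by rw [Nat.card_zpowers, Subgroup.orderOf_coe, hw, pow_one])
  obtain ⟨P, hP⟩ := hwP.exists_le_sylow
  have hc : IsCyclic ((P.mapSurjective hσ : Sylow p G) : Subgroup G) := hcyc _
  let f : (P : Subgroup H) →* G ⧸ (⊥ : Subgroup G) := (QuotientGroup.mk' ⊥).comp (σ.comp (P : Subgroup H).subtype)
  have hcomm : IsMulCommutative (P : Subgroup H) := by
    let g : (P : Subgroup H) →* ((P.mapSurjective hσ : Sylow p G) : Subgroup G) :=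
      (σ.comp (P : Subgroup H).subtype).codRestrict _ fun x => Subgroup.mem_map_of_mem σ x.2
    have hker : g.ker ≤ Subgroup.center (P : Subgroup H) := by
      intro x hx
      rw [Subgroup.mem_center_iff]
      intro y
      have : (x : H) ∈ σ.ker := congrArg Subtype.val (MonoidHom.mem_ker.1 hx)
      exact Subtype.ext (Subgroup.mem_center_iff.1 (hz this) y)
    exact MonoidHom.isMulCommutative_of_isCyclic_of_ker_le_center g hker
  have := Invol.eq_one_of_mem_abelian_hall (P : Subgroup H) (Invol.sylow_hall P)
    (hP (Subgroup.mem_zpowers (w : H))) (hH ▸ Subgroup.mem_top _) (hz w.2)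
  have hw1 : w = 1 := Subtype.ext this
  rw [hw1, orderOf_one] at hw
  exact (Fact.out : p.Prime).ne_one hw.symm

end Cfsg.Agent.S0102
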