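import Cfsg.Statements.S0104
import Cfsg.Agent.Fusion.Alperin

set_option autoImplicit false
open Cfsg

namespace Cfsg.Agent.S0104

/-- A subgroup Z of a Sylow p-subgroup P that is normalized by N_G(P) is weakly closed in P exactly when it is normal in every Sylow p-subgroup containing it. -/
theorem result {G : Type*} [Group G] [Finite G] {p : ℕ} [Fact p.Prime] (P : Sylow p G) (Z : Subgroup G) (hZP : Z ≤ (P : Subgroup G)) (hZN : Subgroup.normalizer (P : Set G) ≤ Subgroup.normalizer (Z : Set G)) : Cfsg.IsWeaklyClosed Z P ↔ ∀ R : Sylow p G, Z ≤ (R : Subgroup G) → (R : Subgroup G) ≤ Subgroup.normalizer (Z : Set G) := by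
  constructor
  · intro hW R hZR
    obtain ⟨k, hk⟩ := MulAction.exists_smul_eq G P R
    have hconj : Fusion.conjSub k Z ≤ (P : Subgroup G) := fun x hx => by
      have h1 := hZR (Fusion.mem_conjSub.mp hx)
      rw [← hk] at h1
      obtain ⟨y, hy, hyx⟩ := h1
      simp at hyx
      rwa [← hyx]
    have hkN : k ∈ Subgroup.normalizer (Z : Set G) :=
      Fusion.mem_normalizer_of_conjSub_eq (hW.2 k⁻¹ hconj)
    intro x hx
    rw [← hk] at hx
    obtain ⟨y, hy, rfl⟩ := hx
    have := mul_mem (mul_mem hkN (hZN (Subgroup.le_normalizer hy))) (inv_mem hkN)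
    simpa using this
  · intro h
    refine ⟨hZP, fun g hg => ?_⟩
    set R : Sylow p G := g⁻¹ • P with hR
    have hZR : Z ≤ (R : Subgroup G) := fun z hz =>
      ⟨g * z * g⁻¹, hg ⟨z, hz, by simp⟩, by simp [mul_assoc]⟩
    obtain ⟨m, hm, hle⟩ := Fusion.exists_conjSub_le_of_not_dvd_relIndex (h P hZP) P.2
      (fun hd => P.not_dvd_index (hd.trans (Subgroup.relIndex_dvd_index_of_le (h P hZP))))
      (h R hZR) R.2
    have heq : Fusion.conjSub (g * m) (P : Subgroup G) = (P : Subgroup G) := by
      refine Subgroup.eq_of_le_of_card_ge ?_ (Fusion.card_conjSub _ _).ge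
      rw [← Fusion.conjSub_conjSub]
      refine le_trans (Fusion.conjSub_mono ?_) hle
      intro x hx
      exact ⟨g * x * g⁻¹, Fusion.mem_conjSub.mp hx, by simp [mul_assoc]⟩
    have hgm := hZN (Fusion.mem_normalizer_of_conjSub_eq heq)
    have hgN : g ∈ Subgroup.normalizer (Z : Set G) := by
      have := mul_mem hgm (inv_mem hm)
      rwa [mul_inv_cancel_right] at this
    have := Fusion.conjSub_eq_of_mem_normalizer (inv_mem hgN)
    rwa [Fusion.conjSub, inv_inv] at this

end Cfsg.Agent.S0104
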