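import Cfsg.Statements.S0105
import Cfsg.Agent.Fusion.AbelianNormal

set_option autoImplicit false
open Cfsg

namespace Cfsg.Agent.S0105

/-- With an abelian Sylow p-subgroup P, some quotient of G is isomorphic to the part of P central in N_G(P). -/
theorem result {G : Type*} [Group G] [Finite G] {p : ℕ} [Fact p.Prime] (P : Sylow p G) (hP : IsMulCommutative P) : ∃ (N : Subgroup G) (hN : N.Normal), Nonempty (G ⧸ N ≃* ((P : Subgroup G) ⊓ Subgroup.centralizer (Subgroup.normalizer (P : Set G) : Set G) : Subgroup G)) := by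
  set N := Subgroup.normalizer (P : Set G) with hNdef
  set A : Subgroup N := (P : Subgroup G).subgroupOf N with hAdef
  have hPN : (P : Subgroup G) ≤ N := Subgroup.le_normalizer
  have : A.Normal := Subgroup.normal_in_normalizer
  have : IsMulCommutative A :=
    ⟨⟨fun a b => Subtype.ext (Subtype.ext (congrArg (fun u : (P : Subgroup G) => (u : G))
      (hP.is_comm.comm ⟨_, a.2⟩ ⟨_, b.2⟩)))⟩⟩
  obtain ⟨ψ, hψc, hψinv, hψpow, -⟩ := Fusion.exists_norm_hom A
  set D : Subgroup G := (P : Subgroup G) ⊓ Subgroup.centralizer (N : Set G) with hD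
  have hmem : ∀ a : A, ((ψ a : N) : G) ∈ D := fun a => ⟨(ψ a).2,
    Subgroup.mem_centralizer_iff.mpr fun y hy =>
      congrArg (fun u : N => (u : G)) (Subgroup.mem_center_iff.mp (hψc a) ⟨y, hy⟩)⟩
  let φ : (P : Subgroup G) →* D :=
    MonoidHom.mk' (fun x => ⟨_, hmem ⟨⟨x, hPN x.2⟩, x.2⟩⟩) fun x y =>
      Subtype.ext (congrArg (fun a : A => ((a : N) : G))
        (map_mul ψ ⟨⟨x, hPN x.2⟩, x.2⟩ ⟨⟨y, hPN y.2⟩, y.2⟩))
  have hker : (P : Subgroup G).focalSubgroupOf ≤ φ.ker := by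
    rw [Subgroup.focalSubgroupOf_eq_closure, Subgroup.closure_le]
    rintro w ⟨x, hx, u, hw⟩
    have hy : u * x⁻¹ * u⁻¹ ∈ P := by
      rw [show u * x⁻¹ * u⁻¹ = x⁻¹ * (w : G) by rw [hw, commutatorElement_def]; group]
      exact mul_mem (inv_mem hx) w.2
    obtain ⟨t, ht, hteq⟩ :=
      Fusion.exists_mem_normalizer_conj_of_isMulCommutative P hP (inv_mem hx) u hy
    let a : A := ⟨⟨x⁻¹, hPN (inv_mem hx)⟩, inv_mem hx⟩
    have hta : (⟨t, ht⟩ : N) * a * (⟨t, ht⟩ : N)⁻¹ ∈ A :=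
      (inferInstance : A.Normal).conj_mem _ a.2 _
    have hwa : (⟨⟨(w : G), hPN w.2⟩, w.2⟩ : A) = a⁻¹ * ⟨_, hta⟩ := by
      apply Subtype.ext
      apply Subtype.ext
      show (w : G) = x⁻¹⁻¹ * (t * x⁻¹ * t⁻¹)
      rw [hw, hteq, commutatorElement_def]; group
    refine MonoidHom.mem_ker.mpr (Subtype.ext ?_)
    show ((ψ ⟨⟨(w : G), hPN w.2⟩, w.2⟩ : N) : G) = 1
    rw [hwa, map_mul, hψinv ⟨t, ht⟩ a hta, map_inv, inv_mul_cancel]
    rfl
  let Φ : G →* D := (QuotientGroup.lift _ φ hker).comp (P : Subgroup G).transferFocal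
  have hsurj : Function.Surjective Φ := by
    rw [MonoidHom.coe_comp]
    refine Function.Surjective.comp ?_ (Subgroup.transferFocal_surjective P)
    intro d
    have hcopA : Nat.Coprime A.index (orderOf (d : G)) := by
      obtain ⟨k, hk⟩ := IsPGroup.iff_orderOf.mp P.2 ⟨d, d.2.1⟩
      rw [Subgroup.orderOf_mk] at hk
      rw [hk]
      refine Nat.Coprime.pow_right _ ((Nat.Prime.coprime_iff_not_dvd Fact.out).mpr ?_).symm
      exact fun hd => P.not_dvd_index (hd.trans (Subgroup.relIndex_dvd_index_of_le hPN))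
    obtain ⟨m, hm⟩ := exists_pow_eq_self_of_coprime hcopA
    refine ⟨(((⟨d, d.2.1⟩ : (P : Subgroup G)) ^ m : (P : Subgroup G)) : _ ⧸ _), ?_⟩
    rw [QuotientGroup.lift_mk, map_pow]
    apply Subtype.ext
    rw [SubmonoidClass.coe_pow]
    show ((ψ ⟨⟨(d : G), _⟩, _⟩ : N) : G) ^ m = d
    rw [hψpow _ ?_]
    · rw [SubmonoidClass.coe_pow]
      exact hm
    · rw [Subgroup.mem_center_iff]
      exact fun y => Subtype.ext (Subgroup.mem_centralizer_iff.mp d.2.2 y y.2)
  exact ⟨Φ.ker, inferInstance, ⟨QuotientGroup.quotientKerEquivOfSurjective Φ hsurj⟩⟩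

end Cfsg.Agent.S0105
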