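import Cfsg.Statements.S3803
import Cfsg.Agent.Coprime.Basic
import Cfsg.Agent.S4126
import Cfsg.Agent.HSub.Supersolvable

set_option autoImplicit false
open Cfsg

namespace Cfsg.Agent.S3803

open Subgroup in
open scoped commutatorElement in
/-- An odd group normalising every maximal subgroup of a 2-group centralises it. -/
theorem centralizes_of_max {X : Type*} [Group X] [Finite X] {P A : Subgroup X} (hP : IsPGroup 2 P)
    (hA : Odd (Nat.card A)) (hAP : A ≤ normalizer (P : Set X))
    (hmax : ∀ M : Subgroup X, M ≤ P → 2 * Nat.card M = Nat.card P → A ≤ normalizer (M : Set X)) :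
    A ≤ centralizer (P : Set X) := by
  obtain ⟨n, hn⟩ := IsPGroup.iff_card.mp hP
  refine Cfsg.Agent.Coprime.le_centralizer_of_trivial_mod_frattini hAP ?_ fun a ha k hk => ?_
  · obtain ⟨m, hm⟩ := IsPGroup.iff_card.mp (hP.to_subgroup (frattini P))
    rw [hm]
    exact (Nat.coprime_two_right.mpr hA).pow_right m
  · have hy : a * k * a⁻¹ * k⁻¹ ∈ P :=
      P.mul_mem ((mem_normalizer_iff.mp (hAP ha) k).mp hk) (P.inv_mem hk)
    refine ⟨⟨_, hy⟩, ?_, rfl⟩
    rw [SetLike.mem_coe, frattini, Order.radical]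
    simp only [Subgroup.mem_iInf]
    intro M hM
    obtain ⟨m, hm⟩ := IsPGroup.iff_card.mp (hP.to_subgroup M)
    have hMlt : Nat.card M < Nat.card P := by
      refine lt_of_le_of_ne (Subgroup.card_le_card_group M) fun e => hM.1 ?_
      exact Subgroup.eq_top_of_card_eq M e
    have hdvd : 2 ^ (m + 1) ∣ Nat.card P := by
      rw [hn]
      refine pow_dvd_pow 2 ?_
      rw [hm, hn] at hMlt
      exact (Nat.pow_lt_pow_iff_right one_lt_two).mp hMlt
    obtain ⟨K, hK, hMK⟩ := Sylow.exists_subgroup_card_pow_succ hdvd hm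
    have hKtop : K = ⊤ := by
      refine hM.2 K (lt_of_le_of_ne hMK fun e => ?_)
      rw [← e, hm, pow_succ] at hK
      have := Nat.two_pow_pos m
      omega
    have hcard : 2 * Nat.card M = Nat.card P := by
      rw [hKtop, Subgroup.card_top] at hK
      rw [hK, hm, pow_succ, mul_comm]
    have hidx : M.index = 2 := by
      have := M.card_mul_index
      rw [← hcard, mul_comm 2] at this
      exact Nat.eq_of_mul_eq_mul_left Nat.card_pos this
    set M' : Subgroup X := M.map P.subtype with hM'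
    have hN : A ≤ normalizer (M' : Set X) := by
      refine hmax M' (map_subtype_le M) ?_
      rw [hM', Nat.card_congr (M.equivMapOfInjective P.subtype P.subtype_injective).symm.toEquiv, hcard]
    have hmem : ∀ z : P, (z : X) ∈ M' ↔ z ∈ M := fun z =>
      Subgroup.mem_map_iff_mem P.subtype_injective
    have hz : a * k * a⁻¹ ∈ P := (mem_normalizer_iff.mp (hAP ha) k).mp hk
    have hiff : (⟨_, hz⟩ : P) ∈ M ↔ (⟨k, hk⟩ : P) ∈ M := by
      rw [← hmem, ← hmem]
      exact (mem_normalizer_iff.mp (hN ha) k).symm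
    have : (⟨_, hy⟩ : P) = ⟨_, hz⟩ * ⟨k, hk⟩⁻¹ := Subtype.ext rfl
    rw [this, Subgroup.mul_mem_iff_of_index_two hidx, inv_mem_iff]
    exact hiff

open Subgroup in
/-- An odd group normalising a cyclic 2-group centralises it. -/
theorem centralizes_of_cyclic {X : Type*} [Group X] [Finite X] {Q A : Subgroup X} (hQ : IsPGroup 2 Q)
    (hA : Odd (Nat.card A)) (hAQ : A ≤ normalizer (Q : Set X)) [IsCyclic Q] :
    A ≤ centralizer (Q : Set X) := by
  refine centralizes_of_max hQ hA hAQ fun M hMQ _ a ha => ?_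
  rw [mem_normalizer_iff]
  have key : ∀ b ∈ normalizer (Q : Set X), ∀ x ∈ M, b * x * b⁻¹ ∈ M := by
    intro b hb x hx
    have hM' : M.map (MulAut.conj b).toMonoidHom ≤ Q := by
      rintro _ ⟨y, hy, rfl⟩
      exact (mem_normalizer_iff.mp hb y).mp (hMQ hy)
    have he : M.map (MulAut.conj b).toMonoidHom = M :=
      Cfsg.Agent.HSub.subgroup_eq_of_card_eq inferInstance hM' hMQ
        (Nat.card_congr (M.equivMapOfInjective _ (MulAut.conj b).injective).toEquiv.symm)
    exact he ▸ (⟨x, hx, rfl⟩ : b * x * b⁻¹ ∈ M.map (MulAut.conj b).toMonoidHom)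
  intro x
  refine ⟨key a (hAQ ha) x, fun hx => ?_⟩
  have := key a⁻¹ (inv_mem (hAQ ha)) _ hx
  simpa [mul_assoc] using this

open Subgroup in
theorem centralizes_aux {X : Type*} [Group X] [Finite X] {A : Subgroup X} (hA : Odd (Nat.card A))
    {d : ℕ} (hd : 1 < d) (P : Subgroup X) (hP : IsPGroup 2 P) (hAP : A ≤ normalizer (P : Set X))
    {k : ℕ} (hk : d = 2 ^ k) (hdP : d < Nat.card P)
    (hinv : ∀ E : Subgroup X, E ≤ P → (Nat.card E = d ∨ (d = 2 ∧ Nat.card E = 4)) →
      A ≤ normalizer (E : Set X)) : A ≤ centralizer (P : Set X) := by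
  induction P using WellFoundedLT.induction with
  | _ P ih =>
  obtain ⟨n, hn⟩ := IsPGroup.iff_card.mp hP
  have hkn : k + 1 ≤ n := by
    rw [hn, hk] at hdP
    exact (Nat.pow_lt_pow_iff_right one_lt_two).mp hdP
  rcases hkn.eq_or_lt with hn' | hn'
  · refine centralizes_of_max hP hA hAP fun M hM hc => hinv M hM (Or.inl ?_)
    rw [hn, ← hn', pow_succ, hk.symm] at hc
    omega
  -- every proper invariant subgroup is centralised
  have prop : ∀ Q : Subgroup X, Q ≤ P → Q ≠ P → A ≤ normalizer (Q : Set X) →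
      A ≤ centralizer (Q : Set X) := by
    intro Q hQP hne hAQ
    have hQlt : Q < P := lt_of_le_of_ne hQP hne
    rcases lt_or_ge d (Nat.card Q) with hdQ | hQd
    · exact ih Q hQlt (hP.to_le hQP) hAQ hdQ fun E hE => hinv E (hE.trans hQP)
    obtain ⟨j, hj⟩ := IsPGroup.iff_card.mp (hP.to_le hQP)
    obtain ⟨R₀, hR, hQR⟩ := Sylow.exists_subgroup_card_pow_prime_le (G := P) 2 (m := k + 1)
      (hn ▸ pow_dvd_pow 2 hkn) (Q.subgroupOf P)
      ((Nat.card_congr (subgroupOfEquivOfLe hQP).toEquiv).trans hj) (by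
        rw [hj, hk] at hQd
        have := (Nat.pow_le_pow_iff_right one_lt_two).mp hQd
        omega)
    set R : Subgroup X := R₀.map P.subtype with hRdef
    have hRP : R ≤ P := map_subtype_le R₀
    have hcR : Nat.card R = 2 ^ (k + 1) := by
      rw [hRdef, Nat.card_congr (R₀.equivMapOfInjective P.subtype P.subtype_injective).symm.toEquiv, hR]
    have hQR' : Q ≤ R := fun x hx => ⟨⟨x, hQP hx⟩, hQR (mem_subgroupOf.mpr hx), rfl⟩
    by_cases hcyc : IsCyclic R
    · have : IsCyclic Q := isCyclic_of_injective (inclusion hQR') (inclusion_injective hQR')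
      exact centralizes_of_cyclic (hP.to_le hQP) hA hAQ
    have hsub : ∀ x ∈ R, ∃ M : Subgroup X, M ≤ R ∧ Nat.card M = d ∧ x ∈ M := by
      intro x hx
      have hxR : zpowers x ≤ R := zpowers_le.mpr hx
      obtain ⟨i, hi⟩ := IsPGroup.iff_card.mp ((hP.to_le hRP).to_le hxR)
      have hik : i ≤ k := by
        have hne' : Nat.card (zpowers x) ≠ Nat.card R := by
          intro e
          have he : zpowers x = R := eq_of_le_of_card_ge hxR e.ge
          exact hcyc (he ▸ (inferInstance : IsCyclic (zpowers x)))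
        have := Nat.le_of_dvd Nat.card_pos (card_dvd_of_le hxR)
        rw [hi, hcR] at this hne'
        have := (Nat.pow_le_pow_iff_right one_lt_two).mp this
        rcases this.eq_or_lt with h | h
        · exact absurd (by rw [h]) hne'
        · omega
      obtain ⟨M, hM, hxM⟩ := Sylow.exists_subgroup_card_pow_prime_le (G := R) 2 (m := k)
        (hcR ▸ pow_dvd_pow 2 (Nat.le_succ k)) ((zpowers x).subgroupOf R)
        ((Nat.card_congr (subgroupOfEquivOfLe hxR).toEquiv).trans hi) hik
      refine ⟨M.map R.subtype, map_subtype_le M, ?_,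
        ⟨⟨x, hx⟩, hxM (mem_subgroupOf.mpr (mem_zpowers x)), rfl⟩⟩
      rw [Nat.card_congr (M.equivMapOfInjective R.subtype R.subtype_injective).symm.toEquiv, hM, hk]
    have hAR : A ≤ normalizer (R : Set X) := by
      have key : ∀ b ∈ A, ∀ x ∈ R, b * x * b⁻¹ ∈ R := by
        intro b hb x hx
        obtain ⟨M, hMR, hMc, hxM⟩ := hsub x hx
        exact hMR ((mem_normalizer_iff.mp (hinv M (hMR.trans hRP) (Or.inl hMc) hb) x).mp hxM)
      intro a ha
      rw [mem_normalizer_iff]
      refine fun x => ⟨key a ha x, fun hx => ?_⟩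
      have := key a⁻¹ (inv_mem ha) _ hx
      simpa [mul_assoc] using this
    have hRlt : R < P := lt_of_le_of_ne hRP fun e => by
      rw [e, hn] at hcR
      have := Nat.pow_right_injective le_rfl hcR
      omega
    have := ih R hRlt (hP.to_le hRP) hAR (by
        rw [hcR, hk]
        exact Nat.pow_lt_pow_right one_lt_two (Nat.lt_succ_self k))
      fun E hE => hinv E (hE.trans hRP)
    exact this.trans (centralizer_le (fun x hx => hQR' hx))
  refine Cfsg.Agent.S4126.le_centralizer_of_fixes_four hP hAP (Nat.coprime_two_right.mpr hA) ?_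
  intro v hv h4
  have hv4 : v ^ 4 = 1 := by
    rcases h4 with h | h
    · rw [show (4 : ℕ) = 2 * 2 from rfl, pow_mul, h, one_pow]
    · exact h.2
  have hdvd : orderOf v ∣ 4 := orderOf_dvd_of_pow_eq_one hv4
  obtain ⟨i, hi2, hi⟩ := (Nat.dvd_prime_pow Nat.prime_two (i := orderOf v) (m := 2)).mp hdvd
  have hk1 : 1 ≤ k := by
    rcases Nat.eq_zero_or_pos k with h | h
    · rw [h] at hk; omega
    · exact h
  -- a proper invariant subgroup containing v
  obtain ⟨E, hEP, hEc, hvE⟩ : ∃ E : Subgroup X, E ≤ P ∧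
      (Nat.card E = d ∨ (d = 2 ∧ Nat.card E = 4)) ∧ v ∈ E := by
    by_cases hik : i ≤ k
    · obtain ⟨M, hM, hvM⟩ := Sylow.exists_subgroup_card_pow_prime_le (G := P) 2 (m := k)
        (hn ▸ pow_dvd_pow 2 (by omega)) ((zpowers v).subgroupOf P)
        ((Nat.card_congr (subgroupOfEquivOfLe (zpowers_le.mpr hv)).toEquiv).trans
          ((Nat.card_zpowers v).trans hi)) hik
      refine ⟨M.map P.subtype, map_subtype_le M, Or.inl ?_,
        ⟨⟨v, hv⟩, hvM (mem_subgroupOf.mpr (mem_zpowers v)), rfl⟩⟩
      rw [Nat.card_congr (M.equivMapOfInjective P.subtype P.subtype_injective).symm.toEquiv, hM, hk]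
    · refine ⟨zpowers v, zpowers_le.mpr hv, Or.inr ⟨?_, ?_⟩, mem_zpowers v⟩
      · rw [hk, show k = 1 by omega]; rfl
      · rw [Nat.card_zpowers, hi, show i = 2 by omega]; rfl
  have hne : E ≠ P := by
    intro e
    rw [e, hn] at hEc
    rcases hEc with h | ⟨h1, h2⟩
    · rw [hk] at h
      have := Nat.pow_right_injective le_rfl h
      omega
    · rw [hk] at h1
      have hk' : k = 1 := Nat.pow_right_injective le_rfl (h1.trans (pow_one 2).symm)
      have : n = 2 := Nat.pow_right_injective le_rfl (h2.trans (by norm_num : (4 : ℕ) = 2 ^ 2))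
      omega
  intro a ha
  exact (mem_centralizer_iff.mp (prop E hEP hne (hinv E hEP hEc) ha) v hvE).symm

/-- Let P be a 2-subgroup and A a subgroup of odd order of a finite group, with A normalizing P. Let D ≤ P with 1 < |D| < |P|. If every subgroup of P of order |D|, and also every subgroup of P of order 4 in case |D| = 2, is normalized by A, then A centralizes P. -/
theorem result {X : Type*} [Group X] [Finite X] (P A D : Subgroup X) (hP : IsPGroup 2 P) (hA : Odd (Nat.card A))
    (hAP : A ≤ Subgroup.normalizer (P : Set X)) (hDP : D ≤ P) (hD1 : 1 < Nat.card D) (hD2 : Nat.card D < Nat.card P)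
    (hinv : ∀ E : Subgroup X, E ≤ P → (Nat.card E = Nat.card D ∨ (Nat.card D = 2 ∧ Nat.card E = 4)) → A ≤ Subgroup.normalizer (E : Set X)) :
    A ≤ Subgroup.centralizer (P : Set X) := by
  obtain ⟨k, hk⟩ := IsPGroup.iff_card.mp (hP.to_le hDP)
  exact centralizes_aux hA hD1 P hP hAP hk hD2 hinv

end Cfsg.Agent.S3803
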