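import Cfsg.Statements.S0106
import Cfsg.Agent.S3803
import Cfsg.Agent.Fusion.Frobenius
import Cfsg.Agent.Fusion.CyclicNormal
import Cfsg.Agent.Invol.QuatD
import Cfsg.Agent.LocalStructure.SL23Iso

set_option autoImplicit false
open Cfsg

namespace Cfsg.Agent.S0106

open Subgroup in
/-- An element of odd order is fixed by conjugation if its square is. -/
theorem fix_of_sq {G : Type*} [Group G] [Finite G] {g v : G} (hg : (orderOf g).Coprime 2)
    (h : g * g * v * (g * g)⁻¹ = v) : g * v * g⁻¹ = v := by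
  have h1 : Commute (g * g) v := mul_inv_eq_iff_eq_mul.1 h
  obtain ⟨n, hn⟩ := Nat.coprime_two_right.1 hg
  have h2 : g = (g * g) ^ (n + 1) := by
    rw [← pow_two, ← pow_mul, show 2 * (n + 1) = orderOf g + 1 by omega, pow_succ, pow_orderOf_eq_one, one_mul]
  have h3 : Commute g v := h2 ▸ h1.pow_left (n + 1)
  rw [h3.eq, mul_inv_cancel_right]

open Subgroup in
/-- An odd element normalising a cyclic subgroup generated by a 2-element fixes it. -/
theorem fix_of_zpowers {G : Type*} [Group G] [Finite G] {g v : G} (hg : (orderOf g).Coprime 2)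
    (hv : IsPGroup 2 (zpowers v)) (h : g * v * g⁻¹ ∈ zpowers v) : g * v * g⁻¹ = v := by
  have hN : zpowers g ≤ normalizer (zpowers v : Set G) := by
    refine zpowers_le.2 (Cfsg.Agent.Coprime.mem_normalizer_of_conj_smul_eq ?_)
    rw [Cfsg.Agent.Coprime.conj_smul_eq_map]
    refine eq_of_le_of_card_ge ?_ ((Nat.card_congr
      ((zpowers v).equivMapOfInjective _ (MulAut.conj g).injective).toEquiv).le)
    rw [MonoidHom.map_zpowers, zpowers_le]
    exact h
  have := Cfsg.Agent.S3803.centralizes_of_cyclic hv (by rw [Nat.card_zpowers]; exact Nat.coprime_two_right.1 hg) hN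
  rw [(mem_centralizer_iff.1 (this (mem_zpowers g)) v (mem_zpowers v)).symm, mul_inv_cancel_right]

open Subgroup in
/-- Five relations in a 2-group with a fusing odd element give a section `SL(2,3)`. -/
theorem section_of_data {G : Type*} [Group G] [Finite G] {i j g : G} (hi : orderOf i = 4) (hj : j ∉ zpowers i)
    (hsq : j * j = i * i) (hji : j * i = i ^ 3 * j) (hgi : g * i * g⁻¹ = j) (hgj : g * j * g⁻¹ = i * j)
    (hg : (orderOf g).Coprime 2) :
    ∃ (H K : Subgroup G) (hK : (K.subgroupOf H).Normal),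
      Nonempty ((H ⧸ K.subgroupOf H) ≃* Matrix.SpecialLinearGroup (Fin 2) (ZMod 3)) := by
  have hz : g * (i * i) * g⁻¹ = i * i := by
    rw [show g * (i * i) * g⁻¹ = (g * i * g⁻¹) * (g * i * g⁻¹) by group, hgi, hsq]
  have hjij : g * (i * j) * g⁻¹ = i := by
    have : j * (i * j) = i := by
      rw [← mul_assoc, hji, mul_assoc, hsq, ← pow_two, ← pow_add, show 3 + 2 = 4 + 1 from rfl, pow_succ,
        ← hi, pow_orderOf_eq_one, one_mul]
    rw [show g * (i * j) * g⁻¹ = (g * i * g⁻¹) * (g * j * g⁻¹) by group, hgi, hgj, this]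
  have h3i : g ^ 3 * i * (g ^ 3)⁻¹ = i := by
    rw [show g ^ 3 * i * (g ^ 3)⁻¹ = g * (g * (g * i * g⁻¹) * g⁻¹) * g⁻¹ by simp [pow_succ, mul_assoc], hgi, hgj, hjij]
  have h3j : g ^ 3 * j * (g ^ 3)⁻¹ = j := by
    rw [← hgi, show g ^ 3 * (g * i * g⁻¹) * (g ^ 3)⁻¹ = g * (g ^ 3 * i * (g ^ 3)⁻¹) * g⁻¹ by group, h3i]
  set H := closure {i, j, g} with hH
  set K := zpowers (g ^ 3) with hK
  have hiH : i ∈ H := subset_closure (by simp)
  have hjH : j ∈ H := subset_closure (by simp)
  have hgH : g ∈ H := subset_closure (by simp)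
  have hcen : ∀ x ∈ H, Commute (g ^ 3) x := by
    intro x hx
    have : H ≤ centralizer ({g ^ 3} : Set G) := by
      rw [hH, closure_le]
      rintro y (rfl | rfl | rfl)
      · exact mem_centralizer_singleton_iff.2 ((mul_inv_eq_iff_eq_mul.1 h3i).symm)
      · exact mem_centralizer_singleton_iff.2 ((mul_inv_eq_iff_eq_mul.1 h3j).symm)
      · exact mem_centralizer_singleton_iff.2 ((Commute.refl y).pow_right 3).eq
    exact (mem_centralizer_singleton_iff.1 (this hx)).symm
  have hKn : (K.subgroupOf H).Normal := ⟨fun k hk h => by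
    rw [mem_subgroupOf] at hk ⊢
    obtain ⟨c, hc⟩ := mem_zpowers_iff.1 hk
    refine ⟨c, ?_⟩
    show (g ^ 3) ^ c = (h : G) * k * (h : G)⁻¹
    rw [← hc, ← ((hcen h h.2).zpow_left c).eq, mul_inv_cancel_right]⟩
  refine ⟨H, K, hKn, ?_⟩
  set f := QuotientGroup.mk' (K.subgroupOf H) with hf
  set i' : H := ⟨i, hiH⟩
  set j' : H := ⟨j, hjH⟩
  set g' : H := ⟨g, hgH⟩
  have hgK : f (g' ^ 3) = 1 := (QuotientGroup.eq_one_iff _).2 (mem_subgroupOf.2 (mem_zpowers _))
  have hrel : LocalStructure.BTRel (f i') (f j') (f g') := by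
    constructor
    · rw [← map_pow, show i' ^ 4 = 1 from Subtype.ext (by rw [← hi]; exact pow_orderOf_eq_one i), map_one]
    · rw [← map_mul, ← map_mul, show j' * j' = i' * i' from Subtype.ext hsq]
    · rw [← map_mul, show j' * i' = i' ^ 3 * j' from Subtype.ext hji, map_mul, map_pow]
    · rw [← map_pow]; exact hgK
    · rw [← map_mul, show g' * i' = j' * g' from Subtype.ext (mul_inv_eq_iff_eq_mul.1 hgi), map_mul]
    · rw [← map_mul, show g' * j' = i' * j' * g' from Subtype.ext (mul_inv_eq_iff_eq_mul.1 hgj), map_mul, map_mul]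
  refine LocalStructure.sl23_iso hrel ?_ ?_
  · have h1 : closure ({i', j', g'} : Set H) = ⊤ := by
      refine eq_top_iff.2 fun x _ => ?_
      have hle : H ≤ (closure ({i', j', g'} : Set H)).map H.subtype := by
        conv_lhs => rw [hH]
        rw [closure_le]
        rintro y (rfl | rfl | rfl)
        exacts [⟨i', subset_closure (by simp), rfl⟩, ⟨j', subset_closure (by simp), rfl⟩,
          ⟨g', subset_closure (by simp), rfl⟩]
      obtain ⟨y, hy, he⟩ := hle x.2
      exact (Subtype.ext he : y = x) ▸ hy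
    have h2 := congrArg (Subgroup.map f) h1
    rw [MonoidHom.map_closure, map_top_of_surjective f (QuotientGroup.mk'_surjective _)] at h2
    rw [← h2]
    simp [Set.image_insert_eq]
  · -- the order is divisible by 8 and by 3
    have hKodd : ∀ x : G, x ∈ K → (orderOf x).Coprime 2 := by
      intro x hx
      obtain ⟨c, rfl⟩ := mem_zpowers_iff.1 hx
      exact hg.coprime_dvd_left ((orderOf_dvd_of_mem_zpowers (zpow_mem (mem_zpowers _) c)).trans (orderOf_pow_dvd 3))
    have hmem1 : ∀ u : H, f u = 1 → (u : G) ∈ K := fun u hu => mem_subgroupOf.1 ((QuotientGroup.eq_one_iff u).1 hu)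
    have hoi : orderOf (f i') = 4 := by
      have h1 : orderOf (f i') ∣ 2 ^ 2 := orderOf_dvd_of_pow_eq_one (by rw [show 2 ^ 2 = 4 from rfl]; exact hrel.i4)
      obtain ⟨e, he2, he⟩ := (Nat.dvd_prime_pow Nat.prime_two).1 h1
      rcases Nat.lt_or_ge e 2 with he' | he'
      · exfalso
        have h2 : f (i' ^ 2) = 1 := by
          rw [map_pow, ← orderOf_dvd_iff_pow_eq_one, he]
          exact pow_dvd_pow 2 (show e ≤ 1 by omega)
        have h3 := hKodd _ (hmem1 _ h2)
        have h4 : orderOf ((i' ^ 2 : H) : G) = 2 := by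
          rw [SubmonoidClass.coe_pow, orderOf_pow' _ two_ne_zero, hi]
          rfl
        rw [h4] at h3
        norm_num at h3
      · rw [he, show e = 2 by omega]; rfl
    have hog : orderOf (f g') = 3 := by
      have h1 : orderOf (f g') ∣ 3 := orderOf_dvd_of_pow_eq_one hrel.x3
      refine ((Nat.dvd_prime Nat.prime_three).1 h1).resolve_left fun h => ?_
      have h2 := hmem1 _ (orderOf_eq_one_iff.1 h)
      have h3 : Commute g i := by
        obtain ⟨c, hc⟩ := mem_zpowers_iff.1 h2
        have hc' : (g ^ 3) ^ c = g := hc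
        exact hc' ▸ (hcen i hiH).zpow_left c
      rw [h3.eq, mul_inv_cancel_right] at hgi
      exact hj (hgi ▸ mem_zpowers i)
    have hj4 : f j' ∉ zpowers (f i') := by
      intro h
      obtain ⟨c, hc⟩ := mem_zpowers_iff.1 h
      have h1 : f i' ^ 3 * f j' = f i' * f j' := by
        rw [← hrel.ji, ← hc]
        exact ((Commute.refl (f i')).zpow_left c).eq
      have h2 : f i' ^ 2 = 1 := by
        have h3 := mul_right_cancel h1
        rw [pow_succ] at h3
        exact mul_eq_right.1 h3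
      have h4 := Nat.le_of_dvd two_pos (orderOf_dvd_of_pow_eq_one h2)
      omega
    have h4d : 4 < Nat.card (closure {f i', f j'} : Subgroup (H ⧸ K.subgroupOf H)) := by
      rw [← hoi, ← Nat.card_zpowers]
      refine lt_of_le_of_ne (card_le_of_le (zpowers_le.2 (subset_closure (by simp)))) fun e => hj4 ?_
      rw [eq_of_le_of_card_ge (zpowers_le.2 (Subgroup.subset_closure (k := {f i', f j'}) (by simp))) e.ge]
      exact subset_closure (by simp)
    have h3d : 3 ∣ Nat.card (H ⧸ K.subgroupOf H) := hog ▸ orderOf_dvd_natCard (f g')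
    have h4dd : 4 ∣ Nat.card (closure {f i', f j'} : Subgroup (H ⧸ K.subgroupOf H)) := by
      have := card_dvd_of_le (zpowers_le.2 (Subgroup.subset_closure (by simp) : f i' ∈ closure {f i', f j'}))
      rwa [Nat.card_zpowers, hoi] at this
    -- the subgroup generated by `i`, `j` is a 2-group
    have h2 : IsPGroup 2 (closure {f i', f j'} : Subgroup (H ⧸ K.subgroupOf H)) := by
      have hnor : zpowers (f j') ≤ normalizer (zpowers (f i') : Set (H ⧸ K.subgroupOf H)) := by
        refine zpowers_le.2 (Cfsg.Agent.Coprime.mem_normalizer_of_conj_smul_eq ?_)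
        rw [Cfsg.Agent.Coprime.conj_smul_eq_map]
        refine eq_of_le_of_card_ge ?_ ((Nat.card_congr
          ((zpowers (f i')).equivMapOfInjective _ (MulAut.conj (f j')).injective).toEquiv).le)
        rw [MonoidHom.map_zpowers, zpowers_le]
        refine ⟨3, ?_⟩
        show f i' ^ (3 : ℤ) = f j' * f i' * (f j')⁻¹
        rw [hrel.ji, mul_inv_cancel_right, ← zpow_natCast]
        rfl
      have hle : closure {f i', f j'} ≤ zpowers (f i') ⊔ zpowers (f j') := by
        rw [closure_le]
        rintro y (rfl | rfl)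
        exacts [mem_sup_left (mem_zpowers _), mem_sup_right (mem_zpowers _)]
      have hoj : orderOf (f j') ∣ 2 ^ 2 := orderOf_dvd_of_pow_eq_one (by
        rw [show 2 ^ 2 = 2 * 2 from rfl, pow_mul, pow_two (f j'), hrel.j2, ← pow_two, ← pow_mul]
        exact hrel.i4)
      obtain ⟨e, -, he⟩ := (Nat.dvd_prime_pow Nat.prime_two).1 hoj
      have : Fact (Nat.Prime 2) := ⟨Nat.prime_two⟩
      exact ((IsPGroup.of_card (n := 2) (by rw [Nat.card_zpowers, hoi]; rfl)).to_sup_of_normal_left'
        (IsPGroup.of_card (n := e) (by rw [Nat.card_zpowers, he])) hnor).to_le hle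
    obtain ⟨e, he⟩ := (by have : Fact (Nat.Prime 2) := ⟨Nat.prime_two⟩; exact IsPGroup.iff_card.1 h2)
    have he3 : 3 ≤ e := by
      by_contra hlt
      have := Nat.pow_le_pow_right two_pos (show e ≤ 2 by omega)
      omega
    have h8 : 8 ∣ Nat.card (H ⧸ K.subgroupOf H) :=
      ((pow_dvd_pow 2 he3).trans he.symm.dvd).trans (card_subgroup_dvd_card _)
    have : 24 ∣ Nat.card (H ⧸ K.subgroupOf H) := Nat.Coprime.mul_dvd_of_dvd_of_dvd (by norm_num : Nat.Coprime 8 3) h8 h3d
    exact Nat.le_of_dvd Nat.card_pos this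

/-- A finite group with generalized quaternion Sylow 2-subgroups either has a normal 2-complement or has a section isomorphic to SL(2,3). -/
theorem result {G : Type*} [Group G] [Finite G] (T : Sylow 2 G) (n : ℕ) (hn : 1 ≤ n) (hT : Nonempty ((T : Subgroup G) ≃* QuaternionGroup (2 ^ n))) : Cfsg.HasNormalPComplement 2 G ∨ ∃ (H K : Subgroup G) (hK : (K.subgroupOf H).Normal), Nonempty ((H ⧸ K.subgroupOf H) ≃* Matrix.SpecialLinearGroup (Fin 2) (ZMod 3)) := by
  open Subgroup in
  classical
  have : Fact (Nat.Prime 2) := ⟨Nat.prime_two⟩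
  refine or_iff_not_imp_left.2 fun hno => ?_
  obtain ⟨R, hR, g, hg, hgo, hgC⟩ : ∃ R : Subgroup G, IsPGroup 2 R ∧ ∃ g ∈ normalizer (R : Set G),
      (orderOf g).Coprime 2 ∧ g ∉ centralizer (R : Set G) := by
    by_contra hcon
    push Not at hcon
    exact hno (Fusion.hasNormalPComplement_of_frobenius hcon)
  obtain ⟨P, hRP⟩ := hR.exists_le_sylow
  obtain ⟨e⟩ := hT
  obtain ⟨huniq, hnc⟩ := Invol.quaternion_uniq P (Nat.le_self_pow (show n ≠ 0 by omega) 2) ((T.equiv P).symm.trans e)
  obtain ⟨a, k, hd⟩ := Invol.exists_qData P huniq hnc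
  have hconj : ∀ x ∈ R, g * x * g⁻¹ ∈ R := fun x hx => (mem_normalizer_iff.1 hg x).1 hx
  obtain ⟨i, hiR, hi, hmove⟩ : ∃ i ∈ R, orderOf i = 4 ∧ g * i * g⁻¹ ≠ i := by
    by_contra hcon
    push Not at hcon
    apply hgC
    refine (show zpowers g ≤ centralizer (R : Set G) from ?_) (mem_zpowers g)
    refine S4126.le_centralizer_of_fixes_four hR (zpowers_le.2 hg) (by rw [Nat.card_zpowers]; exact hgo) fun v hv h4 b hb => ?_
    have hv4 : v ^ 4 = 1 := by
      rcases h4 with h | h
      · rw [show (4 : ℕ) = 2 * 2 from rfl, pow_mul, h, one_pow]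
      · exact h.2
    have hfix : g * v * g⁻¹ = v := by
      rcases Invol.orderOf_dvd_four_cases hv4 rfl with h | h | h
      · rw [orderOf_eq_one_iff.1 h]; group
      · exact huniq _ (hRP (hconj v hv)) v (hRP hv) (by rw [← MulAut.conj_apply, MulEquiv.orderOf_eq]; exact h) h
      · exact hcon v hv h
    obtain ⟨c, rfl⟩ := mem_zpowers_iff.1 hb
    exact ((show Commute g v from mul_inv_eq_iff_eq_mul.1 hfix).zpow_left c).eq
  have hz : ∀ x ∈ R, orderOf x = 4 → x * x = i * i := fun x hx h => huniq _ (hRP (mul_mem hx hx)) _ (hRP (mul_mem hiR hiR))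
    (by rw [← pow_two, orderOf_pow' _ two_ne_zero, h]; rfl) (by rw [← pow_two, orderOf_pow' _ two_ne_zero, hi]; rfl)
  set j := g * i * g⁻¹ with hj
  have hjR : j ∈ R := hconj i hiR
  have hj4 : orderOf j = 4 := by rw [hj, ← MulAut.conj_apply, MulEquiv.orderOf_eq]; exact hi
  have hi2 : IsPGroup 2 (zpowers i) := IsPGroup.of_card (n := 2) (by rw [Nat.card_zpowers, hi]; rfl)
  have hjni : j ∉ zpowers i := fun h => hmove (fix_of_zpowers hgo hi2 h)
  -- the subgroup `R` has order at most eight
  have hA : Nat.card (R ⊓ zpowers a : Subgroup G) ≤ 4 := by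
    by_contra hlt
    obtain ⟨⟨c, hc⟩⟩ : IsCyclic (R ⊓ zpowers a : Subgroup G) :=
      isCyclic_of_injective (inclusion inf_le_right) (inclusion_injective _)
    have hco : 4 < orderOf (c : G) := by
      have : zpowers c = ⊤ := eq_top_iff.2 fun x _ => hc x
      rw [Subgroup.orderOf_coe, ← Nat.card_zpowers, this, card_top]
      omega
    have hout : ∀ x ∈ P, 4 < orderOf x → x ∈ zpowers a := by
      intro x hx h4
      by_contra hxa
      have h1 := (hd.out x hx hxa).2
      have h2 : orderOf (x ^ 2) = 2 := by rw [pow_two, h1]; exact hd.orderOf_z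
      have h3 : x ^ 4 = 1 := by rw [show (4 : ℕ) = 2 * 2 from rfl, pow_mul]; exact orderOf_dvd_iff_pow_eq_one.1 h2.dvd
      have := Nat.le_of_dvd (by norm_num) (orderOf_dvd_of_pow_eq_one h3)
      omega
    have hgc : g * (c : G) * g⁻¹ = c := by
      refine fix_of_zpowers hgo ((hR.to_le (zpowers_le.2 c.2.1))) ?_
      have hmem : g * (c : G) * g⁻¹ ∈ R ⊓ zpowers a := ⟨hconj _ c.2.1, hout _ (hRP (hconj _ c.2.1))
        (by rw [← MulAut.conj_apply, MulEquiv.orderOf_eq]; exact hco)⟩
      obtain ⟨m, hm⟩ := mem_zpowers_iff.1 (hc ⟨_, hmem⟩)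
      exact ⟨m, congrArg Subtype.val hm⟩
    have hfixA : ∀ x ∈ R, x ∈ zpowers a → Commute g x := fun x hx hxa => by
      obtain ⟨m, hm⟩ := mem_zpowers_iff.1 (hc ⟨x, hx, hxa⟩)
      have hm' : (c : G) ^ m = x := congrArg Subtype.val hm
      exact hm' ▸ (show Commute g (c : G) from mul_inv_eq_iff_eq_mul.1 hgc).zpow_right m
    have hia : i ∉ zpowers a := fun h => hmove (by rw [hj, (hfixA i hiR h).eq, mul_inv_cancel_right])
    have hja : j ∉ zpowers a := fun h => hmove (by
      have h1 := hfixA j hjR h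
      have h2 : g * j * g⁻¹ = j := by rw [h1.eq, mul_inv_cancel_right]
      calc j = g⁻¹ * (g * j * g⁻¹) * g := by group
        _ = i := by rw [h2, hj]; group)
    have hia' : i⁻¹ ∉ zpowers a := fun h => hia (by simpa using inv_mem h)
    have hs : Commute g (i⁻¹ * j) := hfixA _ (mul_mem (inv_mem hiR) hjR)
      (hd.mul_mem_of_out (inv_mem (hRP hiR)) (hRP hjR) hia' hja)
    obtain ⟨m, hm⟩ := hR ⟨i⁻¹ * j, mul_mem (inv_mem hiR) hjR⟩
    have := Fusion.eq_one_of_transvection_coprime (p := 2 ^ m) (hgo.pow_right m) (congrArg Subtype.val hm) hs.eq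
      (show g * i * g⁻¹ = i * (i⁻¹ * j) by rw [mul_inv_cancel_left, ← hj])
    rw [inv_mul_eq_one] at this
    exact hmove this.symm
  have hR8 : Nat.card R ≤ 8 := by
    have h1 : (zpowers a).relIndex R ≤ 2 := by
      have hidx : ((zpowers a).relIndex (P : Subgroup G)) = 2 := by
        have := relIndex_mul_relIndex ⊥ (zpowers a) (P : Subgroup G) bot_le hd.le_P
        rw [relIndex_bot_left, relIndex_bot_left, Nat.card_zpowers, hd.order, hd.card, mul_comm 2] at this
        exact Nat.eq_of_mul_eq_mul_left (Nat.two_pow_pos k) this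
      exact hidx ▸ relIndex_le_of_le_right hRP (by rw [hidx]; norm_num)
    have h2 := relIndex_mul_relIndex ⊥ (R ⊓ zpowers a) R bot_le inf_le_left
    rw [relIndex_bot_left, relIndex_bot_left, inf_comm R, inf_relIndex_right] at h2
    rw [← h2]
    calc Nat.card (zpowers a ⊓ R : Subgroup G) * (zpowers a).relIndex R ≤ 4 * 2 :=
          Nat.mul_le_mul (inf_comm R (zpowers a) ▸ hA) h1
      _ = 8 := rfl
  -- `R` is covered by the cyclic subgroups of `i`, `j`, `i * j`
  have hiji : ∀ u ∈ R, ∀ v ∈ R, orderOf u = 4 → orderOf v = 4 → v ∉ zpowers u →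
      orderOf (u * v) = 4 ∧ u * v * u = v ∧
      ∀ x ∈ R, x ∈ zpowers u ∨ x ∈ zpowers v ∨ x ∈ zpowers (u * v) := by
    intro u hu v hv hu4 hv4 hvu
    have huv : u * v ∉ zpowers u := fun h => hvu (by
      have := mul_mem (inv_mem (mem_zpowers u)) h
      rwa [inv_mul_cancel_left] at this)
    have hle8 : ∀ x ∈ R, orderOf x ≠ 8 := by
      intro x hx h8
      have hxR : zpowers x = R := eq_of_le_of_card_ge (zpowers_le.2 hx) (by rw [Nat.card_zpowers, h8]; exact hR8)
      have hcy : IsCyclic R := hxR ▸ inferInstance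
      exact hvu ((Cfsg.Agent.HSub.subgroup_eq_of_card_eq hcy (zpowers_le.2 hv) (zpowers_le.2 hu)
        (by rw [Nat.card_zpowers, Nat.card_zpowers, hv4, hu4])).le (mem_zpowers v))
    have hord : ∀ x ∈ R, x ∉ zpowers u → orderOf x = 4 := by
      intro x hx hxu
      obtain ⟨m, hm⟩ := IsPGroup.iff_orderOf.1 hR ⟨x, hx⟩
      rw [Subgroup.orderOf_mk] at hm
      have hm3 : m ≤ 3 := by
        have h1 := Nat.le_of_dvd Nat.card_pos (card_dvd_of_le (zpowers_le.2 hx))
        rw [Nat.card_zpowers, hm] at h1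
        exact (Nat.pow_le_pow_iff_right one_lt_two).1 (h1.trans hR8)
      rcases m with _ | _ | _ | _ | m
      · exact absurd (orderOf_eq_one_iff.1 hm ▸ one_mem _) hxu
      · refine absurd ?_ hxu
        have := huniq x (hRP hx) (u * u) (hRP (mul_mem hu hu)) hm (by rw [← pow_two, orderOf_pow' _ two_ne_zero, hu4]; rfl)
        rw [this]
        exact mul_mem (mem_zpowers u) (mem_zpowers u)
      · exact hm
      · exact absurd hm (hle8 x hx)
      · omega
    have huv4 : orderOf (u * v) = 4 := hord _ (mul_mem hu hv) huv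
    refine ⟨huv4, ?_, fun x hx => ?_⟩
    · have h1 := (hz _ (mul_mem hu hv) huv4).trans (hz v hv hv4).symm
      exact mul_right_cancel (b := v) (by simpa [mul_assoc] using h1)
    · -- at most eight elements
      by_contra hcon
      push Not at hcon
      obtain ⟨hx1, hx2, hx3⟩ := hcon
      have hA : (zpowers u).relIndex R ≤ 2 := by
        have h2 := relIndex_mul_relIndex ⊥ (zpowers u) R bot_le (zpowers_le.2 hu)
        rw [relIndex_bot_left, relIndex_bot_left, Nat.card_zpowers, hu4] at h2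
        omega
      have hidx : ((zpowers u).subgroupOf R).index = 2 := by
        refine le_antisymm hA ?_
        by_contra hlt
        have : ((zpowers u).subgroupOf R).index = 1 := by
          have : ((zpowers u).subgroupOf R).index ≠ 0 := index_ne_zero_of_finite
          omega
        exact hvu (subgroupOf_eq_top.1 (index_eq_one.1 this) hv)
      have hxv : v⁻¹ * x ∈ zpowers u := by
        have := (mul_mem_iff_of_index_two hidx (a := ⟨v⁻¹, inv_mem hv⟩) (b := ⟨x, hx⟩)).2
          (iff_of_false (fun h => hvu (inv_mem_iff.1 (mem_subgroupOf.1 h))) fun h => hx1 (mem_subgroupOf.1 h))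
        exact mem_subgroupOf.1 this
      obtain ⟨m, hm⟩ := mem_zpowers_iff.1 hxv
      have huvu : u * v * u = v := mul_right_cancel (b := v) (by
        simpa [mul_assoc] using (hz _ (mul_mem hu hv) huv4).trans (hz v hv hv4).symm)
      have hxe : x = v * u ^ m := by rw [hm, mul_inv_cancel_left]
      rcases Int.even_or_odd m with ⟨d, rfl⟩ | ⟨d, rfl⟩
      · apply hx2
        rw [hxe, _root_.zpow_add, ← (Commute.refl u).mul_zpow, hz u hu hu4, ← hz v hv hv4]
        exact mul_mem (mem_zpowers v) (zpow_mem (mul_mem (mem_zpowers v) (mem_zpowers v)) d)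
      · apply hx3
        have hvu' : v * u = (u * v) ^ (-1 : ℤ) := by
          rw [zpow_neg_one, eq_inv_iff_mul_eq_one]
          calc v * u * (u * v) = v * (u * u) * v := by group
            _ = v * (v * v) * v := by rw [hz u hu hu4, ← hz v hv hv4]
            _ = v ^ 4 := by simp [pow_succ, mul_assoc]
            _ = 1 := by rw [← hv4]; exact pow_orderOf_eq_one v
        rw [hxe, add_comm, _root_.zpow_add, zpow_one, _root_.zpow_mul, zpow_two, ← mul_assoc, hvu', hz u hu hu4,
          ← hz _ (mul_mem hu hv) huv4]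
        exact mul_mem (zpow_mem (mem_zpowers _) _) (zpow_mem (mul_mem (mem_zpowers _) (mem_zpowers _)) d)
  set l := g * j * g⁻¹ with hl
  have hlR : l ∈ R := hconj j hjR
  have hl4 : orderOf l = 4 := by rw [hl, ← MulAut.conj_apply, MulEquiv.orderOf_eq]; exact hj4
  have hli : l ∉ zpowers i := by
    intro h
    apply hmove
    have h1 : g * g * i * (g * g)⁻¹ ∈ zpowers i := by
      rw [show g * g * i * (g * g)⁻¹ = l by rw [hl, hj]; group]
      exact h
    exact fix_of_sq hgo (fix_of_zpowers (by rw [← pow_two]; exact hgo.coprime_dvd_left (orderOf_pow_dvd 2)) hi2 h1)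
  have hlj : l ∉ zpowers j := by
    intro h
    obtain ⟨m, hm⟩ := mem_zpowers_iff.1 h
    refine hjni ⟨m, ?_⟩
    show i ^ m = j
    calc i ^ m = g⁻¹ * j ^ m * g := by rw [hj, conj_zpow]; group
      _ = j := by rw [hm, hl]; group
  obtain ⟨hij4, hiji', hcover⟩ := hiji i hiR j hjR hi hj4 hjni
  have hl' : l = i * j ∨ l = (i * j)⁻¹ := by
    rcases hcover l hlR with h | h | h
    · exact absurd h hli
    · exact absurd h hlj
    · obtain ⟨m, hm⟩ := mem_zpowers_iff.1 h
      have hmod : ∀ t : ℤ, (i * j) ^ (4 * t) = 1 := fun t => by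
        rw [_root_.zpow_mul, show ((4 : ℤ)) = ((4 : ℕ) : ℤ) from rfl, zpow_natCast, ← hij4, pow_orderOf_eq_one, one_zpow]
      obtain ⟨t, r, hr, rfl⟩ : ∃ t r : ℤ, (r = 0 ∨ r = 1 ∨ r = 2 ∨ r = 3) ∧ m = 4 * t + r :=
        ⟨m / 4, m % 4, by omega, by omega⟩
      rw [_root_.zpow_add, hmod, one_mul] at hm
      rcases hr with rfl | rfl | rfl | rfl
      · rw [zpow_zero] at hm; rw [← hm, orderOf_one] at hl4; omega
      · rw [zpow_one] at hm; exact Or.inl hm.symm
      · exfalso
        rw [zpow_two, hz _ (mul_mem hiR hjR) hij4] at hm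
        exact hli (hm ▸ mul_mem (mem_zpowers i) (mem_zpowers i))
      · right
        rw [← hm, eq_inv_iff_mul_eq_one, ← zpow_add_one, show (3 : ℤ) + 1 = 4 * 1 by norm_num, hmod]
  have hji : ∀ u ∈ R, ∀ v ∈ R, orderOf u = 4 → orderOf v = 4 → u * v * u = v → v * u = u ^ 3 * v := by
    intro u hu v hv hu4 hv4 h
    calc v * u = u⁻¹ * (u * v * u) := by group
      _ = u⁻¹ * v := by rw [h]
      _ = u ^ 3 * v := by
        rw [show u⁻¹ = u ^ 3 from inv_eq_of_mul_eq_one_left (by rw [← pow_succ, show 3 + 1 = 4 from rfl, ← hu4]; exact pow_orderOf_eq_one u)]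
  rcases hl' with h | h
  · exact section_of_data hi hjni (hz j hjR hj4) (hji i hiR j hjR hi hj4 hiji') hj.symm (hl.symm.trans h) hgo
  · -- change the sign of `i` and `j`
    have hni : j⁻¹ ∉ zpowers i⁻¹ := by rw [zpowers_inv, inv_mem_iff]; exact hjni
    have hi4' : orderOf i⁻¹ = 4 := by rw [orderOf_inv, hi]
    have hj4' : orderOf j⁻¹ = 4 := by rw [orderOf_inv, hj4]
    obtain ⟨-, hiji'', -⟩ := hiji i⁻¹ (inv_mem hiR) j⁻¹ (inv_mem hjR) hi4' hj4' hni
    refine section_of_data hi4' hni ((hz _ (inv_mem hjR) hj4').trans (hz _ (inv_mem hiR) hi4').symm)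
      (hji _ (inv_mem hiR) _ (inv_mem hjR) hi4' hj4' hiji'') ?_ ?_ hgo
    · rw [hj]; group
    · calc g * j⁻¹ * g⁻¹ = l⁻¹ := by rw [hl]; group
        _ = i * j := by rw [h, inv_inv]
        _ = i⁻¹ * (i * i * j) := by group
        _ = i⁻¹ * j⁻¹ := by
          rw [← hz j hjR hj4, show j⁻¹ = j * j * j from inv_eq_of_mul_eq_one_left (by
            rw [show j * j * j * j = j ^ 4 by simp [pow_succ, mul_assoc], ← hj4]; exact pow_orderOf_eq_one j)]

end Cfsg.Agent.S0106
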