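import Cfsg.Statements.S0107
import Cfsg.Agent.Invol.DihedralSylow

set_option autoImplicit false
open Cfsg

namespace Cfsg.Agent.S0107

/-- A finite group with no nontrivial 2-group quotient and dihedral Sylow 2-subgroups of order at least 8 has a single class of involutions. -/
theorem result {G : Type*} [Group G] [Finite G] (T : Sylow 2 G) (n : ℕ) (hn : 2 ≤ n) (hT : Nonempty ((T : Subgroup G) ≃* DihedralGroup (2 ^ n))) (hO : Cfsg.pResidual 2 G = ⊤) (x y : G) (hx : orderOf x = 2) (hy : orderOf y = 2) : ∃ g : G, g * x * g⁻¹ = y := by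
  have : Fact (Nat.Prime 2) := ⟨Nat.prime_two⟩
  obtain ⟨e⟩ := hT
  obtain ⟨k, ι, D, -⟩ := Invol.ddata_exists T (Nat.le_self_pow (show n ≠ 0 by omega) 2) e
  have hrefl : ∀ a, IsConj (ι (DihedralGroup.sr a)) (ι (DihedralGroup.r (Invol.dh k))) := by
    intro a
    by_contra ha
    obtain ⟨N, hN, hN2, hmem⟩ := D.index_two_of_not_conj ha
    apply hmem
    have hle := Fusion.pResidual_le_of_isPGroup_quotient (p := 2) N
      (IsPGroup.of_card (n := 1) (by rw [← Subgroup.index_eq_card, hN2, pow_one]))
    rw [hO] at hle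
    exact hle (Subgroup.mem_top _)
  have key : ∀ t : G, orderOf t = 2 → IsConj t (ι (DihedralGroup.r (Invol.dh k))) := by
    intro t ht
    rcases D.exists_conj_involution ht with h | ⟨a, h⟩
    exacts [h, h.trans (hrefl a)]
  exact isConj_iff.1 ((key x hx).trans (key y hy).symm)

end Cfsg.Agent.S0107
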