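import Cfsg.Statements.S0109
import Cfsg.Agent.Fusion.SolvablePSolvable
import Cfsg.Agent.S0618
import Cfsg.Agent.QdFree.SL2Facts

set_option autoImplicit false
open Cfsg

namespace Cfsg.Agent.S0109

/-- The Thompson factorization Theorem for solvable groups states that, with p odd (and abelian Sylow 2-subgroups when p = 3) and no nontrivial normal subgroup of order prime to p, every element of G is a product of an element normalizing J(P) and an element centralizing the elements of order dividing p in the centre of P. -/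
theorem result {G : Type*} [Group G] [Finite G] {p : ℕ} [Fact p.Prime] (hp : p ≠ 2) (hs : Group.IsSolvable G) (h3 : p = 3 → ∀ T : Sylow 2 G, IsMulCommutative T) (hF : ∀ N : Subgroup G, N.Normal → Nat.Coprime (Nat.card N) p → N = ⊥) (P : Sylow p G) (g : G) : ∃ a ∈ Subgroup.normalizer (Cfsg.thompsonSubgroupOf p (P : Subgroup G) : Set G), ∃ c ∈ Subgroup.centralizer {x : G | x ∈ (P : Subgroup G) ∧ (∀ y ∈ (P : Subgroup G), x * y = y * x) ∧ x ^ p = 1}, g = a * c := by
  have : Group.IsSolvable G := hs
  have hO : Cfsg.pPrimeCore p G = ⊥ := hF _ inferInstance Core.coprime_card_pPrimeCore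
  by_cases hT : Cfsg.IsThompsonFactorizable p G
  · obtain ⟨x, hx, c, hc, n, hn, hg⟩ := hT P g⁻¹
    rw [hO, Subgroup.mem_bot] at hx
    subst hx
    refine ⟨n⁻¹, inv_mem hn, c⁻¹, inv_mem (Subgroup.mem_centralizer_iff.mpr fun y hy => ?_),
      by rw [← inv_inv g, hg]; group⟩
    exact Subgroup.mem_centralizer_iff.mp hc y
      (Subgroup.subset_closure ⟨⟨hy.1, Subgroup.mem_centralizer_iff.mpr fun z hz => (hy.2.1 z hz).symm⟩, hy.2.2⟩)
  · exfalso
    obtain ⟨hp23, E, -, -, -, hn, ⟨e⟩⟩ := S0618.result (Fusion.isPSolvable_of_isSolvable G) hO hT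
    have hp3 : p = 3 := hp23.resolve_left hp
    obtain ⟨T⟩ := (inferInstance : Nonempty (Sylow 2 G))
    exact QdFree.not_comm_sylow_two hp
      (QdFree.involves_mk E (e.toMonoidHom.comp (QuotientGroup.mk' _))
        (e.surjective.comp (QuotientGroup.mk'_surjective _))) T (h3 hp3 T)

end Cfsg.Agent.S0109
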