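import Cfsg.Statements.S0110
import Cfsg.Agent.Fusion.Extraspecial

set_option autoImplicit false
open Cfsg

open scoped commutatorElement

namespace Cfsg.Agent.S0110

/-- In a p-group G, an extraspecial subgroup E with [G, E] ≤ Z(E) satisfies G = E C_G(E). -/
theorem result {G : Type*} [Group G] [Finite G] {p : ℕ} [Fact p.Prime] (hG : IsPGroup p G) (E : Subgroup G) (hE : Cfsg.IsExtraspecial p E) (h : ⁅(⊤ : Subgroup G), E⁆ ≤ E ⊓ Subgroup.centralizer (E : Set G)) : E ⊔ Subgroup.centralizer (E : Set G) = ⊤ := by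
  refine top_le_iff.mp fun g _ => ?_
  have hmem : ∀ x : E, ⁅g, (x : G)⁆ ∈ E ⊓ Subgroup.centralizer (E : Set G) :=
    fun x => h (Subgroup.commutator_mem_commutator (Subgroup.mem_top g) x.2)
  have hcen : ∀ x : E, (⟨_, (hmem x).1⟩ : E) ∈ Subgroup.center E := fun x =>
    Subgroup.mem_center_iff.mpr fun y =>
      Subtype.ext (Subgroup.mem_centralizer_iff.mp (hmem x).2 y y.2)
  let f : E →* E := MonoidHom.mk' (fun x => ⟨⁅g, (x : G)⁆, (hmem x).1⟩) fun x y => Subtype.ext (by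
    show ⁅g, (x : G) * y⁆ = ⁅g, (x : G)⁆ * ⁅g, (y : G)⁆
    have hc : (x : G) * ⁅g, (y : G)⁆ = ⁅g, (y : G)⁆ * x :=
      Subgroup.mem_centralizer_iff.mp (hmem y).2 x x.2
    calc ⁅g, (x : G) * y⁆ = ⁅g, (x : G)⁆ * ((x : G) * ⁅g, (y : G)⁆) * (x : G)⁻¹ := by
          simp only [commutatorElement_def]; group
      _ = ⁅g, (x : G)⁆ * ⁅g, (y : G)⁆ := by rw [hc]; group)
  have hfZ : ∀ z ∈ Subgroup.center E, f z = 1 := by
    intro z hz
    have hz' : z ∈ commutator E := hE.1.2.2 ▸ hz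
    exact MonoidHom.mem_ker.mp ((_root_.commutator_def E ▸ (Subgroup.commutator_le.mpr
      fun a _ b _ => by
        rw [MonoidHom.mem_ker, map_commutatorElement]
        exact commutatorElement_eq_one_iff_mul_comm.mpr
          (Subgroup.mem_center_iff.mp (hcen b) _)) : commutator E ≤ f.ker) hz')
  obtain ⟨e, -, he⟩ := Fusion.es_hom_eq_commutator hE f hcen hfZ ⊤ le_top Fusion.es_top_nondeg
  rw [show g = (e : G) * ((e : G)⁻¹ * g) by group]
  refine mul_mem (Subgroup.mem_sup_left e.2) (Subgroup.mem_sup_right ?_)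
  rw [Subgroup.mem_centralizer_iff]
  intro x hx
  have h1 : ⁅g, x⁆ = ⁅(e : G), x⁆ :=
    congrArg (fun w : E => (w : G)) (he ⟨x, hx⟩ (Subgroup.mem_top _))
  calc x * ((e : G)⁻¹ * g) = (e : G)⁻¹ * (⁅(e : G), x⁆⁻¹)⁻¹ * x * g := by
        rw [inv_inv, commutatorElement_def]; group
    _ = (e : G)⁻¹ * ⁅g, x⁆ * x * g := by rw [inv_inv, h1]
    _ = (e : G)⁻¹ * g * x := by rw [commutatorElement_def]; group

end Cfsg.Agent.S0110
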