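import Cfsg.Statements.S0114
import Cfsg.Agent.Fusion.MaxClassTwo

set_option autoImplicit false
open Cfsg

namespace Cfsg.Agent.S0114

/-- The central quotient of a 2-group of maximal class is dihedral. -/
theorem result {X : Type*} [Group X] [Finite X] (n : ℕ) (hn : 3 ≤ n) (hX : Nat.card X = 2 ^ n) (hc : Group.nilpotencyClass X = n - 1) : Nonempty (X ⧸ Subgroup.center X ≃* DihedralGroup (2 ^ (n - 2))) := by
  obtain ⟨hmc, -⟩ := Fusion.mc_of_class hn hX hc
  obtain ⟨m, a, b, u, hm, hcard, ha, hi, hb, hu, he⟩ := hmc.data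
  obtain rfl : n = m + 1 := Nat.pow_right_injective le_rfl (hX.symm.trans hcard)
  obtain ⟨j, rfl⟩ : ∃ j, m = j + 2 := ⟨m - 2, by omega⟩
  set f := QuotientGroup.mk' (Subgroup.center X) with hf
  have hcover := MaxClass.cover_of_index_two hi hb
  have hcommB : ∀ i : ℤ, Commute (a ^ i) b ↔ (2 : ℤ) ^ (j + 1) ∣ i := by
    intro i
    have : Commute (a ^ i) b ↔ b * a ^ i * b⁻¹ = a ^ i :=
      ⟨fun h => by rw [← h.eq, mul_inv_cancel_right], fun h => (mul_inv_eq_iff_eq_mul.1 h).symm⟩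
    rw [this, MaxClass.conj_zpow_of_eq he, MaxClass.zpow_eq_iff ha,
      show i - (2 * u + 1) * i = 2 * (-(u * i)) by ring, show j + 2 = (j + 1) + 1 from rfl, pow_succ',
      mul_dvd_mul_iff_left (two_ne_zero : (2 : ℤ) ≠ 0), dvd_neg]
    refine ⟨fun h => ?_, fun h => h.mul_left u⟩
    refine IsCoprime.dvd_of_dvd_mul_left (IsCoprime.pow_left ?_) h
    obtain ⟨s, hs⟩ := hu
    exact ⟨-s, 1, by rw [hs]; ring⟩
  have hcen : ∀ x : X, x ∈ Subgroup.center X ↔ Commute x a ∧ Commute x b := by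
    intro x
    refine ⟨fun h => ⟨(Subgroup.mem_center_iff.1 h a).symm, (Subgroup.mem_center_iff.1 h b).symm⟩,
      fun h => Subgroup.mem_center_iff.2 fun g => ?_⟩
    rcases hcover g with hg | hg <;> obtain ⟨i, hi'⟩ := Subgroup.mem_zpowers_iff.1 hg
    · rw [← hi']; exact (h.1.zpow_right i).symm.eq
    · rw [show g = b * a ^ i by rw [hi', mul_inv_cancel_left]]
      exact (h.2.mul_right (h.1.zpow_right i)).symm.eq
  have hcena : ∀ i : ℤ, a ^ i ∈ Subgroup.center X ↔ (2 : ℤ) ^ (j + 1) ∣ i := fun i => by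
    rw [hcen, hcommB]; exact and_iff_right ((Commute.refl a).zpow_left i)
  obtain ⟨c, hcc⟩ := Subgroup.mem_zpowers_iff.1
    ((Subgroup.mul_mem_iff_of_index_two hi (a := b) (b := b)).2 Iff.rfl)
  have hbb : b * b ∈ Subgroup.center X := by
    rw [hcen]
    exact ⟨hcc ▸ (Commute.refl a).zpow_left c, (Commute.refl b).mul_left (Commute.refl b)⟩
  have hr2 : (2 : ℤ) ^ (j + 2) ∣ (2 * u + 1) * (2 * u + 1) - 1 := by
    have h1 : a ^ ((2 * u + 1) * (2 * u + 1)) = a ^ (1 : ℤ) := by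
      rw [← MaxClass.conj_zpow_of_eq he, ← he, show b * (b * a * b⁻¹) * b⁻¹ = (b * b) * a * (b * b)⁻¹ by group,
        zpow_one, ← Subgroup.mem_center_iff.1 hbb a, mul_inv_cancel_right]
    have h2 := (MaxClass.zpow_eq_iff ha).1 h1
    rwa [← dvd_neg, neg_sub] at h2
  have hu1 : (2 : ℤ) ^ j ∣ u + 1 := by
    rw [show (2 * u + 1) * (2 * u + 1) - 1 = 2 * (2 * (u * (u + 1))) by ring,
      show j + 2 = (j + 1) + 1 from rfl, pow_succ', mul_dvd_mul_iff_left (two_ne_zero : (2 : ℤ) ≠ 0),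
      pow_succ', mul_dvd_mul_iff_left (two_ne_zero : (2 : ℤ) ≠ 0)] at hr2
    refine IsCoprime.dvd_of_dvd_mul_left (IsCoprime.pow_left ?_) hr2
    obtain ⟨s, hs⟩ := hu
    exact ⟨-s, 1, by rw [hs]; ring⟩
  rw [show j + 2 + 1 - 2 = j + 1 from rfl]
  have : NeZero (2 ^ (j + 1)) := ⟨(Nat.two_pow_pos _).ne'⟩
  refine MaxClass.nonempty_mulEquiv_dihedral (2 ^ (j + 1)) (a := f a) (g := f b) ?_ ?_ ?_ ?_ ?_
  · refine (orderOf_eq_iff (Nat.two_pow_pos _)).2 ⟨?_, fun k hk hk0 h => ?_⟩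
    · rw [← map_pow, hf, QuotientGroup.mk'_apply, QuotientGroup.eq_one_iff, ← zpow_natCast, hcena]
      simp
    · rw [← map_pow, hf, QuotientGroup.mk'_apply, QuotientGroup.eq_one_iff, ← zpow_natCast, hcena] at h
      have := Int.le_of_dvd (by exact_mod_cast hk0) h
      have : ((2 ^ (j + 1) : ℕ) : ℤ) ≤ (k : ℤ) := by push_cast; exact this
      omega
  · rw [← map_mul, hf, QuotientGroup.mk'_apply, QuotientGroup.eq_one_iff]
    exact hbb
  · rw [← map_inv f b, ← map_mul, ← map_mul, he, ← map_inv]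
    refine QuotientGroup.eq.2 ?_
    rw [show (a ^ (2 * u + 1))⁻¹ * a⁻¹ = a ^ (-(2 * (u + 1))) by group, hcena, dvd_neg, pow_succ']
    exact mul_dvd_mul_left 2 hu1
  · intro h
    obtain ⟨i, hi'⟩ := Subgroup.mem_zpowers_iff.1 h
    rw [← map_zpow, hf, QuotientGroup.mk'_apply, QuotientGroup.mk'_apply, QuotientGroup.eq, hcen] at hi'
    have h2 : Commute b a := by
      have := ((Commute.refl a).zpow_left i).mul_left hi'.1
      rwa [mul_inv_cancel_left] at this
    have h3 := (hcommB 1).1 (by rw [zpow_one]; exact h2.symm)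
    have h4 := Int.le_of_dvd one_pos h3
    have := pow_le_pow_right₀ (by norm_num : (1 : ℤ) ≤ 2) (show 1 ≤ j + 1 by omega)
    omega
  · intro z
    obtain ⟨x, rfl⟩ := QuotientGroup.mk'_surjective _ z
    rcases hcover x with hx | hx <;> obtain ⟨i, hi'⟩ := Subgroup.mem_zpowers_iff.1 hx
    · exact Or.inl ⟨i, by rw [← hi']; exact (map_zpow f a i).symm⟩
    · refine Or.inr ⟨i, ?_⟩
      show f a ^ i = _
      rw [← map_zpow, hi', map_mul, map_inv]

end Cfsg.Agent.S0114
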