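import Cfsg.Statements.S0115
import Cfsg.Agent.Fusion.MaxClassTwo

set_option autoImplicit false
open Cfsg

namespace Cfsg.Agent.S0115

/-- A 2-group of order 2^n, n ≥ 3, is of maximal class exactly when its commutator quotient is a Klein four-group. -/
theorem result {X : Type*} [Group X] [Finite X] (n : ℕ) (hn : 3 ≤ n) (hX : Nat.card X = 2 ^ n) : Group.nilpotencyClass X = n - 1 ↔ IsKleinFour (X ⧸ commutator X) := by
  constructor
  · intro hc
    obtain ⟨hmc, hne⟩ := Fusion.mc_of_class hn hX hc
    obtain ⟨hi, hsq⟩ := Fusion.index_commutator_of_mc hmc hne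
    refine ⟨by rw [← Subgroup.index_eq_card, hi], ?_⟩
    refine Nat.dvd_antisymm (Monoid.exponent_dvd_of_forall_pow_eq_one fun z => ?_) ?_
    · obtain ⟨x, rfl⟩ := QuotientGroup.mk'_surjective _ z
      rw [← map_pow, pow_two]
      exact (QuotientGroup.eq_one_iff _).2 (hsq x)
    · rcases (Nat.dvd_prime Nat.prime_two).1 (Monoid.exponent_dvd_of_forall_pow_eq_one (G := X ⧸ commutator X)
        (n := 2) fun z => by
          obtain ⟨x, rfl⟩ := QuotientGroup.mk'_surjective _ z
          rw [← map_pow, pow_two]
          exact (QuotientGroup.eq_one_iff _).2 (hsq x)) with h | h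
      · have := Monoid.exp_eq_one_iff.1 h
        rw [Subgroup.index_eq_card, Nat.card_unique] at hi
        omega
      · rw [h]
  · intro h
    refine Fusion.class_of_index_commutator hn hX ?_
    rw [Subgroup.index_eq_card, h.card_four]

end Cfsg.Agent.S0115
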