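import Cfsg.Statements.S0116
import Cfsg.Agent.Fusion.Alperin

set_option autoImplicit false
open Cfsg

namespace Cfsg.Agent.S0116

theorem exists_chain_data {G : Type*} [Group G] [Finite G] {p : ℕ} [Fact p.Prime] {P : Sylow p G}
    {A : Set G} {g : G} (h : Fusion.AlperinChain P A g) :
    ∃ (n : ℕ) (Q : Fin n → Sylow p G) (x : Fin n → G), (List.ofFn x).prod = g ∧
      (∀ i : Fin n, x i ∈ Subgroup.normalizer
        ((((P : Subgroup G) ⊓ (Q i : Subgroup G)) : Subgroup G) : Set G) ∧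
        Fusion.IsTame P (Q i)) ∧
      ∀ i : Fin n, Fusion.conjSet (((List.ofFn x).take i.val).prod) A ⊆
        (((P : Subgroup G) ⊓ (Q i : Subgroup G) : Subgroup G) : Set G) := by
  induction h with
  | nil A => exact ⟨0, Fin.elim0, Fin.elim0, by simp, fun i => i.elim0, fun i => i.elim0⟩
  | @cons A g y R hA hy hR _ ih =>
    obtain ⟨n, Q, x, hprod, h1, h2⟩ := ih
    refine ⟨n + 1, Fin.cons R Q, Fin.cons y x, ?_, ?_, ?_⟩
    · simp [List.ofFn_succ, hprod]
    · intro i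
      refine Fin.cases ?_ (fun j => ?_) i
      · simpa using ⟨hy, hR⟩
      · simpa using h1 j
    · intro i
      refine Fin.cases ?_ (fun j => ?_) i
      · simpa [Fusion.conjSet_one] using hA
      · simpa [List.ofFn_succ, Fusion.conjSet_mul] using h2 j

/-- The Alperin fusion Theorem states that conjugation between subsets of a Sylow p-subgroup P factors through normalizers of tame intersections P ∩ Q_i with other Sylow p-subgroups, carrying the subset along step by step. -/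
theorem result {G : Type*} [Group G] [Finite G] {p : ℕ} [Fact p.Prime] (P : Sylow p G) (A : Set G) (g : G) (hA : A ⊆ (P : Set G)) (hAg : (fun a => g⁻¹ * a * g) '' A ⊆ (P : Set G)) : ∃ (n : ℕ) (Q : Fin n → Sylow p G) (x : Fin n → G), (List.ofFn x).prod = g ∧ (∀ i : Fin n, x i ∈ Subgroup.normalizer ((((P : Subgroup G) ⊓ (Q i : Subgroup G)) : Subgroup G) : Set G) ∧ ¬ p ∣ ((P : Subgroup G) ⊓ Subgroup.normalizer ((((P : Subgroup G) ⊓ (Q i : Subgroup G)) : Subgroup G) : Set G)).relIndex (Subgroup.normalizer ((((P : Subgroup G) ⊓ (Q i : Subgroup G)) : Subgroup G) : Set G)) ∧ ¬ p ∣ ((Q i : Subgroup G) ⊓ Subgroup.normalizer ((((P : Subgroup G) ⊓ (Q i : Subgroup G)) : Subgroup G) : Set G)).relIndex (Subgroup.normalizer ((((P : Subgroup G) ⊓ (Q i : Subgroup G)) : Subgroup G) : Set G))) ∧ (∀ h : 0 < n, A ⊆ (((P : Subgroup G) ⊓ (Q ⟨0, h⟩ : Subgroup G) : Subgroup G) : Set G)) ∧ ∀ i : Fin n, ∀ h : i.val + 1 < n, (fun a => (((List.ofFn x).take (i.val +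 1)).prod)⁻¹ * a * ((List.ofFn x).take (i.val + 1)).prod) '' A ⊆ (((P : Subgroup G) ⊓ (Q ⟨i.val + 1, h⟩ : Subgroup G) : Subgroup G) : Set G) := by
  obtain ⟨n, Q, x, hprod, h1, h2⟩ := exists_chain_data (Fusion.alperinChain_of_subset P hA hAg)
  refine ⟨n, Q, x, hprod, fun i => ⟨(h1 i).1, (h1 i).2.1, (h1 i).2.2⟩, fun h => ?_,
    fun i h => h2 ⟨i.val + 1, h⟩⟩
  simpa [Fusion.conjSet_one] using h2 ⟨0, h⟩

end Cfsg.Agent.S0116
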