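import Cfsg.Statements.S0118
import Cfsg.Agent.Fusion.ZJElem
import Cfsg.Agent.QdFree.Control
import Cfsg.Agent.QdFree.PStable

set_option autoImplicit false
open Cfsg

namespace Cfsg.Agent.S0118

open Subgroup

universe u

/-- `Z(J_e(Q))` as a functor. -/
def zjeFunctor (p : ℕ) (Q : Type u) [Group Q] : Subgroup Q := Cfsg.centerThompsonOf p (⊤ : Subgroup Q)

theorem inducedFunctor_zje {p : ℕ} [Fact p.Prime] (hp : p ≠ 2) {G : Type u} [Group G] [Finite G] (P : Subgroup G) :
    Cfsg.inducedFunctor (G := G) (zjeFunctor p) P = Cfsg.centerThompsonOf p P := by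
  show (Cfsg.centerThompsonOf p (⊤ : Subgroup P)).map P.subtype = _
  have := (Fusion.GlaubermanThompson.isZSel_centerThompsonOf (p := p) hp).map_injective
    (f := P.subtype) P.subtype_injective (⊤ : Subgroup P)
  rw [this, ← MonoidHom.range_eq_map, range_subtype]

theorem isCharPFunctor_zje {p : ℕ} [Fact p.Prime] (hp : p ≠ 2) :
    Cfsg.IsCharPFunctor.{u} p (zjeFunctor p) := by
  have hW := Fusion.GlaubermanThompson.isZSel_centerThompsonOf.{u} (p := p) hp
  refine ⟨fun Q _ _ hQ hnt => hW.ne_bot Q ⊤ (hQ.to_subgroup ⊤) top_ne_bot, fun Q R _ _ _ _ φ => ?_⟩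
  show (Cfsg.centerThompsonOf p (⊤ : Subgroup Q)).map φ.toMonoidHom = _
  rw [hW.map_injective (f := φ.toMonoidHom) φ.injective, ← MonoidHom.range_eq_map,
    MonoidHom.range_eq_top.mpr φ.surjective]
  rfl

/-- Glauberman's ZJ-Theorem, in the case of groups with no section isomorphic to SL(2,p), p odd: conjugation of subsets of a Sylow p-subgroup P inside P is always induced from the normalizer of Z(J(P)). -/
theorem result {G : Type*} [Group G] [Finite G] {p : ℕ} [Fact p.Prime] (hp : p ≠ 2) (hfree : ¬ ∃ (H K : Subgroup G) (hK : (K.subgroupOf H).Normal), Nonempty ((H ⧸ K.subgroupOf H) ≃* Matrix.SpecialLinearGroup (Fin 2) (ZMod p))) (P : Sylow p G) (A : Set G) (hA : A ⊆ (P : Set G)) (g : G) (hAg : (fun a => g⁻¹ * a * g) '' A ⊆ (P : Set G)) : ∃ n ∈ Subgroup.normalizer (Cfsg.centerThompsonOf p (P : Subgroup G) : Set G), ∀ a ∈ A, n⁻¹ * a * n = g⁻¹ * a * g := by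
  have hi : ¬ Cfsg.Involves (Matrix.SpecialLinearGroup (Fin 2) (ZMod p)) G := by
    rintro ⟨H, K, hK, he⟩
    exact hfree ⟨H, K, hK, he⟩
  have hW := isCharPFunctor_zje (p := p) hp
  have hF : ∀ V ∈ ({zjeFunctor p} : Set (∀ (Q : Type _) [Group Q], Subgroup Q)),
      Cfsg.IsCharPFunctor p V := fun V hV => Set.mem_singleton_iff.mp hV ▸ hW
  have key : Control.GFus {zjeFunctor p} p G := by
    refine Control.gFus_of_quotients hF (fun K R _ hc => ?_) Control.IsSec.refl
    obtain ⟨T⟩ := (inferInstance : Nonempty (Sylow p (↥K ⧸ R.subgroupOf K)))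
    have hst : Cfsg.IsNormalizerPStable p (↥K ⧸ R.subgroupOf K) :=
      QdFree.isNormalizerPStable_of_free hp fun _ _ _ h =>
        hi (QdFree.involves_of_subgroup (QdFree.involves_of_surjective (QdFree.involves_of_subgroup h)
          (QuotientGroup.mk'_surjective _)))
    refine Control.famFus_iff.mpr ⟨_, Control.sylIn_top T, fun A g _ _ hgA =>
      Control.Ctrl.of_mem ⟨_, ⟨_, rfl, rfl⟩, rfl⟩ ⟨Subgroup.mem_top g, ?_⟩ hgA⟩
    show g ∈ Subgroup.normalizer ((Cfsg.inducedFunctor (zjeFunctor p)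
      (T : Subgroup (↥K ⧸ R.subgroupOf K)) : Subgroup _) : Set _)
    rw [inducedFunctor_zje hp, Subgroup.normalizer_eq_top_iff.mpr
      (Fusion.normal_centerThompsonOf hp (Fusion.pStableNormal_of_isNormalizerPStable hst)
        (Fusion.isStronglyClosed_self T) hc)]
    exact Subgroup.mem_top g
  have hAg' : (fun a => g⁻¹ * a * g⁻¹⁻¹) '' A ⊆ (P : Set G) := by simpa using hAg
  obtain ⟨c, hcR, hce⟩ := (Control.famFus_iff_forall (Control.isConjugacyFunctor_iF hF)
    (Control.sylIn_top P)).mp key A g⁻¹ (Subgroup.mem_top _) hA hAg'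
  have hc : c ∈ Subgroup.normalizer (Cfsg.centerThompsonOf p (P : Subgroup G) : Set G) := by
    refine hcR.mem fun N hN => ?_
    obtain ⟨_, ⟨V, hV, rfl⟩, rfl⟩ := hN
    rw [Set.mem_singleton_iff.mp hV]
    show ⊤ ⊓ Subgroup.normalizer ((Cfsg.inducedFunctor (zjeFunctor p) (P : Subgroup G) : Subgroup G) : Set G) ≤ _
    rw [inducedFunctor_zje hp]
    exact inf_le_right
  exact ⟨c⁻¹, inv_mem hc, fun a ha => by simpa using hce a ha⟩

end Cfsg.Agent.S0118
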