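import Cfsg.Statements.S0119
import Cfsg.Agent.Coprime.Derived
-- import your own Cfsg.Agent.* helpers here

set_option autoImplicit false
open Cfsg

namespace Cfsg.Agent.S0119
open scoped commutatorElement

/-- If a p'-group A of automorphisms of a p-group G satisfies G = [G, A] and acts trivially on every characteristic abelian subgroup, then G is special with centre equal to the fixed points of A. -/
theorem result {G : Type*} [Group G] [Finite G] {p : ℕ} [Fact p.Prime] (hG : IsPGroup p G) (A : Subgroup (MulAut G)) (hA : Nat.Coprime (Nat.card A) p) (hGA : Subgroup.closure {x : G | ∃ g : G, ∃ a ∈ A, x = g⁻¹ * a g} = ⊤) (hchar : ∀ H : Subgroup G, H.Characteristic → IsMulCommutative H → ∀ a ∈ A, ∀ h ∈ H, a h = h) : Cfsg.IsSpecial p G ∧ (∀ g : G, (g ∈ Subgroup.center G ↔ ∀ a ∈ A, a g = g)) := by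
  classical
  have hp : p.Prime := Fact.out
  haveI : Group.IsNilpotent G := hG.isNilpotent
  obtain ⟨nG, hnG⟩ := IsPGroup.iff_card.mp hG
  have hcop : (Nat.card A).Coprime (Nat.card G) := by rw [hnG]; exact Nat.Coprime.pow_right nG hA
  let φ : A →* MulAut G := A.subtype
  have hGA' : Coprime.actCommutator φ = ⊤ := by
    rw [eq_top_iff, ← hGA, Subgroup.closure_le]
    rintro _ ⟨g, a, ha, rfl⟩
    exact Subgroup.subset_closure ⟨⟨a, ha⟩, g, rfl⟩
  have hCG : ∀ g : G, (∀ a ∈ A, a g = g) → g ∈ commutator G := fun g hg =>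
    Coprime.fixedSubgroup_le_commutator φ hcop hGA' (fun a => hg a a.2)
  -- an abelian characteristic subgroup is central
  have hcent : ∀ H : Subgroup G, H.Characteristic → IsMulCommutative H → H ≤ Subgroup.center G := by
    intro H hH hHab h hh
    haveI := hH
    have hfix := hchar H hH hHab
    have hle : Subgroup.closure {x : G | ∃ g : G, ∃ a ∈ A, x = g⁻¹ * a g} ≤ Subgroup.centralizer (H : Set G) := by
      rw [Subgroup.closure_le]
      rintro _ ⟨g, a, ha, rfl⟩
      rw [SetLike.mem_coe, Subgroup.mem_centralizer_iff]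
      intro k hk
      have hk' : g⁻¹⁻¹ * k * g⁻¹ ∈ H :=
        (inferInstance : H.Normal).conj_mem' k hk g⁻¹
      rw [inv_inv] at hk'
      have h1 := hfix a ha _ hk'
      rw [map_mul, map_mul, map_inv, hfix a ha k hk] at h1
      have h2 : g⁻¹ * (a g * k * (a g)⁻¹) * g = k := by rw [h1]; simp [mul_assoc]
      calc k * (g⁻¹ * a g) = g⁻¹ * (a g * k * (a g)⁻¹) * g * (g⁻¹ * a g) := by rw [h2]
        _ = g⁻¹ * a g * k := by simp [mul_assoc]
    rw [hGA] at hle
    rw [Subgroup.mem_center_iff]
    intro g
    exact (Subgroup.mem_centralizer_iff.mp (hle (Subgroup.mem_top g)) h hh).symm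
  have hZ : Subgroup.center G ≤ commutator G := fun z hz =>
    hCG z fun a ha => hchar _ inferInstance inferInstance a ha z hz
  -- the derived subgroup is central
  set Z2 : Subgroup G := Subgroup.upperCentralSeries G 2 with hZ2
  haveI hZ2c : Z2.Characteristic := inferInstance
  have hmem2 : ∀ x : G, x ∈ Z2 ↔ ∀ y : G, ⁅x, y⁆ ∈ Subgroup.center G := by
    intro x
    rw [hZ2, Subgroup.mem_upperCentralSeries_succ_iff, Subgroup.upperCentralSeries_one]
  have hab2 : ⁅⁅(⊤ : Subgroup G), (⊤ : Subgroup G)⁆, Z2⁆ = ⊥ := by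
    have h1 : ⁅Z2, (⊤ : Subgroup G)⁆ ≤ Subgroup.center G :=
      Subgroup.commutator_le.mpr fun x hx y _ => (hmem2 x).mp hx y
    have h2 : ⁅⁅Z2, (⊤ : Subgroup G)⁆, (⊤ : Subgroup G)⁆ = ⊥ :=
      Subgroup.commutator_top_right_eq_bot_iff_le_center.mpr h1
    refine Subgroup.commutator_commutator_eq_bot_of_rotate ?_ h2
    rw [Subgroup.commutator_comm ⊤ Z2]
    exact h2
  have hder : commutator G ≤ Subgroup.center G := by
    set H : Subgroup G := commutator G ⊓ Z2 with hH
    have hHc : H ≤ Subgroup.center G := by
      refine hcent H inferInstance ?_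
      rw [← Subgroup.le_centralizer_iff_isMulCommutative]
      refine inf_le_left.trans ((Subgroup.commutator_eq_bot_iff_le_centralizer.mp ?_).trans
        (Subgroup.centralizer_le (inf_le_right : H ≤ Z2)))
      exact hab2
    by_contra hne
    let f := QuotientGroup.mk' (Subgroup.center G)
    haveI : ((commutator G).map f).Normal :=
      Subgroup.Normal.map inferInstance f (QuotientGroup.mk'_surjective _)
    have hne' : (commutator G).map f ≠ ⊥ := fun h => hne (by
      rw [Subgroup.map_eq_bot_iff, QuotientGroup.ker_mk'] at h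
      exact h)
    obtain ⟨y, hy, hy1⟩ := ((((commutator G).map f) ⊓ Subgroup.center _).bot_or_exists_ne_one).resolve_left
      (Fusion.pGroup_inf_center_ne_bot (hG.to_quotient _) _ hne')
    obtain ⟨⟨x, hx, rfl⟩, hyc⟩ := hy
    refine hy1 ((QuotientGroup.eq_one_iff x).mpr (hHc ⟨hx, (hmem2 x).mpr fun g => ?_⟩))
    refine (QuotientGroup.eq_one_iff _).mp ?_
    change f ⁅x, g⁆ = 1
    rw [map_commutatorElement, commutatorElement_eq_one_iff_mul_comm]
    exact (Subgroup.mem_center_iff.mp hyc (f g)).symm
  -- commutators have order dividing `p`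
  have hexp : ∀ x y : G, ⁅x, y⁆ ^ p = 1 := by
    suffices h : ∀ n : ℕ, (∀ u v : G, ⁅u, v⁆ ^ p ^ (n + 1) = 1) → ∀ x y : G, ⁅x, y⁆ ^ p = 1 from
      h nG fun u v => by
        refine orderOf_dvd_iff_pow_eq_one.mp ((_root_.orderOf_dvd_natCard _).trans (hnG ▸ ?_))
        exact pow_dvd_pow p (Nat.le_succ nG)
    intro n
    induction n with
    | zero =>
      intro h x y
      simpa using h x y
    | succ n ih =>
      intro ih'
      refine ih fun x y => ?_
      set e := n + 1 with he
      set S : Set G := {z | ∃ u : G, z = u ^ p ^ e} with hS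
      set H : Subgroup G := Subgroup.closure S ⊔ commutator G with hHdef
      have hHc : H.Characteristic := by
        rw [Subgroup.characteristic_iff_map_le]
        intro θ
        rw [hHdef, Subgroup.map_sup, MonoidHom.map_closure]
        refine sup_le_sup (Subgroup.closure_mono ?_)
          (Subgroup.characteristic_iff_map_le.mp inferInstance θ)
        rintro _ ⟨_, ⟨u, rfl⟩, rfl⟩
        exact ⟨θ u, by simp⟩
      have hSab : ∀ u v : G, ⁅u ^ p ^ e, v ^ p ^ e⁆ = 1 := by
        intro u v
        rw [Fusion.commutatorElement_pow_left_of_le_center hder]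
        rw [← commutatorElement_inv, inv_pow, inv_eq_one,
          Fusion.commutatorElement_pow_left_of_le_center hder, ← pow_mul, ← pow_add]
        obtain ⟨k, hk⟩ : ∃ k, e + e = e + 1 + k := ⟨n, by omega⟩
        rw [hk, pow_add, pow_mul, ih', one_pow]
      have hHab : IsMulCommutative H := by
        have h1 : IsMulCommutative (Subgroup.closure S) := by
          refine Subgroup.isMulCommutative_closure ?_
          rintro _ ⟨u, rfl⟩ _ ⟨v, rfl⟩
          exact commutatorElement_eq_one_iff_mul_comm.mp (hSab u v)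
        refine Fusion.isMulCommutative_sup_of_le_centralizer h1
          (Subgroup.le_centralizer_iff_isMulCommutative.mp (hder.trans (Subgroup.center_le_centralizer _))) ?_
        rw [Subgroup.le_centralizer_iff]
        exact hder.trans (Subgroup.center_le_centralizer _)
      have hu : x ^ p ^ e ∈ Subgroup.center G :=
        hcent H hHc hHab (Subgroup.mem_sup_left (Subgroup.subset_closure ⟨x, rfl⟩))
      rw [← Fusion.commutatorElement_pow_left_of_le_center hder, commutatorElement_eq_one_iff_mul_comm]
      exact (Subgroup.mem_center_iff.mp hu y).symm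
  have hpow : ∀ x : G, x ^ p ∈ Subgroup.center G := by
    intro x
    rw [Subgroup.mem_center_iff]
    intro y
    refine (commutatorElement_eq_one_iff_mul_comm.mp ?_).symm
    rw [Fusion.commutatorElement_pow_left_of_le_center hder, hexp]
  refine ⟨⟨hG, le_antisymm (Fusion.frattini_le_of_elementary _ hder hpow)
      (hZ.trans Core.commutator_le_frattini), le_antisymm hder hZ⟩,
    fun g => ⟨fun hg a ha => hchar _ inferInstance inferInstance a ha g hg, fun hg => hder (hCG g hg)⟩⟩

end Cfsg.Agent.S0119
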