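import Cfsg.Statements.S0123
import Cfsg.Agent.S4209
import Cfsg.Agent.Regular.PolySeq
import Cfsg.Agent.Regular.Basic

set_option autoImplicit false
open Cfsg

namespace Cfsg.Agent.S0123

/-- For a p-group of small class relative to p (class ≤ 2 with p odd, or class ≤ 3 with p > 3) whose derived subgroup is generated by elements of order dividing p, the p-th power map is multiplicative. -/
theorem result {R : Type*} [Group R] [Finite R] {p : ℕ} [Fact p.Prime] (hR : IsPGroup p R) (hcl : (p ≠ 2 ∧ ⁅commutator R, (⊤ : Subgroup R)⁆ = ⊥) ∨ (3 < p ∧ ⁅⁅commutator R, (⊤ : Subgroup R)⁆, (⊤ : Subgroup R)⁆ = ⊥)) (hder : commutator R ≤ Subgroup.closure {x : R | x ^ p = 1}) (x y : R) : (x * y) ^ p = x ^ p * y ^ p := by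
  have hcl3 : (⊤ : Subgroup R).lowerCentralSeries (p - 1) = ⊥ := by
    have h2 : (⊤ : Subgroup R).lowerCentralSeries 2 = ⁅commutator R, (⊤ : Subgroup R)⁆ := by
      rw [Subgroup.lowerCentralSeries_succ, Subgroup.top_lowerCentralSeries_one]
    rcases hcl with ⟨hp2, h⟩ | ⟨hp3, h⟩
    · refine le_bot_iff.1 (le_trans (Subgroup.lowerCentralSeries_antitone _ (show 2 ≤ p - 1 from ?_)) (by rw [h2, h]))
      have := (Fact.out : p.Prime).two_le
      omega
    · refine le_bot_iff.1 (le_trans (Subgroup.lowerCentralSeries_antitone _ (show 3 ≤ p - 1 by omega)) ?_)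
      rw [Subgroup.lowerCentralSeries_succ, h2, h]
  have hreg := S4209.result hR hcl3
  have hexp : ∀ z ∈ commutator R, z ^ p ^ 1 = 1 := fun z hz =>
    Regular.pow_eq_one_of_closure (fun a _ b _ ha hb => Regular.mul_pow_eq_one hreg 1 a b ha hb)
      (fun s hs => by rw [pow_one]; exact hs) (hder hz)
  have h := Regular.PolySeq.mul_pow_eq (n := 1) (Fact.out : p.Prime) one_ne_zero hcl3 hexp x y
  rwa [pow_one] at h

end Cfsg.Agent.S0123
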