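import Cfsg.Statements.S0124
import Cfsg.Agent.S4209
import Cfsg.Agent.Regular.Basic

set_option autoImplicit false
open Cfsg

namespace Cfsg.Agent.S0124

/-- For p > 3, in a p-group of class at most three the elements of order dividing p generate a subgroup of exponent dividing p. -/
theorem result {R : Type*} [Group R] [Finite R] {p : ℕ} [Fact p.Prime] (hp : 3 < p) (hR : IsPGroup p R) (hcl : ⁅⁅commutator R, (⊤ : Subgroup R)⁆, (⊤ : Subgroup R)⁆ = ⊥) (g : R) (hg : g ∈ Subgroup.closure {x : R | x ^ p = 1}) : g ^ p = 1 := by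
  have hcl3 : (⊤ : Subgroup R).lowerCentralSeries (p - 1) = ⊥ := by
    refine le_bot_iff.1 (le_trans (Subgroup.lowerCentralSeries_antitone _ (show 3 ≤ p - 1 by omega)) ?_)
    rw [Subgroup.lowerCentralSeries_succ, Subgroup.lowerCentralSeries_succ, Subgroup.top_lowerCentralSeries_one, hcl]
  have hreg := S4209.result hR hcl3
  have := Regular.pow_eq_one_of_closure (q := p ^ 1) (fun a _ b _ ha hb => Regular.mul_pow_eq_one hreg 1 a b ha hb)
    (fun s hs => by rw [pow_one]; exact hs) hg
  rwa [pow_one] at this

end Cfsg.Agent.S0124
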