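import Cfsg.Statements.S0125
import Cfsg.Agent.Fusion.Control
import Cfsg.Agent.Fusion.AbelianNormal
import Cfsg.Agent.Fusion.PGroup

set_option autoImplicit false
open Cfsg

namespace Cfsg.Agent.S0125

/-- The centralizer of a self-centralizing normal subgroup A of a Sylow p-subgroup is the direct product of A with a normal p'-subgroup. -/
theorem result {G : Type*} [Group G] [Finite G] {p : ℕ} [Fact p.Prime] (R : Sylow p G) (A : Subgroup G) (hAR : A ≤ (R : Subgroup G)) (hAn : (R : Subgroup G) ≤ Subgroup.normalizer (A : Set G)) (hC : (R : Subgroup G) ⊓ Subgroup.centralizer (A : Set G) = A) : ∃ H : Subgroup G, H ≤ Subgroup.centralizer (A : Set G) ∧ Nat.Coprime (Nat.card H) p ∧ Subgroup.centralizer (A : Set G) ≤ Subgroup.normalizer (H : Set G) ∧ H ⊓ A = ⊥ ∧ H ⊔ A = Subgroup.centralizer (A : Set G) := by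
  set C := Subgroup.centralizer (A : Set G) with hCdef
  have hAC : A ≤ C := fun a ha => by
    rw [hCdef, Subgroup.mem_centralizer_iff]
    intro b hb
    have h1 : b ∈ C := (hC.ge hb).2
    exact (Subgroup.mem_centralizer_iff.mp h1 a ha).symm
  have hAp : IsPGroup p A := R.2.to_le hAR
  -- `A` is a Sylow subgroup of its centralizer
  have hAi : ¬ p ∣ A.relIndex C := by
    have hRN : ¬ p ∣ ((R : Subgroup G)).relIndex (Subgroup.normalizer (A : Set G)) :=
      fun hd => R.not_dvd_index (hd.trans (Subgroup.relIndex_dvd_index_of_le hAn))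
    obtain ⟨S, hS⟩ := (hAp.comap_subtype (K := C)).exists_le_sylow
    set S' := (S : Subgroup C).map C.subtype with hS'
    have hAS : A ≤ S' := fun a ha => ⟨⟨a, hAC ha⟩, hS ha, rfl⟩
    have hCN : C ≤ Subgroup.normalizer (A : Set G) := Subgroup.centralizer_le_normalizer _
    obtain ⟨m, hm, hle⟩ := Fusion.exists_conjSub_le_of_not_dvd_relIndex hAn R.2 hRN
      ((Subgroup.map_subtype_le _).trans hCN) (S.2.map C.subtype)
    have hle2 : Fusion.conjSub m S' ≤ A := by
      refine le_trans (le_inf hle ?_) hC.le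
      intro x hx
      have hx' := Subgroup.map_subtype_le _ (Fusion.mem_conjSub.mp hx)
      rw [hCdef, Subgroup.mem_centralizer_iff] at hx'
      show x ∈ C
      rw [hCdef, Subgroup.mem_centralizer_iff]
      intro a ha
      have h2 := hx' (m * a * m⁻¹) ((Subgroup.mem_normalizer_iff.mp hm a).mp ha)
      calc a * x = m⁻¹ * ((m * a * m⁻¹) * (m * x * m⁻¹)) * m := by group
        _ = m⁻¹ * ((m * x * m⁻¹) * (m * a * m⁻¹)) * m := by rw [h2]
        _ = x * a := by group
    have hcard : Nat.card S' ≤ Nat.card A :=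
      (Fusion.card_conjSub m S').symm.le.trans (Subgroup.card_le_of_le hle2)
    have hSA : S' = A := (Subgroup.eq_of_le_of_card_ge hAS hcard).symm
    rw [← hSA, hS', Subgroup.relIndex, Subgroup.subgroupOf,
      Subgroup.comap_map_eq_self_of_injective C.subtype_injective]
    exact S.not_dvd_index
  have hcomp : Cfsg.HasNormalPComplement p C :=
    Fusion.hasNormalPComplement_of_normalizer_le_centralizer
      ((hAp.comap_subtype (K := C)).toSylow hAi) fun x _ => Subgroup.mem_centralizer_iff.mpr
        fun y hy => Subtype.ext (Subgroup.mem_centralizer_iff.mp x.2 (y : G) hy)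
  obtain ⟨hcard, hsup⟩ := Fusion.card_map_pResidual_mul hAC hAp hAi hcomp
  set H := (pResidual p C).map C.subtype with hH
  have hHc : Nat.Coprime (Nat.card H) p := by
    rw [hH, Subgroup.card_map_of_injective C.subtype_injective]
    exact Fusion.coprime_card_pResidual_of_hasNormalPComplement hcomp
  refine ⟨H, Subgroup.map_subtype_le _, hHc, fun g hg => ?_, ?_, ?_⟩
  · refine Subgroup.mem_normalizer_iff_map_conj_eq.mpr ?_
    rw [hH, Subgroup.map_map]
    have hn : (pResidual p C).Normal := inferInstance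
    rw [← Subgroup.normalizer_eq_top_iff] at hn
    have h2 := Subgroup.mem_normalizer_iff_map_conj_eq.mp (hn ▸ Subgroup.mem_top (⟨g, hg⟩ : C))
    conv_rhs => rw [← h2, Subgroup.map_map]
    exact congrArg (Subgroup.map · (pResidual p C)) (MonoidHom.ext fun y => by simp)
  · obtain ⟨k, hk⟩ := IsPGroup.iff_card.mp hAp
    exact disjoint_iff.mp (Subgroup.disjoint_of_coprime_natCard (hk ▸ hHc.pow_right k))
  · exact le_antisymm (sup_le (Subgroup.map_subtype_le _) hAC) hsup

end Cfsg.Agent.S0125
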