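import Cfsg.Statements.S0128
import Cfsg.Agent.S4209
import Cfsg.Agent.Regular.Basic
import Cfsg.Agent.Fusion.PGroup
import Cfsg.Agent.MaxClass.OddP
import Cfsg.Agent.Core.Frattini
import Cfsg.Agent.Coprime.Tools

set_option autoImplicit false
open Cfsg

namespace Cfsg.Agent.S0128

open Subgroup in
/-- A p-group of exponent `p` and rank at most two has order at most `p ^ 3`. -/
theorem card_le_cube {E : Type*} [Group E] [Finite E] {p : ℕ} [Fact p.Prime] (hE : IsPGroup p E)
    (hexp : ∀ x : E, x ^ p = 1) (hrk : ∀ A : Subgroup E, IsMulCommutative A → Nat.card A ≤ p ^ 2) :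
    Nat.card E ≤ p ^ 3 := by
  classical
  obtain ⟨A, -, hAn, hA, hmax⟩ := Fusion.exists_maximal_normal_abelian (⊥ : Subgroup E) inferInstance
  have hC := Fusion.centralizer_eq_of_maximal_normal_abelian hE A hA hmax
  have hp := (Fact.out : p.Prime)
  rcases eq_or_ne A ⊥ with hA0 | hA0
  · have : Nat.card E = 1 := by
      have h : centralizer ((⊥ : Subgroup E) : Set E) = ⊤ := by
        rw [eq_top_iff]
        intro x _
        rw [mem_centralizer_iff]
        intro y hy
        rw [SetLike.mem_coe, mem_bot] at hy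
        subst hy
        simp
      rw [hA0, h] at hC
      rw [← card_top, hC, card_bot]
    rw [this]
    exact Nat.one_le_pow _ _ hp.pos
  obtain ⟨Z, hZA, hZc, -, hZp⟩ := Fusion.exists_central_card_prime hE A hA0
  have hA2 := hrk A hA
  obtain ⟨a, ha⟩ := IsPGroup.iff_card.1 (hE.to_subgroup A)
  have ha2 : a ≤ 2 := (Nat.pow_le_pow_iff_right hp.one_lt).1 (ha ▸ hA2)
  have h1 := A.card_mul_index
  rcases Nat.lt_or_ge a 2 with hlt | hge
  · -- `A` is central
    have hAZ : A = Z := (eq_of_le_of_card_ge hZA (by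
      rw [ha, hZp]
      exact (Nat.pow_le_pow_right hp.pos (show a ≤ 1 by omega)).trans_eq (pow_one p))).symm
    have hAtop : A = ⊤ := eq_top_iff.2 fun x _ => hC.le (mem_centralizer_iff.2 fun y hy =>
      (mem_center_iff.1 (hZc (hAZ ▸ hy)) x).symm)
    rw [← card_top, ← hAtop]
    exact hA2.trans (Nat.pow_le_pow_right hp.pos (by norm_num))
  obtain ⟨b, hbA, hbZ⟩ : ∃ b ∈ A, b ∉ Z := SetLike.exists_of_lt (lt_of_le_of_ne hZA fun e => by
    rw [← e, hZp] at ha
    have := Nat.pow_right_injective hp.two_le ((pow_one p).trans ha)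
    omega)
  have hcb : centralizer ({b} : Set E) = A := by
    refine le_antisymm (fun x hx => hC.le (mem_centralizer_iff.2 fun y hy => ?_)) fun x hx =>
      mem_centralizer_singleton_iff.2 (congrArg Subtype.val (hA.is_comm.comm ⟨x, hx⟩ ⟨b, hbA⟩))
    have hgen : A = Z ⊔ zpowers b := by
      refine (eq_of_le_of_card_ge (sup_le hZA (zpowers_le.2 hbA)) ?_).symm
      obtain ⟨s, hs⟩ := IsPGroup.iff_card.1 (hE.to_subgroup (Z ⊔ zpowers b))
      rw [ha, hs]
      have h2 : Nat.card Z < Nat.card (Z ⊔ zpowers b : Subgroup E) :=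
        lt_of_le_of_ne (card_le_of_le le_sup_left) fun e => hbZ
          ((eq_of_le_of_card_ge (le_sup_left : Z ≤ Z ⊔ zpowers b) e.ge).ge (mem_sup_right (mem_zpowers b)))
      rw [hZp, hs] at h2
      have := (Nat.pow_lt_pow_iff_right hp.one_lt).1 ((pow_one p).trans_lt h2)
      exact Nat.pow_le_pow_right hp.pos (by omega)
    rw [SetLike.mem_coe, hgen] at hy
    have : Z ⊔ zpowers b ≤ centralizer ({x} : Set E) := sup_le
      (fun z hz => mem_centralizer_singleton_iff.2 ((mem_center_iff.1 (hZc hz) x).symm))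
      (zpowers_le.2 (mem_centralizer_singleton_iff.2 (mem_centralizer_singleton_iff.1 hx).symm))
    exact mem_centralizer_singleton_iff.1 (this hy)
  -- the conjugacy class of `b` lies in `A`
  let f : E ⧸ A → A := fun q => ⟨q.out * b * q.out⁻¹, hAn.conj_mem b hbA _⟩
  have hf : Function.Injective f := fun q r h => by
    have h' : q.out * b * q.out⁻¹ = r.out * b * r.out⁻¹ := congrArg Subtype.val h
    rw [← Quotient.out_eq q, ← Quotient.out_eq r]
    refine QuotientGroup.eq.2 ?_
    refine hcb.le (mem_centralizer_singleton_iff.2 ?_)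
    calc q.out⁻¹ * r.out * b = q.out⁻¹ * (r.out * b * r.out⁻¹) * r.out := by group
      _ = q.out⁻¹ * (q.out * b * q.out⁻¹) * r.out := by rw [h']
      _ = b * (q.out⁻¹ * r.out) := by group
  have hns : ¬ Function.Surjective f := fun hs => by
    obtain ⟨q, hq⟩ := hs 1
    have : q.out * b * q.out⁻¹ = 1 := congrArg Subtype.val hq
    exact hbZ (conj_eq_one_iff.1 this ▸ Z.one_mem)
  have hlt : Nat.card (E ⧸ A) < Nat.card A := by
    have := Fintype.ofFinite A
    have := Fintype.ofFinite (E ⧸ A)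
    rw [Nat.card_eq_fintype_card, Nat.card_eq_fintype_card]
    exact Fintype.card_lt_of_injective_not_surjective f hf hns
  obtain ⟨c, hc⟩ := hE.index A
  rw [← index_eq_card, hc, ha] at hlt
  have := (Nat.pow_lt_pow_iff_right hp.one_lt).1 hlt
  rw [← h1, ha, hc, ← pow_add]
  exact Nat.pow_le_pow_right hp.pos (by omega)

open Subgroup in
theorem omega_exponent {R : Type*} [Group R] [Finite R] {p : ℕ} [Fact p.Prime] (hp : 3 < p) (hR : IsPGroup p R)
    (hrk : ∀ E : Subgroup R, Cfsg.IsElementaryAbelian p E → Nat.card E ≤ p ^ 2) (H : Subgroup R) :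
    ∀ x ∈ H, ∀ y ∈ H, x ^ p = 1 → y ^ p = 1 → (x * y) ^ p = 1 := by
  induction H using WellFoundedLT.induction with
  | _ H ih =>
  intro x hx y hy hxp hyp
  set H₀ := closure ({x, y} : Set R) with hH₀
  have hle : H₀ ≤ H := (closure_le H).mpr (by rintro z (rfl | rfl) <;> assumption)
  rcases lt_or_eq_of_le hle with hlt | heq
  · exact ih H₀ hlt x (subset_closure (Set.mem_insert _ _)) y (subset_closure (Set.mem_insert_of_mem _ rfl)) hxp hyp
  have hp' := (Fact.out : p.Prime)
  by_cases hzx : zpowers x = H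
  · obtain ⟨k, rfl⟩ := mem_zpowers_iff.1 (hzx.symm ▸ hy : y ∈ zpowers x)
    rw [((Commute.refl x).zpow_right k).mul_pow, hxp, hyp, one_mul]
  set K := (zpowers x).subgroupOf H with hKdef
  have hKne : K ≠ ⊤ := fun e => hzx (le_antisymm (zpowers_le.2 hx) (subgroupOf_eq_top.1 e))
  obtain ⟨M, hM, hKM⟩ := (eq_top_or_exists_le_coatom K).resolve_left hKne
  have hHp := hR.to_subgroup H
  obtain ⟨hMn, -⟩ := Core.index_eq_of_isCoatom hHp hM
  set M' := M.map H.subtype with hM'
  have hM'lt : M' < H := lt_of_le_of_ne (map_subtype_le M) fun e => hM.1 (by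
    apply Subgroup.map_injective H.subtype_injective
    rw [← hM', e, ← MonoidHom.range_eq_map, range_subtype])
  have hxM : x ∈ M' := ⟨⟨x, hx⟩, hKM (mem_subgroupOf.2 (mem_zpowers x)), rfl⟩
  -- the elements of order dividing `p` of `M'`
  let E : Subgroup R :=
    { carrier := {z | z ∈ M' ∧ z ^ p = 1}
      one_mem' := ⟨M'.one_mem, one_pow p⟩
      mul_mem' := fun ha hb => ⟨M'.mul_mem ha.1 hb.1, ih M' hM'lt _ ha.1 _ hb.1 ha.2 hb.2⟩
      inv_mem' := fun {a} ha => ⟨M'.inv_mem ha.1, show a⁻¹ ^ p = 1 by rw [inv_pow, ha.2, inv_one]⟩ }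
  have hEH : E ≤ H := fun z hz => map_subtype_le M hz.1
  have hHE : H ≤ normalizer (E : Set R) := by
    have key : ∀ h ∈ H, ∀ z ∈ E, h * z * h⁻¹ ∈ E := by
      rintro h hh z ⟨⟨m, hm, rfl⟩, hzp⟩
      exact ⟨⟨⟨h, hh⟩ * m * ⟨h, hh⟩⁻¹, hMn.conj_mem m hm _, rfl⟩, by rw [conj_pow, hzp, mul_one, mul_inv_cancel]⟩
    intro h hh
    rw [mem_normalizer_iff]
    refine fun z => ⟨key h hh z, fun hz => ?_⟩
    have := key h⁻¹ (inv_mem hh) _ hz
    simpa [mul_assoc] using this
  have hEc : Nat.card E ≤ p ^ 3 := by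
    refine card_le_cube (hR.to_subgroup E) (fun z => Subtype.ext z.2.2) fun A hA => ?_
    rw [← Nat.card_congr (A.equivMapOfInjective E.subtype E.subtype_injective).symm.toEquiv]
    refine hrk _ ⟨⟨⟨?_⟩⟩, ?_⟩
    · rintro ⟨_, u, hu, rfl⟩ ⟨_, v, hv, rfl⟩
      refine Subtype.ext ?_
      exact congrArg (fun w : A => ((w : E) : R)) (hA.is_comm.comm ⟨u, hu⟩ ⟨v, hv⟩)
    · rintro _ ⟨u, -, rfl⟩
      exact u.2.2
  have hcard : Nat.card H ≤ p ^ 4 := by
    have hyE : zpowers y ≤ normalizer (E : Set R) := (zpowers_le.2 hy).trans hHE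
    have hsup : H = E ⊔ zpowers y := by
      refine le_antisymm ?_ (sup_le hEH (zpowers_le.2 hy))
      rw [← heq, hH₀, closure_le]
      rintro z (rfl | rfl)
      exacts [mem_sup_left ⟨hxM, hxp⟩, mem_sup_right (mem_zpowers z)]
    have hsurj : Nat.card H ≤ Nat.card (E × zpowers y) := by
      refine Nat.card_le_card_of_surjective (fun q => (⟨q.1.1 * q.2.1,
        H.mul_mem (hEH q.1.2) ((zpowers_le.2 hy) q.2.2)⟩ : H)) fun h => ?_
      have hh : (h : R) ∈ E ⊔ zpowers y := hsup ▸ h.2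
      rw [Coprime.mem_sup_of_le_normalizer hyE] at hh
      obtain ⟨e, he, w, hw, hew⟩ := hh
      exact ⟨(⟨e, he⟩, ⟨w, hw⟩), Subtype.ext hew⟩
    rw [Nat.card_prod, Nat.card_zpowers] at hsurj
    have hoy : orderOf y ≤ p := Nat.le_of_dvd hp'.pos (orderOf_dvd_of_pow_eq_one hyp)
    exact hsurj.trans ((Nat.mul_le_mul hEc hoy).trans_eq (pow_succ p 3).symm)
  -- the class of `H` is at most three
  have hcl : (⊤ : Subgroup H).lowerCentralSeries (p - 1) = ⊥ := by
    refine le_bot_iff.1 (le_trans (Subgroup.lowerCentralSeries_antitone _ (show 3 ≤ p - 1 by omega)) ?_)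
    rw [le_bot_iff]
    by_contra h3
    set γ := (⊤ : Subgroup H).lowerCentralSeries
    have hne : ∀ i ≤ 3, γ i ≠ ⊥ := fun i hi h => h3 (le_bot_iff.1
      ((Subgroup.lowerCentralSeries_antitone _ hi).trans h.le))
    have h1 : commutator H ≠ ⊥ := fun h => hne 1 (by norm_num) (top_lowerCentralSeries_one.trans h)
    have hidx := Nat.le_of_dvd (Nat.pos_of_ne_zero index_ne_zero_of_finite) (MaxClass.sq_dvd_index_commutator hHp h1)
    have hc1 := (commutator H).card_mul_index
    have hg1 : Nat.card (γ 1) = Nat.card (commutator H) := by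
      rw [show γ 1 = commutator H from top_lowerCentralSeries_one]
    have hγ1 : Nat.card (γ 1) * p ^ 2 ≤ p ^ 4 := by
      rw [hg1]
      exact ((Nat.mul_le_mul_left _ hidx).trans hc1.le).trans hcard
    have s1 := MaxClass.lcs_step hHp 1 (hne 1 (by norm_num))
    have s2 := MaxClass.lcs_step hHp 2 (hne 2 (by norm_num))
    have s3 := (one_lt_card_iff_ne_bot _).2 (hne 3 le_rfl)
    have hp3 : p ≤ Nat.card (γ 3) := (IsPGroup.card_eq_or_dvd (hHp.to_subgroup (γ 3))).elim
      (fun h => absurd h (by omega)) (Nat.le_of_dvd Nat.card_pos)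
    have h13 : p * (p * p) ≤ Nat.card (γ 1) :=
      ((Nat.mul_le_mul_left p (Nat.mul_le_mul_left p hp3)).trans (Nat.mul_le_mul_left p s2)).trans s1
    have := (Nat.mul_le_mul_right (p ^ 2) h13).trans hγ1
    rw [show p * (p * p) * p ^ 2 = p ^ 5 by ring] at this
    exact absurd ((Nat.pow_le_pow_iff_right hp'.one_lt).1 this) (by norm_num)
  have hreg := S4209.result hHp hcl
  have := Regular.mul_pow_eq_one hreg 1 ⟨x, hx⟩ ⟨y, hy⟩ (Subtype.ext (by simpa using hxp)) (Subtype.ext (by simpa using hyp))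
  simpa using congrArg Subtype.val this

/-- For p > 3, in a p-group of p-rank at most 2 the elements of order dividing p generate a subgroup of exponent dividing p. -/
theorem result {R : Type*} [Group R] [Finite R] {p : ℕ} [Fact p.Prime] (hp : 3 < p) (hR : IsPGroup p R) (hrk : ∀ E : Subgroup R, Cfsg.IsElementaryAbelian p E → Nat.card E ≤ p ^ 2) (g : R) (hg : g ∈ Subgroup.closure {x : R | x ^ p = 1}) : g ^ p = 1 := by
  induction hg using Subgroup.closure_induction with
  | mem s hs => exact hs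
  | one => exact one_pow p
  | mul a b _ _ iha ihb => exact omega_exponent hp hR hrk ⊤ a (Subgroup.mem_top a) b (Subgroup.mem_top b) iha ihb
  | inv a _ iha => rw [inv_pow, iha, inv_one]

end Cfsg.Agent.S0128
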