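import Cfsg.Statements.S0130
import Cfsg.Agent.Fusion.PGroup
import Cfsg.Agent.Coprime.Tools

set_option autoImplicit false
open Cfsg

namespace Cfsg.Agent.S0130

open Subgroup in
open scoped commutatorElement in
/-- An element of order dividing `p ^ n` of the centraliser, with `p`-th power in `A`. -/
theorem descent {G : Type*} [Group G] [Finite G] {p : ℕ} [Fact p.Prime] (hG : IsPGroup p G) (n : ℕ)
    (hn : p ^ n ≠ 2) (A : Subgroup G) [A.Normal] (hA : IsMulCommutative A) (hAe : ∀ a ∈ A, a ^ p ^ n = 1)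
    (hmax : ∀ B : Subgroup G, B.Normal → IsMulCommutative B → (∀ b ∈ B, b ^ p ^ n = 1) → A ≤ B → B = A)
    {L : Subgroup G} [L.Normal] {x : G} (hxC : x ∈ centralizer (A : Set G)) (hxL : x ∈ L) (hxA : x ∉ A)
    (hxn : x ^ p ^ n = 1) (hxp : x ^ p ∈ A) :
    ∃ y : G, y ∈ ⁅L, (⊤ : Subgroup G)⁆ ∧ y ∈ centralizer (A : Set G) ∧ y ∉ A ∧ y ^ p ^ n = 1 ∧ y ^ p ∈ A := by
  set H := A ⊔ zpowers x with hH
  have hxH : x ∈ H := mem_sup_right (mem_zpowers x)
  have hAH : A ≤ H := le_sup_left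
  have hHmem : ∀ h ∈ H, ∃ a ∈ A, ∃ k : ℤ, h = a * x ^ k := by
    intro h hh
    rw [hH, mem_sup_of_normal_left] at hh
    obtain ⟨a, ha, z, hz, rfl⟩ := hh
    obtain ⟨k, rfl⟩ := mem_zpowers_iff.1 hz
    exact ⟨a, ha, k, rfl⟩
  have hcom : ∀ a ∈ A, ∀ k : ℤ, Commute a (x ^ k) := fun a ha k =>
    (show Commute a x from mem_centralizer_iff.1 hxC a ha).zpow_right k
  have hHc : IsMulCommutative H := by
    refine ⟨⟨fun u v => Subtype.ext ?_⟩⟩
    obtain ⟨a, ha, k, hu⟩ := hHmem u u.2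
    obtain ⟨b, hb, l, hv⟩ := hHmem v v.2
    have hab : Commute a b := congrArg Subtype.val (hA.is_comm.comm ⟨a, ha⟩ ⟨b, hb⟩)
    show (u : G) * v = v * u
    rw [hu, hv]
    exact ((hab.mul_right (hcom a ha l)).mul_left (((hcom b hb k).symm).mul_right ((Commute.refl x).zpow_zpow k l))).eq
  have hHe : ∀ h ∈ H, h ^ p ^ n = 1 := by
    intro h hh
    obtain ⟨a, ha, k, rfl⟩ := hHmem h hh
    rw [(hcom a ha k).mul_pow, hAe a ha, one_mul, ← zpow_natCast, ← _root_.zpow_mul, mul_comm k, _root_.zpow_mul,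
      zpow_natCast, hxn, one_zpow]
  have hNtop : normalizer (H : Set G) ≠ ⊤ := fun h => by
    have := normalizer_eq_top_iff.1 h
    exact hxA ((hmax H this hHc hHe hAH) ▸ hxH)
  have := hG.isNilpotent
  obtain ⟨g, hgNN, hgN⟩ : ∃ g, g ∈ normalizer ((normalizer (H : Set G) : Subgroup G) : Set G) ∧
      g ∉ normalizer (H : Set G) :=
    SetLike.exists_of_lt (Group.normalizerCondition_of_isNilpotent (G := G) _ (lt_top_iff_ne_top.2 hNtop))
  set H' := H.map (MulAut.conj g).toMonoidHom with hH'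
  have hcard : Nat.card H' = Nat.card H :=
    Nat.card_congr (H.equivMapOfInjective _ (MulAut.conj g).injective).toEquiv.symm
  have hAH' : A ≤ H' := fun a ha => ⟨g⁻¹ * a * g, hAH (by
    have := Normal.conj_mem (inferInstance : A.Normal) a ha g⁻¹
    rwa [inv_inv] at this), by show g * (g⁻¹ * a * g) * g⁻¹ = a; group⟩
  set x' := g * x * g⁻¹ with hx'
  have hxH' : x' ∈ H' := ⟨x, hxH, rfl⟩
  have hx'C : x' ∈ centralizer (A : Set G) := Normal.conj_mem inferInstance x hxC g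
  have hx'A : x' ^ p ∈ A := by rw [hx', conj_pow]; exact Normal.conj_mem inferInstance _ hxp g
  have hneq : H' ≠ H := fun e => hgN (Cfsg.Agent.Coprime.mem_normalizer_of_conj_smul_eq (by
    rw [Cfsg.Agent.Coprime.conj_smul_eq_map]; exact e))
  have hyA : x⁻¹ * x' ∉ A := fun h => hneq (eq_of_le_of_card_ge (by
    have hx'H : x' ∈ H := by
      have := H.mul_mem hxH (hAH h)
      rwa [mul_inv_cancel_left] at this
    rintro _ ⟨h', hh', rfl⟩
    obtain ⟨a, ha, k, rfl⟩ := hHmem h' hh'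
    show g * (a * x ^ k) * g⁻¹ ∈ H
    rw [show g * (a * x ^ k) * g⁻¹ = (g * a * g⁻¹) * (g * x ^ k * g⁻¹) by group, ← conj_zpow, ← hx']
    exact H.mul_mem (hAH (Normal.conj_mem inferInstance a ha g)) (H.zpow_mem hx'H k)) hcard.ge)
  -- the commutator lies in `H ⊓ H' = A`
  set c := ⁅x', x⁆ with hc
  have hxN : x ∈ normalizer (H : Set G) := le_normalizer hxH
  have hcH : c ∈ H := by
    rw [hc, commutatorElement_def]
    exact H.mul_mem ((mem_normalizer_iff.1 ((mem_normalizer_iff.1 hgNN x).1 hxN) x).1 hxH) (H.inv_mem hxH)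
  have hcH' : c ∈ H' := by
    have h1 : g⁻¹ * x * g ∈ normalizer (H : Set G) := by
      have := (mem_normalizer_iff.1 (inv_mem hgNN) x).1 hxN
      rwa [inv_inv] at this
    refine ⟨x * ((g⁻¹ * x * g) * x⁻¹ * (g⁻¹ * x * g)⁻¹),
      H.mul_mem hxH ((mem_normalizer_iff.1 h1 _).1 (H.inv_mem hxH)), ?_⟩
    show g * _ * g⁻¹ = c
    rw [hc, hx', commutatorElement_def]
    group
  have hcA : c ∈ A := by
    obtain ⟨a, ha, k, hk⟩ := hHmem c hcH
    by_cases hpk : (p : ℤ) ∣ k
    · obtain ⟨m, rfl⟩ := hpk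
      rw [hk, _root_.zpow_mul, zpow_natCast]
      exact A.mul_mem ha (A.zpow_mem hxp m)
    · exfalso
      obtain ⟨s, t, hst⟩ : IsCoprime k (p : ℤ) :=
        ((Nat.prime_iff_prime_int.mp (Fact.out : p.Prime)).coprime_iff_not_dvd.mpr hpk).symm
      have hxk : x ^ k ∈ H' := by
        have := H'.mul_mem (H'.inv_mem (hAH' ha)) hcH'
        rwa [hk, inv_mul_cancel_left] at this
      have hxH'' : x ∈ H' := by
        have : x = (x ^ k) ^ s * (x ^ p) ^ t := by
          rw [← zpow_natCast x p, ← _root_.zpow_mul, ← _root_.zpow_mul, ← _root_.zpow_add, mul_comm k,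
            mul_comm (p : ℤ), hst, zpow_one]
        rw [this]
        exact H'.mul_mem (H'.zpow_mem hxk s) (H'.zpow_mem (hAH' hxp) t)
      exact hneq (eq_of_le_of_card_ge (sup_le hAH' (zpowers_le.2 hxH'')) hcard.le).symm
  have hcx : Commute c x := mem_centralizer_iff.1 hxC c hcA
  have hcx' : Commute c x' := mem_centralizer_iff.1 hx'C c hcA
  have hcp : c ^ p = 1 := by
    have h1 := Cfsg.Agent.Fusion.commute_pow_eq (x := x) (y := x') hc hcx p
    rw [← (mem_centralizer_iff.1 hx'C _ hxp), mul_assoc] at h1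
    exact right_eq_mul.1 h1
  have hc2 : ⁅x', x⁻¹⁆ = c⁻¹ := by
    calc ⁅x', x⁻¹⁆ = x⁻¹ * c⁻¹ * x := by rw [hc, commutatorElement_def, commutatorElement_def]; group
      _ = c⁻¹ := by rw [mul_assoc, hcx.inv_left.eq, inv_mul_cancel_left]
  have hmul := fun m : ℕ => Cfsg.Agent.Fusion.mul_pow_of_commute_commutator (x := x⁻¹) (y := x')
    (hc2 ▸ hcx.inv_inv) (hc2 ▸ hcx'.inv_left) m
  refine ⟨x⁻¹ * x', ?_, (centralizer (A : Set G)).mul_mem (inv_mem hxC) hx'C, hyA, ?_, ?_⟩
  · have := commutator_mem_commutator (L.inv_mem hxL) (mem_top g : g ∈ (⊤ : Subgroup G))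
    simpa [commutatorElement_def, hx', mul_assoc] using this
  · rw [hmul, hc2, inv_pow, hxn, inv_one, one_mul, hx', conj_pow, hxn, mul_one, mul_inv_cancel, one_mul, inv_pow]
    rcases Nat.eq_zero_or_pos n with rfl | hn0
    · simp
    · have h2 : 2 < p ^ n := lt_of_le_of_ne ((Fact.out : p.Prime).two_le.trans (Nat.le_self_pow hn0.ne' p)) (Ne.symm hn)
      obtain ⟨d, hd⟩ := (Fact.out : p.Prime).dvd_choose_pow (show (2 : ℕ) ≠ 0 by norm_num) h2.ne
      rw [hd, pow_mul, hcp, one_pow, inv_one]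
  · rw [hmul, hc2]
    exact A.mul_mem (A.mul_mem (by rw [inv_pow]; exact A.inv_mem hxp) hx'A) (A.pow_mem (A.inv_mem hcA) _)

/-- If A is maximal among the normal abelian subgroups of exponent dividing p^n of a p-group (p^n ≠ 2), then A contains every element of order dividing p^n in its centralizer. -/
theorem result {G : Type*} [Group G] [Finite G] {p : ℕ} [Fact p.Prime] (hG : IsPGroup p G) (n : ℕ) (hn : p ^ n ≠ 2) (A : Subgroup G) [A.Normal] (hA : IsMulCommutative A) (hAe : ∀ a ∈ A, a ^ p ^ n = 1) (hmax : ∀ B : Subgroup G, B.Normal → IsMulCommutative B → (∀ b ∈ B, b ^ p ^ n = 1) → A ≤ B → B = A) (x : G) (hx : x ∈ Subgroup.centralizer (A : Set G)) (hxn : x ^ p ^ n = 1) : x ∈ A := by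
  classical
  by_contra hxA
  have key : ∀ i : ℕ, ∃ z, z ∈ (⊤ : Subgroup G).lowerCentralSeries i ⊔ A ∧
      z ∈ Subgroup.centralizer (A : Set G) ∧ z ∉ A ∧ z ^ p ^ n = 1 ∧ z ^ p ∈ A := by
    intro i
    induction i with
    | zero =>
      have hex : ∃ j, x ^ p ^ j ∈ A := ⟨n, hxn ▸ A.one_mem⟩
      obtain ⟨j, hj⟩ : ∃ j, Nat.find hex = j + 1 := Nat.exists_eq_succ_of_ne_zero fun h0 => hxA (by
        have := Nat.find_spec hex
        rwa [h0, pow_zero, pow_one] at this)
      refine ⟨x ^ p ^ j, Subgroup.mem_sup_left (by simp), (Subgroup.centralizer (A : Set G)).pow_mem hx _,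
        Nat.find_min hex (by omega), ?_, ?_⟩
      · rw [← pow_mul, mul_comm, pow_mul, hxn, one_pow]
      · rw [← pow_mul, ← pow_succ, ← hj]
        exact Nat.find_spec hex
    | succ i ih =>
      obtain ⟨z, hzL, hzC, hzA, hzn, hzp⟩ := ih
      obtain ⟨y, hy, hyC, hyA, hyn, hyp⟩ := descent hG n hn A hA hAe hmax
        (L := (⊤ : Subgroup G).lowerCentralSeries i ⊔ A) hzC hzL hzA hzn hzp
      refine ⟨y, ?_, hyC, hyA, hyn, hyp⟩
      refine (show ⁅(⊤ : Subgroup G).lowerCentralSeries i ⊔ A, (⊤ : Subgroup G)⁆ ≤ _ from ?_) hy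
      rw [Subgroup.commutator_le]
      intro u hu v hv
      rw [Subgroup.mem_sup_of_normal_right] at hu
      obtain ⟨l, hl, a, ha, rfl⟩ := hu
      open scoped commutatorElement in rw [show ⁅l * a, v⁆ = (l * ⁅a, v⁆ * l⁻¹) * ⁅l, v⁆ by simp [commutatorElement_def, mul_assoc]]
      refine mul_mem (Subgroup.mem_sup_right (Subgroup.Normal.conj_mem inferInstance _ ?_ l))
        (Subgroup.mem_sup_left ?_)
      · rw [commutatorElement_def, mul_assoc a, mul_assoc a]
        exact A.mul_mem ha (Subgroup.Normal.conj_mem inferInstance _ (A.inv_mem ha) v)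
      · rw [Subgroup.lowerCentralSeries_succ]
        exact Subgroup.commutator_mem_commutator hl hv
  have := hG.isNilpotent
  obtain ⟨N, hN⟩ := Subgroup.nilpotent_iff_lowerCentralSeries.1 (inferInstance : Group.IsNilpotent G)
  obtain ⟨z, hz, -, hzA, -⟩ := key N
  rw [hN, bot_sup_eq] at hz
  exact hzA hz

end Cfsg.Agent.S0130
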