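import Cfsg.Statements.S0131
import Cfsg.Agent.Fusion.Transfer

set_option autoImplicit false
open Cfsg

open scoped commutatorElement

namespace Cfsg.Agent.S0131

/-- P/P' has a normal complement in G exactly when the focal subgroup G' ∩ P is as small as possible, namely P'. -/
theorem result {G : Type*} [Group G] [Finite G] {p : ℕ} [Fact p.Prime] (P : Sylow p G) : (∃ N : Subgroup G, N.Normal ∧ N ⊓ (P : Subgroup G) = ⁅(P : Subgroup G), (P : Subgroup G)⁆ ∧ N ⊔ (P : Subgroup G) = ⊤) ↔ commutator G ⊓ (P : Subgroup G) = ⁅(P : Subgroup G), (P : Subgroup G)⁆ := by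
  constructor
  · rintro ⟨N, hN, hNP, hsup⟩
    refine le_antisymm ?_ (le_inf (Subgroup.commutator_mono le_top le_top)
      (Subgroup.commutator_le_self _))
    refine le_trans (inf_le_inf_right _ ?_) hNP.le
    have hq : IsMulCommutative (G ⧸ N) := by
      refine ⟨⟨fun a b => ?_⟩⟩
      have key : ∀ a : G ⧸ N, ∃ x ∈ (P : Subgroup G), (x : G ⧸ N) = a := by
        intro a
        obtain ⟨g, rfl⟩ := QuotientGroup.mk_surjective a
        have hg : g ∈ ((N ⊔ (P : Subgroup G) : Subgroup G) : Set G) := by rw [hsup]; trivial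
        rw [Subgroup.normal_mul] at hg
        obtain ⟨n, hn, x, hx, rfl⟩ := hg
        exact ⟨x, hx, by rw [QuotientGroup.mk_mul, (QuotientGroup.eq_one_iff n).mpr hn, one_mul]⟩
      obtain ⟨x, hx, rfl⟩ := key a
      obtain ⟨y, hy, rfl⟩ := key b
      have hc : ⁅x⁻¹, y⁻¹⁆ ∈ N :=
        (hNP.ge (Subgroup.commutator_mem_commutator (inv_mem hx) (inv_mem hy))).1
      rw [← QuotientGroup.mk_mul, ← QuotientGroup.mk_mul, eq_comm, QuotientGroup.eq]
      simpa [commutatorElement_def, mul_assoc] using hc
    exact Subgroup.Normal.quotient_commutative_iff_commutator_le.mp hq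
  · intro h
    refine ⟨(P : Subgroup G).transferFocal.ker, inferInstance, ?_, ?_⟩
    · rw [Subgroup.ker_transferFocal_inf_eq_focalSubgroup P,
        ← Subgroup.commutator_inf_eq_focalSubgroup P, h]
    · rw [sup_comm]
      refine Fusion.sylow_sup_eq_top_of_isPGroup_quotient P _ ?_
      exact (P.2.to_quotient _).of_equiv
        (Subgroup.transferFocal.quotientKerMulEquivQuotientFocalSubroupOf P).symm

end Cfsg.Agent.S0131
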