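import Cfsg.Statements.S0158
import Cfsg.Agent.Char.FS
-- import your own Cfsg.Agent.* helpers here

set_option autoImplicit false
open Cfsg

namespace Cfsg.Agent.S0158

/-- The Frobenius–Schur indicator of an irreducible complex representation of a finite group — the average over s of the character at s * s — is 0, 1 or −1, and it vanishes exactly when some character value is not real. -/
theorem result {G : Type*} [Group G] [Fintype G] {V : Type*} [AddCommGroup V] [Module ℂ V] [FiniteDimensional ℂ V] (ρ : Representation ℂ G V) [ρ.IsIrreducible] : ((Nat.card G : ℂ)⁻¹ * ∑ s : G, ρ.character (s * s) = 0 ∨ (Nat.card G : ℂ)⁻¹ * ∑ s : G, ρ.character (s * s) = 1 ∨ (Nat.card G : ℂ)⁻¹ * ∑ s : G, ρ.character (s * s) = -1) ∧ ((Nat.card G : ℂ)⁻¹ * ∑ s : G, ρ.character (s * s) = 0 ↔ ∃ s : G, (ρ.character s).im ≠ 0) := by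
  classical
  set χ : IrrCharacter G := ⟨ρ.character, Char.isIrrCharacter_of_rep ρ ‹_›⟩ with hχ
  have h := Char.fsInd_irr χ
  have hr := Char.conjIrr_eq_iff χ
  simp only [Char.fsInd, hχ] at h
  simp only [hχ] at hr
  rcases h with ⟨h0, hne⟩ | ⟨hpm, he⟩
  · refine ⟨Or.inl h0, iff_of_true h0 ?_⟩
    by_contra hc
    push_neg at hc
    exact hne (hr.2 hc)
  · refine ⟨Or.inr hpm, iff_of_false ?_ fun ⟨s, hs⟩ => hs (hr.1 he s)⟩
    rcases hpm with h | h <;> rw [h] <;> norm_num

end Cfsg.Agent.S0158
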