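import Cfsg.Statements.S0160
import Cfsg.Agent.Char.FS
-- import your own Cfsg.Agent.* helpers here

set_option autoImplicit false
open Cfsg

namespace Cfsg.Agent.S0160

/-- A finite group has as many real-valued irreducible complex characters as conjugacy classes closed under taking inverses. -/
theorem result {G : Type*} [Group G] [Finite G] : Nat.card {χ : Cfsg.IrrCharacter G // ∀ g : G, ((χ : G → ℂ) g).im = 0} = Nat.card {C : ConjClasses G // ∀ g : G, ConjClasses.mk g = C → IsConj g g⁻¹} := by
  classical
  have := Fintype.ofFinite G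
  let τ : ConjClasses G → ConjClasses G := Quotient.lift (fun g : G => ConjClasses.mk g⁻¹)
    fun a b hab => ConjClasses.mk_eq_mk_iff_isConj.2 (by
      obtain ⟨c, rfl⟩ := isConj_iff.1 hab
      exact isConj_iff.2 ⟨c, by group⟩)
  have key := Char.brauer_permutation (G := G) Char.conjIrr τ fun χ g g' h => by
    rw [Char.conjIrr_apply, ← Char.IsChar.inv_eq_conj (Char.IsIrr.isCharacter χ.2)]
    exact Char.classFun_isConj (Char.isClassFunction_of_isIrr χ.2)
      (ConjClasses.mk_eq_mk_iff_isConj.1 h)
  refine ((Nat.card_congr (Equiv.subtypeEquivRight fun χ => ?_)).trans key).trans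
    (Nat.card_congr (Equiv.subtypeEquivRight fun C => ?_))
  · exact (Char.conjIrr_eq_iff χ).symm
  · constructor
    · rintro h g rfl
      exact (ConjClasses.mk_eq_mk_iff_isConj.1 h).symm
    · intro h
      obtain ⟨g, rfl⟩ := ConjClasses.mk_surjective C
      exact ConjClasses.mk_eq_mk_iff_isConj.2 (h g rfl).symm

end Cfsg.Agent.S0160
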