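import Cfsg.Statements.S0162
import Cfsg.Agent.Char.Perm
-- import your own Cfsg.Agent.* helpers here

set_option autoImplicit false
open Cfsg

namespace Cfsg.Agent.S0162

/-- If a finite group has odd order, its order is congruent to its number of conjugacy classes modulo 16. -/
theorem result {G : Type*} [Group G] [Finite G] (hodd : Odd (Nat.card G)) : Nat.card G ≡ Nat.card (ConjClasses G) [MOD 16] := by
  classical
  have := Fintype.ofFinite G
  obtain ⟨d, hd⟩ : ∃ d : Cfsg.IrrCharacter G → ℕ, ∀ χ : Cfsg.IrrCharacter G, (χ : G → ℂ) 1 = d χ := by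
    choose d hd using fun χ : Cfsg.IrrCharacter G => Char.IsIrr.degree χ.2
    exact ⟨d, fun χ => (hd χ).2⟩
  have hsum : Nat.card G = ∑ χ, d χ ^ 2 := by
    have h := Char.sum_sq_degree (G := G)
    simp only [hd] at h
    exact_mod_cast h.symm
  suffices h : (((∑ χ, d χ ^ 2 : ℕ)) : ZMod 16) = (Fintype.card (Cfsg.IrrCharacter G) : ZMod 16) by
    rw [← Char.card_irrCharacter, Nat.card_eq_fintype_card (α := Cfsg.IrrCharacter G), hsum]
    exact (ZMod.natCast_eq_natCast_iff _ _ _).1 h
  rw [← Finset.card_univ, Nat.cast_sum, ← sub_eq_zero, Finset.cast_card, ← Finset.sum_sub_distrib]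
  have hodd8 : ∀ χ, ∃ j : ℕ, d χ ^ 2 = 8 * j + 1 := fun χ => by
    obtain ⟨a, ha⟩ := hodd.of_dvd_nat (Char.IsIrr.degree_dvd_card χ.2 (hd χ))
    obtain ⟨b, hb⟩ := Nat.even_mul_succ_self a
    exact ⟨b, by rw [ha]; ring_nf; ring_nf at hb; omega⟩
  let e := Fintype.equivFin (Cfsg.IrrCharacter G)
  set F := fun χ : Cfsg.IrrCharacter G => ((d χ ^ 2 : ℕ) : ZMod 16) - 1 with hF
  refine Finset.sum_involution (fun χ _ => Char.conjIrr χ) (fun χ _ => ?_) (fun χ _ hne hfix => hne ?_)
    (fun _ _ => Finset.mem_univ _) (fun χ _ => Char.conjIrr_conjIrr χ)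
  · have he : d (Char.conjIrr χ) = d χ := by
      have h1 : ((d (Char.conjIrr χ) : ℕ) : ℂ) = d χ := by
        rw [← hd, Char.conjIrr_apply, hd, Complex.conj_natCast]
      exact_mod_cast h1
    obtain ⟨j, hj⟩ := hodd8 χ
    rw [he, hj]
    push_cast
    have h16 : (16 : ZMod 16) = 0 := rfl
    linear_combination (j : ZMod 16) * h16
  · have htriv := Char.real_irr_eq_one hodd χ.2 fun g => Complex.conj_eq_iff_im.1
      (congrArg (fun ψ : Cfsg.IrrCharacter G => (ψ : G → ℂ) g) hfix)
    have h1 : d χ = 1 := by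
      have h2 := hd χ
      rw [htriv] at h2
      simp only at h2
      exact_mod_cast h2.symm
    simp [h1]

end Cfsg.Agent.S0162
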