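import Cfsg.Statements.S0167
import Cfsg.Agent.Char.ClassAlg
-- import your own Cfsg.Agent.* helpers here

set_option autoImplicit false
open Cfsg

namespace Cfsg.Agent.S0167

/-- An element g of a finite group is a commutator if and only if the sum over the irreducible characters χ of χ g / χ 1 is nonzero. -/
theorem result {G : Type*} [Group G] [Finite G] (g : G) : (∃ a b : G, g = a * b * a⁻¹ * b⁻¹) ↔ ∑ᶠ χ : Cfsg.IrrCharacter G, (χ : G → ℂ) g / (χ : G → ℂ) 1 ≠ 0 := by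
  classical
  have := Fintype.ofFinite G
  rw [finsum_eq_sum_of_fintype]
  let f : G → ℂ := fun g => (Nat.card {p : G × G // p.1 * p.2 * p.1⁻¹ * p.2⁻¹ = g} : ℂ)
  have hf : Cfsg.IsClassFunction G f := by
    intro x k
    refine congrArg Nat.cast (Nat.card_congr (Equiv.subtypeEquiv
      ((MulAut.conj k⁻¹).toEquiv.prodCongr (MulAut.conj k⁻¹).toEquiv) fun p => ?_))
    show _ ↔ MulAut.conj k⁻¹ p.1 * MulAut.conj k⁻¹ p.2 * (MulAut.conj k⁻¹ p.1)⁻¹ *
      (MulAut.conj k⁻¹ p.2)⁻¹ = x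
    rw [← map_inv, ← map_inv, ← map_mul, ← map_mul, ← map_mul,
      ← (MulAut.conj k⁻¹).injective.eq_iff]
    refine iff_of_eq (congrArg _ ?_)
    simp [mul_assoc]
  have hcoef : ∀ χ : Cfsg.IrrCharacter G,
      Cfsg.classInner f (χ : G → ℂ) = (Nat.card G : ℂ) / (χ : G → ℂ) 1 := by
    intro χ
    have hsum : ∑ g, f g * starRingEnd ℂ ((χ : G → ℂ) g) =
        starRingEnd ℂ (∑ p : G × G, (χ : G → ℂ) (p.1 * p.2 * p.1⁻¹ * p.2⁻¹)) := by
      rw [map_sum]
      conv_rhs => rw [← Finset.sum_fiberwise Finset.univ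
        (fun p : G × G => p.1 * p.2 * p.1⁻¹ * p.2⁻¹)]
      refine Finset.sum_congr rfl fun y _ => Eq.symm ?_
      rw [Finset.sum_congr rfl fun s hs => by rw [(Finset.mem_filter.1 hs).2], Finset.sum_const,
        nsmul_eq_mul, ← Fintype.card_subtype, ← Nat.card_eq_fintype_card]
    have hne := Char.IsIrr.one_ne_zero χ.2
    have hnorm : ∑ b : G, (χ : G → ℂ) b * starRingEnd ℂ ((χ : G → ℂ) b) = Nat.card G := by
      have h1 := Char.classInner_irr_self χ.2
      rw [Cfsg.classInner, inv_mul_eq_one₀ Char.card_ne_zero] at h1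
      exact h1.symm
    have hpair : ∑ p : G × G, (χ : G → ℂ) (p.1 * p.2 * p.1⁻¹ * p.2⁻¹) =
        (Nat.card G : ℂ) * Nat.card G / (χ : G → ℂ) 1 := by
      rw [eq_div_iff hne, Fintype.sum_prod_type, Finset.sum_comm, mul_comm, Finset.mul_sum]
      simp only [Char.sum_conj_mul χ.2, Char.IsChar.inv_eq_conj (Char.IsIrr.isCharacter χ.2)]
      simp only [mul_assoc, ← Finset.mul_sum, hnorm]
    obtain ⟨n, -, hn⟩ := Char.IsIrr.degree χ.2
    rw [Cfsg.classInner, hsum, hpair, hn]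
    simp only [map_div₀, map_mul, map_natCast]
    rw [← mul_div_assoc, ← mul_assoc, inv_mul_cancel₀ Char.card_ne_zero, one_mul]
  have key : f g = (Nat.card G : ℂ) * ∑ χ : Cfsg.IrrCharacter G, (χ : G → ℂ) g / (χ : G → ℂ) 1 := by
    refine (congrFun (Char.classFun_expansion hf) g).trans ?_
    simp only [Finset.sum_apply, Pi.smul_apply, smul_eq_mul, hcoef, Finset.mul_sum]
    exact Finset.sum_congr rfl fun χ _ => by ring
  have hiff : f g ≠ 0 ↔ ∃ a b : G, g = a * b * a⁻¹ * b⁻¹ := by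
    show (Nat.card _ : ℂ) ≠ 0 ↔ _
    rw [Nat.cast_ne_zero, ← Nat.pos_iff_ne_zero, Nat.card_pos_iff]
    exact ⟨fun ⟨⟨⟨p, hp⟩⟩, _⟩ => ⟨p.1, p.2, hp.symm⟩, fun ⟨a, b, h⟩ => ⟨⟨⟨(a, b), h.symm⟩⟩, inferInstance⟩⟩
  rw [← hiff, key, mul_ne_zero_iff, and_iff_right Char.card_ne_zero]

end Cfsg.Agent.S0167
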