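import Cfsg.Statements.S0168
import Cfsg.Agent.Char.Linear
-- import your own Cfsg.Agent.* helpers here

set_option autoImplicit false
open Cfsg

namespace Cfsg.Agent.S0168

/-- The Burnside–Brauer Theorem. Let χ be the character of a faithful complex representation of a finite group, taking m distinct values. Then every irreducible character has nonzero inner product with χ ^ i for some i < m. -/
theorem result {G : Type*} [Group G] [Fintype G] {V : Type*} [AddCommGroup V] [Module ℂ V] [FiniteDimensional ℂ V] (ρ : Representation ℂ G V) (hfaithful : Function.Injective ρ) (ψ : G → ℂ) (hψ : Cfsg.IsIrrCharacter G ψ) : ∃ i : ℕ, i < Nat.card (Set.range ρ.character) ∧ Cfsg.classInner (fun g => ρ.character g ^ i) ψ ≠ 0 := by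
  classical
  by_contra! hall
  have : Fintype (Set.range ρ.character) := Set.fintypeRange ρ.character
  set R := Finset.univ.image ρ.character with hR
  have hcard : R.card = Nat.card (Set.range ρ.character) := by
    rw [hR, ← Nat.card_eq_finsetCard]
    exact Nat.card_congr (Equiv.subtypeEquivRight fun z => by simp [Set.mem_range])
  set a := ρ.character 1 with ha
  let p : Polynomial ℂ := ∏ b ∈ R.erase a, (Polynomial.X - Polynomial.C b)
  have hdeg : p.natDegree < R.card := by
    rw [Polynomial.natDegree_prod _ _ fun b _ => Polynomial.X_sub_C_ne_zero b]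
    simp only [Polynomial.natDegree_X_sub_C, Finset.sum_const, smul_eq_mul, mul_one]
    exact Finset.card_erase_lt_of_mem (Finset.mem_image_of_mem _ (Finset.mem_univ _))
  have hone : ∀ g, p.eval (ρ.character g) ≠ 0 → g = 1 := by
    intro g hg
    refine hfaithful ?_
    rw [map_one]
    refine (Char.character_eq_finrank_iff ρ g).1 ?_
    by_contra hne
    refine hg ?_
    rw [Polynomial.eval_prod]
    refine Finset.prod_eq_zero (i := ρ.character g) (Finset.mem_erase.2 ⟨?_, by simp [hR]⟩) (by simp)
    rwa [ha, ρ.char_one]
  have hzero : ∑ g, p.eval (ρ.character g) * starRingEnd ℂ (ψ g) = 0 := by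
    simp only [Polynomial.eval_eq_sum_range' hdeg, Finset.sum_mul]
    rw [Finset.sum_comm]
    refine Finset.sum_eq_zero fun i hi => ?_
    have h := hall i (hcard ▸ Finset.mem_range.1 hi)
    simp only [Cfsg.classInner, mul_eq_zero, inv_eq_zero, Char.card_ne_zero, false_or] at h
    simp only [mul_assoc, ← Finset.mul_sum, h, mul_zero]
  rw [Finset.sum_eq_single 1 (fun g _ hg => by
    by_contra hne
    exact hg (hone g (left_ne_zero_of_mul hne))) (by simp)] at hzero
  rcases mul_eq_zero.1 hzero with h | h
  · rw [Polynomial.eval_prod, Finset.prod_eq_zero_iff] at h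
    obtain ⟨b, hb, h⟩ := h
    rw [Polynomial.eval_sub, Polynomial.eval_X, Polynomial.eval_C, sub_eq_zero] at h
    exact (Finset.mem_erase.1 hb).1 h.symm
  · exact Char.IsIrr.one_ne_zero hψ ((map_eq_zero (starRingEnd ℂ)).1 h)

end Cfsg.Agent.S0168
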