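import Cfsg.Statements.S0170
import Cfsg.Agent.S0150
import Cfsg.Agent.S0198
import Cfsg.Agent.Char.Gen
-- import your own Cfsg.Agent.* helpers here

set_option autoImplicit false
open Cfsg

namespace Cfsg.Agent.S0170

/-- Exceptional characters. Let S be a subset of a finite group contained in its normalizer N and meeting its conjugates by elements outside N only in the identity. Given n ≥ 2 distinct irreducible characters of N of equal degree that vanish on N away from S, there exist a sign ε and n distinct irreducible characters θ_i of G such that inducing χ_i − χ_j to G gives ε (θ_i − θ_j) for all i, j. -/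
theorem result {G : Type*} [Group G] [Fintype G] (S : Set G) (hSN : S ⊆ Subgroup.normalizer S) (hTI : ∀ g : G, g ∉ Subgroup.normalizer S → ∀ s ∈ S, g * s * g⁻¹ ∈ S → s = 1) (n : ℕ) (hn : 2 ≤ n) (χ : Fin n → (Subgroup.normalizer S → ℂ)) (hirr : ∀ i, Cfsg.IsIrrCharacter (Subgroup.normalizer S) (χ i)) (hinj : Function.Injective χ) (hvan : ∀ i, ∀ x : Subgroup.normalizer S, (x : G) ∉ S → χ i x = 0) (hdeg : ∀ i j, χ i 1 = χ j 1) : ∃ ε : ℂ, (ε = 1 ∨ ε = -1) ∧ ∃ θ : Fin n → (G → ℂ), (∀ i, Cfsg.IsIrrCharacter G (θ i)) ∧ Function.Injective θ ∧ ∀ i j, Cfsg.indFun (Subgroup.normalizer S) (χ i) - Cfsg.indFun (Subgroup.normalizer S) (χ j) = ε • (θ i - θ j) := by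
  classical
  have i₀ : Fin n := ⟨0, by omega⟩
  have hcl := fun i => Char.isClassFunction_of_isIrr (hirr i)
  have hd : ∀ i j, Cfsg.IsClassFunction _ (χ i - χ j) := fun i j g k => by
    simp [hcl i g k, hcl j g k]
  have hv : ∀ i j, ∀ x : Subgroup.normalizer S, (x : G) ∉ S → (χ i - χ j) x = 0 :=
    fun i j x hx => by simp [hvan i x hx, hvan j x hx]
  have h1 : ∀ i j, (χ i - χ j) 1 = 0 := fun i j => by simp [hdeg i j]
  obtain ⟨ε, hε, μ, hμ, hinjμ, heq⟩ := Cfsg.Agent.S0198.result n i₀
    (fun i => Cfsg.indFun (Subgroup.normalizer S) (χ i - χ i₀)) (by simp [Char.indFun_zero])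
    (fun i => Char.isGeneralized_indFun _ (Char.isGeneralized_sub
      (Char.isGeneralized_of_isCharacter (Char.IsIrr.isCharacter (hirr i)))
      (Char.isGeneralized_of_isCharacter (Char.IsIrr.isCharacter (hirr i₀)))))
    (fun i => by simp [Char.indFun_apply_one, hdeg i i₀]) (fun i j hi hj => by
      rw [Cfsg.Agent.S0150.result S hTI hSN _ _ (hd i i₀) (hd j i₀) (hv i i₀) (hv j i₀) (h1 i i₀)]
      simp only [Char.classInner_sub_left, Char.classInner_sub_right,
        Char.classInner_irr (hirr _) (hirr _), hinj.eq_iff, if_neg hi, if_neg (Ne.symm hj)]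
      split_ifs <;> norm_num)
  refine ⟨ε, hε, μ, hμ, hinjμ, fun i j => ?_⟩
  have hi := heq i
  have hj := heq j
  simp only [Char.indFun_sub] at hi hj
  rw [← sub_sub_sub_cancel_right _ _ (Cfsg.indFun (Subgroup.normalizer S) (χ i₀)), hi, hj,
    ← smul_sub, sub_sub_sub_cancel_right]

end Cfsg.Agent.S0170
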