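import Cfsg.Statements.S0173
import Cfsg.Agent.Char.Perm
-- import your own Cfsg.Agent.* helpers here

set_option autoImplicit false
open Cfsg

namespace Cfsg.Agent.S0173

/-- Brauer's permutation lemma for a single automorphism: the number of conjugacy classes mapped to themselves equals the number of irreducible complex characters χ with χ ∘ α = χ. -/
theorem result {G : Type*} [Group G] [Finite G] (α : G ≃* G) : Nat.card {C : ConjClasses G // ConjClasses.map α.toMonoidHom C = C} = Nat.card {χ : Cfsg.IrrCharacter G // (χ : G → ℂ) ∘ α = (χ : G → ℂ)} := by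
  have hirr : ∀ χ : Cfsg.IrrCharacter G, Cfsg.IsIrrCharacter G ((χ : G → ℂ) ∘ α) := fun χ =>
    (Char.isIrrCharacter_comp_equiv α).2 χ.2
  have key := Char.brauer_permutation (fun χ => ⟨_, hirr χ⟩) (ConjClasses.map α.toMonoidHom) ?_
  · rw [← key]
    exact Nat.card_congr (Equiv.subtypeEquivRight fun χ => Subtype.ext_iff)
  · intro χ g g' h
    exact Char.classFun_isConj (Char.isClassFunction_of_isIrr χ.2)
      (ConjClasses.mk_eq_mk_iff_isConj.1 h)

end Cfsg.Agent.S0173
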