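import Cfsg.Statements.S0175
import Cfsg.Agent.Char.Linear
import Cfsg.Agent.Char.Induced
-- import your own Cfsg.Agent.* helpers here

set_option autoImplicit false
open scoped commutatorElement
open Cfsg

namespace Cfsg.Agent.S0175

/-- Taketa's Theorem on M-groups: if every irreducible complex character of a finite group is induced from a linear character (a homomorphism to ℂˣ) of some subgroup, the group is solvable. -/
theorem result {G : Type*} [Group G] [Fintype G] (hM : ∀ χ : G → ℂ, Cfsg.IsIrrCharacter G χ → ∃ (H : Subgroup G) (lam : H →* ℂˣ), χ = Cfsg.indFun H (fun h => (lam h : ℂ))) : Group.IsSolvable G := by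
  classical
  have key : ∀ m : ℕ, ∀ χ : G → ℂ, Cfsg.IsIrrCharacter G χ → (χ 1).re ≤ (m : ℝ) →
      ∀ g ∈ derivedSeries G m, χ g = χ 1 := by
    intro m
    induction m with
    | zero =>
      intro χ hχ hle
      obtain ⟨n, hn0, hn⟩ := Char.IsIrr.degree hχ
      rw [hn, Complex.natCast_re] at hle
      exact absurd (by exact_mod_cast hle : n ≤ 0) (by omega)
    | succ m ih =>
      intro χ hχ hle g hg
      obtain ⟨n, hn0, hn⟩ := Char.IsIrr.degree hχ
      rw [hn, Complex.natCast_re] at hle
      have hle' : n ≤ m + 1 := by exact_mod_cast hle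
      by_cases hsmall : n ≤ m
      · exact ih χ hχ (by rw [hn, Complex.natCast_re]; exact_mod_cast hsmall) g
          (derivedSeries_antitone G (Nat.le_succ m) hg)
      by_cases hm : m = 0
      · subst hm
        obtain ⟨f, hf⟩ := Char.IsChar.exists_hom (Char.IsIrr.isCharacter hχ)
          (by rw [hn, show n = 1 by omega, Nat.cast_one])
        have hg' : g ∈ commutator G := by rwa [derivedSeries_one] at hg
        rw [hf]; simp [Char.hom_commutator_eq_one f hg']
      obtain ⟨H, lam, rfl⟩ := hM χ hχ
      have hidx : H.index = n := by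
        have h1 := hn
        rw [Char.indFun_apply_one] at h1
        simp only [map_one, Units.val_one, mul_one] at h1
        exact_mod_cast h1
      have hone : Cfsg.IsCharacter H (fun _ : H => (1 : ℂ)) := Char.isCharacter_one
      have hπ := Char.isCharacter_indFun H hone
      have hπ1 : Cfsg.indFun H (fun _ : H => (1 : ℂ)) 1 = n := by
        rw [Char.indFun_apply_one, hidx, mul_one]
      have := Fintype.ofFinite H
      have hc : Cfsg.classInner (Cfsg.indFun H (fun _ : H => (1 : ℂ))) (fun _ => 1) ≠ 0 := by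
        rw [Char.classInner_indFun_left H _ (Char.isClassFunction_of_isIrr Char.isIrrCharacter_one),
          Char.classInner_irr_self Char.isIrrCharacter_one]
        exact one_ne_zero
      have hrest := Char.IsChar.sub_constituent hπ Char.isIrrCharacter_one hc
      have hker : ∀ d ∈ derivedSeries G m, Cfsg.indFun H (fun _ : H => (1 : ℂ)) d = n := by
        intro d hd
        obtain ⟨mu, hmu, he, -⟩ := Char.IsChar.exists_mult hrest
        have h1 : ∀ ψ : Cfsg.IrrCharacter G, mu ψ ≠ 0 → (ψ : G → ℂ) d = (ψ : G → ℂ) 1 := by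
          intro ψ hψ
          refine ih ψ ψ.2 ?_ d hd
          refine (Char.IsChar.constituent_degree_le hrest ψ.2 (by
            rw [hmu]; exact_mod_cast hψ)).trans ?_
          rw [Pi.sub_apply, hπ1, Complex.sub_re, Complex.natCast_re, Complex.one_re,
            show n = m + 1 by omega]
          push_cast; simp
        have h2 : (Cfsg.indFun H (fun _ : H => (1 : ℂ)) - fun _ : G => (1 : ℂ)) d =
            (Cfsg.indFun H (fun _ : H => (1 : ℂ)) - fun _ : G => (1 : ℂ)) 1 := by
          rw [congrFun he d, congrFun he 1]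
          simp only [Finset.sum_apply, Pi.smul_apply, smul_eq_mul]
          refine Finset.sum_congr rfl fun ψ _ => ?_
          by_cases hψ : mu ψ = 0
          · simp [hψ]
          · rw [h1 ψ hψ]
        simpa [hπ1] using h2
      have hDH : derivedSeries G m ≤ H := by
        intro d hd
        by_contra hdH
        have h1 := hker d hd
        have hlt : ∑ x : G, (Cfsg.extendByZero H (fun _ => (1 : ℂ)) (x⁻¹ * d * x)).re <
            ∑ _x : G, (1 : ℝ) := by
          refine Finset.sum_lt_sum (fun x _ => ?_) ⟨1, Finset.mem_univ _, ?_⟩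
          · by_cases hx : x⁻¹ * d * x ∈ H
            · simp [Char.extendByZero_of_mem H _ hx]
            · simp [Char.extendByZero_of_not_mem H _ hx]
          · rw [Char.extendByZero_of_not_mem H _ (show (1 : G)⁻¹ * d * 1 ∉ H by simpa using hdH)]
            simp
        rw [← Complex.re_sum] at hlt
        have hH : (Nat.card H : ℂ) ≠ 0 := Nat.cast_ne_zero.2 Nat.card_pos.ne'
        rw [Char.indFun_apply, inv_mul_eq_iff_eq_mul₀ hH] at h1
        rw [h1, ← hidx, ← Nat.cast_mul, Subgroup.card_mul_index] at hlt
        simp [Nat.card_eq_fintype_card] at hlt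
      have hgD : g ∈ ⁅derivedSeries G m, derivedSeries G m⁆ := by rwa [← derivedSeries_succ]
      have hgen : ∀ x : G, x⁻¹ * g * x ∈ H ∧ ∀ h, lam ⟨x⁻¹ * g * x, h⟩ = 1 := by
        intro x
        have hN : (derivedSeries G (m + 1)).Normal := derivedSeries_normal G _
        have hx : x⁻¹ * g * x ∈ ⁅derivedSeries G m, derivedSeries G m⁆ := by
          have := hN.conj_mem g hg x⁻¹
          rw [derivedSeries_succ] at this
          simpa using this
        let T : Subgroup G := (MonoidHom.ker lam).map H.subtype
        have hT : ⁅derivedSeries G m, derivedSeries G m⁆ ≤ T := by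
          rw [Subgroup.commutator_le]
          intro a ha b hb
          refine ⟨⁅(⟨a, hDH ha⟩ : H), ⟨b, hDH hb⟩⁆, ?_, rfl⟩
          rw [SetLike.mem_coe, MonoidHom.mem_ker, map_commutatorElement,
            commutatorElement_eq_one_iff_mul_comm]
          exact mul_comm _ _
        obtain ⟨y, hy, hye⟩ := hT hx
        have hmem : x⁻¹ * g * x ∈ H := hye ▸ y.2
        refine ⟨hmem, fun h => ?_⟩
        rw [show (⟨x⁻¹ * g * x, h⟩ : H) = y from Subtype.ext hye.symm]
        exact hy
      rw [hn, Char.indFun_apply]
      have hterm : ∀ x : G, Cfsg.extendByZero H (fun h => (lam h : ℂ)) (x⁻¹ * g * x) = 1 := fun x => by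
        rw [Char.extendByZero_of_mem H _ (hgen x).1, (hgen x).2, Units.val_one]
      rw [Finset.sum_congr rfl fun x _ => hterm x, Finset.sum_const, Finset.card_univ, nsmul_eq_mul,
        mul_one, ← Nat.card_eq_fintype_card, ← Subgroup.card_mul_index H, hidx, Nat.cast_mul,
        ← mul_assoc, inv_mul_cancel₀ (Nat.cast_ne_zero.2 Nat.card_pos.ne'), one_mul]
  rw [Group.isSolvable_def]
  refine ⟨Nat.card G, Subgroup.eq_bot_iff_forall _ |>.2 fun g hg => ?_⟩
  refine Char.eq_one_of_forall_irr fun χ => key _ χ χ.2 ?_ g hg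
  obtain ⟨n, hn0, hn⟩ := Char.IsIrr.degree χ.2
  rw [hn, Complex.natCast_re]
  have hsq := Char.sum_sq_degree (G := G)
  have h1 : ((χ : G → ℂ) 1 ^ 2).re ≤ (∑ ψ : Cfsg.IrrCharacter G, (ψ : G → ℂ) 1 ^ 2).re := by
    rw [Complex.re_sum]
    refine Finset.single_le_sum (f := fun ψ : Cfsg.IrrCharacter G => ((ψ : G → ℂ) 1 ^ 2).re)
      (fun ψ _ => ?_) (Finset.mem_univ χ)
    obtain ⟨d, -, hd⟩ := Char.IsIrr.degree ψ.2
    rw [hd, ← Nat.cast_pow, Complex.natCast_re]
    exact Nat.cast_nonneg _
  rw [hsq, hn, ← Nat.cast_pow, Complex.natCast_re, Complex.natCast_re] at h1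
  have h2 : n ^ 2 ≤ Nat.card G := by exact_mod_cast h1
  exact_mod_cast le_trans (Nat.le_self_pow two_ne_zero n) h2

end Cfsg.Agent.S0175
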