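import Cfsg.Statements.S0178
import Cfsg.Agent.Char.Linear
-- import your own Cfsg.Agent.* helpers here

set_option autoImplicit false
open Cfsg

namespace Cfsg.Agent.S0178

/-- The degree of an irreducible complex representation of a finite group is at most the index of any abelian subgroup. -/
theorem result {G : Type*} [Group G] [Finite G] {V : Type*} [AddCommGroup V] [Module ℂ V] [FiniteDimensional ℂ V] (ρ : Representation ℂ G V) [ρ.IsIrreducible] (A : Subgroup G) (hA : ∀ a ∈ A, ∀ b ∈ A, a * b = b * a) : Module.finrank ℂ V ≤ A.index := by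
  classical
  have := Fintype.ofFinite G
  have := Fintype.ofFinite A
  have hχ := Char.isIrrCharacter_of_rep ρ ‹_›
  have hres := Char.isCharacter_res A (Char.IsIrr.isCharacter hχ)
  have hne : (fun a : A => ρ.character a) ≠ 0 := fun h =>
    Char.IsIrr.one_ne_zero hχ (by simpa using congrFun h 1)
  obtain ⟨lam, hlam⟩ := Char.IsChar.exists_constituent hres hne
  have hl1 : (lam : A → ℂ) 1 = 1 :=
    Char.IsIrr.degree_one_of_comm lam.2 fun a b => Subtype.ext (hA a a.2 b b.2)
  have hc : Cfsg.classInner (Cfsg.indFun A (lam : A → ℂ)) ρ.character ≠ 0 := by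
    rw [Char.classInner_indFun_left A _ (Char.isClassFunction_of_isIrr hχ),
      ← Char.classInner_conj_symm]
    simpa using hlam
  have h := Char.IsChar.constituent_degree_le
    (Char.isCharacter_indFun A (Char.IsIrr.isCharacter lam.2)) hχ hc
  rw [Char.indFun_apply_one, hl1, mul_one, ρ.char_one] at h
  simpa using h

end Cfsg.Agent.S0178
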