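import Cfsg.Statements.S0180
import Cfsg.Agent.Char.Zero
-- import your own Cfsg.Agent.* helpers here

set_option autoImplicit false
open Cfsg

namespace Cfsg.Agent.S0180

/-- Every irreducible complex character of a finite group takes only rational values if and only if g is conjugate to g ^ m for every element g and every m coprime to the group order. -/
theorem result {G : Type*} [Group G] [Finite G] : (∀ χ : Cfsg.IrrCharacter G, ∀ g : G, ∃ q : ℚ, (χ : G → ℂ) g = (q : ℂ)) ↔ ∀ m : ℕ, m.Coprime (Nat.card G) → ∀ g : G, IsConj g (g ^ m) := by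
  constructor
  · intro hrat m hm g
    obtain ⟨σ, hσ⟩ := Char.exists_galois_pow (G := G) m hm
    refine (Char.isConj_iff_forall_irr g (g ^ m)).2 fun χ => ?_
    obtain ⟨q, hq⟩ := hrat χ g
    rw [← hσ (Char.IsIrr.isCharacter χ.2) g, hq, map_ratCast]
  · intro h χ g
    exact Char.IsChar.exists_rat (Char.IsIrr.isCharacter χ.2) g fun k hk =>
      (Char.classFun_isConj (Char.isClassFunction_of_isIrr χ.2) (h k hk g)).symm

end Cfsg.Agent.S0180
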