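import Cfsg.Statements.S0181
import Cfsg.Agent.Char.Linear
import Cfsg.Agent.Char.Ortho
-- import your own Cfsg.Agent.* helpers here

set_option autoImplicit false
open Cfsg

namespace Cfsg.Agent.S0181

/-- Let H be a normal subgroup of a finite group G and ρ an irreducible complex representation whose kernel does not contain H. If g commutes with no non-identity element of H, then the character of ρ vanishes at g. -/
theorem result {G : Type*} [Group G] [Finite G] {V : Type*} [AddCommGroup V] [Module ℂ V] [FiniteDimensional ℂ V] (ρ : Representation ℂ G V) [ρ.IsIrreducible] (H : Subgroup G) [H.Normal] (hker : ∃ h ∈ H, ρ h ≠ LinearMap.id) (g : G) (hg : ∀ h ∈ H, h * g = g * h → h = 1) : ρ.character g = 0 := by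
  classical
  have := Fintype.ofFinite G
  let χ : IrrCharacter G := ⟨ρ.character, Char.isIrrCharacter_of_rep ρ ‹_›⟩
  let P : IrrCharacter G → Prop := fun φ => ∀ n ∈ H, (φ : G → ℂ) n = (φ : G → ℂ) 1
  have hχ : ¬ P χ := by
    intro h
    obtain ⟨x, hx, hne⟩ := hker
    exact hne ((Char.character_eq_finrank_iff ρ x).1 ((h x hx).trans ρ.char_one))
  have h1 : (∑ φ : IrrCharacter G, Complex.normSq ((φ : G → ℂ) g)) =
      Nat.card (Subgroup.centralizer ({g} : Set G)) := by
    have h := Char.second_orthogonality g g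
    rw [if_pos (IsConj.refl g)] at h
    simp only [Complex.mul_conj] at h
    exact_mod_cast h
  have h2 : (∑ φ : {φ : IrrCharacter G // P φ}, Complex.normSq ((φ.1 : G → ℂ) g)) =
      Nat.card (Subgroup.centralizer ({(g : G ⧸ H)} : Set (G ⧸ H))) := by
    have := Fintype.ofFinite (G ⧸ H)
    have h := Char.second_orthogonality (g : G ⧸ H) (g : G ⧸ H)
    rw [if_pos (IsConj.refl _)] at h
    simp only [Complex.mul_conj] at h
    rw [← (Char.quotientEquiv H).sum_comp]
    exact_mod_cast h
  have hle : Nat.card (Subgroup.centralizer ({g} : Set G)) ≤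
      Nat.card (Subgroup.centralizer ({(g : G ⧸ H)} : Set (G ⧸ H))) := by
    refine Nat.card_le_card_of_injective
      (fun c => ⟨((c : G) : G ⧸ H), Subgroup.mem_centralizer_singleton_iff.2 ?_⟩) fun a b h => ?_
    · rw [← QuotientGroup.mk_mul, ← QuotientGroup.mk_mul,
        Subgroup.mem_centralizer_singleton_iff.1 c.2]
    · have hab : (a : G)⁻¹ * b ∈ H := QuotientGroup.eq.1 (congrArg Subtype.val h)
      have hc := (Subgroup.centralizer ({g} : Set G)).mul_mem (inv_mem a.2) b.2
      exact Subtype.ext (inv_mul_eq_one.1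
        (hg _ hab (Subgroup.mem_centralizer_singleton_iff.1 hc)))
  have hsplit := Fintype.sum_subtype_add_sum_subtype P
    (fun φ : IrrCharacter G => Complex.normSq ((φ : G → ℂ) g))
  rw [h1, h2] at hsplit
  have hle' : (Nat.card (Subgroup.centralizer ({g} : Set G)) : ℝ) ≤
      Nat.card (Subgroup.centralizer ({(g : G ⧸ H)} : Set (G ⧸ H))) := by exact_mod_cast hle
  have hzero : Complex.normSq ((χ : G → ℂ) g) ≤ 0 := by
    refine le_trans (Finset.single_le_sum
      (f := fun φ : {φ : IrrCharacter G // ¬ P φ} => Complex.normSq ((φ.1 : G → ℂ) g))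
      (fun _ _ => Complex.normSq_nonneg _) (Finset.mem_univ ⟨χ, hχ⟩)) ?_
    linarith
  exact Complex.normSq_eq_zero.1 (le_antisymm hzero (Complex.normSq_nonneg _))

end Cfsg.Agent.S0181
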