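import Cfsg.Statements.S0184
import Cfsg.Agent.Char.Linear
import Cfsg.Agent.Fusion.PGroup
import Cfsg.Agent.Char.Integral
-- import your own Cfsg.Agent.* helpers here

set_option autoImplicit false
open Cfsg

namespace Cfsg.Agent.S0184

/-- A finite p-group admits a faithful irreducible complex representation if and only if its centre is cyclic. -/
theorem result {G : Type*} [Group G] [Finite G] (p : ℕ) [Fact p.Prime] (hG : IsPGroup p G) : (∃ (n : ℕ) (ρ : Representation ℂ G (Fin n → ℂ)), ρ.IsIrreducible ∧ Function.Injective ρ) ↔ IsCyclic (Subgroup.center G) := by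
  classical
  have := Fintype.ofFinite G
  constructor
  · rintro ⟨n, ρ, hρ, hinj⟩
    obtain ⟨N, hN, hNmem⟩ := Char.exists_normal_of_scalar ρ
    obtain ⟨hnt, -⟩ := Char.isIrreducible_iff.1 hρ
    obtain ⟨v, hv⟩ := exists_ne (0 : Fin n → ℂ)
    have hsc : ∀ z : Subgroup.center G, ∃ ω : ℂ, ρ z = ω • LinearMap.id := by
      intro z
      let T : Representation.IntertwiningMap ρ ρ := ⟨ρ z, fun g => by
        show ρ z * ρ g = ρ g * ρ z
        rw [← map_mul, ← map_mul, Subgroup.mem_center_iff.1 z.2 g]⟩
      obtain ⟨c, hc⟩ :=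
        (Representation.IsIrreducible.algebraMap_intertwiningMap_bijective_of_isAlgClosed
          (k := ℂ) (ρ := ρ)).2 T
      exact ⟨c, (congrArg Representation.IntertwiningMap.toLinearMap hc).symm.trans
        (LinearMap.ext fun w => by simp [Algebra.algebraMap_eq_smul_one])⟩
    choose ω hω using hsc
    have huniq : ∀ a b : ℂ, a • (LinearMap.id : (Fin n → ℂ) →ₗ[ℂ] (Fin n → ℂ)) = b • LinearMap.id →
        a = b := fun a b h => smul_left_injective ℂ hv (LinearMap.congr_fun h v)
    let f : Subgroup.center G →* ℂ :=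
      { toFun := ω
        map_one' := huniq _ _ (by rw [← hω, OneMemClass.coe_one, map_one, one_smul]; rfl)
        map_mul' := fun a b => huniq _ _ (by
          rw [← hω, Subgroup.coe_mul, map_mul, hω a, hω b]; ext w; simp [smul_smul, mul_comm]) }
    exact isCyclic_of_subgroup_isDomain f fun a b h =>
      Subtype.ext (hinj (by rw [hω a, hω b]; exact congrArg (· • _) h))
  · intro hcyc
    by_cases h1 : Nontrivial G
    · have := hG.center_nontrivial
      obtain ⟨z, hz⟩ := IsCyclic.exists_generator (α := Subgroup.center G)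
      obtain ⟨k, hk⟩ := IsPGroup.iff_orderOf.1 (hG.to_subgroup (Subgroup.center G)) z
      have hk0 : k ≠ 0 := by
        rintro rfl
        obtain ⟨w, hw⟩ := exists_ne (1 : Subgroup.center G)
        obtain ⟨i, hi⟩ := hz w
        rw [pow_zero, orderOf_eq_one_iff] at hk
        exact hw (by rw [← hi, hk]; exact one_zpow i)
      set z₁ : G := ((z ^ p ^ (k - 1) : Subgroup.center G) : G) with hz₁
      have hz₁ne : z₁ ≠ 1 := fun h => by
        have h' : z ^ p ^ (k - 1) = 1 := Subtype.ext h
        have := orderOf_dvd_of_pow_eq_one h'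
        rw [hk, Nat.pow_dvd_pow_iff_le_right (Fact.out : p.Prime).one_lt] at this
        omega
      obtain ⟨χ, hχ⟩ := Char.exists_irr_ne_at_one hz₁ne
      obtain ⟨n, ρ, hρ, he⟩ := id χ.2
      refine ⟨n, ρ, hρ, ?_⟩
      by_contra hni
      have hker : (ρ : G →* _).ker ≠ ⊥ := fun h => hni ((MonoidHom.ker_eq_bot_iff ρ).1 h)
      have hne : (ρ : G →* _).ker ⊓ Subgroup.center G ≠ ⊥ :=
        Fusion.pGroup_inf_center_ne_bot hG _ hker
      have hnt : Nontrivial ((ρ : G →* _).ker ⊓ Subgroup.center G : Subgroup G) :=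
        (Subgroup.nontrivial_iff_ne_bot _).2 hne
      obtain ⟨⟨w, hwK, hwC⟩, hw⟩ := exists_ne (1 : ((ρ : G →* _).ker ⊓ Subgroup.center G : Subgroup G))
      obtain ⟨j, hj⟩ := IsPGroup.iff_orderOf.1 (hG.to_subgroup (Subgroup.center G)) ⟨w, hwC⟩
      set W : Subgroup.center G := ⟨w, hwC⟩ with hW
      have hj0 : j ≠ 0 := by
        rintro rfl
        rw [pow_zero, orderOf_eq_one_iff] at hj
        exact hw (Subtype.ext (show w = 1 from congrArg (fun a : Subgroup.center G => (a : G)) hj))
      set u := W ^ p ^ (j - 1) with hu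
      have hp : p.Prime := Fact.out
      have huo : orderOf u = p := by
        rw [hu, orderOf_pow_of_dvd (pow_ne_zero _ hp.ne_zero) (hj ▸ pow_dvd_pow p (by omega)), hj,
          Nat.pow_div (by omega) hp.pos, show j - (j - 1) = 1 by omega, pow_one]
      have hzp : (z ^ p ^ (k - 1)) ^ p = 1 := by
        rw [← pow_mul, ← pow_succ, show k - 1 + 1 = k by omega, ← hk, pow_orderOf_eq_one]
      have := Fintype.ofFinite (Subgroup.center G)
      have hsub : Finset.univ.filter (fun a : Subgroup.center G => a ∈ Subgroup.zpowers u) =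
          Finset.univ.filter (fun a : Subgroup.center G => a ^ p = 1) := by
        refine Finset.eq_of_subset_of_card_le (fun a ha => ?_) ?_
        · obtain ⟨i, rfl⟩ := (Finset.mem_filter.1 ha).2
          refine Finset.mem_filter.2 ⟨Finset.mem_univ _, ?_⟩
          show (u ^ i) ^ p = 1
          rw [← zpow_natCast (u ^ i) p, ← zpow_mul, mul_comm, zpow_mul, zpow_natCast, ← huo,
            pow_orderOf_eq_one, one_zpow]
        · refine (IsCyclic.card_pow_eq_one_le hp.pos).trans (le_of_eq ?_)
          rw [← huo, ← Nat.card_zpowers, Nat.card_eq_fintype_card, Fintype.card_subtype]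
      have hmem : z ^ p ^ (k - 1) ∈ Subgroup.zpowers u :=
        (Finset.mem_filter.1 (hsub.symm ▸ Finset.mem_filter.2 ⟨Finset.mem_univ _, hzp⟩ :
          z ^ p ^ (k - 1) ∈ Finset.univ.filter (fun a => a ∈ Subgroup.zpowers u))).2
      have hle : Subgroup.zpowers u ≤ ((ρ : G →* _).ker).comap (Subgroup.center G).subtype :=
        Subgroup.zpowers_le.2 (Subgroup.pow_mem _ hwK _)
      have h1 : ρ z₁ = 1 := hle hmem
      apply hχ
      rw [← he]
      show LinearMap.trace ℂ _ (ρ z₁) = LinearMap.trace ℂ _ (ρ 1)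
      rw [h1, map_one ρ]
    · rw [not_nontrivial_iff_subsingleton] at h1
      obtain ⟨n, ρ, hρ, -⟩ := (Char.isIrrCharacter_one (G := G))
      exact ⟨n, ρ, hρ, Function.injective_of_subsingleton _⟩

end Cfsg.Agent.S0184
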