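import Cfsg.Statements.S0185
import Cfsg.Agent.Char.Linear
import Cfsg.Agent.Char.Gen
import Cfsg.Agent.Char.Integral
-- import your own Cfsg.Agent.* helpers here

set_option autoImplicit false
open Cfsg

namespace Cfsg.Agent.S0185

/-- If a finite group has a faithful complex representation of degree less than the smallest prime dividing its order, the group is abelian. -/
theorem result {G : Type*} [Group G] [Finite G] {V : Type*} [AddCommGroup V] [Module ℂ V] [FiniteDimensional ℂ V] (ρ : Representation ℂ G V) (hfaithful : Function.Injective ρ) (hdeg : ∀ p : ℕ, p.Prime → p ∣ Nat.card G → Module.finrank ℂ V < p) (a b : G) : a * b = b * a := by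
  classical
  have := Fintype.ofFinite G
  set c := a * b * a⁻¹ * b⁻¹ with hc
  have hχ : IsCharacter G ρ.character := Char.isCharacter_of_rep ρ
  obtain ⟨m, hm, he, -⟩ := Char.IsChar.exists_mult hχ
  have hval : ρ.character c = ρ.character 1 := by
    rw [he]
    simp only [Finset.sum_apply, Pi.smul_apply, smul_eq_mul]
    refine Finset.sum_congr rfl fun φ _ => ?_
    by_cases h0 : m φ = 0
    · simp [h0]
    obtain ⟨d, hd0, hd⟩ := Char.IsIrr.degree φ.2
    have hd1 : d = 1 := by
      by_contra hne
      obtain ⟨q, hq, hqd⟩ := Nat.exists_prime_and_dvd hne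
      have h3 := hdeg q hq (hqd.trans (Char.IsIrr.degree_dvd_card φ.2 hd))
      have h4 : d ≤ Module.finrank ℂ V := by
        have h1 := congrFun he 1
        simp only [Finset.sum_apply, Pi.smul_apply, smul_eq_mul, ρ.char_one] at h1
        choose dd hdd0 hdd using fun ψ : IrrCharacter G => Char.IsIrr.degree ψ.2
        simp only [hdd] at h1
        have h2 : Module.finrank ℂ V = ∑ ψ, m ψ * dd ψ := by exact_mod_cast h1
        have h5 : dd φ = d := by exact_mod_cast (hdd φ).symm.trans hd
        rw [h2]
        refine le_trans ?_ (Finset.single_le_sum (f := fun ψ => m ψ * dd ψ)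
          (fun _ _ => Nat.zero_le _) (Finset.mem_univ φ))
        simp only [h5]
        exact Nat.le_mul_of_pos_left d (Nat.pos_of_ne_zero h0)
      have := Nat.le_of_dvd hd0 hqd
      omega
    obtain ⟨f, hf⟩ := Char.IsChar.exists_hom (Char.IsIrr.isCharacter φ.2) (by rw [hd, hd1, Nat.cast_one])
    rw [hf]
    simp [hc]
  rw [ρ.char_one, Char.character_eq_finrank_iff] at hval
  have hc1 : c = 1 := hfaithful (hval.trans (map_one ρ).symm)
  rw [hc, ← commutatorElement_def, commutatorElement_eq_one_iff_mul_comm] at hc1
  exact hc1

end Cfsg.Agent.S0185
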