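import Cfsg.Statements.S0186
import Cfsg.Agent.Char.Linear
import Cfsg.Agent.Char.Gen
import Cfsg.Agent.Char.Integral
import Cfsg.Agent.S0185
-- import your own Cfsg.Agent.* helpers here

set_option autoImplicit false
open Cfsg

namespace Cfsg.Agent.S0186

/-- Let G be a finite simple group of order n and p a prime dividing n. If G has more than n / p^2 conjugacy classes, then every Sylow p-subgroup of G is abelian. -/
theorem result {G : Type*} [Group G] [Finite G] [IsSimpleGroup G] (p : ℕ) [Fact p.Prime] (hp : p ∣ Nat.card G) (hmany : Nat.card G < p ^ 2 * Nat.card (ConjClasses G)) (P : Sylow p G) (a b : G) (ha : a ∈ P) (hb : b ∈ P) : a * b = b * a := by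
  classical
  have := Fintype.ofFinite G
  have hp' : p.Prime := Fact.out
  by_cases hG2 : p ^ 2 ∣ Nat.card G
  swap
  · obtain ⟨k, hk⟩ := P.2.exists_card_eq
    have hk1 : k ≤ 1 := by
      by_contra h
      exact hG2 ((pow_dvd_pow p (by omega)).trans (hk ▸ Subgroup.card_subgroup_dvd_card _))
    have : IsCyclic (P : Subgroup G) := by
      interval_cases k
      · exact isCyclic_of_card_dvd_prime (p := p) (by rw [hk]; simp)
      · exact isCyclic_of_prime_card (p := p) (by rw [hk, pow_one])
    exact congrArg Subtype.val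
      ((IsCyclic.commGroup (α := (P : Subgroup G))).mul_comm ⟨a, ha⟩ ⟨b, hb⟩)
  let one : IrrCharacter G := ⟨fun _ => 1, Char.isIrrCharacter_one⟩
  choose d hd0 hd using fun χ : IrrCharacter G => Char.IsIrr.degree χ.2
  obtain ⟨χ, hχ1, hχp⟩ : ∃ χ, χ ≠ one ∧ d χ < p := by
    by_contra hcon
    push Not at hcon
    have h := Char.sum_sq_degree (G := G)
    simp only [hd] at h
    have h' : ∑ χ : IrrCharacter G, d χ ^ 2 = Nat.card G := by exact_mod_cast h
    rw [← Finset.add_sum_erase _ _ (Finset.mem_univ one)] at h'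
    have hd1 : d one = 1 := by
      have h1 : (d one : ℂ) = 1 := (hd one).symm
      exact_mod_cast h1
    rw [hd1, one_pow] at h'
    set E := (Finset.univ : Finset (IrrCharacter G)).erase one with hE
    have hk : E.card + 1 = Nat.card (ConjClasses G) := by
      rw [← Char.card_irrCharacter, Nat.card_eq_fintype_card, ← Finset.card_univ,
        hE, Finset.card_erase_add_one (Finset.mem_univ one)]
    have hge : ∀ χ ∈ E, p ^ 2 ≤ d χ ^ 2 := fun χ hχ =>
      Nat.pow_le_pow_left (hcon χ (Finset.mem_erase.1 hχ).1) 2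
    have h2 : ∑ χ ∈ E, d χ ^ 2 = (∑ χ ∈ E, (d χ ^ 2 - p ^ 2)) + E.card * p ^ 2 := by
      rw [← smul_eq_mul, ← Finset.sum_const, ← Finset.sum_add_distrib]
      exact Finset.sum_congr rfl fun χ hχ => (Nat.sub_add_cancel (hge χ hχ)).symm
    rw [h2] at h'
    rw [← hk, mul_add, mul_one, mul_comm (p ^ 2) E.card] at hmany
    have h3 : p ^ 2 ∣ 1 + ∑ χ ∈ E, (d χ ^ 2 - p ^ 2) := by
      refine (Nat.dvd_add_left (dvd_mul_left (p ^ 2) E.card)).1 ?_
      rw [add_assoc, h']
      exact hG2
    have := Nat.le_of_dvd (by omega) h3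
    omega
  obtain ⟨n, ρ, hρ, he⟩ := id χ.2
  have hfin : Module.finrank ℂ (Fin n → ℂ) = d χ := by
    have h := hd χ
    rw [← he, ρ.char_one] at h
    exact_mod_cast h
  have hinj : Function.Injective ρ := by
    let f : G →* Module.End ℂ (Fin n → ℂ) := ρ
    rcases f.normal_ker.eq_bot_or_eq_top with h | h
    · exact (MonoidHom.ker_eq_bot_iff f).1 h
    · exfalso
      apply hχ1
      apply Subtype.ext
      by_contra hne
      have hcon : (χ : G → ℂ) = fun _ => (χ : G → ℂ) 1 := funext fun g => by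
        have hg : f g = 1 := (h ▸ Subgroup.mem_top g : g ∈ f.ker)
        rw [← he]
        show LinearMap.trace ℂ _ (ρ g) = LinearMap.trace ℂ _ (ρ 1)
        rw [show ρ g = 1 from hg, map_one ρ]
      have h0 := Char.classInner_irr_ne χ.2 Char.isIrrCharacter_one hne
      rw [hcon] at h0
      simp [classInner, Char.IsIrr.one_ne_zero χ.2] at h0
  have hab := Cfsg.Agent.S0185.result (G := (P : Subgroup G)) (ρ.comp (P : Subgroup G).subtype)
    (fun x y hxy => Subtype.ext (hinj hxy)) (fun q hq hqd => by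
      obtain ⟨k, hk⟩ := P.2.exists_card_eq
      rw [hk] at hqd
      rw [(Nat.prime_dvd_prime_iff_eq hq hp').1 (hq.dvd_of_dvd_pow hqd), hfin]
      exact hχp) ⟨a, ha⟩ ⟨b, hb⟩
  exact congrArg Subtype.val hab

end Cfsg.Agent.S0186
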