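import Cfsg.Statements.S0189
import Cfsg.Agent.Char.Gen
-- import your own Cfsg.Agent.* helpers here

set_option autoImplicit false
open Cfsg

namespace Cfsg.Agent.S0189

/-- If a complex character of a finite group vanishes at every non-identity element of a Sylow p-subgroup P, then |P| divides its degree. -/
theorem result {G : Type*} [Group G] [Finite G] (p : ℕ) [Fact p.Prime] (P : Sylow p G) (χ : G → ℂ) (hχ : Cfsg.IsCharacter G χ) (hvan : ∀ g : G, g ∈ P → g ≠ 1 → χ g = 0) : ∃ k : ℕ, χ 1 = (Nat.card P : ℂ) * k := by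
  classical
  have := Fintype.ofFinite G
  have := Fintype.ofFinite (P : Subgroup G)
  obtain ⟨k, hk⟩ := Char.classInner_isCharacter_eq_natCast
    (Char.isCharacter_res (P : Subgroup G) hχ) (Char.isCharacter_one (G := (P : Subgroup G)))
  refine ⟨k, ?_⟩
  have h : classInner (fun x : (P : Subgroup G) => χ x) (fun _ => 1) =
      (Nat.card P : ℂ)⁻¹ * χ 1 := by
    rw [classInner, Finset.sum_eq_single (1 : (P : Subgroup G))]
    · simp
    · intro x _ hx
      rw [hvan x x.2 fun h => hx (Subtype.ext h), zero_mul]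
    · simp
  rw [h] at hk
  rw [← hk, ← mul_assoc, mul_inv_cancel₀ (Nat.cast_ne_zero.2 Nat.card_pos.ne'), one_mul]

end Cfsg.Agent.S0189
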