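import Cfsg.Statements.S0192
import Cfsg.Agent.Char.Ortho
-- import your own Cfsg.Agent.* helpers here

set_option autoImplicit false
open Cfsg

namespace Cfsg.Agent.S0192

/-- Brauer's generation criterion. Let G be a finite simple group, H₁ and H₂ subgroups, and χ a non-principal irreducible character. If the multiplicity of the principal character in χ restricted to H₁ ⊓ H₂ is less than the sum of the corresponding multiplicities for H₁ and H₂, then H₁ and H₂ do not generate G. -/
theorem result {G : Type*} [Group G] [Fintype G] [IsSimpleGroup G] (H₁ H₂ : Subgroup G) [Fintype H₁] [Fintype H₂] [Fintype ↥(H₁ ⊓ H₂)] (χ : G → ℂ) (hχ : Cfsg.IsIrrCharacter G χ) (hχ1 : χ ≠ fun _ => 1) (hlt : (Cfsg.classInner (fun x : ↥(H₁ ⊓ H₂) => χ x) (fun _ => 1)).re < (Cfsg.classInner (fun x : H₁ => χ x) (fun _ => 1)).re + (Cfsg.classInner (fun x : H₂ => χ x) (fun _ => 1)).re) : H₁ ⊔ H₂ ≠ ⊤ := by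
  classical
  obtain ⟨n, ρ, hρ, he⟩ := id hχ
  have key : ∀ (K : Subgroup G) [Fintype K],
      (classInner (fun x : K => χ x) (fun _ => 1)).re =
        (Module.finrank ℂ (Representation.invariants (ρ.comp K.subtype) : Submodule ℂ (Fin n → ℂ)) : ℝ) := by
    intro K _
    have : Invertible (Nat.card K : ℂ) := invertibleOfNonzero Char.card_ne_zero
    have h := (Representation.isProj_averageMap (ρ.comp K.subtype)).trace
    have h2 : LinearMap.trace ℂ _ (Representation.averageMap (ρ.comp K.subtype)) =
        classInner (fun x : K => χ x) (fun _ => 1) := by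
      simp [classInner, GroupAlgebra.average, Representation.averageMap, map_sum, ← he,
        Representation.character, Finset.mul_sum]
    rw [← h2, h, Complex.natCast_re]
  have hle : ∀ (K L : Subgroup G), K ≤ L →
      (Representation.invariants (ρ.comp L.subtype) : Submodule ℂ (Fin n → ℂ)) ≤
        Representation.invariants (ρ.comp K.subtype) := fun K L h v hv k =>
    hv ⟨k.1, h k.2⟩
  set U₁ : Submodule ℂ (Fin n → ℂ) := Representation.invariants (ρ.comp H₁.subtype) with hU₁
  set U₂ : Submodule ℂ (Fin n → ℂ) := Representation.invariants (ρ.comp H₂.subtype) with hU₂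
  rw [key, key, key, ← Nat.cast_add, Nat.cast_lt] at hlt
  have hsum := Submodule.finrank_sup_add_finrank_inf_eq U₁ U₂
  have hsup := Submodule.finrank_mono (sup_le (hle _ _ (inf_le_left : H₁ ⊓ H₂ ≤ H₁))
    (hle _ _ (inf_le_right : H₁ ⊓ H₂ ≤ H₂)))
  intro htop
  have hne : U₁ ⊓ U₂ ≠ ⊥ := fun h => by
    rw [h, finrank_bot] at hsum
    have e1 : Module.finrank ℂ U₁ =
        Module.finrank ℂ (Representation.invariants (ρ.comp H₁.subtype)) := rfl
    have e2 : Module.finrank ℂ U₂ =
        Module.finrank ℂ (Representation.invariants (ρ.comp H₂.subtype)) := rfl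
    have e3 : Module.finrank ℂ (U₁ ⊔ U₂ : Submodule ℂ (Fin n → ℂ)) = Module.finrank ℂ
        (Representation.invariants (ρ.comp H₁.subtype) ⊔
          Representation.invariants (ρ.comp H₂.subtype) : Submodule ℂ (Fin n → ℂ)) := rfl
    omega
  obtain ⟨v, hv, hv0⟩ := Submodule.exists_mem_ne_zero_of_ne_bot hne
  let K : Subgroup G :=
    { carrier := {g | ρ g v = v}
      one_mem' := by show ρ 1 v = v; rw [map_one]; rfl
      mul_mem' := fun {a b} ha hb => by
        show ρ (a * b) v = v
        rw [map_mul, Module.End.mul_apply, hb, ha]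
      inv_mem' := fun {a} ha => by
        show ρ a⁻¹ v = v
        conv_lhs => rw [← ha, ρ.inv_self_apply] }
  have hK : ∀ g : G, ρ g v = v := fun g => by
    have hle : H₁ ⊔ H₂ ≤ K := sup_le (fun x hx => hv.1 ⟨x, hx⟩) (fun x hx => hv.2 ⟨x, hx⟩)
    exact hle (htop ▸ Subgroup.mem_top g)
  obtain ⟨hnt, hsub⟩ := Char.isIrreducible_iff.1 hρ
  apply hχ1
  rcases hsub (ℂ ∙ v) (fun g w hw => by
    obtain ⟨c, rfl⟩ := Submodule.mem_span_singleton.1 hw
    rw [map_smul, hK g]; exact Submodule.smul_mem _ c (Submodule.mem_span_singleton_self v)) with h | h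
  · exact absurd (Submodule.span_singleton_eq_bot.1 h) hv0
  · funext g
    have hg : ρ g = LinearMap.id := LinearMap.ext fun w => by
      obtain ⟨c, rfl⟩ := Submodule.mem_span_singleton.1 (h ▸ Submodule.mem_top : w ∈ ℂ ∙ v)
      rw [map_smul, hK g]; rfl
    rw [← he, (Char.character_eq_finrank_iff ρ g).2 hg, ← finrank_top, ← h,
      finrank_span_singleton hv0, Nat.cast_one]

end Cfsg.Agent.S0192
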