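import Cfsg.Statements.S0194
import Cfsg.Agent.Char.Perm
-- import your own Cfsg.Agent.* helpers here

set_option autoImplicit false
open scoped ComplexConjugate
open Cfsg

namespace Cfsg.Agent.S0194

/-- Let G have odd order, H be a normal subgroup and θ a non-principal irreducible character of H. Then the function induced from θ is orthogonal to its complex conjugate. -/
theorem result {G : Type*} [Group G] [Fintype G] (hodd : Odd (Nat.card G)) (H : Subgroup G) [H.Normal] (θ : H → ℂ) (hθ : Cfsg.IsIrrCharacter H θ) (hθ1 : θ ≠ fun _ => 1) : Cfsg.classInner (fun g => conj (Cfsg.indFun H θ g)) (Cfsg.indFun H θ) = 0 := by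
  classical
  have := Fintype.ofFinite H
  have hoddH : Odd (Nat.card H) := hodd.of_dvd_nat (Subgroup.card_subgroup_dvd_card H)
  have hconj : (fun g => conj (Cfsg.indFun H θ g)) = Cfsg.indFun H (fun h => conj (θ h)) := by
    funext g
    simp only [Char.indFun_apply, map_mul, map_inv₀, map_natCast, map_sum]
    congr 1
    refine Finset.sum_congr rfl fun x _ => ?_
    by_cases hx : x⁻¹ * g * x ∈ H
    · rw [Char.extendByZero_of_mem H _ hx, Char.extendByZero_of_mem H _ hx]
    · rw [Char.extendByZero_of_not_mem H _ hx, Char.extendByZero_of_not_mem H _ hx, map_zero]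
  have hθc : Cfsg.IsIrrCharacter H (fun h => conj (θ h)) := (Char.conjIrr ⟨θ, hθ⟩).2
  rw [hconj, Char.classInner_indFun_indFun hθc hθ]
  refine mul_eq_zero_of_right _ ?_
  rw [Nat.cast_eq_zero]
  have : IsEmpty {g : G // Char.conjFun g (fun h => conj (θ h)) = θ} := ⟨fun ⟨g, hg⟩ => by
    have h2 : Char.conjFun g θ = fun h => conj (θ h) := by
      funext n
      have := congrArg conj (congrFun hg n)
      simpa [Char.conjFun_apply] using this
    have h3 : g * g ∈ Char.inertia θ := by
      rw [Char.mem_inertia, ← Char.conjFun_conjFun, h2, hg]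
    obtain ⟨k, hk⟩ := hodd.of_dvd_nat (orderOf_dvd_natCard g)
    have h4 : g = (g * g) ^ (k + 1) := by
      rw [← sq, ← pow_mul, show 2 * (k + 1) = (2 * k + 1) + 1 by ring, ← hk, pow_succ,
        pow_orderOf_eq_one, one_mul]
    have h5 : g ∈ Char.inertia θ := by rw [h4]; exact pow_mem h3 _
    rw [Char.mem_inertia, h2] at h5
    exact hθ1 (Char.real_irr_eq_one hoddH hθ fun n =>
      Complex.conj_eq_iff_im.1 (congrFun h5 n))⟩
  exact Nat.card_of_isEmpty

end Cfsg.Agent.S0194
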