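import Cfsg.Statements.S0196
import Cfsg.Agent.Invol.Count

set_option autoImplicit false
open Cfsg

namespace Cfsg.Agent.S0196

/-- Let A be a subgroup of a finite group G that equals the centralizer of each of its non-identity elements, and let N be its normalizer. Then the index of A in N divides |A| − 1 (N/A permutes the non-identity elements of A in orbits of full length). -/
theorem result {G : Type*} [Group G] [Finite G] (A : Subgroup G) (hA : ∀ x ∈ A, x ≠ 1 → Subgroup.centralizer ({x} : Set G) = A) : (A.subgroupOf (Subgroup.normalizer (A : Set G))).index ∣ Nat.card A - 1 := by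
  classical
  set N := Subgroup.normalizer (A : Set G) with hN
  let X := {a : G // a ∈ A ∧ a ≠ 1}
  let act : MulAction N X :=
    { smul := fun g a => ⟨(g : G) * a.1 * (g : G)⁻¹,
        (Subgroup.mem_normalizer_iff.1 g.2 a.1).1 a.2.1, fun h => a.2.2 (conj_eq_one_iff.1 h)⟩
      one_smul := fun a => Subtype.ext (show ((1 : N) : G) * a.1 * ((1 : N) : G)⁻¹ = a.1 by simp)
      mul_smul := fun g h a => Subtype.ext
        (show ((g * h : N) : G) * a.1 * ((g * h : N) : G)⁻¹ = g * (h * a.1 * (h : G)⁻¹) * (g : G)⁻¹ by
          simp [mul_assoc]) }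
  have hstab : ∀ a : X, MulAction.stabilizer N a = A.subgroupOf N := by
    intro a
    ext g
    rw [MulAction.mem_stabilizer_iff, Subgroup.mem_subgroupOf, Subtype.ext_iff]
    conv_rhs => rw [← hA a.1 a.2.1 a.2.2, Subgroup.mem_centralizer_singleton_iff]
    exact mul_inv_eq_iff_eq_mul
  have hcard : Nat.card X = Nat.card A - 1 := by
    show {a : G | a ∈ A ∧ a ≠ 1}.ncard = _
    have he : {a : G | a ∈ A ∧ a ≠ 1} = (A : Set G) \ {1} := by ext a; exact Iff.rfl
    rw [he, Set.ncard_sdiff_singleton_of_mem (one_mem A)]
    rfl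
  rw [← hcard]
  have e := MulAction.selfEquivSigmaOrbitsQuotientStabilizer N X
  have := Fintype.ofFinite (Quotient (MulAction.orbitRel N X))
  rw [Nat.card_congr e, Nat.card_sigma]
  exact Finset.dvd_sum fun ω _ => by rw [hstab]; rfl

end Cfsg.Agent.S0196
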