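import Cfsg.Statements.S0201
import Cfsg.Agent.Invol.ZStar

set_option autoImplicit false
open Cfsg

namespace Cfsg.Agent.S0201

open Cfsg.Agent in
theorem center_le {G : Type*} [Group G] [Finite G] {P : Sylow 2 G} {a : G} {k : ℕ}
    (h : Invol.QData P a k) {x : G} (hx : x ∈ P) (hc : ∀ p ∈ P, Commute x p) : x * x = 1 := by
  obtain ⟨w, hwP, hwa⟩ := h.exists_out
  by_cases hxa : x ∈ Subgroup.zpowers a
  · obtain ⟨i, rfl⟩ := Subgroup.mem_zpowers_iff.1 hxa
    have h1 : w * a ^ i * w⁻¹ = (a ^ i)⁻¹ := by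
      rw [← conj_zpow, (h.out w hwP hwa).1, inv_zpow]
    rw [← (hc w hwP).eq, mul_inv_cancel_right] at h1
    nth_rewrite 1 [h1]
    exact inv_mul_cancel _
  · exfalso
    have h1 := (h.out x hx hxa).1
    rw [(hc a h.mem).eq, mul_inv_cancel_right] at h1
    have : orderOf a ∣ 2 := orderOf_dvd_of_pow_eq_one (by
      rw [pow_two]
      nth_rewrite 1 [h1]
      exact inv_mul_cancel a)
    rw [h.order] at this
    have := Nat.le_of_dvd two_pos this
    have := Nat.pow_le_pow_right (show 0 < 2 by norm_num) h.two_le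
    omega

/-- Brauer–Suzuki Theorem: if a Sylow 2-subgroup of a finite group is generalized quaternion (of order at least 8) and the group has no nontrivial normal subgroup of odd order, then its centre has order 2. -/
theorem result {G : Type*} [Group G] [Finite G] (S : Sylow 2 G) (n : ℕ) (e : (S : Subgroup G) ≃* QuaternionGroup (2 ^ (n + 1))) (hO : ∀ N : Subgroup G, N.Normal → Odd (Nat.card N) → N = ⊥) : Nat.card (Subgroup.center G) = 2 := by
  obtain ⟨huniq, hnc⟩ := Cfsg.Agent.Invol.quaternion_uniq S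
    (by rw [pow_succ]; have := Nat.one_le_two_pow (n := n); omega) e
  obtain ⟨a, k, h⟩ := Cfsg.Agent.Invol.exists_qData S huniq hnc
  have := Fintype.ofFinite G
  set z := a ^ 2 ^ (k - 1) with hz
  have hz2 : orderOf z = 2 := h.orderOf_z
  have hzc : z ∈ Subgroup.center G := by
    refine Subgroup.mem_center_iff.2 fun g => ?_
    have h1 := Cfsg.Agent.Invol.zstar h.isolated g
    rw [hO (Cfsg.oddCore G) inferInstance (Nat.odd_iff.2 (Nat.two_dvd_ne_zero.1
        Cfsg.Agent.Core.not_dvd_card_pPrimeCore)), Subgroup.mem_bot, mul_inv_eq_one,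
      mul_inv_eq_iff_eq_mul] at h1
    exact h1.symm
  have hodd : ∀ x ∈ Subgroup.center G, Odd (orderOf x) → x = 1 := fun x hx ho => by
    have hle : Subgroup.zpowers x ≤ Subgroup.center G := Subgroup.zpowers_le.2 hx
    haveI : (Subgroup.zpowers x).Normal := ⟨fun m hm g => by
      rw [Subgroup.mem_center_iff.1 (hle hm) g, mul_inv_cancel_right]; exact hm⟩
    have := hO (Subgroup.zpowers x) inferInstance (by rwa [Nat.card_zpowers])
    rw [← Subgroup.mem_bot (G := G), ← this]
    exact Subgroup.mem_zpowers x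
  have hP : IsPGroup 2 (Subgroup.center G) := by
    intro x
    obtain ⟨j, m, hm, he⟩ := Nat.exists_eq_pow_mul_and_not_dvd (orderOf_pos (x : G)).ne' 2 (by norm_num)
    refine ⟨j, Subtype.ext (hodd _ (pow_mem x.2 _) ?_)⟩
    show Odd (orderOf ((x : G) ^ 2 ^ j))
    rw [orderOf_pow_of_dvd (by positivity) ⟨m, he⟩, he, Nat.mul_div_cancel_left _ (by positivity)]
    exact Nat.odd_iff.2 (Nat.two_dvd_ne_zero.1 hm)
  have hle := hP.le_sylow_of_normal S
  have hsub : Subgroup.center G = Subgroup.zpowers z := by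
    refine le_antisymm (fun x hx => ?_) (Subgroup.zpowers_le.2 hzc)
    by_cases hx1 : x = 1
    · rw [hx1]; exact one_mem _
    have h2 : orderOf x = 2 := orderOf_eq_prime (by
      rw [pow_two]
      exact center_le h (hle hx) fun p _ => (Subgroup.mem_center_iff.1 hx p).symm) hx1
    rw [h.eq_z (hle hx) h2]
    exact Subgroup.mem_zpowers z
  rw [hsub, Nat.card_zpowers, hz2]

end Cfsg.Agent.S0201
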