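import Cfsg.Statements.S0211
import Cfsg.Agent.Invol.Pair

set_option autoImplicit false
open Cfsg

namespace Cfsg.Agent.S0211

/-- Let x, y be involutions with xy of even order n and z = (xy)^(n/2). Then xz is conjugate to x by an element of the subgroup generated by x, y if and only if 4 divides n. -/
theorem result {G : Type*} [Group G] [Finite G] (x y : G) (hx : orderOf x = 2) (hy : orderOf y = 2) (heven : Even (orderOf (x * y))) : (∃ d ∈ Subgroup.closure ({x, y} : Set G), d * x * d⁻¹ = x * (x * y) ^ (orderOf (x * y) / 2)) ↔ 4 ∣ orderOf (x * y) := by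
  have hn := orderOf_pos (x * y)
  obtain ⟨m, hm⟩ := heven
  have hm2 : orderOf (x * y) / 2 = m := by omega
  rw [hm2]
  constructor
  · rintro ⟨d, hd, he⟩
    obtain ⟨k, hk⟩ := Invol.conj_self_eq hx hy hd
    rw [hk, ← zpow_natCast] at he
    obtain ⟨c, hc⟩ := orderOf_dvd_sub_iff_zpow_eq_zpow.2 (mul_left_cancel he)
    rw [hm] at hc
    push_cast at hc
    have h2 : (2 : ℤ) ∣ (m : ℤ) := ⟨k - m * c, by ring_nf at hc ⊢; linarith⟩
    omega
  · intro h4
    obtain ⟨d, hd, he⟩ := Invol.exists_conj_eq hx hy ((m : ℤ) / 2)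
    refine ⟨d, hd, he.trans ?_⟩
    rw [← zpow_natCast]
    congr 2
    omega

end Cfsg.Agent.S0211
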