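import Cfsg.Statements.S0212
import Cfsg.Agent.Invol.Count
import Mathlib.GroupTheory.GroupAction.Quotient
import Mathlib.Data.Finite.Perm

set_option autoImplicit false
open Cfsg

namespace Cfsg.Agent.S0212

/-- The Brauer–Fowler bound: if G is a finite simple group and t an involution of G whose centralizer has order n, then |G| ≤ (2n^2)!. -/
theorem result {G : Type*} [Group G] [Finite G] [IsSimpleGroup G] (t : G) (ht : orderOf t = 2) : Nat.card G ≤ Nat.factorial (2 * (Nat.card (Subgroup.centralizer ({t} : Set G))) ^ 2) := by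
  classical
  have := Fintype.ofFinite G
  set n := Nat.card (Subgroup.centralizer ({t} : Set G)) with hn
  have hn1 : 1 ≤ n := Nat.card_pos
  by_cases hcen : Subgroup.center G = ⊤
  · have htop : Subgroup.centralizer ({t} : Set G) = ⊤ := by
      rw [eq_top_iff]
      intro g _
      exact Subgroup.mem_centralizer_singleton_iff.2 (Subgroup.mem_center_iff.1 (hcen ▸ Subgroup.mem_top t) g)
    have hng : n = Nat.card G := by rw [hn, htop, Subgroup.card_top]
    rw [← hng]
    exact le_trans (by nlinarith) (Nat.self_le_factorial _)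
  have hbot : Subgroup.center G = ⊥ :=
    (Subgroup.Normal.eq_bot_or_eq_top (inferInstance : (Subgroup.center G).Normal)).resolve_right hcen
  have hproper : ∀ x : G, x ≠ 1 → Subgroup.centralizer ({x} : Set G) ≠ ⊤ := by
    intro x hx htop
    apply hx
    rw [← Subgroup.mem_bot, ← hbot, Subgroup.mem_center_iff]
    intro g
    have := htop ▸ Subgroup.mem_top g
    exact Subgroup.mem_centralizer_singleton_iff.1 this
  let c : G → ℕ := fun x => Nat.card {p : G × G // orderOf p.1 = 2 ∧ orderOf p.2 = 2 ∧ p.1 * p.2 = x}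
  set m := Nat.card {u : G // orderOf u = 2} with hm
  obtain ⟨⟨x₀, hx₀⟩, hmax⟩ := @Finite.exists_max _ _ _ ⟨⟨t, Invol.ne_one ht⟩⟩ _
    (fun x : {x : G // x ≠ 1} => Nat.card (Subgroup.centralizer ({x.1} : Set G)))
  set M := Nat.card (Subgroup.centralizer ({x₀} : Set G)) with hM
  have hc_le : ∀ x, x ≠ 1 → c x ≤ M := by
    intro x hx
    refine le_trans ?_ (hmax ⟨x, hx⟩)
    by_cases hreal : ∃ g : G, g * x * g⁻¹ = x⁻¹
    · obtain ⟨g₀, hg₀⟩ := hreal
      refine Nat.card_le_card_of_injective (fun p => ⟨g₀⁻¹ * p.1.1, ?_⟩) ?_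
      · rw [Subgroup.mem_centralizer_singleton_iff, ← mul_inv_eq_iff_eq_mul]
        have hp := Invol.conj_mul_self p.2.1 p.2.2.1
        rw [p.2.2.2] at hp
        calc g₀⁻¹ * p.1.1 * x * (g₀⁻¹ * p.1.1)⁻¹ = g₀⁻¹ * (p.1.1 * x * p.1.1⁻¹) * g₀ := by group
          _ = g₀⁻¹ * (g₀ * x * g₀⁻¹) * g₀ := by rw [hp, hg₀]
          _ = x := by group
      · rintro ⟨⟨u, v⟩, hu, hv, huv⟩ ⟨⟨u', v'⟩, hu', hv', huv'⟩ he
        have h1 : u = u' := mul_left_cancel (congrArg Subtype.val he)
        subst h1
        exact Subtype.ext (Prod.ext rfl (mul_left_cancel (huv.trans huv'.symm)))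
    · have h0 : c x = 0 := by
        show Nat.card _ = 0
        rw [Nat.card_eq_zero]
        refine Or.inl ⟨fun p => hreal ⟨p.1.1, ?_⟩⟩
        have hp := Invol.conj_mul_self p.2.1 p.2.2.1
        rwa [p.2.2.2] at hp
      rw [h0]
      exact Nat.zero_le _
  let S : Finset G := Finset.univ.filter fun u => orderOf u = 2
  have hS : S.card = m := by rw [hm, Nat.card_eq_fintype_card, Fintype.card_subtype]
  have hcfib : ∀ x : G, ((S ×ˢ S).filter fun p => p.1 * p.2 = x).card = c x := by
    intro x
    show _ = Nat.card _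
    rw [Nat.card_eq_fintype_card, Fintype.card_subtype]
    congr 1
    ext p
    simp [S, and_assoc]
  have hsum : m * m = ∑ x : G, c x := by
    rw [← hS, ← Finset.card_product,
      Finset.card_eq_sum_card_fiberwise (f := fun p => p.1 * p.2) (fun p _ => Finset.mem_univ _)]
    exact Finset.sum_congr rfl fun x _ => hcfib x
  have hc1 : c 1 = m := by
    refine Nat.card_congr
      { toFun := fun p => ⟨p.1.1, p.2.1⟩
        invFun := fun u => ⟨(u.1, u.1), u.2, u.2, Invol.mul_self_eq_one u.2⟩
        left_inv := ?_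
        right_inv := fun u => rfl }
    rintro ⟨⟨u, v⟩, hu, hv, huv⟩
    refine Subtype.ext (Prod.ext rfl ?_)
    show u = v
    rw [mul_eq_one_iff_eq_inv, Invol.inv_eq_self hv] at huv
    exact huv
  have hbound : m * m ≤ m + Nat.card G * M := by
    rw [hsum, ← Finset.add_sum_erase _ _ (Finset.mem_univ (1 : G)), hc1]
    refine Nat.add_le_add_left (le_trans (Finset.sum_le_card_nsmul _ _ M fun x hx => hc_le x (Finset.ne_of_mem_erase hx)) ?_) _
    rw [smul_eq_mul, Nat.card_eq_fintype_card]
    exact Nat.mul_le_mul_right _ (Finset.card_le_univ _)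
  have hclass : Nat.card G ≤ m * n := by
    rw [← Invol.card_isConj_mul_card_centralizer t, ← hn]
    refine Nat.mul_le_mul_right _ (Nat.card_le_card_of_injective
      (fun u => ⟨u.1, Invol.orderOf_eq_two_of_isConj u.2 ht⟩) ?_)
    exact fun u v h => Subtype.ext (congrArg (fun w : {u : G // orderOf u = 2} => w.1) h)
  have hm2 : 2 ≤ m := by
    by_contra hlt
    apply hproper t (Invol.ne_one ht)
    apply Subgroup.eq_top_of_card_eq
    have h2 : m * n ≤ 1 * n := Nat.mul_le_mul_right _ (by omega)
    have h3 := Subgroup.card_le_card_group (Subgroup.centralizer ({t} : Set G))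
    rw [one_mul] at h2
    omega
  have hgM : Nat.card G ≤ 2 * n ^ 2 * M := by
    have hg : 0 < Nat.card G := Nat.card_pos
    have h1 : m * m ≤ 2 * (Nat.card G * M) := by nlinarith
    have h2 : Nat.card G * Nat.card G ≤ Nat.card G * (2 * n ^ 2 * M) := by
      calc Nat.card G * Nat.card G ≤ (m * n) * (m * n) := Nat.mul_le_mul hclass hclass
        _ = (m * m) * (n * n) := by ring
        _ ≤ 2 * (Nat.card G * M) * (n * n) := Nat.mul_le_mul_right _ h1
        _ = Nat.card G * (2 * n ^ 2 * M) := by ring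
    exact Nat.le_of_mul_le_mul_left h2 hg
  set H := Subgroup.centralizer ({x₀} : Set G) with hH
  have hidx : H.index ≤ 2 * n ^ 2 := by
    rw [← H.card_mul_index, ← hM, mul_comm (2 * n ^ 2)] at hgM
    exact Nat.le_of_mul_le_mul_left hgM Nat.card_pos
  have hinj : Function.Injective (MulAction.toPermHom G (G ⧸ H)) := by
    rw [← MonoidHom.ker_eq_bot_iff, ← Subgroup.normalCore_eq_ker]
    refine (Subgroup.Normal.eq_bot_or_eq_top (Subgroup.normalCore_normal H)).resolve_right fun h => hproper x₀ hx₀ ?_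
    rw [eq_top_iff, ← h]
    exact Subgroup.normalCore_le H
  refine le_trans (Nat.card_le_card_of_injective _ hinj) ?_
  rw [Nat.card_perm]
  exact Nat.factorial_le hidx

end Cfsg.Agent.S0212
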