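import Cfsg.Statements.S0213
import Cfsg.Agent.Invol.Count

set_option autoImplicit false
open Cfsg

namespace Cfsg.Agent.S0213

/-- Thompson Order Formula, two-class case: if every involution of the finite group G is conjugate to exactly one of the non-conjugate involutions x₁, x₂, and nᵢ is the number of pairs (u, v) with u conjugate to x₁, v conjugate to x₂ and xᵢ in the cyclic group generated by uv, then |G| = |C(x₂)| n₁ + |C(x₁)| n₂. -/
theorem result {G : Type*} [Group G] [Finite G] (x₁ x₂ : G) (h₁ : orderOf x₁ = 2) (h₂ : orderOf x₂ = 2) (hnc : ¬ IsConj x₁ x₂) (hall : ∀ t : G, orderOf t = 2 → IsConj x₁ t ∨ IsConj x₂ t) : Nat.card G = Nat.card (Subgroup.centralizer ({x₂} : Set G)) * Nat.card {p : G × G // IsConj x₁ p.1 ∧ IsConj x₂ p.2 ∧ x₁ ∈ Subgroup.zpowers (p.1 * p.2)} + Nat.card (Subgroup.centralizer ({x₁} : Set G)) * Nat.card {p : G × G // IsConj x₁ p.1 ∧ IsConj x₂ p.2 ∧ x₂ ∈ Subgroup.zpowers (p.1 * p.2)} := by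
  classical
  have := Fintype.ofFinite G
  let A : Finset G := Finset.univ.filter fun u => IsConj x₁ u
  let B : Finset G := Finset.univ.filter fun u => IsConj x₂ u
  let P : Finset (G × G) := A ×ˢ B
  let z : G × G → G := fun p => (p.1 * p.2) ^ (orderOf (p.1 * p.2) / 2)
  have hmemA : ∀ u, u ∈ A ↔ IsConj x₁ u := fun u => by simp [A]
  have hmemB : ∀ u, u ∈ B ↔ IsConj x₂ u := fun u => by simp [B]
  have hzspec : ∀ p ∈ P, orderOf (z p) = 2 ∧ ∀ w : G, orderOf w = 2 →
      (w ∈ Subgroup.zpowers (p.1 * p.2) ↔ z p = w) := by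
    intro p hp
    rw [Finset.mem_product, hmemA, hmemB] at hp
    have hu : orderOf p.1 = 2 := Invol.orderOf_eq_two_of_isConj hp.1 h₁
    have hv : orderOf p.2 = 2 := Invol.orderOf_eq_two_of_isConj hp.2 h₂
    have heven := (Invol.exists_central_of_not_isConj hu hv
      (fun h => hnc ((hp.1.trans h).trans hp.2.symm))).1
    refine ⟨Invol.orderOf_central heven (orderOf_pos _), fun w hw => ⟨fun h => ?_, fun h => ?_⟩⟩
    · exact ((Invol.eq_half_pow_of_mem_zpowers hw h).2).symm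
    · rw [← h]; exact Subgroup.npow_mem_zpowers _ _
  have hz : ∀ p ∈ P, z p ∈ A ∪ B := by
    intro p hp
    rw [Finset.mem_union, hmemA, hmemB]
    exact hall _ (hzspec p hp).1
  have hfib : ∀ w : G, orderOf w = 2 → (P.filter fun p => z p = w).card =
      Nat.card {p : G × G // IsConj x₁ p.1 ∧ IsConj x₂ p.2 ∧ w ∈ Subgroup.zpowers (p.1 * p.2)} := by
    intro w hw
    rw [← Nat.card_eq_finsetCard]
    refine Nat.card_congr (Equiv.subtypeEquivRight fun p => ?_)
    rw [Finset.mem_filter]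
    constructor
    · rintro ⟨hp, he⟩
      refine ⟨(hmemA _).1 (Finset.mem_product.1 hp).1, (hmemB _).1 (Finset.mem_product.1 hp).2, ?_⟩
      exact ((hzspec p hp).2 w hw).2 he
    · rintro ⟨ha, hb, hm⟩
      have hp : p ∈ P := Finset.mem_product.2 ⟨(hmemA _).2 ha, (hmemB _).2 hb⟩
      exact ⟨hp, ((hzspec p hp).2 w hw).1 hm⟩
  have hconjfib : ∀ x w : G, IsConj x w →
      Nat.card {p : G × G // IsConj x₁ p.1 ∧ IsConj x₂ p.2 ∧ w ∈ Subgroup.zpowers (p.1 * p.2)} =
      Nat.card {p : G × G // IsConj x₁ p.1 ∧ IsConj x₂ p.2 ∧ x ∈ Subgroup.zpowers (p.1 * p.2)} := by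
    intro x w hxw
    obtain ⟨g, rfl⟩ := isConj_iff.1 hxw
    symm
    refine Nat.card_congr (Equiv.subtypeEquiv
      (Equiv.prodCongr (MulAut.conj g).toEquiv (MulAut.conj g).toEquiv) fun p => ?_)
    have hc : ∀ a b : G, IsConj a (g * b * g⁻¹) ↔ IsConj a b := fun a b =>
      ⟨fun h => h.trans (isConj_iff.2 ⟨g⁻¹, by group⟩), fun h => h.trans (isConj_iff.2 ⟨g, rfl⟩)⟩
    simp only [Equiv.prodCongr_apply, Prod.map_fst, Prod.map_snd, MulEquiv.toEquiv_eq_coe,
      MulEquiv.coe_toEquiv, MulAut.conj_apply, hc]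
    refine and_congr_right fun _ => and_congr_right fun _ => ?_
    have hmul : g * p.1 * g⁻¹ * (g * p.2 * g⁻¹) = MulAut.conj g (p.1 * p.2) := by
      rw [MulAut.conj_apply, conj_mul]
    rw [hmul, Subgroup.mem_zpowers_iff, Subgroup.mem_zpowers_iff]
    refine exists_congr fun k => ?_
    rw [← map_zpow, ← MulAut.conj_apply, EmbeddingLike.apply_eq_iff_eq]
  have hsum := Finset.card_eq_sum_card_fiberwise hz
  have hdisj : Disjoint A B := Finset.disjoint_left.2 fun w hwA hwB =>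
    hnc (((hmemA w).1 hwA).trans ((hmemB w).1 hwB).symm)
  rw [Finset.sum_union hdisj] at hsum
  have hA1 : ∀ w ∈ A, (P.filter fun p => z p = w).card =
      Nat.card {p : G × G // IsConj x₁ p.1 ∧ IsConj x₂ p.2 ∧ x₁ ∈ Subgroup.zpowers (p.1 * p.2)} :=
    fun w hw => (hfib w (Invol.orderOf_eq_two_of_isConj ((hmemA w).1 hw) h₁)).trans
      (hconjfib x₁ w ((hmemA w).1 hw))
  have hB1 : ∀ w ∈ B, (P.filter fun p => z p = w).card =
      Nat.card {p : G × G // IsConj x₁ p.1 ∧ IsConj x₂ p.2 ∧ x₂ ∈ Subgroup.zpowers (p.1 * p.2)} :=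
    fun w hw => (hfib w (Invol.orderOf_eq_two_of_isConj ((hmemB w).1 hw) h₂)).trans
      (hconjfib x₂ w ((hmemB w).1 hw))
  rw [Finset.sum_const_nat hA1, Finset.sum_const_nat hB1, Finset.card_product] at hsum
  have hg₁ := Invol.card_isConj_mul_card_centralizer x₁
  have hg₂ := Invol.card_isConj_mul_card_centralizer x₂
  rw [Nat.card_eq_fintype_card (α := {y : G // IsConj x₁ y}), Fintype.card_subtype] at hg₁
  rw [Nat.card_eq_fintype_card (α := {y : G // IsConj x₂ y}), Fintype.card_subtype] at hg₂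
  change A.card * _ = _ at hg₁
  change B.card * _ = _ at hg₂
  have hBpos : 0 < B.card := Finset.card_pos.2 ⟨x₂, (hmemB _).2 (IsConj.refl _)⟩
  have hApos : 0 < A.card := Finset.card_pos.2 ⟨x₁, (hmemA _).2 (IsConj.refl _)⟩
  refine Nat.eq_of_mul_eq_mul_left (Nat.mul_pos hApos hBpos) ?_
  generalize Nat.card (Subgroup.centralizer ({x₁} : Set G)) = c₁ at *
  generalize Nat.card (Subgroup.centralizer ({x₂} : Set G)) = c₂ at *
  generalize Nat.card {p : G × G // IsConj x₁ p.1 ∧ IsConj x₂ p.2 ∧ x₁ ∈ Subgroup.zpowers (p.1 * p.2)} = n₁ at *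
  generalize Nat.card {p : G × G // IsConj x₁ p.1 ∧ IsConj x₂ p.2 ∧ x₂ ∈ Subgroup.zpowers (p.1 * p.2)} = n₂ at *
  calc A.card * B.card * Nat.card G = (A.card * n₁ + B.card * n₂) * Nat.card G := by rw [← hsum]
    _ = A.card * n₁ * (B.card * c₂) + B.card * n₂ * (A.card * c₁) := by rw [hg₁, hg₂]; ring
    _ = _ := by ring

end Cfsg.Agent.S0213
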