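import Cfsg.Statements.S0214
import Cfsg.Agent.Invol.StronglyEmbedded

set_option autoImplicit false
open Cfsg

namespace Cfsg.Agent.S0214

/-- Let H be a proper subgroup of the finite group G and P a nontrivial Sylow 2-subgroup of H. Then H is strongly embedded in G if and only if N_G(X) ≤ H for every nontrivial subgroup X of P. -/
theorem result {G : Type*} [Group G] [Finite G] (H : Subgroup G) (hH : H ≠ ⊤) (P : Sylow 2 ↥H) (hP : (P : Subgroup ↥H) ≠ ⊥) : Cfsg.IsStronglyEmbedded H ↔ (∀ X : Subgroup ↥H, X ≤ (P : Subgroup ↥H) → X ≠ ⊥ → Subgroup.normalizer ((X.map H.subtype : Subgroup G) : Set G) ≤ H) := by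
  constructor
  · intro hse X hXP hX n hn
    obtain ⟨t, htX, ht⟩ := Invol.exists_involution_of_ne_bot (P.2.to_le hXP) hX
    have hm : (t : G) ∈ X.map H.subtype := ⟨t, htX, rfl⟩
    have h2 := (Subgroup.mem_normalizer_iff''.1 hn (t : G)).1 hm
    obtain ⟨u, -, hu⟩ := h2
    refine Invol.se_mem hse (t := (t : G)) (by rwa [Subgroup.orderOf_coe]) t.2 ?_
    rw [← hu]
    exact u.2
  · exact Invol.se_of_normalizers hH P hP

end Cfsg.Agent.S0214
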