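import Cfsg.Statements.S0216
import Cfsg.Agent.Invol.Isolated

set_option autoImplicit false
open Cfsg

namespace Cfsg.Agent.S0216

/-- For an involution u in a Sylow 2-subgroup P of a finite group G, the following are equivalent: no G-conjugate of u other than u lies in P; every commutator of u with an element of G has odd order. -/
theorem result {G : Type*} [Group G] [Finite G] (P : Sylow 2 G) (u : G) (hu : orderOf u = 2) (huP : u ∈ P) : (∀ g : G, g * u * g⁻¹ ∈ P → g * u * g⁻¹ = u) ↔ (∀ g : G, Odd (orderOf (u * g * u⁻¹ * g⁻¹))) := by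
  constructor
  · intro h g
    have hiso := Invol.isolated_of_sylow P hu h
    have := Invol.isolated_odd_orderOf_mul hiso (IsConj.refl u) (isConj_iff.2 ⟨g, rfl⟩)
    convert this using 2
    rw [Invol.inv_eq_self hu]; group
  · intro h g hg
    obtain ⟨k, hk⟩ := IsPGroup.iff_orderOf.1 P.2 ⟨u * (g * u * g⁻¹), mul_mem huP hg⟩
    rw [Subgroup.orderOf_mk] at hk
    have ho := h g
    have he : u * g * u⁻¹ * g⁻¹ = u * (g * u * g⁻¹) := by rw [Invol.inv_eq_self hu]; group
    rw [he, hk] at ho
    rcases Nat.eq_zero_or_pos k with rfl | hk0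
    · rw [pow_zero, orderOf_eq_one_iff, mul_eq_one_iff_eq_inv', Invol.inv_eq_self hu] at hk
      exact hk
    · exact absurd ho (by rw [Nat.not_odd_iff_even, Nat.even_pow]; exact ⟨even_two, hk0.ne'⟩)

end Cfsg.Agent.S0216
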