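import Cfsg.Statements.S0218
import Mathlib.Tactic

set_option autoImplicit false
open Cfsg

namespace Cfsg.Agent.S0218

/-- The generalized quaternion group of order 2^(n+3) contains exactly one element of order 2. -/
theorem result (n : ℕ) : Nat.card {x : QuaternionGroup (2 ^ (n + 1)) // orderOf x = 2} = 1 := by
  rw [Nat.card_eq_one_iff_exists]
  have hne : NeZero (2 ^ (n + 1)) := ⟨by positivity⟩
  refine ⟨⟨QuaternionGroup.a ((2 ^ (n + 1) : ℕ) : ZMod (2 * 2 ^ (n + 1))), ?_⟩, ?_⟩
  · rw [QuaternionGroup.orderOf_a, ZMod.val_natCast, Nat.mod_eq_of_lt (by have := hne.out; omega),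
      Nat.gcd_eq_right ⟨2, by ring⟩]
    exact Nat.mul_div_cancel 2 (by positivity) |>.trans rfl
  · rintro ⟨g, hg⟩
    apply Subtype.ext
    rcases g with i | i
    · rw [QuaternionGroup.orderOf_a] at hg
      show QuaternionGroup.a i = QuaternionGroup.a _
      congr 1
      revert hg
      generalize 2 ^ (n + 1) = N at *
      intro hg
      have hd : Nat.gcd (2 * N) i.val ∣ 2 * N := Nat.gcd_dvd_left _ _
      have hgN : Nat.gcd (2 * N) i.val = N := by
        have h := Nat.div_mul_cancel hd
        rw [hg] at h
        omega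
      have hiv : N ∣ i.val := hgN.symm.dvd.trans (Nat.gcd_dvd_right (2 * N) i.val)
      obtain ⟨c, hc⟩ := hiv
      have hlt : i.val < 2 * N := ZMod.val_lt i
      have hN0 : 0 < N := Nat.pos_of_ne_zero hne.out
      have hc2 : c < 2 := by
        rw [hc, mul_comm 2 N] at hlt
        exact Nat.lt_of_mul_lt_mul_left hlt
      have hc1 : c = 1 := by
        rcases Nat.lt_or_ge c 1 with h | h
        · exfalso
          have : i.val = 0 := by rw [hc]; simp [Nat.lt_one_iff.1 h]
          rw [this, Nat.gcd_zero_right] at hgN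
          omega
        · omega
      rw [← ZMod.natCast_zmod_val i, hc, hc1, mul_one]
    · rw [QuaternionGroup.orderOf_xa] at hg
      exact absurd hg (by decide)

end Cfsg.Agent.S0218
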