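import Cfsg.Statements.S0220
import Cfsg.Agent.Invol.Count
import Cfsg.Agent.S0219
import Mathlib.GroupTheory.Nilpotent

set_option autoImplicit false
open Cfsg

namespace Cfsg.Agent.S0220

/-- If x is an involution of a finite group G and a Sylow 2-subgroup of the centralizer of x is cyclic, then G has a subgroup of index 2; in particular G is not simple unless it has order 2. -/
theorem result {G : Type*} [Group G] [Finite G] (x : G) (hx : orderOf x = 2) (S : Sylow 2 ↥(Subgroup.centralizer ({x} : Set G))) (hS : IsCyclic (S : Subgroup ↥(Subgroup.centralizer ({x} : Set G)))) : ∃ H : Subgroup G, H.index = 2 := by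
  obtain ⟨P, hP⟩ := (S.2.map (Subgroup.centralizer ({x} : Set G)).subtype).exists_le_sylow
  set S' := (S : Subgroup (Subgroup.centralizer ({x} : Set G))).map (Subgroup.centralizer ({x} : Set G)).subtype with hS'
  have hxC : x ∈ (Subgroup.centralizer ({x} : Set G)) := Subgroup.mem_centralizer_singleton_iff.2 rfl
  have hxS' : x ∈ S' := by
    have hnorm : (Subgroup.zpowers (⟨x, hxC⟩ : (Subgroup.centralizer ({x} : Set G)))).Normal := by
      refine ⟨fun w hw g => ?_⟩
      obtain ⟨k, rfl⟩ := Subgroup.mem_zpowers_iff.1 hw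
      have hg : g * ⟨x, hxC⟩ = ⟨x, hxC⟩ * g :=
        Subtype.ext (Subgroup.mem_centralizer_singleton_iff.1 g.2)
      rw [((show Commute g ⟨x, hxC⟩ from hg).zpow_right k).eq, mul_inv_cancel_right]
      exact Subgroup.zpow_mem_zpowers _ k
    have hp : IsPGroup 2 (Subgroup.zpowers (⟨x, hxC⟩ : (Subgroup.centralizer ({x} : Set G)))) :=
      IsPGroup.of_card (n := 1) (by rw [Nat.card_zpowers, Subgroup.orderOf_mk, hx, pow_one])
    exact ⟨⟨x, hxC⟩, hp.le_sylow_of_normal S (Subgroup.mem_zpowers _), rfl⟩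
  have hcycS' : IsCyclic S' :=
    (Subgroup.equivMapOfInjective (S : Subgroup (Subgroup.centralizer ({x} : Set G))) (Subgroup.centralizer ({x} : Set G)).subtype (Subgroup.centralizer ({x} : Set G)).subtype_injective).isCyclic.1 hS
  have hkey : ∀ g ∈ (P : Subgroup G), g ∈ Subgroup.normalizer (S' : Set G) → g ∈ S' := by
    intro g hgP hgN
    have hfix : g * x * g⁻¹ = x :=
      Invol.eq_of_isCyclic_of_orderOf_two hcycS' ((Invol.orderOf_conj g x).trans hx) hx
        ((Subgroup.mem_normalizer_iff.1 hgN x).1 hxS') hxS'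
    have hgC : g ∈ (Subgroup.centralizer ({x} : Set G)) := Subgroup.mem_centralizer_singleton_iff.2 (mul_inv_eq_iff_eq_mul.1 hfix)
    have hle : (S : Subgroup (Subgroup.centralizer ({x} : Set G))) ≤ (P : Subgroup G).subgroupOf (Subgroup.centralizer ({x} : Set G)) :=
      fun s hs => hP ⟨s, hs, rfl⟩
    have := S.3 (P.2.comap_subtype) hle
    exact ⟨⟨g, hgC⟩, this ▸ (Subgroup.mem_subgroupOf.2 hgP), rfl⟩
  have hPS : (P : Subgroup G) = S' := by
    by_contra hne
    have hlt : S'.subgroupOf (P : Subgroup G) < ⊤ := by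
      rw [lt_top_iff_ne_top, ne_eq, Subgroup.subgroupOf_eq_top]
      exact fun h => hne (le_antisymm h hP)
    have hnil : Group.IsNilpotent (P : Subgroup G) := P.2.isNilpotent
    obtain ⟨g, hgN, hg⟩ := SetLike.exists_of_lt (Group.normalizerCondition_of_isNilpotent _ hlt)
    apply hg
    rw [Subgroup.mem_subgroupOf]
    apply hkey _ g.2
    rw [← Subgroup.subgroupOf_normalizer_eq hP] at hgN
    exact hgN
  have hTc : IsCyclic (P : Subgroup G) := hPS ▸ hcycS'
  have heven : Even (Nat.card G) := even_iff_two_dvd.2 (hx ▸ orderOf_dvd_natCard x)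
  exact Cfsg.Agent.S0219.result heven P hTc

end Cfsg.Agent.S0220
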