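import Cfsg.Statements.S0221
import Cfsg.Agent.Invol.NormalFour
import Cfsg.Agent.TwoTransfer.Basic
import Cfsg.Agent.Invol.SylowConj
import Cfsg.Agent.Invol.Pair

set_option autoImplicit false
open Cfsg

namespace Cfsg.Agent.S0221

open Subgroup Cfsg.Agent.Invol

/-- Let G be a finite group with no subgroup of index 2 whose 2-rank is at least 3 (it contains an elementary abelian subgroup of order 8). Then the centralizer of every involution of G also contains an elementary abelian subgroup of order 8. -/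
theorem result {G : Type*} [Group G] [Finite G] (hno : ∀ H : Subgroup G, H.index ≠ 2) (hrank : ∃ E : Subgroup G, Nat.card E = 8 ∧ ∀ e ∈ E, e ^ 2 = 1) (x : G) (hx : orderOf x = 2) : ∃ E : Subgroup G, E ≤ Subgroup.centralizer ({x} : Set G) ∧ Nat.card E = 8 ∧ ∀ e ∈ E, e ^ 2 = 1 := by
  classical
  have : Fact (Nat.Prime 2) := ⟨Nat.prime_two⟩
  obtain ⟨E0, hE0, hE0sq⟩ := hrank
  obtain ⟨S, hS0⟩ := (IsPGroup.of_card (n := 3) (hE0.trans (by norm_num)) : IsPGroup 2 E0).exists_le_sylow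
  obtain ⟨U0, hU0n, hU04, hU0sq⟩ := exists_normal_four S.2 (E0.subgroupOf (S : Subgroup G))
    ((Nat.card_congr (subgroupOfEquivOfLe hS0).toEquiv).trans hE0)
    (fun e he => Subtype.ext (by
      show (e : G) * e = 1
      rw [← pow_two]; exact hE0sq _ (mem_subgroupOf.1 he)))
  set U := U0.map (S : Subgroup G).subtype with hU
  have hU4 : Nat.card U = 4 := (card_map_of_injective (S : Subgroup G).subtype_injective).trans hU04
  have hUsq : ∀ u ∈ U, u * u = 1 := by
    rintro _ ⟨u, hu, rfl⟩; exact congrArg Subtype.val (hU0sq u hu)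
  have hUS : U ≤ (S : Subgroup G) := map_subtype_le _
  have hUconj : ∀ s ∈ (S : Subgroup G), ∀ u ∈ U, s * u * s⁻¹ ∈ U := by
    rintro s hs _ ⟨u, hu, rfl⟩
    exact ⟨_, hU0n.conj_mem u hu ⟨s, hs⟩, rfl⟩
  -- a commuting involution extends a four-group to order eight
  have extend : ∀ (W : Subgroup G), Nat.card W = 4 → (∀ w ∈ W, w * w = 1) → ∀ t : G, t * t = 1 → t ∉ W →
      (∀ w ∈ W, t * w = w * t) → ∃ E : Subgroup G, W ≤ E ∧ t ∈ E ∧ Nat.card E = 8 ∧ ∀ e ∈ E, e * e = 1 := by
    intro W hW hWsq t ht htW htc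
    have hti : t⁻¹ = t := inv_eq_of_mul_eq_one_right ht
    let E : Subgroup G :=
      { carrier := {g | g ∈ W ∨ ∃ w ∈ W, g = w * t}
        one_mem' := Or.inl W.one_mem
        mul_mem' := by
          rintro _ _ (hx | ⟨v, hv, rfl⟩) (hy | ⟨w, hw, rfl⟩)
          · exact Or.inl (W.mul_mem hx hy)
          · exact Or.inr ⟨_, W.mul_mem hx hw, (mul_assoc _ _ _).symm⟩
          · exact Or.inr ⟨_, W.mul_mem hv hy, by rw [mul_assoc v t, htc _ hy, mul_assoc]⟩
          · exact Or.inl (by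
              rw [show v * t * (w * t) = v * (t * w) * t by group, htc _ hw,
                show v * (w * t) * t = v * w * (t * t) by group, ht, mul_one]
              exact W.mul_mem hv hw)
        inv_mem' := by
          rintro _ (hx | ⟨w, hw, rfl⟩)
          · exact Or.inl (W.inv_mem hx)
          · exact Or.inr ⟨w⁻¹, W.inv_mem hw, by rw [mul_inv_rev, hti]; exact htc _ (W.inv_mem hw)⟩ }
    have hWE : W ≤ E := fun w hw => Or.inl hw
    refine ⟨E, hWE, Or.inr ⟨1, W.one_mem, (one_mul t).symm⟩, ?_, ?_⟩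
    · have hidx : (W.subgroupOf E).index = 2 := by
        rw [index_eq_two_iff]
        refine ⟨⟨t, Or.inr ⟨1, W.one_mem, (one_mul t).symm⟩⟩, fun b => ?_⟩
        simp only [mem_subgroupOf, coe_mul]
        rcases b.2 with hb | ⟨w, hw, hb⟩
        · exact Or.inr ⟨hb, fun e => htW ((W.mul_mem_cancel_left hb).1 e)⟩
        · refine Or.inl ⟨?_, fun e => htW ((W.mul_mem_cancel_left hw).1 (hb ▸ e))⟩
          rw [hb, mul_assoc, ht, mul_one]; exact hw
      rw [← (W.subgroupOf E).card_mul_index, hidx, Nat.card_congr (subgroupOfEquivOfLe hWE).toEquiv, hW]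
    · rintro _ (he | ⟨w, hw, rfl⟩)
      · exact hWsq _ he
      · rw [show w * t * (w * t) = w * (t * w) * t by group, htc _ hw,
          show w * (w * t) * t = (w * w) * (t * t) by group, hWsq _ hw, ht, one_mul]
  have hcommU : ∀ u ∈ U, ∀ v ∈ U, u * v = v * u := by
    intro u hu v hv
    have h := hUsq _ (U.mul_mem hu hv)
    rw [← inv_eq_of_mul_eq_one_right h, mul_inv_rev, inv_eq_of_mul_eq_one_right (hUsq u hu),
      inv_eq_of_mul_eq_one_right (hUsq v hv)]
  set T := (S : Subgroup G) ⊓ centralizer (U : Set G) with hT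
  have hUT : U ≤ T := le_inf hUS fun u hu => mem_centralizer_iff.2 fun v hv => hcommU v hv u hu
  -- a central involution in `U`
  obtain ⟨z, u, hzU, huU, hz1, hu1, hzu, hzc⟩ : ∃ z u, z ∈ U ∧ u ∈ U ∧ z ≠ 1 ∧ u ≠ 1 ∧ z ≠ u ∧
      ∀ s ∈ (S : Subgroup G), s * z = z * s := by
    have hne : U0 ≠ ⊥ := fun e => by rw [e, card_bot] at hU04; omega
    have := Cfsg.Agent.Fusion.pGroup_inf_center_ne_bot S.2 U0 hne
    obtain ⟨⟨z, hz⟩, hzm, hz1⟩ := (bot_or_exists_ne_one (U0 ⊓ center (S : Subgroup G))).resolve_left this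
    have hzU : z ∈ U := ⟨⟨z, hz⟩, hzm.1, rfl⟩
    obtain ⟨u, hu, hu'⟩ : ∃ u ∈ U, u ∉ ({1, z} : Set G) := by
      by_contra! h
      have h1 := Set.ncard_le_ncard (s := (U : Set G)) (fun x hx => h x hx) (Set.toFinite _)
      have : (U : Set G).ncard = 4 := hU4
      have := Set.ncard_insert_le (1 : G) {z}
      have := Set.ncard_singleton z
      omega
    simp only [Set.mem_insert_iff, Set.mem_singleton_iff, not_or] at hu'
    exact ⟨z, u, hzU, hu, fun e => hz1 (Subtype.ext e), hu'.1, fun e => hu'.2 e.symm,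
      fun s hs => congrArg Subtype.val (mem_center_iff.1 hzm.2 ⟨s, hs⟩)⟩
  have hUeq : ∀ w ∈ U, w = 1 ∨ w = z ∨ w = u ∨ w = z * u := by
    intro w hw
    by_contra hc
    simp only [not_or] at hc
    have hsub : ({1, z, u, z * u, w} : Set G) ⊆ U := by
      rintro v (rfl | rfl | rfl | rfl | rfl)
      exacts [U.one_mem, hzU, huU, U.mul_mem hzU huU, hw]
    have h1 := Set.ncard_le_ncard hsub (Set.toFinite _)
    have h4 : (U : Set G).ncard = 4 := hU4
    have hzu1 : z * u ≠ 1 := fun e => hzu (by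
      calc z = z * (u * u) := by rw [hUsq u huU, mul_one]
        _ = u := by rw [← mul_assoc, e, one_mul])
    have h5 : ({1, z, u, z * u, w} : Set G).ncard = 5 := by
      rw [Set.ncard_insert_of_notMem, Set.ncard_insert_of_notMem, Set.ncard_insert_of_notMem, Set.ncard_pair]
      · exact fun e => hc.2.2.2 e.symm
      · simp only [Set.mem_insert_iff, Set.mem_singleton_iff, not_or]
        exact ⟨fun e => hz1 (right_eq_mul.1 e), fun e => hc.2.2.1 e.symm⟩
      · simp only [Set.mem_insert_iff, Set.mem_singleton_iff, not_or]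
        exact ⟨hzu, fun e => hu1 (left_eq_mul.1 e), fun e => hc.2.1 e.symm⟩
      · simp only [Set.mem_insert_iff, Set.mem_singleton_iff, not_or]
        exact ⟨hz1.symm, hu1.symm, hzu1.symm, fun e => hc.1 e.symm⟩
    omega
  have hTiff : ∀ s ∈ (S : Subgroup G), s ∈ T ↔ s * u * s⁻¹ = u := by
    intro s hs
    refine ⟨fun h => mul_inv_eq_iff_eq_mul.2 (mem_centralizer_iff.1 h.2 u huU).symm,
      fun h => ⟨hs, mem_centralizer_iff.2 fun v hv => ?_⟩⟩
    have hsu : s * u = u * s := mul_inv_eq_iff_eq_mul.1 h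
    rcases hUeq v hv with rfl | rfl | rfl | rfl
    · rw [one_mul, mul_one]
    · exact (hzc s hs).symm
    · exact hsu.symm
    · rw [mul_assoc, ← hsu, ← mul_assoc, ← hzc s hs, mul_assoc]
  have hflip : ∀ s ∈ (S : Subgroup G), s ∉ T → s * u * s⁻¹ = z * u := by
    intro s hs hsT
    rcases hUeq _ (hUconj s hs u huU) with h | h | h | h
    · exact absurd (conj_eq_one_iff.1 h) hu1
    · exfalso
      apply hzu
      calc z = s⁻¹ * (s * z) := by group
        _ = s⁻¹ * (z * s) := by rw [hzc s hs]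
        _ = s⁻¹ * (s * u * s⁻¹ * s) := by rw [h]
        _ = u := by group
    · exact absurd ((hTiff s hs).2 h) hsT
    · exact h
  have hTmul : ∀ s ∈ (S : Subgroup G), ∀ t ∈ (S : Subgroup G), s ∉ T → t ∉ T → s * t ∈ T := by
    intro s hs t ht hsT htT
    refine (hTiff _ ((S : Subgroup G).mul_mem hs ht)).2 ?_
    calc s * t * u * (s * t)⁻¹ = s * (t * u * t⁻¹) * s⁻¹ := by group
      _ = s * z * u * s⁻¹ := by rw [hflip t ht htT]; group
      _ = z * (s * u * s⁻¹) := by rw [hzc s hs]; group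
      _ = u := by rw [hflip s hs hsT, ← mul_assoc, hUsq z hzU, one_mul]
  -- an elementary abelian subgroup of order eight inside `T`
  obtain ⟨E, hET, hE8, hEsq⟩ : ∃ E : Subgroup G, E ≤ T ∧ Nat.card E = 8 ∧ ∀ e ∈ E, e * e = 1 := by
    have hE0sq' : ∀ e ∈ E0, e * e = 1 := fun e he => by rw [← pow_two]; exact hE0sq e he
    have hE0c : ∀ u ∈ E0, ∀ v ∈ E0, u * v = v * u := by
      intro u hu v hv
      have h := hE0sq' _ (E0.mul_mem hu hv)
      rw [← inv_eq_of_mul_eq_one_right h, mul_inv_rev, inv_eq_of_mul_eq_one_right (hE0sq' u hu),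
        inv_eq_of_mul_eq_one_right (hE0sq' v hv)]
    by_cases hsub : U ≤ E0
    · exact ⟨E0, le_inf hS0 fun e he => mem_centralizer_iff.2 fun v hv => hE0c v (hsub hv) e he, hE0, hE0sq'⟩
    by_cases hex : ∃ t ∈ E0, t ∈ T ∧ t ∉ U
    · obtain ⟨t, ht, htT, htU⟩ := hex
      obtain ⟨E, hUE, htE, hE8, hEsq⟩ := extend U hU4 hUsq t (hE0sq' t ht) htU
        fun w hw => (mem_centralizer_iff.1 htT.2 w hw).symm
      refine ⟨E, fun e he => ?_, hE8, hEsq⟩
      have hlt : 4 < Nat.card ↥(U ⊔ zpowers t) := by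
        rcases (card_le_of_le (le_sup_left : U ≤ U ⊔ zpowers t)).lt_or_eq with h | h
        · rwa [hU4] at h
        · exact absurd ((eq_of_le_of_card_ge le_sup_left h.ge) ▸
            (mem_sup_right (mem_zpowers t) : t ∈ U ⊔ zpowers t)) htU
      have hleE : U ⊔ zpowers t ≤ E := sup_le hUE (zpowers_le.2 htE)
      have h48 := card_dvd_of_le hleE
      rw [hE8] at h48
      have h8 := Nat.le_of_dvd (by norm_num) h48
      have hge : Nat.card E ≤ Nat.card ↥(U ⊔ zpowers t) := by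
        rw [hE8]
        interval_cases h : Nat.card ↥(U ⊔ zpowers t) <;> first | omega | norm_num at h48
      rw [← eq_of_le_of_card_ge hleE hge] at he
      exact (sup_le hUT (zpowers_le.2 htT) : U ⊔ zpowers t ≤ T) he
    exfalso
    push Not at hex
    apply hsub
    have hle : E0 ⊓ T ≤ U := fun t ht => hex t ht.1 ht.2
    have h4 : 4 ≤ Nat.card ↥(E0 ⊓ T) := by
      by_cases hall : E0 ≤ T
      · rw [inf_eq_left.2 hall, hE0]; norm_num
      obtain ⟨w, hw, hwT⟩ := SetLike.not_le_iff_exists.1 hall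
      have hidx : (T.subgroupOf E0).index = 2 := by
        rw [index_eq_two_iff]
        refine ⟨⟨w, hw⟩, fun b => ?_⟩
        simp only [mem_subgroupOf, coe_mul]
        by_cases hb : (b : G) ∈ T
        · exact Or.inr ⟨hb, fun e => hwT ((T.mul_mem_cancel_left hb).1 e)⟩
        · exact Or.inl ⟨hTmul _ (hS0 b.2) _ (hS0 hw) hb hwT, hb⟩
      have h1 := (T.subgroupOf E0).card_mul_index
      rw [hidx, hE0] at h1
      have h2 : Nat.card (T.subgroupOf E0) = Nat.card ↥(E0 ⊓ T) := by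
        rw [← card_map_of_injective E0.subtype_injective, subgroupOf, map_comap_eq, E0.range_subtype]
      omega
    rw [← eq_of_le_of_card_ge hle (by rw [hU4]; exact h4)]
    exact inf_le_left
  have hinT : ∀ y : G, orderOf y = 2 → y ∈ T →
      ∃ E : Subgroup G, E ≤ centralizer ({y} : Set G) ∧ Nat.card E = 8 ∧ ∀ e ∈ E, e * e = 1 := by
    intro y hy hyT
    by_cases hyU : y ∈ U
    · exact ⟨E, fun e he => mem_centralizer_singleton_iff.2
        (mem_centralizer_iff.1 (hET he).2 y hyU).symm, hE8, hEsq⟩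
    · have hyy : y * y = 1 := by have := pow_orderOf_eq_one y; rwa [hy, pow_two] at this
      obtain ⟨E', hUE', hyE', hE'8, hE'sq⟩ := extend U hU4 hUsq y hyy hyU
        fun w hw => (mem_centralizer_iff.1 hyT.2 w hw).symm
      refine ⟨E', fun e he => mem_centralizer_singleton_iff.2 ?_, hE'8, hE'sq⟩
      have h := hE'sq _ (E'.mul_mem he hyE')
      rw [← inv_eq_of_mul_eq_one_right h, mul_inv_rev, inv_eq_of_mul_eq_one_right (hE'sq e he),
        inv_eq_of_mul_eq_one_right (hE'sq y hyE')]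
  -- every involution is conjugate into `T`
  obtain ⟨d, hd⟩ := exists_conj_mem_of_isPGroup S ⟨1, by rw [pow_one]; exact hx⟩
  obtain ⟨c, hcT⟩ : ∃ c : G, c * x * c⁻¹ ∈ T := by
    by_contra hcon
    push Not at hcon
    have hidx : T.relIndex (S : Subgroup G) = 2 := by
      show (T.subgroupOf (S : Subgroup G)).index = 2
      rw [index_eq_two_iff]
      refine ⟨⟨_, hd⟩, fun b => ?_⟩
      simp only [mem_subgroupOf, coe_mul]
      by_cases hb : (b : G) ∈ T
      · exact Or.inr ⟨hb, fun e => hcon d ((T.mul_mem_cancel_left hb).1 e)⟩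
      · exact Or.inl ⟨hTmul _ b.2 _ hd hb (hcon d), hb⟩
    obtain ⟨N, -, hN, -⟩ := Cfsg.Agent.TwoTransfer.exists_index_two S T hidx (d * x * d⁻¹) hd
      (fun j g hj _ => by
        obtain ⟨i, rfl⟩ : ∃ i, j = i + 1 := ⟨j - 1, by omega⟩
        have h3 := pow_orderOf_eq_one x
        rw [hx] at h3
        rw [conj_pow, pow_succ', pow_mul, h3, one_pow]
        simp)
      (fun g _ hmem => hcon (g⁻¹ * d) (by
        rwa [show g⁻¹ * d * x * (g⁻¹ * d)⁻¹ = g⁻¹ * (d * x * d⁻¹) * g by group]))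
    exact hno N hN
  obtain ⟨F, hFc, hF8, hFsq⟩ := hinT _ ((Cfsg.Agent.Invol.orderOf_conj c x).trans hx) hcT
  refine ⟨F.map (MulAut.conj c⁻¹).toMonoidHom, ?_, (card_map_of_injective (MulAut.conj c⁻¹).injective).trans hF8, ?_⟩
  · rintro _ ⟨f, hf, rfl⟩
    rw [mem_centralizer_singleton_iff]
    show c⁻¹ * f * c⁻¹⁻¹ * x = x * (c⁻¹ * f * c⁻¹⁻¹)
    have h := mem_centralizer_singleton_iff.1 (hFc hf)
    calc c⁻¹ * f * c⁻¹⁻¹ * x = c⁻¹ * (f * (c * x * c⁻¹)) * c := by group
      _ = c⁻¹ * (c * x * c⁻¹ * f) * c := by rw [h]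
      _ = x * (c⁻¹ * f * c⁻¹⁻¹) := by group
  · rintro _ ⟨f, hf, rfl⟩
    rw [pow_two, ← map_mul, hFsq f hf, map_one]

end Cfsg.Agent.S0221
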