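import Cfsg.Statements.S0224
import Cfsg.Agent.Invol.StronglyEmbedded
import Mathlib.GroupTheory.GroupAction.Quotient

set_option autoImplicit false
open Cfsg

namespace Cfsg.Agent.S0224

/-- Let H be a proper subgroup of even order of the finite group G. Then H is strongly embedded if and only if each involution of H fixes exactly one point (namely the coset H) in the action of G on the cosets of H. -/
theorem result {G : Type*} [Group G] [Finite G] (H : Subgroup G) (hH : H ≠ ⊤) (heven : Even (Nat.card H)) : Cfsg.IsStronglyEmbedded H ↔ ∀ t ∈ H, orderOf t = 2 → Nat.card {c : G ⧸ H // t • c = c} = 1 := by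
  have hfix : ∀ t g : G, t • (g : G ⧸ H) = (g : G ⧸ H) ↔ g⁻¹ * t * g ∈ H := by
    intro t g
    rw [MulAction.Quotient.smul_coe, smul_eq_mul, eq_comm, QuotientGroup.eq, mul_assoc]
  constructor
  · intro hse t ht h2
    rw [Nat.card_eq_one_iff_exists]
    refine ⟨⟨((1 : G) : G ⧸ H), (hfix t 1).2 (by simpa using ht)⟩, ?_⟩
    rintro ⟨c, hc⟩
    apply Subtype.ext
    induction c using QuotientGroup.induction_on with
    | _ g =>
      show (g : G ⧸ H) = ((1 : G) : G ⧸ H)
      rw [QuotientGroup.eq, mul_one]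
      exact inv_mem (Invol.se_mem hse h2 ht ((hfix t g).1 hc))
  · intro h
    refine (Invol.se_iff H).2 ⟨hH, heven, fun t g h2 ht htg => ?_⟩
    obtain ⟨x, hx⟩ := Nat.card_eq_one_iff_exists.1 (h t ht h2)
    have e := (hx ⟨(g : G ⧸ H), (hfix t g).2 htg⟩).trans
      (hx ⟨((1 : G) : G ⧸ H), (hfix t 1).2 (by simpa using ht)⟩).symm
    have e' : (g : G ⧸ H) = ((1 : G) : G ⧸ H) := congrArg Subtype.val e
    rw [QuotientGroup.eq, mul_one] at e'
    exact inv_inv g ▸ inv_mem e'

end Cfsg.Agent.S0224
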