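import Cfsg.Statements.S0225
import Cfsg.Agent.Invol.ZStar

set_option autoImplicit false
open Cfsg

namespace Cfsg.Agent.S0225

open Cfsg.Agent in
theorem uniq {G : Type*} [Group G] [Finite G] (hrank : ∀ E : Subgroup G, ¬ IsKleinFour E)
    {a b : G} (ha : orderOf a = 2) (hb : orderOf b = 2) (hab : Commute a b) : a = b := by
  by_contra hne
  have ha2 : a * a = 1 := Invol.mul_self_eq_one ha
  have hb2 : b * b = 1 := Invol.mul_self_eq_one hb
  have hpq : a * b ≠ 1 := fun e => hne ((eq_inv_of_mul_eq_one_left e).trans (Invol.inv_eq_self hb))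
  let E : Subgroup G :=
    { carrier := {1, a, b, a * b}
      one_mem' := by simp
      mul_mem' := by
        have e1 : b * a = a * b := hab.eq.symm
        have e2 : a * (a * b) = b := by rw [← mul_assoc, ha2, one_mul]
        have e3 : b * (a * b) = a := by rw [← mul_assoc, e1, mul_assoc, hb2, mul_one]
        have e4 : a * b * a = b := by rw [mul_assoc, e1, e2]
        have e5 : a * b * b = a := by rw [mul_assoc, hb2, mul_one]
        have e6 : a * b * (a * b) = 1 := by rw [← mul_assoc, e4, hb2]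
        intro x y hx hy
        simp only [Set.mem_insert_iff, Set.mem_singleton_iff] at hx hy ⊢
        rcases hx with rfl | rfl | rfl | rfl <;> rcases hy with rfl | rfl | rfl | rfl <;>
          simp [ha2, hb2, e1, e2, e3, e4, e5, e6]
      inv_mem' := by
        intro x hx
        simp only [Set.mem_insert_iff, Set.mem_singleton_iff] at hx ⊢
        rcases hx with rfl | rfl | rfl | rfl
        · simp
        · simp [Invol.inv_eq_self ha]
        · simp [Invol.inv_eq_self hb]
        · simp [Invol.inv_eq_self ha, Invol.inv_eq_self hb, hab.eq] }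
  refine hrank E ⟨?_, ?_⟩
  · show Nat.card ({1, a, b, a * b} : Set G) = 4
    classical
    rw [Nat.card_coe_set_eq, Set.ncard_eq_toFinset_card']
    have h1 := Invol.ne_one ha
    have h2 := Invol.ne_one hb
    simp [h1.symm, h2.symm, hpq.symm]
    rw [Finset.card_eq_three]
    exact ⟨a, b, a * b, hne, fun e => h2 (mul_eq_left.1 e.symm),
      fun e => h1 (mul_eq_right.1 e.symm), rfl⟩
  · have hall : ∀ x : E, x ^ 2 = 1 := by
      rintro ⟨x, hx⟩
      apply Subtype.ext
      rcases hx with rfl | rfl | rfl | rfl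
      · simp
      · simp [pow_two, ha2]
      · simp [pow_two, hb2]
      · show (a * b) ^ 2 = 1
        rw [hab.mul_pow, pow_two, pow_two, ha2, hb2, one_mul]
    refine ((Nat.dvd_prime Nat.prime_two).1
      (Monoid.exponent_dvd_of_forall_pow_eq_one hall)).resolve_left fun h => ?_
    have := Monoid.pow_exponent_eq_one (⟨a, Or.inr (Or.inl rfl)⟩ : E)
    rw [h, pow_one] at this
    exact Invol.ne_one ha (congrArg Subtype.val this)

/-- If a finite group G has even order but contains no Klein four-subgroup (2-rank 1), then some involution z of G is central modulo a normal subgroup of odd order: there is a normal subgroup N of odd order containing every commutator z g z⁻¹ g⁻¹. -/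
theorem result {G : Type*} [Group G] [Finite G] (heven : Even (Nat.card G)) (hrank : ∀ E : Subgroup G, ¬ IsKleinFour E) : ∃ z : G, orderOf z = 2 ∧ ∃ N : Subgroup G, N.Normal ∧ Odd (Nat.card N) ∧ ∀ g : G, z * g * z⁻¹ * g⁻¹ ∈ N := by
  obtain ⟨z, hz⟩ := exists_prime_orderOf_dvd_card' 2 heven.two_dvd
  obtain ⟨P, hP⟩ := (IsPGroup.of_card (n := 1)
    (show Nat.card (Subgroup.zpowers z) = 2 ^ 1 by
      rw [Nat.card_zpowers, hz, pow_one])).exists_le_sylow
  have hzP : z ∈ P := hP (Subgroup.mem_zpowers z)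
  obtain ⟨c, hcP, hc, hcen⟩ : ∃ c ∈ P, orderOf c = 2 ∧ ∀ p ∈ P, Commute c p := by
    have : Nontrivial (P : Subgroup G) :=
      ⟨⟨⟨z, hzP⟩, 1, fun e => Cfsg.Agent.Invol.ne_one hz (congrArg Subtype.val e)⟩⟩
    have h2 : 2 ∣ Nat.card (Subgroup.center (P : Subgroup G)) := by
      have := P.2.center_nontrivial
      obtain ⟨j, hj, hc⟩ := (IsPGroup.nontrivial_iff_card (P.2.to_subgroup _)).1 this
      exact hc ▸ dvd_pow_self 2 (by omega)
    obtain ⟨c, hc⟩ := exists_prime_orderOf_dvd_card' 2 h2
    refine ⟨c.1.1, c.1.2, by rw [Subgroup.orderOf_coe, Subgroup.orderOf_coe, hc], fun p hp => ?_⟩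
    exact (congrArg Subtype.val (Subgroup.mem_center_iff.1 c.2 ⟨p, hp⟩)).symm
  refine ⟨z, hz, Cfsg.oddCore G, inferInstance,
    Nat.odd_iff.2 (Nat.two_dvd_ne_zero.1 Cfsg.Agent.Core.not_dvd_card_pPrimeCore),
    fun g => Cfsg.Agent.Invol.zstar (Cfsg.Agent.Invol.isolated_of_sylow P hz fun g hg => ?_) g⟩
  rw [← uniq hrank hc ((Cfsg.Agent.Invol.orderOf_conj g z).trans hz) (hcen _ hg),
    ← uniq hrank hc hz (hcen _ hzP)]

end Cfsg.Agent.S0225
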