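import Cfsg.Statements.S0226
import Cfsg.Agent.Invol.Pair

set_option autoImplicit false
open Cfsg

namespace Cfsg.Agent.S0226

/-- A finite group of even order has an odd number of involutions. -/
theorem result {G : Type*} [Group G] [Finite G] (heven : Even (Nat.card G)) : Odd (Nat.card {t : G // orderOf t = 2}) := by
  classical
  have := Fintype.ofFinite G
  have hs : (Finset.univ.filter fun t : G => t * t = 1).card
      = Nat.card {t : G // orderOf t = 2} + 1 := by
    have : (Finset.univ.filter fun t : G => t * t = 1)
        = insert 1 (Finset.univ.filter fun t : G => orderOf t = 2) := by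
      ext t
      by_cases ht : t = 1 <;> simp [Invol.orderOf_eq_two_iff, ht]
    rw [this, Finset.card_insert_of_notMem (by simp), Nat.card_eq_fintype_card,
      Fintype.card_subtype]
  have hinv : Function.Involutive (fun t : G => t⁻¹) := inv_inv
  let σ : Equiv.Perm G := hinv.toPerm
  have hsupp : σ.support = (Finset.univ.filter fun t : G => t * t = 1)ᶜ := by
    ext t
    simp only [Equiv.Perm.mem_support, Finset.mem_compl, Finset.mem_filter, Finset.mem_univ,
      true_and, ne_eq]
    exact not_congr (Iff.trans eq_comm mul_eq_one_iff_eq_inv.symm)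
  have heq : σ ^ (2 ^ 1) = 1 := Equiv.ext fun t => inv_inv t
  have hfix : (Finset.univ.filter fun t : G => t * t = 1).card % 2 = 0 := by
    have h1 := σ.card_compl_support_modEq (p := 2) (n := 1) heq
    rw [hsupp, compl_compl] at h1
    rw [Nat.card_eq_fintype_card] at heven
    obtain ⟨k, hk⟩ := heven
    unfold Nat.ModEq at h1
    omega
  rw [Nat.odd_iff]
  omega

end Cfsg.Agent.S0226
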