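import Cfsg.Statements.S0228
import Cfsg.Agent.Invol.Count
import Mathlib.GroupTheory.SpecificGroups.Alternating
import Mathlib.GroupTheory.Sylow

set_option autoImplicit false
open Cfsg

namespace Cfsg.Agent.S0228

/-- A group of order 12 in which no involution is central is isomorphic to the alternating group on four letters. -/
theorem result {G : Type*} [Group G] [Finite G] (hG : Nat.card G = 12) (hz : ∀ z : G, orderOf z = 2 → z ∉ Subgroup.center G) : Nonempty (G ≃* alternatingGroup (Fin 4)) := by
  classical
  have h3 : Fact (Nat.Prime 3) := ⟨Nat.prime_three⟩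
  have h2 : Fact (Nat.Prime 2) := ⟨Nat.prime_two⟩
  let P : Sylow 3 G := default
  have hP : Nat.card P = 3 := by
    rw [P.card_eq_multiplicity, hG, Nat.factorization_def _ Nat.prime_three]
    decide +kernel
  have hidx : (P : Subgroup G).index = 4 := by
    have h := (P : Subgroup G).card_mul_index
    rw [hG, hP] at h
    omega
  have hdvd : Nat.card (Sylow 3 G) ∣ 4 := hidx ▸ P.card_dvd_index
  have hmod := card_sylow_modEq_one 3 G
  have hn : Nat.card (Sylow 3 G) = 4 := by
    have hle := Nat.le_of_dvd (by norm_num) hdvd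
    have hne : Nat.card (Sylow 3 G) ≠ 1 := by
      intro h1
      have hsub := (Nat.card_eq_one_iff_unique.1 h1).1
      have hPn : (P : Subgroup G).Normal := P.normal_of_subsingleton
      obtain ⟨y, hy⟩ := isCyclic_of_prime_card hP |>.exists_generator
      have hy3 : orderOf (y : G) = 3 := by
        rw [Subgroup.orderOf_coe, orderOf_eq_card_of_forall_mem_zpowers hy, hP]
      have hPy : ∀ w ∈ (P : Subgroup G), w ∈ Subgroup.zpowers (y : G) := fun w hw => by
        obtain ⟨k, hk⟩ := Subgroup.mem_zpowers_iff.1 (hy ⟨w, hw⟩)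
        exact ⟨k, by simpa using congrArg Subtype.val hk⟩
      have hconj : ∀ g : G, g * y * g⁻¹ = y ∨ g * y * g⁻¹ = (y : G)⁻¹ := by
        intro g
        obtain ⟨k, hk⟩ := Subgroup.mem_zpowers_iff.1 (hPy _ (hPn.conj_mem y y.2 g))
        have hy3' : (y : G) ^ (3 : ℤ) = 1 := by
          rw [show (3 : ℤ) = ((3 : ℕ) : ℤ) by norm_num, zpow_natCast]
          have := pow_orderOf_eq_one (y : G)
          rwa [hy3] at this
        rw [← hk, ← Int.emod_add_mul_ediv k 3, zpow_add, zpow_mul, hy3', one_zpow, mul_one]
        have : k % 3 = 0 ∨ k % 3 = 1 ∨ k % 3 = 2 := by omega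
        rcases this with h | h | h <;> rw [h]
        · exfalso
          rw [← Int.emod_add_mul_ediv k 3, zpow_add, zpow_mul, hy3', one_zpow, mul_one, h, zpow_zero] at hk
          have := conj_eq_one_iff.1 hk.symm
          rw [this, orderOf_one] at hy3
          omega
        · exact Or.inl (zpow_one _)
        · exact Or.inr (eq_inv_of_mul_eq_one_left (by rw [← zpow_add_one]; exact hy3'))
      set C := Subgroup.centralizer ({(y : G)} : Set G) with hC
      have hcls : Nat.card {w : G // IsConj (y : G) w} ≤ 2 := by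
        have hsub : ({w | IsConj (y : G) w} : Set G) ⊆ {(y : G), (y : G)⁻¹} := fun w hw => by
          obtain ⟨g, rfl⟩ := isConj_iff.1 hw
          exact hconj g
        exact le_trans (Set.ncard_le_ncard hsub (Set.toFinite _)) ((Set.ncard_insert_le _ _).trans (by simp))
      have hC6 : Even (Nat.card C) := by
        have h := Invol.card_isConj_mul_card_centralizer (y : G)
        rw [hG, ← hC] at h
        have h0 : 0 < Nat.card {w : G // IsConj (y : G) w} := Nat.pos_of_ne_zero (by intro h0; rw [h0, zero_mul] at h; omega)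
        interval_cases hq : Nat.card {w : G // IsConj (y : G) w}
        · exact ⟨6, by omega⟩
        · exact ⟨3, by omega⟩
      obtain ⟨z, hzo⟩ := exists_prime_orderOf_dvd_card' (G := C) 2 (even_iff_two_dvd.1 hC6)
      rw [← Subgroup.orderOf_coe] at hzo
      have hzy : Commute (z : G) y := Subgroup.mem_centralizer_singleton_iff.1 z.2
      have hw : orderOf ((z : G) * y) = 6 := by
        rw [hzy.orderOf_mul_eq_mul_orderOf_of_coprime (by rw [hzo, hy3]; decide), hzo, hy3]
      have hWn : (Subgroup.zpowers ((z : G) * y)).Normal := by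
        refine Subgroup.normal_of_index_eq_two ?_
        have h := (Subgroup.zpowers ((z : G) * y)).card_mul_index
        rw [hG, Nat.card_zpowers, hw] at h
        omega
      have hzW : (z : G) ∈ Subgroup.zpowers ((z : G) * y) := by
        refine ⟨3, ?_⟩
        show ((z : G) * y) ^ (3 : ℤ) = z
        rw [show (3 : ℤ) = ((3 : ℕ) : ℤ) by norm_num, zpow_natCast, hzy.mul_pow,
          show (y : G) ^ 3 = 1 by have := pow_orderOf_eq_one (y : G); rwa [hy3] at this, mul_one, pow_succ, pow_two,
          Invol.mul_self_eq_one hzo, one_mul]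
      refine hz z hzo (Subgroup.mem_center_iff.2 fun g => ?_)
      exact mul_inv_eq_iff_eq_mul.1 (Invol.eq_of_mem_zpowers_of_orderOf_two
        ((Invol.orderOf_conj g _).trans hzo) hzo (hWn.conj_mem _ hzW g) hzW)
    unfold Nat.ModEq at hmod
    have hpos : 0 < Nat.card (Sylow 3 G) := Nat.card_pos
    generalize hq : Nat.card (Sylow 3 G) = q at *
    interval_cases q <;> omega
  have hN : ∀ Q : Sylow 3 G, Subgroup.normalizer ((Q : Subgroup G) : Set G) = (Q : Subgroup G) := by
    intro Q
    have hQc : Nat.card Q = 3 := by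
      rw [Q.card_eq_multiplicity, ← P.card_eq_multiplicity, hP]
    refine (Subgroup.eq_of_le_of_card_ge Subgroup.le_normalizer ?_).symm
    have h := (Subgroup.normalizer ((Q : Subgroup G) : Set G)).card_mul_index
    have hi : (Subgroup.normalizer ((Q : Subgroup G) : Set G)).index = 4 :=
      (Sylow.card_eq_index_normalizer Q).symm.trans hn
    rw [hi, hG] at h
    omega
  let e : Sylow 3 G ≃ Fin 4 := (Finite.equivFinOfCardEq hn)
  let f : G →* Equiv.Perm (Fin 4) :=
    (Equiv.permCongrHom e).toMonoidHom.comp (MulAction.toPermHom G (Sylow 3 G))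
  have hker : ∀ g, f g = 1 → g = 1 := by
    intro g hg
    have hfix : ∀ Q : Sylow 3 G, g • Q = Q := fun Q => by
      have h1 : MulAction.toPermHom G (Sylow 3 G) g = 1 :=
        (Equiv.permCongrHom e).injective (hg.trans (map_one _).symm)
      exact congrArg (fun σ : Equiv.Perm _ => σ Q) h1
    obtain ⟨Q, R, hQR⟩ := (Finite.one_lt_card_iff_nontrivial.1 (by omega) : Nontrivial (Sylow 3 G))
    have hmem : ∀ Q : Sylow 3 G, g ∈ (Q : Subgroup G) := fun Q => by
      rw [← hN Q]; exact Sylow.smul_eq_iff_mem_normalizer.1 (hfix Q)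
    have hQc : ∀ Q : Sylow 3 G, Nat.card Q = 3 := fun Q => by
      rw [Q.card_eq_multiplicity, ← P.card_eq_multiplicity, hP]
    by_contra hg1
    apply hQR
    apply Sylow.ext
    have hgen : ∀ Q : Sylow 3 G, Subgroup.zpowers g = (Q : Subgroup G) := fun Q => by
      refine Subgroup.eq_of_le_of_card_ge (Subgroup.zpowers_le.2 (hmem Q)) ?_
      rw [hQc Q, Nat.card_zpowers]
      have hdvd : orderOf g ∣ 3 := hQc Q ▸ (Subgroup.orderOf_mk g (hmem Q)).symm.dvd.trans (orderOf_dvd_natCard _)
      rcases (Nat.dvd_prime Nat.prime_three).1 hdvd with h | h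
      · exact absurd (orderOf_eq_one_iff.1 h) hg1
      · omega
    rw [← hgen Q, ← hgen R]
  have hinj : Function.Injective f := (injective_iff_map_eq_one f).2 hker
  have hidx2 : f.range.index = 2 := by
    have h := f.range.card_mul_index
    rw [← Nat.card_congr (MonoidHom.ofInjective hinj).toEquiv, hG, Nat.card_perm, Nat.card_fin] at h
    norm_num [Nat.factorial] at h
    omega
  exact ⟨(MonoidHom.ofInjective hinj).trans
    (MulEquiv.subgroupCongr (Equiv.Perm.eq_alternatingGroup_of_index_eq_two hidx2))⟩

end Cfsg.Agent.S0228
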