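import Cfsg.Statements.S0230
import Cfsg.Agent.Invol.Count
import Mathlib.Data.Set.Card.Arithmetic

set_option autoImplicit false
open Cfsg

namespace Cfsg.Agent.S0230

/-- Let G be a finite group with two non-conjugate involutions, and let t be an involution whose centralizer has maximal order among centralizers of involutions. Then |G| < |C_G(t)|^3. -/
theorem result {G : Type*} [Group G] [Finite G] (s t : G) (hs : orderOf s = 2) (ht : orderOf t = 2) (hnc : ¬ IsConj s t) (hmax : ∀ u : G, orderOf u = 2 → Nat.card (Subgroup.centralizer ({u} : Set G)) ≤ Nat.card (Subgroup.centralizer ({t} : Set G))) : Nat.card G < Nat.card (Subgroup.centralizer ({t} : Set G)) ^ 3 := by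
  classical
  have := Fintype.ofFinite G
  set n := Nat.card (Subgroup.centralizer ({t} : Set G)) with hn
  let Z : Finset G := Finset.univ.filter fun z => orderOf z = 2 ∧ Commute z t
  let C : G → Finset G := fun z => Finset.univ.filter fun v => Commute v z
  let K : Finset G := Finset.univ.filter fun v => IsConj s v
  have hKsub : K ⊆ Z.biUnion C := by
    intro v hv
    simp only [K, Finset.mem_filter, Finset.mem_univ, true_and] at hv
    have hv2 : orderOf v = 2 := Invol.orderOf_eq_two_of_isConj hv hs
    obtain ⟨-, z, hz, hzt, hzv, -⟩ := Invol.exists_central_of_not_isConj ht hv2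
      (fun h => hnc (hv.trans h.symm))
    exact Finset.mem_biUnion.2 ⟨z, by simp [Z, hz, hzt], by simp [C, hzv.symm]⟩
  have hCz : ∀ z ∈ Z, (C z).card ≤ n := by
    intro z hz
    simp only [Z, Finset.mem_filter, Finset.mem_univ, true_and] at hz
    refine le_trans (le_of_eq ?_) (hmax z hz.1)
    rw [← Nat.card_eq_finsetCard]
    exact Nat.card_congr (Equiv.subtypeEquivRight fun v => by
      rw [Subgroup.mem_centralizer_singleton_iff]; simp [C, commute_iff_eq])
  have hZ : Z.card < n := by
    have hlt : Z.card < (Finset.univ.filter fun v : G => v ∈ Subgroup.centralizer ({t} : Set G)).card := by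
      refine Finset.card_lt_card (Finset.ssubset_iff_of_subset ?_ |>.2 ⟨1, by simp, by simp [Z]⟩)
      intro z hz
      simp only [Z, Finset.mem_filter, Finset.mem_univ, true_and] at hz
      simp only [Finset.mem_filter, Finset.mem_univ, true_and]
      exact Subgroup.mem_centralizer_singleton_iff.2 hz.2
    refine lt_of_lt_of_eq hlt ?_
    rw [hn, ← Nat.card_eq_finsetCard]
    exact Nat.card_congr (Equiv.subtypeEquivRight fun v => by simp)
  have hK : K.card < n * n := calc
    K.card ≤ (Z.biUnion C).card := Finset.card_le_card hKsub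
    _ ≤ ∑ z ∈ Z, (C z).card := Finset.card_biUnion_le
    _ ≤ ∑ _z ∈ Z, n := Finset.sum_le_sum hCz
    _ = Z.card * n := by rw [Finset.sum_const, smul_eq_mul]
    _ < n * n := Nat.mul_lt_mul_of_pos_right hZ Nat.card_pos
  have hcl := Invol.card_isConj_mul_card_centralizer s
  rw [Nat.card_eq_fintype_card (α := {y : G // IsConj s y}), Fintype.card_subtype] at hcl
  rw [← hcl]
  calc K.card * Nat.card (Subgroup.centralizer ({s} : Set G))
      ≤ K.card * n := Nat.mul_le_mul_left _ (hmax s hs)
    _ < n * n * n := Nat.mul_lt_mul_of_pos_right hK Nat.card_pos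
    _ = n ^ 3 := by ring

end Cfsg.Agent.S0230
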