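import Cfsg.Statements.S0233
import Cfsg.Agent.Invol.BrauerFowler

set_option autoImplicit false
open Cfsg

namespace Cfsg.Agent.S0233

/-- Let G be a finite group of even order with exactly n involutions whose centre has odd order, and put a = |G|/n. Then G has a proper subgroup H with |G : H| = 2 or |G : H| < a(a+1)/2; over ℕ the latter reads 2·|G:H|·n² < |G|·(|G| + n). -/
theorem result {G : Type*} [Group G] [Finite G] (heven : Even (Nat.card G)) (hZ : Odd (Nat.card (Subgroup.center G))) : ∃ H : Subgroup G, H ≠ ⊤ ∧ (H.index = 2 ∨ 2 * H.index * (Nat.card {t : G // orderOf t = 2}) ^ 2 < Nat.card G * (Nat.card G + Nat.card {t : G // orderOf t = 2})) := by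
  classical
  have : Fact (Nat.Prime 2) := ⟨Nat.prime_two⟩
  by_cases hidx : ∃ H : Subgroup G, H.index = 2
  · obtain ⟨H, hH⟩ := hidx
    exact ⟨H, fun h => by rw [h, Subgroup.index_top] at hH; omega, Or.inl hH⟩
  push Not at hidx
  obtain ⟨t, ht⟩ := exists_prime_orderOf_dvd_card' (G := G) 2 (even_iff_two_dvd.1 heven)
  have htop : Subgroup.centralizer ({t} : Set G) ≠ ⊤ :=
    Invol.centralizer_ne_top (Invol.notMem_center_of_involution hZ ht)
  have : Nonempty {H : Subgroup G // H ≠ ⊤} := ⟨⟨_, htop⟩⟩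
  obtain ⟨⟨H, hHtop⟩, hmax⟩ := Finite.exists_max (fun H : {H : Subgroup G // H ≠ ⊤} => Nat.card H.1)
  refine ⟨H, hHtop, Or.inr ?_⟩
  obtain ⟨hn0, hb⟩ := Invol.brauerFowler_bound heven hZ hidx _ (fun K hK => hmax ⟨K, hK⟩)
  have h := H.card_mul_index
  have hpos : 0 < H.index := Nat.pos_of_ne_zero Subgroup.index_ne_zero_of_finite
  calc 2 * H.index * Nat.card {t : G // orderOf t = 2} ^ 2
      = H.index * (2 * Nat.card {t : G // orderOf t = 2} ^ 2) := by ring
    _ < H.index * ((Nat.card G + Nat.card {t : G // orderOf t = 2}) * Nat.card H) :=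
        Nat.mul_lt_mul_of_pos_left hb hpos
    _ = Nat.card G * (Nat.card G + Nat.card {t : G // orderOf t = 2}) := by rw [← h]; ring

end Cfsg.Agent.S0233
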