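import Cfsg.Statements.S0234
import Cfsg.Agent.Invol.BrauerFowler
import Cfsg.Agent.S0228
import Mathlib.Data.Finite.Perm
import Mathlib.GroupTheory.Nilpotent
import Mathlib.GroupTheory.Perm.ViaEmbedding
import Mathlib.Tactic

set_option autoImplicit false
open Cfsg

namespace Cfsg.Agent.S0234

/-- In a finite simple group G of even order greater than 2, the number n of involutions satisfies 3n < |G|. -/
theorem result {G : Type*} [Group G] [Finite G] [IsSimpleGroup G] (heven : Even (Nat.card G)) (hgt : 2 < Nat.card G) : 3 * Nat.card {t : G // orderOf t = 2} < Nat.card G := by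
  classical
  have : Fact (Nat.Prime 2) := ⟨Nat.prime_two⟩
  by_contra hcon
  push Not at hcon
  have hnab : ¬ IsMulCommutative G := by
    intro hc
    have h := hc
    let : CommGroup G := { (inferInstance : Group G) with mul_comm := h.is_comm.comm }
    have hp := IsSimpleGroup.prime_card (α := G)
    rcases hp.eq_two_or_odd with h2 | h2
    · omega
    · obtain ⟨m, hm⟩ := heven
      omega
  have hbot : Subgroup.center G = ⊥ := by
    refine (Subgroup.Normal.eq_bot_or_eq_top (inferInstance : (Subgroup.center G).Normal)).resolve_right fun h => hnab ?_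
    exact ⟨⟨fun a b => (Subgroup.mem_center_iff.1 (h ▸ Subgroup.mem_top a) b).symm⟩⟩
  have hno : ∀ H : Subgroup G, H.index ≠ 2 := by
    intro H hH
    rcases Subgroup.Normal.eq_bot_or_eq_top (Subgroup.normal_of_index_eq_two hH) with h | h
    · rw [h, Subgroup.index_bot] at hH; omega
    · rw [h, Subgroup.index_top] at hH; omega
  have hne : (⊥ : Subgroup G) ≠ ⊤ := fun h => by
    have := Subgroup.card_bot (G := G)
    rw [h, Subgroup.card_top] at this
    omega
  have : Nonempty {H : Subgroup G // H ≠ ⊤} := ⟨⟨⊥, hne⟩⟩
  obtain ⟨⟨H, hHtop⟩, hmax⟩ := Finite.exists_max (fun H : {H : Subgroup G // H ≠ ⊤} => Nat.card H.1)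
  obtain ⟨hn0, hb⟩ := Invol.brauerFowler_bound heven (by rw [hbot, Subgroup.card_bot]; exact odd_one) hno _
    (fun K hK => hmax ⟨K, hK⟩)
  set n := Nat.card {t : G // orderOf t = 2} with hn
  have hnM : n < 2 * Nat.card H := by
    by_contra hle
    push Not at hle
    have h1 := Nat.mul_le_mul_right (Nat.card G + n) hle
    nlinarith
  have hidx5 : H.index ≤ 5 := by
    have h := H.card_mul_index
    have h6 : Nat.card H * H.index < Nat.card H * 6 := by omega
    have := Nat.lt_of_mul_lt_mul_left h6
    omega
  have : Fintype (G ⧸ H) := Fintype.ofFinite _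
  let f : G →* Equiv.Perm (G ⧸ H) := MulAction.toPermHom G (G ⧸ H)
  have hinj : Function.Injective f := by
    rw [← MonoidHom.ker_eq_bot_iff, ← Subgroup.normalCore_eq_ker]
    refine (Subgroup.Normal.eq_bot_or_eq_top (Subgroup.normalCore_normal H)).resolve_right fun h => hHtop ?_
    rw [eq_top_iff, ← h]
    exact Subgroup.normalCore_le H
  obtain ⟨e⟩ : Nonempty (G ⧸ H ↪ Fin 5) := Function.Embedding.nonempty_of_card_le (by
    rw [Fintype.card_fin, ← Nat.card_eq_fintype_card]; exact hidx5)
  let f5 : G →* Equiv.Perm (Fin 5) := (Equiv.Perm.viaEmbeddingHom e).comp f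
  have hf5 : Function.Injective f5 := (Equiv.Perm.viaEmbeddingHom_injective e).comp hinj
  have hsign : ∀ g, f5 g ∈ alternatingGroup (Fin 5) := by
    intro g
    rw [Equiv.Perm.mem_alternatingGroup]
    let s : G →* ℤˣ := Equiv.Perm.sign.comp f5
    rcases Subgroup.Normal.eq_bot_or_eq_top (inferInstance : s.ker.Normal) with h | h
    · exfalso
      have hi := Nat.card_le_card_of_injective s ((MonoidHom.ker_eq_bot_iff s).1 h)
      rw [Nat.card_eq_fintype_card (α := ℤˣ), show Fintype.card ℤˣ = 2 from rfl] at hi
      omega
    · have h3 : g ∈ s.ker := h ▸ Subgroup.mem_top g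
      exact MonoidHom.mem_ker.1 h3
  let F : G →* alternatingGroup (Fin 5) := f5.codRestrict _ hsign
  have hFinj : Function.Injective F := fun a b hab => hf5 (congrArg Subtype.val hab)
  have h60 : Nat.card (alternatingGroup (Fin 5)) = 60 := by
    rw [nat_card_alternatingGroup, Nat.card_fin]
    rfl
  have hk := F.range.card_mul_index
  rw [← Nat.card_congr (MonoidHom.ofInjective hFinj).toEquiv, h60] at hk
  by_cases hk1 : F.range.index = 1
  · rw [hk1, mul_one] at hk
    have h15 : n ≤ 15 := by
      have hc : Nat.card {t : alternatingGroup (Fin 5) // orderOf t = 2} = 15 := by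
        have he : ∀ t : alternatingGroup (Fin 5), orderOf t = 2 ↔ t ≠ 1 ∧ t * t = 1 := fun t =>
          Invol.orderOf_eq_two_iff
        rw [Nat.card_congr (Equiv.subtypeEquivRight he), Nat.card_eq_fintype_card]
        decide +kernel
      rw [← hc, hn]
      exact Nat.card_le_card_of_injective
        (fun t => (⟨F t.1, (orderOf_injective F hFinj t.1).trans t.2⟩ : {u : alternatingGroup (Fin 5) // orderOf u = 2}))
        (fun a b h => Subtype.ext (hFinj (congrArg (fun w : {u : alternatingGroup (Fin 5) // orderOf u = 2} => w.1) h)))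
    omega
  · have hkle : F.range.index ≤ 60 := Nat.le_of_dvd (by norm_num) ⟨Nat.card G, by rw [← hk]; ring⟩
    have hA5 : IsSimpleGroup (alternatingGroup (Fin 5)) := alternatingGroup.isSimpleGroup (by simp)
    have hR : F.range ≠ ⊤ := fun h => hk1 (by rw [h, Subgroup.index_top])
    have hinj2 : Function.Injective (MulAction.toPermHom (alternatingGroup (Fin 5)) (alternatingGroup (Fin 5) ⧸ F.range)) := by
      rw [← MonoidHom.ker_eq_bot_iff, ← Subgroup.normalCore_eq_ker]
      refine (Subgroup.Normal.eq_bot_or_eq_top (Subgroup.normalCore_normal _)).resolve_right fun h => hR ?_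
      rw [eq_top_iff, ← h]
      exact Subgroup.normalCore_le _
    have hk5 : 5 ≤ F.range.index := by
      by_contra h4
      have h := Nat.card_le_card_of_injective _ hinj2
      rw [h60, Nat.card_perm] at h
      have h24 : F.range.index.factorial ≤ Nat.factorial 4 := Nat.factorial_le (by omega)
      have h' : (60 : ℕ) ≤ F.range.index.factorial := h
      norm_num [Nat.factorial] at h24
      omega
    have hG12 : Nat.card G ≤ 12 := by
      have := Nat.mul_le_mul_left (Nat.card G) hk5
      omega
    have hG60 : Nat.card G ∣ 60 := ⟨_, hk.symm⟩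
    have hGsol : Group.IsSolvable G → False := fun hs => by
      have := hs
      have hlt := hs.commutator_lt_top_of_nontrivial G
      rcases Subgroup.Normal.eq_bot_or_eq_top (inferInstance : (commutator G).Normal) with h | h
      · exact hnab ⟨⟨fun a b => commutatorElement_eq_one_iff_mul_comm.1 (by
          have hm := Subgroup.commutator_mem_commutator (Subgroup.mem_top a) (Subgroup.mem_top b)
          rw [← commutator_def, h, Subgroup.mem_bot] at hm
          exact hm)⟩⟩
      · exact hlt.ne h
    obtain ⟨q, hq, hodd, hdvd⟩ : ∃ q, q.Prime ∧ q ≠ 2 ∧ q ∣ Nat.card G := by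
      by_contra hcon2
      push Not at hcon2
      have hp : IsPGroup 2 G := by
        refine IsPGroup.of_card (n := (Nat.card G).primeFactorsList.length) ?_
        exact Nat.eq_prime_pow_of_unique_prime_dvd Nat.card_pos.ne' (fun {d} hd hdd => by
          by_contra hne2; exact hcon2 d hd hne2 hdd)
      have := hp.isNilpotent
      exact hGsol inferInstance
    have := Fact.mk hq
    have hq12 : q ≤ 12 := le_trans (Nat.le_of_dvd Nat.card_pos hdvd) hG12
    have hmod := card_sylow_modEq_one q G
    let P : Sylow q G := default
    have hd := P.card_dvd_index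
    have hci := (P : Subgroup G).card_mul_index
    have hPc := P.card_eq_multiplicity
    have hnn : Nat.card (Sylow q G) ≠ 1 := by
      intro h1
      have := (Nat.card_eq_one_iff_unique.1 h1).1
      rcases Subgroup.Normal.eq_bot_or_eq_top P.normal_of_subsingleton with h | h
      · have := P.pow_dvd_card_of_pow_dvd_card (n := 1) (by simpa using hdvd)
        rw [h, Subgroup.card_bot, pow_one] at this
        exact hq.one_lt.ne' (Nat.dvd_one.1 this)
      · have hp : IsPGroup q G := by
          have := P.2; rw [h] at this; exact this.of_equiv Subgroup.topEquiv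
        have := hp.isNilpotent
        exact hGsol inferInstance
    have h2G : 2 ∣ Nat.card G := even_iff_two_dvd.1 heven
    have hdle : Nat.card (Sylow q G) ≤ (P : Subgroup G).index :=
      Nat.le_of_dvd (Nat.pos_of_ne_zero Subgroup.index_ne_zero_of_finite) hd
    have hPq : q ∣ Nat.card (P : Subgroup G) := by
      simpa using P.pow_dvd_card_of_pow_dvd_card (n := 1) (by simpa using hdvd)
    have hPle : q ≤ Nat.card (P : Subgroup G) := Nat.le_of_dvd Nat.card_pos hPq
    have hS : q + 1 ≤ Nat.card (Sylow q G) := by
      have h0 : 0 < Nat.card (Sylow q G) := Nat.card_pos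
      have := Nat.le_of_dvd (by omega) ((Nat.modEq_iff_dvd' h0).1 hmod.symm)
      omega
    have hq3 : q = 3 := by
      have h3 := hq.two_le
      have : q * (q + 1) ≤ 12 := calc
        q * (q + 1) ≤ Nat.card (P : Subgroup G) * (P : Subgroup G).index := Nat.mul_le_mul hPle (by omega)
        _ = Nat.card G := hci
        _ ≤ 12 := hG12
      interval_cases q <;> first | rfl | omega
    subst hq3
    have h12 : Nat.card G = 12 := by
      have : 3 * 4 ≤ Nat.card (P : Subgroup G) * (P : Subgroup G).index := Nat.mul_le_mul hPle (by omega)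
      omega
    by_cases hz : ∀ z : G, orderOf z = 2 → z ∉ Subgroup.center G
    · obtain ⟨e⟩ := Cfsg.Agent.S0228.result h12 hz
      have hc : Nat.card {t : alternatingGroup (Fin 4) // orderOf t = 2} = 3 := by
        have he : ∀ t : alternatingGroup (Fin 4), orderOf t = 2 ↔ t ≠ 1 ∧ t * t = 1 := fun t =>
          Invol.orderOf_eq_two_iff
        rw [Nat.card_congr (Equiv.subtypeEquivRight he), Nat.card_eq_fintype_card]
        decide +kernel
      have hn3 : n = 3 := by
        rw [hn, ← hc]
        exact Nat.card_congr (Equiv.subtypeEquiv e.toEquiv fun t => by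
          show orderOf t = 2 ↔ orderOf (e t) = 2
          rw [e.orderOf_eq])
      omega
    · push Not at hz
      obtain ⟨z, hz2, hzc⟩ := hz
      rw [hbot, Subgroup.mem_bot] at hzc
      exact Invol.ne_one hz2 hzc

end Cfsg.Agent.S0234
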