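import Cfsg.Statements.S0235
import Cfsg.Agent.Invol.Pair

set_option autoImplicit false
open Cfsg

namespace Cfsg.Agent.S0235

/-- If x² ≠ 1, the ordered pairs (u, v) of involutions with uv = x correspond bijectively to the involutions t with t x t⁻¹ = x⁻¹ (via (u, v) ↦ u), so the two counts agree. -/
theorem result {G : Type*} [Group G] [Finite G] (x : G) (hx : x ^ 2 ≠ 1) : Nat.card {p : G × G // orderOf p.1 = 2 ∧ orderOf p.2 = 2 ∧ p.1 * p.2 = x} = Nat.card {t : G // orderOf t = 2 ∧ t * x * t⁻¹ = x⁻¹} := by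
  refine Nat.card_congr
    { toFun := fun p => ⟨p.1.1, p.2.1, ?_⟩
      invFun := fun t => ⟨(t.1, t.1 * x), t.2.1, ?_, Invol.mul_mul_cancel_self t.2.1 x⟩
      left_inv := ?_
      right_inv := ?_ }
  · obtain ⟨⟨u, v⟩, hu, hv, rfl⟩ := p
    exact Invol.conj_mul_self hu hv
  · obtain ⟨t, ht, htx⟩ := t
    simp only
    rw [Invol.inv_eq_self ht] at htx
    refine Invol.orderOf_eq_two_iff.2 ⟨fun h => hx ?_, ?_⟩
    · rw [mul_eq_one_iff_eq_inv'.1 h, Invol.inv_eq_self ht, pow_two, Invol.mul_self_eq_one ht]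
    · rw [← mul_assoc, htx, inv_mul_cancel]
  · rintro ⟨⟨u, v⟩, hu, hv, huv⟩
    apply Subtype.ext
    show (u, u * x) = (u, v)
    rw [← huv, Invol.mul_mul_cancel_self hu]
  · rintro ⟨t, ht⟩
    rfl

end Cfsg.Agent.S0235
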