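import Cfsg.Statements.S0236
import Cfsg.Agent.Invol.Pair

set_option autoImplicit false
open Cfsg

namespace Cfsg.Agent.S0236

/-- If x is an involution, the number of ordered pairs (u, v) of involutions with uv = x, plus one, equals the number of involutions in the centralizer of x. -/
theorem result {G : Type*} [Group G] [Finite G] (x : G) (hx : orderOf x = 2) : Nat.card {p : G × G // orderOf p.1 = 2 ∧ orderOf p.2 = 2 ∧ p.1 * p.2 = x} + 1 = Nat.card {t : G // orderOf t = 2 ∧ Commute t x} := by
  classical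
  have e : {p : G × G // orderOf p.1 = 2 ∧ orderOf p.2 = 2 ∧ p.1 * p.2 = x} ≃
      {t : G // orderOf t = 2 ∧ Commute t x ∧ t ≠ x} :=
    { toFun := fun p => ⟨p.1.1, p.2.1, by
        obtain ⟨⟨u, v⟩, hu, hv, rfl⟩ := p
        show u * (u * v) = u * v * u
        have h := Invol.conj_mul_self hu hv
        rw [Invol.inv_eq_self hx] at h
        exact mul_inv_eq_iff_eq_mul.1 h, by
        obtain ⟨⟨u, v⟩, hu, hv, rfl⟩ := p
        exact fun h => Invol.ne_one hv (mul_eq_left.1 h.symm)⟩
      invFun := fun t => ⟨(t.1, t.1 * x), t.2.1, Invol.orderOf_eq_two_iff.2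
        ⟨fun h => t.2.2.2 ((mul_eq_one_iff_eq_inv.1 h).trans (Invol.inv_eq_self hx)), by
          rw [mul_assoc, ← mul_assoc x, ← t.2.2.1.eq, mul_assoc, Invol.mul_self_eq_one hx, mul_one,
            Invol.mul_self_eq_one t.2.1]⟩, Invol.mul_mul_cancel_self t.2.1 x⟩
      left_inv := by
        rintro ⟨⟨u, v⟩, hu, hv, huv⟩
        apply Subtype.ext
        show (u, u * x) = (u, v)
        rw [← huv, Invol.mul_mul_cancel_self hu]
      right_inv := fun _ => rfl }
  rw [Nat.card_congr e]
  have : {t : G | orderOf t = 2 ∧ Commute t x}.ncard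
      = {t : G | orderOf t = 2 ∧ Commute t x ∧ t ≠ x}.ncard + 1 := by
    rw [← Set.ncard_diff_singleton_add_one (s := {t : G | orderOf t = 2 ∧ Commute t x}) (a := x)
      ⟨hx, Commute.refl x⟩ (Set.toFinite _)]
    congr 2
    ext t
    simp [and_assoc]
  exact this.symm

end Cfsg.Agent.S0236
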