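import Cfsg.Statements.S0238
import Cfsg.Agent.Invol.Count
import Cfsg.Agent.S0236
import Cfsg.Agent.S0237

set_option autoImplicit false
open Cfsg

namespace Cfsg.Agent.S0238

/-- For every x in a finite group G, the number c of ordered pairs (u, v) of involutions with uv = x is at most |C_G(x)|; c = 0 when x is not conjugate to x⁻¹; and c + 2 ≤ |C_G(x)| when x is an involution. -/
theorem result {G : Type*} [Group G] [Finite G] (x : G) : Nat.card {p : G × G // orderOf p.1 = 2 ∧ orderOf p.2 = 2 ∧ p.1 * p.2 = x} ≤ Nat.card (Subgroup.centralizer ({x} : Set G)) ∧ (¬ IsConj x x⁻¹ → Nat.card {p : G × G // orderOf p.1 = 2 ∧ orderOf p.2 = 2 ∧ p.1 * p.2 = x} = 0) ∧ (orderOf x = 2 → Nat.card {p : G × G // orderOf p.1 = 2 ∧ orderOf p.2 = 2 ∧ p.1 * p.2 = x} + 2 ≤ Nat.card (Subgroup.centralizer ({x} : Set G))) := by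
  classical
  have hreal : ∀ p : {p : G × G // orderOf p.1 = 2 ∧ orderOf p.2 = 2 ∧ p.1 * p.2 = x},
      p.1.1 * x * p.1.1⁻¹ = x⁻¹ := by
    rintro ⟨⟨u, v⟩, hu, hv, rfl⟩
    exact Invol.conj_mul_self hu hv
  have h0 : ¬ IsConj x x⁻¹ →
      Nat.card {p : G × G // orderOf p.1 = 2 ∧ orderOf p.2 = 2 ∧ p.1 * p.2 = x} = 0 := fun h => by
    rw [Nat.card_eq_zero]
    exact Or.inl ⟨fun p => h (isConj_iff.2 ⟨_, hreal p⟩)⟩
  refine ⟨?_, h0, fun hx => ?_⟩
  · by_cases h : IsConj x x⁻¹
    · rw [← Cfsg.Agent.S0237.result x h]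
      refine Nat.card_le_card_of_injective (fun p => ⟨p.1.1, hreal p⟩) ?_
      rintro ⟨⟨u, v⟩, hu, hv, huv⟩ ⟨⟨u', v'⟩, hu', hv', huv'⟩ he
      have h1 : u = u' := congrArg Subtype.val he
      subst h1
      apply Subtype.ext
      exact Prod.ext rfl (mul_left_cancel (huv.trans huv'.symm))
    · rw [h0 h]; exact Nat.zero_le _
  · have h1 := Cfsg.Agent.S0236.result x hx
    have h2 : Nat.card {t : G // orderOf t = 2 ∧ Commute t x} + 1 ≤
        Nat.card (Subgroup.centralizer ({x} : Set G)) := by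
      have hlt : {t : G | orderOf t = 2 ∧ Commute t x}.ncard <
          ((Subgroup.centralizer ({x} : Set G) : Subgroup G) : Set G).ncard := by
        refine Set.ncard_lt_ncard ⟨fun t ht => Subgroup.mem_centralizer_singleton_iff.2 ht.2, ?_⟩
          (Set.toFinite _)
        intro h
        have := h (one_mem (Subgroup.centralizer ({x} : Set G)))
        simp at this
      exact hlt
    omega

end Cfsg.Agent.S0238
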