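import Cfsg.Statements.S0239
import Cfsg.Agent.Invol.Pair

set_option autoImplicit false
open Cfsg

namespace Cfsg.Agent.S0239

/-- If some nontrivial element x of a finite group G is conjugate to x⁻¹, then |G| is even. -/
theorem result {G : Type*} [Group G] [Finite G] (x : G) (hx : x ≠ 1) (hreal : IsConj x x⁻¹) : Even (Nat.card G) := by
  obtain ⟨g, hg⟩ := isConj_iff.1 hreal
  by_contra hodd
  rw [Nat.not_even_iff_odd] at hodd
  have h2 : g * g * x * (g * g)⁻¹ = x := by
    have h : g * (g * x * g⁻¹) * g⁻¹ = x := by rw [hg, ← conj_inv, hg, inv_inv]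
    calc g * g * x * (g * g)⁻¹ = g * (g * x * g⁻¹) * g⁻¹ := by group
      _ = x := h
  have hc : Commute (g * g) x := mul_inv_eq_iff_eq_mul.1 h2
  obtain ⟨m, hm⟩ := Odd.of_dvd_nat hodd (orderOf_dvd_natCard g)
  have hgp : g = ((g * g) ^ (m + 1)) := by
    rw [← pow_two, ← pow_mul, show 2 * (m + 1) = orderOf g + 1 by omega, pow_succ,
      pow_orderOf_eq_one, one_mul]
  have hgx : Commute g x := by rw [hgp]; exact hc.pow_left _
  have hxx : x = x⁻¹ := by rw [← hg, hgx.eq, mul_inv_cancel_right]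
  have ho : orderOf x = 2 := orderOf_eq_prime (by rw [pow_two]; exact mul_eq_one_iff_eq_inv.2 hxx) hx
  have := Odd.of_dvd_nat hodd (orderOf_dvd_natCard x)
  rw [ho] at this
  exact (by decide : ¬ Odd 2) this

end Cfsg.Agent.S0239
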