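import Cfsg.Statements.S0240
import Cfsg.Agent.Invol.Pair

set_option autoImplicit false
open Cfsg

namespace Cfsg.Agent.S0240

/-- Let G be a finite group with n involutions and H a subgroup with |H|·(n+1) > |G|. Then some nontrivial h ∈ H is strongly real in G: an involution t of G satisfies t h t⁻¹ = h⁻¹. -/
theorem result {G : Type*} [Group G] [Finite G] (H : Subgroup G) (hH : Nat.card G < Nat.card H * (Nat.card {t : G // orderOf t = 2} + 1)) : ∃ h : G, h ∈ H ∧ h ≠ 1 ∧ ∃ t : G, orderOf t = 2 ∧ t * h * t⁻¹ = h⁻¹ := by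
  classical
  let T := {t : G // t = 1 ∨ orderOf t = 2}
  have hcard : Nat.card T = Nat.card {t : G // orderOf t = 2} + 1 := by
    show Nat.card {t : G // t ∈ ({1} ∪ {t : G | orderOf t = 2} : Set G)} = _
    have : (({1} ∪ {t : G | orderOf t = 2} : Set G)).ncard = {t : G | orderOf t = 2}.ncard + 1 := by
      rw [Set.singleton_union, Set.ncard_insert_of_notMem]
      simp
    exact this
  have hlt : Nat.card (G ⧸ H) < Nat.card T := by
    rw [hcard]
    rw [← H.card_mul_index] at hH
    exact Nat.lt_of_mul_lt_mul_left hH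
  have hni : ¬ Function.Injective (fun t : T => (t.1 : G ⧸ H)) :=
    fun h => absurd (Nat.card_le_card_of_injective _ h) (not_le.2 hlt)
  rw [Function.not_injective_iff] at hni
  obtain ⟨⟨a, ha⟩, ⟨b, hb⟩, hab, hne⟩ := hni
  simp only [QuotientGroup.eq] at hab
  have hne' : a ≠ b := fun h => hne (Subtype.ext h)
  have ho : ∀ h : G, orderOf h = 2 → h * h * h⁻¹ = h⁻¹ := fun h hh => by
    rw [mul_inv_cancel_right, Invol.inv_eq_self hh]
  rcases ha with rfl | ha
  · rcases hb with rfl | hb
    · exact absurd rfl hne'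
    · exact ⟨b, by simpa using hab, Invol.ne_one hb, b, hb, ho b hb⟩
  · rcases hb with rfl | hb
    · exact ⟨a, by simpa using hab, Invol.ne_one ha, a, ha, ho a ha⟩
    · rw [Invol.inv_eq_self ha] at hab
      exact ⟨a * b, hab, fun h => hne' ((mul_eq_one_iff_eq_inv.1 h).trans (Invol.inv_eq_self hb)), a,
        ha, Invol.conj_mul_self ha hb⟩

end Cfsg.Agent.S0240
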