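import Cfsg.Statements.S0241
import Cfsg.Agent.Invol.Pair

set_option autoImplicit false
open Cfsg

namespace Cfsg.Agent.S0241

/-- If x ≠ 1 is conjugate to x⁻¹ in a finite group G and |C_G(x)| is odd, then some involution t satisfies t x t⁻¹ = x⁻¹. -/
theorem result {G : Type*} [Group G] [Finite G] (x : G) (hx : x ≠ 1) (hreal : IsConj x x⁻¹) (hodd : Odd (Nat.card (Subgroup.centralizer ({x} : Set G)))) : ∃ t : G, orderOf t = 2 ∧ t * x * t⁻¹ = x⁻¹ := by
  obtain ⟨g, hg⟩ := isConj_iff.1 hreal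
  have hkey : ∀ m : ℕ, g ^ (2 * m + 1) * x * (g ^ (2 * m + 1))⁻¹ = x⁻¹ := by
    intro m
    induction m with
    | zero => simpa using hg
    | succ k ih =>
      have hinv : ∀ a : G, a * x * a⁻¹ = x⁻¹ → a * x⁻¹ * a⁻¹ = x := fun a h => by
        rw [← conj_inv, h, inv_inv]
      calc g ^ (2 * (k + 1) + 1) * x * (g ^ (2 * (k + 1) + 1))⁻¹
          = g * (g * (g ^ (2 * k + 1) * x * (g ^ (2 * k + 1))⁻¹) * g⁻¹) * g⁻¹ := by group
        _ = g * (g * x⁻¹ * g⁻¹) * g⁻¹ := by rw [ih]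
        _ = x⁻¹ := by rw [hinv g hg, hg]
  obtain ⟨k, m, hm, hgm⟩ := Nat.exists_eq_pow_mul_and_not_dvd (orderOf_pos g).ne' 2 (by decide)
  rw [Nat.two_dvd_ne_zero, ← Nat.odd_iff] at hm
  obtain ⟨j, rfl⟩ := hm
  set h := g ^ (2 * j + 1) with hh
  have hhx := hkey j
  have hho : orderOf h = 2 ^ k := by
    rw [hh, orderOf_pow_of_dvd (by omega) ⟨2 ^ k, by rw [hgm]; ring⟩, hgm,
      Nat.mul_div_cancel _ (by omega)]
  have h2c : h ^ 2 ∈ Subgroup.centralizer ({x} : Set G) := by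
    rw [Subgroup.mem_centralizer_singleton_iff, ← mul_inv_eq_iff_eq_mul, pow_two]
    calc h * h * x * (h * h)⁻¹ = h * (h * x * h⁻¹) * h⁻¹ := by group
      _ = x := by rw [hhx, ← conj_inv, hhx, inv_inv]
  have hh2 : h ^ 2 = 1 := by
    have h3 : orderOf (h ^ 2) ∣ Nat.card (Subgroup.centralizer ({x} : Set G)) :=
      (Subgroup.orderOf_mk _ h2c).symm.dvd.trans (orderOf_dvd_natCard _)
    have h4 : orderOf (h ^ 2) ∣ 2 ^ k := hho ▸ orderOf_pow_dvd 2
    obtain ⟨i, hi, he⟩ := (Nat.dvd_prime_pow Nat.prime_two).1 h4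
    rcases Nat.eq_zero_or_pos i with rfl | hi0
    · exact orderOf_eq_one_iff.1 he
    · have h5 := Odd.of_dvd_nat hodd h3
      rw [he, Nat.odd_iff, Nat.pow_mod, Nat.mod_self, zero_pow hi0.ne'] at h5
      simp at h5
  refine ⟨h, Invol.orderOf_eq_two_iff.2 ⟨fun h1 => ?_, by rwa [pow_two] at hh2⟩, hhx⟩
  rw [← hh, h1, one_mul, inv_one, mul_one] at hhx
  have hx2 : orderOf x = 2 := orderOf_eq_prime (by rw [pow_two]; exact mul_eq_one_iff_eq_inv.2 hhx) hx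
  have hxc : x ∈ Subgroup.centralizer ({x} : Set G) := Subgroup.mem_centralizer_singleton_iff.2 rfl
  have h6 := Odd.of_dvd_nat hodd ((Subgroup.orderOf_mk _ hxc).symm.dvd.trans (orderOf_dvd_natCard _))
  rw [hx2] at h6
  exact (by decide : ¬ Odd 2) h6

end Cfsg.Agent.S0241
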