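import Cfsg.Statements.S0250
import Cfsg.Agent.Classical.SL2Gen
-- import your own Cfsg.Agent.* helpers here

set_option autoImplicit false
open Cfsg

namespace Cfsg.Agent.S0250

/-- SL_2(2) is isomorphic to S_3. -/
theorem result {F : Type*} [Field F] [Fintype F] (hF : Fintype.card F = 2) : Nonempty (Matrix.SpecialLinearGroup (Fin 2) F ≃* Equiv.Perm (Fin 3)) := by
  have hinj : Function.Injective
      (MulAction.toPermHom (Matrix.SpecialLinearGroup (Fin 2) F) (Projectivization F (Fin 2 → F))) := by
    rw [← MonoidHom.ker_eq_bot_iff, Projectivization.SL_mulAction_ker, ← Subgroup.card_eq_one,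
      Cfsg.Agent.Classical.card_center_sl, hF]
    norm_num
  have h3 : Nat.card (Projectivization F (Fin 2 → F)) = 3 := by
    rw [Projectivization.card_of_finrank_two F (Fin 2 → F) (by simp), Nat.card_eq_fintype_card, hF]
  have : Finite (Projectivization F (Fin 2 → F)) := Nat.finite_of_card_ne_zero (by omega)
  obtain ⟨e⟩ : Nonempty (Projectivization F (Fin 2 → F) ≃ Fin 3) := ⟨(Finite.equivFinOfCardEq h3)⟩
  refine ⟨(MulEquiv.ofBijective _ ((Nat.bijective_iff_injective_and_card _).2 ⟨hinj, ?_⟩)).trans
    e.permCongrHom⟩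
  rw [Cfsg.Agent.Classical.card_sl2, Nat.card_perm, h3, hF]
  rfl

end Cfsg.Agent.S0250
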