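import Cfsg.Statements.S0257
import Cfsg.Agent.Classical.LinearBasic
-- import your own Cfsg.Agent.* helpers here

set_option autoImplicit false
open Cfsg

namespace Cfsg.Agent.S0257

/-- SL_2(3) has a normal subgroup of index 3 isomorphic to the quaternion group of order 8, and its centre has order 2. -/
private abbrev S3 := Matrix.SpecialLinearGroup (Fin 2) (ZMod 3)

private def qi : S3 := ⟨!![0, 1; 2, 0], by decide⟩
private def qj : S3 := ⟨!![1, 1; 1, 2], by decide⟩

private def qf : QuaternionGroup 2 → S3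
  | .a k => qi ^ k.val
  | .xa k => qj * qi ^ k.val

set_option maxRecDepth 100000 in
private theorem qf_mul : ∀ x y : QuaternionGroup 2, qf (x * y) = qf x * qf y := by
  intro x y
  rcases x with i | i <;> rcases y with j | j <;> revert i j <;> decide

set_option maxRecDepth 100000 in
private theorem qf_inj : Function.Injective qf := by
  intro x y
  rcases x with i | i <;> rcases y with j | j <;> revert i j <;> decide

set_option maxRecDepth 100000 in
private theorem mem_range_qf : ∀ a b c d : ZMod 3, a * d - b * c = 1 →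
    ((a + d = 0 ∨ (b = 0 ∧ c = 0 ∧ a = d)) ↔ ∃ x : QuaternionGroup 2, (qf x).1 = !![a, b; c, d]) := by
  decide


theorem result {F : Type*} [Field F] [Fintype F] (hF : Fintype.card F = 3) : (∃ Q : Subgroup (Matrix.SpecialLinearGroup (Fin 2) F), Q.Normal ∧ Q.index = 3 ∧ Nonempty (Q ≃* QuaternionGroup 2)) ∧ Nat.card (Subgroup.center (Matrix.SpecialLinearGroup (Fin 2) F)) = 2 := by
  classical
  constructor
  · have : Fact (Nat.Prime 3) := ⟨Nat.prime_three⟩
    let φ : ZMod 3 ≃+* F := FiniteField.ringEquivOfCardEq (by rw [ZMod.card, hF])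
    let f : QuaternionGroup 2 →* S3 := MonoidHom.mk' qf qf_mul
    let Φ : S3 →* Matrix.SpecialLinearGroup (Fin 2) F := Matrix.SpecialLinearGroup.map φ.toRingHom
    have hΦ : Function.Bijective Φ := by
      refine ⟨fun x y h => ?_, fun g => ?_⟩
      · exact Subtype.ext (Matrix.map_injective φ.injective (congrArg Subtype.val h))
      · refine ⟨Matrix.SpecialLinearGroup.map φ.symm.toRingHom g, Subtype.ext ?_⟩
        ext i j
        simp [Φ]
    have hn : f.range.Normal := ⟨fun n ⟨x, hx⟩ g => by
      have key : ∀ y : S3, y ∈ f.range ↔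
          (y.1.trace = 0 ∨ (y.1 0 1 = 0 ∧ y.1 1 0 = 0 ∧ y.1 0 0 = y.1 1 1)) := fun y => by
        have hd : y.1 0 0 * y.1 1 1 - y.1 0 1 * y.1 1 0 = 1 := by rw [← Matrix.det_fin_two]; exact y.2
        rw [Matrix.trace_fin_two, mem_range_qf _ _ _ _ hd, ← Matrix.eta_fin_two]
        exact ⟨fun ⟨x, hx⟩ => ⟨x, congrArg Subtype.val hx⟩, fun ⟨x, hx⟩ => ⟨x, Subtype.ext hx⟩⟩
      rw [key]
      rcases (key n).1 ⟨x, hx⟩ with h | ⟨h1, h2, h3⟩
      · left
        rw [Matrix.SpecialLinearGroup.coe_mul, Matrix.SpecialLinearGroup.coe_mul, Matrix.trace_mul_comm,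
          ← Matrix.mul_assoc, ← Matrix.SpecialLinearGroup.coe_mul, inv_mul_cancel,
          Matrix.SpecialLinearGroup.coe_one, one_mul, h]
      · right
        have hs : n.1 = n.1 0 0 • (1 : Matrix (Fin 2) (Fin 2) (ZMod 3)) := by
          ext i j; fin_cases i <;> fin_cases j <;> simp [h1, h2, h3]
        rw [Matrix.SpecialLinearGroup.coe_mul, Matrix.SpecialLinearGroup.coe_mul, hs, Matrix.mul_smul,
          Matrix.smul_mul, mul_one, ← Matrix.SpecialLinearGroup.coe_mul, mul_inv_cancel,
          Matrix.SpecialLinearGroup.coe_one]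
        simp⟩
    let e : S3 ≃* Matrix.SpecialLinearGroup (Fin 2) F := MulEquiv.ofBijective Φ hΦ
    refine ⟨f.range.map e.toMonoidHom, hn.map _ e.surjective, ?_, ?_⟩
    · rw [show (f.range.map e.toMonoidHom).index = f.range.index from Subgroup.index_map_equiv f.range e]
      have h1 := f.range.index_mul_card
      rw [← Nat.card_congr (MonoidHom.ofInjective (f := f) qf_inj).toEquiv, Nat.card_eq_fintype_card (α := QuaternionGroup 2),
        QuaternionGroup.card] at h1
      have h2 : Nat.card S3 = 24 := by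
        rw [Nat.card_eq_fintype_card]
        rfl
      omega
    · exact ⟨((MonoidHom.ofInjective (f := f) qf_inj).trans (e.subgroupMap f.range)).symm⟩
  · rw [Cfsg.Agent.Classical.card_center_sl, hF]
    rfl

end Cfsg.Agent.S0257
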