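import Mathlib
import Cfsg.Statements.S0268
-- import your own Cfsg.Agent.* helpers here

set_option autoImplicit false
open Cfsg

namespace Cfsg.Agent.S0268

/-- For q odd, -1 is the unique involution of SL_2(q). -/
theorem result {F : Type*} [Field F] [Fintype F] (hF : Odd (Fintype.card F)) (g : Matrix.SpecialLinearGroup (Fin 2) F) (h1 : g ≠ 1) (h2 : g * g = 1) : (g : Matrix (Fin 2) (Fin 2) F) = -1 := by
  have hne : (-1 : F) ≠ 1 := fun hc => by
    have h2 : (2 : F) = 0 := by linear_combination -hc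
    have : CharP F 2 := by
      refine (CharP.charP_iff_prime_eq_zero Nat.prime_two).2 ?_
      exact_mod_cast h2
    obtain ⟨f, hf, hq⟩ := FiniteField.card F 2
    rw [hq] at hF
    exact (Nat.not_even_iff_odd.2 hF) (Even.pow_of_ne_zero (by norm_num) f.ne_zero)
  have h3 : g⁻¹ = g := inv_eq_of_mul_eq_one_right h2
  have h4 : Matrix.adjugate (g : Matrix (Fin 2) (Fin 2) F) = g := by
    rw [← Matrix.SpecialLinearGroup.coe_inv, h3]
  rw [Matrix.adjugate_fin_two] at h4
  have e00 := congrFun (congrFun h4 0) 0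
  have e01 := congrFun (congrFun h4 0) 1
  have e10 := congrFun (congrFun h4 1) 0
  simp at e00 e01 e10
  have h2' : (2 : F) ≠ 0 := fun hc => hne (by linear_combination -hc)
  have z01 : (g : Matrix (Fin 2) (Fin 2) F) 0 1 = 0 :=
    (mul_eq_zero.1 (by linear_combination -e01 : (2 : F) * (g : Matrix (Fin 2) (Fin 2) F) 0 1 = 0)).resolve_left h2'
  have z10 : (g : Matrix (Fin 2) (Fin 2) F) 1 0 = 0 :=
    (mul_eq_zero.1 (by linear_combination -e10 : (2 : F) * (g : Matrix (Fin 2) (Fin 2) F) 1 0 = 0)).resolve_left h2'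
  have hdet := g.2
  rw [Matrix.det_fin_two, z01, e00] at hdet
  simp only [zero_mul, sub_zero] at hdet
  rcases mul_self_eq_one_iff.1 hdet with h | h
  · exfalso
    refine h1 (Subtype.ext (Matrix.ext fun i j => ?_))
    fin_cases i <;> fin_cases j <;> simp [z01, z10, e00, h]
  · ext i j
    fin_cases i <;> fin_cases j <;> simp [z01, z10, e00, h]

end Cfsg.Agent.S0268
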