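import Cfsg.Statements.S0307
import Cfsg.Agent.Classical.LinearBasic
-- import your own Cfsg.Agent.* helpers here

set_option autoImplicit false
open Cfsg

namespace Cfsg.Agent.S0307

/-- PSL_n(q) is normal in PGL_n(q) with cyclic quotient of order gcd(n, q-1): the image of the natural map PSL_n → PGL_n is the kernel of a surjective homomorphism onto the cyclic group of that order. -/
theorem result {F : Type*} [Field F] [Fintype F] {q : ℕ} (hF : Fintype.card F = q) (n : ℕ) (hn : 1 ≤ n) : ∃ g : Matrix.ProjGenLinGroup (Fin n) F →* Multiplicative (ZMod (Nat.gcd n (q - 1))), Function.Surjective g ∧ g.ker = (Matrix.ProjectiveSpecialLinearGroup.toPGL : Matrix.ProjectiveSpecialLinearGroup (Fin n) F →* Matrix.ProjGenLinGroup (Fin n) F).range := by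
  subst hF
  have : Nonempty (Fin n) := ⟨⟨0, hn⟩⟩
  let R : Subgroup Fˣ := (powMonoidHom n).range
  let f : GL (Fin n) F →* Fˣ ⧸ R := (QuotientGroup.mk' R).comp Matrix.GeneralLinearGroup.det
  have hsc : ∀ u : Fˣ, Matrix.GeneralLinearGroup.det (Matrix.GeneralLinearGroup.scalar (Fin n) u) = u ^ n :=
    fun u => Units.ext (by simp [Matrix.GeneralLinearGroup.val_det_apply])
  have hf : f.comp (Matrix.GeneralLinearGroup.scalar (Fin n)) = 1 := by
    ext u
    exact (QuotientGroup.eq_one_iff _).2 ⟨u, (hsc u).symm⟩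
  let g := Matrix.ProjGenLinGroup.lift f hf
  have hcard : Nat.card (Fˣ ⧸ R) = Nat.gcd n (Fintype.card F - 1) := by
    rw [← Subgroup.index_eq_card, IsCyclic.index_powMonoidHom_range, Cfsg.Agent.Classical.card_units_field,
      Nat.gcd_comm]
  let e : Multiplicative (ZMod (Nat.gcd n (Fintype.card F - 1))) ≃* Fˣ ⧸ R :=
    hcard ▸ zmodCyclicMulEquiv inferInstance
  refine ⟨e.symm.toMonoidHom.comp g, e.symm.surjective.comp ?_, ?_⟩
  · intro x
    obtain ⟨u, rfl⟩ := QuotientGroup.mk_surjective x
    obtain ⟨A, hA⟩ := Matrix.GeneralLinearGroup.det_surjective (n := Fin n) u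
    exact ⟨Matrix.ProjGenLinGroup.mk A, by rw [Matrix.ProjGenLinGroup.lift_mk]; simp [f, hA]⟩
  · ext x
    induction x using Matrix.ProjGenLinGroup.induction_on with
    | mk A =>
      rw [MonoidHom.mem_ker, MonoidHom.comp_apply, MulEquiv.coe_toMonoidHom, map_eq_one_iff _ e.symm.injective,
        Matrix.ProjGenLinGroup.lift_mk]
      constructor
      · intro h
        obtain ⟨u, hu⟩ := (QuotientGroup.eq_one_iff _).1 h
        obtain ⟨S, hS⟩ : A * (Matrix.GeneralLinearGroup.scalar (Fin n) u)⁻¹ ∈
            (Matrix.SpecialLinearGroup.toGL (n := Fin n) (R := F)).range := by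
          rw [Cfsg.Agent.Classical.range_toGL_eq_ker_det, MonoidHom.mem_ker, map_mul, map_inv, hsc,
            ← hu, powMonoidHom_apply, mul_inv_cancel]
        refine ⟨(S : Matrix.ProjectiveSpecialLinearGroup (Fin n) F), ?_⟩
        rw [Matrix.ProjectiveSpecialLinearGroup.toPGL_mk, hS, map_mul, map_inv, Matrix.ProjGenLinGroup.mk_scalar,
          inv_one, mul_one]
      · rintro ⟨y, hy⟩
        obtain ⟨S, rfl⟩ := QuotientGroup.mk_surjective y
        rw [Matrix.ProjectiveSpecialLinearGroup.toPGL_mk, Matrix.ProjGenLinGroup.mk_eq_mk_iff] at hy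
        obtain ⟨u, hu⟩ := hy
        refine (QuotientGroup.eq_one_iff _).2 ⟨u, ?_⟩
        rw [← hu, map_mul, hsc, show Matrix.GeneralLinearGroup.det (Matrix.SpecialLinearGroup.toGL S) = 1 from
          Units.ext (by simpa using S.2), one_mul]
        rfl

end Cfsg.Agent.S0307
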