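import Cfsg.Statements.S0312
import Cfsg.Agent.BN.Basic

set_option autoImplicit false
open Cfsg Cfsg.Agent

namespace Cfsg.Agent.S0312

/-- Every standard parabolic subgroup of a group with a (B,N)-pair equals its own normaliser. -/
theorem result {G : Type*} [Group G] (P : Cfsg.BNPair G) {J : Set G}
    (hJ : J ⊆ P.S) : Subgroup.normalizer (P.parabolic J : Set G) = P.parabolic J := by
  refine le_antisymm (fun g hg => ?_) Subgroup.le_normalizer
  obtain ⟨n, hn, hd⟩ := BN.exists_mem_dc (P := P) g
  have hB : P.B ≤ Subgroup.normalizer (P.parabolic J : Set G) :=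
    (BN.B_le_parabolic J).trans Subgroup.le_normalizer
  have hnN := BN.mem_of_mem_dc_of_mem' hB hd hg
  refine BN.mem_of_mem_dc_of_mem (BN.B_le_parabolic J) hd
    (BN.mem_of_conj (BN.B_le_parabolic J) hn fun b hb => ?_)
  exact (Subgroup.mem_normalizer_iff.1 hnN b).1 (BN.B_le_parabolic J hb)

end Cfsg.Agent.S0312
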