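import Cfsg.Statements.S0313
import Cfsg.Agent.BN.Basic

set_option autoImplicit false
open Cfsg Cfsg.Agent

namespace Cfsg.Agent.S0313

/-- Two standard parabolic subgroups of a group with a (B,N)-pair which are conjugate in `G` coincide. -/
theorem result {G : Type*} [Group G] (P : Cfsg.BNPair G) {J K : Set G}
    (hJ : J ⊆ P.S) (hK : K ⊆ P.S) (g : G)
    (h : (P.parabolic J).map (MulAut.conj g).toMonoidHom = P.parabolic K) :
    P.parabolic J = P.parabolic K := by
  obtain ⟨n, hn, hd⟩ := BN.exists_mem_dc (P := P) g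
  obtain ⟨a, ha, c, hc, rfl⟩ := BN.mem_dc.1 hd
  have haK : a ∈ P.parabolic K := BN.B_le_parabolic K ha
  have hcJ : c ∈ P.parabolic J := BN.B_le_parabolic J hc
  have key : ∀ x : G, x ∈ P.parabolic J ↔ n * x * n⁻¹ ∈ P.parabolic K := by
    intro x
    have h1 : c⁻¹ * x * c ∈ P.parabolic J ↔ x ∈ P.parabolic J := by
      rw [Subgroup.mul_mem_cancel_right _ hcJ, Subgroup.mul_mem_cancel_left _ (inv_mem hcJ)]
    rw [← h1, ← Subgroup.mem_map_iff_mem (f := (MulAut.conj (a * n * c)).toMonoidHom)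
      (MulAut.conj (a * n * c)).injective, h]
    have e : (MulAut.conj (a * n * c)).toMonoidHom (c⁻¹ * x * c) = a * (n * x * n⁻¹) * a⁻¹ := by
      simp only [MulEquiv.coe_toMonoidHom, MulAut.conj_apply]
      group
    rw [e, Subgroup.mul_mem_cancel_right _ (inv_mem haK), Subgroup.mul_mem_cancel_left _ haK]
  have hnK : n ∈ P.parabolic K :=
    BN.mem_of_conj (BN.B_le_parabolic K) hn fun b hb => (key b).1 (BN.B_le_parabolic J hb)
  ext x
  rw [key x, Subgroup.mul_mem_cancel_right _ (inv_mem hnK), Subgroup.mul_mem_cancel_left _ hnK]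

end Cfsg.Agent.S0313
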