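import Cfsg.Statements.S0315
import Cfsg.Agent.BN.Basic

set_option autoImplicit false
open Cfsg Cfsg.Agent

namespace Cfsg.Agent.S0315

/-- Standard parabolic subgroups intersect as the index sets do: `P_J ⊓ P_K = P_{J ∩ K}`. -/
theorem result {G : Type*} [Group G] (P : Cfsg.BNPair G) {J K : Set G}
    (hJ : J ⊆ P.S) (hK : K ⊆ P.S) : P.parabolic J ⊓ P.parabolic K = P.parabolic (J ∩ K) := by
  have hB : P.B ≤ P.parabolic J ⊓ P.parabolic K :=
    le_inf (BN.B_le_parabolic J) (BN.B_le_parabolic K)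
  have hJK : P.S ∩ (P.parabolic J ⊓ P.parabolic K : Subgroup G) = J ∩ K := by
    ext s
    constructor
    · rintro ⟨hs, h1, h2⟩
      exact ⟨BN.mem_of_mem_parabolic hJ hs h1, BN.mem_of_mem_parabolic hK hs h2⟩
    · rintro ⟨h1, h2⟩
      exact ⟨hJ h1, BN.closure_le_parabolic J (Subgroup.subset_closure h1),
        BN.closure_le_parabolic K (Subgroup.subset_closure h2)⟩
  rw [BN.eq_parabolic hB, hJK]

end Cfsg.Agent.S0315
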