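import Cfsg.Statements.S0316
import Cfsg.Agent.BN.Basic

set_option autoImplicit false
open Cfsg Cfsg.Agent

namespace Cfsg.Agent.S0316

/-- The map `J ↦ P_J` is a lattice isomorphism from the power set of the set of distinguished generators onto the
subgroups containing `B`. -/
theorem result {G : Type*} [Group G] (P : Cfsg.BNPair G) :
    ∃ e : Set P.S ≃o {M : Subgroup G // P.B ≤ M},
      ∀ J : Set P.S, ((e J : {M : Subgroup G // P.B ≤ M}) : Subgroup G) = P.parabolic (Subtype.val '' J) := by
  have hmem : ∀ (J : Set P.S) (s : P.S),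
      (s : G) ∈ P.parabolic (Subtype.val '' J) ↔ s ∈ J := by
    intro J s
    constructor
    · intro h
      obtain ⟨r, hr, e⟩ := BN.mem_of_mem_parabolic (by rintro _ ⟨r, _, rfl⟩; exact r.2) s.2 h
      exact Subtype.ext e ▸ hr
    · intro h
      exact BN.closure_le_parabolic _ (Subgroup.subset_closure ⟨s, h, rfl⟩)
  let e : Set P.S ≃ {M : Subgroup G // P.B ≤ M} :=
    { toFun := fun J => ⟨P.parabolic (Subtype.val '' J), BN.B_le_parabolic _⟩
      invFun := fun M => {s | (s : G) ∈ M.1}
      left_inv := fun J => Set.ext fun s => hmem J s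
      right_inv := fun M => Subtype.ext (by
        show P.parabolic (Subtype.val '' {s : P.S | (s : G) ∈ M.1}) = M.1
        conv_rhs => rw [BN.eq_parabolic M.2]
        congr 1
        ext s
        constructor
        · rintro ⟨r, hr, rfl⟩; exact ⟨r.2, hr⟩
        · rintro ⟨h1, h2⟩; exact ⟨⟨s, h1⟩, h2, rfl⟩) }
  refine ⟨⟨e, ?_⟩, fun J => rfl⟩
  intro J K
  constructor
  · intro h s hs
    exact (hmem K s).1 (h ((hmem J s).2 hs))
  · intro h
    exact sup_le_sup_left (Subgroup.closure_mono (Set.image_mono h)) _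

end Cfsg.Agent.S0316
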