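import Cfsg.Statements.S0320
import Cfsg.Agent.BN.Basic
import Cfsg.Agent.BN.Coxeter

set_option autoImplicit false
open Cfsg Cfsg.Agent

namespace Cfsg.Agent.S0320

/-- The Weyl group `W = N / (B ⊓ N)` of a (B,N)-pair, with its distinguished involutions, is a Coxeter system. -/
theorem result {G : Type*} [Group G] (P : Cfsg.BNPair G)
    [hN : ((P.B ⊓ P.N).subgroupOf P.N).Normal] :
    ∃ (M : CoxeterMatrix P.S) (cs : CoxeterSystem M (P.N ⧸ (P.B ⊓ P.N).subgroupOf P.N)),
      ∀ s : P.S, cs.simple s = QuotientGroup.mk (⟨(s : G), P.subset s.2⟩ : P.N) := by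
  classical
  set T := (P.B ⊓ P.N).subgroupOf P.N with hT
  set f : P.S → (P.N ⧸ T) := fun s => QuotientGroup.mk (⟨(s : G), P.subset s.2⟩ : P.N) with hf
  have hmemT : ∀ x : P.N, x ∈ T ↔ (x : G) ∈ P.B := fun x => by
    rw [hT, Subgroup.mem_subgroupOf, Subgroup.mem_inf]
    exact and_iff_left x.2
  have hprodN : ∀ w : List P.S, (w.map Subtype.val).prod ∈ P.N := fun w =>
    BN.prod_mem_N fun s hs => by
      obtain ⟨r, _, rfl⟩ := List.mem_map.1 hs
      exact r.2
  have hprod : ∀ w : List P.S,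
      (w.map f).prod = QuotientGroup.mk (⟨(w.map Subtype.val).prod, hprodN w⟩ : P.N) := by
    intro w
    induction w with
    | nil => rfl
    | cons s w ih => rw [List.map_cons, List.prod_cons, ih, hf]; rfl
  have hexw : ∀ n : P.N, ∀ w : List G, (∀ s ∈ w, s ∈ P.S) → w.prod⁻¹ * (n : G) ∈ P.B →
      ∃ v : List P.S, v.map Subtype.val = w ∧ (v.map f).prod = QuotientGroup.mk n := by
    intro n w hw h
    lift w to List P.S using hw
    refine ⟨w, rfl, ?_⟩
    rw [hprod, QuotientGroup.eq, hmemT]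
    exact h
  have hgen : ∀ q : P.N ⧸ T, ∃ w : List P.S, (w.map f).prod = q := by
    intro q
    induction q using QuotientGroup.induction_on with | _ n => ?_
    obtain ⟨w, hw, hp⟩ := BN.exists_word_N n.2
    obtain ⟨v, _, hv⟩ := hexw n w hw hp
    exact ⟨v, hv⟩
  have hrlen : ∀ n : P.N, BN.Exch.rlen f (QuotientGroup.mk n) = BN.wlen P (n : G) := by
    intro n
    apply le_antisymm
    · obtain ⟨w, hw, hl, hp⟩ := BN.exists_min n.2
      obtain ⟨v, hv1, hv2⟩ := hexw n w hw hp
      rw [← hv2, ← hl, ← hv1, List.length_map]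
      exact BN.Exch.rlen_le v
    · obtain ⟨w, hw, hp⟩ := Nat.sInf_mem
        (s := {k | ∃ w : List P.S, w.length = k ∧ (w.map f).prod = QuotientGroup.mk n})
        (by obtain ⟨w, hw⟩ := hgen (QuotientGroup.mk n); exact ⟨w.length, w, rfl, hw⟩)
      change _ ≤ sInf _
      rw [← hw, ← List.length_map (f := Subtype.val)]
      refine BN.wlen_le _ (fun s hs => ?_) ?_
      · obtain ⟨r, _, rfl⟩ := List.mem_map.1 hs
        exact r.2
      · rw [hprod, QuotientGroup.eq, hmemT] at hp
        exact hp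
  have hsq : ∀ s : P.S, f s * f s = 1 := by
    intro s
    rw [hf, ← QuotientGroup.mk_mul, QuotientGroup.eq_one_iff, hmemT]
    exact P.sq_mem s s.2
  have hinj : Function.Injective f := by
    intro s r h
    rw [hf, QuotientGroup.eq, hmemT] at h
    exact Subtype.ext (P.inj s s.2 r r.2 h)
  have hex : BN.Exch.Exchange f := by
    intro s w hw hle
    have hred : BN.Reduced P (w.map Subtype.val) := by
      refine ⟨fun x hx => ?_, ?_⟩
      · obtain ⟨r, _, rfl⟩ := List.mem_map.1 hx
        exact r.2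
      · rw [List.length_map, ← hw, hprod, hrlen]
    have hsN : (s : G) * (w.map Subtype.val).prod ∈ P.N := mul_mem (P.subset s.2) (hprodN w)
    have hq : f s * (w.map f).prod = QuotientGroup.mk (⟨_, hsN⟩ : P.N) := by
      rw [hprod, hf, ← QuotientGroup.mk_mul]; rfl
    rw [hq, hrlen] at hle
    obtain ⟨u, r, v, e, he⟩ := BN.exchange s.2 hred (by rw [List.length_map]; exact hle)
    obtain ⟨u', w', rfl, rfl, h2⟩ := List.map_eq_append_iff.1 e
    obtain ⟨r', v', rfl, rfl, rfl⟩ := List.map_eq_cons_iff.1 h2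
    refine ⟨u', r', v', rfl, ?_⟩
    rw [hq, hprod, QuotientGroup.eq, hmemT]
    rw [← List.map_append] at he
    exact BN.eqv_symm he
  exact BN.Exch.exists_coxeterSystem hinj hsq hgen hex

end Cfsg.Agent.S0320
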