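import Cfsg.Statements.S0321
import Cfsg.Agent.BN.Basic

set_option autoImplicit false
open Cfsg Cfsg.Agent

namespace Cfsg.Agent.S0321

/-- For `n ∈ N` not in `B`, the union `B ∪ B n B` is (the underlying set of) a subgroup exactly when `n` agrees
modulo `B ⊓ N` with one of the distinguished representatives; thus the distinguished involutions are
determined by `B` and `N`. -/
theorem result {G : Type*} [Group G] (P : Cfsg.BNPair G) {n : G}
    (hn : n ∈ P.N) (hnB : n ∉ P.B) :
    (∃ H : Subgroup G, (H : Set G) = (P.B : Set G) ∪ DoubleCoset.doubleCoset n (P.B : Set G) P.B) ↔ ∃ s ∈ P.S, s⁻¹ * n ∈ P.B := by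
  constructor
  · rintro ⟨H, hH⟩
    have hB : P.B ≤ H := fun b hb => by
      rw [← SetLike.mem_coe, hH]; exact Or.inl hb
    have hnH : n ∈ H := by
      rw [← SetLike.mem_coe, hH]; exact Or.inr (BN.self_mem_dc n)
    by_contra hcon
    apply hnB
    have hJ : P.S ∩ (H : Set G) = ∅ := by
      rw [Set.eq_empty_iff_forall_notMem]
      rintro s ⟨hs, hsH⟩
      rw [hH] at hsH
      rcases hsH with h | h
      · exact BN.not_mem_B hs h
      · exact hcon ⟨s, hs, BN.eqv_symm (BN.eqv_of_mem_dc hn (P.subset hs) h)⟩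
    rw [BN.eq_parabolic hB, hJ, BNPair.parabolic, Subgroup.closure_empty, sup_bot_eq] at hnH
    exact hnH
  · rintro ⟨s, hs, hsn⟩
    refine ⟨P.parabolic {s}, ?_⟩
    ext x
    simp only [SetLike.mem_coe, Set.mem_union]
    constructor
    · intro hx
      obtain ⟨m, hm, hd⟩ := (BN.mem_parabolic_iff (Set.singleton_subset_iff.2 hs) x).1 hx
      rw [Subgroup.mem_closure_singleton] at hm
      obtain ⟨k, rfl⟩ := hm
      have hsq : s ^ 2 ∈ P.B := by rw [pow_two]; exact P.sq_mem s hs
      rcases Int.even_or_odd k with ⟨i, rfl⟩ | ⟨i, rfl⟩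
      · left
        refine BN.mem_of_mem_dc_of_mem le_rfl hd ?_
        rw [← two_mul, zpow_mul, zpow_two, ← pow_two]
        exact zpow_mem hsq i
      · right
        have e : (s : G)⁻¹ * s ^ (2 * i + 1) ∈ P.B := by
          rw [add_comm, zpow_add, zpow_one, inv_mul_cancel_left, zpow_mul, zpow_two, ← pow_two]
          exact zpow_mem hsq i
        change x ∈ BN.dc P n
        rw [BN.dc_eq_of_eqv hsn, ← BN.dc_eq_of_eqv e]
        exact hd
    · rintro (hx | hx)
      · exact BN.B_le_parabolic _ hx
      · refine BN.mem_of_mem_dc_of_mem (BN.B_le_parabolic _) hx ?_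
        have := mul_mem (BN.closure_le_parabolic ({s} : Set G) (Subgroup.subset_closure rfl))
          (BN.B_le_parabolic ({s} : Set G) hsn)
        rwa [mul_inv_cancel_left] at this

end Cfsg.Agent.S0321
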