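import Cfsg.Statements.S0322
import Cfsg.Agent.BN.Basic

set_option autoImplicit false
open Cfsg Cfsg.Agent

namespace Cfsg.Agent.S0322

/-- A group with a (B,N)-pair of rank one acts doubly transitively on the left cosets of `B`. -/
theorem result {G : Type*} [Group G] (P : Cfsg.BNPair G) (h : P.rank = 1) : MulAction.IsMultiplyPretransitive G (G ⧸ P.B) 2 := by
  obtain ⟨⟨hne⟩, ⟨⟨s, hs⟩⟩⟩ := Nat.card_eq_one_iff_unique.1 h
  rw [MulAction.is_two_pretransitive_iff]
  have hmove : ∀ g : G, g ∉ P.B → ∃ b ∈ P.B, ((b • (s : G ⧸ P.B)) = (g : G ⧸ P.B)) := by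
    intro g hg
    obtain ⟨n, hn, hd⟩ := BN.exists_mem_dc (P := P) g
    have hS : P.S ⊆ ({s} : Set G) := fun r hr =>
      congrArg Subtype.val (hne ⟨r, hr⟩ ⟨s, hs⟩)
    have hnS : n ∈ P.parabolic ({s} : Set G) :=
      (BN.N_le_parabolic.trans (sup_le_sup_left (Subgroup.closure_mono hS) _)) hn
    obtain ⟨w, hw, hred, hp⟩ :=
      BN.exists_reduced_of_mem_parabolic (Set.singleton_subset_iff.2 hs) hn hnS
    match w, hw, hred, hp with
    | [], _, _, hp =>
      simp only [List.prod_nil, inv_one, one_mul] at hp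
      exact absurd (BN.mem_of_mem_dc_of_mem le_rfl hd hp) hg
    | [r], hw, _, hp =>
      simp only [List.mem_singleton, Set.mem_singleton_iff, forall_eq] at hw
      subst hw
      simp only [List.prod_cons, List.prod_nil, mul_one] at hp
      rw [BN.dc_eq_of_eqv hp] at hd
      obtain ⟨a, ha, c, hc, rfl⟩ := BN.mem_dc.1 hd
      refine ⟨a, ha, ?_⟩
      rw [MulAction.Quotient.smul_coe, smul_eq_mul, QuotientGroup.eq, inv_mul_cancel_left]
      exact hc
    | r₁ :: r₂ :: v, hw, hred, _ =>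
      exfalso
      simp only [List.mem_cons, Set.mem_singleton_iff, forall_eq_or_imp] at hw
      obtain ⟨rfl, rfl, hv⟩ := hw
      have hvS := (hred.of_cons.of_cons).1
      have h1 := BN.wlen_congr (BN.eqv_sq_mul hs (BN.prod_mem_N hvS))
      have h2 := (hred.of_cons.of_cons).2
      have h3 := hred.2
      simp only [List.prod_cons, List.length_cons] at h3
      omega
  intro a b c d hab hcd
  have key : ∀ a b : G ⧸ P.B, a ≠ b →
      ∃ g : G, g • ((1 : G) : G ⧸ P.B) = a ∧ g • (s : G ⧸ P.B) = b := by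
    intro a b hab
    induction a using QuotientGroup.induction_on with | _ x => ?_
    induction b using QuotientGroup.induction_on with | _ y => ?_
    have hxy : x⁻¹ * y ∉ P.B := fun h => hab (QuotientGroup.eq.2 h)
    obtain ⟨k, hk, hk'⟩ := hmove _ hxy
    refine ⟨x * k, ?_, ?_⟩
    · rw [MulAction.Quotient.smul_coe, smul_eq_mul, mul_one, QuotientGroup.eq, mul_inv_rev,
        mul_assoc, inv_mul_cancel, mul_one]
      exact inv_mem hk
    · rw [mul_smul, hk', MulAction.Quotient.smul_coe, smul_eq_mul, mul_inv_cancel_left]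
  obtain ⟨g₁, h₁, h₁'⟩ := key a b hab
  obtain ⟨g₂, h₂, h₂'⟩ := key c d hcd
  refine ⟨g₂ * g₁⁻¹, ?_, ?_⟩
  · rw [← h₁, mul_smul, inv_smul_smul, h₂]
  · rw [← h₁', mul_smul, inv_smul_smul, h₂']

end Cfsg.Agent.S0322
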