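import Cfsg.Statements.S0323

set_option autoImplicit false
open scoped Pointwise
open Cfsg

namespace Cfsg.Agent.S0323

/-- A doubly transitive action on a set with at least three points yields a (B,N)-pair of rank one:
`B` is the stabiliser of a point `x`, `N` the setwise stabiliser of a pair `{x, y}`. -/
theorem result {G Ω : Type*} [Group G] [MulAction G Ω]
    (h2 : MulAction.IsMultiplyPretransitive G Ω 2) {x y z : Ω} (hxy : x ≠ y) (hyz : y ≠ z) (hxz : x ≠ z) :
    ∃ P : Cfsg.BNPair G, P.B = MulAction.stabilizer G x ∧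
      P.N = MulAction.stabilizer G ({x, y} : Set Ω) ∧ P.rank = 1 := by
  have hpre : ∀ {a b c d : Ω}, a ≠ b → c ≠ d → ∃ g : G, g • a = c ∧ g • b = d :=
    MulAction.is_two_pretransitive_iff.1 h2
  obtain ⟨s, hsx, hsy⟩ := hpre hxy hxy.symm
  have memN : ∀ g : G, g ∈ MulAction.stabilizer G ({x, y} : Set Ω) ↔
      (g • x = x ∧ g • y = y) ∨ (g • x = y ∧ g • y = x) := by
    intro g
    rw [MulAction.mem_stabilizer_iff, ← Set.image_smul, Set.image_pair, Set.pair_eq_pair_iff]
  have hsN : s ∈ MulAction.stabilizer G ({x, y} : Set Ω) := (memN s).2 (.inr ⟨hsx, hsy⟩)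
  have hsB : s * s ∈ MulAction.stabilizer G x := by
    rw [MulAction.mem_stabilizer_iff, mul_smul, hsx, hsy]
  have cover : ∀ g : G, g ∉ MulAction.stabilizer G x →
      g ∈ DoubleCoset.doubleCoset s (MulAction.stabilizer G x : Set G) (MulAction.stabilizer G x) := by
    intro g hg
    rw [MulAction.mem_stabilizer_iff] at hg
    obtain ⟨b, hbx, hby⟩ := hpre hxy (Ne.symm hg)
    rw [DoubleCoset.mem_doubleCoset]
    refine ⟨b, hbx, s⁻¹ * b⁻¹ * g, ?_, by group⟩
    rw [SetLike.mem_coe, MulAction.mem_stabilizer_iff, mul_smul, mul_smul, ← hby, inv_smul_smul,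
      ← hsx, inv_smul_smul]
  have hdec : ∀ n ∈ MulAction.stabilizer G ({x, y} : Set Ω),
      n ∈ MulAction.stabilizer G x ∨ s⁻¹ * n ∈ MulAction.stabilizer G x := by
    intro n hn
    rcases (memN n).1 hn with ⟨h, _⟩ | ⟨h, _⟩
    · exact .inl h
    · right
      rw [MulAction.mem_stabilizer_iff, mul_smul, h, inv_smul_eq_iff, hsx]
  refine ⟨{
    B := MulAction.stabilizer G x
    N := MulAction.stabilizer G ({x, y} : Set Ω)
    S := {s}
    sup_eq_top := ?_
    conj_mem := ?_
    subset := Set.singleton_subset_iff.2 hsN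
    sq_mem := fun r hr => by rw [Set.mem_singleton_iff] at hr; rw [hr]; exact hsB
    inj := fun r hr r' hr' _ => by
      rw [Set.mem_singleton_iff] at hr hr'; rw [hr, hr']
    closure_sup := ?_
    mul_mem_union := ?_
    conj_ne := ?_ }, rfl, rfl, ?_⟩
  · rw [eq_top_iff]
    intro g _
    by_cases hg : g ∈ MulAction.stabilizer G x
    · exact Subgroup.mem_sup_left hg
    · obtain ⟨a, ha, c, hc, rfl⟩ := DoubleCoset.mem_doubleCoset.1 (cover g hg)
      exact mul_mem (mul_mem (Subgroup.mem_sup_left ha) (Subgroup.mem_sup_right hsN))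
        (Subgroup.mem_sup_left hc)
  · rintro n hn t ⟨htx, htN⟩
    replace htx : t • x = x := htx
    have hty : t • y = y := by
      rcases (memN t).1 htN with ⟨_, h⟩ | ⟨h, _⟩
      · exact h
      · exact absurd (htx.symm.trans h) hxy
    rw [MulAction.mem_stabilizer_iff, mul_smul, mul_smul]
    rcases (memN n⁻¹).1 (inv_mem hn) with ⟨h, _⟩ | ⟨h, _⟩
    · rw [h, htx, ← inv_smul_eq_iff.1 h]
    · rw [h, hty, ← inv_smul_eq_iff.1 h]
  · apply le_antisymm
    · exact sup_le ((Subgroup.closure_le _).2 (Set.singleton_subset_iff.2 hsN)) inf_le_right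
    · intro n hn
      rcases hdec n hn with h | h
      · exact Subgroup.mem_sup_right ⟨h, hn⟩
      · have hs' : s ∈ Subgroup.closure ({s} : Set G) ⊔
            (MulAction.stabilizer G x ⊓ MulAction.stabilizer G ({x, y} : Set Ω)) :=
          Subgroup.mem_sup_left (Subgroup.subset_closure rfl)
        have hns := mul_mem hs' (Subgroup.mem_sup_right (S := Subgroup.closure ({s} : Set G))
          (show s⁻¹ * n ∈ MulAction.stabilizer G x ⊓ MulAction.stabilizer G ({x, y} : Set Ω) from
            Subgroup.mem_inf.2 ⟨h, mul_mem (inv_mem hsN) hn⟩))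
        rwa [mul_inv_cancel_left] at hns
  · intro r hr n hn b hb
    rw [Set.mem_singleton_iff] at hr
    subst hr
    rcases hdec n hn with h | h
    · left
      rw [DoubleCoset.mem_doubleCoset]
      exact ⟨1, one_mem _, n⁻¹ * b * n, mul_mem (mul_mem (inv_mem h) hb) h, by group⟩
    · by_cases hg : r * b * n ∈ MulAction.stabilizer G x
      · left
        rw [DoubleCoset.mem_doubleCoset]
        refine ⟨r * b * n * (r * n)⁻¹, mul_mem hg (inv_mem ?_), 1, one_mem _, by group⟩
        have := mul_mem hsB h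
        rwa [mul_assoc, mul_inv_cancel_left] at this
      · right
        rw [DoubleCoset.doubleCoset_eq_of_mem (b := n) (a := r)
          (DoubleCoset.mem_doubleCoset.2 ⟨1, one_mem _, r⁻¹ * n, h, by group⟩)]
        exact cover _ hg
  · intro r hr heq
    rw [Set.mem_singleton_iff] at hr
    subst hr
    obtain ⟨b, hbx, hby⟩ := hpre hxy hxz
    apply hyz
    have hb' : b ∈ (fun c : G => r * c * r) '' (MulAction.stabilizer G x : Set G) := by
      rw [heq]; exact hbx
    obtain ⟨c, hc, rfl⟩ := hb'
    have hc' : c • x = x := hc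
    simp only [mul_smul, hsy, hc', hsx] at hby
    exact hby
  · simp [BNPair.rank]

end Cfsg.Agent.S0323
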