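import Cfsg.Statements.S0328
import Cfsg.Agent.Suzuki.Basic
-- import your own Cfsg.Agent.* helpers here

set_option autoImplicit false
open Cfsg
open Cfsg.Agent

namespace Cfsg.Agent.S0328

/-- The stabiliser in the Suzuki group of the two ovoid points spanned by `(1,0,0,0)` and `(0,0,0,1)` is
isomorphic to the multiplicative group of the field (cyclic of order `q - 1`). -/
theorem result {F : Type*} [Field F] [Fintype F] {m : ℕ} (hm : 1 ≤ m)
    (hF : Fintype.card F = 2 ^ (2 * m + 1)) :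
    Nonempty (↥(MulAction.stabilizer (Cfsg.Sz F m) (Cfsg.suzukiPointInfinity F) ⊓
        MulAction.stabilizer (Cfsg.Sz F m) (Cfsg.suzukiPointZero F)) ≃* Fˣ) := by
  have hG := RankOne.Ovoid.good_of_card (m := m) hF
  have hI : (Suzuki.pI : Cfsg.suzukiOvoid F m).1 = Cfsg.suzukiPointInfinity F := rfl
  have h0 : (Suzuki.pP 0 0 : Cfsg.suzukiOvoid F m).1 = Cfsg.suzukiPointZero F := by
    show Projectivization.mk F _ _ = _
    simp only [RankOne.Ovoid.vPt_zero_zero]
    rfl
  have hsub : MulAction.stabilizer (Cfsg.Sz F m) (Cfsg.suzukiPointInfinity F) ⊓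
      MulAction.stabilizer (Cfsg.Sz F m) (Cfsg.suzukiPointZero F) = (Suzuki.H hG).range := by
    ext g
    rw [Subgroup.mem_inf, MulAction.mem_stabilizer_iff, MulAction.mem_stabilizer_iff, ← hI, ← h0]
    constructor
    · intro h
      obtain ⟨a, ha⟩ := Suzuki.eq_H_of_fix hG hm hF (Subtype.ext h.1) (Subtype.ext h.2)
      exact ⟨a, ha.symm⟩
    · rintro ⟨a, rfl⟩
      exact ⟨congrArg Subtype.val (Suzuki.H_pI hG a), congrArg Subtype.val (Suzuki.H_pP_zero hG a)⟩
  exact ⟨(MulEquiv.subgroupCongr hsub).trans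
    (MonoidHom.ofInjective (Suzuki.H_injective hG)).symm⟩

end Cfsg.Agent.S0328
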