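import Cfsg.Statements.S0330
import Cfsg.Agent.Suzuki.Fusion
-- import your own Cfsg.Agent.* helpers here

set_option autoImplicit false
open Cfsg
open Cfsg.Agent

namespace Cfsg.Agent.S0330

/-- A Sylow 2-subgroup `P` of the Suzuki group (field with `q = 2^(2m+1)` elements, `m ≥ 1`) has order `q²` and
exponent `4`; its centre coincides with its commutator subgroup and has order `q`. -/
theorem result {F : Type*} [Field F] [Fintype F] {m : ℕ} (hm : 1 ≤ m)
    (hF : Fintype.card F = 2 ^ (2 * m + 1)) (P : Sylow 2 (Cfsg.Sz F m)) :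
    Nat.card P = (2 ^ (2 * m + 1)) ^ 2 ∧ Monoid.exponent P = 4 ∧
      Subgroup.center P = commutator P ∧ Nat.card (Subgroup.center P) = 2 ^ (2 * m + 1) := by
  have hG := RankOne.Ovoid.good_of_card (m := m) hF
  have : Fact (Nat.Prime 2) := ⟨Nat.prime_two⟩
  have e : (Suzuki.U hG : Subgroup (Cfsg.Sz F m)) ≃* (P : Subgroup (Cfsg.Sz F m)) :=
    Sylow.equiv (Suzuki.sylowU hG hm hF) P
  refine ⟨?_, ?_, ?_, ?_⟩
  · show Nat.card (P : Subgroup (Cfsg.Sz F m)) = _
    rw [← Nat.card_congr e.toEquiv, Suzuki.card_U, Nat.card_eq_fintype_card, hF]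
  · exact (Monoid.exponent_eq_of_mulEquiv e).symm.trans (Suzuki.exponent_U hG)
  · have h := congrArg (Subgroup.map e.toMonoidHom) (Suzuki.center_U_eq_commutator hG hm hF)
    rw [commutator_def, Subgroup.map_commutator, Subgroup.map_top_of_surjective _ e.surjective,
      ← commutator_def] at h
    rw [← h]
    ext x
    rw [Subgroup.mem_map, Subgroup.mem_center_iff]
    constructor
    · intro hx
      refine ⟨e.symm x, Subgroup.mem_center_iff.mpr fun y => ?_, e.apply_symm_apply x⟩
      apply e.injective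
      rw [map_mul, map_mul, e.apply_symm_apply]
      exact hx _
    · rintro ⟨y, hy, rfl⟩ z
      obtain ⟨w, rfl⟩ := e.surjective z
      show e w * e y = e y * e w
      rw [← map_mul, ← map_mul, Subgroup.mem_center_iff.mp hy w]
  · rw [← Nat.card_congr (Subgroup.centerCongr e).toEquiv, Suzuki.card_center_U hG hm hF,
      Nat.card_eq_fintype_card, hF]

end Cfsg.Agent.S0330
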