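import Cfsg.Statements.S0335
import Cfsg.Agent.RankOne.SuzukiOvoid
-- import your own Cfsg.Agent.* helpers here

set_option autoImplicit false
open Cfsg
open Cfsg.Agent
open scoped Pointwise

namespace Cfsg.Agent.S0335

/-- The Suzuki–Tits point set is an ovoid: any three distinct points of it are projectively independent
(no line of projective 3-space meets it in more than two points). -/
theorem result {F : Type*} [Field F] [Fintype F] {m : ℕ} (hm : 1 ≤ m)
    (hF : Fintype.card F = 2 ^ (2 * m + 1)) (p : Fin 3 ↪ Cfsg.suzukiOvoid F m) :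
    Projectivization.Independent (fun i => (p i : Projectivization F (Fin 4 → F))) := by
  have hG := RankOne.Ovoid.good_of_card (m := m) hF
  choose v hv0 e hv using fun i => (p i).2
  have hon : ∀ i, RankOne.Ovoid.OnOvoid m (v i) := fun i =>
    (RankOne.Ovoid.mem_suzukiOvoid (hv0 i)).mp (by rw [← e i]; exact (p i).2)
  have hne : ∀ i j, i ≠ j → ∀ c : F, v i ≠ c • v j := by
    intro i j hij c hc
    refine hij (p.injective (Subtype.ext ?_))
    rw [e i, e j]
    exact (Projectivization.mk_eq_mk_iff' F _ _ (hv0 i) (hv0 j)).mpr ⟨c, hc.symm⟩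
  have hind : LinearIndependent F v := by
    obtain ⟨T, -, -, hTs, c, hc, hT⟩ := RankOne.Ovoid.exists_move hG (hon 0)
    choose u hu hTu using fun i => hTs (v i) (hon i)
    have hfin : ∀ i, i ≠ 0 → ∃ d : F, d ≠ 0 ∧ ∃ x y, u i = d • RankOne.Ovoid.vPt m x y := by
      intro i hi
      obtain ⟨d, hd, h | h⟩ := hu i
      · refine absurd ?_ (hne i 0 hi (d * c))
        rw [← hTu i, h, map_smul, hT, smul_smul]
      · exact ⟨d, hd, h⟩
    obtain ⟨d₁, hd₁, x₁, y₁, h₁⟩ := hfin 1 (by decide)
    obtain ⟨d₂, hd₂, x₂, y₂, h₂⟩ := hfin 2 (by decide)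
    rw [Fintype.linearIndependent_iff]
    intro l hl
    have h3 : T ((l 0 * c⁻¹) • RankOne.Ovoid.vInf F + (l 1 * d₁) • RankOne.Ovoid.vPt m x₁ y₁ +
        (l 2 * d₂) • RankOne.Ovoid.vPt m x₂ y₂) = T 0 := by
      rw [map_zero, ← hl, Fin.sum_univ_three, map_add, map_add, ← smul_smul (l 1), ← h₁,
        ← smul_smul (l 2), ← h₂, map_smul, map_smul, map_smul, hT, hTu, hTu, smul_smul, mul_assoc,
        inv_mul_cancel₀ hc, mul_one]
    have h4 := T.injective h3
    have c3 := congrFun h4 3
    have c2 := congrFun h4 2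
    have c1 := congrFun h4 1
    have c0 := congrFun h4 0
    have i3 : RankOne.Ovoid.vInf F 3 = 0 := rfl
    have i2 : RankOne.Ovoid.vInf F 2 = 0 := rfl
    have i1 : RankOne.Ovoid.vInf F 1 = 0 := rfl
    have i0 : RankOne.Ovoid.vInf F 0 = 1 := rfl
    simp only [Pi.add_apply, Pi.smul_apply, Pi.zero_apply, smul_eq_mul, i3, i2, i1, i0,
      RankOne.Ovoid.vPt_three, RankOne.Ovoid.vPt_two, RankOne.Ovoid.vPt_one, mul_one, mul_zero,
      zero_add] at c3 c2 c1 c0
    have hxy : x₁ ≠ x₂ ∨ y₁ ≠ y₂ := by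
      by_contra h
      push Not at h
      refine hne 1 2 (by decide) (d₁ / d₂) ?_
      rw [← hTu 1, ← hTu 2, h₁, h₂, h.1, h.2, map_smul, map_smul, smul_smul, div_mul_cancel₀ _ hd₂]
    have hl1 : l 1 * d₁ = 0 := by
      rcases hxy with h | h
      · have : (l 1 * d₁) * (x₁ - x₂) = 0 := by linear_combination c2 - x₂ * c3
        exact (mul_eq_zero.mp this).resolve_right (sub_ne_zero.mpr h)
      · have : (l 1 * d₁) * (y₁ - y₂) = 0 := by linear_combination c1 - y₂ * c3
        exact (mul_eq_zero.mp this).resolve_right (sub_ne_zero.mpr h)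
    have hl1' : l 1 = 0 := (mul_eq_zero.mp hl1).resolve_right hd₁
    have hl2' : l 2 = 0 := by
      refine (mul_eq_zero.mp ?_).resolve_right hd₂
      rw [hl1, zero_add] at c3
      exact c3
    rw [hl1', hl2'] at c0
    simp [hc] at c0
    intro i
    fin_cases i
    · exact c0
    · exact hl1'
    · exact hl2'
  have := Projectivization.Independent.mk v hv0 hind
  convert this using 1
  funext i
  exact e i

end Cfsg.Agent.S0335
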