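import Mathlib
import Cfsg.Agent.Zassenhaus.OddStab
import Cfsg.Agent.Zassenhaus.PSL
import Cfsg.Agent.Zassenhaus.NotSharp
import Cfsg.Agent.S0741
import Cfsg.Agent.Core.FPF
import Cfsg.Statements.S0345
-- import your own Cfsg.Agent.* helpers here

set_option autoImplicit false
open Cfsg

namespace Cfsg.Agent.S0345

theorem aux {G Ω : Type*} [Group G] [Finite G] [MulAction G Ω] [Finite Ω]
    (hZ : Cfsg.IsZassenhausGroup G Ω) [IsSimpleGroup G] {a b : Ω} (hab : a ≠ b) :
    IsCyclic (Zassenhaus.twoPt G a b) ∧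
      ∃ v : G, orderOf v = 2 ∧ v • a = b ∧ v • b = a ∧
        ∀ h ∈ Zassenhaus.twoPt G a b, v * h * v⁻¹ = h⁻¹ := by
  classical
  haveI := Fintype.ofFinite Ω
  obtain ⟨v, hv, hva, hvb⟩ := (S0740.result hZ hab).1
  by_cases hodd : Odd (Nat.card (Zassenhaus.twoPt G a b))
  · have C : Zassenhaus.OddCtx G a b := ⟨hZ, hab, hodd⟩
    obtain ⟨hcyc, hI⟩ := C.inverted_of_no_complement C.no_complement_of_simple
    exact ⟨hcyc, v, hv, hva, hvb, hI v hva hvb⟩
  have heven := Nat.not_odd_iff_even.1 hodd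
  have h := S0741.result hZ hab heven
  change Fintype.card Ω - 2 ≤ 2 * Nat.card (Zassenhaus.twoPt G a b) at h
  obtain ⟨hf, h2, h3, -, -⟩ := hZ
  have C : Zassenhaus.ZCtx G Ω :=
    ⟨fun {x y u w} h h' => MulAction.is_two_pretransitive_iff.1 h2 h h', h3⟩
  set E := Zassenhaus.twoPt G a b with hE
  have hE1 : 1 < Nat.card E := by
    obtain ⟨j, hj⟩ := heven
    have := Nat.card_pos (α := E)
    omega
  obtain ⟨d, hd, hd1⟩ := (Subgroup.bot_or_exists_ne_one E).resolve_left
    ((Subgroup.one_lt_card_iff_ne_bot _).1 hE1)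
  have hN3 : 3 ≤ Nat.card Ω := by
    haveI := hf
    obtain ⟨c, hc⟩ : ∃ c : Ω, d • c ≠ c := by
      by_contra hcon
      push Not at hcon
      exact hd1 (FaithfulSMul.eq_of_smul_eq_smul (α := Ω) fun c => by rw [hcon c, one_smul])
    rw [Nat.card_eq_fintype_card]
    exact Fintype.two_lt_card_iff.2 ⟨a, b, c, hab, fun e => hc (e ▸ hd.1), fun e => hc (e ▸ hd.2)⟩
  obtain ⟨F, hF⟩ := C.exists_kernel hN3 hab ((Subgroup.one_lt_card_iff_ne_bot _).1 hE1)
  have hn := hF.card_eq hab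
  obtain ⟨m, hm⟩ := hF.card_two_dvd C hab
  rw [← Nat.card_eq_fintype_card] at h
  by_cases hfull : Nat.card E + 2 = Nat.card Ω
  · exact (C.not_simple hN3 hab heven hfull).elim
  have hd2 : 2 * Nat.card E + 2 = Nat.card Ω := by
    have hm' : Nat.card F - 1 = Nat.card E * m := hm
    have h' : Nat.card Ω - 2 ≤ 2 * Nat.card E := h
    clear hm
    rename' hm' => hm
    rcases (show m = 0 ∨ m = 1 ∨ 2 ≤ m by omega) with rfl | rfl | hm2
    · rw [mul_zero] at hm
      omega
    · rw [mul_one] at hm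
      omega
    · have : Nat.card E * 2 ≤ Nat.card E * m := Nat.mul_le_mul_left _ hm2
      omega
  have hinv : ∀ x ∈ E, v * x * v⁻¹ = x⁻¹ := by
    intro x hx
    have h1 := (C.swapper_spec hN3 hab hd2 heven (g := v * x)
      (by rw [mul_smul, show x • a = a from hx.1, hva])
      (by rw [mul_smul, show x • b = b from hx.2, hvb])).1
    rw [inv_eq_of_mul_eq_one_right (by rw [← pow_two, ← hv, pow_orderOf_eq_one] : v * v = 1)]
    exact eq_inv_of_mul_eq_one_left (by rw [← h1]; group)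
  have hcomm : ∀ x y : E, x * y = y * x := by
    intro x y
    have e1 := hinv _ (mul_mem x.2 y.2)
    rw [show v * ((x : G) * y) * v⁻¹ = (v * x * v⁻¹) * (v * y * v⁻¹) by group, hinv x x.2,
      hinv y y.2, ← mul_inv_rev, inv_inj] at e1
    exact Subtype.ext e1.symm
  haveI : Nontrivial F := Finite.one_lt_card_iff_nontrivial.1 (by omega)
  obtain ⟨q, n, hq, φ, hn0, hφ⟩ := (FPF25.hasFPF_of_fpf hF.act
    fun x hx u hu => hF.act_fpf C hab x hx u hu).exists_isFPF
  haveI : Nonempty (Fin n) := ⟨⟨0, hn0⟩⟩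
  haveI := hq
  exact ⟨hφ.isCyclic_of_comm ⟨⟨hcomm⟩⟩, v, hv, hva, hvb, hinv⟩

/-- In a finite simple Zassenhaus group the stabiliser `H` of two points `a ≠ b` is cyclic, and some involution
interchanging `a` and `b` inverts every element of `H`. -/
theorem result {G Ω : Type*} [Group G] [Finite G] [MulAction G Ω] [Finite Ω]
    (hZ : Cfsg.IsZassenhausGroup G Ω) [IsSimpleGroup G]
    {a b : Ω} (hab : a ≠ b) :
    IsCyclic ↥(MulAction.stabilizer G a ⊓ MulAction.stabilizer G b) ∧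
      ∃ v : G, orderOf v = 2 ∧ v • a = b ∧ v • b = a ∧ ∀ h ∈ MulAction.stabilizer G a ⊓ MulAction.stabilizer G b, v * h * v⁻¹ = h⁻¹ := by
  exact aux hZ hab

end Cfsg.Agent.S0345
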