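import Cfsg.Statements.S0353
import Cfsg.Agent.Steiner.Numbers

set_option autoImplicit false
open Cfsg

namespace Cfsg.Agent.S0353

/-- In an S(5, 8, 24), the symmetric difference of two blocks meeting in four points is a block. -/
theorem result {α : Type*} [Fintype α] [DecidableEq α] (hα : Fintype.card α = 24) {B : Set (Finset α)} (hB : Cfsg.IsSteinerSystem 5 8 B) {b c : Finset α} (hb : b ∈ B) (hc : c ∈ B) (h4 : (b ∩ c).card = 4) : symmDiff b c ∈ B := by
  set D := symmDiff b c with hD
  have hkey : ∀ e ∈ B, Even (e ∩ D).card := by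
    intro e he
    obtain ⟨x, hx⟩ := Steiner.even_inter_5_8_24 hα hB hb he
    obtain ⟨y, hy⟩ := Steiner.even_inter_5_8_24 hα hB hc he
    have h1 := Finset.card_union_add_card_inter (e ∩ b) (e ∩ c)
    have h2 : (e ∩ D).card + ((e ∩ b) ∩ (e ∩ c)).card = ((e ∩ b) ∪ (e ∩ c)).card := by
      rw [← Finset.card_union_of_disjoint]
      · congr 1; ext z; simp [hD, Finset.mem_symmDiff]; tauto
      · rw [Finset.disjoint_left]; intro z; simp [hD, Finset.mem_symmDiff]; tauto
    exact ⟨x + y - ((e ∩ b) ∩ (e ∩ c)).card, by omega⟩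
  have hDc : D.card = 8 := by
    have h1 := Finset.card_union_add_card_inter b c
    rw [hB.1 b hb, hB.1 c hc, h4] at h1
    have h2 : D.card + (b ∩ c).card = (b ∪ c).card := by
      rw [← Finset.card_union_of_disjoint]
      · congr 1; ext z; simp [hD, Finset.mem_symmDiff]; tauto
      · rw [Finset.disjoint_left]; intro z; simp [hD, Finset.mem_symmDiff]; tauto
    omega
  obtain ⟨S, hS, hSc⟩ := Finset.exists_subset_card_eq (s := D) (n := 5) (by omega)
  obtain ⟨d, ⟨hd, hSd⟩, -⟩ := hB.2 S hSc
  have h5 : 5 ≤ (d ∩ D).card := hSc ▸ Finset.card_le_card (Finset.subset_inter hSd hS)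
  have hle : (d ∩ D).card ≤ 8 := hDc ▸ Finset.card_le_card Finset.inter_subset_right
  obtain ⟨r, hr⟩ := hkey d hd
  by_cases h8 : (d ∩ D).card = 8
  · have e1 : d ∩ D = D := Finset.eq_of_subset_of_card_le Finset.inter_subset_right (by omega)
    have e2 : D = d := Finset.eq_of_subset_of_card_le (Finset.inter_eq_right.1 e1) (by rw [hB.1 d hd, hDc])
    exact e2 ▸ hd
  exfalso
  have h6 : (d ∩ D).card = 6 := by omega
  -- a set of four points meeting every block evenly
  set w := symmDiff d D with hw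
  have hcount : ∀ e : Finset α, (e ∩ w).card + 2 * (e ∩ (d ∩ D)).card = (e ∩ d).card + (e ∩ D).card := by
    intro e
    have h1 := Finset.card_union_add_card_inter (e ∩ d) (e ∩ D)
    have h2 : (e ∩ w).card + (e ∩ (d ∩ D)).card = ((e ∩ d) ∪ (e ∩ D)).card := by
      rw [← Finset.card_union_of_disjoint]
      · congr 1; ext z; simp [hw, Finset.mem_symmDiff]; tauto
      · rw [Finset.disjoint_left]; intro z; simp [hw, Finset.mem_symmDiff]; tauto
    have h3 : (e ∩ d) ∩ (e ∩ D) = e ∩ (d ∩ D) := by ext z; simp; tauto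
    rw [h3] at h1
    omega
  have hwc : w.card = 4 := by
    have h1 := hcount Finset.univ
    simp only [Finset.univ_inter] at h1
    rw [hB.1 d hd, hDc, h6] at h1
    omega
  obtain ⟨T, hT, hTc⟩ := Finset.exists_subset_card_eq (s := w) (n := 3) (by omega)
  have hall : ∀ e ∈ B, T ⊆ e → w ⊆ e := by
    intro e he hTe
    obtain ⟨x, hx⟩ := Steiner.even_inter_5_8_24 hα hB hd he
    obtain ⟨y, hy⟩ := hkey e he
    have h1 := hcount e
    have h3 : 3 ≤ (e ∩ w).card := hTc ▸ Finset.card_le_card (Finset.subset_inter hTe hT)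
    have h5 : (e ∩ w).card ≤ 4 := hwc ▸ Finset.card_le_card Finset.inter_subset_right
    exact Finset.inter_eq_right.1 (Finset.eq_of_subset_of_card_le Finset.inter_subset_right (by omega))
  have l3 := Leech.lam_mul hB (Steiner.blocks B) (fun _ => Steiner.mem_blocks) T (by omega)
  have l4 := Leech.lam_mul hB (Steiner.blocks B) (fun _ => Steiner.mem_blocks) w (by omega)
  have heq : ((Steiner.blocks B).filter fun e => T ⊆ e) = (Steiner.blocks B).filter fun e => w ⊆ e :=
    Finset.filter_congr fun e he => ⟨hall e (Steiner.mem_blocks.1 he), hT.trans⟩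
  rw [heq, hTc, hα] at l3
  rw [hwc, hα] at l4
  norm_num [Nat.choose_eq_factorial_div_factorial, Nat.factorial] at l3 l4
  omega

end Cfsg.Agent.S0353
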