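import Cfsg.Statements.S0357
import Cfsg.Agent.Steiner.Numbers

set_option autoImplicit false
open Cfsg

namespace Cfsg.Agent.S0357

/-- In a Steiner system S(5, 6, 12), the complement of every block is again a block. -/
theorem result {α : Type*} [Fintype α] [DecidableEq α] (hα : Fintype.card α = 12) {B : Set (Finset α)} (hB : Cfsg.IsSteinerSystem 5 6 B) {b : Finset α} (hb : b ∈ B) : bᶜ ∈ B := by
  have h := Steiner.system_5_6_12 hα hB hb
  obtain ⟨c, hc⟩ := Finset.card_eq_one.1 h
  have hmem : c ∈ ((Steiner.blocks B).erase b).filter fun d => (d ∩ b).card = 0 := hc ▸ Finset.mem_singleton_self c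
  simp only [Finset.mem_filter, Finset.mem_erase, Steiner.mem_blocks, Finset.card_eq_zero,
    ← Finset.disjoint_iff_inter_eq_empty] at hmem
  have hcb : c = bᶜ := Finset.eq_of_subset_of_card_le
    (fun x hx => Finset.mem_compl.2 (Finset.disjoint_left.1 hmem.2 hx))
    (by rw [Finset.card_compl, hB.1 b hb, hB.1 c hmem.1.2, hα])
  exact hcb ▸ hmem.1.2

end Cfsg.Agent.S0357
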