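import Cfsg.Statements.S0371
import Cfsg.Agent.Compute.MathieuActions

set_option autoImplicit false
open Cfsg

namespace Cfsg.Agent.S0371

/-- Multiplication by a nonzero square residue modulo 23, fixing the extra point, lies in the group of the length-24 code. -/
theorem result (u : (ZMod 23)ˣ) (hu : IsSquare u) : Equiv.optionCongr (Units.mulLeft u) ∈ Cfsg.M24 := by
  have key : ∀ r : (ZMod 23)ˣ,
      Cfsg.Agent.Compute.inM24B (Cfsg.Agent.Compute.pack 5 24 (fun i =>
        Cfsg.Agent.Compute.ptIdx (Equiv.optionCongr (Units.mulLeft (r * r))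
          (Cfsg.Agent.Compute.e24 ⟨i % 24, Nat.mod_lt _ (by norm_num)⟩)))) = true := by
    decide +kernel
  obtain ⟨r, rfl⟩ := hu
  obtain ⟨hok, hmem⟩ := Cfsg.Agent.Compute.mem_M24_of_check (key r)
  convert hmem using 1
  refine Equiv.ext fun p => Cfsg.Agent.Compute.ptIdx_injective ?_
  rw [Cfsg.Agent.Compute.ptIdx_den hok]
  refine Eq.symm ((Cfsg.Agent.Compute.getField_pack 5 24 _
    (fun i _ => lt_of_lt_of_le (Cfsg.Agent.Compute.ptIdx_lt _) (by norm_num)) (Cfsg.Agent.Compute.ptIdx_lt p)).trans ?_)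
  congr 2
  apply Cfsg.Agent.Compute.ptIdx_injective
  rw [Cfsg.Agent.Compute.ptIdx_e24]
  exact Nat.mod_eq_of_lt (Cfsg.Agent.Compute.ptIdx_lt p)

end Cfsg.Agent.S0371
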