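import Cfsg.Statements.S0381
import Cfsg.Agent.Compute.MathieuPointwise

set_option autoImplicit false
open Cfsg
open scoped Pointwise

namespace Cfsg.Agent.S0381

/-- The pointwise stabiliser of an octad in the group of the length-24 code has order 16 and every element of it squares to the identity. -/
theorem result (o : Finset Cfsg.GolayPt) (ho : o ∈ Cfsg.octads) : Nat.card ↥(Cfsg.M24 ⊓ fixingSubgroup (Equiv.Perm Cfsg.GolayPt) (o : Set Cfsg.GolayPt)) = 16 ∧ ∀ g ∈ Cfsg.M24 ⊓ fixingSubgroup (Equiv.Perm Cfsg.GolayPt) (o : Set Cfsg.GolayPt), g * g = 1 := by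
  obtain ⟨g, hg, hgo⟩ := Compute.exists_move_octad ho
  have hiff : ∀ a : Equiv.Perm Cfsg.GolayPt,
      a ∈ Cfsg.M24 ⊓ fixingSubgroup (Equiv.Perm Cfsg.GolayPt) (o : Set Cfsg.GolayPt) ↔
        g * a * g⁻¹ ∈ Compute.rep24.chainGroup (Compute.m24cChain.drop 6) := by
    intro a
    rw [Compute.mem_fix_baseOctad, Compute.conj_mem_M24_iff hg, Subgroup.mem_inf,
      mem_fixingSubgroup_iff, ← hgo]
    refine and_congr Iff.rfl ⟨fun h p hp => ?_, fun h y hy => ?_⟩
    · obtain ⟨y, hy, rfl⟩ := Finset.mem_smul_finset.mp hp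
      exact (Compute.conj_apply_eq_iff rfl).mpr (h y hy)
    · exact (Compute.conj_apply_eq_iff rfl).mp (h _ (Finset.smul_mem_smul_finset hy))
  refine ⟨?_, ?_⟩
  · refine (Nat.card_congr ((MulAut.conj g).toEquiv.subtypeEquiv hiff)).trans ?_
    rw [Compute.Rep.card_chainGroup _ (Compute.checkChain_drop Compute.m24c_check 6)]
    exact Compute.drop6_c.2.1
  · intro a ha
    obtain ⟨c, hc, hok, hden⟩ := Compute.rep24.exists_elem _
      (Compute.checkChain_drop Compute.m24c_check 6) ((hiff a).mp ha)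
    have h := List.all_eq_true.mp Compute.fix_baseOctad_sq c hc
    rw [Nat.beq_eq] at h
    have h2 := congrArg Compute.rep24.den h
    rw [Compute.rep24.den_mul _ _ hok hok, Compute.rep24.den_one, hden] at h2
    have h3 : g * (a * a) * g⁻¹ = 1 := by rw [← h2]; group
    exact conj_eq_one_iff.mp h3

end Cfsg.Agent.S0381
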