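import Cfsg.Statements.S0384
import Cfsg.Agent.Compute.MathieuPointwise

set_option autoImplicit false
open scoped Pointwise
open Cfsg

namespace Cfsg.Agent.S0384

/-- A dodecad stabiliser is sharply 5-transitive on the dodecad. -/
theorem result (d : Finset Cfsg.GolayPt) (hd : d ∈ Cfsg.dodecads) (x y : Fin 5 ↪ Cfsg.GolayPt) (hx : ∀ i, x i ∈ d) (hy : ∀ i, y i ∈ d) : ∃! g : MulAction.stabilizer Cfsg.M24 d, ∀ i, ((g : Cfsg.M24) : Equiv.Perm Cfsg.GolayPt) (x i) = y i := by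
  obtain ⟨g, hg, hgd⟩ := Compute.exists_move_dodecad hd
  have hm : ∀ z : Fin 5 ↪ Cfsg.GolayPt, (∀ i, z i ∈ d) →
      ∃ k : Equiv.Perm Cfsg.GolayPt, k ∈ Cfsg.M24 ∧ k • d = Cfsg.Spor.squareDodecad ∧
        (List.ofFn z).map k = [Compute.rep24.pt 0, Compute.rep24.pt 1, Compute.rep24.pt 2,
          Compute.rep24.pt 3, Compute.rep24.pt 4] := by
    intro z hz
    obtain ⟨h, hh, hhx⟩ := Compute.m12_tupleTrans ((List.ofFn z).map g)
      ((List.nodup_ofFn.mpr z.injective).map g.injective)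
      (by
        intro p hp
        obtain ⟨q, hq, rfl⟩ := List.mem_map.mp hp
        obtain ⟨i, rfl⟩ := List.mem_ofFn.mp hq
        rw [Compute.mem_maskSet_squareDodecad, ← hgd]
        exact Finset.smul_mem_smul_finset (hz i))
      (by simp)
    refine ⟨h⁻¹ * g, mul_mem (inv_mem hh.1) hg, ?_, ?_⟩
    · rw [mul_smul, hgd, inv_smul_eq_iff]; exact (MulAction.mem_stabilizer_iff.mp hh.2).symm
    · rw [Equiv.Perm.coe_mul, ← List.map_map, ← hhx, List.map_map]
      simp [Function.comp_def]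
  obtain ⟨kx, hkx, hkxd, hkx'⟩ := hm x hx
  obtain ⟨ky, hky, hkyd, hky'⟩ := hm y hy
  have hxy : ∀ i, kx (x i) = ky (y i) := by
    have h := hkx'.trans hky'.symm
    rw [List.map_ofFn, List.map_ofFn] at h
    exact congrFun (List.ofFn_injective h)
  refine ⟨⟨⟨ky⁻¹ * kx, mul_mem (inv_mem hky) hkx⟩, ?_⟩, fun i => ?_, ?_⟩
  · rw [MulAction.mem_stabilizer_iff]
    change (ky⁻¹ * kx) • d = d
    rw [mul_smul, hkxd, inv_smul_eq_iff, hkyd]
  · change ky⁻¹ (kx (x i)) = y i
    rw [Equiv.Perm.inv_eq_iff_eq, hxy]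
  · intro a ha
    apply Subtype.ext; apply Subtype.ext
    change ((a : Cfsg.M24) : Equiv.Perm Cfsg.GolayPt) = ky⁻¹ * kx
    have had : ((a : Cfsg.M24) : Equiv.Perm Cfsg.GolayPt) • d = d := a.2
    have haM : ((a : Cfsg.M24) : Equiv.Perm Cfsg.GolayPt) ∈ Cfsg.M24 := (a : Cfsg.M24).2
    generalize ((a : Cfsg.M24) : Equiv.Perm Cfsg.GolayPt) = σ at had haM ha
    rw [eq_inv_mul_iff_mul_eq, ← mul_inv_eq_one]
    have h12 : ky * σ * kx⁻¹ ∈ Cfsg.Spor.M12 := by
      refine Subgroup.mem_inf.mpr ⟨mul_mem (mul_mem hky haM) (inv_mem hkx), ?_⟩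
      rw [MulAction.mem_stabilizer_iff, mul_smul, mul_smul,
        show kx⁻¹ • Cfsg.Spor.squareDodecad = d from inv_smul_eq_iff.mpr hkxd.symm, had, hkyd]
    rw [Compute.sporM12_eq] at h12
    have hb : Compute.m12Chain.map Compute.Level.base = [0, 1, 2, 3, 4] := by decide +kernel
    have hl : Compute.m12Chain.length = 5 := by decide +kernel
    have h5 : ky * σ * kx⁻¹ ∈ Compute.rep24.chainGroup (Compute.m12Chain.drop 5) := by
      rw [Compute.mem_chain_drop _ Compute.m12_check 5 (le_of_eq hl.symm)]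
      refine ⟨h12, fun L hL => ?_⟩
      have hLb : L.base ∈ [0, 1, 2, 3, 4] := hb ▸ List.mem_map_of_mem (List.mem_of_mem_take hL)
      have : Compute.rep24.pt L.base ∈ (List.ofFn x).map kx := by
        rw [hkx']
        simp only [List.mem_cons, List.not_mem_nil, or_false] at hLb ⊢
        rcases hLb with e | e | e | e | e <;> simp [e]
      obtain ⟨q, hq, hqe⟩ := List.mem_map.mp this
      obtain ⟨i, rfl⟩ := List.mem_ofFn.mp hq
      rw [← hqe, Equiv.Perm.smul_def, Equiv.Perm.mul_apply, Equiv.Perm.mul_apply,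
        show kx⁻¹ (kx (x i)) = x i from kx.symm_apply_apply _, ha i, hxy]
    rw [List.drop_eq_nil_of_le (le_of_eq hl)] at h5
    simpa [Compute.Rep.chainGroup, Compute.Rep.span, Compute.topGens] using h5

end Cfsg.Agent.S0384
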