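import Cfsg.Statements.S0385
import Cfsg.Agent.Compute.MathieuMoves

set_option autoImplicit false
open Cfsg
open scoped Pointwise

namespace Cfsg.Agent.S0385

/-- The 6-point intersections of octads with a fixed dodecad form a Steiner system S(5, 6, 12) on the dodecad. -/
theorem result (d : Finset Cfsg.GolayPt) (hd : d ∈ Cfsg.dodecads) : Cfsg.IsSteinerSystem 5 6 {h : Finset {p : Cfsg.GolayPt // p ∈ d} | ∃ o ∈ Cfsg.octads, (o ∩ d).card = 6 ∧ h = Finset.subtype (fun p => p ∈ d) o} := by
  classical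
  obtain ⟨g, hg, hgd⟩ := Compute.exists_move_dod hd
  have hvals : ∀ o ∈ Cfsg.octads, (o ∩ d).card = 2 ∨ (o ∩ d).card = 4 ∨ (o ∩ d).card = 6 := by
    intro o ho
    have hscan : Compute.cfgOctTree.codes.all (fun c => Compute.memB (Compute.cfgDodOctLab c) [2, 4, 6]) = true := by
      decide +kernel
    have hm : g • o ∈ Cfsg.octads := (Compute.smul_mem_octads_iff hg).mpr ho
    rw [Compute.octads_eq_codes] at hm
    obtain ⟨c, hc, hcd⟩ := hm
    have hv := Compute.memB_eq_true.mp (List.all_eq_true.mp hscan c hc)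
    have hval : Compute.cfgDodOctLab c = (o ∩ d).card := by
      rw [Finset.inter_comm, ← Compute.card_inter_smul g, hgd, ← hcd]
      exact (Compute.invDodOct_dec c (Compute.octTree_good c hc)).symm
    rw [hval] at hv
    simpa using hv
  refine ⟨?_, ?_⟩
  · rintro _ ⟨o, -, hc, rfl⟩
    rw [Finset.card_subtype, Finset.filter_mem_eq_inter, hc]
  · intro s hs
    obtain ⟨o, ⟨ho, hso⟩, huniq⟩ := Compute.isSteinerSystem_octads.2
      (s.map (Function.Embedding.subtype _)) (by rw [Finset.card_map, hs])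
    have hge : 5 ≤ (o ∩ d).card := by
      calc 5 = (s.map (Function.Embedding.subtype fun p => p ∈ d)).card := by rw [Finset.card_map, hs]
        _ ≤ _ := Finset.card_le_card fun p hp => by
          obtain ⟨q, -, rfl⟩ := Finset.mem_map.mp hp
          exact Finset.mem_inter.mpr ⟨hso hp, q.2⟩
    have h6 : (o ∩ d).card = 6 := by rcases hvals o ho with h | h | h <;> omega
    refine ⟨_, ⟨⟨o, ho, h6, rfl⟩, fun q hq => ?_⟩, ?_⟩
    · rw [Finset.mem_subtype]; exact hso (Finset.mem_map.mpr ⟨q, hq, rfl⟩)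
    · rintro _ ⟨⟨o', ho', -, rfl⟩, hsub⟩
      rw [huniq o' ⟨ho', fun p hp => ?_⟩]
      obtain ⟨q, hq, rfl⟩ := Finset.mem_map.mp hp
      exact Finset.mem_subtype.mp (hsub hq)

end Cfsg.Agent.S0385
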