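import Cfsg.Statements.S0386
import Cfsg.Agent.Compute.MathieuMoves

set_option autoImplicit false
open Cfsg
open scoped Pointwise

namespace Cfsg.Agent.S0386

/-- For a fixed dodecad, 132 octads meet it in 6 points, 132 in 2 points and 495 in 4 points. -/
theorem result (d : Finset Cfsg.GolayPt) (hd : d ∈ Cfsg.dodecads) : {o : Finset Cfsg.GolayPt | o ∈ Cfsg.octads ∧ (o ∩ d).card = 6}.ncard = 132 ∧ {o : Finset Cfsg.GolayPt | o ∈ Cfsg.octads ∧ (o ∩ d).card = 2}.ncard = 132 ∧ {o : Finset Cfsg.GolayPt | o ∈ Cfsg.octads ∧ (o ∩ d).card = 4}.ncard = 495 := by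
  obtain ⟨g, hg, hgd⟩ := Compute.exists_move_dod hd
  have key : ∀ v : ℕ, {o : Finset Cfsg.GolayPt | o ∈ Cfsg.octads ∧ (o ∩ d).card = v}.ncard =
      {X : Finset Cfsg.GolayPt | X ∈ Cfsg.octads ∧ Compute.invDodOct X = v}.ncard := fun v =>
    Compute.ncard_setOf_smul g fun X => by
      unfold Compute.invDodOct
      rw [← hgd, Compute.card_inter_smul, Finset.inter_comm, Compute.smul_mem_octads_iff hg]
  refine ⟨?_, ?_, ?_⟩ <;> rw [key] <;> refine Compute.partsDodOct.2 _ _ ?_ <;> decide +kernel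

end Cfsg.Agent.S0386
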