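import Cfsg.Statements.S0389
import Cfsg.Agent.Compute.M12Outside

set_option autoImplicit false
open scoped Pointwise
open Cfsg

namespace Cfsg.Agent.S0389

/-- The stabiliser of a dodecad and a point on it is 3-transitive on the complementary dodecad. -/
theorem result (d : Finset Cfsg.GolayPt) (hd : d ∈ Cfsg.dodecads) (p : Cfsg.GolayPt) (hp : p ∈ d) (x y : Fin 3 ↪ Cfsg.GolayPt) (hx : ∀ i, x i ∉ d) (hy : ∀ i, y i ∉ d) : ∃ g ∈ MulAction.stabilizer Cfsg.M24 d ⊓ MulAction.stabilizer Cfsg.M24 p, ∀ i, (g : Equiv.Perm Cfsg.GolayPt) (x i) = y i := by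
  obtain ⟨g, hg, hgd, hgp⟩ := Compute.exists_move_dodPt hd hp
  have hS : ∀ z : Fin 3 ↪ Cfsg.GolayPt, (∀ i, z i ∉ d) →
      ∀ q ∈ (List.ofFn z).map g, q ∈ Compute.maskSet Compute.cfgDodRoot := by
    intro z hz q hq
    obtain ⟨r, hr, rfl⟩ := List.mem_map.mp hq
    obtain ⟨i, rfl⟩ := List.mem_ofFn.mp hr
    change Compute.cfgDodRoot.testBit (Compute.ptIdx (g (z i))) = false
    rw [← Bool.not_eq_true, ← Compute.mem_suppM, ← hgd]
    exact fun h => hz i ((Finset.smul_mem_smul_finset_iff g).mp h)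
  obtain ⟨h, hh, hhx⟩ := Compute.m11_outside_tupleTrans.conj
    ((List.nodup_ofFn.mpr x.injective).map g.injective)
    ((List.nodup_ofFn.mpr y.injective).map g.injective) (hS x hx) (hS y hy) (by simp) (by simp)
  obtain ⟨hm, hfd, hfp⟩ := Compute.mem_cfgDodPt hh
  refine ⟨⟨g⁻¹ * h * g, Compute.conj_mem hg hm⟩, Subgroup.mem_inf.mpr
    ⟨Compute.fix_conj hgd hfd, Compute.fix_conj hgp hfp⟩, fun i => ?_⟩
  rw [List.map_map, List.map_ofFn, List.map_ofFn] at hhx
  exact Compute.map_conj (congrFun (List.ofFn_injective hhx) i)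

end Cfsg.Agent.S0389
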