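import Cfsg.Statements.S0402
import Cfsg.Agent.Leech.Co2

set_option autoImplicit false
open Cfsg

namespace Cfsg.Agent.S0402

/-- Stabiliser of a minimal vector is simple of order 42305421312000. -/
theorem result (v : Cfsg.leechLattice) (hv : Cfsg.sqNorm (v : Cfsg.GolayPt → ℤ) = 32) : Cfsg.IsCo2 (MulAction.stabilizer Cfsg.Co0 v) := by
  obtain ⟨g, hg⟩ := Cfsg.Agent.Leech.trans32 v hv
  have e : MulAction.stabilizer ↥Cfsg.Co0 v ≃* ↥Cfsg.Agent.Leech.stabU :=
    MulAction.stabilizerEquivStabilizer (show Cfsg.Spor.leechU = g • v from Subtype.ext hg.symm)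
  have := Cfsg.Agent.Leech.simple_stabU
  exact ⟨MulEquiv.isSimpleGroup (H := ↥Cfsg.Agent.Leech.stabU) e,
    (Nat.card_congr e.toEquiv).trans Cfsg.Agent.Leech.stabU_transitive_facts⟩

end Cfsg.Agent.S0402
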