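import Cfsg.Statements.S0403
import Cfsg.Agent.Leech.Co3

set_option autoImplicit false
open Cfsg

namespace Cfsg.Agent.S0403

/-- Stabiliser of a vector of sum of squares 48 is simple of order 495766656000. -/
theorem result (v : Cfsg.leechLattice) (hv : Cfsg.sqNorm (v : Cfsg.GolayPt → ℤ) = 48) : Cfsg.IsCo3 (MulAction.stabilizer Cfsg.Co0 v) := by
  obtain ⟨g, hg⟩ := Cfsg.Agent.Leech.trans48 v hv
  have e : MulAction.stabilizer ↥Cfsg.Co0 v ≃* ↥Cfsg.Agent.Leech.stabV3 :=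
    MulAction.stabilizerEquivStabilizer (show Cfsg.Spor.leechV = g • v from Subtype.ext hg.symm)
  obtain ⟨hs, hc⟩ := Cfsg.Agent.Leech.simple_co3
  exact ⟨MulEquiv.isSimpleGroup (H := ↥Cfsg.Agent.Leech.stabV3) e, (Nat.card_congr e.toEquiv).trans hc⟩

end Cfsg.Agent.S0403
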