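import Cfsg.Statements.S0405
import Cfsg.Agent.Leech.SimpleHSMcL

set_option autoImplicit false
open Cfsg

namespace Cfsg.Agent.S0405

/-- Joint stabiliser of two vectors of sum of squares 48 with coordinate dot product −32 is simple of order 44352000. -/
theorem result (v w : Cfsg.leechLattice) (hv : Cfsg.sqNorm (v : Cfsg.GolayPt → ℤ) = 48) (hw : Cfsg.sqNorm (w : Cfsg.GolayPt → ℤ) = 48) (hvw : Cfsg.dotInt (v : Cfsg.GolayPt → ℤ) (w : Cfsg.GolayPt → ℤ) = -32) : Cfsg.IsHS ↥(MulAction.stabilizer Cfsg.Co0 v ⊓ MulAction.stabilizer Cfsg.Co0 w) := by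
  obtain ⟨f1, f2, f3, f4, f5, f6⟩ := Cfsg.Agent.Leech.hV_facts
  have hneg : ∀ a b : Cfsg.GolayPt → ℤ, Cfsg.dotInt a (-b) = -Cfsg.dotInt a b :=
    fun a b => by simp [Cfsg.dotInt, -Fintype.sum_option]
  obtain ⟨t, ht, htd⟩ : ∃ t : ↥Cfsg.leechLattice, t = -(v + w) ∧
      ∀ a : Cfsg.GolayPt → ℤ, Cfsg.dotInt a (t : Cfsg.GolayPt → ℤ) =
        -(Cfsg.dotInt a (v : Cfsg.GolayPt → ℤ) + Cfsg.dotInt a (w : Cfsg.GolayPt → ℤ)) :=
    ⟨_, rfl, fun a => by rw [AddSubgroup.coe_neg, AddSubgroup.coe_add, hneg, Cfsg.Agent.Leech.dotInt_add_right]⟩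
  have htv : Cfsg.dotInt (v : Cfsg.GolayPt → ℤ) (t : Cfsg.GolayPt → ℤ) = -16 := by
    rw [htd, Cfsg.Agent.Leech.dot_self, hv, hvw]; rfl
  have htn : Cfsg.sqNorm (t : Cfsg.GolayPt → ℤ) = 32 := by
    rw [← Cfsg.Agent.Leech.dot_self, htd, Cfsg.Agent.Leech.dotInt_comm (t : Cfsg.GolayPt → ℤ), Cfsg.Agent.Leech.dotInt_comm (t : Cfsg.GolayPt → ℤ), htv, htd,
      Cfsg.Agent.Leech.dotInt_comm (w : Cfsg.GolayPt → ℤ) (v : Cfsg.GolayPt → ℤ), hvw, Cfsg.Agent.Leech.dot_self, hw]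
    rfl
  have heq : MulAction.stabilizer ↥Cfsg.Co0 v ⊓ MulAction.stabilizer ↥Cfsg.Co0 w =
      MulAction.stabilizer ↥Cfsg.Co0 v ⊓ MulAction.stabilizer ↥Cfsg.Co0 t := by
    have hw' : w = -(t + v) := by rw [ht]; abel
    ext g
    simp only [Subgroup.mem_inf, MulAction.mem_stabilizer_iff]
    constructor
    · rintro ⟨a, b⟩; exact ⟨a, by rw [ht, Cfsg.Agent.Leech.smul_neg', Cfsg.Agent.Leech.smul_add', a, b]⟩
    · rintro ⟨a, b⟩; exact ⟨a, by rw [hw', Cfsg.Agent.Leech.smul_neg', Cfsg.Agent.Leech.smul_add', a, b]⟩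
  obtain ⟨g, g1, g2⟩ := Cfsg.Agent.Leech.trans_sixteen v t Cfsg.Agent.Leech.hV Cfsg.Agent.Leech.hT hv f1 htn f2 htv f3
  obtain ⟨e⟩ := Cfsg.Agent.Leech.stab_pair_iso g v t
  rw [g1, g2] at e
  obtain ⟨hs, hc⟩ := Cfsg.Agent.Leech.simple_hs
  rw [heq]
  exact ⟨MulEquiv.isSimpleGroup (H := ↥Cfsg.Agent.Leech.hsGroup) e, (Nat.card_congr e.toEquiv).trans hc⟩

end Cfsg.Agent.S0405
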