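import Cfsg.Statements.S0412
import Cfsg.Agent.Leech.Unique.SteinerAut
import Cfsg.Agent.Compute.Mathieu

set_option autoImplicit false
open Cfsg
open scoped Pointwise

namespace Cfsg.Agent.S0412

/-- Aut of an S(5, 8, 24) is simple of order 244823040 and 5-transitive on points. -/
theorem result {α : Type*} [Fintype α] [DecidableEq α] (hα : Fintype.card α = 24) {B : Set (Finset α)} (hB : Cfsg.IsSteinerSystem 5 8 B) : Cfsg.IsM24 (Cfsg.setSystemAut B) ∧ MulAction.IsMultiplyPretransitive (Cfsg.setSystemAut B) α 5 := by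
  have h : Cfsg.Agent.Leech.Unique.Big B 0 := ⟨by norm_num, by rw [hα], hB⟩
  refine ⟨?_, Cfsg.Agent.Leech.Unique.aut_trans h⟩
  obtain ⟨φ⟩ := Cfsg.Agent.Leech.Unique.aut_equiv h
  have e : Cfsg.Agent.Leech.Unique.Hst 0 = ⊤ := by
    refine eq_top_iff.mpr fun σ _ => Cfsg.Agent.Leech.Unique.mem_Hst.2 fun p hp => ?_
    obtain ⟨x, -⟩ := Cfsg.Agent.Leech.Unique.mem_extraSet.1 hp
    exact x.elim0
  let ψ := ((Subgroup.topEquiv (G := ↥Cfsg.M24)).symm.trans (MulEquiv.subgroupCongr e.symm)).trans φ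
  have := Compute.isSimpleGroup_m24
  exact ⟨MulEquiv.isSimpleGroup (H := ↥Cfsg.M24) ψ.symm,
    (Nat.card_congr ψ.toEquiv).symm.trans Compute.card_m24⟩

end Cfsg.Agent.S0412
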