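import Cfsg.Statements.S0421
import Cfsg.Agent.Fg24.M12.Ident
import Cfsg.Agent.Compute.MathieuActions
-- import your own Cfsg.Agent.* helpers here

set_option autoImplicit false
open scoped Pointwise
open Cfsg

namespace Cfsg.Agent.S0421

/-- Simple groups of order 95040 are all isomorphic to the concrete Mathieu group of degree 12. -/
theorem result {G : Type*} [Group G] [Finite G] (hG : Cfsg.IsM12 G) (d : Finset Cfsg.GolayPt) (hd : d ∈ Cfsg.dodecads) : Nonempty (G ≃* ↥(MulAction.stabilizer Cfsg.M24 d)) := by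
  obtain ⟨g, -, -, ⟨e⟩⟩ := Cfsg.Agent.Compute.nonempty_stab_dodecad hd
  haveI := hG.1
  haveI := Cfsg.Agent.Compute.isSimpleGroup_m12
  letI := Fintype.ofFinite G
  haveI : Finite Cfsg.Spor.M12 :=
    Nat.finite_of_card_ne_zero (by rw [Cfsg.Agent.Compute.card_m12]; norm_num)
  letI := Fintype.ofFinite Cfsg.Spor.M12
  obtain ⟨f⟩ := Fg24.M12.unique_95040 (K := Cfsg.Spor.M12) hG.2 Cfsg.Agent.Compute.card_m12
  exact ⟨f.trans e.symm⟩

end Cfsg.Agent.S0421
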