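import Cfsg.Statements.S0426
import Cfsg.Agent.Compute.SteinerTwelve
import Cfsg.Agent.Compute.Mathieu

set_option autoImplicit false
open Cfsg
open scoped Pointwise

namespace Cfsg.Agent.S0426

/-- Aut of an S(4, 5, 11) is simple of order 7920 and sharply 4-transitive on points. -/
theorem result {α : Type*} [Fintype α] [DecidableEq α] (hα : Fintype.card α = 11) {B : Set (Finset α)} (hB : Cfsg.IsSteinerSystem 4 5 B) : Cfsg.IsM11 (Cfsg.setSystemAut B) ∧ MulAction.IsMultiplyPretransitive (Cfsg.setSystemAut B) α 4 ∧ ∀ x : Fin 4 ↪ α, MulAction.stabilizer (Cfsg.setSystemAut B) x = ⊥ := by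
  obtain ⟨⟨φ⟩, htr, hsharp⟩ := Compute.aut_eleven_facts hα hB
  have := Compute.isSimpleGroup_m11
  refine ⟨⟨MulEquiv.isSimpleGroup (H := ↥Cfsg.Spor.M11) φ.symm,
    (Nat.card_congr φ.toEquiv).symm.trans Compute.card_m11⟩, ?_, fun x => ?_⟩
  · rw [MulAction.isMultiplyPretransitive_iff]
    intro x y
    obtain ⟨g, hg, hgx⟩ := htr x y
    exact ⟨⟨g, hg⟩, by ext i; exact hgx i⟩
  · refine (Subgroup.eq_bot_iff_forall _).mpr fun g hg => Subtype.ext (hsharp _ g.2 x fun i => ?_)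
    exact congrArg (fun z : Fin 4 ↪ α => z i) (MulAction.mem_stabilizer_iff.mp hg)

end Cfsg.Agent.S0426
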