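import Cfsg.Statements.S0427
import Cfsg.Agent.Steiner.Numbers

set_option autoImplicit false
open Cfsg

namespace Cfsg.Agent.S0427

/-- The block graph (adjacent = disjoint) of an S(3, 6, 22) is strongly regular with parameters (77, 16, 0, 4). -/
theorem result {α : Type*} [Fintype α] (hα : Fintype.card α = 22) {B : Set (Finset α)} (hB : Cfsg.IsSteinerSystem 3 6 B) [Fintype B] [DecidableRel (Cfsg.blockGraph B).Adj] : (Cfsg.blockGraph B).IsSRGWith 77 16 0 4 := by
  classical
  have hadj : ∀ b c : B, (Cfsg.blockGraph B).Adj b c ↔ Disjoint (b : Finset α) c := by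
    intro b c
    rw [Cfsg.blockGraph, SimpleGraph.fromRel_adj]
    refine ⟨fun h => h.2.elim id fun h' => h'.symm, fun h => ⟨fun e => ?_, Or.inl h⟩⟩
    subst e
    rw [disjoint_self] at h
    simpa [h] using hB.1 _ b.2
  have hcard : ∀ (s : Finset B) (P : Finset α → Prop) [DecidablePred P],
      (∀ d : B, d ∈ s ↔ P d) → s.card = ((Steiner.blocks B).filter P).card := by
    intro s P _ h
    refine Finset.card_bij (fun d _ => (d : Finset α)) (fun d hd => ?_) (fun a _ b _ h => Subtype.ext h)
      (fun x hx => ?_)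
    · exact Finset.mem_filter.2 ⟨Steiner.mem_blocks.2 d.2, (h d).1 hd⟩
    · obtain ⟨hx, hP⟩ := Finset.mem_filter.1 hx
      exact ⟨⟨x, Steiner.mem_blocks.1 hx⟩, (h _).2 hP, rfl⟩
  refine ⟨?_, fun v => ?_, fun v w hvw => ?_, fun v w hne hvw => ?_⟩
  · have h := Leech.lam_mul hB (Steiner.blocks B) (fun _ => Steiner.mem_blocks) ∅ (by simp)
    simp only [Finset.card_empty, Nat.sub_zero, Finset.empty_subset, Finset.filter_true, hα] at h
    norm_num [Nat.choose_eq_factorial_div_factorial, Nat.factorial] at h
    rw [← Finset.card_univ, hcard Finset.univ (fun _ => True) (fun d => by simp), Finset.filter_true]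
    omega
  · rw [← SimpleGraph.card_neighborFinset_eq_degree,
      hcard _ (fun d => Disjoint d (v : Finset α)) (fun d => by
        rw [SimpleGraph.mem_neighborFinset, hadj]; exact disjoint_comm)]
    exact Steiner.card_disjoint_3_6_22 hα hB v.2
  · rw [← Set.toFinset_card, Finset.card_eq_zero, Finset.eq_empty_iff_forall_notMem]
    intro d hd
    rw [Set.mem_toFinset, SimpleGraph.mem_commonNeighbors, hadj, hadj] at hd
    exact Steiner.no_three_disjoint hα hB v.2 w.2 d.2 ((hadj v w).1 hvw) hd.1.symm hd.2.symm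
  · rw [← Set.toFinset_card, hcard _ (fun d => Disjoint d (v : Finset α) ∧ Disjoint d (w : Finset α))
      (fun d => by rw [Set.mem_toFinset, SimpleGraph.mem_commonNeighbors, hadj, hadj, disjoint_comm, @disjoint_comm _ _ _ (w : Finset α)])]
    refine Steiner.common_disjoint hα hB v.2 w.2 ?_
    have hne' : (v : Finset α) ≠ w := fun e => hne (Subtype.ext e)
    rcases Steiner.inter_3_6_22 hα hB w.2 v.2 hne' with h | h
    · exact absurd ((hadj v w).2 (Finset.disjoint_iff_inter_eq_empty.2 (Finset.card_eq_zero.1 h))) hvw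
    · exact h

end Cfsg.Agent.S0427
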