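import Cfsg.Statements.S0428
import Cfsg.Agent.Steiner.Numbers

set_option autoImplicit false
open Cfsg

namespace Cfsg.Agent.S0428

/-- The point-block graph of an S(3, 6, 22) is strongly regular with parameters (100, 22, 0, 6). -/
theorem result {α : Type*} [Fintype α] (hα : Fintype.card α = 22) {B : Set (Finset α)} (hB : Cfsg.IsSteinerSystem 3 6 B) [Fintype B] [DecidableRel (Cfsg.pointBlockGraph B).Adj] : (Cfsg.pointBlockGraph B).IsSRGWith 100 22 0 6 := by
  classical
  have hne : ∀ b : B, (b : Finset α).Nonempty := fun b =>
    Finset.card_pos.1 (by rw [hB.1 _ b.2]; norm_num)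
  -- adjacency
  have a00 : ¬ (Cfsg.pointBlockGraph B).Adj none none := fun h => h.ne rfl
  have a01 : ∀ a : α, (Cfsg.pointBlockGraph B).Adj none (some (Sum.inl a)) := fun a => by
    simp [Cfsg.pointBlockGraph, Cfsg.pointBlockRel]
  have a02 : ∀ b : B, ¬ (Cfsg.pointBlockGraph B).Adj none (some (Sum.inr b)) := fun b => by
    simp [Cfsg.pointBlockGraph, Cfsg.pointBlockRel]
  have a11 : ∀ a a' : α, ¬ (Cfsg.pointBlockGraph B).Adj (some (Sum.inl a)) (some (Sum.inl a')) := fun a a' => by
    simp [Cfsg.pointBlockGraph, Cfsg.pointBlockRel]
  have a12 : ∀ (a : α) (b : B), (Cfsg.pointBlockGraph B).Adj (some (Sum.inl a)) (some (Sum.inr b)) ↔ a ∈ (b : Finset α) :=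
    fun a b => by simp [Cfsg.pointBlockGraph, Cfsg.pointBlockRel]
  have a22 : ∀ b c : B, (Cfsg.pointBlockGraph B).Adj (some (Sum.inr b)) (some (Sum.inr c)) ↔
      Disjoint (b : Finset α) c := by
    intro b c
    simp only [Cfsg.pointBlockGraph, SimpleGraph.fromRel_adj, Cfsg.pointBlockRel, ne_eq, Option.some.injEq,
      Sum.inr.injEq]
    refine ⟨fun h => h.2.elim id fun h' => h'.symm, fun h => ⟨fun e => ?_, Or.inl h⟩⟩
    subst e
    exact (hne b).ne_empty (disjoint_self.1 h)
  -- counting a set of vertices by kinds
  have hcount : ∀ (s : Finset (Option (α ⊕ B))) (P : α → Prop) (Q : Finset α → Prop)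
      [DecidablePred P] [DecidablePred Q],
      (∀ a, some (Sum.inl a) ∈ s ↔ P a) → (∀ b : B, some (Sum.inr b) ∈ s ↔ Q b) →
      s.card = (if none ∈ s then 1 else 0) + (Finset.univ.filter P).card +
        ((Steiner.blocks B).filter Q).card := by
    intro s P Q _ _ hP hQ
    have hi : ((Steiner.blocks B).filter Q).card = (Finset.univ.filter fun b : B => Q b).card := by
      symm
      refine Finset.card_bij (fun d _ => (d : Finset α))
        (fun d hd => Finset.mem_filter.2 ⟨Steiner.mem_blocks.2 d.2, (Finset.mem_filter.1 hd).2⟩)
        (fun a _ b _ h => Subtype.ext h) (fun x hx => ?_)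
      obtain ⟨hx, hP⟩ := Finset.mem_filter.1 hx
      exact ⟨⟨x, Steiner.mem_blocks.1 hx⟩, by simpa using hP, rfl⟩
    have key : ∀ (p : Option (α ⊕ B) → Prop) [DecidablePred p], (Finset.univ.filter p).card =
        (if p none then 1 else 0) + (Finset.univ.filter fun a => p (some (Sum.inl a))).card +
          (Finset.univ.filter fun b : B => p (some (Sum.inr b))).card := by
      intro p _
      simp only [Finset.card_filter]
      rw [Fintype.sum_option, Fintype.sum_sum_type, add_assoc]
    have h := key (· ∈ s)
    simp only [Finset.filter_univ_mem, hP, hQ] at h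
    rw [hi]
    convert h using 3
  have hlam : ∀ S : Finset α, S.card ≤ 3 → ((Steiner.blocks B).filter fun b => S ⊆ b).card *
      (6 - S.card).choose (3 - S.card) = (22 - S.card).choose (3 - S.card) := fun S hS => by
    have := Leech.lam_mul hB (Steiner.blocks B) (fun _ => Steiner.mem_blocks) S hS
    rwa [hα] at this
  have hall : (Steiner.blocks B).card = 77 := by
    have h := hlam ∅ (by simp)
    simp only [Finset.card_empty, Finset.empty_subset, Finset.filter_true] at h
    norm_num [Nat.choose_eq_factorial_div_factorial, Nat.factorial] at h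
    omega
  have h21 : ∀ a : α, ((Steiner.blocks B).filter fun d => a ∈ d).card = 21 := fun a => by
    have h := hlam {a} (by simp)
    norm_num [Nat.choose_eq_factorial_div_factorial, Nat.factorial] at h
    omega
  have h5 : ∀ a a' : α, a ≠ a' → ((Steiner.blocks B).filter fun d => a ∈ d ∧ a' ∈ d).card = 5 := fun a a' haa => by
    have h := hlam {a, a'} (by rw [Finset.card_pair haa]; norm_num)
    rw [Finset.card_pair haa] at h
    simp only [Finset.insert_subset_iff, Finset.singleton_subset_iff] at h
    norm_num [Nat.choose_eq_factorial_div_factorial, Nat.factorial] at h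
    omega
  have hmemb : ∀ b : B, (Finset.univ.filter fun a => a ∈ (b : Finset α)).card = 6 := fun b => by
    rw [Finset.filter_univ_mem, hB.1 _ b.2]
  refine ⟨?_, fun v => ?_, fun v w hvw => ?_, fun v w hne hvw => ?_⟩
  · have h := hcount Finset.univ (fun _ => True) (fun _ => True) (by simp) (by simp)
    simp only [Finset.mem_univ, if_true, Finset.filter_true, Finset.card_univ, hα, hall] at h
    omega
  · rw [← SimpleGraph.card_neighborFinset_eq_degree]
    rcases v with _ | a | b
    · rw [hcount _ (fun _ => True) (fun _ => False) (by simp [a01]) (by simp [a02])]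
      simp [hα]
    · rw [hcount _ (fun _ => False) (fun d => a ∈ d) (by simp [a11]) (by simp [a12]),
        if_pos (by rw [SimpleGraph.mem_neighborFinset]; exact (a01 a).symm), h21]
      simp
    · rw [hcount _ (fun a => a ∈ (b : Finset α)) (fun d => Disjoint d (b : Finset α))
          (fun a => by rw [SimpleGraph.mem_neighborFinset, (Cfsg.pointBlockGraph B).adj_comm, a12])
          (fun c => by rw [SimpleGraph.mem_neighborFinset, a22]; exact disjoint_comm),
        if_neg (by rw [SimpleGraph.mem_neighborFinset]; exact fun h => a02 b h.symm),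
        hmemb, Steiner.card_disjoint_3_6_22 hα hB b.2]
  · rw [← Set.toFinset_card, Finset.card_eq_zero, Finset.eq_empty_iff_forall_notMem]
    intro x hx
    rw [Set.mem_toFinset, SimpleGraph.mem_commonNeighbors] at hx
    obtain ⟨h1, h2⟩ := hx
    have s1 := h1.symm
    have s2 := h2.symm
    have svw := hvw.symm
    rcases v with _ | a | b <;> rcases w with _ | a' | c <;> rcases x with _ | a'' | d <;>
      first
        | exact a00 hvw | exact a00 h1 | exact a00 h2
        | exact a02 _ hvw | exact a02 _ svw | exact a02 _ h1 | exact a02 _ s1 | exact a02 _ h2 | exact a02 _ s2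
        | exact a11 _ _ hvw | exact a11 _ _ h1 | exact a11 _ _ h2
        | exact Finset.disjoint_left.1 ((a22 c d).1 h2) ((a12 a c).1 hvw) ((a12 a d).1 h1)
        | exact Finset.disjoint_left.1 ((a22 b d).1 h1) ((a12 a' b).1 svw) ((a12 a' d).1 h2)
        | exact Finset.disjoint_left.1 ((a22 b c).1 hvw) ((a12 a'' b).1 s1) ((a12 a'' c).1 s2)
        | exact Steiner.no_three_disjoint hα hB b.2 c.2 d.2 ((a22 b c).1 hvw) ((a22 b d).1 h1).symm
            ((a22 c d).1 h2).symm
  · rw [← Set.toFinset_card]
    rcases v with _ | a | b <;> rcases w with _ | a' | c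
    · exact absurd rfl hne
    · exact absurd (a01 a') hvw
    · rw [hcount _ (fun a => a ∈ (c : Finset α)) (fun _ => False)
          (fun a => by
            rw [Set.mem_toFinset, SimpleGraph.mem_commonNeighbors, (Cfsg.pointBlockGraph B).adj_comm (some (Sum.inr c)), a12]
            exact and_iff_right (a01 a))
          (fun d => by simp [SimpleGraph.mem_commonNeighbors, a02]),
        if_neg (by simp [SimpleGraph.mem_commonNeighbors, a00]), hmemb]
      simp
    · exact absurd (a01 a).symm hvw
    · rw [hcount _ (fun _ => False) (fun d => a ∈ d ∧ a' ∈ d)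
          (fun x => by simp [SimpleGraph.mem_commonNeighbors, a11])
          (fun d => by simp [SimpleGraph.mem_commonNeighbors, a12]),
        if_pos (by rw [Set.mem_toFinset, SimpleGraph.mem_commonNeighbors]; exact ⟨(a01 a).symm, (a01 a').symm⟩),
        h5 a a' (fun e => hne (by rw [e]))]
      simp
    · rw [hcount _ (fun _ => False) (fun d => a ∈ d ∧ Disjoint d (c : Finset α))
          (fun x => by simp [SimpleGraph.mem_commonNeighbors, a11])
          (fun d => by
            rw [Set.mem_toFinset, SimpleGraph.mem_commonNeighbors, a12, a22]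
            exact and_congr_right fun _ => disjoint_comm),
        if_neg (by
          rw [Set.mem_toFinset, SimpleGraph.mem_commonNeighbors]
          exact fun h => a02 c h.2.symm),
        Steiner.card_through_point_disjoint hα hB c.2 (fun h => hvw ((a12 a c).2 h))]
      simp
    · rw [hcount _ (fun a => a ∈ (b : Finset α)) (fun _ => False)
          (fun a => by
            rw [Set.mem_toFinset, SimpleGraph.mem_commonNeighbors, (Cfsg.pointBlockGraph B).adj_comm (some (Sum.inr b)), a12]
            exact and_iff_left (a01 a))
          (fun d => by simp [SimpleGraph.mem_commonNeighbors, a02]),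
        if_neg (by simp [SimpleGraph.mem_commonNeighbors, a00]), hmemb]
      simp
    · rw [hcount _ (fun _ => False) (fun d => a' ∈ d ∧ Disjoint d (b : Finset α))
          (fun x => by simp [SimpleGraph.mem_commonNeighbors, a11])
          (fun d => by
            rw [Set.mem_toFinset, SimpleGraph.mem_commonNeighbors, a12, a22, and_comm]
            exact and_congr_right fun _ => disjoint_comm),
        if_neg (by
          rw [Set.mem_toFinset, SimpleGraph.mem_commonNeighbors]
          exact fun h => a02 b h.1.symm),
        Steiner.card_through_point_disjoint hα hB b.2 (fun h => hvw ((a12 a' b).2 h).symm)]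
      simp
    · have hne' : (b : Finset α) ≠ c := fun e => hne (by rw [Subtype.ext e])
      have hndisj : ¬ Disjoint (b : Finset α) c := fun h => hvw ((a22 b c).2 h)
      have h2 : ((b : Finset α) ∩ c).card = 2 := by
        rcases Steiner.inter_3_6_22 hα hB c.2 b.2 hne' with h | h
        · exact absurd (Finset.disjoint_iff_inter_eq_empty.2 (Finset.card_eq_zero.1 h)) hndisj
        · exact h
      rw [hcount _ (fun a => a ∈ (b : Finset α) ∧ a ∈ (c : Finset α))
          (fun d => Disjoint d (b : Finset α) ∧ Disjoint d (c : Finset α))
          (fun a => by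
            rw [Set.mem_toFinset, SimpleGraph.mem_commonNeighbors, (Cfsg.pointBlockGraph B).adj_comm _ (some (Sum.inl a)),
              (Cfsg.pointBlockGraph B).adj_comm _ (some (Sum.inl a)), a12, a12])
          (fun d => by
            rw [Set.mem_toFinset, SimpleGraph.mem_commonNeighbors, a22, a22, disjoint_comm,
              @disjoint_comm _ _ _ (c : Finset α)]),
        if_neg (by
          rw [Set.mem_toFinset, SimpleGraph.mem_commonNeighbors]
          exact fun h => a02 b h.1.symm),
        Steiner.common_disjoint hα hB b.2 c.2 h2]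
      have : (Finset.univ.filter fun a => a ∈ (b : Finset α) ∧ a ∈ (c : Finset α)) = (b : Finset α) ∩ c := by
        ext; simp
      rw [this, h2]

end Cfsg.Agent.S0428
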