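import Cfsg.Statements.S0437
import Cfsg.Agent.ThreeTrans.Basic
import Cfsg.Agent.S0436

set_option autoImplicit false
open Cfsg

namespace Cfsg.Agent.S0437

/-- For three distinct, pairwise commuting members a, b, c of a set of 3-transpositions E, a member e of E centralises a * b * c if and only if it centralises each of a, b and c. -/
theorem result {G : Type*} [Group G] {E : Set G} (hE : Cfsg.IsThreeTranspositionSet E) {a b c e : G} (ha : a ∈ E) (hb : b ∈ E) (hc : c ∈ E) (he : e ∈ E) (hab : a ≠ b) (hac : a ≠ c) (hbc : b ≠ c) (h₁ : Commute a b) (h₂ : Commute a c) (h₃ : Commute b c) : Commute e (a * b * c) ↔ (Commute e a ∧ Commute e b ∧ Commute e c) := by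
  constructor
  · intro h
    have step : ∀ {x y z : G}, x ∈ E → y ∈ E → z ∈ E → y ≠ z → Commute y z →
        Commute e x → Commute e (x * (y * z)) → Commute e x ∧ Commute e y ∧ Commute e z := by
      intro x y z _ hy hz hyz hc' hx h'
      have h2 := hx.inv_right.mul_right h'
      rw [inv_mul_cancel_left] at h2
      exact ⟨hx, (S0436.result hE hy hz he hyz hc').1 h2⟩
    by_cases hea : Commute e a
    · exact step ha hb hc hbc h₃ hea (by rwa [← mul_assoc])
    by_cases heb : Commute e b
    · obtain ⟨h1, h2, h3⟩ := step hb ha hc hac h₂ heb (by rwa [← mul_assoc, ← h₁.eq])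
      exact ⟨h2, h1, h3⟩
    by_cases hec : Commute e c
    · obtain ⟨h1, h2, h3⟩ := step hc ha hb hab h₁ hec (by rwa [(h₂.symm.mul_right h₃.symm).eq])
      exact ⟨h2, h3, h1⟩
    exfalso
    have hi := fun x hx => ThreeTrans.mul_self hE (d := x) hx
    have hs := fun x hx => ThreeTrans.mul_self_mul hE (d := x) hx
    set b' := b * e * b with hb'
    -- conjugation by `b'` carries `a` to `c`
    have hc' : b' * a * b' = c := by
      have h' : (a * b * c)⁻¹ * e * (a * b * c) = e := by
        rw [mul_assoc, h.eq, inv_mul_cancel_left]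
      rw [mul_inv_rev, mul_inv_rev, ThreeTrans.inv_eq hE ha, ThreeTrans.inv_eq hE hb,
        ThreeTrans.inv_eq hE hc] at h'
      have h1 : b * (e * a * e) * b = e * c * e := by
        rw [← ThreeTrans.braid hE ha he (fun hh => hea hh.symm),
          ← ThreeTrans.braid hE hc he (fun hh => hec hh.symm)]
        conv_rhs => rw [← h']
        simp only [mul_assoc, hs c hc, hi c hc, mul_one]
      have h2 : e * b * e = b' := (ThreeTrans.braid hE hb he (fun hh => heb hh.symm)).symm
      rw [← h2]
      calc e * b * e * a * (e * b * e) = e * (b * (e * a * e) * b) * e := by simp only [mul_assoc]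
        _ = c := by rw [h1]; simp only [mul_assoc, hs e he, hi e he, mul_one]
    have hb'2 : b' * b' = 1 := by
      rw [hb']; simp only [mul_assoc, hs b hb, hs e he, hi b hb]
    by_cases hcab : Commute b' a
    · rw [hcab.eq, mul_assoc, hb'2, mul_one] at hc'
      exact hac hc'
    · refine hcab ?_
      -- `a` commutes with its conjugate `c` under `b'`, impossible for an order-three product
      have hb'c : (a * b') ^ 3 = 1 ∨ (a * b') ^ 2 = 1 := by
        have hconj : a * b' = b * ((b * a * b) * e) * b := by
          rw [hb', h₁.symm.eq, ThreeTrans.mul_mul_self hE hb]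
          calc a * (b * e * b) = a * b * e * b := by simp only [mul_assoc]
            _ = b * a * e * b := by rw [h₁.eq]
            _ = b * (a * e) * b := by simp only [mul_assoc]
        rw [hconj, h₁.symm.eq, ThreeTrans.mul_mul_self hE hb,
          ← ThreeTrans.inv_eq hE hb, show (b⁻¹ * (a * e) * b⁻¹) = b⁻¹ * (a * e) * b⁻¹⁻¹ by
            rw [inv_inv, ThreeTrans.inv_eq hE hb], conj_pow, conj_pow, conj_eq_one_iff, conj_eq_one_iff]
        exact (hE.2 a ha e he).symm
      rcases hb'c with h3 | h2'
      · have hbr : a * b' * a = b' * a * b' := by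
          have h4 : (a * b' * a) * (b' * a * b') = 1 := by
            rw [← h3, pow_succ, pow_two]; simp only [mul_assoc]
          rw [eq_inv_of_mul_eq_one_left h4]
          refine inv_eq_of_mul_eq_one_left ?_
          have hsb : ∀ x, b' * (b' * x) = x := fun x => by rw [← mul_assoc, hb'2, one_mul]
          simp only [mul_assoc, hsb, hs a ha, hb'2]
        rw [hc'] at hbr
        have h5 : b' * a = a * c := by rw [← hbr]; simp only [mul_assoc, hs a ha]
        rw [h₂.eq, ← hbr] at h5
        simp only [mul_assoc, hi a ha, mul_one] at h5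
        exact h5
      · rw [sq] at h2'
        have h6 := inv_eq_of_mul_eq_one_right h2'
        rw [mul_inv_rev, inv_eq_of_mul_eq_one_left hb'2, ThreeTrans.inv_eq hE ha] at h6
        exact h6
  · exact fun h => (h.1.mul_right h.2.1).mul_right h.2.2

end Cfsg.Agent.S0437
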