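import Cfsg.Statements.S0439

set_option autoImplicit false
open Cfsg

namespace Cfsg.Agent.S0439

/-- In the symmetric group of degree n ≥ 2, the set of transpositions is a conjugacy class of 3-transpositions which generates the group. -/
theorem result (n : ℕ) (hn : 2 ≤ n) : Cfsg.IsThreeTranspositionClass {σ : Equiv.Perm (Fin n) | σ.IsSwap} := by
  classical
  have hord : ∀ σ : Equiv.Perm (Fin n), σ.IsSwap → orderOf σ = 2 := by
    rintro σ ⟨x, y, hxy, rfl⟩
    refine orderOf_eq_prime (by rw [sq, Equiv.swap_mul_self]) ?_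
    rw [ne_eq, Equiv.swap_eq_one_iff]
    exact hxy
  -- two transpositions with a common point
  have key : ∀ x y z : Fin n, x ≠ y → x ≠ z →
      (Equiv.swap x y * Equiv.swap x z) ^ 2 = 1 ∨ (Equiv.swap x y * Equiv.swap x z) ^ 3 = 1 := by
    intro x y z hxy hxz
    by_cases hyz : y = z
    · exact Or.inl (by rw [hyz, Equiv.swap_mul_self, one_pow])
    · right
      have h3 := (Equiv.Perm.isThreeCycle_swap_mul_swap_same hxy hxz hyz).orderOf
      rw [← h3, pow_orderOf_eq_one]
  refine ⟨⟨hord, ?_⟩, ?_, Equiv.Perm.closure_isSwap⟩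
  · rintro σ ⟨x, y, hxy, rfl⟩ τ ⟨z, w, hzw, rfl⟩
    by_cases h1 : z = x
    · subst h1; exact key z y w hxy hzw
    by_cases h2 : z = y
    · subst h2; rw [Equiv.swap_comm x]; exact key z x w (Ne.symm hxy) hzw
    by_cases h3 : w = x
    · subst h3; rw [Equiv.swap_comm z]; exact key w y z hxy (Ne.symm hzw)
    by_cases h4 : w = y
    · subst h4; rw [Equiv.swap_comm x, Equiv.swap_comm z]; exact key w x z (Ne.symm hxy) (Ne.symm hzw)
    left
    have hdisj : Equiv.Perm.Disjoint (Equiv.swap x y) (Equiv.swap z w) := by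
      intro i
      by_cases hi : i = x ∨ i = y
      · right
        rcases hi with rfl | rfl
        · exact Equiv.swap_apply_of_ne_of_ne (Ne.symm h1) (Ne.symm h3)
        · exact Equiv.swap_apply_of_ne_of_ne (Ne.symm h2) (Ne.symm h4)
      · push Not at hi
        exact Or.inl (Equiv.swap_apply_of_ne_of_ne hi.1 hi.2)
    rw [hdisj.commute.mul_pow, sq, sq, Equiv.swap_mul_self, Equiv.swap_mul_self, one_mul]
  · have h01 : (⟨0, by omega⟩ : Fin n) ≠ ⟨1, by omega⟩ := by simp
    refine ⟨Equiv.swap ⟨0, by omega⟩ ⟨1, by omega⟩, ⟨_, _, h01, rfl⟩, ?_⟩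
    apply Set.ext
    intro σ
    simp only [conjugatesOf, Set.mem_ofPred_eq]
    constructor
    · rintro ⟨x, y, hxy, rfl⟩
      exact Equiv.Perm.isConj_swap h01 hxy
    · intro h
      obtain ⟨g, rfl⟩ := isConj_iff.1 h
      refine ⟨g ⟨0, by omega⟩, g ⟨1, by omega⟩, g.injective.ne h01, ?_⟩
      rw [Equiv.swap_apply_apply]

end Cfsg.Agent.S0439
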