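import Cfsg.Statements.S0441
import Cfsg.Agent.ThreeTrans.RankThree

set_option autoImplicit false
open Cfsg
open scoped commutatorElement

namespace Cfsg.Agent.S0441

/-- A non-abelian simple derived group is perfect and has no solvable normal subgroup inside it. -/
theorem simple_derived {G : Type*} [Group G] (hsimple : IsSimpleGroup (commutator G))
    (hnonab : ∃ x y : commutator G, x * y ≠ y * x) :
    ⁅commutator G, commutator G⁆ = commutator G ∧
      ∀ N : Subgroup G, N.Normal → N ≤ commutator G → Group.IsSolvable N → N = ⊥ := by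
  have hns : ¬ Group.IsSolvable (commutator G) := by
    intro h
    obtain ⟨x, y, hxy⟩ := hnonab
    exact hxy ((IsSimpleGroup.comm_iff_isSolvable (G := commutator G)).2 h x y)
  constructor
  · rcases IsSimpleGroup.eq_bot_or_eq_top_of_normal
      (commutator (commutator G)) inferInstance with h | h
    · exfalso
      obtain ⟨x, y, hxy⟩ := hnonab
      refine hxy (commutatorElement_eq_one_iff_mul_comm.1 ?_)
      have hm := Subgroup.commutator_mem_commutator (Subgroup.mem_top x) (Subgroup.mem_top y)
      rw [← commutator_def, h, Subgroup.mem_bot] at hm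
      exact hm
    · rw [← Subgroup.map_subtype_commutator, h, ← MonoidHom.range_eq_map, Subgroup.range_subtype]
  · intro N hN hle hs
    rcases IsSimpleGroup.eq_bot_or_eq_top_of_normal (N.subgroupOf (commutator G))
      inferInstance with h | h
    · rwa [Subgroup.subgroupOf_eq_bot, disjoint_iff, inf_eq_left.2 hle] at h
    · exact absurd (Core.isSolvable_mono hs (Subgroup.subgroupOf_eq_top.1 h)) hns

/-- Fischer's rank-three property. Let a finite group be generated by a conjugacy class D of 3-transpositions, with non-abelian simple commutator subgroup. Then for a in D there are members of D other than a commuting with a and members not commuting with a, and the centraliser of a acts transitively on each of these two sets. -/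
theorem result {G : Type*} [Group G] [Finite G] {D : Set G} (hD : Cfsg.IsThreeTranspositionClass D) (hsimple : IsSimpleGroup (commutator G)) (hnonab : ∃ x y : commutator G, x * y ≠ y * x) {a : G} (ha : a ∈ D) : (∃ b ∈ D, b ≠ a ∧ Commute a b) ∧ (∃ c ∈ D, ¬ Commute a c) ∧ (∀ b ∈ D, ∀ b' ∈ D, b ≠ a → b' ≠ a → Commute a b → Commute a b' → ∃ g : G, Commute g a ∧ g * b * g⁻¹ = b') ∧ (∀ c ∈ D, ∀ c' ∈ D, ¬ Commute a c → ¬ Commute a c' → ∃ g : G, Commute g a ∧ g * c * g⁻¹ = c') := by
  classical
  obtain ⟨hperf, hsol⟩ := simple_derived hsimple hnonab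
  have hT := hD.1
  have hc : ∃ c ∈ D, ¬ Commute a c := by
    refine ThreeTrans.exists_not_commute hD ?_ ha
    by_contra hcon
    push Not at hcon
    obtain ⟨x, y, hxy⟩ := hnonab
    apply hxy
    have hcen : ∀ g : G, Commute a g := ThreeTrans.commute_all hD.2.2 fun e he =>
      hcon a ha e he ▸ Commute.refl a
    have htop : ∀ g : G, g ∈ Subgroup.zpowers a := by
      intro g
      have hle : Subgroup.closure D ≤ Subgroup.zpowers a := by
        rw [Subgroup.closure_le]
        intro e he
        rw [← hcon a ha e he]
        exact Subgroup.mem_zpowers a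
      rw [hD.2.2] at hle
      exact hle (Subgroup.mem_top g)
    obtain ⟨i, hi⟩ := Subgroup.mem_zpowers_iff.1 (htop x)
    obtain ⟨j, hj⟩ := Subgroup.mem_zpowers_iff.1 (htop y)
    apply Subtype.ext
    show (x : G) * y = y * x
    rw [← hi, ← hj]
    exact Commute.zpow_zpow_self a i j
  have hb : ∃ b ∈ D, b ≠ a ∧ Commute a b := by
    by_contra hcon
    push Not at hcon
    obtain ⟨c, hcD, hac⟩ := hc
    have heq : ({a} : Set G) = D := by
      refine ThreeTrans.commute_closed_eq hD hperf (Set.singleton_subset_iff.2 ha)
        (Set.singleton_nonempty a) ?_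
      intro s hs e he hse
      rw [Set.mem_singleton_iff] at hs ⊢
      subst hs
      by_contra hne
      exact hcon e he hne hse
    rw [← heq, Set.mem_singleton_iff] at hcD
    exact hac (hcD ▸ Commute.refl a)
  refine ⟨hb, hc, ?_, ?_⟩
  · intro b hbD b' hb'D hne hne' hab hab'
    exact ThreeTrans.exists_commute_conj_dperp hsol hperf hD ha ⟨hbD, hne, hab⟩ ⟨hb'D, hne', hab'⟩
  · intro c hcD c' hc'D hac hac'
    exact ThreeTrans.exists_commute_conj_not_commute hsol hperf hD ha hcD hc'D hac hac'

end Cfsg.Agent.S0441
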