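import Cfsg.Statements.S0442
import Mathlib.GroupTheory.OrderOfElement
import Mathlib.Tactic.Group

set_option autoImplicit false
open Cfsg

namespace Cfsg.Agent.S0442

theorem aux {G : Type*} [Group G] {a u : G} (h : a * u * a = u⁻¹) (ha : a * a = 1) (n : ℕ) :
    u ^ n * a = a * (u ^ n)⁻¹ := by
  have hi : a⁻¹ = a := inv_eq_of_mul_eq_one_right ha
  have h' : a * u * a⁻¹ = u⁻¹ := by rw [hi, h]
  have := conj_pow (i := n) (a := a) (b := u)
  rw [h', inv_pow] at this
  rw [this, ← mul_assoc, ← mul_assoc, ha, one_mul, hi]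

/-- A standard trick for producing elements of an involution centraliser: for an involution a and an element g, let b be the conjugate g⁻¹ * a * g. If a * b has odd order 2m + 1 then g * (a * b) ^ m commutes with a; if a * b has even order 2m then (a * b) ^ m and (a * (g * a * g⁻¹)) ^ m commute with a. -/
theorem result {G : Type*} [Group G] (a g : G) (ha : orderOf a = 2) : (∀ m : ℕ, orderOf (a * (g⁻¹ * a * g)) = 2 * m + 1 → Commute (g * (a * (g⁻¹ * a * g)) ^ m) a) ∧ (∀ m : ℕ, orderOf (a * (g⁻¹ * a * g)) = 2 * m → Commute ((a * (g⁻¹ * a * g)) ^ m) a ∧ Commute ((a * (g * a * g⁻¹)) ^ m) a) := by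
  have ha2 : a * a = 1 := by rw [← pow_two, ← ha, pow_orderOf_eq_one]
  have hai : a⁻¹ = a := inv_eq_of_mul_eq_one_right ha2
  set u := a * (g⁻¹ * a * g) with hu
  have hinv : a * u * a = u⁻¹ := by
    rw [hu, ← mul_assoc a a, ha2, one_mul]
    simp [mul_assoc, hai]
  refine ⟨fun m hm => ?_, fun m hm => ?_⟩
  · have h1 : (u ^ (2 * m))⁻¹ = u := inv_eq_of_mul_eq_one_right (by
      rw [← pow_succ, ← hm, pow_orderOf_eq_one])
    show g * u ^ m * a = a * (g * u ^ m)
    calc g * u ^ m * a = g * (a * (u ^ (2 * m))⁻¹) * u ^ m := by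
          rw [mul_assoc g, S0442.aux hinv ha2, two_mul, pow_add]; group
      _ = g * (g⁻¹ * a * g) * u ^ m := by rw [h1, hu, ← mul_assoc a a, ha2, one_mul]
      _ = a * (g * u ^ m) := by group
  · have h1 : (u ^ m)⁻¹ = u ^ m := inv_eq_of_mul_eq_one_right (by
      rw [← pow_add, ← two_mul, ← hm, pow_orderOf_eq_one])
    refine ⟨by show u ^ m * a = _; rw [S0442.aux hinv ha2, h1], ?_⟩
    set w := a * (g * a * g⁻¹) with hw
    have hwu : w = g * u⁻¹ * g⁻¹ := by
      rw [hu, hw]; simp [mul_assoc, hai]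
    have hinv' : a * w * a = w⁻¹ := by
      rw [hw, ← mul_assoc a a, ha2, one_mul]; simp [mul_assoc, hai]
    have h2 : (w ^ m)⁻¹ = w ^ m := by
      rw [hwu, conj_pow, inv_pow, mul_inv_rev, mul_inv_rev, inv_inv, inv_inv, h1, mul_assoc]
    show w ^ m * a = _
    rw [S0442.aux hinv' ha2, h2]

end Cfsg.Agent.S0442
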