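import Cfsg.Statements.S0443
import Cfsg.Agent.Fusion.PGroup

set_option autoImplicit false
open Cfsg

namespace Cfsg.Agent.S0443



/-- Two definitions of a 2-central involution agree: an element t of order 2 of a finite group lies in the centre of some Sylow 2-subgroup if and only if its centraliser contains some Sylow 2-subgroup. -/
theorem result {G : Type*} [Group G] [Finite G] (t : G) (ht : orderOf t = 2) : Cfsg.IsTwoCentralInvolution t ↔ ∃ P : Sylow 2 G, (P : Subgroup G) ≤ Subgroup.centralizer ({t} : Set G) := by
  constructor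
  · rintro ⟨-, P, -, hP⟩
    exact ⟨P, fun x hx => Subgroup.mem_centralizer_singleton_iff.mpr (hP x hx)⟩
  · rintro ⟨P, hP⟩
    have hcom : ∀ x ∈ (P : Subgroup G), x * t = t * x := fun x hx =>
      Subgroup.mem_centralizer_singleton_iff.mp (hP hx)
    have ht2 : IsPGroup 2 (Subgroup.zpowers t) :=
      IsPGroup.of_card (n := 1) (by rw [Nat.card_zpowers, ht, pow_one])
    have hn : (P : Subgroup G) ≤ Subgroup.normalizer (Subgroup.zpowers t : Set G) := by
      refine le_trans (fun x hx => ?_) (Subgroup.centralizer_le_normalizer _)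
      refine Subgroup.mem_centralizer_iff.mpr fun y hy => ?_
      obtain ⟨k, rfl⟩ := Subgroup.mem_zpowers_iff.mp hy
      exact ((show Commute x t from hcom x hx).zpow_right k).eq.symm
    have hsup := P.3 (ht2.to_sup_of_normal_left' P.2 hn) le_sup_right
    exact ⟨ht, P, hsup.le (Subgroup.mem_sup_left (Subgroup.mem_zpowers t)), hcom⟩

end Cfsg.Agent.S0443
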