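import Cfsg.Statements.S0444
import Cfsg.Agent.ThreeTrans.SmallPerm

set_option autoImplicit false
open Cfsg

namespace Cfsg.Agent.S0444

/-- Two members of a set of 3-transpositions which do not commute generate a subgroup isomorphic to the symmetric group on three letters. -/
theorem result {G : Type*} [Group G] {E : Set G} (hE : Cfsg.IsThreeTranspositionSet E) {d e : G} (hd : d ∈ E) (he : e ∈ E) (h : ¬ Commute d e) : Nonempty (Subgroup.closure ({d, e} : Set G) ≃* Equiv.Perm (Fin 3)) := by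
  have hs := fun {x} (hx : x ∈ E) => ThreeTrans.mul_self hE hx
  let φ := ThreeTrans.SmallPerm.hom (hs he) (hs hd) (hs he)
    (ThreeTrans.braid hE hd he h) rfl (ThreeTrans.braid hE he hd (fun hh => h hh.symm))
  let ψ : Equiv.Perm (Fin 3) →* Equiv.Perm (Fin 4) :=
    MonoidHom.mk' (fun σ => Equiv.Perm.decomposeFin.symm (0, σ)) (by decide +kernel)
  have hψ0 : ψ (Equiv.swap 0 1) = ThreeTrans.SmallPerm.s4 1 := by
    show Equiv.Perm.decomposeFin.symm (0, (Equiv.swap 0 1 : Equiv.Perm (Fin 3))) = _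
    decide +kernel
  have hψ1 : ψ (Equiv.swap 1 2) = ThreeTrans.SmallPerm.s4 2 := by
    show Equiv.Perm.decomposeFin.symm (0, (Equiv.swap 1 2 : Equiv.Perm (Fin 3))) = _
    decide +kernel
  set χ : Equiv.Perm (Fin 3) →* G := φ.comp ψ
  have h0 : χ (Equiv.swap 0 1) = d := by
    show φ (ψ _) = _
    rw [hψ0]; exact ThreeTrans.SmallPerm.hom_gen _ _ _ _ _ _ 1
  have h1 : χ (Equiv.swap 1 2) = e := by
    show φ (ψ _) = _
    rw [hψ1]; exact ThreeTrans.SmallPerm.hom_gen _ _ _ _ _ _ 2
  have hinj : Function.Injective χ := by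
    rw [injective_iff_map_eq_one]
    intro σ hσ
    by_contra hne
    have key : ∀ σ : Equiv.Perm (Fin 3), σ ≠ 1 → ∃ g k : Equiv.Perm (Fin 3),
        g * σ * g⁻¹ * (k * σ * k⁻¹) = Equiv.swap 0 1 * Equiv.swap 1 2 := by decide +kernel
    obtain ⟨g, k, hgk⟩ := key σ hne
    have := congrArg χ hgk
    simp only [map_mul, map_inv, hσ, h0, h1, mul_one, mul_inv_cancel, one_mul] at this
    exact h ((ThreeTrans.sq_eq_one_iff hE hd he).1 (by rw [← this, one_pow]))
  have hrange : χ.range = Subgroup.closure ({d, e} : Set G) := by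
    have hgen : Subgroup.closure ({Equiv.swap 0 1, Equiv.swap 1 2} : Set (Equiv.Perm (Fin 3))) = ⊤ := by
      rw [eq_top_iff]
      intro σ _
      have hex : ∀ σ : Equiv.Perm (Fin 3), ∃ w ∈ ([[], [0], [1], [0, 1], [1, 0], [0, 1, 0]] : List (List (Fin 2))),
          (w.map ![Equiv.swap 0 1, Equiv.swap 1 2]).prod = σ := by decide +kernel
      obtain ⟨w, -, rfl⟩ := hex σ
      refine Subgroup.list_prod_mem _ ?_
      intro x hx
      obtain ⟨i, -, rfl⟩ := List.mem_map.1 hx
      apply Subgroup.subset_closure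
      fin_cases i <;> simp
    rw [MonoidHom.range_eq_map, ← hgen, MonoidHom.map_closure, Set.image_pair, h0, h1]
  exact ⟨((MonoidHom.ofInjective hinj).trans (MulEquiv.subgroupCongr hrange)).symm⟩

end Cfsg.Agent.S0444
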