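import Cfsg.Statements.S0445
import Mathlib
-- import your own Cfsg.Agent.* helpers here

set_option autoImplicit false
open Cfsg

namespace Cfsg.Agent.S0445

open Matrix

/-- A matrix commuting with the transvection, from its free entries. -/
def blk (p : (Fin 3 → ZMod 2) × ZMod 2 × (Fin 3 → ZMod 2) × Matrix (Fin 3) (Fin 3) (ZMod 2)) :
    Matrix (Fin 5) (Fin 5) (ZMod 2) :=
  Matrix.of (Fin.cons (Fin.cons 1 (Fin.cons p.2.1 p.1)) (Fin.cons (Fin.cons 0 (Fin.cons 1 0))
    (fun i => Fin.cons 0 (Fin.cons (p.2.2.1 i) (p.2.2.2 i)))))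

theorem det_blk (p : (Fin 3 → ZMod 2) × ZMod 2 × (Fin 3 → ZMod 2) ×
    Matrix (Fin 3) (Fin 3) (ZMod 2)) : (blk p).det = p.2.2.2.det := by
  rw [Matrix.det_succ_column_zero, Fin.sum_univ_succ]
  rw [Finset.sum_eq_zero (s := Finset.univ) (f := fun i : Fin 4 =>
    (-1 : ZMod 2) ^ ((i.succ : Fin 5) : ℕ) * blk p i.succ 0 *
      ((blk p).submatrix i.succ.succAbove Fin.succ).det) (fun i _ => by
    refine Fin.cases ?_ (fun k => ?_) i <;> simp [blk])]
  rw [add_zero, Matrix.det_succ_row_zero, Fin.sum_univ_succ]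
  rw [Finset.sum_eq_zero (s := Finset.univ) (f := fun i : Fin 3 => _) (fun i _ => by
    simp [blk, Fin.succAbove_zero])]
  simp [blk, Fin.succAbove_zero]
  rfl

theorem commutes_blk (p : (Fin 3 → ZMod 2) × ZMod 2 × (Fin 3 → ZMod 2) ×
    Matrix (Fin 3) (Fin 3) (ZMod 2)) :
    Matrix.transvection 0 1 1 * blk p = blk p * Matrix.transvection 0 1 1 := by
  ext i j
  by_cases hi : i = 0 <;> by_cases hj : j = 1
  · subst hi hj; simp [blk, Matrix.transvection_mul_apply_same, Matrix.mul_transvection_apply_same]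
  · subst hi
    rw [Matrix.transvection_mul_apply_same, Matrix.mul_transvection_apply_of_ne _ _ _ _ hj, one_mul]
    revert hj
    refine Fin.cases ?_ (fun j => Fin.cases ?_ (fun j => ?_) j) j <;> simp [blk]
  · subst hj
    rw [Matrix.transvection_mul_apply_of_ne _ _ _ _ hi, Matrix.mul_transvection_apply_same, one_mul]
    revert hi
    refine Fin.cases ?_ (fun i => Fin.cases ?_ (fun i => ?_) i) i <;> simp [blk]
  · rw [Matrix.transvection_mul_apply_of_ne _ _ _ _ hi, Matrix.mul_transvection_apply_of_ne _ _ _ _ hj]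

theorem eq_blk (M : Matrix (Fin 5) (Fin 5) (ZMod 2))
    (h : Matrix.transvection 0 1 1 * M = M * Matrix.transvection 0 1 1) (hd : M.det = 1) :
    M = blk (fun j => M 0 j.succ.succ, M 0 1, fun i => M i.succ.succ 1,
      Matrix.of fun i j => M i.succ.succ j.succ.succ) := by
  have hrow : ∀ j, j ≠ 1 → M 1 j = 0 := fun j hj => by
    have := Matrix.ext_iff.mpr h 0 j
    rw [Matrix.transvection_mul_apply_same, Matrix.mul_transvection_apply_of_ne _ _ _ _ hj,
      one_mul] at this
    exact add_eq_left.1 this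
  have hcol : ∀ i, i ≠ 0 → M i 0 = 0 := fun i hi => by
    have := Matrix.ext_iff.mpr h i 1
    rw [Matrix.transvection_mul_apply_of_ne _ _ _ _ hi, Matrix.mul_transvection_apply_same,
      one_mul] at this
    exact left_eq_add.1 this
  have hdiag : M 1 1 = M 0 0 := by
    have := Matrix.ext_iff.mpr h 0 1
    rw [Matrix.transvection_mul_apply_same, Matrix.mul_transvection_apply_same, one_mul,
      one_mul] at this
    exact add_left_cancel this
  have h00 : M 0 0 = 1 := by
    by_contra hne
    have h0 : M 0 0 = 0 := by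
      revert hne; generalize M 0 0 = z; revert z; decide
    have : M.det = 0 := Matrix.det_eq_zero_of_column_eq_zero 0 fun i => by
      by_cases hi : i = 0
      · rw [hi, h0]
      · exact hcol i hi
    rw [this] at hd
    exact zero_ne_one hd
  ext i j
  refine Fin.cases ?_ (fun i => Fin.cases ?_ (fun i => ?_) i) i <;>
    refine Fin.cases ?_ (fun j => Fin.cases ?_ (fun j => ?_) j) j <;>
    simp [blk, h00, hdiag, hrow, hcol, Fin.succ_zero_eq_one, Fin.succ_ne_zero,
      show ∀ k : Fin 3, k.succ.succ ≠ (1 : Fin 5) from fun k => by decide +revert]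

theorem card_det_one :
    Nat.card {D : Matrix (Fin 3) (Fin 3) (ZMod 2) // D.det = 1} = 168 := by
  have hz2 : ∀ z : ZMod 2, z ≠ 0 → z = 1 := by decide
  haveI : Fact (Nat.Prime 2) := ⟨Nat.prime_two⟩
  have e : GL (Fin 3) (ZMod 2) ≃ {D : Matrix (Fin 3) (Fin 3) (ZMod 2) // D.det = 1} :=
    Equiv.ofBijective (fun u => ⟨(u : Matrix (Fin 3) (Fin 3) (ZMod 2)), by
      have := u.det.ne_zero
      revert this
      rw [Matrix.GeneralLinearGroup.val_det_apply]
      generalize (u : Matrix (Fin 3) (Fin 3) (ZMod 2)).det = z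
      exact hz2 z⟩)
      ⟨fun u v h => Units.ext (congrArg Subtype.val h), fun D =>
        ⟨Matrix.GeneralLinearGroup.mk'' D.1 (by rw [D.2]; exact isUnit_one), Subtype.ext rfl⟩⟩
  rw [← Nat.card_congr e, Matrix.card_GL_field, ZMod.card]
  decide

/-- In the special linear group of dimension 5 over the field with two elements, the centraliser of a transvection has order 21504 = 2 ^ 7 · 168 (it is an extension of an extraspecial group of order 2 ^ 7 by the simple group of order 168). -/
theorem result (s : Matrix.SpecialLinearGroup (Fin 5) (ZMod 2)) (hs : (s : Matrix (Fin 5) (Fin 5) (ZMod 2)) = Matrix.transvection 0 1 1) : Nat.card (Subgroup.centralizer ({s} : Set (Matrix.SpecialLinearGroup (Fin 5) (ZMod 2)))) = 21504 := by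
  have hmem : ∀ g : Matrix.SpecialLinearGroup (Fin 5) (ZMod 2),
      g ∈ Subgroup.centralizer ({s} : Set (Matrix.SpecialLinearGroup (Fin 5) (ZMod 2))) ↔
        Matrix.transvection 0 1 1 * g.1 = g.1 * Matrix.transvection 0 1 1 := by
    intro g
    rw [Subgroup.mem_centralizer_singleton_iff, ← hs]
    constructor
    · intro h; exact (congrArg Subtype.val h).symm
    · intro h; exact Subtype.ext h.symm
  let f : (Fin 3 → ZMod 2) × ZMod 2 × (Fin 3 → ZMod 2) ×
      {D : Matrix (Fin 3) (Fin 3) (ZMod 2) // D.det = 1} →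
      Subgroup.centralizer ({s} : Set (Matrix.SpecialLinearGroup (Fin 5) (ZMod 2))) :=
    fun p => ⟨⟨blk (p.1, p.2.1, p.2.2.1, p.2.2.2.1), (det_blk _).trans p.2.2.2.2⟩,
      (hmem _).2 (commutes_blk _)⟩
  have hf : Function.Bijective f := by
    constructor
    · rintro ⟨v, x, w, D⟩ ⟨v', x', w', D'⟩ h
      have h' : blk (v, x, w, D.1) = blk (v', x', w', D'.1) :=
        congrArg (fun z => z.1.1) h
      have e1 : v = v' := funext fun j => by
        simpa [blk] using congrFun (congrFun h' 0) j.succ.succ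
      have e2 : x = x' := by simpa [blk] using congrFun (congrFun h' 0) 1
      have e3 : w = w' := funext fun i => by
        simpa [blk] using congrFun (congrFun h' i.succ.succ) 1
      have e4 : D = D' := Subtype.ext (Matrix.ext fun i j => by
        simpa [blk] using congrFun (congrFun h' i.succ.succ) j.succ.succ)
      rw [e1, e2, e3, e4]
    · rintro ⟨g, hg⟩
      have h := eq_blk g.1 ((hmem g).1 hg) g.2
      have hd : (Matrix.of fun i j => g.1 i.succ.succ j.succ.succ :
          Matrix (Fin 3) (Fin 3) (ZMod 2)).det = 1 := by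
        have := congrArg Matrix.det h
        rw [g.2, det_blk] at this
        exact this.symm
      exact ⟨⟨_, _, _, ⟨_, hd⟩⟩, Subtype.ext (Subtype.ext h.symm)⟩
  rw [← Nat.card_congr (Equiv.ofBijective f hf), Nat.card_prod, Nat.card_prod, Nat.card_prod,
    card_det_one]
  simp

end Cfsg.Agent.S0445
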