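import Cfsg.Statements.S0447
import Cfsg.Agent.AltCover.Small
import Cfsg.Agent.AltCover.Eight

set_option autoImplicit false
open Cfsg

namespace Cfsg.Agent.S0447

/-- Involutions in double covers of alternating groups: for n ≤ 7, a finite non-split double cover of the alternating group of degree n has exactly one element of order 2 (the central one); for degree 8 there is a non-split double cover with two distinct involutions. -/
theorem result : (∀ (n : ℕ) (H : Type) (_ : Group H) (_ : Finite H), n ≤ 7 → Cfsg.IsNonsplitDoubleCover H (alternatingGroup (Fin n)) → ∀ x y : H, orderOf x = 2 → orderOf y = 2 → x = y) ∧ ∃ (H : Type) (_ : Group H) (_ : Finite H), Cfsg.IsNonsplitDoubleCover H (alternatingGroup (Fin 8)) ∧ ∃ x y : H, x ≠ y ∧ orderOf x = 2 ∧ orderOf y = 2 := by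
  refine ⟨?_, Cfsg.Agent.AltCover.exists_cover⟩
  intro n H _ _ hn hH x y hx hy
  have hxc := Cfsg.Agent.AltCover.involution_mem_center hn hH x hx
  have hyc := Cfsg.Agent.AltCover.involution_mem_center hn hH y hy
  have h2 : ∀ g ∈ Subgroup.center H, orderOf g = 2 → Subgroup.zpowers g = Subgroup.center H := by
    intro g hg ho
    refine Subgroup.eq_of_le_of_card_ge (Subgroup.zpowers_le.2 hg) ?_
    rw [Nat.card_zpowers, ho, hH.1]
  have e : x ∈ Subgroup.zpowers y := by rw [h2 y hyc hy]; exact hxc
  obtain ⟨k, hk⟩ := e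
  simp only at hk
  rcases Int.even_or_odd k with ⟨j, rfl⟩ | ⟨j, rfl⟩
  · rw [← two_mul, zpow_mul, show y ^ (2 : ℤ) = 1 from by
      rw [show (2 : ℤ) = ((2 : ℕ) : ℤ) from rfl, zpow_natCast, ← hy, pow_orderOf_eq_one], one_zpow] at hk
    rw [← hk, orderOf_one] at hx
    omega
  · rw [zpow_add_one, zpow_mul, show y ^ (2 : ℤ) = 1 from by
      rw [show (2 : ℤ) = ((2 : ℕ) : ℤ) from rfl, zpow_natCast, ← hy, pow_orderOf_eq_one], one_zpow, one_mul] at hk
    exact hk.symm

end Cfsg.Agent.S0447
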