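import Cfsg.Statements.S0451
import Cfsg.Agent.HeRecog.Trichotomy
-- import your own Cfsg.Agent.* helpers here

set_option autoImplicit false
open Cfsg

namespace Cfsg.Agent.S0451

/-- The three groups with their orders. -/
theorem cases_with_card {X : Type*} [Group X] [Finite X] [IsSimpleGroup X]
    (s : Matrix.SpecialLinearGroup (Fin 5) (ZMod 2))
    (hs : (s : Matrix (Fin 5) (Fin 5) (ZMod 2)) = Matrix.transvection 0 1 1) (z : X) (hz : orderOf z = 2)
    (f : Subgroup.centralizer ({z} : Set X) ≃*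
      Subgroup.centralizer ({s} : Set (Matrix.SpecialLinearGroup (Fin 5) (ZMod 2)))) :
    (Nonempty (X ≃* Matrix.SpecialLinearGroup (Fin 5) (ZMod 2)) ∧ Nat.card X = 9999360) ∨
    (Nonempty (X ≃* ↥Cfsg.M24) ∧ Nat.card X = 244823040) ∨
    (Cfsg.Spor.IsoHe X ∧ Nat.card X = 4030387200) := by
  rcases HeRecog.M8a.trichotomy s hs z hz f with h | h | h
  · obtain ⟨a⟩ := h
    exact Or.inl ⟨⟨a⟩, (Nat.card_congr a.toEquiv).trans (HeRecog.Ref.sl5_facts s hs).2.2⟩
  · obtain ⟨a⟩ := h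
    exact Or.inr (Or.inl ⟨⟨a⟩, (Nat.card_congr a.toEquiv).trans HeRecog.Ref.m24_facts.2.1⟩)
  · exact Or.inr (Or.inr ⟨h, HeRecog.M8a.isoHe_card h⟩)

/-- With s a transvection of SL(5, 2): two finite simple groups of equal order, each possessing an involution whose centraliser is isomorphic to the centraliser of s, are isomorphic. -/
theorem result {G H : Type*} [Group G] [Finite G] [IsSimpleGroup G] [Group H] [Finite H] [IsSimpleGroup H] (s : Matrix.SpecialLinearGroup (Fin 5) (ZMod 2)) (hs : (s : Matrix (Fin 5) (Fin 5) (ZMod 2)) = Matrix.transvection 0 1 1) (j : G) (k : H) (hj : orderOf j = 2) (hk : orderOf k = 2) (e : Subgroup.centralizer ({j} : Set G) ≃* Subgroup.centralizer ({s} : Set (Matrix.SpecialLinearGroup (Fin 5) (ZMod 2)))) (f : Subgroup.centralizer ({k} : Set H) ≃* Subgroup.centralizer ({s} : Set (Matrix.SpecialLinearGroup (Fin 5) (ZMod 2)))) (hcard : Nat.card G = Nat.card H) : Nonempty (G ≃* H) := by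
  rcases cases_with_card s hs j hj e with ⟨ha, ca⟩ | ⟨ha, ca⟩ | ⟨ha, ca⟩ <;>
    rcases cases_with_card s hs k hk f with ⟨hb, cb⟩ | ⟨hb, cb⟩ | ⟨hb, cb⟩ <;>
    first
      | omega
      | (obtain ⟨a⟩ := ha; obtain ⟨b⟩ := hb; exact ⟨a.trans b.symm⟩)

end Cfsg.Agent.S0451
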