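import Cfsg.Statements.S0459
import Cfsg.Agent.Rud.Simple

set_option autoImplicit false
open Cfsg

namespace Cfsg.Agent.S0459

open Cfsg.Agent.Rud in
/-- The Rudvalis group exists as a transitive permutation group of degree 4060: simple of order 145926144000, with point stabiliser of order 35942400 containing a simple subgroup of order 17971200 (the order of the Tits group). -/
theorem result : ∃ H : Subgroup (Equiv.Perm (Fin 4060)), Cfsg.IsRu H ∧ MulAction.IsPretransitive H (Fin 4060) ∧ Nat.card (MulAction.stabilizer H (0 : Fin 4060)) = 35942400 ∧ ∃ T : Subgroup (MulAction.stabilizer H (0 : Fin 4060)), Cfsg.IsTits T := by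
  have hT : ∀ g ∈ Tgrp, ∃ hg : g ∈ Hgrp,
      (⟨g, hg⟩ : ↥Hgrp) ∈ MulAction.stabilizer ↥Hgrp (0 : Fin 4060) := fun g hg =>
    ⟨Tgrp_le_Hgrp hg, (Tgrp_le_S0 hg).2 0 (by simp)⟩
  refine ⟨Hgrp, ⟨isSimple_Hgrp, card_Hgrp⟩, Hgrp_transitive, card_stab,
    (Tgrp.subgroupOf Hgrp).subgroupOf _, ?_⟩
  have e := ((Subgroup.subgroupOfEquivOfLe (H := Tgrp.subgroupOf Hgrp)
    (K := MulAction.stabilizer ↥Hgrp (0 : Fin 4060))
    fun g hg => (hT _ hg).2).trans (Subgroup.subgroupOfEquivOfLe Tgrp_le_Hgrp))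
  have := isSimple_Tgrp
  exact ⟨e.isSimpleGroup, (Nat.card_congr e.toEquiv).trans card_Tgrp.1⟩

end Cfsg.Agent.S0459
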