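import Cfsg.Statements.S0461
import Cfsg.Agent.J4Rep.Linear
import Cfsg.Agent.S1703

set_option autoImplicit false
open Cfsg

namespace Cfsg.Agent.S0461

/-- Janko's fourth group exists as a group of 112 × 112 matrices over the field with two elements: GL(112, 2) has a simple subgroup of order 86775571046077562880. -/
theorem result : ∃ H : Subgroup (GL (Fin 112) (ZMod 2)), Cfsg.IsJ4 H := by
  have h : Cfsg.IsJ4 Cfsg.Spor.J4 := Cfsg.Agent.S1703.result
  have hi := Cfsg.Agent.J4Rep.rhoGL_injective h.1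
  have e : Cfsg.Spor.J4 ≃* Cfsg.Agent.J4Rep.rhoGL.range := MonoidHom.ofInjective hi
  exact ⟨Cfsg.Agent.J4Rep.rhoGL.range, @MulEquiv.isSimpleGroup _ _ _ _ h.1 e.symm,
    (Nat.card_congr e.toEquiv).symm.trans h.2⟩

end Cfsg.Agent.S0461
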