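import Cfsg.Statements.S0462
import Cfsg.Agent.CosetCert.Sp44.InHe

set_option autoImplicit false
open Cfsg

namespace Cfsg.Agent.S0462

/-- The Held group exists as a transitive permutation group of degree 2058: simple of order 4030387200, with point stabiliser containing, with index 2, a copy of the 4-dimensional symplectic group over the field with four elements. -/
theorem result : ∃ H : Subgroup (Equiv.Perm (Fin 2058)), Cfsg.IsHe H ∧ MulAction.IsPretransitive H (Fin 2058) ∧ ∃ (F : Type) (_ : Field F) (_ : Fintype F), Fintype.card F = 4 ∧ ∃ N : Subgroup (MulAction.stabilizer H (0 : Fin 2058)), N.index = 2 ∧ Nonempty (N ≃* Matrix.symplecticGroup (Fin 2) F) := by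
  obtain ⟨φ, π, hπ, hfwd⟩ := CosetCert.Data.enumeration CosetCert.HeSp44.valid CosetCert.HeSp44.spells
  have hφ : Function.Injective φ :=
    (CosetCert.Data.order_eq CosetCert.HeSp44.valid CosetCert.HeSp44.spells φ hfwd
      CosetCert.HeOrder.card_bound.1 CosetCert.HeOrder.card_bound.2
      CosetCert.HeOrder.levels CosetCert.HeOrder.levels_ok (by decide +kernel)).1
  let H : Subgroup (Equiv.Perm (Fin 2058)) := φ.range
  let eH : PresentedGroup CosetCert.Sp44.HeRels ≃* H := MonoidHom.ofInjective hφ
  have hcard : Nat.card H = 4030387200 :=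
    (Nat.card_congr eH.toEquiv).symm.trans CosetCert.HeOrder.order_and_simple.2
  have : IsSimpleGroup (PresentedGroup CosetCert.Sp44.HeRels) := CosetCert.HeOrder.order_and_simple.1
  have : Nontrivial H := eH.toEquiv.symm.nontrivial
  have hsimple : IsSimpleGroup H := IsSimpleGroup.isSimpleGroup_of_surjective eH.toMonoidHom eH.surjective
  have hpre : MulAction.IsPretransitive H (Fin 2058) := by
    constructor
    intro x y
    obtain ⟨a, ha⟩ := QuotientGroup.mk_surjective (π x)
    obtain ⟨b, hb⟩ := QuotientGroup.mk_surjective (π y)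
    refine ⟨eH (b * a⁻¹), π.injective ?_⟩
    show π (φ (b * a⁻¹) x) = π y
    refine (hπ _ x).trans ?_
    rw [← ha, ← hb]
    show ((b * a⁻¹ * a : PresentedGroup CosetCert.Sp44.HeRels) :
      PresentedGroup CosetCert.Sp44.HeRels ⧸ CosetCert.Sp44.heSub) = _
    rw [inv_mul_cancel_right]
  obtain ⟨ψ, hinj, hle⟩ := CosetCert.Sp44.exists_embed
  obtain ⟨e⟩ := CosetCert.Sp44.exists_iso
  have hmem : ∀ g, eH.toMonoidHom (ψ g) ∈ MulAction.stabilizer H (0 : Fin 2058) := fun g =>
    (CosetCert.Data.apply_base_iff CosetCert.HeSp44.valid CosetCert.HeSp44.spells φ π hπ hfwd _).2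
      (hle ⟨g, rfl⟩)
  let ψ' : CosetCert.Sp44.P →* MulAction.stabilizer H (0 : Fin 2058) :=
    (eH.toMonoidHom.comp ψ).codRestrict _ hmem
  have hinj' : Function.Injective ψ' := fun a b h => hinj (eH.injective (congrArg Subtype.val h))
  have hstab : Nat.card (MulAction.stabilizer H (0 : Fin 2058)) = 1958400 := by
    have h := Subgroup.card_mul_index (MulAction.stabilizer H (0 : Fin 2058))
    rw [MulAction.index_stabilizer_of_transitive, Nat.card_fin, hcard] at h
    exact Nat.eq_of_mul_eq_mul_right (by norm_num : 0 < 2058) (h.trans (by norm_num))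
  exact ⟨H, ⟨hsimple, hcard⟩, hpre, ThreeTrans.SU32.F4, inferInstance, inferInstance,
    ThreeTrans.SU32.F4.card_eq, ψ'.range, CosetCert.Sp44.index_range ψ' hinj' hstab,
    ⟨(MonoidHom.ofInjective hinj').symm.trans e⟩⟩

end Cfsg.Agent.S0462
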