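import Cfsg.Statements.S0473
import Cfsg.Agent.Fi24.Held
-- import your own Cfsg.Agent.* helpers here

set_option autoImplicit false
open Cfsg

namespace Cfsg.Agent.S0473

/-- The largest Fischer 3-transposition group: a group of order 2 · 1255205709190661721292800 generated by a conjugacy class of 306936 3-transpositions, in which a transposition centraliser has order 2 · 4089470473293004800 and contains a simple subgroup of order 4089470473293004800; its subgroup of index 2 is simple and contains simple subgroups of orders 4089470473293004800 and 4030387200. -/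
theorem result : ∃ (G : Type) (_ : Group G) (_ : Finite G), Nat.card G = 2 * 1255205709190661721292800 ∧ ∃ D : Set G, Cfsg.IsThreeTranspositionClass D ∧ Nat.card D = 306936 ∧ (∀ d ∈ D, Nat.card (Subgroup.centralizer ({d} : Set G)) = 2 * 4089470473293004800 ∧ ∃ K : Subgroup G, K ≤ Subgroup.centralizer ({d} : Set G) ∧ Cfsg.IsFi23 K) ∧ ∃ H : Subgroup G, H.index = 2 ∧ Cfsg.IsFi24' H ∧ (∃ K : Subgroup H, Cfsg.IsFi23 K) ∧ (∃ K : Subgroup H, Cfsg.IsHe K) := by
  open Cfsg.Agent.Fi24 in
  refine ⟨G, inferInstance, inferInstance, card_G, D, three_class, card_D, fun d hd => ?_,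
    sign.ker, index_ker, ⟨ker_simple, card_ker⟩, ?_, ?_⟩
  · obtain ⟨g, rfl⟩ := Cfsg.Agent.Fi24.mem_D.1 hd
    open Cfsg.Agent.Fi24 in
    have e : Subgroup.centralizer ({g * L * g⁻¹} : Set G) = H.map (MulAut.conj g).toMonoidHom := by
      rw [← centralizer_L]
      ext x
      rw [Subgroup.mem_map, Subgroup.mem_centralizer_singleton_iff]
      constructor
      · intro hx
        refine ⟨g⁻¹ * x * g, Subgroup.mem_centralizer_singleton_iff.2 ?_, by simp [mul_assoc]⟩
        calc g⁻¹ * x * g * L = g⁻¹ * (x * (g * L * g⁻¹)) * g := by simp [mul_assoc]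
          _ = g⁻¹ * (g * L * g⁻¹ * x) * g := by rw [hx]
          _ = L * (g⁻¹ * x * g) := by simp [mul_assoc]
      · rintro ⟨y, hy, rfl⟩
        have hy' := Subgroup.mem_centralizer_singleton_iff.1 hy
        show g * y * g⁻¹ * (g * L * g⁻¹) = g * L * g⁻¹ * (g * y * g⁻¹)
        simp only [mul_assoc, inv_mul_cancel_left]
        rw [← mul_assoc y, hy', mul_assoc]
    open Cfsg.Agent.Fi24 in
    refine ⟨?_, ξ.range.map (MulAut.conj g).toMonoidHom, ?_, ?_⟩
    · rw [e, Subgroup.card_map_of_injective (MulAut.conj g).injective]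
      exact Cfsg.Agent.Fi24.card_H
    · rw [e]
      exact Subgroup.map_mono (Cfsg.Agent.Fi24.ξ_range.trans inf_le_left)
    · let f := Cfsg.Agent.Fi24.ξ.range.equivMapOfInjective (MulAut.conj g).toMonoidHom
        (MulAut.conj g).injective
      haveI := Cfsg.Agent.Fi24.isFi23_range.1
      haveI : Nontrivial (Cfsg.Agent.Fi24.ξ.range.map (MulAut.conj g).toMonoidHom) :=
        f.symm.toEquiv.nontrivial
      exact ⟨IsSimpleGroup.isSimpleGroup_of_surjective (f := f.toMonoidHom) f.surjective,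
        (Nat.card_congr f.toEquiv).symm.trans Cfsg.Agent.Fi24.isFi23_range.2⟩
  · refine ⟨Cfsg.Agent.Fi24.ξ.range.subgroupOf Cfsg.Agent.Fi24.sign.ker, ?_⟩
    let f := Subgroup.subgroupOfEquivOfLe
      (Cfsg.Agent.Fi24.ξ_range.trans inf_le_right : Cfsg.Agent.Fi24.ξ.range ≤ _)
    haveI := Cfsg.Agent.Fi24.isFi23_range.1
    haveI := f.toEquiv.nontrivial
    exact ⟨IsSimpleGroup.isSimpleGroup_of_surjective (f := f.symm.toMonoidHom) f.symm.surjective,
      (Nat.card_congr f.toEquiv).trans Cfsg.Agent.Fi24.isFi23_range.2⟩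
  · have hle : Cfsg.Agent.Fi24.heHom.range ≤ Cfsg.Agent.Fi24.sign.ker := by
      rintro _ ⟨x, rfl⟩; exact Cfsg.Agent.Fi24.heHom_even x
    refine ⟨Cfsg.Agent.Fi24.heHom.range.subgroupOf Cfsg.Agent.Fi24.sign.ker, ?_⟩
    let f := Subgroup.subgroupOfEquivOfLe hle
    haveI := Cfsg.Agent.Fi24.isHe_range.1
    haveI := f.toEquiv.nontrivial
    exact ⟨IsSimpleGroup.isSimpleGroup_of_surjective (f := f.symm.toMonoidHom) f.symm.surjective,
      (Nat.card_congr f.toEquiv).trans Cfsg.Agent.Fi24.isHe_range.2⟩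

end Cfsg.Agent.S0473
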