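import Cfsg.Statements.S0478
import Cfsg.Agent.JankoThree.Unitary
import Cfsg.Agent.JankoThree.Sub

set_option autoImplicit false
open Cfsg
open scoped Pointwise

namespace Cfsg.Agent.S0478

/-- A triple cover of Janko's third group inside a unitary group: for a field F with four elements, the special unitary group of dimension 9 (with respect to the form with q = 2) has a subgroup whose centre has order 3 and whose quotient by its centre is simple of order 50232960. -/
theorem result : ∃ (F : Type) (_ : Field F) (_ : Fintype F), Fintype.card F = 4 ∧ ∃ H : Subgroup (Cfsg.SU 9 F 2), Nat.card (Subgroup.center H) = 3 ∧ Cfsg.IsJ3 (H ⧸ Subgroup.center H) := by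
  obtain ⟨F, _, _, ω, hF, hω⟩ := JankoThree.exists_field
  have hr := JankoThree.Root.of_card hF hω
  refine ⟨F, inferInstance, inferInstance, hF, (JankoThree.toSU hr).range, ?_⟩
  let iso := MonoidHom.ofInjective (JankoThree.toSU_injective hr)
  have hZ : (Subgroup.center ↥(Cfsg.Spor.threeJ3 F ω)).map iso.toMonoidHom = Subgroup.center _ :=
    le_antisymm
      (by
        rintro _ ⟨a, ha, rfl⟩
        rw [Subgroup.mem_center_iff]
        intro y
        obtain ⟨b, rfl⟩ := iso.surjective y
        exact ((map_mul iso b a).symm.trans (congrArg iso (Subgroup.mem_center_iff.mp ha b))).trans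
          (map_mul iso a b))
      (fun y hy => by
        obtain ⟨a, rfl⟩ := iso.surjective y
        refine ⟨a, Subgroup.mem_center_iff.mpr fun b => iso.injective ?_, rfl⟩
        rw [map_mul, map_mul]
        exact Subgroup.mem_center_iff.mp hy (iso b))
  have hq := QuotientGroup.congr (Subgroup.center ↥(Cfsg.Spor.threeJ3 F ω)) (Subgroup.center _) iso hZ
  refine ⟨?_, ?_, ?_⟩
  · rw [← hZ, Subgroup.card_map_of_injective (f := iso.toMonoidHom) iso.injective,
      JankoThree.card_center hr]
  · have := JankoThree.isSimple_J3 hr
    exact hq.symm.isSimpleGroup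
  · rw [← Nat.card_congr hq.toEquiv, ← JankoThree.card_J3 hr]

end Cfsg.Agent.S0478
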