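import Cfsg.Statements.S0481
import Mathlib.GroupTheory.Sylow

set_option autoImplicit false
open Cfsg

namespace Cfsg.Agent.S0481

/-- Large extraspecial subgroups: let z be an involution of a finite group G whose centraliser C contains a normal 2-subgroup Q with centre of order 2 and all squares central, such that every element of G centralising Q lies in Q. Then C contains a Sylow 2-subgroup of G, and any involution of G whose centraliser contains a Sylow 2-subgroup of G is conjugate to z. -/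
theorem result {G : Type*} [Group G] [Finite G] (z : G) (hz : orderOf z = 2) (Q : Subgroup G) (hQC : Q ≤ Subgroup.centralizer ({z} : Set G)) (hQn : ∀ g ∈ Subgroup.centralizer ({z} : Set G), ∀ q ∈ Q, g * q * g⁻¹ ∈ Q) (hQ2 : IsPGroup 2 Q) (hZ : Nat.card (Subgroup.center Q) = 2) (hsq : ∀ x : Q, x ^ 2 ∈ Subgroup.center Q) (hlarge : Subgroup.centralizer (Q : Set G) ≤ Q) : (∃ P : Sylow 2 G, (P : Subgroup G) ≤ Subgroup.centralizer ({z} : Set G)) ∧ ∀ u : G, orderOf u = 2 → (∃ P : Sylow 2 G, (P : Subgroup G) ≤ Subgroup.centralizer ({u} : Set G)) → IsConj z u := by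
  have : Fact (Nat.Prime 2) := ⟨Nat.prime_two⟩
  set C := Subgroup.centralizer ({z} : Set G) with hCdef
  have hz1 : z ≠ 1 := fun e => by rw [e, orderOf_one] at hz; omega
  have hzQ : z ∈ Q := hlarge (Subgroup.mem_centralizer_iff.2 fun q hq =>
    Subgroup.mem_centralizer_singleton_iff.1 (hQC hq))
  have hcen : ∀ u, u ∈ Subgroup.centralizer (Q : Set G) → u = 1 ∨ u = z := by
    intro u hu
    have hw : ∀ v (hvQ : v ∈ Q), v ∈ Subgroup.centralizer (Q : Set G) → (⟨v, hvQ⟩ : Q) ∈ Subgroup.center Q :=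
      fun v hvQ hv => Subgroup.mem_center_iff.2 fun q => Subtype.ext (Subgroup.mem_centralizer_iff.1 hv q q.2)
    obtain ⟨x, y, hxy, hall⟩ := Nat.card_eq_two_iff.1 hZ
    have hall' : ∀ v : Subgroup.center Q, v = x ∨ v = y := fun v => by
      have := Set.eq_univ_iff_forall.1 hall v; simpa using this
    let Z1 : Subgroup.center Q := 1
    let Zz : Subgroup.center Q := ⟨⟨z, hzQ⟩, hw z hzQ (Subgroup.mem_centralizer_iff.2 fun q hq =>
      Subgroup.mem_centralizer_singleton_iff.1 (hQC hq))⟩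
    let Zu : Subgroup.center Q := ⟨⟨u, hlarge hu⟩, hw u (hlarge hu) hu⟩
    have hne : Zz ≠ Z1 := fun e => hz1 (congrArg (fun v : Subgroup.center Q => ((v : Q) : G)) e)
    have : Zu = Z1 ∨ Zu = Zz := by
      rcases hall' Zu with h | h <;> rcases hall' Z1 with h1 | h1 <;> rcases hall' Zz with h2 | h2 <;>
        first
          | exact absurd (h2.trans h1.symm) hne
          | exact Or.inl (h.trans h1.symm)
          | exact Or.inr (h.trans h2.symm)
    exact this.imp (fun e => congrArg (fun v : Subgroup.center Q => ((v : Q) : G)) e)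
      (fun e => congrArg (fun v : Subgroup.center Q => ((v : Q) : G)) e)
  have hQ' : IsPGroup 2 (Q.subgroupOf C) :=
    hQ2.of_equiv (Subgroup.subgroupOfEquivOfLe hQC).symm
  have : (Q.subgroupOf C).Normal :=
    ⟨fun q hq c => by
      rw [Subgroup.mem_subgroupOf] at hq ⊢
      simpa using hQn c c.2 q hq⟩
  obtain ⟨T, hT⟩ := hQ'.exists_le_sylow
  set T' := (T : Subgroup C).map C.subtype with hT'
  have hT'p : IsPGroup 2 T' := T.2.map _
  obtain ⟨S, hTS⟩ := hT'p.exists_le_sylow
  have hQT : Q ≤ T' := fun q hq => ⟨⟨q, hQC hq⟩, hT hq, rfl⟩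
  have hzT : z ∈ T' := hQT hzQ
  have hS : (S : Subgroup G) ≤ C := by
    set N := ((S : Subgroup G) ⊓ Subgroup.normalizer (T' : Set G)) with hN
    have hNC : N ≤ C := by
      intro g hg
      have hgz : g * z * g⁻¹ ∈ Subgroup.centralizer (Q : Set G) := by
        refine Subgroup.mem_centralizer_iff.2 fun q hq => ?_
        have hn := (Subgroup.mem_normalizer_iff.1 hg.2 (g⁻¹ * q * g)).2 (by
          rw [show g * (g⁻¹ * q * g) * g⁻¹ = q by group]; exact hQT hq)
        obtain ⟨c, -, hc⟩ := hn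
        have h1 := Subgroup.mem_centralizer_singleton_iff.1 c.2
        rw [show (c : G) = g⁻¹ * q * g from hc] at h1
        calc q * (g * z * g⁻¹) = g * (g⁻¹ * q * g * z) * g⁻¹ := by group
          _ = g * (z * (g⁻¹ * q * g)) * g⁻¹ := by rw [h1]
          _ = g * z * g⁻¹ * q := by group
      rcases hcen _ hgz with h | h
      · exact absurd (conj_eq_one_iff.1 h) hz1
      · exact Subgroup.mem_centralizer_singleton_iff.2 (mul_inv_eq_iff_eq_mul.1 h)
    by_contra hnot
    have hlt : T' < (S : Subgroup G) := lt_of_le_of_ne hTS fun e => hnot (e ▸ Subgroup.map_subtype_le _)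
    have := S.2.isNilpotent
    have hne : T'.subgroupOf (S : Subgroup G) < ⊤ :=
      lt_top_iff_ne_top.2 fun e => hlt.not_ge (Subgroup.subgroupOf_eq_top.1 e)
    obtain ⟨⟨g, hgS⟩, hgn, hgT⟩ := SetLike.exists_of_lt (Group.normalizerCondition_of_isNilpotent _ hne)
    have hgN : g ∈ N := by
      refine ⟨hgS, Subgroup.mem_normalizer_iff.2 fun v => ⟨fun hv => ?_, fun hv => ?_⟩⟩
      · exact (Subgroup.mem_normalizer_iff.1 hgn ⟨v, hTS hv⟩).1 hv
      · have hvS : v ∈ (S : Subgroup G) := by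
          have := mul_mem (mul_mem (inv_mem hgS) (hTS hv)) hgS
          rwa [show g⁻¹ * (g * v * g⁻¹) * g = v by group] at this
        exact (Subgroup.mem_normalizer_iff.1 hgn ⟨v, hvS⟩).2 hv
    have hTN : T' ≤ N := le_inf hTS Subgroup.le_normalizer
    have hNp : IsPGroup 2 (N.subgroupOf C) :=
      (S.2.to_le inf_le_left).of_equiv (Subgroup.subgroupOfEquivOfLe hNC).symm
    have hmax := T.3 hNp fun c hc => hTN ⟨c, hc, rfl⟩
    exact hgT ⟨⟨g, hNC hgN⟩, hmax ▸ hgN, rfl⟩
  refine ⟨⟨S, hS⟩, fun u hu ⟨P, hP⟩ => ?_⟩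
  obtain ⟨g, hg⟩ := MulAction.exists_smul_eq G P S
  refine (isConj_iff.2 ⟨g, ?_⟩ : IsConj u z).symm
  have hu' : g * u * g⁻¹ ∈ Subgroup.centralizer (Q : Set G) := by
    refine Subgroup.mem_centralizer_iff.2 fun q hq => ?_
    have hq' : q ∈ (g • P : Sylow 2 G) := by rw [hg]; exact hTS (hQT hq)
    change q ∈ (g • P : Sylow 2 G).toSubgroup at hq'
    rw [Sylow.coe_subgroup_smul] at hq'
    obtain ⟨p, hp, rfl⟩ := hq'
    have h1 := Subgroup.mem_centralizer_singleton_iff.1 (hP hp)
    show g * p * g⁻¹ * (g * u * g⁻¹) = g * u * g⁻¹ * (g * p * g⁻¹)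
    calc g * p * g⁻¹ * (g * u * g⁻¹) = g * (p * u) * g⁻¹ := by group
      _ = g * (u * p) * g⁻¹ := by rw [h1]
      _ = g * u * g⁻¹ * (g * p * g⁻¹) := by group
  exact (hcen _ hu').resolve_left fun h => by
    rw [conj_eq_one_iff] at h; rw [h, orderOf_one] at hu; omega

end Cfsg.Agent.S0481
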