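import Cfsg.Statements.S0498
import Cfsg.Agent.SmallOrder.RecogPSL
-- import your own Cfsg.Agent.* helpers here

set_option autoImplicit false
open Cfsg

namespace Cfsg.Agent.S0498

open Cfsg.Agent.SmallOrder

theorem base11 : RecogPSL.Base 11 5 3 2 := by decide +kernel

theorem check11 : RecogPSL.Check 11 5 3 2 := by decide +kernel

theorem divisors11 : ∀ n : ℕ, n < 5 * (11 + 1) + 1 → n ∣ 5 * (11 + 1) → n % 11 = 1 →
    n = 1 ∨ n = 11 + 1 := by decide +kernel

theorem base13 : RecogPSL.Base 13 6 4 2 := by decide +kernel

theorem check13 : RecogPSL.Check 13 6 4 2 := by decide +kernel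

theorem divisors13 : ∀ n : ℕ, n < 6 * (13 + 1) + 1 → n ∣ 6 * (13 + 1) → n % 13 = 1 →
    n = 1 ∨ n = 13 + 1 := by decide +kernel

/-- A simple group of order 660, respectively 1092, is isomorphic to the projective special linear group of dimension 2
over the field with 11, respectively 13, elements. -/
theorem result {G : Type*} [Group G] [Finite G] [IsSimpleGroup G] (p : ℕ)
    (hp : p = 11 ∨ p = 13) (h : 2 * Nat.card G = p * (p ^ 2 - 1)) {F : Type*} [Field F] [Fintype F]
    (hF : Fintype.card F = p) : Nonempty (G ≃* Matrix.ProjectiveSpecialLinearGroup (Fin 2) F) := by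
  rcases hp with rfl | rfl
  · have : Fact (Nat.Prime 11) := ⟨by norm_num⟩
    exact RecogPSL.iso_psl (p := 11) (m := 5) (by norm_num) (by norm_num) base11 check11
      (by omega) divisors11 hF
  · have : Fact (Nat.Prime 13) := ⟨by norm_num⟩
    exact RecogPSL.iso_psl (p := 13) (m := 6) (by norm_num) (by norm_num) base13 check13
      (by omega) divisors13 hF

end Cfsg.Agent.S0498
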