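import Cfsg.Statements.S0499
import Cfsg.Agent.SmallSimple.Basic

set_option autoImplicit false
open Cfsg

namespace Cfsg.Agent.S0499

/-- A non-abelian finite simple group of even order has order divisible by 12, 16 or 56. -/
theorem result {G : Type*} [Group G] [Finite G] [IsSimpleGroup G]
    (hG : ¬ IsMulCommutative G) (h2 : Even (Nat.card G)) :
    12 ∣ Nat.card G ∨ 16 ∣ Nat.card G ∨ 56 ∣ Nat.card G := by
  have : Fact (Nat.Prime 2) := ⟨Nat.prime_two⟩
  obtain ⟨P⟩ := (inferInstance : Nonempty (Sylow 2 G))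
  obtain ⟨k, hk⟩ := IsPGroup.iff_card.1 P.isPGroup'
  have hdvd : 2 ^ k ∣ Nat.card G := hk ▸ Subgroup.card_subgroup_dvd_card _
  rcases le_or_gt 4 k with h4 | h4
  · exact Or.inr (Or.inl ((Nat.pow_dvd_pow 2 h4).trans hdvd))
  have hk1 : 1 ≤ k := by
    by_contra h
    have h1 : Nat.card ↥(P : Subgroup G) = 1 := by rw [hk, show k = 0 by omega, pow_zero]
    have := P.dvd_card_of_dvd_card (even_iff_two_dvd.1 h2)
    rw [h1] at this
    exact absurd this (by norm_num)
  rcases SmallSimple.small_sylow P hk hk1 (by omega) (SmallSimple.sylow_two_ne_top hG P) with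
    ⟨h3, h⟩ | ⟨h7, h⟩
  · exact Or.inl (Nat.Coprime.mul_dvd_of_dvd_of_dvd (m := 4) (n := 3) (by norm_num)
      ((Nat.pow_dvd_pow 2 h).trans hdvd) h3)
  · subst h
    exact Or.inr (Or.inr (Nat.Coprime.mul_dvd_of_dvd_of_dvd (m := 8) (n := 7) (by norm_num) hdvd h7))

end Cfsg.Agent.S0499
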