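import Cfsg.Statements.S0502
import Cfsg.Agent.RankChain.Basic

set_option autoImplicit false
open Cfsg

namespace Cfsg.Agent.S0502

open Subgroup

/-- If a finite 2-group has a normal elementary abelian subgroup of order at least 8, then any two of its Klein
four-subgroups are joined by a chain of Klein four-subgroups with consecutive members commuting elementwise. -/
theorem result {P : Type*} [Group P] [Finite P] (hP : IsPGroup 2 P)
    (E : Subgroup P) [E.Normal] (hE : IsMulCommutative E) (hE2 : ∀ e ∈ E, e ^ 2 = 1) (hE8 : 8 ≤ Nat.card E) :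
    Cfsg.IsFourConnected P := by
  have conv : ∀ U : Subgroup P, IsKleinFour U → IsElementaryAbelian 2 U ∧ Nat.card U = 2 ^ 2 := by
    intro U hU
    haveI := hU
    refine ⟨Thompson.ea_iff.2 ⟨fun a ha => mem_centralizer_iff.2 fun b hb => ?_, fun a ha => ?_⟩,
      hU.card_four⟩
    · have h := mul_comm_of_exponent_two hU.exponent_two (⟨b, hb⟩ : U) ⟨a, ha⟩
      exact congrArg Subtype.val h
    · have h := Monoid.pow_exponent_eq_one (⟨a, ha⟩ : U)
      rw [hU.exponent_two] at h
      exact congrArg Subtype.val h
  have back : ∀ U : Subgroup P, IsElementaryAbelian 2 U → Nat.card U = 2 ^ 2 → IsKleinFour U := by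
    intro U hU h4
    refine ⟨h4, ?_⟩
    haveI : Nontrivial U := Finite.one_lt_card_iff_nontrivial.1 (by rw [h4]; norm_num)
    exact (Monoid.exponent_eq_prime_iff Nat.prime_two).2 fun g hg =>
      orderOf_eq_prime (Subtype.ext (hU.2 _ g.2)) hg
  intro U V hU hV
  have hEe : IsElementaryAbelian 2 E := ⟨hE, hE2⟩
  have h := RankChain.connected hEe (n := 2) (m := 3) hE8 (by decide) (conv U hU).1 (conv U hU).2 (conv V hV).1 (conv V hV).2
  clear hV
  induction h with
  | refl => exact Relation.ReflTransGen.refl
  | tail _ h ih => exact ih.tail ⟨back _ h.1.1 h.1.2, back _ h.2.1.1 h.2.1.2, h.2.2⟩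

end Cfsg.Agent.S0502
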