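import Cfsg.Statements.S0514
import Cfsg.Agent.Fusion.Frobenius

set_option autoImplicit false
open Cfsg

namespace Cfsg.Agent.S0514

set_option maxHeartbeats 400000
open Subgroup

theorem r_mem {n : ℕ} (i : ZMod n) :
    DihedralGroup.r i ∈ zpowers (DihedralGroup.r 1 : DihedralGroup n) := by
  obtain ⟨k, rfl⟩ := ZMod.intCast_surjective i
  exact ⟨k, DihedralGroup.r_one_zpow k⟩

theorem sq_of_not_mem {n : ℕ} {d : DihedralGroup n}
    (h : d ∉ zpowers (DihedralGroup.r 1 : DihedralGroup n)) : d * d = 1 := by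
  cases d with
  | r i => exact absurd (r_mem i) h
  | sr i => exact DihedralGroup.sr_mul_self i

theorem mul_mem_of_not_mem {n : ℕ} {d e : DihedralGroup n}
    (h : d ∉ zpowers (DihedralGroup.r 1 : DihedralGroup n))
    (h' : e ∉ zpowers (DihedralGroup.r 1 : DihedralGroup n)) :
    d * e ∈ zpowers (DihedralGroup.r 1 : DihedralGroup n) := by
  cases d with
  | r i => exact absurd (r_mem i) h
  | sr i => cases e with
    | r j => exact absurd (r_mem j) h'
    | sr j => rw [DihedralGroup.sr_mul_sr]; exact r_mem _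

theorem mem_centralizer_of_cyclic {X : Type*} [Group X] [Finite X] {C : Subgroup X}
    (hC : IsPGroup 2 C) [IsCyclic C] {g : X} (hg : g ∈ normalizer (C : Set X))
    (hgo : Nat.Coprime (orderOf g) 2) : ∀ x ∈ C, g * x * g⁻¹ = x := by
  intro x hx
  set φ : MulAut C := C.normalizerMonoidHom ⟨g, hg⟩ with hφ
  obtain ⟨a, ha⟩ := IsPGroup.iff_card.mp hC
  have h1 : orderOf φ ∣ Nat.totient (2 ^ a) := by
    rw [← ha, ← IsCyclic.card_mulAut]; exact orderOf_dvd_natCard φ
  have h2 : orderOf φ ∣ orderOf g :=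
    (orderOf_map_dvd C.normalizerMonoidHom _).trans (by rw [Subgroup.orderOf_mk])
  have h3 : orderOf φ ∣ 2 ^ a := by
    rcases a with _ | a
    · simpa using h1
    · rw [Nat.totient_prime_pow_succ Nat.prime_two] at h1
      exact h1.trans (by rw [pow_succ]; exact Nat.mul_dvd_mul_left _ (by norm_num))
  have h4 : φ = 1 :=
    orderOf_eq_one_iff.mp (Nat.eq_one_of_dvd_coprimes (hgo.pow_right a) h2 h3)
  exact congrArg (fun f : MulAut C => ((f ⟨x, hx⟩ : C) : X)) h4

theorem mem_centralizer_of_chain {X : Type*} [Group X] [Finite X] {Q C : Subgroup X}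
    (hQ : IsPGroup 2 Q) (hCQ : C ≤ Q) {g : X}
    (hgo : Nat.Coprime (orderOf g) 2) (hfix : ∀ x ∈ C, g * x * g⁻¹ = x)
    (hmod : ∀ y ∈ Q, g * y * g⁻¹ * y⁻¹ ∈ C) : g ∈ centralizer (Q : Set X) := by
  rw [mem_centralizer_iff]
  intro y hy
  obtain ⟨z, hz⟩ : ∃ z, z = g * y * g⁻¹ * y⁻¹ := ⟨_, rfl⟩
  have hzC : z ∈ C := hz ▸ hmod y hy
  have hfz := hfix z hzC
  have hcz : Commute g z := by
    show g * z = z * g
    calc g * z = g * z * g⁻¹ * g := by group
      _ = z * g := by rw [hfz]
  have hpow : ∀ j : ℕ, g ^ j * y * (g ^ j)⁻¹ = z ^ j * y := by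
    intro j
    induction j with
    | zero => simp
    | succ j ihj =>
      have h1 : g * z ^ j * g⁻¹ = z ^ j := by rw [(hcz.pow_right j).eq, mul_inv_cancel_right]
      calc g ^ (j + 1) * y * (g ^ (j + 1))⁻¹ = g * (g ^ j * y * (g ^ j)⁻¹) * g⁻¹ := by
            rw [pow_succ']; simp only [mul_inv_rev, mul_assoc]
        _ = g * (z ^ j * y) * g⁻¹ := by rw [ihj]
        _ = (g * z ^ j * g⁻¹) * (g * y * g⁻¹) := by group
        _ = z ^ j * (z * y) := by
            rw [h1, show z * y = g * y * g⁻¹ by rw [hz, inv_mul_cancel_right]]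
        _ = z ^ (j + 1) * y := by rw [pow_succ]; exact (mul_assoc _ _ _).symm
  have h2 := hpow (orderOf g)
  rw [pow_orderOf_eq_one, one_mul, inv_one, mul_one, right_eq_mul] at h2
  obtain ⟨e, he⟩ := IsPGroup.iff_orderOf.mp hQ ⟨z, hCQ hzC⟩
  rw [Subgroup.orderOf_mk] at he
  have h3 : z = 1 := orderOf_eq_one_iff.mp (Nat.eq_one_of_dvd_coprimes
    (hgo.pow_right e) (orderOf_dvd_of_pow_eq_one h2) he.dvd)
  rw [h3, eq_comm, mul_inv_eq_one, mul_inv_eq_iff_eq_mul] at hz
  exact hz.symm

theorem mem_centralizer_of_dihedral {X : Type*} [Group X] [Finite X] {Q : Subgroup X}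
    (hQ : IsPGroup 2 Q) {n : ℕ} (ψ : Q →* DihedralGroup n) (hψ : Function.Injective ψ) {t g : X}
    (ht : t ∈ Q) (hto : orderOf t = 2) (hg : g ∈ normalizer (Q : Set X)) (hgt : g * t = t * g)
    (hgo : Nat.Coprime (orderOf g) 2) : g ∈ centralizer (Q : Set X) := by
  set R := (zpowers (DihedralGroup.r 1 : DihedralGroup n)).comap ψ with hR
  have hsq : ∀ y : Q, y ∉ R → y * y = 1 := fun y hy =>
    hψ (by rw [map_mul, map_one]; exact sq_of_not_mem (fun h => hy h))
  have hprod : ∀ y z : Q, y ∉ R → z ∉ R → y * z ∈ R := fun y z hy hz => by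
    show ψ (y * z) ∈ zpowers (DihedralGroup.r 1 : DihedralGroup n)
    rw [map_mul]
    exact mul_mem_of_not_mem (fun h => hy h) (fun h => hz h)
  have hRidx : R.index ≤ 2 := by
    by_cases h : R = ⊤
    · rw [h, index_top]; norm_num
    · obtain ⟨a, ha⟩ := not_forall.mp fun h' => h ((eq_top_iff' _).mpr h')
      refine le_of_eq (index_eq_two_iff.mpr ⟨a, fun b => ?_⟩)
      by_cases hb : b ∈ R
      · refine Or.inr ⟨hb, fun h1 => ha ?_⟩
        have h2 := mul_mem (inv_mem hb) h1
        rwa [inv_mul_cancel_left] at h2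
      · exact Or.inl ⟨hprod b a hb ha, hb⟩
  haveI : IsCyclic R := isCyclic_of_injective (ψ.subgroupComap (zpowers (DihedralGroup.r 1)))
    (fun a b hab => Subtype.ext (hψ (congrArg Subtype.val hab)))
  set C := R.map Q.subtype with hC
  haveI : IsCyclic C := isCyclic_of_surjective (R.equivMapOfInjective Q.subtype Q.subtype_injective)
    (R.equivMapOfInjective Q.subtype Q.subtype_injective).surjective
  have hCQ : C ≤ Q := map_subtype_le _
  have hgQ : ∀ y ∈ Q, g * y * g⁻¹ ∈ Q := fun y hy => (mem_normalizer_iff.mp hg y).mp hy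
  by_cases hbig : ∃ c : Q, c ∈ R ∧ c * c ≠ 1
  · obtain ⟨c, hcR, hc2⟩ := hbig
    have hgC : g ∈ normalizer (C : Set X) := by
      rw [mem_normalizer_iff_map_conj_eq]
      refine eq_of_le_of_card_ge ?_ (card_map_of_injective (MulAut.conj g).injective).ge
      rintro _ ⟨x, ⟨y, hy, rfl⟩, rfl⟩
      have key : ∀ y : Q, y ∈ R → y * y ≠ 1 → (⟨g * y * g⁻¹, hgQ y y.2⟩ : Q) ∈ R := by
        intro y _ hy2
        by_contra hcon
        refine hy2 ?_
        have h1 := congrArg Subtype.val (hsq _ hcon)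
        simp only [Subgroup.coe_mul, Subgroup.coe_one] at h1
        apply Subtype.ext
        have h2 := congrArg (fun x => g⁻¹ * x * g) h1
        simpa [mul_assoc] using h2
      refine ⟨⟨g * y * g⁻¹, hgQ y y.2⟩, ?_, rfl⟩
      by_cases hy2 : y * y = 1
      · -- `y = (y * c) * c⁻¹`
        have hyc : Commute y c := by
          obtain ⟨w, hw⟩ := IsCyclic.exists_generator (α := R)
          obtain ⟨i, hi⟩ := hw ⟨y, hy⟩
          obtain ⟨j, hj⟩ := hw ⟨c, hcR⟩
          have : Commute (⟨y, hy⟩ : R) ⟨c, hcR⟩ := hi ▸ hj ▸ (Commute.refl w).zpow_zpow i j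
          exact congrArg Subtype.val this.eq
        have h1 := key (y * c) (mul_mem hy hcR) (by
          rw [show y * c * (y * c) = y * y * (c * c) from hyc.symm.mul_mul_mul_comm y c, hy2, one_mul]
          exact hc2)
        have h2 := mul_mem h1 (inv_mem (key c hcR hc2))
        rw [SetLike.mem_coe, show (⟨g * y * g⁻¹, hgQ y y.2⟩ : Q) =
          ⟨g * ((y * c : Q) : X) * g⁻¹, hgQ _ (y * c).2⟩ * ⟨g * c * g⁻¹, hgQ c c.2⟩⁻¹ from
          Subtype.ext (by push_cast; group)]
        exact h2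
      · exact key y hy hy2
    have hfix := mem_centralizer_of_cyclic (hQ.to_le hCQ) hgC hgo
    refine mem_centralizer_of_chain hQ hCQ hgo hfix fun y hy => ?_
    by_cases hyR : (⟨y, hy⟩ : Q) ∈ R
    · rw [hfix y ⟨_, hyR, rfl⟩, mul_inv_cancel]
      exact one_mem _
    · refine ⟨⟨g * y * g⁻¹, hgQ y hy⟩ * ⟨y, hy⟩⁻¹, hprod _ _ ?_ (fun h => hyR (inv_mem_iff.mp h)), rfl⟩
      intro h
      have h1 := (mem_normalizer_iff.mp hgC y).mpr ⟨_, h, rfl⟩
      obtain ⟨w, hw, hwe⟩ := h1
      exact hyR (by rwa [show (⟨y, hy⟩ : Q) = w from Subtype.ext hwe.symm])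
  · have hR2 : Nat.card R ≤ 2 := by
      obtain ⟨w, hw⟩ := IsCyclic.exists_generator (α := R)
      have hgen : zpowers w = ⊤ := (eq_top_iff' _).mpr hw
      rw [← card_top (G := R), ← hgen, Nat.card_zpowers]
      refine Nat.le_of_dvd (by norm_num) (orderOf_dvd_of_pow_eq_one ?_)
      apply Subtype.ext
      rw [pow_two, Subgroup.coe_mul, Subgroup.coe_one]
      by_contra hcon
      exact hbig ⟨w, w.2, hcon⟩
    have hQ4 : Nat.card Q ≤ 4 := by
      rw [← R.card_mul_index]
      exact le_trans (Nat.mul_le_mul hR2 hRidx) (by norm_num)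
    have htQ : zpowers t ≤ Q := zpowers_le.mpr ht
    refine mem_centralizer_of_chain hQ htQ hgo ?_ fun y hy => ?_
    · intro x hx
      obtain ⟨k, rfl⟩ := mem_zpowers_iff.mp hx
      rw [((show Commute g t from hgt).zpow_right k).eq, mul_inv_cancel_right]
    · set T := (zpowers t).subgroupOf Q with hT
      have hTi : T.index ≤ 2 := by
        have h1 := T.card_mul_index
        rw [Nat.card_congr (subgroupOfEquivOfLe htQ).toEquiv, Nat.card_zpowers, hto] at h1
        omega
      by_cases hyT : y ∈ zpowers t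
      · obtain ⟨k, rfl⟩ := mem_zpowers_iff.mp hyT
        rw [((show Commute g t from hgt).zpow_right k).eq, mul_inv_cancel_right, mul_inv_cancel]
        exact one_mem _
      · have hT2 : T.index = 2 := by
          rcases (show T.index = 1 ∨ T.index = 2 by
            have := Nat.pos_of_ne_zero (index_ne_zero_of_finite (H := T)); omega) with h | h
          · exact absurd (subgroupOf_eq_top.mp (index_eq_one.mp h) hy) hyT
          · exact h
        have h1 := (mul_mem_iff_of_index_two hT2 (a := ⟨g * y * g⁻¹, hgQ y hy⟩) (b := ⟨y, hy⟩⁻¹)).mpr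
          (iff_of_false ?_ fun h => hyT (inv_mem_iff.mp h : (⟨y, hy⟩ : Q) ∈ T))
        · exact h1
        · intro h
          obtain ⟨k, hk⟩ := mem_zpowers_iff.mp (mem_subgroupOf.mp h)
          refine hyT ⟨k, ?_⟩
          have h4 : g⁻¹ * t ^ k * g = t ^ k := by
            rw [mul_assoc, ← ((show Commute g t from hgt).zpow_right k).eq, inv_mul_cancel_left]
          show t ^ k = y
          rw [← h4, hk]
          show g⁻¹ * (g * y * g⁻¹) * g = y
          group

/-- In a finite group whose Sylow 2-subgroups are dihedral of order at least 4, the centralizer of any involution has a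
normal subgroup of odd order whose index in the centralizer is a power of 2. -/
theorem result {X : Type*} [Group X] [Finite X]
    (S : Sylow 2 X) (n : ℕ) (hn : 2 ≤ n) (hS : Nonempty ((S : Subgroup X) ≃* DihedralGroup n)) (t : X)
    (ht : orderOf t = 2) :
    ∃ N : Subgroup (Subgroup.centralizer ({t} : Set X)), N.Normal ∧ Odd (Nat.card N) ∧ ∃ k : ℕ, N.index = 2 ^ k := by
  set C := centralizer ({t} : Set X) with hC
  have hC2 : Cfsg.HasNormalPComplement 2 C := by
    refine Fusion.hasNormalPComplement_of_frobenius fun Q hQ g hg hgo => ?_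
    set Q0 := Q.map C.subtype with hQ0
    have htQ0 : ∀ x ∈ Q0, x * t = t * x := by
      rintro _ ⟨x, -, rfl⟩
      exact mem_centralizer_singleton_iff.mp x.2
    have ht2 : IsPGroup 2 (zpowers t) := IsPGroup.of_card (n := 1) (by rw [Nat.card_zpowers, ht, pow_one])
    set Q1 := zpowers t ⊔ Q0 with hQ1
    have hQ0n : Q0 ≤ normalizer (zpowers t : Set X) := by
      refine le_trans (fun x hx => ?_) (centralizer_le_normalizer _)
      refine mem_centralizer_iff.mpr fun y hy => ?_
      obtain ⟨k, rfl⟩ := mem_zpowers_iff.mp hy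
      exact ((show Commute x t from htQ0 x hx).zpow_right k).eq.symm
    have hQ1p : IsPGroup 2 Q1 := ht2.to_sup_of_normal_left' (hQ.map _) hQ0n
    obtain ⟨S', hS'⟩ := hQ1p.exists_le_sylow
    obtain ⟨e⟩ := hS
    let ψ : Q1 →* DihedralGroup n :=
      e.toMonoidHom.comp ((S'.equiv S).toMonoidHom.comp (Subgroup.inclusion hS'))
    have hψ : Function.Injective ψ :=
      e.injective.comp ((S'.equiv S).injective.comp (Subgroup.inclusion_injective hS'))
    have hgt : (g : X) * t = t * g := mem_centralizer_singleton_iff.mp g.2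
    have hgQ1 : (g : X) ∈ normalizer (Q1 : Set X) := by
      refine normalizer_inf_normalizer_le_normalizer_sup _ _ (mem_inf.mpr ⟨?_, ?_⟩)
      · refine centralizer_le_normalizer _ (mem_centralizer_iff.mpr fun y hy => ?_)
        obtain ⟨k, rfl⟩ := mem_zpowers_iff.mp hy
        exact ((show Commute (g : X) t from hgt).zpow_right k).eq.symm
      · rw [mem_normalizer_iff_map_conj_eq] at hg ⊢
        rw [hQ0, Subgroup.map_map]
        conv_rhs => rw [← hg, Subgroup.map_map]
        exact congrArg (Subgroup.map · Q) (MonoidHom.ext fun y => by simp)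
    have hres := mem_centralizer_of_dihedral hQ1p ψ hψ (mem_sup_left (mem_zpowers t)) ht hgQ1 hgt
      (by rwa [Subgroup.orderOf_coe])
    exact mem_centralizer_iff.mpr fun x hx =>
      Subtype.ext (mem_centralizer_iff.mp hres (x : X) (mem_sup_right ⟨x, hx, rfl⟩))
  obtain ⟨N, hN, hNc, k, hk⟩ := Fusion.hasNormalPComplement_iff_exists.mp hC2
  exact ⟨N, hN, Nat.coprime_two_right.mp hNc, k, hk⟩

end Cfsg.Agent.S0514
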