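import Cfsg.Statements.S3757
import Cfsg.Agent.Signalizer.Main

set_option autoImplicit false
open Cfsg

namespace Cfsg.Agent.S3757

/-- Let A and G be subgroups of a finite group with A an elementary abelian p-group of rank at least 3 (order at least p³) normalizing G, and G of order prime to p. If C_G(a) is solvable for every non-identity a ∈ A, then G is solvable. -/
theorem result {X : Type*} [Group X] [Finite X] {p : ℕ} [Fact p.Prime] (A G : Subgroup X) (hA : Cfsg.IsElementaryAbelian p A) (hrank : p ^ 3 ≤ Nat.card A) (hAG : A ≤ Subgroup.normalizer (G : Set X)) (hG : (Nat.card G).Coprime p) (hsol : ∀ a ∈ A, a ≠ 1 → Group.IsSolvable ↥(G ⊓ Subgroup.centralizer ({a} : Set X))) : Group.IsSolvable G := by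
  have hp : p.Prime := Fact.out
  have hG' : ¬ p ∣ Nat.card G := hp.coprime_iff_not_dvd.mp hG.symm
  let θ : X → Subgroup X := fun a => G ⊓ Subgroup.centralizer ({a} : Set X)
  have hθ : Cfsg.IsSolvableSignalizerFunctor p A θ := by
    refine ⟨⟨fun a _ _ => inf_le_right, fun a _ _ h => hG' (h.trans (Subgroup.card_dvd_of_le inf_le_left)),
      fun a ha _ b hb x hx => ⟨(Subgroup.mem_normalizer_iff.mp (hAG hb) x).mp hx.1, ?_⟩,
      fun a _ _ b _ _ x hx => ⟨hx.1.1, hx.2⟩⟩, hsol⟩
    show b * x * b⁻¹ ∈ Subgroup.centralizer {a}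
    rw [Subgroup.mem_centralizer_singleton_iff]
    have hab : Commute b a := Cfsg.Agent.Coprime.ea_comm hA hb ha
    have hxa : Commute x a := Subgroup.mem_centralizer_singleton_iff.mp hx.2
    exact ((hab.mul_left hxa).mul_left hab.inv_left).eq
  have hle : G ≤ Cfsg.signalizerClosure A θ :=
    Cfsg.Agent.Coprime.ea_le_of_centralizers_le hA
      ((Nat.pow_le_pow_right hp.pos (by norm_num)).trans hrank) hG' hAG
      fun a ha ha1 => le_iSup (fun b : {b : X // b ∈ A ∧ b ≠ 1} => θ b) ⟨a, ha, ha1⟩
  exact Cfsg.Agent.Coprime.isSolvable_of_le hle (Cfsg.Agent.Signalizer.closure_isSolvable hA hrank hθ)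

end Cfsg.Agent.S3757
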