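import Cfsg.Statements.S1238
import Cfsg.Agent.Rank2Fus.GroupInst
import Cfsg.Agent.S1237

set_option autoImplicit false
open Cfsg

namespace Cfsg.Agent.S1238

/-- Let G be a finite group of 2-rank 2 (a Klein four-subgroup but no elementary abelian subgroup of order 8) which is fusion simple: G has no subgroup of index 2 and no isolated involution. Let S be a Sylow 2-subgroup. Then S is dihedral, quasi-dihedral, wreathed, isomorphic to Z_{2^n} × Z_{2^n} for some n ≥ 2, or isomorphic to a Sylow 2-subgroup of PSU(3) over the field with 16 elements. -/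
theorem result {G : Type*} [Group G] [Finite G] (h2 : Cfsg.PRankLE 2 2 G) (h1 : ¬ Cfsg.PRankLE 2 1 G) (hidx : ∀ H : Subgroup G, H.index ≠ 2) (hiso : ∀ z : G, ¬ Cfsg.IsIsolatedInvolution z) (S : Sylow 2 G) {F : Type*} [Field F] [Fintype F] (hF : Fintype.card F = 16) (P : Sylow 2 (Cfsg.PSU 3 F 4)) : (∃ m : ℕ, 2 ≤ m ∧ Nonempty ((S : Subgroup G) ≃* DihedralGroup m)) ∨ Cfsg.IsQuasiDihedral (S : Subgroup G) ∨ Cfsg.IsWreathed (S : Subgroup G) ∨ (∃ n : ℕ, 2 ≤ n ∧ Nonempty ((S : Subgroup G) ≃* Multiplicative (ZMod (2 ^ n) × ZMod (2 ^ n)))) ∨ Nonempty ((S : Subgroup G) ≃* (P : Subgroup (Cfsg.PSU 3 F 4))) := by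
  have hU := Cfsg.Agent.Rank2Fus.uProp_sylow hF P
  have h2S : Cfsg.PRankLE 2 2 (S : Subgroup G) := Cfsg.Agent.Rank2Fus.prankLE_subgroup h2 _
  have h1S : ¬ Cfsg.PRankLE 2 1 (S : Subgroup G) := by
    intro hcon
    apply h1
    intro A hA hexp
    haveI : Fact (Nat.Prime 2) := ⟨Nat.prime_two⟩
    have hp : IsPGroup 2 A := fun a => ⟨1, Subtype.ext (by simpa using hexp a a.2)⟩
    obtain ⟨P', hP'⟩ := hp.exists_le_sylow
    let e : (P' : Subgroup G) ≃* (S : Subgroup G) := Sylow.equiv P' S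
    let f : A →* (S : Subgroup G) := e.toMonoidHom.comp (Subgroup.inclusion hP')
    have hf : Function.Injective f := e.injective.comp (Subgroup.inclusion_injective hP')
    have hcard : Nat.card f.range = Nat.card A :=
      (Nat.card_congr (MonoidHom.ofInjective hf).toEquiv).symm
    rw [← hcard]
    refine hcon f.range ⟨⟨fun a b => ?_⟩⟩ ?_
    · obtain ⟨_, x, rfl⟩ := a
      obtain ⟨_, y, rfl⟩ := b
      exact Subtype.ext (by show f x * f y = f y * f x; rw [← map_mul, ← map_mul, hA.is_comm.comm x y])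
    · rintro _ ⟨x, rfl⟩
      rw [← map_pow, show x ^ 2 = 1 from Subtype.ext (by simpa using hexp x x.2), map_one]
  have hclass : ∀ T : Subgroup (S : Subgroup G), Cfsg.PRankLE 2 2 T → ¬ Cfsg.PRankLE 2 1 T →
      Cfsg.Agent.Rank2Fus.HasTransAut T →
      (∃ n : ℕ, 1 ≤ n ∧ Nonempty (T ≃* Multiplicative (ZMod (2 ^ n) × ZMod (2 ^ n)))) ∨
        Cfsg.Agent.Rank2Fus.UProp T := fun T ha hb ⟨φ, hφ⟩ =>
    (Cfsg.Agent.S1237.result (S.2.to_subgroup T) ha hb φ hφ hF P).imp_right fun ⟨e⟩ =>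
      Cfsg.Agent.Rank2Fus.uProp_of_equiv e hU
  rcases Cfsg.Agent.Rank2Fus.classify S.2 h2S h1S (Cfsg.Agent.Rank2Fus.fus_group S hiso) hclass with
    hd | hw | ⟨φ, hφ⟩
  · rcases hd with hd | hq
    · exact Or.inl hd
    · exact Or.inr (Or.inl hq)
  · exact Or.inr (Or.inr (Or.inl hw))
  · rcases Cfsg.Agent.S1237.result S.2 h2S h1S φ hφ hF P with ⟨n, hn, ⟨e⟩⟩ | he
    · rcases Nat.lt_or_ge 1 n with hn' | hn'
      · exact Or.inr (Or.inr (Or.inr (Or.inl ⟨n, hn', ⟨e⟩⟩)))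
      · obtain rfl : n = 1 := le_antisymm hn' hn
        exact Or.inl ⟨2, le_rfl, Cfsg.Agent.Rank2Fus.dihedral_two_of_equiv e⟩
    · exact Or.inr (Or.inr (Or.inr (Or.inr he)))

end Cfsg.Agent.S1238
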