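import Cfsg.Statements.S0516
import Cfsg.Agent.S1238
import Cfsg.Agent.S0949
import Cfsg.Agent.S0204
import Cfsg.Agent.Invol.ZStar

set_option autoImplicit false
open Cfsg

namespace Cfsg.Agent.S0516

/-- In a non-abelian finite simple group of 2-rank at most 2, a Sylow 2-subgroup is dihedral (of order at least 4),
quasi-dihedral, wreathed, or isomorphic to a Sylow 2-subgroup of the projective special unitary group of dimension 3
over the field with 16 elements. -/
theorem result {G : Type*} [Group G] [Finite G] [IsSimpleGroup G]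
    (hG : ¬ IsMulCommutative G) (h2 : Cfsg.PRankLE 2 2 G) (S : Sylow 2 G) {F : Type*} [Field F] [Fintype F]
    (hF : Fintype.card F = 16) (P : Sylow 2 (Cfsg.PSU 3 F 4)) :
    (∃ n : ℕ, 2 ≤ n ∧ Nonempty ((S : Subgroup G) ≃* DihedralGroup n)) ∨ Cfsg.IsQuasiDihedral (S : Subgroup G) ∨
      Cfsg.IsWreathed (S : Subgroup G) ∨ Nonempty ((S : Subgroup G) ≃* (P : Subgroup (Cfsg.PSU 3 F 4))) := by
  classical
  haveI : Fact (Nat.Prime 2) := ⟨Nat.prime_two⟩
  have hcenter : Subgroup.center G ≠ ⊤ := fun h => hG ⟨⟨fun a b =>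
    (Subgroup.mem_center_iff.1 (h ▸ Subgroup.mem_top b) a)⟩⟩
  obtain ⟨E, hE⟩ := Cfsg.Agent.S0204.result (G := G) fun hc => hG (by
    haveI := hc
    exact ⟨⟨fun a b => IsCyclic.commGroup.mul_comm a b⟩⟩)
  have hE4 : Nat.card E = 4 := hE.card_four
  have heven : 2 ∣ Nat.card G := (show 2 ∣ 4 by norm_num).trans (hE4 ▸ E.card_subgroup_dvd_card)
  have h1 : ¬ Cfsg.PRankLE 2 1 G := fun h => by
    have := h E ⟨⟨fun a b => mul_comm_of_exponent_two hE.exponent_two a b⟩⟩ fun a ha => by
      have h2 : (⟨a, ha⟩ : E) ^ 2 = 1 := hE.exponent_two ▸ Monoid.pow_exponent_eq_one _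
      simpa using congrArg Subtype.val h2
    omega
  have hidx : ∀ H : Subgroup G, H.index ≠ 2 := fun H hH => by
    haveI := Subgroup.normal_of_index_eq_two hH
    rcases Subgroup.Normal.eq_bot_or_eq_top (inferInstance : H.Normal) with rfl | rfl
    · rw [Subgroup.index_bot] at hH
      have := hE4 ▸ E.card_subgroup_dvd_card
      rw [hH] at this; norm_num at this
    · simp at hH
  have hodd : ∀ N : Subgroup G, N.Normal → Odd (Nat.card N) → N = ⊥ := fun N hN ho => by
    rcases hN.eq_bot_or_eq_top with h | h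
    · exact h
    · subst h
      rw [Subgroup.card_top] at ho
      exact absurd (even_iff_two_dvd.2 heven) (Nat.not_even_iff_odd.2 ho)
  have hiso : ∀ z : G, ¬ Cfsg.IsIsolatedInvolution z := fun z hz => by
    have hcen : z ∈ Subgroup.center G := Subgroup.mem_center_iff.2 fun g => by
      have h := Cfsg.Agent.Invol.zstar hz g
      have hbot : Cfsg.oddCore G = ⊥ := by
        rcases Subgroup.Normal.eq_bot_or_eq_top (inferInstance : (Cfsg.oddCore G).Normal) with h' | h'
        · exact h'
        · have h2 := Cfsg.Agent.Core.not_dvd_card_pPrimeCore (p := 2) (G := G)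
          change Cfsg.pPrimeCore 2 G = ⊤ at h'
          rw [h', Subgroup.card_top] at h2
          exact absurd heven h2
      rw [hbot, Subgroup.mem_bot, mul_inv_eq_one, mul_inv_eq_iff_eq_mul] at h
      exact h.symm
    rcases Subgroup.Normal.eq_bot_or_eq_top (inferInstance : (Subgroup.center G).Normal) with h | h
    · rw [h, Subgroup.mem_bot] at hcen
      have := hz.1
      rw [hcen, orderOf_one] at this
      omega
    · exact hcenter h
  rcases Cfsg.Agent.S1238.result h2 h1 hidx hiso S hF P with h | h | h | ⟨n, hn, ⟨e⟩⟩ | h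
  · exact Or.inl h
  · exact Or.inr (Or.inl h)
  · exact Or.inr (Or.inr (Or.inl h))
  · exfalso
    obtain ⟨hSn, -, -⟩ := Cfsg.Agent.S0949.result S n hn e hodd
    rcases hSn.eq_bot_or_eq_top with h | h
    · have h4 : Nat.card (S : Subgroup G) = 2 ^ n * 2 ^ n := by
        rw [Nat.card_congr (e.toEquiv.trans Multiplicative.toAdd), Nat.card_prod, Nat.card_zmod]
      rw [h, Subgroup.card_bot] at h4
      have : 2 ≤ 2 ^ n := Nat.le_self_pow (by omega) 2
      nlinarith
    · refine hG ⟨⟨fun a b => ?_⟩⟩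
      have := congrArg Subtype.val (e.injective (show e (⟨a, h ▸ Subgroup.mem_top a⟩ * ⟨b, h ▸ Subgroup.mem_top b⟩) = e (⟨b, h ▸ Subgroup.mem_top b⟩ * ⟨a, h ▸ Subgroup.mem_top a⟩) by rw [map_mul, map_mul, mul_comm]))
      exact this
  · exact Or.inr (Or.inr (Or.inr h))

end Cfsg.Agent.S0516
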