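import Cfsg.Statements.S2954
import Cfsg.Agent.ZNComp.Main
import Cfsg.Agent.S2858
-- import your own Cfsg.Agent.* helpers here

set_option autoImplicit false
open Cfsg

namespace Cfsg.Agent.S2954

open Subgroup ZNComp

/-- Let G be a finite group of characteristic 2 type in which every 2-local subgroup is solvable and the centralizer of Ω₁(Z(S)) lies in N_G(S) for every Sylow 2-subgroup S; suppose O₂(G) = 1, fix a Sylow 2-subgroup S and a 2-local subgroup M containing N_G(J(S)) (J the Thompson subgroup generated by the elementary abelian 2-subgroups of largest order). If T is maximal (for the order of a largest elementary abelian subgroup, then the order of J(T), then the order of T) among the nontrivial 2-subgroups of M lying in a 2-local subgroup not inside M, then there are two distinct maximal 2-local subgroups P₁, P₂ of G, each having T as a Sylow 2-subgroup, that are both isomorphic to the symmetric group on four letters or both isomorphic to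 its direct product with a group of order 2. -/
theorem result {G : Type*} [Group G] [Finite G] (hL : Cfsg.IsCharacteristicTwoType G) (hN : ∀ N : Subgroup G, Cfsg.IsTwoLocal N → Group.IsSolvable ↥N)
    (hZ : ∀ S : Sylow 2 G, Subgroup.centralizer (Cfsg.omegaCenterOf (S : Subgroup G) : Set G) ≤ Subgroup.normalizer ((S : Subgroup G) : Set G)) (hO : Cfsg.pCore 2 G = ⊥) (S : Sylow 2 G) (M : Subgroup G) (hM : Cfsg.IsTwoLocal M)
    (hMJ : Subgroup.normalizer (Cfsg.thompsonSubgroupOf 2 (S : Subgroup G) : Set G) ≤ M) (T : Subgroup G) (hT : T ∈ Cfsg.maxStraddlingTwoSubgroups M) :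
    ∃ P₁ P₂ : Subgroup G, P₁ ≠ P₂ ∧ Cfsg.IsMaximalTwoLocal P₁ ∧ Cfsg.IsMaximalTwoLocal P₂ ∧
      Cfsg.IsSylowTwoIn T P₁ ∧ Cfsg.IsSylowTwoIn T P₂ ∧
      ((Nonempty (↥P₁ ≃* Equiv.Perm (Fin 4)) ∧ Nonempty (↥P₂ ≃* Equiv.Perm (Fin 4))) ∨
        (Nonempty (↥P₁ ≃* Equiv.Perm (Fin 4) × Multiplicative (ZMod 2)) ∧
          Nonempty (↥P₂ ≃* Equiv.Perm (Fin 4) × Multiplicative (ZMod 2)))) := by
  have : Fact (Nat.Prime 2) := ⟨Nat.prime_two⟩
  have hG : Hyp G := ⟨hL, hN, hZ⟩
  obtain ⟨K, K', h, h', -, hbot⟩ := (main hG hO hMJ hT).2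
  have hbot' : Cfsg.pCoreOf 2 ((K' ⊔ T) ⊔ (K ⊔ T)) = ⊥ := by rw [sup_comm]; exact hbot
  have hP := normalizer_eq_sup hG h h' hbot
  have hQ := normalizer_eq_sup hG h' h hbot'
  obtain ⟨hpP, -, -⟩ := h.para hG
  obtain ⟨hpQ, -, -⟩ := h'.para hG
  have hne : ¬ K' ⊔ T ≤ K ⊔ T := fun hle => by
    rw [sup_eq_left.2 hle] at hbot
    exact h.core_ne_bot hG hbot
  refine ⟨K ⊔ T, K' ⊔ T, fun e => hne e.ge, hP ▸ h.maximal, hQ ▸ h'.maximal, h.sylow hG,
    h'.sylow hG, ?_⟩
  have hPQ : (K ⊔ T) ⊓ (K' ⊔ T) = T := by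
    refine le_antisymm (fun x hx => ?_) (le_inf le_sup_right le_sup_right)
    by_contra hxT
    exact hne (S4Amal.le_of_prime_relIndex hpQ.three hpQ.le hpP.le hx.2 hxT hx.1)
  set P := K ⊔ T with hPd
  set Q := K' ⊔ T with hQd
  set X := P ⊔ Q with hX
  have hPX : P ≤ X := le_sup_left
  have hQX : Q ≤ X := le_sup_right
  have hinj : Function.Injective X.subtype := X.subtype_injective
  have hcore : ∀ {U : Subgroup G}, U ≤ X →
      (Cfsg.pCoreOf 2 (U.subgroupOf X)).map X.subtype = Cfsg.pCoreOf 2 U := fun hU => by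
    rw [pCoreOf_map hinj, map_subgroupOf_eq_of_le hU]
  have hTX : T ≤ X := le_sup_right.trans hPX
  have hTX' : T.subgroupOf X = P.subgroupOf X ⊓ Q.subgroupOf X := by
    rw [← hPQ]; exact comap_inf P Q X.subtype
  have hch : ∀ {U : Subgroup G}, U ≤ X → Para T U → U.subgroupOf X ⊓
      centralizer (Cfsg.pCoreOf 2 (U.subgroupOf X) : Set X) ≤ Cfsg.pCoreOf 2 (U.subgroupOf X) := by
    intro U hU hp x hx
    have h9 : (x : G) ∈ Cfsg.pCoreOf 2 U := hp.charp ⟨mem_subgroupOf.1 hx.1,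
      mem_centralizer_iff.2 fun q hq => by
        rw [SetLike.mem_coe, ← hcore hU] at hq
        obtain ⟨y, hy, rfl⟩ := hq
        exact congrArg Subtype.val (mem_centralizer_iff.1 hx.2 y hy)⟩
    rw [← hcore hU] at h9
    exact (mem_map_iff_mem hinj).1 h9
  have hsy : ∀ {U : Subgroup G}, U ≤ X → Para T U → ∃ R : Sylow 2 ↥(U.subgroupOf X),
      (R : Subgroup ↥(U.subgroupOf X)) = (T.subgroupOf X).subgroupOf (U.subgroupOf X) := by
    intro U hU hp
    refine ⟨(hp.two.comap_subtype.comap_subtype).toSylow ?_, IsPGroup.toSylow_coe _ _⟩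
    show ¬ 2 ∣ (T.subgroupOf X).relIndex (U.subgroupOf X)
    rw [relIndex_subgroupOf hU, hp.three]
    norm_num
  have hS3 : ∀ {U : Subgroup G}, U ≤ X → Para T U →
      Nonempty (↥(U.subgroupOf X) ⧸ Cfsg.pCore 2 ↥(U.subgroupOf X) ≃* Equiv.Perm (Fin 3)) := by
    intro U hU hp
    refine quot_perm_three (T := T.subgroupOf X) ⟨comap_mono hp.le, hp.two.comap_subtype, ?_, ?_,
      hch hU hp, fun hle => hp.active fun x hx => mem_centralizer_iff.2 fun z hz => ?_⟩
    · rw [relIndex_subgroupOf hU, hp.three]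
    · rw [← relIndex_map_map_of_injective _ _ hinj, hcore hU, map_subgroupOf_eq_of_le hTX, hp.core]
    · rw [SetLike.mem_coe, ← map_subgroupOf_eq_of_le hTX, ← omegaCenterOf_map hinj] at hz
      obtain ⟨z, hz', rfl⟩ := hz
      exact congrArg X.subtype (mem_centralizer_iff.1
        (hle (show (⟨x, hU hx⟩ : X) ∈ U.subgroupOf X from hx)) z hz')
  have hact : ∀ {U : Subgroup G}, U ≤ X → Para T U → ¬ U.subgroupOf X ≤ centralizer
      (Cfsg.omegaCenterOf (T.subgroupOf X) : Set X) := by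
    intro U hU hp hle
    refine hp.active fun x hx => mem_centralizer_iff.2 fun z hz => ?_
    rw [SetLike.mem_coe, ← map_subgroupOf_eq_of_le hTX, ← omegaCenterOf_map hinj] at hz
    obtain ⟨z, hz', rfl⟩ := hz
    exact congrArg X.subtype (mem_centralizer_iff.1
      (hle (show (⟨x, hU hx⟩ : X) ∈ U.subgroupOf X from hx)) z hz')
  have hiso := S2858.result (P.subgroupOf X) (Q.subgroupOf X)
    (by rw [← subgroupOf_sup hPX hQX]; exact subgroupOf_self _) (T.subgroupOf X) hTX'
    (by rintro U (rfl | rfl); exacts [hch hPX hpP, hch hQX hpQ])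
    (by rintro U (rfl | rfl); exacts [hsy hPX hpP, hsy hQX hpQ])
    (fun N hNn hNT => by
      refine (map_eq_bot_iff_of_injective _ hinj).1 (le_bot_iff.1 (hbot ▸
        LocalStructure.le_pCoreOf_of_normal (map_subtype_le N) ?_
          (h.two.to_le ((map_mono hNT).trans (map_subgroupOf_eq_of_le hTX).le))))
      intro x hx
      exact le_normalizer_map X.subtype ⟨⟨x, hx⟩, by rw [normalizer_eq_top N]; exact mem_top _, rfl⟩)
    (by rintro U (rfl | rfl); exacts [hS3 hPX hpP, hS3 hQX hpQ])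
    (by rintro U (rfl | rfl); exacts [hact hPX hpP, hact hQX hpQ])
  rcases hiso with ⟨⟨i⟩, ⟨j⟩⟩ | ⟨⟨i⟩, ⟨j⟩⟩
  · exact Or.inl ⟨⟨(subgroupOfEquivOfLe hPX).symm.trans i⟩, ⟨(subgroupOfEquivOfLe hQX).symm.trans j⟩⟩
  · exact Or.inr ⟨⟨((subgroupOfEquivOfLe hPX).symm.trans i).trans MulEquiv.prodComm⟩,
      ⟨((subgroupOfEquivOfLe hQX).symm.trans j).trans MulEquiv.prodComm⟩⟩
end Cfsg.Agent.S2954
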