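import Cfsg.Statements.S0521
import Cfsg.Agent.Layer.PConstraint
import Cfsg.Agent.Coprime.Basic
import Cfsg.Agent.Core.Frattini
import Cfsg.Agent.Fusion.PGroup
import Cfsg.Agent.QdFree.Consequences

set_option autoImplicit false
open Cfsg

open scoped commutatorElement

namespace Cfsg.Agent.S0521

set_option maxHeartbeats 1000000
open Subgroup

/-- Let X be a finite solvable group of odd order, p a prime and S a Sylow p-subgroup of X whose commutator subgroup is
cyclic. Then the product of the largest normal subgroup of X of order prime to p with S is a normal subgroup of X. -/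
theorem result {X : Type*} [Group X] [Finite X] [Group.IsSolvable X]
    (hX : Odd (Nat.card X)) (p : ℕ) [Fact p.Prime] (S : Sylow p X) (hS : IsCyclic (commutator (S : Subgroup X))) :
    (Cfsg.pPrimeCore p X ⊔ (S : Subgroup X)).Normal := by
  classical
  set D := Cfsg.pPrimeCore p X with hD
  set f := QuotientGroup.mk' D with hf
  have hfs : Function.Surjective f := QuotientGroup.mk'_surjective D
  have hnorm : ((S : Subgroup X).map f).Normal → (D ⊔ (S : Subgroup X)).Normal := by
    intro h
    have h1 := h.comap f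
    rwa [comap_map_eq, hf, QuotientGroup.ker_mk', sup_comm] at h1
  refine hnorm ?_
  by_cases hpd : p ∣ Nat.card X
  swap
  · have hS1 : (S : Subgroup X) = ⊥ := by
      obtain ⟨n, hn⟩ := IsPGroup.iff_card.mp S.2
      rcases n with _ | n
      · exact card_eq_one.mp (by simpa using hn)
      · exact absurd ((dvd_pow_self p (Nat.succ_ne_zero n)).trans (hn ▸ card_subgroup_dvd_card _)) hpd
    rw [hS1, Subgroup.map_bot]
    infer_instance
  have hp2 : p ≠ 2 := fun e => by
    subst e
    exact (Nat.not_even_iff_odd.mpr hX) (even_iff_two_dvd.mpr hpd)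
  set S1 := S.mapSurjective hfs with hS1
  have hS1c : (S1 : Subgroup (X ⧸ D)) = (S : Subgroup X).map f := rfl
  set R := Cfsg.pCore p (X ⧸ D) with hR
  have hRp : IsPGroup p R := Core.pCore_isPGroup
  have hRS : R ≤ (S1 : Subgroup (X ⧸ D)) := Core.pCore_le_sylow S1
  have hcon : centralizer (R : Set (X ⧸ D)) ≤ R := by
    have h := Layer.isPConstrained_of_isSolvable (G := X) (p := p)
    rwa [Layer.isPConstrained_iff_selfCentral] at h
  set F := (frattini R).map R.subtype with hF
  haveI : F.Normal := ConjAct.normal_of_characteristic_of_normal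
  set f2 := QuotientGroup.mk' F with hf2
  have hf2s : Function.Surjective f2 := QuotientGroup.mk'_surjective F
  set P := R.map f2 with hP
  haveI : P.Normal := Subgroup.Normal.map inferInstance f2 hf2s
  have hFR : F ≤ R := map_subtype_le _
  have hPexp : ∀ x ∈ P, x ^ p = 1 := by
    rintro _ ⟨r, hr, rfl⟩
    rw [← map_pow]
    exact (QuotientGroup.eq_one_iff _).mpr ⟨(⟨r, hr⟩ : R) ^ p, Core.pow_mem_frattini hRp _, rfl⟩
  have hQodd : Odd (Nat.card ((X ⧸ D) ⧸ F)) :=
    (hX.of_dvd_nat (card_quotient_dvd_card D)).of_dvd_nat (card_quotient_dvd_card F)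
  set C := centralizer (P : Set ((X ⧸ D) ⧸ F)) with hC
  -- the centralizer of `R/Φ(R)` lies in `R`
  have hCR : C.comap f2 ≤ R := by
    haveI : (C.comap f2).Normal := inferInstance
    refine Core.le_pCore ?_
    by_contra hne
    obtain ⟨k, hk, hk1, hko⟩ : ∃ k ∈ C.comap f2, k ≠ 1 ∧ (orderOf k).Coprime p := by
      have hne' : ¬ IsPGroup p (C.comap f2) := hne
      obtain ⟨q, hq, hq1, hqo⟩ := Layer.exists_coprime_orderOf hne'
      exact ⟨q, hq, hq1, hqo⟩
    have hkR : zpowers k ≤ normalizer (R : Set (X ⧸ D)) := by rw [normalizer_eq_top]; exact le_top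
    have h1 : zpowers k ≤ centralizer (R : Set (X ⧸ D)) := by
      refine Coprime.le_centralizer_of_trivial_mod_frattini hkR ?_ ?_
      · rw [Nat.card_zpowers]
        obtain ⟨n, hn⟩ := IsPGroup.iff_card.mp (hRp.to_subgroup (frattini R))
        rw [hn]
        exact hko.pow_right n
      · intro a ha r hr
        rw [← hF, ← QuotientGroup.eq_one_iff]
        show f2 _ = 1
        have haC : f2 a ∈ C := (zpowers_le.mpr hk : zpowers k ≤ C.comap f2) ha
        have h2 := mem_centralizer_iff.mp haC (f2 r) (mem_map_of_mem f2 hr)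
        rw [map_mul, map_mul, map_mul, map_inv, map_inv, ← h2]
        group
    have hkR' : k ∈ R := hcon (zpowers_le.mp h1)
    obtain ⟨n, hn⟩ := IsPGroup.iff_orderOf.mp hRp ⟨k, hkR'⟩
    rw [Subgroup.orderOf_mk] at hn
    exact hk1 (orderOf_eq_one_iff.mp (Nat.eq_one_of_dvd_coprimes (hko.pow_right n) dvd_rfl hn.dvd))
  suffices h : (S1 : Subgroup (X ⧸ D)) ≤ R by
    rw [← hS1c, le_antisymm h hRS]
    infer_instance
  intro s hs
  set h : X →* (X ⧸ D) ⧸ F := f2.comp f with hh
  set T := (S : Subgroup X).map h with hT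
  have hT' : T = (S1 : Subgroup (X ⧸ D)).map f2 := by rw [hT, hh, hS1c, Subgroup.map_map]
  have hTp : IsPGroup p T := S.2.map _
  haveI hcyc : IsCyclic (⁅T, T⁆ : Subgroup ((X ⧸ D) ⧸ F)) := by
    have h1 : ⁅T, T⁆ = ((commutator (S : Subgroup X)).map (S : Subgroup X).subtype).map h := by
      rw [Subgroup.map_subtype_commutator, Subgroup.map_commutator]
    rw [h1]
    haveI := hS
    haveI : IsCyclic ((commutator (S : Subgroup X)).map (S : Subgroup X).subtype) :=
      isCyclic_of_surjective _ ((S : Subgroup X).subtype.subgroupMap_surjective (commutator (S : Subgroup X)))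
    exact isCyclic_of_surjective _ (h.subgroupMap_surjective _)
  set Y := P ⊓ ⁅T, T⁆ with hY
  haveI : IsCyclic Y := isCyclic_of_injective (Subgroup.inclusion (inf_le_right : Y ≤ ⁅T, T⁆))
    (Subgroup.inclusion_injective _)
  have hPT : P ≤ T := hT' ▸ map_mono hRS
  have hYT : Y ≤ T := inf_le_left.trans hPT
  have hYc : Y ≤ centralizer (T : Set ((X ⧸ D) ⧸ F)) := by
    obtain ⟨w, hw⟩ := IsCyclic.exists_generator (α := Y)
    have hgen : zpowers w = ⊤ := (eq_top_iff' _).mpr hw
    have hcard : Nat.card Y ∣ p := by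
      rw [← card_top (G := Y), ← hgen, Nat.card_zpowers]
      exact orderOf_dvd_of_pow_eq_one (Subtype.ext (by
        rw [SubmonoidClass.coe_pow]; exact hPexp _ (mem_inf.mp w.2).1))
    rcases (Nat.dvd_prime (Fact.out : p.Prime)).mp hcard with h1 | h1
    · rw [card_eq_one.mp h1]; exact bot_le
    · haveI : (Y.subgroupOf T).Normal := (normal_subgroupOf_iff_le_normalizer hYT).mpr
        ((le_inf (by rw [normalizer_eq_top]; exact le_top : T ≤ normalizer (P : Set ((X ⧸ D) ⧸ F)))
          (normalizer_commutator_ge_left T T)).trans Subgroup.inf_normalizer_le_normalizer_inf)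
      have h2 := Fusion.le_center_of_card_eq_prime hTp (Y.subgroupOf T)
        (by rw [Nat.card_congr (subgroupOfEquivOfLe hYT).toEquiv]; exact h1)
      intro y hy
      refine mem_centralizer_iff.mpr fun t ht => ?_
      exact congrArg Subtype.val (mem_center_iff.mp (h2 (show (⟨y, hYT hy⟩ : T) ∈ Y.subgroupOf T from hy)) ⟨t, ht⟩)
  have hsT : f2 s ∈ T := hT' ▸ mem_map_of_mem f2 hs
  have hquad : ⁅⁅P, zpowers (f2 s)⁆, zpowers (f2 s)⁆ = ⊥ := by
    refine commutator_eq_bot_iff_le_centralizer.mpr (le_trans ?_ (hYc.trans (centralizer_le (zpowers_le.mpr hsT))))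
    exact le_inf (Subgroup.commutator_le_left P _) (commutator_mono hPT (zpowers_le.mpr hsT))
  have hmem := QdFree.mk_mem_pCore_of_odd hp2 hQodd (hRp.map f2) hquad
  -- pull back to `X/D`
  set g2 := (QuotientGroup.mk' C).comp f2 with hg2
  have hg2s : Function.Surjective g2 := (QuotientGroup.mk'_surjective C).comp hf2s
  have hker : g2.ker = C.comap f2 := by
    rw [hg2, ← MonoidHom.comap_ker, QuotientGroup.ker_mk']
  have hp' : IsPGroup p ((Cfsg.pCore p (((X ⧸ D) ⧸ F) ⧸ C)).comap g2) :=
    Core.pCore_isPGroup.comap_of_ker_isPGroup g2 (by rw [hker]; exact hRp.to_le hCR)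
  haveI : ((Cfsg.pCore p (((X ⧸ D) ⧸ F) ⧸ C)).comap g2).Normal := inferInstance
  exact Core.le_pCore hp' hmem

end Cfsg.Agent.S0521
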