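import Cfsg.Statements.S0522
import Cfsg.Agent.OddLocal.TransConstrained
import Cfsg.Agent.Layer.PConstraint

set_option autoImplicit false
open Cfsg

namespace Cfsg.Agent.S0522

open scoped Pointwise
open Subgroup

/-- Transitivity Theorem (odd-order setting). Let X be a finite group of odd order in which the normalizer of every
nontrivial p-subgroup is solvable, P a Sylow p-subgroup, and B an abelian subgroup of P, normalized by P, with
C_P(B) = B and containing an elementary abelian subgroup of order p^3. Then for every prime q ≠ p, any two q-subgroups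
that are maximal among the q-subgroups normalized by B are conjugate by an element of the centralizer of B. -/
theorem result {X : Type*} [Group X] [Finite X] (hX : Odd (Nat.card X)) (p : ℕ)
    [Fact p.Prime] (hloc : ∀ T : Subgroup X, IsPGroup p T → T ≠ ⊥ → Group.IsSolvable (Subgroup.normalizer (T : Set X)))
    (P : Sylow p X) (B : Subgroup X) (hBP : B ≤ (P : Subgroup X))
    (hBn : ∀ x ∈ (P : Subgroup X), ∀ b ∈ B, x * b * x⁻¹ ∈ B) (hBa : IsMulCommutative B)
    (hBc : (P : Subgroup X) ⊓ Subgroup.centralizer (B : Set X) = B)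
    (hB3 : ∃ E : Subgroup X, E ≤ B ∧ (∀ e ∈ E, e ^ p = 1) ∧ p ^ 3 ≤ Nat.card E)
    (q : ℕ) [Fact q.Prime] (hqp : q ≠ p) (Q₁ Q₂ : Subgroup X)
    (h₁ : IsPGroup q Q₁ ∧ B ≤ Subgroup.normalizer (Q₁ : Set X) ∧
      ∀ R : Subgroup X, IsPGroup q R → B ≤ Subgroup.normalizer (R : Set X) → Q₁ ≤ R → R = Q₁)
    (h₂ : IsPGroup q Q₂ ∧ B ≤ Subgroup.normalizer (Q₂ : Set X) ∧
      ∀ R : Subgroup X, IsPGroup q R → B ≤ Subgroup.normalizer (R : Set X) → Q₂ ≤ R → R = Q₂) :
    ∃ c ∈ Subgroup.centralizer (B : Set X), Q₂ = Q₁.map (MulAut.conj c).toMonoidHom := by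
  haveI := hBa
  have hBp : IsPGroup p B := P.2.to_le hBP
  have hPN : (P : Subgroup X) ≤ normalizer (B : Set X) := fun x hx => by
    rw [mem_normalizer_iff]
    intro b
    refine ⟨hBn x hx b, fun h => ?_⟩
    have := hBn x⁻¹ (inv_mem hx) _ h
    simpa [mul_assoc] using this
  have hEfull : ∀ x ∈ centralizer (B : Set X), IsPGroup p (zpowers x) → x ∈ B := by
    intro x hx hxp
    have hxB : zpowers x ≤ normalizer (B : Set X) :=
      (zpowers_le.mpr hx).trans (centralizer_le_normalizer _)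
    have hR : IsPGroup p (zpowers x ⊔ B : Subgroup X) := hxp.to_sup_of_normal_right' hBp hxB
    have hRN : zpowers x ⊔ B ≤ normalizer (B : Set X) := sup_le hxB Subgroup.le_normalizer
    obtain ⟨S, hS⟩ := (hR.comap_of_injective (normalizer (B : Set X)).subtype
      (normalizer (B : Set X)).subtype_injective).exists_le_sylow
    obtain ⟨g, hg⟩ := MulAction.exists_smul_eq (normalizer (B : Set X)) (P.subtype hPN) S
    have hm := hS (show (⟨x, hxB (mem_zpowers x)⟩ : normalizer (B : Set X)) ∈ _ from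
      mem_sup_left (mem_zpowers x))
    rw [← hg, Sylow.coe_subgroup_smul, Subgroup.mem_pointwise_smul_iff_inv_smul_mem] at hm
    have hmP : (g : X)⁻¹ * x * g ∈ (P : Subgroup X) := by
      simpa [MulAut.smul_def, Subgroup.mem_subgroupOf, mul_assoc] using hm
    have hmC : (g : X)⁻¹ * x * g ∈ centralizer (B : Set X) := by
      rw [mem_centralizer_iff]
      intro b hb
      have h1 := mem_centralizer_iff.mp hx ((g : X) * b * (g : X)⁻¹)
        ((mem_normalizer_iff.mp g.2 b).mp hb)
      calc b * ((g : X)⁻¹ * x * g) = (g : X)⁻¹ * (g * b * (g : X)⁻¹ * x) * g := by group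
        _ = (g : X)⁻¹ * (x * (g * b * (g : X)⁻¹)) * g := by rw [h1]
        _ = (g : X)⁻¹ * x * g * b := by group
    have hmB : (g : X)⁻¹ * x * g ∈ B := hBc.le ⟨hmP, hmC⟩
    have := (mem_normalizer_iff.mp g.2 _).mp hmB
    simpa [mul_assoc] using this
  obtain ⟨E, hEB, hEe, hEc⟩ := hB3
  have hE3 : ¬ PRankLE p 2 B := by
    intro h
    have h1 := h (E.subgroupOf B) inferInstance
      (fun a ha => Subtype.ext (by simpa using hEe a ha))
    rw [Coprime.card_subgroupOf hEB] at h1
    have h2 : p ^ 2 < p ^ 3 := Nat.pow_lt_pow_right (Fact.out : p.Prime).one_lt (by norm_num)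
    omega
  have hp2 : p = 2 → False := by
    rintro rfl
    have h1 : 2 ∣ Nat.card E := by
      obtain ⟨k, hk⟩ := IsPGroup.iff_card.mp ((hBp.to_le hEB))
      rw [hk] at hEc ⊢
      refine dvd_pow_self 2 ?_
      rintro rfl
      norm_num at hEc
    exact Nat.not_even_iff_odd.mpr hX (even_iff_two_dvd.mpr (h1.trans (card_subgroup_dvd_card E)))
  have hmem : ∀ Q : Subgroup X, (IsPGroup q Q ∧ B ≤ Subgroup.normalizer (Q : Set X) ∧
      ∀ R : Subgroup X, IsPGroup q R → B ≤ Subgroup.normalizer (R : Set X) → Q ≤ R → R = Q) →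
      Q ∈ maxInvSubgroups ⊤ B {q} := fun Q hQ =>
    ⟨⟨le_top, OddLocal.mem_singleton_of_isPGroup hQ.1, hQ.2.1⟩, fun R hR hle =>
      hQ.2.2 R (OddLocal.isPGroup_of_singleton hR.2.1) hR.2.2 hle⟩
  obtain ⟨k, hk, hkQ⟩ := OddLocal.linked_of_pConstrained_locals
    (fun T hT hT1 => by
      haveI := hloc T hT hT1
      exact Layer.isPConstrained_of_isSolvable)
    (fun h => (hp2 h).elim) hBp hE3 hEfull hqp Q₁ (hmem Q₁ h₁) Q₂ (hmem Q₂ h₂)
  exact ⟨k, OddLocal.piCoreOf_le _ _ hk, hkQ⟩

end Cfsg.Agent.S0522
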