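import Cfsg.Statements.S0525
import Cfsg.Agent.Core.Supersolvable
-- import your own Cfsg.Agent.* helpers here

set_option autoImplicit false
open Cfsg

namespace Cfsg.Agent.S0525

universe u v
theorem aux : ∀ (n : ℕ) (G : Type u) (H : Type v) [Group G] [Group H] [Finite G] [Finite H],
    Nat.card G = n → Cfsg.IsSupersolvable G → Cfsg.IsSupersolvable H →
      Cfsg.IsSupersolvable (G × H) := by
  intro n
  induction n using Nat.strong_induction_on with
  | _ n ih =>
    intro G H _ _ _ _ hn hG hH
    rcases subsingleton_or_nontrivial G with hs | hs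
    · exact Core.isSupersolvable_of_surjective (f := MonoidHom.inr G H)
        (fun x => ⟨x.2, Prod.ext (Subsingleton.elim _ _) rfl⟩) hH
    obtain ⟨N, hN, hp⟩ := Core.exists_prime_normal_of_isSupersolvable hG
    let f : G × H →* (G ⧸ N) × H := MonoidHom.prodMap (QuotientGroup.mk' N) (MonoidHom.id H)
    have hf : Function.Surjective f := fun x => by
      obtain ⟨g, hg⟩ := QuotientGroup.mk'_surjective N x.1
      exact ⟨(g, x.2), Prod.ext hg rfl⟩
    have hker : f.ker = N.map (MonoidHom.inl G H) := by
      ext ⟨g, h⟩
      simp [f, MonoidHom.mem_ker, Subgroup.mem_map, eq_comm (a := (1 : H))]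
    have hc : IsCyclic f.ker := by
      have := Core.isCyclic_of_card_prime hp
      rw [hker]
      exact isCyclic_of_surjective _ ((MonoidHom.inl G H).subgroupMap_surjective N)
    exact Core.isSupersolvable_of_cyclic_normal f.ker
      (Core.isSupersolvable_congr (QuotientGroup.quotientKerEquivOfSurjective f hf).symm
        (ih _ (hn ▸ Core.card_quotient_lt (Core.ne_bot_of_card_prime hp)) _ H rfl
          (Core.isSupersolvable_of_surjective (QuotientGroup.mk'_surjective N) hG) hH))

/-- A direct product of two finite supersolvable groups is supersolvable. -/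
theorem result {G H : Type*} [Group G] [Group H] [Finite G] [Finite H] (hG : Cfsg.IsSupersolvable G) (hH : Cfsg.IsSupersolvable H) : Cfsg.IsSupersolvable (G × H) := by
  exact aux _ G H rfl hG hH

end Cfsg.Agent.S0525
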