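import Cfsg.Statements.S0529
import Cfsg.Agent.Core.Supersolvable
-- import your own Cfsg.Agent.* helpers here

set_option autoImplicit false
open Cfsg

namespace Cfsg.Agent.S0529

universe u
theorem aux : ∀ (m : ℕ) (G : Type u) [Group G] [Finite G], Nat.card G = m → Cfsg.IsSupersolvable G →
    ∃ (n : ℕ) (H : Fin (n + 1) → Subgroup G), H 0 = ⊥ ∧ H (Fin.last n) = ⊤ ∧ (∀ i, (H i).Normal) ∧
      (∀ i : Fin n, H i.castSucc ≤ H i.succ ∧ ((H i.castSucc).relIndex (H i.succ)).Prime) ∧
      ∀ i j : Fin n, i ≤ j →
        (H j.castSucc).relIndex (H j.succ) ≤ (H i.castSucc).relIndex (H i.succ) := by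
  intro m
  induction m using Nat.strong_induction_on with
  | _ m ih =>
    intro G _ _ hm hG
    rcases subsingleton_or_nontrivial G with hs | hs
    · exact ⟨0, fun _ => ⊥, rfl, Subsingleton.elim _ _, fun _ => inferInstance, fun i => i.elim0,
        fun i => i.elim0⟩
    have hne : (Nat.card G).primeFactors.Nonempty := Nat.nonempty_primeFactors.mpr Finite.one_lt_card
    set p := (Nat.card G).primeFactors.max' hne with hp
    have hmem := (Nat.card G).primeFactors.max'_mem hne
    have := Fact.mk (Nat.prime_of_mem_primeFactors hmem)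
    have hmax : ∀ q : ℕ, q.Prime → q ∣ Nat.card G → q ≤ p := fun q hq hd =>
      Finset.le_max' _ q (Nat.mem_primeFactors.mpr ⟨hq, hd, Nat.card_pos.ne'⟩)
    obtain ⟨P⟩ := (inferInstance : Nonempty (Sylow p G))
    have hPn := Core.sylow_normal_of_prime_index
      (fun M hM => Core.prime_index_of_isSupersolvable hG hM) hmax P
    obtain ⟨N, hNP, hN⟩ := Core.exists_isMinNormal_le (N := (P : Subgroup G))
      (P.ne_bot_of_dvd_card (Nat.dvd_of_mem_primeFactors hmem))
    have := hN.normal
    have hNc : Nat.card N = p := by
      obtain ⟨k, hk⟩ := IsPGroup.iff_card.mp (P.isPGroup'.to_le hNP)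
      have hpr := hN.prime_card hG
      rw [hk] at hpr ⊢
      rw [Nat.Prime.eq_one_of_pow hpr, pow_one]
    obtain ⟨n, H, h0, h1, hn, hi, hmono⟩ := ih _ (hm ▸ Core.card_quotient_lt hN.ne_bot) (G ⧸ N) rfl
      (Core.isSupersolvable_of_surjective (QuotientGroup.mk'_surjective N) hG)
    set f := QuotientGroup.mk' N with hf
    have hs' := QuotientGroup.mk'_surjective N
    let K : Fin (n + 2) → Subgroup G :=
      Fin.cases (motive := fun _ => Subgroup G) ⊥ fun j => (H j).comap f
    have e0 : (K (0 : Fin (n + 1)).castSucc).relIndex (K (0 : Fin (n + 1)).succ) = p := by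
      show (⊥ : Subgroup G).relIndex ((H 0).comap f) = p
      rw [Subgroup.relIndex_bot_left, h0, MonoidHom.comap_bot, hf, QuotientGroup.ker_mk', hNc]
    have es : ∀ j : Fin n, (K j.succ.castSucc).relIndex (K j.succ.succ) =
        (H j.castSucc).relIndex (H j.succ) := by
      intro j
      rw [← Fin.succ_castSucc]
      show ((H j.castSucc).comap f).relIndex ((H j.succ).comap f) = _
      rw [Subgroup.relIndex_comap, Subgroup.map_comap_eq_self_of_surjective hs']
    refine ⟨n + 1, K, rfl, ?_, ?_, ?_, ?_⟩
    · show (H (Fin.last n)).comap f = ⊤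
      rw [h1, Subgroup.comap_top]
    · intro i
      induction i using Fin.cases with
      | zero => show (⊥ : Subgroup G).Normal; infer_instance
      | succ j => show ((H j).comap f).Normal; exact (hn j).comap f
    · intro i
      induction i using Fin.cases with
      | zero => exact ⟨bot_le, e0.symm ▸ Nat.prime_of_mem_primeFactors hmem⟩
      | succ j =>
        refine ⟨?_, (es j).symm ▸ (hi j).2⟩
        rw [← Fin.succ_castSucc]
        exact Subgroup.comap_mono (hi j).1
    · intro i j hij
      induction j using Fin.cases with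
      | zero => rw [show i = 0 from le_antisymm hij (Fin.zero_le _)]
      | succ j =>
        induction i using Fin.cases with
        | zero =>
          rw [e0, es]
          refine hmax _ (hi j).2 ?_
          exact (Subgroup.relIndex_dvd_card _ _).trans
            ((Subgroup.card_subgroup_dvd_card _).trans (Subgroup.index_eq_card N ▸ N.index_dvd_card))
        | succ i => rw [es, es]; exact hmono i j (Fin.succ_le_succ_iff.mp hij)

/-- A finite supersolvable group has a chain of normal subgroups, from the trivial subgroup to the whole group, in which every step has prime index and the primes occurring are non-increasing as one goes up the chain. -/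
theorem result {G : Type*} [Group G] [Finite G] (hG : Cfsg.IsSupersolvable G) : ∃ (n : ℕ) (H : Fin (n + 1) → Subgroup G), H 0 = ⊥ ∧ H (Fin.last n) = ⊤ ∧ (∀ i, (H i).Normal) ∧ (∀ i : Fin n, H i.castSucc ≤ H i.succ ∧ ((H i.castSucc).relIndex (H i.succ)).Prime) ∧ ∀ i j : Fin n, i ≤ j → (H j.castSucc).relIndex (H j.succ) ≤ (H i.castSucc).relIndex (H i.succ) := by
  exact aux _ G rfl hG

end Cfsg.Agent.S0529
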