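import Cfsg.Statements.S0530
import Cfsg.Agent.Core.Supersolvable
-- import your own Cfsg.Agent.* helpers here

set_option autoImplicit false
open Cfsg

namespace Cfsg.Agent.S0530

universe u
theorem aux : ∀ (n : ℕ) (G : Type u) [Group G] [Finite G] (p : ℕ), p.Prime →
    Nat.card G = 2 * p ^ n → Cfsg.IsSupersolvable G := by
  intro n
  induction n using Nat.strong_induction_on with
  | _ n ih =>
    intro G _ _ p hp hG
    have := Fact.mk hp
    by_cases hp2 : p = 2
    · exact Core.isSupersolvable_of_isNilpotent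
        (IsPGroup.of_card (p := p) (n := n + 1) (by rw [hG, hp2, pow_succ, mul_comm])).isNilpotent
    rcases Nat.eq_zero_or_pos n with rfl | hpos
    · exact Core.isSupersolvable_of_isNilpotent
        (IsPGroup.of_card (p := 2) (n := 1) (by rw [hG, pow_zero, mul_one, pow_one])).isNilpotent
    obtain ⟨P⟩ := (inferInstance : Nonempty (Sylow p G))
    have hPc : Nat.card P = p ^ n := by
      have h1 := (hp.coprime_iff_not_dvd).mpr fun h => hp2 ((Nat.prime_dvd_prime_iff_eq hp Nat.prime_two).mp h)
      rw [P.card_eq_multiplicity, hG, Nat.factorization_mul_apply_of_coprime (h1.pow_left n).symm,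
        Nat.factorization_pow_self hp, Nat.factorization_eq_zero_of_not_dvd
          (fun h => hp2 ((Nat.prime_dvd_prime_iff_eq hp Nat.prime_two).mp h)), zero_add]
    have hidx : (P : Subgroup G).index = 2 := by
      have := (P : Subgroup G).card_mul_index
      rw [hG, hPc, mul_comm 2] at this
      exact Nat.eq_of_mul_eq_mul_left (pow_pos hp.pos n) this
    have hPn : (P : Subgroup G).Normal := Subgroup.normal_of_index_eq_two hidx
    obtain ⟨N, hNP, hN⟩ := Core.exists_isMinNormal_le (N := (P : Subgroup G))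
      (P.ne_bot_of_dvd_card (hG ▸ (dvd_pow_self p hpos.ne').trans (dvd_mul_left _ _)))
    have := hN.normal
    have hPN := hN.le_centralizer_of_isPGroup P.isPGroup' hNP
    have : IsMulCommutative N := ⟨⟨fun a b => Subtype.ext (hPN (hNP b.2) a a.2)⟩⟩
    obtain ⟨v, hv, hv1⟩ := (Subgroup.bot_or_exists_ne_one N).resolve_left hN.ne_bot
    obtain ⟨t, ht⟩ := exists_prime_orderOf_dvd_card' (G := G) 2 (hG ▸ dvd_mul_right 2 _)
    have htP : t ∉ (P : Subgroup G) := fun h => hp2 (by
      have h' := Subgroup.orderOf_dvd_natCard _ h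
      rw [ht, hPc] at h'
      exact ((Nat.prime_dvd_prime_iff_eq Nat.prime_two hp).mp (Nat.prime_two.dvd_of_dvd_pow h')).symm)
    have htop : (P : Subgroup G) ⊔ Subgroup.zpowers t = ⊤ := by
      have hlt : (P : Subgroup G) < (P : Subgroup G) ⊔ Subgroup.zpowers t :=
        lt_of_le_of_ne le_sup_left fun e => htP (e ▸ Subgroup.mem_sup_right (Subgroup.mem_zpowers t))
      have h2 := Subgroup.index_strictAnti hlt
      rw [hidx] at h2
      have h0 : ((P : Subgroup G) ⊔ Subgroup.zpowers t).index ≠ 0 := Subgroup.index_ne_zero_of_finite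
      exact Subgroup.index_eq_one.mp (by omega)
    have htt : t * t = 1 := by rw [← sq, ← ht, pow_orderOf_eq_one]
    have htinv : t⁻¹ = t := inv_eq_of_mul_eq_one_right htt
    obtain ⟨w, hw, hw1, hwt⟩ : ∃ w ∈ N, w ≠ 1 ∧ t * w * t⁻¹ ∈ Subgroup.zpowers w := by
      by_cases h : v * (t * v * t⁻¹) = 1
      · exact ⟨v, hv, hv1, by rw [eq_inv_of_mul_eq_one_right h]; exact inv_mem (Subgroup.mem_zpowers v)⟩
      · refine ⟨_, N.mul_mem hv (hN.normal.conj_mem v hv t), h, ?_⟩
        have h' : t * (v * (t * v * t⁻¹)) * t⁻¹ = v * (t * v * t⁻¹) :=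
          calc t * (v * (t * v * t⁻¹)) * t⁻¹ = (t * v * t⁻¹) * ((t * t) * v * (t * t)⁻¹) := by
                simp [mul_assoc]
            _ = (t * v * t⁻¹) * v := by rw [htt]; simp
            _ = v * (t * v * t⁻¹) := setLike_mul_comm (hN.normal.conj_mem v hv t) hv
        rw [h']; exact Subgroup.mem_zpowers _
    have hn' : (Subgroup.zpowers w).Normal := by
      refine Subgroup.normalizer_eq_top_iff.mp (top_le_iff.mp (htop.ge.trans (sup_le ?_ ?_)))
      · exact (hPN.trans (Subgroup.centralizer_le
          (SetLike.coe_subset_coe.mpr (Subgroup.zpowers_le.mpr hw)))).trans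
          (Subgroup.centralizer_le_normalizer _)
      · rw [Subgroup.zpowers_le]
        have hsub : (Subgroup.zpowers w).map (MulAut.conj t).toMonoidHom ≤ Subgroup.zpowers w := by
          rw [MonoidHom.map_zpowers, Subgroup.zpowers_le]
          exact hwt
        rw [← Coprime.conj_smul_eq_map] at hsub
        exact Coprime.mem_normalizer_of_conj_smul_eq
          (Subgroup.eq_of_le_of_card_ge hsub (Coprime.card_conj_smul _ _).ge)
    obtain ⟨k, hk⟩ := IsPGroup.iff_card.mp (P.isPGroup'.to_le ((Subgroup.zpowers_le.mpr hw).trans hNP))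
    have hk0 : k ≠ 0 := fun e => by
      rw [e, pow_zero, Subgroup.card_eq_one] at hk
      exact Subgroup.zpowers_ne_bot.mpr hw1 hk
    have hkn : k ≤ n := (Nat.pow_dvd_pow_iff_le_right hp.one_lt).mp
      (hk ▸ hPc ▸ Subgroup.card_dvd_of_le ((Subgroup.zpowers_le.mpr hw).trans hNP))
    refine Core.isSupersolvable_of_cyclic_normal (Subgroup.zpowers w) (ih (n - k) (by omega) _ p hp ?_)
    have := (Subgroup.zpowers w).card_mul_index
    rw [hk, Subgroup.index_eq_card, hG] at this
    refine Nat.eq_of_mul_eq_mul_left (pow_pos hp.pos k) (this.trans ?_)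
    rw [← mul_assoc, mul_comm (p ^ k) 2, mul_assoc, ← pow_add, Nat.add_sub_cancel' hkn]

/-- A finite group whose order is twice a prime power is supersolvable. -/
theorem result {G : Type*} [Group G] [Finite G] (p n : ℕ) (hp : p.Prime) (hG : Nat.card G = 2 * p ^ n) : Cfsg.IsSupersolvable G := by
  exact aux n G p hp hG

end Cfsg.Agent.S0530
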