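import Cfsg.Statements.S0532
import Cfsg.Agent.Core.Supersolvable
import Mathlib.GroupTheory.IndexNormal
-- import your own Cfsg.Agent.* helpers here

set_option autoImplicit false
open Cfsg

namespace Cfsg.Agent.S0532

universe u
theorem aux : ∀ (n : ℕ) (G : Type u) [Group G] [Finite G], Nat.card G = n →
    (∀ H : Subgroup G, Cfsg.HasSubgroupOfEveryOrder H) → ∀ (p : ℕ) [Fact p.Prime],
    p ∣ Nat.card G → (∀ q : ℕ, q.Prime → q ∣ Nat.card G → q ≤ p) →
    ∀ P : Sylow p G, (P : Subgroup G).Normal := by
  intro n
  induction n using Nat.strong_induction_on with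
  | _ n ih =>
    intro G _ _ hn h p hp hdvd hmax P
    have hne : Nat.card G ≠ 1 := fun e => hp.out.not_dvd_one (e ▸ hdvd)
    have hq : (Nat.card G).minFac.Prime := Nat.minFac_prime hne
    set q := (Nat.card G).minFac with hqdef
    have hqp : q ≤ p := Nat.minFac_le_of_dvd hp.out.two_le hdvd
    by_cases hqe : q = p
    · have htop : (P : Subgroup G) = ⊤ := by
        rw [← Subgroup.index_eq_one, Nat.eq_one_iff_not_exists_prime_dvd]
        intro r hr hd
        have h1 : r ≤ p := hmax r hr (hd.trans (P : Subgroup G).index_dvd_card)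
        have h2 : q ≤ r := Nat.minFac_le_of_dvd hr.two_le (hd.trans (P : Subgroup G).index_dvd_card)
        have h3 : r = p := le_antisymm h1 (hqe ▸ h2)
        exact P.not_dvd_index (h3 ▸ hd)
      rw [htop]; infer_instance
    obtain ⟨M, hM⟩ := Core.hasSubgroupOfEveryOrder_congr Subgroup.topEquiv (h ⊤) (Nat.card G / q)
      (Nat.div_dvd_of_dvd (Nat.minFac_dvd _))
    have hidx : M.index = q := by
      have h1 := M.card_mul_index
      rw [hM] at h1
      have hd : Nat.card G / q * q = Nat.card G := Nat.div_mul_cancel (Nat.minFac_dvd _)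
      exact Nat.eq_of_mul_eq_mul_left (Nat.div_pos (Nat.minFac_le Nat.card_pos) hq.pos)
        (h1.trans hd.symm)
    have hMn : M.Normal := Subgroup.normal_of_index_eq_minFac_card hidx
    have hpM : p ∣ Nat.card M := by
      have h1 := M.card_mul_index
      rw [hidx] at h1
      rw [← h1] at hdvd
      exact (hp.out.dvd_mul.mp hdvd).resolve_right
        fun h2 => hqe ((Nat.prime_dvd_prime_iff_eq hp.out hq).mp h2).symm
    have hlt : Nat.card M < n := hn ▸ Core.card_lt_of_ne_top fun e => by
      rw [e, Subgroup.index_top] at hidx; exact hq.one_lt.ne hidx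
    obtain ⟨Q⟩ := (inferInstance : Nonempty (Sylow p M))
    have hQ := ih _ hlt M rfl (fun H => Core.hasSubgroupOfEveryOrder_congr
      (H.equivMapOfInjective M.subtype M.subtype_injective).symm (h _)) p hpM
      (fun r hr hd => hmax r hr (hd.trans M.card_subgroup_dvd_card)) Q
    have hQc := Q.characteristic_of_normal hQ
    have hn' : ((Q : Subgroup M).map M.subtype).Normal := inferInstance
    have hle : (Q : Subgroup M).map M.subtype ≤ (P : Subgroup G) :=
      (Q.isPGroup'.map _).le_sylow_of_normal P
    have hni : ¬ p ∣ ((Q : Subgroup M).map M.subtype).index := by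
      rw [Subgroup.index_map_subtype, hidx]
      exact fun hd => (hp.out.dvd_mul.mp hd).elim Q.not_dvd_index
        fun h2 => hqe ((Nat.prime_dvd_prime_iff_eq hp.out hq).mp h2).symm
    have heq : ((Q.isPGroup'.map M.subtype).toSylow hni : Subgroup G) = P :=
      (((Q.isPGroup'.map M.subtype).toSylow hni).is_maximal' P.isPGroup'
        (by rw [IsPGroup.toSylow_coe]; exact hle)).symm
    rw [← heq, IsPGroup.toSylow_coe]
    exact hn'

/-- If each subgroup of a finite group satisfies the converse of Lagrange's theorem, then a Sylow subgroup for the largest prime dividing the group order is normal. -/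
theorem result {G : Type*} [Group G] [Finite G] (h : ∀ H : Subgroup G, Cfsg.HasSubgroupOfEveryOrder H) (p : ℕ) [Fact p.Prime] (hdvd : p ∣ Nat.card G) (hmax : ∀ q : ℕ, q.Prime → q ∣ Nat.card G → q ≤ p) (P : Sylow p G) : (P : Subgroup G).Normal := by
  exact aux _ G rfl h p hdvd hmax P

end Cfsg.Agent.S0532
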