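import Cfsg.Statements.S0533
import Cfsg.Agent.S0532
-- import your own Cfsg.Agent.* helpers here

set_option autoImplicit false
open Cfsg

namespace Cfsg.Agent.S0533

universe u
theorem aux : ∀ (n : ℕ) (G : Type u) [Group G] [Finite G], Nat.card G = n →
    (∀ H : Subgroup G, Cfsg.HasSubgroupOfEveryOrder H) → Cfsg.IsSupersolvable G := by
  intro n
  induction n using Nat.strong_induction_on with
  | _ n ih =>
    intro G _ _ hn h
    rcases subsingleton_or_nontrivial G with hs | hs
    · exact Core.isSupersolvable_of_subsingleton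
    have hne : (Nat.card G).primeFactors.Nonempty := Nat.nonempty_primeFactors.mpr Finite.one_lt_card
    set p := (Nat.card G).primeFactors.max' hne with hp
    have hmem := (Nat.card G).primeFactors.max'_mem hne
    have := Fact.mk (Nat.prime_of_mem_primeFactors hmem)
    have hp' : p.Prime := Fact.out
    have hdvd := Nat.dvd_of_mem_primeFactors hmem
    obtain ⟨P⟩ := (inferInstance : Nonempty (Sylow p G))
    have hPn : (P : Subgroup G).Normal := S0532.result h p hdvd
      (fun q hq hd => Finset.le_max' _ q (Nat.mem_primeFactors.mpr ⟨hq, hd, Nat.card_pos.ne'⟩)) P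
    obtain ⟨W, hW⟩ := Core.hasSubgroupOfEveryOrder_congr Subgroup.topEquiv (h ⊤) (Nat.card G / p)
      (Nat.div_dvd_of_dvd hdvd)
    have hidx : W.index = p := by
      have h1 := W.card_mul_index
      rw [hW] at h1
      exact Nat.eq_of_mul_eq_mul_left
        (Nat.div_pos (Nat.le_of_dvd Nat.card_pos hdvd) hp'.pos)
        (h1.trans (Nat.div_mul_cancel hdvd).symm)
    have hWt : W ≠ ⊤ := fun e => by rw [e, Subgroup.index_top] at hidx; exact hp'.one_lt.ne hidx
    have hWs : Cfsg.IsSupersolvable W := ih _ (hn ▸ Core.card_lt_of_ne_top hWt) W rfl fun H =>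
      Core.hasSubgroupOfEveryOrder_congr (H.equivMapOfInjective W.subtype W.subtype_injective).symm (h _)
    have hPW : ¬ (P : Subgroup G) ≤ W := fun e => P.not_dvd_index
      ((dvd_of_eq hidx.symm).trans (Subgroup.index_dvd_of_le e))
    have hlt : W < W ⊔ (P : Subgroup G) := left_lt_sup.mpr hPW
    have htop : W ⊔ (P : Subgroup G) = ⊤ := by
      rw [← Subgroup.index_eq_one]
      rcases (Nat.dvd_prime hp').mp ((Subgroup.index_dvd_of_le (le_sup_left : W ≤ W ⊔ (P : Subgroup G))).trans (dvd_of_eq hidx)) with h1 | h1
      · exact h1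
      · exact absurd (Subgroup.index_strictAnti hlt) (by rw [h1, hidx]; exact lt_irrefl p)
    set U := W ⊓ (P : Subgroup G) with hU
    have hrel : W.relIndex (P : Subgroup G) = p := by
      have h1 := Core.card_sup_mul_card_inf W (P : Subgroup G)
      rw [htop, Subgroup.card_top, ← W.card_mul_index, mul_assoc] at h1
      have h2 := Nat.eq_of_mul_eq_mul_left Nat.card_pos h1
      rw [← hU] at h2
      have h3 := (U.subgroupOf (P : Subgroup G)).card_mul_index
      rw [Coprime.card_subgroupOf inf_le_right, ← h2, hidx, mul_comm p] at h3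
      have h4 := Nat.eq_of_mul_eq_mul_left Nat.card_pos h3
      rwa [show (U.subgroupOf (P : Subgroup G)).index = W.relIndex (P : Subgroup G) from
        Subgroup.inf_relIndex_right W (P : Subgroup G)] at h4
    have hUn : (U.subgroupOf (P : Subgroup G)).Normal := by
      refine Subgroup.normal_of_index_eq_minFac_card ?_
      rw [show (U.subgroupOf (P : Subgroup G)).index = p from
        (Subgroup.inf_relIndex_right W (P : Subgroup G)).trans hrel]
      obtain ⟨k, hk⟩ := IsPGroup.iff_card.mp P.isPGroup'
      have hk0 : k ≠ 0 := fun e => by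
        have := P.dvd_card_of_dvd_card hdvd
        rw [hk, e, pow_zero] at this
        exact hp'.not_dvd_one this
      rw [hk, Nat.pow_minFac hk0, hp'.minFac_eq]
    have hUN : U.Normal := by
      refine Subgroup.normalizer_eq_top_iff.mp (top_le_iff.mp (htop.ge.trans (sup_le ?_ ?_)))
      · exact Coprime.le_normalizer_inf Subgroup.le_normalizer
          (by rw [Subgroup.normalizer_eq_top]; exact le_top)
      · exact (Subgroup.normal_subgroupOf_iff_le_normalizer inf_le_right).mp hUn
    refine Core.isSupersolvable_of_supplement (P : Subgroup G) W U P.isPGroup' hWs htop inf_le_right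
      inf_le_left ?_
    set f := QuotientGroup.mk' U with hf
    have hfs := QuotientGroup.mk'_surjective U
    have hPbn := Core.map_le_of_surjective_normal (N := U) hPn
    have hc : Nat.card ((P : Subgroup G).map f) = p := by
      rw [hf, ← Subgroup.relIndex_ker, QuotientGroup.ker_mk', hU, Subgroup.inf_relIndex_right, hrel]
    have : IsCyclic ((P : Subgroup G).map f) := Core.isCyclic_of_card_prime (by rw [hc]; exact hp')
    refine Core.isSupersolvable_of_cyclic_normal ((P : Subgroup G).map f) (Core.isSupersolvable_of_surjective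
      (f := ((QuotientGroup.mk' ((P : Subgroup G).map f)).comp f).comp W.subtype) ?_ hWs)
    intro z
    obtain ⟨z1, rfl⟩ := QuotientGroup.mk'_surjective _ z
    obtain ⟨g, rfl⟩ := hfs z1
    have hg : g ∈ W ⊔ (P : Subgroup G) := htop ▸ Subgroup.mem_top g
    obtain ⟨w, hw, x, hx, rfl⟩ := Subgroup.mem_sup_of_normal_right.mp hg
    refine ⟨⟨w, hw⟩, ?_⟩
    show QuotientGroup.mk' _ (f w) = QuotientGroup.mk' _ (f (w * x))
    rw [map_mul f, map_mul, show QuotientGroup.mk' ((P : Subgroup G).map f) (f x) = 1 from
      (QuotientGroup.eq_one_iff (f x)).mpr (Subgroup.mem_map_of_mem f hx), mul_one]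

/-- If every subgroup of a finite group has subgroups of all orders dividing its order, then the group is supersolvable. -/
theorem result {G : Type*} [Group G] [Finite G] (h : ∀ H : Subgroup G, Cfsg.HasSubgroupOfEveryOrder H) : Cfsg.IsSupersolvable G := by
  exact aux _ G rfl h

end Cfsg.Agent.S0533
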