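import Cfsg.Statements.S0534
import Cfsg.Agent.Core.Supersolvable
-- import your own Cfsg.Agent.* helpers here

set_option autoImplicit false
open Cfsg

namespace Cfsg.Agent.S0534

/-- Let G be a finite solvable group and A a finite abelian group such that every prime dividing the order of A divides the order of G and, for each prime p dividing the order of G, the exponent of p in the order of A is one less than its exponent in the order of G. Then G × A has a subgroup of every order dividing its order. -/
theorem result {G A : Type*} [Group G] [CommGroup A] [Finite G] [Finite A] [Group.IsSolvable G] (hA : ∀ p : ℕ, p.Prime → p ∣ Nat.card A → p ∣ Nat.card G) (hexp : ∀ p : ℕ, p.Prime → p ∣ Nat.card G → (Nat.card A).factorization p + 1 = (Nat.card G).factorization p) : Cfsg.HasSubgroupOfEveryOrder (G × A) := by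
  classical
  intro d hd
  rw [Nat.card_prod] at hd
  set a := Nat.card A with ha
  set g := Nat.card G with hg
  have hd0 : d ≠ 0 := fun e => by
    rw [e, zero_dvd_iff] at hd
    exact absurd hd (Nat.mul_pos Nat.card_pos Nat.card_pos).ne'
  -- the primes whose exponent in `d` is too big for `A`
  set S := g.primeFactors.filter fun p => a.factorization p < d.factorization p with hS
  set m := ∏ p ∈ S, p ^ g.factorization p with hm
  set r := ∏ p ∈ g.primeFactors \ S, p ^ g.factorization p with hr
  have hg' : g = m * r := by
    have h := Nat.prod_factorization_pow_eq_self (Nat.card_pos (α := G)).ne'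
    rw [Finsupp.prod, Nat.support_factorization, ← hg,
      ← Finset.prod_sdiff (Finset.filter_subset _ _ : S ⊆ g.primeFactors)] at h
    rw [hm, hr, mul_comm]
    exact h.symm
  have hpr : ∀ p ∈ g.primeFactors, p.Prime := fun p hp => Nat.prime_of_mem_primeFactors hp
  have hcop : m.Coprime r := Nat.Coprime.prod_left fun p hp => Nat.Coprime.prod_right fun q hq =>
    Nat.Coprime.pow _ _ ((Nat.coprime_primes (hpr p (Finset.mem_filter.mp hp).1)
      (hpr q (Finset.mem_sdiff.mp hq).1)).mpr fun e => (Finset.mem_sdiff.mp hq).2 (e ▸ hp))
  obtain ⟨H, hH⟩ := Core.exists_hall (G := G) hg' hcop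
  have hm0 : m ≠ 0 := fun e => (Nat.card_pos (α := G)).ne' (by rw [← hg, hg', e, zero_mul])
  have hmf : ∀ p, p.Prime → m.factorization p = if p ∈ S then g.factorization p else 0 := by
    intro p hp
    rw [hm, Nat.factorization_prod fun q hq => pow_ne_zero _ (hpr q (Finset.mem_filter.mp hq).1).ne_zero]
    simp only [Finsupp.finsetSum_apply]
    rw [Finset.sum_congr rfl fun q hq => by
      rw [Nat.Prime.factorization_pow (hpr q (Finset.mem_filter.mp hq).1), Finsupp.single_apply]]
    rw [Finset.sum_ite_eq']
  have hfd : ∀ p, p.Prime → d.factorization p ≤ g.factorization p + a.factorization p := by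
    intro p hp
    have h := (Nat.factorization_le_iff_dvd hd0 (Nat.mul_pos Nat.card_pos Nat.card_pos).ne').mpr hd p
    rwa [Nat.factorization_mul Nat.card_pos.ne' Nat.card_pos.ne', Finsupp.add_apply] at h
  have hmd : m ∣ d := by
    rw [← Nat.factorization_prime_le_iff_dvd hm0 hd0]
    intro p hp
    rw [hmf p hp]
    split_ifs with hpS
    · have h1 := (Finset.mem_filter.mp hpS)
      have h2 := hexp p hp (Nat.dvd_of_mem_primeFactors h1.1)
      have h3 : a.factorization p + 1 ≤ d.factorization p := h1.2
      omega
    · exact Nat.zero_le _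
  obtain ⟨e, hde⟩ := hmd
  have he0 : e ≠ 0 := fun h => hd0 (by rw [hde, h, mul_zero])
  have hea : e ∣ a := by
    rw [← Nat.factorization_prime_le_iff_dvd he0 (show a ≠ 0 from Nat.card_pos.ne')]
    intro p hp
    have h := hfd p hp
    rw [hde, Nat.factorization_mul hm0 he0, Finsupp.add_apply, hmf p hp] at h
    split_ifs at h with hpS
    · omega
    · rw [zero_add] at h
      by_cases hpg : p ∈ g.primeFactors
      · by_contra hlt
        refine hpS (Finset.mem_filter.mpr ⟨hpg, ?_⟩)
        rw [hde, Nat.factorization_mul hm0 he0, Finsupp.add_apply, hmf p hp, if_neg hpS, zero_add]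
        exact not_le.mp hlt
      · have h0 : g.factorization p = 0 :=
          Finsupp.notMem_support_iff.mp (by rwa [Nat.support_factorization])
        rw [h0, zero_add] at h
        exact h
  obtain ⟨B, hB⟩ := Core.hasSubgroupOfEveryOrder_of_isSupersolvable
    (Core.isSupersolvable_of_isNilpotent (inferInstance : Group.IsNilpotent A)) e hea
  exact ⟨H.prod B, by rw [Nat.card_congr (H.prodEquiv B).toEquiv, Nat.card_prod, hH, hB, hde]⟩

end Cfsg.Agent.S0534
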