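import Cfsg.Statements.S0535
import Cfsg.Agent.Core.Complements
-- import your own Cfsg.Agent.* helpers here

set_option autoImplicit false
open Cfsg

namespace Cfsg.Agent.S0535

theorem exists_complement {G : Type*} [Group G] [Finite G]
    (h : ∀ H : Subgroup G, H ≠ ⊥ → ∀ p : ℕ, p.Prime → p ∣ Nat.card H →
      ∃ K : Subgroup H, K ≠ ⊤ ∧ ∃ k : ℕ, K.index = p ^ k) (p : ℕ) (hp : p.Prime) :
    ∀ (n : ℕ) (H : Subgroup G), Nat.card H = n →
      ∃ K : Subgroup G, K ≤ H ∧ (Nat.card K).Coprime p ∧ ∃ k, Nat.card H = Nat.card K * p ^ k := by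
  intro n
  induction n using Nat.strong_induction_on with
  | _ n ih =>
    intro H hn
    by_cases hd : p ∣ Nat.card H
    · have hb : H ≠ ⊥ := fun e => by
        rw [e, Subgroup.card_bot] at hd
        exact hp.ne_one (Nat.dvd_one.mp hd)
      obtain ⟨K, hK, k, hk⟩ := h H hb p hp hd
      have hc : Nat.card (K.map H.subtype) = Nat.card K :=
        Subgroup.card_map_of_injective H.subtype_injective
      obtain ⟨L, hL, hcop, l, hl⟩ := ih _ (hn ▸ hc ▸ Core.card_lt_of_ne_top hK) _ rfl
      refine ⟨L, hL.trans (Subgroup.map_subtype_le K), hcop, l + k, ?_⟩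
      rw [pow_add, ← mul_assoc, ← hl, hc, ← hk, K.card_mul_index]
    · exact ⟨H, le_rfl, (hp.coprime_iff_not_dvd.mpr hd).symm, 0, by simp⟩

/-- Suppose that for every nontrivial subgroup H of a finite group and every prime p dividing the order of H there is a proper subgroup of H whose index in H is a power of p. Then the group is solvable. -/
theorem result {G : Type*} [Group G] [Finite G] (h : ∀ H : Subgroup G, H ≠ ⊥ → ∀ p : ℕ, p.Prime → p ∣ Nat.card H → ∃ K : Subgroup H, K ≠ ⊤ ∧ ∃ k : ℕ, K.index = p ^ k) : Group.IsSolvable G := by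
  refine Core.isSolvable_of_complements fun p hp => ?_
  obtain ⟨K, -, hc, k, hk⟩ := exists_complement h p hp _ ⊤ rfl
  refine ⟨K, ?_⟩
  rw [Subgroup.card_top] at hk
  have h1 : K.index = p ^ k := Nat.eq_of_mul_eq_mul_left (Nat.card_pos (α := K)) (K.card_mul_index.trans hk)
  rw [h1, hk, Nat.factorization_mul Nat.card_pos.ne' (pow_ne_zero _ hp.ne_zero), Finsupp.add_apply,
    Nat.factorization_eq_zero_of_not_dvd (fun hd => hp.ne_one (Nat.eq_one_of_dvd_coprimes hc hd dvd_rfl)),
    hp.factorization_pow, Finsupp.single_eq_same, zero_add]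

end Cfsg.Agent.S0535
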