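import Cfsg.Statements.S0537
import Cfsg.Agent.Core.MinimalNonNilpotent
-- import your own Cfsg.Agent.* helpers here

set_option autoImplicit false
open Cfsg

namespace Cfsg.Agent.S0537

open scoped commutatorElement

/-- A finite non-abelian group in which every proper subgroup is abelian is either of prime-power order, or is generated by a cyclic Sylow p-subgroup and a normal Sylow q-subgroup that is elementary abelian, for distinct primes p and q. -/
theorem result {G : Type*} [Group G] [Finite G] (hna : ¬ IsMulCommutative G) (h : ∀ H : Subgroup G, H ≠ ⊤ → IsMulCommutative H) : (∃ p : ℕ, p.Prime ∧ IsPGroup p G) ∨ ∃ p q : ℕ, p.Prime ∧ q.Prime ∧ p ≠ q ∧ ∃ (P : Sylow p G) (Q : Sylow q G), IsCyclic P ∧ (Q : Subgroup G).Normal ∧ Cfsg.IsElementaryAbelian q (Q : Subgroup G) ∧ (P : Subgroup G) ⊔ Q = ⊤ := by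
  refine or_iff_not_imp_left.mpr fun hnp => ?_
  push Not at hnp
  have hsyl : ∀ (p : ℕ) [Fact p.Prime] (P : Sylow p G), (P : Subgroup G) ≠ ⊤ := fun p hp P e =>
    hnp p hp.out (by have h2 := P.isPGroup'; rw [e] at h2; exact h2.of_equiv Subgroup.topEquiv)
  have hmin : IsMinimalNonNilpotent G := by
    refine ⟨fun hnil => hna ?_, fun H hH => by have := h H hH; open scoped IsMulCommutative in exact CommGroup.isNilpotent⟩
    exact Core.isMulCommutative_of_nilpotent fun p _ P => h _ (hsyl p P)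
  obtain ⟨p, q, hp, hq, hne, P, Q, hc, hPn, hQn, hsup⟩ := Core.minimalNonNilpotent_structure hmin
  have := Fact.mk hp
  have := Fact.mk hq
  refine ⟨p, q, hp, hq, hne, P, Q, hc, hQn, ?_, hsup⟩
  have hQc := h _ (hsyl q Q)
  refine ⟨hQc, ?_⟩
  by_contra hexp
  push Not at hexp
  obtain ⟨y₀, hy₀, hy₀q⟩ := hexp
  obtain ⟨g, hg⟩ := hc.exists_generator
  have comm : ∀ a ∈ (Q : Subgroup G), ∀ b ∈ (Q : Subgroup G), a * b = b * a := fun a ha b hb =>
    congrArg Subtype.val (hQc.is_comm.comm ⟨a, ha⟩ ⟨b, hb⟩)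
  let Ω : Subgroup G :=
    { carrier := {y | y ∈ (Q : Subgroup G) ∧ y ^ q = 1}
      one_mem' := ⟨one_mem _, one_pow _⟩
      mul_mem' := fun {a b} ha hb => ⟨mul_mem ha.1 hb.1, by
        rw [(show Commute a b from comm a ha.1 b hb.1).mul_pow, ha.2, hb.2, one_mul]⟩
      inv_mem' := fun {a} ha => ⟨inv_mem ha.1, by rw [inv_pow, ha.2, inv_one]⟩ }
  have hΩn : Ω.Normal := ⟨fun a ha g => ⟨hQn.conj_mem a ha.1 g, by rw [conj_pow, ha.2, mul_one, mul_inv_cancel]⟩⟩
  -- the image of the `q`-th power map is centralised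
  let R : Subgroup G := Subgroup.closure ((fun y => y ^ q) '' ((Q : Subgroup G) : Set G))
  have hRQ : R ≤ (Q : Subgroup G) := (Subgroup.closure_le _).mpr fun _ ⟨y, hy, e⟩ => e ▸ pow_mem hy q
  have hd : Disjoint (P : Subgroup G) Q := IsPGroup.disjoint_of_ne p q hne _ _ P.isPGroup' Q.isPGroup'
  have key : ∀ L : Subgroup G, L.Normal → L < (Q : Subgroup G) → ∀ l ∈ L, Commute (g : G) l := by
    intro L hL hlt l hl
    have hproper : (P : Subgroup G) ⊔ L ≠ ⊤ := by
      intro e
      have h1 := Core.card_sup_of_inf_eq_bot (H := (P : Subgroup G)) (N := (Q : Subgroup G)) hd.eq_bot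
      have h2 := Core.card_sup_of_inf_eq_bot (H := (P : Subgroup G)) (N := L)
        (le_bot_iff.mp ((inf_le_inf_left _ hlt.le).trans hd.le_bot))
      rw [hsup, Subgroup.card_top] at h1
      rw [e, Subgroup.card_top, h1] at h2
      exact (Core.card_lt_of_lt hlt).ne' (Nat.eq_of_mul_eq_mul_left Nat.card_pos h2)
    exact congrArg Subtype.val ((h _ hproper).is_comm.comm ⟨g, Subgroup.mem_sup_left g.2⟩
      ⟨l, Subgroup.mem_sup_right hl⟩)
  have hΩlt : Ω < (Q : Subgroup G) := lt_of_le_of_ne (fun a ha => ha.1)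
    fun e => hy₀q ((e.ge hy₀ : y₀ ∈ Ω).2)
  have hRn : R.Normal := by
    refine Subgroup.normalizer_eq_top_iff.mp (top_le_iff.mp fun a _ => ?_)
    have hstab : ∀ b : G, ∀ x ∈ R, b * x * b⁻¹ ∈ R := fun b x hx => by
      induction hx using Subgroup.closure_induction with
      | mem x hx =>
        obtain ⟨y, hy, rfl⟩ := hx
        refine Subgroup.subset_closure ⟨b * y * b⁻¹, hQn.conj_mem y hy b, ?_⟩
        exact conj_pow
      | one => simp
      | mul x y _ _ hx hy => simpa [mul_assoc] using mul_mem hx hy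
      | inv x _ hx => simpa [mul_assoc] using inv_mem hx
    refine Subgroup.mem_normalizer_iff.mpr fun x => ⟨hstab a x, fun hx => ?_⟩
    have h2 := hstab a⁻¹ _ hx
    rwa [inv_inv, show a⁻¹ * (a * x * a⁻¹) * a = x by group] at h2
  have hRlt : R < (Q : Subgroup G) := by
    refine lt_of_le_of_ne hRQ fun e => ?_
    -- the power map would be onto, hence injective
    let f : ↥(Q : Subgroup G) → ↥(Q : Subgroup G) := fun y => y ^ q
    have hsurj : Function.Surjective f := by
      intro z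
      have hz : (z : G) ∈ R := e.ge z.2
      have : ∃ y ∈ (Q : Subgroup G), y ^ q = (z : G) := by
        generalize (z : G) = w at hz
        induction hz using Subgroup.closure_induction with
        | mem x hx => obtain ⟨y, hy, rfl⟩ := hx; exact ⟨y, hy, rfl⟩
        | one => exact ⟨1, one_mem _, one_pow _⟩
        | mul x y _ _ hx hy =>
          obtain ⟨a, ha, rfl⟩ := hx; obtain ⟨b, hb, rfl⟩ := hy
          exact ⟨a * b, mul_mem ha hb, (show Commute a b from comm a ha b hb).mul_pow q⟩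
        | inv x _ hx => obtain ⟨a, ha, rfl⟩ := hx; exact ⟨a⁻¹, inv_mem ha, inv_pow a q⟩
      obtain ⟨y, hy, hyz⟩ := this
      exact ⟨⟨y, hy⟩, Subtype.ext hyz⟩
    have hinj := Finite.injective_iff_surjective.mpr hsurj
    have h1 : Nontrivial (Q : Subgroup G) :=
      nontrivial_of_ne ⟨y₀, hy₀⟩ 1 fun e => hy₀q (by
        rw [show y₀ = 1 from congrArg Subtype.val e, one_pow])
    obtain ⟨k, hk'⟩ := IsPGroup.iff_card.mp Q.isPGroup'
    have hk : 0 < k := Nat.pos_of_ne_zero fun h0 => (Finite.one_lt_card (α := (Q : Subgroup G))).ne'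
      (by rw [hk', h0, pow_zero])
    obtain ⟨z, hz⟩ := exists_prime_orderOf_dvd_card' (G := (Q : Subgroup G)) q
      (hk' ▸ dvd_pow_self q hk.ne')
    have hz1 : z = 1 := hinj (show z ^ q = 1 ^ q by rw [one_pow]; exact orderOf_dvd_iff_pow_eq_one.mp (dvd_of_eq hz))
    rw [hz1, orderOf_one] at hz
    exact hq.one_lt.ne hz
  refine hPn (Subgroup.normalizer_eq_top_iff.mp (top_le_iff.mp (hsup.ge.trans
    (sup_le Subgroup.le_normalizer fun y hy => ?_))))
  refine Subgroup.centralizer_le_normalizer _ (Subgroup.mem_centralizer_iff.mpr fun x hx => ?_)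
  obtain ⟨i, hi⟩ := Subgroup.mem_zpowers_iff.mp (hg ⟨x, hx⟩)
  have hgy : Commute (g : G) y := by
    have hz : ⁅(g : G), y⁆ ∈ Ω := by
      have hc2 : Commute ((g : G) * y * (g : G)⁻¹) y⁻¹ :=
        comm _ (hQn.conj_mem y hy _) _ (inv_mem hy)
      refine ⟨mul_mem (hQn.conj_mem y hy _) (inv_mem hy), ?_⟩
      rw [commutatorElement_def, hc2.mul_pow, conj_pow,
        (key R hRn hRlt (y ^ q) (Subgroup.subset_closure ⟨y, hy, rfl⟩)).eq, mul_inv_cancel_right,
        inv_pow, mul_inv_cancel]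
    have hgz := key Ω hΩn hΩlt _ hz
    have hconj : (g : G) * y * (g : G)⁻¹ = ⁅(g : G), y⁆ * y := by
      rw [commutatorElement_def, inv_mul_cancel_right]
    have hpowconj : ∀ n : ℕ, (g : G) ^ n * y * ((g : G) ^ n)⁻¹ = ⁅(g : G), y⁆ ^ n * y := by
      intro n
      induction n with
      | zero => simp
      | succ n ih =>
        calc (g : G) ^ (n + 1) * y * ((g : G) ^ (n + 1))⁻¹
            = (g : G) * ((g : G) ^ n * y * ((g : G) ^ n)⁻¹) * (g : G)⁻¹ := by rw [pow_succ']; group
          _ = ((g : G) * ⁅(g : G), y⁆ ^ n * (g : G)⁻¹) * ((g : G) * y * (g : G)⁻¹) := by rw [ih]; group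
          _ = _ := by rw [(hgz.pow_right n).eq, mul_inv_cancel_right, hconj, pow_succ, mul_assoc]
    have h1 := hpowconj (orderOf (g : G))
    rw [pow_orderOf_eq_one, one_mul, inv_one, mul_one] at h1
    have h2 : ⁅(g : G), y⁆ ^ orderOf (g : G) = 1 := by
      have := h1.symm; simpa using this
    have hcop : (orderOf (g : G)).Coprime q := by
      obtain ⟨k, hk⟩ := IsPGroup.iff_orderOf.mp P.isPGroup' g
      rw [Subgroup.orderOf_coe, hk]
      exact ((Nat.coprime_primes hp hq).mpr hne).pow_left k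
    have h3 := pow_gcd_eq_one.mpr ⟨h2, hz.2⟩
    rw [hcop.gcd_eq_one, pow_one, commutatorElement_eq_one_iff_commute] at h3
    exact h3
  have hgi : (g : G) ^ i = x := congrArg Subtype.val hi
  rw [← hgi]
  exact (hgy.zpow_left i).eq

end Cfsg.Agent.S0537
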