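import Cfsg.Statements.S0539
import Cfsg.Agent.Core.Zipper
-- import your own Cfsg.Agent.* helpers here

set_option autoImplicit false
open Pointwise
open Cfsg

namespace Cfsg.Agent.S0539

open scoped Pointwise

/-- Let S be a family of subnormal subgroups of a finite group that is closed under conjugation, and S₀ a proper subfamily. Then some member of S not in S₀ normalizes the join of S₀. -/
theorem result {G : Type*} [Group G] [Finite G] (S S₀ : Set (Subgroup G)) (hS : ∀ U ∈ S, U.IsSubnormal) (hconj : ∀ U ∈ S, ∀ g : G, MulAut.conj g • U ∈ S) (h₀ : S₀ ⊂ S) : ∃ X ∈ S, X ∉ S₀ ∧ X ≤ Subgroup.normalizer ((sSup S₀ : Subgroup G) : Set G) := by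
  obtain ⟨hsub, hne⟩ := h₀
  obtain ⟨X, hX, hX0⟩ := Set.not_subset.mp hne
  rcases Core.exists_conj_le_normalizer (Layer.isSubnormal_sSup fun U hU => hS U (hsub hU)) with h | ⟨x, hx, hle⟩
  · exact ⟨X, hX, hX0, h ▸ le_top⟩
  · by_contra hno
    push Not at hno
    refine hx (Coprime.mem_normalizer_of_conj_smul_eq (Subgroup.eq_of_le_of_card_ge ?_
      (Coprime.card_conj_smul x _).ge))
    rw [Coprime.conj_smul_eq_map, Subgroup.map_le_iff_le_comap]
    refine sSup_le fun U hU => ?_
    rw [← Subgroup.map_le_iff_le_comap, ← Coprime.conj_smul_eq_map]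
    refine le_sSup ?_
    by_contra h0
    exact hno _ (hconj U (hsub hU) x) h0
      ((Subgroup.pointwise_smul_le_pointwise_smul_iff.mpr (le_sSup hU)).trans hle)

end Cfsg.Agent.S0539
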