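import Cfsg.Statements.S0540
import Cfsg.Agent.S0539
-- import your own Cfsg.Agent.* helpers here

set_option autoImplicit false
open Pointwise
open Cfsg

namespace Cfsg.Agent.S0540

open scoped Pointwise
theorem aux {G : Type*} [Group G] [Finite G] (A : Subgroup G) (U : Set (Subgroup G))
    (S : Subgroup G → Set (Subgroup G))
    (hS : ∀ V B : Subgroup G, B ∈ S V ↔ (∃ g : G, B = MulAut.conj g • A) ∧ B ≤ V ∧ (B.subgroupOf V).IsSubnormal)
    (W : Subgroup G) (v : G) (hv : v ∈ W) (B : Subgroup G) (hB : B ∈ S W) : MulAut.conj v • B ∈ S W := by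
  obtain ⟨⟨g, rfl⟩, hle, hsn⟩ := (hS W B).mp hB
  refine (hS W _).mpr ⟨⟨v * g, (Coprime.conj_mul_smul v g A).symm⟩,
    Coprime.conj_smul_le_self (Subgroup.le_normalizer hv) hle, ?_⟩
  have h1 := Core.isSubnormal_conj hsn (⟨v, hv⟩ : W)
  have e : MulAut.conj (⟨v, hv⟩ : W) • (MulAut.conj g • A).subgroupOf W =
      (MulAut.conj v • MulAut.conj g • A).subgroupOf W := by
    ext y
    simp only [Subgroup.mem_subgroupOf, Coprime.mem_conj_smul, Subgroup.coe_mul, Subgroup.coe_inv]
  rwa [e] at h1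

theorem step {G : Type*} [Group G] [Finite G] (A : Subgroup G)
    (S : Subgroup G → Set (Subgroup G))
    (hS : ∀ V B : Subgroup G, B ∈ S V ↔ (∃ g : G, B = MulAut.conj g • A) ∧ B ≤ V ∧ (B.subgroupOf V).IsSubnormal)
    (W : Subgroup G) (D : Set (Subgroup G)) (hD : D ⊂ S W) :
    ∃ X ∈ S W, X ∉ D ∧ X ≤ Subgroup.normalizer ((sSup D : Subgroup G) : Set G) := by
  have hle : ∀ B ∈ S W, B ≤ W := fun B hB => ((hS W B).mp hB).2.1
  set f : Subgroup G → Subgroup W := fun B => B.subgroupOf W with hf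
  have hinj : ∀ B ∈ S W, ∀ C ∈ S W, f B = f C → B = C := fun B hB C hC e => by
    rw [← Subgroup.map_subgroupOf_eq_of_le (hle B hB), ← Subgroup.map_subgroupOf_eq_of_le (hle C hC)]
    exact congrArg (Subgroup.map W.subtype) e
  have hsd : f '' D ⊂ f '' S W := by
    refine ⟨Set.image_mono hD.1, fun h => hD.2 fun B hB => ?_⟩
    obtain ⟨C, hC, e⟩ := h (Set.mem_image_of_mem f hB)
    rwa [← hinj C (hD.1 hC) B hB e]
  obtain ⟨X', ⟨X, hX, rfl⟩, hX0, hN⟩ := S0539.result (f '' S W) (f '' D)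
    (by rintro _ ⟨B, hB, rfl⟩; exact ((hS W B).mp hB).2.2)
    (by
      rintro _ ⟨B, hB, rfl⟩ v
      refine ⟨MulAut.conj (v : G) • B, aux A ∅ S hS W v v.2 B hB, ?_⟩
      ext y
      simp only [hf, Subgroup.mem_subgroupOf, Coprime.mem_conj_smul, Subgroup.coe_mul, Subgroup.coe_inv])
    hsd
  refine ⟨X, hX, fun h => hX0 ⟨X, h, rfl⟩, ?_⟩
  have h2 := Subgroup.map_mono (f := W.subtype) hN
  rw [hf, Subgroup.map_subgroupOf_eq_of_le (hle X hX)] at h2
  have hD' : (sSup (f '' D)).map W.subtype = sSup D := by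
    rw [sSup_image, Subgroup.map_iSup]
    simp only [Subgroup.map_iSup]
    rw [sSup_eq_iSup]
    refine iSup_congr fun B => iSup_congr fun hB => ?_
    exact Subgroup.map_subgroupOf_eq_of_le (hle B (hD.1 hB))
  refine h2.trans ((Subgroup.le_normalizer_map _).trans ?_)
  rw [hD']

/-- A uniqueness lemma of zipper type. Let A be a subgroup of a finite group G and U a nonempty family of subgroups. For V in U write S(V) for the set of conjugates of A that lie in V and are subnormal in V. Assume: A belongs to S(V) for every V in U; a member of some S(W) that lies in V belongs to S(V); and for all V, W in U the normalizer of the join of S(V) ∩ S(W) lies in some member of U. Then U has a greatest element. -/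
theorem result {G : Type*} [Group G] [Finite G] (A : Subgroup G) (U : Set (Subgroup G)) (hU : U.Nonempty) (S : Subgroup G → Set (Subgroup G)) (hS : ∀ V B : Subgroup G, B ∈ S V ↔ (∃ g : G, B = MulAut.conj g • A) ∧ B ≤ V ∧ (B.subgroupOf V).IsSubnormal) (h1 : ∀ V ∈ U, A ∈ S V) (h2 : ∀ V ∈ U, ∀ W ∈ U, ∀ B ∈ S W, B ≤ V → B ∈ S V) (h3 : ∀ V ∈ U, ∀ W ∈ U, ∃ X ∈ U, Subgroup.normalizer ((sSup (S V ∩ S W) : Subgroup G) : Set G) ≤ X) : ∃ M ∈ U, ∀ V ∈ U, V ≤ M := by
  suffices huniq : ∀ (n : ℕ) (V W : Subgroup G), (S V ∩ S W).ncard = n → V ∈ U → W ∈ U →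
      (∀ X ∈ U, V ≤ X → X = V) → (∀ X ∈ U, W ≤ X → X = W) → V = W by
    obtain ⟨M, hM, hMax⟩ := (Set.toFinite U).exists_maximal hU
    refine ⟨M, hM, fun V hV => ?_⟩
    obtain ⟨V', hV', hMax'⟩ := (Set.toFinite {X | X ∈ U ∧ V ≤ X}).exists_maximal ⟨V, hV, le_rfl⟩
    have e := huniq _ M V' rfl hM hV'.1 (fun X hX h => le_antisymm (hMax hX h) h)
      fun X hX h => le_antisymm (hMax' ⟨hX, hV'.2.trans h⟩ h) h
    exact e ▸ hV'.2
  intro n0
  -- downward induction on the size of `S V ∩ S W`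
  induction h : (Nat.card (Subgroup G) - n0) using Nat.strong_induction_on generalizing n0 with
  | _ k ih =>
    intro V W hn hV hW hmaxV hmaxW
    have hmax : ∀ X ∈ U, ∃ Y ∈ U, X ≤ Y ∧ ∀ Z ∈ U, Y ≤ Z → Z = Y := fun X hX => by
      obtain ⟨Y, hY, hY'⟩ := (Set.toFinite {Y | Y ∈ U ∧ X ≤ Y}).exists_maximal ⟨X, hX, le_rfl⟩
      exact ⟨Y, hY.1, hY.2, fun Z hZ h => le_antisymm (hY' ⟨hZ, hY.2.trans h⟩ h) h⟩
    obtain ⟨X, hX, hNX⟩ := h3 V hV W hW
    obtain ⟨Y, hY, hXY, hmaxY⟩ := hmax X hX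
    have hnorm : ∀ V : Subgroup G, V ≤ Subgroup.normalizer ((sSup (S V) : Subgroup G) : Set G) := by
      intro V v hv
      refine Coprime.mem_normalizer_of_conj_smul_eq (Subgroup.eq_of_le_of_card_ge ?_
        (Coprime.card_conj_smul v _).ge)
      rw [Coprime.conj_smul_eq_map, Subgroup.map_le_iff_le_comap]
      refine sSup_le fun B hB => ?_
      rw [← Subgroup.map_le_iff_le_comap, ← Coprime.conj_smul_eq_map]
      exact le_sSup (aux A ∅ S hS V v hv B hB)
    -- if `D ⊊ S W` then `Y = W`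
    have side : ∀ V W : Subgroup G, V ∈ U → W ∈ U → (∀ X ∈ U, W ≤ X → X = W) →
        (S V ∩ S W).ncard = n0 → S V ∩ S W ⊂ S W →
        Subgroup.normalizer ((sSup (S V ∩ S W) : Subgroup G) : Set G) ≤ Y → Y = W := by
      intro V W hV hW hmaxW hn hss hNY
      obtain ⟨B, hB, hB0, hBN⟩ := step A S hS W _ hss
      have hsub : insert B (S V ∩ S W) ⊆ S Y ∩ S W := by
        refine Set.insert_subset ⟨h2 Y hY W hW B hB (hBN.trans hNY), hB⟩ fun C hC => ⟨?_, hC.2⟩
        exact h2 Y hY W hW C hC.2 (((le_sSup hC).trans Subgroup.le_normalizer).trans hNY)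
      have hlt : n0 < (S Y ∩ S W).ncard := by
        have h1 := Set.ncard_le_ncard hsub (Set.toFinite _)
        rw [Set.ncard_insert_of_notMem hB0 (Set.toFinite _), hn] at h1
        omega
      have hle : (S Y ∩ S W).ncard ≤ Nat.card (Subgroup G) := Set.ncard_le_card _
      exact ih _ (by omega) _ rfl Y W rfl hY hW hmaxY hmaxW
    by_cases h1 : S V ∩ S W ⊂ S W
    · have eW := side V W hV hW hmaxW hn h1 (hNX.trans hXY)
      by_cases h2' : S V ∩ S W ⊂ S V
      · have eV := side W V hW hV hmaxV (by rwa [Set.inter_comm]) (by rwa [Set.inter_comm])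
          (by rw [Set.inter_comm]; exact hNX.trans hXY)
        exact eV.symm.trans eW
      · have e : S V ∩ S W = S V := by
          by_contra hne
          exact h2' (Set.ssubset_iff_subset_ne.mpr ⟨Set.inter_subset_left, hne⟩)
        rw [e] at hNX
        exact (hmaxV W hW (eW ▸ (hnorm V).trans (hNX.trans hXY))).symm
    · have e : S V ∩ S W = S W := by
        by_contra hne
        exact h1 (Set.ssubset_iff_subset_ne.mpr ⟨Set.inter_subset_right, hne⟩)
      by_cases h2' : S V ∩ S W ⊂ S V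
      · have eV := side W V hW hV hmaxV (by rwa [Set.inter_comm]) (by rwa [Set.inter_comm])
          (by rw [Set.inter_comm]; exact hNX.trans hXY)
        rw [e] at hNX
        exact hmaxW V hV (eV ▸ (hnorm W).trans (hNX.trans hXY))
      · have e' : S V ∩ S W = S V := by
          by_contra hne
          exact h2' (Set.ssubset_iff_subset_ne.mpr ⟨Set.inter_subset_left, hne⟩)
        have hW' : W ≤ Y := (hnorm W).trans ((e ▸ hNX).trans hXY)
        have hV' : V ≤ Y := (hnorm V).trans ((e' ▸ hNX).trans hXY)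
        exact (hmaxV Y hY hV').symm.trans (hmaxW Y hY hW')

end Cfsg.Agent.S0540
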