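import Cfsg.Statements.S0547
import Cfsg.Agent.Core.Primitive
-- import your own Cfsg.Agent.* helpers here

set_option autoImplicit false
open Cfsg

namespace Cfsg.Agent.S0547

/-- Let a finite solvable group G act faithfully and primitively on a set, and let M be a minimal normal subgroup of G. Then M is transitive with trivial point stabilizers, and the number of points equals the order of M, which is a prime power p ^ d with d ≥ 1. -/
theorem result {G : Type*} [Group G] [Finite G] [Group.IsSolvable G] {Ω : Type*} [Nonempty Ω] [MulAction G Ω] [FaithfulSMul G Ω] (hprim : MulAction.IsPreprimitive G Ω) (M : Subgroup G) [M.Normal] (hM : M ≠ ⊥) (hmin : ∀ K : Subgroup G, K.Normal → K ≤ M → K = ⊥ ∨ K = M) : MulAction.IsPretransitive M Ω ∧ (∀ ω : Ω, MulAction.stabilizer M ω = ⊥) ∧ ∃ p d : ℕ, p.Prime ∧ 0 < d ∧ Nat.card Ω = p ^ d ∧ Nat.card M = p ^ d := by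
  have hmn : Core.IsMinNormal M := ⟨inferInstance, hM, hmin⟩
  have := hmn.isMulCommutative
  have hc := fun ω => Core.primitive_isComplement hprim ω hM
  have hinf : ∀ ω : Ω, MulAction.stabilizer M ω = ⊥ := fun ω => by
    refine eq_bot_iff.mpr fun m hm => ?_
    have := (hc ω).disjoint.le_bot ⟨m.2, (hm : (m : G) • ω = ω)⟩
    exact Subgroup.mem_bot.mpr (Subtype.ext (Subgroup.mem_bot.mp this))
  refine ⟨⟨fun x y => ?_⟩, hinf, ?_⟩
  · have := hprim
    obtain ⟨g, rfl⟩ := MulAction.exists_smul_eq G x y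
    obtain ⟨⟨⟨m, hm⟩, ⟨u, hu⟩⟩, rfl⟩ := (hc x).2 g
    refine ⟨⟨m, hm⟩, ?_⟩
    show m • x = (m * u) • x
    rw [mul_smul, show u • x = x from hu]
  · obtain ⟨ω⟩ := (inferInstance : Nonempty Ω)
    have := hprim
    obtain ⟨p, hp, hpg, -⟩ := hmn.exists_isPGroup
    have := Fact.mk hp
    obtain ⟨d, hd⟩ := IsPGroup.iff_card.mp hpg
    refine ⟨p, d, hp, Nat.pos_of_ne_zero fun h0 => hM ?_, ?_, hd⟩
    · rw [h0, pow_zero] at hd
      exact Subgroup.card_eq_one.mp hd
    · rw [← MulAction.index_stabilizer_of_transitive G ω, (hc ω).index_eq_card, hd]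

end Cfsg.Agent.S0547
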