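import Cfsg.Statements.S0548
import Cfsg.Agent.Core.Primitive
-- import your own Cfsg.Agent.* helpers here

set_option autoImplicit false
open Cfsg

namespace Cfsg.Agent.S0548

/-- Let a finite solvable group G act faithfully and primitively on a set, let M be a minimal normal subgroup and H the stabilizer of a point. Then H is a complement to M, no non-identity element of H centralizes M, and the only subgroups of M normalized by H are the trivial subgroup and M. -/
theorem result {G : Type*} [Group G] [Finite G] [Group.IsSolvable G] {Ω : Type*} [MulAction G Ω] [FaithfulSMul G Ω] (hprim : MulAction.IsPreprimitive G Ω) (M : Subgroup G) [M.Normal] (hM : M ≠ ⊥) (hmin : ∀ K : Subgroup G, K.Normal → K ≤ M → K = ⊥ ∨ K = M) (ω : Ω) : Subgroup.IsComplement' M (MulAction.stabilizer G ω) ∧ MulAction.stabilizer G ω ⊓ Subgroup.centralizer (M : Set G) = ⊥ ∧ ∀ K : Subgroup G, K ≤ M → MulAction.stabilizer G ω ≤ Subgroup.normalizer (K : Set G) → K = ⊥ ∨ K = M := by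
  have hmn : Core.IsMinNormal M := ⟨inferInstance, hM, hmin⟩
  have := hmn.isMulCommutative
  have : Nontrivial G := not_subsingleton_iff_nontrivial.mp fun _ => hM (Subsingleton.elim _ _)
  have hU := Core.primitive_stabilizer_isCoatom hprim ω
  have hcore := Core.stabilizer_normalCore_eq_bot hprim.toIsPretransitive ω
  refine ⟨Core.primitive_isComplement hprim ω hM,
    (inf_comm _ _).trans (Core.coreFree_centralizer_inf hU hcore hM), fun K hK hN => ?_⟩
  refine hmin K ?_ hK
  refine Subgroup.normalizer_eq_top_iff.mp (top_le_iff.mp ?_)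
  refine (Core.coreFree_sup_eq_top hU hcore hM).ge.trans (sup_le ?_ hN)
  intro m hm
  refine Subgroup.mem_normalizer_iff.mpr fun k => ?_
  have key : ∀ y ∈ M, m * y * m⁻¹ = y := fun y hy => by
    rw [show m * y = y * m from congrArg Subtype.val ((IsMulCommutative.is_comm (M := M)).comm ⟨m, hm⟩ ⟨y, hy⟩), mul_inv_cancel_right]
  refine ⟨fun hk => (key k (hK hk)).symm ▸ hk, fun hk => ?_⟩
  have h : k ∈ M := by simpa [mul_assoc] using M.mul_mem (M.mul_mem (M.inv_mem hm) (hK hk)) hm
  exact key k h ▸ hk

end Cfsg.Agent.S0548
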