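import Cfsg.Statements.S0550
import Cfsg.Agent.Core.CoreFree
-- import your own Cfsg.Agent.* helpers here

set_option autoImplicit false
open Cfsg

namespace Cfsg.Agent.S0550

theorem iso_aux {G : Type*} [Group G] (U A B : Subgroup G) [A.Normal] [B.Normal] (hBU : B ⊓ U = ⊥)
    (hAB : A ⊓ B = ⊥) (htop : B ⊔ U = ⊤) : Nonempty (A ≃* ↥((A ⊔ B) ⊓ U)) := by
  set f := QuotientGroup.mk' B with hf
  set D := (A ⊔ B) ⊓ U with hD
  have hiA : Function.Injective (f.comp A.subtype) := by
    rw [← MonoidHom.ker_eq_bot_iff, eq_bot_iff]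
    intro a ha
    have : (a : G) ∈ A ⊓ B := ⟨a.2, (QuotientGroup.eq_one_iff _).mp ha⟩
    rw [hAB, Subgroup.mem_bot] at this
    exact Subgroup.mem_bot.mpr (Subtype.ext this)
  have hiD : Function.Injective (f.comp D.subtype) := by
    rw [← MonoidHom.ker_eq_bot_iff, eq_bot_iff]
    intro a ha
    have : (a : G) ∈ B ⊓ U := ⟨(QuotientGroup.eq_one_iff _).mp ha, a.2.2⟩
    rw [hBU, Subgroup.mem_bot] at this
    exact Subgroup.mem_bot.mpr (Subtype.ext this)
  have hr : (f.comp A.subtype).range = (f.comp D.subtype).range := by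
    refine le_antisymm ?_ ?_
    · rintro _ ⟨⟨a, ha⟩, rfl⟩
      have hx : a ∈ B ⊔ U := htop ▸ Subgroup.mem_top a
      obtain ⟨b, hb, u, hu, rfl⟩ := Subgroup.mem_sup_of_normal_left.mp hx
      refine ⟨⟨u, ⟨?_, hu⟩⟩, ?_⟩
      · have h2 := (A ⊔ B).mul_mem (Subgroup.mem_sup_right (B.inv_mem hb)) (Subgroup.mem_sup_left ha)
        simpa using h2
      · show f u = f (b * u)
        rw [map_mul, show f b = 1 from (QuotientGroup.eq_one_iff b).mpr hb, one_mul]
    · rintro _ ⟨⟨d, hd⟩, rfl⟩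
      obtain ⟨a, ha, b, hb, e⟩ := Subgroup.mem_sup_of_normal_right.mp hd.1
      refine ⟨⟨a, ha⟩, ?_⟩
      show f a = f d
      rw [← e, map_mul, show f b = 1 from (QuotientGroup.eq_one_iff b).mpr hb, mul_one]
  exact ⟨((f.comp A.subtype).ofInjective hiA).trans
    ((MulEquiv.subgroupCongr hr).trans ((f.comp D.subtype).ofInjective hiD).symm)⟩

/-- Let U be a maximal subgroup with trivial normal core in a finite group G, and A ≠ B two minimal normal subgroups. Then A is the centralizer of B and B that of A, U complements each of them, A and B are non-abelian, and A, B and (A ⊔ B) ∩ U are pairwise isomorphic. -/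
theorem result {G : Type*} [Group G] [Finite G] (U : Subgroup G) (hU : IsCoatom U) (hcore : U.normalCore = ⊥) (A B : Subgroup G) [A.Normal] [B.Normal] (hA : A ≠ ⊥) (hB : B ≠ ⊥) (hAmin : ∀ K : Subgroup G, K.Normal → K ≤ A → K = ⊥ ∨ K = A) (hBmin : ∀ K : Subgroup G, K.Normal → K ≤ B → K = ⊥ ∨ K = B) (hAB : A ≠ B) : Subgroup.centralizer (B : Set G) = A ∧ Subgroup.centralizer (A : Set G) = B ∧ Subgroup.IsComplement' A U ∧ Subgroup.IsComplement' B U ∧ ¬ IsMulCommutative A ∧ Nonempty (A ≃* B) ∧ Nonempty (A ≃* ↥((A ⊔ B) ⊓ U)) := by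
  have hA' : Core.IsMinNormal A := ⟨inferInstance, hA, hAmin⟩
  have hB' : Core.IsMinNormal B := ⟨inferInstance, hB, hBmin⟩
  have hd : A ⊓ B = ⊥ := (hA'.le_or_inf_eq_bot B).resolve_left fun h =>
    hAB ((hBmin A inferInstance h).resolve_left hA)
  have hd' : B ⊓ A = ⊥ := by rw [inf_comm, hd]
  have hBC : B ≤ Subgroup.centralizer (A : Set G) := fun b hb a ha =>
    (Subgroup.commute_of_normal_of_disjoint A B inferInstance inferInstance (disjoint_iff.mpr hd) a b ha hb).eq
  have hAC : A ≤ Subgroup.centralizer (B : Set G) := fun a ha b hb =>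
    (Subgroup.commute_of_normal_of_disjoint A B inferInstance inferInstance (disjoint_iff.mpr hd) a b ha hb).eq.symm
  have hCA : Subgroup.centralizer (A : Set G) = B :=
    (((Core.coreFree_centralizer_minimal hU hcore hA fun e => hB (le_bot_iff.mp (hBC.trans e.le))).eq_of_le
      B inferInstance hBC).resolve_left hB).symm
  have hCB : Subgroup.centralizer (B : Set G) = A :=
    (((Core.coreFree_centralizer_minimal hU hcore hB fun e => hA (le_bot_iff.mp (hAC.trans e.le))).eq_of_le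
      A inferInstance hAC).resolve_left hA).symm
  have hAU : A ⊓ U = ⊥ := hCB ▸ Core.coreFree_centralizer_inf hU hcore hB
  have hBU : B ⊓ U = ⊥ := hCA ▸ Core.coreFree_centralizer_inf hU hcore hA
  have tA := Core.coreFree_sup_eq_top hU hcore hA
  have tB := Core.coreFree_sup_eq_top hU hcore hB
  obtain ⟨e1⟩ := iso_aux U A B hBU hd tB
  obtain ⟨e2⟩ := iso_aux U B A hAU hd' tA
  refine ⟨hCB, hCA, Coprime.isComplement'_of_inf_sup hAU tA, Coprime.isComplement'_of_inf_sup hBU tB,
    fun hc => ?_, ⟨e1.trans ((MulEquiv.subgroupCongr (by rw [sup_comm])).trans e2.symm)⟩, ⟨e1⟩⟩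
  have h : A ≤ A ⊓ B := le_inf le_rfl (hCA ▸ Subgroup.le_centralizer A)
  exact hA (le_bot_iff.mp (h.trans hd.le))

end Cfsg.Agent.S0550
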