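import Cfsg.Statements.S0551
import Cfsg.Agent.Core.CoreFree
-- import your own Cfsg.Agent.* helpers here

set_option autoImplicit false
open Pointwise
open Cfsg

namespace Cfsg.Agent.S0551

open scoped Pointwise

/-- In a finite solvable group all core-free maximal subgroups are conjugate. -/
theorem result {G : Type*} [Group G] [Finite G] [Group.IsSolvable G] (U V : Subgroup G) (hU : IsCoatom U) (hV : IsCoatom V) (hUc : U.normalCore = ⊥) (hVc : V.normalCore = ⊥) : ∃ g : G, MulAut.conj g • U = V := by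
  rcases subsingleton_or_nontrivial G with hs | hs
  · exact ⟨1, Subsingleton.elim _ _⟩
  obtain ⟨N, hN⟩ := Core.exists_isMinNormal (G := G)
  have := hN.normal
  have := hN.isMulCommutative
  have hC := Core.coreFree_centralizer_eq hU hUc hN
  have hUC := Core.coreFree_isComplement hU hUc hN.ne_bot
  have hVC := Core.coreFree_isComplement hV hVc hN.ne_bot
  obtain ⟨p, hp, hNp, -⟩ := hN.exists_isPGroup
  have := Fact.mk hp
  set f := QuotientGroup.mk' N with hf
  have hfs := QuotientGroup.mk'_surjective N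
  rcases subsingleton_or_nontrivial (G ⧸ N) with hq | hq
  · have hNt : N = ⊤ := top_le_iff.mp fun g _ => (QuotientGroup.eq_one_iff g).mp (Subsingleton.elim _ _)
    subst hNt
    rw [Subgroup.isComplement'_top_left] at hUC hVC
    exact ⟨1, by rw [hUC, hVC, map_one, one_smul]⟩
  obtain ⟨Mb, hMb⟩ := Core.exists_isMinNormal (G := G ⧸ N)
  obtain ⟨q, hq', hMq, -⟩ := hMb.exists_isPGroup
  have := Fact.mk hq'
  set M := Mb.comap f with hM
  have hMn : M.Normal := hMb.normal.comap f
  have hNM : N ≤ M := fun x hx => by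
    rw [hM, Subgroup.mem_comap, hf, QuotientGroup.mk'_apply, (QuotientGroup.eq_one_iff x).mpr hx]
    exact one_mem _
  have hMc : Nat.card M = Nat.card N * Nat.card Mb := Core.card_comap_mk N Mb
  obtain ⟨a, ha⟩ := IsPGroup.iff_card.mp hNp
  obtain ⟨b, hb⟩ := IsPGroup.iff_card.mp hMq
  have hqp : q ≠ p := by
    intro e
    subst e
    have hMp : IsPGroup q M := IsPGroup.of_card (n := a + b) (by rw [hMc, ha, hb, pow_add])
    obtain ⟨N', hN'le, hN'⟩ := Core.exists_isMinNormal_le (N := N.subgroupOf M)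
      (fun e => hN.ne_bot (by rw [← Subgroup.map_subgroupOf_eq_of_le hNM, e, Subgroup.map_bot]))
    have := hMp.isNilpotent
    -- `M` centralises `N`, as `Z(M) ∩ N` is normal and nontrivial
    have hz : ((Subgroup.center M).map M.subtype).Normal := inferInstance
    rcases hN.le_or_inf_eq_bot ((Subgroup.center M).map M.subtype) with h' | h'
    · have hMC : M ≤ Subgroup.centralizer (N : Set G) := fun x hx n hn => by
        obtain ⟨z, hz, rfl⟩ := h' hn
        exact (congrArg Subtype.val (Subgroup.mem_center_iff.mp hz ⟨x, hx⟩)).symm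
      rw [hC] at hMC
      refine hMb.ne_bot ?_
      rw [← Subgroup.map_comap_eq_self_of_surjective hfs Mb, ← hM, le_antisymm hMC hNM]
      exact QuotientGroup.map_mk'_self N
    · refine hN'.ne_bot (le_bot_iff.mp fun z hz => ?_)
      have : (z : G) ∈ N ⊓ (Subgroup.center M).map M.subtype := ⟨hN'le hz, z, hN'.le_center hz, rfl⟩
      rw [h', Subgroup.mem_bot] at this
      exact Subgroup.mem_bot.mpr (Subtype.ext this)
  have key : ∀ W : Subgroup G, Subgroup.IsComplement' N W →
      Nat.card (W ⊓ M : Subgroup G) = q ^ b ∧ N ⊔ (W ⊓ M) = M := by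
    intro W hW
    have hsup : N ⊔ (W ⊓ M) = M := by
      refine le_antisymm (sup_le hNM inf_le_right) fun x hx => ?_
      have h' : x ∈ N ⊔ W := hW.sup_eq_top ▸ Subgroup.mem_top x
      obtain ⟨n, hn, w, hw, rfl⟩ := Subgroup.mem_sup_of_normal_left.mp h'
      exact Subgroup.mul_mem_sup hn ⟨hw, (M.mul_mem_cancel_left (hNM hn)).mp hx⟩
    have hd : (W ⊓ M) ⊓ N = ⊥ := le_bot_iff.mp ((inf_le_inf_right N inf_le_left).trans
      (by rw [inf_comm]; exact (disjoint_iff.mp hW.disjoint).le))
    have hc := Core.card_sup_of_inf_eq_bot hd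
    rw [sup_comm, hsup, hMc, mul_comm, hb] at hc
    exact ⟨(Nat.eq_of_mul_eq_mul_right Nat.card_pos hc).symm, hsup⟩
  obtain ⟨cU, sU⟩ := key U hUC
  obtain ⟨cV, sV⟩ := key V hVC
  obtain ⟨n, -, hconj⟩ := Coprime.exists_conj_of_sup_eq (N := N) (H := U ⊓ M) (K := V ⊓ M)
    (by rw [Subgroup.normalizer_eq_top]; exact le_top)
    (Coprime.inf_eq_bot_of_coprime (by rw [ha, cU]; exact ((Nat.coprime_primes hp hq').mpr (Ne.symm hqp)).pow a b))
    (Coprime.inf_eq_bot_of_coprime (by rw [ha, cV]; exact ((Nat.coprime_primes hp hq').mpr (Ne.symm hqp)).pow a b))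
    (sU.trans sV.symm) (by rw [ha, cU]; exact ((Nat.coprime_primes hp hq').mpr (Ne.symm hqp)).pow a b)
    (Or.inl inferInstance)
  refine ⟨n, ?_⟩
  have hnorm : ∀ W : Subgroup G, IsCoatom W → W.normalCore = ⊥ → Subgroup.IsComplement' N W →
      Subgroup.normalizer ((W ⊓ M : Subgroup G) : Set G) ≤ W := by
    intro W hW hWc hWN
    have h1 : W ≤ Subgroup.normalizer ((W ⊓ M : Subgroup G) : Set G) :=
      Coprime.le_normalizer_inf Subgroup.le_normalizer (by rw [Subgroup.normalizer_eq_top]; exact le_top)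
    rcases h1.eq_or_lt with e | hlt
    · exact e.ge
    · exfalso
      have h2 := hW.2 _ hlt
      have hn2 := Subgroup.normalizer_eq_top_iff.mp h2
      have h3 : W ⊓ M = ⊥ := le_bot_iff.mp (hWc ▸ Subgroup.normal_le_normalCore.mpr inf_le_left)
      refine hMb.ne_bot (Subgroup.card_eq_one.mp ?_)
      rw [hb, ← (key W hWN).1, h3, Subgroup.card_bot]
  refine Subgroup.eq_of_le_of_card_ge ?_ ?_
  · refine le_trans ?_ (hnorm V hV hVc hVC)
    intro x hx
    refine Coprime.mem_normalizer_of_conj_smul_eq ?_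
    rw [Coprime.mem_conj_smul] at hx
    have hu : MulAut.conj (n⁻¹ * x * n) • (U ⊓ M) = U ⊓ M :=
      Coprime.conj_smul_eq_self_of_mem_normalizer (Coprime.le_normalizer_inf Subgroup.le_normalizer
        (by rw [Subgroup.normalizer_eq_top]; exact le_top) hx)
    rw [← hconj, ← Coprime.conj_mul_smul]
    conv_rhs => rw [← hu, ← Coprime.conj_mul_smul]
    congr 2
    simp [mul_assoc]
  · rw [Coprime.card_conj_smul]
    exact (Nat.eq_of_mul_eq_mul_left Nat.card_pos (hUC.card_mul_card.trans hVC.card_mul_card.symm)).ge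

end Cfsg.Agent.S0551
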