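import Cfsg.Statements.S0552
import Cfsg.Agent.Core.Fitting
-- import your own Cfsg.Agent.* helpers here

set_option autoImplicit false
open Cfsg

namespace Cfsg.Agent.S0552

/-- Let σ be an automorphism of a finite solvable group G fixing every element of the Fitting subgroup. If σ is not the identity then the order of σ and the order of G have a common prime factor. -/
theorem result {G : Type*} [Group G] [Finite G] [Group.IsSolvable G] (σ : G ≃* G) (hσ : ∀ x ∈ Cfsg.fittingSubgroup G, σ x = x) (hne : σ ≠ MulEquiv.refl G) : ¬ (orderOf σ).Coprime (Nat.card G) := by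
  intro hcop
  refine hne (MulEquiv.ext fun x => ?_)
  set F := Cfsg.fittingSubgroup G with hF
  have hFn : F.Normal := inferInstance
  have hc : x⁻¹ * σ x ∈ F := by
    refine Core.centralizer_fittingSubgroup_le ?_
    rw [Subgroup.mem_centralizer_iff]
    intro f hf
    have h1 : σ x * f * (σ x)⁻¹ = x * f * x⁻¹ := by
      rw [← hσ (x * f * x⁻¹) (hFn.conj_mem f hf x), map_mul, map_mul, map_inv, hσ f hf]
    calc f * (x⁻¹ * σ x) = x⁻¹ * (x * f * x⁻¹) * σ x := by simp [mul_assoc]
      _ = x⁻¹ * (σ x * f * (σ x)⁻¹) * σ x := by rw [h1]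
      _ = x⁻¹ * σ x * f := by simp [mul_assoc]
  set c := x⁻¹ * σ x with hcdef
  have hx : σ x = x * c := by simp [hcdef]
  have hpow : ∀ n : ℕ, (σ ^ n) x = x * c ^ n := by
    intro n
    induction n with
    | zero => simp
    | succ n ih =>
      rw [pow_succ', MulAut.mul_apply, ih, map_mul, hx, map_pow, hσ c hc, pow_succ', mul_assoc]
  have h := hpow (orderOf σ)
  rw [pow_orderOf_eq_one, MulAut.one_apply] at h
  have hc1 : c = 1 := orderOf_eq_one_iff.mp (Nat.dvd_one.mp (hcop.gcd_eq_one ▸
    Nat.dvd_gcd (orderOf_dvd_of_pow_eq_one (mul_eq_left.mp h.symm)) (orderOf_dvd_natCard c)))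
  rw [hx, hc1, mul_one]
  rfl

end Cfsg.Agent.S0552
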