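import Cfsg.Statements.S0553
import Cfsg.Agent.Core.MinimalNormal
import Cfsg.Agent.Core.Solvable
import Cfsg.Agent.Coprime.SchurZassenhaus
-- import your own Cfsg.Agent.* helpers here

set_option autoImplicit false
open Cfsg

namespace Cfsg.Agent.S0553

universe u

theorem normal_sylow : ∀ (n : ℕ) (G : Type u) [Group G] [Finite G] [Group.IsSolvable G] [Nontrivial G],
    Nat.card G = n → (∀ M : Subgroup G, IsCoatom M → (Nat.card M).Coprime M.index) →
    ∃ p : ℕ, p.Prime ∧ p ∣ Nat.card G ∧ ∀ P : Sylow p G, (P : Subgroup G).Normal := by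
  intro n
  induction n using Nat.strong_induction_on with
  | _ n ih =>
    intro G _ _ _ _ hn h
    obtain ⟨N, hN⟩ := Core.exists_isMinNormal (G := G)
    have := hN.normal
    obtain ⟨r, hr, hNr, -⟩ := hN.exists_isPGroup
    have := Fact.mk hr
    have hrd : r ∣ Nat.card G := (hNr.card_eq_or_dvd.resolve_left
      fun e => hN.ne_bot (Subgroup.card_eq_one.mp e)).trans (Subgroup.card_subgroup_dvd_card N)
    have hkey : ∀ {q : ℕ} [Fact q.Prime] (P : Sylow q G), (P : Subgroup G).Normal →
        ∀ P' : Sylow q G, (P' : Subgroup G).Normal := fun P hP P' => by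
      have := Sylow.unique_of_normal P hP
      rwa [Subsingleton.elim P' P]
    by_cases hNt : N = ⊤
    · refine ⟨r, hr, hrd, fun P => ?_⟩
      have hPt : (P : Subgroup G) = ⊤ := (P.3 (hNt ▸ hNr) le_top).symm
      rw [hPt]; infer_instance
    have : Nontrivial (G ⧸ N) := QuotientGroup.nontrivial_iff.mpr hNt
    set f := QuotientGroup.mk' N with hf
    have hfs : Function.Surjective f := QuotientGroup.mk'_surjective N
    obtain ⟨p, hp, hpd, hPbar⟩ := ih _ (hn ▸ Core.card_quotient_lt hN.ne_bot) (G ⧸ N) rfl (fun M hM => by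
      have hM' : IsCoatom (M.comap f) := by
        refine ⟨fun e => hM.1 (Subgroup.comap_injective hfs (e.trans (Subgroup.comap_top f).symm)),
          fun L hL => ?_⟩
        have hker : f.ker ≤ L := (Subgroup.ker_le_comap _ M).trans hL.le
        have h1 : L.map f = ⊤ := hM.2 _ (lt_of_le_of_ne
          (by rw [← Subgroup.map_comap_eq_self_of_surjective hfs M]; exact Subgroup.map_mono hL.le)
          (fun e => hL.ne (by rw [e, Subgroup.comap_map_eq_self hker])))
        rw [← Subgroup.comap_map_eq_self hker, h1, Subgroup.comap_top]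
      have h1 := h _ hM'
      rw [M.index_comap_of_surjective hfs] at h1
      refine h1.coprime_dvd_left ?_
      rw [← Subgroup.map_comap_eq_self_of_surjective hfs M]
      rw [Subgroup.comap_map_eq_self (Subgroup.ker_le_comap _ _)]
      exact Subgroup.card_map_dvd _ f)
    have := Fact.mk hp
    have hpG : p ∣ Nat.card G := hpd.trans (Subgroup.card_quotient_dvd_card N)
    obtain ⟨P⟩ : Nonempty (Sylow p G) := inferInstance
    have hPN : ((P : Subgroup G) ⊔ N).Normal := by
      have h1 : ((P : Subgroup G).map f).Normal := by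
        rw [← Sylow.coe_mapSurjective hfs]; exact hPbar _
      rw [show (P : Subgroup G) ⊔ N = ((P : Subgroup G).map f).comap f from by
        rw [Subgroup.comap_map_eq, hf, QuotientGroup.ker_mk']]
      exact h1.comap f
    by_cases hP : (P : Subgroup G).Normal
    · exact ⟨p, hp, hpG, hkey P hP⟩
    have hnt : Subgroup.normalizer ((P : Subgroup G) : Set G) ≠ ⊤ :=
      fun e => hP (Subgroup.normalizer_eq_top_iff.mp e)
    obtain ⟨M, hM, hPM⟩ := (eq_top_or_exists_le_coatom _).resolve_left hnt
    have hMN : M ⊔ N = ⊤ := by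
      have h1 := Sylow.normalizer_sup_eq_top (P.subtype (le_sup_left : (P : Subgroup G) ≤ _ ⊔ N))
      rw [Sylow.coe_subtype, Subgroup.map_subgroupOf_eq_of_le le_sup_left, ← sup_assoc,
        sup_eq_left.mpr Subgroup.le_normalizer] at h1
      exact top_le_iff.mp (h1.ge.trans (sup_le_sup_right hPM N))
    have := hN.isMulCommutative
    have hinf : N ⊓ M = ⊥ := by
      rcases hN.eq_of_le (N ⊓ M) (inf_comm M N ▸ Core.inf_normal_of_sup_eq_top hMN) inf_le_left with e | e
      · exact e
      · exact absurd (top_le_iff.mp (hMN.ge.trans (sup_le le_rfl (inf_eq_left.mp e)))) hM.1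
    have hidx : M.index = Nat.card N := (Coprime.isComplement'_of_inf_sup hinf (by rwa [sup_comm])).index_eq_card
    have hcop : ¬ r ∣ Nat.card M := fun hd => by
      have h2 : r ∣ M.index := hidx ▸ (hNr.card_eq_or_dvd.resolve_left
        fun e => hN.ne_bot (Subgroup.card_eq_one.mp e))
      exact hr.ne_one (Nat.eq_one_of_dvd_coprimes (h M hM) hd h2)
    have hNi : ¬ r ∣ N.index := by
      rw [(Coprime.isComplement'_of_inf_sup hinf (by rwa [sup_comm])).symm.index_eq_card]
      exact hcop
    exact ⟨r, hr, hrd, hkey (hNr.toSylow hNi) (show (N : Subgroup G).Normal from hN.normal)⟩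

/-- Let G be a nontrivial finite solvable group in which every maximal subgroup has order coprime to its index. Then for some prime p dividing the order of G the Sylow p-subgroups of G are normal. -/
theorem result {G : Type*} [Group G] [Finite G] [Group.IsSolvable G] [Nontrivial G] (h : ∀ M : Subgroup G, IsCoatom M → (Nat.card M).Coprime M.index) : ∃ p : ℕ, p.Prime ∧ p ∣ Nat.card G ∧ ∀ P : Sylow p G, (P : Subgroup G).Normal := by
  exact normal_sylow _ G rfl h

end Cfsg.Agent.S0553
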