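import Cfsg.Statements.S0554
import Cfsg.Agent.Core.MinimalNormal
import Mathlib.GroupTheory.Sylow
-- import your own Cfsg.Agent.* helpers here

set_option autoImplicit false
open Cfsg

namespace Cfsg.Agent.S0554

theorem move {G : Type*} [Group G] {N : Subgroup G} [N.Normal] : ∀ (t : ℕ) (s : Fin t → G) (i : Fin t) (n : G),
    n ∈ N → ∃ n' ∈ N, (List.ofFn s).prod * n = (List.ofFn (Function.update s i (s i * n'))).prod := by
  intro t
  induction t with
  | zero => intro s i; exact i.elim0
  | succ t ih =>
    intro s i n hn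
    cases i using Fin.cases with
    | zero =>
      refine ⟨(List.ofFn (fun j : Fin t => s j.succ)).prod * n *
        (List.ofFn (fun j : Fin t => s j.succ)).prod⁻¹,
        Subgroup.Normal.conj_mem inferInstance n hn _, ?_⟩
      rw [List.ofFn_succ, List.ofFn_succ, List.prod_cons, List.prod_cons]
      simp [mul_assoc]
    | succ j =>
      obtain ⟨n', hn', he⟩ := ih (fun j => s j.succ) j n hn
      refine ⟨n', hn', ?_⟩
      rw [List.ofFn_succ, List.ofFn_succ, List.prod_cons, List.prod_cons, mul_assoc, he,
        Function.update_of_ne (Fin.succ_ne_zero j).symm]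
      congr 3
      exact (Function.update_comp_eq_of_injective s (Fin.succ_injective t) j _).symm

universe u

theorem prod_sylows (t : ℕ) (p : Fin t → ℕ) (hp : ∀ i, (p i).Prime) :
    ∀ (n : ℕ) (G : Type u) [Group G] [Finite G] [Group.IsSolvable G], Nat.card G = n →
    (∀ q : ℕ, q.Prime → q ∣ Nat.card G → ∃ i, p i = q) → ∀ (S : (i : Fin t) → Sylow (p i) G) (g : G),
    ∃ s : Fin t → G, (∀ i, s i ∈ (S i : Subgroup G)) ∧ g = (List.ofFn s).prod := by
  intro n
  induction n using Nat.strong_induction_on with
  | _ n ih =>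
    intro G _ _ _ hn hall S g
    rcases subsingleton_or_nontrivial G with hG | hG
    · exact ⟨fun _ => 1, fun i => Subgroup.one_mem _, Subsingleton.elim _ _⟩
    obtain ⟨N, hN⟩ := Core.exists_isMinNormal (G := G)
    have := hN.normal
    obtain ⟨r, hr, hNr, -⟩ := hN.exists_isPGroup
    have := Fact.mk hr
    have := fun i => Fact.mk (hp i)
    obtain ⟨i₀, hi₀⟩ := hall r hr ((hNr.card_eq_or_dvd.resolve_left
      fun h => hN.ne_bot (Subgroup.card_eq_one.mp h)).trans (Subgroup.card_subgroup_dvd_card N))
    have hlt : Nat.card (G ⧸ N) < n := hn ▸ Core.card_quotient_lt hN.ne_bot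
    have hf := QuotientGroup.mk'_surjective N
    obtain ⟨s, hs, hg⟩ := ih _ hlt (G ⧸ N) rfl
      (fun q hq hd => hall q hq (hd.trans (Subgroup.card_quotient_dvd_card N)))
      (fun i => (S i).mapSurjective hf) (QuotientGroup.mk' N g)
    choose s' hs' hss' using fun i => (hs i : s i ∈ ((S i : Subgroup G).map (QuotientGroup.mk' N)))
    have hn0 : (List.ofFn s').prod⁻¹ * g ∈ N := by
      rw [← QuotientGroup.eq, ← QuotientGroup.mk'_apply, ← QuotientGroup.mk'_apply, hg, map_list_prod,
        List.map_ofFn]
      exact congrArg (fun f => (List.ofFn f).prod) (funext hss')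
    obtain ⟨n', hn', he⟩ := move t s' i₀ _ hn0
    refine ⟨Function.update s' i₀ (s' i₀ * n'), fun i => ?_, by rw [← he, mul_inv_cancel_left]⟩
    rcases eq_or_ne i i₀ with rfl | hne
    · rw [Function.update_self]
      refine Subgroup.mul_mem _ (hs' i) ?_
      subst hi₀
      obtain ⟨Q, hQ⟩ := hNr.exists_le_sylow
      obtain ⟨x, hx⟩ := MulAction.exists_smul_eq G Q (S i)
      rw [← hx]
      exact ⟨x⁻¹ * n' * x, hQ (by
        have h := Subgroup.Normal.conj_mem (inferInstance : N.Normal) n' hn' x⁻¹
        rwa [inv_inv] at h), by simp [MulAut.smul_def, mul_assoc]⟩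
    · rw [Function.update_of_ne hne]
      exact hs' i

/-- Let G be a finite solvable group and let S assign to each of t distinct primes, including every prime divisor of the order of G, a Sylow subgroup of G. Then every element of G is a product s_0 s_1 ⋯ s_(t-1) with s_i in S i, the factors taken in the given order. -/
theorem result {G : Type*} [Group G] [Finite G] [Group.IsSolvable G] (t : ℕ) (p : Fin t → ℕ) (hp : ∀ i, (p i).Prime) (hinj : Function.Injective p) (hall : ∀ q : ℕ, q.Prime → q ∣ Nat.card G → ∃ i, p i = q) (S : (i : Fin t) → Sylow (p i) G) : ∀ g : G, ∃ s : (i : Fin t) → G, (∀ i, s i ∈ (S i : Subgroup G)) ∧ g = (List.ofFn s).prod := by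
  exact prod_sylows t p hp _ G rfl hall S

end Cfsg.Agent.S0554
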