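import Cfsg.Statements.S0555
import Cfsg.Agent.Core.Fitting
-- import your own Cfsg.Agent.* helpers here

set_option autoImplicit false
open Cfsg

namespace Cfsg.Agent.S0555

open scoped commutatorElement

/-- Let i ≥ 1. If in the derived series of a group the quotient of the i-th term by the (i+1)-st and the quotient of the (i+1)-st by the (i+2)-nd are both cyclic, then the (i+1)-st and (i+2)-nd terms coincide. -/
theorem result {G : Type*} [Group G] (i : ℕ) (hi : 1 ≤ i) (h₁ : IsCyclic (↥(derivedSeries G i) ⧸ (derivedSeries G (i + 1)).subgroupOf (derivedSeries G i))) (h₂ : IsCyclic (↥(derivedSeries G (i + 1)) ⧸ (derivedSeries G (i + 2)).subgroupOf (derivedSeries G (i + 1)))) : derivedSeries G (i + 1) = derivedSeries G (i + 2) := by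
  set A := derivedSeries G i with hA
  set B := derivedSeries G (i + 1) with hB
  set C := derivedSeries G (i + 2) with hC
  have hCn : C.Normal := derivedSeries_normal G (i + 2)
  have hBn : B.Normal := derivedSeries_normal G (i + 1)
  have hCB : C ≤ B := derivedSeries_antitone G (Nat.le_succ _)
  have hBA : B ≤ A := derivedSeries_antitone G (Nat.le_succ _)
  have hA1 : A ≤ commutator G := derivedSeries_one (G := G) ▸ derivedSeries_antitone G hi
  refine le_antisymm ?_ hCB
  set f := QuotientGroup.mk' C with hf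
  have hs := QuotientGroup.mk'_surjective C
  have hBf : (B.map f).Normal := hBn.map f hs
  have hcyc : IsCyclic (B.map f) := by
    have hk : C.subgroupOf B ≤ (f.subgroupMap B).ker := fun x hx =>
      MonoidHom.mem_ker.mpr (Subtype.ext ((QuotientGroup.eq_one_iff (x : G)).mpr hx))
    exact isCyclic_of_surjective _
      (QuotientGroup.lift_surjective_of_surjective _ _ (f.subgroupMap_surjective B) hk)
  -- the derived subgroup centralizes the cyclic normal subgroup `B/C`
  have hcen : A.map f ≤ Subgroup.centralizer (B.map f : Set (G ⧸ C)) := by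
    refine (Subgroup.map_mono hA1).trans ?_
    rw [commutator_def, Subgroup.map_commutator, Subgroup.commutator_le]
    intro x _ y _ n hn
    have hc : MulAut.conjNormal (H := B.map f) ⁅x, y⁆ = 1 := by
      rw [map_commutatorElement, commutatorElement_eq_one_iff_mul_comm]
      refine MulEquiv.ext fun n => ?_
      obtain ⟨a, ha⟩ := MonoidHom.map_cyclic (MulAut.conjNormal (H := B.map f) x).toMonoidHom
      obtain ⟨b, hb⟩ := MonoidHom.map_cyclic (MulAut.conjNormal (H := B.map f) y).toMonoidHom
      simp only [MulEquiv.toMonoidHom_eq_coe, MonoidHom.coe_coe] at ha hb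
      simp only [MulAut.mul_apply, ha, hb]
      rw [← zpow_mul, ← zpow_mul, mul_comm]
    have h := congrArg Subtype.val (DFunLike.congr_fun hc (⟨n, hn⟩ : B.map f))
    rw [MulAut.conjNormal_apply, MulAut.one_apply] at h
    have h2 := congrArg (fun t => t * ⁅x, y⁆) h
    simpa [mul_assoc, -commutatorElement_inv] using h2.symm
  -- `A/C` is cyclic modulo a central subgroup
  obtain ⟨a0, ha0⟩ := (h₁).exists_generator
  obtain ⟨a, rfl⟩ := QuotientGroup.mk_surjective a0
  have hle : A.map f ≤ Subgroup.zpowers (f a) ⊔ B.map f := by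
    rintro _ ⟨x, hx, rfl⟩
    obtain ⟨k, hk⟩ := ha0 (QuotientGroup.mk (⟨x, hx⟩ : A))
    simp only at hk
    rw [← QuotientGroup.mk_zpow, QuotientGroup.eq, Subgroup.mem_subgroupOf] at hk
    rw [Subgroup.coe_mul, Subgroup.coe_inv, SubgroupClass.coe_zpow] at hk
    have hk' : (a : G) ^ (-k) * x ∈ B := by rw [zpow_neg]; exact hk
    have h3 := Subgroup.mul_mem_sup (Subgroup.zpow_mem _ (Subgroup.mem_zpowers (f a)) k)
      (Subgroup.mem_map_of_mem f hk')
    rw [map_mul, map_zpow, ← mul_assoc, ← zpow_add, add_neg_cancel, zpow_zero, one_mul] at h3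
    exact h3
  have hcomm : ∀ x ∈ A, ∀ y ∈ A, ⁅x, y⁆ ∈ C := by
    intro x hx y hy
    rw [← QuotientGroup.eq_one_iff]
    show f ⁅x, y⁆ = 1
    rw [map_commutatorElement, commutatorElement_eq_one_iff_mul_comm]
    obtain ⟨u, ⟨k, rfl⟩, b, hb, e⟩ := Subgroup.mem_sup_of_normal_right.mp (hle (Subgroup.mem_map_of_mem f hx))
    obtain ⟨v, ⟨l, rfl⟩, b', hb', e'⟩ := Subgroup.mem_sup_of_normal_right.mp (hle (Subgroup.mem_map_of_mem f hy))
    rw [← e, ← e']
    have hab : ∀ z ∈ A.map f, ∀ w ∈ B.map f, Commute z w := fun z hz w hw => (hcen hz w hw).symm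
    have hfa : f a ∈ A.map f := Subgroup.mem_map_of_mem f a.2
    have hbb : Commute b b' := hab b (Subgroup.map_mono hBA hb) b' hb'
    exact (((Commute.refl (f a)).zpow_zpow k l).mul_right ((hab _ hfa _ hb').zpow_left k)).mul_left
      ((((hab _ hfa _ hb).zpow_left l).symm).mul_right hbb)
  rw [hB, derivedSeries_succ]
  exact Subgroup.commutator_le.mpr hcomm

end Cfsg.Agent.S0555
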