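import Cfsg.Statements.S0556
import Cfsg.Agent.Core.FrobeniusGroup
import Cfsg.Agent.Coprime.Basic
-- import your own Cfsg.Agent.* helpers here

set_option autoImplicit false
open Cfsg

namespace Cfsg.Agent.S0556

open scoped Pointwise

theorem comm_of_mem {G : Type*} [Group G] {A : Subgroup G} [IsMulCommutative A] {a b : G} (ha : a ∈ A)
    (hb : b ∈ A) : a * b = b * a :=
  congrArg Subtype.val ((IsMulCommutative.is_comm (M := A)).comm ⟨a, ha⟩ ⟨b, hb⟩)

theorem derived_two_le {G : Type*} [Group G] {N : Subgroup G} [N.Normal] [IsMulCommutative N]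
    (h : commutator G ≤ N) : derivedSeries G 2 = ⊥ := by
  rw [derivedSeries_succ, derivedSeries_one, eq_bot_iff]
  refine (Subgroup.commutator_mono h h).trans (le_of_eq ?_)
  rw [Subgroup.commutator_eq_bot_iff_le_centralizer]
  exact Subgroup.le_centralizer N

theorem frobenius_metabelian {G : Type*} [Group G] [Finite G] {A : Subgroup G} (hA : IsCoatom A)
    [IsMulCommutative A] (hF : IsFrobeniusComplement A) : derivedSeries G 2 = ⊥ := by
  obtain ⟨K, -, hK, hc⟩ := Core.exists_frobeniusKernel hF
  have hcop : (Nat.card A).Coprime (Nat.card K) := by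
    rw [← hc.index_eq_card]; exact Core.coprime_card_index_of_isFrobeniusComplement hF
  have hK1 : K ≠ ⊥ := fun e => hA.1 (Subgroup.isComplement'_bot_left.mp (e ▸ hc))
  have hAK : A ⊔ K = ⊤ := by rw [sup_comm]; exact hc.sup_eq_top
  obtain ⟨p, hp, hpd⟩ := Nat.exists_prime_and_dvd (fun h => hK1 (Subgroup.card_eq_one.mp h))
  have := Fact.mk hp
  have hAs : Group.IsSolvable A := Group.isSolvable_of_comm fun a b => IsMulCommutative.is_comm.comm a b
  obtain ⟨P, hP⟩ := Coprime.exists_invariant_sylow (A := A) (K := K)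
    (by rw [Subgroup.normalizer_eq_top]; exact le_top) hcop (Or.inl hAs) p
  set Q : Subgroup G := (P : Subgroup K).map K.subtype with hQ
  have hQK : Q ≤ K := Subgroup.map_subtype_le _
  have hQA : Q ⊔ A = ⊤ := by
    refine hA.2 _ (le_sup_right.lt_of_ne fun e => ?_)
    have hQ1 : Q ≤ ⊥ := by
      rw [← hc.disjoint.eq_bot]
      exact le_inf hQK (le_sup_left.trans e.ge)
    have h1 : Nat.card Q = 1 := Subgroup.card_eq_one.mpr (le_bot_iff.mp hQ1)
    rw [hQ, Subgroup.card_map_of_injective K.subtype_injective] at h1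
    exact hp.ne_one (Nat.dvd_one.mp (h1 ▸ P.dvd_card_of_dvd_card hpd))
  have hQeq : Q = K := by
    refine Subgroup.eq_of_le_of_card_ge hQK ?_
    have h1 := Coprime.card_sup_eq_mul hP (le_bot_iff.mp
      ((inf_le_inf_right A hQK).trans hc.disjoint.le_bot))
    rw [hQA, Subgroup.card_top, ← hc.card_mul_card] at h1
    exact (Nat.eq_of_mul_eq_mul_right Nat.card_pos h1).le
  have hKp : IsPGroup p K := hQeq ▸ P.isPGroup'.map K.subtype
  have : Group.IsNilpotent K := hKp.isNilpotent
  have : Nontrivial K := (Subgroup.nontrivial_iff_ne_bot K).mpr hK1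
  have hlt := Group.IsSolvable.commutator_lt_top_of_nontrivial K
  have hab : IsMulCommutative K := by
    rw [← Subgroup.le_centralizer_iff_isMulCommutative, ← Subgroup.commutator_eq_bot_iff_le_centralizer]
    by_contra hne
    have hsup : ⁅K, K⁆ ⊔ A = ⊤ := by
      refine hA.2 _ (le_sup_right.lt_of_ne fun e => hne (le_bot_iff.mp ?_))
      rw [← hc.disjoint.eq_bot]
      exact le_inf (Subgroup.commutator_le_left K K) (le_sup_left.trans e.ge)
    have h1 := Core.card_sup_dvd_mul A ⁅K, K⁆
    rw [sup_comm, hsup, Subgroup.card_top, ← hc.card_mul_card, mul_comm (Nat.card A)] at h1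
    have h2 := Nat.le_of_dvd Nat.card_pos ((Nat.mul_dvd_mul_iff_right Nat.card_pos).mp h1)
    have h3 := Subgroup.eq_of_le_of_card_ge (Subgroup.commutator_le_left K K) h2
    have h4 : (⁅(⊤ : Subgroup K), ⊤⁆ : Subgroup K).map K.subtype = (⊤ : Subgroup K).map K.subtype := by
      rw [Subgroup.map_commutator, ← MonoidHom.range_eq_map, K.range_subtype, h3]
    exact hlt.ne (Subgroup.map_injective K.subtype_injective h4)
  refine derived_two_le (N := K) ?_
  rw [commutator_def, Subgroup.commutator_le]
  intro g _ h _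
  rw [← QuotientGroup.eq_one_iff]
  have hcomm : ∀ x y : G ⧸ K, x * y = y * x := by
    intro x y
    obtain ⟨x, rfl⟩ := QuotientGroup.mk'_surjective K x
    obtain ⟨y, rfl⟩ := QuotientGroup.mk'_surjective K y
    obtain ⟨a, ha, k, hk, rfl⟩ := Subgroup.mem_sup_of_normal_right.mp (hAK ▸ Subgroup.mem_top x)
    obtain ⟨b, hb, l, hl, rfl⟩ := Subgroup.mem_sup_of_normal_right.mp (hAK ▸ Subgroup.mem_top y)
    have h0 : ∀ z ∈ K, QuotientGroup.mk' K z = 1 := fun z hz => (QuotientGroup.eq_one_iff z).mpr hz
    rw [map_mul, map_mul, h0 k hk, h0 l hl, mul_one, mul_one, ← map_mul, ← map_mul, comm_of_mem ha hb]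
  show QuotientGroup.mk' K _ = 1
  rw [map_commutatorElement, commutatorElement_eq_one_iff_mul_comm]
  exact hcomm _ _

theorem derived_succ_of_central {G : Type*} [Group G] {Z : Subgroup G} [Z.Normal]
    (hZ : Z ≤ Subgroup.center G) {n : ℕ} (h : derivedSeries (G ⧸ Z) n = ⊥) :
    derivedSeries G (n + 1) = ⊥ := by
  have h1 : derivedSeries G n ≤ Z := by
    have := map_derivedSeries_le_derivedSeries (QuotientGroup.mk' Z) n
    rw [h, le_bot_iff, Subgroup.map_eq_bot_iff, QuotientGroup.ker_mk'] at this
    exact this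
  rw [derivedSeries_succ, Subgroup.commutator_eq_bot_iff_le_centralizer]
  exact fun x hx y hy => Subgroup.mem_center_iff.mp (hZ (h1 hx)) y

theorem not_normal_case {G : Type*} [Group G] [Finite G] {A : Subgroup G} (hA : IsCoatom A)
    [IsMulCommutative A] (hAn : ¬ A.Normal) : derivedSeries G 3 = ⊥ := by
  have hnorm : Subgroup.normalizer (A : Set G) = A :=
    (hA.le_iff.mp Subgroup.le_normalizer).resolve_left fun e =>
      hAn (Subgroup.normalizer_eq_top_iff.mp e)
  have hcl : ∀ x ∈ A, x ∉ Subgroup.center G → Subgroup.centralizer {x} = A := by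
    intro x hx hxc
    refine (hA.le_iff.mp fun a ha =>
      Subgroup.mem_centralizer_singleton_iff.mpr (comm_of_mem hx ha).symm).resolve_left fun e => hxc ?_
    exact Subgroup.mem_center_iff.mpr fun y =>
      Subgroup.mem_centralizer_singleton_iff.mp (e ▸ Subgroup.mem_top y)
  have hZA : Subgroup.center G ≤ A := by
    intro z hz
    rw [← hnorm]
    refine Subgroup.mem_normalizer_iff.mpr fun a => ?_
    rw [show z * a * z⁻¹ = a from by rw [← Subgroup.mem_center_iff.mp hz a, mul_inv_cancel_right]]
  set f := QuotientGroup.mk' (Subgroup.center G)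
  have hf : Function.Surjective f := QuotientGroup.mk'_surjective _
  have hker : f.ker ≤ A := by rw [QuotientGroup.ker_mk']; exact hZA
  have hA' : IsCoatom (A.map f) := by
    refine ⟨fun e => hA.1 ?_, fun L hL => ?_⟩
    · rw [← Subgroup.comap_map_eq_self hker, e, Subgroup.comap_top]
    · refine Subgroup.comap_injective hf ((hA.2 _ ?_).trans (Subgroup.comap_top f).symm)
      rw [← Subgroup.comap_map_eq_self hker]
      exact (Subgroup.comap_lt_comap_of_surjective hf).mpr hL
  have hF : IsFrobeniusComplement (A.map f) := by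
    refine Core.isFrobeniusComplement_of_malnormal (fun e => hAn ?_) hA'.1 ?_
    · rw [Subgroup.map_eq_bot_iff, QuotientGroup.ker_mk'] at e
      exact ⟨fun a ha g => by rwa [Subgroup.mem_center_iff.mp (e ha) g, mul_inv_cancel_right]⟩
    · intro x hx y hy hxy
      obtain ⟨g, rfl⟩ := hf x
      obtain ⟨a, ha, rfl⟩ := hy
      rw [← map_mul, ← map_inv, ← map_mul] at hxy
      have hxy' : g * a * g⁻¹ ∈ (A.map f).comap f := hxy
      rw [Subgroup.comap_map_eq_self hker] at hxy'
      refine (QuotientGroup.eq_one_iff a).mpr ?_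
      by_contra hac
      refine hx ⟨g, ?_, rfl⟩
      rw [← hnorm]
      have hgac : g * a * g⁻¹ ∉ Subgroup.center G := fun h => hac (by
        have := (inferInstance : (Subgroup.center G).Normal).conj_mem _ h g⁻¹
        simpa [mul_assoc] using this)
      have h1 := hcl a ha hac
      have h2 := hcl _ hxy' hgac
      refine Coprime.mem_normalizer_of_conj_smul_eq (Subgroup.ext fun z => ?_)
      rw [Coprime.mem_conj_smul]
      conv_lhs => rw [← h1]
      conv_rhs => rw [← h2]
      rw [Subgroup.mem_centralizer_singleton_iff, Subgroup.mem_centralizer_singleton_iff,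
        ← mul_right_inj g, ← mul_left_inj g⁻¹]
      simp [mul_assoc]
  exact derived_succ_of_central (Z := Subgroup.center G) le_rfl (frobenius_metabelian hA' hF)

theorem normal_case {G : Type*} [Group G] [Finite G] {A : Subgroup G} (hA : IsCoatom A)
    [IsMulCommutative A] [A.Normal] : derivedSeries G 3 = ⊥ := by
  obtain ⟨x, hx⟩ : ∃ x, x ∉ A := by
    by_contra h; push Not at h; exact hA.1 (top_le_iff.mp fun x _ => h x)
  have hsup : Subgroup.zpowers x ⊔ A = ⊤ :=
    hA.2 _ (le_sup_right.lt_of_ne fun e => hx (e.ge (Subgroup.mem_sup_left (Subgroup.mem_zpowers x))))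
  have h2 : derivedSeries G 2 = ⊥ := by
    refine derived_two_le (N := A) ?_
    rw [commutator_def, Subgroup.commutator_le]
    intro g _ h _
    obtain ⟨u, hu, a, ha, rfl⟩ := Subgroup.mem_sup_of_normal_right.mp (hsup ▸ Subgroup.mem_top g)
    obtain ⟨v, hv, b, hb, rfl⟩ := Subgroup.mem_sup_of_normal_right.mp (hsup ▸ Subgroup.mem_top h)
    rw [← QuotientGroup.eq_one_iff]
    show QuotientGroup.mk' A _ = 1
    have h0 : ∀ z ∈ A, QuotientGroup.mk' A z = 1 := fun z hz => (QuotientGroup.eq_one_iff z).mpr hz
    rw [map_commutatorElement, map_mul, map_mul, h0 a ha, h0 b hb, mul_one, mul_one,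
      commutatorElement_eq_one_iff_mul_comm, ← map_mul, ← map_mul]
    obtain ⟨i, rfl⟩ := Subgroup.mem_zpowers_iff.mp hu
    obtain ⟨j, rfl⟩ := Subgroup.mem_zpowers_iff.mp hv
    rw [(Commute.zpow_zpow_self x i j).eq]
  rw [derivedSeries_succ, h2, Subgroup.commutator_bot_left]

/-- If a finite group has a maximal subgroup that is abelian, then the third term of its derived series is trivial (so the group is solvable of derived length at most three). -/
theorem result {G : Type*} [Group G] [Finite G] (A : Subgroup G) (hA : IsCoatom A) [IsMulCommutative A] : derivedSeries G 3 = ⊥ := by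
  by_cases hn : A.Normal
  · exact normal_case hA
  · exact not_normal_case hA hn

end Cfsg.Agent.S0556
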