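import Cfsg.Statements.S0557
import Cfsg.Agent.Core.Basics
import Mathlib.GroupTheory.Focal
import Mathlib.GroupTheory.OrderOfElement
-- import your own Cfsg.Agent.* helpers here

set_option autoImplicit false
open Cfsg

namespace Cfsg.Agent.S0557

universe u

theorem focal_mono {G : Type*} [Group G] {H K : Subgroup G} (h : H ≤ K) :
    H.focalSubgroup ≤ K.focalSubgroup :=
  Subgroup.closure_mono fun _ ⟨hg, x, hx, u, e⟩ => ⟨h hg, x, h hx, u, e⟩

theorem map_focal {G L : Type*} [Group G] [Group L] (f : L →* G) (H : Subgroup L) :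
    H.focalSubgroup.map f ≤ (H.map f).focalSubgroup := by
  rw [Subgroup.focalSubgroup_def, MonoidHom.map_closure]
  refine Subgroup.closure_mono ?_
  rintro _ ⟨g, ⟨hg, x, hx, u, rfl⟩, rfl⟩
  exact ⟨Subgroup.mem_map_of_mem f hg, f x, Subgroup.mem_map_of_mem f hx, f u, map_commutatorElement f x u⟩

theorem map_iterate {G L : Type*} [Group G] [Group L] (f : L →* G) (n : ℕ) :
    ∀ (H : Subgroup L) (K : Subgroup G), H.map f ≤ K →
      ((fun K : Subgroup L => K.focalSubgroup)^[n] H).map f ≤ (fun K : Subgroup G => K.focalSubgroup)^[n] K := by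
  induction n with
  | zero => exact fun H K h => h
  | succ n ih =>
    intro H K h
    exact ih _ _ ((map_focal f H).trans (focal_mono h))

theorem exists_transfer_kernel {G : Type*} [Group G] [Finite G] (H : Subgroup G)
    (hH : (Nat.card H).Coprime H.index) :
    ∃ L : Subgroup G, L.Normal ∧ L ⊓ H = H.focalSubgroup ∧ L ⊔ H = ⊤ := by
  have hc : (Nat.card (H ⧸ H.focalSubgroupOf)).Coprime H.index :=
    hH.coprime_dvd_left (Subgroup.card_quotient_dvd_card _)
  refine ⟨(H.transferFocal).ker, inferInstance, ?_, ?_⟩
  · ext x
    constructor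
    · rintro ⟨hx, hxH⟩
      have h1 : ((⟨x, hxH⟩ : H) : H ⧸ H.focalSubgroupOf) ^ H.index = 1 ^ H.index := by
        rw [one_pow, ← Subgroup.transferFocal_eq_pow]; exact hx
      have h2 := (powCoprime hc).injective h1
      exact (QuotientGroup.eq_one_iff (⟨x, hxH⟩ : H)).mp h2
    · intro hx
      have hxH := H.focalSubgroup_le hx
      refine ⟨?_, hxH⟩
      show H.transferFocal ((⟨x, hxH⟩ : H) : G) = 1
      rw [Subgroup.transferFocal_eq_pow, (QuotientGroup.eq_one_iff (⟨x, hxH⟩ : H)).mpr hx, one_pow]
  · refine top_le_iff.mp fun g _ => ?_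
    obtain ⟨y, hy⟩ := (powCoprime hc).surjective (H.transferFocal g)
    obtain ⟨z, rfl⟩ := QuotientGroup.mk'_surjective _ y
    have h1 : g * (z : G)⁻¹ ∈ (H.transferFocal).ker := by
      rw [MonoidHom.mem_ker, map_mul, map_inv, Subgroup.transferFocal_eq_pow, mul_inv_eq_one]
      exact hy.symm
    have := Subgroup.mul_mem_sup h1 z.2
    rwa [inv_mul_cancel_right] at this

theorem focal_series : ∀ (n : ℕ) (G : Type u) [Group G] [Finite G] (H : Subgroup G),
    (Nat.card H).Coprime H.index → (fun K : Subgroup G => K.focalSubgroup)^[n] H = ⊥ →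
    ∃ N : Subgroup G, N.Normal ∧ Subgroup.IsComplement' N H := by
  intro n
  induction n with
  | zero =>
    intro G _ _ H _ h
    rw [Function.iterate_zero, id] at h
    subst h
    exact ⟨⊤, inferInstance, Subgroup.isComplement'_top_bot⟩
  | succ n ih =>
    intro G _ _ H hH h
    rw [Function.iterate_succ_apply] at h
    obtain ⟨L, hL, hLH, hsup⟩ := exists_transfer_kernel H hH
    have hmap : (H.subgroupOf L).map L.subtype = H.focalSubgroup := by
      rw [Subgroup.subgroupOf_map_subtype, inf_comm, hLH]
    have hc := Core.card_sup_mul_card_inf H L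
    rw [sup_comm, hsup, inf_comm, hLH, Subgroup.card_top] at hc
    have hcardK : Nat.card (H.subgroupOf L) = Nat.card H.focalSubgroup := by
      rw [← hmap, Subgroup.card_map_of_injective L.subtype_injective]
    have hidx : (H.subgroupOf L).index = H.index := by
      have h1 := (H.subgroupOf L).card_mul_index
      rw [hcardK] at h1
      rw [← H.card_mul_index, ← h1] at hc
      refine Nat.eq_of_mul_eq_mul_left (Nat.mul_pos (Nat.card_pos (α := H.focalSubgroup)) (Nat.card_pos (α := H))) ?_
      linarith
    have hK : (Nat.card (H.subgroupOf L)).Coprime (H.subgroupOf L).index := by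
      rw [hidx, hcardK]
      exact hH.coprime_dvd_left (Subgroup.card_dvd_of_le H.focalSubgroup_le)
    have hser : (fun K : Subgroup L => K.focalSubgroup)^[n] (H.subgroupOf L) = ⊥ := by
      refine (Subgroup.map_eq_bot_iff_of_injective _ L.subtype_injective).mp (le_bot_iff.mp ?_)
      exact (map_iterate L.subtype n _ _ hmap.le).trans h.le
    obtain ⟨N, hN, hcompl⟩ := ih L (H.subgroupOf L) hK hser
    have hNcard : Nat.card N = H.index := by rw [← hidx, hcompl.index_eq_card]
    have : N.Characteristic := Core.characteristic_of_coprime (by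
      rw [hNcard, hcompl.symm.index_eq_card, hcardK]
      exact (hH.coprime_dvd_left (Subgroup.card_dvd_of_le H.focalSubgroup_le)).symm)
    refine ⟨N.map L.subtype, inferInstance, Subgroup.isComplement'_of_coprime ?_ ?_⟩
    · rw [Subgroup.card_map_of_injective L.subtype_injective, hNcard, mul_comm, H.card_mul_index]
    · rw [Subgroup.card_map_of_injective L.subtype_injective, hNcard]; exact hH.symm

/-- Let H be a subgroup of a finite group G with order coprime to its index. If iterating the focal-subgroup construction starting from H reaches the trivial subgroup after finitely many steps, then H has a normal complement in G. -/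
theorem result {G : Type*} [Group G] [Finite G] (H : Subgroup G) (hHall : (Nat.card H).Coprime H.index) (n : ℕ) (hfoc : (fun K : Subgroup G => Subgroup.focalSubgroup K)^[n] H = ⊥) : ∃ N : Subgroup G, N.Normal ∧ Subgroup.IsComplement' N H := by
  exact focal_series n G H hHall hfoc

end Cfsg.Agent.S0557
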