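import Cfsg.Statements.S0559
import Cfsg.Agent.Coprime.Tools
-- import your own Cfsg.Agent.* helpers here

set_option autoImplicit false
open Pointwise
open Cfsg

namespace Cfsg.Agent.S0559

/-- Let G = HK be a finite group (every element a product of an element of H and an element of K), and let A and B be conjugates of H and K. Then every element is a product of an element of A and one of B, and there is g with A = gHg⁻¹ and B = gKg⁻¹ simultaneously. -/
theorem result {G : Type*} [Group G] [Finite G] (H K A B : Subgroup G) (hHK : ∀ g : G, ∃ h ∈ H, ∃ k ∈ K, g = h * k) (hA : ∃ x : G, A = MulAut.conj x • H) (hB : ∃ y : G, B = MulAut.conj y • K) : (∀ g : G, ∃ a ∈ A, ∃ b ∈ B, g = a * b) ∧ ∃ g : G, A = MulAut.conj g • H ∧ B = MulAut.conj g • K := by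
  obtain ⟨x, rfl⟩ := hA
  obtain ⟨y, rfl⟩ := hB
  obtain ⟨h, hh, k, hk, hhk⟩ := hHK (x⁻¹ * y)
  have hy : x * h = y * k⁻¹ := by
    have : y = x * (h * k) := by rw [← hhk, mul_inv_cancel_left]
    rw [this]; simp [mul_assoc]
  have eA : MulAut.conj x • H = MulAut.conj (x * h) • H := by
    rw [Coprime.conj_mul_smul, Coprime.conj_smul_eq_self_of_mem_normalizer (Subgroup.le_normalizer hh)]
  have eB : MulAut.conj y • K = MulAut.conj (x * h) • K := by
    rw [hy, Coprime.conj_mul_smul,
      Coprime.conj_smul_eq_self_of_mem_normalizer (Subgroup.le_normalizer (K.inv_mem hk))]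
  refine ⟨fun g => ?_, x * h, eA, eB⟩
  obtain ⟨a, ha, b, hb, e⟩ := hHK ((x * h)⁻¹ * g * (x * h))
  refine ⟨(x * h) * a * (x * h)⁻¹, ?_, (x * h) * b * (x * h)⁻¹, ?_, ?_⟩
  · rw [eA]; exact Coprime.conj_mem_conj_smul ha
  · rw [eB]; exact Coprime.conj_mem_conj_smul hb
  · calc g = (x * h) * ((x * h)⁻¹ * g * (x * h)) * (x * h)⁻¹ := by simp [mul_assoc]
      _ = _ := by rw [e]; simp [mul_assoc]

end Cfsg.Agent.S0559
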