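import Cfsg.Statements.S0562
import Cfsg.Agent.Coprime.Tools
-- import your own Cfsg.Agent.* helpers here

set_option autoImplicit false
open Cfsg

namespace Cfsg.Agent.S0562

open scoped Pointwise

/-- Let the finite group G be the product HK of subgroups, A normal in H, B normal in K, and L the normalizer of the subgroup generated by A and B. Then every element of L is a product of an element of L ∩ H and an element of L ∩ K. -/
theorem result {G : Type*} [Group G] [Finite G] (H K A B : Subgroup G) (hHK : ∀ g : G, ∃ h ∈ H, ∃ k ∈ K, g = h * k) (hA : A ≤ H) (hAn : (A.subgroupOf H).Normal) (hB : B ≤ K) (hBn : (B.subgroupOf K).Normal) : ∀ g ∈ Subgroup.normalizer ((A ⊔ B : Subgroup G) : Set G), ∃ h ∈ Subgroup.normalizer ((A ⊔ B : Subgroup G) : Set G) ⊓ H, ∃ k ∈ Subgroup.normalizer ((A ⊔ B : Subgroup G) : Set G) ⊓ K, g = h * k := by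
  intro g hg
  obtain ⟨h, hh, k, hk, rfl⟩ := hHK g
  set D := A ⊔ B with hD
  have e : MulAut.conj (h * k) • D = D := Coprime.conj_smul_eq_self_of_mem_normalizer hg
  have hAk : MulAut.conj h • A = A := Coprime.conj_smul_eq_self_of_mem_normalizer
    ((Subgroup.normal_subgroupOf_iff_le_normalizer hA).mp hAn hh)
  have hBk : MulAut.conj k • B = B := Coprime.conj_smul_eq_self_of_mem_normalizer
    ((Subgroup.normal_subgroupOf_iff_le_normalizer hB).mp hBn hk)
  have hBle : MulAut.conj h • B ≤ D := by
    calc MulAut.conj h • B = MulAut.conj (h * k) • B := by rw [Coprime.conj_mul_smul, hBk]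
      _ ≤ MulAut.conj (h * k) • D := Subgroup.pointwise_smul_le_pointwise_smul_iff.mpr le_sup_right
      _ = D := e
  have h1 : MulAut.conj h • D ≤ D := by
    rw [hD, Subgroup.smul_sup]
    exact sup_le (hAk.le.trans le_sup_left) hBle
  have h2 : MulAut.conj h • D = D :=
    Subgroup.eq_of_le_of_card_ge h1 (Coprime.card_conj_smul h D).ge
  have hhN : h ∈ Subgroup.normalizer (D : Set G) := Coprime.mem_normalizer_of_conj_smul_eq h2
  refine ⟨h, ⟨hhN, hh⟩, k, ⟨?_, hk⟩, rfl⟩
  have := Subgroup.mul_mem _ (Subgroup.inv_mem _ hhN) hg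
  simpa using this

end Cfsg.Agent.S0562
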