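import Cfsg.Statements.S0563
import Cfsg.Agent.Core.NilpotentProduct
-- import your own Cfsg.Agent.* helpers here

set_option autoImplicit false
open Pointwise
open Cfsg

namespace Cfsg.Agent.S0563

/-- If a finite group G is the product AB of two nilpotent subgroups of coprime orders, then G is solvable, and for every Sylow p-subgroup P of A and Sylow q-subgroup Q of B the product set PQ is a subgroup. -/
theorem result {G : Type*} [Group G] [Finite G] (A B : Subgroup G) (hA : Group.IsNilpotent A) (hB : Group.IsNilpotent B) (hcop : (Nat.card A).Coprime (Nat.card B)) (hAB : ∀ g : G, ∃ a ∈ A, ∃ b ∈ B, g = a * b) : Group.IsSolvable G ∧ ∀ (p q : ℕ) [Fact p.Prime] [Fact q.Prime] (P : Sylow p A) (Q : Sylow q B), ∃ S : Subgroup G, (S : Set G) = (((P : Subgroup A).map A.subtype : Subgroup G) : Set G) * (((Q : Subgroup B).map B.subtype : Subgroup G) : Set G) := by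
  have := Core.isSolvable_of_coprime_nilpotent_product hA hB hcop hAB
  refine ⟨this, fun p q _ _ P Q => ?_⟩
  have key : ∀ (C D : Subgroup G), Group.IsNilpotent C → (Nat.card C).Coprime (Nat.card D) →
      (∀ g : G, ∃ a ∈ C, ∃ b ∈ D, g = a * b) → ∀ (r : ℕ) [Fact r.Prime] (R : Sylow r C),
      C ≤ Subgroup.normalizer (((R : Subgroup C).map C.subtype : Subgroup G) : Set G) ∧
        (Nat.card ((R : Subgroup C).map C.subtype)).Coprime ((R : Subgroup C).map C.subtype).index := by
    intro C D hC hCD hCDm r _ R
    have := hC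
    refine ⟨?_, ?_⟩
    · have h1 := Subgroup.le_normalizer_map (H := (R : Subgroup C)) C.subtype
      rwa [Subgroup.normalizer_eq_top_iff.mpr inferInstance, ← MonoidHom.range_eq_map, C.range_subtype] at h1
    · have h0 : Nat.card G = Nat.card C * Nat.card D := by
        have h1 := CentLarge.card_mul_card_inf C D
        rw [Set.eq_univ_of_forall (s := (C : Set G) * (D : Set G)) (fun g => by
          obtain ⟨a, ha, b, hb, rfl⟩ := hCDm g
          exact Set.mul_mem_mul ha hb), Coprime.inf_eq_bot_of_coprime hCD, Subgroup.card_bot, mul_one,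
          Nat.card_congr (Equiv.Set.univ G)] at h1
        exact h1
      have h2 : C.index = Nat.card D := Nat.eq_of_mul_eq_mul_left (Nat.card_pos (α := C))
        (by rw [C.card_mul_index, h0])
      rw [Subgroup.index_map_subtype, Subgroup.card_map_of_injective C.subtype_injective, h2]
      exact R.card_coprime_index.mul_right
        (hCD.coprime_dvd_left (Subgroup.card_subgroup_dvd_card _))
  obtain ⟨hP1, hP2⟩ := key A B hA hcop hAB p P
  obtain ⟨hQ1, hQ2⟩ := key B A hB hcop.symm (Core.exists_mul_eq_swap hAB) q Q
  have h := Core.hall_factors_permute hAB hP1 hQ1 hP2 hQ2 1 1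
  rw [map_one, one_smul, one_smul] at h
  exact ⟨_, h.coe_sup⟩

end Cfsg.Agent.S0563
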