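import Cfsg.Statements.S0568
import Cfsg.Agent.Core.CarterSystem
-- import your own Cfsg.Agent.* helpers here

set_option autoImplicit false
open Cfsg

namespace Cfsg.Agent.S0568

/-- Let D be the system normalizer of a Hall complement system of a finite solvable group G, and let A < B be normal subgroups with no normal subgroup of G strictly between them (a chief factor). If G centralizes B modulo A then B ≤ A ⊔ D (D covers the factor); otherwise B ∩ D ≤ A (D avoids it). -/
theorem result {G : Type*} [Group G] [Finite G] [Group.IsSolvable G] (K : Nat.Primes → Subgroup G) (hK : Cfsg.IsComplementSystem K) (A B : Subgroup G) [A.Normal] [B.Normal] (hAB : A < B) (hchief : ∀ N : Subgroup G, N.Normal → A ≤ N → N ≤ B → N = A ∨ N = B) : (⁅B, (⊤ : Subgroup G)⁆ ≤ A → B ≤ A ⊔ Cfsg.systemNormalizer K) ∧ (¬ ⁅B, (⊤ : Subgroup G)⁆ ≤ A → B ⊓ Cfsg.systemNormalizer K ≤ A) := by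
  set f := QuotientGroup.mk' A with hf
  have hfs : Function.Surjective f := QuotientGroup.mk'_surjective A
  have hker : ∀ x : G, f x = 1 ↔ x ∈ A := fun x => QuotientGroup.eq_one_iff x
  have hmn : Core.IsMinNormal (B.map f) := by
    refine ⟨Subgroup.Normal.map inferInstance f hfs, ?_, fun M hM hle => ?_⟩
    · rw [Ne, Subgroup.map_eq_bot_iff, QuotientGroup.ker_mk']; exact hAB.not_ge
    · have hA : A ≤ M.comap f := fun x hx => by
        rw [Subgroup.mem_comap, (hker x).mpr hx]; exact M.one_mem
      have hB : M.comap f ≤ B := by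
        refine (Subgroup.comap_mono hle).trans ?_
        rw [Subgroup.comap_map_eq_self (by rw [QuotientGroup.ker_mk']; exact hAB.le)]
      rcases hchief _ (hM.comap f) hA hB with e | e
      · left
        rw [← Subgroup.map_comap_eq_self_of_surjective hfs M, e, Subgroup.map_eq_bot_iff, QuotientGroup.ker_mk']
      · right
        rw [← Subgroup.map_comap_eq_self_of_surjective hfs M, e]
  have hcen : ⁅B, (⊤ : Subgroup G)⁆ ≤ A ↔ B.map f ≤ Subgroup.center (G ⧸ A) := by
    rw [← Subgroup.centralizer_univ, ← Subgroup.coe_top, ← Subgroup.commutator_eq_bot_iff_le_centralizer,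
      ← Subgroup.map_top_of_surjective f hfs, ← Subgroup.map_commutator, Subgroup.map_eq_bot_iff,
      QuotientGroup.ker_mk']
  obtain ⟨h1, h2⟩ := Core.systemNormalizer_minNormal hmn (Core.isComplementSystem_map hK A)
  rw [Core.systemNormalizer_map hK A] at h1 h2
  refine ⟨fun hc => ?_, fun hc => ?_⟩
  · have h3 := Subgroup.comap_mono (f := f) (h1 (hcen.mp hc))
    rw [Subgroup.comap_map_eq, Subgroup.comap_map_eq, QuotientGroup.ker_mk', sup_comm (systemNormalizer K)] at h3
    exact le_sup_left.trans h3
  · intro x hx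
    rw [← hker x]
    have h3 : f x ∈ B.map f ⊓ (systemNormalizer K).map f :=
      ⟨Subgroup.mem_map_of_mem f hx.1, Subgroup.mem_map_of_mem f hx.2⟩
    rw [h2 fun e => hc (hcen.mpr e), Subgroup.mem_bot] at h3
    exact h3

end Cfsg.Agent.S0568
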