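import Cfsg.Statements.S0574
import Cfsg.Agent.Core.AbelianByClassTwo
-- import your own Cfsg.Agent.* helpers here

set_option autoImplicit false
open Cfsg

namespace Cfsg.Agent.S0574

/-- Let the finite group G be the product AB of an abelian subgroup A and a subgroup B of nilpotency class at most two, and let Ω be the number of prime factors, with multiplicity, of the order of the commutator subgroup of B. Then the term of index 2(1 + Ω) of the derived series of G is trivial. -/
theorem result {G : Type*} [Group G] [Finite G] (A B : Subgroup G) [IsMulCommutative A] (hB : commutator ↥B ≤ Subgroup.center ↥B) (hAB : ∀ g : G, ∃ a ∈ A, ∃ b ∈ B, g = a * b) : derivedSeries G (2 * (1 + (Nat.card ↥(commutator ↥B)).primeFactorsList.length)) = ⊥ := by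
  have e : (commutator ↥B).map B.subtype = (⁅B, B⁆ : Subgroup G) := by
    rw [commutator_def, Subgroup.map_commutator, ← MonoidHom.range_eq_map, B.range_subtype]
  have hc : B ≤ Subgroup.centralizer ((⁅B, B⁆ : Subgroup G) : Set G) := fun b hb =>
    Subgroup.mem_centralizer_iff.mpr fun c hc => by
      obtain ⟨c', hc', rfl⟩ : c ∈ (commutator ↥B).map B.subtype := e ▸ hc
      exact (congrArg Subtype.val (Subgroup.mem_center_iff.mp (hB hc') ⟨b, hb⟩)).symm
  have h := Core.derivedSeries_abelian_class_two_aux _ G A B rfl inferInstance hc hAB
  rwa [← e, Subgroup.card_map_of_injective B.subtype_injective] at h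

end Cfsg.Agent.S0574
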