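import Cfsg.Statements.S0576
import Cfsg.Agent.Core.Frattini
-- import your own Cfsg.Agent.* helpers here

set_option autoImplicit false
open Cfsg

namespace Cfsg.Agent.S0576

/-- Let H be a normal subgroup of a finite group G with H contained in the Frattini subgroup of G. Then the group of inner automorphisms of H is contained in the Frattini subgroup of the automorphism group of H. -/
theorem result {G : Type*} [Group G] [Finite G] (H : Subgroup G) [H.Normal] (hH : H ≤ frattini G) : (MulAut.conj : ↥H →* MulAut ↥H).range ≤ frattini (MulAut ↥H) := by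
  refine Core.le_frattini fun M hM => ?_
  by_contra hle
  let π : G →* MulAut ↥H := MulAut.conjNormal
  have hπ : ∀ h : H, π h = MulAut.conj h := fun h => MulAut.conjNormal_val
  have hsup : (MulAut.conj : ↥H →* MulAut ↥H).range ⊔ M = ⊤ :=
    hM.2 _ (lt_of_le_of_ne le_sup_right fun e => hle (le_sup_left.trans e.ge))
  have hn : ((MulAut.conj : ↥H →* MulAut ↥H).range).Normal := ⟨by
    rintro _ ⟨h, rfl⟩ φ
    exact ⟨φ h, by ext x; simp [MulAut.conj_apply]⟩⟩
  have htop : H ⊔ M.comap π = ⊤ := by
    refine top_le_iff.mp fun g _ => ?_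
    have hg : π g ∈ (MulAut.conj : ↥H →* MulAut ↥H).range ⊔ M := hsup ▸ Subgroup.mem_top _
    obtain ⟨_, ⟨h, rfl⟩, m, hm, e⟩ := Subgroup.mem_sup_of_normal_left.mp hg
    have h2 : π ((h : G)⁻¹ * g) = m := by
      rw [map_mul, map_inv, hπ, ← e, inv_mul_cancel_left]
    have : g = (h : G) * ((h : G)⁻¹ * g) := by group
    rw [this]
    exact Subgroup.mul_mem_sup h.2 (show π _ ∈ M by rw [h2]; exact hm)
  have hc := Core.eq_top_of_sup_frattini hH (K := M.comap π) (by rw [sup_comm, htop])
  refine hle ?_
  rintro _ ⟨h, rfl⟩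
  have : (h : G) ∈ M.comap π := hc ▸ Subgroup.mem_top _
  exact hπ h ▸ this

end Cfsg.Agent.S0576
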