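import Cfsg.Statements.S0577
import Cfsg.Agent.Core.MinimalNonNilpotent
-- import your own Cfsg.Agent.* helpers here

set_option autoImplicit false
open Cfsg

namespace Cfsg.Agent.S0577

/-- Let G be a finite minimal non-nilpotent group and Q a normal Sylow q-subgroup of G, and let D be the commutator subgroup of Q regarded in G (a normal subgroup). Then G modulo D is non-abelian and all its proper subgroups are abelian. -/
theorem result {G : Type*} [Group G] [Finite G] (hG : Cfsg.IsMinimalNonNilpotent G) (q : ℕ) [Fact q.Prime] (hq : q ∣ Nat.card G) (Q : Sylow q G) (hQ : (Q : Subgroup G).Normal) (D : Subgroup G) [D.Normal] (hD : D = (commutator ↥(Q : Subgroup G)).map (Q : Subgroup G).subtype) : ¬ IsMulCommutative (G ⧸ D) ∧ ∀ K : Subgroup (G ⧸ D), K ≠ ⊤ → IsMulCommutative K := by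
  obtain ⟨p, q', hp, hq', hne, P, Q', hc, hPn, hQ'n, hsup⟩ := Core.minimalNonNilpotent_structure hG
  have := Fact.mk hp
  have := Fact.mk hq'
  have hQp : q ≠ p := by
    intro e; subst e
    have := Sylow.unique_of_normal Q hQ
    exact hPn (Subsingleton.elim P Q ▸ hQ)
  obtain rfl : q = q' :=
    (Core.minimalNonNilpotent_prime_cases (Fact.out : q.Prime) hne P Q' hsup hq).resolve_left hQp
  obtain rfl : Q' = Q := by
    have := Sylow.unique_of_normal Q' hQ'n
    exact Subsingleton.elim _ _
  have hDQ : D ≤ (Q' : Subgroup G) := hD ▸ Subgroup.map_subtype_le _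
  have hDΦ : D ≤ frattini G := by
    have := Q'.isPGroup'.isNilpotent
    exact hD ▸ (Subgroup.map_mono Core.commutator_le_frattini).trans (Core.frattini_le_of_normal _)
  set f := QuotientGroup.mk' D with hf
  have hfs : Function.Surjective f := QuotientGroup.mk'_surjective D
  have hdisj : Disjoint (P : Subgroup G) Q' :=
    IsPGroup.disjoint_of_ne p q hne _ _ P.isPGroup' Q'.isPGroup'
  refine ⟨fun hab => hPn ?_, fun K hK => ?_⟩
  · -- `P D` normal, so the normalizer of `P` covers `G` modulo the Frattini subgroup
    have hPD : ((P : Subgroup G) ⊔ D).Normal := by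
      rw [show (P : Subgroup G) ⊔ D = ((P : Subgroup G).map f).comap f from by
        rw [Subgroup.comap_map_eq, hf, QuotientGroup.ker_mk']]
      have : ((P : Subgroup G).map f).Normal :=
        ⟨fun a ha g => by rwa [hab.is_comm.comm g a, mul_inv_cancel_right]⟩
      exact this.comap f
    have h1 := Sylow.normalizer_sup_eq_top (P.subtype (le_sup_left : (P : Subgroup G) ≤ _ ⊔ D))
    rw [Sylow.coe_subtype, Subgroup.map_subgroupOf_eq_of_le le_sup_left, ← sup_assoc,
      sup_eq_left.mpr Subgroup.le_normalizer] at h1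
    exact Subgroup.normalizer_eq_top_iff.mp (Core.eq_top_of_sup_frattini hDΦ h1)
  · have hpre : K.comap f ≠ ⊤ := fun e => hK (Subgroup.comap_injective hfs (e.trans (Subgroup.comap_top f).symm))
    have hKn : Group.IsNilpotent K := by
      rw [← Subgroup.map_comap_eq_self_of_surjective hfs K]
      exact Core.isNilpotent_map (hG.2 _ hpre) f
    refine Core.isMulCommutative_of_nilpotent fun r _ S => ?_
    set T : Subgroup (G ⧸ D) := (S : Subgroup K).map K.subtype with hT
    have hTp : IsPGroup r T := S.isPGroup'.map K.subtype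
    suffices hTc : IsMulCommutative T by
      refine ⟨⟨fun a b => ?_⟩⟩
      have := congrArg Subtype.val (hTc.is_comm.comm ⟨_, Subgroup.mem_map_of_mem K.subtype a.2⟩
        ⟨_, Subgroup.mem_map_of_mem K.subtype b.2⟩)
      exact Subtype.ext (Subtype.ext this)
    by_cases hTb : T = ⊥
    · rw [hTb]; infer_instance
    obtain ⟨R, hR⟩ := hTp.exists_le_sylow
    suffices hRc : IsMulCommutative (R : Subgroup (G ⧸ D)) by
      exact ⟨⟨fun a b => Subtype.ext (by have h := congrArg Subtype.val (hRc.is_comm.comm ⟨a, hR a.2⟩ ⟨b, hR b.2⟩); exact h)⟩⟩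
    obtain ⟨R', rfl⟩ := Sylow.mapSurjective_surjective hfs r R
    have hr : r ∣ Nat.card G := by
      have h0 : Nat.card T ≠ 1 := fun e => hTb (Subgroup.card_eq_one.mp e)
      exact ((hTp.card_eq_or_dvd.resolve_left h0).trans (Subgroup.card_subgroup_dvd_card T)).trans
        (Subgroup.card_quotient_dvd_card D)
    rw [Sylow.coe_mapSurjective]
    rcases Core.minimalNonNilpotent_prime_cases (Fact.out : r.Prime) hne P Q' hsup hr with e | e
    · subst e
      obtain ⟨x, hx⟩ := MulAction.exists_smul_eq G P R'
      have : IsCyclic (R' : Subgroup G) := by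
        rw [← hx]
        exact (Sylow.equivSMul P x).isCyclic.mp hc
      have : IsCyclic ((R' : Subgroup G).map f) :=
        isCyclic_of_surjective _ (f.subgroupMap_surjective (R' : Subgroup G))
      exact IsCyclic.isMulCommutative
    · subst e
      obtain rfl : Q' = R' := by
        have := Sylow.unique_of_normal Q' hQ'n
        exact Subsingleton.elim _ _
      refine ⟨⟨?_⟩⟩
      rintro ⟨_, a, ha, rfl⟩ ⟨_, b, hb, rfl⟩
      refine Subtype.ext ?_
      show f a * f b = f b * f a
      rw [← map_mul, ← map_mul]
      refine QuotientGroup.eq.mpr ?_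
      have hmem : (⟨(a * b)⁻¹ * (b * a), mul_mem (inv_mem (mul_mem ha hb)) (mul_mem hb ha)⟩ :
          (Q' : Subgroup G)) ∈ commutator (Q' : Subgroup G) := by
        have h := Subgroup.commutator_mem_commutator (Subgroup.mem_top (⟨b, hb⟩ : (Q' : Subgroup G))⁻¹)
          (Subgroup.mem_top (⟨a, ha⟩ : (Q' : Subgroup G))⁻¹)
        rw [commutator_def]
        convert h using 1
        exact Subtype.ext (by simp [commutatorElement_def, mul_assoc])
      exact hD ▸ Subgroup.mem_map_of_mem (Q' : Subgroup G).subtype hmem

end Cfsg.Agent.S0577
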