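import Cfsg.Statements.S0578
import Cfsg.Agent.Core.Frattini
import Mathlib.GroupTheory.Transfer
-- import your own Cfsg.Agent.* helpers here

set_option autoImplicit false
open Cfsg

namespace Cfsg.Agent.S0578

open scoped commutatorElement
/-- A maximal abelian normal subgroup of a Sylow subgroup forces the Sylow subgroup abelian. -/
theorem sylow_comm {G : Type*} [Group G] [Finite G]
    (h : ∀ A : Subgroup G, IsMulCommutative A → Subgroup.normalizer (A : Set G) = Subgroup.centralizer (A : Set G))
    {p : ℕ} [Fact p.Prime] (P : Sylow p G) : IsMulCommutative (P : Subgroup G) := by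
  have := P.isPGroup'.isNilpotent
  obtain ⟨A, ⟨hAn, hAc⟩, hmax⟩ := (Set.toFinite
    {A : Subgroup (P : Subgroup G) | A.Normal ∧ IsMulCommutative A}).exists_maximal
      ⟨⊥, inferInstance, inferInstance⟩
  set A' := A.map (P : Subgroup G).subtype with hA'
  have hA'c : IsMulCommutative A' := inferInstance
  have hPC : ∀ x : (P : Subgroup G), x ∈ Subgroup.centralizer (A : Set (P : Subgroup G)) := by
    intro x a ha
    have hx : (x : G) ∈ Subgroup.normalizer (A' : Set G) :=
      Subgroup.le_normalizer_map _ ⟨x, by rw [Subgroup.normalizer_eq_top_iff.mpr hAn]; trivial, rfl⟩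
    rw [h A' hA'c] at hx
    exact Subtype.ext (hx (a : G) ⟨a, ha, rfl⟩)
  by_contra hnc
  have hAtop : A ≠ ⊤ := fun e => hnc ⟨⟨fun a b => setLike_mul_comm (s := A) (e ▸ Subgroup.mem_top a) (e ▸ Subgroup.mem_top b)⟩⟩
  set f := QuotientGroup.mk' A
  have hq : Nontrivial ((P : Subgroup G) ⧸ A) := QuotientGroup.nontrivial_iff.mpr hAtop
  obtain ⟨z, hz, hz1⟩ := (Subgroup.bot_or_exists_ne_one (Subgroup.center ((P : Subgroup G) ⧸ A))).resolve_left
    (Group.IsNilpotent.center_ne_bot _)
  obtain ⟨c, rfl⟩ := QuotientGroup.mk'_surjective A z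
  have hn : (Subgroup.zpowers (f c)).Normal := ⟨fun w hw g => by
    have hw' := Subgroup.zpowers_le.mpr hz hw
    rw [Subgroup.mem_center_iff.mp hw' g, mul_assoc, mul_inv_cancel, mul_one]
    exact hw⟩
  set M := (Subgroup.zpowers (f c)).comap f with hM
  have hMe : M = Subgroup.zpowers c ⊔ A := by
    rw [hM, ← MonoidHom.map_zpowers, Subgroup.comap_map_eq, QuotientGroup.ker_mk']
  have hMc : IsMulCommutative M := by
    rw [hMe, ← Subgroup.le_centralizer_iff_isMulCommutative]
    refine sup_le ?_ fun a ha y _ => (hPC y a ha).symm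
    rw [Subgroup.zpowers_le, Subgroup.mem_centralizer_iff]
    intro y hy
    obtain ⟨u, ⟨i, rfl⟩, a, ha, rfl⟩ := Subgroup.mem_sup_of_normal_right.mp hy
    exact ((Commute.refl c).zpow_left i |>.mul_left (hPC c a ha)).eq
  have := hmax ⟨hn.comap f, hMc⟩ (le_sup_right.trans hMe.ge)
  exact hz1 ((QuotientGroup.eq_one_iff c).mpr (this (Subgroup.mem_zpowers (f c))))

/-- If in a finite group the normalizer of each abelian subgroup coincides with its centralizer, then the group is abelian. -/
theorem result {G : Type*} [Group G] [Finite G] (h : ∀ A : Subgroup G, IsMulCommutative A → Subgroup.normalizer (A : Set G) = Subgroup.centralizer (A : Set G)) : IsMulCommutative G := by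
  have key : ∀ p : ℕ, p.Prime → ¬ p ∣ Nat.card (commutator G) := by
    intro p hp
    have := Fact.mk hp
    obtain ⟨P⟩ := (inferInstance : Nonempty (Sylow p G))
    have hc := sylow_comm h P
    have hP : Subgroup.normalizer (P : Set G) ≤ Subgroup.centralizer (P : Set G) := (h (P : Subgroup G) hc).le
    have hcompl := MonoidHom.ker_transferSylow_isComplement' P hP
    intro hd
    refine MonoidHom.not_dvd_card_ker_transferSylow P hP (hd.trans (Subgroup.card_dvd_of_le ?_))
    refine Subgroup.commutator_le.mpr fun x _ y _ => ?_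
    rw [MonoidHom.mem_ker, map_commutatorElement, commutatorElement_eq_one_iff_mul_comm]
    exact mul_comm' _ _
  have hbot : commutator G = ⊥ := by
    rw [← Subgroup.card_eq_one]
    exact Nat.eq_one_iff_not_exists_prime_dvd.mpr key
  exact ⟨⟨fun a b => commutatorElement_eq_one_iff_mul_comm.mp (by
    rw [← Subgroup.mem_bot, ← hbot]
    exact Subgroup.commutator_mem_commutator (Subgroup.mem_top a) (Subgroup.mem_top b))⟩⟩

end Cfsg.Agent.S0578
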