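import Cfsg.Statements.S0580
import Cfsg.Agent.Core.Hall
-- import your own Cfsg.Agent.* helpers here

set_option autoImplicit false
open Cfsg

namespace Cfsg.Agent.S0580

universe u
/-- The Sylow subgroup for the largest prime divisor is normal. -/
theorem sylow_normal {G : Type u} [Group G] [Finite G]
    (h : ∀ M : Subgroup G, IsCoatom M → M.index.Prime) {p : ℕ} [Fact p.Prime]
    (hmax : ∀ q : ℕ, q.Prime → q ∣ Nat.card G → q ≤ p) (P : Sylow p G) :
    (P : Subgroup G).Normal := by
  by_contra hn
  obtain ⟨M, hM, hle⟩ := (eq_top_or_exists_le_coatom (Subgroup.normalizer (P : Set G))).resolve_left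
    fun e => hn (Subgroup.normalizer_eq_top_iff.mp e)
  have hPM : (P : Subgroup G) ≤ M := Subgroup.le_normalizer.trans hle
  have h1 : (Subgroup.normalizer (P : Set G)).index ≡ 1 [MOD p] := by
    rw [← P.card_eq_index_normalizer]; exact card_sylow_modEq_one p G
  have h2 : (Subgroup.normalizer (P : Set G)).relIndex M ≡ 1 [MOD p] := by
    have h3 := card_sylow_modEq_one p M
    rw [Sylow.card_eq_index_normalizer (P.subtype hPM), ← Sylow.coe_coe, Sylow.coe_subtype] at h3
    rwa [Subgroup.relIndex, ← Sylow.coe_coe, Subgroup.subgroupOf_normalizer_eq hPM]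
  rw [← Subgroup.relIndex_mul_index hle] at h1
  have h4 : M.index ≡ 1 [MOD p] := by
    have h5 := (h2.mul_right M.index).symm.trans h1
    rwa [one_mul] at h5
  have hq := h M hM
  have hqp := hmax _ hq M.index_dvd_card
  have hp : p.Prime := Fact.out
  have h6 := (Nat.modEq_iff_dvd' hq.one_lt.le).mp h4.symm
  have := hq.one_lt
  have := Nat.le_of_dvd (by omega) h6
  omega

theorem aux : ∀ (n : ℕ) (G : Type u) [Group G] [Finite G], Nat.card G = n →
    (∀ M : Subgroup G, IsCoatom M → M.index.Prime) → Group.IsSolvable G := by
  intro n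
  induction n using Nat.strong_induction_on with
  | _ n ih =>
    intro G _ _ hn h
    rcases subsingleton_or_nontrivial G with hs | hs
    · exact Group.isSolvable_of_comm fun a b => Subsingleton.elim _ _
    have hne : (Nat.card G).primeFactors.Nonempty := Nat.nonempty_primeFactors.mpr Finite.one_lt_card
    set p := (Nat.card G).primeFactors.max' hne with hp
    have hmem := (Nat.card G).primeFactors.max'_mem hne
    have := Fact.mk (Nat.prime_of_mem_primeFactors hmem)
    obtain ⟨P⟩ := (inferInstance : Nonempty (Sylow p G))
    have hPn := sylow_normal h (fun q hq hd =>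
      Finset.le_max' _ q (Nat.mem_primeFactors.mpr ⟨hq, hd, Nat.card_pos.ne'⟩)) P
    have hPb : (P : Subgroup G) ≠ ⊥ := P.ne_bot_of_dvd_card (Nat.dvd_of_mem_primeFactors hmem)
    have hsQ := QuotientGroup.mk'_surjective (P : Subgroup G)
    have := ih _ (hn ▸ Core.card_quotient_lt hPb) (G ⧸ (P : Subgroup G)) rfl fun M hM => by
      have := h _ (Subgroup.isCoatom_comap_of_surjective hsQ hM)
      rwa [Subgroup.index_comap_of_surjective _ hsQ] at this
    have hPs : Group.IsSolvable (P : Subgroup G) :=
      have := P.isPGroup'.isNilpotent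
      inferInstance
    exact (Group.isSolvable_iff_subgroup_quotient (P : Subgroup G)).mpr ⟨hPs, this⟩

/-- If every maximal subgroup of a finite group has prime index, then the group is solvable. -/
theorem result {G : Type*} [Group G] [Finite G] (h : ∀ M : Subgroup G, IsCoatom M → M.index.Prime) : Group.IsSolvable G := by
  exact aux _ G rfl h

end Cfsg.Agent.S0580
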