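import Cfsg.Statements.S0582
import Cfsg.Agent.Core.Huppert
import Cfsg.Agent.Coprime.Tools
import Mathlib.GroupTheory.Sylow
-- import your own Cfsg.Agent.* helpers here

set_option autoImplicit false
open Pointwise
open Cfsg

namespace Cfsg.Agent.S0582

open scoped Pointwise

universe u

theorem hall_conj : ∀ (n : ℕ) (G : Type u) [Group G] [Finite G], Nat.card G = n →
    ∀ H K : Subgroup G, IsSupersolvable H → IsSupersolvable K → Nat.card H = Nat.card K →
      (Nat.card H).Coprime H.index → ∃ x : G, MulAut.conj x • H = K := by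
  intro n
  induction n using Nat.strong_induction_on with
  | _ n ih =>
    intro G _ _ hn H K hH hK hcard hHall
    by_cases h1 : Nat.card H = 1
    · refine ⟨1, ?_⟩
      rw [map_one, one_smul, Subgroup.card_eq_one.mp h1]
      exact (Subgroup.card_eq_one.mp (hcard.symm.trans h1)).symm
    obtain ⟨p, hp, hmax⟩ := Finset.exists_max_image (Nat.card H).primeFactors id
      (Nat.nonempty_primeFactors.mpr (lt_of_le_of_ne Nat.card_pos (Ne.symm h1)))
    obtain ⟨hpp, hpd, -⟩ := Nat.mem_primeFactors.mp hp
    have := Fact.mk hpp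
    have key : ∀ X : Subgroup G, IsSupersolvable X → Nat.card X = Nat.card H →
        ∃ P : Sylow p G, (P : Subgroup G) ≤ X ∧ X ≤ Subgroup.normalizer ((P : Subgroup G) : Set G) := by
      intro X hX hXc
      obtain ⟨P₀⟩ : Nonempty (Sylow p X) := inferInstance
      have hn0 : (P₀ : Subgroup X).Normal :=
        Core.sylow_normal_of_prime_index (p := p) (fun M hM => Core.prime_index_of_isSupersolvable hX hM)
          (fun r hr hrd => hmax r (Nat.mem_primeFactors.mpr ⟨hr, hXc ▸ hrd, Nat.card_pos.ne'⟩)) P₀
      have hXi : X.index = H.index := by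
        refine Nat.eq_of_mul_eq_mul_left (Nat.card_pos (α := H)) ?_
        rw [H.card_mul_index, ← hXc, X.card_mul_index]
      have hni : ¬ p ∣ ((P₀ : Subgroup X).map X.subtype).index := by
        rw [Subgroup.index_map_subtype, hXi]
        exact hpp.not_dvd_mul P₀.not_dvd_index fun h => hpp.ne_one (Nat.eq_one_of_dvd_coprimes hHall hpd h)
      refine ⟨(P₀.isPGroup'.map X.subtype).toSylow hni, Subgroup.map_subtype_le _, ?_⟩
      have h2 := Subgroup.le_normalizer_map (H := (P₀ : Subgroup X)) X.subtype
      rw [Subgroup.normalizer_eq_top, ← MonoidHom.range_eq_map, X.range_subtype] at h2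
      exact h2
    obtain ⟨P, hPH, hHN⟩ := key H hH rfl
    obtain ⟨Q, hQK, hKN⟩ := key K hK hcard.symm
    obtain ⟨g, hg⟩ := MulAction.exists_smul_eq G P Q
    suffices h : ∃ x : G, MulAut.conj x • (MulAut.conj g • H) = K by
      obtain ⟨x, hx⟩ := h
      exact ⟨x * g, by rw [Coprime.conj_mul_smul, hx]⟩
    set N := Subgroup.normalizer ((Q : Subgroup G) : Set G) with hN
    have hH'N : MulAut.conj g • H ≤ N := by
      intro y hy
      rw [Coprime.mem_conj_smul] at hy
      refine Coprime.mem_normalizer_of_conj_smul_eq ?_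
      have h2 := Coprime.conj_smul_eq_self_of_mem_normalizer (hHN hy)
      rw [← hg]
      show MulAut.conj y • MulAut.conj g • (P : Subgroup G) = MulAut.conj g • (P : Subgroup G)
      conv_rhs => rw [← h2, ← Coprime.conj_mul_smul]
      rw [← Coprime.conj_mul_smul]
      congr 2
      group
    have hQH' : (Q : Subgroup G) ≤ MulAut.conj g • H := by
      rw [← hg]; exact Subgroup.pointwise_smul_le_pointwise_smul_iff.mpr hPH
    have hHc : Nat.card (MulAut.conj g • H : Subgroup G) = Nat.card H := Coprime.card_conj_smul g H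
    have hH'ss : IsSupersolvable (MulAut.conj g • H : Subgroup G) :=
      Core.isSupersolvable_congr (Subgroup.equivSMul (MulAut.conj g) H) hH
    generalize MulAut.conj g • H = H' at hH'N hQH' hHc hH'ss
    have hQn : ((Q : Subgroup G).subgroupOf N).Normal := Subgroup.normal_in_normalizer
    set f := QuotientGroup.mk' ((Q : Subgroup G).subgroupOf N) with hf
    have hfs : Function.Surjective f := QuotientGroup.mk'_surjective _
    have hQb : (Q : Subgroup G).subgroupOf N ≠ ⊥ := fun e => by
      have h2 := Coprime.card_subgroupOf (show (Q : Subgroup G) ≤ N from Subgroup.le_normalizer)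
      rw [e, Subgroup.card_bot, Sylow.card_eq_multiplicity] at h2
      exact (Nat.one_lt_pow (Nat.Prime.factorization_pos_of_dvd hpp Nat.card_pos.ne'
        (hpd.trans (Subgroup.card_subgroup_dvd_card H))).ne' hpp.one_lt).ne h2
    have hker : ∀ X : Subgroup G, (Q : Subgroup G) ≤ X → f.ker ≤ X.subgroupOf N := fun X hX => by
      rw [QuotientGroup.ker_mk']; exact fun y hy => hX hy
    have hcm : ∀ X : Subgroup G, X ≤ N → (Q : Subgroup G) ≤ X →
        Nat.card ((X.subgroupOf N).map f) * Nat.card (Q : Subgroup G) = Nat.card X := fun X hX hQX => by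
      have h2 := Core.card_map_mk_mul ((Q : Subgroup G).subgroupOf N) (X.subgroupOf N)
      rw [inf_eq_right.mpr (fun y hy => hQX hy), Coprime.card_subgroupOf Subgroup.le_normalizer,
        Coprime.card_subgroupOf hX] at h2
      exact h2
    have hss : ∀ X : Subgroup G, X ≤ N → IsSupersolvable X → IsSupersolvable ((X.subgroupOf N).map f) :=
      fun X hX h => Core.isSupersolvable_of_surjective (f.subgroupMap_surjective _)
        (Core.isSupersolvable_congr (Subgroup.subgroupOfEquivOfLe hX).symm h)
    have hlt : Nat.card (N ⧸ (Q : Subgroup G).subgroupOf N) < n :=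
      lt_of_lt_of_le (Core.card_quotient_lt hQb) (hn ▸ Subgroup.card_le_card_group N)
    have hHall' : (Nat.card ((H'.subgroupOf N).map f)).Coprime ((H'.subgroupOf N).map f).index := by
      rw [Subgroup.index_map_eq _ hfs (hker H' hQH')]
      have hi : H'.index = H.index := by
        refine Nat.eq_of_mul_eq_mul_left (Nat.card_pos (α := H)) ?_
        rw [H.card_mul_index, ← hHc, H'.card_mul_index]
      exact (hHall.coprime_dvd_left (hHc ▸ Dvd.intro _ (hcm H' hH'N hQH'))).coprime_dvd_right
        (hi ▸ Subgroup.relIndex_dvd_index_of_le hH'N)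
    obtain ⟨x, hx⟩ := ih _ hlt _ rfl _ _ (hss H' hH'N hH'ss) (hss K hKN hK)
      (Nat.eq_of_mul_eq_mul_right (Nat.card_pos (α := (Q : Subgroup G)))
        ((hcm H' hH'N hQH').trans ((hHc.trans hcard).trans (hcm K hKN hQK).symm))) hHall'
    obtain ⟨x, rfl⟩ := hfs x
    refine ⟨x, Subgroup.eq_of_le_of_card_ge ?_ (by rw [Coprime.card_conj_smul, hHc, hcard])⟩
    rw [← Coprime.map_conj_smul] at hx
    have h2 : MulAut.conj x • H'.subgroupOf N ≤ K.subgroupOf N := by
      rw [← Subgroup.comap_map_eq_self (hker K hQK), ← hx]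
      exact Subgroup.le_comap_map _ _
    have h3 := Subgroup.map_mono (f := N.subtype) h2
    rwa [Coprime.conj_smul_map_subtype, Subgroup.map_subgroupOf_eq_of_le hH'N,
      Subgroup.map_subgroupOf_eq_of_le hKN] at h3

/-- Let H and K be supersolvable subgroups of a finite group G of the same order, that order being coprime to their index. Then H and K are conjugate in G. -/
theorem result {G : Type*} [Group G] [Finite G] (H K : Subgroup G) (hH : Cfsg.IsSupersolvable H) (hK : Cfsg.IsSupersolvable K) (hcard : Nat.card H = Nat.card K) (hHall : (Nat.card H).Coprime H.index) : ∃ x : G, MulAut.conj x • H = K := by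
  exact hall_conj _ G rfl H K hH hK hcard hHall

end Cfsg.Agent.S0582
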