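import Cfsg.Statements.S0583
import Cfsg.Agent.Core.Solvable
-- import your own Cfsg.Agent.* helpers here

set_option autoImplicit false
open Cfsg

namespace Cfsg.Agent.S0583

/-- In a finite group the Fitting subgroup is contained in the centralizer of each minimal normal subgroup. -/
theorem result {G : Type*} [Group G] [Finite G] (M : Subgroup G) [M.Normal] (hM : M ≠ ⊥) (hmin : ∀ K : Subgroup G, K.Normal → K ≤ M → K = ⊥ ∨ K = M) : Cfsg.fittingSubgroup G ≤ Subgroup.centralizer (M : Set G) := by
  have hmn : Core.IsMinNormal M := ⟨inferInstance, hM, hmin⟩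
  rcases hmn.le_or_inf_eq_bot (Cfsg.fittingSubgroup G) with h | h
  · set F := Cfsg.fittingSubgroup G
    have hb : M.subgroupOf F ≠ ⊥ := fun e => hM (by
      rw [← Subgroup.map_subgroupOf_eq_of_le h, e, Subgroup.map_bot])
    have hc := Core.inf_center_ne_bot (G := F) hb
    have hZn : ((Subgroup.center F).map F.subtype).Normal := inferInstance
    rcases hmn.le_or_inf_eq_bot ((Subgroup.center F).map F.subtype) with h' | h'
    · intro x hx m hm
      obtain ⟨z, hz, rfl⟩ := h' hm
      exact (congrArg Subtype.val (Subgroup.mem_center_iff.mp hz ⟨x, hx⟩)).symm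
    · refine absurd (le_bot_iff.mp ?_) hc
      refine fun z hz => ?_
      have : (z : G) ∈ M ⊓ (Subgroup.center F).map F.subtype := ⟨hz.1, z, hz.2, rfl⟩
      rw [h', Subgroup.mem_bot] at this
      exact Subgroup.mem_bot.mpr (Subtype.ext this)
  · exact fun x hx m hm => (Subgroup.commute_of_normal_of_disjoint _ _ inferInstance inferInstance
      (disjoint_iff.mpr h) m x hm hx).eq

end Cfsg.Agent.S0583
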