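import Cfsg.Statements.S0586
import Cfsg.Agent.Core.Solvable
-- import your own Cfsg.Agent.* helpers here

set_option autoImplicit false
open Cfsg

namespace Cfsg.Agent.S0586

/-- If the Frattini subgroup of a finite group G is trivial, then the Fitting subgroup of G equals the join of all abelian minimal normal subgroups of G. -/
theorem result {G : Type*} [Group G] [Finite G] (hΦ : frattini G = ⊥) : Cfsg.fittingSubgroup G = sSup {N : Subgroup G | N.Normal ∧ N ≠ ⊥ ∧ IsMulCommutative N ∧ ∀ K : Subgroup G, K.Normal → K ≤ N → K = ⊥ ∨ K = N} := by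
  set T := sSup {N : Subgroup G | N.Normal ∧ N ≠ ⊥ ∧ IsMulCommutative N ∧
    ∀ K : Subgroup G, K.Normal → K ≤ N → K = ⊥ ∨ K = N} with hT
  set F := Cfsg.fittingSubgroup G with hF
  have hTn : T.Normal := Subgroup.sSup_normal _ fun _ h => h.1
  have hTF : T ≤ F := sSup_le fun N hN =>
    have := hN.1; have := hN.2.2.1
    Core.le_fittingSubgroup_of_isMulCommutative
  have hFc : IsMulCommutative F := by
    have h : commutator F ≤ frattini F := Core.commutator_le_frattini
    have h' := (Subgroup.map_mono (f := F.subtype) h).trans (Core.frattini_le_of_normal F)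
    rw [hΦ, le_bot_iff, Subgroup.map_eq_bot_iff_of_injective _ F.subtype_injective] at h'
    exact ⟨⟨fun a b => commutatorElement_eq_one_iff_mul_comm.mp (by
      rw [← Subgroup.mem_bot, ← h']
      exact Subgroup.commutator_mem_commutator (Subgroup.mem_top a) (Subgroup.mem_top b))⟩⟩
  have hTc : IsMulCommutative T := ⟨⟨fun a b => Subtype.ext
    (congrArg Subtype.val (hFc.is_comm.comm ⟨a, hTF a.2⟩ ⟨b, hTF b.2⟩) : (a : G) * b = b * a)⟩⟩
  obtain ⟨H, hH⟩ := Core.exists_isComplement'_of_inf_frattini (A := T) (by rw [hΦ, inf_bot_eq])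
  have hFH : (H ⊓ F).Normal := Core.inf_normal_of_sup_eq_top
    (top_le_iff.mp (hH.sup_eq_top.ge.trans (sup_le (hTF.trans le_sup_right) le_sup_left)))
  have hb : H ⊓ F = ⊥ := by
    by_contra hne
    obtain ⟨N, hNle, hN⟩ := Core.exists_isMinNormal_le hne
    have hNc : IsMulCommutative N := ⟨⟨fun a b => Subtype.ext (congrArg Subtype.val
      (hFc.is_comm.comm ⟨a, (hNle a.2).2⟩ ⟨b, (hNle b.2).2⟩) : (a : G) * b = b * a)⟩⟩
    have hNT : N ≤ T := le_sSup ⟨hN.normal, hN.ne_bot, hNc, hN.eq_of_le⟩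
    exact hN.ne_bot (le_bot_iff.mp ((le_inf hNT (hNle.trans inf_le_left)).trans
      (disjoint_iff.mp hH.disjoint).le))
  refine le_antisymm (fun x hx => ?_) hTF
  have hx' : x ∈ T ⊔ H := hH.sup_eq_top ▸ Subgroup.mem_top x
  obtain ⟨t, ht, h, hh, rfl⟩ := Subgroup.mem_sup_of_normal_left.mp hx'
  have : h ∈ H ⊓ F := ⟨hh, by
    have := F.mul_mem (F.inv_mem (hTF ht)) hx
    simpa using this⟩
  rw [hb, Subgroup.mem_bot] at this
  rw [this, mul_one]
  exact ht

end Cfsg.Agent.S0586
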