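import Cfsg.Statements.S0587
import Cfsg.Agent.Core.CoreFree
import Cfsg.Agent.Core.Supersolvable
-- import your own Cfsg.Agent.* helpers here

set_option autoImplicit false
open Cfsg

namespace Cfsg.Agent.S0587

/-- Let G be a finite group whose largest normal p-subgroup L is nontrivial, and M a maximal subgroup of G with trivial normal core. Then L is elementary abelian, M is a complement to L, L is a minimal normal subgroup of G, the centralizer of L is L, and for every prime q such that the largest normal q-subgroup of M is nontrivial, the order of L is congruent to 1 modulo q and q ≠ p. -/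
theorem result {G : Type*} [Group G] [Finite G] (p : ℕ) [Fact p.Prime] (hL : Cfsg.pCore p G ≠ ⊥) (M : Subgroup G) (hM : IsCoatom M) (hcore : M.normalCore = ⊥) : Cfsg.IsElementaryAbelian p (Cfsg.pCore p G) ∧ Subgroup.IsComplement' (Cfsg.pCore p G) M ∧ (∀ K : Subgroup G, K.Normal → K ≤ Cfsg.pCore p G → K = ⊥ ∨ K = Cfsg.pCore p G) ∧ Subgroup.centralizer ((Cfsg.pCore p G : Subgroup G) : Set G) = Cfsg.pCore p G ∧ ∀ (q : ℕ) [Fact q.Prime], Cfsg.pCore q ↥M ≠ ⊥ → Nat.card (Cfsg.pCore p G) % q = 1 % q ∧ q ≠ p := by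
  set L := Cfsg.pCore p G with hLdef
  have hLn : L.Normal := Core.pCore_normal
  obtain ⟨N, hNL, hN⟩ := Core.exists_isMinNormal_le hL
  have := hN.normal
  have hLN := hN.le_centralizer_of_isPGroup Core.pCore_isPGroup hNL
  have : IsMulCommutative N := ⟨⟨fun a b => Subtype.ext (hLN (hNL b.2) a a.2)⟩⟩
  have hC := Core.coreFree_centralizer_eq hM hcore hN
  have hLe : L = N := le_antisymm (hLN.trans hC.le) hNL
  obtain ⟨r, hr, he⟩ := hN.exists_prime_pow_eq_one
  have hrp : r = p := by
    obtain ⟨v, hv, hv1⟩ := (Subgroup.bot_or_exists_ne_one N).resolve_left hN.ne_bot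
    obtain ⟨k, hk⟩ := IsPGroup.iff_orderOf.mp (Core.pCore_isPGroup (p := p) (G := G)) ⟨v, hNL hv⟩
    rw [Subgroup.orderOf_mk] at hk
    rcases (Nat.dvd_prime hr).mp (hk ▸ orderOf_dvd_of_pow_eq_one (he v hv)) with h1 | h1
    · exact absurd (orderOf_eq_one_iff.mp (hk.trans h1)) hv1
    · rw [← h1] at hr ⊢
      rw [Nat.Prime.eq_one_of_pow hr, pow_one]
  subst hrp
  rw [hLe]
  refine ⟨⟨this, he⟩, Core.coreFree_isComplement hM hcore hN.ne_bot, hN.eq_of_le, hC, fun q hqf hQ => ?_⟩
  have hq : q.Prime := Fact.out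
  set Q := (Cfsg.pCore q M).map M.subtype with hQdef
  have hQne : Q ≠ ⊥ := fun e => hQ ((Subgroup.map_eq_bot_iff_of_injective _ M.subtype_injective).mp e)
  have hQM : Q ≤ M := Subgroup.map_subtype_le _
  have htop := Core.coreFree_sup_eq_top hM hcore hN.ne_bot
  have hfix : N ⊓ Subgroup.centralizer (Q : Set G) = ⊥ := by
    have hMQ : M ≤ Subgroup.normalizer (Q : Set G) := fun x hx =>
      Subgroup.le_normalizer_map _ ⟨⟨x, hx⟩,
        by rw [Subgroup.normalizer_eq_top]; trivial, rfl⟩
    have hn : (N ⊓ Subgroup.centralizer (Q : Set G)).Normal := by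
      refine Subgroup.normalizer_eq_top_iff.mp (top_le_iff.mp (htop.ge.trans (sup_le ?_ ?_)))
      · exact ((Subgroup.le_centralizer N).trans
          (Subgroup.centralizer_le (SetLike.coe_subset_coe.mpr inf_le_left))).trans
          (Subgroup.centralizer_le_normalizer _)
      · exact Coprime.le_normalizer_inf (by rw [Subgroup.normalizer_eq_top]; exact le_top)
          (Coprime.le_normalizer_centralizer hMQ)
    refine (hN.eq_of_le _ hn inf_le_left).resolve_right fun e => hQne ?_
    have h1 : Q ≤ Subgroup.centralizer (N : Set G) :=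
      fun x hx y hy => ((inf_eq_left.mp e hy) x hx).symm
    rw [hC] at h1
    exact le_bot_iff.mp ((le_inf h1 hQM).trans
      (disjoint_iff.mp (Core.coreFree_isComplement hM hcore hN.ne_bot).disjoint).le)
  let act : MulAction Q N := MulAction.compHom N
    ((MulAut.conjNormal (H := N)).comp Q.subtype)
  have hQp : IsPGroup q Q := Core.pCore_isPGroup.map _
  have hmod := hQp.card_modEq_card_fixedPoints N
  have h1 : Nat.card (MulAction.fixedPoints Q N) = 1 := by
    have : MulAction.fixedPoints Q N = {(1 : N)} := by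
      ext x
      refine ⟨fun hx => ?_, fun hx a => ?_⟩
      · have hx' : (x : G) ∈ N ⊓ Subgroup.centralizer (Q : Set G) := ⟨x.2, fun a ha => by
          have h2 : (MulAut.conjNormal (H := N)) a x = x := hx ⟨a, ha⟩
          have h3 := congrArg Subtype.val h2
          rw [MulAut.conjNormal_apply] at h3
          exact mul_inv_eq_iff_eq_mul.mp h3⟩
        rw [hfix, Subgroup.mem_bot] at hx'
        exact Subtype.ext hx'
      · rw [Set.mem_singleton_iff.mp hx]
        exact map_one (MulAut.conjNormal (H := N) (a : G))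
    rw [this]
    exact Nat.card_unique
  rw [h1] at hmod
  refine ⟨hmod, fun e => ?_⟩
  subst e
  obtain ⟨k, hk⟩ := IsPGroup.iff_card.mp (Core.pCore_isPGroup.to_le hNL : IsPGroup q N)
  have hk0 : k ≠ 0 := fun e => hN.ne_bot (Subgroup.card_eq_one.mp (by rw [hk, e, pow_zero]))
  rw [hk] at hmod
  have hd : q ∣ 1 := by
    rw [← Nat.modEq_zero_iff_dvd]
    exact hmod.symm.trans (Nat.modEq_zero_iff_dvd.mpr (dvd_pow_self q hk0))
  exact hq.not_dvd_one hd

end Cfsg.Agent.S0587
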