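import Cfsg.Statements.S0588
import Mathlib.GroupTheory.Sylow
import Mathlib.GroupTheory.PGroup
-- import your own Cfsg.Agent.* helpers here

set_option autoImplicit false
open Cfsg

namespace Cfsg.Agent.S0588

/-- If a subgroup H of a finite group G contains the centralizer of every non-identity element of H, then the order of H is coprime to its index. -/
theorem result {G : Type*} [Group G] [Finite G] (H : Subgroup G) (h : ∀ x ∈ H, x ≠ 1 → Subgroup.centralizer ({x} : Set G) ≤ H) : (Nat.card H).Coprime H.index := by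
  refine Nat.coprime_of_dvd' fun p hp hpH hpi => ?_
  exfalso
  have := Fact.mk hp
  obtain ⟨P⟩ : Nonempty (Sylow p H) := inferInstance
  obtain ⟨R, hR⟩ := (P.isPGroup'.map H.subtype).exists_le_sylow
  obtain ⟨x, hx⟩ := exists_prime_orderOf_dvd_card' (G := (P : Subgroup H)) p
    (P.dvd_card_of_dvd_card hpH)
  have hx1 : ((x : H) : G) ≠ 1 := fun e => by
    have : x = 1 := Subtype.ext (Subtype.ext e)
    rw [this, orderOf_one] at hx
    exact hp.one_lt.ne hx
  have hxR : ((x : H) : G) ∈ (R : Subgroup G) := hR ⟨x, x.2, rfl⟩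
  have : Nontrivial (R : Subgroup G) := nontrivial_of_ne ⟨_, hxR⟩ 1 fun e => hx1 (congrArg Subtype.val e)
  obtain ⟨⟨⟨z, hzR⟩, hzc⟩, hz1⟩ := @exists_ne _ R.isPGroup'.center_nontrivial
    (1 : Subgroup.center (R : Subgroup G))
  have hz1' : z ≠ 1 := fun e => hz1 (Subtype.ext (Subtype.ext e))
  have hzH : z ∈ H := h _ (x : H).2 hx1 (Subgroup.mem_centralizer_singleton_iff.mpr
    (congrArg Subtype.val (Subgroup.mem_center_iff.mp hzc ⟨_, hxR⟩)).symm)
  have hRH : (R : Subgroup G) ≤ H := fun r hr => h z hzH hz1'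
    (Subgroup.mem_centralizer_singleton_iff.mpr
      (congrArg Subtype.val (Subgroup.mem_center_iff.mp hzc ⟨r, hr⟩)))
  exact R.not_dvd_index (hpi.trans (Subgroup.index_dvd_of_le hRH))

end Cfsg.Agent.S0588
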