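import Cfsg.Statements.S0589
import Cfsg.Agent.Core.FrobeniusGroup
-- import your own Cfsg.Agent.* helpers here

set_option autoImplicit false
open Pointwise
open Cfsg

namespace Cfsg.Agent.S0589

/-- Let H be a Frobenius complement in a finite group G and L a subgroup of G whose order divides the order of H. Then L is contained in some conjugate of H. -/
theorem result {G : Type*} [Group G] [Finite G] (H : Subgroup G) (hH : Cfsg.IsFrobeniusComplement H) (L : Subgroup G) (hL : Nat.card L ∣ Nat.card H) : ∃ x : G, L ≤ MulAut.conj x • H := by
  refine Core.exists_le_conj_of_covered hH fun x hx hx1 => ?_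
  by_contra hno
  push Not at hno
  obtain ⟨N, hN, -, hc⟩ := Core.exists_frobeniusKernel hH
  have hxN : x ∈ N := by
    rw [← SetLike.mem_coe, hN]
    exact Or.inr hno
  have hcop : (Nat.card H).Coprime (Nat.card N) :=
    hc.index_eq_card.symm ▸ Core.coprime_card_index_of_isFrobeniusComplement hH
  exact hx1 (orderOf_eq_one_iff.mp (Nat.eq_one_of_dvd_coprimes hcop
    ((L.orderOf_dvd_natCard hx).trans hL) (N.orderOf_dvd_natCard hxN)))

end Cfsg.Agent.S0589
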