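import Cfsg.Statements.S0590

set_option autoImplicit false
open Cfsg

namespace Cfsg.Agent.S0590

/-- Quadratic action on an elementary abelian p-group forces the acting group modulo the kernel of the action to be elementary abelian. -/
theorem result {G : Type*} [Group G] [Finite G] {p : ℕ} [Fact p.Prime] (V H : Subgroup G) (hV : Cfsg.IsElementaryAbelian p V) (hHV : H ≤ Subgroup.normalizer (V : Set G)) (hq : ⁅⁅V, H⁆, H⁆ = ⊥) : ⁅H, H⁆ ≤ Subgroup.centralizer (V : Set G) ∧ ∀ a ∈ H, a ^ p ∈ Subgroup.centralizer (V : Set G) := by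
  have h1 : ⁅⁅H, V⁆, H⁆ = ⊥ := by rw [Subgroup.commutator_comm H V]; exact hq
  refine ⟨Subgroup.commutator_eq_bot_iff_le_centralizer.mp
    (Subgroup.commutator_commutator_eq_bot_of_rotate h1 hq), fun a ha => ?_⟩
  rw [Subgroup.mem_centralizer_iff]
  intro v hv
  set c := a * v * a⁻¹ * v⁻¹ with hc
  have hcV : c ∈ V := mul_mem ((Subgroup.mem_normalizer_iff.mp (hHV ha) v).mp hv) (inv_mem hv)
  have hcmem : c ∈ ⁅V, H⁆ := by
    rw [Subgroup.commutator_comm]
    exact Subgroup.commutator_mem_commutator ha hv
  have hac : a * c = c * a :=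
    Subgroup.mem_centralizer_iff.mp (Subgroup.commutator_eq_bot_iff_le_centralizer.mp hq hcmem) a ha
  have hit : ∀ n : ℕ, a ^ n * v = c ^ n * v * a ^ n := by
    intro n
    induction n with
    | zero => simp
    | succ n ih =>
      calc a ^ (n + 1) * v = a * (a ^ n * v) := by rw [pow_succ', mul_assoc]
        _ = a * c ^ n * v * a ^ n := by rw [ih]; group
        _ = c ^ n * (a * v) * a ^ n := by
            rw [((show Commute a c from hac).pow_right n).eq]; group
        _ = c ^ n * (c * v * a) * a ^ n := by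
            rw [show c * v * a = a * v by rw [hc]; group]
        _ = c ^ (n + 1) * v * a ^ (n + 1) := by rw [pow_succ c, pow_succ' a]; group
  rw [hit p, hV.2 c hcV, one_mul]

end Cfsg.Agent.S0590
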