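import Cfsg.Statements.S0591

set_option autoImplicit false
open Cfsg

namespace Cfsg.Agent.S0591

/-- For a quadratically acting element a on an elementary abelian p-group V, the fixed points C_V(a) have order at least the square root of the order of V. -/
theorem result {G : Type*} [Group G] [Finite G] {p : ℕ} [Fact p.Prime] (V : Subgroup G) (hV : Cfsg.IsElementaryAbelian p V) (a : G) (ha : a ∈ Subgroup.normalizer (V : Set G)) (hq : ⁅⁅V, Subgroup.zpowers a⁆, Subgroup.zpowers a⁆ = ⊥) : Nat.card V ≤ Nat.card ↥(V ⊓ Subgroup.centralizer (Subgroup.zpowers a : Set G)) ^ 2 := by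
  set C := V ⊓ Subgroup.centralizer (Subgroup.zpowers a : Set G) with hC
  have hab := hV.1
  have hmem : ∀ v : V, a * v * a⁻¹ * (v : G)⁻¹ ∈ C := by
    intro v
    refine ⟨mul_mem ((Subgroup.mem_normalizer_iff.mp ha v).mp v.2) (Subgroup.inv_mem _ v.2), ?_⟩
    refine Subgroup.commutator_eq_bot_iff_le_centralizer.mp hq ?_
    rw [Subgroup.commutator_comm]
    exact Subgroup.commutator_mem_commutator (Subgroup.mem_zpowers a) v.2
  let φ : V →* C := MonoidHom.mk' (fun v => ⟨_, hmem v⟩) fun v w => Subtype.ext (by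
    show a * ((v : G) * w) * a⁻¹ * ((v : G) * w)⁻¹ =
      (a * v * a⁻¹ * (v : G)⁻¹) * (a * w * a⁻¹ * (w : G)⁻¹)
    have h1 : (a * w * a⁻¹ * (w : G)⁻¹) * v = v * (a * w * a⁻¹ * (w : G)⁻¹) :=
      congrArg (fun x : V => (x : G)) (hab.is_comm.comm ⟨_, (hmem w).1⟩ v)
    calc a * ((v : G) * w) * a⁻¹ * ((v : G) * w)⁻¹
        = (a * v * a⁻¹ * (v : G)⁻¹) * (v * (a * w * a⁻¹ * (w : G)⁻¹)) * (v : G)⁻¹ := by group
      _ = (a * v * a⁻¹ * (v : G)⁻¹) * ((a * w * a⁻¹ * (w : G)⁻¹) * v) * (v : G)⁻¹ := by rw [h1]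
      _ = _ := by group)
  have hk : Nat.card φ.ker ≤ Nat.card C := by
    refine Nat.card_le_card_of_injective (fun v => (⟨((v : V) : G), (v : V).2, ?_⟩ : C)) ?_
    · refine Subgroup.mem_centralizer_iff.mpr fun y hy => ?_
      obtain ⟨i, rfl⟩ := Subgroup.mem_zpowers_iff.mp hy
      have h1 : a * ((v : V) : G) * a⁻¹ * ((v : V) : G)⁻¹ = 1 :=
        congrArg (fun x : C => (x : G)) v.2
      have h2 : Commute a ((v : V) : G) := by
        show a * ((v : V) : G) = (v : V) * a
        calc a * ((v : V) : G)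
            = (a * (v : V) * a⁻¹ * ((v : V) : G)⁻¹) * (v : V) * a := by group
          _ = (v : V) * a := by rw [h1, one_mul]
      exact (h2.zpow_left i).eq
    · intro x y hxy
      exact Subtype.ext (Subtype.ext (congrArg (fun z : C => (z : G)) hxy))
  rw [← φ.ker.card_mul_index, Subgroup.index_ker, pow_two]
  exact Nat.mul_le_mul hk (Subgroup.card_le_card_group _)

end Cfsg.Agent.S0591
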