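import Cfsg.Statements.S0592
import Cfsg.Agent.QdFree.PairField

set_option autoImplicit false
open Cfsg
open Cfsg.Agent Cfsg.Agent.QdFree

namespace Cfsg.Agent.S0592

/-- Two quadratically acting generators of a linear group that is not a p-group, with the p'-part of the order of their product dividing q - 1, give a homomorphism onto a subgroup of SL(2, q) that is not a p-group. -/
theorem result {K : Type*} [Field K] [Fintype K] {p : ℕ} [Fact p.Prime] [CharP K p] {W : Type*} [AddCommGroup W] [Module K W] [FiniteDimensional K W] [Finite W] [Nontrivial W] (H : Subgroup (W ≃ₗ[K] W)) (a b : W ≃ₗ[K] W) (hH : H = Subgroup.closure {a, b}) (ha : ∀ w : W, a (a w - w) = a w - w) (hb : ∀ w : W, b (b w - w) = b w - w) (hnp : ¬ IsPGroup p H) (hk : ∃ e k : ℕ, orderOf (a * b) = p ^ e * k ∧ k ∣ Fintype.card K - 1) : ∃ φ : H →* Matrix.SpecialLinearGroup (Fin 2) K, ¬ IsPGroup p φ.range := by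
  obtain ⟨e, k, he, hk⟩ := hk
  have : Finite (Module.End K W) := Finite.of_injective _ DFunLike.coe_injective
  have h0 : (p : Module.End K W) = 0 := by
    rw [← map_natCast (algebraMap K (Module.End K W)), CharP.cast_eq_zero, map_zero]
  let ρ : H →* Module.End K W :=
    { toFun := fun h => (h : W ≃ₗ[K] W).toLinearMap
      map_one' := rfl
      map_mul' := fun _ _ => rfl }
  have hρ : Function.Injective ρ := fun h h' heq =>
    Subtype.ext (LinearEquiv.toLinearMap_injective heq)
  have haH : a ∈ H := hH ▸ Subgroup.subset_closure (Or.inl rfl)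
  have hbH : b ∈ H := hH ▸ Subgroup.subset_closure (Or.inr rfl)
  set x : H := ⟨a, haH⟩
  set y : H := ⟨b, hbH⟩
  have hgen : Subgroup.closure ({x, y} : Set H) = ⊤ := by
    refine Subgroup.map_injective H.subtype_injective ?_
    rw [MonoidHom.map_closure, ← MonoidHom.range_eq_map, Subgroup.range_subtype, Set.image_pair]
    exact hH.symm
  have hx : ρ x = 1 + (ρ x - 1) := by rw [add_sub_cancel]
  have hy : ρ y = 1 + (ρ y - 1) := by rw [add_sub_cancel]
  have hqx : (ρ x - 1) * (ρ x - 1) = 0 := LinearMap.ext fun w => by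
    show a (a w - w) - (a w - w) = 0
    rw [ha, sub_self]
  have hqy : (ρ y - 1) * (ρ y - 1) = 0 := LinearMap.ext fun w => by
    show b (b w - w) - (b w - w) = 0
    rw [hb, sub_self]
  have hn : ¬ IsNilpotent ((ρ x - 1) * (ρ y - 1)) := fun h =>
    hnp (isPGroup_of_pair h0 ρ hρ hgen hx hy hqx hqy h)
  obtain ⟨F, _, _, _, lam, hlam, hF, φ, hφx, hφy, -⟩ :=
    exists_hom_sl2 h0 ρ hgen hx hy hqx hqy hn
  have hM : (RootSub.Dickson.lowR lam * RootSub.Dickson.upR 1 :
      Matrix.SpecialLinearGroup (Fin 2) F) ^ (p ^ e * k) = 1 := by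
    rw [← hφx, ← hφy, ← map_mul, ← map_pow, show (x * y) ^ (p ^ e * k) = 1 from
      Subtype.ext (by show (a * b) ^ (p ^ e * k) = 1; rw [← he, pow_orderOf_eq_one]), map_one]
  obtain ⟨ψ⟩ := exists_ringHom_of_order (p := p) (F := F) (K := K) hF hk hM
  let Φ := (Matrix.SpecialLinearGroup.map (n := Fin 2) ψ).comp φ
  refine ⟨Φ, not_isPGroup_of_transvections (lam := ψ lam)
    (fun h => hlam (ψ.injective (h.trans (map_zero ψ).symm))) ⟨x, ?_⟩ ⟨y, ?_⟩⟩
  · show Matrix.SpecialLinearGroup.map ψ (φ x) = _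
    rw [hφx, RootSub.Dickson.map_lowR]
  · show Matrix.SpecialLinearGroup.map ψ (φ y) = _
    rw [hφy, RootSub.Dickson.map_upR, map_one]

end Cfsg.Agent.S0592
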