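import Cfsg.Statements.S0594
import Cfsg.Agent.QdFree.PairAction

set_option autoImplicit false
open Cfsg
open Cfsg.Agent.QdFree

namespace Cfsg.Agent.S0594

/-- For odd p, two quadratic generators of a faithful group that is not a p-group, one of which acts nontrivially on a normal subgroup of order prime to p, force p = 3 and a section isomorphic to SL(2,3). -/
theorem result {G : Type*} [Group G] [Finite G] {p : ℕ} [Fact p.Prime] (hp : p ≠ 2) (V H : Subgroup G) (hV : Cfsg.IsElementaryAbelian p V) (hHV : H ≤ Subgroup.normalizer (V : Set G)) (hf : H ⊓ Subgroup.centralizer (V : Set G) = ⊥) (a b : G) (hab : H = Subgroup.closure {a, b}) (ha : ⁅⁅V, Subgroup.zpowers a⁆, Subgroup.zpowers a⁆ = ⊥) (hb : ⁅⁅V, Subgroup.zpowers b⁆, Subgroup.zpowers b⁆ = ⊥) (hnp : ¬ IsPGroup p H) (Q : Subgroup G) (hQH : Q ≤ H) (hQn : H ≤ Subgroup.normalizer (Q : Set G)) (hQ : (Nat.card Q).Coprime p) (hQa : ⁅Q, Subgroup.zpowers a⁆ ≠ ⊥) : p = 3 ∧ ∃ (K L : Subgroup G) (hL : (L.subgroupOf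 K).Normal), K ≤ H ∧ Nonempty ((K ⧸ L.subgroupOf K) ≃* Matrix.SpecialLinearGroup (Fin 2) (ZMod 3)) := by
  have haH : a ∈ H := hab ▸ Subgroup.subset_closure (Or.inl rfl)
  obtain ⟨h3, L, g, hLH, hg⟩ :=
    eq_three_and_section_of_coprime hp V H hV hHV hf haH ha Q hQH (hQn haH) hQ hQa
  subst h3
  have hR : (g.ker.map L.subtype).subgroupOf L = g.ker :=
    Subgroup.comap_map_eq_self_of_injective L.subtype_injective _
  have hn : ((g.ker.map L.subtype).subgroupOf L).Normal := by rw [hR]; infer_instance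
  exact ⟨rfl, L, g.ker.map L.subtype, hn, hLH, ⟨(QuotientGroup.quotientMulEquivOfEq hR).trans
    (QuotientGroup.quotientKerEquivOfSurjective g hg)⟩⟩

end Cfsg.Agent.S0594
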