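import Cfsg.Statements.S0596
import Cfsg.Agent.QdFree.Consequences

set_option autoImplicit false
open Cfsg

namespace Cfsg.Agent.S0596

/-- For odd p, a p-separable group with a faithful action on an elementary abelian p-group that is not p-stable has p = 3 and involves SL(2,3). -/
theorem result {G : Type*} [Group G] [Finite G] {p : ℕ} [Fact p.Prime] (hp : p ≠ 2) (V H : Subgroup G) (hV : Cfsg.IsElementaryAbelian p V) (hHV : H ≤ Subgroup.normalizer (V : Set G)) (hf : H ⊓ Subgroup.centralizer (V : Set G) = ⊥) (hsep : Cfsg.IsPSolvable p H) (a : G) (haH : a ∈ H) (hq : ⁅⁅V, Subgroup.zpowers a⁆, Subgroup.zpowers a⁆ = ⊥) (hna : a ∉ (Cfsg.pCore p H).map H.subtype) : p = 3 ∧ ∃ (K L : Subgroup G) (hL : (L.subgroupOf K).Normal), K ≤ H ∧ Nonempty ((K ⧸ L.subgroupOf K) ≃* Matrix.SpecialLinearGroup (Fin 2) (ZMod 3)) := by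
  obtain ⟨hc, hexp⟩ := hV
  have hVp : IsPGroup p V := fun v => ⟨1, Subtype.ext (by simpa using hexp v v.2)⟩
  have hS := QdFree.involves_sl2_of_subgroup hp hVp hc hHV hf haH hq hna
  obtain ⟨K₀, f₀, hf₀⟩ := QdFree.exists_surjective_of_involves hS
  have h3 : p = 3 := by
    have h := QdFree.le_three_of_isPSolvable_sl2
      (Layer.isPSolvable_of_surjective (QdFree.isPSolvable_subgroup hsep K₀) hf₀)
    have := (Fact.out : p.Prime).two_le
    omega
  subst h3
  obtain ⟨K, f, hKH, hf'⟩ := QdFree.exists_le_of_sec hS (G := G) (K := H) (f := MonoidHom.id H)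
    Function.surjective_id
  have hR : (f.ker.map K.subtype).subgroupOf K = f.ker :=
    Subgroup.comap_map_eq_self_of_injective K.subtype_injective _
  have hn : ((f.ker.map K.subtype).subgroupOf K).Normal := by rw [hR]; infer_instance
  exact ⟨rfl, K, f.ker.map K.subtype, hn, hKH, ⟨(QuotientGroup.quotientMulEquivOfEq hR).trans
    (QuotientGroup.quotientKerEquivOfSurjective f hf')⟩⟩

end Cfsg.Agent.S0596
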