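import Cfsg.Statements.S0597
import Cfsg.Agent.Thompson.Offender.Subnormal

set_option autoImplicit false
open Cfsg

namespace Cfsg.Agent.S0597

open Subgroup
open scoped commutatorElement

/-- If two subnormal subgroups of a faithful group on an elementary abelian p-group satisfy [V, E₁, E₂] = 1, then their commutator lies in the largest normal p-subgroup. -/
theorem result {G : Type*} [Group G] [Finite G] {p : ℕ} [Fact p.Prime] (V H : Subgroup G) (hV : Cfsg.IsElementaryAbelian p V) (hHV : H ≤ Subgroup.normalizer (V : Set G)) (hf : H ⊓ Subgroup.centralizer (V : Set G) = ⊥) (E₁ E₂ : Subgroup G) (h₁ : E₁ ≤ H) (h₂ : E₂ ≤ H) (hs₁ : (E₁.subgroupOf H).IsSubnormal) (hs₂ : (E₂.subgroupOf H).IsSubnormal) (hc : ⁅⁅V, E₁⁆, E₂⁆ = ⊥) : ⁅E₁, E₂⁆ ≤ (Cfsg.pCore p H).map H.subtype := by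
  have hVe := Thompson.ea_iff.1 hV
  set K := E₁ ⊔ E₂ with hK
  have hKH : K ≤ H := sup_le h₁ h₂
  have hKV : K ≤ normalizer (V : Set G) := hKH.trans hHV
  set W := ⁅V, E₁⁆ with hW
  have hWV : W ≤ V := le_normalizer_iff_commutator_le_left.1 (h₁.trans hHV)
  have hE2W : E₂ ≤ centralizer (W : Set G) :=
    le_centralizer_iff.1 (commutator_eq_bot_iff_le_centralizer.1 hc)
  have hKW : K ≤ normalizer (W : Set G) :=
    sup_le (normalizer_commutator_ge_right V E₁) (hE2W.trans (centralizer_le_normalizer _))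
  set N := K ⊓ (Offender.stab V W ⊓ centralizer (W : Set G)) with hN
  have hconj : ∀ k ∈ K, ∀ x ∈ N, k * x * k⁻¹ ∈ N := by
    rintro k hk x ⟨hxK, ⟨hxn, hxv⟩, hxc⟩
    refine ⟨mul_mem (mul_mem hk hxK) (Subgroup.inv_mem _ hk), ⟨mul_mem (mul_mem (hKW hk) hxn) (Subgroup.inv_mem _ (hKW hk)),
      fun v hv => ?_⟩, mem_centralizer_iff.2 fun w hw => ?_⟩
    · rw [show ⁅v, k * x * k⁻¹⁆ = k * ⁅k⁻¹ * v * k, x⁆ * k⁻¹ by simp only [commutatorElement_def]; group]
      refine (mem_normalizer_iff.1 (hKW hk) _).1 (hxv _ ?_)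
      simpa using (mem_normalizer_iff.1 (hKV (inv_mem hk)) v).1 hv
    · have hw' : k⁻¹ * w * k ∈ W := by simpa using (mem_normalizer_iff.1 (hKW (inv_mem hk)) w).1 hw
      calc w * (k * x * k⁻¹) = k * ((k⁻¹ * w * k) * x) * k⁻¹ := by group
        _ = k * x * k⁻¹ * w := by rw [mem_centralizer_iff.1 hxc _ hw']; group
  have hle : ⁅E₁, E₂⁆ ≤ N := by
    rw [commutator_le]
    intro a ha b hb
    have haS : a ∈ Offender.stab V W := Offender.le_stab_iff.2 ⟨normalizer_commutator_ge_right V E₁, le_rfl⟩ ha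
    have hbW : b ∈ normalizer (W : Set G) := hKW (mem_sup_right hb)
    refine ⟨?_, ?_, ?_⟩
    · rw [commutatorElement_def]
      exact mul_mem (mul_mem (mul_mem (mem_sup_left ha) (mem_sup_right hb)) (Subgroup.inv_mem _ (mem_sup_left ha)))
        (Subgroup.inv_mem _ (mem_sup_right hb))
    · have hb' : b * a⁻¹ * b⁻¹ ∈ Offender.stab V W := by
        refine ⟨mul_mem (mul_mem hbW (inv_mem haS.1)) (inv_mem hbW), fun v hv => ?_⟩
        rw [show ⁅v, b * a⁻¹ * b⁻¹⁆ = b * ⁅b⁻¹ * v * b, a⁻¹⁆ * b⁻¹ by simp only [commutatorElement_def]; group]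
        refine (mem_normalizer_iff.1 hbW _).1 ((inv_mem haS : a⁻¹ ∈ Offender.stab V W).2 _ ?_)
        simpa using (mem_normalizer_iff.1 (hKV (inv_mem (mem_sup_right hb))) v).1 hv
      rw [commutatorElement_def, mul_assoc a, mul_assoc a]
      exact mul_mem haS hb'
    · have hbC := hE2W hb
      have ha' : a * b * a⁻¹ ∈ centralizer (W : Set G) := mem_centralizer_iff.2 fun w hw => by
        have hw' : a⁻¹ * w * a ∈ W := by simpa using (mem_normalizer_iff.1 (inv_mem haS.1) w).1 hw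
        calc w * (a * b * a⁻¹) = a * ((a⁻¹ * w * a) * b) * a⁻¹ := by group
          _ = a * b * a⁻¹ * w := by rw [mem_centralizer_iff.1 hbC _ hw']; group
      rw [commutatorElement_def]
      exact mul_mem ha' (Subgroup.inv_mem _ hbC)
  have hP : IsPGroup p N := by
    rintro ⟨k, hkK, ⟨hkn, hkv⟩, hkc⟩
    refine ⟨1, Subtype.ext ?_⟩
    rw [SubmonoidClass.coe_pow, pow_one, OneMemClass.coe_one, ← mem_bot, ← hf]
    refine ⟨pow_mem (hKH hkK) p, mem_centralizer_iff.2 fun v hv => ?_⟩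
    have hu : ⁅v, k⁆ ∈ W := hkv v hv
    have hpow : ∀ n : ℕ, ⁅v, k ^ n⁆ = ⁅v, k⁆ ^ n := by
      intro n
      induction n with
      | zero => simp
      | succ n ih =>
        have e1 : ⁅v, k ^ (n + 1)⁆ = ⁅v, k⁆ * (k * ⁅v, k ^ n⁆ * k⁻¹) := by
          rw [pow_succ']; simp only [commutatorElement_def]; group
        have hcm : Commute ⁅v, k⁆ k := mem_centralizer_iff.1 hkc _ hu
        rw [e1, ih, (hcm.pow_left n).symm.eq, mul_inv_cancel_right, ← pow_succ']
    have h := hpow p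
    rw [hVe.2 _ (hWV hu), commutatorElement_eq_one_iff_mul_comm] at h
    exact h
  have hsnK : (K.subgroupOf H).IsSubnormal := by
    rw [hK, subgroupOf_sup h₁ h₂]
    exact Layer.isSubnormal_sup hs₁ hs₂
  have hsn : (N.subgroupOf H).IsSubnormal := by
    refine IsSubnormal.step _ (K.subgroupOf H) (fun x hx => (Subgroup.mem_inf.1 hx).1) hsnK
      ((normal_subgroupOf_iff_le_normalizer (fun x hx => (Subgroup.mem_inf.1 hx).1 : N.subgroupOf H ≤ K.subgroupOf H)).2 fun g hg => ?_)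
    refine mem_normalizer_iff.2 fun x => ⟨fun hx => hconj _ hg _ hx, fun hx => ?_⟩
    show (x : G) ∈ N
    simpa [mul_assoc] using hconj _ (inv_mem hg : (g : G)⁻¹ ∈ K) _ hx
  have hle' := Layer.subnormal_le_pCore hsn (hP.comap_of_injective H.subtype H.subtype_injective)
  intro z hz
  have hzN := hle hz
  exact ⟨⟨z, hKH hzN.1⟩, hle' (show (⟨z, hKH hzN.1⟩ : H) ∈ N.subgroupOf H from hzN), rfl⟩

end Cfsg.Agent.S0597
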