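import Cfsg.Statements.S0598

set_option autoImplicit false
open Cfsg

namespace Cfsg.Agent.S0598

open Subgroup
open scoped commutatorElement

section aux
variable {G : Type*} [Group G] [Finite G]

theorem card_mul_le (H K : Subgroup G) :
    Nat.card H * Nat.card K ≤ Nat.card (H ⊔ K : Subgroup G) * Nat.card (H ⊓ K : Subgroup G) := by
  have key : ∀ A B : Subgroup G, Nat.card (B ⊓ A : Subgroup G) * B.relIndex A = Nat.card A := by
    intro A B
    rw [← inf_relIndex_right B A, relIndex, ← Nat.card_congr (subgroupOfEquivOfLe (inf_le_right : B ⊓ A ≤ A)).toEquiv]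
    exact card_mul_index _
  have h1 := key H K
  have h2 := key (H ⊔ K) K
  rw [inf_eq_left.mpr (le_sup_right : K ≤ H ⊔ K)] at h2
  have h3 : K.relIndex H ≤ K.relIndex (H ⊔ K) :=
    relIndex_le_of_le_right le_sup_left (index_ne_zero_of_finite)
  rw [← h1, ← h2, inf_comm K H]
  calc Nat.card (H ⊓ K : Subgroup G) * K.relIndex H * Nat.card K
      ≤ Nat.card (H ⊓ K : Subgroup G) * K.relIndex (H ⊔ K) * Nat.card K := by gcongr
    _ = _ := by ring

variable {V A : Subgroup G} (hV : ∀ x ∈ V, ∀ y ∈ V, x * y = y * x)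
  (hAV : A ≤ normalizer (V : Set G)) (hab : ⁅A, A⁆ ≤ centralizer (V : Set G))

omit [Finite G] in
include hAV in
theorem conj_mem {a x : G} (ha : a ∈ A) (hx : x ∈ V) : a * x * a⁻¹ ∈ V :=
  (mem_normalizer_iff.mp (hAV ha) x).mp hx

omit [Finite G] in
include hab in
theorem conj_comm {a b x : G} (ha : a ∈ A) (hb : b ∈ A) (hx : x ∈ V) :
    a * (b * x * b⁻¹) * a⁻¹ = b * (a * x * a⁻¹) * b⁻¹ := by
  have h := mem_centralizer_iff.mp (hab (commutator_mem_commutator (A.inv_mem hb) (A.inv_mem ha))) x hx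
  rw [commutatorElement_def] at h
  calc a * (b * x * b⁻¹) * a⁻¹ = b * a * (a⁻¹ * b⁻¹ * a * b * x) * b⁻¹ * a⁻¹ := by group
    _ = b * a * ((b⁻¹ * a⁻¹ * b⁻¹⁻¹ * a⁻¹⁻¹)⁻¹ * x) * b⁻¹ * a⁻¹ := by group
    _ = b * a * (x * (b⁻¹ * a⁻¹ * b⁻¹⁻¹ * a⁻¹⁻¹)⁻¹) * b⁻¹ * a⁻¹ := by
        rw [(Commute.inv_right (show Commute x (b⁻¹ * a⁻¹ * b⁻¹⁻¹ * a⁻¹⁻¹) from h)).eq]
    _ = b * (a * x * a⁻¹) * b⁻¹ := by group

/-- The invariant of the replacement theorem. -/
noncomputable def fval (V B : Subgroup G) : ℕ :=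
  Nat.card B * Nat.card (V ⊓ centralizer (B : Set G) : Subgroup G)

include hV hAV hab in
theorem cyclic_case {u : G} (hu : u ∈ V) (hmax : ∀ B ≤ A, fval V B ≤ fval V A) :
    fval V (A ⊓ centralizer ((⁅zpowers u, A⁆ : Subgroup G) : Set G)) = fval V A ∧
      V ⊓ centralizer ((A ⊓ centralizer ((⁅zpowers u, A⁆ : Subgroup G) : Set G) : Subgroup G) : Set G) =
        ⁅zpowers u, A⁆ ⊔ (V ⊓ centralizer (A : Set G)) := by
  classical
  set W := ⁅zpowers u, A⁆ with hW
  set C := V ⊓ centralizer (A : Set G) with hC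
  set B := A ⊓ centralizer (W : Set G) with hB
  have hWV : W ≤ V := by
    refine commutator_le.mpr fun x hx a ha => ?_
    have hxV : x ∈ V := zpowers_le.mpr hu hx
    rw [commutatorElement_def, show x * a * x⁻¹ * a⁻¹ = x * (a * x⁻¹ * a⁻¹) by group]
    exact V.mul_mem hxV (conj_mem hAV ha (V.inv_mem hxV))
  have hc : ∀ a ∈ A, ⁅u, a⁆ ∈ W := fun a ha => commutator_mem_commutator (mem_zpowers u) ha
  have key : ∀ a ∈ A, ∀ a' ∈ A, ⁅u, a'⁆⁻¹ * ⁅u, a⁆ ∈ centralizer (A : Set G) → a⁻¹ * a' ∈ B := by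
    intro a ha a' ha' hd
    refine ⟨A.mul_mem (A.inv_mem ha) ha', ?_⟩
    set g := a⁻¹ * a' with hg
    -- `g` commutes with each `⁅u, b⁆`
    have hgb : ∀ b ∈ A, a * ⁅u, b⁆ * a⁻¹ = a' * ⁅u, b⁆ * a'⁻¹ := by
      intro b hb
      have hd' := mem_centralizer_iff.mp hd b hb
      have e1 : a * u * a⁻¹ * (a' * u * a'⁻¹)⁻¹ = b * (a * u * a⁻¹) * b⁻¹ * (b * (a' * u * a'⁻¹) * b⁻¹)⁻¹ := by
        have hd2 : ⁅u, a'⁆⁻¹ * ⁅u, a⁆ = (a * u * a⁻¹)⁻¹ * (a' * u * a'⁻¹) := by
          have e := hV _ (conj_mem hAV ha (V.inv_mem hu)) _ (conj_mem hAV ha' hu)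
          simp only [commutatorElement_def]
          calc (u * a' * u⁻¹ * a'⁻¹)⁻¹ * (u * a * u⁻¹ * a⁻¹) = (a' * u * a'⁻¹) * (a * u⁻¹ * a⁻¹) := by group
            _ = (a * u⁻¹ * a⁻¹) * (a' * u * a'⁻¹) := e.symm
            _ = _ := by group
        rw [hd2] at hd'
        have e2 : b * ((a * u * a⁻¹)⁻¹ * (a' * u * a'⁻¹)) * b⁻¹ = (a * u * a⁻¹)⁻¹ * (a' * u * a'⁻¹) := by
          rw [hd']; group
        have h1 := conj_mem hAV ha hu
        have h2 := conj_mem hAV ha' hu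
        have h3 := conj_mem hAV hb h1
        have h4 := conj_mem hAV hb h2
        have e3 := congrArg (·⁻¹) e2
        calc a * u * a⁻¹ * (a' * u * a'⁻¹)⁻¹
            = (a' * u * a'⁻¹)⁻¹ * (a * u * a⁻¹) := hV _ h1 _ (V.inv_mem h2)
          _ = ((a * u * a⁻¹)⁻¹ * (a' * u * a'⁻¹))⁻¹ := by group
          _ = (b * ((a * u * a⁻¹)⁻¹ * (a' * u * a'⁻¹)) * b⁻¹)⁻¹ := by rw [e2]
          _ = (b * (a' * u * a'⁻¹) * b⁻¹)⁻¹ * (b * (a * u * a⁻¹) * b⁻¹) := by group
          _ = _ := (hV _ h3 _ (V.inv_mem h4)).symm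
      rw [← conj_comm hab ha hb hu, ← conj_comm hab ha' hb hu] at e1
      have h1 := conj_mem hAV hb hu
      calc a * ⁅u, b⁆ * a⁻¹ = (a * u * a⁻¹) * (a * (b * u * b⁻¹) * a⁻¹)⁻¹ := by
            rw [commutatorElement_def]; group
        _ = (a * u * a⁻¹ * (a' * u * a'⁻¹)⁻¹) * (a' * u * a'⁻¹) * (a * (b * u * b⁻¹) * a⁻¹)⁻¹ := by group
        _ = (a * (b * u * b⁻¹) * a⁻¹) * ((a' * (b * u * b⁻¹) * a'⁻¹)⁻¹ * (a' * u * a'⁻¹)) *
              (a * (b * u * b⁻¹) * a⁻¹)⁻¹ := by rw [e1]; group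
        _ = (a' * (b * u * b⁻¹) * a'⁻¹)⁻¹ * (a' * u * a'⁻¹) := by
            rw [hV _ (conj_mem hAV ha h1) _ (V.mul_mem (V.inv_mem (conj_mem hAV ha' h1)) (conj_mem hAV ha' hu))]
            group
        _ = (a' * u * a'⁻¹) * (a' * (b * u * b⁻¹) * a'⁻¹)⁻¹ :=
            hV _ (V.inv_mem (conj_mem hAV ha' h1)) _ (conj_mem hAV ha' hu)
        _ = _ := by rw [commutatorElement_def]; group
    have hle : W ≤ centralizer ({g} : Set G) := by
      refine commutator_le.mpr fun x hx b hb => ?_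
      obtain ⟨i, rfl⟩ := hx
      have hcg : Commute g ⁅u, b⁆ := by
        show _ = _
        calc g * ⁅u, b⁆ = a⁻¹ * (a' * ⁅u, b⁆ * a'⁻¹) * a' := by rw [hg]; group
          _ = ⁅u, b⁆ * g := by rw [← hgb b hb, hg]; group
      have hpow : ⁅u ^ i, b⁆ = ⁅u, b⁆ ^ i := by
        have hcm : Commute u (b * u⁻¹ * b⁻¹) := hV u hu _ (conj_mem hAV hb (V.inv_mem hu))
        rw [commutatorElement_def, commutatorElement_def,
          show u * b * u⁻¹ * b⁻¹ = u * (b * u⁻¹ * b⁻¹) by group, hcm.mul_zpow, conj_zpow, inv_zpow]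
        group
      show ⁅u ^ i, b⁆ ∈ _
      rw [hpow, mem_centralizer_singleton_iff]
      exact (hcg.zpow_right i).symm.eq
    exact mem_centralizer_iff.mpr fun w hw => mem_centralizer_singleton_iff.mp (hle hw)
  -- the injection
  have hinj : (B.subgroupOf A).index ≤ (C.subgroupOf W).index := by
    rw [index_eq_card, index_eq_card]
    refine Nat.card_le_card_of_injective
      (fun q : A ⧸ B.subgroupOf A => (QuotientGroup.mk (⟨⁅u, ((q.out : A) : G)⁆, hc _ q.out.2⟩ : W) : W ⧸ C.subgroupOf W)) ?_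
    intro q r h
    have h1 := QuotientGroup.eq.mp h.symm
    rw [mem_subgroupOf] at h1
    have h2 := key _ q.out.2 _ r.out.2 h1.2
    rw [← QuotientGroup.out_eq' q, ← QuotientGroup.out_eq' r, QuotientGroup.eq, mem_subgroupOf]
    exact h2
  have hBA : B ≤ A := inf_le_left
  have hA : Nat.card B * (B.subgroupOf A).index = Nat.card A := by
    rw [← Nat.card_congr (subgroupOfEquivOfLe hBA).toEquiv]; exact card_mul_index _
  have hW' : Nat.card (C ⊓ W : Subgroup G) * (C.subgroupOf W).index = Nat.card W := by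
    rw [← inf_subgroupOf_right C W, ← Nat.card_congr (subgroupOfEquivOfLe (inf_le_right : C ⊓ W ≤ W)).toEquiv]
    exact card_mul_index _
  have hsub : W ⊔ C ≤ V ⊓ centralizer (B : Set G) := by
    refine sup_le (le_inf hWV (le_centralizer_iff.mp inf_le_right)) ?_
    exact le_inf inf_le_left (inf_le_right.trans (centralizer_le hBA))
  have h1 : fval V A ≤ Nat.card B * Nat.card (W ⊔ C : Subgroup G) := by
    have h2 := card_mul_le W C
    refine Nat.le_of_mul_le_mul_right (c := Nat.card (W ⊓ C : Subgroup G)) ?_ Nat.card_pos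
    calc fval V A * Nat.card (W ⊓ C : Subgroup G)
        = Nat.card B * (B.subgroupOf A).index * Nat.card C * Nat.card (W ⊓ C : Subgroup G) := by
          rw [hA]; rfl
      _ ≤ Nat.card B * (C.subgroupOf W).index * Nat.card C * Nat.card (W ⊓ C : Subgroup G) := by gcongr
      _ = Nat.card B * ((Nat.card (C ⊓ W : Subgroup G) * (C.subgroupOf W).index) * Nat.card C) := by
          rw [inf_comm C W]; ring
      _ ≤ Nat.card B * (Nat.card (W ⊔ C : Subgroup G) * Nat.card (W ⊓ C : Subgroup G)) := by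
          rw [hW']; gcongr
      _ = _ := by ring
  have h2 := hmax B hBA
  have h3 : Nat.card B * Nat.card (W ⊔ C : Subgroup G) ≤ fval V B :=
    Nat.mul_le_mul_left _ (card_le_of_le hsub)
  refine ⟨le_antisymm h2 (h1.trans h3), (eq_of_le_of_card_ge hsub ?_).symm⟩
  refine Nat.le_of_mul_le_mul_left ?_ (Nat.card_pos (α := B))
  exact h2.trans h1

include hV hAV hab in
theorem general_case (hmax : ∀ B ≤ A, fval V B ≤ fval V A) (s : Finset G) (hs : ↑s ⊆ (V : Set G)) :
    fval V (A ⊓ centralizer ((⁅closure (s : Set G), A⁆ : Subgroup G) : Set G)) = fval V A ∧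
      V ⊓ centralizer ((A ⊓ centralizer ((⁅closure (s : Set G), A⁆ : Subgroup G) : Set G) : Subgroup G) : Set G) =
        ⁅closure (s : Set G), A⁆ ⊔ (V ⊓ centralizer (A : Set G)) := by
  classical
  induction s using Finset.induction_on with
  | empty =>
    rw [Finset.coe_empty, Subgroup.closure_empty, commutator_bot_left]
    have : centralizer ((⊥ : Subgroup G) : Set G) = ⊤ := eq_top_iff.mpr fun x _ =>
      mem_centralizer_iff.mpr fun y hy => by rw [mem_bot.mp hy, one_mul, mul_one]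
    rw [this, inf_top_eq, bot_sup_eq]
    exact ⟨rfl, rfl⟩
  | @insert u t _ ih =>
    rw [Finset.coe_insert, Set.insert_subset_iff] at hs
    obtain ⟨hu, ht⟩ := hs
    obtain ⟨hf1, hc1⟩ := cyclic_case hV hAV hab hu hmax
    obtain ⟨hf2, hc2⟩ := ih ht
    have hU : closure (t : Set G) ≤ V := (closure_le V).mpr ht
    have hsup : ⁅closure ((insert u t : Finset G) : Set G), A⁆ = ⁅zpowers u, A⁆ ⊔ ⁅closure (t : Set G), A⁆ := by
      rw [Finset.coe_insert, Set.insert_eq, Subgroup.closure_union, ← zpowers_eq_closure]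
      refine le_antisymm ?_ (sup_le (commutator_mono le_sup_left le_rfl) (commutator_mono le_sup_right le_rfl))
      set W := ⁅zpowers u, A⁆ ⊔ ⁅closure (t : Set G), A⁆
      let K : Subgroup G :=
        { carrier := {x | x ∈ V ∧ ∀ a ∈ A, ⁅x, a⁆ ∈ W}
          one_mem' := ⟨V.one_mem, fun a _ => by rw [commutatorElement_one_left]; exact W.one_mem⟩
          mul_mem' := fun {x y} hx hy => ⟨V.mul_mem hx.1 hy.1, fun a ha => by
            have hy' : ⁅y, a⁆ ∈ V := by
              rw [commutatorElement_def, show y * a * y⁻¹ * a⁻¹ = y * (a * y⁻¹ * a⁻¹) by group]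
              exact V.mul_mem hy.1 (conj_mem hAV ha (V.inv_mem hy.1))
            have e : ⁅x * y, a⁆ = x * ⁅y, a⁆ * x⁻¹ * ⁅x, a⁆ := by simp only [commutatorElement_def]; group
            rw [e, hV x hx.1 _ hy', mul_inv_cancel_right]
            exact W.mul_mem (hy.2 a ha) (hx.2 a ha)⟩
          inv_mem' := fun {x} hx => ⟨V.inv_mem hx.1, fun a ha => by
            have hx' : ⁅x, a⁆ ∈ V := by
              rw [commutatorElement_def, show x * a * x⁻¹ * a⁻¹ = x * (a * x⁻¹ * a⁻¹) by group]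
              exact V.mul_mem hx.1 (conj_mem hAV ha (V.inv_mem hx.1))
            have e : ⁅x⁻¹, a⁆ = x⁻¹ * ⁅x, a⁆⁻¹ * x := by simp only [commutatorElement_def]; group
            rw [e, hV _ (V.inv_mem hx.1) _ (V.inv_mem hx'), inv_mul_cancel_right]
            exact W.inv_mem (hx.2 a ha)⟩ }
      have hK : zpowers u ⊔ closure (t : Set G) ≤ K :=
        sup_le (zpowers_le.mpr ⟨hu, fun a ha => mem_sup_left (commutator_mem_commutator (mem_zpowers u) ha)⟩)
          fun x hx => ⟨hU hx, fun a ha => mem_sup_right (commutator_mem_commutator hx ha)⟩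
      exact commutator_le.mpr fun x hx a ha => (hK hx).2 a ha
    rw [hsup]
    set W₁ := ⁅zpowers u, A⁆
    set W₂ := ⁅closure (t : Set G), A⁆
    set B₁ := A ⊓ centralizer (W₁ : Set G)
    set B₂ := A ⊓ centralizer (W₂ : Set G)
    have hBB : A ⊓ centralizer ((W₁ ⊔ W₂ : Subgroup G) : Set G) = B₁ ⊓ B₂ := by
      refine le_antisymm (le_inf (inf_le_inf_left _ (centralizer_le (le_sup_left : W₁ ≤ W₁ ⊔ W₂)))
        (inf_le_inf_left _ (centralizer_le (le_sup_right : W₂ ≤ W₁ ⊔ W₂)))) ?_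
      refine le_inf (inf_le_left.trans inf_le_left) (le_centralizer_iff.mp (sup_le ?_ ?_))
      · exact le_centralizer_iff.mp (inf_le_left.trans inf_le_right)
      · exact le_centralizer_iff.mp (inf_le_right.trans inf_le_right)
    rw [hBB]
    set C₁ := V ⊓ centralizer (B₁ : Set G)
    set C₂ := V ⊓ centralizer (B₂ : Set G)
    have hlow : C₁ ⊔ C₂ ≤ V ⊓ centralizer ((B₁ ⊓ B₂ : Subgroup G) : Set G) :=
      sup_le (inf_le_inf_left _ (centralizer_le inf_le_left)) (inf_le_inf_left _ (centralizer_le inf_le_right))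
    have hup : C₁ ⊓ C₂ ≤ V ⊓ centralizer ((B₁ ⊔ B₂ : Subgroup G) : Set G) :=
      le_inf (inf_le_left.trans inf_le_left) (le_centralizer_iff.mp (sup_le
        (le_centralizer_iff.mp (inf_le_left.trans inf_le_right))
        (le_centralizer_iff.mp (inf_le_right.trans inf_le_right))))
    have hm1 := hmax (B₁ ⊓ B₂) (inf_le_left.trans inf_le_left)
    have hm2 := hmax (B₁ ⊔ B₂) (sup_le inf_le_left inf_le_left)
    have key : fval V A * fval V A ≤
        (Nat.card (B₁ ⊓ B₂ : Subgroup G) * Nat.card (C₁ ⊔ C₂ : Subgroup G)) * fval V A := by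
      calc fval V A * fval V A = (Nat.card B₁ * Nat.card B₂) * (Nat.card C₁ * Nat.card C₂) := by
            conv_lhs => arg 1; rw [← hf1]
            conv_lhs => arg 2; rw [← hf2]
            simp only [fval]; ring
        _ ≤ (Nat.card (B₁ ⊔ B₂ : Subgroup G) * Nat.card (B₁ ⊓ B₂ : Subgroup G)) *
              (Nat.card (C₁ ⊔ C₂ : Subgroup G) * Nat.card (C₁ ⊓ C₂ : Subgroup G)) :=
            Nat.mul_le_mul (card_mul_le _ _) (card_mul_le _ _)
        _ = (Nat.card (B₁ ⊓ B₂ : Subgroup G) * Nat.card (C₁ ⊔ C₂ : Subgroup G)) *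
              (Nat.card (B₁ ⊔ B₂ : Subgroup G) * Nat.card (C₁ ⊓ C₂ : Subgroup G)) := by ring
        _ ≤ _ := Nat.mul_le_mul_left _ ((Nat.mul_le_mul_left _ (card_le_of_le hup)).trans hm2)
    have h1 : fval V A ≤ Nat.card (B₁ ⊓ B₂ : Subgroup G) * Nat.card (C₁ ⊔ C₂ : Subgroup G) :=
      Nat.le_of_mul_le_mul_right key (Nat.mul_pos Nat.card_pos Nat.card_pos)
    have h3 : Nat.card (B₁ ⊓ B₂ : Subgroup G) * Nat.card (C₁ ⊔ C₂ : Subgroup G) ≤ fval V (B₁ ⊓ B₂) :=
      Nat.mul_le_mul_left _ (card_le_of_le hlow)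
    refine ⟨le_antisymm hm1 (h1.trans h3), ?_⟩
    rw [← eq_of_le_of_card_ge hlow (Nat.le_of_mul_le_mul_left (hm1.trans h1) Nat.card_pos)]
    show C₁ ⊔ C₂ = _
    rw [show C₁ = W₁ ⊔ (V ⊓ centralizer (A : Set G)) from hc1,
      show C₂ = W₂ ⊔ (V ⊓ centralizer (A : Set G)) from hc2, sup_sup_sup_comm, sup_idem]

end aux

/-- Thompson's replacement dichotomy: for A acting with abelian image on an elementary abelian p-group V and U ≤ V, either some subgroup of A increases the product of its order with the order of its fixed points, or C_A([U,A]) preserves that product and has fixed points exactly [U,A]C_V(A). -/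
theorem result {G : Type*} [Group G] [Finite G] {p : ℕ} [Fact p.Prime] (V A : Subgroup G) (hV : Cfsg.IsElementaryAbelian p V) (hAV : A ≤ Subgroup.normalizer (V : Set G)) (hab : ⁅A, A⁆ ≤ Subgroup.centralizer (V : Set G)) (U : Subgroup G) (hU : U ≤ V) : ∃ B : Subgroup G, B ≤ A ∧ ((Nat.card A * Nat.card ↥(V ⊓ Subgroup.centralizer (A : Set G)) < Nat.card B * Nat.card ↥(V ⊓ Subgroup.centralizer (B : Set G))) ∨ (B = A ⊓ Subgroup.centralizer ((⁅U, A⁆ : Subgroup G) : Set G) ∧ (V ⊓ Subgroup.centralizer (B : Set G)) = ⁅U, A⁆ ⊔ (V ⊓ Subgroup.centralizer (A : Set G)) ∧ Nat.card A * Nat.card ↥(V ⊓ Subgroup.centralizer (A : Set G)) = Nat.card B * Nat.card ↥(V ⊓ Subgroup.centralizer (B : Set G)))) := by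
  classical
  have hVc : ∀ x ∈ V, ∀ y ∈ V, x * y = y * x := fun x hx y hy =>
    congrArg Subtype.val (hV.1.is_comm.comm (⟨x, hx⟩ : V) ⟨y, hy⟩)
  by_cases hmax : ∀ B ≤ A, fval V B ≤ fval V A
  · obtain ⟨h1, h2⟩ := general_case hVc hAV hab hmax (Set.toFinite (U : Set G)).toFinset
      (by rw [Set.Finite.coe_toFinset]; exact hU)
    rw [Set.Finite.coe_toFinset, closure_eq] at h1 h2
    exact ⟨_, inf_le_left, Or.inr ⟨rfl, h2, h1.symm⟩⟩
  · push Not at hmax
    obtain ⟨B, hB, h⟩ := hmax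
    exact ⟨B, hB, Or.inl h⟩

end Cfsg.Agent.S0598
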