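import Cfsg.Statements.S0599
import Cfsg.Agent.S0598
import Cfsg.Agent.Thompson.Replacement
import Cfsg.Agent.Coprime.Basic

set_option autoImplicit false
open Cfsg

namespace Cfsg.Agent.S0599

open Subgroup
open scoped commutatorElement

section aux
variable {G : Type*} [Group G] [Finite G] {p : ℕ} {V A : Subgroup G}

/-- The offender measure. -/
noncomputable def meas (V B : Subgroup G) : ℕ := Nat.card B * Nat.card (V ⊓ centralizer (B : Set G) : Subgroup G)

/-- Attaining the maximum. -/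
def Att (V A B : Subgroup G) : Prop := B ≤ A ∧ meas V B = meas V A

theorem att_inf (hA : ∀ B : Subgroup G, B ≤ A → meas V B ≤ meas V A)
    {B₁ B₂ : Subgroup G} (h₁ : Att V A B₁) (h₂ : Att V A B₂) :
    Att V A (B₁ ⊓ B₂) ∧ V ⊓ centralizer ((B₁ ⊓ B₂ : Subgroup G) : Set G) =
      (V ⊓ centralizer (B₁ : Set G)) ⊔ (V ⊓ centralizer (B₂ : Set G)) := by
  set c₁ := V ⊓ centralizer (B₁ : Set G) with hc₁
  set c₂ := V ⊓ centralizer (B₂ : Set G) with hc₂
  set c := V ⊓ centralizer ((B₁ ⊓ B₂ : Subgroup G) : Set G) with hc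
  have hle : c₁ ⊔ c₂ ≤ c := sup_le (le_inf inf_le_left (inf_le_right.trans (centralizer_le inf_le_left)))
    (le_inf inf_le_left (inf_le_right.trans (centralizer_le inf_le_right)))
  have hinf : c₁ ⊓ c₂ = V ⊓ centralizer ((B₁ ⊔ B₂ : Subgroup G) : Set G) := by
    rw [Thompson.centralizer_sup, hc₁, hc₂, ← inf_inf_distrib_left]
  have e1 := S0598.card_mul_le B₁ B₂
  have e2 := S0598.card_mul_le c₁ c₂
  set M := meas V A with hM
  have hMpos : 0 < M := Nat.mul_pos Nat.card_pos Nat.card_pos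
  have b1 : Nat.card (B₁ ⊓ B₂ : Subgroup G) * Nat.card c ≤ M := hA _ (inf_le_left.trans h₁.1)
  have b2 : Nat.card (B₁ ⊔ B₂ : Subgroup G) * Nat.card (c₁ ⊓ c₂ : Subgroup G) ≤ M := by
    rw [hinf]; exact hA _ (sup_le h₁.1 h₂.1)
  have b3 : Nat.card (c₁ ⊔ c₂ : Subgroup G) ≤ Nat.card c := card_le_of_le hle
  have prod : M * M ≤ (Nat.card (B₁ ⊓ B₂ : Subgroup G) * Nat.card (c₁ ⊔ c₂ : Subgroup G)) *
      (Nat.card (B₁ ⊔ B₂ : Subgroup G) * Nat.card (c₁ ⊓ c₂ : Subgroup G)) := by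
    calc M * M = (Nat.card B₁ * Nat.card c₁) * (Nat.card B₂ * Nat.card c₂) := by
          show meas V A * meas V A = meas V B₁ * meas V B₂
          rw [h₁.2, h₂.2]
      _ = (Nat.card B₁ * Nat.card B₂) * (Nat.card c₁ * Nat.card c₂) := by ring
      _ ≤ (Nat.card (B₁ ⊔ B₂ : Subgroup G) * Nat.card (B₁ ⊓ B₂ : Subgroup G)) *
          (Nat.card (c₁ ⊔ c₂ : Subgroup G) * Nat.card (c₁ ⊓ c₂ : Subgroup G)) := Nat.mul_le_mul e1 e2
      _ = _ := by ring
  have b4 : M ≤ Nat.card (B₁ ⊓ B₂ : Subgroup G) * Nat.card (c₁ ⊔ c₂ : Subgroup G) :=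
    Nat.le_of_mul_le_mul_right (prod.trans (Nat.mul_le_mul_left _ b2)) hMpos
  have b5 : Nat.card c ≤ Nat.card (c₁ ⊔ c₂ : Subgroup G) :=
    Nat.le_of_mul_le_mul_left (b1.trans b4) Nat.card_pos
  exact ⟨⟨inf_le_left.trans h₁.1, le_antisymm b1 (b4.trans (Nat.mul_le_mul_left _ b3))⟩,
    (eq_of_le_of_card_ge hle b5).symm⟩

theorem conj_mem_of_normalizes (hAV : A ≤ normalizer (V : Set G)) {a y : G} (ha : a ∈ A) (hy : y ∈ V) :
    a * y * a⁻¹ ∈ V := (mem_normalizer_iff.1 (hAV ha) y).1 hy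

theorem commute_key (hVc : V ≤ centralizer (V : Set G)) (hAV : A ≤ normalizer (V : Set G))
    (hAA : ⁅A, A⁆ ≤ centralizer (V : Set G)) {v a b c : G} (hv : v ∈ V) (ha : a ∈ A) (hb : b ∈ A)
    (hc : c ∈ A) (h : ⁅v, a⁆⁻¹ * ⁅v, b⁆ ∈ centralizer (A : Set G)) :
    (b⁻¹ * a) * ⁅v, c⁆ = ⁅v, c⁆ * (b⁻¹ * a) := by
  have cc : ∀ x y : G, x ∈ V → y ∈ V → x * y = y * x := fun x y hx hy =>
    (mem_centralizer_iff.1 (hVc hy) x hx)
  set P := a * v * a⁻¹ with hP
  set Q := b * v * b⁻¹ with hQ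
  set R := c * P * c⁻¹ with hR
  set S := c * Q * c⁻¹ with hS
  have hPV : P ∈ V := conj_mem_of_normalizes hAV ha hv
  have hQV : Q ∈ V := conj_mem_of_normalizes hAV hb hv
  have hRV : R ∈ V := conj_mem_of_normalizes hAV hc hPV
  have hSV : S ∈ V := conj_mem_of_normalizes hAV hc hQV
  have hd : ⁅v, a⁆⁻¹ * ⁅v, b⁆ = P * Q⁻¹ := by
    rw [hP, hQ, commutatorElement_def, commutatorElement_def]; group
  have h1 : c * (P * Q⁻¹) = (P * Q⁻¹) * c := mem_centralizer_iff.1 (hd ▸ h) c hc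
  have h2 : R * S⁻¹ = P * Q⁻¹ := by
    rw [hR, hS]
    calc c * P * c⁻¹ * (c * Q * c⁻¹)⁻¹ = c * (P * Q⁻¹) * c⁻¹ := by group
      _ = P * Q⁻¹ * c * c⁻¹ := by rw [h1]
      _ = P * Q⁻¹ := by group
  have h3 : P * R⁻¹ = Q * S⁻¹ := by
    have hR' : R = P * Q⁻¹ * S := by rw [← h2, inv_mul_cancel_right]
    calc P * R⁻¹ = P * (S⁻¹ * (Q * P⁻¹)) := by rw [hR']; group
      _ = P * (Q * P⁻¹ * S⁻¹) := by
          rw [cc (Q * P⁻¹) S⁻¹ (V.mul_mem hQV (V.inv_mem hPV)) (V.inv_mem hSV)]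
      _ = P * (P⁻¹ * Q * S⁻¹) := by rw [cc Q P⁻¹ hQV (V.inv_mem hPV)]
      _ = Q * S⁻¹ := by group
  have h4 : a * ⁅v, c⁆ * a⁻¹ = b * ⁅v, c⁆ * b⁻¹ := by
    have e : ∀ x ∈ A, x * ⁅v, c⁆ * x⁻¹ = (x * v * x⁻¹) * (c * (x * v * x⁻¹) * c⁻¹)⁻¹ := by
      intro x hx
      have hy := conj_mem_of_normalizes hAV hc (conj_mem_of_normalizes hAV hx hv)
      have hd : ⁅x, c⁆ * (c * (x * v * x⁻¹) * c⁻¹) * ⁅x, c⁆⁻¹ = c * (x * v * x⁻¹) * c⁻¹ := by
        rw [← mem_centralizer_iff.1 (hAA (commutator_mem_commutator hx hc)) _ hy, mul_inv_cancel_right]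
      calc x * ⁅v, c⁆ * x⁻¹
          = (x * v * x⁻¹) * (⁅x, c⁆ * (c * (x * v * x⁻¹) * c⁻¹) * ⁅x, c⁆⁻¹)⁻¹ := by
            rw [commutatorElement_def, commutatorElement_def]; group
        _ = _ := by rw [hd]
    rw [e a ha, e b hb]
    exact h3
  calc b⁻¹ * a * ⁅v, c⁆ = b⁻¹ * (a * ⁅v, c⁆ * a⁻¹) * a := by group
    _ = b⁻¹ * (b * ⁅v, c⁆ * b⁻¹) * a := by rw [h4]
    _ = ⁅v, c⁆ * (b⁻¹ * a) := by group

theorem commSpan_le' (hAV : A ≤ normalizer (V : Set G)) {v : G} (hv : v ∈ V) :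
    Thompson.commSpan A v ≤ V := by
  rw [Thompson.commSpan, closure_le]
  rintro _ ⟨a, ha, rfl⟩
  show ⁅v, a⁆ ∈ V
  rw [commutatorElement_def, mul_assoc v, mul_assoc v]
  exact V.mul_mem hv (conj_mem_of_normalizes hAV ha (V.inv_mem hv))

theorem att_commSpan (hA : ∀ B : Subgroup G, B ≤ A → meas V B ≤ meas V A)
    (hVc : V ≤ centralizer (V : Set G)) (hAV : A ≤ normalizer (V : Set G))
    (hAA : ⁅A, A⁆ ≤ centralizer (V : Set G)) {v : G} (hv : v ∈ V) :
    Att V A (A ⊓ centralizer (Thompson.commSpan A v : Set G)) ∧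
      V ⊓ centralizer ((A ⊓ centralizer (Thompson.commSpan A v : Set G) : Subgroup G) : Set G) =
        Thompson.commSpan A v ⊔ (V ⊓ centralizer (A : Set G)) := by
  classical
  set M := Thompson.commSpan A v with hM
  set K := V ⊓ centralizer (A : Set G) with hK
  set B := A ⊓ centralizer (M : Set G) with hB
  have hMV : M ≤ V := commSpan_le' hAV hv
  have hle : M ⊔ K ≤ V ⊓ centralizer (B : Set G) :=
    sup_le (le_inf hMV (le_centralizer_iff.1 inf_le_right))
      (le_inf inf_le_left (inf_le_right.trans (centralizer_le inf_le_left)))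
  let f : A → M := fun a => ⟨⁅v, (a : G)⁆, subset_closure ⟨a, a.2, rfl⟩⟩
  have hinj : Function.Injective (fun q : A ⧸ B.subgroupOf A =>
      (QuotientGroup.mk (f q.out) : M ⧸ K.subgroupOf M)) := by
    intro q r hqr
    rw [QuotientGroup.eq, Subgroup.mem_subgroupOf] at hqr
    have hd : ⁅v, (q.out : G)⁆⁻¹ * ⁅v, (r.out : G)⁆ ∈ centralizer (A : Set G) := hqr.2
    rw [← q.out_eq, ← r.out_eq]
    refine (QuotientGroup.eq.2 ?_).symm
    rw [Subgroup.mem_subgroupOf]
    refine ⟨(((r.out)⁻¹ * q.out : A)).2, ?_⟩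
    show ((r.out : G))⁻¹ * (q.out : G) ∈ centralizer (M : Set G)
    rw [hM, Thompson.commSpan, centralizer_closure, mem_centralizer_iff]
    rintro _ ⟨c, hc, rfl⟩
    exact (commute_key hVc hAV hAA hv q.out.2 r.out.2 hc hd).symm
  have hidx : B.relIndex A ≤ K.relIndex M := Nat.card_le_card_of_injective _ hinj
  have hcA : Nat.card B * B.relIndex A = Nat.card A := by
    rw [← relIndex_bot_left, ← relIndex_bot_left, relIndex_mul_relIndex _ _ _ bot_le inf_le_left]
  have hcM : Nat.card (M ⊓ K : Subgroup G) * K.relIndex M = Nat.card M := by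
    rw [← inf_relIndex_left, ← relIndex_bot_left, ← relIndex_bot_left,
      relIndex_mul_relIndex _ _ _ bot_le inf_le_left]
  have hsup := S0598.card_mul_le M K
  have hge : meas V A ≤ Nat.card B * Nat.card (M ⊔ K : Subgroup G) := by
    have h1 : K.relIndex M * Nat.card K ≤ Nat.card (M ⊔ K : Subgroup G) := by
      refine Nat.le_of_mul_le_mul_left ?_ (Nat.card_pos (α := (M ⊓ K : Subgroup G)))
      rw [← mul_assoc, hcM, mul_comm (Nat.card (M ⊓ K : Subgroup G))]
      exact hsup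
    calc meas V A = Nat.card B * (B.relIndex A * Nat.card K) := by rw [← mul_assoc, hcA]; rfl
      _ ≤ Nat.card B * (K.relIndex M * Nat.card K) := Nat.mul_le_mul_left _ (Nat.mul_le_mul_right _ hidx)
      _ ≤ _ := Nat.mul_le_mul_left _ h1
  have hub := hA B inf_le_left
  have heq : M ⊔ K = V ⊓ centralizer (B : Set G) :=
    eq_of_le_of_card_ge hle (Nat.le_of_mul_le_mul_left (hub.trans hge) Nat.card_pos)
  exact ⟨⟨inf_le_left, le_antisymm hub (hge.trans_eq (by rw [heq]; rfl))⟩, heq.symm⟩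

theorem att_commutator (hA : ∀ B : Subgroup G, B ≤ A → meas V B ≤ meas V A)
    (hVc : V ≤ centralizer (V : Set G)) (hAV : A ≤ normalizer (V : Set G))
    (hAA : ⁅A, A⁆ ≤ centralizer (V : Set G)) {U : Subgroup G} (hU : U ≤ V) :
    Att V A (A ⊓ centralizer ((⁅U, A⁆ : Subgroup G) : Set G)) ∧
      V ⊓ centralizer ((A ⊓ centralizer ((⁅U, A⁆ : Subgroup G) : Set G) : Subgroup G) : Set G) =
        ⁅U, A⁆ ⊔ (V ⊓ centralizer (A : Set G)) := by
  classical
  letI := Fintype.ofFinite U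
  set K := V ⊓ centralizer (A : Set G)
  have key : ∀ s : Finset U,
      Att V A (A ⊓ centralizer ((s.sup fun v : U => Thompson.commSpan A (v : G) : Subgroup G) : Set G)) ∧
        V ⊓ centralizer ((A ⊓ centralizer ((s.sup fun v : U => Thompson.commSpan A (v : G) : Subgroup G) :
          Set G) : Subgroup G) : Set G) = (s.sup fun v : U => Thompson.commSpan A (v : G)) ⊔ K := by
    intro s
    induction s using Finset.induction with
    | empty =>
      have hbot : A ⊓ centralizer ((⊥ : Subgroup G) : Set G) = A :=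
        inf_eq_left.2 (le_centralizer_iff.1 bot_le)
      rw [Finset.sup_empty, hbot, bot_sup_eq]
      exact ⟨⟨le_rfl, rfl⟩, rfl⟩
    | insert v s _ ih =>
      have h2 := att_commSpan hA hVc hAV hAA (hU v.2)
      have hsplit : A ⊓ centralizer ((Thompson.commSpan A (v : G) ⊔
            s.sup fun v : U => Thompson.commSpan A (v : G) : Subgroup G) : Set G) =
          (A ⊓ centralizer (Thompson.commSpan A (v : G) : Set G)) ⊓
            (A ⊓ centralizer ((s.sup fun v : U => Thompson.commSpan A (v : G) : Subgroup G) : Set G)) := by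
        rw [Thompson.centralizer_sup, inf_inf_distrib_left]
      rw [Finset.sup_insert, hsplit]
      obtain ⟨h3, h4⟩ := att_inf hA h2.1 ih.1
      refine ⟨h3, ?_⟩
      rw [h4, h2.2, ih.2, sup_sup_sup_comm, sup_idem]
  have he : ((Finset.univ : Finset U).sup fun v : U => Thompson.commSpan A (v : G)) = ⁅U, A⁆ := by
    refine le_antisymm (Finset.sup_le fun v _ => ?_) (commutator_le.2 fun v hv a ha => ?_)
    · rw [Thompson.commSpan, closure_le]
      rintro _ ⟨a, ha, rfl⟩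
      exact commutator_mem_commutator v.2 ha
    · exact Finset.le_sup (f := fun v : U => Thompson.commSpan A (v : G)) (Finset.mem_univ ⟨v, hv⟩)
        (subset_closure ⟨a, ha, rfl⟩)
  rw [← he]
  exact key _

end aux

/-- The Timmesfeld replacement Theorem: replacing a best offender A by C_A([U, A]) gives a best offender with fixed points [U, A]C_V(A), still nontrivial on V if A was. -/
theorem result {G : Type*} [Group G] [Finite G] {p : ℕ} [Fact p.Prime] (V A : Subgroup G) (hV : Cfsg.IsElementaryAbelian p V) (hAV : A ≤ Subgroup.normalizer (V : Set G)) (hA : Cfsg.IsBestOffenderOn p V A) (U : Subgroup G) (hU : U ≤ V) : Cfsg.IsBestOffenderOn p V (A ⊓ Subgroup.centralizer ((⁅U, A⁆ : Subgroup G) : Set G)) ∧ V ⊓ Subgroup.centralizer ((A ⊓ Subgroup.centralizer ((⁅U, A⁆ : Subgroup G) : Set G) : Subgroup G) : Set G) = ⁅U, A⁆ ⊔ (V ⊓ Subgroup.centralizer (A : Set G)) ∧ (⁅V, A⁆ ≠ ⊥ → ⁅V, A ⊓ Subgroup.centralizer ((⁅U, A⁆ : Subgroup G)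 : Set G)⁆ ≠ ⊥) := by
  have hVc : V ≤ centralizer (V : Set G) := (Thompson.ea_iff.1 hV).1
  have hVp : IsPGroup p V := Thompson.ea_isPGroup hV
  have hb : ∀ B : Subgroup G, B ≤ A → meas V B ≤ meas V A := hA.1
  set B := A ⊓ centralizer ((⁅U, A⁆ : Subgroup G) : Set G) with hB
  obtain ⟨⟨hBA, hBm⟩, hfix⟩ := att_commutator hb hVc hAV hA.2.1 hU
  refine ⟨⟨fun D hD => (hb D (hD.trans hBA)).trans hBm.ge, ?_, fun a ha => hA.2.2 a (hBA ha)⟩, hfix, ?_⟩
  · exact (commutator_mono hBA hBA).trans hA.2.1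
  intro hne hbot
  have hBV : V ≤ centralizer (B : Set G) := commutator_eq_bot_iff_le_centralizer.1 hbot
  rw [inf_eq_left.2 hBV] at hfix
  -- a Sylow subgroup of `A` induces all of `A` on `V`
  obtain ⟨T₀⟩ : Nonempty (Sylow p A) := inferInstance
  set T := (T₀ : Subgroup A).map A.subtype with hT
  have hTA : T ≤ A := map_subtype_le _
  have hTp : IsPGroup p T := T₀.2.map _
  have hAT : ∀ a ∈ A, ∃ t ∈ T, a * t⁻¹ ∈ centralizer (V : Set G) := by
    intro a ha
    let C := (centralizer (V : Set G)).subgroupOf A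
    haveI : C.Normal := ⟨fun x hx g => mem_centralizer_iff.2 fun y hy => by
      have hy' : (g : G)⁻¹ * y * g ∈ V := by
        simpa using conj_mem_of_normalizes hAV (A.inv_mem g.2) hy
      have h := mem_centralizer_iff.1 hx _ hy'
      simp only [Subgroup.coe_subtype, Subgroup.coe_mul, Subgroup.coe_inv] at h ⊢
      calc y * ((g : G) * x * (g : G)⁻¹) = g * ((g : G)⁻¹ * y * g * x) * (g : G)⁻¹ := by group
        _ = (g : G) * x * (g : G)⁻¹ * y := by rw [h]; group⟩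
    obtain ⟨t, ht, he⟩ : QuotientGroup.mk' C ⟨a, ha⟩ ∈ (T₀ : Subgroup A).map (QuotientGroup.mk' C) := by
      have hq : IsPGroup p (A ⧸ C) := fun x => by
        obtain ⟨x, rfl⟩ := QuotientGroup.mk'_surjective C x
        exact ⟨1, by rw [pow_one, ← map_pow]; exact (QuotientGroup.eq_one_iff _).2 (hA.2.2 x x.2)⟩
      have htop := (T₀.mapSurjective (QuotientGroup.mk'_surjective C)).is_maximal' (hq.to_subgroup ⊤) le_top
      rw [← Sylow.coe_mapSurjective (QuotientGroup.mk'_surjective C), ← htop]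
      exact mem_top _
    refine ⟨t, ⟨t, ht, rfl⟩, ?_⟩
    have h1 : (⟨a, ha⟩ : A) * t⁻¹ ∈ C := by
      rw [← QuotientGroup.eq_one_iff, QuotientGroup.mk_mul, QuotientGroup.mk_inv]
      exact mul_inv_eq_one.2 he.symm
    exact h1
  set W := ⁅V, A⁆ with hW
  have hWV : W ≤ V := by
    rw [hW, commutator_le]
    exact fun v hv a ha => commSpan_le' hAV hv (subset_closure ⟨a, ha, rfl⟩)
  -- `W` is no bigger than its commutator with `T`
  have hTW : T ≤ normalizer (W : Set G) := by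
    refine hTA.trans ?_
    rw [hW]
    exact normalizer_commutator_ge_right V A
  have hWle : W ≤ ⁅W, T⁆ := by
    rw [hW, commutator_le]
    intro v hv a ha
    obtain ⟨t, ht, hta⟩ := hAT a ha
    have hv' : v ∈ ⁅U, A⁆ ⊔ (V ⊓ centralizer (A : Set G)) := hfix ▸ hv
    have hc : V ⊓ centralizer (A : Set G) ≤ normalizer ((⁅U, A⁆ : Subgroup G) : Set G) := by
      refine inf_le_left.trans (hVc.trans ((centralizer_le ?_).trans (centralizer_le_normalizer _)))
      exact (commutator_mono hU le_rfl).trans hWV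
    obtain ⟨w, hw, k, hk, rfl⟩ : ∃ w ∈ ⁅U, A⁆, ∃ k ∈ V ⊓ centralizer (A : Set G), w * k = v := by
      have := coe_mul_of_right_le_normalizer_left _ _ hc
      rw [← SetLike.mem_coe, this] at hv'
      exact hv'
    have hwW : w ∈ W := commutator_mono hU le_rfl hw
    have e1 : ⁅w * k, a⁆ = ⁅w, a⁆ := by
      have hka : k * a = a * k := (mem_centralizer_iff.1 hk.2 a ha).symm
      calc ⁅w * k, a⁆ = w * (k * a) * k⁻¹ * w⁻¹ * a⁻¹ := by rw [commutatorElement_def]; group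
        _ = ⁅w, a⁆ := by rw [hka, commutatorElement_def]; group
    have e2 : ⁅w, a⁆ = ⁅w, t⁆ := by
      have hy : t * w⁻¹ * t⁻¹ ∈ V := conj_mem_of_normalizes hAV (hTA ht) (V.inv_mem (hWV hwW))
      have h := mem_centralizer_iff.1 hta _ hy
      calc ⁅w, a⁆ = w * (a * t⁻¹ * (t * w⁻¹ * t⁻¹) * (a * t⁻¹)⁻¹) := by rw [commutatorElement_def]; group
        _ = w * (t * w⁻¹ * t⁻¹) := by rw [← h, mul_inv_cancel_right]
        _ = ⁅w, t⁆ := by rw [commutatorElement_def]; group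
    rw [e1, e2]
    exact commutator_mem_commutator hwW ht
  exact (Coprime.commutator_lt_of_isPGroup hTp (hVp.to_le hWV) hTW hne).not_ge hWle

end Cfsg.Agent.S0599
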