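import Cfsg.Statements.S0600
import Cfsg.Agent.Fusion.Residual
import Cfsg.Agent.Core.PCore

set_option autoImplicit false
open Cfsg

namespace Cfsg.Agent.S0600

/-- A normal elementary abelian p-subgroup generated by the fixed points of the Sylow p-subgroups admits no nontrivial normal p-subgroup of G modulo its centralizer. -/
theorem result {G : Type*} [Group G] [Finite G] {p : ℕ} [Fact p.Prime] (V : Subgroup G) [V.Normal] (hV : Cfsg.IsElementaryAbelian p V) (hgen : V = ⨆ S : Sylow p G, V ⊓ Subgroup.centralizer ((S : Subgroup G) : Set G)) : Cfsg.pCore p (G ⧸ Subgroup.centralizer (V : Set G)) = ⊥ := by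
  set C := Subgroup.centralizer (V : Set G) with hC
  set f := QuotientGroup.mk' C
  set D := (pCore p (G ⧸ C)).comap f with hD
  rw [← Subgroup.map_comap_eq_self_of_surjective (QuotientGroup.mk'_surjective C) (pCore p (G ⧸ C)),
    ← hD, Subgroup.map_eq_bot_iff, QuotientGroup.ker_mk']
  refine Subgroup.le_centralizer_iff.mp (hgen.le.trans (iSup_le fun S => ?_))
  refine Subgroup.le_centralizer_iff.mp ?_
  have hDS : D ≤ C ⊔ (S : Subgroup G) := by
    intro x hx
    have h1 : f x ∈ (S : Subgroup G).map f := by
      have := Core.pCore_le_sylow (S.mapSurjective (QuotientGroup.mk'_surjective C)) hx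
      rw [Sylow.coe_mapSurjective] at this
      exact this
    have h2 : x ∈ ((S : Subgroup G).map f).comap f := h1
    rwa [Subgroup.comap_map_eq, QuotientGroup.ker_mk', sup_comm] at h2
  exact hDS.trans (sup_le (Subgroup.centralizer_le inf_le_left)
    (Subgroup.le_centralizer_iff.mp inf_le_right))

end Cfsg.Agent.S0600
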