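import Cfsg.Statements.S0615
import Cfsg.Agent.Thompson.Offender.Subnormal

set_option autoImplicit false
open Cfsg

namespace Cfsg.Agent.S0615

/-- Two subnormal subgroups acting irreducibly on their incomparable commutator modules, in a faithful group with trivial largest normal p-subgroup, generate their direct product, and the commutator module splits accordingly. -/
theorem result {G : Type*} [Group G] [Finite G] {p : ℕ} [Fact p.Prime] (V E E₁ E₂ : Subgroup G) (hV : Cfsg.IsElementaryAbelian p V) (hEV : E ≤ Subgroup.normalizer (V : Set G)) (hf : E ⊓ Subgroup.centralizer (V : Set G) = ⊥) (hgen : E = E₁ ⊔ E₂) (hs₁ : (E₁.subgroupOf E).IsSubnormal) (hs₂ : (E₂.subgroupOf E).IsSubnormal) (hOp : Cfsg.pCore p ↥E = ⊥) (hirr₁ : (∀ U : Subgroup G, U ≤ ⁅V, E₁⁆ → E₁ ≤ Subgroup.normalizer (U : Set G) → U = ⊥ ∨ U = ⁅V, E₁⁆)) (hirr₂ : (∀ U : Subgroup G, U ≤ ⁅V, E₂⁆ → E₂ ≤ Subgroup.normalizer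 (U : Set G) → U = ⊥ ∨ U = ⁅V, E₂⁆)) (h12 : ¬ ⁅V, E₁⁆ ≤ ⁅V, E₂⁆) (h21 : ¬ ⁅V, E₂⁆ ≤ ⁅V, E₁⁆) (hc₁ : 2 < Nat.card E₁) (hc₂ : 2 < Nat.card E₂) : ⁅E₁, E₂⁆ = ⊥ ∧ E₁ ⊓ E₂ = ⊥ ∧ ⁅V, E₁⁆ ⊓ ⁅V, E₂⁆ = ⊥ ∧ ⁅V, E⁆ = ⁅V, E₁⁆ ⊔ ⁅V, E₂⁆ := by
  have h₁ : Cfsg.Agent.Offender.IrrPart V E E₁ := ⟨le_sup_left.trans hgen.ge, hs₁, hc₁, hirr₁⟩
  have h₂ : Cfsg.Agent.Offender.IrrPart V E E₂ := ⟨le_sup_right.trans hgen.ge, hs₂, hc₂, hirr₂⟩
  obtain ⟨hd, hc12, hc21⟩ := Cfsg.Agent.Offender.irrPart_pair hV E E₁ E₂ hEV hf hOp hgen h₁ h₂ h12 h21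
  have hsub : ∀ A, A ≤ E → ⁅V, A⁆ ≤ V := fun A hA =>
    Subgroup.le_normalizer_iff_commutator_le_left.1 (hA.trans hEV)
  refine ⟨?_, ?_, hd, le_antisymm ?_ (sup_le (Subgroup.commutator_mono le_rfl h₁.le)
    (Subgroup.commutator_mono le_rfl h₂.le))⟩
  · have h3 : ⁅⁅E₁, E₂⁆, V⁆ = ⊥ := by
      refine Subgroup.commutator_commutator_eq_bot_of_rotate ?_ ?_
      · rw [Subgroup.commutator_comm E₂ V, Subgroup.commutator_eq_bot_iff_le_centralizer,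
          Subgroup.le_centralizer_iff]
        exact hc12
      · rw [Subgroup.commutator_eq_bot_iff_le_centralizer, Subgroup.le_centralizer_iff]
        exact hc21
    rw [← le_bot_iff, ← hf]
    exact le_inf ((Subgroup.commutator_mono h₁.le h₂.le).trans (Subgroup.commutator_le_self E))
      (Subgroup.commutator_eq_bot_iff_le_centralizer.1 h3)
  · rw [← le_bot_iff, ← hf]
    refine le_inf (inf_le_left.trans h₁.le) ?_
    rw [Subgroup.le_centralizer_iff, ← Subgroup.commutator_eq_bot_iff_le_centralizer, ← le_bot_iff,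
      ← hd]
    exact le_inf (Subgroup.commutator_mono le_rfl inf_le_left)
      (Subgroup.commutator_mono le_rfl inf_le_right)
  · set W := ⁅V, E₁⁆ ⊔ ⁅V, E₂⁆ with hW
    have hWV : W ≤ V := sup_le (hsub _ h₁.le) (hsub _ h₂.le)
    have hst : ∀ A : Subgroup G, ⁅V, A⁆ ≤ W → A ≤ Cfsg.Agent.Offender.stab V W := fun A hA =>
      Cfsg.Agent.Offender.le_stab_iff.2 ⟨Subgroup.le_normalizer_iff_commutator_le_left.2
        ((Subgroup.commutator_mono hWV le_rfl).trans hA), hA⟩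
    have hE : E ≤ Cfsg.Agent.Offender.stab V W := by
      rw [hgen]
      exact sup_le (hst E₁ le_sup_left) (hst E₂ le_sup_right)
    exact (Cfsg.Agent.Offender.le_stab_iff.1 hE).2

end Cfsg.Agent.S0615
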