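import Cfsg.Statements.S0617
import Cfsg.Agent.Thompson.Offender.Structure

set_option autoImplicit false
open Cfsg

namespace Cfsg.Agent.S0617

/-- Structure Theorem for failure of factorization: a faithful group generated by best offenders, with self-centralizing p'-core, is a direct product of copies of SL(2, p) (p = 2 or 3), each acting on its own plane in V, which is the direct product of these planes and C_V(H). -/
theorem result {G : Type*} [Group G] [Finite G] {p : ℕ} [Fact p.Prime] (V H : Subgroup G) (hV : Cfsg.IsElementaryAbelian p V) (hHV : H ≤ Subgroup.normalizer (V : Set G)) (hf : H ⊓ Subgroup.centralizer (V : Set G) = ⊥) (hS1 : Subgroup.centralizer (Cfsg.pPrimeCore p ↥H : Set ↥H) ≤ Cfsg.pPrimeCore p ↥H) (hS3 : H = ⨆ A : {A : Subgroup G // A ≤ H ∧ Cfsg.IsBestOffenderOn p V A}, (A : Subgroup G)) (hH1 : H ≠ ⊥) : (p = 2 ∨ p = 3) ∧ (∀ E : {E : Subgroup G // ∃ A : Subgroup G, A ≤ H ∧ Cfsg.IsBestOffenderOn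 p V A ∧ ⁅V, A⁆ ≠ ⊥ ∧ (∀ B : Subgroup G, B ≤ A → Cfsg.IsBestOffenderOn p V B → ⁅V, B⁆ ≠ ⊥ → B = A) ∧ E = ⁅((Cfsg.pPrimeCore p ↥H).map H.subtype), A⁆ ⊔ A}, H ≤ Subgroup.normalizer ((E : Subgroup G) : Set G) ∧ Nonempty (↥(E : Subgroup G) ≃* Matrix.SpecialLinearGroup (Fin 2) (ZMod p)) ∧ Nat.card ↥(⁅V, (E : Subgroup G)⁆) = p ^ 2) ∧ iSupIndep (fun E : {E : Subgroup G // ∃ A : Subgroup G, A ≤ H ∧ Cfsg.IsBestOffenderOn p V A ∧ ⁅V, A⁆ ≠ ⊥ ∧ (∀ B : Subgroup G, B ≤ A → Cfsg.IsBestOffenderOn p V B → ⁅V, B⁆ ≠ ⊥ → B = A) ∧ E = ⁅((Cfsg.pPrimeCore p ↥H).map H.subtype), A⁆ ⊔ A} => (E : Subgroup G)) ∧ (⨆ E : {E : Subgroup G // ∃ A : Subgroup G, A ≤ H ∧ Cfsg.IsBestOffenderOn p V A ∧ ⁅V, A⁆ ≠ ⊥ ∧ (∀ B : Subgroup G, B ≤ A → Cfsg.IsBestOffenderOn p V B → ⁅V, B⁆ ≠ ⊥ → B = A) ∧ E = ⁅((Cfsg.pPrimeCore p ↥H).map H.subtype), A⁆ ⊔ A}, (E : Subgroup G)) = H ∧ iSupIndep (fun o : Option {E : Subgroup G // ∃ A : Subgroup G, A ≤ H ∧ Cfsg.IsBestOffenderOn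 p V A ∧ ⁅V, A⁆ ≠ ⊥ ∧ (∀ B : Subgroup G, B ≤ A → Cfsg.IsBestOffenderOn p V B → ⁅V, B⁆ ≠ ⊥ → B = A) ∧ E = ⁅((Cfsg.pPrimeCore p ↥H).map H.subtype), A⁆ ⊔ A} => o.elim (V ⊓ Subgroup.centralizer (H : Set G)) (fun E => ⁅V, (E : Subgroup G)⁆)) ∧ (V ⊓ Subgroup.centralizer (H : Set G)) ⊔ (⨆ E : {E : Subgroup G // ∃ A : Subgroup G, A ≤ H ∧ Cfsg.IsBestOffenderOn p V A ∧ ⁅V, A⁆ ≠ ⊥ ∧ (∀ B : Subgroup G, B ≤ A → Cfsg.IsBestOffenderOn p V B → ⁅V, B⁆ ≠ ⊥ → B = A) ∧ E = ⁅((Cfsg.pPrimeCore p ↥H).map H.subtype), A⁆ ⊔ A}, ⁅V, (E : Subgroup G)⁆) = V := by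
  have h : Cfsg.Agent.Offender.FF p V H := ⟨hV, hHV, hf, hS1, hS3⟩
  obtain ⟨L, hL⟩ := h.exists_line hH1
  let T := {E : Subgroup G // ∃ A : Subgroup G, A ≤ H ∧ Cfsg.IsBestOffenderOn p V A ∧ ⁅V, A⁆ ≠ ⊥ ∧
    (∀ B : Subgroup G, B ≤ A → Cfsg.IsBestOffenderOn p V B → ⁅V, B⁆ ≠ ⊥ → B = A) ∧
    E = ⁅((Cfsg.pPrimeCore p ↥H).map H.subtype), A⁆ ⊔ A}
  have hrep : ∀ E : T, ∃ A, Cfsg.Agent.Offender.IsLine p V H A ∧
      (E : Subgroup G) = Cfsg.Agent.Offender.blk p H A := by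
    rintro ⟨E, A, hAH, hA, hAV, hmin, rfl⟩
    exact ⟨A, h.isLine_of_minimal hAH hA hAV hmin, rfl⟩
  have hmem : ∀ A, Cfsg.Agent.Offender.IsLine p V H A →
      ∃ E : T, (E : Subgroup G) = Cfsg.Agent.Offender.blk p H A := fun A hA =>
    ⟨⟨_, A, hA.le, hA.offender h, (h.commutator_ne_bot_iff hA.le).2 hA.ne_bot,
      fun B hB _ hBV => hA.minimal B hB hBV, rfl⟩, rfl⟩
  have hsup : (⨆ E : T, (E : Subgroup G)) = H := by
    refine le_antisymm (iSup_le fun E => ?_) (h.le_of_lines fun A hA => ?_)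
    · obtain ⟨A, hA, he⟩ := hrep E
      exact he ▸ hA.blk_le h
    · obtain ⟨E, he⟩ := hmem A hA
      exact le_iSup_of_le E (he ▸ le_sup_right)
  -- different members avoid each other
  have hother : ∀ E F : T, F ≠ E →
      (F : Subgroup G) ≤ H ⊓ Subgroup.centralizer ((⁅V, (E : Subgroup G)⁆ : Subgroup G) : Set G) ∧
      ⁅V, (F : Subgroup G)⁆ ≤ V ⊓ Subgroup.centralizer ((E : Subgroup G) : Set G) := by
    intro E F hne
    obtain ⟨A, hA, heA⟩ := hrep E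
    obtain ⟨B, hB, heB⟩ := hrep F
    rw [heA, heB]
    have := hA.blk_le_of_ne h hB fun he => hne (Subtype.ext (heB.trans (he.trans heA.symm)))
    exact ⟨this, (Subgroup.commutator_mono le_rfl this).trans (hA.direct h).2.2⟩
  refine ⟨hL.eq_two_or_three h, fun E => ?_, ?_, hsup, ?_, ?_⟩
  · obtain ⟨A, hA, he⟩ := hrep E
    rw [he]
    exact ⟨hA.le_normalizer_blk h, hA.exists_iso h, hA.card_blk_commutator h⟩
  · rw [iSupIndep_def]
    intro E
    obtain ⟨A, hA, he⟩ := hrep E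
    rw [disjoint_iff, ← le_bot_iff]
    show (E : Subgroup G) ⊓ _ ≤ ⊥
    refine le_trans ?_ (hA.blk_faithful h).le
    rw [← he]
    exact inf_le_inf_left _ (iSup₂_le fun F hF => ((hother E F hF).1.trans inf_le_right))
  · rw [iSupIndep_def]
    rintro (_ | E)
    · rw [disjoint_iff, ← le_bot_iff]
      have := h.hV.1
      have hcop : (Nat.card (Cfsg.Agent.Offender.core p H)).Coprime (Nat.card V) := by
        obtain ⟨n, hn⟩ := IsPGroup.iff_card.1 h.hVp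
        rw [hn]
        exact (Cfsg.Agent.Offender.FF.coprime_core (H := H)).pow_right n
      refine le_trans ?_ (Cfsg.Agent.Coprime.abelian_decomposition h.core_le_normalizer hcop).1.le
      refine inf_le_inf ?_ (iSup₂_le ?_)
      · exact Cfsg.Agent.Offender.cap_centralizer_of_le Cfsg.Agent.Offender.FF.core_le
      · rintro (_ | F) hF
        · exact absurd rfl hF
        · obtain ⟨A, hA, he⟩ := hrep F
          show ⁅V, (F : Subgroup G)⁆ ≤ _
          rw [he]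
          exact hA.blk_commutator_le_core h
    · obtain ⟨A, hA, he⟩ := hrep E
      rw [disjoint_iff, ← le_bot_iff]
      show ⁅V, (E : Subgroup G)⁆ ⊓ _ ≤ ⊥
      refine le_trans ?_ (hA.blk_commutator_inf h).le
      rw [← he]
      refine inf_le_inf_left _ (iSup₂_le ?_)
      rintro (_ | F) hF
      · exact Cfsg.Agent.Offender.cap_centralizer_of_le (he.symm ▸ hA.blk_le h)
      · exact (hother E F fun h0 => hF (congrArg some h0)).2
  · have := h.hV.1
    have hcop : (Nat.card (Cfsg.Agent.Offender.core p H)).Coprime (Nat.card V) := by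
      obtain ⟨n, hn⟩ := IsPGroup.iff_card.1 h.hVp
      rw [hn]
      exact (Cfsg.Agent.Offender.FF.coprime_core (H := H)).pow_right n
    have hWV : ∀ E : T, ⁅V, (E : Subgroup G)⁆ ≤ V := fun E => by
      obtain ⟨A, hA, he⟩ := hrep E
      rw [he]
      exact hA.plane_le_V h
    refine le_antisymm (sup_le inf_le_left (iSup_le hWV)) ?_
    conv_lhs => rw [← (Cfsg.Agent.Coprime.abelian_decomposition h.core_le_normalizer hcop).2]
    refine sup_le_sup (le_inf inf_le_left ?_) ?_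
    · rw [Subgroup.le_centralizer_iff]
      refine hsup.ge.trans (iSup_le fun E => ?_)
      obtain ⟨A, hA, he⟩ := hrep E
      rw [he, Subgroup.le_centralizer_iff]
      calc V ⊓ Subgroup.centralizer (Cfsg.Agent.Offender.core p H : Set G)
          ≤ V ⊓ Subgroup.centralizer
            ((⁅Cfsg.Agent.Offender.core p H, A⁆ : Subgroup G) : Set G) :=
            Cfsg.Agent.Offender.cap_centralizer_of_le
              (Cfsg.Agent.Offender.IsLine.commutator_core_le hA.le)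
        _ = V ⊓ Subgroup.centralizer (Cfsg.Agent.Offender.blk p H A : Set G) :=
            hA.fix_commutator_core h
        _ ≤ _ := inf_le_right
    · refine (Subgroup.commutator_mono le_rfl (Cfsg.Agent.Offender.FF.core_le.trans hsup.ge)).trans ?_
      refine (Cfsg.Agent.Offender.le_stab_iff.1 (iSup_le fun E => ?_)).2
      refine Cfsg.Agent.Offender.le_stab_iff.2
        ⟨?_, le_iSup (fun E : T => ⁅V, (E : Subgroup G)⁆) E⟩
      rw [Subgroup.le_normalizer_iff_commutator_le_left]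
      exact (Subgroup.commutator_mono (iSup_le hWV) le_rfl).trans
        (le_iSup (fun E : T => ⁅V, (E : Subgroup G)⁆) E)

end Cfsg.Agent.S0617
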