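import Cfsg.Statements.S0619
import Cfsg.Agent.Thompson.Offender.Action
import Cfsg.Agent.S0603
import Cfsg.Agent.S0608

set_option autoImplicit false
open Cfsg

namespace Cfsg.Agent.S0619

/-- For a p-separable group and a normal elementary abelian p-subgroup V with no nontrivial normal p-subgroup modulo its centralizer C, the Thompson subgroup J(G) moves Ω₁(Z(J(C))) only inside V. -/
theorem result {G : Type*} [Group G] [Finite G] {p : ℕ} [Fact p.Prime] (hsep : Cfsg.IsPSolvable p G) (V : Subgroup G) [V.Normal] (hV : Cfsg.IsElementaryAbelian p V) (hO : Cfsg.pCore p (G ⧸ Subgroup.centralizer (V : Set G)) = ⊥) : ⁅Cfsg.omegaOne p (Cfsg.centerThompsonOf p (Subgroup.centralizer (V : Set G))), Cfsg.thompsonSubgroup p G⁆ ≤ V := by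
  set σ := Cfsg.Agent.Offender.act V with hσ
  set C := Subgroup.centralizer (V : Set G) with hCdef
  have hker : σ.ker = C := Cfsg.Agent.Offender.act_ker
  have hcore : Cfsg.pCore p ((⊤ : Subgroup G).map σ) = ⊥ := by
    rw [← MonoidHom.range_eq_map]
    refine Cfsg.Agent.Offender.pCore_range_eq_bot σ ?_
    rw [← Cfsg.Agent.Core.map_pCore (QuotientGroup.quotientMulEquivOfEq hker).symm, hO,
      Subgroup.map_bot]
  have hff := Cfsg.Agent.Offender.ff_of_thompson (V := V)
    (Cfsg.Agent.Offender.isPSolvable_subgroup hsep ⊤) le_top hV hcore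
  rw [Cfsg.Agent.S0603.result ⊤ le_top] at hff
  set Z := Cfsg.omegaOne p (Cfsg.centerThompsonOf p C) with hZ
  refine (Cfsg.Agent.Offender.le_stab_iff.1 (sSup_le fun A hA => ?_)).2
  have hAnorm : A ≤ Subgroup.normalizer (V : Set G) := by
    rw [Subgroup.normalizer_eq_top]; exact le_top
  refine Cfsg.Agent.Offender.le_stab_iff.2 ⟨hAnorm, ?_⟩
  have hAH : A.map σ ≤ (Cfsg.thompsonSubgroup p G).map σ :=
    Subgroup.map_mono (Cfsg.Agent.Thompson.le_thompson hA)
  have hoff : Cfsg.IsBestOffenderOn p (Cfsg.Agent.Offender.emb V V) (A.map σ) := by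
    have h0 := Cfsg.Agent.S0606.result V hV A hA
    have hea : Cfsg.IsElementaryAbelian p (A.map σ) := Cfsg.Agent.Thompson.ea_map hA.1 _
    refine hff.offender_of_full hAH hea (le_antisymm (hff.bound hAH hea) ?_)
    rw [Cfsg.Agent.Offender.fix_act, Cfsg.Agent.Offender.card_emb le_rfl,
      Cfsg.Agent.Offender.card_emb inf_le_left]
    have hb := h0.1 (A ⊓ C) inf_le_left
    have hfix : V ⊓ Subgroup.centralizer ((A ⊓ C : Subgroup G) : Set G) = V :=
      inf_eq_left.2 (Subgroup.le_centralizer_iff.1 inf_le_right)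
    rw [hfix, ← Cfsg.Agent.Offender.card_map_act_mul (V := V) A] at hb
    refine Nat.le_of_mul_le_mul_left ?_ (Nat.card_pos (α := (A ⊓ C : Subgroup G)))
    calc _ ≤ _ := hb
      _ = _ := by rw [hσ]; ring
  have hfull := hff.full_of_offender hAH hoff
  rw [Cfsg.Agent.Offender.fix_act, Cfsg.Agent.Offender.card_emb le_rfl,
    Cfsg.Agent.Offender.card_emb inf_le_left, Cfsg.Agent.Thompson.fix_eq_inf V hV hA] at hfull
  set A₀ := (A ⊓ C) ⊔ V with hA₀
  have hVC : V ≤ C := (Cfsg.Agent.Thompson.ea_iff.1 hV).1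
  have hea₀ : Cfsg.IsElementaryAbelian p A₀ :=
    Cfsg.Agent.Thompson.ea_sup (Cfsg.Agent.Thompson.ea_mono hA.1 inf_le_left) hV inf_le_right
  have hcard : Nat.card A ≤ Nat.card A₀ := by
    have e := Cfsg.Agent.Thompson.card_sup_mul_card_inf_of_comm
      (inf_le_right : A ⊓ C ≤ Subgroup.centralizer (V : Set G))
    rw [inf_assoc, inf_eq_right.2 hVC, ← hfull] at e
    refine (Nat.eq_of_mul_eq_mul_right (Nat.card_pos (α := (A ⊓ V : Subgroup G))) ?_).ge
    rw [e, ← Cfsg.Agent.Offender.card_map_act_mul (V := V) A, hσ]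
    ring
  have hA₀max : A₀ ∈ Cfsg.maxElementaryAbelianSubgroups p G :=
    ⟨hea₀, fun B hB => (hA.2 B hB).trans hcard⟩
  have hA₀J : A₀ ≤ Cfsg.thompsonSubgroupOf p C :=
    Cfsg.Agent.Thompson.le_thompsonOf (sup_le inf_le_right hVC) hea₀
      fun B _ hB => hA₀max.2 B hB
  have hZA : Z ≤ A₀ := by
    rw [hZ, Cfsg.omegaOne, Subgroup.closure_le]
    rintro x ⟨hx, hxp⟩
    have hxc : Subgroup.zpowers x ≤ Subgroup.centralizer (A₀ : Set G) :=
      Subgroup.zpowers_le.2 (Subgroup.centralizer_le hA₀J hx.2)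
    have hsup := Cfsg.Agent.Thompson.ea_sup (Cfsg.Agent.Thompson.ea_zpowers hxp) hea₀ hxc
    exact (Subgroup.eq_of_le_of_card_ge le_sup_right (hA₀max.2 _ hsup)).ge
      (Subgroup.mem_sup_left (Subgroup.mem_zpowers x))
  refine (Subgroup.commutator_mono hZA le_rfl).trans ?_
  rw [Subgroup.commutator_comm]
  have hnV : ∀ X : Subgroup G, X ≤ Subgroup.normalizer (V : Set G) := fun X => by
    rw [Subgroup.normalizer_eq_top]; exact le_top
  refine (Cfsg.Agent.Offender.le_stab_iff.1 (sup_le ?_ ?_)).2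
  · refine Cfsg.Agent.Offender.le_stab_iff.2 ⟨hnV _, ?_⟩
    rw [Subgroup.commutator_eq_bot_iff_le_centralizer.2
      ((Cfsg.Agent.Thompson.ea_iff.1 hA.1).1.trans (Subgroup.centralizer_le inf_le_left))]
    exact bot_le
  · exact Cfsg.Agent.Offender.le_stab_iff.2 ⟨hnV _, Subgroup.commutator_le_right A V⟩

end Cfsg.Agent.S0619
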