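import Cfsg.Statements.S0620
import Cfsg.Agent.Thompson.Offender.Operators

set_option autoImplicit false
open Cfsg

namespace Cfsg.Agent.S0620

/-- Under coprime action of an elementary abelian q-group X on a p-separable group K with trivial p'-core, K is generated by the normalizer of J(S), the centralizer of Ω₁(Z(S)) and the fixed points of X. -/
theorem result {G : Type*} [Group G] [Finite G] {p : ℕ} [Fact p.Prime] {q : ℕ} [Fact q.Prime] (K X : Subgroup G) (hXK : X ≤ Subgroup.normalizer (K : Set G)) (hX : Cfsg.IsElementaryAbelian q X) (hq : ¬ q ∣ Nat.card K) (hsep : Cfsg.IsPSolvable p ↥K) (hO : Cfsg.pPrimeCore p ↥K = ⊥) (S : Sylow p ↥K) : (Subgroup.normalizer (Cfsg.thompsonSubgroupOf p (S : Subgroup ↥K) : Set ↥K) ⊔ Subgroup.centralizer (Cfsg.omegaOne p ((S : Subgroup ↥K) ⊓ Subgroup.centralizer ((S : Subgroup ↥K) : Set ↥K)) : Set ↥K) ⊔ (Subgroup.centralizer (X : Set G)).subgroupOf K) = ⊤ := by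
  set V := ⨆ T : Sylow p K, Cfsg.omegaOne p ((T : Subgroup K) ⊓
    Subgroup.centralizer ((T : Subgroup K) : Set K)) with hVdef
  have : V.Characteristic := Cfsg.Agent.Offender.omegaClosure_characteristic ↥K
  obtain ⟨hVea, hD⟩ := Cfsg.Agent.Offender.omegaClosure_setting hsep hO V hVdef
  have hXp : IsPGroup q X := Cfsg.Agent.Thompson.ea_isPGroup hX
  obtain ⟨hff, hτp, hτH, hτV, hqH, hlift⟩ :=
    Cfsg.Agent.Offender.ops_setting K X hXK V hVea hsep hD hXp hq
  set σ := Cfsg.Agent.Offender.act V with hσ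
  set J := Cfsg.thompsonSubgroup p K with hJ
  set JS := Cfsg.thompsonSubgroupOf p (S : Subgroup K) with hJS
  set M := Subgroup.normalizer (JS : Set K) ⊔ Subgroup.centralizer
    (Cfsg.omegaOne p ((S : Subgroup K) ⊓ Subgroup.centralizer ((S : Subgroup K) : Set K)) : Set K) ⊔
    (Subgroup.centralizer (X : Set G)).subgroupOf K with hM
  have hker : σ.ker ≤ M := by
    rw [hσ, Cfsg.Agent.Offender.act_ker]
    refine le_trans ?_ (le_sup_of_le_left le_sup_right)
    exact Subgroup.centralizer_le (le_iSup (fun T : Sylow p K => Cfsg.omegaOne p ((T : Subgroup K) ⊓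
      Subgroup.centralizer ((T : Subgroup K) : Set K))) S)
  have : J.Characteristic := Cfsg.Agent.Thompson.thompson_characteristic p ↥K
  set R := J ⊔ σ.ker with hR
  have hRn : R.Normal := Subgroup.sup_normal J σ.ker
  have hRmap : R.map σ = J.map σ := by
    rw [hR, Subgroup.map_sup, (Subgroup.map_eq_bot_iff σ.ker).2 le_rfl, sup_bot_eq]
  have hJSJ : JS ≤ J := Cfsg.Agent.Thompson.thompsonOf_sylow_le S
  have hTp : IsPGroup p ((S : Subgroup K).subgroupOf R) :=
    S.2.comap_of_injective R.subtype R.subtype_injective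
  set T : Sylow p R := hTp.toSylow (Cfsg.Agent.Thompson.not_dvd_relIndex_sylow S R) with hT
  have hSM : (S : Subgroup K) ≤ M := le_sup_of_le_left (le_sup_of_le_left
    (Subgroup.le_normalizer.trans (Cfsg.Agent.Thompson.normalizer_le_normalizer_thompsonOf _)))
  set Mb := (M ⊓ R).map σ with hMb
  -- the image of `M` is everything
  have hHM : J.map σ ≤ Mb := by
    refine hff.le_of_lines fun L₀ hL₀ => ?_
    let T' : Sylow p (R.map σ) := T.mapSurjective (f := σ.subgroupMap R) (σ.subgroupMap_surjective R)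
    have hL₀R : L₀ ≤ R.map σ := hRmap.symm ▸ hL₀.le
    obtain ⟨P, hP⟩ := IsPGroup.exists_le_sylow
      ((Cfsg.Agent.Thompson.ea_isPGroup hL₀.ea).comap_of_injective (R.map σ).subtype
        (R.map σ).subtype_injective)
    obtain ⟨r, hr⟩ := MulAction.exists_smul_eq (R.map σ) P T'
    have hrH : (r : Cfsg.Agent.Offender.Hol V) ∈ J.map σ := hRmap ▸ r.2
    set L := Cfsg.Agent.Offender.cj (r : Cfsg.Agent.Offender.Hol V) L₀ with hLdef
    have hLl : Cfsg.Agent.Offender.IsLine p (Cfsg.Agent.Offender.emb V V) (J.map σ) L :=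
      hL₀.conj hrH (hff.hHV hrH)
    have hLM : L ≤ Mb := by
      rintro - ⟨l, hl, rfl⟩
      have h1 : r * ⟨l, hL₀R hl⟩ * r⁻¹ ∈ (T' : Subgroup (R.map σ)) := by
        rw [← hr, Sylow.coe_subgroup_smul, Cfsg.Agent.Coprime.conj_smul_eq_map]
        exact ⟨_, hP hl, rfl⟩
      obtain ⟨t, ht, he⟩ := h1
      exact ⟨t, ⟨hSM ht, t.2⟩, congrArg Subtype.val he⟩
    set E := Cfsg.Agent.Offender.blk p (J.map σ) L with hE
    have hblk : E = Cfsg.Agent.Offender.blk p (J.map σ) L₀ := by
      rw [hE, hLdef, ← Cfsg.Agent.Offender.IsLine.cj_blk hrH,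
        Cfsg.Agent.Offender.cj_eq_self (hL₀.le_normalizer_blk hff hrH)]
    obtain ⟨δ, -, hfix, hconj, hH, -⟩ := hLl.exists_diag hff hτp hτH hτV hqH
    have hE' : E ≤ Mb := by
      have hcE : ∀ e ∈ E, Cfsg.Agent.Offender.cj e L ≤ Mb := by
        intro e he
        set m : ↥(E ⊔ ⁅Cfsg.Agent.Offender.emb V V, E⁆) := ⟨e, Subgroup.mem_sup_left he⟩ with hm
        have hmH : δ m ∈ J.map σ := hH m (hLl.blk_le hff he)
        obtain ⟨k, hkR, hk, hkX⟩ := hlift _ hmH (hfix m)
        have hcM : δ m ∈ Mb := ⟨k, ⟨Subgroup.mem_sup_right hkX, hkR⟩, hk⟩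
        rintro - ⟨l, hl, rfl⟩
        have he2 := hconj m ⟨l, Subgroup.mem_sup_left (Subgroup.mem_sup_right hl)⟩
        show e * l * e⁻¹ ∈ Mb
        rw [← show δ m * l * (δ m)⁻¹ = e * l * e⁻¹ from he2]
        exact Mb.mul_mem (Mb.mul_mem hcM (hLM hl)) (Mb.inv_mem hcM)
      obtain ⟨x, hxR, hxL⟩ : ∃ x ∈ ⁅Cfsg.Agent.Offender.core p (J.map σ), L⁆,
          x ∉ Subgroup.centralizer (L : Set (Cfsg.Agent.Offender.Hol V)) := by
        refine SetLike.not_le_iff_exists.1 fun hle => hLl.commutator_core_ne_bot hff ?_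
        have := (hLl.ea).1
        rw [← Cfsg.Agent.Coprime.commutator_commutator_eq
          (hLl.le.trans Cfsg.Agent.Offender.FF.le_normalizer_core) (by
            rw [hLl.card_eq]
            exact (Cfsg.Agent.Offender.FF.coprime_core).symm)
          (Or.inl (Group.isSolvable_of_comm fun u v => IsMulCommutative.is_comm.comm u v))]
        exact Subgroup.commutator_eq_bot_iff_le_centralizer.2 hle
      rw [hE, hLl.blk_eq hff (Cfsg.Agent.Offender.IsLine.commutator_core_le hLl.le hxR) hxL]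
      exact sup_le hLM (hcE x (Subgroup.mem_sup_left hxR))
    refine le_trans ?_ hE'
    rw [hblk]
    exact le_sup_right
  have hRM : R ≤ M := by
    refine sup_le (fun j hj => ?_) hker
    obtain ⟨m, hm, he⟩ := hHM (Subgroup.mem_map_of_mem σ hj)
    have : m⁻¹ * j ∈ σ.ker := by rw [MonoidHom.mem_ker, map_mul, map_inv, he, inv_mul_cancel]
    simpa using mul_mem hm.1 (hker this)
  -- the Frattini argument
  rw [eq_top_iff, ← Sylow.normalizer_sup_eq_top T]
  refine sup_le (le_trans ?_ (le_sup_of_le_left le_sup_left)) hRM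
  refine le_trans ?_ (le_trans (Cfsg.Agent.Thompson.normalizer_le_normalizer_thompsonOf (p := p)
    ((T : Subgroup R).map R.subtype)) (le_of_eq ?_))
  · exact le_rfl
  · have hle : JS ≤ (T : Subgroup R).map R.subtype := by
      show JS ≤ ((S : Subgroup K).subgroupOf R).map R.subtype
      rw [Subgroup.subgroupOf_map_subtype]
      exact le_inf (Cfsg.Agent.Thompson.thompsonOf_le p _) (hJSJ.trans le_sup_left)
    have hle' : (T : Subgroup R).map R.subtype ≤ (S : Subgroup K) := by
      show ((S : Subgroup K).subgroupOf R).map R.subtype ≤ _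
      rw [Subgroup.subgroupOf_map_subtype]
      exact inf_le_left
    rw [Cfsg.Agent.Thompson.thompsonOf_eq_of_le_of_le hle' hle]

end Cfsg.Agent.S0620
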