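import Cfsg.Statements.S0621
import Cfsg.Agent.Thompson.Offender.Operators

set_option autoImplicit false
open Cfsg

namespace Cfsg.Agent.S0621

/-- Let K be p-separable with O_p'(K) = 1, normalized by an elementary abelian q-group X for a prime q not dividing the order of K. If the Thompson factorization fails in K, then p is 2 or 3 and the fixed points of X contain a plane W of order p² and a subgroup inducing SL(2, p) on it. -/
theorem result {G : Type*} [Group G] [Finite G] {p : ℕ} [Fact p.Prime] {q : ℕ} [Fact q.Prime] (K X : Subgroup G) (hXK : X ≤ Subgroup.normalizer (K : Set G)) (hX : Cfsg.IsElementaryAbelian q X) (hq : ¬ q ∣ Nat.card K) (hsep : Cfsg.IsPSolvable p ↥K) (hO : Cfsg.pPrimeCore p ↥K = ⊥) (hnf : ¬ Cfsg.IsThompsonFactorizable p ↥K) : (p = 2 ∨ p = 3) ∧ ∃ W D : Subgroup G, W ≤ K ⊓ Subgroup.centralizer (X : Set G) ∧ D ≤ K ⊓ Subgroup.centralizer (X : Set G) ∧ Cfsg.IsElementaryAbelian p W ∧ Nat.card W = p ^ 2 ∧ D ≤ Subgroup.normalizer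 (W : Set G) ∧ ∃ hn : ((Subgroup.centralizer (W : Set G)).subgroupOf D).Normal, Nonempty ((↥D ⧸ (Subgroup.centralizer (W : Set G)).subgroupOf D) ≃* Matrix.SpecialLinearGroup (Fin 2) (ZMod p)) := by
  set V := ⨆ T : Sylow p K, Cfsg.omegaOne p ((T : Subgroup K) ⊓
    Subgroup.centralizer ((T : Subgroup K) : Set K)) with hVdef
  have : V.Characteristic := Cfsg.Agent.Offender.omegaClosure_characteristic ↥K
  obtain ⟨hVea, hD⟩ := Cfsg.Agent.Offender.omegaClosure_setting hsep hO V hVdef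
  have hXp : IsPGroup q X := Cfsg.Agent.Thompson.ea_isPGroup hX
  obtain ⟨hff, hτp, hτH, hτV, hqH, hlift⟩ :=
    Cfsg.Agent.Offender.ops_setting K X hXK V hVea hsep hD hXp hq
  set σ := Cfsg.Agent.Offender.act V with hσ
  set Hb := (Cfsg.thompsonSubgroup p K).map σ with hHb
  set VV := Cfsg.Agent.Offender.emb V V with hVV
  have hne : Hb ≠ ⊥ := by
    intro h0
    refine hnf ((Cfsg.Agent.S0608.result hO).2 ?_)
    exact ((Subgroup.map_eq_bot_iff _).1 h0).trans Cfsg.Agent.Offender.act_ker.le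
  obtain ⟨L, hL⟩ := hff.exists_line hne
  obtain ⟨f⟩ := hL.exists_iso hff
  set E := Cfsg.Agent.Offender.blk p Hb L with hE
  set Wb := ⁅VV, E⁆ with hWb
  set P : Subgroup (Cfsg.Agent.Offender.Hol V) := E ⊔ Wb with hP
  obtain ⟨δ, hinj, hfix, -, hH, hVm⟩ : ∃ δ : P →* Cfsg.Agent.Offender.Hol V, Function.Injective δ ∧
      (∀ m, δ m ∈ Subgroup.centralizer
        ((Cfsg.Agent.Offender.opsHom K X hXK V).range : Set (Cfsg.Agent.Offender.Hol V))) ∧
      (∀ m f : P, δ m * (f : Cfsg.Agent.Offender.Hol V) * (δ m)⁻¹ =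
        m * f * (m : Cfsg.Agent.Offender.Hol V)⁻¹) ∧
      (∀ m : P, (m : Cfsg.Agent.Offender.Hol V) ∈ Hb → δ m ∈ Hb) ∧
      (∀ m : P, (m : Cfsg.Agent.Offender.Hol V) ∈ VV → δ m ∈ VV) :=
    hL.exists_diag hff hτp hτH hτV hqH
  set DD := (E.subgroupOf P).map δ with hDD
  set WW := (Wb.subgroupOf P).map δ with hWW
  have hDDc : DD ⊓ Subgroup.centralizer (WW : Set (Cfsg.Agent.Offender.Hol V)) = ⊥ := by
    rw [eq_bot_iff]
    rintro z ⟨⟨e, he, rfl⟩, hz⟩
    have h1 : (e : Cfsg.Agent.Offender.Hol V) ∈ Subgroup.centralizer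
        (Wb : Set (Cfsg.Agent.Offender.Hol V)) := by
      rw [Subgroup.mem_centralizer_iff]
      intro w hw
      have hwP : w ∈ P := Subgroup.mem_sup_right hw
      have h2 := Subgroup.mem_centralizer_iff.1 hz (δ ⟨w, hwP⟩) ⟨⟨w, hwP⟩, hw, rfl⟩
      rw [← map_mul, ← map_mul] at h2
      exact congrArg Subtype.val (hinj h2)
    have h3 : e = 1 := Subtype.ext (Subgroup.mem_bot.1
      ((hL.blk_faithful hff).le ⟨he, h1⟩))
    rw [h3, map_one]
    exact one_mem _
  have hWVV : WW ≤ VV := by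
    rintro - ⟨w, hw, rfl⟩
    exact hVm w (hL.plane_le_V hff hw)
  have hDH : DD ≤ Hb := by
    rintro - ⟨e, he, rfl⟩
    exact hH e (hL.blk_le hff he)
  have hDW : DD ≤ Subgroup.normalizer (WW : Set (Cfsg.Agent.Offender.Hol V)) := by
    refine le_trans ?_ (Subgroup.le_normalizer_map δ)
    refine Subgroup.map_mono ?_
    intro e he
    rw [Subgroup.mem_normalizer_iff]
    intro w
    exact Subgroup.mem_normalizer_iff.1 (Subgroup.normalizer_commutator_ge_right VV E he) w
  -- pull back to `K`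
  set W₀ : Subgroup K := (WW.comap SemidirectProduct.inl).map V.subtype with hW₀
  set D₀ : Subgroup K := DD.comap σ ⊓ (Subgroup.centralizer (X : Set G)).subgroupOf K with hD₀
  have hW₀V : W₀ ≤ V := Subgroup.map_subtype_le _
  have hD₀map : D₀.map σ = DD := by
    refine le_antisymm (Subgroup.map_le_iff_le_comap.2 inf_le_left) ?_
    rintro - ⟨e, he, rfl⟩
    obtain ⟨k, -, hk, hkX⟩ := hlift _ (hH e (hL.blk_le hff he)) (hfix e)
    refine ⟨k, ⟨?_, hkX⟩, hk⟩
    show σ k ∈ DD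
    rw [hk]
    exact ⟨e, he, rfl⟩
  have hWX : ∀ w ∈ W₀, (w : G) ∈ Subgroup.centralizer (X : Set G) := by
    rintro - ⟨v, hv, rfl⟩
    obtain ⟨w, -, hw⟩ := hv
    rw [Subgroup.mem_centralizer_iff]
    intro x hx
    have h1 := Cfsg.Agent.Offender.opsHom_conj_inl K X hXK V ⟨x, hx⟩ v
    rw [← hw, Subgroup.mem_centralizer_iff.1 (hfix w) _ ⟨⟨x, hx⟩, rfl⟩, mul_inv_cancel_right,
      hw] at h1
    have h4 : (x : G) * ((v : K) : G) * x⁻¹ = ((v : K) : G) :=
      (congrArg (fun y : V => ((y : K) : G)) (SemidirectProduct.inl_injective h1)).symm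
    exact mul_inv_eq_iff_eq_mul.1 h4
  have hcardW : Nat.card W₀ = p ^ 2 := by
    have hrange : WW ≤ (SemidirectProduct.inl : V →* Cfsg.Agent.Offender.Hol V).range := by
      refine hWVV.trans ?_
      exact Subgroup.map_le_range _ _
    rw [hW₀, Subgroup.card_map_of_injective V.subtype_injective,
      ← Subgroup.card_map_of_injective (f := (SemidirectProduct.inl : V →* Cfsg.Agent.Offender.Hol V))
        SemidirectProduct.inl_injective, Subgroup.map_comap_eq, inf_eq_right.2 hrange, hWW,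
      Subgroup.card_map_of_injective hinj,
      Nat.card_congr (Subgroup.subgroupOfEquivOfLe (le_sup_right : Wb ≤ P)).toEquiv]
    exact hL.card_blk_commutator hff
  have hnorm : D₀ ≤ Subgroup.normalizer (W₀ : Set K) := by
    refine Cfsg.Agent.Offender.le_normalizer_of_cj fun d hd => ?_
    refine Subgroup.eq_of_le_of_card_ge ?_ (Cfsg.Agent.Offender.card_cj _ _).ge
    rintro - ⟨-, ⟨v, hv, rfl⟩, rfl⟩
    refine ⟨⟨d * (v : K) * d⁻¹, Subgroup.Normal.conj_mem inferInstance _ v.2 d⟩, ?_, rfl⟩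
    show SemidirectProduct.inl _ ∈ WW
    rw [← Cfsg.Agent.Offender.act_conj d v]
    exact (Subgroup.mem_normalizer_iff.1 (hDW hd.1) _).1 hv
  have hkerD : D₀ ⊓ Subgroup.centralizer (W₀ : Set K) ≤ σ.ker := by
    rintro d ⟨hd, hdc⟩
    rw [MonoidHom.mem_ker, ← Subgroup.mem_bot, ← hDDc]
    refine ⟨hd.1, Subgroup.mem_centralizer_iff.2 ?_⟩
    intro z hz
    obtain ⟨w, hw, rfl⟩ : ∃ w : V, z = z ∧ SemidirectProduct.inl w = z := by
      obtain ⟨w, -, hw⟩ := hWVV hz
      exact ⟨w, rfl, hw⟩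
    have hw0 : (w : K) ∈ W₀ := ⟨w, hz, rfl⟩
    have h1 := Cfsg.Agent.Offender.act_conj d w
    have h2 : (⟨d * (w : K) * d⁻¹, Subgroup.Normal.conj_mem inferInstance _ w.2 d⟩ : V) = w := by
      refine Subtype.ext ?_
      show d * (w : K) * d⁻¹ = w
      rw [← Subgroup.mem_centralizer_iff.1 hdc _ hw0, mul_inv_cancel_right]
    rw [h2] at h1
    exact (mul_inv_eq_iff_eq_mul.1 h1).symm
  refine ⟨hL.eq_two_or_three hff, W₀.map K.subtype, D₀.map K.subtype, ?_, ?_,
    Cfsg.Agent.Thompson.ea_map (Cfsg.Agent.Thompson.ea_mono hVea hW₀V) _,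
    (Subgroup.card_map_of_injective K.subtype_injective).trans hcardW,
    le_trans (Subgroup.map_mono hnorm) (Subgroup.le_normalizer_map K.subtype), ?_⟩
  · rintro - ⟨w, hw, rfl⟩
    exact ⟨w.2, hWX w hw⟩
  · rintro - ⟨d, hd, rfl⟩
    exact ⟨d.2, hd.2⟩
  · let e := D₀.equivMapOfInjective K.subtype K.subtype_injective
    let ψ : ↥(D₀.map K.subtype) →* Cfsg.Agent.Offender.Hol V := (σ.comp D₀.subtype).comp e.symm.toMonoidHom
    have hψker : ψ.ker = (Subgroup.centralizer ((W₀.map K.subtype : Subgroup G) : Set G)).subgroupOf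
        (D₀.map K.subtype) := by
      ext z
      obtain ⟨d, rfl⟩ := e.surjective z
      have hz : ψ (e d) = σ d := by simp [ψ]
      rw [MonoidHom.mem_ker, hz, Subgroup.mem_subgroupOf]
      show σ d = 1 ↔ ((d : K) : G) ∈ _
      constructor
      · intro h0
        have hdC := (Cfsg.Agent.Offender.act_ker (V := V)).le (MonoidHom.mem_ker.2 h0)
        rw [Subgroup.mem_centralizer_iff]
        rintro - ⟨w, hw, rfl⟩
        exact congrArg Subtype.val (Subgroup.mem_centralizer_iff.1 hdC w (hW₀V hw))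
      · intro hdc
        refine MonoidHom.mem_ker.1 (hkerD ⟨d.2, ?_⟩)
        exact Subgroup.mem_centralizer_iff.2 fun w hw =>
          Subtype.ext (Subgroup.mem_centralizer_iff.1 hdc _ ⟨w, hw, rfl⟩)
    have hψr : ψ.range = DD := by
      rw [← hD₀map]
      refine le_antisymm ?_ ?_
      · rintro - ⟨z, rfl⟩
        exact ⟨e.symm z, SetLike.coe_mem _, rfl⟩
      · rintro - ⟨d, hd, rfl⟩
        exact ⟨e ⟨d, hd⟩, by simp [ψ]⟩
    have eD : ↥DD ≃* ↥E := ((E.subgroupOf P).equivMapOfInjective δ hinj).symm.trans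
      (Subgroup.subgroupOfEquivOfLe le_sup_left)
    have hn : ψ.ker.Normal := MonoidHom.normal_ker ψ
    rw [hψker] at hn
    refine ⟨hn, ?_⟩
    exact ⟨(QuotientGroup.quotientMulEquivOfEq hψker.symm).trans
      ((QuotientGroup.quotientKerEquivRange ψ).trans
        ((MulEquiv.subgroupCongr hψr).trans (eD.trans f)))⟩

end Cfsg.Agent.S0621
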