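import Cfsg.Statements.S0622
import Cfsg.Agent.Thompson.Stable

set_option autoImplicit false
universe u
open Cfsg

namespace Cfsg.Agent.S0622

/-- Basic properties of the stable normal closure W(S) of Ω₁(Z(S)) in a finite p-group: characteristic, squeezed between Ω₁(Z(S)) and Ω₁(Z(J(S))), nontrivial for S ≠ 1, and transported by group isomorphisms. -/
theorem result {S : Type u} [Group S] [Finite S] {p : ℕ} [Fact p.Prime] (hS : IsPGroup p S) : (Cfsg.stableNormalClosure p S).Characteristic ∧ Cfsg.omegaOne p (Subgroup.center S) ≤ Cfsg.stableNormalClosure p S ∧ Cfsg.stableNormalClosure p S ≤ Cfsg.omegaCenterThompson p S ∧ (Nontrivial S → Cfsg.stableNormalClosure p S ≠ ⊥) ∧ ∀ (S' : Type u) [Group S'] (η : S ≃* S'), (Cfsg.stableNormalClosure p S).map η.toMonoidHom = Cfsg.stableNormalClosure p S' := by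
  refine ⟨Subgroup.characteristic_iff_map_eq.2 fun φ => Thompson.map_stableNormalClosure φ,
    Thompson.omegaCenter_le_stableNormalClosure p S,
    Thompson.stableNormalClosure_le_omegaCenterThompson p S, fun hnt hbot => ?_,
    fun S' _ η => Thompson.map_stableNormalClosure η⟩
  have hnt' : Nontrivial (Subgroup.center S) := hS.center_nontrivial
  obtain ⟨n, hn⟩ := IsPGroup.iff_card.1 (hS.to_subgroup (Subgroup.center S))
  have hn0 : n ≠ 0 := by
    rintro rfl
    exact (Finite.one_lt_card (α := Subgroup.center S)).ne' (by rw [hn, pow_zero])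
  obtain ⟨z, hz⟩ := exists_prime_orderOf_dvd_card' p (hn ▸ dvd_pow_self p hn0)
  have hz1 : (z : S) ∈ Cfsg.omegaOne p (Subgroup.center S) :=
    Thompson.mem_omegaOne z.2 (by rw [← SubgroupClass.coe_pow, ← hz, pow_orderOf_eq_one]; rfl)
  have h1 := Thompson.omegaCenter_le_stableNormalClosure p S hz1
  rw [hbot, Subgroup.mem_bot] at h1
  rw [show z = 1 from Subtype.ext h1, orderOf_one] at hz
  exact (Fact.out : p.Prime).one_lt.ne hz

end Cfsg.Agent.S0622
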