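import Cfsg.Statements.S0625
import Cfsg.Agent.Fusion.ActionStable
import Cfsg.Agent.QdFree.SL2Facts

set_option autoImplicit false
open Cfsg

namespace Cfsg.Agent.S0625

/-- A p-separable group with p at least 5 is p-stable in the action sense. -/
theorem result {G : Type*} [Group G] [Finite G] {p : ℕ} [Fact p.Prime] (hp : 5 ≤ p) (hsep : Cfsg.IsPSolvable p G) : Cfsg.IsActionPStable p G := by
  refine Fusion.isActionPStable_of_free (by omega) fun h => ?_
  obtain ⟨K, f, hf⟩ := QdFree.exists_surjective_of_involves h
  have := QdFree.le_three_of_isPSolvable_sl2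
    (Layer.isPSolvable_of_surjective (QdFree.isPSolvable_subgroup hsep K) hf)
  omega

end Cfsg.Agent.S0625
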