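import Cfsg.Statements.S0627
import Cfsg.Agent.Fusion.ActionStable
import Cfsg.Agent.QdFree.SL2Facts
import Cfsg.Agent.Thompson.WNormal
import Cfsg.Agent.S0622
import Cfsg.Agent.Control.Sections
import Cfsg.Agent.OddLocal.PLengthOne

set_option autoImplicit false
open Cfsg

namespace Cfsg.Agent.S0627

universe u

/-- `W(Q)` of a `p`-group as an isomorphism-invariant functor. -/
theorem isCharPFunctor_stable {p : ℕ} [Fact p.Prime] :
    Cfsg.IsCharPFunctor.{u} p (fun Q _ => Cfsg.stableNormalClosure p Q) :=
  ⟨fun Q _ _ hQ hnt => (S0622.result hQ).2.2.2.1 hnt, fun Q R _ _ _ hQ φ => (S0622.result hQ).2.2.2.2 R φ⟩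

/-- In a p-separable group with p at least 5, the normalizer of W(S) supplements the largest normal subgroup of order prime to p. -/
theorem result {G : Type*} [Group G] [Finite G] {p : ℕ} [Fact p.Prime] (hp : 5 ≤ p) (hsep : Cfsg.IsPSolvable p G) (S : Sylow p G) : Cfsg.pPrimeCore p G ⊔ Subgroup.normalizer (((Cfsg.stableNormalClosure p ↥(S : Subgroup G)).map (S : Subgroup G).subtype) : Set G) = ⊤ := by
  set N := Cfsg.pPrimeCore p G
  set f := QuotientGroup.mk' N
  have hfs : Function.Surjective f := QuotientGroup.mk'_surjective N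
  have hker : f.ker = N := QuotientGroup.ker_mk' N
  have hkc : (Nat.card f.ker).Coprime p := by rw [hker]; exact Core.coprime_card_pPrimeCore
  have hst : Cfsg.IsActionPStable p (G ⧸ N) :=
    Fusion.isActionPStable_of_free (by omega) fun h => by
      obtain ⟨K, g, hg⟩ := QdFree.exists_surjective_of_involves h
      have := QdFree.le_three_of_isPSolvable_sl2 (Layer.isPSolvable_of_surjective
        (QdFree.isPSolvable_subgroup (Layer.isPSolvable_of_surjective hsep hfs) K) hg)
      omega
  have hn := Thompson.stableNormalClosure_map_normal_of_actionPStable hst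
    (Layer.isPConstrained_iff_selfCentral.mp (Layer.isPConstrained_of_isPSolvable hsep))
    (S.mapSurjective hfs)
  have hmap := Control.inducedFunctor_map (isCharPFunctor_stable (p := p)) f S.2
    (Control.injOn_sylow_of_coprime _ S.2 f hkc)
  rw [← Sylow.coe_mapSurjective (f := f) hfs S] at hmap
  simp only [Cfsg.inducedFunctor] at hmap
  rw [hmap] at hn
  have h2 := Layer.map_normalizer_of_coprime hfs hkc
    (S.2.to_le (Subgroup.map_subtype_le (Cfsg.stableNormalClosure p ↥(S : Subgroup G))))
  rw [Subgroup.normalizer_eq_top_iff.mpr hn] at h2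
  have := congrArg (Subgroup.comap f) h2
  rwa [Subgroup.comap_map_eq, hker, Subgroup.comap_top, sup_comm] at this

end Cfsg.Agent.S0627
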