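import Cfsg.Statements.S0628
import Cfsg.Agent.Fusion.ActionStable
import Cfsg.Agent.KInf.Complement
import Cfsg.Agent.Thompson.WNormal
import Cfsg.Agent.S0622

set_option autoImplicit false
open Cfsg

namespace Cfsg.Agent.S0628

open Subgroup

universe u

/-- `W(Q)` for a `p`-group is an isomorphism-invariant functor. -/
theorem isCharPFunctor_stable {p : ℕ} [Fact p.Prime] :
    Cfsg.IsCharPFunctor.{u} p (fun Q _ => Cfsg.stableNormalClosure p Q) :=
  ⟨fun Q _ _ hQ hnt => (S0622.result hQ).2.2.2.1 hnt, fun Q R _ _ _ hQ φ => (S0622.result hQ).2.2.2.2 R φ⟩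

/-- The normal p-complement Theorem of Thompson in the form with W(S): for odd p, G has a normal p-complement as soon as the normalizer of the characteristic subgroup W(S) of a Sylow p-subgroup S has one. -/
theorem result {G : Type*} [Group G] [Finite G] {p : ℕ} [Fact p.Prime] (hp : p ≠ 2) (S : Sylow p G) (hN : Cfsg.HasNormalPComplement p ↥(Subgroup.normalizer (((Cfsg.stableNormalClosure p ↥(S : Subgroup G)).map (S : Subgroup G).subtype) : Set G))) : Cfsg.HasNormalPComplement p G := by
  refine KInf.hasNormalPComplement_of_minimal isCharPFunctor_stable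
    (fun Y _ _ _ hc _ hab T _ _ hn => hn ?_) S hN
  exact Thompson.stableNormalClosure_map_normal_of_actionPStable
    (Fusion.isActionPStable_of_abTop hab hp) hc T

end Cfsg.Agent.S0628
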