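import Cfsg.Statements.S0629
import Cfsg.Agent.Layer.PConstraint

set_option autoImplicit false
open Cfsg

namespace Cfsg.Agent.S0629

/-- A group in which the centralizer of a Sylow p-subgroup of O_{p',p}(G) is p-solvable is p-constrained. -/
theorem result {G : Type*} [Group G] [Finite G] {p : ℕ} [Fact p.Prime] (P : Sylow p ↥(Cfsg.pPrimePCore p G)) (hsol : Cfsg.IsPSolvable p ↥(Subgroup.centralizer (((P : Subgroup ↥(Cfsg.pPrimePCore p G)).map (Cfsg.pPrimePCore p G).subtype : Subgroup G) : Set G))) : Cfsg.IsPConstrained p G := by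
  rw [Layer.isPConstrained_iff_selfCentral]
  set f := QuotientGroup.mk' (pPrimeCore p G) with hf
  have hfs := QuotientGroup.mk'_surjective (pPrimeCore p G)
  set P' := (P : Subgroup ↥(pPrimePCore p G)).map (pPrimePCore p G).subtype with hP'
  have hker : (Nat.card f.ker).Coprime p := by
    rw [hf, QuotientGroup.ker_mk']
    exact Core.coprime_card_pPrimeCore
  have himg : P'.map f = pCore p (G ⧸ pPrimeCore p G) := by
    have hsurj : Function.Surjective (f.subgroupComap (pCore p (G ⧸ pPrimeCore p G))) :=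
      MonoidHom.subgroupComap_surjective_of_surjective f _ hfs
    have h : (P.mapSurjective hsurj : Subgroup ↥(pCore p (G ⧸ pPrimeCore p G))) = ⊤ :=
      ((P.mapSurjective hsurj).is_maximal' (Core.pCore_isPGroup.to_subgroup ⊤) le_top).symm
    apply le_antisymm
    · rintro _ ⟨_, ⟨x, _, rfl⟩, rfl⟩
      exact x.2
    · intro y hy
      have hy' : (⟨y, hy⟩ : ↥(pCore p (G ⧸ pPrimeCore p G))) ∈
          (P.mapSurjective hsurj : Subgroup _) := h ▸ Subgroup.mem_top _
      obtain ⟨x, hx, hxy⟩ := hy'
      exact ⟨x, ⟨x, hx, rfl⟩, congrArg Subtype.val hxy⟩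
  set C := Subgroup.centralizer (pCore p (G ⧸ pPrimeCore p G) : Set (G ⧸ pPrimeCore p G)) with hC
  have hCmap : (Subgroup.centralizer (P' : Set G)).map f = C := by
    rw [Layer.map_centralizer_of_coprime hfs hker (P.isPGroup'.map _), himg]
  have hCsol : Cfsg.IsPSolvable p C := by
    rw [← hCmap]
    exact Layer.isPSolvable_of_surjective hsol (f.subgroupMap_surjective _)
  have hCO : pPrimeCore p C = ⊥ := by
    have h1 := Core.map_pPrimeCore_normal (p := p) C
    rw [Core.pPrimeCore_quotient_eq_bot, bot_inf_eq] at h1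
    exact (Subgroup.map_eq_bot_iff_of_injective _ C.subtype_injective).mp h1
  have hself := Layer.pCoreSelfCentral_of_isPSolvable hCsol hCO
  intro x hx
  have hxcen : (⟨x, hx⟩ : C) ∈ Subgroup.centralizer (pCore p C : Set C) := by
    rw [Subgroup.mem_centralizer_iff]
    intro y hy
    have hyO : (y : G ⧸ pPrimeCore p G) ∈ pCore p (G ⧸ pPrimeCore p G) :=
      ((Core.map_pCore_normal C).le ⟨y, hy, rfl⟩).1
    exact Subtype.ext (Subgroup.mem_centralizer_iff.mp hx y hyO)
  exact ((Core.map_pCore_normal C).le ⟨_, hself hxcen, rfl⟩).1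

end Cfsg.Agent.S0629
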