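import Cfsg.Statements.S0632
import Cfsg.Agent.Fusion.ZJConstrained
import Cfsg.Agent.Core.PCore
import Cfsg.Agent.Layer.PConstraint

set_option autoImplicit false
open Cfsg

namespace Cfsg.Agent.S0632

open Subgroup in
open scoped commutatorElement in
/-- `p`-stability passes to the quotient by the `p'`-core. -/
theorem quotient_isPStable {G : Type*} [Group G] [Finite G] {p : ℕ} [Fact p.Prime] (hs : Cfsg.IsPStable p G) :
    Cfsg.IsPStable p (G ⧸ Cfsg.pPrimeCore p G) := by
  set N := Cfsg.pPrimeCore p G with hN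
  set f := QuotientGroup.mk' N with hf
  refine ⟨hs.1, fun hbot => ?_, fun A P hA hP hAP hPle hPn hq => ?_⟩
  · have hn : (Cfsg.pCore p G).map f = ⊥ :=
      le_bot_iff.mp ((Core.map_pCore_le_of_surjective (QuotientGroup.mk'_surjective N)).trans hbot.le)
    rw [Subgroup.map_eq_bot_iff, hf, QuotientGroup.ker_mk'] at hn
    exact hs.2.1 (by rw [← inf_eq_left.mpr hn, OddLocal.inf_pPrimeCore_eq_bot Core.pCore_isPGroup])
  rw [Core.pPrimeCore_quotient_eq_bot, bot_sup_eq] at hPn
  haveI := hPn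
  set C := centralizer (P : Set (G ⧸ N))
  intro y hy
  obtain ⟨a, ha, rfl⟩ := hy
  obtain ⟨S⟩ : Nonempty (Sylow p (G ⧸ N)) := inferInstance
  have hza : zpowers (a : G ⧸ N) ≤ A := zpowers_le.mpr ha
  have h := Fusion.pStableNormal_quotient hs P hPn hP a (hA.to_le hza)
    (le_bot_iff.mp ((commutator_mono (commutator_mono le_rfl hza) hza).trans hq.le)) S
  have hmem : QuotientGroup.mk' C (a : G ⧸ N) ∈ Cfsg.pCore p ((G ⧸ N) ⧸ C) := by
    set U := normalCore ((S : Subgroup (G ⧸ N)) ⊔ C)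
    haveI : (U.map (QuotientGroup.mk' C)).Normal :=
      (normalCore_normal _).map _ (QuotientGroup.mk'_surjective C)
    refine Core.le_pCore ?_ (mem_map_of_mem _ h)
    refine (S.2.map (QuotientGroup.mk' C)).to_le ((map_mono (normalCore_le _)).trans (le_of_eq ?_))
    rw [Subgroup.map_sup, (Subgroup.map_eq_bot_iff C).mpr (QuotientGroup.ker_mk' C).ge, sup_bot_eq]
  have htop : normalizer (P : Set (G ⧸ N)) = ⊤ := normalizer_eq_top_iff.mpr hPn
  let e : (G ⧸ N) →* normalizer (P : Set (G ⧸ N)) :=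
    MonoidHom.codRestrict (MonoidHom.id _) _ fun x => htop.ge (mem_top x)
  let h2 : (G ⧸ N) ⧸ C →* (normalizer (P : Set (G ⧸ N))) ⧸ C.subgroupOf (normalizer (P : Set (G ⧸ N))) :=
    QuotientGroup.map C _ e fun x hx => hx
  have hsurj : Function.Surjective h2 := by
    intro z
    obtain ⟨⟨x, hx⟩, rfl⟩ := QuotientGroup.mk'_surjective _ z
    exact ⟨QuotientGroup.mk' C x, rfl⟩
  exact Core.map_pCore_le_of_surjective hsurj ⟨_, hmem, rfl⟩

open Subgroup in
open scoped commutatorElement in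
/-- `p`-stability lifts from the quotient by the `p'`-core. -/
theorem of_quotient {G : Type*} [Group G] [Finite G] {p : ℕ} [Fact p.Prime] (hO : Cfsg.pCore p G ≠ ⊥)
    (hs : Cfsg.IsPStable p (G ⧸ Cfsg.pPrimeCore p G)) : Cfsg.IsPStable p G := by
  set N := Cfsg.pPrimeCore p G with hN
  set f := QuotientGroup.mk' N with hf
  have hfs : Function.Surjective f := QuotientGroup.mk'_surjective N
  have hker : (Nat.card f.ker).Coprime p := by
    rw [hf, QuotientGroup.ker_mk']; exact Core.coprime_card_pPrimeCore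
  refine ⟨hs.1, hO, fun A P hA hP hAP hPle hPn hq => ?_⟩
  have hPf : (N ⊔ P).map f = P.map f := by
    rw [Subgroup.map_sup, (Subgroup.map_eq_bot_iff N).mpr (by rw [hf, QuotientGroup.ker_mk']), bot_sup_eq]
  have hPle' : P.map f ≤ Cfsg.pPrimePCore p (G ⧸ N) := by
    rintro _ ⟨x, hx, rfl⟩
    exact Core.map_pCore_le_of_surjective (QuotientGroup.mk'_surjective _) ⟨f x, hPle hx, rfl⟩
  have hPn' : (Cfsg.pPrimeCore p (G ⧸ N) ⊔ P.map f).Normal := by
    rw [Core.pPrimeCore_quotient_eq_bot, bot_sup_eq, ← hPf]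
    exact hPn.map f hfs
  have hq' : ⁅⁅P.map f, A.map f⁆, A.map f⁆ = ⊥ := by
    rw [← map_commutator, ← map_commutator, hq, Subgroup.map_bot]
  have hAP' : ∀ a ∈ A.map f, ∀ x ∈ P.map f, a * x * a⁻¹ ∈ P.map f := by
    rintro _ ⟨a, ha, rfl⟩ _ ⟨x, hx, rfl⟩
    exact ⟨a * x * a⁻¹, hAP a ha x hx, by simp⟩
  have h := hs.2.2 (A.map f) (P.map f) (hA.map f) (hP.map f) hAP' hPle' hPn' hq'
  set M := normalizer (P : Set G)
  set M' := normalizer ((P.map f : Subgroup (G ⧸ N)) : Set (G ⧸ N))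
  set C := (centralizer (P : Set G)).subgroupOf M
  set C' := (centralizer ((P.map f : Subgroup (G ⧸ N)) : Set (G ⧸ N))).subgroupOf M'
  have hMM' : ∀ x : M, f x ∈ M' := fun x =>
    (Layer.map_normalizer_of_coprime hfs hker hP).le (mem_map_of_mem f x.2)
  let φ : M →* M' := MonoidHom.codRestrict (f.comp M.subtype) _ hMM'
  have hC : C ≤ C'.comap φ := fun x hx => by
    show f x ∈ centralizer _
    exact (Layer.map_centralizer_of_coprime hfs hker hP).le (mem_map_of_mem f hx)
  let g : M ⧸ C →* M' ⧸ C' := QuotientGroup.map C C' φ hC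
  have hsurj : Function.Surjective g := by
    intro z
    obtain ⟨⟨x, hx⟩, rfl⟩ := QuotientGroup.mk'_surjective _ z
    obtain ⟨y, hy, hyx⟩ := (Layer.map_normalizer_of_coprime hfs hker hP).ge hx
    exact ⟨QuotientGroup.mk' C ⟨y, hy⟩, congrArg (QuotientGroup.mk' C') (Subtype.ext hyx)⟩
  have hinj : Function.Injective g := by
    refine (injective_iff_map_eq_one g).mpr fun z hz => ?_
    obtain ⟨x, rfl⟩ := QuotientGroup.mk'_surjective _ z
    refine (QuotientGroup.eq_one_iff x).mpr ?_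
    have hx : f x ∈ centralizer ((P.map f : Subgroup (G ⧸ N)) : Set (G ⧸ N)) :=
      (QuotientGroup.eq_one_iff (φ x)).mp hz
    show (x : G) ∈ centralizer (P : Set G)
    refine mem_centralizer_iff.mpr fun y hy => ?_
    rw [← commutatorElement_eq_one_iff_mul_comm, ← mem_bot,
      ← OddLocal.inf_pPrimeCore_eq_bot (p := p) hP]
    refine ⟨?_, ?_⟩
    · rw [commutatorElement_def, mul_assoc y, mul_assoc y]
      exact P.mul_mem hy ((mem_normalizer_iff.mp x.2 y⁻¹).mp (P.inv_mem hy))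
    · refine (QuotientGroup.eq_one_iff _).mp ?_
      show f ⁅y, (x : G)⁆ = 1
      rw [map_commutatorElement, commutatorElement_eq_one_iff_mul_comm]
      exact mem_centralizer_iff.mp hx (f y) (mem_map_of_mem f hy)
  intro z hz
  obtain ⟨a, ha, rfl⟩ := hz
  have h1 : g (QuotientGroup.mk' C a) ∈ Cfsg.pCore p (M' ⧸ C') :=
    h ⟨φ a, mem_map_of_mem f ha, rfl⟩
  have h2 := Core.map_pCore (p := p) (MulEquiv.ofBijective g ⟨hinj, hsurj⟩)
  rw [← h2] at h1
  obtain ⟨w, hw, hwe⟩ := h1
  exact (hinj hwe : w = _) ▸ hw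

/-- For a group with a nontrivial normal p-subgroup, p-stability passes to and from the quotient by the largest normal subgroup of order prime to p. -/
theorem result {G : Type*} [Group G] [Finite G] {p : ℕ} [Fact p.Prime] (hO : Cfsg.pCore p G ≠ ⊥) : Cfsg.IsPStable p G ↔ Cfsg.IsPStable p (G ⧸ Cfsg.pPrimeCore p G) := by
  exact ⟨quotient_isPStable, of_quotient hO⟩

end Cfsg.Agent.S0632
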