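import Cfsg.Statements.S0633
import Cfsg.Agent.HallHigman.Linear

set_option autoImplicit false
open Cfsg

namespace Cfsg.Agent.S0633

/-- Theorem B of Hall and Higman on the minimal polynomial of a p-element of order p^n in a p-solvable linear group on a nonzero vector space in characteristic p with no nontrivial normal p-subgroup: its degree is p^n, except when some p^n₀ - 1 (n₀ ≤ n) is a power of a prime q for which the Sylow q-subgroups are non-abelian, in which case the degree is at least p^(n-n₀)(p^n₀ - 1). -/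
theorem result {F : Type*} [Field F] {p : ℕ} [Fact p.Prime] [CharP F p] {V : Type*} [AddCommGroup V] [Module F V] [FiniteDimensional F V] [Nontrivial V] (H : Subgroup (V ≃ₗ[F] V)) [Finite H] (hsol : Cfsg.IsPSolvable p H) (hOp : Cfsg.pCore p H = ⊥) (x : V ≃ₗ[F] V) (hx : x ∈ H) (n : ℕ) (hn : orderOf x = p ^ n) (r : ℕ) (hr : minpoly F (x : Module.End F V) = (Polynomial.X - 1) ^ r) : r = p ^ n ∨ ∃ n₀ q m : ℕ, 1 ≤ n₀ ∧ n₀ ≤ n ∧ q.Prime ∧ 1 ≤ m ∧ p ^ n₀ - 1 = q ^ m ∧ (∀ Q : Sylow q H, ¬ IsMulCommutative Q) ∧ p ^ (n - n₀) * (p ^ n₀ - 1) ≤ r := by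
  classical
  let ρ : H →* Module.End F V :=
    { toFun := fun h => ((h : V ≃ₗ[F] V) : V →ₗ[F] V)
      map_one' := rfl
      map_mul' := fun _ _ => rfl }
  have hinj : Function.Injective ρ := fun a b h => Subtype.ext (LinearEquiv.toLinearMap_injective h)
  set xh : H := ⟨x, hx⟩
  have hordh : orderOf xh = p ^ n := by rw [← hn, ← Subgroup.orderOf_coe]
  set T : Module.End F V := (x : Module.End F V) with hT
  have hs : (ρ xh - 1) ^ r = 0 := by
    have h := minpoly.aeval F T
    rw [hr] at h
    show (T - 1) ^ r = 0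
    simpa using h
  have hint := Algebra.IsIntegral.isIntegral (R := F) T
  have hXC : (Polynomial.X - 1 : Polynomial F).natDegree = 1 := by
    rw [← map_one Polynomial.C]; exact Polynomial.natDegree_X_sub_C 1
  have hrle : r ≤ p ^ n := by
    haveI : CharP (Polynomial F) p := inferInstance
    have hd : minpoly F T ∣ Polynomial.X ^ p ^ n - 1 := minpoly.dvd _ _ (by
      have h1 : T ^ p ^ n = 1 := by
        have h2 := congrArg ρ (pow_orderOf_eq_one xh)
        rw [map_pow, map_one, hordh] at h2
        exact h2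
      simp [h1])
    have hne : (Polynomial.X ^ p ^ n - 1 : Polynomial F) ≠ 0 := by
      rw [← map_one Polynomial.C]
      exact Polynomial.X_pow_sub_C_ne_zero (pow_pos (Fact.out (p := p.Prime)).pos n) 1
    have h3 := Polynomial.natDegree_le_of_dvd hd hne
    rw [hr, Polynomial.natDegree_pow, hXC, mul_one, ← map_one Polynomial.C,
      Polynomial.natDegree_X_pow_sub_C] at h3
    exact h3
  rcases Nat.eq_zero_or_pos n with rfl | hn1
  · left
    have hpos := minpoly.natDegree_pos hint
    rw [hr, Polynomial.natDegree_pow, hXC, mul_one] at hpos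
    rw [pow_zero] at hrle ⊢
    omega
  · rcases Cfsg.Agent.HallHigman.theoremB hsol hOp ρ hinj hn1 hordh hs with h | h
    · exact Or.inl (le_antisymm hrle h)
    · exact Or.inr h

end Cfsg.Agent.S0633
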