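import Cfsg.Statements.S0634
import Cfsg.Agent.Layer.PConstraint

set_option autoImplicit false
open Cfsg

namespace Cfsg.Agent.S0634

/-- In a p-soluble group each p-factor of the upper p-series contains its own centralizer in the corresponding quotient. -/
theorem result {G : Type*} [Group G] [Finite G] {p : ℕ} [Fact p.Prime] (hsol : Cfsg.IsPSolvable p G) (k : ℕ) : Subgroup.centralizer ((((Cfsg.upperPSeries p G (2 * k + 2)).1.map (QuotientGroup.mk' (Cfsg.upperPSeries p G (2 * k + 1)).1)) : Subgroup (G ⧸ (Cfsg.upperPSeries p G (2 * k + 1)).1)) : Set (G ⧸ (Cfsg.upperPSeries p G (2 * k + 1)).1)) ≤ (Cfsg.upperPSeries p G (2 * k + 2)).1.map (QuotientGroup.mk' (Cfsg.upperPSeries p G (2 * k + 1)).1) := by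
  set U := upperPSeries p G (2 * k + 1) with hU
  have hfs := QuotientGroup.mk'_surjective U.1
  have hU1 : U.1 = (pPrimeCore p (G ⧸ (upperPSeries p G (2 * k)).1)).comap (QuotientGroup.mk' _) := by
    rw [hU, upperPSeries]
    simp
  have hU2 : (upperPSeries p G (2 * k + 2)).1 = (pCore p (G ⧸ U.1)).comap (QuotientGroup.mk' _) := by
    rw [upperPSeries, if_neg (by simp)]
  rw [hU2, Subgroup.map_comap_eq_self_of_surjective hfs]
  refine Layer.pCoreSelfCentral_of_isPSolvable (Layer.isPSolvable_of_surjective hsol hfs) ?_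
  rw [eq_bot_iff]
  set V := (upperPSeries p G (2 * k)).1 with hV
  set K := (pPrimeCore p (G ⧸ U.1)).comap (QuotientGroup.mk' U.1) with hK
  have hVU : V ≤ U.1 := by
    rw [hU1]
    exact (QuotientGroup.ker_mk' V).ge.trans (Subgroup.comap_mono bot_le)
  have hUK : U.1 ≤ K := (QuotientGroup.ker_mk' U.1).ge.trans (Subgroup.comap_mono bot_le)
  have : K.Normal := Subgroup.Normal.comap inferInstance _
  have e2 : Nat.card (K.map (QuotientGroup.mk' V)) = V.relIndex U.1 * U.1.relIndex K := by
    rw [Subgroup.relIndex_mul_relIndex V U.1 K hVU hUK, ← Subgroup.relIndex_ker,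
      QuotientGroup.ker_mk']
  have e3 : V.relIndex U.1 = Nat.card (pPrimeCore p (G ⧸ V)) := by
    have h := Subgroup.relIndex_ker (QuotientGroup.mk' V) (K := U.1)
    rw [QuotientGroup.ker_mk'] at h
    rw [h, hU1, Subgroup.map_comap_eq_self_of_surjective (QuotientGroup.mk'_surjective _)]
  have e4 : U.1.relIndex K = Nat.card (pPrimeCore p (G ⧸ U.1)) := by
    have h := Subgroup.relIndex_ker (QuotientGroup.mk' U.1) (K := K)
    rw [QuotientGroup.ker_mk'] at h
    rw [h, hK, Subgroup.map_comap_eq_self_of_surjective hfs]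
  have : (K.map (QuotientGroup.mk' V)).Normal :=
    Subgroup.Normal.map inferInstance _ (QuotientGroup.mk'_surjective V)
  have hcop : (Nat.card (K.map (QuotientGroup.mk' V))).Coprime p := by
    rw [e2, e3, e4]
    exact Core.coprime_card_pPrimeCore.mul_left Core.coprime_card_pPrimeCore
  have hKU : K ≤ U.1 := by
    rw [hU1, ← Subgroup.map_le_iff_le_comap]
    exact Core.le_pPrimeCore hcop
  intro y hy
  obtain ⟨x, rfl⟩ := hfs y
  exact Subgroup.mem_bot.mpr ((QuotientGroup.eq_one_iff x).mpr (hKU hy))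

end Cfsg.Agent.S0634
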