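import Cfsg.Statements.S0635
import Cfsg.Agent.PLength.Basic
import Cfsg.Agent.Layer.PConstraint
import Cfsg.Agent.Core.PCore

set_option autoImplicit false
open Cfsg

namespace Cfsg.Agent.S0635

universe u

open Subgroup in
/-- The bound on the `p`-length, by induction on the class. -/
theorem pLengthLE_of_class {p : ℕ} [Fact p.Prime] : ∀ (c : ℕ) (G : Type u) [Group G] [Finite G],
    Cfsg.IsPSolvable p G → ∀ S : Sylow p G, Group.nilpotencyClass (S : Subgroup G) ≤ c →
      Cfsg.PLengthLE p c G := by
  intro c
  induction c with
  | zero =>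
    intro G _ _ _ S hS
    haveI : Group.IsNilpotent (S : Subgroup G) := S.2.isNilpotent
    haveI := Group.nilpotencyClass_zero_iff_subsingleton.mp (Nat.le_zero.mp hS)
    refine PLength.pLengthLE_zero_of_coprime (Nat.Coprime.symm ((Fact.out : p.Prime).coprime_iff_not_dvd.mpr ?_))
    have h := (S : Subgroup G).card_mul_index
    rw [Nat.card_of_subsingleton (1 : (S : Subgroup G)), one_mul] at h
    rw [← h]
    exact S.not_dvd_index
  | succ c ih =>
    intro G _ _ hG S hS
    set N := Cfsg.pPrimeCore p G
    set f := QuotientGroup.mk' N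
    have hfs : Function.Surjective f := QuotientGroup.mk'_surjective N
    rw [show c + 1 = 0 + (c + 1) from (Nat.zero_add _).symm]
    refine PLength.of_extension N (PLength.pLengthLE_zero_of_coprime Core.coprime_card_pPrimeCore) ?_
    -- now the `p'`-core is trivial
    set H := G ⧸ N
    set T := S.mapSurjective hfs
    have hHsol : Cfsg.IsPSolvable p H := Layer.isPSolvable_of_surjective hG hfs
    have hC : centralizer (Cfsg.pCore p H : Set H) ≤ Cfsg.pCore p H :=
      Layer.pCoreSelfCentral_of_isPSolvable hHsol Core.pPrimeCore_quotient_eq_bot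
    set P := Cfsg.pCore p H
    set g := QuotientGroup.mk' P
    have hgs : Function.Surjective g := QuotientGroup.mk'_surjective P
    rw [show c + 1 = 1 + c from Nat.add_comm c 1]
    refine PLength.of_extension P (PLength.pLengthLE_one_of_isPGroup Core.pCore_isPGroup) ?_
    refine ih (H ⧸ P) (Layer.isPSolvable_of_surjective hHsol hgs) (T.mapSurjective hgs) ?_
    haveI : Group.IsNilpotent (S : Subgroup G) := S.2.isNilpotent
    haveI : Group.IsNilpotent (T : Subgroup H) := T.2.isNilpotent
    -- the centre of a Sylow subgroup lies in the `p`-core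
    have hker : center (T : Subgroup H) ≤ (g.subgroupMap (T : Subgroup H)).ker := by
      intro z hz
      refine Subtype.ext ((QuotientGroup.eq_one_iff _).mpr (hC (mem_centralizer_iff.mpr fun y hy => ?_)))
      exact congrArg Subtype.val (mem_center_iff.mp hz ⟨y, Core.pCore_le_sylow T hy⟩)
    let φ := QuotientGroup.lift (center (T : Subgroup H)) (g.subgroupMap (T : Subgroup H)) hker
    have hφ : Function.Surjective φ := fun y => by
      obtain ⟨x, hx⟩ := g.subgroupMap_surjective _ y
      exact ⟨QuotientGroup.mk' _ x, hx⟩
    refine (Group.nilpotencyClass_le_of_surjective φ hφ).trans ?_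
    rw [Group.nilpotencyClass_quotient_center]
    have h1 : Group.nilpotencyClass (T : Subgroup H) ≤ c + 1 :=
      (Group.nilpotencyClass_le_of_surjective (f.subgroupMap (S : Subgroup G))
        (f.subgroupMap_surjective _)).trans hS
    omega

/-- The p-length of a p-soluble group is at most the nilpotency class of its Sylow p-subgroups. -/
theorem result {G : Type*} [Group G] [Finite G] {p : ℕ} [Fact p.Prime] (hsol : Cfsg.IsPSolvable p G) (S : Sylow p G) : Cfsg.PLengthLE p (Group.nilpotencyClass ↥(S : Subgroup G)) G := by
  exact pLengthLE_of_class _ G hsol S le_rfl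

end Cfsg.Agent.S0635
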