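import Cfsg.Statements.S0636
import Cfsg.Agent.Fusion.RankTwo
import Cfsg.Agent.Fusion.UniqueInvolution

set_option autoImplicit false
open Cfsg

namespace Cfsg.Agent.S0636

open Subgroup in
/-- A normal non-cyclic subgroup has a normal subgroup of exponent `p` and order at least `p ^ 2`. -/
theorem exists_exp_p {G : Type*} [Group G] [Finite G] {p : ℕ} [Fact p.Prime] (hp : p ≠ 2) (hG : IsPGroup p G)
    (S : Subgroup G) [S.Normal] (hS : ¬ IsCyclic S) :
    ∃ K : Subgroup G, K ≤ S ∧ K.Normal ∧ (∀ a ∈ K, a ^ p = 1) ∧ p ^ 2 ≤ Nat.card K := by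
  have hpp : p.Prime := Fact.out
  obtain ⟨A, ⟨hAS, hAn, hAc⟩, hmax⟩ := Set.Finite.exists_maximal
    (Set.toFinite {B : Subgroup G | B ≤ S ∧ B.Normal ∧ IsMulCommutative B})
    ⟨⊥, bot_le, inferInstance, inferInstance⟩
  haveI := hAn
  by_cases hcyc : IsCyclic A
  · have hlt : A < S := lt_of_le_of_ne hAS fun e => hS (e ▸ hcyc)
    obtain ⟨L, hLn, hAL, hLS, hLc, -⟩ := Fusion.exists_normal_card_succ hG A S hlt
    have hi : (A.subgroupOf L).index = p := by
      have := card_mul_index (A.subgroupOf L)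
      rw [Nat.card_congr (subgroupOfEquivOfLe hAL).toEquiv, hLc, mul_comm p] at this
      exact Nat.eq_of_mul_eq_mul_left Nat.card_pos this
    have hLnc : ¬ IsCyclic L := fun hc => by
      have hLA : L = A := le_antisymm (hmax ⟨hLS, hLn, IsCyclic.isMulCommutative⟩ hAL) hAL
      rw [hLA] at hLc
      exact Nat.ne_of_lt (lt_mul_of_one_lt_left Nat.card_pos hpp.one_lt) hLc
    have hAcyc : IsCyclic (A.subgroupOf L) :=
      isCyclic_of_surjective (subgroupOfEquivOfLe hAL).symm.toMonoidHom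
        (subgroupOfEquivOfLe hAL).symm.surjective
    obtain ⟨K, hK, -, hKc⟩ :=
      Fusion.omega_of_cyclic_index_prime hp (hG.to_subgroup L) hLnc _ hAcyc hi
    refine ⟨K.map L.subtype, (Subgroup.map_subtype_le K).trans hLS, ⟨?_⟩, ?_, ?_⟩
    · rintro _ ⟨y, hy, rfl⟩ g
      refine ⟨⟨g * y * g⁻¹, hLn.conj_mem _ y.2 g⟩, ?_, rfl⟩
      refine (hK _).mpr (Subtype.ext ?_)
      show (g * (y : G) * g⁻¹) ^ p = 1
      rw [conj_pow, show (y : G) ^ p = 1 from congrArg (fun z : L => (z : G)) ((hK y).mp hy),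
        mul_one, mul_inv_cancel]
    · rintro _ ⟨y, hy, rfl⟩
      exact congrArg (fun z : L => (z : G)) ((hK y).mp hy)
    · rw [card_map_of_injective L.subtype_injective, hKc]
  · let K : Subgroup G :=
      { carrier := {x | x ∈ A ∧ x ^ p = 1}
        one_mem' := ⟨A.one_mem, one_pow p⟩
        mul_mem' := fun {x y} hx hy => ⟨A.mul_mem hx.1 hy.1, by
          have hxy : Commute x y := congrArg Subtype.val (hAc.is_comm.comm (⟨x, hx.1⟩ : A) ⟨y, hy.1⟩)
          rw [hxy.mul_pow, hx.2, hy.2, mul_one]⟩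
        inv_mem' := fun {x} hx => ⟨A.inv_mem hx.1, by rw [inv_pow, hx.2, inv_one]⟩ }
    refine ⟨K, fun x hx => hAS hx.1, ⟨fun x hx g => ⟨hAn.conj_mem x hx.1 g, ?_⟩⟩, fun x hx => hx.2, ?_⟩
    · rw [conj_pow, hx.2, mul_one, mul_inv_cancel]
    · by_contra hlt
      refine hcyc (Fusion.isCyclic_of_unique (p := p) (hG.to_subgroup A) hAc fun u hu v hv hov hup => ?_)
      have hvK : zpowers v ≤ K := zpowers_le.mpr ⟨hv, by rw [← hov]; exact pow_orderOf_eq_one v⟩
      obtain ⟨k, hk⟩ := IsPGroup.iff_card.mp (hG.to_subgroup K)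
      have hk1 : k ≤ 1 := by
        by_contra hk1
        exact hlt (hk ▸ Nat.pow_le_pow_right hpp.pos (not_le.1 hk1))
      have he : zpowers v = K := eq_of_le_of_card_ge hvK (by
        rw [Nat.card_zpowers, hov, hk]
        exact (Nat.pow_le_pow_right hpp.pos hk1).trans (pow_one p).le)
      rw [he]
      exact ⟨hu, hup⟩

/-- For odd p, every non-cyclic normal subgroup of a p-group contains a normal elementary abelian subgroup of the whole group of order p². -/
theorem result {R : Type*} [Group R] [Finite R] {p : ℕ} [Fact p.Prime] (hp : p ≠ 2) (hR : IsPGroup p R) (S : Subgroup R) [S.Normal] (hS : ¬ IsCyclic S) : ∃ A : Subgroup R, A ≤ S ∧ A.Normal ∧ Cfsg.IsElementaryAbelian p A ∧ Nat.card A = p ^ 2 := by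
  obtain ⟨K, hKS, hKn, hKp, hK⟩ := exists_exp_p hp hR S hS
  haveI := hKn
  obtain ⟨A, hA, hAK, hAc⟩ := Fusion.exists_normal_le_card_eq hR K hK
  exact ⟨A, hAK.trans hKS, hA, ⟨IsPGroup.isMulCommutative_of_card_eq_prime_sq hAc,
    fun a ha => hKp a (hAK ha)⟩, hAc⟩

end Cfsg.Agent.S0636
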