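import Cfsg.Statements.S0637
import Cfsg.Agent.S0128
import Cfsg.Agent.S4209
import Cfsg.Agent.Regular.Basic
import Cfsg.Agent.Fusion.PGroup

set_option autoImplicit false
open Cfsg

namespace Cfsg.Agent.S0637

open Subgroup in
/-- A regular subgroup whose `p`-th powers lie in a subgroup of order `p`. -/
theorem card_le_of_pow_mem {R : Type*} [Group R] [Finite R] {p : ℕ} [Fact p.Prime]
    (hO : Nat.card ↥(Cfsg.omegaOne p (⊤ : Subgroup R)) ≤ p ^ 2) {T : Subgroup R} (hT : Nat.card T = p)
    (X : Subgroup R) (hX : Cfsg.IsRegularPGroup p X) (hpow : ∀ x ∈ X, x ^ p ∈ T) : Nat.card X ≤ p ^ 3 := by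
  classical
  let P : X → T := fun x => ⟨(x : R) ^ p, hpow x x.2⟩
  let r : T → X := Function.invFun P
  have hmem : ∀ x : X, (x : R) * ((r (P x) : X) : R)⁻¹ ∈ Cfsg.omegaOne p (⊤ : Subgroup R) := by
    intro x
    have h : P (r (P x)) = P x := Function.invFun_eq ⟨x, rfl⟩
    have h' : x ^ p ^ 1 = (r (P x)) ^ p ^ 1 := by
      rw [pow_one]
      exact Subtype.ext (by rw [SubmonoidClass.coe_pow, SubmonoidClass.coe_pow]; exact (congrArg Subtype.val h).symm)
    have h2 := (Regular.pow_eq_pow_iff hX 1 x (r (P x))).1 h'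
    rw [pow_one] at h2
    exact Subgroup.subset_closure ⟨Subgroup.mem_top _, congrArg Subtype.val h2⟩
  let f : X → T × (Cfsg.omegaOne p (⊤ : Subgroup R) : Subgroup R) := fun x => (P x, ⟨_, hmem x⟩)
  have hf : Function.Injective f := fun x y h => by
    have h1 : P x = P y := congrArg Prod.fst h
    have h2 : (x : R) * ((r (P x) : X) : R)⁻¹ = (y : R) * ((r (P y) : X) : R)⁻¹ :=
      congrArg Subtype.val (congrArg Prod.snd h)
    rw [h1] at h2
    exact Subtype.ext (mul_right_cancel h2)
  refine (Nat.card_le_card_of_injective f hf).trans ?_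
  rw [Nat.card_prod, hT, pow_succ']
  exact Nat.mul_le_mul_left p hO

open Subgroup in
/-- The case of a normal subgroup of order `p`. -/
theorem omega_le_of_card_prime {R : Type*} [Group R] [Finite R] {p : ℕ} [Fact p.Prime] (hp : 3 < p)
    (hR : IsPGroup p R) (hO : Nat.card ↥(Cfsg.omegaOne p (⊤ : Subgroup R)) ≤ p ^ 2) {S : Type*} [Group S] [Finite S]
    (f : R →* S) (hf : Function.Surjective f) (hker : Nat.card f.ker = p) :
    Nat.card ↥(Cfsg.omegaOne p (⊤ : Subgroup S)) ≤ p ^ 2 := by
  classical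
  have hp' := (Fact.out : p.Prime)
  have hS : IsPGroup p S := hR.of_surjective f hf
  have hpre : ∀ Y : Subgroup S, Nat.card (Y.comap f) = p * Nat.card Y := by
    intro Y
    have h1 := (Y.comap f).card_mul_index
    rw [index_comap_of_surjective _ hf] at h1
    have h2 := Y.card_mul_index
    have h3 := f.ker.card_mul_index
    rw [index_ker, MonoidHom.range_eq_top.2 hf, card_top, hker, ← h2, ← h1, ← mul_assoc] at h3
    exact (Nat.eq_of_mul_eq_mul_right (Nat.pos_of_ne_zero index_ne_zero_of_finite) h3).symm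
  -- exponent `p` subgroups of the image are small when their preimages are regular
  have hbound : ∀ Y : Subgroup S, (∀ y ∈ Y, y ^ p = 1) →
      (⊤ : Subgroup (Y.comap f)).lowerCentralSeries (p - 1) = ⊥ → Nat.card Y ≤ p ^ 2 := by
    intro Y hY hcl
    have hreg := S4209.result (hR.to_subgroup (Y.comap f)) hcl
    have h := card_le_of_pow_mem hO hker (Y.comap f) hreg fun x hx => by
      rw [MonoidHom.mem_ker, map_pow]; exact hY _ hx
    rw [hpre, pow_succ'] at h
    exact Nat.le_of_mul_le_mul_left h hp'.pos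
  -- a preimage of an abelian subgroup has class at most two
  have hcl2 : ∀ Y : Subgroup S, IsMulCommutative Y → (⊤ : Subgroup (Y.comap f)).lowerCentralSeries (p - 1) = ⊥ := by
    intro Y hY
    refine le_bot_iff.1 (le_trans (Subgroup.lowerCentralSeries_antitone _ (show 2 ≤ p - 1 by omega)) ?_)
    rw [Subgroup.lowerCentralSeries_succ, commutator_le]
    intro u hu v _
    have hk : (u : R) ∈ f.ker := by
      rw [Subgroup.top_lowerCentralSeries_one, _root_.commutator_def] at hu
      have hle : ⁅(⊤ : Subgroup (Y.comap f)), (⊤ : Subgroup (Y.comap f))⁆ ≤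
          (f.comp (Y.comap f).subtype).ker := by
        rw [commutator_le]
        intro a _ b _
        rw [MonoidHom.mem_ker, map_commutatorElement, commutatorElement_eq_one_iff_mul_comm]
        exact congrArg Subtype.val (hY.is_comm.comm ⟨f a, a.2⟩ ⟨f b, b.2⟩)
      exact hle hu
    have hkn : f.ker.Normal := inferInstance
    have hc : (u : R) ∈ center R := Fusion.le_center_of_card_eq_prime hR f.ker hker hk
    rw [mem_bot, commutatorElement_eq_one_iff_mul_comm]
    exact Subtype.ext (mem_center_iff.1 hc v).symm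
  have hrk : ∀ E : Subgroup S, Cfsg.IsElementaryAbelian p E → Nat.card E ≤ p ^ 2 := fun E hE =>
    hbound E hE.2 (hcl2 E hE.1)
  set Y := Cfsg.omegaOne p (⊤ : Subgroup S) with hYdef
  have hY : ∀ y ∈ Y, y ^ p = 1 := fun y hy => S0128.result hp hS hrk y (by
    rw [hYdef, Cfsg.omegaOne] at hy
    exact Subgroup.closure_mono (fun z hz => hz.2) hy)
  have hY3 : Nat.card Y ≤ p ^ 3 := S0128.card_le_cube (hS.to_subgroup Y) (fun y => Subtype.ext (hY y y.2))
    fun A hA => by
      rw [← Nat.card_congr (A.equivMapOfInjective Y.subtype Y.subtype_injective).symm.toEquiv]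
      refine hrk _ ⟨⟨⟨?_⟩⟩, ?_⟩
      · rintro ⟨_, u, hu, rfl⟩ ⟨_, v, hv, rfl⟩
        exact Subtype.ext (congrArg (fun w : A => ((w : Y) : S)) (hA.is_comm.comm ⟨u, hu⟩ ⟨v, hv⟩))
      · rintro _ ⟨u, -, rfl⟩
        exact hY u u.2
  refine hbound Y hY ?_
  -- a group of order at most `p ^ 4` has class at most three
  have hXp := hR.to_subgroup (Y.comap f)
  have hX4 : Nat.card (Y.comap f) ≤ p ^ 4 := by
    rw [hpre, pow_succ']
    exact Nat.mul_le_mul_left p hY3
  refine le_bot_iff.1 (le_trans (Subgroup.lowerCentralSeries_antitone _ (show 3 ≤ p - 1 by omega)) ?_)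
  rw [le_bot_iff]
  by_contra h3
  set γ := (⊤ : Subgroup (Y.comap f)).lowerCentralSeries
  have hne : ∀ i ≤ 3, γ i ≠ ⊥ := fun i hi h => h3 (le_bot_iff.1
    ((Subgroup.lowerCentralSeries_antitone _ hi).trans h.le))
  have h1 : commutator (Y.comap f) ≠ ⊥ := fun h => hne 1 (by norm_num) (Subgroup.top_lowerCentralSeries_one.trans h)
  have hidx := Nat.le_of_dvd (Nat.pos_of_ne_zero index_ne_zero_of_finite) (MaxClass.sq_dvd_index_commutator hXp h1)
  have hc1 := (commutator (Y.comap f)).card_mul_index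
  have hg1 : Nat.card (γ 1) = Nat.card (commutator (Y.comap f)) := by
    rw [show γ 1 = commutator (Y.comap f) from Subgroup.top_lowerCentralSeries_one]
  have hγ1 : Nat.card (γ 1) * p ^ 2 ≤ p ^ 4 := by
    rw [hg1]
    exact ((Nat.mul_le_mul_left _ hidx).trans hc1.le).trans hX4
  have s1 := MaxClass.lcs_step hXp 1 (hne 1 (by norm_num))
  have s2 := MaxClass.lcs_step hXp 2 (hne 2 (by norm_num))
  have s3 := (one_lt_card_iff_ne_bot _).2 (hne 3 le_rfl)
  have hp3 : p ≤ Nat.card (γ 3) := (IsPGroup.card_eq_or_dvd (hXp.to_subgroup (γ 3))).elim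
    (fun h => absurd h (by omega)) (Nat.le_of_dvd Nat.card_pos)
  have h13 : p * (p * p) ≤ Nat.card (γ 1) :=
    ((Nat.mul_le_mul_left p (Nat.mul_le_mul_left p hp3)).trans (Nat.mul_le_mul_left p s2)).trans s1
  have := (Nat.mul_le_mul_right (p ^ 2) h13).trans hγ1
  rw [show p * (p * p) * p ^ 2 = p ^ 5 by ring] at this
  exact absurd ((Nat.pow_le_pow_iff_right hp'.one_lt).1 this) (by norm_num)

universe u v

open Subgroup in
theorem omega_le_of_surjective : ∀ (n : ℕ) {R : Type u} [Group R] [Finite R] {S : Type v} [Group S] [Finite S]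
    {p : ℕ} [Fact p.Prime] (_ : 3 < p) (_ : IsPGroup p R)
    (_ : Nat.card ↥(Cfsg.omegaOne p (⊤ : Subgroup R)) ≤ p ^ 2)
    (f : R →* S) (_ : Function.Surjective f) (_ : Nat.card f.ker ≤ n),
    Nat.card ↥(Cfsg.omegaOne p (⊤ : Subgroup S)) ≤ p ^ 2 := by
  intro n
  induction n with
  | zero =>
    intro R _ _ S _ _ p _ _ _ _ f _ hk
    have := Nat.card_pos (α := f.ker)
    omega
  | succ n ih =>
    intro R _ _ S _ _ p _ hp hR hO f hf hk
    by_cases hbot : f.ker = ⊥
    · let e := MulEquiv.ofBijective f ⟨(MonoidHom.ker_eq_bot_iff f).1 hbot, hf⟩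
      refine le_trans (le_of_eq ?_) hO
      have h : Cfsg.omegaOne p (⊤ : Subgroup S) = (Cfsg.omegaOne p (⊤ : Subgroup R)).map e.toMonoidHom := by
        rw [Cfsg.omegaOne, Cfsg.omegaOne, MonoidHom.map_closure]
        congr 1
        ext y
        constructor
        · rintro ⟨-, hy⟩
          exact ⟨e.symm y, ⟨mem_top _, by rw [← map_pow, hy, map_one]⟩, e.apply_symm_apply y⟩
        · rintro ⟨x, ⟨-, hx⟩, rfl⟩
          exact ⟨mem_top _, by rw [← map_pow, hx, map_one]⟩
      rw [h]
      exact (Nat.card_congr ((Cfsg.omegaOne p (⊤ : Subgroup R)).equivMapOfInjective _ e.injective).toEquiv).symm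
    obtain ⟨Z, hZT, -, hZn, hZp⟩ := Fusion.exists_central_card_prime hR f.ker hbot
    have := hZn
    have h1 := omega_le_of_card_prime hp hR hO (QuotientGroup.mk' Z) (QuotientGroup.mk'_surjective Z)
      (by rw [QuotientGroup.ker_mk']; exact hZp)
    refine ih hp (hR.to_quotient Z) h1 (QuotientGroup.lift Z f hZT) (QuotientGroup.lift_surjective_of_surjective Z f hf hZT) ?_
    have hcard : Nat.card (QuotientGroup.lift Z f hZT).ker * p = Nat.card f.ker := by
      have h2 := (QuotientGroup.lift Z f hZT).ker.card_mul_index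
      have h3 := f.ker.card_mul_index
      have h4 := Z.card_mul_index
      rw [index_ker, MonoidHom.range_eq_top.2 (QuotientGroup.lift_surjective_of_surjective Z f hf hZT), card_top] at h2
      rw [index_ker, MonoidHom.range_eq_top.2 hf, card_top] at h3
      rw [index_eq_card, hZp, ← h2, ← h3, ← mul_assoc, mul_comm p] at h4
      exact Nat.eq_of_mul_eq_mul_right Nat.card_pos h4
    have hlt : Nat.card (QuotientGroup.lift Z f hZT).ker < Nat.card f.ker := by
      rw [← hcard]
      exact (Nat.lt_mul_iff_one_lt_right Nat.card_pos).2 (Fact.out : p.Prime).one_lt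
    omega

/-- For p greater than 3, the bound p² on the order of the subgroup generated by the elements of order dividing p passes from a p-group to all its quotients. -/
theorem result {R : Type*} [Group R] [Finite R] {p : ℕ} [Fact p.Prime] (hp : 3 < p) (hR : IsPGroup p R) (hO : Nat.card ↥(Cfsg.omegaOne p (⊤ : Subgroup R)) ≤ p ^ 2) (T : Subgroup R) [T.Normal] : Nat.card ↥(Cfsg.omegaOne p (⊤ : Subgroup (R ⧸ T))) ≤ p ^ 2 := by
  exact omega_le_of_surjective _ hp hR hO (QuotientGroup.mk' T) (QuotientGroup.mk'_surjective T) le_rfl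

end Cfsg.Agent.S0637
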