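import Cfsg.Statements.S0643
import Cfsg.Agent.Regular.Basic

set_option autoImplicit false
open Cfsg

namespace Cfsg.Agent.S0643

open Subgroup in
/-- If `p`-th powers multiply up to a `p`-th power of the derived subgroup, they are closed under products. -/
theorem exists_pow_eq {G : Type*} [Group G] [Finite G] {p : ℕ} [Fact p.Prime] (hG : IsPGroup p G)
    (h : ∀ a b : G, (∀ z ∈ ⁅closure ({a, b} : Set G), closure ({a, b} : Set G)⁆,
        ∀ w ∈ ⁅closure ({a, b} : Set G), closure ({a, b} : Set G)⁆,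
          ∃ u ∈ ⁅closure ({a, b} : Set G), closure ({a, b} : Set G)⁆, z ^ p * w ^ p = u ^ p) →
      ∃ c ∈ ⁅closure ({a, b} : Set G), closure ({a, b} : Set G)⁆, (a * b) ^ p = a ^ p * b ^ p * c ^ p) :
    ∀ H : Subgroup G, ∀ a ∈ H, ∀ b ∈ H, ∃ u ∈ H, a ^ p * b ^ p = u ^ p := by
  intro H
  induction H using WellFoundedLT.induction with
  | _ H ih =>
  intro a ha b hb
  set H₀ := closure ({a, b} : Set G) with hH₀
  have hle : H₀ ≤ H := (closure_le H).mpr (by rintro z (rfl | rfl) <;> assumption)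
  rcases lt_or_eq_of_le hle with hlt | heq
  · obtain ⟨u, hu, he⟩ := ih H₀ hlt a (subset_closure (Set.mem_insert _ _)) b
      (subset_closure (Set.mem_insert_of_mem _ rfl))
    exact ⟨u, hle hu, he⟩
  by_cases hbot : H₀ = ⊥
  · have ha1 : a = 1 := mem_bot.1 (hbot ▸ heq.symm ▸ ha)
    exact ⟨b, hb, by rw [ha1, one_pow, one_mul]⟩
  have hlt' : ⁅H₀, H₀⁆ < H := (Regular.commutator_lt hG hbot).trans_le hle
  obtain ⟨c, hc, he⟩ := h a b (fun z hz w hw => ih _ hlt' z hz w hw)
  have he' : a ^ p * b ^ p = (a * b) ^ p * (c⁻¹) ^ p := by rw [inv_pow, he, mul_inv_cancel_right]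
  set L := zpowers (a * b) ⊔ ⁅H₀, H₀⁆ with hL
  have hLle : L ≤ H := sup_le (zpowers_le.2 (H.mul_mem ha hb)) hlt'.le
  by_cases hLH : L = H
  · have := (hG.to_subgroup H).isNilpotent
    have h3 : zpowers (⟨a * b, H.mul_mem ha hb⟩ : H) ⊔ frattini H = ⊤ := by
      refine top_le_iff.1 (le_trans ?_ (sup_le_sup_left Core.commutator_le_frattini _))
      rw [← map_le_map_iff_of_injective H.subtype_injective, Subgroup.map_sup, MonoidHom.map_zpowers,
        map_subtype_commutator, ← MonoidHom.range_eq_map, range_subtype]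
      exact hLH.ge.trans (sup_le le_sup_left ((commutator_mono hle hle).trans le_sup_right))
    have h4 := frattini_nongenerating h3
    obtain ⟨i, hi⟩ := mem_zpowers_iff.1 (h4 ▸ mem_top (⟨a, ha⟩ : H))
    obtain ⟨j, hj⟩ := mem_zpowers_iff.1 (h4 ▸ mem_top (⟨b, hb⟩ : H))
    have hab : Commute a b := by
      have hi' : (a * b) ^ i = a := congrArg Subtype.val hi
      have hj' : (a * b) ^ j = b := congrArg Subtype.val hj
      have := (Commute.refl (a * b)).zpow_zpow i j
      rwa [hi', hj'] at this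
    exact ⟨a * b, H.mul_mem ha hb, (hab.mul_pow p).symm⟩
  obtain ⟨v, hv, hev⟩ := ih L (lt_of_le_of_ne hLle hLH) (a * b) (mem_sup_left (mem_zpowers _)) c⁻¹
    (mem_sup_right (inv_mem hc))
  exact ⟨v, hLle hv, he'.trans hev⟩

open Subgroup in
/-- Powers of exponent `p ^ n` in a group with the criterion form a subgroup. -/
theorem exists_powers {G : Type*} [Group G] [Finite G] {p : ℕ} [Fact p.Prime]
    (key : ∀ H : Subgroup G, ∀ a ∈ H, ∀ b ∈ H, ∃ u ∈ H, a ^ p * b ^ p = u ^ p) (n : ℕ) (H : Subgroup G) :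
    ∃ Q : Subgroup G, ∀ z, z ∈ Q ↔ ∃ x ∈ H, z = x ^ p ^ n := by
  have hmul : ∀ n : ℕ, ∀ H : Subgroup G, ∀ a ∈ H, ∀ b ∈ H, ∃ u ∈ H, a ^ p ^ n * b ^ p ^ n = u ^ p ^ n := by
    intro n
    induction n with
    | zero => exact fun H a ha b hb => ⟨a * b, H.mul_mem ha hb, by simp⟩
    | succ n ih =>
      intro H a ha b hb
      obtain ⟨w, hw, he⟩ := key (closure {z | ∃ x ∈ H, z = x ^ p ^ n}) (a ^ p ^ n) (subset_closure ⟨a, ha, rfl⟩)
        (b ^ p ^ n) (subset_closure ⟨b, hb, rfl⟩)
      obtain ⟨u, hu, hwu⟩ : ∃ u ∈ H, w = u ^ p ^ n := by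
        clear he
        induction hw using Subgroup.closure_induction with
        | mem z hz => exact hz
        | one => exact ⟨1, H.one_mem, (one_pow _).symm⟩
        | mul u v _ _ hu hv =>
          obtain ⟨x, hx, rfl⟩ := hu
          obtain ⟨y, hy, rfl⟩ := hv
          exact ih H x hx y hy
        | inv u _ hu =>
          obtain ⟨x, hx, rfl⟩ := hu
          exact ⟨x⁻¹, H.inv_mem hx, (inv_pow x _).symm⟩
      exact ⟨u, hu, by rw [pow_succ, pow_mul, pow_mul, he, hwu, ← pow_mul]⟩
  refine ⟨{ carrier := {z | ∃ x ∈ H, z = x ^ p ^ n}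
            one_mem' := ⟨1, H.one_mem, (one_pow _).symm⟩
            mul_mem' := ?_
            inv_mem' := ?_ }, fun z => Iff.rfl⟩
  · rintro _ _ ⟨x, hx, rfl⟩ ⟨y, hy, rfl⟩
    exact hmul n H x hx y hy
  · rintro _ ⟨x, hx, rfl⟩
    exact ⟨x⁻¹, H.inv_mem hx, (inv_pow x _).symm⟩

/-- Kemhadze's criterion: a finite p-group is regular exactly when (ab)^p = a^p b^p c^p always holds for some c in the derived subgroup of the subgroup generated by a and b. -/
theorem result {G : Type*} [Group G] [Finite G] {p : ℕ} [Fact p.Prime] (hG : IsPGroup p G) : Cfsg.IsRegularPGroup p G ↔ ∀ a b : G, ∃ c ∈ ⁅Subgroup.closure ({a, b} : Set G), Subgroup.closure ({a, b} : Set G)⁆, (a * b) ^ p = a ^ p * b ^ p * c ^ p := by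
  open Subgroup in open scoped commutatorElement in
  constructor
  · intro hreg a b
    have hpow : ∀ a b : G, ∀ K : Subgroup G, (∀ z ∈ K, ∀ w ∈ K, ∃ u ∈ K, z ^ p * w ^ p = u ^ p) →
        ∀ y ∈ Cfsg.powerClosure p 1 K, ∃ u ∈ K, y = u ^ p := by
      intro a b K hK y hy
      rw [Cfsg.powerClosure] at hy
      induction hy using Subgroup.closure_induction with
      | mem z hz =>
        obtain ⟨x, hx, rfl⟩ := hz
        exact ⟨x, hx, by rw [pow_one]⟩
      | one => exact ⟨1, one_mem _, (one_pow p).symm⟩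
      | mul u v _ _ hu hv =>
        obtain ⟨x, hx, rfl⟩ := hu
        obtain ⟨w, hw, rfl⟩ := hv
        exact hK x hx w hw
      | inv u _ hu =>
        obtain ⟨x, hx, rfl⟩ := hu
        exact ⟨x⁻¹, inv_mem hx, (inv_pow x p).symm⟩
    have hh : ∀ a b : G, (∀ z ∈ ⁅closure ({a, b} : Set G), closure ({a, b} : Set G)⁆,
        ∀ w ∈ ⁅closure ({a, b} : Set G), closure ({a, b} : Set G)⁆,
          ∃ u ∈ ⁅closure ({a, b} : Set G), closure ({a, b} : Set G)⁆, z ^ p * w ^ p = u ^ p) →
        ∃ c ∈ ⁅closure ({a, b} : Set G), closure ({a, b} : Set G)⁆, (a * b) ^ p = a ^ p * b ^ p * c ^ p := by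
      intro a b hK
      obtain ⟨c, hc, he⟩ := hreg.2 a b 1
      obtain ⟨u, hu, rfl⟩ := hpow a b _ hK c hc
      exact ⟨u, hu, by rw [pow_one] at he; exact he⟩
    exact hh a b (exists_pow_eq hG hh _)
  · intro hC
    have key := exists_pow_eq hG fun a b _ => hC a b
    refine ⟨hG, fun a b n => ?_⟩
    set H := closure ({a, b} : Set G) with hH
    set K := ⁅H, H⁆ with hK
    choose Q hQ using fun n => exists_powers key n K
    suffices hmain : ∀ n, ∃ c ∈ Q n, (a * b) ^ p ^ n = a ^ p ^ n * b ^ p ^ n * c by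
      obtain ⟨c, hc, he⟩ := hmain n
      obtain ⟨x, hx, rfl⟩ := (hQ n c).1 hc
      exact ⟨_, Subgroup.subset_closure ⟨x, hx, rfl⟩, he⟩
    have hconj : ∀ n, ∀ h ∈ H, ∀ z ∈ Q n, h * z * h⁻¹ ∈ Q n := by
      intro n h hh z hz
      obtain ⟨x, hx, rfl⟩ := (hQ n z).1 hz
      refine (hQ n _).2 ⟨h * x * h⁻¹, ?_, conj_pow.symm⟩
      exact (mem_normalizer_iff.1 (Subgroup.normalizer_commutator_ge_right H H hh) x).1 hx
    have hnor : ∀ n, H ≤ normalizer (Q n : Set G) := fun n h hh => mem_normalizer_iff.2 fun z =>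
      ⟨hconj n h hh z, fun hz => by simpa [mul_assoc] using hconj n h⁻¹ (inv_mem hh) _ hz⟩
    have hKH : K ≤ H := by
      rw [hK, commutator_le]
      intro u hu v hv
      rw [commutatorElement_def]
      exact mul_mem (mul_mem (mul_mem hu hv) (inv_mem hu)) (inv_mem hv)
    have hQH : ∀ n, ∀ z ∈ Q n, z ∈ H := fun n z hz => by
      obtain ⟨x, hx, rfl⟩ := (hQ n z).1 hz
      exact pow_mem (hKH hx) _
    have hstep : ∀ n, ∀ z ∈ Q n, z ^ p ∈ Q (n + 1) := fun n z hz => by
      obtain ⟨x, hx, rfl⟩ := (hQ n z).1 hz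
      exact (hQ (n + 1) _).2 ⟨x, hx, by rw [pow_succ, pow_mul]⟩
    have hcomm : ∀ n, ∀ x ∈ H, ∀ y ∈ H, ⁅y, x ^ p ^ n⁆ ∈ Q n := by
      intro n
      induction n with
      | zero =>
        intro x hx y hy
        exact (hQ 0 _).2 ⟨⁅y, x ^ p ^ 0⁆, commutator_mem_commutator hy (pow_mem hx _), by simp⟩
      | succ n ih =>
        intro x hx y hy
        set X := x ^ p ^ n with hX
        set w := ⁅y, X⁆ with hw
        obtain ⟨c, hc, he⟩ := hC w X
        have hwQ : w ∈ Q n := ih x hx y hy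
        have hcQ : c ∈ Q n := by
          refine Regular.commutator_closure_le ?_ ?_ hc
          · refine ((closure_le _).2 ?_).trans (hnor n)
            rintro z (rfl | rfl)
            exacts [hQH n _ hwQ, pow_mem hx _]
          · rintro s (rfl | rfl) t (rfl | rfl)
            · simp
            · rw [commutatorElement_def, mul_assoc w, mul_assoc w]
              exact mul_mem hwQ (hconj n _ (pow_mem hx _) _ (inv_mem hwQ))
            · rw [commutatorElement_def]
              exact mul_mem (hconj n _ (pow_mem hx _) _ hwQ) (inv_mem hwQ)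
            · simp
        have h1 : ⁅y, X ^ p⁆ = w ^ p * (X ^ p * c ^ p * (X ^ p)⁻¹) := by
          have h2 : (w * X) ^ p = y * X ^ p * y⁻¹ := by
            rw [← conj_pow, show w * X = y * X * y⁻¹ by rw [hw, commutatorElement_def]; group]
          rw [commutatorElement_def, ← h2, he]
          group
        rw [pow_succ, pow_mul, ← hX, h1]
        exact mul_mem (hstep n w hwQ) (hconj (n + 1) _ (pow_mem (pow_mem hx _) _) _ (hstep n c hcQ))
    intro n
    induction n with
    | zero => exact ⟨1, one_mem _, by simp⟩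
    | succ n ih =>
      obtain ⟨C, hCQ, hA⟩ := ih
      set A := a ^ p ^ n with hAdef
      set B := b ^ p ^ n with hBdef
      have haH : A ∈ H := pow_mem (show a ∈ H from subset_closure (Set.mem_insert a {b})) (p ^ n)
      have hbH : B ∈ H := pow_mem (show b ∈ H from subset_closure (Set.mem_insert_of_mem a (Set.mem_singleton b))) (p ^ n)
      obtain ⟨e₁, he₁, h1⟩ := hC (A * B) C
      obtain ⟨e₂, he₂, h2⟩ := hC A B
      have he₂' : e₂ ∈ Q n := by
        refine Regular.commutator_closure_le ?_ ?_ he₂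
        · refine ((closure_le _).2 ?_).trans (hnor n)
          rintro z (rfl | rfl)
          exacts [haH, hbH]
        · rintro s (rfl | rfl) t (rfl | rfl)
          · simp
          · exact hcomm n b (subset_closure (Set.mem_insert_of_mem _ rfl)) A haH
          · exact hcomm n a (subset_closure (Set.mem_insert _ _)) B hbH
          · simp
      have he₁' : e₁ ∈ Q n := by
        refine Regular.commutator_closure_le ?_ ?_ he₁
        · refine ((closure_le _).2 ?_).trans (hnor n)
          rintro z (rfl | rfl)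
          exacts [mul_mem haH hbH, hQH n _ hCQ]
        · intro s hs t ht
          simp only [Set.mem_insert_iff, Set.mem_singleton_iff] at hs ht
          rcases hs with hs | hs <;> rcases ht with ht | ht <;> rw [hs, ht]
          · simp
          · rw [commutatorElement_def]
            exact mul_mem (hconj n _ (mul_mem haH hbH) _ hCQ) (inv_mem hCQ)
          · rw [commutatorElement_def, mul_assoc C, mul_assoc C]
            exact mul_mem hCQ (hconj n _ (mul_mem haH hbH) _ (inv_mem hCQ))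
          · simp
      refine ⟨e₂ ^ p * C ^ p * e₁ ^ p, mul_mem (mul_mem (hstep n _ he₂') (hstep n _ hCQ)) (hstep n _ he₁'), ?_⟩
      rw [pow_succ, pow_mul, hA, h1, h2, pow_mul, pow_mul, ← hAdef, ← hBdef]
      simp [mul_assoc]

end Cfsg.Agent.S0643
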