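import Cfsg.Statements.S0642
import Cfsg.Agent.S0643

set_option autoImplicit false
open Cfsg

namespace Cfsg.Agent.S0642

open Subgroup in
open scoped commutatorElement in
/-- A 2-group satisfying the regularity identity for squares is commutative. -/
theorem abelian_of_regular {G : Type*} [Group G] [Finite G] (hG : IsPGroup 2 G) (hC : ∀ a b : G,
      ∃ c ∈ ⁅closure ({a, b} : Set G), closure ({a, b} : Set G)⁆, (a * b) ^ 2 = a ^ 2 * b ^ 2 * c ^ 2) :
    ∀ H : Subgroup G, ∀ a ∈ H, ∀ b ∈ H, a * b = b * a := by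
  intro H
  induction H using WellFoundedLT.induction with
  | _ H ih =>
  intro a ha b hb
  set H₀ := closure ({a, b} : Set G) with hH₀
  have hle : H₀ ≤ H := (closure_le H).mpr (by rintro z (rfl | rfl) <;> assumption)
  have haH : a ∈ H₀ := subset_closure (Set.mem_insert a {b})
  have hbH : b ∈ H₀ := subset_closure (Set.mem_insert_of_mem a (Set.mem_singleton b))
  suffices hK : ⁅H₀, H₀⁆ = ⊥ from commutatorElement_eq_one_iff_mul_comm.1
    (mem_bot.1 (hK ▸ commutator_mem_commutator haH hbH))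
  by_cases hbot : H₀ = ⊥
  · rw [hbot, commutator_bot_left]
  set K := ⁅H₀, H₀⁆ with hKdef
  have hab := ih K ((Regular.commutator_lt hG hbot).trans_le hle)
  let Q : Subgroup G :=
    { carrier := {z | ∃ x ∈ K, z = x ^ 2}
      one_mem' := ⟨1, K.one_mem, (one_pow 2).symm⟩
      mul_mem' := by
        rintro _ _ ⟨x, hx, rfl⟩ ⟨y, hy, rfl⟩
        exact ⟨x * y, K.mul_mem hx hy, (Commute.mul_pow (hab x hx y hy) 2).symm⟩
      inv_mem' := by
        rintro _ ⟨x, hx, rfl⟩
        exact ⟨x⁻¹, K.inv_mem hx, (inv_pow x 2).symm⟩ }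
  have hQmem : ∀ z, z ∈ Q ↔ ∃ x ∈ K, z = x ^ 2 := fun z => Iff.rfl
  have hconj : ∀ h ∈ H₀, ∀ z ∈ Q, h * z * h⁻¹ ∈ Q := by
    intro h hh z hz
    obtain ⟨x, hx, rfl⟩ := (hQmem z).1 hz
    exact (hQmem _).2 ⟨h * x * h⁻¹,
      (mem_normalizer_iff.1 (Subgroup.normalizer_commutator_ge_right H₀ H₀ hh) x).1 hx, conj_pow.symm⟩
  have hnor : H₀ ≤ normalizer (Q : Set G) := fun h hh => mem_normalizer_iff.2 fun z =>
    ⟨hconj h hh z, fun hz => by simpa [mul_assoc] using hconj h⁻¹ (inv_mem hh) _ hz⟩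
  obtain ⟨c, hc, he⟩ := hC a b
  have hba : ⁅b, a⁆ ∈ Q := by
    have h1 : b * a = a * b * (b * c ^ 2 * b⁻¹) :=
      calc b * a = a⁻¹ * (a * b) ^ 2 * b⁻¹ := by rw [sq]; group
        _ = a * b * (b * c ^ 2 * b⁻¹) := by rw [he, sq a, sq b]; group
    have h2 : ⁅b, a⁆ = a * b * (b * c ^ 2 * b⁻¹) * (a * b)⁻¹ := by
      rw [← h1, commutatorElement_def]; group
    rw [h2]
    exact hconj _ (mul_mem haH hbH) _ (hconj b hbH _ ((hQmem _).2 ⟨c, hc, rfl⟩))
  have hKQ : K ≤ Q := by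
    intro z hz
    refine Regular.commutator_closure_le hnor ?_ hz
    rintro s (rfl | rfl) t (rfl | rfl)
    · simp
    · rw [← commutatorElement_inv]; exact inv_mem hba
    · exact hba
    · simp
  by_contra hne
  obtain ⟨z, hz, hz1⟩ := (Subgroup.ne_bot_iff_exists_ne_one.1 hne).elim fun z hz => (⟨z.1, z.2, fun h => hz (Subtype.ext h)⟩ : ∃ z ∈ K, z ≠ 1)
  let f : K → K := fun x => x ^ 2
  have hsurj : Function.Surjective f := fun y => by
    obtain ⟨x, hx, hxy⟩ := (hQmem _).1 (hKQ y.2)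
    exact ⟨⟨x, hx⟩, Subtype.ext hxy.symm⟩
  have hinj : Function.Injective f := Finite.injective_iff_surjective.2 hsurj
  obtain ⟨k, hk⟩ := (hG.to_subgroup K) ⟨z, hz⟩
  have : ∀ (k : ℕ) (w : K), w ^ 2 ^ k = 1 → w = 1 := by
    intro k
    induction k with
    | zero => simp
    | succ k ihk => exact fun w hw => hinj (by
        show w ^ 2 = (1 : K) ^ 2
        rw [one_pow]; exact ihk _ (by rw [← pow_mul, mul_comm, ← pow_succ]; exact (by rwa [pow_succ'] at hw ⊢)))
  exact hz1 (congrArg Subtype.val (this k _ hk))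

/-- Among finite 2-groups the regular ones are exactly the abelian ones. -/
theorem result {G : Type*} [Group G] [Finite G] (hG : IsPGroup 2 G) : Cfsg.IsRegularPGroup 2 G ↔ ∀ a b : G, a * b = b * a := by
  open Subgroup in
  haveI : Fact (Nat.Prime 2) := ⟨Nat.prime_two⟩
  constructor
  · intro hreg a b
    exact abelian_of_regular hG ((S0643.result hG).1 hreg) ⊤ a (mem_top a) b (mem_top b)
  · intro hab
    exact ⟨hG, fun a b n => ⟨1, one_mem _, by rw [mul_one]; exact (Commute.mul_pow (hab a b) _)⟩⟩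

end Cfsg.Agent.S0642
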