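import Cfsg.Statements.S0644
import Cfsg.Agent.S0643

set_option autoImplicit false
open Cfsg

namespace Cfsg.Agent.S0644

open Subgroup in
open scoped commutatorElement in
/-- In a regular `p`-group `⁅H, x ^ p ^ n⁆` consists of `p ^ n`-th powers from `⁅H, H⁆`. -/
theorem comm_pow_mem {G : Type*} [Group G] [Finite G] {p : ℕ} [Fact p.Prime] (hC : ∀ a b : G,
      ∃ c ∈ ⁅closure ({a, b} : Set G), closure ({a, b} : Set G)⁆, (a * b) ^ p = a ^ p * b ^ p * c ^ p)
    (H : Subgroup G) (Q : ℕ → Subgroup G) (hQ : ∀ n z, z ∈ Q n ↔ ∃ x ∈ ⁅H, H⁆, z = x ^ p ^ n) :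
    ∀ n, ∀ x ∈ H, ∀ y ∈ H, ⁅y, x ^ p ^ n⁆ ∈ Q n := by
  have hKH : ⁅H, H⁆ ≤ H := by
    rw [commutator_le]
    intro u hu v hv
    rw [commutatorElement_def]
    exact mul_mem (mul_mem (mul_mem hu hv) (inv_mem hu)) (inv_mem hv)
  have hconj : ∀ n, ∀ h ∈ H, ∀ z ∈ Q n, h * z * h⁻¹ ∈ Q n := by
    intro n h hh z hz
    obtain ⟨x, hx, rfl⟩ := (hQ n z).1 hz
    refine (hQ n _).2 ⟨h * x * h⁻¹, ?_, conj_pow.symm⟩
    exact (mem_normalizer_iff.1 (Subgroup.normalizer_commutator_ge_right H H hh) x).1 hx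
  have hnor : ∀ n, H ≤ normalizer (Q n : Set G) := fun n h hh => mem_normalizer_iff.2 fun z =>
    ⟨hconj n h hh z, fun hz => by simpa [mul_assoc] using hconj n h⁻¹ (inv_mem hh) _ hz⟩
  have hQH : ∀ n, ∀ z ∈ Q n, z ∈ H := fun n z hz => by
    obtain ⟨x, hx, rfl⟩ := (hQ n z).1 hz
    exact pow_mem (hKH hx) _
  have hstep : ∀ n, ∀ z ∈ Q n, z ^ p ∈ Q (n + 1) := fun n z hz => by
    obtain ⟨x, hx, rfl⟩ := (hQ n z).1 hz
    exact (hQ (n + 1) _).2 ⟨x, hx, by rw [pow_succ, pow_mul]⟩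
  intro n
  induction n with
  | zero =>
    intro x hx y hy
    exact (hQ 0 _).2 ⟨⁅y, x ^ p ^ 0⁆, commutator_mem_commutator hy (pow_mem hx _), by simp⟩
  | succ n ih =>
    intro x hx y hy
    set X := x ^ p ^ n with hX
    set w := ⁅y, X⁆ with hw
    obtain ⟨c, hc, he⟩ := hC w X
    have hwQ : w ∈ Q n := ih x hx y hy
    have hcQ : c ∈ Q n := by
      refine Regular.commutator_closure_le ?_ ?_ hc
      · refine ((closure_le _).2 ?_).trans (hnor n)
        rintro z (rfl | rfl)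
        exacts [hQH n _ hwQ, pow_mem hx _]
      · rintro s (rfl | rfl) t (rfl | rfl)
        · simp
        · rw [commutatorElement_def, mul_assoc w, mul_assoc w]
          exact mul_mem hwQ (hconj n _ (pow_mem hx _) _ (inv_mem hwQ))
        · rw [commutatorElement_def]
          exact mul_mem (hconj n _ (pow_mem hx _) _ hwQ) (inv_mem hwQ)
        · simp
    have h1 : ⁅y, X ^ p⁆ = w ^ p * (X ^ p * c ^ p * (X ^ p)⁻¹) := by
      have h2 : (w * X) ^ p = y * X ^ p * y⁻¹ := by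
        rw [← conj_pow, show w * X = y * X * y⁻¹ by rw [hw, commutatorElement_def]; group]
      rw [commutatorElement_def, ← h2, he]
      group
    rw [pow_succ, pow_mul, ← hX, h1]
    exact mul_mem (hstep n w hwQ) (hconj (n + 1) _ (pow_mem (pow_mem hx _) _) _ (hstep n c hcQ))

/-- In a regular p-group the p^n-th powers of the elements of any subgroup H form a subgroup, whose derived subgroup is contained in the subgroup generated by the p^n-th powers of elements of the derived subgroup of H. -/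
theorem result {G : Type*} [Group G] [Finite G] {p : ℕ} [Fact p.Prime] (hG : Cfsg.IsRegularPGroup p G) (H : Subgroup G) (n : ℕ) : {y : G | ∃ x ∈ H, y = x ^ (p ^ n)} = (Cfsg.powerClosure p n H : Set G) ∧ ⁅Cfsg.powerClosure p n H, Cfsg.powerClosure p n H⁆ ≤ Cfsg.powerClosure p n ⁅H, H⁆ := by
  open Subgroup in open scoped commutatorElement in
  obtain hC := (Cfsg.Agent.S0643.result hG.1).1 hG
  have key := S0643.exists_pow_eq hG.1 fun a b _ => hC a b
  have hcl : ∀ (m : ℕ) (K : Subgroup G), ∀ Q : Subgroup G, (∀ z, z ∈ Q ↔ ∃ x ∈ K, z = x ^ p ^ m) →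
      Q = Cfsg.powerClosure p m K := by
    intro m K Q hQ
    unfold Cfsg.powerClosure
    refine le_antisymm (fun z hz => Subgroup.subset_closure (by exact (hQ z).1 hz)) ?_
    exact (Subgroup.closure_le Q).2 fun z hz => (hQ z).2 hz
  obtain ⟨P, hP⟩ := S0643.exists_powers key n H
  choose Q hQ using fun m => S0643.exists_powers key m ⁅H, H⁆
  refine ⟨?_, ?_⟩
  · rw [← hcl n H P hP]
    ext z
    exact (hP z).symm
  · rw [← hcl n H P hP, ← hcl n _ (Q n) (hQ n), Subgroup.commutator_le]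
    intro a ha b hb
    obtain ⟨x, hx, rfl⟩ := (hP a).1 ha
    obtain ⟨y, hy, rfl⟩ := (hP b).1 hb
    exact comm_pow_mem hC H Q hQ n y hy _ (Subgroup.pow_mem H hx _)

end Cfsg.Agent.S0644
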