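import Cfsg.Statements.S0645
import Cfsg.Agent.MaxClass.CyclicNormal

set_option autoImplicit false
open Cfsg

namespace Cfsg.Agent.S0645

/-- Classification of p-groups with a cyclic maximal subgroup, odd p: a non-abelian one of order p^n has generators a of order p^(n-1) and b of order p, b outside the cyclic subgroup generated by a, with b a b⁻¹ = a^(1 + p^(n-2)). -/
theorem result {G : Type*} [Group G] [Finite G] {p : ℕ} [Fact p.Prime] (hp : p ≠ 2) (n : ℕ) (hn : 3 ≤ n) (hG : Nat.card G = p ^ n) (C : Subgroup G) (hC : IsCyclic C) (hCi : C.index = p) (hna : ∃ x y : G, x * y ≠ y * x) : ∃ a b : G, orderOf a = p ^ (n - 1) ∧ orderOf b = p ∧ b ∉ Subgroup.zpowers a ∧ b * a * b⁻¹ = a ^ (1 + p ^ (n - 2)) := by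
  have hpp : p.Prime := Fact.out
  obtain ⟨m, rfl⟩ : ∃ m, n = m + 1 := ⟨n - 1, by omega⟩
  have hnc : ¬ IsMulCommutative G := fun h => by
    obtain ⟨x, y, hxy⟩ := hna
    exact hxy (h.is_comm.comm x y)
  have hCcard : Nat.card C = p ^ m := by
    have h := C.card_mul_index
    rw [hG, hCi, pow_succ] at h
    exact Nat.eq_of_mul_eq_mul_right hpp.pos h
  have hmin : (Nat.card G).minFac = p := by rw [hG, Nat.pow_minFac (by omega), hpp.minFac_eq]
  have hCn : C.Normal := Subgroup.normal_of_index_eq_minFac_card (hCi.trans hmin.symm)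
  have hCab : IsMulCommutative C := IsCyclic.isMulCommutative
  have hCC : Subgroup.centralizer (C : Set G) = C := by
    refine le_antisymm (fun x hx => ?_) (Subgroup.le_centralizer_iff_isMulCommutative.2 hCab)
    by_contra hxC
    obtain ⟨g, hg⟩ := hC
    have hgen : ∀ v ∈ C, ∃ i : ℤ, v = (g : G) ^ i := fun v hv => by
      obtain ⟨i, hi⟩ := Subgroup.mem_zpowers_iff.1 (hg ⟨v, hv⟩)
      exact ⟨i, (congrArg Subtype.val hi).symm⟩
    have hle : C ⊔ Subgroup.zpowers x ≤ Subgroup.centralizer (C : Set G) :=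
      sup_le (Subgroup.le_centralizer_iff_isMulCommutative.2 hCab) (Subgroup.zpowers_le.2 hx)
    have htop : C ⊔ Subgroup.zpowers x = ⊤ := by
      have hd := Subgroup.index_dvd_of_le (le_sup_left : C ≤ C ⊔ Subgroup.zpowers x)
      rw [hCi] at hd
      rcases (Nat.dvd_prime hpp).1 hd with h | h
      · exact Subgroup.index_eq_one.1 h
      · exact absurd ((Subgroup.eq_of_le_of_card_ge (le_sup_left : C ≤ C ⊔ Subgroup.zpowers x) (le_of_eq (by
          have h1 := C.card_mul_index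
          have h2 := (C ⊔ Subgroup.zpowers x).card_mul_index
          rw [h] at h2; rw [hCi] at h1
          exact Nat.eq_of_mul_eq_mul_right hpp.pos (h2.trans h1.symm)))).symm.le
          (le_sup_right (a := C) (Subgroup.mem_zpowers x))) hxC
    have hcen : (⊤ : Subgroup G) ≤ Subgroup.centralizer (C : Set G) := htop ▸ hle
    have hgx : Commute (g : G) x := (Subgroup.mem_centralizer_iff.1 hx g g.2)
    have hK : C ⊔ Subgroup.zpowers x ≤ Subgroup.centralizer ({x} : Set G) :=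
      sup_le (fun v hv => Subgroup.mem_centralizer_singleton_iff.2 (by
        obtain ⟨i, rfl⟩ := hgen v hv
        exact (hgx.zpow_left i).eq))
        (Subgroup.zpowers_le.2 (Subgroup.mem_centralizer_singleton_iff.2 rfl))
    rw [htop] at hK
    have hall : ∀ u v : G, u * v = v * u := by
      intro u v
      have hK2 : C ⊔ Subgroup.zpowers x ≤ Subgroup.centralizer ({u} : Set G) := by
        refine sup_le (fun w hw => Subgroup.mem_centralizer_singleton_iff.2 ?_)
          (Subgroup.zpowers_le.2 (Subgroup.mem_centralizer_singleton_iff.2 ?_))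
        · exact Subgroup.mem_centralizer_iff.1 (hcen (Subgroup.mem_top u)) w hw
        · exact (Subgroup.mem_centralizer_singleton_iff.1 (hK (Subgroup.mem_top u))).symm
      rw [htop] at hK2
      exact (Subgroup.mem_centralizer_singleton_iff.1 (hK2 (Subgroup.mem_top v))).symm
    exact hnc ⟨⟨hall⟩⟩
  have hGp : IsPGroup p G := IsPGroup.of_card hG
  rcases MaxClass.cyclic_normal_cases hGp hnc C hC hCcard hCC with ⟨h2, -, -⟩ | ⟨-, hE, hE2, -⟩
  · exact absurd h2 hp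
  set Ω := Cfsg.omegaOne p (Subgroup.centralizer (Cfsg.powerClosure p 1 C : Set G)) with hΩ
  obtain ⟨g, hg⟩ := hC
  have hCz : C = Subgroup.zpowers (g : G) := le_antisymm (fun v hv => by
      obtain ⟨i, hi⟩ := Subgroup.mem_zpowers_iff.1 (hg ⟨v, hv⟩)
      exact ⟨i, congrArg Subtype.val hi⟩) (Subgroup.zpowers_le.2 g.2)
  have ha : orderOf (g : G) = p ^ m := by rw [← Nat.card_zpowers, ← hCz, hCcard]
  obtain ⟨b₀, hb₀, hb₀C⟩ : ∃ b ∈ Ω, b ∉ C := by
    by_contra! hle
    have hcy : IsCyclic Ω := (Subgroup.subgroupOfEquivOfLe (show Ω ≤ C from hle)).isCyclic.1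
      (have := (⟨g, hg⟩ : IsCyclic C); inferInstance)
    obtain ⟨e, he⟩ := hcy
    have h1 : orderOf e ∣ p := orderOf_dvd_iff_pow_eq_one.2 (Subtype.ext (hE.2 _ e.2))
    rw [orderOf_eq_card_of_forall_mem_zpowers he, hE2] at h1
    have := Nat.le_of_dvd hpp.pos h1
    have := hpp.two_le
    nlinarith
  obtain ⟨r, hr⟩ := Subgroup.mem_zpowers_iff.1 (show b₀ * (g : G) * b₀⁻¹ ∈ Subgroup.zpowers (g : G) by rw [← hCz]; exact hCn.conj_mem _ g.2 b₀)
  have hbM : b₀ ∈ Subgroup.centralizer (Cfsg.powerClosure p 1 C : Set G) :=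
    (Subgroup.closure_le _).2 (fun x hx => hx.1) hb₀
  have hfix : b₀ * (g : G) ^ (p : ℤ) * b₀⁻¹ = (g : G) ^ (p : ℤ) := by
    rw [← Subgroup.mem_centralizer_iff.1 hbM _ (Subgroup.subset_closure ⟨(g : G), g.2, by rw [pow_one, zpow_natCast]⟩),
      mul_inv_cancel_right]
  rw [MaxClass.conj_zpow_of_eq hr.symm, MaxClass.pzpow_eq_iff ha] at hfix
  have hpne : (p : ℤ) ≠ 0 := by exact_mod_cast hpp.ne_zero
  obtain ⟨j, rfl⟩ : ∃ j, m = j + 1 := ⟨m - 1, by omega⟩
  rw [show (p : ℤ) - r * p = -((r - 1) * p) by ring, dvd_neg, pow_succ, mul_dvd_mul_iff_right hpne] at hfix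
  obtain ⟨s, hs⟩ := hfix
  obtain rfl : r = 1 + (p : ℤ) ^ j * s := by linarith
  have hs' : ¬ (p : ℤ) ∣ s := by
    rintro ⟨t, rfl⟩
    refine hb₀C (hCC ▸ Subgroup.mem_centralizer_iff.2 fun v hv => ?_)
    rw [hCz] at hv
    obtain ⟨i, rfl⟩ := Subgroup.mem_zpowers_iff.1 hv
    have hc : b₀ * (g : G) * b₀⁻¹ = g := by
      rw [← hr]; conv_rhs => rw [← zpow_one (g : G)]
      rw [MaxClass.pzpow_eq_iff ha]
      exact ⟨-t, by ring⟩
    exact (((show Commute b₀ (g : G) from mul_inv_eq_iff_eq_mul.1 hc)).zpow_right i).symm.eq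
  obtain ⟨u, v, huv⟩ := ((Nat.prime_iff_prime_int.1 hpp).coprime_iff_not_dvd).2 hs'
  set k := (v % p).toNat with hk
  have hkz : (k : ℤ) = v - p * (v / p) := by
    rw [hk, Int.toNat_of_nonneg (Int.emod_nonneg _ hpne), Int.emod_def]
  have hbp : (b₀ ^ k) ^ p = 1 := by rw [← pow_mul, mul_comm, pow_mul, hE.2 b₀ hb₀, one_pow]
  have hkC : b₀ ^ k ∉ C := by
    intro hmem
    refine hb₀C ?_
    have hz : b₀ = (b₀ ^ k) ^ s := by
      rw [← zpow_natCast, ← zpow_mul, hkz]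
      conv_lhs => rw [← zpow_one b₀, ← huv]
      rw [show u * (p : ℤ) + v * s = (v - p * (v / p)) * s + p * ((v / p) * s + u) by ring, zpow_add,
        zpow_mul b₀ (p : ℤ), zpow_natCast b₀ p, hE.2 b₀ hb₀, one_zpow, mul_one]
    exact hz ▸ zpow_mem hmem s
  refine ⟨g, b₀ ^ k, ha, orderOf_eq_prime hbp fun e => hkC (e ▸ one_mem C), hCz ▸ hkC, ?_⟩
  have hconj : ∀ i : ℕ, b₀ ^ i * (g : G) * (b₀ ^ i)⁻¹ = (g : G) ^ ((1 + (p : ℤ) ^ j * s) ^ i) := by
    intro i
    induction i with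
    | zero => simp
    | succ i ih =>
      rw [pow_succ b₀, show b₀ ^ i * b₀ * (g : G) * (b₀ ^ i * b₀)⁻¹ = b₀ ^ i * (b₀ * g * b₀⁻¹) * (b₀ ^ i)⁻¹ by group,
        ← hr, MaxClass.conj_zpow_of_eq ih, pow_succ]
  obtain ⟨c, hc⟩ : ∃ c, (1 + (p : ℤ) ^ j * s) ^ k = 1 + k * ((p : ℤ) ^ j * s) + c * (p : ℤ) ^ (j + 1) := by
    obtain ⟨l, rfl⟩ : ∃ l, j = l + 1 := ⟨j - 1, by omega⟩
    clear_value k
    clear hkz hbp hkC hk
    induction k with
    | zero => exact ⟨0, by simp⟩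
    | succ k ih =>
      obtain ⟨c, hc⟩ := ih
      exact ⟨c * (1 + (p : ℤ) ^ (l + 1) * s) + k * (p : ℤ) ^ l * s ^ 2, by
        rw [pow_succ (1 + (p : ℤ) ^ (l + 1) * s), hc]; push_cast; ring⟩
  rw [hconj, ← zpow_natCast, MaxClass.pzpow_eq_iff ha, hc, hkz]
  refine ⟨-c + (v / p) * s + u, ?_⟩
  push_cast
  linear_combination (-((p : ℤ) ^ j)) * huv

end Cfsg.Agent.S0645
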