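import Cfsg.Statements.S0646
import Cfsg.Agent.MaxClass.Basic

set_option autoImplicit false
open Cfsg

namespace Cfsg.Agent.S0646

/-- Classification of non-abelian 2-groups with a cyclic maximal subgroup: dihedral, generalized quaternion, and for order at least 16 the modular group and the semidihedral group, each given by generators a (of index 2) and b with the stated relations. -/
theorem result {G : Type*} [Group G] [Finite G] (n : ℕ) (hn : 3 ≤ n) (hG : Nat.card G = 2 ^ n) (C : Subgroup G) (hC : IsCyclic C) (hCi : C.index = 2) (hna : ∃ x y : G, x * y ≠ y * x) : ∃ a b : G, orderOf a = 2 ^ (n - 1) ∧ b ∉ Subgroup.zpowers a ∧ ((b ^ 2 = 1 ∧ b * a * b⁻¹ = a⁻¹) ∨ (b ^ 2 = a ^ (2 ^ (n - 2)) ∧ b * a * b⁻¹ = a⁻¹) ∨ (4 ≤ n ∧ b ^ 2 = 1 ∧ b * a * b⁻¹ = a ^ (1 + 2 ^ (n - 2))) ∨ (4 ≤ n ∧ b ^ 2 = 1 ∧ b * a * b⁻¹ = a ^ (2 ^ (n - 2) - 1))) := by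
  obtain ⟨m, rfl⟩ : ∃ m, n = m + 1 := ⟨n - 1, by omega⟩
  obtain ⟨g, hg⟩ := hC
  set a : G := (g : G) with ha'
  have hCa : Subgroup.zpowers a = C := le_antisymm (Subgroup.zpowers_le.2 g.2) fun x hx => by
    obtain ⟨i, hi⟩ := Subgroup.mem_zpowers_iff.1 (hg ⟨x, hx⟩)
    exact ⟨i, congrArg Subtype.val hi⟩
  have hi : (Subgroup.zpowers a).index = 2 := by rw [hCa, hCi]
  have ha : orderOf a = 2 ^ m := by
    have h := C.card_mul_index
    rw [hG, hCi, pow_succ, ← hCa, Nat.card_zpowers] at h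
    exact Nat.eq_of_mul_eq_mul_right two_pos h
  obtain ⟨b, hb⟩ : ∃ b, b ∉ Subgroup.zpowers a := by
    by_contra! h
    rw [show Subgroup.zpowers a = ⊤ from eq_top_iff.2 fun v _ => h v, Subgroup.index_top] at hi
    omega
  obtain ⟨r, hr⟩ := MaxClass.exists_exponent hi b
  have hnoncentral : ¬ (2 : ℤ) ^ m ∣ r - 1 := by
    intro h
    obtain ⟨x, y, hxy⟩ := hna
    have hab : Commute b a := mul_inv_eq_iff_eq_mul.1 (hr.trans (by
      conv_rhs => rw [← zpow_one a]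
      exact (MaxClass.zpow_eq_iff ha).2 (by rw [← dvd_neg, neg_sub]; exact h)))
    have hcomm : ∀ z : G, ∃ i j : ℤ, z = b ^ j * a ^ i := fun z => by
      rcases MaxClass.cover_of_index_two hi hb z with hz | hz
      · obtain ⟨i, rfl⟩ := Subgroup.mem_zpowers_iff.1 hz; exact ⟨i, 0, by simp⟩
      · obtain ⟨i, e⟩ := Subgroup.mem_zpowers_iff.1 hz; exact ⟨i, 1, by rw [e, zpow_one, mul_inv_cancel_left]⟩
    obtain ⟨i, j, rfl⟩ := hcomm x
    obtain ⟨i', j', rfl⟩ := hcomm y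
    exact hxy (((((Commute.refl b).zpow_zpow j j').mul_right (hab.zpow_zpow j i')).mul_left
      ((hab.symm.zpow_zpow i j').mul_right ((Commute.refl a).zpow_zpow i i'))).eq)
  obtain ⟨c, hc⟩ := Subgroup.mem_zpowers_iff.1
    ((Subgroup.mul_mem_iff_of_index_two hi (a := b) (b := b)).2 Iff.rfl)
  have hfix : a ^ (r * c) = a ^ c := by rw [← MaxClass.conj_zpow_of_eq hr, hc]; group
  rw [MaxClass.zpow_eq_iff ha] at hfix
  have hinv : (2 : ℤ) ^ m ∣ r + 1 → ∃ a b : G, orderOf a = 2 ^ m ∧ b ∉ Subgroup.zpowers a ∧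
      ((b ^ 2 = 1 ∧ b * a * b⁻¹ = a⁻¹) ∨ (b ^ 2 = a ^ (2 ^ (m - 1)) ∧ b * a * b⁻¹ = a⁻¹)) := by
    intro h
    refine ⟨a, b, ha, hb, ?_⟩
    have hi' : b * a * b⁻¹ = a⁻¹ := by
      rw [hr, ← zpow_neg_one, MaxClass.zpow_eq_iff ha, ← dvd_neg]
      simpa [add_comm] using h
    have h2 : (2 : ℤ) ^ m ∣ 2 * c := by
      have := dvd_add hfix (dvd_mul_of_dvd_left h c)
      rwa [show c - r * c + (r + 1) * c = 2 * c by ring] at this
    obtain ⟨j, rfl⟩ : ∃ j, m = j + 1 := ⟨m - 1, by omega⟩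
    rw [pow_succ'] at h2
    obtain ⟨d, hd⟩ := (mul_dvd_mul_iff_left (two_ne_zero : (2 : ℤ) ≠ 0)).1 h2
    rw [pow_two, ← hc]
    rcases Int.even_or_odd d with ⟨u, hu⟩ | ⟨u, hu⟩
    · exact Or.inl ⟨by rw [← zpow_zero a, MaxClass.zpow_eq_iff ha, hd, hu]; exact ⟨-u, by ring⟩, hi'⟩
    · exact Or.inr ⟨by rw [← zpow_natCast, MaxClass.zpow_eq_iff ha, hd, hu, show j + 1 - 1 = j from rfl]
                       exact ⟨-u, by push_cast; ring⟩, hi'⟩
  simp only [show m + 1 - 1 = m from rfl, show m + 1 - 2 = m - 1 from rfl]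
  rcases MaxClass.sqrt_one_cases (by omega) (MaxClass.exponent_sq ha hi hr) with h | h | h | h
  · exact absurd h hnoncentral
  · obtain ⟨a', b', h1, h2, h3⟩ := hinv h
    exact ⟨a', b', h1, h2, h3.elim Or.inl fun h4 => Or.inr (Or.inl h4)⟩
  · rcases Nat.lt_or_ge m 3 with hlt | hge
    · obtain rfl : m = 2 := by omega
      obtain ⟨a', b', h1, h2, h3⟩ := hinv (by norm_num at h ⊢; omega)
      exact ⟨a', b', h1, h2, h3.elim Or.inl fun h4 => Or.inr (Or.inl h4)⟩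
    obtain ⟨k, rfl⟩ : ∃ k, m = k + 3 := ⟨m - 3, by omega⟩
    rw [show k + 3 - 1 = k + 2 from rfl] at h ⊢
    have hr' : b * a * b⁻¹ = a ^ (1 + (2 : ℤ) ^ (k + 2)) :=
      hr.trans ((MaxClass.zpow_eq_iff ha).2 (by rw [← dvd_neg, neg_sub]; exact h))
    have hc2 : (2 : ℤ) ^ (k + 3) ∣ 2 ^ (k + 2) * c := by
      have := dvd_sub (dvd_neg.2 hfix) (dvd_mul_of_dvd_left h c)
      rwa [show -(c - r * c) - (r - (1 + 2 ^ (k + 2))) * c = 2 ^ (k + 2) * c by ring] at this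
    rw [pow_succ] at hc2
    obtain ⟨c', rfl⟩ := (mul_dvd_mul_iff_left (by positivity)).1 hc2
    obtain ⟨x, y, hxy⟩ : IsCoprime ((1 : ℤ) + 2 ^ (k + 1)) (2 ^ (k + 2)) :=
      IsCoprime.pow_right ⟨1, -2 ^ k, by ring⟩
    have hb' : a ^ (-c' * x) * b ∉ Subgroup.zpowers a := fun hm => hb (by
      have := mul_mem (inv_mem (zpow_mem (Subgroup.mem_zpowers a) (-c' * x))) hm
      rwa [inv_mul_cancel_left] at this)
    refine ⟨a, a ^ (-c' * x) * b, ha, hb', Or.inr (Or.inr (Or.inl ⟨by omega, ?_, ?_⟩))⟩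
    · have key : ∀ j : ℤ, a ^ j * b * (a ^ j * b) = a ^ (j + (1 + 2 ^ (k + 2)) * j + 2 * c') := fun j => by
        rw [zpow_add, zpow_add, ← MaxClass.conj_zpow_of_eq hr', hc]; group
      rw [pow_two, key, ← zpow_zero a, MaxClass.zpow_eq_iff ha]
      exact ⟨-c' * y, by linear_combination (2 * c') * hxy⟩
    · calc a ^ (-c' * x) * b * a * (a ^ (-c' * x) * b)⁻¹
          = a ^ (-c' * x) * (b * a * b⁻¹) * (a ^ (-c' * x))⁻¹ := by group
        _ = b * a * b⁻¹ := by rw [hr']; group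
        _ = a ^ (1 + 2 ^ (k + 2)) := by rw [hr', ← zpow_natCast]; push_cast; ring_nf
  · rcases Nat.lt_or_ge m 3 with hlt | hge
    · obtain rfl : m = 2 := by omega
      exact absurd (by norm_num at h ⊢; exact h) hnoncentral
    obtain ⟨k, rfl, -, a', b', h1, h2, h3, h4⟩ := MaxClass.of_semidihedral hG ha hge hi hb hr h
    refine ⟨a', b', h1, h3, Or.inr (Or.inr (Or.inr ⟨by omega, ?_, ?_⟩))⟩
    · rw [← h2, pow_orderOf_eq_one]
    · exact h4

end Cfsg.Agent.S0646
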