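import Cfsg.Statements.S0647

set_option autoImplicit false
open Cfsg

namespace Cfsg.Agent.S0647

/-- For a nonempty family of maximal abelian subgroups of a finite group, the intersection of the family is the centre of the subgroup it generates, which is also the full centralizer of that subgroup. -/
theorem result {S : Type*} [Group S] [Finite S] (𝒜 : Set (Subgroup S)) (hne : 𝒜.Nonempty) (hab : ∀ A ∈ 𝒜, IsMulCommutative A) (hmax : ∀ A ∈ 𝒜, ∀ B : Subgroup S, IsMulCommutative B → A ≤ B → B = A) : sInf 𝒜 = sSup 𝒜 ⊓ Subgroup.centralizer ((sSup 𝒜 : Subgroup S) : Set S) ∧ sInf 𝒜 = Subgroup.centralizer ((sSup 𝒜 : Subgroup S) : Set S) := by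
  obtain ⟨A₀, hA₀⟩ := hne
  have h1 : sInf 𝒜 = Subgroup.centralizer ((sSup 𝒜 : Subgroup S) : Set S) := by
    apply le_antisymm
    · rw [Subgroup.le_centralizer_iff]
      refine sSup_le fun A hA => ?_
      rw [Subgroup.le_centralizer_iff]
      refine (sInf_le hA).trans ?_
      haveI := hab A hA
      exact Subgroup.le_centralizer A
    · refine le_sInf fun A hA x hx => ?_
      haveI := hab A hA
      have hAx : A ≤ Subgroup.centralizer (Subgroup.zpowers x : Set S) := by
        intro a ha
        rw [Subgroup.zpowers_eq_closure, Subgroup.centralizer_closure,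
          Subgroup.mem_centralizer_singleton_iff]
        exact Subgroup.mem_centralizer_iff.mp hx a (le_sSup hA ha)
      have hB : IsMulCommutative ↥(A ⊔ Subgroup.zpowers x) := by
        rw [← Subgroup.le_centralizer_iff_isMulCommutative]
        refine sup_le ?_ ?_
        · rw [Subgroup.le_centralizer_iff]
          exact sup_le (Subgroup.le_centralizer A) (Subgroup.le_centralizer_iff.mp hAx)
        · rw [Subgroup.le_centralizer_iff]
          exact sup_le hAx (Subgroup.le_centralizer _)
      have := hmax A hA _ hB le_sup_left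
      exact this ▸ (le_sup_right : _ ≤ A ⊔ Subgroup.zpowers x) (Subgroup.mem_zpowers x)
  refine ⟨?_, h1⟩
  rw [← h1, inf_eq_right.mpr]
  exact (sInf_le hA₀).trans (le_sSup hA₀)

end Cfsg.Agent.S0647
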