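import Cfsg.Statements.S0648
import Cfsg.Agent.Fusion.Replacement

set_option autoImplicit false
open Cfsg

namespace Cfsg.Agent.S0648

open Subgroup

open scoped commutatorElement

/-- If A acts on B centralizing [B, B], then [B, A] has derived subgroup central in B, and for abelian A and b ∈ B with [[b, A], A, A] = 1 the derived subgroup of the subgroup [b, A] generated by the commutators of b with A has exponent dividing 2. -/
theorem result {G : Type*} [Group G] [Finite G] (A B : Subgroup G) (hAB : A ≤ Subgroup.normalizer (B : Set G)) (hc : ⁅⁅B, B⁆, A⁆ = ⊥) : ⁅⁅B, A⁆, ⁅B, A⁆⁆ ≤ B ⊓ Subgroup.centralizer (B : Set G) ∧ (IsMulCommutative A → ∀ b ∈ B, ⁅⁅(Subgroup.closure {g : G | ∃ a ∈ A, g = b⁻¹ * a * b * a⁻¹}), A⁆, A⁆ = ⊥ → ∀ w ∈ ⁅(Subgroup.closure {g : G | ∃ a ∈ A, g = b⁻¹ * a * b * a⁻¹}), (Subgroup.closure {g : G | ∃ a ∈ A, g = b⁻¹ * a * b * a⁻¹})⁆, w ^ 2 = 1) := by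
  have hcent := Fusion.Replacement.commutator_derived_eq_bot hAB hc
  have hBA : ⁅B, A⁆ ≤ B := le_normalizer_iff_commutator_le_left.mp hAB
  refine ⟨fun x hx => ⟨(commutator_mono hBA hBA).trans (commutator_le_self B) hx,
    mem_centralizer_iff.mpr fun y hy =>
      (Fusion.Replacement.mul_comm_of_mem_bot hcent hx hy).eq.symm⟩, ?_⟩
  intro hA b hb h3 w hw
  have hgen : ∀ a ∈ A, ⁅b⁻¹, a⁆ ∈
      closure {g : G | ∃ a ∈ A, g = b⁻¹ * a * b * a⁻¹} := fun a ha =>
    subset_closure ⟨a, ha, by rw [commutatorElement_def, inv_inv]⟩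
  have h3' : ∀ a ∈ A, ∀ a' ∈ A, ∀ d ∈ A, Commute d ⁅a, ⁅b⁻¹, a'⁆⁆ := fun a ha a' ha' d hd => by
    have := (Fusion.Replacement.mul_comm_of_mem_bot h3
      (commutator_mem_commutator (hgen a' ha') ha) hd).symm
    rw [← commutatorElement_inv]
    exact this.inv_right
  have hsq := Fusion.Replacement.commutator_sq_eq_one hAB hc hA (Subgroup.inv_mem _ hb) h3'
  have hUB : closure {g : G | ∃ a ∈ A, g = b⁻¹ * a * b * a⁻¹} ≤ B := by
    rw [closure_le]
    rintro _ ⟨a, ha, rfl⟩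
    exact mul_assoc (b⁻¹) a b ▸ (by
      have := Fusion.Replacement.commutatorElement_mem_of_le_normalizer (Subgroup.inv_mem _ hb) (hAB ha)
      rwa [commutatorElement_def, inv_inv, mul_assoc (b⁻¹)] at this)
  let K : Subgroup G :=
    { carrier := {z | z ∈ B ∧ (∀ y ∈ B, Commute y z) ∧ z ^ 2 = 1}
      one_mem' := ⟨one_mem B, fun y _ => Commute.one_right y, one_pow 2⟩
      mul_mem' := fun {x y} ⟨hx, hxc, hx2⟩ ⟨hy, hyc, hy2⟩ => ⟨mul_mem hx hy,
        fun z hz => (hxc z hz).mul_right (hyc z hz),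
        by rw [(hyc x hx).mul_pow, hx2, hy2, one_mul]⟩
      inv_mem' := fun {x} ⟨hx, hxc, hx2⟩ => ⟨inv_mem hx, fun z hz => (hxc z hz).inv_right,
        by rw [inv_pow, hx2, inv_one]⟩ }
  have hKc : ∀ g ∈ B, ∀ z ∈ K, g * z * g⁻¹ ∈ K := fun g hg z hz => by
    rw [(hz.2.1 g hg).eq, mul_inv_cancel_right]; exact hz
  have key : ⁅closure {g : G | ∃ a ∈ A, g = b⁻¹ * a * b * a⁻¹},
      closure {g : G | ∃ a ∈ A, g = b⁻¹ * a * b * a⁻¹}⁆ ≤ K := by
    rw [commutator_le]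
    intro x hx y hy
    induction hx, hy using closure_induction₂ with
    | mem x y hx hy =>
      obtain ⟨a, ha, rfl⟩ := hx
      obtain ⟨a', ha', rfl⟩ := hy
      have e : ∀ a : G, b⁻¹ * a * b * a⁻¹ = ⁅b⁻¹, a⁆ := fun a => by
        rw [commutatorElement_def, inv_inv]
      rw [e, e]
      obtain ⟨h2, hcm⟩ := hsq a ha a' ha'
      refine ⟨?_, hcm, h2⟩
      rw [commutatorElement_def]
      have m1 := hUB (hgen a ha)
      have m2 := hUB (hgen a' ha')
      exact mul_mem (mul_mem (mul_mem m1 m2) (inv_mem m1)) (inv_mem m2)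
    | one_left x hx => rw [commutatorElement_one_left]; exact one_mem K
    | one_right x hx => rw [commutatorElement_one_right]; exact one_mem K
    | mul_left x y z hx hy hz h1 h2 =>
      rw [show ⁅x * y, z⁆ = x * ⁅y, z⁆ * x⁻¹ * ⁅x, z⁆ by simp only [commutatorElement_def]; group]
      exact mul_mem (hKc x (hUB hx) _ h2) h1
    | mul_right y z x hy hz hx h1 h2 =>
      rw [show ⁅x, y * z⁆ = ⁅x, y⁆ * (y * ⁅x, z⁆ * y⁻¹) by simp only [commutatorElement_def]; group]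
      exact mul_mem h1 (hKc y (hUB hy) _ h2)
    | inv_left x y hx hy h =>
      rw [show ⁅x⁻¹, y⁆ = x⁻¹ * ⁅x, y⁆⁻¹ * x⁻¹⁻¹ by simp only [commutatorElement_def]; group]
      exact hKc _ (hUB (inv_mem hx)) _ (inv_mem h)
    | inv_right x y hx hy h =>
      rw [show ⁅x, y⁻¹⁆ = y⁻¹ * ⁅x, y⁆⁻¹ * y⁻¹⁻¹ by simp only [commutatorElement_def]; group]
      exact hKc _ (hUB (inv_mem hy)) _ (inv_mem h)
  exact (key hw).2.2

end Cfsg.Agent.S0648
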