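import Cfsg.Statements.S0654
import Cfsg.Agent.Fusion.ZJ
import Cfsg.Agent.Fusion.ThompsonComplement

set_option autoImplicit false
open Cfsg

namespace Cfsg.Agent.S0654

/-- The ZJ-Theorem for the elementary-abelian Thompson subgroup: for an odd prime p, a finite group G with C_G(O_p(G)) ≤ O_p(G) acting p-stably on its normal p-subgroups, and a Sylow p-subgroup S of G, the subgroup generated by the elements of order dividing p in Z(J_e(S)) is characteristic in G. -/
theorem result {G : Type*} [Group G] [Finite G] {p : ℕ} [Fact p.Prime] (hp : p ≠ 2) (hc : Subgroup.centralizer (Cfsg.pCore p G : Set G) ≤ Cfsg.pCore p G) (hst : ∀ (P : Subgroup G) [P.Normal], IsPGroup p P → Cfsg.IsPStableOn p P) (S : Sylow p G) : ((Cfsg.omegaCenterThompson p ↥(S : Subgroup G)).map (S : Subgroup G).subtype).Characteristic := by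
  have e1 : (Cfsg.omegaCenterThompson p ↥(S : Subgroup G)).map (S : Subgroup G).subtype =
      Cfsg.omegaOne p (Cfsg.centerThompsonOf p (S : Subgroup G)) := by
    have e2 : (Cfsg.thompsonSubgroup p ↥(S : Subgroup G) ⊓
        Subgroup.centralizer (Cfsg.thompsonSubgroup p ↥(S : Subgroup G) : Set _)).map
          (S : Subgroup G).subtype = Cfsg.centerThompsonOf p (S : Subgroup G) :=
      Fusion.map_inf_centralizer_of_inf_ker _ (by rw [Subgroup.ker_subtype, inf_bot_eq])
    rw [Cfsg.omegaCenterThompson, ← e2, Cfsg.omegaOne, Cfsg.omegaOne, MonoidHom.map_closure]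
    congr 1
    ext y
    constructor
    · rintro ⟨x, ⟨hx, hxp⟩, rfl⟩
      exact ⟨Subgroup.mem_map_of_mem _ hx, by rw [← map_pow, hxp, map_one]⟩
    · rintro ⟨⟨x, hx, rfl⟩, hxp⟩
      exact ⟨x, ⟨hx, Subtype.ext (by simpa using hxp)⟩, rfl⟩
  rw [e1, Fusion.omegaOne_centerThompsonOf_eq_zInter]
  exact Fusion.characteristic_zInter hp (Or.inr ((Fact.out : p.Prime).odd_of_ne_two hp))
    (Fusion.pStableNormal_of_isPStableOn hst) hc S

end Cfsg.Agent.S0654
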