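import Cfsg.Statements.S0655
import Cfsg.Agent.Thompson.Basic

set_option autoImplicit false
open Cfsg

namespace Cfsg.Agent.S0655

/-- In a p-group the intersection of all elementary abelian subgroups of largest order is the subgroup generated by the elements of order dividing p in the centre (equivalently the centralizer) of the elementary-version Thompson subgroup. -/
theorem result {S : Type*} [Group S] [Finite S] {p : ℕ} [Fact p.Prime] (hS : IsPGroup p S) : sInf (Cfsg.maxElementaryAbelianSubgroups p S) = Cfsg.omegaCenterThompson p S ∧ Cfsg.omegaCenterThompson p S = Cfsg.omegaOne p (Subgroup.centralizer (Cfsg.thompsonSubgroup p S : Set S)) := by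
  have hcle : sInf (Cfsg.maxElementaryAbelianSubgroups p S) ≤
      Subgroup.centralizer (Cfsg.thompsonSubgroup p S : Set S) := by
    rw [Subgroup.le_centralizer_iff]
    refine sSup_le fun A hA => ?_
    rw [Subgroup.le_centralizer_iff]
    exact le_trans (sInf_le hA) (Thompson.ea_iff.1 hA.1).1
  obtain ⟨A₀, hA₀⟩ := Thompson.exists_maxEA p S
  have hcent : Cfsg.omegaOne p (Subgroup.centralizer (Cfsg.thompsonSubgroup p S : Set S)) ≤
      sInf (Cfsg.maxElementaryAbelianSubgroups p S) :=
    le_sInf fun A hA => (Subgroup.closure_le _).2 fun x hx =>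
      Thompson.mem_thompson_of_centralizes hx.2 hx.1 A hA
  have hle : sInf (Cfsg.maxElementaryAbelianSubgroups p S) ≤ Cfsg.omegaCenterThompson p S :=
    fun x hx => Thompson.mem_omegaOne ⟨Thompson.le_thompson hA₀ (sInf_le hA₀ hx), hcle hx⟩
      (hA₀.1.2 x (sInf_le hA₀ hx))
  have hle2 : Cfsg.omegaCenterThompson p S ≤
      Cfsg.omegaOne p (Subgroup.centralizer (Cfsg.thompsonSubgroup p S : Set S)) :=
    Thompson.omegaOne_mono inf_le_right
  exact ⟨le_antisymm hle (hle2.trans hcent), le_antisymm hle2 (hcent.trans hle)⟩

end Cfsg.Agent.S0655
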