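import Cfsg.Statements.S0657
import Cfsg.Agent.QdFree.PStable

set_option autoImplicit false
open Cfsg

namespace Cfsg.Agent.S0657

/-- For odd p, a group that fails to be p-stable modulo its largest normal subgroup of order prime to p, and whose upper p-series does not stop there, has a section isomorphic to SL(2, p). -/
theorem result {G : Type*} [Group G] [Finite G] {p : ℕ} [Fact p.Prime] (hp : p ≠ 2) (hO : Cfsg.pPrimeCore p G < Cfsg.pPrimePCore p G) (hns : ¬ Cfsg.IsPStable p (G ⧸ Cfsg.pPrimeCore p G)) : ∃ (K L : Subgroup G) (hL : (L.subgroupOf K).Normal), K ≤ ⊤ ∧ Nonempty ((K ⧸ L.subgroupOf K) ≃* Matrix.SpecialLinearGroup (Fin 2) (ZMod p)) := by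
  by_contra hcon
  set Y := G ⧸ Cfsg.pPrimeCore p G
  have hfree : ¬ Cfsg.Involves (Matrix.SpecialLinearGroup (Fin 2) (ZMod p)) G := by
    rintro ⟨K, L, hL, he⟩
    exact hcon ⟨K, L, hL, le_top, he⟩
  have hst : Cfsg.IsNormalizerPStable p Y := QdFree.isNormalizerPStable_of_free hp fun P _ _ h =>
    hfree (QdFree.involves_of_surjective (QdFree.involves_of_subgroup h)
      (QuotientGroup.mk'_surjective _))
  refine hns ⟨(Fact.out : p.Prime).odd_of_ne_two hp, fun h => hO.not_ge ?_, ?_⟩
  · show (Cfsg.pCore p Y).comap (QuotientGroup.mk' _) ≤ _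
    rw [h, MonoidHom.comap_bot, QuotientGroup.ker_mk']
  intro A P hA hP hAP hPle hn hq
  rintro _ ⟨⟨a, ha⟩, haA, rfl⟩
  exact hst P hP a ha (le_bot_iff.mp (le_trans
    (Subgroup.commutator_mono (Subgroup.commutator_mono le_rfl (Subgroup.zpowers_le.mpr haA))
      (Subgroup.zpowers_le.mpr haA)) hq.le))

end Cfsg.Agent.S0657
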