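import Cfsg.Statements.S0658
import Cfsg.Agent.Fusion.LocalZ

set_option autoImplicit false
open Cfsg

namespace Cfsg.Agent.S0658

/-- In a group of characteristic p type all of whose p-locals are p-stable (p odd), the normalizer of Z(J(P)) contains the normalizer of every nontrivial subgroup of the Sylow p-subgroup P. -/
theorem result {G : Type*} [Group G] [Finite G] {p : ℕ} [Fact p.Prime] (hp : p ≠ 2) (hloc : ∀ Q : Subgroup G, IsPGroup p Q → Q ≠ ⊥ → Cfsg.pPrimeCore p ↥(Subgroup.normalizer (Q : Set G)) = ⊥ ∧ Cfsg.IsPConstrained p ↥(Subgroup.normalizer (Q : Set G)) ∧ Cfsg.IsPStable p ↥(Subgroup.normalizer (Q : Set G))) (P : Sylow p G) (Q : Subgroup G) (hQP : Q ≤ (P : Subgroup G)) (hQ1 : Q ≠ ⊥) : Subgroup.normalizer (Q : Set G) ≤ Subgroup.normalizer (Cfsg.centerThompsonAOf ((P : Subgroup G)) : Set G) := by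
  rw [Fusion.centerThompsonAOf_eq_zInter]
  have hD := Fusion.isStronglyClosed_self P
  have hW := Fusion.isConjugacyFunctor_zFun (G := G) (p := p) (dvd_zero p) (P : Subgroup G)
  rcases eq_or_ne (P : Subgroup G) ⊥ with h1 | h1
  · exact absurd (le_bot_iff.mp (h1 ▸ hQP)) hQ1
  rw [← Fusion.zFun_sylow P hD h1 (e := 0)]
  refine Fusion.normalizer_le_of_local hW P (fun Q T hQ hQ1 hT => ?_) Q hQP hQ1
  obtain ⟨h0, hc, hs⟩ := hloc Q hQ hQ1
  refine Fusion.le_normalizer_zFun hp (Or.inl rfl) P hD hT (Fusion.pStableNormal_of_isPStable hs) ?_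
  have h2 := Layer.isPConstrained_iff_selfCentral.mp hc
  exact Layer.pCoreSelfCentral_congr
    ((QuotientGroup.quotientMulEquivOfEq h0).trans QuotientGroup.quotientBot) h2

end Cfsg.Agent.S0658
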