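import Cfsg.Statements.S0661
import Cfsg.Agent.Layer.PConstraint

set_option autoImplicit false
open Cfsg

namespace Cfsg.Agent.S0661

/-- If, modulo the largest normal subgroup of order prime to p, the largest normal p-subgroup contains its centralizer, then for every p-subgroup P the p'-core of N_G(P) is just O_p'(G) ∩ N_G(P). -/
theorem result {G : Type*} [Group G] [Finite G] {p : ℕ} [Fact p.Prime] (hc : Subgroup.centralizer (Cfsg.pCore p (G ⧸ Cfsg.pPrimeCore p G) : Set (G ⧸ Cfsg.pPrimeCore p G)) ≤ Cfsg.pCore p (G ⧸ Cfsg.pPrimeCore p G)) (P : Subgroup G) (hP : IsPGroup p P) : (Cfsg.pPrimeCore p ↥(Subgroup.normalizer (P : Set G))).map (Subgroup.normalizer (P : Set G)).subtype = Cfsg.pPrimeCore p G ⊓ Subgroup.normalizer (P : Set G) := by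
  have h : Cfsg.IsPConstrained p G := Layer.isPConstrained_iff_selfCentral.mpr hc
  refine le_antisymm (le_inf (Layer.pPrimeCore_normalizer_le h hP) (Subgroup.map_subtype_le _)) ?_
  intro x hx
  refine ⟨⟨x, hx.2⟩, Core.le_pPrimeCore (N := (pPrimeCore p G).subgroupOf _) ?_ hx.1, rfl⟩
  exact Core.coprime_card_pPrimeCore.coprime_dvd_left
    (Subgroup.card_comap_dvd_of_injective _ _ (Subgroup.subtype_injective _))

end Cfsg.Agent.S0661
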