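import Cfsg.Statements.S0662
import Cfsg.Agent.MaxClass.OddP
import Cfsg.Agent.PIndex.Basic

set_option autoImplicit false
open Cfsg

namespace Cfsg.Agent.S0662

open Subgroup in
/-- In a group of order `p ^ r`, `r ≥ 2`, the term `r - 1` of the lower central series is trivial. -/
theorem lcs_eq_bot {Q : Type*} [Group Q] [Finite Q] {p : ℕ} [Fact p.Prime] {r : ℕ}
    (hQ : Nat.card Q = p ^ r) (hr : 2 ≤ r) : (⊤ : Subgroup Q).lowerCentralSeries (r - 1) = ⊥ := by
  by_contra hne
  have hpp : p.Prime := Fact.out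
  have hP : IsPGroup p Q := IsPGroup.of_card hQ
  set γ := (⊤ : Subgroup Q).lowerCentralSeries with hγ
  have hne' : ∀ j, j ≤ r - 1 → γ j ≠ ⊥ := fun j hj e =>
    hne (le_bot_iff.1 ((Subgroup.lowerCentralSeries_antitone _ hj).trans e.le))
  have hbound : ∀ d, d ≤ r - 2 → p ^ (1 + d) ≤ Nat.card (γ (r - 1 - d)) := by
    intro d hd
    induction d with
    | zero =>
      obtain ⟨k, hk⟩ := IsPGroup.iff_card.1 (hP.to_subgroup (γ (r - 1)))
      rcases k with - | k
      · exact absurd (card_eq_one.1 (by rw [hk, pow_zero])) hne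
      · rw [Nat.sub_zero, hk]; exact Nat.pow_le_pow_right hpp.pos (by omega)
    | succ d ih =>
      have h1 := MaxClass.lcs_step hP (r - 1 - (d + 1)) (hne' _ (by omega))
      rw [show r - 1 - (d + 1) + 1 = r - 1 - d by omega] at h1
      calc p ^ (1 + (d + 1)) = p * p ^ (1 + d) := by rw [← pow_succ', Nat.add_assoc]
        _ ≤ p * Nat.card (γ (r - 1 - d)) := Nat.mul_le_mul_left p (ih (by omega))
        _ ≤ _ := h1
  have h1 := hbound (r - 2) le_rfl
  rw [show r - 1 - (r - 2) = 1 by omega, show 1 + (r - 2) = r - 1 by omega] at h1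
  have h2 : γ 1 = commutator Q := Subgroup.top_lowerCentralSeries_one
  have hc : commutator Q ≠ ⊥ := h2 ▸ hne' 1 (by omega)
  have h3 := Nat.le_of_dvd (Nat.pos_of_ne_zero index_ne_zero_of_finite) (MaxClass.sq_dvd_index_commutator hP hc)
  have h4 := (commutator Q).card_mul_index
  rw [hQ] at h4
  have h5 : p ^ (r - 1) * p ^ 2 ≤ p ^ r := h4 ▸ Nat.mul_le_mul (h2 ▸ h1) h3
  rw [← pow_add] at h5
  have := (Nat.pow_le_pow_iff_right hpp.one_lt).1 h5
  omega

/-- In a p-group of maximal class of order at least p³ the normal subgroups of index at least p² are exactly the terms of the lower central series, and there are exactly p + 1 normal subgroups of index p. -/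
theorem result {G : Type*} [Group G] [Finite G] {p : ℕ} [Fact p.Prime] (n : ℕ) (hG : Nat.card G = p ^ n) (hcl : Group.nilpotencyClass G = n - 1) (hn : 3 ≤ n) : (∀ (N : Subgroup G) [N.Normal] (r : ℕ), 2 ≤ r → N.index = p ^ r → N = (⊤ : Subgroup G).lowerCentralSeries (r - 1)) ∧ Nat.card {N : Subgroup G // N.Normal ∧ N.index = p} = p + 1 := by
  open Subgroup in
  have hpp : p.Prime := Fact.out
  have hP : IsPGroup p G := IsPGroup.of_card hG
  haveI := hP.isNilpotent
  set γ := (⊤ : Subgroup G).lowerCentralSeries with hγ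
  have hne : ∀ i, i ≤ n - 2 → γ i ≠ ⊥ := fun i hi e => by
    have h1 : Group.nilpotencyClass G ≤ i := _root_.lowerCentralSeries_eq_bot_iff_nilpotencyClass_le.1 e
    omega
  have h1eq : γ 1 = commutator G := Subgroup.top_lowerCentralSeries_one
  have hlow : ∀ d, d ≤ n - 2 → p ^ d ≤ Nat.card (γ (n - 1 - d)) := by
    intro d hd
    induction d with
    | zero => rw [pow_zero]; exact Nat.card_pos
    | succ d ih =>
      have h1 := MaxClass.lcs_step hP (n - 1 - (d + 1)) (hne _ (by omega))
      rw [show n - 1 - (d + 1) + 1 = n - 1 - d by omega] at h1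
      calc p ^ (d + 1) = p * p ^ d := pow_succ' p d
        _ ≤ p * Nat.card (γ (n - 1 - d)) := Nat.mul_le_mul_left p (ih (by omega))
        _ ≤ _ := h1
  have hup : ∀ i, 1 ≤ i → i ≤ n - 1 → Nat.card (γ i) * p ^ (i + 1) ≤ p ^ n := by
    intro i hi hin
    induction i, hi using Nat.le_induction with
    | base =>
      rw [← hG, h1eq, ← (commutator G).card_mul_index]
      exact Nat.mul_le_mul_left _ (Nat.le_of_dvd (Nat.pos_of_ne_zero index_ne_zero_of_finite)
        (MaxClass.sq_dvd_index_commutator hP (h1eq ▸ hne 1 (by omega))))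
    | succ i hi ih =>
      have h1 := MaxClass.lcs_step hP i (hne i (by omega))
      calc Nat.card (γ (i + 1)) * p ^ (i + 1 + 1) = p * Nat.card (γ (i + 1)) * p ^ (i + 1) := by ring
        _ ≤ Nat.card (γ i) * p ^ (i + 1) := Nat.mul_le_mul_right _ h1
        _ ≤ p ^ n := ih (by omega)
  have hcard : ∀ i, 1 ≤ i → i ≤ n - 1 → Nat.card (γ i) * p ^ (i + 1) = p ^ n := by
    intro i hi hin
    refine le_antisymm (hup i hi hin) ?_
    have h := hlow (n - 1 - i) (by omega)
    rw [show n - 1 - (n - 1 - i) = i by omega] at h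
    calc p ^ n = p ^ (n - 1 - i) * p ^ (i + 1) := by rw [← pow_add]; congr 1; omega
      _ ≤ _ := Nat.mul_le_mul_right _ h
  refine ⟨fun N _ r hr hNi => ?_, ?_⟩
  · have hrn : r ≤ n := (Nat.pow_dvd_pow_iff_le_right hpp.one_lt).1 (hNi ▸ hG ▸ N.index_dvd_card)
    have hle : γ (r - 1) ≤ N := by
      have hbot := lcs_eq_bot (Q := G ⧸ N) (p := p) (r := r) (by rw [← Subgroup.index_eq_card, hNi]) hr
      have hm := Subgroup.map_lowerCentralSeries (⊤ : Subgroup G) (QuotientGroup.mk' N) (r - 1)
      rw [Subgroup.map_top_of_surjective _ (QuotientGroup.mk'_surjective N), hbot] at hm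
      rwa [Subgroup.map_eq_bot_iff, QuotientGroup.ker_mk'] at hm
    refine (Subgroup.eq_of_le_of_card_ge hle ?_).symm
    have h1 := hcard (r - 1) (by omega) (by omega)
    have h2 := N.card_mul_index
    rw [hNi, hG, ← h1, show r - 1 + 1 = r by omega] at h2
    exact (Nat.eq_of_mul_eq_mul_right (pow_pos hpp.pos r) h2).le
  · set D := commutator G with hD
    have hDi : D.index = p ^ 2 := by
      have h1 := hcard 1 le_rfl (by omega)
      rw [h1eq, ← hG, ← D.card_mul_index] at h1
      exact (Nat.eq_of_mul_eq_mul_left Nat.card_pos h1).symm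
    have hQc : Nat.card (G ⧸ D) = p ^ 2 := by rw [← Subgroup.index_eq_card, hDi]
    have hexp : ∀ v : G ⧸ D, v ^ p = 1 := by
      intro v
      obtain ⟨j, hj, hj'⟩ := (Nat.dvd_prime_pow hpp).1 (hQc ▸ orderOf_dvd_natCard v)
      have hj2 : j ≠ 2 := fun e => MaxClass.not_isCyclic_quotient_commutator hP
        (fun e' => hne 1 (by omega) (h1eq.trans e')) (isCyclic_of_orderOf_eq_card v (by rw [hj', e, hQc]))
      refine orderOf_dvd_iff_pow_eq_one.1 ?_
      rw [hj']
      exact (pow_dvd_pow p (show j ≤ 1 by omega)).trans (pow_one p).dvd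
    rw [← PIndex.card_subgroups_prime hexp hQc]
    have hle : ∀ N : Subgroup G, N.Normal → N.index = p → D ≤ N := by
      intro N hN hNi
      haveI := hN
      haveI : IsCyclic (G ⧸ N) := isCyclic_of_prime_card (p := p) (by rw [← Subgroup.index_eq_card, hNi])
      exact Subgroup.Normal.quotient_commutative_iff_commutator_le.1 IsCyclic.isMulCommutative
    have hmapc : ∀ N : Subgroup G, D ≤ N → Nat.card (N.map (QuotientGroup.mk' D)) * N.index = p ^ 2 := by
      intro N hN
      rw [← Subgroup.relIndex_ker, QuotientGroup.ker_mk', Subgroup.relIndex_mul_index hN, hDi]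
    refine Nat.card_congr ⟨fun N => ⟨N.1.map (QuotientGroup.mk' D), ?_⟩,
      fun K => ⟨K.1.comap (QuotientGroup.mk' D), ?_, ?_⟩, fun N => ?_, fun K => ?_⟩
    · have h := hmapc N.1 (hle N.1 N.2.1 N.2.2)
      rw [N.2.2, pow_two] at h
      exact Nat.eq_of_mul_eq_mul_right hpp.pos h
    · haveI := IsPGroup.isMulCommutative_of_card_eq_prime_sq hQc
      haveI : K.1.Normal := ⟨fun a ha g => by
        rw [IsMulCommutative.is_comm.comm g a, mul_inv_cancel_right]; exact ha⟩
      infer_instance
    · have h := hmapc (K.1.comap (QuotientGroup.mk' D))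
        (le_trans (QuotientGroup.ker_mk' D).ge (Subgroup.comap_mono bot_le))
      rw [Subgroup.map_comap_eq_self_of_surjective (QuotientGroup.mk'_surjective D), K.2, pow_two] at h
      exact Nat.eq_of_mul_eq_mul_left hpp.pos h
    · exact Subtype.ext (by
        show (N.1.map _).comap _ = N.1
        rw [Subgroup.comap_map_eq, QuotientGroup.ker_mk', sup_eq_left.2 (hle N.1 N.2.1 N.2.2)])
    · exact Subtype.ext (Subgroup.map_comap_eq_self_of_surjective (QuotientGroup.mk'_surjective D) K.1)

end Cfsg.Agent.S0662
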