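import Cfsg.Statements.S0663
import Cfsg.Agent.Fusion.PGroup
import Cfsg.Agent.Coprime.Basic

set_option autoImplicit false
open Cfsg

namespace Cfsg.Agent.S0663

open Subgroup in
theorem exists_invariant_index_prime {L : Type*} [Group L] [Finite L] {p : ℕ} [Fact p.Prime] {K P : Subgroup L}
    (hP : IsPGroup p P) (hKP : K ≤ P) (hK : P ≤ normalizer (K : Set L)) {j : ℕ} (hc : Nat.card K = p ^ (j + 1)) :
    ∃ D : Subgroup L, D ≤ K ∧ P ≤ normalizer (D : Set L) ∧ Nat.card D = p ^ j ∧ ⁅K, P⁆ ≤ D := by
  have hKn : (K.subgroupOf P).Normal := (normal_subgroupOf_iff_le_normalizer hKP).2 hK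
  have hc' : Nat.card (K.subgroupOf P) = p ^ (j + 1) :=
    (Nat.card_congr (subgroupOfEquivOfLe hKP).toEquiv).trans hc
  obtain ⟨D₀, hD₀, hD₀K, hD₀c⟩ := Fusion.exists_normal_le_card_eq hP (K.subgroupOf P) (i := j)
    (hc'.symm ▸ Nat.pow_le_pow_right (Fact.out : p.Prime).pos j.le_succ)
  have hlt : D₀ < K.subgroupOf P := lt_of_le_of_ne hD₀K fun e => by
    rw [e, hc'] at hD₀c
    have := Nat.pow_right_injective (Fact.out : p.Prime).two_le hD₀c
    omega
  obtain ⟨M, -, -, hMK, hMc, hM⟩ := Fusion.exists_normal_card_succ hP D₀ (K.subgroupOf P) hlt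
  have hMeq : M = K.subgroupOf P := eq_of_le_of_card_ge hMK (by rw [hMc, hD₀c, hc', pow_succ'])
  subst hMeq
  have hle : D₀.map P.subtype ≤ K := by
    rintro _ ⟨x, hx, rfl⟩
    exact mem_subgroupOf.1 (hD₀K hx)
  refine ⟨D₀.map P.subtype, hle, fun g hg => ?_, ?_, ?_⟩
  · rw [mem_normalizer_iff]
    intro x
    constructor
    · rintro ⟨y, hy, rfl⟩
      exact ⟨⟨g, hg⟩ * y * ⟨g, hg⟩⁻¹, Normal.conj_mem hD₀ y hy _, rfl⟩
    · rintro ⟨y, hy, he⟩
      refine ⟨⟨g, hg⟩⁻¹ * y * ⟨g, hg⟩⁻¹⁻¹, Normal.conj_mem hD₀ y hy _, ?_⟩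
      have he' : (y : L) = g * x * g⁻¹ := he
      show g⁻¹ * (y : L) * g⁻¹⁻¹ = x
      rw [he']; group
  · rw [Nat.card_congr (D₀.equivMapOfInjective P.subtype P.subtype_injective).symm.toEquiv, hD₀c]
  · rw [commutator_le]
    intro k hk g hg
    exact ⟨_, hM (commutator_mem_commutator (mem_subgroupOf.2 hk : (⟨k, hKP hk⟩ : P) ∈ K.subgroupOf P)
      (mem_top (⟨g, hg⟩ : P))), rfl⟩

/-- A p-group acts uniserially on a p-group N of order p^n exactly when the iterated commutator chain from N has length n; in that case the chain terms are all the invariant subgroups of N and they are normal in N. -/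
theorem result {L : Type*} [Group L] [Finite L] {p : ℕ} [Fact p.Prime] (N G : Subgroup L) (hN : IsPGroup p N) (hG : IsPGroup p G) (hGN : G ≤ Subgroup.normalizer (N : Set L)) (n : ℕ) (hn : Nat.card N = p ^ n) : ((∀ H : Subgroup L, H ≤ N → G ≤ Subgroup.normalizer (H : Set L) → H ≠ ⊥ → (⁅H, G⁆).relIndex H = p) ↔ Cfsg.iterCommutator N G (n - 1) ≠ ⊥ ∨ n = 0) ∧ ((∀ H : Subgroup L, H ≤ N → G ≤ Subgroup.normalizer (H : Set L) → H ≠ ⊥ → (⁅H, G⁆).relIndex H = p) → ∀ H : Subgroup L, H ≤ N → G ≤ Subgroup.normalizer (H : Set L) → (∃ i ≤ n, H = Cfsg.iterCommutator N G i) ∧ N ≤ Subgroup.normalizer (H : Set L)) := by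
  open Subgroup in open scoped commutatorElement in
  classical
  have hp := (Fact.out : p.Prime)
  set C := Cfsg.iterCommutator N G with hC
  have hC0 : C 0 = N := rfl
  have hCs : ∀ i, C (i + 1) = ⁅C i, G⁆ := fun i => rfl
  have hinv : ∀ i, C i ≤ N ∧ G ≤ normalizer (C i : Set L) := by
    intro i
    induction i with
    | zero => exact ⟨le_rfl, hGN⟩
    | succ i ih =>
      rw [hCs]
      exact ⟨(Coprime.commutator_le_of_le_normalizer ih.2).trans ih.1, Subgroup.normalizer_commutator_ge_right _ _⟩
  have hlt : ∀ i, C i ≠ ⊥ → p * Nat.card (C (i + 1)) ≤ Nat.card (C i) := by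
    intro i hne
    rw [hCs]
    have h := Coprime.commutator_lt_of_isPGroup hG (hN.to_le (hinv i).1) (hinv i).2 hne
    obtain ⟨a, ha⟩ := IsPGroup.iff_card.1 (hN.to_le (h.le.trans (hinv i).1))
    obtain ⟨b, hb⟩ := IsPGroup.iff_card.1 (hN.to_le (hinv i).1)
    have h2 : Nat.card (⁅C i, G⁆ : Subgroup L) < Nat.card (C i) :=
      lt_of_le_of_ne (Subgroup.card_le_of_le h.le) fun e => h.ne (eq_of_le_of_card_ge h.le e.ge)
    rw [ha, hb] at h2 ⊢
    rw [← pow_succ']
    exact Nat.pow_le_pow_right hp.pos ((Nat.pow_lt_pow_iff_right hp.one_lt).1 h2)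
  have hle : ∀ i ≤ n, p ^ i * Nat.card (C i) ≤ p ^ n ∨ C i = ⊥ := by
    intro i
    induction i with
    | zero => intro _; left; rw [hC0, hn]; simp
    | succ i ih =>
      intro hi
      by_cases hb : C i = ⊥
      · right; rw [hCs, hb]; exact Subgroup.commutator_bot_left G
      · rcases ih (by omega) with h | h
        · left
          rw [pow_succ, mul_assoc]
          exact (Nat.mul_le_mul_left _ (hlt i hb)).trans h
        · exact absurd h hb
  set P := N ⊔ G with hPdef
  have hP : IsPGroup p P := hN.to_sup_of_normal_left' hG hGN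
  -- under a nontrivial last term all orders are exact and all terms are normal in `P`
  have hmain : (C (n - 1) ≠ ⊥ ∨ n = 0) → ∀ i ≤ n, Nat.card (C i) = p ^ (n - i) ∧ P ≤ normalizer (C i : Set L) := by
    intro hne i
    induction i with
    | zero =>
      intro _
      rw [hC0, Nat.sub_zero]
      exact ⟨hn, sup_le le_normalizer hGN⟩
    | succ i ih =>
      intro hi
      obtain ⟨hci, hPi⟩ := ih (by omega)
      have hne' : C (n - 1) ≠ ⊥ := hne.resolve_right (by omega)
      obtain ⟨D, hDC, hPD, hDc, hCD⟩ := exists_invariant_index_prime hP ((hinv i).1.trans le_sup_left) hPi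
        (j := n - (i + 1)) (by rw [hci]; congr 1; omega)
      have hsub : C (i + 1) ≤ D := (Subgroup.commutator_mono le_rfl le_sup_right).trans hCD
      -- later terms descend by at least `p` each
      have hdesc : ∀ k, i + 1 + k ≤ n - 1 → p ^ k * Nat.card (C (i + 1 + k)) ≤ Nat.card (C (i + 1)) := by
        intro k
        induction k with
        | zero => intro _; simp
        | succ k ihk =>
          intro hk
          have hne1 : C (i + 1 + k) ≠ ⊥ := fun hb => by
            apply hne'
            have : ∀ d, C (i + 1 + k + d) = ⊥ := by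
              intro d
              induction d with
              | zero => exact hb
              | succ d ihd => rw [← add_assoc, hCs, ihd]; exact Subgroup.commutator_bot_left G
            obtain ⟨d, hd⟩ := Nat.exists_eq_add_of_le (show i + 1 + k ≤ n - 1 by omega)
            rw [hd]; exact this d
          rw [pow_succ, mul_assoc]
          exact (Nat.mul_le_mul_left _ (hlt _ hne1)).trans (ihk (by omega))
      have hlow : p ^ (n - (i + 1)) ≤ Nat.card (C (i + 1)) := by
        rcases Nat.eq_or_lt_of_le hi with he | hi'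
        · rw [he, Nat.sub_self, pow_zero]; exact Nat.card_pos
        · have h1 := hdesc (n - 1 - (i + 1)) (by omega)
          rw [show i + 1 + (n - 1 - (i + 1)) = n - 1 by omega] at h1
          refine le_trans ?_ h1
          rw [show n - (i + 1) = (n - 1 - (i + 1)) + 1 by omega, pow_succ]
          refine Nat.mul_le_mul_left _ ?_
          rcases (hN.to_le (hinv (n - 1)).1).card_eq_or_dvd with h | h
          · exact absurd (Subgroup.card_eq_one.1 h) hne'
          · exact Nat.le_of_dvd Nat.card_pos h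
      have he : C (i + 1) = D := eq_of_le_of_card_ge hsub (hDc ▸ hlow)
      exact ⟨he ▸ hDc, he ▸ hPD⟩
  -- under the same hypothesis the terms are all the invariant subgroups
  have huniq : (C (n - 1) ≠ ⊥ ∨ n = 0) → ∀ H : Subgroup L, H ≤ N → G ≤ normalizer (H : Set L) →
      ∃ i ≤ n, H = C i := by
    intro hne H hHN hHG
    have hCn : C n = ⊥ := Subgroup.card_eq_one.1 (by rw [(hmain hne n le_rfl).1, Nat.sub_self, pow_zero])
    obtain ⟨i, hin, hi, hmax⟩ : ∃ i ≤ n, H ≤ C i ∧ ∀ k ≤ n, H ≤ C k → k ≤ i :=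
      ⟨Nat.findGreatest (fun k => H ≤ C k) n, Nat.findGreatest_le n,
        Nat.findGreatest_spec (P := fun k => H ≤ C k) (m := 0) (Nat.zero_le n) (by rw [hC0]; exact hHN),
        fun k hk hk' => Nat.le_findGreatest hk hk'⟩
    rcases Nat.eq_or_lt_of_le hin with he | hlt'
    · subst he
      exact ⟨i, le_rfl, le_antisymm hi (hCn.le.trans bot_le)⟩
    refine ⟨i, hin, le_antisymm hi ?_⟩
    have hsup : ∀ k, i + 1 ≤ k → k ≤ n → C i ≤ H ⊔ C k := by
      intro k hk
      induction k, hk using Nat.le_induction with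
      | base =>
        intro hk
        have hle' : H ⊔ C (i + 1) ≤ C i := sup_le hi (by rw [hCs]; exact Coprime.commutator_le_of_le_normalizer (hinv i).2)
        refine (eq_of_le_of_card_ge hle' ?_).ge
        have h1 : C (i + 1) < H ⊔ C (i + 1) := lt_of_le_of_ne le_sup_right fun e => by
          have := hmax (i + 1) hk (e ▸ le_sup_left)
          omega
        obtain ⟨a, ha⟩ := IsPGroup.iff_card.1 (hN.to_le (hle'.trans (hinv i).1))
        have h2 : Nat.card (C (i + 1)) < Nat.card (H ⊔ C (i + 1) : Subgroup L) :=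
          lt_of_le_of_ne (Subgroup.card_le_of_le h1.le) fun e => h1.ne (eq_of_le_of_card_ge h1.le e.ge)
        rw [(hmain hne (i + 1) hk).1, ha] at h2
        rw [(hmain hne i (by omega)).1, ha]
        exact Nat.pow_le_pow_right hp.pos (by
          have := (Nat.pow_lt_pow_iff_right hp.one_lt).1 h2
          omega)
      | succ k hk ih =>
        intro hk'
        refine (ih (by omega)).trans (sup_le le_sup_left ?_)
        -- `C k = [C (k-1), G]` is contained in `H ⊔ C (k+1)`
        obtain ⟨k', rfl⟩ : ∃ k', k = k' + 1 := ⟨k - 1, by omega⟩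
        have hk'' : C k' ≤ H ⊔ C (k' + 1) := by
          have hanti : ∀ d, C (i + d) ≤ C i := by
            intro d
            induction d with
            | zero => exact le_rfl
            | succ d ihd => rw [← add_assoc, hCs]; exact (Coprime.commutator_le_of_le_normalizer (hinv _).2).trans ihd
          obtain ⟨d, hd⟩ := Nat.exists_eq_add_of_le (show i ≤ k' by omega)
          exact hd ▸ (hanti d).trans (hd ▸ ih (by omega))
        rw [hCs k', commutator_le]
        intro u hu g hg
        have hnor : (H : Subgroup L) ≤ normalizer (C (k' + 1) : Set L) :=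
          (hHN.trans le_sup_left).trans (hmain hne (k' + 1) (by omega)).2
        obtain ⟨h, hh, c, hc, rfl⟩ : ∃ h ∈ H, ∃ c ∈ C (k' + 1), h * c = u := by
          have hu' : u ∈ (H ⊔ C (k' + 1) : Subgroup L) := hk'' hu
          rw [sup_comm, Coprime.mem_sup_of_le_normalizer hnor] at hu'
          obtain ⟨c, hc, h, hh, rfl⟩ := hu'
          exact ⟨h, hh, h⁻¹ * c * h, (mem_normalizer_iff''.1 (hnor hh) c).1 hc, by group⟩
        have e : ⁅h * c, g⁆ = (h * ⁅c, g⁆ * h⁻¹) * ⁅h, g⁆ := by simp [commutatorElement_def, mul_assoc]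
        rw [e]
        refine mul_mem (mem_sup_right ?_) (mem_sup_left (Coprime.commutator_le_of_le_normalizer hHG
          (commutator_mem_commutator hh hg)))
        exact (mem_normalizer_iff.1 (((hHN.trans le_sup_left).trans (hmain hne (k' + 2) (by omega)).2) hh) _).1
          (by rw [hCs (k' + 1)]; exact commutator_mem_commutator hc hg)
    have := hsup n (by omega) le_rfl
    rwa [hCn, sup_bot_eq] at this
  have hchain : (∀ H : Subgroup L, H ≤ N → G ≤ normalizer (H : Set L) → H ≠ ⊥ → (⁅H, G⁆).relIndex H = p) →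
      C (n - 1) ≠ ⊥ ∨ n = 0 := by
    intro huni
    rcases Nat.eq_zero_or_pos n with h | hn0
    · exact Or.inr h
    left
    have : ∀ i ≤ n, Nat.card (C i) = p ^ (n - i) := by
      intro i
      induction i with
      | zero => intro _; rw [hC0, hn, Nat.sub_zero]
      | succ i ih =>
        intro hi
        have h := ih (by omega)
        have hne : C i ≠ ⊥ := fun hb => by
          rw [hb, Subgroup.card_bot] at h
          have := Nat.one_lt_pow (show n - i ≠ 0 by omega) hp.one_lt
          omega
        have h2 := huni (C i) (hinv i).1 (hinv i).2 hne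
        have h3 : Nat.card (C (i + 1)) * p = Nat.card (C i) := by
          rw [← h2, ← relIndex_bot_left, ← relIndex_bot_left (H := C i)]
          exact relIndex_mul_relIndex _ _ _ bot_le (Coprime.commutator_le_of_le_normalizer (hinv i).2)
        rw [h, show n - i = (n - (i + 1)) + 1 by omega, pow_succ] at h3
        exact Nat.eq_of_mul_eq_mul_right hp.pos h3
    intro hb
    have h := this (n - 1) (by omega)
    rw [hb, Subgroup.card_bot, show n - (n - 1) = 1 by omega, pow_one] at h
    exact hp.ne_one h.symm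
  refine ⟨⟨hchain, fun hne H hHN hHG hH1 => ?_⟩, fun huni H hHN hHG => ?_⟩
  · obtain ⟨i, hi, rfl⟩ := huniq hne H hHN hHG
    have hin : i < n := lt_of_le_of_ne hi fun e => by
      subst e
      exact hH1 (Subgroup.card_eq_one.1 (by rw [(hmain hne i le_rfl).1, Nat.sub_self, pow_zero]))
    have h1 : Nat.card (C (i + 1)) * (C (i + 1)).relIndex (C i) = Nat.card (C i) := by
      rw [← relIndex_bot_left, ← relIndex_bot_left (H := C i)]
      exact relIndex_mul_relIndex _ _ _ bot_le (by rw [hCs]; exact Coprime.commutator_le_of_le_normalizer (hinv i).2)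
    rw [(hmain hne (i + 1) hin).1, (hmain hne i hi).1, show n - i = (n - (i + 1)) + 1 by omega, pow_succ] at h1
    exact Nat.eq_of_mul_eq_mul_left (pow_pos hp.pos _) h1
  · obtain ⟨i, hi, rfl⟩ := huniq (hchain huni) H hHN hHG
    exact ⟨⟨i, hi, rfl⟩, le_sup_left.trans (hmain (hchain huni) i hi).2⟩

end Cfsg.Agent.S0663
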