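import Cfsg.Statements.S0666
import Cfsg.Agent.Core.FrobeniusGroup
import Cfsg.Agent.Coprime.Basic

set_option autoImplicit false
open Cfsg

namespace Cfsg.Agent.S0666

/-- A Frobenius group acting on a nontrivial abelian group of order prime to that of its kernel, with the kernel acting without nontrivial fixed points, has a complement with a nontrivial fixed point. -/
theorem result {G : Type*} [Group G] [Finite G] (V F : Subgroup G) (hVab : IsMulCommutative V) (hV1 : V ≠ ⊥) (hFV : F ≤ Subgroup.normalizer (V : Set G)) (H : Subgroup ↥F) (hH : Cfsg.IsFrobeniusComplement H) (hcop : (Nat.card V).Coprime (Nat.card (Cfsg.frobeniusKernel H))) (hCK : V ⊓ Subgroup.centralizer (Subtype.val '' Cfsg.frobeniusKernel H : Set G) = ⊥) : V ⊓ Subgroup.centralizer ((H.map F.subtype : Subgroup G) : Set G) ≠ ⊥ := by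
  open Subgroup in open scoped IsMulCommutative in
  classical
  intro hb
  obtain ⟨N, hNeq, hNn, hcompl⟩ := Core.exists_frobeniusKernel hH
  have hmal := Core.malnormal_of_isFrobeniusComplement hH
  have := hVab
  have := Fintype.ofFinite F
  let cj : F →* MulAut V := V.normalizerMonoidHom.comp (inclusion hFV)
  have hcj : ∀ (a : F) (v : V), ((cj a v : V) : G) = (a : G) * v * (a : G)⁻¹ := fun a v => rfl
  let T : Finset F → V → V := fun S v => ∏ f ∈ S, cj f v
  -- products over subgroups are fixed points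
  have hfix : ∀ (A : Subgroup F) (S : Finset F), (∀ f, f ∈ S ↔ f ∈ A) → ∀ a ∈ A, ∀ v : V, cj a (T S v) = T S v := by
    intro A S hS a ha v
    simp only [T]
    rw [map_prod]
    refine Finset.prod_bij (fun f _ => a * f) (fun f hf => (hS _).2 (A.mul_mem ha ((hS f).1 hf)))
      (fun _ _ _ _ h => mul_left_cancel h)
      (fun f hf => ⟨a⁻¹ * f, (hS _).2 (A.mul_mem (A.inv_mem ha) ((hS f).1 hf)), mul_inv_cancel_left a f⟩)
      (fun f _ => ?_)
    rw [map_mul, MulAut.mul_apply]
  have hfixN : ∀ w : V, (∀ n ∈ N, cj n w = w) → w = 1 := by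
    intro w hw
    have : (w : G) ∈ V ⊓ centralizer (Subtype.val '' Cfsg.frobeniusKernel H : Set G) := by
      refine ⟨w.2, mem_centralizer_iff.2 ?_⟩
      rintro _ ⟨n, hn, rfl⟩
      have := congrArg (Subtype.val) (hw n (show n ∈ (N : Set F) by rw [hNeq]; exact hn))
      rw [hcj] at this
      exact mul_inv_eq_iff_eq_mul.1 this
    rw [hCK, Subgroup.mem_bot] at this
    exact Subtype.ext this
  have hfixH : ∀ w : V, (∀ h ∈ H, cj h w = w) → w = 1 := by
    intro w hw
    have : (w : G) ∈ V ⊓ centralizer ((H.map F.subtype : Subgroup G) : Set G) := by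
      refine ⟨w.2, mem_centralizer_iff.2 ?_⟩
      rintro _ ⟨n, hn, rfl⟩
      have := congrArg (Subtype.val) (hw n hn)
      rw [hcj] at this
      exact mul_inv_eq_iff_eq_mul.1 this
    rw [hb, Subgroup.mem_bot] at this
    exact Subtype.ext this
  set SN : Finset F := Finset.univ.filter (fun f => f ∈ N) with hSN
  set SH : Finset F := Finset.univ.filter (fun f => f ∈ H) with hSH
  have hN1 : ∀ v, T SN v = 1 := fun v => hfixN _ fun n hn => hfix N SN (fun f => by simp [hSN]) n hn v
  have hU1 : ∀ v, T Finset.univ v = 1 := fun v => hfixN _ fun n _ =>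
    hfix ⊤ Finset.univ (fun f => by simp) n (mem_top n) v
  have hH1 : ∀ (v : V) (k : F), ∏ h ∈ SH, cj (k * h * k⁻¹) v = 1 := by
    intro v k
    have h1 : T SH (cj k⁻¹ v) = 1 := hfixH _ fun h hh => hfix H SH (fun f => by simp [hSH]) h hh _
    have : cj k (T SH (cj k⁻¹ v)) = ∏ h ∈ SH, cj (k * h * k⁻¹) v := by
      simp only [T]
      rw [map_prod]
      refine Finset.prod_congr rfl fun h _ => ?_
      rw [map_mul, map_mul, MulAut.mul_apply, MulAut.mul_apply]
    rw [← this, h1, map_one]
  have hcompl' : ∀ v : V, (∏ f ∈ Finset.univ.filter (fun f : F => f ∉ N), cj f v) = 1 := by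
    intro v
    have := Finset.prod_filter_mul_prod_filter_not Finset.univ (fun f : F => f ∈ N) (fun f => cj f v)
    have h1 := hN1 v
    simp only [T, hSN] at h1
    rw [h1, one_mul] at this
    exact this.trans (hU1 v)
  have hpartition : ∀ v : V, (∏ p ∈ SN ×ˢ (SH.erase 1), cj (p.1 * p.2 * p.1⁻¹) v) = 1 := by
    intro v
    refine Eq.trans (Finset.prod_bij (fun p _ => p.1 * p.2 * p.1⁻¹) ?_ ?_ ?_ (fun _ _ => rfl)) (hcompl' v)
    · intro p hp
      simp only [Finset.mem_product, hSN, hSH, Finset.mem_erase, Finset.mem_filter, Finset.mem_univ, true_and] at hp ⊢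
      intro hN'
      refine hp.2.1 ?_
      have h2 : p.2 ∈ N ⊓ H := ⟨by
        have := N.mul_mem (N.mul_mem (N.inv_mem hp.1) hN') hp.1
        simpa [mul_assoc] using this, hp.2.2⟩
      rw [hcompl.disjoint.eq_bot, Subgroup.mem_bot] at h2
      exact h2
    · intro p hp q hq he
      simp only [Finset.mem_product, hSN, hSH, Finset.mem_erase, Finset.mem_filter, Finset.mem_univ, true_and] at hp hq
      have h1 : (q.1⁻¹ * p.1) * p.2 * (q.1⁻¹ * p.1)⁻¹ = q.2 := by
        calc (q.1⁻¹ * p.1) * p.2 * (q.1⁻¹ * p.1)⁻¹ = q.1⁻¹ * (p.1 * p.2 * p.1⁻¹) * q.1 := by group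
          _ = q.2 := by rw [he]; group
      have h2 : q.1⁻¹ * p.1 ∈ N ⊓ H := ⟨N.mul_mem (N.inv_mem hq.1) hp.1, by
        by_contra hn
        exact hp.2.1 (hmal _ hn p.2 hp.2.2 (by rw [h1]; exact hq.2.2))⟩
      rw [hcompl.disjoint.eq_bot, Subgroup.mem_bot, inv_mul_eq_one] at h2
      refine Prod.ext h2.symm ?_
      rw [h2, inv_mul_cancel, one_mul, inv_one, mul_one] at h1
      exact h1
    · intro f hf
      simp only [Finset.mem_filter, Finset.mem_univ, true_and] at hf
      have hf' : f ∉ Cfsg.frobeniusKernel H := fun h => hf (hNeq.symm ▸ h : f ∈ (N : Set F))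
      rw [Core.mem_frobeniusKernel_iff, not_or] at hf'
      obtain ⟨hf1, hx⟩ := hf'
      push Not at hx
      obtain ⟨x, hx⟩ := hx
      obtain ⟨⟨⟨k, hk⟩, ⟨h0, hh0⟩⟩, hkh⟩ := hcompl.2 x
      have hkh' : k * h0 = x := hkh
      subst hkh'
      have hmem : k⁻¹ * f * k ∈ H := by
        have := H.mul_mem (H.mul_mem hh0 hx) (H.inv_mem hh0)
        simpa [mul_assoc] using this
      refine ⟨(k, k⁻¹ * f * k), ?_, by group⟩
      simp only [Finset.mem_product, hSN, hSH, Finset.mem_erase, Finset.mem_filter, Finset.mem_univ, true_and]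
      refine ⟨hk, fun e => hf1 ?_, hmem⟩
      calc f = k * (k⁻¹ * f * k) * k⁻¹ := by group
        _ = 1 := by rw [e, mul_one, mul_inv_cancel]
  refine hV1 ((Subgroup.eq_bot_iff_forall V).2 fun x hx => ?_)
  set v : V := ⟨x, hx⟩ with hv
  have hprod : v ^ SN.card = 1 := by
    have h1 := hpartition v
    rw [Finset.prod_product] at h1
    have h2 : ∀ k : F, ∏ h ∈ SH.erase 1, cj (k * h * k⁻¹) v = v⁻¹ := by
      intro k
      have h3 := hH1 v k
      rw [← Finset.mul_prod_erase SH _ (show (1 : F) ∈ SH by simp [hSH, H.one_mem]), mul_one, mul_inv_cancel,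
        map_one, MulAut.one_apply] at h3
      exact eq_inv_of_mul_eq_one_right h3
    rw [Finset.prod_congr rfl (fun k _ => h2 k), Finset.prod_const, inv_pow, inv_eq_one] at h1
    exact h1
  have hc : SN.card = Nat.card (Cfsg.frobeniusKernel H) := by
    rw [← hNeq, hSN, ← Fintype.card_subtype, ← Nat.card_eq_fintype_card]
    rfl
  rw [hc] at hprod
  have := (powCoprime hcop).injective (show powCoprime hcop v = powCoprime hcop 1 by simpa using hprod)
  exact congrArg Subtype.val this

end Cfsg.Agent.S0666
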