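import Cfsg.Statements.S0668
import Mathlib.LinearAlgebra.Dimension.Constructions
import Mathlib.LinearAlgebra.Pi

set_option autoImplicit false
open Cfsg

namespace Cfsg.Agent.S0668

/-- The equivariant linear maps between the permutation modules of two finite `G`-sets form a space whose dimension is the number of `G`-orbits on the product of the two sets. -/
theorem result {G : Type*} [Group G] {K : Type*} [Field K] {Ω₁ Ω₂ : Type*} [Fintype Ω₁] [Fintype Ω₂] [MulAction G Ω₁] [MulAction G Ω₂] : Module.finrank K ((Cfsg.permRep K G Ω₁).linHom (Cfsg.permRep K G Ω₂)).invariants = Nat.card (MulAction.orbitRel.Quotient G (Ω₁ × Ω₂)) := by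
  classical
  set ρ := (Cfsg.permRep K G Ω₁).linHom (Cfsg.permRep K G Ω₂)
  have : Fintype (MulAction.orbitRel.Quotient G (Ω₁ × Ω₂)) := Fintype.ofFinite _
  have key : ∀ φ ∈ ρ.invariants, ∀ (g : G) (x : Ω₁) (y : Ω₂),
      φ (Pi.single (g • x) (1 : K)) (g • y) = φ (Pi.single x 1) y := by
    intro φ hφ g x y
    have := congrFun (LinearMap.congr_fun (hφ g) (Pi.single (g • x) 1)) (g • y)
    rw [← this]
    show φ (Cfsg.permRep K G Ω₁ g⁻¹ (Pi.single (g • x) 1)) (g⁻¹ • g • y) = _
    rw [inv_smul_smul]
    suffices hh : Cfsg.permRep K G Ω₁ g⁻¹ (Pi.single (g • x) 1) = Pi.single x 1 by rw [hh]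
    funext z
    show (Pi.single (g • x) 1 : Ω₁ → K) (g⁻¹⁻¹ • z) = _
    rw [inv_inv]
    by_cases hz : z = x
    · subst hz; rw [Pi.single_eq_same, Pi.single_eq_same]
    · rw [Pi.single_eq_of_ne hz, Pi.single_eq_of_ne (fun e => hz (smul_left_cancel g e))]
  let toF : ρ.invariants →ₗ[K] (MulAction.orbitRel.Quotient G (Ω₁ × Ω₂) → K) :=
    { toFun := fun φ => Quotient.lift (fun q : Ω₁ × Ω₂ => φ.1 (Pi.single q.1 1) q.2) (fun q r hqr => by
        obtain ⟨g, hg⟩ := MulAction.orbitRel_apply.1 hqr
        rw [← hg]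
        exact key φ.1 φ.2 g r.1 r.2)
      map_add' := fun φ ψ => by funext z; induction z using Quotient.inductionOn; rfl
      map_smul' := fun c φ => by funext z; induction z using Quotient.inductionOn; rfl }
  have hinj : Function.Injective toF := by
    intro φ ψ h
    refine Subtype.ext (LinearMap.pi_ext' fun x => LinearMap.ext_ring (funext fun y => ?_))
    exact congrFun h (Quotient.mk _ (x, y))
  have hsurj : Function.Surjective toF := by
    intro F
    let φ : (Ω₁ → K) →ₗ[K] (Ω₂ → K) :=
      { toFun := fun v y => ∑ x, F (Quotient.mk _ (x, y)) * v x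
        map_add' := fun v w => by funext y; simp [mul_add, Finset.sum_add_distrib]
        map_smul' := fun c v => by funext y; simp [Finset.mul_sum, mul_left_comm] }
    refine ⟨⟨φ, fun g => LinearMap.ext fun v => funext fun y => ?_⟩, ?_⟩
    · show ∑ x, F (Quotient.mk _ (x, g⁻¹ • y)) * v (g⁻¹⁻¹ • x) = ∑ x, F (Quotient.mk _ (x, y)) * v x
      refine Fintype.sum_equiv (MulAction.toPerm g) _ _ fun x => ?_
      show _ = F (Quotient.mk _ (g • x, y)) * v (g • x)
      rw [inv_inv]
      congr 2
      refine Quotient.sound' (MulAction.orbitRel_apply.2 ⟨g⁻¹, ?_⟩)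
      exact Prod.ext (inv_smul_smul g x) rfl
    · funext z
      induction z using Quotient.inductionOn with
      | h q =>
        show ∑ x, F (Quotient.mk _ (x, q.2)) * (Pi.single q.1 1 : Ω₁ → K) x = _
        rw [Finset.sum_eq_single q.1 (fun x _ hx => by rw [Pi.single_eq_of_ne hx, mul_zero]) (by simp),
          Pi.single_eq_same, mul_one]
  rw [(LinearEquiv.ofBijective toF ⟨hinj, hsurj⟩).finrank_eq, Module.finrank_fintype_fun_eq_card, Nat.card_eq_fintype_card]

end Cfsg.Agent.S0668
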