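import Cfsg.Statements.S0669

set_option autoImplicit false
open Cfsg

namespace Cfsg.Agent.S0669

/-- The rank of a transitive action: orbits on ordered pairs correspond to orbits of a point stabiliser. -/
theorem result {G : Type*} [Group G] {Ω : Type*} [Finite Ω] [MulAction G Ω] [MulAction.IsPretransitive G Ω] (a : Ω) : Nat.card (MulAction.orbitRel.Quotient G (Ω × Ω)) = Nat.card (MulAction.orbitRel.Quotient (MulAction.stabilizer G a) Ω) := by
  classical
  refine (Nat.card_congr (Equiv.ofBijective
    (Quotient.lift (fun b : Ω => (Quotient.mk'' (a, b) : MulAction.orbitRel.Quotient G (Ω × Ω)))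
      (fun b c hbc => by
        obtain ⟨g, hg⟩ := MulAction.orbitRel_apply.1 hbc
        exact Quotient.sound' (MulAction.orbitRel_apply.2 ⟨g.1, Prod.ext g.2 hg⟩))) ⟨?_, ?_⟩)).symm
  · intro x y
    induction x using Quotient.inductionOn with
    | h b =>
      induction y using Quotient.inductionOn with
      | h c =>
        intro hbc
        obtain ⟨g, hg⟩ := MulAction.orbitRel_apply.1 (Quotient.exact' hbc)
        exact Quotient.sound' (MulAction.orbitRel_apply.2 ⟨⟨g, congrArg Prod.fst hg⟩, congrArg Prod.snd hg⟩)
  · intro z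
    induction z using Quotient.inductionOn with
    | h p =>
      obtain ⟨x, y⟩ := p
      obtain ⟨g, hg⟩ := MulAction.exists_smul_eq G x a
      exact ⟨Quotient.mk _ (g • y), Quotient.sound' (MulAction.orbitRel_apply.2 ⟨g, Prod.ext hg rfl⟩)⟩

end Cfsg.Agent.S0669
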