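import Cfsg.Statements.S0677
import Mathlib
import Cfsg.Agent.PrimeDegree.Inverting
import Cfsg.Agent.PermGroups.Basic
import Cfsg.Agent.Coprime.SchurZassenhaus
import Cfsg.Agent.S0675

set_option autoImplicit false
open Cfsg

namespace Cfsg.Agent.S0677

theorem smul_label {Γ Ω : Type*} [Group Γ] [MulAction Γ Ω] {p : ℕ} {σ : Γ} {e : ZMod p ≃ Ω}
    (h : ∀ i, σ • e i = e (i + 1)) (n : ℕ) : ∀ i, σ ^ n • e i = e (i + n) := by
  induction n with
  | zero => intro i; simp
  | succ n ih =>
    intro i
    rw [pow_succ', mul_smul, ih, h]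
    congr 1
    push_cast
    ring


/-- In a transitive permutation group of prime degree `p` whose Sylow `p`-normaliser has even order, the point stabilisers are the only subgroups of index `p`. -/
theorem result {α : Type*} [Fintype α] [DecidableEq α] {p : ℕ} [Fact p.Prime] (hα : Fintype.card α = p) (G : Subgroup (Equiv.Perm α)) [MulAction.IsPretransitive G α] (P : Sylow p G) (heven : Even (Nat.card (Subgroup.normalizer ((P : Subgroup G) : Set G)))) (H : Subgroup G) (hH : H.index = p) : ∃ a : α, H = MulAction.stabilizer G a := by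
  classical
  have hp : p.Prime := Fact.out
  obtain ⟨a₀⟩ : Nonempty α := Fintype.card_pos_iff.1 (hα ▸ hp.pos)
  have hind : ∀ a : α, (MulAction.stabilizer G a).index = p := fun a => by
    rw [MulAction.index_stabilizer_of_transitive, Nat.card_eq_fintype_card, hα]
  have heq_of_le : ∀ (K : Subgroup G) (a : α), K.index = p → K ≤ MulAction.stabilizer G a →
      K = MulAction.stabilizer G a := by
    intro K a hK hle
    refine Subgroup.eq_of_le_of_card_ge hle (le_of_eq ?_)
    have h1 := K.card_mul_index
    have h2 := (MulAction.stabilizer G a).card_mul_index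
    rw [hK] at h1
    rw [hind, ← h1] at h2
    exact Nat.eq_of_mul_eq_mul_right hp.pos h2
  have hcard : Nat.card G ∣ p * (p - 1).factorial := by
    rw [Nat.mul_factorial_pred hp.ne_zero]
    refine G.card_subgroup_dvd_card.trans ?_
    rw [Nat.card_perm, Nat.card_eq_fintype_card, hα]
  have hpfac : ¬ p ∣ (p - 1).factorial := fun h => by
    have := (Nat.Prime.dvd_factorial hp).1 h
    have := hp.pos
    omega
  have hHp : ¬ p ∣ Nat.card H := fun h => by
    have h1 := H.card_mul_index
    rw [hH] at h1
    have h2 : p * p ∣ p * (p - 1).factorial := (mul_dvd_mul_right h p).trans (h1 ▸ hcard)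
    exact hpfac (Nat.dvd_of_mul_dvd_mul_left hp.pos h2)
  rcases eq_or_ne p 2 with rfl | hp2
  · refine ⟨a₀, ?_⟩
    have hG2 : Nat.card G ∣ 2 := by simpa using hcard
    have hbot : ∀ K : Subgroup G, K.index = 2 → K = ⊥ := fun K hK => by
      have h1 := K.card_mul_index
      rw [hK] at h1
      have := Nat.le_of_dvd two_pos hG2
      have := Nat.card_pos (α := K)
      exact Subgroup.card_eq_one.1 (by omega)
    rw [hbot H hH, hbot _ (hind a₀)]
  obtain ⟨σ, τ, hσ, hτ, hinv, hmov⟩ :=
    Cfsg.Agent.PrimeDegree.exists_inverting hp2 hα G P heven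
  obtain ⟨e, he1, he2⟩ :=
    Cfsg.Agent.PrimeDegree.exists_inverted_labelling hp2 hα hσ hτ hinv hmov
  have hen := smul_label he1
  by_cases h2t : MulAction.IsMultiplyPretransitive G α 2
  · have : Fintype (G ⧸ H) := Fintype.ofFinite _
    have hΩ : Fintype.card (G ⧸ H) = p := by
      rw [← Nat.card_eq_fintype_card, ← Subgroup.index_eq_card, hH]
    have hmov' : ∀ x : G ⧸ H, σ • x ≠ x := by
      intro x
      obtain ⟨g, rfl⟩ := QuotientGroup.mk_surjective x
      intro hx
      have h1 : g⁻¹ * σ * g ∈ H := by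
        have h' := QuotientGroup.eq.1 hx.symm
        simpa [smul_eq_mul, mul_assoc] using h'
      have h2 : orderOf (g⁻¹ * σ * g) = p := by
        rw [← hσ]
        exact (SemiconjBy.orderOf_eq g⁻¹
          (by simp [SemiconjBy, mul_assoc] : SemiconjBy g⁻¹ σ (g⁻¹ * σ * g))).symm
      have h3 := _root_.orderOf_dvd_natCard (⟨_, h1⟩ : H)
      rw [Subgroup.orderOf_mk, h2] at h3
      exact hHp h3
    obtain ⟨e', he1', he2'⟩ :=
      Cfsg.Agent.PrimeDegree.exists_inverted_labelling hp2 hΩ hσ hτ hinv hmov'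
    have hen' := smul_label he1'
    set R : Set (α × (G ⧸ H)) := MulAction.orbit G (e 0, e' 0) with hR
    have hRs : ∀ (g : G) x w, (g • x, g • w) ∈ R ↔ (x, w) ∈ R := fun g x w => by
      show g • (x, w) ∈ MulAction.orbit G (e 0, e' 0) ↔ _
      rw [← MulAction.orbit_eq_iff, MulAction.orbit_smul, MulAction.orbit_eq_iff]
    let D : ZMod p → Prop := fun i => (e i, e' 0) ∈ R
    have hD : ∀ i j, (e i, e' j) ∈ R ↔ D (i - j) := by
      intro i j
      have h := hRs (σ ^ j.val) (e (i - j)) (e' 0)
      rw [hen, hen', ZMod.natCast_zmod_val, sub_add_cancel, zero_add] at h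
      exact h
    have hDsymm : ∀ i, D (-i) ↔ D i := by
      intro i
      have h := hRs τ (e i) (e' 0)
      rw [he2, he2', neg_zero] at h
      exact h
    let N : α → α → ℕ := fun x y => (Finset.univ.filter fun w => (x, w) ∈ R ∧ (y, w) ∈ R).card
    have hNs : ∀ (g : G) x y, N (g • x) (g • y) = N x y := by
      intro g x y
      refine (Finset.card_equiv (MulAction.toPerm g) fun w => ?_).symm
      simp [hRs]
    have hNconst : ∀ δ : ZMod p, δ ≠ 0 → N (e 0) (e δ) = N (e 0) (e 1) := by
      intro δ hδ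
      have h10 : e 0 ≠ e 1 := fun h => zero_ne_one (e.injective h)
      have hδ0 : e 0 ≠ e δ := fun h => hδ (e.injective h).symm
      obtain ⟨g, hg0, hg1⟩ := MulAction.is_two_pretransitive_iff.1 h2t h10 hδ0
      rw [← hNs g (e 0) (e 1), hg0, hg1]
    have hpar : ∀ δ : ZMod p, δ ≠ 0 →
        (N (e 0) (e δ) : ZMod 2) = if D (δ / 2) then 1 else 0 := by
      intro δ hδ
      have h2 : (2 : ZMod p) ≠ 0 := fun h =>
        hp2 ((Nat.prime_dvd_prime_iff_eq hp Nat.prime_two).1 ((ZMod.natCast_eq_zero_iff 2 p).1 h))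
      have hN : N (e 0) (e δ) = (Finset.univ.filter fun u => D u ∧ D (δ + u)).card := by
        refine (Finset.card_equiv ((Equiv.neg _).trans e') fun u => ?_).symm
        simp only [Finset.mem_filter, Finset.mem_univ, true_and, Equiv.trans_apply, Equiv.neg_apply, hD]
        simp [sub_neg_eq_add]
      set S := Finset.univ.filter fun u => D u ∧ D (δ + u) with hS
      set u₀ := -(δ / 2)
      have hsum : ∑ _u ∈ S.erase u₀, (1 : ZMod 2) = 0 := by
        refine Finset.sum_involution (fun u _ => -δ - u) (fun u _ => by decide) (fun u hu _ h => ?_)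
          (fun u hu => ?_) (fun u hu => by ring)
        · refine (Finset.mem_erase.1 hu).1 ?_
          show u = -(δ / 2)
          field_simp
          linear_combination -h
        · simp only [hS, Finset.mem_erase, Finset.mem_filter, Finset.mem_univ, true_and] at hu ⊢
          obtain ⟨hne, hu1, hu2⟩ := hu
          refine ⟨fun h => hne ?_, ?_, ?_⟩
          · show u = -(δ / 2)
            have h' : -δ - u = -(δ / 2) := h
            field_simp at h' ⊢
            linear_combination -h'
          · rw [← hDsymm, show -(-δ - u) = δ + u by ring]; exact hu2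
          · rw [show δ + (-δ - u) = -u by ring, hDsymm]; exact hu1
      rw [hN]
      have hmem : u₀ ∈ S ↔ D (δ / 2) := by
        simp only [hS, Finset.mem_filter, Finset.mem_univ, true_and]
        show D (-(δ / 2)) ∧ D (δ + -(δ / 2)) ↔ _
        rw [hDsymm, show δ + -(δ / 2) = δ / 2 by field_simp; ring, and_self]
      simp only [Finset.sum_const, nsmul_eq_mul, mul_one] at hsum
      by_cases hu : u₀ ∈ S
      · rw [if_pos (hmem.1 hu), ← Finset.card_erase_add_one hu, Nat.cast_add, hsum]
        simp
      · rw [if_neg (mt hmem.2 hu)]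
        rwa [Finset.erase_eq_of_notMem hu] at hsum
    have hDconst : ∀ i : ZMod p, i ≠ 0 → (D i ↔ D 1) := by
      have h2 : (2 : ZMod p) ≠ 0 := fun h =>
        hp2 ((Nat.prime_dvd_prime_iff_eq hp Nat.prime_two).1 ((ZMod.natCast_eq_zero_iff 2 p).1 h))
      have key : ∀ i : ZMod p, i ≠ 0 →
          (N (e 0) (e 1) : ZMod 2) = if D i then 1 else 0 := fun i hi => by
        have h := hpar (2 * i) (mul_ne_zero h2 hi)
        rw [hNconst _ (mul_ne_zero h2 hi), mul_div_cancel_left₀ i h2] at h
        exact h
      intro i hi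
      have h := (key i hi).symm.trans (key 1 one_ne_zero)
      by_cases hd : D i <;> by_cases hd1 : D 1 <;> simp [hd, hd1] at h ⊢
    have hD1 : ¬ D 1 := by
      intro h1
      have hall : ∀ i, D i := fun i => by
        rcases eq_or_ne i 0 with rfl | hi
        · exact MulAction.mem_orbit_self _
        · exact (hDconst i hi).2 h1
      have hRu : R = Set.univ := Set.eq_univ_of_forall fun ⟨x, w⟩ => by
        obtain ⟨i, rfl⟩ := e.surjective x
        obtain ⟨j, rfl⟩ := e'.surjective w
        exact (hD i j).2 (hall _)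
      have hd : Nat.card R ∣ Nat.card G := by
        rw [Nat.card_coe_set_eq, hR, ← MulAction.index_stabilizer G (e 0, e' 0)]
        exact Subgroup.index_dvd_card _
      rw [hRu, Nat.card_congr (Equiv.Set.univ _), Nat.card_prod, Nat.card_eq_fintype_card,
        Nat.card_eq_fintype_card, hα, hΩ] at hd
      exact hpfac (Nat.dvd_of_mul_dvd_mul_left hp.pos (hd.trans hcard))
    obtain ⟨g, hg⟩ := QuotientGroup.mk_surjective (e' 0)
    have hle : MulAction.stabilizer G (e' 0) ≤ MulAction.stabilizer G (e 0) := by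
      intro k hk
      obtain ⟨i, hi⟩ := e.surjective (k • e 0)
      have hmem : (k • e 0, k • e' 0) ∈ R := (hRs k _ _).2 (MulAction.mem_orbit_self _)
      rw [MulAction.mem_stabilizer_iff] at hk ⊢
      rw [hk, ← hi, hD, sub_zero] at hmem
      rcases eq_or_ne i 0 with rfl | hne
      · exact hi.symm
      · exact absurd ((hDconst i hne).1 hmem) hD1
    refine ⟨g⁻¹ • e 0, heq_of_le H _ hH fun h hh => ?_⟩
    have h1 : g * h * g⁻¹ ∈ MulAction.stabilizer G (e' 0) := by
      rw [MulAction.mem_stabilizer_iff, ← hg, MulAction.Quotient.smul_mk, QuotientGroup.eq]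
      simpa [smul_eq_mul, mul_assoc] using H.inv_mem hh
    have h2 := hle h1
    rw [MulAction.mem_stabilizer_iff] at h2 ⊢
    rw [mul_smul, mul_smul] at h2
    exact eq_inv_smul_iff.2 h2
  · have hsol : Group.IsSolvable G := (Cfsg.Agent.S0675.result (hα.symm ▸ hp) G).resolve_right h2t
    have htop : (⊤ : Subgroup G) ≠ ⊥ := fun h => by
      have : σ ∈ (⊥ : Subgroup G) := h ▸ Subgroup.mem_top σ
      rw [Subgroup.mem_bot] at this
      rw [this, orderOf_one] at hσ
      exact hp.ne_one hσ.symm
    obtain ⟨A, hAn, hAc, -, hA⟩ :=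
      Cfsg.Agent.Coprime.exists_minimal_normal_abelian (⊤ : Subgroup G) htop
        (Group.isSolvable_of_surjective (f := (Subgroup.topEquiv (G := G)).symm.toMonoidHom)
          (MulEquiv.surjective _))
    have hprim : MulAction.IsPreprimitive G α :=
      MulAction.IsPreprimitive.of_prime_card (by rw [Nat.card_eq_fintype_card, hα]; exact hp)
    have hAtr : MulAction.IsPretransitive A α := Cfsg.Agent.PermGroups.transitive_of_normal A hA
    have hAcard : Nat.card A = p := by
      have h1 := (MulAction.stabilizer A a₀).card_mul_index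
      have hbot : MulAction.stabilizer A a₀ = ⊥ := by
        rw [eq_bot_iff]
        intro x hx
        rw [Subgroup.mem_bot]
        apply Subtype.ext
        refine FaithfulSMul.eq_of_smul_eq_smul (α := α) fun b => ?_
        obtain ⟨c, rfl⟩ := hAtr.exists_smul_eq a₀ b
        show x • c • a₀ = (1 : G) • c • a₀
        rw [one_smul, ← mul_smul, hAc.is_comm.comm x c, mul_smul, MulAction.mem_stabilizer_iff.1 hx]
      rw [MulAction.index_stabilizer_of_transitive, hbot, Subgroup.card_bot, one_mul,
        Nat.card_eq_fintype_card (α := α), hα] at h1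
      exact h1.symm
    have hσA : σ ∈ A := by
      rw [← QuotientGroup.eq_one_iff, ← orderOf_eq_one_iff]
      have h1 : orderOf (σ : G ⧸ A) ∣ p := hσ ▸ orderOf_map_dvd (QuotientGroup.mk' A) σ
      have h2 : orderOf (σ : G ⧸ A) ∣ (p - 1).factorial := by
        refine (_root_.orderOf_dvd_natCard _).trans (Nat.dvd_of_mul_dvd_mul_left hp.pos ?_)
        rw [← Subgroup.index_eq_card]
        calc p * A.index = Nat.card G := by rw [← hAcard]; exact A.card_mul_index
          _ ∣ _ := hcard
      exact Nat.eq_one_of_dvd_coprimes (hp.coprime_iff_not_dvd.2 hpfac) h1 h2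
    have hAz : A = Subgroup.zpowers σ :=
      (Subgroup.eq_of_le_of_card_ge (Subgroup.zpowers_le.2 hσA)
        (le_of_eq (hAcard.trans ((Nat.card_zpowers σ).trans hσ).symm))).symm
    have hconj : ∀ g : G, ∃ k : ℕ, g * σ * g⁻¹ = σ ^ k := fun g => by
      obtain ⟨k, hk⟩ := (mem_powers_iff_mem_zpowers).2 (hAz ▸ hAn.conj_mem σ hσA g)
      exact ⟨k, hk.symm⟩
    -- an element of `H` centralising `σ` is trivial
    have hcent : ∀ h ∈ H, h * σ * h⁻¹ = σ → h = 1 := by
      intro h hh hc
      obtain ⟨i, hi⟩ := e.surjective (h • e 0)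
      have hh' : h = σ ^ i.val := by
        refine Subtype.ext (Equiv.ext fun x => ?_)
        obtain ⟨j, rfl⟩ := e.surjective x
        show h • e j = σ ^ i.val • e j
        have hj : e j = σ ^ j.val • e 0 := by rw [hen, zero_add, ZMod.natCast_zmod_val]
        have hcm : Commute h (σ ^ j.val) :=
          Commute.pow_right (show h * σ = σ * h from mul_inv_eq_iff_eq_mul.1 hc) _
        rw [hj, ← mul_smul, hcm.eq, mul_smul, ← hi, ← hj, hen, hen, ZMod.natCast_zmod_val,
          ZMod.natCast_zmod_val, add_comm]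
      have h1 : orderOf h ∣ p := by rw [hh']; exact (orderOf_pow_dvd _).trans (dvd_of_eq hσ)
      have h2 := _root_.orderOf_dvd_natCard (⟨h, hh⟩ : H)
      rw [Subgroup.orderOf_mk] at h2
      exact orderOf_eq_one_iff.1 (Nat.eq_one_of_dvd_coprimes (hp.coprime_iff_not_dvd.2 hHp) h1 h2)
    -- `H` is abelian
    have hab : ∀ a ∈ H, ∀ b ∈ H, a * b = b * a := by
      intro a ha b hb
      obtain ⟨k, hk⟩ := hconj a
      obtain ⟨l, hl⟩ := hconj b
      have h1 : a * b * σ * (a * b)⁻¹ = σ ^ (k * l) := by
        rw [show a * b * σ * (a * b)⁻¹ = a * (b * σ * b⁻¹) * a⁻¹ by group, hl, ← conj_pow, hk,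
          ← pow_mul]
      have h2 : b * a * σ * (b * a)⁻¹ = σ ^ (k * l) := by
        rw [show b * a * σ * (b * a)⁻¹ = b * (a * σ * a⁻¹) * b⁻¹ by group, hk, ← conj_pow, hl,
          ← pow_mul, mul_comm]
      have h3 := hcent ((b * a)⁻¹ * (a * b)) (H.mul_mem (H.inv_mem (H.mul_mem hb ha)) (H.mul_mem ha hb)) (by
        rw [show (b * a)⁻¹ * (a * b) * σ * ((b * a)⁻¹ * (a * b))⁻¹ =
          (b * a)⁻¹ * (a * b * σ * (a * b)⁻¹) * (b * a) by group, h1, ← h2]
        group)
      exact (inv_mul_eq_one.1 h3).symm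
    -- a nontrivial element and its fixed point
    have hHne : H ≠ ⊥ := by
      intro hbot
      have h1 := H.card_mul_index
      rw [hbot, Subgroup.card_bot, one_mul] at h1
      rw [hbot] at hH
      have h2 := _root_.orderOf_dvd_natCard τ
      rw [hτ, ← h1, hH] at h2
      exact hp2 ((Nat.prime_dvd_prime_iff_eq Nat.prime_two hp).1 h2).symm
    obtain ⟨⟨h, hh⟩, hne'⟩ := Subgroup.ne_bot_iff_exists_ne_one.1 hHne
    have hh1 : h ≠ 1 := fun e => hne' (Subtype.ext e)
    obtain ⟨k, hk⟩ := hconj h
    have hk1 : (k : ZMod p) ≠ 1 := by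
      intro hk1
      refine hh1 (hcent h hh ?_)
      rw [hk, ← pow_one σ, ← pow_mul, one_mul, pow_eq_pow_iff_modEq, hσ]
      exact (ZMod.natCast_eq_natCast_iff k 1 p).1 (by simpa using hk1)
    obtain ⟨c, hc⟩ := e.surjective (h • e 0)
    have hact : ∀ i : ZMod p, h • e i = e (c + k * i) := by
      intro i
      have hi : e i = σ ^ i.val • e 0 := by rw [hen, zero_add, ZMod.natCast_zmod_val]
      have hcomm : h * σ ^ i.val = σ ^ (k * i.val) * h := by
        rw [pow_mul, ← hk, conj_pow, inv_mul_cancel_right]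
      rw [hi, ← mul_smul, hcomm, mul_smul, ← hc, hen, Nat.cast_mul, ZMod.natCast_zmod_val]
    set x₀ : ZMod p := c / (1 - k)
    have hne : (1 : ZMod p) - k ≠ 0 := sub_ne_zero.2 (Ne.symm hk1)
    have hfix : h • e x₀ = e x₀ := by
      rw [hact]
      congr 1
      show c + k * (c / (1 - k)) = c / (1 - k)
      field_simp
      ring
    have huniq : ∀ i, h • e i = e i → i = x₀ := by
      intro i hi
      rw [hact] at hi
      show i = c / (1 - k)
      rw [eq_div_iff hne]
      linear_combination -(e.injective hi)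
    refine ⟨e x₀, heq_of_le H _ hH fun b hb => ?_⟩
    rw [MulAction.mem_stabilizer_iff]
    obtain ⟨i, hi⟩ := e.surjective (b • e x₀)
    have : h • e i = e i := by rw [hi, ← mul_smul, hab h hh b hb, mul_smul, hfix]
    rw [← hi, huniq i this]

end Cfsg.Agent.S0677
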