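import Cfsg.Statements.S0678
import Cfsg.Agent.SmallOrder.Perm

set_option autoImplicit false
open Cfsg

namespace Cfsg.Agent.S0678

open Subgroup Cfsg.Agent.SmallOrder

section Deg7

variable {α : Type*} [Fintype α] [DecidableEq α]

private lemma seven_dvd (hα : Fintype.card α = 7) (H : Subgroup (Equiv.Perm α)) [MulAction.IsPretransitive H α] :
    7 ∣ Nat.card H := by
  obtain ⟨a⟩ : Nonempty α := Fintype.card_pos_iff.mp (by omega)
  have h := Subgroup.index_dvd_card (MulAction.stabilizer H a)
  rw [MulAction.index_stabilizer_of_transitive, Nat.card_eq_fintype_card (α := α), hα] at h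
  exact h

private lemma sylow_seven [Fact (Nat.Prime 7)] (hα : Fintype.card α = 7) (H : Subgroup (Equiv.Perm α))
    [MulAction.IsPretransitive H α] (P : Sylow 7 H) :
    Nat.card (P : Subgroup H) = 7 ∧ Nat.card (Subgroup.normalizer ((P : Subgroup H) : Set H)) ∣ 42 ∧
      (H ≤ alternatingGroup α → Nat.card (Subgroup.normalizer ((P : Subgroup H) : Set H)) ∣ 21) := by
  set Q : Subgroup (Equiv.Perm α) := (P : Subgroup H).map H.subtype with hQ
  have hQp : IsPGroup 7 Q := P.isPGroup'.map H.subtype
  obtain ⟨R, hR⟩ := hQp.exists_le_sylow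
  have hRc := card_sylow_perm (p := 7) (Or.inl hα) R
  have hPc : Nat.card (P : Subgroup H) = 7 := by
    have h1 : Nat.card (P : Subgroup H) ∣ 7 := by
      have h := Subgroup.card_dvd_of_le hR
      rw [Subgroup.card_map_of_injective H.subtype_injective, hRc] at h
      exact h
    refine Nat.dvd_antisymm h1 ?_
    have := P.dvd_card_of_dvd_card (seven_dvd hα H)
    exact this
  have hQc : Nat.card Q = 7 := by rw [hQ, Subgroup.card_map_of_injective H.subtype_injective, hPc]
  have hQR : Q = R := Subgroup.eq_of_le_of_card_ge hR (by rw [hQc, hRc])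
  have hN := card_normalizer_perm_prime (p := 7) (by omega) Q hQc (by omega)
  have hle : (Subgroup.normalizer ((P : Subgroup H) : Set H)).map H.subtype ≤ Subgroup.normalizer (Q : Set (Equiv.Perm α)) :=
    Subgroup.le_normalizer_map _
  have hc : Nat.card ((Subgroup.normalizer ((P : Subgroup H) : Set H)).map H.subtype) = Nat.card (Subgroup.normalizer ((P : Subgroup H) : Set H)) :=
    Subgroup.card_map_of_injective H.subtype_injective
  refine ⟨hPc, ?_, fun hA => ?_⟩
  · rw [← hc]
    exact (Subgroup.card_dvd_of_le hle).trans (by rw [hN])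
  · haveI : Nontrivial α := Fintype.one_lt_card_iff_nontrivial.mp (by omega)
    have h2 := two_mul_card_normalizer_inf (p := 7) (by decide) R
    rw [← hQR, hN] at h2
    rw [← hc]
    have h3 := Subgroup.card_dvd_of_le (le_inf hle ((Subgroup.map_subtype_le (Subgroup.normalizer ((P : Subgroup H) : Set H))).trans hA))
    exact h3.trans (dvd_of_eq (by omega))

/-- A transitive even group with a non-normal Sylow 7-subgroup. -/
private lemma card_eq_of_transitive [Fact (Nat.Prime 7)] (hα : Fintype.card α = 7) (H : Subgroup (Equiv.Perm α))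
    [MulAction.IsPretransitive H α] (hA : H ≤ alternatingGroup α) (hn : Nat.card (Sylow 7 H) ≠ 1) :
    Nat.card H = 21 * Nat.card (Sylow 7 H) := by
  obtain ⟨P⟩ : Nonempty (Sylow 7 H) := inferInstance
  obtain ⟨hPc, -, h21⟩ := sylow_seven hα H P
  have hmul := card_sylow_mul_card_normalizer P
  have h7 : 7 ∣ Nat.card (Subgroup.normalizer ((P : Subgroup H) : Set H)) := by
    have h := Subgroup.card_dvd_of_le (Subgroup.le_normalizer : (P : Subgroup H) ≤ _)
    rwa [hPc] at h
  have hcases : Nat.card (Subgroup.normalizer ((P : Subgroup H) : Set H)) = 7 ∨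
      Nat.card (Subgroup.normalizer ((P : Subgroup H) : Set H)) = 21 := by
    have hle := Nat.le_of_dvd (by norm_num) (h21 hA)
    have h21' := h21 hA
    generalize Nat.card (Subgroup.normalizer ((P : Subgroup H) : Set H)) = k at h7 hle h21' ⊢
    obtain ⟨c, rfl⟩ := h7
    have : c ≤ 3 := by omega
    interval_cases c <;> omega
  rcases hcases with h | h
  · exfalso
    apply hn
    haveI : IsCyclic (P : Subgroup H) := isCyclic_of_prime_card hPc
    have hNP : Subgroup.normalizer ((P : Subgroup H) : Set H) ≤ Subgroup.centralizer ((P : Subgroup H) : Set H) := by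
      rw [← Subgroup.eq_of_le_of_card_ge Subgroup.le_normalizer (by rw [h, hPc])]
      exact Subgroup.le_centralizer _
    have hK := MonoidHom.ker_transferSylow_isComplement' P hNP
    set K := (MonoidHom.transferSylow P hNP).ker
    have hKc := hK.card_mul
    rw [hPc, ← hmul, h] at hKc
    have hKn : Nat.card K = Nat.card (Sylow 7 H) := by omega
    by_contra hne
    haveI : MulAction.IsPreprimitive H α := MulAction.IsPreprimitive.of_prime_card (by
      rw [Nat.card_eq_fintype_card, hα]; norm_num)
    have hfix : MulAction.fixedPoints K α ≠ Set.univ := by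
      intro hf
      apply hne
      rw [← hKn, Subgroup.card_eq_one, eq_bot_iff]
      intro x hx
      rw [Subgroup.mem_bot]
      apply Subtype.ext
      ext a
      have : a ∈ MulAction.fixedPoints K α := by rw [hf]; trivial
      exact this ⟨x, hx⟩
    haveI := MulAction.IsQuasiPreprimitive.isPretransitive_of_normal (G := H) (X := α) (N := K) hfix
    obtain ⟨a⟩ : Nonempty α := Fintype.card_pos_iff.mp (by omega)
    have hd := Subgroup.index_dvd_card (MulAction.stabilizer K a)
    rw [MulAction.index_stabilizer_of_transitive, Nat.card_eq_fintype_card (α := α), hα, hKn] at hd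
    have hm := card_sylow_mod (G := H) 7
    omega
  · rw [← hmul, h, mul_comm]

end Deg7


/-- A non-solvable transitive permutation group on 7 points that does not contain the alternating group is a simple group of order 168. -/
theorem result {α : Type*} [Fintype α] [DecidableEq α] (hα : Fintype.card α = 7) (G : Subgroup (Equiv.Perm α)) [MulAction.IsPretransitive G α] (hG : ¬ Group.IsSolvable G) (hA : ¬ alternatingGroup α ≤ G) : Nat.card G = 168 ∧ IsSimpleGroup G := by
  classical
  haveI : Fact (Nat.Prime 7) := ⟨by norm_num⟩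
  haveI : Fact (Nat.Prime 5) := ⟨by norm_num⟩
  haveI : Fact (Nat.Prime 2) := ⟨by norm_num⟩
  haveI : Nontrivial α := Fintype.one_lt_card_iff_nontrivial.mp (by omega)
  set H := G ⊓ alternatingGroup α with hH
  -- H is transitive
  obtain ⟨P⟩ : Nonempty (Sylow 7 G) := inferInstance
  obtain ⟨hPc, -, -⟩ := sylow_seven hα G P
  have hPH : (P : Subgroup G).map G.subtype ≤ H :=
    le_inf (Subgroup.map_subtype_le _) (sylow_le_alternating (by decide) (P.isPGroup'.map G.subtype))
  haveI hHt : MulAction.IsPretransitive H α := by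
    obtain ⟨⟨σ, hσ⟩, hσo⟩ := exists_prime_orderOf_dvd_card' (G := ↥((P : Subgroup G).map G.subtype)) 7
      (by rw [Subgroup.card_map_of_injective G.subtype_injective, hPc])
    rw [Subgroup.orderOf_mk] at hσo
    have hcyc : σ.IsCycle := Equiv.Perm.isCycle_of_prime_order' (by rw [hσo]; norm_num) (by rw [hσo]; omega)
    have hsupp : σ.support = Finset.univ := Finset.eq_univ_of_card _ (by rw [← hcyc.orderOf, hσo, hα])
    refine ⟨fun a b => ?_⟩
    obtain ⟨i, hi⟩ := hcyc.exists_pow_eq (x := a) (y := b)
      (Equiv.Perm.mem_support.mp (hsupp ▸ Finset.mem_univ a)) (Equiv.Perm.mem_support.mp (hsupp ▸ Finset.mem_univ b))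
    exact ⟨⟨σ ^ i, hPH (pow_mem hσ i)⟩, hi⟩
  have hHns : ¬ Group.IsSolvable H := by
    intro hs
    apply hG
    let s : G →* ℤˣ := Equiv.Perm.sign.comp G.subtype
    let ι : H →* G := Subgroup.inclusion inf_le_left
    refine Group.isSolvable_of_ker_le_range ι s ?_
    intro x hx
    exact ⟨⟨x, x.2, Equiv.Perm.mem_alternatingGroup.mpr hx⟩, rfl⟩
  obtain ⟨PH⟩ : Nonempty (Sylow 7 H) := inferInstance
  obtain ⟨hPHc, -, hPH21⟩ := sylow_seven hα H PH
  have hn1 : Nat.card (Sylow 7 H) ≠ 1 := by
    intro h1
    apply hHns
    haveI : Subsingleton (Sylow 7 H) := (Nat.card_eq_one_iff_unique.mp h1).1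
    haveI : (PH : Subgroup H).Normal := PH.normal_of_subsingleton
    have hmul := card_sylow_mul_card_normalizer PH
    rw [h1, one_mul] at hmul
    have hd : Nat.card H ∣ 21 := hmul ▸ hPH21 inf_le_right
    haveI : IsCyclic (PH : Subgroup H) := isCyclic_of_prime_card hPHc
    have hq := (PH : Subgroup H).card_mul_index
    rw [hPHc] at hq
    have hi : (PH : Subgroup H).index ∣ 3 := by
      rw [← hq] at hd
      exact (Nat.mul_dvd_mul_iff_left (by norm_num : 0 < 7)).mp hd
    haveI : IsCyclic (H ⧸ (PH : Subgroup H)) := by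
      rcases (Nat.dvd_prime Nat.prime_three).mp hi with h | h
      · haveI : Subsingleton (H ⧸ (PH : Subgroup H)) := (Nat.card_eq_one_iff_unique.mp h).1
        exact isCyclic_of_subsingleton
      · haveI : Fact (Nat.Prime 3) := ⟨by norm_num⟩
        exact isCyclic_of_prime_card h
    exact Group.isSolvable_of_ker_le_range (PH : Subgroup H).subtype (QuotientGroup.mk' (PH : Subgroup H))
      (by rw [QuotientGroup.ker_mk', Subgroup.range_subtype])
  have hA7 : Nat.card (alternatingGroup α) = 2520 := by
    rw [nat_card_alternatingGroup, Nat.card_eq_fintype_card, hα]; rfl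
  haveI hsimp : IsSimpleGroup (alternatingGroup α) :=
    alternatingGroup.isSimpleGroup (by rw [Nat.card_eq_fintype_card]; omega)
  have hHle : Nat.card H ∣ 2520 ∧ Nat.card H ≤ 360 := by
    have hd := Subgroup.card_dvd_of_le (inf_le_right : H ≤ alternatingGroup α)
    rw [hA7] at hd
    refine ⟨hd, ?_⟩
    set K := H.subgroupOf (alternatingGroup α) with hK
    have hKc : Nat.card K = Nat.card H := Nat.card_congr (Subgroup.subgroupOfEquivOfLe inf_le_right).toEquiv
    have hmul := K.card_mul_index
    rw [hKc, hA7] at hmul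
    have hne : K ≠ ⊤ := by
      intro h
      apply hA
      rw [hK, Subgroup.subgroupOf_eq_top] at h
      exact h.trans inf_le_left
    -- the action on the cosets is faithful
    have hker : (MulAction.toPermHom (alternatingGroup α) (alternatingGroup α ⧸ K)).ker = ⊥ := by
      rcases IsSimpleGroup.eq_bot_or_eq_top_of_normal _
        (MonoidHom.normal_ker (MulAction.toPermHom (alternatingGroup α) (alternatingGroup α ⧸ K))) with h | h
      · exact h
      · exfalso
        apply hne
        rw [← Subgroup.normalCore_eq_ker] at h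
        exact top_le_iff.mp (h ▸ K.normalCore_le)
    have hfac := Subgroup.card_dvd_of_injective _ ((MonoidHom.ker_eq_bot_iff _).mp hker)
    rw [Nat.card_perm, hA7, ← Subgroup.index] at hfac
    by_contra hlt
    have hi : K.index ≤ 6 := by nlinarith
    generalize K.index = m at hi hfac
    interval_cases m <;> simp [Nat.factorial] at hfac
  have hHc := card_eq_of_transitive hα H inf_le_right hn1
  have h168 : Nat.card H = 168 := by
    have hm := card_sylow_mod (G := H) 7
    obtain ⟨hd, hle⟩ := hHle
    rw [hHc] at hd hle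
    have hcases : Nat.card (Sylow 7 H) = 8 ∨ Nat.card (Sylow 7 H) = 15 := by omega
    rcases hcases with h | h
    · omega
    · exfalso
      rw [h] at hHc
      obtain ⟨P5⟩ : Nonempty (Sylow 5 H) := inferInstance
      have hP5 : Nat.card (P5 : Subgroup H) = 5 := by
        simpa using card_sylow_eq_pow (a := 1) (m := 63) (by rw [hHc]; norm_num) (by norm_num) P5
      have hdvd := card_sylow_dvd (G := H) (p := 5) (a := 1) (m := 63) (by rw [hHc]; norm_num) (by norm_num)
      have hmod := card_sylow_mod (G := H) 5
      have hmul := card_sylow_mul_card_normalizer P5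
      rw [hHc] at hmul
      obtain ⟨⟨x, hx⟩, hxo⟩ := exists_prime_orderOf_dvd_card' (G := (P5 : Subgroup H)) 5 (by rw [hP5])
      rw [Subgroup.orderOf_mk] at hxo
      have hle63 := Nat.le_of_dvd (by norm_num) hdvd
      have hC : Nat.card (Subgroup.centralizer ((P5 : Subgroup H) : Set H)) ∣ 10 := by
        have h1 : (Subgroup.centralizer ((P5 : Subgroup H) : Set H)).map H.subtype ≤
            Subgroup.centralizer {(x : Equiv.Perm α)} := by
          rintro _ ⟨y, hy, rfl⟩
          rw [Subgroup.mem_centralizer_singleton_iff]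
          exact congrArg Subtype.val (Subgroup.mem_centralizer_iff.mp hy x hx).symm
        have h2 := Subgroup.card_dvd_of_le h1
        rw [Subgroup.card_map_of_injective H.subtype_injective] at h2
        refine h2.trans ?_
        have hxo' : orderOf (x : Equiv.Perm α) = 5 := by rw [Subgroup.orderOf_coe]; exact hxo
        obtain ⟨k, hk⟩ := cycleType_of_pow_eq_one (p := 5) (σ := (x : Equiv.Perm α))
          (hxo' ▸ pow_orderOf_eq_one _)
        have hk1 : k = 1 := by
          have hs := (x : Equiv.Perm α).sum_cycleType_le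
          rw [hk, Multiset.sum_replicate, smul_eq_mul, hα] at hs
          have : k ≠ 0 := by
            rintro rfl
            rw [Multiset.replicate_zero, Equiv.Perm.cycleType_eq_zero] at hk
            rw [hk, orderOf_one] at hxo'
            omega
          omega
        rw [card_centralizer_replicate hk, hk1, hα]
        norm_num [Nat.factorial]
      obtain ⟨e, he, heq, -⟩ := exists_normalizer_index (P5 : Subgroup H)
      rw [card_mulAut_of_prime hP5] at he
      rw [heq] at hmul
      have he' := Nat.le_of_dvd (by norm_num) he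
      have hC' := Nat.le_of_dvd (by norm_num) hC
      rcases Nat.lt_or_ge (Nat.card (Sylow 5 H)) 8 with h5 | h5
      · generalize Nat.card (Sylow 5 H) = n5 at *
        generalize Nat.card (Subgroup.centralizer ((P5 : Subgroup H) : Set H)) = C at *
        have : n5 * (C * e) ≤ 6 * (10 * 4) := Nat.mul_le_mul (by omega) (Nat.mul_le_mul hC' he')
        omega
      · generalize Nat.card (Sylow 5 H) = n5 at *
        generalize Nat.card (Subgroup.centralizer ((P5 : Subgroup H) : Set H)) = C at *
        interval_cases n5 <;> first | omega | (interval_cases e <;> first | omega | (interval_cases C <;> omega))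
  -- G = H
  have hGH : G = H := by
    by_contra hne
    have hnA : ¬ G ≤ alternatingGroup α := fun h => hne (le_antisymm (le_inf le_rfl h) inf_le_left)
    have h2 := two_mul_card_of_even_le (inf_le_right : H ≤ alternatingGroup α) inf_le_left hnA
    rw [h168] at h2
    have h16 : 2 ^ 4 ∣ Nat.card G := (Dvd.intro 21 (by norm_num)).trans h2
    obtain ⟨R, hR⟩ := Sylow.exists_subgroup_card_pow_prime 2 h16
    set R' := R.map G.subtype with hR'
    have hR'c : Nat.card R' = 2 ^ 4 := by rw [hR', Subgroup.card_map_of_injective G.subtype_injective, hR]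
    obtain ⟨S, hS⟩ := (IsPGroup.of_card (n := 4) hR'c).exists_le_sylow
    have hSc : Nat.card (S : Subgroup (Equiv.Perm α)) = 2 ^ 4 :=
      card_sylow_eq_pow (a := 4) (m := 315) (by rw [Nat.card_perm, Nat.card_eq_fintype_card, hα]; rfl) (by norm_num) S
    have hRS : R' = S := Subgroup.eq_of_le_of_card_ge hS (by rw [hR'c, hSc])
    obtain ⟨a, b, hab⟩ := exists_pair_ne α
    have hsw : Equiv.swap a b ^ 2 ^ 1 = 1 := by simp [pow_two]
    obtain ⟨S', hS'⟩ := (IsPGroup.of_card (n := 1) (G := Subgroup.zpowers (Equiv.swap a b))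
      (p := 2) (by rw [Nat.card_zpowers, (show (Equiv.swap a b).IsSwap from ⟨a, b, hab, rfl⟩).orderOf, pow_one])).exists_le_sylow
    obtain ⟨g, hg⟩ := MulAction.exists_smul_eq (Equiv.Perm α) S' S
    have hmem : g * Equiv.swap a b * g⁻¹ ∈ G := by
      have h1 : MulAut.conj g • (Equiv.swap a b) ∈ ((g • S' : Sylow 2 (Equiv.Perm α)) : Subgroup _) := by
        rw [Sylow.coe_subgroup_smul]
        exact Subgroup.smul_mem_pointwise_smul _ _ _ (hS' (Subgroup.mem_zpowers _))
      rw [hg, ← hRS] at h1
      obtain ⟨y, -, hy⟩ := h1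
      have : MulAut.conj g • Equiv.swap a b = g * Equiv.swap a b * g⁻¹ := rfl
      rw [← this, ← hy]
      exact y.2
    have hswap : (g * Equiv.swap a b * g⁻¹).IsSwap := by
      rw [← Equiv.swap_apply_apply]
      exact ⟨g a, g b, fun h => hab (g.injective h), rfl⟩
    haveI : MulAction.IsPreprimitive G α := MulAction.IsPreprimitive.of_prime_card (by
      rw [Nat.card_eq_fintype_card, hα]; norm_num)
    have htop := Equiv.Perm.subgroup_eq_top_of_isPreprimitive_of_isSwap_mem inferInstance _ hswap hmem
    exact hA (htop ▸ le_top)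
  rw [hGH]
  refine ⟨h168, ?_⟩
  haveI : Nontrivial H := by
    rw [← Finite.one_lt_card_iff_nontrivial, h168]; norm_num
  refine ⟨fun N hN => ?_⟩
  rcases eq_or_ne N ⊥ with hb | hb
  · exact Or.inl hb
  right
  haveI : MulAction.IsPreprimitive H α := MulAction.IsPreprimitive.of_prime_card (by
    rw [Nat.card_eq_fintype_card, hα]; norm_num)
  have hfix : MulAction.fixedPoints N α ≠ Set.univ := by
    intro hf
    apply hb
    rw [eq_bot_iff]
    intro x hx
    rw [Subgroup.mem_bot]
    apply Subtype.ext
    ext a
    have : a ∈ MulAction.fixedPoints N α := by rw [hf]; trivial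
    exact this ⟨x, hx⟩
  haveI hNt := MulAction.IsQuasiPreprimitive.isPretransitive_of_normal (G := H) (X := α) (N := N) hfix
  set N' := N.map H.subtype with hN'
  haveI : MulAction.IsPretransitive N' α := ⟨fun u v => by
    obtain ⟨⟨n, hn⟩, h⟩ := MulAction.exists_smul_eq N u v
    exact ⟨⟨n, Subgroup.mem_map_of_mem _ hn⟩, h⟩⟩
  have hN'A : N' ≤ alternatingGroup α := (Subgroup.map_subtype_le _).trans inf_le_right
  let eN : N ≃* N' := N.equivMapOfInjective H.subtype H.subtype_injective
  have hsyl : Nat.card (Sylow 7 N') = 8 := by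
    have h7 : 7 ∣ Nat.card N := by
      have := seven_dvd hα N'
      rwa [← Nat.card_congr eN.toEquiv] at this
    obtain ⟨y, hy⟩ := exists_prime_orderOf_dvd_card' (G := N) 7 h7
    have hcompl : ∀ Q : Sylow 7 H, (Q : Subgroup H) ≤ N := by
      intro Q
      obtain ⟨Q₀, hQ₀⟩ := (IsPGroup.of_card (n := 1) (p := 7) (G := Subgroup.zpowers (y : H))
        (by rw [Nat.card_zpowers, Subgroup.orderOf_coe, hy, pow_one])).exists_le_sylow
      have hQ₀c := (sylow_seven hα H Q₀).1
      have heq : Subgroup.zpowers (y : H) = Q₀ := Subgroup.eq_of_le_of_card_ge hQ₀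
        (by rw [hQ₀c, Nat.card_zpowers, Subgroup.orderOf_coe, hy])
      have hQ₀N : (Q₀ : Subgroup H) ≤ N := by rw [← heq]; exact Subgroup.zpowers_le.mpr y.2
      obtain ⟨g, rfl⟩ := MulAction.exists_smul_eq H Q₀ Q
      rw [Sylow.coe_subgroup_smul]
      rintro _ ⟨z, hz, rfl⟩
      exact hN.conj_mem z (hQ₀N hz) g
    let toH : Sylow 7 N → Subgroup H := fun Q => (Q : Subgroup N).map N.subtype
    let toN : Sylow 7 H → Sylow 7 N := fun Q => Q.subtype (hcompl Q)
    have hbij : Function.Bijective toN := by
      constructor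
      · intro Q Q' h
        apply Sylow.ext
        have h2 := congrArg (fun S : Sylow 7 N => (S : Subgroup N).map N.subtype) h
        simp only [toN, Sylow.coe_subtype, Subgroup.map_subgroupOf_eq_of_le (hcompl Q),
          Subgroup.map_subgroupOf_eq_of_le (hcompl Q')] at h2
        exact h2
      · intro S
        obtain ⟨Q, hQ⟩ := (S.isPGroup'.map N.subtype).exists_le_sylow
        refine ⟨Q, ?_⟩
        apply Sylow.ext
        exact S.3 (Q.subtype (hcompl Q)).isPGroup' (fun z hz => hQ (Subgroup.mem_map_of_mem _ hz))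
    have hms : Function.Bijective (Sylow.mapSurjective (p := 7) (f := eN.toMonoidHom) eN.surjective) := by
      refine ⟨fun S S' h => ?_, Sylow.mapSurjective_surjective _ 7⟩
      apply Sylow.ext
      have h2 := congrArg (fun T : Sylow 7 N' => (T : Subgroup N')) h
      exact Subgroup.map_injective eN.injective h2
    rw [← Nat.card_congr (Equiv.ofBijective _ hms), ← Nat.card_congr (Equiv.ofBijective toN hbij)]
    have hm := hHc.symm.trans h168
    omega
  have hNc := card_eq_of_transitive hα N' hN'A (by omega)
  rw [hsyl, ← Nat.card_congr eN.toEquiv] at hNc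
  exact Subgroup.eq_top_of_card_eq N (by rw [hNc, h168])

end Cfsg.Agent.S0678
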