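import Cfsg.Statements.S0679
import Cfsg.Agent.DegreeEleven.Main
import Cfsg.Agent.SmallOrder.RecogPSL

set_option autoImplicit false
open Cfsg

namespace Cfsg.Agent.S0679

section Prep
open Cfsg.Agent.SmallOrder

theorem base11 : RecogPSL.Base 11 5 3 2 := by decide +kernel

theorem check11 : RecogPSL.Check 11 5 3 2 := by decide +kernel

theorem divisors11 : ∀ n : ℕ, n < 5 * (11 + 1) + 1 → n ∣ 5 * (11 + 1) → n % 11 = 1 →
    n = 1 ∨ n = 11 + 1 := by decide +kernel

end Prep

/-- A non-solvable transitive permutation group on 11 points that does not contain the alternating group is either sharply 4-transitive (of order 7920) or isomorphic to the projective special linear group of degree 2 over the field with 11 elements. -/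
theorem result {α : Type*} [Fintype α] [DecidableEq α] (hα : Fintype.card α = 11) (G : Subgroup (Equiv.Perm α)) [MulAction.IsPretransitive G α] (hG : ¬ Group.IsSolvable G) (hA : ¬ alternatingGroup α ≤ G) : (MulAction.IsMultiplyPretransitive G α 4 ∧ ∀ x : Fin 4 ↪ α, MulAction.stabilizer G x = ⊥) ∨ Nonempty (G ≃* Matrix.ProjectiveSpecialLinearGroup (Fin 2) (ZMod 11)) := by
  classical
  have : Fact (Nat.Prime 11) := ⟨by norm_num⟩
  have hn : Nat.card α = 11 := by rw [Nat.card_eq_fintype_card, hα]
  have hprim : MulAction.IsPreprimitive G α := MulAction.IsPreprimitive.of_prime_card (hn ▸ Fact.out)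
  have hGood := DegreeEleven.good_of_primitive hα G hprim hA
  obtain ⟨hTt, hTns⟩ := DegreeEleven.even_part hα G hG
  have hTG : (G ⊓ alternatingGroup α : Subgroup (Equiv.Perm α)) ≤ G := inf_le_left
  obtain ⟨h | h, -⟩ := DegreeEleven.order_cases hα (hGood.mono hTG) inf_le_right hTt hTns
  · -- order 660
    have hle := DegreeEleven.eq_even_small hα hGood h
    have heq : G ⊓ alternatingGroup α = G := inf_eq_left.2 hle
    rw [heq] at h
    have := DegreeEleven.simple_660 hα hGood hle hG h
    exact Or.inr (SmallOrder.RecogPSL.iso_psl (p := 11) (m := 5) (by norm_num) (by norm_num)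
      base11 check11 (by rw [h]) divisors11 (ZMod.card 11))
  · have hle := DegreeEleven.eq_even_big hα hGood h
    have heq : G ⊓ alternatingGroup α = G := inf_eq_left.2 hle
    rw [heq] at h
    exact Or.inl (DegreeEleven.sharp hα hGood hle h)

end Cfsg.Agent.S0679
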