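import Cfsg.Statements.S0680
import Mathlib.GroupTheory.Sylow

set_option autoImplicit false
open Cfsg

namespace Cfsg.Agent.S0680

/-- A finite sharply doubly transitive permutation group has degree a prime power `p ^ j`; a Sylow `p`-subgroup is normal, elementary abelian and regular, and consists of the identity together with the elements without fixed points. (Frobenius' Theorem is not needed.) -/
theorem result {α : Type*} [Fintype α] [DecidableEq α] (G : Subgroup (Equiv.Perm α)) [MulAction.IsMultiplyPretransitive G α 2] (hsharp : ∀ x : Fin 2 ↪ α, MulAction.stabilizer G x = ⊥) (h2 : 2 ≤ Fintype.card α) : ∃ p j : ℕ, p.Prime ∧ 1 ≤ j ∧ Fintype.card α = p ^ j ∧ ∀ (hp : Fact p.Prime) (P : Sylow p G), (P : Subgroup G).Normal ∧ IsMulCommutative (P : Subgroup G) ∧ (∀ x ∈ (P : Subgroup G), x ^ p = 1) ∧ MulAction.IsPretransitive (P : Subgroup G) α ∧ (∀ a : α, MulAction.stabilizer (P : Subgroup G) a = ⊥) ∧ ∀ g : G, g ∈ (P : Subgroup G) ↔ g = 1 ∨ ∀ a : α, g • a ≠ a := by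
  classical
  set n := Fintype.card α with hn
  have h2' : ∀ {a b c d : α}, a ≠ b → c ≠ d → ∃ g : G, g • a = c ∧ g • b = d :=
    MulAction.is_two_pretransitive_iff.1 (inferInstance : MulAction.IsMultiplyPretransitive G α 2)
  have htr : MulAction.IsPretransitive G α := ⟨fun x y => by
    rcases eq_or_ne x y with rfl | hxy
    · exact ⟨1, one_smul _ _⟩
    · obtain ⟨g, hg, -⟩ := h2' hxy (Ne.symm hxy); exact ⟨g, hg⟩⟩
  have sharp : ∀ (g : G) (a b : α), a ≠ b → g • a = a → g • b = b → g = 1 := by
    intro g a b hab ha hb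
    have hm : g ∈ MulAction.stabilizer G (⟨![a, b], by
        intro i j h; fin_cases i <;> fin_cases j <;> simp_all⟩ : Fin 2 ↪ α) := by
      rw [MulAction.mem_stabilizer_iff]; ext i; show g • (![a, b] i) = ![a, b] i; fin_cases i <;> simp [ha, hb]
    rwa [hsharp, Subgroup.mem_bot] at hm
  have hne : Nonempty α := Fintype.card_pos_iff.1 (by omega)
  obtain ⟨a⟩ := hne
  have hstab : ∀ x : α, Nat.card (MulAction.stabilizer G x) = n - 1 := by
    intro x
    obtain ⟨y, hy⟩ := Fintype.exists_ne_of_one_lt_card (show 1 < Fintype.card α by omega) x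
    let e : MulAction.stabilizer G x → {z : α // z ≠ x} := fun g =>
      ⟨(g : G) • y, fun h => hy (smul_left_cancel (g : G) (h.trans g.2.symm))⟩
    have he : Function.Bijective e := by
      refine ⟨fun g k hgk => ?_, fun z => ?_⟩
      · have h := congrArg Subtype.val hgk
        have := sharp ((k : G)⁻¹ * g) x y (Ne.symm hy) (by
          rw [mul_smul, g.2]; exact inv_smul_eq_iff.2 k.2.symm) (by
          rw [mul_smul]; exact inv_smul_eq_iff.2 h)
        exact Subtype.ext (inv_mul_eq_one.1 this).symm
      · obtain ⟨g, hg1, hg2⟩ := h2' (Ne.symm hy) (Ne.symm z.2)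
        exact ⟨⟨g, hg1⟩, Subtype.ext hg2⟩
    rw [Nat.card_congr (Equiv.ofBijective e he), Nat.card_eq_fintype_card, Fintype.card_subtype_compl,
      Fintype.card_subtype_eq]
  have hG : Nat.card G = n * (n - 1) := by
    rw [← (MulAction.stabilizer G a).index_mul_card, MulAction.index_stabilizer_of_transitive, hstab,
      Nat.card_eq_fintype_card]
  have : Fintype G := Fintype.ofFinite G
  set F := Finset.univ.filter fun g : G => ∀ x : α, g • x ≠ x with hF
  have hFc : F.card + 1 = n := by
    have h1 : Finset.univ.filter (fun g : G => ¬ ∀ x : α, g • x ≠ x) =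
        insert 1 (Finset.univ.biUnion fun x : α => Finset.univ.filter fun g : G => g • x = x ∧ g ≠ 1) := by
      ext g
      simp only [Finset.mem_filter, Finset.mem_univ, true_and, Finset.mem_insert, Finset.mem_biUnion]
      constructor
      · intro hg; push Not at hg; obtain ⟨x, hx⟩ := hg
        rcases eq_or_ne g 1 with h | h
        · exact Or.inl h
        · exact Or.inr ⟨x, hx, h⟩
      · rintro (rfl | ⟨x, hx, -⟩) hall
        · exact hall a (one_smul _ _)
        · exact hall x hx
    have h3 : (Finset.univ.biUnion fun x : α => Finset.univ.filter fun g : G => g • x = x ∧ g ≠ 1).card = n * (n - 2) := by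
      rw [Finset.card_biUnion]
      · have h4 : ∀ x : α, (Finset.univ.filter fun g : G => g • x = x ∧ g ≠ 1).card = n - 2 := by
          intro x
          have : (Finset.univ.filter fun g : G => g • x = x ∧ g ≠ 1) =
              (Finset.univ.filter fun g : G => g • x = x).erase 1 := by
            ext g; simp [and_comm]
          rw [this, Finset.card_erase_of_mem (by simp), ← Fintype.card_subtype]
          have h5 := hstab x
          rw [Nat.card_eq_fintype_card] at h5
          have h6 : Fintype.card {g : G // g • x = x} = Fintype.card (MulAction.stabilizer G x) :=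
            Fintype.card_congr (Equiv.refl _)
          omega
        simp only [h4, Finset.sum_const, Finset.card_univ, smul_eq_mul, hn]
      · intro x _ y _ hxy
        simp only [Function.onFun, Finset.disjoint_left, Finset.mem_filter, Finset.mem_univ, true_and]
        rintro g ⟨hg, hg1⟩ ⟨hg', -⟩
        exact hg1 (sharp g x y hxy hg hg')
    have h4 := Finset.card_filter_add_card_filter_not (s := (Finset.univ : Finset G)) (fun g : G => ∀ x : α, g • x ≠ x)
    rw [h1, Finset.card_insert_of_notMem (by simp), h3, Finset.card_univ, ← Nat.card_eq_fintype_card, hG, ← hF] at h4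
    have : n * (n - 1) = n * (n - 2) + n := by
      conv_lhs => rw [show n - 1 = n - 2 + 1 by omega, Nat.mul_succ]
    omega
  obtain ⟨p, hp, hpn⟩ := Nat.exists_prime_and_dvd (show n ≠ 1 by omega)
  have : Fact p.Prime := ⟨hp⟩
  obtain ⟨t, ht⟩ := exists_prime_orderOf_dvd_card' (G := G) p (hG ▸ hpn.mul_right _)
  have hcop : ¬ p ∣ n - 1 := fun h => hp.one_lt.ne' (Nat.dvd_one.1 (by
    have := Nat.dvd_sub hpn h
    rwa [show n - (n - 1) = 1 by omega] at this))
  have hfix0 : ∀ (g : G) (x : α), g • x = x → orderOf g ∣ n - 1 := fun g x hx => by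
    rw [← hstab x, ← Subgroup.orderOf_mk g (show g ∈ MulAction.stabilizer G x from hx)]
    exact orderOf_dvd_natCard _
  have htF : t ∈ F := Finset.mem_filter.2 ⟨Finset.mem_univ _, fun x hx => hcop (ht ▸ hfix0 t x hx)⟩
  have hconjF : ∀ g : G, ∀ u ∈ F, g * u * g⁻¹ ∈ F := by
    intro g u hu
    refine Finset.mem_filter.2 ⟨Finset.mem_univ _, fun x hx => ?_⟩
    rw [mul_smul, mul_smul, ← eq_inv_smul_iff] at hx
    exact (Finset.mem_filter.1 hu).2 _ hx
  have hall : ∀ u ∈ F, ∃ h : G, h * t * h⁻¹ = u := by
    have hinj : Function.Injective (fun h : MulAction.stabilizer G a => (h : G) * t * (h : G)⁻¹) := by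
      intro h k hhk
      have hc : ((k : G)⁻¹ * h) * t = t * ((k : G)⁻¹ * h) := by
        calc ((k : G)⁻¹ * h) * t = (k : G)⁻¹ * ((h : G) * t * (h : G)⁻¹) * h := by group
          _ = (k : G)⁻¹ * ((k : G) * t * (k : G)⁻¹) * h := by rw [show (h : G) * t * (h : G)⁻¹ = _ from hhk]
          _ = t * ((k : G)⁻¹ * h) := by group
      have hfa : ((k : G)⁻¹ * h) • a = a := by
        rw [mul_smul, h.2]; exact inv_smul_eq_iff.2 k.2.symm
      have hta : ((k : G)⁻¹ * h) • t • a = t • a := by rw [← mul_smul, hc, mul_smul, hfa]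
      have := sharp _ a (t • a) (Ne.symm ((Finset.mem_filter.1 htF).2 a)) hfa hta
      exact Subtype.ext (inv_mul_eq_one.1 this).symm
    have hsub : Finset.univ.image (fun h : MulAction.stabilizer G a => (h : G) * t * (h : G)⁻¹) = F := by
      apply Finset.eq_of_subset_of_card_le
      · intro u hu
        obtain ⟨h, -, rfl⟩ := Finset.mem_image.1 hu
        exact hconjF _ _ htF
      · rw [Finset.card_image_of_injective _ hinj, Finset.card_univ, ← Nat.card_eq_fintype_card, hstab]; omega
    intro u hu
    rw [← hsub] at hu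
    obtain ⟨h, -, rfl⟩ := Finset.mem_image.1 hu
    exact ⟨h, rfl⟩
  have hord : ∀ u ∈ F, orderOf u = p := fun u hu => by
    obtain ⟨h, rfl⟩ := hall u hu
    rw [← ht]
    exact MulEquiv.orderOf_eq (MulAut.conj h) t
  have hprimes : ∀ q : ℕ, q.Prime → q ∣ n → q = p := by
    intro q hq hqn
    have : Fact q.Prime := ⟨hq⟩
    obtain ⟨u, hu⟩ := exists_prime_orderOf_dvd_card' (G := G) q (hG ▸ hqn.mul_right _)
    by_cases huF : u ∈ F
    · rw [← hu, hord u huF]
    · simp only [hF, Finset.mem_filter, Finset.mem_univ, true_and, not_forall, not_not] at huF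
      obtain ⟨x, hx⟩ := huF
      exfalso
      have h := Nat.dvd_sub hqn (hu ▸ hfix0 u x hx)
      rw [show n - (n - 1) = 1 by omega] at h
      exact hq.not_dvd_one h
  obtain ⟨j, hj⟩ : ∃ j, n = p ^ j :=
    ⟨n.primeFactorsList.length, Nat.eq_prime_pow_of_unique_prime_dvd (by omega) fun {q} hq hqd => hprimes q hq hqd⟩
  have hj1 : 1 ≤ j := by
    by_contra h
    rw [show j = 0 by omega, pow_zero] at hj
    omega
  refine ⟨p, j, hp, hj1, hj, fun hpf P => ?_⟩
  have hPc : Nat.card P = n := by
    rw [P.card_eq_multiplicity, hG, Nat.factorization_mul (by omega) (by omega), Finsupp.add_apply,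
      Nat.factorization_eq_zero_of_not_dvd hcop, add_zero, hj, hp.factorization_pow, Finsupp.single_eq_same]
  have hPset : ∀ g : G, g ∈ (P : Subgroup G) ↔ g = 1 ∨ g ∈ F := by
    have hsub : (Finset.univ.filter fun g : G => g ∈ (P : Subgroup G)) = insert 1 F := by
      apply Finset.eq_of_subset_of_card_le
      · intro g hg
        rw [Finset.mem_filter] at hg
        rw [Finset.mem_insert]
        rcases eq_or_ne g 1 with h | h
        · exact Or.inl h
        · right
          refine Finset.mem_filter.2 ⟨Finset.mem_univ _, fun x hx => h ?_⟩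
          obtain ⟨i, hi⟩ := P.isPGroup' ⟨g, hg.2⟩
          have h1 : orderOf g ∣ p ^ i := orderOf_dvd_of_pow_eq_one (congrArg Subtype.val hi)
          have h2 := hfix0 g x hx
          rw [← orderOf_eq_one_iff]
          exact Nat.eq_one_of_dvd_coprimes ((hp.coprime_iff_not_dvd.2 hcop).pow_left i) h1 h2
      · rw [Finset.card_insert_of_notMem (fun h : (1 : G) ∈ F => (Finset.mem_filter.1 h).2 a (one_smul G a)), hFc,
          ← Fintype.card_subtype]
        rw [Nat.card_eq_fintype_card] at hPc
        exact le_of_eq hPc.symm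
    intro g
    have := Finset.ext_iff.1 hsub g
    simpa using this
  have hnormal : (P : Subgroup G).Normal := ⟨fun u hu g => by
    rcases (hPset u).1 hu with rfl | h
    · simp
    · exact (hPset _).2 (Or.inr (hconjF g u h))⟩
  have hstab' : ∀ x : α, MulAction.stabilizer (P : Subgroup G) x = ⊥ := by
    intro x
    rw [eq_bot_iff]
    intro g hg
    rcases (hPset g).1 g.2 with h | h
    · exact Subgroup.mem_bot.2 (Subtype.ext h)
    · exact absurd hg ((Finset.mem_filter.1 h).2 x)
  have hPtr : MulAction.IsPretransitive (P : Subgroup G) α := by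
    refine ⟨fun x y => ?_⟩
    have hbij : Function.Bijective fun g : (P : Subgroup G) => g • x := by
      rw [Fintype.bijective_iff_injective_and_card, ← Nat.card_eq_fintype_card, hPc]
      refine ⟨fun g k hgk => ?_, rfl⟩
      have hm : k⁻¹ * g ∈ MulAction.stabilizer (P : Subgroup G) x := by
        rw [MulAction.mem_stabilizer_iff, mul_smul]
        simp only at hgk
        rw [hgk, inv_smul_smul]
      rw [hstab' x, Subgroup.mem_bot, inv_mul_eq_one] at hm
      exact hm.symm
    exact hbij.2 y
  have hexp : ∀ u ∈ (P : Subgroup G), u ^ p = 1 := fun u hu => by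
    rcases (hPset u).1 hu with rfl | h
    · exact one_pow _
    · rw [← hord u h, pow_orderOf_eq_one]
  have hab : IsMulCommutative (P : Subgroup G) := by
    have : Nontrivial (P : Subgroup G) := Finite.one_lt_card_iff_nontrivial.1 (by rw [hPc]; omega)
    have := P.isPGroup'.center_nontrivial
    obtain ⟨c, hc⟩ := exists_ne (1 : Subgroup.center (P : Subgroup G))
    have hcF : ((c : (P : Subgroup G)) : G) ∈ F := by
      rcases (hPset _).1 (c : (P : Subgroup G)).2 with h | h
      · exact absurd (Subtype.ext (Subtype.ext h)) hc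
      · exact h
    refine ⟨⟨fun u v => ?_⟩⟩
    rcases (hPset u).1 u.2 with h | h
    · rw [show u = 1 from Subtype.ext h, one_mul, mul_one]
    obtain ⟨g1, hg1⟩ := hall _ hcF
    obtain ⟨g2, hg2⟩ := hall _ h
    set g := g2 * g1⁻¹
    have hu : (u : G) = g * ((c : (P : Subgroup G)) : G) * g⁻¹ := by rw [← hg1, ← hg2]; simp only [g]; group
    have hv' : g⁻¹ * (v : G) * g ∈ (P : Subgroup G) := by
      simpa using hnormal.conj_mem _ v.2 g⁻¹
    have hcc : g⁻¹ * (v : G) * g * ((c : (P : Subgroup G)) : G) = ((c : (P : Subgroup G)) : G) * (g⁻¹ * (v : G) * g) :=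
      congrArg Subtype.val (Subgroup.mem_center_iff.1 c.2 ⟨_, hv'⟩)
    refine Subtype.ext ?_
    rw [Subgroup.coe_mul, Subgroup.coe_mul, hu]
    calc g * _ * g⁻¹ * (v : G) = g * (((c : (P : Subgroup G)) : G) * (g⁻¹ * (v : G) * g)) * g⁻¹ := by group
      _ = g * (g⁻¹ * (v : G) * g * ((c : (P : Subgroup G)) : G)) * g⁻¹ := by rw [hcc]
      _ = (v : G) * (g * _ * g⁻¹) := by group
  refine ⟨hnormal, hab, hexp, hPtr, hstab', fun g => ?_⟩
  rw [hPset]
  simp [hF]

end Cfsg.Agent.S0680
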