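import Cfsg.Statements.S0681

set_option autoImplicit false
open Cfsg

namespace Cfsg.Agent.S0681

section
variable {F : Type*} [Cfsg.NearField F]

lemma zero_mul' (a : F) : 0 * a = 0 := by
  have h := Cfsg.NearField.right_distrib (0 : F) 0 a
  rw [add_zero] at h
  exact add_left_cancel (a := 0 * a) (by rw [← h, add_zero])

lemma neg_mul' (x a : F) : (-x) * a = -(x * a) := by
  apply eq_neg_of_add_eq_zero_left
  rw [← Cfsg.NearField.right_distrib, neg_add_cancel, zero_mul']

/-- the affine permutation `x ↦ x * a + b` -/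
noncomputable def aff (a b : F) (ha : a ≠ 0) : Equiv.Perm F where
  toFun x := x * a + b
  invFun y := (y + -b) * (Cfsg.NearField.exists_inv a ha).choose
  left_inv x := by
    simp only [add_neg_cancel_right, mul_assoc, (Cfsg.NearField.exists_inv a ha).choose_spec.1, mul_one]
  right_inv y := by
    simp only [mul_assoc, (Cfsg.NearField.exists_inv a ha).choose_spec.2, mul_one, neg_add_cancel_right]

lemma mul_ne_zero' {a c : F} (ha : a ≠ 0) (hc : c ≠ 0) : a * c ≠ 0 := by
  intro h
  obtain ⟨d, hd, -⟩ := Cfsg.NearField.exists_inv c hc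
  apply ha
  calc a = a * (c * d) := by rw [hd, mul_one]
    _ = 0 := by rw [← mul_assoc, h, zero_mul']
end

/-- The affine maps `x ↦ x * a + b`, `a ≠ 0`, of a near-field form a sharply doubly transitive permutation group. -/
theorem result {F : Type*} [Cfsg.NearField F] : ∃ H : Subgroup (Equiv.Perm F), (∀ σ : Equiv.Perm F, σ ∈ H ↔ ∃ a b : F, a ≠ 0 ∧ ∀ x : F, σ x = x * a + b) ∧ MulAction.IsMultiplyPretransitive H F 2 ∧ ∀ x : Fin 2 ↪ F, MulAction.stabilizer H x = ⊥ := by
  refine ⟨{ carrier := {σ | ∃ a b : F, a ≠ 0 ∧ ∀ x : F, σ x = x * a + b}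
            one_mem' := ⟨1, 0, (Cfsg.NearField.zero_ne_one).symm, fun x => by simp⟩
            mul_mem' := ?_
            inv_mem' := ?_ }, fun σ => Iff.rfl, ?_, fun x => ?_⟩
  · rintro σ τ ⟨a, b, ha, hσ⟩ ⟨c, d, hc, hτ⟩
    refine ⟨c * a, d * a + b, mul_ne_zero' hc ha, fun x => ?_⟩
    rw [Equiv.Perm.mul_apply, hσ, hτ, Cfsg.NearField.right_distrib, mul_assoc, add_assoc]
  · rintro σ ⟨a, b, ha, hσ⟩
    obtain ⟨c, hac, hca⟩ := Cfsg.NearField.exists_inv a ha
    refine ⟨c, -b * c, fun hc => Cfsg.NearField.zero_ne_one (by rw [← hac, hc, Cfsg.NearField.mul_zero]), fun x => ?_⟩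
    rw [Equiv.Perm.inv_eq_iff_eq, hσ, ← Cfsg.NearField.right_distrib, mul_assoc, hca, mul_one, neg_add_cancel_right]
  · rw [MulAction.is_two_pretransitive_iff]
    intro a b c d hab hcd
    have h1 : b + -a ≠ 0 := fun h => hab (eq_of_add_neg_eq_zero h).symm
    have h2 : d + -c ≠ 0 := fun h => hcd (eq_of_add_neg_eq_zero h).symm
    obtain ⟨i, hi, hi'⟩ := Cfsg.NearField.exists_inv _ h1
    have hm : i * (d + -c) ≠ 0 := mul_ne_zero' (fun h => Cfsg.NearField.zero_ne_one (by rw [← hi, h, Cfsg.NearField.mul_zero])) h2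
    -- x ↦ (x - a) i (d - c) + c
    refine ⟨⟨aff (i * (d + -c)) (-a * (i * (d + -c)) + c) hm, _, _, hm, fun x => rfl⟩, ?_, ?_⟩
    · show a * (i * (d + -c)) + (-a * (i * (d + -c)) + c) = c
      rw [← add_assoc, ← Cfsg.NearField.right_distrib, add_neg_cancel, zero_mul', zero_add]
    · show b * (i * (d + -c)) + (-a * (i * (d + -c)) + c) = d
      rw [← add_assoc, ← Cfsg.NearField.right_distrib, ← mul_assoc, hi, one_mul, neg_add_cancel_right]
  · rw [eq_bot_iff]
    rintro ⟨σ, a, b, ha, hσ⟩ hs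
    rw [Subgroup.mem_bot]
    have h0 : x 0 * a + b = x 0 := by rw [← hσ]; exact DFunLike.congr_fun hs 0
    have h1 : x 1 * a + b = x 1 := by rw [← hσ]; exact DFunLike.congr_fun hs 1
    have hd : (x 0 + -(x 1)) * a = x 0 + -(x 1) := by
      rw [Cfsg.NearField.right_distrib, neg_mul']
      calc x 0 * a + -(x 1 * a) = (x 0 * a + b) + -(x 1 * a + b) := by rw [neg_add_rev, add_assoc, ← add_assoc b, add_neg_cancel, zero_add]
        _ = x 0 + -(x 1) := by rw [h0, h1]
    obtain ⟨i, -, hi⟩ := Cfsg.NearField.exists_inv (x 0 + -(x 1)) (fun h => by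
      have := x.injective (eq_of_add_neg_eq_zero h); exact Fin.zero_ne_one this)
    have ha1 : a = 1 := by
      calc a = i * (x 0 + -(x 1)) * a := by rw [hi, one_mul]
        _ = 1 := by rw [mul_assoc, hd, hi]
    subst ha1
    rw [mul_one, add_eq_left] at h0
    subst h0
    exact Subtype.ext (Equiv.ext fun y => by simp [hσ])

end Cfsg.Agent.S0681
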