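import Cfsg.Statements.S0682
import Mathlib.GroupTheory.PGroup
import Mathlib.GroupTheory.Sylow

set_option autoImplicit false
open Cfsg

namespace Cfsg.Agent.S0682

/-- right multiplication -/
def mulR {F : Type*} [Cfsg.NearField F] (a : F) : Multiplicative F →* Multiplicative F :=
  MonoidHom.mk' (fun x => Multiplicative.ofAdd (Multiplicative.toAdd x * a)) fun x y =>
    congrArg Multiplicative.ofAdd (Cfsg.NearField.right_distrib _ _ a)

/-- A finite near-field has prime-power order; its additive group is commutative of prime exponent. -/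
theorem result {F : Type*} [Cfsg.NearField F] [Finite F] : ∃ p j : ℕ, p.Prime ∧ 1 ≤ j ∧ Nat.card F = p ^ j ∧ (∀ x y : F, x + y = y + x) ∧ ∀ x : F, p • x = 0 := by
  classical
  let M := Multiplicative F
  have : Nontrivial F := ⟨0, 1, Cfsg.NearField.zero_ne_one⟩
  have : Finite M := Finite.of_equiv F Multiplicative.ofAdd
  have htrans : ∀ x y : F, x ≠ 0 → ∃ a : F, x * a = y := fun x y hx => by
    obtain ⟨i, hi, -⟩ := Cfsg.NearField.exists_inv x hx
    exact ⟨i * y, by rw [← mul_assoc, hi, one_mul]⟩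
  obtain ⟨p, hp, hpd⟩ := Nat.exists_prime_and_dvd (n := Nat.card M) Finite.one_lt_card.ne'
  have : Fact p.Prime := ⟨hp⟩
  obtain ⟨z, hz⟩ := exists_prime_orderOf_dvd_card' p hpd
  have hz0 : Multiplicative.toAdd z ≠ 0 := fun h => by
    have hz1 : z = 1 := h
    rw [hz1, orderOf_one] at hz
    exact hp.one_lt.ne hz
  have hexp : ∀ y : M, y ^ p = 1 := fun y => by
    obtain ⟨a, ha⟩ := htrans _ (Multiplicative.toAdd y) hz0
    have : y = mulR a z := congrArg Multiplicative.ofAdd ha.symm
    rw [this, ← map_pow, ← hz, pow_orderOf_eq_one, map_one]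
  have hP : IsPGroup p M := fun y => ⟨1, by rw [pow_one]; exact hexp y⟩
  have : Nontrivial M := Multiplicative.ofAdd.symm.nontrivial
  have := hP.center_nontrivial
  obtain ⟨c, hc⟩ := exists_ne (1 : Subgroup.center M)
  have hc0 : Multiplicative.toAdd (c : M) ≠ 0 := fun h => hc (Subtype.ext h)
  have hcomm : ∀ x y : F, x + y = y + x := fun x y => by
    rcases eq_or_ne y 0 with rfl | hy
    · rw [add_zero, zero_add]
    obtain ⟨a, ha⟩ := htrans _ y hc0
    obtain ⟨b, hb⟩ : ∃ b, b * a = x := by
      have ha0 : a ≠ 0 := fun h => hy (by rw [← ha, h, Cfsg.NearField.mul_zero])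
      obtain ⟨i, -, hi⟩ := Cfsg.NearField.exists_inv a ha0
      exact ⟨x * i, by rw [mul_assoc, hi, mul_one]⟩
    have := Subgroup.mem_center_iff.1 c.2 (Multiplicative.ofAdd b)
    rw [← ha, ← hb, ← Cfsg.NearField.right_distrib, ← Cfsg.NearField.right_distrib]
    exact congrArg (fun t => t * a) (congrArg Multiplicative.toAdd this)
  obtain ⟨j, hj⟩ := IsPGroup.iff_card.1 hP
  refine ⟨p, j, hp, ?_, (Nat.card_congr Multiplicative.ofAdd).trans hj, hcomm, fun x => hexp (Multiplicative.ofAdd x)⟩
  by_contra h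
  have : j = 0 := by omega
  rw [this, pow_zero] at hj
  exact (Finite.one_lt_card (α := M)).ne hj.symm

end Cfsg.Agent.S0682
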