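import Cfsg.Statements.S0683
import Cfsg.Agent.S0680

set_option autoImplicit false
open Cfsg

namespace Cfsg.Agent.S0683

/-- the multiplication attached to a choice of maps -/
noncomputable def mulBy {α : Type*} (zero : α) (h : ∀ y : α, y ≠ zero → Equiv.Perm α) (x y : α) : α :=
  haveI := Classical.dec (y = zero)
  if hy : y = zero then zero else h y hy x

/-- A finite sharply doubly transitive permutation group is the affine group of a near-field: the permuted set carries a near-field structure for which the group consists exactly of the maps `x ↦ x * a + b` with `a ≠ 0`. -/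
theorem result {α : Type*} [Fintype α] [DecidableEq α] (H : Subgroup (Equiv.Perm α)) [MulAction.IsMultiplyPretransitive H α 2] (hsharp : ∀ x : Fin 2 ↪ α, MulAction.stabilizer H x = ⊥) (h2 : 2 ≤ Fintype.card α) : ∃ _ : Cfsg.NearField α, ∀ σ : Equiv.Perm α, σ ∈ H ↔ ∃ a b : α, a ≠ 0 ∧ ∀ x : α, σ x = x * a + b := by
  classical
  obtain ⟨p, j, hp, hj, hcard, hP⟩ := Cfsg.Agent.S0680.result H hsharp h2
  have : Fact p.Prime := ⟨hp⟩
  obtain ⟨P⟩ : Nonempty (Sylow p H) := inferInstance
  obtain ⟨hPn, hPc, -, hPt, hPreg, -⟩ := hP ⟨hp⟩ P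
  obtain ⟨o, i, hoi⟩ : ∃ o i : α, o ≠ i := Fintype.one_lt_card_iff.1 (by omega)
  have h2' : ∀ {a b c d : α}, a ≠ b → c ≠ d → ∃ g : H, g • a = c ∧ g • b = d :=
    MulAction.is_two_pretransitive_iff.1 (inferInstance : MulAction.IsMultiplyPretransitive H α 2)
  have sharp : ∀ {g k : H} {a b : α}, a ≠ b → g • a = k • a → g • b = k • b → g = k := by
    intro g k a b hab ha hb
    have hm : k⁻¹ * g ∈ MulAction.stabilizer H (⟨![a, b], by
        intro u v h; fin_cases u <;> fin_cases v <;> simp_all⟩ : Fin 2 ↪ α) := by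
      rw [MulAction.mem_stabilizer_iff]; ext u; show (k⁻¹ * g) • (![a, b] u) = ![a, b] u
      fin_cases u <;> simp [mul_smul, inv_smul_eq_iff, ha, hb]
    rw [hsharp, Subgroup.mem_bot, inv_mul_eq_one] at hm
    exact hm.symm
  choose n hn using fun x : α => hPt.exists_smul_eq o x
  have nuniq : ∀ (m : (P : Subgroup H)) x, m • o = x → n x = m := fun m x hm => by
    have : m⁻¹ * n x ∈ MulAction.stabilizer (P : Subgroup H) o := by
      rw [MulAction.mem_stabilizer_iff, mul_smul, hn x, ← hm, inv_smul_smul]
    rw [hPreg o, Subgroup.mem_bot, inv_mul_eq_one] at this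
    exact this.symm
  have hex : ∀ y : α, y ≠ o → ∃ g : H, g • o = o ∧ g • i = y := fun y hy => h2' hoi (Ne.symm hy)
  choose hh hh0 hh1 using hex
  let hmap : ∀ y : α, y ≠ o → Equiv.Perm α := fun y hy => (hh y hy : H).1
  let add : α → α → α := fun x y => n x • y
  have addc : ∀ x y, add x y = add y x := fun x y => by
    show n x • y = n y • x
    conv_lhs => rw [← hn y]
    conv_rhs => rw [← hn x]
    rw [← mul_smul, ← mul_smul, hPc.is_comm.comm]
  have nadd : ∀ x y, n (add x y) = n x * n y := fun x y => nuniq _ _ (by rw [mul_smul, hn y])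
  have n0 : n o = 1 := nuniq _ _ (one_smul _ _)
  have mulz : ∀ x, mulBy o hmap x o = o := fun x => by simp [mulBy]
  have mule : ∀ x y (hy : y ≠ o), mulBy o hmap x y = hh y hy • x := fun x y hy => by
    simp [mulBy, hy, hmap]; rfl
  have hzero : ∀ y, mulBy o hmap o y = o := fun y => by
    by_cases hy : y = o
    · rw [hy]; exact mulz o
    · rw [mule o y hy]; exact hh0 y hy
  have hh0' : ∀ y (hy : y ≠ o) x, hh y hy • x = o → x = o := fun y hy x hx => smul_left_cancel (hh y hy) (hx.trans (hh0 y hy).symm)
  have rdist : ∀ x y z, mulBy o hmap (add x y) z = add (mulBy o hmap x z) (mulBy o hmap y z) := by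
    intro x y z
    by_cases hz : z = o
    · rw [hz]
      simp only [mulz]
      show o = n o • o
      rw [n0, one_smul]
    · simp only [mule _ z hz]
      set g := hh z hz
      have hc : g * (n x : H) * g⁻¹ ∈ (P : Subgroup H) := hPn.conj_mem _ (n x).2 g
      have hnx : n (g • x) = ⟨_, hc⟩ := nuniq _ _ (by
        show (g * (n x : H) * g⁻¹) • o = g • x
        rw [mul_smul, mul_smul, inv_smul_eq_iff.2 (hh0 z hz).symm, ← Subgroup.smul_def, hn x])
      show g • (n x : H) • y = (n (g • x) : H) • g • y
      rw [hnx]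
      show g • (n x : H) • y = (g * (n x : H) * g⁻¹) • g • y
      rw [mul_smul, mul_smul, inv_smul_smul]
  have hh1' : hh i (Ne.symm hoi) = 1 := sharp hoi ((hh0 _ _).trans (one_smul _ _).symm) ((hh1 _ _).trans (one_smul _ _).symm)
  have massoc : ∀ x y z, mulBy o hmap (mulBy o hmap x y) z = mulBy o hmap x (mulBy o hmap y z) := by
    intro x y z
    by_cases hz : z = o
    · simp only [hz, mulz]
    by_cases hy : y = o
    · simp only [hy, mulz, hzero]
    have hyz : mulBy o hmap y z ≠ o := fun e => hy (hh0' z hz y (by rw [← mule y z hz]; exact e))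
    rw [mule x y hy, mule _ z hz, mule x _ hyz]
    have : hh (mulBy o hmap y z) hyz = hh z hz * hh y hy := sharp hoi
      (by rw [mul_smul, hh0, hh0, hh0]) (by rw [mul_smul, hh1, hh1, mule y z hz])
    rw [this, mul_smul]
  have minv : ∀ a, a ≠ o → ∃ b, mulBy o hmap a b = i ∧ mulBy o hmap b a = i := by
    intro a ha
    have hb : (hh a ha)⁻¹ • i ≠ o := fun e => hoi.symm (by rwa [inv_smul_eq_iff, hh0] at e)
    refine ⟨(hh a ha)⁻¹ • i, ?_, ?_⟩
    · rw [mule _ _ hb]
      have : hh _ hb = (hh a ha)⁻¹ := sharp hoi (by rw [hh0, eq_comm, inv_smul_eq_iff, hh0]) (by rw [hh1])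
      rw [this, inv_smul_eq_iff, hh1]
    · rw [mule _ _ ha, smul_inv_smul]
  let inst : Cfsg.NearField α :=
    letI : Zero α := ⟨o⟩
    letI : Add α := ⟨add⟩
    letI : Neg α := ⟨fun x => (n x)⁻¹ • o⟩
    letI : One α := ⟨i⟩
    letI : Mul α := ⟨mulBy o hmap⟩
    { add := add
      add_assoc := fun x y z => by show n (add x y) • z = n x • n y • z; rw [nadd, mul_smul]
      zero := o
      zero_add := fun x => by show n o • x = x; rw [n0, one_smul]
      add_zero := fun x => hn x
      neg := fun x => (n x)⁻¹ • o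
      neg_add_cancel := fun x => by
        show n ((n x)⁻¹ • o) • x = o
        rw [nuniq (n x)⁻¹ _ rfl, inv_smul_eq_iff, hn]
      nsmul := nsmulRec
      zsmul := zsmulRec
      mul := mulBy o hmap
      mul_assoc := massoc
      one := i
      one_mul := fun x => by
        by_cases hx : x = o
        · rw [hx]; exact mulz i
        · show mulBy o hmap i x = x
          rw [mule i x hx, hh1]
      mul_one := fun x => by
        show mulBy o hmap x i = x
        rw [mule x i (Ne.symm hoi), hh1', one_smul]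
      npow := npowRec
      right_distrib := rdist
      mul_zero := mulz
      zero_ne_one := hoi
      exists_inv := minv }
  refine ⟨inst, fun σ => ⟨fun hσ => ?_, ?_⟩⟩
  · set g : H := ⟨σ, hσ⟩
    set b := g • o
    set k : H := (n b : H)⁻¹ * g
    have hk0 : k • o = o := by
      rw [mul_smul, inv_smul_eq_iff]
      exact (hn b).symm
    have hki : k • i ≠ o := fun e => hoi (smul_left_cancel k (hk0.trans e.symm))
    have hk : k = hh (k • i) hki := sharp hoi (hk0.trans (hh0 _ _).symm) (hh1 _ _).symm
    refine ⟨k • i, b, hki, fun x => ?_⟩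
    show g • x = add (mulBy o hmap x (k • i)) b
    rw [addc, mule x _ hki, ← hk]
    show g • x = (n b : H) • k • x
    rw [← mul_smul, mul_inv_cancel_left]
  · rintro ⟨a, b, ha, hσ⟩
    have : σ = ((((n b : H) * hh a ha : H)) : Equiv.Perm α) := Equiv.ext fun x => by
      rw [hσ x]
      show add (mulBy o hmap x a) b = ((n b : H) * hh a ha) • x
      rw [addc, mule x a ha, mul_smul]
      rfl
    rw [this]
    exact ((n b : H) * hh a ha).2

end Cfsg.Agent.S0683
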