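import Cfsg.Statements.S0684
import Cfsg.Agent.Core.RegularLinear
-- import your own Cfsg.Agent.* helpers here

set_option autoImplicit false
open Cfsg

namespace Cfsg.Agent.S0684

/-- Point stabiliser of a sharply doubly transitive group not of semilinear type: a maximal normal abelian subgroup `A` of a linear group `H` that is regular on non-zero vectors and has no irreducible cyclic normal subgroup is cyclic and reducible, and the order of `A` divides `p ^ k - 1` for `k` the dimension of a minimal `A`-invariant subspace. -/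
theorem result {p : ℕ} [Fact p.Prime] {V : Type*} [AddCommGroup V] [Module (ZMod p) V] [Finite V] (H : Subgroup (V ≃ₗ[ZMod p] V)) (hreg : ∀ v w : V, v ≠ 0 → w ≠ 0 → ∃! h : H, (h : V ≃ₗ[ZMod p] V) v = w) (hI : ∀ A : Subgroup H, A.Normal → IsCyclic A → ∃ W : Submodule (ZMod p) V, W ≠ ⊥ ∧ W ≠ ⊤ ∧ ∀ a ∈ A, ∀ v ∈ W, ((a : H) : V ≃ₗ[ZMod p] V) v ∈ W) (A : Subgroup H) (hAn : A.Normal) (hAc : IsMulCommutative A) (hAmax : ∀ B : Subgroup H, B.Normal → IsMulCommutative B → A ≤ B → B = A) : IsCyclic A ∧ ∃ W : Submodule (ZMod p) V, W ≠ ⊥ ∧ W ≠ ⊤ ∧ (∀ a ∈ A, ∀ v ∈ W, ((a : H) : V ≃ₗ[ZMod p] V) v ∈ W) ∧ (∀ W' : Submodule (ZMod p) V, W' ≤ W → (∀ a ∈ A, ∀ v ∈ W', ((a : H) : V ≃ₗ[ZMod p] V) v ∈ W') → W' = ⊥ ∨ W' = W) ∧ Nat.card A ∣ p ^ Module.finrank (ZMod p) W - 1 := by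
  rcases subsingleton_or_nontrivial V with hV | hV
  · have h1 : ∀ a : A, a = 1 := fun a => Subtype.ext (Subtype.ext (LinearEquiv.ext fun v => Subsingleton.elim _ _))
    have : Subsingleton A := ⟨fun a b => (h1 a).trans (h1 b).symm⟩
    obtain ⟨W, hW0, -, -⟩ := hI ⊥ inferInstance inferInstance
    exact absurd (Subsingleton.elim W ⊥) hW0
  have hc := Agent.Core.abelian_cyclic H hreg hV A
  refine ⟨hc, ?_⟩
  obtain ⟨W₀, h0, h1, hinv⟩ := hI A hAn hc
  obtain ⟨W, hle, hW0, hWi, hWm⟩ :=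
    Agent.Core.exists_minimal_invariant H (A := A) h0 fun a w hw => hinv a a.2 w hw
  refine ⟨W, hW0, fun e => h1 (eq_top_mono hle e), fun a ha v hv => hWi ⟨a, ha⟩ v hv,
    fun W' h' h'' => hWm W' h' fun a u hu => h'' a a.2 u hu, ?_⟩
  have h := (Agent.Core.abelian_fpf_minimal (Agent.Core.linAction H A)
    (Agent.Core.linAction_fpf H hreg A) W hW0 hWi hWm).2.1
  rwa [Module.natCard_eq_pow_finrank (K := ZMod p) (V := W), Nat.card_zmod] at h

end Cfsg.Agent.S0684
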