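import Cfsg.Statements.S0688
import Cfsg.Agent.RegularNormal.Basic

set_option autoImplicit false
open Cfsg

namespace Cfsg.Agent.S0688

theorem sq_zmod_three : ∀ c : ZMod 3, c ≠ 0 → c * c = 1 := by decide

/-- Degrees of the soluble exceptional sharply doubly transitive groups: if a solvable linear group over the prime field is regular on the non-zero vectors of `V` and has no irreducible cyclic normal subgroup, then `V` has 25, 49, 121 or 529 elements. -/
theorem result {p : ℕ} [Fact p.Prime] {V : Type*} [AddCommGroup V] [Module (ZMod p) V] [Finite V] (H : Subgroup (V ≃ₗ[ZMod p] V)) (hreg : ∀ v w : V, v ≠ 0 → w ≠ 0 → ∃! h : H, (h : V ≃ₗ[ZMod p] V) v = w) (hI : ∀ A : Subgroup H, A.Normal → IsCyclic A → ∃ W : Submodule (ZMod p) V, W ≠ ⊥ ∧ W ≠ ⊤ ∧ ∀ a ∈ A, ∀ v ∈ W, ((a : H) : V ≃ₗ[ZMod p] V) v ∈ W) (hsolv : Group.IsSolvable H) : Nat.card V = 25 ∨ Nat.card V = 49 ∨ Nat.card V = 121 ∨ Nat.card V = 529 := by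
  rcases subsingleton_or_nontrivial V with hV | hV
  · have : Subsingleton (Submodule (ZMod p) V) :=
      ⟨fun W W' => SetLike.ext fun x => by simp [Subsingleton.elim x 0]⟩
    obtain ⟨W, hW0, -, -⟩ := hI ⊥ inferInstance inferInstance
    exact absurd (Subsingleton.elim W ⊥) hW0
  classical
  obtain ⟨A, -, hA⟩ := (Set.toFinite {B : Subgroup H | B.Normal ∧ IsMulCommutative B}).exists_le_maximal
    (a := (⊥ : Subgroup H)) ⟨inferInstance, inferInstance⟩
  have hAn : A.Normal := hA.prop.1
  have hAc : IsMulCommutative A := hA.prop.2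
  have hAmax : ∀ B : Subgroup H, B.Normal → IsMulCommutative B → A ≤ B → B = A :=
    fun B h1 h2 h3 => le_antisymm (hA.le_of_ge ⟨h1, h2⟩ h3) h3
  obtain ⟨-, hCna⟩ := S0685.result H hreg hI A hAn hAc hAmax
  obtain ⟨N, hNC, hN⟩ := (Set.toFinite {B : Subgroup H | B.Normal ∧ ¬ IsMulCommutative B}).exists_le_minimal
    (a := Subgroup.centralizer (A : Set H)) ⟨inferInstance, hCna⟩
  have hNn : N.Normal := hN.prop.1
  obtain ⟨e⟩ := RegularNormal.quat_of_minimal hreg A N hAmax hNC hN.prop.2
    fun M h1 h2 h3 => le_antisymm h2 (hN.le_of_le ⟨h1, h3⟩ h2)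
  obtain ⟨-, hcard, hp⟩ := RegularNormal.quat_main hreg A N hAmax hNC e
  have hpp : p.Prime := Fact.out
  have hp24 : p ≤ 23 := by have := Nat.le_of_dvd (by norm_num) hp; omega
  have hp3 : p ≠ 3 := by
    rintro rfl
    have hH8 : Nat.card H = 8 := by rw [RegularNormal.card_eq hreg, hcard]; norm_num
    have hNcard : Nat.card N = 8 := by
      rw [Nat.card_congr e.toEquiv, Nat.card_eq_fintype_card, QuaternionGroup.card]
    set i : H := ((e.symm (QuaternionGroup.a 1) : N) : H) with hi
    have ho : orderOf i = 4 := by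
      rw [hi, Subgroup.orderOf_coe, e.symm.orderOf_eq, QuaternionGroup.orderOf_a_one]
    have hn : (Subgroup.zpowers i).Normal := by
      refine Subgroup.normal_of_index_eq_two ?_
      have := (Subgroup.zpowers i).card_mul_index
      rw [Nat.card_zpowers, ho, hH8] at this
      omega
    obtain ⟨W, hW0, hW1, hWi⟩ := hI (Subgroup.zpowers i) hn inferInstance
    obtain ⟨w, hw, hw0⟩ := Submodule.exists_mem_ne_zero_of_ne_bot hW0
    have hfin : Module.finrank (ZMod 3) V = 2 := by
      rw [Module.natCard_eq_pow_finrank (K := ZMod 3) (V := V), Nat.card_zmod] at hcard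
      exact Nat.pow_right_injective (by norm_num) hcard
    have hW : Module.finrank (ZMod 3) W = 1 := by
      have h1 : Module.finrank (ZMod 3) W < Module.finrank (ZMod 3) V := Submodule.finrank_lt hW1
      have h2 : 0 < Module.finrank (ZMod 3) W :=
        Nat.pos_of_ne_zero fun e => hW0 (Submodule.finrank_eq_zero.mp e)
      omega
    obtain ⟨c, hc⟩ := (finrank_eq_one_iff_of_nonzero' (⟨w, hw⟩ : W) (fun e => hw0 (congrArg Subtype.val e))).mp hW
      ⟨_, hWi i (Subgroup.mem_zpowers i) w hw⟩
    have hc' : (i : V ≃ₗ[ZMod 3] V) w = c • w := (congrArg Subtype.val hc).symm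
    have hcc : c * c = 1 := by
      have hc0 : c ≠ 0 := fun h0 => hw0 ((LinearEquiv.map_eq_zero_iff _).mp (by rw [hc', h0, zero_smul]))
      exact sq_zmod_three c hc0
    have h2 : i ^ 2 = 1 := RegularNormal.eq_of_eq_at hreg hw0 (by
      rw [pow_two, Subgroup.coe_mul, LinearEquiv.mul_apply, hc', map_smul, hc', smul_smul, hcc, one_smul]
      rfl)
    have := orderOf_dvd_of_pow_eq_one h2
    rw [ho] at this
    norm_num at this
  have hp2 : p ≠ 2 := by
    rintro rfl
    have h8 : Nat.card N ∣ Nat.card H := Subgroup.card_subgroup_dvd_card N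
    rw [RegularNormal.card_eq hreg, hcard, Nat.card_congr e.toEquiv, Nat.card_eq_fintype_card,
      QuaternionGroup.card] at h8
    norm_num at h8
  rw [hcard]
  interval_cases p <;> revert hp hpp hp2 hp3 <;> norm_num

end Cfsg.Agent.S0688
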