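import Cfsg.Statements.S0689
import Cfsg.Agent.FPF25.SharplyTransitive
-- import your own Cfsg.Agent.* helpers here

set_option autoImplicit false
open Cfsg

namespace Cfsg.Agent.S0689

open Subgroup Polynomial
open scoped commutatorElement

theorem field_part {F V : Type*} [Field F] [Finite F] [AddCommGroup V] [Module F V] [Finite V] [Nontrivial V]
    {H : Type*} [Group H] [Finite H] (T : H →* Module.End F V) (hinj : Function.Injective T)
    (htrans : ∀ v w : V, v ≠ 0 → w ≠ 0 → ∃ h : H, T h v = w) (a : H)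
    (hn : ∀ g : H, g * a * g⁻¹ ∈ Submonoid.powers a) (M : Subgroup H)
    (hcent : ∀ x ∈ M, Commute x a → x ∈ zpowers a) (S : Subgroup H) (hSa : ∀ s ∈ S, Commute s a)
    (hSne : ¬ ∀ s ∈ S, ∀ t ∈ S, Commute s t) :
    ∃ d k, 0 < d ∧ 2 ≤ k ∧ Nat.card V = (Nat.card F ^ d) ^ k ∧ orderOf a ∣ Nat.card F ^ d - 1 ∧
      (zpowers a).relIndex M ≤ d := by
  classical
  have hpr := FPF25.isPrime_ker_aeval T htrans a hn
  set φ : F[X] →ₐ[F] Module.End F V := aeval (T a) with hφ
  have : Finite (Module.End F V) := Finite.of_injective (fun f v => f v) DFunLike.coe_injective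
  have hI0 : RingHom.ker φ ≠ ⊥ := fun e =>
    not_finite_iff_infinite.mpr inferInstance (Finite.of_injective φ ((RingHom.injective_iff_ker_eq_bot _).mpr e))
  have : (RingHom.ker φ).IsMaximal := @IsPrime.to_maximal_ideal _ _ _ _ _ hpr hI0
  letI : Field (F[X] ⧸ RingHom.ker φ) := Ideal.Quotient.field _
  let ψ : (F[X] ⧸ RingHom.ker φ) →ₐ[F] Module.End F V := Ideal.kerLiftAlg φ
  have hψ : Function.Injective ψ := Ideal.kerLiftAlg_injective φ
  have : Finite (F[X] ⧸ RingHom.ker φ) := Finite.of_injective ψ hψ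
  letI : Module (F[X] ⧸ RingHom.ker φ) V := Module.compHom V ψ.toRingHom
  have hsmul : ∀ (x : F[X] ⧸ RingHom.ker φ) (v : V), x • v = ψ x v := fun x v => rfl
  haveI : IsScalarTower F (F[X] ⧸ RingHom.ker φ) V := ⟨fun c x v => by
    rw [hsmul, hsmul, map_smul, LinearMap.smul_apply]⟩
  haveI : Module.Finite (F[X] ⧸ RingHom.ker φ) V := Module.Finite.of_finite
  haveI : Module.Finite F (F[X] ⧸ RingHom.ker φ) := Module.Finite.of_finite
  set x0 : F[X] ⧸ RingHom.ker φ := Ideal.Quotient.mk _ X with hx0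
  have hψx : ψ x0 = T a := by
    show φ X = _
    rw [hφ, aeval_X]
  have hTpol : ∀ (g b : H), (T g) * T a = T b * T g → ∀ f : F[X], T g * aeval (T a) f = aeval (T b) f * T g := by
    intro g b hgb f
    induction f using Polynomial.induction_on' with
    | add f f' hf hf' => rw [map_add, map_add, mul_add, hf, hf', add_mul]
    | monomial j c =>
      have hpow : T g * T a ^ j = T b ^ j * T g := (show SemiconjBy (T g) (T a) (T b) from hgb).pow_right j
      rw [aeval_monomial, aeval_monomial, ← mul_assoc, ← Algebra.commutes c (T g), mul_assoc, hpow, mul_assoc]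
  refine ⟨Module.finrank F (F[X] ⧸ RingHom.ker φ), Module.finrank (F[X] ⧸ RingHom.ker φ) V, Module.finrank_pos, ?_, ?_, ?_, ?_⟩
  · -- two dimensions at least
    have hpos : 0 < Module.finrank (F[X] ⧸ RingHom.ker φ) V := Module.finrank_pos
    by_contra hlt
    have h1 : Module.finrank (F[X] ⧸ RingHom.ker φ) V = 1 := by omega
    obtain ⟨v, hv, hspan⟩ := finrank_eq_one_iff'.mp h1
    have hlin : ∀ s ∈ S, ∀ (x : F[X] ⧸ RingHom.ker φ) (w : V), T s (x • w) = x • T s w := by
      intro s hs x w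
      obtain ⟨f, rfl⟩ := Ideal.Quotient.mk_surjective x
      show (T s * φ f) w = (φ f * T s) w
      rw [hφ, hTpol s a (by rw [← map_mul, ← map_mul, (hSa s hs).eq]) f]
    refine hSne fun s hs t ht => hinj (LinearMap.ext fun w => ?_)
    obtain ⟨cs, hcs⟩ := hspan (T s v)
    obtain ⟨ct, hct⟩ := hspan (T t v)
    obtain ⟨c, rfl⟩ := hspan w
    simp only [map_mul, Module.End.mul_apply, hlin t ht, hlin s hs, ← hct, ← hcs, smul_smul, mul_comm,
      mul_left_comm, mul_assoc]
  · rw [Module.natCard_eq_pow_finrank (K := F[X] ⧸ RingHom.ker φ) (V := V),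
      Module.natCard_eq_pow_finrank (K := F) (V := F[X] ⧸ RingHom.ker φ)]
  · have hne : x0 ≠ 0 := fun e => by
      rw [e, map_zero] at hψx
      have h1 : T a * T a⁻¹ = 1 := by rw [← map_mul, mul_inv_cancel, map_one]
      rw [← hψx, zero_mul] at h1
      exact zero_ne_one h1
    have hord : orderOf a = orderOf (Units.mk0 x0 hne) := by
      rw [← orderOf_units, Units.val_mk0, ← orderOf_injective T hinj a, ← hψx]
      exact orderOf_injective (ψ : (F[X] ⧸ RingHom.ker φ) →* Module.End F V) hψ x0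
    rw [hord, ← Module.natCard_eq_pow_finrank (K := F) (V := F[X] ⧸ RingHom.ker φ), ← Nat.card_units]
    exact _root_.orderOf_dvd_natCard _
  · set μ := minpoly F x0 with hμ
    have hint : IsIntegral F x0 := Algebra.IsIntegral.isIntegral x0
    have hμ0 : φ μ = 0 := by
      rw [hφ, ← hψx, aeval_algHom_apply, hμ, minpoly.aeval, map_zero]
    have hroot : ∀ m : M, ∃ r : (μ.rootSet (F[X] ⧸ RingHom.ker φ)), ψ r.1 = T ((m : H) * a * (m : H)⁻¹) := by
      intro m
      obtain ⟨t, ht⟩ := hn m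
      have ht' : ψ (x0 ^ t) = T ((m : H) * a * (m : H)⁻¹) := by rw [map_pow, hψx, ← map_pow, ← ht]
      refine ⟨⟨x0 ^ t, (mem_rootSet_of_ne (minpoly.ne_zero hint)).mpr (hψ ?_)⟩, ht'⟩
      rw [map_zero, ← aeval_algHom_apply, ht']
      have h1 := hTpol m ((m : H) * a * (m : H)⁻¹) (by rw [← map_mul, ← map_mul]; congr 1; group) μ
      rw [hφ] at hμ0
      rw [hμ0, mul_zero] at h1
      have h2 := congrArg (· * T (m : H)⁻¹) h1
      simp only [zero_mul] at h2
      rw [mul_assoc _ (T (m : H)), ← map_mul T (m : H), mul_inv_cancel, map_one, mul_one] at h2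
      exact h2.symm
    choose r hr using hroot
    calc (zpowers a).relIndex M = Nat.card (M ⧸ (zpowers a).subgroupOf M) := rfl
      _ ≤ Nat.card (μ.rootSet (F[X] ⧸ RingHom.ker φ)) := by
        refine Nat.card_le_card_of_injective (fun q => r q.out) fun q q' e => ?_
        rw [← Quotient.out_eq q, ← Quotient.out_eq q']
        refine QuotientGroup.eq.mpr (mem_subgroupOf.mpr (hcent _ (SetLike.coe_mem _) ?_))
        have e1 := congrArg (fun z => ψ (Subtype.val z)) e
        simp only [hr] at e1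
        have e2 := hinj e1
        set x : H := ((q.out : M) : H) with hx
        set y : H := ((q'.out : M) : H) with hy
        rw [Subgroup.coe_mul, Subgroup.coe_inv]
        show x⁻¹ * y * a = a * (x⁻¹ * y)
        calc x⁻¹ * y * a = x⁻¹ * (y * a * y⁻¹) * y := by group
          _ = a * (x⁻¹ * y) := by rw [← e2]; group
      _ ≤ μ.natDegree := by
        rw [Nat.card_coe_set_eq]
        exact ncard_rootSet_le μ _
      _ ≤ _ := minpoly.natDegree_le x0


/-- The insoluble sharply doubly transitive groups: a non-solvable linear group over the prime field that is regular on the non-zero vectors of `V` occurs only for `|V| = 11², 29², 59²`, and is `SL(2,5) × C_m` with `m = 1, 7, 29` respectively. -/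
theorem result {p : ℕ} [Fact p.Prime] {V : Type*} [AddCommGroup V] [Module (ZMod p) V] [Finite V] (H : Subgroup (V ≃ₗ[ZMod p] V)) (hreg : ∀ v w : V, v ≠ 0 → w ≠ 0 → ∃! h : H, (h : V ≃ₗ[ZMod p] V) v = w) (hsolv : ¬ Group.IsSolvable H) : (Nat.card V = 121 ∧ Nonempty (H ≃* Matrix.SpecialLinearGroup (Fin 2) (ZMod 5))) ∨ (Nat.card V = 841 ∧ Nonempty (H ≃* Matrix.SpecialLinearGroup (Fin 2) (ZMod 5) × Multiplicative (ZMod 7))) ∨ (Nat.card V = 3481 ∧ Nonempty (H ≃* Matrix.SpecialLinearGroup (Fin 2) (ZMod 5) × Multiplicative (ZMod 29))) := by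
  classical
have hp : p.Prime := Fact.out
rcases subsingleton_or_nontrivial V with hV | hV
· have : Subsingleton H := ⟨fun x y => Subtype.ext (LinearEquiv.ext fun v => Subsingleton.elim _ _)⟩
  exact absurd (Group.isSolvable_of_comm fun x y => Subsingleton.elim _ _) hsolv
obtain ⟨v0, hv0⟩ := exists_ne (0 : V)
have hbij : Function.Bijective (fun h : H => (⟨(h : V ≃ₗ[ZMod p] V) v0, fun e => hv0 ((LinearEquiv.map_eq_zero_iff _).mp e)⟩ : {v : V // v ≠ 0})) := by
  refine ⟨fun h h' e => (hreg v0 _ hv0 ?_).unique (Subtype.ext_iff.mp e) rfl, fun w => ?_⟩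
  · exact fun e => hv0 ((LinearEquiv.map_eq_zero_iff _).mp e)
  · obtain ⟨h, hh, -⟩ := hreg v0 w.1 hv0 w.2
    exact ⟨h, Subtype.ext hh⟩
have hcH : Nat.card H = Nat.card V - 1 := by
  have h1 := Nat.card_congr (Equiv.ofBijective _ hbij)
  have := Fintype.ofFinite V
  rw [h1, Nat.card_eq_fintype_card, Nat.card_eq_fintype_card, Fintype.card_subtype_compl, Fintype.card_subtype_eq]
have : Finite H := Finite.of_equiv _ (Equiv.ofBijective _ hbij).symm
obtain ⟨n, hn0, hcV⟩ : ∃ n, 0 < n ∧ Nat.card V = p ^ n :=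
  ⟨_, (Module.finrank_pos : 0 < Module.finrank (ZMod p) V), by rw [Module.natCard_eq_pow_finrank (K := ZMod p) (V := V), Nat.card_zmod]⟩
have hco : ¬ p ∣ Nat.card H := fun hd => by
  have h1 : p ∣ Nat.card V := hcV ▸ dvd_pow_self p hn0.ne'
  have h2 : 0 < Nat.card V := Nat.card_pos
  have := (Nat.dvd_sub h1 (hcH ▸ hd))
  rw [show Nat.card V - (Nat.card V - 1) = 1 by omega] at this
  exact hp.one_lt.ne' (Nat.dvd_one.mp this)
have hfree : ∀ (g : H) (w : V), g ≠ 1 → (g : V ≃ₗ[ZMod p] V) w = w → w = 0 := fun g w hg hw =>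
  by_contra fun hw0 => hg ((hreg w w hw0 hw0).unique hw rfl)
have hF : FPF25.HasFPF H := FPF25.hasFPF_of_module hco
  (fun g => (g : V ≃ₗ[ZMod p] V).toLinearMap.toAddMonoidHom) (fun w => rfl) (fun a b w => rfl) hfree
obtain ⟨G₀, hG₀, hi, S, M, hSn, hsup, hinf, hcomm, ⟨e⟩, hZ, hcop⟩ := hF.structure_of_not_isSolvable hsolv
have hScard : Nat.card S = 120 := (Nat.card_congr e.toEquiv).trans FPF25.card_sl25
have hMn : M.Normal := ⟨fun x hx g => by
  obtain ⟨s, hs, m, hm, hsm⟩ := mem_sup_of_normal_left.mp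
    (hsup.symm ▸ hG₀.conj_mem x (hsup ▸ mem_sup_right hx) g : g * x * g⁻¹ ∈ S ⊔ M)
  have hs2 : s * s = 1 := by
    have key : ∀ t ∈ S, t * s = s * t := fun t ht => by
      have h1 : g⁻¹ * t * g ∈ S := by simpa using hSn.conj_mem t ht g⁻¹
      have h2 : Commute t (g * x * g⁻¹) := by
        show t * (g * x * g⁻¹) = g * x * g⁻¹ * t
        calc t * (g * x * g⁻¹) = g * (g⁻¹ * t * g * x) * g⁻¹ := by group
          _ = g * (x * (g⁻¹ * t * g)) * g⁻¹ := by rw [hcomm _ h1 x hx]
          _ = g * x * g⁻¹ * t := by group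
      have h3 : Commute t m := hcomm t ht m hm
      rw [← hsm] at h2
      have h4 := h2.mul_right h3.inv_right
      rwa [mul_inv_cancel_right] at h4
    have h5 : (e ⟨s, hs⟩) * (e ⟨s, hs⟩) = 1 := FPF25.sq_eq_one_of_central fun y => by
      obtain ⟨⟨t, ht⟩, rfl⟩ := e.surjective y
      rw [← map_mul, ← map_mul]
      exact congrArg e (Subtype.ext (key t ht))
    rw [← map_mul, ← map_one e] at h5
    exact congrArg Subtype.val (e.injective h5)
  have h6 : (g * x * g⁻¹) ^ Nat.card M = 1 := by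
    rw [conj_pow, orderOf_dvd_iff_pow_eq_one.mp (orderOf_dvd_natCard _ hx), mul_one, mul_inv_cancel]
  rw [← hsm, (show Commute s m from hcomm s hs m hm).mul_pow,
    orderOf_dvd_iff_pow_eq_one.mp (orderOf_dvd_natCard _ hm), mul_one] at h6
  have h7 : orderOf s = 1 := Nat.eq_one_of_dvd_coprimes (hcop.coprime_dvd_right (by norm_num : 2 ∣ 30))
    (orderOf_dvd_of_pow_eq_one h6) (orderOf_dvd_of_pow_eq_one (by rw [pow_two]; exact hs2))
  rw [← hsm, orderOf_eq_one_iff.mp h7, one_mul]
  exact hm⟩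
have : IsZGroup M := ⟨fun q hq P => by have := Fact.mk hq; exact hZ q P⟩
set D : Subgroup H := ⁅M, M⁆ with hD
have hDM : D ≤ M := commutator_le_left M M
have hDcomm : ∀ x ∈ D, ∀ y ∈ D, x * y = y * x := by
  intro x hx y hy
  rw [hD, ← map_subtype_commutator] at hx hy
  obtain ⟨x, hx, rfl⟩ := hx
  obtain ⟨y, hy, rfl⟩ := hy
  have hc : IsCyclic (_root_.commutator M) := IsZGroup.isCyclic_commutator M
  let := IsCyclic.commGroup (α := _root_.commutator M)
  show ((x * y : M) : H) = ((y * x : M) : H)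
  exact congrArg (fun z : _root_.commutator M => ((z : M) : H)) (mul_comm (⟨x, hx⟩ : _root_.commutator M) ⟨y, hy⟩)
set A : Subgroup H := M ⊓ centralizer (D : Set H) with hA
have hAn : A.Normal := inferInstance
have hDA : D ≤ A := le_inf hDM fun x hx => mem_centralizer_iff.mpr fun y hy => hDcomm y hy x hx
have : IsZGroup A := IsZGroup.of_injective (f := inclusion (inf_le_left : A ≤ M)) (inclusion_injective _)
have : Group.IsNilpotent A := by
  have hnil : Group.IsNilpotent (Abelianization A) := CommGroup.isNilpotent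
  refine Subgroup.isNilpotent_of_ker_le_center (Abelianization.of (G := A)) ?_
  rw [Abelianization.ker_of, _root_.commutator_def]
  refine commutator_le.mpr fun x _ y _ => mem_center_iff.mpr fun z => Subtype.ext ?_
  have h1 : ⁅(x : H), (y : H)⁆ ∈ D := commutator_mem_commutator x.2.1 y.2.1
  exact (mem_centralizer_iff.mp z.2.2 _ h1).symm
obtain ⟨a, ha⟩ := IsCyclic.exists_generator (α := A)
have hAa : zpowers (a : H) = A := le_antisymm (zpowers_le.mpr a.2) fun x hx => by
  obtain ⟨j, hj⟩ := mem_zpowers_iff.mp (ha ⟨x, hx⟩)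
  exact mem_zpowers_iff.mpr ⟨j, by rw [← Subgroup.coe_zpow, hj]⟩
let T : H →* Module.End (ZMod p) V :=
  { toFun := fun g => (g : V ≃ₗ[ZMod p] V).toLinearMap
    map_one' := rfl
    map_mul' := fun _ _ => rfl }
have hTinj : Function.Injective T := fun x y hxy =>
  Subtype.ext (LinearEquiv.toLinearMap_injective hxy)
have hpow : ∀ g : H, g * (a : H) * g⁻¹ ∈ Submonoid.powers (a : H) := fun g =>
  mem_powers_iff_mem_zpowers.mpr (by rw [hAa]; exact hAn.conj_mem _ a.2 g)
have hcent : ∀ x ∈ M, Commute x (a : H) → x ∈ zpowers (a : H) := fun x hx hxa => by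
  rw [hAa]
  refine mem_inf.mpr ⟨hx, mem_centralizer_iff.mpr fun y hy => ?_⟩
  have hy' := hDA hy
  rw [← hAa] at hy'
  obtain ⟨j, rfl⟩ := mem_zpowers_iff.mp hy'
  exact ((hxa.zpow_right j).eq).symm
have hSne : ¬ ∀ s ∈ S, ∀ t ∈ S, Commute s t := fun hc => FPF25.not_isSolvable_of_mulEquiv e
  (Group.isSolvable_of_comm fun x y => Subtype.ext (hc x x.2 y y.2))
obtain ⟨d, k, hd, hk, hVdk, hda, hidx⟩ := field_part T hTinj
  (fun v w hv hw => (hreg v w hv hw).exists) (a : H) hpow M hcent S (fun s hs => hcomm s hs a a.2.1) hSne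
rw [Nat.card_zmod] at hVdk hda
have hcardG₀ : Nat.card G₀ = 120 * Nat.card M := by
  have h1 := Core.card_sup_mul_card_inf M S
  rw [inf_comm, sup_comm, hsup, hinf, card_bot, mul_one, hScard] at h1
  rw [h1, mul_comm]
have hHcard : Nat.card H = 120 * G₀.index * Nat.card M := by
  rw [← G₀.card_mul_index, hcardG₀]; ring
have hpM := hHcard
rw [hcH, hVdk] at hpM
have hrel : (zpowers (a : H)).relIndex M * orderOf (a : H) = Nat.card M := by
  rw [← Nat.card_zpowers, ← Coprime.card_subgroupOf (zpowers_le.mpr a.2.1 : zpowers (a : H) ≤ M), mul_comm]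
  exact ((zpowers (a : H)).subgroupOf M).card_mul_index
have hdiv : Nat.card M / orderOf (a : H) = (zpowers (a : H)).relIndex M := by
  rw [← hrel, Nat.mul_div_cancel _ (orderOf_pos _)]
have hp30 : ¬ p ∣ 30 := fun h => hco (h.trans ⟨4 * G₀.index * Nat.card M, by rw [hHcard]; ring⟩)
obtain ⟨hMa, hd1, hk2, hi1, hcases⟩ := FPF25.arith hp hp30 hd hk hi hpM hcop hda
  (Dvd.intro_left _ hrel) (hdiv ▸ hidx)
subst hd1 hk2
rw [pow_one] at hVdk
have hMA : A = M := eq_of_le_of_card_ge inf_le_left (by rw [← hAa, Nat.card_zpowers, hMa])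
have hMcyc : IsCyclic M := by rw [← hMA]; infer_instance
have hiso : Nonempty (H ≃* Matrix.SpecialLinearGroup (Fin 2) (ZMod 5) × Multiplicative (ZMod (Nat.card M))) := by
  let f : S × M →* H := MonoidHom.noncommCoprod S.subtype M.subtype fun s m => hcomm s s.2 m m.2
  have hinj : Function.Injective f := by
    refine (injective_iff_map_eq_one f).mpr fun x hx => ?_
    have h1 : (x.1 : H) * (x.2 : H) = 1 := hx
    have h2 : (x.1 : H) ∈ S ⊓ M := mem_inf.mpr ⟨x.1.2, by rw [eq_inv_of_mul_eq_one_left h1]; exact inv_mem x.2.2⟩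
    rw [hinf, mem_bot] at h2
    rw [h2, one_mul] at h1
    exact Prod.ext (Subtype.ext h2) (Subtype.ext h1)
  have hb : Function.Bijective f := (Nat.bijective_iff_injective_and_card _).mpr
    ⟨hinj, by rw [Nat.card_prod, hScard, hHcard, hi1, mul_one]⟩
  exact ⟨(MulEquiv.ofBijective f hb).symm.trans (e.prodCongr (zmodCyclicMulEquiv hMcyc).symm)⟩
rcases hcases with ⟨rfl, hm⟩ | ⟨rfl, hm⟩ | ⟨rfl, hm⟩
· refine Or.inl ⟨by rw [hVdk]; norm_num, ?_⟩
  rw [hm] at hiso
  obtain ⟨iso⟩ := hiso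
  haveI : Unique (Multiplicative (ZMod 1)) := uniqueOfSubsingleton 1
  exact ⟨iso.trans MulEquiv.prodUnique⟩
· refine Or.inr (Or.inl ⟨by rw [hVdk]; norm_num, ?_⟩)
  rwa [hm] at hiso
· refine Or.inr (Or.inr ⟨by rw [hVdk]; norm_num, ?_⟩)
  rwa [hm] at hiso

end Cfsg.Agent.S0689
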