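import Cfsg.Statements.S0690
import Cfsg.Agent.FPF25.Zassenhaus
-- import your own Cfsg.Agent.* helpers here

set_option autoImplicit false
open Cfsg

namespace Cfsg.Agent.S0690

/-- Zassenhaus: a perfect non-trivial group of fixed-point-free automorphisms of a finite group is isomorphic to `SL(2,5)`. -/
theorem result {K : Type*} [Group K] [Finite K] (G : Subgroup (MulAut K)) (hfpf : ∀ φ ∈ G, φ ≠ 1 → ∀ k : K, φ k = k → k = 1) (hperf : commutator G = ⊤) (hne : G ≠ ⊥) : Nonempty (G ≃* Matrix.SpecialLinearGroup (Fin 2) (ZMod 5)) := by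
  by_cases hK : Nontrivial K
  · have : Finite G := inferInstance
    have hG : Nontrivial G := G.nontrivial_iff_ne_bot.mpr hne
    have h : FPF25.HasFPF G := FPF25.hasFPF_of_fpf G.subtype fun g hg k hk =>
      hfpf g g.2 (fun e => hg (Subtype.ext e)) k hk
    exact h.nonempty_mulEquiv_of_perfect hperf
  · rw [not_nontrivial_iff_subsingleton] at hK
    exact absurd (G.eq_bot_iff_forall.mpr fun φ _ => MulEquiv.ext fun k => Subsingleton.elim _ _) hne

end Cfsg.Agent.S0690
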