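import Cfsg.Statements.S0691
import Cfsg.Agent.PermGroups.RegularLinear
import Mathlib.Tactic.NormNum.Prime
import Mathlib.Tactic.IntervalCases

set_option autoImplicit false
open Cfsg

namespace Cfsg.Agent.S0691

open Cfsg.Agent.PermGroups.RegLin

/-- the elements, sorted -/
def elems : List M4 := [(0, 1, 4, 0), (0, 2, 2, 0), (0, 3, 3, 0), (0, 4, 1, 0), (1, 0, 0, 1), (1, 1, 2, 3), (1, 2, 1, 3), (1, 3, 4, 3), (1, 4, 3, 3), (2, 0, 0, 3), (2, 1, 2, 4), (2, 2, 1, 4), (2, 3, 4, 4), (2, 4, 3, 4), (3, 0, 0, 2), (3, 1, 2, 1), (3, 2, 1, 1), (3, 3, 4, 1), (3, 4, 3, 1), (4, 0, 0, 4), (4, 1, 2, 2), (4, 2, 1, 2), (4, 3, 4, 2), (4, 4, 3, 2)]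

/-- the generators -/
def gens : List M4 := [(2, 0, 0, 3), (0, 4, 1, 0), (1, 2, 1, 3)]

/-- right multiplication table -/
def tbl : List (List ℕ) := [[2, 4, 7], [0, 9, 10], [3, 14, 18], [1, 19, 21], [9, 3, 6], [12, 8, 9], [10, 13, 17], [13, 18, 20], [11, 23, 3], [19, 2, 13], [22, 7, 16], [20, 12, 19], [23, 17, 2], [21, 22, 5], [4, 1, 15], [7, 6, 23], [5, 11, 1], [8, 16, 4], [6, 21, 12], [14, 0, 22], [17, 5, 0], [15, 10, 8], [18, 15, 11], [16, 20, 14]]

/-- words in the generators -/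
def wds : List (List ℕ) := [[1, 0, 0], [1, 0], [0, 1], [1], [], [2, 1, 2], [2], [2, 0, 1], [2, 2, 0], [0], [2, 0], [2, 2, 0, 0], [2, 1, 2, 0], [2, 1], [0, 0, 0], [1, 2, 0], [2, 2, 1], [2, 2], [0, 1, 2], [0, 0], [2, 0, 1, 2], [1, 2], [2, 0, 0], [2, 2, 0, 1]]

theorem ok : check 5 1 1 elems gens tbl wds 4 = true := by decide +kernel

theorem len : elems.length = 24 := by decide +kernel

/-- An exceptional sharply doubly transitive group of degree 5^2: the listed matrices generate a subgroup of GL(2,5) of order 24 acting regularly on the non-zero vectors. -/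
theorem result (A : Matrix.GeneralLinearGroup (Fin 2) (ZMod 5)) (B : Matrix.GeneralLinearGroup (Fin 2) (ZMod 5)) (C : Matrix.GeneralLinearGroup (Fin 2) (ZMod 5)) (hA : (A : Matrix (Fin 2) (Fin 2) (ZMod 5)) = !![2, 0; 0, -2]) (hB : (B : Matrix (Fin 2) (Fin 2) (ZMod 5)) = !![0, -1; 1, 0]) (hC : (C : Matrix (Fin 2) (Fin 2) (ZMod 5)) = !![1, 2; 1, -2]) : Nat.card (Subgroup.closure ({A, B, C} : Set (Matrix.GeneralLinearGroup (Fin 2) (ZMod 5)))) = 24 ∧ ∀ v w : Fin 2 → ZMod 5, v ≠ 0 → w ≠ 0 → ∃! h : Subgroup.closure ({A, B, C} : Set (Matrix.GeneralLinearGroup (Fin 2) (ZMod 5))), Matrix.mulVec ((h : Matrix.GeneralLinearGroup (Fin 2) (ZMod 5)) : Matrix (Fin 2) (Fin 2) (ZMod 5)) v = w := by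
  have : Fact (Nat.Prime 5) := ⟨by norm_num⟩
  have eA : (A : Matrix (Fin 2) (Fin 2) (ZMod 5)) = mat 5 (gens.getD 0 (1, 0, 0, 1)) := by
    rw [hA]
    ext i j
    fin_cases i <;> fin_cases j <;> decide +kernel
  have eB : (B : Matrix (Fin 2) (Fin 2) (ZMod 5)) = mat 5 (gens.getD 1 (1, 0, 0, 1)) := by
    rw [hB]
    ext i j
    fin_cases i <;> fin_cases j <;> decide +kernel
  have eC : (C : Matrix (Fin 2) (Fin 2) (ZMod 5)) = mat 5 (gens.getD 2 (1, 0, 0, 1)) := by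
    rw [hC]
    ext i j
    fin_cases i <;> fin_cases j <;> decide +kernel
  have key := regular (p := 5) 1 1 elems gens tbl wds 4 ok (by rw [len]; norm_num) ({A, B, C} : Set (Matrix.GeneralLinearGroup (Fin 2) (ZMod 5))) ?_ ?_ ?_
  · rw [len] at key
    exact key
  · rintro g (rfl | rfl | rfl)
    · exact Or.inl ⟨0, by decide, eA⟩
    · exact Or.inl ⟨1, by decide, eB⟩
    · exact Or.inl ⟨2, by decide, eC⟩
  · intro k hk
    have hk' : k < 3 := hk
    interval_cases k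
    · exact ⟨A, by simp, eA⟩
    · exact ⟨B, by simp, eB⟩
    · exact ⟨C, by simp, eC⟩
  · exact Or.inl rfl

end Cfsg.Agent.S0691
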