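import Cfsg.Statements.S0692
import Cfsg.Agent.PermGroups.RegularLinear
import Mathlib.Tactic.NormNum.Prime
import Mathlib.Tactic.IntervalCases

set_option autoImplicit false
open Cfsg

namespace Cfsg.Agent.S0692

open Cfsg.Agent.PermGroups.RegLin

/-- the elements, sorted -/
def elems : List M4 := [(0, 1, 10, 0), (0, 2, 5, 7), (0, 3, 7, 10), (0, 4, 8, 1), (0, 5, 2, 7), (0, 6, 9, 4), (0, 7, 3, 10), (0, 8, 4, 1), (0, 9, 6, 4), (0, 10, 1, 0), (1, 0, 0, 1), (1, 1, 1, 2), (1, 2, 10, 10), (1, 3, 7, 0), (1, 4, 4, 6), (1, 5, 6, 9), (1, 6, 5, 9), (1, 7, 3, 0), (1, 8, 9, 7), (1, 9, 8, 7), (1, 10, 2, 10), (2, 0, 7, 6), (2, 1, 4, 8), (2, 2, 2, 8), (2, 3, 3, 5), (2, 4, 1, 8), (2, 5, 6, 10), (2, 6, 5, 10), (2, 7, 0, 6), (2, 8, 9, 9), (2, 9, 8, 9), (2, 10, 10, 1), (3, 0, 10, 4), (3, 1, 4, 9),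 (3, 2, 2, 9), (3, 3, 3, 7), (3, 4, 1, 9), (3, 5, 9, 8), (3, 6, 6, 5), (3, 7, 8, 8), (3, 8, 7, 8), (3, 9, 5, 8), (3, 10, 0, 4), (4, 0, 1, 3), (4, 1, 0, 3), (4, 2, 5, 0), (4, 3, 3, 8), (4, 4, 4, 7), (4, 5, 2, 0), (4, 6, 10, 7), (4, 7, 7, 7), (4, 8, 9, 10), (4, 9, 8, 10), (4, 10, 6, 7), (5, 0, 7, 9), (5, 1, 2, 5), (5, 2, 1, 5), (5, 3, 6, 6), (5, 4, 4, 10), (5, 5, 5, 3), (5, 6, 3, 6), (5, 7, 0, 9), (5, 8, 8, 2), (5, 9, 10, 5), (5, 10, 9, 5), (6, 0, 4, 2), (6, 1, 2, 6), (6, 2, 1, 6), (6, 3, 3, 9), (6, 4, 0, 2), (6, 5, 8, 5), (6, 6, 6, 8), (6, 7, 7, 1), (6, 8, 5, 5), (6, 9, 10, 6), (6, 10, 9, 6), (7, 0, 10, 8), (7, 1, 5, 4), (7, 2, 3, 1), (7, 3, 2, 1), (7, 4, 4, 4), (7, 5, 1, 4), (7, 6, 9, 0), (7, 7, 7, 4), (7, 8, 8, 3), (7, 9, 6, 0), (7, 10, 0, 8), (8, 0, 1, 7), (8, 1, 0, 7), (8, 2,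 6, 3), (8, 3, 4, 3), (8, 4, 3, 3), (8, 5, 5, 6), (8, 6, 2, 3), (8, 7, 10, 2), (8, 8, 8, 4), (8, 9, 9, 2), (8, 10, 7, 2), (9, 0, 4, 5), (9, 1, 1, 10), (9, 2, 3, 2), (9, 3, 2, 2), (9, 4, 0, 5), (9, 5, 6, 1), (9, 6, 5, 1), (9, 7, 10, 3), (9, 8, 8, 6), (9, 9, 9, 3), (9, 10, 7, 3), (10, 0, 0, 10), (10, 1, 9, 1), (10, 2, 3, 4), (10, 3, 2, 4), (10, 4, 8, 0), (10, 5, 6, 2), (10, 6, 5, 2), (10, 7, 7, 5), (10, 8, 4, 0), (10, 9, 1, 1), (10, 10, 10, 9)]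

/-- the generators -/
def gens : List M4 := [(0, 10, 1, 0), (2, 4, 1, 8)]

/-- right multiplication table -/
def tbl : List (List ℕ) := [[10, 18], [21, 26], [32, 34], [43, 53], [54, 61], [65, 69], [76, 77], [87, 96], [98, 104], [109, 112], [9, 25], [20, 33], [31, 52], [42, 60], [53, 68], [64, 76], [75, 95], [86, 103], [97, 111], [108, 9], [119, 17], [8, 51], [19, 59], [30, 67], [41, 86], [52, 94], [63, 102], [74, 110], [85, 8], [96, 16], [107, 24], [118, 32], [7, 66], [18, 85], [29, 93], [40, 101], [51, 109], [62, 7], [73, 15], [84, 23], [95, 42], [106, 50], [117, 58], [6, 92], [17, 100], [28, 119], [39, 6], [50, 14], [61, 22], [72, 41], [83, 49], [94, 57], [105, 65], [116, 84], [5, 118], [16, 5], [27, 13], [38, 21], [49, 40], [60, 48], [71, 56], [82, 75], [93, 83], [104, 91],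 [115, 99], [4, 12], [15, 31], [26, 39], [37, 47], [48, 55], [59, 74], [70, 82], [81, 90], [92, 98], [103, 117], [114, 4], [3, 38], [14, 46], [25, 54], [36, 73], [47, 81], [58, 89], [69, 108], [80, 116], [91, 3], [102, 11], [113, 30], [2, 64], [13, 72], [24, 80], [35, 88], [46, 107], [57, 115], [68, 2], [79, 10], [90, 29], [101, 37], [112, 45], [1, 79], [12, 87], [23, 106], [34, 114], [45, 1], [56, 20], [67, 28], [78, 36], [89, 44], [100, 63], [111, 71], [0, 105], [11, 113], [22, 0], [33, 19], [44, 27], [55, 35], [66, 43], [77, 62], [88, 70], [99, 78], [110, 97]]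

/-- words in the generators -/
def wds : List (List ℕ) := [[0, 0, 0], [1, 1, 0, 1, 1, 0], [1, 0, 1, 1, 0, 1, 0, 0, 0], [1, 1, 0, 1, 0, 1, 1, 0, 0, 0], [1, 0, 1, 0], [1, 0, 1, 0, 0, 0], [1, 1, 0, 1, 0, 1, 1, 0], [1, 0, 1, 1, 0, 1, 0], [1, 1, 0, 1, 1, 0, 0, 0], [0], [], [0, 1, 0, 1, 1], [1, 0, 1, 1], [0, 1, 1, 0, 1, 0, 1, 1, 0, 0], [1, 1, 0, 1, 0, 1, 1, 0, 1, 0], [1, 1, 0, 1, 0, 1, 0, 0], [1, 0, 1, 0, 1, 1, 0, 0, 0], [0, 1, 0, 1, 1, 0, 1], [0, 1, 0, 0], [0, 1, 1], [0, 1, 0, 1, 1, 0], [1, 1, 0, 1, 1, 0, 0], [0, 1, 1, 0, 0, 0], [0, 1, 0, 1, 1, 0, 1, 0, 1, 0, 0, 0], [0, 1, 0, 1, 1, 0, 1, 0, 1, 1], [1], [1, 1, 0, 1, 1, 0, 1], [0, 1, 1, 0, 1, 0, 1, 0, 0, 0], [0, 1, 0, 1, 0, 0, 0], [1, 0, 1, 1, 0, 1, 0, 1, 0, 0, 0], [0, 1, 0, 1, 1, 0, 1, 0, 1], [1, 0, 1, 1, 0], [1, 0, 1, 1, 0, 1], [0,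 1, 0], [1, 0, 1, 1, 0, 1, 0, 1, 0, 0], [1, 0, 1, 0, 1, 1, 0, 1], [1, 1, 0, 0], [1, 0, 1, 1, 0, 1, 0, 1, 1], [1, 1, 0, 1, 0, 0, 0], [1, 1, 0, 1, 1, 0, 1, 0, 1, 0, 0], [1, 0, 1, 0, 1, 1, 0, 1, 0], [0, 1, 0, 1, 1, 0, 1, 0, 1, 1, 0], [1, 0, 1, 0, 1, 1, 0, 1, 0, 1], [1, 1, 0, 1, 0, 1, 1], [0, 1, 0, 1, 1, 0, 1, 0, 0, 0], [0, 1, 0, 1, 0, 0], [1, 1, 0, 1, 1, 0, 1, 0, 1, 0], [1, 1, 0, 1, 0, 1, 1, 0, 1, 0, 1, 1], [1, 0, 1, 0, 1, 0, 0, 0], [1, 0, 1, 0, 1, 1, 0, 1, 0, 1, 1, 0], [0, 1, 0, 1, 1, 0, 1, 0, 1, 1, 0, 1], [1, 1, 0, 0, 0], [1, 0], [1, 1, 0, 1, 0, 1, 1, 0, 1, 0, 0], [1, 0, 1, 0, 0], [1, 0, 1, 0, 1, 1, 0, 0], [0, 1, 1, 0, 1, 0, 1, 0, 0], [1, 1, 0, 1, 0, 0], [1, 0, 1, 0, 1, 1, 0, 1, 0, 1, 1], [0, 1, 1, 0, 1, 0, 0], [0, 1, 1, 0, 1, 0, 0, 0], [1, 0, 1, 0, 1], [1, 0, 1, 1, 0, 1, 0, 1, 1,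 0], [1, 1, 0, 1, 1, 0, 1, 0], [1, 1, 0, 1, 0, 1, 0, 0, 0], [1, 0, 1], [1, 1, 0, 1, 0, 1, 0], [1, 1, 0, 1, 1, 0, 1, 0, 0, 0], [1, 1, 0, 1, 0, 1, 1, 0, 1, 0, 1], [1, 0, 1, 0, 1, 0, 0], [0, 1, 1, 0, 1, 0], [0, 1, 1, 0, 1], [0, 1, 1, 0, 1, 0, 1, 1, 0, 1], [1, 1, 0, 1], [0, 1, 1, 0, 1, 0, 1], [1, 0, 1, 0, 1, 1], [1, 1, 0, 1, 0, 1, 1, 0, 0], [1, 1, 0, 1, 0, 1, 1, 0, 1], [1, 0, 0, 0], [1, 1, 0], [1, 0, 1, 1, 0, 1, 0, 1, 1, 0, 1, 0], [0, 1, 1, 0, 1, 0, 1, 1, 0, 1, 0], [1, 0, 1, 0, 1, 0], [1, 0, 1, 1, 0, 1, 0, 1, 1, 0, 1], [1, 1, 0, 1, 1, 0, 1, 0, 1, 0, 0, 0], [0, 1, 0, 1], [0, 1, 0, 1, 1, 0, 1, 0], [1, 0, 1, 1, 0, 1, 0, 0], [0, 1, 1, 0, 1, 0, 1, 1, 0], [0, 1, 1, 0, 1, 0, 1, 1, 0, 1, 0, 1], [1, 0, 1, 0, 1, 1, 0, 1, 0, 0, 0], [1, 1, 0, 1, 1, 0, 1, 0, 1], [1, 1, 0, 1, 0], [1, 0, 1, 1, 0, 1,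 0, 1, 1, 0, 0], [1, 1], [1, 0, 1, 0, 1, 1, 0, 1, 0, 0], [1, 0, 1, 1, 0, 1, 0, 1], [0, 1, 0, 0, 0], [1, 1, 0, 1, 1], [1, 0, 1, 1, 0, 0, 0], [0, 1, 0, 1, 1, 0, 1, 0, 1, 0, 0], [1, 0, 1, 1, 0, 1, 0, 1, 0], [0, 1, 0, 1, 0], [0, 1, 1, 0, 1, 0, 1, 0], [1, 1, 0, 1, 1, 0, 1, 0, 0], [1, 0, 0], [0, 1, 0, 1, 1, 0, 1, 0, 1, 1, 0, 0], [0, 1, 0, 1, 1, 0, 1, 0, 1, 0], [0, 1, 1, 0], [0, 0], [0, 1, 0, 1, 1, 0, 0, 0], [0, 1, 1, 0, 0], [0, 1], [0, 1, 0, 1, 1, 0, 1, 0, 0], [1, 0, 1, 0, 1, 1, 0], [1, 1, 0, 1, 0, 1], [1, 1, 0, 1, 0, 1, 1, 0, 1, 0, 0, 0], [0, 1, 1, 0, 1, 0, 1, 1], [1, 0, 1, 1, 0, 0], [0, 1, 0, 1, 1, 0, 0]]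

theorem ok : check 11 1 1 elems gens tbl wds 10 = true := by decide +kernel

theorem len : elems.length = 120 := by decide +kernel

/-- An exceptional sharply doubly transitive group of degree 11^2: the listed matrices generate a subgroup of GL(2,11) of order 120 acting regularly on the non-zero vectors. -/
theorem result (A : Matrix.GeneralLinearGroup (Fin 2) (ZMod 11)) (B : Matrix.GeneralLinearGroup (Fin 2) (ZMod 11)) (hA : (A : Matrix (Fin 2) (Fin 2) (ZMod 11)) = !![0, -1; 1, 0]) (hB : (B : Matrix (Fin 2) (Fin 2) (ZMod 11)) = !![2, 4; 1, -3]) : Nat.card (Subgroup.closure ({A, B} : Set (Matrix.GeneralLinearGroup (Fin 2) (ZMod 11)))) = 120 ∧ ∀ v w : Fin 2 → ZMod 11, v ≠ 0 → w ≠ 0 → ∃! h : Subgroup.closure ({A, B} : Set (Matrix.GeneralLinearGroup (Fin 2) (ZMod 11))), Matrix.mulVec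 ((h : Matrix.GeneralLinearGroup (Fin 2) (ZMod 11)) : Matrix (Fin 2) (Fin 2) (ZMod 11)) v = w := by
  have : Fact (Nat.Prime 11) := ⟨by norm_num⟩
  have eA : (A : Matrix (Fin 2) (Fin 2) (ZMod 11)) = mat 11 (gens.getD 0 (1, 0, 0, 1)) := by
    rw [hA]
    ext i j
    fin_cases i <;> fin_cases j <;> decide +kernel
  have eB : (B : Matrix (Fin 2) (Fin 2) (ZMod 11)) = mat 11 (gens.getD 1 (1, 0, 0, 1)) := by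
    rw [hB]
    ext i j
    fin_cases i <;> fin_cases j <;> decide +kernel
  have key := regular (p := 11) 1 1 elems gens tbl wds 10 ok (by rw [len]; norm_num) ({A, B} : Set (Matrix.GeneralLinearGroup (Fin 2) (ZMod 11))) ?_ ?_ ?_
  · rw [len] at key
    exact key
  · rintro g (rfl | rfl)
    · exact Or.inl ⟨0, by decide, eA⟩
    · exact Or.inl ⟨1, by decide, eB⟩
  · intro k hk
    have hk' : k < 2 := hk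
    interval_cases k
    · exact ⟨A, by simp, eA⟩
    · exact ⟨B, by simp, eB⟩
  · exact Or.inl rfl

end Cfsg.Agent.S0692
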