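import Cfsg.Statements.S0693
import Cfsg.Agent.PermGroups.RegularLinear
import Mathlib.Tactic.NormNum.Prime
import Mathlib.Tactic.IntervalCases

set_option autoImplicit false
open Cfsg

namespace Cfsg.Agent.S0693

open Cfsg.Agent.PermGroups.RegLin

/-- the elements, sorted -/
def elems : List M4 := [(0, 1, 58, 0), (0, 58, 1, 0), (1, 0, 0, 1), (1, 4, 29, 58), (1, 29, 4, 58), (3, 7, 7, 56), (4, 11, 36, 55), (4, 36, 11, 55), (4, 58, 58, 30), (5, 30, 31, 21), (5, 31, 30, 21), (5, 38, 38, 53), (6, 38, 38, 54), (7, 56, 56, 52), (9, 15, 49, 49), (9, 49, 15, 49), (10, 9, 10, 15), (10, 10, 9, 15), (10, 15, 49, 50), (10, 19, 19, 48), (10, 49, 15, 50), (11, 13, 39, 14), (11, 19, 19, 49), (11, 39, 13, 14), (11, 55, 55, 23), (13, 14, 48, 20), (13, 48, 14, 20), (14, 18, 18, 19), (14, 20, 46, 11), (14, 46, 20, 11), (15, 49, 50, 10),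 (15, 50, 49, 10), (16, 34, 34, 17), (17, 25, 25, 16), (18, 19, 45, 41), (18, 45, 19, 41), (19, 41, 41, 14), (19, 48, 49, 40), (19, 49, 48, 40), (20, 11, 45, 13), (20, 45, 11, 13), (21, 5, 6, 38), (21, 6, 5, 38), (21, 28, 29, 5), (21, 29, 28, 5), (23, 4, 4, 11), (24, 27, 28, 34), (24, 28, 27, 34), (25, 16, 42, 34), (25, 27, 28, 35), (25, 28, 27, 35), (25, 42, 16, 34), (27, 34, 35, 31), (27, 35, 34, 31), (28, 5, 38, 30), (28, 34, 35, 32), (28, 35, 34, 32), (28, 38, 5, 30), (29, 5, 38, 31), (29, 38, 5, 31), (29, 58, 58, 55), (30, 1, 1, 4), (30, 21, 54, 28), (30, 54, 21, 28), (31, 21, 54, 29), (31, 24, 25, 27), (31, 25, 24, 27), (31, 54, 21, 29), (32, 24, 25, 28), (32, 25, 24, 28), (34, 17, 43, 25), (34, 31, 32, 24), (34, 32, 31, 24), (34, 43, 17, 25), (35, 31, 32, 25), (35, 32, 31, 25), (36, 55, 55, 48), (38, 30, 31, 54),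 (38, 31, 30, 54), (38, 53, 54, 21), (38, 54, 53, 21), (39, 14, 48, 46), (39, 48, 14, 46), (40, 10, 11, 19), (40, 11, 10, 19), (40, 18, 18, 45), (41, 14, 40, 18), (41, 40, 14, 18), (42, 34, 34, 43), (43, 25, 25, 42), (44, 9, 10, 49), (44, 10, 9, 49), (45, 13, 39, 48), (45, 39, 13, 48), (45, 41, 41, 40), (46, 11, 45, 39), (46, 45, 11, 39), (48, 4, 4, 36), (48, 20, 46, 45), (48, 40, 40, 10), (48, 46, 20, 45), (49, 10, 44, 9), (49, 40, 40, 11), (49, 44, 10, 9), (49, 49, 50, 44), (49, 50, 49, 44), (50, 10, 44, 10), (50, 44, 10, 10), (52, 3, 3, 7), (53, 21, 21, 5), (54, 21, 21, 6), (54, 28, 29, 38), (54, 29, 28, 38), (55, 1, 1, 29), (55, 23, 48, 4), (55, 48, 23, 4), (56, 52, 52, 3), (58, 0, 0, 58), (58, 30, 55, 1), (58, 55, 30, 1)]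

/-- the generators -/
def gens : List M4 := [(0, 58, 1, 0), (9, 15, 49, 49)]

/-- right multiplication table -/
def tbl : List (List ℕ) := [[2, 104], [117, 17], [1, 14], [8, 55], [60, 28], [13, 32], [24, 90], [76, 63], [119, 95], [63, 84], [67, 61], [80, 38], [79, 54], [116, 70], [31, 103], [105, 8], [15, 0], [20, 105], [30, 117], [38, 34], [104, 25], [26, 56], [37, 52], [82, 6], [115, 43], [29, 76], [100, 106], [35, 9], [40, 91], [96, 40], [103, 118], [107, 98], [73, 85], [51, 41], [36, 64], [94, 13], [87, 116], [99, 94], [102, 74], [23, 21], [93, 49], [11, 44], [12, 22], [57, 53], [59, 33], [7, 101], [53, 10], [56, 110], [32, 12], [52, 29], [55, 7], [88, 86], [72, 42], [75, 24], [10, 48], [71, 62], [74, 39], [78, 102], [9, 71], [77, 119], [118, 75], [4, 46], [44, 3], [112, 50], [43, 19], [47, 82], [50, 59], [111,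 73], [46, 97], [49, 79], [33, 35], [66, 114], [69, 92], [89, 109], [65, 11], [68, 111], [114, 20], [62, 88], [64, 68], [109, 99], [110, 77], [28, 72], [98, 100], [19, 47], [22, 27], [34, 5], [27, 108], [85, 57], [70, 80], [48, 36], [14, 23], [18, 4], [25, 81], [81, 30], [86, 112], [21, 15], [92, 45], [6, 78], [39, 115], [84, 69], [95, 65], [17, 96], [83, 87], [91, 2], [101, 16], [106, 1], [16, 113], [90, 18], [5, 51], [42, 67], [41, 83], [54, 60], [58, 37], [3, 26], [45, 58], [97, 31], [108, 89], [0, 107], [61, 93], [113, 66]]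

/-- words in the generators -/
def wds : List (List ℕ) := [[0, 0, 0], [0], [], [0, 1, 1, 0, 1, 0], [1, 1, 0, 1], [1, 1, 0, 1, 0, 1, 1, 0, 1, 0, 1, 1], [1, 0, 1, 1, 0, 0], [0, 1, 0, 1, 1, 0, 0, 0], [0, 1, 1, 0, 1, 0, 0], [0, 1, 0, 1, 1, 0, 1, 0], [1, 1, 0, 1, 0, 1, 1, 0, 0], [1, 0, 1, 0, 1, 1, 0, 1], [1, 1, 0, 1, 1, 0, 1, 0, 1, 0], [0, 1, 0, 1, 1, 0, 1, 0, 1, 1, 0, 1], [1], [0, 1, 1, 0, 0, 0], [0, 1, 1, 0, 0], [0, 1], [1, 1, 0, 0], [1, 0, 1, 1, 0, 1, 0, 1], [0, 1, 0], [1, 0, 1, 0, 1], [0, 1, 0, 1, 1, 0, 1, 0, 1, 0], [1, 0, 1, 0, 0], [1, 0, 1, 1, 0, 0, 0], [0, 1, 0, 1], [1, 0, 1, 0, 1, 0], [0, 1, 0, 1, 1, 0, 1, 0, 1, 1], [1, 1, 0, 1, 1], [0, 1, 0, 1, 0], [1, 1, 0, 0, 0], [1, 0], [1, 1, 0, 1, 0, 1, 1, 0, 1, 0], [0, 1, 1, 0, 1, 0, 1, 1, 0, 1], [1, 0, 1, 1, 0, 1, 0, 1, 1], [0, 1, 0, 1, 1, 0, 1, 0, 1, 1, 0], [1, 0, 1, 1,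 0, 1, 0, 1, 1, 0], [0, 1, 0, 1, 1, 0, 1, 0, 1, 0, 0], [1, 0, 1, 1, 0, 1, 0, 1, 0], [1, 0, 1, 0], [1, 1, 0, 1, 1, 0], [1, 0, 1, 0, 1, 1, 0, 1, 0, 0, 0], [1, 1, 0, 1, 1, 0, 1, 0, 1], [1, 0, 1, 1, 0, 1, 0, 0], [0, 1, 1, 0, 1, 0, 1, 1, 0], [0, 1, 0, 1, 1, 0, 0], [1, 1, 0, 1, 0, 1, 0, 0], [1, 0, 1, 0, 1, 1, 0, 0, 0], [1, 1, 0, 1, 0, 1, 1, 0, 1], [1, 1, 0, 1, 1, 0, 1], [0, 1, 1, 0, 1, 0, 1, 0, 0, 0], [0, 1, 1, 0, 1, 0, 1, 1, 0, 1, 0], [1, 1, 0, 1, 1, 0, 1, 0], [1, 1, 0, 1, 0, 1, 0, 0, 0], [1, 1, 0, 1, 0, 1, 1, 0], [0, 1, 1, 0, 1, 0, 1], [1, 0, 1, 0, 1, 1], [1, 0, 1, 1, 0, 1, 0, 0, 0], [0, 1, 0, 1, 1, 0, 1], [0, 1, 1, 0, 1, 0, 1, 1, 0, 0], [1, 1, 0, 1, 0], [1, 1, 0, 1, 0, 0, 0], [0, 1, 1, 0, 1, 0, 1, 1], [0, 1, 0, 1, 1, 0, 1, 0, 0], [1, 0, 1, 1, 0, 1, 0], [1, 0, 1, 0, 1, 1, 0, 0], [0, 1, 1, 0, 1, 0, 1, 0, 0], [1, 1, 0, 1, 0,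 1, 1, 0, 0, 0], [1, 1, 0, 1, 0, 1, 0], [1, 1, 0, 1, 1, 0, 1, 0, 0, 0], [1, 0, 1, 0, 1, 1, 0, 1, 0, 1, 1, 0], [0, 1, 1, 0, 1, 0, 1, 0], [1, 1, 0, 1, 1, 0, 1, 0, 0], [1, 1, 0, 1, 0, 1, 1, 0, 1, 0, 0], [1, 0, 1, 0, 1, 1, 0], [1, 1, 0, 1, 0, 1], [0, 1, 0, 1, 1], [1, 0, 1, 0, 1, 1, 0, 1, 0, 1], [1, 0, 1, 1, 0, 1], [1, 1, 0, 1, 1, 0, 1, 0, 1, 0, 0], [1, 0, 1, 0, 1, 1, 0, 1, 0], [1, 1, 0, 1, 1, 0, 0, 0], [1, 0, 1, 0, 0, 0], [1, 0, 1, 1, 0, 1, 0, 1, 0, 0, 0], [0, 1, 0, 1, 1, 0, 1, 0, 1], [1, 1, 0, 1, 0, 1, 1, 0, 1, 0, 1], [0, 1, 1, 0, 1, 0, 1, 1, 0, 1, 0, 1], [1, 0, 1, 1, 0, 1, 0, 1, 1, 0, 0], [1, 0, 1, 0, 1, 1, 0, 1, 0, 1, 1], [1, 1, 0, 1, 0, 1, 1, 0, 1, 0, 0, 0], [1, 0, 0, 0], [1, 1, 0], [0, 1, 0, 1, 0, 0, 0], [1, 1, 0, 1, 1, 0, 0], [0, 1, 0, 1, 1, 0, 1, 0, 1, 1, 0, 0], [1, 0, 1, 0, 1, 0, 0, 0], [0, 1, 0, 1, 0, 0], [1, 0,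 1, 1, 0], [1, 0, 1], [0, 1, 0, 1, 1, 0, 1, 0, 1, 0, 0, 0], [1, 0, 1, 0, 1, 0, 0], [0, 1, 0, 0, 0], [1, 0, 1, 1, 0, 1, 0, 1, 0, 0], [1, 1], [0, 1, 0, 0], [0, 1, 1], [0, 1, 1, 0], [1, 0, 0], [1, 0, 1, 1, 0, 1, 0, 1, 1, 0, 1, 0], [1, 1, 0, 1, 1, 0, 1, 0, 1, 0, 0, 0], [1, 0, 1, 0, 1, 1, 0, 1, 0, 0], [1, 1, 0, 1, 0, 1, 1], [0, 1, 0, 1, 1, 0, 1, 0, 0, 0], [0, 1, 1, 0, 1], [0, 1, 0, 1, 1, 0], [1, 0, 1, 1], [1, 0, 1, 1, 0, 1, 0, 1, 1, 0, 1], [0, 0], [1, 1, 0, 1, 0, 0], [0, 1, 1, 0, 1, 0, 0, 0]]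

theorem ok : check 59 4 29 elems gens tbl wds 2 = true := by decide +kernel

theorem len : elems.length = 120 := by decide +kernel

/-- An exceptional sharply doubly transitive group of degree 59^2: the listed matrices generate a subgroup of GL(2,59) of order 3480 acting regularly on the non-zero vectors. -/
theorem result (A : Matrix.GeneralLinearGroup (Fin 2) (ZMod 59)) (B : Matrix.GeneralLinearGroup (Fin 2) (ZMod 59)) (C : Matrix.GeneralLinearGroup (Fin 2) (ZMod 59)) (hA : (A : Matrix (Fin 2) (Fin 2) (ZMod 59)) = !![0, -1; 1, 0]) (hB : (B : Matrix (Fin 2) (Fin 2) (ZMod 59)) = !![9, 15; -10, -10]) (hC : (C : Matrix (Fin 2) (Fin 2) (ZMod 59)) = !![4, 0; 0, 4]) : Nat.card (Subgroup.closure ({A, B, C} : Set (Matrix.GeneralLinearGroup (Fin 2) (ZMod 59)))) = 3480 ∧ ∀ v w : Fin 2 → ZMod 59, v ≠ 0 → w ≠ 0 → ∃! h : Subgroup.closure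 ({A, B, C} : Set (Matrix.GeneralLinearGroup (Fin 2) (ZMod 59))), Matrix.mulVec ((h : Matrix.GeneralLinearGroup (Fin 2) (ZMod 59)) : Matrix (Fin 2) (Fin 2) (ZMod 59)) v = w := by
  have : Fact (Nat.Prime 59) := ⟨by norm_num⟩
  have eA : (A : Matrix (Fin 2) (Fin 2) (ZMod 59)) = mat 59 (gens.getD 0 (1, 0, 0, 1)) := by
    rw [hA]
    ext i j
    fin_cases i <;> fin_cases j <;> decide +kernel
  have eB : (B : Matrix (Fin 2) (Fin 2) (ZMod 59)) = mat 59 (gens.getD 1 (1, 0, 0, 1)) := by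
    rw [hB]
    ext i j
    fin_cases i <;> fin_cases j <;> decide +kernel
  have eC : (C : Matrix (Fin 2) (Fin 2) (ZMod 59)) = mat 59 (scal 59 4 1) := by
    rw [hC]
    ext i j
    fin_cases i <;> fin_cases j <;> decide +kernel
  have key := regular (p := 59) 4 29 elems gens tbl wds 2 ok (by rw [len]; norm_num) ({A, B, C} : Set (Matrix.GeneralLinearGroup (Fin 2) (ZMod 59))) ?_ ?_ ?_
  · rw [len] at key
    exact key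
  · rintro g (rfl | rfl | rfl)
    · exact Or.inl ⟨0, by decide, eA⟩
    · exact Or.inl ⟨1, by decide, eB⟩
    · exact Or.inr eC
  · intro k hk
    have hk' : k < 2 := hk
    interval_cases k
    · exact ⟨A, by simp, eA⟩
    · exact ⟨B, by simp, eB⟩
  · exact Or.inr ⟨C, by simp, eC⟩

end Cfsg.Agent.S0693
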