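import Cfsg.Statements.S0694
import Mathlib.Data.ZMod.Basic
import Mathlib.Algebra.Field.ZMod
import Mathlib.Algebra.BigOperators.Intervals
import Mathlib.Tactic.Ring
import Mathlib.Tactic.LinearCombination
import Mathlib.Tactic.IntervalCases
import Mathlib.Algebra.BigOperators.Ring.Finset
import Mathlib.Tactic

set_option autoImplicit false
open Cfsg

namespace Cfsg.Agent.S0694

/-- geometric sum -/
def geo (q n : ℕ) : ℕ := ∑ i ∈ Finset.range n, q ^ i

lemma geo_succ (q n : ℕ) : geo q (n + 1) = geo q n + q ^ n := Finset.sum_range_succ _ _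

lemma geo_add (q i : ℕ) : ∀ j, geo q (i + j) = geo q i + q ^ i * geo q j
  | 0 => by simp [geo]
  | j + 1 => by rw [← add_assoc, geo_succ, geo_add q i j, geo_succ, pow_add]; ring

lemma geo_mul (q r : ℕ) : ∀ j, geo q (r * j) = geo q r * geo (q ^ r) j
  | 0 => by simp [geo]
  | j + 1 => by rw [Nat.mul_succ, geo_add, geo_mul q r j, geo_succ, ← pow_mul]; ring

lemma geo_eq (q : ℕ) (hq : 1 ≤ q) : ∀ n, (q - 1) * geo q n + 1 = q ^ n
  | 0 => by simp [geo]
  | n + 1 => by
    rw [geo_succ, mul_add, pow_succ]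
    have := geo_eq q hq n
    obtain ⟨u, rfl⟩ : ∃ u, q = u + 1 := ⟨q - 1, by omega⟩
    simp only [Nat.add_sub_cancel] at this ⊢
    linarith

lemma modEq_iff (q n : ℕ) (hq : 2 ≤ q) (i : ℕ) : q ^ i ≡ 1 [MOD n * (q - 1)] ↔ n ∣ geo q i := by
  have h := geo_eq q (by omega) i
  rw [Nat.ModEq.comm, Nat.modEq_iff_dvd' (Nat.one_le_pow _ _ (by omega)), show q ^ i - 1 = (q - 1) * geo q i by omega,
    mul_comm n]
  exact Nat.mul_dvd_mul_iff_left (by omega)

lemma geo_cast (q m n : ℕ) (h : (q : ZMod m) = 1) : (geo q n : ZMod m) = n := by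
  simp [geo, h]

/-- the multiplicative hypothesis -/
def Dk (q n : ℕ) : Prop := 2 ≤ q ∧ (∀ r : ℕ, r.Prime → r ∣ n → r ∣ q - 1) ∧ (4 ∣ n → 4 ∣ q - 1)

lemma cast_one_of_dvd {q m : ℕ} (hq : 1 ≤ q) (h : m ∣ q - 1) : (q : ZMod m) = 1 := by
  rw [← Nat.sub_add_cancel hq, Nat.cast_add, (ZMod.natCast_eq_zero_iff _ _).2 h, zero_add, Nat.cast_one]

lemma sq_not_dvd {q r : ℕ} (hr : r.Prime) (hq : 2 ≤ q) (h : r ∣ q - 1) (h4 : r = 2 → 4 ∣ q - 1) :
    ¬ r ^ 2 ∣ geo q r := by
  intro hdvd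
  rcases hr.eq_two_or_odd' with rfl | hodd
  · have h4' := h4 rfl
    simp [geo, Finset.sum_range_succ] at hdvd
    omega
  obtain ⟨t, ht⟩ := h
  have hq' : (q : ZMod (r ^ 2)) = 1 + (r : ZMod (r ^ 2)) * t := by
    rw [show q = r * t + 1 by omega]; push_cast; ring
  have hr2 : ((r : ZMod (r ^ 2))) * r = 0 := by rw [← Nat.cast_mul, ← sq, ZMod.natCast_self]
  have hpow : ∀ u : ℕ, (q : ZMod (r ^ 2)) ^ u = 1 + (u : ZMod (r ^ 2)) * r * t := by
    intro u
    induction u with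
    | zero => simp
    | succ u ih =>
      rw [pow_succ (q : ZMod (r ^ 2)) u, ih, hq']
      push_cast
      linear_combination ((u : ZMod (r ^ 2)) * t * t) * hr2
  obtain ⟨c, hc⟩ : r ∣ ∑ u ∈ Finset.range r, u := by
    have h2 : r ∣ (∑ u ∈ Finset.range r, u) * 2 := by rw [Finset.sum_range_id_mul_two]; exact dvd_mul_right _ _
    exact (hr.dvd_mul.1 h2).resolve_right (fun h2 => by
      have := (Nat.prime_dvd_prime_iff_eq hr Nat.prime_two).1 h2
      subst this; exact absurd hodd (by decide))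
  have hsum : (geo q r : ZMod (r ^ 2)) = r := by
    simp only [geo, Nat.cast_sum, Nat.cast_pow, hpow, Finset.sum_add_distrib, Finset.sum_const, Finset.card_range,
      nsmul_eq_mul, mul_one, ← Finset.sum_mul]
    rw [← Nat.cast_sum, hc, Nat.cast_mul]
    linear_combination ((c : ZMod (r ^ 2)) * t) * hr2
  rw [(ZMod.natCast_eq_zero_iff _ _).2 hdvd] at hsum
  have := (ZMod.natCast_eq_zero_iff _ _).1 hsum.symm
  have := Nat.le_of_dvd hr.pos this
  nlinarith [hr.two_le]

lemma main : ∀ n : ℕ, ∀ q : ℕ, 0 < n → Dk q n → ∀ i, n ∣ geo q i ↔ n ∣ i := by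
  intro n
  induction n using Nat.strong_induction_on with
  | _ n ih =>
    intro q hn hD i
    rcases eq_or_ne n 1 with rfl | hn1
    · simp
    obtain ⟨hq, hpr, h4⟩ := hD
    obtain ⟨r, hr, hrn, hr4⟩ : ∃ r, r.Prime ∧ r ∣ n ∧ (r = 2 → n = 2 ∨ 4 ∣ q - 1) := by
      by_cases hodd : ∃ r, r.Prime ∧ r ∣ n ∧ r ≠ 2
      · obtain ⟨r, hr, hrn, hne⟩ := hodd
        exact ⟨r, hr, hrn, fun h => absurd h hne⟩
      · push Not at hodd
        refine ⟨n.minFac, Nat.minFac_prime hn1, Nat.minFac_dvd n, fun h2 => ?_⟩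
        obtain ⟨n', hn'⟩ : 2 ∣ n := h2 ▸ Nat.minFac_dvd n
        rcases eq_or_ne n' 1 with h1 | h1
        · left; omega
        · right
          refine h4 ?_
          obtain ⟨e, he⟩ : 2 ∣ n' := by
            have hm := hodd _ (Nat.minFac_prime h1) ((Nat.minFac_dvd n').trans ⟨2, by omega⟩)
            exact hm ▸ Nat.minFac_dvd n'
          exact ⟨e, by omega⟩
    have : Fact r.Prime := ⟨hr⟩
    have hq1 : (q : ZMod r) = 1 := cast_one_of_dvd (by omega) (hpr r hr hrn)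
    have hri : r ∣ geo q i ↔ r ∣ i := by
      rw [← ZMod.natCast_eq_zero_iff, geo_cast q r i hq1, ZMod.natCast_eq_zero_iff]
    by_cases hi : r ∣ i
    swap
    · exact ⟨fun h => absurd (hri.1 (hrn.trans h)) hi, fun h => absurd (hrn.trans h) hi⟩
    obtain ⟨j, rfl⟩ := hi
    obtain ⟨n', rfl⟩ := hrn
    have hn' : 0 < n' := Nat.pos_of_mul_pos_left hn
    rcases eq_or_ne n' 1 with h1 | h1
    · subst h1
      rw [mul_one] at *
      exact hri
    obtain ⟨M, hM⟩ : r ∣ geo q r := by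
      rw [← ZMod.natCast_eq_zero_iff, geo_cast q r r hq1, ZMod.natCast_self]
    have hcop : Nat.Coprime n' M := Nat.coprime_of_dvd fun l hl hln hlM => by
      rcases eq_or_ne l r with h | h
      · subst h
        refine sq_not_dvd hl hq (hpr l hl (dvd_mul_right _ _)) (fun h2 => ?_) ?_
        · rcases hr4 h2 with h' | h'
          · exfalso; subst h2; omega
          · exact h'
        · rw [hM, sq]; exact Nat.mul_dvd_mul_left _ hlM
      · have : Fact l.Prime := ⟨hl⟩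
        have hl1 : (q : ZMod l) = 1 := cast_one_of_dvd (by omega) (hpr l hl (hln.trans (dvd_mul_left _ _)))
        have h0 : (geo q r : ZMod l) = 0 := (ZMod.natCast_eq_zero_iff _ _).2 (hlM.trans ⟨r, by rw [hM, mul_comm]⟩)
        rw [geo_cast q l r hl1, ZMod.natCast_eq_zero_iff] at h0
        exact h ((Nat.prime_dvd_prime_iff_eq hl hr).1 h0)
    rw [geo_mul, hM, mul_assoc, Nat.mul_dvd_mul_iff_left hr.pos, Nat.mul_dvd_mul_iff_left hr.pos,
      hcop.dvd_mul_left]
    have hsub : q - 1 ∣ q ^ r - 1 := by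
      have := geo_eq q (by omega) r
      exact ⟨geo q r, by omega⟩
    refine ih n' ?_ (q ^ r) hn' ⟨?_, fun l hl hln => (hpr l hl (hln.trans (dvd_mul_left _ _))).trans hsub,
      fun h => (h4 (h.trans (dvd_mul_left _ _))).trans hsub⟩ j
    · exact lt_mul_of_one_lt_left hn' hr.one_lt
    · exact le_trans hq (Nat.le_self_pow hr.ne_zero q)

/-- The Dickson pair condition: for a prime power `q` and `n > 1`, (every prime factor of `n` divides `q - 1`, and `4 ∣ n → 4 ∣ q - 1`) holds exactly when `q ^ n ≡ 1` modulo `n * (q - 1)` but `q ^ i` is not, for `0 < i < n`. -/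
theorem result (q n : ℕ) (hq : IsPrimePow q) (hn : 1 < n) : ((∀ r : ℕ, r.Prime → r ∣ n → r ∣ q - 1) ∧ (4 ∣ n → 4 ∣ q - 1)) ↔ (q ^ n ≡ 1 [MOD n * (q - 1)] ∧ ∀ i : ℕ, 0 < i → i < n → ¬ q ^ i ≡ 1 [MOD n * (q - 1)]) := by
  have hq2 : 2 ≤ q := hq.one_lt
  constructor
  · rintro ⟨h1, h2⟩
    refine ⟨(modEq_iff q n hq2 n).2 ((main n q (by omega) ⟨hq2, h1, h2⟩ n).2 dvd_rfl), fun i hi hin hmod => ?_⟩
    have := Nat.le_of_dvd hi ((main n q (by omega) ⟨hq2, h1, h2⟩ i).1 ((modEq_iff q n hq2 i).1 hmod))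
    omega
  · rintro ⟨hn0, hmin⟩
    have hS : n ∣ geo q n := (modEq_iff q n hq2 n).1 hn0
    have hmin' : ∀ i, 0 < i → i < n → ¬ n ∣ geo q i := fun i hi hin h => hmin i hi hin ((modEq_iff q n hq2 i).2 h)
    have hcop : Nat.Coprime q n := Nat.coprime_of_dvd fun l hl hlq hln => by
      have h := hln.trans hS
      rw [show n = 1 + (n - 1) by omega, geo_add, pow_one] at h
      have h1 : geo q 1 = 1 := by simp [geo]
      rw [h1] at h
      exact hl.not_dvd_one ((Nat.dvd_add_left (hlq.mul_right _)).1 h)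
    have hpr : ∀ r : ℕ, r.Prime → r ∣ n → r ∣ q - 1 := by
      intro r hr hrn
      by_contra hnd
      have : Fact r.Prime := ⟨hr⟩
      have : NeZero n := ⟨by omega⟩
      have hinj : Function.Injective fun i : Fin n => (geo q i.1 : ZMod n) := by
        intro i j hij
        by_contra hne
        wlog hlt : i.1 < j.1 generalizing i j with H
        · exact H hij.symm (Ne.symm hne) (lt_of_le_of_ne (not_lt.1 hlt) fun e => hne (Fin.ext e.symm))
        refine hmin' (j.1 - i.1) (by omega) (by omega) ?_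
        rw [← ZMod.natCast_eq_zero_iff]
        have hij' : (geo q i.1 : ZMod n) = (geo q j.1 : ZMod n) := hij
        rw [show j.1 = i.1 + (j.1 - i.1) by omega, geo_add, Nat.cast_add, left_eq_add, Nat.cast_mul, Nat.cast_pow] at hij'
        exact (IsUnit.mul_right_eq_zero (((ZMod.isUnit_iff_coprime q n).2 hcop).pow i.1)).1 hij'
      have hsurj := ((Fintype.bijective_iff_injective_and_card _).2 ⟨hinj, by rw [Fintype.card_fin, ZMod.card]⟩).2
      have hne : ((q - 1 : ℕ) : ZMod r) ≠ 0 := fun h => hnd ((ZMod.natCast_eq_zero_iff _ _).1 h)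
      obtain ⟨i, hi⟩ := hsurj ((-((q - 1 : ℕ) : ZMod r)⁻¹).val : ZMod n)
      have hi' : (geo q i.1 : ZMod r) = -((q - 1 : ℕ) : ZMod r)⁻¹ := by
        have h := congrArg (ZMod.castHom hrn (ZMod r)) hi
        simpa [ZMod.natCast_zmod_val] using h
      have hgeo : (((q - 1) * geo q i.1 + 1 : ℕ) : ZMod r) = (q : ZMod r) ^ i.1 := by
        rw [geo_eq q (by omega) i.1, Nat.cast_pow]
      rw [Nat.cast_add, Nat.cast_mul, hi', mul_neg, mul_inv_cancel₀ hne, Nat.cast_one, neg_add_cancel] at hgeo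
      have hq0 := pow_eq_zero_iff'.1 hgeo.symm
      exact hr.not_dvd_one (Nat.Coprime.eq_one_of_dvd ((hcop.coprime_dvd_right hrn).symm) ((ZMod.natCast_eq_zero_iff _ _).1 hq0.1) ▸ dvd_refl r)
    refine ⟨hpr, fun h4 => ?_⟩
    by_contra hq4
    obtain ⟨m, rfl⟩ := h4
    have h2 : 2 ∣ q - 1 := hpr 2 Nat.prime_two ⟨2 * m, by ring⟩
    obtain ⟨u, hu⟩ := h2
    have hqodd : q = 2 * u + 1 := by omega
    have h4q : 4 ∣ q + 1 := by omega
    have hsub : q - 1 ∣ q ^ 2 - 1 := by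
      have := geo_eq q (by omega) 2
      exact ⟨geo q 2, by omega⟩
    have h4q2 : 4 ∣ q ^ 2 - 1 := by
      have h := geo_eq q (by omega) 2
      have hg : geo q 2 = 1 + q := by simp [geo, Finset.sum_range_succ]
      rw [hg] at h
      exact (Nat.dvd_trans h4q ⟨q - 1, by rw [← h, Nat.add_sub_cancel]; ring⟩)
    have hm := (main m (q ^ 2) (by omega) ⟨le_trans hq2 (Nat.le_self_pow two_ne_zero q),
      fun l hl hln => (hpr l hl (hln.trans (dvd_mul_left _ _))).trans hsub, fun _ => h4q2⟩ m).2 dvd_rfl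
    refine hmin' (2 * m) (by omega) (by omega) ?_
    rw [geo_mul]
    exact mul_dvd_mul (by simpa [geo, Finset.sum_range_succ, add_comm] using h4q) hm

end Cfsg.Agent.S0694
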