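import Cfsg.Statements.S0695
import Mathlib.GroupTheory.GroupAction.MultiplePrimitivity
import Mathlib.GroupTheory.Perm.Cycle.Type
import Mathlib.GroupTheory.PGroup

set_option autoImplicit false
open Cfsg

namespace Cfsg.Agent.S0695

/-- A regular normal subgroup of a doubly primitive group of finite degree at least 2 is an elementary abelian 2-group (and the degree is a power of 2), unless the degree is 3. -/
theorem result {G : Type*} [Group G] {X : Type*} [Fintype X] [MulAction G X] (hX : 2 ≤ Fintype.card X) (h2 : MulAction.IsMultiplyPreprimitive G X 2) (N : Subgroup G) [N.Normal] (htrans : MulAction.IsPretransitive N X) (hreg : ∀ x : X, MulAction.stabilizer N x = ⊥) : Fintype.card X = 3 ∨ (IsMulCommutative N ∧ (∀ n ∈ N, n ^ 2 = 1) ∧ ∃ m : ℕ, Fintype.card X = 2 ^ m) := by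
  classical
  have h2t : MulAction.IsMultiplyPretransitive G X 2 := h2.isMultiplyPretransitive
  obtain ⟨a⟩ : Nonempty X := Fintype.card_pos_iff.1 (by omega)
  have inj : ∀ m k : N, m • a = k • a → m = k := by
    intro m k h
    have : k⁻¹ * m ∈ MulAction.stabilizer N a := by rw [MulAction.mem_stabilizer_iff, mul_smul, h, inv_smul_smul]
    rw [hreg a, Subgroup.mem_bot, inv_mul_eq_one] at this
    exact this.symm
  let e : N ≃ X := Equiv.ofBijective (fun m : N => m • a) ⟨fun m k h => inj m k h, fun y => htrans.exists_smul_eq a y⟩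
  have hcard : Nat.card N = Fintype.card X := by rw [Nat.card_congr e, Nat.card_eq_fintype_card]
  have : Finite N := Finite.of_equiv X e.symm
  have hne1 : ∀ m : N, m ≠ 1 → m • a ≠ a := fun m hm h => hm (inj m 1 (by rw [h, one_smul]))
  have hconj : ∀ m k : N, m ≠ 1 → k ≠ 1 → orderOf m = orderOf k := by
    intro m k hm hk
    obtain ⟨g, hg1, hg2⟩ := MulAction.is_two_pretransitive_iff.1 h2t (Ne.symm (hne1 m hm)) (Ne.symm (hne1 k hk))
    have : (MulAut.conjNormal g m : N) = k := inj _ _ (by
      show ((MulAut.conjNormal g m : N) : G) • a = k • a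
      rw [MulAut.conjNormal_apply, mul_smul, mul_smul, inv_smul_eq_iff.2 hg1.symm]
      exact hg2)
    rw [← this, MulEquiv.orderOf_eq]
  obtain ⟨p, hp, hpd⟩ := Nat.exists_prime_and_dvd (show Nat.card N ≠ 1 by omega)
  have : Fact p.Prime := ⟨hp⟩
  obtain ⟨z, hz⟩ := exists_prime_orderOf_dvd_card' p hpd
  have hz1 : z ≠ 1 := fun h => by rw [h, orderOf_one] at hz; exact hp.one_lt.ne hz
  have hord : ∀ m : N, m ^ p = 1 := fun m => by
    rcases eq_or_ne m 1 with rfl | hm
    · exact one_pow _
    · rw [← hz, ← hconj m z hm hz1, pow_orderOf_eq_one]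
  rcases hp.eq_two_or_odd' with rfl | hodd
  · right
    have hsq : ∀ m : N, m * m = 1 := fun m => by rw [← sq]; exact hord m
    have hinv : ∀ m : N, m⁻¹ = m := fun m => inv_eq_of_mul_eq_one_right (hsq m)
    refine ⟨⟨⟨fun m k => ?_⟩⟩, fun n hn => congrArg Subtype.val (hord ⟨n, hn⟩), ?_⟩
    · rw [← hinv (m * k), mul_inv_rev, hinv, hinv]
    · obtain ⟨j, hj⟩ := IsPGroup.iff_card.1 (fun m : N => ⟨1, by rw [pow_one]; exact hord m⟩ : IsPGroup 2 N)
      exact ⟨j, hcard ▸ hj⟩
  · left
    have hzinv : z⁻¹ ≠ z := fun h => by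
      have h2' : z ^ 2 = 1 := by rw [sq]; exact inv_eq_iff_mul_eq_one.1 h
      have hd : p ∣ 2 := hz ▸ orderOf_dvd_of_pow_eq_one h2'
      rw [(Nat.prime_dvd_prime_iff_eq hp Nat.prime_two).1 hd] at hodd
      exact absurd hodd (by decide)
    have hprim := h2.isPreprimitive_ofFixingSubgroup (M := G) (s := {a}) (by simp; rfl)
    set H := fixingSubgroup G ({a} : Set X)
    have hHa : ∀ g : H, (g : G) • a = a := fun g => (mem_fixingSubgroup_iff G).1 g.2 a rfl
    let B : Set (SubMulAction.ofFixingSubgroup G ({a} : Set X)) := {x | (x : X) = z • a ∨ (x : X) = z⁻¹ • a}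
    have hB : MulAction.IsBlock H B := by
      rw [MulAction.isBlock_iff_smul_eq_of_nonempty]
      intro g hne
      have key : ∀ m : N, (g : G) • (m • a) = (MulAut.conjNormal (g : G) m : N) • a := fun m => by
        show _ = ((MulAut.conjNormal (g : G) m : N) : G) • a
        rw [MulAut.conjNormal_apply, mul_smul, mul_smul, inv_smul_eq_iff.2 (hHa g).symm]
        rfl
      set z' := (MulAut.conjNormal (g : G) z : N) with hz'
      have hz'inv : (MulAut.conjNormal (g : G) z⁻¹ : N) = z'⁻¹ := map_inv _ _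
      have hzz : z' = z ∨ z' = z⁻¹ := by
        obtain ⟨y, ⟨x, hx, rfl⟩, hy⟩ := hne
        rcases hx with hx | hx <;> rcases hy with hy | hy <;>
          (have hv : (g : G) • (x : X) = _ := hy
           rw [hx, key] at hv)
        · exact Or.inl (inj _ _ hv)
        · exact Or.inr (inj _ _ hv)
        · rw [hz'inv] at hv; exact Or.inr (inv_eq_iff_eq_inv.1 (inj _ _ hv))
        · rw [hz'inv] at hv; exact Or.inl (inv_injective (inj _ _ hv))
      have hswap : ∀ x : SubMulAction.ofFixingSubgroup G ({a} : Set X), x ∈ B → g • x ∈ B := by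
        intro x hx
        show (g : G) • (x : X) = _ ∨ (g : G) • (x : X) = _
        rcases hx with hx | hx <;> rw [hx, key]
        · rcases hzz with h | h
          · exact Or.inl (by rw [← hz', h])
          · exact Or.inr (by rw [← hz', h])
        · rw [hz'inv]
          rcases hzz with h | h
          · exact Or.inr (by rw [h])
          · exact Or.inl (by rw [h, inv_inv])
      refine Set.eq_of_subset_of_ncard_le ?_ (by rw [Set.ncard_smul_set]) (Set.toFinite _)
      rintro _ ⟨x, hx, rfl⟩
      exact hswap x hx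
    have hmem : ∀ m : N, m ≠ 1 → m • a ∈ (SubMulAction.ofFixingSubgroup G ({a} : Set X) : Set X) := fun m hm h => hne1 m hm h
    rcases hprim.isTrivialBlock_of_isBlock hB with h | h
    · exfalso
      have := h (show (⟨z • a, hmem z hz1⟩ : SubMulAction.ofFixingSubgroup G ({a} : Set X)) ∈ B from Or.inl rfl)
        (show (⟨z⁻¹ • a, hmem _ (inv_ne_one.2 hz1)⟩ : SubMulAction.ofFixingSubgroup G ({a} : Set X)) ∈ B from Or.inr rfl)
      exact hzinv (inj _ _ (congrArg Subtype.val this)).symm
    · have huniv : ∀ x : X, x = a ∨ x = z • a ∨ x = z⁻¹ • a := fun x => by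
        rcases eq_or_ne x a with hxa | hxa
        · exact Or.inl hxa
        · have : (⟨x, hxa⟩ : SubMulAction.ofFixingSubgroup G ({a} : Set X)) ∈ B := h ▸ Set.mem_univ _
          exact Or.inr this
      rw [← Finset.card_univ, show (Finset.univ : Finset X) = {a, z • a, z⁻¹ • a} from ?_]
      · rw [Finset.card_eq_three]
        exact ⟨a, z • a, z⁻¹ • a, (hne1 z hz1).symm, (hne1 _ (inv_ne_one.2 hz1)).symm, fun h => hzinv (inj _ _ h).symm, rfl⟩
      · ext x; simpa using huniv x

end Cfsg.Agent.S0695
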