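import Cfsg.Statements.S0696
import Cfsg.Agent.S0695

set_option autoImplicit false
open Cfsg

namespace Cfsg.Agent.S0696

/-- A triply primitive group of degree at least 3 having a regular normal subgroup has degree 3 or 4. -/
theorem result {G : Type*} [Group G] {X : Type*} [Fintype X] [MulAction G X] (hX : 3 ≤ Fintype.card X) (h3 : MulAction.IsMultiplyPreprimitive G X 3) (N : Subgroup G) [N.Normal] (htrans : MulAction.IsPretransitive N X) (hreg : ∀ x : X, MulAction.stabilizer N x = ⊥) : Fintype.card X = 3 ∨ Fintype.card X = 4 := by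
  classical
  have h2 : MulAction.IsMultiplyPreprimitive G X 2 := by
    refine MulAction.isMultiplyPreprimitive_of_le G X h3 (by omega) ?_
    rw [ENat.card_eq_coe_fintype_card]; exact_mod_cast hX
  rcases Cfsg.Agent.S0695.result (by omega) h2 N htrans hreg with h | ⟨hab, hsq, m, hm⟩
  · exact Or.inl h
  right
  obtain ⟨a⟩ : Nonempty X := Fintype.card_pos_iff.1 (by omega)
  have inj : ∀ m k : N, m • a = k • a → m = k := by
    intro m k h
    have : k⁻¹ * m ∈ MulAction.stabilizer N a := by rw [MulAction.mem_stabilizer_iff, mul_smul, h, inv_smul_smul]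
    rw [hreg a, Subgroup.mem_bot, inv_mul_eq_one] at this
    exact this.symm
  obtain ⟨b, hb⟩ := Fintype.exists_ne_of_one_lt_card (show 1 < Fintype.card X by omega) a
  obtain ⟨x, hx⟩ := htrans.exists_smul_eq a b
  obtain ⟨c, -, hc⟩ := Finset.exists_mem_notMem_of_card_lt_card (s := ({a, b} : Finset X)) (t := Finset.univ) (by
    have h2 : ({a, b} : Finset X).card ≤ 2 := Finset.card_le_two
    rw [Finset.card_univ]; omega)
  simp only [Finset.mem_insert, Finset.mem_singleton, not_or] at hc
  obtain ⟨y, hy⟩ := htrans.exists_smul_eq a c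
  have hx1 : x ≠ 1 := fun h => hb (by rw [← hx, h, one_smul])
  have hy1 : y ≠ 1 := fun h => hc.1 (by rw [← hy, h, one_smul])
  have hxy : x * y ≠ 1 := fun h => hc.2 (by
    have hxx : x * x = 1 := Subtype.ext (by have := hsq x x.2; rwa [sq] at this)
    rw [← hy, ← hx, mul_left_cancel (h.trans hxx.symm)])
  have hxy' : x * y ≠ x := fun h => hy1 (mul_eq_left.1 h)
  have hprim := h3.isPreprimitive_ofFixingSubgroup (M := G) (s := {a, b}) (by
    rw [Set.encard_pair (Ne.symm hb)]; rfl)
  set H := fixingSubgroup G ({a, b} : Set X)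
  have hHa : ∀ g : H, (g : G) • a = a := fun g => (mem_fixingSubgroup_iff G).1 g.2 a (Or.inl rfl)
  have key : ∀ (g : H) (m : N), (g : G) • (m • a) = (MulAut.conjNormal (g : G) m : N) • a := fun g m => by
    show _ = ((MulAut.conjNormal (g : G) m : N) : G) • a
    rw [MulAut.conjNormal_apply, mul_smul, mul_smul, inv_smul_eq_iff.2 (hHa g).symm]
    rfl
  have hgx : ∀ g : H, (MulAut.conjNormal (g : G) x : N) = x := fun g => inj _ _ (by
    rw [← key, hx]; exact (mem_fixingSubgroup_iff G).1 g.2 b (Or.inr rfl))
  let B : Set (SubMulAction.ofFixingSubgroup G ({a, b} : Set X)) := {u | (u : X) = y • a ∨ (u : X) = (x * y) • a}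
  have hxx : x * x = 1 := Subtype.ext (by have := hsq x x.2; rwa [sq] at this)
  have hB : MulAction.IsBlock H B := by
    rw [MulAction.isBlock_iff_smul_eq_of_nonempty]
    intro g hne
    set y' := (MulAut.conjNormal (g : G) y : N) with hy'
    have hxy2 : (MulAut.conjNormal (g : G) (x * y) : N) = x * y' := by rw [map_mul, hgx]
    have hyy : y' = y ∨ y' = x * y := by
      obtain ⟨u, ⟨v, hv, rfl⟩, hu⟩ := hne
      rcases hv with hv | hv <;> rcases hu with hu | hu <;>
        (have hw : (g : G) • (v : X) = _ := hu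
         rw [hv, key] at hw)
      · exact Or.inl (inj _ _ hw)
      · exact Or.inr (inj _ _ hw)
      · rw [hxy2] at hw
        right
        have := inj _ _ hw
        rw [← this, ← mul_assoc, hxx, one_mul]
      · rw [hxy2] at hw
        exact Or.inl (mul_left_cancel (inj _ _ hw))
    refine Set.eq_of_subset_of_ncard_le ?_ (by rw [Set.ncard_smul_set]) (Set.toFinite _)
    rintro _ ⟨v, hv, rfl⟩
    show (g : G) • (v : X) = _ ∨ (g : G) • (v : X) = _
    rcases hv with hv | hv <;> rw [hv, key]
    · rcases hyy with h | h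
      · exact Or.inl (by rw [← hy', h])
      · exact Or.inr (by rw [← hy', h])
    · rw [hxy2]
      rcases hyy with h | h
      · exact Or.inr (by rw [h])
      · exact Or.inl (by rw [h, ← mul_assoc, hxx, one_mul])
  have hm1 : y • a ∈ (SubMulAction.ofFixingSubgroup G ({a, b} : Set X) : Set X) := by
    rw [hy]; rintro (h | h)
    · exact hc.1 h
    · exact hc.2 h
  have hm2 : (x * y) • a ∈ (SubMulAction.ofFixingSubgroup G ({a, b} : Set X) : Set X) := by
    rintro (h | h)
    · exact hxy (inj _ 1 (by rw [one_smul]; exact h))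
    · exact hxy' (inj _ _ (by rw [hx]; exact h))
  rcases hprim.isTrivialBlock_of_isBlock hB with h | h
  · exfalso
    have h' := h (show (⟨y • a, hm1⟩ : SubMulAction.ofFixingSubgroup G ({a, b} : Set X)) ∈ B from Or.inl rfl)
      (show (⟨(x * y) • a, hm2⟩ : SubMulAction.ofFixingSubgroup G ({a, b} : Set X)) ∈ B from Or.inr rfl)
    exact hx1 (mul_eq_right.1 (inj _ _ (congrArg Subtype.val h')).symm)
  · have huniv : ∀ u : X, u = a ∨ u = b ∨ u = y • a ∨ u = (x * y) • a := fun u => by
      by_cases hu : u ∈ ({a, b} : Set X)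
      · rcases hu with hu | hu
        · exact Or.inl hu
        · exact Or.inr (Or.inl hu)
      · have : (⟨u, hu⟩ : SubMulAction.ofFixingSubgroup G ({a, b} : Set X)) ∈ B := h ▸ Set.mem_univ _
        exact Or.inr (Or.inr this)
    have hle : Fintype.card X ≤ 4 := by
      rw [← Finset.card_univ]
      refine (Finset.card_le_card (t := {a, b, y • a, (x * y) • a}) fun u _ => ?_).trans Finset.card_le_four
      simpa using huniv u
    rw [hm] at hX hle ⊢
    have : m ≤ 2 := by
      by_contra hh
      have : 2 ^ 3 ≤ 2 ^ m := Nat.pow_le_pow_right (by norm_num) (by omega)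
      omega
    interval_cases m <;> omega

end Cfsg.Agent.S0696
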