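import Cfsg.Statements.S0697
import Cfsg.Agent.PermGroups.Frobenius
import Cfsg.Agent.S0695

set_option autoImplicit false
open Cfsg

namespace Cfsg.Agent.S0697

open MulAction Cfsg.Agent.PermGroups

/-- highly transitive groups are full -/
lemma surjective_of_transitive {G : Type*} [Group G] {X : Type*} [Fintype X] [MulAction G X] [Nonempty X] {k : ℕ}
    (hk : Fintype.card X ≤ k + 1) (hk' : k ≤ Fintype.card X) (h : IsMultiplyPretransitive G X k) :
    Function.Surjective (toPermHom G X) := by
  classical
  intro π
  obtain ⟨a⟩ := ‹Nonempty X›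
  have hpos : 0 < Fintype.card X := Fintype.card_pos
  obtain ⟨n, hn⟩ : ∃ n, Fintype.card X = n + 1 := ⟨Fintype.card X - 1, by omega⟩
  have : IsMultiplyPretransitive G X n := isMultiplyPretransitive_of_le (n := k) (by omega) (by rw [Nat.card_eq_fintype_card]; omega)
  have hS : Fintype.card {x : X // x ≠ a} = n := by rw [Fintype.card_subtype_compl, Fintype.card_subtype_eq]; omega
  let e : Fin n ↪ X := (Fintype.equivFinOfCardEq hS).symm.toEmbedding.trans (Function.Embedding.subtype _)
  obtain ⟨g, hg⟩ := this.exists_smul_eq e (e.trans π.toEmbedding)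
  refine ⟨g, Equiv.ext fun x => ?_⟩
  show g • x = π x
  have key : ∀ x, x ≠ a → g • x = π x := fun x hx => by
    have h := DFunLike.congr_fun hg (Fintype.equivFinOfCardEq hS ⟨x, hx⟩)
    have hex : e (Fintype.equivFinOfCardEq hS ⟨x, hx⟩) = x := by simp [e]
    rw [← hex]; exact h
  by_cases hx : x = a
  · by_contra hne
    obtain ⟨y, hy⟩ := (MulAction.toPerm g : Equiv.Perm X).surjective (π x)
    have hy' : g • y = π x := hy
    rcases eq_or_ne y a with rfl | hya
    · exact hne (hx ▸ hy')
    · rw [key y hya] at hy'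
      exact hya (π.injective hy' |>.trans hx)
  · exact key x hx

/-- the full stabiliser makes the group full -/
lemma surjective_of_stabilizer {G : Type*} [Group G] {X : Type*} [MulAction G X] [IsPretransitive G X] (a : X)
    (h : Function.Surjective (toPermHom (stabilizer G a) (SubMulAction.ofStabilizer G a))) :
    Function.Surjective (toPermHom G X) := by
  intro π
  obtain ⟨g, hg⟩ := exists_smul_eq G a (π a)
  let π' : Equiv.Perm X := π.trans (toPerm g⁻¹)
  have hπ' : π' a = a := by show g⁻¹ • π a = a; rw [inv_smul_eq_iff, hg]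
  obtain ⟨k, hk⟩ := h (π'.subtypePerm (p := fun x => x ∈ SubMulAction.ofStabilizer G a) fun x =>
    ⟨fun hx hxa => hx (show π' x = a by rw [show x = a from hxa, hπ']), fun hx hxa => hx (show x = a from π'.injective (hπ'.symm ▸ hxa : π' x = π' a))⟩)
  refine ⟨g * (k : G), Equiv.ext fun x => ?_⟩
  show (g * (k : G)) • x = π x
  rw [mul_smul]
  by_cases hx : x = a
  · subst hx; rw [mem_stabilizer_iff.1 k.2, hg]
  · have h1 : (k : G) • x = g⁻¹ • π x :=
      congrArg Subtype.val (DFunLike.congr_fun hk (⟨x, hx⟩ : SubMulAction.ofStabilizer G a))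
    rw [h1, smul_inv_smul]

/-- Wielandt, for faithful actions -/
lemma wielandt : ∀ j : ℕ, ∀ (G : Type*) [Group G] [Finite G] (X : Type*) [Fintype X] [MulAction G X] [FaithfulSMul G X],
    j + 1 ≤ Fintype.card X → IsMultiplyPreprimitive G X (j + 1) → ¬ Function.Surjective (toPermHom G X) →
      ∀ (N : Subgroup G) [N.Normal], N ≠ ⊥ → (∃ a : X, stabilizer N a ≠ ⊥) → IsMultiplyPretransitive N X (j + 1) := by
  intro j
  induction j with
  | zero =>
    intro G _ _ X _ _ _ hc h _ N _ hN _
    have : IsPreprimitive G X := (is_one_preprimitive_iff G X).1 h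
    exact is_one_pretransitive_iff.2 (transitive_of_normal N hN)
  | succ j ih =>
    intro G _ _ X _ _ _ hc h htop N _ hN ⟨b, hb⟩
    classical
    have : Nonempty X := ⟨b⟩
    have ht : IsMultiplyPretransitive G X (j + 1 + 1) := h.isMultiplyPretransitive
    have h2 : IsMultiplyPretransitive G X 2 :=
      isMultiplyPretransitive_of_le (n := j + 1 + 1) (by omega) (by rw [Nat.card_eq_fintype_card]; omega)
    have : IsPreprimitive G X := isPreprimitive_of_is_two_pretransitive h2
    have hNt : IsPretransitive N X := transitive_of_normal N hN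
    have hbig : j + 3 < Fintype.card X := by
      by_contra hle
      exact htop (surjective_of_transitive (by omega) (by omega) ht)
    obtain ⟨a⟩ : Nonempty X := ⟨b⟩
    have := faithful_ofStabilizer (G := G) a
    have : Fintype (SubMulAction.ofStabilizer G a) := Fintype.ofFinite _
    have hcard : Fintype.card (SubMulAction.ofStabilizer G a) + 1 = Fintype.card X := by
      rw [← Nat.card_eq_fintype_card, ← Nat.card_eq_fintype_card, SubMulAction.nat_card_ofStabilizer_add_one_eq]
    have h' : IsMultiplyPreprimitive (stabilizer G a) (SubMulAction.ofStabilizer G a) (j + 1) := by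
      have : IsMultiplyPreprimitive G X (j + 1).succ := h
      exact isMultiplyPreprimitive_ofStabilizer G X
    set N' := N.subgroupOf (stabilizer G a)
    have hN' : N' ≠ ⊥ := subgroupOf_stabilizer_ne_bot hb a
    by_cases hreg : ∀ z : SubMulAction.ofStabilizer G a, stabilizer N' z = ⊥
    swap
    · push Not at hreg
      exact normal_succ_transitive N (ih (stabilizer G a) (SubMulAction.ofStabilizer G a) (by omega) h'
        (fun hs => htop (surjective_of_stabilizer a hs)) N' hN' hreg)
    have : IsPreprimitive (stabilizer G a) (SubMulAction.ofStabilizer G a) := by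
      refine (is_one_preprimitive_iff _ _).1 (isMultiplyPreprimitive_of_le _ _ h' (by omega) ?_)
      rw [ENat.card_eq_coe_fintype_card]; exact_mod_cast (by omega : j + 1 ≤ Fintype.card (SubMulAction.ofStabilizer G a))
    have hN't : IsPretransitive N' (SubMulAction.ofStabilizer G a) := transitive_of_normal N' hN'
    rcases Nat.eq_zero_or_pos j with rfl | hj
    · exact normal_succ_transitive N (is_one_pretransitive_iff.2 hN't)
    exfalso
    have h'2 : IsMultiplyPreprimitive (stabilizer G a) (SubMulAction.ofStabilizer G a) 2 := by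
      refine isMultiplyPreprimitive_of_le _ _ h' (by omega) ?_
      rw [ENat.card_eq_coe_fintype_card]; exact_mod_cast (by omega : j + 1 ≤ Fintype.card (SubMulAction.ofStabilizer G a))
    rcases Cfsg.Agent.S0695.result (by omega) h'2 N' hN't hreg with h3 | ⟨-, hsq, -⟩
    · omega
    have h2N : IsMultiplyPretransitive N X 2 := normal_succ_transitive N (is_one_pretransitive_iff.2 hN't)
    have h2N' : ∀ {u v u' v' : X}, u ≠ v → u' ≠ v' → ∃ n : N, n • u = u' ∧ n • v = v' := is_two_pretransitive_iff.1 h2N
    have hsharp : ∀ (n : N) (x y : X), x ≠ y → n • x = x → n • y = y → n = 1 := by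
      intro n x y hxy hx hy
      obtain ⟨c, hc'⟩ := Fintype.exists_ne_of_one_lt_card (show 1 < Fintype.card X by omega) a
      obtain ⟨m, hm1, hm2⟩ := h2N' hxy (Ne.symm hc')
      have h1 : m * n * m⁻¹ = 1 := stabilizer_eq_bot_of_subgroupOf (hreg ⟨c, hc'⟩) _
        (by rw [← hm1, mul_smul, mul_smul, inv_smul_smul, hx])
        (by show (m * n * m⁻¹) • c = c; rw [← hm2, mul_smul, mul_smul, inv_smul_smul, hy])
      rwa [conj_eq_one_iff] at h1
    have hsqN : ∀ n : N, n • a = a → n * n = 1 := fun n hn => by
      have := hsq ⟨n.1, hn⟩ n.2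
      rw [sq] at this
      exact Subtype.ext (congrArg Subtype.val this :)
    have := card_le_three_of_sharp hsharp a hsqN fun x y hx hy => by
      obtain ⟨n, h1, h2⟩ := h2N' (Ne.symm hx) (Ne.symm hy)
      exact ⟨n, h1, h2⟩
    rw [Nat.card_eq_fintype_card] at this
    omega

/-- In a `k`-primitive permutation group which is not the whole symmetric group, a non-trivial non-regular normal subgroup is `k`-transitive. -/
theorem result {α : Type*} [Fintype α] [DecidableEq α] (G : Subgroup (Equiv.Perm α)) {k : ℕ} (hk : 1 ≤ k) (hkn : k ≤ Fintype.card α) (hG : MulAction.IsMultiplyPreprimitive G α k) (htop : G ≠ ⊤) (H : Subgroup G) [H.Normal] (hH : H ≠ ⊥) (hnr : ∃ a : α, MulAction.stabilizer H a ≠ ⊥) : MulAction.IsMultiplyPretransitive H α k := by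
  obtain ⟨j, rfl⟩ : ∃ j, k = j + 1 := ⟨k - 1, by omega⟩
  refine wielandt j G α hkn hG (fun hs => htop ?_) H hH hnr
  refine eq_top_iff.2 fun π _ => ?_
  obtain ⟨g, hg⟩ := hs π
  exact hg ▸ g.2

end Cfsg.Agent.S0697
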