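import Cfsg.Statements.S0698
import Cfsg.Agent.PermGroups.Frobenius
import Cfsg.Agent.S0695
import Cfsg.Agent.S0696

set_option autoImplicit false
open Cfsg

namespace Cfsg.Agent.S0698

open MulAction Cfsg.Agent.PermGroups

/-- Jordan, for faithful actions -/
lemma jordan : ∀ j : ℕ, ∀ (G : Type*) [Group G] [Finite G] (X : Type*) [Fintype X] [MulAction G X] [FaithfulSMul G X],
    j + 2 < Fintype.card X → IsMultiplyPretransitive G X (j + 2) → ∀ (N : Subgroup G) [N.Normal], N ≠ ⊥ →
      IsMultiplyPretransitive N X (j + 1) ∨ (j = 1 ∧ IsMulCommutative N ∧ ∀ n ∈ N, n ^ 2 = 1) := by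
  intro j
  induction j with
  | zero =>
    intro G _ _ X _ _ _ hc h N _ hN
    have : IsPreprimitive G X := isPreprimitive_of_is_two_pretransitive h
    exact Or.inl (is_one_pretransitive_iff.2 (transitive_of_normal N hN))
  | succ j ih =>
    intro G _ _ X _ _ _ hc h N _ hN
    classical
    have h2 : IsMultiplyPretransitive G X 2 :=
      isMultiplyPretransitive_of_le (n := j + 1 + 2) (by omega) (by rw [Nat.card_eq_fintype_card]; omega)
    have : IsPreprimitive G X := isPreprimitive_of_is_two_pretransitive h2
    have hNt : IsPretransitive N X := transitive_of_normal N hN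
    have hprim : ∀ i, i + 1 ≤ j + 3 → IsMultiplyPreprimitive G X i := fun i hi => by
      have : IsMultiplyPretransitive G X i.succ :=
        isMultiplyPretransitive_of_le (n := j + 1 + 2) (by omega) (by rw [Nat.card_eq_fintype_card]; omega)
      refine isMultiplyPreprimitive_of_isMultiplyPretransitive_succ G X ?_
      rw [ENat.card_eq_coe_fintype_card]; exact_mod_cast (by omega : i + 1 ≤ Fintype.card X)
    by_cases hreg : ∀ x : X, stabilizer N x = ⊥
    · rcases Nat.eq_zero_or_pos j with rfl | hj
      · rcases Cfsg.Agent.S0695.result (by omega) (hprim 2 (by omega)) N hNt hreg with h3 | ⟨hab, hsq, -⟩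
        · omega
        · exact Or.inr ⟨rfl, hab, hsq⟩
      · rcases Cfsg.Agent.S0696.result (by omega) (hprim 3 (by omega)) N hNt hreg with h3 | h3 <;> omega
    push Not at hreg
    obtain ⟨b, hb⟩ := hreg
    obtain ⟨a⟩ : Nonempty X := ⟨b⟩
    have := faithful_ofStabilizer (G := G) a
    have : Fintype (SubMulAction.ofStabilizer G a) := Fintype.ofFinite _
    have hcard : Fintype.card (SubMulAction.ofStabilizer G a) + 1 = Fintype.card X := by
      rw [← Nat.card_eq_fintype_card, ← Nat.card_eq_fintype_card, SubMulAction.nat_card_ofStabilizer_add_one_eq]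
    have hN' := subgroupOf_stabilizer_ne_bot hb a
    have h' : IsMultiplyPretransitive (stabilizer G a) (SubMulAction.ofStabilizer G a) (j + 2) :=
      SubMulAction.ofStabilizer.isMultiplyPretransitive.1 h
    rcases ih (stabilizer G a) (SubMulAction.ofStabilizer G a) (by omega) h' (N.subgroupOf (stabilizer G a)) hN' with h1 | ⟨rfl, hab, hsq⟩
    · exact Or.inl (normal_succ_transitive N h1)
    exfalso
    set N' := N.subgroupOf (stabilizer G a)
    have : IsPreprimitive (stabilizer G a) (SubMulAction.ofStabilizer G a) :=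
      isPreprimitive_of_is_two_pretransitive
        (isMultiplyPretransitive_of_le (n := 1 + 2) (by omega) (by rw [Nat.card_eq_fintype_card]; omega))
    have hN't : IsPretransitive N' (SubMulAction.ofStabilizer G a) := transitive_of_normal N' hN'
    have hN'reg : ∀ z : SubMulAction.ofStabilizer G a, stabilizer N' z = ⊥ := fun z => by
      rw [Subgroup.eq_bot_iff_forall]
      intro n hn
      refine Subtype.ext (FaithfulSMul.eq_of_smul_eq_smul (α := SubMulAction.ofStabilizer G a) fun w => ?_)
      obtain ⟨m, rfl⟩ := exists_smul_eq N' z w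
      show n • m • z = (1 : stabilizer G a) • m • z
      rw [← mul_smul, hab.is_comm.comm, mul_smul, mem_stabilizer_iff.1 hn, one_smul]
    have h2N : IsMultiplyPretransitive N X 2 := normal_succ_transitive N (is_one_pretransitive_iff.2 hN't)
    have h2N' : ∀ {u v u' v' : X}, u ≠ v → u' ≠ v' → ∃ n : N, n • u = u' ∧ n • v = v' := is_two_pretransitive_iff.1 h2N
    have hsharp : ∀ (n : N) (x y : X), x ≠ y → n • x = x → n • y = y → n = 1 := by
      intro n x y hxy hx hy
      obtain ⟨c, hc'⟩ := Fintype.exists_ne_of_one_lt_card (show 1 < Fintype.card X by omega) a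
      obtain ⟨m, hm1, hm2⟩ := h2N' hxy (Ne.symm hc')
      have h1 : m * n * m⁻¹ = 1 := stabilizer_eq_bot_of_subgroupOf (hN'reg ⟨c, hc'⟩) _
        (by rw [← hm1, mul_smul, mul_smul, inv_smul_smul, hx])
        (by show (m * n * m⁻¹) • c = c; rw [← hm2, mul_smul, mul_smul, inv_smul_smul, hy])
      rwa [conj_eq_one_iff] at h1
    have hsqN : ∀ n : N, n • a = a → n * n = 1 := fun n hn => by
      have := hsq ⟨n.1, hn⟩ n.2
      rw [sq] at this
      exact Subtype.ext (congrArg Subtype.val this :)
    have := card_le_three_of_sharp hsharp a hsqN fun x y hx hy => by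
      obtain ⟨n, h1, h2⟩ := h2N' (Ne.symm hx) (Ne.symm hy)
      exact ⟨n, h1, h2⟩
    rw [Nat.card_eq_fintype_card] at this
    omega

/-- Jordan's Theorem on normal subgroups of multiply transitive groups: if `G` is `k`-transitive (`k > 1`) of degree greater than `k`, a non-trivial normal subgroup is `(k-1)`-transitive, except possibly for `k = 3` when it may be an elementary abelian 2-group. -/
theorem result {α : Type*} [Fintype α] [DecidableEq α] (G : Subgroup (Equiv.Perm α)) {k : ℕ} (hk : 1 < k) (hdeg : k < Fintype.card α) (hG : MulAction.IsMultiplyPretransitive G α k) (N : Subgroup G) [N.Normal] (hN : N ≠ ⊥) : MulAction.IsMultiplyPretransitive N α (k - 1) ∨ (k = 3 ∧ IsMulCommutative N ∧ ∀ n ∈ N, n ^ 2 = 1) := by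
  obtain ⟨j, rfl⟩ : ∃ j, k = j + 2 := ⟨k - 2, by omega⟩
  rcases jordan j G α hdeg hG N hN with h | ⟨rfl, h1, h2⟩
  · exact Or.inl h
  · exact Or.inr ⟨rfl, h1, h2⟩

end Cfsg.Agent.S0698
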