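import Cfsg.Statements.S0699
import Cfsg.Agent.S0698
import Mathlib.GroupTheory.Sylow
import Mathlib.GroupTheory.Perm.Cycle.Type

set_option autoImplicit false
open Cfsg

namespace Cfsg.Agent.S0699

open MulAction Cfsg.Agent.PermGroups
open scoped Pointwise

/-- Wagner's Theorem: a non-trivial normal subgroup of a triply transitive permutation group of odd degree at least 5 is triply transitive. -/
theorem result {α : Type*} [Fintype α] [DecidableEq α] (G : Subgroup (Equiv.Perm α)) (hodd : Odd (Fintype.card α)) (h5 : 5 ≤ Fintype.card α) (hG : MulAction.IsMultiplyPretransitive G α 3) (N : Subgroup G) [N.Normal] (hN : N ≠ ⊥) : MulAction.IsMultiplyPretransitive N α 3 := by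
  classical
  have : Fact (Nat.Prime 2) := ⟨Nat.prime_two⟩
  have h2N : IsMultiplyPretransitive N α 2 := by
    rcases Cfsg.Agent.S0698.result G (by norm_num : 1 < 3) (by omega) hG N hN with h | ⟨-, hab, hsq⟩
    · exact h
    exfalso
    have h2 : IsMultiplyPretransitive G α 2 :=
      isMultiplyPretransitive_of_le (n := 3) (by omega) (by rw [Nat.card_eq_fintype_card]; omega)
    have : IsPreprimitive G α := isPreprimitive_of_is_two_pretransitive h2
    have : IsPretransitive N α := transitive_of_normal N hN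
    obtain ⟨a⟩ : Nonempty α := Fintype.card_pos_iff.1 (by omega)
    obtain ⟨j, hj⟩ := IsPGroup.iff_card.1 (fun m : N => ⟨1, by rw [pow_one]; exact Subtype.ext (hsq m m.2)⟩ : IsPGroup 2 N)
    have hdvd : Fintype.card α ∣ 2 ^ j := by
      rw [← hj, ← Nat.card_eq_fintype_card, ← index_stabilizer_of_transitive N a]
      exact Subgroup.index_dvd_card _
    obtain ⟨i, -, hi⟩ := (Nat.dvd_prime_pow Nat.prime_two).1 hdvd
    rw [hi] at hodd h5
    rcases Nat.eq_zero_or_pos i with rfl | h0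
    · norm_num at h5
    · exact absurd ((Nat.even_pow' (by omega)).2 even_two) (Nat.not_even_iff_odd.2 hodd)
  have h2N' : ∀ {u v u' v' : α}, u ≠ v → u' ≠ v' → ∃ n : N, n • u = u' ∧ n • v = v' := is_two_pretransitive_iff.1 h2N
  have emb : ∀ (x y z : α), x ≠ y → x ≠ z → y ≠ z → ∃ e : Fin 3 ↪ α, e 0 = x ∧ e 1 = y ∧ e 2 = z := fun x y z h1 h2 h3 =>
    ⟨⟨![x, y, z], fun i j e => by fin_cases i <;> fin_cases j <;> simp_all⟩, rfl, rfl, rfl⟩
  have transG : ∀ {x y z x' y' z' : α}, x ≠ y → x ≠ z → y ≠ z → x' ≠ y' → x' ≠ z' → y' ≠ z' →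
      ∃ g : G, g • x = x' ∧ g • y = y' ∧ g • z = z' := by
    intro x y z x' y' z' h1 h2 h4 h1' h2' h4'
    obtain ⟨e, e0, e1, e2⟩ := emb x y z h1 h2 h4
    obtain ⟨f, f0, f1, f2⟩ := emb x' y' z' h1' h2' h4'
    obtain ⟨g, hg⟩ := hG.exists_smul_eq e f
    exact ⟨g, by rw [← e0, ← f0, ← hg]; rfl, by rw [← e1, ← f1, ← hg]; rfl, by rw [← e2, ← f2, ← hg]; rfl⟩
  -- the claim for one pair of points
  suffices key : ∀ a b c d : α, a ≠ b → c ≠ a → c ≠ b → d ≠ a → d ≠ b → ∃ n : N, n • a = a ∧ n • b = b ∧ n • c = d by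
    refine ⟨fun e f => ?_⟩
    have he : ∀ i j : Fin 3, i ≠ j → e i ≠ e j := fun i j h h' => h (e.injective h')
    have hf : ∀ i j : Fin 3, i ≠ j → f i ≠ f j := fun i j h h' => h (f.injective h')
    obtain ⟨n, hn0, hn1⟩ := h2N' (he 0 1 (by decide)) (hf 0 1 (by decide))
    obtain ⟨m, hm0, hm1, hm2⟩ := key (f 0) (f 1) (n • e 2) (f 2) (hf 0 1 (by decide))
      (fun h => he 2 0 (by decide) (smul_left_cancel n (h.trans hn0.symm)))
      (fun h => he 2 1 (by decide) (smul_left_cancel n (h.trans hn1.symm)))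
      (hf 2 0 (by decide)) (hf 2 1 (by decide))
    refine ⟨m * n, Function.Embedding.ext fun i => ?_⟩
    show (m * n) • e i = f i
    rw [mul_smul]
    fin_cases i
    · show m • n • e 0 = f 0; rw [hn0, hm0]
    · show m • n • e 1 = f 1; rw [hn1, hm1]
    · exact hm2
  intro a b c d hab hca hcb hda hdb
  set D : Subgroup N := stabilizer N a ⊓ stabilizer N b with hD
  have hswap_inv : ∀ w : N, w • a = b → w • b = a → ∀ x, x ≠ a → x ≠ b → w • x ∈ orbit D x := by
    -- an involution swapping `a` and `b`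
    obtain ⟨t, hta, htb⟩ := h2N' hab (Ne.symm hab)
    obtain ⟨s, hs⟩ : ∃ s : N, orderOf s = 2 := by
      refine exists_prime_orderOf_dvd_card' 2 ?_
      by_contra hodd'
      have ht_odd : Odd (orderOf t) := Nat.not_even_iff_odd.1 fun he => hodd' ((even_iff_two_dvd.1 he).trans (orderOf_dvd_natCard t))
      obtain ⟨k, hk⟩ := ht_odd
      have h2k : ∀ i : ℕ, (t ^ (2 * i)) • a = a := fun i => by
        induction i with
        | zero => simp
        | succ i ih => rw [Nat.mul_succ, pow_add, mul_smul, sq, mul_smul, hta, htb, ih]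
      have := pow_orderOf_eq_one t
      rw [hk, pow_succ'] at this
      have h' := congrArg (fun u : N => u • a) this
      simp only [mul_smul, h2k, hta, one_smul] at h'
      exact hab h'.symm
    obtain ⟨x0, hx0⟩ : ∃ x, s • x ≠ x := by
      by_contra! hc
      have : s = 1 := Subtype.ext (Subtype.ext (Equiv.ext hc))
      rw [this, orderOf_one] at hs; norm_num at hs
    have hss : ∀ x : α, s • s • x = x := fun x => by rw [← mul_smul, ← sq, ← hs, pow_orderOf_eq_one, one_smul]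
    obtain ⟨u, hu1, hu2⟩ := h2N' (Ne.symm hx0) hab
    set w0 := u * s * u⁻¹
    have hw0a : w0 • a = b := by rw [mul_smul, mul_smul, ← hu1, inv_smul_smul, hu2]
    have hw0b : w0 • b = a := by rw [mul_smul, mul_smul, ← hu2, inv_smul_smul, hss, hu1]
    have hw0o : orderOf w0 = 2 := by rw [← hs]; exact MulEquiv.orderOf_eq (MulAut.conj u) s
    obtain ⟨e, he⟩ : ∃ e, w0 • e = e := by
      by_contra! hc
      have hP : IsPGroup 2 (Subgroup.zpowers w0) := IsPGroup.of_card (n := 1) (by rw [Nat.card_zpowers, hw0o]; rfl)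
      obtain ⟨z, hz⟩ := hP.nonempty_fixed_point_of_prime_not_dvd_card α (by
        rw [Nat.card_eq_fintype_card]; exact fun h => Nat.not_even_iff_odd.2 hodd (even_iff_two_dvd.2 h))
      exact hc z (hz ⟨w0, Subgroup.mem_zpowers w0⟩)
    have hea : e ≠ a := fun h => hab (by rw [← h, ← he, h, hw0a])
    have heb : e ≠ b := fun h => hab (by rw [← h, ← he, h, hw0b])
    intro w hwa hwb x hxa hxb
    obtain ⟨g, hga, hgb, hge⟩ := transG hab (Ne.symm hea) (Ne.symm heb) hab (Ne.symm hxa) (Ne.symm hxb)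
    set w' : N := MulAut.conjNormal g w0
    have hw' : ∀ y : α, w' • g • y = g • w0 • y := fun y => by
      show ((MulAut.conjNormal g w0 : N) : G) • g • y = g • (w0 : G) • y
      rw [MulAut.conjNormal_apply, mul_smul, mul_smul, inv_smul_smul]
    have h1 : w' • a = b := by have := hw' a; rwa [hga, hw0a, hgb] at this
    have h2 : w' • b = a := by have := hw' b; rwa [hgb, hw0b, hga] at this
    have h3 : w' • x = x := by have := hw' e; rwa [hge, he, hge] at this
    refine mem_orbit_iff.2 ⟨⟨w * w'⁻¹, ?_, ?_⟩, ?_⟩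
    · show (w * w'⁻¹) • a = a; rw [mul_smul, inv_smul_eq_iff.2 h2.symm, hwb]
    · show (w * w'⁻¹) • b = b; rw [mul_smul, inv_smul_eq_iff.2 h1.symm, hwa]
    · show (w * w'⁻¹) • x = w • x; rw [mul_smul, inv_smul_eq_iff.2 h3.symm]
  -- all orbits of D on the rest have the same, odd, length
  set R := (Finset.univ.filter fun x : α => x ≠ a ∧ x ≠ b)
  have hRodd : Odd R.card := by
    have : R = Finset.univ \ {a, b} := by ext x; simp [R]
    rw [this, Finset.card_sdiff_of_subset (Finset.subset_univ _), Finset.card_univ, Finset.card_pair hab]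
    rw [Nat.odd_iff] at hodd ⊢; omega
  have horb : ∀ x y : α, x ≠ a → x ≠ b → y ≠ a → y ≠ b → Nat.card (orbit D x) = Nat.card (orbit D y) := by
    intro x y hxa hxb hya hyb
    obtain ⟨g, hga, hgb, hgx⟩ := transG hab (Ne.symm hxa) (Ne.symm hxb) hab (Ne.symm hya) (Ne.symm hyb)
    have hconj : ∀ (g : G), g • a = a → g • b = b → ∀ n : D, (MulAut.conjNormal g n.1 : N) ∈ D := by
      intro g ha hb n
      constructor
      · show ((MulAut.conjNormal g n.1 : N) : G) • a = a
        rw [MulAut.conjNormal_apply, mul_smul, mul_smul, inv_smul_eq_iff.2 ha.symm]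
        conv_lhs => rw [show ((n.1 : N) : G) • a = a from n.2.1]
        exact ha
      · show ((MulAut.conjNormal g n.1 : N) : G) • b = b
        rw [MulAut.conjNormal_apply, mul_smul, mul_smul, inv_smul_eq_iff.2 hb.symm]
        conv_lhs => rw [show ((n.1 : N) : G) • b = b from n.2.2]
        exact hb
    have hle : ∀ (g : G) (x : α), g • a = a → g • b = b → ∀ z ∈ orbit D x, g • z ∈ orbit D (g • x) := by
      intro g x ha hb z hz
      obtain ⟨n, rfl⟩ := mem_orbit_iff.1 hz
      refine mem_orbit_iff.2 ⟨⟨_, hconj g ha hb n⟩, ?_⟩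
      show ((MulAut.conjNormal g n.1 : N) : G) • g • x = g • ((n.1 : N) : G) • x
      rw [MulAut.conjNormal_apply, mul_smul, mul_smul, inv_smul_smul]
    rw [← hgx]
    exact Nat.card_congr
      { toFun := fun z => ⟨g • z.1, hle g x hga hgb z.1 z.2⟩
        invFun := fun z => ⟨g⁻¹ • z.1, by
          have := hle g⁻¹ (g • x) (inv_smul_eq_iff.2 hga.symm) (inv_smul_eq_iff.2 hgb.symm) z.1 z.2
          rwa [inv_smul_smul] at this⟩
        left_inv := fun z => Subtype.ext (inv_smul_smul g z.1)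
        right_inv := fun z => Subtype.ext (smul_inv_smul g z.1) }
  have hinvR : ∀ (n : D) x, x ∈ R → n • x ∈ R := fun n x hx => by
    simp only [R, Finset.mem_filter, Finset.mem_univ, true_and] at hx ⊢
    exact ⟨fun e => hx.1 (smul_left_cancel n (e.trans n.2.1.symm)), fun e => hx.2 (smul_left_cancel n (e.trans n.2.2.symm))⟩
  have hodd_orb : ∀ x, x ≠ a → x ≠ b → Odd (Nat.card (orbit D x)) := by
    intro x hxa hxb
    refine hRodd.of_dvd_nat ?_
    let act : MulAction D R :=
      { smul := fun n z => ⟨n • z.1, hinvR n z.1 z.2⟩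
        one_smul := fun z => Subtype.ext (one_smul D z.1)
        mul_smul := fun n m z => Subtype.ext (mul_smul n m z.1) }
    have : Fintype (orbitRel.Quotient D R) := Fintype.ofFinite _
    rw [← Nat.card_eq_finsetCard R, Nat.card_congr (selfEquivSigmaOrbits D R), Nat.card_sigma]
    refine Finset.dvd_sum fun ω _ => dvd_of_eq ?_
    set z := ω.out
    have hz := (Finset.mem_filter.1 z.2).2
    rw [horb x z.1 hxa hxb hz.1 hz.2]
    exact (Nat.card_congr
      { toFun := fun w => ⟨w.1.1, by obtain ⟨n, hn⟩ := w.2; exact ⟨n, congrArg Subtype.val hn⟩⟩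
        invFun := fun w => ⟨⟨w.1, by obtain ⟨n, hn⟩ := w.2; exact hn ▸ hinvR n z.1 z.2⟩,
          by obtain ⟨n, hn⟩ := w.2; exact ⟨n, Subtype.ext hn⟩⟩
        left_inv := fun w => rfl
        right_inv := fun w => rfl }).symm
  -- a Sylow 2-subgroup of D and a swap normalising it
  obtain ⟨T⟩ : Nonempty (Sylow 2 D) := inferInstance
  set T' : Subgroup N := (T : Subgroup D).map D.subtype
  obtain ⟨w1, hw1a, hw1b⟩ := h2N' hab (Ne.symm hab)
  have hw1D : ∀ n ∈ D, w1 * n * w1⁻¹ ∈ D := fun n hn => by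
    constructor
    · show (w1 * n * w1⁻¹) • a = a
      rw [mul_smul, mul_smul, inv_smul_eq_iff.2 hw1b.symm, mem_stabilizer_iff.1 hn.2, hw1b]
    · show (w1 * n * w1⁻¹) • b = b
      rw [mul_smul, mul_smul, inv_smul_eq_iff.2 hw1a.symm, mem_stabilizer_iff.1 hn.1, hw1a]
  obtain ⟨w2, hw2a, hw2b, hw2T⟩ : ∃ w : N, w • a = b ∧ w • b = a ∧ ∀ n ∈ T', w * n * w⁻¹ ∈ T' := by
    let T1 : Subgroup D := (T'.map (MulAut.conj w1).toMonoidHom).subgroupOf D
    have hT1le : T'.map (MulAut.conj w1).toMonoidHom ≤ D := by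
      rintro _ ⟨_, ⟨n, hn, rfl⟩, rfl⟩
      exact hw1D _ n.2
    have hT1c : Nat.card T1 = 2 ^ (Nat.card D).factorization 2 := by
      rw [Nat.card_congr (Subgroup.subgroupOfEquivOfLe hT1le).toEquiv, ← T.card_eq_multiplicity,
        ← Nat.card_congr (T'.equivMapOfInjective (MulAut.conj w1).toMonoidHom (MulAut.conj w1).injective).toEquiv]
      exact (Nat.card_congr ((T : Subgroup D).equivMapOfInjective _ D.subtype_injective).toEquiv).symm
    obtain ⟨k, hk⟩ := MulAction.exists_smul_eq D (Sylow.ofCard T1 hT1c) T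
    refine ⟨(k : N) * w1, by rw [mul_smul, hw1a, mem_stabilizer_iff.1 k.2.2], by rw [mul_smul, hw1b, mem_stabilizer_iff.1 k.2.1],
      fun n hn => ?_⟩
    have hm : (⟨w1 * n * w1⁻¹, hT1le ⟨n, hn, rfl⟩⟩ : D) ∈ T1 := ⟨n, hn, rfl⟩
    have h1 : k * ⟨w1 * n * w1⁻¹, hT1le ⟨n, hn, rfl⟩⟩ * k⁻¹ ∈ (T : Subgroup D) := by
      rw [← hk, Sylow.coe_subgroup_smul]
      exact Subgroup.smul_mem_pointwise_smul _ (MulAut.conj k) _ hm
    refine ⟨_, h1, ?_⟩
    show (k : N) * (w1 * n * w1⁻¹) * (k : N)⁻¹ = (k : N) * w1 * n * ((k : N) * w1)⁻¹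
    group
  obtain ⟨e, m, hm, hwm⟩ : ∃ e m : ℕ, ¬ 2 ∣ m ∧ orderOf w2 = 2 ^ e * m :=
    Nat.exists_eq_pow_mul_and_not_dvd (orderOf_pos w2).ne' 2 (by norm_num)
  set w := w2 ^ m
  have hwT : w ∈ Subgroup.normalizer (T' : Set N) := by
    refine pow_mem ?_ m
    rw [Subgroup.mem_normalizer_iff]
    intro n
    refine ⟨hw2T n, fun hn => ?_⟩
    have hsurj : T'.map (MulAut.conj w2).toMonoidHom = T' :=
      Subgroup.eq_of_le_of_card_ge (by rintro _ ⟨y, hy, rfl⟩; exact hw2T y hy)
        (le_of_eq (Nat.card_congr ((MulAut.conj w2).subgroupMap T').toEquiv))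
    rw [← hsurj] at hn
    obtain ⟨y, hy, hyn⟩ := hn
    exact (MulAut.conj w2).injective hyn ▸ hy
  have hwab : w • a = b ∧ w • b = a := by
    obtain ⟨i, hi⟩ : Odd m := Nat.not_even_iff_odd.1 (fun h => hm (even_iff_two_dvd.1 h))
    show (w2 ^ m) • a = b ∧ (w2 ^ m) • b = a
    rw [hi]
    have h2i : ∀ x, (x = a ∨ x = b) → (w2 ^ (2 * i)) • x = x := by
      intro x hx
      clear hi
      induction i with
      | zero => simp
      | succ i ih =>
        rcases hx with rfl | rfl
        · rw [Nat.mul_succ, pow_add, mul_smul, sq, mul_smul, hw2a, hw2b, ih]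
        · rw [Nat.mul_succ, pow_add, mul_smul, sq, mul_smul, hw2b, hw2a, ih]
    constructor
    · show (w2 ^ (2 * i + 1)) • a = b
      rw [pow_succ, mul_smul, hw2a, h2i b (Or.inr rfl)]
    · show (w2 ^ (2 * i + 1)) • b = a
      rw [pow_succ, mul_smul, hw2b, h2i a (Or.inl rfl)]
  set Q := T' ⊔ Subgroup.zpowers w
  have hQp : IsPGroup 2 Q := by
    refine IsPGroup.to_sup_of_normal_left' (T.isPGroup'.map _) ?_ ?_
    · refine IsPGroup.of_card (n := e) ?_
      rw [Nat.card_zpowers, orderOf_pow, hwm, Nat.gcd_mul_left_left, Nat.mul_div_cancel _ (Nat.pos_of_ne_zero fun h => hm (by rw [h]; exact dvd_zero 2))]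
    · exact Subgroup.zpowers_le.2 hwT
  -- `Q` fixes a point in every orbit
  have hfix : ∀ x, x ≠ a → x ≠ b → ∃ z ∈ orbit D x, ∀ q ∈ Q, q • z = z := by
    intro x hxa hxb
    have hinv : ∀ q : Q, ∀ z ∈ orbit D x, (q : N) • z ∈ orbit D x := by
      have hQle : Q ≤ stabilizer N (orbit D x) := by
        refine sup_le ?_ (Subgroup.zpowers_le.2 ?_)
        · rintro _ ⟨n, -, rfl⟩
          exact mem_stabilizer_iff.2 (smul_orbit n x)
        · have hsub : ∀ z ∈ orbit D x, w • z ∈ orbit D x := fun z hz => by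
            have hza : z ≠ a ∧ z ≠ b := by
              obtain ⟨n, rfl⟩ := mem_orbit_iff.1 hz
              exact (Finset.mem_filter.1 (hinvR n x (Finset.mem_filter.2 ⟨Finset.mem_univ _, hxa, hxb⟩))).2
            rw [← orbit_eq_iff.2 hz]
            exact hswap_inv w hwab.1 hwab.2 z hza.1 hza.2
          rw [mem_stabilizer_iff]
          refine Set.eq_of_subset_of_ncard_le ?_ (by rw [Set.ncard_smul_set]) (Set.toFinite _)
          rintro _ ⟨z, hz, rfl⟩
          exact hsub z hz
      intro q z hz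
      rw [← mem_stabilizer_iff.1 (hQle q.2)]
      exact Set.smul_mem_smul_set hz
    let act : MulAction Q (orbit D x) :=
      { smul := fun q z => ⟨(q : N) • z.1, hinv q z.1 z.2⟩
        one_smul := fun z => Subtype.ext (one_smul N z.1)
        mul_smul := fun q r z => Subtype.ext (mul_smul (q : N) (r : N) z.1) }
    obtain ⟨z, hz⟩ := hQp.nonempty_fixed_point_of_prime_not_dvd_card (orbit D x)
      (fun h => Nat.not_even_iff_odd.2 (hodd_orb x hxa hxb) (even_iff_two_dvd.2 h))
    exact ⟨z.1, z.2, fun q hq => congrArg Subtype.val (hz ⟨q, hq⟩)⟩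
  obtain ⟨z, hz, hzQ⟩ := hfix c hca hcb
  obtain ⟨z', hz', hzQ'⟩ := hfix d hda hdb
  suffices hzz : z = z' by
    obtain ⟨n, hn⟩ := mem_orbit_iff.1 hz
    obtain ⟨n', hn'⟩ := mem_orbit_iff.1 hz'
    refine ⟨((n'⁻¹ * n : D) : N), (n'⁻¹ * n : D).2.1, (n'⁻¹ * n : D).2.2, ?_⟩
    show (n'⁻¹ * n : D) • c = d
    rw [mul_smul, hn, hzz, ← hn', inv_smul_smul]
  by_contra hne
  obtain ⟨u, hu1, hu2⟩ := h2N' hne hab
  have hQD : Q.map (MulAut.conj u).toMonoidHom ≤ D := by
    rintro _ ⟨q, hq, rfl⟩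
    constructor
    · show (u * q * u⁻¹) • a = a
      rw [mul_smul, mul_smul, inv_smul_eq_iff.2 hu1.symm, hzQ q hq, hu1]
    · show (u * q * u⁻¹) • b = b
      rw [mul_smul, mul_smul, inv_smul_eq_iff.2 hu2.symm, hzQ' q hq, hu2]
  have hQ'p : IsPGroup 2 ((Q.map (MulAut.conj u).toMonoidHom).subgroupOf D) :=
    (hQp.map _).comap_of_injective _ D.subtype_injective
  have h1 : Nat.card ((Q.map (MulAut.conj u).toMonoidHom).subgroupOf D) ∣ Nat.card T := by
    obtain ⟨j, hj⟩ := IsPGroup.iff_card.1 hQ'p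
    rw [hj, T.card_eq_multiplicity]
    exact Nat.pow_dvd_pow _ ((Nat.prime_two.pow_dvd_iff_le_factorization Nat.card_pos.ne').1 (hj ▸ Subgroup.card_subgroup_dvd_card _))
  rw [Nat.card_congr (Subgroup.subgroupOfEquivOfLe hQD).toEquiv, ← Nat.card_congr (Q.equivMapOfInjective (MulAut.conj u).toMonoidHom (MulAut.conj u).injective).toEquiv] at h1
  have hTc : Nat.card T' = Nat.card T := (Nat.card_congr ((T : Subgroup D).equivMapOfInjective _ D.subtype_injective).toEquiv).symm
  have heq : T' = Q := Subgroup.eq_of_le_of_card_ge le_sup_left (hTc ▸ Nat.le_of_dvd Nat.card_pos h1)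
  have hwmem : w ∈ T' := by rw [heq]; exact Subgroup.mem_sup_right (Subgroup.mem_zpowers w)
  obtain ⟨n, -, hn⟩ := hwmem
  have : w • a = a := by rw [← hn]; exact n.2.1
  exact hab (this.symm.trans hwab.1)

end Cfsg.Agent.S0699
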