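import Cfsg.Statements.S0704
import Cfsg.Agent.S0701

set_option autoImplicit false
open Cfsg

namespace Cfsg.Agent.S0704

/-- image in the symmetric group -/
lemma map_pretrans {α : Type*} (G : Subgroup (Equiv.Perm α)) (M : Subgroup G) (h : MulAction.IsPretransitive M α) :
    MulAction.IsPretransitive (M.map G.subtype : Subgroup (Equiv.Perm α)) α := ⟨fun x y => by
  obtain ⟨m, hm⟩ := h.exists_smul_eq x y
  exact ⟨⟨m.1.1, Subgroup.mem_map_of_mem _ m.2⟩, hm⟩⟩

/-- two commuting transitive groups: regular and mutual centralisers -/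
lemma half {α : Type*} [Nonempty α] (G : Subgroup (Equiv.Perm α)) (M N : Subgroup G)
    (hc : ∀ m ∈ M, ∀ n ∈ N, m * n = n * m) (hMt : MulAction.IsPretransitive M α) (hNt : MulAction.IsPretransitive N α) :
    (∀ a : α, MulAction.stabilizer M a = ⊥) ∧
      Subgroup.centralizer ((M.map G.subtype : Subgroup (Equiv.Perm α)) : Set (Equiv.Perm α)) = N.map G.subtype := by
  have := map_pretrans G M hMt
  obtain ⟨hsemi, hiff⟩ := Cfsg.Agent.S0701.result (M.map G.subtype)
  have hle : N.map G.subtype ≤ Subgroup.centralizer ((M.map G.subtype : Subgroup (Equiv.Perm α)) : Set (Equiv.Perm α)) := by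
    rintro _ ⟨n, hn, rfl⟩
    rw [Subgroup.mem_centralizer_iff]
    rintro _ ⟨m, hm, rfl⟩
    exact congrArg Subtype.val (hc m hm n hn)
  have htr : MulAction.IsPretransitive
      (Subgroup.centralizer ((M.map G.subtype : Subgroup (Equiv.Perm α)) : Set (Equiv.Perm α))) α := ⟨fun x y => by
    obtain ⟨n, hn⟩ := hNt.exists_smul_eq x y
    exact ⟨⟨n.1.1, hle (Subgroup.mem_map_of_mem _ n.2)⟩, hn⟩⟩
  refine ⟨fun a => ?_, le_antisymm (fun c hcc => ?_) hle⟩
  · rw [eq_bot_iff]
    intro m hm
    have hmem : (⟨m.1.1, Subgroup.mem_map_of_mem G.subtype m.2⟩ : (M.map G.subtype : Subgroup (Equiv.Perm α))) ∈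
        MulAction.stabilizer (M.map G.subtype : Subgroup (Equiv.Perm α)) a := hm
    rw [hiff.1 htr a, Subgroup.mem_bot] at hmem
    exact Subgroup.mem_bot.2 (Subtype.ext (Subtype.ext (congrArg (fun t : (M.map G.subtype : Subgroup (Equiv.Perm α)) => (t : Equiv.Perm α)) hmem)))
  · obtain ⟨a⟩ := ‹Nonempty α›
    obtain ⟨n, hn⟩ := hNt.exists_smul_eq a (c a)
    have hn' : ((n : G) : Equiv.Perm α) a = c a := hn
    have hfix : (((n : G) : Equiv.Perm α)⁻¹ * c) a = a := by
      rw [Equiv.Perm.mul_apply, ← hn']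
      exact ((n : G) : Equiv.Perm α).symm_apply_apply a
    have h := hsemi _ (mul_mem (inv_mem (hle (Subgroup.mem_map_of_mem _ n.2))) hcc) a hfix
    rw [inv_mul_eq_one] at h
    exact h ▸ Subgroup.mem_map_of_mem _ n.2

/-- Two distinct transitive minimal normal subgroups `M`, `N` of a permutation group are regular, non-abelian, isomorphic, each other's centraliser in the symmetric group, and the only minimal normal subgroups. -/
theorem result {α : Type*} (G : Subgroup (Equiv.Perm α)) (M N : Subgroup G) [M.Normal] [N.Normal] (hM : M ≠ ⊥) (hN : N ≠ ⊥) (hMmin : ∀ L : Subgroup G, L.Normal → L ≤ M → L = ⊥ ∨ L = M) (hNmin : ∀ L : Subgroup G, L.Normal → L ≤ N → L = ⊥ ∨ L = N) (hMN : M ≠ N) (hMt : MulAction.IsPretransitive M α) (hNt : MulAction.IsPretransitive N α) : (∀ a : α, MulAction.stabilizer M a = ⊥) ∧ (∀ a : α, MulAction.stabilizer N a = ⊥) ∧ ¬ IsMulCommutative M ∧ Nonempty (M ≃* N) ∧ Subgroup.centralizer ((M.map G.subtype : Subgroup (Equiv.Perm α)) : Set (Equiv.Perm α))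 = N.map G.subtype ∧ Subgroup.centralizer ((N.map G.subtype : Subgroup (Equiv.Perm α)) : Set (Equiv.Perm α)) = M.map G.subtype ∧ ∀ L : Subgroup G, L.Normal → L ≠ ⊥ → (∀ L' : Subgroup G, L'.Normal → L' ≤ L → L' = ⊥ ∨ L' = L) → L = M ∨ L = N := by
  have hdisj : Disjoint M N := by
    rw [disjoint_iff]
    rcases hMmin (M ⊓ N) inferInstance inf_le_left with h | h
    · exact h
    · rcases hNmin M inferInstance (inf_eq_left.1 h) with h' | h'
      · exact absurd h' hM
      · exact absurd h' hMN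
  have hc : ∀ m ∈ M, ∀ n ∈ N, m * n = n * m := fun m hm n hn =>
    (Subgroup.commute_of_normal_of_disjoint M N inferInstance inferInstance hdisj m n hm hn).eq
  obtain ⟨a⟩ : Nonempty α := by
    by_contra hne
    rw [not_nonempty_iff] at hne
    exact hM ((Subgroup.eq_bot_iff_forall _).2 fun x _ => Subsingleton.elim _ _)
  have : Nonempty α := ⟨a⟩
  obtain ⟨hMreg, hMC⟩ := half G M N hc hMt hNt
  obtain ⟨hNreg, hNC⟩ := half G N M (fun n hn m hm => (hc m hm n hn).symm) hNt hMt
  have hinj : Subgroup.map G.subtype M = Subgroup.map G.subtype N → False := fun e =>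
    hMN (Subgroup.map_injective G.subtype_injective e)
  refine ⟨hMreg, hNreg, fun hab => ?_, ?_, hMC, hNC, fun L hL hLne hLmin => ?_⟩
  · obtain ⟨hMreg', hMC'⟩ := half G M M (fun x hx y hy => congrArg Subtype.val (hab.is_comm.comm (⟨x, hx⟩ : M) ⟨y, hy⟩)) hMt hMt
    exact hinj (hMC'.symm.trans hMC)
  · have inj : ∀ {K : Subgroup G}, (∀ b : α, MulAction.stabilizer K b = ⊥) → ∀ x y : K, x • a = y • a → x = y := by
      intro K hK x y hxy
      have : y⁻¹ * x ∈ MulAction.stabilizer K a := by rw [MulAction.mem_stabilizer_iff, mul_smul, hxy, inv_smul_smul]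
      rw [hK a, Subgroup.mem_bot, inv_mul_eq_one] at this
      exact this.symm
    let φ : M →* N := MonoidHom.mk' (fun m => (hNt.exists_smul_eq a (m⁻¹ • a)).choose) fun m k => by
      set n1 := (hNt.exists_smul_eq a (m⁻¹ • a)).choose
      set n2 := (hNt.exists_smul_eq a (k⁻¹ • a)).choose
      have h1 : n1 • a = m⁻¹ • a := (hNt.exists_smul_eq a (m⁻¹ • a)).choose_spec
      have h2 : n2 • a = k⁻¹ • a := (hNt.exists_smul_eq a (k⁻¹ • a)).choose_spec
      refine inj hNreg _ _ ((hNt.exists_smul_eq a ((m * k)⁻¹ • a)).choose_spec.trans ?_)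
      rw [mul_inv_rev, mul_smul, ← h1, mul_smul n1 n2, h2]
      show ((k⁻¹ : M) : G) • (n1 : G) • a = (n1 : G) • ((k⁻¹ : M) : G) • a
      rw [← mul_smul, ← mul_smul, hc _ (k⁻¹ : M).2 _ n1.2]
    refine ⟨MulEquiv.ofBijective φ ⟨fun m k h => ?_, fun n => ?_⟩⟩
    · have h1 := (hNt.exists_smul_eq a (m⁻¹ • a)).choose_spec
      have h2 := (hNt.exists_smul_eq a (k⁻¹ • a)).choose_spec
      have h' : φ m • a = φ k • a := by rw [h]
      exact inv_injective (inj hMreg _ _ (h1.symm.trans (h'.trans h2)))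
    · obtain ⟨m, hm⟩ := hMt.exists_smul_eq (n • a) a
      refine ⟨m, inj hNreg _ _ ((hNt.exists_smul_eq a (m⁻¹ • a)).choose_spec.trans ?_)⟩
      rw [inv_smul_eq_iff]
      exact hm.symm
  · rcases hLmin (L ⊓ M) inferInstance inf_le_left with h | h
    · right
      have hLN : L ≤ N := fun x hx => by
        have hxc : (x : Equiv.Perm α) ∈
            Subgroup.centralizer ((M.map G.subtype : Subgroup (Equiv.Perm α)) : Set (Equiv.Perm α)) := by
          rw [Subgroup.mem_centralizer_iff]
          rintro _ ⟨y, hy, rfl⟩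
          exact congrArg Subtype.val (Subgroup.commute_of_normal_of_disjoint L M hL inferInstance (disjoint_iff.2 h) x y hx hy).symm.eq
        rw [hMC] at hxc
        obtain ⟨y, hy, hyx⟩ := hxc
        exact Subtype.ext hyx ▸ hy
      exact (hNmin L hL hLN).resolve_left hLne
    · left
      exact (hMmin L hL (inf_eq_left.1 h)).resolve_left hLne

end Cfsg.Agent.S0704
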