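import Cfsg.Statements.S0700
import Cfsg.Agent.PermGroups.Frobenius
import Cfsg.Agent.Core.MinimalNormal
import Cfsg.Agent.S0704
import Mathlib.GroupTheory.Perm.Cycle.Type
import Mathlib.GroupTheory.Nilpotent

set_option autoImplicit false
open Cfsg

namespace Cfsg.Agent.S0700

open MulAction Cfsg.Agent.PermGroups
open scoped Pointwise

/-- normal subgroups of 2-transitive groups with a non-trivial block: two point stabilisers are trivial -/
lemma sharp_of_block {G : Type*} [Group G] [Finite G] {X : Type*} [Finite X] [MulAction G X] [FaithfulSMul G X]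
    (h2 : IsMultiplyPretransitive G X 2) (N : Subgroup G) [N.Normal] [IsPretransitive N X]
    {B : Set X} (hB : IsBlock N B) (hB1 : ¬ B.Subsingleton) (hB2 : B ≠ Set.univ) :
    ∀ (n : N) (x y : X), x ≠ y → n • x = x → n • y = y → n = 1 := by
  classical
  have h2' : ∀ {a b c d : X}, a ≠ b → c ≠ d → ∃ g : G, g • a = c ∧ g • b = d := is_two_pretransitive_iff.1 h2
  let S : X → X → Subgroup N := fun x y => stabilizer N x ⊓ stabilizer N y
  have hS : ∀ x y u v : X, x ≠ y → u ≠ v → Nat.card (S x y) = Nat.card (S u v) := by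
    intro x y u v hxy huv
    obtain ⟨g, hgx, hgy⟩ := h2' hxy huv
    have e : (MulAut.conjNormal g : N ≃* N) = MulAut.conjNormal g := rfl
    have hmap : (S x y).map (MulAut.conjNormal g : N ≃* N).toMonoidHom = S u v := by
      ext n
      have key : ∀ w : X, n • (g • w) = g • w ↔ ((MulAut.conjNormal g : N ≃* N).symm n) • w = w := fun w => by
        show (n : G) • g • w = g • w ↔ (((MulAut.conjNormal g : N ≃* N).symm n : N) : G) • w = w
        rw [MulAut.conjNormal_symm_apply, mul_smul, mul_smul, inv_smul_eq_iff]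
      rw [Subgroup.mem_map_equiv]
      simp only [S, Subgroup.mem_inf, mem_stabilizer_iff, ← hgx, ← hgy, key]
    rw [← hmap]
    exact Nat.card_congr ((MulAut.conjNormal g : N ≃* N).subgroupMap (S x y)).toEquiv
  obtain ⟨a, ha, b, hb, hab⟩ := Set.not_subsingleton_iff.1 hB1
  set q := Nat.card (S a b) with hq
  have hq' : ∀ x y : X, x ≠ y → Nat.card (S x y) = q := fun x y h => hS x y a b h hab
  have horb : ∀ x y : X, x ≠ y → Nat.card (orbit (stabilizer N x) y) * q = Nat.card (stabilizer N x) := by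
    intro x y hxy
    rw [← hq' x y hxy, Nat.card_coe_set_eq, ← index_stabilizer]
    rw [show Nat.card (S x y) = Nat.card (stabilizer (stabilizer N x) y) from Nat.card_congr
      { toFun := fun n => ⟨⟨n.1, n.2.1⟩, n.2.2⟩, invFun := fun n => ⟨n.1.1, n.1.2, n.2⟩,
        left_inv := fun _ => rfl, right_inv := fun _ => rfl }]
    exact (stabilizer (stabilizer N x) y).index_mul_card
  have hqpos : 0 < q := Nat.card_pos
  set r := Nat.card (orbit (stabilizer N a) b) with hr
  have hh : ∀ x : X, Nat.card (stabilizer N x) = Nat.card (stabilizer N a) := fun x => by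
    obtain ⟨n, hn⟩ := exists_smul_eq N a x
    rw [← hn, stabilizer_smul_eq_stabilizer_map_conj n a]
    exact (Nat.card_congr ((MulAut.conj n).subgroupMap (stabilizer N a)).toEquiv).symm
  have hstabB : ∀ x ∈ B, ∀ n : N, n • x ∈ B → ∀ z, z ∈ B → n • z ∈ B := fun x hx n hnx z hz => by
    have := isBlock_iff_smul_eq_of_nonempty.1 hB (g := n) ⟨n • x, ⟨x, hx, rfl⟩, hnx⟩
    exact this ▸ Set.smul_mem_smul_set hz
  -- `r` divides `|B| - 1`
  have hrB : r ∣ (B.toFinite.toFinset.erase a).card := by
    have hinv : ∀ (n : stabilizer N a) z, z ∈ B.toFinite.toFinset.erase a → n • z ∈ B.toFinite.toFinset.erase a := by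
      intro n z hz
      simp only [Finset.mem_erase, Set.Finite.mem_toFinset] at hz ⊢
      refine ⟨fun e => hz.1 (smul_left_cancel n (e.trans n.2.symm)), hstabB a ha n.1 ?_ z hz.2⟩
      rw [mem_stabilizer_iff.1 n.2]; exact ha
    let act : MulAction (stabilizer N a) ↥(B.toFinite.toFinset.erase a) :=
      { smul := fun n z => ⟨n • z.1, hinv n z.1 z.2⟩
        one_smul := fun z => Subtype.ext (one_smul (stabilizer N a) z.1)
        mul_smul := fun n m z => Subtype.ext (mul_smul n m z.1) }
    rw [← Nat.card_eq_finsetCard, Nat.card_congr (selfEquivSigmaOrbits (stabilizer N a) ↥(B.toFinite.toFinset.erase a)),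
      Nat.card_sigma]
    refine Finset.dvd_sum fun ω _ => dvd_of_eq ?_
    set z := ω.out
    have hz := z.2
    simp only [Finset.mem_erase, Set.Finite.mem_toFinset] at hz
    have h1 := horb a z.1 (Ne.symm hz.1)
    have h2 := horb a b hab
    rw [hr, Nat.eq_of_mul_eq_mul_right hqpos (h2.trans h1.symm)]
    exact (Nat.card_congr
      { toFun := fun w => ⟨w.1.1, by obtain ⟨n, hn⟩ := w.2; exact ⟨n, congrArg Subtype.val hn⟩⟩
        invFun := fun w => ⟨⟨w.1, by obtain ⟨n, hn⟩ := w.2; exact hn ▸ hinv n z.1 z.2⟩,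
          by obtain ⟨n, hn⟩ := w.2; exact ⟨n, Subtype.ext hn⟩⟩
        left_inv := fun w => rfl
        right_inv := fun w => rfl }).symm
  have hcop : Nat.Coprime r B.ncard := by
    have : (B.toFinite.toFinset.erase a).card + 1 = B.ncard := by
      rw [Finset.card_erase_add_one (by simpa using ha), ← Set.ncard_eq_toFinset_card]
    rw [← this]
    obtain ⟨k, hk⟩ := hrB
    rw [hk, Nat.coprime_comm, Nat.coprime_iff_gcd_eq_one]
    simp
  -- a point outside `B` has the same stabiliser
  have key : ∀ c, c ∉ B → ∀ x ∈ B, ∀ y ∈ B, S x c ≤ stabilizer N y := by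
    intro c hc x hx y hy
    set L := stabilizer N B ⊓ stabilizer N c with hL
    have hBmem : ∀ n : N, n ∈ stabilizer N B ↔ ∀ z ∈ B, n • z ∈ B := fun n => by
      constructor
      · intro h z hz; rw [← mem_stabilizer_iff.1 h]; exact Set.smul_mem_smul_set hz
      · intro h
        rw [mem_stabilizer_iff]
        exact isBlock_iff_smul_eq_of_nonempty.1 hB (g := n) ⟨n • a, ⟨a, ha, rfl⟩, h a ha⟩
    have hLorb : ∀ z ∈ B, Nat.card (orbit L z) * q = Nat.card L := fun z hz => by
      have hzc : z ≠ c := fun e => hc (e ▸ hz)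
      rw [← hq' z c hzc, Nat.card_coe_set_eq, ← index_stabilizer]
      rw [show Nat.card (S z c) = Nat.card (stabilizer L z) from Nat.card_congr
        { toFun := fun n => ⟨⟨n.1, (hBmem n.1).2 fun w hw => hstabB z hz n.1 (by rw [mem_stabilizer_iff.1 n.2.1]; exact hz) w hw, n.2.2⟩, n.2.1⟩
          invFun := fun n => ⟨n.1.1, n.2, n.1.2.2⟩
          left_inv := fun _ => rfl, right_inv := fun _ => rfl }]
      exact (stabilizer L z).index_mul_card
    set j := Nat.card (orbit L x)
    have hj : ∀ z ∈ B, Nat.card (orbit L z) = j := fun z hz =>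
      Nat.eq_of_mul_eq_mul_right hqpos ((hLorb z hz).trans (hLorb x hx).symm)
    have hjr : j ∣ r := by
      have h1 : Nat.card L ∣ Nat.card (stabilizer N a) := by
        rw [← hh c]; exact Subgroup.card_dvd_of_le inf_le_right
      rw [← hLorb x hx, ← horb a b hab, ← hr] at h1
      exact Nat.dvd_of_mul_dvd_mul_right hqpos h1
    have hjB : j ∣ B.ncard := by
      have hinv : ∀ (n : L) z, z ∈ B → n • z ∈ B := fun n z hz => (hBmem n.1).1 n.2.1 z hz
      let act : MulAction L B :=
        { smul := fun n z => ⟨n • z.1, hinv n z.1 z.2⟩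
          one_smul := fun z => Subtype.ext (one_smul L z.1)
          mul_smul := fun n m z => Subtype.ext (mul_smul n m z.1) }
      have : Fintype (orbitRel.Quotient L B) := Fintype.ofFinite _
      rw [← Nat.card_coe_set_eq, Nat.card_congr (selfEquivSigmaOrbits L B), Nat.card_sigma]
      refine Finset.dvd_sum fun ω _ => dvd_of_eq ?_
      set z := ω.out
      rw [← hj z.1 z.2]
      exact (Nat.card_congr
        { toFun := fun w => ⟨w.1.1, by obtain ⟨n, hn⟩ := w.2; exact ⟨n, congrArg Subtype.val hn⟩⟩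
          invFun := fun w => ⟨⟨w.1, by obtain ⟨n, hn⟩ := w.2; exact hn ▸ hinv n z.1 z.2⟩,
            by obtain ⟨n, hn⟩ := w.2; exact ⟨n, Subtype.ext hn⟩⟩
          left_inv := fun w => rfl
          right_inv := fun w => rfl }).symm
    have hj1 : j = 1 := Nat.dvd_one.1 (hcop ▸ Nat.dvd_gcd hjr hjB)
    intro n hn
    have hnL : n ∈ L := ⟨(hBmem n).2 fun w hw => hstabB x hx n (by rw [mem_stabilizer_iff.1 hn.1]; exact hx) w hw, hn.2⟩
    have : Subsingleton (orbit L y) := (Nat.card_eq_one_iff_unique.1 ((hj y hy).trans hj1)).1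
    exact congrArg Subtype.val (Subsingleton.elim (⟨(⟨n, hnL⟩ : L) • y, mem_orbit y _⟩ : orbit L y) ⟨y, mem_orbit_self y⟩)
  obtain ⟨c₀, hc₀⟩ : ∃ c, c ∉ B := by
    by_contra h
    push Not at h
    exact hB2 (Set.eq_univ_of_forall h)
  have heq : ∀ c, c ∉ B → ∀ y ∈ B, y ≠ a → S a c = S a y := by
    intro c hc y hy hya
    have hac : a ≠ c := fun e => hc (e ▸ ha)
    exact Subgroup.eq_of_le_of_card_ge (le_inf inf_le_left (key c hc a ha y hy)) (by rw [hq' a c hac, hq' a y (Ne.symm hya)])
  have hbot : S a b = ⊥ := by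
    rw [Subgroup.eq_bot_iff_forall]
    intro n hn
    have hall : ∀ z : X, n • z = z := fun z => by
      by_cases hz : z ∈ B
      · rw [← heq c₀ hc₀ b hb (Ne.symm hab)] at hn
        exact key c₀ hc₀ a ha z hz hn
      · rw [← heq z hz b hb (Ne.symm hab)] at hn
        exact hn.2
    exact Subtype.ext (FaithfulSMul.eq_of_smul_eq_smul (α := X) fun z => (hall z).trans (one_smul G z).symm)
  intro n x y hxy hx hy
  have hq1 : q = 1 := by rw [hq, hbot]; exact Subgroup.card_bot
  have : S x y = ⊥ := Subgroup.eq_bot_of_card_eq _ ((hq' x y hxy).trans hq1)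
  have hn : n ∈ S x y := ⟨hx, hy⟩
  rwa [this, Subgroup.mem_bot] at hn

/-- Burnside's Theorem on doubly transitive groups: a minimal normal subgroup of a finite doubly transitive permutation group is elementary abelian and regular, or simple and primitive. -/
theorem result {α : Type*} [Fintype α] [DecidableEq α] (G : Subgroup (Equiv.Perm α)) (hG : MulAction.IsMultiplyPretransitive G α 2) (N : Subgroup G) [N.Normal] (hN : N ≠ ⊥) (hmin : ∀ M : Subgroup G, M.Normal → M ≤ N → M = ⊥ ∨ M = N) : (IsMulCommutative N ∧ (∃ p : ℕ, p.Prime ∧ ∀ n ∈ N, n ^ p = 1) ∧ ∀ a : α, MulAction.stabilizer N a = ⊥) ∨ (IsSimpleGroup N ∧ MulAction.IsPreprimitive N α) := by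
  classical
  have hmn : Cfsg.Agent.Core.IsMinNormal N := ⟨inferInstance, hN, hmin⟩
  have h2' : ∀ {a b c d : α}, a ≠ b → c ≠ d → ∃ g : G, g • a = c ∧ g • b = d := is_two_pretransitive_iff.1 hG
  have : IsPreprimitive G α := isPreprimitive_of_is_two_pretransitive hG
  have hNt : IsPretransitive N α := transitive_of_normal N hN
  obtain ⟨a⟩ : Nonempty α := by
    by_contra hne
    rw [not_nonempty_iff] at hne
    exact hN ((Subgroup.eq_bot_iff_forall _).2 fun x _ => Subsingleton.elim _ _)
  have : Nontrivial N := (Subgroup.nontrivial_iff_ne_bot N).2 hN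
  have finish : ∀ p : ℕ, p.Prime → IsPGroup p N → IsMulCommutative N := fun p hp hP => by
    have : Fact p.Prime := ⟨hp⟩
    have : Group.IsNilpotent N := hP.isNilpotent
    have : Group.IsSolvable N := inferInstance
    exact hmn.isMulCommutative
  have hab_reg : IsMulCommutative N → ∀ x : α, stabilizer N x = ⊥ := fun hab x => by
    rw [Subgroup.eq_bot_iff_forall]
    intro n hn
    refine Subtype.ext (Subtype.ext (Equiv.ext fun y => ?_))
    obtain ⟨m, rfl⟩ := exists_smul_eq N x y
    show n • m • x = m • x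
    rw [← mul_smul, hab.is_comm.comm, mul_smul, mem_stabilizer_iff.1 hn]
  by_cases hreg : ∀ x : α, stabilizer N x = ⊥
  · left
    have hconj : ∀ m k : N, m ≠ 1 → k ≠ 1 → orderOf m = orderOf k := by
      intro m k hm hk
      have hne : ∀ t : N, t ≠ 1 → a ≠ t • a := fun t ht e => ht (smul_inj_of_regular (hreg a) (by rw [one_smul]; exact e.symm))
      obtain ⟨g, hg1, hg2⟩ := h2' (hne m hm) (hne k hk)
      have : (MulAut.conjNormal g m : N) = k := smul_inj_of_regular (hreg a) (by
        show ((MulAut.conjNormal g m : N) : G) • a = k • a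
        rw [MulAut.conjNormal_apply, mul_smul, mul_smul, inv_smul_eq_iff.2 hg1.symm]
        exact hg2)
      rw [← this, MulEquiv.orderOf_eq]
    obtain ⟨p, hp, hpd⟩ := Nat.exists_prime_and_dvd (Finite.one_lt_card (α := N)).ne'
    have : Fact p.Prime := ⟨hp⟩
    obtain ⟨z, hz⟩ := exists_prime_orderOf_dvd_card' p hpd
    have hz1 : z ≠ 1 := fun h => by rw [h, orderOf_one] at hz; exact hp.one_lt.ne hz
    have hexp : ∀ m : N, m ^ p = 1 := fun m => by
      rcases eq_or_ne m 1 with rfl | hm
      · exact one_pow _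
      · rw [← hz, ← hconj m z hm hz1, pow_orderOf_eq_one]
    exact ⟨finish p hp fun m => ⟨1, by rw [pow_one]; exact hexp m⟩, ⟨p, hp, fun n hn => congrArg Subtype.val (hexp ⟨n, hn⟩)⟩, hreg⟩
  right
  push Not at hreg
  obtain ⟨a₀, ha₀⟩ := hreg
  have hprim : IsPreprimitive N α := by
    constructor
    intro B hB
    by_contra hnt
    rw [IsTrivialBlock, not_or] at hnt
    have hsharp := sharp_of_block hG N hB hnt.1 hnt.2
    obtain ⟨K, hK, hmem, hKreg, hKt, hKc⟩ := exists_regular_kernel hsharp a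
    have hn : (K.map N.subtype).Normal := ⟨by
      rintro _ ⟨k, hk, rfl⟩ g
      refine ⟨MulAut.conjNormal g k, (hmem _).2 ?_, by simp⟩
      rcases (hmem k).1 hk with h | h
      · left; rw [h, map_one]
      · right
        intro x hx
        have hx' : ((MulAut.conjNormal g k : N) : G) • x = x := hx
        rw [MulAut.conjNormal_apply, mul_smul, mul_smul] at hx'
        exact h (g⁻¹ • x) (eq_inv_smul_iff.2 hx')⟩
    rcases hmin _ hn (Subgroup.map_subtype_le _) with h | h
    · rw [Subgroup.map_eq_bot_iff_of_injective _ N.subtype_injective] at h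
      obtain ⟨x, y, hxy⟩ : ∃ x y : α, x ≠ y := by
        obtain ⟨u, hu, v, hv, huv⟩ := Set.not_subsingleton_iff.1 hnt.1
        exact ⟨u, v, huv⟩
      obtain ⟨⟨k, hk⟩, hkx⟩ := hKt.exists_smul_eq x y
      rw [h, Subgroup.mem_bot] at hk
      subst hk
      exact hxy (by rw [← hkx]; exact (one_smul N x).symm)
    · have hKtop : K = ⊤ := Subgroup.map_injective N.subtype_injective (by rw [h, ← MonoidHom.range_eq_map, Subgroup.range_subtype])
      obtain ⟨⟨n, hn⟩, hn1⟩ := (Subgroup.nontrivial_iff_ne_bot _).2 ha₀ |> fun h => @exists_ne _ h 1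
      rcases (hmem n).1 (hKtop ▸ Subgroup.mem_top n) with h' | h'
      · exact hn1 (Subtype.ext h')
      · exact h' a₀ hn
  refine ⟨?_, hprim⟩
  obtain ⟨M, hMmin⟩ := Cfsg.Agent.Core.exists_isMinNormal (G := N)
  by_cases hMtop : M = ⊤
  · exact ⟨fun R hR => hMtop ▸ hMmin.eq_of_le R hR (hMtop ▸ le_top)⟩
  exfalso
  have hMn := hMmin.normal
  set M0 := M.map N.subtype with hM0
  have hconjM : ∀ g : G, ((M.map (MulAut.conjNormal g : N ≃* N).toMonoidHom)).Normal := fun g =>
    hMn.map _ (MulAut.conjNormal g : N ≃* N).surjective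
  obtain ⟨g₀, hg₀⟩ : ∃ g : G, M.map (MulAut.conjNormal g : N ≃* N).toMonoidHom ≠ M := by
    by_contra hall
    push Not at hall
    have hn : M0.Normal := ⟨by
      rintro _ ⟨m, hm, rfl⟩ g
      exact ⟨MulAut.conjNormal g m, hall g ▸ Subgroup.mem_map_of_mem _ hm, by simp⟩⟩
    rcases hmin _ hn (Subgroup.map_subtype_le _) with h | h
    · exact hMmin.ne_bot ((Subgroup.map_eq_bot_iff_of_injective _ N.subtype_injective).1 h)
    · exact hMtop (Subgroup.map_injective N.subtype_injective (by rw [← hM0, h, ← MonoidHom.range_eq_map, Subgroup.range_subtype]))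
  set M' := M.map (MulAut.conjNormal g₀ : N ≃* N).toMonoidHom with hM'
  have hcard : ∀ g : G, Nat.card (M.map (MulAut.conjNormal g : N ≃* N).toMonoidHom) = Nat.card M := fun g =>
    (Nat.card_congr ((MulAut.conjNormal g : N ≃* N).subgroupMap M).toEquiv).symm
  have hdisj : ∀ g, M.map (MulAut.conjNormal g : N ≃* N).toMonoidHom ≠ M → Disjoint M (M.map (MulAut.conjNormal g : N ≃* N).toMonoidHom) := by
    intro g hg
    have := hconjM g
    rw [disjoint_iff]
    refine (hMmin.le_or_inf_eq_bot _).resolve_left fun hle => hg ?_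
    exact (Subgroup.eq_of_le_of_card_ge hle (hcard g).le).symm
  have hM'n := hconjM g₀
  have hM'ne : M' ≠ ⊥ := fun e => hMmin.ne_bot ((Subgroup.map_eq_bot_iff_of_injective _ (MulAut.conjNormal g₀ : N ≃* N).injective).1 e)
  have hMt : IsPretransitive M α := transitive_of_normal M hMmin.ne_bot
  have hM't : IsPretransitive M' α := transitive_of_normal M' hM'ne
  have hc : ∀ m ∈ M, ∀ n ∈ M', m * n = n * m := fun m hm n hn =>
    (Subgroup.commute_of_normal_of_disjoint M M' hMn hM'n (hdisj g₀ hg₀) m n hm hn).eq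
  have : Nonempty α := ⟨a⟩
  -- regularity, and the centraliser of `M`
  set MG := M.map N.subtype
  set M'G := M'.map N.subtype
  have htG : IsPretransitive MG α := ⟨fun x y => by
    obtain ⟨m, hm⟩ := hMt.exists_smul_eq x y
    exact ⟨⟨m.1.1, Subgroup.mem_map_of_mem _ m.2⟩, hm⟩⟩
  have htG' : IsPretransitive M'G α := ⟨fun x y => by
    obtain ⟨m, hm⟩ := hM't.exists_smul_eq x y
    exact ⟨⟨m.1.1, Subgroup.mem_map_of_mem _ m.2⟩, hm⟩⟩
  have hcG : ∀ m ∈ MG, ∀ n ∈ M'G, m * n = n * m := by
    rintro _ ⟨m, hm, rfl⟩ _ ⟨n, hn, rfl⟩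
    rw [← map_mul, ← map_mul, hc m hm n hn]
  obtain ⟨hMreg, hMC⟩ := Cfsg.Agent.S0704.half G MG M'G hcG htG htG'
  have regM : ∀ x : α, ∀ m ∈ M, m • x = x → m = 1 := fun x m hm hx => by
    have : (⟨(m : G), Subgroup.mem_map_of_mem _ hm⟩ : MG) ∈ stabilizer MG x := hx
    rw [hMreg x, Subgroup.mem_bot] at this
    exact Subtype.ext (congrArg (fun t : MG => (t : G)) this :)
  have honly : ∀ g : G, M.map (MulAut.conjNormal g : N ≃* N).toMonoidHom = M ∨ M.map (MulAut.conjNormal g : N ≃* N).toMonoidHom = M' := by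
    intro g
    refine or_iff_not_imp_left.2 fun hne => ?_
    set M'' := M.map (MulAut.conjNormal g : N ≃* N).toMonoidHom
    refine Subgroup.eq_of_le_of_card_ge (fun x hx => ?_) (by rw [hcard g₀, hcard g])
    have hxc : ((x : G) : Equiv.Perm α) ∈ Subgroup.centralizer ((MG.map G.subtype : Subgroup (Equiv.Perm α)) : Set (Equiv.Perm α)) := by
      rw [Subgroup.mem_centralizer_iff]
      rintro _ ⟨_, ⟨m, hm, rfl⟩, rfl⟩
      exact congrArg (fun t : N => ((t : G) : Equiv.Perm α))
        (Subgroup.commute_of_normal_of_disjoint M M'' hMn (hconjM g) (hdisj g hne) m x hm hx).eq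
    rw [hMC] at hxc
    obtain ⟨_, ⟨y, hy, rfl⟩, hyx⟩ := hxc
    have : y = x := Subtype.ext (Subtype.ext hyx)
    exact this ▸ hy
  have hord : ∀ m ∈ M, ∀ k ∈ M, m ≠ 1 → k ≠ 1 → orderOf m = orderOf k := by
    intro m hm k hk hm1 hk1
    obtain ⟨g, hg1, hg2⟩ := h2' (show a ≠ m • a from fun e => hm1 (regM a m hm e.symm)) (show a ≠ k • a from fun e => hk1 (regM a k hk e.symm))
    set m' := (MulAut.conjNormal g m : N)
    have hm'a : m' • a = k • a := by
      show ((MulAut.conjNormal g m : N) : G) • a = k • a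
      rw [MulAut.conjNormal_apply, mul_smul, mul_smul, inv_smul_eq_iff.2 hg1.symm]
      exact hg2
    rw [← MulEquiv.orderOf_eq (MulAut.conjNormal g : N ≃* N) m]
    show orderOf m' = orderOf k
    have hm'mem : m' ∈ M.map (MulAut.conjNormal g : N ≃* N).toMonoidHom := Subgroup.mem_map_of_mem _ hm
    rcases honly g with h | h <;> rw [h] at hm'mem
    · have h1 : k⁻¹ * m' = 1 := regM a _ (mul_mem (inv_mem hk) hm'mem) (by rw [mul_smul, hm'a, inv_smul_smul])
      rw [inv_mul_eq_one.1 h1]
    · have hpow : ∀ i : ℕ, (m' ^ i) • a = (k ^ i) • a := fun i => by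
        induction i with
        | zero => simp
        | succ i ih =>
          have hcm : m' * k ^ i = k ^ i * m' := (hc _ (pow_mem hk i) _ hm'mem).symm
          rw [pow_succ', mul_smul, ih, ← mul_smul, hcm, mul_smul, hm'a, ← mul_smul, ← pow_succ]
      obtain ⟨hM'reg, -⟩ := Cfsg.Agent.S0704.half G M'G MG (fun x hx y hy => (hcG y hy x hx).symm) htG' htG
      refine Nat.dvd_antisymm (orderOf_dvd_of_pow_eq_one ?_) (orderOf_dvd_of_pow_eq_one ?_)
      · have h := hpow (orderOf k)
        rw [pow_orderOf_eq_one, one_smul] at h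
        have : (⟨((m' ^ orderOf k : N) : G), Subgroup.mem_map_of_mem _ (pow_mem hm'mem _)⟩ : M'G) ∈ stabilizer M'G a := h
        rw [hM'reg a, Subgroup.mem_bot] at this
        exact Subtype.ext (congrArg (fun t : M'G => (t : G)) this :)
      · have h := hpow (orderOf m')
        rw [pow_orderOf_eq_one, one_smul] at h
        exact regM a _ (pow_mem hk _) h.symm
  obtain ⟨p, hp, hpd⟩ := Nat.exists_prime_and_dvd (show Nat.card M ≠ 1 from fun e => hMmin.ne_bot (Subgroup.eq_bot_of_card_eq _ e))
  have : Fact p.Prime := ⟨hp⟩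
  obtain ⟨z, hz⟩ := exists_prime_orderOf_dvd_card' p hpd
  have hz' : orderOf (z : N) = p := (Subgroup.orderOf_coe z).trans hz
  have hz1 : (z : N) ≠ 1 := fun h => by rw [h, orderOf_one] at hz'; exact hp.one_lt.ne hz'
  have hMp : IsPGroup p M := fun m => ⟨1, by
    rw [pow_one]
    rcases eq_or_ne (m : N) 1 with h | h
    · rw [show m = 1 from Subtype.ext h, one_pow]
    · exact Subtype.ext (by rw [Subgroup.coe_pow, ← hz', ← hord m m.2 z z.2 h hz1, pow_orderOf_eq_one]; rfl)⟩
  have hM'p : IsPGroup p M' := hMp.map _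
  have hJ : ∀ g : G, (M ⊔ M').map (MulAut.conjNormal g : N ≃* N).toMonoidHom ≤ M ⊔ M' := fun g => by
    have hcomp : M'.map (MulAut.conjNormal g : N ≃* N).toMonoidHom = M.map (MulAut.conjNormal (g * g₀) : N ≃* N).toMonoidHom := by
      rw [hM', Subgroup.map_map]
      congr 1
    rw [Subgroup.map_sup, hcomp]
    refine sup_le ?_ ?_
    · rcases honly g with h | h <;> rw [h]
      · exact le_sup_left
      · exact le_sup_right
    · rcases honly (g * g₀) with h | h <;> rw [h]
      · exact le_sup_left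
      · exact le_sup_right
  have hJn : ((M ⊔ M').map N.subtype).Normal := ⟨by
    rintro _ ⟨x, hx, rfl⟩ g
    exact ⟨MulAut.conjNormal g x, hJ g (Subgroup.mem_map_of_mem _ hx), by simp⟩⟩
  rcases hmin _ hJn (Subgroup.map_subtype_le _) with h | h
  · rw [Subgroup.map_eq_bot_iff_of_injective _ N.subtype_injective, eq_bot_iff] at h
    exact hMmin.ne_bot (eq_bot_iff.2 (le_sup_left.trans h))
  · have htop : M ⊔ M' = ⊤ := Subgroup.map_injective N.subtype_injective (by rw [h, ← MonoidHom.range_eq_map, Subgroup.range_subtype])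
    have hJp : IsPGroup p ↥(M ⊔ M') := hMp.to_sup_of_normal_right hM'p
    rw [htop] at hJp
    exact ha₀ (hab_reg (finish p hp (hJp.of_equiv Subgroup.topEquiv)) a₀)

end Cfsg.Agent.S0700
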