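import Cfsg.Statements.S0702
import Mathlib.Algebra.Group.Subgroup.Finite
import Mathlib.GroupTheory.Index

set_option autoImplicit false
open Cfsg

namespace Cfsg.Agent.S0702

open MulAction in
/-- the permutation attached to a normalising element -/
noncomputable def cfun {α : Type*} (G : Subgroup (Equiv.Perm α)) [IsPretransitive G α] (a : α) (n : G) (x : α) : α :=
  (exists_smul_eq G a x).choose • n⁻¹ • a

open MulAction in
lemma cfun_smul {α : Type*} (G : Subgroup (Equiv.Perm α)) [IsPretransitive G α] (a : α) (n g : G)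
    (hn : n ∈ Subgroup.normalizer ((stabilizer G a : Subgroup G) : Set G)) :
    cfun G a n (g • a) = g • n⁻¹ • a := by
  set k := (exists_smul_eq G a (g • a)).choose
  have hk : k • a = g • a := (exists_smul_eq G a (g • a)).choose_spec
  have h1 : g⁻¹ * k ∈ stabilizer G a := by rw [mem_stabilizer_iff, mul_smul, hk, inv_smul_smul]
  have h2 : n * (g⁻¹ * k) * n⁻¹ ∈ stabilizer G a := (Subgroup.mem_normalizer_iff.1 hn _).1 h1
  rw [mem_stabilizer_iff, mul_smul, mul_smul, mul_smul, smul_eq_iff_eq_inv_smul, inv_smul_eq_iff] at h2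
  exact h2

/-- For a transitive permutation group `G` on a finite set, the centraliser of `G` in the symmetric group is isomorphic to `N_G(G_ω)/G_ω`, and its orbit of `ω` is the set of fixed points of `G_ω`. -/
theorem result {α : Type*} [Finite α] (G : Subgroup (Equiv.Perm α)) [MulAction.IsPretransitive G α] (a : α) : Nonempty (Subgroup.centralizer (G : Set (Equiv.Perm α)) ≃* Subgroup.normalizer ((MulAction.stabilizer G a : Subgroup G) : Set G) ⧸ (MulAction.stabilizer G a).subgroupOf (Subgroup.normalizer ((MulAction.stabilizer G a : Subgroup G) : Set G))) ∧ MulAction.orbit (Subgroup.centralizer (G : Set (Equiv.Perm α))) a = MulAction.fixedPoints (MulAction.stabilizer G a) α := by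
  classical
  open MulAction in
  set K := stabilizer G a with hK
  set N := Subgroup.normalizer (K : Set G) with hN
  let mk : N → Equiv.Perm α := fun n =>
    ⟨cfun G a n.1, cfun G a n.1⁻¹, fun x => by
      obtain ⟨g, rfl⟩ := exists_smul_eq G a x
      rw [cfun_smul G a _ g n.2, ← mul_smul, cfun_smul G a _ _ (inv_mem n.2), inv_inv, ← mul_smul, inv_mul_cancel_right],
     fun x => by
      obtain ⟨g, rfl⟩ := exists_smul_eq G a x
      rw [cfun_smul G a _ g (inv_mem n.2), inv_inv, ← mul_smul, cfun_smul G a _ _ n.2, ← mul_smul, mul_inv_cancel_right]⟩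
  have mk_smul : ∀ (n : N) (g : G), mk n (g • a) = g • (n.1)⁻¹ • a := fun n g => cfun_smul G a _ g n.2
  have mk_mem : ∀ n : N, mk n ∈ Subgroup.centralizer (G : Set (Equiv.Perm α)) := by
    intro n
    rw [Subgroup.mem_centralizer_iff]
    intro g hg
    refine Equiv.ext fun x => ?_
    obtain ⟨k, rfl⟩ := exists_smul_eq G a x
    show g (mk n (k • a)) = mk n ((⟨g, hg⟩ : G) • k • a)
    rw [← mul_smul, mk_smul, mk_smul, mul_smul]
    rfl
  let Φ : N →* Subgroup.centralizer (G : Set (Equiv.Perm α)) := MonoidHom.mk' (fun n => ⟨mk n, mk_mem n⟩) fun n m => by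
    refine Subtype.ext (Equiv.ext fun x => ?_)
    obtain ⟨g, rfl⟩ := exists_smul_eq G a x
    show mk (n * m) (g • a) = mk n (mk m (g • a))
    rw [mk_smul, mk_smul m, ← mul_smul g (m.1)⁻¹ a, mk_smul n, ← mul_smul, ← mul_smul]
    simp [mul_assoc]
  have hker : Φ.ker = K.subgroupOf N := by
    ext n
    rw [MonoidHom.mem_ker, Subgroup.mem_subgroupOf]
    constructor
    · intro h
      have h1 : mk n ((1 : G) • a) = a := by
        have := congrArg (fun c : Subgroup.centralizer (G : Set (Equiv.Perm α)) => (c : Equiv.Perm α) a) h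
        rw [one_smul]; exact this
      rw [mk_smul, one_smul, inv_smul_eq_iff] at h1
      exact h1.symm
    · intro h
      refine Subtype.ext (Equiv.ext fun x => ?_)
      obtain ⟨g, rfl⟩ := exists_smul_eq G a x
      show mk n (g • a) = g • a
      rw [mk_smul, inv_smul_eq_iff.2 (mem_stabilizer_iff.1 h).symm]
  have hfix : ∀ g : G, g • a ∈ fixedPoints K α → g⁻¹ ∈ N := by
    intro g hg
    have hle : K ≤ K.map (MulAut.conj g).toMonoidHom := fun k hk => by
      refine ⟨g⁻¹ * k * g, ?_, by simp [mul_assoc]⟩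
      show (g⁻¹ * k * g) • a = a
      rw [mul_smul, mul_smul]
      have hk' : k • g • a = g • a := hg ⟨k, hk⟩
      rw [hk', inv_smul_smul]
    have heq := Subgroup.eq_of_le_of_card_ge hle
      (le_of_eq (Nat.card_congr ((MulAut.conj g).subgroupMap K).toEquiv).symm)
    refine inv_mem ?_
    rw [hN, Subgroup.mem_normalizer_iff]
    intro x
    refine ⟨fun hx => heq ▸ ⟨x, hx, rfl⟩, fun hx => ?_⟩
    rw [heq] at hx
    obtain ⟨y, hy, hyx⟩ := hx
    exact (MulAut.conj g).injective hyx ▸ hy
  have hsurj : Function.Surjective Φ := by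
    intro c
    obtain ⟨g, hg⟩ := exists_smul_eq G a ((c : Equiv.Perm α) a)
    have hcomm : ∀ (k : G) (x : α), (c : Equiv.Perm α) (k • x) = k • (c : Equiv.Perm α) x := fun k x =>
      (DFunLike.congr_fun (Subgroup.mem_centralizer_iff.1 c.2 _ k.2) x).symm
    have hgN : g⁻¹ ∈ N := hfix g fun k => by
      show (k : G) • g • a = g • a
      rw [hg, ← hcomm, mem_stabilizer_iff.1 k.2]
    refine ⟨⟨g⁻¹, hgN⟩, Subtype.ext (Equiv.ext fun x => ?_)⟩
    obtain ⟨k, rfl⟩ := exists_smul_eq G a x
    show mk ⟨g⁻¹, hgN⟩ (k • a) = (c : Equiv.Perm α) (k • a)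
    rw [mk_smul, hcomm, inv_inv, hg]
  refine ⟨⟨(QuotientGroup.quotientKerEquivOfSurjective Φ hsurj).symm.trans (QuotientGroup.quotientMulEquivOfEq hker)⟩,
    Set.ext fun b => ⟨?_, fun hb => ?_⟩⟩
  · rintro ⟨c, rfl⟩ k
    show ((k : G) : Equiv.Perm α) ((c : Equiv.Perm α) a) = (c : Equiv.Perm α) a
    have := DFunLike.congr_fun (Subgroup.mem_centralizer_iff.1 c.2 _ (k : G).2) a
    simp only [Equiv.Perm.mul_apply] at this
    rw [this]
    exact congrArg _ k.2
  · obtain ⟨g, rfl⟩ := exists_smul_eq G a b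
    refine ⟨Φ ⟨g⁻¹, hfix g hb⟩, ?_⟩
    show mk ⟨g⁻¹, hfix g hb⟩ a = g • a
    have := mk_smul ⟨g⁻¹, hfix g hb⟩ 1
    rw [one_smul, one_smul, inv_inv] at this
    exact this

end Cfsg.Agent.S0702
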