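import Cfsg.Statements.S0703
import Cfsg.Agent.S0701
import Cfsg.Agent.Core.MinimalNormal

set_option autoImplicit false
open Cfsg

namespace Cfsg.Agent.S0703

/-- An abelian transitive minimal normal subgroup `M` of a permutation group on a finite set is self-centralising in the symmetric group, regular, elementary abelian, and is the unique minimal normal subgroup. -/
theorem result {α : Type*} [Finite α] (G : Subgroup (Equiv.Perm α)) (M : Subgroup G) [M.Normal] (hM : M ≠ ⊥) (hmin : ∀ L : Subgroup G, L.Normal → L ≤ M → L = ⊥ ∨ L = M) (hab : IsMulCommutative M) (htrans : MulAction.IsPretransitive M α) : Subgroup.centralizer ((M.map G.subtype : Subgroup (Equiv.Perm α)) : Set (Equiv.Perm α)) = M.map G.subtype ∧ (∀ a : α, MulAction.stabilizer M a = ⊥) ∧ (∃ p : ℕ, p.Prime ∧ ∀ m ∈ M, m ^ p = 1) ∧ ∀ L : Subgroup G, L.Normal → L ≠ ⊥ → (∀ L' : Subgroup G, L'.Normal → L' ≤ L → L' = ⊥ ∨ L' = L) → L = M := by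
  set M' : Subgroup (Equiv.Perm α) := M.map G.subtype with hM'
  have : MulAction.IsPretransitive M' α := ⟨fun x y => by
    obtain ⟨m, hm⟩ := htrans.exists_smul_eq x y
    exact ⟨⟨m.1.1, Subgroup.mem_map_of_mem _ m.2⟩, hm⟩⟩
  have hsemi := (Cfsg.Agent.S0701.result M').1
  have hle : M' ≤ Subgroup.centralizer (M' : Set (Equiv.Perm α)) := by
    rintro _ ⟨x, hx, rfl⟩
    rw [Subgroup.mem_centralizer_iff]
    rintro _ ⟨y, hy, rfl⟩
    have := hab.is_comm.comm (⟨y, hy⟩ : M) ⟨x, hx⟩
    exact congrArg (fun z : M => ((z : G) : Equiv.Perm α)) this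
  have hcent : Subgroup.centralizer (M' : Set (Equiv.Perm α)) = M' := by
    refine le_antisymm (fun c hc => ?_) hle
    obtain ⟨a⟩ : Nonempty α := by
      by_contra hne
      rw [not_nonempty_iff] at hne
      exact hM (Subgroup.eq_bot_iff_forall _ |>.2 fun x _ => Subsingleton.elim _ _)
    obtain ⟨m, hm⟩ := MulAction.exists_smul_eq M' a (c a)
    have hfix : ((m : Equiv.Perm α)⁻¹ * c) a = a := by
      rw [Equiv.Perm.mul_apply, ← hm]
      exact (m : Equiv.Perm α).symm_apply_apply a
    have := hsemi _ (mul_mem (inv_mem (hle m.2)) hc) a hfix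
    rw [inv_mul_eq_one] at this
    exact this ▸ m.2
  have hmn : Cfsg.Agent.Core.IsMinNormal M := ⟨inferInstance, hM, hmin⟩
  refine ⟨hcent, fun a => ?_, ?_, fun L hL hLne hLmin => ?_⟩
  · rw [eq_bot_iff]
    intro g hg
    have := hsemi _ (hle (Subgroup.mem_map_of_mem G.subtype g.2)) a hg
    exact Subgroup.mem_bot.2 (Subtype.ext (Subtype.ext this))
  · exact hmn.exists_prime_pow_eq_one
  · by_contra hne
    have hdisj : Disjoint L M := by
      rw [disjoint_iff]
      rcases hLmin (L ⊓ M) inferInstance inf_le_left with h | h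
      · exact h
      · rcases hmin L hL (inf_eq_left.1 h) with h' | h'
        · exact absurd h' hLne
        · exact absurd h' hne
    have hLM : L ≤ M := fun x hx => by
      have hxc : (x : Equiv.Perm α) ∈ Subgroup.centralizer (M' : Set (Equiv.Perm α)) := by
        rw [Subgroup.mem_centralizer_iff]
        rintro _ ⟨y, hy, rfl⟩
        exact congrArg Subtype.val (Subgroup.commute_of_normal_of_disjoint L M hL inferInstance hdisj x y hx hy).symm.eq
      rw [hcent] at hxc
      obtain ⟨y, hy, hyx⟩ := hxc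
      exact Subtype.ext hyx ▸ hy
    exact hLne (disjoint_self.1 (hdisj.mono_right hLM))

end Cfsg.Agent.S0703
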