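import Cfsg.Statements.S0705

set_option autoImplicit false
open scoped Pointwise
open Cfsg

namespace Cfsg.Agent.S0705

open scoped Pointwise

/-- a tuple sees every transposition -/
lemma swap_on {α : Type*} [Fintype α] [DecidableEq α] (G : Subgroup (Equiv.Perm α)) {k : ℕ} (hk : k < Fintype.card α)
    (hgen : ∀ s : Finset α, s.card = k + 1 → ∀ σ : Equiv.Perm ↥s, ∃ g ∈ G, ∀ x : ↥s, g (x : α) = σ x)
    (x : Fin k ↪ α) (u v : α) : ∃ g ∈ G, ∀ i, g (x i) = Equiv.swap u v (x i) := by
  set R := Finset.univ.map x with hR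
  by_cases h : u ∈ R ∨ v ∈ R
  · have hle : (R ∪ {u, v}).card ≤ k + 1 := by
      have hsub : R ∪ {u, v} ⊆ insert (if u ∈ R then v else u) R := by
        intro y hy
        simp only [Finset.mem_union, Finset.mem_insert, Finset.mem_singleton] at hy ⊢
        split
        · rcases hy with hy | rfl | rfl <;> tauto
        · rcases hy with hy | rfl | rfl <;> tauto
      refine (Finset.card_le_card hsub).trans ((Finset.card_insert_le _ _).trans ?_)
      simp [R]
    obtain ⟨s, hsub, hs⟩ := Finset.exists_superset_card_eq hle hk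
    have hu : u ∈ s := hsub (by simp)
    have hv : v ∈ s := hsub (by simp)
    obtain ⟨g, hg, hgs⟩ := hgen s hs (Equiv.swap ⟨u, hu⟩ ⟨v, hv⟩)
    refine ⟨g, hg, fun i => ?_⟩
    have := hgs ⟨x i, hsub (Finset.mem_union_left _ (Finset.mem_map_of_mem _ (Finset.mem_univ i)))⟩
    rw [this]
    exact (Subtype.val_injective.map_swap _ _ _)
  · rw [not_or] at h
    refine ⟨1, one_mem _, fun i => ?_⟩
    have hi : x i ∈ R := Finset.mem_map_of_mem _ (Finset.mem_univ i)
    rw [Equiv.swap_apply_of_ne_of_ne (fun e => h.1 (by rwa [e] at hi)) (fun e => h.2 (by rwa [e] at hi))]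
    rfl

/-- A generously `k`-transitive permutation group (every `(k+1)`-subset has its full symmetric group induced by the setwise stabiliser) of degree greater than `k` is `k`-transitive, and for a `k`-subset the setwise and pointwise stabilisers have the same orbits outside it. -/
theorem result {α : Type*} [Fintype α] [DecidableEq α] (G : Subgroup (Equiv.Perm α)) {k : ℕ} (hk : k < Fintype.card α) (hgen : ∀ s : Finset α, s.card = k + 1 → ∀ σ : Equiv.Perm ↥s, ∃ g ∈ G, ∀ x : ↥s, g (x : α) = σ x) : MulAction.IsMultiplyPretransitive G α k ∧ ∀ s : Finset α, s.card = k → ∀ a b : α, a ∉ s → b ∉ s → (∃ g ∈ G, g • s = s ∧ g a = b) → ∃ g ∈ G, (∀ x ∈ s, g x = x) ∧ g a = b := by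
  constructor
  · refine ⟨fun x y => ?_⟩
    have : ∀ j : ℕ, j ≤ k → ∃ g ∈ G, ∀ i : Fin k, (i : ℕ) < j → g (x i) = y i := by
      intro j
      induction j with
      | zero => exact fun _ => ⟨1, one_mem _, fun i hi => absurd hi (Nat.not_lt_zero _)⟩
      | succ j ih =>
        intro hj
        obtain ⟨g, hg, hgi⟩ := ih (by omega)
        obtain ⟨h, hh, hhi⟩ := swap_on G hk hgen (x.trans g.toEmbedding) (g (x ⟨j, hj⟩)) (y ⟨j, hj⟩)
        refine ⟨h * g, mul_mem hh hg, fun i hi => ?_⟩
        rw [Equiv.Perm.mul_apply]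
        refine (hhi i).trans ?_
        show Equiv.swap _ _ (g (x i)) = _
        rcases Nat.lt_or_ge i j with hij | hij
        · rw [Equiv.swap_apply_of_ne_of_ne, hgi i hij]
          · intro e
            have := congrArg Fin.val (x.injective (g.injective e))
            simp at this; omega
          · rw [hgi i hij]
            intro e
            have := congrArg Fin.val (y.injective e)
            simp at this; omega
        · have : i = ⟨j, hj⟩ := Fin.ext (by show (i : ℕ) = j; omega)
          rw [this, Equiv.swap_apply_left]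
    obtain ⟨g, hg, hgi⟩ := this k le_rfl
    exact ⟨⟨g, hg⟩, Function.Embedding.ext fun i => hgi i i.isLt⟩
  · rintro s hs a b ha hb ⟨h, hh, hhs, hhab⟩
    have hmem : ∀ y, y ∈ s ↔ h y ∈ s := fun y => by
      have h1 : h • y ∈ h • s ↔ y ∈ s := Finset.smul_mem_smul_finset_iff h
      rw [hhs] at h1
      exact h1.symm
    let e : Equiv.Perm α := h⁻¹
    let σ : Equiv.Perm ↥(insert a s) := Equiv.Perm.subtypePerm
      ((Equiv.Perm.ofSubtype (Equiv.Perm.subtypePerm h (p := fun y => y ∈ s) (fun y => (hmem y).symm)))⁻¹) (by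
        intro y
        set τ := Equiv.Perm.ofSubtype (Equiv.Perm.subtypePerm h (p := fun y => y ∈ s) (fun y => (hmem y).symm))
        have hτ : ∀ z, z ∈ s ↔ τ z ∈ s := fun z => by
          by_cases hz : z ∈ s
          · rw [show τ z = h z from Equiv.Perm.ofSubtype_apply_of_mem _ hz]; exact hmem z
          · rw [show τ z = z from Equiv.Perm.ofSubtype_apply_of_not_mem _ hz]
        have hz := hτ (τ⁻¹ y)
        rw [Equiv.Perm.inv_def, Equiv.apply_symm_apply] at hz
        simp only [Finset.mem_insert]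
        have hτa : τ a = a := Equiv.Perm.ofSubtype_apply_of_not_mem _ ha
        rw [← Equiv.Perm.inv_def] at hz
        rw [hz, Equiv.Perm.inv_eq_iff_eq, hτa])
    obtain ⟨g, hg, hgs⟩ := hgen (insert a s) (by rw [Finset.card_insert_of_notMem ha, hs]) σ
    refine ⟨h * g, mul_mem hh hg, fun x hx => ?_, ?_⟩
    · rw [Equiv.Perm.mul_apply, hgs ⟨x, Finset.mem_insert_of_mem hx⟩]
      set τ := Equiv.Perm.ofSubtype (Equiv.Perm.subtypePerm h (p := fun y => y ∈ s) (fun y => (hmem y).symm))
      show h (τ⁻¹ x) = x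
      have hz : τ⁻¹ x ∈ s := by
        by_contra hc
        have h2 : τ (τ⁻¹ x) = τ⁻¹ x := Equiv.Perm.ofSubtype_apply_of_not_mem _ hc
        rw [Equiv.Perm.inv_def, Equiv.apply_symm_apply] at h2
        exact hc (h2 ▸ hx)
      have h2 : τ (τ⁻¹ x) = h (τ⁻¹ x) := Equiv.Perm.ofSubtype_apply_of_mem _ hz
      rw [← h2, Equiv.Perm.inv_def, Equiv.apply_symm_apply]
    · rw [Equiv.Perm.mul_apply, hgs ⟨a, Finset.mem_insert_self _ _⟩]
      show h ((Equiv.Perm.ofSubtype _)⁻¹ a) = b
      rw [Equiv.Perm.inv_eq_iff_eq.2 (Equiv.Perm.ofSubtype_apply_of_not_mem _ ha).symm, hhab]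

end Cfsg.Agent.S0705
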