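import Cfsg.Statements.S0706
import Cfsg.Agent.S0705
import Mathlib.GroupTheory.Sylow
import Mathlib.GroupTheory.Perm.Cycle.Type

set_option autoImplicit false
open Cfsg

namespace Cfsg.Agent.S0706

open scoped Pointwise

/-- In a generously `k`-transitive permutation group, for a prime `p ≤ k` and a `k`-set `Γ`, there are no `p` points outside `Γ` lying in distinct orbits of the pointwise stabiliser of `Γ` all of length prime to `p` (at most `p - 1` such orbits). -/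
theorem result {α : Type*} [Fintype α] [DecidableEq α] (G : Subgroup (Equiv.Perm α)) {k : ℕ} (hk : k < Fintype.card α) (hgen : ∀ s : Finset α, s.card = k + 1 → ∀ σ : Equiv.Perm ↥s, ∃ g ∈ G, ∀ x : ↥s, g (x : α) = σ x) {p : ℕ} (hp : p.Prime) (hpk : p ≤ k) (Γ : Finset α) (hΓ : Γ.card = k) (f : Fin p → α) (hf : ∀ i, f i ∉ Γ) (hdist : ∀ i j, i ≠ j → f j ∉ MulAction.orbit (fixingSubgroup G (Γ : Set α)) (f i)) : ∃ i, p ∣ Nat.card (MulAction.orbit (fixingSubgroup G (Γ : Set α)) (f i)) := by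
  classical
  have : Fact p.Prime := ⟨hp⟩
  by_contra hcon
  push Not at hcon
  obtain ⟨hkt, hsame⟩ := Cfsg.Agent.S0705.result G hk hgen
  obtain ⟨z0, -, hz0⟩ := Finset.exists_mem_notMem_of_card_lt_card (s := Γ) (t := Finset.univ)
    (by rw [Finset.card_univ, hΓ]; exact hk)
  set s := insert z0 Γ with hs
  have ext : ∀ σ : Equiv.Perm Γ, ∃ g ∈ G, (∀ x : Γ, g x.1 = (σ x).1) ∧ ∀ x, x ∈ Γ ↔ g x ∈ Γ := by
    intro σ
    set π := Equiv.Perm.ofSubtype σ with hπ
    have hπΓ : ∀ x : Γ, π x.1 = (σ x).1 := fun x => Equiv.Perm.ofSubtype_apply_coe σ x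
    have hπz : ∀ x, x ∉ Γ → π x = x := fun x hx => Equiv.Perm.ofSubtype_apply_of_not_mem σ hx
    have hmemΓ : ∀ x, π x ∈ Γ ↔ x ∈ Γ := fun x => by
      by_cases hx : x ∈ Γ
      · simp [hπΓ ⟨x, hx⟩, hx]
      · rw [hπz x hx]
    have hmems : ∀ x, π x ∈ s ↔ x ∈ s := fun x => by
      rw [hs, Finset.mem_insert, Finset.mem_insert, hmemΓ]
      by_cases hx : x ∈ Γ
      · simp [hx]
      · rw [hπz x hx]
    obtain ⟨g, hg, hgs⟩ := hgen s (by rw [hs, Finset.card_insert_of_notMem hz0, hΓ]) (π.subtypePerm hmems)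
    have hgπ : ∀ x ∈ s, g x = π x := fun x hx => hgs ⟨x, hx⟩
    have hgΓ : ∀ x : Γ, g x.1 = (σ x).1 := fun x => (hgπ x.1 (Finset.mem_insert_of_mem x.2)).trans (hπΓ x)
    refine ⟨g, hg, hgΓ, fun x => ⟨fun hx => ?_, fun hx => ?_⟩⟩
    · rw [hgΓ ⟨x, hx⟩]; exact (σ _).2
    · have h := hgΓ (σ⁻¹ ⟨g x, hx⟩)
      rw [Equiv.Perm.inv_def, Equiv.apply_symm_apply] at h
      exact g.injective h ▸ (σ.symm ⟨g x, hx⟩).2
  obtain ⟨C, hCΓ, hC⟩ := Finset.exists_subset_card_eq (s := Γ) (n := p) (by rw [hΓ]; exact hpk)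
  let SC : Subgroup G :=
    { carrier := {g | (∀ x, x ∈ C ↔ g • x ∈ C) ∧ ∀ x ∈ Γ \ C, g • x = x}
      one_mem' := ⟨fun x => by simp, fun x _ => one_smul _ _⟩
      mul_mem' := fun {g h} hg hh => ⟨fun x => by rw [mul_smul, ← hg.1, ← hh.1],
        fun x hx => by rw [mul_smul, hh.2 x hx, hg.2 x hx]⟩
      inv_mem' := fun {g} hg => ⟨fun x => by rw [hg.1 (g⁻¹ • x), smul_inv_smul],
        fun x hx => by rw [inv_smul_eq_iff, hg.2 x hx]⟩ }
  set H := fixingSubgroup G (Γ : Set α) with hH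
  have hHS : H ≤ SC := fun g hg => by
    have hfix : ∀ x ∈ Γ, g • x = x := fun x hx => (mem_fixingSubgroup_iff G).1 hg x hx
    refine ⟨fun x => ⟨fun hx => by rwa [hfix x (hCΓ hx)], fun hx => ?_⟩, fun x hx => hfix x (Finset.mem_sdiff.1 hx).1⟩
    have := hfix _ (hCΓ hx)
    rwa [smul_left_cancel g this] at hx
  have hSΓ : ∀ g ∈ SC, ∀ x, x ∈ Γ ↔ g • x ∈ Γ := fun g hg x => by
    constructor
    · intro hx
      by_cases hxC : x ∈ C
      · exact hCΓ ((hg.1 x).1 hxC)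
      · rw [hg.2 x (Finset.mem_sdiff.2 ⟨hx, hxC⟩)]; exact hx
    · intro hx
      by_cases hxC : g • x ∈ C
      · exact hCΓ ((hg.1 x).2 hxC)
      · have := hg.2 _ (Finset.mem_sdiff.2 ⟨hx, hxC⟩)
        rwa [smul_left_cancel g this] at hx
  let ρ : SC →* Equiv.Perm C :=
    MonoidHom.mk' (fun g => ((g : G) : Equiv.Perm α).subtypePerm fun x => (g.2.1 x).symm) fun g h => Equiv.ext fun x => rfl
  -- an element inducing a p-cycle on C
  obtain ⟨σ, hσ⟩ := exists_prime_orderOf_dvd_card' (G := Equiv.Perm C) p (by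
    rw [Nat.card_perm, Nat.card_eq_fintype_card, Fintype.card_coe, hC]; exact Nat.dvd_factorial hp.pos le_rfl)
  set π := Equiv.Perm.ofSubtype σ
  have hπC : ∀ x, π x ∈ C ↔ x ∈ C := fun x => by
    by_cases hx : x ∈ C
    · simp [π, Equiv.Perm.ofSubtype_apply_of_mem σ hx, hx]
    · simp [π, Equiv.Perm.ofSubtype_apply_of_not_mem σ hx]
  have hπΓ : ∀ x, π x ∈ Γ ↔ x ∈ Γ := fun x => by
    by_cases hx : x ∈ C
    · simp [hCΓ ((hπC x).2 hx), hCΓ hx]
    · simp [π, Equiv.Perm.ofSubtype_apply_of_not_mem σ hx]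
  obtain ⟨g, hg, hgσ, hgΓ⟩ := ext (π.subtypePerm hπΓ)
  have hgS : (⟨g, hg⟩ : G) ∈ SC := by
    have hgx : ∀ x ∈ Γ, g x = π x := fun x hx => hgσ ⟨x, hx⟩
    refine ⟨fun x => ⟨fun hx => ?_, fun hx => ?_⟩, fun x hx => ?_⟩
    · show g x ∈ C
      rw [hgx x (hCΓ hx), hπC]; exact hx
    · have hxΓ : x ∈ Γ := (hgΓ x).2 (hCΓ hx)
      have hx' : π x ∈ C := hgx x hxΓ ▸ hx
      exact (hπC x).1 hx'
    · obtain ⟨hxΓ, hxC⟩ := Finset.mem_sdiff.1 hx
      show g x = x
      rw [hgx x hxΓ]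
      exact Equiv.Perm.ofSubtype_apply_of_not_mem σ hxC
  have hρg : ρ ⟨_, hgS⟩ = σ := Equiv.ext fun x => Subtype.ext (by
    show g x.1 = (σ x).1
    rw [hgσ ⟨x.1, hCΓ x.2⟩]
    exact Equiv.Perm.ofSubtype_apply_coe σ x)
  have hdvd : p * Nat.card H ∣ Nat.card SC := by
    have hker : H.subgroupOf SC ≤ ρ.ker := fun h hh => by
      rw [MonoidHom.mem_ker]
      refine Equiv.ext fun x => Subtype.ext ?_
      exact (mem_fixingSubgroup_iff G).1 hh x.1 (hCΓ x.2)
    rw [Subgroup.card_eq_card_quotient_mul_card_subgroup (H.subgroupOf SC),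
      Nat.card_congr (Subgroup.subgroupOfEquivOfLe hHS).toEquiv]
    refine Nat.mul_dvd_mul_right ?_ _
    have h1 : (ρ.ker).index ∣ (H.subgroupOf SC).index := Subgroup.index_dvd_of_le hker
    refine dvd_trans ?_ h1
    rw [Subgroup.index_ker, ← hσ, ← hρg, ← Subgroup.orderOf_mk (ρ ⟨_, hgS⟩) (show _ ∈ ρ.range from ⟨_, rfl⟩)]
    exact orderOf_dvd_natCard _
  obtain ⟨Q⟩ : Nonempty (Sylow p SC) := inferInstance
  set Q' : Subgroup G := (Q : Subgroup SC).map SC.subtype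
  have hQp : IsPGroup p Q' := Q.isPGroup'.map _
  have hQS : Q' ≤ SC := Subgroup.map_subtype_le _
  have hfind : ∀ i, ∃ z, z ∈ MulAction.orbit H (f i) ∧ ∀ q ∈ Q', q • z = z := by
    intro i
    have hinv : ∀ q : Q', ∀ y ∈ MulAction.orbit H (f i), (q : G) • y ∈ MulAction.orbit H (f i) := by
      intro q y hy
      obtain ⟨h, rfl⟩ := MulAction.mem_orbit_iff.1 hy
      have hgS : (q : G) * (h : G) ∈ SC := mul_mem (hQS q.2) (hHS h.2)
      set a := f i with ha
      have ha' : ((q : G) * (h : G)) • a ∉ Γ := fun hh => hf i ((hSΓ _ hgS a).2 hh)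
      obtain ⟨g, hg, hgfix, hga⟩ := hsame Γ hΓ a _ (hf i) ha' ⟨((q : G) * (h : G) : G).1, ((q : G) * (h : G) : G).2, by
        refine Finset.eq_of_subset_of_card_le (fun y hy => ?_) (by rw [Finset.card_smul_finset])
        obtain ⟨x, hx, rfl⟩ := Finset.mem_smul_finset.1 hy
        exact (hSΓ _ hgS x).1 hx, rfl⟩
      exact MulAction.mem_orbit_iff.2 ⟨⟨⟨g, hg⟩, (mem_fixingSubgroup_iff G).2 hgfix⟩, hga.trans (mul_smul _ _ _)⟩
    let act : MulAction Q' (MulAction.orbit H (f i)) :=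
      { smul := fun q y => ⟨(q : G) • y.1, hinv q y.1 y.2⟩
        one_smul := fun y => Subtype.ext (one_smul G y.1)
        mul_smul := fun q r y => Subtype.ext (mul_smul (q : G) (r : G) y.1) }
    obtain ⟨z, hz⟩ := hQp.nonempty_fixed_point_of_prime_not_dvd_card (MulAction.orbit H (f i)) (hcon i)
    exact ⟨z.1, z.2, fun q hq => congrArg Subtype.val (hz ⟨q, hq⟩)⟩
  choose z hzO hzQ using hfind
  have hzΓ : ∀ i, z i ∉ Γ := fun i hz => by
    obtain ⟨h, hh⟩ := MulAction.mem_orbit_iff.1 (hzO i)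
    exact hf i ((hSΓ _ (hHS h.2) (f i)).2 (hh ▸ hz))
  have hzinj : Function.Injective z := fun i j hij => by
    by_contra hne
    refine hdist i j hne ?_
    rw [← MulAction.orbit_eq_iff.2 (hzO i)]
    have := MulAction.orbit_eq_iff.2 (hzO j)
    rw [← hij] at this
    rw [this]
    exact MulAction.mem_orbit_self _
  set Γ' := (Γ \ C) ∪ Finset.univ.image z with hΓ'
  have hΓ'c : Γ'.card = k := by
    rw [hΓ', Finset.card_union_of_disjoint, Finset.card_sdiff_of_subset hCΓ, Finset.card_image_of_injective _ hzinj,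
      Finset.card_univ, Fintype.card_fin, hC, hΓ]
    · omega
    · rw [Finset.disjoint_right]
      intro x hx hx'
      obtain ⟨i, -, rfl⟩ := Finset.mem_image.1 hx
      exact hzΓ i (Finset.mem_sdiff.1 hx').1
  have hQfix : Q' ≤ fixingSubgroup G (Γ' : Set α) := fun q hq => (mem_fixingSubgroup_iff G).2 fun x hx => by
    rcases Finset.mem_union.1 (Finset.mem_coe.1 hx) with hx | hx
    · exact (hQS hq).2 x hx
    · obtain ⟨i, -, rfl⟩ := Finset.mem_image.1 hx
      exact hzQ i q hq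
  have hcard : Nat.card (fixingSubgroup G (Γ' : Set α)) = Nat.card H := by
    have h1 := MulAction.IsMultiplyPretransitive.index_of_fixingSubgroup_mul hkt (s := (Γ' : Set α)) (by rw [Set.ncard_coe_finset, hΓ'c])
    have h2 := MulAction.IsMultiplyPretransitive.index_of_fixingSubgroup_mul hkt (s := (Γ : Set α)) (by rw [Set.ncard_coe_finset, hΓ])
    have h3 := Nat.eq_of_mul_eq_mul_right (Nat.factorial_pos _) (h1.trans h2.symm)
    have h4 := (fixingSubgroup G (Γ' : Set α)).index_mul_card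
    rw [← H.index_mul_card, h3] at h4
    exact Nat.eq_of_mul_eq_mul_left (Nat.pos_of_ne_zero Subgroup.index_ne_zero_of_finite) h4
  have hQc : Nat.card Q' = p ^ (Nat.card SC).factorization p := by
    rw [← Q.card_eq_multiplicity]
    exact (Nat.card_congr ((Q : Subgroup SC).equivMapOfInjective _ SC.subtype_injective).toEquiv).symm
  have h1 : p ^ (Nat.card SC).factorization p ∣ Nat.card H := by
    rw [← hcard, ← hQc]; exact Subgroup.card_dvd_of_le hQfix
  have h2 : (Nat.card SC).factorization p ≤ (Nat.card H).factorization p :=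
    (hp.pow_dvd_iff_le_factorization Nat.card_pos.ne').1 h1
  have h3 : p ^ ((Nat.card H).factorization p + 1) ∣ Nat.card SC :=
    dvd_trans (by rw [pow_succ']; exact Nat.mul_dvd_mul_left p (Nat.ordProj_dvd _ _)) hdvd
  have := (hp.pow_dvd_iff_le_factorization Nat.card_pos.ne').1 h3
  omega

end Cfsg.Agent.S0706
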