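import Cfsg.Statements.S0707
import Mathlib.GroupTheory.SpecificGroups.Cyclic

set_option autoImplicit false
open Cfsg

namespace Cfsg.Agent.S0707

/-- a group without proper nontrivial subgroups has prime order -/
lemma prime_card_of_simple_lattice {H : Type*} [Group H] [Nontrivial H] (h : ∀ K : Subgroup H, K = ⊥ ∨ K = ⊤) :
    (Nat.card H).Prime := by
  obtain ⟨g, hg⟩ := exists_ne (1 : H)
  have hz : Subgroup.zpowers g = ⊤ := (h _).resolve_left (by simpa using hg)
  have : IsCyclic H := ⟨g, fun x => by rw [← Subgroup.mem_zpowers_iff, hz]; exact Subgroup.mem_top x⟩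
  let _ : CommGroup H := { ‹Group H› with mul_comm := IsCyclic.isMulCommutative.is_comm.comm }
  have : IsSimpleGroup H := ⟨fun K _ => h K⟩
  exact IsSimpleGroup.prime_card

/-- In a primitive permutation group, distinct points have distinct stabilisers unless the group is regular of prime degree. -/
theorem result {α : Type*} (G : Subgroup (Equiv.Perm α)) [MulAction.IsPreprimitive G α] (h : ¬ (Nat.card α).Prime ∨ ∃ a : α, MulAction.stabilizer G a ≠ ⊥) {a b : α} (hab : a ≠ b) : MulAction.stabilizer G a ≠ MulAction.stabilizer G b := by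
  intro heq
  have hblock : MulAction.IsBlock G {x : α | MulAction.stabilizer G x = MulAction.stabilizer G a} := by
    rw [MulAction.isBlock_iff_smul_eq_of_nonempty]
    intro g hne
    obtain ⟨y, hy, hy'⟩ := hne
    obtain ⟨x, hx, rfl⟩ := hy
    have h2 : ∀ z : α, MulAction.stabilizer G (g • z) = (MulAction.stabilizer G z).map (MulAut.conj g).toMonoidHom :=
      fun z => MulAction.stabilizer_smul_eq_stabilizer_map_conj g z
    have hga : (MulAction.stabilizer G a).map (MulAut.conj g).toMonoidHom = MulAction.stabilizer G a := by
      simp only [Set.mem_ofPred_eq] at hx hy'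
      rw [h2, hx] at hy'
      exact hy'
    ext z
    rw [Set.mem_smul_set_iff_inv_smul_mem]
    simp only [Set.mem_ofPred_eq]
    have hz := h2 (g⁻¹ • z)
    rw [smul_inv_smul] at hz
    constructor
    · intro h'
      rw [hz, h', hga]
    · intro h'
      apply Subgroup.map_injective (f := (MulAut.conj g).toMonoidHom) (MulAut.conj g).injective
      rw [← hz, h', hga]
  rcases MulAction.IsPreprimitive.isTrivialBlock_of_isBlock hblock with hs | hs
  · exact hab (hs (show a ∈ _ from rfl) (show b ∈ _ from heq.symm))
  have hall : ∀ x : α, MulAction.stabilizer G x = MulAction.stabilizer G a := fun x => by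
    have : x ∈ ({x : α | MulAction.stabilizer G x = MulAction.stabilizer G a}) := hs ▸ Set.mem_univ x
    exact this
  have hbot : ∀ x : α, MulAction.stabilizer G x = ⊥ := fun x => by
    rw [eq_bot_iff]
    intro g hg
    rw [Subgroup.mem_bot]
    refine Subtype.ext (Equiv.ext fun y => ?_)
    rw [hall x, ← hall y] at hg
    exact hg
  rcases h with h | ⟨c, hc⟩
  · apply h
    have : Nontrivial α := ⟨a, b, hab⟩
    have hco := MulAction.IsPreprimitive.isCoatom_stabilizer_of_isPreprimitive G a
    rw [hbot a] at hco
    have hbij : Function.Bijective fun g : G => g • a := ⟨fun g k hgk => by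
        have hm : k⁻¹ * g ∈ MulAction.stabilizer G a := by
          rw [MulAction.mem_stabilizer_iff, mul_smul]; simp only at hgk; rw [hgk, inv_smul_smul]
        rw [hbot a, Subgroup.mem_bot, inv_mul_eq_one] at hm
        exact hm.symm, fun y => MulAction.exists_smul_eq G a y⟩
    rw [← Nat.card_congr (Equiv.ofBijective _ hbij)]
    have : Nontrivial G := (Equiv.ofBijective _ hbij).nontrivial
    exact prime_card_of_simple_lattice fun K => (eq_or_ne K ⊥).imp id fun hK => hco.2 K (bot_lt_iff_ne_bot.2 hK)
  · exact hc (hbot c)

end Cfsg.Agent.S0707
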