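import Mathlib
import Cfsg.Statements.S0709

set_option autoImplicit false
open Cfsg

namespace Cfsg.Agent.S0709
open Equiv

namespace Witt

variable {α : Type*} [Fintype α] [DecidableEq α]

/-- `L ∪ L s L` is a subgroup. -/
theorem mem_double_of_mem_sup {L : Subgroup (Perm α)} {s x : Perm α} (hs2 : s ^ 2 ∈ L)
    (hsLs : ∀ a ∈ L, s * a * s ∈ L ∨ ∃ b ∈ L, ∃ c ∈ L, s * a * s = b * s * c) (hx : x ∈ L ⊔ Subgroup.zpowers s) :
    x ∈ L ∨ ∃ b ∈ L, ∃ c ∈ L, x = b * s * c := by
  let Y : Subgroup (Perm α) :=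
    { carrier := {x | x ∈ L ∨ ∃ b ∈ L, ∃ c ∈ L, x = b * s * c}
      one_mem' := Or.inl L.one_mem
      mul_mem' := by
        rintro x y (hx | ⟨b, hb, c, hc, rfl⟩) (hy | ⟨b', hb', c', hc', rfl⟩)
        · exact Or.inl (L.mul_mem hx hy)
        · exact Or.inr ⟨x * b', L.mul_mem hx hb', c', hc', by group⟩
        · exact Or.inr ⟨b, hb, c * y, L.mul_mem hc hy, by group⟩
        · rcases hsLs _ (L.mul_mem hc hb') with h | ⟨u, hu, v, hv, h⟩
          · left
            rw [show b * s * c * (b' * s * c') = b * (s * (c * b') * s) * c' by group]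
            exact L.mul_mem (L.mul_mem hb h) hc'
          · refine Or.inr ⟨b * u, L.mul_mem hb hu, v * c', L.mul_mem hv hc', ?_⟩
            rw [show b * s * c * (b' * s * c') = b * (s * (c * b') * s) * c' by group, h]
            group
      inv_mem' := by
        rintro x (hx | ⟨b, hb, c, hc, rfl⟩)
        · exact Or.inl (L.inv_mem hx)
        · refine Or.inr ⟨c⁻¹ * (s ^ 2)⁻¹, L.mul_mem (L.inv_mem hc) (L.inv_mem hs2), b⁻¹, L.inv_mem hb, ?_⟩
          rw [sq]; group }
  have hle : L ⊔ Subgroup.zpowers s ≤ Y :=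
    sup_le (fun a ha => Or.inl ha) (Subgroup.zpowers_le.2 (Or.inr ⟨1, L.one_mem, 1, L.one_mem, by simp⟩))
  exact hle hx

theorem conj_stable {L : Subgroup (Perm α)} {s : Perm α} (h : ∀ a ∈ L, s * a * s⁻¹ ∈ L) {a : Perm α} (ha : a ∈ L) :
    s⁻¹ * a * s ∈ L := by
  have heq : L.map (MulAut.conj s).toMonoidHom = L := by
    refine Subgroup.eq_of_le_of_card_ge (by rintro _ ⟨b, hb, rfl⟩; exact h b hb) ?_
    rw [Nat.card_congr (Subgroup.equivMapOfInjective L (MulAut.conj s).toMonoidHom (MulAut.conj s).injective).toEquiv]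
  rw [← heq] at ha
  obtain ⟨b, hb, rfl⟩ := ha
  simpa [mul_assoc] using hb

/-- The chain of groups. -/
def chain (G K : Subgroup (Perm α)) (s : ℕ → Perm α) : ℕ → Subgroup (Perm α)
  | 0 => K
  | 1 => G
  | (m + 2) => chain G K s (m + 1) ⊔ Subgroup.zpowers (s (m + 2))

end Witt


/-- Witt's Lemma for constructing transitive extensions. Points `q 1, …, q t` (`t ≥ 2`) of a finite set are given; `G` fixes `q i` for `i ≥ 3` and is doubly transitive on the remaining points; `s 1 ∈ G` swaps `q 1, q 2`; for `2 ≤ i ≤ t-1`, `s i` swaps `q i, q (i+1)` and fixes the other `q j`; with `H` the stabiliser of `q 1, q 2` in `G`: `s i ^ 2 ∈ H`, `(s i * s (i+1)) ^ 3 ∈ H`, `(s i * s j) ^ 2 ∈ H` for `j ≥ i + 2`, and `s i` (`i ≥ 2`) normalises the stabiliser of `q 2` in `G`. Then `G` and the `s i` generate a `t`-transitive group whose pointwise stabiliser of the `q`'s is `H`. -/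
theorem result {α : Type*} [Fintype α] [DecidableEq α] (t : ℕ) (ht : 2 ≤ t) (q : ℕ → α) (hq : ∀ i j : ℕ, 1 ≤ i → i ≤ t → 1 ≤ j → j ≤ t → q i = q j → i = j) (G : Subgroup (Equiv.Perm α)) (hfix : ∀ g ∈ G, ∀ i : ℕ, 3 ≤ i → i ≤ t → g (q i) = q i) (h2 : ∀ a b c d : α, (∀ i, 3 ≤ i → i ≤ t → a ≠ q i ∧ b ≠ q i ∧ c ≠ q i ∧ d ≠ q i) → a ≠ b → c ≠ d → ∃ g ∈ G, g a = c ∧ g b = d) (s : ℕ → Equiv.Perm α) (hs1 : s 1 ∈ G) (hs1q : s 1 (q 1) = q 2 ∧ s 1 (q 2) = q 1) (hsq : ∀ i : ℕ, 2 ≤ i → i + 1 ≤ t → s i (q i) = q (i + 1) ∧ s i (q (i + 1)) = q i ∧ ∀ j : ℕ, 1 ≤ j → j ≤ t → j ≠ i → j ≠ i + 1 → s i (q j) = q j) (H : Subgroup (Equiv.Perm α)) (hH : H = G ⊓ MulAction.stabilizer (Equiv.Perm α) (q 1) ⊓ MulAction.stabilizer (Equiv.Perm α) (q 2)) (hsq2 : ∀ i : ℕ, 1 ≤ i → i + 1 ≤ t → s i ^ 2 ∈ H) (hbraid : ∀ i : ℕ, 1 ≤ i → i + 2 ≤ t → (s i * s (i + 1)) ^ 3 ∈ H) (hcomm : ∀ i j : ℕ, 1 ≤ i → i + 2 ≤ j → j + 1 ≤ t → (s i * s j) ^ 2 ∈ H ∧ (s j * s i) ^ 2 ∈ H) (hnorm : ∀ i : ℕ,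 2 ≤ i → i + 1 ≤ t → ∀ g ∈ G ⊓ MulAction.stabilizer (Equiv.Perm α) (q 2), s i * g * (s i)⁻¹ ∈ G ⊓ MulAction.stabilizer (Equiv.Perm α) (q 2)) : MulAction.IsMultiplyPretransitive ↥(Subgroup.closure ((G : Set (Equiv.Perm α)) ∪ {x | ∃ i : ℕ, 2 ≤ i ∧ i + 1 ≤ t ∧ x = s i})) α t ∧ Subgroup.closure ((G : Set (Equiv.Perm α)) ∪ {x | ∃ i : ℕ, 2 ≤ i ∧ i + 1 ≤ t ∧ x = s i}) ⊓ fixingSubgroup (Equiv.Perm α) {x | ∃ i : ℕ, 1 ≤ i ∧ i ≤ t ∧ x = q i} = H := by
  classical
  set K := G ⊓ MulAction.stabilizer (Equiv.Perm α) (q 2) with hKdef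
  let L := Witt.chain G K s
  have hKG : K ≤ G := inf_le_left
  have hHK : H ≤ K := by rw [hH]; exact le_inf (inf_le_left.trans inf_le_left) inf_le_right
  have hKq : ∀ g ∈ K, g (q 2) = q 2 := fun g hg => hg.2
  have hL0 : L 0 = K := rfl
  have hL1 : L 1 = G := rfl
  have hmono : ∀ m, L m ≤ L (m + 1) := by
    rintro (_ | m)
    · exact hKG
    · exact le_sup_left
  have hKL : ∀ m, K ≤ L m := by
    intro m; induction m with
    | zero => exact le_rfl
    | succ m ih => exact ih.trans (hmono m)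
  have hHL : ∀ m, H ≤ L m := fun m => hHK.trans (hKL m)
  have hsL : ∀ m, s (m + 1) ∈ L (m + 1) := by
    rintro (_ | m)
    · exact hs1
    · exact Subgroup.mem_sup_right (Subgroup.mem_zpowers _)
  have hsup : ∀ m, L (m + 2) = L (m + 1) ⊔ Subgroup.zpowers (s (m + 2)) := fun m => rfl
  -- swaps
  have hswap : ∀ m, m + 2 ≤ t → s (m + 1) (q (m + 1)) = q (m + 2) ∧ s (m + 1) (q (m + 2)) = q (m + 1) := by
    rintro (_ | m) hm
    · exact hs1q
    · obtain ⟨h1, h2', -⟩ := hsq (m + 2) (by omega) (by omega)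
      exact ⟨h1, h2'⟩
  -- the double coset decomposition and the normalising property
  have hdec0 : ∀ x ∈ L 1, x ∈ L 0 ∨ ∃ b ∈ L 0, ∃ c ∈ L 0, x = b * s 1 * c := by
    intro g hg
    rw [hL1] at hg
    by_cases hgq : g (q 2) = q 2
    · exact Or.inl ⟨hg, hgq⟩
    refine Or.inr ?_
    have hq12 : q 2 ≠ q 1 := fun e => absurd (hq 2 1 (by omega) ht le_rfl (by omega) e) (by omega)
    obtain ⟨k, hk, hk2, hk1⟩ := h2 (q 2) (q 1) (q 2) (g (q 2)) (fun i hi hit => by
      refine ⟨fun e => absurd (hq 2 i (by omega) ht (by omega) hit e) (by omega),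
        fun e => absurd (hq 1 i le_rfl (by omega) (by omega) hit e) (by omega),
        fun e => absurd (hq 2 i (by omega) ht (by omega) hit e) (by omega), fun e => ?_⟩
      have h3 := hfix g hg i hi hit
      exact absurd (hq 2 i (by omega) ht (by omega) hit (g.injective (e.trans h3.symm))) (by omega))
      hq12 (Ne.symm hgq)
    refine ⟨k, ⟨hk, hk2⟩, (s 1 ^ 2)⁻¹ * (s 1 * k⁻¹ * g), ?_, by rw [sq]; group⟩
    refine K.mul_mem (K.inv_mem (hHK (hsq2 1 le_rfl (by omega)))) ⟨G.mul_mem (G.mul_mem hs1 (G.inv_mem hk)) hg, ?_⟩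
    show (s 1 * k⁻¹ * g) (q 2) = q 2
    rw [Equiv.Perm.mul_apply, Equiv.Perm.mul_apply, ← hk1, Equiv.Perm.inv_eq_iff_eq.2 (rfl : k (q 1) = k (q 1)), hs1q.1]
  have main : ∀ m, m + 1 < t →
      (∀ x ∈ L (m + 1), x ∈ L m ∨ ∃ b ∈ L m, ∃ c ∈ L m, x = b * s (m + 1) * c) ∧
      (∀ j, m + 2 ≤ j → j + 1 ≤ t → ∀ a ∈ L m, s j * a * (s j)⁻¹ ∈ L m) := by
    intro m
    induction m with
    | zero => exact fun _ => ⟨hdec0, fun j hj hjt a ha => hnorm j hj hjt a ha⟩
    | succ m ih =>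
      intro hm
      obtain ⟨hdec, hN⟩ := ih (by omega)
      have hN' : ∀ j, m + 3 ≤ j → j + 1 ≤ t → ∀ a ∈ L (m + 1), s j * a * (s j)⁻¹ ∈ L (m + 1) := by
        intro j hj hjt a ha
        rcases hdec a ha with h | ⟨b, hb, c, hc, rfl⟩
        · exact hmono m (hN j (by omega) hjt a h)
        · have e : s j * s (m + 1) * (s j)⁻¹ ∈ L (m + 1) := by
            have hh := hHL (m + 1) (hcomm (m + 1) j (by omega) (by omega) hjt).1
            have h2' := hHL (m + 1) (hsq2 j (by omega) hjt)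
            have := (L (m + 1)).mul_mem ((L (m + 1)).mul_mem ((L (m + 1)).inv_mem (hsL m)) hh)
              ((L (m + 1)).inv_mem h2')
            rw [sq, sq] at this
            convert this using 1
            group
          rw [show s j * (b * s (m + 1) * c) * (s j)⁻¹ =
            (s j * b * (s j)⁻¹) * (s j * s (m + 1) * (s j)⁻¹) * (s j * c * (s j)⁻¹) by group]
          exact (L (m + 1)).mul_mem ((L (m + 1)).mul_mem (hmono m (hN j (by omega) hjt b hb)) e)
            (hmono m (hN j (by omega) hjt c hc))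
      refine ⟨fun x hx => ?_, hN'⟩
      rw [hsup] at hx
      refine Witt.mem_double_of_mem_sup (hHL (m + 1) (hsq2 (m + 2) (by omega) (by omega))) (fun a ha => ?_) hx
      have hNs : ∀ u ∈ L m, s (m + 2) * u * (s (m + 2))⁻¹ ∈ L m := hN (m + 2) le_rfl (by omega)
      rcases hdec a ha with h | ⟨b, hb, c, hc, rfl⟩
      · left
        rw [show s (m + 2) * a * s (m + 2) = (s (m + 2) * a * (s (m + 2))⁻¹) * s (m + 2) ^ 2 by rw [sq]; group]
        exact (L (m + 1)).mul_mem (hmono m (hNs a h)) (hHL (m + 1) (hsq2 (m + 2) (by omega) (by omega)))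
      · right
        refine ⟨(s (m + 2) * b * (s (m + 2))⁻¹) * (s (m + 1))⁻¹ * (s (m + 1) * s (m + 2)) ^ 3 * (s (m + 2) ^ 2)⁻¹, ?_,
          (s (m + 1))⁻¹ * ((s (m + 2))⁻¹ * c * s (m + 2)), ?_, ?_⟩
        · exact (L (m + 1)).mul_mem ((L (m + 1)).mul_mem ((L (m + 1)).mul_mem (hmono m (hNs b hb))
            ((L (m + 1)).inv_mem (hsL m))) (hHL (m + 1) (hbraid (m + 1) (by omega) (by omega))))
            ((L (m + 1)).inv_mem (hHL (m + 1) (hsq2 (m + 2) (by omega) (by omega))))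
        · exact (L (m + 1)).mul_mem ((L (m + 1)).inv_mem (hsL m)) (hmono m (Witt.conj_stable hNs hc))
        · simp only [pow_succ, pow_zero, one_mul]
          group
  -- fixed points of the chain
  have hfixL : ∀ m, m < t → ∀ x ∈ L m, ∀ i, m + 2 ≤ i → i ≤ t → x (q i) = q i := by
    intro m
    induction m with
    | zero =>
      intro _ x hx i hi hit
      rcases eq_or_lt_of_le hi with rfl | hi'
      · exact hx.2
      · exact hfix x hx.1 i (by omega) hit
    | succ m ih =>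
      intro hm x hx i hi hit
      rcases Nat.eq_zero_or_pos m with rfl | hm0
      · exact hfix x hx i (by omega) hit
      rcases (main m hm).1 x hx with h | ⟨b, hb, c, hc, rfl⟩
      · exact ih (by omega) x h i (by omega) hit
      · have hc' := ih (by omega) c hc i (by omega) hit
        have hb' := ih (by omega) b hb i (by omega) hit
        have hs' := (hsq (m + 1) (by omega) (by omega)).2.2 i (by omega) hit (by omega) (by omega)
        rw [Equiv.Perm.mul_apply, Equiv.Perm.mul_apply, hc', hs', hb']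
  -- descent of stabilisers
  have hdesc : ∀ m, m < t → ∀ x ∈ L m, (∀ i, 2 ≤ i → i ≤ m + 1 → x (q i) = q i) → x ∈ K := by
    intro m
    induction m with
    | zero => intro _ x hx _; exact hx
    | succ m ih =>
      intro hm x hx hxq
      rcases (main m hm).1 x hx with h | ⟨b, hb, c, hc, rfl⟩
      · exact ih (by omega) x h fun i hi hi' => hxq i hi (by omega)
      · exfalso
        have h1 := hxq (m + 2) (by omega) le_rfl
        have hc' := hfixL m (by omega) c hc (m + 2) le_rfl (by omega)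
        have hb' := hfixL m (by omega) b hb (m + 2) le_rfl (by omega)
        rw [Equiv.Perm.mul_apply, Equiv.Perm.mul_apply, hc', (hswap m (by omega)).2] at h1
        have h3 := hq _ _ (by omega) (by omega) (by omega) (by omega) (b.injective (h1.trans hb'.symm))
        omega
  -- transitivity along the chain
  have htr : ∀ m, m < t → ∀ a : α, (∀ i, m + 2 ≤ i → i ≤ t → a ≠ q i) → ∃ x ∈ L m, x a = q (m + 1) := by
    intro m
    induction m with
    | zero =>
      intro _ a ha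
      obtain ⟨k, hk, hk2, hk1⟩ := h2 (q 2) a (q 2) (q 1) (fun i hi hit =>
        ⟨fun e => absurd (hq 2 i (by omega) ht (by omega) hit e) (by omega), ha i (by omega) hit,
          fun e => absurd (hq 2 i (by omega) ht (by omega) hit e) (by omega),
          fun e => absurd (hq 1 i le_rfl (by omega) (by omega) hit e) (by omega)⟩)
        (Ne.symm (ha 2 le_rfl ht)) (fun e => absurd (hq 2 1 (by omega) ht le_rfl (by omega) e) (by omega))
      exact ⟨k, ⟨hk, hk2⟩, hk1⟩
    | succ m ih =>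
      intro hm a ha
      by_cases haq : a = q (m + 2)
      · exact ⟨1, (L (m + 1)).one_mem, haq⟩
      obtain ⟨x, hx, hxa⟩ := ih (by omega) a fun i hi hit => by
        rcases eq_or_lt_of_le hi with rfl | hi'
        · exact haq
        · exact ha i (by omega) hit
      exact ⟨s (m + 1) * x, (L (m + 1)).mul_mem (hsL m) (hmono m hx), by
        rw [Equiv.Perm.mul_apply, hxa, (hswap m (by omega)).1]⟩
  have htuple : ∀ m, m < t → ∀ f : ℕ → α, (∀ i j, 1 ≤ i → i ≤ m + 1 → 1 ≤ j → j ≤ m + 1 → f i = f j → i = j) →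
      (∀ i k, 1 ≤ i → i ≤ m + 1 → m + 2 ≤ k → k ≤ t → f i ≠ q k) →
      ∃ x ∈ L m, ∀ i, 1 ≤ i → i ≤ m + 1 → x (f i) = q i := by
    intro m
    induction m with
    | zero =>
      intro hm f _ hfq
      obtain ⟨x, hx, hxa⟩ := htr 0 hm (f 1) fun k hk hkt => hfq 1 k le_rfl le_rfl hk hkt
      exact ⟨x, hx, fun i hi hi' => by obtain rfl : i = 1 := (by omega); exact hxa⟩
    | succ m ih =>
      intro hm f hf hfq
      obtain ⟨y, hy, hya⟩ := htr (m + 1) hm (f (m + 2)) fun k hk hkt => hfq _ k (by omega) le_rfl hk hkt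
      obtain ⟨x, hx, hxf⟩ := ih (by omega) (fun i => y (f i))
        (fun i j hi hi' hj hj' e => hf i j hi (by omega) hj (by omega) (y.injective e))
        (fun i k hi hi' hk hkt => by
          rcases eq_or_lt_of_le hk with rfl | hk'
          · intro e
            have := hf i (m + 2) hi (by omega) (by omega) le_rfl (y.injective (e.trans hya.symm))
            omega
          · intro e
            exact hfq i k hi (by omega) (by omega) hkt (y.injective (e.trans (hfixL (m + 1) hm y hy k (by omega) hkt).symm)))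
      refine ⟨x * y, (L (m + 1)).mul_mem (hmono m hx) hy, fun i hi hi' => ?_⟩
      rw [Equiv.Perm.mul_apply]
      rcases eq_or_lt_of_le hi' with rfl | hi''
      · rw [hya]; exact hfixL m (by omega) x hx (m + 2) le_rfl (by omega)
      · exact hxf i hi (by omega)
  obtain ⟨r, rfl⟩ : ∃ r, t = r + 1 := ⟨t - 1, by omega⟩
  -- the group in question is the top of the chain
  have hW : Subgroup.closure ((G : Set (Equiv.Perm α)) ∪ {x | ∃ i : ℕ, 2 ≤ i ∧ i + 1 ≤ r + 1 ∧ x = s i}) = L r := by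
    have hle : ∀ m, 1 ≤ m → G ≤ L m := by
      intro m hm; induction m, hm using Nat.le_induction with
      | base => exact le_rfl
      | succ m _ ih => exact ih.trans (hmono m)
    have hmono' : ∀ a b, a ≤ b → L a ≤ L b := fun a b h => monotone_nat_of_le_succ hmono h
    refine le_antisymm ((Subgroup.closure_le _).2 ?_) ?_
    · rintro x (hx | ⟨i, hi, hit, rfl⟩)
      · exact hle r (by omega) hx
      · obtain ⟨i', rfl⟩ : ∃ i', i = i' + 1 := ⟨i - 1, by omega⟩
        exact hmono' (i' + 1) r (by omega) (hsL i')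
    · have : ∀ m, m ≤ r → L m ≤ Subgroup.closure ((G : Set (Equiv.Perm α)) ∪ {x | ∃ i : ℕ, 2 ≤ i ∧ i + 1 ≤ r + 1 ∧ x = s i}) := by
        intro m
        induction m with
        | zero => exact fun _ => hKG.trans fun g hg => Subgroup.subset_closure (Or.inl hg)
        | succ m ih =>
          intro hm
          rcases Nat.eq_zero_or_pos m with rfl | hm0
          · exact fun g hg => Subgroup.subset_closure (Or.inl hg)
          · obtain ⟨m', rfl⟩ : ∃ m', m = m' + 1 := ⟨m - 1, by omega⟩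
            rw [hsup]
            exact sup_le (ih (by omega)) (Subgroup.zpowers_le.2 (Subgroup.subset_closure
              (Or.inr ⟨m' + 2, by omega, by omega, rfl⟩)))
      exact this r le_rfl
  rw [hW]
  refine ⟨⟨fun f g => ?_⟩, le_antisymm ?_ ?_⟩
  · have key : ∀ f : Fin (r + 1) ↪ α, ∃ x ∈ L r, ∀ i : Fin (r + 1), x (f i) = q (i.val + 1) := by
      intro f
      obtain ⟨x, hx, hxf⟩ := htuple r (by omega) (fun i => f ⟨(i - 1) % (r + 1), Nat.mod_lt _ (by omega)⟩)
        (fun i j hi hi' hj hj' e => by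
          have := congrArg Fin.val (f.injective e)
          simp only [Nat.mod_eq_of_lt (show i - 1 < r + 1 by omega), Nat.mod_eq_of_lt (show j - 1 < r + 1 by omega)] at this
          omega)
        (fun i k _ _ hk hkt => by omega)
      refine ⟨x, hx, fun i => ?_⟩
      have := hxf (i.val + 1) (by omega) (by omega)
      simpa [Nat.mod_eq_of_lt i.isLt] using this
    obtain ⟨x, hx, hxf⟩ := key f
    obtain ⟨y, hy, hyg⟩ := key g
    refine ⟨⟨y⁻¹ * x, (L r).mul_mem ((L r).inv_mem hy) hx⟩, ?_⟩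
    ext i
    show (y⁻¹ * x) (f i) = g i
    rw [Equiv.Perm.mul_apply, hxf, Equiv.Perm.inv_eq_iff_eq, hyg]
  · rintro x ⟨hx, hxf⟩
    have hfixq : ∀ i, 1 ≤ i → i ≤ r + 1 → x (q i) = q i := fun i hi hit =>
      (mem_fixingSubgroup_iff _).1 hxf (q i) ⟨i, hi, hit, rfl⟩
    obtain ⟨hxG, hx2⟩ := hdesc r (by omega) x hx fun i hi hi' => hfixq i (by omega) hi'
    rw [hH]
    exact ⟨⟨hxG, hfixq 1 le_rfl (by omega)⟩, hx2⟩
  · intro x hx
    refine ⟨hHL r hx, (mem_fixingSubgroup_iff _).2 ?_⟩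
    rintro _ ⟨i, hi, hit, rfl⟩
    rw [hH] at hx
    obtain ⟨⟨hxG, hx1⟩, hx2⟩ := hx
    show x (q i) = q i
    rcases Nat.lt_or_ge i 3 with h | h
    · rcases (show i = 1 ∨ i = 2 by omega) with rfl | rfl
      · exact hx1
      · exact hx2
    · exact hfix x hxG i h hit

end Cfsg.Agent.S0709
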