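import Cfsg.Statements.S0711
import Mathlib.GroupTheory.GroupAction.Jordan
import Mathlib.GroupTheory.Perm.Cycle.Type

set_option autoImplicit false
open Cfsg

namespace Cfsg.Agent.S0711

/-- prescribe images on at most `k` points -/
lemma prescribe {α : Type*} [Fintype α] [DecidableEq α] (G : Subgroup (Equiv.Perm α)) {k : ℕ} (hkn : k ≤ Fintype.card α)
    (hG : MulAction.IsMultiplyPretransitive G α k) (T : Finset α) (hT : T.card ≤ k) (π : Equiv.Perm α) :
    ∃ x ∈ G, ∀ t ∈ T, x t = π t := by
  have : MulAction.IsMultiplyPretransitive G α T.card :=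
    MulAction.isMultiplyPretransitive_of_le hT (by rw [Nat.card_eq_fintype_card]; exact hkn)
  let e : Fin T.card ↪ α := ⟨fun i => (T.equivFin.symm i : α), Subtype.val_injective.comp T.equivFin.symm.injective⟩
  obtain ⟨x, hx⟩ := this.exists_smul_eq e (e.trans π.toEmbedding)
  refine ⟨x.1, x.2, fun t ht => ?_⟩
  have h' : x.1 (e (T.equivFin ⟨t, ht⟩)) = π (e (T.equivFin ⟨t, ht⟩)) := DFunLike.congr_fun hx (T.equivFin ⟨t, ht⟩)
  simpa [e] using h'

lemma conj_eq {α : Type*} [Fintype α] [DecidableEq α] (g x π : Equiv.Perm α) (h : ∀ t ∈ g.support, x t = π t) :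
    x * g * x⁻¹ = π * g * π⁻¹ := by
  refine Equiv.ext fun z => ?_
  simp only [Equiv.Perm.mul_apply]
  by_cases hz : π⁻¹ z ∈ g.support
  · have h1 : x (π⁻¹ z) = z := by rw [h _ hz]; simp
    have h2 : x⁻¹ z = π⁻¹ z := by rw [Equiv.Perm.inv_eq_iff_eq, h1]
    rw [h2, h _ (Equiv.Perm.apply_mem_support.2 hz)]
  · have hx : x⁻¹ z ∉ g.support := fun hxm => by
      apply hz
      have : π (x⁻¹ z) = z := by rw [← h _ hxm]; simp
      rwa [← Equiv.Perm.inv_eq_iff_eq.2 this.symm] at hxm
    rw [Equiv.Perm.notMem_support.1 hz, Equiv.Perm.notMem_support.1 hx]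
    simp

/-- a set of given size with at most one exit -/
lemma exists_segment {α : Type*} [Fintype α] [DecidableEq α] (g : Equiv.Perm α) : ∀ j, j ≤ g.support.card →
    ∃ A ⊆ g.support, A.card = j ∧ (A.filter fun a => g a ∉ A).card ≤ 1 := by
  intro j
  induction j with
  | zero => exact fun _ => ⟨∅, Finset.empty_subset _, rfl, by simp⟩
  | succ j ih =>
    intro hj
    obtain ⟨A, hA, hc, hex⟩ := ih (by omega)
    by_cases he : ∃ a ∈ A, g a ∉ A
    · obtain ⟨a, ha, hga⟩ := he
      refine ⟨insert (g a) A, Finset.insert_subset (Equiv.Perm.apply_mem_support.2 (hA ha)) hA,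
        by rw [Finset.card_insert_of_notMem hga, hc], (Finset.card_le_card (t := {g a}) ?_).trans (by simp)⟩
      intro z hz
      simp only [Finset.mem_filter, Finset.mem_insert, not_or] at hz
      rw [Finset.mem_singleton]
      by_contra hne
      have hzA := hz.1.resolve_left hne
      have : z = a := Finset.card_le_one.1 hex z (Finset.mem_filter.2 ⟨hzA, hz.2.2⟩) a (Finset.mem_filter.2 ⟨ha, hga⟩)
      exact hz.2.1 (by rw [this])
    · push Not at he
      obtain ⟨w, hw, hwA⟩ := Finset.exists_mem_notMem_of_card_lt_card (s := A) (t := g.support) (by omega)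
      refine ⟨insert w A, Finset.insert_subset hw hA, by rw [Finset.card_insert_of_notMem hwA, hc],
        (Finset.card_le_card (t := {w}) ?_).trans (by simp)⟩
      intro z hz
      simp only [Finset.mem_filter, Finset.mem_insert, not_or] at hz
      rw [Finset.mem_singleton]
      exact hz.1.resolve_right fun hzA => hz.2.2 (he z hzA)

/-- A `k`-transitive permutation group (`k ≥ 3`) with a non-identity element of support smaller than `2k - 2` contains a non-identity element of support at most 3, and therefore contains the alternating group. -/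
theorem result {α : Type*} [Fintype α] [DecidableEq α] (G : Subgroup (Equiv.Perm α)) {k : ℕ} (hk : 3 ≤ k) (hkn : k ≤ Fintype.card α) (hG : MulAction.IsMultiplyPretransitive G α k) (g : Equiv.Perm α) (hg : g ∈ G) (hg1 : g ≠ 1) (hsupp : g.support.card < 2 * k - 2) : (∃ h : Equiv.Perm α, h ∈ G ∧ h ≠ 1 ∧ h.support.card ≤ 3) ∧ alternatingGroup α ≤ G := by
  classical
  have h2 : MulAction.IsMultiplyPretransitive G α 2 :=
    MulAction.isMultiplyPretransitive_of_le (n := k) (by omega) (by rw [Nat.card_eq_fintype_card]; exact hkn)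
  have hprim : MulAction.IsPreprimitive G α := MulAction.isPreprimitive_of_is_two_pretransitive h2
  suffices hsmall : ∃ h : Equiv.Perm α, h ∈ G ∧ h ≠ 1 ∧ h.support.card ≤ 3 by
    refine ⟨hsmall, ?_⟩
    obtain ⟨h, hG', h1, hc⟩ := hsmall
    have h0 : h.support.card ≠ 0 := by simpa using h1
    have h1' := h.card_support_ne_one
    rcases (by omega : h.support.card = 2 ∨ h.support.card = 3) with hc' | hc'
    · rw [Equiv.Perm.subgroup_eq_top_of_isPreprimitive_of_isSwap_mem hprim h (Equiv.Perm.card_support_eq_two.1 hc') hG']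
      exact le_top
    · exact Equiv.Perm.alternatingGroup_le_of_isPreprimitive_of_isThreeCycle_mem hprim
        (card_support_eq_three_iff.1 hc') hG'
  rcases hkn.eq_or_lt with hkn' | hkn'
  · obtain ⟨a, b, hab⟩ : ∃ a b : α, a ≠ b := Fintype.one_lt_card_iff.1 (by omega)
    obtain ⟨x, hx, hxs⟩ := prescribe G hkn hG Finset.univ (by rw [Finset.card_univ]; omega) (Equiv.swap a b)
    have : x = Equiv.swap a b := Equiv.ext fun t => hxs t (Finset.mem_univ t)
    exact ⟨x, hx, this ▸ (fun h => hab (Equiv.swap_eq_one_iff.1 h)), by rw [this, Equiv.Perm.card_support_swap hab]; omega⟩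
  -- minimal support
  have hex : ∃ s, ∃ y : Equiv.Perm α, y ∈ G ∧ y ≠ 1 ∧ y.support.card = s := ⟨_, g, hg, hg1, rfl⟩
  set s := Nat.find hex
  obtain ⟨g, hg', hg1', hgs⟩ := Nat.find_spec hex
  have hs : s < 2 * k - 2 := lt_of_le_of_lt (Nat.find_min' hex ⟨_, hg, hg1, rfl⟩) hsupp
  have hmin : ∀ y ∈ G, y ≠ 1 → s ≤ y.support.card := fun y hy hy1 => Nat.find_min' hex ⟨y, hy, hy1, rfl⟩
  by_contra hno
  push Not at hno
  have hs4 : 4 ≤ s := (hno g hg' hg1').trans_eq hgs
  have hk4 : 4 ≤ k := by omega
  have hgs' : g.support.card = s := hgs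
  have hn : g.support.card ≤ Fintype.card α := Finset.card_le_univ _
  -- commutator with a conjugate
  have comm : ∀ x ∈ G, ∀ a : α, g a ≠ (x * g * x⁻¹) a → ∀ U : Finset α,
      (∀ z, z ∉ U → g z = (x * g * x⁻¹) z) → s ≤ U.card := by
    intro x hx a ha U hU
    have hy : (x * g * x⁻¹)⁻¹ * g ∈ G := mul_mem (inv_mem (mul_mem (mul_mem hx hg') (inv_mem hx))) hg'
    have hy1 : (x * g * x⁻¹)⁻¹ * g ≠ 1 := fun h => ha (by rw [inv_mul_eq_one.1 h])
    refine (hmin _ hy hy1).trans (Finset.card_le_card fun z hz => ?_)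
    by_contra hzU
    refine Equiv.Perm.mem_support.1 hz ?_
    rw [Equiv.Perm.mul_apply, hU z hzU, Equiv.Perm.inv_def, Equiv.symm_apply_apply]
  rcases Nat.lt_or_ge k g.support.card with hks | hks
  swap
  · -- all of the support can be prescribed
    by_cases hcyc : ∃ b, g (g b) ≠ b
    · obtain ⟨b, hb⟩ := hcyc
      have hgb : g b ≠ b := fun h => hb (by rw [h, h])
      obtain ⟨x, hx, hxs⟩ := prescribe G hkn hG g.support hks (Equiv.swap b (g b))
      have he := conj_eq g x _ hxs
      have := comm x hx b (by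
        rw [he, Equiv.swap_inv, Equiv.Perm.mul_apply, Equiv.Perm.mul_apply, Equiv.swap_apply_left,
          Equiv.swap_apply_of_ne_of_ne hb (fun h => hgb (g.injective h))]
        exact fun h => hgb (g.injective h).symm) {b, g b, g⁻¹ b} ?_
      · have := this.trans (Finset.card_le_three (a := b) (b := g b) (c := g⁻¹ b))
        omega
      · intro z hz
        simp only [Finset.mem_insert, Finset.mem_singleton, not_or] at hz
        rw [he, Equiv.swap_inv, Equiv.Perm.mul_apply, Equiv.Perm.mul_apply, Equiv.swap_apply_of_ne_of_ne hz.1 hz.2.1,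
          Equiv.swap_apply_of_ne_of_ne]
        · exact fun h => hz.2.2 (by rw [← h]; simp)
        · exact fun h => hz.1 (g.injective h)
    · push Not at hcyc
      have hne : g.support.Nonempty := Finset.card_pos.1 (by omega)
      obtain ⟨b, hb⟩ := hne
      obtain ⟨c, hc, hc'⟩ := Finset.exists_mem_notMem_of_card_lt_card (s := ({b, g b} : Finset α)) (t := g.support)
        (lt_of_le_of_lt Finset.card_le_two (by omega))
      simp only [Finset.mem_insert, Finset.mem_singleton, not_or] at hc'
      have hgb := Equiv.Perm.mem_support.1 hb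
      have hgc := Equiv.Perm.mem_support.1 hc
      have hgcb : g c ≠ b := fun h => hc'.2 (by rw [← h, hcyc])
      have hgcgb : g c ≠ g b := fun h => hc'.1 (g.injective h)
      obtain ⟨x, hx, hxs⟩ := prescribe G hkn hG g.support hks (Equiv.swap b c)
      have he := conj_eq g x _ hxs
      have hs4' : s = 4 := by
        refine le_antisymm ((comm x hx b ?_ {b, c, g b, g c} ?_).trans Finset.card_le_four) hs4
        · rw [he, Equiv.swap_inv, Equiv.Perm.mul_apply, Equiv.Perm.mul_apply, Equiv.swap_apply_left,
            Equiv.swap_apply_of_ne_of_ne hgcb hgc]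
          exact fun h => hgcgb h.symm
        · intro z hz
          simp only [Finset.mem_insert, Finset.mem_singleton, not_or] at hz
          rw [he, Equiv.swap_inv, Equiv.Perm.mul_apply, Equiv.Perm.mul_apply, Equiv.swap_apply_of_ne_of_ne hz.1 hz.2.1,
            Equiv.swap_apply_of_ne_of_ne]
          · exact fun h => hz.2.2.1 (by rw [← h, hcyc])
          · exact fun h => hz.2.2.2 (by rw [← h, hcyc])
      obtain ⟨f, -, hf⟩ := Finset.exists_mem_notMem_of_card_lt_card (s := g.support) (t := Finset.univ)
        (by rw [Finset.card_univ]; omega)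
      have hgf : g f = f := Equiv.Perm.notMem_support.1 hf
      obtain ⟨x2, hx2, hxs2⟩ := prescribe G hkn hG g.support hks (Equiv.swap (g c) f)
      have he2 := conj_eq g x2 _ hxs2
      have hcf : c ≠ f := fun h => hf (h ▸ hc)
      have := comm x2 hx2 c (by
        rw [he2, Equiv.swap_inv, Equiv.Perm.mul_apply, Equiv.Perm.mul_apply, Equiv.swap_apply_of_ne_of_ne (Ne.symm hgc) hcf,
          Equiv.swap_apply_left]
        exact fun h => hf (h ▸ Equiv.Perm.apply_mem_support.2 hc)) {c, g c, f} ?_
      · have := this.trans (Finset.card_le_three (a := c) (b := g c) (c := f))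
        omega
      · intro z hz
        simp only [Finset.mem_insert, Finset.mem_singleton, not_or] at hz
        rw [he2, Equiv.swap_inv, Equiv.Perm.mul_apply, Equiv.Perm.mul_apply, Equiv.swap_apply_of_ne_of_ne hz.2.1 hz.2.2,
          Equiv.swap_apply_of_ne_of_ne]
        · exact fun h => hz.1 (g.injective h)
        · exact fun h => hz.2.2 (g.injective (h.trans hgf.symm))
  have fixb : ∀ (A : Finset α) (b c : α), A.card + 1 ≤ k → b ∉ A → c ∉ A → ∃ x ∈ G, (∀ a ∈ A, x a = a) ∧ x b = c := by
    intro A b c hA hb hc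
    obtain ⟨x, hx, hxs⟩ := prescribe G hkn hG (insert b A) (by rw [Finset.card_insert_of_notMem hb]; omega) (Equiv.swap b c)
    refine ⟨x, hx, fun a ha => ?_, by rw [hxs b (Finset.mem_insert_self _ _), Equiv.swap_apply_left]⟩
    rw [hxs a (Finset.mem_insert_of_mem ha), Equiv.swap_apply_of_ne_of_ne (fun h : a = b => hb (h ▸ ha)) (fun h : a = c => hc (h ▸ ha))]
  have happ : ∀ (x : Equiv.Perm α) (t : α), (x * g * x⁻¹) (x t) = x (g t) := fun x t => by simp
  rcases hn.eq_or_lt with hsn | hsn
  · -- full support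
    have hall : ∀ z, g z ≠ z := fun z => Equiv.Perm.mem_support.1 (Finset.eq_univ_of_card _ hsn ▸ Finset.mem_univ z)
    obtain ⟨a0⟩ : Nonempty α := Fintype.card_pos_iff.1 (by omega)
    obtain ⟨A, ex, b, hAc, ha0, hga0, hex', hbA⟩ : ∃ (A : Finset α) (ex b : α),
        A.card ≤ 3 ∧ a0 ∈ A ∧ g a0 ∈ A ∧ (ex ∈ A ∧ g ex = b) ∧ b ∉ A := by
      by_cases h2c : g (g a0) = a0
      · obtain ⟨d, -, hd⟩ := Finset.exists_mem_notMem_of_card_lt_card (s := ({a0, g a0} : Finset α)) (t := Finset.univ)
          (lt_of_le_of_lt Finset.card_le_two (by rw [Finset.card_univ]; omega))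
        simp only [Finset.mem_insert, Finset.mem_singleton, not_or] at hd
        refine ⟨{a0, g a0, d}, d, g d, Finset.card_le_three, by simp, by simp, ⟨by simp, rfl⟩, ?_⟩
        simp only [Finset.mem_insert, Finset.mem_singleton, not_or]
        exact ⟨fun h => hd.2 (g.injective (h.trans h2c.symm)), fun h => hd.1 (g.injective h), hall d⟩
      · refine ⟨{a0, g a0}, g a0, g (g a0), Finset.card_le_two.trans (by omega), by simp, by simp, ⟨by simp, rfl⟩, ?_⟩
        simp only [Finset.mem_insert, Finset.mem_singleton, not_or]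
        exact ⟨h2c, hall _⟩
    obtain ⟨c, -, hc⟩ := Finset.exists_mem_notMem_of_card_lt_card (s := insert b A) (t := Finset.univ)
      (lt_of_le_of_lt (Finset.card_insert_le _ _) (by rw [Finset.card_univ]; omega))
    simp only [Finset.mem_insert, not_or] at hc
    obtain ⟨x, hx, hxA, hxb⟩ := fixb A b c (by omega) hbA hc.2
    have := comm x hx ex (by
      have h := happ x ex
      rw [hxA ex hex'.1, hex'.2, hxb] at h
      rw [h, hex'.2]; exact fun e => hc.1 e.symm) (Finset.univ.erase a0) (fun z hz => by
        obtain rfl : z = a0 := by simpa using hz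
        have h := happ x z
        rw [hxA z ha0, hxA _ hga0] at h
        exact h.symm)
    rw [Finset.card_erase_of_mem (Finset.mem_univ _), Finset.card_univ] at this
    omega
  obtain ⟨A, hA, hAc, hexit⟩ := exists_segment g (k - 1) (by omega)
  have bound : ∀ (x : Equiv.Perm α) (I F : Finset α), I ⊆ g.support → (∀ z ∈ I, z ∈ (x * g * x⁻¹).support) → F ⊆ g.support →
      (∀ z ∈ F, g z = (x * g * x⁻¹) z) → x ∈ G → (∃ a, g a ≠ (x * g * x⁻¹) a) → s + I.card + F.card ≤ 2 * s := by
    intro x I F hI hI' hF hF' hx hne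
    obtain ⟨a, ha⟩ := hne
    have h := comm x hx a ha ((g.support ∪ (x * g * x⁻¹).support) \ F) (fun z hz => by
      by_cases hzF : z ∈ F
      · exact hF' z hzF
      · simp only [Finset.mem_sdiff, Finset.mem_union] at hz
        push Not at hz
        have hz' : z ∉ g.support ∧ z ∉ (x * g * x⁻¹).support :=
          ⟨fun h => hzF (hz (Or.inl h)), fun h => hzF (hz (Or.inr h))⟩
        rw [Equiv.Perm.notMem_support.1 hz'.1, Equiv.Perm.notMem_support.1 hz'.2])
    rw [Finset.card_sdiff_of_subset (hF.trans Finset.subset_union_left)] at h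
    have h1 := Finset.card_union_add_card_inter g.support (x * g * x⁻¹).support
    have h2 : I.card ≤ (g.support ∩ (x * g * x⁻¹).support).card :=
      Finset.card_le_card fun z hz => Finset.mem_inter.2 ⟨hI hz, hI' z hz⟩
    have h3 : (x * g * x⁻¹).support.card = s := by rw [Equiv.Perm.card_support_conj, hgs']
    have h4 : F.card ≤ (g.support ∪ (x * g * x⁻¹).support).card := Finset.card_le_card (hF.trans Finset.subset_union_left)
    omega
  have hmemx : ∀ (x : Equiv.Perm α) (t : α), t ∈ g.support → x t ∈ (x * g * x⁻¹).support := fun x t ht => by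
    rw [Equiv.Perm.mem_support, happ]
    exact fun h => Equiv.Perm.mem_support.1 ht (x.injective h)
  by_cases hE : ∃ a ∈ A, g a ∉ A
  · obtain ⟨a, ha, hga⟩ := hE
    obtain ⟨c, hc, hc'⟩ := Finset.exists_mem_notMem_of_card_lt_card (s := insert (g a) A) (t := g.support)
      (lt_of_le_of_lt (Finset.card_insert_le _ _) (by omega))
    simp only [Finset.mem_insert, not_or] at hc'
    obtain ⟨x, hx, hxA, hxb⟩ := fixb A (g a) c (by omega) hga hc'.2
    have := bound x (insert c A) (A.erase a) (Finset.insert_subset hc hA) (fun z hz => by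
        rcases Finset.mem_insert.1 hz with rfl | hz
        · rw [← hxb]; exact hmemx x _ (Equiv.Perm.apply_mem_support.2 (hA ha))
        · rw [← hxA z hz]; exact hmemx x _ (hA hz))
      ((Finset.erase_subset _ _).trans hA) (fun z hz => by
        obtain ⟨hza, hzA⟩ := Finset.mem_erase.1 hz
        have hgz : g z ∈ A := by
          by_contra hh
          exact hza (Finset.card_le_one.1 hexit z (Finset.mem_filter.2 ⟨hzA, hh⟩) a (Finset.mem_filter.2 ⟨ha, hga⟩))
        have h := happ x z
        rw [hxA z hzA, hxA _ hgz] at h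
        exact h.symm) hx ⟨a, by
        have h := happ x a
        rw [hxA a ha, hxb] at h
        rw [h]; exact fun e => hc'.1 e.symm⟩
    rw [Finset.card_insert_of_notMem hc'.2, Finset.card_erase_of_mem ha, hAc] at this
    omega
  · push Not at hE
    obtain ⟨b, hb, hbA⟩ := Finset.exists_mem_notMem_of_card_lt_card (s := A) (t := g.support) (by omega)
    obtain ⟨c, -, hc⟩ := Finset.exists_mem_notMem_of_card_lt_card (s := g.support) (t := Finset.univ)
      (by rw [Finset.card_univ]; omega)
    obtain ⟨x, hx, hxA, hxb⟩ := fixb A b c (by omega) hbA (fun h => hc (hA h))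
    have := bound x A A hA (fun z hz => by rw [← hxA z hz]; exact hmemx x _ (hA hz)) hA (fun z hz => by
        have h := happ x z
        rw [hxA z hz, hxA _ (hE z hz)] at h
        exact h.symm) hx ⟨c, by
        rw [Equiv.Perm.notMem_support.1 hc]
        have := Equiv.Perm.mem_support.1 (hmemx x b hb)
        rw [hxb] at this
        exact Ne.symm this⟩
    omega

end Cfsg.Agent.S0711
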