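import Cfsg.Statements.S0714
import Mathlib.GroupTheory.GroupAction.MultipleTransitivity
import Mathlib.Tactic

set_option autoImplicit false
open Cfsg

namespace Cfsg.Agent.S0714

/-- Over any field, the permutation module of the alternating group of degree at least 5 has exactly four invariant subspaces: zero, the constant functions, the functions with coordinate sum zero, and everything. -/
theorem result {α : Type*} [Fintype α] [DecidableEq α] (hα : 5 ≤ Fintype.card α) {K : Type*} [Field K] (W : Subrepresentation (Cfsg.permRep K (alternatingGroup α) α)) : W.toSubmodule = ⊥ ∨ W = Cfsg.permConstants K (alternatingGroup α) α ∨ W = Cfsg.permSumZero K (alternatingGroup α) α ∨ W.toSubmodule = ⊤ := by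
  classical
  have hσ : ∀ σ : Equiv.Perm α, σ ∈ alternatingGroup α → ∀ f ∈ W.toSubmodule, (fun x => f (σ x)) ∈ W.toSubmodule := by
    intro σ hs f hf
    have := W.apply_mem_toSubmodule ⟨σ⁻¹, inv_mem hs⟩ hf
    exact this
  by_cases hc : ∀ f ∈ W.toSubmodule, ∀ x y, f x = f y
  · have hle : W.toSubmodule ≤ Submodule.span K {fun _ => 1} := fun f hf => by
      rw [Submodule.mem_span_singleton]
      have hne : Nonempty α := Fintype.card_pos_iff.1 (by omega)
      obtain ⟨a⟩ := hne
      exact ⟨f a, funext fun x => by simp [hc f hf x a]⟩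
    by_cases hb : W.toSubmodule = ⊥
    · exact Or.inl hb
    refine Or.inr (Or.inl (Subrepresentation.toSubmodule_injective (le_antisymm hle ?_)))
    obtain ⟨w, hw, hw0⟩ := W.toSubmodule.ne_bot_iff.1 hb
    obtain ⟨c, rfl⟩ := Submodule.mem_span_singleton.1 (hle hw)
    rintro v hv
    obtain ⟨d, rfl⟩ := Submodule.mem_span_singleton.1 hv
    have hc0 : c ≠ 0 := fun h => hw0 (by rw [h, zero_smul])
    have := W.toSubmodule.smul_mem (d * c⁻¹) hw
    rwa [smul_smul, inv_mul_cancel_right₀ hc0] at this
  push Not at hc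
  obtain ⟨f, hf, a, b, hab⟩ := hc
  let δ : α → α → K := fun i j => (Pi.single i 1 : α → K) j
  have hne : a ≠ b := fun e => hab (by rw [e])
  obtain ⟨c, -, hc'⟩ := Finset.exists_mem_notMem_of_card_lt_card (s := ({a, b} : Finset α)) (t := Finset.univ) (by
    have h2 : ({a, b} : Finset α).card ≤ 2 := Finset.card_le_two
    rw [Finset.card_univ]; omega)
  obtain ⟨d, -, hd'⟩ := Finset.exists_mem_notMem_of_card_lt_card (s := ({a, b, c} : Finset α)) (t := Finset.univ) (by
    have h3 : ({a, b, c} : Finset α).card ≤ 3 := Finset.card_le_three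
    rw [Finset.card_univ]; omega)
  obtain ⟨e, -, he'⟩ := Finset.exists_mem_notMem_of_card_lt_card (s := ({a, b, c, d} : Finset α)) (t := Finset.univ) (by
    have h4 : ({a, b, c, d} : Finset α).card ≤ 4 := Finset.card_le_four
    rw [Finset.card_univ]; omega)
  simp only [Finset.mem_insert, Finset.mem_singleton, not_or] at hc' hd' he'
  obtain ⟨hca, hcb⟩ := hc'
  obtain ⟨hda, hdb, hdc⟩ := hd'
  obtain ⟨hea, heb, hec, hed⟩ := he'
  have hba : b ≠ a := hne.symm
  have hac : a ≠ c := Ne.symm hca
  have hbc : b ≠ c := Ne.symm hcb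
  have had : a ≠ d := Ne.symm hda
  have hbd : b ≠ d := Ne.symm hdb
  have hcd : c ≠ d := Ne.symm hdc
  have hae : a ≠ e := Ne.symm hea
  have hbe : b ≠ e := Ne.symm heb
  have hce : c ≠ e := Ne.symm hec
  have hde : d ≠ e := Ne.symm hed
  have swap2 : ∀ i j k l : α, i ≠ j → k ≠ l → Equiv.swap i j * Equiv.swap k l ∈ alternatingGroup α := fun i j k l h h' => by
    simp [Equiv.Perm.mem_alternatingGroup, h, h']
  -- v = u (δa - δb) + w (δc - δd)
  set u := f b - f a
  set w := f d - f c
  have hv : (fun x => u * (δ a x - δ b x) + w * (δ c x - δ d x)) ∈ W.toSubmodule := by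
    have h := W.toSubmodule.sub_mem (hσ _ (swap2 a b c d hne hcd) f hf) hf
    convert h using 1
    funext x
    show _ = f ((Equiv.swap a b * Equiv.swap c d) x) - f x
    simp only [δ, u, w, Equiv.Perm.mul_apply, Pi.single_apply]
    rcases eq_or_ne x a with rfl | hxa
    · simp [*, Equiv.swap_apply_of_ne_of_ne] <;> (try field_simp) <;> ring
    rcases eq_or_ne x b with rfl | hxb
    · simp [*, Equiv.swap_apply_of_ne_of_ne] <;> (try field_simp) <;> ring
    rcases eq_or_ne x c with rfl | hxc
    · simp [*, Equiv.swap_apply_of_ne_of_ne] <;> (try field_simp) <;> ring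
    rcases eq_or_ne x d with rfl | hxd
    · simp [*, Equiv.swap_apply_of_ne_of_ne] <;> (try field_simp) <;> ring
    rcases eq_or_ne x e with rfl | hxe
    · simp [*, Equiv.swap_apply_of_ne_of_ne] <;> (try field_simp) <;> ring
    simp [*, Equiv.swap_apply_of_ne_of_ne]
  have hu : u ≠ 0 := sub_ne_zero.2 (Ne.symm hab)
  have key : ∃ i j, i ≠ j ∧ (fun x => δ i x - δ j x) ∈ W.toSubmodule := by
    rcases eq_or_ne w 0 with hw | hw
    · refine ⟨a, b, hne, ?_⟩
      have := W.toSubmodule.smul_mem u⁻¹ hv
      convert this using 1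
      funext x
      simp [hw, ← mul_assoc, inv_mul_cancel₀ hu]
    · refine ⟨c, a, hca, ?_⟩
      -- x₁ = δc + δe - 2 δd
      have hx : (fun x => δ c x + δ e x - (δ d x + δ d x)) ∈ W.toSubmodule := by
        have h := W.toSubmodule.smul_mem w⁻¹ (W.toSubmodule.add_mem hv (hσ _ (swap2 a b c e hne hce) _ hv))
        convert h using 1
        funext x
        simp only [Pi.smul_apply, Pi.add_apply, smul_eq_mul, δ, Equiv.Perm.mul_apply, Pi.single_apply]
        rcases eq_or_ne x a with rfl | hxa
        · simp [*, Equiv.swap_apply_of_ne_of_ne] <;> (try field_simp) <;> ring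
        rcases eq_or_ne x b with rfl | hxb
        · simp [*, Equiv.swap_apply_of_ne_of_ne] <;> (try field_simp) <;> ring
        rcases eq_or_ne x c with rfl | hxc
        · simp [*, Equiv.swap_apply_of_ne_of_ne] <;> (try field_simp) <;> ring
        rcases eq_or_ne x d with rfl | hxd
        · simp [*, Equiv.swap_apply_of_ne_of_ne] <;> (try field_simp) <;> ring
        rcases eq_or_ne x e with rfl | hxe
        · simp [*, Equiv.swap_apply_of_ne_of_ne] <;> (try field_simp) <;> ring
        simp [*, Equiv.swap_apply_of_ne_of_ne]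
      have h3 : Equiv.swap c a * Equiv.swap c b ∈ alternatingGroup α := swap2 c a c b hca hcb
      have h := W.toSubmodule.sub_mem hx (hσ _ h3 _ hx)
      convert h using 1
      funext x
      simp only [Pi.sub_apply, δ, Equiv.Perm.mul_apply, Pi.single_apply]
      rcases eq_or_ne x a with rfl | hxa
      · simp [*, Equiv.swap_apply_of_ne_of_ne] <;> (try field_simp) <;> ring
      rcases eq_or_ne x b with rfl | hxb
      · simp [*, Equiv.swap_apply_of_ne_of_ne] <;> (try field_simp) <;> ring
      rcases eq_or_ne x c with rfl | hxc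
      · simp [*, Equiv.swap_apply_of_ne_of_ne] <;> (try field_simp) <;> ring
      rcases eq_or_ne x d with rfl | hxd
      · simp [*, Equiv.swap_apply_of_ne_of_ne] <;> (try field_simp) <;> ring
      rcases eq_or_ne x e with rfl | hxe
      · simp [*, Equiv.swap_apply_of_ne_of_ne] <;> (try field_simp) <;> ring
      simp [*, Equiv.swap_apply_of_ne_of_ne]
  obtain ⟨i, j, hij, hd1⟩ := key
  have hall : ∀ i' j', (fun x => δ i' x - δ j' x) ∈ W.toSubmodule := by
    intro i' j'
    rcases eq_or_ne i' j' with rfl | hne'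
    · simp only [sub_self]; exact W.toSubmodule.zero_mem
    have h2 : MulAction.IsMultiplyPretransitive (alternatingGroup α) α 2 :=
      have := alternatingGroup.isMultiplyPretransitive α
      MulAction.isMultiplyPretransitive_of_le (n := Nat.card α - 2) (by rw [Nat.card_eq_fintype_card]; omega) (by omega)
    obtain ⟨g, hg1, hg2⟩ := MulAction.is_two_pretransitive_iff.1 h2 hne' hij
    have := hσ _ g.2 _ hd1
    convert this using 1
    funext x
    have e1 : (g : Equiv.Perm α) i' = i := hg1
    have e2 : (g : Equiv.Perm α) j' = j := hg2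
    simp only [δ, Pi.single_apply, ← e1, ← e2, Equiv.apply_eq_iff_eq]
  have hzero : (Cfsg.permSumZero K (alternatingGroup α) α).toSubmodule ≤ W.toSubmodule := by
    intro v hv
    have hs : ∑ x, v x = 0 := hv
    have : v = ∑ x, v x • fun y => δ x y - δ a y := by
      funext y
      simp [δ, mul_sub, Finset.sum_sub_distrib, ← Finset.sum_mul, hs, Pi.single_apply]
    rw [this]
    exact sum_mem fun x _ => W.toSubmodule.smul_mem _ (hall x a)
  by_cases htop : W.toSubmodule ≤ (Cfsg.permSumZero K (alternatingGroup α) α).toSubmodule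
  · exact Or.inr (Or.inr (Or.inl (Subrepresentation.toSubmodule_injective (le_antisymm htop hzero))))
  refine Or.inr (Or.inr (Or.inr (eq_top_iff.2 fun v _ => ?_)))
  obtain ⟨s, hs, hs0⟩ := SetLike.not_le_iff_exists.1 htop
  have hs0' : ∑ x, s x ≠ 0 := hs0
  have : v - ((∑ x, v x) * (∑ x, s x)⁻¹) • s ∈ W.toSubmodule := hzero (by
    show ∑ x, (v - ((∑ x, v x) * (∑ x, s x)⁻¹) • s) x = 0
    simp [Finset.sum_sub_distrib, ← Finset.mul_sum, inv_mul_cancel_right₀ hs0'])
  simpa using W.toSubmodule.add_mem this (W.toSubmodule.smul_mem ((∑ x, v x) * (∑ x, s x)⁻¹) hs)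

end Cfsg.Agent.S0714
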