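import Mathlib
import Cfsg.Statements.S0715
import Cfsg.Agent.Char.Suborbit

set_option autoImplicit false
open Cfsg

namespace Cfsg.Agent.S0715

/-- If a natural number `f` divides the degree of every non-principal irreducible constituent of the permutation character of a transitive group, then `f` divides every non-trivial subdegree. -/
theorem result {G : Type*} [Group G] [Fintype G] {Ω : Type*} [Fintype Ω] [MulAction G Ω] [MulAction.IsPretransitive G Ω] (f : ℕ) (hf : ∀ χ : G → ℂ, Cfsg.IsIrrCharacter G χ → χ ≠ (fun _ => 1) → Cfsg.classInner (fun g : G => (Nat.card (MulAction.fixedBy Ω g) : ℂ)) χ ≠ 0 → ∃ m : ℕ, χ 1 = (f : ℂ) * m) (a b : Ω) (hab : b ≠ a) : f ∣ Nat.card (MulAction.orbit (MulAction.stabilizer G a) b) := by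
  classical
  set k := Nat.card (MulAction.orbit (MulAction.stabilizer G a) b) with hk
  have hsum := Cfsg.Agent.Char.orbFun_sum_eq (G := G) hab
  -- each term is f times an algebraic integer
  have hterm : ∀ χ : Cfsg.IrrCharacter G, χ ≠ ⟨fun _ => 1, Cfsg.Agent.Char.isIrrCharacter_one⟩ →
      ∃ z : ℂ, IsIntegral ℤ z ∧
        Cfsg.classInner (Cfsg.Agent.Char.orbFun (Cfsg.Agent.Char.orbMat G a b)) (χ : G → ℂ) *
          (χ : G → ℂ) 1 = f * z := by
    intro χ hne
    obtain ⟨hint, h0, -⟩ := Cfsg.Agent.Char.orbital_inner (Cfsg.Agent.Char.orbMat G a b)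
      (Cfsg.Agent.Char.orbMat_inv a b) χ.2
    by_cases hm : Cfsg.classInner (fun g : G => (Nat.card (MulAction.fixedBy Ω g) : ℂ))
        (χ : G → ℂ) = 0
    · exact ⟨0, isIntegral_zero, by rw [h0 hm]; ring⟩
    · obtain ⟨m, hm⟩ := hf _ χ.2 (fun h => hne (Subtype.ext h)) hm
      exact ⟨_, hint.mul (isIntegral_natCast m), by rw [hm]; ring⟩
  choose! z hz hzeq using hterm
  set α := ∑ χ ∈ Finset.univ.erase (⟨fun _ => 1, Cfsg.Agent.Char.isIrrCharacter_one⟩ :
      Cfsg.IrrCharacter G), z χ with hα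
  have hint : IsIntegral ℤ α := IsIntegral.sum _ fun χ hχ => hz χ (Finset.ne_of_mem_erase hχ)
  have heq : (f : ℂ) * α = -(k : ℂ) := by
    rw [hα, Finset.mul_sum, hk, ← hsum]
    exact Finset.sum_congr rfl fun χ hχ => (hzeq χ (Finset.ne_of_mem_erase hχ)).symm
  by_cases hf0 : f = 0
  · subst hf0
    rw [Nat.cast_zero, zero_mul, zero_eq_neg, Nat.cast_eq_zero] at heq
    rw [heq]
  · refine Cfsg.Agent.Char.nat_dvd_of_isIntegral hf0 ?_
    have hfC : (f : ℂ) ≠ 0 := Nat.cast_ne_zero.2 hf0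
    rw [show (k : ℂ) / f = -α by rw [div_eq_iff hfC]; linear_combination heq]
    exact hint.neg

end Cfsg.Agent.S0715
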