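import Mathlib
import Cfsg.Statements.S0716
import Cfsg.Agent.Char.Suborbit
import Cfsg.Agent.S0715

set_option autoImplicit false
open Cfsg

namespace Cfsg.Agent.S0716

/-- (a) If all non-principal irreducible constituents of the permutation character of a transitive group have the same degree `f`, the character is multiplicity-free and all non-trivial subdegrees equal `f`. (b) A transitive group of rank at most 5 has multiplicity-free permutation character. -/
theorem result {G : Type*} [Group G] [Fintype G] {Ω : Type*} [Fintype Ω] [MulAction G Ω] [MulAction.IsPretransitive G Ω] (a : Ω) : ((f : ℕ) → (∀ χ : G → ℂ, Cfsg.IsIrrCharacter G χ → χ ≠ (fun _ => 1) → Cfsg.classInner (fun g : G => (Nat.card (MulAction.fixedBy Ω g) : ℂ)) χ ≠ 0 → χ 1 = f) → (∀ χ : G → ℂ, Cfsg.IsIrrCharacter G χ → Cfsg.classInner (fun g : G => (Nat.card (MulAction.fixedBy Ω g) : ℂ)) χ = 0 ∨ Cfsg.classInner (fun g : G => (Nat.card (MulAction.fixedBy Ω g) : ℂ)) χ = 1) ∧ ∀ b : Ω, b ≠ a → Nat.card (MulAction.orbit (MulAction.stabilizer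 G a) b) = f) ∧ (Nat.card (MulAction.orbitRel.Quotient (MulAction.stabilizer G a) Ω) ≤ 5 → ∀ χ : G → ℂ, Cfsg.IsIrrCharacter G χ → Cfsg.classInner (fun g : G => (Nat.card (MulAction.fixedBy Ω g) : ℂ)) χ = 0 ∨ Cfsg.classInner (fun g : G => (Nat.card (MulAction.fixedBy Ω g) : ℂ)) χ = 1) := by
  classical
  have : Nonempty Ω := ⟨a⟩
  let one : Cfsg.IrrCharacter G := ⟨fun _ => 1, Cfsg.Agent.Char.isIrrCharacter_one⟩
  choose m hm using fun χ : Cfsg.IrrCharacter G =>
    Cfsg.Agent.Char.classInner_isCharacter_eq_natCast (Cfsg.Agent.Char.pi_isCharacter (G := G) (Ω := Ω))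
      (Cfsg.Agent.Char.IsIrr.isCharacter χ.2)
  choose d hd0 hd using fun χ : Cfsg.IrrCharacter G => Cfsg.Agent.Char.IsIrr.degree χ.2
  have hm1 : m one = 1 := by
    have h := hm one
    rw [show ((one : Cfsg.IrrCharacter G) : G → ℂ) = fun _ => (1 : ℂ) from rfl,
      Cfsg.Agent.Char.pi_inner_one] at h
    exact_mod_cast h.symm
  have hd1 : d one = 1 := by
    have h : (1 : ℂ) = d one := hd one
    exact_mod_cast h.symm
  have hπc := Cfsg.Agent.Char.isClassFunction_of_isCharacter
    (Cfsg.Agent.Char.pi_isCharacter (G := G) (Ω := Ω))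
  have hn : Fintype.card Ω = ∑ χ, m χ * d χ := by
    have h := congrFun (Cfsg.Agent.Char.classFun_expansion hπc) 1
    simp only [Finset.sum_apply, Pi.smul_apply, smul_eq_mul, hm, hd] at h
    rw [show Nat.card (MulAction.fixedBy Ω (1 : G)) = Fintype.card Ω by
      simp [Nat.card_eq_fintype_card]] at h
    exact_mod_cast h
  set r := Nat.card (MulAction.orbitRel.Quotient (MulAction.stabilizer G a) Ω) with hr
  have hrsq : r = ∑ χ, m χ * m χ := by
    have h := Cfsg.Agent.Char.classInner_eq_sum hπc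
      (f' := fun g : G => (Nat.card (MulAction.fixedBy Ω g) : ℂ))
    rw [Cfsg.Agent.Char.pi_inner_self a] at h
    simp only [hm] at h
    rw [Finset.sum_congr rfl (fun χ _ => by
      rw [← Cfsg.Agent.Char.classInner_conj_symm (fun g : G => (Nat.card (MulAction.fixedBy Ω g) : ℂ))
        (χ : G → ℂ), hm χ, map_natCast])] at h
    exact_mod_cast h
  have hsum : ∀ F : Cfsg.IrrCharacter G → ℕ, ∑ χ, F χ = F one + ∑ χ ∈ Finset.univ.erase one, F χ :=
    fun F => (Finset.add_sum_erase _ F (Finset.mem_univ one)).symm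
  have partA : ∀ f : ℕ, (∀ χ : Cfsg.IrrCharacter G, χ ≠ one → m χ ≠ 0 → d χ = f) →
      (∀ χ, m χ ≤ 1) ∧
        ∀ b : Ω, b ≠ a → Nat.card (MulAction.orbit (MulAction.stabilizer G a) b) = f := by
    intro f hf
    set E := Finset.univ.erase one with hE
    have hn' : Fintype.card Ω = 1 + f * ∑ χ ∈ E, m χ := by
      rw [hn, hsum, hm1, hd1, Finset.mul_sum]
      refine congrArg _ (Finset.sum_congr rfl fun χ hχ => ?_)
      by_cases h0 : m χ = 0
      · rw [h0]; simp
      · rw [hf χ (Finset.ne_of_mem_erase hχ) h0, mul_comm]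
    have hdvd : ∀ b : Ω, b ≠ a → f ∣ Nat.card (MulAction.orbit (MulAction.stabilizer G a) b) := by
      intro b hb
      refine Cfsg.Agent.S0715.result f (fun χ hχ hne hin => ⟨1, ?_⟩) a b hb
      have h0 : m ⟨χ, hχ⟩ ≠ 0 := fun h => hin (by rw [hm ⟨χ, hχ⟩, h, Nat.cast_zero])
      rw [Nat.cast_one, mul_one, ← hf ⟨χ, hχ⟩ (fun h => hne (congrArg Subtype.val h)) h0]
      exact hd ⟨χ, hχ⟩
    let : Fintype (MulAction.orbitRel.Quotient (MulAction.stabilizer G a) Ω) := Fintype.ofFinite _
    let w0 : MulAction.orbitRel.Quotient (MulAction.stabilizer G a) Ω := Quotient.mk'' a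
    let size := fun w : MulAction.orbitRel.Quotient (MulAction.stabilizer G a) Ω =>
      Nat.card (MulAction.orbit (MulAction.stabilizer G a) (Quotient.out w))
    have hrep : ∀ b : Ω, size (Quotient.mk'' b) =
        Nat.card (MulAction.orbit (MulAction.stabilizer G a) b) := fun b => by
      have h : MulAction.orbit (MulAction.stabilizer G a)
          (Quotient.out (Quotient.mk'' b : MulAction.orbitRel.Quotient (MulAction.stabilizer G a) Ω)) =
            MulAction.orbit (MulAction.stabilizer G a) b :=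
        MulAction.orbit_eq_iff.2 (Quotient.mk_out (s := MulAction.orbitRel _ Ω) b)
      show Nat.card _ = _
      rw [h]
    have hw0 : size w0 = 1 := by
      rw [hrep]
      have : MulAction.orbit (MulAction.stabilizer G a) a = {a} := Set.eq_singleton_iff_unique_mem.2
        ⟨MulAction.mem_orbit_self a, fun y ⟨h, hy⟩ => hy.symm.trans h.2⟩
      rw [this]
      simp
    have hother : ∀ w ∈ Finset.univ.erase w0, f ≤ size w := by
      intro w hw
      induction w using Quotient.inductionOn' with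
      | h b =>
        have hb : b ≠ a := fun h => Finset.ne_of_mem_erase hw (by rw [h])
        rw [hrep]
        have : Nonempty (MulAction.orbit (MulAction.stabilizer G a) b) :=
          ⟨⟨b, MulAction.mem_orbit_self b⟩⟩
        exact Nat.le_of_dvd Nat.card_pos (hdvd b hb)
    have hn2 : Fintype.card Ω = 1 + ∑ w ∈ Finset.univ.erase w0, size w := by
      rw [Cfsg.Agent.Char.card_eq_sum_orbits (G := G) a, ← hw0]
      exact (Finset.add_sum_erase _ size (Finset.mem_univ w0)).symm
    have hcardw : (Finset.univ.erase w0).card = ∑ χ ∈ E, m χ * m χ := by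
      rw [Finset.card_erase_of_mem (Finset.mem_univ _), Finset.card_univ, ← Nat.card_eq_fintype_card,
        ← hr, hrsq, hsum, hm1]
      simp [hE]
    have hge : (∑ χ ∈ E, m χ * m χ) * f ≤ ∑ w ∈ Finset.univ.erase w0, size w := by
      rw [← hcardw, ← smul_eq_mul, ← Finset.sum_const]
      exact Finset.sum_le_sum hother
    have hle : ∀ χ ∈ E, m χ ≤ m χ * m χ := fun χ _ => Nat.le_mul_self _
    by_cases hf0 : f = 0
    · have hz : ∀ χ ∈ E, m χ = 0 := fun χ hχ => by
        by_contra h
        have := hf χ (Finset.ne_of_mem_erase hχ) h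
        have := hd0 χ
        omega
      refine ⟨fun χ => ?_, fun b hb => ?_⟩
      · by_cases h : χ = one
        · rw [h, hm1]
        · rw [hz χ (Finset.mem_erase.2 ⟨h, Finset.mem_univ _⟩)]; omega
      · exfalso
        rw [hf0, zero_mul, add_zero] at hn'
        exact hb (Fintype.card_le_one_iff.1 hn'.le b a)
    · have hS : ∑ χ ∈ E, m χ * m χ ≤ ∑ χ ∈ E, m χ := by
        refine Nat.le_of_mul_le_mul_right ?_ (Nat.pos_of_ne_zero hf0)
        rw [Nat.add_left_cancel (hn2.symm.trans hn')] at hge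
        rw [mul_comm (∑ χ ∈ E, m χ) f]
        exact hge
      have hmeq := (Finset.sum_eq_sum_iff_of_le hle).1
        (le_antisymm (Finset.sum_le_sum hle) hS)
      refine ⟨fun χ => ?_, fun b hb => ?_⟩
      · by_cases h : χ = one
        · rw [h, hm1]
        · have h1 := hmeq χ (Finset.mem_erase.2 ⟨h, Finset.mem_univ _⟩)
          by_contra h2
          have : 2 * m χ ≤ m χ * m χ := Nat.mul_le_mul_right _ (by omega)
          omega
      · have hwb : (Quotient.mk'' b : MulAction.orbitRel.Quotient (MulAction.stabilizer G a) Ω) ∈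
            Finset.univ.erase w0 := by
          refine Finset.mem_erase.2 ⟨fun h => ?_, Finset.mem_univ _⟩
          obtain ⟨g, hg⟩ := (MulAction.orbitRel_apply).1 (Quotient.exact' h)
          exact hb (hg.symm.trans g.2)
        have hseq : ∑ w ∈ Finset.univ.erase w0, f = ∑ w ∈ Finset.univ.erase w0, size w := by
          refine le_antisymm (Finset.sum_le_sum hother) ?_
          rw [Finset.sum_const, smul_eq_mul, hcardw, Nat.add_left_cancel (hn2.symm.trans hn'),
            mul_comm f]
          exact Nat.mul_le_mul_right _ (Finset.sum_le_sum hle)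
        rw [← hrep]
        exact ((Finset.sum_eq_sum_iff_of_le hother).1 hseq _ hwb).symm
  have hgoal : (∀ χ, m χ ≤ 1) → ∀ χ : G → ℂ, Cfsg.IsIrrCharacter G χ →
      Cfsg.classInner (fun g : G => (Nat.card (MulAction.fixedBy Ω g) : ℂ)) χ = 0 ∨
        Cfsg.classInner (fun g : G => (Nat.card (MulAction.fixedBy Ω g) : ℂ)) χ = 1 := by
    intro h χ hχ
    rw [hm ⟨χ, hχ⟩]
    rcases (show m ⟨χ, hχ⟩ = 0 ∨ m ⟨χ, hχ⟩ = 1 by have := h ⟨χ, hχ⟩; omega) with h | h <;>
      simp [h]
  refine ⟨fun f hf => ?_, fun h5 => hgoal fun χ => ?_⟩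
  · have h := partA f fun χ hne h0 => by
      have h1 := hf χ χ.2 (fun h => hne (Subtype.ext h)) (by rw [hm χ]; exact Nat.cast_ne_zero.2 h0)
      rw [hd χ] at h1
      exact_mod_cast h1
    exact ⟨hgoal h.1, h.2⟩
  · by_contra hχ
    have hne : χ ≠ one := fun h => by rw [h, hm1] at hχ; omega
    have hχE : χ ∈ Finset.univ.erase one := Finset.mem_erase.2 ⟨hne, Finset.mem_univ _⟩
    have h4 : 4 ≤ m χ * m χ := Nat.mul_le_mul (show 2 ≤ m χ by omega) (show 2 ≤ m χ by omega)
    have hr' := hrsq
    rw [hsum, hm1, ← Finset.add_sum_erase _ (fun χ => m χ * m χ) hχE] at hr'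
    have hz : ∑ ψ ∈ (Finset.univ.erase one).erase χ, m ψ * m ψ = 0 := by omega
    have hd' : ∀ ψ : Cfsg.IrrCharacter G, ψ ≠ one → m ψ ≠ 0 → d ψ = d χ := fun ψ h1 h0 => by
      by_cases h : ψ = χ
      · rw [h]
      · have := (Finset.sum_eq_zero_iff.1 hz) ψ
          (Finset.mem_erase.2 ⟨h, Finset.mem_erase.2 ⟨h1, Finset.mem_univ _⟩⟩)
        simp [h0] at this
    have := (partA (d χ) hd').1 χ
    omega

end Cfsg.Agent.S0716
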