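import Cfsg.Statements.S0717
import Cfsg.Agent.Char.RealForm
import Cfsg.Agent.Char.Induced
import Cfsg.Agent.S0190
-- import your own Cfsg.Agent.* helpers here

set_option autoImplicit false
open Cfsg

namespace Cfsg.Agent.S0717

/-- All suborbits of a transitive group are self-paired (every pair of points is interchanged by some group element) if and only if the permutation character is multiplicity-free and each of its irreducible constituents is real-valued. -/
theorem result {G : Type*} [Group G] [Fintype G] {Ω : Type*} [Fintype Ω] [MulAction G Ω] [MulAction.IsPretransitive G Ω] : (∀ a b : Ω, ∃ g : G, g • a = b ∧ g • b = a) ↔ ∀ χ : G → ℂ, Cfsg.IsIrrCharacter G χ → Cfsg.classInner (fun g : G => (Nat.card (MulAction.fixedBy Ω g) : ℂ)) χ ≠ 0 → Cfsg.classInner (fun g : G => (Nat.card (MulAction.fixedBy Ω g) : ℂ)) χ = 1 ∧ ∀ g : G, (starRingEnd ℂ) (χ g) = χ g := by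
  classical
  -- pairs swapped and fixed
  have hswap : ∀ a b : Ω, (Finset.univ.filter fun g : G => g • a = b ∧ g • b = a).card ≤
      (Finset.univ.filter fun g : G => g • a = a ∧ g • b = b).card ∧
      ((∃ g : G, g • a = b ∧ g • b = a) →
        (Finset.univ.filter fun g : G => g • a = b ∧ g • b = a).card =
          (Finset.univ.filter fun g : G => g • a = a ∧ g • b = b).card) := by
    intro a b
    have heq : (∃ g : G, g • a = b ∧ g • b = a) →
        (Finset.univ.filter fun g : G => g • a = b ∧ g • b = a).card =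
          (Finset.univ.filter fun g : G => g • a = a ∧ g • b = b).card := by
      rintro ⟨k, hk1, hk2⟩
      rw [← Fintype.card_subtype, ← Fintype.card_subtype]
      refine Fintype.card_congr (Equiv.subtypeEquiv (Equiv.mulLeft k⁻¹) fun g => ?_)
      simp only [Equiv.coe_mulLeft, mul_smul, inv_smul_eq_iff, hk1, hk2]
    refine ⟨?_, heq⟩
    by_cases h : ∃ g : G, g • a = b ∧ g • b = a
    · exact (heq h).le
    · rw [Finset.filter_eq_empty_iff.2 fun g _ hg => h ⟨g, hg⟩]; simp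
  have hsq : ∀ g : G, Nat.card (MulAction.fixedBy Ω (g * g)) =
      (Finset.univ.filter fun p : Ω × Ω => g • p.1 = p.2 ∧ g • p.2 = p.1).card := by
    intro g
    rw [← Fintype.card_subtype, ← Nat.card_eq_fintype_card]
    refine Nat.card_congr
      { toFun := fun a => ⟨(a.1, g • a.1), rfl, by rw [← mul_smul]; exact a.2⟩
        invFun := fun p => ⟨p.1.1, by
          show (g * g) • p.1.1 = p.1.1
          rw [mul_smul, p.2.1, p.2.2]⟩
        left_inv := fun _ => rfl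
        right_inv := fun p => Subtype.ext (Prod.ext rfl p.2.1) }
  have hfix : ∀ g : G, Nat.card (MulAction.fixedBy Ω g) ^ 2 =
      (Finset.univ.filter fun p : Ω × Ω => g • p.1 = p.1 ∧ g • p.2 = p.2).card := by
    intro g
    rw [sq, ← Nat.card_prod, ← Fintype.card_subtype, ← Nat.card_eq_fintype_card]
    exact Nat.card_congr
      { toFun := fun q => ⟨(q.1.1, q.2.1), q.1.2, q.2.2⟩
        invFun := fun p => (⟨p.1.1, p.2.1⟩, ⟨p.1.2, p.2.2⟩)
        left_inv := fun _ => rfl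
        right_inv := fun _ => rfl }
  have hcomb : (∀ a b : Ω, ∃ g : G, g • a = b ∧ g • b = a) ↔
      ∑ g : G, Nat.card (MulAction.fixedBy Ω (g * g)) =
        ∑ g : G, Nat.card (MulAction.fixedBy Ω g) ^ 2 := by
    simp only [hsq, hfix]
    simp only [Finset.card_filter]
    rw [Finset.sum_comm]
    conv_lhs => skip
    conv in (∑ g : G, ∑ p : Ω × Ω, _) => rw [Finset.sum_comm]
    simp only [← Finset.card_filter]
    rw [Finset.sum_eq_sum_iff_of_le fun p _ => (hswap p.1 p.2).1]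
    constructor
    · exact fun h p _ => (hswap p.1 p.2).2 (h p.1 p.2)
    · intro h a b
      have h2 := h (a, b) (Finset.mem_univ _)
      obtain ⟨g, hg⟩ := Finset.card_pos.1 (h2 ▸ Finset.card_pos.2 ⟨1, by simp⟩ :
        0 < (Finset.univ.filter fun g : G => g • a = b ∧ g • b = a).card)
      exact ⟨g, (Finset.mem_filter.1 hg).2⟩
  set π : G → ℂ := fun g => (Nat.card (MulAction.fixedBy Ω g) : ℂ) with hπ
  rcases isEmpty_or_nonempty Ω with hΩ | ⟨⟨x₀⟩⟩
  · refine iff_of_true (fun a => isEmptyElim a) fun χ hχ hne => absurd ?_ hne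
    rw [classInner, Finset.sum_eq_zero fun g _ => ?_, mul_zero]
    simp [hπ, Nat.card_of_isEmpty]
  have hpi : π = indFun (MulAction.stabilizer G x₀) (fun _ => 1) := Cfsg.Agent.S0190.result Ω x₀
  have := Fintype.ofFinite (MulAction.stabilizer G x₀)
  have hchar : IsCharacter G π := hpi ▸ Char.isCharacter_indFun _ Char.isCharacter_one
  obtain ⟨m, hm, he, hnorm⟩ := Char.IsChar.exists_mult hchar
  have hA : (∑ g : G, ((Nat.card (MulAction.fixedBy Ω g) ^ 2 : ℕ) : ℂ)) =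
      (Nat.card G : ℂ) * ((∑ ψ, m ψ ^ 2 : ℕ) : ℂ) := by
    rw [← hnorm, classInner, mul_inv_cancel_left₀ Char.card_ne_zero]
    exact Finset.sum_congr rfl fun g _ => by simp [hπ, sq]
  have hB : (∑ g : G, (Nat.card (MulAction.fixedBy Ω (g * g)) : ℂ)) =
      (Nat.card G : ℂ) * ∑ ψ : IrrCharacter G, (m ψ : ℂ) * Char.fsInd (ψ : G → ℂ) := by
    rw [Finset.mul_sum]
    have h1 : ∀ ψ : IrrCharacter G, (Nat.card G : ℂ) * ((m ψ : ℂ) * Char.fsInd (ψ : G → ℂ)) =
        ∑ g : G, (m ψ : ℂ) * (ψ : G → ℂ) (g * g) := fun ψ => by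
      rw [Char.fsInd, ← Finset.mul_sum, mul_left_comm (m ψ : ℂ),
        mul_inv_cancel_left₀ Char.card_ne_zero]
    rw [Finset.sum_congr rfl fun ψ _ => h1 ψ, Finset.sum_comm]
    refine Finset.sum_congr rfl fun g _ => (congrFun he (g * g)).trans ?_
    simp
  have hiff : (∀ a b : Ω, ∃ g : G, g • a = b ∧ g • b = a) ↔
      ∑ ψ : IrrCharacter G, (m ψ : ℂ) * Char.fsInd (ψ : G → ℂ) = ((∑ ψ, m ψ ^ 2 : ℕ) : ℂ) := by
    rw [hcomb, ← Nat.cast_inj (R := ℂ), Nat.cast_sum, Nat.cast_sum, hA, hB]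
    exact ⟨fun h => mul_left_cancel₀ Char.card_ne_zero h, fun h => by rw [h]⟩
  rw [hiff]
  have hint : ∀ ψ : IrrCharacter G, ∃ ν : ℤ, Char.fsInd (ψ : G → ℂ) = ν ∧ ν ≤ 1 ∧
      ((ν = 0 ∧ Char.conjIrr ψ ≠ ψ) ∨ ((ν = 1 ∨ ν = -1) ∧ Char.conjIrr ψ = ψ)) := by
    intro ψ
    rcases Char.fsInd_irr ψ with ⟨h, h'⟩ | ⟨h | h, h'⟩
    · exact ⟨0, by simpa using h, by norm_num, Or.inl ⟨rfl, h'⟩⟩
    · exact ⟨1, by simpa using h, le_refl _, Or.inr ⟨Or.inl rfl, h'⟩⟩
    · exact ⟨-1, by simpa using h, by norm_num, Or.inr ⟨Or.inr rfl, h'⟩⟩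
  choose ν hν hν1 hν2 using hint
  simp only [hν]
  rw [Nat.cast_sum]
  constructor
  · intro h
    have h' : ∑ ψ, (m ψ : ℤ) * ν ψ = ∑ ψ, (m ψ : ℤ) ^ 2 := by exact_mod_cast h
    have hle : ∀ ψ ∈ (Finset.univ : Finset (IrrCharacter G)), (m ψ : ℤ) * ν ψ ≤ (m ψ : ℤ) ^ 2 := by
      intro ψ _
      rcases Nat.eq_zero_or_pos (m ψ) with h0 | h0
      · simp [h0]
      · rw [sq]
        exact mul_le_mul_of_nonneg_left ((hν1 ψ).trans (by exact_mod_cast h0)) (Nat.cast_nonneg _)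
    have heq := (Finset.sum_eq_sum_iff_of_le hle).1 h'
    intro χ hχ hne
    have h2 := heq ⟨χ, hχ⟩ (Finset.mem_univ _)
    have hm0 : m ⟨χ, hχ⟩ ≠ 0 := fun h0 => hne (by rw [hm ⟨χ, hχ⟩, h0, Nat.cast_zero])
    rw [sq] at h2
    have h3 := mul_left_cancel₀ (by exact_mod_cast hm0 : (m ⟨χ, hχ⟩ : ℤ) ≠ 0) h2
    have h4 := hν1 ⟨χ, hχ⟩
    have hm1 : m ⟨χ, hχ⟩ = 1 := by omega
    refine ⟨by rw [hm ⟨χ, hχ⟩, hm1, Nat.cast_one], fun g => ?_⟩
    rcases hν2 ⟨χ, hχ⟩ with ⟨h0, -⟩ | ⟨-, hreal⟩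
    · omega
    · exact Complex.conj_eq_iff_im.2 ((Char.conjIrr_eq_iff _).1 hreal g)
  · intro h
    push_cast
    refine Finset.sum_congr rfl fun ψ _ => ?_
    by_cases hm0 : m ψ = 0
    · simp [hm0]
    obtain ⟨h1, hr⟩ := h ψ ψ.2 (by rw [hm ψ]; exact_mod_cast hm0)
    have hm1 : m ψ = 1 := by rw [hm ψ] at h1; exact_mod_cast h1
    have him : ∀ g, ((ψ : G → ℂ) g).im = 0 := fun g => Complex.conj_eq_iff_im.1 (hr g)
    have hν' : ν ψ = 1 := by
      rcases hν2 ψ with ⟨-, hc⟩ | ⟨h' | h', -⟩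
      · exact absurd ((Char.conjIrr_eq_iff ψ).2 him) hc
      · exact h'
      · exfalso
        obtain ⟨k, ρ, hρ, hρe⟩ := id ψ.2
        refine Char.fsInd_ne_neg_one ρ hρ (fun g => by rw [hρe]; exact him g)
          (MulAction.stabilizer G x₀) ?_ (by rw [hρe, hν ψ, h']; norm_num)
        rw [hρe, ← Char.classInner_conj_symm, ← Char.classInner_indFun_left _ _
          (Char.isClassFunction_of_isIrr ψ.2), ← hpi, hm ψ, hm1, Nat.cast_one, map_one]
    rw [hm1, hν']; norm_num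

end Cfsg.Agent.S0717
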