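import Cfsg.Statements.S0718
import Cfsg.Agent.Char.Commutant
-- import your own Cfsg.Agent.* helpers here

set_option autoImplicit false
open Cfsg

namespace Cfsg.Agent.S0718

/-- Multiplicity-freeness of the permutation character is equivalent to commutativity of the centraliser ring, i.e. of the algebra of `G`-equivariant endomorphisms of the complex permutation module. -/
theorem result {G : Type*} [Group G] [Fintype G] {Ω : Type*} [Fintype Ω] [MulAction G Ω] : (∀ χ : G → ℂ, Cfsg.IsIrrCharacter G χ → Cfsg.classInner (fun g : G => (Nat.card (MulAction.fixedBy Ω g) : ℂ)) χ = 0 ∨ Cfsg.classInner (fun g : G => (Nat.card (MulAction.fixedBy Ω g) : ℂ)) χ = 1) ↔ ∀ S T : (Ω → ℂ) →ₗ[ℂ] (Ω → ℂ), S ∈ ((Cfsg.permRep ℂ G Ω).linHom (Cfsg.permRep ℂ G Ω)).invariants → T ∈ ((Cfsg.permRep ℂ G Ω).linHom (Cfsg.permRep ℂ G Ω)).invariants → S ∘ₗ T = T ∘ₗ S := by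
  have hchar := Cfsg.Agent.Char.permRep_character (G := G) (Ω := Ω)
  constructor
  · intro h S T hS hT
    have hm : Cfsg.Agent.Char.MultFree (Cfsg.permRep ℂ G Ω).character := fun ψ hψ => by
      rw [hchar]; exact h ψ hψ
    exact Cfsg.Agent.Char.commutantComm_of_multFree _ hm S T
      ((Cfsg.Agent.Char.mem_invariants_linHom_iff _ S).1 hS)
      ((Cfsg.Agent.Char.mem_invariants_linHom_iff _ T).1 hT)
  · intro h χ hχ
    rw [← hchar]
    exact Cfsg.Agent.Char.multFree_of_commutantComm _
      (fun A B hA hB => h A B ((Cfsg.Agent.Char.mem_invariants_linHom_iff _ A).2 hA)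
        ((Cfsg.Agent.Char.mem_invariants_linHom_iff _ B).2 hB)) χ hχ

end Cfsg.Agent.S0718
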