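import Mathlib
import Cfsg.Statements.S0719
import Cfsg.Agent.Char.Suborbit
import Cfsg.Agent.Char.Galois
import Cfsg.Agent.Char.Zero

set_option autoImplicit false
open Cfsg

namespace Cfsg.Agent.S0719
theorem arith (m : ℕ) (k r s : ℤ) (hm : 2 ≤ m) (hk : 2 ≤ k) (hk' : k + 3 ≤ 2 * m)
    (h1 : k + ((m : ℤ) - 1) * r + m * s = 0)
    (h2 : k ^ 2 + ((m : ℤ) - 1) * r ^ 2 + m * s ^ 2 = 2 * m * k) :
    ∃ a : ℕ, 0 < a ∧ m = 2 * a ^ 2 + 2 * a + 1 ∧
      (k = a * (2 * a + 1) ∨ k = (a + 1) * (2 * a + 1)) := by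
  have hm0 : (m : ℤ) ≠ 0 := by positivity
  obtain ⟨u, rfl⟩ : ∃ u, s = u - r := ⟨r + s, by ring⟩
  have hk1 : k = r - m * u := by linear_combination h1
  subst hk1
  have h3 : (2 * r - 2 * u - 1) ^ 2 + (2 * (m : ℤ) - 2) * (u * (u + 2)) = 1 := by
    refine mul_left_cancel₀ hm0 ?_
    linear_combination 2 * h2
  have hu : u * (u + 2) ≤ 0 := by
    by_contra h
    have : 2 ≤ (2 * (m : ℤ) - 2) * (u * (u + 2)) := by nlinarith
    nlinarith [sq_nonneg (2 * r - 2 * u - 1)]
  have hu2 : u = 0 ∨ u = -1 ∨ u = -2 := by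
    have : -2 ≤ u := by nlinarith
    have : u ≤ 0 := by nlinarith
    omega
  rcases hu2 with rfl | rfl | rfl
  · exfalso
    have hr : 2 ≤ r := by linarith
    nlinarith
  · have hm' : (m : ℤ) = 2 * r ^ 2 + 2 * r + 1 := by linarith
    rcases le_or_gt 0 r with hr | hr
    · obtain ⟨a, rfl⟩ : ∃ a : ℕ, r = a := ⟨r.toNat, (Int.toNat_of_nonneg hr).symm⟩
      have hm'' : m = 2 * a ^ 2 + 2 * a + 1 := by exact_mod_cast hm'
      refine ⟨a, ?_, hm'', Or.inr (by rw [hm']; push_cast; ring)⟩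
      rcases Nat.eq_zero_or_pos a with rfl | h
      · simp at hm''; omega
      · exact h
    · obtain ⟨a, rfl⟩ : ∃ a : ℕ, r = -1 - (a : ℤ) :=
        ⟨(-1 - r).toNat, by rw [Int.toNat_of_nonneg (by omega)]; ring⟩
      have hm'' : m = 2 * a ^ 2 + 2 * a + 1 := by
        have : (m : ℤ) = 2 * (a : ℤ) ^ 2 + 2 * a + 1 := by rw [hm']; ring
        exact_mod_cast this
      refine ⟨a, ?_, hm'', Or.inl (by rw [hm']; push_cast; ring)⟩
      rcases Nat.eq_zero_or_pos a with rfl | h
      · simp at hm''; omega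
      · exact h
  · exfalso
    have hr : r ≤ -3 := by linarith
    nlinarith

section

variable {G : Type*} [Group G] [Fintype G] {Ω : Type*} [Fintype Ω] [MulAction G Ω]

/-- A constituent with a degree that occurs once has rational values. -/
theorem exists_rat_constituent {χ₁ χ₂ : G → ℂ} (h₁ : Cfsg.IsIrrCharacter G χ₁)
    (h₂ : Cfsg.IsIrrCharacter G χ₂) (hne : χ₁ 1 ≠ χ₂ 1) (h21 : χ₁ 1 ≠ 1 ∨ χ₁ ≠ fun _ => 1)
    (hπ : ∀ χ, Cfsg.IsIrrCharacter G χ →
      Cfsg.classInner (fun g : G => (Nat.card (MulAction.fixedBy Ω g) : ℂ)) χ ≠ 0 →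
        χ = (fun _ => 1) ∨ χ = χ₁ ∨ χ = χ₂)
    (hin : Cfsg.classInner (fun g : G => (Nat.card (MulAction.fixedBy Ω g) : ℂ)) χ₁ ≠ 0) (g : G) :
    ∃ q : ℚ, χ₁ g = q := by
  refine Cfsg.Agent.Char.IsChar.exists_rat (Cfsg.Agent.Char.IsIrr.isCharacter h₁) g fun k hk => ?_
  have hbij : Function.Bijective (fun g : G => g ^ k) :=
    (powCoprime hk.symm).bijective
  have hfix : ∀ g : G, Nat.card (MulAction.fixedBy Ω (g ^ k)) = Nat.card (MulAction.fixedBy Ω g) := by
    intro g
    refine Nat.card_congr (Equiv.subtypeEquivRight fun x => ⟨fun h => ?_, fun h => ?_⟩)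
    · obtain ⟨l, hl⟩ := exists_pow_eq_self_of_coprime
        (Nat.Coprime.coprime_dvd_right (orderOf_dvd_natCard g) hk)
      have hx : g ^ k ∈ MulAction.stabilizer G x := h
      have := (MulAction.stabilizer G x).pow_mem hx l
      rwa [hl] at this
    · exact (MulAction.stabilizer G x).pow_mem (show g ∈ MulAction.stabilizer G x from h) k
  have hψ := Cfsg.Agent.Char.isIrr_comp_pow k hk h₁
  have hψin : Cfsg.classInner (fun g : G => (Nat.card (MulAction.fixedBy Ω g) : ℂ))
      (fun g => χ₁ (g ^ k)) ≠ 0 := by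
    refine fun h => hin ?_
    rw [← h]
    simp only [Cfsg.classInner]
    refine congrArg _ (Eq.symm ?_)
    refine Fintype.sum_equiv (Equiv.ofBijective _ hbij) _ _ fun g => ?_
    simp only [Equiv.ofBijective_apply, hfix]
  rcases hπ _ hψ hψin with h | h | h
  · exfalso
    have h1 := congrFun h 1
    simp only [one_pow] at h1
    rcases h21 with h21 | h21
    · exact h21 h1
    · refine h21 (funext fun g => ?_)
      obtain ⟨y, rfl⟩ := hbij.2 g
      exact congrFun h y
  · exact congrFun h g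
  · exfalso
    have h1 := congrFun h 1
    simp only [one_pow] at h1
    exact hne h1

/-- Rational-valued constituents give rational coefficients. -/
theorem exists_int_coeff {χ : G → ℂ} (hχ : ∀ g, ∃ q : ℚ, χ g = q) (N : Matrix Ω Ω ℤ)
    (hint : IsIntegral ℤ (Cfsg.classInner (Cfsg.Agent.Char.orbFun N) χ)) :
    ∃ z : ℤ, Cfsg.classInner (Cfsg.Agent.Char.orbFun N) χ = z := by
  choose q hq using hχ
  have h : Cfsg.classInner (Cfsg.Agent.Char.orbFun N) χ =
      (((Nat.card G : ℚ)⁻¹ * ∑ g, ((∑ x, N x (g • x) : ℤ) : ℚ) * q g : ℚ) : ℂ) := by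
    simp only [Cfsg.classInner, Cfsg.Agent.Char.orbFun, hq, map_ratCast]
    push_cast
    rfl
  rw [h] at hint ⊢
  obtain ⟨z, hz⟩ := Cfsg.Agent.Char.exists_int_of_isIntegral_rat hint
  exact ⟨z, by rw [← hz]; push_cast; rfl⟩

end

/-- Groups of Wielandt type: if a primitive group of degree `2m` has rank 3 and permutation character `1 + χ₁ + χ₂` with irreducible `χ₁, χ₂` of degrees `m - 1` and `m`, then `m = 2a² + 2a + 1` for some positive integer `a` and the two non-trivial subdegrees are `a(2a+1)` and `(a+1)(2a+1)`. -/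
theorem result {G : Type*} [Group G] [Fintype G] {Ω : Type*} [Fintype Ω] [MulAction G Ω] (hprim : MulAction.IsPreprimitive G Ω) {m : ℕ} (hm : Fintype.card Ω = 2 * m) (a₀ : Ω) (hrank : Nat.card (MulAction.orbitRel.Quotient (MulAction.stabilizer G a₀) Ω) = 3) (χ₁ χ₂ : G → ℂ) (h₁ : Cfsg.IsIrrCharacter G χ₁) (h₂ : Cfsg.IsIrrCharacter G χ₂) (hπ : (fun g : G => (Nat.card (MulAction.fixedBy Ω g) : ℂ)) = fun g => 1 + χ₁ g + χ₂ g) (hd₁ : χ₁ 1 = (m : ℂ) - 1) (hd₂ : χ₂ 1 = m) : ∃ a : ℕ, 0 < a ∧ m = 2 * a ^ 2 + 2 * a + 1 ∧ ∀ b : Ω, b ≠ a₀ → Nat.card (MulAction.orbit (MulAction.stabilizer G a₀) b) = a * (2 * a + 1) ∨ Nat.card (MulAction.orbit (MulAction.stabilizer G a₀) b) = (a + 1) * (2 * a + 1) := by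
  classical
  have hb2 : ∃ m' : ℕ, 2 ≤ m ∧ (m' : ℂ) = χ₁ 1 := by
    obtain ⟨d, hd0, hd⟩ := Cfsg.Agent.Char.IsIrr.degree h₁
    refine ⟨d, ?_, hd.symm⟩
    rw [hd₁] at hd
    have h : (m : ℂ) = ((d + 1 : ℕ) : ℂ) := by push_cast; linear_combination hd
    have h' : m = d + 1 := Nat.cast_injective h
    omega
  obtain ⟨-, hm2, -⟩ := hb2
  have := hprim
  have : Nonempty Ω := ⟨a₀⟩
  have : Nontrivial Ω := Fintype.one_lt_card_iff_nontrivial.1 (by omega)
  set π := fun g : G => (Nat.card (MulAction.fixedBy Ω g) : ℂ) with hπdef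
  have hπ' : π = (fun _ : G => (1 : ℂ)) + χ₁ + χ₂ := hπ
  have hne12 : χ₁ ≠ χ₂ := fun h => by
    have h' := congrFun h 1
    rw [hd₁, hd₂] at h'
    simp at h'
  have hne2 : χ₂ ≠ fun _ => 1 := fun h => by
    have h' := congrFun h 1
    rw [hd₂] at h'
    have : m = 1 := by exact_mod_cast h'
    omega
  have hne1 : χ₁ ≠ fun _ => 1 := fun h => by
    have h' := Cfsg.Agent.Char.pi_inner_one (G := G) (Ω := Ω)
    rw [← hπdef, hπ', Cfsg.Agent.Char.classInner_add_left, Cfsg.Agent.Char.classInner_add_left,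
      ← h, Cfsg.Agent.Char.classInner_irr_self h₁,
      Cfsg.Agent.Char.classInner_irr_ne h₂ h₁ hne12.symm] at h'
    norm_num at h'
  have hπ0 : ∀ χ, Cfsg.IsIrrCharacter G χ → χ ≠ (fun _ => 1) → χ ≠ χ₁ → χ ≠ χ₂ →
      Cfsg.classInner π χ = 0 := fun χ hχ e0 e1 e2 => by
    rw [hπ', Cfsg.Agent.Char.classInner_add_left, Cfsg.Agent.Char.classInner_add_left,
      Cfsg.Agent.Char.classInner_irr_ne Cfsg.Agent.Char.isIrrCharacter_one hχ (Ne.symm e0),
      Cfsg.Agent.Char.classInner_irr_ne h₁ hχ (Ne.symm e1),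
      Cfsg.Agent.Char.classInner_irr_ne h₂ hχ (Ne.symm e2)]
    simp
  have hπ1 : Cfsg.classInner π χ₁ = 1 := by
    rw [hπ', Cfsg.Agent.Char.classInner_add_left, Cfsg.Agent.Char.classInner_add_left,
      Cfsg.Agent.Char.classInner_irr_ne Cfsg.Agent.Char.isIrrCharacter_one h₁ (Ne.symm hne1),
      Cfsg.Agent.Char.classInner_irr_self h₁, Cfsg.Agent.Char.classInner_irr_ne h₂ h₁ hne12.symm]
    simp
  have hπ2 : Cfsg.classInner π χ₂ = 1 := by
    rw [hπ', Cfsg.Agent.Char.classInner_add_left, Cfsg.Agent.Char.classInner_add_left,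
      Cfsg.Agent.Char.classInner_irr_ne Cfsg.Agent.Char.isIrrCharacter_one h₂ (Ne.symm hne2),
      Cfsg.Agent.Char.classInner_irr_self h₂, Cfsg.Agent.Char.classInner_irr_ne h₁ h₂ hne12]
    simp
  have hcons : ∀ χ, Cfsg.IsIrrCharacter G χ → Cfsg.classInner π χ ≠ 0 →
      χ = (fun _ => 1) ∨ χ = χ₁ ∨ χ = χ₂ := fun χ hχ h => by
    by_contra h'
    push Not at h'
    exact h (hπ0 χ hχ h'.1 h'.2.1 h'.2.2)
  have hdne : χ₁ 1 ≠ χ₂ 1 := fun h => by rw [hd₁, hd₂] at h; simp at h
  have hr1 := fun g => exists_rat_constituent (Ω := Ω) h₁ h₂ hdne (Or.inr hne1) hcons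
    (by rw [← hπdef, hπ1]; exact one_ne_zero) g
  have hr2 := fun g => exists_rat_constituent (Ω := Ω) h₂ h₁ hdne.symm (Or.inr hne2)
    (fun χ hχ h => by rcases hcons χ hχ h with h | h | h <;> simp [h])
    (by rw [← hπdef, hπ2]; exact one_ne_zero) g
  let H := MulAction.stabilizer G a₀
  let : Fintype (MulAction.orbitRel.Quotient H Ω) := Fintype.ofFinite _
  let cl : Ω → MulAction.orbitRel.Quotient H Ω := fun x => Quotient.mk'' x
  have hclmem : ∀ x y, cl x = cl y ↔ x ∈ MulAction.orbit H y := fun x y =>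
    ⟨fun h => Quotient.exact' h, fun h => Quotient.sound' h⟩
  have hcla : ∀ y, cl y = cl a₀ → y = a₀ := fun y h => by
    obtain ⟨g, hg⟩ := (hclmem y a₀).1 h
    exact hg.symm.trans g.2
  have hthree : ∀ p q : Ω, p ≠ a₀ → q ≠ a₀ → cl q ≠ cl p → ∀ y,
      cl y = cl a₀ ∨ cl y = cl p ∨ cl y = cl q := by
    intro p q hp hq hpq y
    by_contra h
    push Not at h
    have hc : ({cl a₀, cl p, cl q, cl y} : Finset (MulAction.orbitRel.Quotient H Ω)).card = 4 := by
      rw [Finset.card_insert_of_notMem, Finset.card_insert_of_notMem, Finset.card_pair h.2.2.symm]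
      · simp only [Finset.mem_insert, Finset.mem_singleton]
        push Not
        exact ⟨hpq.symm, h.2.1.symm⟩
      · simp only [Finset.mem_insert, Finset.mem_singleton]
        push Not
        exact ⟨fun e => hp (hcla p e.symm), fun e => hq (hcla q e.symm), h.1.symm⟩
    have h4 := Finset.card_le_univ ({cl a₀, cl p, cl q, cl y} :
      Finset (MulAction.orbitRel.Quotient H Ω))
    rw [hc, ← Nat.card_eq_fintype_card] at h4
    exact absurd (hrank ▸ h4) (by omega)
  -- no suborbit of size one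
  have hnotone : ∀ p : Ω, p ≠ a₀ → 2 ≤ Nat.card (MulAction.orbit H p) := by
    intro p hp
    have : Nonempty (MulAction.orbit H p) := ⟨⟨p, MulAction.mem_orbit_self p⟩⟩
    have hpos : 0 < Nat.card (MulAction.orbit H p) := Nat.card_pos
    by_contra hlt
    have hfix : H ≤ MulAction.stabilizer G p := fun g hg => by
      obtain ⟨hss, -⟩ := Nat.card_eq_one_iff_unique.1 (show Nat.card (MulAction.orbit H p) = 1 by omega)
      exact congrArg Subtype.val (Subsingleton.elim (⟨g • p, ⟨g, hg⟩, rfl⟩ : MulAction.orbit H p)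
        ⟨p, MulAction.mem_orbit_self p⟩)
    have hco := MulAction.IsPreprimitive.isCoatom_stabilizer_of_isPreprimitive G a₀
    have htop : ∀ x : Ω, MulAction.stabilizer G x ≠ ⊤ := fun x h => by
      obtain ⟨y, hy⟩ := exists_ne x
      obtain ⟨g, rfl⟩ := MulAction.exists_smul_eq G x y
      exact hy (show g ∈ MulAction.stabilizer G x by rw [h]; trivial)
    have heq : MulAction.stabilizer G p = H := by
      rcases hfix.eq_or_lt with h | h
      · exact h.symm
      · exact absurd (hco.2 _ h) (htop p)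
    obtain ⟨u, hu⟩ := MulAction.exists_smul_eq G a₀ p
    have hun : u ∈ Subgroup.normalizer (H : Set G) := by
      rw [Subgroup.mem_normalizer_iff]
      intro h
      constructor
      · intro hh
        rw [← heq, MulAction.mem_stabilizer_iff, ← hu, mul_smul, mul_smul,
          inv_smul_smul, (hh : h • a₀ = a₀)]
      · intro hh
        rw [← heq, MulAction.mem_stabilizer_iff, ← hu, mul_smul, mul_smul,
          inv_smul_smul, smul_left_cancel_iff] at hh
        exact hh
    have hnorm : Subgroup.normalizer (H : Set G) = ⊤ := by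
      refine hco.2 _ (lt_of_le_of_ne Subgroup.le_normalizer fun h => hp ?_)
      have : u ∈ MulAction.stabilizer G a₀ := by rw [h]; exact hun
      rw [← hu]
      exact this
    have : H.Normal := Subgroup.normalizer_eq_top_iff.1 hnorm
    have hall : ∀ x : Ω, H ≤ MulAction.stabilizer G x := fun x g hg => by
      obtain ⟨v, rfl⟩ := MulAction.exists_smul_eq G a₀ x
      have h := this.conj_mem g hg v⁻¹
      rw [inv_inv] at h
      have h' : (v⁻¹ * g * v) • a₀ = a₀ := h
      rw [mul_smul, mul_smul, inv_smul_eq_iff] at h'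
      exact h'
    have hinj : Function.Injective cl := fun x y h => by
      obtain ⟨g, hg⟩ := (hclmem x y).1 h
      exact hg.symm.trans (hall y g.2)
    have hle := Nat.card_le_card_of_injective cl hinj
    rw [hrank, Nat.card_eq_fintype_card, hm] at hle
    omega
  -- one suborbit and the relations it satisfies
  obtain ⟨b, hb⟩ := exists_ne a₀
  set k := Nat.card (MulAction.orbit H b) with hk
  set N := Cfsg.Agent.Char.orbMat G a₀ b with hN
  have hinv : ∀ (g : G) x y, N (g • x) (g • y) = N x y := Cfsg.Agent.Char.orbMat_inv a₀ b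
  have hN01 : ∀ x y, (N x y = 1 ↔ ∃ g : G, g • a₀ = x ∧ g • b = y) ∧ (N x y = 0 ∨ N x y = 1) :=
    fun x y => by
      simp only [hN, Cfsg.Agent.Char.orbMat]
      by_cases h : ∃ g : G, g • a₀ = x ∧ g • b = y <;> simp [h]
  -- the second suborbit
  obtain ⟨c, hca, hcb⟩ : ∃ c, c ≠ a₀ ∧ cl c ≠ cl b := by
    by_contra h
    push Not at h
    have hle : Nat.card (MulAction.orbitRel.Quotient H Ω) ≤ 2 := by
      rw [Nat.card_eq_fintype_card, ← Finset.card_univ]
      refine (Finset.card_le_card (t := {cl a₀, cl b}) fun w _ => ?_).trans Finset.card_le_two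
      induction w using Quotient.inductionOn' with
      | h y =>
        by_cases hy : y = a₀
        · simp [cl, hy]
        · exact Finset.mem_insert_of_mem (Finset.mem_singleton.2 (h y hy))
    rw [hrank] at hle
    omega
  have hsplit : ∀ p q : Ω, p ≠ a₀ → q ≠ a₀ → cl q ≠ cl p →
      Fintype.card Ω = 1 + Nat.card (MulAction.orbit H p) + Nat.card (MulAction.orbit H q) := by
    intro p q hp hq hpq
    rw [Nat.card_eq_fintype_card, Nat.card_eq_fintype_card, ← Set.toFinset_card, ← Set.toFinset_card,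
      ← Finset.card_singleton a₀]
    have hd : Disjoint ({a₀} : Finset Ω) (MulAction.orbit H p).toFinset := by
      rw [Finset.disjoint_singleton_left, Set.mem_toFinset, ← hclmem]
      exact fun e => hp (hcla p e.symm)
    have hd2 : Disjoint (({a₀} : Finset Ω) ∪ (MulAction.orbit H p).toFinset)
        (MulAction.orbit H q).toFinset := by
      rw [Finset.disjoint_left]
      intro y hy hy'
      rw [Set.mem_toFinset, ← hclmem] at hy'
      rcases Finset.mem_union.1 hy with h | h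
      · rw [Finset.mem_singleton.1 h] at hy'
        exact hq (hcla q hy'.symm)
      · rw [Set.mem_toFinset, ← hclmem] at h
        exact hpq (hy'.symm.trans h)
    rw [← Finset.card_union_of_disjoint hd, ← Finset.card_union_of_disjoint hd2, ← Finset.card_univ]
    refine congrArg _ (Eq.symm (Finset.eq_univ_of_forall fun y => ?_))
    rcases hthree p q hp hq hpq y with h | h | h
    · simp [hcla y h]
    · simp [(hclmem y p).1 h]
    · simp [(hclmem y q).1 h]
  have hbc := hsplit b c hb hca hcb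
  have hkc := hnotone c hca
  have hk2 : 2 ≤ k := hnotone b hb
  -- self-paired
  obtain ⟨u, hu⟩ := MulAction.exists_smul_eq G b a₀
  have hswap : ∃ g : G, g • b = a₀ ∧ g • a₀ = b := by
    by_cases h : cl (u • a₀) = cl b
    · obtain ⟨h0, hh0⟩ := (hclmem _ _).1 h
      have h0' : (h0 : G) • a₀ = a₀ := h0.2
      have hh1 : (h0 : G) • b = u • a₀ := hh0
      refine ⟨(h0 : G)⁻¹ * u, ?_, ?_⟩
      · rw [mul_smul, hu, inv_smul_eq_iff, h0']
      · rw [mul_smul, ← hh1, inv_smul_smul]
    · exfalso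
      have hne : u • a₀ ≠ a₀ := fun e => hb (smul_left_cancel u (hu.trans e.symm))
      have hcard := hsplit b (u • a₀) hb hne h
      -- paired suborbits have equal size
      have hcol : ∑ x, N x a₀ = (k : ℤ) := by
        have hcolc : ∀ y, ∑ x, N x y = ∑ x, N x a₀ := fun y => by
          obtain ⟨v, rfl⟩ := MulAction.exists_smul_eq G a₀ y
          exact (Fintype.sum_equiv (MulAction.toPerm v) _ _ fun x => (hinv v x a₀).symm).symm
        have h1 : ∑ y, ∑ x, N x y = (Fintype.card Ω : ℤ) * ∑ x, N x a₀ := by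
          rw [Finset.sum_congr rfl fun y _ => hcolc y, Finset.sum_const, Finset.card_univ,
            nsmul_eq_mul]
        rw [Finset.sum_comm, Finset.sum_congr rfl fun x _ => Cfsg.Agent.Char.orbMat_row a₀ b x,
          Finset.sum_const, Finset.card_univ, nsmul_eq_mul] at h1
        exact (mul_left_cancel₀ (Nat.cast_ne_zero.2 Fintype.card_ne_zero) h1).symm
      have hcolset : ∑ x, N x a₀ = (Nat.card (MulAction.orbit H (u • a₀)) : ℤ) := by
        rw [Nat.card_eq_fintype_card, ← Set.toFinset_card,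
          ← Finset.sum_filter_add_sum_filter_not Finset.univ (fun x => N x a₀ = 1)]
        have hz : ∑ x ∈ Finset.univ.filter (fun x => ¬ N x a₀ = 1), N x a₀ = 0 :=
          Finset.sum_eq_zero fun x hx => ((hN01 x a₀).2).resolve_right (Finset.mem_filter.1 hx).2
        rw [hz, add_zero, Finset.sum_congr rfl (fun x hx => (Finset.mem_filter.1 hx).2),
          Finset.sum_const, nsmul_eq_mul, mul_one]
        refine congrArg Nat.cast (congrArg Finset.card (Finset.ext fun x => ?_))
        simp only [Finset.mem_filter, Finset.mem_univ, true_and, Set.mem_toFinset, (hN01 x a₀).1]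
        constructor
        · rintro ⟨g, rfl, hgb⟩
          refine ⟨⟨g * u⁻¹, ?_⟩, ?_⟩
          · show (g * u⁻¹) • a₀ = a₀
            rw [mul_smul, ← hu, inv_smul_smul, hgb, hu]
          · show (g * u⁻¹) • u • a₀ = g • a₀
            rw [mul_smul, inv_smul_smul]
        · rintro ⟨⟨g, hg⟩, rfl⟩
          refine ⟨g * u, mul_smul g u a₀, ?_⟩
          rw [mul_smul, hu]
          exact hg
      have hkk : k = Nat.card (MulAction.orbit H (u • a₀)) := by exact_mod_cast hcol.symm.trans hcolset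
      rw [← hkk, hm] at hcard
      omega
  have hsymm : ∀ x y, N x y = N y x := by
    obtain ⟨w, hw1, hw2⟩ := hswap
    have h1 : ∀ x y, N x y = 1 → N y x = 1 := fun x y h => by
      obtain ⟨g, rfl, rfl⟩ := ((hN01 x y).1).1 h
      rw [hinv, (hN01 b a₀).1]
      exact ⟨w, hw2, hw1⟩
    intro x y
    rcases (hN01 x y).2 with h | h
    · rcases (hN01 y x).2 with h' | h'
      · rw [h, h']
      · rw [h1 _ _ h'] at h
        exact absurd h one_ne_zero
    · rw [h, h1 _ _ h]
  -- squares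
  have hinv2 : ∀ (g : G) x y, (N ^ 2) (g • x) (g • y) = (N ^ 2) x y := fun g x y => by
    simp only [sq, Matrix.mul_apply]
    refine (Fintype.sum_equiv (MulAction.toPerm g) _ _ fun z => ?_).symm
    simp only [MulAction.toPerm_apply, hinv]
  let φ : ℕ → G → ℂ := fun j => Cfsg.Agent.Char.orbFun (N ^ j)
  have hexp : ∀ j, j = 1 ∨ j = 2 → φ j 1 = Cfsg.classInner (φ j) (fun _ => 1) +
      (Cfsg.classInner (φ j) χ₁ * χ₁ 1 + Cfsg.classInner (φ j) χ₂ * χ₂ 1) := by
    intro j hj
    have hi : ∀ (g : G) x y, (N ^ j) (g • x) (g • y) = (N ^ j) x y := by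
      rcases hj with rfl | rfl
      · simpa using hinv
      · exact hinv2
    have h := congrFun (Cfsg.Agent.Char.classFun_expansion
      (Cfsg.Agent.Char.orbFun_isClassFunction (N ^ j) hi)) 1
    simp only [Finset.sum_apply, Pi.smul_apply, smul_eq_mul] at h
    let t : Finset (Cfsg.IrrCharacter G) :=
      {⟨_, Cfsg.Agent.Char.isIrrCharacter_one⟩, ⟨χ₁, h₁⟩, ⟨χ₂, h₂⟩}
    rw [← Finset.sum_subset (Finset.subset_univ t) (fun χ _ hχ => by
      simp only [t, Finset.mem_insert, Finset.mem_singleton, Subtype.ext_iff] at hχ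
      push Not at hχ
      rw [((Cfsg.Agent.Char.orbital_inner (N ^ j) hi χ.2).2.1) (hπ0 χ χ.2 hχ.1 hχ.2.1 hχ.2.2),
        zero_mul])] at h
    rw [show φ j 1 = Cfsg.Agent.Char.orbFun (N ^ j) (1 : G) from rfl, h]
    simp only [t]
    rw [Finset.sum_insert (by simp [Subtype.ext_iff, Ne.symm hne1, Ne.symm hne2]),
      Finset.sum_pair (by simp [Subtype.ext_iff, hne12])]
    simp [φ]
  have hc0 : Cfsg.classInner (φ 1) (fun _ => 1) = (k : ℂ) := by
    simp only [φ, pow_one]
    exact Cfsg.Agent.Char.orbFun_inner_one a₀ b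
  have hsq : ∀ χ, Cfsg.IsIrrCharacter G χ → Cfsg.classInner π χ = 1 →
      Cfsg.classInner (φ 2) χ = Cfsg.classInner (φ 1) χ ^ 2 := fun χ hχ h => by
    simp only [φ, pow_one]
    exact (Cfsg.Agent.Char.orbital_inner N hinv hχ).2.2 h 2
  obtain ⟨r, hr⟩ := exists_int_coeff hr1 N (Cfsg.Agent.Char.orbital_inner N hinv h₁).1
  obtain ⟨s, hs⟩ := exists_int_coeff hr2 N (Cfsg.Agent.Char.orbital_inner N hinv h₂).1
  have hφ11 : φ 1 1 = 0 := by
    simp [φ, Cfsg.Agent.Char.orbFun, hN, Cfsg.Agent.Char.orbMat_diag hb]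
  have hφ21 : φ 2 1 = (2 * m * k : ℕ) := by
    simp only [φ, Cfsg.Agent.Char.orbFun, one_smul, sq, Matrix.mul_apply]
    rw [← Int.cast_natCast (R := ℂ)]
    refine congrArg Int.cast ?_
    have hp : ∀ x y, N x y * N y x = N x y := fun x y => by
      rw [← hsymm x y]
      rcases (hN01 x y).2 with h | h <;> rw [h] <;> norm_num
    rw [Finset.sum_congr rfl fun x _ => Finset.sum_congr rfl fun y _ => hp x y,
      Finset.sum_congr rfl fun x _ => Cfsg.Agent.Char.orbMat_row a₀ b x,
      Finset.sum_const, Finset.card_univ, hm, nsmul_eq_mul]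
    push_cast
    ring
  have e1 := hexp 1 (Or.inl rfl)
  have e2 := hexp 2 (Or.inr rfl)
  rw [hc0, hφ11, hd₁, hd₂, show φ 1 = Cfsg.Agent.Char.orbFun N by simp [φ], hr, hs] at e1
  rw [hφ21, hsq _ Cfsg.Agent.Char.isIrrCharacter_one (Cfsg.Agent.Char.pi_inner_one),
    hsq _ h₁ hπ1, hsq _ h₂ hπ2, hc0, show φ 1 = Cfsg.Agent.Char.orbFun N by simp [φ], hr, hs,
    hd₁, hd₂] at e2
  have i1 : (k : ℤ) + ((m : ℤ) - 1) * r + m * s = 0 := by
    apply Int.cast_injective (α := ℂ)
    push_cast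
    linear_combination -e1
  have i2 : (k : ℤ) ^ 2 + ((m : ℤ) - 1) * r ^ 2 + m * s ^ 2 = 2 * m * k := by
    apply Int.cast_injective (α := ℂ)
    push_cast at e2 ⊢
    linear_combination -e2
  rw [hm] at hbc
  obtain ⟨a, ha, hma, hka⟩ := arith m k r s hm2 (by exact_mod_cast hk2) (by omega) i1 i2
  have hka' : k = a * (2 * a + 1) ∨ k = (a + 1) * (2 * a + 1) := by
    rcases hka with h | h
    · exact Or.inl (by exact_mod_cast h)
    · exact Or.inr (by exact_mod_cast h)
  have hsum : (a * (2 * a + 1)) + (a + 1) * (2 * a + 1) + 1 = 2 * m := by rw [hma]; ring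
  refine ⟨a, ha, hma, fun y hy => ?_⟩
  show Nat.card (MulAction.orbit H y) = _ ∨ Nat.card (MulAction.orbit H y) = _
  rcases hthree b c hb hca hcb y with h | h | h
  · exact absurd (hcla y h) hy
  · rw [MulAction.orbit_eq_iff.2 ((hclmem y b).1 h)]
    exact hka'
  · rw [MulAction.orbit_eq_iff.2 ((hclmem y c).1 h)]
    rcases hka' with h' | h'
    · right; omega
    · left; omega

end Cfsg.Agent.S0719
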