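import Cfsg.Statements.S0721
import Mathlib.GroupTheory.NoncommCoprod
import Mathlib.GroupTheory.Subgroup.Simple
import Mathlib.Data.Finite.Prod
import Mathlib.Data.Set.Finite.Lemmas
import Mathlib.GroupTheory.Index
import Mathlib.Tactic

set_option autoImplicit false
open Cfsg

namespace Cfsg.Agent.S0721

/-- splitting off a coordinate -/
def consMulEquiv (T : Type*) [Group T] (m : ℕ) : T × (Fin m → T) ≃* (Fin (m + 1) → T) :=
  { Fin.consEquiv (fun _ => T) with
    map_mul' := fun x y => by
      funext i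
      refine Fin.cases ?_ (fun j => ?_) i <;> rfl }

/-- the product of two disjoint normal subgroups -/
lemma prod_equiv_sup {K : Type*} [Group K] (A B : Subgroup K) [A.Normal] [B.Normal] (h : Disjoint A B) :
    Nonempty (A × B ≃* (A ⊔ B : Subgroup K)) := by
  let f : A × B →* K := MonoidHom.noncommCoprod A.subtype B.subtype fun a b =>
    Subgroup.commute_of_normal_of_disjoint A B inferInstance inferInstance h a b a.2 b.2
  have hinj : Function.Injective f := by
    rw [injective_iff_map_eq_one]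
    rintro ⟨a, b⟩ hab
    have hab' : (a : K) * b = 1 := hab
    have ha : (a : K) ∈ A ⊓ B := ⟨a.2, by rw [eq_inv_of_mul_eq_one_left hab']; exact B.inv_mem b.2⟩
    rw [h.eq_bot, Subgroup.mem_bot] at ha
    rw [ha, one_mul] at hab'
    exact Prod.ext (Subtype.ext ha) (Subtype.ext hab')
  have hr : f.range = A ⊔ B := by
    exact (MonoidHom.noncommCoprod_range A.subtype B.subtype _).trans (by rw [Subgroup.range_subtype, Subgroup.range_subtype])
  exact ⟨(MonoidHom.ofInjective hinj).trans (MulEquiv.subgroupCongr hr)⟩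

/-- a carrier type in `Type` -/
def TCar (n : ℕ) : Type := Fin n

/-- A minimal normal subgroup of a finite group is isomorphic to a direct power `T ^ m` of a simple group `T` (possibly of prime order). -/
theorem result {H : Type*} [Group H] [Finite H] (N : Subgroup H) [N.Normal] (hN : N ≠ ⊥) (hmin : ∀ M : Subgroup H, M.Normal → M ≤ N → M = ⊥ ∨ M = N) : ∃ (T : Type) (_ : Group T) (m : ℕ), IsSimpleGroup T ∧ 0 < m ∧ Nonempty (N ≃* (Fin m → T)) := by
  classical
  have : Nontrivial N := (Subgroup.nontrivial_iff_ne_bot N).2 hN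
  obtain ⟨S, hS⟩ := (Set.toFinite {S : Subgroup N | S.Normal ∧ S ≠ ⊥}).exists_minimal ⟨⊤, inferInstance, top_ne_bot⟩
  obtain ⟨⟨hSn, hSne⟩, hSmin⟩ := hS
  have hmin' : ∀ R : Subgroup N, R.Normal → R ≤ S → R = ⊥ ∨ R = S := fun R hR hle =>
    (eq_or_ne R ⊥).imp id fun hne => le_antisymm hle (hSmin ⟨hR, hne⟩ hle)
  let φ : H → N ≃* N := fun h => MulAut.conjNormal h
  let C : H → Subgroup N := fun h => S.map (φ h).toMonoidHom
  have hCn : ∀ h, (C h).Normal := fun h => hSn.map _ (φ h).surjective
  have hCmin : ∀ (h : H) (R : Subgroup N), R.Normal → R ≤ C h → R = ⊥ ∨ R = C h := by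
    intro h R hR hle
    have hback : (R.comap (φ h).toMonoidHom).map (φ h).toMonoidHom = R :=
      Subgroup.map_comap_eq_self_of_surjective (φ h).surjective R
    rcases hmin' (R.comap (φ h).toMonoidHom) (hR.comap _) (fun x hx => by
      obtain ⟨y, hy, hyx⟩ := hle hx
      exact (φ h).injective hyx ▸ hy) with h' | h'
    · left; rw [← hback, h', Subgroup.map_bot]
    · right; rw [← hback, h']
  have hsup : (⨆ h, C h) = ⊤ := by
    have hinv : ∀ h : H, (⨆ k, C k).map (φ h).toMonoidHom ≤ ⨆ k, C k := by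
      intro h
      rw [Subgroup.map_iSup]
      refine iSup_le fun k => le_iSup_of_le (h * k) (le_of_eq ?_)
      show (S.map _).map _ = S.map _
      rw [Subgroup.map_map]
      congr 1
      ext x
      simp [φ]
    have hnorm : ((⨆ h, C h).map N.subtype).Normal := ⟨by
      rintro _ ⟨x, hx, rfl⟩ h
      exact ⟨φ h x, hinv h (Subgroup.mem_map_of_mem _ hx), by simp [φ]⟩⟩
    rcases hmin _ hnorm (Subgroup.map_subtype_le _) with h | h
    · rw [Subgroup.map_eq_bot_iff_of_injective _ N.subtype_injective, eq_bot_iff] at h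
      refine absurd ?_ hSne
      rw [eq_bot_iff]
      refine le_trans (le_trans ?_ (le_iSup C 1)) h
      intro x hx
      exact ⟨x, hx, by simp [φ]⟩
    · apply Subgroup.map_injective N.subtype_injective
      rw [h, ← MonoidHom.range_eq_map, Subgroup.range_subtype]
  have hout : ∀ D : Subgroup N, D.Normal → D ≠ ⊤ → ∃ h, Disjoint (C h) D := by
    intro D hD hne
    have := hCn
    obtain ⟨h, hh⟩ : ∃ h, ¬ C h ≤ D := by
      by_contra! hc
      exact hne (eq_top_iff.2 (hsup ▸ iSup_le hc))
    refine ⟨h, disjoint_iff.2 ?_⟩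
    exact (hCmin h _ inferInstance inf_le_left).resolve_right fun e => hh (inf_eq_left.1 e)
  -- a complement of S
  obtain ⟨Q, ⟨hQn, hQd⟩, hQmax⟩ := (Set.toFinite {Q : Subgroup N | Q.Normal ∧ Disjoint S Q}).exists_maximal
    ⟨⊥, inferInstance, disjoint_bot_right⟩
  have hSQ : S ⊔ Q = ⊤ := by
    by_contra hne
    obtain ⟨h, hh⟩ := hout (S ⊔ Q) inferInstance hne
    have := hCn h
    have hd : Disjoint S (Q ⊔ C h) := by
      rw [disjoint_iff, eq_bot_iff]
      rintro x ⟨hxS, hx⟩
      obtain ⟨q, hq, c, hc, rfl⟩ := Subgroup.mem_sup_of_normal_right.1 hx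
      have hc' : c ∈ C h ⊓ (S ⊔ Q) := ⟨hc, by
        simpa using mul_mem ((S ⊔ Q).inv_mem (Subgroup.mem_sup_right hq)) (Subgroup.mem_sup_left hxS)⟩
      rw [hh.eq_bot, Subgroup.mem_bot] at hc'
      subst hc'
      rw [mul_one] at hxS ⊢
      have hq' : q ∈ S ⊓ Q := ⟨hxS, hq⟩
      rwa [hQd.eq_bot] at hq'
    have h1 : C h ≤ S ⊔ Q := ((le_sup_right.trans (hQmax ⟨inferInstance, hd⟩ le_sup_left)).trans le_sup_right)
    have h2 : C h = ⊥ := by rw [← inf_eq_left.2 h1]; exact hh.eq_bot
    exact hSne ((Subgroup.map_eq_bot_iff_of_injective _ (φ h).injective).1 h2)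
  have : Nontrivial S := (Subgroup.nontrivial_iff_ne_bot S).2 hSne
  have hsimple : IsSimpleGroup S := ⟨fun R hR => by
    have hRn : (R.map S.subtype).Normal := by
      rw [← Subgroup.normalizer_eq_top_iff, eq_top_iff, ← hSQ, sup_le_iff]
      constructor
      · intro s hs
        rw [Subgroup.mem_normalizer_iff]
        intro x
        constructor
        · rintro ⟨r, hr, rfl⟩
          exact ⟨⟨s, hs⟩ * r * ⟨s, hs⟩⁻¹, hR.conj_mem r hr _, by simp⟩
        · rintro ⟨r, hr, hrx⟩
          refine ⟨⟨s, hs⟩⁻¹ * r * ⟨s, hs⟩, hR.conj_mem' r hr _, ?_⟩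
          simp only [map_mul, map_inv]
          rw [hrx]
          show s⁻¹ * (s * x * s⁻¹) * s = x
          group
      · intro q hq
        rw [Subgroup.mem_normalizer_iff]
        intro x
        constructor
        · rintro ⟨r, hr, rfl⟩
          refine ⟨r, hr, ?_⟩
          have hc := Subgroup.commute_of_normal_of_disjoint S Q hSn hQn hQd _ q r.2 hq
          show (r : N) = q * r * q⁻¹
          rw [← hc.eq, mul_inv_cancel_right]
        · rintro ⟨r, hr, hrx⟩
          refine ⟨r, hr, ?_⟩
          have hc := Subgroup.commute_of_normal_of_disjoint S Q hSn hQn hQd _ q r.2 hq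
          have hrx' : (r : N) = q * x * q⁻¹ := hrx
          have hx : x = q⁻¹ * r * q := by rw [hrx']; group
          show (r : N) = x
          rw [hx, mul_assoc, hc.eq, inv_mul_cancel_left]
    rcases hmin' _ hRn (Subgroup.map_subtype_le _) with h | h
    · exact Or.inl ((Subgroup.map_eq_bot_iff_of_injective _ S.subtype_injective).1 h)
    · refine Or.inr (Subgroup.map_injective S.subtype_injective ?_)
      rw [h, ← MonoidHom.range_eq_map, Subgroup.range_subtype]⟩
  obtain ⟨D, ⟨hDn, m, ⟨eD⟩⟩, hDmax⟩ :=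
    (Set.toFinite {D : Subgroup N | D.Normal ∧ ∃ m, Nonempty (D ≃* (Fin m → S))}).exists_maximal
    ⟨⊥, inferInstance, 0,
      ⟨{ toFun := fun _ => Fin.elim0, invFun := fun _ => 1, left_inv := fun _ => Subsingleton.elim _ _,
         right_inv := fun _ => Subsingleton.elim _ _, map_mul' := fun _ _ => Subsingleton.elim _ _ }⟩⟩
  have hDtop : D = ⊤ := by
    by_contra hne
    obtain ⟨h, hh⟩ := hout D hDn hne
    have := hCn h
    obtain ⟨e⟩ := prod_equiv_sup (C h) D hh
    have eC : C h ≃* S := ((φ h).subgroupMap S).symm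
    have h1 := hDmax (show C h ⊔ D ∈ _ from ⟨inferInstance, m + 1,
      ⟨e.symm.trans ((MulEquiv.prodCongr eC eD).trans (consMulEquiv S m))⟩⟩) le_sup_right
    have h2 : C h = ⊥ := by rw [← inf_eq_left.2 (le_sup_left.trans h1)]; exact hh.eq_bot
    exact hSne ((Subgroup.map_eq_bot_iff_of_injective _ (φ h).injective).1 h2)
  subst hDtop
  have hm : 0 < m := by
    by_contra hm
    obtain rfl : m = 0 := by omega
    have : Subsingleton (⊤ : Subgroup N) := eD.toEquiv.subsingleton
    have : Subsingleton N := Subgroup.topEquiv.symm.toEquiv.subsingleton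
    exact not_subsingleton N this
  let eT : TCar (Nat.card S) ≃ S := (Finite.equivFin S).symm
  let _ : Group (TCar (Nat.card S)) := eT.group
  let eM : TCar (Nat.card S) ≃* S := eT.mulEquiv
  exact ⟨TCar (Nat.card S), inferInstance, m, eM.isSimpleGroup, hm,
    ⟨Subgroup.topEquiv.symm.trans (eD.trans (MulEquiv.arrowCongr (Equiv.refl _) eM.symm))⟩⟩

end Cfsg.Agent.S0721
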