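import Cfsg.Statements.S0723
import Cfsg.Agent.S0721
import Cfsg.Agent.S0722

set_option autoImplicit false
open Cfsg

namespace Cfsg.Agent.S0723

open Subgroup
open scoped commutatorElement

set_option maxHeartbeats 2000000

section Power

variable {T : Type*} [Group T] [IsSimpleGroup T] (hT : ¬ IsMulCommutative T) {ι : Type*} [DecidableEq ι]

include hT

theorem exists_not_commute {x : T} (hx : x ≠ 1) : ∃ t, x * t ≠ t * x := by
  by_contra! h
  rcases (Subgroup.center T).normal_of_characteristic.eq_bot_or_eq_top with h' | h'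
  · exact hx ((Subgroup.mem_bot).1 (h' ▸ Subgroup.mem_center_iff.2 fun t => (h t).symm))
  · exact hT ⟨⟨fun a b => ((Subgroup.mem_center_iff.1 (h' ▸ Subgroup.mem_top a)) b).symm⟩⟩

theorem perfect : commutator T = ⊤ := by
  rcases (Subgroup.commutator_normal ⊤ ⊤).eq_bot_or_eq_top (H := commutator T) with h | h
  · refine absurd ⟨⟨fun a b => ?_⟩⟩ hT
    have hm : ⁅a, b⁆ ∈ commutator T := Subgroup.commutator_mem_commutator (mem_top a) (mem_top b)
    rw [h, mem_bot] at hm
    exact commutatorElement_eq_one_iff_mul_comm.1 hm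
  · exact h

/-- a normal subgroup contains each factor on which it projects non-trivially -/
theorem single_mem {R : Subgroup (ι → T)} (hR : R.Normal) {x : ι → T} (hx : x ∈ R) {i : ι} (hxi : x i ≠ 1) (t : T) :
    Pi.mulSingle i t ∈ R := by
  have hn : (R.comap (MonoidHom.mulSingle (fun _ => T) i)).Normal := hR.comap _
  rcases hn.eq_bot_or_eq_top with h | h
  · obtain ⟨u, hu⟩ := exists_not_commute hT hxi
    have hm : ⁅x, Pi.mulSingle i u⁆ ∈ R := by
      rw [commutatorElement_def, mul_assoc, mul_assoc]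
      refine mul_mem hx ?_
      rw [← mul_assoc]
      exact hR.conj_mem _ (inv_mem hx) _
    have e : ⁅x, Pi.mulSingle i u⁆ = (Pi.mulSingle i ⁅x i, u⁆ : ι → T) := by
      funext j
      rcases eq_or_ne j i with rfl | hj
      · simp [commutatorElement_def]
      · simp [commutatorElement_def, hj]
    rw [e] at hm
    have : ⁅x i, u⁆ ∈ R.comap (MonoidHom.mulSingle (fun _ => T) i) := hm
    rw [h, mem_bot] at this
    exact absurd (commutatorElement_eq_one_iff_mul_comm.1 this) hu
  · exact (h ▸ mem_top t : t ∈ R.comap (MonoidHom.mulSingle (fun _ => T) i))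

/-- an automorphism of a power of a simple group permutes the factors -/
theorem exists_perm [Finite ι] (φ : MulAut (ι → T)) :
    ∃ σ : ι → ι, Function.Bijective σ ∧ ∃ τ : ι → (T ≃* T), ∀ (x : ι → T) i, φ x (σ i) = τ i (x i) := by
  have : Nontrivial T := IsSimpleGroup.toNontrivial
  obtain ⟨t₀, ht₀⟩ := exists_ne (1 : T)
  have key : ∀ i, ∃ j, (∀ t, ∀ l, l ≠ j → φ (Pi.mulSingle i t) l = 1) ∧ ∀ t, ∃ s, φ (Pi.mulSingle i s) = Pi.mulSingle j t := by
    intro i
    let F : Subgroup (ι → T) := (MonoidHom.mulSingle (fun _ => T) i).range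
    have hF : F.Normal := ⟨by
      rintro _ ⟨t, rfl⟩ g
      refine ⟨g i * t * (g i)⁻¹, funext fun j => ?_⟩
      rcases eq_or_ne j i with rfl | hj
      · simp
      · simp [hj]⟩
    have hR : (F.map φ.toMonoidHom).Normal := hF.map _ φ.surjective
    obtain ⟨j, hj⟩ : ∃ j, φ (Pi.mulSingle i t₀) j ≠ 1 := by
      by_contra! hc
      have h1 : φ (Pi.mulSingle i t₀) = 1 := funext hc
      rw [map_eq_one_iff _ φ.injective, Pi.mulSingle_eq_one_iff] at h1
      exact ht₀ h1
    have hsur : ∀ t, ∃ s, φ (Pi.mulSingle i s) = Pi.mulSingle j t := fun t => by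
      obtain ⟨_, ⟨s, rfl⟩, hs⟩ := single_mem hT hR ⟨_, ⟨t₀, rfl⟩, rfl⟩ hj t
      exact ⟨s, hs⟩
    refine ⟨j, fun t l hl => ?_, hsur⟩
    -- the preimage of the factor fills the factor
    let R : Subgroup (ι → T) := (MonoidHom.mulSingle (fun _ => T) j).range.comap φ.toMonoidHom
    have hRn : R.Normal := Subgroup.Normal.comap ⟨by
      rintro _ ⟨t, rfl⟩ g
      refine ⟨g j * t * (g j)⁻¹, funext fun l => ?_⟩
      rcases eq_or_ne l j with rfl | hl'
      · simp
      · simp [hl']⟩ _
    obtain ⟨s, hs⟩ := hsur t₀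
    have hs1 : Pi.mulSingle i s ∈ R := ⟨t₀, hs.symm⟩
    have hsi : (Pi.mulSingle i s : ι → T) i ≠ 1 := by
      rw [Pi.mulSingle_eq_same]
      rintro rfl
      rw [Pi.mulSingle_one, map_one] at hs
      exact ht₀ (Pi.mulSingle_eq_one_iff.1 hs.symm)
    obtain ⟨t', ht'⟩ := single_mem hT hRn hs1 hsi t
    have ht'' : Pi.mulSingle j t' = φ (Pi.mulSingle i t) := ht'
    rw [← ht'', Pi.mulSingle_eq_of_ne hl]
  choose σ hσ hσs using key
  have hinj : Function.Injective σ := fun i i' h => by
    by_contra hne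
    obtain ⟨s, hs⟩ := hσs i t₀
    obtain ⟨s', hs'⟩ := hσs i' t₀
    rw [h, ← hs'] at hs
    have := congrFun (φ.injective hs) i'
    rw [Pi.mulSingle_eq_of_ne (Ne.symm hne), Pi.mulSingle_eq_same] at this
    rw [← this, Pi.mulSingle_one, map_one] at hs'
    exact ht₀ (Pi.mulSingle_eq_one_iff.1 hs'.symm)
  let τh : ι → (T →* T) := fun i =>
    (Pi.evalMonoidHom (fun _ => T) (σ i)).comp (φ.toMonoidHom.comp (MonoidHom.mulSingle (fun _ => T) i))
  have hsingle : ∀ i t, φ (Pi.mulSingle i t) = Pi.mulSingle (σ i) (τh i t) := fun i t => by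
    funext l
    rcases eq_or_ne l (σ i) with rfl | hl
    · rw [Pi.mulSingle_eq_same]; rfl
    · rw [Pi.mulSingle_eq_of_ne hl, hσ i t l hl]
  have hbij : ∀ i, Function.Bijective (τh i) := fun i => by
    constructor
    · intro a b hab
      have h := φ.injective ((hsingle i a).trans (hab ▸ (hsingle i b).symm))
      exact Pi.mulSingle_injective i h
    · intro t
      obtain ⟨s, hs⟩ := hσs i t
      exact ⟨s, Pi.mulSingle_injective (σ i) ((hsingle i s).symm.trans hs)⟩
  refine ⟨σ, Finite.injective_iff_bijective.1 hinj, fun i => MulEquiv.ofBijective (τh i) (hbij i), fun x i => ?_⟩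
  obtain ⟨y, hy⟩ : ∃ y : ι → T, y = (Pi.mulSingle i (x i))⁻¹ * x := ⟨_, rfl⟩
  have hyi : y i = 1 := by simp [hy]
  have hc : φ y (σ i) = 1 := by
    by_contra hne
    obtain ⟨t, ht⟩ := exists_not_commute hT hne
    obtain ⟨s, hs⟩ := hσs i t
    have hcom : y * Pi.mulSingle i s = Pi.mulSingle i s * y := funext fun l => by
      rcases eq_or_ne l i with rfl | hl
      · simp [hyi]
      · simp [hl]
    have := congrFun (congrArg φ hcom) (σ i)
    rw [map_mul, map_mul, hs, Pi.mul_apply, Pi.mul_apply, Pi.mulSingle_eq_same] at this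
    exact ht this
  have hx : x = Pi.mulSingle i (x i) * y := by rw [hy, mul_inv_cancel_left]
  conv_lhs => rw [hx, map_mul, Pi.mul_apply, hc, mul_one, hsingle, Pi.mulSingle_eq_same]
  rfl

end Power

/-- The core of the O'Nan–Scott Theorem. Let `H` be a primitive permutation group on a finite set whose unique minimal normal subgroup `N` is non-abelian, and `K` a point stabiliser. Then there are a non-abelian simple group `T` and an isomorphism `N ≃* T^m` (`m ≥ 1`) under which `K ⊓ N` becomes either a product `∏ K_i` of proper subgroups `K_i < T`, or the set of functions constant on each block of a partition of the index set into blocks of one common size `k ≥ 2`. -/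
theorem result {α : Type*} [Finite α] (H : Subgroup (Equiv.Perm α)) [MulAction.IsPreprimitive H α] (N : Subgroup H) [N.Normal] (hN : N ≠ ⊥) (hmin : ∀ M : Subgroup H, M.Normal → M ≤ N → M = ⊥ ∨ M = N) (huniq : ∀ L : Subgroup H, L.Normal → L ≠ ⊥ → (∀ M : Subgroup H, M.Normal → M ≤ L → M = ⊥ ∨ M = L) → L = N) (hnab : ¬ IsMulCommutative N) (a : α) : ∃ (T : Type) (_ : Group T) (m : ℕ) (e : N ≃* (Fin m → T)), IsSimpleGroup T ∧ ¬ IsMulCommutative T ∧ 0 < m ∧ ((∃ K : Fin m → Subgroup T, (∀ i, K i ≠ ⊤) ∧ ∀ n : N, (n : H) ∈ MulAction.stabilizer H a ↔ ∀ i, e n i ∈ K i) ∨ (∃ (k : ℕ) (c : Fin m → Fin m), 2 ≤ k ∧ (∀ j : Fin m, Nat.card {i : Fin m // c i = j} = k ∨ Nat.card {i : Fin m // c i = j} = 0) ∧ ∀ n : N, (n : H) ∈ MulAction.stabilizer H a ↔ ∀ i j : Fin m, c i = c j → e n i = e n j)) := by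
  classical
  obtain ⟨T, _, m, hTs, hm, ⟨e⟩⟩ := Cfsg.Agent.S0721.result N hN hmin
  have hTna : ¬ IsMulCommutative T := fun h => hnab ⟨⟨fun x y => e.injective (funext fun i => by
    rw [map_mul, map_mul]
    exact mul_comm' (e x i) (e y i))⟩⟩
  set K := MulAction.stabilizer H a with hKdef
  have hNK : ¬ N ≤ K := fun hle => hN (by
    rw [eq_bot_iff]
    intro n hn
    rw [Subgroup.mem_bot]
    refine Subtype.ext (Equiv.ext fun x => ?_)
    obtain ⟨g, rfl⟩ := MulAction.exists_smul_eq H a x
    have h1 : g⁻¹ * n * g ∈ K := hle (by simpa using ‹N.Normal›.conj_mem n hn g⁻¹)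
    rw [hKdef, MulAction.mem_stabilizer_iff, mul_smul, mul_smul, inv_smul_eq_iff] at h1
    exact h1)
  have htop : K ⊔ N = ⊤ := by
    rcases subsingleton_or_nontrivial α with hα | hα
    · exact absurd (fun g _ => Subsingleton.elim _ _) hNK
    rcases ((MulAction.IsPreprimitive.isCoatom_stabilizer_of_isPreprimitive H a).le_iff).1
      (le_sup_left : K ≤ K ⊔ N) with h | h
    · exact h
    · exact absurd ((le_sup_right : N ≤ K ⊔ N).trans h.le) hNK
  let φ : H → MulAut (Fin m → T) := fun h => e.symm.trans ((MulAut.conjNormal h : MulAut N).trans e)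
  have hφ : ∀ (h : H) (n : N), φ h (e n) = e (MulAut.conjNormal h n) := fun h n => by simp [φ]
  let D : Subgroup (Fin m → T) := (K.subgroupOf N).map e.toMonoidHom
  have hD : ∀ n : N, e n ∈ D ↔ (n : H) ∈ K := fun n =>
    ⟨fun ⟨n', hn', he⟩ => (e.injective he) ▸ hn', fun h => ⟨n, h, rfl⟩⟩
  have hDinv : ∀ k ∈ K, ∀ x ∈ D, φ k x ∈ D := by
    intro k hk x hx
    obtain ⟨n, rfl⟩ := e.surjective x
    rw [hφ, hD, MulAut.conjNormal_apply]
    exact mul_mem (mul_mem hk ((hD n).1 hx)) (inv_mem hk)
  -- invariant subgroups above `D`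
  have hmax : ∀ Y : Subgroup (Fin m → T), D ≤ Y → (∀ k ∈ K, ∀ y ∈ Y, φ k y ∈ Y) → Y = D ∨ Y = ⊤ := by
    intro Y hDY hY
    have hle : ∀ k ∈ K, k ∈ Subgroup.normalizer (((Y.comap e.toMonoidHom).map N.subtype : Subgroup H) : Set H) := by
      have h1 : ∀ k ∈ K, ∀ g : H, g ∈ (Y.comap e.toMonoidHom).map N.subtype →
          k * g * k⁻¹ ∈ (Y.comap e.toMonoidHom).map N.subtype := by
        rintro k hk _ ⟨n, hn, rfl⟩
        refine ⟨MulAut.conjNormal k n, ?_, MulAut.conjNormal_apply k n⟩
        show e _ ∈ Y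
        rw [← hφ]
        exact hY k hk _ hn
      intro k hk
      rw [Subgroup.mem_normalizer_iff]
      intro g
      refine ⟨h1 k hk g, fun hg => ?_⟩
      have := h1 k⁻¹ (inv_mem hk) _ hg
      rwa [show k⁻¹ * (k * g * k⁻¹) * k⁻¹⁻¹ = g by group] at this
    have hKX : K ⊓ N ≤ (Y.comap e.toMonoidHom).map N.subtype :=
      fun g hg => ⟨⟨g, hg.2⟩, hDY ((hD ⟨g, hg.2⟩).2 hg.1), rfl⟩
    rcases Cfsg.Agent.S0722.result H N hN hmin a _ (Subgroup.map_subtype_le _) hKX hle with h | h
    · refine Or.inl (le_antisymm (fun y hy => ?_) hDY)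
      obtain ⟨n, rfl⟩ := e.surjective y
      have hm' : (n : H) ∈ (Y.comap e.toMonoidHom).map N.subtype := ⟨n, hy, rfl⟩
      rw [h] at hm'
      exact (hD n).2 hm'.1
    · refine Or.inr (eq_top_iff.2 fun y _ => ?_)
      obtain ⟨n, rfl⟩ := e.surjective y
      have hm' : (n : H) ∈ (Y.comap e.toMonoidHom).map N.subtype := by rw [h]; exact n.2
      obtain ⟨n', hn', he⟩ := hm'
      exact (Subtype.ext he : n' = n) ▸ hn'
  choose σ hσb τ hτ using fun h : H => exists_perm hTna (φ h)
  -- transitivity on the factors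
  have htrans : ∀ i j : Fin m, Relation.ReflTransGen (fun i j => ∃ k ∈ K, σ k i = j) i j := by
    intro i j
    set S : Set (Fin m) := {l | Relation.ReflTransGen (fun i j => ∃ k ∈ K, σ k i = j) i l} with hS
    by_contra hj
    let P : Subgroup (Fin m → T) :=
      { carrier := {x | ∀ l, l ∉ S → x l = 1}
        mul_mem' := fun {x y} hx hy l hl => by rw [Pi.mul_apply, hx l hl, hy l hl, one_mul]
        one_mem' := fun _ _ => rfl
        inv_mem' := fun {x} hx l hl => by rw [Pi.inv_apply, hx l hl, inv_one] }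
    have hPn : P.Normal := ⟨fun x hx g l hl => by
      rw [Pi.mul_apply, Pi.mul_apply, hx l hl, mul_one, Pi.inv_apply, mul_inv_cancel]⟩
    have hPinv : ∀ k ∈ K, ∀ x ∈ P, φ k x ∈ P := by
      intro k hk x hx l hl
      obtain ⟨l', rfl⟩ := (hσb k).2 l
      rw [hτ]
      have : l' ∉ S := fun h => hl (Relation.ReflTransGen.tail h ⟨k, hk, rfl⟩)
      rw [hx l' this, map_one]
    let M : Subgroup H := (P.comap e.toMonoidHom).map N.subtype
    have hMn : M.Normal := by
      rw [← Subgroup.normalizer_eq_top_iff, eq_top_iff, ← htop, sup_le_iff]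
      constructor
      · have h1 : ∀ k ∈ K, ∀ g : H, g ∈ M → k * g * k⁻¹ ∈ M := by
          rintro k hk _ ⟨n, hn, rfl⟩
          refine ⟨MulAut.conjNormal k n, ?_, MulAut.conjNormal_apply k n⟩
          show e _ ∈ P
          rw [← hφ]
          exact hPinv k hk _ hn
        intro k hk
        rw [Subgroup.mem_normalizer_iff]
        intro g
        refine ⟨h1 k hk g, fun hg => ?_⟩
        have := h1 k⁻¹ (inv_mem hk) _ hg
        rwa [show k⁻¹ * (k * g * k⁻¹) * k⁻¹⁻¹ = g by group] at this
      · intro g hg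
        have h1 : ∀ g ∈ N, ∀ x : H, x ∈ M → g * x * g⁻¹ ∈ M := by
          rintro g hg _ ⟨n, hn, rfl⟩
          exact ⟨⟨g, hg⟩ * n * ⟨g, hg⟩⁻¹, (hPn.comap _).conj_mem n hn _, rfl⟩
        rw [Subgroup.mem_normalizer_iff]
        intro x
        refine ⟨h1 g hg x, fun hx => ?_⟩
        have := h1 g⁻¹ (inv_mem hg) _ hx
        rwa [show g⁻¹ * (g * x * g⁻¹) * g⁻¹⁻¹ = x by group] at this
    obtain ⟨t, ht⟩ := exists_ne (1 : T)
    rcases hmin M hMn (Subgroup.map_subtype_le _) with h | h
    · obtain ⟨n, hn⟩ := e.surjective (Pi.mulSingle i t)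
      have hnm : (n : H) ∈ M := ⟨n, by
        show e n ∈ P
        rw [hn]
        intro l hl
        have hli : l ≠ i := fun h' => hl (by rw [h']; exact Relation.ReflTransGen.refl)
        exact Pi.mulSingle_eq_of_ne (M := fun _ => T) hli t, rfl⟩
      rw [h, Subgroup.mem_bot] at hnm
      rw [show n = 1 from Subtype.ext hnm, map_one] at hn
      exact ht (Pi.mulSingle_eq_one_iff.1 hn.symm)
    · obtain ⟨n, hn⟩ := e.surjective (Pi.mulSingle j t)
      have hnm : (n : H) ∈ M := by rw [h]; exact n.2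
      obtain ⟨n', hn', he⟩ := hnm
      have he' : n' = n := Subtype.ext he
      subst he'
      have := (show e n' ∈ P from hn') j hj
      rw [hn, Pi.mulSingle_eq_same] at this
      exact ht this
  -- projections
  let proj : Fin m → Subgroup T := fun i => D.map (Pi.evalMonoidHom (fun _ => T) i)
  have hproj : ∀ i j : Fin m, proj i = ⊤ → proj j = ⊤ := by
    intro i j hi
    induction htrans i j with
    | refl => exact hi
    | @tail b c _ hbc ih =>
      obtain ⟨k, hk, rfl⟩ := hbc
      refine eq_top_iff.2 fun t _ => ?_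
      obtain ⟨x, hx, hxt⟩ := (show (τ k b).symm t ∈ proj b by rw [ih]; trivial)
      refine ⟨φ k x, hDinv k hk x hx, ?_⟩
      show φ k x (σ k b) = t
      rw [hτ, show x b = (τ k b).symm t from hxt, MulEquiv.apply_symm_apply]
  let Y : Subgroup (Fin m → T) :=
    { carrier := {x | ∀ i, x i ∈ proj i}
      mul_mem' := fun {x y} hx hy i => mul_mem (hx i) (hy i)
      one_mem' := fun i => one_mem _
      inv_mem' := fun {x} hx i => inv_mem (hx i) }
  have hDY : D ≤ Y := fun x hx i => ⟨x, hx, rfl⟩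
  have hYinv : ∀ k ∈ K, ∀ y ∈ Y, φ k y ∈ Y := by
    intro k hk y hy l
    obtain ⟨l', rfl⟩ := (hσb k).2 l
    obtain ⟨x, hx, hxy⟩ := hy l'
    refine ⟨φ k x, hDinv k hk x hx, ?_⟩
    show φ k x (σ k l') = _
    rw [hτ, hτ]
    exact congrArg _ hxy
  obtain ⟨i₀⟩ : Nonempty (Fin m) := ⟨⟨0, hm⟩⟩
  by_cases hfull : proj i₀ = ⊤
  swap
  · have hne : ∀ i, proj i ≠ ⊤ := fun i h => hfull (hproj i i₀ h)
    rcases hmax Y hDY hYinv with h | h
    · refine ⟨T, inferInstance, m, e, hTs, hTna, hm, Or.inl ⟨proj, hne, fun n => ?_⟩⟩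
      rw [← hD n, ← h]
      exact Iff.rfl
    · refine absurd (eq_top_iff.2 fun t _ => ?_) hfull
      have : Pi.mulSingle i₀ t ∈ Y := h ▸ Subgroup.mem_top _
      simpa using this i₀
  have hsur : ∀ i t, ∃ x ∈ D, x i = t := fun i t => by
    obtain ⟨x, hx, hxt⟩ := (show t ∈ proj i by rw [hproj i₀ i hfull]; trivial)
    exact ⟨x, hx, hxt⟩
  -- linked coordinates
  let R : Setoid (Fin m) :=
    ⟨fun i j => ∀ x ∈ D, x i = 1 ↔ x j = 1, fun _ _ _ => Iff.rfl, fun h x hx => (h x hx).symm,
      fun h h' x hx => (h x hx).trans (h' x hx)⟩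
  let c : Fin m → Fin m := fun i => (Quotient.mk R i).out
  have hc : ∀ i, ∀ x ∈ D, x (c i) = 1 ↔ x i = 1 := fun i => Quotient.mk_out (s := R) i
  have hcc : ∀ i j, c i = c j ↔ ∀ x ∈ D, x i = 1 ↔ x j = 1 := fun i j => by
    constructor
    · intro h x hx
      rw [← hc i x hx, ← hc j x hx, h]
    · intro h
      exact congrArg Quotient.out (Quotient.sound (show R.r i j from h))
  have hθ : ∀ i, ∃ θ : T ≃* T, ∀ x ∈ D, θ (x (c i)) = x i := by
    intro i
    choose f hfD hf using hsur (c i)
    have huniq : ∀ x ∈ D, f (x (c i)) i = x i := fun x hx => by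
      have h1 := (hc i _ (mul_mem (hfD (x (c i))) (inv_mem hx))).1 (by
        rw [Pi.mul_apply, Pi.inv_apply, hf, mul_inv_cancel])
      rwa [Pi.mul_apply, Pi.inv_apply, mul_inv_eq_one] at h1
    let θ : T →* T := MonoidHom.mk' (fun t => f t i) fun s t => by
      have := huniq _ (mul_mem (hfD s) (hfD t))
      rw [Pi.mul_apply, hf, hf] at this
      exact this
    have hb : Function.Bijective θ := by
      constructor
      · refine (injective_iff_map_eq_one θ).2 fun t ht => ?_
        have := (hc i _ (hfD t)).2 ht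
        rwa [hf] at this
      · intro t
        obtain ⟨x, hx, hxt⟩ := hsur i t
        exact ⟨x (c i), (huniq x hx).trans hxt⟩
    exact ⟨MulEquiv.ofBijective θ hb, fun x hx => huniq x hx⟩
  choose θ hθ using hθ
  have hTp := perfect hTna
  -- independence of unlinked coordinates
  have hindep : ∀ (S : Finset (Fin m)) (r : Fin m), (∀ s ∈ S, c s ≠ c r) → ∀ t, ∃ x ∈ D, x r = t ∧ ∀ s ∈ S, x s = 1 := by
    intro S r
    induction S using Finset.induction_on with
    | empty => exact fun _ t => (hsur r t).imp fun x hx => ⟨hx.1, hx.2, by simp⟩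
    | @insert s S hs ih =>
      intro hS t
      have ih' := ih fun s' hs' => hS s' (Finset.mem_insert_of_mem hs')
      -- the kernel at `s` projects onto `r`
      have hker : ∀ u, ∃ x ∈ D, x r = u ∧ x s = 1 := by
        let A : Subgroup T :=
          (D ⊓ (Pi.evalMonoidHom (fun _ => T) s).ker).map (Pi.evalMonoidHom (fun _ => T) r)
        have hA : A.Normal := ⟨by
          rintro _ ⟨x, hx, rfl⟩ g
          obtain ⟨y, hy, rfl⟩ := hsur r g
          refine ⟨y * x * y⁻¹, ⟨D.mul_mem (D.mul_mem hy hx.1) (D.inv_mem hy), ?_⟩, rfl⟩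
          show y s * x s * (y s)⁻¹ = 1
          rw [show x s = 1 from hx.2, mul_one, mul_inv_cancel]⟩
        rcases hA.eq_bot_or_eq_top with h | h
        · refine absurd ((hcc s r).2 fun x hx => ⟨fun h1 => ?_, fun h1 => ?_⟩) (hS s (Finset.mem_insert_self s S))
          · exact Subgroup.mem_bot.1 (h ▸ (⟨x, ⟨hx, h1⟩, rfl⟩ : x r ∈ A))
          · -- the converse
            let B : Subgroup T :=
              (D ⊓ (Pi.evalMonoidHom (fun _ => T) r).ker).map (Pi.evalMonoidHom (fun _ => T) s)
            have hB : B.Normal := ⟨by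
              rintro _ ⟨x, hx, rfl⟩ g
              obtain ⟨y, hy, rfl⟩ := hsur s g
              refine ⟨y * x * y⁻¹, ⟨D.mul_mem (D.mul_mem hy hx.1) (D.inv_mem hy), ?_⟩, rfl⟩
              show y r * x r * (y r)⁻¹ = 1
              rw [show x r = 1 from hx.2, mul_one, mul_inv_cancel]⟩
            rcases hB.eq_bot_or_eq_top with h' | h'
            · exact Subgroup.mem_bot.1 (h' ▸ (⟨x, ⟨hx, h1⟩, rfl⟩ : x s ∈ B))
            · -- then everything vanishes at `r`
              exfalso
              obtain ⟨u, hu⟩ := exists_ne (1 : T)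
              obtain ⟨y, hy, hyu⟩ := hsur r u
              obtain ⟨z, ⟨hz, hzr⟩, hzs⟩ := (show y s ∈ B by rw [h']; trivial)
              have h3 : (y * z⁻¹) r = 1 := Subgroup.mem_bot.1 (h ▸ (⟨y * z⁻¹,
                ⟨D.mul_mem hy (D.inv_mem hz), show y s * (z s)⁻¹ = 1 by
                  rw [show z s = y s from hzs, mul_inv_cancel]⟩, rfl⟩ : (y * z⁻¹) r ∈ A))
              rw [Pi.mul_apply, Pi.inv_apply, show z r = 1 from hzr, inv_one, mul_one, hyu] at h3
              exact hu h3
        · intro u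
          obtain ⟨x, ⟨hx, hxs⟩, hxu⟩ := (show u ∈ A by rw [h]; trivial)
          exact ⟨x, hx, hxu, hxs⟩
      let E : Subgroup T :=
        { carrier := {u | ∃ x ∈ D, x r = u ∧ ∀ s' ∈ insert s S, x s' = 1}
          mul_mem' := by
            rintro u v ⟨x, hx, rfl, hx'⟩ ⟨y, hy, rfl, hy'⟩
            exact ⟨x * y, mul_mem hx hy, rfl, fun l hl => by rw [Pi.mul_apply, hx' l hl, hy' l hl, one_mul]⟩
          one_mem' := ⟨1, one_mem _, rfl, fun _ _ => rfl⟩
          inv_mem' := by
            rintro u ⟨x, hx, rfl, hx'⟩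
            exact ⟨x⁻¹, inv_mem hx, rfl, fun l hl => by rw [Pi.inv_apply, hx' l hl, inv_one]⟩ }
      have hE : commutator T ≤ E := by
        rw [_root_.commutator_def, Subgroup.commutator_le]
        intro u _ v _
        obtain ⟨x, hx, rfl, hx'⟩ := ih' u
        obtain ⟨y, hy, rfl, hy'⟩ := hker v
        refine ⟨⁅x, y⁆, by rw [commutatorElement_def]; exact mul_mem (mul_mem (mul_mem hx hy) (inv_mem hx)) (inv_mem hy),
          rfl, fun l hl => ?_⟩
        rcases Finset.mem_insert.1 hl with rfl | hl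
        · simp [commutatorElement_def, hy']
        · simp [commutatorElement_def, hx' l hl]
      exact hE (hTp ▸ Subgroup.mem_top t)
  let e' : N ≃* (Fin m → T) := e.trans (MulEquiv.piCongrRight fun i => (θ i).symm)
  have he' : ∀ n i, e' n i = (θ i).symm (e n i) := fun n i => rfl
  refine ⟨T, inferInstance, m, e', hTs, hTna, hm, Or.inr ?_⟩
  have hiff : ∀ n : N, (n : H) ∈ K ↔ ∀ i j : Fin m, c i = c j → e' n i = e' n j := fun n => by
    rw [← hD]
    constructor
    · intro hn i j hij
      rw [he', he', ← hθ i _ hn, ← hθ j _ hn, MulEquiv.symm_apply_apply, MulEquiv.symm_apply_apply, hij]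
    · intro hn
      -- build the element on the representatives
      have key : ∀ S : Finset (Fin m), (∀ s ∈ S, c s = s) →
          ∃ x ∈ D, (∀ s ∈ S, x s = θ s (e' n s)) := by
        intro S
        induction S using Finset.induction_on with
        | empty => exact fun _ => ⟨1, one_mem _, by simp⟩
        | @insert s S hs ih =>
          intro hS
          obtain ⟨x, hx, hxS⟩ := ih fun l hl => hS l (Finset.mem_insert_of_mem hl)
          obtain ⟨y, hy, hys, hyS⟩ := hindep S s (fun l hl h => hs (by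
            rw [hS l (Finset.mem_insert_of_mem hl), hS s (Finset.mem_insert_self s S)] at h
            exact h ▸ hl)) (θ s (e' n s) * (x s)⁻¹)
          refine ⟨y * x, mul_mem hy hx, fun l hl => ?_⟩
          rcases Finset.mem_insert.1 hl with rfl | hl
          · rw [Pi.mul_apply, hys, inv_mul_cancel_right]
          · rw [Pi.mul_apply, hyS l hl, one_mul, hxS l hl]
      have hcid : ∀ i, c (c i) = c i := fun i => (hcc _ _).2 (hc i)
      obtain ⟨x, hx, hxS⟩ := key (Finset.univ.filter fun s => c s = s) fun s hs => (Finset.mem_filter.1 hs).2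
      suffices e n = x from this ▸ hx
      funext i
      have h1 := hxS (c i) (Finset.mem_filter.2 ⟨Finset.mem_univ _, hcid i⟩)
      have h2 := hθ (c i) x hx
      rw [hcid] at h2
      have h3 : θ (c i) (x (c i)) = x (c i) := h2
      rw [← hθ i x hx]
      have h4 : e' n (c i) = x (c i) := (θ (c i)).injective (h1.symm.trans h3.symm)
      rw [← h4, ← hn i (c i) (hcid i).symm, he', MulEquiv.apply_symm_apply]
  have hsize : ∀ i j, Nat.card {l // c l = c i} = Nat.card {l // c l = c j} := by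
    intro i j
    induction htrans i j with
    | refl => rfl
    | @tail b d _ hbd ih =>
      obtain ⟨k, hk, rfl⟩ := hbd
      rw [ih]
      refine Nat.card_congr ((Equiv.ofBijective (σ k) (hσb k)).subtypeEquiv fun l => ?_)
      show c l = c b ↔ c (σ k l) = c (σ k b)
      rw [hcc, hcc]
      constructor
      · intro h x hx
        obtain ⟨n, rfl⟩ := e.surjective x
        have hmem : e (MulAut.conjNormal k⁻¹ n) ∈ D := by rw [← hφ]; exact hDinv _ (inv_mem hk) _ hx
        have hback : φ k (e (MulAut.conjNormal k⁻¹ n)) = e n := by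
          rw [hφ, map_inv, MulAut.apply_inv_self]
        rw [← hback, hτ, hτ, map_eq_one_iff _ (τ k l).injective, map_eq_one_iff _ (τ k b).injective]
        exact h _ hmem
      · intro h x hx
        have := h _ (hDinv k hk x hx)
        rwa [hτ, hτ, map_eq_one_iff _ (τ k l).injective, map_eq_one_iff _ (τ k b).injective] at this
  have hk2 : 2 ≤ Nat.card {l // c l = c i₀} := by
    by_contra hlt
    have hinj : Function.Injective c := by
      intro i j hij
      have h1 : Nat.card {l // c l = c i} ≤ 1 := by rw [hsize i i₀]; omega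
      haveI := (Finite.card_le_one_iff_subsingleton).1 h1
      exact congrArg Subtype.val (Subsingleton.elim (⟨i, rfl⟩ : {l // c l = c i}) ⟨j, hij.symm⟩)
    exact hNK fun g hg => (hiff ⟨g, hg⟩).2 fun i j hij => by rw [hinj hij]
  refine ⟨Nat.card {l // c l = c i₀}, c, hk2, fun j => ?_, hiff⟩
  by_cases hj : ∃ i, c i = j
  · obtain ⟨i, rfl⟩ := hj
    exact Or.inl (hsize i i₀)
  · exact Or.inr (Nat.card_eq_zero.2 (Or.inl ⟨fun ⟨l, hl⟩ => hj ⟨l, hl⟩⟩))

end Cfsg.Agent.S0723
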