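import Cfsg.Statements.S0724
import Mathlib.GroupTheory.GroupAction.Quotient
import Mathlib.Algebra.Polynomial.Eval.Coeff
import Mathlib.Algebra.Polynomial.BigOperators
import Mathlib.Algebra.BigOperators.Ring.Finset

set_option autoImplicit false
open Cfsg

namespace Cfsg.Agent.S0724

/-- Blichfeldt's Theorem: if a finite set `L` of natural numbers contains the number of fixed points of every non-identity element of a permutation group `G` of degree `n`, then the order of `G` divides `∏ (n - l)` over `l ∈ L`. -/
theorem result {α : Type*} [Fintype α] [DecidableEq α] (G : Subgroup (Equiv.Perm α)) (L : Finset ℕ) (hL : ∀ g ∈ G, g ≠ 1 → Nat.card (MulAction.fixedBy α g) ∈ L) : Nat.card G ∣ ∏ l ∈ L, (Fintype.card α - l) := by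
  classical
  by_cases hbig : ∃ l ∈ L, Fintype.card α ≤ l
  · obtain ⟨l, hl, hle⟩ := hbig
    rw [Finset.prod_eq_zero hl (Nat.sub_eq_zero_of_le hle)]
    exact dvd_zero _
  push Not at hbig
  have hG : Fintype G := Fintype.ofFinite G
  let π : G → ℤ := fun g => (Nat.card (MulAction.fixedBy α g) : ℤ)
  have hpow : ∀ i : ℕ, (Nat.card G : ℤ) ∣ ∑ g : G, π g ^ i := by
    intro i
    have h := MulAction.sum_card_fixedBy_eq_card_orbits_mul_card_group G (Fin i → α)
    have hc : ∀ g : G, Nat.card (MulAction.fixedBy α g) ^ i = Fintype.card (MulAction.fixedBy (Fin i → α) g) := by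
      intro g
      rw [← Nat.card_eq_fintype_card]
      rw [Nat.card_congr (show MulAction.fixedBy (Fin i → α) g ≃ (Fin i → MulAction.fixedBy α g) from
        { toFun := fun f j => ⟨f.1 j, congrFun f.2 j⟩
          invFun := fun f => ⟨fun j => (f j).1, funext fun j => (f j).2⟩
          left_inv := fun f => rfl
          right_inv := fun f => rfl }), Nat.card_fun, Nat.card_fin]
    have : (∑ g : G, π g ^ i) = ((∑ g : G, Fintype.card (MulAction.fixedBy (Fin i → α) g) : ℕ) : ℤ) := by
      rw [Nat.cast_sum]
      exact Finset.sum_congr rfl fun g _ => by rw [← hc g, Nat.cast_pow]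
    rw [this, h, Nat.card_eq_fintype_card (α := G)]
    push_cast
    exact dvd_mul_left _ _
  have hpoly : ∀ P : Polynomial ℤ, (Nat.card G : ℤ) ∣ ∑ g : G, P.eval (π g) := by
    intro P
    induction P using Polynomial.induction_on' with
    | add P Q hP hQ => simp only [Polynomial.eval_add, Finset.sum_add_distrib]; exact dvd_add hP hQ
    | monomial i c => simp only [Polynomial.eval_monomial, ← Finset.mul_sum]; exact (hpow i).mul_left c
  have hsum := hpoly (∏ l ∈ L, (Polynomial.X - Polynomial.C (l : ℤ)))
  simp only [Polynomial.eval_prod, Polynomial.eval_sub, Polynomial.eval_X, Polynomial.eval_C] at hsum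
  rw [Finset.sum_eq_single (1 : G) (fun g _ hg => Finset.prod_eq_zero (hL g g.2 (by simpa using hg)) (by
    show π g - _ = 0
    rw [sub_eq_zero]
    rfl)) (by simp)] at hsum
  have h1 : π 1 = (Fintype.card α : ℤ) := by
    show ((Nat.card (MulAction.fixedBy α (1 : G)) : ℕ) : ℤ) = _
    rw [MulAction.fixedBy_one_eq_univ, Nat.card_univ, Nat.card_eq_fintype_card]
  rw [h1] at hsum
  rw [← Int.natCast_dvd_natCast]
  convert hsum using 1
  rw [Nat.cast_prod]
  exact Finset.prod_congr rfl fun l hl => by rw [Nat.cast_sub (hbig l hl).le]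

end Cfsg.Agent.S0724
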