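import Cfsg.Statements.S0726

set_option autoImplicit false
open Cfsg

namespace Cfsg.Agent.S0726

/-- The left and right regular permutation representations of a group are each other's centralisers in the symmetric group: the centraliser of the left regular image is the right regular image, and a transitive subgroup centralising the left regular image is the whole right regular image. -/
theorem result {G : Type*} [Group G] : Subgroup.centralizer ((MulAction.toPermHom G G).range : Set (Equiv.Perm G)) = (MulAction.toPermHom Gᵐᵒᵖ G).range ∧ ∀ H : Subgroup (Equiv.Perm G), H ≤ Subgroup.centralizer ((MulAction.toPermHom G G).range : Set (Equiv.Perm G)) → MulAction.IsPretransitive H G → H = (MulAction.toPermHom Gᵐᵒᵖ G).range := by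
  have key : ∀ σ : Equiv.Perm G, σ ∈ Subgroup.centralizer ((MulAction.toPermHom G G).range : Set (Equiv.Perm G)) ↔
      ∀ g x : G, σ (g * x) = g * σ x := by
    intro σ
    rw [Subgroup.mem_centralizer_iff]
    refine ⟨fun h g x => (DFunLike.congr_fun (h _ ⟨g, rfl⟩) x).symm, ?_⟩
    rintro h _ ⟨g, rfl⟩
    exact Equiv.ext fun x => (h g x).symm
  have hR : ∀ σ : Equiv.Perm G, (∀ g x : G, σ (g * x) = g * σ x) →
      σ = MulAction.toPermHom Gᵐᵒᵖ G (MulOpposite.op (σ 1)) := fun σ h => Equiv.ext fun x => by
    show σ x = x * σ 1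
    simpa using h x 1
  refine ⟨le_antisymm (fun σ h => ⟨_, (hR σ ((key σ).1 h)).symm⟩) ?_, fun H hH hT => le_antisymm ?_ ?_⟩
  · rintro _ ⟨g, rfl⟩
    exact (key _).2 fun a x => mul_assoc a x g.unop
  · exact fun σ h => ⟨_, (hR σ ((key σ).1 (hH h))).symm⟩
  · rintro _ ⟨g, rfl⟩
    obtain ⟨σ, hσ⟩ := hT.exists_smul_eq (1 : G) g.unop
    have := hR σ ((key _).1 (hH σ.2))
    have h1 : (σ : Equiv.Perm G) 1 = g.unop := hσ
    rw [h1, MulOpposite.op_unop] at this
    exact this ▸ σ.2

end Cfsg.Agent.S0726
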