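import Cfsg.Statements.S0727
import Cfsg.Agent.Zassenhaus.EvenSharp

set_option autoImplicit false
open Cfsg

namespace Cfsg.Agent.S0727

/-- A sharply triply transitive permutation group of degree `2^f + 1` is isomorphic to the projective general linear group of degree 2 over the field with `2^f` elements. -/
theorem result {α : Type*} [Fintype α] [DecidableEq α] {f : ℕ} (hf : 1 ≤ f) (hα : Fintype.card α = 2 ^ f + 1) (G : Subgroup (Equiv.Perm α)) (h3 : MulAction.IsMultiplyPretransitive G α 3) (hsharp : ∀ x : Fin 3 ↪ α, MulAction.stabilizer G x = ⊥) : ∃ (F : Type) (_ : Field F) (_ : Fintype F), Fintype.card F = 2 ^ f ∧ Nonempty (G ≃* Matrix.ProjGenLinGroup (Fin 2) F) := by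
  classical
  have hn3 : 3 ≤ Nat.card α := by
    rw [Nat.card_eq_fintype_card, hα]
    have := Nat.one_lt_two_pow (n := f) (by omega)
    omega
  have C := Zassenhaus.zctx_of_three h3 hn3 fun g x y z h1 h2 h4 hx hy hz => by
    obtain ⟨e, e0, e1, e2⟩ := Zassenhaus.exists_triple h1 h4 h2
    have : g ∈ MulAction.stabilizer G e := by
      rw [MulAction.mem_stabilizer_iff]; ext i
      show g • e i = e i
      fin_cases i
      · simpa [e0] using hx
      · simpa [e1] using hy
      · simpa [e2] using hz
    rwa [hsharp, Subgroup.mem_bot] at this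
  obtain ⟨f', K, iK, iFK, -, hK, hn, -, he⟩ := C.identify_even hn3 (by
    rw [Nat.card_eq_fintype_card, hα]
    exact Even.add_one (even_iff_two_dvd.2 (dvd_pow_self 2 (by omega))))
    (Zassenhaus.exists_map_three h3)
  rw [Nat.card_eq_fintype_card, hα] at hn
  exact ⟨K, iK, iFK, by omega, he⟩

end Cfsg.Agent.S0727
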