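import Cfsg.Statements.S0729
import Cfsg.Agent.Zassenhaus.Swap
import Cfsg.Agent.S0728
-- import your own Cfsg.Agent.* helpers here

set_option autoImplicit false
open Cfsg

namespace Cfsg.Agent.S0729

theorem three_points {α : Type*} {a b c : α} (hab : a ≠ b) (hac : a ≠ c) (hbc : b ≠ c) :
    ∃ e : Fin 3 ↪ α, e 0 = a ∧ e 1 = b ∧ e 2 = c :=
  ⟨⟨![a, b, c], fun i j h => by fin_cases i <;> fin_cases j <;> simp_all⟩, rfl, rfl, rfl⟩

/-- In a sharply triply transitive group of even degree at least 6, the two-point stabiliser `H = G_{a,b}` has a normal subgroup of index 2 that is normalised by the element `s` interchanging `a, b` and fixing a third point `c`. -/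
theorem result {α : Type*} [Fintype α] [DecidableEq α] (heven : Even (Fintype.card α)) (h6 : 6 ≤ Fintype.card α) (G : Subgroup (Equiv.Perm α)) (h3 : MulAction.IsMultiplyPretransitive G α 3) (hsharp : ∀ x : Fin 3 ↪ α, MulAction.stabilizer G x = ⊥) {a b c : α} (hab : a ≠ b) (hac : a ≠ c) (hbc : b ≠ c) (s : G) (hsa : s • a = b) (hsb : s • b = a) (hsc : s • c = c) : ∃ N : Subgroup G, N ≤ MulAction.stabilizer G a ⊓ MulAction.stabilizer G b ∧ (N.subgroupOf (MulAction.stabilizer G a ⊓ MulAction.stabilizer G b)).Normal ∧ N.relIndex (MulAction.stabilizer G a ⊓ MulAction.stabilizer G b) = 2 ∧ ∀ n ∈ N, s * n * s⁻¹ ∈ N := by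
  classical
  have hn3 : 3 ≤ Nat.card α := by rw [Nat.card_eq_fintype_card]; omega
  have hone : ∀ (g : G) (x y z : α), x ≠ y → y ≠ z → x ≠ z → g • x = x → g • y = y → g • z = z →
      g = 1 := by
    intro g x y z h1 h2 h4 hx hy hz
    obtain ⟨e, e0, e1, e2⟩ := three_points h1 h4 h2
    have : g ∈ MulAction.stabilizer G e := by
      rw [MulAction.mem_stabilizer_iff]; ext i
      show g • e i = e i
      fin_cases i
      · simpa [e0] using hx
      · simpa [e1] using hy
      · simpa [e2] using hz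
    rwa [hsharp, Subgroup.mem_bot] at this
  have hmap : ∀ {x y z x' y' z' : α}, x ≠ y → x ≠ z → y ≠ z → x' ≠ y' → x' ≠ z' → y' ≠ z' →
      ∃ g : G, g • x = x' ∧ g • y = y' ∧ g • z = z' := by
    intro x y z x' y' z' h1 h2 h4 h1' h2' h4'
    obtain ⟨e, e0, e1, e2⟩ := three_points h1 h2 h4
    obtain ⟨f, f0, f1, f2⟩ := three_points h1' h2' h4'
    obtain ⟨g, hg⟩ := h3.exists_smul_eq e f
    exact ⟨g, by rw [← e0, ← f0, ← hg]; rfl, by rw [← e1, ← f1, ← hg]; rfl,
      by rw [← e2, ← f2, ← hg]; rfl⟩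
  have C : Zassenhaus.ZCtx G α := ⟨fun {x y u v} hxy huv => by
    obtain ⟨z, hzx, hzy⟩ := Zassenhaus.exists_third hn3 x y
    obtain ⟨w, hwu, hwv⟩ := Zassenhaus.exists_third hn3 u v
    obtain ⟨g, h1, h2, -⟩ := hmap hxy (Ne.symm hzx) (Ne.symm hzy) huv (Ne.symm hwu) (Ne.symm hwv)
    exact ⟨g, h1, h2⟩, hone⟩
  obtain ⟨N, hNi, hNs⟩ := C.exists_index_two hn3 (by rw [Nat.card_eq_fintype_card]; exact heven)
    hab hac hbc hsa hsb hsc
    (fun x y hxa hxb hya hyb => by
      obtain ⟨g, h1, h2, h4⟩ := hmap hab (Ne.symm hxa) (Ne.symm hxb) hab (Ne.symm hya) (Ne.symm hyb)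
      exact ⟨g, ⟨h1, h2⟩, h4⟩)
    (fun A B hA hB => S0728.result heven h6 G h3 hsharp hab A B hA hB)
  refine ⟨N.map (Zassenhaus.twoPt G a b).subtype, Subgroup.map_subtype_le N, ?_, ?_, ?_⟩
  · rw [Subgroup.subgroupOf, Subgroup.comap_map_eq_self_of_injective (Subgroup.subtype_injective _)]
    exact Subgroup.normal_of_index_eq_two hNi
  · rw [Subgroup.relIndex, Subgroup.subgroupOf,
      Subgroup.comap_map_eq_self_of_injective (Subgroup.subtype_injective _)]
    exact hNi
  · rintro _ ⟨n, hn, rfl⟩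
    exact ⟨_, hNs n hn, rfl⟩

end Cfsg.Agent.S0729
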