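
import Cfsg.Statements.S0730
import Cfsg.Agent.Zassenhaus.OddRank
import Cfsg.Agent.Zassenhaus.FieldPGL
import Cfsg.Agent.Zassenhaus.EvenSharp
import Cfsg.Agent.Zassenhaus.Swap

set_option autoImplicit false
open Cfsg

namespace Cfsg.Agent.S0730

/-- A sharply triply transitive group of degree `p^f + 1`, `p` an odd prime and `f` odd, is isomorphic to the projective general linear group of degree 2 over the field with `p^f` elements (for even `f` there is a second, twisted, group). -/
theorem result {α : Type*} [Fintype α] [DecidableEq α] {p f : ℕ} (hp : p.Prime) (hp2 : p ≠ 2) (hfo : Odd f) (hα : Fintype.card α = p ^ f + 1) (G : Subgroup (Equiv.Perm α)) (h3 : MulAction.IsMultiplyPretransitive G α 3) (hsharp : ∀ x : Fin 3 ↪ α, MulAction.stabilizer G x = ⊥) : ∃ (F : Type) (_ : Field F) (_ : Fintype F), Fintype.card F = p ^ f ∧ Nonempty (G ≃* Matrix.ProjGenLinGroup (Fin 2) F) := by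
  classical
  have hpf : 1 < p ^ f := Nat.one_lt_pow (show f ≠ 0 by obtain ⟨j, hj⟩ := hfo; omega) hp.one_lt
  have hn3 : 3 ≤ Nat.card α := by rw [Nat.card_eq_fintype_card, hα]; omega
  have hone : ∀ (g : G) (x y z : α), x ≠ y → y ≠ z → x ≠ z → g • x = x → g • y = y → g • z = z →
      g = 1 := by
    intro g x y z h1 h2 h4 hx hy hz
    obtain ⟨e, e0, e1, e2⟩ := Zassenhaus.exists_triple h1 h4 h2
    have : g ∈ MulAction.stabilizer G e := by
      rw [MulAction.mem_stabilizer_iff]; ext i
      show g • e i = e i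
      fin_cases i
      · simpa [e0] using hx
      · simpa [e1] using hy
      · simpa [e2] using hz
    rwa [hsharp, Subgroup.mem_bot] at this
  have C : Zassenhaus.ZCtx G α := Zassenhaus.zctx_of_three h3 hn3 hone
  obtain ⟨a, b, hab⟩ : ∃ a b : α, a ≠ b := Fintype.exists_pair_of_one_lt_card (by omega)
  obtain ⟨c, hca, hcb⟩ := Zassenhaus.exists_third hn3 a b
  obtain ⟨s, hsa, hsb, hsc⟩ := Zassenhaus.exists_map_three h3 hab (Ne.symm hca) (Ne.symm hcb)
    (Ne.symm hab) (Ne.symm hcb) (Ne.symm hca)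
  have hd : Nat.card (Zassenhaus.twoPt G a b) = p ^ f - 1 := by
    refine (Nat.card_congr (Equiv.ofBijective
      (fun h : Zassenhaus.twoPt G a b => (⟨(h : G) • c, ?_⟩ : {x : α // x ∈ ({a, b} : Finset α)ᶜ}))
      ⟨?_, ?_⟩)).trans ?_
    · simp only [Finset.mem_compl, Finset.mem_insert, Finset.mem_singleton, not_or]
      exact ⟨fun e => hca (MulAction.injective (h : G) (e.trans h.2.1.symm)),
        fun e => hcb (MulAction.injective (h : G) (e.trans h.2.2.symm))⟩
    · intro h k e
      have e' : (h : G) • c = (k : G) • c := congrArg Subtype.val e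
      exact Subtype.ext (eq_of_inv_mul_eq_one (C.eq_one hab (mul_mem (inv_mem k.2) h.2) hca hcb
        (by rw [mul_smul, e', inv_smul_smul]))).symm
    · intro y
      have hy := y.2
      simp only [Finset.mem_compl, Finset.mem_insert, Finset.mem_singleton, not_or] at hy
      obtain ⟨g, g1, g2, g3⟩ := Zassenhaus.exists_map_three h3 hab (Ne.symm hca) (Ne.symm hcb) hab
        (Ne.symm hy.1) (Ne.symm hy.2)
      exact ⟨⟨g, g1, g2⟩, Subtype.ext g3⟩
    · rw [Nat.card_eq_finsetCard, Finset.card_compl, Finset.card_pair hab, hα]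
      omega
  obtain ⟨F, hF⟩ := C.exists_kernel' hn3 hab
  have hFc : Nat.card F = p ^ f := by
    have := hF.card_eq hab
    rw [Nat.card_eq_fintype_card (α := α), hα] at this
    omega
  obtain ⟨hcomm, q, hq, hqg, hexp⟩ := hF.elementary C hab hn3 (by
    rw [hd, Nat.card_eq_fintype_card, hα]; omega)
  haveI := Fact.mk hq
  haveI := Fact.mk hp
  have hqp : q = p := by
    obtain ⟨i, hi⟩ := hqg.exists_card_eq
    rw [hFc] at hi
    have h1 : p ∣ q ^ i := hi ▸ dvd_pow_self p (by obtain ⟨j, hj⟩ := hfo; omega)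
    exact ((Nat.prime_dvd_prime_iff_eq hp hq).1 (hp.dvd_of_dvd_pow h1)).symm
  subst hqp
  haveI : Nontrivial F := Finite.one_lt_card_iff_nontrivial.1 (by omega)
  letI : CommGroup F := { (inferInstance : Group F) with mul_comm := hcomm.is_comm.comm }
  have hd1 : Nat.card (Zassenhaus.twoPt G a b) + 1 = Nat.card F := by omega
  have hEcomm := Zassenhaus.comm_of_odd_rank (F := F) hp2 hfo hFc
    (fun u => Subtype.ext (by simpa using hexp u u.2)) hF.act (hF.act_fpf C hab) hd1
    (Zassenhaus.swapAut hsa hsb (C.swap_sq hab (Ne.symm hca) (Ne.symm hcb) hsa hsb hsc))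
    (Zassenhaus.swapAut_invol hsa hsb _)
    (Zassenhaus.card_fixed_le_two C hn3 hab (Ne.symm hca) (Ne.symm hcb) hsa hsb hsc)
  obtain ⟨K, _, _, e, μ, hK, -, hμ, -, hμs⟩ := Zassenhaus.exists_field_model_transitive hqg hF.act
    (hF.act_fpf C hab) hEcomm (fun u w hu hw => by
      have hub : (u : G) • b ≠ b := fun e =>
        hu (Subtype.ext (hF.eq_one_of_fix u.2 (Ne.symm hab) e))
      have hwb : (w : G) • b ≠ b := fun e =>
        hw (Subtype.ext (hF.eq_one_of_fix w.2 (Ne.symm hab) e))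
      obtain ⟨g, g1, g2, g3⟩ := Zassenhaus.exists_map_three h3 hab
        (Ne.symm (hF.smul_ne u.2 (Ne.symm hab))) (Ne.symm hub) hab
        (Ne.symm (hF.smul_ne w.2 (Ne.symm hab))) (Ne.symm hwb)
      refine ⟨⟨g, g1, g2⟩, Subtype.ext (hF.eq_of_smul (hF.act ⟨g, g1, g2⟩ u).2 w.2 (Ne.symm hab) ?_)⟩
      rw [hF.act_smul]; exact g3)
  have hK' : Fintype.card K = q ^ f := hK.trans hFc
  refine ⟨K, inferInstance, inferInstance, hK', C.identify_pgl_field hn3 hab hF e μ hμ hμs ?_⟩
  intro h1
  have h2 : (2 : K) = 0 := by linear_combination -h1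
  have h4 := FiniteField.cast_card_eq_zero K
  rw [hK', Nat.cast_pow] at h4
  obtain ⟨j, hj⟩ := (hp.odd_of_ne_two hp2)
  have h5 : ((q : ℕ) : K) = 0 := eq_zero_of_pow_eq_zero h4
  rw [hj] at h5
  push_cast at h5
  rw [h2, zero_mul, zero_add] at h5
  exact one_ne_zero h5

end Cfsg.Agent.S0730
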