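import Cfsg.Statements.S0731
import Cfsg.Agent.Zassenhaus.AbelianKernel

set_option autoImplicit false
open Cfsg
open Cfsg.Agent

namespace Cfsg.Agent.S0731

/-- A finite Zassenhaus group whose point stabiliser has an abelian regular normal subgroup on the remaining points is sharply triply transitive or isomorphic to `PSL(2, F)` for a finite field `F` of odd characteristic. -/
theorem result {G Ω : Type*} [Group G] [Finite G] [MulAction G Ω] [Finite Ω] (hZ : Cfsg.IsZassenhausGroup G Ω) (x : Ω) (F : Subgroup G) (hFle : F ≤ MulAction.stabilizer G x) (hFn : (F.subgroupOf (MulAction.stabilizer G x)).Normal) (hFab : IsMulCommutative F) (hreg : ∀ y z : Ω, y ≠ x → z ≠ x → ∃! u : F, (u : G) • y = z) : (MulAction.IsMultiplyPretransitive G Ω 3 ∧ ∀ t : Fin 3 ↪ Ω, MulAction.stabilizer G t = ⊥) ∨ ∃ (K : Type) (_ : Field K) (_ : Fintype K), ringChar K ≠ 2 ∧ Nonempty (G ≃* Matrix.ProjectiveSpecialLinearGroup (Fin 2) K) := by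
  classical
  obtain ⟨b, hbx, -⟩ := (RankOne.threeFree_of_zassenhaus hZ).exists_third x x
  have hF : Zassenhaus.IsKernel F x :=
    ⟨fun u hu => hFle hu, fun g hg u hu => hFn.conj_mem ⟨u, hFle hu⟩ hu ⟨g, hg⟩, hreg⟩
  rcases Zassenhaus.abelian_kernel_cases hZ (Ne.symm hbx) hF (fun u hu v hv =>
      congrArg Subtype.val (mul_comm' (⟨u, hu⟩ : F) ⟨v, hv⟩)) with h | ⟨-, p, f, K, iK, iFK, hp, hp2, hK, -, hiso⟩
  · exact Or.inl ⟨(Zassenhaus.zctx_of_zassenhaus hZ).three_transitive_of_full (Ne.symm hbx) h,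
      (Zassenhaus.zctx_of_zassenhaus hZ).stabilizer_triple⟩
  · refine Or.inr ⟨K, iK, iFK, fun hc => ?_, hiso⟩
    have h2 := FiniteField.even_card_of_char_two hc
    rw [hK, ← Nat.even_iff, Nat.even_pow] at h2
    exact hp2 ((Nat.prime_dvd_prime_iff_eq Nat.prime_two hp).1 (even_iff_two_dvd.1 h2.1)).symm

end Cfsg.Agent.S0731
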