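import Cfsg.Statements.S0733
import Mathlib.Algebra.Module.ZMod

set_option autoImplicit false
open Cfsg

namespace Cfsg.Agent.S0733

/-- A permutation group of affine type — generated by the translations of a finite vector space `V` over `ZMod p` together with a group `G₀` of linear automorphisms — is primitive on `V` if and only if `G₀` is irreducible on `V`. -/
theorem result {p : ℕ} [Fact p.Prime] {V : Type*} [AddCommGroup V] [Module (ZMod p) V] [Finite V] [Nontrivial V] (G₀ : Subgroup (V ≃ₗ[ZMod p] V)) (G : Subgroup (Equiv.Perm V)) (hG : ∀ σ : Equiv.Perm V, σ ∈ G ↔ ∃ g ∈ G₀, ∃ b : V, ∀ x : V, σ x = (g : V ≃ₗ[ZMod p] V) x + b) : MulAction.IsPreprimitive G V ↔ ∀ W : Submodule (ZMod p) V, (∀ g ∈ G₀, ∀ v ∈ W, (g : V ≃ₗ[ZMod p] V) v ∈ W) → W = ⊥ ∨ W = ⊤ := by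
  have hmem : ∀ g ∈ G₀, ∀ b : V, (g.toEquiv.trans (Equiv.addRight b) : Equiv.Perm V) ∈ G :=
    fun g hg b => (hG _).2 ⟨g, hg, b, fun x => rfl⟩
  have hT : ∀ b : V, (Equiv.addRight b : Equiv.Perm V) ∈ G := fun b => (hG _).2 ⟨1, one_mem _, b, fun x => rfl⟩
  have : MulAction.IsPretransitive G V := ⟨fun x y => ⟨⟨_, hT (y - x)⟩, add_sub_cancel x y⟩⟩
  constructor
  · intro hP W hW
    have hblock : MulAction.IsBlock G (W : Set V) := by
      rw [MulAction.isBlock_iff_smul_eq_of_nonempty]
      intro σ hne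
      obtain ⟨g, hg, b, hb⟩ := (hG _).1 σ.2
      obtain ⟨y, ⟨x, hx, rfl⟩, hy⟩ := hne
      have hbW : b ∈ W := by
        have hy' : (g x + b) ∈ W := by rw [← hb]; exact hy
        exact (W.add_mem_iff_right (hW g hg x hx)).1 hy'
      ext z
      constructor
      · rintro ⟨u, hu, rfl⟩
        show (σ : Equiv.Perm V) u ∈ W
        rw [hb]
        exact add_mem (hW g hg u hu) hbW
      · intro hz
        refine ⟨g.symm (z - b), hW g⁻¹ (inv_mem hg) _ (sub_mem hz hbW), ?_⟩
        show (σ : Equiv.Perm V) _ = z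
        rw [hb, g.apply_symm_apply, sub_add_cancel]
    rcases hP.isTrivialBlock_of_isBlock hblock with h | h
    · left
      rw [Submodule.eq_bot_iff]
      exact fun v hv => h hv W.zero_mem
    · right
      exact SetLike.coe_injective (by simpa using h)
  · intro hirr
    refine MulAction.IsPreprimitive.of_isTrivialBlock_base 0 fun {B} h0 hB => ?_
    have hfix : ∀ σ : G, ∀ x ∈ B, σ • x ∈ B → ∀ z ∈ B, σ • z ∈ B := by
      intro σ x hx hσx z hz
      have := MulAction.isBlock_iff_smul_eq_of_nonempty.1 hB (g := σ) ⟨_, Set.smul_mem_smul_set hx, hσx⟩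
      exact this ▸ Set.smul_mem_smul_set hz
    have hadd : ∀ x ∈ B, ∀ y ∈ B, x + y ∈ B := fun x hx y hy => by
      refine hfix ⟨_, hT y⟩ 0 h0 ?_ x hx
      show 0 + y ∈ B
      rwa [zero_add]
    have hneg : ∀ x ∈ B, -x ∈ B := fun x hx => by
      have := hfix ⟨_, hT (-x)⟩ x hx (by show x + -x ∈ B; rwa [add_neg_cancel]) 0 h0
      simpa using (show 0 + -x ∈ B from this)
    let A : AddSubgroup V := { carrier := B, zero_mem' := h0, add_mem' := fun hx hy => hadd _ hx _ hy, neg_mem' := fun hx => hneg _ hx }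
    rcases hirr (AddSubgroup.toZModSubmodule p A) (fun g hg v hv => by
      have h1 : v ∈ B := hv
      have := hfix ⟨_, hmem g hg 0⟩ 0 h0 (by show g 0 + 0 ∈ B; simpa using h0) v h1
      show g v ∈ B
      simpa using (show g v + 0 ∈ B from this)) with h | h
    · left
      intro x hx y hy
      have hx' : x ∈ AddSubgroup.toZModSubmodule p A := hx
      have hy' : y ∈ AddSubgroup.toZModSubmodule p A := hy
      rw [h, Submodule.mem_bot] at hx' hy'
      rw [hx', hy']
    · right
      refine Set.eq_univ_of_forall fun x => ?_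
      have : x ∈ AddSubgroup.toZModSubmodule p A := h ▸ Submodule.mem_top
      exact this

end Cfsg.Agent.S0733
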