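import Cfsg.Statements.S0734

set_option autoImplicit false
open Cfsg

namespace Cfsg.Agent.S0734

/-- Higman's criterion for primitivity: a transitive action on a finite set is primitive if and only if every non-trivial orbital graph (edges = images of a fixed pair of distinct points) is connected. -/
theorem result {G : Type*} [Group G] {Ω : Type*} [Finite Ω] [MulAction G Ω] [MulAction.IsPretransitive G Ω] [Nontrivial Ω] : MulAction.IsPreprimitive G Ω ↔ ∀ a b : Ω, a ≠ b → (SimpleGraph.fromRel fun x y : Ω => ∃ g : G, g • a = x ∧ g • b = y).Connected := by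
  constructor
  · intro hP a b hab
    set Γ := SimpleGraph.fromRel fun x y : Ω => ∃ g : G, g • a = x ∧ g • b = y
    have hadj : ∀ (g : G) (x y : Ω), Γ.Adj x y → Γ.Adj (g • x) (g • y) := by
      intro g x y h
      rw [SimpleGraph.fromRel_adj] at h ⊢
      refine ⟨fun e => h.1 (smul_left_cancel g e), h.2.imp ?_ ?_⟩ <;>
        exact fun ⟨k, h1, h2⟩ => ⟨g * k, by rw [mul_smul, h1], by rw [mul_smul, h2]⟩
    have hreach : ∀ (g : G) (x y : Ω), Γ.Reachable x y → Γ.Reachable (g • x) (g • y) := fun g x y h =>
      h.map ⟨fun z => g • z, fun {u v} => hadj g u v⟩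
    have hblock : MulAction.IsBlock G {x : Ω | Γ.Reachable a x} := by
      rw [MulAction.isBlock_iff_smul_eq_of_nonempty]
      intro g hne
      obtain ⟨y, ⟨x, hx, rfl⟩, hy⟩ := hne
      have hga : Γ.Reachable a (g • a) := hy.trans ((hreach g a x hx).symm)
      ext z
      rw [Set.mem_smul_set_iff_inv_smul_mem]
      simp only [Set.mem_ofPred_eq]
      constructor
      · intro hz
        have := hreach g _ _ hz
        rw [smul_inv_smul] at this
        exact hga.trans this
      · intro hz
        have := hreach g⁻¹ _ _ (hga.symm.trans hz)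
        rwa [inv_smul_smul] at this
    rcases hP.isTrivialBlock_of_isBlock hblock with h | h
    · refine absurd (h (show a ∈ _ from SimpleGraph.Reachable.refl a) (show b ∈ _ from ?_)) hab
      exact SimpleGraph.Adj.reachable (show Γ.Adj a b by
        rw [SimpleGraph.fromRel_adj]; exact ⟨hab, Or.inl ⟨1, one_smul _ _, one_smul _ _⟩⟩)
    · have : ∀ x, Γ.Reachable a x := fun x => by
        have : x ∈ {x : Ω | Γ.Reachable a x} := h ▸ Set.mem_univ x
        exact this
      exact ⟨fun x y => (this x).symm.trans (this y)⟩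
  · intro h
    constructor
    intro B hB
    by_cases hs : B.Subsingleton
    · exact Or.inl hs
    right
    rw [Set.not_subsingleton_iff] at hs
    obtain ⟨a, ha, b, hb, hab⟩ := hs
    have step : ∀ x y, x ∈ B → (SimpleGraph.fromRel fun x y : Ω => ∃ g : G, g • a = x ∧ g • b = y).Adj x y → y ∈ B := by
      intro x y hx hxy
      rw [SimpleGraph.fromRel_adj] at hxy
      rcases hxy.2 with ⟨g, h1, h2⟩ | ⟨g, h1, h2⟩
      · have := MulAction.isBlock_iff_smul_eq_of_nonempty.1 hB (g := g) ⟨x, ⟨a, ha, h1⟩, hx⟩
        exact this ▸ ⟨b, hb, h2⟩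
      · have := MulAction.isBlock_iff_smul_eq_of_nonempty.1 hB (g := g) ⟨x, ⟨b, hb, h2⟩, hx⟩
        exact this ▸ ⟨a, ha, h1⟩
    refine Set.eq_univ_of_forall fun z => ?_
    obtain ⟨w⟩ := (h a b hab) a z
    have key : ∀ {x y : Ω}, (SimpleGraph.fromRel fun x y : Ω => ∃ g : G, g • a = x ∧ g • b = y).Walk x y → x ∈ B → y ∈ B := by
      intro x y w
      induction w with
      | nil => exact id
      | cons hadj _ ih => exact fun hx => ih (step _ _ hx hadj)
    exact key w ha

end Cfsg.Agent.S0734
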