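import Cfsg.Statements.S0738
import Cfsg.Agent.Zassenhaus.Basic
-- import your own Cfsg.Agent.* helpers here

set_option autoImplicit false
open Cfsg

namespace Cfsg.Agent.S0738

/-- Let a finite Zassenhaus group of degree `n + 1` have two-point stabilisers of order `d` with `2d ≥ n - 1`. Then a normal subgroup of a point stabiliser acting regularly on the remaining points is elementary abelian, and the degree is a prime power plus one. -/
theorem result {G Ω : Type*} [Group G] [Finite G] [MulAction G Ω] [Fintype Ω] (hZ : Cfsg.IsZassenhausGroup G Ω) {a b : Ω} (hab : a ≠ b) (hd : Fintype.card Ω - 2 ≤ 2 * Nat.card ↥(MulAction.stabilizer G a ⊓ MulAction.stabilizer G b)) (F : Subgroup G) (hFle : F ≤ MulAction.stabilizer G a) (hFn : (F.subgroupOf (MulAction.stabilizer G a)).Normal) (hreg : ∀ y z : Ω, y ≠ a → z ≠ a → ∃! u : F, (u : G) • y = z) : IsMulCommutative F ∧ ∃ p f : ℕ, p.Prime ∧ (∀ u ∈ F, u ^ p = 1) ∧ Fintype.card Ω = p ^ f + 1 := by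
  classical
  obtain ⟨hf, h2, h3, ⟨g, hg, x, y, hxy, hgx, hgy⟩, -⟩ := hZ
  have C : Zassenhaus.ZCtx G Ω := ⟨fun {x y u v} h h' => MulAction.is_two_pretransitive_iff.1 h2 h h', h3⟩
  have hK : Zassenhaus.IsKernel F a := by
    refine ⟨fun u hu => MulAction.mem_stabilizer_iff.1 (hFle hu), fun g hg u hu => ?_, hreg⟩
    exact hFn.conj_mem ⟨u, hFle hu⟩ hu ⟨g, hg⟩
  have h3' : 3 ≤ Nat.card Ω := by
    rw [Nat.card_eq_fintype_card]
    by_contra hlt
    apply hg
    haveI := hf
    refine FaithfulSMul.eq_of_smul_eq_smul (α := Ω) fun z => ?_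
    rw [one_smul]
    have hz : z = x ∨ z = y := by
      by_contra hz
      rw [not_or] at hz
      have : ({z, x, y} : Finset Ω).card = 3 := Finset.card_eq_three.2 ⟨z, x, y, hz.1, hz.2, hxy, rfl⟩
      have := Finset.card_le_univ ({z, x, y} : Finset Ω)
      omega
    rcases hz with rfl | rfl
    · exact hgx
    · exact hgy
  obtain ⟨hc, p, hp, hpg, hexp⟩ := hK.elementary C hab h3' (by rw [Nat.card_eq_fintype_card]; exact hd)
  haveI := Fact.mk hp
  obtain ⟨f, hfc⟩ := IsPGroup.iff_card.1 hpg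
  refine ⟨hc, p, f, hp, hexp, ?_⟩
  rw [← Nat.card_eq_fintype_card, ← hK.card_eq hab, hfc]

end Cfsg.Agent.S0738
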