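import Cfsg.Statements.S0739
import Cfsg.Agent.Zassenhaus.OddInverted

set_option autoImplicit false
open Cfsg

namespace Cfsg.Agent.S0739

/-- In a finite Zassenhaus group whose two-point stabilisers `H` have odd order and which has no normal `q`-complement for primes `q` dividing `|H|`, the group `H` is cyclic, self-centralising, and inverted by every element interchanging the two points. -/
theorem result {G Ω : Type*} [Group G] [Finite G] [MulAction G Ω] [Fintype Ω] (hZ : Cfsg.IsZassenhausGroup G Ω) {a b : Ω} (hab : a ≠ b) (hodd : Odd (Nat.card ↥(MulAction.stabilizer G a ⊓ MulAction.stabilizer G b))) (hnil : ∀ q : ℕ, q.Prime → q ∣ Nat.card ↥(MulAction.stabilizer G a ⊓ MulAction.stabilizer G b) → ¬ ∃ N : Subgroup G, N.Normal ∧ N.index = q ^ (Nat.card G).factorization q) : IsCyclic ↥(MulAction.stabilizer G a ⊓ MulAction.stabilizer G b) ∧ Subgroup.centralizer ((MulAction.stabilizer G a ⊓ MulAction.stabilizer G b : Subgroup G) : Set G) = MulAction.stabilizer G a ⊓ MulAction.stabilizer G b ∧ ∀ s :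 G, s • a = b → s • b = a → ∀ h ∈ MulAction.stabilizer G a ⊓ MulAction.stabilizer G b, s * h * s⁻¹ = h⁻¹ := by
  obtain ⟨hf, h2, h3, ⟨g, hg, x, y, hxy, hgx, hgy⟩, -⟩ := hZ
  have C : Zassenhaus.ZCtx G Ω :=
    ⟨fun {x y u v} h h' => MulAction.is_two_pretransitive_iff.1 h2 h h', h3⟩
  obtain ⟨k, hkx, hky⟩ := C.two hxy hab
  have hmem : k * g * k⁻¹ ∈ MulAction.stabilizer G a ⊓ MulAction.stabilizer G b :=
    ⟨by show (k * g * k⁻¹) • a = a; rw [← hkx, mul_smul, mul_smul, inv_smul_smul, hgx],
      by show (k * g * k⁻¹) • b = b; rw [← hky, mul_smul, mul_smul, inv_smul_smul, hgy]⟩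
  have hne : MulAction.stabilizer G a ⊓ MulAction.stabilizer G b ≠ ⊥ := fun e => by
    rw [e, Subgroup.mem_bot] at hmem
    exact hg (conj_eq_one_iff.1 hmem)
  have h3c : 3 ≤ Nat.card Ω := by
    by_contra hlt
    refine hg (FaithfulSMul.eq_of_smul_eq_smul (α := Ω) fun z => ?_)
    classical
    rw [one_smul]
    rw [Nat.card_eq_fintype_card, not_le] at hlt
    by_contra hz
    have h4 : ({x, y, z} : Finset Ω).card = 3 := by
      rw [Finset.card_insert_of_notMem, Finset.card_pair]
      · exact fun e => hz (e ▸ hgy)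
      · simp only [Finset.mem_insert, Finset.mem_singleton, not_or]
        exact ⟨hxy, fun e => hz (e ▸ hgx)⟩
    have := Finset.card_le_univ ({x, y, z} : Finset Ω)
    omega
  exact C.twoPt_inverted_odd h3c hab hodd hne hnil

end Cfsg.Agent.S0739
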