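import Mathlib
import Cfsg.Statements.S0754
-- import your own Cfsg.Agent.* helpers here

set_option autoImplicit false
open Cfsg

namespace Cfsg.Agent.S0754

/-- In a field F with q^2 elements, every non-zero μ with μ^q = μ (that is, μ in the subfield of order q) has exactly q + 1 solutions λ of λ^(q+1) = μ. -/
theorem result {F : Type*} [Field F] [Fintype F] {q : ℕ} (hF : Fintype.card F = q ^ 2) (μ : F) (hμ : μ ≠ 0) (hμq : μ ^ q = μ) : Nat.card {x : F // x ^ (q + 1) = μ} = q + 1 := by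
  classical
  have hq1 : 1 < q := by
    rcases Nat.lt_or_ge 1 q with h | h
    · exact h
    · have := Fintype.one_lt_card (α := F)
      interval_cases q <;> simp_all
  have hu : Nat.card Fˣ = (q + 1) * (q - 1) := by
    rw [Nat.card_units, Nat.card_eq_fintype_card, hF, ← Nat.sq_sub_sq, one_pow]
  let P : Fˣ →* Fˣ := powMonoidHom (q + 1)
  have hk1 : Nat.card P.ker = q + 1 := by
    rw [IsCyclic.card_powMonoidHom_ker, hu, Nat.gcd_eq_right ⟨q - 1, rfl⟩]
  have hk2 : Nat.card (powMonoidHom (q - 1) : Fˣ →* Fˣ).ker = q - 1 := by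
    rw [IsCyclic.card_powMonoidHom_ker, hu, Nat.gcd_eq_right ⟨q + 1, by ring⟩]
  have hr : P.range = (powMonoidHom (q - 1) : Fˣ →* Fˣ).ker := by
    refine Subgroup.eq_of_le_of_card_ge ?_ ?_
    · rintro _ ⟨x, rfl⟩
      rw [MonoidHom.mem_ker]
      change (x ^ (q + 1)) ^ (q - 1) = 1
      rw [← pow_mul, ← hu, pow_card_eq_one']
    · have h := P.ker.index_mul_card
      rw [Subgroup.index_ker, hk1, hu, mul_comm (q + 1)] at h
      rw [hk2]
      exact le_of_eq (Nat.eq_of_mul_eq_mul_right (by omega) h).symm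
  obtain ⟨x₀, hx₀⟩ : Units.mk0 μ hμ ∈ P.range := by
    rw [hr, MonoidHom.mem_ker]
    refine Units.ext (mul_right_cancel₀ hμ ?_)
    change μ ^ (q - 1) * μ = 1 * μ
    rw [← pow_succ, show q - 1 + 1 = q by omega, one_mul, hμq]
  have hx : ((x₀ : F)) ^ (q + 1) = μ := congrArg Units.val hx₀
  suffices e : {x : F // x ^ (q + 1) = μ} ≃ P.ker from (Nat.card_congr e).trans hk1
  refine ⟨fun x => ⟨Units.mk0 x.1 (fun h => hμ ?_) * x₀⁻¹, ?_⟩,
    fun k => ⟨((k.1 * x₀ : Fˣ) : F), ?_⟩, ?_, ?_⟩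
  · rw [← x.2, h, zero_pow (Nat.succ_ne_zero q)]
  · rw [MonoidHom.mem_ker]
    change (Units.mk0 x.1 _ * x₀⁻¹) ^ (q + 1) = 1
    rw [mul_pow, inv_pow]
    refine mul_inv_eq_one.2 (Units.ext ?_)
    simp [x.2, hx]
  · have hk : (k.1) ^ (q + 1) = 1 := k.2
    rw [← Units.val_pow_eq_pow_val, mul_pow, hk, one_mul, Units.val_pow_eq_pow_val, hx]
  · intro x; simp
  · intro k; simp

end Cfsg.Agent.S0754
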