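import Cfsg.Statements.S0758
import Mathlib
-- import your own Cfsg.Agent.* helpers here

set_option autoImplicit false
open Cfsg

namespace Cfsg.Agent.S0758

/-- For a finite field F of odd order q and a non-square α: the form x² + y² is isotropic iff q ≡ 1 mod 4, and the form x² + α y² is isotropic iff q ≡ 3 mod 4. -/
theorem result {F : Type*} [Field F] [Fintype F] (h2 : (2 : F) ≠ 0) (α : F) (hα : ¬ IsSquare α) : ((∃ x y : F, (x ≠ 0 ∨ y ≠ 0) ∧ x ^ 2 + y ^ 2 = 0) ↔ Fintype.card F % 4 = 1) ∧ ((∃ x y : F, (x ≠ 0 ∨ y ≠ 0) ∧ x ^ 2 + α * y ^ 2 = 0) ↔ Fintype.card F % 4 = 3) := by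
  classical
  have hodd : ringChar F ≠ 2 := fun h => h2 (by
    have : CharP F 2 := h ▸ ringChar.charP F
    exact CharTwo.two_eq_zero)
  have hq : Fintype.card F % 2 = 1 := FiniteField.odd_card_of_char_ne_two hodd
  have hm1 : IsSquare (-1 : F) ↔ Fintype.card F % 4 ≠ 3 := FiniteField.isSquare_neg_one_iff
  constructor
  · constructor
    · rintro ⟨x, y, hxy, h⟩
      have : IsSquare (-1 : F) := by
        by_cases hy : y = 0
        · simp [hy] at h hxy; exact absurd h hxy
        · exact ⟨x / y, by field_simp; linear_combination -h⟩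
      have := hm1.1 this
      omega
    · intro h
      obtain ⟨i, hi⟩ := hm1.2 (by omega)
      exact ⟨i, 1, Or.inr one_ne_zero, by linear_combination -hi⟩
  · constructor
    · rintro ⟨x, y, hxy, h⟩
      by_contra hne
      obtain ⟨i, hi⟩ := hm1.2 (by omega)
      by_cases hy : y = 0
      · simp [hy] at h hxy; exact hxy h
      · have hi0 : i ≠ 0 := fun h0 => by rw [h0, mul_zero] at hi; exact one_ne_zero (neg_eq_zero.1 hi)
        refine hα ⟨x / y / i, ?_⟩
        field_simp
        linear_combination α * y ^ 2 * (-hi) + (-1) * h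
    · intro h
      have hns : ¬ IsSquare (-1 : F) := fun hs => hm1.1 hs h
      have : IsSquare (-α) := by
        have h0 : α ≠ 0 := fun h0 => hα (h0 ▸ IsSquare.zero)
        rw [← quadraticChar_one_iff_isSquare (neg_ne_zero.2 h0), neg_eq_neg_one_mul, map_mul,
          quadraticChar_neg_one_iff_not_isSquare.2 hns, quadraticChar_neg_one_iff_not_isSquare.2 hα]
        norm_num
      obtain ⟨i, hi⟩ := this
      exact ⟨i, 1, Or.inr one_ne_zero, by linear_combination -hi⟩

end Cfsg.Agent.S0758
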