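import Mathlib
import Cfsg.Statements.S0761
-- import your own Cfsg.Agent.* helpers here

set_option autoImplicit false
open Cfsg

namespace Cfsg.Agent.S0761

/-- Hyperbolic partners: let B be a non-degenerate bilinear form on a finite-dimensional space, either alternating, or symmetric with 2 ≠ 0. If Z is a subspace on which B vanishes, x ∉ Z is isotropic and orthogonal to Z, then there is an isotropic y with B x y = 1 which is orthogonal to Z. -/
theorem result {F V : Type*} [Field F] [AddCommGroup V] [Module F V] [FiniteDimensional F V] (B : LinearMap.BilinForm F V) (hB : B.Nondegenerate) (hform : B.IsAlt ∨ (B.IsSymm ∧ (2 : F) ≠ 0)) (x : V) (Z : Submodule F V) (hxZ : x ∉ Z) (hx : B x x = 0) (hxz : ∀ z ∈ Z, B x z = 0) (hZ : ∀ z ∈ Z, ∀ z' ∈ Z, B z z' = 0) : ∃ y : V, B y y = 0 ∧ B x y = 1 ∧ ∀ z ∈ Z, B z y = 0 := by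
  obtain ⟨φ, hφ1, hφ2⟩ := Submodule.exists_dual_map_eq_bot_of_notMem hxZ inferInstance
  obtain ⟨y, hy⟩ := (B.toDual hB).surjective ((φ x)⁻¹ • φ)
  have hyw : ∀ w, B y w = (φ x)⁻¹ * φ w := fun w => by
    have := LinearMap.congr_fun hy w
    rwa [LinearMap.BilinForm.toDual_def] at this
  have hφz : ∀ z ∈ Z, φ z = 0 := fun z hz => by
    have : φ z ∈ Z.map φ := ⟨z, hz, rfl⟩
    rw [hφ2] at this
    simpa using this
  rcases hform with hA | ⟨hS, h2⟩
  · have hneg : ∀ a b, B a b = -B b a := fun a b => (LinearMap.IsAlt.neg hA b a).symm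
    refine ⟨-y, by simp [hA y], ?_, fun z hz => ?_⟩
    · simp [hneg x y, hyw, hφ1]
    · simp [hneg z y, hyw, hφz z hz]
  · have hsy : ∀ a b, B a b = B b a := fun a b => hS.eq a b
    refine ⟨y - (B y y / 2) • x, ?_, ?_, fun z hz => ?_⟩
    · simp [hx, hsy x y, hyw x, hφ1]
      field_simp
      ring
    · simp [hx, hsy x y, hyw, hφ1]
    · simp [hsy z y, hyw, hφz z hz, hsy z x, hxz z hz]

end Cfsg.Agent.S0761
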