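import Cfsg.Statements.S0762
import Cfsg.Agent.Classical.QuadForm
-- import your own Cfsg.Agent.* helpers here

set_option autoImplicit false
open Cfsg

namespace Cfsg.Agent.S0762

/-- In characteristic two over a finite field, a quadratic form on a space of dimension at least 3 vanishes on some non-zero vector. -/
theorem result {F V : Type*} [Field F] [Finite F] [CharP F 2] [AddCommGroup V] [Module F V] [FiniteDimensional F V] (Q : QuadraticForm F V) (h3 : 3 ≤ Module.finrank F V) : ∃ v : V, v ≠ 0 ∧ Q v = 0 := by
  have h2 : (2 : F) = 0 := CharTwo.two_eq_zero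
  have hV : Module.finrank F V ≠ 0 := by omega
  obtain ⟨b⟩ : Nonempty (Module.Basis (Fin (Module.finrank F V)) F V) := ⟨Module.finBasis F V⟩
  set u := b ⟨0, by omega⟩ with hu
  have hu0 : u ≠ 0 := b.ne_zero _
  by_cases hQu : Q u = 0
  · exact ⟨u, hu0, hQu⟩
  let L : V →ₗ[F] F := QuadraticMap.polarBilin Q u
  have hker : u ∈ LinearMap.ker L := by
    rw [LinearMap.mem_ker]
    show QuadraticMap.polar Q u u = 0
    rw [Cfsg.Agent.Classical.Quad.polar_self', h2, zero_mul]
  have hlt : Submodule.span F {u} < LinearMap.ker L := by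
    refine lt_of_le_of_ne (Submodule.span_singleton_le_iff_mem _ _ |>.2 hker) fun he => ?_
    have := L.finrank_range_add_finrank_ker
    rw [← he, finrank_span_singleton hu0] at this
    have := Submodule.finrank_le (LinearMap.range L)
    rw [Module.finrank_self] at this
    omega
  obtain ⟨w, hwk, hwu⟩ := SetLike.exists_of_lt hlt
  haveI : Fintype F := Fintype.ofFinite F
  obtain ⟨t, ht⟩ := FiniteField.isSquare_of_char_two (ringChar.eq F 2) (Q w / Q u)
  refine ⟨w + t • u, fun h0 => hwu ?_, ?_⟩
  · rw [eq_neg_of_add_eq_zero_left h0]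
    exact Submodule.neg_mem _ (Submodule.smul_mem _ _ (Submodule.mem_span_singleton_self u))
  · have hwu0 : QuadraticMap.polar Q w u = 0 := by
      rw [QuadraticMap.polar_comm]; exact hwk
    rw [Cfsg.Agent.Classical.Quad.map_add_smul, hwu0, ← ht, div_mul_cancel₀ _ hQu]
    linear_combination Q w * h2

end Cfsg.Agent.S0762
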