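import Cfsg.Statements.S0763
import Cfsg.Agent.Classical.QuadForm
-- import your own Cfsg.Agent.* helpers here

set_option autoImplicit false
open Cfsg

namespace Cfsg.Agent.S0763

/-- Binary quadratic forms in characteristic two over a finite field: if Q is a quadratic form on a 2-dimensional space whose polar form is non-degenerate, then either there are vectors v, w with Q v = Q w = 0 and polar value 1 (Q is xy in these coordinates), or there are v, w and μ with Q v = 1, Q w = μ, polar value 1 and x² + x + μ without roots in F (Q is x² + xy + μy²). -/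
theorem result {F V : Type*} [Field F] [Finite F] [CharP F 2] [AddCommGroup V] [Module F V] (Q : QuadraticForm F V) (h2 : Module.finrank F V = 2) (hQ : (QuadraticMap.polarBilin Q).Nondegenerate) : (∃ v w : V, LinearIndependent F ![v, w] ∧ Q v = 0 ∧ Q w = 0 ∧ QuadraticMap.polar Q v w = 1) ∨ (∃ (v w : V) (μ : F), LinearIndependent F ![v, w] ∧ (∀ x : F, x ^ 2 + x + μ ≠ 0) ∧ Q v = 1 ∧ Q w = μ ∧ QuadraticMap.polar Q v w = 1) := by
  have : FiniteDimensional F V := FiniteDimensional.of_finrank_eq_succ h2
  have h20 : (2 : F) = 0 := CharTwo.two_eq_zero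
  have indep : ∀ v w : V, QuadraticMap.polar Q v w = 1 → LinearIndependent F ![v, w] := fun v w hvw => by
    rw [LinearIndependent.pair_iff]
    intro s t hst
    have e1 := congrArg (fun x => QuadraticMap.polar Q x w) hst
    have e2 := congrArg (fun x => QuadraticMap.polar Q x v) hst
    simp [QuadraticMap.polar_add_left, QuadraticMap.polar_smul_left, Cfsg.Agent.Classical.Quad.polar_self', h20,
      hvw, QuadraticMap.polar_comm Q w v] at e1 e2
    exact ⟨e1, e2⟩
  by_cases hs : ∃ v : V, v ≠ 0 ∧ Q v = 0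
  · obtain ⟨v, hv0, hv⟩ := hs
    obtain ⟨w, -, hw⟩ := Cfsg.Agent.Classical.Quad.exists_perp hQ (S := ⊥) (x := v) (by simpa using hv0)
    have h1 : QuadraticMap.polar Q v (w + (-Q w) • v) = 1 := by
      simp [QuadraticMap.polar_add_right, hw, Cfsg.Agent.Classical.Quad.polar_self', hv]
    refine Or.inl ⟨v, _, indep _ _ h1, hv, ?_, h1⟩
    rw [Cfsg.Agent.Classical.Quad.map_add_smul, QuadraticMap.polar_comm Q w v, hw, hv]
    ring
  push Not at hs
  obtain ⟨u, hu0⟩ : ∃ u : V, u ≠ 0 := by
    have : Nontrivial V := Module.nontrivial_of_finrank_eq_succ h2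
    exact exists_ne 0
  haveI : Fintype F := Fintype.ofFinite F
  obtain ⟨t, ht⟩ := FiniteField.isSquare_of_char_two (ringChar.eq F 2) (Q u)⁻¹
  have hv : Q (t • u) = 1 := by
    rw [Cfsg.Agent.Classical.Quad.map_smul', ← ht, inv_mul_cancel₀ (hs u hu0)]
  have hv0 : t • u ≠ 0 := fun h0 => by simp [h0] at hv
  obtain ⟨w, -, hw⟩ := Cfsg.Agent.Classical.Quad.exists_perp hQ (S := ⊥) (x := t • u) (by simpa using hv0)
  refine Or.inr ⟨_, w, Q w, indep _ _ hw, fun x hx => ?_, hv, rfl, hw⟩
  have hne : w + x • (t • u) ≠ 0 := fun h0 => by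
    rw [eq_neg_of_add_eq_zero_left h0] at hw
    simp [QuadraticMap.polar_smul_right, Cfsg.Agent.Classical.Quad.polar_self', h20] at hw
  refine hs _ hne ?_
  rw [Cfsg.Agent.Classical.Quad.map_add_smul, hv, QuadraticMap.polar_comm Q w, hw]
  linear_combination hx

end Cfsg.Agent.S0763
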