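import Cfsg.Statements.S0767
import Cfsg.Agent.Classical.SympGroup
-- import your own Cfsg.Agent.* helpers here

set_option autoImplicit false
open Cfsg

namespace Cfsg.Agent.S0767

/-- The root group of a point: T_v(c) T_v(d) = T_v(c + d), and for A in the symplectic group with A v = a v, the conjugate A T_v(c) A⁻¹ is again some T_v(d). -/
theorem result {F : Type*} [Field F] (m : ℕ) (v : Fin m ⊕ Fin m → F) : (∀ c d : F, Cfsg.sympTransvection m v c * Cfsg.sympTransvection m v d = Cfsg.sympTransvection m v (c + d)) ∧ ∀ (A : Matrix (Fin m ⊕ Fin m) (Fin m ⊕ Fin m) F) (a : F), A ∈ Matrix.symplecticGroup (Fin m) F → A.mulVec v = a • v → ∀ c : F, ∃ d : F, A * Cfsg.sympTransvection m v c * A⁻¹ = Cfsg.sympTransvection m v d := by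
  open Cfsg.Agent.Classical in
  refine ⟨fun c d => Matrix.ext_of_mulVec_single fun i => ?_, fun A a hA hav c => ⟨a ^ 2 * c, ?_⟩⟩
  · rw [← Matrix.mulVec_mulVec]
    simp only [sympTransvection_mulVec]
    exact congrArg (fun g : (Fin m ⊕ Fin m → F) ≃ₗ[F] _ => g (Pi.single i 1))
      (Alt.tv_add (B := sympB m F) sympB_isAlt v c d)
  · have h := congrArg (Cfsg.Agent.Classical.spEquiv m F).symm
      (Cfsg.Agent.Classical.Alt.conj_tvE Cfsg.Agent.Classical.sympB_isAlt
        (Cfsg.Agent.Classical.spEquiv m F ⟨A, hA⟩) v c)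
    rw [Cfsg.Agent.Classical.spEquiv_apply, hav, Cfsg.Agent.Classical.Alt.tvE_smul,
      ← Cfsg.Agent.Classical.spEquiv_transvection v c, ← Cfsg.Agent.Classical.spEquiv_transvection v (a ^ 2 * c),
      ← map_inv, ← map_mul, ← map_mul, MulEquiv.symm_apply_apply, MulEquiv.symm_apply_apply] at h
    have h2 := congrArg Subtype.val h
    rw [Submonoid.coe_mul, Submonoid.coe_mul, SymplecticGroup.coe_inv'] at h2
    exact h2

end Cfsg.Agent.S0767
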