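import Cfsg.Statements.S0778
import Mathlib
-- import your own Cfsg.Agent.* helpers here

set_option autoImplicit false
open Cfsg

namespace Cfsg.Agent.S0778

/-- The elements of Sp_2m(F) stabilising both W = ⟨e_1..e_m⟩ and U = ⟨f_1..f_m⟩ form a subgroup isomorphic to GL_m(F) (block-diagonal matrices diag(X, X^(−ᵀ)) up to the sign convention of J), for m ≥ 1 or m = 0 alike. -/
theorem result {F : Type*} [Field F] (m : ℕ) : Nonempty (↥(Cfsg.stabilizing (Cfsg.spToMat m F) {v : Fin m ⊕ Fin m → F | ∀ i : Fin m, v (Sum.inr i) = 0} ⊓ Cfsg.stabilizing (Cfsg.spToMat m F) {v : Fin m ⊕ Fin m → F | ∀ i : Fin m, v (Sum.inl i) = 0}) ≃* Matrix.GeneralLinearGroup (Fin m) F) := by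
  classical
  have hblock : ∀ A : ↥(Cfsg.stabilizing (Cfsg.spToMat m F) {v : Fin m ⊕ Fin m → F | ∀ i : Fin m, v (Sum.inr i) = 0}
      ⊓ Cfsg.stabilizing (Cfsg.spToMat m F) {v : Fin m ⊕ Fin m → F | ∀ i : Fin m, v (Sum.inl i) = 0}),
      A.1.1 = Matrix.fromBlocks A.1.1.toBlocks₁₁ 0 0 A.1.1.toBlocks₂₂ := fun A => by
    conv_lhs => rw [← Matrix.fromBlocks_toBlocks A.1.1]
    congr 1
    · ext i j
      have := (A.2.2 (Pi.single (Sum.inr j) 1)).1 (fun k => by simp) i
      simpa [Matrix.toBlocks₁₂, Matrix.mulVec_single] using this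
    · ext i j
      have := (A.2.1 (Pi.single (Sum.inl j) 1)).1 (fun k => by simp) i
      simpa [Matrix.toBlocks₂₁, Matrix.mulVec_single] using this
  have hXY : ∀ A : ↥(Cfsg.stabilizing (Cfsg.spToMat m F) {v : Fin m ⊕ Fin m → F | ∀ i : Fin m, v (Sum.inr i) = 0}
      ⊓ Cfsg.stabilizing (Cfsg.spToMat m F) {v : Fin m ⊕ Fin m → F | ∀ i : Fin m, v (Sum.inl i) = 0}),
      A.1.1.toBlocks₁₁ * (A.1.1.toBlocks₂₂).transpose = 1 := fun A => by
    have h := A.1.2
    rw [SymplecticGroup.mem_iff, hblock A, Matrix.J, Matrix.fromBlocks_transpose] at h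
    simp [Matrix.fromBlocks_multiply, Matrix.fromBlocks_inj] at h
    exact h.1
  refine ⟨MulEquiv.ofBijective (MonoidHom.mk' (fun A =>
    (⟨A.1.1.toBlocks₁₁, (A.1.1.toBlocks₂₂).transpose, hXY A, mul_eq_one_comm.1 (hXY A)⟩ :
      Matrix.GeneralLinearGroup (Fin m) F)) ?_) ⟨?_, ?_⟩⟩
  · intro A B
    refine Units.ext ?_
    show ((A.1.1 * B.1.1).toBlocks₁₁) = A.1.1.toBlocks₁₁ * B.1.1.toBlocks₁₁
    conv_lhs => rw [hblock A, hblock B, Matrix.fromBlocks_multiply, Matrix.toBlocks_fromBlocks₁₁]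
    simp
  · intro A B h
    have h1 : A.1.1.toBlocks₁₁ = B.1.1.toBlocks₁₁ := congrArg Units.val h
    have h2 : (A.1.1.toBlocks₂₂).transpose = (B.1.1.toBlocks₂₂).transpose := congrArg Units.inv h
    refine Subtype.ext (Subtype.ext ?_)
    rw [hblock A, hblock B, h1, Matrix.transpose_injective h2]
  · intro X
    let M : Matrix (Fin m ⊕ Fin m) (Fin m ⊕ Fin m) F := Matrix.fromBlocks X.1 0 0 (X⁻¹).1.transpose
    have hM : M ∈ Matrix.symplecticGroup (Fin m) F := by
      rw [SymplecticGroup.mem_iff, Matrix.J]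
      simp [M, Matrix.fromBlocks_transpose, Matrix.fromBlocks_multiply, Matrix.fromBlocks_inj, ← Matrix.transpose_mul]
    have hmv : ∀ v : Fin m ⊕ Fin m → F, M.mulVec v =
        Sum.elim (X.1.mulVec (v ∘ Sum.inl)) ((X⁻¹).1.transpose.mulVec (v ∘ Sum.inr)) := fun v => by
      simp [M, Matrix.fromBlocks_mulVec]
    refine ⟨⟨⟨M, hM⟩, fun v => ?_, fun v => ?_⟩, Units.ext ?_⟩
    · constructor
      · intro hv i
        show M.mulVec v (Sum.inr i) = 0
        rw [hmv, Sum.elim_inr, show v ∘ Sum.inr = 0 from funext hv, Matrix.mulVec_zero, Pi.zero_apply]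
      · intro hv
        have h0 : (X⁻¹).1.transpose.mulVec (v ∘ Sum.inr) = 0 := funext fun i => by
          have := hv i
          change M.mulVec v (Sum.inr i) = 0 at this
          rwa [hmv, Sum.elim_inr] at this
        intro i
        have h1 := congrArg (X.1.transpose.mulVec) h0
        rw [Matrix.mulVec_mulVec, ← Matrix.transpose_mul, ← Units.val_mul, inv_mul_cancel, Units.val_one,
          Matrix.transpose_one, Matrix.one_mulVec, Matrix.mulVec_zero] at h1
        exact congrFun h1 i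
    · constructor
      · intro hv i
        show M.mulVec v (Sum.inl i) = 0
        rw [hmv, Sum.elim_inl, show v ∘ Sum.inl = 0 from funext hv, Matrix.mulVec_zero, Pi.zero_apply]
      · intro hv
        have h0 : X.1.mulVec (v ∘ Sum.inl) = 0 := funext fun i => by
          have := hv i
          change M.mulVec v (Sum.inl i) = 0 at this
          rwa [hmv, Sum.elim_inl] at this
        intro i
        have h1 := congrArg ((X⁻¹).1.mulVec) h0
        rw [Matrix.mulVec_mulVec, ← Units.val_mul, inv_mul_cancel, Units.val_one, Matrix.one_mulVec,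
          Matrix.mulVec_zero] at h1
        exact congrFun h1 i
    · exact Matrix.toBlocks_fromBlocks₁₁ _ _ _ _

end Cfsg.Agent.S0778
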