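import Cfsg.Statements.S0781
import Cfsg.Agent.Classical.UnitaryGroup
-- import your own Cfsg.Agent.* helpers here

set_option autoImplicit false
open Cfsg

namespace Cfsg.Agent.S0781

/-- In SU_n(q) with n ≥ 4, or n = 3 and q > 2, every element whose matrix is a unitary transvection x ↦ x + c h(x, v) v (v isotropic) is a commutator ⁅B, C⁆ of two elements of SU_n(q). -/
theorem result {F : Type*} [Field F] [Fintype F] {q : ℕ} (hF : Fintype.card F = q ^ 2) (n : ℕ) (hn : 4 ≤ n ∨ (n = 3 ∧ 3 ≤ q)) (A : ↥(Cfsg.SU n F q)) (v : Fin n → F) (c : F) (hv0 : Cfsg.hermForm n F q v v = 0) (hA : ((A : Matrix.SpecialLinearGroup (Fin n) F) : Matrix (Fin n) (Fin n) F) = Cfsg.unitaryTransvection n q v c) : A ∈ commutatorSet ↥(Cfsg.SU n F q) := by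
  obtain ⟨σ, hσq, hσ, -, -⟩ := Cfsg.Agent.Classical.exists_powHom hF
  rw [Cfsg.Agent.Classical.hermForm_eq hσq] at hv0
  obtain ⟨c', hc', hA'⟩ := Cfsg.Agent.Classical.transvection_mem_cases hσ hσq A hv0 hA
  obtain ⟨p, r, hpr⟩ := Cfsg.Agent.Classical.Herm.tvU_eq_comm (Cfsg.Agent.Classical.hermB_isHerm hσ n)
    (by rw [Module.finrank_fin_fun]; omega) hv0 hc'
  obtain ⟨P, rfl⟩ := (Cfsg.Agent.Classical.suEquiv n hσq).surjective p
  obtain ⟨R, rfl⟩ := (Cfsg.Agent.Classical.suEquiv n hσq).surjective r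
  refine ⟨P, R, (Cfsg.Agent.Classical.suEquiv n hσq).injective (Subtype.ext ?_)⟩
  rw [map_commutatorElement, hA', hpr]

end Cfsg.Agent.S0781
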