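import Cfsg.Statements.S0785
import Cfsg.Agent.Classical.QuadMat
-- import your own Cfsg.Agent.* helpers here

set_option autoImplicit false
open Cfsg

namespace Cfsg.Agent.S0785

/-- det(I) = {±1}: for a quadratic form on F^n whose polar form is non-degenerate, every element of the isometry group has determinant 1 or −1, and as soon as Q takes a non-zero value some isometry has determinant −1. -/
theorem result {F : Type*} [Field F] {n : ℕ} (Q : QuadraticForm F (Fin n → F)) (hQ : (QuadraticMap.polarBilin Q).Nondegenerate) : (∀ g : ↥(Cfsg.isometryGroup F ⇑Q), ((g : Matrix.GeneralLinearGroup (Fin n) F) : Matrix (Fin n) (Fin n) F).det = 1 ∨ ((g : Matrix.GeneralLinearGroup (Fin n) F) : Matrix (Fin n) (Fin n) F).det = -1) ∧ ((∃ v, Q v ≠ 0) → ∃ g : ↥(Cfsg.isometryGroup F ⇑Q), ((g : Matrix.GeneralLinearGroup (Fin n) F) : Matrix (Fin n) (Fin n) F).det = -1) := by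
  refine ⟨fun g => Cfsg.Agent.Classical.Quad.det_eq_one_or_neg_one hQ
    (Cfsg.Agent.Classical.Quad.mem_isometryGroup_iff.1 g.2), ?_⟩
  rintro ⟨v, hv⟩
  have hd := Cfsg.Agent.Classical.Quad.det_reflectionMatrix hv
  refine ⟨⟨Matrix.GeneralLinearGroup.mk'' (Cfsg.reflectionMatrix ⇑Q v) (by rw [hd]; exact isUnit_one.neg),
    Cfsg.Agent.Classical.Quad.mem_isometryGroup_iff.2 fun x => ?_⟩, hd⟩
  show Q ((Cfsg.reflectionMatrix ⇑Q v).mulVec x) = Q x
  rw [Cfsg.Agent.Classical.Quad.reflectionMatrix_mulVec]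
  exact Cfsg.Agent.Classical.Quad.refl_mem hv x

end Cfsg.Agent.S0785
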