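import Cfsg.Statements.S0792
import Cfsg.Agent.Classical.OrthMat
-- import your own Cfsg.Agent.* helpers here

set_option autoImplicit false
open Cfsg

namespace Cfsg.Agent.S0792

/-- For q odd and Q with non-degenerate polar form on F^n, the determinant-one isometries form the subgroup generated by all products r_u r_v of two reflections (Q(u), Q(v) ≠ 0). -/
theorem result {F : Type*} [Field F] [Fintype F] (h2 : (2 : F) ≠ 0) {n : ℕ} (Q : QuadraticForm F (Fin n → F)) (hQ : (QuadraticMap.polarBilin Q).Nondegenerate) : Cfsg.specialIsometryGroup F ⇑Q = Subgroup.closure {g : ↥(Cfsg.isometryGroup F ⇑Q) | ∃ u v : Fin n → F, Q u ≠ 0 ∧ Q v ≠ 0 ∧ ((g : Matrix.GeneralLinearGroup (Fin n) F) : Matrix (Fin n) (Fin n) F) = Cfsg.reflectionMatrix ⇑Q u * Cfsg.reflectionMatrix ⇑Q v} := by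
  open Cfsg.Agent.Classical.Quad QuadraticMap in
    set C := Subgroup.closure {g : ↥(Cfsg.isometryGroup F ⇑Q) | ∃ u v : Fin n → F, Q u ≠ 0 ∧ Q v ≠ 0 ∧ ((g : Matrix.GeneralLinearGroup (Fin n) F) : Matrix (Fin n) (Fin n) F) = Cfsg.reflectionMatrix ⇑Q u * Cfsg.reflectionMatrix ⇑Q v} with hC
    have hex := hex_of_two h2 (Module.finrank F (Fin n → F))
    refine le_antisymm (fun g hg => ?_) ((Subgroup.closure_le _).2 ?_)
    · have key : ∀ x : oG Q, (dickson hQ hex x = 1 → (oEquiv Q).symm x ∈ C) ∧
          (dickson hQ hex x = -1 → ∀ (v : Fin n → F) (hv : Q v ≠ 0), (oEquiv Q).symm (x * rO hv) ∈ C) := by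
        have pair : ∀ (u v : Fin n → F) (hu : Q u ≠ 0) (hv : Q v ≠ 0),
            (oEquiv Q).symm (rO hu * rO hv) ∈ C := fun u v hu hv => by
          refine Subgroup.subset_closure ⟨u, v, hu, hv, ?_⟩
          rw [map_mul, Subgroup.coe_mul, Units.val_mul,
            (matrix_eq_reflection_iff hu).2 ((oEquiv Q).apply_symm_apply _),
            (matrix_eq_reflection_iff hv).2 ((oEquiv Q).apply_symm_apply _)]
        intro x
        have hx : x ∈ Subgroup.closure (reflSet Q) := by rw [closure_reflSet hQ hex]; trivial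
        induction hx using Subgroup.closure_induction_right with
        | one => exact ⟨fun _ => by rw [map_one]; exact one_mem _, fun h => absurd ((map_one _).symm.trans h) (by decide)⟩
        | mul_right a _ y hy ih =>
          obtain ⟨w, hw, rfl⟩ := hy
          refine ⟨fun h => ?_, fun h v hv => ?_⟩
          · rw [map_mul, dickson_rO, mul_neg_one, neg_eq_iff_eq_neg] at h
            exact ih.2 h w hw
          · rw [map_mul, dickson_rO, mul_neg_one, neg_inj] at h
            rw [mul_assoc, map_mul]
            exact mul_mem (ih.1 h) (pair w v hw hv)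
        | mul_inv_cancel a _ y hy ih =>
          obtain ⟨w, hw, rfl⟩ := hy
          refine ⟨fun h => ?_, fun h v hv => ?_⟩
          · rw [rO_inv, map_mul, dickson_rO, mul_neg_one, neg_eq_iff_eq_neg] at h
            rw [rO_inv]
            exact ih.2 h w hw
          · rw [rO_inv, map_mul, dickson_rO, mul_neg_one, neg_inj] at h
            rw [rO_inv, mul_assoc, map_mul]
            exact mul_mem (ih.1 h) (pair w v hw hv)
      have := (key (oEquiv Q g)).1 ((mem_special_iff hQ h2 g).1 hg)
      rwa [MulEquiv.symm_apply_apply] at this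
    · rintro g ⟨u, v, hu, hv, hg⟩
      rw [SetLike.mem_coe, mem_special_iff hQ h2]
      have e : oEquiv Q g = rO hu * rO hv := ext_oG fun x => by
        rw [oEquiv_apply, hg, ← Matrix.mulVec_mulVec, reflectionMatrix_mulVec, reflectionMatrix_mulVec]
        rfl
      rw [e, map_mul, dickson_rO, dickson_rO]
      rfl

end Cfsg.Agent.S0792
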