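import Cfsg.Statements.S0794
import Cfsg.Agent.Classical.OrthPOmega
-- import your own Cfsg.Agent.* helpers here

set_option autoImplicit false
open Cfsg

namespace Cfsg.Agent.S0794

/-- For q odd, n ≥ 5 and Q with non-degenerate polar form: an isometry whose matrix is a Siegel transformation T_(u,v)(c) (u, v singular and orthogonal) is a commutator in the isometry group, so lies in Ω. -/
theorem result {F : Type*} [Field F] [Fintype F] (h2 : (2 : F) ≠ 0) {n : ℕ} (hn : 5 ≤ n) (Q : QuadraticForm F (Fin n → F)) (hQ : (QuadraticMap.polarBilin Q).Nondegenerate) (u v : Fin n → F) (hu : Q u = 0) (hv : Q v = 0) (huv : QuadraticMap.polar ⇑Q u v = 0) (c : F) (g : ↥(Cfsg.isometryGroup F ⇑Q)) (hg : ((g : Matrix.GeneralLinearGroup (Fin n) F) : Matrix (Fin n) (Fin n) F) = Cfsg.siegelMatrix ⇑Q u v c) : g ∈ commutatorSet ↥(Cfsg.isometryGroup F ⇑Q) ∧ g ∈ Cfsg.Omega F ⇑Q := by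
  open Cfsg.Agent.Classical.Quad QuadraticMap in
    have hpw : polar Q u (-c • v) = 0 := by rw [polar_smul_right, huv, smul_zero]
    have e : oEquiv Q g = sO hu hpw := ext_oG fun x => by
      rw [oEquiv_apply, hg, siegelMatrix_mulVec_eq hu hv huv c x]; rfl
    have hm := sO_singular_mem_commutatorSet hQ h2 hu hpw (by rw [map_smul', hv, mul_zero])
    obtain ⟨a, b, hab⟩ := mem_commutatorSet_iff.1 hm
    have hgc : g ∈ commutatorSet ↥(Cfsg.isometryGroup F ⇑Q) :=
      mem_commutatorSet_iff.2 ⟨(oEquiv Q).symm a, (oEquiv Q).symm b, by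
        rw [← map_commutatorElement, hab, ← e, MulEquiv.symm_apply_apply]⟩
    exact ⟨hgc, by
      rw [Cfsg.Omega, commutator_eq_closure]
      exact Subgroup.subset_closure hgc⟩

end Cfsg.Agent.S0794
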