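import Cfsg.Statements.S0795
import Cfsg.Agent.Classical.OrthPOmega
-- import your own Cfsg.Agent.* helpers here

set_option autoImplicit false
open Cfsg

namespace Cfsg.Agent.S0795

/-- Generation of Ω by root elements: for q odd, n ≥ 5 and Q with non-degenerate polar form on F^n, the commutator subgroup of the isometry group equals the subgroup generated by the isometries whose matrices are Siegel transformations T_(u,v)(c) with u, v singular and orthogonal. -/
theorem result {F : Type*} [Field F] [Fintype F] (h2 : (2 : F) ≠ 0) {n : ℕ} (hn : 5 ≤ n) (Q : QuadraticForm F (Fin n → F)) (hQ : (QuadraticMap.polarBilin Q).Nondegenerate) : Cfsg.Omega F ⇑Q = Subgroup.closure {g : ↥(Cfsg.isometryGroup F ⇑Q) | ∃ (u v : Fin n → F) (c : F), Q u = 0 ∧ Q v = 0 ∧ QuadraticMap.polar ⇑Q u v = 0 ∧ ((g : Matrix.GeneralLinearGroup (Fin n) F) : Matrix (Fin n) (Fin n) F) = Cfsg.siegelMatrix ⇑Q u v c} := by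
  open Cfsg.Agent.Classical.Quad QuadraticMap in
    refine Subgroup.map_injective (f := (oEquiv Q).toMonoidHom) (oEquiv Q).injective ?_
    have hn' : 5 ≤ Module.finrank F (Fin n → F) := by rwa [Module.finrank_fin_fun]
    rw [omega_map_eq hQ hn', eo_eq_commutator hQ (by omega) (Or.inr (by omega)),
      commutator_eq_closure_root hQ hn', MonoidHom.map_closure]
    congr 1
    ext x
    constructor
    · rintro ⟨p, w, hp, hpw, hw, rfl⟩
      refine ⟨(oEquiv Q).symm (sO hp hpw), ⟨p, w, -1, hp, hw, hpw, Matrix.ext_of_mulVec_single fun i => ?_⟩,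
        (oEquiv Q).apply_symm_apply _⟩
      rw [← oEquiv_apply, MulEquiv.apply_symm_apply, siegelMatrix_mulVec_eq hp hw hpw]
      show (sO hp hpw).1 _ = (sO hp (show polar Q p (-(-1 : F) • w) = 0 by rw [neg_neg, one_smul]; exact hpw)).1 _
      rw [sO_congr hp (show polar Q p (-(-1 : F) • w) = 0 by rw [neg_neg, one_smul]; exact hpw) hpw
        (by rw [neg_neg, one_smul])]
    · rintro ⟨g, ⟨u, v, c, hu, hv, huv, hg⟩, rfl⟩
      refine ⟨u, -c • v, hu, by rw [polar_smul_right, huv, smul_zero], by rw [map_smul', hv, mul_zero],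
        ext_oG fun x => ?_⟩
      show (oEquiv Q g).1 x = _
      rw [oEquiv_apply, hg, siegelMatrix_mulVec_eq hu hv huv c x]
      rfl

end Cfsg.Agent.S0795
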