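import Cfsg.Statements.S0796
import Mathlib
-- import your own Cfsg.Agent.* helpers here

set_option autoImplicit false
open Cfsg

namespace Cfsg.Agent.S0796

/-- If G is finite and acts faithfully and primitively on X, H is the stabiliser of a point, A is a normal subgroup of H whose normal closure in G is G, then for every non-trivial normal subgroup K of G the quotient G ⧸ K is isomorphic to A ⧸ B for some normal subgroup B of A. -/
theorem result {G X : Type*} [Group G] [Finite G] [MulAction G X] [FaithfulSMul G X] (hprim : MulAction.IsPreprimitive G X) (x : X) (A : Subgroup G) (hA : A ≤ MulAction.stabilizer G x) (hAn : (A.subgroupOf (MulAction.stabilizer G x)).Normal) (hgen : Subgroup.normalClosure (A : Set G) = ⊤) (K : Subgroup G) [K.Normal] (hK : K ≠ ⊥) : ∃ (B : Subgroup A) (_ : B.Normal), Nonempty (G ⧸ K ≃* A ⧸ B) := by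
  classical
  set H := MulAction.stabilizer G x
  have hnt : ∀ K' : Subgroup G, K'.Normal → K' ≠ ⊥ → MulAction.IsPretransitive K' X := fun K' hn hne => by
    refine hprim.isQuasiPreprimitive.isPretransitive_of_normal (N := K') fun hfix => hne ?_
    rw [eq_bot_iff]
    intro k hk
    refine Subgroup.mem_bot.2 (eq_of_smul_eq_smul (α := X) fun y => ?_)
    rw [one_smul]
    exact (Set.eq_univ_iff_forall.1 hfix y) ⟨k, hk⟩
  have := hnt K inferInstance hK
  have hfac : ∀ g : G, ∃ k ∈ K, ∃ h ∈ H, g = k * h := fun g => by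
    obtain ⟨⟨k, hk⟩, hkx⟩ := MulAction.exists_smul_eq K x (g • x)
    refine ⟨k, hk, k⁻¹ * g, ?_, by group⟩
    rw [MulAction.mem_stabilizer_iff, mul_smul, inv_smul_eq_iff]
    exact hkx.symm
  have htop : K ⊔ A = ⊤ := by
    rw [eq_top_iff, ← hgen, Subgroup.normalClosure, Subgroup.closure_le]
    intro y hy
    obtain ⟨a, ha, hc⟩ := Group.mem_conjugatesOfSet_iff.1 hy
    obtain ⟨g, rfl⟩ := isConj_iff.1 hc
    obtain ⟨k, hk, h, hh, rfl⟩ := hfac g
    have h1 : h * a * h⁻¹ ∈ A := by
      have := hAn.conj_mem ⟨a, hA ha⟩ (Subgroup.mem_subgroupOf.2 ha) ⟨h, hh⟩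
      simpa [Subgroup.mem_subgroupOf] using this
    rw [show k * h * a * (k * h)⁻¹ = k * (h * a * h⁻¹) * k⁻¹ by group]
    exact mul_mem (mul_mem (Subgroup.mem_sup_left hk) (Subgroup.mem_sup_right h1))
      (inv_mem (Subgroup.mem_sup_left hk))
  have hsurj : Function.Surjective ((QuotientGroup.mk' K).comp A.subtype) := by
    intro y
    obtain ⟨g, rfl⟩ := QuotientGroup.mk_surjective y
    obtain ⟨k, hk, a, ha, hka⟩ := Subgroup.mem_sup_of_normal_left.1 (htop ▸ Subgroup.mem_top g : g ∈ K ⊔ A)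
    refine ⟨⟨a, ha⟩, ?_⟩
    show (a : G ⧸ K) = g
    rw [← hka, QuotientGroup.mk_mul, (QuotientGroup.eq_one_iff k).2 hk, one_mul]
  exact ⟨_, inferInstance, ⟨(QuotientGroup.quotientKerEquivOfSurjective _ hsurj).symm⟩⟩

end Cfsg.Agent.S0796
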