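import Cfsg.Statements.S0798
import Cfsg.Agent.Classical.OrthPOmega
-- import your own Cfsg.Agent.* helpers here

set_option autoImplicit false
open Cfsg

namespace Cfsg.Agent.S0798

/-- For q odd, n ≥ 2 even, Q with non-degenerate polar form (n, |F|) ≠ (4, 3), and a fixed c ≠ 0: the subgroup of the isometry group generated by the reflections r_v with Q(v) ∈ c·(F^×)² has index 2. -/
theorem result {F : Type*} [Field F] [Fintype F] (h2 : (2 : F) ≠ 0) {n : ℕ} (hn : 2 ≤ n) (heven : Even n) (Q : QuadraticForm F (Fin n → F)) (hQ : (QuadraticMap.polarBilin Q).Nondegenerate) (h43 : ¬ (n = 4 ∧ Fintype.card F = 3)) (c : F) (hc : c ≠ 0) : (Subgroup.closure {g : ↥(Cfsg.isometryGroup F ⇑Q) | ∃ (v : Fin n → F) (t : F), t ≠ 0 ∧ Q v = c * t ^ 2 ∧ ((g : Matrix.GeneralLinearGroup (Fin n) F) : Matrix (Fin n) (Fin n) F) = Cfsg.reflectionMatrix ⇑Q v}).index = 2 := by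
  open Cfsg.Agent.Classical.Quad QuadraticMap in
    have hd : Module.finrank F (Fin n → F) = n := Module.finrank_fin_fun F
    have key := index_closure_class hQ h2 (by omega) (by rw [hd]; exact heven)
      (by rw [hd, Nat.card_eq_fintype_card]; exact h43) hc
    refine Eq.trans ?_ key
    rw [← Subgroup.index_map_equiv _ (oEquiv Q), MonoidHom.map_closure]
    congr 2
    ext x
    constructor
    · rintro ⟨g, ⟨v, t, ht, hQv, hg⟩, rfl⟩
      have hv : Q v ≠ 0 := by rw [hQv]; exact mul_ne_zero hc (pow_ne_zero 2 ht)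
      exact ⟨v, hv, ⟨t, ht, hQv⟩, (matrix_eq_reflection_iff hv).1 hg⟩
    · rintro ⟨v, hv, ⟨t, ht, hQv⟩, rfl⟩
      exact ⟨(oEquiv Q).symm (rO hv), ⟨v, t, ht, hQv,
        (matrix_eq_reflection_iff hv).2 ((oEquiv Q).apply_symm_apply _)⟩, (oEquiv Q).apply_symm_apply _⟩

end Cfsg.Agent.S0798
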