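import Cfsg.Statements.S0818
import Cfsg.Agent.AutPOmega.MinusOut

set_option autoImplicit false
open Cfsg

namespace Cfsg.Agent.S0818

/-- |Aut(PΩ⁻_2m(q))| for q = p^f, m ≥ 4 (form quadFormMinus (m−1) with anisotropic binary part): |PΩ⁻_2m(q)| times f, times 2 if p = 2, and times 4 or 8 if p is odd according as m(q−1)/2 is even or odd. -/
theorem result {F : Type*} [Field F] [Fintype F] (p f : ℕ) [Fact p.Prime] (hf : 1 ≤ f) (hF : Fintype.card F = p ^ f) (m : ℕ) (hm : 4 ≤ m) (a b : F) (hab : ∀ z₁ z₂ : F, z₁ ^ 2 + a * z₁ * z₂ + b * z₂ ^ 2 = 0 → z₁ = 0 ∧ z₂ = 0) : Nat.card (MulAut (Cfsg.POmega F (Cfsg.quadFormMinus (m - 1) F a b))) = (if p = 2 then 2 else (if Even (m * (p ^ f - 1) / 2) then 4 else 8)) * f * Nat.card (Cfsg.POmega F (Cfsg.quadFormMinus (m - 1) F a b)) := by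
  obtain ⟨k, rfl⟩ : ∃ k, m = k + 1 := ⟨m - 1, by omega⟩
  rw [Nat.add_sub_cancel]
  have h := Cfsg.Agent.AutPOmega.card_aut_minus (F := F) (m := k) (by omega) hab
  rw [(Cfsg.Agent.AutPSL.card_gal (F := F) hf hF).2] at h
  refine h.trans ?_
  have hp : p.Prime := Fact.out
  by_cases h2 : p = 2
  · rw [if_pos h2, if_neg (by
      rw [hF, h2, Nat.not_odd_iff_even]; exact Even.pow_of_ne_zero even_two (by omega))]
    show f * (2 * _) = 2 * f * Nat.card (Cfsg.POmega F ⇑(Cfsg.Agent.AutPOmega.qMinus F k a b))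
    ring
  · have hodd : Odd (Fintype.card F) := hF ▸ (hp.odd_of_ne_two h2).pow
    rw [if_neg h2, if_pos hodd, hF]
    have key : (p ^ f) ^ (k + 1) % 4 = 3 ↔ ¬ Even ((k + 1) * (p ^ f - 1) / 2) := by
      obtain ⟨j, hj⟩ := hF ▸ hodd
      rw [hj, Nat.add_sub_cancel, mul_left_comm, Nat.mul_div_cancel_left _ (by norm_num : 0 < 2), Nat.even_mul,
        not_or, Nat.not_even_iff_odd, Nat.not_even_iff_odd, Nat.pow_mod]
      rcases Nat.even_or_odd j with ⟨i, hi⟩ | ⟨i, hi⟩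
      · rw [show (2 * j + 1) % 4 = 1 by omega, one_pow]
        simp [Nat.odd_iff, show j % 2 = 0 by omega]
      · rw [show (2 * j + 1) % 4 = 3 by omega, and_iff_left (show Odd j from ⟨i, hi⟩)]
        rcases Nat.even_or_odd (k + 1) with ⟨l, hl⟩ | ⟨l, hl⟩
        · rw [hl, ← two_mul, pow_mul, Nat.pow_mod]
          norm_num [Nat.odd_iff]
        · rw [hl, pow_succ, pow_mul, Nat.mul_mod, Nat.pow_mod]
          norm_num [Nat.odd_iff]
    by_cases he : Even ((k + 1) * (p ^ f - 1) / 2)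
    · rw [if_neg (fun h => key.1 h he), if_pos he]
      show f * (4 * _) = 4 * f * Nat.card (Cfsg.POmega F ⇑(Cfsg.Agent.AutPOmega.qMinus F k a b))
      ring
    · rw [if_pos (key.2 he), if_neg he]
      show f * (8 * _) = 8 * f * Nat.card (Cfsg.POmega F ⇑(Cfsg.Agent.AutPOmega.qMinus F k a b))
      ring

end Cfsg.Agent.S0818
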