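import Cfsg.Statements.S0821
import Cfsg.Agent.Fg24.SignSets.Orth
import Cfsg.Agent.Fg24.SignSets.Symp

set_option autoImplicit false
open Cfsg

namespace Cfsg.Agent.S0821

/-- PSp_2m(q) ≇ PΩ_(2m+1)(q) for q odd and m ≥ 3 (they have the same order). -/
theorem result {F : Type*} [Field F] [Fintype F] (hodd : Odd (Fintype.card F)) (m : ℕ) (hm : 3 ≤ m) : IsEmpty (Cfsg.PSp m F ≃* Cfsg.POmega F (Cfsg.quadFormOdd m F)) := by
  classical
  refine ⟨fun φ => ?_⟩
  have h2 : (2 : F) ≠ 0 := Classical.two_ne_zero_of_odd hodd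
  open Cfsg.Agent.Classical.Quad QuadraticMap in
    let Q : QuadraticForm F (Unit ⊕ (Fin m ⊕ Fin m) → F) := (hyp (sqForm F) m).comp (oddCoord m).toLinearMap
    have hQe : ⇑Q = Cfsg.quadFormOdd m F := funext fun x => by simp [Q, oddCoord_map]
    have hQ : (polarBilin Q).Nondegenerate :=
      Iso.nondeg (Iso.symm ⟨oddCoord m, fun x => by simp [Q]⟩) (nondeg_hyp (nondeg_sqForm h2) m)
    have hV : Module.finrank F (Unit ⊕ (Fin m ⊕ Fin m) → F) = 2 * m + 1 := by simp; omega
    obtain ⟨A, hAc, hAcomm, hA2, hAcard⟩ := Fg24.SignSets.exists_elementary h2 hQ hV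
    rw [← hQe] at φ
    have hex : Nat.card F ≠ 2 ∨ Module.finrank F (Unit ⊕ (Fin m ⊕ Fin m) → F) ≠ 4 := Or.inr (by omega)
    have hno : ¬ ∃ g : Cfsg.isometryGroup F ⇑Q, g ∈ Cfsg.Omega F ⇑Q ∧
        ((g : GL (Unit ⊕ (Fin m ⊕ Fin m)) F) : Matrix (Unit ⊕ (Fin m ⊕ Fin m)) (Unit ⊕ (Fin m ⊕ Fin m)) F) = -1 := by
      rintro ⟨g, hg, hg1⟩
      have hker : dickson hQ hex (oEquiv Q g) = 1 :=
        MonoidHom.mem_ker.1 (Abelianization.commutator_subset_ker _ ((mem_omega_iff g).1 hg))
      have hfix : fixSub (oEquiv Q g) = ⊥ := by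
        rw [Submodule.eq_bot_iff]
        intro x hx
        rw [mem_fixSub, oEquiv_apply, hg1, Matrix.neg_mulVec, Matrix.one_mulVec] at hx
        have h' : (2 : F) • x = 0 := by
          rw [two_smul]
          nth_rewrite 2 [← hx]
          exact add_neg_cancel x
        exact (smul_eq_zero.1 h').resolve_left h2
      have hd : dsign (oEquiv Q g) = -1 := by
        rw [dsign, hfix, finrank_bot, hV, add_zero, pow_succ, pow_mul, Int.units_sq, one_pow, one_mul]
      rw [show dickson hQ hex (oEquiv Q g) = dsign (oEquiv Q g) from rfl, hd] at hker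
      exact absurd hker (by decide)
    have hcen := (card_center_omega hQ (by omega)).2 (Or.inl hno)
    have hbot : Subgroup.center (Cfsg.Omega F ⇑Q) = ⊥ := Subgroup.card_eq_one.1 hcen
    let f : A → Cfsg.PSp m F := fun a => φ.symm (QuotientGroup.mk
      (⟨(oEquiv Q).symm a.1, (mem_omega_iff _).2 (by rw [MulEquiv.apply_symm_apply]; exact hAc a.2)⟩ :
        Cfsg.Omega F ⇑Q))
    let F' : A →* Cfsg.PSp m F := MonoidHom.mk' f fun a c => by
      show φ.symm _ = φ.symm _ * φ.symm _
      rw [← map_mul, ← QuotientGroup.mk_mul]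
      congr 2
      exact Subtype.ext (map_mul _ _ _)
    have hinj : Function.Injective F' := fun a c h => by
      have h1 := QuotientGroup.eq.1 (φ.symm.injective h)
      rw [hbot, Subgroup.mem_bot, inv_mul_eq_one] at h1
      exact Subtype.ext ((oEquiv Q).symm.injective (congrArg Subtype.val h1))
    have hlt := Fg24.SignSets.card_lt_of_elementary hodd hm F'.range
      (by
        rintro _ ⟨a, rfl⟩ _ ⟨c, rfl⟩
        rw [← map_mul, ← map_mul, show a * c = c * a from Subtype.ext (hAcomm _ a.2 _ c.2)])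
      (by
        rintro _ ⟨a, rfl⟩
        rw [← map_mul, show a * a = 1 from Subtype.ext (hA2 _ a.2), map_one])
    rw [← Nat.card_congr (MonoidHom.ofInjective hinj).toEquiv] at hlt
    omega

end Cfsg.Agent.S0821
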