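import Cfsg.Statements.S0830
import Cfsg.Agent.Classical.IsotropicLines
-- import your own Cfsg.Agent.* helpers here

set_option autoImplicit false
open Cfsg

namespace Cfsg.Agent.S0830

/-- The unitary quadrangle of PSU_5(q): with |F| = q², the number of 2-dimensional subspaces of F^5 on which the Hermitian form vanishes is (q³ + 1)(q⁵ + 1). -/
theorem result {F : Type*} [Field F] [Fintype F] {q : ℕ} (hF : Fintype.card F = q ^ 2) : Nat.card {W : Submodule F (Fin 5 → F) // Module.finrank F W = 2 ∧ ∀ u ∈ W, ∀ v ∈ W, Cfsg.hermForm 5 F q u v = 0} = (q ^ 3 + 1) * (q ^ 5 + 1) := by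
  have hq : 1 < q := (Cfsg.Agent.Classical.exists_powHom hF).choose_spec.2.2.2
  have h := Cfsg.Agent.Classical.Lines.herm_planes hF (n := 3)
  set N := Nat.card {W : Submodule F (Fin (3 + 2) → F) // Module.finrank F W = 2 ∧
    ∀ u ∈ W, ∀ v ∈ W, Cfsg.hermForm (3 + 2) F q u v = 0} with hN
  have h2 : (2 : ℤ) ≤ q := by exact_mod_cast hq
  have hK : (0 : ℤ) < ((q : ℤ) ^ 4 - 1) * ((q : ℤ) ^ 4 - (q : ℤ) ^ 2) * q * q := by
    have a1 : (4 : ℤ) ≤ (q : ℤ) ^ 2 := by nlinarith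
    have a2 : (0 : ℤ) < (q : ℤ) ^ 4 - 1 := by nlinarith
    have a3 : (0 : ℤ) < (q : ℤ) ^ 4 - (q : ℤ) ^ 2 := by nlinarith
    positivity
  have e : (N : ℤ) * (((q : ℤ) ^ 4 - 1) * ((q : ℤ) ^ 4 - (q : ℤ) ^ 2) * q * q) =
      (((q ^ 3 + 1) * (q ^ 5 + 1) : ℕ) : ℤ) * (((q : ℤ) ^ 4 - 1) * ((q : ℤ) ^ 4 - (q : ℤ) ^ 2) * q * q) := by
    push_cast
    linear_combination h
  exact_mod_cast mul_right_cancel₀ hK.ne' e

end Cfsg.Agent.S0830
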