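import Cfsg.Statements.S0831
import Cfsg.Agent.Classical.QuadFamily
-- import your own Cfsg.Agent.* helpers here

set_option autoImplicit false
open Cfsg

namespace Cfsg.Agent.S0831

/-- The two families of maximal totally singular subspaces of the hyperbolic quadric: for the form Σ x_i y_i on F^(2m), m ≥ 1, and m-dimensional subspaces U, W, X on which it vanishes, the parities of m − dim(U ∩ W), m − dim(W ∩ X) and m − dim(U ∩ X) sum to an even number (so 'even codimension of the intersection' is an equivalence relation), and there exist two such subspaces meeting in codimension 1 (so there are exactly two classes). -/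
theorem result {F : Type*} [Field F] (m : ℕ) (hm : 1 ≤ m) : (∀ U W X : Submodule F (Fin m ⊕ Fin m → F), (Module.finrank F U = m ∧ ∀ w ∈ U, Cfsg.quadFormPlus m F w = 0) → (Module.finrank F W = m ∧ ∀ w ∈ W, Cfsg.quadFormPlus m F w = 0) → (Module.finrank F X = m ∧ ∀ w ∈ X, Cfsg.quadFormPlus m F w = 0) → Even ((m - Module.finrank F ↥(U ⊓ W)) + (m - Module.finrank F ↥(W ⊓ X)) + (m - Module.finrank F ↥(U ⊓ X)))) ∧ ∃ U W : Submodule F (Fin m ⊕ Fin m → F), (Module.finrank F U = m ∧ ∀ w ∈ U, Cfsg.quadFormPlus m F w = 0) ∧ (Module.finrank F W = m ∧ ∀ w ∈ W, Cfsg.quadFormPlus m F w = 0) ∧ Module.finrank F ↥(U ⊓ W) + 1 = m := by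
  have hp := Cfsg.Agent.Classical.Quad.plusSpace_plus (F := F) m
  rw [← Cfsg.Agent.Classical.Quad.coe_plusQ]
  refine ⟨fun U W X hU hW hX => hp.parity hU hW _ X hX rfl, ?_⟩
  obtain ⟨W0, hd, hW0⟩ := hp.max
  obtain ⟨v, hv0⟩ : ∃ v : W0 →ₗ[F] F, v ≠ 0 := by
    let b := Module.finBasis F W0
    refine ⟨b.coord ⟨0, by omega⟩, fun h => ?_⟩
    have h' := LinearMap.congr_fun h (b ⟨0, by omega⟩)
    simp at h'
  obtain ⟨Y, hY, hYd⟩ : ∃ Y, Y ≤ W0 ∧ Module.finrank F Y + 1 = m := by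
    refine ⟨(LinearMap.ker v).map W0.subtype, Submodule.map_subtype_le _ _, ?_⟩
    rw [Submodule.finrank_map_subtype_eq]
    exact (Module.Dual.finrank_ker_add_one_of_ne_zero hv0).trans hd
  obtain ⟨A, B, hne, ⟨hA1, hA2, hA3⟩, ⟨hB1, hB2, hB3⟩, -⟩ := hp.two_above hYd fun y hy => hW0 y (hY hy)
  refine ⟨A, B, ⟨hA2, hA3⟩, ⟨hB2, hB3⟩, ?_⟩
  have h1 := Submodule.finrank_mono (le_inf hA1 hB1)
  have h2 : A ⊓ B < A := lt_of_le_of_ne inf_le_left fun e =>
    hne (Submodule.eq_of_le_of_finrank_eq (inf_eq_left.1 e) (hA2.trans hB2.symm))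
  have h3 := Submodule.finrank_lt_finrank_of_lt h2
  omega

end Cfsg.Agent.S0831
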