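import Cfsg.Statements.S0839
import Mathlib
-- import your own Cfsg.Agent.* helpers here

set_option autoImplicit false
open Cfsg

namespace Cfsg.Agent.S0839

/-- Every transvection t ∈ SL_(n+2)(F) (rank(t − 1) = 1, (t − 1)² = 0) is conjugate in SL_(n+2)(F) to 1 + v·e_0ᵀ for some column vector v with v_0 = 0 (the group A of matrices that are the identity except in the first column below the diagonal); the dimension is written n + 2 ≥ 2. -/
theorem result {F : Type*} [Field F] (n : ℕ) (t : Matrix.SpecialLinearGroup (Fin (n + 2)) F) (ht : Cfsg.IsTransvection (t : Matrix (Fin (n + 2)) (Fin (n + 2)) F)) : ∃ (g : Matrix.SpecialLinearGroup (Fin (n + 2)) F) (v : Fin (n + 2) → F), v 0 = 0 ∧ ((g⁻¹ * t * g : Matrix.SpecialLinearGroup (Fin (n + 2)) F) : Matrix (Fin (n + 2)) (Fin (n + 2)) F) = 1 + Matrix.vecMulVec v (Pi.single 0 1) := by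
  classical
  obtain ⟨hr, hsq⟩ := ht
  set N := (t : Matrix (Fin (n + 2)) (Fin (n + 2)) F) - 1 with hN
  have hrk : Module.finrank F (LinearMap.range N.mulVecLin) = 1 := by
    rw [← Matrix.rank]; exact hr
  obtain ⟨u, hu0, hu⟩ := finrank_eq_one_iff'.1 hrk
  choose c hc using fun j => hu ⟨N.mulVecLin (Pi.single j 1), LinearMap.mem_range_self _ _⟩
  have hNw : N = Matrix.vecMulVec (u : Fin (n + 2) → F) c := by
    refine Matrix.ext fun i j => ?_
    have := congrArg (fun v : LinearMap.range N.mulVecLin => (v : Fin (n + 2) → F) i) (hc j)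
    simp at this
    rw [Matrix.vecMulVec_apply, ← this]
    ring
  obtain ⟨i, hi⟩ : ∃ i, c i ≠ 0 := by
    by_contra h
    push Not at h
    rw [show N = 0 from by rw [hNw, show c = 0 from funext h]; simp] at hr
    simp at hr
  let M : Matrix (Fin (n + 2)) (Fin (n + 2)) F :=
    ((1 : Matrix (Fin (n + 2)) (Fin (n + 2)) F).updateRow i c).submatrix (Equiv.swap 0 i) id
  have hM0 : ∀ j, M 0 j = c j := fun j => by simp [M]
  have hdet : M.det ≠ 0 := by
    simp only [M]
    rw [Matrix.det_permute]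
    refine mul_ne_zero (by by_cases h : (0 : Fin (n + 2)) = i <;> simp [Equiv.Perm.sign_swap', h]) ?_
    have e : ((1 : Matrix (Fin (n + 2)) (Fin (n + 2)) F).updateRow i c).det = c i := by
      conv_lhs => rw [← Finset.univ_sum_single c]
      rw [show (∑ j, Pi.single j (c j) : Fin (n + 2) → F) = ∑ j, c j • (1 : Matrix (Fin (n + 2)) (Fin (n + 2)) F) j from
        Finset.sum_congr rfl fun j _ => by ext k; simp [Matrix.one_apply, Pi.single_apply, eq_comm]]
      rw [Matrix.det_updateRow_sum, Matrix.det_one, smul_eq_mul, mul_one]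
    rw [e]; exact hi
  let M' := M.updateRow 1 (M.det⁻¹ • M 1)
  have hdet' : M'.det = 1 := by
    simp only [M']
    rw [Matrix.det_updateRow_smul, Matrix.updateRow_eq_self, inv_mul_cancel₀ hdet]
  have hM'0 : ∀ j, M' 0 j = c j := fun j => by simp [M', Matrix.updateRow_ne, hM0]
  let S : Matrix.SpecialLinearGroup (Fin (n + 2)) F := ⟨M', hdet'⟩
  have hS : (S : Matrix (Fin (n + 2)) (Fin (n + 2)) F) = M' := rfl
  refine ⟨S⁻¹, M'.mulVec (u : Fin (n + 2) → F), ?_, ?_⟩
  · have h0 : Matrix.vecMulVec (u : Fin (n + 2) → F) c * Matrix.vecMulVec (u : Fin (n + 2) → F) c = 0 := by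
      rw [← hNw]; exact hsq
    rw [Matrix.vecMulVec_mul_vecMulVec] at h0
    obtain ⟨k, hk⟩ := Function.ne_iff.1 (show (u : Fin (n + 2) → F) ≠ 0 from fun h => hu0 (Subtype.ext h))
    have h1 := congrFun (congrFun h0 k) i
    simp [Matrix.vecMulVec_apply, dotProduct] at h1
    have h2 : ∑ j, c j * (u : Fin (n + 2) → F) j = 0 := by
      rcases h1 with h1 | h1 | h1 <;>
        first
          | exact h1
          | exact absurd h1 hi
          | exact absurd h1 (by simpa using hk)
    simpa [Matrix.mulVec, dotProduct, hM'0] using h2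
  · obtain ⟨uv, huv⟩ : ∃ v : Fin (n + 2) → F, v = (u : Fin (n + 2) → F) := ⟨_, rfl⟩
    rw [← huv] at hNw ⊢
    have htv : (t : Matrix (Fin (n + 2)) (Fin (n + 2)) F) = 1 + Matrix.vecMulVec uv c :=
      sub_eq_iff_eq_add'.1 hNw
    rw [inv_inv, Matrix.SpecialLinearGroup.coe_mul, Matrix.SpecialLinearGroup.coe_mul, htv, mul_add, add_mul, mul_one,
      ← Matrix.SpecialLinearGroup.coe_mul, mul_inv_cancel, Matrix.SpecialLinearGroup.coe_one, Matrix.mul_vecMulVec,
      Matrix.vecMulVec_mul, hS]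
    congr 2
    rw [show (Pi.single 0 (1 : F) : Fin (n + 2) → F) = Matrix.vecMul (Matrix.vecMul (Pi.single 0 1) M')
      (↑(S⁻¹) : Matrix (Fin (n + 2)) (Fin (n + 2)) F) by
      rw [Matrix.vecMul_vecMul, ← hS, ← Matrix.SpecialLinearGroup.coe_mul, mul_inv_cancel,
        Matrix.SpecialLinearGroup.coe_one, Matrix.vecMul_one]]
    congr 1
    funext j
    simp [hM'0]

end Cfsg.Agent.S0839
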