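import Cfsg.Statements.S0841
import Mathlib.Tactic.Group
import Mathlib.Tactic.Ring

set_option autoImplicit false
open Cfsg

namespace Cfsg.Agent.S0841

/-- If the commutator subgroup of G lies in the centre, then for all x, y in G and every natural number n one has (x * y) ^ n = x ^ n * y ^ n * c ^ (n * (n - 1) / 2) with c = y⁻¹ * x⁻¹ * y * x. -/
theorem result {G : Type*} [Group G] (hG : commutator G ≤ Subgroup.center G) (x y : G) (n : ℕ) : (x * y) ^ n = x ^ n * y ^ n * (y⁻¹ * x⁻¹ * y * x) ^ (n * (n - 1) / 2) := by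
  set c := y⁻¹ * x⁻¹ * y * x with hc
  have hcc : ∀ z, z * c = c * z := by
    intro z
    have : c ∈ Subgroup.center G := by
      apply hG
      have h := Subgroup.commutator_mem_commutator (H₁ := (⊤ : Subgroup G)) (H₂ := ⊤)
        (Subgroup.mem_top (y⁻¹)) (Subgroup.mem_top (x⁻¹))
      rw [commutator_def]
      simpa [commutatorElement_def, hc] using h
    exact Subgroup.mem_center_iff.mp this z
  have hyx : ∀ k : ℕ, y ^ k * x = x * y ^ k * c ^ k := by
    intro k
    induction k with
    | zero => simp
    | succ k ih =>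
      have h1 : y * x = x * y * c := by rw [hc]; group
      calc y ^ (k + 1) * x = y ^ k * (y * x) := by rw [pow_succ]; group
        _ = y ^ k * x * y * c := by rw [h1]; group
        _ = x * y ^ k * c ^ k * y * c := by rw [ih]
        _ = x * y ^ k * (c ^ k * y) * c := by group
        _ = x * y ^ k * (y * c ^ k) * c := by
              rw [(Commute.pow_left (show Commute c y from (hcc y).symm) k).eq]
        _ = x * y ^ (k + 1) * c ^ (k + 1) := by rw [pow_succ, pow_succ]; group
  induction n with
  | zero => simp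
  | succ n ih =>
    have hcp : ∀ (m : ℕ) (z : G), z * c ^ m = c ^ m * z := fun m z =>
      (Commute.pow_right (show Commute z c from hcc z) m).eq
    have hT : (n + 1) * (n + 1 - 1) / 2 = n + n * (n - 1) / 2 := by
      rw [Nat.add_sub_cancel]
      rcases n with _ | m
      · simp
      · rw [Nat.add_sub_cancel, show (m + 1 + 1) * (m + 1) = (m + 1) * m + 2 * (m + 1) by ring,
          Nat.add_mul_div_left _ _ (by norm_num)]
        omega
    rw [pow_succ, ih, hT]
    calc x ^ n * y ^ n * c ^ (n * (n - 1) / 2) * (x * y)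
        = x ^ n * y ^ n * (c ^ (n * (n - 1) / 2) * (x * y)) := by group
      _ = x ^ n * y ^ n * (x * y * c ^ (n * (n - 1) / 2)) := by rw [hcp]
      _ = x ^ n * (y ^ n * x) * y * c ^ (n * (n - 1) / 2) := by group
      _ = x ^ n * (x * y ^ n * c ^ n) * y * c ^ (n * (n - 1) / 2) := by rw [hyx]
      _ = x ^ n * x * y ^ n * (c ^ n * y) * c ^ (n * (n - 1) / 2) := by group
      _ = x ^ n * x * y ^ n * (y * c ^ n) * c ^ (n * (n - 1) / 2) := by rw [← hcp]
      _ = x ^ (n + 1) * y ^ (n + 1) * c ^ (n + n * (n - 1) / 2) := by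
          rw [pow_succ, pow_succ, pow_add]; group

end Cfsg.Agent.S0841
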