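import Cfsg.Statements.S0842
import Cfsg.Agent.Invol.QuatD

set_option autoImplicit false
open Cfsg

namespace Cfsg.Agent.S0842

open Subgroup Cfsg.Agent.Invol

/-- Suppose a Sylow 2-subgroup S of the finite group G is generalized quaternion of order at least 16, and let D be the commutator subgroup of S, C its centralizer and N its normalizer in G. Then there is a subgroup K of odd order, contained in C and normalized by N, with K ⊔ S = N and K ⊔ (S ⊓ C) = C, and C has index 2 in N. -/
theorem result {G : Type*} [Group G] [Finite G] (S : Sylow 2 G) (n : ℕ) (e : (S : Subgroup G) ≃* QuaternionGroup (2 ^ (n + 2))) (D : Subgroup G) (hD : D = ⁅(S : Subgroup G), (S : Subgroup G)⁆) : ∃ K : Subgroup G, Odd (Nat.card K) ∧ K ≤ Subgroup.centralizer (D : Set G) ∧ Subgroup.normalizer (D : Set G) ≤ Subgroup.normalizer (K : Set G) ∧ K ⊔ (S : Subgroup G) = Subgroup.normalizer (D : Set G) ∧ K ⊔ ((S : Subgroup G) ⊓ Subgroup.centralizer (D : Set G)) = Subgroup.centralizer (D : Set G) ∧ ((Subgroup.centralizer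 (D : Set G)).subgroupOf (Subgroup.normalizer (D : Set G))).index = 2 := by
  obtain ⟨hu, hnc⟩ := quaternion_uniq S
    (by have := Nat.pow_le_pow_right two_pos (show 1 ≤ n + 2 by omega); simpa using this) e
  obtain ⟨a, k, h⟩ := exists_qData S hu hnc
  have hk : 3 ≤ k := by
    have hc := h.card
    rw [Nat.card_congr e.toEquiv, Nat.card_eq_fintype_card, QuaternionGroup.card,
      ← pow_succ', show (4 : ℕ) = 2 ^ 2 by norm_num, ← pow_add] at hc
    have := Nat.pow_right_injective le_rfl hc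
    omega
  rw [h.commutator_eq] at hD
  subst hD
  set C := centralizer (zpowers (a ^ 2) : Set G) with hC
  set N := normalizer (zpowers (a ^ 2) : Set G) with hN
  have hCN : C ≤ N := Subgroup.centralizer_le_normalizer _
  have hAC : zpowers a ≤ C := zpowers_le.2 (mem_centralizer_iff.2 fun v hv => by
    obtain ⟨i, rfl⟩ := mem_zpowers_iff.1 hv
    show (a ^ 2) ^ i * a = a * (a ^ 2) ^ i
    group)
  have hSC : (S : Subgroup G) ⊓ C = zpowers a := le_antisymm
    (fun x hx => h.mem_A_of_commute hk hx.1 (mem_centralizer_iff.1 hx.2 _ (mem_zpowers _)).symm)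
    (le_inf h.le_P hAC)
  have hSN : (S : Subgroup G) ≤ N := by
    intro x hx
    refine mem_normalizer_iff_map_conj_eq.2 ?_
    rw [MonoidHom.map_zpowers]
    show zpowers (x * a ^ 2 * x⁻¹) = zpowers (a ^ 2)
    by_cases hxa : x ∈ zpowers a
    · obtain ⟨i, rfl⟩ := mem_zpowers_iff.1 hxa
      rw [show a ^ i * a ^ 2 * (a ^ i)⁻¹ = a ^ 2 by group]
    · rw [h.inverts hx hxa (pow_mem (mem_zpowers a) 2), zpowers_inv]
  have hcomm : ∀ g ∈ N, ∀ c ∈ C, g * c * g⁻¹ ∈ C := by
    intro g hg c hc
    refine mem_centralizer_iff.2 fun v hv => ?_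
    have hv' : g⁻¹ * v * g ∈ zpowers (a ^ 2) := by
      have := (mem_normalizer_iff.1 (inv_mem hg) v).1 hv
      rwa [inv_inv] at this
    have h1 := mem_centralizer_iff.1 hc _ hv'
    calc v * (g * c * g⁻¹) = g * (g⁻¹ * v * g * c) * g⁻¹ := by group
      _ = g * (c * (g⁻¹ * v * g)) * g⁻¹ := by rw [h1]
      _ = g * c * g⁻¹ * v := by group
  let AC : Subgroup C := (zpowers a).subgroupOf C
  have hcycA : IsCyclic AC :=
    isCyclic_of_surjective (subgroupOfEquivOfLe hAC).symm (subgroupOfEquivOfLe hAC).symm.surjective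
  obtain ⟨R, hR⟩ := ((IsPGroup.of_card (n := k) (G := AC) (by
    rw [Nat.card_congr (subgroupOfEquivOfLe hAC).toEquiv, Nat.card_zpowers, h.order]))).exists_le_sylow
  have hRA : (R : Subgroup C) = AC := by
    obtain ⟨c, -, hc⟩ := h.exists_conj_le_A hk ((R : Subgroup C).map C.subtype) (R.2.map _) (map_subtype_le _)
    refine (eq_of_le_of_card_ge hR ?_).symm
    have h1 := card_le_of_le hc
    rw [card_map_of_injective (MulAut.conj c).injective, card_map_of_injective C.subtype_injective] at h1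
    rwa [Nat.card_congr (subgroupOfEquivOfLe hAC).toEquiv]
  have hcomp : Cfsg.HasNormalPComplement 2 C :=
    Cfsg.Agent.HSub.hasNormalPComplement_of_cyclic R (fun q hq _ => hq.two_le) (by rw [hRA]; exact hcycA)
  set K0 := Cfsg.pResidual 2 C with hK0
  have hchar := Cfsg.Agent.Fusion.pResidual_characteristic (p := 2) (G := C)
  have hKR := Cfsg.Agent.Fusion.isComplement'_pResidual hcomp R
  have hsup : C ⊔ (S : Subgroup G) = N := by
    refine le_antisymm (sup_le hCN hSN) ?_
    rw [← relIndex_eq_one]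
    by_contra hne
    obtain ⟨q, hq, hqd⟩ := Nat.exists_prime_and_dvd hne
    rcases eq_or_ne q 2 with rfl | hq2
    · exact (S.subtype hSN).not_dvd_index (hqd.trans
        (index_dvd_of_le (comap_mono (f := N.subtype) le_sup_right)))
    · have := Fact.mk hq
      let T : Sylow q N := default
      refine T.not_dvd_index (hqd.trans (index_dvd_of_le fun t ht => ?_))
      refine mem_subgroupOf.2 (le_sup_left (b := (S : Subgroup G)) ?_)
      refine Cfsg.Agent.HSub.centralizes_cyclic (p := 2) (good_two fun h2 => ?_) ?_ inferInstance t.2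
      · obtain ⟨j, hj⟩ := IsPGroup.iff_orderOf.1 T.2 ⟨t, ht⟩
        rw [Subgroup.orderOf_mk, ← Subgroup.orderOf_coe] at hj
        rw [hj] at h2
        exact hq2 ((Nat.prime_dvd_prime_iff_eq Nat.prime_two hq).1 (Nat.prime_two.dvd_of_dvd_pow h2)).symm
      · exact IsPGroup.of_card (n := k - 1) (by rw [Nat.card_zpowers, h.orderOf_sq])
  refine ⟨K0.map C.subtype, ?_, map_subtype_le _, ?_, ?_, ?_, ?_⟩
  · rw [card_map_of_injective C.subtype_injective]
    exact Nat.coprime_two_right.1 (Cfsg.Agent.Fusion.coprime_card_pResidual_of_hasNormalPComplement hcomp)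
  · intro g hg
    refine mem_normalizer_iff_map_conj_eq.2 ?_
    refine eq_of_le_of_card_ge ?_ (Nat.card_congr (equivMapOfInjective _ (MulAut.conj g).toMonoidHom (MulAut.conj g).injective).toEquiv).le
    rintro _ ⟨_, ⟨x, hx, rfl⟩, rfl⟩
    have hCn : (C.subgroupOf N).Normal :=
      ⟨fun c hc m => mem_subgroupOf.2 (hcomm m m.2 c (mem_subgroupOf.1 hc))⟩
    let φ : C ≃* C :=
      { toFun := fun c => ⟨g * c * g⁻¹, hcomm g hg c c.2⟩
        invFun := fun c => ⟨g⁻¹ * c * g, by
          have := hcomm g⁻¹ (inv_mem hg) c c.2; rwa [inv_inv] at this⟩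
        left_inv := fun c => Subtype.ext (by simp [mul_assoc])
        right_inv := fun c => Subtype.ext (by simp [mul_assoc])
        map_mul' := fun c d => Subtype.ext (by simp [mul_assoc]) }
    exact ⟨φ x, by
      have := hchar.fixed φ
      exact this.ge hx, rfl⟩
  · have hC' : C = K0.map C.subtype ⊔ zpowers a := by
      refine le_antisymm ?_ (sup_le (map_subtype_le _) hAC)
      intro c hc
      obtain ⟨⟨⟨x, hx⟩, ⟨r, hr⟩⟩, hxr⟩ := hKR.2 ⟨c, hc⟩
      change x * r = ⟨c, hc⟩ at hxr
      have : c = (x : G) * (r : G) := congrArg Subtype.val hxr.symm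
      rw [this]
      have hr' : r ∈ AC := hRA ▸ hr
      exact mul_mem_sup ⟨x, hx, rfl⟩ hr'
    refine le_antisymm (sup_le ((map_subtype_le _).trans hCN) hSN) ?_
    rw [← hsup]
    exact sup_le (hC'.le.trans (sup_le le_sup_left (h.le_P.trans le_sup_right))) le_sup_right
  · rw [hSC]
    refine le_antisymm (sup_le (map_subtype_le _) hAC) ?_
    intro c hc
    obtain ⟨⟨⟨x, hx⟩, ⟨r, hr⟩⟩, hxr⟩ := hKR.2 ⟨c, hc⟩
    change x * r = ⟨c, hc⟩ at hxr
    have : c = (x : G) * (r : G) := congrArg Subtype.val hxr.symm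
    rw [this]
    have hr' : r ∈ AC := hRA ▸ hr
    exact mul_mem_sup ⟨x, hx, rfl⟩ hr'
  · obtain ⟨w, hw, hwa⟩ := h.exists_out
    rw [index_eq_two_iff]
    refine ⟨⟨w, hSN hw⟩, fun b => ?_⟩
    have hwC : w ∉ C := fun hc => hwa (hSC ▸ ⟨hw, hc⟩)
    have hbs : (b : G) ∈ ((C ⊔ (S : Subgroup G) : Subgroup G) : Set G) := by rw [hsup]; exact b.2
    rw [coe_mul_of_right_le_normalizer_left C (S : Subgroup G) (fun x hx => mem_normalizer_iff.2 fun c =>
      ⟨hcomm x (hSN hx) c, fun hc => by
        have := hcomm x⁻¹ (inv_mem (hSN hx)) _ hc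
        rwa [inv_inv, show x⁻¹ * (x * c * x⁻¹) * x = c by group] at this⟩)] at hbs
    obtain ⟨c, hc, s, hs, hcs⟩ := hbs
    simp only [mem_subgroupOf, coe_mul, ← hcs]
    by_cases hsa : s ∈ zpowers a
    · refine Or.inr ⟨C.mul_mem hc (hAC hsa), fun hbw => hwC ?_⟩
      have := C.mul_mem (C.inv_mem (C.mul_mem hc (hAC hsa))) hbw
      rwa [inv_mul_cancel_left] at this
    · refine Or.inl ⟨?_, fun hb => hsa (hSC ▸ ⟨hs, ?_⟩)⟩
      · rw [mul_assoc]
        exact C.mul_mem hc (hAC (h.mul_mem_of_out hs hw hsa hwa))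
      · have := C.mul_mem (C.inv_mem hc) hb
        rwa [inv_mul_cancel_left] at this

end Cfsg.Agent.S0842
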