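import Cfsg.Statements.S0843
import Cfsg.Agent.Invol.QuatD

set_option autoImplicit false
open Cfsg

namespace Cfsg.Agent.S0843

open Subgroup Cfsg.Agent.Invol

/-- Suppose a Sylow 2-subgroup S of the finite group G is generalized quaternion of order at least 16; let D be the commutator subgroup of S and X the set of elements of the centralizer of D whose order is divisible by the order of D. Then D is contained in the cyclic subgroup generated by any element of X; an element of G conjugating some element of X into the centralizer of D normalizes D; and the normalizer of D maps X to itself under conjugation. -/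
theorem result {G : Type*} [Group G] [Finite G] (S : Sylow 2 G) (n : ℕ) (e : (S : Subgroup G) ≃* QuaternionGroup (2 ^ (n + 2))) (D : Subgroup G) (hD : D = ⁅(S : Subgroup G), (S : Subgroup G)⁆) : (∀ y : G, y ∈ Subgroup.centralizer (D : Set G) → Nat.card D ∣ orderOf y → D ≤ Subgroup.zpowers y) ∧ (∀ g y : G, y ∈ Subgroup.centralizer (D : Set G) → Nat.card D ∣ orderOf y → g * y * g⁻¹ ∈ Subgroup.centralizer (D : Set G) → g ∈ Subgroup.normalizer (D : Set G)) ∧ (∀ g y : G, g ∈ Subgroup.normalizer (D : Set G) → y ∈ Subgroup.centralizer (D : Set G) → Nat.card D ∣ orderOf y → g * y * g⁻¹ ∈ Subgroup.centralizer (D : Set G) ∧ Nat.card D ∣ orderOf (g * y * g⁻¹)) := by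
  obtain ⟨hu, hnc⟩ := quaternion_uniq S
    (by have := Nat.pow_le_pow_right two_pos (show 1 ≤ n + 2 by omega); simpa using this) e
  obtain ⟨a, k, h⟩ := exists_qData S hu hnc
  have hk : 3 ≤ k := by
    have hc := h.card
    rw [Nat.card_congr e.toEquiv, Nat.card_eq_fintype_card, QuaternionGroup.card,
      ← pow_succ', show (4 : ℕ) = 2 ^ 2 by norm_num, ← pow_add] at hc
    have := Nat.pow_right_injective le_rfl hc
    omega
  rw [h.commutator_eq] at hD
  subst hD
  have hcardD : Nat.card (zpowers (a ^ 2)) = 2 ^ (k - 1) := by rw [Nat.card_zpowers, h.orderOf_sq]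
  refine ⟨fun y hy hd => ?_, fun g y hy hd hgy => ?_, fun g y hg hy hd => ⟨?_, ?_⟩⟩
  · rw [hcardD] at hd
    rw [← h.zpowers_pow_eq hk hy hd, zpowers_le]
    exact pow_mem (mem_zpowers y) _
  · rw [hcardD] at hd
    have ho : orderOf (g * y * g⁻¹) = orderOf y := Cfsg.Agent.Invol.orderOf_conj g y
    have h1 := h.zpowers_pow_eq hk hy hd
    have h2 := h.zpowers_pow_eq hk hgy (by rw [ho]; exact hd)
    rw [ho, conj_pow] at h2
    refine mem_normalizer_iff_map_conj_eq.2 ?_
    conv_rhs => rw [← h2]
    conv_lhs => rw [← h1, MonoidHom.map_zpowers]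
    rfl
  · refine mem_centralizer_iff.2 fun v hv => ?_
    have hv' : g⁻¹ * v * g ∈ zpowers (a ^ 2) := by
      have := (mem_normalizer_iff.1 (inv_mem hg) v).1 hv
      rwa [inv_inv] at this
    have h1 := mem_centralizer_iff.1 hy _ hv'
    calc v * (g * y * g⁻¹) = g * (g⁻¹ * v * g * y) * g⁻¹ := by group
      _ = g * (y * (g⁻¹ * v * g)) * g⁻¹ := by rw [h1]
      _ = g * y * g⁻¹ * v := by group
  · rwa [Cfsg.Agent.Invol.orderOf_conj g y]

end Cfsg.Agent.S0843
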