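import Cfsg.Statements.S0844
import Cfsg.Agent.Invol.BSBig

set_option autoImplicit false
open Cfsg

namespace Cfsg.Agent.S0844

/-- Suppose a Sylow 2-subgroup S of the finite group G is generalized quaternion of order at least 16. Then G has two non-principal irreducible characters χ₁ and χ₂ with χ₁ 1 = χ₂ 1 + 1 such that χ₁ g - χ₂ g = 1 for every element g whose order is not divisible by 4. -/
theorem result {G : Type*} [Group G] [Fintype G] (S : Sylow 2 G) (n : ℕ) (e : (S : Subgroup G) ≃* QuaternionGroup (2 ^ (n + 2))) : ∃ χ₁ χ₂ : G → ℂ, Cfsg.IsIrrCharacter G χ₁ ∧ Cfsg.IsIrrCharacter G χ₂ ∧ χ₁ ≠ (fun _ => 1) ∧ χ₂ ≠ (fun _ => 1) ∧ χ₁ 1 = χ₂ 1 + 1 ∧ ∀ g : G, ¬ 4 ∣ orderOf g → χ₁ g - χ₂ g = 1 := by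
  classical
  obtain ⟨hu, hnc⟩ := Cfsg.Agent.Invol.quaternion_uniq S
    (by have := Nat.pow_le_pow_right two_pos (show 1 ≤ n + 2 by omega); simpa using this) e
  obtain ⟨a, k, h⟩ := Cfsg.Agent.Invol.exists_qData S hu hnc
  have hk : 3 ≤ k := by
    have hc := h.card
    rw [Nat.card_congr e.toEquiv, Nat.card_eq_fintype_card, QuaternionGroup.card,
      ← pow_succ', show (4 : ℕ) = 2 ^ 2 by norm_num, ← pow_add] at hc
    have := Nat.pow_right_injective le_rfl hc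
    omega
  obtain ⟨χp, χn, hp, hn, hdeg, hdiff, -⟩ := h.exists_chars hk
  exact ⟨_, _, χn.2, χp.2, hn, hp, hdeg, hdiff⟩

end Cfsg.Agent.S0844
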