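import Cfsg.Statements.S0845
import Cfsg.Agent.Invol.BSBig

set_option autoImplicit false
open Cfsg

namespace Cfsg.Agent.S0845

/-- Suppose a Sylow 2-subgroup S of the finite group G is generalized quaternion of order at least 16. Then G has a normal subgroup M of even order such that G / M is non-abelian, that is, M does not contain the commutator subgroup of G. -/
theorem result {G : Type*} [Group G] [Finite G] (S : Sylow 2 G) (n : ℕ) (e : (S : Subgroup G) ≃* QuaternionGroup (2 ^ (n + 2))) : ∃ M : Subgroup G, M.Normal ∧ Even (Nat.card M) ∧ ¬ commutator G ≤ M := by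
  classical
  have := Fintype.ofFinite G
  obtain ⟨hu, hnc⟩ := Cfsg.Agent.Invol.quaternion_uniq S
    (by have := Nat.pow_le_pow_right two_pos (show 1 ≤ n + 2 by omega); simpa using this) e
  obtain ⟨a, k, h⟩ := Cfsg.Agent.Invol.exists_qData S hu hnc
  have hk : 3 ≤ k := by
    have hc := h.card
    rw [Nat.card_congr e.toEquiv, Nat.card_eq_fintype_card, QuaternionGroup.card,
      ← pow_succ', show (4 : ℕ) = 2 ^ 2 by norm_num, ← pow_add] at hc
    have := Nat.pow_right_injective le_rfl hc
    omega
  obtain ⟨M, hM, hzM, -, hc⟩ := h.exists_normal hk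
  refine ⟨M, hM, ?_, hc⟩
  rw [even_iff_two_dvd, ← h.orderOf_z, ← Subgroup.orderOf_mk (a ^ 2 ^ (k - 1)) hzM]
  exact orderOf_dvd_natCard _

end Cfsg.Agent.S0845
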