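import Cfsg.Statements.S0846
import Cfsg.Agent.Invol.ZStar
import Cfsg.Agent.Core.Basics
import Cfsg.Agent.Invol.SylowConj

set_option autoImplicit false
open Cfsg

namespace Cfsg.Agent.S0846

/-- Suppose a Sylow 2-subgroup S of the finite group G is generalized quaternion of order at least 16. Then every Sylow 2-subgroup of the subgroup generated by the involutions of G is cyclic. -/
theorem result {G : Type*} [Group G] [Finite G] (S : Sylow 2 G) (n : ℕ) (e : (S : Subgroup G) ≃* QuaternionGroup (2 ^ (n + 2))) (Q : Sylow 2 ↥(Subgroup.closure {g : G | orderOf g = 2})) : IsCyclic Q := by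
  obtain ⟨huniq, hnc⟩ := Cfsg.Agent.Invol.quaternion_uniq S
    (le_self_pow (by norm_num) (by omega)) e
  obtain ⟨a, k, h⟩ := Cfsg.Agent.Invol.exists_qData S huniq hnc
  have := Fintype.ofFinite G
  set z := a ^ 2 ^ (k - 1) with hz
  revert Q
  set K := Subgroup.closure {g : G | orderOf g = 2} with hK
  intro Q
  have hKle : K ≤ Subgroup.zpowers z ⊔ Cfsg.oddCore G := by
    rw [hK, Subgroup.closure_le]
    intro t ht
    obtain ⟨g, hg⟩ := Cfsg.Agent.Invol.exists_sylow_conj_mem S ht
    have he := h.eq_z hg ((Cfsg.Agent.Invol.orderOf_conj g t).trans ht)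
    have ho := Cfsg.Agent.Invol.zstar h.isolated g⁻¹
    have : t = z * (z * g⁻¹ * z⁻¹ * g⁻¹⁻¹) := by
      rw [inv_inv, ← mul_assoc, ← mul_assoc, ← mul_assoc,
        Cfsg.Agent.Invol.mul_self_eq_one h.orderOf_z, one_mul, Cfsg.Agent.Invol.inv_eq_self h.orderOf_z, ← he]
      group
    rw [this]
    exact mul_mem (Subgroup.mem_sup_left (Subgroup.mem_zpowers _)) (Subgroup.mem_sup_right ho)
  obtain ⟨j, hj⟩ := Q.2.exists_card_eq
  have hd : Nat.card Q ∣ 2 * Nat.card (Cfsg.oddCore G) := by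
    refine (Subgroup.card_subgroup_dvd_card _).trans ((Subgroup.card_dvd_of_le hKle).trans ?_)
    refine (Cfsg.Agent.Core.card_sup_dvd_mul _ _).trans (dvd_of_eq ?_)
    rw [Nat.card_zpowers, h.orderOf_z]
  have hle : j ≤ 1 := by
    by_contra hlt
    rw [hj] at hd
    have h4 : 2 * 2 ∣ 2 * Nat.card (Cfsg.oddCore G) :=
      (show 2 * 2 ∣ 2 ^ j from pow_dvd_pow 2 (show 2 ≤ j by omega)).trans hd
    exact Cfsg.Agent.Core.not_dvd_card_pPrimeCore ((Nat.mul_dvd_mul_iff_left two_pos).1 h4)
  interval_cases j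
  · have : Subsingleton Q := (Nat.card_eq_one_iff_unique.1 (by rw [hj, pow_zero])).1
    exact isCyclic_of_subsingleton
  · exact isCyclic_of_prime_card (p := 2) (by rw [hj, pow_one])

end Cfsg.Agent.S0846
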