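import Cfsg.Statements.S0849
import Mathlib.Tactic.Group

set_option autoImplicit false
open Cfsg

namespace Cfsg.Agent.S0849

/-- Let H be a subgroup of a finite group G and S a subset of H that is mapped to itself under conjugation by H, is disjoint from its conjugate by any element outside H, and is closed under inverses. Let φ be a class function of H vanishing on H away from S, and let u, v be involutions of G. Then the sum of the induced function of φ over all products a * b with a conjugate to u and b conjugate to v equals the index of H times the sum of φ (a * b) over such pairs with a and b in H. -/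
theorem result {G : Type*} [Group G] [Fintype G] (H : Subgroup G) (S : Set G) (hSH : S ⊆ H) (hHS : ∀ h ∈ H, ∀ s ∈ S, h * s * h⁻¹ ∈ S) (hTI : ∀ g : G, g ∉ H → ∀ s ∈ S, g * s * g⁻¹ ∉ S) (hinv : ∀ s ∈ S, s⁻¹ ∈ S) (φ : H → ℂ) (hφ : Cfsg.IsClassFunction H φ) (hφS : ∀ x : H, (x : G) ∉ S → φ x = 0) (u v : G) (hu : orderOf u = 2) (hv : orderOf v = 2) : ∑ᶠ p ∈ {p : G × G | IsConj u p.1 ∧ IsConj v p.2}, Cfsg.indFun H φ (p.1 * p.2) = (H.index : ℂ) * ∑ᶠ p ∈ {p : H × H | IsConj u (p.1 : G) ∧ IsConj v (p.2 : G)}, φ (p.1 * p.2) := by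
  classical
  have h2 : ∀ {w a : G}, orderOf w = 2 → IsConj w a → a * a = 1 := by
    intro w a hw h
    obtain ⟨c, rfl⟩ := isConj_iff.mp h
    have : w * w = 1 := by rw [← sq, ← hw, pow_orderOf_eq_one]
    calc c * w * c⁻¹ * (c * w * c⁻¹) = c * (w * w) * c⁻¹ := by group
      _ = 1 := by rw [this]; group
  let X : Finset (G × G) := Finset.univ.filter fun p => IsConj u p.1 ∧ IsConj v p.2
  let Y : Finset (H × H) := Finset.univ.filter fun p => IsConj u (p.1 : G) ∧ IsConj v (p.2 : G)
  let F : G × G → ℂ := fun p => extendByZero H φ (p.1 * p.2)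
  have hXset : {p : G × G | IsConj u p.1 ∧ IsConj v p.2} = (X : Set (G × G)) := by ext p; simp [X]
  have hYset : {p : H × H | IsConj u (p.1 : G) ∧ IsConj v (p.2 : G)} = (Y : Set (H × H)) := by
    ext p; simp [Y]
  rw [hXset, hYset, finsum_mem_coe_finset, finsum_mem_coe_finset]
  -- step 1: unfold induction and remove the conjugation
  have hconj : ∀ x : G, ∑ p ∈ X, extendByZero H φ (x⁻¹ * (p.1 * p.2) * x) = ∑ p ∈ X, F p := by
    intro x
    refine Finset.sum_nbij' (fun p => (x⁻¹ * p.1 * x, x⁻¹ * p.2 * x))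
      (fun p => (x * p.1 * x⁻¹, x * p.2 * x⁻¹)) ?_ ?_ ?_ ?_ ?_
    · intro p hp
      simp only [X, Finset.coe_filter, Finset.mem_univ, true_and, Set.mem_setOf_eq,
        Finset.mem_filter] at hp ⊢
      exact ⟨hp.1.trans (isConj_iff.mpr ⟨x⁻¹, by group⟩), hp.2.trans (isConj_iff.mpr ⟨x⁻¹, by group⟩)⟩
    · intro p hp
      simp only [X, Finset.coe_filter, Finset.mem_univ, true_and, Set.mem_setOf_eq,
        Finset.mem_filter] at hp ⊢
      exact ⟨hp.1.trans (isConj_iff.mpr ⟨x, by group⟩), hp.2.trans (isConj_iff.mpr ⟨x, by group⟩)⟩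
    · intro p _; ext <;> group
    · intro p _; ext <;> group
    · intro p _; simp only [F]; congr 1; group
  have hL : ∑ p ∈ X, indFun H φ (p.1 * p.2) = (H.index : ℂ) * ∑ p ∈ X, F p := by
    unfold indFun
    rw [← Finset.mul_sum, Finset.sum_comm, Finset.sum_congr rfl (fun x _ => hconj x),
      Finset.sum_const, Finset.card_univ, nsmul_eq_mul, ← mul_assoc]
    congr 1
    have hH : (Nat.card H : ℂ) ≠ 0 := by simp [Nat.card_pos.ne']
    have hc : (Fintype.card G : ℂ) = (Nat.card H : ℂ) * (H.index : ℂ) := by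
      rw [← Nat.cast_mul, Subgroup.card_mul_index, Nat.card_eq_fintype_card]
    rw [hc, ← mul_assoc, inv_mul_cancel₀ hH, one_mul]
  rw [hL]
  congr 1
  -- step 2: only pairs inside `H` contribute
  refine (Finset.sum_of_injOn (fun q : H × H => ((q.1 : G), (q.2 : G))) ?_ ?_ ?_ ?_).symm
  · intro a _ b _ h
    simp only [Prod.mk.injEq] at h
    exact Prod.ext (Subtype.ext h.1) (Subtype.ext h.2)
  · intro q hq
    simp only [X, Y, Finset.coe_filter, Finset.mem_univ, true_and, Set.mem_setOf_eq] at hq ⊢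
    exact hq
  · intro p hp hnot
    simp only [X, Finset.mem_filter, Finset.mem_univ, true_and] at hp
    by_contra hF
    simp only [F, extendByZero] at hF
    by_cases hmem : p.1 * p.2 ∈ H
    · rw [show p.1 * p.2 = ((⟨p.1 * p.2, hmem⟩ : H) : G) from rfl,
        Subtype.val_injective.extend_apply] at hF
      have hS : p.1 * p.2 ∈ S := by by_contra h; exact hF (hφS _ h)
      have ha : p.1 ∈ H := by
        by_contra ha
        refine hTI p.1 ha _ hS ?_
        have e : p.1 * (p.1 * p.2) * p.1⁻¹ = (p.1 * p.2)⁻¹ := by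
          have e1 : p.1⁻¹ = p.1 := inv_eq_of_mul_eq_one_right (h2 hu hp.1)
          have e2 : p.2⁻¹ = p.2 := inv_eq_of_mul_eq_one_right (h2 hv hp.2)
          rw [mul_inv_rev, e2, e1, ← mul_assoc, h2 hu hp.1, one_mul]
        rw [e]
        exact hinv _ hS
      have hb : p.2 ∈ H := by
        have := mul_mem (inv_mem ha) hmem
        rwa [inv_mul_cancel_left] at this
      exact hnot ⟨(⟨p.1, ha⟩, ⟨p.2, hb⟩), by simp only [Y, Finset.coe_filter, Finset.mem_univ, true_and, Set.mem_setOf_eq]; exact hp, rfl⟩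
    · rw [Function.extend_apply'] at hF
      · exact hF rfl
      · rintro ⟨a, ha⟩; exact hmem (ha ▸ a.2)
  · intro q _
    simp only [F, extendByZero]
    rw [show (q.1 : G) * (q.2 : G) = ((q.1 * q.2 : H) : G) from rfl,
      Subtype.val_injective.extend_apply]

end Cfsg.Agent.S0849
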