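import Cfsg.Statements.S0856
import Cfsg.Agent.Char.Clifford
import Cfsg.Agent.Char.Induced

set_option autoImplicit false
open Cfsg

namespace Cfsg.Agent.S0856

open Cfsg.Agent.Char in
theorem norm_indFun_invariant {G : Type*} [Group G] [Fintype G] (N : Subgroup G) [N.Normal]
    [Fintype N] {φ : N → ℂ} (hφ : IsIrrCharacter N φ) (hinv : ∀ g : G, conjFun g φ = φ) :
    classInner (indFun N φ) (indFun N φ) = (N.index : ℂ) := by
  rw [classInner_indFun_indFun hφ hφ,
    Nat.card_congr (Equiv.subtypeUnivEquiv hinv : {g : G // conjFun g φ = φ} ≃ G),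
    ← Subgroup.card_mul_index N, Nat.cast_mul,
    inv_mul_cancel_left₀ (Nat.cast_ne_zero.2 Nat.card_pos.ne')]

open Cfsg.Agent.Char in
/-- If `f = ∑ e β` and `f * χ` has the same norm as `f` then the products `β * χ` with `e β ≠ 0`
are irreducible and pairwise different. -/
theorem products_of_norm_eq {G : Type*} [Group G] [Fintype G] {f χ : G → ℂ}
    (hf : IsCharacter G f) (hχ : IsIrrCharacter G χ)
    (hn : classInner (f * χ) (f * χ) = classInner f f) :
    (∀ β : IrrCharacter G, classInner f (β : G → ℂ) ≠ 0 →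
      IsIrrCharacter G ((β : G → ℂ) * χ) ∧ classInner (f * χ) ((β : G → ℂ) * χ) ≠ 0) ∧
    (∀ β γ : IrrCharacter G, classInner f (β : G → ℂ) ≠ 0 → classInner f (γ : G → ℂ) ≠ 0 →
      β ≠ γ → (β : G → ℂ) * χ ≠ (γ : G → ℂ) * χ) ∧
    ∀ ψ : G → ℂ, IsIrrCharacter G ψ → classInner (f * χ) ψ ≠ 0 →
      ∃ β : IrrCharacter G, classInner f (β : G → ℂ) ≠ 0 ∧ (β : G → ℂ) * χ = ψ := by
  classical
  choose e he using fun β : IrrCharacter G =>
    classInner_isCharacter_eq_natCast hf (IsIrr.isCharacter β.2)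
  choose n hnn using fun β γ : IrrCharacter G =>
    classInner_isCharacter_eq_natCast (isCharacter_mul (IsIrr.isCharacter β.2) (IsIrr.isCharacter hχ))
      (isCharacter_mul (IsIrr.isCharacter γ.2) (IsIrr.isCharacter hχ))
  have hexp : f = ∑ β : IrrCharacter G, (e β : ℂ) • (β : G → ℂ) := by
    conv_lhs => rw [classFun_expansion (isClassFunction_of_isCharacter hf)]
    simp only [he]
  have hexp' : f * χ = ∑ β : IrrCharacter G, (e β : ℂ) • ((β : G → ℂ) * χ) := by
    conv_lhs => rw [hexp]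
    rw [Finset.sum_mul]
    exact Finset.sum_congr rfl fun β _ => smul_mul_assoc _ _ _
  have hleft : ∀ ψ : G → ℂ, classInner (f * χ) ψ =
      ∑ β : IrrCharacter G, (e β : ℂ) * classInner ((β : G → ℂ) * χ) ψ := fun ψ => by
    rw [hexp', classInner_sum_left]
    simp only [classInner_smul_left]
  have hright : ∀ β : IrrCharacter G, classInner ((β : G → ℂ) * χ) (f * χ) =
      ∑ γ : IrrCharacter G, (e γ : ℂ) * (n β γ : ℂ) := fun β => by
    rw [← classInner_conj_symm, hleft, map_sum]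
    refine Finset.sum_congr rfl fun γ _ => ?_
    rw [map_mul, Complex.conj_natCast, classInner_conj_symm, hnn]
  have hsum : ∑ β : IrrCharacter G, ∑ γ : IrrCharacter G, e β * (e γ * n β γ) =
      ∑ β : IrrCharacter G, e β * e β := by
    have h1 : classInner f f = ∑ β : IrrCharacter G, (e β : ℂ) * (e β : ℂ) := by
      conv_lhs => arg 1; rw [hexp]
      rw [classInner_sum_left]
      refine Finset.sum_congr rfl fun β _ => ?_
      rw [classInner_smul_left, ← classInner_conj_symm, he, Complex.conj_natCast]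
    rw [hleft, h1] at hn
    simp only [hright, Finset.mul_sum] at hn
    exact_mod_cast hn
  have hpos : ∀ β, 0 < n β β := by
    intro β
    refine Nat.pos_of_ne_zero fun h0 => ?_
    have h1 := hnn β β
    rw [h0, Nat.cast_zero] at h1
    have h2 := ((classInner_self_eq_zero _).1 h1)
    have h3 := congrFun h2 1
    simp [IsIrr.one_ne_zero β.2, IsIrr.one_ne_zero hχ] at h3
  have hsplit : ∀ β, ∑ γ : IrrCharacter G, e β * (e γ * n β γ) =
      e β * (e β * n β β) + ∑ γ ∈ Finset.univ.erase β, e β * (e γ * n β γ) := fun β =>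
    (Finset.add_sum_erase _ _ (Finset.mem_univ β)).symm
  have hzero : ∀ β : IrrCharacter G,
      e β * (e β * (n β β - 1)) + ∑ γ ∈ Finset.univ.erase β, e β * (e γ * n β γ) = 0 := by
    have h1 : ∑ β : IrrCharacter G, (e β * e β + (e β * (e β * (n β β - 1)) +
        ∑ γ ∈ Finset.univ.erase β, e β * (e γ * n β γ))) = ∑ β : IrrCharacter G, e β * e β := by
      rw [← hsum]
      refine Finset.sum_congr rfl fun β _ => ?_
      rw [hsplit, ← add_assoc]
      congr 1
      obtain ⟨k, hk⟩ : ∃ k, n β β = k + 1 := ⟨n β β - 1, by have := hpos β; omega⟩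
      rw [hk, Nat.add_sub_cancel]
      ring
    rw [Finset.sum_add_distrib, Nat.add_eq_left, Finset.sum_eq_zero_iff] at h1
    exact fun β => h1 β (Finset.mem_univ β)
  have hone : ∀ β, e β ≠ 0 → n β β = 1 := by
    intro β hb
    have := (Nat.add_eq_zero_iff.1 (hzero β)).1
    simp only [mul_eq_zero, hb, false_or] at this
    have := hpos β
    omega
  have horth : ∀ β γ, e β ≠ 0 → e γ ≠ 0 → β ≠ γ → n β γ = 0 := by
    intro β γ hb hc hne
    have := (Nat.add_eq_zero_iff.1 (hzero β)).2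
    rw [Finset.sum_eq_zero_iff] at this
    have := this γ (Finset.mem_erase.2 ⟨hne.symm, Finset.mem_univ γ⟩)
    simpa [mul_eq_zero, hb, hc] using this
  have hirr : ∀ β : IrrCharacter G, e β ≠ 0 → IsIrrCharacter G ((β : G → ℂ) * χ) := fun β hb =>
    (isIrr_iff_norm_one (isCharacter_mul (IsIrr.isCharacter β.2) (IsIrr.isCharacter hχ))).2
      (by rw [hnn, hone β hb, Nat.cast_one])
  have hne0 : ∀ β : IrrCharacter G, classInner f (β : G → ℂ) ≠ 0 → e β ≠ 0 := fun β h h0 =>
    h (by rw [he, h0, Nat.cast_zero])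
  refine ⟨fun β h => ⟨hirr β (hne0 β h), ?_⟩, fun β γ hb hc hne heq => ?_, fun ψ hψ hc => ?_⟩
  · rw [hleft, Finset.sum_eq_single β]
    · rw [hnn, hone β (hne0 β h), Nat.cast_one, mul_one]
      exact Nat.cast_ne_zero.2 (hne0 β h)
    · intro γ _ hne
      by_cases hc : e γ = 0
      · rw [hc, Nat.cast_zero, zero_mul]
      · rw [hnn, horth γ β hc (hne0 β h) hne, Nat.cast_zero, mul_zero]
    · simp
  · have h1 := hnn β γ
    rw [horth β γ (hne0 β hb) (hne0 γ hc) hne, ← heq, hnn, hone β (hne0 β hb)] at h1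
    simp at h1
  · rw [hleft] at hc
    obtain ⟨β, -, hb⟩ := Finset.exists_ne_zero_of_sum_ne_zero hc
    rw [mul_ne_zero_iff] at hb
    have hb0 : e β ≠ 0 := fun h0 => hb.1 (by rw [h0, Nat.cast_zero])
    refine ⟨β, fun h0 => hb0 ?_, ?_⟩
    · rw [he] at h0; exact_mod_cast h0
    · by_contra hne
      exact hb.2 (classInner_irr_ne (hirr β hb0) hψ hne)


/-- Let N be a normal subgroup of the finite group G and φ, ϑ irreducible characters of N that are invariant under conjugation by G, such that the pointwise product φ * ϑ is irreducible and ϑ is the restriction of an irreducible character χ of G. Then multiplication by χ is a bijection from the set of irreducible characters of G having nonzero inner product with the function induced from φ onto the set of those having nonzero inner product with the function induced from φ * ϑ. -/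
theorem result {G : Type*} [Group G] [Fintype G] (N : Subgroup G) [hN : N.Normal] (φ ϑ : N → ℂ) (hφ : Cfsg.IsIrrCharacter N φ) (hϑ : Cfsg.IsIrrCharacter N ϑ) (hφinv : ∀ (g : G) (n : N), φ ⟨g * n * g⁻¹, hN.conj_mem (n : G) n.2 g⟩ = φ n) (hϑinv : ∀ (g : G) (n : N), ϑ ⟨g * n * g⁻¹, hN.conj_mem (n : G) n.2 g⟩ = ϑ n) (hprod : Cfsg.IsIrrCharacter N (φ * ϑ)) (χ : G → ℂ) (hχ : Cfsg.IsIrrCharacter G χ) (hext : ∀ n : N, χ n = ϑ n) : Set.BijOn (fun β : G → ℂ => β * χ) {β : G → ℂ | Cfsg.IsIrrCharacter G β ∧ Cfsg.classInner (Cfsg.indFun N φ) β ≠ 0} {ψ : G → ℂ | Cfsg.IsIrrCharacter G ψ ∧ Cfsg.classInner (Cfsg.indFun N (φ * ϑ)) ψ ≠ 0} := by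
  classical
  letI := Fintype.ofFinite N
  have hφi : ∀ g : G, Cfsg.Agent.Char.conjFun g φ = φ := fun g => funext fun n => hφinv g n
  have hprodi : ∀ g : G, Cfsg.Agent.Char.conjFun g (φ * ϑ) = φ * ϑ := fun g => by
    funext n
    exact congrArg₂ (· * ·) (hφinv g n) (hϑinv g n)
  have hproj : Cfsg.indFun N (φ * ϑ) = Cfsg.indFun N φ * χ := by
    rw [← Cfsg.Agent.Char.indFun_mul_res N φ (Cfsg.Agent.Char.isClassFunction_of_isIrr hχ)]
    congr 1
    funext n
    simp [hext n]
  obtain ⟨h1, h2, h3⟩ := products_of_norm_eq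
    (Cfsg.Agent.Char.isCharacter_indFun N (Cfsg.Agent.Char.IsIrr.isCharacter hφ)) hχ (by
      rw [← hproj, norm_indFun_invariant N hprod hprodi, norm_indFun_invariant N hφ hφi])
  rw [hproj]
  refine ⟨fun β hβ => h1 ⟨β, hβ.1⟩ hβ.2, fun β hβ γ hγ he => ?_, fun ψ hψ => ?_⟩
  · by_contra hne
    exact h2 ⟨β, hβ.1⟩ ⟨γ, hγ.1⟩ hβ.2 hγ.2 (fun h => hne (congrArg Subtype.val h)) he
  · obtain ⟨β, hb, he⟩ := h3 ψ hψ.1 hψ.2
    exact ⟨β, ⟨β.2, hb⟩, he⟩

end Cfsg.Agent.S0856
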