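import Cfsg.Statements.S0859
import Cfsg.Agent.ProjExt.MonomialA

set_option autoImplicit false
open Cfsg

namespace Cfsg.Agent.S0859

/-- Let G be a finite solvable group and N a normal subgroup such that for every prime p every Sylow p-subgroup of N is abelian. Suppose every irreducible character of G is induced from an irreducible character of some subgroup containing N whose restriction to N is irreducible. Then every irreducible character of G is induced from a character of degree 1 of some subgroup. -/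
theorem result {G : Type*} [Group G] [Fintype G] [Group.IsSolvable G] (N : Subgroup G) [N.Normal] (hab : ∀ (p : ℕ) [Fact p.Prime] (P : Sylow p N), ∀ a ∈ P, ∀ b ∈ P, a * b = b * a) (hrel : ∀ χ : G → ℂ, Cfsg.IsIrrCharacter G χ → ∃ (H : Subgroup G) (hNH : N ≤ H) (ψ : H → ℂ), Cfsg.IsIrrCharacter H ψ ∧ Cfsg.indFun H ψ = χ ∧ Cfsg.IsIrrCharacter N (fun n : N => ψ ⟨(n : G), hNH n.2⟩)) (χ : G → ℂ) (hχ : Cfsg.IsIrrCharacter G χ) : ∃ (U : Subgroup G) (lam : U → ℂ), Cfsg.IsCharacter U lam ∧ lam 1 = 1 ∧ Cfsg.indFun U lam = χ := by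
  classical
  have hA : Cfsg.Agent.ProjExt.AbelianSylows N := fun p _ P =>
    ⟨⟨fun a b => Subtype.ext (hab p P a a.2 b b.2)⟩⟩
  obtain ⟨H, hNH, ψ, hψ, hind, hres⟩ := hrel χ hχ
  letI := Fintype.ofFinite H
  let e : N.subgroupOf H ≃* N := Subgroup.subgroupOfEquivOfLe hNH
  have hsolv : Group.IsSolvable (N.subgroupOf H) :=
    Group.isSolvable_of_isSolvable_injective (f := e.toMonoidHom) e.injective
  have hmono := Cfsg.Agent.ProjExt.monomial_of_res_irr (N.subgroupOf H) hsolv
    (hA.of_injective e.toMonoidHom e.injective) hψ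
    ((Cfsg.Agent.Char.isIrrCharacter_comp_equiv e).2 hres)
  rw [← hind]
  exact hmono.indFun

end Cfsg.Agent.S0859
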