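import Cfsg.Statements.S0861
import Cfsg.Agent.Char.ClassCoprime
-- import your own Cfsg.Agent.* helpers here

set_option autoImplicit false
open Cfsg

namespace Cfsg.Agent.S0861

/-- Let P be a normal abelian Sylow p-subgroup of the finite group G and suppose some element g of P has centralizer exactly P. Then the number of irreducible characters of G is at most the order of P, and if equality holds then G / P is abelian (the commutator subgroup lies in P). -/
theorem result {G : Type*} [Group G] [Finite G] (p : ℕ) [Fact p.Prime] (P : Sylow p G) [(P : Subgroup G).Normal] (hab : ∀ a ∈ P, ∀ b ∈ P, a * b = b * a) (g : G) (hg : g ∈ P) (hC : Subgroup.centralizer ({g} : Set G) = P) : Nat.card (Cfsg.IrrCharacter G) ≤ Nat.card P ∧ (Nat.card (Cfsg.IrrCharacter G) = Nat.card P → commutator G ≤ P) := by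
  have hidx : ¬ p ∣ (P : Subgroup G).index := P.not_dvd_index
  have h := Cfsg.Agent.Char.class_bound (P : Subgroup G) P.2 hidx hab hg
  rw [hC] at h
  have hle : Nat.card (ConjClasses (G ⧸ (P : Subgroup G))) ≤ Nat.card (G ⧸ (P : Subgroup G)) :=
    Nat.card_le_card_of_surjective _ ConjClasses.mk_surjective
  rw [Cfsg.Agent.Char.card_irrCharacter]
  refine ⟨by omega, fun he => ?_⟩
  rw [he] at h
  have hab' : ∀ a b : G ⧸ (P : Subgroup G), a * b = b * a :=
    Cfsg.Agent.Char.card_conjClasses_eq_card_iff.1 (le_antisymm hle (by omega))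
  rw [commutator_def, Subgroup.commutator_le]
  intro a _ b _
  rw [← QuotientGroup.eq_one_iff]
  simp only [commutatorElement_def, QuotientGroup.mk_mul, QuotientGroup.mk_inv]
  rw [hab' (a : G ⧸ (P : Subgroup G)) (b : G ⧸ (P : Subgroup G))]
  group

end Cfsg.Agent.S0861
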