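import Cfsg.Statements.S0875
import Cfsg.Agent.Char.SectionIntegral
-- import your own Cfsg.Agent.* helpers here

set_option autoImplicit false
open Cfsg

namespace Cfsg.Agent.S0875

/-- Let G be a finite group of order m * n with m and n coprime, and g an element whose order is coprime to m. Every x in G factors uniquely as x = u * v with u, v commuting, the order of u coprime to n and the order of v coprime to m; let ϑ be the function on G equal to n at those x whose factor v is conjugate to g and equal to 0 elsewhere. Then ϑ is a linear combination of the irreducible characters of G with algebraic-integer coefficients. -/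
theorem result {G : Type*} [Group G] [Fintype G] (m n : ℕ) (hmn : Nat.card G = m * n) (hcop : Nat.Coprime m n) (g : G) (hg : Nat.Coprime (orderOf g) m) (ϑ : G → ℂ) (hϑ1 : ∀ x : G, (∃ v : G, IsConj v g ∧ (∃ u : G, x = u * v ∧ Commute u v ∧ Nat.Coprime (orderOf u) n ∧ Nat.Coprime (orderOf v) m)) → ϑ x = n) (hϑ0 : ∀ x : G, (¬ ∃ v : G, IsConj v g ∧ (∃ u : G, x = u * v ∧ Commute u v ∧ Nat.Coprime (orderOf u) n ∧ Nat.Coprime (orderOf v) m)) → ϑ x = 0) : ∃ c : Cfsg.IrrCharacter G → ℂ, (∀ χ, c χ ∈ Cfsg.AlgInt) ∧ ϑ = ∑ᶠ χ : Cfsg.IrrCharacter G, c χ • (χ : G → ℂ) := by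
  classical
  obtain ⟨a, b, hab, hb⟩ := Cfsg.Agent.Char.exists_component (G := G) hmn.dvd hcop
  have key : ∀ x : G, (∃ v : G, IsConj v g ∧ (∃ u : G, x = u * v ∧ Commute u v ∧
      Nat.Coprime (orderOf u) n ∧ Nat.Coprime (orderOf v) m)) ↔ IsConj (x ^ b) g := by
    intro x
    constructor
    · rintro ⟨v, hv, u, rfl, hc, hu, hv'⟩
      rwa [hb u v hc hu hv']
    · intro h
      exact ⟨x ^ b, h, x ^ a, (hab x).1.symm, Commute.pow_pow_self x a b, (hab x).2.1, (hab x).2.2⟩
  have h1 : ∀ x, IsConj (x ^ b) g → ϑ x = n := fun x h => hϑ1 x ((key x).2 h)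
  have h0 : ∀ x, ¬ IsConj (x ^ b) g → ϑ x = 0 := fun x h => hϑ0 x fun h' => h ((key x).1 h')
  refine ⟨fun χ => Cfsg.classInner ϑ (χ : G → ℂ), fun χ => ?_, ?_⟩
  · exact Cfsg.Agent.Char.isIntegral_section hmn hcop g hb h1 h0
      (Cfsg.Agent.Char.IsIrr.isCharacter χ.2)
  · refine Cfsg.Agent.Char.classFun_expansion_finsum fun x k => ?_
    have hc : IsConj (x ^ b) ((k * x * k⁻¹) ^ b) := isConj_iff.2 ⟨k, conj_pow.symm⟩
    by_cases h : IsConj (x ^ b) g
    · rw [h1 x h, h1 _ (hc.symm.trans h)]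
    · rw [h0 x h, h0 _ fun h' => h (hc.trans h')]

end Cfsg.Agent.S0875
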