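import Cfsg.Statements.S0876
import Cfsg.Agent.Char.PRegularCong
-- import your own Cfsg.Agent.* helpers here

set_option autoImplicit false
open Cfsg

namespace Cfsg.Agent.S0876

/-- Let G be a finite group, p a prime and M a maximal ideal of the ring of algebraic integers containing p. Let x, y be elements with p-parts a and b (so a⁻¹ * x and b⁻¹ * y are their p-regular parts). Then a⁻¹ * x and b⁻¹ * y are conjugate in G if and only if, for every irreducible character χ, the difference χ x - χ y lies in the local ideal at M. -/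
theorem result {G : Type*} [Group G] [Finite G] (p : ℕ) (M : Ideal Cfsg.AlgInt) (hM : Cfsg.IsPModular p M) (x y a b : G) (ha : Cfsg.IsPPart p x a) (hb : Cfsg.IsPPart p y b) : IsConj (a⁻¹ * x) (b⁻¹ * y) ↔ ∀ χ : Cfsg.IrrCharacter G, Cfsg.MemLocalIdeal M ((χ : G → ℂ) x - (χ : G → ℂ) y) := by
  obtain ⟨x', hx, hax, ⟨k, hk⟩, hx'⟩ := ha
  obtain ⟨y', hy, hby, ⟨l, hl⟩, hy'⟩ := hb
  rw [← hx, ← hy, inv_mul_cancel_left, inv_mul_cancel_left]
  have hc := fun χ : Cfsg.IrrCharacter G => Cfsg.Agent.Char.IsIrr.isCharacter χ.2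
  have e1 := fun χ : Cfsg.IrrCharacter G => Cfsg.Agent.Char.sub_regularPart_mem hM (hc χ) hax hk
  have e2 := fun χ : Cfsg.IrrCharacter G => Cfsg.Agent.Char.sub_regularPart_mem hM (hc χ) hby hl
  constructor
  · intro h χ
    have e := Cfsg.Agent.Blocks.memLocalIdeal_sub hM (e1 χ) (e2 χ)
    rw [(Cfsg.Agent.Char.isConj_iff_forall_irr x' y').1 h χ] at e
    simpa using e
  · intro h
    refine Cfsg.Agent.Char.isConj_of_cong hM hx' hy' fun χ => ?_
    have e := Cfsg.Agent.Blocks.memLocalIdeal_add hM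
      (Cfsg.Agent.Blocks.memLocalIdeal_sub hM (h χ) (e1 χ)) (e2 χ)
    ring_nf at e ⊢
    exact e

end Cfsg.Agent.S0876
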