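import Mathlib
import Cfsg.Agent.Zassenhaus.OddStab
import Cfsg.Statements.S0880
-- import your own Cfsg.Agent.* helpers here

set_option autoImplicit false
open Cfsg

namespace Cfsg.Agent.S0880

theorem aux {G Ω : Type*} [Group G] [Finite G] [MulAction G Ω] [Fintype Ω] {a b : Ω}
    (C : Zassenhaus.OddCtx G a b) [IsSimpleGroup G] :
    ∃ x y : G, (∀ c : Ω, x • c ≠ c) ∧ (∀ c : Ω, y • c ≠ c) ∧ ¬ IsConj x y := by
  classical
  haveI := Fintype.ofFinite G
  obtain ⟨-, hI⟩ := C.inverted_of_no_complement C.no_complement_of_simple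
  obtain ⟨H, hH⟩ := C.exists_kernel
  set E := Zassenhaus.twoPt G a b
  set S := (Finset.univ : Finset (ConjClasses G)).filter
    fun K => ∀ g : G, ConjClasses.mk g = K → g ∉ H with hS
  have hle : Nat.card E ≤ S.card := by
    refine (C.classes_avoiding hI hH).trans_eq ?_
    rw [Nat.card_eq_fintype_card, Fintype.card_subtype]
  set D := (Finset.univ : Finset G).filter fun d => d ∈ E ∧ d ≠ 1 with hD
  set T := D.image ConjClasses.mk with hT
  have hDcard : D.card + 1 = Nat.card E := by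
    rw [Nat.card_eq_fintype_card, Fintype.card_subtype, show D = ((Finset.univ : Finset G).filter
      fun d => d ∈ E).erase 1 by ext d; simp [hD, and_comm],
      Finset.card_erase_add_one (by simp)]
  obtain ⟨s, -, hsa, hsb⟩ := C.exists_swap
  have hTcard : T.card * 2 ≤ D.card := by
    rw [hT]
    refine le_trans ?_ (Finset.card_eq_sum_card_image ConjClasses.mk D).ge
    refine le_trans (le_of_eq ?_) (Finset.card_nsmul_le_sum _ _ 2 fun K hK => ?_)
    · rw [smul_eq_mul]
    obtain ⟨d, hd, rfl⟩ := Finset.mem_image.1 hK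
    obtain ⟨hdE, hd1⟩ : d ∈ E ∧ d ≠ 1 := by simpa [hD] using hd
    have hsub : ({d, d⁻¹} : Finset G) ⊆ D.filter fun x => ConjClasses.mk x = ConjClasses.mk d := by
      intro x hx
      rcases Finset.mem_insert.1 hx with rfl | hx
      · exact Finset.mem_filter.2 ⟨hd, rfl⟩
      · rw [Finset.mem_singleton] at hx
        subst hx
        refine Finset.mem_filter.2 ⟨by simp [hD, hdE, hd1], ?_⟩
        exact (ConjClasses.mk_eq_mk_iff_isConj.2 (isConj_iff.2 ⟨s, hI s hsa hsb d hdE⟩)).symm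
    refine le_trans (le_of_eq ?_) (Finset.card_le_card hsub)
    rw [Finset.card_pair (fun e => hd1 (C.eq_one_of_eq_inv hdE e))]
  have hlt : 1 < (S \ T).card := by
    have := Finset.le_card_sdiff T S
    have h3 : 3 ≤ Nat.card E := C.three_le_card
    omega
  obtain ⟨K, hK, L, hL, hne⟩ := Finset.one_lt_card.1 hlt
  have hfree : ∀ g : G, ConjClasses.mk g ∈ S \ T → ∀ c : Ω, g • c ≠ c := by
    intro g hg c hc
    rw [Finset.mem_sdiff] at hg
    obtain ⟨k, hk⟩ : ∃ k : G, k • c = a := by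
      by_cases hca : c = a
      · exact ⟨1, by rw [hca, one_smul]⟩
      · obtain ⟨k, hk, -⟩ := C.zctx.two hca (Ne.symm hca)
        exact ⟨k, hk⟩
    have hga : (k * g * k⁻¹) • a = a := by rw [← hk, mul_smul, mul_smul, inv_smul_smul, hc]
    have hcj : ConjClasses.mk (k * g * k⁻¹) = ConjClasses.mk g :=
      (ConjClasses.mk_eq_mk_iff_isConj.2 (isConj_iff.2 ⟨k, rfl⟩)).symm
    have hgH : k * g * k⁻¹ ∉ H := (Finset.mem_filter.1 hg.1).2 _ hcj
    obtain ⟨v, -, d, hd, hd1, e⟩ := C.conj_twoPt_of_not_mem hH hga hgH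
    refine hg.2 (Finset.mem_image.2 ⟨d, by simpa [hD] using ⟨hd, hd1⟩, ?_⟩)
    rw [← hcj, e]
    exact ConjClasses.mk_eq_mk_iff_isConj.2 (isConj_iff.2 ⟨v, rfl⟩)
  obtain ⟨x, rfl⟩ := ConjClasses.mk_surjective K
  obtain ⟨y, rfl⟩ := ConjClasses.mk_surjective L
  exact ⟨x, y, hfree x hK, hfree y hL, fun h => hne (ConjClasses.mk_eq_mk_iff_isConj.2 h)⟩

/-- Let G be a finite simple Zassenhaus group on Ω with n points whose two-point stabilizer E has odd order less than n - 2. Then there are two elements of G, each fixing no point of Ω, that are not conjugate. -/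
theorem result {G Ω : Type*} [Group G] [Finite G] [MulAction G Ω] [Fintype Ω] (hZ : Cfsg.IsZassenhausGroup G Ω) {a b : Ω} (hab : a ≠ b) [IsSimpleGroup G] (hodd : Odd (Nat.card ↥(MulAction.stabilizer G a ⊓ MulAction.stabilizer G b : Subgroup G))) (hlt : Nat.card ↥(MulAction.stabilizer G a ⊓ MulAction.stabilizer G b : Subgroup G) < Fintype.card Ω - 2) : ∃ x y : G, (∀ c : Ω, x • c ≠ c) ∧ (∀ c : Ω, y • c ≠ c) ∧ ¬ IsConj x y := by
  exact aux ⟨hZ, hab, hodd⟩

end Cfsg.Agent.S0880
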