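import Mathlib
import Cfsg.Agent.Zassenhaus.OddStab
import Cfsg.Agent.Char.Induced
import Cfsg.Agent.Char.Gen
import Cfsg.Agent.Char.Linear
import Cfsg.Statements.S0881
-- import your own Cfsg.Agent.* helpers here

set_option autoImplicit false
open Cfsg

namespace Cfsg.Agent.S0881

set_option maxHeartbeats 2000000 in
open scoped ComplexConjugate in
theorem aux {G Ω : Type*} [Group G] [Fintype G] [MulAction G Ω] [Fintype Ω] {a b : Ω}
    (C : Zassenhaus.OddCtx G a b) [IsSimpleGroup G] {H : Subgroup G}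
    (hH : Zassenhaus.IsKernel H a) (μ : MulAction.stabilizer G a → ℂ)
    (hμ : Cfsg.IsCharacter (MulAction.stabilizer G a) μ ∧ μ 1 = 1)
    (hμH : ∀ u : MulAction.stabilizer G a, (u : G) ∈ H → μ u = 1) (hμne : μ ≠ fun _ => 1) :
    Cfsg.IsIrrCharacter G (Cfsg.indFun (MulAction.stabilizer G a) μ) ∧
      ∀ u ∈ H, u ≠ 1 → Cfsg.indFun (MulAction.stabilizer G a) μ u = 1 := by
  classical
  set E := Zassenhaus.twoPt G a b with hE
  obtain ⟨f, hf⟩ := Char.isLinear_iff.1 hμ
  obtain ⟨-, hI⟩ := C.inverted_of_no_complement C.no_complement_of_simple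
  have hAne : (Nat.card (MulAction.stabilizer G a) : ℂ) ≠ 0 := Nat.cast_ne_zero.2 Nat.card_pos.ne'
  have hmem : ∀ g : G, g ∈ (MulAction.stabilizer G a) ↔ g • a = a := fun g => Iff.rfl
  -- values on the kernel
  have hkey : ∀ u ∈ H, u ≠ 1 → Cfsg.indFun (MulAction.stabilizer G a) μ u = 1 := by
    intro u hu hu1
    rw [Char.indFun_apply]
    have h1 : ∀ x : G, Cfsg.extendByZero (MulAction.stabilizer G a) μ (x⁻¹ * u * x) = if x ∈ (MulAction.stabilizer G a) then 1 else 0 := by
      intro x
      split_ifs with hx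
      · have hc : x⁻¹ * u * x ∈ H := by
          have := hH.norm x⁻¹ (inv_smul_eq_iff.2 hx.symm) u hu
          rwa [inv_inv] at this
        rw [Char.extendByZero_of_mem (MulAction.stabilizer G a) μ (show x⁻¹ * u * x ∈ (MulAction.stabilizer G a) from hH.fix _ hc)]
        exact hμH _ hc
      · refine Char.extendByZero_of_not_mem (MulAction.stabilizer G a) μ fun hc => hx ?_
        have := Zassenhaus.OddCtx.conj_kernel_fix hH (g := x⁻¹) hu hu1 (by rwa [inv_inv])
        exact (inv_smul_eq_iff.1 this).symm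
    rw [Finset.sum_congr rfl fun x _ => h1 x, Finset.sum_boole,
      show ((Finset.univ : Finset G).filter fun x => x ∈ (MulAction.stabilizer G a)).card = Nat.card (MulAction.stabilizer G a) by
        rw [Nat.card_eq_fintype_card, Fintype.card_subtype], inv_mul_cancel₀ hAne]
  refine ⟨?_, hkey⟩
  obtain ⟨s, -, hsa, hsb⟩ := C.exists_swap
  -- values on the two-point stabiliser
  let ε : E →* ℂˣ := f.comp (Subgroup.inclusion inf_le_left)
  have hval : ∀ d : E, d ≠ 1 → Cfsg.indFun (MulAction.stabilizer G a) μ (d : G) = (ε d : ℂ) + ((ε d)⁻¹ : ℂˣ) := by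
    intro d hd
    have hd1 : (d : G) ≠ 1 := fun e => hd (Subtype.ext e)
    rw [Char.indFun_apply]
    have h1 : ∀ x : G, Cfsg.extendByZero (MulAction.stabilizer G a) μ (x⁻¹ * (d : G) * x) =
        (if x ∈ (MulAction.stabilizer G a) then (ε d : ℂ) else 0) + if s * x ∈ (MulAction.stabilizer G a) then (((ε d)⁻¹ : ℂˣ) : ℂ) else 0 := by
      intro x
      by_cases hxA : x ∈ (MulAction.stabilizer G a)
      · have hsx : s * x ∉ (MulAction.stabilizer G a) := fun h => C.ne (by
          rw [hmem, mul_smul, (hmem x).1 hxA, hsa] at h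
          exact h.symm)
        rw [if_pos hxA, if_neg hsx, add_zero, Char.extendByZero_of_mem (MulAction.stabilizer G a) μ
          ((MulAction.stabilizer G a).mul_mem ((MulAction.stabilizer G a).mul_mem ((MulAction.stabilizer G a).inv_mem hxA) d.2.1) hxA), hf]
        refine congrArg Units.val ?_
        show f ((⟨x, hxA⟩ : (MulAction.stabilizer G a))⁻¹ * ⟨(d : G), d.2.1⟩ * ⟨x, hxA⟩) = f ⟨(d : G), d.2.1⟩
        rw [map_mul, map_mul, map_inv, mul_right_comm, inv_mul_cancel, one_mul]
      · rw [if_neg hxA, zero_add]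
        by_cases hsx : s * x ∈ (MulAction.stabilizer G a)
        · rw [if_pos hsx]
          have hdd : s * (d : G) * s⁻¹ = ((d⁻¹ : E) : G) := hI s hsa hsb d d.2
          have hm : x⁻¹ * (d : G) * x = (s * x)⁻¹ * ((d⁻¹ : E) : G) * (s * x) := by
            rw [← hdd]; group
          rw [hm, Char.extendByZero_of_mem (MulAction.stabilizer G a) μ
            ((MulAction.stabilizer G a).mul_mem ((MulAction.stabilizer G a).mul_mem ((MulAction.stabilizer G a).inv_mem hsx) (d⁻¹).2.1) hsx), hf]
          refine congrArg Units.val ?_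
          show f ((⟨s * x, hsx⟩ : (MulAction.stabilizer G a))⁻¹ * (⟨(d : G), d.2.1⟩)⁻¹ * ⟨s * x, hsx⟩) = (f ⟨(d : G), d.2.1⟩)⁻¹
          rw [map_mul, map_mul, map_inv, map_inv, mul_right_comm, inv_mul_cancel, one_mul]
        · rw [if_neg hsx]
          refine Char.extendByZero_of_not_mem (MulAction.stabilizer G a) μ fun hc => ?_
          have hc' : (d : G) • x • a = x • a := by
            have h2 : (x⁻¹ * (d : G) * x) • a = a := hc
            rw [mul_smul, mul_smul, inv_smul_eq_iff] at h2
            exact h2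
          have hxa : x • a ≠ a := hxA
          have hxb : x • a ≠ b := fun e => hsx (by rw [hmem, mul_smul, e, hsb])
          exact hd1 (C.zctx.eq_one C.ne d.2 hxa hxb hc')
    rw [Finset.sum_congr rfl fun x _ => h1 x, Finset.sum_add_distrib, ← Finset.sum_filter,
      ← Finset.sum_filter, Finset.sum_const, Finset.sum_const,
      show ((Finset.univ : Finset G).filter fun x => x ∈ (MulAction.stabilizer G a)).card = Nat.card (MulAction.stabilizer G a) by
        rw [Nat.card_eq_fintype_card, Fintype.card_subtype],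
      show ((Finset.univ : Finset G).filter fun x => s * x ∈ (MulAction.stabilizer G a)).card = Nat.card (MulAction.stabilizer G a) by
        rw [Nat.card_eq_fintype_card, ← Fintype.card_subtype]
        exact Fintype.card_congr (Equiv.subtypeEquiv (Equiv.mulLeft s) fun x => Iff.rfl),
      nsmul_eq_mul, nsmul_eq_mul, ← mul_add, ← mul_assoc, inv_mul_cancel₀ hAne, one_mul]
  -- the norm
  have hone : Cfsg.indFun (MulAction.stabilizer G a) μ 1 = (Nat.card H : ℂ) + 1 := by
    haveI : MulAction.IsPretransitive G Ω := ⟨fun x y => by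
      by_cases hxy : x = y
      · exact ⟨1, by rw [hxy, one_smul]⟩
      · obtain ⟨g, hg, -⟩ := C.zctx.two hxy (Ne.symm hxy)
        exact ⟨g, hg⟩⟩
    rw [Char.indFun_apply_one, hμ.2, mul_one, MulAction.index_stabilizer_of_transitive,
      ← hH.card_eq C.ne]
    push_cast
    ring
  have hcls := Char.isClassFunction_indFun (MulAction.stabilizer G a) μ
  have hchar := Char.isCharacter_indFun (MulAction.stabilizer G a) hμ.1
  refine Char.IsGen.isIrr_of_norm_one (Char.isGeneralized_of_isCharacter hchar) ?_ (by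
    rw [hone]; simp; positivity)
  haveI := Fintype.ofFinite (MulAction.stabilizer G a)
  haveI := Fintype.ofFinite E
  haveI := Fintype.ofFinite H
  rw [Char.classInner_indFun_left (MulAction.stabilizer G a) μ hcls]
  have hnorm : ∀ d : E, (ε d : ℂ) * conj (ε d : ℂ) = 1 := by
    intro d
    obtain ⟨n, hn, hdn⟩ : ∃ n, 0 < n ∧ (ε d : ℂ) ^ n = 1 := ⟨orderOf d, orderOf_pos d, by
      rw [← Units.val_pow_eq_pow_val, ← map_pow, pow_orderOf_eq_one, map_one, Units.val_one]⟩
    rw [Complex.mul_conj, Complex.normSq_eq_norm_sq, Complex.norm_eq_one_of_pow_eq_one hdn hn.ne']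
    simp
  have hsum : ∑ d : E, ((ε d : ℂ)) ^ 2 = 0 := by
    have h2 : ((Units.coeHom ℂ).comp ((powMonoidHom 2).comp ε) : E →* ℂ) ≠ 1 := by
      intro e
      refine hμne (funext fun x => ?_)
      obtain ⟨u, hu, d, hd, hx⟩ := C.decomp hH x.2
      have hd2 : ε ⟨d, hd⟩ ^ 2 = 1 := Units.ext (DFunLike.congr_fun e ⟨d, hd⟩)
      have hd3 : ε ⟨d, hd⟩ ^ Nat.card E = 1 := by rw [← map_pow, pow_card_eq_one', map_one]
      have hd1 : ε ⟨d, hd⟩ = 1 := by
        have := pow_gcd_eq_one.2 ⟨hd2, hd3⟩
        rwa [(Nat.coprime_two_left.2 C.odd).gcd_eq_one, pow_one] at this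
      have hx' : x = ⟨u, hH.fix u hu⟩ * ⟨d, hd.1⟩ := Subtype.ext hx
      show μ x = 1
      rw [hx', hf]
      show ((f (⟨u, hH.fix u hu⟩ * ⟨d, hd.1⟩) : ℂˣ) : ℂ) = 1
      have hu1 := hμH ⟨u, hH.fix u hu⟩ hu
      rw [hf] at hu1
      rw [map_mul, Units.val_mul, show ((f _ : ℂˣ) : ℂ) = 1 from hu1, one_mul]
      exact congrArg Units.val hd1
    exact sum_hom_units_eq_zero _ h2
  have hterm : ∀ (u : H) (d : E),
      μ (C.prodEquiv hH (u, d)) * conj (Cfsg.indFun (MulAction.stabilizer G a) μ ((C.prodEquiv hH (u, d) : (MulAction.stabilizer G a)) : G)) =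
        if d = 1 then (if u = 1 then (Nat.card H : ℂ) + 1 else 1) else 1 + (ε d : ℂ) ^ 2 := by
    intro u d
    split_ifs with hd hu
    · subst hd; subst hu
      have : C.prodEquiv hH ((1 : H), (1 : E)) = 1 := Subtype.ext (one_mul 1)
      rw [this, hμ.2, one_mul, Subgroup.coe_one, hone]
      simp
    · subst hd
      have e1 : ((C.prodEquiv hH (u, (1 : E)) : (MulAction.stabilizer G a)) : G) = u := mul_one _
      rw [hμH _ (e1.symm ▸ u.2), one_mul, e1, hkey u u.2 (fun e => hu (Subtype.ext e)), map_one]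
    · set x := C.prodEquiv hH (u, d) with hx
      have hxG : (x : G) = (u : G) * d := rfl
      have hxH : (x : G) ∉ H := fun h => hd (Subtype.ext (C.inf_eq_bot hH
        ((inv_mul_cancel_left (u : G) d) ▸ mul_mem (inv_mem u.2) (hxG ▸ h)) d.2))
      have hμx : μ x = (ε d : ℂ) := by
        have : x = ⟨u, hH.fix u u.2⟩ * ⟨(d : G), d.2.1⟩ := Subtype.ext hxG
        have hu1 := hμH ⟨(u : G), hH.fix u u.2⟩ u.2
        rw [hf] at hu1
        rw [this, hf]
        show ((f (⟨(u : G), _⟩ * ⟨(d : G), d.2.1⟩) : ℂˣ) : ℂ) = _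
        rw [map_mul, Units.val_mul, show ((f _ : ℂˣ) : ℂ) = 1 from hu1, one_mul]
        rfl
      obtain ⟨v, hv, d', hd', hd'1, e⟩ := C.conj_twoPt_of_not_mem hH (g := (x : G)) x.2 hxH
      -- the representative is `d` itself
      have hdd : d' = (d : G) := by
        have h1 : (u : G)⁻¹ * (v * (d' * v⁻¹ * d'⁻¹)) = (d : G) * d'⁻¹ := by
          have h2 : (u : G) * d = v * d' * v⁻¹ := hxG.symm.trans e
          rw [eq_mul_inv_iff_mul_eq]
          calc (u : G)⁻¹ * (v * (d' * v⁻¹ * d'⁻¹)) * d' = (u : G)⁻¹ * (v * d' * v⁻¹) := by group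
            _ = d := by rw [← h2, inv_mul_cancel_left]
        have h3 := C.inf_eq_bot hH (mul_mem (inv_mem u.2)
          (mul_mem hv (hH.norm d' hd'.1 _ (inv_mem hv)))) (h1 ▸ mul_mem d.2 (inv_mem hd'))
        rw [h1, mul_inv_eq_one] at h3
        exact h3.symm
      have hind : Cfsg.indFun (MulAction.stabilizer G a) μ (x : G) = Cfsg.indFun (MulAction.stabilizer G a) μ (d : G) := by
        rw [e, hdd]
        exact hcls (d : G) v
      rw [hμx, hind, hval d hd, map_add, mul_add, hnorm]
      have : conj (((ε d)⁻¹ : ℂˣ) : ℂ) = (ε d : ℂ) := by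
        rw [Units.val_inv_eq_inv_val, map_inv₀]
        exact inv_eq_of_mul_eq_one_left (hnorm d)
      rw [this, pow_two]
  unfold Cfsg.classInner
  rw [← (C.prodEquiv hH).sum_comp, Fintype.sum_prod_type_right]
  simp only [hterm]
  rw [Fintype.sum_eq_add_sum_compl (1 : E)]
  rw [show ∑ u : H, (if (1 : E) = 1 then (if u = 1 then (Nat.card H : ℂ) + 1 else 1)
      else 1 + (ε (1 : E) : ℂ) ^ 2) = 2 * (Nat.card H : ℂ) by
    simp only [if_true]
    rw [Fintype.sum_eq_add_sum_compl (1 : H), if_pos rfl,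
      Finset.sum_congr rfl (g := fun _ => (1 : ℂ)) (fun u hu => if_neg (by simpa using hu)),
      Finset.sum_const, Finset.card_compl, Finset.card_singleton, nsmul_eq_mul, mul_one,
      ← Nat.card_eq_fintype_card, Nat.cast_sub Nat.card_pos]
    push_cast
    ring]
  have hrest : ∀ d ∈ ({1}ᶜ : Finset E), (∑ u : H,
      (if d = 1 then (if u = 1 then (Nat.card H : ℂ) + 1 else 1) else 1 + (ε d : ℂ) ^ 2)) =
        (Nat.card H : ℂ) * (1 + (ε d : ℂ) ^ 2) := by
    intro d hd
    have hd' : d ≠ 1 := by simpa using hd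
    simp only [if_neg hd']
    rw [Finset.sum_const, Finset.card_univ, nsmul_eq_mul, ← Nat.card_eq_fintype_card]
  rw [Finset.sum_congr rfl hrest, ← Finset.mul_sum]
  have htot : ∑ d ∈ ({1}ᶜ : Finset E), (1 + (ε d : ℂ) ^ 2) = (Nat.card E : ℂ) - 2 := by
    have h2 : ∑ d : E, (1 + (ε d : ℂ) ^ 2) = (Nat.card E : ℂ) := by
      rw [Finset.sum_add_distrib, hsum, add_zero, Finset.sum_const, Finset.card_univ, nsmul_eq_mul,
        mul_one, Nat.card_eq_fintype_card]
    rw [Fintype.sum_eq_add_sum_compl (1 : E)] at h2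
    simp only [map_one, Units.val_one, one_pow] at h2
    linear_combination h2
  rw [htot, C.card_stab hH, Nat.cast_mul]
  have h1 : (Nat.card H : ℂ) ≠ 0 := Nat.cast_ne_zero.2 Nat.card_pos.ne'
  have h2 : (Nat.card E : ℂ) ≠ 0 := Nat.cast_ne_zero.2 Nat.card_pos.ne'
  show ((Nat.card H : ℂ) * (Nat.card E : ℂ))⁻¹ * _ = 1
  field_simp
  ring

/-- Let G be a finite simple Zassenhaus group on Ω with n points, a ≠ b points with two-point stabilizer E of odd order less than n - 2, and let H be the subgroup of the stabilizer of a consisting of the identity and the elements fixing no point other than a (given here as a subgroup of the stabilizer of order one less than the number of points whose non-identity elements fix only a; it is the Frobenius kernel of the stabilizer). Let μ be a character of degree 1 of the stabilizer of a that is identically 1 on H but not identically 1. Then the function induced from μ to G is an irreducible character of G, and it takes the value 1 at every non-identity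 element of H. -/
theorem result {G Ω : Type*} [Group G] [Fintype G] [MulAction G Ω] [Fintype Ω] (hZ : Cfsg.IsZassenhausGroup G Ω) {a b : Ω} (hab : a ≠ b) [IsSimpleGroup G] (hodd : Odd (Nat.card ↥(MulAction.stabilizer G a ⊓ MulAction.stabilizer G b : Subgroup G))) (hlt : Nat.card ↥(MulAction.stabilizer G a ⊓ MulAction.stabilizer G b : Subgroup G) < Fintype.card Ω - 2) (H : Subgroup G) (hHa : H ≤ MulAction.stabilizer G a) (hHcard : Nat.card H + 1 = Fintype.card Ω) (hHfix : ∀ u ∈ H, u ≠ 1 → ∀ c : Ω, u • c = c → c = a) (μ : MulAction.stabilizer G a → ℂ) (hμ : Cfsg.IsCharacter (MulAction.stabilizer G a) μ ∧ μ 1 = 1) (hμH : ∀ u : MulAction.stabilizer G a, (u : G) ∈ H → μ u = 1) (hμne : μ ≠ fun _ => 1) : Cfsg.IsIrrCharacter G (Cfsg.indFun (MulAction.stabilizer G a) μ) ∧ ∀ u ∈ H, u ≠ 1 → Cfsg.indFun (MulAction.stabilizer G a) μ u = 1 := by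
  have C : Zassenhaus.OddCtx G a b := ⟨hZ, hab, hodd⟩
  exact aux C (C.isKernel H hHa hHcard hHfix) μ hμ hμH hμne

end Cfsg.Agent.S0881
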