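
import Cfsg.Statements.S0889
import Cfsg.Agent.ProjExt.Berger.Main
import Cfsg.Agent.Char.Induced

set_option autoImplicit false
open Cfsg

namespace Cfsg.Agent.S0889

/-- Let G be a finite solvable group and χ an irreducible character of G such that for every normal subgroup N the restriction of χ to N is a natural-number multiple of one irreducible character of N. Then χ is not induced from a character of any proper subgroup. -/
theorem result {G : Type*} [Group G] [Fintype G] [Group.IsSolvable G] (χ : G → ℂ) (hχ : Cfsg.IsIrrCharacter G χ) (hqp : ∀ (N : Subgroup G), N.Normal → ∃ (ϑ : N → ℂ) (e : ℕ), Cfsg.IsIrrCharacter N ϑ ∧ (fun n : N => χ n) = (e : ℂ) • ϑ) (K : Subgroup G) (hK : K ≠ ⊤) (ψ : K → ℂ) (hψ : Cfsg.IsCharacter K ψ) : Cfsg.indFun K ψ ≠ χ := by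
  classical
  intro hind
  obtain ⟨n, ρ, hρ, rfl⟩ := hχ
  obtain ⟨m, τ, rfl⟩ := hψ
  have hn : 0 < n := by
    have := (Agent.Char.isIrreducible_iff.1 hρ).1
    have h := Module.finrank_pos (R := ℂ) (M := Fin n → ℂ)
    rwa [Module.finrank_fin_fun] at h
  have hiso : ∀ N : Subgroup G, N.Normal → Agent.ProjExt.Isotypic ρ N := by
    intro N hN
    obtain ⟨ϑ, e, hϑ, he⟩ := hqp N hN
    exact Agent.ProjExt.isotypic_of_eq ρ hn N hϑ fun x => by simpa using congrFun he x
  have hdeg : n = K.index * m := by
    have h := congrFun hind 1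
    rw [Agent.Char.indFun_apply_one, τ.char_one, ρ.char_one, Module.finrank_fin_fun,
      Module.finrank_fin_fun] at h
    exact_mod_cast h.symm
  let ρK : Representation ℂ K (Fin n → ℂ) := ρ.comp K.subtype
  have h1 : classInner ρK.character τ.character ≠ 0 := by
    have h2 := Agent.Char.classInner_indFun_right K τ.character
      (Agent.Char.isClassFunction_of_isIrr (⟨n, ρ, hρ, rfl⟩ : IsIrrCharacter G ρ.character))
    rw [hind, Agent.Char.classInner_irr_self ⟨n, ρ, hρ, rfl⟩] at h2
    exact fun h => one_ne_zero (h2.trans h)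
  rw [Agent.Char.classInner_character_eq_finrank, Nat.cast_ne_zero] at h1
  obtain ⟨T, hT⟩ := Module.finrank_pos_iff_exists_ne_zero.1 (Nat.pos_of_ne_zero h1)
  have hlt := Agent.ProjExt.noBlock n G inferInstance ρ hρ hiso K hK
    (LinearMap.range T.toLinearMap) (fun h => hT (DFunLike.ext _ _ fun v =>
      LinearMap.congr_fun (LinearMap.range_eq_bot.1 h) v))
    (by
      rintro k hk _ ⟨v, rfl⟩
      exact ⟨τ ⟨k, hk⟩ v, T.isIntertwining τ ρK ⟨k, hk⟩ v⟩)
  have hle := LinearMap.finrank_range_le T.toLinearMap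
  rw [Module.finrank_fin_fun] at hle
  have := Nat.mul_le_mul_right K.index hle
  have := Nat.mul_comm K.index m
  omega

end Cfsg.Agent.S0889
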