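
import Cfsg.Statements.S0890
import Cfsg.Agent.ProjExt.Berger.Main
import Cfsg.Agent.Char.Induced

set_option autoImplicit false
open Cfsg

namespace Cfsg.Agent.S0890

/-- Let L ≤ H < G with L normal in G, H a maximal subgroup and G / L solvable. Let ϑ be an irreducible character of H whose restriction to L is irreducible and whose induction χ to G is irreducible. Then there is a normal subgroup M of G containing L such that the restriction of χ to M is not a natural-number multiple of a single irreducible character of M. -/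
theorem result {G : Type*} [Group G] [Fintype G] (L H : Subgroup G) [L.Normal] (hLH : L ≤ H) (hmax : IsCoatom H) (hsolv : Group.IsSolvable (G ⧸ L)) (ϑ : H → ℂ) (hϑ : Cfsg.IsIrrCharacter H ϑ) (hϑL : Cfsg.IsIrrCharacter L (fun x : L => ϑ ⟨(x : G), hLH x.2⟩)) (hind : Cfsg.IsIrrCharacter G (Cfsg.indFun H ϑ)) : ∃ M : Subgroup G, M.Normal ∧ L ≤ M ∧ ¬ ∃ (φ : M → ℂ) (e : ℕ), Cfsg.IsIrrCharacter M φ ∧ (fun m : M => Cfsg.indFun H ϑ m) = (e : ℂ) • φ := by
  classical
  by_contra! hcon
  obtain ⟨b, τ, hτ, rfl⟩ := hϑ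
  obtain ⟨n, ρ, hρ, hχ⟩ := hind
  have hn : 0 < n := by
    have := (Agent.Char.isIrreducible_iff.1 hρ).1
    have h := Module.finrank_pos (R := ℂ) (M := Fin n → ℂ)
    rwa [Module.finrank_fin_fun] at h
  have heq : ∀ M : Subgroup G, M.Normal → L ≤ M → ∃ (φ : M → ℂ) (e : ℕ),
      IsIrrCharacter M φ ∧ ∀ x : M, ρ.character x = e * φ x := by
    intro M hM hLM
    obtain ⟨φ, e, hφ, he⟩ := hcon M hM hLM
    exact ⟨φ, e, hφ, fun x => by rw [hχ]; simpa using congrFun he x⟩
  obtain ⟨φ, e, hφ, he⟩ := heq L inferInstance le_rfl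
  obtain ⟨a, -, hae, ⟨D⟩⟩ := Agent.ProjExt.exists_split ρ hn L hφ he
  have hdeg : n = H.index * b := by
    have h := congrFun hχ 1
    rw [Agent.Char.indFun_apply_one, τ.char_one, ρ.char_one, Module.finrank_fin_fun,
      Module.finrank_fin_fun] at h
    exact_mod_cast h
  let ρH : Representation ℂ H (Fin n → ℂ) := ρ.comp H.subtype
  have h1 : classInner ρH.character τ.character ≠ 0 := by
    have h2 := Agent.Char.classInner_indFun_right H τ.character
      (Agent.Char.isClassFunction_of_isIrr (⟨n, ρ, hρ, rfl⟩ : IsIrrCharacter G ρ.character))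
    rw [← hχ, Agent.Char.classInner_irr_self ⟨n, ρ, hρ, rfl⟩] at h2
    exact fun h => one_ne_zero (h2.trans h)
  rw [Agent.Char.classInner_character_eq_finrank, Nat.cast_ne_zero] at h1
  obtain ⟨T, hT⟩ := Module.finrank_pos_iff_exists_ne_zero.1 (Nat.pos_of_ne_zero h1)
  obtain ⟨Y, hY0, hYH, hYdim⟩ := D.exists_rowSpace hLH
    (X := LinearMap.range T.toLinearMap) (fun h => hT (DFunLike.ext _ _ fun v =>
      LinearMap.congr_fun (LinearMap.range_eq_bot.1 h) v))
    (by
      rintro k hk _ ⟨v, rfl⟩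
      exact ⟨τ ⟨k, hk⟩ v, T.isIntertwining τ ρH ⟨k, hk⟩ v⟩)
  have hle := LinearMap.finrank_range_le T.toLinearMap
  rw [Module.finrank_fin_fun] at hle
  refine D.false_of_noBlock (Agent.ProjExt.noBlock e) hρ hsolv
    (fun M hM hLM => ?_) H hLH hmax.1 Y hY0 hYH ?_
  · obtain ⟨φ', e', hφ', he'⟩ := heq M hM hLM
    exact Agent.ProjExt.isotypic_of_eq ρ hn M hφ' he'
  · refine Nat.le_of_mul_le_mul_left ?_ D.a_pos
    rw [← Nat.mul_assoc, ← hae, hdeg, Nat.mul_comm H.index b]
    exact Nat.mul_le_mul_right _ (hYdim.trans hle)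

end Cfsg.Agent.S0890
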