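import Cfsg.Statements.S0891
import Mathlib

set_option autoImplicit false
open Cfsg

namespace Cfsg.Agent.S0891

/-- Symmetric difference with a singleton. -/
def tog {n : ℕ} (i : Fin n) (S : Finset (Fin n)) : Finset (Fin n) :=
  if i ∈ S then S.erase i else insert i S

variable {n : ℕ}

theorem mem_tog (i j : Fin n) (S : Finset (Fin n)) :
    j ∈ tog i S ↔ (if j = i then j ∉ S else j ∈ S) := by
  unfold tog
  split_ifs <;> simp_all

theorem tog_tog (i : Fin n) (S : Finset (Fin n)) : tog i (tog i S) = S := by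
  ext j; simp only [mem_tog]; split_ifs <;> simp_all

theorem tog_comm (i j : Fin n) (S : Finset (Fin n)) : tog i (tog j S) = tog j (tog i S) := by
  ext k; simp only [mem_tog]; split_ifs <;> simp_all

/-- The sign of the members of `S` satisfying `p`. -/
def sg (p : Fin n → Prop) [DecidablePred p] (S : Finset (Fin n)) : ZMod 3 :=
  (-1) ^ (S.filter p).card

theorem sg_tog (p : Fin n → Prop) [DecidablePred p] (i : Fin n) (S : Finset (Fin n)) :
    sg p (tog i S) = (if p i then -1 else 1) * sg p S := by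
  unfold sg tog
  by_cases hi : i ∈ S
  · obtain ⟨T, hT, rfl⟩ : ∃ T, i ∉ T ∧ S = insert i T :=
      ⟨S.erase i, Finset.notMem_erase i S, (Finset.insert_erase hi).symm⟩
    rw [if_pos hi, Finset.erase_insert hT, Finset.filter_insert]
    by_cases hp : p i <;> simp [hp, hT, pow_succ]
  · rw [if_neg hi, Finset.filter_insert]
    by_cases hp : p i <;> simp [hp, hi, pow_succ]

/-- The regular module of the Clifford algebra. -/
def V (n : ℕ) := Finset (Fin n) → ZMod 3

instance : AddCommGroup (V n) := inferInstanceAs (AddCommGroup (Finset (Fin n) → ZMod 3))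

instance : Module (ZMod 3) (V n) := inferInstanceAs (Module (ZMod 3) (Finset (Fin n) → ZMod 3))

instance : Finite (V n) := inferInstanceAs (Finite (Finset (Fin n) → ZMod 3))

/-- Coordinates. -/
def coord (f : V n) (S : Finset (Fin n)) : ZMod 3 := f S

theorem add_coord (f g : V n) (S : Finset (Fin n)) : (f + g) S = f S + g S := rfl

theorem smul_coord (c : ZMod 3) (f : V n) (S : Finset (Fin n)) : (c • f) S = c * f S := rfl

theorem ext' {f g : V n} (h : ∀ S, f S = g S) : f = g := funext h

/-- Left multiplication by the `i`th generator of the Clifford algebra. -/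
def opL (i : Fin n) : Module.End (ZMod 3) (V n) where
  toFun f S := sg (· < i) S * f (tog i S)
  map_add' f g := ext' fun S => mul_add _ _ _
  map_smul' c f := ext' fun S => mul_left_comm _ _ _

/-- Right multiplication by the `i`th generator of the Clifford algebra. -/
def opR (i : Fin n) : Module.End (ZMod 3) (V n) where
  toFun f S := sg (i < ·) S * f (tog i S)
  map_add' f g := ext' fun S => mul_add _ _ _
  map_smul' c f := ext' fun S => mul_left_comm _ _ _

/-- The grading operator. -/
def opP : Module.End (ZMod 3) (V n) where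
  toFun f S := sg (fun _ => True) S * f S
  map_add' f g := ext' fun S => mul_add _ _ _
  map_smul' c f := ext' fun S => mul_left_comm _ _ _

theorem sg_sq (p : Fin n → Prop) [DecidablePred p] (S : Finset (Fin n)) : sg p S * sg p S = 1 := by
  simp [sg, ← pow_add, ← two_mul, pow_mul]

theorem opL_sq (i : Fin n) : opL i * opL i = 1 := by
  refine LinearMap.ext fun f => ext' fun S => ?_
  show sg (· < i) S * (sg (· < i) (tog i S) * f (tog i (tog i S))) = f S
  rw [sg_tog, tog_tog, if_neg (lt_irrefl i), one_mul, ← mul_assoc, sg_sq, one_mul]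

theorem opL_anti {i j : Fin n} (h : i ≠ j) : opL i * opL j = -(opL j * opL i) := by
  refine LinearMap.ext fun f => ext' fun S => ?_
  show sg (· < i) S * (sg (· < j) (tog i S) * f (tog j (tog i S)))
    = -(sg (· < j) S * (sg (· < i) (tog j S) * f (tog i (tog j S))))
  rw [sg_tog, sg_tog, tog_comm]
  rcases lt_or_gt_of_ne h with h | h <;> simp [h, h.not_gt] <;> ring

theorem opL_opR (i j : Fin n) : opL i * opR j = opR j * opL i := by
  refine LinearMap.ext fun f => ext' fun S => ?_
  show sg (· < i) S * (sg (j < ·) (tog i S) * f (tog j (tog i S)))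
    = sg (j < ·) S * (sg (· < i) (tog j S) * f (tog i (tog j S)))
  rw [sg_tog, sg_tog, tog_comm]
  ring

theorem opL_opP (i : Fin n) : opL i * opP = -(opP * opL i) := by
  refine LinearMap.ext fun f => ext' fun S => ?_
  show sg (· < i) S * (sg (fun _ => True) (tog i S) * f (tog i S))
    = -(sg (fun _ => True) S * (sg (· < i) S * f (tog i S)))
  rw [sg_tog]
  simp
  ring

/-- The basis vector at `S`. -/
def delta (S : Finset (Fin n)) : V n := (Pi.single S 1 : Finset (Fin n) → ZMod 3)

theorem opL_delta (i : Fin n) (S : Finset (Fin n)) :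
    opL i (delta S) = sg (· < i) (tog i S) • delta (tog i S) := by
  refine ext' fun T => ?_
  show sg (· < i) T * delta S (tog i T) = sg (· < i) (tog i S) * delta (tog i S) T
  by_cases h : T = tog i S
  · subst h; simp [delta, tog_tog]
  · have : tog i T ≠ S := fun e => h (by rw [← e, tog_tog])
    simp [delta, Pi.single_eq_of_ne h, Pi.single_eq_of_ne this]

theorem opL_injective {i j : Fin n} (h : opL i = opL j) : i = j := by
  by_contra hne
  have h1 := congrFun (congrArg (fun F : Module.End (ZMod 3) (V n) => F (delta ∅)) h) {i}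
  simp only [opL_delta, smul_coord] at h1
  have hi : tog i (∅ : Finset (Fin n)) = {i} := by simp [tog]
  have hj : tog j (∅ : Finset (Fin n)) = {j} := by simp [tog]
  simp [hi, hj, delta, sg, Finset.filter_singleton, hne] at h1

/-- An endomorphism commuting with all the operators is scalar. -/
theorem eq_smul_one (a : Module.End (ZMod 3) (V n)) (hL : ∀ i, a * opL i = opL i * a)
    (hR : ∀ i, a * opR i = opR i * a) (hP : a * opP = opP * a) :
    ∃ c : ZMod 3, a = c • (1 : Module.End (ZMod 3) (V n)) := by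
  set f : V n := a (delta ∅) with hf
  have hf0 : ∀ T : Finset (Fin n), T ≠ ∅ → f T = 0 := by
    intro T hT
    have e : opP (delta (∅ : Finset (Fin n))) = delta ∅ := by
      refine ext' fun S => ?_
      show sg (fun _ => True) S * delta ∅ S = delta ∅ S
      by_cases hS : S = ∅
      · subst hS; simp [sg]
      · simp [delta, Pi.single_eq_of_ne hS]
    have h1 : opP f = f := by
      rw [hf, ← Module.End.mul_apply, ← hP, Module.End.mul_apply, e]
    have h1' : sg (fun _ => True) T * f T = f T := congrFun h1 T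
    obtain ⟨i, hi⟩ := Finset.nonempty_iff_ne_empty.2 hT
    have e2 : opL i (delta (∅ : Finset (Fin n))) = opR i (delta ∅) := by
      refine ext' fun S => ?_
      show sg (· < i) S * delta ∅ (tog i S) = sg (i < ·) S * delta ∅ (tog i S)
      by_cases hS : tog i S = ∅
      · rw [show S = {i} by rw [← tog_tog i S, hS]; simp [tog]]
        simp [sg, Finset.filter_singleton]
      · simp [delta, Pi.single_eq_of_ne hS]
    have h2 : opL i f = opR i f := by
      rw [hf, ← Module.End.mul_apply, ← Module.End.mul_apply, ← hL, ← hR, Module.End.mul_apply,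
        Module.End.mul_apply, e2]
    have h2' : sg (· < i) (tog i T) * f (tog i (tog i T)) = sg (i < ·) (tog i T) * f (tog i (tog i T)) :=
      congrFun h2 (tog i T)
    rw [sg_tog, sg_tog, tog_tog] at h2'
    simp only [lt_irrefl, if_false, one_mul] at h2'
    have hsplit : sg (fun _ => True) T = -(sg (· < i) T * sg (i < ·) T) := by
      unfold sg
      rw [← pow_add, ← Finset.card_union_of_disjoint
        (Finset.disjoint_filter.2 fun x _ h h' => lt_asymm h h')]
      have : T.filter (· < i) ∪ T.filter (i < ·) = T.erase i := by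
        ext x
        simp only [Finset.mem_union, Finset.mem_filter, Finset.mem_erase]
        constructor
        · rintro (⟨h, h'⟩ | ⟨h, h'⟩)
          · exact ⟨h'.ne, h⟩
          · exact ⟨h'.ne', h⟩
        · rintro ⟨h, h'⟩
          exact h.lt_or_gt.imp (fun q => ⟨h', q⟩) (fun q => ⟨h', q⟩)
      rw [this, Finset.filter_true, ← Finset.card_erase_add_one hi, pow_succ]
      ring
    have key : ∀ u w : ZMod 3, u * u = 1 → w * w = 1 → ∀ x : ZMod 3,
        u * x = w * x → -(u * w) * x = x → x = 0 := by decide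
    rw [hsplit] at h1'
    exact key _ _ (sg_sq _ T) (sg_sq _ T) _ h2' h1'
  refine ⟨f ∅, ?_⟩
  have hf' : f = f ∅ • delta ∅ := by
    refine ext' fun T => ?_
    by_cases hT : T = ∅
    · subst hT; rw [smul_coord]; simp [delta]
    · rw [smul_coord]; simp [delta, Pi.single_eq_of_ne hT, hf0 T hT]
  have hall : ∀ S, a (delta S) = f ∅ • delta S := by
    intro S
    induction S using Finset.induction_on with
    | empty => exact hf'
    | insert i T hi ih =>
      have e : tog i T = insert i T := by simp [tog, hi]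
      have h := congrArg (fun F : Module.End (ZMod 3) (V n) => F (delta T)) (hL i)
      simp only [Module.End.mul_apply, opL_delta, ih, map_smul, e] at h
      rw [smul_comm] at h
      have hu : IsUnit (sg (· < i) (insert i T)) := IsUnit.of_mul_eq_one _ (sg_sq _ _)
      exact hu.smul_left_cancel.1 h
  refine LinearMap.ext fun g => ?_
  have hg : g = ∑ S, g S • delta S := by
    refine ext' fun T => ?_
    show g T = (∑ S, g S • (Pi.single S 1 : Finset (Fin n) → ZMod 3)) T
    rw [Finset.sum_apply, Finset.sum_eq_single T]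
    · simp
    · intro S _ hS
      simp [Pi.single_eq_of_ne (Ne.symm hS)]
    · simp
  rw [hg, map_sum, map_sum]
  refine Finset.sum_congr rfl fun S _ => ?_
  rw [map_smul, hall, LinearMap.smul_apply, Module.End.one_apply, smul_comm]

instance : Nontrivial (Module.End (ZMod 3) (V n)) := by
  refine ⟨⟨1, 0, fun h => ?_⟩⟩
  have h' : delta (∅ : Finset (Fin n)) ∅ = 0 :=
    congrArg (fun F : Module.End (ZMod 3) (V n) => F (delta ∅) ∅) h
  simp [delta] at h'

/-- `a` twists the generators by `σ`. -/
def Lifts (σ : Equiv.Perm (Fin n)) (a : Module.End (ZMod 3) (V n)) : Prop :=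
  (∀ i, a * opR i = opR i * a) ∧
    a * opP = ((Equiv.Perm.sign σ : ℤ) : ZMod 3) • (opP * a) ∧
    ∀ i, a * opL i = ((Equiv.Perm.sign σ : ℤ) : ZMod 3) • (opL (σ i) * a)

theorem lifts_one : Lifts (n := n) 1 1 := by
  refine ⟨fun i => by simp, by simp, fun i => by simp⟩

theorem lifts_mul {σ τ : Equiv.Perm (Fin n)} {a b : Module.End (ZMod 3) (V n)} (ha : Lifts σ a)
    (hb : Lifts τ b) : Lifts (σ * τ) (a * b) := by
  refine ⟨fun i => ?_, ?_, fun i => ?_⟩
  · rw [mul_assoc, hb.1, ← mul_assoc, ha.1, mul_assoc]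
  · rw [mul_assoc, hb.2.1, mul_smul_comm, ← mul_assoc, ha.2.1, smul_mul_assoc, smul_smul,
      mul_assoc, map_mul, Units.val_mul, Int.cast_mul, mul_comm]
  · rw [mul_assoc, hb.2.2, mul_smul_comm, ← mul_assoc, ha.2.2, smul_mul_assoc, smul_smul,
      mul_assoc, map_mul, Units.val_mul, Int.cast_mul, mul_comm, Equiv.Perm.mul_apply]

/-- `e i - e j`. -/
def dif (i j : Fin n) : Module.End (ZMod 3) (V n) := opL i - opL j

theorem dif_sq {i j : Fin n} (h : i ≠ j) : dif i j * dif i j = -1 := by
  have e : dif i j * dif i j = opL i * opL i + opL j * opL j - (opL i * opL j + opL j * opL i) := by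
    simp only [dif]; noncomm_ring
  rw [e, opL_sq, opL_sq, opL_anti h, neg_add_cancel, sub_zero]
  have h2 : (1 + 1 : ZMod 3) = -1 := by decide
  calc (1 + 1 : Module.End (ZMod 3) (V n)) = (1 + 1 : ZMod 3) • (1 : Module.End (ZMod 3) (V n)) := by
        rw [add_smul, one_smul]
    _ = -1 := by rw [h2, neg_smul, one_smul]

theorem dif_anti {i j k l : Fin n} (hik : i ≠ k) (hil : i ≠ l) (hjk : j ≠ k) (hjl : j ≠ l) :
    dif i j * dif k l = -(dif k l * dif i j) := by
  simp only [dif, mul_sub, sub_mul, opL_anti hik, opL_anti hil, opL_anti hjk, opL_anti hjl]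
  abel

theorem lifts_dif {i j : Fin n} (h : i ≠ j) : Lifts (Equiv.swap i j) (dif i j) := by
  have hs : (((Equiv.Perm.sign (Equiv.swap i j) : ℤˣ) : ℤ) : ZMod 3) = -1 := by
    simp [Equiv.Perm.sign_swap h]
  refine ⟨fun m => by simp only [dif, sub_mul, mul_sub, opL_opR], ?_, fun m => ?_⟩
  · rw [hs, neg_smul, one_smul]
    simp only [dif, sub_mul, mul_sub, opL_opP]
    abel
  rw [hs, neg_smul, one_smul]
  rcases eq_or_ne m i with rfl | hi
  · rw [Equiv.swap_apply_left]
    simp only [dif, sub_mul, mul_sub, opL_sq]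
    abel
  rcases eq_or_ne m j with rfl | hj
  · rw [Equiv.swap_apply_right]
    simp only [dif, sub_mul, mul_sub, opL_sq]
    abel
  rw [Equiv.swap_apply_of_ne_of_ne hi hj]
  simp only [dif, sub_mul, mul_sub, opL_anti (Ne.symm hi), opL_anti (Ne.symm hj)]
  abel

theorem exists_lift (σ : Equiv.Perm (Fin n)) :
    ∃ a : (Module.End (ZMod 3) (V n))ˣ, Lifts σ (a : Module.End (ZMod 3) (V n)) := by
  induction σ using Equiv.Perm.swap_induction_on with
  | one => exact ⟨1, lifts_one⟩
  | swap_mul f i j h ih =>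
    obtain ⟨a, ha⟩ := ih
    exact ⟨⟨dif i j, -dif i j, by rw [mul_neg, dif_sq h, neg_neg],
      by rw [neg_mul, dif_sq h, neg_neg]⟩ * a, lifts_mul (lifts_dif h) ha⟩

theorem lifts_unique {σ τ : Equiv.Perm (Fin n)} {a : (Module.End (ZMod 3) (V n))ˣ}
    (hσ : σ ∈ alternatingGroup (Fin n)) (hτ : τ ∈ alternatingGroup (Fin n))
    (h₁ : Lifts σ (a : Module.End (ZMod 3) (V n))) (h₂ : Lifts τ (a : Module.End (ZMod 3) (V n))) :
    σ = τ := by
  ext i
  have h := (h₁.2.2 i).symm.trans (h₂.2.2 i)
  rw [Equiv.Perm.mem_alternatingGroup.1 hσ, Equiv.Perm.mem_alternatingGroup.1 hτ] at h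
  simp only [Units.val_one, Int.cast_one, one_smul] at h
  rw [opL_injective (a.isUnit.mul_right_cancel h)]

/-- The cover. -/
def cover (n : ℕ) : Subgroup (Module.End (ZMod 3) (V n))ˣ where
  carrier := {a | ∃ σ : alternatingGroup (Fin n), Lifts σ.1 (a : Module.End (ZMod 3) (V n))}
  one_mem' := ⟨1, lifts_one⟩
  mul_mem' := fun ⟨σ, hσ⟩ ⟨τ, hτ⟩ => ⟨σ * τ, lifts_mul hσ hτ⟩
  inv_mem' := fun {a} ⟨σ, hσ⟩ => by
    obtain ⟨b, hb⟩ := exists_lift (σ.1⁻¹)
    refine ⟨σ⁻¹, ?_⟩
    have h := lifts_mul hσ hb
    rw [mul_inv_cancel] at h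
    obtain ⟨c, hc⟩ := eq_smul_one _ (fun i => by simpa using h.2.2 i) h.1 (by simpa using h.2.1)
    have hb' : (b : Module.End (ZMod 3) (V n)) = c • ((a⁻¹ : (Module.End (ZMod 3) (V n))ˣ) : Module.End (ZMod 3) (V n)) := by
      rw [← a.inv_mul_cancel_left (b : Module.End (ZMod 3) (V n)), hc, mul_smul_comm, mul_one]
    have hc0 : c ≠ 0 := by
      intro e
      rw [e, zero_smul] at hb'
      exact not_isUnit_zero (hb' ▸ b.isUnit)
    have hcc : c * c = 1 := (show ∀ c : ZMod 3, c ≠ 0 → c * c = 1 by decide) c hc0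
    have ha' : ((a⁻¹ : (Module.End (ZMod 3) (V n))ˣ) : Module.End (ZMod 3) (V n)) = c • (b : Module.End (ZMod 3) (V n)) := by
      rw [hb', smul_smul, hcc, one_smul]
    rw [ha', Subgroup.coe_inv]
    refine ⟨fun i => ?_, ?_, fun i => ?_⟩
    · rw [smul_mul_assoc, hb.1, mul_smul_comm]
    · rw [smul_mul_assoc, hb.2.1, mul_smul_comm, smul_comm]
    · rw [smul_mul_assoc, hb.2.2, mul_smul_comm, smul_comm]

/-- For every n ≥ 4 there are a finite group Γ and a central element z of Γ of order 2 lying in the commutator subgroup of Γ such that the quotient of Γ by the (normal) subgroup generated by z is isomorphic to the alternating group on n letters. -/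
theorem result (n : ℕ) (hn : 4 ≤ n) : ∃ (Γ : Type) (_ : Group Γ) (_ : Finite Γ) (z : Γ) (hz : z ∈ Subgroup.center Γ), orderOf z = 2 ∧ z ∈ commutator Γ ∧ ∃ _ : (Subgroup.zpowers z).Normal, Nonempty (Γ ⧸ Subgroup.zpowers z ≃* alternatingGroup (Fin n)) := by
  classical
  haveI : Finite (Module.End (ZMod 3) (V n)) := Finite.of_injective _ DFunLike.coe_injective
  haveI : Finite (Module.End (ZMod 3) (V n))ˣ := Finite.of_injective _ Units.val_injective
  have hne : (-1 : Module.End (ZMod 3) (V n)) ≠ 1 := by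
    intro h
    have h' : -(delta (∅ : Finset (Fin n)) ∅) = delta (∅ : Finset (Fin n)) ∅ :=
      congrArg (fun F : Module.End (ZMod 3) (V n) => F (delta ∅) ∅) h
    simp [delta] at h'
    exact absurd h' (by decide)
  have hz : Lifts (n := n) 1 (-1) := ⟨fun i => by simp, by simp, fun i => by simp⟩
  choose sec hsec using fun g : cover n => (g.2 : ∃ σ : alternatingGroup (Fin n),
    Lifts σ.1 (g.1 : Module.End (ZMod 3) (V n)))
  let π : cover n →* alternatingGroup (Fin n) :=
    MonoidHom.mk' sec fun g h => Subtype.ext (lifts_unique (a := (g * h : cover n).1)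
      (sec (g * h)).2 (sec g * sec h).2 (hsec (g * h)) (lifts_mul (hsec g) (hsec h)))
  have hπ : ∀ g : cover n, ∀ σ : alternatingGroup (Fin n),
      Lifts σ.1 (g.1 : Module.End (ZMod 3) (V n)) → π g = σ := fun g σ h =>
    Subtype.ext (lifts_unique (sec g).2 σ.2 (hsec g) h)
  let z : cover n := ⟨-1, 1, by simpa using hz⟩
  have hsurj : Function.Surjective π := fun σ => by
    obtain ⟨a, ha⟩ := exists_lift σ.1
    exact ⟨⟨a, σ, ha⟩, hπ _ σ ha⟩
  have hzc : z ∈ Subgroup.center (cover n) := Subgroup.mem_center_iff.2 fun g => by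
    refine Subtype.ext (Units.ext ?_)
    simp [z]
  have hzord : orderOf z = 2 := by
    rw [orderOf_eq_prime_iff]
    refine ⟨Subtype.ext (Units.ext (by simp [z])), fun h => hne ?_⟩
    simpa [z] using congrArg (fun g : cover n => (g.1 : Module.End (ZMod 3) (V n))) h
  -- two anticommuting lifts
  obtain ⟨i, j, k, l, hij, hik, hil, hjk, hjl, hkl⟩ : ∃ i j k l : Fin n,
      i ≠ j ∧ i ≠ k ∧ i ≠ l ∧ j ≠ k ∧ j ≠ l ∧ k ≠ l :=
    ⟨⟨0, by omega⟩, ⟨1, by omega⟩, ⟨2, by omega⟩, ⟨3, by omega⟩, by simp, by simp, by simp,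
      by simp, by simp, by simp⟩
  have mk : ∀ a b c d : Fin n, a ≠ b → c ≠ d → ∃ g : cover n,
      (g.1 : Module.End (ZMod 3) (V n)) = dif a b * dif c d := by
    intro a b c d hab hcd
    refine ⟨⟨⟨dif a b * dif c d, dif c d * dif a b, ?_, ?_⟩,
      ⟨Equiv.swap a b * Equiv.swap c d, Equiv.Perm.mem_alternatingGroup.2 (by
        simp [Equiv.Perm.sign_swap hab, Equiv.Perm.sign_swap hcd])⟩,
      lifts_mul (lifts_dif hab) (lifts_dif hcd)⟩, rfl⟩
    · rw [mul_assoc, ← mul_assoc (dif c d), dif_sq hcd]; simp [dif_sq hab]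
    · rw [mul_assoc, ← mul_assoc (dif a b), dif_sq hab]; simp [dif_sq hcd]
  obtain ⟨x, hx⟩ := mk i j k l hij hkl
  obtain ⟨y, hy⟩ := mk i k j l hik hjl
  have hxy : x * y = z * (y * x) := by
    refine Subtype.ext (Units.ext ?_)
    simp only [z, Subgroup.coe_mul, Units.val_mul, Units.val_neg, Units.val_one, hx, hy, neg_one_mul]
    have hl := lifts_mul (lifts_dif hij) (lifts_dif hkl)
    have hs : (((Equiv.Perm.sign (Equiv.swap i j * Equiv.swap k l) : ℤˣ) : ℤ) : ZMod 3) = 1 := by
      simp [Equiv.Perm.sign_swap hij, Equiv.Perm.sign_swap hkl]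
    have hm : ∀ a b : Fin n, dif i j * dif k l * dif a b =
        dif ((Equiv.swap i j * Equiv.swap k l) a) ((Equiv.swap i j * Equiv.swap k l) b) *
          (dif i j * dif k l) := by
      intro a b
      show dif i j * dif k l * (opL a - opL b) = _
      rw [mul_sub, hl.2.2, hl.2.2, hs, one_smul, one_smul, ← sub_mul]
      rfl
    rw [← mul_assoc (dif i j * dif k l), hm, mul_assoc _ _ (dif j l), hm, ← mul_assoc]
    simp only [Equiv.Perm.mul_apply, Equiv.swap_apply_def, hij, hij.symm, hik, hik.symm, hil,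
      hil.symm, hjk, hjk.symm, hjl, hjl.symm, hkl, hkl.symm, if_true, if_false]
    rw [dif_anti hij.symm hjk (Ne.symm hil) (hkl.symm)]
    simp [neg_mul]
  have hzcomm : z ∈ commutator (cover n) := by
    have hm : x * y * x⁻¹ * y⁻¹ ∈ commutator (cover n) := by
      rw [commutator_def, ← commutatorElement_def]
      exact Subgroup.commutator_mem_commutator (Subgroup.mem_top x) (Subgroup.mem_top y)
    have : x * y * x⁻¹ * y⁻¹ = z := by rw [hxy]; group
    rwa [this] at hm
  have hker : π.ker = Subgroup.zpowers z := by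
    refine le_antisymm (fun g hg => ?_) ((Subgroup.zpowers_le).2 (hπ z 1 (by simpa [z] using hz)))
    have h := hsec g
    rw [show sec g = 1 from hg] at h
    obtain ⟨c, hc⟩ := eq_smul_one _ (fun i => by simpa using h.2.2 i) h.1 (by simpa using h.2.1)
    have hc3 : c = 0 ∨ c = 1 ∨ c = -1 := (show ∀ c : ZMod 3, c = 0 ∨ c = 1 ∨ c = -1 by decide) c
    rcases hc3 with rfl | rfl | rfl
    · exact absurd (g.1.isUnit) (by rw [hc, zero_smul]; exact fun hu => hne (by
        have h0 := hu.unit.mul_inv
        rw [hu.unit_spec, zero_mul] at h0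
        rw [← h0]; simp))
    · exact (show g = 1 from Subtype.ext (Units.ext (by simp [hc]))) ▸ one_mem _
    · exact (show g = z from Subtype.ext (Units.ext (by simp [hc, z]))) ▸ Subgroup.mem_zpowers z
  haveI hnorm : (Subgroup.zpowers z).Normal := hker ▸ π.normal_ker
  exact ⟨cover n, inferInstance, inferInstance, z, hzc, hzord, hzcomm, hnorm,
    ⟨(QuotientGroup.quotientMulEquivOfEq hker.symm).trans
      (QuotientGroup.quotientKerEquivOfSurjective π hsurj)⟩⟩

end Cfsg.Agent.S0891
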