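import Cfsg.Statements.S0900
import Cfsg.Agent.Char.Clifford
import Cfsg.Agent.Char.Gen
-- import your own Cfsg.Agent.* helpers here

set_option autoImplicit false
open Cfsg

namespace Cfsg.Agent.S0900

/-- Let N be a normal subgroup of the finite group G, χ an irreducible character of G and ϑ an irreducible character of N having nonzero inner product with the restriction of χ. Consider: (a) the restriction of χ to N is e • ϑ for a natural number e with e ^ 2 equal to the index of N; (b) χ vanishes outside N and ϑ is invariant under conjugation by G; (c) ϑ is invariant and every irreducible character of G having nonzero inner product with the function induced from ϑ equals χ. Then (a) ↔ (b) and (a) ↔ (c). -/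
theorem result {G : Type*} [Group G] [Fintype G] (N : Subgroup G) [hN : N.Normal] [Fintype N] (χ : G → ℂ) (hχ : Cfsg.IsIrrCharacter G χ) (ϑ : N → ℂ) (hϑ : Cfsg.IsIrrCharacter N ϑ) (hcon : Cfsg.classInner (fun n : N => χ n) ϑ ≠ 0) : ((∃ e : ℕ, (fun n : N => χ n) = (e : ℂ) • ϑ ∧ e ^ 2 = N.index) ↔ ((∀ g : G, g ∉ N → χ g = 0) ∧ ∀ (g : G) (n : N), ϑ ⟨g * n * g⁻¹, hN.conj_mem (n : G) n.2 g⟩ = ϑ n)) ∧ ((∃ e : ℕ, (fun n : N => χ n) = (e : ℂ) • ϑ ∧ e ^ 2 = N.index) ↔ (∀ (g : G) (n : N), ϑ ⟨g * n * g⁻¹, hN.conj_mem (n : G) n.2 g⟩ = ϑ n ∧ ∀ ψ : G → ℂ, Cfsg.IsIrrCharacter G ψ → Cfsg.classInner (Cfsg.indFun N ϑ) ψ ≠ 0 → ψ = χ)) := by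
  classical
  have hϑc := Char.isClassFunction_of_isIrr hϑ
  have hinv : (∀ (g : G) (n : N), ϑ ⟨g * n * g⁻¹, hN.conj_mem (n : G) n.2 g⟩ = ϑ n) ↔
      ∀ g : G, Char.conjFun g ϑ = ϑ :=
    ⟨fun h g => funext fun n => h g n, fun h g n => congrFun (h g) n⟩
  have hcl := Char.clifford hχ hϑ hcon
  obtain ⟨e₀, he₀⟩ := Char.classInner_isCharacter_eq_natCast
    (Char.isCharacter_res N (Char.IsIrr.isCharacter hχ)) (Char.IsIrr.isCharacter hϑ)
  have hinvres : (∀ g : G, Char.conjFun g ϑ = ϑ) → (fun n : N => χ n) = (e₀ : ℂ) • ϑ := by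
    intro h
    have horb : Char.orbit ϑ = {ϑ} := by
      ext η
      simp only [Char.mem_orbit, Finset.mem_singleton]
      exact ⟨fun ⟨g, hg⟩ => hg ▸ h g, fun hη => ⟨1, by rw [hη, Char.conjFun_one]⟩⟩
    rw [horb, Finset.sum_singleton, he₀] at hcl
    exact hcl
  -- the norm of the restriction
  have hnorm : ∑ g : G, Complex.normSq (χ g) = Nat.card G := by
    have h1 := Char.classInner_irr_self hχ
    rw [classInner, inv_mul_eq_one₀ Char.card_ne_zero] at h1
    simp only [Complex.mul_conj] at h1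
    exact_mod_cast h1.symm
  have hsplit := Finset.sum_filter_add_sum_filter_not Finset.univ (fun g => g ∈ N)
    (fun g : G => Complex.normSq (χ g))
  have hres : ∀ e : ℕ, (fun n : N => χ n) = (e : ℂ) • ϑ →
      ∑ g ∈ Finset.univ.filter (fun g => g ∈ N), Complex.normSq (χ g) =
        (Nat.card N : ℝ) * (e : ℝ) ^ 2 := by
    intro e he
    rw [Finset.sum_subtype _ (fun g => Finset.mem_filter.trans (and_iff_right (Finset.mem_univ g)))
      (fun g : G => Complex.normSq (χ g))]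
    have h1 : classInner (fun n : N => χ n) (fun n : N => χ n) = ((e : ℝ) ^ 2 : ℝ) := by
      rw [he, Char.classInner_smul_left, Char.classInner_smul_right, Char.classInner_irr_self hϑ]
      simp [sq]
    rw [Char.classInner_self_eq, Complex.ofReal_inj, inv_mul_eq_iff_eq_mul₀
      (Nat.cast_ne_zero.2 Nat.card_pos.ne')] at h1
    rw [← h1]
  have hNidx : (Nat.card G : ℝ) = Nat.card N * N.index := by
    rw [← Nat.cast_mul, Subgroup.card_mul_index]
  have hvan_iff : ∀ e : ℕ, (fun n : N => χ n) = (e : ℂ) • ϑ →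
      ((∀ g : G, g ∉ N → χ g = 0) ↔ e ^ 2 = N.index) := by
    intro e he
    have h3 : (∀ g : G, g ∉ N → χ g = 0) ↔
        (∑ g ∈ Finset.univ.filter (fun g => g ∉ N), Complex.normSq (χ g)) = 0 := by
      rw [Finset.sum_eq_zero_iff_of_nonneg fun _ _ => Complex.normSq_nonneg _]
      simp [Complex.normSq_eq_zero]
    rw [hres e he, hnorm, hNidx] at hsplit
    rw [h3]
    constructor
    · intro h0
      rw [h0, add_zero] at hsplit
      exact_mod_cast mul_left_cancel₀ (Nat.cast_ne_zero.2 Nat.card_pos.ne') hsplit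
    · intro h0
      rw [← h0, Nat.cast_pow] at hsplit
      linarith
  have hA : (∃ e : ℕ, (fun n : N => χ n) = (e : ℂ) • ϑ ∧ e ^ 2 = N.index) ↔
      ((∀ g : G, g ∉ N → χ g = 0) ∧ ∀ g : G, Char.conjFun g ϑ = ϑ) := by
    constructor
    · rintro ⟨e, he, he2⟩
      refine ⟨(hvan_iff e he).2 he2, fun g => ?_⟩
      have h := Char.conjFun_res g (N := N) (Char.isClassFunction_of_isIrr hχ)
      rw [he] at h
      have he0 : (e : ℂ) ≠ 0 := fun h0 => by
        rw [Nat.cast_eq_zero] at h0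
        rw [h0] at he2
        exact N.index_ne_zero_of_finite (by simpa using he2.symm)
      funext n
      exact mul_left_cancel₀ he0 (congrFun h n)
    · rintro ⟨hv, hi⟩
      exact ⟨e₀, hinvres hi, (hvan_iff e₀ (hinvres hi)).1 hv⟩
  have hind := Char.isCharacter_indFun N (Char.IsIrr.isCharacter hϑ)
  have hfr : classInner (indFun N ϑ) χ = (e₀ : ℂ) := by
    rw [Char.classInner_indFun_left N ϑ (Char.isClassFunction_of_isIrr hχ),
      ← Char.classInner_conj_symm, he₀, Complex.conj_natCast]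
  have hdeg : indFun N ϑ 1 = (N.index : ℂ) * ϑ 1 := by
    rw [Char.indFun_apply, Finset.sum_congr rfl fun x _ => by
      rw [show x⁻¹ * 1 * x = ((1 : N) : G) by simp, Char.extendByZero_coe],
      Finset.sum_const, Finset.card_univ, ← Nat.card_eq_fintype_card, nsmul_eq_mul,
      ← Subgroup.card_mul_index N, Nat.cast_mul, mul_assoc,
      inv_mul_cancel_left₀ (Nat.cast_ne_zero.2 Nat.card_pos.ne')]
  refine ⟨hA.trans (and_congr_right' hinv.symm), ⟨?_, ?_⟩⟩
  · rintro ⟨e, he, he2⟩ g n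
    obtain ⟨hv, hi⟩ := hA.1 ⟨e, he, he2⟩
    refine ⟨congrFun (hi g) n, fun ψ hψ hne => ?_⟩
    by_contra hψχ
    have hee : e = e₀ := by
      have h1 : classInner (fun n : N => χ n) ϑ = (e : ℂ) := by
        rw [he, Char.classInner_smul_left, Char.classInner_irr_self hϑ, mul_one]
      exact_mod_cast h1.symm.trans he₀
    obtain ⟨m, hm, hmeq, -⟩ := Char.IsChar.exists_mult hind
    have hχ1 : χ 1 = (e₀ : ℂ) * ϑ 1 := congrFun (hinvres hi) 1
    have h2 := congrFun hmeq 1
    simp only [Finset.sum_apply, Pi.smul_apply, smul_eq_mul] at h2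
    choose d hd0 hd using fun φ : IrrCharacter G => Char.IsIrr.degree φ.2
    obtain ⟨t, ht0, ht⟩ := Char.IsIrr.degree hϑ
    have hmχ : m ⟨χ, hχ⟩ = e₀ := by
      exact_mod_cast (hm ⟨χ, hχ⟩).symm.trans hfr
    have hdχ : d ⟨χ, hχ⟩ = e₀ * t := by
      have h3 : (d ⟨χ, hχ⟩ : ℂ) = (e₀ : ℂ) * t := (hd ⟨χ, hχ⟩).symm.trans (ht ▸ hχ1)
      exact_mod_cast h3
    rw [hdeg, ht] at h2
    simp only [hd] at h2
    have h2' : N.index * t = ∑ φ, m φ * d φ := by exact_mod_cast h2
    have hψ0 : 0 < m ⟨ψ, hψ⟩ := Nat.pos_of_ne_zero fun h0 => hne (by rw [hm ⟨ψ, hψ⟩, h0, Nat.cast_zero])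
    have h4 := Finset.add_le_sum (f := fun φ => m φ * d φ) (fun _ _ => Nat.zero_le _)
      (Finset.mem_univ (⟨χ, hχ⟩ : IrrCharacter G)) (Finset.mem_univ (⟨ψ, hψ⟩ : IrrCharacter G))
      (fun h => hψχ (congrArg Subtype.val h).symm)
    simp only [hmχ, hdχ] at h4
    rw [← h2', ← he2, hee, sq, mul_assoc] at h4
    have := Nat.mul_pos hψ0 (hd0 ⟨ψ, hψ⟩)
    omega
  · intro h
    have hi : ∀ g : G, Char.conjFun g ϑ = ϑ := fun g => funext fun n => (h g n).1
    have honly := (h 1 1).2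
    refine ⟨e₀, hinvres hi, ?_⟩
    obtain ⟨m, hm, hmeq, -⟩ := Char.IsChar.exists_mult hind
    rw [Finset.sum_eq_single (⟨χ, hχ⟩ : IrrCharacter G)
      (fun φ _ hne => by
        rw [show m φ = 0 from by_contra fun h0 => hne (Subtype.ext (honly _ φ.2
          (by rw [hm φ]; exact Nat.cast_ne_zero.2 h0))), Nat.cast_zero, zero_smul])
      (fun h0 => absurd (Finset.mem_univ _) h0)] at hmeq
    have h2 := congrFun hmeq 1
    have hmχ : (m ⟨χ, hχ⟩ : ℂ) = e₀ := (hm ⟨χ, hχ⟩).symm.trans hfr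
    rw [hdeg, Pi.smul_apply, smul_eq_mul, hmχ] at h2
    change (N.index : ℂ) * ϑ 1 = (e₀ : ℂ) * χ 1 at h2
    have hχ1 : χ 1 = (e₀ : ℂ) * ϑ 1 := congrFun (hinvres hi) 1
    rw [hχ1, ← mul_assoc] at h2
    have h3 := mul_right_cancel₀ (Char.IsIrr.one_ne_zero hϑ) h2
    rw [sq]
    exact_mod_cast h3.symm

end Cfsg.Agent.S0900
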