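import Cfsg.Statements.S0901
import Cfsg.Agent.Blocks.Modular
import Mathlib.FieldTheory.Finite.Basic
import Mathlib.Algebra.Algebra.ZMod
import Mathlib.RingTheory.Polynomial.Cyclotomic.Basic

set_option autoImplicit false
open Cfsg

namespace Cfsg.Agent.S0901

/-- Let M be a maximal ideal of the ring of algebraic integers containing the prime p, and let U be the set of complex roots of unity of order prime to p. Then reduction modulo M is injective on U, and every algebraic integer not in M is congruent modulo M to an element of U (so U maps bijectively onto the nonzero residues). -/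
theorem result (p : ℕ) [Fact p.Prime] (M : Ideal Cfsg.AlgInt) (hM : Cfsg.IsPModular p M) : (∀ ε₁ ε₂ : Cfsg.AlgInt, (∃ m : ℕ, ¬ p ∣ m ∧ (ε₁ : ℂ) ^ m = 1) → (∃ m : ℕ, ¬ p ∣ m ∧ (ε₂ : ℂ) ^ m = 1) → ε₁ - ε₂ ∈ M → ε₁ = ε₂) ∧ (∀ a : Cfsg.AlgInt, a ∉ M → ∃ ε : Cfsg.AlgInt, (∃ m : ℕ, ¬ p ∣ m ∧ (ε : ℂ) ^ m = 1) ∧ a - ε ∈ M) := by
  constructor
  · rintro ε₁ ε₂ ⟨m, hm, h1⟩ ⟨n, hn, h2⟩ h
    have hp : p.Prime := hM.1
    refine Agent.Blocks.eq_of_sub_mem_of_pow_eq_one hM (m := m * n)
      (fun hd => (hp.dvd_mul.1 hd).elim hm hn) ?_ ?_ h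
    · apply Subtype.ext; push_cast; rw [pow_mul, h1, one_pow]
    · apply Subtype.ext; push_cast; rw [mul_comm, pow_mul, h2, one_pow]
  · intro a ha
    have := hM.2.1
    let _ := Ideal.Quotient.field M
    have := Agent.Blocks.charP_residueField hM
    let _ : Algebra (ZMod p) (Cfsg.AlgInt ⧸ M) := ZMod.algebra _ p
    set x := Ideal.Quotient.mk M a with hx
    have hx0 : x ≠ 0 := mt Ideal.Quotient.eq_zero_iff_mem.1 ha
    have hint : IsIntegral ℤ x := by
      have h1 : IsIntegral ℤ a := (isIntegral_algebraMap_iff (B := ℂ)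
        (by exact Subtype.coe_injective)).1 a.2
      exact h1.map (Ideal.Quotient.mkₐ ℤ M)
    have hint' : IsIntegral (ZMod p) x := hint.tower_top
    have : Module.Finite (ZMod p) (Algebra.adjoin (ZMod p) {x}) :=
      Algebra.finite_adjoin_simple_of_isIntegral hint'
    have : Finite (Algebra.adjoin (ZMod p) {x}) := Module.finite_of_finite (ZMod p)
    obtain ⟨m, hm, hxm⟩ : ∃ m : ℕ, ¬ p ∣ m ∧ x ^ m = 1 := by
      have hfo : IsOfFinOrder x := by
        obtain ⟨i, j, hne, hij⟩ := Finite.exists_ne_map_eq_of_infinite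
          fun n : ℕ => (⟨x, Algebra.self_mem_adjoin_singleton _ _⟩ :
            Algebra.adjoin (ZMod p) {x}) ^ n
        have e : x ^ i = x ^ j := by simpa using congrArg Subtype.val hij
        have key : ∀ i j : ℕ, i < j → x ^ i = x ^ j → IsOfFinOrder x := fun i j hlt e =>
          isOfFinOrder_iff_pow_eq_one.2 ⟨j - i, by omega, by
            rw [show j = i + (j - i) by omega, pow_add] at e
            exact (mul_eq_left₀ (pow_ne_zero i hx0)).1 e.symm⟩
        rcases lt_or_gt_of_ne hne with h | h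
        · exact key i j h e
        · exact key j i h e.symm
      refine ⟨orderOf x, fun ⟨c, hc⟩ => ?_, pow_orderOf_eq_one x⟩
      have h1 : (x ^ c) ^ p = 1 := by rw [← pow_mul, mul_comm, ← hc, pow_orderOf_eq_one]
      have h2 : x ^ c = 1 := frobenius_inj _ p (by simpa [frobenius_def] using h1)
      have hp2 := hM.1.two_le
      have hpos := hfo.orderOf_pos
      rcases Nat.eq_zero_or_pos c with h0 | h0
      · simp [hc, h0] at hpos
      · have := Nat.le_of_dvd h0 (orderOf_dvd_of_pow_eq_one h2)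
        nlinarith
    have hm0 : m ≠ 0 := fun e => hm (e ▸ dvd_zero p)
    have hz := Complex.isPrimitiveRoot_exp m hm0
    let ζ : Cfsg.AlgInt := ⟨_, Agent.Blocks.isIntegral_of_pow_eq_one (Nat.pos_of_ne_zero hm0) hz.pow_eq_one⟩
    have hζ : IsPrimitiveRoot ζ m := IsPrimitiveRoot.of_map_of_injective (f := Cfsg.AlgInt.val) hz
      Subtype.coe_injective
    have hroots := Polynomial.X_pow_sub_one_eq_prod (Nat.pos_of_ne_zero hm0) hζ
    have := congrArg (Polynomial.eval₂ (Ideal.Quotient.mk M) x) hroots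
    simp only [Polynomial.eval₂_sub, Polynomial.eval₂_X_pow, Polynomial.eval₂_one,
      Polynomial.eval₂_finsetProd, Polynomial.eval₂_X, Polynomial.eval₂_C] at this
    rw [hxm, sub_self, eq_comm, Finset.prod_eq_zero_iff] at this
    obtain ⟨ε, hε, he⟩ := this
    refine ⟨ε, ⟨m, hm, ?_⟩, ?_⟩
    · have h2 := (Polynomial.mem_nthRootsFinset (Nat.pos_of_ne_zero hm0) 1).1 hε
      simpa using congrArg Subtype.val h2
    · rw [← Ideal.Quotient.eq_zero_iff_mem, map_sub]; exact he

end Cfsg.Agent.S0901
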