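import Cfsg.Agent.BlockThms.BrauerMap
import Cfsg.Agent.Char.Induced
import Cfsg.Statements.S0903

set_option autoImplicit false
open Cfsg Cfsg.Agent.BlockThms Cfsg.Agent.Char

namespace Cfsg.Agent.S0903

/-- Let P be a p-subgroup of the finite group G, let c centralize P and let g, h ∈ G. The number of pairs (x, y) with x conjugate to g, y conjugate to h and x * y = c is congruent modulo p to the number of such pairs in which x and y both centralize P. (This is why the Brauer map on class sums is multiplicative.) -/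
theorem result {G : Type*} [Group G] [Finite G] (p : ℕ) [Fact p.Prime] (P : Subgroup G) (hP : IsPGroup p P) (c : G) (hc : c ∈ Subgroup.centralizer (P : Set G)) (g h : G) : Nat.card {xy : G × G // IsConj g xy.1 ∧ IsConj h xy.2 ∧ xy.1 * xy.2 = c} ≡ Nat.card {xy : G × G // IsConj g xy.1 ∧ IsConj h xy.2 ∧ xy.1 * xy.2 = c ∧ xy.1 ∈ Subgroup.centralizer (P : Set G) ∧ xy.2 ∈ Subgroup.centralizer (P : Set G)} [MOD p] := by
  classical
  have := Fintype.ofFinite G
  have hz := isClass_classInd (G := G)
  have e1 : Nat.card {xy : G × G // IsConj g xy.1 ∧ IsConj h xy.2 ∧ xy.1 * xy.2 = c} =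
      Nat.card {a : G // IsConj g a ∧ IsConj h (a⁻¹ * c)} :=
    Nat.card_congr
      { toFun := fun s => ⟨s.1.1, s.2.1, by rw [inv_mul_eq_iff_eq_mul.2 s.2.2.2.symm]; exact s.2.2.1⟩
        invFun := fun a => ⟨(a.1, a.1⁻¹ * c), a.2.1, a.2.2, mul_inv_cancel_left _ _⟩
        left_inv := fun s => Subtype.ext (Prod.ext rfl (inv_mul_eq_iff_eq_mul.2 s.2.2.2.symm))
        right_inv := fun a => rfl }
  have e2 : Nat.card {xy : G × G // IsConj g xy.1 ∧ IsConj h xy.2 ∧ xy.1 * xy.2 = c ∧
        xy.1 ∈ Subgroup.centralizer (P : Set G) ∧ xy.2 ∈ Subgroup.centralizer (P : Set G)} =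
      Nat.card {a : G // a ∈ Subgroup.centralizer (P : Set G) ∧ IsConj g a ∧ IsConj h (a⁻¹ * c)} :=
    Nat.card_congr
      { toFun := fun s => ⟨s.1.1, s.2.2.2.2.1, s.2.1,
          by rw [inv_mul_eq_iff_eq_mul.2 s.2.2.2.1.symm]; exact s.2.2.1⟩
        invFun := fun a => ⟨(a.1, a.1⁻¹ * c), a.2.2.1, a.2.2.2, mul_inv_cancel_left _ _, a.2.1,
          mul_mem (inv_mem a.2.1) hc⟩
        left_inv := fun s => Subtype.ext (Prod.ext rfl (inv_mul_eq_iff_eq_mul.2 s.2.2.2.1.symm))
        right_inv := fun a => rfl }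
  have key := conv_congr p hP (hz g) (hz h) hc
  rw [e1, e2, ← ZMod.natCast_eq_natCast_iff]
  simp only [Nat.card_eq_fintype_card, Fintype.card_subtype, Finset.card_filter, Nat.cast_sum]
  rw [Finset.sum_filter] at key
  convert key using 1
  · rw [conv]; push_cast
    refine Finset.sum_congr rfl fun a _ => ?_
    unfold classInd; split_ifs <;> first | (exfalso; tauto) | simp
  · refine Finset.sum_congr rfl fun a _ => ?_
    unfold classInd; split_ifs <;> first | (exfalso; tauto) | simp

end Cfsg.Agent.S0903
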