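import Mathlib
import Cfsg.Agent.Core.PCore
import Cfsg.Statements.S0905

set_option autoImplicit false
open Cfsg

namespace Cfsg.Agent.S0905

variable {G : Type*} [Group G] [Finite G] (p : ℕ) [Fact p.Prime]

/-- `K` shifts the series of subgroups fixed modulo the previous one by `Q`. -/
theorem key (Q : Subgroup G) [Q.Normal] (hQ : IsPGroup p Q) (S : Finset G)
    (hS : ∀ q ∈ Q, ∀ x ∈ S, q * x * q⁻¹ ∈ S)
    (hfix : ∀ x ∈ S, x ∉ Subgroup.centralizer (Q : Set G)) :
    IsNilpotent (∑ x ∈ S, MonoidAlgebra.single x (1 : ZMod p)) := by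
  classical
  let V := MonoidAlgebra (ZMod p) G
  have : Fintype G := Fintype.ofFinite G
  have : Finite V := Finite.of_injective (fun v : V => fun g => v.coeff g)
    (fun a b h => MonoidAlgebra.ext (Finsupp.ext fun g => congrFun h g))
  let of : G → V := fun g => MonoidAlgebra.single g 1
  have of_mul : ∀ a b : G, of (a * b) = of a * of b := fun a b => by
    simp only [of]; rw [MonoidAlgebra.single_mul_single, one_mul]
  have of_one : of 1 = 1 := rfl
  have pzero : ∀ v : V, p • v = 0 := fun v => by
    rw [← Nat.cast_smul_eq_nsmul (ZMod p), ZMod.natCast_self, zero_smul]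
  let Ginv : AddSubgroup V → Prop := fun W => ∀ (g : G), ∀ v ∈ W, of g * v ∈ W
  let step : AddSubgroup V → AddSubgroup V := fun W =>
    { carrier := {v | ∀ q ∈ Q, of q * v - v ∈ W}
      zero_mem' := fun q _ => by simp [W.zero_mem]
      add_mem' := fun {a b} ha hb q hq => by
        have := W.add_mem (ha q hq) (hb q hq)
        rwa [show of q * (a + b) - (a + b) = (of q * a - a) + (of q * b - b) by rw [mul_add]; abel]
      neg_mem' := fun {a} ha q hq => by
        have := W.neg_mem (ha q hq)
        rwa [show of q * -a - -a = -(of q * a - a) by rw [mul_neg]; abel] }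
  have step_inv : ∀ W, Ginv W → Ginv (step W) := by
    intro W hW g v hv q hq
    have h1 := hW g _ (hv (g⁻¹ * q * g) (by
      have := Subgroup.Normal.conj_mem (inferInstance : Q.Normal) q hq g⁻¹
      rwa [inv_inv] at this))
    rwa [mul_sub, ← mul_assoc, ← of_mul, show g * (g⁻¹ * q * g) = q * g by group, of_mul,
      mul_assoc] at h1
  have step_le : ∀ W, Ginv W → W ≤ step W := fun W hW v hv q _ => W.sub_mem (hW q v hv) hv
  have step_lt : ∀ W, Ginv W → W ≠ ⊤ → W < step W := by
    intro W hW hne
    refine lt_of_le_of_ne (step_le W hW) fun heq => ?_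
    letI : MulAction Q (V ⧸ W) :=
      { smul := fun q => QuotientAddGroup.map W W (AddMonoidHom.mulLeft (of q)) (fun v hv => hW q v hv)
        one_smul := fun x => by
          induction x using QuotientAddGroup.induction_on with | _ v => ?_
          show ((of ((1 : Q) : G) * v : V) : V ⧸ W) = v
          rw [Subgroup.coe_one, of_one, one_mul]
        mul_smul := fun q r x => by
          induction x using QuotientAddGroup.induction_on with | _ v => ?_
          show ((of ((q * r : Q) : G) * v : V) : V ⧸ W) = ((of (q : G) * (of (r : G) * v) : V) : V ⧸ W)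
          rw [Subgroup.coe_mul, of_mul, mul_assoc] }
    have h0 : (0 : V ⧸ W) ∈ MulAction.fixedPoints Q (V ⧸ W) := fun q =>
      (QuotientAddGroup.map W W (AddMonoidHom.mulLeft (of (q : G))) (fun v hv => hW q v hv)).map_zero
    have hdvd : p ∣ Nat.card (V ⧸ W) := by
      obtain ⟨v, hv⟩ : ∃ v : V, v ∉ W := by
        by_contra! hall
        exact hne (eq_top_iff.2 fun v _ => hall v)
      have hv0 : (v : V ⧸ W) ≠ 0 := fun h => hv ((QuotientAddGroup.eq_zero_iff v).1 h)
      have := addOrderOf_dvd_natCard (v : V ⧸ W)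
      rwa [addOrderOf_eq_prime (by rw [← QuotientAddGroup.mk_nsmul, pzero]; rfl) hv0] at this
    obtain ⟨b, hb, hb0⟩ := hQ.exists_fixed_point_of_prime_dvd_card_of_fixed_point (α := V ⧸ W) hdvd h0
    induction b using QuotientAddGroup.induction_on with | _ v => ?_
    have hv : v ∈ step W := fun q hq => by
      have h1 : ((of q * v : V) : V ⧸ W) = v := hb ⟨q, hq⟩
      rwa [QuotientAddGroup.eq_iff_sub_mem] at h1
    rw [← heq] at hv
    exact hb0 ((QuotientAddGroup.eq_zero_iff v).2 hv).symm
  set K : V := ∑ x ∈ S, MonoidAlgebra.single x (1 : ZMod p) with hK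
  have ann : ∀ W, Ginv W → ∀ v ∈ step W, K * v ∈ W := by
    intro W hW v hv
    rw [← QuotientAddGroup.eq_zero_iff, hK, Finset.sum_mul]
    rw [show ((∑ x ∈ S, MonoidAlgebra.single x (1 : ZMod p) * v : V) : V ⧸ W) =
      ∑ x ∈ S, ((of x * v : V) : V ⧸ W) from map_sum (QuotientAddGroup.mk' W) _ _]
    have hinv : ∀ q ∈ Q, ∀ x : G, ((of (q * x * q⁻¹) * v : V) : V ⧸ W) = (of x * v : V) := by
      intro q hq x
      have h1 : ((of (q * x * q⁻¹) * v : V) : V ⧸ W) = (of (q * x) * v : V) := by
        rw [QuotientAddGroup.eq_iff_sub_mem, of_mul (q * x), mul_assoc, ← mul_sub]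
        exact hW _ _ (hv _ (inv_mem hq))
      have h2 : ((of (q * x) * v : V) : V ⧸ W) = (of x * v : V) := by
        rw [QuotientAddGroup.eq_iff_sub_mem]
        have := hW x _ (hv (x⁻¹ * q * x) (by
          have := Subgroup.Normal.conj_mem (inferInstance : Q.Normal) q hq x⁻¹
          rwa [inv_inv] at this))
        rwa [mul_sub, ← mul_assoc, ← of_mul, show x * (x⁻¹ * q * x) = q * x by group] at this
      rw [h1, h2]
    rw [← Finset.sum_fiberwise_of_maps_to (fun x hx => Finset.mem_image_of_mem
      (fun x => ((of x * v : V) : V ⧸ W)) hx)]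
    refine Finset.sum_eq_zero fun c _ => ?_
    rw [Finset.sum_congr rfl fun x hx => (Finset.mem_filter.1 hx).2, Finset.sum_const]
    set T := S.filter (fun x => ((of x * v : V) : V ⧸ W) = c) with hT
    letI : MulAction Q T :=
      { smul := fun q x => ⟨(q : G) * x.1 * (q : G)⁻¹, by
          have hx := Finset.mem_filter.1 x.2
          exact Finset.mem_filter.2 ⟨hS q q.2 _ hx.1, (hinv q q.2 _).trans hx.2⟩⟩
        one_smul := fun x => Subtype.ext (show (1 : G) * x.1 * (1 : G)⁻¹ = x.1 by simp)
        mul_smul := fun q r x => Subtype.ext (show ((q : G) * r) * x.1 * ((q : G) * r)⁻¹ =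
          (q : G) * ((r : G) * x.1 * (r : G)⁻¹) * (q : G)⁻¹ by group) }
    have hcard := hQ.card_modEq_card_fixedPoints T
    have hempty : IsEmpty (MulAction.fixedPoints Q T) := ⟨fun x => hfix x.1.1
      (Finset.mem_filter.1 x.1.2).1 (Subgroup.mem_centralizer_iff.2 fun q hq =>
        mul_inv_eq_iff_eq_mul.1 (congrArg Subtype.val (x.2 ⟨q, hq⟩)))⟩
    rw [Nat.card_of_isEmpty (α := MulAction.fixedPoints Q T), Nat.card_eq_fintype_card, Fintype.card_coe,
      Nat.modEq_zero_iff_dvd] at hcard
    obtain ⟨e, he⟩ := hcard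
    rw [he, mul_comm, mul_nsmul']
    have : ∀ c : V ⧸ W, p • c = 0 := fun c => by
      induction c using QuotientAddGroup.induction_on with | _ w => ?_
      rw [← QuotientAddGroup.mk_nsmul, pzero, QuotientAddGroup.mk_zero]
    rw [this, smul_zero]
  let W : ℕ → AddSubgroup V := fun i => step^[i] ⊥
  have hWinv : ∀ i, Ginv (W i) := by
    intro i
    induction i with
    | zero =>
      intro g v hv
      simp only [W, Function.iterate_zero, id_eq, AddSubgroup.mem_bot] at hv ⊢
      rw [hv, mul_zero]
    | succ i ih => simp only [W, Function.iterate_succ', Function.comp]; exact step_inv _ ih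
  have hWsucc : ∀ i, W (i + 1) = step (W i) := fun i => Function.iterate_succ_apply' _ _ _
  obtain ⟨n, hn⟩ : ∃ n, W n = ⊤ := by
    by_contra! hall
    have hmono : StrictMono W := strictMono_nat_of_lt_succ fun i => by
      rw [hWsucc]; exact step_lt _ (hWinv i) (hall i)
    exact not_injective_infinite_finite W hmono.injective
  refine ⟨n, ?_⟩
  have hpow : ∀ j, j ≤ n → K ^ j ∈ W (n - j) := by
    intro j
    induction j with
    | zero => intro _; rw [Nat.sub_zero, hn]; trivial
    | succ j ih =>
      intro hj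
      have h1 := ih (by omega)
      rw [show n - j = (n - (j + 1)) + 1 by omega, hWsucc] at h1
      rw [pow_succ']
      exact ann _ (hWinv _) _ h1
  have := hpow n le_rfl
  simpa [W] using this


/-- Let F be a field of characteristic p and let g be an element of the finite group G no conjugate of which centralizes O_p(G). Then the class sum of g is a nilpotent element of the group algebra F[G]. -/
theorem result {G : Type*} [Group G] [Finite G] (p : ℕ) [Fact p.Prime] (F : Type*) [Field F] [CharP F p] (g : G) (hg : ∀ x : G, IsConj g x → x ∉ Subgroup.centralizer (Cfsg.pCore p G : Set G)) : IsNilpotent (∑ᶠ x ∈ ConjClasses.carrier (ConjClasses.mk g), MonoidAlgebra.single x (1 : F) : MonoidAlgebra F G) := by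
  classical
  have := Fintype.ofFinite G
  have hQ : IsPGroup p (Cfsg.pCore p G) := Cfsg.Agent.Core.pCore_isPGroup
  haveI : (Cfsg.pCore p G).Normal := inferInstance
  have h := key p (Cfsg.pCore p G) hQ (Finset.univ.filter (IsConj g))
    (fun q _ x hx => Finset.mem_filter.2 ⟨Finset.mem_univ _,
      (Finset.mem_filter.1 hx).2.trans (isConj_iff.2 ⟨q, rfl⟩)⟩)
    (fun x hx => hg x (Finset.mem_filter.1 hx).2)
  have h' := h.map (MonoidAlgebra.mapRingHom G (ZMod.castHom dvd_rfl F))
  rw [map_sum] at h'
  convert h' using 1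
  rw [finsum_mem_eq_toFinset_sum]
  refine Finset.sum_congr ?_ fun x _ => ?_
  · ext x
    simp only [Set.mem_toFinset, ConjClasses.mem_carrier_iff_mk_eq, ConjClasses.mk_eq_mk_iff_isConj,
      Finset.mem_filter, Finset.mem_univ, true_and]
    exact isConj_comm
  · rw [MonoidAlgebra.mapRingHom_single, map_one]

end Cfsg.Agent.S0905
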