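import Mathlib
import Cfsg.Agent.BlockThms.DefectCor
import Cfsg.Statements.S0911

set_option autoImplicit false
open Cfsg

namespace Cfsg.Agent.S0911

/-- The min–max Theorem for defect classes. Let B be a block of the finite group G relative to a maximal ideal M of the algebraic integers containing the prime p, let g represent a defect class of B and let D be a Sylow p-subgroup of the centralizer of g (viewed in G). For any h: (a) if the idempotent coefficient of B at h is a local integer outside the local ideal, then some conjugate of D contains a Sylow p-subgroup of the centralizer of h; (b) if the central character of some member of B at h is outside the local ideal, then some conjugate of D is contained in a Sylow p-subgroup of the centralizer of h. -/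
theorem result {G : Type*} [Group G] [Finite G] (p : ℕ) [Fact p.Prime] (M : Ideal Cfsg.AlgInt) (hM : Cfsg.IsPModular p M) (B : Set (Cfsg.IrrCharacter G)) (hB : Cfsg.IsPBlock M B) (g : G) (hg : Cfsg.IsDefectClass M B g) (D : Sylow p (Subgroup.centralizer ({g} : Set G))) (h : G) : (Cfsg.MemLocalRing M (Cfsg.blockCoeff B h) → ¬ Cfsg.MemLocalIdeal M (Cfsg.blockCoeff B h) → ∃ (x : G) (Q : Sylow p (Subgroup.centralizer ({h} : Set G))), (Q : Subgroup (Subgroup.centralizer ({h} : Set G))).map (Subgroup.centralizer ({h} : Set G)).subtype ≤ ((D : Subgroup (Subgroup.centralizer ({g} : Set G))).map (Subgroup.centralizer ({g} : Set G)).subtype).map (MulAut.conj x).toMonoidHom) ∧ ((∃ χ ∈ B, ¬ Cfsg.MemLocalIdeal M (Cfsg.centralChar (χ : G → ℂ) h)) → ∃ (x : G) (Q : Sylow p (Subgroup.centralizer ({h} : Set G))), ((D : Subgroup (Subgroup.centralizer ({g} : Set G))).map (Subgroup.centralizer ({g} : Set G)).subtype).map (MulAut.conj x).toMonoidHom ≤ (Q : Subgroup (Subgroup.centralizer ({h} : Set G))).map (Subgroup.centralizer ({h} : Set G)).subtype) :=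 by
  have := Fintype.ofFinite G
  set D' := (D : Subgroup (Subgroup.centralizer ({g} : Set G))).map
    (Subgroup.centralizer ({g} : Set G)).subtype with hD'
  have hD : DefectThms.IsSylC p g D' := DefectThms.isSylC_iff.2 ⟨D, rfl⟩
  refine ⟨fun _ hu => ?_, fun hx => ?_⟩
  · obtain ⟨S, hS⟩ := DefectThms.exists_isSylC p h
    obtain ⟨k, hk⟩ := DefectThms.exists_conj_le_of_unit_coeff hM hB hg hD hu hS
    obtain ⟨Q, rfl⟩ := DefectThms.isSylC_iff.1 hS
    refine ⟨k⁻¹, Q, fun s hs => ?_⟩
    refine ⟨k * s * k⁻¹, hk ⟨s, hs, rfl⟩, ?_⟩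
    simp only [MulEquiv.coe_toMonoidHom, MulAut.conj_apply]
    group
  · obtain ⟨χ, hχ, hu⟩ := hx
    obtain ⟨k, S, hS, hk⟩ := DefectThms.exists_le_isSylC_of_unit hM hB hg hD hχ hu
    obtain ⟨Q, rfl⟩ := DefectThms.isSylC_iff.1 hS
    exact ⟨k, Q, hk⟩

end Cfsg.Agent.S0911
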