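import Cfsg.Statements.S0925
import Cfsg.Agent.Blocks.WeakOrth

set_option autoImplicit false
open Cfsg

namespace Cfsg.Agent.S0925

/-- (i) Let ϑ be a class function on the finite group G and x a p-element, and suppose ϑ vanishes at every element whose p-part is conjugate to x. Then for every block B (relative to a maximal ideal M of the algebraic integers containing p) the B-part of ϑ — the sum over χ ∈ B of the inner product of ϑ with χ, times χ — also vanishes at every such element. (ii) Block orthogonality, its corollary: if the p-parts of g and h are not conjugate, then the sum over χ ∈ B of χ g * χ h⁻¹ is zero for every block B. -/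
theorem result {G : Type*} [Group G] [Finite G] (p : ℕ) [Fact p.Prime] (M : Ideal Cfsg.AlgInt) (hM : Cfsg.IsPModular p M) : (∀ (ϑ : G → ℂ), Cfsg.IsClassFunction G ϑ → ∀ x : G, (∃ k : ℕ, orderOf x = p ^ k) → (∀ u z : G, Cfsg.IsPPart p u z → IsConj x z → ϑ u = 0) → ∀ B : Set (Cfsg.IrrCharacter G), Cfsg.IsPBlock M B → ∀ u z : G, Cfsg.IsPPart p u z → IsConj x z → Cfsg.blockPart B ϑ u = 0) ∧ (∀ g h x y : G, Cfsg.IsPPart p g x → Cfsg.IsPPart p h y → ¬ IsConj x y → ∀ B : Set (Cfsg.IrrCharacter G), Cfsg.IsPBlock M B → ∑ᶠ χ ∈ B, (χ : G → ℂ) g * (χ : G → ℂ) h⁻¹ = 0) := by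
  classical
  have := Fintype.ofFinite G
  have hp : p.Prime := Fact.out
  have hinv : ∀ g : G, Blocks.pPartOf p g⁻¹ = (Blocks.pPartOf p g)⁻¹ := fun g => by
    rw [Blocks.pPartOf, Blocks.pPartOf, orderOf_inv, inv_pow]
  refine ⟨fun ϑ _ x _ hvan B hB u z huz hxz => ?_, fun g h x y hgx hhy hxy B hB => ?_⟩
  · have e : ∀ w : G, ϑ w * ∑ᶠ χ ∈ B, (χ : G → ℂ) u * (χ : G → ℂ) w⁻¹ = 0 := by
      intro w
      by_cases h : IsConj (Blocks.pPartOf p u) (Blocks.pPartOf p w⁻¹)⁻¹
      · rw [hvan w (Blocks.pPartOf p w) (Blocks.isPPart_pPartOf hp w) (hxz.trans ?_), zero_mul]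
        rw [hinv, inv_inv] at h
        rwa [Blocks.eq_pPartOf hp u huz]
      · rw [Blocks.block_orthogonality hM hB _ _ h, mul_zero]
    have e' : Cfsg.blockPart B ϑ u =
        (Nat.card G : ℂ)⁻¹ * ∑ w, ϑ w * ∑ᶠ χ ∈ B, (χ : G → ℂ) u * (χ : G → ℂ) w⁻¹ := by
      simp only [Cfsg.blockPart, finsum_mem_eq_finite_toFinset_sum _ (Set.toFinite B),
        Cfsg.classInner, Finset.mul_sum, Finset.sum_mul]
      rw [Finset.sum_comm]
      refine Finset.sum_congr (by ext; simp) fun w _ => Finset.sum_congr rfl fun χ _ => ?_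
      rw [Char.IsChar.inv_eq_conj (Char.IsIrr.isCharacter χ.2)]
      ring
    rw [e', Finset.sum_eq_zero fun w _ => e w, mul_zero]
  · refine Blocks.block_orthogonality hM hB g h⁻¹ ?_
    rwa [hinv, inv_inv, ← Blocks.eq_pPartOf hp g hgx, ← Blocks.eq_pPartOf hp h hhy]

end Cfsg.Agent.S0925
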