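import Cfsg.Statements.S0926
import Cfsg.Agent.Blocks.SectionVanish

set_option autoImplicit false
open Cfsg

namespace Cfsg.Agent.S0926

/-- Let B be a block of the finite group G with defect group D (relative to a maximal ideal M of the algebraic integers containing p), let χ ∈ B have height zero, and let x be a p-element. Then some conjugate of x lies in D if and only if χ does not vanish on the whole p-section of x (the elements whose p-part is conjugate to x). -/
theorem result {G : Type*} [Group G] [Finite G] (p : ℕ) [Fact p.Prime] (M : Ideal Cfsg.AlgInt) (hM : Cfsg.IsPModular p M) (B : Set (Cfsg.IrrCharacter G)) (hB : Cfsg.IsPBlock M B) (D : Subgroup G) (hD : Cfsg.IsDefectGroup p M B D) (χ : Cfsg.IrrCharacter G) (hχ : χ ∈ B) (h0 : Cfsg.blockHeight p B (χ : G → ℂ) = 0) (x : G) (hx : ∃ k : ℕ, orderOf x = p ^ k) : (∃ g : G, g * x * g⁻¹ ∈ D) ↔ ∃ u : G, (∃ z : G, Cfsg.IsPPart p u z ∧ IsConj x z) ∧ (χ : G → ℂ) u ≠ 0 := by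
  classical
  have := Fintype.ofFinite G
  constructor
  · rintro ⟨k, hk⟩
    obtain ⟨y, hy, hyD⟩ := DefectThms.isDefectGroup_iff.1 hD
    have hw : ∃ e, orderOf (k * x * k⁻¹) = p ^ e := by
      rwa [Blocks.orderOf_conj']
    have hc : Commute (k * x * k⁻¹) y := Subgroup.mem_centralizer_singleton_iff.1 (hyD.1 hk)
    have hreg := (BlockChar.factorization_centralizer_eq hM hB hy).2
    refine ⟨k * x * k⁻¹ * y, ⟨k * x * k⁻¹, ⟨y, rfl, hc, hw, hreg⟩, isConj_iff.2 ⟨k, rfl⟩⟩,
      fun h => Blocks.not_memLocalIdeal_char_mul hM hB hy hw hc hχ h0 ?_⟩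
    rw [h]; exact Blocks.memLocalIdeal_zero hM
  · rintro ⟨u, ⟨z, hz, hxz⟩, hne⟩
    by_contra! hall
    refine hne (Blocks.eq_zero_of_pPart_notMem hM hB hD hχ fun k hk => ?_)
    rw [← Blocks.eq_pPartOf hM.1 u hz] at hk
    obtain ⟨c, rfl⟩ := isConj_iff.1 hxz
    refine hall (k * c) ?_
    rwa [show k * c * x * (k * c)⁻¹ = k * (c * x * c⁻¹) * k⁻¹ by group]

end Cfsg.Agent.S0926
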