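import Cfsg.Statements.S0927
import Cfsg.Agent.Blocks.SectionVanish

set_option autoImplicit false
open Cfsg

namespace Cfsg.Agent.S0927

/-- Let B be a block of the finite group G relative to a maximal ideal M of the algebraic integers containing p, let y represent a defect class of B and let P be a Sylow p-subgroup of the centralizer of y. (a) If x ∈ P and χ ∈ B has height zero, then χ (x * y) is not in the local ideal at M. (b) If x lies in the centre of P, then for every χ ∈ B the central character of χ at x * y is not in the local ideal at M. -/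
theorem result {G : Type*} [Group G] [Finite G] (p : ℕ) [Fact p.Prime] (M : Ideal Cfsg.AlgInt) (hM : Cfsg.IsPModular p M) (B : Set (Cfsg.IrrCharacter G)) (hB : Cfsg.IsPBlock M B) (y : G) (hy : Cfsg.IsDefectClass M B y) (P : Sylow p (Subgroup.centralizer ({y} : Set G))) (x : Subgroup.centralizer ({y} : Set G)) (hx : x ∈ (P : Subgroup (Subgroup.centralizer ({y} : Set G)))) : (∀ χ ∈ B, Cfsg.blockHeight p B (χ : G → ℂ) = 0 → ¬ Cfsg.MemLocalIdeal M ((χ : G → ℂ) ((x : G) * y))) ∧ ((∀ w ∈ (P : Subgroup (Subgroup.centralizer ({y} : Set G))), x * w = w * x) → ∀ χ ∈ B, ¬ Cfsg.MemLocalIdeal M (Cfsg.centralChar (χ : G → ℂ) ((x : G) * y))) := by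
  classical
  have := Fintype.ofFinite G
  obtain ⟨e, he⟩ : ∃ e, orderOf (x : G) = p ^ e := by
    obtain ⟨e, he⟩ := (IsPGroup.iff_orderOf.1 P.2) ⟨x, hx⟩
    exact ⟨e, by rwa [Subgroup.orderOf_coe, ← Subgroup.orderOf_mk x hx]⟩
  have hxy : Commute (x : G) y := Subgroup.mem_centralizer_singleton_iff.1 x.2
  obtain ⟨hv, hreg⟩ := BlockChar.factorization_centralizer_eq hM hB hy
  refine ⟨fun χ hχ h0 => Blocks.not_memLocalIdeal_char_mul hM hB hy ⟨e, he⟩ hxy hχ h0,
    fun hcen χ hχ h => ?_⟩
  obtain ⟨hpart, hppart⟩ := Blocks.parts_mul hM.1 hxy ⟨e, he⟩ hreg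
  set R : Subgroup G :=
    (P : Subgroup (Subgroup.centralizer ({y} : Set G))).map (Subgroup.centralizer ({y} : Set G)).subtype
  have hRle : R ≤ Subgroup.centralizer ({(x : G) * y} : Set G) := by
    rintro _ ⟨w, hw, rfl⟩
    refine Subgroup.mem_centralizer_singleton_iff.2 ?_
    have h1 : (w : G) * y = y * (w : G) := Subgroup.mem_centralizer_singleton_iff.1 w.2
    have h2 : (x : G) * (w : G) = (w : G) * (x : G) := congrArg Subtype.val (hcen w hw)
    show (w : G) * ((x : G) * y) = (x : G) * y * (w : G)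
    rw [← mul_assoc, ← h2, mul_assoc, h1, mul_assoc]
  have hle : Subgroup.centralizer ({(x : G) * y} : Set G) ≤ Subgroup.centralizer ({y} : Set G) := by
    intro c hc
    have h1 : Commute c ((x : G) * y) := Subgroup.mem_centralizer_singleton_iff.1 hc
    have h2 : Commute c (Blocks.pPrimePartOf p ((x : G) * y)) := h1.pow_right _
    rw [hppart] at h2
    exact Subgroup.mem_centralizer_singleton_iff.2 h2
  have hvz : (Nat.card (Subgroup.centralizer ({(x : G) * y} : Set G))).factorization p =
      Cfsg.blockDefect p B := by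
    rw [← hv]
    refine le_antisymm ((Nat.factorization_le_iff_dvd Nat.card_pos.ne' Nat.card_pos.ne').2
      (Subgroup.card_dvd_of_le hle) p) ?_
    have h1 := Subgroup.card_dvd_of_le hRle
    rw [Subgroup.card_map_of_injective (Subgroup.subtype_injective _),
      Sylow.card_eq_multiplicity] at h1
    exact (hM.1.pow_dvd_iff_le_factorization Nat.card_pos.ne').1 h1
  obtain ⟨χ₀, hχ₀, h₀⟩ := BlockChar.exists_height_zero (p := p) ⟨χ, hχ⟩
  have hh : Cfsg.blockHeight p B (χ₀ : G → ℂ) = 0 := by
    rw [BlockChar.blockHeight_eq, h₀, Nat.sub_self]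
  refine Blocks.not_memLocalIdeal_char_mul hM hB hy ⟨e, he⟩ hxy hχ₀ hh
    ((Blocks.memLocalIdeal_centralChar_iff_of_height_zero hM hχ₀ hh hvz).1 ?_)
  have h1 := Blocks.IsPBlock.sameBlock hM hB hχ₀ hχ ((x : G) * y)
  simpa using Blocks.memLocalIdeal_add hM h1 h

end Cfsg.Agent.S0927
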