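import Cfsg.Agent.BlockThms.BrauerMap
import Cfsg.Statements.S0928

set_option autoImplicit false
open Cfsg Cfsg.Agent.BlockThms Cfsg.Agent.Char

namespace Cfsg.Agent.S0928

/-- Let χ be an irreducible character of the finite group G and p a prime. If χ g = 0 for every element g of order p, then the exponent of p in the degree χ(1) equals the exponent of p in the order of G (χ has p-defect zero). -/
theorem result {G : Type*} [Group G] [Finite G] (p : ℕ) [Fact p.Prime] (χ : Cfsg.IrrCharacter G) (hvan : ∀ g : G, orderOf g = p → (χ : G → ℂ) g = 0) : (Cfsg.charDegree (χ : G → ℂ)).factorization p = (Nat.card G).factorization p := by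
  classical
  have := Fintype.ofFinite G
  have hp : p.Prime := Fact.out
  obtain ⟨M, hM⟩ := exists_isPModular hp
  obtain ⟨n, hn0, hn⟩ := IsIrr.degree χ.2
  have hdvd : n ∣ Nat.card G := IsIrr.degree_dvd_card χ.2 hn
  have hdeg : charDegree (χ : G → ℂ) = n := by simp [charDegree, hn]
  set z : G → ℤ := fun x => if x ^ p = 1 then 1 else 0
  have hz : IsClass z := fun x c => if_congr (by rw [conj_pow, conj_eq_one_iff]) rfl rfl
  have hω : omegaZ (χ : G → ℂ) z = 1 := by
    rw [omegaZ, omega, div_eq_one_iff_eq (IsIrr.one_ne_zero χ.2),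
      Finset.sum_eq_single (1 : G) (fun x _ hx => ?_) (fun h => absurd (Finset.mem_univ _) h)]
    · simp [z]
    · by_cases hxp : x ^ p = 1
      · rw [hvan x (orderOf_eq_prime hxp hx), mul_zero]
      · simp [z, hxp]
  obtain ⟨g, P, hPle, hP, hPcard, hg, -, hfac⟩ := exists_defect_witness hM χ.2
  by_cases hPbot : P = ⊥
  · have hv : ¬ p ∣ Nat.card (Subgroup.centralizer ({g} : Set G)) := by
      intro hd
      rw [hPbot, Subgroup.card_bot] at hPcard
      exact (hp.factorization_pos_of_dvd Nat.card_pos.ne' hd).ne'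
        ((Nat.pow_eq_one.1 hPcard.symm).resolve_left hp.one_lt.ne')
    rw [hdeg]
    refine le_antisymm ((Nat.factorization_le_iff_dvd hn0.ne' Nat.card_pos.ne').2 hdvd p) ?_
    by_contra hlt
    rw [not_le] at hlt
    apply hg
    set e := n.factorization p
    set a := (Nat.card G).factorization p
    set idx := (Subgroup.centralizer ({g} : Set G)).index
    set n' := n / p ^ e
    have hnn : p ^ e * n' = n := Nat.ordProj_mul_ordCompl_eq_self n p
    have hn' : ¬ p ∣ n' := Nat.not_dvd_ordCompl hp hn0.ne'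
    obtain ⟨j, hj⟩ : p ^ a ∣ idx := by
      have : p ^ a ∣ idx * Nat.card (Subgroup.centralizer ({g} : Set G)) := by
        rw [Subgroup.index_mul_card]; exact Nat.ordProj_dvd _ p
      exact (Nat.Coprime.pow_left a ((hp.coprime_iff_not_dvd).2 hv)).dvd_of_dvd_mul_right this
    have key : (n' : ℂ) * centralChar (χ : G → ℂ) g = ((p ^ (a - e) * j : ℕ) : ℂ) * (χ : G → ℂ) g := by
      rw [centralChar, hn, show (n : ℂ) = ((p ^ e * n' : ℕ) : ℂ) by rw [hnn]]
      rw [show ((Subgroup.centralizer ({g} : Set G)).index : ℂ) = ((p ^ a * j : ℕ) : ℂ) by rw [← hj]]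
      have hp0 : (p : ℂ) ≠ 0 := Nat.cast_ne_zero.2 hp.ne_zero
      have hn'0 : (n' : ℂ) ≠ 0 := Nat.cast_ne_zero.2 fun h => hn' (h ▸ dvd_zero p)
      rw [show a = (a - e) + e by omega, Nat.add_sub_cancel, pow_add]
      push_cast
      field_simp
    have h1 : InIdeal M ((n' : ℂ) * centralChar (χ : G → ℂ) g) := by
      rw [key]
      exact (inIdeal_natCast_of_dvd hM (Dvd.dvd.mul_right (dvd_pow_self p (by omega)) j)).mul_right
        (IsChar.isIntegral (IsIrr.isCharacter χ.2) g)
    exact (InIdeal.of_mul hM (BlockThms.isIntegral_natCast n') (centralCharacter_isIntegral χ.2 g) h1).resolve_left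
      (fun h => hn' ((natCast_inIdeal_iff hM n').1 h))
  · exfalso
    haveI : Nontrivial P := (Subgroup.nontrivial_iff_ne_bot P).2 hPbot
    haveI := hP.center_nontrivial
    obtain ⟨u, hu⟩ := exists_prime_orderOf_dvd_card' (G := Subgroup.center P) p (by
      obtain ⟨k, hk⟩ := IsPGroup.iff_card.1 (hP.to_subgroup (Subgroup.center P))
      rw [hk]
      refine dvd_pow_self p ?_
      rintro rfl
      have := Finite.one_lt_card (α := Subgroup.center P)
      rw [hk, pow_zero] at this
      exact lt_irrefl _ this)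
    set v : G := ((u : P) : G) with hv
    have hvord : orderOf v = p := by rw [hv, Subgroup.orderOf_coe, Subgroup.orderOf_coe, hu]
    have hvP : v ∈ P := (u : P).2
    set C := Subgroup.centralizer (P : Set G)
    have hvC : v ∈ C := Subgroup.mem_centralizer_iff.2 fun w hw =>
      congrArg Subtype.val (Subgroup.mem_center_iff.1 u.2 ⟨w, hw⟩)
    have hcomm : ∀ c ∈ C, Commute v c := fun c hc => Subgroup.mem_centralizer_iff.1 hc v hvP
    have hzv : ∀ c ∈ C, z (v * c) = z c := fun c hc => if_congr (by
      rw [(hcomm c hc).mul_pow, ← hvord, pow_orderOf_eq_one, one_mul]) rfl rfl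
    have hzv' : ∀ c ∈ C, z (v⁻¹ * c) = z c := fun c hc => by
      conv_rhs => rw [← mul_inv_cancel_left v c]
      rw [hzv _ (C.mul_mem (inv_mem hvC) hc)]
    have hsq : InIdeal M (omegaZ (χ : G → ℂ) (conv z z)) := by
      refine hfac _ (hz.conv hz) fun x hx => ?_
      rw [← ZMod.intCast_zmod_eq_zero_iff_dvd, conv_congr p hP hz hz hx]
      let T := {a : G // a ∈ C}
      letI : MulAction (Subgroup.zpowers v) T :=
        { smul := fun w a => ⟨w * a.1, C.mul_mem (Subgroup.zpowers_le.2 hvC w.2) a.2⟩
          one_smul := fun a => Subtype.ext (one_mul a.1)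
          mul_smul := fun w w' a => Subtype.ext (mul_assoc _ _ _) }
      rw [Finset.sum_subtype (p := fun a => a ∈ C) _ (fun a => by simp [C])]
      rw [sum_eq_sum_fixed (P := Subgroup.zpowers v) p ?_ (fun a : T => (z a.1 : ZMod p) * (z (a.1⁻¹ * x) : ZMod p))]
      · refine Finset.sum_eq_zero fun a ha => ?_
        exfalso
        have h1 : v * a.1 = a.1 :=
          congrArg Subtype.val ((Finset.mem_filter.1 ha).2 ⟨v, Subgroup.mem_zpowers v⟩)
        rw [mul_eq_right] at h1
        rw [h1, orderOf_one] at hvord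
        exact hp.one_lt.ne hvord
      · rintro ⟨w, hw⟩ a
        obtain ⟨i, rfl⟩ := Subgroup.mem_zpowers_iff.1 hw
        show (z (v ^ i * a.1) : ZMod p) * (z ((v ^ i * a.1)⁻¹ * x) : ZMod p) = _
        clear hw
        induction i using Int.induction_on with
        | zero => simp
        | succ i ih =>
          rw [← ih]
          have hm : v ^ (i : ℤ) * a.1 ∈ C := C.mul_mem (C.zpow_mem hvC _) a.2
          have e : v ^ ((i : ℤ) + 1) * a.1 = v * (v ^ (i : ℤ) * a.1) := by group
          rw [e, hzv _ hm]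
          congr 2
          rw [mul_inv_rev, mul_assoc, (hcomm _ (C.inv_mem hm)).inv_left.symm.left_comm x,
            hzv' _ (C.mul_mem (C.inv_mem hm) hx)]
        | pred i ih =>
          rw [← ih]
          have hm : v ^ (-(i : ℤ)) * a.1 ∈ C := C.mul_mem (C.zpow_mem hvC _) a.2
          have e : v ^ (-(i : ℤ) - 1) * a.1 = v⁻¹ * (v ^ (-(i : ℤ)) * a.1) := by group
          rw [e, hzv' _ hm]
          congr 2
          rw [mul_inv_rev, inv_inv, mul_assoc, (hcomm _ (C.inv_mem hm)).symm.left_comm x,
            hzv _ (C.mul_mem (C.inv_mem hm) hx)]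
      · exact IsPGroup.of_card (n := 1) (by rw [Nat.card_zpowers, hvord, pow_one])
    rw [omegaZ_conv χ.2 hz hz, hω, one_mul] at hsq
    exact not_inIdeal_one hM hsq

end Cfsg.Agent.S0928
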