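import Cfsg.Statements.S0930
import Cfsg.Agent.S0927
import Cfsg.Agent.Blocks.SectionVanish

set_option autoImplicit false
open Cfsg

namespace Cfsg.Agent.S0930

/-- Let H be a subgroup of the finite group G and fix a maximal ideal M of the algebraic integers containing the prime p. If the block b of H with defect group D induces the block B of G with defect group P, then every element of the centre of P is conjugate in G to an element of the centre of D. -/
theorem result {G : Type*} [Group G] [Finite G] (p : ℕ) [Fact p.Prime] (M : Ideal Cfsg.AlgInt) (hM : Cfsg.IsPModular p M) (H : Subgroup G) (b : Set (Cfsg.IrrCharacter H)) (B : Set (Cfsg.IrrCharacter G)) (hind : Cfsg.IsInducedBlock M H b B) (D : Subgroup H) (hD : Cfsg.IsDefectGroup p M b D) (P : Subgroup G) (hP : Cfsg.IsDefectGroup p M B P) (x : G) (hx : x ∈ P) (hxc : ∀ w ∈ P, x * w = w * x) : ∃ g : G, g * x * g⁻¹ ∈ D.map H.subtype ∧ ∀ w ∈ D.map H.subtype, (g * x * g⁻¹) * w = w * (g * x * g⁻¹) := by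
  classical
  have := Fintype.ofFinite G
  haveI : Fintype H := Fintype.ofFinite H
  obtain ⟨hb, hB, hcong⟩ := hind
  obtain ⟨y, hy, P', rfl⟩ := hP
  obtain ⟨x', hx', rfl⟩ := hx
  obtain ⟨χ, hχ⟩ := Agent.Blocks.IsPBlock.nonempty hM hB
  obtain ⟨ξ, hξ⟩ := Agent.Blocks.IsPBlock.nonempty hM hb
  have hunit := (Agent.S0927.result p M hM B hB y hy P' x' hx').2
    (fun w hw => Subtype.ext (hxc (w : G) ⟨w, hw, rfl⟩)) χ hχ
  -- some class of H inside the class of x*y has a unit central character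
  obtain ⟨h, hhc, hhu⟩ : ∃ h : H, IsConj ((x' : G) * y) (h : G) ∧
      ¬ Cfsg.MemLocalIdeal M (Cfsg.centralChar (ξ : H → ℂ) h) := by
    by_contra! hall
    have : Finite (ConjClasses H) := Quotient.finite _
    have := Fintype.ofFinite (ConjClasses H)
    have h0 : Cfsg.MemLocalIdeal M (Cfsg.inducedCentralChar H (ξ : H → ℂ) ((x' : G) * y)) := by
      rw [Agent.Blocks.inducedCentralChar_eq_omega,
        Agent.Blocks.omega_eq_sum_classes (Agent.Char.isClassFunction_of_isIrr ξ.2)
        (Agent.Blocks.isClassFunction_res H (Agent.Blocks.isClassFunction_classInd _))]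
      refine Agent.Blocks.memLocalIdeal_sum hM _ fun K _ => ?_
      rw [Agent.Blocks.classInd_apply]
      split_ifs with hK
      · rw [one_mul]; exact hall _ hK
      · rw [zero_mul]; exact Agent.Blocks.memLocalIdeal_zero hM
    exact hunit (by simpa using Agent.Blocks.memLocalIdeal_sub hM h0 (hcong ξ hξ χ hχ ((x' : G) * y)))
  obtain ⟨z, hzc, hzD, hzp⟩ := Agent.Blocks.exists_conj_pPart_mem_of_unit hM hb hD hξ hhu
  -- the p-part of x * y is x
  obtain ⟨e, he⟩ : ∃ e, orderOf (x' : G) = p ^ e := by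
    obtain ⟨e, he⟩ := (IsPGroup.iff_orderOf.1 P'.2) ⟨x', hx'⟩
    exact ⟨e, by rwa [Subgroup.orderOf_coe, ← Subgroup.orderOf_mk x' hx']⟩
  obtain ⟨-, hreg⟩ := Agent.BlockChar.factorization_centralizer_eq hM hB hy
  have hxp := (Agent.Blocks.parts_mul hM.1
    (show Commute (x' : G) y from Subgroup.mem_centralizer_singleton_iff.1 x'.2) ⟨e, he⟩ hreg).1
  obtain ⟨g, hg⟩ := isConj_iff.1 (hhc.trans (H.subtype.map_isConj hzc))
  have hgx : g * (x' : G) * g⁻¹ = ((Agent.Blocks.pPartOf p z : H) : G) := by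
    rw [← hxp, ← Agent.Blocks.pPartOf_conj, hg, Agent.Blocks.pPartOf, Agent.Blocks.pPartOf,
      Subgroup.coe_subtype, Subgroup.coe_pow, Subgroup.orderOf_coe]
  refine ⟨g, ?_, ?_⟩
  · exact ⟨_, hzp, hgx.symm⟩
  · rintro _ ⟨w, hw, rfl⟩
    show g * (x' : G) * g⁻¹ * (w : G) = (w : G) * (g * (x' : G) * g⁻¹)
    rw [hgx]
    have hc : Commute w z := Subgroup.mem_centralizer_iff.1 hzD w hw
    exact (congrArg Subtype.val (hc.pow_right (Agent.Blocks.pExp p (orderOf z))).eq).symm

end Cfsg.Agent.S0930
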