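import Cfsg.Statements.S0931
import Cfsg.Agent.S0930
import Cfsg.Agent.BlockThms.DefectCor

set_option autoImplicit false
open Cfsg

namespace Cfsg.Agent.S0931

/-- Let H be a subgroup of the finite group G and fix a maximal ideal M of the algebraic integers containing the prime p. If the block b of H induces the block B of G, then b has defect 0 if and only if B has defect 0. -/
theorem result {G : Type*} [Group G] [Finite G] (p : ℕ) [Fact p.Prime] (M : Ideal Cfsg.AlgInt) (hM : Cfsg.IsPModular p M) (H : Subgroup G) (b : Set (Cfsg.IrrCharacter H)) (B : Set (Cfsg.IrrCharacter G)) (hind : Cfsg.IsInducedBlock M H b B) : Cfsg.blockDefect p b = 0 ↔ Cfsg.blockDefect p B = 0 := by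
  classical
  have := Fintype.ofFinite G
  haveI : Fintype H := Fintype.ofFinite H
  have : Fact p.Prime := ⟨hM.1⟩
  obtain ⟨D, hD⟩ := Agent.DefectThms.exists_defectGroup hM hind.1
  constructor
  · intro h0
    obtain ⟨P, hP⟩ := Agent.DefectThms.exists_defectGroup hM hind.2.1
    have hD1 : D = ⊥ := Subgroup.eq_bot_of_card_eq _ (by
      rw [Agent.BlockChar.card_defectGroup hM hind.1 hD, h0, pow_zero])
    by_contra hne
    have hPp := Agent.DefectThms.isPGroup_of_isDefectGroup hP
    have : Nontrivial P := Finite.one_lt_card_iff_nontrivial.1 (by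
      rw [Agent.BlockChar.card_defectGroup hM hind.2.1 hP]; exact Nat.one_lt_pow hne hM.1.one_lt)
    obtain ⟨⟨z, hz⟩, hz1⟩ := @exists_ne (Subgroup.center P) hPp.center_nontrivial 1
    obtain ⟨g, hg, -⟩ := Agent.S0930.result p M hM H b B hind D hD P hP (z : G) z.2
      (fun w hw => (congrArg Subtype.val (Subgroup.mem_center_iff.1 hz ⟨w, hw⟩)).symm)
    rw [hD1, Subgroup.map_bot, Subgroup.mem_bot, conj_eq_one_iff] at hg
    exact hz1 (Subtype.ext (Subtype.ext hg))
  · intro h0
    obtain ⟨E, hE, hle⟩ :=
      Agent.DefectThms.exists_defectGroup_ge_of_induced hM H hind.1 hind.2.1 hind hD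
    have h := Subgroup.card_le_of_le hle
    rw [Subgroup.card_subtype, Agent.BlockChar.card_defectGroup hM hind.1 hD,
      Agent.BlockChar.card_defectGroup hM hind.2.1 hE, h0] at h
    exact Nat.le_zero.1 ((Nat.pow_le_pow_iff_right hM.1.one_lt).1 h)

end Cfsg.Agent.S0931
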