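import Cfsg.Agent.BlockThms.BrauerMap
import Cfsg.Agent.Char.Induced
import Cfsg.Statements.S0932

set_option autoImplicit false
open Cfsg Cfsg.Agent.BlockThms Cfsg.Agent.Char

namespace Cfsg.Agent.S0932

/-- Let H be a subgroup of the finite group G and ξ a character of H. For every g ∈ G, the sum of ξ h / ξ 1 over the elements h ∈ H that are conjugate in G to g equals the central character at g of the character of G induced from ξ (class size times value divided by degree). -/
theorem result {G : Type*} [Group G] [Fintype G] (H : Subgroup G) (ξ : H → ℂ) (hξ : Cfsg.IsCharacter H ξ) (g : G) : Cfsg.inducedCentralChar H ξ g = Cfsg.centralChar (Cfsg.indFun H ξ) g := by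
  classical
  have hsum : (Nat.card (Subgroup.centralizer ({g} : Set G)) : ℂ) * (∑ᶠ h ∈ {h : H | IsConj g (h : G)}, ξ h) =
      ∑ x : G, extendByZero H ξ (x⁻¹ * g * x) := by
    rw [← Finset.sum_fiberwise Finset.univ (fun x : G => x⁻¹ * g * x)]
    have hfib : ∀ y : G, IsConj g y → (Finset.univ.filter fun x : G => x⁻¹ * g * x = y).card =
        Nat.card (Subgroup.centralizer ({g} : Set G)) := by
      intro y hy
      obtain ⟨c, hc⟩ := isConj_iff.1 hy
      rw [← Fintype.card_subtype, ← Nat.card_eq_fintype_card]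
      refine Nat.card_congr
        { toFun := fun x => ⟨x.1 * c, ?_⟩
          invFun := fun k => ⟨k.1 * c⁻¹, ?_⟩
          left_inv := fun x => by simp
          right_inv := fun k => by simp }
      · rw [Subgroup.mem_centralizer_singleton_iff]
        calc x.1 * c * g = x.1 * (c * g * c⁻¹) * c := by group
          _ = x.1 * (x.1⁻¹ * g * x.1) * c := by rw [hc, x.2]
          _ = g * (x.1 * c) := by group
      · calc (k.1 * c⁻¹)⁻¹ * g * (k.1 * c⁻¹) = c * k.1⁻¹ * (g * k.1) * c⁻¹ := by group
          _ = y := by rw [← Subgroup.mem_centralizer_singleton_iff.1 k.2, ← hc]; group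
    have hterm : ∀ y : G, ∑ x ∈ Finset.univ.filter (fun x : G => x⁻¹ * g * x = y),
        extendByZero H ξ (x⁻¹ * g * x) =
        (Nat.card (Subgroup.centralizer ({g} : Set G)) : ℂ) *
          (if IsConj g y then extendByZero H ξ y else 0) := by
      intro y
      rw [Finset.sum_congr rfl (fun x hx => by rw [(Finset.mem_filter.1 hx).2]), Finset.sum_const,
        nsmul_eq_mul]
      by_cases hy : IsConj g y
      · rw [hfib y hy, if_pos hy]
      · rw [if_neg hy, mul_zero, Finset.filter_false_of_mem, Finset.card_empty, Nat.cast_zero,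
          zero_mul]
        exact fun x _ hx => hy (isConj_iff.2 ⟨x⁻¹, by rw [inv_inv]; exact hx⟩)
    rw [Finset.sum_congr rfl fun y _ => hterm y, ← Finset.mul_sum]
    congr 1
    rw [finsum_mem_eq_toFinset_sum]
    rw [← Finset.sum_filter, ← Finset.sum_subset (s₁ := (Finset.univ.filter (IsConj g)).filter (· ∈ H))
      (Finset.filter_subset _ _) (fun y hy hy' => extendByZero_of_not_mem H ξ (fun hH => hy' (by simp_all)))]
    refine Finset.sum_bij' (fun h _ => (h : G)) (fun y hy => ⟨y, (Finset.mem_filter.1 hy).2⟩) ?_ ?_ ?_ ?_ ?_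
    · intro h hh; simp only [Set.mem_toFinset, Set.mem_setOf_eq] at hh; exact Finset.mem_filter.2 ⟨Finset.mem_filter.2 ⟨Finset.mem_univ _, hh⟩, h.2⟩
    · intro y hy; simp only [Finset.mem_filter] at hy; rw [Set.mem_toFinset]; exact hy.1.2
    · intros; rfl
    · intros; rfl
    · intros; rw [extendByZero_coe]
  have hind : inducedCentralChar H ξ g = (∑ᶠ h ∈ {h : H | IsConj g (h : G)}, ξ h) / ξ 1 := by
    rw [inducedCentralChar, finsum_mem_eq_toFinset_sum, finsum_mem_eq_toFinset_sum, Finset.sum_div]
  rw [hind, centralChar, indFun_apply_one, indFun_apply, ← hsum]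
  have hH : (Nat.card H : ℂ) * (H.index : ℂ) = (Nat.card G : ℂ) := by
    rw [← Nat.cast_mul, H.card_mul_index]
  have hC : (Nat.card (Subgroup.centralizer ({g} : Set G)) : ℂ) *
      ((Subgroup.centralizer ({g} : Set G)).index : ℂ) = (Nat.card G : ℂ) := by
    rw [← Nat.cast_mul, Subgroup.card_mul_index]
  have hG : (Nat.card G : ℂ) ≠ 0 := card_ne_zero
  have hH0 : (Nat.card H : ℂ) ≠ 0 := card_ne_zero
  have hI : (H.index : ℂ) ≠ 0 := Nat.cast_ne_zero.2 Subgroup.index_ne_zero_of_finite
  rcases eq_or_ne (ξ 1) 0 with h0 | h0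
  · simp [h0]
  field_simp
  linear_combination (∑ᶠ h ∈ {h : H | IsConj g (h : G)}, ξ h) * (hH - hC)

end Cfsg.Agent.S0932
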