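import Cfsg.Statements.S0933
import Cfsg.Agent.Blocks.SecondMain
import Cfsg.Agent.Char.Induced

set_option autoImplicit false
open Cfsg

namespace Cfsg.Agent.S0933

/-- Let H be a subgroup of the finite group G and ξ an irreducible character of H such that the induced function ξ^G is an irreducible character of G. Then, relative to any maximal ideal M of the algebraic integers containing the prime p, the block of ξ induces the block of ξ^G. -/
theorem result {G : Type*} [Group G] [Fintype G] (p : ℕ) [Fact p.Prime] (M : Ideal Cfsg.AlgInt) (hM : Cfsg.IsPModular p M) (H : Subgroup G) (ξ : Cfsg.IrrCharacter H) (hind : Cfsg.IsIrrCharacter G (Cfsg.indFun H (ξ : H → ℂ))) : Cfsg.IsInducedBlock M H (Cfsg.blockOf M (ξ : H → ℂ)) (Cfsg.blockOf M (Cfsg.indFun H (ξ : H → ℂ))) := by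
  classical
  haveI : Fintype H := Fintype.ofFinite H
  set F := Cfsg.indFun H (ξ : H → ℂ) with hF
  refine ⟨Agent.Blocks.isPBlock_blockOf ξ, Agent.Blocks.isPBlock_blockOf (⟨F, hind⟩ : Cfsg.IrrCharacter G),
    fun ξ' hξ' χ hχ g => ?_⟩
  have hF1 : F 1 = (H.index : ℂ) * (ξ : H → ℂ) 1 := Agent.Char.indFun_apply_one H _
  have hH0 : (Nat.card H : ℂ) ≠ 0 := Nat.cast_ne_zero.2 Nat.card_pos.ne'
  have hi0 : (H.index : ℂ) ≠ 0 := Nat.cast_ne_zero.2 Subgroup.index_ne_zero_of_finite
  -- Frobenius reciprocity against the class indicator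
  have key : Cfsg.inducedCentralChar H (ξ : H → ℂ) g = Cfsg.centralChar F g := by
    rw [Agent.Blocks.inducedCentralChar_eq_omega,
      ← Agent.Blocks.omega_classInd (Agent.Char.isClassFunction_of_isIrr hind)]
    have hreal : ∀ z : G, (starRingEnd ℂ) (Agent.Blocks.classInd g z) = Agent.Blocks.classInd g z :=
      fun z => by rw [Agent.Blocks.classInd_apply]; split_ifs <;> simp
    have h := Agent.Char.classInner_indFun_left H (ξ : H → ℂ)
      (Agent.Blocks.isClassFunction_classInd g)
    simp only [Cfsg.classInner, hreal] at h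
    rw [← hF, inv_mul_eq_iff_eq_mul₀ (Nat.cast_ne_zero.2 Nat.card_pos.ne'),
      ← H.card_mul_index, Nat.cast_mul] at h
    have e : ∑ z, Agent.Blocks.classInd g z * F z =
        (H.index : ℂ) * ∑ a : H, Agent.Blocks.classInd g (a : G) * (ξ : H → ℂ) a := by
      simp only [mul_comm (Agent.Blocks.classInd g _)]
      rw [h]
      field_simp
    simp only [Agent.Blocks.omega]
    rw [e, hF1, mul_div_mul_left _ _ hi0]
  have h1 : Cfsg.MemLocalIdeal M (Cfsg.inducedCentralChar H (ξ : H → ℂ) g -
      Cfsg.inducedCentralChar H (ξ' : H → ℂ) g) := by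
    rw [Agent.Blocks.inducedCentralChar_eq_omega, Agent.Blocks.inducedCentralChar_eq_omega]
    exact Agent.Blocks.memLocalIdeal_omega_sub hM ξ.2 ξ'.2
      (Agent.Blocks.isClassFunction_res H (Agent.Blocks.isClassFunction_classInd g))
      (fun a => Agent.Blocks.memLocalRing_classInd hM g (a : G)) (Agent.Blocks.mem_blockOf.1 hξ')
  have h2 : Cfsg.MemLocalIdeal M (Cfsg.centralChar F g - Cfsg.centralChar (χ : G → ℂ) g) :=
    Agent.Blocks.mem_blockOf.1 hχ g
  rw [key] at h1
  simpa using Agent.Blocks.memLocalIdeal_sub hM h2 h1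

end Cfsg.Agent.S0933
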