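import Cfsg.Statements.S0934
import Cfsg.Agent.BlockThms.Eta
import Cfsg.Agent.Blocks.SecondMain

set_option autoImplicit false
open Cfsg

namespace Cfsg.Agent.S0934

/-- Let H be a subgroup of the finite group G and fix a maximal ideal M of the algebraic integers containing the prime p. If the block b of H induces the block B of G and ξ ∈ b, then there is χ ∈ B whose restriction to H has nonzero inner product with ξ. -/
theorem result {G : Type*} [Group G] [Fintype G] (p : ℕ) [Fact p.Prime] (M : Ideal Cfsg.AlgInt) (hM : Cfsg.IsPModular p M) (H : Subgroup G) [Fintype H] (b : Set (Cfsg.IrrCharacter H)) (B : Set (Cfsg.IrrCharacter G)) (hind : Cfsg.IsInducedBlock M H b B) (ξ : Cfsg.IrrCharacter H) (hξ : ξ ∈ b) : ∃ χ ∈ B, Cfsg.classInner (fun h : H => (χ : G → ℂ) h) (ξ : H → ℂ) ≠ 0 := by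
  classical
  by_contra! hall
  obtain ⟨-, hB, hcong⟩ := hind
  obtain ⟨χ₀, hχ₀⟩ := Agent.Blocks.IsPBlock.nonempty hM hB
  have h := Agent.BlockThms.memLocalIdeal_omega_res_sub hM H
    (Agent.Char.isClassFunction_of_isIrr χ₀.2) (Agent.Blocks.isClassFunction_blockCoeff B)
    (Agent.Blocks.memLocalRing_blockCoeff hM hB) (hcong ξ hξ χ₀ hχ₀)
  have h1 : ∑ a : H, Cfsg.blockCoeff B (a : G) * (ξ : H → ℂ) a = 0 := by
    simp only [Agent.Blocks.blockCoeff_eq_sum, mul_assoc, ← Finset.mul_sum, Finset.sum_mul]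
    rw [Finset.sum_comm]
    refine mul_eq_zero_of_right _ (Finset.sum_eq_zero fun χ _ => ?_)
    by_cases hχ : χ ∈ B
    · have h2 := congrArg (starRingEnd ℂ) (hall χ hχ)
      rw [map_zero, Cfsg.classInner, map_mul, map_inv₀, map_natCast, map_sum,
        mul_eq_zero_iff_left (inv_ne_zero (Nat.cast_ne_zero.2 Nat.card_pos.ne'))] at h2
      calc ∑ a : H, (if χ ∈ B then (χ : G → ℂ) 1 * (starRingEnd ℂ) ((χ : G → ℂ) (a : G)) else 0) *
            (ξ : H → ℂ) a
          = (χ : G → ℂ) 1 * ∑ a : H,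
              (starRingEnd ℂ) ((χ : G → ℂ) (a : G) * (starRingEnd ℂ) ((ξ : H → ℂ) a)) := by
            rw [Finset.mul_sum]
            exact Finset.sum_congr rfl fun a _ => by simp [hχ, mul_assoc]
        _ = 0 := by rw [h2, mul_zero]
    · simp [hχ]
  simp only [Agent.Blocks.omega] at h
  have h2 := Agent.Blocks.omega_blockCoeff B χ₀
  rw [Agent.Blocks.omega, if_pos hχ₀] at h2
  rw [h1, h2, zero_div, zero_sub] at h
  exact Agent.Blocks.not_memLocalIdeal_one hM (by simpa using Agent.Blocks.memLocalIdeal_neg h)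

end Cfsg.Agent.S0934
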