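import Cfsg.Statements.S0943
import Cfsg.Agent.Blocks.Idempotent

set_option autoImplicit false
open Cfsg

namespace Cfsg.Agent.S0943

/-- Let χ be an irreducible character of the finite group G and u, v ∈ G. If χ (x * y) = χ (u * v) whenever x is conjugate to u and y is conjugate to v, then χ u * χ v = χ 1 * χ (u * v). (Multiply the class sums of u and v and apply the central character of χ.) -/
theorem result {G : Type*} [Group G] [Finite G] (χ : Cfsg.IrrCharacter G) (u v : G) (hc : ∀ x y : G, IsConj u x → IsConj v y → (χ : G → ℂ) (x * y) = (χ : G → ℂ) (u * v)) : (χ : G → ℂ) u * (χ : G → ℂ) v = (χ : G → ℂ) 1 * (χ : G → ℂ) (u * v) := by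
  classical
  have := Fintype.ofFinite G
  have hχ := Agent.Char.isClassFunction_of_isIrr χ.2
  have h := Agent.Blocks.omega_conv χ.2 (Agent.Blocks.isClassFunction_classInd u)
    (Agent.Blocks.isClassFunction_classInd v)
  rw [Agent.Blocks.omega_classInd hχ, Agent.Blocks.omega_classInd hχ] at h
  set a : ℂ := ((Subgroup.centralizer ({u} : Set G)).index : ℂ) with ha
  set b : ℂ := ((Subgroup.centralizer ({v} : Set G)).index : ℂ) with hb
  have hsum : ∑ z, Agent.Blocks.conv (Agent.Blocks.classInd u) (Agent.Blocks.classInd v) z *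
      (χ : G → ℂ) z = a * b * (χ : G → ℂ) (u * v) := by
    simp only [Agent.Blocks.conv, Finset.sum_mul]
    rw [Finset.sum_comm]
    have e : ∀ g, ∑ z, Agent.Blocks.classInd u g * Agent.Blocks.classInd v (g⁻¹ * z) * (χ : G → ℂ) z
        = Agent.Blocks.classInd u g * (b * (χ : G → ℂ) (u * v)) := by
      intro g
      simp only [mul_assoc, ← Finset.mul_sum]
      rw [Agent.Blocks.classInd_apply]
      split_ifs with hg
      · congr 1
        rw [← (Fintype.sum_equiv (Equiv.mulLeft g) (fun y => Agent.Blocks.classInd v y *
          (χ : G → ℂ) (u * v)) _ fun y => ?_), ← Finset.sum_mul]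
        · congr 1
          simp only [Agent.Blocks.classInd_apply, Finset.sum_boole]
          rw [hb, ← Agent.Char.card_isConj_eq_index, Nat.card_eq_fintype_card, Fintype.card_subtype]
        · simp only [Equiv.coe_mulLeft, inv_mul_cancel_left, Agent.Blocks.classInd_apply]
          split_ifs with hy
          · rw [hc g y hg hy]
          · simp
      · simp
    simp only [e]
    simp only [← Finset.sum_mul, Agent.Blocks.classInd_apply, Finset.sum_boole]
    rw [ha, ← Agent.Char.card_isConj_eq_index, Nat.card_eq_fintype_card, Fintype.card_subtype]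
    ring
  rw [Agent.Blocks.omega, hsum, Cfsg.centralChar, Cfsg.centralChar, ← ha, ← hb] at h
  have h1 := Agent.Char.IsIrr.one_ne_zero χ.2
  have ha0 : a ≠ 0 := Nat.cast_ne_zero.2 Subgroup.index_ne_zero_of_finite
  have hb0 : b ≠ 0 := Nat.cast_ne_zero.2 Subgroup.index_ne_zero_of_finite
  field_simp at h
  linear_combination -h

end Cfsg.Agent.S0943
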