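import Mathlib
import Cfsg.Agent.BlockThms.Homocyclic
import Cfsg.Statements.S0946

set_option autoImplicit false
open Cfsg

namespace Cfsg.Agent.S0946

/-- Let P be a Sylow 2-subgroup of the finite group G isomorphic to Z/2^m × Z/2^m with m ≥ 1. Then either P has a normal complement in G, or all involutions of G are conjugate. -/
theorem result {G : Type*} [Group G] [Finite G] (P : Sylow 2 G) (m : ℕ) (hm : 1 ≤ m) (e : (P : Subgroup G) ≃* Multiplicative (ZMod (2 ^ m) × ZMod (2 ^ m))) : (∃ N : Subgroup G, N.Normal ∧ Subgroup.IsComplement' N (P : Subgroup G)) ∨ ∀ s t : G, orderOf s = 2 → orderOf t = 2 → IsConj s t := by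
  classical
  obtain ⟨h1, h2⟩ := BlockThms.Homocyclic.automizer P hm e
  by_cases hr : (Subgroup.centralizer (P : Set G)).relIndex (Subgroup.normalizer (P : Set G)) = 1
  · exact Or.inl ⟨(MonoidHom.transferSylow P (Subgroup.relIndex_eq_one.1 hr)).ker, inferInstance,
      MonoidHom.ker_transferSylow_isComplement' P _⟩
  · refine Or.inr fun s t hs ht => ?_
    have mv : ∀ u : G, orderOf u = 2 → ∃ k : G, k * u * k⁻¹ ∈ (P : Subgroup G) := by
      intro u hu
      obtain ⟨Q, hQ⟩ := (IsPGroup.of_card (p := 2) (n := 1) (by rw [Nat.card_zpowers, hu, pow_one]) :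
        IsPGroup 2 (Subgroup.zpowers u)).exists_le_sylow
      obtain ⟨k, hk⟩ := MulAction.exists_smul_eq G Q P
      exact ⟨k, hk ▸ ⟨u, hQ (Subgroup.mem_zpowers u), rfl⟩⟩
    obtain ⟨a, ha⟩ := mv s hs
    obtain ⟨b, hb⟩ := mv t ht
    have hord : ∀ (k u : G), orderOf (k * u * k⁻¹) = orderOf u := fun k u =>
      orderOf_injective (MulAut.conj k).toMonoidHom (MulAut.conj k).injective u
    exact ((isConj_iff.2 ⟨a, rfl⟩ : IsConj s _).trans ((h2 hr).2 _ _ ha ((hord a s).trans hs) hb
      ((hord b t).trans ht))).trans (isConj_iff.2 ⟨b, rfl⟩ : IsConj t _).symm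

end Cfsg.Agent.S0946
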