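import Cfsg.Statements.S0950
import Cfsg.Agent.Invol.BSQ8Fusion
import Cfsg.Agent.Invol.BSBig

set_option autoImplicit false
open Cfsg

namespace Cfsg.Agent.S0950

open Cfsg.Agent in
theorem gen {G : Type*} [Group G] [Finite G] {S : Sylow 2 G} {a : G} (h : Invol.QData S a 2)
    {A : Subgroup G} (hA : A ≤ S) (hA4 : Nat.card A = 4) :
    ∃ x ∈ S, orderOf x = 4 ∧ A = Subgroup.zpowers x := by
  by_cases hx : ∃ x ∈ A, orderOf x = 4
  · obtain ⟨x, hxA, hx4⟩ := hx
    refine ⟨x, hA hxA, hx4, (Subgroup.eq_of_le_of_card_ge (Subgroup.zpowers_le.2 hxA) ?_).symm⟩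
    rw [Nat.card_zpowers, hx4, hA4]
  · exfalso
    have hle : A ≤ Subgroup.zpowers (a ^ 2 ^ (2 - 1)) := by
      intro x hxA
      have hd := orderOf_dvd_natCard (⟨x, hxA⟩ : A)
      rw [Subgroup.orderOf_mk, hA4] at hd
      obtain ⟨i, hi, he⟩ := (Nat.dvd_prime_pow Nat.prime_two (m := 2)).1 hd
      interval_cases i
      · rw [orderOf_eq_one_iff.1 (he.trans (pow_zero 2))]; exact one_mem _
      · rw [h.eq_z (hA hxA) (he.trans (pow_one 2))]; exact Subgroup.mem_zpowers _
      · exact absurd ⟨x, hxA, he.trans (by norm_num)⟩ hx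
    have := Subgroup.card_le_of_le hle
    rw [hA4, Nat.card_zpowers, h.orderOf_z] at this
    omega

/-- Let S be a Sylow 2-subgroup of the finite group G that is isomorphic to the quaternion group of order 8, and suppose S has no normal complement in G. Then any two subgroups of order 4 of S are conjugate by an element of the normalizer of S. -/
theorem result {G : Type*} [Group G] [Finite G] (S : Sylow 2 G) (e : (S : Subgroup G) ≃* QuaternionGroup 2) (hnc : ∀ N : Subgroup G, N.Normal → ¬ Subgroup.IsComplement' N (S : Subgroup G)) (A B : Subgroup G) (hA : A ≤ S) (hB : B ≤ S) (hA4 : Nat.card A = 4) (hB4 : Nat.card B = 4) : ∃ n ∈ Subgroup.normalizer ((S : Subgroup G) : Set G), B = A.map (MulAut.conj n).toMonoidHom := by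
  obtain ⟨huniq, hcyc⟩ := Cfsg.Agent.Invol.quaternion_uniq S le_rfl e
  obtain ⟨a, k, h⟩ := Cfsg.Agent.Invol.exists_qData S huniq hcyc
  have hc : Nat.card S = 8 := by
    rw [Nat.card_congr e.toEquiv, Nat.card_eq_fintype_card, QuaternionGroup.card]
  obtain rfl : k = 2 := by
    have h1 := h.card
    rw [hc] at h1
    have h2 : (2 : ℕ) ^ k = 2 ^ 2 := by norm_num; omega
    exact Nat.pow_right_injective le_rfl h2
  have hnc' : ¬ Cfsg.HasNormalPComplement 2 G := by
    rintro ⟨P, N, hN, hNP⟩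
    obtain ⟨g, hg⟩ := MulAction.exists_smul_eq G P S
    refine hnc N hN ?_
    refine Subgroup.isComplement'_of_coprime ?_ ?_
    · rw [← Nat.card_congr (Sylow.equiv P S).toEquiv]
      exact hNP.card_mul
    · obtain ⟨j, hj⟩ := S.2.exists_card_eq
      rw [hj]
      refine Nat.Coprime.pow_right _ (Nat.Prime.coprime_iff_not_dvd Nat.prime_two |>.2 ?_).symm
      exact hNP.index_eq_card ▸ P.not_dvd_index
  obtain ⟨x, hx, hx4, rfl⟩ := gen h hA hA4
  obtain ⟨y, hy, hy4, rfl⟩ := gen h hB hB4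
  obtain ⟨cx, -, hcx⟩ := Cfsg.Agent.Invol.q8_fusion h hnc' hx hx4
  obtain ⟨cy, -, hcy⟩ := Cfsg.Agent.Invol.q8_fusion h hnc' hy hy4
  set c := cy * cx⁻¹ with hcdef
  have hc' : c * x * c⁻¹ = y := by rw [hcdef, ← hcx, ← hcy]; group
  set N := Subgroup.normalizer (Subgroup.zpowers y : Set G) with hN
  have hmapc : (Subgroup.zpowers x).map (MulAut.conj c).toMonoidHom = Subgroup.zpowers y := by
    rw [MonoidHom.map_zpowers]
    show Subgroup.zpowers (c * x * c⁻¹) = _
    rw [hc']
  have hnorm : ∀ u ∈ S, orderOf u = 4 → ∀ p ∈ S, (Subgroup.zpowers u).map (MulAut.conj p).toMonoidHom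
      = Subgroup.zpowers u := fun u hu hu4 p hp => by
    rw [MonoidHom.map_zpowers]
    show Subgroup.zpowers (p * u * p⁻¹) = _
    rcases Cfsg.Agent.Invol.q8_conj h hu hu4 hp with e1 | e1 <;> rw [e1]
    exact Subgroup.zpowers_inv
  have hmem : ∀ g : G, (Subgroup.zpowers y).map (MulAut.conj g).toMonoidHom = Subgroup.zpowers y → g ∈ N := by
    intro g hg
    rw [hN, Subgroup.mem_normalizer_iff]
    intro w
    constructor
    · intro hw; rw [← hg]; exact ⟨w, hw, rfl⟩
    · intro hw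
      rw [← hg] at hw
      obtain ⟨w', hw', he⟩ := hw
      exact ((MulAut.conj g).injective he) ▸ hw'
  have hSN : (S : Subgroup G) ≤ N := fun p hp => hmem p (hnorm y hy hy4 p hp)
  have hTN : ((c • S : Sylow 2 G) : Subgroup G) ≤ N := by
    rw [Sylow.coe_subgroup_smul]
    rintro _ ⟨p, hp, rfl⟩
    refine hmem _ ?_
    nth_rewrite 1 [← hmapc]
    rw [Subgroup.map_map]
    conv_rhs => rw [← hmapc, ← hnorm x hx hx4 p hp, Subgroup.map_map]
    congr 1
    ext w
    simp [mul_assoc]
  obtain ⟨d, hd⟩ := MulAction.exists_smul_eq N ((c • S : Sylow 2 G).subtype hTN) (S.subtype hSN)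
  rw [Sylow.smul_subtype] at hd
  have hd' := Sylow.subtype_injective hd
  refine ⟨(d : G) * c, Sylow.smul_eq_iff_mem_normalizer.1 (by rw [mul_smul]; exact hd'), ?_⟩
  have hdmap : (Subgroup.zpowers y).map (MulAut.conj (d : G)).toMonoidHom = Subgroup.zpowers y := by
    ext w
    constructor
    · rintro ⟨w', hw', rfl⟩
      exact (Subgroup.mem_normalizer_iff.1 d.2 w').1 hw'
    · intro hw
      refine ⟨(d : G)⁻¹ * w * d, ?_, by simp [mul_assoc]⟩
      exact (Subgroup.mem_normalizer_iff''.1 d.2 w).1 hw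
  rw [map_mul]
  show _ = (Subgroup.zpowers x).map ((MulAut.conj (d : G)).toMonoidHom.comp (MulAut.conj c).toMonoidHom)
  rw [← Subgroup.map_map, hmapc, hdmap]

end Cfsg.Agent.S0950
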