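import Mathlib
import Cfsg.Agent.BlockThms.BrauerMap
import Cfsg.Statements.S0957

set_option autoImplicit false
open Cfsg Cfsg.Agent.BlockThms

namespace Cfsg.Agent.S0957

/-- Let P be a Sylow p-subgroup of the finite group G, let g, h ∈ G and let p ^ d be the order of a Sylow p-subgroup of the centralizer of g. Then the number of pairs (y, z) with y conjugate to g, z conjugate to h and z * y⁻¹ ∈ P is divisible by the order of P divided by p ^ d. -/
theorem result {G : Type*} [Group G] [Finite G] (p : ℕ) [Fact p.Prime] (P : Sylow p G) (g h : G) (S : Sylow p (Subgroup.centralizer ({g} : Set G))) : Nat.card P / Nat.card S ∣ Nat.card {yz : G × G // IsConj g yz.1 ∧ IsConj h yz.2 ∧ yz.2 * yz.1⁻¹ ∈ (P : Subgroup G)} := by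
  classical
  let X := {yz : G × G // IsConj g yz.1 ∧ IsConj h yz.2 ∧ yz.2 * yz.1⁻¹ ∈ (P : Subgroup G)}
  have hconj : ∀ (u : G) {a b : G}, IsConj a b → IsConj a (u * b * u⁻¹) := fun u a b hab =>
    hab.trans (isConj_iff.2 ⟨u, rfl⟩)
  letI : MulAction P X :=
    { smul := fun u s => ⟨((u : G) * s.1.1 * (u : G)⁻¹, (u : G) * s.1.2 * (u : G)⁻¹),
        hconj _ s.2.1, hconj _ s.2.2.1, by
          rw [show (u : G) * s.1.2 * (u : G)⁻¹ * ((u : G) * s.1.1 * (u : G)⁻¹)⁻¹ =
            (u : G) * (s.1.2 * s.1.1⁻¹) * (u : G)⁻¹ by group]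
          exact mul_mem (mul_mem u.2 s.2.2.2) (inv_mem u.2)⟩
      one_smul := fun s => Subtype.ext (Prod.ext (by show (1 : G) * s.1.1 * (1 : G)⁻¹ = _; simp)
        (by show (1 : G) * s.1.2 * (1 : G)⁻¹ = _; simp))
      mul_smul := fun u v s => Subtype.ext (Prod.ext
        (by show ((u : G) * v) * s.1.1 * ((u : G) * v)⁻¹ = (u : G) * ((v : G) * s.1.1 * (v : G)⁻¹) * (u : G)⁻¹; group)
        (by show ((u : G) * v) * s.1.2 * ((u : G) * v)⁻¹ = (u : G) * ((v : G) * s.1.2 * (v : G)⁻¹) * (u : G)⁻¹; group)) }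
  show Nat.card P / Nat.card S ∣ Nat.card X
  have : Fintype X := Fintype.ofFinite X
  have : Fintype (Quotient (MulAction.orbitRel P X)) := Fintype.ofFinite _
  rw [Nat.card_congr (MulAction.selfEquivSigmaOrbits' P X), Nat.card_sigma]
  refine Finset.dvd_sum fun ω _ => ?_
  induction ω using Quotient.inductionOn' with | h s => ?_
  rw [MulAction.orbitRel.Quotient.orbit_mk, Nat.card_coe_set_eq, ← MulAction.index_stabilizer]
  set St := MulAction.stabilizer P s
  have hle : St.map (P : Subgroup G).subtype ≤ Subgroup.centralizer ({s.1.1} : Set G) := by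
    rintro _ ⟨u, hu, rfl⟩
    have h1 : (u : G) * s.1.1 * (u : G)⁻¹ = s.1.1 := congrArg (fun t : X => t.1.1) hu
    rw [Subgroup.mem_centralizer_singleton_iff]
    exact mul_inv_eq_iff_eq_mul.1 h1
  obtain ⟨c, hc⟩ := isConj_iff.1 s.2.1
  have hdvd : Nat.card St ∣ Nat.card (Subgroup.centralizer ({g} : Set G)) := by
    rw [← card_centralizer_conj g c, hc,
      ← Subgroup.card_map_of_injective (f := (P : Subgroup G).subtype) (Subgroup.subtype_injective _) (K := St)]
    exact Subgroup.card_dvd_of_le hle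
  obtain ⟨i, hi⟩ := IsPGroup.iff_card.1 (P.2.to_subgroup St)
  have hS : Nat.card St ∣ Nat.card S := by
    rw [Sylow.card_eq_multiplicity, hi]
    exact pow_dvd_pow p (((Fact.out : p.Prime).pow_dvd_iff_le_factorization Nat.card_pos.ne').1 (hi ▸ hdvd))
  have hPS : Nat.card S ∣ Nat.card P := by
    rw [Sylow.card_eq_multiplicity, Sylow.card_eq_multiplicity]
    exact pow_dvd_pow p ((Nat.factorization_le_iff_dvd Nat.card_pos.ne' Nat.card_pos.ne').2
      (Subgroup.card_subgroup_dvd_card _) p)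
  obtain ⟨x, hx⟩ := hS
  obtain ⟨y, hy⟩ := hPS
  have hidx : Nat.card P = St.index * Nat.card St := St.index_mul_card.symm
  have hxy : St.index = x * y := by
    apply Nat.eq_of_mul_eq_mul_right (Nat.card_pos (α := St))
    rw [← hidx, hy, hx]; ring
  exact ⟨x, by rw [hxy, hy, Nat.mul_div_cancel_left _ Nat.card_pos, mul_comm]⟩

end Cfsg.Agent.S0957
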