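import Cfsg.Statements.S0959
import Cfsg.Agent.Blocks.SectionVanish

set_option autoImplicit false
open Cfsg

namespace Cfsg.Agent.S0959

/-- Let B be a block of the finite group G with defect group D (relative to a maximal ideal M of the algebraic integers containing the prime p), and let P be a p-subgroup. Then there is an element g whose idempotent coefficient for B is a local integer outside the local ideal at M and which has a conjugate centralizing P, if and only if some conjugate of P is contained in D. -/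
theorem result {G : Type*} [Group G] [Finite G] (p : ℕ) [Fact p.Prime] (M : Ideal Cfsg.AlgInt) (hM : Cfsg.IsPModular p M) (B : Set (Cfsg.IrrCharacter G)) (hB : Cfsg.IsPBlock M B) (D : Subgroup G) (hD : Cfsg.IsDefectGroup p M B D) (P : Subgroup G) (hP : IsPGroup p P) : (∃ g : G, Cfsg.MemLocalRing M (Cfsg.blockCoeff B g) ∧ ¬ Cfsg.MemLocalIdeal M (Cfsg.blockCoeff B g) ∧ ∃ c : G, IsConj g c ∧ c ∈ Subgroup.centralizer (P : Set G)) ↔ ∃ x : G, P.map (MulAut.conj x).toMonoidHom ≤ D := by
  classical
  have := Fintype.ofFinite G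
  constructor
  · rintro ⟨g, -, hg, c, hgc, hc⟩
    refine Blocks.exists_conj_le_of_centralizer hM hB hD (c := c) ?_ hP fun u hu =>
      Subgroup.mem_centralizer_singleton_iff.2 (Subgroup.mem_centralizer_iff.1 hc u hu)
    rwa [← Char.classFun_isConj (Blocks.isClassFunction_blockCoeff B) hgc]
  · rintro ⟨k, hk⟩
    obtain ⟨y, hy, hyD⟩ := DefectThms.isDefectGroup_iff.1 hD
    refine ⟨y, hy.1, hy.2.1, k⁻¹ * y * k, isConj_iff.2 ⟨k⁻¹, by simp⟩,
      Subgroup.mem_centralizer_iff.2 fun u hu => ?_⟩
    have h := Subgroup.mem_centralizer_singleton_iff.1 (hyD.1 (hk ⟨u, hu, rfl⟩))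
    simp only [MulEquiv.coe_toMonoidHom, MulAut.conj_apply] at h
    calc u * (k⁻¹ * y * k) = k⁻¹ * (k * u * k⁻¹ * y) * k := by group
      _ = k⁻¹ * y * k * u := by rw [h]; group

end Cfsg.Agent.S0959
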