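import Cfsg.Statements.S0961
import Cfsg.Agent.Blocks.Projection
import Cfsg.Agent.Char.Gen

set_option autoImplicit false
open Cfsg

namespace Cfsg.Agent.S0961

/-- Let χ be an irreducible character of the finite group G and let p ^ a be the largest power of the prime p dividing the order of G. Then the function equal to p ^ a * χ x at elements x of order prime to p and to 0 elsewhere is a generalized character (a difference of characters). -/
theorem result {G : Type*} [Group G] [Finite G] (p : ℕ) [Fact p.Prime] (χ : Cfsg.IrrCharacter G) : Cfsg.IsGeneralizedCharacter G (fun x : G => if p ∣ orderOf x then 0 else ((p ^ (Nat.card G).factorization p : ℕ) : ℂ) * (χ : G → ℂ) x) := by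
  classical
  have := Fintype.ofFinite G
  have hp : p.Prime := Fact.out
  refine Char.isGeneralized_iff.2 ⟨fun g k => ?_, fun ψ => ?_⟩
  · simp only [Blocks.orderOf_conj', Char.isClassFunction_of_isIrr χ.2 g k]
  · obtain ⟨n, hn⟩ := Blocks.regularSum_int hp (Char.isCharacter_mul
      (Char.IsIrr.isCharacter χ.2) (Char.isCharacter_conj (Char.IsIrr.isCharacter ψ.2)))
    refine ⟨n, ?_⟩
    rw [← hn, Cfsg.classInner, Finset.sum_filter, Finset.mul_sum, Finset.mul_sum]
    refine Finset.sum_congr rfl fun x _ => ?_
    by_cases hx : p ∣ orderOf x
    · simp [hx]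
    · simp [hx]; ring

end Cfsg.Agent.S0961
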