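import Cfsg.Statements.S0981
import Mathlib
import Cfsg.Agent.SmallOrder.Order4080
import Cfsg.Agent.S0727
import Cfsg.Agent.Classical.SubfieldPSL

set_option autoImplicit false
open Cfsg

namespace Cfsg.Agent.S0981

open Cfsg.Agent.SmallOrder in
theorem psl_equiv_pgl {K F : Type*} [Field K] [Fintype K] [Field F] [Fintype F] (hK : Fintype.card K = 16) (hF : Fintype.card F = 16) :
    Nonempty (Matrix.ProjGenLinGroup (Fin 2) K ≃* Matrix.ProjectiveSpecialLinearGroup (Fin 2) F) := by
  classical
  haveI : Finite (Matrix.ProjGenLinGroup (Fin 2) K) := Finite.of_surjective _ Matrix.ProjGenLinGroup.mk_surjective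
  haveI : Finite (Matrix.ProjGenLinGroup (Fin 2) F) := Finite.of_surjective _ Matrix.ProjGenLinGroup.mk_surjective
  obtain ⟨ι⟩ := Classical.SubfieldPSL.exists_ringHom (F := F) (K := K) (m := 1) (by rw [pow_one, hK, hF])
  have hcard : Nat.card (Matrix.ProjGenLinGroup (Fin 2) K) = Nat.card (Matrix.ProjGenLinGroup (Fin 2) F) := by
    obtain ⟨ι'⟩ := Classical.SubfieldPSL.exists_ringHom (F := K) (K := F) (m := 1) (by rw [pow_one, hK, hF])
    exact le_antisymm (Nat.card_le_card_of_injective _ (Classical.SubfieldPSL.pglMap_injective ι))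
      (Nat.card_le_card_of_injective _ (Classical.SubfieldPSL.pglMap_injective ι'))
  have e1 := MulEquiv.ofBijective (Classical.SubfieldPSL.pglMap ι) ((Nat.bijective_iff_injective_and_card _).2
    ⟨Classical.SubfieldPSL.pglMap_injective ι, hcard⟩)
  have hsurj : Function.Surjective (Matrix.ProjectiveSpecialLinearGroup.toPGL (n := Fin 2) (R := F)) := by
    intro x
    induction x using Matrix.ProjGenLinGroup.induction_on with | mk g => ?_
    have h2 : ringChar F = 2 := by
      obtain ⟨p, hp⟩ := CharP.exists F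
      obtain ⟨a, hpp, ha⟩ := FiniteField.card F p
      rw [ringChar.eq F p]
      refine (Nat.prime_dvd_prime_iff_eq hpp Nat.prime_two).1 (hpp.dvd_of_dvd_pow (n := 4) ?_)
      rw [show 2 ^ 4 = Fintype.card F by rw [hF]; norm_num, ha]
      exact dvd_pow_self p a.ne_zero
    exact Classical.SubfieldPSL.mem_range_toPGL (FiniteField.isSquare_of_char_two h2 _)
  exact ⟨e1.trans (MulEquiv.ofBijective _ ⟨Matrix.ProjectiveSpecialLinearGroup.toPGL_injective, hsurj⟩).symm⟩


/-- A simple group of order 4080 is isomorphic to the projective special linear group of dimension 2 over the field with 16 elements. -/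
theorem result {G : Type*} [Group G] [Finite G] [IsSimpleGroup G] (h : Nat.card G = 4080) {F : Type*} [Field F] [Fintype F] (hF : Fintype.card F = 16) : Nonempty (G ≃* Matrix.ProjectiveSpecialLinearGroup (Fin 2) F) := by
  classical
  have : Fact (Nat.Prime 2) := ⟨Nat.prime_two⟩
  obtain ⟨hn, -, -, -⟩ := SmallOrder.Order4080.two_data h
  have := Fintype.ofFinite (Sylow 2 G)
  have hcard : Fintype.card (Sylow 2 G) = 2 ^ 4 + 1 := by
    rw [← Nat.card_eq_fintype_card, hn]; norm_num
  set φ : G →* Equiv.Perm (Sylow 2 G) := MulAction.toPermHom G (Sylow 2 G)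
  have hφ : ∀ g S, φ g S = g • S := fun g S => rfl
  have hfix : ∀ (x : Fin 3 ↪ Sylow 2 G) (g : G), (∀ i, g • x i = x i) → g = 1 := fun x g hg =>
    SmallOrder.Order4080.eq_one_of_fix_three h (x.injective.ne (by decide : (0 : Fin 3) ≠ 1))
      (x.injective.ne (by decide : (0 : Fin 3) ≠ 2)) (x.injective.ne (by decide : (1 : Fin 3) ≠ 2)) (hg 0) (hg 1) (hg 2)
  obtain ⟨x₀⟩ : Nonempty (Fin 3 ↪ Sylow 2 G) := Function.Embedding.nonempty_of_card_le (by simp [hcard])
  have hinj : Function.Injective φ := (injective_iff_map_eq_one φ).2 fun g hg =>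
    hfix x₀ g fun i => by rw [← hφ, hg]; rfl
  have hsharp : ∀ x : Fin 3 ↪ Sylow 2 G, MulAction.stabilizer φ.range x = ⊥ := by
    intro x
    rw [Subgroup.eq_bot_iff_forall]
    rintro ⟨_, g, rfl⟩ hg
    have : g = 1 := hfix x g fun i => by
      have := congrArg (fun e : Fin 3 ↪ Sylow 2 G => e i) (MulAction.mem_stabilizer_iff.1 hg)
      exact this
    exact Subtype.ext (by simp [this])
  have h3 : MulAction.IsMultiplyPretransitive φ.range (Sylow 2 G) 3 := by
    refine ⟨fun x y => ?_⟩
    let f : φ.range → (Fin 3 ↪ Sylow 2 G) := fun g => g • x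
    have hf : Function.Injective f := fun a b e => by
      have : b⁻¹ * a ∈ MulAction.stabilizer φ.range x := by
        rw [MulAction.mem_stabilizer_iff, mul_smul]
        show b⁻¹ • f a = x
        rw [e]
        exact inv_smul_smul b x
      rw [hsharp, Subgroup.mem_bot, inv_mul_eq_one] at this
      exact this.symm
    have hc : Nat.card φ.range = Nat.card (Fin 3 ↪ Sylow 2 G) := by
      rw [← Nat.card_congr (MonoidHom.ofInjective hinj).toEquiv, h, Nat.card_eq_fintype_card,
        Fintype.card_embedding_eq, hcard, Fintype.card_fin]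
      rfl
    exact ((Nat.bijective_iff_injective_and_card f).2 ⟨hf, hc⟩).2 y
  obtain ⟨K, iK, iFK, hK, ⟨e⟩⟩ := S0727.result (f := 4) (by norm_num) hcard φ.range h3 hsharp
  obtain ⟨e'⟩ := psl_equiv_pgl (K := K) (F := F) (by rw [hK]; norm_num) hF
  exact ⟨((MonoidHom.ofInjective hinj).trans e).trans e'⟩

end Cfsg.Agent.S0981
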