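import Cfsg.Statements.S0982
import Cfsg.Agent.SmallOrder.RecogPSL
-- import your own Cfsg.Agent.* helpers here

set_option autoImplicit false
open Cfsg

namespace Cfsg.Agent.S0982

open Cfsg.Agent.SmallOrder

theorem base23 : RecogPSL.Base 23 11 2 5 := by decide +kernel

theorem check23 : RecogPSL.Check 23 11 2 5 := by decide +kernel

theorem divisors23 : ∀ n : ℕ, n < 11 * (23 + 1) + 1 → n ∣ 11 * (23 + 1) → n % 23 = 1 →
    n = 1 ∨ n = 23 + 1 := by decide +kernel

/-- A simple group of order 6072 is isomorphic to the projective special linear group of dimension 2 over the field with 23 elements. -/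
theorem result {G : Type*} [Group G] [Finite G] [IsSimpleGroup G] (h : Nat.card G = 6072) {F : Type*} [Field F] [Fintype F] (hF : Fintype.card F = 23) : Nonempty (G ≃* Matrix.ProjectiveSpecialLinearGroup (Fin 2) F) := by
  have : Fact (Nat.Prime 23) := ⟨by norm_num⟩
  exact RecogPSL.iso_psl (p := 23) (m := 11) (by norm_num) (by norm_num) base23 check23
    (by rw [h]) divisors23 hF

end Cfsg.Agent.S0982
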