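
import Cfsg.Statements.S0986
import Cfsg.Agent.SmallOrder.Elements

set_option autoImplicit false
open Cfsg

namespace Cfsg.Agent.S0986

/-- Let P and Q be distinct Sylow p-subgroups of a finite group G chosen so that the order of P ∩ Q is as large as possible among intersections of two distinct Sylow p-subgroups, and let N be the normalizer of P ∩ Q. Then N has more than one Sylow p-subgroup, any two distinct Sylow p-subgroups of N intersect exactly in P ∩ Q, and each Sylow p-subgroup of N lies in exactly one Sylow p-subgroup of G. -/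
theorem result {G : Type*} [Group G] [Finite G] (p : ℕ) [Fact p.Prime] (P Q : Sylow p G) (hPQ : P ≠ Q) (hmax : ∀ P' Q' : Sylow p G, P' ≠ Q' → Nat.card ↥((P' : Subgroup G) ⊓ (Q' : Subgroup G)) ≤ Nat.card ↥((P : Subgroup G) ⊓ (Q : Subgroup G))) : 1 < Nat.card (Sylow p ↥(Subgroup.normalizer (((P : Subgroup G) ⊓ (Q : Subgroup G) : Subgroup G) : Set G))) ∧ (∀ S T : Sylow p ↥(Subgroup.normalizer (((P : Subgroup G) ⊓ (Q : Subgroup G) : Subgroup G) : Set G)), S ≠ T → (S : Subgroup _) ⊓ (T : Subgroup _) = ((P : Subgroup G) ⊓ (Q : Subgroup G)).subgroupOf (Subgroup.normalizer (((P : Subgroup G) ⊓ (Q : Subgroup G) : Subgroup G) : Set G))) ∧ ∀ S : Sylow p ↥(Subgroup.normalizer (((P : Subgroup G) ⊓ (Q : Subgroup G) : Subgroup G) : Set G)), ∃! T : Sylow p G, (S : Subgroup _).map (Subgroup.normalizer (((P : Subgroup G) ⊓ (Q : Subgroup G) : Subgroup G) : Set G)).subtype ≤ (T : Subgroup G) := by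
  classical
  have hp : p.Prime := Fact.out
  set D := (P : Subgroup G) ⊓ (Q : Subgroup G) with hD
  set N := Subgroup.normalizer (D : Set G) with hN
  have hDp : IsPGroup p D := P.isPGroup'.to_le inf_le_left
  -- in every Sylow subgroup above it, `D` is properly contained in its normaliser
  have hgrow : ∀ R : Sylow p G, D ≤ R → D ≠ (R : Subgroup G) → D < (R : Subgroup G) ⊓ N := by
    intro R hle hne
    have h1 : D.subgroupOf (R : Subgroup G) < Subgroup.normalizer
        (D.subgroupOf (R : Subgroup G) : Set (R : Subgroup G)) := by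
      have := R.isPGroup'.isNilpotent
      refine Group.normalizerCondition_of_isNilpotent _ ?_
      rw [lt_top_iff_ne_top, Ne, Subgroup.subgroupOf_eq_top]
      exact fun h => hne (le_antisymm hle h)
    rw [← Subgroup.subgroupOf_normalizer_eq hle] at h1
    refine lt_of_le_of_ne (le_inf hle Subgroup.le_normalizer) fun h => h1.ne ?_
    ext x
    simp only [Subgroup.mem_subgroupOf]
    exact ⟨fun hx => Subgroup.le_normalizer hx, fun hx => h.ge ⟨x.2, hx⟩⟩
  have hne : ∀ R : Sylow p G, D ≠ (R : Subgroup G) := by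
    intro R h
    have hcard : ∀ S : Sylow p G, Nat.card (S : Subgroup G) = Nat.card D := fun S => by
      rw [h]; exact Nat.card_congr (Sylow.equiv S R).toEquiv
    have h1 : D = (P : Subgroup G) := Subgroup.eq_of_le_of_card_ge inf_le_left (hcard P).le
    have h2 : D = (Q : Subgroup G) := Subgroup.eq_of_le_of_card_ge inf_le_right (hcard Q).le
    exact hPQ (Sylow.ext (h1.symm.trans h2))
  -- Sylow subgroups with a bigger common part coincide
  have hbig : ∀ R S : Sylow p G, ∀ K : Subgroup G, D < K → K ≤ R → K ≤ S → R = S := by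
    intro R S K hlt hR hS
    by_contra h
    have h1 := hmax R S h
    have h2 : Nat.card D < Nat.card K := by
      by_contra! hle
      exact hlt.ne (Subgroup.eq_of_le_of_card_ge hlt.le hle)
    have h3 := Subgroup.card_le_of_le (le_inf hR hS)
    omega
  have hPN := hgrow P inf_le_left (hne P)
  have hQN := hgrow Q inf_le_right (hne Q)
  -- a Sylow subgroup of `N`
  have hsub : ∀ S : Sylow p N, D < (S : Subgroup N).map N.subtype := by
    intro S
    have hDn : (D.subgroupOf N).Normal := Subgroup.normal_in_normalizer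
    have hle : D.subgroupOf N ≤ (S : Subgroup N) :=
      (hDp.of_equiv (Subgroup.subgroupOfEquivOfLe Subgroup.le_normalizer).symm).le_sylow_of_normal S
    have hle' : D ≤ (S : Subgroup N).map N.subtype := by
      intro x hx
      exact ⟨⟨x, Subgroup.le_normalizer hx⟩, hle hx, rfl⟩
    refine lt_of_le_of_ne hle' fun h => ?_
    obtain ⟨S', hS'⟩ := ((P.isPGroup'.to_le inf_le_left : IsPGroup p ↥((P : Subgroup G) ⊓ N)).of_equiv
      (Subgroup.subgroupOfEquivOfLe inf_le_right).symm).exists_le_sylow
    have h1 := Subgroup.card_le_of_le hS'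
    rw [Nat.card_congr (Subgroup.subgroupOfEquivOfLe (inf_le_right : (P : Subgroup G) ⊓ N ≤ N)).toEquiv,
      Nat.card_congr (Sylow.equiv S' S).toEquiv,
      Nat.card_congr ((S : Subgroup N).equivMapOfInjective _ N.subtype_injective).toEquiv, ← h] at h1
    exact absurd (Subgroup.eq_of_le_of_card_ge hPN.le h1) hPN.ne
  have hover : ∀ S : Sylow p N, ∃! T : Sylow p G, (S : Subgroup N).map N.subtype ≤ T := by
    intro S
    obtain ⟨T, hT⟩ := (S.isPGroup'.map N.subtype).exists_le_sylow
    exact ⟨T, hT, fun T' hT' => hbig T' T _ (hsub S) hT' hT⟩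
  refine ⟨?_, ?_, hover⟩
  · rw [Finite.one_lt_card_iff_nontrivial]
    obtain ⟨S, hS⟩ := ((P.isPGroup'.to_le inf_le_left : IsPGroup p ↥((P : Subgroup G) ⊓ N)).of_equiv
      (Subgroup.subgroupOfEquivOfLe inf_le_right).symm).exists_le_sylow
    obtain ⟨T, hT⟩ := ((Q.isPGroup'.to_le inf_le_left : IsPGroup p ↥((Q : Subgroup G) ⊓ N)).of_equiv
      (Subgroup.subgroupOfEquivOfLe inf_le_right).symm).exists_le_sylow
    refine ⟨⟨S, T, fun h => hPQ ?_⟩⟩
    subst h
    obtain ⟨R, hR⟩ := (S.isPGroup'.map N.subtype).exists_le_sylow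
    have hP' : (P : Subgroup G) ⊓ N ≤ R := fun x hx => hR ⟨⟨x, hx.2⟩, hS hx, rfl⟩
    have hQ' : (Q : Subgroup G) ⊓ N ≤ R := fun x hx => hR ⟨⟨x, hx.2⟩, hT hx, rfl⟩
    exact (hbig P R _ hPN inf_le_left hP').trans (hbig Q R _ hQN inf_le_left hQ').symm
  · intro S T hST
    refine le_antisymm ?_ (le_inf ?_ ?_)
    · intro x hx
      obtain ⟨R, hR, hR'⟩ := hover S
      obtain ⟨U, hU, hU'⟩ := hover T
      by_cases h : R = U
      · -- both lie in one Sylow subgroup, hence are equal
        exfalso
        subst h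
        have hp' : IsPGroup p ↥((R : Subgroup G).subgroupOf N) :=
          R.isPGroup'.comap_of_injective N.subtype N.subtype_injective
        have h1 : (S : Subgroup N) = (R : Subgroup G).subgroupOf N :=
          (S.is_maximal' hp' fun y hy => hR ⟨y, hy, rfl⟩).symm
        have h2 : (T : Subgroup N) = (R : Subgroup G).subgroupOf N :=
          (T.is_maximal' hp' fun y hy => hU ⟨y, hy, rfl⟩).symm
        exact hST (Sylow.ext (h1.trans h2.symm))
      · have h1 : D ≤ (R : Subgroup G) ⊓ U := le_inf ((hsub S).le.trans hR) ((hsub T).le.trans hU)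
        have h2 : D = (R : Subgroup G) ⊓ U := Subgroup.eq_of_le_of_card_ge h1 (hmax R U h)
        show (x : G) ∈ D
        rw [h2]
        exact ⟨hR ⟨x, hx.1, rfl⟩, hU ⟨x, hx.2, rfl⟩⟩
    · intro x hx
      obtain ⟨y, hy, hyx⟩ := (hsub S).le (show (x : G) ∈ D from hx)
      obtain rfl : y = x := Subtype.ext hyx
      exact hy
    · intro x hx
      obtain ⟨y, hy, hyx⟩ := (hsub T).le (show (x : G) ∈ D from hx)
      obtain rfl : y = x := Subtype.ext hyx
      exact hy


end Cfsg.Agent.S0986
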