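
import Cfsg.Statements.S0987
import Cfsg.Agent.SmallOrder.Elements

set_option autoImplicit false
open Cfsg

namespace Cfsg.Agent.S0987

/-- If a finite group has order pqr for primes p < q < r, then its Sylow r-subgroups are normal. -/
theorem result {G : Type*} [Group G] [Finite G] (p q r : ℕ) (hp : p.Prime) (hq : q.Prime) [Fact r.Prime] (hpq : p < q) (hqr : q < r) (hG : Nat.card G = p * q * r) (R : Sylow r G) : (R : Subgroup G).Normal := by
  classical
  have hr : r.Prime := Fact.out
  have hqF : Fact q.Prime := ⟨hq⟩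
  have hp2 := hp.two_le
  have hq2 := hq.two_le
  have hr2 := hr.two_le
  have hnr : ¬ r ∣ p * q := by
    intro h
    rcases hr.dvd_mul.1 h with h | h
    · exact (Nat.le_of_dvd (by omega) h).not_gt (hpq.trans hqr)
    · exact (Nat.le_of_dvd (by omega) h).not_gt hqr
  have hnq : ¬ q ∣ p * r := by
    intro h
    rcases hq.dvd_mul.1 h with h | h
    · exact (Nat.le_of_dvd (by omega) h).not_gt hpq
    · have := (Nat.prime_dvd_prime_iff_eq hq hr).1 h
      omega
  have hGr : Nat.card G = r ^ 1 * (p * q) := by rw [hG]; ring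
  have hGq : Nat.card G = q ^ 1 * (p * r) := by rw [hG]; ring
  by_cases h1 : Nat.card (Sylow r G) = 1
  · have : Subsingleton (Sylow r G) := (Nat.card_eq_one_iff_unique.1 h1).1
    exact Sylow.normal_of_subsingleton R
  exfalso
  have hnr' : Nat.card (Sylow r G) = p * q := by
    have hd := SmallOrder.card_sylow_dvd hGr hnr
    have hm := SmallOrder.card_sylow_mod (G := G) r
    obtain ⟨a, b, ha, hb, hab⟩ := Nat.dvd_mul.1 hd
    rcases (Nat.dvd_prime hp).1 ha with rfl | rfl <;>
      rcases (Nat.dvd_prime hq).1 hb with rfl | rfl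
    · simp at hab; omega
    · rw [one_mul] at hab; rw [← hab, Nat.mod_eq_of_lt hqr] at hm; omega
    · rw [mul_one] at hab; rw [← hab, Nat.mod_eq_of_lt (hpq.trans hqr)] at hm; omega
    · exact hab.symm
  by_cases h2 : Nat.card (Sylow q G) = 1
  · obtain ⟨Q⟩ : Nonempty (Sylow q G) := Sylow.nonempty
    have : Subsingleton (Sylow q G) := (Nat.card_eq_one_iff_unique.1 h2).1
    have hQn : (Q : Subgroup G).Normal := Sylow.normal_of_subsingleton Q
    have hQc : Nat.card (Q : Subgroup G) = q := by
      rw [SmallOrder.card_sylow_eq_pow hGq hnq Q, pow_one]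
    have hRc : Nat.card (R : Subgroup G) = r := by
      rw [SmallOrder.card_sylow_eq_pow hGr hnr R, pow_one]
    have hdis : (Q : Subgroup G) ⊓ R = ⊥ :=
      Subgroup.inf_eq_bot_of_coprime (by rw [hQc, hRc]; exact (Nat.coprime_primes hq hr).2 hqr.ne)
    set K := (Q : Subgroup G) ⊔ R with hK
    have hKc : Nat.card K = q * r := by
      have h3 := ((Q : Subgroup G).subgroupOf K).card_mul_index
      rw [Nat.card_congr (Subgroup.subgroupOfEquivOfLe (le_sup_left : (Q : Subgroup G) ≤ K)).toEquiv,
        hQc] at h3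
      rw [← h3]
      congr 1
      show (Q : Subgroup G).relIndex K = r
      rw [hK, sup_comm, Subgroup.relIndex_sup_right, Subgroup.relIndex, ← Subgroup.inf_subgroupOf_right, hdis,
        Subgroup.bot_subgroupOf, Subgroup.index_bot, hRc]
    have hKn : K.Normal := by
      refine Subgroup.normal_of_index_eq_minFac_card ?_
      have h3 := K.card_mul_index
      rw [hKc, hG] at h3
      have h4 : K.index = p := Nat.eq_of_mul_eq_mul_left (by positivity) (h3.trans (by ring))
      rw [h4, hG]
      symm
      refine le_antisymm (Nat.minFac_le_of_dvd hp2 (dvd_mul_of_dvd_left (dvd_mul_right p q) r)) ?_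
      have hne1 : p * q * r ≠ 1 := by
        simp [hp.ne_one]
      have hmp := Nat.minFac_prime hne1
      have hmd := Nat.minFac_dvd (p * q * r)
      rcases hmp.dvd_mul.1 hmd with h5 | h5
      · rcases hmp.dvd_mul.1 h5 with h6 | h6
        · exact ((Nat.prime_dvd_prime_iff_eq hmp hp).1 h6).ge
        · rw [(Nat.prime_dvd_prime_iff_eq hmp hq).1 h6]; omega
      · rw [(Nat.prime_dvd_prime_iff_eq hmp hr).1 h5]; omega
    have hall : ∀ S : Sylow r G, (S : Subgroup G) ≤ K := by
      intro S
      obtain ⟨g, rfl⟩ := MulAction.exists_smul_eq G R S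
      rw [Sylow.coe_subgroup_smul]
      intro x hx
      obtain ⟨y, hy, rfl⟩ := hx
      exact hKn.conj_mem y (le_sup_right (a := (Q : Subgroup G)) hy) g
    have h3 : Nat.card (Sylow r G) ≤ Nat.card (Sylow r K) :=
      Nat.card_le_card_of_injective (fun S => S.subtype (hall S))
        fun S T h => Sylow.subtype_injective h
    have h4 : Nat.card (Sylow r K) = 1 := by
      have hq' : ¬ r ∣ q := fun h => (Nat.le_of_dvd (by omega) h).not_gt hqr
      have hd := SmallOrder.card_sylow_dvd (p := r) (a := 1) (m := q)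
        (by rw [hKc, pow_one, mul_comm]) hq'
      rcases (Nat.dvd_prime hq).1 hd with h | h
      · exact h
      · have hm := SmallOrder.card_sylow_mod (G := K) r
        rw [h, Nat.mod_eq_of_lt hqr] at hm; omega
    rw [hnr', h4] at h3
    nlinarith
  · have hd := SmallOrder.card_sylow_dvd hGq hnq
    have hm := SmallOrder.card_sylow_mod (G := G) q
    have hge : r ≤ Nat.card (Sylow q G) := by
      obtain ⟨a, b, ha, hb, hab⟩ := Nat.dvd_mul.1 hd
      rcases (Nat.dvd_prime hp).1 ha with rfl | rfl <;>
        rcases (Nat.dvd_prime hr).1 hb with rfl | rfl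
      · simp at hab; omega
      · omega
      · rw [mul_one] at hab; rw [← hab, Nat.mod_eq_of_lt hpq] at hm; omega
      · rw [← hab]; exact Nat.le_mul_of_pos_left _ (by omega)
    have h5 := SmallOrder.card_orderOf_disjoint_le (G := G) {q, r}
    rw [Finset.sum_pair hqr.ne, SmallOrder.card_orderOf_eq_mul (fun P => by
        rw [SmallOrder.card_sylow_eq_pow hGq hnq P, pow_one]),
      SmallOrder.card_orderOf_eq_mul (fun P => by
        rw [SmallOrder.card_sylow_eq_pow hGr hnr P, pow_one]), hnr', hG] at h5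
    obtain ⟨q', rfl⟩ : ∃ q', q = q' + 1 := ⟨q - 1, by omega⟩
    obtain ⟨r', rfl⟩ : ∃ r', r = r' + 1 := ⟨r - 1, by omega⟩
    simp only [Nat.add_sub_cancel] at h5
    nlinarith [Nat.mul_le_mul_right q' hge, mul_le_mul (show q' + 2 ≤ r' + 1 by omega) (le_refl q') (Nat.zero_le _) (Nat.zero_le _), mul_le_mul (show p ≤ q' by omega) (le_refl (q'+1)) (Nat.zero_le _) (Nat.zero_le _)]

end Cfsg.Agent.S0987
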