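
import Cfsg.Statements.S0988
import Cfsg.Agent.SmallOrder.Two

set_option autoImplicit false
open Cfsg

namespace Cfsg.Agent.S0988

/-- If a finite simple group has order p^2 * q * r with p, q and r prime, then its order is 60. -/
theorem result {G : Type*} [Group G] [Finite G] [IsSimpleGroup G] (p q r : ℕ) (hp : p.Prime) (hq : q.Prime) (hr : r.Prime) (hG : Nat.card G = p ^ 2 * q * r) : Nat.card G = 60 := by
  classical
  have hnpr : ¬ (Nat.card G).Prime := by
    rw [hG]
    exact Nat.not_prime_mul (fun h => hq.ne_one (Nat.eq_one_of_mul_eq_one_left h)) hr.ne_one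
  have hna := SmallOrder.not_comm_of_card hnpr
  have hpq : p ≠ q := fun h => SmallOrder.three_primes hna hp hr (a := 3) (b := 1)
    (by rw [hG, h]; ring)
  have hpr : p ≠ r := fun h => SmallOrder.three_primes hna hp hq (a := 3) (b := 1)
    (by rw [hG, h]; ring)
  have hqr : q ≠ r := fun h => SmallOrder.three_primes hna hp hq (a := 2) (b := 2)
    (by rw [hG, h]; ring)
  have hpF : Fact p.Prime := ⟨hp⟩
  -- a prime dividing the order once is not the smallest
  have hsmall : ∀ (s m : ℕ), s.Prime → Nat.card G = s * m → ¬ s ∣ m →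
      (Nat.card G).minFac ≠ s := by
    intro s m hs hsm hnd hmin
    have : Fact s.Prime := ⟨hs⟩
    obtain ⟨S⟩ : Nonempty (Sylow s G) := Sylow.nonempty
    refine SmallOrder.not_isCyclic_sylow hna hmin S (isCyclic_of_prime_card (p := s) ?_)
    rw [SmallOrder.card_sylow_eq_pow (a := 1) (by rw [pow_one]; exact hsm) hnd S, pow_one]
  have hnd : ∀ {s t : ℕ}, s.Prime → t.Prime → s ≠ t → ¬ s ∣ t := fun hs ht hne h =>
    hne ((Nat.prime_dvd_prime_iff_eq hs ht).1 h)
  have hnp : ¬ p ∣ q * r := fun h => (hp.dvd_mul.1 h).elim (hnd hp hq hpq) (hnd hp hr hpr)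
  have hne1 : Nat.card G ≠ 1 := fun h => hna ⟨⟨fun a b => by
    have := (Nat.card_eq_one_iff_unique.1 h).1
    exact Subsingleton.elim _ _⟩⟩
  have hmin : (Nat.card G).minFac = p := by
    have hm := Nat.minFac_prime hne1
    have hd : (Nat.card G).minFac ∣ p ^ 2 * q * r := hG ▸ Nat.minFac_dvd _
    rcases hm.dvd_mul.1 hd with h | h
    · rcases hm.dvd_mul.1 h with h | h
      · exact (Nat.prime_dvd_prime_iff_eq hm hp).1 (hm.dvd_of_dvd_pow h)
      · refine absurd ((Nat.prime_dvd_prime_iff_eq hm hq).1 h)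
          (hsmall q (p ^ 2 * r) hq (by rw [hG]; ring) fun hd => ?_)
        exact (hq.dvd_mul.1 hd).elim (fun h => hnd hq hp hpq.symm (hq.dvd_of_dvd_pow h))
          (hnd hq hr hqr)
    · refine absurd ((Nat.prime_dvd_prime_iff_eq hm hr).1 h)
        (hsmall r (p ^ 2 * q) hr (by rw [hG]; ring) fun hd => ?_)
      exact (hr.dvd_mul.1 hd).elim (fun h => hnd hr hp hpr.symm (hr.dvd_of_dvd_pow h))
        (hnd hr hq hqr.symm)
  have hlt : ∀ s, s.Prime → s ∣ Nat.card G → s ≠ p → p < s := fun s hs hd hne =>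
    lt_of_le_of_ne (hmin ▸ Nat.minFac_le_of_dvd hs.two_le hd) hne.symm
  obtain ⟨P⟩ : Nonempty (Sylow p G) := Sylow.nonempty
  have hG' : Nat.card G = p ^ 2 * (q * r) := by rw [hG, mul_assoc]
  have hPc := SmallOrder.card_sylow_eq_pow hG' hnp P
  have hnc := SmallOrder.not_isCyclic_sylow hna hmin P
  have hp' : p ∣ Nat.card G := hG' ▸ dvd_mul_of_dvd_left (dvd_pow_self p two_ne_zero) _
  -- some prime acts nontrivially on `P`
  obtain ⟨g, hgN, hgC⟩ := SetLike.not_le_iff_exists.1
    (SmallOrder.not_normalizer_le_centralizer hna hp' P)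
  let σ : MulAut (P : Subgroup G) := (P : Subgroup G).normalizerMonoidHom ⟨g, hgN⟩
  have hσ : σ ≠ 1 := fun h => hgC (by
    have : (⟨g, hgN⟩ : Subgroup.normalizer ((P : Subgroup G) : Set G)) ∈
        (P : Subgroup G).normalizerMonoidHom.ker := h
    rwa [Subgroup.normalizerMonoidHom_ker, Subgroup.mem_subgroupOf] at this)
  -- its order is prime to `p` since the abelian `P` is centralised by itself
  have hcomm : IsMulCommutative (P : Subgroup G) := by
    exact IsPGroup.isMulCommutative_of_card_eq_prime_sq hPc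
  have hord : ¬ p ∣ orderOf σ := by
    intro h
    have h1 : orderOf σ ∣ Nat.card (P : Subgroup G).normalizerMonoidHom.range :=
      Subgroup.orderOf_dvd_natCard _ ⟨_, rfl⟩
    rw [← Subgroup.index_ker, Subgroup.normalizerMonoidHom_ker] at h1
    refine P.not_dvd_index ((h.trans h1).trans ((Subgroup.relIndex_dvd_of_le_left _ ?_).trans
      (Subgroup.relIndex_dvd_index_of_le Subgroup.le_normalizer)))
    exact fun a ha => Subgroup.mem_centralizer_iff.2 fun b hb =>
      (congrArg Subtype.val (hcomm.is_comm.comm ⟨a, ha⟩ ⟨b, hb⟩)).symm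
  obtain ⟨s, hs, hsd⟩ := Nat.exists_prime_and_dvd (n := orderOf σ)
    (fun h => hσ (orderOf_eq_one_iff.1 h))
  have hsp : s ≠ p := fun h => hord (h ▸ hsd)
  have hsG : s ∣ Nat.card G := by
    refine hsd.trans ((orderOf_map_dvd _ _).trans ?_)
    exact (Subgroup.orderOf_mk g hgN) ▸ orderOf_dvd_natCard g
  have hps := hlt s hs hsG hsp
  set τ := σ ^ (orderOf σ / s) with hτ
  have hτo : orderOf τ = s := orderOf_pow_orderOf_div (orderOf_pos σ).ne' hsd
  have : Fact s.Prime := ⟨hs⟩
  have hmod := (IsPGroup.of_card (n := 1) (by rw [Nat.card_zpowers, hτo, pow_one]) :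
    IsPGroup s (Subgroup.zpowers τ)).card_modEq_card_fixedPoints (P : Subgroup G)
  let F : Subgroup (P : Subgroup G) :=
    { carrier := {x | τ x = x}
      one_mem' := map_one τ
      mul_mem' := fun {a b} (ha : τ a = a) (hb : τ b = b) => by
        show τ (a * b) = a * b
        rw [map_mul, ha, hb]
      inv_mem' := fun {a} (ha : τ a = a) => by
        show τ a⁻¹ = a⁻¹
        rw [map_inv, ha] }
  have hF : MulAction.fixedPoints (Subgroup.zpowers τ) (P : Subgroup G) =
      (F : Set (P : Subgroup G)) := by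
    ext x
    refine ⟨fun h => h ⟨τ, Subgroup.mem_zpowers τ⟩, fun h => ?_⟩
    rintro ⟨g, hg⟩
    exact (Subgroup.zpowers_le.2 h : Subgroup.zpowers τ ≤ MulAction.stabilizer _ x) hg
  rw [hF, hPc] at hmod
  obtain ⟨i, hi, hiF⟩ := (Nat.dvd_prime_pow hp).1 ((F.card_subgroup_dvd_card).trans hPc.dvd)
  have hmod' : p ^ i ≡ p ^ 2 [MOD s] := by rw [← hiF]; exact hmod.symm
  have hcop : Nat.Coprime s p := (Nat.coprime_primes hs hp).2 hsp
  have hi2 : i ≠ 2 := by
    rintro rfl
    have hall : F = ⊤ := Subgroup.eq_top_of_card_eq F (hiF.trans hPc.symm)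
    have : τ = 1 := MulEquiv.ext fun x => (hall.symm ▸ Subgroup.mem_top x : x ∈ F)
    rw [this, orderOf_one] at hτo
    exact hs.ne_one hτo.symm
  have hp23 : p = 2 ∧ s = 3 := by
    have hd := (Nat.modEq_iff_dvd' (Nat.pow_le_pow_right hp.pos hi)).1 hmod'
    interval_cases i
    · rw [pow_zero, show p ^ 2 - 1 = (p + 1) * (p - 1) by
        simpa using Nat.sq_sub_sq p 1] at hd
      have h1 : s ∣ p + 1 := (hs.dvd_mul.1 hd).resolve_right fun h =>
        (Nat.le_of_dvd (by have := hp.two_le; omega) h).not_gt (by omega)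
      have h2 : s = p + 1 := le_antisymm (Nat.le_of_dvd (by omega) h1) hps
      rcases hp.eq_two_or_odd with h | h
      · omega
      · have := hs.eq_two_or_odd
        have := hp.two_le
        omega
    · rw [pow_one, show p ^ 2 - p = p * (p - 1) by rw [Nat.mul_sub, mul_one, sq]] at hd
      rcases hs.dvd_mul.1 hd with h | h
      · exact absurd ((Nat.prime_dvd_prime_iff_eq hs hp).1 h) hsp
      · exact absurd (Nat.le_of_dvd (by have := hp.two_le; omega) h) (by omega)
    · exact absurd rfl hi2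
  obtain ⟨rfl, rfl⟩ := hp23
  -- the order is `12 r`
  obtain ⟨r', hr', hne3, hG12⟩ : ∃ r', r'.Prime ∧ r' ≠ 3 ∧ Nat.card G = 12 * r' := by
    rw [hG'] at hsG
    rcases hs.dvd_mul.1 hsG with h | h
    · norm_num at h
    rcases hs.dvd_mul.1 h with h | h
    · obtain rfl := (Nat.prime_dvd_prime_iff_eq hs hq).1 h
      exact ⟨r, hr, hqr.symm, by rw [hG]; ring⟩
    · obtain rfl := (Nat.prime_dvd_prime_iff_eq hs hr).1 h
      exact ⟨q, hq, hqr, by rw [hG]; ring⟩
  have hne2 : r' ≠ 2 := by
    rintro rfl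
    exact SmallOrder.three_primes hna Nat.prime_two Nat.prime_three (a := 3) (b := 1)
      (by rw [hG12]; norm_num)
  have : Fact r'.Prime := ⟨hr'⟩
  have hr'5 : 5 ≤ r' := by
    have := hr'.two_le
    rcases Nat.lt_or_ge r' 5 with h | h
    · interval_cases r' <;> first | omega | norm_num at hr'
    · exact h
  have hnd12 : ¬ r' ∣ 12 := fun h => by
    have := Nat.le_of_dvd (by norm_num) h
    interval_cases r' <;> first | omega | (exact absurd hr' (by norm_num))
  obtain ⟨h1, h2, h3, -⟩ := SmallOrder.sylow_data (p := r') (a := 1) (m := 12)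
    (by rw [hG12]; ring) one_ne_zero hnd12 hna
  have hR : r' = 5 ∨ r' = 11 := by
    obtain ⟨n, hn⟩ : ∃ n, Nat.card (Sylow r' G) = n := ⟨_, rfl⟩
    rw [hn] at h1 h2 h3
    have hgt : r' < n := by
      by_contra! hle
      rcases Nat.lt_or_ge n r' with h | h
      · rw [Nat.mod_eq_of_lt h] at h2; exact h3 h2
      · rw [le_antisymm hle h, Nat.mod_self] at h2; omega
    have hn12 := Nat.le_of_dvd (by norm_num) h1
    have hlt : r' < 12 := by omega
    interval_cases r' <;> first | omega | (interval_cases n <;> omega) | (norm_num at hr')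
  rcases hR with rfl | rfl
  · rw [hG12]
  exfalso
  obtain ⟨n11, hn11⟩ : ∃ n, Nat.card (Sylow 11 G) = n := ⟨_, rfl⟩
  rw [hn11] at h1 h2 h3
  have hn12 : n11 = 12 := by
    have hle := Nat.le_of_dvd (by norm_num) h1
    interval_cases n11 <;> omega
  obtain ⟨g1, g2, g3, g4⟩ := SmallOrder.sylow_data (p := 3) (a := 1) (m := 44)
    (by rw [hG12]; norm_num) one_ne_zero (by norm_num) hna
  obtain ⟨n3, hn3⟩ : ∃ n, Nat.card (Sylow 3 G) = n := ⟨_, rfl⟩
  rw [hn3] at g1 g2 g3 g4
  have h22 : 22 ≤ n3 := by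
    by_contra! hlt
    interval_cases n3 <;> first | omega | (rw [hG12] at g4; norm_num [Nat.factorial] at g4)
  have h5 := SmallOrder.card_orderOf_disjoint_le (G := G) {3, 11}
  rw [Finset.sum_pair (by norm_num), SmallOrder.card_orderOf_eq_mul (fun P => by
      rw [SmallOrder.card_sylow_eq_pow (a := 1) (m := 44) (by rw [hG12]; norm_num) (by norm_num) P,
        pow_one]),
    SmallOrder.card_orderOf_eq_mul (fun P => by
      rw [SmallOrder.card_sylow_eq_pow (a := 1) (m := 12) (by rw [hG12]; norm_num) (by norm_num) P,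
        pow_one]), hn11, hn12, hn3, hG12] at h5
  omega


end Cfsg.Agent.S0988
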