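import Mathlib
import Cfsg.Statements.S0991

set_option autoImplicit false
open Cfsg

namespace Cfsg.Agent.S0991

/-- Embedding Theorem: if a non-abelian finite simple group has a proper subgroup of index n, then it is isomorphic to a subgroup of the alternating group of degree n. -/
theorem result {G : Type*} [Group G] [Finite G] [IsSimpleGroup G] (hG : ¬ IsMulCommutative G) (H : Subgroup G) (hH : H ≠ ⊤) : ∃ f : G →* ↥(alternatingGroup (Fin H.index)), Function.Injective f := by
  classical
  haveI : Finite (G ⧸ H) := inferInstance
  let e : (G ⧸ H) ≃ Fin H.index := Finite.equivFin (G ⧸ H)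
  let f : G →* Equiv.Perm (Fin H.index) := (e.permCongrHom : Equiv.Perm (G ⧸ H) →* Equiv.Perm (Fin H.index)).comp (MulAction.toPermHom G (G ⧸ H))
  have hk : f.ker = ⊥ := by
    rcases (Subgroup.Normal.eq_bot_or_eq_top (H := f.ker) inferInstance) with h | h
    · exact h
    · exfalso
      apply hH
      rw [eq_top_iff]
      intro g _
      have : f g = 1 := by rw [← MonoidHom.mem_ker, h]; trivial
      have h2 : MulAction.toPermHom G (G ⧸ H) g = 1 := e.permCongrHom.injective (by rw [map_one]; exact this)
      have h3 := congrArg (fun σ : Equiv.Perm (G ⧸ H) => σ ((1 : G) : G ⧸ H)) h2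
      simpa [MulAction.Quotient.smul_mk, QuotientGroup.eq] using h3
  have hf : Function.Injective f := (MonoidHom.ker_eq_bot_iff f).mp hk
  have hs : ∀ g, f g ∈ alternatingGroup (Fin H.index) := by
    intro g
    rcases (Subgroup.Normal.eq_bot_or_eq_top (H := (Equiv.Perm.sign.comp f).ker) inferInstance) with h | h
    · exfalso
      apply hG
      refine ⟨⟨fun a b => ?_⟩⟩
      apply (MonoidHom.ker_eq_bot_iff _).mp h
      simp [mul_comm]
    · have : g ∈ (Equiv.Perm.sign.comp f).ker := by rw [h]; trivial
      simpa using this
  exact ⟨f.codRestrict _ hs, fun a b hab => hf (congrArg Subtype.val hab)⟩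

end Cfsg.Agent.S0991
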