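
import Cfsg.Statements.S0995
import Cfsg.Agent.SmallOrder.Elements
import Cfsg.Agent.Invol.Count
import Cfsg.Agent.Char.Perm

set_option autoImplicit false
open Cfsg

namespace Cfsg.Agent.S0995

/-- Let G be a finite perfect group containing an element z of prime order p whose centralizer is the cyclic group it generates. Let t be the number of conjugacy classes of elements of order p. Then t divides p - 1, the number of Sylow p-subgroups has the form 1 + n * p, and |G| * t = (p - 1) * p * (1 + n * p). -/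
theorem result {G : Type*} [Group G] [Finite G] (hperf : commutator G = ⊤) (p : ℕ) [Fact p.Prime] (z : G) (hz : orderOf z = p) (hC : Subgroup.centralizer ({z} : Set G) = Subgroup.zpowers z) : ∃ n t : ℕ, t = Nat.card {c : ConjClasses G // ∃ g : G, ConjClasses.mk g = c ∧ orderOf g = p} ∧ t ∣ p - 1 ∧ Nat.card (Sylow p G) = 1 + n * p ∧ Nat.card G * t = (p - 1) * p * (1 + n * p) := by
  classical
  have hp : p.Prime := Fact.out
  have hzc : Nat.card (Subgroup.zpowers z) = p := by rw [Nat.card_zpowers, hz]
  obtain ⟨P, hP⟩ := (IsPGroup.of_card (n := 1) (by rw [hzc, pow_one]) :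
    IsPGroup p (Subgroup.zpowers z)).exists_le_sylow
  have hPz : (P : Subgroup G) = Subgroup.zpowers z := by
    refine le_antisymm ?_ hP
    have h2 : Subgroup.centralizer ((P : Subgroup G) : Set G) ≤ Subgroup.zpowers z :=
      (Subgroup.centralizer_le (Set.singleton_subset_iff.2 (hP (Subgroup.mem_zpowers z)))).trans
        hC.le
    have : Nontrivial (P : Subgroup G) := by
      rw [Subgroup.nontrivial_iff_ne_bot]
      intro h
      rw [h, le_bot_iff, Subgroup.zpowers_eq_bot] at hP
      rw [hP, orderOf_one] at hz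
      exact hp.ne_one hz.symm
    obtain ⟨c, hc, hc1⟩ := (Subgroup.bot_or_exists_ne_one (Subgroup.center (P : Subgroup G))).resolve_left
      ((Subgroup.nontrivial_iff_ne_bot _).1 P.isPGroup'.center_nontrivial)
    have hc' : (c : G) ∈ Subgroup.zpowers z := h2 (by
      rw [Subgroup.mem_centralizer_iff]
      intro x hx
      exact congrArg Subtype.val (Subgroup.mem_center_iff.1 hc ⟨x, hx⟩))
    have hc0 : (c : G) ≠ 1 := fun e => hc1 (Subtype.ext e)
    intro g hg
    rw [← hC, Subgroup.mem_centralizer_singleton_iff]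
    have h3 : Subgroup.zpowers (c : G) = Subgroup.zpowers z := by
      refine Subgroup.eq_of_le_of_card_ge (Subgroup.zpowers_le.2 hc') ?_
      rw [hzc, Nat.card_zpowers]
      refine le_of_eq (((Nat.dvd_prime hp).1 ?_).resolve_left fun e => hc0 (orderOf_eq_one_iff.1 e)).symm
      exact (Subgroup.orderOf_dvd_natCard _ hc').trans hzc.dvd
    obtain ⟨k, hk⟩ := Subgroup.mem_zpowers_iff.1
      (h3.symm ▸ Subgroup.mem_zpowers z : z ∈ Subgroup.zpowers (c : G))
    have hcg : Commute g (c : G) := congrArg Subtype.val (Subgroup.mem_center_iff.1 hc ⟨g, hg⟩)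
    rw [← hk]
    exact hcg.zpow_right k
  have hPc : ∀ S : Sylow p G, Nat.card (S : Subgroup G) = p := fun S => by
    rw [Nat.card_congr (Sylow.equiv S P).toEquiv, hPz, hzc]
  set N := Subgroup.normalizer ((P : Subgroup G) : Set G) with hN
  obtain ⟨k, hk⟩ : p ∣ Nat.card N := by
    conv_lhs => rw [← hPc P]
    exact Subgroup.card_dvd_of_le Subgroup.le_normalizer
  obtain ⟨n, hn⟩ : ∃ n, Nat.card (Sylow p G) = 1 + n * p := by
    have h1 := SmallOrder.card_sylow_mod (G := G) p
    refine ⟨Nat.card (Sylow p G) / p, ?_⟩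
    have := Nat.mod_add_div (Nat.card (Sylow p G)) p
    rw [h1, mul_comm] at this
    exact this.symm
  have hGc : Nat.card G = Nat.card (Sylow p G) * (p * k) := by
    rw [← hk, hN]; exact (SmallOrder.card_sylow_mul_card_normalizer P).symm
  -- each class of elements of order `p` has `|G| / p` members
  have hclass : ∀ g : G, orderOf g = p → Nat.card {x : G // IsConj g x} * p = Nat.card G := by
    intro g hg
    obtain ⟨S, hS⟩ := (IsPGroup.of_card (n := 1) (by rw [Nat.card_zpowers, hg, pow_one]) :
      IsPGroup p (Subgroup.zpowers g)).exists_le_sylow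
    obtain ⟨x, rfl⟩ := MulAction.exists_smul_eq G P S
    have hgx : g ∈ (x • P : Sylow p G) := hS (Subgroup.mem_zpowers g)
    rw [← SetLike.mem_coe, ← Sylow.coe_coe, Sylow.coe_subgroup_smul, SetLike.mem_coe,
      Subgroup.mem_pointwise_smul_iff_inv_smul_mem] at hgx
    have hgx' : x⁻¹ * g * x ∈ (P : Subgroup G) := by simpa [MulAut.smul_def] using hgx
    have ho : orderOf (x⁻¹ * g * x) = p := by
      rw [show x⁻¹ * g * x = MulAut.conj x⁻¹ g by simp, MulEquiv.orderOf_eq, hg]
    have hcent : Subgroup.centralizer ({x⁻¹ * g * x} : Set G) = Subgroup.zpowers z := by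
      rw [← hC]
      have h1 : Subgroup.zpowers (x⁻¹ * g * x) = Subgroup.zpowers z :=
        Subgroup.eq_of_le_of_card_ge (by rw [Subgroup.zpowers_le, ← hPz]; exact hgx')
          (by rw [hzc, Nat.card_zpowers, ho])
      rw [← Subgroup.centralizer_closure, ← Subgroup.zpowers_eq_closure, h1,
        Subgroup.zpowers_eq_closure, Subgroup.centralizer_closure]
    have h2 : Nat.card {y : G // IsConj g y} = Nat.card {y : G // IsConj (x⁻¹ * g * x) y} := by
      have h3 : IsConj (x⁻¹ * g * x) g := isConj_iff.2 ⟨x, by group⟩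
      exact Nat.card_congr (Equiv.subtypeEquivRight fun y => ⟨h3.trans, h3.symm.trans⟩)
    have h5 := Subgroup.card_mul_index (Subgroup.zpowers z)
    rw [hzc] at h5
    rw [h2, Char.card_isConj_eq_index, hcent, mul_comm]
    exact h5
  refine ⟨n, _, rfl, ?_, hn, ?_⟩
  rotate_left
  all_goals
    set C := {c : ConjClasses G // ∃ g : G, ConjClasses.mk g = c ∧ orderOf g = p} with hCdef
    have hmem : ∀ g : {g : G // orderOf g = p}, ∃ a : G,
        ConjClasses.mk a = ConjClasses.mk g.1 ∧ orderOf a = p := fun g => ⟨g, rfl, g.2⟩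
    let π : {g : G // orderOf g = p} → C := fun g => ⟨ConjClasses.mk g.1, hmem g⟩
    have : Finite C := Subtype.finite
    have := Fintype.ofFinite C
    have hsum : Nat.card {g : G // orderOf g = p} * p = Nat.card C * Nat.card G := by
      rw [← Nat.card_congr (Equiv.sigmaFiberEquiv π), Nat.card_sigma, Finset.sum_mul,
        Finset.sum_congr rfl (g := fun _ => Nat.card G) fun c _ => ?_, Finset.sum_const,
        Finset.card_univ, smul_eq_mul, Nat.card_eq_fintype_card (α := C)]
      obtain ⟨c, g, hgc, hgo⟩ := c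
      rw [← hclass g hgo]
      congr 1
      refine Nat.card_congr (Equiv.ofBijective (fun y => ⟨y.1.1, ?_⟩) ⟨fun a b h => ?_, fun y => ?_⟩)
      · exact ConjClasses.mk_eq_mk_iff_isConj.1 (hgc.trans (congrArg Subtype.val y.2).symm)
      · exact Subtype.ext (Subtype.ext (congrArg Subtype.val h :))
      · refine ⟨⟨⟨y.1, ?_⟩, Subtype.ext ((ConjClasses.mk_eq_mk_iff_isConj.2 y.2).symm.trans hgc)⟩, rfl⟩
        obtain ⟨w, hw⟩ := isConj_iff.1 y.2
        rw [← hw, show w * g * w⁻¹ = MulAut.conj w g by simp, MulEquiv.orderOf_eq, hgo]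
    rw [SmallOrder.card_orderOf_eq_mul hPc] at hsum
  · rw [← hn, mul_comm, ← hsum]; ring
  · refine ⟨k, ?_⟩
    have h4 : Nat.card (Sylow p G) * p * (p - 1) = Nat.card (Sylow p G) * p * (Nat.card C * k) := by
      rw [hGc] at hsum; linarith
    exact Nat.eq_of_mul_eq_mul_left (Nat.mul_pos Nat.card_pos hp.pos) h4


end Cfsg.Agent.S0995
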