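import Cfsg.Statements.S0999
import Cfsg.Agent.Fg24.Brauer.Main
-- import your own Cfsg.Agent.* helpers here

set_option autoImplicit false
open Cfsg

namespace Cfsg.Agent.S0999

/-- Let G be a non-cyclic finite simple group and p a prime divisor of its order with p^3 > |G|. Then p > 3 and G is isomorphic to the projective special linear group of dimension 2 over the field with p elements, or p - 1 is a power of 2 and G is isomorphic to that group over the field with p - 1 elements. -/
theorem result {G : Type*} [Group G] [Finite G] [IsSimpleGroup G] (hG : ¬ IsCyclic G) (p : ℕ) (hp : p.Prime) (hdvd : p ∣ Nat.card G) (hbig : Nat.card G < p ^ 3) : (∃ (F : Type) (_ : Field F) (_ : Fintype F), Fintype.card F = p ∧ 3 < p ∧ Nonempty (G ≃* Matrix.ProjectiveSpecialLinearGroup (Fin 2) F)) ∨ (∃ (m : ℕ) (F : Type) (_ : Field F) (_ : Fintype F), Fintype.card F = 2 ^ m ∧ p = 2 ^ m + 1 ∧ 3 < p ∧ Nonempty (G ≃* Matrix.ProjectiveSpecialLinearGroup (Fin 2) F)) := by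
  have := Fact.mk hp
  have hnc : ¬ ∀ a b : G, a * b = b * a := fun h => hG (by
    letI : CommGroup G := { (inferInstance : Group G) with mul_comm := h }
    exact isCyclic_of_prime_card (p := Nat.card G) (hp := ⟨IsSimpleGroup.prime_card⟩) rfl)
  have hperf : commutator G = ⊤ := by
    rcases (inferInstance : (commutator G).Normal).eq_bot_or_eq_top with h | h
    · refine absurd (fun a b => ?_) hnc
      have h' : Subgroup.centralizer ((⊤ : Subgroup G) : Set G) = ⊤ := by
        rw [commutator_def, Subgroup.commutator_eq_bot_iff_le_centralizer] at h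
        exact top_le_iff.1 h
      exact Subgroup.mem_centralizer_iff.1 (h'.ge (Subgroup.mem_top b)) a (Subgroup.mem_top a)
    · exact h
  obtain ⟨P⟩ : Nonempty (Sylow p G) := inferInstance
  have hP : ¬ (P : Subgroup G).Normal := fun h => by
    rcases h.eq_bot_or_eq_top with h1 | h1
    · have h2 := P.dvd_card_of_dvd_card hdvd
      rw [h1, Subgroup.card_bot] at h2
      exact hp.not_dvd_one h2
    · have hpg : IsPGroup p G := IsPGroup.of_equiv P.isPGroup'
        ((MulEquiv.subgroupCongr h1).trans Subgroup.topEquiv)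
      have : Nontrivial G := inferInstance
      have := hpg.center_nontrivial
      rcases (inferInstance : (Subgroup.center G).Normal).eq_bot_or_eq_top with h2 | h2
      · exact (Subgroup.nontrivial_iff_ne_bot _).1 this h2
      · exact hnc fun a b => Subgroup.mem_center_iff.1 (h2 ▸ Subgroup.mem_top b) a
  have hno2 : ∀ N : Subgroup G, N.Normal → Nat.card N ≠ 2 := fun N hN h2 => by
    rcases hN.eq_bot_or_eq_top with h | h
    · rw [h, Subgroup.card_bot] at h2; omega
    · rw [h, Subgroup.card_top] at h2
      exact hG (isCyclic_of_prime_card (p := 2) (hp := ⟨Nat.prime_two⟩) h2)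
  rcases Agent.Fg24.Brauer.perfect_case hperf hbig hdvd P hP hno2 with
    h | ⟨m, F, iF, iFF, hF, hpm, hp3, ⟨φ⟩⟩
  · exact Or.inl h
  · refine Or.inr ⟨m, F, iF, iFF, hF, hpm, hp3, ⟨φ.trans ?_⟩⟩
    have hm : Even (Fintype.card F) := by
      rw [hF]
      refine Nat.even_pow.2 ⟨even_two, fun h0 => ?_⟩
      rw [h0] at hpm
      omega
    have hbot : Subgroup.center (Matrix.SpecialLinearGroup (Fin 2) F) = ⊥ := by
      refine (Subgroup.eq_bot_iff_forall _).2 fun M hM => ?_
      obtain ⟨r, hr, hM'⟩ := Matrix.SpecialLinearGroup.mem_center_iff.1 hM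
      have h2 : ringChar F = 2 := by
        by_contra hc
        exact Nat.not_even_iff_odd.2 (Nat.odd_iff.2 (FiniteField.odd_card_of_char_ne_two hc)) hm
      have : CharP F 2 := h2 ▸ ringChar.charP F
      rw [Fintype.card_fin] at hr
      have hr1 : r = 1 := by
        have : (r - 1) ^ 2 = 0 := by rw [sub_pow_char, hr, one_pow, sub_self]
        exact sub_eq_zero.1 (pow_eq_zero_iff two_ne_zero |>.1 this)
      refine Subtype.ext ?_
      rw [← hM', hr1]
      simp
    exact (QuotientGroup.quotientBot (G := Matrix.SpecialLinearGroup (Fin 2) F)).symm.trans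
      (QuotientGroup.quotientMulEquivOfEq hbot.symm)

end Cfsg.Agent.S0999
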