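import Cfsg.Statements.S1002
import Cfsg.Agent.SmallOrder.ExceptionalOrders
-- import your own Cfsg.Agent.* helpers here

set_option autoImplicit false
open Cfsg

namespace Cfsg.Agent.S1002

/-- No finite simple group has order 1004913 = 3^3 * 7 * 13 * 409. -/
theorem result {G : Type*} [Group G] [Finite G] [IsSimpleGroup G] : Nat.card G ≠ 1004913 := by
  intro h
  have : Fact (Nat.Prime 409) := ⟨by norm_num⟩
  have hna := SmallOrder.not_comm_of_card (G := G) (by rw [h]; norm_num)
  have hd := SmallOrder.card_sylow_dvd (G := G) (p := 409) (a := 1) (m := 2457)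
    (by rw [h]; norm_num) (by norm_num)
  have hne := SmallOrder.card_sylow_ne_one hna (p := 409) (by rw [h]; norm_num)
  have hmod := SmallOrder.card_sylow_mod (G := G) 409
  obtain ⟨n, hn⟩ : ∃ n, Nat.card (Sylow 409 G) = n := ⟨_, rfl⟩
  rw [hn] at hd hne hmod
  have hcases : ∀ n : ℕ, n ∈ (27 * 91).divisors → n % 409 = 1 → n = 1 ∨ n = 819 := by
    rw [Nat.divisors_mul]; decide +kernel
  have hn' : n = 819 := (hcases n (Nat.mem_divisors.2 ⟨by norm_num; exact hd, by norm_num⟩)
    hmod).resolve_left hne
  refine SmallOrder.not_card_of_degrees hna (p := 409) (m := 2457) (n := 819) (e := 3) (by rw [h])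
    (by norm_num) (hn.trans hn') (by norm_num) (by norm_num) (by norm_num) (by norm_num) ?_
  rw [h, show (1004913 : ℕ) = (27 * 91) * 409 by norm_num, Nat.divisors_mul, Nat.divisors_mul]
  decide +kernel

end Cfsg.Agent.S1002
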