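
import Cfsg.Statements.S1008
import Cfsg.Agent.SmallOrder.Klein168

set_option autoImplicit false
open Cfsg

namespace Cfsg.Agent.S1008

/-- In a simple group of order 168 every maximal subgroup is either isomorphic to the symmetric group of degree 4 or non-abelian of order 21; the maximal subgroups of order 21 form one conjugacy class and those isomorphic to the symmetric group of degree 4 form exactly two conjugacy classes. -/
theorem result {G : Type*} [Group G] [Finite G] [IsSimpleGroup G] (h : Nat.card G = 168) : (∀ M : Subgroup G, IsCoatom M → Nonempty (↥M ≃* Equiv.Perm (Fin 4)) ∨ (Nat.card ↥M = 21 ∧ ¬ IsMulCommutative ↥M)) ∧ (∀ M M' : Subgroup G, IsCoatom M → IsCoatom M' → Nat.card ↥M = 21 → Nat.card ↥M' = 21 → ∃ g : G, M' = M.map (MulAut.conj g).toMonoidHom) ∧ ∃ M₁ M₂ : Subgroup G, IsCoatom M₁ ∧ IsCoatom M₂ ∧ Nonempty (↥M₁ ≃* Equiv.Perm (Fin 4)) ∧ Nonempty (↥M₂ ≃* Equiv.Perm (Fin 4)) ∧ (∀ g : G, M₂ ≠ M₁.map (MulAut.conj g).toMonoidHom) ∧ ∀ M : Subgroup G, IsCoatom M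 → Nonempty (↥M ≃* Equiv.Perm (Fin 4)) → ∃ g : G, M = M₁.map (MulAut.conj g).toMonoidHom ∨ M = M₂.map (MulAut.conj g).toMonoidHom := by
  open SmallOrder.Order168 in
  refine ⟨fun M hM => ?_, fun M M' hM hM' h1 h2 => ?_, ?_⟩
  · rcases coatom_cases h hM with ⟨h1, h2, -⟩ | ⟨U, hU, rfl⟩
    · exact Or.inr ⟨h1, h2⟩
    · exact Or.inl (equiv_s4 h (card_normalizer_klein h hU))
  · rcases coatom_cases h hM with ⟨-, -, P, rfl⟩ | ⟨U, hU, rfl⟩
    swap
    · rw [card_normalizer_klein h hU] at h1; omega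
    rcases coatom_cases h hM' with ⟨-, -, Q, rfl⟩ | ⟨U, hU, rfl⟩
    swap
    · rw [card_normalizer_klein h hU] at h2; omega
    have : Fact (Nat.Prime 7) := ⟨by norm_num⟩
    obtain ⟨g, hg⟩ := MulAction.exists_smul_eq G P Q
    refine ⟨g, ?_⟩
    rw [Subgroup.map_equiv_normalizer_eq, show (P : Subgroup G).map (MulAut.conj g).toMonoidHom =
      (Q : Subgroup G) by rw [← hg]; rfl]
  · obtain ⟨T⟩ : Nonempty (Sylow 2 G) := Sylow.nonempty
    have h2 := card_klein_le h T
    rw [Nat.card_eq_two_iff] at h2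
    obtain ⟨⟨U₁, hU₁⟩, ⟨U₂, hU₂⟩, hne, huniv⟩ := h2
    have hne' : U₁ ≠ U₂ := fun e => hne (Subtype.ext e)
    have hco : ∀ U : Subgroup G, IsKleinFour U → IsCoatom (Subgroup.normalizer (U : Set G)) :=
      fun U hU => isCoatom_of_card h (by rw [card_normalizer_klein h hU]; norm_num)
        (normalizer_klein_ne_top h hU)
    refine ⟨_, _, hco U₁ hU₁.2, hco U₂ hU₂.2, equiv_s4 h (card_normalizer_klein h hU₁.2),
      equiv_s4 h (card_normalizer_klein h hU₂.2), fun g hg => ?_, fun M hM hMS => ?_⟩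
    · rw [Subgroup.map_equiv_normalizer_eq] at hg
      have hK : IsKleinFour (U₁.map (MulAut.conj g).toMonoidHom) :=
        SmallOrder.isKleinFour_of_equiv
          (U₁.equivMapOfInjective _ (MulAut.conj g).injective) hU₁.2
      exact not_conj_klein h hU₁.1 hU₂.1 hU₁.2 hU₂.2 hne' g
        (klein_unique h hU₂.2 hK hg).symm
    · rcases coatom_cases h hM with ⟨h1, -, -⟩ | ⟨U, hU, rfl⟩
      · obtain ⟨e⟩ := hMS
        rw [Nat.card_congr e.toEquiv, Nat.card_perm, Nat.card_fin] at h1
        norm_num [Nat.factorial] at h1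
      have : Fact (Nat.Prime 2) := ⟨Nat.prime_two⟩
      obtain ⟨S, hUS⟩ := exists_sylow_klein h hU
      obtain ⟨g, hg⟩ := MulAction.exists_smul_eq G S T
      set W := U.map (MulAut.conj g).toMonoidHom with hW
      have hWK : IsKleinFour W :=
        SmallOrder.isKleinFour_of_equiv (U.equivMapOfInjective _ (MulAut.conj g).injective) hU
      have hWT : W ≤ (T : Subgroup G) := by
        rw [← hg]
        exact Subgroup.map_mono hUS
      have hback : U = W.map (MulAut.conj g⁻¹).toMonoidHom := by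
        rw [hW, Subgroup.map_map]
        convert (Subgroup.map_id U).symm
        ext x
        simp [mul_assoc]
      have hmem := huniv.ge (Set.mem_univ ⟨W, hWT, hWK⟩)
      refine ⟨g⁻¹, ?_⟩
      rw [Subgroup.map_equiv_normalizer_eq, Subgroup.map_equiv_normalizer_eq]
      rcases hmem with e | e
      · left
        rw [← show W = U₁ from congrArg Subtype.val e, ← hback]
      · right
        rw [← show W = U₂ from congrArg Subtype.val e, ← hback]

end Cfsg.Agent.S1008
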