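
import Cfsg.Statements.S1013
import Cfsg.Agent.SmallOrder.Two

set_option autoImplicit false
open Cfsg

namespace Cfsg.Agent.S1013

/-- Let G be a transitive permutation group of prime degree p having more than one Sylow p-subgroup, and suppose a Sylow p-subgroup P has prime index in its normalizer. Then G is simple. -/
theorem result {α : Type*} [Fintype α] [DecidableEq α] {p : ℕ} [Fact p.Prime] (hα : Fintype.card α = p) (G : Subgroup (Equiv.Perm α)) [MulAction.IsPretransitive ↥G α] (P : Sylow p ↥G) (hn : 1 < Nat.card (Sylow p ↥G)) (ht : (((P : Subgroup ↥G).subgroupOf (Subgroup.normalizer ((P : Subgroup ↥G) : Set ↥G))).index).Prime) : IsSimpleGroup ↥G := by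
  classical
  have hp : p.Prime := Fact.out
  have : MulAction.IsPreprimitive ↥G α :=
    MulAction.IsPreprimitive.of_prime_card (by rwa [Nat.card_eq_fintype_card, hα])
  have hPc : Nat.card (P : Subgroup ↥G) = p := by
    obtain ⟨k, hk⟩ := P.isPGroup'.exists_card_eq
    have h1 : p ^ k ∣ p.factorial := by
      rw [← hk, show p.factorial = Nat.card (Equiv.Perm α) by
        rw [Nat.card_perm, Nat.card_eq_fintype_card, hα]]
      exact (P : Subgroup ↥G).card_subgroup_dvd_card.trans G.card_subgroup_dvd_card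
    have h2 : k ≤ 1 := by
      by_contra! hlt
      have h3 : p * p ∣ p * (p - 1).factorial := by
        rw [Nat.mul_factorial_pred hp.ne_zero, ← sq]
        exact (pow_dvd_pow p hlt).trans h1
      have := hp.dvd_factorial.1 (Nat.dvd_of_mul_dvd_mul_left hp.pos h3)
      have := hp.pos
      omega
    have hd : p ∣ Nat.card ↥G := by
      have hne : Nonempty α := Fintype.card_pos_iff.1 (by rw [hα]; exact hp.pos)
      obtain ⟨a⟩ := hne
      have h4 := MulAction.index_stabilizer_of_transitive (G := ↥G) a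
      rw [Nat.card_eq_fintype_card (α := α), hα] at h4
      exact ⟨_, (h4 ▸ (Subgroup.index_mul_card (MulAction.stabilizer ↥G a)).symm)⟩
    rcases Nat.lt_or_ge k 1 with h | h
    · exfalso
      rw [show k = 0 by omega, pow_zero, Subgroup.card_eq_one] at hk
      exact P.ne_bot_of_dvd_card hd hk
    · rw [hk, show k = 1 by omega, pow_one]
  have hnorm : ¬ (P : Subgroup ↥G).Normal := fun h => by
    have : Subsingleton (Sylow p ↥G) := ⟨fun S T => by
      obtain ⟨g, rfl⟩ := MulAction.exists_smul_eq ↥G P S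
      obtain ⟨g', rfl⟩ := MulAction.exists_smul_eq ↥G P T
      rw [Sylow.smul_eq_of_normal, Sylow.smul_eq_of_normal]⟩
    rw [Nat.card_eq_one_iff_unique.2 ⟨this, ⟨P⟩⟩] at hn
    omega
  -- a nontrivial normal subgroup contains the Sylow subgroup
  have hcont : ∀ M : Subgroup ↥G, M.Normal → M ≠ ⊥ → p ∣ Nat.card M ∧ (P : Subgroup ↥G) ≤ M := by
    intro M hM hne
    have hfp : MulAction.fixedPoints M α ≠ Set.univ := fun h => by
      obtain ⟨m, hm, hm1⟩ := (Subgroup.bot_or_exists_ne_one M).resolve_left hne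
      exact hm1 (Subtype.ext (Equiv.ext fun a =>
        (show a ∈ MulAction.fixedPoints M α from h ▸ Set.mem_univ a) ⟨m, hm⟩))
    have htr := MulAction.IsQuasiPreprimitive.isPretransitive_of_normal (G := ↥G) (X := α) (N := M) hfp
    obtain ⟨a⟩ : Nonempty α := Fintype.card_pos_iff.1 (by rw [hα]; exact hp.pos)
    have h4 := MulAction.index_stabilizer_of_transitive (G := M) a
    rw [Nat.card_eq_fintype_card (α := α), hα] at h4
    have hd : p ∣ Nat.card M :=
      ⟨_, (h4 ▸ (Subgroup.index_mul_card (MulAction.stabilizer M a)).symm)⟩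
    obtain ⟨x, hx⟩ := exists_prime_orderOf_dvd_card' (G := M) p hd
    obtain ⟨S, hS⟩ := (IsPGroup.of_card (n := 1)
      (by rw [Nat.card_zpowers, Subgroup.orderOf_coe, hx, pow_one]) :
      IsPGroup p (Subgroup.zpowers (x : ↥G))).exists_le_sylow
    have hSM : (S : Subgroup ↥G) ≤ M := by
      rw [← Subgroup.eq_of_le_of_card_ge hS (by
        rw [Nat.card_congr (Sylow.equiv S P).toEquiv, hPc, Nat.card_zpowers, Subgroup.orderOf_coe, hx])]
      exact Subgroup.zpowers_le.2 x.2
    obtain ⟨g, rfl⟩ := MulAction.exists_smul_eq ↥G S P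
    refine ⟨hd, fun y hy => ?_⟩
    rw [Sylow.coe_subgroup_smul] at hy
    obtain ⟨z, hz, rfl⟩ := hy
    exact hM.conj_mem z (hSM hz) g
  have hG1 : Nontrivial ↥G := by
    by_contra h
    rw [not_nontrivial_iff_subsingleton] at h
    exact hnorm ⟨fun a ha g => by rwa [Subsingleton.elim (g * a * g⁻¹) a]⟩
  refine { eq_bot_or_eq_top_of_normal := fun M hM => ?_ }
  by_contra! hc
  obtain ⟨hMne, hMtop⟩ := hc
  obtain ⟨-, hPM⟩ := hcont M hM hMne
  set N := Subgroup.normalizer ((P : Subgroup ↥G) : Set ↥G) with hN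
  have hsup : N ⊔ M = ⊤ := P.normalizer_sup_eq_top' hPM
  have hPN : (P : Subgroup ↥G) ≤ N ⊓ M := le_inf Subgroup.le_normalizer hPM
  -- `N ⊓ M` is `P` or `N`
  have hmul := ((P : Subgroup ↥G).subgroupOf (N ⊓ M)).card_mul_index
  have hrel : (P : Subgroup ↥G).relIndex (N ⊓ M) * (N ⊓ M).relIndex N =
      (P : Subgroup ↥G).relIndex N := Subgroup.relIndex_mul_relIndex _ _ _ hPN inf_le_left
  have ht' : ((P : Subgroup ↥G).relIndex N).Prime := ht
  have hself : (P : Subgroup ↥G) = N ⊓ M := by
    rcases (Nat.dvd_prime ht').1 (hrel ▸ dvd_mul_right _ _) with h | h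
    · exact le_antisymm hPN (Subgroup.relIndex_eq_one.1 h)
    · exfalso
      rw [h] at hrel
      have h1 : (N ⊓ M).relIndex N = 1 := by
        have := Nat.eq_of_mul_eq_mul_left ht'.pos (hrel.trans (mul_one _).symm)
        exact this
      have h2 : N ≤ M := (Subgroup.relIndex_eq_one.1 h1).trans inf_le_right
      exact hMtop (by rw [← hsup, sup_eq_right.2 h2])
  -- transfer inside `M`
  let PM : Sylow p M := P.subtype hPM
  have hNC : Subgroup.normalizer ((PM : Subgroup M) : Set M) ≤
      Subgroup.centralizer ((PM : Subgroup M) : Set M) := by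
    intro m hm
    rw [Sylow.coe_subtype, ← Subgroup.subgroupOf_normalizer_eq hPM] at hm
    have hmP : (m : ↥G) ∈ (P : Subgroup ↥G) := hself.ge ⟨hm, m.2⟩
    have : IsCyclic (P : Subgroup ↥G) := isCyclic_of_prime_card hPc
    refine Subgroup.mem_centralizer_iff.2 fun y hy => ?_
    exact Subtype.ext (congrArg Subtype.val
      ((IsMulCommutative.is_comm (M := (P : Subgroup ↥G))).comm ⟨_, hy⟩ ⟨_, hmP⟩) :)
  set K := (MonoidHom.transferSylow PM hNC).ker with hK
  have hKp : ¬ p ∣ Nat.card K := MonoidHom.not_dvd_card_ker_transferSylow PM hNC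
  have hcompl := MonoidHom.ker_transferSylow_isComplement' PM hNC
  have hKn : (K.map M.subtype).Normal := by
    -- `K` is the set of `p'`-elements of `M`
    have hmem : ∀ m : M, ¬ p ∣ orderOf m → m ∈ K := by
      intro m hm
      rw [hK, MonoidHom.mem_ker, ← orderOf_eq_one_iff]
      have h1 : orderOf (MonoidHom.transferSylow PM hNC m) ∣ p := by
        refine (orderOf_dvd_natCard _).trans (dvd_of_eq ?_)
        exact (Nat.card_congr (Subgroup.subgroupOfEquivOfLe hPM).toEquiv).trans hPc
      have h2 := orderOf_map_dvd (MonoidHom.transferSylow PM hNC) m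
      exact ((Nat.dvd_prime hp).1 h1).resolve_right fun e => hm (e ▸ h2)
    refine ⟨?_⟩
    rintro _ ⟨k, hk, rfl⟩ g
    refine ⟨⟨g * k * g⁻¹, hM.conj_mem _ k.2 g⟩, hmem _ fun hd => hKp ?_, rfl⟩
    rw [← Subgroup.orderOf_coe] at hd
    have : orderOf (g * (k : ↥G) * g⁻¹) = orderOf k := by
      rw [show g * (k : ↥G) * g⁻¹ = MulAut.conj g k by simp, MulEquiv.orderOf_eq, Subgroup.orderOf_coe]
    rw [show ((⟨g * k * g⁻¹, hM.conj_mem _ k.2 g⟩ : M) : ↥G) = g * (k : ↥G) * g⁻¹ from rfl, this] at hd
    exact hd.trans (Subgroup.orderOf_dvd_natCard K hk)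
  by_cases hKbot : K.map M.subtype = ⊥
  · rw [Subgroup.map_eq_bot_iff_of_injective _ M.subtype_injective] at hKbot
    rw [← hK, hKbot, Subgroup.isComplement'_bot_left, Sylow.coe_subtype,
      Subgroup.subgroupOf_eq_top] at hcompl
    exact hnorm (le_antisymm hcompl hPM ▸ hM)
  · have h1 := (hcont _ hKn hKbot).1
    rw [Nat.card_congr (K.equivMapOfInjective _ M.subtype_injective).toEquiv.symm] at h1
    exact hKp h1


end Cfsg.Agent.S1013
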