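
import Cfsg.Statements.S1014
import Cfsg.Agent.SmallOrder.Perm

set_option autoImplicit false
open Cfsg

namespace Cfsg.Agent.S1014

/-- No finite simple group has order 1104 = 2^4 * 3 * 23. -/
theorem result {G : Type*} [Group G] [Finite G] [IsSimpleGroup G] : Nat.card G ≠ 1104 := by
  intro h
  have : Fact (Nat.Prime 23) := ⟨by norm_num⟩
  have hna := SmallOrder.not_comm_of_card (G := G) (by rw [h]; norm_num)
  obtain ⟨h1, h2, h3, -⟩ := SmallOrder.sylow_data (p := 23) (a := 1) (m := 48)
    (by rw [h]; norm_num) one_ne_zero (by norm_num) hna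
  obtain ⟨n, hn⟩ : ∃ n, Nat.card (Sylow 23 G) = n := ⟨_, rfl⟩
  rw [hn] at h1 h2 h3
  have hle := Nat.le_of_dvd (by norm_num) h1
  have hn' : n = 24 := by interval_cases n <;> omega
  have hd := SmallOrder.card_dvd_of_card_sylow_le (p := 23) (m := 48) (by rw [h])
    (by norm_num) (by norm_num) hna (by rw [hn, hn'])
  rw [h] at hd
  norm_num at hd


end Cfsg.Agent.S1014
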