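
import Cfsg.Statements.S1015
import Cfsg.Agent.SmallOrder.Perm

set_option autoImplicit false
open Cfsg

namespace Cfsg.Agent.S1015

/-- No finite simple group has order 1200 = 2^4 * 3 * 5^2. -/
theorem result {G : Type*} [Group G] [Finite G] [IsSimpleGroup G] : Nat.card G ≠ 1200 := by
  intro h
  have : Fact (Nat.Prime 5) := ⟨by norm_num⟩
  have hna := SmallOrder.not_comm_of_card (G := G) (by rw [h]; norm_num)
  obtain ⟨h1, h2, h3, h4⟩ := SmallOrder.sylow_data (p := 5) (a := 2) (m := 48)
    (by rw [h]; norm_num) (by norm_num) (by norm_num) hna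
  obtain ⟨n, hn⟩ : ∃ n, Nat.card (Sylow 5 G) = n := ⟨_, rfl⟩
  rw [hn] at h1 h2 h3 h4
  rw [h] at h4
  have hn16 : n = 16 := by
    have hle := Nat.le_of_dvd (by norm_num) h1
    interval_cases n <;> first | omega | (norm_num [Nat.factorial] at h4)
  obtain ⟨H, k, r, hH, -, -, hidx, hr1, hr2, hr3⟩ := SmallOrder.exists_local (p := 5) (a := 1)
    (m := 48) (by rw [h]; norm_num) (by norm_num) one_ne_zero hna
    (by rw [hn, hn16]; decide)
  have hk : 6 ≤ k := by
    have : r ≤ k := Nat.le_of_dvd (Nat.pos_of_ne_zero fun e => by rw [e, mul_zero] at hidx; omega) hr1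
    omega
  have hle : H.index ≤ 8 := by nlinarith
  have hd := SmallOrder.two_mul_card_dvd hna H hH
  rw [h] at hd
  interval_cases H.index <;> norm_num [Nat.factorial] at hd


end Cfsg.Agent.S1015
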