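
import Cfsg.Statements.S1016
import Cfsg.Agent.SmallOrder.Local

set_option autoImplicit false
open Cfsg

namespace Cfsg.Agent.S1016

/-- No finite simple group has order 1440 = 2^5 * 3^2 * 5. -/
theorem result {G : Type*} [Group G] [Finite G] [IsSimpleGroup G] : Nat.card G ≠ 1440 := by
  intro h
  classical
  have h3 : Fact (Nat.Prime 3) := ⟨by norm_num⟩
  have h5 : Fact (Nat.Prime 5) := ⟨by norm_num⟩
  have hna := SmallOrder.not_comm_of_card (G := G) (by rw [h]; norm_num)
  -- small indices
  have hsmall : ∀ H : Subgroup G, H ≠ ⊤ → 8 ≤ H.index := by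
    intro H hH
    have hd := SmallOrder.two_mul_card_dvd hna H hH
    rw [h] at hd
    by_contra! hlt
    interval_cases H.index <;> norm_num [Nat.factorial] at hd
  -- the element of order five
  obtain ⟨y, hy, hc⟩ : ∃ y : G, orderOf y = 5 ∧
      (Nat.card (Subgroup.centralizer ({y} : Set G)) = 10 ∨
        Nat.card (Subgroup.centralizer ({y} : Set G)) = 20) := by
    obtain ⟨h1, h2, h3', h4⟩ := SmallOrder.sylow_data (p := 5) (a := 1) (m := 288)
      (by rw [h]; norm_num) one_ne_zero (by norm_num) hna
    obtain ⟨n, hn⟩ : ∃ n, Nat.card (Sylow 5 G) = n := ⟨_, rfl⟩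
    rw [hn] at h1 h2 h3' h4
    rw [h] at h4
    obtain ⟨P⟩ : Nonempty (Sylow 5 G) := Sylow.nonempty
    have hP : Nat.card (P : Subgroup G) = 5 := by
      rw [SmallOrder.card_sylow_eq_pow (a := 1) (m := 288) (by rw [h]; norm_num) (by norm_num) P,
        pow_one]
    have hcyc := isCyclic_of_prime_card hP
    obtain ⟨e, he, hNc, he1⟩ := SmallOrder.exists_normalizer_index (P : Subgroup G)
    rw [SmallOrder.card_mulAut_of_prime hP] at he
    have hne : e ≠ 1 := fun hh => SmallOrder.not_normalizer_le_centralizer hna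
      (by rw [h]; norm_num) P (he1 hh)
    obtain ⟨c, hcc⟩ : 5 ∣ Nat.card (Subgroup.centralizer ((P : Subgroup G) : Set G)) := by
      conv_lhs => rw [← hP]
      exact Subgroup.card_dvd_of_le (P : Subgroup G).le_centralizer
    have hm := SmallOrder.card_sylow_mul_card_normalizer P
    rw [hn, h, hNc, hcc] at hm
    have hm' : n * (c * e) = 288 := by
      refine Nat.eq_of_mul_eq_mul_left (show 0 < 5 by norm_num) ?_
      calc 5 * (n * (c * e)) = n * (5 * c * e) := by ring
        _ = 1440 := hm
        _ = 5 * 288 := by norm_num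
    have he0 : e ≠ 0 := fun z => by rw [z, mul_zero, mul_zero] at hm'; omega
    have he24 : e = 2 ∨ e = 4 := by
      have := Nat.le_of_dvd (by norm_num) he
      interval_cases e <;> omega
    have hn8 : 8 ≤ n := by
      rw [← hn, P.card_eq_index_normalizer]
      exact hsmall _ (SmallOrder.normalizer_ne_top hna (by rw [h]; norm_num) P)
    have hn' : n = 16 ∨ n = 36 := by
      have hle := Nat.le_of_dvd (by norm_num) h1
      have : n ≤ 144 := by
        have hc0 : c ≠ 0 := fun z => by rw [z, zero_mul, mul_zero] at hm'; omega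
        have : 2 ≤ c * e := le_trans (by omega) (Nat.le_mul_of_pos_left e (Nat.pos_of_ne_zero hc0))
        nlinarith
      interval_cases n <;> first | omega | (rcases he24 with rfl | rfl <;> omega)
    obtain ⟨y, hy⟩ := exists_prime_orderOf_dvd_card' (G := (P : Subgroup G)) 5 (by rw [hP])
    have hz : Subgroup.zpowers (y : G) = (P : Subgroup G) :=
      Subgroup.eq_of_le_of_card_ge (Subgroup.zpowers_le.2 y.2)
        (by rw [hP, Nat.card_zpowers, Subgroup.orderOf_coe, hy])
    have hyC : Nat.card (Subgroup.centralizer ({(y : G)} : Set G)) = 5 * c := by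
      rw [← Subgroup.centralizer_closure, ← Subgroup.zpowers_eq_closure, hz, hcc]
    rcases hn' with rfl | rfl
    · -- sixteen Sylow 5-subgroups: a Sylow 3-subgroup centralises `y`
      exfalso
      obtain rfl : e = 2 := by rcases he24 with rfl | rfl <;> omega
      have hc45 : Nat.card (Subgroup.centralizer ({(y : G)} : Set G)) = 45 := by rw [hyC]; omega
      set C := Subgroup.centralizer ({(y : G)} : Set G) with hCdef
      obtain ⟨S⟩ : Nonempty (Sylow 3 C) := Sylow.nonempty
      have hS : Nat.card (S : Subgroup C) = 9 := by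
        rw [SmallOrder.card_sylow_eq_pow (a := 2) (m := 5) (by rw [hc45]; norm_num) (by norm_num) S]
        rfl
      obtain ⟨R, hR⟩ := (S.isPGroup'.map C.subtype).exists_le_sylow
      have hR9 : Nat.card (R : Subgroup G) = 9 := by
        rw [SmallOrder.card_sylow_eq_pow (a := 2) (m := 160) (by rw [h]; norm_num) (by norm_num) R]
        rfl
      have hRC : (R : Subgroup G) ≤ C := by
        rw [← Subgroup.eq_of_le_of_card_ge hR (by
          rw [hR9, ← Nat.card_congr ((S : Subgroup C).equivMapOfInjective _ C.subtype_injective).toEquiv, hS])]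
        exact Subgroup.map_subtype_le _
      have hyR : (y : G) ∈ Subgroup.centralizer ((R : Subgroup G) : Set G) :=
        Subgroup.mem_centralizer_iff.2 fun r hr => Subgroup.mem_centralizer_singleton_iff.1 (hRC hr)
      have h5N : ∀ R : Sylow 3 G, (y : G) ∈ Subgroup.centralizer ((R : Subgroup G) : Set G) →
          45 ∣ Nat.card (Subgroup.normalizer ((R : Subgroup G) : Set G)) := by
        intro R hyR
        refine Nat.Coprime.mul_dvd_of_dvd_of_dvd (show Nat.Coprime 9 5 by norm_num) ?_ ?_
        · rw [← show Nat.card (R : Subgroup G) = 9 by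
            rw [SmallOrder.card_sylow_eq_pow (a := 2) (m := 160) (by rw [h]; norm_num) (by norm_num) R]
            rfl]
          exact Subgroup.card_dvd_of_le Subgroup.le_normalizer
        · rw [← hy, ← Subgroup.orderOf_coe]
          exact Subgroup.orderOf_dvd_natCard _ (Subgroup.centralizer_le_normalizer _ hyR)
      obtain ⟨g1, g2, g3, g4⟩ := SmallOrder.sylow_data (p := 3) (a := 2) (m := 160)
        (by rw [h]; norm_num) (by norm_num) (by norm_num) hna
      obtain ⟨n3, hn3⟩ : ∃ n3, Nat.card (Sylow 3 G) = n3 := ⟨_, rfl⟩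
      rw [hn3] at g1 g2 g3
      clear g4
      have hn16 : n3 = 16 := by
        obtain ⟨j, hj⟩ := h5N R hyR
        have hm2 := SmallOrder.card_sylow_mul_card_normalizer R
        rw [hn3, h, hj] at hm2
        have h32 : n3 * j = 32 := by linarith
        have hd : n3 ∣ 32 := Dvd.intro j h32
        have h8 : 8 ≤ n3 := by
          rw [← hn3, R.card_eq_index_normalizer]
          exact hsmall _ (SmallOrder.normalizer_ne_top hna (by rw [h]; norm_num) R)
        have := Nat.le_of_dvd (by norm_num) hd
        interval_cases n3 <;> omega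
      -- two of them meet in order three
      obtain ⟨P₁, Q₁, hne₁, hD, -, -⟩ := SmallOrder.exists_inter_of_not_modEq_sq (p := 3) (a := 1)
        (G := G) (fun S => by
          rw [SmallOrder.card_sylow_eq_pow (a := 2) (m := 160) (by rw [h]; norm_num) (by norm_num) S])
        (by rw [hn3, hn16]; decide)
      rw [pow_one] at hD
      set D := (P₁ : Subgroup G) ⊓ Q₁ with hDdef
      have hc9 : ∀ S : Sylow 3 G, Nat.card (S : Subgroup G) = 3 ^ 2 := fun S =>
        SmallOrder.card_sylow_eq_pow (a := 2) (m := 160) (by rw [h]; norm_num) (by norm_num) S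
      set H := Subgroup.centralizer (D : Set G) with hH
      have hPH := SmallOrder.le_centralizer_of_le_abelian (hc9 P₁) (inf_le_left : D ≤ _)
      have hQH := SmallOrder.le_centralizer_of_le_abelian (hc9 Q₁) (inf_le_right : D ≤ _)
      obtain ⟨g, hg⟩ := MulAction.exists_smul_eq G R P₁
      set y₁ := g * (y : G) * g⁻¹ with hy₁
      have hy₁C : y₁ ∈ Subgroup.centralizer ((P₁ : Subgroup G) : Set G) := by
        refine Subgroup.mem_centralizer_iff.2 fun x hx => ?_
        rw [← hg, Sylow.coe_subgroup_smul] at hx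
        obtain ⟨r, hr, rfl⟩ := hx
        have := Subgroup.mem_centralizer_iff.1 hyR r hr
        simp only [MulDistribMulAction.toMonoidEnd_apply, MulDistribMulAction.toMonoidHom_apply,
          MulAut.smul_def, MulAut.conj_apply, hy₁]
        simp [mul_assoc]
        rw [← mul_assoc r (y : G), this, mul_assoc]
      have hy₁H : y₁ ∈ H := Subgroup.centralizer_le (show (D : Set G) ⊆ _ from fun a ha => ha.1) hy₁C
      have hy₁o : orderOf y₁ = 5 := by
        rw [hy₁, show g * (y : G) * g⁻¹ = MulAut.conj g y by simp, MulEquiv.orderOf_eq,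
          Subgroup.orderOf_coe, hy]
      obtain ⟨k, hk⟩ : 9 ∣ Nat.card H := (hc9 P₁).symm.dvd.trans (Subgroup.card_dvd_of_le hPH)
      have hDne : D ≠ ⊥ := fun e => by rw [e, Subgroup.card_bot] at hD; omega
      have hHne : H ≠ ⊤ := by
        intro e
        apply hDne
        rw [eq_bot_iff, ← SmallOrder.center_eq_bot hna]
        exact fun d hd => Subgroup.mem_center_iff.2 fun g =>
          (Subgroup.mem_centralizer_iff.1 (show g ∈ H from e ▸ Subgroup.mem_top g) d hd).symm
      have hki : H.index * k = 160 := by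
        have := H.card_mul_index
        rw [hk, h] at this
        linarith
      have h5k : 5 ∣ k := by
        have hd := Subgroup.orderOf_dvd_natCard _ hy₁H
        rw [hy₁o, hk] at hd
        exact (Nat.Coprime.dvd_of_dvd_mul_left (by norm_num) hd)
      have hk20 : k ≤ 20 := by have := hsmall H hHne; nlinarith
      have hkd : k ∣ 160 := Dvd.intro_left _ hki
      have hk3 : ¬ 3 ∣ k := fun hd => by have := hd.trans hkd; norm_num at this
      have hlt := SmallOrder.one_lt_card_sylow_of_ne hPH hQH hne₁
      have hd' := SmallOrder.card_sylow_dvd (G := H) (p := 3) (a := 2) (m := k) (by rw [hk]; rfl) hk3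
      have hmod := SmallOrder.card_sylow_mod (G := H) 3
      -- `y₁` normalises `P₁` inside `H`
      have hm3 := SmallOrder.card_sylow_mul_card_normalizer (P₁.subtype hPH)
      have h45 : 45 ∣ Nat.card (Subgroup.normalizer (((P₁.subtype hPH : Sylow 3 H) : Subgroup H) : Set H)) := by
        refine Nat.Coprime.mul_dvd_of_dvd_of_dvd (show Nat.Coprime 9 5 by norm_num) ?_ ?_
        · have := Subgroup.card_dvd_of_le
            (Subgroup.le_normalizer (H := ((P₁.subtype hPH : Sylow 3 H) : Subgroup H)))
          rwa [SmallOrder.card_sylow_eq_pow (a := 2) (m := k) (by rw [hk]; rfl) hk3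
            (P₁.subtype hPH)] at this
        · rw [← hy₁o, ← Subgroup.orderOf_mk y₁ hy₁H]
          refine Subgroup.orderOf_dvd_natCard _ ?_
          rw [Sylow.coe_subtype, ← Subgroup.subgroupOf_normalizer_eq hPH]
          exact Subgroup.centralizer_le_normalizer _ hy₁C
      obtain ⟨j, hj⟩ := h45
      rw [hj, hk] at hm3
      obtain ⟨nh, hnh⟩ : ∃ nh, Nat.card (Sylow 3 H) = nh := ⟨_, rfl⟩
      rw [hnh] at hm3 hd' hmod hlt
      have hk0 : 0 < k := Nat.pos_of_ne_zero fun z => by rw [z, mul_zero] at hki; omega
      have hnk := Nat.le_of_dvd hk0 hd'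
      obtain ⟨k', rfl⟩ := h5k
      have hk4 : nh * j = k' := by linarith
      have : k' ≤ 4 := by omega
      have hj0 : 0 < j := Nat.pos_of_ne_zero fun z => by rw [z, mul_zero] at hk4; omega
      have : nh ≤ 4 := le_trans (Nat.le_mul_of_pos_right nh hj0) (hk4.le.trans this)
      interval_cases nh <;> first | omega | skip
      -- `H` of order `180` would normalise a Sylow five-subgroup
      obtain rfl : k' = 4 := by omega
      set Y := Subgroup.zpowers y₁ with hY
      have hYH : Y ≤ H := Subgroup.zpowers_le.2 hy₁H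
      have hY5 : Nat.card Y = 5 ^ 1 := by rw [Nat.card_zpowers, hy₁o, pow_one]
      have hYH5 : Nat.card (Y.subgroupOf H) = 5 ^ 1 := by
        rw [Nat.card_congr (Subgroup.subgroupOfEquivOfLe hYH).toEquiv, hY5]
      obtain ⟨S5, hS5⟩ := (IsPGroup.of_card hYH5).exists_le_sylow
      have hS5e : (S5 : Subgroup H) = Y.subgroupOf H := (Subgroup.eq_of_le_of_card_ge hS5 (by
        rw [hYH5, SmallOrder.card_sylow_eq_pow (a := 1) (m := 36) (by rw [hk]; norm_num) (by norm_num) S5])).symm
      obtain ⟨Q5, hQ5⟩ := (IsPGroup.of_card hY5).exists_le_sylow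
      have hQ5e : (Q5 : Subgroup G) = Y := (Subgroup.eq_of_le_of_card_ge hQ5 (by
        rw [hY5, SmallOrder.card_sylow_eq_pow (a := 1) (m := 288) (by rw [h]; norm_num) (by norm_num)
          Q5])).symm
      have h9 : 9 ∣ Nat.card (Subgroup.normalizer ((S5 : Subgroup H) : Set H)) := by
        have hle : (P₁ : Subgroup G).subgroupOf H ≤
            Subgroup.normalizer ((S5 : Subgroup H) : Set H) := by
          refine le_trans ?_ (Subgroup.centralizer_le_normalizer _)
          intro x hx
          refine Subgroup.mem_centralizer_iff.2 fun a ha => ?_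
          rw [hS5e] at ha
          obtain ⟨i, hi⟩ := Subgroup.mem_zpowers_iff.1 (Subgroup.mem_subgroupOf.1 ha)
          have hc : Commute y₁ (x : G) :=
            ((Subgroup.mem_centralizer_iff.1 hy₁C) (x : G) (Subgroup.mem_subgroupOf.1 hx)).symm
          ext
          rw [Subgroup.coe_mul, Subgroup.coe_mul, ← hi]
          exact (hc.zpow_left i).eq
        have := Subgroup.card_dvd_of_le hle
        rwa [Nat.card_congr (Subgroup.subgroupOfEquivOfLe hPH).toEquiv, hc9 P₁] at this
      have hm5 := SmallOrder.card_sylow_mul_card_normalizer S5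
      have hmod5 := SmallOrder.card_sylow_mod (G := H) 5
      obtain ⟨i, hi⟩ := h9
      rw [hi, hk] at hm5
      obtain ⟨m, hm'5⟩ : ∃ m, Nat.card (Sylow 5 H) = m := ⟨_, rfl⟩
      rw [hm'5] at hm5 hmod5
      have hmi : m * i = 20 := by linarith
      have hmle := Nat.le_of_dvd (show 0 < 20 by norm_num) ⟨i, hmi.symm⟩
      have hmd : m ∣ 20 := ⟨i, hmi.symm⟩
      have hm1 : m = 1 := by interval_cases m <;> omega
      have hN : Subgroup.normalizer ((S5 : Subgroup H) : Set H) = ⊤ := by
        refine Subgroup.eq_top_of_card_eq _ ?_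
        rw [hi, hk]; subst hm1; omega
      have hHN : H ≤ Subgroup.normalizer ((Q5 : Subgroup G) : Set G) := by
        rw [hQ5e]
        refine (Subgroup.normal_subgroupOf_iff_le_normalizer hYH).1 ?_
        rw [← hS5e]
        exact Subgroup.normalizer_eq_top_iff.1 hN
      have hmQ := SmallOrder.card_sylow_mul_card_normalizer Q5
      rw [hn, h] at hmQ
      have h180 := Subgroup.card_dvd_of_le hHN
      have h90 : Nat.card (Subgroup.normalizer ((Q5 : Subgroup G) : Set G)) = 90 := by omega
      rw [h90, hk] at h180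
      norm_num at h180
    · refine ⟨y, by rw [Subgroup.orderOf_coe, hy], ?_⟩
      rcases he24 with rfl | rfl
      · right; rw [hyC]; omega
      · left; rw [hyC]; omega
  have hy15 : ¬ ∃ x : G, orderOf x = 3 ∧ Commute x y := by
    rintro ⟨x, hx, hcx⟩
    have hd := Subgroup.orderOf_dvd_natCard _ (Subgroup.mem_centralizer_singleton_iff.2 hcx.eq :
      x ∈ Subgroup.centralizer ({y} : Set G))
    rcases hc with hc | hc <;> rw [hx, hc] at hd <;> norm_num at hd
  -- further indices
  have hidx : ∀ H : Subgroup G, H ≠ ⊤ → H.index ∉ ({8, 10, 15} : Finset ℕ) := by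
    intro H hH hmem
    have hcard := H.card_mul_index
    rw [h] at hcard
    obtain ⟨k, hk0, hkle, hfree, -, -, h2⟩ := SmallOrder.centralizer_bound hna H hH hy
    simp only [Finset.mem_insert, Finset.mem_singleton] at hmem
    rcases hmem with e | e | e <;> rw [e] at hkle hfree h2 hcard
    · obtain rfl : k = 1 := by omega
      have := h2 (by omega)
      rcases hc with hc | hc <;> rw [hc] at this <;> norm_num [Nat.factorial] at this
    · have := hfree (by rw [show Nat.card H = 144 by omega]; norm_num)
      obtain rfl : k = 2 := by omega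
      have := h2 (by omega)
      rcases hc with hc | hc <;> rw [hc] at this <;> norm_num [Nat.factorial] at this
    · have := hfree (by rw [show Nat.card H = 96 by omega]; norm_num)
      obtain rfl : k = 3 := by omega
      have := h2 (by omega)
      rcases hc with hc | hc <;> rw [hc] at this <;> norm_num [Nat.factorial] at this
  obtain ⟨g1, g2, g3, g4⟩ := SmallOrder.sylow_data (p := 3) (a := 2) (m := 160)
    (by rw [h]; norm_num) (by norm_num) (by norm_num) hna
  obtain ⟨n3, hn3⟩ : ∃ n3, Nat.card (Sylow 3 G) = n3 := ⟨_, rfl⟩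
  rw [hn3] at g1 g2 g3 g4
  obtain ⟨R⟩ : Nonempty (Sylow 3 G) := Sylow.nonempty
  have hc9 : ∀ S : Sylow 3 G, Nat.card (S : Subgroup G) = 3 ^ 2 := fun S =>
    SmallOrder.card_sylow_eq_pow (a := 2) (m := 160) (by rw [h]; norm_num) (by norm_num) S
  -- no element of order five normalises a Sylow 3-subgroup or centralises a subgroup of order three
  have hfive : ∀ (H : Subgroup G), 3 ∣ Nat.card H → (∀ d, d ∣ Nat.card H → d ≡ Nat.card H [MOD 5] →
      d = Nat.card H) → ¬ 5 ∣ Nat.card (Subgroup.normalizer (H : Set G)) := by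
    intro H h3H hd h5N
    obtain ⟨u, hu⟩ := exists_prime_orderOf_dvd_card' (G := Subgroup.normalizer (H : Set G)) 5 h5N
    have huo : orderOf (u : G) = 5 := by rw [Subgroup.orderOf_coe, hu]
    have huC := SmallOrder.mem_centralizer_of_order u.2 huo hd
    obtain ⟨x, hx⟩ := exists_prime_orderOf_dvd_card' (G := H) 3 h3H
    -- move `u` to a power of `y`
    obtain ⟨S, hS⟩ := (IsPGroup.of_card (n := 1) (by rw [Nat.card_zpowers, huo, pow_one]) :
      IsPGroup 5 (Subgroup.zpowers (u : G))).exists_le_sylow
    obtain ⟨T, hT⟩ := (IsPGroup.of_card (n := 1) (by rw [Nat.card_zpowers, hy, pow_one]) :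
      IsPGroup 5 (Subgroup.zpowers y)).exists_le_sylow
    have hT5 : ∀ T : Sylow 5 G, Nat.card (T : Subgroup G) = 5 := fun T => by
      rw [SmallOrder.card_sylow_eq_pow (a := 1) (m := 288) (by rw [h]; norm_num) (by norm_num) T,
        pow_one]
    have hTy : Subgroup.zpowers y = (T : Subgroup G) :=
      Subgroup.eq_of_le_of_card_ge hT (by rw [hT5, Nat.card_zpowers, hy])
    have hSu : Subgroup.zpowers (u : G) = (S : Subgroup G) :=
      Subgroup.eq_of_le_of_card_ge hS (by rw [hT5, Nat.card_zpowers, huo])
    obtain ⟨g, hg⟩ := MulAction.exists_smul_eq G S T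
    refine hy15 ⟨g * (x : G) * g⁻¹, by
      rw [show g * (x : G) * g⁻¹ = MulAut.conj g x by simp, MulEquiv.orderOf_eq, Subgroup.orderOf_coe,
        hx], ?_⟩
    have hyT : y ∈ (T : Subgroup G) := hTy ▸ Subgroup.mem_zpowers y
    rw [← hg, Sylow.coe_subgroup_smul] at hyT
    obtain ⟨z, hz, hzy⟩ := hyT
    rw [SetLike.mem_coe, ← hSu] at hz
    obtain ⟨j, rfl⟩ := Subgroup.mem_zpowers_iff.1 hz
    have hcomm : Commute (x : G) ((u : G) ^ j) :=
      (show Commute (x : G) u from Subgroup.mem_centralizer_iff.1 huC x x.2).zpow_right j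
    rw [← hzy]
    exact hcomm.map (MulAut.conj g).toMonoidHom
  have hd9 : ∀ d, d ∣ 9 → d ≡ 9 [MOD 5] → d = 9 := by
    intro d hd hm
    have := Nat.le_of_dvd (by norm_num) hd
    rw [Nat.ModEq] at hm
    interval_cases d <;> omega
  have hn40 : n3 = 40 := by
    have hm := SmallOrder.card_sylow_mul_card_normalizer R
    rw [hn3, h] at hm
    have h8 : 8 ≤ n3 := by
      rw [← hn3, R.card_eq_index_normalizer]
      exact hsmall _ (SmallOrder.normalizer_ne_top hna (by rw [h]; norm_num) R)
    have h10 : n3 ≠ 10 := fun e => hidx _ (SmallOrder.normalizer_ne_top hna (by rw [h]; norm_num) R)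
      (by rw [show (Subgroup.normalizer ((R : Subgroup G) : Set G)).index = 10 from
        R.card_eq_index_normalizer.symm.trans (hn3.trans e)]; simp)
    have h16 : n3 ≠ 16 := fun e => hfive R (by rw [hc9 R]; norm_num)
      (by rw [hc9 R]; exact hd9) (by
        rw [e] at hm
        rw [show Nat.card (Subgroup.normalizer ((R : Subgroup G) : Set G)) = 90 by omega]
        norm_num)
    have h160 : n3 ≠ 160 := fun e => by
      rw [e] at hm
      have := IsPGroup.isMulCommutative_of_card_eq_prime_sq (hc9 R)
      refine SmallOrder.not_normalizer_le_centralizer hna (by rw [h]; norm_num) R ?_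
      rw [← Subgroup.eq_of_le_of_card_ge Subgroup.le_normalizer (by rw [hc9 R]; omega)]
      exact (R : Subgroup G).le_centralizer
    have hle := Nat.le_of_dvd (by norm_num) g1
    interval_cases n3 <;> omega
  obtain ⟨P, Q, hne, hD, -, -⟩ := SmallOrder.exists_inter_of_not_modEq_sq (p := 3) (a := 1) (G := G)
    hc9 (by rw [hn3, hn40]; decide)
  rw [pow_one] at hD
  set D := (P : Subgroup G) ⊓ Q with hDdef
  have hPH := SmallOrder.le_centralizer_of_le_abelian (hc9 P) (inf_le_left : D ≤ _)
  have hQH := SmallOrder.le_centralizer_of_le_abelian (hc9 Q) (inf_le_right : D ≤ _)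
  set H := Subgroup.centralizer (D : Set G) with hH
  have hDne : D ≠ ⊥ := fun e => by rw [e, Subgroup.card_bot] at hD; omega
  have hHne : H ≠ ⊤ := by
    intro e
    apply hDne
    rw [eq_bot_iff, ← SmallOrder.center_eq_bot hna]
    exact fun d hd => Subgroup.mem_center_iff.2 fun g =>
      (Subgroup.mem_centralizer_iff.1 (show g ∈ H from e ▸ Subgroup.mem_top g) d hd).symm
  have hC : Nat.card H = 36 ∨ Nat.card H = 72 := by
    obtain ⟨k, hk⟩ : 9 ∣ Nat.card H := (hc9 P).symm.dvd.trans (Subgroup.card_dvd_of_le hPH)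
    have hki : H.index * k = 160 := by
      have := H.card_mul_index
      rw [hk, h] at this
      linarith
    have h5k : ¬ 5 ∣ k := fun hd => hfive D (by rw [hD])
      (fun d hd hm => by
        rw [hD] at hd hm ⊢
        have := Nat.le_of_dvd (by norm_num) hd
        rw [Nat.ModEq] at hm
        interval_cases d <;> omega)
      ((hd.trans (hk ▸ dvd_mul_left k 9)).trans
        (Subgroup.card_dvd_of_le (Subgroup.centralizer_le_normalizer _)))
    have hk20 : k ≤ 20 := by have := hsmall H hHne; nlinarith
    have hkd : k ∣ 160 := Dvd.intro_left _ hki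
    have hk3 : ¬ 3 ∣ k := fun hd => by have := hd.trans hkd; norm_num at this
    have hlt := SmallOrder.one_lt_card_sylow_of_ne hPH hQH hne
    have hd' := SmallOrder.card_sylow_dvd (G := H) (p := 3) (a := 2) (m := k) (by rw [hk]; rfl) hk3
    have hmod := SmallOrder.card_sylow_mod (G := H) 3
    have hk0 : 0 < k := Nat.pos_of_ne_zero fun z => by rw [z, mul_zero] at hki; omega
    have hnk := Nat.le_of_dvd hk0 hd'
    have hk16 : k ≠ 16 := fun e => hidx H hHne (by
      rw [show H.index = 10 by rw [e] at hki; omega]; simp)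
    have hkne : k ≠ 1 ∧ k ≠ 2 := ⟨fun e => by omega, fun e => by omega⟩
    rw [hk]
    interval_cases k <;> omega
  refine SmallOrder.nine_local hna (a := 5) (m := 45) le_rfl (by rw [h]; norm_num) (by norm_num)
    (fun U hU => ?_) hD hC hne hPH hQH
  have hU8 := hsmall U hU
  have hUi := hidx U hU
  have hcard := U.card_mul_index
  rw [h] at hcard
  simp only [Finset.mem_insert, Finset.mem_singleton, not_or] at hUi
  constructor <;> rintro ⟨j, hj⟩ <;> rw [hj] at hcard ⊢
  · have hjd : j * U.index = 20 := by linarith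
    have : j ≤ 2 := by nlinarith
    interval_cases j <;> omega
  · have hjd : j * U.index = 30 := by linarith
    have : j ≤ 3 := by nlinarith
    interval_cases j <;> omega

end Cfsg.Agent.S1016
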