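
import Cfsg.Statements.S1017
import Cfsg.Agent.SmallOrder.Perm

set_option autoImplicit false
open Cfsg

namespace Cfsg.Agent.S1017

/-- No finite simple group has order 2016 = 2^5 * 3^2 * 7. -/
theorem result {G : Type*} [Group G] [Finite G] [IsSimpleGroup G] : Nat.card G ≠ 2016 := by
  intro h
  have : Fact (Nat.Prime 7) := ⟨by norm_num⟩
  have : Fact (Nat.Prime 2) := ⟨by norm_num⟩
  have hna := SmallOrder.not_comm_of_card (G := G) (by rw [h]; norm_num)
  -- the centraliser of an element of order 7
  obtain ⟨y, hy, hC⟩ : ∃ y : G, orderOf y = 7 ∧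
      Nat.card (Subgroup.centralizer ({y} : Set G)) = 28 := by
    obtain ⟨h1, h2, h3, -⟩ := SmallOrder.sylow_data (p := 7) (a := 1) (m := 288)
      (by rw [h]; norm_num) one_ne_zero (by norm_num) hna
    obtain ⟨n, hn⟩ : ∃ n, Nat.card (Sylow 7 G) = n := ⟨_, rfl⟩
    rw [hn] at h1 h2 h3
    have hn8 : n ≠ 8 := fun e => by
      have hd := SmallOrder.card_dvd_of_card_sylow_le (p := 7) (m := 288) (by rw [h]) (by norm_num)
        (by norm_num) hna (by rw [hn, e])
      rw [h] at hd
      norm_num at hd
    obtain ⟨P⟩ : Nonempty (Sylow 7 G) := Sylow.nonempty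
    have hP : Nat.card (P : Subgroup G) = 7 := by
      rw [SmallOrder.card_sylow_eq_pow (a := 1) (m := 288) (by rw [h]; norm_num) (by norm_num) P,
        pow_one]
    have hcyc := isCyclic_of_prime_card hP
    obtain ⟨e, he, hNc, he1⟩ := SmallOrder.exists_normalizer_index (P : Subgroup G)
    rw [SmallOrder.card_mulAut_of_prime hP] at he
    have hne : e ≠ 1 := fun hh => SmallOrder.not_normalizer_le_centralizer hna
      (by rw [h]; norm_num) P (he1 hh)
    have hm := SmallOrder.card_sylow_mul_card_normalizer P
    rw [hn, h, hNc] at hm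
    obtain ⟨c, hc⟩ : 7 ∣ Nat.card (Subgroup.centralizer ((P : Subgroup G) : Set G)) := by
      conv_lhs => rw [← hP]
      exact Subgroup.card_dvd_of_le (P : Subgroup G).le_centralizer
    rw [hc] at hm
    have hm' : n * (c * e) = 288 := by
      refine Nat.eq_of_mul_eq_mul_left (show 0 < 7 by norm_num) ?_
      calc 7 * (n * (c * e)) = n * (7 * c * e) := by ring
        _ = 2016 := hm
        _ = 7 * 288 := by norm_num
    have hn36 : n = 36 := by
      have hle := Nat.le_of_dvd (by norm_num) h1
      have hce : 2 ≤ c * e := by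
        have he0 : 0 < e := Nat.pos_of_ne_zero fun z => by rw [z, mul_zero, mul_zero] at hm'; omega
        have hc0 : 0 < c := Nat.pos_of_ne_zero fun z => by rw [z, zero_mul, mul_zero] at hm'; omega
        exact le_trans (show 2 ≤ e by omega) (Nat.le_mul_of_pos_left e hc0)
      have : n ≤ 144 := by nlinarith
      interval_cases n <;> omega
    subst hn36
    have hc4 : c = 4 := by
      have he6 := Nat.le_of_dvd (by norm_num) he
      interval_cases e <;> omega
    obtain ⟨y, hy⟩ := exists_prime_orderOf_dvd_card' (G := (P : Subgroup G)) 7 (by rw [hP])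
    refine ⟨y, by rw [Subgroup.orderOf_coe, hy], ?_⟩
    have hz : Subgroup.zpowers (y : G) = (P : Subgroup G) :=
      Subgroup.eq_of_le_of_card_ge (Subgroup.zpowers_le.2 y.2)
        (by rw [hP, Nat.card_zpowers, Subgroup.orderOf_coe, hy])
    rw [← Subgroup.centralizer_closure, ← Subgroup.zpowers_eq_closure, hz, hc, hc4]
  -- the small indices
  have hidx : ∀ H : Subgroup G, H ≠ ⊤ → H.index ∉ ({3, 7, 9, 21} : Finset ℕ) := by
    intro H hH hmem
    have hd := SmallOrder.two_mul_card_dvd hna H hH
    rw [h] at hd
    simp only [Finset.mem_insert, Finset.mem_singleton] at hmem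
    obtain ⟨k, hk0, hkle, hfree, -, -, h2⟩ := SmallOrder.centralizer_bound hna H hH hy
    rw [hC] at h2
    rcases hmem with e | e | e | e <;> rw [e] at hd hkle hfree h2
    · norm_num [Nat.factorial] at hd
    · norm_num [Nat.factorial] at hd
    · obtain rfl : k = 1 := by omega
      have := h2 (by omega)
      norm_num [Nat.factorial] at this
    · have hc := H.card_mul_index
      rw [e, h] at hc
      obtain rfl : k = 3 := by
        have := hfree (by rw [show Nat.card H = 96 by omega]; norm_num)
        omega
      have := h2 (by omega)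
      norm_num [Nat.factorial] at this
  obtain ⟨h1, h2, h3, -⟩ := SmallOrder.sylow_data (p := 2) (a := 5) (m := 63)
    (by rw [h]; norm_num) (by norm_num) (by norm_num) hna
  obtain ⟨n, hn⟩ : ∃ n, Nat.card (Sylow 2 G) = n := ⟨_, rfl⟩
  rw [hn] at h1 h2 h3
  by_cases hn63 : n = 63
  · obtain ⟨H, k, r, hH, -, hkd, hk, hr1, hr2, hr3⟩ := SmallOrder.exists_local (p := 2) (a := 4)
      (m := 63) (by rw [h]; norm_num) (by norm_num) (by norm_num) hna (by rw [hn, hn63]; decide)
    apply hidx H hH
    have hd : H.index ∣ 63 := Dvd.intro k hk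
    have hk3 : 3 ≤ k := by
      have := Nat.le_of_dvd (Nat.pos_of_ne_zero fun e => by rw [e, mul_zero] at hk; omega) hr1
      omega
    have hle : H.index ≤ 21 := by nlinarith
    have hne : H.index ≠ 1 := fun e => hH (Subgroup.index_eq_one.1 e)
    interval_cases H.index <;> simp_all
  · obtain ⟨T⟩ : Nonempty (Sylow 2 G) := Sylow.nonempty
    apply hidx _ (SmallOrder.normalizer_ne_top hna (by rw [h]; norm_num) T)
    rw [show (Subgroup.normalizer ((T : Subgroup G) : Set G)).index = n from
      T.card_eq_index_normalizer.symm.trans hn]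
    have hle := Nat.le_of_dvd (by norm_num) h1
    interval_cases n <;> simp_all


end Cfsg.Agent.S1017
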