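
import Cfsg.Statements.S1018
import Cfsg.Agent.SmallOrder.Two
import Mathlib.Tactic.Group

set_option autoImplicit false
open Cfsg

namespace Cfsg.Agent.S1018

/-- Let P be a Sylow p-subgroup of order p of a finite group G, and consider the action of G on the left cosets of the normalizer N of P. Then every element of order p fixes exactly one coset, and an element of N that does not centralize P fixes at most as many cosets as there are orbits of P. -/
theorem result {G : Type*} [Group G] [Finite G] (p : ℕ) [Fact p.Prime] (P : Sylow p G) (hP : Nat.card ↥(P : Subgroup G) = p) : (∀ y : G, orderOf y = p → Nat.card (MulAction.fixedBy (G ⧸ Subgroup.normalizer ((P : Subgroup G) : Set G)) y) = 1) ∧ ∀ x : G, x ∈ Subgroup.normalizer ((P : Subgroup G) : Set G) → x ∉ Subgroup.centralizer ((P : Subgroup G) : Set G) → Nat.card (MulAction.fixedBy (G ⧸ Subgroup.normalizer ((P : Subgroup G) : Set G)) x) ≤ Nat.card (MulAction.orbitRel.Quotient ↥(P : Subgroup G) (G ⧸ Subgroup.normalizer ((P : Subgroup G) : Set G))) := by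
  classical
  set N := Subgroup.normalizer ((P : Subgroup G) : Set G) with hN
  have hfix : ∀ (y g : G), y • (g : G ⧸ N) = g ↔ g⁻¹ * y * g ∈ N := fun y g => by
    rw [MulAction.Quotient.smul_mk, smul_eq_mul, QuotientGroup.eq,
      ← N.inv_mem_iff (x := g⁻¹ * y * g)]
    simp [mul_assoc]
  -- an element of order `p` in `N` generates `P`
  have hgen : ∀ y : G, orderOf y = p → y ∈ N → Subgroup.zpowers y = (P : Subgroup G) := by
    intro y hy hyN
    have hp' : IsPGroup p (Subgroup.zpowers y) :=
      IsPGroup.of_card (n := 1) (by rw [Nat.card_zpowers, hy, pow_one])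
    refine Subgroup.eq_of_le_of_card_ge ?_ (by rw [hP, Nat.card_zpowers, hy])
    intro x hx
    have h1 : x ∈ Subgroup.zpowers y ⊓ N := ⟨hx, Subgroup.zpowers_le.2 hyN hx⟩
    rw [hN] at h1
    erw [hp'.inf_normalizer_sylow P] at h1
    exact h1.2
  refine ⟨fun y hy => ?_, fun x hxN hxC => ?_⟩
  · rw [Nat.card_eq_one_iff_unique]
    refine ⟨⟨fun ⟨a, ha⟩ ⟨b, hb⟩ => ?_⟩, ?_⟩
    · obtain ⟨a, rfl⟩ := QuotientGroup.mk_surjective a
      obtain ⟨b, rfl⟩ := QuotientGroup.mk_surjective b
      rw [MulAction.mem_fixedBy, hfix] at ha hb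
      have hoa : orderOf (a⁻¹ * y * a) = p := by
        rw [show a⁻¹ * y * a = MulAut.conj a⁻¹ y by simp, MulEquiv.orderOf_eq, hy]
      have hob : orderOf (b⁻¹ * y * b) = p := by
        rw [show b⁻¹ * y * b = MulAut.conj b⁻¹ y by simp, MulEquiv.orderOf_eq, hy]
      have ga := hgen _ hoa ha
      have gb := hgen _ hob hb
      refine Subtype.ext (QuotientGroup.eq.2 ?_)
      have hmap : ((P : Subgroup G)).map (MulAut.conj (b⁻¹ * a)).toMonoidHom = P := by
        conv_lhs => rw [← ga]
        rw [MonoidHom.map_zpowers, ← gb]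
        congr 1
        simp only [MulEquiv.toMonoidHom_eq_coe, MonoidHom.coe_coe, MulAut.conj_apply]
        group
      have hb' : b⁻¹ * a ∈ N := by
        rw [hN, Subgroup.mem_normalizer_iff]
        intro z
        constructor
        · intro hz
          exact hmap.le ⟨z, hz, by simp [mul_assoc]⟩
        · intro hz
          obtain ⟨w, hw, hwz⟩ := hmap.ge hz
          have : w = z := (MulAut.conj (b⁻¹ * a)).injective ((hwz : MulAut.conj (b⁻¹ * a) w = _).trans (MulAut.conj_apply _ _).symm)
          exact this ▸ hw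
      have := N.inv_mem hb'
      simpa using this
    · obtain ⟨Q, hQ⟩ := (IsPGroup.of_card (n := 1) (by rw [Nat.card_zpowers, hy, pow_one]) :
        IsPGroup p (Subgroup.zpowers y)).exists_le_sylow
      obtain ⟨g, rfl⟩ := MulAction.exists_smul_eq G P Q
      refine ⟨⟨(g : G ⧸ N), ?_⟩⟩
      rw [MulAction.mem_fixedBy, hfix]
      have h1 := hQ (Subgroup.mem_zpowers y)
      rw [Sylow.coe_subgroup_smul, Subgroup.mem_pointwise_smul_iff_inv_smul_mem] at h1
      exact Subgroup.le_normalizer (by simpa [MulAut.smul_def] using h1)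
  · have := Fintype.ofFinite G
    refine Nat.card_le_card_of_injective
      (fun c => (Quotient.mk _ c.1 : MulAction.orbitRel.Quotient (P : Subgroup G) (G ⧸ N))) ?_
    rintro ⟨c, hc⟩ ⟨d, hd⟩ h
    obtain ⟨⟨u, hu⟩, hud⟩ := MulAction.orbitRel_apply.1 (Quotient.exact h)
    change u • d = c at hud
    rw [MulAction.mem_fixedBy] at hc hd
    refine Subtype.ext ?_
    show c = d
    set v := x * u * x⁻¹ with hv
    have hvP : v ∈ (P : Subgroup G) := (Subgroup.mem_normalizer_iff.1 hxN u).1 hu
    have hvd : v • d = c := by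
      rw [hv, mul_smul, mul_smul, inv_smul_eq_iff.2 hd.symm, hud, hc]
    set w := u⁻¹ * v with hw
    have hwP : w ∈ (P : Subgroup G) := mul_mem (inv_mem hu) hvP
    have hwd : w • d = d := by rw [hw, mul_smul, hvd, inv_smul_eq_iff, hud]
    have hzp : ∀ a ∈ (P : Subgroup G), a ≠ 1 → Subgroup.zpowers a = (P : Subgroup G) := by
      intro a ha ha1
      refine Subgroup.eq_of_le_of_card_ge (Subgroup.zpowers_le.2 ha) ?_
      rw [hP, Nat.card_zpowers]
      refine le_of_eq (((Nat.dvd_prime (Fact.out : p.Prime)).1 ?_).resolve_left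
        fun e => ha1 (orderOf_eq_one_iff.1 e)).symm
      exact (Subgroup.orderOf_dvd_natCard _ ha).trans hP.dvd
    by_cases hw1 : w = 1
    · -- then `x` commutes with `u`
      by_cases hu1 : u = 1
      · rw [← hud, hu1, one_smul]
      exfalso
      apply hxC
      rw [← hzp u hu hu1, Subgroup.zpowers_eq_closure, Subgroup.centralizer_closure,
        Subgroup.mem_centralizer_singleton_iff]
      have h1 : v = u := (inv_mul_eq_one.1 hw1).symm
      calc x * u = v * x := by rw [hv, inv_mul_cancel_right]
        _ = u * x := by rw [h1]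
    · have hle : (P : Subgroup G) ≤ MulAction.stabilizer G d := by
        rw [← hzp w hwP hw1, Subgroup.zpowers_le]
        exact hwd
      rw [← hud]
      exact hle hu


end Cfsg.Agent.S1018
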