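import Mathlib
import Cfsg.Statements.S1019

set_option autoImplicit false
open Cfsg

namespace Cfsg.Agent.S1019

/-- Let H be a subgroup of a finite group G and x an element of H. In the action of G on the left cosets of H, the number of cosets fixed by x, multiplied by the size of the conjugacy class of x, equals the index of H multiplied by the number of conjugates of x that lie in H. -/
theorem result {G : Type*} [Group G] [Finite G] (H : Subgroup G) (x : G) (hx : x ∈ H) : Nat.card (MulAction.fixedBy (G ⧸ H) x) * Nat.card {g : G // IsConj x g} = H.index * Nat.card {g : G // IsConj x g ∧ g ∈ H} := by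
  classical
  have key : Nat.card (MulAction.fixedBy (G ⧸ H) x) * Nat.card H
      = Nat.card {g : G // IsConj x g ∧ g ∈ H} * Nat.card (Subgroup.centralizer ({x} : Set G)) := by
    let T := {a : G // a⁻¹ * x * a ∈ H}
    have h1 : Nat.card T = Nat.card (MulAction.fixedBy (G ⧸ H) x) * Nat.card H := by
      have e : T ≃ (QuotientGroup.mk ⁻¹' (MulAction.fixedBy (G ⧸ H) x) : Set G) := by
        refine Equiv.subtypeEquivRight fun a => ?_
        simp only [Set.mem_preimage, MulAction.mem_fixedBy, MulAction.Quotient.smul_mk]
        rw [eq_comm, QuotientGroup.eq]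
        simp [mul_assoc]
      rw [Nat.card_congr (e.trans (QuotientGroup.preimageMkEquivSubgroupProdSet H _)), Nat.card_prod,
        mul_comm]
    rw [← h1, ← Nat.card_prod]
    let φ : T → {g : G // IsConj x g ∧ g ∈ H} := fun a =>
      ⟨a.1⁻¹ * x * a.1, isConj_iff.mpr ⟨a.1⁻¹, by simp⟩, a.2⟩
    have fib : ∀ y, {a : T // φ a = y} ≃ Subgroup.centralizer ({x} : Set G) := fun y => by
      have hy := isConj_iff.mp y.2.1
      refine
        { toFun := fun a => ⟨a.1.1 * hy.choose, ?_⟩
          invFun := fun c => ⟨⟨c.1 * hy.choose⁻¹, ?_⟩, ?_⟩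
          left_inv := fun a => by ext; simp
          right_inv := fun c => by ext; simp }
      · have h := congrArg Subtype.val a.2
        simp only [φ] at h
        have hc := hy.choose_spec
        rw [Subgroup.mem_centralizer_singleton_iff]
        have : a.1.1⁻¹ * x * a.1.1 = hy.choose * x * hy.choose⁻¹ := by rw [h, hc]
        calc a.1.1 * hy.choose * x = a.1.1 * (hy.choose * x * hy.choose⁻¹) * hy.choose := by group
          _ = x * (a.1.1 * hy.choose) := by rw [← this]; group
      all_goals
        have hc := hy.choose_spec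
        have hcx := Subgroup.mem_centralizer_singleton_iff.mp c.2
        have e : (c.1 * hy.choose⁻¹)⁻¹ * x * (c.1 * hy.choose⁻¹) = y.1 := by
          calc (c.1 * hy.choose⁻¹)⁻¹ * x * (c.1 * hy.choose⁻¹)
              = hy.choose * (c.1⁻¹ * (x * c.1)) * hy.choose⁻¹ := by group
            _ = y.1 := by rw [← hcx]; simpa [mul_assoc] using hc
      · rw [e]; exact y.2.2
      · exact Subtype.ext e
    rw [Nat.card_congr ((Equiv.sigmaFiberEquiv φ).symm.trans
      ((Equiv.sigmaCongrRight fib).trans (Equiv.sigmaEquivProd _ _)))]
  have hc : Nat.card {g : G // IsConj x g} * Nat.card (Subgroup.centralizer ({x} : Set G))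
      = H.index * Nat.card H := by
    rw [H.index_mul_card, ← Nat.card_prod]
    let φ : G → {g : G // IsConj x g} := fun a => ⟨a * x * a⁻¹, isConj_iff.mpr ⟨a, rfl⟩⟩
    have fib : ∀ y, {a : G // φ a = y} ≃ Subgroup.centralizer ({x} : Set G) := fun y => by
      have hy := isConj_iff.mp y.2
      refine
        { toFun := fun a => ⟨hy.choose⁻¹ * a.1, ?_⟩
          invFun := fun c => ⟨hy.choose * c.1, ?_⟩
          left_inv := fun a => by ext; simp
          right_inv := fun c => by ext; simp }
      · have h := congrArg Subtype.val a.2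
        simp only [φ] at h
        rw [Subgroup.mem_centralizer_singleton_iff]
        have : a.1 * x * a.1⁻¹ = hy.choose * x * hy.choose⁻¹ := by rw [h, hy.choose_spec]
        calc hy.choose⁻¹ * a.1 * x = hy.choose⁻¹ * (a.1 * x * a.1⁻¹) * a.1 := by group
          _ = x * (hy.choose⁻¹ * a.1) := by rw [this]; group
      · have hcx := Subgroup.mem_centralizer_singleton_iff.mp c.2
        apply Subtype.ext
        calc hy.choose * c.1 * x * (hy.choose * c.1)⁻¹
            = hy.choose * (c.1 * x) * c.1⁻¹ * hy.choose⁻¹ := by group
          _ = hy.choose * x * hy.choose⁻¹ := by rw [hcx]; group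
          _ = y.1 := hy.choose_spec
    exact (Nat.card_congr ((Equiv.sigmaFiberEquiv φ).symm.trans
      ((Equiv.sigmaCongrRight fib).trans (Equiv.sigmaEquivProd _ _)))).symm
  apply Nat.eq_of_mul_eq_mul_right (Nat.card_pos (α := H))
  calc Nat.card (MulAction.fixedBy (G ⧸ H) x) * Nat.card {g : G // IsConj x g} * Nat.card H
      = (Nat.card (MulAction.fixedBy (G ⧸ H) x) * Nat.card H) * Nat.card {g : G // IsConj x g} := by ring
    _ = (Nat.card {g : G // IsConj x g} * Nat.card (Subgroup.centralizer ({x} : Set G))) * Nat.card {g : G // IsConj x g ∧ g ∈ H} := by rw [key]; ring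
    _ = _ := by rw [hc]; ring

end Cfsg.Agent.S1019
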