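import Cfsg.Statements.S1026
import Cfsg.Agent.Chev.All
import Cfsg.Agent.Chev.Unipotent

set_option autoImplicit false
open Cfsg

namespace Cfsg.Agent.S1026

/-- Every element of `U` has a unique expression `∏_{r ∈ Φ⁺} x_r(t_r)`, the product over the positive roots in increasing index order (the coefficient family `t`, supported on the positive roots, exists and is unique); and conversely every such ordered product is the matrix of an element of `U`. -/
theorem result {F : Type*} [Field F] (D : Cfsg.Lie.ChevalleyDatum) (hD : D ∈ [Cfsg.Lie.chevG2, Cfsg.Lie.chevB2, Cfsg.Lie.chevD4, Cfsg.Lie.chevF4, Cfsg.Lie.chevE6, Cfsg.Lie.chevE7, Cfsg.Lie.chevE8]) :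
    (∀ g : GL D.Idx F, g ∈ D.posUnipotent F →
      ∃! t : ℕ → F, (∀ r, ¬ D.IsPosRoot r → t r = 0) ∧
        (g : Matrix D.Idx D.Idx F) = D.wordMat F (D.posRoots.map fun r => (r, t r))) ∧
    (∀ t : ℕ → F, ∃ g : GL D.Idx F, g ∈ D.posUnipotent F ∧
      (g : Matrix D.Idx D.Idx F) = D.wordMat F (D.posRoots.map fun r => (r, t r))) := by
  have hF := Chev.facts_of_mem hD
  refine ⟨fun g hg => ?_, fun t => ⟨Chev.prodFrom hF (Chev.half D) t,
    (Chev.mem_posUnipotent_iff hF).2 ⟨t, rfl⟩, (Chev.wordMat_posRoots hF t).symm⟩⟩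
  obtain ⟨t, rfl⟩ := (Chev.mem_posUnipotent_iff hF).1 hg
  refine ⟨fun r => if D.IsPosRoot r then t r else 0, ⟨fun r hr => by simp [hr], ?_⟩,
    fun t' ht' => ?_⟩
  · rw [Chev.wordMat_posRoots hF]
    congr 1
    exact Chev.prodFrom_congr hF fun r h1 h2 => by simp [(hF.posRoot_iff r h2).2 h1]
  · funext r
    by_cases hr : D.IsPosRoot r
    · simp only [hr, if_true]
      have e := ht'.2
      rw [Chev.wordMat_posRoots hF] at e
      exact (Chev.prodFrom_inj hF _ _ rfl le_rfl (Units.ext e) r ((hF.posRoot_iff r hr.1).1 hr)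
        hr.1).symm
    · simp [hr, ht'.1 r hr]

end Cfsg.Agent.S1026
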