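import Cfsg.Statements.S1057
import Cfsg.Agent.G2Two.Root
import Cfsg.Agent.G2Two.Unitary
import Cfsg.Agent.Classical.UnitaryThreeTwo
import Cfsg.Agent.S0280

set_option autoImplicit false
open Cfsg

namespace Cfsg.Agent.S1057

/-- Isomorphic groups have isomorphic derived subgroups. -/
theorem comm_congr {A B : Type*} [Group A] [Group B] (e : A ≃* B) :
    Nonempty (↥(commutator A) ≃* ↥(commutator B)) :=
  ⟨((commutator A).equivMapOfInjective e.toMonoidHom e.injective).trans (MulEquiv.subgroupCongr (by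
    rw [commutator_def, Subgroup.map_commutator, Subgroup.map_top_of_surjective _ e.surjective,
      commutator_def]))⟩

/-- G₂(2)′ ≅ PSU₃(3). -/
theorem result {F K : Type*} [Field F] [Fintype F] [Field K] [Fintype K] (hF : Fintype.card F = 2) (hK : Fintype.card K = 9) :
    Nonempty (↥(commutator ↥(Cfsg.Lie.chevG2.group F)) ≃* Cfsg.PSU 3 K 3) := by
  haveI : CharP F 2 := charP_of_card_eq_prime hF
  haveI : Finite ↥(Cfsg.Lie.chevG2.group F) := Subtype.finite
  let f : G2Two.E →+* F := ZMod.castHom (dvd_refl 2) F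
  have h1 : Function.Bijective (Chev.groupMap Chev.facts_chevG2 Chev.facts_chevG2 f) :=
    (Nat.bijective_iff_injective_and_card _).2 ⟨Chev.groupMap_injective _ _ f, by
      have h1 := Chev.g2_card_group F
      have h2 := Chev.g2_card_group G2Two.E
      simp [hF, Fin.prod_univ_two, ZMod.card] at h1 h2
      exact h2.trans h1.symm⟩
  obtain ⟨e1⟩ := comm_congr (MulEquiv.ofBijective _ h1).symm
  obtain ⟨e2⟩ := G2Two.nonempty_commutator_equiv
  obtain ⟨e3⟩ := Classical.U32.psu_congr (n := 3) (q := 3)
    (FiniteField.ringEquivOfCardEq (hK.trans U33.F9.card_eq.symm))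
  have hc : Subgroup.center G2Two.SU33 = ⊥ := Subgroup.eq_bot_of_card_eq _ G2Two.card_center_SU33
  let e4 : Cfsg.PSU 3 U33.F9 3 ≃* G2Two.SU33 :=
    (QuotientGroup.quotientMulEquivOfEq hc).trans QuotientGroup.quotientBot
  have hcard : Nat.card G2Two.SU33 = 6048 := by
    rw [← Nat.card_congr e4.toEquiv]
    have h := S0280.result (F := U33.F9) (q := 3) (by rw [U33.F9.card_eq]; norm_num) 3 (by norm_num)
    norm_num [Finset.prod_range_succ, Nat.even_iff] at h
    omega
  have hr : G2Two.suAct.range = G2Two.derGroup := by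
    refine (Subgroup.eq_of_le_of_card_ge G2Two.der_le_range ?_).symm
    rw [← Nat.card_congr (MonoidHom.ofInjective G2Two.suAct_injective).toEquiv, hcard,
      Compute.Rep.card_chainGroup _ G2Two.der_check.1, G2Two.der_check.2]
  let e5 : G2Two.SU33 ≃* ↥G2Two.derGroup :=
    (MonoidHom.ofInjective G2Two.suAct_injective).trans (MulEquiv.subgroupCongr hr)
  exact ⟨(e1.trans e2).trans ((e4.trans e5).symm.trans e3.symm)⟩

end Cfsg.Agent.S1057
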