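import Cfsg.Statements.S1075
import Cfsg.Agent.Chev.Ree.Stmts
import Cfsg.Agent.SmallOrder.Order1512
import Cfsg.Agent.S1011

set_option autoImplicit false
set_option maxRecDepth 100000
open Cfsg

namespace Cfsg.Agent.S1075

open Cfsg.Lie Cfsg.Agent.Chev Cfsg.Agent.Chev.Ree
open scoped MatrixGroups

local notation "K3" => ZMod 3
set_option quotPrecheck false in
local notation "G3" => ↥(twistedG2 (ZMod 3) (3 ^ 0))

theorem hK : Fintype.card K3 = 3 ^ (2 * 0 + 1) := ZMod.card 3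

theorem card_G3 : Nat.card G3 = 1512 := by
  rw [card_G1 hK]
  norm_num

/-- The Borel subgroup. -/
noncomputable def B0 : Subgroup G3 :=
  (chevG2.borelSubgroup K3 ⊓ twistedG2 K3 (3 ^ 0)).subgroupOf (twistedG2 K3 (3 ^ 0))

theorem mem_B0 {x : G3} :
    x ∈ B0 ↔ ∃ t u v c, (x : GL chevG2.Idx K3) = R 0 t u v * tor 0 c := by
  exact Subgroup.mem_subgroupOf.trans (inf_borel hK _)

theorem coords_unique {t u v t' u' v' : K3} {c c' : K3ˣ}
    (e : R 0 t u v * tor 0 c = (R 0 t' u' v' * tor 0 c' : GL chevG2.Idx K3)) :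
    t = t' ∧ u = u' ∧ v = v' ∧ c = c' := by
  obtain ⟨h1, h2⟩ := posUnipotent_torus_unique facts_chevG2 (R_mem_U _ _ _) (R_mem_U _ _ _)
    (show _ * torusHom _ = _ * torusHom _ from e)
  obtain ⟨a, b, d⟩ := R_injective 0 h1
  exact ⟨a, b, d, tor_injective (m := 0) h2⟩

theorem card_B0 : Nat.card B0 = 54 := by
  rw [B0, Nat.card_congr (Subgroup.subgroupOfEquivOfLe (inf_le_right :
    chevG2.borelSubgroup K3 ⊓ twistedG2 K3 (3 ^ 0) ≤ _)).toEquiv]
  let f : K3 × K3 × K3 × K3ˣ → ↥(chevG2.borelSubgroup K3 ⊓ twistedG2 K3 (3 ^ 0)) := fun p =>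
    ⟨R 0 p.1 p.2.1 p.2.2.1 * tor 0 p.2.2.2, (inf_borel hK _).2 ⟨_, _, _, _, rfl⟩⟩
  have hf : Function.Bijective f := by
    refine ⟨fun p q e => ?_, fun x => ?_⟩
    · obtain ⟨a, b, c, d⟩ := coords_unique (congrArg Subtype.val e :)
      exact Prod.ext a (Prod.ext b (Prod.ext c d))
    · obtain ⟨t, u, v, c, e⟩ := (inf_borel hK _).1 x.2
      exact ⟨(t, u, v, c), Subtype.ext e.symm⟩
  rw [← Nat.card_congr (Equiv.ofBijective f hf), Nat.card_prod, Nat.card_prod, Nat.card_prod,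
    Nat.card_units, Nat.card_zmod]

/-- The character of the Borel subgroup. -/
noncomputable def phiFun (x : B0) : Multiplicative K3 :=
  Multiplicative.ofAdd ((mem_B0.1 x.2).choose_spec.choose - (mem_B0.1 x.2).choose ^ 2)

theorem phiFun_eq (x : B0) {t u v : K3} {c : K3ˣ}
    (e : ((x : G3) : GL chevG2.Idx K3) = R 0 t u v * tor 0 c) :
    phiFun x = Multiplicative.ofAdd (u - t ^ 2) := by
  obtain ⟨v', c', e'⟩ := (mem_B0.1 x.2).choose_spec.choose_spec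
  obtain ⟨a, b, -, -⟩ := coords_unique (e.symm.trans e')
  exact congrArg₂ (fun p q : K3 => Multiplicative.ofAdd (p - q ^ 2)) b.symm a.symm

theorem phi_identity : ∀ t u c t' u' : K3, c ≠ 0 →
    u + c ^ 3 / c * u' - ((c ^ 2 / c ^ 3 * t') ^ 1) ^ 3 * t - (t + c ^ 2 / c ^ 3 * t') ^ 2 =
      u - t ^ 2 + (u' - t' ^ 2) := by
  decide +kernel

theorem mul_coords (x y : B0) {t u v t' u' v' : K3} {c c' : K3ˣ}
    (e : ((x : G3) : GL chevG2.Idx K3) = R 0 t u v * tor 0 c)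
    (e' : ((y : G3) : GL chevG2.Idx K3) = R 0 t' u' v' * tor 0 c') :
    ∃ w : K3, ((↑(x * y) : G3) : GL chevG2.Idx K3) = R 0 (t + (c : K3) ^ 2 / (c : K3) ^ 3 * t')
      (u + (c : K3) ^ 3 / (c : K3) * u' - (((c : K3) ^ 2 / (c : K3) ^ 3 * t') ^ 3 ^ 0) ^ 3 * t) w *
        tor 0 (c * c') := by
  have hth : th K3 0 (c : K3) = c := by rw [th_apply, pow_zero, pow_one]
  have h2 := tor_conj_R_eq (isTheta hK) c t' u' v'
  rw [hth] at h2
  refine ⟨v + (c : K3) * v' - (((c : K3) ^ 2 / (c : K3) ^ 3 * t') ^ 3 ^ 0) ^ 3 * t ^ 2 -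
    (c : K3) ^ 2 / (c : K3) ^ 3 * t' *
      (u - (((c : K3) ^ 2 / (c : K3) ^ 3 * t') ^ 3 ^ 0) ^ 3 * t), ?_⟩
  rw [← R_mul (isTheta hK), ← h2, map_mul, Subgroup.coe_mul, Subgroup.coe_mul, e, e']
  group

/-- The character of the Borel subgroup as a homomorphism. -/
noncomputable def phi : B0 →* Multiplicative K3 :=
  MonoidHom.mk' phiFun fun x y => by
    obtain ⟨t, u, v, c, e⟩ := mem_B0.1 x.2
    obtain ⟨t', u', v', c', e'⟩ := mem_B0.1 y.2
    obtain ⟨w, h⟩ := mul_coords x y e e'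
    rw [phiFun_eq _ h, phiFun_eq _ e, phiFun_eq _ e', ← ofAdd_add, pow_zero]
    exact congrArg _ (phi_identity t u c t' u' c.ne_zero)

/-- The element of order three whose transfer is not trivial. -/
noncomputable def g0 : G3 := ⟨R 0 0 1 0, R_mem_G1 _ _ _⟩

theorem g0_mem : g0 ∈ B0 := mem_B0.2 ⟨0, 1, 0, 1, by rw [map_one, mul_one]; rfl⟩

theorem g0_pow : g0 ^ 3 = 1 := by
  refine Subtype.ext ?_
  rw [SubmonoidClass.coe_pow]
  show R 0 (0 : K3) 1 0 ^ 3 = 1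
  rw [R_cube (isTheta hK)]
  exact R_eq_one_iff.2 ⟨rfl, rfl, by norm_num⟩

theorem nf (x : G3) : (∃ b : B0, x = b) ∨
    ∃ (r : G3) (b : B0), r ∈ B0 ∧ (∃ t u v, (r : GL chevG2.Idx K3) = R 0 t u v) ∧
      x = r * s1 * (b : G3) := by
  rcases exists_nf (isTheta hK) (show (x : GL chevG2.Idx K3) ∈ fx 0 by rw [fx_eq hK]; exact x.2) with
    ⟨t, u, v, c, e⟩ | ⟨t, u, v, c, t', u', v', e⟩
  · exact Or.inl ⟨⟨x, mem_B0.2 ⟨t, u, v, c, e⟩⟩, rfl⟩
  · have hB : (⟨tor 0 c⁻¹ * R 0 t' u' v', mul_mem (tor_mem_G1 hK _) (R_mem_G1 _ _ _)⟩ : G3) ∈ B0 :=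
      Subgroup.mem_subgroupOf.2 ⟨mul_mem (tor_mem_borel _) (R_mem_borel _ _ _),
        mul_mem (tor_mem_G1 hK _) (R_mem_G1 _ _ _)⟩
    refine Or.inr ⟨⟨R 0 t u v, R_mem_G1 _ _ _⟩, ⟨_, hB⟩,
      mem_B0.2 ⟨t, u, v, 1, by rw [map_one, mul_one]⟩, ⟨t, u, v, rfl⟩, Subtype.ext ?_⟩
    have hn : (n0 : GL chevG2.Idx K3) * tor 0 c⁻¹ = tor 0 c * n0 := by
      have h := n0_conj_tor (K := K3) (m := 0) c⁻¹
      rw [inv_inv] at h
      rw [← h]
      group
    rw [e]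
    show _ = R 0 t u v * n0 * (tor 0 c⁻¹ * R 0 t' u' v')
    rw [← mul_assoc, mul_assoc _ n0 (tor 0 c⁻¹), hn, ← mul_assoc]

theorem fixed (q : G3 ⧸ B0) (h : g0 • q = q) : q = ((1 : G3) : G3 ⧸ B0) := by
  obtain ⟨x, rfl⟩ := QuotientGroup.mk_surjective q
  rcases nf x with ⟨b, rfl⟩ | ⟨r, b, -, ⟨t, u, v, hr⟩, rfl⟩
  · exact QuotientGroup.eq.2 (by simp)
  · exfalso
    have hs : ((r * s1 * (b : G3) : G3) : G3 ⧸ B0) = ((r * s1 : G3) : G3 ⧸ B0) := by
      refine QuotientGroup.eq.2 ?_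
      rw [mul_inv_rev, inv_mul_cancel_right]
      exact inv_mem b.2
    rw [hs] at h
    have h1 : (g0 * (r * s1))⁻¹ * (r * s1) ∈ B0 := QuotientGroup.eq.1 h
    have h2 := (Subgroup.mem_subgroupOf.1 (inv_mem h1)).1
    rw [show ((((g0 * (r * s1))⁻¹ * (r * s1))⁻¹ : G3) : GL chevG2.Idx K3) =
      (n0 * n0)⁻¹ * (n0 * ((R 0 t u v)⁻¹ * R 0 0 1 0 * R 0 t u v) * n0⁻¹) * (n0 * n0) by
        simp only [Subgroup.coe_mul, Subgroup.coe_inv, hr, s1_val, show (g0 : GL chevG2.Idx K3) =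
          R 0 0 1 0 from rfl]
        group] at h2
    have hn := (n0_sq_mem hK (m := 0)).1
    have h3 : n0 * ((R 0 t u v)⁻¹ * R 0 0 1 0 * R 0 t u v) * n0⁻¹ ∈ chevG2.borelSubgroup K3 :=
      (Subgroup.mul_mem_cancel_left _ (inv_mem hn)).1 ((Subgroup.mul_mem_cancel_right _ hn).1 h2)
    have h4 := n0_conj_not_borel (mul_mem (mul_mem (inv_mem (R_mem_U t u v)) (R_mem_U 0 1 0))
      (R_mem_U t u v)) h3
    have h5 : R 0 (0 : K3) 1 0 = 1 := by
      calc R 0 (0 : K3) 1 0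
          = R 0 t u v * ((R 0 t u v)⁻¹ * R 0 0 1 0 * R 0 t u v) * (R 0 t u v)⁻¹ := by group
        _ = 1 := by rw [h4, mul_one, mul_inv_cancel]
    exact one_ne_zero (R_eq_one_iff.1 h5).2.1

theorem transfer_eq_of_unique_fixed {Γ A : Type*} [Group Γ] [CommGroup A] {H : Subgroup Γ}
    [H.FiniteIndex] (φ : H →* A) {g : Γ} (hg : g ^ 3 = 1) (hgH : g ∈ H)
    (hfix : ∀ q : Γ ⧸ H, g • q = q → q = ((1 : Γ) : Γ ⧸ H)) :
    φ.transfer g = φ ⟨g, hgH⟩ := by
  classical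
  have : Fintype (Γ ⧸ H) := H.fintypeQuotientOfFiniteIndex
  have h1 : g • ((1 : Γ) : Γ ⧸ H) = ((1 : Γ) : Γ ⧸ H) := QuotientGroup.eq.2 (by simpa using hgH)
  have hper1 : Function.minimalPeriod (g • ·) ((1 : Γ) : Γ ⧸ H) = 1 :=
    Function.minimalPeriod_eq_one_iff_isFixedPt.2 h1
  have hout : (Quotient.mk'' ((1 : Γ) : Γ ⧸ H) :
      Quotient (MulAction.orbitRel (Subgroup.zpowers g) (Γ ⧸ H))).out = ((1 : Γ) : Γ ⧸ H) := by
    obtain ⟨⟨k, hk⟩, e⟩ := MulAction.orbitRel_apply.1 (Quotient.exact' (Quotient.out_eq'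
      (Quotient.mk'' ((1 : Γ) : Γ ⧸ H) :
        Quotient (MulAction.orbitRel (Subgroup.zpowers g) (Γ ⧸ H)))))
    obtain ⟨j, rfl⟩ := Subgroup.mem_zpowers_iff.1 hk
    refine e.symm.trans ?_
    show g ^ j • ((1 : Γ) : Γ ⧸ H) = _
    refine MulAction.zpow_smul_eq_iff_minimalPeriod_dvd.2 ?_
    rw [hper1]
    exact one_dvd _
  rw [MonoidHom.transfer_eq_prod_quotient_orbitRel_zpowers_quot, Finset.prod_eq_single
    (Quotient.mk'' ((1 : Γ) : Γ ⧸ H) : Quotient (MulAction.orbitRel (Subgroup.zpowers g) (Γ ⧸ H)))]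
  · generalize hy : (Quotient.mk'' ((1 : Γ) : Γ ⧸ H) :
      Quotient (MulAction.orbitRel (Subgroup.zpowers g) (Γ ⧸ H))).out = y at hout ⊢
    subst hout
    have hb : ((1 : Γ) : Γ ⧸ H).out ∈ H := by
      simpa using QuotientGroup.eq.1 (QuotientGroup.out_eq' ((1 : Γ) : Γ ⧸ H))
    refine (congrArg φ (a₂ := (⟨_, hb⟩ : H)⁻¹ * ⟨g, hgH⟩ * ⟨_, hb⟩) (Subtype.ext ?_)).trans ?_
    · show _ * g ^ _ * _ = _
      rw [hper1, pow_one]
      rfl
    · rw [map_mul, map_mul, map_inv, inv_mul_cancel_comm]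
  · intro q _ hq
    have hne : q.out ≠ ((1 : Γ) : Γ ⧸ H) := fun e => hq (by rw [← q.out_eq', e])
    have hd : Function.minimalPeriod (g • ·) q.out ∣ 3 :=
      Function.IsPeriodicPt.minimalPeriod_dvd (by
        show (g • ·)^[3] q.out = q.out
        rw [smul_iterate, hg]
        exact one_smul _ _)
    have h3 : Function.minimalPeriod (g • ·) q.out = 3 :=
      ((Nat.dvd_prime Nat.prime_three).1 hd).resolve_left fun h =>
        hne (hfix _ (Function.minimalPeriod_eq_one_iff_isFixedPt.1 h))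
    refine (congrArg φ (Subtype.ext ?_)).trans (map_one φ)
    show _ * g ^ _ * _ = (1 : Γ)
    rw [h3, hg, mul_one, inv_mul_cancel]
  · intro h
    exact absurd (Finset.mem_univ _) h

/-- The transfer. -/
noncomputable def tau : G3 →* Multiplicative K3 :=
  haveI : B0.FiniteIndex := ⟨Subgroup.index_ne_zero_of_finite⟩
  phi.transfer

theorem phi_g0 : phi ⟨g0, g0_mem⟩ ≠ 1 := by
  rw [show phi ⟨g0, g0_mem⟩ = phiFun ⟨g0, g0_mem⟩ from rfl,
    phiFun_eq ⟨g0, g0_mem⟩ (t := 0) (u := 1) (v := 0) (c := 1) (by rw [map_one, mul_one]; rfl)]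
  decide

theorem tau_g0 : tau g0 ≠ 1 := by
  haveI : B0.FiniteIndex := ⟨Subgroup.index_ne_zero_of_finite⟩
  intro h0
  exact phi_g0 ((transfer_eq_of_unique_fixed phi g0_pow g0_mem fixed).symm.trans h0)

theorem h28 (N : Subgroup G3) (hN : N.Normal) (hne : N ≠ ⊥) : 28 ∣ Nat.card N := by
  have hnot : ¬ N ≤ B0 := fun h =>
    hne (eq_bot_iff.2 (core_trivial hK ▸ Subgroup.normal_le_normalCore.2 h))
  obtain ⟨x, hxN, hxB⟩ := SetLike.not_le_iff_exists.1 hnot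
  have hs : s1 ∈ N ⊔ B0 := by
    rcases nf x with ⟨b, rfl⟩ | ⟨r, b, hr, -, rfl⟩
    · exact absurd b.2 hxB
    · have h : r⁻¹ * (r * s1 * (b : G3)) * (b : G3)⁻¹ ∈ N ⊔ B0 :=
        mul_mem (mul_mem (Subgroup.mem_sup_right (inv_mem hr)) (Subgroup.mem_sup_left hxN))
          (Subgroup.mem_sup_right (inv_mem b.2))
      rwa [← mul_assoc, inv_mul_cancel_left, mul_inv_cancel_right] at h
  have htop : B0 ⊔ N = ⊤ := by
    rw [sup_comm, eq_top_iff]
    intro y _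
    rcases nf y with ⟨b, rfl⟩ | ⟨r, b, hr, -, rfl⟩
    · exact Subgroup.mem_sup_right b.2
    · exact mul_mem (mul_mem (Subgroup.mem_sup_right hr) hs) (Subgroup.mem_sup_right b.2)
  have hidx : N.index ∣ 54 := by
    rw [← card_B0, ← Subgroup.relIndex_top_right, ← htop, Subgroup.relIndex_sup_right]
    exact Subgroup.relIndex_dvd_card _ _
  obtain ⟨k, hk⟩ := hidx
  have hmul := N.card_mul_index
  rw [card_G3] at hmul
  refine ⟨k, Nat.eq_of_mul_eq_mul_right (Nat.pos_of_ne_zero N.index_ne_zero_of_finite) ?_⟩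
  rw [hmul, mul_assoc, mul_comm k, ← hk]
  norm_num

theorem main {L : Type*} [Field L] [Fintype L] (hL : Fintype.card L = 8) :
    Nat.card ↥(commutator G3) = 504 ∧
      Nonempty (↥(commutator G3) ≃* Matrix.ProjectiveSpecialLinearGroup (Fin 2) L) := by
  have hD : Nat.card tau.ker = 504 := by
    have hr : tau.range = ⊤ := by
      haveI : Fact (Nat.Prime (Nat.card (Multiplicative K3))) := ⟨by
        rw [show Nat.card (Multiplicative K3) = 3 from Nat.card_zmod 3]; exact Nat.prime_three⟩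
      refine (Subgroup.eq_bot_or_eq_top_of_prime_card tau.range).resolve_left fun e => ?_
      exact tau_g0 (Subgroup.mem_bot.1 (e.le ⟨g0, rfl⟩))
    have h := tau.ker.card_mul_index
    rw [Subgroup.index_ker, hr, Subgroup.card_top, show Nat.card (Multiplicative K3) = 3 from
      Nat.card_zmod 3, card_G3] at h
    omega
  have hc := SmallOrder.Order1512.commutator_eq card_G3 h28 hD
  haveI := SmallOrder.Order1512.isSimpleGroup card_G3 h28 hD
  rw [hc]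
  exact ⟨hD, Cfsg.Agent.S1011.result hD hL⟩

/-- The derived subgroup of ²G₂(3) (θ = identity over the field with three elements) has order 504 = 1512/3 and is isomorphic to PSL₂ over the field with eight elements. -/
theorem result {L : Type*} [Field L] [Fintype L] (hL : Fintype.card L = 8) :
    Nat.card ↥(commutator ↥(Cfsg.Lie.twistedG2 (ZMod 3) 1)) = 504 ∧
      Nonempty (↥(commutator ↥(Cfsg.Lie.twistedG2 (ZMod 3) 1)) ≃* Matrix.ProjectiveSpecialLinearGroup (Fin 2) L) := by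
  exact main hL

end Cfsg.Agent.S1075
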