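import Mathlib
import Cfsg.Statements.S1080

set_option autoImplicit false
open Cfsg

namespace Cfsg.Agent.S1080

/-- Field automorphisms: for every field automorphism `f` there is a group automorphism sending each `x_r(t)` to `x_r(f t)`. -/
theorem result {F : Type*} [Field F] (D : Cfsg.Lie.ChevalleyDatum) (hD : D ∈ [Cfsg.Lie.chevG2, Cfsg.Lie.chevB2, Cfsg.Lie.chevD4, Cfsg.Lie.chevF4, Cfsg.Lie.chevE6, Cfsg.Lie.chevE7, Cfsg.Lie.chevE8]) (f : F ≃+* F) :
    ∃ α : ↥(D.group F) ≃* ↥(D.group F), ∀ (g : ↥(D.group F)) (r : ℕ) (t : F), r < D.nroots →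
      ((g : GL D.Idx F) : Matrix D.Idx D.Idx F) = D.x F r t → ((α g : GL D.Idx F) : Matrix D.Idx D.Idx F) = D.x F r (f t) := by
  have hx : ∀ (r : Fin D.nroots) (t : F), (D.xMat F r t).map f = D.xMat F r (f t) := by
    intro r t
    ext i j
    rcases i with i | i <;> rcases j with j | j <;>
      simp [Cfsg.Lie.ChevalleyDatum.xMat] <;>
      split_ifs <;> simp [map_list_sum, List.map_map, Function.comp_def]
  let φ : GL D.Idx F ≃* GL D.Idx F := Units.mapEquiv f.mapMatrix.toMulEquiv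
  have hφ : (D.group F).map φ.toMonoidHom = D.group F := by
    rw [Cfsg.Lie.ChevalleyDatum.group, MonoidHom.map_closure]
    congr 1
    ext g
    constructor
    · rintro ⟨g, ⟨r, t, hg⟩, rfl⟩
      exact ⟨r, f t, by rw [← hx r t, ← hg]; rfl⟩
    · rintro ⟨r, t, hg⟩
      refine ⟨φ.symm g, ⟨r, f.symm t, ?_⟩, φ.apply_symm_apply g⟩
      apply Matrix.map_injective f.injective
      show Matrix.map _ f = Matrix.map _ f
      rw [hx r (f.symm t), RingEquiv.apply_symm_apply, ← hg]
      conv_rhs => rw [← φ.apply_symm_apply g]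
      rfl
  refine ⟨(φ.subgroupMap (D.group F)).trans (MulEquiv.subgroupCongr hφ), fun g r t hr hg => ?_⟩
  show ((g : GL D.Idx F) : Matrix D.Idx D.Idx F).map f = _
  rw [hg]
  simp only [Cfsg.Lie.ChevalleyDatum.x, dif_pos hr]
  exact hx _ t

end Cfsg.Agent.S1080
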