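import Cfsg.Statements.S1081
import Cfsg.Agent.Chev.GraphSymm

set_option autoImplicit false
open Cfsg

namespace Cfsg.Agent.S1081

/-- Graph automorphisms: for E₆ with ρ = (p₁ p₆)(p₃ p₅) and for D₄ with ρ the 3-cycle on the outer nodes there is a group automorphism sending `x_p(t) ↦ x_{ρ(p)}(t)` and `x_{-p}(t) ↦ x_{-ρ(p)}(t)` for every fundamental root `p`. -/
theorem result {F : Type*} [Field F] (p : Cfsg.Lie.ChevalleyDatum × List ℕ)
    (hp : p ∈ [(Cfsg.Lie.chevE6, [5, 1, 4, 3, 2, 0]), (Cfsg.Lie.chevD4, [2, 1, 3, 0]), (Cfsg.Lie.chevD4, [3, 1, 0, 2])]) :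
    ∃ α : ↥(p.1.group F) ≃* ↥(p.1.group F), ∀ (g : ↥(p.1.group F)) (i : ℕ) (t : F), i < p.1.rank →
      (((g : GL p.1.Idx F) : Matrix p.1.Idx p.1.Idx F) = p.1.x F (p.1.simple i) t →
        ((α g : GL p.1.Idx F) : Matrix p.1.Idx p.1.Idx F) = p.1.x F (p.1.simple (p.2.getD i 0)) t) ∧
      (((g : GL p.1.Idx F) : Matrix p.1.Idx p.1.Idx F) = p.1.x F (p.1.neg (p.1.simple i)) t →
        ((α g : GL p.1.Idx F) : Matrix p.1.Idx p.1.Idx F) = p.1.x F (p.1.neg (p.1.simple (p.2.getD i 0))) t) := by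
  open Cfsg.Lie Cfsg.Agent.Chev in
  have main : ∀ {D : ChevalleyDatum} {π : Equiv.Perm (Fin D.rank)} {ρ : Equiv.Perm (Fin D.nroots)}
      {ε : Fin D.nroots → ℤ} {l : List ℕ} (hF : Facts D) (hG : GraphFacts D π ρ ε)
      (_ : ∀ i : Fin D.rank, (π i : ℕ) = l.getD i 0),
      ∃ α : ↥(D.group F) ≃* ↥(D.group F), ∀ (g : ↥(D.group F)) (i : ℕ) (t : F), i < D.rank →
        (((g : GL D.Idx F) : Matrix D.Idx D.Idx F) = D.x F (D.simple i) t →
          ((α g : GL D.Idx F) : Matrix D.Idx D.Idx F) = D.x F (D.simple (l.getD i 0)) t) ∧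
        (((g : GL D.Idx F) : Matrix D.Idx D.Idx F) = D.x F (D.neg (D.simple i)) t →
          ((α g : GL D.Idx F) : Matrix D.Idx D.Idx F) = D.x F (D.neg (D.simple (l.getD i 0))) t) := by
    intro D π ρ ε l hF hG hl
    refine ⟨hG.groupAut hF, fun g i t hi => ⟨fun e => ?_, fun e => ?_⟩⟩
    · rw [hG.groupAut_val hF, show (g : GL D.Idx F) = xG hF (sRoot hF ⟨i, hi⟩ : ℕ) t from Units.ext e,
        hG.aut_pm hF ⟨i, hi, Or.inl rfl⟩, xG_val, (hG.simple ⟨i, hi⟩ (sRoot hF ⟨i, hi⟩) rfl).1,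
        hl ⟨i, hi⟩]
    · rw [hG.groupAut_val hF,
        show (g : GL D.Idx F) = xG hF (negF hF (sRoot hF ⟨i, hi⟩) : ℕ) t from Units.ext e,
        hG.aut_pm hF ⟨i, hi, Or.inr rfl⟩, xG_val,
        (hG.neg (sRoot hF ⟨i, hi⟩) (negF hF (sRoot hF ⟨i, hi⟩)) rfl).1,
        (hG.simple ⟨i, hi⟩ (sRoot hF ⟨i, hi⟩) rfl).1, hl ⟨i, hi⟩]
  simp only [List.mem_cons, List.not_mem_nil, or_false] at hp
  open Cfsg.Agent.Chev in
  rcases hp with rfl | rfl | rfl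
  · exact main facts_chevE6 e6_flip_facts fun i => rfl
  · exact main facts_chevD4 d4_031_facts fun i => rfl
  · exact main facts_chevD4 d4_310_facts fun i => rfl

end Cfsg.Agent.S1081
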