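import Cfsg.Statements.S1097
import Cfsg.Agent.Chev.All
import Cfsg.Agent.Chev.ExtraAll
import Cfsg.Agent.Chev.Steinberg

set_option autoImplicit false
open Cfsg

namespace Cfsg.Agent.S1097

/-- Any homomorphism from the presented group to the Chevalley group with `x̄_r(t) ↦ x_r(t)` has kernel contained in `H̄ = ⟨h̄_p(t) : p fundamental, t ≠ 0⟩`. -/
theorem result {K : Type*} [Field K] (D : Cfsg.Lie.ChevalleyDatum) (hD : D ∈ [Cfsg.Lie.chevG2, Cfsg.Lie.chevB2, Cfsg.Lie.chevD4, Cfsg.Lie.chevF4, Cfsg.Lie.chevE6, Cfsg.Lie.chevE7, Cfsg.Lie.chevE8]) (θ : D.SteinbergGroup K →* ↥(D.group K))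
    (hθ : ∀ (r : ℕ) (t : K), r < D.nroots → ((θ (D.stGen K r t) : GL D.Idx K) : Matrix D.Idx D.Idx K) = D.x K r t) :
    θ.ker ≤ Subgroup.closure {h | ∃ (i : ℕ) (t : K), i < D.rank ∧ t ≠ 0 ∧ h = PresentedGroup.mk (D.steinbergRels K) (D.stH (D.simple i) t)} := by
  have hF := Cfsg.Agent.Chev.facts_of_mem hD
  have hE := Cfsg.Agent.Chev.extra_of_mem hD
  let L := Cfsg.Agent.Chev.stLift hF (F := K)
  have hθL : (D.group K).subtype.comp θ = L.θ := by
    refine PresentedGroup.ext fun z => ?_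
    have e : (PresentedGroup.of z : D.SteinbergGroup K) = D.stGen K (z.1 : ℕ) z.2 := by
      rw [Cfsg.Lie.ChevalleyDatum.stGen, Cfsg.Lie.ChevalleyDatum.stX, dif_pos z.1.2]
      rfl
    rw [e]
    exact (Units.ext (hθ _ _ z.1.2)).trans (L.θ_X _ _).symm
  intro g hg
  have h1 : g ∈ L.θ.ker := by
    rw [MonoidHom.mem_ker, ← hθL, MonoidHom.comp_apply, MonoidHom.mem_ker.1 hg, map_one]
  refine Subgroup.closure_mono ?_ (L.ker_le_tor hE h1)
  rintro _ ⟨i, t, hi, ht, rfl⟩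
  exact ⟨i, t, hi, ht, Cfsg.Agent.Chev.stLift_h hF _ _⟩

end Cfsg.Agent.S1097
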