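import Cfsg.Statements.S1118
import Cfsg.Agent.RankOne.Basic
-- import your own Cfsg.Agent.* helpers here

set_option autoImplicit false
open Cfsg
open Cfsg.Agent
open scoped commutatorElement Pointwise

namespace Cfsg.Agent.S1118

/-- In the rank-one set-up (`G` finite and doubly transitive on `Ω`, `t` an involution moving `a`, `Q` normal in `G_a` with `G_a = Q D`, `Q ⊓ D = 1` for the two-point stabiliser `D = G_a ⊓ G_{t • a}`, `|Q|` even, `|D|` odd), the normaliser of a subset of `Q` containing a non-identity element lies in `G_a`; consequently `N_G(Q) = N_G(G_a) = G_a`. -/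
theorem result {G Ω : Type*} [Group G] [Finite G] [MulAction G Ω] {a : Ω} {t : G} {Q : Subgroup G}
    (hS : Cfsg.IsRankOneSetup G Ω a t Q) :
    (∀ X : Set G, X ⊆ (Q : Set G) → (∃ x ∈ X, x ≠ 1) → Subgroup.normalizer X ≤ MulAction.stabilizer G a) ∧
      Subgroup.normalizer (Q : Set G) = MulAction.stabilizer G a ∧
      Subgroup.normalizer (MulAction.stabilizer G a : Set G) = MulAction.stabilizer G a := by
  refine ⟨?_, le_antisymm ?_ (RankOne.stabilizer_normalizes hS), le_antisymm ?_ Subgroup.le_normalizer⟩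
  · rintro X hX ⟨x, hxX, hx1⟩ g hg
    exact RankOne.fixes_only hS (hX ((hg x).mp hxX)) (by simpa [mul_inv_eq_one, mul_eq_left] using hx1)
      (c := g • a) (by rw [mul_smul, mul_smul, inv_smul_smul, RankOne.smul_a_of_mem_Q hS (hX hxX)])
  · intro g hg
    obtain ⟨x, hx, hx1⟩ := RankOne.exists_ne_one hS
    exact RankOne.fixes_only hS ((hg x).mp hx) (by simpa [mul_inv_eq_one, mul_eq_left] using hx1)
      (c := g • a) (by rw [mul_smul, mul_smul, inv_smul_smul, RankOne.smul_a_of_mem_Q hS hx])
  · intro g hg
    obtain ⟨x, hx, hx1⟩ := RankOne.exists_ne_one hS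
    by_contra hga
    have hne : g • a ≠ a := hga
    have h : (g⁻¹ * x * g) • a = a := by
      have := (hg (g⁻¹ * x * g)).mpr (by simpa [mul_assoc] using hS.le hx)
      exact this
    rw [mul_smul, mul_smul, inv_smul_eq_iff] at h
    exact hx1 (RankOne.Q_free hS hx hne h)

end Cfsg.Agent.S1118
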