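import Cfsg.Statements.S1120
import Cfsg.Agent.RankOne.Central
import Cfsg.Agent.Coprime.Generation
-- import your own Cfsg.Agent.* helpers here

set_option autoImplicit false
open Cfsg
open Cfsg.Agent
open scoped commutatorElement Pointwise

namespace Cfsg.Agent.S1120

/-- In the rank-one set-up (`G` finite and doubly transitive on `Ω`, `t` an involution moving `a`, `Q` normal in `G_a` with `G_a = Q D`, `Q ⊓ D = 1` for the two-point stabiliser `D = G_a ⊓ G_{t • a}`, `|Q|` even, `|D|` odd), if `G` has 2-rank at least 2 then `O_{2'}(G)` equals the normal core of `G_a`. -/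
theorem result {G Ω : Type*} [Group G] [Finite G] [MulAction G Ω] {a : Ω} {t : G} {Q : Subgroup G}
    (hS : Cfsg.IsRankOneSetup G Ω a t Q)
    (h2 : ∃ x y : G, x ≠ 1 ∧ y ≠ 1 ∧ x ≠ y ∧ x * x = 1 ∧ y * y = 1 ∧ x * y = y * x) :
    Cfsg.pPrimeCore 2 G = (MulAction.stabilizer G a).normalCore := by
  have : Fact (Nat.Prime 2) := ⟨Nat.prime_two⟩
  refine le_antisymm (sSup_le fun N hN => ?_) (le_sSup ⟨Subgroup.normalCore_normal _, ?_⟩)
  · obtain ⟨hNn, hNc⟩ := hN
    rw [Subgroup.normal_le_normalCore]
    obtain ⟨s, hs, s', hs', hne, hc⟩ := RankOne.exists_two_invol hS h2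
    have h2N : Nat.Coprime 2 (Nat.card N) := hNc.symm
    have hA : IsPGroup 2 (Subgroup.closure ({s, s'} : Set G)) := by
      rintro ⟨x, hx⟩
      refine ⟨1, Subtype.ext ?_⟩
      show x ^ (2 ^ 1) = 1
      rw [pow_one, pow_two]
      suffices h : x * x = 1 ∧ Commute x s ∧ Commute x s' from h.1
      induction hx using Subgroup.closure_induction with
      | mem y hy =>
        rcases hy with rfl | rfl
        · exact ⟨hs.2.2, Commute.refl _, hc⟩
        · exact ⟨hs'.2.2, hc.symm, Commute.refl _⟩
      | one => exact ⟨one_mul 1, Commute.one_left _, Commute.one_left _⟩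
      | mul y z hy hz ihy ihz =>
        refine ⟨?_, ihy.2.1.mul_left ihz.2.1, ihy.2.2.mul_left ihz.2.2⟩
        have hyz : Commute y z := by
          have hle : Subgroup.closure ({s, s'} : Set G) ≤ Subgroup.centralizer {y} := by
            rw [Subgroup.closure_le]
            rintro m (rfl | rfl)
            · exact Subgroup.mem_centralizer_singleton_iff.mpr ihy.2.1.eq.symm
            · exact Subgroup.mem_centralizer_singleton_iff.mpr ihy.2.2.eq.symm
          exact (show z * y = y * z from Subgroup.mem_centralizer_singleton_iff.mp (hle hz)).symm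
        rw [mul_assoc, ← mul_assoc z, ← hyz.eq, mul_assoc, ihz.1, mul_one, ihy.1]
      | inv y hy ihy =>
        exact ⟨by rw [← mul_inv_rev, ihy.1, inv_one], ihy.2.1.inv_left, ihy.2.2.inv_left⟩
    obtain ⟨n, hn⟩ := IsPGroup.iff_card.mp hA
    have key : ∀ w : G, w * w = 1 → w ≠ 1 → w • a = a →
        N ⊓ Subgroup.centralizer {w} ≤ MulAction.stabilizer G a := fun w hw hw1 hwa x hx =>
      RankOne.commute_fixed_point hS hw hw1 hwa (Subgroup.mem_centralizer_singleton_iff.mp hx.2).symm
    refine Coprime.le_of_centralizers_le (a := s) (b := s') hc ?_ ?_ Nat.prime_two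
      (by rw [pow_two, hs.2.2]; exact one_mem _) (by rw [pow_two, hs'.2.2]; exact one_mem _) h2N
      (by rw [hn]; exact h2N.pow_left n) (key s hs.2.2 hs.2.1 hs.1) (fun k => ?_)
    · rw [Subgroup.normalizer_eq_top]; exact Subgroup.mem_top _
    · rw [Subgroup.normalizer_eq_top]; exact Subgroup.mem_top _
    · have hpow : s ^ k = 1 ∨ s ^ k = s := by
        induction k with
        | zero => exact Or.inl (pow_zero s)
        | succ k ih =>
          rcases ih with h | h
          · exact Or.inr (by rw [pow_succ, h, one_mul])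
          · exact Or.inl (by rw [pow_succ, h, hs.2.2])
      rcases hpow with h | h
      · rw [h, one_mul]; exact key s' hs'.2.2 hs'.2.1 hs'.1
      · rw [h]
        refine key _ ?_ ?_ (by rw [mul_smul, (show s' • a = a from hs'.1), (show s • a = a from hs.1)])
        · rw [mul_assoc, ← mul_assoc s' s, ← hc.eq, mul_assoc, hs'.2.2, mul_one, hs.2.2]
        · intro h1
          exact hne (by rw [eq_inv_of_mul_eq_one_right h1, inv_eq_of_mul_eq_one_right hs.2.2])
  · have hle : (MulAction.stabilizer G a).normalCore ≤ RankOne.twoPt G a t := by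
      refine le_inf (Subgroup.normalCore_le _) fun x hx => ?_
      have h : (t * x * t⁻¹) • a = a := hx t
      rw [mul_smul, mul_smul, RankOne.t_inv hS, smul_eq_iff_eq_inv_smul, RankOne.t_inv hS] at h
      exact h
    exact Nat.Coprime.coprime_dvd_left (Subgroup.card_dvd_of_le hle)
      (Nat.coprime_two_right.mpr hS.odd_card)

end Cfsg.Agent.S1120
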