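import Cfsg.Statements.S1124
import Cfsg.Agent.RankOne.Odd
import Cfsg.Agent.Coprime.Tools
-- import your own Cfsg.Agent.* helpers here

set_option autoImplicit false
open scoped Pointwise
open Cfsg
open Cfsg.Agent
open scoped commutatorElement Pointwise

namespace Cfsg.Agent.S1124

/-- Let `t` be an element of order 2 of a finite group normalising a subgroup `X` of odd order, `Y = C_X(t)` and `Z` the set of elements of `X` inverted by `t`. Then `(y, z) ↦ y z` is a bijection `Y × Z → X`, so `|X| = |Y| |Z|`, and the subgroup generated by `Z` is normal in `X`. -/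
theorem result {M : Type*} [Group M] [Finite M]
    (t : M) (ht : orderOf t = 2) (X : Subgroup M) (hodd : Odd (Nat.card X))
    (hnorm : ∀ x ∈ X, t * x * t⁻¹ ∈ X) :
    (∀ x ∈ X, ∃! p : M × M, p.1 ∈ X ⊓ Subgroup.centralizer {t} ∧ p.2 ∈ Cfsg.invertedBy X t ∧ x = p.1 * p.2) ∧
      Nat.card X = Nat.card ↥(X ⊓ Subgroup.centralizer {t}) * Nat.card (Cfsg.invertedBy X t) ∧
      ∀ x ∈ X, MulAut.conj x • Subgroup.closure (Cfsg.invertedBy X t) = Subgroup.closure (Cfsg.invertedBy X t) := by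
  have ht2 : t * t = 1 := by rw [← pow_two, ← ht, pow_orderOf_eq_one]
  have hex : ∀ x ∈ X, ∃! p : M × M, p.1 ∈ X ⊓ Subgroup.centralizer {t} ∧
      p.2 ∈ Cfsg.invertedBy X t ∧ x = p.1 * p.2 := by
    intro x hx
    obtain ⟨c, k, hcX, hc, hk, e⟩ := RankOne.exists_decomp ht2 hodd hnorm hx
    refine ⟨(c, k), ⟨⟨hcX, Subgroup.mem_centralizer_singleton_iff.mpr hc.eq.symm⟩, hk, e⟩, ?_⟩
    rintro ⟨c', k'⟩ ⟨hc', hk', e'⟩
    obtain ⟨e1, e2⟩ := RankOne.decomp_unique ht2 hodd
      (Subgroup.mem_centralizer_singleton_iff.mp hc'.2).symm hc hk' hk (e'.symm.trans e)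
    exact Prod.ext e1 e2
  refine ⟨hex, ?_, ?_⟩
  · let φ : ↥(X ⊓ Subgroup.centralizer {t}) × Cfsg.invertedBy X t → X :=
      fun p => ⟨(p.1 : M) * p.2, X.mul_mem p.1.2.1 p.2.2.1⟩
    have hbij : Function.Bijective φ := by
      refine ⟨?_, ?_⟩
      · rintro ⟨⟨c, hc⟩, ⟨k, hk⟩⟩ ⟨⟨c', hc'⟩, ⟨k', hk'⟩⟩ h
        obtain ⟨rfl, rfl⟩ := RankOne.decomp_unique ht2 hodd
          (Subgroup.mem_centralizer_singleton_iff.mp hc.2).symm
          (Subgroup.mem_centralizer_singleton_iff.mp hc'.2).symm hk hk' (congrArg Subtype.val h)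
        rfl
      · rintro ⟨x, hx⟩
        obtain ⟨p, ⟨h1, h2, e⟩, -⟩ := hex x hx
        exact ⟨(⟨p.1, h1⟩, ⟨p.2, h2⟩), Subtype.ext e.symm⟩
    rw [← Nat.card_eq_of_bijective φ hbij, Nat.card_prod]
  · intro x hx
    refine Coprime.conj_smul_eq_self_of_mem_normalizer ?_
    obtain ⟨c, k, hcX, hc, hk, rfl⟩ := RankOne.exists_decomp ht2 hodd hnorm hx
    refine mul_mem ?_ (Subgroup.le_normalizer (Subgroup.subset_closure hk))
    refine Subgroup.mem_normalizer_iff.mpr fun n => ?_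
    have key : ∀ c : M, c ∈ X → Commute t c → ∀ n ∈ Subgroup.closure (Cfsg.invertedBy X t),
        c * n * c⁻¹ ∈ Subgroup.closure (Cfsg.invertedBy X t) := by
      intro c hcX hc n hn
      have hle : Subgroup.closure (Cfsg.invertedBy X t) ≤
          (Subgroup.closure (Cfsg.invertedBy X t)).comap (MulAut.conj c).toMonoidHom := by
        rw [Subgroup.closure_le]
        intro m hm
        refine Subgroup.subset_closure ((RankOne.mem_invertedBy ht2).mpr
          ⟨X.mul_mem (X.mul_mem hcX hm.1) (X.inv_mem hcX), ?_⟩)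
        have hm2 := ((RankOne.mem_invertedBy ht2).mp hm).2
        calc t * (c * m * c⁻¹) * t = (t * c) * m * (c⁻¹ * t) := by simp only [mul_assoc]
          _ = (c * t) * m * (t * c⁻¹) := by rw [hc.eq, hc.inv_right.eq]
          _ = c * (t * m * t) * c⁻¹ := by simp only [mul_assoc]
          _ = (c * m * c⁻¹)⁻¹ := by rw [hm2]; simp [mul_assoc]
      exact hle hn
    refine ⟨key c hcX hc n, fun h => ?_⟩
    have := key c⁻¹ (X.inv_mem hcX) hc.inv_right _ h
    simpa [mul_assoc] using this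

end Cfsg.Agent.S1124
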