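import Cfsg.Statements.S1125
import Cfsg.Agent.RankOne.Centralized
-- import your own Cfsg.Agent.* helpers here

set_option autoImplicit false
open Cfsg
open Cfsg.Agent
open scoped commutatorElement Pointwise

namespace Cfsg.Agent.S1125

/-- In the rank-one set-up (`G` finite and doubly transitive on `Ω`, `t` an involution moving `a`, `Q` normal in `G_a` with `G_a = Q D`, `Q ⊓ D = 1` for the two-point stabiliser `D = G_a ⊓ G_{t • a}`, `|Q|` even, `|D|` odd), let `X ⊆ D` fix at least three points of `Ω`. Then `C_G(X)` is doubly transitive on the fixed-point set of `X`, `|C_Q(X)|` is even, and `C_{G_a}(X) = C_Q(X) C_D(X)`. -/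
theorem result {G Ω : Type*} [Group G] [Finite G] [MulAction G Ω] {a : Ω} {t : G} {Q : Subgroup G}
    (hS : Cfsg.IsRankOneSetup G Ω a t Q)
    (X : Set G) (hX : X ⊆ ((MulAction.stabilizer G a ⊓ MulAction.stabilizer G (t • a)) : Set G))
    (h3 : ∃ b c d : Ω, b ≠ c ∧ b ≠ d ∧ c ≠ d ∧ ∀ x ∈ X, x • b = b ∧ x • c = c ∧ x • d = d) :
    (∀ b₁ b₂ c₁ c₂ : Ω, (∀ x ∈ X, x • b₁ = b₁ ∧ x • b₂ = b₂ ∧ x • c₁ = c₁ ∧ x • c₂ = c₂) →
        b₁ ≠ b₂ → c₁ ≠ c₂ → ∃ g ∈ Subgroup.centralizer X, g • b₁ = c₁ ∧ g • b₂ = c₂) ∧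
      Even (Nat.card ↥(Subgroup.centralizer X ⊓ Q)) ∧
      (Subgroup.centralizer X ⊓ Q) ⊔ (Subgroup.centralizer X ⊓ (MulAction.stabilizer G a ⊓ MulAction.stabilizer G (t • a))) = Subgroup.centralizer X ⊓ MulAction.stabilizer G a := by
  have hX' : ∀ x ∈ X, x ∈ RankOne.twoPt G a t := fun x hx => ⟨(hX hx).1, (hX hx).2⟩
  have h3' := RankOne.exists_third hX' h3
  refine ⟨fun b₁ b₂ c₁ c₂ h hb hc => ?_, ?_, le_antisymm ?_ ?_⟩
  · obtain ⟨g, hg, hga, hgb⟩ := RankOne.cent_pairs hS hX' h3' (fun x hx => (h x hx).1)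
      (fun x hx => (h x hx).2.1) hb
    obtain ⟨g', hg', hga', hgb'⟩ := RankOne.cent_pairs hS hX' h3' (fun x hx => (h x hx).2.2.1)
      (fun x hx => (h x hx).2.2.2) hc
    exact ⟨g' * g⁻¹, mul_mem hg' (inv_mem hg), by rw [mul_smul, ← hga, inv_smul_smul, hga'],
      by rw [mul_smul, ← hgb, inv_smul_smul, hgb']⟩
  · obtain ⟨s, hs, hsI⟩ := RankOne.exists_invol_cent hS hX' h3'
    have hmem : s ∈ Subgroup.centralizer X ⊓ Q := ⟨hs, RankOne.mem_I_Q hS hsI⟩
    refine even_iff_two_dvd.mpr ?_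
    have h := Subgroup.orderOf_dvd_natCard _ hmem
    rwa [orderOf_eq_prime (p := 2) (by rw [pow_two, hsI.2.2]) hsI.2.1] at h
  · exact sup_le (inf_le_inf_left _ hS.le) (inf_le_inf_left _ RankOne.twoPt_le)
  · rintro h ⟨hhC, hha⟩
    obtain ⟨q, hq, d, hd, rfl⟩ := RankOne.stabilizer_split hS hha
    have hkey : ∀ x ∈ X, x * q = q * x ∧ x * d = d * x := by
      intro x hx
      have h1 := Subgroup.mem_centralizer_iff.mp hhC x hx
      obtain ⟨e1, e2⟩ := RankOne.split_unique hS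
        (RankOne.conj_mem_Q hS (RankOne.twoPt_le (hX' x hx)) hq) hq
        (mul_mem (mul_mem (hX' x hx) hd) (inv_mem (hX' x hx))) hd
        (by
          calc x * q * x⁻¹ * (x * d * x⁻¹) = x * (q * d) * x⁻¹ := by simp [mul_assoc]
            _ = q * d := by rw [h1, mul_inv_cancel_right])
      exact ⟨mul_inv_eq_iff_eq_mul.mp e1, mul_inv_eq_iff_eq_mul.mp e2⟩
    exact Subgroup.mul_mem_sup ⟨Subgroup.mem_centralizer_iff.mpr fun x hx => (hkey x hx).1, hq⟩
      ⟨Subgroup.mem_centralizer_iff.mpr fun x hx => (hkey x hx).2, hd⟩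

end Cfsg.Agent.S1125
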