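import Cfsg.Statements.S1141
import Cfsg.Agent.PSU3Sylow.Heis

set_option autoImplicit false
open Cfsg
open Cfsg.Agent

namespace Cfsg.Agent.S1141

/-- Let `q = 2^n ≥ 4` and `|F| = q²`. A Sylow 2-subgroup `S` of `PSU₃(q)` has order `q³`, its centre has order `q`, and `S` is a Suzuki 2-group. -/
theorem result {F : Type*} [Field F] [Fintype F] {n : ℕ} (hn : 2 ≤ n)
    (hF : Fintype.card F = (2 ^ n) ^ 2) (S : Sylow 2 (Cfsg.PSU 3 F (2 ^ n))) :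
    Nat.card S = (2 ^ n) ^ 3 ∧ Nat.card (Subgroup.center ↥(S : Subgroup (Cfsg.PSU 3 F (2 ^ n)))) = 2 ^ n ∧
      Cfsg.IsSuzukiTwoGroup ↥(S : Subgroup (Cfsg.PSU 3 F (2 ^ n))) := by
  haveI : CharP F 2 := PSU3Sylow.charTwo (k := n * 2) (hF.trans (pow_mul 2 n 2).symm)
  obtain ⟨σ, hu⟩ := AutPSU.exists_uctx hF
  obtain ⟨e⟩ := PSU3Sylow.exists_equiv hu (by omega) rfl S
  refine ⟨(Nat.card_congr e.toEquiv).trans PSU3Sylow.Heis.card_eq,
    (Nat.card_congr (Subgroup.centerCongr e).toEquiv).trans PSU3Sylow.Heis.card_center,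
    PSU3Sylow.isSuzuki_of_equiv e (PSU3Sylow.Heis.isSuzuki ?_)⟩
  calc 3 ≤ 2 ^ 2 := by norm_num
    _ ≤ 2 ^ n := Nat.pow_le_pow_right two_pos hn

end Cfsg.Agent.S1141
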