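import Cfsg.Agent.OddTrans.Six
import Cfsg.Prelude.Def_Solvable

set_option autoImplicit false

namespace Cfsg.Agent.S1161

open Subgroup

theorem result {D E : Type*} [Group D] [Finite D]
    [AddCommGroup E] [Finite E] [Nontrivial E] [DistribMulAction D E] [FaithfulSMul D E]
    (hodd : Odd (Nat.card D)) {q : ℕ} (hq : q.Prime) (hE : ∀ e : E, q • e = 0)
    (htrans : ∀ a b : E, a ≠ 0 → b ≠ 0 → ∃ d : D, d • a = b) :
    IsCyclic ↥(Cfsg.fittingSubgroup D) ∧
      (∀ g ∈ Cfsg.fittingSubgroup D, g ≠ 1 → ∀ a : E, g • a = a → a = 0) ∧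
      commutator D ≤ Cfsg.fittingSubgroup D := by
  classical
  have := Fact.mk hq
  letI : Module (ZMod q) E := AddCommGroup.zmodModule hE
  -- the prime is two
  have hq2 : q = 2 := by
    by_contra hne
    obtain ⟨v, hv⟩ := exists_ne (0 : E)
    have ho : MulAction.orbit D v = ({0}ᶜ : Set E) := Set.ext fun w =>
      ⟨by rintro ⟨g, rfl⟩ h; exact hv ((smul_eq_zero_iff_eq g).1 h), fun hw => htrans v w hv hw⟩
    have h1 : (MulAction.stabilizer D v).index ∣ Nat.card D := index_dvd_card _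
    have h2 : Nat.card E = q ^ Module.finrank (ZMod q) E := by
      exact (FiniteField.pow_finrank_eq_natCard q E).symm
    rw [MulAction.index_stabilizer, ho, Set.ncard_compl, Set.ncard_singleton, h2] at h1
    obtain ⟨j, hj⟩ := (hq.odd_of_ne_two hne).pow (n := Module.finrank (ZMod q) E)
    obtain ⟨i, hi⟩ := hodd.of_dvd_nat h1
    omega
  subst hq2
  let ρ : D →* (E ≃ₗ[ZMod 2] E) :=
    { toFun := fun d => AddEquiv.toLinearEquiv (DistribMulAction.toAddEquiv E d)
        (fun c x => ZMod.map_smul (DistribMulAction.toAddEquiv E d) c x)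
      map_one' := LinearEquiv.ext fun x => one_smul D x
      map_mul' := fun a b => LinearEquiv.ext fun x => mul_smul a b x }
  have hρ : Function.Injective ρ := fun a b h =>
    eq_of_smul_eq_smul fun x : E => congrArg (fun f : E ≃ₗ[ZMod 2] E => f x) h
  obtain ⟨C, ⟨hCn, hCcyc, -, -, hCfix, hcomm, hnil⟩, -⟩ :=
    OddTrans.exists_kernel ρ hρ hodd htrans
  have hF : Cfsg.fittingSubgroup D = C := by
    refine le_antisymm (sSup_le fun N hN => hnil N hN.1 hN.2) (le_sSup ⟨hCn, ?_⟩)
    letI := hCcyc.commGroup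
    infer_instance
  rw [hF]
  exact ⟨hCcyc, fun g hg hg1 a ha => hCfix g hg hg1 a ha, hcomm⟩

end Cfsg.Agent.S1161
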