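import Cfsg.Statements.S1167
import Cfsg.Agent.RankOne.AbelianKernel
-- import your own Cfsg.Agent.* helpers here

set_option autoImplicit false
open Cfsg
open Cfsg.Agent

namespace Cfsg.Agent.S1167

/-- Let `G` be a finite simple Zassenhaus group on `Ω`, `U` a normal subgroup of `G_a` regular on `Ω` minus `a` which is an abelian 2-group, and `v` an involution with `v • a ≠ a`. Then there is a unique `u₀ ∈ U`, `u₀ ≠ 1`, with `v u₀ v = u₀ v u₀`. -/
theorem result {G Ω : Type*} [Group G] [Finite G] [MulAction G Ω] [Finite Ω]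
    (hZ : Cfsg.IsZassenhausGroup G Ω) [IsSimpleGroup G] {a : Ω}
    (U : Subgroup G) (hUle : U ≤ MulAction.stabilizer G a)
    (hUn : ∀ h ∈ MulAction.stabilizer G a, ∀ u ∈ U, h * u * h⁻¹ ∈ U)
    (hreg : ∀ c d : Ω, c ≠ a → d ≠ a → ∃! u : U, (u : G) • c = d)
    (hU2 : IsPGroup 2 U) (hUab : ∀ u ∈ U, ∀ u' ∈ U, u * u' = u' * u)
    (v : G) (hv1 : v ≠ 1) (hv2 : v * v = 1) (hva : v • a ≠ a) :
    ∃! u₀ : G, u₀ ∈ U ∧ u₀ ≠ 1 ∧ v * u₀ * v = u₀ * v * u₀ := by
  classical
  have hT := RankOne.threeFree_of_zassenhaus hZ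
  obtain ⟨c, hca, hcb⟩ := hT.exists_third a (v • a)
  set b := v • a with hb
  have hfix : ∀ u ∈ U, ∀ x : Ω, x ≠ a → u • x = x → u = 1 := fun u hu x hx h =>
    congrArg Subtype.val ((hreg x x hx hx).unique (y₁ := ⟨u, hu⟩) (y₂ := 1) h (by simp))
  have hUa : ∀ u ∈ U, u • a = a := fun u hu => hUle hu
  have hne : ∀ u ∈ U, u • b ≠ a := fun u hu e =>
    hva (MulAction.injective u (e.trans (hUa u hu).symm))
  have hUne : U ≠ ⊥ := by
    intro e
    obtain ⟨⟨u, hu⟩, h, -⟩ := hreg b c hva hca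
    rw [e, Subgroup.mem_bot] at hu
    subst hu
    rw [one_smul] at h
    exact hcb h.symm
  have heven : Even (Nat.card U) := by
    have : Fact (Nat.Prime 2) := ⟨Nat.prime_two⟩
    obtain ⟨k, hk⟩ := IsPGroup.iff_card.mp hU2
    cases k with
    | zero => exact absurd (Subgroup.card_eq_one.mp (by rw [hk, pow_zero])) hUne
    | succ k => exact ⟨2 ^ k, by rw [hk, pow_succ]; ring⟩
  have hDodd : Odd (Nat.card ↥(MulAction.stabilizer G a ⊓ MulAction.stabilizer G b)) := by
    by_contra h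
    have : Fact (Nat.Prime 2) := ⟨Nat.prime_two⟩
    obtain ⟨d, hd⟩ := exists_prime_orderOf_dvd_card'
      (G := ↥(MulAction.stabilizer G a ⊓ MulAction.stabilizer G b)) 2
      (even_iff_two_dvd.mp (Nat.not_odd_iff_even.mp h))
    rw [← Subgroup.orderOf_coe] at hd
    have hd1 : (d : G) ≠ 1 := fun e => by rw [e, orderOf_one] at hd; omega
    have hd2 : (d : G) * d = 1 := by rw [← pow_two, ← hd, pow_orderOf_eq_one]
    let σ : U → U := fun q => ⟨(d : G) * q * (d : G)⁻¹, hUn _ d.2.1 _ q.2⟩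
    have hσ : ∀ q, σ (σ q) = q := fun q => Subtype.ext (by
      show (d : G) * ((d : G) * q * (d : G)⁻¹) * (d : G)⁻¹ = q
      calc (d : G) * ((d : G) * q * (d : G)⁻¹) * (d : G)⁻¹
          = ((d : G) * d) * q * ((d : G) * d)⁻¹ := by simp [mul_assoc]
        _ = q := by rw [hd2]; simp)
    have hfp : ∀ q : U, σ q = q ↔ q = 1 := by
      refine fun q => ⟨fun e => ?_, fun e => e ▸ Subtype.ext (by simp [σ])⟩
      have e1 : (d : G) * q = q * d := mul_inv_eq_iff_eq_mul.mp (congrArg Subtype.val e)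
      by_cases hqb : (q : G) • b = b
      · exact Subtype.ext (hfix q q.2 b hva hqb)
      · refine absurd (hT.three (d : G) a b ((q : G) • b) hva.symm (Ne.symm hqb)
          (hne q q.2).symm d.2.1 d.2.2 ?_) hd1
        rw [← mul_smul, e1, mul_smul, show (d : G) • b = b from d.2.2]
    letI : Fintype U := Fintype.ofFinite _
    have hpar := Equiv.Perm.card_fixedPoints_modEq (p := 2) (n := 1) (f := (σ : Function.End U))
      (funext fun q => hσ q)
    have hone : Fintype.card (Function.fixedPoints (σ : Function.End U)) = 1 :=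
      Fintype.card_eq_one_iff.mpr ⟨⟨1, (hfp 1).mpr rfl⟩, fun y =>
        Subtype.ext ((hfp (y : U)).mp y.2)⟩
    rw [hone, ← Nat.card_eq_fintype_card] at hpar
    rw [Nat.ModEq] at hpar
    have := Nat.even_iff.mp heven
    omega
  have hS : Cfsg.IsRankOneSetup G Ω a v U := by
    refine ⟨hT.two_transitive, hv2, hv1, hva, hUle, hUn, eq_bot_iff.mpr ?_, ?_, heven, hDodd⟩
    · rintro u ⟨hu, hub⟩
      exact (Subgroup.mem_bot).mpr (hfix u hu b hva hub)
    · refine le_antisymm (sup_le hUle inf_le_left) fun x hx => ?_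
      have hxb : x • b ≠ a := fun e =>
        hva (MulAction.injective x (e.trans (show x • a = a from hx).symm))
      obtain ⟨q, hq, -⟩ := hreg b (x • b) hva hxb
      rw [← mul_inv_cancel_left (q : G) x]
      refine Subgroup.mul_mem_sup q.2
        ⟨(MulAction.stabilizer G a).mul_mem ((MulAction.stabilizer G a).inv_mem (hUle q.2)) hx, ?_⟩
      show ((q : G)⁻¹ * x) • b = b
      rw [mul_smul, ← hq, inv_smul_smul]
  exact RankOne.AbelianKernel.existsUnique_structure hT hS hUab hU2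

end Cfsg.Agent.S1167
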