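import Cfsg.Statements.S1172
import Cfsg.Agent.ProdFusion.Direct

set_option autoImplicit false
open Cfsg

namespace Cfsg.Agent.S1172

/-- Let G be a finite group with no nontrivial normal subgroup of odd order and no proper normal subgroup of odd index, whose Sylow 2-subgroup S is not commutative and is the internal direct product of two subgroups each isomorphic to a dihedral group of order at least 4 and each strongly closed in S with respect to G (product fusion). Then G is the internal direct product of two normal subgroups G₁, G₂, and S is the internal direct product of dihedral subgroups R₁ ≤ G₁ and R₂ ≤ G₂ of odd index in G₁ and G₂ respectively (so R_i is a Sylow 2-subgroup of G_i). -/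
theorem result {G : Type*} [Group G] [Finite G] (hO : Cfsg.oddCore G = ⊥) (hO' : ∀ N : Subgroup G, N.Normal → Odd N.index → N = ⊤) (S : Sylow 2 G) (hS : ¬ IsMulCommutative (S : Subgroup G)) (S₁ S₂ : Subgroup G) (hprod : Cfsg.IsInternalDirectProduct S₁ S₂ (S : Subgroup G)) (m₁ m₂ : ℕ) (hm₁ : 2 ≤ m₁) (hm₂ : 2 ≤ m₂) (e₁ : S₁ ≃* DihedralGroup m₁) (e₂ : S₂ ≃* DihedralGroup m₂) (hcl₁ : Cfsg.IsStronglyClosed S₁ (S : Subgroup G)) (hcl₂ : Cfsg.IsStronglyClosed S₂ (S : Subgroup G)) : ∃ G₁ G₂ : Subgroup G, G₁.Normal ∧ G₂.Normal ∧ Cfsg.IsInternalDirectProduct G₁ G₂ ⊤ ∧ ∃ R₁ R₂ : Subgroup G, Cfsg.IsInternalDirectProduct R₁ R₂ (S : Subgroup G) ∧ (∃ n₁, 2 ≤ n₁ ∧ Nonempty (R₁ ≃* DihedralGroup n₁)) ∧ (∃ n₂, 2 ≤ n₂ ∧ Nonempty (R₂ ≃* DihedralGroup n₂)) ∧ R₁ ≤ G₁ ∧ R₂ ≤ G₂ ∧ Odd (R₁.relIndex G₁) ∧ Odd (R₂.relIndex G₂) := by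
  obtain ⟨h1, h2, hc, hd, hsup⟩ := hprod
  have hset : ProdFusion.Setting S S₁ S₂ := ⟨hcl₁, hcl₂, hc, hd⟩
  have hsup' : S₂ ⊔ S₁ = (S : Subgroup G) := by rw [sup_comm]; exact hsup
  set N₁ := Subgroup.normalClosure (S₁ : Set G) with hN₁
  set N₂ := Subgroup.normalClosure (S₂ : Set G) with hN₂
  have htop : N₁ ⊔ N₂ = ⊤ := by
    refine hO' _ inferInstance ?_
    refine Nat.not_even_iff_odd.1 fun he => ?_
    haveI : Fact (Nat.Prime 2) := ⟨Nat.prime_two⟩
    have hle : (S : Subgroup G) ≤ N₁ ⊔ N₂ := hsup ▸ sup_le_sup Subgroup.le_normalClosure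
      Subgroup.le_normalClosure
    exact S.not_dvd_index ((even_iff_two_dvd.1 he).trans (Subgroup.index_dvd_of_le hle))
  refine ⟨N₁, N₂, inferInstance, inferInstance,
    ⟨le_top, le_top, fun a ha b hb => hset.closures_commute hO ha hb,
      hset.closures_disjoint hO hsup, htop⟩,
    S₁, S₂, ⟨h1, h2, hc, hd, hsup⟩, ⟨m₁, hm₁, ⟨e₁⟩⟩, ⟨m₂, hm₂, ⟨e₂⟩⟩,
    Subgroup.le_normalClosure, Subgroup.le_normalClosure,
    hset.sylow_odd hO hsup, hset.symm.sylow_odd hO hsup'⟩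

end Cfsg.Agent.S1172
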