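import Mathlib
import Cfsg.Agent.Isolated.Basic
import Cfsg.Statements.S1176

set_option autoImplicit false
open Cfsg
open scoped commutatorElement

namespace Cfsg.Agent.S1176

/-- Let x₀ be an involution of the finite group G and D its conjugacy class. Assume (a) for each x ∈ D the subgroup W(x) generated by the members of D commuting with x is a 2-group of nilpotency class at most 2, and (b) the product of two distinct commuting members of D again lies in D. Then for all x, y ∈ D, if xy has even order greater than 2, its order is 4. -/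
theorem result {G : Type*} [Group G] [Finite G] (x₀ : G) (hx₀ : orderOf x₀ = 2) (ha : ∀ x : G, IsConj x₀ x → IsPGroup 2 ↥(Subgroup.closure {y : G | IsConj x₀ y ∧ Commute y x}) ∧ ⁅⁅Subgroup.closure {y : G | IsConj x₀ y ∧ Commute y x}, Subgroup.closure {y : G | IsConj x₀ y ∧ Commute y x}⁆, Subgroup.closure {y : G | IsConj x₀ y ∧ Commute y x}⁆ = ⊥) (hb : ∀ x y : G, IsConj x₀ x → IsConj x₀ y → x ≠ y → Commute x y → IsConj x₀ (x * y)) (x y : G) (hx : IsConj x₀ x) (hy : IsConj x₀ y) (heven : Even (orderOf (x * y))) (hgt : 2 < orderOf (x * y)) : orderOf (x * y) = 4 := by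
  have hxx : x * x = 1 := by rw [← pow_two, ← hx₀, hx.choose_spec.orderOf_eq]; exact pow_orderOf_eq_one x
  have hyy : y * y = 1 := by rw [← pow_two, ← hx₀, hy.choose_spec.orderOf_eq]; exact pow_orderOf_eq_one y
  set w := x * y with hw
  have hi : x * w * x = w⁻¹ := Cfsg.Agent.Isolated.inv_dihedral hxx hyy
  obtain ⟨m, hm⟩ := heven
  set W := Subgroup.closure {u : G | IsConj x₀ u ∧ Commute u (w ^ m)} with hW
  have hmm : w ^ m * w ^ m = 1 := by rw [← pow_add, ← hm]; exact pow_orderOf_eq_one w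
  have hmne : w ^ m ≠ 1 := pow_ne_one_of_lt_orderOf (by omega) (by omega)
  have hmi : (w ^ m)⁻¹ = w ^ m := inv_eq_of_mul_eq_one_right hmm
  have hxm : Commute x (w ^ m) := by
    show x * w ^ m = w ^ m * x
    rw [Cfsg.Agent.Isolated.conj_pow_mul hi hxx m, hmi]
  have hxi : x⁻¹ = x := inv_eq_of_mul_eq_one_right hxx
  have hwy : y = x * w := by rw [hw, ← mul_assoc, hxx, one_mul]
  -- the conjugate w^m * x of x₀
  have hconj : IsConj x₀ (w ^ m * x) := by
    rcases Nat.even_or_odd m with ⟨j, hj⟩ | ⟨j, hj⟩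
    · refine hx.trans (isConj_iff.mpr ⟨w ^ j, ?_⟩)
      rw [hj, pow_add, mul_assoc (w ^ j) x, mul_assoc (w ^ j) (w ^ j) x,
        Cfsg.Agent.Isolated.conj_pow_mul hi hxx j]
    · refine hy.trans (isConj_iff.mpr ⟨w ^ (j + 1), ?_⟩)
      have hyw : y = w⁻¹ * x := by rw [← hi, mul_assoc, hxx, mul_one, hwy]
      calc w ^ (j + 1) * y * (w ^ (j + 1))⁻¹ = w ^ (j + 1) * w⁻¹ * (x * (w ^ (j + 1))⁻¹) := by rw [hyw]; group
        _ = w ^ (j + 1) * w⁻¹ * (w ^ (j + 1) * x) := by rw [Cfsg.Agent.Isolated.conj_pow_mul hi hxx (j + 1)]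
        _ = w ^ j * w ^ (j + 1) * x := by rw [pow_succ]; group
        _ = w ^ m * x := by rw [← pow_add]; congr 2; omega
  have hzD : IsConj x₀ (w ^ m) := by
    have h := hb x (w ^ m * x) hx hconj (fun e => hmne (by simpa using e.symm)) (hxm.mul_right rfl)
    rwa [← mul_assoc, hxm.eq, mul_assoc, hxx, mul_one] at h
  have hym : Commute y (w ^ m) := by rw [hwy]; exact hxm.mul_left (Commute.self_pow w m)
  obtain ⟨hp, hc⟩ := ha (w ^ m) hzD
  rw [← hW] at hp hc
  have hxW : x ∈ W := Subgroup.subset_closure ⟨hx, hxm⟩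
  have hyW : y ∈ W := Subgroup.subset_closure ⟨hy, hym⟩
  have h3 : ⁅⁅x, y⁆, x⁆ = 1 := by
    rw [← Subgroup.mem_bot, ← hc]
    exact Subgroup.commutator_mem_commutator (Subgroup.commutator_mem_commutator hxW hyW) hxW
  have hyi : y⁻¹ = y := inv_eq_of_mul_eq_one_right hyy
  have hxy : ⁅x, y⁆ = w ^ 2 := by
    rw [commutatorElement_def, hxi, hyi, pow_two, hw]; group
  rw [hxy, commutatorElement_eq_one_iff_mul_comm] at h3
  have h4 : w ^ 4 = 1 := by
    have h5 : (w ^ 2)⁻¹ = w ^ 2 := by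
      have h6 := Cfsg.Agent.Isolated.conj_pow_mul hi hxx 2
      rw [h3] at h6
      exact (mul_left_cancel h6).symm
    calc w ^ 4 = w ^ 2 * w ^ 2 := by rw [← pow_add]
      _ = 1 := by nth_rw 1 [← h5]; simp
  have hdvd := orderOf_dvd_of_pow_eq_one h4
  have hle := Nat.le_of_dvd (by norm_num) hdvd
  rcases (by omega : orderOf w = 3 ∨ orderOf w = 4) with h | h
  · rw [h] at hdvd; norm_num at hdvd
  · exact h

end Cfsg.Agent.S1176
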