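import Mathlib
import Cfsg.Statements.S1177

set_option autoImplicit false
open Cfsg

namespace Cfsg.Agent.S1177

/-- Let A be a nontrivial elementary abelian 2-subgroup of a finite group G which is a T.I. set (each conjugate of A meets A trivially or equals A) and which does not commute elementwise with any conjugate of A other than A itself. Then for every a ∈ A, a ≠ 1, every conjugate of A contained in C_G(a) is equal to A (A is weakly closed in C_G(a)). -/
theorem result {G : Type*} [Group G] [Finite G] (A : Subgroup G) (hA : Cfsg.IsElementaryAbelian 2 A) (hA1 : A ≠ ⊥) (hTI : ∀ g : G, A.map (MulAut.conj g).toMonoidHom ⊓ A = ⊥ ∨ A.map (MulAut.conj g).toMonoidHom = A) (hb : ∀ g : G, (∀ a ∈ A, ∀ b ∈ A.map (MulAut.conj g).toMonoidHom, a * b = b * a) → A.map (MulAut.conj g).toMonoidHom = A) (a : G) (ha : a ∈ A) (ha1 : a ≠ 1) (g : G) (hg : A.map (MulAut.conj g).toMonoidHom ≤ Subgroup.centralizer ({a} : Set G)) : A.map (MulAut.conj g).toMonoidHom = A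 := by
  obtain ⟨B, hB⟩ : ∃ B, B = A.map (MulAut.conj g).toMonoidHom := ⟨_, rfl⟩
  rw [← hB] at hg ⊢
  have hcomm : ∀ x ∈ A, ∀ y ∈ A, x * y = y * x := fun x hx y hy => by
    simpa using congrArg Subtype.val (hA.1.is_comm.comm (⟨x, hx⟩ : A) ⟨y, hy⟩)
  -- B normalises A
  have hnorm : ∀ b ∈ B, ∀ x ∈ A, b * x * b⁻¹ ∈ A := by
    intro b hb x hx
    have hba : b * a * b⁻¹ = a := by
      rw [Subgroup.mem_centralizer_singleton_iff.mp (hg hb)]; group
    rcases hTI b with h | h
    · exfalso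
      apply ha1
      rw [← Subgroup.mem_bot, ← h, Subgroup.mem_inf]
      exact ⟨⟨a, ha, hba⟩, ha⟩
    · rw [← h]; exact ⟨x, hx, rfl⟩
  by_cases hint : A ⊓ B = ⊥
  swap
  · rcases hTI g with h | h
    · exact absurd (by rw [← hB] at h; rwa [inf_comm] at h) hint
    · rwa [← hB] at h
  -- conjugates of B by elements of A
  have hTIB : ∀ x : G, ∀ b ∈ B, b ≠ 1 → x * b * x⁻¹ ∈ B → ∀ b' ∈ B, x * b' * x⁻¹ ∈ B := by
    intro x b hb hb1 hxb b' hb'
    rw [hB] at hb hxb hb' ⊢
    obtain ⟨c, hc, rfl⟩ := hb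
    obtain ⟨d, hd, hd'⟩ := hxb
    obtain ⟨c', hc', rfl⟩ := hb'
    simp only [MulEquiv.coe_toMonoidHom, MulAut.conj_apply] at hd' ⊢ hb1
    have e : g⁻¹ * x * g * c * (g⁻¹ * x * g)⁻¹ = d := by
      calc _ = g⁻¹ * (x * (g * c * g⁻¹) * x⁻¹) * g := by group
        _ = d := by rw [← hd']; group
    rcases hTI (g⁻¹ * x * g) with h | h
    · exfalso
      have : d ∈ (⊥ : Subgroup G) := h ▸ ⟨⟨c, hc, e⟩, hd⟩
      rw [Subgroup.mem_bot] at this
      rw [this] at e
      apply hb1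
      have : c = 1 := by
        calc c = (g⁻¹ * x * g)⁻¹ * (g⁻¹ * x * g * c * (g⁻¹ * x * g)⁻¹) * (g⁻¹ * x * g) := by group
          _ = 1 := by rw [e]; group
      rw [this]; group
    · refine ⟨g⁻¹ * x * g * c' * (g⁻¹ * x * g)⁻¹, ?_, ?_⟩
      · rw [← h]; exact ⟨c', hc', rfl⟩
      · simp only [MulEquiv.coe_toMonoidHom, MulAut.conj_apply]; group
  -- if x commutes with one nontrivial element of B then with all of them
  have hall : ∀ x ∈ A, ∀ b ∈ B, b ≠ 1 → x * b = b * x → ∀ b' ∈ B, x * b' = b' * x := by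
    intro x hx b hb hb1 hxb b' hb'
    have h1 := hTIB x b hb hb1 (by rwa [hxb, mul_inv_cancel_right]) b' hb'
    have h2 : b'⁻¹ * (x * b' * x⁻¹) ∈ A ⊓ B := by
      refine ⟨?_, B.mul_mem (B.inv_mem hb') h1⟩
      show b'⁻¹ * (x * b' * x⁻¹) ∈ A
      have := A.mul_mem (hnorm b'⁻¹ (B.inv_mem hb') x hx) (A.inv_mem hx)
      simpa [mul_assoc] using this
    rw [hint, Subgroup.mem_bot, inv_mul_eq_one] at h2
    nth_rw 2 [h2]
    group
  by_contra hne
  -- some x in A does not centralise B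
  obtain ⟨x, hx, hxn⟩ : ∃ x ∈ A, ∃ b ∈ B, x * b ≠ b * x := by
    by_contra hno
    push Not at hno
    exact hne (by rw [hB] at hno ⊢; exact hb g hno)
  -- φ b = [x, b] maps B injectively into C_A(B)
  let φ : B → A := fun b => ⟨x * ((b : G) * x * (b : G)⁻¹), mul_mem hx (hnorm b b.2 x hx)⟩
  have hxi : x⁻¹ = x := inv_eq_of_mul_eq_one_right (by rw [← pow_two]; exact hA.2 x hx)
  have hφ : Function.Injective φ := by
    intro b c hbc
    have h1 : (b : G) * x * (b : G)⁻¹ = (c : G) * x * (c : G)⁻¹ :=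
      mul_left_cancel (congrArg Subtype.val hbc)
    by_contra hbcne
    obtain ⟨b', hb', hb''⟩ := hxn
    apply hb''
    refine hall x hx ((c : G)⁻¹ * b) (mul_mem (inv_mem c.2) b.2) ?_ ?_ b' hb'
    · intro h
      exact hbcne (Subtype.ext (inv_mul_eq_one.mp h).symm)
    · calc x * ((c : G)⁻¹ * b) = (c : G)⁻¹ * ((c : G) * x * (c : G)⁻¹) * b := by group
        _ = (c : G)⁻¹ * b * x := by rw [← h1]; group
  have hbij : Function.Bijective φ := by
    have hcard : Nat.card B = Nat.card A := by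
      rw [hB]; exact Subgroup.card_map_of_injective (MulAut.conj g).injective
    exact (Nat.bijective_iff_injective_and_card φ).mpr ⟨hφ, hcard⟩
  obtain ⟨b, hb⟩ := hbij.2 ⟨x, hx⟩
  have h1 : x * ((b : G) * x * (b : G)⁻¹) = x := congrArg Subtype.val hb
  have h2 : (b : G) * x * (b : G)⁻¹ = 1 := by simpa using h1
  obtain ⟨b', hb', hb''⟩ := hxn
  apply hb''
  have : x = 1 := by simpa using h2
  simp [this]

end Cfsg.Agent.S1177
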