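import Mathlib
import Cfsg.Statements.S1178

set_option autoImplicit false
open Cfsg

namespace Cfsg.Agent.S1178

/-- Let A be a subgroup of a Sylow 2-subgroup S of the finite group G which is weakly closed in S. If a conjugate g A g⁻¹ commutes elementwise with A, then g A g⁻¹ = A. -/
theorem result {G : Type*} [Group G] [Finite G] (S : Sylow 2 G) (A : Subgroup G) (hW : Cfsg.IsWeaklyClosed A (S : Subgroup G)) (g : G) (hc : ∀ a ∈ A, ∀ b ∈ A.map (MulAut.conj g).toMonoidHom, a * b = b * a) : A.map (MulAut.conj g).toMonoidHom = A := by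
  obtain ⟨B, hB⟩ : ∃ B, B = A.map (MulAut.conj g).toMonoidHom := ⟨_, rfl⟩
  rw [← hB] at hc ⊢
  have hA2 : IsPGroup 2 A := S.2.to_le hW.1
  have hB2 : IsPGroup 2 B := hB ▸ hA2.map _
  have hN : B ≤ Subgroup.normalizer (A : Set G) := by
    intro b hb
    rw [Subgroup.mem_normalizer_iff]
    intro a
    constructor
    · intro ha; rwa [← hc a ha b hb, mul_inv_cancel_right]
    · intro ha
      have := hc _ ha b hb
      have e : a = b * a * b⁻¹ := by
        calc a = b⁻¹ * ((b * a * b⁻¹) * b) := by group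
          _ = b⁻¹ * (b * (b * a * b⁻¹)) := by rw [this]
          _ = _ := by group
      rwa [e]
  obtain ⟨R, hR⟩ := IsPGroup.exists_le_sylow (IsPGroup.to_sup_of_normal_left' hA2 hB2 hN)
  obtain ⟨x, hx⟩ := MulAction.exists_smul_eq G R S
  have hxR : (R : Subgroup G).map (MulAut.conj x).toMonoidHom = S := by
    rw [← hx]; rfl
  have h1 := hW.2 x (le_trans (Subgroup.map_mono (le_sup_left.trans hR)) hxR.le)
  have h2 := hW.2 (x * g) (by
    rw [map_mul]
    refine le_trans ?_ hxR.le
    refine le_trans (le_of_eq ?_) (Subgroup.map_mono (le_sup_right.trans hR))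
    rw [hB, Subgroup.map_map]; rfl)
  apply Subgroup.map_injective (f := (MulAut.conj x).toMonoidHom) (MulAut.conj x).injective
  rw [h1]
  conv_rhs => rw [← h2]
  rw [hB, Subgroup.map_map, map_mul]
  rfl

end Cfsg.Agent.S1178
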