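import Mathlib
import Cfsg.Agent.Isolated.Basic
import Cfsg.Statements.S1181

set_option autoImplicit false
open Cfsg

namespace Cfsg.Agent.S1181

/-- Let z be an isolated involution of the finite group G and N a normal subgroup with z ∉ N. Then the centralizer of zN in G/N is the image of C_G(z), and zN is an isolated involution of G/N. -/
theorem result {G : Type*} [Group G] [Finite G] (z : G) (hz : Cfsg.IsIsolatedInvolution z) (N : Subgroup G) [N.Normal] (hzN : z ∉ N) : Subgroup.centralizer ({(QuotientGroup.mk z : G ⧸ N)} : Set (G ⧸ N)) = (Subgroup.centralizer ({z} : Set G)).map (QuotientGroup.mk' N) ∧ Cfsg.IsIsolatedInvolution (QuotientGroup.mk z : G ⧸ N) := by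
  have hz1 : z * z = 1 := by rw [← pow_two, ← hz.1]; exact pow_orderOf_eq_one z
  constructor
  · ext q
    constructor
    · intro hq
      induction q using QuotientGroup.induction_on with | _ g => ?_
      rw [Subgroup.mem_centralizer_singleton_iff, ← QuotientGroup.mk_mul, ← QuotientGroup.mk_mul,
        QuotientGroup.eq] at hq
      -- the subgroup N ⊔ ⟨z⟩
      have hg : g * z * g⁻¹ ∈ N ⊔ Subgroup.zpowers z := by
        have h1 : (g * z)⁻¹ * (z * g) ∈ N := hq
        have h2 : g * z * g⁻¹ = z * (g * ((g * z)⁻¹ * (z * g)) * g⁻¹)⁻¹ := by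
          group
        rw [h2]
        exact mul_mem ((le_sup_right : Subgroup.zpowers z ≤ N ⊔ _) (Subgroup.mem_zpowers z))
          (inv_mem ((le_sup_left : N ≤ N ⊔ _) (Subgroup.Normal.conj_mem inferInstance _ h1 g)))
      obtain ⟨j, hsq, hodd, hinv, hk⟩ := Cfsg.Agent.Isolated.exists_sqrt hz g
      set k := (g * z * g⁻¹ * z) ^ j
      have hkN : k ∈ N := by
        apply pow_mem
        have h1 : (g * z)⁻¹ * (z * g) ∈ N := hq
        have h2 : g * z * g⁻¹ * z = z * (g * ((g * z)⁻¹ * (z * g)) * g⁻¹)⁻¹ * z⁻¹ := by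
          have e : z⁻¹ = z := inv_eq_of_mul_eq_one_right hz1
          calc g * z * g⁻¹ * z = g * z * g⁻¹ * z⁻¹ := by rw [e]
            _ = _ := by group
        rw [h2]
        exact Subgroup.Normal.conj_mem inferInstance _ (inv_mem (Subgroup.Normal.conj_mem inferInstance _ h1 g)) z
      refine ⟨k⁻¹ * g, ?_, ?_⟩
      · rw [SetLike.mem_coe, Subgroup.mem_centralizer_singleton_iff]
        calc k⁻¹ * g * z = k⁻¹ * (g * z * g⁻¹) * g := by group
          _ = z * (k⁻¹ * g) := by rw [← hk]; group
      · simp only [QuotientGroup.mk'_apply, QuotientGroup.mk_mul, QuotientGroup.mk_inv,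
          (QuotientGroup.eq_one_iff k).mpr hkN, inv_one, one_mul]
    · rintro ⟨g, hg, rfl⟩
      rw [SetLike.mem_coe, Subgroup.mem_centralizer_singleton_iff] at hg
      rw [Subgroup.mem_centralizer_singleton_iff, QuotientGroup.mk'_apply, ← QuotientGroup.mk_mul,
        ← QuotientGroup.mk_mul, hg]
  · refine ⟨?_, fun q hq => ?_⟩
    · apply orderOf_eq_prime
      · rw [pow_two, ← QuotientGroup.mk_mul, hz1, QuotientGroup.mk_one]
      · exact fun h => hzN ((QuotientGroup.eq_one_iff z).mp h)
    · induction q using QuotientGroup.induction_on with | _ g => ?_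
      have ho := Cfsg.Agent.Isolated.odd_order hz g
      set w : G ⧸ N := (z : G ⧸ N) * ((g : G ⧸ N) * (z : G ⧸ N) * (g : G ⧸ N)⁻¹) with hw
      have hwodd : Odd (orderOf w) :=
        Odd.of_dvd_nat ho (orderOf_map_dvd (QuotientGroup.mk' N) (z * (g * z * g⁻¹)))
      have hzq : (z : G ⧸ N) * (z : G ⧸ N) = 1 := by rw [← QuotientGroup.mk_mul, hz1, QuotientGroup.mk_one]
      have hw2 : w ^ 2 = 1 := by
        rw [hw, hq.mul_pow, pow_two, hzq, one_mul, pow_two]
        calc (g : G ⧸ N) * z * (g : G ⧸ N)⁻¹ * ((g : G ⧸ N) * z * (g : G ⧸ N)⁻¹)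
            = (g : G ⧸ N) * ((z : G ⧸ N) * z) * (g : G ⧸ N)⁻¹ := by group
          _ = 1 := by rw [hzq]; group
      have hw1 : w = 1 := by
        rcases (Nat.dvd_prime Nat.prime_two).mp (orderOf_dvd_of_pow_eq_one hw2) with h5 | h5
        · exact orderOf_eq_one_iff.mp h5
        · exfalso; rw [h5] at hwodd; exact absurd hwodd (by decide)
      rw [hw] at hw1
      rw [← inv_eq_of_mul_eq_one_right hw1]
      exact inv_eq_of_mul_eq_one_right hzq

end Cfsg.Agent.S1181
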