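import Mathlib
import Cfsg.Agent.Isolated.Basic
import Cfsg.Statements.S1182

set_option autoImplicit false
open Cfsg

namespace Cfsg.Agent.S1182

/-- Let z be an isolated involution of the finite group G and H a subgroup normalized by z. If x, y ∈ H both commute with z and y = h x h⁻¹ for some h ∈ H, then y = c x c⁻¹ for some c ∈ H commuting with z. -/
theorem result {G : Type*} [Group G] [Finite G] (z : G) (hz : Cfsg.IsIsolatedInvolution z) (H : Subgroup G) (hzH : z ∈ Subgroup.normalizer (H : Set G)) (x y : G) (hx : x ∈ H) (hy : y ∈ H) (hxz : Commute x z) (hyz : Commute y z) (h : G) (hh : h ∈ H) (hconj : h * x * h⁻¹ = y) : ∃ c ∈ H, Commute c z ∧ c * x * c⁻¹ = y := by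
  obtain ⟨j, hsq, hodd, hinv, hk⟩ := Cfsg.Agent.Isolated.exists_sqrt hz h⁻¹
  set k := (h⁻¹ * z * h⁻¹⁻¹ * z) ^ j
  have hwH : h⁻¹ * z * h⁻¹⁻¹ * z ∈ H := by
    have e : z⁻¹ = z := inv_eq_of_mul_eq_one_right (by rw [← pow_two, ← hz.1]; exact pow_orderOf_eq_one z)
    have : z * h * z⁻¹ ∈ H := (Subgroup.mem_normalizer_iff.mp hzH h).mp hh
    have := mul_mem (inv_mem hh) this
    rw [e] at this
    simpa [mul_assoc] using this
  have hx' : Commute x (h⁻¹ * z * h⁻¹⁻¹) := by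
    show x * (h⁻¹ * z * h⁻¹⁻¹) = h⁻¹ * z * h⁻¹⁻¹ * x
    calc x * (h⁻¹ * z * h⁻¹⁻¹) = h⁻¹ * ((h * x * h⁻¹) * z) * h := by group
      _ = h⁻¹ * (z * (h * x * h⁻¹)) * h := by rw [hconj, hyz.eq]
      _ = _ := by group
  have hxk : Commute x k := (hx'.mul_right hxz).pow_right j
  refine ⟨h * k, mul_mem hh (pow_mem hwH j), ?_, ?_⟩
  · show h * k * z = z * (h * k)
    calc h * k * z = h * (k * z * k⁻¹) * k := by group
      _ = _ := by rw [hk]; group
  · calc h * k * x * (h * k)⁻¹ = h * (k * x) * k⁻¹ * h⁻¹ := by group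
      _ = y := by rw [← hxk.eq, ← hconj]; group

end Cfsg.Agent.S1182
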