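import Cfsg.Statements.S1183
import Cfsg.Agent.Invol.IsolatedApps
import Cfsg.Agent.Fusion.Residual

set_option autoImplicit false
open Cfsg

namespace Cfsg.Agent.S1183

/-- Let z be an isolated involution of the finite group G and C = C_G(z). Then the subgroup of G generated by its elements of odd order is all of G if and only if the subgroup of C generated by its elements of odd order is all of C. -/
theorem result {G : Type*} [Group G] [Finite G] (z : G) (hz : Cfsg.IsIsolatedInvolution z) : Cfsg.pResidual 2 G = ⊤ ↔ Cfsg.pResidual 2 ↥(Subgroup.centralizer ({z} : Set G)) = ⊤ := by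
  set C := Subgroup.centralizer ({z} : Set G) with hC
  set R := (Cfsg.pResidual 2 C).map C.subtype with hR
  set O := Cfsg.oddCore G with hO
  have hOres : O ≤ Cfsg.pResidual 2 G := fun o ho => Subgroup.subset_closure (by
    show Nat.Coprime (orderOf o) 2
    have h := orderOf_dvd_natCard (⟨o, ho⟩ : O)
    rw [Subgroup.orderOf_mk] at h
    exact Cfsg.Agent.Core.coprime_card_pPrimeCore.coprime_dvd_left h)
  have hOC : ∀ o ∈ O, o ∈ C → o ∈ R := fun o ho hoC => ⟨⟨o, hoC⟩, Subgroup.subset_closure (by
    show Nat.Coprime (orderOf (⟨o, hoC⟩ : C)) 2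
    have h := orderOf_dvd_natCard (⟨o, ho⟩ : O)
    rw [Subgroup.orderOf_mk] at h ⊢
    exact Cfsg.Agent.Core.coprime_card_pPrimeCore.coprime_dvd_left h), rfl⟩
  constructor
  · intro htop
    refine top_le_iff.1 fun c _ => ?_
    have hle : Cfsg.pResidual 2 G ≤ O ⊔ R := by
      rw [Cfsg.pResidual, Subgroup.closure_le]
      intro g hg
      obtain ⟨o, ho, hc⟩ := Cfsg.Agent.Invol.isolated_decomp hz g
      have hcC : o⁻¹ * g ∈ C := Subgroup.mem_centralizer_singleton_iff.2 hc.eq
      have hcodd : (⟨o⁻¹ * g, hcC⟩ : C) ∈ Cfsg.pResidual 2 C := by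
        refine Subgroup.subset_closure ?_
        show Nat.Coprime _ 2
        rw [Subgroup.orderOf_mk]
        have hm : (o⁻¹ * g) ^ orderOf g ∈ O := by
          rw [← QuotientGroup.eq_one_iff, QuotientGroup.mk_pow, QuotientGroup.mk_mul,
            (QuotientGroup.eq_one_iff _).2 (inv_mem ho), one_mul, ← QuotientGroup.mk_pow,
            pow_orderOf_eq_one, QuotientGroup.mk_one]
        have hd : orderOf (o⁻¹ * g) ∣ orderOf g * Nat.card O := orderOf_dvd_of_pow_eq_one (by
          have h1 : ((o⁻¹ * g) ^ orderOf g) ^ Nat.card O = 1 :=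
            congrArg Subtype.val (pow_card_eq_one' (x := (⟨_, hm⟩ : O)))
          rw [pow_mul]
          exact h1)
        exact Nat.Coprime.coprime_dvd_left hd (Nat.Coprime.mul_left hg
          Cfsg.Agent.Core.coprime_card_pPrimeCore)
      have e : g = o * (o⁻¹ * g) := by group
      rw [SetLike.mem_coe, e]
      exact mul_mem (Subgroup.mem_sup_left ho) (Subgroup.mem_sup_right ⟨_, hcodd, rfl⟩)
    obtain ⟨o, ho, r, ⟨r', hr', rfl⟩, hor⟩ :=
      Subgroup.mem_sup_of_normal_left.1 (hle (htop ▸ Subgroup.mem_top (c : G)))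
    have hoC : o ∈ C := by
      have : o = (c : G) * (r' : G)⁻¹ := by rw [← hor]; simp
      rw [this]
      exact mul_mem c.2 (inv_mem r'.2)
    obtain ⟨o', ho', he⟩ := hOC o ho hoC
    have : c = o' * r' := Subtype.ext (by rw [← hor, ← he]; rfl)
    rw [this]
    exact mul_mem ho' hr'
  · intro htop
    refine top_le_iff.1 fun g _ => ?_
    obtain ⟨o, ho, hc⟩ := Cfsg.Agent.Invol.isolated_decomp hz g
    have hcC : o⁻¹ * g ∈ C := Subgroup.mem_centralizer_singleton_iff.2 hc.eq
    have hle : Cfsg.pResidual 2 C ≤ (Cfsg.pResidual 2 G).comap C.subtype := by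
      rw [Cfsg.pResidual, Subgroup.closure_le]
      intro x hx
      refine Subgroup.subset_closure ?_
      show Nat.Coprime (orderOf (x : G)) 2
      rw [Subgroup.orderOf_coe]
      exact hx
    have e : g = o * (o⁻¹ * g) := by group
    rw [e]
    exact mul_mem (hOres ho) (hle (htop ▸ Subgroup.mem_top (⟨_, hcC⟩ : C)))

end Cfsg.Agent.S1183
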