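import Mathlib
import Cfsg.Agent.Isolated.Basic
import Cfsg.Statements.S1184

set_option autoImplicit false
open Cfsg

namespace Cfsg.Agent.S1184

/-- Let z be an isolated involution of the finite group G. If s and t are distinct conjugates of z, then st does not commute with z. -/
theorem result {G : Type*} [Group G] [Finite G] (z : G) (hz : Cfsg.IsIsolatedInvolution z) (g h : G) (hne : g * z * g⁻¹ ≠ h * z * h⁻¹) : ¬ Commute (g * z * g⁻¹ * (h * z * h⁻¹)) z := by
  intro hc
  have hz1 : z * z = 1 := by rw [← pow_two, ← hz.1]; exact pow_orderOf_eq_one z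
  have hzi : z⁻¹ = z := inv_eq_of_mul_eq_one_right hz1
  set a := g * z * g⁻¹ with ha
  set b := h * z * h⁻¹ with hb
  have hai : a⁻¹ = a := by rw [ha]; simp [hzi, mul_assoc]
  have hbi : b⁻¹ = b := by rw [hb]; simp [hzi, mul_assoc]
  set w := a * b with hw
  -- w has odd order
  have hwodd : Odd (orderOf w) := by
    have e : w = g * (z * (g⁻¹ * h * z * (g⁻¹ * h)⁻¹)) * g⁻¹ := by rw [hw, ha, hb]; group
    rw [e]
    have := Cfsg.Agent.Isolated.odd_order hz (g⁻¹ * h)
    rwa [← MulAut.conj_apply, MulEquiv.orderOf_eq]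
  have huodd : Odd (orderOf (z * a)) := Cfsg.Agent.Isolated.odd_order hz g
  -- z * a inverts w
  have hinv : ∀ v : G, z * a * v * (z * a)⁻¹ = z * (a * v * a⁻¹) * z⁻¹ := fun v => by group
  have h1 : a * w * a⁻¹ = w⁻¹ := by
    have haa : a * a = 1 := by nth_rw 2 [← hai]; simp
    calc a * w * a⁻¹ = (a * a) * (b * a⁻¹) := by rw [hw]; group
      _ = b⁻¹ * a⁻¹ := by rw [haa, one_mul, hbi]
      _ = w⁻¹ := by rw [hw]; group
  have h2 : z * w * z⁻¹ = w := by rw [← hc.eq]; group
  have hu : ∀ v : G, v = w ∨ v = w⁻¹ → z * a * v * (z * a)⁻¹ = v⁻¹ := by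
    rintro v (rfl | rfl)
    · rw [hinv, h1, show z * w⁻¹ * z⁻¹ = (z * w * z⁻¹)⁻¹ by group, h2]
    · rw [hinv, show a * w⁻¹ * a⁻¹ = (a * w * a⁻¹)⁻¹ by group, h1, inv_inv, h2]
  have hpow : ∀ n : ℕ, (Odd n → (z * a) ^ n * w * ((z * a) ^ n)⁻¹ = w⁻¹) ∧
      (Even n → (z * a) ^ n * w * ((z * a) ^ n)⁻¹ = w) := by
    intro n
    induction n with
    | zero => simp
    | succ n ih =>
      have e : ∀ m : ℕ, (z * a) ^ (m + 1) * w * ((z * a) ^ (m + 1))⁻¹ =
          z * a * ((z * a) ^ m * w * ((z * a) ^ m)⁻¹) * (z * a)⁻¹ := fun m => by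
        rw [pow_succ']; generalize z * a = u; generalize u ^ m = q; group
      constructor <;> intro hn <;> rw [e n]
      · rw [ih.2 (by simpa [parity_simps] using hn)]; exact hu w (Or.inl rfl)
      · rw [ih.1 (by simpa [parity_simps] using hn), hu w⁻¹ (Or.inr rfl), inv_inv]
  have h3 := (hpow (orderOf (z * a))).1 huodd
  rw [pow_orderOf_eq_one] at h3
  have h4 : w ^ 2 = 1 := by
    rw [pow_two]; nth_rw 1 [show w = w⁻¹ by simpa using h3]; simp
  have h5 : w = 1 := by
    rcases (Nat.dvd_prime Nat.prime_two).mp (orderOf_dvd_of_pow_eq_one h4) with h5 | h5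
    · exact orderOf_eq_one_iff.mp h5
    · exfalso; rw [h5] at hwodd; exact absurd hwodd (by decide)
  apply hne
  rw [← hbi]
  exact eq_inv_of_mul_eq_one_left h5

end Cfsg.Agent.S1184
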