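import Mathlib
import Cfsg.Agent.Isolated.Basic
import Cfsg.Statements.S1185

set_option autoImplicit false
open Cfsg

namespace Cfsg.Agent.S1185

/-- Let z be an isolated involution of the finite group G with centralizer C. Then for every g ∈ G there is exactly one element k in the coset gC that has odd order and is inverted by z. -/
theorem result {G : Type*} [Group G] [Finite G] (z : G) (hz : Cfsg.IsIsolatedInvolution z) (g : G) : ∃! k : G, (Odd (orderOf k) ∧ z * k * z⁻¹ = k⁻¹) ∧ g⁻¹ * k ∈ Subgroup.centralizer ({z} : Set G) := by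
  obtain ⟨j, hsq, hodd, hinv, hk⟩ := Cfsg.Agent.Isolated.exists_sqrt hz g
  set k₀ := (g * z * g⁻¹ * z) ^ j
  have hz1 : z * z = 1 := by rw [← pow_two, ← hz.1]; exact pow_orderOf_eq_one z
  have hzi : z⁻¹ = z := inv_eq_of_mul_eq_one_right hz1
  have mem : ∀ k : G, g⁻¹ * k ∈ Subgroup.centralizer ({z} : Set G) ↔ k * z * k⁻¹ = g * z * g⁻¹ := by
    intro k
    rw [Subgroup.mem_centralizer_singleton_iff]
    constructor
    · intro h
      calc k * z * k⁻¹ = g * (g⁻¹ * k * z) * k⁻¹ := by group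
        _ = g * z * g⁻¹ := by rw [h]; group
    · intro h
      calc g⁻¹ * k * z = g⁻¹ * (k * z * k⁻¹) * k := by group
        _ = z * (g⁻¹ * k) := by rw [h]; group
  refine ⟨k₀, ⟨⟨hodd, hinv⟩, (mem k₀).mpr hk⟩, ?_⟩
  rintro k ⟨⟨ho, hi⟩, hm⟩
  rw [mem] at hm
  have hkk : k * k = k₀ * k₀ := by
    rw [hsq, ← hm]
    calc k * k = k * (z * k * z⁻¹)⁻¹ := by rw [hi, inv_inv]
      _ = k * z * k⁻¹ * z⁻¹ := by group
      _ = _ := by rw [hzi]
  have root : ∀ v : G, Odd (orderOf v) → (v * v) ^ (((orderOf v) + 1) / 2) = v := by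
    rintro v ⟨n, hn⟩
    rw [← pow_two, ← pow_mul, hn, show 2 * ((2 * n + 1 + 1) / 2) = 2 * n + 1 + 1 by omega, pow_succ, ← hn,
      pow_orderOf_eq_one, one_mul]
  have e : orderOf (k * k) = orderOf k := by
    rw [← pow_two]; exact (ho.coprime_two_left.symm).orderOf_pow
  have e' : orderOf (k₀ * k₀) = orderOf k₀ := by
    rw [← pow_two]; exact (hodd.coprime_two_left.symm).orderOf_pow
  rw [← root k ho, ← root k₀ hodd, ← e, ← e', hkk]

end Cfsg.Agent.S1185
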