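import Cfsg.Statements.S1186
import Cfsg.Agent.Invol.IsolatedApps

set_option autoImplicit false
open Cfsg

namespace Cfsg.Agent.S1186

open Cfsg.Agent in
theorem core {G : Type*} [Group G] [Finite G] {z s : G} (hz : Cfsg.IsIsolatedInvolution z)
    (hs : orderOf s = 2) (hsz : Commute s z) :
    Nat.card {k : G // Odd (orderOf k) ∧ z * k * z⁻¹ = k⁻¹} =
      Nat.card {k : G // Odd (orderOf k) ∧ z * k * z⁻¹ = k⁻¹ ∧ Commute k (s * z)} *
        Nat.card {k : G // Odd (orderOf k) ∧ z * k * z⁻¹ = k⁻¹ ∧ Commute k s} := by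
  set O := Cfsg.oddCore G with hO
  have hzz := Invol.mul_self_eq_one hz.1
  have hss := Invol.mul_self_eq_one hs
  obtain ⟨n, hn⟩ : ∃ n, Nat.card O = 2 * n + 1 :=
    Nat.odd_iff.2 (Nat.two_dvd_ne_zero.1 Core.not_dvd_card_pPrimeCore)
  have hpow : ∀ x ∈ O, x ^ (2 * n + 1) = 1 := fun x hx => by
    rw [← hn]
    exact congrArg Subtype.val (pow_card_eq_one' (x := (⟨x, hx⟩ : O)))
  have hodd : ∀ x ∈ O, Odd (orderOf x) := fun x hx =>
    (odd_two_mul_add_one n).of_dvd_nat (orderOf_dvd_of_pow_eq_one (hpow x hx))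
  -- square roots
  have hr : ∀ x ∈ O, x ^ (n + 1) * x ^ (n + 1) = x := fun x hx => by
    rw [← pow_add, show n + 1 + (n + 1) = 2 * n + 1 + 1 by ring, pow_succ, hpow x hx, one_mul]
  have hr' : ∀ x ∈ O, (x * x) ^ (n + 1) = x := fun x hx => by
    rw [(Commute.refl x).mul_pow, hr x hx]
  have hKO : ∀ k : G, Odd (orderOf k) → z * k * z⁻¹ = k⁻¹ → k ∈ O := by
    intro k hk hinv
    have h1 := Invol.zstar hz k
    rw [hinv, ← mul_inv_rev] at h1
    have h2 : k * k ∈ O := inv_mem_iff.1 h1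
    obtain ⟨m, hm⟩ := hk
    have : k = (k * k) ^ (m + 1) := by
      rw [(Commute.refl k).mul_pow, ← pow_add, show m + 1 + (m + 1) = orderOf k + 1 by omega,
        pow_succ, pow_orderOf_eq_one, one_mul]
    rw [this]
    exact pow_mem h2 _
  let c := fun x : G => MulAut.conj s x
  have hcO : ∀ x ∈ O, c x ∈ O := fun x hx => Subgroup.Normal.conj_mem inferInstance x hx s
  have hcapp : ∀ x, c x = s * x * s⁻¹ := fun x => rfl
  have hcc : ∀ x, c (c x) = x := fun x => by
    rw [hcapp, hcapp, Invol.inv_eq_self hs]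
    simp only [← mul_assoc, hss, one_mul]
    rw [mul_assoc, hss, mul_one]
  have hcmul : ∀ x y, c (x * y) = c x * c y := fun x y => map_mul _ _ _
  have hcinv : ∀ x, c x⁻¹ = (c x)⁻¹ := fun x => map_inv _ _
  have hcpow : ∀ x (m : ℕ), c (x ^ m) = c x ^ m := fun x m => map_pow _ _ _
  let d := fun x : G => MulAut.conj z x
  have hdapp : ∀ x, d x = z * x * z⁻¹ := fun x => rfl
  have hdmul : ∀ x y, d (x * y) = d x * d y := fun x y => map_mul _ _ _
  have hdinv : ∀ x, d x⁻¹ = (d x)⁻¹ := fun x => map_inv _ _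
  have hdpow : ∀ x (m : ℕ), d (x ^ m) = d x ^ m := fun x m => map_pow _ _ _
  have hdc : ∀ x, d (c x) = c (d x) := fun x => by
    rw [hdapp, hcapp, hcapp, hdapp]
    calc z * (s * x * s⁻¹) * z⁻¹ = (z * s) * x * (z * s)⁻¹ := by group
      _ = (s * z) * x * (s * z)⁻¹ := by rw [hsz.eq]
      _ = s * (z * x * z⁻¹) * s⁻¹ := by group
  have hA : ∀ a : G, d a = a⁻¹ → (Commute a (s * z) ↔ c a = a⁻¹) := fun a ha => by
    constructor
    · intro h
      have h1 : c (d a) = a := by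
        rw [hcapp, hdapp]
        calc s * (z * a * z⁻¹) * s⁻¹ = s * z * a * (s * z)⁻¹ := by group
          _ = a := by rw [← h.eq, mul_inv_cancel_right]
      rw [ha, hcinv] at h1
      rw [← inv_inv (c a), h1]
    · intro h
      have h1 : s * z * a * (s * z)⁻¹ = a := by
        calc s * z * a * (s * z)⁻¹ = c (d a) := by rw [hcapp, hdapp]; group
          _ = a := by rw [ha, hcinv, h, inv_inv]
      exact (mul_inv_eq_iff_eq_mul.1 h1).symm
  have hB : ∀ a : G, (Commute a s ↔ c a = a) := fun a => by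
    rw [hcapp, mul_inv_eq_iff_eq_mul]
    exact ⟨fun h => h.eq.symm, fun h => h.symm⟩
  -- the map `(a, b) ↦ b a b` with `a` inverted by `s` and `b` centralised
  rw [← Nat.card_prod]
  refine (Nat.card_congr (Equiv.ofBijective
    (fun p : {k : G // Odd (orderOf k) ∧ z * k * z⁻¹ = k⁻¹ ∧ Commute k (s * z)} ×
        {k : G // Odd (orderOf k) ∧ z * k * z⁻¹ = k⁻¹ ∧ Commute k s} =>
      (⟨(p.1 : G) * p.2 * p.1, ?_, ?_⟩ : {k : G // Odd (orderOf k) ∧ z * k * z⁻¹ = k⁻¹}))
    ⟨?_, ?_⟩)).symm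
  · exact hodd _ (mul_mem (mul_mem (hKO _ p.1.2.1 p.1.2.2.1) (hKO _ p.2.2.1 p.2.2.2.1))
      (hKO _ p.1.2.1 p.1.2.2.1))
  · show d ((p.1 : G) * p.2 * p.1) = _
    rw [hdmul, hdmul, show d (p.1 : G) = _ from p.1.2.2.1, show d (p.2 : G) = _ from p.2.2.2.1]
    group
  · rintro ⟨⟨b, hb⟩, ⟨a, ha⟩⟩ ⟨⟨b', hb'⟩, ⟨a', ha'⟩⟩ e
    have e : b * a * b = b' * a' * b' := congrArg Subtype.val e
    have hbO := hKO b hb.1 hb.2.1
    have hbO' := hKO b' hb'.1 hb'.2.1
    have haO := hKO a ha.1 ha.2.1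
    have haO' := hKO a' ha'.1 ha'.2.1
    have key : ∀ u v : G, c u = u⁻¹ → c v = v → c (u * v * u) * (u * v * u) =
        (u⁻¹ * v * u) * (u⁻¹ * v * u) := fun u v hu hv => by
      rw [hcmul, hcmul, hu, hv]; group
    have k1 := key b a ((hA b hb.2.1).1 hb.2.2) ((hB a).1 ha.2.2)
    have k2 := key b' a' ((hA b' hb'.2.1).1 hb'.2.2) ((hB a').1 ha'.2.2)
    rw [e, k2] at k1
    have h3 := congrArg (· ^ (n + 1)) k1
    simp only [hr' _ (mul_mem (mul_mem (inv_mem hbO) haO) hbO),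
      hr' _ (mul_mem (mul_mem (inv_mem hbO') haO') hbO')] at h3
    have h4 : b * b = b' * b' := by
      calc b * b = b * a * b * (b⁻¹ * a * b)⁻¹ := by group
        _ = b' * a' * b' * (b'⁻¹ * a' * b')⁻¹ := by rw [e, ← h3]
        _ = b' * b' := by group
    obtain rfl : b = b' := by rw [← hr' b hbO, h4, hr' b' hbO']
    obtain rfl : a = a' := mul_left_cancel (mul_right_cancel e)
    rfl
  · rintro ⟨k, hk, hinv⟩
    have hkO := hKO k hk hinv
    have hinv' : d k = k⁻¹ := hinv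
    set k' := c k with hk'
    have hk'O : k' ∈ O := hcO k hkO
    set w := (k' * k) ^ (n + 1) with hw
    have hwO : w ∈ O := pow_mem (mul_mem hk'O hkO) _
    have hw2 : w * w = k' * k := hr _ (mul_mem hk'O hkO)
    have hdw : d w = k * w⁻¹ * k⁻¹ := by
      rw [hw, hdpow, hdmul, hk', hdc, hinv', hcinv, ← inv_pow, ← conj_pow]
      congr 1
      group
    have hcw : c w = k * w * k⁻¹ := by
      rw [hw, hcpow, hcmul, hk', hcc, ← conj_pow]
      congr 1
      group
    obtain ⟨m, hm⟩ : ∃ m, m = k * w⁻¹ := ⟨_, rfl⟩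
    have hmO : m ∈ O := hm ▸ mul_mem hkO (inv_mem hwO)
    have hdm : d m = m⁻¹ := by rw [hm, hdmul, hdinv, hinv', hdw]; group
    have hcm : c m = m⁻¹ := by
      rw [hm, hcmul, hcinv, hcw, ← hk', show k' = w * w * k⁻¹ from eq_mul_inv_iff_mul_eq.2 hw2.symm]
      group
    set b := m ^ (n + 1) with hb
    have hbO : b ∈ O := pow_mem hmO _
    have hdb : d b = b⁻¹ := by rw [hb, hdpow, hdm, inv_pow]
    have hcb : c b = b⁻¹ := by rw [hb, hcpow, hcm, inv_pow]
    set a := b⁻¹ * k * b⁻¹ with ha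
    have haO : a ∈ O := mul_mem (mul_mem (inv_mem hbO) hkO) (inv_mem hbO)
    have hmk : m⁻¹ * k * m⁻¹ = k' := by
      rw [hm, show k' = w * w * k⁻¹ from eq_mul_inv_iff_mul_eq.2 hw2.symm]
      group
    have hda : d a = a⁻¹ := by rw [ha, hdmul, hdmul, hdinv, hdb, hinv']; group
    have hca : c a = a := by
      rw [ha, hcmul, hcmul, hcinv, hcb, ← hk', ← hmk, show m = b * b from (hr m hmO).symm]
      group
    refine ⟨(⟨b, hodd b hbO, hdb, (hA b hdb).2 hcb⟩, ⟨a, hodd a haO, hda, (hB a).2 hca⟩),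
      Subtype.ext ?_⟩
    show b * a * b = k
    rw [ha]
    group

/-- Let z be an isolated involution of the finite group G, C = C_G(z), K the set of elements of odd order inverted by z, and s an involution of C. Then |G| = |C| · |C_K(sz)| · |C_K(s)|. -/
theorem result {G : Type*} [Group G] [Finite G] (z : G) (hz : Cfsg.IsIsolatedInvolution z) (s : G) (hs : orderOf s = 2) (hsz : Commute s z) : Nat.card G = Nat.card (Subgroup.centralizer ({z} : Set G)) * Nat.card {k : G // Odd (orderOf k) ∧ z * k * z⁻¹ = k⁻¹ ∧ Commute k (s * z)} * Nat.card {k : G // Odd (orderOf k) ∧ z * k * z⁻¹ = k⁻¹ ∧ Commute k s} := by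
  rw [Cfsg.Agent.Invol.card_inverted hz, core hz hs hsz, mul_assoc]

end Cfsg.Agent.S1186
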