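import Cfsg.Statements.S1189
import Cfsg.Agent.Invol.QDSub

set_option autoImplicit false
open Cfsg

namespace Cfsg.Agent.S1189

open Cfsg.Agent in
theorem two_classes {S : Type*} [Group S] [Finite S] {k : ℕ} {a b : S} (ha : orderOf a = k)
    (hb : orderOf b = k) (hne : ¬ IsConj a b) (hcov : ∀ s : S, orderOf s = k → IsConj a s ∨ IsConj b s) :
    Nat.card {C : ConjClasses S // ∃ t : S, orderOf t = k ∧ ConjClasses.mk t = C} = 2 := by
  classical
  refine Nat.card_eq_two_iff.2 ⟨⟨_, a, ha, rfl⟩, ⟨_, b, hb, rfl⟩, fun e => hne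
    (ConjClasses.mk_eq_mk_iff_isConj.1 (congrArg Subtype.val e)), ?_⟩
  refine Set.eq_univ_of_forall fun ⟨C, t, ht, e⟩ => ?_
  rcases hcov t ht with h | h
  · exact Or.inl (Subtype.ext (e.symm.trans (ConjClasses.mk_eq_mk_iff_isConj.2 h.symm)))
  · exact Or.inr (Subtype.ext (e.symm.trans (ConjClasses.mk_eq_mk_iff_isConj.2 h.symm)))

/-- A quasi-dihedral 2-group has exactly two conjugacy classes of elements of order 2 and exactly two conjugacy classes of elements of order 4. -/
theorem result {S : Type*} [Group S] [Finite S] (hS : Cfsg.IsQuasiDihedral S) : Nat.card {C : ConjClasses S // ∃ t : S, orderOf t = 2 ∧ ConjClasses.mk t = C} = 2 ∧ Nat.card {C : ConjClasses S // ∃ t : S, orderOf t = 4 ∧ ConjClasses.mk t = C} = 2 := by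
  open Cfsg.Agent.Invol in
  obtain ⟨x, y, n, hh⟩ := qdgen_exists hS
  constructor
  · refine two_classes (a := Cfsg.Agent.Invol.qc x n (Cfsg.Agent.Invol.qh n)) (b := y)
      (hh.order_two.2 (Or.inl rfl)) hh.ordy ?_ fun s hs => ?_
    · intro h
      obtain ⟨g, hg⟩ := isConj_iff.1 h
      rw [Subgroup.mem_center_iff.1 hh.h_mem_center g, mul_inv_cancel_right] at hg
      exact hh.c_ne _ 0 (by rw [hg, Cfsg.Agent.Invol.QDGen.c_zero, one_mul])
    · rcases hh.order_two.1 hs with rfl | ⟨m, rfl⟩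
      · exact Or.inl (IsConj.refl _)
      · exact Or.inr (hh.isConj_even m)
  · refine two_classes (a := Cfsg.Agent.Invol.qc x n (Cfsg.Agent.Invol.qq n))
      (b := Cfsg.Agent.Invol.qc x n 1 * y)
      (hh.order_four.2 (Or.inl (Or.inl rfl))) (hh.order_four.2 (Or.inr ⟨0, by rw [mul_zero, zero_add]⟩))
      ?_ fun s hs => ?_
    · intro h
      obtain ⟨g, hg⟩ := isConj_iff.1 h
      rcases hh.cases g with ⟨i, rfl⟩ | ⟨i, rfl⟩
      · rw [← hh.c_add, ← hh.c_neg, ← hh.c_add] at hg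
        exact hh.c_ne _ _ hg
      · rw [hh.cy_mul_c, mul_inv_rev, ← mul_assoc, mul_inv_cancel_right, ← hh.c_neg, ← hh.c_add] at hg
        exact hh.c_ne _ _ hg
    · rcases hh.order_four.1 hs with (rfl | rfl) | ⟨m, rfl⟩
      · exact Or.inl (IsConj.refl _)
      · refine Or.inl (isConj_iff.2 ⟨y, ?_⟩)
        rw [hh.y_conj_c]
        congr 1
        linear_combination Cfsg.Agent.Invol.qh n * hh.q_even + 2 ^ (n - 3) * hh.two_h
      · exact Or.inr (hh.isConj_odd m)

end Cfsg.Agent.S1189
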