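import Cfsg.Statements.S1192
import Cfsg.Agent.Invol.QDMax

set_option autoImplicit false
open Cfsg

namespace Cfsg.Agent.S1192

/-- A quasi-dihedral group S of order 2^(n+1) has exactly three maximal subgroups; one is cyclic, one is isomorphic to the generalized quaternion group of order 2^n and one to the dihedral group of order 2^n. -/
theorem result {S : Type*} [Group S] [Finite S] (hS : Cfsg.IsQuasiDihedral S) (n : ℕ) (hn : Nat.card S = 2 ^ (n + 1)) : ∃ M₁ M₂ M₃ : Subgroup S, IsCoatom M₁ ∧ IsCoatom M₂ ∧ IsCoatom M₃ ∧ M₁ ≠ M₂ ∧ M₁ ≠ M₃ ∧ M₂ ≠ M₃ ∧ (∀ M : Subgroup S, IsCoatom M → M = M₁ ∨ M = M₂ ∨ M = M₃) ∧ IsCyclic M₁ ∧ Nonempty (M₂ ≃* QuaternionGroup (2 ^ (n - 2))) ∧ Nonempty (M₃ ≃* DihedralGroup (2 ^ (n - 1))) := by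
  obtain ⟨x, y, hh⟩ := Cfsg.Agent.Invol.qdgen_exists' hS hn
  refine ⟨Subgroup.zpowers x, hh.toQ.range, hh.toD.range, hh.coatom_x, hh.coatom_toQ, hh.coatom_toD,
    ?_, ?_, ?_, fun M hM => ?_, inferInstance, ⟨(MonoidHom.ofInjective hh.toQ_inj).symm⟩,
    ⟨(MonoidHom.ofInjective hh.toD_inj).symm⟩⟩
  · intro e
    have : Cfsg.Agent.Invol.qc x n (2 * 0 + 1) * y ∈ Subgroup.zpowers x :=
      e ▸ hh.mem_range_toQ.2 (Or.inr ⟨0, rfl⟩)
    exact hh.y_notMem (by simpa using mul_mem (inv_mem (hh.c_mem_x (2 * 0 + 1))) this)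
  · intro e
    exact hh.y_notMem (e ▸ hh.mem_range_toD.2
      (Or.inr ⟨0, by rw [mul_zero, Cfsg.Agent.Invol.QDGen.c_zero, one_mul]⟩))
  · intro e
    have h1 : y ∈ hh.toQ.range := e ▸ hh.mem_range_toD.2
      (Or.inr ⟨0, by rw [mul_zero, Cfsg.Agent.Invol.QDGen.c_zero, one_mul]⟩)
    have h0 : y = Cfsg.Agent.Invol.qc x n 0 * y := by rw [Cfsg.Agent.Invol.QDGen.c_zero, one_mul]
    rcases hh.mem_range_toQ.1 h1 with ⟨m, hm⟩ | ⟨m, hm⟩
    · exact hh.c_ne _ _ (hm.symm.trans h0)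
    · exact hh.even_ne_odd 0 m (by rw [mul_zero]; exact hh.cy_inj (h0.symm.trans hm))
  · rcases hh.coatom_cases M hM with h | h | h
    · exact Or.inl h
    · exact Or.inr (Or.inr h)
    · exact Or.inr (Or.inl h)

end Cfsg.Agent.S1192
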