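import Cfsg.Statements.S1193
import Cfsg.Agent.Invol.QDMax

set_option autoImplicit false
open Cfsg

namespace Cfsg.Agent.S1193

/-- Let S be quasi-dihedral of order 2^(n+1). Then S' = Φ(S) is cyclic of order 2^(n-1), the centre of S has order 2, and the subgroup generated by the involutions of S is dihedral of order 2^n. -/
theorem result {S : Type*} [Group S] [Finite S] (hS : Cfsg.IsQuasiDihedral S) (n : ℕ) (hn : Nat.card S = 2 ^ (n + 1)) : commutator S = frattini S ∧ IsCyclic (commutator S) ∧ Nat.card (commutator S) = 2 ^ (n - 1) ∧ Nat.card (Subgroup.center S) = 2 ∧ Nonempty (↥(Subgroup.closure {x : S | orderOf x = 2}) ≃* DihedralGroup (2 ^ (n - 1))) := by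
  obtain ⟨x, y, hh⟩ := Cfsg.Agent.Invol.qdgen_exists' hS hn
  refine ⟨hh.commutator_eq_frattini, ?_, ?_, ?_, ?_⟩
  · rw [hh.commutator_eq]; infer_instance
  · rw [hh.commutator_eq, Nat.card_zpowers]
    have h2 : Cfsg.Agent.Invol.qc x n 2 = x ^ 2 := by
      rw [← hh.c_natCast 2, Nat.cast_ofNat]
    have := hh.three_le
    rw [h2, orderOf_pow_of_dvd two_ne_zero (by rw [hh.ordx]; exact dvd_pow_self 2 (by omega)), hh.ordx]
    exact Nat.div_eq_of_eq_mul_left two_pos (by rw [← pow_succ, Nat.sub_add_cancel (by omega : 1 ≤ n)])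
  · rw [hh.center_eq, Nat.card_zpowers, hh.order_two.2 (Or.inl rfl)]
  · rw [hh.involution_closure]
    exact ⟨(MonoidHom.ofInjective hh.toD_inj).symm⟩

end Cfsg.Agent.S1193
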