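import Cfsg.Statements.S1194
import Cfsg.Agent.Invol.QDMax

set_option autoImplicit false
open Cfsg

namespace Cfsg.Agent.S1194

/-- In a quasi-dihedral 2-group S, every proper normal subgroup is either a maximal subgroup or a cyclic subgroup contained in the derived subgroup S'. -/
theorem result {S : Type*} [Group S] [Finite S] (hS : Cfsg.IsQuasiDihedral S) (N : Subgroup S) [N.Normal] (hN : N ≠ ⊤) : IsCoatom N ∨ (IsCyclic N ∧ N ≤ commutator S) := by
  obtain ⟨x, y, n, hh⟩ := Cfsg.Agent.Invol.qdgen_exists hS
  rcases hh.normal_cases N hN with rfl | rfl | rfl | h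
  · exact Or.inl hh.coatom_x
  · exact Or.inl hh.coatom_toD
  · exact Or.inl hh.coatom_toQ
  · refine Or.inr ⟨?_, h⟩
    have hc : IsCyclic (commutator S) := by rw [hh.commutator_eq]; infer_instance
    exact isCyclic_of_injective (Subgroup.inclusion h) (Subgroup.inclusion_injective h)

end Cfsg.Agent.S1194
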