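import Cfsg.Statements.S1195
import Cfsg.Agent.Invol.WR

set_option autoImplicit false
open Cfsg Cfsg.Agent.Invol

namespace Cfsg.Agent.S1195

/-- A wreathed 2-group has exactly three conjugacy classes of elements of order 2. -/
theorem result {S : Type*} [Group S] [Finite S] (hS : Cfsg.IsWreathed S) : Nat.card {C : ConjClasses S // ∃ t : S, orderOf t = 2 ∧ ConjClasses.mk t = C} = 3 := by

  obtain ⟨x, y, z, n, hh⟩ := Cfsg.Agent.Invol.wrgen_exists hS

  show Set.ncard {C : ConjClasses S | ∃ t : S, orderOf t = 2 ∧ ConjClasses.mk t = C} = 3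
  rw [Set.ncard_eq_three]
  have hc : ∀ s, IsConj (ww x y n (wh n) (wh n)) s → s = ww x y n (wh n) (wh n) := by
    intro s hs
    obtain ⟨g, rfl⟩ := isConj_iff.1 hs
    rw [hh.center_commute, mul_inv_cancel_right]
  have hne12 : ww x y n (wh n) 0 ≠ ww x y n (wh n) (wh n) := fun e => hh.h_ne (hh.w_inj e).2.symm
  refine ⟨ConjClasses.mk (ww x y n (wh n) (wh n)), ConjClasses.mk (ww x y n (wh n) 0),
    ConjClasses.mk (ww x y n 0 0 * z), fun e => hne12 (hc _ (ConjClasses.mk_eq_mk_iff_isConj.1 e)),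
    fun e => hh.w_ne _ _ _ _ (hc _ (ConjClasses.mk_eq_mk_iff_isConj.1 e)).symm, fun e => ?_, ?_⟩
  · obtain ⟨g, hg⟩ := isConj_iff.1 (ConjClasses.mk_eq_mk_iff_isConj.1 e)
    have h := congrArg hh.sumHom hg
    rw [map_mul, map_mul, map_inv, mul_right_comm, mul_inv_cancel, one_mul, hh.sumHom_w, hh.sumHom_wz] at h
    exact hh.h_ne (by simpa using Multiplicative.ofAdd.injective h)
  · ext C
    constructor
    · rintro ⟨t, ht, rfl⟩
      rcases hh.order_two.1 ht with rfl | rfl | rfl | ⟨i, rfl⟩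
      · exact Or.inl rfl
      · exact Or.inr (Or.inl rfl)
      · refine Or.inr (Or.inl (ConjClasses.mk_eq_mk_iff_isConj.2 (isConj_iff.2 ⟨z, ?_⟩)))
        rw [hh.z_mul, mul_inv_cancel_right]
      · refine Or.inr (Or.inr (ConjClasses.mk_eq_mk_iff_isConj.2 (isConj_iff.2 ⟨ww x y n (-i) 0, ?_⟩)))
        rw [hh.w_conj_wz]
        congr 2 <;> ring
    · rintro (rfl | rfl | rfl)
      · exact ⟨_, hh.order_two.2 (Or.inl rfl), rfl⟩
      · exact ⟨_, hh.order_two.2 (Or.inr (Or.inl rfl)), rfl⟩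
      · exact ⟨_, hh.order_two.2 (Or.inr (Or.inr (Or.inr ⟨0, by rw [neg_zero]⟩))), rfl⟩

end Cfsg.Agent.S1195
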