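import Cfsg.Statements.S1198
import Cfsg.Agent.Invol.WR

set_option autoImplicit false
open Cfsg

namespace Cfsg.Agent.S1198

/-- A wreathed 2-group S has a normal Klein four-subgroup T such that every Klein four-subgroup of S other than T is conjugate in S to any other such subgroup; in particular S has exactly two conjugacy classes of Klein four-subgroups. -/
theorem result {S : Type*} [Group S] [Finite S] (hS : Cfsg.IsWreathed S) : ∃ T : Subgroup S, IsKleinFour T ∧ T.Normal ∧ (∃ T₀ : Subgroup S, IsKleinFour T₀ ∧ T₀ ≠ T) ∧ ∀ T₁ T₂ : Subgroup S, IsKleinFour T₁ → IsKleinFour T₂ → T₁ ≠ T → T₂ ≠ T → ∃ s : S, T₁.map (MulAut.conj s).toMonoidHom = T₂ := by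
  obtain ⟨x, y, z, n, hh⟩ := Cfsg.Agent.Invol.wrgen_exists hS
  let w := Cfsg.Agent.Invol.ww x y n
  let h := Cfsg.Agent.Invol.wh n
  have h0 : h ≠ 0 := hh.h_ne
  have h2 : 2 * h = 0 := hh.two_h
  have hiff : ∀ a : ZMod (2 ^ n), 2 * a = 0 ↔ a = 0 ∨ a = h :=
    fun a => ⟨hh.two_mul_eq_zero, by rintro (rfl | rfl); exacts [mul_zero _, h2]⟩
  let T : Subgroup S :=
    { carrier := {s | ∃ a b, 2 * a = 0 ∧ 2 * b = 0 ∧ s = w a b}
      one_mem' := ⟨0, 0, mul_zero _, mul_zero _, Cfsg.Agent.Invol.WRGen.w_zero.symm⟩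
      mul_mem' := by
        rintro _ _ ⟨a, b, ha, hb, rfl⟩ ⟨c, d, hc, hd, rfl⟩
        exact ⟨a + c, b + d, by rw [mul_add, ha, hc, add_zero], by rw [mul_add, hb, hd, add_zero], hh.w_mul _ _ _ _⟩
      inv_mem' := by
        rintro _ ⟨a, b, ha, hb, rfl⟩
        exact ⟨-a, -b, by rw [mul_neg, ha, neg_zero], by rw [mul_neg, hb, neg_zero], hh.w_inv _ _⟩ }
  have klein : ∀ K : Subgroup S, Nat.card K = 4 → (∀ s ∈ K, s * s = 1) → IsKleinFour K := by
    intro K h4 hsq
    have : Nontrivial K := Finite.one_lt_card_iff_nontrivial.1 (by omega)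
    exact ⟨h4, (Monoid.exponent_eq_prime_iff Nat.prime_two).2
      (fun g hg => orderOf_eq_prime (by rw [pow_two]; exact Subtype.ext (hsq g g.2)) hg)⟩
  have bi : ∀ a c : Bool, (if a then h else 0) = (if c then h else 0) → a = c := by
    intro a c e
    cases a <;> cases c
    · rfl
    · exact absurd e.symm h0
    · exact absurd e h0
    · rfl
  have Tcard : Nat.card T = 4 := by
    let f : Bool × Bool → T := fun p => ⟨w (if p.1 then h else 0) (if p.2 then h else 0),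
      _, _, by split_ifs <;> first | exact h2 | exact mul_zero _, by split_ifs <;> first | exact h2 | exact mul_zero _, rfl⟩
    rw [← Nat.card_eq_of_bijective f ⟨?_, ?_⟩, Nat.card_eq_fintype_card]; rfl
    · rintro ⟨a, b⟩ ⟨c, d⟩ e
      obtain ⟨e1, e2⟩ := hh.w_inj (congrArg Subtype.val e)
      rw [bi a c e1, bi b d e2]
    · rintro ⟨_, a, b, ha, hb, rfl⟩
      rcases (hiff a).1 ha with rfl | rfl <;> rcases (hiff b).1 hb with rfl | rfl
      exacts [⟨(false, false), rfl⟩, ⟨(false, true), rfl⟩, ⟨(true, false), rfl⟩, ⟨(true, true), rfl⟩]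
  have Tsq : ∀ s ∈ T, s * s = 1 := by
    rintro _ ⟨a, b, ha, hb, rfl⟩
    rw [hh.w_mul, ← two_mul, ← two_mul, ha, hb]
    exact Cfsg.Agent.Invol.WRGen.w_zero
  have zz : w 0 0 * z = z := by show Cfsg.Agent.Invol.ww x y n 0 0 * z = z; rw [Cfsg.Agent.Invol.WRGen.w_zero, one_mul]
  let T₀ : Subgroup S :=
    { carrier := {s | ∃ a, 2 * a = 0 ∧ (s = w a a ∨ s = w a a * z)}
      one_mem' := ⟨0, mul_zero _, Or.inl Cfsg.Agent.Invol.WRGen.w_zero.symm⟩
      mul_mem' := by
        rintro _ _ ⟨a, ha, rfl | rfl⟩ ⟨c, hc, rfl | rfl⟩ <;>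
          refine ⟨a + c, by rw [mul_add, ha, hc, add_zero], ?_⟩
        exacts [Or.inl (hh.w_mul _ _ _ _), Or.inr (hh.w_mul_wz _ _ _ _), Or.inr (hh.wz_mul_w _ _ _ _),
          Or.inl (hh.wz_mul_wz _ _ _ _)]
      inv_mem' := by
        rintro _ ⟨a, ha, rfl | rfl⟩
        · exact ⟨-a, by rw [mul_neg, ha, neg_zero], Or.inl (hh.w_inv _ _)⟩
        · refine ⟨-a, by rw [mul_neg, ha, neg_zero], Or.inr (inv_eq_of_mul_eq_one_right ?_)⟩
          rw [hh.wz_mul_wz, add_neg_cancel]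
          exact Cfsg.Agent.Invol.WRGen.w_zero }
  have T₀card : Nat.card T₀ = 4 := by
    let f : Bool × Bool → T₀ := fun p => ⟨if p.2 then w (if p.1 then h else 0) (if p.1 then h else 0) * z
      else w (if p.1 then h else 0) (if p.1 then h else 0),
      (if p.1 then h else 0), by split_ifs <;> first | exact h2 | exact mul_zero _, by
        cases p.2
        · exact Or.inl rfl
        · exact Or.inr rfl⟩
    rw [← Nat.card_eq_of_bijective f ⟨?_, ?_⟩, Nat.card_eq_fintype_card]; rfl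
    · rintro ⟨a, b⟩ ⟨c, d⟩ e
      have e' := congrArg Subtype.val e
      cases b <;> cases d <;> simp only [f, Bool.false_eq_true, if_false, if_true] at e'
      · obtain ⟨e1, -⟩ := hh.w_inj e'; rw [bi a c e1]
      · exact absurd e' (hh.w_ne _ _ _ _)
      · exact absurd e'.symm (hh.w_ne _ _ _ _)
      · obtain ⟨e1, -⟩ := hh.wz_inj e'; rw [bi a c e1]
    · rintro ⟨_, a, ha, rfl | rfl⟩ <;> rcases (hiff a).1 ha with rfl | rfl
      exacts [⟨(false, false), rfl⟩, ⟨(true, false), rfl⟩, ⟨(false, true), rfl⟩, ⟨(true, true), rfl⟩]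
  have T₀sq : ∀ s ∈ T₀, s * s = 1 := by
    rintro _ ⟨a, ha, rfl | rfl⟩
    · rw [hh.w_mul, ← two_mul, ha]; exact Cfsg.Agent.Invol.WRGen.w_zero
    · rw [hh.wz_mul_wz, ← two_mul, ha]; exact Cfsg.Agent.Invol.WRGen.w_zero
  refine ⟨T, klein T Tcard Tsq, ⟨?_⟩, ⟨T₀, klein T₀ T₀card T₀sq, ?_⟩, ?_⟩
  · rintro _ ⟨a, b, ha, hb, rfl⟩ g
    rcases hh.cases g with ⟨c, d, rfl⟩ | ⟨c, d, rfl⟩
    · refine ⟨a, b, ha, hb, ?_⟩
      rw [hh.w_mul, hh.w_inv, hh.w_mul]; congr 1 <;> ring
    · refine ⟨b, a, hb, ha, ?_⟩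
      rw [hh.wz_mul_w, mul_inv_rev, hh.z_inv, hh.w_inv]
      show Cfsg.Agent.Invol.ww x y n _ _ * z * (z * _) = _
      rw [mul_assoc, ← mul_assoc z z, hh.z_sq, one_mul, hh.w_mul]; congr 1 <;> ring
  · intro e
    have : z ∈ T₀ := ⟨0, mul_zero _, Or.inr zz.symm⟩
    rw [e] at this
    obtain ⟨a, b, -, -, hz⟩ := this
    exact hh.w_ne a b 0 0 (hz.symm.trans zz.symm)
  · intro T₁ T₂ k₁ k₂ n₁ n₂
    have key : ∀ V : Subgroup S, IsKleinFour V → V ≠ T → ∃ i, w i (-i) * z ∈ V ∧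
        ∀ s, s ∈ V → ∃ a, 2 * a = 0 ∧ (s = w a a ∨ s = w a a * (w i (-i) * z)) := by
      intro V kV nV
      have sq : ∀ s ∈ V, s * s = 1 := fun s hs => congrArg Subtype.val (IsKleinFour.mul_self (⟨s, hs⟩ : V))
      have out : ∃ i, w i (-i) * z ∈ V := by
        by_contra hc
        refine nV (Subgroup.eq_of_le_of_card_ge (fun s hs => ?_) (by rw [Tcard, kV.card_four]))
        rcases hh.cases s with ⟨a, b, rfl⟩ | ⟨a, b, rfl⟩
        · obtain ⟨pa, pb⟩ := hh.w_sq_one (sq _ hs)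
          exact ⟨a, b, (hiff a).2 pa, (hiff b).2 pb, rfl⟩
        · have e := sq _ hs
          rw [hh.wz_mul_wz, hh.w_eq_one] at e
          exact absurd ⟨a, by rwa [show b = -a by linear_combination e.1] at hs⟩ hc
      obtain ⟨i, hi⟩ := out
      refine ⟨i, hi, fun s hs => ?_⟩
      have hc : s * (w i (-i) * z) = w i (-i) * z * s :=
        congrArg Subtype.val (mul_comm_of_exponent_two kV.exponent_two (⟨s, hs⟩ : V) ⟨_, hi⟩)
      have e := sq s hs
      obtain ⟨a, rfl | rfl⟩ := hh.commute_wz hc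
      · exact ⟨a, (hiff a).2 (hh.w_sq_one e).1, Or.inl rfl⟩
      · refine ⟨a, ?_, Or.inr rfl⟩
        rw [hh.w_mul_wz, hh.wz_mul_wz, hh.w_eq_one] at e
        linear_combination e.1
    obtain ⟨i, hi, m1⟩ := key T₁ k₁ n₁
    obtain ⟨j, hj, m2⟩ := key T₂ k₂ n₂
    -- both groups consist of the centre's elements of order at most 2 and their products with the generator
    have full : ∀ V : Subgroup S, IsKleinFour V → ∀ i, w i (-i) * z ∈ V →
        (∀ s, s ∈ V → ∃ a, 2 * a = 0 ∧ (s = w a a ∨ s = w a a * (w i (-i) * z))) → w h h ∈ V := by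
      intro V kV i hi mem
      by_contra hn
      have hsub : (V : Set S) ⊆ {1, w i (-i) * z, w h h * (w i (-i) * z)} := by
        intro s hs
        obtain ⟨a, ha, e | e⟩ := mem s hs <;> rcases (hiff a).1 ha with rfl | rfl
        · exact Or.inl (e.trans Cfsg.Agent.Invol.WRGen.w_zero)
        · exact absurd (e ▸ hs) hn
        · refine Or.inr (Or.inl ?_)
          rw [e]; show Cfsg.Agent.Invol.ww x y n 0 0 * _ = _; rw [Cfsg.Agent.Invol.WRGen.w_zero, one_mul]
        · exact Or.inr (Or.inr e)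
      have h1 := Set.ncard_le_ncard hsub (Set.toFinite _)
      have h4 : (V : Set S).ncard = 4 := kV.card_four
      have hb := Set.ncard_insert_le (1 : S) {w i (-i) * z, w h h * (w i (-i) * z)}
      have hb2 := Set.ncard_insert_le (w i (-i) * z) ({w h h * (w i (-i) * z)} : Set S)
      have hb3 := Set.ncard_singleton (w h h * (w i (-i) * z))
      omega
    have hh2 : w h h ∈ T₂ := full T₂ k₂ j hj m2
    refine ⟨w (j - i) 0, Subgroup.eq_of_le_of_card_ge ?_ ?_⟩
    · rintro _ ⟨s, hs, rfl⟩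
      show w (j - i) 0 * s * (w (j - i) 0)⁻¹ ∈ T₂
      obtain ⟨a, ha, e⟩ := m1 s hs
      have hA : w a a ∈ T₂ := by
        rcases (hiff a).1 ha with rfl | rfl
        · show Cfsg.Agent.Invol.ww x y n 0 0 ∈ T₂
          rw [Cfsg.Agent.Invol.WRGen.w_zero]; exact T₂.one_mem
        · exact hh2
      have cA : w (j - i) 0 * w a a * (w (j - i) 0)⁻¹ = w a a := by
        rw [hh.center_commute, mul_inv_cancel_right]
      rcases e with rfl | rfl
      · rwa [cA]
      · rw [show w (j - i) 0 * (w a a * (w i (-i) * z)) * (w (j - i) 0)⁻¹ =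
          (w (j - i) 0 * w a a * (w (j - i) 0)⁻¹) * (w (j - i) 0 * (w i (-i) * z) * (w (j - i) 0)⁻¹) by group,
          cA, hh.w_conj_wz]
        refine T₂.mul_mem hA ?_
        rwa [show i + (j - i) - 0 = j by ring, show -i + 0 - (j - i) = -j by ring]
    · rw [k₂.card_four, ← k₁.card_four,
        Nat.card_congr (T₁.equivMapOfInjective (MulAut.conj (w (j - i) 0)).toMonoidHom (MulAut.conj (w (j - i) 0)).injective).toEquiv]

end Cfsg.Agent.S1198
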