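import Cfsg.Statements.S1199
import Cfsg.Agent.Invol.WR

set_option autoImplicit false
open Cfsg

namespace Cfsg.Agent.S1199

set_option maxHeartbeats 400000
open Cfsg.Agent.Invol

theorem aux4 : ∀ j : ZMod (2 * 2 ^ (2 - 1)), j ≠ 0 → j ≠ 2 → 2 * j = 2 := by decide

/-- A wreathed 2-group S of order 2^(2n+1) has exactly one subgroup of order 2^(n+1) isomorphic to a generalized quaternion group, and that subgroup is normal in S. -/
theorem result {S : Type*} [Group S] [Finite S] (hS : Cfsg.IsWreathed S) (n : ℕ) (hn : Nat.card S = 2 ^ (2 * n + 1)) : (∃! Y : Subgroup S, Nat.card Y = 2 ^ (n + 1) ∧ Nonempty (Y ≃* QuaternionGroup (2 ^ (n - 1)))) ∧ ∀ Y : Subgroup S, Nat.card Y = 2 ^ (n + 1) → Nonempty (Y ≃* QuaternionGroup (2 ^ (n - 1))) → Y.Normal := by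
  obtain ⟨x, y, z, hh⟩ := wrgen_exists' hS hn
  let w := ww x y n
  let h := wh n
  have hn2 := hh.two_le
  have h2 : 2 * h = 0 := hh.two_h
  have h0 : h ≠ 0 := hh.h_ne
  -- `P s` : membership in the quaternion subgroup
  let P : S → Prop := fun s => (∃ k, s = w k (-k)) ∨ ∃ k, s = w (h - k) k * z
  have Pmul : ∀ a b, P a → P b → P (a * b) := by
    rintro _ _ (⟨i, rfl⟩ | ⟨i, rfl⟩) (⟨j, rfl⟩ | ⟨j, rfl⟩)
    · refine Or.inl ⟨i + j, ?_⟩
      rw [hh.w_mul, neg_add]
    · refine Or.inr ⟨j - i, ?_⟩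
      rw [hh.w_mul_wz]; show ww x y n _ _ * z = ww x y n _ _ * z; congr 2 <;> ring
    · refine Or.inr ⟨i + j, ?_⟩
      rw [hh.wz_mul_w]; show ww x y n _ _ * z = ww x y n _ _ * z; congr 2; ring
    · refine Or.inl ⟨h - i + j, ?_⟩
      rw [hh.wz_mul_wz]; show ww x y n _ _ = ww x y n _ _; congr 1; linear_combination h2
  have Pone : P 1 := Or.inl ⟨0, by rw [neg_zero]; exact WRGen.w_zero.symm⟩
  have Pinv : ∀ a, P a → P a⁻¹ := by
    rintro _ (⟨i, rfl⟩ | ⟨i, rfl⟩)
    · exact Or.inl ⟨-i, hh.w_inv _ _⟩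
    · refine Or.inr ⟨i + h, inv_eq_of_mul_eq_one_right ?_⟩
      rw [hh.wz_mul_wz, hh.w_eq_one]
      exact ⟨by linear_combination h2, by ring⟩
  let Y : Subgroup S :=
    { carrier := {s | P s}
      one_mem' := Pone
      mul_mem' := fun {a b} => Pmul a b
      inv_mem' := fun {a} => Pinv a }
  have Ynormal : Y.Normal := by
    refine ⟨?_⟩
    intro s hs g
    rcases hh.cases g with ⟨a, b, rfl⟩ | ⟨a, b, rfl⟩
    · rcases hs with ⟨i, rfl⟩ | ⟨i, rfl⟩
      · refine Or.inl ⟨i, ?_⟩
        rw [hh.w_mul, hh.w_inv, hh.w_mul]; show ww x y n _ _ = ww x y n _ _; congr 1 <;> ring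
      · refine Or.inr ⟨i + b - a, ?_⟩
        rw [hh.w_conj_wz]; show ww x y n _ _ * z = ww x y n _ _ * z; congr 2; ring
    · have e : ∀ t, ww x y n a b * z * t * (ww x y n a b * z)⁻¹ = ww x y n a b * (z * t * z⁻¹) * (ww x y n a b)⁻¹ :=
        fun t => by group
      rw [e]
      rcases hs with ⟨i, rfl⟩ | ⟨i, rfl⟩
      · refine Or.inl ⟨-i, ?_⟩
        rw [hh.z_mul, mul_inv_cancel_right, hh.w_mul, hh.w_inv, hh.w_mul]
        show ww x y n _ _ = ww x y n _ _; congr 1 <;> ring
      · refine Or.inr ⟨h - i + b - a, ?_⟩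
        rw [← mul_assoc z, hh.z_mul, mul_inv_cancel_right, hh.w_conj_wz]
        show ww x y n _ _ * z = ww x y n _ _ * z; congr 2; ring
  -- the isomorphism
  have he : 2 * 2 ^ (n - 1) = 2 ^ n := by rw [← pow_succ', show n - 1 + 1 = n by omega]
  let φ : ZMod (2 * 2 ^ (n - 1)) ≃+* ZMod (2 ^ n) := ZMod.ringEquivCongr he
  have φn : φ ((2 ^ (n - 1) : ℕ) : ZMod (2 * 2 ^ (n - 1))) = h := by
    rw [map_natCast]; push_cast; rfl
  let F : QuaternionGroup (2 ^ (n - 1)) → S := fun q => match q with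
    | .a i => w (φ i) (-φ i)
    | .xa i => w (h - φ i) (φ i) * z
  have Fmul : ∀ p q, F (p * q) = F p * F q := by
    rintro (i | i) (j | j)
    · rw [QuaternionGroup.a_mul_a]; show w (φ (i + j)) (-φ (i + j)) = ww x y n _ _ * ww x y n _ _
      rw [hh.w_mul, map_add, neg_add]
    · rw [QuaternionGroup.a_mul_xa]; show w (h - φ (j - i)) (φ (j - i)) * z = ww x y n _ _ * (ww x y n _ _ * z)
      rw [hh.w_mul_wz, map_sub]; show ww x y n _ _ * z = ww x y n _ _ * z; congr 2 <;> ring
    · rw [QuaternionGroup.xa_mul_a]; show w (h - φ (i + j)) (φ (i + j)) * z = ww x y n _ _ * z * ww x y n _ _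
      rw [hh.wz_mul_w, map_add]; show ww x y n _ _ * z = ww x y n _ _ * z; congr 2; ring
    · rw [QuaternionGroup.xa_mul_xa]
      show ww x y n _ _ = ww x y n _ _ * z * (ww x y n _ _ * z)
      rw [hh.wz_mul_wz, map_sub, map_add, φn]; congr 1
      · ring
      · linear_combination -h2
  let Fh : QuaternionGroup (2 ^ (n - 1)) →* S := MonoidHom.mk' F Fmul
  have Finj : Function.Injective Fh := by
    rintro (i | i) (j | j) e
    · exact congrArg _ (φ.injective (hh.w_inj e).1)
    · exact absurd e (hh.w_ne _ _ _ _)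
    · exact absurd e.symm (hh.w_ne _ _ _ _)
    · exact congrArg _ (φ.injective (hh.wz_inj e).2)
  have Frange : Fh.range = Y := by
    ext s
    constructor
    · rintro ⟨i | i, rfl⟩
      · exact Or.inl ⟨_, rfl⟩
      · exact Or.inr ⟨_, rfl⟩
    · rintro (⟨k, rfl⟩ | ⟨k, rfl⟩)
      · exact ⟨.a (φ.symm k), by show ww x y n (φ (φ.symm k)) (-φ (φ.symm k)) = _; rw [φ.apply_symm_apply]⟩
      · exact ⟨.xa (φ.symm k), by show ww x y n (h - φ (φ.symm k)) (φ (φ.symm k)) * z = _; rw [φ.apply_symm_apply]⟩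
  have : NeZero (2 ^ (n - 1)) := ⟨(Nat.two_pow_pos _).ne'⟩
  have Ycard : Nat.card Y = 2 ^ (n + 1) := by
    rw [← Frange, ← Nat.card_congr (MonoidHom.ofInjective Finj).toEquiv, Nat.card_eq_fintype_card,
      QuaternionGroup.card, show (4 : ℕ) = 2 ^ 2 from rfl, ← pow_add]
    congr 1; omega
  have key : ∀ Y' : Subgroup S, Nat.card Y' = 2 ^ (n + 1) →
      Nonempty (Y' ≃* QuaternionGroup (2 ^ (n - 1))) → Y' = Y := by
    rintro Y' hc ⟨e⟩
    let G := Y'.subtype.comp e.symm.toMonoidHom
    have Ginj : Function.Injective G := fun p q e' => e.symm.injective (Subtype.ext e')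
    have Gsurj : ∀ s ∈ Y', ∃ q, G q = s := fun s hs => ⟨e ⟨s, hs⟩, by
      show (e.symm (e ⟨s, hs⟩) : S) = s; rw [e.symm_apply_apply]⟩
    -- an element outside the abelian maximal subgroup
    have sq : ∀ q i j, G q = w i j * z → q * q = QuaternionGroup.a (2 ^ (n - 1) : ℕ) := by
      intro q i j hq
      rcases q with j' | j'
      · -- `a 1` lies outside, so `a 2` is central
        have h1 : ∃ a b, G (.a 1) = w a b * z := by
          rcases hh.cases (G (.a 1)) with ⟨a, b, h1⟩ | h1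
          · exfalso
            have hpow : ∃ c d, G (.a j') = w c d := by
              rw [← ZMod.natCast_zmod_val j', ← QuaternionGroup.a_one_pow, map_pow, h1, hh.natCast_mul_w]
              exact ⟨_, _, rfl⟩
            obtain ⟨c, d, hp⟩ := hpow
            exact hh.w_ne _ _ _ _ (hp.symm.trans hq)
          · exact h1
        obtain ⟨a, b, h1⟩ := h1
        have ha2 : (QuaternionGroup.a 2 : QuaternionGroup (2 ^ (n - 1))) = QuaternionGroup.a 1 * QuaternionGroup.a 1 := by
          rw [QuaternionGroup.a_mul_a, one_add_one_eq_two]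
        have hc2 : QuaternionGroup.xa 0 * QuaternionGroup.a (2 : ZMod (2 * 2 ^ (n - 1))) =
            QuaternionGroup.a 2 * QuaternionGroup.xa 0 := by
          apply Ginj
          rw [map_mul, map_mul, ha2, map_mul, h1, hh.wz_mul_wz,
            add_comm b a, hh.center_commute]
        rw [QuaternionGroup.xa_mul_a, QuaternionGroup.a_mul_xa, QuaternionGroup.xa.injEq] at hc2
        have h4 : ((4 : ℕ) : ZMod (2 * 2 ^ (n - 1))) = 0 := by push_cast; linear_combination hc2
        rw [ZMod.natCast_eq_zero_iff, he] at h4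
        have := Nat.le_of_dvd (by norm_num) h4
        have : n ≤ 2 := (Nat.pow_le_pow_iff_right one_lt_two).1 (by simpa using this)
        obtain rfl : n = 2 := by omega
        rw [QuaternionGroup.a_mul_a, QuaternionGroup.a.injEq, ← two_mul]
        refine (aux4 j' ?_ ?_).trans rfl
        · rintro rfl
          rw [← QuaternionGroup.one_def, map_one, ← WRGen.w_zero (x := x) (y := y) (n := 2)] at hq
          exact hh.w_ne _ _ _ _ hq
        · rintro rfl
          rw [ha2, map_mul, h1, hh.wz_mul_wz] at hq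
          exact hh.w_ne _ _ _ _ hq
      · rw [QuaternionGroup.xa_mul_xa, add_sub_cancel_right]
    have out : ∃ q i j, G q = w i j * z := by
      rcases hh.cases (G (.a 1)) with ⟨a, b, h1⟩ | ⟨a, b, h1⟩
      · rcases hh.cases (G (.xa 0)) with ⟨c, d, h3⟩ | ⟨c, d, h3⟩
        · exfalso
          have : QuaternionGroup.xa 0 * QuaternionGroup.a (1 : ZMod (2 * 2 ^ (n - 1))) =
              QuaternionGroup.a 1 * QuaternionGroup.xa 0 := by
            apply Ginj
            rw [map_mul, map_mul, h1, h3, hh.w_mul, hh.w_mul, add_comm c, add_comm d]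
          rw [QuaternionGroup.xa_mul_a, QuaternionGroup.a_mul_xa, QuaternionGroup.xa.injEq] at this
          have h4 : ((2 : ℕ) : ZMod (2 * 2 ^ (n - 1))) = 0 := by push_cast; linear_combination this
          rw [ZMod.natCast_eq_zero_iff, he] at h4
          have := Nat.le_of_dvd (by norm_num) h4
          have : n ≤ 1 := (Nat.pow_le_pow_iff_right one_lt_two).1 (by simpa using this)
          omega
        · exact ⟨_, c, d, h3⟩
      · exact ⟨_, a, b, h1⟩
    obtain ⟨q0, i0, j0, hq0⟩ := out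
    have hsum : ∀ q i j, G q = w i j * z → i + j = h := by
      intro q i j hq
      have hne : QuaternionGroup.a ((2 ^ (n - 1) : ℕ) : ZMod (2 * 2 ^ (n - 1))) ≠ 1 := fun e' => by
        rw [QuaternionGroup.one_def, QuaternionGroup.a.injEq] at e'
        exact h0 (by rw [← φn, e', map_zero])
      have h22 : (q * q) * (q * q) = 1 := by
        rw [sq q i j hq, QuaternionGroup.a_mul_a, ← two_mul, QuaternionGroup.one_def]
        congr 1
        exact (Nat.cast_mul 2 (2 ^ (n - 1))).symm.trans (ZMod.natCast_self _)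
      have hq2 : G (q * q) = w (i + j) (i + j) := by
        rw [map_mul, hq, hh.wz_mul_wz, add_comm j i]
      have h5 := congrArg G h22
      rw [map_mul, map_one, hq2] at h5
      rcases (hh.w_sq_one h5).1 with e0 | e0
      · exfalso
        apply hne
        rw [← sq q i j hq]
        apply Ginj
        rw [hq2, e0, map_one]
        exact WRGen.w_zero
      · exact e0
    refine Subgroup.eq_of_le_of_card_ge (fun s hs => ?_) (by rw [Ycard, hc])
    obtain ⟨q, rfl⟩ := Gsurj s hs
    show P (G q)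
    rcases hh.cases (G q) with ⟨a, b, hq⟩ | ⟨a, b, hq⟩
    · refine Or.inl ⟨a, hq.trans ?_⟩
      have h6 : G (q * q0) = w (a + i0) (b + j0) * z := by rw [map_mul, hq, hq0, hh.w_mul_wz]
      have h7 := hsum _ _ _ h6
      have h8 := hsum _ _ _ hq0
      rw [show b = -a by linear_combination h7 - h8]
    · refine Or.inr ⟨b, hq.trans ?_⟩
      rw [show a = h - b by linear_combination hsum _ _ _ hq]
  refine ⟨⟨Y, ⟨Ycard, ?_⟩, fun Y' hY' => key Y' hY'.1 hY'.2⟩, fun Y' hc hi => key Y' hc hi ▸ Ynormal⟩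
  exact ⟨((MonoidHom.ofInjective Finj).trans (MulEquiv.subgroupCongr Frange)).symm⟩

end Cfsg.Agent.S1199
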