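import Cfsg.Statements.S1200
import Cfsg.Agent.Invol.WR

set_option autoImplicit false
open Cfsg

namespace Cfsg.Agent.S1200

/-- Let S be a wreathed 2-group of order 2^(2n+1) and Ω the subgroup generated by its involutions. Then Ω has order 2^(n+2) and S/Ω is cyclic: some s ∈ S together with Ω generates S. -/
theorem result {S : Type*} [Group S] [Finite S] (hS : Cfsg.IsWreathed S) (n : ℕ) (hn : Nat.card S = 2 ^ (2 * n + 1)) : Nat.card (Subgroup.closure {x : S | orderOf x = 2}) = 2 ^ (n + 2) ∧ ∃ s : S, Subgroup.closure {x : S | orderOf x = 2} ⊔ Subgroup.zpowers s = ⊤ := by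
  obtain ⟨x, y, z, hh⟩ := Cfsg.Agent.Invol.wrgen_exists' hS hn
  let h := Cfsg.Agent.Invol.wh n
  let w := Cfsg.Agent.Invol.ww x y n
  have h2 : 2 * h = 0 := hh.two_h
  have hK : orderOf (Multiplicative.ofAdd h) = 2 := orderOf_eq_prime
    (by rw [← ofAdd_nsmul, nsmul_eq_mul]; exact congrArg Multiplicative.ofAdd (by exact_mod_cast h2))
    (fun e => hh.h_ne (Multiplicative.ofAdd.injective e))
  let K := Subgroup.zpowers (Multiplicative.ofAdd h)
  let Om := K.comap hh.sumHom
  have hmem : ∀ s, s ∈ Om ↔ hh.sumHom s = 1 ∨ hh.sumHom s = Multiplicative.ofAdd h := by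
    intro s
    show hh.sumHom s ∈ K ↔ _
    rw [mem_zpowers_iff_mem_range_orderOf, hK]
    simp only [Finset.range_add_one, Finset.range_zero, Finset.image_insert, Finset.image_empty,
      Finset.mem_insert, Finset.notMem_empty, or_false, pow_one, pow_zero]
    exact or_comm
  have ht : ∀ t, orderOf t = 2 → t ∈ Subgroup.closure {s : S | orderOf s = 2} :=
    fun t ht => Subgroup.subset_closure ht
  have hz : z ∈ Subgroup.closure {s : S | orderOf s = 2} := ht z hh.ordz
  have hA : ∀ i, w i (-i) ∈ Subgroup.closure {s : S | orderOf s = 2} := by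
    intro i
    have := (Subgroup.closure _).mul_mem (ht _ (hh.order_two.2 (Or.inr (Or.inr (Or.inr ⟨i, rfl⟩))))) hz
    rwa [mul_assoc, hh.z_sq, mul_one] at this
  have hB : ∀ i, w i (h - i) ∈ Subgroup.closure {s : S | orderOf s = 2} := by
    intro i
    have := (Subgroup.closure _).mul_mem (hA i) (ht _ (hh.order_two.2 (Or.inr (Or.inr (Or.inl rfl)))))
    rwa [hh.w_mul, add_zero, neg_add_eq_sub] at this
  have heq : Subgroup.closure {s : S | orderOf s = 2} = Om := by
    refine le_antisymm ((Subgroup.closure_le _).2 fun t ht => (hmem t).2 ?_) fun s hs => ?_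
    · rcases hh.order_two.1 ht with rfl | rfl | rfl | ⟨i, rfl⟩
      · left; rw [hh.sumHom_w, ← two_mul, hh.two_h]; rfl
      · right; rw [hh.sumHom_w, add_zero]
      · right; rw [hh.sumHom_w, zero_add]
      · left; rw [hh.sumHom_wz, add_neg_cancel]; rfl
    · have hUmem : ∀ i j, (i + j = 0 ∨ i + j = h) → w i j ∈ Subgroup.closure {s : S | orderOf s = 2} := by
        rintro i j (e | e)
        · rw [show j = -i by linear_combination e]; exact hA i
        · rw [show j = h - i by linear_combination e]; exact hB i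
      rcases hh.cases s with ⟨i, j, rfl⟩ | ⟨i, j, rfl⟩
      · refine hUmem i j ?_
        rcases (hmem _).1 hs with e | e <;> rw [hh.sumHom_w] at e
        exacts [Or.inl (Multiplicative.ofAdd.injective e), Or.inr (Multiplicative.ofAdd.injective e)]
      · refine (Subgroup.closure _).mul_mem (hUmem i j ?_) hz
        rcases (hmem _).1 hs with e | e <;> rw [hh.sumHom_wz] at e
        exacts [Or.inl (Multiplicative.ofAdd.injective e), Or.inr (Multiplicative.ofAdd.injective e)]
  have hsurj : Function.Surjective hh.sumHom := fun a =>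
    ⟨w a.toAdd 0, by rw [hh.sumHom_w, add_zero]; rfl⟩
  rw [heq]
  constructor
  · have h1 := Om.card_mul_index
    rw [Subgroup.index_comap_of_surjective K hsurj, hn] at h1
    have h3 := K.card_mul_index
    rw [Nat.card_zpowers, hK, Nat.card_congr Multiplicative.toAdd, Nat.card_zmod] at h3
    apply Nat.eq_of_mul_eq_mul_right (Nat.two_pow_pos n)
    calc Nat.card Om * 2 ^ n = Nat.card Om * (2 * K.index) := by rw [h3]
      _ = 2 * (Nat.card Om * K.index) := by ring
      _ = 2 * 2 ^ (2 * n + 1) := by rw [h1]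
      _ = 2 ^ (n + 2) * 2 ^ n := by rw [← pow_succ', ← pow_add]; congr 1; omega
  · refine ⟨w 1 0, eq_top_iff.2 fun g _ => ?_⟩
    obtain ⟨k, hk⟩ : ∃ k : ℕ, hh.sumHom g = Multiplicative.ofAdd (k : ZMod (2 ^ n)) :=
      ⟨(hh.sumHom g).toAdd.val, by rw [ZMod.natCast_zmod_val]; rfl⟩
    have hgk : g * (w 1 0 ^ k)⁻¹ ∈ Om := by
      refine (hmem _).2 (Or.inl ?_)
      rw [map_mul, map_inv, hh.natCast_mul_w, hh.sumHom_w, hk, mul_one, mul_zero, add_zero, mul_inv_cancel]
    have := Subgroup.mul_mem_sup hgk (Subgroup.npow_mem_zpowers (w 1 0) k)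
    rwa [inv_mul_cancel_right] at this

end Cfsg.Agent.S1200
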