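import Cfsg.Statements.S1202
import Cfsg.Agent.Invol.WRAut

set_option autoImplicit false
open Cfsg

namespace Cfsg.Agent.S1202

/-- Let S be a wreathed 2-group of order 2^(2n+1) and X a subgroup with C_S(X) ≤ X such that Aut(X) is not a 2-group. Then |N_S(X) : X| = 2, and either X is the commutative subgroup of order 2^(2n), or X = Q·Z(S) for some subgroup Q ≅ Q₈; in the latter case any two such subgroups are conjugate in S. -/
theorem result {S : Type*} [Group S] [Finite S] (hS : Cfsg.IsWreathed S) (n : ℕ) (hn : Nat.card S = 2 ^ (2 * n + 1)) (X : Subgroup S) (hC : Subgroup.centralizer (X : Set S) ≤ X) (hA : ¬ IsPGroup 2 (MulAut X)) : X.relIndex (Subgroup.normalizer (X : Set S)) = 2 ∧ ((IsMulCommutative X ∧ Nat.card X = 2 ^ (2 * n)) ∨ ∃ Q : Subgroup S, Nonempty (Q ≃* QuaternionGroup 2) ∧ X = Q ⊔ Subgroup.center S) ∧ ∀ X' : Subgroup S, Subgroup.centralizer (X' : Set S) ≤ X' → ¬ IsPGroup 2 (MulAut X') → ¬ IsMulCommutative X → ¬ IsMulCommutative X'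 → ∃ s : S, X.map (MulAut.conj s).toMonoidHom = X' := by
  obtain ⟨x, y, z, hh⟩ := Invol.wrgen_exists' hS hn
  have hmain : ∀ X : Subgroup S, Subgroup.centralizer (X : Set S) ≤ X → ¬ IsPGroup 2 (MulAut X) →
      (X = hh.toU.range ∧ IsMulCommutative X) ∨ (∃ k, X = (hh.adapted k).x0 ∧ ¬ IsMulCommutative X) := by
    intro X hC hA
    by_cases hU : X ≤ hh.toU.range
    · have hle : hh.toU.range ≤ X := fun s hs => hC (Subgroup.mem_centralizer_iff.2 fun v hv => by
        have := hh.range_toU_comm.is_comm.comm (⟨v, hU hv⟩ : hh.toU.range) ⟨s, hs⟩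
        exact congrArg Subtype.val this)
      have e := le_antisymm hU hle
      exact Or.inl ⟨e, e ▸ hh.range_toU_comm⟩
    · obtain ⟨g, hg, hgU⟩ := SetLike.not_le_iff_exists.1 hU
      obtain ⟨φ, hφ⟩ : ∃ φ : MulAut X, ∀ k, orderOf φ ≠ 2 ^ k := by
        by_contra! h
        exact hA (IsPGroup.iff_orderOf.2 h)
      obtain ⟨k, m, hm', hord⟩ := Nat.exists_eq_two_pow_mul_odd (orderOf_pos φ).ne'
      have hα : φ ^ 2 ^ k ≠ 1 := fun h => hφ k (by
        have h1 := orderOf_dvd_iff_pow_eq_one.2 h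
        rw [hord] at h1 ⊢
        obtain rfl : m = 1 := Nat.dvd_one.1 (Nat.dvd_of_mul_dvd_mul_left (Nat.two_pow_pos k) (by rwa [mul_one]))
        rw [mul_one])
      have hodd : Odd (orderOf (φ ^ 2 ^ k)) := by
        rw [orderOf_pow' φ (by positivity), hord, Nat.gcd_eq_right (dvd_mul_right _ _),
          Nat.mul_div_cancel_left _ (Nat.two_pow_pos k)]
        exact hm'
      rcases hh.cases g with ⟨i, j, rfl⟩ | ⟨i, j, rfl⟩
      · exact absurd (hh.mem_range_toU.2 ⟨i, j, rfl⟩) hgU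
      obtain ⟨k', hk'⟩ := hh.outside_cases X hC _ hα hodd hg
      refine Or.inr ⟨k', hk', fun hc => ?_⟩
      subst hk'
      set hh' := hh.adapted k'
      set z' := Invol.ww x y n k' (-k') * z with hz'
      have h1 : Invol.ww x y n 0 (Invol.wh n) ∈ hh'.x0 := hh'.w_mem_x0_iff.2 (by rw [sub_zero]; exact hh.two_h)
      have h2 := congrArg Subtype.val (hc.is_comm.comm (⟨_, h1⟩ : hh'.x0) ⟨z', hh'.z_mem_x0⟩)
      change Invol.ww x y n 0 (Invol.wh n) * z' = z' * Invol.ww x y n 0 (Invol.wh n) at h2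
      rw [hh'.z_mul] at h2
      obtain ⟨e, -⟩ := hh'.wz_inj h2
      exact hh.h_ne e.symm
  rcases hmain X hC hA with ⟨e, hc⟩ | ⟨k, e, hnc⟩
  · subst e
    refine ⟨?_, Or.inl ⟨hc, hh.card_range_toU⟩, fun X' _ _ h => absurd hc h⟩
    have hidx : hh.toU.range.index = 2 := by
      have h := hh.toU.range.card_mul_index
      rw [hh.card_range_toU, hh.card, pow_succ] at h
      exact Nat.eq_of_mul_eq_mul_left (Nat.two_pow_pos _) h
    have := Subgroup.normal_of_index_eq_two hidx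
    rw [Subgroup.normalizer_eq_top, Subgroup.relIndex_top_right, hidx]
  · subst e
    refine ⟨(hh.adapted k).relIndex_x0, Or.inr (hh.adapted k).x0_quaternion, fun X' hC' hA' _ hnc' => ?_⟩
    rcases hmain X' hC' hA' with ⟨e', hc'⟩ | ⟨k', rfl, -⟩
    · exact absurd hc' hnc'
    refine ⟨Invol.ww x y n k' 0 * (Invol.ww x y n k 0)⁻¹, ?_⟩
    rw [← hh.x0_adapted_conj k, ← hh.x0_adapted_conj k', Subgroup.map_map]
    congr 1
    ext v
    simp [mul_assoc]

end Cfsg.Agent.S1202
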