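import Cfsg.Statements.S1213
import Cfsg.Agent.Invol.CentralInvolution

set_option autoImplicit false
open Cfsg

namespace Cfsg.Agent.S1213

open Cfsg.Agent.Invol

/-- Let G be a finite group with quasi-dihedral or wreathed Sylow 2-subgroups and no subgroup of index 2, and let x be an involution with centralizer C. Then C has a Sylow 2-subgroup R which is a Sylow 2-subgroup of G; C has a normal subgroup K of index a power of 2 which has no subgroup of index 2 and whose Sylow 2-subgroups are generalized quaternion; and every subgroup of the centre of R is weakly closed in R with respect to C. -/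
theorem result {G : Type*} [Group G] [Finite G] (S : Sylow 2 G) (hS : Cfsg.IsQuasiDihedral (S : Subgroup G) ∨ Cfsg.IsWreathed (S : Subgroup G)) (hG : ∀ H : Subgroup G, H.index ≠ 2) (x : G) (hx : orderOf x = 2) : ∃ R : Sylow 2 ↥(Subgroup.centralizer ({x} : Set G)), Nat.card R = Nat.card S ∧ (∃ K : Subgroup ↥(Subgroup.centralizer ({x} : Set G)), K.Normal ∧ (∃ a : ℕ, K.index = 2 ^ a) ∧ (∀ H : Subgroup ↥K, H.index ≠ 2) ∧ (∀ P : Sylow 2 ↥K, ∃ m : ℕ, 1 ≤ m ∧ Nonempty ((P : Subgroup ↥K) ≃* QuaternionGroup (2 ^ m)))) ∧ (∀ Z₀ : Subgroup ↥(Subgroup.centralizer ({x} : Set G)), Z₀ ≤ ((Subgroup.center (R : Subgroup ↥(Subgroup.centralizer ({x} : Set G)))).map (R : Subgroup ↥(Subgroup.centralizer ({x} : Set G))).subtype) → Cfsg.IsWeaklyClosed Z₀ (R : Subgroup ↥(Subgroup.centralizer ({x} : Set G)))) := by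
  rcases hS with h | h
  · obtain ⟨a, b, n, hh⟩ := qdgen_exists h
    obtain ⟨g, hg⟩ : ∃ g, g * qu a n (qh n) * g⁻¹ = x := by
      obtain ⟨hT, -⟩ := hh.T6_Q6_of_no_index_two hG
      refine isConj_iff.1 ?_
      rcases hh.involution_isConj hx with e | e
      exacts [e, (hh.fuses_of_T6 hT).trans e]
    obtain ⟨e, he⟩ := sylow_smul_equiv S g
    obtain ⟨R, hR, hd⟩ := (hh.map e).central_data hG
    have hx' : qu (e a) n (qh n) = x := by
      show ((qc (e a) n (qh n) : ((g • S : Sylow 2 G) : Subgroup G)) : G) = x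
      rw [QDGen.qc_map, he]; exact hg
    subst hx'
    exact ⟨R, hR.trans (Nat.card_congr e.toEquiv).symm, hd⟩
  · obtain ⟨a, b, c, n, hh⟩ := wrgen_exists h
    obtain ⟨g, hg⟩ : ∃ g, g * wu a b n (wh n) (wh n) * g⁻¹ = x :=
      isConj_iff.1 (hh.all_conj_of_U6_V6 (hh.U6_V6_of_no_index_two hG).1 (hh.U6_V6_of_no_index_two hG).2 hx)
    obtain ⟨e, he⟩ := sylow_smul_equiv S g
    obtain ⟨R, hR, hd⟩ := (hh.map e).central_data hG
    have hx' : wu (e a) (e b) n (wh n) (wh n) = x := by
      show ((ww (e a) (e b) n (wh n) (wh n) : ((g • S : Sylow 2 G) : Subgroup G)) : G) = x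
      rw [WRGen.ww_map, he]; exact hg
    subst hx'
    exact ⟨R, hR.trans (Nat.card_congr e.toEquiv).symm, hd⟩

end Cfsg.Agent.S1213
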