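import Cfsg.Statements.S1214
import Cfsg.Agent.Invol.SimpleNormal

set_option autoImplicit false
open Cfsg

namespace Cfsg.Agent.S1214

open Cfsg.Agent.Invol Subgroup

/-- Let G be a finite group with quasi-dihedral or wreathed Sylow 2-subgroups and no subgroup of index 2. Then G/O(G), the quotient by the largest normal subgroup of odd order, has a normal subgroup of odd index which is a non-abelian simple group. -/
theorem result {G : Type*} [Group G] [Finite G] (S : Sylow 2 G) (hS : Cfsg.IsQuasiDihedral (S : Subgroup G) ∨ Cfsg.IsWreathed (S : Subgroup G)) (hG : ∀ H : Subgroup G, H.index ≠ 2) : ∃ L : Subgroup (G ⧸ Cfsg.oddCore G), L.Normal ∧ Odd L.index ∧ IsSimpleGroup L ∧ ¬ IsMulCommutative L := by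
  have : Fact (Nat.Prime 2) := ⟨Nat.prime_two⟩
  set O := Cfsg.oddCore G with hOdef
  have hO2 : ¬ 2 ∣ Nat.card O := Cfsg.Agent.Core.not_dvd_card_pPrimeCore
  set π := QuotientGroup.mk' O with hπ
  let P : Sylow 2 (G ⧸ O) := S.mapSurjective (QuotientGroup.mk'_surjective O)
  have hinj : Function.Injective (π.subgroupMap (S : Subgroup G)) := by
    rw [injective_iff_map_eq_one]
    intro a ha
    have haO : (a : G) ∈ O := (QuotientGroup.eq_one_iff _).1 (congrArg Subtype.val ha)
    obtain ⟨j, hj⟩ := IsPGroup.iff_orderOf.1 S.2 a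
    have hd : orderOf a ∣ Nat.card O := by rw [← Subgroup.orderOf_coe]; exact Subgroup.orderOf_dvd_natCard O haO
    rcases Nat.eq_zero_or_pos j with rfl | hpos
    · rwa [pow_zero, orderOf_eq_one_iff] at hj
    · exact absurd ((dvd_pow_self 2 hpos.ne').trans (hj ▸ hd)) hO2
  let e : (S : Subgroup G) ≃* (P : Subgroup (G ⧸ O)) :=
    MulEquiv.ofBijective _ ⟨hinj, π.subgroupMap_surjective _⟩
  have hG' : ∀ H : Subgroup (G ⧸ O), H.index ≠ 2 := fun H h => hG (H.comap π)
    (by rw [index_comap_of_surjective H (QuotientGroup.mk'_surjective O), h])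
  have hOq : Cfsg.oddCore (G ⧸ O) = ⊥ := Cfsg.Agent.Core.pPrimeCore_quotient_eq_bot
  rcases hS with h | h
  · obtain ⟨a, b, n, hh⟩ := qdgen_exists h
    exact (hh.map e).simple_normal hG' hOq
  · obtain ⟨a, b, c, n, hh⟩ := wrgen_exists h
    exact (hh.map e).simple_normal hG' hOq

end Cfsg.Agent.S1214
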