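import Cfsg.Statements.S1215
import Cfsg.Agent.Invol.CyclicNormalizer
import Cfsg.Agent.Invol.WRFusion
import Cfsg.Agent.Invol.QDMax
import Cfsg.Agent.Invol.Isolated
import Cfsg.Agent.S1239

set_option autoImplicit false
open Cfsg

namespace Cfsg.Agent.S1215

universe u

open Subgroup Cfsg.Agent.Invol

theorem aux_central {H : Type u} [Group H] [Finite H] (S : Sylow 2 H)
    (hS : Cfsg.IsQuasiDihedral (S : Subgroup H) ∨ Cfsg.IsWreathed (S : Subgroup H)) :
    IsCyclic (center (S : Subgroup H)) ∧ ∃ z ∈ (center (S : Subgroup H)), orderOf z = 2 := by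
  have : Fact (Nat.Prime 2) := ⟨Nat.prime_two⟩
  rcases hS with h | h
  · obtain ⟨x, y, n, hh⟩ := qdgen_exists h
    refine ⟨?_, qc x n (qh n), hh.h_mem_center, ?_⟩
    · rw [hh.center_eq]; infer_instance
    · refine orderOf_eq_prime ?_ fun e => hh.h_ne (hh.c_eq_one.1 e)
      rw [hh.c_pow, hh.c_eq_one, Nat.cast_ofNat, hh.two_h]
  · obtain ⟨x, y, z, n, hh⟩ := wrgen_exists h
    refine ⟨?_, ww x y n (wh n) (wh n), hh.mem_center_iff.2 ⟨_, rfl⟩, hh.order_two.2 (Or.inl rfl)⟩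
    let f : Multiplicative (ZMod (2 ^ n)) →* (S : Subgroup H) :=
      MonoidHom.mk' (fun c => ww x y n c.toAdd c.toAdd) (fun c d => (hh.w_mul _ _ _ _).symm)
    have hf : f.range = center (S : Subgroup H) := by
      ext v
      rw [hh.mem_center_iff]
      exact ⟨fun ⟨c, hc⟩ => ⟨c.toAdd, hc.symm⟩, fun ⟨b', hb'⟩ => ⟨Multiplicative.ofAdd b', hb'.symm⟩⟩
    rw [← hf]
    exact isCyclic_of_surjective f.rangeRestrict f.rangeRestrict_surjective

/-- Let H be a finite group with quasi-dihedral or wreathed Sylow 2-subgroup S such that H has a normal subgroup K of index a power of 2 with no subgroup of index 2 and with generalized quaternion Sylow 2-subgroups, and such that every subgroup of Z(S) is weakly closed in S with respect to H. Then H = O(H) C_H(Z(S)): every element of H is the product of an element of the largest normal odd-order subgroup and an element centralizing Z(S). -/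
theorem result {H : Type*} [Group H] [Finite H] (S : Sylow 2 H) (hS : Cfsg.IsQuasiDihedral (S : Subgroup H) ∨ Cfsg.IsWreathed (S : Subgroup H)) (hQ : (∃ K : Subgroup H, K.Normal ∧ (∃ a : ℕ, K.index = 2 ^ a) ∧ (∀ M : Subgroup ↥K, M.index ≠ 2) ∧ (∀ P : Sylow 2 ↥K, ∃ m : ℕ, 1 ≤ m ∧ Nonempty ((P : Subgroup ↥K) ≃* QuaternionGroup (2 ^ m)))) ∧ (∀ Z₀ : Subgroup H, Z₀ ≤ ((Subgroup.center (S : Subgroup H)).map (S : Subgroup H).subtype) → Cfsg.IsWeaklyClosed Z₀ (S : Subgroup H))) (h : H) : ∃ o ∈ Cfsg.oddCore H, ∃ c ∈ Subgroup.centralizer (((Subgroup.center (S : Subgroup H)).map (S : Subgroup H).subtype : Subgroup H) : Set H), h = o * c := by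
  have : Fact (Nat.Prime 2) := ⟨Nat.prime_two⟩
  set Zc := (center (S : Subgroup H)).map (S : Subgroup H).subtype with hZc
  obtain ⟨hcyc, ⟨z, hzS⟩, hzc, hz2⟩ := aux_central S hS
  rw [Subgroup.orderOf_mk] at hz2
  have hzZ : z ∈ Zc := ⟨⟨z, hzS⟩, hzc, rfl⟩
  have hiso : Cfsg.IsIsolatedInvolution z := by
    refine isolated_of_sylow S hz2 fun g hg => ?_
    have h1 := (hQ.2 (zpowers z) (zpowers_le.2 hzZ)).2 g
      (by rw [MonoidHom.map_zpowers]; exact zpowers_le.2 hg)
    have h2 : g * z * g⁻¹ ∈ zpowers z := h1 ▸ ⟨z, mem_zpowers z, rfl⟩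
    obtain ⟨i, hi⟩ := mem_zpowers_iff.1 h2
    rcases Int.even_or_odd i with ⟨k, hk⟩ | ⟨k, hk⟩
    · exfalso
      rw [hk, zpow_add, ← (Commute.refl z).mul_zpow, ← pow_two, ← hz2, pow_orderOf_eq_one, one_zpow,
        eq_comm, conj_eq_one_iff] at hi
      rw [hi, orderOf_one] at hz2
      omega
    · rw [← hi, hk, zpow_add_one, zpow_mul, zpow_ofNat, ← hz2, pow_orderOf_eq_one, one_zpow, one_mul]
  have hN := Cfsg.Agent.S1239.result S hS z hzS hiso
  have hOn : (Cfsg.oddCore H).Normal := (inferInstance : (Cfsg.pPrimeCore 2 H).Normal)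
  have hZp : IsPGroup 2 Zc := S.2.to_le (map_subtype_le _)
  have hdisj : ∀ r ∈ Cfsg.oddCore H, ∀ j : ℕ, orderOf r = 2 ^ j → r = 1 := by
    intro r hr j hj
    rcases Nat.eq_zero_or_pos j with rfl | hpos
    · exact orderOf_eq_one_iff.1 (hj.trans (pow_zero 2))
    · exact absurd (((dvd_pow_self 2 hpos.ne').trans hj.symm.dvd).trans (Subgroup.orderOf_dvd_natCard _ hr))
        (Core.not_dvd_card_pPrimeCore (p := 2) (G := H))
  set N := Cfsg.oddCore H ⊔ Zc with hNdef
  obtain ⟨R, hR⟩ := (hZp.comap_subtype (K := N)).exists_le_sylow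
  obtain ⟨R', hR'⟩ := ((hZp.map (MulAut.conj h).toMonoidHom).comap_subtype (K := N)).exists_le_sylow
  obtain ⟨c, hc⟩ := MulAction.exists_smul_eq N R' R
  have hRZ : ∀ r : N, r ∈ (R : Subgroup N) → (r : H) ∈ Zc := by
    intro r hr
    obtain ⟨o, ho, w, hw, e⟩ := mem_sup_of_normal_left.1 r.2
    have hoR : (⟨o, mem_sup_left ho⟩ : N) ∈ (R : Subgroup N) := by
      have h1 : (⟨o, mem_sup_left ho⟩ : N) = r * (⟨w, mem_sup_right hw⟩ : N)⁻¹ := Subtype.ext (by
        simp [← e])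
      rw [h1]
      exact mul_mem hr (inv_mem (hR (mem_subgroupOf.2 hw)))
    obtain ⟨j, hj⟩ := IsPGroup.iff_orderOf.1 R.2 ⟨_, hoR⟩
    rw [Subgroup.orderOf_mk, Subgroup.orderOf_mk] at hj
    rw [← e, hdisj o ho j hj, one_mul]
    exact hw
  obtain ⟨w, hw, o, ho, ec⟩ := mem_sup_of_normal_right.1 (show (c : H) ∈ Zc ⊔ Cfsg.oddCore H by
    rw [sup_comm]; exact c.2)
  have hconj : ∀ v ∈ Zc, o * h * v * (o * h)⁻¹ ∈ Zc := by
    intro v hv
    have hmem : (MulAut.conj h).toMonoidHom v ∈ N := hN.conj_mem v (mem_sup_right hv) h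
    have h1 := hRZ (c * ⟨_, hmem⟩ * c⁻¹) (by
      rw [← hc, Sylow.coe_subgroup_smul]
      exact ⟨⟨_, hmem⟩, hR' (mem_subgroupOf.2 ⟨v, hv, rfl⟩), rfl⟩)
    have h2 := mul_mem (mul_mem (inv_mem hw) h1) hw
    convert h2 using 1
    push_cast
    rw [← ec]
    simp [mul_assoc]
  have hcyc' : IsCyclic Zc := isCyclic_of_surjective _
    ((center (S : Subgroup H)).equivMapOfInjective _ (S : Subgroup H).subtype_injective).surjective
  refine ⟨o⁻¹, inv_mem ho, o * h, ?_, (inv_mul_cancel_left o h).symm⟩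
  have hnz : o * h ∈ normalizer (Zc : Set H) := mem_normalizer_of_forall hconj
  refine normalizer_le_centralizer_of_cyclic S hZp hcyc' ?_ hnz
  intro s hs
  refine mem_centralizer_iff.2 fun v hv => ?_
  obtain ⟨v', hv', rfl⟩ := hv
  exact (congrArg Subtype.val (Subgroup.mem_center_iff.1 hv' ⟨s, hs⟩)).symm

end Cfsg.Agent.S1215
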