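import Cfsg.Statements.S5319
import Cfsg.Agent.S5318
import Cfsg.Agent.GroupSub.GU2Two

set_option autoImplicit false
open Cfsg

namespace Cfsg.Agent.S5319

open Matrix GroupSub GroupSub.GL2Two
open Cfsg.Agent.Classical.Herm (IsInvol)

section

variable {F : Type*} [Field F] {σ : F →+* F} {q : ℕ}

local notation "G2" => GL (Fin 2) F
local notation "G3" => Matrix.SpecialLinearGroup (Fin 3) F
local notation:1024 "↥₂" A:1024 => ((A : GL (Fin 2) F) : Matrix (Fin 2) (Fin 2) F)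
local notation:1024 "↥₃" A:1024 => ((A : Matrix.SpecialLinearGroup (Fin 3) F) : Matrix (Fin 3) (Fin 3) F)

theorem two_ne [Fintype F] (hq : Fintype.card F = q ^ 2) (hodd : q % 2 = 1) : (2 : F) ≠ 0 :=
  S5318.two_ne_zero' (by rw [hq, Nat.pow_mod, hodd])

theorem exists_i [Fintype F] (hq : Fintype.card F = q ^ 2) (hodd : q % 2 = 1) (h2 : (2 : F) ≠ 0) :
    ∃ i : F, i * i = -1 := by
  have h : IsSquare (-1 : F) := by
    rw [FiniteField.isSquare_neg_one_iff, hq]
    obtain ⟨j, rfl⟩ : ∃ j, q = 2 * j + 1 := ⟨q / 2, by omega⟩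
    have : (2 * j + 1) ^ 2 = 4 * (j * j + j) + 1 := by ring
    omega
  obtain ⟨i, hi⟩ := h
  exact ⟨i, hi.symm⟩

theorem mem_SU_isU (hσq : ∀ x, σ x = x ^ q) (g : G3) :
    g ∈ Cfsg.SU 3 F q ↔ GU2Two.IsU σ ↥₃ g := by
  rw [Classical.mem_SU_iff hσq, Classical.preserves_iff_cols]
  unfold Cfsg.Agent.Classical.Herm.IsON
  simp only [Classical.hermB_apply, Matrix.mulVec_single_one, Matrix.col_apply]
  constructor
  · intro h
    ext a b
    rw [Matrix.one_apply, ← h a b, Matrix.mul_apply]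
    simp
  · intro h a b
    have e := congrFun (congrFun h a) b
    rw [Matrix.one_apply, Matrix.mul_apply] at e
    simpa using e

theorem isU_iotaMat {g : G2} : GU2Two.IsU σ (S5318.iotaMat g) ↔ g ∈ GU2Two.U2 σ := by
  constructor
  · intro h
    rw [GU2Two.mem_U2]
    have h00 := congrFun (congrFun h 0) 0
    have h01 := congrFun (congrFun h 0) 1
    have h10 := congrFun (congrFun h 1) 0
    have h11 := congrFun (congrFun h 1) 1
    simp [S5318.iotaMat, Matrix.mul_apply, Fin.sum_univ_three] at h00 h01 h10 h11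
    show (_ : Matrix (Fin 2) (Fin 2) F) = 1
    ext a b
    fin_cases a <;> fin_cases b <;> simp [Matrix.mul_apply, Fin.sum_univ_two] <;> assumption
  · intro h
    have hd : σ (↥₂ g).det⁻¹ * (↥₂ g).det⁻¹ = 1 := by
      rw [map_inv₀, ← mul_inv, GU2Two.det_norm h, inv_one]
    rw [GU2Two.mem_U2] at h
    have h00 := congrFun (congrFun h 0) 0
    have h01 := congrFun (congrFun h 0) 1
    have h10 := congrFun (congrFun h 1) 0
    have h11 := congrFun (congrFun h 1) 1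
    simp [Matrix.mul_apply, Fin.sum_univ_two] at h00 h01 h10 h11
    show (_ : Matrix (Fin 3) (Fin 3) F) = 1
    ext a b
    fin_cases a <;> fin_cases b <;>
      simp [S5318.iotaMat, Matrix.mul_apply, Fin.sum_univ_three] <;>
      first
        | assumption
        | (rw [← map_inv₀]; exact hd)

/-- The embedding of GU(2) into SU(3). -/
noncomputable def iotaU (hσq : ∀ x, σ x = x ^ q) : GU2Two.U2 σ →* Cfsg.SU 3 F q :=
  (S5318.iota.comp (GU2Two.U2 σ).subtype).codRestrict _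
    (fun g => (mem_SU_isU hσq _).2 (isU_iotaMat.2 g.2))

theorem coe_iotaU (hσq : ∀ x, σ x = x ^ q) (g : GU2Two.U2 σ) :
    ((iotaU hσq g : Cfsg.SU 3 F q) : G3) = S5318.iota (g : G2) := rfl

theorem iotaU_injective (hσq : ∀ x, σ x = x ^ q) : Function.Injective (iotaU hσq) := fun a b h =>
  Subtype.ext (S5318.iota_injective (congrArg Subtype.val h))

variable (σ) in
/-- The scalar `-1`. -/
noncomputable def zU : GU2Two.U2 σ :=
  ⟨GroupSub.GL2Two.J F, GU2Two.J_mem⟩ * ⟨GroupSub.GL2Two.J F, GU2Two.J_mem⟩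

theorem coe_zU : ((zU σ : GU2Two.U2 σ) : G2) = S5318.zG F := rfl

theorem zU_mem : zU σ ∈ GU2Two.QsU σ :=
  (GU2Two.mem_QsU (σ := σ) (g := zU σ)).2 (by rw [coe_zU]; exact S5318.zG_mem)

theorem zU_ne (h2 : (2 : F) ≠ 0) : zU σ ≠ 1 := fun h =>
  S5318.zG_ne h2 (by rw [← coe_zU (σ := σ), h]; rfl)

theorem invol_conj [Finite F] (hσ : IsInvol σ) (hσq : ∀ x, σ x = x ^ q) (h2 : (2 : F) ≠ 0)
    {x : Cfsg.SU 3 F q} (hx : x * x = 1) (h1 : x ≠ 1) :
    ∃ g : Cfsg.SU 3 F q, g * iotaU hσq (zU σ) * g⁻¹ = x := by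
  set X := ↥₃(x : G3) with hX
  obtain ⟨C, hC, hXC⟩ := GroupSub.exists_three_eigen h2 X
    (congrArg (fun A : Cfsg.SU 3 F q => ↥₃(A : G3)) hx) (x : G3).2
    (fun h => h1 (Subtype.ext (Subtype.ext h)))
  set B := Classical.hermB 3 σ
  have hB := Classical.hermB_isHerm hσ 3
  have hpres := (Classical.mem_SU_iff hσq (x : G3)).1 x.2
  set cl := fun j : Fin 3 => fun r => C r j with hcl
  have hcol : ∀ j, X *ᵥ cl j = (![-1, -1, 1] : Fin 3 → F) j • cl j := by
    intro j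
    funext r
    have h := congrFun (congrFun hXC r) j
    rw [Matrix.mul_diagonal, Matrix.mul_apply] at h
    show ∑ k, X r k * C k j = _ * C r j
    rw [h, mul_comm]
  have horth : ∀ j : Fin 3, j ≠ 2 → B (cl 2) (cl j) = 0 := by
    intro j hj
    have h : B (X *ᵥ cl 2) (X *ᵥ cl j) = B (cl 2) (cl j) := hpres _ _
    rw [hcol, hcol, show (![-1, -1, 1] : Fin 3 → F) 2 = 1 from rfl, one_smul,
      show (![-1, -1, 1] : Fin 3 → F) j = -1 by fin_cases j <;> first | rfl | exact absurd rfl hj,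
      map_smul, smul_eq_mul] at h
    have : (2 : F) * B (cl 2) (cl j) = 0 := by linear_combination -h
    exact (mul_eq_zero.1 this).resolve_left h2
  have hdec : ∀ v : Fin 3 → F, ∃ c : Fin 3 → F, v = c 0 • cl 0 + c 1 • cl 1 + c 2 • cl 2 := by
    intro v
    refine ⟨C⁻¹ *ᵥ v, ?_⟩
    have e : C *ᵥ (C⁻¹ *ᵥ v) = v := by
      rw [Matrix.mulVec_mulVec, Matrix.mul_nonsing_inv _ (isUnit_iff_ne_zero.2 hC), Matrix.one_mulVec]
    conv_lhs => rw [← e]
    funext r
    simp only [Matrix.mulVec, dotProduct, Fin.sum_univ_three, Pi.add_apply, Pi.smul_apply, smul_eq_mul,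
      hcl]
    ring
  have hn : B (cl 2) (cl 2) ≠ 0 := by
    intro e
    have hw : cl 2 = 0 := hB.nondeg _ fun v => by
      obtain ⟨c, rfl⟩ := hdec v
      rw [map_add, map_add, map_smul, map_smul, map_smul]
      show c 0 * B (cl 2) (cl 0) + c 1 * B (cl 2) (cl 1) + c 2 * B (cl 2) (cl 2) = 0
      rw [horth 0 (by decide), horth 1 (by decide), e]
      ring
    exact hC (Matrix.det_eq_zero_of_column_eq_zero 2 fun r => congrFun hw r)
  obtain ⟨c, hc⟩ := Classical.Herm.exists_unit_of_ne_zero hB hn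
  obtain ⟨a, ha, ha0⟩ := Classical.Herm.exists_extend hB 2 (k := 1)
    (by rw [Module.finrank_fintype_fun_eq_card, Fintype.card_fin])
    (a := fun _ : Fin 1 => c • cl 2) (fun i j => by rw [Subsingleton.elim i j, if_pos rfl]; exact hc)
  have ha0' : a 0 = c • cl 2 := ha0 0
  have hc0 : c ≠ 0 := fun e => by simp [e] at hc
  have hneg : ∀ j : Fin (1 + 2), j ≠ 0 → X *ᵥ a j = -a j := by
    intro j hj
    obtain ⟨d, hd⟩ := hdec (a j)
    have h0 : B (a 0) (a j) = 0 := by rw [ha 0 j, if_neg (Ne.symm hj)]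
    rw [ha0', hd, LinearMap.map_smulₛₗ, LinearMap.smul_apply, map_add, map_add, map_smul, map_smul,
      map_smul, horth 0 (by decide), horth 1 (by decide), smul_zero, smul_zero, zero_add, zero_add,
      smul_eq_mul, smul_eq_mul] at h0
    have hd2 : d 2 = 0 := by
      rcases mul_eq_zero.1 h0 with e | e
      · exact absurd (RingHom.injective σ (e.trans (map_zero σ).symm)) hc0
      · exact (mul_eq_zero.1 e).resolve_right hn
    rw [hd, hd2, zero_smul, add_zero, Matrix.mulVec_add, Matrix.mulVec_smul, Matrix.mulVec_smul, hcol,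
      hcol]
    simp
    abel
  have hpos : X *ᵥ a 0 = a 0 := by
    rw [ha0', Matrix.mulVec_smul, hcol, show (![-1, -1, 1] : Fin 3 → F) 2 = 1 from rfl, one_smul]
  let M : Matrix (Fin 3) (Fin 3) F := Matrix.of fun r j => a (![1, 2, 0] j) r
  have hMu : GU2Two.IsU σ M := by
    show (_ : Matrix (Fin 3) (Fin 3) F) = 1
    ext j k
    rw [Matrix.mul_apply, Matrix.one_apply]
    have h := ha (![1, 2, 0] j) (![1, 2, 0] k)
    rw [Classical.hermB_apply] at h
    simp only [M, Matrix.transpose_apply, Matrix.map_apply, Matrix.of_apply]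
    rw [h]
    fin_cases j <;> fin_cases k <;> simp
  have hXM : X * M = M * Matrix.diagonal ![-1, -1, 1] := by
    ext r j
    rw [Matrix.mul_diagonal]
    have e : (X * M) r j = (X *ᵥ a (![1, 2, 0] j)) r := rfl
    rw [e]
    show _ = a (![1, 2, 0] j) r * _
    fin_cases j
    · simp [hneg 1 (by decide)]
    · simp [hneg 2 (by decide)]
    · simp [hpos]
  have hMd : σ M.det * M.det = 1 := by
    have h := congrArg Matrix.det hMu
    rw [Matrix.det_mul, Matrix.det_transpose, Matrix.det_one] at h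
    rwa [RingHom.map_det]
  set d := M.det with hd
  have hd0 : d ≠ 0 := right_ne_zero_of_mul_eq_one hMd
  let E : Matrix (Fin 3) (Fin 3) F := Matrix.diagonal ![1, 1, d⁻¹]
  have hE : GU2Two.IsU σ E := by
    show (_ : Matrix (Fin 3) (Fin 3) F) = 1
    rw [Matrix.diagonal_map (map_zero σ), Matrix.diagonal_transpose, Matrix.diagonal_mul_diagonal,
      ← Matrix.diagonal_one]
    congr 1
    funext j
    fin_cases j <;> simp
    rw [← mul_inv, mul_comm, mul_comm, hMd, inv_one]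
  let g : G3 := ⟨M * E, by
    rw [Matrix.det_mul, ← hd, show E.det = d⁻¹ by simp [E, Matrix.det_diagonal, Fin.prod_univ_three],
      mul_inv_cancel₀ hd0]⟩
  refine ⟨⟨g, (mem_SU_isU hσq g).2 (hMu.mul hE)⟩, mul_inv_eq_of_eq_mul ?_⟩
  refine Subtype.ext (Subtype.ext ?_)
  show M * E * ↥₃(S5318.iota (S5318.zG F)) = X * (M * E)
  rw [S5318.coe_iota_zG, ← Matrix.mul_assoc X, hXM, Matrix.mul_assoc M, Matrix.mul_assoc M]
  congr 1
  rw [Matrix.diagonal_mul_diagonal, Matrix.diagonal_mul_diagonal]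
  congr 1
  funext j
  ring

theorem exists_iotaU_of_comm (hσq : ∀ x, σ x = x ^ q) (h2 : (2 : F) ≠ 0) {x : Cfsg.SU 3 F q}
    (hx : x * iotaU hσq (zU σ) = iotaU hσq (zU σ) * x) : ∃ g, iotaU hσq g = x := by
  obtain ⟨g, hg⟩ := S5318.exists_iota_of_comm h2 (x := (x : G3)) (congrArg Subtype.val hx)
  have hU : g ∈ GU2Two.U2 σ :=
    isU_iotaMat.1 (by rw [← S5318.coe_iota, hg]; exact (mem_SU_isU hσq _).1 x.2)
  exact ⟨⟨g, hU⟩, Subtype.ext hg⟩

theorem exists_sylow [Fintype F] (hσ : IsInvol σ) (hσq : ∀ x, σ x = x ^ q) (h2 : (2 : F) ≠ 0) {i : F}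
    (hi : i * i = -1) :
    ∃ P : Sylow 2 (Cfsg.SU 3 F q), (P : Subgroup (Cfsg.SU 3 F q)) = (GU2Two.QsU σ).map (iotaU hσq) := by
  haveI : Fact (Nat.Prime 2) := ⟨Nat.prime_two⟩
  obtain ⟨Q, hQ⟩ := GU2Two.exists_sylow_eq_QsU hσ h2 hi
  obtain ⟨P, hP⟩ := ((GU2Two.isPGroup_QsU (σ := σ)).map (iotaU hσq)).exists_le_sylow
  refine ⟨P, (Subgroup.eq_of_le_of_card_ge hP ?_).symm⟩
  rw [Subgroup.card_map_of_injective (iotaU_injective hσq), ← hQ]
  haveI : Nontrivial (P : Subgroup (Cfsg.SU 3 F q)) := ⟨⟨⟨_, hP ⟨_, zU_mem, rfl⟩⟩, 1, fun e =>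
    zU_ne h2 (iotaU_injective hσq ((congrArg Subtype.val e).trans (map_one (iotaU hσq)).symm))⟩⟩
  haveI := P.isPGroup'.center_nontrivial
  obtain ⟨k, hk⟩ := IsPGroup.iff_card.1
    (P.isPGroup'.to_subgroup (Subgroup.center (P : Subgroup (Cfsg.SU 3 F q))))
  have hdvd : 2 ∣ Nat.card (Subgroup.center (P : Subgroup (Cfsg.SU 3 F q))) := by
    rcases k with _ | k
    · rw [pow_zero] at hk; exact absurd hk Finite.one_lt_card.ne'
    · exact hk ▸ dvd_pow_self 2 k.succ_ne_zero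
  obtain ⟨⟨⟨x, hxP⟩, hxC⟩, hord⟩ := exists_prime_orderOf_dvd_card' 2 hdvd
  rw [Subgroup.orderOf_mk, Subgroup.orderOf_mk] at hord
  have hxx : x * x = 1 := by
    have h := pow_orderOf_eq_one x
    rw [hord, pow_two] at h
    exact h
  obtain ⟨g, hg⟩ := invol_conj hσ hσq h2 hxx (fun e => by rw [e, orderOf_one] at hord; omega)
  set z := iotaU hσq (zU σ) with hz
  have hle : ∀ s ∈ (P : Subgroup (Cfsg.SU 3 F q)), ∃ a, iotaU hσq a = g⁻¹ * s * g := by
    intro s hs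
    refine exists_iotaU_of_comm hσq h2 ?_
    have h : s * x = x * s := congrArg Subtype.val (Subgroup.mem_center_iff.1 hxC ⟨s, hs⟩)
    rw [← hg] at h
    calc g⁻¹ * s * g * z = g⁻¹ * (s * (g * z * g⁻¹)) * g := by group
      _ = g⁻¹ * (g * z * g⁻¹ * s) * g := by rw [h]
      _ = z * (g⁻¹ * s * g) := by group
  set P' := (P : Subgroup (Cfsg.SU 3 F q)).map (MulAut.conj g⁻¹).toMonoidHom with hP'
  have hP'le : P' ≤ (iotaU hσq).range := by
    rintro _ ⟨s, hs, rfl⟩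
    obtain ⟨a, ha⟩ := hle s hs
    exact ⟨a, by rw [ha]; simp [MulAut.conj_apply]⟩
  have hP'p : IsPGroup 2 P' := P.isPGroup'.map _
  obtain ⟨R, hR⟩ := (hP'p.comap_of_injective _ (iotaU_injective hσq)).exists_le_sylow
  calc Nat.card (P : Subgroup (Cfsg.SU 3 F q)) = Nat.card P' :=
        (Subgroup.card_map_of_injective (MulAut.conj g⁻¹).injective).symm
    _ = Nat.card (P'.comap (iotaU hσq)) := by
        conv_lhs => rw [← Subgroup.map_comap_eq_self hP'le]
        exact Subgroup.card_map_of_injective (iotaU_injective hσq)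
    _ ≤ Nat.card (R : Subgroup (GU2Two.U2 σ)) := Subgroup.card_le_of_le hR
    _ = Nat.card (Q : Subgroup (GU2Two.U2 σ)) := Nat.card_congr (Sylow.equiv R Q).toEquiv

theorem isU_cyc : GU2Two.IsU σ ↥₃(S5318.cyc3 F) := by
  show (_ : Matrix (Fin 3) (Fin 3) F) = 1
  ext a b
  fin_cases a <;> fin_cases b <;> simp [S5318.cyc3, Matrix.mul_apply, Fin.sum_univ_three]

theorem center_card_coprime [Fintype F] (hσ : IsInvol σ) (hσq : ∀ x, σ x = x ^ q) (h2 : (2 : F) ≠ 0) :
    Nat.Coprime (Nat.card (QuotientGroup.mk' (Subgroup.center (Cfsg.SU 3 F q))).ker) 2 := by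
  haveI : Fact (Nat.Prime 2) := ⟨Nat.prime_two⟩
  rw [QuotientGroup.ker_mk', Nat.coprime_comm, Nat.prime_two.coprime_iff_not_dvd]
  intro hd
  obtain ⟨⟨c, hc⟩, hord⟩ := exists_prime_orderOf_dvd_card' 2 hd
  rw [Subgroup.orderOf_mk] at hord
  have hcc : c * c = 1 := by
    have h := pow_orderOf_eq_one c
    rw [hord, pow_two] at h
    exact h
  obtain ⟨g, hg⟩ := invol_conj hσ hσq h2 hcc (fun e => by rw [e, orderOf_one] at hord; omega)
  set π : Cfsg.SU 3 F q := ⟨S5318.cyc3 F, (mem_SU_isU hσq _).2 isU_cyc⟩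
  set z := iotaU hσq (zU σ) with hz
  have hzc : z = c := by
    calc z = g⁻¹ * (g * z * g⁻¹) * g := by group
      _ = g⁻¹ * c * g := by rw [hg]
      _ = c := by rw [mul_assoc, ← Subgroup.mem_center_iff.1 hc g, inv_mul_cancel_left]
  have h : π * z = z * π := by rw [hzc]; exact Subgroup.mem_center_iff.1 hc π
  have e := congrArg (fun A : Cfsg.SU 3 F q => ↥₃(A : G3) 1 2) h
  simp only [Subgroup.coe_mul, Matrix.SpecialLinearGroup.coe_mul, π, hz, coe_iotaU, coe_zU,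
    S5318.coe_iota_zG, Matrix.mul_diagonal, Matrix.diagonal_mul] at e
  simp [S5318.cyc3] at e
  exact h2 (by linear_combination e)

theorem sigma_i (hi : ∀ {i : F}, i * i = -1 → σ i * σ i = -1) {i : F} (h : i * i = -1) :
    σ i = i ∨ σ i = -i := by
  have : (σ i - i) * (σ i + i) = 0 := by linear_combination hi h - h
  rcases mul_eq_zero.1 this with e | e
  · exact Or.inl (sub_eq_zero.1 e)
  · exact Or.inr (eq_neg_of_add_eq_zero_left e)

theorem sigma_cases {i : F} (h : i * i = -1) : σ i = i ∨ σ i = -i :=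
  sigma_i (fun {j} hj => by rw [← map_mul, hj, map_neg, map_one]) h

theorem kk_mem_U_nonsplit (h2 : (2 : F) ≠ 0) {i : F} (hi : i * i = -1) (hsi : σ i = -i) {l m : F}
    (hl : l ≠ 0) (hm : m ≠ 0) (hsl : σ l * l = 1) (hsm : σ m * m = 1) :
    S5318.kk h2 i hi l m hl hm ∈ GU2Two.U2 σ := by
  rw [GU2Two.mem_U2, S5318.coe_kk]
  show (_ : Matrix (Fin 2) (Fin 2) F) = 1
  ext a b
  fin_cases a <;> fin_cases b <;>
    simp [Matrix.mul_apply, Fin.sum_univ_two, map_div₀, map_ofNat, hsi] <;> field_simp <;>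
    first
      | ring1
      | linear_combination (-2 + 2 * i) * hsl + (-2 - 2 * i) * hsm + (σ l * l - σ l * m - σ m * l + σ m * m) * hi
      | linear_combination (2 - 2 * i) * hsl + (2 + 2 * i) * hsm - (σ l * l - σ l * m - σ m * l + σ m * m) * hi
      | linear_combination (-2 - 2 * i) * hsl + (-2 + 2 * i) * hsm + (σ l * l - σ l * m - σ m * l + σ m * m) * hi
      | linear_combination (2 + 2 * i) * hsl + (2 - 2 * i) * hsm - (σ l * l - σ l * m - σ m * l + σ m * m) * hi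
      | linear_combination (-2 : F) * hsl + (-2 : F) * hsm + (σ l * l - σ l * m - σ m * l + σ m * m) * hi
      | linear_combination (2 : F) * hsl + (2 : F) * hsm - (σ l * l - σ l * m - σ m * l + σ m * m) * hi
      | linear_combination (2 : F) * hsl - (2 : F) * hsm
      | linear_combination -(2 : F) * hsl + (2 : F) * hsm
      | linear_combination (2 * i : F) * hsl - (2 * i : F) * hsm
      | linear_combination -(2 * i : F) * hsl + (2 * i : F) * hsm

theorem kk_mem_U_split (h2 : (2 : F) ≠ 0) {i : F} (hi : i * i = -1) (hsi : σ i = i) (hσ : IsInvol σ)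
    {l m : F} (hl : l ≠ 0) (hm : m ≠ 0) (hlm : σ l * m = 1) : S5318.kk h2 i hi l m hl hm ∈ GU2Two.U2 σ := by
  have hml : σ m * l = 1 := by
    have h := congrArg σ hlm
    rw [map_mul, hσ.invol, map_one] at h
    rw [mul_comm]; exact h
  rw [GU2Two.mem_U2, S5318.coe_kk]
  show (_ : Matrix (Fin 2) (Fin 2) F) = 1
  ext a b
  fin_cases a <;> fin_cases b <;>
    simp [Matrix.mul_apply, Fin.sum_univ_two, map_div₀, map_ofNat, hsi] <;> field_simp <;>
    first
      | ring1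
      | linear_combination (2 : F) * hlm + (2 : F) * hml + (σ l - σ m) * (l - m) * hi
      | linear_combination (2 * i : F) * hlm - (2 * i : F) * hml
      | linear_combination -(2 * i : F) * hlm + (2 * i : F) * hml
      | linear_combination (2 : F) * hlm - (2 : F) * hml
      | linear_combination -(2 : F) * hlm + (2 : F) * hml

theorem kk_conjU [Finite F] (hσ : IsInvol σ) (hσq : ∀ x, σ x = x ^ q) (h2 : (2 : F) ≠ 0) {i : F}
    (hi : i * i = -1) (hsi : σ i = -i) {u : F} (hu : u ≠ 0)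
    (h1 : S5318.kk h2 i hi 1 u one_ne_zero hu ∈ GU2Two.U2 σ)
    (h3 : S5318.kk h2 i hi u u⁻¹ hu (inv_ne_zero hu) ∈ GU2Two.U2 σ) :
    ∃ g : Cfsg.SU 3 F q, g * iotaU hσq ⟨_, h1⟩ * g⁻¹ = iotaU hσq ⟨_, h3⟩ := by
  have hi0 : i ≠ 0 := fun e => by simp [e] at hi
  obtain ⟨μ, hμ⟩ := Classical.Herm.exists_norm hσ (a := (8 : F)) (map_ofNat σ 8)
  let E : Matrix (Fin 3) (Fin 3) F := Matrix.diagonal ![1, 1, μ]
  obtain ⟨C, hC⟩ : ∃ C : Matrix (Fin 3) (Fin 3) F, C = ↥₃(S5318.eigC h2 i hi) * E := ⟨_, rfl⟩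
  have hC' : C = !![1, 1, 0; -i, i, 0; 0, 0, (2 * i)⁻¹ * μ] := by
    rw [hC]
    ext a b
    show (↥₃(S5318.eigC h2 i hi) * Matrix.diagonal ![1, 1, μ]) a b = _
    rw [Matrix.mul_diagonal]
    fin_cases a <;> fin_cases b <;> simp [S5318.eigC]
  obtain ⟨Ci, hCi⟩ : ∃ Ci : Matrix (Fin 3) (Fin 3) F, Ci = (2 : F)⁻¹ • (C.map σ)ᵀ := ⟨_, rfl⟩
  have hgram : (C.map σ)ᵀ * C = (2 : F) • 1 := by
    ext a b
    fin_cases a <;> fin_cases b <;>
      simp [hC', Matrix.mul_apply, Fin.sum_univ_three, map_inv₀, map_ofNat, hsi] <;>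
      field_simp <;>
      first
        | ring1
        | linear_combination -hi
        | linear_combination hi
        | linear_combination hμ + 8 * hi
        | linear_combination -hμ - 8 * hi
        | linear_combination hμ - 8 * hi
        | linear_combination -hμ + 8 * hi
  have hCiC : Ci * C = 1 := by rw [hCi, Matrix.smul_mul, hgram, smul_smul, inv_mul_cancel₀ h2, one_smul]
  have hCCi : C * Ci = 1 := mul_eq_one_comm.1 hCiC
  have hstar : (Ci.map σ)ᵀ = (2 : F)⁻¹ • C := by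
    ext a b
    simp [hCi, hσ.invol, map_inv₀, map_ofNat]
  set π := ↥₃(S5318.cyc3 F) with hπ
  have hπd : π.det = 1 := (S5318.cyc3 F).2
  have hdW : (C * π * Ci).det = 1 := by
    rw [Matrix.det_mul, Matrix.det_mul, hπd, mul_one, ← Matrix.det_mul, hCCi, Matrix.det_one]
  have hWU : GU2Two.IsU σ (C * π * Ci) := by
    show (_ : Matrix (Fin 3) (Fin 3) F) = 1
    rw [Matrix.map_mul, Matrix.map_mul, Matrix.transpose_mul, Matrix.transpose_mul, hstar]
    calc (2 : F)⁻¹ • C * ((π.map σ)ᵀ * (C.map σ)ᵀ) * (C * π * Ci)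
        = (2 : F)⁻¹ • (C * ((π.map σ)ᵀ * ((C.map σ)ᵀ * C) * π) * Ci) := by
          simp only [Matrix.smul_mul, Matrix.mul_assoc]
      _ = C * ((π.map σ)ᵀ * π) * Ci := by
          rw [hgram]
          simp only [Matrix.mul_smul, Matrix.smul_mul, Matrix.mul_one, Matrix.one_mul, smul_smul,
            inv_mul_cancel₀ h2, one_smul]
      _ = 1 := by rw [show (π.map σ)ᵀ * π = 1 from isU_cyc, Matrix.mul_one, hCCi]
  let g : G3 := ⟨C * π * Ci, hdW⟩
  have key : ∀ (l m : F) (hl : l ≠ 0) (hm : m ≠ 0),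
      ↥₃(S5318.iota (S5318.kk h2 i hi l m hl hm)) = C * Matrix.diagonal ![l, m, (l * m)⁻¹] * Ci := by
    intro l m hl hm
    have e : ↥₃(S5318.iota (S5318.kk h2 i hi l m hl hm)) * C = C * Matrix.diagonal ![l, m, (l * m)⁻¹] := by
      rw [hC]
      rw [← Matrix.mul_assoc, S5318.iota_kk_eigC, Matrix.mul_assoc, Matrix.mul_assoc]
      congr 1
      rw [Matrix.diagonal_mul_diagonal, Matrix.diagonal_mul_diagonal]
      congr 1
      funext j
      ring
    rw [← e, Matrix.mul_assoc, hCCi, Matrix.mul_one]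
  refine ⟨⟨g, (mem_SU_isU hσq g).2 hWU⟩, mul_inv_eq_of_eq_mul ?_⟩
  refine Subtype.ext (Subtype.ext ?_)
  show C * π * Ci * ↥₃(S5318.iota (S5318.kk h2 i hi 1 u one_ne_zero hu)) =
    ↥₃(S5318.iota (S5318.kk h2 i hi u u⁻¹ hu (inv_ne_zero hu))) * (C * π * Ci)
  rw [key, key, one_mul, mul_inv_cancel₀ hu, inv_one]
  have hpi : π * Matrix.diagonal ![1, u, u⁻¹] = Matrix.diagonal ![u, u⁻¹, 1] * π := by
    show !![0, 1, 0; 0, 0, 1; 1, 0, 0] * _ = _ * !![0, 1, 0; 0, 0, 1; 1, 0, 0]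
    ext a b
    fin_cases a <;> fin_cases b <;> simp [Matrix.mul_apply, Fin.sum_univ_three, Matrix.vecMul, dotProduct]
  calc C * π * Ci * (C * Matrix.diagonal ![1, u, u⁻¹] * Ci)
      = C * (π * (Ci * C) * Matrix.diagonal ![1, u, u⁻¹]) * Ci := by simp only [Matrix.mul_assoc]
    _ = C * (Matrix.diagonal ![u, u⁻¹, 1] * (Ci * C) * π) * Ci := by
        rw [hCiC, Matrix.mul_one, Matrix.mul_one, hpi]
    _ = C * Matrix.diagonal ![u, u⁻¹, 1] * Ci * (C * π * Ci) := by simp only [Matrix.mul_assoc]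

theorem det_split (hσq : ∀ x, σ x = x ^ q) (hodd : q % 2 = 1) (h2 : (2 : F) ≠ 0) {i : F}
    (hi : i * i = -1) (hsi : σ i = i) {u : F} {n : ℕ} (hn : u ^ 2 ^ n = 1) (hu : σ u * u = 1) :
    u = 1 ∨ u = -1 := by
  haveI : Fact (Nat.Prime 2) := ⟨Nat.prime_two⟩
  have hi0 : i ≠ 0 := fun e => by simp [e] at hi
  have h4 : orderOf i = 2 ^ (1 + 1) := orderOf_eq_prime_pow
    (by rw [pow_one, pow_two, hi]; exact fun e => h2 (by linear_combination -e))
    (by rw [show 2 ^ (1 + 1) = 2 * 2 from rfl, pow_mul, pow_two i, hi]; ring)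
  have hiq : i ^ (q - 1) = 1 := by
    have h : i ^ (q - 1) * i = i := by
      rw [← pow_succ, Nat.sub_add_cancel (by omega), ← hσq, hsi]
    exact mul_right_cancel₀ hi0 (h.trans (one_mul i).symm)
  have hdv : 4 ∣ q - 1 := by
    have := orderOf_dvd_of_pow_eq_one hiq
    rwa [h4] at this
  have huq : u ^ (q + 1) = 1 := by rw [pow_succ, ← hσq]; exact hu
  obtain ⟨s, -, hs⟩ := (Nat.dvd_prime_pow Nat.prime_two).1 (orderOf_dvd_of_pow_eq_one hn)
  have hs1 : s ≤ 1 := by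
    by_contra hs2
    have hd : 4 ∣ q + 1 := ((pow_dvd_pow 2 (by omega : 2 ≤ s)).trans hs.symm.dvd).trans
      (orderOf_dvd_of_pow_eq_one huq)
    omega
  refine sq_eq_one_iff.1 ?_
  exact orderOf_dvd_iff_pow_eq_one.1 (hs ▸ (pow_dvd_pow 2 hs1).trans (by rw [pow_one]))

theorem exists_witness [Fintype F] (hq : Fintype.card F = q ^ 2) (hodd : q % 2 = 1) (hσ : IsInvol σ)
    (hσq : ∀ x, σ x = x ^ q) (h2 : (2 : F) ≠ 0) {i : F} (hi : i * i = -1) :
    ∃ t : G2, t ∈ QK F ∧ t ∈ GU2Two.U2 σ ∧ (↥₂ t) 0 0 ≠ 0 ∧ (↥₂ t) 1 0 ≠ 0 := by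
  have hi0 : i ≠ 0 := fun e => by simp [e] at hi
  have hi4 : i ^ 2 ^ 2 = 1 := by rw [show (2 : ℕ) ^ 2 = 2 * 2 from rfl, pow_mul, pow_two i, hi]; ring
  rcases sigma_cases (σ := σ) hi with hsi | hsi
  · have hsq : IsSquare i := by
      have hring : ringChar F ≠ 2 := fun e => h2 (by
        haveI : CharP F 2 := ringChar.of_eq e
        exact CharTwo.two_eq_zero)
      rw [FiniteField.isSquare_iff hring hi0, hq]
      obtain ⟨j, hj⟩ : ∃ j, q = 2 * j + 1 := ⟨q / 2, by omega⟩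
      obtain ⟨t, ht⟩ : ∃ t, j * (j + 1) = 2 * t := (Nat.even_mul_succ_self j).two_dvd
      have e : q ^ 2 / 2 = 4 * t := by
        have : q ^ 2 = 8 * t + 1 := by rw [hj]; linear_combination 4 * ht
        omega
      rw [e, pow_mul, show i ^ 4 = 1 from hi4, one_pow]
    obtain ⟨l, hl⟩ := hsq
    have hl0 : l ≠ 0 := fun e => hi0 (by rw [hl, e, mul_zero])
    have hsl0 : σ l ≠ 0 := fun e => hl0 (by rw [← hσ.invol l, e, map_zero])
    have hl8 : l ^ 2 ^ 3 = 1 := by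
      rw [show (2 : ℕ) ^ 3 = 2 * 2 ^ 2 from rfl, pow_mul, pow_two l, ← hl, hi4]
    set m := (σ l)⁻¹ with hm
    have hm0 : m ≠ 0 := inv_ne_zero hsl0
    have hm8 : m ^ 2 ^ 3 = 1 := by rw [hm, inv_pow, ← map_pow, hl8, map_one, inv_one]
    have hne : ∀ e : F, e * e = 1 → σ l * l ≠ e := by
      intro e he hle
      have h1 : σ i * i = 1 := by rw [hl, map_mul]; linear_combination (σ l * l + e) * hle + he
      rw [hsi, hi] at h1
      exact h2 (by linear_combination -h1)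
    refine ⟨S5318.kk h2 i hi l m hl0 hm0, S5318.kk_mem_QK h2 i hi l m hl0 hm0 hl8 hm8,
      kk_mem_U_split h2 hi hsi hσ hl0 hm0 (mul_inv_cancel₀ hsl0), ?_, ?_⟩
    · rw [S5318.coe_kk]
      simp only [Matrix.cons_val', Matrix.cons_val_zero, Matrix.of_apply]
      intro e
      refine hne (-1) (by ring) ?_
      have e' : l + m = 0 := by
        rcases div_eq_zero_iff.1 e with e | e
        exacts [e, absurd e h2]
      rw [hm] at e'
      field_simp at e'
      linear_combination e'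
    · rw [S5318.coe_kk]
      simp only [Matrix.cons_val', Matrix.cons_val_zero, Matrix.cons_val_one, Matrix.of_apply]
      intro e
      refine hne 1 (by ring) ?_
      have e' : l - m = 0 := by
        rw [neg_eq_zero] at e
        rcases div_eq_zero_iff.1 e with e | e
        exacts [(mul_eq_zero.1 e).resolve_left hi0, absurd e h2]
      rw [hm] at e'
      field_simp at e'
      linear_combination e'
  · refine ⟨S5318.kk h2 i hi 1 i one_ne_zero hi0, S5318.kk_mem_QK h2 i hi 1 i one_ne_zero hi0 (one_pow _) hi4,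
      kk_mem_U_nonsplit h2 hi hsi one_ne_zero hi0 (by rw [map_one, one_mul])
        (by rw [hsi, neg_mul, hi, neg_neg]), ?_, ?_⟩
    · rw [S5318.coe_kk]
      simp only [Matrix.cons_val', Matrix.cons_val_zero, Matrix.of_apply]
      intro e
      rcases div_eq_zero_iff.1 e with e | e
      exacts [h2 (by linear_combination hi - (i - 1) * e), h2 e]
    · rw [S5318.coe_kk]
      simp only [Matrix.cons_val', Matrix.cons_val_zero, Matrix.cons_val_one, Matrix.of_apply]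
      intro e
      rw [neg_eq_zero] at e
      rcases div_eq_zero_iff.1 e with e | e
      · have e' := (mul_eq_zero.1 e).resolve_left hi0
        exact h2 (by linear_combination (i + 1) * e' + hi)
      · exact h2 e

theorem strongly_closed [Fintype F] (hq : Fintype.card F = q ^ 2) (hodd : q % 2 = 1) (hσ : IsInvol σ)
    (hσq : ∀ x, σ x = x ^ q) (h2 : (2 : F) ≠ 0) {i : F} (hi : i * i = -1)
    (T : Subgroup (Cfsg.SU 3 F q))
    (hT : GroupSub.EltClosed ((GU2Two.QsU σ).map (iotaU hσq)) T) :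
    T = ⊥ ∨ T = (GU2Two.QsU σ).map (iotaU hσq) := by
  haveI : Fact (Nat.Prime 2) := ⟨Nat.prime_two⟩
  by_cases hb : T = ⊥
  · exact Or.inl hb
  refine Or.inr (le_antisymm hT.1 ?_)
  haveI : Nontrivial T := (Subgroup.nontrivial_iff_ne_bot _).2 hb
  obtain ⟨k, hk⟩ := IsPGroup.iff_card.1 (((GU2Two.isPGroup_QsU (σ := σ)).map (iotaU hσq)).to_le hT.1)
  have hdT : 2 ∣ Nat.card T := by
    rcases k with _ | k
    · rw [pow_zero] at hk; exact absurd hk Finite.one_lt_card.ne'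
    · exact hk ▸ dvd_pow_self 2 k.succ_ne_zero
  obtain ⟨⟨x, hx⟩, hord⟩ := exists_prime_orderOf_dvd_card' 2 hdT
  rw [Subgroup.orderOf_mk] at hord
  have hxx : x * x = 1 := by
    have h := pow_orderOf_eq_one x
    rw [hord, pow_two] at h
    exact h
  obtain ⟨g₀, hg₀⟩ := invol_conj hσ hσq h2 hxx (fun e => by rw [e, orderOf_one] at hord; omega)
  have hcl : ∀ a b, iotaU hσq a ∈ T → b ∈ GU2Two.QsU σ →
      (∃ g, g * iotaU hσq a * g⁻¹ = iotaU hσq b) → iotaU hσq b ∈ T := by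
    rintro a b ha hb' ⟨g, hg⟩
    exact hg ▸ hT.2 _ ha g (hg.symm ▸ ⟨b, hb', rfl⟩)
  have hinv : ∀ a ∈ GU2Two.QsU σ, a * a = 1 → iotaU hσq a ∈ T := by
    intro a ha haa
    rcases eq_or_ne a 1 with rfl | ha1
    · rw [map_one]; exact T.one_mem
    obtain ⟨g, hg⟩ := invol_conj hσ hσq h2 (x := iotaU hσq a) (by rw [← map_mul, haa, map_one])
      (fun e => ha1 (iotaU_injective hσq (e.trans (map_one (iotaU hσq)).symm)))
    set z := iotaU hσq (zU σ)
    have e : g * g₀⁻¹ * x * (g * g₀⁻¹)⁻¹ = iotaU hσq a := by rw [← hg₀, ← hg]; group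
    exact e ▸ hT.2 x hx _ (e.symm ▸ ⟨a, ha, rfl⟩)
  set e₀ : GU2Two.U2 σ := ⟨eM F, GU2Two.eM_mem⟩ with he0
  have he0sq : e₀ * e₀ = 1 := Subtype.ext (eM_sq F)
  have heQ : e₀ ∈ GU2Two.QsU σ := (GU2Two.mem_QsU (σ := σ) (g := e₀)).2 eM_mem_Qs
  have heT : iotaU hσq e₀ ∈ T := hinv _ heQ he0sq
  have hQK : ∀ a : GU2Two.U2 σ, (a : G2) ∈ QK F → e₀ * a ∈ GU2Two.QsU σ := fun a ha =>
    (GU2Two.mem_QsU (σ := σ) (g := e₀ * a)).2 (mem_Qs.2 (Or.inr (by
      rw [Subgroup.coe_mul, ← mul_assoc, eM_sq, one_mul]; exact ha)))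
  have hcancel : ∀ a, iotaU hσq (e₀ * a) ∈ T → iotaU hσq a ∈ T := by
    intro a ha
    have := T.mul_mem heT ha
    rwa [← map_mul, ← mul_assoc, he0sq, one_mul] at this
  have hsl : ∀ a : GU2Two.U2 σ, (a : G2) ∈ QK F → (↥₂(a : G2)).det = 1 → iotaU hσq a ∈ T := by
    intro a ha hd
    refine hcancel a (hinv _ (hQK a ha) (Subtype.ext (Units.ext ?_)))
    show ↥₂(eM F * a * (eM F * a)) = _
    rw [show eM F * (a : G2) * (eM F * a) = eM F * a * eM F * a by group, conj_eM_mul ha.1, hd, map_one]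
    rfl
  have hgen : ∀ a : GU2Two.U2 σ, (a : G2) ∈ QK F → iotaU hσq a ∈ T := by
    intro a ha
    obtain ⟨n, hn⟩ := ha.2
    set u := (↥₂(a : G2)).det with hudef
    have hu : u ^ 2 ^ n = 1 := by
      rw [hudef, ← Matrix.det_pow, ← Units.val_pow_eq_pow_val, hn, Units.val_one, Matrix.det_one]
    have hNu : σ u * u = 1 := GU2Two.det_norm a.2
    have hu0 : u ≠ 0 := right_ne_zero_of_mul_eq_one hNu
    rcases sigma_cases (σ := σ) hi with hsi | hsi
    · rcases det_split hσq hodd h2 hi hsi hu hNu with hd | hd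
      · exact hsl a ha hd
      refine hcancel a ?_
      have hwd : (↥₂((e₀ * a : GU2Two.U2 σ) : G2)).det = 1 := by
        rw [Subgroup.coe_mul, Units.val_mul, Matrix.det_mul, ← hudef, hd, he0, coe_eM, det_fin_two_of]
        ring
      have hwt : (↥₂((e₀ * a : GU2Two.U2 σ) : G2)) 1 1 = -(↥₂((e₀ * a : GU2Two.U2 σ) : G2)) 0 0 := by
        obtain ⟨k1, -⟩ := mem_cJ.1 ha.1
        simp [he0, Matrix.mul_apply, Matrix.vecMul, dotProduct, Fin.sum_univ_two, k1]
      obtain ⟨Q, hQU, hQ⟩ := GU2Two.conj_J_in_U2 hσ h2 hi (e₀ * a).2 hwd hwt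
      refine hcl ⟨GroupSub.GL2Two.J F, GU2Two.J_mem⟩ _ (hsl _ J_mem_QK (by simp [det_fin_two_of]))
        (hQK a ha) ⟨iotaU hσq ⟨Q, hQU⟩, ?_⟩
      rw [← map_inv, ← map_mul, ← map_mul]
      exact congrArg _ (Subtype.ext hQ)
    · have hm1 := kk_mem_U_nonsplit h2 hi hsi one_ne_zero hu0 (by rw [map_one, one_mul]) hNu
      have hm2 := kk_mem_U_nonsplit h2 hi hsi hu0 (inv_ne_zero hu0) hNu
        (by rw [map_inv₀, ← mul_inv, hNu, inv_one])
      have hk1 := S5318.kk_mem_QK h2 i hi 1 u one_ne_zero hu0 (one_pow _) hu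
      have hk2 := S5318.kk_mem_QK h2 i hi u u⁻¹ hu0 (inv_ne_zero hu0) hu (by rw [inv_pow, hu, inv_one])
      have hT1 : iotaU hσq ⟨_, hm2⟩ ∈ T := hsl _ hk2 (by rw [S5318.det_kk, mul_inv_cancel₀ hu0])
      obtain ⟨g, hg⟩ := kk_conjU hσ hσq h2 hi hsi hu0 hm1 hm2
      set k₁ : GU2Two.U2 σ := ⟨_, hm1⟩
      have hT2 : iotaU hσq k₁ ∈ T :=
        hcl _ k₁ hT1 ((GU2Two.mem_QsU (σ := σ) (g := k₁)).2 (mem_Qs.2 (Or.inl hk1)))
          ⟨g⁻¹, by rw [← hg]; group⟩
      have hq' : iotaU hσq (k₁⁻¹ * a) ∈ T := by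
        refine hsl _ (mul_mem (inv_mem hk1) ha) ?_
        have e : (↥₂(k₁ : G2)).det * (↥₂((k₁⁻¹ * a : GU2Two.U2 σ) : G2)).det = u := by
          rw [← Matrix.det_mul, ← Units.val_mul, ← Subgroup.coe_mul, mul_inv_cancel_left]
        rw [S5318.det_kk, one_mul] at e
        exact mul_left_cancel₀ hu0 (e.trans (mul_one u).symm)
      have := T.mul_mem hT2 hq'
      rwa [← map_mul, mul_inv_cancel_left] at this
  rintro _ ⟨a, ha, rfl⟩
  rcases mem_Qs.1 ((GU2Two.mem_QsU (σ := σ) (g := a)).1 ha) with ha | ha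
  · exact hgen a ha
  · exact hcancel a (hgen _ (by rw [Subgroup.coe_mul]; exact ha))

theorem normalizer_le [Fintype F] (hq : Fintype.card F = q ^ 2) (hodd : q % 2 = 1) (hσ : IsInvol σ)
    (hσq : ∀ x, σ x = x ^ q) (h2 : (2 : F) ≠ 0) {i : F} (hi : i * i = -1) :
    Subgroup.normalizer (((GU2Two.QsU σ).map (iotaU hσq) : Subgroup (Cfsg.SU 3 F q)) : Set (Cfsg.SU 3 F q)) ≤
      (GU2Two.QsU σ).map (iotaU hσq) ⊔
        Subgroup.centralizer (((GU2Two.QsU σ).map (iotaU hσq) : Subgroup (Cfsg.SU 3 F q)) : Set (Cfsg.SU 3 F q)) := by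
  intro g hg
  set z := iotaU hσq (zU σ) with hz
  obtain ⟨x, hxQ, hx⟩ : g * z * g⁻¹ ∈ (GU2Two.QsU σ).map (iotaU hσq) :=
    (Subgroup.mem_normalizer_iff.1 hg _).1 ⟨_, zU_mem, rfl⟩
  have hzc : ∀ a : GU2Two.U2 σ, zU σ * a = a * zU σ := fun a => by
    refine Subtype.ext (Units.ext ?_)
    rw [Subgroup.coe_mul, Subgroup.coe_mul, coe_zU, Units.val_mul, Units.val_mul, S5318.coe_zG,
      neg_one_mul, mul_neg_one]
  have hxc : ∀ a ∈ GU2Two.QsU σ, x * a = a * x := by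
    intro a ha
    refine iotaU_injective hσq ?_
    obtain ⟨b, hb, hb'⟩ : g⁻¹ * iotaU hσq a * (g⁻¹)⁻¹ ∈ (GU2Two.QsU σ).map (iotaU hσq) :=
      (Subgroup.mem_normalizer_iff.1 (Subgroup.inv_mem _ hg) _).1 ⟨a, ha, rfl⟩
    have e : iotaU hσq a = g * iotaU hσq b * g⁻¹ := by rw [hb']; group
    rw [map_mul, map_mul, hx, e]
    calc g * z * g⁻¹ * (g * iotaU hσq b * g⁻¹) = g * (z * iotaU hσq b) * g⁻¹ := by group
      _ = g * (iotaU hσq b * z) * g⁻¹ := by rw [hz, ← map_mul, hzc, map_mul]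
      _ = g * iotaU hσq b * g⁻¹ * (g * z * g⁻¹) := by group
  have hJ : (⟨GroupSub.GL2Two.J F, GU2Two.J_mem⟩ : GU2Two.U2 σ) ∈ GU2Two.QsU σ :=
    (GU2Two.mem_QsU (σ := σ) (g := (⟨GroupSub.GL2Two.J F, GU2Two.J_mem⟩ : GU2Two.U2 σ))).2
      (mem_Qs.2 (Or.inl J_mem_QK))
  have he : (⟨eM F, GU2Two.eM_mem⟩ : GU2Two.U2 σ) ∈ GU2Two.QsU σ :=
    (GU2Two.mem_QsU (σ := σ) (g := (⟨eM F, GU2Two.eM_mem⟩ : GU2Two.U2 σ))).2 eM_mem_Qs
  obtain ⟨r, hr⟩ := scalar_of_comm h2 (congrArg Subtype.val (hxc _ hJ)) (congrArg Subtype.val (hxc _ he))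
  have hxx : x * x = 1 := by
    refine iotaU_injective hσq ?_
    rw [map_mul, hx, show g * z * g⁻¹ * (g * z * g⁻¹) = g * (z * z) * g⁻¹ by group, hz, ← map_mul,
      show zU σ * zU σ = 1 from Subtype.ext S5318.zG_sq, map_one, mul_one, mul_inv_cancel]
  have hr2 : r ^ 2 = 1 := by
    have h := congrFun (congrFun (congrArg (fun A : GU2Two.U2 σ => ↥₂(A : G2)) hxx) 0) 0
    simp only [Subgroup.coe_mul, Units.val_mul, hr] at h
    simp at h
    rw [pow_two]; exact h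
  have hxz : x = zU σ := by
    rcases sq_eq_one_iff.1 hr2 with rfl | rfl
    · exfalso
      have h1 : x = 1 := Subtype.ext (Units.ext (by rw [hr, map_one]; rfl))
      rw [h1, map_one] at hx
      refine zU_ne h2 (iotaU_injective hσq ?_)
      have hx' := hx.symm
      rw [map_one]
      simpa [hz] using hx'
    · exact Subtype.ext (Units.ext (by rw [hr, map_neg, map_one, coe_zU, S5318.coe_zG]))
  rw [hxz, ← hz] at hx
  obtain ⟨A, rfl⟩ := exists_iotaU_of_comm hσq h2 (x := g) (mul_inv_eq_iff_eq_mul.1 hx.symm)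
  have hA : A ∈ Subgroup.normalizer (GU2Two.QsU σ : Set (GU2Two.U2 σ)) := by
    refine GroupSub.mem_normalizer_of_cj_le ?_
    rintro _ ⟨p, hp, rfl⟩
    show A * p * A⁻¹ ∈ GU2Two.QsU σ
    obtain ⟨p', hp', e⟩ := (Subgroup.mem_normalizer_iff.1 hg (iotaU hσq p)).1 ⟨p, hp, rfl⟩
    rw [← map_inv, ← map_mul, ← map_mul] at e
    rw [← iotaU_injective hσq e]; exact hp'
  obtain ⟨t, htK, htU, hta, htb⟩ := exists_witness hq hodd hσ hσq h2 hi
  obtain ⟨a, c, rfl, ha, hc⟩ := GU2Two.normalizer_QsU h2 htK htU hta htb A hA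
  rw [map_mul]
  refine Subgroup.mul_mem_sup ⟨a, ha, rfl⟩ ?_
  rintro _ ⟨p, -, rfl⟩
  rw [← map_mul, ← map_mul]
  exact congrArg _ (Subtype.ext (Subgroup.mem_center_iff.1 hc p))

end

/-- Let q be an odd prime power and F a field with q² elements. Then the 2-fusion system of PSU(3,q) (realised as the special unitary group of the standard Hermitian form over F modulo its centre) on a Sylow 2-subgroup is simple. -/
theorem result {F : Type*} [Field F] [Fintype F] (q : ℕ) (hq : Fintype.card F = q ^ 2) (hodd : q % 2 = 1) (S : Sylow 2 (Cfsg.PSU 3 F q)) :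
    (Cfsg.groupFusionSystem (S : Subgroup (Cfsg.PSU 3 F q))).IsSimple 2 := by
  have h2 : (2 : F) ≠ 0 := two_ne (q := q) hq hodd
  haveI : Fact (Nat.Prime 2) := ⟨Nat.prime_two⟩
  obtain ⟨σ, hσq, hσ, -, -⟩ := Classical.exists_powHom (F := F) hq
  obtain ⟨i, hi⟩ := exists_i (q := q) hq hodd h2
  obtain ⟨P, hP⟩ := exists_sylow hσ hσq h2 hi
  refine GroupSub.isSimple_of_quotient (QuotientGroup.mk' _) (QuotientGroup.mk'_surjective _)
    (le_of_eq (QuotientGroup.ker_mk' _)) (center_card_coprime hσ hσq h2) P ?_ ?_ ?_ S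
  · rw [hP]
    intro h
    have hz : iotaU hσq (zU σ) ∈ (GU2Two.QsU σ).map (iotaU hσq) := ⟨_, zU_mem, rfl⟩
    rw [h, Subgroup.mem_bot] at hz
    exact zU_ne h2 (iotaU_injective hσq (hz.trans (map_one (iotaU hσq)).symm))
  · rw [hP]; exact strongly_closed hq hodd hσ hσq h2 hi
  · rw [hP]; exact normalizer_le hq hodd hσ hσq h2 hi

end Cfsg.Agent.S5319
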