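import Cfsg.Statements.S1218
-- import your own Cfsg.Agent.* helpers here

import Cfsg.Agent.S1217
import Cfsg.Agent.S5319

set_option autoImplicit false
open scoped MatrixGroups
open Cfsg

namespace Cfsg.Agent.S1218

open Matrix GroupSub GroupSub.GL2Two GroupSub.GL2Shape

section

variable {F : Type*} [Field F] {σ : F →+* F}

local notation "G2" => GL (Fin 2) F
local notation:1024 "↥ₘ" A:1024 => ((A : GL (Fin 2) F) : Matrix (Fin 2) (Fin 2) F)

theorem preserving_eq {q : ℕ} (hσ : Cfsg.Agent.Classical.Herm.IsInvol σ) (hσq : ∀ x, σ x = x ^ q) :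
    Cfsg.preserving (Units.coeHom (Matrix (Fin 2) (Fin 2) F)) (Cfsg.hermForm 2 F q) = GU2Two.U2 σ := by
  ext g
  have hfm : ∀ u v : Fin 2 → F, Cfsg.hermForm 2 F q u v = σ (GU2Two.fm σ u v) := by
    intro u v
    simp only [GU2Two.fm, map_add, map_mul, hσ.invol]
    simp [Cfsg.hermForm, Fin.sum_univ_two, hσq]
  constructor
  · intro h
    have h' : ∀ u v, GU2Two.fm σ (↥ₘ g *ᵥ u) (↥ₘ g *ᵥ v) = GU2Two.fm σ u v := fun u v => by
      have := h u v
      rw [hfm, hfm] at this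
      exact σ.injective this
    rw [GU2Two.mem_U2, GU2Two.IsU]
    have h00 := h' ![1, 0] ![1, 0]
    have h01 := h' ![1, 0] ![0, 1]
    have h10 := h' ![0, 1] ![1, 0]
    have h11 := h' ![0, 1] ![0, 1]
    simp [GU2Two.fm, Matrix.mulVec, dotProduct, Fin.sum_univ_two] at h00 h01 h10 h11
    ext a b
    fin_cases a <;> fin_cases b <;> simp [Matrix.mul_apply, Fin.sum_univ_two] <;> assumption
  · intro h u v
    show Cfsg.hermForm 2 F q (↥ₘ g *ᵥ u) (↥ₘ g *ᵥ v) = _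
    rw [hfm, hfm, GU2Two.fm_mulVec h]

theorem mem_U2_cJ {k : G2} (hk : k ∈ cJ F) : k ∈ GU2Two.U2 σ ↔
    σ ((↥ₘ k) 0 0) * (↥ₘ k) 0 0 + σ ((↥ₘ k) 1 0) * (↥ₘ k) 1 0 = 1 ∧
      σ ((↥ₘ k) 1 0) * (↥ₘ k) 0 0 = σ ((↥ₘ k) 0 0) * (↥ₘ k) 1 0 := by
  obtain ⟨k1, k2⟩ := mem_cJ.1 hk
  rw [GU2Two.mem_U2, GU2Two.IsU]
  constructor
  · intro h
    have h00 := congrFun (congrFun h 0) 0
    have h01 := congrFun (congrFun h 0) 1
    simp [Matrix.mul_apply, Fin.sum_univ_two, k1, k2] at h00 h01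
    exact ⟨h00, by linear_combination h01⟩
  · rintro ⟨h, h'⟩
    ext a b
    fin_cases a <;> fin_cases b <;> simp [Matrix.mul_apply, Fin.sum_univ_two, k1, k2] <;>
      first
        | linear_combination h
        | linear_combination h'
        | linear_combination -h'

theorem eig_fixed {i : F} (hi : i * i = -1) (hs : σ i = i) {k : G2} (hk : k ∈ cJ F) (hkU : k ∈ GU2Two.U2 σ) :
    σ (eig (RingHom.id F) i k) * eig (RingHom.id F) (-i) k = 1 := by
  obtain ⟨e1, e2⟩ := (mem_U2_cJ hk).1 hkU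
  simp only [eig, RingHom.id_apply, map_add, map_mul, hs]
  linear_combination e1 + i * e2 - σ ((↥ₘ k) 1 0) * (↥ₘ k) 1 0 * hi

theorem eig_flip {i : F} (hi : i * i = -1) (hs : σ i = -i) {k : G2} (hk : k ∈ cJ F) (hkU : k ∈ GU2Two.U2 σ) :
    σ (eig (RingHom.id F) i k) * eig (RingHom.id F) i k = 1 := by
  obtain ⟨e1, e2⟩ := (mem_U2_cJ hk).1 hkU
  simp only [eig, RingHom.id_apply, map_add, map_mul, hs]
  linear_combination e1 - i * e2 - σ ((↥ₘ k) 1 0) * (↥ₘ k) 1 0 * hi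

theorem mem_of_fixed (h2 : (2 : F) ≠ 0) {i : F} (hi : i * i = -1) (hs : σ i = i) {k : G2} (hk : k ∈ cJ F)
    (h : σ (eig (RingHom.id F) i k) * eig (RingHom.id F) (-i) k = 1)
    (h' : σ (eig (RingHom.id F) (-i) k) * eig (RingHom.id F) i k = 1) : k ∈ GU2Two.U2 σ := by
  simp only [eig, RingHom.id_apply, map_add, map_mul, map_neg, hs] at h h'
  have hi0 : i ≠ 0 := fun e => by simp [e] at hi
  exact (mem_U2_cJ hk).2 ⟨mul_left_cancel₀ h2 (by
      linear_combination h + h' + 2 * (σ ((↥ₘ k) 1 0) * (↥ₘ k) 1 0) * hi),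
    mul_left_cancel₀ (mul_ne_zero h2 hi0) (by linear_combination h - h')⟩

theorem mem_of_flip (h2 : (2 : F) ≠ 0) {i : F} (hi : i * i = -1) (hs : σ i = -i) {k : G2} (hk : k ∈ cJ F)
    (h : σ (eig (RingHom.id F) i k) * eig (RingHom.id F) i k = 1)
    (h' : σ (eig (RingHom.id F) (-i) k) * eig (RingHom.id F) (-i) k = 1) : k ∈ GU2Two.U2 σ := by
  simp only [eig, RingHom.id_apply, map_add, map_mul, map_neg, hs] at h h'
  have hi0 : i ≠ 0 := fun e => by simp [e] at hi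
  exact (mem_U2_cJ hk).2 ⟨mul_left_cancel₀ h2 (by
      linear_combination h + h' + 2 * (σ ((↥ₘ k) 1 0) * (↥ₘ k) 1 0) * hi),
    mul_left_cancel₀ (mul_ne_zero h2 hi0) (by linear_combination -h + h')⟩

/-- The norm-one group. -/
def normOne (σ : F →+* F) : Subgroup Fˣ where
  carrier := {u | σ (u : F) * u = 1}
  one_mem' := by simp
  mul_mem' := by
    intro a b (ha : σ (a : F) * a = 1) (hb : σ (b : F) * b = 1)
    show σ ((a * b : Fˣ) : F) * (a * b : Fˣ) = 1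
    rw [Units.val_mul, map_mul]; linear_combination σ (b : F) * b * ha + hb
  inv_mem' := by
    intro a (ha : σ (a : F) * a = 1)
    show σ ((a⁻¹ : Fˣ) : F) * (a⁻¹ : Fˣ) = 1
    rw [Units.val_inv_eq_inv_val, map_inv₀, ← mul_inv, ha, inv_one]

theorem range_eq {P : Type*} [Group P] (e : P ≃* GU2Two.QsU σ) :
    (((GU2Two.U2 σ).subtype.comp (GU2Two.QsU σ).subtype).comp e.toMonoidHom).range =
      GL2Shape.syl (GU2Two.U2 σ) := by
  ext g
  constructor
  · rintro ⟨p, rfl⟩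
    exact ⟨GU2Two.mem_QsU.1 (e p).2, ((e p : GU2Two.QsU σ) : GU2Two.U2 σ).2⟩
  · rintro ⟨hg, hgU⟩
    exact ⟨e.symm ⟨⟨g, hgU⟩, GU2Two.mem_QsU.2 hg⟩, by simp⟩

/-- The quasi-dihedral case of the theorem. -/
theorem quasi [Fintype F] {q : ℕ} (hF : Fintype.card F = q ^ 2) (hσq : ∀ x, σ x = x ^ q) (h2 : (2 : F) ≠ 0)
    (h1 : q % 4 = 1) {i : F} (hi : i * i = -1) {P : Type*} [Group P] (e : P ≃* GU2Two.QsU σ) :
    Cfsg.IsQuasiDihedral P := by
  obtain ⟨j, rfl⟩ : ∃ j, q = 4 * j + 1 := ⟨q / 4, by omega⟩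
  have hs : σ i = i := by
    rw [hσq, pow_succ, pow_mul, show i ^ 4 = 1 by linear_combination (i * i - 1) * hi, one_pow, one_mul]
  refine GL2Shape.isQuasiDihedral (GU2Two.U2 σ) h2 GU2Two.eM_mem GU2Two.J_mem (RingHom.id F) hi ?_ ?_ ?_
    (((GU2Two.U2 σ).subtype.comp (GU2Two.QsU σ).subtype).comp e.toMonoidHom)
    ((Subtype.val_injective.comp Subtype.val_injective).comp e.injective) (range_eq e)
  · intro k hk he
    refine eig_ext h2 hi hk.1.1 (one_mem _) (by rw [he, eig_one]) ?_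
    have h := eig_fixed hi hs hk.1.1 hk.2
    rw [he, map_one, one_mul] at h
    rw [h, eig_one]
  · intro k hk
    obtain ⟨m, hm⟩ := hk.1.2
    have hn := GU2Two.det_norm hk.2
    set d := (↥ₘ k).det
    have hd : d ^ 2 ^ m = 1 := by
      rw [← Matrix.det_pow, ← Units.val_pow_eq_pow_val, hm, Units.val_one, Matrix.det_one]
    rw [hσq, ← pow_succ] at hn
    have hg : d ^ Nat.gcd (2 ^ m) (4 * j + 1 + 1) = 1 := pow_gcd_eq_one.2 ⟨hd, hn⟩
    have hdvd : Nat.gcd (2 ^ m) (4 * j + 1 + 1) ∣ 2 := by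
      have hco : Nat.Coprime (2 ^ m) (2 * j + 1) :=
        Nat.Coprime.pow_left m (Nat.coprime_two_left.2 ⟨j, rfl⟩)
      rw [show 4 * j + 1 + 1 = 2 * (2 * j + 1) by ring, Nat.Coprime.gcd_mul_right_cancel_right 2 hco.symm]
      exact Nat.gcd_dvd_right _ _
    obtain ⟨c, hc⟩ := hdvd
    have : d ^ 2 = 1 := by rw [hc, pow_mul, hg, one_pow]
    exact sq_eq_one_iff.1 this
  · obtain ⟨g, hg⟩ := IsCyclic.exists_generator (α := Fˣ)
    have hcard : orderOf g = (4 * j + 1) ^ 2 - 1 := by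
      rw [orderOf_eq_card_of_forall_mem_zpowers hg, Nat.card_units, Nat.card_eq_fintype_card, hF]
    obtain ⟨t, m, hmodd, htm⟩ := Nat.exists_eq_pow_mul_and_not_dvd
      (show (4 * j + 1) ^ 2 - 1 ≠ 0 by
        rw [← hcard]; exact (orderOf_pos g).ne') 2 (by norm_num)
    set u : Fˣ := g ^ m with hu
    have hu2 : u ^ 2 ^ t = 1 := by rw [hu, ← pow_mul, mul_comm, ← htm, ← hcard, pow_orderOf_eq_one]
    have hneq : σ (u : F) ≠ u := by
      rw [hσq]
      intro e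
      have h1 : u ^ (4 * j) = 1 := by
        refine Units.ext ?_
        rw [Units.val_pow_eq_pow_val, Units.val_one]
        refine mul_right_cancel₀ u.ne_zero ?_
        rw [← pow_succ, e, one_mul]
      rw [hu, ← pow_mul, ← orderOf_dvd_iff_pow_eq_one, hcard, htm] at h1
      have hm0 : 0 < m := Nat.pos_of_ne_zero fun h => hmodd (by simp [h])
      have h3 : 2 ^ t ∣ 4 * j := Nat.dvd_of_mul_dvd_mul_left hm0 (by rwa [mul_comm m (2 ^ t)])
      have h4 : 2 ^ t * 2 ∣ (4 * j) * (4 * j + 2) := Nat.mul_dvd_mul h3 ⟨2 * j + 1, by ring⟩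
      have h5 : 2 ^ t * m = (4 * j) * (4 * j + 2) := by
        rw [← htm]; ring_nf; omega
      rw [← h5] at h4
      exact hmodd (Nat.dvd_of_mul_dvd_mul_left (by positivity) h4)
    have hu0 : (σ (u : F))⁻¹ ≠ 0 := inv_ne_zero ((map_ne_zero σ).2 u.ne_zero)
    set k := S5318.kk h2 i hi (u : F) (σ (u : F))⁻¹ u.ne_zero hu0 with hk
    obtain ⟨e1, e2⟩ := eig_kk h2 i hi (u : F) (σ (u : F))⁻¹ u.ne_zero hu0
    rw [← hk] at e1 e2
    have hkc : k ∈ cJ F := S5318.kk_mem_cJ _ _ _ _ _ _ _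
    have hσσ : σ (σ (u : F)) = u := by
      rw [hσq, hσq, ← pow_mul, ← pow_two, ← hF, FiniteField.pow_card]
    refine ⟨k, ⟨?_, mem_of_fixed h2 hi hs hkc ?_ ?_⟩, ?_⟩
    · refine S5318.kk_mem_QK h2 i hi _ _ _ _ (s := t) ?_ ?_
      · rw [← Units.val_pow_eq_pow_val, hu2, Units.val_one]
      · rw [inv_pow, ← map_pow, ← Units.val_pow_eq_pow_val, hu2, Units.val_one, map_one, inv_one]
    · rw [e1, e2, mul_inv_cancel₀ ((map_ne_zero σ).2 u.ne_zero)]
    · rw [e1, e2, map_inv₀, hσσ, inv_mul_cancel₀ u.ne_zero]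
    · rw [hk, S5318.det_kk, ← div_eq_mul_inv, Ne, div_eq_one_iff_eq ((map_ne_zero σ).2 u.ne_zero)]
      exact Ne.symm hneq

/-- The wreathed case of the theorem. -/
theorem wreathed [Fintype F] {q : ℕ} (hσq : ∀ x, σ x = x ^ q) (h2 : (2 : F) ≠ 0)
    (h3 : q % 4 = 3) {i : F} (hi : i * i = -1) {P : Type*} [Group P] (e : P ≃* GU2Two.QsU σ) :
    Cfsg.IsWreathed P := by
  obtain ⟨j, rfl⟩ : ∃ j, q = 4 * j + 3 := ⟨q / 4, by omega⟩
  have hs : σ i = -i := by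
    rw [hσq, pow_add, pow_mul, show i ^ 4 = 1 by linear_combination (i * i - 1) * hi, one_pow, one_mul]
    linear_combination i * hi
  have hs' : σ (-i) = -(-i) := by rw [map_neg, hs]
  have hi0 : i ≠ 0 := fun e => by simp [e] at hi
  have hi' : (-i) * (-i) = -1 := by rw [neg_mul_neg, hi]
  refine GL2Shape.isWreathed (GU2Two.U2 σ) h2 GU2Two.eM_mem i hi (S1217.tors2 (normOne σ))
    (S1217.isPGroup_tors2 _) ⟨Units.mk0 i hi0, ⟨?_, 2, Units.ext ?_⟩, rfl⟩ ?_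
    (((GU2Two.U2 σ).subtype.comp (GU2Two.QsU σ).subtype).comp e.toMonoidHom)
    ((Subtype.val_injective.comp Subtype.val_injective).comp e.injective) (range_eq e)
  · show σ ((Units.mk0 i hi0 : Fˣ) : F) * (Units.mk0 i hi0 : Fˣ) = 1
    rw [Units.val_mk0, hs]; linear_combination -hi
  · rw [Units.val_pow_eq_pow_val, Units.val_mk0, Units.val_one, show (2 : ℕ) ^ 2 = 2 * 2 from rfl, pow_mul,
      pow_two i, hi, neg_one_sq]
  · intro k hk
    constructor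
    · rintro ⟨hkU, m, hm⟩
      obtain ⟨u, hu, hu'⟩ := S1217.eig_pow_one hi hk hm
      obtain ⟨v, hv, hv'⟩ := S1217.eig_pow_one hi' hk hm
      exact ⟨⟨u, ⟨by show σ (u : F) * u = 1; rw [hu']; exact eig_flip hi hs hk hkU, m, hu⟩, hu'⟩,
        v, ⟨by show σ (v : F) * v = 1; rw [hv']; exact eig_flip hi' hs' hk hkU, m, hv⟩, hv'⟩
    · rintro ⟨⟨u, ⟨hun, a, hu⟩, hu'⟩, v, ⟨hvn, b, hv⟩, hv'⟩
      refine ⟨mem_of_flip h2 hi hs hk ?_ ?_, a + b, S1217.pow_one_of_eig h2 hi hk hu hv hu' hv'⟩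
      · rw [← hu']; exact hun
      · rw [← hv']; exact hvn

end


/-- Let F be a finite field with q² elements, q odd, let GU be the subgroup of GL(2,F) preserving the Hermitian form u₁v₁^q + u₂v₂^q, and P a Sylow 2-subgroup of GU. If q ≡ 1 (mod 4) then P is quasi-dihedral; if q ≡ 3 (mod 4) then P is wreathed. -/
theorem result {F : Type*} [Field F] [Fintype F] (q : ℕ) (hF : Fintype.card F = q ^ 2) (hq : Odd q) (P : Sylow 2 ↥(Cfsg.preserving (Units.coeHom (Matrix (Fin 2) (Fin 2) F)) (Cfsg.hermForm 2 F q))) : (q % 4 = 1 → Cfsg.IsQuasiDihedral (P : Subgroup ↥(Cfsg.preserving (Units.coeHom (Matrix (Fin 2) (Fin 2) F)) (Cfsg.hermForm 2 F q)))) ∧ (q % 4 = 3 → Cfsg.IsWreathed (P : Subgroup ↥(Cfsg.preserving (Units.coeHom (Matrix (Fin 2) (Fin 2) F)) (Cfsg.hermForm 2 F q)))) := by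
  haveI : Fact (Nat.Prime 2) := ⟨Nat.prime_two⟩
  have hodd : q % 2 = 1 := Nat.odd_iff.1 hq
  have h2 : (2 : F) ≠ 0 := S5319.two_ne (q := q) hF hodd
  obtain ⟨σ, hσq, hσ, -, -⟩ := Classical.exists_powHom (F := F) hF
  obtain ⟨i, hi⟩ := S5319.exists_i (q := q) hF hodd h2
  have heq := preserving_eq hσ hσq
  revert P
  rw [heq]
  intro P
  obtain ⟨Q, hQ⟩ := GU2Two.exists_sylow_eq_QsU (σ := σ) hσ h2 hi
  have e : (P : Subgroup (GU2Two.U2 σ)) ≃* GU2Two.QsU σ :=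
    (Sylow.equiv P Q).trans (MulEquiv.subgroupCongr hQ)
  exact ⟨fun h => quasi hF hσq h2 h hi e, fun h => wreathed hσq h2 h hi e⟩

end Cfsg.Agent.S1218
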