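import Cfsg.Statements.S1219
-- import your own Cfsg.Agent.* helpers here

import Cfsg.Agent.S5318

set_option autoImplicit false
open scoped MatrixGroups
open Cfsg

namespace Cfsg.Agent.S1219

open GroupSub

theorem lift_invol {F : Type*} [Field F] (t : Matrix.ProjectiveSpecialLinearGroup (Fin 3) F) (ht : t * t = 1) :
    ∃ x : Matrix.SpecialLinearGroup (Fin 3) F, QuotientGroup.mk' (Subgroup.center _) x = t ∧ x * x = 1 := by
  obtain ⟨y, rfl⟩ := QuotientGroup.mk'_surjective (Subgroup.center (Matrix.SpecialLinearGroup (Fin 3) F)) t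
  have hc : y * y ∈ Subgroup.center _ := (QuotientGroup.eq_one_iff _).1 ht
  obtain ⟨r, hr, hrc⟩ := Matrix.SpecialLinearGroup.mem_center_iff.1 hc
  rw [Fintype.card_fin] at hr
  refine ⟨y * (y * y), ?_, ?_⟩
  · rw [map_mul, show QuotientGroup.mk' _ (y * y) = 1 from (QuotientGroup.eq_one_iff _).2 hc, mul_one]
  · rw [show y * (y * y) * (y * (y * y)) = (y * y) * ((y * y) * (y * y)) by group]
    refine Subtype.ext ?_
    rw [Matrix.SpecialLinearGroup.coe_mul, Matrix.SpecialLinearGroup.coe_mul (y * y), ← hrc,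
      Matrix.SpecialLinearGroup.coe_one, ← map_mul, ← map_mul, ← map_one (Matrix.scalar (Fin 3))]
    congr 1
    linear_combination hr


/-- Let F be a finite field of odd order q and t an involution of PSL(3,F). Then C(t) is isomorphic to the quotient of GL(2,F) by a central subgroup of order gcd(q−1, 3). -/
theorem result {F : Type*} [Field F] [Fintype F] (hF : Odd (Fintype.card F)) (t : Matrix.ProjectiveSpecialLinearGroup (Fin 3) F) (ht : orderOf t = 2) : ∃ (Z : Subgroup (GL (Fin 2) F)) (_ : Z.Normal), Z ≤ Subgroup.center (GL (Fin 2) F) ∧ Nat.card Z = Nat.gcd (Fintype.card F - 1) 3 ∧ Nonempty (↥(Subgroup.centralizer ({t} : Set (Matrix.ProjectiveSpecialLinearGroup (Fin 3) F))) ≃* GL (Fin 2) F ⧸ Z) := by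
  have h2 : (2 : F) ≠ 0 := S5318.two_ne_zero' (Nat.odd_iff.1 hF)
  set π := QuotientGroup.mk' (Subgroup.center (Matrix.SpecialLinearGroup (Fin 3) F)) with hπ
  have htt : t * t = 1 := by rw [← pow_two, ← ht]; exact pow_orderOf_eq_one t
  obtain ⟨x, hxt, hxx⟩ := lift_invol t htt
  have hx1 : x ≠ 1 := by
    rintro rfl
    rw [map_one] at hxt
    rw [← hxt, orderOf_one] at ht
    omega
  obtain ⟨g, hg⟩ := S5318.invol_conj h2 hxx hx1
  set d := S5318.iota (S5318.zG F) with hd
  have hdd : d * d = 1 := by rw [hd, ← map_mul, S5318.zG_sq, map_one]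
  set γ := π g with hγ
  have hgt : γ * π d * γ⁻¹ = t := by rw [hγ, ← map_inv, ← map_mul, ← map_mul, hg, hxt]
  have hmem : ∀ a : GL (Fin 2) F, γ * π (S5318.iota a) * γ⁻¹ ∈ Subgroup.centralizer ({t} : Set _) := by
    intro a
    rw [Subgroup.mem_centralizer_singleton_iff, ← hgt]
    have e : π (S5318.iota a) * π d = π d * π (S5318.iota a) := by
      rw [hd, ← map_mul, ← map_mul, ← map_mul, ← map_mul]
      congr 2
      refine Units.ext ?_
      rw [Units.val_mul, Units.val_mul, S5318.coe_zG, mul_neg_one, neg_one_mul]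
    calc γ * π (S5318.iota a) * γ⁻¹ * (γ * π d * γ⁻¹) = γ * (π (S5318.iota a) * π d) * γ⁻¹ := by group
      _ = γ * (π d * π (S5318.iota a)) * γ⁻¹ := by rw [e]
      _ = γ * π d * γ⁻¹ * (γ * π (S5318.iota a) * γ⁻¹) := by group
  let φ : GL (Fin 2) F →* ↥(Subgroup.centralizer ({t} : Set (Matrix.ProjectiveSpecialLinearGroup (Fin 3) F))) :=
    (((MulAut.conj γ).toMonoidHom.comp π).comp S5318.iota).codRestrict _ hmem
  have hφ : Function.Surjective φ := by
    rintro ⟨u, hu⟩
    obtain ⟨h, hh⟩ := QuotientGroup.mk'_surjective (Subgroup.center _) (γ⁻¹ * u * γ)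
    rw [Subgroup.mem_centralizer_singleton_iff, ← hgt] at hu
    have e : π (h * d * h⁻¹ * d⁻¹) = 1 := by
      rw [map_mul, map_mul, map_mul, map_inv, map_inv, hπ, hh, ← hπ]
      calc γ⁻¹ * u * γ * π d * (γ⁻¹ * u * γ)⁻¹ * (π d)⁻¹
          = γ⁻¹ * (u * (γ * π d * γ⁻¹)) * u⁻¹ * γ * (π d)⁻¹ := by group
        _ = γ⁻¹ * ((γ * π d * γ⁻¹) * u) * u⁻¹ * γ * (π d)⁻¹ := by rw [hu]
        _ = 1 := by group
    have hc := (QuotientGroup.eq_one_iff _).1 e
    obtain ⟨r, hr, hrc⟩ := Matrix.SpecialLinearGroup.mem_center_iff.1 hc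
    rw [Fintype.card_fin] at hr
    set c := h * d * h⁻¹ * d⁻¹ with hcdef
    have hcd : c * d = d * c := (Subgroup.mem_center_iff.1 hc d).symm
    have hcc : c * c = 1 := by
      have hsq : (c * d) * (c * d) = 1 := by
        rw [hcdef, inv_mul_cancel_right]
        calc h * d * h⁻¹ * (h * d * h⁻¹) = h * (d * d) * h⁻¹ := by group
          _ = 1 := by rw [hdd]; group
      calc c * c = c * c * (d * d) := by rw [hdd, mul_one]
        _ = c * (c * d) * d := by group
        _ = c * (d * c) * d := by rw [hcd]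
        _ = (c * d) * (c * d) := by group
        _ = 1 := hsq
    have hr2 : r * r = 1 := by
      have := congrFun (congrFun (congrArg (fun A : Matrix.SpecialLinearGroup (Fin 3) F => (A : Matrix (Fin 3) (Fin 3) F)) hcc) 0) 0
      simp only [Matrix.SpecialLinearGroup.coe_mul, ← hrc, Matrix.SpecialLinearGroup.coe_one] at this
      simpa using this
    have hr1 : r = 1 := by linear_combination hr - r * hr2
    have hc1 : c = 1 := Subtype.ext (by rw [← hrc, hr1, map_one]; rfl)
    rw [hcdef, mul_inv_eq_one, mul_inv_eq_iff_eq_mul] at hc1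
    obtain ⟨a, ha⟩ := S5318.exists_iota_of_comm h2 hc1
    refine ⟨a, Subtype.ext ?_⟩
    show γ * π (S5318.iota a) * γ⁻¹ = u
    rw [ha, hπ, hh]; group
  have hker : ∀ a, a ∈ φ.ker ↔ S5318.iota a ∈ Subgroup.center _ := by
    intro a
    rw [MonoidHom.mem_ker, ← QuotientGroup.eq_one_iff, Subtype.ext_iff]
    show γ * π (S5318.iota a) * γ⁻¹ = 1 ↔ π (S5318.iota a) = 1
    rw [conj_eq_one_iff]
  refine ⟨φ.ker, inferInstance, fun a ha => ?_, ?_,
    ⟨(QuotientGroup.quotientKerEquivOfSurjective φ hφ).symm⟩⟩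
  · rw [Subgroup.mem_center_iff]
    intro b
    refine S5318.iota_injective ?_
    rw [map_mul, map_mul]
    exact Subgroup.mem_center_iff.1 ((hker a).1 ha) _
  · rw [show φ.ker = (Subgroup.center _).comap (S5318.iota (F := F)) from Subgroup.ext hker]
    have hle : Subgroup.center (Matrix.SpecialLinearGroup (Fin 3) F) ≤ (S5318.iota (F := F)).range :=
      fun c hc => S5318.exists_iota_of_comm h2 ((Subgroup.mem_center_iff.1 hc _).symm)
    rw [← Subgroup.card_map_of_injective S5318.iota_injective, Subgroup.map_comap_eq_self hle,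
      Nat.card_congr (Matrix.SpecialLinearGroup.center_equiv_rootsOfUnity (n := Fin 3) (R := F)).toEquiv]
    rw [show rootsOfUnity (max (Fintype.card (Fin 3)) 1) F = (powMonoidHom 3 : Fˣ →* Fˣ).ker by
      ext u; simp [mem_rootsOfUnity], IsCyclic.card_powMonoidHom_ker]
    rw [Nat.card_units, Nat.card_eq_fintype_card]

end Cfsg.Agent.S1219
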