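import Cfsg.Statements.S1224
import Cfsg.Agent.Invol.SEPairs

set_option autoImplicit false
open Cfsg

namespace Cfsg.Agent.S1224

/-- Let H be a strongly embedded subgroup of the finite group G and x ≠ y two cosets in G/H. Then the number of involutions i of G with i • x = y equals the number of involutions lying in H. -/
theorem result {G : Type*} [Group G] [Finite G] (H : Subgroup G) (hH : Cfsg.IsStronglyEmbedded H) (x y : G ⧸ H) (hxy : x ≠ y) : Nat.card {i : G // orderOf i = 2 ∧ i • x = y} = Nat.card {t : G // orderOf t = 2 ∧ t ∈ H} := by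
  obtain ⟨g, rfl⟩ := QuotientGroup.mk_surjective x
  have hy : g⁻¹ • y ≠ (QuotientGroup.mk 1 : G ⧸ H) := fun e => hxy (by
    have := congrArg (g • ·) e
    simp only [smul_inv_smul, MulAction.Quotient.smul_mk, smul_eq_mul, mul_one] at this
    exact this.symm)
  rw [← Cfsg.Agent.Invol.card_involutions_coset hH hy]
  refine Nat.card_congr (Equiv.subtypeEquiv (MulAut.conj g⁻¹).toEquiv fun i => ?_)
  show orderOf i = 2 ∧ i • (QuotientGroup.mk g : G ⧸ H) = y ↔
    orderOf (g⁻¹ * i * g⁻¹⁻¹) = 2 ∧ (g⁻¹ * i * g⁻¹⁻¹) • (QuotientGroup.mk 1 : G ⧸ H) = g⁻¹ • y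
  rw [Cfsg.Agent.Invol.orderOf_conj, inv_inv, mul_smul, mul_smul, smul_left_cancel_iff,
    show g • (QuotientGroup.mk 1 : G ⧸ H) = QuotientGroup.mk g by
      rw [MulAction.Quotient.smul_mk, smul_eq_mul, mul_one]]

end Cfsg.Agent.S1224
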