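import Cfsg.Statements.S1229
import Cfsg.Agent.Invol.ECTransitive

set_option autoImplicit false
open Cfsg

namespace Cfsg.Agent.S1229

open Cfsg.Agent.Invol

/-- Let G be a finite group with a Sylow 2-subgroup T that is neither cyclic nor normal, such that the centralizer of every involution is an elementary abelian 2-group; put H = N_G(T) and X = G/H. Then G is triply transitive on X, an element fixing three distinct points of X is the identity, and T acts regularly on X minus the point H. -/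
theorem result {G : Type*} [Group G] [Finite G] (T : Sylow 2 G) (hnc : ¬ IsCyclic (T : Subgroup G)) (hnn : ¬ (T : Subgroup G).Normal) (hC : ∀ t : G, orderOf t = 2 → IsMulCommutative (Subgroup.centralizer ({t} : Set G)) ∧ ∀ c ∈ Subgroup.centralizer ({t} : Set G), c ^ 2 = 1) : (∀ x₁ x₂ x₃ y₁ y₂ y₃ : G ⧸ Subgroup.normalizer ((T : Subgroup G) : Set G), x₁ ≠ x₂ → x₁ ≠ x₃ → x₂ ≠ x₃ → y₁ ≠ y₂ → y₁ ≠ y₃ → y₂ ≠ y₃ → ∃ g : G, g • x₁ = y₁ ∧ g • x₂ = y₂ ∧ g • x₃ = y₃) ∧ (∀ g : G, ∀ x₁ x₂ x₃ : G ⧸ Subgroup.normalizer ((T : Subgroup G) : Set G), x₁ ≠ x₂ → x₁ ≠ x₃ → x₂ ≠ x₃ → g • x₁ = x₁ → g • x₂ = x₂ → g • x₃ = x₃ → g = 1) ∧ (∀ x y : G ⧸ Subgroup.normalizer ((T : Subgroup G) : Set G), x ≠ QuotientGroup.mk 1 → y ≠ QuotientGroup.mk 1 → ∃! t : G, t ∈ T ∧ t • x = y) := by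
  classical
  have hse := ec_stronglyEmbedded hnc hnn hC
  set H := Subgroup.normalizer ((T : Subgroup G) : Set G) with hH
  obtain ⟨u, hu, huH⟩ : ∃ u : G, orderOf u = 2 ∧ u ∉ H := by
    obtain ⟨g, hg⟩ : ∃ g, g ∉ H := by
      by_contra! h; exact hse.1 (eq_top_iff.2 fun x _ => h x)
    obtain ⟨t, htH, ht⟩ := se_exists_involution hse
    refine ⟨g * t * g⁻¹, (Cfsg.Agent.Invol.orderOf_conj g t).trans ht, fun h => hg ?_⟩
    exact inv_mem_iff.1 (se_mem hse ht htH (g := g⁻¹) (by rwa [inv_inv]))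
  have E : ECData T u := ⟨hnc, hnn, hC, hu, huH⟩
  set o := ecBase T with ho
  set D := H ⊓ H.map (MulAut.conj u).toMonoidHom with hD
  have trans : ∀ x : G ⧸ H, ∃ g : G, g • o = x := fun x => by
    obtain ⟨g, rfl⟩ := QuotientGroup.mk_surjective x
    exact ⟨g, by rw [ho, ecBase, MulAction.Quotient.smul_mk, smul_eq_mul, mul_one]⟩
  -- every ordered pair can be moved to the standard one
  have pair : ∀ x y : G ⧸ H, x ≠ y → ∃ g : G, g • x = o ∧ g • y = u • o := by
    intro x y hxy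
    obtain ⟨g, rfl⟩ := trans x
    have hy : g⁻¹ • y ≠ o := fun e => hxy (by rw [← e, smul_inv_smul])
    obtain ⟨t, ht, hte⟩ := E.T_transitive hy
    refine ⟨t⁻¹ * g⁻¹, ?_, ?_⟩
    · rw [mul_smul, inv_smul_smul]
      exact smul_ecBase_iff.2 (inv_mem (Subgroup.le_normalizer ht))
    · rw [mul_smul, ← hte, inv_smul_smul]
  have Dfree : ∀ d ∈ D, ∀ x : G ⧸ H, x ≠ o → x ≠ u • o → d • x = x → d = 1 := by
    intro d hd x h1 h2 hx
    by_contra hne
    exact (E.fix_two hd hne hx).elim h1 h2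
  -- `D` is transitive on the remaining points
  have Dtrans : ∀ x y : G ⧸ H, x ≠ o → x ≠ u • o → y ≠ o → y ≠ u • o → ∃ d ∈ D, d • x = y := by
    intro x y hx1 hx2 hy1 hy2
    obtain ⟨-, hDcard⟩ := ec_card hnc hnn hC hu huH
    let S' := {z : G ⧸ H // z ≠ o ∧ z ≠ u • o}
    let f : D → S' := fun d => ⟨(d : G) • x,
      fun e => hx1 (smul_left_cancel (d : G) (e.trans (E.mem_D.1 d.2).1.symm)),
      fun e => hx2 (smul_left_cancel (d : G) (e.trans (E.mem_D.1 d.2).2.symm))⟩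
    have hinj : Function.Injective f := fun a b e => by
      have e : (a : G) • x = (b : G) • x := congrArg Subtype.val e
      have := Dfree _ (mul_mem (inv_mem b.2) a.2) x hx1 hx2 (by rw [mul_smul, e, inv_smul_smul])
      exact Subtype.ext (inv_mul_eq_one.1 this).symm
    have hcard : Nat.card D = Nat.card S' := by
      let φ : ↥(T : Subgroup G) → {z : G ⧸ H // z ≠ o} := fun t => ⟨(t : G) • u • o, fun e =>
        E.out_base (by
          rw [smul_eq_iff_eq_inv_smul] at e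
          rw [e]; exact smul_ecBase_iff.2 (inv_mem (Subgroup.le_normalizer t.2)))⟩
      have hφ : Function.Bijective φ := by
        refine ⟨fun a b e => ?_, fun z => ?_⟩
        · have e : (a : G) • u • o = (b : G) • u • o := congrArg Subtype.val e
          have := E.T_semiregular (mul_mem (inv_mem b.2) a.2) E.out_base
            (by rw [mul_smul, e, inv_smul_smul])
          exact Subtype.ext (inv_mul_eq_one.1 this).symm
        · obtain ⟨t, ht, hte⟩ := E.T_transitive z.2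
          exact ⟨⟨t, ht⟩, Subtype.ext hte⟩
      have := Fintype.ofFinite (G ⧸ H)
      have h1 : Nat.card {z : G ⧸ H // z ≠ o} = Nat.card T := (Nat.card_eq_of_bijective φ hφ).symm
      have e : S' ≃ {z : {z : G ⧸ H // z ≠ o} // z ≠ ⟨u • o, E.out_base⟩} :=
        { toFun := fun z => ⟨⟨z.1, z.2.1⟩, fun e => z.2.2 (congrArg Subtype.val e)⟩
          invFun := fun z => ⟨z.1.1, z.1.2, fun e => z.2 (Subtype.ext e)⟩
          left_inv := fun z => rfl
          right_inv := fun z => rfl }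
      rw [Nat.card_congr e, Nat.card_eq_fintype_card (α := { z : {z : G ⧸ H // z ≠ o} // z ≠ ⟨u • o, E.out_base⟩ }), Fintype.card_subtype_compl, Fintype.card_subtype_eq,
        ← Nat.card_eq_fintype_card, h1, hDcard]
    obtain ⟨d, hd⟩ := ((Nat.bijective_iff_injective_and_card f).2 ⟨hinj, hcard⟩).2 ⟨y, hy1, hy2⟩
    exact ⟨d, d.2, congrArg Subtype.val hd⟩
  refine ⟨?_, ?_, ?_⟩
  · intro x₁ x₂ x₃ y₁ y₂ y₃ hx12 hx13 hx23 hy12 hy13 hy23
    obtain ⟨g, hg1, hg2⟩ := pair x₁ x₂ hx12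
    obtain ⟨k, hk1, hk2⟩ := pair y₁ y₂ hy12
    obtain ⟨d, hd, hde⟩ := Dtrans (g • x₃) (k • y₃)
      (fun e => hx13 (smul_left_cancel g (hg1.trans e.symm))) (fun e => hx23 (smul_left_cancel g (hg2.trans e.symm)))
      (fun e => hy13 (smul_left_cancel k (hk1.trans e.symm))) (fun e => hy23 (smul_left_cancel k (hk2.trans e.symm)))
    refine ⟨k⁻¹ * d * g, ?_, ?_, ?_⟩
    · rw [mul_smul, mul_smul, hg1, (E.mem_D.1 hd).1]
      exact inv_smul_eq_iff.2 hk1.symm
    · rw [mul_smul, mul_smul, hg2, (E.mem_D.1 hd).2]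
      exact inv_smul_eq_iff.2 hk2.symm
    · rw [mul_smul, mul_smul, hde, inv_smul_smul]
  · intro g x₁ x₂ x₃ h12 h13 h23 f1 f2 f3
    obtain ⟨k, hk1, hk2⟩ := pair x₁ x₂ h12
    have hmem : k * g * k⁻¹ ∈ D := by
      refine E.mem_D.2 ⟨?_, ?_⟩
      · show _ • o = o
        rw [← hk1, mul_smul, mul_smul, inv_smul_smul, f1]
      · show _ • u • o = u • o
        rw [← hk2, mul_smul, mul_smul, inv_smul_smul, f2]
    have h := Dfree _ hmem (k • x₃) (fun e => h13 (smul_left_cancel k (hk1.trans e.symm)))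
      (fun e => h23 (smul_left_cancel k (hk2.trans e.symm))) (by rw [mul_smul, mul_smul, inv_smul_smul, f3])
    exact conj_eq_one_iff.1 h
  · intro x y hx hy
    obtain ⟨a, ha, hae⟩ := E.T_transitive hx
    obtain ⟨b, hb, hbe⟩ := E.T_transitive hy
    refine ⟨b * a⁻¹, ⟨mul_mem hb (inv_mem ha), by rw [mul_smul, ← hae, inv_smul_smul, hbe]⟩, ?_⟩
    rintro t ⟨ht, hte⟩
    have := E.T_semiregular (mul_mem (inv_mem (mul_mem hb (inv_mem ha))) ht) hx
      (by rw [mul_smul, hte, inv_smul_eq_iff, mul_smul, ← hae, inv_smul_smul, hbe])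
    exact (inv_mul_eq_one.1 this).symm

end Cfsg.Agent.S1229
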