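import Cfsg.Statements.S1231
import Cfsg.Agent.Embedded.RankCore

set_option autoImplicit false
open Cfsg

namespace Cfsg.Agent.S1231

open Subgroup

/-- Let H be a subgroup of the finite group G, p a prime, k ≥ 1, and P a Sylow p-subgroup of H whose p-rank is at least k. Then N_G(X) ≤ H for every subgroup X of P of p-rank at least k if and only if H ∩ gHg⁻¹ has p-rank less than k for every g ∉ H. -/
theorem result {G : Type*} [Group G] [Finite G] {p : ℕ} [Fact p.Prime] (k : ℕ) (hk : 1 ≤ k) (H : Subgroup G) (P : Sylow p ↥H) (hP : ¬ Cfsg.PRankLE p (k - 1) ↥(P : Subgroup ↥H)) : (∀ X : Subgroup G, X ≤ (P : Subgroup ↥H).map H.subtype → ¬ Cfsg.PRankLE p (k - 1) ↥X → Subgroup.normalizer (X : Set G) ≤ H) ↔ (∀ g : G, g ∉ H → Cfsg.PRankLE p (k - 1) ↥(H ⊓ H.map (MulAut.conj g).toMonoidHom)) := by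
  constructor
  · intro hΓ g hg
    by_contra hr
    set D := H ⊓ H.map (MulAut.conj g).toMonoidHom
    -- an elementary abelian witness, enlarged to a Sylow `p`-subgroup of `D`
    obtain ⟨A, hA⟩ := not_forall.mp hr
    obtain ⟨hA1, hA'⟩ := not_forall.mp hA
    obtain ⟨hA2, hA3⟩ := not_forall.mp hA'
    have hAp : IsPGroup p A := fun a => ⟨1, Subtype.ext (by simpa using hA2 a a.2)⟩
    obtain ⟨R, hR⟩ := hAp.exists_le_sylow
    set X := (R : Subgroup D).map D.subtype
    have hXp : IsPGroup p X := R.2.map _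
    have hrX : ¬ PRankLE p (k - 1) ↥X := fun hc => hA3 <| by
      have := Embedded.pRankLE_of_injective
        ((R : Subgroup D).equivMapOfInjective D.subtype D.subtype_injective).toMonoidHom
        (MulEquiv.injective _) hc
      have h2 := Embedded.pRankLE_mono hR this ⊤ ⟨⟨fun a b => Subtype.ext (hA1.is_comm.comm a.1 b.1)⟩⟩
        (fun a _ => Subtype.ext (by simpa using hA2 a a.2))
      simpa using h2
    have hXD : X ≤ D := map_subtype_le _
    have hXH : X ≤ H := hXD.trans inf_le_left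
    -- `X` pulled back by `g` also lies in `H`
    set X' := X.map (MulAut.conj g⁻¹).toMonoidHom
    have hX'H : X' ≤ H := by
      rintro _ ⟨x, hx, rfl⟩
      obtain ⟨h, hh, hhx⟩ := (hXD hx).2
      have : (MulAut.conj g⁻¹).toMonoidHom x = h := by
        rw [← hhx]; simp [mul_assoc]
      rwa [this]
    have hN : normalizer (X : Set G) ≤ D := by
      refine le_inf (Embedded.normalizer_le_of_le hΓ hXH hXp hrX) fun n hn => ?_
      refine ⟨g⁻¹ * n * g, Embedded.normalizer_le_of_le hΓ hX'H (hXp.map _)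
        (fun hc => hrX (Embedded.pRankLE_of_map_conj _ hc)) ?_, by simp [mul_assoc]⟩
      rw [← map_equiv_normalizer_eq]
      exact ⟨n, hn, by simp⟩
    -- so `X` is a Sylow subgroup of `G`
    obtain ⟨Q, hQ⟩ := hXp.exists_le_sylow
    have hXQ : X = Q := by
      refine Embedded.eq_of_normalizer_inf_le Q.2 hQ fun x hx => ?_
      have hle : (R : Subgroup D) ≤ ((Q : Subgroup G) ⊓ normalizer (X : Set G)).subgroupOf D :=
        fun y hy => mem_subgroupOf.mpr ⟨hQ ⟨y, hy, rfl⟩, le_normalizer ⟨y, hy, rfl⟩⟩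
      have := R.3 ((Q.2.to_le inf_le_left).comap_subtype) hle
      exact ⟨⟨x, hN hx.2⟩, this ▸ mem_subgroupOf.mpr hx, rfl⟩
    -- conjugate both into the Sylow subgroup of `H`
    obtain ⟨h₁, hh₁, hle₁⟩ := Embedded.exists_conj_le_sylow P hXH hXp
    obtain ⟨h₂, hh₂, hle₂⟩ := Embedded.exists_conj_le_sylow P hX'H (hXp.map _)
    have hcard : Nat.card ((P : Subgroup H).map H.subtype) ≤ Nat.card X := by
      obtain ⟨n, hn⟩ := IsPGroup.iff_card.mp (P.2.map H.subtype)
      rw [hXQ, hn]
      exact Nat.le_of_dvd Nat.card_pos (Q.pow_dvd_card_of_pow_dvd_card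
        (hn ▸ card_subgroup_dvd_card _))
    have e₁ : X.map (MulAut.conj h₁).toMonoidHom = (P : Subgroup H).map H.subtype :=
      eq_of_le_of_card_ge hle₁ (hcard.trans_eq
        (card_map_of_injective (f := (MulAut.conj h₁).toMonoidHom) (MulAut.conj h₁).injective).symm)
    have e₂ : X'.map (MulAut.conj h₂).toMonoidHom = (P : Subgroup H).map H.subtype :=
      eq_of_le_of_card_ge hle₂ <| by
        rw [card_map_of_injective (f := (MulAut.conj h₂).toMonoidHom) (MulAut.conj h₂).injective,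
          card_map_of_injective (f := (MulAut.conj g⁻¹).toMonoidHom) (MulAut.conj g⁻¹).injective]
        exact hcard
    have hn : h₁⁻¹ * h₂ * g⁻¹ ∈ normalizer (X : Set G) := by
      rw [mem_normalizer_iff]
      intro x
      constructor
      · intro hx
        have : h₂ * (g⁻¹ * x * g) * h₂⁻¹ ∈ X.map (MulAut.conj h₁).toMonoidHom := by
          rw [e₁, ← e₂]; exact ⟨_, ⟨x, hx, rfl⟩, by simp [mul_assoc]⟩
        obtain ⟨y, hy, hyx⟩ := this
        simp only [MulEquiv.coe_toMonoidHom, MulAut.conj_apply] at hyx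
        have h3 : y = h₁⁻¹ * h₂ * g⁻¹ * x * (h₁⁻¹ * h₂ * g⁻¹)⁻¹ := by
          have := congrArg (fun z => h₁⁻¹ * z * h₁) hyx
          simpa [mul_assoc] using this
        exact h3 ▸ hy
      · intro hx
        have : h₁ * (h₁⁻¹ * h₂ * g⁻¹ * x * (h₁⁻¹ * h₂ * g⁻¹)⁻¹) * h₁⁻¹ ∈
            X'.map (MulAut.conj h₂).toMonoidHom := by
          rw [e₂, ← e₁]; exact ⟨_, hx, by simp [mul_assoc]⟩
        obtain ⟨y, ⟨z, hz, rfl⟩, hyx⟩ := this
        simp only [MulEquiv.coe_toMonoidHom, MulAut.conj_apply] at hyx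
        have h3 : z = x := by simpa [mul_assoc] using hyx
        exact h3 ▸ hz
    have h4 : h₁⁻¹ * h₂ * g⁻¹ ∈ H := (hN hn).1
    refine hg ?_
    have := H.mul_mem (H.inv_mem h4) (H.mul_mem (H.inv_mem hh₁) hh₂)
    simpa [mul_assoc] using this
  · intro h X hX hr n hn
    by_contra hnH
    refine hr (Embedded.pRankLE_mono ?_ (h n hnH))
    have hXH : X ≤ H := hX.trans (map_subtype_le _)
    refine le_inf hXH fun x hx => ⟨n⁻¹ * x * n, hXH ?_, by simp [mul_assoc]⟩
    exact (mem_normalizer_iff.mp hn (n⁻¹ * x * n)).mpr (by simpa [mul_assoc] using hx)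

end Cfsg.Agent.S1231
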