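import Cfsg.Statements.S1233
import Cfsg.Agent.QuatQuat.Model
import Cfsg.Agent.S1232

set_option autoImplicit false
open Cfsg

namespace Cfsg.Agent.S1233

/-- Let S be a finite 2-group and Q a subgroup of order 32 generated by two elementwise-commuting subgroups Q₁, Q₂ each isomorphic to the quaternion group of order 8 (so Q = Q₁ ∗ Q₂). If C_S(Q) ≤ Q, then every section of S has 2-rank at most 4. -/
theorem result {S : Type*} [Group S] [Finite S] (hS : IsPGroup 2 S) (Q Q₁ Q₂ : Subgroup S) (e₁ : Q₁ ≃* QuaternionGroup 2) (e₂ : Q₂ ≃* QuaternionGroup 2) (hcomm : ∀ a ∈ Q₁, ∀ b ∈ Q₂, a * b = b * a) (hQ : Q₁ ⊔ Q₂ = Q) (hQ32 : Nat.card Q = 32) (hC : Subgroup.centralizer (Q : Set S) ≤ Q) : Cfsg.SectionalPRankLE 2 4 S := by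
  classical
  let i1 : QuaternionGroup 2 →* S := Q₁.subtype.comp e₁.symm.toMonoidHom
  let i2 : QuaternionGroup 2 →* S := Q₂.subtype.comp e₂.symm.toMonoidHom
  have hc : ∀ g h : QuaternionGroup 2, Commute (i1 g) (i2 h) := fun g h =>
    hcomm _ (e₁.symm g).2 _ (e₂.symm h).2
  let φ : QuatQuat.X →* S := MonoidHom.noncommCoprod i1 i2 hc
  have hφ : ∀ g h : QuaternionGroup 2, φ (g, h) = i1 g * i2 h := fun g h => rfl
  have hrange : φ.range = Q := by
    rw [← hQ]
    refine le_antisymm ?_ (sup_le (fun q hq => ⟨(e₁ ⟨q, hq⟩, 1), ?_⟩) fun q hq => ⟨(1, e₂ ⟨q, hq⟩), ?_⟩)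
    · rintro _ ⟨⟨g, h⟩, rfl⟩
      rw [hφ]
      exact Subgroup.mul_mem_sup (e₁.symm g).2 (e₂.symm h).2
    · rw [hφ, map_one, mul_one]
      simp [i1]
    · rw [hφ, map_one, one_mul]
      simp [i2]
  -- the kernel
  have hinj1 : Function.Injective i1 := Q₁.subtype_injective.comp e₁.symm.injective
  have hinj2 : Function.Injective i2 := Q₂.subtype_injective.comp e₂.symm.injective
  have hcen : ∀ g : QuaternionGroup 2, (∀ h, g * h = h * g) → g = 1 ∨ g = QuatQuat.mq := by decide +kernel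
  have hsub : ∀ x : QuatQuat.X, φ x = 1 → QuatQuat.K0 x := by
    rintro ⟨g, h⟩ hx
    rw [hφ] at hx
    have hg : ∀ u, g * u = u * g := fun u => hinj1 (by
      have e : i1 g = (i2 h)⁻¹ := mul_eq_one_iff_eq_inv.1 hx
      rw [map_mul, map_mul, e]
      exact (hc u h).symm.inv_left.eq)
    have hh : ∀ u, h * u = u * h := fun u => hinj2 (by
      have e : i2 h = (i1 g)⁻¹ := (inv_eq_of_mul_eq_one_right hx).symm
      rw [map_mul, map_mul, e]
      exact (hc g u).inv_left.eq)
    rcases hcen g hg with rfl | rfl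
    · left
      rw [map_one, one_mul] at hx
      have : h = 1 := hinj2 (hx.trans (map_one i2).symm)
      rw [this]
      rfl
    · rcases hcen h hh with rfl | rfl
      · exfalso
        rw [map_one, mul_one] at hx
        exact absurd (hinj1 (hx.trans (map_one i1).symm)) (by decide)
      · exact Or.inr rfl
  have hcard : Nat.card φ.ker = 2 := by
    have h1 := φ.ker.card_mul_index
    have hX : Nat.card QuatQuat.X = 64 := by rw [Nat.card_eq_fintype_card]; rfl
    rw [Subgroup.index_ker, hrange, hQ32, hX] at h1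
    omega
  have hker : ∀ x, φ x = 1 ↔ QuatQuat.K0 x := by
    intro x
    refine ⟨hsub x, fun hx => ?_⟩
    rcases hx with rfl | rfl
    · exact map_one φ
    · obtain ⟨y, hy, -⟩ := (Nat.card_eq_two_iff' (1 : φ.ker)).1 hcard
      rcases hsub y.1 (MonoidHom.mem_ker.1 y.2) with e | e
      · exact absurd (Subtype.ext e) hy
      · rw [← e]; exact MonoidHom.mem_ker.1 y.2
  have hCQ : Subgroup.centralizer (φ.range : Set S) ≤ φ.range := by rw [hrange]; exact hC
  have hPA := QuatQuat.pr_of_facts QuatQuat.factsA QuatQuat.factsB hker hCQ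
  have hPB := QuatQuat.pr_of_facts QuatQuat.factsB QuatQuat.factsA hker hCQ
  -- either subgroup has order eight and is elementary abelian
  have key : ∀ A B : Subgroup S, QuatQuat.Pr φ.range A B (φ QuatQuat.zX) → Nat.card A = 8 →
      Subgroup.centralizer (A : Set S) ≤ A → Cfsg.SectionalPRankLE 2 4 S := by
    intro A B hP h8 hle
    have hel : Cfsg.IsElementaryAbelian 2 A := by
      refine ⟨⟨⟨fun a b => Subtype.ext ?_⟩⟩, fun a ha => by rw [pow_two]; exact hP.sqA a ha⟩
      have h1 := inv_eq_of_mul_eq_one_right (hP.sqA _ (mul_mem a.2 b.2))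
      rw [mul_inv_rev, inv_eq_of_mul_eq_one_right (hP.sqA _ a.2), inv_eq_of_mul_eq_one_right (hP.sqA _ b.2)] at h1
      exact h1.symm
    refine Cfsg.Agent.S1232.result hS A hel h8 (le_antisymm hle fun a ha => ?_)
    exact Subgroup.mem_centralizer_iff.2 fun b hb => congrArg Subtype.val (hel.1.is_comm.comm (⟨b, hb⟩ : A) ⟨a, ha⟩)
  have hcA : Nat.card ((QuatQuat.psub QuatQuat.factsA).map φ) = 8 := by
    have h1 : Nat.card (QuatQuat.psub QuatQuat.factsA) = 16 := QuatQuat.card_AB.1
    rw [QuatQuat.card_image (show ((QuatQuat.mq, QuatQuat.mq) : QuatQuat.X) ∈ QuatQuat.psub QuatQuat.factsA from rfl)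
      hker] at h1
    omega
  have hcB : Nat.card ((QuatQuat.psub QuatQuat.factsB).map φ) = 8 := by
    have h1 : Nat.card (QuatQuat.psub QuatQuat.factsB) = 16 := QuatQuat.card_AB.2
    rw [QuatQuat.card_image (show ((QuatQuat.mq, QuatQuat.mq) : QuatQuat.X) ∈ QuatQuat.psub QuatQuat.factsB from rfl)
      hker] at h1
    omega
  rcases QuatQuat.exists_selfcent hS hPA hPB with hle | hle
  · exact key _ _ hPA hcA hle
  · exact key _ _ hPB hcB hle

end Cfsg.Agent.S1233
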