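import Cfsg.Statements.S1234
import Cfsg.Agent.S1232

set_option autoImplicit false
open Cfsg

namespace Cfsg.Agent.S1234

/-- Let S be a finite 2-group and Q ≤ S a subgroup of order 32 having an elementary abelian subgroup E of order 16 and an involution s ∉ E whose centralizer in E has order 4 (so Q ≅ (Z₂ × Z₂) ≀ Z₂). If C_S(Z(Q)) = Q, then every section of S has 2-rank at most 4. -/
theorem result {S : Type*} [Group S] [Finite S] (hS : IsPGroup 2 S) (Q E : Subgroup S) (hEQ : E ≤ Q) (hE : Cfsg.IsElementaryAbelian 2 E) (hE16 : Nat.card E = 16) (hQ32 : Nat.card Q = 32) (s : S) (hsQ : s ∈ Q) (hsE : s ∉ E) (hs : orderOf s = 2) (hfix : Nat.card ↥(E ⊓ Subgroup.centralizer ({s} : Set S)) = 4) (hC : Subgroup.centralizer (((Subgroup.center Q).map Q.subtype : Subgroup S) : Set S) = Q) : Cfsg.SectionalPRankLE 2 4 S := by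
  classical
  obtain ⟨hEc, hE2⟩ := hE
  have hcom : ∀ e ∈ E, ∀ f ∈ E, e * f = f * e := fun e he f hf =>
    congrArg Subtype.val (hEc.is_comm.comm (⟨e, he⟩ : E) ⟨f, hf⟩)
  have hs2 : s * s = 1 := by rw [← pow_two, ← hs, pow_orderOf_eq_one]
  set V := E ⊓ Subgroup.centralizer ({s} : Set S) with hV
  have hVs : ∀ v ∈ V, v * s = s * v := fun v hv => Subgroup.mem_centralizer_singleton_iff.1 hv.2
  have hidx : (E.subgroupOf Q).index = 2 := by
    have h1 := (E.subgroupOf Q).card_mul_index
    rw [Nat.card_congr (Subgroup.subgroupOfEquivOfLe hEQ).toEquiv, hE16, hQ32] at h1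
    omega
  have hQcases : ∀ y ∈ Q, y ∈ E ∨ y * s ∈ E := fun y hy => by
    by_cases hyE : y ∈ E
    · exact Or.inl hyE
    · exact Or.inr ((Subgroup.mul_mem_iff_of_index_two hidx (a := ⟨y, hy⟩) (b := ⟨s, hsQ⟩)).2
        (by simp [Subgroup.mem_subgroupOf, hyE, hsE]))
  let A : Subgroup S :=
    { carrier := {y | y ∈ V ∨ y * s ∈ V}
      one_mem' := Or.inl V.one_mem
      mul_mem' := by
        rintro u v (hu | hu) (hv | hv)
        · exact Or.inl (mul_mem hu hv)
        · exact Or.inr (by rw [mul_assoc]; exact mul_mem hu hv)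
        · refine Or.inr ?_
          rw [mul_assoc, hVs v hv, ← mul_assoc]
          exact mul_mem hu hv
        · refine Or.inl ?_
          have h1 := mul_mem hu hv
          rwa [show u * s * (v * s) = u * (s * (v * s)) by group, ← hVs _ hv,
            show u * (v * s * s) = u * v * (s * s) by group, hs2, mul_one] at h1
      inv_mem' := by
        rintro u (hu | hu)
        · exact Or.inl (inv_mem hu)
        · refine Or.inr ?_
          have h1 := inv_mem hu
          rw [mul_inv_rev, inv_eq_of_mul_eq_one_right hs2] at h1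
          have h2 := hVs _ h1
          rw [← mul_assoc s s, hs2, one_mul] at h2
          have h3 : u⁻¹ * s = s * u⁻¹ := by
            conv_lhs => rw [← h2]
            rw [mul_assoc, hs2, mul_one]
          rwa [h3] }
  have hsA : s ∈ A := Or.inr (by rw [hs2]; exact V.one_mem)
  have hform : ∀ y ∈ A, ∃ v ∈ V, y = v ∨ y = v * s := by
    rintro y (hy | hy)
    · exact ⟨y, hy, Or.inl rfl⟩
    · exact ⟨_, hy, Or.inr (by rw [mul_assoc, hs2, mul_one])⟩
  have hA : Cfsg.IsElementaryAbelian 2 A := by
    refine ⟨⟨⟨fun a b => Subtype.ext ?_⟩⟩, fun a ha => ?_⟩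
    · obtain ⟨v, hv, e⟩ := hform a a.2
      obtain ⟨w, hw, e'⟩ := hform b b.2
      show (a : S) * b = b * a
      have c1 : Commute v w := hcom v hv.1 w hw.1
      have c2 : Commute v s := hVs v hv
      have c3 : Commute w s := hVs w hw
      rcases e with e | e <;> rcases e' with e' | e' <;> rw [e, e']
      · exact c1
      · exact c1.mul_right c2
      · exact c1.mul_left c3.symm
      · exact (c1.mul_right c2).mul_left (c3.symm.mul_right (Commute.refl s))
    · obtain ⟨v, hv, e | e⟩ := hform a ha <;> rw [e]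
      · exact hE2 v hv.1
      · rw [(show Commute v s from hVs v hv).mul_pow, hE2 v hv.1, one_mul, pow_two, hs2]
  have hA8 : Nat.card A = 8 := by
    have hi : ((V.subgroupOf A)).index = 2 := by
      refine Subgroup.index_eq_two_iff.2 ⟨⟨s, hsA⟩, fun b => ?_⟩
      simp only [Subgroup.mem_subgroupOf, Subgroup.coe_mul]
      rcases b.2 with hb | hb
      · refine Or.inr ⟨hb, fun h => hsE ?_⟩
        have h1 := mul_mem (inv_mem hb) h
        rw [inv_mul_cancel_left] at h1
        exact h1.1
      · refine Or.inl ⟨hb, fun h => hsE ?_⟩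
        have h1 := mul_mem (inv_mem h) hb
        rw [inv_mul_cancel_left] at h1
        exact h1.1
    have h1 := (V.subgroupOf A).card_mul_index
    rw [Nat.card_congr (Subgroup.subgroupOfEquivOfLe (fun v hv => Or.inl hv : V ≤ A)).toEquiv, hfix, hi] at h1
    exact h1.symm
  have hVZ : ∀ v ∈ V, ∀ y ∈ Q, y * v = v * y := by
    intro v hv y hy
    rcases hQcases y hy with h | h
    · exact hcom y h v hv.1
    · have c1 : Commute (y * s) v := hcom _ h v hv.1
      have c2 := c1.mul_left (Commute.inv_left (show Commute s v from (hVs v hv).symm))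
      rwa [mul_inv_cancel_right] at c2
  refine Cfsg.Agent.S1232.result hS A hA hA8 (le_antisymm (fun y hy => ?_) fun y hy => ?_)
  · have hyA : ∀ a ∈ A, a * y = y * a := Subgroup.mem_centralizer_iff.1 hy
    have hyQ : y ∈ Q := by
      rw [← hC]
      refine Subgroup.mem_centralizer_iff.2 ?_
      rintro _ ⟨c, hc, rfl⟩
      refine hyA _ (Or.inl ?_)
      have hcs : (c : S) * s = s * c := congrArg Subtype.val (Subgroup.mem_center_iff.1 hc ⟨s, hsQ⟩).symm
      refine ⟨?_, Subgroup.mem_centralizer_singleton_iff.2 hcs⟩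
      by_contra hcE
      have h1 := (hQcases c c.2).resolve_left hcE
      have hle : E ≤ Subgroup.centralizer ({s} : Set S) := fun e he => by
        refine Subgroup.mem_centralizer_singleton_iff.2 ?_
        have hec : Commute e c := congrArg Subtype.val (Subgroup.mem_center_iff.1 hc ⟨e, hEQ he⟩)
        have hecs : Commute e ((c : S) * s) := hcom e he _ h1
        have := hec.inv_right.mul_right hecs
        rwa [inv_mul_cancel_left] at this
      rw [hV, inf_eq_left.2 hle, hE16] at hfix
      omega
    have hys : Commute s y := hyA s hsA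
    rcases hQcases y hyQ with h | h
    · exact Or.inl ⟨h, Subgroup.mem_centralizer_singleton_iff.2 hys.eq.symm⟩
    · exact Or.inr ⟨h, Subgroup.mem_centralizer_singleton_iff.2 ((hys.symm.mul_left (Commute.refl s)).eq)⟩
  · exact Subgroup.mem_centralizer_iff.2 fun a ha => congrArg Subtype.val (hA.1.is_comm.comm (⟨a, ha⟩ : A) ⟨y, hy⟩)

end Cfsg.Agent.S1234
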