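import Cfsg.Statements.S1235
import Cfsg.Agent.SecRankFour.Klein

set_option autoImplicit false
open Cfsg

namespace Cfsg.Agent.S1235

open Subgroup

theorem mem_prod {G : Type*} [Group G] {T D B : Subgroup G} (hprod : Cfsg.IsInternalDirectProduct D B T) {t : G}
    (ht : t ∈ T) : ∃ d ∈ D, ∃ b ∈ B, t = d * b := by
  obtain ⟨-, -, hc, -, hsup⟩ := hprod
  have hn : B ≤ normalizer (D : Set G) := fun b hb => mem_normalizer_iff.2 fun d => by
    constructor
    · intro hd; rwa [← hc d hd b hb, mul_inv_cancel_right]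
    · intro hd
      have h1 := hc _ hd b hb
      have h2 : d = b * d * b⁻¹ := by
        calc d = b⁻¹ * (b * d * b⁻¹ * b) := by group
          _ = b⁻¹ * (b * (b * d * b⁻¹)) := by rw [h1]
          _ = _ := by group
      rw [h2]; exact hd
  rw [← hsup, sup_comm] at ht
  have : t ∈ (↑(B ⊔ D) : Set G) := ht
  rw [coe_mul_of_left_le_normalizer_right B D hn] at this
  obtain ⟨b, hb, d, hd, rfl⟩ := this
  exact ⟨d, hd, b, hb, (hc d hd b hb).symm⟩

theorem card_prod {G : Type*} [Group G] [Finite G] {T D B : Subgroup G}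
    (hprod : Cfsg.IsInternalDirectProduct D B T) : Nat.card T = Nat.card D * Nat.card B := by
  obtain ⟨-, -, hc, hi, hsup⟩ := hprod
  have hn : B ≤ normalizer (D : Set G) := fun b hb => mem_normalizer_iff.2 fun d => by
    constructor
    · intro hd; rwa [← hc d hd b hb, mul_inv_cancel_right]
    · intro hd
      have h2 : d = b * d * b⁻¹ := by
        calc d = b⁻¹ * (b * d * b⁻¹ * b) := by group
          _ = b⁻¹ * (b * (b * d * b⁻¹)) := by rw [hc _ hd b hb]
          _ = _ := by group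
      rw [h2]; exact hd
  have h := SfFree.card_sup_mul hn
  rw [hi, card_bot, mul_one, hsup] at h
  exact h

/-- the non-abelian case: `T` is the Sylow subgroup -/
theorem good_cyclic_case {G : Type*} [Group G] [Finite G] {P T D B : Subgroup G} (hP : IsPGroup 2 P) (hTP : T ≤ P)
    (hprod : Cfsg.IsInternalDirectProduct D B T) (hb2 : ∀ b ∈ B, b * b = 1) (hB4 : Nat.card B = 4)
    (hcent : ∀ b ∈ B, b ≠ 1 → ∀ y ∈ P, y * b = b * y → y ∈ T)
    (n s : ℕ) (hn : 2 ≤ n) (hs : s % 4 = 3) (x y : G) (hxD : x ∈ D) (hyD : y ∈ D) (hox : orderOf x = 2 ^ n)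
    (hy : y * y = 1) (hyx : y * x * y⁻¹ = x ^ s) (hgen : ∀ d ∈ D, ∃ i : ℕ, d = x ^ i ∨ d = y * x ^ i)
    (hcardD : Nat.card D = 2 * 2 ^ n) : SecRankFour.Good P := by
  classical
  have hDT := hprod.1
  have hBT := hprod.2.1
  have hc := hprod.2.2.1
  obtain ⟨m, rfl⟩ : ∃ m, n = m + 2 := ⟨n - 2, by omega⟩
  set z := x ^ 2 ^ (m + 1) with hz
  have hzT : z ∈ T := hDT (pow_mem hxD _)
  have hz1 : z ≠ 1 := by
    intro e
    have := orderOf_dvd_of_pow_eq_one e
    rw [hox, Nat.pow_dvd_pow_iff_le_right (by norm_num)] at this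
    omega
  have hz2 : z * z = 1 := by
    rw [hz, ← pow_add, ← two_mul, ← pow_succ', show m + 1 + 1 = m + 2 from rfl, ← hox, pow_orderOf_eq_one]
  have hzinv : z⁻¹ = z := inv_eq_of_mul_eq_one_right hz2
  have hinv : ∀ w ∈ zpowers x, w * w = 1 → w = 1 ∨ w = z := by
    intro w hw hw2
    obtain ⟨i, rfl⟩ := mem_powers_iff_mem_zpowers.mpr hw
    change x ^ i * x ^ i = 1 at hw2
    rw [← pow_add, ← two_mul] at hw2
    have := orderOf_dvd_of_pow_eq_one hw2
    rw [hox, pow_succ' 2 (m + 1)] at this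
    obtain ⟨j, hj⟩ := Nat.dvd_of_mul_dvd_mul_left two_pos this
    show x ^ i = 1 ∨ x ^ i = z
    subst hj
    rcases Nat.even_or_odd' j with ⟨l, rfl | rfl⟩
    · left
      rw [pow_mul, ← hz, pow_mul, pow_two, hz2, one_pow]
    · right
      rw [pow_mul, ← hz, pow_succ, pow_mul, pow_two, hz2, one_pow, one_mul]
  have hyc : y * x ≠ x * y := by
    intro e
    rw [e, mul_inv_cancel_right] at hyx
    have h1 : x ^ (s - 1) = 1 := by
      have : x ^ (s - 1) * x = 1 * x := by rw [← pow_succ, show s - 1 + 1 = s by omega, ← hyx, one_mul]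
      exact mul_right_cancel this
    have := orderOf_dvd_of_pow_eq_one h1
    rw [hox] at this
    have h4 : 4 ∣ s - 1 := dvd_trans (show 4 ∣ 2 ^ (m + 2) from ⟨2 ^ m, by ring⟩) this
    omega
  have hyxi : ∀ i : ℕ, y * x ^ i * y⁻¹ = x ^ (s * i) := by
    intro i; rw [pow_mul, ← hyx, conj_pow]
  have hcenter : ∀ d ∈ D, d * x = x * d → d * y = y * d → d = 1 ∨ d = z := by
    intro d hd hdx hdy
    obtain ⟨i, rfl | rfl⟩ := hgen d hd
    · have h1 : x ^ (s * i) = x ^ i := by
        rw [← hyxi i, ← hdy, mul_inv_cancel_right]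
      refine hinv _ (pow_mem (mem_zpowers x) i) ?_
      have h2 : (2 ^ (m + 2) : ℕ) ∣ (s - 1) * i := by
        rw [← hox]
        refine orderOf_dvd_of_pow_eq_one (mul_right_cancel (b := x ^ i) ?_)
        rw [one_mul, ← pow_add]
        convert h1 using 2
        have : s = (s - 1) + 1 := by omega
        nlinarith
      obtain ⟨u, hu⟩ : ∃ u, s - 1 = 2 * u ∧ Nat.Coprime (2 ^ (m + 1)) u :=
        ⟨(s - 1) / 2, by omega, Nat.Coprime.pow_left _ (Nat.coprime_two_left.2 (Nat.odd_iff.2 (by omega)))⟩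
      rw [hu.1, pow_succ', mul_assoc] at h2
      have h3 := hu.2.dvd_of_dvd_mul_left (Nat.dvd_of_mul_dvd_mul_left two_pos h2)
      rw [← pow_add, ← two_mul]
      refine orderOf_dvd_iff_pow_eq_one.1 ?_
      rw [hox, pow_succ']
      exact Nat.mul_dvd_mul_left 2 h3
    · exfalso
      refine hyc ?_
      have h1 : y * x * x ^ i = x * y * x ^ i := by
        rw [mul_assoc, ← pow_succ', pow_succ, ← mul_assoc, hdx, ← mul_assoc]
      exact mul_right_cancel h1
  have hsq : ∀ t ∈ T, t * t ∈ zpowers x := by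
    intro t ht
    obtain ⟨d, hd, b, hb, rfl⟩ := mem_prod hprod ht
    have e : d * b * (d * b) = d * d := by
      rw [mul_assoc, ← mul_assoc b d b, ← hc d hd b hb, mul_assoc d b b, hb2 b hb, mul_one]
    rw [e]
    obtain ⟨i, rfl | rfl⟩ := hgen d hd
    · exact mul_mem (pow_mem (mem_zpowers x) _) (pow_mem (mem_zpowers x) _)
    · have e : y * x ^ i * (y * x ^ i) = x ^ (s * i) * x ^ i := by
        rw [← hyxi i, inv_eq_of_mul_eq_one_right hy]
        group
      rw [e]
      exact mul_mem (pow_mem (mem_zpowers x) _) (pow_mem (mem_zpowers x) _)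
  by_cases hPT : P ≤ T
  · intro K N hK
    refine SecRankFour.good_of_cyclic (T := T) (hDT hxD) ?_ K N (hK.trans hPT)
    rw [card_prod hprod, hcardD, hB4, hox]
    linarith
  exfalso
  haveI : Fact (Nat.Prime 2) := ⟨Nat.prime_two⟩
  obtain ⟨g₀, hg₀, hg₀T⟩ := SetLike.exists_of_lt
    (Fusion.lt_inf_normalizer_of_isPGroup hP (lt_of_le_not_ge hTP hPT))
  obtain ⟨g, hg, hgT, hg2⟩ : ∃ g ∈ P ⊓ normalizer (T : Set G), g ∉ T ∧ g * g ∈ T := by
    obtain ⟨k, hk⟩ := hP ⟨g₀, hg₀.1⟩
    have hex : ∃ i, g₀ ^ 2 ^ i ∈ T := ⟨k, by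
      have := congrArg Subtype.val hk
      simp only [SubgroupClass.coe_pow, OneMemClass.coe_one] at this
      rw [this]; exact one_mem T⟩
    obtain ⟨i, hi⟩ : ∃ i, Nat.find hex = i + 1 := ⟨Nat.find hex - 1, by
      have : Nat.find hex ≠ 0 := fun h0 => hg₀T (by simpa [h0] using Nat.find_spec hex)
      omega⟩
    refine ⟨g₀ ^ 2 ^ i, pow_mem hg₀ _, Nat.find_min hex (by omega), ?_⟩
    have := Nat.find_spec hex
    rwa [hi, pow_succ, pow_mul, pow_two] at this
  have hcT : ∀ t ∈ T, g * t * g⁻¹ ∈ T := fun t ht => (mem_normalizer_iff.1 hg.2 t).1 ht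
  have hcm : ∀ a b : G, g * (a * b) * g⁻¹ = g * a * g⁻¹ * (g * b * g⁻¹) := fun a b => by group
  have hfree : ∀ b ∈ B, g * b * g⁻¹ = b → b = 1 := by
    intro b hb e
    by_contra hb1
    exact hgT (hcent b hb hb1 g hg.1 (mul_inv_eq_iff_eq_mul.1 e))
  have hbT : ∀ b ∈ B, ∀ t ∈ T, b * t = t * b := by
    intro b hb t ht
    obtain ⟨d, hd, c, hcB, rfl⟩ := mem_prod hprod ht
    have hbc : b * c = c * b := by
      have h1 := inv_eq_of_mul_eq_one_right (hb2 _ (mul_mem hb hcB))
      rw [mul_inv_rev, inv_eq_of_mul_eq_one_right (hb2 b hb), inv_eq_of_mul_eq_one_right (hb2 c hcB)] at h1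
      exact h1.symm
    rw [← mul_assoc, ← hc d hd b hb, mul_assoc, hbc, ← mul_assoc]
  have hgz : g * z * g⁻¹ = z := by
    have e : z = x ^ 2 ^ m * x ^ 2 ^ m := by rw [← pow_add, ← two_mul, ← pow_succ', hz]
    have h1 : g * z * g⁻¹ ∈ zpowers x := by
      rw [e, hcm]
      exact hsq _ (hcT _ (hDT (pow_mem hxD _)))
    refine (hinv _ h1 (by rw [← hcm, hz2, mul_one, mul_inv_cancel])).resolve_left fun e1 => hz1 ?_
    exact mul_left_cancel (a := g) ((mul_inv_eq_one.1 e1).trans (mul_one g).symm)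
  have himg : ∀ b ∈ B, g * b * g⁻¹ ∈ B ∨ z * (g * b * g⁻¹) ∈ B := by
    intro b hb
    have hcen : ∀ t ∈ T, g * b * g⁻¹ * t = t * (g * b * g⁻¹) := by
      intro t ht
      have h1 : g⁻¹ * t * g ∈ T := (mem_normalizer_iff''.1 hg.2 t).1 ht
      calc g * b * g⁻¹ * t = g * (b * (g⁻¹ * t * g)) * g⁻¹ := by group
        _ = g * ((g⁻¹ * t * g) * b) * g⁻¹ := by rw [hbT b hb _ h1]
        _ = _ := by group
    obtain ⟨d, hd, c, hcB, he⟩ := mem_prod hprod (hcT b (hBT hb))
    have hd' : ∀ t ∈ D, d * t = t * d := by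
      intro t ht
      have h1 := hcen t (hDT ht)
      rw [he, mul_assoc, ← hc t ht c hcB, ← mul_assoc, ← mul_assoc] at h1
      exact mul_right_cancel h1
    rcases hcenter d hd (hd' x hxD) (hd' y hyD) with rfl | rfl
    · exact Or.inl (by rw [he, one_mul]; exact hcB)
    · exact Or.inr (by rw [he, ← mul_assoc, hz2, one_mul]; exact hcB)
  have htwice : ∀ b ∈ B, g * (g * b * g⁻¹) * g⁻¹ = b := by
    intro b hb
    calc g * (g * b * g⁻¹) * g⁻¹ = (g * g) * b * (g * g)⁻¹ := by group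
      _ = b := by rw [← hbT b hb _ hg2, mul_inv_cancel_right]
  have hkey : ∀ b ∈ B, b ≠ 1 → g * b * g⁻¹ = z * b := by
    intro b hb hb1
    by_contra hne
    rcases himg b hb with h1 | h1
    · have h2 : g * (b * (g * b * g⁻¹)) * g⁻¹ = b * (g * b * g⁻¹) := by
        rw [hcm, htwice b hb, hbT b hb _ (hBT h1)]
      have h3 := eq_inv_of_mul_eq_one_right (hfree _ (mul_mem hb h1) h2)
      rw [inv_eq_of_mul_eq_one_right (hb2 b hb)] at h3
      exact hb1 (hfree b hb h3)
    · have hcz : z * b = b * z := (hbT b hb z hzT).symm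
      have e1 : g * (z * (g * b * g⁻¹)) * g⁻¹ = z * b := by rw [hcm, hgz, htwice b hb]
      have h2 : g * (b * (z * (g * b * g⁻¹))) * g⁻¹ = b * (z * (g * b * g⁻¹)) := by
        have hu : g * b * g⁻¹ * z = z * (g * b * g⁻¹) := by
          rw [← hgz, ← hcm, ← hcm, hbT b hb z hzT]
        rw [hcm, e1, hcz, ← mul_assoc, ← hbT b hb _ (hcT b (hBT hb)), mul_assoc, hu]
      have h3 := eq_inv_of_mul_eq_one_right (hfree _ (mul_mem hb h1) h2)
      rw [inv_eq_of_mul_eq_one_right (hb2 b hb)] at h3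
      refine hne ?_
      calc g * b * g⁻¹ = z * (z * (g * b * g⁻¹)) := by rw [← mul_assoc, hz2, one_mul]
        _ = z * b := by rw [h3]
  obtain ⟨b₁, hb₁, hb₁1⟩ : ∃ b ∈ B, b ≠ 1 := B.bot_or_exists_ne_one.resolve_left fun e => by
    rw [e, card_bot] at hB4; omega
  obtain ⟨b₂, hb₂, hb₂1⟩ : ∃ b ∈ B, b ∉ ({1, b₁} : Set G) := by
    by_contra hcon
    push Not at hcon
    have h1 : (B : Set G).ncard ≤ 2 :=
      le_trans (Set.ncard_le_ncard (fun b hb => hcon b hb) (Set.toFinite _)) (by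
        refine le_trans (Set.ncard_insert_le _ _) ?_
        rw [Set.ncard_singleton])
    rw [← Nat.card_coe_set_eq] at h1
    change Nat.card ↥B ≤ 2 at h1
    omega
  simp only [Set.mem_insert_iff, Set.mem_singleton_iff, not_or] at hb₂1
  have h2 : g * (b₁ * b₂) * g⁻¹ = b₁ * b₂ := by
    rw [hcm, hkey b₁ hb₁ hb₁1, hkey b₂ hb₂ hb₂1.1, mul_assoc, ← mul_assoc b₁ z, hbT b₁ hb₁ z hzT,
      ← mul_assoc z, ← mul_assoc z, hz2, one_mul]
  have h3 := eq_inv_of_mul_eq_one_right (hfree _ (mul_mem hb₁ hb₂) h2)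
  rw [inv_eq_of_mul_eq_one_right (hb2 b₁ hb₁)] at h3
  exact hb₂1.2 h3


/-- Let G be a finite group, x an involution and T ≤ G a Sylow 2-subgroup of C_G(x) (T ≤ C_G(x) with |C_G(x) : T| odd) which is the internal direct product of a subgroup D that is dihedral (of order ≥ 4) or quasi-dihedral and a Klein four-subgroup B. Suppose that for every involution b ∈ B, T ≤ C_G(b) with |C_G(b) : T| odd. Then every section of G has 2-rank at most 4. -/
theorem result {G : Type*} [Group G] [Finite G] (x : G) (hx : orderOf x = 2) (T D B : Subgroup G) (hT : IsPGroup 2 T) (hTx : T ≤ Subgroup.centralizer ({x} : Set G)) (hTxi : Odd (T.relIndex (Subgroup.centralizer ({x} : Set G)))) (hprod : Cfsg.IsInternalDirectProduct D B T) (hD : (∃ m : ℕ, 2 ≤ m ∧ Nonempty (D ≃* DihedralGroup m)) ∨ Cfsg.IsQuasiDihedral D) (hB : IsKleinFour B) (hTb : ∀ b ∈ B, orderOf b = 2 → T ≤ Subgroup.centralizer ({b} : Set G) ∧ Odd (T.relIndex (Subgroup.centralizer ({b} : Set G)))) : Cfsg.SectionalPRankLE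 2 4 G := by
  classical
  obtain ⟨P, hTP⟩ := hT.exists_le_sylow
  refine SecRankFour.sectional_of_good P ?_
  have hb2 : ∀ b ∈ B, b * b = 1 := fun b hb => congrArg Subtype.val (IsKleinFour.mul_self (⟨b, hb⟩ : ↥B))
  have hB4 : Nat.card B = 4 := hB.card_four
  have hcent : ∀ b ∈ B, b ≠ 1 → ∀ y ∈ (P : Subgroup G), y * b = b * y → y ∈ T := by
    intro b hb hb1 y hy hyb
    obtain ⟨hTc, hodd⟩ := hTb b hb (orderOf_eq_prime (by rw [pow_two]; exact hb2 b hb) hb1)
    set X := (P : Subgroup G) ⊓ Subgroup.centralizer ({b} : Set G)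
    have hTX : T ≤ X := le_inf hTP hTc
    have hmul := Subgroup.relIndex_mul_relIndex T X _ hTX (inf_le_right : X ≤ Subgroup.centralizer ({b} : Set G))
    rw [← hmul] at hodd
    haveI : Fact (Nat.Prime 2) := ⟨Nat.prime_two⟩
    obtain ⟨k, hk⟩ := IsPGroup.index (P.2.to_le (inf_le_left : X ≤ (P : Subgroup G))) (T.subgroupOf X)
    have h1 : Odd (T.relIndex X) := (Nat.odd_mul.1 hodd).1
    have h2 : T.relIndex X = 1 := by
      change T.relIndex X = 2 ^ k at hk
      rw [hk] at h1 ⊢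
      rcases Nat.eq_zero_or_pos k with rfl | hpos
      · rfl
      · exact absurd h1 (Nat.not_odd_iff_even.2 (Nat.even_pow.2 ⟨even_two, by omega⟩))
    exact Subgroup.relIndex_eq_one.1 h2 ⟨hy, Subgroup.mem_centralizer_singleton_iff.2 hyb⟩
  rcases hD with ⟨m, hm, ⟨e⟩⟩ | ⟨n, hn, hcard, x', y', hx', hy', hyx'⟩
  · obtain ⟨a, ha⟩ := (hT.to_le hprod.1).exists_card_eq
    rw [Nat.card_congr e.toEquiv, DihedralGroup.nat_card] at ha
    obtain ⟨k, rfl⟩ : ∃ k, m = 2 ^ k := by
      obtain ⟨a, rfl⟩ : ∃ j, a = j + 1 := ⟨a - 1, by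
        rcases Nat.eq_zero_or_pos a with rfl | h
        · simp at ha
        · omega⟩
      exact ⟨a, by rw [pow_succ'] at ha; omega⟩
    have hk1 : 1 ≤ k := by
      by_contra hk
      rw [show k = 0 by omega] at hm
      simp at hm
    rcases Nat.lt_or_ge k 2 with hk | hk
    · obtain rfl : k = 1 := by omega
      have hd2 : ∀ d ∈ D, d * d = 1 := by
        intro d hd
        have h1 : ∀ u : DihedralGroup (2 ^ 1), u * u = 1 := by decide
        have := h1 (e ⟨d, hd⟩)
        rw [← map_mul, ← map_one e] at this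
        exact congrArg Subtype.val (e.injective this)
      have hK : SecRankFour.Kl (P : Subgroup G) T B := by
        refine ⟨P.2, hTP, ?_, ?_, hprod.2.1, hB4, hcent⟩
        · rw [card_prod hprod, hB4, Nat.card_congr e.toEquiv, DihedralGroup.nat_card]; norm_num
        · intro t ht
          obtain ⟨d, hd, b, hb, rfl⟩ := mem_prod hprod ht
          rw [mul_assoc, ← mul_assoc b d b, ← hprod.2.2.1 d hd b hb, mul_assoc d b b, hb2 b hb, mul_one, hd2 d hd]
      exact hK.good
    · refine good_cyclic_case P.2 hTP hprod hb2 hB4 hcent k (2 ^ k - 1) hk ?_ (e.symm (DihedralGroup.r 1) : G)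
        (e.symm (DihedralGroup.sr 0) : G) (Subtype.coe_prop _) (Subtype.coe_prop _) ?_ ?_ ?_ ?_ ?_
      · obtain ⟨j, rfl⟩ : ∃ j, k = j + 2 := ⟨k - 2, by omega⟩
        have : 2 ^ (j + 2) = 4 * 2 ^ j := by ring
        have := Nat.one_le_two_pow (n := j)
        omega
      · rw [Subgroup.orderOf_coe, MulEquiv.orderOf_eq, DihedralGroup.orderOf_r_one]
      · rw [← Subgroup.coe_mul, ← map_mul, DihedralGroup.sr_mul_self, map_one, Subgroup.coe_one]
      · rw [← Subgroup.coe_inv, ← Subgroup.coe_mul, ← Subgroup.coe_mul, ← SubgroupClass.coe_pow, ← map_inv,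
          ← map_mul, ← map_mul, ← map_pow]
        refine congrArg (fun u => ((e.symm u : ↥D) : G)) ?_
        rw [DihedralGroup.r_one_pow, DihedralGroup.sr_mul_r, DihedralGroup.inv_sr, DihedralGroup.sr_mul_sr]
        congr 1
        rw [Nat.cast_sub (Nat.one_le_two_pow), ZMod.natCast_self]
        push_cast
        ring
      · intro d hd
        haveI : NeZero (2 ^ k) := ⟨by positivity⟩
        rcases he : e ⟨d, hd⟩ with i | i
        · refine ⟨i.val, Or.inl ?_⟩
          rw [← SubgroupClass.coe_pow, ← map_pow, DihedralGroup.r_one_pow, ZMod.natCast_zmod_val, ← he,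
            e.symm_apply_apply]
        · refine ⟨i.val, Or.inr ?_⟩
          rw [← SubgroupClass.coe_pow, ← map_pow, ← Subgroup.coe_mul, ← map_mul, DihedralGroup.r_one_pow,
            ZMod.natCast_zmod_val, DihedralGroup.sr_mul_r, zero_add, ← he, e.symm_apply_apply]
      · rw [Nat.card_congr e.toEquiv, DihedralGroup.nat_card]
  · have hy2 : (y' : G) * y' = 1 := by
      rw [← Subgroup.coe_mul, ← pow_two, ← hy', pow_orderOf_eq_one, Subgroup.coe_one]
    have hind : (Subgroup.zpowers x').index = 2 := by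
      have h1 := (Subgroup.zpowers x').card_mul_index
      rw [Nat.card_zpowers, hx', hcard, pow_succ] at h1
      exact Nat.eq_of_mul_eq_mul_left (by positivity) h1
    have hs4 : (2 ^ (n - 1) - 1) % 4 = 3 := by
      obtain ⟨j, rfl⟩ : ∃ j, n = j + 3 := ⟨n - 3, by omega⟩
      rw [show j + 3 - 1 = j + 2 from rfl]
      have : 2 ^ (j + 2) = 4 * 2 ^ j := by ring
      have := Nat.one_le_two_pow (n := j)
      omega
    refine good_cyclic_case P.2 hTP hprod hb2 hB4 hcent n (2 ^ (n - 1) - 1) (by omega) hs4 (x' : G) (y' : G)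
      x'.2 y'.2 (by rw [Subgroup.orderOf_coe, hx']) hy2 ?_ ?_ (by rw [hcard]; ring)
    · rw [← Subgroup.coe_inv, ← Subgroup.coe_mul, ← Subgroup.coe_mul, hyx', SubgroupClass.coe_pow]
    · intro d hd
      have hyC : y' ∉ Subgroup.zpowers x' := fun hm => by
        obtain ⟨i, rfl⟩ := mem_powers_iff_mem_zpowers.mpr hm
        change x' ^ i * x' * (x' ^ i)⁻¹ = _ at hyx'
        rw [(Commute.pow_self x' i).eq, mul_inv_cancel_right] at hyx'
        have h1 : x' ^ (2 ^ (n - 1) - 1 - 1) = 1 := by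
          refine mul_right_cancel (b := x') ?_
          rw [← pow_succ, one_mul, show 2 ^ (n - 1) - 1 - 1 + 1 = 2 ^ (n - 1) - 1 by omega]
          exact hyx'.symm
        have h2 := orderOf_dvd_of_pow_eq_one h1
        rw [hx'] at h2
        have h4 : 4 ∣ 2 ^ (n - 1) - 1 - 1 := dvd_trans ⟨2 ^ (n - 2), by
          rw [show (4 : ℕ) = 2 ^ 2 from rfl, ← pow_add]; congr 1; omega⟩ h2
        omega
      by_cases hdC : (⟨d, hd⟩ : ↥D) ∈ Subgroup.zpowers x'
      · obtain ⟨i, hi⟩ := mem_powers_iff_mem_zpowers.mpr hdC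
        exact ⟨i, Or.inl (congrArg Subtype.val hi).symm⟩
      · have := (Subgroup.mul_mem_iff_of_index_two hind (a := y') (b := ⟨d, hd⟩)).2 (iff_of_false hyC hdC)
        obtain ⟨i, hi⟩ := mem_powers_iff_mem_zpowers.mpr this
        refine ⟨i, Or.inr ?_⟩
        have hi' : (x' : G) ^ i = (y' : G) * d := congrArg Subtype.val hi
        rw [hi', ← mul_assoc, hy2, one_mul]

end Cfsg.Agent.S1235
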