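import Cfsg.Statements.S1236
import Cfsg.Agent.Invol.QDSub

set_option autoImplicit false
open Cfsg

namespace Cfsg.Agent.S1236

open DihedralGroup Cfsg.Agent.Invol

theorem two_torsion {m : ℕ} [NeZero m] {a b : ZMod m} (ha : 2 * a = 0) (hb : 2 * b = 0)
    (ha0 : a ≠ 0) (hb0 : b ≠ 0) : a = b := by
  have key : ∀ c : ZMod m, 2 * c = 0 → c ≠ 0 → 2 * c.val = m := by
    intro c hc hc0
    have hd : m ∣ 2 * c.val := by
      rw [← ZMod.natCast_eq_zero_iff]; push_cast; rw [ZMod.natCast_zmod_val, hc]
    obtain ⟨e, he⟩ := hd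
    have h1 := c.val_lt
    have h2 : c.val ≠ 0 := fun h => hc0 ((ZMod.val_eq_zero c).1 h)
    rcases e with _ | _ | e
    · omega
    · omega
    · exfalso; nlinarith [he, h1]
  exact ZMod.val_injective m (by have := key a ha ha0; have := key b hb hb0; omega)

/-- Four-subgroups of dihedral groups are self-centralizing. -/
theorem dihedral_centralizer {m : ℕ} (hm : 2 ≤ m) (V : Subgroup (DihedralGroup m)) (hV : IsKleinFour V) :
    Subgroup.centralizer (V : Set (DihedralGroup m)) ≤ V := by
  have : NeZero m := ⟨by omega⟩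
  have sq : ∀ d ∈ V, d * d = 1 := fun d hd => congrArg Subtype.val (IsKleinFour.mul_self (⟨d, hd⟩ : V))
  have rot : ∀ b, r b ∈ V → 2 * b = 0 := fun b hb => by
    have h := sq _ hb; rwa [r_mul_r, one_def, r.injEq, ← two_mul] at h
  -- a reflection in `V`
  obtain ⟨i, hi⟩ : ∃ i, sr i ∈ V := by
    by_contra hc
    have h4 : (V : Set (DihedralGroup m)).ncard = 4 := hV.card_four
    have hsub : ∃ b, (V : Set (DihedralGroup m)) ⊆ {r 0, r b} := by
      by_cases h : ∃ b, r b ∈ V ∧ b ≠ 0
      · obtain ⟨b, hb, hb0⟩ := h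
        refine ⟨b, fun d hd => ?_⟩
        rcases d with c | c
        · by_cases hc0 : c = 0
          · exact Or.inl (by rw [hc0])
          · exact Or.inr (by rw [Set.mem_singleton_iff, two_torsion (rot c hd) (rot b hb) hc0 hb0])
        · exact absurd ⟨c, hd⟩ hc
      · refine ⟨0, fun d hd => ?_⟩
        rcases d with c | c
        · exact Or.inl (by rw [not_not.1 fun e => h ⟨c, hd, e⟩])
        · exact absurd ⟨c, hd⟩ hc
    obtain ⟨b, hb⟩ := hsub
    have h1 := Set.ncard_le_ncard hb (Set.toFinite _)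
    have := Set.ncard_insert_le (r (0 : ZMod m)) {r b}
    have := Set.ncard_singleton (r b)
    omega
  -- a nontrivial rotation in `V`
  obtain ⟨b, hb, hb0⟩ : ∃ b, r b ∈ V ∧ b ≠ 0 := by
    by_contra hc
    have h4 : (V : Set (DihedralGroup m)).ncard = 4 := hV.card_four
    have hsub : (V : Set (DihedralGroup m)) ⊆ {r 0, sr i} := by
      intro d hd
      rcases d with c | c
      · exact Or.inl (by rw [not_not.1 fun e => hc ⟨c, hd, e⟩])
      · have := V.mul_mem hi hd
        rw [sr_mul_sr] at this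
        exact Or.inr (by rw [Set.mem_singleton_iff, sub_eq_zero.1 (not_not.1 fun e => hc ⟨_, this, e⟩)])
    have h1 := Set.ncard_le_ncard hsub (Set.toFinite _)
    have := Set.ncard_insert_le (r (0 : ZMod m)) {sr i}
    have := Set.ncard_singleton (sr i)
    omega
  intro g hg
  have h := Subgroup.mem_centralizer_iff.1 hg _ hi
  have rmem : ∀ c, 2 * c = 0 → r c ∈ V := fun c hc => by
    by_cases hc0 : c = 0
    · rw [hc0, ← one_def]; exact V.one_mem
    · rw [two_torsion hc (rot b hb) hc0 hb0]; exact hb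
  rcases g with c | c
  · rw [r_mul_sr, sr_mul_r, sr.injEq] at h
    exact rmem c (by linear_combination h)
  · rw [sr_mul_sr, sr_mul_sr, r.injEq] at h
    have := V.mul_mem hi (rmem (c - i) (by linear_combination h))
    rwa [sr_mul_r, add_sub_cancel] at this

/-- Four-subgroups are carried to four-subgroups by isomorphisms. -/
theorem klein_map {G H : Type*} [Group G] [Group H] (e : G ≃* H) {V : Subgroup G} (hV : IsKleinFour V) :
    IsKleinFour (V.map e.toMonoidHom) := by
  let f := V.equivMapOfInjective e.toMonoidHom e.injective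
  exact ⟨(Nat.card_congr f.toEquiv).symm.trans hV.card_four,
    (Monoid.exponent_eq_of_mulEquiv f).symm.trans hV.exponent_two⟩

/-- Let R be a finite group, t a central involution of R such that R ⧸ ⟨t⟩ is dihedral (of order ≥ 4) or quasi-dihedral, and A ≤ R an elementary abelian subgroup of order 8 containing t. Then C_R(A) = A. -/
theorem result {R : Type*} [Group R] [Finite R] (t : R) (ht : orderOf t = 2) (htz : t ∈ Subgroup.center R) [(Subgroup.zpowers t).Normal] (hq : (∃ m : ℕ, 2 ≤ m ∧ Nonempty (R ⧸ Subgroup.zpowers t ≃* DihedralGroup m)) ∨ Cfsg.IsQuasiDihedral (R ⧸ Subgroup.zpowers t)) (A : Subgroup R) (hA : Cfsg.IsElementaryAbelian 2 A) (hA8 : Nat.card A = 8) (htA : t ∈ A) : Subgroup.centralizer (A : Set R) = A := by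
  set Z := Subgroup.zpowers t with hZ
  set f := QuotientGroup.mk' Z with hf
  have hZA : Z ≤ A := Subgroup.zpowers_le.2 htA
  set V := A.map f with hVdef
  have hsqA : ∀ a ∈ A, a * a = 1 := fun a ha => by rw [← pow_two]; exact hA.2 a ha
  have hVcard : Nat.card V = 4 := by
    have h1 := Subgroup.card_mul_index (Z.subgroupOf A)
    rw [Nat.card_congr (Subgroup.subgroupOfEquivOfLe hZA).toEquiv, hZ, Nat.card_zpowers, ht, hA8] at h1
    have h2 : Nat.card V = (Z.subgroupOf A).index := by
      conv_lhs => rw [hVdef, ← Subgroup.range_subtype A, ← MonoidHom.range_comp, ← Subgroup.index_ker,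
        ← MonoidHom.comap_ker, hf, QuotientGroup.ker_mk']
      rfl
    rw [h2]
    rw [← hZ] at h1
    omega
  have hVK : IsKleinFour V := by
    refine ⟨hVcard, ?_⟩
    have : Nontrivial V := Finite.one_lt_card_iff_nontrivial.1 (by omega)
    refine (Monoid.exponent_eq_prime_iff Nat.prime_two).2 fun g hg => orderOf_eq_prime ?_ hg
    obtain ⟨a, ha, e⟩ := g.2
    refine Subtype.ext ?_
    show ((g ^ 2 : V) : R ⧸ Z) = 1
    rw [pow_two, Subgroup.coe_mul, ← e, ← map_mul, hsqA a ha, map_one]
  have hsc : Subgroup.centralizer (V : Set (R ⧸ Z)) ≤ V := by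
    rcases hq with ⟨m, hm, ⟨e⟩⟩ | hq
    · intro g hg
      have := dihedral_centralizer hm (V.map e.toMonoidHom) (klein_map e hVK) (x := e g) (by
        refine Subgroup.mem_centralizer_iff.2 ?_
        rintro _ ⟨v, hv, rfl⟩
        show e v * e g = e g * e v
        rw [← map_mul, ← map_mul, Subgroup.mem_centralizer_iff.1 hg v hv])
      obtain ⟨v, hv, hev⟩ := this
      rwa [← e.injective hev]
    · obtain ⟨x, y, n, hh⟩ := qdgen_exists hq
      exact (hh.klein_centralizer hVK).le
  refine le_antisymm (fun g hg => ?_) (fun a ha => Subgroup.mem_centralizer_iff.2 fun b hb =>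
    congrArg Subtype.val (hA.1.is_comm.comm (⟨b, hb⟩ : A) ⟨a, ha⟩))
  have hfg : f g ∈ V := hsc (Subgroup.mem_centralizer_iff.2 fun v hv => by
    obtain ⟨a, ha, rfl⟩ := hv
    rw [← map_mul, ← map_mul, Subgroup.mem_centralizer_iff.1 hg a ha])
  obtain ⟨a, ha, hfa⟩ := hfg
  have : a⁻¹ * g ∈ Z := QuotientGroup.eq.1 hfa
  have := A.mul_mem ha (hZA this)
  rwa [mul_inv_cancel_left] at this

end Cfsg.Agent.S1236
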