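import Cfsg.Statements.S1241
import Cfsg.Agent.Fusion.TransferTools

set_option autoImplicit false
open Cfsg

namespace Cfsg.Agent.S1241

open scoped IsMulCommutative

/-- Let G be a finite group, p a prime, H a subgroup of index prime to p, K a subgroup of H normal in H with H/K commutative, and g ∈ H ∖ K an element of p-power order such that for all integers m and all a ∈ G with a g^m a⁻¹ ∈ H one has a g^m a⁻¹ ∈ g^m K. Then g ∉ G'. -/
theorem result {G : Type*} [Group G] [Finite G] {p : ℕ} [Fact p.Prime] (H K : Subgroup G) (hHK : K ≤ H) (hKn : (K.subgroupOf H).Normal) (hab : ∀ x ∈ H, ∀ y ∈ H, x * y * x⁻¹ * y⁻¹ ∈ K) (hidx : Nat.Coprime p H.index) (g : G) (hgH : g ∈ H) (hgK : g ∉ K) (hgp : ∃ k : ℕ, orderOf g = p ^ k) (hctrl : ∀ (m : ℤ) (a : G), a * g ^ m * a⁻¹ ∈ H → (a * g ^ m * a⁻¹) * (g ^ m)⁻¹ ∈ K) : g ∉ commutator G := by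
  have hcomm : IsMulCommutative (H ⧸ K.subgroupOf H) :=
    Subgroup.Normal.quotient_commutative_iff_commutator_le.mpr <| by
      rw [commutator_def, Subgroup.commutator_le]
      intro x _ y _
      rw [Subgroup.mem_subgroupOf, commutatorElement_def]
      exact hab x x.2 y y.2
  intro hg
  have key : MonoidHom.transfer (QuotientGroup.mk' (K.subgroupOf H)) g
      = (QuotientGroup.mk' (K.subgroupOf H) ⟨g, hgH⟩) ^ H.index := by
    refine Fusion.transfer_apply_eq_pow _ (⟨g, hgH⟩ : H) fun k a hk => ?_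
    simp only [QuotientGroup.mk'_apply]
    rw [eq_comm, QuotientGroup.eq, Subgroup.mem_subgroupOf]
    have h := hctrl k a (by simpa using hk)
    simp only [zpow_natCast] at h
    set y := a * g ^ k * a⁻¹
    set z := g ^ k
    have h1 : z⁻¹ * (y * z⁻¹) * z ∈ K := by
      simpa [Subgroup.mem_subgroupOf] using
        hKn.conj_mem ⟨y * z⁻¹, hHK h⟩ (by simpa [Subgroup.mem_subgroupOf] using h)
          (⟨g ^ k, H.pow_mem hgH k⟩ : H)⁻¹
    simpa [y, z, mul_assoc] using h1
  rw [MonoidHom.mem_ker.mp (Abelianization.commutator_subset_ker (MonoidHom.transfer (QuotientGroup.mk' (K.subgroupOf H))) hg)] at key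
  obtain ⟨k, hk⟩ := hgp
  set q := QuotientGroup.mk' (K.subgroupOf H) ⟨g, hgH⟩
  have h1 : q ^ (p ^ k) = 1 := by
    rw [← map_pow]
    have : (⟨g, hgH⟩ : H) ^ (p ^ k) = 1 := Subtype.ext (by simp [← hk, pow_orderOf_eq_one])
    rw [this, map_one]
  have h2 : q = 1 := orderOf_eq_one_iff.mp <|
    Nat.eq_one_of_dvd_coprimes (hidx.pow_left k) (orderOf_dvd_of_pow_eq_one h1)
      (orderOf_dvd_of_pow_eq_one key.symm)
  apply hgK
  simpa [q, QuotientGroup.eq_one_iff, Subgroup.mem_subgroupOf] using h2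

end Cfsg.Agent.S1241
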