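import Cfsg.Statements.S1242
import Cfsg.Agent.Fusion.TransferTools

set_option autoImplicit false
open Cfsg

namespace Cfsg.Agent.S1242

open scoped IsMulCommutative

/-- Let G be a finite group, p a prime and H a subgroup of index prime to p such that any two elements of H of p-power order that are conjugate in G are conjugate in H. Then (O^p(G)·G') ∩ H = O^p(H)·H', where O^p denotes the subgroup generated by the elements of order prime to p. -/
theorem result {G : Type*} [Group G] [Finite G] {p : ℕ} [Fact p.Prime] (H : Subgroup G) (hidx : Nat.Coprime p H.index) (hfus : ∀ g ∈ H, (∃ k : ℕ, orderOf g = p ^ k) → ∀ a : G, a * g * a⁻¹ ∈ H → ∃ h ∈ H, h * g * h⁻¹ = a * g * a⁻¹) : (Cfsg.pResidual p G ⊔ commutator G) ⊓ H = (Cfsg.pResidual p ↥H ⊔ commutator ↥H).map H.subtype := by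
  have hp : p.Prime := Fact.out
  set K : Subgroup H := Cfsg.pResidual p ↥H ⊔ commutator ↥H
  have hgen : ∀ x : H, (orderOf x).Coprime p → x ∈ K := fun x hx =>
    Subgroup.mem_sup_left (Subgroup.subset_closure hx)
  have hKn : K.Normal := Subgroup.Normal.of_commutator_le H le_sup_right
  have : IsMulCommutative (H ⧸ K) :=
    Subgroup.Normal.quotient_commutative_iff_commutator_le.mpr le_sup_right
  -- split off the `p`-part of an element
  have hsplit : ∀ n : ℕ, 0 < n → ∃ a m : ℕ, n = p ^ a * m ∧ m.Coprime p ∧ 0 < m := fun n hn =>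
    ⟨n.factorization p, n / p ^ n.factorization p, (Nat.ordProj_mul_ordCompl_eq_self n p).symm,
      (Nat.coprime_ordCompl hp hn.ne').symm, Nat.ordCompl_pos p hn.ne'⟩
  -- the quotient is a `p`-group
  have hpq : ∀ x : H, ∃ a : ℕ, (QuotientGroup.mk' K x) ^ p ^ a = 1 := by
    intro x
    obtain ⟨a, m, h1, h2, h3⟩ := hsplit (orderOf x) (orderOf_pos x)
    refine ⟨a, ?_⟩
    rw [← map_pow, QuotientGroup.mk'_apply, QuotientGroup.eq_one_iff]
    refine hgen _ ?_
    rw [orderOf_pow_of_dvd (pow_pos hp.pos _).ne' (h1 ▸ dvd_mul_right _ _), h1,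
      Nat.mul_div_cancel_left _ (pow_pos hp.pos _)]
    exact h2
  set V := MonoidHom.transfer (QuotientGroup.mk' K)
  have hL : Cfsg.pResidual p G ⊔ commutator G ≤ V.ker := by
    refine sup_le ?_ (Abelianization.commutator_subset_ker V)
    rw [Cfsg.pResidual, Subgroup.closure_le]
    intro g (hg : (orderOf g).Coprime p)
    obtain ⟨x, hx⟩ := QuotientGroup.mk'_surjective K (V g)
    obtain ⟨a, ha⟩ := hpq x
    rw [hx] at ha
    exact MonoidHom.mem_ker.mpr <| orderOf_eq_one_iff.mp <|
      Nat.eq_one_of_dvd_coprimes (hg.pow_right a) (orderOf_map_dvd V g)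
        (orderOf_dvd_of_pow_eq_one ha)
  apply le_antisymm
  · rintro g ⟨hgL, hgH⟩
    refine ⟨⟨g, hgH⟩, ?_, rfl⟩
    set x : H := ⟨g, hgH⟩
    obtain ⟨a, m, h1, h2, h3⟩ := hsplit (orderOf x) (orderOf_pos x)
    have hy : orderOf (x ^ m) = p ^ a := by
      rw [orderOf_pow_of_dvd h3.ne' (h1 ▸ dvd_mul_left _ _), h1, Nat.mul_div_cancel _ h3]
    have key : V ((x ^ m : H) : G) = QuotientGroup.mk' K (x ^ m) ^ H.index := by
      refine Fusion.transfer_apply_eq_pow _ _ fun k b hk => ?_
      have hord : ∃ j, orderOf ((x ^ m : H) ^ k : H).1 = p ^ j := by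
        rw [Subgroup.orderOf_coe]
        obtain ⟨j, _, hj⟩ := (Nat.dvd_prime_pow hp).mp (hy ▸ orderOf_pow_dvd k)
        exact ⟨j, hj⟩
      obtain ⟨h, hh, he⟩ := hfus _ ((x ^ m) ^ k).2 hord b (by simpa using hk)
      have e : (⟨b * ((x ^ m : H) : G) ^ k * b⁻¹, hk⟩ : H)
          = (⟨h, hh⟩ : H) * (x ^ m) ^ k * (⟨h, hh⟩ : H)⁻¹ := Subtype.ext (by simpa using he.symm)
      rw [e, map_mul, map_mul, map_inv, mul_comm (QuotientGroup.mk' K ⟨h, hh⟩), mul_inv_cancel_right]
    have hxm : V ((x ^ m : H) : G) = 1 := by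
      rw [SubgroupClass.coe_pow, map_pow, MonoidHom.mem_ker.mp (hL hgL), one_pow]
    rw [hxm] at key
    have h4 : QuotientGroup.mk' K (x ^ m) = 1 := by
      refine orderOf_eq_one_iff.mp <| Nat.eq_one_of_dvd_coprimes (hidx.pow_left a) ?_
        (orderOf_dvd_of_pow_eq_one key.symm)
      exact hy ▸ orderOf_map_dvd _ _
    obtain ⟨b, hb⟩ := hpq x
    have h5 : orderOf (QuotientGroup.mk' K x) = 1 :=
      Nat.eq_one_of_dvd_coprimes ((h2.pow_right b))
        (orderOf_dvd_of_pow_eq_one (by rwa [← map_pow]))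
        (orderOf_dvd_of_pow_eq_one hb)
    simpa [orderOf_eq_one_iff, QuotientGroup.eq_one_iff] using h5
  · refine le_inf ?_ (Subgroup.map_subtype_le _)
    rw [Subgroup.map_sup]
    refine sup_le_sup ?_ ?_
    · rw [Cfsg.pResidual, MonoidHom.map_closure, Subgroup.closure_le]
      rintro _ ⟨x, hx, rfl⟩
      refine Subgroup.subset_closure ?_
      simpa using hx
    · rw [commutator_def, commutator_def, Subgroup.map_commutator]
      exact Subgroup.commutator_mono le_top le_top

end Cfsg.Agent.S1242
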