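import Cfsg.Statements.S1243

set_option autoImplicit false
open Cfsg
open scoped Pointwise

namespace Cfsg.Agent.S1243

/-- Let T be a Sylow p-subgroup of the finite group G and W ≤ T a subgroup weakly closed in T. If d and g d g⁻¹ both centralize W, then g d g⁻¹ = h d h⁻¹ for some h ∈ N_G(W). -/
theorem result {G : Type*} [Group G] [Finite G] {p : ℕ} [Fact p.Prime] (T : Sylow p G) (W : Subgroup G) (hW : Cfsg.IsWeaklyClosed W (T : Subgroup G)) (d g : G) (hd : d ∈ Subgroup.centralizer (W : Set G)) (hgd : g * d * g⁻¹ ∈ Subgroup.centralizer (W : Set G)) : ∃ h ∈ Subgroup.normalizer (W : Set G), h * d * h⁻¹ = g * d * g⁻¹ := by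
  set e := g * d * g⁻¹ with he
  set C := Subgroup.centralizer ({e} : Set G)
  set gW := W.map (MulAut.conj g).toMonoidHom
  have hWC : W ≤ C := fun w hw => Subgroup.mem_centralizer_singleton_iff.mpr
    (Subgroup.mem_centralizer_iff.mp hgd w hw)
  have hgWC : gW ≤ C := by
    rintro _ ⟨w, hw, rfl⟩
    refine Subgroup.mem_centralizer_singleton_iff.mpr ?_
    have : w * d = d * w := Subgroup.mem_centralizer_iff.mp hd w hw
    simp only [he, MulEquiv.coe_toMonoidHom, MulAut.conj_apply]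
    simp [mul_assoc, this]
    rw [← mul_assoc w d, this, mul_assoc]
  have hWp : IsPGroup p W := T.2.to_le hW.1
  obtain ⟨P₀, hP₀⟩ := (hWp.of_equiv (Subgroup.subgroupOfEquivOfLe hWC).symm).exists_le_sylow
  obtain ⟨P₁, hP₁⟩ :=
    ((hWp.map (MulAut.conj g).toMonoidHom).of_equiv
      (Subgroup.subgroupOfEquivOfLe hgWC).symm).exists_le_sylow
  obtain ⟨c, hc⟩ := MulAction.exists_smul_eq C P₀ P₁
  obtain ⟨T', hT'⟩ := (P₀.2.map C.subtype).exists_le_sylow
  obtain ⟨a, ha⟩ := MulAction.exists_smul_eq G T T'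
  -- membership in a conjugate of `T`
  have hmem : ∀ x : G, x ∈ T' → a⁻¹ * x * a ∈ (T : Subgroup G) := by
    intro x hx
    rw [← ha] at hx
    change x ∈ ((MulAut.conj a • T : Sylow p G) : Subgroup G) at hx
    rw [Sylow.pointwise_smul_def] at hx
    obtain ⟨t, ht, rfl⟩ := hx
    show a⁻¹ * (a * t * a⁻¹) * a ∈ (T : Subgroup G)
    rw [show a⁻¹ * (a * t * a⁻¹) * a = t by simp [mul_assoc]]
    exact ht
  have hW' : ∀ x ∈ W, x ∈ T' := fun x hx =>
    hT' ⟨⟨x, hWC hx⟩, hP₀ (by simpa [Subgroup.mem_subgroupOf] using hx), rfl⟩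
  have hgW' : ∀ x ∈ W, (c : G)⁻¹ * (g * x * g⁻¹) * c ∈ T' := by
    intro x hx
    have h1 : (⟨g * x * g⁻¹, hgWC ⟨x, hx, rfl⟩⟩ : C) ∈ (P₁ : Subgroup C) :=
      hP₁ (Subgroup.mem_subgroupOf.mpr ⟨x, hx, rfl⟩)
    rw [← hc] at h1
    change _ ∈ ((MulAut.conj c • P₀ : Sylow p C) : Subgroup C) at h1
    rw [Sylow.pointwise_smul_def] at h1
    obtain ⟨t, ht, ht'⟩ := h1
    have ht'' : (c : G) * t * (c : G)⁻¹ = g * x * g⁻¹ := congrArg Subtype.val ht'
    exact hT' ⟨t, ht, by rw [← ht'']; simp [mul_assoc]⟩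
  have e1 := hW.2 a⁻¹ (by
    rintro _ ⟨x, hx, rfl⟩
    simpa using hmem x (hW' x hx))
  have e2 := hW.2 (a⁻¹ * ((c : G)⁻¹ * g)) (by
    rintro _ ⟨x, hx, rfl⟩
    simpa [mul_assoc] using hmem _ (hgW' x hx))
  refine ⟨(c : G)⁻¹ * g, ?_, ?_⟩
  · rw [Subgroup.mem_normalizer_iff]
    intro x
    constructor
    · intro hx
      have h1 : (a⁻¹ * ((c : G)⁻¹ * g)) * x * (a⁻¹ * ((c : G)⁻¹ * g))⁻¹ ∈ W := by
        rw [← e2]; exact ⟨x, hx, rfl⟩
      rw [← e1] at h1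
      obtain ⟨w, hw, hw'⟩ := h1
      simp only [MulEquiv.coe_toMonoidHom, MulAut.conj_apply] at hw'
      have : w = ((c : G)⁻¹ * g) * x * ((c : G)⁻¹ * g)⁻¹ := by
        have := congrArg (fun y => a * y * a⁻¹) hw'
        simpa [mul_assoc] using this
      exact this ▸ hw
    · intro hx
      have h1 : a⁻¹ * (((c : G)⁻¹ * g) * x * ((c : G)⁻¹ * g)⁻¹) * a⁻¹⁻¹ ∈ W := by
        rw [← e1]; exact ⟨_, hx, rfl⟩
      rw [← e2] at h1
      obtain ⟨w, hw, hw'⟩ := h1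
      simp only [MulEquiv.coe_toMonoidHom, MulAut.conj_apply] at hw'
      have : w = x := by simpa [mul_assoc] using hw'
      exact this ▸ hw
  · have h1 := Subgroup.mem_centralizer_singleton_iff.mp c.2
    calc (c : G)⁻¹ * g * d * ((c : G)⁻¹ * g)⁻¹ = (c : G)⁻¹ * (e * c) := by simp [he, mul_assoc]
      _ = e := by rw [← h1, inv_mul_cancel_left]

end Cfsg.Agent.S1243
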