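import Cfsg.Statements.S1244
import Cfsg.Agent.Fusion.TransferTools

set_option autoImplicit false
open Cfsg

namespace Cfsg.Agent.S1244

open Subgroup

open scoped IsMulCommutative

variable {G : Type*} [Group G]

/-- The involutions of a commutative subgroup, with `1`. -/
def omega (S : Subgroup G) (hS : IsMulCommutative S) : Subgroup G where
  carrier := {x | x ∈ S ∧ x ^ 2 = 1}
  mul_mem' := fun {a b} ha hb => ⟨S.mul_mem ha.1 hb.1, by
    rw [Commute.mul_pow (congrArg Subtype.val (hS.is_comm.comm ⟨a, ha.1⟩ ⟨b, hb.1⟩)), ha.2, hb.2,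
      one_mul]⟩
  one_mem' := ⟨S.one_mem, one_pow 2⟩
  inv_mem' := fun {a} ha => ⟨S.inv_mem ha.1, by rw [inv_pow, ha.2, inv_one]⟩

theorem card_omega_le [Finite G] {S T : Subgroup G} (hS : IsMulCommutative S) {k : ℕ}
    (h : PRankLE 2 k T) : Nat.card ↥(omega S hS ⊓ T) ≤ 2 ^ k := by
  rw [← Nat.card_congr (subgroupOfEquivOfLe (inf_le_right : omega S hS ⊓ T ≤ T)).toEquiv]
  refine h _ ⟨⟨fun a b => ?_⟩⟩ fun a ha => Subtype.ext (by simpa using (mem_subgroupOf.mp ha).1.2)
  refine Subtype.ext (Subtype.ext ?_)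
  have h := congrArg Subtype.val (hS.is_comm.comm ⟨_, (mem_subgroupOf.mp a.2).1.1⟩
    ⟨_, (mem_subgroupOf.mp b.2).1.1⟩)
  simpa only [coe_mul] using h

theorem lt_card_omega [Finite G] {S T : Subgroup G} (hS : IsMulCommutative S) (hTS : T ≤ S) {k : ℕ}
    (h : ¬ PRankLE 2 k T) : 2 ^ k < Nat.card ↥(omega S hS ⊓ T) := by
  simp only [PRankLE, not_forall, not_le] at h
  obtain ⟨A, -, hA2, hAc⟩ := h
  refine hAc.trans_le ?_
  rw [← card_map_of_injective (f := T.subtype) T.subtype_injective]
  exact card_le_of_le (by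
    rintro _ ⟨a, ha, rfl⟩
    exact ⟨⟨hTS a.2, by simpa using congrArg Subtype.val (hA2 a ha)⟩, a.2⟩)

theorem pow_of_pgroup [Finite G] {S : Sylow 2 G} {T : Subgroup G} (hT : T ≤ S) :
    ∃ n, Nat.card T = 2 ^ n :=
  IsPGroup.iff_card.mp (S.2.to_le hT)

/-- Let G be a finite group with no subgroup of index 2 whose Sylow 2-subgroup S is commutative, and let R ≤ S be a subgroup whose 2-rank is exactly one less than the 2-rank r of S. Then every involution of S is conjugate, by an element of N_G(S), to an element of R. -/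
theorem result {G : Type*} [Group G] [Finite G] (hG : ∀ H : Subgroup G, H.index ≠ 2) (S : Sylow 2 G) (hS : IsMulCommutative (S : Subgroup G)) (r : ℕ) (hr1 : 1 ≤ r) (hSr : Cfsg.PRankLE 2 r (S : Subgroup G) ∧ ¬ Cfsg.PRankLE 2 (r - 1) (S : Subgroup G)) (R : Subgroup G) (hRS : R ≤ S) (hRr : Cfsg.PRankLE 2 (r - 1) R ∧ (r = 1 ∨ ¬ Cfsg.PRankLE 2 (r - 2) R)) (t : G) (ht : orderOf t = 2) (htS : t ∈ S) : ∃ n ∈ Subgroup.normalizer ((S : Subgroup G) : Set G), n * t * n⁻¹ ∈ R := by
  classical
  set E := omega (S : Subgroup G) hS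
  have hES : E ≤ S := fun x hx => hx.1
  -- sizes
  have hEc : Nat.card E = 2 ^ r := by
    have h1 := card_omega_le hS hSr.1
    have h2 := lt_card_omega hS le_rfl hSr.2
    rw [show omega (S : Subgroup G) hS ⊓ (S : Subgroup G) = E from inf_of_le_left hES] at h1 h2
    obtain ⟨n, hn⟩ := pow_of_pgroup hES
    rw [hn] at h1 h2 ⊢
    have := (Nat.pow_le_pow_iff_right (by norm_num)).mp h1
    have := (Nat.pow_lt_pow_iff_right (by norm_num)).mp h2
    congr 1; omega
  have hFc : Nat.card ↥(E ⊓ R) = 2 ^ (r - 1) := by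
    have h1 := card_omega_le hS hRr.1
    obtain ⟨n, hn⟩ := pow_of_pgroup ((inf_le_left : E ⊓ R ≤ E).trans hES)
    rw [hn] at h1 ⊢
    have := (Nat.pow_le_pow_iff_right (by norm_num)).mp h1
    congr 1
    rcases hRr.2 with h | h
    · omega
    · have h2 := lt_card_omega hS hRS h
      rw [hn] at h2
      have := (Nat.pow_lt_pow_iff_right (by norm_num)).mp h2
      omega
  have hindex : ((E ⊓ R).subgroupOf E).index = 2 := by
    have h := card_mul_index ((E ⊓ R).subgroupOf E)
    rw [Nat.card_congr (subgroupOfEquivOfLe inf_le_left).toEquiv, hFc, hEc,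
      show (2 : ℕ) ^ r = 2 ^ (r - 1) * 2 from by rw [← pow_succ]; congr 1; omega] at h
    exact Nat.eq_of_mul_eq_mul_left (by positivity) h
  by_contra hno
  simp only [not_exists, not_and] at hno
  set N := normalizer ((S : Subgroup G) : Set G)
  have htE : t ∈ E := ⟨htS, by rw [← ht]; exact pow_orderOf_eq_one t⟩
  have hconjE : ∀ n ∈ N, ∀ x ∈ E, n * x * n⁻¹ ∈ E := fun n hn x hx =>
    ⟨(mem_normalizer_iff.mp hn x).mp hx.1, by rw [conj_pow, hx.2, mul_one, mul_inv_cancel]⟩
  -- the product over the orbit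
  let act : N → E := fun n => ⟨(n : G) * t * (n : G)⁻¹, hconjE n n.2 t htE⟩
  have : IsMulCommutative E := ⟨⟨fun a b => Subtype.ext <| by
    have h := congrArg Subtype.val (hS.is_comm.comm ⟨a, hES a.2⟩ ⟨b, hES b.2⟩)
    simpa only [coe_mul] using h⟩⟩
  have : Fintype N := Fintype.ofFinite N
  let O : Finset E := Finset.univ.image act
  let P : E := ∏ x ∈ O, x
  have hodd : Odd O.card := by
    let C : Subgroup N := (Subgroup.centralizer ({t} : Set G)).subgroupOf N
    have hfib : ∀ a b : N, act a = act b ↔ a⁻¹ * b ∈ C := by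
      intro a b
      simp only [act, C, Subtype.mk.injEq, mem_subgroupOf, mem_centralizer_singleton_iff,
        coe_mul, coe_inv]
      constructor
      · intro h
        have := congrArg (fun x => (a : G)⁻¹ * x * (b : G)) h
        simpa [mul_assoc] using this.symm
      · intro h
        have := congrArg (fun x => (a : G) * x * (b : G)⁻¹) h
        simpa [mul_assoc] using this.symm
    have hcard : O.card = C.index := by
      rw [index, ← Nat.card_coe_set_eq (O : Set E) |>.trans (Set.ncard_coe_finset O)]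
      refine (Nat.card_congr (Equiv.ofBijective (fun q : N ⧸ C => Quotient.liftOn' q
        (fun n => (⟨act n, Finset.mem_image_of_mem _ (Finset.mem_univ _)⟩ : (O : Set E)))
        (fun a b h => Subtype.ext ((hfib a b).mpr (QuotientGroup.leftRel_apply.mp h)))) ⟨?_, ?_⟩)).symm
      · rintro ⟨a⟩ ⟨b⟩ h
        exact Quotient.sound' (QuotientGroup.leftRel_apply.mpr ((hfib a b).mp (congrArg Subtype.val h)))
      · rintro ⟨x, hx⟩
        obtain ⟨n, -, rfl⟩ := Finset.mem_image.mp hx
        exact ⟨n, rfl⟩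
    rw [hcard, ← Nat.not_even_iff_odd, even_iff_two_dvd]
    intro h2
    refine S.not_dvd_index (h2.trans (dvd_trans ?_ (Dvd.intro _ (relIndex_mul_index le_normalizer))))
    refine index_dvd_of_le fun s hs => ?_
    rw [mem_subgroupOf] at hs ⊢
    exact mem_centralizer_singleton_iff.mpr
      (congrArg Subtype.val (hS.is_comm.comm ⟨s, hs⟩ ⟨t, htS⟩))
  have hPfix : ∀ n : N, (n : G) * (P : G) * (n : G)⁻¹ = P := by
    intro n
    let ψ : E →* E :=
      { toFun := fun x => ⟨(n : G) * x * (n : G)⁻¹, hconjE n n.2 x x.2⟩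
        map_one' := Subtype.ext (by simp)
        map_mul' := fun a b => Subtype.ext (by simp [mul_assoc]) }
    have : ψ P = P := by
      rw [map_prod]
      refine Finset.prod_nbij ψ ?_ ?_ ?_ (fun x _ => rfl)
      · intro x hx
        obtain ⟨m, -, rfl⟩ := Finset.mem_image.mp hx
        exact Finset.mem_image.mpr ⟨n * m, Finset.mem_univ _, Subtype.ext (by simp [act, ψ, mul_assoc])⟩
      · intro x _ y _ h
        exact Subtype.ext (mul_left_cancel (mul_right_cancel (congrArg Subtype.val h)))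
      · intro x hx
        obtain ⟨m, -, rfl⟩ := Finset.mem_image.mp hx
        exact ⟨act (n⁻¹ * m), Finset.mem_image.mpr ⟨_, Finset.mem_univ _, rfl⟩,
          Subtype.ext (by simp [act, ψ, mul_assoc])⟩
    exact congrArg Subtype.val this
  have hPout : P ∉ (E ⊓ R).subgroupOf E := by
    have key : ∀ s : Finset E, s ⊆ O → ((∏ x ∈ s, x) ∈ (E ⊓ R).subgroupOf E ↔ Even s.card) := by
      intro s
      induction s using Finset.induction with
      | empty => simp
      | insert x s hx ih =>
        intro hs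
        rw [Finset.prod_insert hx, mul_mem_iff_of_index_two hindex,
          ih ((Finset.subset_insert _ _).trans hs), Finset.card_insert_of_notMem hx, Nat.even_add_one]
        obtain ⟨n, -, rfl⟩ := Finset.mem_image.mp (hs (Finset.mem_insert_self _ _))
        have : act n ∉ (E ⊓ R).subgroupOf E := fun h => hno n n.2 (mem_subgroupOf.mp h).2
        tauto
    rw [show P = ∏ x ∈ O, x from rfl, key O Finset.Subset.rfl, Nat.not_even_iff_odd]
    exact hodd
  have hP1 : (P : G) ≠ 1 := fun h => hPout (by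
    rw [show P = 1 from Subtype.ext h]; exact one_mem _)
  -- transfer to `S` does not kill it
  let V : G →* (S : Subgroup G) := MonoidHom.transfer (MonoidHom.id (S : Subgroup G))
  have hV : V (P : G) ≠ 1 := by
    have h := Fusion.transfer_apply_eq_pow (MonoidHom.id (S : Subgroup G))
      (⟨P, hES P.2⟩ : (S : Subgroup G)) fun k a hk => Subtype.ext ?_
    · intro h1
      rw [show MonoidHom.transfer (MonoidHom.id (S : Subgroup G)) (P : G) = 1 from h1] at h
      have h2 : (P : G) ^ (S : Subgroup G).index = 1 := by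
        simpa using (congrArg Subtype.val h).symm
      have h3 : orderOf (P : G) ∣ 2 := orderOf_dvd_of_pow_eq_one P.2.2
      have hcop : Nat.Coprime 2 (S : Subgroup G).index :=
        (Nat.Prime.coprime_iff_not_dvd Nat.prime_two).mpr S.not_dvd_index
      exact hP1 (orderOf_eq_one_iff.mp
        (Nat.eq_one_of_dvd_coprimes hcop h3 (orderOf_dvd_of_pow_eq_one h2)))
    · obtain ⟨n, hn, he⟩ := S.conj_eq_normalizer_conj_of_mem ((P : G) ^ k) a⁻¹
        (pow_mem (hES P.2) k) (show a⁻¹⁻¹ * (P : G) ^ k * a⁻¹ ∈ (S : Subgroup G) by simpa [-Sylow.coe_coe] using hk)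
      simp only [inv_inv] at he
      show a * (P : G) ^ k * a⁻¹ = (P : G) ^ k
      rw [he]
      have := hPfix ⟨n, hn⟩⁻¹
      simp only [coe_inv, inv_inv] at this
      calc n⁻¹ * (P : G) ^ k * n = (n⁻¹ * (P : G) * n) ^ k := by
            simpa using (conj_pow (a := n⁻¹) (b := (P : G)) (i := k)).symm
        _ = _ := by rw [this]
  -- hence a subgroup of index two
  obtain ⟨m, hm⟩ := IsPGroup.iff_card.mp (S.2.to_subgroup V.range)
  have hm0 : m ≠ 0 := by
    rintro rfl
    rw [pow_zero, card_eq_one] at hm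
    exact hV ((mem_bot).mp (hm ▸ ⟨_, rfl⟩ : V (P : G) ∈ (⊥ : Subgroup (S : Subgroup G))))
  obtain ⟨K, hK⟩ := Sylow.exists_subgroup_card_pow_prime (G := V.range) 2 (n := m - 1)
    (hm ▸ pow_dvd_pow 2 (Nat.sub_le m 1))
  refine hG (K.comap V.rangeRestrict) ?_
  rw [index_comap_of_surjective _ V.rangeRestrict_surjective]
  have h := card_mul_index K
  rw [hK, hm, show (2 : ℕ) ^ m = 2 ^ (m - 1) * 2 from by rw [← pow_succ]; congr 1; omega] at h
  exact Nat.eq_of_mul_eq_mul_left (by positivity) h

end Cfsg.Agent.S1244
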