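import Cfsg.Statements.S1246
import Cfsg.Agent.Layer.PConstraint
import Cfsg.Agent.Coprime.PCoreTools
import Cfsg.Agent.Fusion.Alperin

set_option autoImplicit false
open Cfsg

namespace Cfsg.Agent.S1246

set_option maxHeartbeats 400000
open Subgroup

variable {G : Type*} [Group G] [Finite G] {p : ℕ} [Fact p.Prime]

theorem selfCentral_step {U V : Subgroup G} (hU : IsPGroup p U) (hVU : V ≤ U)
    (hn : U ≤ normalizer (V : Set G))
    (h : Layer.PCoreSelfCentral p ↥(centralizer (V : Set G))) :
    Layer.PCoreSelfCentral p ↥(centralizer (U : Set G)) := by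
  set X := centralizer (V : Set G) with hX
  set C := centralizer (U : Set G) with hC
  have hCX : C ≤ X := centralizer_le hVU
  set O := (Cfsg.pCore p X).map X.subtype with hO
  have hUX : U ≤ normalizer (X : Set G) := hn.trans fun g hg => by
    exact (normal_subgroupOf_iff_le_normalizer (centralizer_le_normalizer (V : Set G))).mp inferInstance hg
  refine Layer.subnormal_le_pCore (Subgroup.Normal.isSubnormal inferInstance) ?_
  by_contra hne
  obtain ⟨q, hq, hq1, hqo⟩ := Layer.exists_coprime_orderOf hne
  refine hq1 (Subtype.ext ?_)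
  have hqo' : (orderOf (q : G)).Coprime p := by rwa [Subgroup.orderOf_coe]
  have hUq : U ≤ centralizer (zpowers (q : G) : Set G) := by
    rw [le_centralizer_iff, zpowers_le]
    exact q.2
  have hQO : zpowers (q : G) ≤ normalizer (O : Set G) := by
    rw [zpowers_le, hO]
    have h1 : X ≤ normalizer (O : Set G) :=
      Coprime.le_normalizer_map_of_characteristic Subgroup.le_normalizer _ inferInstance
    exact h1 (hCX q.2)
  have hcen : O ⊓ centralizer (U : Set G) ≤ centralizer (zpowers (q : G) : Set G) := by
    intro x hx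
    obtain ⟨hxO, hxC⟩ := mem_inf.mp hx
    have hx' : (⟨x, hxC⟩ : C) ∈ Cfsg.pCore p C := by
      haveI : ((O ⊓ C).subgroupOf C).Normal :=
        (normal_subgroupOf_iff_le_normalizer inf_le_right).mpr
          ((le_inf (hCX.trans (Coprime.le_normalizer_map_of_characteristic Subgroup.le_normalizer _
            inferInstance)) Subgroup.le_normalizer).trans Subgroup.inf_normalizer_le_normalizer_inf)
      exact Core.le_pCore (N := (O ⊓ C).subgroupOf C)
        (((Core.pCore_isPGroup.map X.subtype).to_le inf_le_left).comap_of_injective C.subtype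
          C.subtype_injective) (mem_subgroupOf.mpr hx)
    have h2 := congrArg Subtype.val (mem_centralizer_iff.mp hq _ hx')
    refine mem_centralizer_iff.mpr fun y hy => ?_
    obtain ⟨n, rfl⟩ := hy
    exact ((show Commute (x : G) (q : G) from h2).zpow_right n).eq.symm
  have hqO := Coprime.thompson_pxq hU (by rwa [Nat.card_zpowers]) (Core.pCore_isPGroup.map X.subtype)
    hUq (Coprime.le_normalizer_map_of_characteristic hUX _ inferInstance) hQO hcen
  rw [zpowers_le] at hqO
  have hmem : (⟨(q : G), hCX q.2⟩ : X) ∈ Cfsg.pCore p X := h (mem_centralizer_iff.mpr fun y hy =>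
    Subtype.ext (mem_centralizer_iff.mp hqO _ ⟨y, hy, rfl⟩))
  obtain ⟨a, ha⟩ := IsPGroup.iff_orderOf.mp Core.pCore_isPGroup ⟨_, hmem⟩
  rw [Subgroup.orderOf_mk, Subgroup.orderOf_mk] at ha
  rw [ha] at hqo'
  rcases a with _ | a
  · exact orderOf_eq_one_iff.mp (by simpa using ha)
  · exact absurd ((Nat.coprime_pow_left_iff (Nat.succ_pos a) _ _).mp hqo')
      (by rw [Nat.coprime_self]; exact (Fact.out : p.Prime).one_lt.ne')

theorem selfCentral_mono {U : Subgroup G} (hU : IsPGroup p U) :
    ∀ (n : ℕ) (V : Subgroup G), Nat.card U - Nat.card V ≤ n → V ≤ U →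
      Layer.PCoreSelfCentral p ↥(centralizer (V : Set G)) →
      Layer.PCoreSelfCentral p ↥(centralizer (U : Set G)) := by
  intro n
  induction n with
  | zero =>
    intro V hn hVU h
    rwa [← eq_of_le_of_card_ge hVU (by omega)]
  | succ n ih =>
    intro V hn hVU h
    rcases hVU.eq_or_lt with rfl | hlt
    · exact h
    · have hlt' := Fusion.lt_inf_normalizer_of_isPGroup hU hlt
      have h1 : Nat.card V < Nat.card (U ⊓ normalizer (V : Set G) : Subgroup G) := by
        by_contra hcon
        exact hlt'.ne (eq_of_le_of_card_ge hlt'.le (not_lt.mp hcon))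
      exact ih _ (by omega) inf_le_left
        (selfCentral_step (hU.to_le inf_le_left) hlt'.le inf_le_right h)

/-- Let V ≤ U be p-subgroups of the finite group G. If the generalized Fitting subgroup of C_G(V) is a p-group, then so is that of C_G(U). -/
theorem result {G : Type*} [Group G] [Finite G] {p : ℕ} [Fact p.Prime] (U V : Subgroup G) (hVU : V ≤ U) (hU : IsPGroup p U) (hV : IsPGroup p ↥(Cfsg.generalizedFittingSubgroup ↥(Subgroup.centralizer (V : Set G)))) : IsPGroup p ↥(Cfsg.generalizedFittingSubgroup ↥(Subgroup.centralizer (U : Set G))) := by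
  set X := centralizer (V : Set G) with hX
  have hsc : Layer.PCoreSelfCentral p ↥X := by
    rw [← Layer.generalizedFitting_eq_pCore_iff]
    haveI : (Cfsg.generalizedFittingSubgroup ↥X).Normal := inferInstance
    exact le_antisymm (Core.le_pCore hV)
      ((Core.pCore_le_fittingSubgroup p).trans Layer.fitting_le_generalizedFitting)
  have h := selfCentral_mono hU (Nat.card U) V (by omega) hVU hsc
  rw [← Layer.generalizedFitting_eq_pCore_iff] at h
  rw [h]
  exact Core.pCore_isPGroup

end Cfsg.Agent.S1246
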