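import Cfsg.Statements.S1247
import Cfsg.Agent.Bender.SelfCentralFitting

set_option autoImplicit false
open Cfsg

namespace Cfsg.Agent.S1247

open Subgroup in
theorem normalizer_map_le {G : Type*} [Group G] [IsSimpleGroup G] {A : Subgroup G}
    (hA : IsCoatom A) {N : Subgroup A} (hN : N.Normal) (hne : N ≠ ⊥) :
    Subgroup.normalizer ((N.map A.subtype : Subgroup G) : Set G) ≤ A := by
  have hle : A ≤ normalizer ((N.map A.subtype : Subgroup G) : Set G) :=
    (normal_subgroupOf_iff_le_normalizer (map_subtype_le N)).mp (by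
      rwa [subgroupOf, comap_map_eq_self_of_injective A.subtype_injective])
  rcases hle.eq_or_lt with h | h
  · exact h.ge
  · exfalso
    have hn : (N.map A.subtype).Normal := normalizer_eq_top_iff.mp (hA.2 _ h)
    rcases hn.eq_bot_or_eq_top with h1 | h1
    · exact hne ((map_eq_bot_iff_of_injective _ A.subtype_injective).mp h1)
    · exact hA.1 (top_le_iff.mp (h1.ge.trans (map_subtype_le N)))

/-- Let G be a non-abelian finite simple group, A a maximal subgroup, F = F*(A) its generalized Fitting subgroup (viewed in G), and S ≤ F a subgroup subnormal in F with C_F(S) ≤ S. Let B be any subgroup of G containing S. Then (a) for every prime q not dividing |F(A)|, O_q(B) ∩ A = 1; and (b) for every prime p dividing |F(A)|, O_p(B) commutes elementwise with the subgroup of F generated by its elements of order prime to p. -/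
theorem result {G : Type*} [Group G] [Finite G] [IsSimpleGroup G] (hna : ¬ IsMulCommutative G) (A : Subgroup G) (hA : IsCoatom A) (S : Subgroup G) (hSF : S ≤ (Cfsg.generalizedFittingSubgroup ↥A).map A.subtype) (hSsn : (S.subgroupOf ((Cfsg.generalizedFittingSubgroup ↥A).map A.subtype)).IsSubnormal) (hSC : (Cfsg.generalizedFittingSubgroup ↥A).map A.subtype ⊓ Subgroup.centralizer (S : Set G) ≤ S) (B : Subgroup G) (hSB : S ≤ B) : (∀ q : ℕ, q.Prime → ¬ q ∣ Nat.card (Cfsg.fittingSubgroup ↥A) → (Cfsg.pCore q ↥B).map B.subtype ⊓ A = ⊥) ∧ (∀ p : ℕ, p.Prime → p ∣ Nat.card (Cfsg.fittingSubgroup ↥A) → ∀ x ∈ (Cfsg.pCore p ↥B).map B.subtype, ∀ y ∈ (Cfsg.pResidual p ↥(Cfsg.generalizedFittingSubgroup ↥A)).map ((Cfsg.generalizedFittingSubgroup ↥A).subtype) , x * (A.subtype y) = (A.subtype y) * x) := by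
  classical
  set E := generalizedFittingSubgroup ↥A with hE
  set S' : Subgroup A := S.subgroupOf A with hS'
  have hSA : S ≤ A := hSF.trans (Subgroup.map_subtype_le _)
  have hS'E : S' ≤ E := fun x hx => by
    obtain ⟨y, hy, hyx⟩ := hSF hx
    rwa [← A.subtype_injective hyx]
  have hS'n : S'.IsSubnormal := by
    have h1 : (S'.subgroupOf E).IsSubnormal := by
      have h := hSsn.map (f := (E.equivMapOfInjective A.subtype A.subtype_injective).symm.toMonoidHom)
        (MulEquiv.surjective _)
      convert h using 1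
      ext x
      rw [Subgroup.mem_map_equiv, MulEquiv.symm_symm]
      rfl
    have h2 := h1.trans' (Subgroup.Normal.isSubnormal inferInstance)
    rwa [Subgroup.map_subgroupOf_eq_of_le hS'E] at h2
  have hS'C : E ⊓ Subgroup.centralizer (S' : Set A) ≤ S' := fun x hx => by
    refine hSC ⟨Subgroup.mem_map_of_mem _ hx.1, Subgroup.mem_centralizer_iff.mpr fun y hy => ?_⟩
    exact congrArg Subtype.val (Subgroup.mem_centralizer_iff.mp hx.2 ⟨y, hSA hy⟩ hy)
  have hBn : ∀ q : ℕ, ∀ b ∈ B, ∀ x ∈ (Cfsg.pCore q ↥B).map B.subtype,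
      b * x * b⁻¹ ∈ (Cfsg.pCore q ↥B).map B.subtype := by
    rintro q b hb _ ⟨x, hx, rfl⟩
    exact ⟨⟨b, hb⟩ * x * ⟨b, hb⟩⁻¹, (Core.pCore_normal).conj_mem x hx _, rfl⟩
  have hPn : ∀ q : ℕ, S ≤ Subgroup.normalizer (((Cfsg.pCore q ↥B).map B.subtype : Subgroup G) : Set G) := by
    intro q s hs
    refine Subgroup.mem_normalizer_iff.mpr fun x => ⟨fun h => hBn q s (hSB hs) x h, fun h => ?_⟩
    have := hBn q s⁻¹ (B.inv_mem (hSB hs)) _ h
    simpa [mul_assoc] using this
  have hDn : ∀ q : ℕ, S' ≤ Subgroup.normalizer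
      ((((Cfsg.pCore q ↥B).map B.subtype).subgroupOf A : Subgroup A) : Set A) := by
    intro q s hs
    refine Subgroup.mem_normalizer_iff.mpr fun x => ?_
    exact Subgroup.mem_normalizer_iff.mp (hPn q hs) (x : G)
  have hDp : ∀ q : ℕ, [Fact q.Prime] → IsPGroup q
      ↥(((Cfsg.pCore q ↥B).map B.subtype).subgroupOf A) := fun q _ =>
    (Core.pCore_isPGroup.map _).comap_of_injective _ A.subtype_injective
  constructor
  · intro q hq hnd
    haveI := Fact.mk hq
    have h := Bender.eq_bot_of_not_dvd (hDp q) hS'E hS'n hS'C (hDn q) hnd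
    exact disjoint_iff.mp (Subgroup.subgroupOf_eq_bot.mp h)
  · intro p hp hdvd
    haveI := Fact.mk hp
    set P := (Cfsg.pCore p ↥B).map B.subtype with hP
    set K := Bender.primeCompl p A with hK
    suffices key : P ≤ Subgroup.centralizer ((K.map A.subtype : Subgroup G) : Set G) by
      intro x hx y hy
      refine (Subgroup.mem_centralizer_iff.mp (key hx) _ (Subgroup.mem_map_of_mem _ ?_)).symm
      exact Bender.pResidual_generalizedFitting_le hy
    have hPA : P ⊓ A ≤ Subgroup.centralizer ((K.map A.subtype : Subgroup G) : Set G) := by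
      rintro x ⟨hxP, hxA⟩
      refine Subgroup.mem_centralizer_iff.mpr ?_
      rintro _ ⟨k, hk, rfl⟩
      exact congrArg Subtype.val (Subgroup.mem_centralizer_iff.mp
        (Bender.le_centralizer_primeCompl (hDp p) hS'E hS'n hS'C (hDn p)
          (show (⟨x, hxA⟩ : A) ∈ P.subgroupOf A from hxP)) k hk)
    -- centres of the cores lie in `S`
    have hZ : ∀ r : ℕ, [Fact r.Prime] → (Subgroup.center ↥(Cfsg.pCore r A)).map
        (Cfsg.pCore r A).subtype ≤ S' ⊓ Cfsg.pCore r A := by
      intro r _
      refine le_inf (le_trans (le_inf (Subgroup.map_subtype_le _) ?_)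
        (Bender.inf_pCore_centralizer_le hS'E hS'n hS'C)) (Subgroup.map_subtype_le _)
      rw [Layer.map_center_eq_inf]
      exact inf_le_right.trans (Subgroup.centralizer_le inf_le_right)
    have hcent : ∀ r : ℕ, [Fact r.Prime] → Cfsg.pCore r A ≠ ⊥ →
        Subgroup.centralizer (((S' ⊓ Cfsg.pCore r A).map A.subtype : Subgroup G) : Set G) ≤ A := by
      intro r _ hne
      refine le_trans ((Subgroup.centralizer_le
        (Subgroup.map_mono (f := A.subtype) (hZ r))).trans (Subgroup.centralizer_le_normalizer _)) ?_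
      haveI : Nontrivial (Cfsg.pCore r A) := (Subgroup.nontrivial_iff_ne_bot _).mpr hne
      refine normalizer_map_le hA (ConjAct.normal_of_characteristic_of_normal) ?_
      intro h
      rw [Subgroup.map_eq_bot_iff_of_injective _ (Cfsg.pCore r A).subtype_injective] at h
      have := (Core.pCore_isPGroup (p := r) (G := A)).center_nontrivial
      exact (Subgroup.nontrivial_iff_ne_bot _).mp this h
    set Sp := (S' ⊓ Cfsg.pCore p A).map A.subtype with hSp
    have hSpB : Sp ≤ Subgroup.normalizer (P : Set G) := by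
      rintro _ ⟨s, hs, rfl⟩
      exact hPn p hs.1
    have hPp : IsPGroup p P := Core.pCore_isPGroup.map _
    have hne : Cfsg.pCore p A ≠ ⊥ := by
      intro h
      obtain ⟨x, hx⟩ := exists_prime_orderOf_dvd_card' (G := fittingSubgroup A) p hdvd
      have hxp : (x : A) ∈ Cfsg.pCore p A := S1451.mem_pCore_of_mem_fitting x.2
        ⟨1, by rw [pow_one, ← hx, ← Subgroup.orderOf_coe, pow_orderOf_eq_one]⟩
      rw [h, Subgroup.mem_bot] at hxp
      rw [show x = 1 from Subtype.ext hxp, orderOf_one] at hx
      exact hp.ne_one hx.symm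
    -- the part of `K` inside `S`
    have hgen : ∀ k ∈ S', k ∈ K → (orderOf k).Coprime p →
        (∀ s ∈ S' ⊓ Cfsg.pCore p A, s * k = k * s) →
        P ≤ Subgroup.centralizer ({(k : G)} : Set G) := by
      intro k hkS hkK hkp hks
      refine (Subgroup.le_centralizer_iff.mp (Coprime.thompson_pxq (p := p) (P := Sp)
        (Q := Subgroup.zpowers (k : G)) (U := P) ((Core.pCore_isPGroup.to_le inf_le_right).map _)
        (by rwa [Nat.card_zpowers, Subgroup.orderOf_coe]) hPp ?_ hSpB
        (Subgroup.zpowers_le.mpr (hPn p hkS)) ?_)).trans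
        (Subgroup.centralizer_le (by simp))
      · rintro _ ⟨s, hs, rfl⟩
        refine Subgroup.mem_centralizer_iff.mpr fun z hz => ?_
        obtain ⟨i, rfl⟩ := Subgroup.mem_zpowers_iff.mp hz
        exact ((show Commute (k : G) (s : G) from congrArg Subtype.val (hks s hs).symm).zpow_left i).eq
      · refine le_trans ((le_inf inf_le_left (inf_le_right.trans (hcent p hne))).trans hPA)
          (Subgroup.centralizer_le ?_)
        exact Subgroup.zpowers_le.mpr (Subgroup.mem_map_of_mem _ hkK)
    by_cases hex : ∃ r : Nat.Primes, (r : ℕ) ≠ p ∧ Cfsg.pCore (r : ℕ) A ≠ ⊥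
    · obtain ⟨r, hrp, hr⟩ := hex
      haveI : Fact (r : ℕ).Prime := ⟨r.2⟩
      refine le_trans (le_inf le_rfl ?_) hPA
      refine le_trans ?_ (hcent r hr)
      refine Subgroup.le_centralizer_iff.mp ?_
      rintro _ ⟨s, hs, rfl⟩
      have hsK : s ∈ K := (le_sup_right : _ ≤ K)
        ((le_iSup (fun r : {r : Nat.Primes // (r : ℕ) ≠ p} => Cfsg.pCore (r.1 : ℕ) A) ⟨r, hrp⟩) hs.2)
      have hsp : (orderOf s).Coprime p := by
        obtain ⟨a, ha⟩ := IsPGroup.iff_orderOf.mp (Core.pCore_isPGroup (p := (r : ℕ)) (G := A))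
          ⟨s, hs.2⟩
        rw [Subgroup.orderOf_mk] at ha
        rw [ha]
        exact Nat.Coprime.pow_left a ((Nat.coprime_primes r.2 hp).mpr hrp)
      refine Subgroup.mem_centralizer_iff.mpr fun x hx => ?_
      refine (Subgroup.mem_centralizer_singleton_iff.mp (hgen s hs.1 hsK hsp (fun t ht => ?_) hx))
      have h0 := (Subgroup.commute_of_normal_of_disjoint (Cfsg.pCore p A) (Cfsg.pCore (r : ℕ) A)
        Core.pCore_normal Core.pCore_normal (disjoint_iff.mpr (Subgroup.inf_eq_bot_of_coprime
          (Bender.coprime_card_of_pGroups hrp Core.pCore_isPGroup Core.pCore_isPGroup))) t s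
          ht.2 hs.2)
      exact h0
    · have hKl : K = layer A := by
        refine le_antisymm (sup_le le_rfl (iSup_le fun r => ?_)) le_sup_left
        have : Cfsg.pCore (r.1 : ℕ) A = ⊥ := by
          by_contra h
          exact hex ⟨r.1, r.2, h⟩
        rw [this]
        exact bot_le
      rw [hKl]
      have hperf : Group.IsPerfect ↥(layer A) := Subgroup.isPerfect_iff.mpr Layer.layer_perfect
      refine Subgroup.le_centralizer_iff.mp ?_
      rw [← (Subgroup.range_subtype (layer A)), MonoidHom.range_eq_map,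
        ← Bender.closure_coprime_of_perfect (p := p) hperf, MonoidHom.map_closure,
        MonoidHom.map_closure, Subgroup.closure_le]
      rintro _ ⟨_, ⟨k, hk, rfl⟩, rfl⟩
      refine Subgroup.mem_centralizer_iff.mpr fun x hx => ?_
      refine Subgroup.mem_centralizer_singleton_iff.mp (hgen k
        (Bender.layer_le_of_centralizer hS'E hS'n hS'C k.2) (by rw [hKl]; exact k.2) ?_ (fun t ht => ?_) hx)
      · rwa [show orderOf (k : A) = orderOf k from Subgroup.orderOf_coe k]
      · exact (Subgroup.mem_centralizer_iff.mp (Layer.fitting_le_centralizer_layer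
          (Core.pCore_le_fittingSubgroup p ht.2)) _ k.2).symm

end Cfsg.Agent.S1247
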