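import Cfsg.Statements.S1248
import Cfsg.Agent.PSU3Sylow.Heis

set_option autoImplicit false
open Cfsg
open Cfsg.Agent
open scoped commutatorElement

namespace Cfsg.Agent.S1248

/-- Let F be a field with 16 elements and S a Sylow 2-subgroup of PSU(3) over F (the unitary group U₃(4)). Then |S| = 64; the centre Z(S) is a Klein four-group and coincides with the subgroup generated by the involutions of S and with the derived subgroup; and every element of S ⧸ Z(S) squares to the identity, S ⧸ Z(S) having order 16. -/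
theorem result {F : Type*} [Field F] [Fintype F] (hF : Fintype.card F = 16) (S : Sylow 2 (Cfsg.PSU 3 F 4)) : Nat.card S = 64 ∧ IsKleinFour (Subgroup.center (S : Subgroup (Cfsg.PSU 3 F 4))) ∧ Subgroup.center (S : Subgroup (Cfsg.PSU 3 F 4)) = Subgroup.closure {x : (S : Subgroup (Cfsg.PSU 3 F 4)) | orderOf x = 2} ∧ Subgroup.center (S : Subgroup (Cfsg.PSU 3 F 4)) = commutator (S : Subgroup (Cfsg.PSU 3 F 4)) ∧ Nat.card ((S : Subgroup (Cfsg.PSU 3 F 4)) ⧸ Subgroup.center (S : Subgroup (Cfsg.PSU 3 F 4))) = 16 ∧ ∀ x : (S : Subgroup (Cfsg.PSU 3 F 4)) ⧸ Subgroup.center (S : Subgroup (Cfsg.PSU 3 F 4)), x ^ 2 = 1 := by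
  haveI : CharP F 2 := PSU3Sylow.charTwo (k := 4) (by rw [hF]; norm_num)
  obtain ⟨σ, hu⟩ := AutPSU.exists_uctx (q := 4) (by rw [hF]; norm_num)
  obtain ⟨e⟩ := PSU3Sylow.exists_equiv hu (m := 2) (by norm_num) (by norm_num) S
  have hS : Nat.card S = 64 := (Nat.card_congr e.toEquiv).trans
    (PSU3Sylow.Heis.card_eq.trans (by norm_num))
  have hZ : Nat.card (Subgroup.center (S : Subgroup (Cfsg.PSU 3 F 4))) = 4 :=
    (Nat.card_congr (Subgroup.centerCongr e).toEquiv).trans PSU3Sylow.Heis.card_center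
  have hmem : ∀ x : (S : Subgroup (Cfsg.PSU 3 F 4)),
      x ∈ Subgroup.center (S : Subgroup (Cfsg.PSU 3 F 4)) ↔
        e x ∈ Subgroup.center (PSU3Sylow.Heis hu) := fun x =>
    (MulEquivClass.apply_mem_center_iff e).symm
  have hsq : ∀ x : (S : Subgroup (Cfsg.PSU 3 F 4)),
      x * x = 1 ↔ x ∈ Subgroup.center (S : Subgroup (Cfsg.PSU 3 F 4)) := fun x => by
    rw [hmem, PSU3Sylow.Heis.mem_center_iff_x, ← PSU3Sylow.Heis.mul_self_eq_one_iff, ← map_mul,
      MulEquiv.map_eq_one_iff]
  haveI : Finite (S : Subgroup (Cfsg.PSU 3 F 4)) :=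
    Nat.finite_of_card_ne_zero (show Nat.card S ≠ 0 by omega)
  have hexp : ∀ z : Subgroup.center (S : Subgroup (Cfsg.PSU 3 F 4)), z * z = 1 := fun z =>
    Subtype.ext ((hsq _).mpr z.2)
  refine ⟨hS, ⟨hZ, ?_⟩, ?_, ?_, ?_, ?_⟩
  · haveI : Nontrivial (Subgroup.center (S : Subgroup (Cfsg.PSU 3 F 4))) :=
      Finite.one_lt_card_iff_nontrivial.mp (by omega)
    exact Monoid.exponent_eq_prime_iff Nat.prime_two |>.mpr fun z hz =>
      orderOf_eq_prime (by rw [pow_two, hexp]) hz
  · refine le_antisymm (fun x hx => ?_) ((Subgroup.closure_le _).mpr fun x hx => ?_)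
    · by_cases h1 : x = 1
      · rw [h1]; exact one_mem _
      · exact Subgroup.subset_closure (orderOf_eq_prime (by rw [pow_two]; exact (hsq x).mpr hx) h1)
    · exact (hsq x).mp (by rw [← pow_two]; exact (orderOf_eq_iff two_pos).mp hx |>.1)
  · refine le_antisymm (fun x hx => ?_) ?_
    · obtain ⟨a, b, hab⟩ := PSU3Sylow.Heis.center_le_commutator ((hmem x).mp hx)
      have hx' : x = ⁅e.symm a, e.symm b⁆ := by
        rw [← map_commutatorElement, hab, MulEquiv.symm_apply_apply]
      rw [hx', commutator_def]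
      exact Subgroup.commutator_mem_commutator (Subgroup.mem_top _) (Subgroup.mem_top _)
    · rw [commutator_def, Subgroup.commutator_le]
      intro a _ b _
      rw [hmem, map_commutatorElement]
      exact PSU3Sylow.Heis.commutator_mem_center _ _
  · have h := Subgroup.card_eq_card_quotient_mul_card_subgroup
      (Subgroup.center (S : Subgroup (Cfsg.PSU 3 F 4)))
    rw [hS, hZ] at h
    omega
  · intro x
    obtain ⟨y, rfl⟩ := QuotientGroup.mk_surjective x
    rw [← QuotientGroup.mk_pow, QuotientGroup.eq_one_iff, hmem, pow_two, map_mul]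
    exact PSU3Sylow.Heis.mul_self_mem_center _

end Cfsg.Agent.S1248
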