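import Cfsg.Statements.S1249

set_option autoImplicit false
open Cfsg
open scoped Pointwise

namespace Cfsg.Agent.S1249

/-- Let P and Q be Sylow p-subgroups of the finite group G both containing the subgroup A. If A is strongly closed in P, then A is strongly closed in Q. -/
theorem result {G : Type*} [Group G] [Finite G] {p : ℕ} [Fact p.Prime] (P Q : Sylow p G) (A : Subgroup G) (hAQ : A ≤ Q) (hA : Cfsg.IsStronglyClosed A (P : Subgroup G)) : Cfsg.IsStronglyClosed A (Q : Subgroup G) := by
  obtain ⟨b, hb⟩ := MulAction.exists_smul_eq G P Q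
  have hmem : ∀ x, x ∈ (Q : Subgroup G) → b⁻¹ * x * b ∈ (P : Subgroup G) := by
    intro x hx
    rw [← hb] at hx
    change x ∈ ((MulAut.conj b • P : Sylow p G) : Subgroup G) at hx
    rw [Sylow.pointwise_smul_def] at hx
    obtain ⟨t, ht, rfl⟩ := hx
    show b⁻¹ * (b * t * b⁻¹) * b ∈ (P : Subgroup G)
    rw [show b⁻¹ * (b * t * b⁻¹) * b = t by simp [mul_assoc]]
    exact ht
  have hcl : ∀ x ∈ A, b⁻¹ * x * b ∈ A := fun x hx => by
    simpa using hA.2 x hx b⁻¹ (by simpa using hmem x (hAQ hx))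
  have hle : A.map (MulAut.conj b⁻¹).toMonoidHom = A := by
    refine Subgroup.eq_of_le_of_card_ge ?_
      (Subgroup.card_map_of_injective (MulAut.conj b⁻¹).injective).ge
    rintro _ ⟨x, hx, rfl⟩
    simpa using hcl x hx
  refine ⟨hAQ, fun x hx g hg => ?_⟩
  have h1 : b⁻¹ * (g * x * g⁻¹) * b ∈ A := by
    have := hA.2 x hx (b⁻¹ * g) (by simpa [mul_assoc] using hmem _ hg)
    simpa [mul_assoc] using this
  rw [← hle] at h1
  obtain ⟨y, hy, hy'⟩ := h1
  simp only [MulEquiv.coe_toMonoidHom, MulAut.conj_apply] at hy'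
  have : y = g * x * g⁻¹ := by
    have := congrArg (fun z => b * z * b⁻¹) hy'
    simpa [mul_assoc] using this
  exact this ▸ hy

end Cfsg.Agent.S1249
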