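import Cfsg.Statements.S1253
import Cfsg.Agent.Invol.IsolatedApps

set_option autoImplicit false
open Cfsg

namespace Cfsg.Agent.S1253

/-- Let z be an isolated involution of the finite group G with centralizer C, p an odd prime and P a Sylow p-subgroup of G normalized by z. Then P ∩ C has p-power-free index in C (it is a Sylow p-subgroup of C), and |P : C_P(z)| equals the number of elements x ∈ P with z x z⁻¹ = x⁻¹. -/
theorem result {G : Type*} [Group G] [Finite G] (z : G) (hz : Cfsg.IsIsolatedInvolution z) {p : ℕ} [Fact p.Prime] (hp : p ≠ 2) (P : Sylow p G) (hzP : z ∈ Subgroup.normalizer ((P : Subgroup G) : Set G)) : ¬ p ∣ ((P : Subgroup G) ⊓ Subgroup.centralizer ({z} : Set G)).relIndex (Subgroup.centralizer ({z} : Set G)) ∧ ((P : Subgroup G) ⊓ Subgroup.centralizer ({z} : Set G)).relIndex (P : Subgroup G) = Nat.card {x : G // x ∈ P ∧ z * x * z⁻¹ = x⁻¹} := by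
  have hfix : z • P = P := Sylow.smul_eq_iff_mem_normalizer.2 hzP
  set C := Subgroup.centralizer ({z} : Set G) with hC
  have hzz := Cfsg.Agent.Invol.mul_self_eq_one hz.1
  constructor
  · -- `P ∩ C` is a Sylow subgroup of `C`
    obtain ⟨R⟩ := (inferInstance : Nonempty (Sylow p C))
    set R' := (R : Subgroup C).map C.subtype with hR'
    have hzR : z ∈ Subgroup.normalizer (R' : Set G) := by
      rw [Subgroup.mem_normalizer_iff]
      intro x
      have hfixC : ∀ y ∈ R', z * y * z⁻¹ = y := by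
        rintro _ ⟨y, -, rfl⟩
        exact mul_inv_eq_iff_eq_mul.2 (Subgroup.mem_centralizer_singleton_iff.1 y.2).symm
      constructor
      · intro hx; rw [hfixC x hx]; exact hx
      · intro hx
        have h := hfixC _ hx
        have : z * x * z⁻¹ = x := mul_left_cancel (mul_right_cancel h)
        exact this ▸ hx
    obtain ⟨Q, hQ, hRQ, hQmax⟩ : ∃ Q : Subgroup G, (IsPGroup p Q ∧ z ∈ Subgroup.normalizer (Q : Set G)) ∧
        R' ≤ Q ∧ ∀ T : Subgroup G, (IsPGroup p T ∧ z ∈ Subgroup.normalizer (T : Set G)) → Q ≤ T → T = Q := by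
      obtain ⟨Q, hQ1, hQ2⟩ := (Set.toFinite {T : Subgroup G |
        IsPGroup p (T : Subgroup G) ∧ z ∈ Subgroup.normalizer (T : Set G) ∧ R' ≤ T}).exists_maximal
        ⟨R', R.2.map _, hzR, le_rfl⟩
      exact ⟨Q, ⟨hQ1.1, hQ1.2.1⟩, hQ1.2.2, fun T hT hle =>
        le_antisymm (hQ2 ⟨hT.1, hT.2, hQ1.2.2.trans hle⟩ hle) hle⟩
    obtain ⟨P', rfl⟩ := Cfsg.Agent.Invol.isolated_maximal_invariant hz Q hQ.1 hQ.2
      (fun T h1 h2 h3 => hQmax T ⟨h1, h2⟩ h3)
    obtain ⟨c, hc, hcP⟩ := Cfsg.Agent.Invol.invariant_sylow_conj hz hfix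
      (Sylow.smul_eq_iff_mem_normalizer.2 hQ.2)
    have hle : R'.map (MulAut.conj c).toMonoidHom ≤ (P : Subgroup G) ⊓ C := by
      rintro _ ⟨x, hx, rfl⟩
      refine ⟨?_, ?_⟩
      · show c * x * c⁻¹ ∈ (P : Subgroup G)
        rw [← hcP, Sylow.coe_subgroup_smul]
        exact ⟨x, hRQ hx, rfl⟩
      · obtain ⟨y, -, rfl⟩ := hx
        exact mul_mem (mul_mem hc y.2) (C.inv_mem hc)
    intro hdvd
    refine R.not_dvd_index ?_
    have e1 : ((P : Subgroup G) ⊓ C).relIndex C * Nat.card ((P : Subgroup G) ⊓ C : Subgroup G) =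
        (R : Subgroup C).index * Nat.card (R : Subgroup C) := by
      rw [mul_comm, ← Subgroup.relIndex_bot_left, Subgroup.relIndex_mul_relIndex _ _ _ bot_le inf_le_right,
        Subgroup.relIndex_bot_left, Subgroup.index_mul_card]
    have e2 : Nat.card (R : Subgroup C) ∣ Nat.card ((P : Subgroup G) ⊓ C : Subgroup G) := by
      refine Eq.dvd ?_ |>.trans (Subgroup.card_dvd_of_le hle)
      rw [Subgroup.card_map_of_injective (MulAut.conj c).injective,
        Subgroup.card_map_of_injective C.subtype_injective]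
    obtain ⟨q, hq⟩ := e2
    rw [hq] at e1
    have : (R : Subgroup C).index = ((P : Subgroup G) ⊓ C).relIndex C * q :=
      Nat.eq_of_mul_eq_mul_right (Nat.card_pos (α := (R : Subgroup C))) (by rw [← e1]; ring)
    rw [this]
    exact hdvd.mul_right q
  · -- inverted elements
    set D := ((P : Subgroup G) ⊓ C).subgroupOf (P : Subgroup G) with hD
    rw [show ((P : Subgroup G) ⊓ C).relIndex (P : Subgroup G) = D.index from rfl, Subgroup.index]
    have hPz : ∀ x ∈ (P : Subgroup G), z * x * z ∈ (P : Subgroup G) := fun x hx => by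
      have := (Subgroup.mem_normalizer_iff.1 hzP x).1 hx
      rwa [Cfsg.Agent.Invol.inv_eq_self hz.1] at this
    refine Nat.card_congr (Equiv.ofBijective (Quotient.lift
      (fun x : (P : Subgroup G) => (⟨(x : G) * (z * (x : G)⁻¹ * z),
        mul_mem x.2 (hPz _ (inv_mem x.2)), ?_⟩ : {x : G // x ∈ P ∧ z * x * z⁻¹ = x⁻¹})) ?_) ⟨?_, ?_⟩)
    · rw [Cfsg.Agent.Invol.inv_eq_self hz.1]
      simp only [mul_inv_rev, inv_inv, Cfsg.Agent.Invol.inv_eq_self hz.1, mul_assoc, hzz, mul_one]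
    · intro x y hxy
      have hxy : (x⁻¹ * y : (P : Subgroup G)) ∈ D := QuotientGroup.leftRel_apply.1 hxy
      have h := Subgroup.mem_centralizer_singleton_iff.1 hxy.2
      apply Subtype.ext
      show (x : G) * (z * (x : G)⁻¹ * z) = (y : G) * (z * (y : G)⁻¹ * z)
      calc (x : G) * (z * (x : G)⁻¹ * z) = (x : G) * (z * (((x⁻¹ * y : (P : Subgroup G)) : G) * (y : G)⁻¹)) * z := by
            simp [mul_assoc]
        _ = (x : G) * ((z * ((x⁻¹ * y : (P : Subgroup G)) : G)) * (y : G)⁻¹) * z := by group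
        _ = (x : G) * ((((x⁻¹ * y : (P : Subgroup G)) : G) * z) * (y : G)⁻¹) * z := by
            rw [show ((x⁻¹ * y : (P : Subgroup G)) : G) * z = z * _ from h]
            rfl
        _ = _ := by simp [mul_assoc]
    · rintro ⟨x⟩ ⟨y⟩ e
      refine Quotient.sound (QuotientGroup.leftRel_apply.2 ?_)
      have e : (x : G) * (z * (x : G)⁻¹ * z) = (y : G) * (z * (y : G)⁻¹ * z) := congrArg Subtype.val e
      refine ⟨(x⁻¹ * y).2, Subgroup.mem_centralizer_singleton_iff.2 ?_⟩
      show (x : G)⁻¹ * (y : G) * z = z * ((x : G)⁻¹ * (y : G))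
      calc (x : G)⁻¹ * (y : G) * z = (x : G)⁻¹ * ((y : G) * (z * (y : G)⁻¹ * z)) * z * (y : G) := by
            simp [mul_assoc, hzz]
        _ = (x : G)⁻¹ * ((x : G) * (z * (x : G)⁻¹ * z)) * z * (y : G) := by rw [e]
        _ = z * ((x : G)⁻¹ * (y : G)) := by simp [mul_assoc]; rw [← mul_assoc z z, hzz, one_mul]
    · rintro ⟨x, hx, hinv⟩
      obtain ⟨j, hj⟩ := IsPGroup.iff_orderOf.1 P.2 ⟨x, hx⟩
      rw [Subgroup.orderOf_mk] at hj
      obtain ⟨m, hm⟩ : Odd (p ^ j) := ((Fact.out : p.Prime).odd_of_ne_two hp).pow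
      rw [← hj] at hm
      refine ⟨Quotient.mk _ ⟨x ^ (m + 1), pow_mem hx _⟩, Subtype.ext ?_⟩
      show x ^ (m + 1) * (z * (x ^ (m + 1))⁻¹ * z) = x
      have hz' : z * (x ^ (m + 1))⁻¹ * z = x ^ (m + 1) := by
        nth_rewrite 2 [← Cfsg.Agent.Invol.inv_eq_self hz.1]
        rw [← inv_pow, ← conj_pow]
        congr 1
        rw [show z * x⁻¹ * z⁻¹ = (z * x * z⁻¹)⁻¹ by group, hinv, inv_inv]
      rw [hz', ← pow_add, show m + 1 + (m + 1) = orderOf x + 1 by omega, pow_succ, pow_orderOf_eq_one,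
        one_mul]

end Cfsg.Agent.S1253
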