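import Cfsg.Statements.S1254
import Cfsg.Agent.Invol.DihedralSylow

set_option autoImplicit false
open Cfsg

namespace Cfsg.Agent.S1254

open Cfsg.Agent.Invol DihedralGroup

/-- Let X be a finite group whose Sylow 2-subgroup S is dihedral (of order at least 4). Then X has a normal 2-complement if and only if, for every Klein four-subgroup U ≤ S, the normalizer N_X(U) is generated by C_X(U) and N_S(U). -/
theorem result {X : Type*} [Group X] [Finite X] (S : Sylow 2 X) (m : ℕ) (hm : 2 ≤ m) (eS : (S : Subgroup X) ≃* DihedralGroup m) : Cfsg.HasNormalPComplement 2 X ↔ ∀ U : Subgroup X, U ≤ S → IsKleinFour U → Subgroup.normalizer (U : Set X) = Subgroup.centralizer (U : Set X) ⊔ ((S : Subgroup X) ⊓ Subgroup.normalizer (U : Set X)) := by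
  obtain ⟨k, ι, D, rfl⟩ := ddata_exists S hm eS
  constructor
  · intro hc U hUS _
    refine le_antisymm (fun g hg => ?_) (sup_le (Subgroup.centralizer_le_normalizer _) inf_le_right)
    obtain ⟨⟨⟨kk, hkk⟩, ⟨t, ht⟩⟩, hkt⟩ := (Cfsg.Agent.Fusion.isComplement'_pResidual hc S).2 g
    change kk * t = g at hkt
    have hn := Subgroup.mem_normalizer_iff.1 hg
    have htu : ∀ u ∈ U, t * u * t⁻¹ = g * u * g⁻¹ := by
      intro u hu
      obtain ⟨k', hk', t', ht', he, h⟩ := conj_in_sylow_of_complement S hc (hUS hu) (hUS ((hn u).1 hu))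
      have huniq := (Cfsg.Agent.Fusion.isComplement'_pResidual hc S).1
        (a₁ := (⟨k', hk'⟩, ⟨t', ht'⟩)) (a₂ := (⟨kk, hkk⟩, ⟨t, ht⟩)) (he.symm.trans hkt.symm)
      simp only [Prod.mk.injEq, Subtype.mk.injEq] at huniq
      rw [← huniq.2]; exact h
    have htN : t ∈ Subgroup.normalizer (U : Set X) := by
      refine mem_normalizer_of_map_eq' (Subgroup.eq_of_le_of_card_ge ?_ ?_)
      · rintro _ ⟨u, hu, rfl⟩
        show t * u * t⁻¹ ∈ U
        rw [htu u hu]
        exact (hn u).1 hu
      · rw [Subgroup.card_map_of_injective (MulEquiv.injective _)]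
    have hc' : g * t⁻¹ ∈ Subgroup.centralizer (U : Set X) := by
      refine Subgroup.mem_centralizer_iff.2 fun v hv => ?_
      have hu : t⁻¹ * v * t ∈ U := by
        have := (Subgroup.mem_normalizer_iff.1 ((Subgroup.normalizer _).inv_mem htN) v).1 hv
        rwa [inv_inv] at this
      have := htu _ hu
      rw [show t * (t⁻¹ * v * t) * t⁻¹ = v by group, eq_mul_inv_iff_mul_eq] at this
      calc v * (g * t⁻¹) = v * g * t⁻¹ := by group
        _ = g * (t⁻¹ * v * t) * t⁻¹ := by rw [this]
        _ = g * t⁻¹ * v := by group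
    rw [← inv_mul_cancel_right g t]
    exact Subgroup.mul_mem_sup hc' ⟨ht, htN⟩
  · intro hN
    apply D.complement_of_not_conj
    intro a ha
    obtain ⟨g, hg⟩ := isConj_iff.1 ha
    set V := (dfour D.pos a).map ι with hV
    set z := ι (r (dh k)) with hz
    have hta : ι (sr a) ∈ V := ⟨sr a, (mem_dfour_iff D.pos).2 (Or.inr (Or.inr (Or.inl rfl))), rfl⟩
    have hzV : z ∈ V := ⟨r (dh k), (mem_dfour_iff D.pos).2 (Or.inr (Or.inl rfl)), rfl⟩
    have hW : V.map (MulAut.conj g).toMonoidHom ≤ Subgroup.centralizer ({z} : Set X) := by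
      rintro _ ⟨v, hv, rfl⟩
      have hcomm : v * ι (sr a) = ι (sr a) * v :=
        congrArg Subtype.val (mul_comm_of_exponent_two (D.four_klein a).exponent_two (⟨v, hv⟩ : V) ⟨_, hta⟩)
      rw [Subgroup.mem_centralizer_singleton_iff, ← hg]
      show g * v * g⁻¹ * (g * ι (sr a) * g⁻¹) = g * ι (sr a) * g⁻¹ * (g * v * g⁻¹)
      calc g * v * g⁻¹ * (g * ι (sr a) * g⁻¹) = g * (v * ι (sr a)) * g⁻¹ := by group
        _ = g * (ι (sr a) * v) * g⁻¹ := by rw [hcomm]
        _ = g * ι (sr a) * g⁻¹ * (g * v * g⁻¹) := by group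
    obtain ⟨c, hcz, hc⟩ := D.exists_conj_le_centralizer _
      (IsPGroup.of_card (n := 2) (by rw [Subgroup.card_map_of_injective (MulEquiv.injective _), D.four_card]; norm_num)) hW
    have hWW : (V.map (MulAut.conj g).toMonoidHom).map (MulAut.conj c).toMonoidHom =
        V.map (MulAut.conj (c * g)).toMonoidHom := by
      rw [Subgroup.map_map]; congr 1; ext x; simp [mul_assoc]
    rw [hWW] at hc
    have hK : IsKleinFour (V.map (MulAut.conj (c * g)).toMonoidHom) := by
      let e := V.equivMapOfInjective (MulAut.conj (c * g)).toMonoidHom (MulAut.conj (c * g)).injective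
      exact ⟨(Nat.card_congr e.toEquiv).symm.trans (D.four_klein a).card_four,
        (Monoid.exponent_eq_of_mulEquiv e).symm.trans (D.four_klein a).exponent_two⟩
    obtain ⟨b, hb⟩ := D.klein_eq hc hK
    obtain ⟨s, hs⟩ := D.four_conj_in_sylow hb
    set n := ι (r s) * (c * g) with hn
    have hnN : n ∈ Subgroup.normalizer (V : Set X) := by
      apply mem_normalizer_of_map_eq'
      conv_rhs => rw [hV, ← hs, ← hb, Subgroup.map_map]
      congr 1; ext x; simp [hn, mul_assoc]
    rw [hN V (D.four_le a) (D.four_klein a)] at hnN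
    have hle : Subgroup.centralizer (V : Set X) ⊔ ((S : Subgroup X) ⊓ Subgroup.normalizer (V : Set X)) ≤
        Subgroup.centralizer ({z} : Set X) := by
      refine sup_le (fun x hx => Subgroup.mem_centralizer_singleton_iff.2 ?_)
        (fun x hx => Subgroup.mem_centralizer_singleton_iff.2 (D.z_comm hx.1))
      exact (Subgroup.mem_centralizer_iff.1 hx z hzV).symm
    have h1 : n * z * n⁻¹ = z := mul_inv_eq_iff_eq_mul.2 (Subgroup.mem_centralizer_singleton_iff.1 (hle hnN))
    have h2 : n * ι (sr a) * n⁻¹ = z := by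
      calc n * ι (sr a) * n⁻¹ = ι (r s) * (c * (g * ι (sr a) * g⁻¹) * c⁻¹) * (ι (r s))⁻¹ := by
            rw [hn]; group
        _ = z := by rw [hg, hcz, hz, D.z_comm (D.mem _), mul_inv_cancel_right]
    have h3 := D.inj (mul_left_cancel (mul_right_cancel (h1.trans h2.symm)))
    exact DihedralGroup.noConfusion rfl (heq_of_eq h3)

end Cfsg.Agent.S1254
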