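import Cfsg.Statements.S1255
import Cfsg.Agent.Invol.DihedralSylow

set_option autoImplicit false
open Cfsg

namespace Cfsg.Agent.S1255

open Cfsg.Agent.Invol DihedralGroup

/-- Let X be a finite group whose Sylow 2-subgroup S is dihedral of order 2m ≥ 4. Then X has no subgroup of index 2 and no isolated involution if and only if either all involutions of X are conjugate, or for every Klein four-subgroup U ≤ S the index |N_X(U) : C_X(U)| equals 3 when |S| = 4 and equals 6 when |S| > 4. -/
theorem result {X : Type*} [Group X] [Finite X] (S : Sylow 2 X) (m : ℕ) (hm : 2 ≤ m) (eS : (S : Subgroup X) ≃* DihedralGroup m) : ((∀ H : Subgroup X, H.index ≠ 2) ∧ (∀ z : X, ¬ Cfsg.IsIsolatedInvolution z)) ↔ ((∀ a b : X, orderOf a = 2 → orderOf b = 2 → IsConj a b) ∨ (∀ U : Subgroup X, U ≤ S → IsKleinFour U → (Subgroup.centralizer (U : Set X)).relIndex (Subgroup.normalizer (U : Set X)) = (if Nat.card S = 4 then 3 else 6))) := by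
  obtain ⟨k, ι, D, rfl⟩ := ddata_exists S hm eS
  set z := ι (r (dh k)) with hz
  have hA : (∀ a, IsConj (ι (sr a)) z) → ∀ a b : X, orderOf a = 2 → orderOf b = 2 → IsConj a b := by
    intro h a b ha hb
    have : ∀ t : X, orderOf t = 2 → IsConj t z := fun t ht => by
      rcases D.exists_conj_involution ht with e | ⟨c, e⟩
      exacts [e, e.trans (h c)]
    exact (this a ha).trans (this b hb).symm
  constructor
  · rintro ⟨hH, -⟩
    refine Or.inl (hA fun a => ?_)
    by_contra hc
    obtain ⟨N, -, hN, -⟩ := D.index_two_of_not_conj hc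
    exact hH N hN
  · intro h
    have hall : ∀ a b : X, orderOf a = 2 → orderOf b = 2 → IsConj a b := by
      rcases h with h | h
      · exact h
      refine hA fun a => ?_
      set V := (dfour D.pos a).map ι with hV
      have hdvd : 3 ∣ (Subgroup.centralizer (V : Set X)).relIndex (Subgroup.normalizer (V : Set X)) := by
        rw [h V (D.four_le a) (D.four_klein a)]; split_ifs <;> norm_num
      set N := Subgroup.normalizer (V : Set X) with hN
      set C := (Subgroup.centralizer (V : Set X)).subgroupOf N with hC
      have : C.Normal := by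
        refine ⟨fun c hc n => ?_⟩
        rw [hC, Subgroup.mem_subgroupOf] at hc ⊢
        refine Subgroup.mem_centralizer_iff.2 fun v hv => ?_
        have hv' : (n : X)⁻¹ * v * n ∈ V := by
          have := (Subgroup.mem_normalizer_iff.1 (N.inv_mem n.2) v).1 hv
          rwa [inv_inv] at this
        have h1 := Subgroup.mem_centralizer_iff.1 hc _ hv'
        simp only [Subgroup.coe_mul, Subgroup.coe_inv]
        calc v * ((n : X) * c * (n : X)⁻¹) = n * (((n : X)⁻¹ * v * n) * c) * (n : X)⁻¹ := by group
          _ = n * ((c : X) * ((n : X)⁻¹ * v * n)) * (n : X)⁻¹ := by rw [h1]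
          _ = n * c * (n : X)⁻¹ * v := by group
      have h3 : 3 ∣ Nat.card (N ⧸ C) := hdvd
      have := Fact.mk Nat.prime_three
      obtain ⟨q, hq⟩ := exists_prime_orderOf_dvd_card' 3 h3
      obtain ⟨g, rfl⟩ := QuotientGroup.mk_surjective q
      have hg1 : g ∉ C := fun e => by
        rw [(QuotientGroup.eq_one_iff g).2 e, orderOf_one] at hq; omega
      have hg3 : g * g * g ∈ C := by
        rw [← QuotientGroup.eq_one_iff, QuotientGroup.mk_mul, QuotientGroup.mk_mul]
        have := pow_orderOf_eq_one (QuotientGroup.mk g : N ⧸ C)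
        rwa [hq, pow_succ, pow_two] at this
      let φ : X → X := fun x => (g : X) * x * (g : X)⁻¹
      have φmem : ∀ x ∈ V, φ x ∈ V := fun x hx => (Subgroup.mem_normalizer_iff.1 g.2 x).1 hx
      have φinj : Function.Injective φ := fun x y e => mul_left_cancel (mul_right_cancel e)
      have φ3 : ∀ x ∈ V, φ (φ (φ x)) = x := by
        intro x hx
        have e : x * (g * g * g : X) = (g * g * g : X) * x := by
          simpa [hC, Subgroup.mem_subgroupOf] using Subgroup.mem_centralizer_iff.1
            (Subgroup.mem_subgroupOf.1 hg3) x hx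
        calc φ (φ (φ x)) = (g * g * g : X) * x * (g * g * g : X)⁻¹ := by simp only [φ]; group
          _ = x := by rw [← e, mul_inv_cancel_right]
      have hmemV : ∀ x, x ∈ V ↔ x = 1 ∨ x = z ∨ x = ι (sr a) ∨ x = ι (sr (a + dh k)) := by
        intro x
        constructor
        · rintro ⟨d, hd, rfl⟩
          rcases (mem_dfour_iff D.pos).1 hd with rfl | rfl | rfl | rfl
          exacts [Or.inl (by rw [← one_def, map_one]), Or.inr (Or.inl rfl), Or.inr (Or.inr (Or.inl rfl)),
            Or.inr (Or.inr (Or.inr rfl))]
        · rintro (rfl | rfl | rfl | rfl)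
          exacts [V.one_mem, ⟨_, (mem_dfour_iff D.pos).2 (Or.inr (Or.inl rfl)), rfl⟩,
            ⟨_, (mem_dfour_iff D.pos).2 (Or.inr (Or.inr (Or.inl rfl))), rfl⟩,
            ⟨_, (mem_dfour_iff D.pos).2 (Or.inr (Or.inr (Or.inr rfl))), rfl⟩]
      have hzV : z ∈ V := (hmemV z).2 (Or.inr (Or.inl rfl))
      have φone : φ 1 = 1 := by simp [φ]
      have hz1 : z ≠ 1 := fun e => by have := D.z_order; rw [← hz, e, orderOf_one] at this; omega
      have hne : φ z ≠ z := by
        intro e
        have hfix : ∀ x ∈ V, φ x = x := by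
          intro x hx
          rcases (hmemV x).1 hx with rfl | rfl | rfl | rfl
          · exact φone
          · exact e
          all_goals
            generalize hu : ι _ = u at hx ⊢
            by_contra hne
            have m1 := (hmemV _).1 (φmem _ hx)
            have m2 := (hmemV _).1 (φmem _ (φmem _ hx))
            have a1 : φ u ≠ 1 := fun e' => by
              have := φinj (e'.trans φone.symm)
              rw [← hu, ← map_one ι] at this
              exact DihedralGroup.noConfusion rfl (heq_of_eq ((D.inj this).trans DihedralGroup.one_def))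
            have a2 : φ u ≠ z := fun e' => by
              have := φinj (e'.trans e.symm)
              rw [← hu, hz] at this
              exact DihedralGroup.noConfusion rfl (heq_of_eq (D.inj this))
            have b1 : φ (φ u) ≠ 1 := fun e' => a1 (φinj (e'.trans φone.symm))
            have b2 : φ (φ u) ≠ z := fun e' => a2 (φinj (e'.trans e.symm))
            have b3 : φ (φ u) ≠ φ u := fun e' => hne (φinj e')
            have b4 : φ (φ u) ≠ u := fun e' => hne (by
              calc φ u = φ (φ (φ u)) := by rw [e']
                _ = u := φ3 u hx)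
            simp only [a1, a2, false_or] at m1
            simp only [b1, b2, false_or] at m2
            rw [hu] at m1 m2
            grind
        apply hg1
        rw [hC, Subgroup.mem_subgroupOf, Subgroup.mem_centralizer_iff]
        intro v hv
        exact (mul_inv_eq_iff_eq_mul.1 (hfix v hv)).symm
      have c1 : φ z ≠ 1 := fun e => hz1 (φinj (e.trans φone.symm))
      have c2 : φ (φ z) ≠ 1 := fun e => c1 (φinj (e.trans φone.symm))
      have c3 : φ (φ z) ≠ z := fun e => hne (by
        calc φ z = φ (φ (φ z)) := by rw [e]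
          _ = z := φ3 z hzV)
      have c4 : φ (φ z) ≠ φ z := fun e => hne (φinj e)
      have m1 := (hmemV _).1 (φmem _ hzV)
      have m2 := (hmemV _).1 (φmem _ (φmem _ hzV))
      simp only [c1, hne, false_or] at m1
      simp only [c2, c3, false_or] at m2
      have : φ z = ι (sr a) ∨ φ (φ z) = ι (sr a) := by
        rcases m1 with m1 | m1
        · exact Or.inl m1
        rcases m2 with m2 | m2
        · exact Or.inr m2
        exact absurd (m2.trans m1.symm) c4
      rcases this with e | e
      · exact (isConj_iff.2 ⟨g, e⟩ : IsConj z (ι (sr a))).symm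
      · refine IsConj.symm (isConj_iff.2 ⟨g * g, ?_⟩ : IsConj z (ι (sr a)))
        rw [← e]; simp only [φ]; group
    have t0 : orderOf (ι (sr 0)) = 2 := D.sr_order 0
    have hzo : orderOf z = 2 := D.z_order
    refine ⟨fun H hH => ?_, fun t ht => ?_⟩
    · have hn := Subgroup.normal_of_index_eq_two hH
      have hsq : ∀ x y : X, x ∉ H → y ∉ H → x * y ∈ H := fun x y hx hy =>
        (Subgroup.mul_mem_iff_of_index_two hH).2 (iff_of_false hx hy)
      have hinv : ∀ t : X, orderOf t = 2 → t ∈ H := by
        obtain ⟨u, hu, huH⟩ : ∃ u : X, orderOf u = 2 ∧ u ∈ H := by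
          by_contra hc
          have h1 : z ∉ H := fun e => hc ⟨z, hzo, e⟩
          have h2 : ι (sr 0) ∉ H := fun e => hc ⟨_, t0, e⟩
          refine hc ⟨_, ?_, hsq _ _ h2 h1⟩
          rw [hz, ← map_mul, sr_mul_r]
          exact D.sr_order _
        intro t ht
        obtain ⟨g, rfl⟩ := isConj_iff.1 (hall u t hu ht)
        exact hn.conj_mem u huH g
      have hSH : (S : Subgroup X) ≤ H := by
        intro x hx
        obtain ⟨d, rfl⟩ := D.exists_eq hx
        rcases d with i | i
        · rw [show r i = sr 0 * sr i by rw [sr_mul_sr, sub_zero], map_mul]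
          exact H.mul_mem (hinv _ (D.sr_order 0)) (hinv _ (D.sr_order i))
        · exact hinv _ (D.sr_order i)
      exact S.not_dvd_index (hH.symm.dvd.trans (Subgroup.index_dvd_of_le hSH))
    · obtain ⟨ht2, hiso⟩ := ht
      obtain ⟨g, hg⟩ := isConj_iff.1 (hall z t hzo ht2)
      set s := g * ι (sr 0) * g⁻¹ with hs
      have hso : orderOf s = 2 := by rw [hs, ← MulAut.conj_apply, MulEquiv.orderOf_eq]; exact t0
      obtain ⟨h, hh⟩ := isConj_iff.1 (hall t s ht2 hso)
      have hst : Commute t (h * t * h⁻¹) := by
        rw [hh, hs, ← hg]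
        show g * z * g⁻¹ * (g * ι (sr 0) * g⁻¹) = g * ι (sr 0) * g⁻¹ * (g * z * g⁻¹)
        calc g * z * g⁻¹ * (g * ι (sr 0) * g⁻¹) = g * (z * ι (sr 0)) * g⁻¹ := by group
          _ = g * (ι (sr 0) * z) * g⁻¹ := by rw [hz, D.z_comm (D.mem _)]
          _ = g * ι (sr 0) * g⁻¹ * (g * z * g⁻¹) := by group
      have := hiso h hst
      rw [hh, hs, ← hg] at this
      exact DihedralGroup.noConfusion rfl (heq_of_eq (D.inj (mul_left_cancel (mul_right_cancel this))))

end Cfsg.Agent.S1255
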