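import Cfsg.Statements.S1256
import Cfsg.Agent.Invol.DihedralSylow

set_option autoImplicit false
open Cfsg

namespace Cfsg.Agent.S1256

open Cfsg.Agent.Invol DihedralGroup

/-- Let X be a finite group whose Sylow 2-subgroup S is dihedral of order 2m ≥ 4. If |S| = 4, any two Klein four-subgroups of X are conjugate; if |S| > 4, there are Klein four-subgroups U₁, U₂ of X that are not conjugate, and every Klein four-subgroup of X is conjugate to U₁ or to U₂. -/
theorem result {X : Type*} [Group X] [Finite X] (S : Sylow 2 X) (m : ℕ) (hm : 2 ≤ m) (eS : (S : Subgroup X) ≃* DihedralGroup m) : (Nat.card S = 4 → ∀ U V : Subgroup X, IsKleinFour U → IsKleinFour V → (∃ x : X, U.map (MulAut.conj x).toMonoidHom = V)) ∧ (4 < Nat.card S → ∃ U₁ U₂ : Subgroup X, IsKleinFour U₁ ∧ IsKleinFour U₂ ∧ ¬ (∃ x : X, U₁.map (MulAut.conj x).toMonoidHom = U₂) ∧ ∀ V : Subgroup X, IsKleinFour V → (∃ x : X, V.map (MulAut.conj x).toMonoidHom = U₁) ∨ (∃ x : X, V.map (MulAut.conj x).toMonoidHom = U₂)) := by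
  obtain ⟨k, ι, D, rfl⟩ := ddata_exists S hm eS
  have conjle : ∀ U : Subgroup X, IsKleinFour U → ∃ g a, U.map (MulAut.conj g).toMonoidHom = (dfour D.pos a).map ι := by
    intro U hU
    obtain ⟨g, hg⟩ := D.exists_conj_le U (IsPGroup.of_card (n := 2) (by rw [hU.card_four]; norm_num))
    have hK : IsKleinFour (U.map (MulAut.conj g).toMonoidHom) := by
      let e := U.equivMapOfInjective (MulAut.conj g).toMonoidHom (MulAut.conj g).injective
      exact ⟨(Nat.card_congr e.toEquiv).symm.trans hU.card_four,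
        (Monoid.exponent_eq_of_mulEquiv e).symm.trans hU.exponent_two⟩
    obtain ⟨a, ha⟩ := D.klein_eq hg hK
    exact ⟨g, a, ha⟩
  have comp : ∀ (U : Subgroup X) (g h : X), (U.map (MulAut.conj g).toMonoidHom).map (MulAut.conj h).toMonoidHom =
      U.map (MulAut.conj (h * g)).toMonoidHom := by
    intro U g h
    rw [Subgroup.map_map]; congr 1; ext x; simp [mul_assoc]
  refine ⟨fun h4 U V hU hV => ?_, fun h4 => ?_⟩
  · obtain ⟨g, a, ha⟩ := conjle U hU
    obtain ⟨g', b, hb⟩ := conjle V hV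
    have he : ∀ a, (dfour D.pos a).map ι = (S : Subgroup X) :=
      fun a => Subgroup.eq_of_le_of_card_ge (D.four_le a) (by rw [h4, D.four_card])
    refine ⟨g'⁻¹ * g, ?_⟩
    rw [← comp, ha, he, ← he b, ← hb, comp, inv_mul_cancel, map_one]
    exact Subgroup.map_id V
  · have hk : 2 ≤ k := by
      by_contra hc
      rw [D.card_sylow, show k = 1 by have := D.pos; omega] at h4
      norm_num at h4
    refine ⟨_, _, D.four_klein 0, D.four_klein 1, fun ⟨x, hx⟩ => D.four_not_conj hk x hx, fun V hV => ?_⟩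
    obtain ⟨g, a, ha⟩ := conjle V hV
    obtain ⟨s, -, hs | hs⟩ := D.four_conj_std a
    · exact Or.inl ⟨s * g, by rw [← comp, ha, hs]⟩
    · exact Or.inr ⟨s * g, by rw [← comp, ha, hs]⟩

end Cfsg.Agent.S1256
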