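import Cfsg.Statements.S1258
import Cfsg.Agent.Layer.FStar

set_option linter.style.haveILetI false

set_option autoImplicit false
open Cfsg
open scoped commutatorElement Pointwise

namespace Cfsg.Agent.S1258

/-- If the central quotient of a finite group X is non-abelian simple, then X = X' Z(X) and the commutator subgroup X' is quasisimple. -/
theorem result {X : Type*} [Group X] [Finite X] (hs : IsSimpleGroup (X ⧸ Subgroup.center X)) (hna : ¬ IsMulCommutative (X ⧸ Subgroup.center X)) : commutator X ⊔ Subgroup.center X = ⊤ ∧ Cfsg.IsQuasisimple ↥(commutator X) := by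
  haveI := hs
  set D := commutator X with hD
  have hsup : D ⊔ Subgroup.center X = ⊤ := by
    rcases ((inferInstance : D.Normal).map (QuotientGroup.mk' (Subgroup.center X))
      (QuotientGroup.mk'_surjective _)).eq_bot_or_eq_top with hb | ht
    · refine absurd ?_ hna
      rw [Subgroup.Normal.quotient_commutative_iff_commutator_le]
      rwa [Subgroup.map_eq_bot_iff, QuotientGroup.ker_mk'] at hb
    · rw [sup_comm, ← QuotientGroup.comap_map_mk', ht, Subgroup.comap_top]
  refine ⟨hsup, ?_⟩
  have hdec : ∀ x : X, ∃ d ∈ D, ∃ z ∈ Subgroup.center X, d * z = x := fun x => by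
    have hx : x ∈ ((D ⊔ Subgroup.center X : Subgroup X) : Set X) := hsup ▸ Subgroup.mem_top x
    rw [Subgroup.coe_mul_of_left_le_normalizer_right _ _ Subgroup.le_normalizer_of_normal,
      Set.mem_mul] at hx
    exact hx
  have hperf : ⁅D, D⁆ = D := by
    refine le_antisymm (Subgroup.commutator_le_self D) ?_
    have h : ⁅(⊤ : Subgroup X), ⊤⁆ ≤ ⁅D, D⁆ := by
      rw [Subgroup.commutator_le]
      intro a _ b _
      obtain ⟨d, hd, z, hz, rfl⟩ := hdec a
      obtain ⟨e, he, w, hw, rfl⟩ := hdec b
      have hzc : ∀ g : X, z * g = g * z := fun g => (Subgroup.mem_center_iff.mp hz g).symm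
      have hwc : ∀ g : X, w * g = g * w := fun g => (Subgroup.mem_center_iff.mp hw g).symm
      have : ⁅d * z, e * w⁆ = ⁅d, e⁆ := by
        rw [commutatorElement_mul_left_eq_conj_mul, commutatorElement_mul_right_eq_mul_conj d e w,
          Commute.commutator_eq (hzc (e * w)), Commute.commutator_eq (hwc d).symm]
        group
      rw [this]
      exact Subgroup.commutator_mem_commutator hd he
    exact h
  haveI : Nontrivial ↥D := by
    rw [Subgroup.nontrivial_iff_ne_bot]
    intro hb
    refine hna (Subgroup.Normal.quotient_commutative_iff_commutator_le.mpr ?_)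
    rw [← hD, hb]
    exact bot_le
  refine Layer.isQuasisimple_of_normal_cases (Subgroup.isPerfect_iff.mpr hperf) fun N hN => ?_
  have hNX : (N.map D.subtype).Normal := by
    refine ⟨fun n hn g => ?_⟩
    obtain ⟨d, hd, z, hz, rfl⟩ := hdec g
    obtain ⟨m, hm, rfl⟩ := hn
    refine ⟨⟨d, hd⟩ * m * ⟨d, hd⟩⁻¹, hN.conj_mem m hm _, ?_⟩
    have hc := Subgroup.mem_center_iff.mp hz (m : X)
    simp only [Subgroup.coe_subtype, Subgroup.coe_mul, Subgroup.coe_inv]
    rw [mul_inv_rev, mul_assoc d z, ← hc]
    group
  rcases (hNX.map (QuotientGroup.mk' (Subgroup.center X))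
      (QuotientGroup.mk'_surjective _)).eq_bot_or_eq_top with hb | ht
  · rw [Subgroup.map_eq_bot_iff, QuotientGroup.ker_mk'] at hb
    exact Or.inr fun m hm => Subgroup.mem_center_iff.mpr fun y => Subtype.ext
      (Subgroup.mem_center_iff.mp (hb ⟨m, hm, rfl⟩) (y : X))
  · left
    have hNZ : N.map D.subtype ⊔ Subgroup.center X = ⊤ := by
      rw [sup_comm, ← QuotientGroup.comap_map_mk', ht, Subgroup.comap_top]
    have h : D ≤ N.map D.subtype :=
      hNX.commutator_le_of_self_sup_commutative_eq_top hNZ inferInstance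
    refine eq_top_iff.mpr fun x _ => ?_
    obtain ⟨y, hy, hyx⟩ := h x.2
    rwa [← Subtype.ext hyx]

end Cfsg.Agent.S1258
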