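import Cfsg.Statements.S1264
import Cfsg.Agent.Layer.FStar

set_option linter.style.haveILetI false

set_option autoImplicit false
open Cfsg
open scoped commutatorElement Pointwise

namespace Cfsg.Agent.S1264

/-- Let G be finite, C = C_G(F(G)) the centralizer of the Fitting subgroup, and N a solvable subgroup of C normalized by C. Then N ≤ Z(F(G)). -/
theorem result {G : Type*} [Group G] [Finite G] (N : Subgroup G) (hN : N ≤ Subgroup.centralizer (Cfsg.fittingSubgroup G : Set G)) (hnorm : Subgroup.centralizer (Cfsg.fittingSubgroup G : Set G) ≤ Subgroup.normalizer (N : Set G)) (hsolv : Group.IsSolvable ↥N) : N ≤ (Subgroup.center ↥(Cfsg.fittingSubgroup G)).map (Cfsg.fittingSubgroup G).subtype := by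
  set C := Subgroup.centralizer (Cfsg.fittingSubgroup G : Set G) with hC
  haveI : C.Normal := by rw [hC]; infer_instance
  have hsn : N.IsSubnormal :=
    Subgroup.IsSubnormal.step _ _ hN (Subgroup.Normal.isSubnormal inferInstance)
      ((Subgroup.normal_subgroupOf_iff_le_normalizer hN).mpr hnorm)
  intro x hx
  exact (Layer.mem_map_center_iff _).mpr ⟨Layer.subnormal_solvable_le_fitting hsn hsolv hN hx, hN hx⟩

end Cfsg.Agent.S1264
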