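import Cfsg.Statements.S1270
import Cfsg.Agent.Layer.LBalance

set_option linter.style.haveILetI false

set_option autoImplicit false
open Cfsg
open scoped commutatorElement Pointwise

namespace Cfsg.Agent.S1270

/-- Let G be finite with O_{p'}(G) = 1, x of order p, and L a component with ⁅L, ⟨x⟩⁆ ≠ L. Then ⁅L, O_{p'}(C_G(x))⁆ = 1. -/
theorem result {G : Type*} [Group G] [Finite G] (p : ℕ) [Fact p.Prime] (hO : Cfsg.pPrimeCore p G = ⊥) (x : G) (hx : orderOf x = p) (L : Subgroup G) (hL : Cfsg.IsComponent L) (hne : ⁅L, Subgroup.zpowers x⁆ ≠ L) : ⁅L, Cfsg.centralizerPPrimeCore p x⁆ = ⊥ := by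
  rw [Layer.centralizerPPrimeCore_eq_cCore, Subgroup.commutator_eq_bot_iff_le_centralizer,
    Subgroup.le_centralizer_iff]
  by_cases hfix : L.map (MulAut.conj x).toMonoidHom = L
  · have hxp : IsPGroup p ↥(Subgroup.zpowers x) :=
      IsPGroup.of_card (n := 1) (by rw [Nat.card_zpowers, hx, pow_one])
    have hn : Subgroup.zpowers x ≤ Subgroup.normalizer (L : Set G) :=
      Subgroup.zpowers_le.mpr (Layer.map_conj_zpow_fix.mp hfix)
    refine Layer.cCore_centralizes_of_centralized hO hxp hL ?_
    have h := (Layer.qs_sub_normalized_cases hL.2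
      (Subgroup.le_normalizer_iff_commutator_le_left.mp hn)
      (Subgroup.normalizer_commutator_ge_left L _)).resolve_left hne
    have h3 : ⁅⁅L, L⁆, Subgroup.zpowers x⁆ = ⊥ :=
      Subgroup.commutator_commutator_eq_bot_of_rotate h (by rwa [Subgroup.commutator_comm (Subgroup.zpowers x) L])
    rw [Layer.qs_subgroup_perfect hL.2] at h3
    exact Subgroup.commutator_eq_bot_iff_le_centralizer.mp h3
  · exact Layer.cCore_centralizes_of_moved hO hx hL hfix

end Cfsg.Agent.S1270
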