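import Cfsg.Statements.S1271
import Cfsg.Agent.Layer.LBalance

set_option linter.style.haveILetI false

set_option autoImplicit false
open Cfsg
open scoped commutatorElement Pointwise

namespace Cfsg.Agent.S1271

/-- Let G be finite with O_{p'}(G) = 1. Suppose that for every component L of G and every subgroup H ≥ L in which L is normal, the quotient H / C_H(L) is balanced for the prime p. Then G is balanced for p. -/
theorem result {G : Type*} [Group G] [Finite G] (p : ℕ) [Fact p.Prime] (hO : Cfsg.pPrimeCore p G = ⊥) (h : ∀ L : Subgroup G, Cfsg.IsComponent L → ∀ H : Subgroup G, L ≤ H → (L.subgroupOf H).Normal → ∀ [((Subgroup.centralizer (L : Set G)).subgroupOf H).Normal], Cfsg.IsBalancedFor p (↥H ⧸ (Subgroup.centralizer (L : Set G)).subgroupOf H)) : Cfsg.IsBalancedFor p G := by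
  intro x hx w hw
  rw [hO, Subgroup.mem_bot]
  rw [Layer.centralizerPPrimeCore_eq_cCore] at hw
  have hxp : IsPGroup p ↥(Subgroup.zpowers x) :=
    IsPGroup.of_card (n := 1) (by rw [Nat.card_zpowers, hx, pow_one])
  refine Layer.eq_one_of_pCore_of_coprime (Layer.mem_pCore_of_centralizes hO (fun L hL => ?_)
    (Layer.cCore_le_centralizer_pCore hxp hw))
    ((Layer.coprime_card_cCore _).coprime_dvd_left (Subgroup.orderOf_dvd_natCard _ hw))
  set N := Subgroup.normalizer (L : Set G) with hN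
  by_cases hfix : x ∈ N
  swap
  · exact Layer.cCore_centralizes_of_moved hO hx hL (fun h => hfix (Layer.map_conj_zpow_fix.mp h)) hw
  by_cases hcent : x ∈ Subgroup.centralizer (L : Set G)
  · exact Layer.cCore_centralizes_of_centralized hO hxp hL
      (Subgroup.le_centralizer_iff.mp (Subgroup.zpowers_le.mpr hcent)) hw
  set U : Subgroup G := N ⊓ Subgroup.centralizer ({x} : Set G) with hU
  have hxU : x ∈ U := ⟨hfix, Subgroup.mem_centralizer_singleton_iff.mpr rfl⟩
  have hwU : w ∈ U := ⟨Layer.cCore_le_normalizer_component hO hxp hL hw,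
    Subgroup.mem_centralizer_singleton_iff.mpr
      (Subgroup.mem_centralizer_iff.mp (Layer.cCore_le _ hw) x (Subgroup.mem_zpowers x)).symm⟩
  set H := L ⊔ U with hH
  have hHN : H ≤ N := sup_le Subgroup.le_normalizer inf_le_left
  haveI hCn : ((Subgroup.centralizer (L : Set G)).subgroupOf H).Normal :=
    ⟨fun y hy g => (Subgroup.mem_normalizer_iff.mp
      (Coprime.le_normalizer_centralizer le_rfl (hHN g.2)) _).mp hy⟩
  set A := (H.subgroupOf N).map (Layer.autHom L) with hA
  let ψ : ↥H →* ↥A := ((Layer.autHom L).comp (Subgroup.inclusion hHN)).codRestrict A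
    fun y => ⟨Subgroup.inclusion hHN y, y.2, rfl⟩
  have hψs : Function.Surjective ψ := by
    rintro ⟨_, y, hy, rfl⟩
    exact ⟨⟨y, hy⟩, rfl⟩
  have hψk : ψ.ker = (Subgroup.centralizer (L : Set G)).subgroupOf H := by
    ext y
    rw [MonoidHom.mem_ker, Subgroup.mem_subgroupOf]
    constructor
    · exact fun h => (Layer.autHom_eq_one_iff (Subgroup.inclusion hHN y)).mp (congrArg Subtype.val h)
    · exact fun h => Subtype.ext ((Layer.autHom_eq_one_iff (Subgroup.inclusion hHN y)).mpr h)
  set e := (QuotientGroup.quotientMulEquivOfEq hψk.symm).trans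
    (QuotientGroup.quotientKerEquivOfSurjective ψ hψs) with he
  have hLn : (L.subgroupOf H).Normal :=
    (Subgroup.normal_subgroupOf_iff_le_normalizer le_sup_left).mpr hHN
  have hbal := h L hL H le_sup_left hLn
  have hcore := Layer.autHom_mem_core hO hL (U := U) inf_le_left
    ⟨1, by rw [pow_one, ← hx]; exact pow_orderOf_eq_one x⟩ inf_le_right hxU hw hwU (A := A) rfl
    ⟨⟨x, hfix⟩, Subgroup.mem_sup_right hxU, rfl⟩ ⟨⟨w, hwU.1⟩, Subgroup.mem_sup_right hwU, rfl⟩
  set xH : ↥H := ⟨x, Subgroup.mem_sup_right hxU⟩ with hxH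
  set wH : ↥H := ⟨w, Subgroup.mem_sup_right hwU⟩ with hwH
  change ψ wH ∈ Cfsg.centralizerPPrimeCore p (ψ xH) at hcore
  have hord : orderOf (QuotientGroup.mk' ((Subgroup.centralizer (L : Set G)).subgroupOf H) xH) = p := by
    refine orderOf_eq_prime ?_ ?_
    · rw [← map_pow, show xH ^ p = 1 from Subtype.ext (by
        rw [SubmonoidClass.coe_pow]; exact hx ▸ pow_orderOf_eq_one x), map_one]
    · rw [QuotientGroup.mk'_apply, ne_eq, QuotientGroup.eq_one_iff]
      exact hcent
  have hV : ψ wH ∈ Cfsg.pPrimeCore p ↥A := by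
    have h1 := Layer.map_centralizerPPrimeCore_le e.symm (ψ xH) ⟨ψ wH, hcore, rfl⟩
    have hx' : e.symm (ψ xH) = QuotientGroup.mk' _ xH := by
      rw [MulEquiv.symm_apply_eq]; rfl
    rw [hx'] at h1
    have h2 := hbal _ hord h1
    rw [← Core.map_pPrimeCore e]
    exact ⟨_, h2, e.apply_symm_apply _⟩
  set ι : ↥L →* ↥A := ψ.comp (Subgroup.inclusion (le_sup_left : L ≤ H)) with hι
  set N1 := (Cfsg.pPrimeCore p ↥A).comap ι with hN1
  have hN1c : N1 ≤ Subgroup.center ↥L := by
    refine (Layer.qs_normal_cases hL.2 inferInstance).resolve_left fun htop => ?_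
    refine Layer.qs_center_ne_top hL.2 (top_le_iff.mp fun l _ => Subgroup.mem_center_iff.mpr fun m => ?_)
    have hker : ι.ker = ⊤ := Layer.component_eq_of_coprime_index hO hL (by
      rw [Subgroup.index_ker]
      refine Nat.Coprime.coprime_dvd_left (Subgroup.card_dvd_of_le ?_)
        (Core.coprime_card_pPrimeCore (p := p) (G := ↥A))
      rintro _ ⟨y, rfl⟩
      have hy : y ∈ N1 := htop ▸ Subgroup.mem_top y
      exact hy)
    have hl : ι l = 1 := MonoidHom.mem_ker.mp (hker ▸ Subgroup.mem_top l)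
    refine Subtype.ext (Subgroup.mem_centralizer_iff.mp ?_ (m : G) m.2)
    exact (Layer.autHom_eq_one_iff (Subgroup.inclusion hHN (Subgroup.inclusion le_sup_left l))).mp
      (congrArg Subtype.val hl)
  refine Layer.mem_centralizer_of_commutator_central (Layer.qs_subgroup_perfect hL.2) fun k hk => ?_
  have hwk : ⁅w, k⁆ ∈ L := by
    rw [commutatorElement_def]
    exact Subgroup.mul_mem _ ((Subgroup.mem_normalizer_iff.mp hwU.1 k).mp hk) (Subgroup.inv_mem _ hk)
  have hmem : (⟨⁅w, k⁆, hwk⟩ : ↥L) ∈ N1 := by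
    show ψ (Subgroup.inclusion _ ⟨⁅w, k⁆, hwk⟩) ∈ Cfsg.pPrimeCore p ↥A
    rw [show Subgroup.inclusion (le_sup_left : L ≤ H) ⟨⁅w, k⁆, hwk⟩ =
      ⁅wH, (⟨k, Subgroup.mem_sup_left hk⟩ : ↥H)⁆ from Subtype.ext rfl, map_commutatorElement]
    exact Subgroup.commutator_le_left _ ⊤ (Subgroup.commutator_mem_commutator hV (Subgroup.mem_top _))
  exact (Layer.mem_map_center_iff L).mp ⟨_, hN1c hmem, rfl⟩

end Cfsg.Agent.S1271
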