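import Cfsg.Statements.S1276
import Cfsg.Agent.Layer.Local

set_option linter.style.haveILetI false

set_option autoImplicit false
open Cfsg
open scoped commutatorElement Pointwise

namespace Cfsg.Agent.S1276

/-- Let K be a 2-component of the finite group X. Then K is quasisimple if and only if ⁅K, O(K)⁆ = 1. -/
theorem result {X : Type*} [Group X] [Finite X] (K : Subgroup X) (hK : Cfsg.IsPComponent 2 K) : Cfsg.IsQuasisimple ↥K ↔ ⁅K, ((Cfsg.oddCore ↥K).map K.subtype)⁆ = ⊥ := by
  constructor
  · intro hq
    have hle : (Cfsg.oddCore ↥K).map K.subtype ≤ K := Subgroup.map_subtype_le _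
    have hn : K ≤ Subgroup.normalizer (((Cfsg.oddCore ↥K).map K.subtype : Subgroup X) : Set X) := by
      rw [← Subgroup.normal_subgroupOf_iff_le_normalizer hle, Subgroup.subgroupOf,
        Subgroup.comap_map_eq_self_of_injective K.subtype_injective]
      infer_instance
    refine Layer.commutator_eq_bot_symm ((Layer.qs_sub_normalized_cases hq hle hn).resolve_left ?_)
    intro h
    refine Layer.pComponent_not_le_pPrimeCore hK ?_
    exact h.symm.le.trans ((Layer.pPrimeCore_pComponent_le hK.1).trans inf_le_right)
  · intro h
    haveI : Group.IsPerfect ↥K := Subgroup.isPerfect_iff.mpr (Layer.pComponent_perfect hK)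
    have hq : Cfsg.IsQuasisimple (↥K ⧸ Cfsg.oddCore ↥K) := Layer.pComponent_quotient_quasisimple hK
    set O := Cfsg.oddCore ↥K with hO
    have hOc : O ≤ Subgroup.center ↥K := fun x hx => Subgroup.mem_center_iff.mpr fun y =>
      Subtype.ext (Layer.commute_of_commutator_eq_bot h y.2 ⟨x, hx, rfl⟩)
    haveI : Nontrivial ↥K := by
      haveI := Layer.qs_nontrivial hq
      exact (QuotientGroup.mk'_surjective O).nontrivial
    refine Layer.isQuasisimple_of_normal_cases inferInstance fun N hN => ?_
    rcases Layer.qs_normal_cases hq (hN.map _ (QuotientGroup.mk'_surjective O)) with ht | hc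
    · left
      have hsup : O ⊔ N = ⊤ := by
        rw [← QuotientGroup.comap_map_mk', ht, Subgroup.comap_top]
      haveI : IsMulCommutative ↥O := Subgroup.le_centralizer_iff_isMulCommutative.mp
        (hOc.trans (Subgroup.center_le_centralizer _))
      have := hN.commutator_le_of_self_sup_commutative_eq_top (by rwa [sup_comm]) (inferInstance : IsMulCommutative ↥O)
      rw [Group.IsPerfect.commutator_eq_top] at this
      exact top_le_iff.mp this
    · right
      intro n hn
      rw [← Group.IsPerfect.upperCentralSeries_eq_center ↥K (n := 2) (by norm_num),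
        Subgroup.mem_upperCentralSeries_succ_iff]
      intro y
      rw [Subgroup.upperCentralSeries_one]
      apply hOc
      rw [← QuotientGroup.eq_one_iff, ← QuotientGroup.mk'_apply, map_commutatorElement,
        commutatorElement_eq_one_iff_mul_comm]
      exact (Subgroup.mem_center_iff.mp (hc ⟨n, hn, rfl⟩) _).symm

end Cfsg.Agent.S1276
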