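import Cfsg.Statements.S1277
import Cfsg.Agent.Layer.Local

set_option linter.style.haveILetI false

set_option autoImplicit false
open Cfsg
open scoped commutatorElement Pointwise

namespace Cfsg.Agent.S1277

/-- For a finite group X with core O(X): the image of E(X) in X / O(X) is all of E(X / O(X)) if and only if every 2-component of X is a component, i.e. L_{2'}(X) ≤ E(X). -/
theorem result {X : Type*} [Group X] [Finite X] : (Cfsg.layer X).map (QuotientGroup.mk' (Cfsg.oddCore X)) = Cfsg.layer (X ⧸ Cfsg.oddCore X) ↔ Cfsg.pLayer 2 X ≤ Cfsg.layer X := by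
  constructor
  · intro h
    refine sSup_le fun K hK => ?_
    have hbar := hK.2.1
    by_contra hne
    refine Layer.qs_subgroup_not_abelian hbar.2 ?_
    have hle : K.map (QuotientGroup.mk' (Cfsg.oddCore X)) ≤
        (Cfsg.layer X).map (QuotientGroup.mk' (Cfsg.oddCore X)) := h ▸ Layer.component_le_layer hbar
    have hc : ∀ L : Subgroup X, Cfsg.IsComponent L →
        ⁅K.map (QuotientGroup.mk' (Cfsg.oddCore X)), L.map (QuotientGroup.mk' (Cfsg.oddCore X))⁆ = ⊥ := by
      intro L hL
      rcases Layer.map_component_cases (p := 2) hL with hb | hb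
      · rw [(Subgroup.map_eq_bot_iff L).mpr (by rw [QuotientGroup.ker_mk']; exact hb),
          Subgroup.commutator_bot_right]
      · refine Layer.components_commute hbar hb fun e => hne ?_
        have hL2 := Layer.isPComponent_component (p := 2) hL fun hLO => ?_
        · rw [Layer.pComponent_ext hK hL2 e]
          exact Layer.component_le_layer hL
        · exact Layer.qs_subgroup_ne_bot hb.2
            ((Subgroup.map_eq_bot_iff L).mpr (by rw [QuotientGroup.ker_mk']; exact hLO))
    rw [Cfsg.layer, sSup_eq_iSup, Subgroup.map_iSup] at hle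
    simp only [Subgroup.map_iSup] at hle
    refine le_bot_iff.mp ((Subgroup.commutator_mono le_rfl hle).trans
      (le_of_eq (Subgroup.commutator_eq_bot_iff_le_centralizer.mpr ?_)))
    rw [Subgroup.le_centralizer_iff]
    refine iSup₂_le fun L hL => ?_
    rw [Subgroup.le_centralizer_iff]
    exact Subgroup.commutator_eq_bot_iff_le_centralizer.mp (hc L hL)
  · intro h
    refine le_antisymm ?_ ?_
    · rw [Subgroup.map_le_iff_le_comap]
      refine sSup_le fun L hL => ?_
      rw [← Subgroup.map_le_iff_le_comap]
      rcases Layer.map_component_cases (p := 2) hL with hb | hb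
      · rw [(Subgroup.map_eq_bot_iff L).mpr (by rw [QuotientGroup.ker_mk']; exact hb)]
        exact bot_le
      · exact Layer.component_le_layer hb
    · exact (Layer.map_pLayer (p := 2)).symm.le.trans (Subgroup.map_mono h)

end Cfsg.Agent.S1277
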