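import Cfsg.Statements.S1278
import Cfsg.Agent.Layer.Local

set_option linter.style.haveILetI false

set_option autoImplicit false
open Cfsg
open scoped commutatorElement Pointwise

namespace Cfsg.Agent.S1278

/-- Let K ≠ L be 2-components of the finite group X. Then ⁅K, L⁆ ≤ O(K) ⊓ O(L), and if K is quasisimple then ⁅K, L⁆ = 1. -/
theorem result {X : Type*} [Group X] [Finite X] (K L : Subgroup X) (hK : Cfsg.IsPComponent 2 K) (hL : Cfsg.IsPComponent 2 L) (hne : K ≠ L) : ⁅K, L⁆ ≤ ((Cfsg.oddCore ↥K).map K.subtype) ⊓ ((Cfsg.oddCore ↥L).map L.subtype) ∧ (Cfsg.IsQuasisimple ↥K → ⁅K, L⁆ = ⊥) := by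
  have h := Layer.commutator_pComponents_le hK hL hne
  refine ⟨le_inf ?_ ?_, fun hq => ?_⟩
  · exact (h.trans (inf_le_inf_right _ inf_le_left)).trans (Layer.inf_pPrimeCore_le_pPrimeCore K)
  · exact (h.trans (inf_le_inf_right _ inf_le_right)).trans (Layer.inf_pPrimeCore_le_pPrimeCore L)
  · refine (Layer.component_le_or_commute (Layer.isPComponent_of_isComponent hK hq) hL.1).resolve_left
      fun hle => Layer.pComponent_not_le_pPrimeCore hK ?_
    calc K = ⁅K, K⁆ := (Layer.pComponent_perfect hK).symm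
      _ ≤ ⁅K, L⁆ := Subgroup.commutator_mono le_rfl hle
      _ ≤ _ := h.trans inf_le_right

end Cfsg.Agent.S1278
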