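import Cfsg.Statements.S1279
import Cfsg.Agent.Layer.Local

set_option linter.style.haveILetI false

set_option autoImplicit false
open Cfsg
open scoped commutatorElement Pointwise

namespace Cfsg.Agent.S1279

/-- Let A be a noncyclic elementary abelian p-subgroup of the finite group G such that C_G(a) is solvable for every non-identity a ∈ A. Then a ↦ O_{p'}(C_G(a)) is a solvable A-signalizer functor on G. -/
theorem result {G : Type*} [Group G] [Finite G] (p : ℕ) [Fact p.Prime] (A : Subgroup G) (hA : Cfsg.IsElementaryAbelian p A) (hA2 : p ^ 2 ≤ Nat.card ↥A) (hsolv : ∀ a ∈ A, a ≠ 1 → Group.IsSolvable ↥(Subgroup.centralizer ({a} : Set G))) : Cfsg.IsSolvableSignalizerFunctor p A (fun a => Cfsg.centralizerPPrimeCore p a) := by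
  refine ⟨⟨fun a _ _ => Subgroup.map_subtype_le _, fun a _ _ => ?_, fun a ha _ b hb x hx => ?_,
    fun a ha _ b hb hb1 => ?_⟩, fun a ha ha1 => ?_⟩
  · change ¬ p ∣ Nat.card ↥((Cfsg.pPrimeCore p _).map _)
    rw [Subgroup.card_map_of_injective (Subgroup.subtype_injective _)]
    exact Core.not_dvd_card_pPrimeCore
  · obtain ⟨y, hy, rfl⟩ := hx
    have hbC : b ∈ Subgroup.centralizer ({a} : Set G) :=
      Subgroup.mem_centralizer_singleton_iff.mpr
        (congrArg Subtype.val (hA.1.is_comm.comm (⟨b, hb⟩ : ↥A) ⟨a, ha⟩))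
    exact ⟨⟨b, hbC⟩ * y * ⟨b, hbC⟩⁻¹, Core.pPrimeCore_normal.conj_mem y hy _, rfl⟩
  · haveI := hsolv b hb hb1
    exact Layer.centralizerPPrimeCore_inf_le Layer.isPConstrained_of_isSolvable
      ⟨1, by rw [pow_one]; exact hA.2 a ha⟩
      (congrArg Subtype.val (hA.1.is_comm.comm (⟨a, ha⟩ : ↥A) ⟨b, hb⟩))
  · haveI := hsolv a ha ha1
    exact Core.isSolvable_map inferInstance _

end Cfsg.Agent.S1279
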