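import Cfsg.Statements.S1281
import Cfsg.Agent.Signalizer.Family
-- import your own Cfsg.Agent.* helpers here

set_option autoImplicit false
open Cfsg

namespace Cfsg.Agent.S1281

/-- Let θ be a solvable A-signalizer functor on the finite group G (A a noncyclic elementary abelian p-subgroup) and N a normal subgroup of order prime to p. Then for all non-identity a, b ∈ A, the image of θ a in G / N meets the centralizer of the image of b inside the image of θ b. -/
theorem result {G : Type*} [Group G] [Finite G] (p : ℕ) [Fact p.Prime] (A : Subgroup G) (hA : Cfsg.IsElementaryAbelian p A) (hA2 : p ^ 2 ≤ Nat.card ↥A) (θ : G → Subgroup G) (hθ : Cfsg.IsSolvableSignalizerFunctor p A θ) (N : Subgroup G) [N.Normal] (hN : ¬ p ∣ Nat.card ↥N) (a b : G) (ha : a ∈ A) (ha1 : a ≠ 1) (hb : b ∈ A) (hb1 : b ≠ 1) : (θ a).map (QuotientGroup.mk' N) ⊓ Subgroup.centralizer {QuotientGroup.mk' N b} ≤ (θ b).map (QuotientGroup.mk' N) := by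
  rintro y ⟨⟨x, hx, rfl⟩, hyb⟩
  have hz : Subgroup.zpowers b ≤ A := Subgroup.zpowers_le.mpr hb
  have hm := Signalizer.theta_mem hθ ha ha1
  have hcomm : ∀ c ∈ Subgroup.zpowers b, x⁻¹ * (c * x * c⁻¹) ∈ θ a ⊓ N := by
    intro c hc
    refine ⟨(θ a).mul_mem ((θ a).inv_mem hx) (hm.2.2.1 c (hz hc) x hx), ?_⟩
    have h1 : QuotientGroup.mk' N x ∈ Subgroup.centralizer
        ((Subgroup.zpowers (QuotientGroup.mk' N b) : Subgroup (G ⧸ N)) : Set (G ⧸ N)) := by
      rw [Subgroup.zpowers_eq_closure, Subgroup.centralizer_closure]; exact hyb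
    have h2 := Subgroup.mem_centralizer_iff.mp h1 (QuotientGroup.mk' N c)
      (MonoidHom.map_zpowers (QuotientGroup.mk' N) b ▸ Subgroup.mem_map_of_mem _ hc)
    refine (QuotientGroup.eq_one_iff _).mp ?_
    change QuotientGroup.mk' N _ = 1
    rw [map_mul, map_mul, map_mul, map_inv, map_inv, h2, mul_inv_cancel_right, inv_mul_cancel]
  obtain ⟨n, hn, hc⟩ := Coprime.exists_fixed_mem_leftCoset (A := Subgroup.zpowers b) (N := θ a ⊓ N)
    (Coprime.le_normalizer_inf (hz.trans (Signalizer.le_normalizer_of_mem hm))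
      Subgroup.le_normalizer_of_normal)
    (((Coprime.ea_coprime hA hN).coprime_dvd_left (Subgroup.card_dvd_of_le hz)).coprime_dvd_right
      (Subgroup.card_dvd_of_le inf_le_right))
    (Or.inl (Coprime.isSolvable_of_le hz (Coprime.ea_isSolvable hA))) (k := x) hcomm
  refine ⟨x * n, Signalizer.balance hθ ha ha1 hb hb1 ⟨(θ a).mul_mem hx hn.1, ?_⟩, ?_⟩
  · exact Subgroup.centralizer_le (Set.singleton_subset_iff.mpr (Subgroup.mem_zpowers b)) hc
  · rw [map_mul]
    have : QuotientGroup.mk' N n = 1 := (QuotientGroup.eq_one_iff n).mpr hn.2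
    rw [this, mul_one]

end Cfsg.Agent.S1281
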