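import Cfsg.Statements.S1285
import Cfsg.Agent.Signalizer.Transitivity
-- import your own Cfsg.Agent.* helpers here

set_option autoImplicit false
open Cfsg

namespace Cfsg.Agent.S1285
open scoped Pointwise

/-- Let θ be a solvable A-signalizer functor on the finite group G with A elementary abelian of rank at least 3, and suppose that for some prime q every θ a (a ∈ A non-identity) is a q-group. Then θ is complete. -/
theorem result {G : Type*} [Group G] [Finite G] (p : ℕ) [Fact p.Prime] (A : Subgroup G) (hA : Cfsg.IsElementaryAbelian p A) (hA3 : p ^ 3 ≤ Nat.card ↥A) (θ : G → Subgroup G) (hθ : Cfsg.IsSolvableSignalizerFunctor p A θ) (q : ℕ) [Fact q.Prime] (hq : ∀ a ∈ A, a ≠ 1 → IsPGroup q ↥(θ a)) : Cfsg.IsCompleteSignalizerFunctor p A θ := by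
  obtain ⟨a₀, ha₀, ha₀1⟩ := (A.bot_or_exists_ne_one).resolve_left (Coprime.ea_ne_bot three_ne_zero hA3)
  have hA0 : Cfsg.signalizerInf A θ ≤ θ a₀ := Signalizer.signalizerInf_le ha₀ ha₀1
  obtain ⟨Q, hQ, hle⟩ := Signalizer.exists_maxQMember_ge
    (Signalizer.signalizerInf_mem hθ le_rfl (Coprime.ea_ne_bot three_ne_zero hA3))
    ((hq a₀ ha₀ ha₀1).to_le hA0)
  refine ⟨hθ.1, Q, hQ.mem.2.2.1, hQ.mem.2.1, fun a ha ha1 =>
    le_antisymm (Signalizer.inf_le_theta hQ.mem ha ha1) (le_inf ?_ (Signalizer.theta_le_centralizer hθ ha ha1))⟩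
  obtain ⟨R, hR, hR'⟩ := Signalizer.exists_maxQMember_ge (Signalizer.theta_mem hθ ha ha1) (hq a ha ha1)
  obtain ⟨c, hc, hcR⟩ := Signalizer.exists_conj_maxQMember hA hA3 hθ hQ hR
  rw [Coprime.conj_smul_eq_self_of_mem_normalizer (Subgroup.le_normalizer (hle hc))] at hcR
  exact hcR ▸ hR' 

end Cfsg.Agent.S1285
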