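import Cfsg.Statements.S1286
-- import your own Cfsg.Agent.* helpers here

set_option autoImplicit false
open Cfsg

namespace Cfsg.Agent.S1286
abbrev GX : Type := (Matrix (Fin 3) (Fin 3) (ZMod 3))ˣ

def mkU (m n : Matrix (Fin 3) (Fin 3) (ZMod 3)) (h : m * n = 1) (h' : n * m = 1) : GX := ⟨m, n, h, h'⟩

def a1 : GX := mkU !![1,0,0;0,1,0;0,0,2] !![1,0,0;0,1,0;0,0,2] (by decide) (by decide)
def a2 : GX := mkU !![2,0,0;0,1,0;0,0,1] !![2,0,0;0,1,0;0,0,1] (by decide) (by decide)
def a3 : GX := mkU !![2,0,0;0,1,0;0,0,2] !![2,0,0;0,1,0;0,0,2] (by decide) (by decide)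
def ex : GX := mkU !![1,1,0;0,1,0;0,0,1] !![1,2,0;0,1,0;0,0,1] (by decide) (by decide)
def ey : GX := mkU !![1,0,0;0,1,1;0,0,1] !![1,0,0;0,1,2;0,0,1] (by decide) (by decide)

def AA : Subgroup GX where
  carrier := {g | g = 1 ∨ g = a1 ∨ g = a2 ∨ g = a3}
  one_mem' := Or.inl rfl
  mul_mem' := by
    rintro x y (rfl | rfl | rfl | rfl) (rfl | rfl | rfl | rfl) <;> (simp only [Set.mem_setOf_eq]; decide)
  inv_mem' := by
    rintro x (rfl | rfl | rfl | rfl) <;> (simp only [Set.mem_setOf_eq]; decide)

def TX : Subgroup GX where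
  carrier := {g | g = 1 ∨ g = ex ∨ g = ex⁻¹}
  one_mem' := Or.inl rfl
  mul_mem' := by
    rintro x y (rfl | rfl | rfl) (rfl | rfl | rfl) <;> (simp only [Set.mem_setOf_eq]; decide)
  inv_mem' := by
    rintro x (rfl | rfl | rfl) <;> (simp only [Set.mem_setOf_eq]; decide)

def TY : Subgroup GX where
  carrier := {g | g = 1 ∨ g = ey ∨ g = ey⁻¹}
  one_mem' := Or.inl rfl
  mul_mem' := by
    rintro x y (rfl | rfl | rfl) (rfl | rfl | rfl) <;> (simp only [Set.mem_setOf_eq]; decide)
  inv_mem' := by
    rintro x (rfl | rfl | rfl) <;> (simp only [Set.mem_setOf_eq]; decide)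

def th (g : GX) : Subgroup GX := if g = a1 then TX else if g = a2 then TY else ⊥

theorem th_a1 : th a1 = TX := if_pos rfl
theorem th_a2 : th a2 = TY := by rw [th, if_neg (by decide), if_pos rfl]
theorem th_a3 : th a3 = ⊥ := by rw [th, if_neg (by decide), if_neg (by decide)]

theorem solvable_of_three (T : Subgroup GX) (t : GX) (h : ∀ g ∈ T, g = 1 ∨ g = t ∨ g = t⁻¹) :
    Group.IsSolvable T := by
  refine Group.isSolvable_of_comm fun x y => Subtype.ext ?_
  rcases h x x.2 with hx | hx | hx <;> rcases h y y.2 with hy | hy | hy <;>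
    simp [hx, hy]

theorem card_three (T : Subgroup GX) (t : GX) (ht : t ^ 3 = 1)
    (h : ∀ g ∈ T, g = 1 ∨ g = t ∨ g = t⁻¹) : ¬ 2 ∣ Nat.card T := by
  intro hd
  have : T ≤ Subgroup.zpowers t := by
    intro g hg
    rcases h g hg with rfl | rfl | rfl
    · exact one_mem _
    · exact Subgroup.mem_zpowers g
    · exact inv_mem (Subgroup.mem_zpowers t)
  have h1 := (hd.trans (Subgroup.card_dvd_of_le this)).trans
    (Nat.card_zpowers t ▸ orderOf_dvd_of_pow_eq_one ht)
  exact absurd h1 (by decide)


/-- There exist a finite group X, an elementary abelian subgroup A of order 4 and a solvable A-signalizer functor θ on X for the prime 2 which is not complete. -/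
theorem result : ∃ (X : Type) (_ : Group X) (_ : Finite X) (A : Subgroup X) (θ : X → Subgroup X), Cfsg.IsElementaryAbelian 2 A ∧ Nat.card ↥A = 4 ∧ Cfsg.IsSolvableSignalizerFunctor 2 A θ ∧ ¬ Cfsg.IsCompleteSignalizerFunctor 2 A θ := by
  classical
  refine ⟨GX, inferInstance, inferInstance, AA, th, ⟨⟨⟨?_⟩⟩, ?_⟩, ?_, ⟨⟨?_, ?_, ?_, ?_⟩, ?_⟩, ?_⟩
  · rintro ⟨x, hx⟩ ⟨y, hy⟩
    apply Subtype.ext
    rcases hx with rfl | rfl | rfl | rfl <;> rcases hy with rfl | rfl | rfl | rfl <;>
      (change _ * _ = _ * _; decide)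
  · rintro a (rfl | rfl | rfl | rfl) <;> decide
  · have h : (AA : Set GX) = {1, a1, a2, a3} := by ext g; simp [AA]
    rw [← SetLike.coe_sort_coe, Nat.card_coe_set_eq, h]
    rw [Set.ncard_insert_of_notMem (by simp only [Set.mem_insert_iff, Set.mem_singleton_iff]; decide),
      Set.ncard_insert_of_notMem (by simp only [Set.mem_insert_iff, Set.mem_singleton_iff]; decide),
      Set.ncard_pair (by decide)]
  · intro a ha ha1
    rcases ha with rfl | rfl | rfl | rfl
    · exact absurd rfl ha1
    · rw [th_a1]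
      rintro g (rfl | rfl | rfl) <;> (rw [Subgroup.mem_centralizer_singleton_iff]; decide)
    · rw [th_a2]
      rintro g (rfl | rfl | rfl) <;> (rw [Subgroup.mem_centralizer_singleton_iff]; decide)
    · rw [th_a3]; exact bot_le
  · intro a ha ha1
    rcases ha with rfl | rfl | rfl | rfl
    · exact absurd rfl ha1
    · rw [th_a1]; exact card_three TX ex (by decide) fun g hg => hg
    · rw [th_a2]; exact card_three TY ey (by decide) fun g hg => hg
    · rw [th_a3, Subgroup.card_bot]; decide
  · intro a ha ha1 b hb x hx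
    rcases ha with rfl | rfl | rfl | rfl
    · exact absurd rfl ha1
    · rw [th_a1] at hx ⊢
      change _ = _ ∨ _ = _ ∨ _ = _
      rcases hb with rfl | rfl | rfl | rfl <;> rcases hx with rfl | rfl | rfl <;> decide
    · rw [th_a2] at hx ⊢
      change _ = _ ∨ _ = _ ∨ _ = _
      rcases hb with rfl | rfl | rfl | rfl <;> rcases hx with rfl | rfl | rfl <;> decide
    · rw [th_a3, Subgroup.mem_bot] at hx ⊢
      simp [hx]
  · intro a ha ha1 b hb hb1 x hx
    rw [Subgroup.mem_inf, Subgroup.mem_centralizer_singleton_iff] at hx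
    obtain ⟨hx, hxb⟩ := hx
    rcases ha with rfl | rfl | rfl | rfl
    · exact absurd rfl ha1
    · rcases hb with rfl | rfl | rfl | rfl
      · exact absurd rfl hb1
      · exact hx
      all_goals
        rw [th_a1] at hx
        rcases hx with rfl | rfl | rfl
        · exact one_mem _
        · exact absurd hxb (by decide)
        · exact absurd hxb (by decide)
    · rcases hb with rfl | rfl | rfl | rfl
      · exact absurd rfl hb1
      rotate_left
      · exact hx
      all_goals
        rw [th_a2] at hx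
        rcases hx with rfl | rfl | rfl
        · exact one_mem _
        · exact absurd hxb (by decide)
        · exact absurd hxb (by decide)
    · rw [th_a3, Subgroup.mem_bot] at hx
      rw [hx]; exact one_mem _
  · intro a ha ha1
    rcases ha with rfl | rfl | rfl | rfl
    · exact absurd rfl ha1
    · rw [th_a1]; exact solvable_of_three TX ex fun g hg => hg
    · rw [th_a2]; exact solvable_of_three TY ey fun g hg => hg
    · rw [th_a3]; exact Group.isSolvable_of_comm fun x y => Subsingleton.elim _ _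
  · rintro ⟨-, X, -, -, hX⟩
    have h1 : ex ∈ X := by
      have : ex ∈ X ⊓ Subgroup.centralizer {a1} := by
        rw [hX a1 (Or.inr (Or.inl rfl)) (by decide), th_a1]; exact Or.inr (Or.inl rfl)
      exact this.1
    have h2 : ey ∈ X := by
      have : ey ∈ X ⊓ Subgroup.centralizer {a2} := by
        rw [hX a2 (Or.inr (Or.inr (Or.inl rfl))) (by decide), th_a2]; exact Or.inr (Or.inl rfl)
      exact this.1
    have h3 : ex * ey * ex⁻¹ * ey⁻¹ ∈ X ⊓ Subgroup.centralizer {a3} :=
      ⟨X.mul_mem (X.mul_mem (X.mul_mem h1 h2) (X.inv_mem h1)) (X.inv_mem h2),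
        Subgroup.mem_centralizer_singleton_iff.mpr (by decide)⟩
    rw [hX a3 (Or.inr (Or.inr (Or.inr rfl))) (by decide), th_a3, Subgroup.mem_bot] at h3
    exact absurd h3 (by decide)

end Cfsg.Agent.S1286
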