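import Cfsg.Statements.S1288
import Cfsg.Agent.Coprime.PCoreTools
-- import your own Cfsg.Agent.* helpers here

set_option autoImplicit false
open Cfsg

namespace Cfsg.Agent.S1288
open scoped commutatorElement

/-- Let A be a noncyclic elementary abelian p-subgroup of a finite group H normalizing a solvable subgroup K of order prime to p, q a prime dividing |K|, and U ≤ K a subgroup of order prime to q such that ⁅U, C_K(B)⁆ has order prime to q for every subgroup B of index p in A. Then U ≤ O_{q'}(K). -/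
theorem result {H : Type*} [Group H] [Finite H] (p : ℕ) [Fact p.Prime] (A K : Subgroup H) (hA : Cfsg.IsElementaryAbelian p A) (hA2 : p ^ 2 ≤ Nat.card ↥A) (hK : ¬ p ∣ Nat.card ↥K) (hKs : Group.IsSolvable ↥K) (hAK : A ≤ Subgroup.normalizer (K : Set H)) (q : ℕ) [Fact q.Prime] (hqK : q ∣ Nat.card ↥K) (U : Subgroup H) (hU : U ≤ K) (hUq : ¬ q ∣ Nat.card ↥U) (hcomm : ∀ B : Subgroup H, B ≤ A → B.relIndex A = p → ¬ q ∣ Nat.card ↥⁅U, K ⊓ Subgroup.centralizer (B : Set H)⁆) : U ≤ (Cfsg.pPrimeCore q ↥K).map K.subtype := by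
  set M₀ : Subgroup ↥K := Cfsg.pPrimePCore q ↥K with hM₀
  set MH : Subgroup H := M₀.map K.subtype with hMH
  have hMK : MH ≤ K := Subgroup.map_subtype_le _
  have hAM : A ≤ Subgroup.normalizer (MH : Set H) :=
    Coprime.le_normalizer_map_of_characteristic hAK M₀ Coprime.pPrimePCore_characteristic
  have hpM : ¬ p ∣ Nat.card MH := fun h => hK (h.trans (Subgroup.card_dvd_of_le hMK))
  obtain ⟨Q, hQA⟩ := Coprime.exists_invariant_sylow hAM (Coprime.ea_coprime hA hpM)
    (Or.inl (Coprime.ea_isSolvable hA)) q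
  let e : M₀ ≃* MH := M₀.equivMapOfInjective K.subtype K.subtype_injective
  let P : Sylow q M₀ := Q.mapSurjective (f := e.symm.toMonoidHom) e.symm.surjective
  set PH : Subgroup H := (Q : Subgroup MH).map MH.subtype with hPH
  have hPmap : ((P : Subgroup M₀).map M₀.subtype).map K.subtype = PH := by
    change (((Q : Subgroup MH).map e.symm.toMonoidHom).map M₀.subtype).map K.subtype = _
    rw [hPH, Subgroup.map_map, Subgroup.map_map]
    congr 1
    ext x
    obtain ⟨y, rfl⟩ := e.surjective x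
    simp [e]
    rfl
  have hPM : PH ≤ MH := Subgroup.map_subtype_le _
  -- the elements commuting with `U` modulo the core form a subgroup
  let f := QuotientGroup.mk' (Cfsg.pPrimeCore q ↥K)
  let T : Subgroup H := ((Subgroup.centralizer (((U.subgroupOf K).map f : Subgroup _) : Set _)).comap f).map K.subtype
  have hPT : PH ≤ T := by
    refine Coprime.ea_le_of_centralizers_le hA hA2 (fun h => hpM (h.trans (Subgroup.card_dvd_of_le hPM)))
      hQA fun a ha ha1 => ?_
    -- `a` lies in no hyperplane necessarily, so pass through the cocyclic subgroups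
    have := hA.1
    conv_lhs => rw [← Coprime.iSup_cocyclic_centralizer_eq (A := A) (K := PH ⊓ Subgroup.centralizer {a})
      (Coprime.le_normalizer_inf hQA ((Coprime.ea_le_centralizer_singleton hA ha).trans
        Subgroup.le_normalizer))
      (Coprime.ea_coprime hA fun h => hpM (h.trans (Subgroup.card_dvd_of_le (inf_le_left.trans hPM))))]
    refine iSup₂_le fun B hB => ?_
    obtain ⟨D, hDB, hD⟩ := Coprime.ea_exists_hyperplane_le hA (Coprime.ea_ne_bot two_ne_zero hA2) hB
    rintro x ⟨⟨hxP, -⟩, hxB⟩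
    have hxK : x ∈ K := hMK (hPM hxP)
    refine ⟨⟨x, hxK⟩, ?_, rfl⟩
    rw [SetLike.mem_coe, Subgroup.mem_comap, Subgroup.mem_centralizer_iff]
    rintro _ ⟨u, hu, rfl⟩
    have hx0 : (⟨x, hxK⟩ : K) ∈ M₀ := by
      obtain ⟨y, hy, hyx⟩ := hPM hxP
      rwa [show (⟨x, hxK⟩ : K) = y from Subtype.ext hyx.symm]
    have hcM : ⁅u, (⟨x, hxK⟩ : K)⁆ ∈ M₀ :=
      (Subgroup.commutator_le_right ⊤ M₀ (h := haveI : M₀.Characteristic := Coprime.pPrimePCore_characteristic; inferInstance))
        (Subgroup.commutator_mem_commutator (Subgroup.mem_top u) hx0)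
    have hc : f ⁅u, (⟨x, hxK⟩ : K)⁆ = 1 := by
      have hq : ¬ q ∣ orderOf ⁅u, (⟨x, hxK⟩ : K)⁆ := fun h => hcomm D (hDB.trans hB.1) hD (h.trans (by
        rw [← Subgroup.orderOf_coe]
        refine Subgroup.orderOf_dvd_natCard _ ?_
        exact Subgroup.commutator_mem_commutator (G := H) hu ⟨hxK, Subgroup.centralizer_le hDB hxB⟩))
      rw [← orderOf_eq_one_iff]
      obtain ⟨n, hn⟩ := (Core.pCore_isPGroup (p := q) (G := ↥K ⧸ Cfsg.pPrimeCore q ↥K))
        ⟨f ⁅u, (⟨x, hxK⟩ : K)⁆, hcM⟩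
      obtain ⟨i, -, hi⟩ := (Nat.dvd_prime_pow Fact.out).mp
        (orderOf_dvd_of_pow_eq_one (congrArg Subtype.val hn))
      rcases Nat.eq_zero_or_pos i with rfl | hi0
      · rw [hi, pow_zero]
      · exact absurd ((dvd_pow_self q hi0.ne').trans (hi ▸ orderOf_map_dvd f _)) hq
    rw [map_commutatorElement, commutatorElement_eq_one_iff_mul_comm] at hc
    exact hc
  have hsolv : Group.IsSolvable ↥K := hKs
  have hmain : U.subgroupOf K ≤ Cfsg.pPrimeCore q ↥K := by
    refine Coprime.le_pPrimeCore_of_commutator_le P (by rwa [Coprime.card_subgroupOf hU]) ?_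
    intro u hu x hx
    obtain ⟨y, hy, hyx⟩ := hPT (hPmap ▸ Subgroup.mem_map_of_mem _ hx)
    have e1 : y = x := Subtype.ext hyx
    subst e1
    rw [SetLike.mem_coe, Subgroup.mem_comap, Subgroup.mem_centralizer_iff] at hy
    refine (QuotientGroup.eq_one_iff _).mp ?_
    change f ⁅u, y⁆ = 1
    rw [map_commutatorElement, commutatorElement_eq_one_iff_mul_comm]
    exact hy _ (Subgroup.mem_map_of_mem _ hu)
  exact fun u hu => ⟨⟨u, hU hu⟩, hmain hu, rfl⟩

end Cfsg.Agent.S1288
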