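import Cfsg.Statements.S1289
import Cfsg.Agent.Layer.Local

set_option linter.style.haveILetI false

set_option autoImplicit false
open Cfsg
open scoped commutatorElement Pointwise

namespace Cfsg.Agent.S1289

/-- A p-component K of the finite group X is subnormal, perfect, of order divisible by p, and minimal among the subnormal perfect subgroups of X of order divisible by p. -/
theorem result {X : Type*} [Group X] [Finite X] (p : ℕ) [Fact p.Prime] (K : Subgroup X) (hK : Cfsg.IsPComponent p K) : K.IsSubnormal ∧ ⁅K, K⁆ = K ∧ p ∣ Nat.card ↥K ∧ ∀ H : Subgroup X, H ≤ K → H.IsSubnormal → ⁅H, H⁆ = H → p ∣ Nat.card ↥H → H = K := by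
  refine ⟨hK.1, Layer.pComponent_perfect hK, Layer.dvd_card_pComponent hK,
    fun H hHK hH hperf hdvd => hK.2.2 H hH hHK ?_⟩
  refine (Layer.qs_sub_subnormal_cases hK.2.1.2 (Subgroup.map_mono hHK)
    hH.quotient.subgroupOf).resolve_right fun hc => ?_
  have h1 : H.map (QuotientGroup.mk' (Cfsg.pPrimeCore p X)) = ⊥ := by
    rw [← hperf, Subgroup.map_commutator, ← le_bot_iff]
    exact (Subgroup.commutator_mono le_rfl (Subgroup.map_mono hHK)).trans hc.le
  rw [Subgroup.map_eq_bot_iff, QuotientGroup.ker_mk'] at h1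
  exact Core.not_dvd_card_pPrimeCore (hdvd.trans (Subgroup.card_dvd_of_le h1))

end Cfsg.Agent.S1289
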