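import Cfsg.Statements.S1297
import Cfsg.Agent.Layer.LBalance

set_option linter.style.haveILetI false

set_option autoImplicit false
open Cfsg
open scoped commutatorElement Pointwise

namespace Cfsg.Agent.S1297

/-- Let G be finite. Suppose that for every involution x, writing C = C_G(x), every component K of C / O(C) has K / Z(K) locally balanced. Then G is balanced. -/
theorem result {G : Type*} [Group G] [Finite G] (h : ∀ x : G, orderOf x = 2 → ∀ K : Subgroup (↥(Subgroup.centralizer ({x} : Set G)) ⧸ Cfsg.oddCore ↥(Subgroup.centralizer ({x} : Set G))), Cfsg.IsComponent K → Cfsg.IsLocallyBalanced (↥K ⧸ Subgroup.center ↥K)) : Cfsg.IsBalanced G := by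
  have key : ∀ x y : G, orderOf x = 2 → orderOf y = 2 → x * y = y * x →
      Cfsg.centralizerPPrimeCore 2 x ⊓ Subgroup.centralizer {y} ≤ Cfsg.centralizerPPrimeCore 2 y := by
    intro x y hx hy hxy
    have hel : ∀ a ∈ Subgroup.zpowers x, a = 1 ∨ a = x := by
      intro a ha
      classical
      rw [mem_zpowers_iff_mem_range_orderOf, hx, Finset.mem_image] at ha
      obtain ⟨i, hi, rfl⟩ := ha
      rw [Finset.mem_range] at hi
      interval_cases i <;> simp
    have hz : Cfsg.IsElementaryAbelian 2 (Subgroup.zpowers x) := by
      refine ⟨inferInstance, fun a ha => ?_⟩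
      rcases hel a ha with rfl | rfl
      · simp
      · rw [← hx]; exact pow_orderOf_eq_one _
    refine le_trans (inf_le_inf_right _ ?_) (Layer.delta_inf_le (k := 1) le_rfl hz
      (by rw [Nat.card_zpowers, hx, pow_one]) (Subgroup.zpowers_le.mpr
        (Subgroup.mem_centralizer_singleton_iff.mpr hxy)) fun K hK => ?_)
    · refine le_iInf ?_
      rintro ⟨a, ha, ha1⟩
      obtain rfl := (hel a ha).resolve_left ha1
      exact le_rfl
    · haveI := hK.2.1
      exact Layer.isLocallyKBalanced_of_quotient
        (Layer.isLocallyKBalanced_one_of_balanced (h y hy K hK))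
  intro x y hx hy hxy
  exact le_antisymm (le_inf (key x y hx hy hxy) (inf_le_left.trans (Subgroup.map_subtype_le _)))
    (le_inf (key y x hy hx hxy.symm) (inf_le_left.trans (Subgroup.map_subtype_le _)))

end Cfsg.Agent.S1297
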