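import Cfsg.Statements.S1300

set_option autoImplicit false
open Cfsg

namespace Cfsg.Agent.S1300

variable {G : Type*} [Group G]

theorem eq_of_mem {a : G} {A : Subgroup G} (hc : Nat.card A = 2) (ha : a ∈ A) (ha1 : a ≠ 1) {b : G}
    (hb : b ∈ A) (hb1 : b ≠ 1) : b = a := by
  have : Finite A := Nat.finite_of_card_ne_zero (by omega)
  by_contra hne
  have : ({1, ⟨a, ha⟩, ⟨b, hb⟩} : Set A).ncard = 3 :=
    Set.ncard_eq_three.mpr ⟨1, ⟨a, ha⟩, ⟨b, hb⟩, by simpa [Subtype.ext_iff, eq_comm] using ha1,
      by simpa [Subtype.ext_iff, eq_comm] using hb1, by simpa [Subtype.ext_iff, eq_comm] using hne,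
      rfl⟩
  have := (Set.ncard_le_card ({1, ⟨a, ha⟩, ⟨b, hb⟩} : Set A))
  omega

theorem core_le (x : G) :
    centralizerPPrimeCore 2 x ≤ Subgroup.centralizer ({x} : Set G) :=
  Subgroup.map_subtype_le _

/-- For a finite group G, balance in the sense of commuting involutions is the same as 1-balance for the prime 2. -/
theorem result {G : Type*} [Group G] [Finite G] : Cfsg.IsBalanced G ↔ Cfsg.IsKBalanced 2 1 G := by
  constructor
  · intro h A hA hc b hb hAb
    have hcA : Nat.card A = 2 := by simpa using hc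
    obtain ⟨a, ha, ha1⟩ := (Subgroup.bot_or_exists_ne_one A).resolve_left (by
      intro e; rw [e, Subgroup.card_bot] at hcA; omega)
    have hoa : orderOf a = 2 := orderOf_eq_prime (hA.2 a ha) ha1
    calc signalizerDelta 2 A ⊓ Subgroup.centralizer {b}
        ≤ centralizerPPrimeCore 2 a ⊓ Subgroup.centralizer {b} :=
          inf_le_inf_right _ (iInf_le _ (⟨a, ha, ha1⟩ : {a : G // a ∈ A ∧ a ≠ 1}))
      _ ≤ centralizerPPrimeCore 2 b := (h a b hoa hb (hAb a ha)) ▸ inf_le_left
  · intro h
    have key : ∀ x y : G, orderOf x = 2 → orderOf y = 2 → x * y = y * x →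
        centralizerPPrimeCore 2 x ⊓ Subgroup.centralizer {y} ≤
          centralizerPPrimeCore 2 y ⊓ Subgroup.centralizer {x} := by
      intro x y hx hy hxy
      refine le_inf ?_ (inf_le_left.trans (core_le x))
      have hc : Nat.card (Subgroup.zpowers x) = 2 := by rw [Nat.card_zpowers, hx]
      have hA : IsElementaryAbelian 2 (Subgroup.zpowers x) := by
        refine ⟨inferInstance, fun a ha => ?_⟩
        obtain ⟨k, rfl⟩ := ha
        rw [← zpow_natCast, ← zpow_mul, mul_comm, zpow_mul, zpow_natCast, ← hx, pow_orderOf_eq_one,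
          one_zpow]
      refine le_trans (inf_le_inf_right _ (le_iInf fun a => ?_))
        (h _ hA (by simpa using hc) y hy fun a ha => ?_)
      · have := eq_of_mem hc (Subgroup.mem_zpowers x)
          (fun e => by simp [e] at hx) a.2.1 a.2.2
        rw [this]
      · obtain ⟨k, rfl⟩ := ha
        exact (Commute.zpow_left (show Commute x y from hxy) k)
    exact fun x y hx hy hxy => le_antisymm (key x y hx hy hxy) (key y x hy hx hxy.symm)

end Cfsg.Agent.S1300
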