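import Cfsg.Statements.S1303
import Cfsg.Agent.Layer.PConstraint
import Cfsg.Agent.Char.Integral

set_option autoImplicit false
open Cfsg

namespace Cfsg.Agent.S1303

/-- The group X = SL(2, 3): it is 2-constrained, O_{2'}(X) = 1, its centre A = Z(X) contains every involution of X = C_X(A), and X has a subgroup of order 3 (normalized by A) not contained in O_{2'}(X). -/
theorem result : Cfsg.IsPConstrained 2 (Matrix.SpecialLinearGroup (Fin 2) (ZMod 3)) ∧ Cfsg.pPrimeCore 2 (Matrix.SpecialLinearGroup (Fin 2) (ZMod 3)) = ⊥ ∧ (∀ t : Matrix.SpecialLinearGroup (Fin 2) (ZMod 3), orderOf t = 2 → t ∈ Subgroup.center (Matrix.SpecialLinearGroup (Fin 2) (ZMod 3))) ∧ ∃ Q : Subgroup (Matrix.SpecialLinearGroup (Fin 2) (ZMod 3)), Nat.card ↥Q = 3 ∧ ¬ (Q ≤ Cfsg.pPrimeCore 2 (Matrix.SpecialLinearGroup (Fin 2) (ZMod 3))) := by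
  haveI : Fact (Nat.Prime 2) := ⟨Nat.prime_two⟩
  haveI : Fact (Nat.Prime 3) := ⟨Nat.prime_three⟩
  have hcard : Nat.card (Matrix.SpecialLinearGroup (Fin 2) (ZMod 3)) = 2 ^ 3 * 3 ^ 1 := by
    rw [Nat.card_eq_fintype_card]
    decide +kernel
  haveI : Group.IsSolvable (Matrix.SpecialLinearGroup (Fin 2) (ZMod 3)) :=
    Char.isSolvable_of_card_eq 2 3 Nat.prime_two Nat.prime_three _ _ rfl ⟨3, 1, hcard⟩
  have hcen : ∀ t : Matrix.SpecialLinearGroup (Fin 2) (ZMod 3), t * t = 1 → ∀ g, g * t = t * g := by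
    decide +kernel
  have hfour : ∀ t : Matrix.SpecialLinearGroup (Fin 2) (ZMod 3), t ^ 3 = 1 → t ≠ 1 →
      ∃ h, h * t * h⁻¹ ≠ 1 ∧ h * t * h⁻¹ ≠ t ∧ h * t * h⁻¹ ≠ t ^ 2 := by
    decide +kernel
  have hcore : Cfsg.pPrimeCore 2 (Matrix.SpecialLinearGroup (Fin 2) (ZMod 3)) = ⊥ := by
    set N := Cfsg.pPrimeCore 2 (Matrix.SpecialLinearGroup (Fin 2) (ZMod 3))
    have hN : (Nat.card N).Coprime 2 := Core.coprime_card_pPrimeCore
    have hd : Nat.card N ∣ 2 ^ 3 * 3 ^ 1 := hcard ▸ N.card_subgroup_dvd_card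
    have h3 : Nat.card N ∣ 3 := by simpa using (hN.pow_right 3).dvd_of_dvd_mul_left hd
    rcases (Nat.dvd_prime Nat.prime_three).mp h3 with h | h
    · exact Subgroup.card_eq_one.mp h
    · exfalso
      obtain ⟨t, ht⟩ := exists_prime_orderOf_dvd_card' (G := ↥N) 3 (dvd_of_eq h.symm)
      have ht3 : (t : Matrix.SpecialLinearGroup (Fin 2) (ZMod 3)) ^ 3 = 1 := by
        rw [← SubmonoidClass.coe_pow, orderOf_dvd_iff_pow_eq_one.mp (dvd_of_eq ht)]; rfl
      have ht1 : (t : Matrix.SpecialLinearGroup (Fin 2) (ZMod 3)) ≠ 1 := fun h1 => by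
        rw [← Subgroup.orderOf_coe, h1, orderOf_one] at ht
        omega
      obtain ⟨g, h0, h1, h2⟩ := hfour _ ht3 ht1
      have hN' : Subgroup.zpowers (t : Matrix.SpecialLinearGroup (Fin 2) (ZMod 3)) = N :=
        Subgroup.eq_of_le_of_card_ge (Subgroup.zpowers_le.mpr t.2)
          (by rw [Nat.card_zpowers, Subgroup.orderOf_coe, ht, h])
      have hm : g * t * g⁻¹ ∈ Subgroup.zpowers (t : Matrix.SpecialLinearGroup (Fin 2) (ZMod 3)) :=
        hN'.ge ((Core.pPrimeCore_normal).conj_mem _ t.2 g)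
      obtain ⟨k, hk⟩ := mem_powers_iff_mem_zpowers.mpr hm
      have hk' : (t : Matrix.SpecialLinearGroup (Fin 2) (ZMod 3)) ^ (k % 3) = g * t * g⁻¹ := by
        refine Eq.trans ?_ hk
        show _ = (t : Matrix.SpecialLinearGroup (Fin 2) (ZMod 3)) ^ k
        conv_rhs => rw [← Nat.mod_add_div k 3, pow_add, pow_mul, ht3, one_pow, mul_one]
      have hk3 : k % 3 < 3 := Nat.mod_lt _ (by norm_num)
      interval_cases hk4 : k % 3
      · exact h0 (by simpa using hk'.symm)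
      · exact h1 (by simpa using hk'.symm)
      · exact h2 hk'.symm
  obtain ⟨u, hu⟩ := exists_prime_orderOf_dvd_card' (G := Matrix.SpecialLinearGroup (Fin 2) (ZMod 3)) 3
    (by rw [hcard]; norm_num)
  refine ⟨Layer.isPConstrained_of_isSolvable, hcore, fun t ht => Subgroup.mem_center_iff.mpr
    (hcen t (by rw [← sq]; exact orderOf_dvd_iff_pow_eq_one.mp (dvd_of_eq ht))),
    Subgroup.zpowers u, by rw [Nat.card_zpowers, hu], fun hle => ?_⟩
  rw [hcore, Subgroup.zpowers_le, Subgroup.mem_bot] at hle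
  rw [hle, orderOf_one] at hu
  omega

end Cfsg.Agent.S1303
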