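import Cfsg.Statements.S1304
import Cfsg.Agent.Layer.FStar

set_option linter.style.haveILetI false

set_option autoImplicit false
open Cfsg
open scoped commutatorElement Pointwise

namespace Cfsg.Agent.S1304

/-- Let X be a perfect group and α an automorphism of X with α(x) x⁻¹ central for every x. Then α is the identity. -/
theorem result {X : Type*} [Group X] (hperf : commutator X = ⊤) (α : X ≃* X) (h : ∀ x : X, α x * x⁻¹ ∈ Subgroup.center X) : ∀ x : X, α x = x := by
  have hc : ∀ x : X, ∀ g : X, g * (α x * x⁻¹) = α x * x⁻¹ * g := fun x =>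
    Subgroup.mem_center_iff.mp (h x)
  let f : X →* Subgroup.center X :=
    { toFun := fun x => ⟨α x * x⁻¹, h x⟩
      map_one' := Subtype.ext (by simp)
      map_mul' := fun a b => Subtype.ext (by
        show α (a * b) * (a * b)⁻¹ = α a * a⁻¹ * (α b * b⁻¹)
        rw [map_mul, mul_inv_rev, mul_assoc (α a) a⁻¹, hc b a⁻¹]
        group) }
  intro x
  have hle : commutator X ≤ f.ker := by
    rw [commutator_def, Subgroup.commutator_le]
    intro a _ b _
    rw [MonoidHom.mem_ker, map_commutatorElement, commutatorElement_eq_one_iff_mul_comm]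
    exact Subtype.ext (Subgroup.mem_center_iff.mp (f b).2 (f a : X))
  have hx : x ∈ f.ker := hle (hperf ▸ Subgroup.mem_top x)
  have hx' : α x * x⁻¹ = 1 := congrArg Subtype.val (MonoidHom.mem_ker.mp hx)
  exact mul_inv_eq_one.mp hx' 

end Cfsg.Agent.S1304
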