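import Cfsg.Statements.S1305
import Cfsg.Agent.Layer.Pumping
import Cfsg.Agent.Layer.LBalanceTwo

set_option autoImplicit false
set_option linter.style.haveILetI false
open Cfsg

namespace Cfsg.Agent.S1305

open Subgroup Cfsg.Agent.Layer in
/-- The join of commuting elementary abelian subgroups. -/
theorem elementary_sup {G : Type*} [Group G] {A B : Subgroup G} (hA : Cfsg.IsElementaryAbelian 2 A)
    (hB : Cfsg.IsElementaryAbelian 2 B) (hAB : A ≤ centralizer (B : Set G)) :
    Cfsg.IsElementaryAbelian 2 (A ⊔ B) := by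
  have hAA : A ≤ centralizer (A : Set G) := le_centralizer_iff_isMulCommutative.mpr hA.1
  have hBB : B ≤ centralizer (B : Set G) := le_centralizer_iff_isMulCommutative.mpr hB.1
  refine ⟨le_centralizer_iff_isMulCommutative.mp (le_centralizer_iff.mp (sup_le ?_ ?_)), fun v hv => ?_⟩
  · rw [le_centralizer_iff]
    exact sup_le hAA (le_centralizer_iff.mp hAB)
  · rw [le_centralizer_iff]
    exact sup_le hAB hBB
  · have hv' : v ∈ ((A ⊔ B : Subgroup G) : Set G) := hv
    rw [coe_mul_of_left_le_normalizer_right _ _ (hAB.trans (centralizer_le_normalizer _)), Set.mem_mul] at hv'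
    obtain ⟨x, hx, y, hy, rfl⟩ := hv'
    rw [Commute.mul_pow (mem_centralizer_iff.mp (hAB hx) y hy).symm, hA.2 x hx, hB.2 y hy, one_mul]

/-- Let G be a finite group of component type with the B-property and no nontrivial normal subgroup of odd order. Let a be an involution and K a component of C_G(a) such that (a) |K| is maximal among the orders of components of centralizers of involutions of G, (b) subject to (a) the 2-rank of the centralizer of K in C_G(a) is as large as possible, and (c) K has 2-rank at least 2. If B is an elementary abelian 2-subgroup of that centralizer of the largest possible order, then K is a component of C_G(b) for every non-identity b ∈ B. -/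
theorem result {G : Type*} [Group G] [Finite G] (hO : Cfsg.oddCore G = ⊥) (hB : Cfsg.HasBProperty G) (hct : Cfsg.IsComponentType G) (a : G) (ha : orderOf a = 2) (K : Subgroup G) (hKa : K ≤ Subgroup.centralizer ({a} : Set G)) (hK : Cfsg.IsComponent (K.subgroupOf (Subgroup.centralizer ({a} : Set G)))) (hmax : ∀ y : G, orderOf y = 2 → ∀ K' : Subgroup G, K' ≤ Subgroup.centralizer ({y} : Set G) → Cfsg.IsComponent (K'.subgroupOf (Subgroup.centralizer ({y} : Set G))) → Nat.card ↥K' ≤ Nat.card ↥K ∧ (Nat.card ↥K' = Nat.card ↥K → ∀ k : ℕ, Cfsg.PRankLE 2 k ↥(Subgroup.centralizer ({a} : Set G) ⊓ Subgroup.centralizer (K : Set G)) → Cfsg.PRankLE 2 k ↥(Subgroup.centralizer ({y} : Set G) ⊓ Subgroup.centralizer (K' : Set G)))) (hrk : ¬ Cfsg.PRankLE 2 1 ↥K) (B : Subgroup G) (hBle : B ≤ Subgroup.centralizer ({a} : Set G) ⊓ Subgroup.centralizer (K : Set G)) (hBel : Cfsg.IsElementaryAbelian 2 B) (hBmax : ∀ B' : Subgroup G, B' ≤ Subgroup.centralizer ({a} : Set G) ⊓ Subgroup.centralizer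 (K : Set G) → Cfsg.IsElementaryAbelian 2 B' → Nat.card ↥B' ≤ Nat.card ↥B) (b : G) (hb : b ∈ B) (hb1 : b ≠ 1) : K ≤ Subgroup.centralizer ({b} : Set G) ∧ Cfsg.IsComponent (K.subgroupOf (Subgroup.centralizer ({b} : Set G))) := by
  classical
  haveI : Fact (Nat.Prime 2) := ⟨Nat.prime_two⟩
  set CK := Subgroup.centralizer ({a} : Set G) ⊓ Subgroup.centralizer (K : Set G) with hCK
  have hBc : B ≤ Subgroup.centralizer (B : Set G) := Subgroup.le_centralizer_iff_isMulCommutative.mpr hBel.1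
  -- `a ∈ B`
  have haB : a ∈ B := by
    have haCK : a ∈ CK := ⟨Subgroup.mem_centralizer_singleton_iff.mpr rfl,
      Subgroup.mem_centralizer_iff.mpr fun k hk => Subgroup.mem_centralizer_singleton_iff.mp (hKa hk)⟩
    have hza : Cfsg.IsElementaryAbelian 2 (Subgroup.zpowers a) := by
      refine ⟨IsCyclic.isMulCommutative, fun v hv => ?_⟩
      obtain ⟨i, rfl⟩ := Subgroup.mem_zpowers_iff.mp hv
      rw [← zpow_natCast, ← zpow_mul, mul_comm, zpow_mul, zpow_natCast, show a ^ 2 = 1 from ha ▸ pow_orderOf_eq_one a, one_zpow]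
    have hsup := elementary_sup hBel hza (by
      rw [Subgroup.le_centralizer_iff, Subgroup.zpowers_le]
      exact Subgroup.mem_centralizer_iff.mpr fun v hv => Subgroup.mem_centralizer_singleton_iff.mp (hBle hv).1)
    have heq : B = B ⊔ Subgroup.zpowers a :=
      Subgroup.eq_of_le_of_card_ge le_sup_left (hBmax _ (sup_le hBle (Subgroup.zpowers_le.mpr haCK)) hsup)
    rw [heq]
    exact Subgroup.mem_sup_right (Subgroup.mem_zpowers a)
  have hb2 : orderOf b = 2 := orderOf_eq_prime (hBel.2 b hb) hb1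
  -- a four-subgroup of `K`
  obtain ⟨A, hA, hA4⟩ : ∃ A : Subgroup ↥K, Cfsg.IsElementaryAbelian 2 A ∧ 4 ≤ Nat.card A := by
    unfold Cfsg.PRankLE at hrk
    push Not at hrk
    obtain ⟨A, h1, h2, h3⟩ := hrk
    refine ⟨A, ⟨h1, h2⟩, ?_⟩
    have hAp : IsPGroup 2 ↥A := fun v => ⟨1, Subtype.ext (by simpa using h2 v v.2)⟩
    obtain ⟨m, hm⟩ := IsPGroup.iff_card.mp hAp
    rw [hm] at h3 ⊢
    have h5 : 1 < m := (Nat.pow_lt_pow_iff_right (by norm_num)).mp h3
    exact le_trans (by norm_num : 4 ≤ 2 ^ 2) (Nat.pow_le_pow_right (by norm_num) h5)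
  have hKeven : 2 ∣ Nat.card ↥K := by
    refine dvd_trans ?_ (Subgroup.card_subgroup_dvd_card A)
    have hAp : IsPGroup 2 ↥A := fun v => ⟨1, Subtype.ext (by simpa using hA.2 v v.2)⟩
    obtain ⟨m, hm⟩ := IsPGroup.iff_card.mp hAp
    rcases Nat.eq_zero_or_pos m with rfl | hm0
    · omega
    · rw [hm]; exact dvd_pow_self 2 hm0.ne'
  -- the group `H = C(b)`
  set H := Subgroup.centralizer ({b} : Set G) with hH
  have hKH : K ≤ H := fun k hk => Subgroup.mem_centralizer_singleton_iff.mpr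
    (Subgroup.mem_centralizer_iff.mp (hBle hb).2 k hk)
  have hBH : B ≤ H := fun v hv => Subgroup.mem_centralizer_singleton_iff.mpr
    (Subgroup.mem_centralizer_iff.mp (hBc hb) v hv)
  set aH : ↥H := ⟨a, hBH haB⟩ with haH
  set KH : Subgroup ↥H := K.subgroupOf H with hKHdef
  set C := Subgroup.centralizer ({aH} : Set ↥H) with hC
  have hKC : KH ≤ C := fun k hk => Subgroup.mem_centralizer_singleton_iff.mpr
    (Subtype.ext (Subgroup.mem_centralizer_singleton_iff.mp (hKa hk)))
  let ι : ↥C →* ↥(Subgroup.centralizer ({a} : Set G)) :=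
    (H.subtype.comp C.subtype).codRestrict _ fun c => Subgroup.mem_centralizer_singleton_iff.mpr
      (congrArg Subtype.val (Subgroup.mem_centralizer_singleton_iff.mp c.2))
  have hsnC : (KH.subgroupOf C).IsSubnormal := by
    have h := hK.1.comap ι
    exact h
  have eKH : ↥KH ≃* ↥K := Subgroup.subgroupOfEquivOfLe hKH
  have hcompC : Cfsg.IsComponent (KH.subgroupOf C) :=
    ⟨hsnC, Layer.isQuasisimple_congr ((Subgroup.subgroupOfEquivOfLe hKa).trans
      (eKH.symm.trans (Subgroup.subgroupOfEquivOfLe hKC).symm)) hK.2⟩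
  have hpcC : Cfsg.IsPComponent 2 (KH.subgroupOf C) := by
    refine Layer.isPComponent_component hcompC fun hle => ?_
    refine Core.not_dvd_card_pPrimeCore (p := 2) (G := ↥C) (dvd_trans ?_ (Subgroup.card_dvd_of_le hle))
    rw [Nat.card_congr (Subgroup.subgroupOfEquivOfLe hKC).toEquiv, Nat.card_congr eKH.toEquiv]
    exact hKeven
  have hKHp : Layer.IsPCompGroup 2 ↥KH := ((Layer.isPComponent_subgroupOf_iff hKC).mp hpcC).2
  have hqH : ∀ J : Subgroup ↥H, Cfsg.IsPComponent 2 J → Cfsg.IsQuasisimple ↥J := by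
    intro J hJ
    refine Layer.isQuasisimple_of_commutator_eq_bot (Layer.isPComponent_iff_intrinsic.mp hJ).2 ?_
    rw [Layer.map_pPrimeCore_eq_inf hJ.1, ← le_bot_iff]
    refine le_trans (Subgroup.commutator_mono (Layer.pComponent_le_pLayer hJ) inf_le_right) ?_
    rw [← Subgroup.map_le_map_iff_of_injective H.subtype_injective, Subgroup.map_bot, ← hO]
    exact hB b hb2
  have haH2 : orderOf aH = 2 := by rw [haH, Subgroup.orderOf_mk]; exact ha
  have hTC : Subgroup.centralizer ((Subgroup.zpowers aH : Subgroup ↥H) : Set ↥H) = C := by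
    rw [Subgroup.zpowers_eq_closure, Subgroup.centralizer_closure]
  have hKHpl : KH ≤ Cfsg.pLayer 2 ↥H := by
    have h := Layer.pLayer_centralizer_le_two (T := Subgroup.zpowers aH)
      (IsPGroup.of_card (n := 1) (by rw [Nat.card_zpowers, haH2, pow_one]))
    rw [hTC] at h
    refine le_trans ?_ h
    rw [← Subgroup.map_subgroupOf_eq_of_le hKC]
    exact Subgroup.map_mono (Layer.pComponent_le_pLayer hpcC)
  have hx2 : aH ^ 2 = 1 := by rw [← haH2]; exact pow_orderOf_eq_one _
  obtain ⟨D, hD⟩ := Layer.exists_pumpUp_of_le_pLayer hqH hx2 hKC hsnC hKHp hKHpl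
  -- maximality
  set DG := D.map H.subtype with hDG
  have hDGH : DG ≤ H := Subgroup.map_subtype_le D
  have hDeq : DG.subgroupOf H = D := Subgroup.comap_map_eq_self_of_injective H.subtype_injective D
  have hmaxD := hmax b hb2 DG hDGH (by rw [hDeq]; exact hD.1)
  have hcKH : Nat.card ↥KH = Nat.card ↥K := Nat.card_congr eKH.toEquiv
  have hcD : Nat.card ↥DG = Nat.card ↥D := Subgroup.card_map_of_injective H.subtype_injective
  have hge := hD.card_le
  have hcard : Nat.card ↥D ≤ Nat.card ↥KH := by rw [hcKH, ← hcD]; exact hmaxD.1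
  obtain ⟨⟨eD⟩, hcases⟩ := hD.eq_of_card hcard
  rcases hcases with ⟨-, heq⟩ | ⟨hmove, hx', hs, hrange, hinj⟩
  · refine ⟨hKH, ?_⟩
    show Cfsg.IsComponent KH
    rw [heq]
    exact hD.1
  exfalso
  -- the rank of the centraliser of `D` is too large
  set BH := B.subgroupOf H with hBHdef
  set B0 := BH ⊓ Subgroup.normalizer (D : Set ↥H) with hB0
  have hBHel : Cfsg.IsElementaryAbelian 2 BH := by
    refine ⟨⟨⟨fun u v => ?_⟩⟩, fun v hv => Subtype.ext (by simpa using hBel.2 _ hv)⟩
    exact Subtype.ext (Subtype.ext (Subgroup.mem_centralizer_iff.mp (hBc v.2) _ u.2))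
  have hB0el : Cfsg.IsElementaryAbelian 2 B0 :=
    ⟨Subgroup.le_centralizer_iff_isMulCommutative.mp (inf_le_left.trans
      ((Subgroup.le_centralizer_iff_isMulCommutative.mpr hBHel.1).trans
        (Subgroup.centralizer_le inf_le_left))), fun v hv => hBHel.2 v hv.1⟩
  have hga : ∀ g ∈ BH, g * aH = aH * g := fun g hg =>
    Subtype.ext (Subgroup.mem_centralizer_iff.mp (hBc haB) _ hg)
  have hgK : ∀ g ∈ BH, g ∈ Subgroup.centralizer (KH : Set ↥H) := fun g hg =>
    Subgroup.mem_centralizer_iff.mpr fun k hk =>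
      Subtype.ext (Subgroup.mem_centralizer_iff.mp (hBle hg).2 _ hk)
  have haBH : aH ∈ BH := haB
  have hgaN : ∀ g ∈ BH, g ∈ B0 ∨ aH * g ∈ B0 := by
    intro g hg
    obtain ⟨i, hi, he⟩ := hD.map_conj_mem hKC hcard (hgK g hg) (Layer.mem_conjOrbit_self aH D)
    interval_cases i
    · refine Or.inl ⟨hg, Layer.map_conj_zpow_fix.mp ?_⟩
      rw [he, pow_zero, Layer.map_conj_one]
    · refine Or.inr ⟨mul_mem haBH hg, Layer.map_conj_zpow_fix.mp ?_⟩
      rw [← Layer.map_conj_map_conj, he, Layer.map_conj_map_conj, pow_one,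
        show aH * aH = 1 by rw [← sq]; exact hx2, Layer.map_conj_one]
  have hhalf : Nat.card ↥BH ≤ 2 * Nat.card ↥B0 := by
    have hsurj : Function.Surjective (fun q : Fin 2 × ↥B0 =>
        (if q.1 = 0 then (⟨q.2, q.2.2.1⟩ : ↥BH) else ⟨aH * q.2, mul_mem haBH q.2.2.1⟩)) := by
      rintro ⟨g, hg⟩
      rcases hgaN g hg with h | h
      · exact ⟨(0, ⟨g, h⟩), by simp⟩
      · refine ⟨(1, ⟨aH * g, h⟩), Subtype.ext ?_⟩
        show aH * (aH * g) = g
        rw [← mul_assoc, ← sq, hx2, one_mul]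
    have h := Nat.card_le_card_of_surjective _ hsurj
    rwa [Nat.card_prod, Nat.card_fin] at h
  have hB0P : B0 ≤ Subgroup.centralizer ((sSup (Layer.conjOrbit 2 aH D) : Subgroup ↥H) : Set ↥H) :=
    fun g hg => hD.centralizes_orbit hcard (hga g hg.1) (hgK g hg.1) hg.2
  set D' := D.map (MulAut.conj aH).toMonoidHom with hD'
  have hD'O : D' ∈ Layer.conjOrbit 2 aH D := ⟨1, one_lt_two, by rw [pow_one]⟩
  have hD'D : D' ≤ Subgroup.centralizer (D : Set ↥H) := by
    have h := hs 1 Nat.one_pos one_lt_two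
    rwa [pow_one] at h
  let f : ↥K →* ↥H := (MulAut.conj aH).toMonoidHom.comp (D.subtype.comp (eD.toMonoidHom.comp eKH.symm.toMonoidHom))
  have hfinj : Function.Injective f :=
    (MulAut.conj aH).injective.comp (D.subtype_injective.comp (eD.injective.comp eKH.symm.injective))
  have hfD' : ∀ k, f k ∈ D' := fun k => ⟨_, (eD (eKH.symm k)).2, rfl⟩
  set A' := A.map f with hA'
  have hA'el : Cfsg.IsElementaryAbelian 2 A' := by
    haveI := hA.1
    refine ⟨Subgroup.map_isMulCommutative _ _, ?_⟩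
    rintro _ ⟨v, hv, rfl⟩
    rw [← map_pow, hA.2 v hv, map_one]
  have hA'c : Nat.card ↥A' = Nat.card ↥A := Subgroup.card_map_of_injective hfinj
  have hB0A : B0 ≤ Subgroup.centralizer (A' : Set ↥H) :=
    hB0P.trans (Subgroup.centralizer_le (by
      rintro _ ⟨v, -, rfl⟩
      exact le_sSup (s := Layer.conjOrbit 2 aH D) hD'O (hfD' v)))
  have hdisj : ∀ z ∈ B0, z ∈ D' → z = 1 := by
    intro z hz hzD'
    obtain ⟨d, hd, hdz⟩ := hzD'
    have hdz' : aH * d * aH⁻¹ = z := hdz
    have hzd : z = d := by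
      calc z = aH⁻¹ * z * aH := by rw [mul_assoc, hga z hz.1, inv_mul_cancel_left]
        _ = d := by rw [← hdz']; group
    have h1 : Layer.diagHom 2 aH D hx' hs ⟨z, hzd ▸ hd⟩ = 1 := by
      rw [Layer.diagHom_apply, Commute.mul_pow (hga z hz.1), hx2, hBHel.2 z hz.1, mul_one]
    exact congrArg Subtype.val (hinj (h1.trans (map_one _).symm))
  set E := (B0 ⊔ A').map H.subtype with hE
  have hEel : Cfsg.IsElementaryAbelian 2 E := by
    have h := elementary_sup hB0el hA'el hB0A
    haveI := h.1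
    refine ⟨Subgroup.map_isMulCommutative _ _, ?_⟩
    rintro _ ⟨v, hv, rfl⟩
    rw [← map_pow, h.2 v hv, map_one]
  have hbig : Nat.card ↥B0 * Nat.card ↥A' ≤ Nat.card ↥E := by
    rw [hE, Subgroup.card_map_of_injective H.subtype_injective, ← Nat.card_prod]
    refine Nat.card_le_card_of_injective (fun q : ↥B0 × ↥A' =>
      (⟨(q.1 : ↥H) * q.2, Subgroup.mul_mem_sup q.1.2 q.2.2⟩ : ↥(B0 ⊔ A'))) ?_
    rintro ⟨u, v⟩ ⟨u', v'⟩ he
    have he' : (u : ↥H) * v = u' * v' := congrArg Subtype.val he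
    have h1 : (u' : ↥H)⁻¹ * u = v' * (v : ↥H)⁻¹ := by
      rw [eq_mul_inv_iff_mul_eq, mul_assoc, he', inv_mul_cancel_left]
    have hD'le : A' ≤ D' := by
      rintro _ ⟨w, -, rfl⟩
      exact hfD' w
    have h2 := hdisj _ (mul_mem (inv_mem u'.2) u.2) (h1 ▸ hD'le (mul_mem v'.2 (inv_mem v.2)))
    have h3 : (u : ↥H) = u' := (inv_mul_eq_one.mp h2).symm
    exact Prod.ext (Subtype.ext h3) (Subtype.ext (mul_left_cancel (he'.trans (by rw [h3]))))
  have hEle : E ≤ Subgroup.centralizer ({b} : Set G) ⊓ Subgroup.centralizer (DG : Set G) := by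
    refine le_inf (Subgroup.map_subtype_le _) ?_
    rw [hE, Subgroup.map_le_iff_le_comap]
    have hD0 : D ≤ sSup (Layer.conjOrbit 2 aH D) := le_sSup (Layer.mem_conjOrbit_self aH D)
    refine le_trans (sup_le (hB0P.trans (Subgroup.centralizer_le hD0)) ?_ :
      B0 ⊔ A' ≤ Subgroup.centralizer (D : Set ↥H)) ?_
    · rintro _ ⟨w, -, rfl⟩
      exact hD'D (hfD' w)
    · intro g hg
      refine Subgroup.mem_comap.mpr (Subgroup.mem_centralizer_iff.mpr ?_)
      rintro _ ⟨d, hd, rfl⟩
      rw [← map_mul, ← map_mul, Subgroup.mem_centralizer_iff.mp hg d hd]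
  have hBp : IsPGroup 2 ↥B := fun v => ⟨1, Subtype.ext (by simpa using hBel.2 v v.2)⟩
  obtain ⟨k, hk⟩ := IsPGroup.iff_card.mp hBp
  have hrankK : Cfsg.PRankLE 2 k ↥CK := by
    intro U hU hU2
    rw [← hk, ← Subgroup.card_map_of_injective CK.subtype_injective (K := U)]
    refine hBmax _ (Subgroup.map_subtype_le U) ⟨?_, ?_⟩
    · haveI := hU
      exact Subgroup.map_isMulCommutative _ _
    · rintro _ ⟨v, hv, rfl⟩
      rw [← map_pow, hU2 v hv, map_one]
  have hfin := hmaxD.2 (by omega) k hrankK (E.subgroupOf _) (by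
      refine ⟨⟨fun u v => Subtype.ext (Subtype.ext ?_)⟩⟩
      have hu : ((u : ↥(Subgroup.centralizer ({b} : Set G) ⊓ Subgroup.centralizer (DG : Set G))) : G) ∈ E := u.2
      have hv : ((v : ↥(Subgroup.centralizer ({b} : Set G) ⊓ Subgroup.centralizer (DG : Set G))) : G) ∈ E := v.2
      exact congrArg (Subtype.val : ↥E → G) (hEel.1.is_comm.comm ⟨_, hu⟩ ⟨_, hv⟩))
    (fun v hv => Subtype.ext (by simpa using hEel.2 _ hv))
  rw [Nat.card_congr (Subgroup.subgroupOfEquivOfLe hEle).toEquiv, ← hk] at hfin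
  have hcB : Nat.card ↥BH = Nat.card ↥B := Nat.card_congr (Subgroup.subgroupOfEquivOfLe hBH).toEquiv
  have hpos : 0 < Nat.card ↥B0 := Nat.card_pos
  have : Nat.card ↥B0 * 4 ≤ Nat.card ↥E := le_trans (Nat.mul_le_mul_left _ (hA'c ▸ hA4)) hbig
  omega

end Cfsg.Agent.S1305
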