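import Cfsg.Statements.S1306
import Cfsg.Agent.Layer.Components
import Cfsg.Agent.Coprime.Basic

set_option autoImplicit false
open Cfsg

namespace Cfsg.Agent.S1306

open Subgroup

universe u

theorem component_conj {G : Type u} [Group G] {z : G} {L : Subgroup G}
    (hLz : L ≤ centralizer ({z} : Set G)) (hL : Cfsg.IsComponent (L.subgroupOf (centralizer ({z} : Set G))))
    (g : G) :
    L.map (MulAut.conj g).toMonoidHom ≤ centralizer ({g * z * g⁻¹} : Set G) ∧
      Cfsg.IsComponent ((L.map (MulAut.conj g).toMonoidHom).subgroupOf (centralizer ({g * z * g⁻¹} : Set G))) := by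
  set C := centralizer ({z} : Set G) with hC
  have hmap : C.map (MulAut.conj g).toMonoidHom = centralizer ({g * z * g⁻¹} : Set G) := by
    ext x
    rw [mem_map_equiv, mem_centralizer_singleton_iff, mem_centralizer_singleton_iff]
    show g⁻¹ * x * g * z = z * (g⁻¹ * x * g) ↔ _
    constructor
    · intro h
      calc x * (g * z * g⁻¹) = g * (g⁻¹ * x * g * z) * g⁻¹ := by group
        _ = _ := by rw [h]; group
    · intro h
      calc g⁻¹ * x * g * z = g⁻¹ * (x * (g * z * g⁻¹)) * g := by group
        _ = _ := by rw [h]; group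
  rw [← hmap]
  refine ⟨map_mono hLz, ?_⟩
  have h := Layer.isComponent_map_surj ((MulAut.conj g).subgroupMap C) hL
  have heq : (L.subgroupOf C).map ((MulAut.conj g).subgroupMap C).toMonoidHom =
      (L.map (MulAut.conj g).toMonoidHom).subgroupOf (C.map (MulAut.conj g).toMonoidHom) := by
    ext y
    constructor
    · rintro ⟨l, hl, rfl⟩
      exact ⟨(l : G), hl, rfl⟩
    · rintro ⟨l, hl, hly⟩
      exact ⟨⟨l, hLz hl⟩, hl, Subtype.ext hly⟩
  rw [heq] at h
  exact h

/-- Let G be finite, x an involution and L ≤ C_G(x) a component of C_G(x). Suppose L is a component of C_G(y) for every involution y ∈ C_G(L), and ⁅L, g L g⁻¹⁆ ≠ 1 whenever g L g⁻¹ ≠ L. Then L is a standard subgroup of G. -/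
theorem result {G : Type*} [Group G] [Finite G] (x : G) (hx : orderOf x = 2) (L : Subgroup G) (hLx : L ≤ Subgroup.centralizer ({x} : Set G)) (hL : Cfsg.IsComponent (L.subgroupOf (Subgroup.centralizer ({x} : Set G)))) (hne : ∀ y : G, orderOf y = 2 → y ∈ Subgroup.centralizer (L : Set G) → L ≤ Subgroup.centralizer ({y} : Set G) ∧ Cfsg.IsComponent (L.subgroupOf (Subgroup.centralizer ({y} : Set G)))) (hnc : ∀ g : G, L.map (MulAut.conj g).toMonoidHom ≠ L → ⁅L, L.map (MulAut.conj g).toMonoidHom⁆ ≠ ⊥) : Cfsg.IsStandardSubgroup L := by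
  set CL := centralizer (L : Set G) with hCL
  have hxC : x ∈ CL := mem_centralizer_iff.2 fun l hl => mem_centralizer_singleton_iff.1 (hLx hl)
  have heven : ∀ H : Subgroup G, x ∈ H → Even (Nat.card H) := fun H hH => by
    rw [even_iff_two_dvd, ← hx, ← Subgroup.orderOf_mk x hH]
    exact orderOf_dvd_natCard _
  have hLqs : Cfsg.IsQuasisimple L := Layer.isQuasisimple_congr (subgroupOfEquivOfLe hLx) hL.2
  have hNle : normalizer (L : Set G) ≤ normalizer (CL : Set G) :=
    Coprime.le_normalizer_centralizer le_rfl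
  -- two conjugates that are components of one involution centraliser coincide
  have key : ∀ (g y : G), orderOf y = 2 → y ∈ CL → g⁻¹ * y * g ∈ CL →
      L.map (MulAut.conj g).toMonoidHom = L := by
    intro g y hy hy1 hy2
    by_contra hne'
    have hy' : orderOf (g⁻¹ * y * g) = 2 := by
      rw [← hy, show g⁻¹ * y * g = MulAut.conj g⁻¹ y by simp, MulEquiv.orderOf_eq]
    obtain ⟨h1, h2⟩ := hne y hy hy1
    obtain ⟨h3, h4⟩ := component_conj (hne _ hy' hy2).1 (hne _ hy' hy2).2 g
    rw [show g * (g⁻¹ * y * g) * g⁻¹ = y by group] at h3 h4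
    refine hnc g hne' ?_
    rcases Layer.component_le_or_commute h2 h4.1 with h | h
    · exfalso
      have := congrArg (Subgroup.map (centralizer ({y} : Set G)).subtype) (Layer.component_eq_of_le h2 h4 h)
      rw [map_subgroupOf_eq_of_le h1, map_subgroupOf_eq_of_le h3] at this
      exact hne' this.symm
    · have h' := congrArg (Subgroup.map (centralizer ({y} : Set G)).subtype) h
      rwa [map_commutator, map_subgroupOf_eq_of_le h1, map_subgroupOf_eq_of_le h3, Subgroup.map_bot] at h'
  have hnorm : ∀ g : G, L.map (MulAut.conj g).toMonoidHom = L → g ∈ normalizer (L : Set G) := fun g hg => by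
    rw [mem_normalizer_iff_map_conj_eq]
    exact hg
  refine ⟨hLqs, ⟨heven CL hxC, fun g hg => ?_⟩, hnc, le_antisymm hNle fun g hg => ?_⟩
  · rw [← Nat.not_even_iff_odd]
    intro he
    haveI := Fact.mk Nat.prime_two
    obtain ⟨y', hy'⟩ := exists_prime_orderOf_dvd_card' 2 (even_iff_two_dvd.1 he)
    rw [← Subgroup.orderOf_coe] at hy'
    obtain ⟨hy1, w, hw, hwy⟩ := y'.2
    refine hg (hNle (hnorm g (key g y' hy' hy1 ?_)))
    change g * w * g⁻¹ = (y' : G) at hwy
    rw [← hwy, show g⁻¹ * (g * w * g⁻¹) * g = w by group]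
    exact hw
  · exact hnorm g (key g x hx hxC ((mem_normalizer_iff''.1 hg x).1 hxC))

end Cfsg.Agent.S1306
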