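import Cfsg.Statements.S1307
import Cfsg.Agent.Layer.Components
import Cfsg.Agent.S0016
import Cfsg.Agent.S0201

set_option autoImplicit false
set_option linter.style.haveILetI false
open Cfsg

namespace Cfsg.Agent.S1307

/-- Let G be finite, x an involution and L ≤ C_G(x) a component of C_G(x) of even order and 2-rank 1, such that L is a component of C_G(y) for every involution y ∈ C_G(L). Then some involution of L is a classical involution of G. -/
theorem result {G : Type*} [Group G] [Finite G] (x : G) (hx : orderOf x = 2) (L : Subgroup G) (hLx : L ≤ Subgroup.centralizer ({x} : Set G)) (hL : Cfsg.IsComponent (L.subgroupOf (Subgroup.centralizer ({x} : Set G)))) (heven : Even (Nat.card ↥L)) (hrk : Cfsg.PRankLE 2 1 ↥L) (hne : ∀ y : G, orderOf y = 2 → y ∈ Subgroup.centralizer (L : Set G) → L ≤ Subgroup.centralizer ({y} : Set G) ∧ Cfsg.IsComponent (L.subgroupOf (Subgroup.centralizer ({y} : Set G)))) : ∃ t ∈ L, Cfsg.IsClassicalInvolution t := by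
  classical
  haveI : Fact (Nat.Prime 2) := ⟨Nat.prime_two⟩
  have hq : Cfsg.IsQuasisimple ↥L :=
    Cfsg.Agent.Layer.isQuasisimple_congr (Subgroup.subgroupOfEquivOfLe hLx) hL.2
  haveI := Cfsg.Agent.Layer.qs_nontrivial hq
  haveI := hq.1
  obtain ⟨S⟩ : Nonempty (Sylow 2 ↥L) := inferInstance
  have huniq : ∀ H K : Subgroup ↥(S : Subgroup ↥L), Nat.card H = 2 → Nat.card K = 2 → H = K := by
    intro H K hH hK
    by_contra hne'
    obtain ⟨k, hk⟩ := IsPGroup.iff_card.mp S.2
    have hpow : ∀ (H : Subgroup ↥(S : Subgroup ↥L)), Nat.card H = 2 → ∃ h : ↥(S : Subgroup ↥L),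
        orderOf h = 2 ∧ H = Subgroup.zpowers h := by
      intro H hH
      obtain ⟨h, hh⟩ := exists_prime_orderOf_dvd_card' (G := H) 2 (dvd_of_eq hH.symm)
      refine ⟨h, by rw [Subgroup.orderOf_coe]; exact hh, (Subgroup.eq_of_le_of_card_ge
        (Subgroup.zpowers_le.mpr h.2) ?_).symm⟩
      rw [Nat.card_zpowers, Subgroup.orderOf_coe, hh, hH]
    -- a central involution of the Sylow subgroup
    haveI : Nontrivial ↥(S : Subgroup ↥L) := by
      obtain ⟨a, ha, -⟩ := hpow H hH
      exact ⟨⟨a, 1, fun h => by rw [h, orderOf_one] at ha; omega⟩⟩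
    haveI := S.2.center_nontrivial
    obtain ⟨z, hz⟩ := exists_prime_orderOf_dvd_card' (G := ↥(Subgroup.center ↥(S : Subgroup ↥L))) 2
      (((S.2.to_subgroup _).card_eq_or_dvd).resolve_left Finite.one_lt_card.ne')
    have hzo : orderOf (z : ↥(S : Subgroup ↥L)) = 2 := by rw [Subgroup.orderOf_coe]; exact hz
    have key : ∀ a : ↥(S : Subgroup ↥L), orderOf a = 2 → a = z := by
      intro a ha
      by_contra haz
      have hc : Commute (z : ↥(S : Subgroup ↥L)) a := (Subgroup.mem_center_iff.mp z.2 a).symm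
      set V := (Subgroup.zpowers (z : ↥(S : Subgroup ↥L)) ⊔ Subgroup.zpowers a).map
        (S : Subgroup ↥L).subtype with hV
      have hcomm : IsMulCommutative ↥V := by
        have h0 : IsMulCommutative ↥(Subgroup.zpowers (z : ↥(S : Subgroup ↥L)) ⊔ Subgroup.zpowers a) := by
          rw [Subgroup.zpowers_eq_closure, Subgroup.zpowers_eq_closure, ← Subgroup.closure_union]
          refine Subgroup.isMulCommutative_closure ?_
          intro u hu v hv
          simp only [Set.union_singleton, Set.mem_insert_iff, Set.mem_singleton_iff] at hu hv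
          rcases hu with rfl | rfl <;> rcases hv with rfl | rfl
          · rfl
          · exact hc.symm
          · exact hc
          · rfl
        haveI := h0
        exact Subgroup.map_isMulCommutative _ _
      have hexp : ∀ v ∈ V, v ^ 2 = 1 := by
        rintro _ ⟨v, hv, rfl⟩
        rw [← map_pow, ← map_one (S : Subgroup ↥L).subtype]
        congr 1
        rw [Subgroup.zpowers_eq_closure, Subgroup.zpowers_eq_closure, ← Subgroup.closure_union] at hv
        induction hv using Subgroup.closure_induction with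
        | mem u hu =>
          simp only [Set.union_singleton, Set.mem_insert_iff, Set.mem_singleton_iff] at hu
          rcases hu with rfl | rfl
          · have := pow_orderOf_eq_one u; rwa [ha] at this
          · have := pow_orderOf_eq_one (z : ↥(S : Subgroup ↥L)); rwa [hzo] at this
        | one => exact one_pow _
        | mul u v hu hv iu iv =>
          have h0 : Commute u v := by
            have hm : ∀ w, w ∈ Subgroup.closure ({(z : ↥(S : Subgroup ↥L))} ∪ {a}) →
                (S : Subgroup ↥L).subtype w ∈ V := by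
              intro w hw
              refine ⟨w, ?_, rfl⟩
              rwa [Subgroup.zpowers_eq_closure, Subgroup.zpowers_eq_closure, ← Subgroup.closure_union]
            exact (S : Subgroup ↥L).subtype_injective (congrArg Subtype.val
              (hcomm.is_comm.comm ⟨_, hm u hu⟩ ⟨_, hm v hv⟩))
          rw [h0.mul_pow, iu, iv, one_mul]
        | inv u _ iu => rw [inv_pow, iu, inv_one]
      have h3 : 3 ≤ Nat.card V := by
        by_contra hlt
        have heq : (Subgroup.zpowers (z : ↥(S : Subgroup ↥L))).map (S : Subgroup ↥L).subtype = V := by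
          refine Subgroup.eq_of_le_of_card_ge (Subgroup.map_mono le_sup_left) ?_
          rw [Subgroup.card_map_of_injective (K := Subgroup.zpowers (z : ↥(S : Subgroup ↥L))) (S : Subgroup ↥L).subtype_injective, Nat.card_zpowers, hzo]
          omega
        obtain ⟨w, hw, hwa⟩ := heq.ge (Subgroup.mem_map_of_mem (S : Subgroup ↥L).subtype
          (Subgroup.mem_sup_right (Subgroup.mem_zpowers a)))
        obtain rfl := (S : Subgroup ↥L).subtype_injective hwa
        obtain ⟨i, rfl⟩ := Subgroup.mem_zpowers_iff.mp hw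
        rcases Int.even_or_odd i with ⟨j, rfl⟩ | ⟨j, rfl⟩
        · rw [show j + j = ((orderOf (z : ↥(S : Subgroup ↥L)) : ℕ) : ℤ) * j by rw [hzo]; push_cast; ring,
            zpow_mul, zpow_natCast, pow_orderOf_eq_one, one_zpow, orderOf_one] at ha
          omega
        · apply haz
          rw [zpow_add_one, show 2 * j = ((orderOf (z : ↥(S : Subgroup ↥L)) : ℕ) : ℤ) * j by rw [hzo]; push_cast; ring,
            zpow_mul, zpow_natCast, pow_orderOf_eq_one, one_zpow, one_mul]
      have := hrk V hcomm hexp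
      omega
    obtain ⟨a, ha, rfl⟩ := hpow H hH
    obtain ⟨b, hb, rfl⟩ := hpow K hK
    exact hne' (by rw [key a ha, key b hb])
  have hnoncyc : ¬ IsCyclic ↥(S : Subgroup ↥L) := by
    intro hcyc
    haveI := hcyc
    have hp : Nat.minFac (Nat.card ↥L) = 2 := (Nat.minFac_eq_two_iff _).mpr (even_iff_two_dvd.mp heven)
    have hK := MonoidHom.ker_transferSylow_isComplement' S (hcyc.normalizer_le_centralizer hp)
    set φ := MonoidHom.transferSylow S (hcyc.normalizer_le_centralizer hp)
    have hcomm : commutator ↥L ≤ φ.ker := by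
      rw [_root_.commutator_def, Subgroup.commutator_le]
      intro a _ b _
      rw [MonoidHom.mem_ker, map_commutatorElement, commutatorElement_eq_one_iff_mul_comm]
      exact IsMulCommutative.is_comm.comm _ _
    rw [Group.IsPerfect.commutator_eq_top, top_le_iff] at hcomm
    have h1 := hK.card_mul_card
    rw [hcomm, Subgroup.card_top] at h1
    have h2 : Nat.card ↥(S : Subgroup ↥L) = 1 :=
      Nat.eq_of_mul_eq_mul_left Nat.card_pos (h1.trans (mul_one _).symm)
    have h3 := S.not_dvd_index
    rw [← Subgroup.card_mul_index (S : Subgroup ↥L), h2, one_mul] at heven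
    exact h3 (even_iff_two_dvd.mp heven)
  obtain ⟨-, n, ⟨e⟩⟩ := (Cfsg.Agent.S0016.result 2 S.2 huniq).resolve_left hnoncyc
  rcases Nat.eq_zero_or_pos n with rfl | hn
  · refine absurd ?_ hnoncyc
    haveI hQ : IsCyclic (QuaternionGroup (2 ^ 0)) :=
      ⟨QuaternionGroup.xa 0, fun q => by
        have h4 : ∀ q : QuaternionGroup 1, ∃ i : Fin 4, (QuaternionGroup.xa 0 : QuaternionGroup 1) ^ (i : ℕ) = q := by
          decide +revert
        obtain ⟨i, hi⟩ := h4 q
        exact ⟨(i : ℕ), by simpa using hi⟩⟩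
    exact isCyclic_of_surjective e.symm.toMonoidHom e.symm.surjective
  obtain ⟨m, rfl⟩ : ∃ m, n = m + 1 := ⟨n - 1, by omega⟩
  set q := QuotientGroup.mk' (Cfsg.oddCore ↥L) with hqdef
  set S' := S.mapSurjective (QuotientGroup.mk'_surjective (Cfsg.oddCore ↥L)) with hS'
  have hdisj : ∀ s ∈ (S : Subgroup ↥L), q s = 1 → s = 1 := by
    intro s hs h1
    obtain ⟨k, hk⟩ := S.2 ⟨s, hs⟩
    exact orderOf_eq_one_iff.mp (Nat.eq_one_of_dvd_coprimes
      ((Cfsg.Agent.Core.coprime_card_pPrimeCore (p := 2) (G := ↥L)).pow_right k)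
      (Subgroup.orderOf_dvd_natCard _ ((QuotientGroup.eq_one_iff s).mp h1))
      (orderOf_dvd_of_pow_eq_one (congrArg Subtype.val hk)))
  let e' : ↥(S' : Subgroup (↥L ⧸ Cfsg.oddCore ↥L)) ≃* ↥(S : Subgroup ↥L) :=
    (MulEquiv.ofBijective (q.subgroupMap (S : Subgroup ↥L))
      ⟨(injective_iff_map_eq_one _).mpr fun (s : ↥(S : Subgroup ↥L)) hs => Subtype.ext (hdisj s s.2 (congrArg Subtype.val hs)),
        q.subgroupMap_surjective _⟩).symm
  have hcenter := Cfsg.Agent.S0201.result S' m (e'.trans e) (fun N hN ho => by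
    rw [eq_bot_iff, ← Cfsg.Agent.Core.pPrimeCore_quotient_eq_bot (p := 2) (G := ↥L)]
    exact Cfsg.Agent.Core.le_pPrimeCore (hN := hN) (Nat.coprime_two_right.mpr ho))
  -- pull the centre back
  set Z := (Subgroup.center (↥L ⧸ Cfsg.oddCore ↥L)).comap q with hZ
  have hZc : Z ≤ Subgroup.center ↥L := by
    refine (Cfsg.Agent.Layer.qs_normal_cases hq inferInstance).resolve_left fun hZt => ?_
    have htop : Subgroup.center (↥L ⧸ Cfsg.oddCore ↥L) = ⊤ := by
      rw [← Subgroup.map_comap_eq_self_of_surjective (QuotientGroup.mk'_surjective _)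
        (Subgroup.center (↥L ⧸ Cfsg.oddCore ↥L)), ← hqdef, ← hZ, hZt,
        Subgroup.map_top_of_surjective _ (QuotientGroup.mk'_surjective _)]
    have h1 : Nat.card ↥(S' : Subgroup (↥L ⧸ Cfsg.oddCore ↥L)) ∣ 2 := by
      refine (Subgroup.card_subgroup_dvd_card _).trans (dvd_of_eq ?_)
      rw [← Subgroup.card_top (G := ↥L ⧸ Cfsg.oddCore ↥L), ← htop]
      exact hcenter
    rw [Nat.card_congr (e'.trans e).toEquiv, Nat.card_eq_fintype_card, QuaternionGroup.card] at h1
    have h4 := Nat.le_of_dvd (by norm_num) h1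
    have h5 := Nat.one_le_two_pow (n := m + 1)
    omega
  have h2Z : 2 ∣ Nat.card ↥Z := by
    refine dvd_trans ?_ (Subgroup.card_map_dvd Z q)
    rw [hZ, Subgroup.map_comap_eq_self_of_surjective (QuotientGroup.mk'_surjective _), hcenter]
  obtain ⟨t, ht⟩ := exists_prime_orderOf_dvd_card' 2 h2Z
  have hto : orderOf ((t : ↥L) : G) = 2 := by rw [Subgroup.orderOf_coe, Subgroup.orderOf_coe]; exact ht
  have htC : ((t : ↥L) : G) ∈ Subgroup.centralizer (L : Set G) :=
    Subgroup.mem_centralizer_iff.mpr fun l hl =>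
      congrArg Subtype.val (Subgroup.mem_center_iff.mp (hZc t.2) ⟨l, hl⟩)
  obtain ⟨hle, hcomp⟩ := hne _ hto htC
  exact ⟨_, (t : ↥L).2, hto, L, hle, (t : ↥L).2, hcomp.1, S, m, ⟨e⟩⟩

end Cfsg.Agent.S1307
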