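import Cfsg.Statements.S1312
import Cfsg.Agent.Bender.Mutual

set_option autoImplicit false
open Cfsg

namespace Cfsg.Agent.S1312

/-- Let G be a non-abelian finite simple group and M ≠ N maximal subgroups of G with F*(M) ≤ N and F*(N) ≤ M. Then there is a prime p such that F*(M) and F*(N) are both p-groups. -/
theorem result {G : Type*} [Group G] [Finite G] [IsSimpleGroup G] (hna : ¬ IsMulCommutative G) (M N : Subgroup G) (hM : IsCoatom M) (hN : IsCoatom N) (hMN : M ≠ N) (h1 : (Cfsg.generalizedFittingSubgroup ↥M).map M.subtype ≤ N) (h2 : (Cfsg.generalizedFittingSubgroup ↥N).map N.subtype ≤ M) : ∃ p : ℕ, p.Prime ∧ IsPGroup p ↥(Cfsg.generalizedFittingSubgroup ↥M) ∧ IsPGroup p ↥(Cfsg.generalizedFittingSubgroup ↥N) := by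
  have hne := hMN
  replace hMN := Bender.scLeads_of_le h1
  have hNM := Bender.scLeads_of_le h2
  -- no layers
  have hlayM : layer ↥M = ⊥ := by
    by_contra h
    exact hne (Bender.eq_of_map_eq (Bender.pairHyp_of_coatom N hM) (Bender.pairHyp_of_coatom M hN) h (Bender.layer_map_eq (Bender.pairHyp_of_coatom N hM) (Bender.pairHyp_of_coatom M hN) hMN hNM))
  have hlayN : layer ↥N = ⊥ := by
    by_contra h
    exact hne (Bender.eq_of_map_eq (Bender.pairHyp_of_coatom M hN) (Bender.pairHyp_of_coatom N hM) h (Bender.layer_map_eq (Bender.pairHyp_of_coatom M hN) (Bender.pairHyp_of_coatom N hM) hNM hMN)).symm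
  -- some prime divides `|F(M)|`
  obtain ⟨p, hp, hpd⟩ : ∃ p : ℕ, p.Prime ∧ p ∣ Nat.card (Cfsg.fittingSubgroup ↥M) := by
    refine Nat.exists_prime_and_dvd fun h0 => ?_
    haveI : Nontrivial M := by
      refine (Subgroup.nontrivial_iff_ne_bot M).mpr fun h => ?_
      subst h
      rcases hM.le_iff.mp (bot_le : (⊥ : Subgroup G) ≤ N) with h3 | h3
      · exact hN.1 h3
      · exact hne h3.symm
    refine Layer.generalizedFitting_ne_bot (G := M) ?_
    rw [Cfsg.generalizedFittingSubgroup, hlayM, bot_sup_eq]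
    exact Subgroup.card_eq_one.mp h0
  haveI := Fact.mk hp
  by_cases hex : ∃ r : ℕ, r.Prime ∧ r ≠ p ∧ r ∣ Nat.card (Cfsg.fittingSubgroup ↥M)
  · exfalso
    obtain ⟨r, hr, hrp, hrd⟩ := hex
    haveI := Fact.mk hr
    have hpN := Bender.dvd_of_leadsTo hNM hMN hpd
    have hrN := Bender.dvd_of_leadsTo hNM hMN hrd
    have e1 := Bender.pCore_map_le (Bender.pairHyp_of_coatom N hM) (Bender.pairHyp_of_coatom M hN) hMN hNM hrp.symm hrN
      (Bender.pCore_le_of_two_primes (Bender.pairHyp_of_coatom N hM) hMN hrp hpd hrd)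
      (Bender.pCore_le_of_two_primes (Bender.pairHyp_of_coatom N hM) hMN hrp.symm hrd hpd)
    have e2 := Bender.pCore_map_le (Bender.pairHyp_of_coatom M hN) (Bender.pairHyp_of_coatom N hM) hNM hMN hrp.symm hrd
      (Bender.pCore_le_of_two_primes (Bender.pairHyp_of_coatom M hN) hNM hrp hpN hrN)
      (Bender.pCore_le_of_two_primes (Bender.pairHyp_of_coatom M hN) hNM hrp.symm hrN hpN)
    exact hne (Bender.eq_of_map_eq (Bender.pairHyp_of_coatom N hM) (Bender.pairHyp_of_coatom M hN) (Bender.pCore_ne_bot_of_dvd hpd) (le_antisymm e2 e1))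
  · refine ⟨p, hp, ?_, ?_⟩
    all_goals
      rw [Cfsg.generalizedFittingSubgroup]
    all_goals
      first | rw [hlayM] | rw [hlayN]
    all_goals
      rw [bot_sup_eq]
      refine (Core.pCore_isPGroup (p := p)).to_le ?_
      rw [Core.fittingSubgroup_eq_iSup_pCore]
      refine iSup_le fun t => ?_
      haveI : Fact (t : ℕ).Prime := ⟨t.2⟩
      by_cases h : (t : ℕ) = p
      · rw [h]
      · refine (Bender.pCore_eq_bot_of_not_dvd fun hd => hex ⟨t, t.2, h, ?_⟩).le.trans bot_le
        first | exact hd | exact Bender.dvd_of_leadsTo hMN hNM hd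

end Cfsg.Agent.S1312
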