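import Cfsg.Statements.S1313
import Cfsg.Agent.Layer.FStar

set_option linter.style.haveILetI false

set_option autoImplicit false
open Cfsg
open scoped commutatorElement Pointwise

namespace Cfsg.Agent.S1313

/-- For a finite group H, |H| ≤ |F*(H)|!. -/
theorem result {H : Type*} [Group H] [Finite H] : Nat.card H ≤ Nat.factorial (Nat.card ↥(Cfsg.generalizedFittingSubgroup H)) := by
  set F := Cfsg.generalizedFittingSubgroup H with hF
  haveI : F.Normal := by rw [hF]; infer_instance
  have hC : Subgroup.centralizer (F : Set H) ≤ F := Layer.centralizer_generalizedFitting_le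
  classical
  let conjF : H →* MulAut ↥F := MulAut.conjNormal
  let toPerm : H →* Equiv.Perm {x : ↥F // x ≠ 1} :=
    { toFun := fun g => ((conjF g).toEquiv.subtypeEquiv fun x => by
        simp only [MulEquiv.toEquiv_eq_coe, MulEquiv.coe_toEquiv, ne_eq, EmbeddingLike.map_eq_one_iff])
      map_one' := by ext x; simp
      map_mul' := fun a b => by ext x; simp }
  have hker : toPerm.ker ≤ Subgroup.centralizer (F : Set H) := by
    intro g hg
    rw [Subgroup.mem_centralizer_iff]
    intro y hy
    by_cases hy1 : y = 1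
    · simp [hy1]
    have h := congrArg (fun e : Equiv.Perm {x : ↥F // x ≠ 1} =>
      (((e ⟨⟨y, hy⟩, fun h => hy1 (congrArg Subtype.val h)⟩).1 : ↥F) : H)) (MonoidHom.mem_ker.mp hg)
    change g * y * g⁻¹ = y at h
    rwa [mul_inv_eq_iff_eq_mul, eq_comm] at h
  have h1 : Nat.card toPerm.ker ≤ Nat.card ↥F :=
    Nat.le_of_dvd Nat.card_pos (Subgroup.card_dvd_of_le (hker.trans hC))
  have h2 : Nat.card {x : ↥F // x ≠ 1} = Nat.card ↥F - 1 := by
    letI := Fintype.ofFinite ↥F
    rw [Nat.card_eq_fintype_card, Nat.card_eq_fintype_card]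
    simp
  calc Nat.card H = toPerm.ker.index * Nat.card toPerm.ker :=
        (Subgroup.index_mul_card _).symm
    _ ≤ Nat.factorial (Nat.card ↥F - 1) * Nat.card ↥F := by
        refine Nat.mul_le_mul ?_ h1
        rw [Subgroup.index_ker, ← h2, ← Nat.card_perm]
        exact Subgroup.card_le_card_group _
    _ = Nat.factorial (Nat.card ↥F) := by
        rw [mul_comm]
        exact Nat.mul_factorial_pred Nat.card_pos.ne' 

end Cfsg.Agent.S1313
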