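import Cfsg.Statements.S1314

set_option autoImplicit false
open Cfsg

namespace Cfsg.Agent.S1314

open Subgroup
open scoped commutatorElement

/-- Let x be an involution of a group G and L a perfect subgroup with ⁅L, x L x⁻¹⁆ = 1. Then l ↦ l (x l x⁻¹) is a group homomorphism π from L to G whose kernel is central in L and whose image lies in C_G(x); and the commutator subgroup of C_{L ⊔ xLx⁻¹}(x) equals the image of π. -/
theorem result {G : Type*} [Group G] [Finite G] (x : G) (hx : orderOf x = 2) (L : Subgroup G) (hperf : ⁅L, L⁆ = L) (hcomm : ⁅L, L.map (MulAut.conj x).toMonoidHom⁆ = ⊥) : ∃ π : ↥L →* G, (∀ l : ↥L, π l = (l : G) * (x * (l : G) * x⁻¹)) ∧ π.ker ≤ Subgroup.center ↥L ∧ π.range ≤ Subgroup.centralizer ({x} : Set G) ∧ ⁅(L ⊔ L.map (MulAut.conj x).toMonoidHom) ⊓ Subgroup.centralizer ({x} : Set G), (L ⊔ L.map (MulAut.conj x).toMonoidHom) ⊓ Subgroup.centralizer ({x} : Set G)⁆ = π.range := by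
  set M := L.map (MulAut.conj x).toMonoidHom with hM
  have hxx : x * x = 1 := by rw [← sq, ← hx]; exact pow_orderOf_eq_one x
  have hxi : x⁻¹ = x := inv_eq_of_mul_eq_one_right hxx
  have hc : ∀ a ∈ L, ∀ b ∈ M, a * b = b * a := fun a ha b hb =>
    (mem_centralizer_iff.1 (commutator_eq_bot_iff_le_centralizer.1 hcomm ha) b hb).symm
  have hin : ∀ l : L, x * (l : G) * x⁻¹ ∈ M := fun l => ⟨l, l.2, rfl⟩
  let π : ↥L →* G := MonoidHom.mk' (fun l => (l : G) * (x * (l : G) * x⁻¹)) fun a b => by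
    show (a : G) * b * (x * (a * b) * x⁻¹) = a * (x * a * x⁻¹) * (b * (x * b * x⁻¹))
    calc (a : G) * b * (x * (a * b) * x⁻¹) = a * ((b : G) * (x * a * x⁻¹)) * (x * b * x⁻¹) := by group
      _ = _ := by rw [hc b b.2 _ (hin a)]; group
  have hπ : ∀ l : L, π l = (l : G) * (x * (l : G) * x⁻¹) := fun l => rfl
  have hfix : π.range ≤ centralizer ({x} : Set G) := by
    rintro _ ⟨l, rfl⟩
    rw [mem_centralizer_singleton_iff, hπ, hxi]
    calc (l : G) * (x * l * x) * x = (l : G) * (x * l * x⁻¹) * x := by rw [hxi]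
      _ = x * (l : G) * x⁻¹ * l * x := by rw [hc l l.2 _ (hin l)]
      _ = _ := by rw [hxi]; simp only [mul_assoc]
  refine ⟨π, hπ, fun l hl => ?_, hfix, le_antisymm ?_ ?_⟩
  · have hl' : (l : G) * (x * (l : G) * x⁻¹) = 1 := hl
    refine mem_center_iff.2 fun g => Subtype.ext ?_
    have hlM : (l : G) ∈ M := by
      rw [eq_inv_of_mul_eq_one_left hl']
      exact inv_mem (hin l)
    exact hc g g.2 _ hlM
  · rw [commutator_le]
    have key : ∀ c ∈ (L ⊔ M) ⊓ centralizer ({x} : Set G), ∃ w, (∀ y ∈ L ⊔ M, y * w = w * y) ∧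
        ∃ b : L, c = w * π b := by
      rintro c ⟨hc1, hc2⟩
      have hLM : L ≤ normalizer (M : Set G) :=
        (commutator_eq_bot_iff_le_centralizer.1 hcomm).trans (centralizer_le_normalizer _)
      replace hc1 : c ∈ ((L ⊔ M : Subgroup G) : Set G) := hc1
      rw [coe_mul_of_left_le_normalizer_right _ _ hLM, Set.mem_mul] at hc1
      obtain ⟨a, ha, _, ⟨b, hb, rfl⟩, rfl⟩ := hc1
      have hb' := hin ⟨b, hb⟩
      have hab : x * (a * (x * b * x⁻¹)) * x⁻¹ = a * (x * b * x⁻¹) :=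
        mul_inv_eq_iff_eq_mul.2 (mem_centralizer_singleton_iff.1 hc2).symm
      have hab' : x * a * x⁻¹ * b = a * (x * b * x⁻¹) := by
        refine Eq.trans ?_ hab
        calc x * a * x⁻¹ * b = x * a * x⁻¹ * ((x * x) * b * (x * x)⁻¹) := by rw [hxx]; simp
          _ = _ := by
            have h3 : ∀ t : G, x * (x * t) = t := fun t => by rw [← mul_assoc, hxx, one_mul]
            simp only [hxi, mul_assoc, h3, hxx, inv_one, one_mul, mul_one]
      set w := a * b⁻¹ with hw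
      have hw' : w = x * a * x⁻¹ * (x * b * x⁻¹)⁻¹ := by
        have h1 : b * (x * a * x⁻¹) = a * (x * b * x⁻¹) := (hc b hb _ (hin ⟨a, ha⟩)).trans hab'
        calc w = a * (x * b * x⁻¹) * (b * (x * b * x⁻¹))⁻¹ := by rw [hw]; group
          _ = b * (x * a * x⁻¹) * (b * (x * b * x⁻¹))⁻¹ := by rw [h1]
          _ = b * (x * a * x⁻¹ * (x * b * x⁻¹)⁻¹) * b⁻¹ := by group
          _ = x * a * x⁻¹ * (x * b * x⁻¹)⁻¹ := by
            rw [hc b hb _ (mul_mem (hin ⟨a, ha⟩) (inv_mem hb')), mul_inv_cancel_right]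
      have hwL : w ∈ L := mul_mem ha (inv_mem hb)
      have hwM : w ∈ M := hw' ▸ mul_mem (hin ⟨a, ha⟩) (inv_mem hb')
      refine ⟨w, fun y hy => ?_, ⟨b, hb⟩, ?_⟩
      · have : L ⊔ M ≤ centralizer ({w} : Set G) := sup_le
          (fun y hy => mem_centralizer_singleton_iff.2 (hc y hy w hwM))
          (fun y hy => mem_centralizer_singleton_iff.2 (hc w hwL y hy).symm)
        exact mem_centralizer_singleton_iff.1 (this hy)
      · rw [hπ, hw]
        show a * (x * b * x⁻¹) = a * b⁻¹ * (b * (x * b * x⁻¹))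
        group
    intro c₁ hc₁ c₂ hc₂
    obtain ⟨w₁, hw₁, b₁, rfl⟩ := key c₁ hc₁
    obtain ⟨w₂, hw₂, b₂, rfl⟩ := key c₂ hc₂
    have hπmem : ∀ b : L, π b ∈ L ⊔ M := fun b => mul_mem (mem_sup_left b.2) (mem_sup_right (hin b))
    have h2mem : w₂ * π b₂ ∈ L ⊔ M := hc₂.1
    have e1 : ⁅w₁ * π b₁, w₂ * π b₂⁆ = ⁅π b₁, w₂ * π b₂⁆ := by
      have h : (π b₁ * (w₂ * π b₂) * (π b₁)⁻¹) * w₁ = w₁ * (π b₁ * (w₂ * π b₂) * (π b₁)⁻¹) :=
        hw₁ _ (mul_mem (mul_mem (hπmem _) h2mem) (inv_mem (hπmem _)))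
      calc ⁅w₁ * π b₁, w₂ * π b₂⁆
          = w₁ * (π b₁ * (w₂ * π b₂) * (π b₁)⁻¹) * w₁⁻¹ * (w₂ * π b₂)⁻¹ := by
            rw [commutatorElement_def]; group
        _ = _ := by rw [← h, commutatorElement_def]; group
    have e2 : ⁅π b₁, w₂ * π b₂⁆ = ⁅π b₁, π b₂⁆ := by
      calc ⁅π b₁, w₂ * π b₂⁆ = (π b₁ * w₂) * π b₂ * (π b₁)⁻¹ * (π b₂)⁻¹ * w₂⁻¹ := by
            rw [commutatorElement_def]; group
        _ = w₂ * ⁅π b₁, π b₂⁆ * w₂⁻¹ := by rw [hw₂ _ (hπmem _), commutatorElement_def]; group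
        _ = _ := by
            rw [← hw₂ _ (by rw [commutatorElement_def]; exact mul_mem (mul_mem (mul_mem (hπmem _) (hπmem _))
              (inv_mem (hπmem _))) (inv_mem (hπmem _))), mul_inv_cancel_right]
    rw [e1, e2, ← map_commutatorElement]
    exact ⟨_, rfl⟩
  · have hle : π.range ≤ (L ⊔ M) ⊓ centralizer ({x} : Set G) := le_inf (by
      rintro _ ⟨l, rfl⟩
      exact mul_mem (mem_sup_left l.2) (mem_sup_right (hin l))) hfix
    refine le_trans (le_of_eq ?_) (commutator_mono hle hle)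
    have htop : ⁅(⊤ : Subgroup L), (⊤ : Subgroup L)⁆ = ⊤ := by
      apply map_injective L.subtype_injective
      rw [map_commutator, ← MonoidHom.range_eq_map, L.range_subtype, hperf]
    rw [MonoidHom.range_eq_map, ← map_commutator (⊤ : Subgroup L) ⊤ π, htop]

end Cfsg.Agent.S1314
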