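import Cfsg.Statements.S1315
import Cfsg.Agent.ClassicalInv.Elem

set_option autoImplicit false
open Cfsg

namespace Cfsg.Agent.S1315

open Subgroup Cfsg.Agent.ClassicalInv

universe u

theorem sl2_center (F : Type) [Field F] [Fintype F] (h : Odd (Fintype.card F)) :
    Nat.card (Subgroup.center (Matrix.SpecialLinearGroup (Fin 2) F)) = 2 := by
  rw [Nat.card_congr (Matrix.SpecialLinearGroup.center_equiv_rootsOfUnity (n := Fin 2) (R := F)).toEquiv]
  have hch : ringChar F ≠ 2 := fun hc => by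
    have : CharP F 2 := hc ▸ ringChar.charP F
    obtain ⟨n, hp, hn⟩ := FiniteField.card F 2
    rw [hn] at h
    exact Nat.not_even_iff_odd.2 h ((even_two).pow_of_ne_zero n.ne_zero)
  have hr : IsPrimitiveRoot (-1 : F) 2 := by
    rw [IsPrimitiveRoot.iff_orderOf, orderOf_neg_one, if_neg hch]
  rw [show max (Fintype.card (Fin 2)) 1 = 2 from rfl]
  exact hr.card_rootsOfUnity

variable {G : Type u} [Group G] [Finite G]

/-- The image in the quotient of the centraliser. -/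
theorem exists_equiv {z : G} {J : Subgroup G} (hle : J ≤ C1 z)
    (hJ : IsPComponent 2 (J.subgroupOf (C1 z))) :
    Nonempty (↥J ⧸ oddCore ↥J ≃* ↥(img z J)) := by
  have : Fact (Nat.Prime 2) := ⟨Nat.prime_two⟩
  set J' := J.subgroupOf (C1 z) with hJ'
  obtain ⟨hsn, -⟩ := (Layer.isPComponent_subgroupOf_iff hle).1 hJ
  let π : ↥J →* ↥(img z J) :=
    ((qmk z).subgroupMap J').comp (subgroupOfEquivOfLe hle).symm.toMonoidHom
  have hπ : Function.Surjective π :=
    ((qmk z).subgroupMap_surjective J').comp (subgroupOfEquivOfLe hle).symm.surjective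
  refine ⟨(QuotientGroup.quotientMulEquivOfEq ?_).trans
    (QuotientGroup.quotientKerEquivOfSurjective π hπ)⟩
  ext x
  have hsn' : J'.IsSubnormal := hsn
  have hk : x ∈ π.ker ↔ ((subgroupOfEquivOfLe hle).symm x : ↥(C1 z)) ∈ pPrimeCore 2 ↥(C1 z) := by
    rw [MonoidHom.mem_ker, ← QuotientGroup.eq_one_iff, Subtype.ext_iff]
    rfl
  rw [hk]
  have hm := Layer.map_pPrimeCore_eq_inf (p := 2) hsn'
  constructor
  · intro hx
    have hy : (subgroupOfEquivOfLe hle).symm x ∈ pPrimeCore 2 ↥J' :=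
      Core.map_pPrimeCore_le _ ⟨x, hx, rfl⟩
    exact (hm.le ⟨_, hy, rfl⟩).2
  · intro hx
    obtain ⟨y, hy, hye⟩ := hm.ge ⟨((subgroupOfEquivOfLe hle).symm x).2, hx⟩
    have h2 : y = (subgroupOfEquivOfLe hle).symm x := Subtype.ext hye
    rw [h2] at hy
    have := Core.map_pPrimeCore_le (p := 2) (subgroupOfEquivOfLe hle) ⟨_, hy, rfl⟩
    simpa using this

theorem mk_data {z : G} {J : Subgroup G} {m : ℕ}
    (hz : z ∈ J ∧ orderOf z = 2 ∧ ∀ t ∈ J, orderOf t = 2 → t = z)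
    (hJ : J ≤ C1 z ∧ IsPComponent 2 (J.subgroupOf (C1 z)))
    (hc : Nat.card (center (↥J ⧸ oddCore ↥J)) = 2)
    (hm : Nat.card ((↥J ⧸ oddCore ↥J) ⧸ center (↥J ⧸ oddCore ↥J)) = m) : Data z J m := by
  obtain ⟨hz1, hz2, hz3⟩ := hz
  obtain ⟨e⟩ := exists_equiv hJ.1 hJ.2
  refine ⟨?_, ?_, hz1, ?_, hJ.1, hJ.2, ?_, ?_⟩
  · rw [← pow_two, ← hz2, pow_orderOf_eq_one]
  · rintro rfl
    simp at hz2
  · intro t ht h2
    by_cases h : t = 1
    · exact Or.inl h
    · exact Or.inr (hz3 t ht (orderOf_eq_prime (by rw [pow_two, h2]) h))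
  · exact (Nat.card_congr (Subgroup.centerCongr e).toEquiv).symm.trans hc
  · exact (card_quot_center_congr e).symm.trans hm

/-- Let G be finite and J ≠ K subgroups, each containing exactly one involution, z(J) resp. z(K), each a 2-component of the centralizer of its involution, with J / O(J) and K / O(K) both isomorphic to SL(2, F) for one finite field F of odd order, or both non-split double covers of A7. Then (i) every 2-element of K of order at least 4 centralizing z(J) normalizes J; (ii) if z(J) normalizes K then z(K) normalizes J. -/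
theorem result {G : Type*} [Group G] [Finite G] (J K : Subgroup G) (hJK : J ≠ K) (zJ zK : G) (hzJ : zJ ∈ J ∧ orderOf zJ = 2 ∧ ∀ t ∈ J, orderOf t = 2 → t = zJ) (hzK : zK ∈ K ∧ orderOf zK = 2 ∧ ∀ t ∈ K, orderOf t = 2 → t = zK) (hJ : J ≤ Subgroup.centralizer ({zJ} : Set G) ∧ Cfsg.IsPComponent 2 (J.subgroupOf (Subgroup.centralizer ({zJ} : Set G)))) (hK : K ≤ Subgroup.centralizer ({zK} : Set G) ∧ Cfsg.IsPComponent 2 (K.subgroupOf (Subgroup.centralizer ({zK} : Set G)))) (htype : (∃ (F : Type) (_ : Field F) (_ : Fintype F), Odd (Fintype.card F) ∧ Nonempty (↥J ⧸ Cfsg.oddCore ↥J ≃* Matrix.SpecialLinearGroup (Fin 2) F) ∧ Nonempty (↥K ⧸ Cfsg.oddCore ↥K ≃* Matrix.SpecialLinearGroup (Fin 2) F)) ∨ (Cfsg.IsNonsplitDoubleCover (↥J ⧸ Cfsg.oddCore ↥J) ↥(alternatingGroup (Fin 7)) ∧ Cfsg.IsNonsplitDoubleCover (↥K ⧸ Cfsg.oddCore ↥K) ↥(alternatingGroup (Fin 7)))) : (∀ y ∈ K, IsPGroup 2 ↥(Subgroup.zpowers y) → 4 ≤ orderOf y → y * zJ = zJ * y →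 y ∈ Subgroup.normalizer (J : Set G)) ∧ (zJ ∈ Subgroup.normalizer (K : Set G) → zK ∈ Subgroup.normalizer (J : Set G)) := by
  have h : ∃ m, Data zJ J m ∧ Data zK K m := by
    rcases htype with ⟨F, _, _, hF, ⟨e1⟩, ⟨e2⟩⟩ | ⟨⟨c1, ⟨e1⟩, -⟩, ⟨c2, ⟨e2⟩, -⟩⟩
    · exact ⟨_, mk_data hzJ hJ
          ((Nat.card_congr (Subgroup.centerCongr e1).toEquiv).trans (sl2_center F hF))
          (card_quot_center_congr e1),
        mk_data hzK hK ((Nat.card_congr (Subgroup.centerCongr e2).toEquiv).trans (sl2_center F hF))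
          (card_quot_center_congr e2)⟩
    · exact ⟨_, mk_data hzJ hJ c1 (Nat.card_congr e1.toEquiv),
        mk_data hzK hK c2 (Nat.card_congr e2.toEquiv)⟩
  obtain ⟨m, DJ, DK⟩ := h
  refine ⟨fun y hy hp h4 hc => ?_, swap_norm DJ DK⟩
  obtain ⟨k, hk⟩ := (IsPGroup.iff_card.1 hp : ∃ n, Nat.card ↥(zpowers y) = 2 ^ n)
  rw [Nat.card_zpowers] at hk
  have h2 : 2 ≤ k := (Nat.pow_le_pow_iff_right (a := 2) one_lt_two).1 (by rw [← hk]; exact h4)
  exact elem_norm DJ DK (k - 2) y hy (by rw [hk]; congr 1; omega) hc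

end Cfsg.Agent.S1315
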