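import Cfsg.Statements.S1316
import Cfsg.Agent.Layer.FStar

set_option linter.style.haveILetI false

set_option autoImplicit false
open Cfsg
open scoped commutatorElement Pointwise

namespace Cfsg.Agent.S1316

/-- For a finite group X, E(X) equals the intersection of the derived series of F*(X) (its last term). -/
theorem result {X : Type*} [Group X] [Finite X] : (⨅ n : ℕ, (derivedSeries ↥(Cfsg.generalizedFittingSubgroup X) n).map (Cfsg.generalizedFittingSubgroup X).subtype) = Cfsg.layer X := by
  set S := Cfsg.generalizedFittingSubgroup X with hS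
  have hES : Cfsg.layer X ≤ S := Layer.layer_le_generalizedFitting
  refine le_antisymm ?_ (le_iInf fun n => ?_)
  · haveI : ((Cfsg.layer X).subgroupOf S).Normal := inferInstance
    set E := (Cfsg.layer X).subgroupOf S with hE
    have hq : Function.Surjective ((QuotientGroup.mk' E).comp
        (Subgroup.inclusion (Layer.fitting_le_generalizedFitting (G := X)))) := by
      intro y
      obtain ⟨⟨y, hy⟩, rfl⟩ := QuotientGroup.mk'_surjective E y
      have hy' : y ∈ (S : Set X) := hy
      rw [hS, Layer.coe_generalizedFitting, Set.mem_mul] at hy'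
      obtain ⟨e, he, f, hf, rfl⟩ := hy'
      refine ⟨⟨f, hf⟩, ?_⟩
      simp only [MonoidHom.comp_apply, QuotientGroup.mk'_apply]
      rw [QuotientGroup.eq]
      have hN : (Cfsg.layer X).Normal := inferInstance
      show f⁻¹ * (e * f) ∈ Cfsg.layer X
      simpa [mul_assoc] using hN.conj_mem e he f⁻¹
    haveI : Group.IsSolvable (↥S ⧸ E) := Group.isSolvable_of_surjective hq
    obtain ⟨n, hn⟩ := (inferInstance : Group.IsSolvable (↥S ⧸ E))
    refine (iInf_le _ n).trans ?_
    have h := map_derivedSeries_le_derivedSeries (QuotientGroup.mk' E) n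
    rw [hn, le_bot_iff, Subgroup.map_eq_bot_iff, QuotientGroup.ker_mk'] at h
    refine (Subgroup.map_mono h).trans ?_
    rw [hE, Subgroup.subgroupOf_map_subtype]
    exact inf_le_left
  · induction n with
    | zero => rwa [derivedSeries_zero, ← MonoidHom.range_eq_map, Subgroup.range_subtype]
    | succ n ih =>
      rw [derivedSeries_succ, Subgroup.map_commutator, ← Layer.layer_perfect]
      exact Subgroup.commutator_mono ih ih

end Cfsg.Agent.S1316
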