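import Cfsg.Statements.S1319
import Cfsg.Agent.Layer.FStar

set_option linter.style.haveILetI false

set_option autoImplicit false
open Cfsg
open scoped commutatorElement Pointwise

namespace Cfsg.Agent.S1319

/-- Let A be a subnormal subgroup of the finite group X with E(A) = A. Then A ≤ E(X) and A is normal in E(X). -/
theorem result {X : Type*} [Group X] [Finite X] (A : Subgroup X) (hsn : A.IsSubnormal) (hA : Cfsg.layer ↥A = ⊤) : A ≤ Cfsg.layer X ∧ (A.subgroupOf (Cfsg.layer X)).Normal := by
  have h1 : A = sSup {L : Subgroup X | Cfsg.IsComponent L ∧ L ≤ A} := by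
    rw [← Layer.map_layer_subnormal hsn, hA, ← MonoidHom.range_eq_map, Subgroup.range_subtype]
  have hle : A ≤ Cfsg.layer X := by
    rw [h1]
    exact sSup_le fun L hL => Layer.component_le_layer hL.1
  refine ⟨hle, (Subgroup.normal_subgroupOf_iff_le_normalizer hle).mpr ?_⟩
  rw [h1]
  exact Layer.le_normalizer_sSup fun L hL => Layer.layer_le_normalizer_component hL.1

end Cfsg.Agent.S1319
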