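import Cfsg.Statements.S1323
import Mathlib

set_option autoImplicit false
open Cfsg

namespace Cfsg.Agent.S1323

open Equiv Subgroup
open scoped commutatorElement

variable {n : ℕ}

/-- The even permutations supported in `D`. -/
def sup' (D : Finset (Fin n)) : Subgroup (alternatingGroup (Fin n)) where
  carrier := {g | ∀ x, x ∉ D → (g : Perm (Fin n)) x = x}
  one_mem' := fun _ _ => rfl
  mul_mem' := fun {a b} ha hb x hx => by
    show (a : Perm (Fin n)) ((b : Perm (Fin n)) x) = x
    rw [hb x hx, ha x hx]
  inv_mem' := fun {a} ha x hx => by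
    show (a : Perm (Fin n))⁻¹ x = x
    rw [Perm.inv_eq_iff_eq, ha x hx]

theorem mem_sup' {D : Finset (Fin n)} {g : alternatingGroup (Fin n)} :
    g ∈ sup' D ↔ ∀ x, x ∉ D → (g : Perm (Fin n)) x = x := Iff.rfl

theorem exists_cycle {D : Finset (Fin n)} {a b c : Fin n} (ha : a ∈ D) (hb : b ∈ D) (hc : c ∈ D)
    (hab : a ≠ b) (hac : a ≠ c) (hbc : b ≠ c) :
    ∃ g ∈ sup' D, (g : Perm (Fin n)) = swap a b * swap b c ∧ (g : Perm (Fin n)) c = a := by
  refine ⟨⟨swap a b * swap b c, ?_⟩, fun x hx => ?_, rfl, ?_⟩
  · rw [Perm.mem_alternatingGroup, map_mul, Perm.sign_swap hab, Perm.sign_swap hbc]; rfl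
  · show swap a b (swap b c x) = x
    have hxa : x ≠ a := fun e => hx (e.symm ▸ ha)
    have hxb : x ≠ b := fun e => hx (e.symm ▸ hb)
    have hxc : x ≠ c := fun e => hx (e.symm ▸ hc)
    rw [swap_apply_of_ne_of_ne hxb hxc, swap_apply_of_ne_of_ne hxa hxb]
  · show swap a b (swap b c c) = a
    rw [swap_apply_right, swap_apply_right]

theorem centralizer_sup' {D : Finset (Fin n)} (hD : 4 ≤ D.card) :
    centralizer (sup' D : Set (alternatingGroup (Fin n))) = sup' Dᶜ := by
  refine le_antisymm (fun g hg x hx => ?_) (fun g hg => mem_centralizer_iff.2 fun h hh => ?_)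
  · rw [Finset.mem_compl, not_not] at hx
    by_contra hgx
    set y := (g : Perm (Fin n)) x with hy
    obtain ⟨a, ha, b, hb, hab⟩ := Finset.one_lt_card.1 (show 1 < ((D.erase x).erase y).card by
      have h1 := Finset.pred_card_le_card_erase (s := D) (a := x)
      have h2 := Finset.pred_card_le_card_erase (s := D.erase x) (a := y)
      omega)
    simp only [Finset.mem_erase] at ha hb
    obtain ⟨c, hc, hcv, hca⟩ := exists_cycle ha.2.2 hb.2.2 hx hab ha.2.1 hb.2.1
    have hcomm := congrArg (fun t : alternatingGroup (Fin n) => (t : Perm (Fin n)) x)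
      (mem_centralizer_iff.1 hg c hc)
    simp only [Subgroup.coe_mul, Perm.mul_apply, hca] at hcomm
    rw [← hy, hcv] at hcomm
    simp only [Perm.mul_apply] at hcomm
    rw [swap_apply_of_ne_of_ne hb.1.symm hgx, swap_apply_of_ne_of_ne ha.1.symm hb.1.symm, hy] at hcomm
    exact ha.2.1 (Equiv.injective _ hcomm).symm
  · refine Subtype.ext (Perm.Disjoint.commute fun x => ?_).eq
    by_cases hx : x ∈ D
    · exact Or.inr (hg x (by simpa using hx))
    · exact Or.inl (hh x hx)

theorem sup'_injective {D E : Finset (Fin n)} (hD : 3 ≤ D.card) (h : sup' D ≤ sup' E) : D ⊆ E := by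
  intro x hx
  by_contra hxE
  obtain ⟨a, ha, b, hb, hab⟩ := Finset.one_lt_card.1 (show 1 < (D.erase x).card by
    rw [Finset.card_erase_of_mem hx]; omega)
  simp only [Finset.mem_erase] at ha hb
  obtain ⟨c, hc, -, hca⟩ := exists_cycle ha.2 hb.2 hx hab ha.1 hb.1
  exact ha.1 (hca.symm.trans (h hc x hxE))

theorem map_sup' (D : Finset (Fin n)) (g : alternatingGroup (Fin n)) :
    (sup' D).map (MulAut.conj g).toMonoidHom = sup' (D.map (g : Perm (Fin n)).toEmbedding) := by
  ext h
  rw [Subgroup.mem_map_equiv]
  simp only [MulAut.conj_symm_apply, mem_sup', Subgroup.coe_mul, Subgroup.coe_inv, Perm.mul_apply,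
    Finset.mem_map_equiv]
  constructor
  · intro h1 x hx
    have := h1 _ hx
    rwa [Perm.inv_def, Equiv.apply_symm_apply, Equiv.apply_eq_iff_eq] at this
  · intro h1 x hx
    rw [h1 _ (by rwa [Equiv.symm_apply_apply]), Perm.inv_def, Equiv.symm_apply_apply]

theorem isQuasisimple_sup' {D : Finset (Fin n)} (hD : 5 ≤ D.card) : IsQuasisimple (sup' D) := by
  let f : alternatingGroup {x // x ∈ D} →* alternatingGroup (Fin n) :=
    ((Perm.ofSubtype (p := (· ∈ D))).comp (alternatingGroup {x // x ∈ D}).subtype).codRestrict _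
      fun g => by
        show Perm.ofSubtype (g : Perm {x // x ∈ D}) ∈ alternatingGroup (Fin n)
        rw [Perm.mem_alternatingGroup, Perm.sign_ofSubtype]
        exact Perm.mem_alternatingGroup.1 g.2
  have hf : Function.Injective f := fun a b e =>
    Subtype.ext (Perm.ofSubtype_injective (congrArg Subtype.val e))
  have hfr : f.range = sup' D := by
    ext g
    constructor
    · rintro ⟨a, rfl⟩ x hx
      exact Perm.ofSubtype_apply_of_not_mem _ hx
    · intro hg
      have h1 : ∀ x, (g : Perm (Fin n)) x ∈ D ↔ x ∈ D := fun x => by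
        constructor
        · intro h
          by_contra hx
          rw [hg x hx] at h
          exact hx h
        · intro h
          by_contra hx
          have := hg _ hx
          exact hx (by rwa [Equiv.injective _ this])
      have h2 : ∀ x, (g : Perm (Fin n)) x ≠ x → x ∈ D := fun x hx => by
        by_contra h
        exact hx (hg x h)
      refine ⟨⟨(g : Perm (Fin n)).subtypePerm h1, ?_⟩, Subtype.ext (Perm.ofSubtype_subtypePerm h1 h2)⟩
      rw [Perm.mem_alternatingGroup]
      convert (Perm.sign_subtypePerm _ h1 h2).trans (Perm.mem_alternatingGroup.1 g.2) using 4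
  have hcard : 5 ≤ Nat.card {x // x ∈ D} := by
    rw [Nat.card_eq_fintype_card, Fintype.card_coe]; exact hD
  haveI := alternatingGroup.isSimpleGroup hcard
  let e : alternatingGroup {x // x ∈ D} ≃* sup' D :=
    (MonoidHom.ofInjective hf).trans (MulEquiv.subgroupCongr hfr)
  haveI : Nontrivial (sup' D) := e.symm.toEquiv.nontrivial
  haveI hsimp : IsSimpleGroup (sup' D) :=
    IsSimpleGroup.isSimpleGroup_of_surjective e.toMonoidHom e.surjective
  obtain ⟨a, ha, b, hb, c, hc, hab, hac, hbc⟩ : ∃ a ∈ D, ∃ b ∈ D, ∃ c ∈ D, a ≠ b ∧ a ≠ c ∧ b ≠ c := by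
    obtain ⟨a, b, c, ha, hb, hc, h⟩ := Finset.two_lt_card_iff.1 (show 2 < D.card by omega)
    exact ⟨a, ha, b, hb, c, hc, h.1, h.2.1, h.2.2⟩
  obtain ⟨d, hd, hd'⟩ := Finset.exists_mem_notMem_of_card_lt_card (s := ({a, b, c} : Finset (Fin n)))
    (t := D) (lt_of_le_of_lt Finset.card_le_three (by omega))
  simp only [Finset.mem_insert, Finset.mem_singleton, not_or] at hd'
  have hne : ∃ x y : sup' D, x * y ≠ y * x := by
    obtain ⟨u, hu, huv, huc⟩ := exists_cycle ha hb hc hab hac hbc
    obtain ⟨v, hv, hvv, hvc⟩ := exists_cycle hd hb hc hd'.2.1 hd'.2.2 hbc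
    refine ⟨⟨u, hu⟩, ⟨v, hv⟩, fun e' => ?_⟩
    have := congrArg (fun t : sup' D => ((t : alternatingGroup (Fin n)) : Perm (Fin n)) c) e'
    simp only [Subgroup.coe_mul, Perm.mul_apply, huc, hvc] at this
    rw [huv, hvv] at this
    simp only [Perm.mul_apply] at this
    rw [swap_apply_of_ne_of_ne hd'.2.1 hd'.2.2, swap_apply_of_ne_of_ne hd'.1 hd'.2.1,
      swap_apply_of_ne_of_ne hab hac, swap_apply_of_ne_of_ne (Ne.symm hd'.1) hab] at this
    exact hd'.1 this
  obtain ⟨x, y, hxy⟩ := hne
  have hcen : center (sup' D) = ⊥ := (IsSimpleGroup.eq_bot_or_eq_top_of_normal _ inferInstance).resolve_right fun h =>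
    hxy (Subgroup.mem_center_iff.1 (h ▸ mem_top x) y).symm
  refine ⟨Group.isPerfect_def.2 ?_, ?_⟩
  · refine (IsSimpleGroup.eq_bot_or_eq_top_of_normal (commutator (sup' D)) inferInstance).resolve_left fun h => hxy ?_
    have h1 : ⁅x, y⁆ = 1 := by
      rw [← Subgroup.mem_bot, ← h]
      exact Subgroup.commutator_mem_commutator (mem_top x) (mem_top y)
    exact commutatorElement_eq_one_iff_mul_comm.1 h1
  · let e2 := ((QuotientGroup.quotientMulEquivOfEq hcen).trans
      (QuotientGroup.quotientBot (G := sup' D))).symm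
    haveI := e2.symm.toEquiv.nontrivial
    exact IsSimpleGroup.isSimpleGroup_of_surjective e2.toMonoidHom e2.surjective

theorem normalizer_eq_of_centralizer {G : Type*} [Group G] {L C : Subgroup G}
    (h1 : centralizer (L : Set G) = C) (h2 : centralizer (C : Set G) = L) :
    normalizer (L : Set G) = normalizer (C : Set G) := by
  have key : ∀ A B : Subgroup G, centralizer (A : Set G) = B →
      normalizer (A : Set G) ≤ normalizer (B : Set G) := by
    intro A B h g hg
    rw [Subgroup.mem_normalizer_iff] at hg ⊢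
    subst h
    intro x
    constructor
    · intro hx
      refine mem_centralizer_iff.2 fun a ha => ?_
      have h3 := mem_centralizer_iff.1 hx (g⁻¹ * a * g) ((hg _).2 (by simpa [mul_assoc] using ha))
      calc a * (g * x * g⁻¹) = g * (g⁻¹ * a * g * x) * g⁻¹ := by group
        _ = g * (x * (g⁻¹ * a * g)) * g⁻¹ := by rw [h3]
        _ = g * x * g⁻¹ * a := by group
    · intro hx
      refine mem_centralizer_iff.2 fun a ha => ?_
      have h3 := mem_centralizer_iff.1 hx _ ((hg a).1 ha)
      calc a * x = g⁻¹ * (g * a * g⁻¹ * (g * x * g⁻¹)) * g := by group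
        _ = g⁻¹ * (g * x * g⁻¹ * (g * a * g⁻¹)) * g := by rw [h3]
        _ = x * a := by group
  exact le_antisymm (key L C h1) (key C L h2)

/-- For n ≥ 9, the subgroup of the alternating group on Fin n fixing each of the points 0, 1, 2, 3 is a standard subgroup. -/
theorem result (n : ℕ) (h4 : 4 ≤ n) (hn : 9 ≤ n) : Cfsg.IsStandardSubgroup (⨅ i : Fin 4, MulAction.stabilizer ↥(alternatingGroup (Fin n)) (Fin.castLE h4 i : Fin n)) := by
  classical
  set D : Finset (Fin n) := (Finset.univ : Finset (Fin 4)).map (Fin.castLEEmb h4) with hD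
  have hDcard : D.card = 4 := by simp [hD]
  have hDc : Dᶜ.card + 4 = n := by
    rw [← hDcard, Finset.card_compl_add_card, Fintype.card_fin]
  have hL : (⨅ i : Fin 4, MulAction.stabilizer ↥(alternatingGroup (Fin n)) (Fin.castLE h4 i : Fin n)) =
      sup' Dᶜ := by
    ext g
    rw [Subgroup.mem_iInf, mem_sup']
    constructor
    · intro h x hx
      rw [Finset.mem_compl, not_not, hD, Finset.mem_map] at hx
      obtain ⟨i, -, rfl⟩ := hx
      exact h i
    · intro h i
      refine h _ ?_
      rw [Finset.mem_compl, not_not, hD, Finset.mem_map]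
      exact ⟨i, Finset.mem_univ _, rfl⟩
  rw [hL]
  have hCL : Subgroup.centralizer (sup' Dᶜ : Set (alternatingGroup (Fin n))) = sup' D := by
    rw [centralizer_sup' (by omega), compl_compl]
  have hCC : Subgroup.centralizer (sup' D : Set (alternatingGroup (Fin n))) = sup' Dᶜ :=
    centralizer_sup' (by omega)
  refine ⟨isQuasisimple_sup' (by omega), ?_, ?_, ?_⟩
  · rw [hCL]
    refine ⟨?_, fun g hg => ?_⟩
    · obtain ⟨f⟩ : Nonempty (Fin 4 ↪ Fin n) := ⟨Fin.castLEEmb h4⟩
      let e := Fin.castLEEmb h4
      have hmem : ∀ i, e i ∈ D := fun i => Finset.mem_map_of_mem _ (Finset.mem_univ i)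
      have hne : ∀ i j, i ≠ j → e i ≠ e j := fun i j h => e.injective.ne h
      let t : alternatingGroup (Fin n) := ⟨swap (e 0) (e 1) * swap (e 2) (e 3), by
        rw [Perm.mem_alternatingGroup, map_mul, Perm.sign_swap (hne 0 1 (by decide)),
          Perm.sign_swap (hne 2 3 (by decide))]
        rfl⟩
      have htD : t ∈ sup' D := fun x hx => by
        show swap (e 0) (e 1) (swap (e 2) (e 3) x) = x
        have hxe : ∀ i, x ≠ e i := fun i h => hx (h.symm ▸ hmem i)
        rw [swap_apply_of_ne_of_ne (hxe 2) (hxe 3), swap_apply_of_ne_of_ne (hxe 0) (hxe 1)]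
      have ht : orderOf t = 2 := by
        haveI : Fact (Nat.Prime 2) := ⟨Nat.prime_two⟩
        refine orderOf_eq_prime (Subtype.ext ?_) fun h => ?_
        · show (swap (e 0) (e 1) * swap (e 2) (e 3)) ^ 2 = 1
          have hc : Commute (swap (e 0) (e 1)) (swap (e 2) (e 3)) := by
            refine (Perm.disjoint_iff_disjoint_support.2 ?_).commute
            rw [Perm.support_swap (hne 0 1 (by decide)), Perm.support_swap (hne 2 3 (by decide))]
            simp [hne 0 2 (by decide), hne 0 3 (by decide), hne 1 2 (by decide), hne 1 3 (by decide)]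
          rw [hc.mul_pow, pow_two, pow_two, swap_mul_self, swap_mul_self, one_mul]
        · have := congrArg (fun s : alternatingGroup (Fin n) => (s : Perm (Fin n)) (e 2)) h
          simp only [t, Perm.mul_apply, OneMemClass.coe_one, Perm.one_apply, swap_apply_left] at this
          rw [swap_apply_of_ne_of_ne (hne 3 0 (by decide)) (hne 3 1 (by decide))] at this
          exact hne 3 2 (by decide) this
      exact even_iff_two_dvd.2 (ht ▸ Subgroup.orderOf_dvd_natCard _ htD)
    · rw [map_sup']
      set E := D.map (g : Perm (Fin n)).toEmbedding with hE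
      have hDE : D ≠ E := fun h => hg (by
        have h1 : (sup' D).map (MulAut.conj g).toMonoidHom = sup' D := by rw [map_sup', ← hE, ← h]
        exact Subgroup.mem_normalizer_iff.2 fun x => by
          constructor
          · intro hx
            rw [← h1]
            exact ⟨x, hx, rfl⟩
          · intro hx
            rw [← h1] at hx
            obtain ⟨y, hy, hyx⟩ := hx
            rwa [← (MulAut.conj g).injective hyx])
      have hcard : (D ∩ E).card ≤ 3 := by
        by_contra hlt
        have h1 : D ∩ E = D := Finset.eq_of_subset_of_card_le Finset.inter_subset_left (by omega)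
        exact hDE (Finset.eq_of_subset_of_card_le (Finset.inter_eq_left.1 h1) (by rw [hE, Finset.card_map]))
      have h3 : IsPGroup 3 ↥(sup' D ⊓ sup' E) := fun x => by
        refine ⟨1, Subtype.ext (Subtype.ext ?_)⟩
        set σ : Perm (Fin n) := ((x : alternatingGroup (Fin n)) : Perm (Fin n)) with hσ
        have hs : σ.support.card ≤ 3 := (Finset.card_le_card fun y hy => by
          rw [Perm.mem_support] at hy
          exact Finset.mem_inter.2 ⟨by_contra fun h => hy (x.2.1 y h), by_contra fun h => hy (x.2.2 y h)⟩).trans hcard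
        show σ ^ (3 ^ 1) = 1
        interval_cases hc : σ.support.card
        · rw [Finset.card_eq_zero, Perm.support_eq_empty_iff] at hc
          rw [hc, one_pow]
        · exact absurd hc (Perm.card_support_ne_one σ)
        · have := Perm.mem_alternatingGroup.1 (x : alternatingGroup (Fin n)).2
          rw [← hσ, (Perm.card_support_eq_two.1 hc).sign_eq] at this
          exact absurd this (by decide)
        · rw [pow_one, ← (card_support_eq_three_iff.1 hc).orderOf, pow_orderOf_eq_one]
      haveI : Fact (Nat.Prime 3) := ⟨Nat.prime_three⟩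
      obtain ⟨k, hk⟩ := IsPGroup.iff_card.1 h3
      rw [hk]
      exact Odd.pow (by decide)
  · intro g _ hbot
    have h1 : (sup' Dᶜ).map (MulAut.conj g).toMonoidHom ≤ sup' D := by
      rw [← hCL, ← Subgroup.commutator_eq_bot_iff_le_centralizer, Subgroup.commutator_comm]
      exact hbot
    rw [map_sup'] at h1
    have := Finset.card_le_card (sup'_injective (by rw [Finset.card_map]; omega) h1)
    rw [Finset.card_map] at this
    omega
  · rw [hCL]
    exact normalizer_eq_of_centralizer hCL hCC

end Cfsg.Agent.S1323
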