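import Cfsg.Statements.S1324
import Cfsg.Agent.Coprime.Generation
import Cfsg.Agent.Coprime.Hall
-- import your own Cfsg.Agent.* helpers here

set_option autoImplicit false
open Cfsg

namespace Cfsg.Agent.S1324

/-- Let A be a noncyclic elementary abelian p-subgroup of a finite group H normalizing a subgroup X of order prime to p. Then X is generated by the subgroups X ∩ C_H(B), B ranging over the subgroups of A of index at most p. -/
theorem result {H : Type*} [Group H] [Finite H] (p : ℕ) [Fact p.Prime] (A X : Subgroup H) (hA : Cfsg.IsElementaryAbelian p A) (hA2 : p ^ 2 ≤ Nat.card ↥A) (hX : ¬ p ∣ Nat.card ↥X) (hAX : A ≤ Subgroup.normalizer (X : Set H)) : X = ⨆ B : {B : Subgroup H // B ≤ A ∧ B.relIndex A ≤ p}, X ⊓ Subgroup.centralizer ((B : Subgroup H) : Set H) := by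
  have := hA.1
  have hp : p.Prime := Fact.out
  have hAp : IsPGroup p A := fun a => ⟨1, Subtype.ext (by simpa using hA.2 a a.2)⟩
  obtain ⟨n, hn⟩ := IsPGroup.iff_card.mp hAp
  have hcop : (Nat.card A).Coprime (Nat.card X) := by
    rw [hn]; exact Nat.Coprime.pow_left n (hp.coprime_iff_not_dvd.mpr hX)
  refine le_antisymm ?_ (iSup_le fun B => inf_le_left)
  conv_lhs => rw [← Coprime.iSup_cocyclic_centralizer_eq hAX hcop]
  refine iSup₂_le fun B hB => ?_
  obtain ⟨hBA, a, ha, hBa⟩ := hB
  have hidx : B.relIndex A ≤ p := by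
    have hnorm : Subgroup.zpowers a ≤ Subgroup.normalizer (B : Set H) := by
      rw [Subgroup.zpowers_le]
      refine Subgroup.centralizer_le_normalizer _ (Subgroup.mem_centralizer_iff.mpr fun y hy => ?_)
      exact congrArg Subtype.val (IsMulCommutative.is_comm.comm (⟨y, hBA hy⟩ : A) ⟨a, ha⟩)
    have hz : Nat.card (Subgroup.zpowers a) ≤ p := by
      rw [Nat.card_zpowers]
      exact orderOf_le_of_pow_eq_one hp.pos (hA.2 a ha)
    have hle : Nat.card A ≤ Nat.card B * p := by
      refine le_trans ?_ (Nat.mul_le_mul_left _ hz)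
      rw [← hBa, ← Nat.card_prod]
      refine Nat.card_le_card_of_surjective
        (fun q : B × Subgroup.zpowers a => (⟨(q.1 : H) * q.2, Subgroup.mul_mem_sup q.1.2 q.2.2⟩ :
          (B ⊔ Subgroup.zpowers a : Subgroup H))) fun x => ?_
      obtain ⟨b, hb, c, hc, h⟩ := (Coprime.mem_sup_of_le_normalizer hnorm).mp x.2
      exact ⟨(⟨b, hb⟩, ⟨c, hc⟩), Subtype.ext h⟩
    have hmul : Nat.card B * B.relIndex A = Nat.card A := Coprime.card_mul_relIndex_of_le hBA
    rw [← hmul] at hle
    exact Nat.le_of_mul_le_mul_left hle Nat.card_pos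
  exact le_iSup_of_le (⟨B, hBA, hidx⟩ : {B : Subgroup H // B ≤ A ∧ B.relIndex A ≤ p}) le_rfl

end Cfsg.Agent.S1324
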