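import Cfsg.Statements.S1328
import Cfsg.Agent.Layer.LBalance
import Cfsg.Agent.AbCentFpf.Chief

set_option autoImplicit false
set_option linter.style.haveILetI false
open Cfsg

namespace Cfsg.Agent.S1328

/-- Let G be finite, H ≤ G with O(H) = 1, t an involution of G normalizing H, and Y a nontrivial subgroup of O(C_H(t)). Then some component E of H is normalized by t and by Y and centralized by neither t nor Y. -/
theorem result {G : Type*} [Group G] [Finite G] (H : Subgroup G) (hO : Cfsg.oddCore ↥H = ⊥) (t : G) (ht : orderOf t = 2) (htH : t ∈ Subgroup.normalizer (H : Set G)) (Y : Subgroup G) (hY1 : Y ≠ ⊥) (hY : Y ≤ (Cfsg.oddCore ↥(H ⊓ Subgroup.centralizer ({t} : Set G))).map (H ⊓ Subgroup.centralizer ({t} : Set G)).subtype) : ∃ E : Subgroup ↥H, Cfsg.IsComponent E ∧ (E.map H.subtype).map (MulAut.conj t).toMonoidHom = E.map H.subtype ∧ Y ≤ Subgroup.normalizer ((E.map H.subtype : Subgroup G) : Set G) ∧ ¬ (t ∈ Subgroup.centralizer ((E.map H.subtype : Subgroup G) : Set G))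 ∧ ¬ (Y ≤ Subgroup.centralizer ((E.map H.subtype : Subgroup G) : Set G)) := by
  classical
  haveI : Fact (Nat.Prime 2) := ⟨Nat.prime_two⟩
  set M := H ⊔ Subgroup.zpowers t with hM
  set H' : Subgroup ↥M := H.subgroupOf M with hH'
  have hHM : H ≤ M := le_sup_left
  have htM : t ∈ M := Subgroup.mem_sup_right (Subgroup.mem_zpowers t)
  have hMN : M ≤ Subgroup.normalizer (H : Set G) := sup_le Subgroup.le_normalizer (Subgroup.zpowers_le.mpr htH)
  haveI hHn : H'.Normal := (Subgroup.normal_subgroupOf_iff_le_normalizer hHM).mpr hMN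
  have hOH : Cfsg.oddCore ↥H' = ⊥ := by
    rw [eq_bot_iff, ← Subgroup.map_le_map_iff_of_injective (f := (Subgroup.subgroupOfEquivOfLe hHM).toMonoidHom)
      (Subgroup.subgroupOfEquivOfLe hHM).injective, Subgroup.map_bot,
      Cfsg.Agent.Core.map_pPrimeCore, ← hO]
  have hOM : Cfsg.pPrimeCore 2 ↥M = ⊥ := by
    have h1 : Cfsg.pPrimeCore 2 ↥M ⊓ H' = ⊥ := by
      rw [inf_comm, ← le_bot_iff]
      refine (Cfsg.Agent.Layer.inf_pPrimeCore_le_pPrimeCore H').trans ?_
      show (Cfsg.oddCore ↥H').map H'.subtype ≤ ⊥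
      rw [hOH, Subgroup.map_bot]
    set q := QuotientGroup.mk' H' with hq
    have hsup : H' ⊔ Subgroup.zpowers (⟨t, htM⟩ : ↥M) = ⊤ := by
      rw [eq_top_iff]
      intro m _
      have hm : (m : G) ∈ (H' ⊔ Subgroup.zpowers (⟨t, htM⟩ : ↥M)).map M.subtype := by
        rw [Subgroup.map_sup, MonoidHom.map_zpowers, hH', Subgroup.map_subgroupOf_eq_of_le hHM]
        exact m.2
      obtain ⟨m', hm', e⟩ := hm
      rwa [← Subtype.ext e]
    rw [eq_bot_iff]
    intro z hz
    have hzq : q z ∈ (H' ⊔ Subgroup.zpowers (⟨t, htM⟩ : ↥M)).map q :=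
      Subgroup.mem_map_of_mem q (hsup.ge (Subgroup.mem_top z))
    rw [Subgroup.map_sup, hq, QuotientGroup.map_mk'_self, bot_sup_eq, MonoidHom.map_zpowers] at hzq
    obtain ⟨i, hi⟩ := Subgroup.mem_zpowers_iff.mp hzq
    have ht2 : (⟨t, htM⟩ : ↥M) ^ 2 = 1 := Subtype.ext (by simp [← ht, pow_orderOf_eq_one])
    have hz2 : q z ^ 2 = 1 := by
      rw [hq, ← hi, ← zpow_natCast, ← zpow_mul, mul_comm, zpow_mul, zpow_natCast, ← map_pow, ht2, map_one, one_zpow]
    have hzo : (orderOf (q z)).Coprime 2 := Cfsg.Agent.Core.coprime_card_pPrimeCore.coprime_dvd_left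
      ((orderOf_map_dvd q z).trans (Subgroup.orderOf_dvd_natCard _ hz))
    have hz1 : q z = 1 := orderOf_eq_one_iff.mp
      (Nat.eq_one_of_dvd_coprimes hzo dvd_rfl (orderOf_dvd_of_pow_eq_one hz2))
    exact h1.le ⟨hz, (QuotientGroup.eq_one_iff z).mp hz1⟩
  set tm : ↥M := ⟨t, htM⟩ with htm
  have htmo : orderOf tm = 2 := by rw [htm, Subgroup.orderOf_mk]; exact ht
  set R := Subgroup.zpowers tm with hR
  have hRp : IsPGroup 2 ↥R := IsPGroup.of_card (n := 1) (by rw [hR, Nat.card_zpowers, htmo, pow_one])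
  have hYM : ∀ w ∈ Y, w ∈ H := fun w hw => (Subgroup.map_subtype_le _ (hY hw)).1
  have hYc : ∀ (w : G) (hw : w ∈ Y), (⟨w, hHM (hYM w hw)⟩ : ↥M) ∈ Cfsg.Agent.Layer.cCore 2 R := by
    intro w hw
    set S := H ⊓ Subgroup.centralizer ({t} : Set G) with hS
    set D := ((Cfsg.oddCore ↥S).map S.subtype).subgroupOf M with hD
    refine (Cfsg.Agent.Layer.le_cCore ?_ ?_ ?_ : D ≤ Cfsg.Agent.Layer.cCore 2 R) (hY hw)
    · intro d hd
      rw [hR, Subgroup.zpowers_eq_closure, Subgroup.centralizer_closure, Subgroup.mem_centralizer_singleton_iff]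
      exact Subtype.ext (Subgroup.mem_centralizer_singleton_iff.mp (Subgroup.map_subtype_le _ hd).2)
    · intro c hc
      rw [hR, Subgroup.zpowers_eq_closure, Subgroup.centralizer_closure,
        Subgroup.mem_centralizer_singleton_iff] at hc
      have hcS : (c : G) ∈ Subgroup.normalizer (S : Set G) :=
        Cfsg.Agent.Layer.le_normalizer_inf (H := M ⊓ Subgroup.centralizer ({t} : Set G))
          (inf_le_left.trans hMN) (inf_le_right.trans Subgroup.le_normalizer)
          ⟨c.2, Subgroup.mem_centralizer_singleton_iff.mpr (congrArg Subtype.val hc)⟩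
      have h3 := Cfsg.Agent.AbCentFpf.normalizer_le_map_char (Cfsg.oddCore ↥S) hcS
      refine Cfsg.Agent.Layer.mem_normalizer_of_conj_mem fun d hd => ?_
      exact (Subgroup.mem_normalizer_iff.mp h3 _).mp hd
    · rw [← Subgroup.card_map_of_injective M.subtype_injective, hD, Subgroup.subgroupOf_map_subtype]
      refine Nat.Coprime.coprime_dvd_left (Subgroup.card_dvd_of_le inf_le_left) ?_
      rw [Subgroup.card_map_of_injective S.subtype_injective]
      exact Cfsg.Agent.Core.coprime_card_pPrimeCore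
  -- some component is not centralised by `Y`
  obtain ⟨K, hK, w, hw, hwK⟩ : ∃ K : Subgroup ↥M, Cfsg.IsComponent K ∧ ∃ (w : G) (hw : w ∈ Y),
      (⟨w, hHM (hYM w hw)⟩ : ↥M) ∉ Subgroup.centralizer (K : Set ↥M) := by
    by_contra hall
    push Not at hall
    apply hY1
    rw [eq_bot_iff]
    intro w hw
    have h := Cfsg.Agent.Layer.eq_one_of_pCore_of_coprime (Cfsg.Agent.Layer.mem_pCore_of_centralizes hOM
      (fun K hK => hall K hK w hw) (Cfsg.Agent.Layer.cCore_le_centralizer_pCore hRp (hYc w hw)))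
      ((Cfsg.Agent.Layer.coprime_card_cCore R).coprime_dvd_left (Subgroup.orderOf_dvd_natCard _ (hYc w hw)))
    exact congrArg Subtype.val h
  have hKH : K ≤ H' := by
    refine (Cfsg.Agent.Layer.component_le_or_commute hK hHn.isSubnormal).resolve_right fun hc => hwK ?_
    exact Subgroup.mem_centralizer_iff.mpr fun k hk =>
      Cfsg.Agent.Layer.commute_of_commutator_eq_bot hc hk (hYM w hw)
  have hmove : K.map (MulAut.conj tm).toMonoidHom = K := by
    by_contra hne
    exact hwK (Cfsg.Agent.Layer.cCore_centralizes_of_moved hOM htmo hK hne (hYc w hw))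
  set E : Subgroup ↥H := (K.map M.subtype).subgroupOf H with hE
  have hKG : K.map M.subtype ≤ H := by
    rintro _ ⟨k, hk, rfl⟩
    exact hKH hk
  have hEmap : E.map H.subtype = K.map M.subtype := Subgroup.map_subgroupOf_eq_of_le hKG
  have hEsn : E.IsSubnormal := by
    have h := hK.1.comap (Subgroup.inclusion hHM)
    convert h using 1
    ext z
    exact ⟨fun ⟨k, hk, e⟩ => show Subgroup.inclusion hHM z ∈ K from
      (show Subgroup.inclusion hHM z = k from Subtype.ext e.symm) ▸ hk,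
      fun hz => ⟨_, hz, rfl⟩⟩
  refine ⟨E, ⟨hEsn, Cfsg.Agent.Layer.isQuasisimple_congr
    ((Subgroup.equivMapOfInjective K _ M.subtype_injective).trans (Subgroup.subgroupOfEquivOfLe hKG).symm) hK.2⟩,
    ?_, ?_, ?_, ?_⟩
  · rw [hEmap]
    conv_rhs => rw [← hmove]
    rw [Subgroup.map_map, Subgroup.map_map]
    rfl
  · rw [hEmap]
    intro v hv
    exact Subgroup.le_normalizer_map M.subtype
      ⟨_, Cfsg.Agent.Layer.cCore_le_normalizer_component hOM hRp hK (hYc v hv), rfl⟩
  · rw [hEmap]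
    intro htc
    refine hwK (Cfsg.Agent.Layer.cCore_centralizes_of_centralized hOM hRp hK ?_ (hYc w hw))
    rw [Subgroup.le_centralizer_iff, hR, Subgroup.zpowers_le]
    exact Subgroup.mem_centralizer_iff.mpr fun k hk => Subtype.ext
      (Subgroup.mem_centralizer_iff.mp htc _ (Subgroup.mem_map_of_mem M.subtype hk))
  · rw [hEmap]
    intro hYK
    exact hwK (Subgroup.mem_centralizer_iff.mpr fun k hk => Subtype.ext
      (Subgroup.mem_centralizer_iff.mp (hYK hw) _ (Subgroup.mem_map_of_mem M.subtype hk)))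

end Cfsg.Agent.S1328
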