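import Cfsg.Statements.S1336
import Cfsg.Agent.Embedded.RankCore

set_option autoImplicit false
open Cfsg

namespace Cfsg.Agent.S1336

open Subgroup

variable {G : Type*} [Group G]

/-- A vertex of the commuting graph. -/
def Vtx (p : ℕ) (A : Subgroup G) : Prop := IsElementaryAbelian p A ∧ p ^ 1 ≤ Nat.card A

/-- An edge of the commuting graph. -/
def Adj (p : ℕ) (A B : Subgroup G) : Prop :=
  IsElementaryAbelian p A ∧ p ^ 1 ≤ Nat.card ↥A ∧ IsElementaryAbelian p B ∧
    p ^ 1 ≤ Nat.card ↥B ∧ ∀ a ∈ A, ∀ b ∈ B, a * b = b * a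

theorem adj_symm {p : ℕ} {A B : Subgroup G} (h : Adj p A B) : Adj p B A :=
  ⟨h.2.2.1, h.2.2.2.1, h.1, h.2.1, fun a ha b hb => (h.2.2.2.2 b hb a ha).symm⟩

theorem vtx_map {p : ℕ} (g : G) {A : Subgroup G} (h : Vtx p A) :
    Vtx p (A.map (MulAut.conj g).toMonoidHom) := by
  refine ⟨⟨⟨⟨?_⟩⟩, ?_⟩, by rw [card_map_of_injective (f := (MulAut.conj g).toMonoidHom) (MulAut.conj g).injective]; exact h.2⟩
  · rintro ⟨_, a, ha, rfl⟩ ⟨_, b, hb, rfl⟩
    refine Subtype.ext ?_
    show (MulAut.conj g) a * (MulAut.conj g) b = (MulAut.conj g) b * (MulAut.conj g) a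
    rw [← map_mul, ← map_mul]
    exact congrArg _ (congrArg Subtype.val (h.1.1.is_comm.comm ⟨a, ha⟩ ⟨b, hb⟩))
  · rintro _ ⟨a, ha, rfl⟩
    rw [← map_pow, h.1.2 a ha, map_one]

/-- Joined by a chain in the commuting graph. -/
abbrev Reach (p : ℕ) (A B : Subgroup G) : Prop := Relation.ReflTransGen (Adj p) A B

theorem reach_map {p : ℕ} (g : G) {A B : Subgroup G} (h : Reach p A B) :
    Reach p (A.map (MulAut.conj g).toMonoidHom) (B.map (MulAut.conj g).toMonoidHom) := by
  induction h with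
  | refl => exact Relation.ReflTransGen.refl
  | tail _ hbc ih =>
    refine ih.tail ⟨(vtx_map g ⟨hbc.1, hbc.2.1⟩).1, (vtx_map g ⟨hbc.1, hbc.2.1⟩).2,
      (vtx_map g ⟨hbc.2.2.1, hbc.2.2.2.1⟩).1, (vtx_map g ⟨hbc.2.2.1, hbc.2.2.2.1⟩).2, ?_⟩
    rintro _ ⟨a, ha, rfl⟩ _ ⟨b, hb, rfl⟩
    rw [← map_mul, ← map_mul, hbc.2.2.2.2 a ha b hb]

theorem reach_symm {p : ℕ} {A B : Subgroup G} (h : Reach p A B) : Reach p B A := by
  induction h with
  | refl => exact Relation.ReflTransGen.refl
  | tail _ hbc ih => exact (Relation.ReflTransGen.single (adj_symm hbc)).trans ih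

theorem vtx_zpowers {p : ℕ} {x : G} (hx : orderOf x = p) : Vtx p (zpowers x) := by
  refine ⟨⟨inferInstance, fun a ha => ?_⟩, by rw [Nat.card_zpowers, hx, pow_one]⟩
  obtain ⟨k, rfl⟩ := ha
  rw [← zpow_natCast, ← zpow_mul, mul_comm, zpow_mul, zpow_natCast, ← hx, pow_orderOf_eq_one,
    one_zpow]

theorem exists_order_p [Finite G] {p : ℕ} [hp : Fact p.Prime] {A : Subgroup G} (h : Vtx p A) :
    ∃ a ∈ A, orderOf a = p := by
  obtain ⟨a, ha, ha1⟩ := (bot_or_exists_ne_one A).resolve_left (by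
    intro e; have := h.2; rw [e, card_bot, pow_one] at this; exact absurd this (by have := hp.out.one_lt; omega))
  exact ⟨a, ha, orderOf_eq_prime (h.1.2 a ha) ha1⟩

theorem map_conj_conj (g h : G) (A : Subgroup G) :
    (A.map (MulAut.conj h).toMonoidHom).map (MulAut.conj g).toMonoidHom
      = A.map (MulAut.conj (g * h)).toMonoidHom := by
  rw [map_map]
  congr 1
  ext x
  simp [mul_assoc]

theorem map_conj_one (A : Subgroup G) : A.map (MulAut.conj (1 : G)).toMonoidHom = A := by
  convert Subgroup.map_id A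
  ext x
  simp

/-- Two vertices in one `p`-subgroup are joined. -/
theorem reach_of_pgroup [Finite G] {p : ℕ} [hp : Fact p.Prime] {T A B : Subgroup G}
    (hT : IsPGroup p T) (hA : Vtx p A) (hAT : A ≤ T) (hB : Vtx p B) (hBT : B ≤ T) :
    Reach p A B := by
  obtain ⟨a, ha, hao⟩ := exists_order_p hA
  have : Nontrivial T :=
    ⟨⟨⟨a, hAT ha⟩, 1, fun e => hp.out.ne_one (hao ▸ orderOf_eq_one_iff.mpr (congrArg Subtype.val e))⟩⟩
  have := hT.center_nontrivial
  obtain ⟨n, hn⟩ := IsPGroup.iff_card.mp (hT.to_subgroup (center T))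
  have hn0 : n ≠ 0 := fun e => by
    have := Finite.one_lt_card (α := center T)
    rw [hn, e, pow_zero] at this
    omega
  obtain ⟨z, hz⟩ := exists_prime_orderOf_dvd_card' (G := center T) p (hn ▸ dvd_pow_self p hn0)
  have hZ : Vtx p (zpowers ((z : T) : G)) := vtx_zpowers (by rw [orderOf_coe, orderOf_coe, hz])
  have key : ∀ C : Subgroup G, Vtx p C → C ≤ T → Adj p C (zpowers ((z : T) : G)) := by
    intro C hC hCT
    refine ⟨hC.1, hC.2, hZ.1, hZ.2, fun c hc b hb => ?_⟩
    obtain ⟨k, rfl⟩ := hb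
    refine Commute.zpow_right ?_ k
    exact congrArg Subtype.val (mem_center_iff.mp z.2 (⟨c, hCT hc⟩ : T))
  exact (Relation.ReflTransGen.single (key A hA hAT)).tail (adj_symm (key B hB hBT))

/-- Let G be finite and p prime. Then G has a proper subgroup H with p ∣ |H| and p ∤ |H ∩ gHg⁻¹| for every g ∉ H (a strongly p-embedded subgroup) if and only if G is not 1-connected for p. -/
theorem result {G : Type*} [Group G] [Finite G] (p : ℕ) [Fact p.Prime] : (∃ H : Subgroup G, H ≠ ⊤ ∧ p ∣ Nat.card ↥H ∧ ∀ g : G, g ∉ H → ¬ p ∣ Nat.card ↥(H ⊓ H.map (MulAut.conj g).toMonoidHom)) ↔ ¬ Cfsg.IsKConnected p 1 G := by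
  constructor
  · rintro ⟨H, hH, hpH, hemb⟩ hconn
    obtain ⟨g, _, hg⟩ := SetLike.exists_of_lt (lt_top_iff_ne_top.mpr hH)
    have hmeet : ∀ a ∈ H, orderOf a = p → ∀ b : G, b⁻¹ * a * b ∈ H → b ∈ H := by
      intro a ha hao b hab
      by_contra hb
      have hm : a ∈ H ⊓ H.map (MulAut.conj b).toMonoidHom := ⟨ha, _, hab, by simp [mul_assoc]⟩
      have := orderOf_dvd_natCard (⟨a, hm⟩ : ↥(H ⊓ H.map (MulAut.conj b).toMonoidHom))
      rw [orderOf_mk, hao] at this
      exact hemb b hb this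
    -- every vertex of the graph lies in `H`
    have hall : ∀ A B : Subgroup G, Reach p A B → A ≤ H → B ≤ H := by
      intro A B h hA
      induction h with
      | refl => exact hA
      | tail _ hbc ih =>
        intro c hc
        obtain ⟨b, hb, hbo⟩ := exists_order_p ⟨hbc.1, hbc.2.1⟩
        refine hmeet b (ih hb) hbo c ?_
        rw [mul_assoc, hbc.2.2.2.2 b hb c hc, inv_mul_cancel_left]
        exact ih hb
    obtain ⟨x, hx⟩ := exists_prime_orderOf_dvd_card' (G := H) p hpH
    rw [← orderOf_coe] at hx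
    have hxH : zpowers (x : G) ≤ H := zpowers_le_of_mem x.2
    have hy : orderOf (g⁻¹ * (x : G) * g) = p := by
      rw [show g⁻¹ * (x : G) * g = (MulAut.conj g⁻¹) (x : G) by simp, MulEquiv.orderOf_eq, hx]
    have h1 := hall _ _ (hconn _ _ (vtx_zpowers hx).1 (vtx_zpowers hx).2 (vtx_zpowers hy).1
      (vtx_zpowers hy).2) hxH
    exact hg (hmeet x x.2 hx g (h1 (mem_zpowers _)))
  · intro hnc
    simp only [IsKConnected, not_forall] at hnc
    obtain ⟨E, E', hE1, hE2, hE'1, hE'2, hne⟩ := hnc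
    have hE : Vtx p E := ⟨hE1, hE2⟩
    have hE' : Vtx p E' := ⟨hE'1, hE'2⟩
    let conjE : G → Subgroup G := fun g => E.map (MulAut.conj g).toMonoidHom
    -- the stabilizer of the component of `E`
    let H : Subgroup G :=
      { carrier := {g | Reach p E (conjE g)}
        mul_mem' := fun {a b} ha hb => by
          refine Relation.ReflTransGen.trans ha ?_
          have := reach_map a hb
          simpa only [conjE, map_conj_conj] using this
        one_mem' := by
          show Reach p E (conjE 1)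
          simp only [conjE, map_conj_one]
          exact Relation.ReflTransGen.refl
        inv_mem' := fun {a} ha => by
          have := reach_symm (reach_map a⁻¹ ha)
          simpa only [Set.mem_setOf_eq, conjE, map_conj_conj, inv_mul_cancel, map_conj_one] using this }
    have hmemH : ∀ g, g ∈ H ↔ Reach p E (conjE g) := fun g => Iff.rfl
    have hEp : IsPGroup p E := fun a => ⟨1, Subtype.ext (by simpa using hE1.2 a a.2)⟩
    have hEH : E ≤ H := by
      intro e he
      rw [hmemH]
      exact reach_of_pgroup hEp hE le_rfl (vtx_map e hE)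
        (by rintro _ ⟨a, ha, rfl⟩; simpa using E.mul_mem (E.mul_mem he ha) (E.inv_mem he))
    -- the Sylow subgroups above `E` are Sylow subgroups of `H`
    obtain ⟨S, hES⟩ := hEp.exists_le_sylow
    have hSH : (S : Subgroup G) ≤ H := by
      intro s hs
      rw [hmemH]
      exact reach_of_pgroup S.2 hE hES (vtx_map s hE)
        (by rintro _ ⟨a, ha, rfl⟩; simpa using mul_mem (mul_mem hs (hES ha)) (inv_mem hs))
    have key : ∀ x ∈ H, orderOf x = p → Reach p E (zpowers x) := by
      intro x hx hxo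
      have hxp : IsPGroup p (zpowers x) := fun a =>
        ⟨1, Subtype.ext (by simpa using (vtx_zpowers hxo).1.2 a a.2)⟩
      obtain ⟨h, hh, hle⟩ := Embedded.exists_conj_le_sylow (S.subtype hSH)
        (zpowers_le_of_mem hx) hxp
      have h1 : Reach p E ((zpowers x).map (MulAut.conj h).toMonoidHom) :=
        reach_of_pgroup S.2 hE hES (vtx_map h (vtx_zpowers hxo)) <| hle.trans <| by
          rintro _ ⟨s, hs, rfl⟩
          exact hs
      have h2 := (hmemH h⁻¹).mp (H.inv_mem hh)
      refine h2.trans ?_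
      have := reach_map h⁻¹ h1
      simpa only [conjE, map_conj_conj, inv_mul_cancel, map_conj_one] using this
    refine ⟨H, fun htop => hne ?_, ?_, fun g hg hdvd => ?_⟩
    · obtain ⟨S', hS'⟩ := (show IsPGroup p E' from
        fun a => ⟨1, Subtype.ext (by simpa using hE'1.2 a a.2)⟩).exists_le_sylow
      obtain ⟨c, hc⟩ := MulAction.exists_smul_eq G S S'
      refine ((hmemH c).mp (htop ▸ mem_top c)).trans (reach_of_pgroup S'.2 (vtx_map c hE) ?_ hE' hS')
      rw [← hc]
      exact map_mono hES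
    · obtain ⟨e, he, heo⟩ := exists_order_p hE
      have := orderOf_dvd_natCard (⟨e, hEH he⟩ : H)
      rwa [orderOf_mk, heo] at this
    · obtain ⟨x, hx⟩ := exists_prime_orderOf_dvd_card'
        (G := ↥(H ⊓ H.map (MulAut.conj g).toMonoidHom)) p hdvd
      rw [← orderOf_coe] at hx
      obtain ⟨y, hy, hyx⟩ := x.2.2
      have hyo : orderOf y = p := by
        rw [← hx, ← hyx]
        exact ((MulAut.conj g).orderOf_eq y).symm
      refine hg ((hmemH g).mpr ?_)
      have h1 := reach_map g (key y hy hyo)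
      rw [MonoidHom.map_zpowers, hyx] at h1
      exact (key _ x.2.1 hx).trans (reach_symm h1)

end Cfsg.Agent.S1336
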