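import Cfsg.Statements.S1337
import Cfsg.Agent.Fusion.RankTwo
import Cfsg.Agent.Invol.NormalFour

set_option autoImplicit false
open Cfsg

namespace Cfsg.Agent.S1337

open Subgroup

theorem card_le_centralizing {P : Type*} [Group P] [Finite P] {p : ℕ} [Fact p.Prime]
    (hP : IsPGroup p P) {U : Subgroup P} [U.Normal] (hUe : Cfsg.IsElementaryAbelian p U)
    (hU : Nat.card U = p ^ 2) (E : Subgroup P) :
    Nat.card E ≤ Nat.card (E ⊓ centralizer (U : Set P) : Subgroup P) * p := by
  classical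
  have hpp : p.Prime := Fact.out
  have hsq : p < p ^ 2 := lt_self_pow₀ hpp.one_lt one_lt_two
  have hU1 : U ≠ ⊥ := fun e => by
    rw [e, card_bot] at hU
    have := hpp.one_lt
    omega
  obtain ⟨⟨z, hzU, hzc⟩, hz1⟩ : ∃ z : (U ⊓ center P : Subgroup P), (z : P) ≠ 1 := by
    obtain ⟨z, hz, hz1⟩ := (bot_or_exists_ne_one _).resolve_left (Fusion.pGroup_inf_center_ne_bot hP U hU1)
    exact ⟨⟨z, hz⟩, hz1⟩
  obtain ⟨u, huU, huz⟩ : ∃ u ∈ U, u ∉ zpowers z := by
    by_contra hc
    push Not at hc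
    have h := Subgroup.card_le_of_le (show U ≤ zpowers z from hc)
    rw [Nat.card_zpowers, orderOf_eq_prime (hUe.2 z hzU) hz1, hU] at h
    omega
  set C := centralizer ({u} : Set P) with hC
  have hCU : C ≤ centralizer (U : Set P) := by
    intro g hg
    have hgz : z * g = g * z := (mem_center_iff.mp hzc g).symm
    set K := U ⊓ centralizer ({g} : Set P) with hK
    have hzK : z ∈ K := ⟨hzU, mem_centralizer_singleton_iff.mpr hgz⟩
    have huK : u ∈ K := ⟨huU, mem_centralizer_singleton_iff.mpr (mem_centralizer_singleton_iff.mp hg).symm⟩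
    have hlt : zpowers z < K := lt_of_le_of_ne (zpowers_le.mpr hzK) fun e => huz (e ▸ huK)
    obtain ⟨k, hk, hKc⟩ := (Nat.dvd_prime_pow hpp).mp (hU ▸ card_dvd_of_le (inf_le_left : K ≤ U))
    have hzcard : Nat.card (zpowers z) = p := by
      rw [Nat.card_zpowers, orderOf_eq_prime (hUe.2 z hzU) hz1]
    have hlt' : Nat.card (zpowers z) < Nat.card K := by
      refine lt_of_le_of_ne (card_le_of_le hlt.le) fun e => hlt.ne (eq_of_le_of_card_ge hlt.le e.ge)
    rw [hzcard, hKc] at hlt'
    have hk2 : k = 2 := by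
      rcases k with _ | _ | k
      · rw [pow_zero] at hlt'; have := hpp.one_lt; omega
      · simp at hlt'
      · omega
    have hKU : K = U := eq_of_le_of_card_ge inf_le_left (by rw [hU, hKc, hk2])
    refine mem_centralizer_iff.mpr fun v hv => ?_
    have : v ∈ K := hKU.symm ▸ hv
    exact mem_centralizer_singleton_iff.mp this.2
  have hidx : C.index < p ^ 2 := by
    rw [← hU, index_eq_card]
    let f : P ⧸ C → U := Quotient.lift (fun g : P => (⟨g * u * g⁻¹, ‹U.Normal›.conj_mem u huU g⟩ : U))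
      (fun a b hab => Subtype.ext (by
        have h := mem_centralizer_singleton_iff.mp (QuotientGroup.leftRel_apply.mp hab)
        show a * u * a⁻¹ = b * u * b⁻¹
        calc a * u * a⁻¹ = a * (u * (a⁻¹ * b)) * b⁻¹ := by group
          _ = a * (a⁻¹ * b * u) * b⁻¹ := by rw [h]
          _ = b * u * b⁻¹ := by group))
    haveI := Fintype.ofFinite (P ⧸ C)
    haveI := Fintype.ofFinite U
    rw [Nat.card_eq_fintype_card, Nat.card_eq_fintype_card]
    refine Fintype.card_lt_of_injective_of_notMem f ?_ (b := (1 : U)) ?_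
    · intro a b
      induction a using QuotientGroup.induction_on with | H a => ?_
      induction b using QuotientGroup.induction_on with | H b => ?_
      intro hab
      rw [QuotientGroup.eq]
      refine mem_centralizer_singleton_iff.mpr ?_
      have h : a * u * a⁻¹ = b * u * b⁻¹ := congrArg Subtype.val hab
      calc a⁻¹ * b * u = a⁻¹ * (b * u * b⁻¹) * b := by group
        _ = u * (a⁻¹ * b) := by rw [← h]; group
    · rintro ⟨a, ha⟩
      induction a using QuotientGroup.induction_on with | H a => ?_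
      have h : a * u * a⁻¹ = 1 := congrArg Subtype.val ha
      apply huz
      rw [show u = 1 from by simpa using h]
      exact one_mem _
  have hidx' : C.index ≤ p := by
    obtain ⟨k, hk⟩ := hP.index C
    rw [hk] at hidx ⊢
    have := (Nat.pow_lt_pow_iff_right hpp.one_lt).mp hidx
    calc p ^ k ≤ p ^ 1 := Nat.pow_le_pow_right hpp.pos (by omega)
      _ = p := pow_one p
  calc Nat.card E = Nat.card (E ⊓ C : Subgroup P) * C.relIndex E := by
        rw [← inf_relIndex_right, relIndex, ← (((C ⊓ E)).subgroupOf E).card_mul_index,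
          Nat.card_congr (subgroupOfEquivOfLe (inf_le_right : C ⊓ E ≤ E)).toEquiv, inf_comm]
    _ ≤ Nat.card (E ⊓ centralizer (U : Set P) : Subgroup P) * p :=
        Nat.mul_le_mul (card_le_of_le (inf_le_inf_left _ hCU))
          (((C.relIndex_top_right ▸ relIndex_le_of_le_right (le_top : E ≤ ⊤) (index_ne_zero_of_finite (H := C.subgroupOf ⊤)) : C.relIndex E ≤ C.index)).trans hidx')

theorem ea_comm {P : Type*} [Group P] {H : Subgroup P} (h : IsMulCommutative H) {x y : P}
    (hx : x ∈ H) (hy : y ∈ H) : x * y = y * x :=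
  congrArg Subtype.val (h.is_comm.comm (⟨x, hx⟩ : H) ⟨y, hy⟩)

theorem ea_sup {P : Type*} [Group P] {p : ℕ} {A B : Subgroup P} (hA : Cfsg.IsElementaryAbelian p A)
    (hB : Cfsg.IsElementaryAbelian p B) (h : ∀ a ∈ A, ∀ b ∈ B, a * b = b * a) :
    Cfsg.IsElementaryAbelian p (A ⊔ B) := by
  have cA : A ≤ centralizer (A : Set P) := fun x hx => mem_centralizer_iff.mpr fun y hy =>
    congrArg Subtype.val (hA.1.is_comm.comm (⟨y, hy⟩ : A) ⟨x, hx⟩)
  have cB : B ≤ centralizer (B : Set P) := fun x hx => mem_centralizer_iff.mpr fun y hy =>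
    congrArg Subtype.val (hB.1.is_comm.comm (⟨y, hy⟩ : B) ⟨x, hx⟩)
  have hs : A ⊔ B ≤ centralizer ((A ⊔ B : Subgroup P) : Set P) := by
    refine le_centralizer_iff.mp (sup_le ?_ ?_) <;>
      refine le_centralizer_iff.mp (sup_le ?_ ?_)
    · exact cA
    · exact fun b hb => mem_centralizer_iff.mpr fun a ha => h a ha b hb
    · exact fun a ha => mem_centralizer_iff.mpr fun b hb => (h a ha b hb).symm
    · exact cB
  refine ⟨⟨⟨fun x y => Subtype.ext (mem_centralizer_iff.mp (hs y.2) x x.2)⟩⟩, ?_⟩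
  intro x hx
  have : A ⊔ B ≤ ({ carrier := {x | x ∈ (A ⊔ B : Subgroup P) ∧ x ^ p = 1}
                    one_mem' := ⟨one_mem _, one_pow _⟩
                    mul_mem' := fun {a b} ha hb => ⟨mul_mem ha.1 hb.1, by
                      rw [(show Commute a b from mem_centralizer_iff.mp (hs hb.1) a ha.1).mul_pow, ha.2,
                        hb.2, one_mul]⟩
                    inv_mem' := fun {a} ha => ⟨inv_mem ha.1, by rw [inv_pow, ha.2, inv_one]⟩ } :
      Subgroup P) :=
    sup_le (fun a ha => ⟨mem_sup_left ha, hA.2 a ha⟩) (fun b hb => ⟨mem_sup_right hb, hB.2 b hb⟩)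
  exact (this hx).2

/-- Let P be a finite p-group of p-rank greater than 2. Then P has a normal elementary abelian subgroup U of order p², and for every elementary abelian X ≤ P with |X| ≥ p²: X is joined to U by a chain of pairwise commuting elementary abelian subgroups of order ≥ p² if and only if C_P(X) has p-rank greater than 2. -/
theorem result {P : Type*} [Group P] [Finite P] (p : ℕ) [Fact p.Prime] (hP : IsPGroup p P) (hrk : ¬ Cfsg.PRankLE p 2 P) : ∃ U : Subgroup P, U.Normal ∧ Cfsg.IsElementaryAbelian p U ∧ Nat.card ↥U = p ^ 2 ∧ ∀ X : Subgroup P, Cfsg.IsElementaryAbelian p X → p ^ 2 ≤ Nat.card ↥X → (Relation.ReflTransGen (fun A B : Subgroup P => Cfsg.IsElementaryAbelian p A ∧ p ^ 2 ≤ Nat.card ↥A ∧ Cfsg.IsElementaryAbelian p B ∧ p ^ 2 ≤ Nat.card ↥B ∧ ∀ a ∈ A, ∀ b ∈ B, a * b = b * a) X U ↔ ¬ Cfsg.PRankLE p 2 ↥(Subgroup.centralizer (X : Set P))) := by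
  classical
  have hpp : p.Prime := Fact.out
  obtain ⟨A, hAc, hAe, hA⟩ : ∃ A : Subgroup P, IsMulCommutative A ∧ (∀ a ∈ A, a ^ p = 1) ∧ p ^ 2 < Nat.card A := by
    simp only [Cfsg.PRankLE, not_forall] at hrk
    obtain ⟨A, h1, h2, h3⟩ := hrk
    exact ⟨A, h1, h2, by omega⟩
  have hA3 : p ^ 3 ≤ Nat.card A := by
    obtain ⟨k, hk⟩ := IsPGroup.iff_card.mp (hP.to_subgroup A)
    rw [hk] at hA ⊢
    exact Nat.pow_le_pow_right hpp.pos ((Nat.pow_lt_pow_iff_right hpp.one_lt).mp hA)
  obtain ⟨U, hUn, hUe, hU⟩ : ∃ U : Subgroup P, U.Normal ∧ Cfsg.IsElementaryAbelian p U ∧ Nat.card U = p ^ 2 := by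
    by_cases hp2 : p = 2
    · subst hp2
      have hA3d : 2 ^ 3 ∣ Nat.card A := by
        obtain ⟨k, hk⟩ := IsPGroup.iff_card.mp (hP.to_subgroup A)
        rw [hk] at hA3 ⊢
        exact Nat.pow_dvd_pow 2 ((Nat.pow_le_pow_iff_right (by norm_num)).mp hA3)
      obtain ⟨E0, hE0⟩ := Sylow.exists_subgroup_card_pow_prime (G := A) 2 (n := 3) (hA3d)
      obtain ⟨U, hUn, hU, hUs⟩ := Invol.exists_normal_four hP (E0.map A.subtype)
        (by rw [card_map_of_injective (subtype_injective _), hE0]; norm_num)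
        (fun e he => by rw [← sq]; exact hAe e (map_subtype_le _ he))
      exact ⟨U, hUn, ⟨IsPGroup.isMulCommutative_of_card_eq_prime_sq (p := 2) (by rw [hU]; norm_num),
        fun a ha => by rw [sq]; exact hUs a ha⟩, by rw [hU]; norm_num⟩
    · refine Fusion.exists_normal_elementary_card_sq hp2 hP fun hc => ?_
      haveI : IsCyclic A := inferInstance
      obtain ⟨g, hg⟩ := IsCyclic.exists_generator (α := A)
      have h1 : Nat.card A ≤ p := by
        rw [← orderOf_eq_card_of_forall_mem_zpowers hg]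
        exact Nat.le_of_dvd hpp.pos (orderOf_dvd_of_pow_eq_one (Subtype.ext (by
          rw [SubgroupClass.coe_pow]; exact hAe _ g.2)))
      have := lt_self_pow₀ hpp.one_lt one_lt_two
      omega
  haveI := hUn
  have hp3 : p ^ 2 < p ^ 3 := Nat.pow_lt_pow_right hpp.one_lt (by norm_num)
  have big : ∀ (X B : Subgroup P), Cfsg.IsElementaryAbelian p B → p ^ 2 < Nat.card B →
      B ≤ centralizer (X : Set P) → ¬ Cfsg.PRankLE p 2 ↥(centralizer (X : Set P)) := by
    intro X B hB hBc hBX hr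
    haveI := hB.1
    have hc := hr (B.subgroupOf (centralizer (X : Set P)))
      ⟨⟨fun a b => Subtype.ext (Subtype.ext (ea_comm hB.1 a.2 b.2))⟩⟩
      (fun a ha => Subtype.ext (by rw [SubgroupClass.coe_pow]; exact hB.2 _ ha))
    rw [Nat.card_congr (subgroupOfEquivOfLe hBX).toEquiv] at hc
    omega
  refine ⟨U, hUn, hUe, hU, fun X hX hXc => ⟨fun h => ?_, fun h => ?_⟩⟩
  · induction h using Relation.ReflTransGen.head_induction_on with
    | refl =>
      set E := A ⊓ centralizer (U : Set P) with hE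
      have hEc : p ^ 2 ≤ Nat.card E := by
        have h1 := hA3.trans (card_le_centralizing hP hUe hU A)
        rw [pow_succ] at h1
        exact Nat.le_of_mul_le_mul_right h1 hpp.pos
      have hEe : Cfsg.IsElementaryAbelian p E :=
        ⟨⟨⟨fun a b => Subtype.ext (ea_comm hAc a.2.1 b.2.1)⟩⟩, fun a ha => hAe a ha.1⟩
      have hcomm : ∀ a ∈ E, ∀ b ∈ U, a * b = b * a := fun a ha b hb =>
        (mem_centralizer_iff.mp ha.2 b hb).symm
      have hUC : U ≤ centralizer (U : Set P) := fun x hx => mem_centralizer_iff.mpr fun y hy =>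
        congrArg Subtype.val (hUe.1.is_comm.comm (⟨y, hy⟩ : U) ⟨x, hx⟩)
      refine big U (E ⊔ U) (ea_sup hEe hUe hcomm) ?_ (sup_le inf_le_right hUC)
      by_contra hle
      push Not at hle
      have e1 : U = E ⊔ U := eq_of_le_of_card_ge le_sup_right (by rw [hU]; exact hle)
      have e2 : E = U := eq_of_le_of_card_ge (le_sup_left.trans e1.symm.le) (by rw [hU]; exact hEc)
      have hAU : A ≤ centralizer (U : Set P) := fun a ha => mem_centralizer_iff.mpr fun u hu => by
        rw [← e2] at hu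
        exact congrArg Subtype.val (hAc.is_comm.comm (⟨u, hu.1⟩ : A) ⟨a, ha⟩)
      rw [hE, inf_eq_left.mpr hAU] at e2
      rw [e2, hU] at hA
      omega
    | @head X' B hab _ ih =>
      obtain ⟨hX', hX'c, hB, hBc, hcomm⟩ := hab
      have hX'C : X' ≤ centralizer (X' : Set P) := fun x hx => mem_centralizer_iff.mpr fun y hy =>
        congrArg Subtype.val (hX'.1.is_comm.comm (⟨y, hy⟩ : X') ⟨x, hx⟩)
      by_cases hbig : p ^ 2 < Nat.card (X' ⊔ B : Subgroup P)
      · exact big X' _ (ea_sup hX' hB hcomm) hbig (sup_le hX'C fun b hb =>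
          mem_centralizer_iff.mpr fun x hx => hcomm x hx b hb)
      · push Not at hbig
        have e1 : X' = X' ⊔ B := eq_of_le_of_card_ge le_sup_left (hbig.trans hX'c)
        have e2 : B = X' ⊔ B := eq_of_le_of_card_ge le_sup_right (hbig.trans hBc)
        rw [e1.trans e2.symm]
        exact ih hB hBc
  · simp only [Cfsg.PRankLE, not_forall] at h
    obtain ⟨E', hE'c, hE'e, hE'⟩ := h
    set E := E'.map (centralizer (X : Set P)).subtype with hE
    have hEe : Cfsg.IsElementaryAbelian p E := by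
      refine ⟨⟨⟨?_⟩⟩, ?_⟩
      · rintro ⟨_, a, ha, rfl⟩ ⟨_, b, hb, rfl⟩
        exact Subtype.ext (congrArg (fun w : E' => ((w : centralizer (X : Set P)) : P)) (hE'c.is_comm.comm ⟨a, ha⟩ ⟨b, hb⟩))
      · rintro _ ⟨a, ha, rfl⟩
        rw [← map_pow, hE'e a ha, map_one]
    have hEcard : p ^ 3 ≤ Nat.card E := by
      rw [hE, card_map_of_injective (subtype_injective _)]
      obtain ⟨k, hk⟩ := IsPGroup.iff_card.mp ((hP.to_subgroup _).to_subgroup E')
      rw [hk] at hE' ⊢
      exact Nat.pow_le_pow_right hpp.pos ((Nat.pow_lt_pow_iff_right hpp.one_lt).mp (not_le.mp hE'))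
    set F := E ⊓ centralizer (U : Set P) with hF
    have hFc : p ^ 2 ≤ Nat.card F := by
      have h1 := hEcard.trans (card_le_centralizing hP hUe hU E)
      rw [pow_succ] at h1
      exact Nat.le_of_mul_le_mul_right h1 hpp.pos
    have hFe : Cfsg.IsElementaryAbelian p F :=
      ⟨⟨⟨fun a b => Subtype.ext (ea_comm hEe.1 a.2.1 b.2.1)⟩⟩, fun a ha => hEe.2 a ha.1⟩
    have hEc2 : p ^ 2 ≤ Nat.card E := hp3.le.trans hEcard
    have hXE : ∀ a ∈ X, ∀ b ∈ E, a * b = b * a := by
      rintro x hx _ ⟨a, -, rfl⟩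
      exact mem_centralizer_iff.mp a.2 x hx
    have hEF : ∀ a ∈ E, ∀ b ∈ F, a * b = b * a := fun a ha b hb => ea_comm hEe.1 ha hb.1
    have hFU : ∀ a ∈ F, ∀ b ∈ U, a * b = b * a := fun a ha b hb =>
      (mem_centralizer_iff.mp ha.2 b hb).symm
    exact ((Relation.ReflTransGen.single ⟨hX, hXc, hEe, hEc2, hXE⟩).tail
      ⟨hEe, hEc2, hFe, hFc, hEF⟩).tail ⟨hFe, hFc, hUe, hU.ge, hFU⟩

end Cfsg.Agent.S1337
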