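import Cfsg.Statements.S1338
import Cfsg.Agent.PGroupRank.NormalFourOdd
import Cfsg.Agent.S1337

set_option autoImplicit false
set_option linter.style.haveILetI false
open Cfsg

namespace Cfsg.Agent.S1338

open Subgroup in
/-- An element of order dividing 3 centralises at least 9 elements of a normal subgroup of order 81
and exponent 3. -/
theorem nine_le_centralizer {P : Type*} [Group P] [Finite P] {A : Subgroup P} [A.Normal]
    (hA : Cfsg.IsElementaryAbelian 3 A) (hAc : Nat.card A = 3 ^ 4) {f : P} (hf : f ^ 3 = 1) :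
    9 ≤ Nat.card (A ⊓ centralizer ({f} : Set P) : Subgroup P) := by
  classical
  letI : CommGroup ↥A := { (inferInstance : Group ↥A) with mul_comm := fun a b => hA.1.is_comm.comm a b }
  set φ : ↥A →* ↥A := (MulAut.conjNormal f).toMonoidHom with hφ
  have hφv : ∀ a : ↥A, ((φ a : ↥A) : P) = f * (a : P) * f⁻¹ := fun a => MulAut.conjNormal_apply f a
  have hφ3 : ∀ a : ↥A, φ (φ (φ a)) = a := by
    intro a
    apply Subtype.ext
    rw [hφv, hφv, hφv]
    calc f * (f * (f * (a : P) * f⁻¹) * f⁻¹) * f⁻¹ = f ^ 3 * (a : P) * (f ^ 3)⁻¹ := by rw [pow_three]; group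
      _ = a := by rw [hf]; group
  set δ : ↥A →* ↥A := MonoidHom.mk' (fun a => a⁻¹ * φ a) (fun a b => by
    rw [map_mul, mul_inv, mul_mul_mul_comm]) with hδ
  have hcube : ∀ a : ↥A, a ^ 3 = 1 := fun a => Subtype.ext (by simpa using hA.2 a a.2)
  have hδ3 : ∀ a : ↥A, δ (δ (δ a)) = 1 := by
    intro a
    have h1 : δ (δ (δ a)) = (φ a) ^ 3 * ((φ (φ a)) ^ 3)⁻¹ := by
      simp only [hδ, MonoidHom.mk'_apply, map_mul, map_inv, hφ3, mul_inv_rev, inv_inv, pow_three]
      simp [mul_comm, mul_assoc, mul_left_comm]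
    rw [h1, hcube, hcube, inv_one, one_mul]
  set n := Nat.card δ.ker with hn
  have key : ∀ S : Subgroup ↥A, Nat.card S ≤ n * Nat.card (S.map δ) := by
    intro S
    have h := Subgroup.card_mul_index (δ.ker.subgroupOf S)
    rw [← Subgroup.relIndex, Subgroup.relIndex_ker] at h
    rw [← h]
    refine Nat.mul_le_mul_right _ ?_
    refine Nat.card_le_card_of_injective (fun x => (⟨((x : ↥S) : ↥A), x.2⟩ : ↥δ.ker)) fun x y hxy => ?_
    exact Subtype.ext (Subtype.ext (congrArg (fun z : ↥δ.ker => (z : ↥A)) hxy))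
  have hker : ((⊤ : Subgroup ↥A).map δ).map δ ≤ δ.ker := by
    rintro _ ⟨_, ⟨a, -, rfl⟩, rfl⟩
    exact MonoidHom.mem_ker.mpr (hδ3 a)
  have h81 : 3 ^ 4 ≤ n * (n * n) := by
    rw [← hAc, ← Subgroup.card_top]
    refine (key ⊤).trans (Nat.mul_le_mul_left _ ((key _).trans (Nat.mul_le_mul_left _ ?_)))
    exact Subgroup.card_le_of_le hker
  -- `n` is a power of 3
  have hp : IsPGroup 3 ↥δ.ker := fun x => ⟨1, Subtype.ext (hcube x)⟩
  haveI : Fact (Nat.Prime 3) := ⟨by norm_num⟩
  obtain ⟨k, hk⟩ := IsPGroup.iff_card.mp hp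
  have hk2 : 2 ≤ k := by
    by_contra hlt
    have : n ≤ 3 := by
      rw [hn, hk]
      exact (Nat.pow_le_pow_right (by norm_num) (by omega : k ≤ 1)).trans (pow_one 3).le
    have : n * (n * n) ≤ 3 * (3 * 3) := Nat.mul_le_mul this (Nat.mul_le_mul this this)
    omega
  refine le_trans ?_ (Nat.card_le_card_of_injective
    (fun a : ↥δ.ker => (⟨((a : ↥A) : P), Subgroup.mem_inf.mpr ⟨(a : ↥A).2, ?_⟩⟩ : ↥(A ⊓ centralizer ({f} : Set P)))) ?_)
  · rw [hk]
    exact (le_of_eq (by norm_num : (9 : ℕ) = 3 ^ 2)).trans (Nat.pow_le_pow_right (by norm_num) hk2)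
  · rw [mem_centralizer_singleton_iff]
    have h : ((a : ↥A))⁻¹ * φ (a : ↥A) = 1 := MonoidHom.mem_ker.mp a.2
    rw [inv_mul_eq_one] at h
    have h' := congrArg Subtype.val h
    rw [hφv] at h'
    exact eq_mul_inv_iff_mul_eq.mp h'
  · intro x y hxy
    exact Subtype.ext (Subtype.ext (congrArg (fun z : ↥(A ⊓ centralizer ({f} : Set P)) => (z : P)) hxy))

open Subgroup in
/-- In a 3-group of rank at least 4 every noncyclic elementary abelian subgroup has centraliser of
rank at least 3. -/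
theorem rank_centralizer {P : Type*} [Group P] [Finite P] (hP : IsPGroup 3 P)
    (hrk : ¬ Cfsg.PRankLE 3 3 P) (X : Subgroup P) (hX : Cfsg.IsElementaryAbelian 3 X)
    (hX2 : 3 ^ 2 ≤ Nat.card X) : ¬ Cfsg.PRankLE 3 2 ↥(centralizer (X : Set P)) := by
  classical
  haveI : Fact (Nat.Prime 3) := ⟨by norm_num⟩
  intro hle
  -- all elementary subgroups centralising `X` have order at most 9
  have hsmall : ∀ W : Subgroup P, Cfsg.IsElementaryAbelian 3 W → W ≤ centralizer (X : Set P) →
      Nat.card W ≤ 3 ^ 2 := by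
    intro W hW hWX
    haveI := hW.1
    have h := hle (W.subgroupOf (centralizer (X : Set P))) inferInstance
      (fun a ha => Subtype.ext (by simpa using hW.2 a ha))
    rwa [Nat.card_congr (subgroupOfEquivOfLe hWX).toEquiv] at h
  have hXX : X ≤ centralizer (X : Set P) := le_centralizer_iff_isMulCommutative.mpr hX.1
  have hX9 : Nat.card X = 3 ^ 2 := le_antisymm (hsmall X hX hXX) hX2
  obtain ⟨A, hAn, hA, hAc⟩ : ∃ A : Subgroup P, A.Normal ∧ Cfsg.IsElementaryAbelian 3 A ∧ Nat.card A = 3 ^ 4 := by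
    simp only [Cfsg.PRankLE] at hrk
    push Not at hrk
    obtain ⟨B, hBc, hBe, hB⟩ := hrk
    obtain ⟨k, hk⟩ := IsPGroup.iff_card.mp (hP.to_subgroup B)
    rw [hk, Nat.pow_lt_pow_iff_right (by norm_num : 1 < 3)] at hB
    obtain ⟨E, hE⟩ := Sylow.exists_subgroup_card_pow_prime (G := ↥B) 3 (n := 4)
      (hk ▸ Nat.pow_dvd_pow 3 hB)
    have hEB : E.map B.subtype ≤ B := map_subtype_le _
    exact Agent.PGroupRank.exists_normal_elementary_four (by norm_num) _ P rfl hP (E.map B.subtype)
      ⟨le_centralizer_iff_isMulCommutative.mp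
        ((hEB.trans (le_centralizer_iff_isMulCommutative.mpr hBc)).trans (centralizer_le hEB)),
        fun x hx => hBe x (hEB hx)⟩
      (by rw [card_map_of_injective B.subtype_injective, hE])
  haveI := hAn
  -- an element of order 3 in the centre
  haveI : Nontrivial P := by
    by_contra h
    rw [not_nontrivial_iff_subsingleton] at h
    have := Finite.card_le_one_iff_subsingleton.mpr (inferInstance : Subsingleton ↥A)
    rw [hAc] at this
    norm_num at this
  haveI := hP.center_nontrivial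
  obtain ⟨z, hz⟩ := exists_prime_orderOf_dvd_card' (G := ↥(center P)) 3 (by
    obtain ⟨k, hk⟩ := IsPGroup.iff_card.mp (hP.to_subgroup (center P))
    rw [hk]
    refine dvd_pow_self 3 fun hk0 => ?_
    have h1 := Finite.one_lt_card (α := ↥(center P))
    rw [hk, hk0] at h1
    norm_num at h1)
  have hzP : orderOf (z : P) = 3 := (orderOf_injective (center P).subtype (Subgroup.subtype_injective _) z).trans hz
  have hzX : (z : P) ∈ X := by
    by_contra hnot
    have hzc : zpowers (z : P) ≤ center P := zpowers_le.mpr z.2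
    have hW : Cfsg.IsElementaryAbelian 3 (X ⊔ zpowers (z : P)) :=
      Agent.S1337.ea_sup hX ⟨inferInstance, fun a ha => by
        obtain ⟨i, rfl⟩ := ha
        rw [← zpow_natCast, ← zpow_mul, mul_comm, zpow_mul, zpow_natCast, ← hzP, pow_orderOf_eq_one, one_zpow]⟩
        fun a _ b hb => (mem_center_iff.mp (hzc hb) a)
    have h1 := hsmall _ hW (sup_le hXX (hzc.trans (center_le_centralizer _)))
    have h2 : X = X ⊔ zpowers (z : P) := eq_of_le_of_card_ge le_sup_left (h1.trans hX9.ge)
    exact hnot (h2 ▸ mem_sup_right (mem_zpowers _))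
  obtain ⟨f, hfX, hfz⟩ := Agent.PGroupRank.exists_mem_notMem_of_card_lt (H := zpowers (z : P)) (L := X)
    (by rw [Nat.card_zpowers, hzP, hX9]; norm_num)
  have hgen : zpowers (z : P) ⊔ zpowers f = X :=
    Agent.PGroupRank.sup_zpowers_eq (p := 3) hP (zpowers_le.mpr hzX) (n := 1)
      (by rw [Nat.card_zpowers, hzP]; norm_num) hX9 hfX hfz
  set C := A ⊓ centralizer ({f} : Set P) with hC
  have hC9 : 9 ≤ Nat.card C := nine_le_centralizer hA hAc (hX.2 f hfX)
  have hCX : C ≤ centralizer (X : Set P) := by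
    rw [← hgen]
    refine Agent.PGroupRank.le_centralizer_sup_zpowers ?_ inf_le_right
    exact le_centralizer_iff.mp ((zpowers_le.mpr z.2).trans (center_le_centralizer _))
  have hW : Cfsg.IsElementaryAbelian 3 (X ⊔ C) :=
    Agent.S1337.ea_sup hX ⟨le_centralizer_iff_isMulCommutative.mp
        (((inf_le_left : C ≤ A).trans (le_centralizer_iff_isMulCommutative.mpr hA.1)).trans
          (centralizer_le inf_le_left)), fun a ha => hA.2 a ha.1⟩
      fun a ha b hb => mem_centralizer_iff.mp (hCX hb) a ha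
  have h1 : X = X ⊔ C := eq_of_le_of_card_ge le_sup_left ((hsmall _ hW (sup_le hXX hCX)).trans hX9.ge)
  have h2 : C ≤ X := h1 ▸ le_sup_right
  have h3 : C = X := eq_of_le_of_card_ge h2 (by rw [hX9]; exact hC9)
  have hfA : f ∈ A := (h3.ge hfX).1
  have h4 : A ≤ C := le_inf le_rfl fun a ha => mem_centralizer_singleton_iff.mpr
    (congrArg Subtype.val (hA.1.is_comm.comm ⟨a, ha⟩ ⟨f, hfA⟩))
  have h5 := Subgroup.card_le_of_le (h4.trans h2)
  rw [hAc, hX9] at h5
  norm_num at h5

/-- A finite 3-group of 3-rank at least 4 is 2-connected for the prime 3: its commuting graph on elementary abelian subgroups of order ≥ 9 is connected. -/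
theorem result {P : Type*} [Group P] [Finite P] (hP : IsPGroup 3 P) (hrk : ¬ Cfsg.PRankLE 3 3 P) : Cfsg.IsKConnected 3 2 P := by
  haveI : Fact (Nat.Prime 3) := ⟨by norm_num⟩
  have hrk2 : ¬ Cfsg.PRankLE 3 2 P := fun h => hrk fun A hA hA' => (h A hA hA').trans (by norm_num)
  obtain ⟨U, -, hUe, hUc, hU⟩ := Agent.S1337.result 3 hP hrk2
  intro E E' hE hE2 hE' hE2'
  have h1 := (hU E hE hE2).mpr (rank_centralizer hP hrk E hE hE2)
  have h2 := (hU E' hE' hE2').mpr (rank_centralizer hP hrk E' hE' hE2')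
  refine h1.trans ?_
  clear h1 hU hUc hUe
  induction h2 with
  | refl => exact Relation.ReflTransGen.refl
  | tail _ hstep ih =>
    obtain ⟨hA, hA2, hB, hB2, hAB⟩ := hstep
    exact Relation.ReflTransGen.head ⟨hB, hB2, hA, hA2, fun b hb a ha => (hAB a ha b hb).symm⟩ ih

end Cfsg.Agent.S1338
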