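import Cfsg.Statements.S1339
import Cfsg.Agent.Layer.PConstraint

set_option autoImplicit false
open Cfsg

namespace Cfsg.Agent.S1339

/-- Let F be a field with 2 elements, n ≥ 3, and t ∈ SL(n, F) a transvection (t = 1 + E_{ij}, i ≠ j). Then the generalized Fitting subgroup of C(t) is O_2(C(t)). -/
theorem result {F : Type*} [Field F] [Fintype F] [DecidableEq F] (hF : Fintype.card F = 2) (n : ℕ) (hn : 3 ≤ n) (i j : Fin n) (hij : i ≠ j) (t : Matrix.SpecialLinearGroup (Fin n) F) (ht : (t : Matrix (Fin n) (Fin n) F) = Matrix.transvection i j 1) : Cfsg.generalizedFittingSubgroup ↥(Subgroup.centralizer ({t} : Set (Matrix.SpecialLinearGroup (Fin n) F))) = Cfsg.pCore 2 ↥(Subgroup.centralizer ({t} : Set (Matrix.SpecialLinearGroup (Fin n) F))) := by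
  classical
  have : Fact (Nat.Prime 2) := ⟨Nat.prime_two⟩
  have hchar : CharP F 2 := charP_of_card_eq_prime hF
  rw [Cfsg.Agent.Layer.generalizedFitting_eq_pCore_iff]
  have hF01 : ∀ a : F, a ≠ 0 → a = 1 := fun a ha => by
    have h := FiniteField.pow_card_sub_one_eq_one a ha
    rwa [hF, pow_one] at h
  set C := Subgroup.centralizer ({t} : Set (Matrix.SpecialLinearGroup (Fin n) F)) with hC
  have hcomm : ∀ (c : Matrix (Fin n) (Fin n) F) (k l : Fin n), c * Matrix.single k l 1 = Matrix.single k l 1 * c →
      ∀ a b, (if b = l then c a k else 0) = (if a = k then c l b else 0) := fun c k l h a b => by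
    have := congrFun (congrFun h a) b
    rw [Matrix.mul_apply, Matrix.mul_apply] at this
    simp only [Matrix.single_apply, mul_ite, mul_one, mul_zero, ite_mul, one_mul, zero_mul] at this
    rw [Finset.sum_eq_single k (fun x _ hx => if_neg fun h => hx h.1.symm) (by simp),
      Finset.sum_eq_single l (fun x _ hx => if_neg fun h => hx h.2.symm) (by simp)] at this
    simpa [eq_comm] using this
  have hCfacts : ∀ g : C, (∀ a, g.1.1 a i = if a = i then 1 else 0) ∧ (∀ b, g.1.1 j b = if b = j then 1 else 0) := by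
    intro g
    have h : g.1.1 * Matrix.single i j 1 = Matrix.single i j 1 * g.1.1 := by
      have h := congrArg (fun m : Matrix.SpecialLinearGroup (Fin n) F => (m : Matrix (Fin n) (Fin n) F))
        (Subgroup.mem_centralizer_singleton_iff.1 g.2)
      simp only [Matrix.SpecialLinearGroup.coe_mul, ht, Matrix.transvection] at h
      rw [Matrix.mul_add, Matrix.add_mul, Matrix.mul_one, Matrix.one_mul] at h
      exact add_left_cancel h
    have e := hcomm g.1.1 i j h
    have h1 : ∀ a, a ≠ i → g.1.1 a i = 0 := fun a ha => by simpa [ha] using e a j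
    have h2 : ∀ b, b ≠ j → g.1.1 j b = 0 := fun b hb => by simpa [hb] using (e i b).symm
    have hii : g.1.1 i i = 1 := hF01 _ fun h0 => by
      have := g.1.2
      rw [Matrix.det_eq_zero_of_column_eq_zero i fun a => by
        by_cases ha : a = i
        · rw [ha, h0]
        · exact h1 a ha] at this
      exact zero_ne_one this
    have hjj : g.1.1 j j = 1 := by
      have := e i j
      simp only [if_pos] at this
      rw [← this, hii]
    exact ⟨fun a => by by_cases ha : a = i <;> simp [ha, hii, h1], fun b => by by_cases hb : b = j <;> simp [hb, hjj, h2]⟩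
  let φ : C →* Matrix {k : Fin n // k ≠ i ∧ k ≠ j} {k : Fin n // k ≠ i ∧ k ≠ j} F :=
    { toFun := fun g => g.1.1.submatrix Subtype.val Subtype.val
      map_one' := Matrix.submatrix_one _ Subtype.val_injective
      map_mul' := fun g h => by
        ext ⟨a, ha⟩ ⟨b, hb⟩
        simp only [Matrix.mul_apply, Matrix.submatrix_apply, Subgroup.coe_mul, Matrix.SpecialLinearGroup.coe_mul]
        rw [← Finset.sum_subtype (Finset.univ.filter fun k => k ≠ i ∧ k ≠ j) (by simp)
          (fun k => g.1.1 a k * h.1.1 k b)]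
        refine (Finset.sum_subset (Finset.subset_univ _) fun k _ hk => ?_).symm
        simp only [Finset.mem_filter, Finset.mem_univ, true_and, not_and_or, not_not] at hk
        rcases hk with rfl | rfl
        · rw [(hCfacts g).1 a, if_neg ha.1, zero_mul]
        · rw [(hCfacts h).2 b, if_neg hb.2, mul_zero] }
  have hpg : IsPGroup 2 φ.ker := fun g => by
    refine ⟨2, Subtype.ext (Subtype.ext (Matrix.SpecialLinearGroup.ext _ _ ?_))⟩
    have hg : ∀ a b, a ≠ i → b ≠ j → (g.1.1.1 - 1) a b = 0 := fun a b ha hb => by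
      rw [Matrix.sub_apply, Matrix.one_apply]
      by_cases haj : a = j
      · subst haj
        rw [(hCfacts g.1).2 b, if_neg hb, if_neg (fun h => hb h.symm), sub_zero]
      by_cases hbi : b = i
      · subst hbi
        rw [(hCfacts g.1).1 a, if_neg ha, sub_zero]
      have := Matrix.ext_iff.2 (MonoidHom.mem_ker.1 g.2) ⟨a, ha, haj⟩ ⟨b, hbi, hb⟩
      change g.1.1.1 a b = _ at this
      rw [this, Matrix.one_apply]
      simp [Subtype.mk.injEq]
    have hcol : ∀ a, (g.1.1.1 - 1) a i = 0 := fun a => by
      rw [Matrix.sub_apply, Matrix.one_apply, (hCfacts g.1).1 a, sub_self]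
    have hrow : ∀ b, (g.1.1.1 - 1) j b = 0 := fun b => by
      rw [Matrix.sub_apply, Matrix.one_apply, (hCfacts g.1).2 b]
      simp [eq_comm]
    have h3 : (g.1.1.1 - 1) * (g.1.1.1 - 1) * (g.1.1.1 - 1) = 0 := by
      ext a b
      simp only [Matrix.mul_apply, Matrix.zero_apply]
      refine Finset.sum_eq_zero fun k _ => mul_eq_zero.2 ?_
      by_cases hkj : k = j
      · exact Or.inr (hkj ▸ hrow b)
      by_cases hki : k = i
      · subst hki
        exact Or.inl (Finset.sum_eq_zero fun l _ => by rw [hcol l, mul_zero])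
      left
      refine Finset.sum_eq_zero fun l _ => mul_eq_zero.2 ?_
      by_cases hli : l = i
      · exact Or.inl (hli ▸ hcol a)
      · exact Or.inr (hg l k hli hkj)
    intro a b
    have : Nonempty (Fin n) := ⟨i⟩
    have : CharP (Matrix (Fin n) (Fin n) F) 2 := inferInstance
    have h4 : g.1.1.1 ^ (2 ^ 2) = 1 := by
      have e := sub_pow_char_pow_of_commute (p := 2) (n := 2) (Commute.one_right g.1.1.1)
      have e0 : (g.1.1.1 - 1) ^ (2 ^ 2) = 0 := by
        rw [show 2 ^ 2 = 3 + 1 from rfl, pow_succ, pow_succ, pow_two, h3, zero_mul]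
      rw [e0, one_pow] at e
      exact sub_eq_zero.1 e.symm
    simp only [SubmonoidClass.coe_pow, OneMemClass.coe_one, Matrix.SpecialLinearGroup.coe_pow, h4,
      Matrix.SpecialLinearGroup.coe_one]
  show Subgroup.centralizer (Cfsg.pCore 2 ↥C : Set ↥C) ≤ Cfsg.pCore 2 ↥C
  have hle : φ.ker ≤ Cfsg.pCore 2 ↥C := Cfsg.Agent.Core.le_pCore hpg
  refine le_trans (fun x hx => ?_) hle
  rw [MonoidHom.mem_ker]
  -- transvections in the kernel
  have htv : ∀ k l, k ≠ l → k ≠ j → l ≠ i → (k = i ∨ l = j) →
      x.1.1 * Matrix.single k l 1 = Matrix.single k l 1 * x.1.1 := by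
    intro k l hkl hkj hli hor
    let s : Matrix.SpecialLinearGroup (Fin n) F := ⟨Matrix.transvection k l 1, Matrix.det_transvection_of_ne k l hkl 1⟩
    have hs : s ∈ C := Subgroup.mem_centralizer_singleton_iff.2 (Matrix.SpecialLinearGroup.ext _ _ fun a b => by
      show (Matrix.transvection k l (1 : F) * (t : Matrix (Fin n) (Fin n) F) : Matrix (Fin n) (Fin n) F) a b =
        ((t : Matrix (Fin n) (Fin n) F) * Matrix.transvection k l (1 : F) : Matrix (Fin n) (Fin n) F) a b
      rw [ht]
      have e : Matrix.transvection k l (1 : F) * Matrix.transvection i j 1 =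
          Matrix.transvection i j 1 * Matrix.transvection k l 1 := by
        simp only [Matrix.transvection, Matrix.mul_add, Matrix.add_mul, Matrix.mul_one, Matrix.one_mul]
        rw [Matrix.single_mul_single_of_ne (h := hli), Matrix.single_mul_single_of_ne (h := hkj.symm)]
        abel
      exact congrFun (congrFun e a) b)
    have hsk : (⟨s, hs⟩ : C) ∈ φ.ker := by
      rw [MonoidHom.mem_ker]
      ext ⟨a, ha⟩ ⟨b, hb⟩
      simp only [φ, s, MonoidHom.coe_mk, OneHom.coe_mk, Matrix.submatrix_apply, Matrix.transvection,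
        Matrix.add_apply, Matrix.one_apply, Subtype.mk.injEq, Matrix.single_apply]
      rw [if_neg (fun h : k = a ∧ l = b => hor.elim (fun e => ha.1 (h.1.symm.trans e))
        fun e => hb.2 (h.2.symm.trans e)), add_zero]
    have := congrArg (fun m : C => m.1.1) (Subgroup.mem_centralizer_iff.1 hx _ (hle hsk))
    change Matrix.transvection k l (1 : F) * x.1.1 = x.1.1 * Matrix.transvection k l 1 at this
    simp only [Matrix.transvection] at this
    rw [Matrix.mul_add, Matrix.add_mul, Matrix.mul_one, Matrix.one_mul] at this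
    exact (add_left_cancel this).symm
  ext ⟨a, ha⟩ ⟨b, hb⟩
  simp only [φ, MonoidHom.coe_mk, OneHom.coe_mk, Matrix.submatrix_apply, Matrix.one_apply, Subtype.mk.injEq]
  have e := hcomm x.1.1 i a (htv i a ha.1.symm hij ha.1 (Or.inl rfl)) i b
  simp only [if_pos] at e
  rw [← e]
  by_cases hab : a = b
  · subst hab
    rw [if_pos rfl, if_pos rfl, (hCfacts x).1 i, if_pos rfl]
  · rw [if_neg (fun h => hab h.symm), if_neg hab]

end Cfsg.Agent.S1339
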