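import Cfsg.Statements.S1340
import Cfsg.Agent.Classical.LinearBasic
import Cfsg.Agent.Layer.Components
import Cfsg.Agent.Core.PCore

set_option autoImplicit false
open Cfsg

namespace Cfsg.Agent.S1340

/-- Let F be a finite field of odd order and n ≥ 3 with (n, |F|) ≠ (3, 3). Then GL(n, F) has a non-central involution t such that C(t) / O(C(t)) has a component. -/
theorem result {F : Type*} [Field F] [Fintype F] [DecidableEq F] (hF : Odd (Fintype.card F)) (n : ℕ) (hn : 3 ≤ n) (h33 : ¬ (n = 3 ∧ Fintype.card F = 3)) : ∃ t : Matrix.GeneralLinearGroup (Fin n) F, orderOf t = 2 ∧ t ∉ Subgroup.center (Matrix.GeneralLinearGroup (Fin n) F) ∧ Cfsg.HasComponent (↥(Subgroup.centralizer ({t} : Set (Matrix.GeneralLinearGroup (Fin n) F))) ⧸ Cfsg.oddCore ↥(Subgroup.centralizer ({t} : Set (Matrix.GeneralLinearGroup (Fin n) F)))) := by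
  classical
  obtain ⟨m, rfl⟩ : ∃ m, n = m + 1 := ⟨n - 1, by omega⟩
  have h2 : (2 : F) ≠ 0 := by
    intro h
    have hc : ringChar F = 2 := CharP.ringChar_of_prime_eq_zero Nat.prime_two (by exact_mod_cast h)
    obtain ⟨k, hk⟩ := hF
    have := (FiniteField.even_card_iff_char_two (F := F)).1 hc
    omega
  have hneg : (-1 : F) ≠ 1 := fun h => h2 (by linear_combination -h)
  -- quasisimplicity of the small special linear group
  have hsl : 3 ≤ Fintype.card (Fin m) ∨ (2 ≤ Fintype.card (Fin m) ∧ ∃ x : F, x ≠ 0 ∧ x ^ 2 ≠ 1) := by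
    rw [Fintype.card_fin]
    rcases (show m = 2 ∨ 3 ≤ m by omega) with rfl | hm
    · refine Or.inr ⟨le_rfl, ?_⟩
      by_contra hx
      push Not at hx
      apply h33
      refine ⟨rfl, ?_⟩
      have hsub : (Finset.univ : Finset F) ⊆ {0, 1, -1} := fun x _ => by
        rcases eq_or_ne x 0 with rfl | hx0
        · simp
        · have := hx x hx0
          rw [sq] at this
          rcases mul_self_eq_one_iff.1 this with rfl | rfl <;> simp
      have h3 := (Finset.card_le_card hsub).trans Finset.card_le_three
      rw [Finset.card_univ] at h3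
      have h1 := Fintype.one_lt_card (α := F)
      obtain ⟨k, hk⟩ := hF
      omega
    · exact Or.inl hm
  have hqs : Cfsg.IsQuasisimple (Matrix.SpecialLinearGroup (Fin m) F) :=
    ⟨⟨Classical.commutator_sl_eq_top (hsl.imp id And.right)⟩, Classical.isSimpleGroup_psl hsl⟩
  -- the involution and the embedded group
  let e : Fin 1 ⊕ Fin m ≃ Fin (m + 1) := finSumFinEquiv.trans (finCongr (Nat.add_comm 1 m))
  let B : Matrix (Fin 1 ⊕ Fin m) (Fin 1 ⊕ Fin m) F →* Matrix (Fin (m + 1)) (Fin (m + 1)) F :=
    (Matrix.reindexAlgEquiv F F e).toMonoidHom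
  have hBinj : Function.Injective B := (Matrix.reindexAlgEquiv F F e).injective
  have hBsurj : Function.Surjective B := (Matrix.reindexAlgEquiv F F e).surjective
  let D : Matrix (Fin m) (Fin m) F →* Matrix (Fin 1 ⊕ Fin m) (Fin 1 ⊕ Fin m) F :=
    { toFun := fun A => Matrix.fromBlocks 1 0 0 A
      map_one' := Matrix.fromBlocks_one
      map_mul' := fun A A' => by simp [Matrix.fromBlocks_multiply] }
  let φ : Matrix.SpecialLinearGroup (Fin m) F →* GL (Fin (m + 1)) F :=
    (B.comp (D.comp (Units.coeHom _ |>.comp Matrix.SpecialLinearGroup.toGL))).toHomUnits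
  have hφval : ∀ A : Matrix.SpecialLinearGroup (Fin m) F,
      (φ A : Matrix (Fin (m + 1)) (Fin (m + 1)) F) = B (Matrix.fromBlocks 1 0 0 (A : Matrix _ _ F)) :=
    fun A => rfl
  let T : Matrix (Fin 1 ⊕ Fin m) (Fin 1 ⊕ Fin m) F := Matrix.fromBlocks (-1) 0 0 1
  have hTT : T * T = 1 := by simp [T, Matrix.fromBlocks_multiply]
  let t : GL (Fin (m + 1)) F := ⟨B T, B T, by rw [← map_mul, hTT, map_one], by rw [← map_mul, hTT, map_one]⟩
  have htval : (t : Matrix (Fin (m + 1)) (Fin (m + 1)) F) = B T := rfl
  have ht2 : orderOf t = 2 := by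
    refine orderOf_eq_prime ?_ ?_
    · exact Units.ext (by rw [sq, Units.val_mul, htval, ← map_mul, hTT, map_one, Units.val_one])
    · intro h
      have h' : B T = B 1 := by rw [map_one, ← htval, h, Units.val_one]
      have := congrFun (congrFun (hBinj h') (Sum.inl 0)) (Sum.inl 0)
      simp [T] at this
      exact hneg this
  have hmem : ∀ g : GL (Fin (m + 1)) F, g ∈ Subgroup.centralizer ({t} : Set _) ↔
      ∃ a d, (g : Matrix (Fin (m + 1)) (Fin (m + 1)) F) = B (Matrix.fromBlocks a 0 0 d) := by
    intro g
    rw [Subgroup.mem_centralizer_singleton_iff]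
    obtain ⟨M, hM⟩ := hBsurj (g : Matrix (Fin (m + 1)) (Fin (m + 1)) F)
    constructor
    · intro h
      have h' : B (M * T) = B (T * M) := by
        rw [map_mul, map_mul, hM, ← htval, ← Units.val_mul, ← Units.val_mul, h]
      obtain ⟨a, b, c, d, rfl⟩ : ∃ a b c d, M = Matrix.fromBlocks a b c d :=
        ⟨_, _, _, _, (Matrix.fromBlocks_toBlocks M).symm⟩
      have h'' := hBinj h'
      simp [T, Matrix.fromBlocks_multiply, Matrix.fromBlocks_inj] at h''
      have key : ∀ x : F, -x = x ∨ x = -x → x = 0 := fun x hx => by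
        have : (2 : F) * x = 0 := by rcases hx with hx | hx <;> [linear_combination -hx; linear_combination hx]
        exact (mul_eq_zero.1 this).resolve_left h2
      have hb : b = 0 := by
        ext i j
        refine key _ ?_
        have := congrFun (congrFun h''.1 i) j
        simp only [Matrix.neg_apply] at this
        first | exact Or.inl this | exact Or.inr this
      have hc : c = 0 := by
        ext i j
        refine key _ ?_
        have := congrFun (congrFun h''.2 i) j
        simp only [Matrix.neg_apply] at this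
        first | exact Or.inl this | exact Or.inr this
      exact ⟨a, d, by rw [← hM, hb, hc]⟩
    · rintro ⟨a, d, hg⟩
      apply Units.ext
      rw [Units.val_mul, Units.val_mul, hg, htval, ← map_mul, ← map_mul]
      simp [T, Matrix.fromBlocks_multiply]
  have hφmem : ∀ A, φ A ∈ Subgroup.centralizer ({t} : Set (GL (Fin (m + 1)) F)) :=
    fun A => (hmem _).2 ⟨_, _, hφval A⟩
  have hφinj : Function.Injective φ := by
    intro A A' h
    have := hBinj (by rw [← hφval, ← hφval, h] : B (Matrix.fromBlocks 1 0 0 (A : Matrix _ _ F)) =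
      B (Matrix.fromBlocks 1 0 0 (A' : Matrix _ _ F)))
    exact Subtype.ext (Matrix.fromBlocks_inj.1 this).2.2.2
  refine ⟨t, ht2, ?_, ?_⟩
  · -- not central
    intro hz
    let S : Matrix (Fin (m + 1)) (Fin (m + 1)) F := Matrix.transvection (e (Sum.inl 0)) (e (Sum.inr ⟨0, by omega⟩)) 1
    have hS : S.det = 1 := Matrix.det_transvection_of_ne _ _ (fun h => by simp at h) _
    let s : GL (Fin (m + 1)) F := Matrix.GeneralLinearGroup.mkOfDetNeZero S (by rw [hS]; exact one_ne_zero)
    have := Subgroup.mem_center_iff.1 hz s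
    obtain ⟨a, d, hg⟩ := (hmem s).1 (Subgroup.mem_centralizer_singleton_iff.2 this)
    have h1 := congrFun (congrFun hg (e (Sum.inl 0))) (e (Sum.inr ⟨0, by omega⟩))
    simp [s, S, B, Matrix.transvection, Matrix.single] at h1
  · set C := Subgroup.centralizer ({t} : Set (GL (Fin (m + 1)) F))
    let ψ : Matrix.SpecialLinearGroup (Fin m) F →* C := φ.codRestrict C hφmem
    have hN : ψ.range.Normal := by
      refine ⟨fun x hx g => ?_⟩
      obtain ⟨A, rfl⟩ := hx
      obtain ⟨a, d, hg⟩ := (hmem _).1 g.2
      obtain ⟨a', d', hg'⟩ := (hmem _).1 (g⁻¹).2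
      have hmul : Matrix.fromBlocks a 0 0 d * Matrix.fromBlocks a' 0 0 d' = 1 := by
        apply hBinj
        rw [map_mul, map_one, ← hg, ← hg', ← Units.val_mul, Subgroup.coe_inv, mul_inv_cancel,
          Units.val_one]
      rw [Matrix.fromBlocks_multiply, ← Matrix.fromBlocks_one, Matrix.fromBlocks_inj] at hmul
      simp only [Matrix.mul_zero, Matrix.zero_mul, add_zero, zero_add] at hmul
      have hdet : (d * (A : Matrix (Fin m) (Fin m) F) * d').det = 1 := by
        rw [Matrix.det_mul, Matrix.det_mul, A.2, mul_one, ← Matrix.det_mul, hmul.2.2.2, Matrix.det_one]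
      let A' : Matrix.SpecialLinearGroup (Fin m) F := ⟨_, hdet⟩
      refine ⟨A', ?_⟩
      apply Subtype.ext
      apply Units.ext
      show (φ A' : Matrix (Fin (m + 1)) (Fin (m + 1)) F) = _
      rw [hφval, Subgroup.coe_mul, Subgroup.coe_mul, Units.val_mul, Units.val_mul]
      show _ = _ * (φ A : Matrix (Fin (m + 1)) (Fin (m + 1)) F) * _
      rw [hφval, hg, hg', ← map_mul, ← map_mul]
      congr 1
      simp [Matrix.fromBlocks_multiply, hmul.1, A']
    set O := Cfsg.oddCore ↥C
    let f : Matrix.SpecialLinearGroup (Fin m) F →* C ⧸ O := (QuotientGroup.mk' O).comp ψ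
    refine ⟨f.range, ?_, ?_⟩
    · have hnorm : f.range.Normal := by
        rw [MonoidHom.range_comp]
        exact hN.map _ (QuotientGroup.mk'_surjective O)
      exact hnorm.isSubnormal
    · have : Nontrivial f.range := by
        rw [Subgroup.nontrivial_iff_ne_bot, ne_eq, MonoidHom.range_eq_bot_iff]
        intro hf
        have hle : ψ.range ≤ O := by
          rintro _ ⟨A, rfl⟩
          exact (QuotientGroup.eq_one_iff _).1 (DFunLike.congr_fun hf A)
        have hodd : Odd (Nat.card O) := Nat.coprime_two_right.1 (Cfsg.Agent.Core.coprime_card_pPrimeCore (p := 2) (G := C))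
        have hm2 : 2 ≤ m := by omega
        let i0 : Fin m := ⟨0, by omega⟩
        let i1 : Fin m := ⟨1, by omega⟩
        have hi : i0 ≠ i1 := by simp [i0, i1, Fin.ext_iff]
        let v : Fin m → F := fun i => if i = i0 ∨ i = i1 then -1 else 1
        have hv : (Matrix.diagonal v).det = 1 := by
          rw [Matrix.det_diagonal, Finset.prod_eq_mul i0 i1 hi]
          · simp [v]
          · intro c _ hc; simp [v, hc.1, hc.2]
          · simp
          · simp
        let s : Matrix.SpecialLinearGroup (Fin m) F := ⟨Matrix.diagonal v, hv⟩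
        have hs : orderOf s = 2 := by
          refine orderOf_eq_prime ?_ ?_
          · apply Subtype.ext
            rw [sq, Matrix.SpecialLinearGroup.coe_mul, Matrix.SpecialLinearGroup.coe_one]
            show Matrix.diagonal v * Matrix.diagonal v = 1
            rw [Matrix.diagonal_mul_diagonal, ← Matrix.diagonal_one]
            congr 1
            funext i
            by_cases h : i = i0 ∨ i = i1 <;> simp [v, h]
          · intro h
            have := congrArg (fun x : Matrix.SpecialLinearGroup (Fin m) F => x i0 i0) h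
            simp [s, v] at this
            exact hneg this
        have hs' : orderOf (ψ s) = 2 := by
          rw [orderOf_injective ψ (fun a b h => hφinj (congrArg Subtype.val h)), hs]
        have hdvd := Subgroup.orderOf_dvd_natCard O (hle ⟨s, rfl⟩)
        rw [hs'] at hdvd
        exact (Nat.not_even_iff_odd.2 hodd) (even_iff_two_dvd.2 hdvd)
      exact Layer.qs_of_surjective hqs f.rangeRestrict f.rangeRestrict_surjective

end Cfsg.Agent.S1340
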