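import Cfsg.Statements.S1346
import Cfsg.Agent.Layer.CoreBalance

set_option autoImplicit false
open Cfsg

namespace Cfsg.Agent.S1346

/-- Let G be a finite group all of whose 2-local subgroups have known non-abelian composition factors, and x, y commuting involutions. Then the extended 2-layer of L*_{2'}(C_G(x)) ∩ C_G(y) (as a group) is contained in L*_{2'}(C_G(y)). -/
theorem result {G : Type*} [Group G] [Finite G] (hK : ∀ T : Subgroup G, IsPGroup 2 ↥T → T ≠ ⊥ → Cfsg.IsCompositionKGroup ↥(Subgroup.normalizer (T : Set G))) (x y : G) (hx : orderOf x = 2) (hy : orderOf y = 2) (hxy : x * y = y * x) : (Cfsg.extendedTwoLayer ↥((Cfsg.extendedTwoLayer ↥(Subgroup.centralizer ({x} : Set G))).map (Subgroup.centralizer ({x} : Set G)).subtype ⊓ Subgroup.centralizer ({y} : Set G))).map ((Cfsg.extendedTwoLayer ↥(Subgroup.centralizer ({x} : Set G))).map (Subgroup.centralizer ({x} : Set G)).subtype ⊓ Subgroup.centralizer ({y} : Set G)).subtype ≤ (Cfsg.extendedTwoLayer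 ↥(Subgroup.centralizer ({y} : Set G))).map (Subgroup.centralizer ({y} : Set G)).subtype := by
  classical
  set Cx := Subgroup.centralizer ({x} : Set G) with hCx
  set Cy := Subgroup.centralizer ({y} : Set G) with hCy
  set Y := (Cfsg.extendedTwoLayer ↥Cx).map Cx.subtype ⊓ Cy with hY
  have hYle : Y ≤ Cy := inf_le_right
  have hxCy : x ∈ Cy := Subgroup.mem_centralizer_singleton_iff.mpr hxy
  set R : Subgroup ↥Cy := Subgroup.zpowers ⟨x, hxCy⟩ with hR
  haveI : Fact (Nat.Prime 2) := ⟨Nat.prime_two⟩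
  have hRp : IsPGroup 2 ↥R := IsPGroup.of_card (n := 1) (by
    rw [hR, Nat.card_zpowers, ← Subgroup.orderOf_coe, pow_one]; exact hx)
  have hCR : ∀ g : ↥Cy, g ∈ Subgroup.centralizer (R : Set ↥Cy) ↔ (g : G) ∈ Cx := by
    intro g
    rw [hR, Subgroup.zpowers_eq_closure, Subgroup.centralizer_closure, hCx,
      Subgroup.mem_centralizer_singleton_iff, Subgroup.mem_centralizer_singleton_iff]
    exact ⟨fun h => congrArg Subtype.val h, fun h => Subtype.ext h⟩
  have hι := Subgroup.inclusion_injective hYle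
  have h := Cfsg.Agent.Layer.map_extendedTwoLayer_le (Subgroup.inclusion hYle) hι hRp (by
    rintro _ ⟨g, rfl⟩
    exact (hCR _).mpr (Subgroup.map_subtype_le _ g.2.1)) (by
    intro c hc
    haveI := Cfsg.Agent.Layer.extendedTwoLayer_normal (X := ↥Cx)
    refine Cfsg.Agent.Layer.mem_normalizer_of_conj_mem ?_
    rintro _ ⟨g, rfl⟩
    obtain ⟨⟨l, hl, hlg⟩, hg⟩ := g.2
    refine ⟨⟨(c : G) * g * (c : G)⁻¹, ⟨⟨⟨c, (hCR c).mp hc⟩ * l * ⟨c, (hCR c).mp hc⟩⁻¹,
      Subgroup.Normal.conj_mem inferInstance l hl _, ?_⟩, Cy.mul_mem (Cy.mul_mem c.2 hg) (Cy.inv_mem c.2)⟩⟩, rfl⟩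
    show (c : G) * (l : G) * (c : G)⁻¹ = _
    rw [show (l : G) = (g : G) from hlg])
  have h2 := Subgroup.map_mono (f := Cy.subtype) h
  rw [Subgroup.map_map] at h2
  exact h2

end Cfsg.Agent.S1346
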