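import Cfsg.Statements.S1349
import Cfsg.Agent.Core.Fitting
import Cfsg.Agent.Core.Solvable
import Cfsg.Agent.Coprime.PCoreTools
import Cfsg.Agent.S0206

set_option autoImplicit false
open Cfsg

namespace Cfsg.Agent.S1349

open Subgroup
open scoped Pointwise

section aux
variable {G : Type*} [Group G] [Finite G]

theorem eq_one_of_sq {H : Subgroup G} (hodd : Odd (Nat.card H)) {u : G} (hu : u ∈ H) (h2 : u * u = 1) :
    u = 1 := by
  have h : orderOf u ∣ 1 := by
    rw [← Nat.coprime_two_left.mpr hodd]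
    exact Nat.dvd_gcd (orderOf_dvd_of_pow_eq_one (by rw [sq]; exact h2)) (Subgroup.orderOf_dvd_natCard H hu)
  exact orderOf_eq_one_iff.mp (Nat.dvd_one.mp h)

/-- An involution centralizing a normal `F` and fixing `C(F) ∩ K` centralizes `K`. -/
theorem fix_of_fix {K F : Subgroup G} (hodd : Odd (Nat.card K)) {a : G} (ha2 : a * a = 1)
    (haK : ∀ l ∈ K, a * l * a⁻¹ ∈ K) (hKF : K ≤ normalizer (F : Set G))
    (haF : a ∈ centralizer (F : Set G)) (hC : K ⊓ centralizer (F : Set G) ≤ F) {l : G} (hl : l ∈ K) :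
    a * l * a⁻¹ = l := by
  set u := a * l * a⁻¹ * l⁻¹ with hu
  have hai : a⁻¹ = a := inv_eq_of_mul_eq_one_right ha2
  have hfix : ∀ f ∈ F, a * f * a⁻¹ = f := fun f hf => by
    rw [← mem_centralizer_iff.mp haF f hf, mul_inv_cancel_right]
  have hinvfix : ∀ f ∈ F, a⁻¹ * f * a = f := fun f hf => by
    conv_lhs => rw [← hfix f hf]
    group
  have huK : u ∈ K := K.mul_mem (haK l hl) (K.inv_mem hl)
  have huC : u ∈ centralizer (F : Set G) := by
    refine mem_centralizer_iff.mpr fun f hf => ?_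
    have h1 : a * l * a⁻¹ * f * (a * l * a⁻¹)⁻¹ = l * f * l⁻¹ := by
      calc a * l * a⁻¹ * f * (a * l * a⁻¹)⁻¹ = a * (l * (a⁻¹ * f * a) * l⁻¹) * a⁻¹ := by group
        _ = l * f * l⁻¹ := by rw [hinvfix f hf]; exact hfix _ ((mem_normalizer_iff.mp (hKF hl) f).mp hf)
    have hg : l⁻¹ * f * l ∈ F := (mem_normalizer_iff''.mp (hKF hl) f).mp hf
    have h1' : a * l * a⁻¹ * (l⁻¹ * f * l) * (a * l * a⁻¹)⁻¹ = f := by
      calc a * l * a⁻¹ * (l⁻¹ * f * l) * (a * l * a⁻¹)⁻¹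
          = a * (l * (a⁻¹ * (l⁻¹ * f * l) * a) * l⁻¹) * a⁻¹ := by group
        _ = a * f * a⁻¹ := by rw [hinvfix _ hg]; group
        _ = f := hfix f hf
    calc f * u = a * l * a⁻¹ * (l⁻¹ * f * l) * (a * l * a⁻¹)⁻¹ * u := by rw [h1']
      _ = u * f := by rw [hu]; group
  have huF : u ∈ F := hC ⟨huK, huC⟩
  have h2 : u * u = 1 := by
    have e1 : a * u * a⁻¹ = u⁻¹ := by
      rw [hu, hai]
      simp only [mul_inv_rev, inv_inv, mul_assoc, hai]
      simp only [← mul_assoc, ha2, one_mul]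
    rw [hfix u huF] at e1
    conv_lhs => arg 1; rw [e1]
    exact inv_mul_cancel u
  exact mul_inv_eq_one.mp (eq_one_of_sq hodd huK h2)

/-- An eigenvector for `A` in an abelian section `T / M`. -/
theorem exists_eigen {A T M : Subgroup G} (hA : ∀ a ∈ A, ∀ b ∈ A, a * b = b * a)
    (hA2 : ∀ a ∈ A, a * a = 1) (hMn : T ≤ normalizer (M : Set G)) (hMT : M ≤ T)
    (hab : ∀ x ∈ T, ∀ y ∈ T, x * y * x⁻¹ * y⁻¹ ∈ M)
    (hAT : ∀ a ∈ A, ∀ x ∈ T, a * x * a⁻¹ ∈ T) (hAM : ∀ a ∈ A, ∀ x ∈ M, a * x * a⁻¹ ∈ M)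
    (hne : ¬ T ≤ M) :
    ∃ t ∈ T, t ∉ M ∧ ∀ a ∈ A, a * t * a⁻¹ * t⁻¹ ∈ M ∨ a * t * a⁻¹ * t ∈ M := by
  classical
  haveI : (M.subgroupOf T).Normal := (normal_subgroupOf_iff_le_normalizer hMT).mpr hMn
  set π := QuotientGroup.mk' (M.subgroupOf T)
  have hcomm : ∀ u v : T ⧸ M.subgroupOf T, u * v = v * u := by
    intro u v
    obtain ⟨x, rfl⟩ := QuotientGroup.mk'_surjective _ u
    obtain ⟨y, rfl⟩ := QuotientGroup.mk'_surjective _ v
    rw [← mul_inv_eq_iff_eq_mul, ← mul_inv_eq_one]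
    rw [← map_mul, ← map_inv, ← map_mul, ← map_inv, ← map_mul]
    exact (QuotientGroup.eq_one_iff _).mpr (by simpa [mem_subgroupOf] using hab x x.2 y y.2)
  let σ : A → (T →* T) := fun a => MonoidHom.mk' (fun x => ⟨a * x * (a : G)⁻¹, hAT a a.2 x x.2⟩)
    (fun x y => Subtype.ext (by show (a : G) * (x * y) * (a : G)⁻¹ = a * x * (a : G)⁻¹ * (a * y * (a : G)⁻¹); group))
  have hσM : ∀ a, M.subgroupOf T ≤ (M.subgroupOf T).comap (σ a) := fun a x hx => hAM a a.2 x hx
  let τ : A → (T ⧸ M.subgroupOf T →* T ⧸ M.subgroupOf T) := fun a => QuotientGroup.map _ _ (σ a) (hσM a)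
  have hττ : ∀ a b u, τ a (τ b u) = τ b (τ a u) := by
    intro a b u
    obtain ⟨x, rfl⟩ := QuotientGroup.mk'_surjective _ u
    refine congrArg π (Subtype.ext ?_)
    show (a : G) * (b * x * (b : G)⁻¹) * (a : G)⁻¹ = b * (a * x * (a : G)⁻¹) * (b : G)⁻¹
    calc (a : G) * (b * x * (b : G)⁻¹) * (a : G)⁻¹ = (a * b) * x * ((a : G) * b)⁻¹ := by group
      _ = (b * a) * x * ((b : G) * a)⁻¹ := by rw [hA a a.2 b b.2]
      _ = _ := by group
  have hτ2 : ∀ a u, τ a (τ a u) = u := by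
    intro a u
    obtain ⟨x, rfl⟩ := QuotientGroup.mk'_surjective _ u
    refine congrArg π (Subtype.ext ?_)
    show (a : G) * (a * x * (a : G)⁻¹) * (a : G)⁻¹ = x
    calc (a : G) * (a * x * (a : G)⁻¹) * (a : G)⁻¹ = (a * a) * x * ((a : G) * a)⁻¹ := by group
      _ = x := by rw [hA2 a a.2]; group
  obtain ⟨x0, hx0T, hx0M⟩ := SetLike.not_le_iff_exists.mp hne
  have key : ∀ s : Finset A, ∃ u : T ⧸ M.subgroupOf T, u ≠ 1 ∧ ∀ a ∈ s, τ a u = u ∨ τ a u = u⁻¹ := by
    intro s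
    induction s using Finset.induction_on with
    | empty => exact ⟨π ⟨x0, hx0T⟩, fun e => hx0M (mem_subgroupOf.mp ((QuotientGroup.eq_one_iff (N := M.subgroupOf T) _).mp e)), fun a ha => absurd ha (Finset.notMem_empty a)⟩
    | @insert a s _ ih =>
      obtain ⟨u, hu, hs⟩ := ih
      by_cases h : u * τ a u = 1
      · refine ⟨u, hu, fun b hb => ?_⟩
        rcases Finset.mem_insert.mp hb with rfl | hb
        · exact Or.inr (eq_inv_of_mul_eq_one_right h)
        · exact hs b hb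
      · refine ⟨u * τ a u, h, fun b hb => ?_⟩
        rcases Finset.mem_insert.mp hb with rfl | hb
        · left; rw [map_mul, hτ2, hcomm]
        · rcases hs b hb with h1 | h1
          · left; rw [map_mul, hττ b a u, h1]
          · right; rw [map_mul, hττ b a u, h1, map_inv, mul_inv_rev, hcomm]
  haveI := Fintype.ofFinite A
  obtain ⟨u, hu, hall⟩ := key Finset.univ
  obtain ⟨t, rfl⟩ := QuotientGroup.mk'_surjective _ u
  refine ⟨t, t.2, fun h => hu ((QuotientGroup.eq_one_iff _).mpr h), fun a ha => ?_⟩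
  rcases hall ⟨a, ha⟩ (Finset.mem_univ _) with h | h
  · left
    have h' : π (σ ⟨a, ha⟩ t * t⁻¹) = 1 := by
      rw [map_mul, map_inv, show π (σ ⟨a, ha⟩ t) = π t from h, mul_inv_cancel]
    exact mem_subgroupOf.mp ((QuotientGroup.eq_one_iff (N := M.subgroupOf T) _).mp h')
  · right
    have h' : π (σ ⟨a, ha⟩ t * t) = 1 := by
      rw [map_mul, show π (σ ⟨a, ha⟩ t) = (π t)⁻¹ from h, inv_mul_cancel]
    exact mem_subgroupOf.mp ((QuotientGroup.eq_one_iff (N := M.subgroupOf T) _).mp h')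

/-- A faithful abelian subgroup gives the dihedral pairs. -/
theorem pairs {A M : Subgroup G} (hA : ∀ a ∈ A, ∀ b ∈ A, a * b = b * a) (hA2 : ∀ a ∈ A, a * a = 1)
    (hM : ∀ a ∈ M, ∀ b ∈ M, a * b = b * a) (hodd : Odd (Nat.card M))
    (hAM : ∀ a ∈ A, ∀ x ∈ M, a * x * a⁻¹ ∈ M)
    (hf : ∀ a ∈ A, (∀ x ∈ M, a * x * a⁻¹ = x) → a = 1) (B : Subgroup G) (hB : B ≤ A) :
    ∃ (k : ℕ) (b m : Fin k → G), Nat.card B = 2 ^ k ∧ (∀ i, b i ∈ B ∧ b i ≠ 1 ∧ m i ∈ M ∧ m i ≠ 1 ∧
        b i * m i * (b i)⁻¹ = (m i)⁻¹ ∧ ∀ a ∈ A, a * m i * a⁻¹ = m i ∨ a * m i * a⁻¹ = (m i)⁻¹) ∧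
      (⨆ i, zpowers (b i)) = B ∧ ∀ i j, i ≠ j → b i * m j * (b i)⁻¹ = m j := by
  classical
  induction hn : Nat.card B using Nat.strong_induction_on generalizing B with
  | _ n IH =>
  subst hn
  by_cases hB1 : B = ⊥
  · exact ⟨0, Fin.elim0, Fin.elim0, by rw [hB1, card_bot, pow_zero], fun i => i.elim0,
      by rw [iSup_of_empty, hB1], fun i => i.elim0⟩
  obtain ⟨b1, hb1, hb11⟩ := (bot_or_exists_ne_one B).resolve_left hB1
  have hb1A := hB hb1
  let T : Subgroup G :=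
    { carrier := {x | x ∈ M ∧ b1 * x * b1⁻¹ = x⁻¹}
      one_mem' := ⟨M.one_mem, by group⟩
      mul_mem' := fun {x y} hx hy => ⟨M.mul_mem hx.1 hy.1, by
        rw [show b1 * (x * y) * b1⁻¹ = (b1 * x * b1⁻¹) * (b1 * y * b1⁻¹) by group, hx.2, hy.2,
          ← mul_inv_rev, hM y hy.1 x hx.1]⟩
      inv_mem' := fun {x} hx => ⟨M.inv_mem hx.1, by
        rw [show b1 * x⁻¹ * b1⁻¹ = (b1 * x * b1⁻¹)⁻¹ by group, hx.2]⟩ }
  have hTne : ¬ T ≤ ⊥ := by
    intro hT
    refine hb11 (hf b1 hb1A fun x hx => ?_)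
    have h1 : b1 * x * b1⁻¹ * x⁻¹ ∈ T := by
      refine ⟨M.mul_mem (hAM b1 hb1A x hx) (M.inv_mem hx), ?_⟩
      calc b1 * (b1 * x * b1⁻¹ * x⁻¹) * b1⁻¹ = (b1 * b1) * x * (b1 * b1)⁻¹ * (b1 * x * b1⁻¹)⁻¹ := by group
        _ = x * (b1 * x * b1⁻¹)⁻¹ := by rw [hA2 b1 hb1A]; group
        _ = _ := by group
    exact mul_inv_eq_one.mp (mem_bot.mp (hT h1))
  obtain ⟨t, htT, ht1, hte⟩ := exists_eigen (A := A) (T := T) (M := ⊥) hA hA2
    (fun x _ => mem_normalizer_iff.mpr fun z => by simp) bot_le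
    (fun x hx y hy => by rw [mem_bot, hM x hx.1 y hy.1]; group)
    (fun a ha x hx => ⟨hAM a ha x hx.1, by
      calc b1 * (a * x * a⁻¹) * b1⁻¹ = (b1 * a) * x * (b1 * a)⁻¹ := by group
        _ = (a * b1) * x * (a * b1)⁻¹ := by rw [hA b1 hb1A a ha]
        _ = a * (b1 * x * b1⁻¹) * a⁻¹ := by group
        _ = (a * x * a⁻¹)⁻¹ := by rw [hx.2]; group⟩)
    (fun a _ x hx => by rw [mem_bot] at hx ⊢; rw [hx]; group) hTne
  rw [mem_bot] at ht1
  have hte' : ∀ a ∈ A, a * t * a⁻¹ = t ∨ a * t * a⁻¹ = t⁻¹ := fun a ha => by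
    rcases hte a ha with h | h
    · exact Or.inl (mul_inv_eq_one.mp (mem_bot.mp h))
    · exact Or.inr (eq_inv_of_mul_eq_one_left (mem_bot.mp h))
  have htti : t⁻¹ ≠ t := fun e => ht1 (eq_one_of_sq hodd htT.1 (by nth_rw 1 [← e]; exact inv_mul_cancel t))
  set B' := B ⊓ centralizer ({t} : Set G) with hB'
  have hfix' : ∀ c ∈ B', c * t * c⁻¹ = t := fun c hc => by
    rw [mem_centralizer_singleton_iff.mp hc.2, mul_inv_cancel_right]
  have hlt : B' < B := lt_of_le_of_ne inf_le_left fun e => htti (by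
    rw [← htT.2]; exact hfix' b1 (e.symm ▸ hb1))
  obtain ⟨k, b, m, hk, hp, hgen, hcr⟩ := IH _ (Set.Finite.card_lt_card (Set.toFinite _)
    (SetLike.coe_ssubset_coe.mpr hlt)) B' (inf_le_left.trans hB) rfl
  have hstep : ∀ s : Finset (Fin k), ∃ c ∈ B, c * t * c⁻¹ = t⁻¹ ∧ ∀ i ∈ s, c * m i * c⁻¹ = m i := by
    intro s
    induction s using Finset.induction_on with
    | empty => exact ⟨b1, hb1, htT.2, fun i hi => absurd hi (Finset.notMem_empty i)⟩
    | @insert i s his ih =>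
      obtain ⟨c, hc, hct, hcs⟩ := ih
      rcases (hp i).2.2.2.2.2 c (hB hc) with h | h
      · exact ⟨c, hc, hct, fun j hj => (Finset.mem_insert.mp hj).elim (fun e => e ▸ h) (hcs j)⟩
      · refine ⟨c * b i, B.mul_mem hc (hp i).1.1, ?_, fun j hj => ?_⟩
        · rw [show c * b i * t * (c * b i)⁻¹ = c * (b i * t * (b i)⁻¹) * c⁻¹ by group, hfix' _ (hp i).1, hct]
        · rw [show c * b i * m j * (c * b i)⁻¹ = c * (b i * m j * (b i)⁻¹) * c⁻¹ by group]
          rcases Finset.mem_insert.mp hj with rfl | hj'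
          · rw [(hp j).2.2.2.2.1, show c * (m j)⁻¹ * c⁻¹ = (c * m j * c⁻¹)⁻¹ by group, h, inv_inv]
          · rw [hcr i j (fun e => his (e ▸ hj')), hcs j hj']
  obtain ⟨c, hc, hct, hcs⟩ := hstep Finset.univ
  have hcov : ∀ x ∈ B, x ∈ B' ∨ x * c ∈ B' := by
    intro x hx
    rcases hte' x (hB hx) with h | h
    · exact Or.inl ⟨hx, mem_centralizer_singleton_iff.mpr (mul_inv_eq_iff_eq_mul.mp h)⟩
    · refine Or.inr ⟨B.mul_mem hx hc, mem_centralizer_singleton_iff.mpr (mul_inv_eq_iff_eq_mul.mp ?_)⟩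
      rw [show x * c * t * (x * c)⁻¹ = x * (c * t * c⁻¹) * x⁻¹ by group, hct,
        show x * t⁻¹ * x⁻¹ = (x * t * x⁻¹)⁻¹ by group, h, inv_inv]
  have hcc : c * c = 1 := hA2 c (hB hc)
  have hcB' : c ∉ B' := fun h => htti (hct ▸ hfix' c h)
  have hcard : Nat.card B = Nat.card B' * 2 := by
    refine le_antisymm ?_ ?_
    · have h2 : Nat.card (B' × Fin 2) = Nat.card B' * 2 := by rw [Nat.card_prod, Nat.card_fin]
      rw [← h2]
      refine Nat.card_le_card_of_surjective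
        (fun q : B' × Fin 2 => (⟨(q.1 : G) * c ^ (q.2 : ℕ), B.mul_mem q.1.2.1 (B.pow_mem hc _)⟩ : B)) ?_
      intro x
      rcases hcov x x.2 with h | h
      · exact ⟨(⟨x, h⟩, 0), Subtype.ext (by simp)⟩
      · exact ⟨(⟨x * c, h⟩, 1), Subtype.ext (by simp [mul_assoc, hcc])⟩
    · obtain ⟨q, hq⟩ := card_dvd_of_le (inf_le_left : B' ≤ B)
      have := Set.Finite.card_lt_card (Set.toFinite _) (SetLike.coe_ssubset_coe.mpr hlt)
      simp only [SetLike.coe_sort_coe] at this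
      have h3 : Nat.card B' < Nat.card B' * q := hq ▸ this
      rw [hq]
      refine Nat.mul_le_mul_left _ ?_
      by_contra hh
      interval_cases q <;> omega
  refine ⟨k + 1, Fin.cons c b, Fin.cons t m, hcard.trans ((congrArg (· * 2) hk).trans (pow_succ 2 k).symm), ?_, ?_, ?_⟩
  · intro i
    induction i using Fin.cases with
    | zero => simp only [Fin.cons_zero]; exact ⟨hc, fun e => hcB' (e ▸ B'.one_mem), htT.1, ht1, hct, hte'⟩
    | succ j =>
      simp only [Fin.cons_succ]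
      obtain ⟨h1, h2, h3, h4, h5, h6⟩ := hp j
      exact ⟨h1.1, h2, h3, h4, h5, h6⟩
  · refine le_antisymm (iSup_le fun i => zpowers_le.mpr ?_) fun x hx => ?_
    · induction i using Fin.cases with
      | zero => simpa using hc
      | succ j => simpa using (hp j).1.1
    · have hB'le : B' ≤ ⨆ i, zpowers ((Fin.cons c b : Fin (k + 1) → G) i) := by
        rw [← hgen]
        refine iSup_le fun i => ?_
        have h : zpowers ((Fin.cons c b : Fin (k + 1) → G) i.succ) ≤ ⨆ j, zpowers ((Fin.cons c b : Fin (k + 1) → G) j) :=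
          le_iSup (fun j => zpowers ((Fin.cons c b : Fin (k + 1) → G) j)) i.succ
        rwa [Fin.cons_succ] at h
      have hcmem : c ∈ ⨆ i, zpowers ((Fin.cons c b : Fin (k + 1) → G) i) :=
        mem_iSup_of_mem 0 (by rw [Fin.cons_zero]; exact mem_zpowers c)
      rcases hcov x hx with h | h
      · exact hB'le h
      · have := mul_mem (hB'le h) hcmem
        rwa [mul_assoc, hcc, mul_one] at this
  · intro i j hij
    induction i using Fin.cases with
    | zero =>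
      induction j using Fin.cases with
      | zero => exact absurd rfl hij
      | succ j => simpa using hcs j (Finset.mem_univ j)
    | succ i =>
      induction j using Fin.cases with
      | zero => simpa using hfix' _ (hp i).1
      | succ j => simpa using hcr i j (fun e => hij (congrArg Fin.succ e))

end aux

/-- Let G be finite, L ≤ G solvable of odd order, and A an elementary abelian 2-subgroup of order 2^d (d ≥ 1) normalizing L with C_A(L) = 1. Then there are subgroups A_1, …, A_d of A of order 2 generating A and subgroups L_1, …, L_d of L such that each A_i ⊔ L_i is dihedral of order 2 n_i with n_i odd and at least 3, and A_i ⊔ L_i commutes elementwise with A_j ⊔ L_j for i ≠ j. -/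
theorem result {G : Type*} [Group G] [Finite G] (L A : Subgroup G) (hLs : Group.IsSolvable ↥L) (hLodd : Odd (Nat.card ↥L)) (hA : Cfsg.IsElementaryAbelian 2 A) (d : ℕ) (hd : 1 ≤ d) (hAd : Nat.card ↥A = 2 ^ d) (hAL : A ≤ Subgroup.normalizer (L : Set G)) (hfaith : A ⊓ Subgroup.centralizer (L : Set G) = ⊥) : ∃ (Ai : Fin d → Subgroup G) (Li : Fin d → Subgroup G) (n : Fin d → ℕ), (∀ i, Ai i ≤ A ∧ Nat.card ↥(Ai i) = 2 ∧ Li i ≤ L ∧ Odd (n i) ∧ 3 ≤ n i ∧ Nonempty (↥(Ai i ⊔ Li i) ≃* DihedralGroup (n i))) ∧ (⨆ i, Ai i) = A ∧ ∀ i j, i ≠ j → ∀ x ∈ Ai i ⊔ Li i, ∀ y ∈ Ai j ⊔ Li j, x * y = y * x := by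
  classical
  have hAc : ∀ a ∈ A, ∀ b ∈ A, a * b = b * a := fun a ha b hb =>
    congrArg Subtype.val (hA.1.is_comm.comm (⟨a, ha⟩ : A) ⟨b, hb⟩)
  have hA2 : ∀ a ∈ A, a * a = 1 := fun a ha => by rw [← sq]; exact hA.2 a ha
  haveI := hLs
  set F := (Cfsg.fittingSubgroup L).map L.subtype with hF
  have hFL : F ≤ L := map_subtype_le _
  have hAF : A ≤ normalizer (F : Set G) :=
    Coprime.le_normalizer_map_of_characteristic hAL _ inferInstance
  have hLF : L ≤ normalizer (F : Set G) :=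
    Coprime.le_normalizer_map_of_characteristic le_normalizer _ inferInstance
  have hCF : L ⊓ centralizer (F : Set G) ≤ F := fun x hx => by
    refine ⟨⟨x, hx.1⟩, Core.centralizer_fittingSubgroup_le (mem_centralizer_iff.mpr fun f hf => ?_), rfl⟩
    exact Subtype.ext (mem_centralizer_iff.mp hx.2 f ⟨f, hf, rfl⟩)
  have haL : ∀ a ∈ A, ∀ l ∈ L, a * l * a⁻¹ ∈ L := fun a ha l hl => (mem_normalizer_iff.mp (hAL ha) l).mp hl
  have haF : ∀ a ∈ A, ∀ f ∈ F, a * f * a⁻¹ ∈ F := fun a ha f hf => (mem_normalizer_iff.mp (hAF ha) f).mp hf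
  have hFn : Group.IsNilpotent F :=
    (Group.isNilpotent_congr ((Cfsg.fittingSubgroup L).equivMapOfInjective L.subtype L.subtype_injective)).mp inferInstance
  haveI := hFn
  have hFodd : Odd (Nat.card F) := hLodd.of_dvd_nat (card_dvd_of_le hFL)
  -- a maximal abelian normal invariant subgroup of `F`
  obtain ⟨M, ⟨hMF, hMc, hMA, hMn⟩, hMmax⟩ := Set.exists_max_image
    {M : Subgroup G | M ≤ F ∧ (∀ a ∈ M, ∀ b ∈ M, a * b = b * a) ∧ (∀ a ∈ A, ∀ x ∈ M, a * x * a⁻¹ ∈ M) ∧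
      F ≤ normalizer (M : Set G)}
    (fun M => Nat.card M) (Set.toFinite _) ⟨⊥, bot_le, by simp, by simp, fun x _ => mem_normalizer_iff.mpr fun y => by simp⟩
  have hCM : F ⊓ centralizer (M : Set G) ≤ M := by
    by_contra hne
    set Y := F ⊓ centralizer (M : Set G)
    haveI : (M.subgroupOf F).Normal := (normal_subgroupOf_iff_le_normalizer hMF).mpr hMn
    haveI : (Y.subgroupOf F).Normal := (normal_subgroupOf_iff_le_normalizer inf_le_left).mpr
      (Coprime.le_normalizer_inf le_normalizer (Coprime.le_normalizer_centralizer hMn))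
    set π := QuotientGroup.mk' (M.subgroupOf F)
    haveI : ((Y.subgroupOf F).map π).Normal := Subgroup.Normal.map inferInstance π (QuotientGroup.mk'_surjective _)
    let T : Subgroup G := (((Y.subgroupOf F).map π ⊓ center _).comap π).map F.subtype
    have hMY : M ≤ Y := le_inf hMF fun x hx => mem_centralizer_iff.mpr fun y hy => hMc y hy x hx
    have hTY : T ≤ Y := by
      rintro _ ⟨x, hx, rfl⟩
      obtain ⟨z, hz, he⟩ := hx.1
      have : z⁻¹ * x ∈ M.subgroupOf F := QuotientGroup.eq.mp he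
      have h2 := mul_mem hz (show z⁻¹ * x ∈ Y.subgroupOf F from hMY this)
      rwa [mul_inv_cancel_left] at h2
    have hMT : M ≤ T := fun x hx => ⟨⟨x, hMF hx⟩, by
      rw [SetLike.mem_coe, Subgroup.mem_comap, show π ⟨x, hMF hx⟩ = 1 from (QuotientGroup.eq_one_iff _).mpr hx]
      exact one_mem _, rfl⟩
    have hcentral : ∀ f ∈ F, ∀ x ∈ T, f * x * f⁻¹ * x⁻¹ ∈ M := by
      rintro f hf _ ⟨x, hx, rfl⟩
      have h := mem_center_iff.mp hx.2 (π ⟨f, hf⟩)
      have h' : π (⟨f, hf⟩ * x * (⟨f, hf⟩ : F)⁻¹ * x⁻¹) = 1 := by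
        rw [map_mul, map_mul, map_mul, map_inv, map_inv, h]; group
      exact mem_subgroupOf.mp ((QuotientGroup.eq_one_iff (N := M.subgroupOf F) _).mp h')
    have hTA : ∀ a ∈ A, ∀ x ∈ T, a * x * a⁻¹ ∈ T := by
      intro a ha x hx
      have hxY := hTY hx
      have haxF : a * x * a⁻¹ ∈ F := haF a ha x hxY.1
      refine ⟨⟨_, haxF⟩, ⟨mem_map_of_mem π ?_, mem_center_iff.mpr fun u => ?_⟩, rfl⟩
      · refine ⟨haxF, mem_centralizer_iff.mpr fun m hm => ?_⟩
        have h1 := hMA a⁻¹ (A.inv_mem ha) m hm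
        rw [inv_inv] at h1
        calc m * (a * x * a⁻¹) = a * ((a⁻¹ * m * a) * x) * a⁻¹ := by group
          _ = a * (x * (a⁻¹ * m * a)) * a⁻¹ := by rw [mem_centralizer_iff.mp hxY.2 _ h1]
          _ = a * x * a⁻¹ * m := by group
      · obtain ⟨f, rfl⟩ := QuotientGroup.mk'_surjective _ u
        have hf' : a⁻¹ * f * a ∈ F := by
          have := haF a⁻¹ (A.inv_mem ha) f f.2
          rwa [inv_inv] at this
        rw [← map_mul, ← map_mul]
        refine QuotientGroup.eq.mpr ?_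
        have h2 := hMA a ha _ (hcentral _ hf' x hx)
        have h3 : (((f * ⟨_, haxF⟩ : F)⁻¹ * (⟨_, haxF⟩ * f) : F) : G) =
            ((f : G) * (a * x * a⁻¹))⁻¹ * (a * (a⁻¹ * f * a * x * (a⁻¹ * f * a)⁻¹ * x⁻¹) * a⁻¹)⁻¹ *
              ((f : G) * (a * x * a⁻¹)) := by
          simp only [Subgroup.coe_mul, InvMemClass.coe_inv]; group
        rw [mem_subgroupOf, h3]
        exact (mem_normalizer_iff''.mp (hMn (mul_mem f.2 haxF)) _).mp (inv_mem h2)
    have hTne : ¬ T ≤ M := by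
      intro hTM
      have hne' : (Y.subgroupOf F).map π ≠ ⊥ := by
        rw [Ne, Subgroup.map_eq_bot_iff, QuotientGroup.ker_mk']
        exact fun h => hne fun y hy => h (show (⟨y, hy.1⟩ : F) ∈ Y.subgroupOf F from hy)
      haveI : Group.IsNilpotent (F ⧸ M.subgroupOf F) :=
        Group.nilpotent_of_surjective π (QuotientGroup.mk'_surjective _)
      obtain ⟨z, hz, hz1⟩ := (bot_or_exists_ne_one _).resolve_left (Core.inf_center_ne_bot hne')
      obtain ⟨x, rfl⟩ := QuotientGroup.mk'_surjective _ z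
      exact hz1 ((QuotientGroup.eq_one_iff _).mpr (hTM ⟨x, hz, rfl⟩))
    obtain ⟨t, ht, htM, hte⟩ := exists_eigen hAc hA2 ((hTY.trans inf_le_left).trans hMn) hMT
      (fun x hx y hy => hcentral x (hTY hx).1 y hy) hTA hMA hTne
    have hzN : zpowers t ≤ normalizer (M : Set G) := zpowers_le.mpr (hMn (hTY ht).1)
    have hinv : ∀ (g : G), (∀ x ∈ M, g * x * g⁻¹ ∈ M) → g * t * g⁻¹ ∈ M ⊔ zpowers t →
        ∀ x ∈ M ⊔ zpowers t, g * x * g⁻¹ ∈ M ⊔ zpowers t := by
      intro g h1 h2 x hx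
      rw [← SetLike.mem_coe, coe_mul_of_right_le_normalizer_left _ _ hzN] at hx
      obtain ⟨u, hu, _, ⟨i, rfl⟩, rfl⟩ := hx
      simp only
      rw [show g * (u * t ^ i) * g⁻¹ = (g * u * g⁻¹) * (g * t ^ i * g⁻¹) by group, ← conj_zpow]
      exact mul_mem (mem_sup_left (h1 u hu)) (zpow_mem h2 i)
    have hgt : ∀ f ∈ F, f * t * f⁻¹ ∈ M ⊔ zpowers t := fun f hf => by
      rw [show f * t * f⁻¹ = (f * t * f⁻¹ * t⁻¹) * t by group]
      exact mul_mem (mem_sup_left (hcentral f hf t ht)) (mem_sup_right (mem_zpowers t))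
    have hgM : ∀ f ∈ F, ∀ x ∈ M, f * x * f⁻¹ ∈ M := fun f hf x hx => (mem_normalizer_iff.mp (hMn hf) x).mp hx
    have hle := hMmax (M ⊔ zpowers t) ⟨sup_le hMF (zpowers_le.mpr (hTY ht).1), ?_, ?_, fun f hf => ?_⟩
    · exact htM ((eq_of_le_of_card_ge (le_sup_left : M ≤ M ⊔ zpowers t) hle).symm ▸ mem_sup_right (mem_zpowers t))
    · intro x hx y hy
      rw [← SetLike.mem_coe, coe_mul_of_right_le_normalizer_left _ _ hzN] at hx hy
      obtain ⟨u, hu, _, ⟨i, rfl⟩, rfl⟩ := hx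
      obtain ⟨v, hv, _, ⟨j, rfl⟩, rfl⟩ := hy
      have htc : ∀ w ∈ M, Commute w t := fun w hw => mem_centralizer_iff.mp (hTY ht).2 w hw
      exact (((show Commute u v from hMc u hu v hv).mul_right ((htc u hu).zpow_right j)).mul_left
        (((htc v hv).symm.zpow_left i).mul_right ((Commute.refl t).zpow_zpow i j))).eq
    · intro a ha x hx
      refine hinv a (hMA a ha) ?_ x hx
      rcases hte a ha with h | h
      · rw [show a * t * a⁻¹ = (a * t * a⁻¹ * t⁻¹) * t by group]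
        exact mul_mem (mem_sup_left h) (mem_sup_right (mem_zpowers t))
      · rw [show a * t * a⁻¹ = (a * t * a⁻¹ * t) * t⁻¹ by group]
        exact mul_mem (mem_sup_left h) (mem_sup_right (inv_mem (mem_zpowers t)))
    · refine mem_normalizer_iff.mpr fun x => ⟨hinv f (hgM f hf) (hgt f hf) x, fun hx => ?_⟩
      have := hinv f⁻¹ (hgM _ (inv_mem hf)) (hgt _ (inv_mem hf)) _ hx
      simpa [mul_assoc] using this
  -- faithfulness
  have hfM : ∀ a ∈ A, (∀ x ∈ M, a * x * a⁻¹ = x) → a = 1 := by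
    intro a ha hfix
    have hcM : a ∈ centralizer (M : Set G) :=
      mem_centralizer_iff.mpr fun x hx => (mul_inv_eq_iff_eq_mul.mp (hfix x hx)).symm
    have hfF : a ∈ centralizer (F : Set G) := mem_centralizer_iff.mpr fun f hf =>
      (mul_inv_eq_iff_eq_mul.mp (fix_of_fix hFodd (hA2 a ha) (haF a ha) hMn hcM hCM hf)).symm
    have hfL : a ∈ centralizer (L : Set G) := mem_centralizer_iff.mpr fun l hl =>
      (mul_inv_eq_iff_eq_mul.mp (fix_of_fix hLodd (hA2 a ha) (haL a ha) hLF hfF hCF hl)).symm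
    rw [← mem_bot, ← hfaith]
    exact ⟨ha, hfL⟩
  obtain ⟨k, b, m, hk, hp, hgen, hcr⟩ := pairs hAc hA2 hMc (hFodd.of_dvd_nat (card_dvd_of_le hMF)) hMA hfM A le_rfl
  obtain rfl : k = d := Nat.pow_right_injective le_rfl (hk.symm.trans hAd)
  have hord : ∀ i, orderOf (b i) = 2 := fun i =>
    orderOf_eq_prime (by rw [sq]; exact hA2 _ (hp i).1) (hp i).2.1
  have hbai : ∀ i, (b i)⁻¹ = b i := fun i => inv_eq_of_mul_eq_one_right (hA2 _ (hp i).1)
  refine ⟨fun i => zpowers (b i), fun i => zpowers (m i), fun i => orderOf (m i), fun i => ?_, hgen, fun i j hij => ?_⟩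
  · obtain ⟨hbA, hb1, hmM, hm1, hinvm, -⟩ := hp i
    have hoddm : Odd (orderOf (m i)) := hLodd.of_dvd_nat (Subgroup.orderOf_dvd_natCard L (hFL (hMF hmM)))
    refine ⟨zpowers_le.mpr hbA, by rw [Nat.card_zpowers, hord i], zpowers_le.mpr (hFL (hMF hmM)), hoddm, ?_, ?_⟩
    · have h1 : orderOf (m i) ≠ 1 := fun e => hm1 (orderOf_eq_one_iff.mp e)
      obtain ⟨q, hq⟩ := hoddm
      show 3 ≤ orderOf (m i)
      omega
    · have hy : orderOf (b i * m i) = 2 := by
        refine orderOf_eq_prime ?_ fun e => ?_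
        · rw [sq, show b i * m i * (b i * m i) = (b i * m i * b i) * m i by group]
          nth_rw 2 [← hbai i]
          rw [hinvm, inv_mul_cancel]
        · have hmb : m i = b i := by rw [← hbai i]; exact eq_inv_of_mul_eq_one_right e
          exact hm1 (eq_one_of_sq (hLodd) (hFL (hMF hmM)) (by rw [hmb]; exact hA2 _ hbA))
      have hne : b i ≠ b i * m i := fun e => hm1 (left_eq_mul.mp e)
      obtain ⟨e⟩ := Cfsg.Agent.S0206.result (b i) (b i * m i) (hord i) hy hne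
      rw [show b i * (b i * m i) = m i by rw [← mul_assoc, hA2 _ hbA, one_mul]] at e
      have hcl : zpowers (b i) ⊔ zpowers (m i) = closure ({b i, b i * m i} : Set G) := by
        refine le_antisymm (sup_le (zpowers_le.mpr (subset_closure (by simp))) (zpowers_le.mpr ?_))
          ((closure_le _).mpr ?_)
        · have h1 := mul_mem (inv_mem (subset_closure (show b i ∈ ({b i, b i * m i} : Set G) by simp)))
            (subset_closure (show b i * m i ∈ ({b i, b i * m i} : Set G) by simp))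
          simpa using h1
        · rintro x (rfl | rfl)
          · exact mem_sup_left (mem_zpowers _)
          · exact mul_mem (mem_sup_left (mem_zpowers _)) (mem_sup_right (mem_zpowers _))
      exact ⟨(MulEquiv.subgroupCongr hcl).trans e⟩
  · have hcomm : ∀ (u v : G), (u = b i ∨ u = m i) → (v = b j ∨ v = m j) → Commute u v := by
      rintro u v (rfl | rfl) (rfl | rfl)
      · exact hAc _ (hp i).1 _ (hp j).1
      · exact mul_inv_eq_iff_eq_mul.mp (hcr i j hij)
      · exact (mul_inv_eq_iff_eq_mul.mp (hcr j i (Ne.symm hij))).symm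
      · exact hMc _ (hp i).2.2.1 _ (hp j).2.2.1
    have hle : zpowers (b i) ⊔ zpowers (m i) ≤
        centralizer ((zpowers (b j) ⊔ zpowers (m j) : Subgroup G) : Set G) := by
      have hv : ∀ v, (v = b j ∨ v = m j) →
          v ∈ centralizer ((zpowers (b i) ⊔ zpowers (m i) : Subgroup G) : Set G) := by
        intro v hv
        refine mem_centralizer_iff.mpr fun x hx => ?_
        have h : zpowers (b i) ⊔ zpowers (m i) ≤ centralizer ({v} : Set G) :=
          sup_le (zpowers_le.mpr (mem_centralizer_singleton_iff.mpr (hcomm _ _ (Or.inl rfl) hv).eq))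
            (zpowers_le.mpr (mem_centralizer_singleton_iff.mpr (hcomm _ _ (Or.inr rfl) hv).eq))
        exact mem_centralizer_singleton_iff.mp (h hx)
      exact le_centralizer_iff.mp (sup_le (zpowers_le.mpr (hv _ (Or.inl rfl))) (zpowers_le.mpr (hv _ (Or.inr rfl))))
    intro x hx y hy
    exact (mem_centralizer_iff.mp (hle hx) y hy).symm

end Cfsg.Agent.S1349
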