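import Cfsg.Statements.S1350
import Cfsg.Agent.OddLocal.AlphaSigma
-- import your own Cfsg.Agent.* helpers here

set_option autoImplicit false
open Cfsg

namespace Cfsg.Agent.S1350

/-- Let G be a minimal simple group of odd order and M a maximal subgroup. Then M_σ (the largest normal σ(M)-subgroup of M) is a Hall σ(M)-subgroup of M and also of G, and every Hall σ(M)-subgroup of M that is normal in M equals M_σ. -/
theorem result {G : Type*} [Group G] [Finite G] (hG : Cfsg.IsMinSimpleOddOrder G)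
    (M : Subgroup G) (hM : IsCoatom M) :
    Cfsg.IsPiHallOf (Cfsg.sigma M) (Cfsg.sigmaCore M) M ∧ Cfsg.IsPiHall (Cfsg.sigma M) (Cfsg.sigmaCore M) ∧
      ∀ N : Subgroup G, M ≤ Subgroup.normalizer (N : Set G) → Cfsg.IsPiHallOf (Cfsg.sigma M) N M →
        N = Cfsg.sigmaCore M := by
  have h := OddLocal.isPiHallOf_sigmaCore hG hM
  refine ⟨h, OddLocal.isPiHall_of_sigma hG hM subset_rfl h, fun N hN hNh => ?_⟩
  have hle : N ≤ Cfsg.sigmaCore M := OddLocal.le_piCoreOf hNh.1 hN hNh.2.1
  refine le_antisymm hle ?_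
  rw [← Subgroup.relIndex_eq_one]
  by_contra hne
  obtain ⟨q, hq, hqd⟩ := Nat.exists_prime_and_dvd hne
  refine hNh.2.2 q hq (h.2.1 q hq (hqd.trans (Subgroup.relIndex_dvd_card _ _))) (hqd.trans ?_)
  rw [← Subgroup.relIndex_mul_relIndex N (Cfsg.sigmaCore M) M hle h.1]
  exact Dvd.intro _ rfl

end Cfsg.Agent.S1350
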