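import Cfsg.Statements.S1354
import Cfsg.Agent.OddLocal.KappaDecomp
-- import your own Cfsg.Agent.* helpers here

set_option autoImplicit false
open Cfsg Cfsg.Agent Cfsg.Agent.OddLocal Subgroup

namespace Cfsg.Agent.S1354

/-- Let G be a minimal simple group of odd order, M a maximal subgroup and K a cyclic Hall κ(M)-subgroup of M, and put K* = M_σ ∩ C_G(K). Then K* ≠ 1, and if K ≠ 1 then for every non-identity k ∈ K the centralizer C_M(k) is the subgroup generated by K and K* (an internal direct product, as K ∩ M_σ = 1 and K* centralizes K). -/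
theorem result {G : Type*} [Group G] [Finite G] (hG : Cfsg.IsMinSimpleOddOrder G)
    (M : Subgroup G) (hM : IsCoatom M) (K : Subgroup G)
    (hKc : IsCyclic K) (hK : Cfsg.IsPiHallOf (Cfsg.kappa M) K M) :
    Cfsg.sigmaCore M ⊓ Subgroup.centralizer (K : Set G) ≠ ⊥ ∧
      (K ≠ ⊥ → ∀ k ∈ K, k ≠ 1 →
        M ⊓ Subgroup.centralizer ({k} : Set G) = K ⊔ (Cfsg.sigmaCore M ⊓ Subgroup.centralizer (K : Set G))) := by
  obtain ⟨E, hE, hKE⟩ := exists_compl_ge_of_not_sigma hG hM hK.1
    (fun s hs hd => (hK.2.1 s hs hd).2.2.1)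
  by_cases hK1 : K = ⊥
  · subst hK1
    refine ⟨?_, fun h => absurd rfl h⟩
    rw [show centralizer ((⊥ : Subgroup G) : Set G) = ⊤ from eq_top_iff.mpr fun g _ =>
      mem_centralizer_iff.mpr fun a ha => by
        rw [SetLike.mem_coe, mem_bot] at ha
        rw [ha, one_mul, mul_one], inf_top_eq]
    exact sigmaCore_ne_bot hG hM
  obtain ⟨hne, hfix, -, hX⟩ := kappa_structure hG hM hE hK hK1 hKE
  refine ⟨hne, fun _ k hk hk1 => le_antisymm ?_ (sup_le (le_inf hK.1 ?_)
    (le_inf (inf_le_left.trans (sigmaCore_le M))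
      (inf_le_right.trans (centralizer_le (Set.singleton_subset_iff.mpr hk)))))⟩
  · have hle : M ⊓ centralizer ({k} : Set G) ≤ M ⊓ normalizer (zpowers k : Set G) := by
      refine inf_le_inf_left _ ?_
      rw [← centralizer_zpowers]
      exact centralizer_le_normalizer _
    intro m hm
    obtain ⟨s, hs, hsd⟩ := Nat.exists_prime_and_dvd (mt orderOf_eq_one_iff.mp hk1)
    haveI := Fact.mk hs
    set k' := k ^ (orderOf k / s) with hk'
    have hko : orderOf k' = s := orderOf_pow_orderOf_div (orderOf_pos k).ne' hsd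
    have hmC : m ∈ centralizer (zpowers k' : Set G) := by
      rw [centralizer_zpowers]
      exact mem_centralizer_of_commute
        ((show Commute m k from mem_centralizer_singleton_iff.mp hm.2).pow_right _)
    obtain ⟨-, hEX⟩ := hX (X := zpowers k') (by rw [Nat.card_zpowers, hko])
      (zpowers_le.mpr (K.pow_mem hk _))
    have hk'1 : k' ≠ 1 := fun e => hs.ne_one (by rw [← hko, e, orderOf_one])
    refine ((inf_normalizer_compl_le hG hM hE ((zpowers_le.mpr (K.pow_mem hk _)).trans hKE)).trans
      (sup_le_sup hEX ?_)) ⟨hm.1, centralizer_le_normalizer _ hmC⟩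
    rw [centralizer_zpowers, hfix k' (K.pow_mem hk _) hk'1]
  · haveI := hKc
    exact le_centralizer_of_isMulCommutative le_rfl le_rfl inferInstance |>.trans
      (centralizer_le (Set.singleton_subset_iff.mpr hk))

end Cfsg.Agent.S1354
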