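import Cfsg.Statements.S1359
import Cfsg.Agent.OddLocal.UStructure
-- import your own Cfsg.Agent.* helpers here

set_option autoImplicit false
open Cfsg Cfsg.Agent Cfsg.Agent.OddLocal Subgroup

namespace Cfsg.Agent.S1359

/-- Let G be a minimal simple group of odd order and M a maximal subgroup with standard factorisation M = K U M_σ. Then the subgroup generated by those elements of U which centralize some non-identity element of M_σ is abelian. -/
theorem result {G : Type*} [Group G] [Finite G] (hG : Cfsg.IsMinSimpleOddOrder G)
    (M : Subgroup G) (hM : IsCoatom M) (K U : Subgroup G) (hKU : Cfsg.IsSigmaDecomposition M K U) :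
    IsMulCommutative (Subgroup.closure ((U : Set G) ∩ Cfsg.sigmaHat M)) := by
  obtain ⟨A, hA, hle⟩ := exists_comm_stabilizer_U hG hM hKU
  refine isMulCommutative_of_le ((Subgroup.closure_le A).mpr ?_) hA
  rintro u ⟨hu, -, y, hy, hy1, huy⟩
  exact hle y hy hy1 ⟨hu, mem_centralizer_singleton_iff.mpr huy⟩

end Cfsg.Agent.S1359
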