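import Cfsg.Statements.S1367
import Cfsg.Agent.OddLocal.KappaPartner
-- import your own Cfsg.Agent.* helpers here

set_option autoImplicit false
open Cfsg Cfsg.Agent Cfsg.Agent.OddLocal Subgroup

namespace Cfsg.Agent.S1367

/-- Let G be a minimal simple group of odd order, M a maximal subgroup with standard factorisation M = K U M_σ, K ≠ 1, K* = M_σ ∩ C_G(K), and M* a maximal subgroup with K = M*_σ ∩ C_G(K*) and K* a Hall κ(M*)-subgroup of M*. Then for subgroups X ≤ K* and Y ≤ K of prime order, M is the only maximal subgroup containing C_G(X) and M* the only one containing C_G(Y). -/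
theorem result {G : Type*} [Group G] [Finite G] (hG : Cfsg.IsMinSimpleOddOrder G)
    (M : Subgroup G) (hM : IsCoatom M) (K U : Subgroup G) (hKU : Cfsg.IsSigmaDecomposition M K U) (hK1 : K ≠ ⊥) (Mstar : Subgroup G) (hMstar : IsCoatom Mstar)
    (hKst : K = Cfsg.sigmaCore Mstar ⊓ Subgroup.centralizer ((Cfsg.sigmaCore M ⊓ Subgroup.centralizer (K : Set G)) : Set G))
    (hKstH : Cfsg.IsPiHallOf (Cfsg.kappa Mstar) (Cfsg.sigmaCore M ⊓ Subgroup.centralizer (K : Set G)) Mstar) :
    (∀ X : Subgroup G, X ≤ (Cfsg.sigmaCore M ⊓ Subgroup.centralizer (K : Set G)) → (Nat.card X).Prime →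
        Subgroup.centralizer (X : Set G) ≤ M ∧ ∀ L : Subgroup G, IsCoatom L → Subgroup.centralizer (X : Set G) ≤ L → L = M) ∧
      (∀ Y : Subgroup G, Y ≤ K → (Nat.card Y).Prime →
        Subgroup.centralizer (Y : Set G) ≤ Mstar ∧ ∀ L : Subgroup G, IsCoatom L → Subgroup.centralizer (Y : Set G) ≤ L → L = Mstar) := by
  have key : ∀ {N P : Subgroup G}, IsCoatom N → IsPiHallOf (kappa N) P N → P ≠ ⊥ →
      ∀ X : Subgroup G, X ≤ kStar N P → (Nat.card X).Prime →
        centralizer (X : Set G) ≤ N ∧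
          ∀ L : Subgroup G, IsCoatom L → centralizer (X : Set G) ≤ L → L = N := by
    intro N P hN hP hP1 X hX hp
    haveI := Fact.mk hp
    obtain ⟨y, hy, hy1, hyo, hyX⟩ := exists_generator_of_card (p := Nat.card X) (P := X) rfl
    rw [← hyX, centralizer_zpowers]
    exact (kappa_fixed_prime hG hN hP hP1 (hX hy) hy1 hyo).1
  have hK := hKU.hall
  refine ⟨fun X hX hp => key hM hK hK1 X hX hp, fun Y hY hp => ?_⟩
  exact key hMstar hKstH (IsMember.kStar_ne_bot hG
    (⟨hM, hK, hK1, rfl⟩ : IsMember (K ⊔ kStar M K) M K)) Y (hY.trans hKst.le) hp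

end Cfsg.Agent.S1367
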