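import Cfsg.Statements.S1370
import Cfsg.Agent.OddLocal.KappaTI
-- import your own Cfsg.Agent.* helpers here

set_option autoImplicit false
open Cfsg Cfsg.Agent Cfsg.Agent.OddLocal Subgroup

namespace Cfsg.Agent.S1370

/-- Let G be a minimal simple group of odd order, M a maximal subgroup with standard factorisation M = K U M_σ, K ≠ 1, K* = M_σ ∩ C_G(K) and Z the subgroup generated by K and K*. Then the set of elements of Z lying in neither K nor K* is a TI-subset of G, and its set-normalizer in G is exactly Z. -/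
theorem result {G : Type*} [Group G] [Finite G] (hG : Cfsg.IsMinSimpleOddOrder G)
    (M : Subgroup G) (hM : IsCoatom M) (K U : Subgroup G) (hKU : Cfsg.IsSigmaDecomposition M K U) (hK1 : K ≠ ⊥) :
    Cfsg.IsTISubset ((↑(K ⊔ (Cfsg.sigmaCore M ⊓ Subgroup.centralizer (K : Set G))) : Set G) \ ((K : Set G) ∪ ↑(Cfsg.sigmaCore M ⊓ Subgroup.centralizer (K : Set G)))) ∧ Subgroup.normalizer ((↑(K ⊔ (Cfsg.sigmaCore M ⊓ Subgroup.centralizer (K : Set G))) : Set G) \ ((K : Set G) ∪ ↑(Cfsg.sigmaCore M ⊓ Subgroup.centralizer (K : Set G)))) = K ⊔ (Cfsg.sigmaCore M ⊓ Subgroup.centralizer (K : Set G)) := by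
  have hK := hKU.hall
  rw [show ((↑(K ⊔ (Cfsg.sigmaCore M ⊓ Subgroup.centralizer (K : Set G))) : Set G) \
      ((K : Set G) ∪ ↑(Cfsg.sigmaCore M ⊓ Subgroup.centralizer (K : Set G)))) =
      memberRest (K ⊔ kStar M K) from (memberRest_eq hG hM hK hK1).symm]
  have hm : IsMember (K ⊔ kStar M K) M K := ⟨hM, hK, hK1, rfl⟩
  haveI := kappa_W_comm hG hM hK hK1
  have hle : K ⊔ kStar M K ≤ normalizer (memberRest (K ⊔ kStar M K)) := by
    intro w hw
    have hfix : ∀ {w : G}, w ∈ K ⊔ kStar M K → ∀ x ∈ K ⊔ kStar M K, w * x * w⁻¹ = x :=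
      fun hw x hx => by rw [setLike_mul_comm hw hx, mul_inv_cancel_right]
    intro x
    constructor
    · intro hx
      rwa [hfix hw x hx.1]
    · intro hx
      have h2 := hfix (inv_mem hw) _ hx.1
      have h3 : w⁻¹ * (w * x * w⁻¹) * w⁻¹⁻¹ = x := by group
      rw [h3] at h2
      exact h2 ▸ hx
  refine ⟨fun g hg x hx hgx => absurd (hle (hm.mem_of_conj hG hx hgx)) hg,
    le_antisymm (fun g hg => ?_) hle⟩
  obtain ⟨a, ha, ha1⟩ := exists_mem_ne_one _ hK1
  obtain ⟨b, hb, hb1⟩ := exists_mem_ne_one _ (hm.kStar_ne_bot hG)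
  have hx := mul_mem_rest hG hM hK hK1 ha ha1 hb hb1
  exact hm.mem_of_conj hG hx ((hg (a * b)).mp hx)

end Cfsg.Agent.S1370
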