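import Cfsg.Statements.S1384
import Cfsg.Agent.OddLocal.HallFusion
-- import your own Cfsg.Agent.* helpers here

set_option autoImplicit false
open Cfsg Cfsg.Agent Cfsg.Agent.OddLocal Subgroup

namespace Cfsg.Agent.S1384

/-- Let G be a minimal simple group of odd order and H a nilpotent subgroup whose order is coprime to its index. If x ∈ H and gxg⁻¹ ∈ H for some g ∈ G, then nxn⁻¹ = gxg⁻¹ for some n in the normalizer of H. -/
theorem result {G : Type*} [Group G] [Finite G] (hG : Cfsg.IsMinSimpleOddOrder G)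
    (H : Subgroup G) (hHn : Group.IsNilpotent H) (hHall : (Nat.card H).Coprime H.index) :
    ∀ x ∈ H, ∀ g : G, g * x * g⁻¹ ∈ H → ∃ n ∈ Subgroup.normalizer (H : Set G), n * x * n⁻¹ = g * x * g⁻¹ := by
  intro x hx g hgx
  by_cases hH1 : H = ⊥
  · subst hH1
    rw [mem_bot] at hx
    exact ⟨1, one_mem _, by simp [hx]⟩
  obtain ⟨p, hp, hpd⟩ := exists_prime_dvd_of_ne_bot hH1
  haveI := Fact.mk hp
  have hidx : ∀ q : ℕ, q.Prime → q ∣ Nat.card H → ¬ q ∣ H.index := fun q hq h1 h2 =>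
    Nat.not_coprime_of_dvd_of_dvd hq.one_lt h1 h2 hHall
  obtain ⟨P⟩ : Nonempty (Sylow p H) := inferInstance
  set S := (P : Subgroup H).map H.subtype with hS
  have hS1 : S ≠ ⊥ := fun e => P.ne_bot_of_dvd_card hpd
    ((map_eq_bot_iff_of_injective _ H.subtype_injective).mp e)
  have hHS : H ≤ Subgroup.normalizer (S : Set G) := by
    refine hall_normal_of_nilpotent (π := {p}) hHn ⟨map_subtype_le _, fun r hr hd => ?_, ?_⟩
    · obtain ⟨i, hi⟩ := IsPGroup.iff_card.mp (P.2.map H.subtype)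
      exact (Nat.prime_dvd_prime_iff_eq hr hp).mp (hr.dvd_of_dvd_pow (hi ▸ hd))
    · rintro r hr rfl hd
      rw [hS, relIndex, subgroupOf, comap_map_eq_self_of_injective H.subtype_injective] at hd
      exact P.not_dvd_index hd
  obtain ⟨S', hS'⟩ := exists_sylow_of_relIndex (le_top : H ≤ ⊤)
    (by rw [relIndex_top_right]; exact hidx p hp hpd) P
  have hStop : Subgroup.normalizer (S : Set G) ≠ ⊤ :=
    ne_top_of_normal_ne_bot hG hS1 (ne_top_of_isPGroup_minSimple hG (P.2.map _))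
  obtain ⟨M, hM, hNM⟩ := (IsCoatomic.eq_top_or_exists_le_coatom _).resolve_left hStop
  have hHM : H ≤ M := hHS.trans hNM
  have hSM : S ≤ M := (map_subtype_le _).trans hHM
  have hidxM : ∀ q : ℕ, q.Prime → q ∣ Nat.card H → ¬ q ∣ H.relIndex M := fun q hq hd h =>
    hidx q hq hd (h.trans (by rw [← relIndex_mul_index hHM]; exact dvd_mul_right _ _))
  obtain ⟨PM, hPM⟩ := exists_sylow_of_relIndex hHM (hidxM p hp hpd) P
  have hpσ : p ∈ Cfsg.sigma M :=
    ⟨hp, hpd.trans (card_dvd_of_le hHM), PM, by rw [hPM]; exact hNM⟩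
  have hSσ : S ≤ Cfsg.sigmaCore M := le_sigmaCore_of_isPGroup hG hM hSM (P.2.map _) hpσ
  have hσ : ∀ q : ℕ, q.Prime → q ∣ Nat.card H → q ∈ Cfsg.sigma M := by
    intro q hq hqd
    by_contra hqσ
    haveI := Fact.mk hq
    have hqp : q ≠ p := fun e => hqσ (e ▸ hpσ)
    have hcomm : ∀ t ∈ H, (∃ k : ℕ, t ^ q ^ k = 1) → t ∈ centralizer (S : Set G) := by
      rintro t ht ⟨k, hk⟩
      refine mem_centralizer_iff.mpr fun s hs => (commute_of_mem hHn (map_subtype_le _ hs) ht ?_).eq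
      obtain ⟨i, hi⟩ := (P.2.map H.subtype).exists_orderOf_eq_pow ⟨s, hs⟩
      rw [Subgroup.orderOf_mk] at hi
      rw [hi]
      refine Nat.Coprime.coprime_dvd_right (orderOf_dvd_of_pow_eq_one hk) ?_
      exact Nat.Coprime.pow i k ((Nat.coprime_primes hp hq).mpr (Ne.symm hqp))
    obtain ⟨T⟩ : Nonempty (Sylow q H) := inferInstance
    obtain ⟨TM, hTM⟩ := exists_sylow_of_relIndex hHM (hidxM q hq hqd) T
    obtain ⟨⟨z, hz⟩, hzo⟩ := exists_prime_orderOf_dvd_card' q hqd
    rw [← orderOf_coe] at hzo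
    change orderOf z = q at hzo
    have hzS : zpowers z ≤ centralizer (S : Set G) :=
      zpowers_le.mpr (hcomm z hz ⟨1, by rw [pow_one, ← hzo, pow_orderOf_eq_one]⟩)
    have hzc : Nat.card (zpowers z) = q := by rw [Nat.card_zpowers, hzo]
    obtain ⟨E, hE, hzE⟩ := exists_compl_ge_of_not_sigma hG hM (zpowers_le.mpr (hHM hz))
      (fun l hl hd => (Nat.prime_dvd_prime_iff_eq hl hq).mp (hzc ▸ hd) ▸ hqσ)
    have hfix : Cfsg.sigmaCore M ⊓ centralizer (zpowers z : Set G) ≠ ⊥ :=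
      ne_bot_of_le_ne_bot hS1 (le_inf hSσ (le_centralizer_iff.mp hzS))
    have h13 : q ∈ Cfsg.tau1 M ∪ Cfsg.tau3 M := by
      rcases tau_cases hG hM hE (hzc.symm.dvd.trans (card_dvd_of_le hzE)) with h | h | h
      · exact Or.inl h
      · exfalso
        obtain ⟨-, A, hAT, hA⟩ := sylow_comm_of_tau2 hG hM h TM
        refine hS1 (le_bot_iff.mp (hA.fixed_eq_bot hG hM ▸ le_inf hSσ ?_))
        refine le_centralizer_iff.mp fun a ha => ?_
        have haT : a ∈ (T : Subgroup H).map H.subtype := hTM ▸ hAT ha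
        exact hcomm a (map_subtype_le _ haT) ⟨1, by rw [pow_one]; exact hA.elem.2 a ha⟩
      · exact Or.inr h
    have hqκ := kappa_of_fixed hG hM h13 hzc (zpowers_le.mpr (hHM hz)) hfix
    obtain ⟨K, hK, hzK, -⟩ := exists_kappa_hall hG hM hE hzE
      (fun l hl hd => (Nat.prime_dvd_prime_iff_eq hl hq).mp (hzc ▸ hd) ▸ hqκ)
    have hz1 : z ≠ 1 := fun e => hq.ne_one (by rw [← hzo, e, orderOf_one])
    have hK1 : K ≠ ⊥ := ne_bot_of_le_ne_bot (by rwa [Ne, zpowers_eq_bot]) hzK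
    have hSK : S ≤ Cfsg.sigmaCore M ⊓ centralizer (K : Set G) := by
      rw [← (Cfsg.Agent.S1430.result hG M hM K hK hK1).1 z (hzK (mem_zpowers z)) hz1,
        ← centralizer_zpowers]
      exact le_inf hSσ (le_centralizer_iff.mp hzS)
    obtain ⟨T', hT'⟩ := exists_sylow_ge (M := Cfsg.sigmaCore M) (P.2.map H.subtype) hSσ
    have hTS : (T' : Subgroup _).map (Cfsg.sigmaCore M).subtype = S := by
      have hcS : Nat.card S = p ^ (Nat.card G).factorization p := by
        rw [hS, ← hS', card_map_of_injective (Subgroup.subtype_injective _), S'.card_eq_multiplicity,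
          Subgroup.card_top]
      obtain ⟨Q, hQ⟩ := (T'.2.map (Cfsg.sigmaCore M).subtype).exists_le_sylow
      exact (eq_of_le_of_card_ge hT' (by
        rw [hcS, ← Q.card_eq_multiplicity]; exact Nat.le_of_dvd Nat.card_pos (card_dvd_of_le hQ))).symm
    exact (kappa_fixed_sylow hG hM hK hK1
      ((show p ∣ Nat.card S from by
        obtain ⟨i, hi⟩ := IsPGroup.iff_card.mp (P.2.map H.subtype)
        rcases i with _ | i
        · exact absurd (card_eq_one.mp (by rw [hi, pow_zero])) hS1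
        · rw [hi]; exact dvd_pow_self p i.succ_ne_zero).trans (card_dvd_of_le hSK)) T').2 (hTS.le.trans hSK)
  have hHσ : H ≤ Cfsg.sigmaCore M := le_sigmaCore hG hM hHM hσ
  have hH' : Cfsg.IsPiHallOf {r | r ∣ Nat.card H} H (Cfsg.sigmaCore M) :=
    ⟨hHσ, fun r _ hd => hd, fun r hr hd hd' => hidx r hr hd
      (hd'.trans (by rw [← relIndex_mul_index hHσ]; exact dvd_mul_right _ _))⟩
  obtain ⟨n, hn, hnx⟩ := hall_fusion hG hM hH' hx hgx
  exact ⟨n, hn.2, hnx⟩

end Cfsg.Agent.S1384
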