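import Cfsg.Statements.S1386
import Cfsg.Agent.Coprime.SchurZassenhaus
import Cfsg.Agent.Coprime.Tools
import Cfsg.Agent.OddLocal.Basic
-- import your own Cfsg.Agent.* helpers here

set_option autoImplicit false
open Cfsg

namespace Cfsg.Agent.S1386

/-- Let G be a finite group, W₁, W₂ subgroups forming a self-normalizing cyclic pair, S a subgroup with W₂ ≤ S and W₁ a complement to S' in S, and (W₁, U, W₂') type-P data for S. Then W₂' = W₂ (that is, C_{S'}(W₁) = W₂). -/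
theorem result {G : Type*} [Group G] [Finite G] (W₁ W₂ S U W₂' : Subgroup G) (hW : Cfsg.IsSelfNormalizingCyclic W₁ W₂)
    (hSW : Cfsg.IsComplIn ⁅S, S⁆ W₁ S) (hW₂S : W₂ ≤ S) (hP : Cfsg.IsTypePWith S W₁ U W₂') :
    W₂' = W₂ := by
  obtain ⟨-, hW₂ne, hinf, hcomm, hcyc, hN⟩ := hW
  obtain ⟨-, -, hinf', hcomm', hcyc', hN'⟩ := hP.selfNormalizing
  have hW₂'S : W₂' ≤ ⁅S, S⁆ := by
    obtain ⟨x, hx, hx1⟩ := (Subgroup.bot_or_exists_ne_one W₁).resolve_left hP.W₁_ne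
    rw [← hP.W₂_centralizer x hx hx1]
    exact inf_le_left
  have hdis : ⁅S, S⁆ ⊓ W₁ = ⊥ := hSW.2.2.1
  -- coprime orders in a cyclic direct product
  have cop : ∀ (B : Subgroup G), W₁ ⊓ B = ⊥ → (∀ a ∈ W₁, ∀ b ∈ B, a * b = b * a) →
      IsCyclic ↥(W₁ ⊔ B) →
      Nat.card (W₁ ⊔ B : Subgroup G) = Nat.card W₁ * Nat.card B ∧
        (Nat.card W₁).Coprime (Nat.card B) := by
    intro B hi hc hcy
    have hle : B ≤ Subgroup.normalizer (W₁ : Set G) := by
      intro b hb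
      rw [Subgroup.mem_normalizer_iff]
      intro a
      constructor
      · intro ha
        rwa [show b * a * b⁻¹ = a by rw [← hc a ha b hb, mul_inv_cancel_right]]
      · intro ha
        have := hc _ ha b hb
        rw [show b * a * b⁻¹ * b = b * a by group] at this
        rwa [mul_left_cancel this]
    have hcard := Coprime.card_sup_eq_mul hle hi
    refine ⟨hcard, ?_⟩
    obtain ⟨g, hg⟩ := hcy.exists_generator
    have hord : orderOf g = Nat.card W₁ * Nat.card B := by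
      rw [← hcard, orderOf_eq_card_of_forall_mem_zpowers hg]
    obtain ⟨a, ha, b, hb, hab⟩ := (Coprime.mem_sup_of_le_normalizer hle).mp g.2
    have hdvd : orderOf g ∣ Nat.lcm (Nat.card W₁) (Nat.card B) := by
      rw [← Subgroup.orderOf_coe, ← hab]
      exact ((show Commute a b from hc a ha b hb).orderOf_mul_dvd_lcm).trans
        (Nat.lcm_dvd ((Subgroup.orderOf_dvd_natCard _ ha).trans (Nat.dvd_lcm_left _ _)) ((Subgroup.orderOf_dvd_natCard _ hb).trans (Nat.dvd_lcm_right _ _)))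
    rw [hord, ← Nat.gcd_mul_lcm (Nat.card W₁) (Nat.card B)] at hdvd
    have hl : 0 < Nat.lcm (Nat.card W₁) (Nat.card B) := Nat.lcm_pos Nat.card_pos Nat.card_pos
    exact Nat.dvd_one.mp (Nat.dvd_of_mul_dvd_mul_right hl (by rwa [one_mul]))
  obtain ⟨hc1, hcp⟩ := cop W₂ hinf hcomm hcyc
  obtain ⟨hc2, -⟩ := cop W₂' hinf' hcomm' hcyc'
  -- `W₂ ≤ W₂'`
  have hle : W₂ ≤ W₂' := by
    intro b hb
    obtain ⟨s, hs, a, ha, hba⟩ := hSW.2.2.2 b (hW₂S hb)
    have hsC : ∀ x ∈ W₁, x * s = s * x := by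
      intro x hx
      have hs' : s = b * a⁻¹ := by rw [hba, mul_inv_cancel_right]
      have h1 : Commute x b := hcomm x hx b hb
      have h2 : Commute x a := congrArg Subtype.val (hP.W₁_cyclic.isMulCommutative.is_comm.comm ⟨x, hx⟩ ⟨a, ha⟩)
      rw [hs']
      exact h1.mul_right h2.inv_right
    have hpow : a ^ Nat.card W₂ = 1 := by
      have h1 : (s * a) ^ Nat.card W₂ = 1 :=
        hba ▸ orderOf_dvd_iff_pow_eq_one.mp (Subgroup.orderOf_dvd_natCard _ hb)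
      rw [(show Commute s a from (hsC a ha).symm).mul_pow] at h1
      have h2 : a ^ Nat.card W₂ ∈ ⁅S, S⁆ ⊓ W₁ :=
        ⟨by rw [eq_inv_of_mul_eq_one_right h1]; exact Subgroup.inv_mem _ (pow_mem hs _), pow_mem ha _⟩
      rwa [hdis] at h2
    have ha1 : a = 1 := orderOf_eq_one_iff.mp (Nat.dvd_one.mp (hcp.gcd_eq_one ▸
      Nat.dvd_gcd (Subgroup.orderOf_dvd_natCard _ ha) (orderOf_dvd_of_pow_eq_one hpow)))
    rw [hba, ha1, mul_one]
    obtain ⟨x, hx, hx1⟩ := (Subgroup.bot_or_exists_ne_one W₁).resolve_left hP.W₁_ne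
    rw [← hP.W₂_centralizer x hx hx1]
    exact ⟨hs, Subgroup.mem_centralizer_singleton_iff.mpr (hsC x hx).symm⟩
  refine (Subgroup.eq_of_le_of_card_ge hle ?_).symm
  -- `W₁ W₂' ≤ W₁ W₂`
  obtain ⟨a, ha, ha1⟩ := (Subgroup.bot_or_exists_ne_one W₁).resolve_left hP.W₁_ne
  obtain ⟨b, hb, hb1⟩ := (Subgroup.bot_or_exists_ne_one W₂).resolve_left hW₂ne
  have hab : a * b ∈ (↑(W₁ ⊔ W₂) : Set G) \ (↑W₁ ∪ ↑W₂) := by
    refine ⟨Subgroup.mul_mem_sup ha hb, ?_⟩
    rintro (h | h)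
    · exact hb1 (Subgroup.mem_bot.mp (hinf.le ⟨(W₁.mul_mem_cancel_left ha).mp h, hb⟩))
    · exact ha1 (Subgroup.mem_bot.mp (hinf.le ⟨ha, (W₂.mul_mem_cancel_right hb).mp h⟩))
  have hsup : W₁ ⊔ W₂' ≤ W₁ ⊔ W₂ := by
    rw [← hN {a * b} (Set.singleton_subset_iff.mpr hab) (Set.singleton_nonempty _)]
    intro w hw
    have hm : a * b ∈ W₁ ⊔ W₂' := Subgroup.mul_mem_sup ha (hle hb)
    have hwc : w * (a * b) = (a * b) * w :=
      congrArg Subtype.val (hcyc'.isMulCommutative.is_comm.comm ⟨w, hw⟩ ⟨a * b, hm⟩)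
    show w ∈ Subgroup.normalizer ({a * b} : Set G)
    rw [Subgroup.normalizer_singleton]
    exact Subgroup.mem_centralizer_singleton_iff.mpr hwc
  have := Subgroup.card_le_of_le hsup
  rw [hc1, hc2] at this
  exact Nat.le_of_mul_le_mul_left this Nat.card_pos

end Cfsg.Agent.S1386
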