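import Cfsg.Statements.S1388
import Cfsg.Agent.Coprime.SchurZassenhaus
import Cfsg.Agent.Coprime.Tools
import Cfsg.Agent.OddLocal.Basic
-- import your own Cfsg.Agent.* helpers here

set_option autoImplicit false
open Cfsg

namespace Cfsg.Agent.S1388

/-- Let M be a subgroup of a finite group G with type-P data (W₁, U, W₂) and H = M_F. Then the derived subgroup of U centralizes H, and if U ≠ 1 then U does not centralize H. -/
theorem result {G : Type*} [Group G] [Finite G] (M W₁ U W₂ : Subgroup G) (hP : Cfsg.IsTypePWith M W₁ U W₂) :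
    ⁅U, U⁆ ≤ Subgroup.centralizer (Cfsg.fittingHallOf M : Set G) ∧ (U ≠ ⊥ → ¬ U ≤ Subgroup.centralizer (Cfsg.fittingHallOf M : Set G)) := by
  have hUM : U ≤ M := hP.U_compl.2.1.trans (Subgroup.commutator_le_self M)
  have hHF : Cfsg.fittingHallOf M ≤ Cfsg.fittingOf M := hP.fitting_eq ▸ le_sup_left
  constructor
  · intro u hu
    exact OddLocal.mem_centralizer_fittingHallOf hUM hP.U_compl.2.2.1 hHF
      (Subgroup.commutator_le_self U hu) (hP.fitting_eq ▸ hP.derived_two_le
        (Subgroup.commutator_mono hP.U_compl.2.1 hP.U_compl.2.1 hu))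
  · intro hne hle
    apply hne
    -- `M' = M_F × U` is then a normal nilpotent Hall subgroup
    let f : Cfsg.fittingHallOf M × U →* M := MonoidHom.noncommCoprod
      (Subgroup.inclusion (OddLocal.fittingHallOf_le M)) (Subgroup.inclusion hUM)
      (fun h u => Subtype.ext (Subgroup.mem_centralizer_iff.mp (hle u.2) h h.2))
    have hrange : f.range = ⁅M, M⁆.subgroupOf M := by
      ext x
      rw [Subgroup.mem_subgroupOf]
      constructor
      · rintro ⟨⟨h, u⟩, rfl⟩
        exact mul_mem (hP.U_compl.1 h.2) (hP.U_compl.2.1 u.2)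
      · intro hx
        obtain ⟨h, hh, u, hu, e⟩ := hP.U_compl.2.2.2 _ hx
        exact ⟨(⟨h, hh⟩, ⟨u, hu⟩), Subtype.ext e.symm⟩
    have : Group.IsNilpotent (Cfsg.fittingHallOf M) :=
      Core.isNilpotent_mono (OddLocal.isNilpotent_fittingOf M) hHF
    have := hP.U_nilpotent
    have hnil : Group.IsNilpotent (⁅M, M⁆.subgroupOf M) :=
      hrange ▸ Group.nilpotent_of_surjective f.rangeRestrict f.rangeRestrict_surjective
    have hnorm : (⁅M, M⁆.subgroupOf M).Normal := by
      have : ⁅M, M⁆.subgroupOf M = commutator M := by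
        rw [← Subgroup.map_subtype_commutator, Subgroup.subgroupOf,
          Subgroup.comap_map_eq_self_of_injective M.subtype_injective]
      rw [this]
      infer_instance
    have hdis : ⁅M, M⁆.subgroupOf M ⊓ W₁.subgroupOf M = ⊥ := by
      simp only [Subgroup.subgroupOf]
      rw [← Subgroup.comap_inf, hP.W₁_compl.2.2.1, MonoidHom.comap_bot, M.ker_subtype]
    have hsup : ∀ m : M, ∃ a ∈ ⁅M, M⁆.subgroupOf M, ∃ b ∈ W₁.subgroupOf M, m = a * b := by
      intro m
      obtain ⟨a, ha, b, hb, e⟩ := hP.W₁_compl.2.2.2 _ m.2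
      exact ⟨⟨a, hP.W₁_compl.1 ha⟩, ha, ⟨b, hP.W₁_compl.2.1 hb⟩, hb, Subtype.ext e⟩
    have hcompl : Subgroup.IsComplement' (⁅M, M⁆.subgroupOf M) (W₁.subgroupOf M) :=
      Coprime.isComplement'_of_inf_sup hdis (eq_top_iff.mpr fun m _ => by
        obtain ⟨a, ha, b, hb, rfl⟩ := hsup m
        exact Subgroup.mul_mem_sup ha hb)
    have hhall : (Nat.card (⁅M, M⁆.subgroupOf M)).Coprime (⁅M, M⁆.subgroupOf M).index := by
      rw [← hcompl.index_eq_card, hcompl.symm.index_eq_card,
        Nat.card_congr (Subgroup.subgroupOfEquivOfLe hP.W₁_compl.2.1).toEquiv]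
      exact hP.W₁_hall.symm
    have hMH : ⁅M, M⁆ ≤ Cfsg.fittingHallOf M := fun x hx =>
      ⟨⟨x, hP.W₁_compl.1 hx⟩, (le_sSup ⟨hnorm, hnil, hhall⟩ :
        ⁅M, M⁆.subgroupOf M ≤ Cfsg.fittingHall M) hx, rfl⟩
    rw [eq_bot_iff, ← hP.U_compl.2.2.1]
    exact le_inf (hP.U_compl.2.1.trans hMH) le_rfl

end Cfsg.Agent.S1388
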