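import Cfsg.Statements.S1389
import Cfsg.Agent.OddLocal.TypeCore

set_option autoImplicit false
open Cfsg

namespace Cfsg.Agent.S1389

/-- Let G be a minimal simple group of odd order and M a maximal subgroup, and let M_s be M' if M is of Type III or IV and M_F otherwise. Then N_G(P) ≤ M for every nontrivial Sylow subgroup P of M_s, and both M_F and M_s have order coprime to their index in G. -/
theorem result {G : Type*} [Group G] [Finite G] (hG : Cfsg.IsMinSimpleOddOrder G)
    (M : Subgroup G) (hM : IsCoatom M) :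
    (∀ (p : ℕ), p.Prime → ∀ (P : Sylow p ↥(Cfsg.typeCore M)), (P : Subgroup ↥(Cfsg.typeCore M)) ≠ ⊥ →
        Subgroup.normalizer ((((P : Subgroup ↥(Cfsg.typeCore M)).map (Cfsg.typeCore M).subtype : Subgroup G)) : Set G) ≤ M) ∧
      (Nat.card (Cfsg.fittingHallOf M)).Coprime (Cfsg.fittingHallOf M).index ∧
      (Nat.card (Cfsg.typeCore M)).Coprime (Cfsg.typeCore M).index := by
  rw [OddLocal.typeCore_eq hG hM]
  refine ⟨fun p hp P hP1 => ?_, OddLocal.coprime_index_fittingHallOf hG hM,
    OddLocal.coprime_index_sigmaCore hG hM⟩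
  haveI := Fact.mk hp
  have hpσ : p ∈ Cfsg.sigma M := by
    obtain ⟨r, hr, hd⟩ := OddLocal.exists_prime_dvd_of_ne_bot hP1
    have h1 : r = p := OddLocal.mem_singleton_of_isPGroup P.2 r hr hd
    exact OddLocal.piNum_sigmaCore M p hp
      (h1 ▸ hd.trans (Subgroup.card_subgroup_dvd_card (P : Subgroup ↥(Cfsg.sigmaCore M))))
  obtain ⟨S, hS⟩ := OddLocal.sylow_of_sigmaCore hG hM hpσ P
  rw [← hS]
  exact OddLocal.normalizer_sylow_le hG hM
    (hS.le.trans ((Subgroup.map_subtype_le _).trans (OddLocal.sigmaCore_le M))) hpσ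

end Cfsg.Agent.S1389
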