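import Cfsg.Statements.S1405
import Cfsg.Agent.OddLocal.AlphaSigma
-- import your own Cfsg.Agent.* helpers here

set_option autoImplicit false
open Cfsg

namespace Cfsg.Agent.S1405

/-- Let G be a minimal simple group of odd order and M a maximal subgroup, α(M) the set of primes p with M of p-rank at least 3, and M_α = O_{α(M)}(M). Then M_α is a Hall α(M)-subgroup of M and of G, M_α ≤ M_σ, the quotient M/M_α has no elementary abelian subgroup of order p ^ 3 for any prime p, and the image of M' in M/M_α is nilpotent. -/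
theorem result {G : Type*} [Group G] [Finite G] (hG : Cfsg.IsMinSimpleOddOrder G)
    (M : Subgroup G) (hM : IsCoatom M) :
    Cfsg.IsPiHallOf (Cfsg.alpha M) (Cfsg.alphaCore M) M ∧ Cfsg.IsPiHall (Cfsg.alpha M) (Cfsg.alphaCore M) ∧
      Cfsg.alphaCore M ≤ Cfsg.sigmaCore M ∧ Cfsg.RankLE 2 (↥M ⧸ Cfsg.piCore (Cfsg.alpha M) ↥M) ∧
      Group.IsNilpotent ↥((commutator ↥M).map (QuotientGroup.mk' (Cfsg.piCore (Cfsg.alpha M) ↥M))) := by
  refine ⟨OddLocal.isPiHallOf_alphaCore hG hM, OddLocal.isPiHall_of_sigma hG hM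
    (OddLocal.alpha_subset_sigma hG hM) (OddLocal.isPiHallOf_alphaCore hG hM),
    Subgroup.map_mono (OddLocal.piCore_alpha_le_sigma hG hM),
    OddLocal.rankLE_quotient_alpha hG hM, ?_⟩
  obtain ⟨hc, -⟩ := OddLocal.commutator_quotient_alpha_le hG hM
  have h1 : (commutator ↥M).map (QuotientGroup.mk' (Cfsg.piCore (Cfsg.alpha M) ↥M)) ≤
      Cfsg.fittingSubgroup (↥M ⧸ Cfsg.piCore (Cfsg.alpha M) ↥M) := by
    refine le_trans ?_ hc
    rw [_root_.commutator_def, Subgroup.map_commutator, _root_.commutator_def]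
    exact Subgroup.commutator_mono le_top le_top
  exact Core.isNilpotent_mono Core.fittingSubgroup_isNilpotent h1

end Cfsg.Agent.S1405
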