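import Cfsg.Statements.S1419
import Cfsg.Agent.OddLocal.TauTwoNonabelian
-- import your own Cfsg.Agent.* helpers here

set_option autoImplicit false
open Cfsg

namespace Cfsg.Agent.S1419

/-- Let G be a minimal simple group of odd order whose Sylow p-subgroups are nonabelian, M a maximal subgroup with p ∈ τ₂(M), E a complement to M_σ in M and A ≤ E elementary abelian of order p ^ 2. Then τ₂(M) = {p}; A₀ = A ∩ C_G(M_σ) has order p and F(M) is generated by M_σ and A₀ (a direct product); and every subgroup X ≠ A₀ of E of order p satisfies M_σ ∩ C_G(X) = 1 and C_G(X) ⊄ M. -/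
theorem result {G : Type*} [Group G] [Finite G] (hG : Cfsg.IsMinSimpleOddOrder G)
    (M : Subgroup G) (hM : IsCoatom M) (E : Subgroup G) (hE : Cfsg.IsComplIn E (Cfsg.sigmaCore M) M) (p : ℕ) [Fact p.Prime] (hp : p ∈ Cfsg.tau2 M) (hS : ∀ S : Sylow p G, ¬ IsMulCommutative (S : Subgroup G))
    (A : Subgroup G) (hA : (A ≤ E ∧ Cfsg.IsElementaryAbelian p A ∧ Nat.card A = p ^ 2)) :
    Cfsg.tau2 M = {p} ∧
      (Nat.card ↥(A ⊓ Subgroup.centralizer (Cfsg.sigmaCore M : Set G)) = p ∧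
        Cfsg.fittingOf M = Cfsg.sigmaCore M ⊔ (A ⊓ Subgroup.centralizer (Cfsg.sigmaCore M : Set G))) ∧
      ∀ X : Subgroup G, X ≤ E → Nat.card X = p → X ≠ A ⊓ Subgroup.centralizer (Cfsg.sigmaCore M : Set G) →
        Cfsg.sigmaCore M ⊓ Subgroup.centralizer (X : Set G) = ⊥ ∧ ¬ Subgroup.centralizer (X : Set G) ≤ M := by
  obtain ⟨hAE, hAe, hA2⟩ := hA
  have h := OddLocal.isTauPair_of_tau2 hG hM hp ⟨hAE.trans hE.1, hAe, hA2⟩
  have htau : ∀ q ∈ Cfsg.tau2 M, q = p := by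
    intro q hq
    by_contra hqp
    have : Fact q.Prime := ⟨hq.1⟩
    obtain ⟨S⟩ : Nonempty (Sylow p G) := inferInstance
    exact hS S (OddLocal.sylow_comm_of_two hG hM hp hq hqp S)
  obtain ⟨hc, hline⟩ := h.nonabelian_structure hG hM hS
  refine ⟨Set.Subset.antisymm (fun q hq => htau q hq) (fun q hq => hq ▸ hp),
    ⟨hc, h.fittingOf_eq hG hM hS hE hAE htau⟩, fun X hXE hXc hXne => ?_⟩
  obtain ⟨x, hxX, hx1⟩ := OddLocal.exists_mem_ne_one X (fun e => by
    rw [e, Subgroup.card_bot] at hXc; exact (Fact.out : p.Prime).ne_one hXc.symm)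
  have hxp : x ^ p = 1 := by
    have h1 := pow_card_eq_one' (x := (⟨x, hxX⟩ : X))
    rw [hXc] at h1
    exact congrArg Subtype.val h1
  have hxA : x ∈ A := h.mem_of_mem_compl hG hM hE hAE (hXE hxX) hxp
  have hXx : Subgroup.zpowers x = X := h.line_eq hG hM hxA hx1 hXc hxX
  rw [← hXx] at hXne ⊢
  exact hline x hxA hx1 hXne

end Cfsg.Agent.S1419
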