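import Cfsg.Statements.S1427
import Cfsg.Agent.OddLocal.SigmaDisjoint
-- import your own Cfsg.Agent.* helpers here

set_option autoImplicit false
open Cfsg Cfsg.Agent Cfsg.Agent.OddLocal

namespace Cfsg.Agent.S1427

/-- Let G be a minimal simple group of odd order, M a maximal subgroup, E a complement to M_σ in M, and S a nontrivial cyclic Sylow subgroup of E (for some prime). Then M_σ ∩ C_G(x) = M_σ ∩ C_G(S) for every non-identity x ∈ S. -/
theorem result {G : Type*} [Group G] [Finite G] (hG : Cfsg.IsMinSimpleOddOrder G)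
    (M : Subgroup G) (hM : IsCoatom M) (E : Subgroup G) (hE : Cfsg.IsComplIn E (Cfsg.sigmaCore M) M) (p : ℕ) [Fact p.Prime] (S : Sylow p E) (hS1 : (S : Subgroup E) ≠ ⊥) (hSc : IsCyclic (S : Subgroup E)) :
    ∀ x ∈ (S : Subgroup E).map E.subtype, x ≠ 1 →
        Cfsg.sigmaCore M ⊓ Subgroup.centralizer ({x} : Set G) = Cfsg.sigmaCore M ⊓ Subgroup.centralizer (((S : Subgroup E).map E.subtype : Subgroup G) : Set G) := by
  have hpd : p ∣ Nat.card E := by
    obtain ⟨r, hr, hrd⟩ := exists_prime_dvd_of_ne_bot hS1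
    obtain ⟨j, hj⟩ := IsPGroup.iff_card.mp S.2
    exact ((Nat.prime_dvd_prime_iff_eq hr Fact.out).mp (hr.dvd_of_dvd_pow (hj ▸ hrd))) ▸
      hrd.trans (Subgroup.card_subgroup_dvd_card _)
  have hpσ : p ∉ sigma M := compl_prime_not_sigma hG hM hE Fact.out hpd
  obtain ⟨T, hT⟩ := compl_sylow_exists hG hM hE S hpσ
  set S' := (S : Subgroup E).map E.subtype with hS'
  have hS'c : IsCyclic S' :=
    (Subgroup.equivMapOfInjective _ _ E.subtype_injective).isCyclic.mp hSc
  have hr : PRankLE p 1 M := by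
    refine pRankLE_of_sylow T (pRankLE_one_of_isCyclic ?_)
    refine (Subgroup.equivMapOfInjective _ _ M.subtype_injective).isCyclic.mpr ?_
    rw [hT]; exact hS'c
  have hp13 : p ∈ tau1 M ∪ tau3 M := ((tau_of_not_sigma hG hM hpσ
    (hpd.trans (Subgroup.card_dvd_of_le hE.1))).resolve_right fun h => h.2.2.2 hr)
  intro x hx hx1
  refine le_antisymm ?_ (inf_le_inf_left _ (Subgroup.centralizer_le (by simpa using hx)))
  obtain ⟨k, hk⟩ := (S.2.map E.subtype).exists_orderOf_eq_pow ⟨x, hx⟩
  rw [← Subgroup.orderOf_coe] at hk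
  have hd : p ∣ orderOf x := by
    rcases k with _ | k
    · exact absurd (orderOf_eq_one_iff.mp (by simpa using hk)) hx1
    · exact hk ▸ dvd_pow_self p k.succ_ne_zero
  set z := x ^ (orderOf x / p) with hz
  have hzo : orderOf z = p := orderOf_pow_orderOf_div (orderOf_pos x).ne' hd
  have hzS : z ∈ S' := S'.pow_mem hx _
  have hS'M : S' ≤ M := (Subgroup.map_subtype_le _).trans hE.1
  have hZc : Nat.card (Subgroup.zpowers z) = p := by rw [Nat.card_zpowers, hzo]
  obtain ⟨L, hL, hNL⟩ := (IsCoatomic.eq_top_or_exists_le_coatom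
    (Subgroup.normalizer (Subgroup.zpowers z : Set G))).resolve_left
      (ne_top_of_normal_ne_bot hG (fun e => by
        rw [e, Subgroup.card_bot] at hZc; exact (Fact.out : p.Prime).ne_one hZc.symm)
        (ne_top_of_not_dvd hM (Subgroup.zpowers_le.mpr (hS'M hzS))))
  obtain ⟨-, hp1, hnc⟩ := line_overgroup hG hM hp13 hL hZc hNL
  have hSL : S' ≤ L := (le_centralizer_of_isMulCommutative le_rfl (Subgroup.zpowers_le.mpr hzS)
    ⟨⟨(IsCyclic.commGroup (α := S')).mul_comm⟩⟩).trans
      ((Subgroup.centralizer_le_normalizer _).trans hNL)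
  have hmain := le_centralizer_inf_sigmaCore hG hM hL hnc hpσ hp1 (S.2.map E.subtype) hS'M hSL
  intro y hy
  have hyL : y ∈ L := hNL (centralizer_le_normalizer_zpowers z
    (Subgroup.mem_centralizer_singleton_iff.mpr
      (((show Commute y x from Subgroup.mem_centralizer_singleton_iff.mp hy.2).pow_right _).eq)))
  exact ⟨hy.1, Subgroup.mem_centralizer_iff.mpr fun s hs =>
    (Subgroup.mem_centralizer_iff.mp (hmain hs) y ⟨hy.1, hyL⟩).symm⟩

end Cfsg.Agent.S1427
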