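import Cfsg.Statements.S1434
import Cfsg.Agent.OddLocal.KappaTI
-- import your own Cfsg.Agent.* helpers here

set_option autoImplicit false
open Cfsg Cfsg.Agent Cfsg.Agent.OddLocal Subgroup

namespace Cfsg.Agent.S1434

/-- Let G be a minimal simple group of odd order, M a maximal subgroup with standard factorisation M = K U M_σ, K ≠ 1, K* = M_σ ∩ C_G(K), and M* a maximal subgroup with K = M*_σ ∩ C_G(K*) and K* a Hall κ(M*)-subgroup of M*. Then κ(M) = τ₁(M); K* is a Hall σ(M)-subgroup of M*; for non-identity x ∈ K and y ∈ K*, C_M(x), C_{M*}(y) and C_G(xy) all equal K K*; the set Ẑ of elements of K K* outside K ∪ K* meets no gMg⁻¹ with g ∉ M; and with k = #K, k* = #K*, the union of the conjugates of Ẑ has k·k*·(number of elements) = (k k* − k − k* + 1)·#G and more than #G / 2 elements. -/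
theorem result {G : Type*} [Group G] [Finite G] (hG : Cfsg.IsMinSimpleOddOrder G)
    (M : Subgroup G) (hM : IsCoatom M) (K U : Subgroup G) (hKU : Cfsg.IsSigmaDecomposition M K U) (hK1 : K ≠ ⊥) (Mstar : Subgroup G) (hMstar : IsCoatom Mstar)
    (hKst : K = Cfsg.sigmaCore Mstar ⊓ Subgroup.centralizer ((Cfsg.sigmaCore M ⊓ Subgroup.centralizer (K : Set G)) : Set G))
    (hKstH : Cfsg.IsPiHallOf (Cfsg.kappa Mstar) (Cfsg.sigmaCore M ⊓ Subgroup.centralizer (K : Set G)) Mstar) :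
    Cfsg.kappa M = Cfsg.tau1 M ∧ Cfsg.IsPiHallOf (Cfsg.sigma M) (Cfsg.sigmaCore M ⊓ Subgroup.centralizer (K : Set G)) Mstar ∧
      (∀ x ∈ K, x ≠ 1 → ∀ y ∈ (Cfsg.sigmaCore M ⊓ Subgroup.centralizer (K : Set G)), y ≠ 1 →
        M ⊓ Subgroup.centralizer ({x} : Set G) = K ⊔ (Cfsg.sigmaCore M ⊓ Subgroup.centralizer (K : Set G)) ∧ Mstar ⊓ Subgroup.centralizer ({y} : Set G) = K ⊔ (Cfsg.sigmaCore M ⊓ Subgroup.centralizer (K : Set G)) ∧
        Subgroup.centralizer ({x * y} : Set G) = K ⊔ (Cfsg.sigmaCore M ⊓ Subgroup.centralizer (K : Set G))) ∧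
      (∀ g : G, g ∉ M → ∀ z ∈ ((↑(K ⊔ (Cfsg.sigmaCore M ⊓ Subgroup.centralizer (K : Set G))) : Set G) \ ((K : Set G) ∪ ↑(Cfsg.sigmaCore M ⊓ Subgroup.centralizer (K : Set G)))), z ∉ M.map (MulAut.conj g).toMonoidHom) ∧
      Nat.card K * Nat.card ↥(Cfsg.sigmaCore M ⊓ Subgroup.centralizer (K : Set G)) * Set.ncard {a : G | ∃ g : G, ∃ z ∈ ((↑(K ⊔ (Cfsg.sigmaCore M ⊓ Subgroup.centralizer (K : Set G))) : Set G) \ ((K : Set G) ∪ ↑(Cfsg.sigmaCore M ⊓ Subgroup.centralizer (K : Set G)))), a = g * z * g⁻¹} =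
        (Nat.card K * Nat.card ↥(Cfsg.sigmaCore M ⊓ Subgroup.centralizer (K : Set G)) - Nat.card K - Nat.card ↥(Cfsg.sigmaCore M ⊓ Subgroup.centralizer (K : Set G)) + 1) * Nat.card G ∧
      Nat.card G < 2 * Set.ncard {a : G | ∃ g : G, ∃ z ∈ ((↑(K ⊔ (Cfsg.sigmaCore M ⊓ Subgroup.centralizer (K : Set G))) : Set G) \ ((K : Set G) ∪ ↑(Cfsg.sigmaCore M ⊓ Subgroup.centralizer (K : Set G)))), a = g * z * g⁻¹} := by
  have hK := hKU.hall
  rw [show ((↑(K ⊔ (Cfsg.sigmaCore M ⊓ Subgroup.centralizer (K : Set G))) : Set G) \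
      ((K : Set G) ∪ ↑(Cfsg.sigmaCore M ⊓ Subgroup.centralizer (K : Set G)))) =
      memberRest (K ⊔ kStar M K) from (memberRest_eq hG hM hK hK1).symm]
  refine ⟨kappa_eq_tau1 hG hM hKU hK1, kStar_hall_sigma hG hM hK hK1 hMstar hKst hKstH,
    fun x hx hx1 y hy hy1 => ⟨kappa_inf_centralizer hG hM hK hK1 hx hx1, ?_, ?_⟩,
    fun g hg z hz => rest_not_mem_conj hG hM hK hK1 hg hz, ?_, half_lt_conj_rest hG hM hK hK1⟩
  · have e : kStar Mstar (kStar M K) = K := hKst.symm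
    exact (kappa_inf_centralizer hG hMstar hKstH (IsMember.kStar_ne_bot hG
      (⟨hM, hK, hK1, rfl⟩ : IsMember (K ⊔ kStar M K) M K)) hy hy1).trans (by rw [e, sup_comm])
  · exact centralizer_rest hG hM hK hK1 (mul_mem_rest hG hM hK hK1 hx hx1 hy hy1)
  · have h1 := ncard_rest hG hM hK hK1
    rw [ncard_conj_rest hG hM hK hK1, ← (K ⊔ kStar M K).index_mul_card,
      kappa_W_card hG hM hK]
    set k := Nat.card K
    set s := Nat.card (kStar M K)
    set z := (memberRest (K ⊔ kStar M K)).ncard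
    have hz : k * s - k - s + 1 = z := by
      have hk : 0 < k := Nat.card_pos
      have hs : 0 < s := Nat.card_pos
      have h2 : k + s ≤ k * s + 1 := by nlinarith
      have hs1 := IsMember.kStar_ne_bot hG (⟨hM, hK, hK1, rfl⟩ : IsMember (K ⊔ kStar M K) M K)
      have hk2 : 2 ≤ k := (Subgroup.one_lt_card_iff_ne_bot K).mpr hK1
      have hs2 : 2 ≤ s := (Subgroup.one_lt_card_iff_ne_bot _).mpr hs1
      have h3 : k + s ≤ k * s := by nlinarith
      omega
    rw [hz]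
    ring

end Cfsg.Agent.S1434
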