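import Cfsg.Statements.S1436
import Cfsg.Agent.OddLocal.SupportPrimes
import Cfsg.Agent.S1374
-- import your own Cfsg.Agent.* helpers here

set_option autoImplicit false
open Cfsg Cfsg.Agent Cfsg.Agent.OddLocal Subgroup

namespace Cfsg.Agent.S1436

/-- Let G be a minimal simple group of odd order, M a maximal subgroup, x ≠ 1 in M_σ with C_G(x) ⊄ M, and N a maximal subgroup containing C_G(x). (a) If some prime of σ(N) divides the order of M, then κ(M) = ∅ and τ₂(M) = ∅. (b) If y ≠ 1 in M_σ has C_G(y) ⊄ M, N' is a maximal subgroup containing C_G(y), and gN'g⁻¹ = N for some g ∈ G, then mN'm⁻¹ = N for some m ∈ M. -/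
theorem result {G : Type*} [Group G] [Finite G] (hG : Cfsg.IsMinSimpleOddOrder G)
    (M : Subgroup G) (hM : IsCoatom M) (x : G) (hx : x ∈ Cfsg.sigmaCore M) (hx1 : x ≠ 1) (hxM : ¬ Subgroup.centralizer ({x} : Set G) ≤ M)
    (N : Subgroup G) (hN : IsCoatom N) (hxN : Subgroup.centralizer ({x} : Set G) ≤ N) :
    ((∃ p ∈ Cfsg.sigma N, p ∣ Nat.card M) → Cfsg.kappa M = ∅ ∧ Cfsg.tau2 M = ∅) ∧
      ∀ (y : G) (N' : Subgroup G) (g : G), y ∈ Cfsg.sigmaCore M → y ≠ 1 → ¬ Subgroup.centralizer ({y} : Set G) ≤ M → IsCoatom N' → Subgroup.centralizer ({y} : Set G) ≤ N' →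
        N'.map (MulAut.conj g).toMonoidHom = N → ∃ m ∈ M, N'.map (MulAut.conj m).toMonoidHom = N := by
  refine ⟨fun ⟨q, hqN, hqM⟩ => support_sigma_dvd hG hM hx hx1 hxM hN hxN hqN hqM,
    fun y N' g hy hy1 hyM hN' hyN' hg => ?_⟩
  obtain ⟨N₁, hN₁, -, -, huniq, -, hMN, -, -⟩ := exists_support hG hM hx hx1 hxM
  obtain rfl : N = N₁ := huniq N hN hxN
  obtain ⟨N₂, hN₂, -, -, huniq', -, hMN', -, -⟩ := exists_support hG hM hy hy1 hyM
  obtain rfl : N' = N₂ := huniq' N' hN' hyN'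
  set E := (M ⊓ N').map (MulAut.conj g).toMonoidHom with hE
  have hEN : E ≤ N := hg ▸ map_mono inf_le_right
  have hcard : Nat.card E = Nat.card ↥(M ⊓ N) := by
    rw [hE, card_map_conj]
    have h1 := compl_card hMN'
    have h2 := compl_card hMN
    have h3 : Nat.card (Cfsg.sigmaCore N) = Nat.card (Cfsg.sigmaCore N') := by
      rw [← hg, sigmaCore_map_conj hG hN', card_map_conj]
    have h4 : Nat.card N = Nat.card N' := by rw [← hg, card_map_conj]
    rw [h3, h4] at h2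
    exact Nat.eq_of_mul_eq_mul_right Nat.card_pos (h1.trans h2.symm)
  obtain ⟨k, hk, hle⟩ := exists_conj_le_of_relIndex (π := {l | l ∉ Cfsg.sigma N})
    (isSolvable_coatom hG hN) (inf_le_right : M ⊓ N ≤ N) (compl_isPiHallOf hG hN hMN).2.2 hEN
    (fun l hl hd => by
      rw [← hg, sigma_map_conj]
      rw [hE, card_map_conj] at hd
      exact compl_prime_not_sigma hG hN' hMN' hl hd)
  have heq : E.map (MulAut.conj k).toMonoidHom = M ⊓ N :=
    eq_of_le_of_card_ge hle (by rw [card_map_conj, hcard])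
  have hxN' : x ∈ N := hxN (mem_centralizer_singleton_iff.mpr rfl)
  have hxg : x ∈ M.map (MulAut.conj (k * g)).toMonoidHom := by
    have h1 : x ∈ E.map (MulAut.conj k).toMonoidHom := heq.ge ⟨sigmaCore_le M hx, hxN'⟩
    rw [hE, map_conj_map_conj] at h1
    exact map_mono inf_le_left h1
  obtain ⟨-, R, -, hR, hex⟩ := Cfsg.Agent.S1374.result hG M hM x hx hx1
  obtain ⟨r, ⟨hrR, hr⟩, -⟩ := hex (k * g) hxg
  have hm : r⁻¹ * (k * g) ∈ M := mem_of_map_conj_eq hG hM (by
    rw [← map_conj_map_conj, ← hr, map_conj_inv_cancel])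
  refine ⟨_, hm, ?_⟩
  rw [← map_conj_map_conj, ← map_conj_map_conj, hg,
    map_conj_eq_self_of_mem (Subgroup.le_normalizer hk),
    map_conj_eq_self_of_mem (Subgroup.le_normalizer (N.inv_mem (hxN (hR.2.1 hrR))))]

end Cfsg.Agent.S1436
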