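import Cfsg.Statements.S1443
import Cfsg.Agent.LocalStructure.OmegaAction
import Cfsg.Agent.Coprime.Elementary
import Cfsg.Agent.Coprime.Basic
-- import your own Cfsg.Agent.* helpers here

set_option autoImplicit false
open Cfsg

namespace Cfsg.Agent.S1443

/-- Let G be a finite group, p an odd prime, H a p-subgroup, E an elementary abelian subgroup of H, and A a subgroup of order coprime to p normalizing H. If A centralizes every element of order p in H ∩ C_G(E), then A centralizes H. -/
theorem result {G : Type*} [Group G] [Finite G] (p : ℕ) [Fact p.Prime] (hp : p ≠ 2) (H E A : Subgroup G) (hH : IsPGroup p H) (hE : E ≤ H) (hEe : Cfsg.IsElementaryAbelian p E)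
    (hA : (A ≤ Subgroup.normalizer (H : Set G))) (hcop : (Nat.card A).Coprime p)
    (hfix : ∀ x ∈ (H ⊓ Subgroup.centralizer (E : Set G)), orderOf x = p → A ≤ Subgroup.centralizer ({x} : Set G)) :
    A ≤ Subgroup.centralizer (H : Set G) := by
  have hfix1 : ∀ x ∈ H ⊓ Subgroup.centralizer (E : Set G), x ^ p = 1 → ∀ a ∈ A, a * x = x * a := by
    intro x hx hxp a ha
    rcases eq_or_ne x 1 with rfl | hx1
    · simp
    · exact Subgroup.mem_centralizer_singleton_iff.mp
        (hfix x hx (orderOf_eq_prime hxp hx1) ha)
  have hEC : E ≤ Subgroup.centralizer (E : Set G) := Coprime.ea_le_centralizer hEe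
  have hEA : E ≤ Subgroup.centralizer (A : Set G) := by
    intro e he
    rw [Subgroup.mem_centralizer_iff]
    intro a ha
    rcases eq_or_ne e 1 with rfl | he1
    · simp
    · exact Subgroup.mem_centralizer_singleton_iff.mp
        (hfix e ⟨hE he, hEC he⟩ (Coprime.ea_orderOf hEe he he1) ha)
  have hCE : A ≤ Subgroup.normalizer (Subgroup.centralizer (E : Set G) : Set G) :=
    Coprime.le_normalizer_centralizer ((Subgroup.le_centralizer_iff.mp hEA).trans
      (Subgroup.centralizer_le_normalizer _))
  have hfixC : A ≤ Subgroup.centralizer ((H ⊓ Subgroup.centralizer (E : Set G) : Subgroup G) : Set G) :=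
    LocalStructure.le_centralizer_of_fixes_omega hp (hH.to_le inf_le_left)
      (Coprime.le_normalizer_inf hA hCE) hcop hfix1
  exact Coprime.thompson_pxq (hH.to_le hE) hcop hH hEA (hE.trans Subgroup.le_normalizer)
    hA (Subgroup.le_centralizer_iff.mp hfixC)

end Cfsg.Agent.S1443
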