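import Cfsg.Statements.S1444
import Cfsg.Agent.OddLocal.PLengthCentralizer
-- import your own Cfsg.Agent.* helpers here

set_option autoImplicit false
open Cfsg

namespace Cfsg.Agent.S1444

/-- Let G be a solvable group of odd order, H a normal subgroup of order coprime to its index, R a complement to H in G, and R₀ ≤ R a subgroup of prime order such that every Sylow subgroup of H ∩ C_G(R₀) is cyclic. Then for every prime p the commutator subgroup [H, R] satisfies [H,R] = O_{p',p,p'}([H,R]). -/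
theorem result {G : Type*} [Group G] [Finite G] [Group.IsSolvable G] (hodd : Odd (Nat.card G)) (H R R₀ : Subgroup G) [H.Normal] (hHall : (Nat.card H).Coprime H.index)
    (hR : Subgroup.IsComplement' H R) (hR₀ : R₀ ≤ R) (hR₀p : (Nat.card R₀).Prime) (hZ : IsZGroup ↥(H ⊓ Subgroup.centralizer (R₀ : Set G)))
    (p : ℕ) [Fact p.Prime] :
    Cfsg.PLengthLE p 1 ↥⁅H, R⁆ := by
  haveI : Fact (Nat.card R₀).Prime := ⟨hR₀p⟩
  obtain ⟨⟨c, hc⟩, hne⟩ : ∃ c : R₀, c ≠ 1 := by
    haveI : Nontrivial R₀ := (Finite.one_lt_card_iff_nontrivial).mp hR₀p.one_lt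
    exact exists_ne 1
  have hord : orderOf c = Nat.card R₀ :=
    (hR₀p.eq_one_or_self_of_dvd _ (Subgroup.orderOf_dvd_natCard R₀ hc)).resolve_left fun h =>
      hne (Subtype.ext (orderOf_eq_one_iff.mp h))
  have hgen : Subgroup.zpowers c = R₀ :=
    Subgroup.eq_of_le_of_card_ge (Subgroup.zpowers_le.mpr hc) (by rw [Nat.card_zpowers, hord])
  have hc2 : orderOf c ≠ 2 := fun h => hodd.not_two_dvd_nat (h ▸ orderOf_dvd_natCard c)
  rw [← hgen, FixedPointFree.centralizer_zpowers] at hZ
  exact OddLocal.pLengthLE_commutator H R c (by rw [Subgroup.normalizer_eq_top]; exact le_top)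
    (by rw [← hR.symm.index_eq_card]; exact hHall) (hR₀ hc) (hord ▸ hR₀p) hc2
    (hodd.of_dvd_nat (Subgroup.card_subgroup_dvd_card H)) inferInstance hZ

end Cfsg.Agent.S1444
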