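import Cfsg.Statements.S1446
import Cfsg.Agent.OddLocal.NilpotentPrimeAction
import Cfsg.Agent.Coprime.PCoreTools

set_option autoImplicit false
open Cfsg Subgroup

namespace Cfsg.Agent.S1446

/-- Let X be a finite group with subgroups K, R, M such that: K and R are nontrivial, K ∩ R = 1, R normalizes K, no non-identity element of R centralizes a non-identity element of K, K ⊔ R is solvable of odd order; M is nilpotent and nontrivial, normalized by K and by R, with order coprime to that of K ⊔ R, M ∩ C(K) = 1, and M ∩ C(x) = M ∩ C(R) for all non-identity x ∈ R. Then R has prime order p, #M = #(M ∩ C(R)) ^ p, and if M ∩ C(R) is cyclic then [K, K] centralizes M. -/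
theorem result {X : Type*} [Group X] [Finite X] (K R M : Subgroup X) (hK1 : K ≠ ⊥) (hR1 : R ≠ ⊥) (hKR : K ⊓ R = ⊥)
    (hRK : R ≤ Subgroup.normalizer (K : Set X)) (hfrob : ∀ r ∈ R, r ≠ 1 → K ⊓ Subgroup.centralizer ({r} : Set X) = ⊥)
    (hsolv : Group.IsSolvable ↥(K ⊔ R)) (hodd : Odd (Nat.card ↥(K ⊔ R)))
    (hM1 : M ≠ ⊥) (hMn : Group.IsNilpotent M) (hKM : K ≤ Subgroup.normalizer (M : Set X)) (hRM : R ≤ Subgroup.normalizer (M : Set X))
    (hcop : (Nat.card ↥(K ⊔ R)).Coprime (Nat.card M)) (hCK : M ⊓ Subgroup.centralizer (K : Set X) = ⊥)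
    (hpr : ∀ x ∈ R, x ≠ 1 → M ⊓ Subgroup.centralizer ({x} : Set X) = M ⊓ Subgroup.centralizer (R : Set X)) :
    (Nat.card R).Prime ∧ Nat.card M = Nat.card ↥(M ⊓ Subgroup.centralizer (R : Set X)) ^ Nat.card R ∧
      (IsCyclic ↥(M ⊓ Subgroup.centralizer (R : Set X)) → ⁅K, K⁆ ≤ Subgroup.centralizer (M : Set X)) := by
  have hK : K ≤ normalizer (K : Set X) := le_normalizer
  have hcopM : Nat.Coprime (Nat.card M) (Nat.card ↥(K ⊔ R)) := hcop.symm
  have hMsolv : Group.IsSolvable M := by
    have := hMn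
    infer_instance
  have hnorm : ∀ E : Subgroup X, E ≤ R → ∀ x ∈ K ⊔ E, ∀ m ∈ M, x * m * x⁻¹ ∈ M :=
    fun E hE x hx m hm => (mem_normalizer_iff.mp (sup_le hKM (hE.trans hRM) hx) m).mp hm
  -- the order formula for a subgroup of `R`
  have hform : ∀ E : Subgroup X, E ≤ R →
      Nat.card M = Nat.card ↥(M ⊓ centralizer (E : Set X)) ^ Nat.card E := by
    intro E hE
    have h := Cfsg.Agent.WielandtFixed.order_formula _ X K E M rfl
      (le_bot_iff.mp (hKR ▸ inf_le_inf_left _ hE))
      (fun e he u hu => (mem_normalizer_iff.mp (hRK (hE he)) u).mp hu)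
      (fun e he he1 u hu h => mem_bot.mp (hfrob e (hE he) he1 ▸
        ⟨hu, mem_centralizer_singleton_iff.mpr h.symm⟩))
      (hnorm E hE) hMsolv (hcopM.coprime_dvd_right (card_dvd_of_le (sup_le_sup_left hE _)))
    unfold Cfsg.Agent.WielandtFixed.fixCard at h
    have h1 : M ⊓ centralizer ((K ⊔ E : Subgroup X) : Set X) = ⊥ :=
      le_bot_iff.mp (hCK ▸ inf_le_inf_left _ (centralizer_le (le_sup_left : K ≤ K ⊔ E)))
    rw [h1, hCK, card_bot, one_pow, one_mul, mul_one] at h
    exact h
  have hfR := hform R le_rfl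
  -- `R` has prime order
  obtain ⟨p, hp, hpR⟩ := Nat.exists_prime_and_dvd (n := Nat.card R)
    (fun h => hR1 (card_eq_one.mp h))
  have := Fact.mk hp
  obtain ⟨⟨c, hcR⟩, hc⟩ := exists_prime_orderOf_dvd_card' p hpR
  rw [orderOf_mk] at hc
  have hc1 : c ≠ 1 := fun h => hp.ne_one (by rw [← hc, h, orderOf_one])
  have hcp : c ^ p = 1 := hc ▸ pow_orderOf_eq_one c
  have hfR0 := hform (zpowers c) (zpowers_le.mpr hcR)
  rw [Cfsg.Agent.FixedPointFree.centralizer_zpowers, hpr c hcR hc1, Nat.card_zpowers, hc] at hfR0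
  have hCpos : 1 < Nat.card ↥(M ⊓ centralizer (R : Set X)) := by
    by_contra hle
    have h1 : Nat.card ↥(M ⊓ centralizer (R : Set X)) = 1 :=
      le_antisymm (not_lt.mp hle) Nat.card_pos
    rw [h1, one_pow] at hfR
    exact hM1 (card_eq_one.mp hfR)
  have hRp : Nat.card R = p := Nat.pow_right_injective hCpos (hfR.symm.trans hfR0)
  refine ⟨hRp ▸ hp, hfR, fun hcyc => ?_⟩
  -- the nilpotent group `K`
  have hfix : K ⊓ centralizer {c} = ⊥ := hfrob c hcR hc1
  have hKnil : Group.IsNilpotent K := Cfsg.Agent.FixedPointFree.isNilpotent_of_fpf hp hcp (hRK hcR)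
    (Group.isSolvable_of_isSolvable_injective (f := inclusion (le_sup_left : K ≤ K ⊔ R))
      (inclusion_injective _)) hfix
  have hKC : K ≤ normalizer ((centralizer (M : Set X) : Subgroup X) : Set X) := by
    intro x hx
    have key : ∀ g ∈ normalizer (M : Set X), ∀ y ∈ centralizer (M : Set X),
        g * y * g⁻¹ ∈ centralizer (M : Set X) := by
      intro g hg y hy
      rw [mem_centralizer_iff]
      intro u hu
      have := mem_centralizer_iff.mp hy _ ((mem_normalizer_iff''.mp hg u).mp hu)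
      calc u * (g * y * g⁻¹) = g * ((g⁻¹ * u * g) * y) * g⁻¹ := by group
        _ = g * (y * (g⁻¹ * u * g)) * g⁻¹ := by rw [this]
        _ = g * y * g⁻¹ * u := by group
    rw [mem_normalizer_iff]
    refine fun y => ⟨key x (hKM hx) y, fun h => ?_⟩
    simpa [mul_assoc] using key x⁻¹ (inv_mem (hKM hx)) _ h
  refine Cfsg.Agent.OddLocal.NilpotentPrimeAction.commutator_le_of_sylow hKnil hKC
    fun r hr P => ?_
  rw [le_centralizer_iff]
  -- generate `M` by its Sylow subgroups
  suffices h : ∀ (q : ℕ) [Fact q.Prime] (Q : Sylow q M),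
      (Q : Subgroup M).map M.subtype ≤ centralizer
        ((⁅(P : Subgroup K).map K.subtype, (P : Subgroup K).map K.subtype⁆ : Subgroup X) : Set X) by
    intro m hm
    have h1 : (⊤ : Subgroup M) ≤ (centralizer
        ((⁅(P : Subgroup K).map K.subtype, (P : Subgroup K).map K.subtype⁆ : Subgroup X) : Set X)).comap
          M.subtype := by
      rw [← Cfsg.Agent.OddLocal.NilpotentPrimeAction.closure_sylow_eq_top M, closure_le]
      rintro x ⟨q, hq, Q, hx⟩
      exact h q Q (mem_map_of_mem _ hx)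
    exact h1 (mem_top (⟨m, hm⟩ : M))
  intro q hq Q
  rw [le_centralizer_iff]
  have hQchar : ((Q : Subgroup M)).Characteristic :=
    Sylow.characteristic_of_normal Q
      ((Group.isNilpotent_of_finite_tfae.out 0 3 rfl rfl).mp hMn q hq Q)
  have hPchar : ((P : Subgroup K)).Characteristic :=
    Sylow.characteristic_of_normal P
      ((Group.isNilpotent_of_finite_tfae.out 0 3 rfl rfl).mp hKnil r hr P)
  have hnQ : ∀ A : Subgroup X, A ≤ normalizer (M : Set X) →
      A ≤ normalizer (((Q : Subgroup M).map M.subtype : Subgroup X) : Set X) :=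
    fun A hA => Cfsg.Agent.Coprime.le_normalizer_map_of_characteristic hA _ hQchar
  have hnP : normalizer (K : Set X) ≤
      normalizer (((P : Subgroup K).map K.subtype : Subgroup X) : Set X) :=
    Cfsg.Agent.Coprime.le_normalizer_map_of_characteristic le_rfl _ hPchar
  have hPK : (P : Subgroup K).map K.subtype ≤ K := map_subtype_le _
  by_cases hQ1 : (Q : Subgroup M) = ⊥
  · rw [hQ1, Subgroup.map_bot]
    intro y _
    rw [mem_centralizer_iff]
    intro h hh
    rw [SetLike.mem_coe, mem_bot] at hh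
    rw [hh, one_mul, mul_one]
  refine Cfsg.Agent.OddLocal.NilpotentPrimeAction.commutator_le_centralizer_pgroup (q := q) (r := r)
    hp (P.2.map _) (Q.2.map _) hcp (hnP (hRK hcR)) (hnQ R hRM hcR) (hPK.trans (hnQ K hKM))
    (Cfsg.Agent.FixedPointFree.fixed_mono hfix hPK) ?_ ?_
  · intro hd
    have hqM : q ∣ Nat.card M := by
      obtain ⟨n, hn⟩ := Q.2.exists_card_eq
      refine (dvd_pow_self q (fun h => hQ1 ?_)).trans (hn ▸ card_subgroup_dvd_card _)
      exact card_eq_one.mp (by rw [hn, h, pow_zero])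
    exact hq.out.not_dvd_one (hcop.gcd_eq_one ▸ Nat.dvd_gcd
      (hd.trans (card_dvd_of_le (sup_le (hPK.trans le_sup_left)
        (zpowers_le.mpr (mem_sup_right hcR))))) hqM)
  · rw [← hpr c hcR hc1] at hcyc
    exact isCyclic_of_injective
      (f := inclusion (inf_le_inf_right _ (map_subtype_le _) :
        (Q : Subgroup M).map M.subtype ⊓ centralizer {c} ≤ M ⊓ centralizer {c}))
      (inclusion_injective _)

end Cfsg.Agent.S1446
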