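import Cfsg.Statements.S1449
import Cfsg.Agent.Fusion.RankTwoAut
import Cfsg.Agent.Fusion.OddAut

set_option autoImplicit false
open Cfsg

namespace Cfsg.Agent.S1449

set_option maxHeartbeats 400000
open Subgroup

/-- Let G be a finite group, p an odd prime, R a p-subgroup with no elementary abelian subgroup of order p ^ 3, and A a solvable subgroup of odd order normalizing R with A ∩ C_G(R) = 1. Then the derived subgroup [A, A] is a p-group. -/
theorem result {G : Type*} [Group G] [Finite G] (p : ℕ) [Fact p.Prime] (hp : p ≠ 2) (R A : Subgroup G) (hR : IsPGroup p R) (hr : Cfsg.PRankLE p 2 R)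
    (hA : (A ≤ Subgroup.normalizer (R : Set G))) (hAs : Group.IsSolvable A) (hAodd : Odd (Nat.card A)) (hfaith : A ⊓ Subgroup.centralizer (R : Set G) = ⊥) :
    IsPGroup p ↥⁅A, A⁆ := by
  obtain ⟨V, instG, instF, hc, hexp, hcard, ρ, hρ⟩ := Fusion.exists_rank_two_action hp hR hr
  let ι : A →* MulAut R := R.normalizerMonoidHom.comp (Subgroup.inclusion hA)
  haveI := hAs
  intro x
  have hxA : (x : G) ∈ A := (Subgroup.commutator_le_self A) x.2
  have hmem : (⟨x, hxA⟩ : A) ∈ commutator A := by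
    have h1 : (commutator A).map A.subtype = ⁅A, A⁆ := Subgroup.map_subtype_commutator A
    have h2 : (x : G) ∈ (commutator A).map A.subtype := h1.symm.le x.2
    obtain ⟨y, hy, hye⟩ := h2
    rwa [show (⟨x, hxA⟩ : A) = y from Subtype.ext hye.symm]
  obtain ⟨k, hk⟩ := Fusion.exists_pow_eq_one_of_odd_aut hp hc hexp hcard hAodd (ρ.comp ι) _ hmem
  -- the `p'`-part
  set y : A := (⟨x, hxA⟩ : A) ^ p ^ k with hy
  obtain ⟨m, c, hpc, hm⟩ := Nat.exists_eq_pow_mul_and_not_dvd (orderOf_pos y).ne' p (Fact.out : p.Prime).ne_one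
  have hcop : c.Coprime p := ((Fact.out : p.Prime).coprime_iff_not_dvd.mpr hpc).symm
  have hord : (orderOf (y ^ p ^ m)).Coprime p := by
    rw [orderOf_pow_of_dvd (pow_ne_zero _ (Fact.out : p.Prime).ne_zero) (hm ▸ dvd_mul_right _ _), hm,
      Nat.mul_div_cancel_left _ (pow_pos (Fact.out : p.Prime).pos m)]
    exact hcop
  have h1 : ι (y ^ p ^ m) = 1 := hρ _ (hord.coprime_dvd_left (orderOf_map_dvd ι _)) (by
    have h2 : (ρ.comp ι) y = 1 := by rw [hy, map_pow]; exact hk
    rw [map_pow, map_pow, show ρ (ι y) = 1 from h2, one_pow])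
  have h3 : ((y ^ p ^ m : A) : G) ∈ A ⊓ centralizer (R : Set G) := mem_inf.mpr ⟨(y ^ p ^ m : A).2,
    mem_centralizer_iff.mpr fun r hr' => by
      have h4 : ((y ^ p ^ m : A) : G) * r * ((y ^ p ^ m : A) : G)⁻¹ = r :=
        congrArg (fun f : MulAut R => ((f ⟨r, hr'⟩ : R) : G)) h1
      rw [mul_inv_eq_iff_eq_mul] at h4
      exact h4.symm⟩
  rw [hfaith, mem_bot, hy, ← pow_mul, ← pow_add, SubmonoidClass.coe_pow] at h3
  exact ⟨k + m, Subtype.ext (by rw [SubmonoidClass.coe_pow]; exact h3)⟩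

end Cfsg.Agent.S1449
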