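import Cfsg.Statements.S1450
import Cfsg.Agent.Fusion.RankQuot
import Cfsg.Agent.Fusion.OddAut
import Cfsg.Agent.Fusion.Residual
import Cfsg.Agent.Layer.PConstraint
import Cfsg.Agent.Coprime.PCoreTools
import Cfsg.Agent.S0640

set_option autoImplicit false
open Cfsg

namespace Cfsg.Agent.S1450

set_option maxHeartbeats 400000
open Subgroup
open scoped Pointwise

/-- Let G be a solvable group of odd order, p a prime dividing its order with G having no elementary abelian subgroup of order p ^ 3. Then every prime dividing the index of O_{p'}(G) is at most p; if p = 3 or p is the smallest prime divisor of #G then G has a normal p-complement; the derived subgroup G' has a normal p-complement; every subgroup of G' of order coprime to p lies in O_{p'}(G'); and G/O_{p',p}(G) is abelian of order coprime to p. -/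
theorem result {G : Type*} [Group G] [Finite G] [Group.IsSolvable G] (hodd : Odd (Nat.card G)) (p : ℕ) [Fact p.Prime] (hpG : p ∣ Nat.card G) (hr : Cfsg.PRankLE p 2 G) :
    (∀ q : ℕ, q.Prime → q ∣ (Cfsg.pPrimeCore p G).index → q ≤ p) ∧
      ((p = 3 ∨ ∀ q : ℕ, q.Prime → q ∣ Nat.card G → p ≤ q) → Cfsg.HasNormalPComplement p G) ∧
      Cfsg.HasNormalPComplement p ↥(commutator G) ∧
      (∀ L : Subgroup ↥(commutator G), (Nat.card L).Coprime p → L ≤ Cfsg.pPrimeCore p ↥(commutator G)) ∧
      commutator G ≤ Cfsg.pPrimePCore p G ∧ ((Cfsg.pPrimePCore p G).index).Coprime p := by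
  have hpp : p.Prime := Fact.out
  have hp2 : p ≠ 2 := fun e => by
    subst e
    exact (Nat.not_even_iff_odd.mpr hodd) (even_iff_two_dvd.mpr hpG)
  set D := Cfsg.pPrimeCore p G with hD
  set f := QuotientGroup.mk' D with hf
  have hfs : Function.Surjective f := QuotientGroup.mk'_surjective D
  have hDc : (Nat.card D).Coprime p := Core.coprime_card_pPrimeCore
  have hcon := Layer.isPConstrained_of_isSolvable (G := G) (p := p)
  rw [Layer.isPConstrained_iff_selfCentral] at hcon
  set R := Cfsg.pCore p (G ⧸ D) with hR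
  have hrQ := Fusion.pRankLE_quotient hr D hDc
  obtain ⟨V, i1, i2, hc, hexp, hcard, φ, hker⟩ := Fusion.exists_rank_two_action_pCore hp2 hcon hrQ
  have hQodd : Odd (Nat.card (G ⧸ D)) := Odd.of_dvd_nat hodd (card_quotient_dvd_card D)
  have hRp : IsPGroup p R := Core.pCore_isPGroup
  haveI : Group.IsSolvable (G ⧸ D) := Group.isSolvable_of_surjective hfs
  have hcommP : IsPGroup p (commutator (G ⧸ D)) := by
    intro x
    obtain ⟨k, hk⟩ := Fusion.exists_pow_eq_one_of_odd_aut hp2 hc hexp hcard hQodd φ _ x.2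
    obtain ⟨m, hm⟩ := hker ⟨(x : G ⧸ D) ^ p ^ k, by rw [MonoidHom.mem_ker, map_pow]; exact hk⟩
    refine ⟨k + m, Subtype.ext ?_⟩
    have hm' : ((x : G ⧸ D) ^ p ^ k) ^ p ^ m = 1 := congrArg Subtype.val hm
    rw [SubmonoidClass.coe_pow, pow_add, pow_mul, hm']
    rfl
  have hcR : commutator (G ⧸ D) ≤ R := Core.le_pCore hcommP
  -- `G/O_{p',p}` is a `p'`-group
  have hRidx : R.index.Coprime p := by
    refine (hpp.coprime_iff_not_dvd.mpr fun hd => ?_).symm
    obtain ⟨S⟩ := (inferInstance : Nonempty (Sylow p (G ⧸ D)))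
    have hRS : R ≤ (S : Subgroup (G ⧸ D)) := Core.pCore_le_sylow S
    haveI hSn : (S : Subgroup (G ⧸ D)).Normal := Normal.of_commutator_le _ (hcR.trans hRS)
    have hSR : (S : Subgroup (G ⧸ D)) ≤ R := Core.le_pCore S.2
    rw [le_antisymm hRS hSR] at hd
    exact S.not_dvd_index hd
  have hq : ∀ q : ℕ, q.Prime → q ∣ Nat.card (G ⧸ D) → q ≠ p → q ∣ p ^ 2 - 1 ∧ q < p := by
    intro q hq hqd hqp
    haveI : Fact q.Prime := ⟨hq⟩
    obtain ⟨a, ha⟩ := exists_prime_orderOf_dvd_card' (G := G ⧸ D) q hqd
    let ι : G ⧸ D →* MulAut R := MulAut.conjNormal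
    have hιa : ι a ≠ 1 := by
      intro e
      have haR : a ∈ R := hcon (mem_centralizer_iff.mpr fun r hr' => by
        have h4 : a * r * a⁻¹ = r := by
          have h5 := congrArg (fun f : MulAut R => ((f ⟨r, hr'⟩ : R) : G ⧸ D)) e
          simpa [ι] using h5
        rw [mul_inv_eq_iff_eq_mul] at h4
        exact h4.symm)
      obtain ⟨b, hb⟩ := IsPGroup.iff_orderOf.mp hRp ⟨a, haR⟩
      rw [Subgroup.orderOf_mk, ha] at hb
      exact hqp ((Nat.prime_dvd_prime_iff_eq hq hpp).mp (hq.dvd_of_dvd_pow hb.dvd))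
    have h1 : q ∣ Nat.card (MulAut R) := by
      have h2 : orderOf (ι a) = q := by
        rcases (Nat.dvd_prime hq).mp (ha ▸ orderOf_map_dvd ι a) with h | h
        · exact absurd (orderOf_eq_one_iff.mp h) hιa
        · exact h
      rw [← h2]
      exact orderOf_dvd_natCard _
    exact S0640.result hp2 hRp (Fusion.pRankLE_subgroup hrQ R) q hq hqp h1
  have hmemD : ∀ x : G, f x = 1 ↔ x ∈ D := fun x => QuotientGroup.eq_one_iff x
  -- the derived group
  set N := D.subgroupOf (commutator G) with hN
  have hNc : (Nat.card N).Coprime p := hDc.coprime_dvd_left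
    (card_comap_dvd_of_injective D _ (commutator G).subtype_injective)
  have hNpow : ∀ x : commutator G, ∃ k : ℕ, x ^ p ^ k ∈ N := by
    intro x
    have hx : f (x : G) ∈ commutator (G ⧸ D) := by
      have h1 : (commutator G).map f ≤ commutator (G ⧸ D) := by
        rw [commutator_def, Subgroup.map_commutator, commutator_def]
        exact Subgroup.commutator_mono le_top le_top
      exact h1 ⟨x, x.2, rfl⟩
    obtain ⟨k, hk⟩ := hcommP ⟨_, hx⟩
    refine ⟨k, mem_subgroupOf.mpr ((hmemD _).mp ?_)⟩
    rw [SubmonoidClass.coe_pow, map_pow]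
    exact congrArg Subtype.val hk
  have hsub : ∀ L : Subgroup ↥(commutator G), (Nat.card L).Coprime p → L ≤ N := by
    intro L hL x hx
    obtain ⟨k, hk⟩ := hNpow x
    obtain ⟨m, hm⟩ := exists_pow_eq_self_of_coprime (n := p ^ k) (x := x)
      ((hL.coprime_dvd_left (Subgroup.orderOf_mk x hx ▸ orderOf_dvd_natCard _)).pow_right k).symm
    rw [← hm]
    exact pow_mem hk m
  haveI : N.Normal := inferInstance
  refine ⟨fun q hqp hqd => ?_, fun h => ?_, ?_, fun L hL => (hsub L hL).trans (Core.le_pPrimeCore hNc), ?_, ?_⟩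
  · rw [index_eq_card] at hqd
    by_cases he : q = p
    · exact he.le
    · exact (hq q hqp hqd he).2.le
  · rw [Fusion.hasNormalPComplement_iff_exists]
    refine ⟨D, inferInstance, hDc, ?_⟩
    have hall : ∀ {q : ℕ}, q.Prime → q ∣ Nat.card (G ⧸ D) → q = p := by
      intro q hqp hqd
      by_contra he
      obtain ⟨h2, h3⟩ := hq q hqp hqd he
      have hq2 : q ≠ 2 := fun e => by
        subst e
        exact (Nat.not_even_iff_odd.mpr hQodd) (even_iff_two_dvd.mpr hqd)
      rcases h with h | h
      · subst h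
        have := hqp.two_le
        interval_cases q
        omega
      · exact absurd (h q hqp (hqd.trans (card_quotient_dvd_card D))) (not_le.mpr h3)
    have hP : IsPGroup p (G ⧸ D) :=
      IsPGroup.of_card (Nat.eq_prime_pow_of_unique_prime_dvd Nat.card_pos.ne' hall)
    obtain ⟨k, hk⟩ := IsPGroup.iff_card.mp hP
    exact ⟨k, by rw [index_eq_card]; exact hk⟩
  · rw [Fusion.hasNormalPComplement_iff_exists]
    refine ⟨N, inferInstance, hNc, ?_⟩
    have hP : IsPGroup p (↥(commutator G) ⧸ N) := by
      intro y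
      induction y using QuotientGroup.induction_on with
      | H x =>
        obtain ⟨k, hk⟩ := hNpow x
        exact ⟨k, by rw [← QuotientGroup.mk_pow, QuotientGroup.eq_one_iff]; exact hk⟩
    obtain ⟨k, hk⟩ := IsPGroup.iff_card.mp hP
    exact ⟨k, by rw [index_eq_card]; exact hk⟩
  · refine le_trans ?_ (Subgroup.comap_mono hcR)
    rw [← Subgroup.map_le_iff_le_comap, _root_.commutator_def, Subgroup.map_commutator, _root_.commutator_def]
    exact Subgroup.commutator_mono le_top le_top
  · rw [Cfsg.pPrimePCore, index_comap_of_surjective _ hfs]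
    exact hRidx

end Cfsg.Agent.S1450
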