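import Cfsg.Statements.S1452
import Cfsg.Agent.OddLocal.UniquenessFitting
import Cfsg.Agent.OddLocal.NarrowGroup
-- import your own Cfsg.Agent.* helpers here

set_option autoImplicit false
open Cfsg

namespace Cfsg.Agent.S1452

/-- Let p be an odd prime and R a finite p-group containing an elementary abelian subgroup of order p ^ 3. If E is a normal elementary abelian subgroup of R of order p ^ 2, then E ≤ A for some normal subgroup A of R with C_R(A) = A that contains an elementary abelian subgroup of order p ^ 3. -/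
theorem result {R : Type*} [Group R] [Finite R] (p : ℕ) [Fact p.Prime] (hp : p ≠ 2) (hR : IsPGroup p R) (hr : ¬ Cfsg.PRankLE p 2 R)
    (E : Subgroup R) [E.Normal] (hE : Cfsg.IsElementaryAbelian p E) (hE2 : Nat.card E = p ^ 2) :
    ∃ A : Subgroup R, E ≤ A ∧ A.Normal ∧ Subgroup.centralizer (A : Set R) = A ∧ ¬ Cfsg.PRankLE p 2 A := by
  obtain ⟨F, hFn, hEF, hFe, hF3⟩ := OddLocal.exists_normal_elementary_ge hR hp hr hE hE2
  obtain ⟨A, hFA, hAn, hAc, hmax⟩ := Fusion.exists_maximal_normal_abelian F hFe.1
  refine ⟨A, hEF.trans hFA, hAn, Fusion.centralizer_eq_of_maximal_normal_abelian hR A hAc hmax, ?_⟩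
  exact OddLocal.not_pRankLE_of_elementary hFA hFe hF3

end Cfsg.Agent.S1452
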