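import Cfsg.Statements.S1454
import Cfsg.Agent.FittingPQ.Class2
import Cfsg.Agent.Core.KegelWielandt
import Cfsg.Agent.OddLocal.NarrowAction
-- import your own Cfsg.Agent.* helpers here

set_option autoImplicit false
open Cfsg

namespace Cfsg.Agent.S1454

/-- Let G be a finite group, p an odd prime, R a narrow p-subgroup and A a solvable subgroup of odd order normalizing R with A ∩ C_G(R) = 1. Then [A, A] ≤ O_p(A) and the index of O_p(A) in A is coprime to p; if R has an elementary abelian subgroup of order p ^ 3 then the order of every element of A of order coprime to p divides p − 1; and if the order of A is a prime not dividing p(p − 1), then 2·#A divides p + 1, and if in addition [R, A] = R and R is non-abelian then #R = p ^ 3. -/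
theorem result {G : Type*} [Group G] [Finite G] (p : ℕ) [Fact p.Prime] (hp : p ≠ 2) (R A : Subgroup G) (hR : IsPGroup p R) (hRn : Cfsg.IsNarrow p R)
    (hA : (A ≤ Subgroup.normalizer (R : Set G))) (hAs : Group.IsSolvable A) (hAodd : Odd (Nat.card A)) (hfaith : A ⊓ Subgroup.centralizer (R : Set G) = ⊥) :
    (commutator ↥A ≤ Cfsg.pCore p ↥A ∧ ((Cfsg.pCore p ↥A).index).Coprime p) ∧
      (¬ Cfsg.PRankLE p 2 R → ∀ a ∈ A, (orderOf a).Coprime p → orderOf a ∣ p - 1) ∧
      ((Nat.card A).Prime → ¬ Nat.card A ∣ p * (p - 1) →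
        2 * Nat.card A ∣ p + 1 ∧ (⁅R, A⁆ = R → ¬ IsMulCommutative R → Nat.card R = p ^ 3)) := by
  set X := R ⊔ A with hX
  set R' := R.subgroupOf X with hR'
  have hXn : X ≤ Subgroup.normalizer (R : Set G) := sup_le Subgroup.le_normalizer hA
  haveI : R'.Normal := (Subgroup.normal_subgroupOf_iff_le_normalizer le_sup_left).mpr hXn
  set e : R' ≃* R := Subgroup.subgroupOfEquivOfLe le_sup_left with he
  have hR'p : IsPGroup p R' := hR.of_equiv e.symm
  have hR'n : Cfsg.IsNarrow p R' := OddLocal.isNarrow_congr e.symm hRn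
  haveI : Group.IsSolvable X := by
    haveI : Group.IsNilpotent R := hR.isNilpotent
    exact FittingPQ.isSolvable_sup_of_normalizer inferInstance hAs hA
  have hXodd : Odd (Nat.card X) := by
    have h1 : Nat.card X ∣ Nat.card R * Nat.card A :=
      Core.card_sup_dvd_of_le_normalizer hA
    refine Odd.of_dvd_nat ?_ h1
    obtain ⟨k, hk⟩ := IsPGroup.iff_card.mp hR
    exact Nat.odd_mul.mpr ⟨hk ▸ ((Fact.out : p.Prime).odd_of_ne_two hp).pow, hAodd⟩
  have hA1 : ∀ a : A, (⟨a, Subgroup.mem_sup_right a.2⟩ : X) ∈ Subgroup.centralizer (R' : Set X) → a = 1 := by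
    intro a ha
    have h1 : (a : G) ∈ A ⊓ Subgroup.centralizer (R : Set G) := ⟨a.2, Subgroup.mem_centralizer_iff.mpr
      fun r hr => congrArg Subtype.val (Subgroup.mem_centralizer_iff.mp ha
        ⟨r, Subgroup.mem_sup_left hr⟩ hr)⟩
    rw [hfaith, Subgroup.mem_bot] at h1
    exact Subtype.ext h1
  set i : A →* X := Subgroup.inclusion le_sup_right with hi
  have hio : ∀ a : A, orderOf (i a) = orderOf a := fun a =>
    orderOf_injective i (Subgroup.inclusion_injective _) a
  have hkey : ¬ Cfsg.PRankLE p 2 R → ∀ a : A, (orderOf a).Coprime p → a ^ (p - 1) = 1 := by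
    intro hr a ha
    refine hA1 _ ?_
    have hr' : ¬ Cfsg.PRankLE p 2 R' := fun h =>
      hr (OddLocal.pRankLE_of_injective e.symm.toMonoidHom e.symm.injective h)
    refine OddLocal.mem_centralizer_of_narrow hp hR'p hr' hR'n ?_ ?_
    · show (orderOf (i (a ^ (p - 1)))).Coprime p
      rw [hio]
      exact ha.coprime_dvd_left (orderOf_pow_dvd _)
    · show OddLocal.TrivialOnSmallFactors p (i (a ^ (p - 1)))
      rw [map_pow]
      exact OddLocal.trivialOnSmallFactors_pow _
  have hcomm : IsPGroup p (commutator A) := by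
    intro z
    obtain ⟨k, n, hn, hkn⟩ := Nat.exists_eq_pow_mul_and_not_dvd (orderOf_pos (z : A)).ne' p
      (Fact.out : p.Prime).ne_one
    refine ⟨k, Subtype.ext ?_⟩
    show (z : A) ^ p ^ k = 1
    set w : A := (z : A) ^ p ^ k with hw
    have hwo : (orderOf w).Coprime p := by
      refine Nat.Coprime.coprime_dvd_left (orderOf_dvd_of_pow_eq_one ?_)
        (((Fact.out : p.Prime).coprime_iff_not_dvd.mpr hn).symm)
      rw [hw, ← pow_mul, ← hkn, pow_orderOf_eq_one]
    have hwc : w ∈ commutator A := pow_mem z.2 _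
    have hwX : i w ∈ commutator X := by
      have h1 : (commutator A).map i ≤ commutator X := by
        rw [_root_.commutator_def, Subgroup.map_commutator, _root_.commutator_def]
        exact Subgroup.commutator_mono le_top le_top
      exact h1 (Subgroup.mem_map_of_mem i hwc)
    refine hA1 w ?_
    have hwo' : (orderOf (i w)).Coprime p := by rwa [hio]
    show i w ∈ Subgroup.centralizer (R' : Set X)
    by_cases hr : Cfsg.PRankLE p 2 R'
    · exact OddLocal.mem_centralizer_of_rank_two hXodd hp hR'p hr hwX hwo'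
    · exact OddLocal.mem_centralizer_of_narrow hp hR'p hr hR'n hwo'
        (OddLocal.trivialOnSmallFactors_commutator hwX)
  haveI : (commutator A).Normal := inferInstance
  refine ⟨⟨Core.le_pCore hcomm, ?_⟩, ?_, ?_⟩
  · obtain ⟨P, hP⟩ := hcomm.exists_le_sylow
    haveI : (P : Subgroup A).Normal := Subgroup.Normal.of_commutator_le _ hP
    refine Nat.Coprime.coprime_dvd_left (Subgroup.index_dvd_of_le (Core.le_pCore P.2)) ?_
    exact ((Fact.out : p.Prime).coprime_iff_not_dvd.mpr P.not_dvd_index).symm
  · intro hr a ha hacop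
    rw [orderOf_dvd_iff_pow_eq_one]
    exact congrArg Subtype.val (hkey hr ⟨a, ha⟩ (by rwa [← Subgroup.orderOf_coe]))
  intro hq hqd
  haveI := Fact.mk hq
  obtain ⟨a, hao⟩ := exists_prime_orderOf_dvd_card' (Nat.card A) (dvd_refl (Nat.card A))
  have hq2 : ¬ Nat.card A ∣ p - 1 := fun h => hqd (h.mul_left p)
  have hcop : (orderOf a).Coprime p := by
    rw [hao]
    exact (hq.coprime_iff_not_dvd.mpr fun h => hqd (h.mul_right _))
  have hne : a ≠ 1 := fun h => hq.ne_one (by rw [← hao, h, orderOf_one])
  have hr : Cfsg.PRankLE p 2 R := by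
    by_contra hr
    exact hq2 (hao ▸ orderOf_dvd_of_pow_eq_one (hkey hr a hcop))
  have hr' : Cfsg.PRankLE p 2 R' :=
    OddLocal.pRankLE_of_injective e.toMonoidHom e.injective hr
  have hcop' : (orderOf (i a)).Coprime p := by rwa [hio]
  refine ⟨?_, fun hfull hna => ?_⟩
  · have h1 := OddLocal.dvd_succ_of_rank_two hp hR'p hr' (a := i a) (by rwa [hio, hao]) hcop'
      (by rwa [hio, hao]) fun h => hne (hA1 a h)
    rw [hio, hao] at h1
    refine Nat.Coprime.mul_dvd_of_dvd_of_dvd (Nat.coprime_two_left.mpr hAodd) ?_ h1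
    exact even_iff_two_dvd.mp (((Fact.out : p.Prime).odd_of_ne_two hp).add_one)
  · have h1a : (p - 1).Coprime (orderOf (i a)) := by
      rw [hio, hao]
      exact (hq.coprime_iff_not_dvd.mpr hq2).symm
    have hzp : (Subgroup.zpowers (i a)).map X.subtype = A := by
      rw [MonoidHom.map_zpowers]
      refine Subgroup.eq_of_le_of_card_ge (Subgroup.zpowers_le.mpr a.2) ?_
      rw [Nat.card_zpowers]
      exact le_of_eq ((orderOf_injective X.subtype X.subtype_injective (i a)).trans
        ((hio a).trans hao)).symm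
    have hfull' : R' ≤ ⁅R', Subgroup.zpowers (i a)⁆ := by
      rw [← Subgroup.map_le_map_iff_of_injective X.subtype_injective, Subgroup.map_commutator, hzp,
        hR', Subgroup.map_subgroupOf_eq_of_le le_sup_left, hfull]
    have hna' : ¬ IsMulCommutative R' := fun h => hna ⟨⟨fun r s => e.symm.injective (by
      rw [map_mul, map_mul]; exact h.is_comm.comm _ _)⟩⟩
    rw [← OddLocal.card_eq_cube_of_rank_two hp hR'p hr' hcop' h1a hfull' hna']
    exact Nat.card_congr e.symm.toEquiv

end Cfsg.Agent.S1454
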