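import Cfsg.Statements.S1459
import Cfsg.Agent.Coprime.Basic
import Cfsg.Agent.Core.Frattini
import Cfsg.Agent.OddLocal.Basic
-- import your own Cfsg.Agent.* helpers here

set_option autoImplicit false
open Cfsg
open scoped commutatorElement

namespace Cfsg.Agent.S1459

/-- Let G be a finite solvable group. (a) If H is a normal subgroup of order coprime to its index, K is a complement to H, and H ≤ G', then H = [H, K] and H ∩ C_G(K) ≤ [H, H]. (b) If G' is nilpotent and has prime index in G, then the order of G' is coprime to its index and G' = [G, K] (the subgroup generated by commutators of elements of G with elements of K) for every complement K of G'. -/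
theorem result {G : Type*} [Group G] [Finite G] [Group.IsSolvable G] :
    (∀ (H K : Subgroup G), H.Normal → (Nat.card H).Coprime H.index → Subgroup.IsComplement' H K → H ≤ commutator G →
        H = ⁅H, K⁆ ∧ H ⊓ Subgroup.centralizer (K : Set G) ≤ ⁅H, H⁆) ∧
      (Group.IsNilpotent ↥(commutator G) → (commutator G).index.Prime →
        (Nat.card ↥(commutator G)).Coprime (commutator G).index ∧
        ∀ K : Subgroup G, Subgroup.IsComplement' (commutator G) K → commutator G = ⁅(⊤ : Subgroup G), K⁆) := by
  have partA : ∀ (H K : Subgroup G), H.Normal → (Nat.card H).Coprime H.index →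
      Subgroup.IsComplement' H K → H ≤ commutator G →
        H = ⁅H, K⁆ ∧ H ⊓ Subgroup.centralizer (K : Set G) ≤ ⁅H, H⁆ := by
    intro H K hH hcop hc hle
    have hHK : (Nat.card K).Coprime (Nat.card H) := by
      rw [← hc.symm.index_eq_card]; exact hcop.symm
    have hnorm : K ≤ Subgroup.normalizer (H : Set G) := by
      rw [Subgroup.normalizer_eq_top]; exact le_top
    have hNle := Coprime.commutator_le_of_le_normalizer hnorm
    have hN : (⁅H, K⁆).Normal := by
      rw [← Subgroup.normalizer_eq_top_iff, eq_top_iff, ← hc.sup_eq_top]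
      exact sup_le (Subgroup.normalizer_commutator_ge_left H K)
        (Subgroup.normalizer_commutator_ge_right H K)
    have hdec : ∀ g : G, ∃ h ∈ H, ∃ k ∈ K, h * k = g := fun g =>
      (Coprime.mem_sup_of_le_normalizer hnorm).mp (hc.sup_eq_top ▸ Subgroup.mem_top g)
    set M : Subgroup G := ⁅H, H⁆ ⊔ ⁅H, K⁆ with hM
    have hMle : M ≤ H := sup_le (Subgroup.commutator_le_self H) hNle
    let f := QuotientGroup.mk' M
    have hf : ∀ z, f z = 1 ↔ z ∈ M := fun z => QuotientGroup.eq_one_iff z
    have hcen : ∀ h ∈ H, ∀ g : G, Commute (f h) (f g) := by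
      intro h hh g
      obtain ⟨a, ha, b, hb, rfl⟩ := hdec g
      rw [map_mul]
      refine Commute.mul_right (commutatorElement_eq_one_iff_commute.mp ?_)
        (commutatorElement_eq_one_iff_commute.mp ?_) <;> rw [← map_commutatorElement, hf]
      · exact Subgroup.mem_sup_left (Subgroup.commutator_mem_commutator hh ha)
      · exact Subgroup.mem_sup_right (Subgroup.commutator_mem_commutator hh hb)
    have hgen : commutator G ≤ (⁅K, K⁆.map f).comap f := by
      rw [commutator_def, Subgroup.commutator_le]
      intro g₁ _ g₂ _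
      obtain ⟨a, ha, b, hb, rfl⟩ := hdec g₁
      obtain ⟨a', ha', b', hb', rfl⟩ := hdec g₂
      refine ⟨⁅b, b'⁆, Subgroup.commutator_mem_commutator hb hb', ?_⟩
      rw [map_commutatorElement, map_commutatorElement, map_mul, map_mul]
      have c1 := hcen a ha
      have c2 := hcen a' ha'
      simp only [commutatorElement_def, mul_inv_rev]
      symm
      calc f a * f b * (f a' * f b') * ((f b)⁻¹ * (f a)⁻¹) * ((f b')⁻¹ * (f a')⁻¹)
          = f a * (f b * f a') * (f b' * (f b)⁻¹) * (f a)⁻¹ * (f b')⁻¹ * (f a')⁻¹ := by group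
        _ = f a * (f a' * f b) * (f b' * (f b)⁻¹) * (f a)⁻¹ * (f b')⁻¹ * (f a')⁻¹ := by
              rw [(c2 b).eq]
        _ = f a * f a' * (f b * f b' * (f b)⁻¹ * (f a)⁻¹) * (f b')⁻¹ * (f a')⁻¹ := by group
        _ = f a * f a' * ((f a)⁻¹ * (f b * f b' * (f b)⁻¹)) * (f b')⁻¹ * (f a')⁻¹ := by
              rw [show f b * f b' * (f b)⁻¹ = f (b * b' * b⁻¹) by simp [map_mul], ((c1 _).inv_left).eq]
        _ = (f a * f a') * (f a)⁻¹ * (f b * f b' * (f b)⁻¹ * (f b')⁻¹) * (f a')⁻¹ := by group
        _ = f a' * ((f b * f b' * (f b)⁻¹ * (f b')⁻¹) * (f a')⁻¹) := by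
              rw [(c1 a').eq]; group
        _ = f a' * ((f a')⁻¹ * (f b * f b' * (f b)⁻¹ * (f b')⁻¹)) := by
              rw [show f b * f b' * (f b)⁻¹ * (f b')⁻¹ = f (b * b' * b⁻¹ * b'⁻¹) by simp [map_mul],
                ((c2 _).inv_left).eq]
        _ = f b * f b' * (f b)⁻¹ * (f b')⁻¹ := by group
    have hHM : H ≤ M := by
      intro x hx
      obtain ⟨k, hk, hkx⟩ := hgen (hle hx)
      have hd : k⁻¹ * x ∈ M := by rw [← hf, map_mul, map_inv, hkx, inv_mul_cancel]
      have hkH : k ∈ H := by
        simpa using H.inv_mem ((H.mul_mem_cancel_right hx).mp (hMle hd))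
      have hk1 : k = 1 := Subgroup.mem_bot.mp
        (hc.disjoint.eq_bot.le ⟨hkH, Subgroup.commutator_le_self K hk⟩)
      simpa [hk1] using hd
    have key : H = ⁅H, K⁆ := by
      refine le_antisymm ?_ hNle
      let g := QuotientGroup.mk' ⁅H, K⁆
      have hperf : H.map g ≤ ⁅H.map g, H.map g⁆ := by
        rw [← Subgroup.map_commutator]
        refine (Subgroup.map_mono hHM).trans ?_
        rw [hM, Subgroup.map_sup, sup_le_iff]
        refine ⟨le_rfl, le_trans ?_ bot_le⟩
        rw [le_bot_iff, Subgroup.map_eq_bot_iff, QuotientGroup.ker_mk']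
      have hall : ∀ n, H.map g ≤ derivedSeries (G ⧸ ⁅H, K⁆) n := by
        intro n
        induction n with
        | zero => exact le_top
        | succ n ih => exact hperf.trans (Subgroup.commutator_mono ih ih)
      obtain ⟨n, hn⟩ := (inferInstance : Group.IsSolvable (G ⧸ ⁅H, K⁆))
      have hbot := hall n
      rw [hn, le_bot_iff, Subgroup.map_eq_bot_iff, QuotientGroup.ker_mk'] at hbot
      exact hbot
    refine ⟨key, fun c hc' => ?_⟩
    have : (⁅H, H⁆).Normal := inferInstance
    let g := QuotientGroup.mk' ⁅H, H⁆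
    have hV : IsMulCommutative (H.map g) := by
      rw [← Subgroup.le_centralizer_iff_isMulCommutative,
        ← Subgroup.commutator_eq_bot_iff_le_centralizer, ← Subgroup.map_commutator,
        Subgroup.map_eq_bot_iff, QuotientGroup.ker_mk']
    have hVK : K.map g ≤ Subgroup.normalizer ((H.map g : Subgroup _) : Set _) := by
      rintro _ ⟨k, hk, rfl⟩
      exact Subgroup.le_normalizer_map g ⟨k, hnorm hk, rfl⟩
    have hb := Coprime.centralizer_inf_commutator_eq_bot hVK
      ((hHK.coprime_dvd_left (Subgroup.card_map_dvd K g)).coprime_dvd_right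
        (Subgroup.card_map_dvd H g))
    rw [← Subgroup.map_commutator, ← key] at hb
    have hfc : g c ∈ (H.map g ⊓ Subgroup.centralizer (K.map g : Set _)) ⊓ H.map g := by
      refine ⟨⟨⟨c, hc'.1, rfl⟩, ?_⟩, ⟨c, hc'.1, rfl⟩⟩
      show g c ∈ Subgroup.centralizer _
      rw [Subgroup.mem_centralizer_iff]
      rintro _ ⟨k, hk, rfl⟩
      rw [← map_mul, Subgroup.mem_centralizer_iff.mp hc'.2 k hk, map_mul]
    rw [hb, Subgroup.mem_bot] at hfc
    exact (QuotientGroup.eq_one_iff c).mp hfc
  refine ⟨partA, fun hnil hq => ?_⟩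
  set D : Subgroup G := commutator G with hD
  have hcop : (Nat.card D).Coprime D.index := by
    have := Fact.mk hq
    rw [Nat.coprime_comm, hq.coprime_iff_not_dvd]
    intro hdvd
    let P : Sylow D.index D := default
    have hPn : (P : Subgroup D).Normal :=
      (((isNilpotent_of_finite_tfae (G := D)).out 0 3 (a := Group.IsNilpotent D)
        (b := ∀ (p : ℕ) (_ : Fact p.Prime) (P : Sylow p D), (P : Subgroup D).Normal)).mp hnil) _ inferInstance P
    obtain ⟨N, hN⟩ := Subgroup.exists_right_complement'_of_coprime (P.card_coprime_index)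
    have hPNcop : (Nat.card N).Coprime (Nat.card (P : Subgroup D)) := by
      rw [← hN.symm.index_eq_card]; exact P.card_coprime_index.symm
    have hNn : N.Normal := by
      rw [← Subgroup.normalizer_eq_top_iff, eq_top_iff, ← hN.sup_eq_top]
      refine sup_le (fun x hx => ?_) Subgroup.le_normalizer
      refine Subgroup.centralizer_le_normalizer _ ?_
      rw [Subgroup.mem_centralizer_iff]
      exact fun y hy => OddLocal.commute_of_coprime_orderOf hnil
        ((hPNcop.coprime_dvd_left (Subgroup.orderOf_dvd_natCard _ hy)).coprime_dvd_right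
          (Subgroup.orderOf_dvd_natCard _ hx))
    have hNindex : N.index = Nat.card (P : Subgroup D) := hN.index_eq_card
    have hNchar : N.Characteristic := Core.characteristic_of_coprime (N := N) (by
      rw [hNindex]; exact hPNcop)
    let N' : Subgroup G := N.map D.subtype
    have : N'.Normal := inferInstance
    have hidx : N'.index = Nat.card (P : Subgroup D) * D.index := by
      rw [Subgroup.index_map_subtype, hNindex]
    obtain ⟨a, ha⟩ := IsPGroup.iff_card.mp P.isPGroup'
    have hR : IsPGroup D.index (G ⧸ N') := IsPGroup.of_card (n := a + 1) (by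
      rw [← Subgroup.index_eq_card, hidx, ha, pow_succ])
    have hRnil := hR.isNilpotent
    let g := QuotientGroup.mk' N'
    have hgD : commutator (G ⧸ N') = D.map g := by
      rw [hD, commutator_def, commutator_def, Subgroup.map_commutator,
        Subgroup.map_top_of_surjective g (QuotientGroup.mk'_surjective N')]
    have hgidx : (commutator (G ⧸ N')).index = D.index := by
      rw [hgD]
      exact Subgroup.index_map_eq _ (QuotientGroup.mk'_surjective N')
        (by rw [QuotientGroup.ker_mk']; exact Subgroup.map_subtype_le N)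
    obtain ⟨x, hx⟩ : ∃ x : G ⧸ N', x ∉ commutator (G ⧸ N') := by
      by_contra! h
      rw [(Subgroup.eq_top_iff' _).mpr h, Subgroup.index_top] at hgidx
      exact hq.one_lt.ne hgidx
    have htop : Subgroup.zpowers x = ⊤ := by
      by_contra hne
      obtain ⟨W, hW, hxW⟩ := (eq_top_or_exists_le_coatom (Subgroup.zpowers x)).resolve_left hne
      have hcomW : commutator (G ⧸ N') ≤ W := Core.commutator_le_frattini.trans (frattini_le_coatom hW)
      have h2 := Subgroup.relIndex_mul_index hcomW
      rw [hgidx] at h2
      rcases (Nat.dvd_prime hq).mp (Dvd.intro_left _ h2) with h3 | h3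
      · exact hW.1 (Subgroup.index_eq_one.mp h3)
      · refine hx ?_
        rw [Subgroup.eq_of_le_of_card_ge hcomW (le_of_eq ?_)]
        · exact hxW (Subgroup.mem_zpowers x)
        · exact Nat.eq_of_mul_eq_mul_right hq.pos (by
            rw [← Nat.card_congr (Equiv.refl W)]
            nlinarith [Subgroup.card_mul_index W, Subgroup.card_mul_index (commutator (G ⧸ N'))])
    have hbot : commutator (G ⧸ N') = ⊥ := by
      rw [commutator_def, Subgroup.commutator_eq_bot_iff_le_centralizer]
      intro y _
      rw [Subgroup.mem_centralizer_iff]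
      intro z _
      obtain ⟨i, rfl⟩ := Subgroup.mem_zpowers_iff.mp (htop.symm ▸ Subgroup.mem_top y)
      obtain ⟨j, rfl⟩ := Subgroup.mem_zpowers_iff.mp (htop.symm ▸ Subgroup.mem_top z)
      exact (Commute.zpow_zpow_self x j i)
    rw [hbot, Subgroup.index_bot, ← Subgroup.index_eq_card, hidx] at hgidx
    have hP1 : Nat.card (P : Subgroup D) = 1 := by
      have := D.index_ne_zero_of_finite
      exact mul_right_cancel₀ this (by rw [hgidx, one_mul])
    have := P.dvd_card_of_dvd_card hdvd
    rw [hP1] at this
    exact hq.one_lt.ne' (Nat.dvd_one.mp this)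
  refine ⟨hcop, fun K hK => ?_⟩
  have hA := (partA D K inferInstance hcop hK le_rfl).1
  refine le_antisymm ?_ ?_
  · conv_lhs => rw [hA]
    exact Subgroup.commutator_mono le_top le_rfl
  · rw [hD, commutator_def]
    exact Subgroup.commutator_mono le_rfl le_top

end Cfsg.Agent.S1459
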