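import Cfsg.Statements.S1460
import Cfsg.Agent.Coprime.Basic
-- import your own Cfsg.Agent.* helpers here

set_option autoImplicit false
open Cfsg

namespace Cfsg.Agent.S1460
open scoped Pointwise commutatorElement

/-- Let G be a finite solvable group, K a normal subgroup and U a subgroup with G = KU, and H ≤ U a subgroup whose order is coprime to that of K. Then H ∩ G' = H ∩ U'; N_G(H) is generated by K ∩ C_G(H) and U ∩ N_G(H); and if gHg⁻¹ ≤ U for some g ∈ G then g = u c with u ∈ U and c ∈ K ∩ C_G(H). -/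
theorem result {G : Type*} [Group G] [Finite G] [Group.IsSolvable G] (K U H : Subgroup G) [K.Normal] (hKU : K ⊔ U = ⊤) (hH : H ≤ U) (hcop : (Nat.card H).Coprime (Nat.card K)) :
    H ⊓ commutator G = H ⊓ ⁅U, U⁆ ∧
      Subgroup.normalizer (H : Set G) = (K ⊓ Subgroup.centralizer (H : Set G)) ⊔ (U ⊓ Subgroup.normalizer (H : Set G)) ∧
      ∀ g : G, H.map (MulAut.conj g).toMonoidHom ≤ U → ∃ u ∈ U, ∃ c ∈ K ⊓ Subgroup.centralizer (H : Set G), g = u * c := by
  have h3 : ∀ g : G, H.map (MulAut.conj g).toMonoidHom ≤ U →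
      ∃ u ∈ U, ∃ c ∈ K ⊓ Subgroup.centralizer (H : Set G), g = u * c := by
    intro g hg
    rw [← Coprime.conj_smul_eq_map] at hg
    have hgt : g ∈ U ⊔ K := by rw [sup_comm, hKU]; exact Subgroup.mem_top g
    obtain ⟨u₀, hu₀, k₀, hk₀, rfl⟩ : ∃ u₀ ∈ U, ∃ k₀ ∈ K, u₀ * k₀ = g :=
      (Subgroup.mem_sup_of_normal_right (s := U) (t := K)).mp hgt
    have hBU : MulAut.conj k₀ • H ≤ U := by
      intro b hb
      rw [Coprime.conj_mul_smul] at hg
      have h1 := hg (Coprime.conj_mem_conj_smul (g := u₀) hb)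
      have h2 := U.mul_mem (U.mul_mem (U.inv_mem hu₀) h1) hu₀
      simpa [mul_assoc] using h2
    have hBK : MulAut.conj k₀ • H ≤ K ⊔ H :=
      Coprime.conj_smul_le_self (Subgroup.le_normalizer (Subgroup.mem_sup_left hk₀)) le_sup_right
    obtain ⟨n, hn, hnH⟩ := Coprime.exists_conj_eq_within Subgroup.le_normalizer_of_normal hcop
      (Or.inl inferInstance) hBK (Coprime.card_conj_smul _ _) hH hBU
    rw [← Coprime.conj_mul_smul] at hnH
    have hc : n * k₀ ∈ Subgroup.centralizer (H : Set G) :=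
      Coprime.mem_centralizer_of_mem_normalizer Subgroup.le_normalizer_of_normal
        (Coprime.inf_eq_bot_of_coprime hcop.symm) (K.mul_mem hn.1 hk₀)
        (Coprime.mem_normalizer_of_conj_smul_eq hnH)
    exact ⟨u₀ * n⁻¹, U.mul_mem hu₀ (U.inv_mem hn.2), n * k₀, ⟨K.mul_mem hn.1 hk₀, hc⟩,
      by simp [mul_assoc]⟩
  refine ⟨le_antisymm ?_ (inf_le_inf_left _ (Subgroup.commutator_mono le_top le_top)), ?_, h3⟩
  · rintro h ⟨hhH, hhG⟩
    have htop : U.map (QuotientGroup.mk' K) = ⊤ := by
      have := congrArg (Subgroup.map (QuotientGroup.mk' K)) hKU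
      rwa [Subgroup.map_sup, Subgroup.map_top_of_surjective _ (QuotientGroup.mk'_surjective K),
        QuotientGroup.map_mk'_self, bot_sup_eq] at this
    have hGK : commutator G ≤ K ⊔ ⁅U, U⁆ := by
      rw [commutator_def, sup_comm, ← QuotientGroup.ker_mk' K, ← Subgroup.comap_map_eq,
        ← Subgroup.map_le_iff_le_comap, Subgroup.map_commutator, Subgroup.map_commutator, htop,
        Subgroup.map_top_of_surjective _ (QuotientGroup.mk'_surjective K)]
    have hUU : ⁅U, U⁆ ≤ U := Subgroup.commutator_le_self U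
    have h2 : h ∈ (K ⊓ U) ⊔ ⁅U, U⁆ := by
      rw [← Coprime.dedekind Subgroup.le_normalizer_of_normal hUU]
      exact ⟨hGK hhG, hH hhH⟩
    obtain ⟨k, hk, u, hu, rfl⟩ := (Coprime.mem_sup_of_le_normalizer
      (Coprime.le_normalizer_inf Subgroup.le_normalizer_of_normal
        (hUU.trans Subgroup.le_normalizer))).mp h2
    refine ⟨hhH, ?_⟩
    have hker : ∀ w : U, w ∈ commutator U → (w : G) ∈ ⁅U, U⁆ := fun w hw => by
      rw [← Subgroup.map_subtype_commutator]; exact Subgroup.mem_map_of_mem _ hw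
    set kU : U := ⟨k, hk.2⟩ with hkU
    set wU : U := ⟨k * u, hH hhH⟩ with hwU
    have huU : (⟨u, hUU hu⟩ : U) ∈ commutator U :=
      (Subgroup.mem_map_iff_mem U.subtype_injective).mp
        ((Subgroup.map_subtype_commutator U).symm ▸ hu)
    have hu1 : Abelianization.of (⟨u, hUU hu⟩ : U) = 1 := by
      rw [← MonoidHom.mem_ker, Abelianization.ker_of]; exact huU
    have hof : Abelianization.of wU = Abelianization.of kU := by
      have : wU = kU * ⟨u, hUU hu⟩ := Subtype.ext rfl
      rw [this, map_mul, hu1, mul_one]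
    have h1 : Abelianization.of wU = 1 := by
      rw [← orderOf_eq_one_iff]
      refine Nat.dvd_one.mp (hcop.gcd_eq_one ▸ Nat.dvd_gcd ?_ ?_)
      · refine (orderOf_map_dvd _ wU).trans ?_
        rw [← Subgroup.orderOf_coe wU]
        exact Subgroup.orderOf_dvd_natCard H hhH
      · rw [hof]
        refine (orderOf_map_dvd _ kU).trans ?_
        rw [← Subgroup.orderOf_coe kU]
        exact Subgroup.orderOf_dvd_natCard K hk.1
    exact hker wU (by rw [← Abelianization.ker_of]; exact MonoidHom.mem_ker.mpr h1)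
  · refine le_antisymm (fun g hg => ?_) (sup_le (inf_le_right.trans
      (Subgroup.centralizer_le_normalizer _)) inf_le_right)
    obtain ⟨u, hu, c, hc, rfl⟩ := h3 g (by
      rw [← Coprime.conj_smul_eq_map, Coprime.conj_smul_eq_self_of_mem_normalizer hg]; exact hH)
    have huN : u ∈ Subgroup.normalizer (H : Set G) :=
      (Subgroup.mul_mem_cancel_right _ (Subgroup.centralizer_le_normalizer _ hc.2)).mp hg
    exact Subgroup.mul_mem _ (Subgroup.mem_sup_right ⟨hu, huN⟩) (Subgroup.mem_sup_left hc)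

end Cfsg.Agent.S1460
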