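import Cfsg.Statements.S1461
import Cfsg.Agent.OddLocal.PLengthOne
-- import your own Cfsg.Agent.* helpers here

set_option autoImplicit false
open Cfsg

namespace Cfsg.Agent.S1461

/-- Let G be a finite solvable group, p a prime with G = O_{p',p,p'}(G), and S a Sylow p-subgroup. Then: if S ≤ G' then S ≤ [N_G(S), N_G(S)]; if Y ⊆ S and xYx⁻¹ ⊆ S then x = g c for some g ∈ N_G(S) and c centralizing Y; and for every p-subgroup Q there is x ∈ C_G(Q ∩ S) with xQx⁻¹ ≤ S. -/
theorem result {G : Type*} [Group G] [Finite G] [Group.IsSolvable G] (p : ℕ) [Fact p.Prime] (hpl : Cfsg.PLengthLE p 1 G) (S : Sylow p G) :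
    ((S : Subgroup G) ≤ commutator G → (S : Subgroup G) ≤ ⁅Subgroup.normalizer ((S : Subgroup G) : Set G), Subgroup.normalizer ((S : Subgroup G) : Set G)⁆) ∧
      (∀ (Y : Set G) (x : G), Y ⊆ (S : Subgroup G) → (fun y => x * y * x⁻¹) '' Y ⊆ (S : Subgroup G) →
        ∃ g ∈ Subgroup.normalizer ((S : Subgroup G) : Set G), ∃ c ∈ Subgroup.centralizer Y, g * c = x) ∧
      ∀ Q : Subgroup G, IsPGroup p Q → ∃ x ∈ Subgroup.centralizer ((Q ⊓ (S : Subgroup G) : Subgroup G) : Set G), Q.map (MulAut.conj x).toMonoidHom ≤ (S : Subgroup G) := by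
  have hN0 := OddLocal.pPrimeCore_sup_normalizer hpl S
  have hdec : ∀ x : G, ∃ g ∈ Subgroup.normalizer ((S : Subgroup G) : Set G),
      ∃ n ∈ Cfsg.pPrimeCore p G, g * n = x := by
    intro x
    have hx : x ∈ Subgroup.normalizer ((S : Subgroup G) : Set G) ⊔ Cfsg.pPrimeCore p G := by
      rw [sup_comm, hN0]; exact Subgroup.mem_top x
    rwa [Subgroup.mem_sup_of_normal_right] at hx
  have hdis : (S : Subgroup G) ⊓ Cfsg.pPrimeCore p G = ⊥ :=
    OddLocal.inf_pPrimeCore_eq_bot S.isPGroup'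
  have part2 : ∀ (Y : Set G) (x : G), Y ⊆ (S : Subgroup G) →
      (fun y => x * y * x⁻¹) '' Y ⊆ (S : Subgroup G) →
      ∃ g ∈ Subgroup.normalizer ((S : Subgroup G) : Set G),
        ∃ c ∈ Subgroup.centralizer Y, g * c = x := by
    intro Y x hY hxY
    obtain ⟨g, hg, n, hn, rfl⟩ := hdec x
    refine ⟨g, hg, n, Subgroup.mem_centralizer_iff.mpr fun y hy => ?_, rfl⟩
    have h1 : n * y * n⁻¹ ∈ (S : Subgroup G) := by
      have := (Subgroup.mem_normalizer_iff''.mp hg _).mp (hxY ⟨y, hy, rfl⟩)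
      simpa [mul_assoc] using this
    have h2 : n * y * n⁻¹ * y⁻¹ ∈ (S : Subgroup G) ⊓ Cfsg.pPrimeCore p G := by
      refine ⟨mul_mem h1 (Subgroup.inv_mem _ (hY hy)), ?_⟩
      rw [show n * y * n⁻¹ * y⁻¹ = n * (y * n⁻¹ * y⁻¹) by group]
      exact mul_mem hn (Subgroup.Normal.conj_mem inferInstance _ (inv_mem hn) y)
    rw [hdis, Subgroup.mem_bot, mul_inv_eq_one, mul_inv_eq_iff_eq_mul] at h2
    exact h2.symm
  refine ⟨fun hS s hs => ?_, part2, fun Q hQ => ?_⟩
  · set N := Subgroup.normalizer ((S : Subgroup G) : Set G) with hN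
    let f := QuotientGroup.mk' (Cfsg.pPrimeCore p G)
    have hNtop : N.map f = ⊤ := by
      rw [eq_top_iff]
      intro y _
      obtain ⟨x, rfl⟩ := QuotientGroup.mk'_surjective (Cfsg.pPrimeCore p G) y
      obtain ⟨g, hg, n, hn, rfl⟩ := hdec x
      refine ⟨g, hg, ?_⟩
      rw [map_mul, show QuotientGroup.mk' (Cfsg.pPrimeCore p G) n = 1 from
        (QuotientGroup.eq_one_iff n).mpr hn, mul_one]
    have him : f s ∈ ⁅N, N⁆.map f := by
      rw [Subgroup.map_commutator, hNtop, ← Subgroup.map_top_of_surjective f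
        (QuotientGroup.mk'_surjective _), ← Subgroup.map_commutator, ← commutator_def]
      exact Subgroup.mem_map_of_mem f (hS hs)
    obtain ⟨m, hm, hms⟩ := him
    have hn : s * m⁻¹ ∈ Cfsg.pPrimeCore p G := (QuotientGroup.eq_one_iff _).mp
      (show f (s * m⁻¹) = 1 by rw [map_mul, map_inv, hms, mul_inv_cancel])
    have hnN : s * m⁻¹ ∈ N :=
      mul_mem (Subgroup.le_normalizer hs) (inv_mem (Subgroup.commutator_le_self N hm))
    set n := s * m⁻¹ with hndef
    have hcomm : Commute s n := by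
      have h2 : n * s * n⁻¹ * s⁻¹ ∈ (S : Subgroup G) ⊓ Cfsg.pPrimeCore p G := by
        refine ⟨mul_mem ((Subgroup.mem_normalizer_iff.mp hnN s).mp hs) (Subgroup.inv_mem _ hs), ?_⟩
        rw [show n * s * n⁻¹ * s⁻¹ = n * (s * n⁻¹ * s⁻¹) by group]
        exact mul_mem hn (Subgroup.Normal.conj_mem inferInstance _ (inv_mem hn) s)
      rw [hdis, Subgroup.mem_bot, mul_inv_eq_one, mul_inv_eq_iff_eq_mul] at h2
      exact h2.symm
    have hk : s ^ Nat.card (Cfsg.pPrimeCore p G) ∈ ⁅N, N⁆ := by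
      have hpow : n ^ Nat.card (Cfsg.pPrimeCore p G) = 1 :=
        orderOf_dvd_iff_pow_eq_one.mp (Subgroup.orderOf_dvd_natCard _ hn)
      have hm' : n⁻¹ * s = m := by rw [hndef]; group
      have := pow_mem hm (Nat.card (Cfsg.pPrimeCore p G))
      rwa [← hm', (hcomm.inv_right.symm).mul_pow, inv_pow, hpow, inv_one, one_mul] at this
    obtain ⟨a, ha⟩ := S.isPGroup' ⟨s, hs⟩
    have hord : (orderOf s).Coprime (Nat.card (Cfsg.pPrimeCore p G)) :=
      Nat.Coprime.coprime_dvd_left (orderOf_dvd_of_pow_eq_one (congrArg Subtype.val ha))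
        (Core.coprime_card_pPrimeCore.symm.pow_left a)
    obtain ⟨b, hb⟩ := exists_pow_eq_self_of_coprime hord.symm
    rw [← hb]
    exact pow_mem hk b
  · obtain ⟨T, hT⟩ := hQ.exists_le_sylow
    obtain ⟨x, hx⟩ := MulAction.exists_smul_eq G T S
    have hxQ : ∀ q ∈ Q, x * q * x⁻¹ ∈ (S : Subgroup G) := by
      intro q hq
      rw [← hx]
      exact Subgroup.smul_mem_pointwise_smul q (MulAut.conj x) T.toSubgroup (hT hq)
    obtain ⟨g, hg, c, hc, hgc⟩ := part2 ((Q ⊓ (S : Subgroup G) : Subgroup G) : Set G) x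
      (fun y hy => hy.2) (by rintro _ ⟨y, hy, rfl⟩; exact hxQ y hy.1)
    refine ⟨c, hc, ?_⟩
    rintro _ ⟨q, hq, rfl⟩
    have := (Subgroup.mem_normalizer_iff''.mp hg _).mp (hxQ q hq)
    simpa [← hgc, mul_assoc] using this

end Cfsg.Agent.S1461
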