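import Cfsg.Statements.S1462
import Cfsg.Agent.Coprime.Basic
import Cfsg.Agent.Coprime.Elementary
import Cfsg.Agent.Thompson.Basic
import Cfsg.Agent.Layer.PConstraint
import Cfsg.Agent.S1443
import Cfsg.Agent.OddLocal.PLengthOne
-- import your own Cfsg.Agent.* helpers here

set_option autoImplicit false
open Cfsg

namespace Cfsg.Agent.S1462

/-- Let G be a finite solvable group, p an odd prime with G = O_{p',p,p'}(G), E an elementary abelian p-subgroup contained in no larger elementary abelian p-subgroup of G, and L a subgroup of order coprime to p normalized by E. Then L ≤ O_{p'}(G). -/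
theorem result {G : Type*} [Group G] [Finite G] [Group.IsSolvable G] (p : ℕ) [Fact p.Prime] (hp : p ≠ 2) (hpl : Cfsg.PLengthLE p 1 G) (E L : Subgroup G) (hE : Cfsg.IsElementaryAbelian p E)
    (hEmax : ∀ B : Subgroup G, Cfsg.IsElementaryAbelian p B → E ≤ B → B = E) (hL : (Nat.card L).Coprime p) (hEL : E ≤ Subgroup.normalizer (L : Set G)) :
    L ≤ Cfsg.pPrimeCore p G := by
  obtain ⟨S, hES⟩ := (Coprime.ea_isPGroup hE).exists_le_sylow
  have hn := OddLocal.normal_pPrimeCore_sup hpl S
  let N := Cfsg.pPrimeCore p G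
  let f := QuotientGroup.mk' N
  have hker : (Nat.card f.ker).Coprime p := by
    rw [QuotientGroup.ker_mk']; exact Core.coprime_card_pPrimeCore
  have hS1 : IsPGroup p ((S : Subgroup G).map f) := S.isPGroup'.map f
  have hSn : ((S : Subgroup G).map f).Normal := by
    have : (S : Subgroup G).map f = (N ⊔ (S : Subgroup G)).map f := by
      rw [Subgroup.map_sup, (Subgroup.map_eq_bot_iff (f := f) N).mpr (QuotientGroup.ker_mk' N).ge,
        bot_sup_eq]
    rw [this]
    exact hn.map f (QuotientGroup.mk'_surjective N)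
  have hLcop : (Nat.card (L.map f)).Coprime p := hL.coprime_dvd_left (Subgroup.card_map_dvd L f)
  have hLS : L.map f ⊓ (S : Subgroup G).map f = ⊥ := by
    obtain ⟨n, hn⟩ := IsPGroup.iff_card.mp hS1
    exact disjoint_iff.mp (Subgroup.disjoint_of_coprime_natCard (hn ▸ hLcop.pow_right n))
  have hEf : Cfsg.IsElementaryAbelian p (E.map f) := by
    refine ⟨Subgroup.le_centralizer_iff_isMulCommutative.mp ?_, ?_⟩
    · rintro _ ⟨a, ha, rfl⟩
      rw [Subgroup.mem_centralizer_iff]
      rintro _ ⟨b, hb, rfl⟩
      rw [← map_mul, Coprime.ea_comm hE hb ha, map_mul]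
    · rintro _ ⟨a, ha, rfl⟩
      rw [← map_pow, hE.2 a ha, map_one]
  have hLE : L.map f ≤ Subgroup.centralizer (E.map f : Set (G ⧸ N)) := by
    rw [← Subgroup.commutator_eq_bot_iff_le_centralizer, eq_bot_iff, ← hLS]
    refine le_inf ?_ ?_
    · rw [← Subgroup.map_commutator]
      exact Subgroup.map_mono (Coprime.commutator_le_of_le_normalizer hEL)
    · exact (Subgroup.commutator_mono le_rfl (Subgroup.map_mono hES)).trans
        (Subgroup.commutator_le_right _ _)
  have hcent : L.map f ≤ Subgroup.centralizer ((S : Subgroup G).map f : Set (G ⧸ N)) := by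
    refine S1443.result p hp _ (E.map f) (L.map f) hS1 (Subgroup.map_mono hES) hEf
      (by rw [Subgroup.normalizer_eq_top]; exact le_top) hLcop ?_
    intro x hx hxp
    have hC : x ∈ (Subgroup.centralizer (E : Set G)).map f := by
      rw [Layer.map_centralizer_of_coprime (QuotientGroup.mk'_surjective N) hker
        (Coprime.ea_isPGroup hE)]
      exact hx.2
    obtain ⟨c, hc, rfl⟩ := hC
    -- replace `c` by its `p`-part
    set k := Nat.card N with hk
    have hck : orderOf (c ^ k) ∣ p := orderOf_dvd_of_pow_eq_one (by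
      rw [← pow_mul, mul_comm, pow_mul]
      have : c ^ p ∈ N := (QuotientGroup.eq_one_iff _).mp
        (show f (c ^ p) = 1 by rw [map_pow]; exact orderOf_dvd_iff_pow_eq_one.mp hxp.dvd)
      exact orderOf_dvd_iff_pow_eq_one.mp (Subgroup.orderOf_dvd_natCard _ this))
    have hmem : c ^ k ∈ E := by
      have hB : Cfsg.IsElementaryAbelian p (E ⊔ Subgroup.zpowers (c ^ k)) :=
        Thompson.ea_sup hE ⟨inferInstance,
          fun a ha => orderOf_dvd_iff_pow_eq_one.mp
            ((orderOf_dvd_of_mem_zpowers ha).trans hck)⟩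
          (Subgroup.le_centralizer_iff.mp (Subgroup.zpowers_le.mpr (pow_mem hc k)))
      rw [← hEmax _ hB le_sup_left]
      exact Subgroup.mem_sup_right (Subgroup.mem_zpowers _)
    have hgen : f c ∈ Subgroup.zpowers (f (c ^ k)) := by
      rw [map_pow]
      obtain ⟨m, hm⟩ := exists_pow_eq_self_of_coprime
        (show k.Coprime (orderOf (f c)) by rw [hxp]; exact Core.coprime_card_pPrimeCore)
      exact Subgroup.mem_zpowers_iff.mpr ⟨m, by rw [zpow_natCast, hm]⟩
    have hcE : f c ∈ E.map f :=
      Subgroup.zpowers_le.mpr (Subgroup.mem_map_of_mem f hmem) hgen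
    intro l hl
    rw [Subgroup.mem_centralizer_singleton_iff]
    exact (Subgroup.mem_centralizer_iff.mp (hLE hl) _ hcE).symm
  have hself : Layer.PCoreSelfCentral p (G ⧸ N) :=
    Layer.isPConstrained_iff_selfCentral.mp Layer.isPConstrained_of_isSolvable
  have hbot : L.map f = ⊥ := by
    have hpc : L.map f ≤ Cfsg.pCore p (G ⧸ N) :=
      (hcent.trans (Subgroup.centralizer_le (Core.pCore_le_sylow
        (S.mapSurjective (QuotientGroup.mk'_surjective N))))).trans hself
    exact Layer.eq_bot_of_isPGroup_of_coprime (Core.pCore_isPGroup.to_le hpc) hLcop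
  rw [Subgroup.map_eq_bot_iff, QuotientGroup.ker_mk'] at hbot
  exact hbot

end Cfsg.Agent.S1462
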