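import Cfsg.Statements.S1463

set_option autoImplicit false
open scoped MatrixGroups
open Cfsg

namespace Cfsg.Agent.S1463

open Matrix

section aux
variable {F : Type*} [Field F]

local notation "M₂" => Matrix (Fin 2) (Fin 2) F

theorem cayley (M : M₂) : M * M = M.trace • M - M.det • (1 : M₂) := by
  ext i j
  fin_cases i <;> fin_cases j <;>
    simp [Matrix.mul_apply, Matrix.det_fin_two, Matrix.trace_fin_two] <;> ring

theorem exists_eq_of_commute {f g : M₂} (hf : ∀ c : F, f ≠ c • (1 : M₂)) (h : Commute g f) :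
    ∃ a b : F, g = a • (1 : M₂) + b • f := by
  have h00 := congrFun (congrFun h.eq 0) 0
  have h01 := congrFun (congrFun h.eq 0) 1
  have h10 := congrFun (congrFun h.eq 1) 0
  simp [Matrix.mul_apply] at h00 h01 h10
  by_cases hq : f 0 1 = 0
  · by_cases hr : f 1 0 = 0
    · have hps : f 0 0 - f 1 1 ≠ 0 := fun e => hf (f 0 0) (by
        ext i j; fin_cases i <;> fin_cases j <;> simp [hq, hr]
        linear_combination -e)
      simp only [hq, hr, mul_zero, zero_mul, zero_add, add_zero] at h01 h10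
      have hg01 : g 0 1 = 0 := by
        have : g 0 1 * (f 0 0 - f 1 1) = 0 := by linear_combination -h01
        exact (mul_eq_zero.mp this).resolve_right hps
      have hg10 : g 1 0 = 0 := by
        have : g 1 0 * (f 0 0 - f 1 1) = 0 := by linear_combination h10
        exact (mul_eq_zero.mp this).resolve_right hps
      set b := (g 0 0 - g 1 1) / (f 0 0 - f 1 1) with hb
      have hbe : b * (f 0 0 - f 1 1) = g 0 0 - g 1 1 := div_mul_cancel₀ _ hps
      refine ⟨g 0 0 - b * f 0 0, b, ?_⟩
      ext i j; fin_cases i <;> fin_cases j <;> simp [hq, hr, hg01, hg10]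
      linear_combination hbe
    · set b := g 1 0 / f 1 0 with hb
      have hbe : b * f 1 0 = g 1 0 := div_mul_cancel₀ _ hr
      refine ⟨g 0 0 - b * f 0 0, b, ?_⟩
      simp only [hq, mul_zero, zero_mul, zero_add, add_zero] at h01 h00
      have hg01 : g 0 1 = 0 := by
        have : g 0 1 * f 1 0 = 0 := by linear_combination h00
        exact (mul_eq_zero.mp this).resolve_right hr
      ext i j; fin_cases i <;> fin_cases j <;> simp [hq, hg01, hbe]
      apply mul_left_cancel₀ hr
      linear_combination h10 + (f 0 0 - f 1 1) * hbe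
  · set b := g 0 1 / f 0 1 with hb
    have hbe : b * f 0 1 = g 0 1 := div_mul_cancel₀ _ hq
    refine ⟨g 0 0 - b * f 0 0, b, ?_⟩
    ext i j; fin_cases i <;> fin_cases j <;> simp [hbe]
    · apply mul_left_cancel₀ hq
      linear_combination -h00 - f 1 0 * hbe
    · apply mul_left_cancel₀ hq
      linear_combination -h01 + (f 0 0 - f 1 1) * hbe

variable (X : Subgroup (GL (Fin 2) F)) [Finite X]
  (hodd : Odd (Nat.card X)) (hdet : ∀ x : X, Matrix.det (Units.val (Subtype.val x) : Matrix (Fin 2) (Fin 2) F) = 1)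

local notation "μ" x:max => Units.val (Subtype.val x)

theorem mat_inj {x y : X} (h : μ x = μ y) : x = y := Subtype.ext (Units.ext h)

include hodd hdet in
theorem not_scalar {x : X} (hx : x ≠ 1) (c : F) : μ x ≠ c • (1 : M₂) := by
  intro h
  have h1 : x ^ 2 = 1 := by
    apply mat_inj X
    have hc := hdet x
    rw [h, Matrix.det_smul, Matrix.det_one, mul_one, Fintype.card_fin] at hc
    simp only [sq, Subgroup.coe_mul, Units.val_mul, OneMemClass.coe_one, Units.val_one]
    rw [h, smul_mul_assoc, one_mul, smul_smul, ← sq, hc, one_smul]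
  have h2 : orderOf x ∣ 1 := by
    rw [← Nat.coprime_two_left.mpr hodd]
    exact Nat.dvd_gcd (orderOf_dvd_of_pow_eq_one h1) (orderOf_dvd_natCard x)
  exact hx (orderOf_eq_one_iff.mp (Nat.dvd_one.mp h2))

include hodd hdet in
theorem commute_trans {x y z : X} (hz : z ≠ 1) (hx : Commute x z) (hy : Commute y z) :
    Commute x y := by
  have hcx : Commute (μ x) (μ z) := congrArg (fun w : X => μ w) hx.eq
  have hcy : Commute (μ z) (μ y) := congrArg (fun w : X => μ w) hy.eq.symm
  obtain ⟨a, b, hab⟩ := exists_eq_of_commute (not_scalar X hodd hdet hz) hcx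
  apply mat_inj X
  show μ x * μ y = μ y * μ x
  rw [hab]
  exact (((Commute.one_left (μ y)).smul_left a).add_left (hcy.smul_left b)).eq

include hodd hdet in
theorem commute_of_conj_commute {z n : X} (hz : z ≠ 1) (hm : ((orderOf z : ℕ) : F) ≠ 0)
    (h2 : (2 : F) ≠ 0) (h : Commute (n * z * n⁻¹) z) : Commute n z := by
  set A : M₂ := μ z with hA
  set B : M₂ := μ (n * z * n⁻¹) with hB
  have hns : ∀ c : F, A ≠ c • (1 : M₂) := not_scalar X hodd hdet hz
  have hBne : n * z * n⁻¹ ≠ 1 := by simpa using hz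
  obtain ⟨a, b, hab⟩ := exists_eq_of_commute hns
    (show Commute B A from congrArg (fun w : X => μ w) h.eq)
  set t := A.trace with ht
  have hA2 : A * A = t • A - (1 : M₂) := by
    rw [cayley A, hA, hdet z, one_smul, ← hA]
  have hBt : B.trace = t := by
    have e : B = μ n * A * μ (n⁻¹) := by simp [hB, hA]
    rw [e, Matrix.trace_mul_comm, ← mul_assoc]
    simp [ht]
  have hB2 : B * B = t • B - (1 : M₂) := by
    rw [cayley B, hBt, hB, hdet, one_smul]
  have h0 : (2 * a * b + b ^ 2 * t - t * b) • A + (a ^ 2 - b ^ 2 - t * a + 1) • (1 : M₂) = 0 := by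
    have e : B * B - (t • B - (1 : M₂)) = 0 := sub_eq_zero.mpr hB2
    rw [hab] at e
    simp only [add_mul, mul_add, smul_mul_assoc, mul_smul_comm, one_mul, mul_one, smul_smul, hA2,
      smul_sub, smul_add] at e
    rw [← e]
    match_scalars <;> ring
  have hb : b ≠ 0 := fun e => not_scalar X hodd hdet hBne a (by
    show B = _
    rw [hab, e, zero_smul, add_zero])
  have hc1 : 2 * a * b + b ^ 2 * t - t * b = 0 := by
    by_contra hne
    refine hns (-(a ^ 2 - b ^ 2 - t * a + 1) / (2 * a * b + b ^ 2 * t - t * b)) ?_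
    have e := eq_neg_of_add_eq_zero_left h0
    rw [← inv_smul_smul₀ hne A, e, smul_neg, smul_smul, ← neg_smul, div_eq_inv_mul, mul_neg]
  have hc2 : a ^ 2 - b ^ 2 - t * a + 1 = 0 := by
    rw [hc1, zero_smul, zero_add] at h0
    have := congrFun (congrFun h0 0) 0
    simpa using this
  have hc1' : 2 * a + b * t - t = 0 :=
    (mul_eq_zero.mp (by linear_combination hc1 : b * (2 * a + b * t - t) = 0)).resolve_left hb
  have hprod : (1 - b) * ((1 + b) * (4 - t ^ 2)) = 0 := by
    linear_combination 4 * hc2 - (2 * a - b * t - t) * hc1'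
  have ht4 : 4 - t ^ 2 ≠ 0 := by
    intro e
    have hs : (t / 2) ^ 2 = 1 := by
      field_simp
      linear_combination -e
    set s := t / 2 with hs'
    have hts : t = 2 * s := by rw [hs']; field_simp
    set N : M₂ := s • A - (1 : M₂) with hN
    have hN2 : N * N = 0 := by
      rw [hN]
      simp only [sub_mul, mul_sub, smul_mul_assoc, mul_smul_comm, one_mul, mul_one, smul_smul, hA2,
        smul_sub, hts]
      match_scalars
      · linear_combination 2 * s * hs
      · linear_combination -hs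
    have hpow : ∀ k : ℕ, ((1 : M₂) + N) ^ k = 1 + (k : F) • N := by
      intro k
      induction k with
      | zero => simp
      | succ k ih =>
        rw [pow_succ, ih]
        simp only [add_mul, mul_add, one_mul, mul_one, smul_mul_assoc, hN2, smul_zero, add_zero]
        push_cast
        rw [add_smul, one_smul]
        abel
    have h1 := hpow (2 * orderOf z)
    rw [hN, add_sub_cancel, smul_pow, pow_mul s, hs, one_pow, one_smul, pow_mul', hA,
      ← Units.val_pow_eq_pow_val, ← SubgroupClass.coe_pow, pow_orderOf_eq_one] at h1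
    simp only [OneMemClass.coe_one, Units.val_one, one_pow, Nat.cast_mul, Nat.cast_ofNat,
      left_eq_add, smul_eq_zero, mul_eq_zero, h2, hm, or_self, false_or] at h1
    refine hns s ?_
    have h3 := congrArg (fun M => s • M) (sub_eq_zero.mp h1)
    simpa [smul_smul, ← sq, hs] using h3
  rcases mul_eq_zero.mp hprod with e | e
  · have hb1 : b = 1 := (sub_eq_zero.mp e).symm
    have ha : a = 0 :=
      (mul_eq_zero.mp (by subst hb1; linear_combination hc1' : (2 : F) * a = 0)).resolve_left h2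
    have hBA : n * z * n⁻¹ = z := mat_inj X (by
      show B = A
      rw [hab, ha, hb1, zero_smul, one_smul, zero_add])
    exact mul_inv_eq_iff_eq_mul.mp hBA
  · have hb1 : b = -1 := eq_neg_of_add_eq_zero_right ((mul_eq_zero.mp e).resolve_right ht4)
    have ha : a = t :=
      sub_eq_zero.mp ((mul_eq_zero.mp (by subst hb1; linear_combination hc1' : (2 : F) * (a - t) = 0)).resolve_left h2)
    have hinv : n * z * n⁻¹ = z⁻¹ := by
      refine eq_inv_of_mul_eq_one_left (mat_inj X ?_)
      show B * A = μ (1 : X)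
      rw [hab, ha, hb1, add_mul, smul_mul_assoc, smul_mul_assoc, one_mul, hA2]
      simp only [OneMemClass.coe_one, Units.val_one, neg_smul, one_smul]
      abel
    have hn2 : Commute (n ^ 2) z := by
      show _ = _
      have this : n * (n * z * n⁻¹) * n⁻¹ = z := by
        rw [hinv]
        calc n * z⁻¹ * n⁻¹ = (n * z * n⁻¹)⁻¹ := by group
          _ = z := by rw [hinv, inv_inv]
      calc n ^ 2 * z = (n * (n * z * n⁻¹) * n⁻¹) * n ^ 2 := by rw [sq]; group
        _ = z * n ^ 2 := by rw [this]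
    obtain ⟨k, hk⟩ := hodd
    have hn : n = (n ^ 2) ^ (k + 1) := by
      rw [← pow_mul, show 2 * (k + 1) = (2 * k + 1) + 1 by ring, pow_succ, ← hk, pow_card_eq_one',
        one_mul]
    rw [hn]
    exact hn2.pow_left _

include hodd hdet in
theorem exists_normal_pGroup (p : ℕ) [Fact p.Prime] [CharP F p] (hp : p ≠ 2) :
    ∃ K : Subgroup X, IsPGroup p K ∧ ∀ (g : X) (k : ℕ), g ^ p ^ k = 1 → g ∈ K := by
  classical
  obtain ⟨P⟩ : Nonempty (Sylow p X) := inferInstance
  have h2 : (2 : F) ≠ 0 := Ring.two_ne_zero (by rwa [ringChar.eq F p])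
  set K := Subgroup.normalClosure ((P : Subgroup X) : Set X)
  refine ⟨K, ?_, ?_⟩
  · rw [IsPGroup.iff_card]
    refine ⟨(Nat.card K).primeFactorsList.length, Nat.eq_prime_pow_of_unique_prime_dvd Nat.card_pos.ne' ?_⟩
    intro q hq hqK
    by_contra hqp
    haveI : Fact q.Prime := ⟨hq⟩
    obtain ⟨Q⟩ : Nonempty (Sylow q X) := inferInstance
    have hQ : Subgroup.normalizer ((Q : Subgroup X) : Set X) ≤ Subgroup.centralizer (Q : Set X) := by
      by_cases hQ1 : (Q : Subgroup X) = ⊥
      · intro n _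
        refine Subgroup.mem_centralizer_iff.mpr fun w hw => ?_
        rw [SetLike.mem_coe] at hw
        have : w = 1 := by rw [← Subgroup.mem_bot, ← hQ1]; exact hw
        simp [this]
      haveI : Nontrivial (Q : Subgroup X) := (Subgroup.nontrivial_iff_ne_bot _).mpr hQ1
      obtain ⟨⟨⟨z, hzQ⟩, hzc⟩, hz1⟩ := (Subgroup.nontrivial_iff_exists_ne_one _).mp
        (Q.2.center_nontrivial) |> fun ⟨x, hx, hx1⟩ => (⟨⟨x, hx⟩, fun e => hx1 e⟩ :
          ∃ c : Subgroup.center (Q : Subgroup X), (c : (Q : Subgroup X)) ≠ 1)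
      have hz : z ≠ 1 := fun e => hz1 (Subtype.ext e)
      have hm : ((orderOf z : ℕ) : F) ≠ 0 := by
        rw [Ne, CharP.cast_eq_zero_iff F p]
        intro hd
        obtain ⟨j, hj⟩ := IsPGroup.iff_orderOf.mp Q.2 ⟨z, hzQ⟩
        rw [Subgroup.orderOf_mk] at hj
        exact hqp ((Nat.prime_dvd_prime_iff_eq (Fact.out : p.Prime) hq).mp
          ((Fact.out : p.Prime).dvd_of_dvd_pow (hj ▸ hd))).symm
      have hcomm : ∀ w ∈ (Q : Subgroup X), Commute w z := fun w hw =>
        congrArg Subtype.val (Subgroup.mem_center_iff.mp hzc ⟨w, hw⟩)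
      intro n hn
      have hnz : Commute n z := commute_of_conj_commute X hodd hdet hz hm h2
        (hcomm _ ((Subgroup.mem_normalizer_iff.mp hn z).mp hzQ))
      exact Subgroup.mem_centralizer_iff.mpr fun w hw =>
        commute_trans X hodd hdet hz (hcomm w hw) hnz
    have hPk : (P : Subgroup X) ≤ (MonoidHom.transferSylow Q hQ).ker := by
      intro g hg
      rw [MonoidHom.mem_ker, ← orderOf_eq_one_iff]
      obtain ⟨i, hi⟩ := IsPGroup.iff_orderOf.mp P.2 ⟨g, hg⟩
      obtain ⟨j, hj⟩ := IsPGroup.iff_orderOf.mp Q.2 (MonoidHom.transferSylow Q hQ g)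
      rw [Subgroup.orderOf_mk] at hi
      have hd := orderOf_map_dvd (MonoidHom.transferSylow Q hQ) g
      rw [hi, hj] at hd
      rw [hj]
      exact Nat.eq_one_of_dvd_coprimes
        (((Nat.coprime_primes hq (Fact.out : p.Prime)).mpr hqp).pow j i) dvd_rfl hd
    exact MonoidHom.not_dvd_card_ker_transferSylow Q hQ
      (hqK.trans (Subgroup.card_dvd_of_le (Subgroup.normalClosure_le_normal hPk)))
  · intro g k hg
    have hgp : IsPGroup p (Subgroup.zpowers g) := by
      intro x
      obtain ⟨m, hm⟩ := Subgroup.mem_zpowers_iff.mp x.2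
      refine ⟨k, Subtype.ext ?_⟩
      rw [SubgroupClass.coe_pow, OneMemClass.coe_one, ← hm, ← zpow_natCast, ← _root_.zpow_mul, mul_comm,
        _root_.zpow_mul, zpow_natCast, hg, _root_.one_zpow]
    obtain ⟨P', hP'⟩ := hgp.exists_le_sylow
    obtain ⟨c, hc⟩ := MulAction.exists_smul_eq X P P'
    have hg' : g ∈ (P' : Subgroup X) := hP' (Subgroup.mem_zpowers g)
    rw [← hc, Sylow.coe_subgroup_smul, Subgroup.mem_pointwise_smul_iff_inv_smul_mem] at hg'
    simp only [MulAut.smul_def, MulAut.conj_inv_apply] at hg'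
    show g ∈ Subgroup.normalClosure ((P : Subgroup X) : Set X)
    have := Subgroup.normalClosure_normal.conj_mem _ (Subgroup.subset_normalClosure hg') c
    simpa [mul_assoc] using this

end aux

/-- Let F be a field of odd characteristic p and H a finite subgroup of odd order of GL(2, F) that leaves no 1-dimensional subspace of F² invariant. Then p does not divide the order of H. -/
theorem result {F : Type*} [Field F] (p : ℕ) [Fact p.Prime] [CharP F p] (hp : p ≠ 2)
    (H : Subgroup (GL (Fin 2) F)) [Finite H] (hodd : Odd (Nat.card H))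
    (hirr : ∀ v : Fin 2 → F, v ≠ 0 → ∃ g ∈ H, (g : Matrix (Fin 2) (Fin 2) F).mulVec v ∉ Submodule.span F {v}) :
    ¬ p ∣ Nat.card H := by
  classical
  intro hdvd
  obtain ⟨⟨g, hgH⟩, hgo⟩ := exists_prime_orderOf_dvd_card' p hdvd
  rw [Subgroup.orderOf_mk] at hgo
  set X := H ⊓ (Matrix.GeneralLinearGroup.det (n := Fin 2) (R := F)).ker with hX
  haveI : Finite X := Finite.of_injective _ (Subgroup.inclusion_injective (inf_le_left : X ≤ H))
  have hXodd : Odd (Nat.card X) := hodd.of_dvd_nat (Subgroup.card_dvd_of_le inf_le_left)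
  have hdet : ∀ x : X, ((x : GL (Fin 2) F) : Matrix (Fin 2) (Fin 2) F).det = 1 := fun x =>
    congrArg Units.val (MonoidHom.mem_ker.mp (Subgroup.mem_inf.mp x.2).2)
  have hroot : ∀ (c : F) (k : ℕ), c ^ p ^ k = 1 → c = 1 := fun c k hc => by
    have := sub_pow_char_pow (p := p) (n := k) c (1 : F)
    rw [hc, one_pow, sub_self] at this
    exact sub_eq_zero.mp (eq_zero_of_pow_eq_zero this)
  have hgX : g ∈ X := by
    refine Subgroup.mem_inf.mpr ⟨hgH, MonoidHom.mem_ker.mpr (Units.ext (hroot _ 1 ?_))⟩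
    rw [pow_one, ← Units.val_pow_eq_pow_val, ← map_pow, ← hgo, pow_orderOf_eq_one, map_one,
      Units.val_one]
  obtain ⟨K, hKp, hK⟩ := exists_normal_pGroup X hXodd hdet p hp
  have hgK : (⟨g, hgX⟩ : X) ∈ K := hK _ 1 (Subtype.ext (by
    rw [pow_one, SubgroupClass.coe_pow, ← hgo, pow_orderOf_eq_one, OneMemClass.coe_one]))
  haveI : Nontrivial K := by
    refine ⟨⟨_, hgK⟩, 1, fun e => ?_⟩
    have : g = 1 := congrArg (fun w : K => ((w : X) : GL (Fin 2) F)) e
    rw [this, orderOf_one] at hgo
    exact (Fact.out : p.Prime).one_lt.ne hgo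
  haveI := hKp.center_nontrivial
  obtain ⟨zc, hzc1⟩ := exists_ne (1 : Subgroup.center K)
  obtain ⟨⟨z, hzK⟩, hzc⟩ := zc
  have hz : z ≠ 1 := fun e => hzc1 (Subtype.ext (Subtype.ext e))
  obtain ⟨k, hk⟩ := hKp ⟨z, hzK⟩
  have hzk : z ^ p ^ k = 1 := congrArg Subtype.val hk
  set A : Matrix (Fin 2) (Fin 2) F := ((z : GL (Fin 2) F) : Matrix (Fin 2) (Fin 2) F) with hA
  have hAk : A ^ p ^ k = 1 := by
    rw [hA, ← Units.val_pow_eq_pow_val, ← SubgroupClass.coe_pow, hzk]; rfl
  have hd : (A - 1).det = 0 := by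
    apply eq_zero_of_pow_eq_zero (n := p ^ k)
    rw [← Matrix.det_pow, sub_pow_char_pow_of_commute (p := p) (h := Commute.one_right A), hAk,
      one_pow, sub_self, Matrix.det_zero]
  obtain ⟨v, hv, hAv⟩ := Matrix.exists_mulVec_eq_zero_iff.mpr hd
  rw [Matrix.sub_mulVec, Matrix.one_mulVec, sub_eq_zero] at hAv
  obtain ⟨h, hhH, hhv⟩ := hirr v hv
  have hconj : h * (z : GL (Fin 2) F) * h⁻¹ ∈ X := by
    refine Subgroup.mem_inf.mpr ⟨H.mul_mem (H.mul_mem hhH (Subgroup.mem_inf.mp z.2).1) (H.inv_mem hhH), ?_⟩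
    exact (MonoidHom.normal_ker _).conj_mem _ (Subgroup.mem_inf.mp z.2).2 h
  set z' : X := ⟨_, hconj⟩ with hz'
  have hz'k : z' ^ p ^ k = 1 := Subtype.ext (by
    rw [SubgroupClass.coe_pow, OneMemClass.coe_one, hz', conj_pow, ← SubgroupClass.coe_pow, hzk,
      OneMemClass.coe_one, mul_one, mul_inv_cancel])
  have hz'ne : z' ≠ 1 := fun e => hz (Subtype.ext (by
    have e1 : h * (z : GL (Fin 2) F) * h⁻¹ = 1 := congrArg Subtype.val e
    simpa using e1))
  have hcomm : Commute z' z :=
    congrArg Subtype.val (Subgroup.mem_center_iff.mp hzc ⟨z', hK _ k hz'k⟩)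
  obtain ⟨a, b, hab⟩ := exists_eq_of_commute (not_scalar X hXodd hdet hz)
    (congrArg (fun w : X => ((w : GL (Fin 2) F) : Matrix (Fin 2) (Fin 2) F)) hcomm.eq :
      Commute ((z' : GL (Fin 2) F) : Matrix (Fin 2) (Fin 2) F) A)
  set B : Matrix (Fin 2) (Fin 2) F := ((z' : GL (Fin 2) F) : Matrix (Fin 2) (Fin 2) F) with hB
  have hBv : B.mulVec v = (a + b) • v := by
    rw [hab, Matrix.add_mulVec, Matrix.smul_mulVec, Matrix.smul_mulVec, Matrix.one_mulVec, hAv,
      add_smul]
  have hBn : ∀ m : ℕ, (B ^ m).mulVec v = (a + b) ^ m • v := by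
    intro m
    induction m with
    | zero => simp
    | succ m ih =>
      rw [pow_succ', ← Matrix.mulVec_mulVec, ih, Matrix.mulVec_smul, hBv, smul_smul, ← pow_succ]
  have hab1 : a + b = 1 := by
    refine hroot _ k ?_
    have := hBn (p ^ k)
    rw [hB, ← Units.val_pow_eq_pow_val, ← SubgroupClass.coe_pow, hz'k, OneMemClass.coe_one,
      Units.val_one, Matrix.one_mulVec] at this
    exact (smul_left_injective F hv (show (1 : F) • v = (a + b) ^ p ^ k • v by rwa [one_smul])).symm
  set w : Fin 2 → F := (h : Matrix (Fin 2) (Fin 2) F).mulVec v with hw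
  have hBw : B.mulVec w = w := by
    have hB' : B = (h : Matrix (Fin 2) (Fin 2) F) * A * ((h⁻¹ : GL (Fin 2) F) : Matrix (Fin 2) (Fin 2) F) := rfl
    rw [hB', hw, Matrix.mulVec_mulVec, mul_assoc, ← Units.val_mul h⁻¹ h, inv_mul_cancel,
      Units.val_one, mul_one, ← Matrix.mulVec_mulVec, hAv]
  have hb : b ≠ 0 := fun e => not_scalar X hXodd hdet hz'ne a (by
    show B = _
    rw [hab, e, zero_smul, add_zero])
  have hAw : A.mulVec w = w := by
    rw [hab, Matrix.add_mulVec, Matrix.smul_mulVec, Matrix.smul_mulVec, Matrix.one_mulVec] at hBw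
    refine smul_right_injective _ hb ?_
    show b • A.mulVec w = b • w
    rw [eq_sub_of_add_eq' hBw, show a = 1 - b from eq_sub_of_add_eq hab1, sub_smul, one_smul,
      sub_sub_cancel]
  refine not_scalar X hXodd hdet hz 1 ?_
  rw [one_smul]
  show A = 1
  have hdd : v 0 * w 1 - v 1 * w 0 ≠ 0 := by
    intro e
    apply hhv
    rw [Submodule.mem_span_singleton]
    by_cases h0 : v 0 = 0
    · have h1 : v 1 ≠ 0 := fun e1 => hv (by ext i; fin_cases i <;> simp [h0, e1])
      refine ⟨w 1 / v 1, ?_⟩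
      have hw0 : w 0 = 0 := by simpa [h0, h1] using e
      ext i; fin_cases i <;> simp [h0, hw0, h1]
    · refine ⟨w 0 / v 0, ?_⟩
      ext i; fin_cases i <;> simp [h0]
      field_simp
      linear_combination -e
  have a0 := congrFun hAv 0
  have a1 := congrFun hAv 1
  have b0 := congrFun hAw 0
  have b1 := congrFun hAw 1
  simp [Matrix.mulVec, dotProduct, Fin.sum_univ_two] at a0 a1 b0 b1
  ext i j; fin_cases i <;> fin_cases j <;> simp <;> refine mul_right_cancel₀ hdd ?_
  · linear_combination w 1 * a0 - v 1 * b0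
  · linear_combination v 0 * b0 - w 0 * a0
  · linear_combination w 1 * a1 - v 1 * b1
  · linear_combination v 0 * b1 - w 0 * a1

end Cfsg.Agent.S1463
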