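import Cfsg.Statements.S1465
import Cfsg.Agent.QdFree.Consequences

set_option autoImplicit false
open Cfsg

namespace Cfsg.Agent.S1465

/-- Let p be an odd prime, G a solvable group of odd order, P a normal p-subgroup of G, and X the subgroup generated by a family of abelian p-subgroups of G each normalized by P. Then the image of X in G/C_G(P) lies in O_p(G/C_G(P)); and if O_{p'}(G) = 1 and O_p(G) ∩ C_G(P) ≤ P then X ≤ O_p(G). -/
theorem result {G : Type*} [Group G] [Finite G] [Group.IsSolvable G] (hodd : Odd (Nat.card G)) (p : ℕ) [Fact p.Prime] (hp : p ≠ 2) (P : Subgroup G) [P.Normal] (hP : IsPGroup p P)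
    (S : Set (Subgroup G)) (hS : ∀ B ∈ S, IsMulCommutative B ∧ IsPGroup p B ∧ P ≤ Subgroup.normalizer (B : Set G)) :
    (sSup S).map (QuotientGroup.mk' (Subgroup.centralizer (P : Set G))) ≤ Cfsg.pCore p (G ⧸ Subgroup.centralizer (P : Set G)) ∧
      (Cfsg.pPrimeCore p G = ⊥ → Cfsg.pCore p G ⊓ Subgroup.centralizer (P : Set G) ≤ P → sSup S ≤ Cfsg.pCore p G) := by
  set C := Subgroup.centralizer (P : Set G)
  have hmem : ∀ B ∈ S, ∀ b ∈ B, (b : G ⧸ C) ∈ Cfsg.pCore p (G ⧸ C) := fun B hB b hb =>
    QdFree.mk_mem_pCore_of_odd hp hodd hP (QdFree.quadratic_of_normalized (hS B hB).1 (hS B hB).2.2 hb)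
  have h1 : sSup S ≤ (Cfsg.pCore p (G ⧸ C)).comap (QuotientGroup.mk' C) :=
    sSup_le fun B hB b hb => hmem B hB b hb
  refine ⟨Subgroup.map_le_iff_le_comap.mpr h1, fun hO hle => h1.trans ?_⟩
  have hCn : C.Normal := inferInstance
  have hCO : Cfsg.pPrimeCore p C = ⊥ := by
    have hn : ((Cfsg.pPrimeCore p C).map C.subtype).Normal :=
      ConjAct.normal_of_characteristic_of_normal
    have := Core.le_pPrimeCore (p := p) (N := (Cfsg.pPrimeCore p C).map C.subtype)
      (by rw [Subgroup.card_map_of_injective C.subtype_injective]; exact Core.coprime_card_pPrimeCore)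
    rw [hO, le_bot_iff, Subgroup.map_eq_bot_iff_of_injective _ C.subtype_injective] at this
    exact this
  have hsc : Layer.PCoreSelfCentral p C :=
    Layer.pCoreSelfCentral_congr ((QuotientGroup.quotientMulEquivOfEq hCO).trans QuotientGroup.quotientBot)
      (Layer.isPConstrained_iff_selfCentral.mp (Layer.isPConstrained_of_isSolvable (G := C)))
  have hCp : IsPGroup p C := by
    have hn : ((Cfsg.pCore p C).map C.subtype).Normal :=
      ConjAct.normal_of_characteristic_of_normal
    have hQ : (Cfsg.pCore p C).map C.subtype ≤ P := (le_inf (Core.le_pCore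
      (Core.pCore_isPGroup.map _)) (Subgroup.map_subtype_le _)).trans hle
    have htop : Cfsg.pCore p C = ⊤ := eq_top_iff.mpr fun c _ => hsc (Subgroup.mem_centralizer_iff.mpr
      fun z hz => Subtype.ext (Subgroup.mem_centralizer_iff.mp c.2 (z : G) (hQ ⟨z, hz, rfl⟩)))
    exact (htop ▸ Core.pCore_isPGroup (p := p) (G := C)).of_equiv Subgroup.topEquiv
  exact Core.le_pCore (hN := (inferInstance : (Cfsg.pCore p (G ⧸ C)).Normal).comap _)
    (Core.pCore_isPGroup.comap_of_ker_isPGroup _ (by rw [QuotientGroup.ker_mk']; exact hCp))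

end Cfsg.Agent.S1465
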