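import Cfsg.Statements.S1466
import Cfsg.Agent.Fusion.PGroup
-- import your own Cfsg.Agent.* helpers here

set_option autoImplicit false
open Cfsg

namespace Cfsg.Agent.S1466

/-- Let p be a prime and R a nontrivial finite p-group. Then for every i > 0, Z(R) ≤ C_R(L_i(R)) ≤ L_i(R); likewise Z(R) ≤ C_R(L_*(R)) ≤ L_*(R) and Z(R) ≤ C_R(L(R)) ≤ L(R); and L(R) ≠ 1, L_*(R) ≠ 1. -/
theorem result {R : Type*} [Group R] [Finite R] (p : ℕ) [Fact p.Prime] (hR : IsPGroup p R) [Nontrivial R] :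
    (∀ i : ℕ, 0 < i → Subgroup.center R ≤ Subgroup.centralizer ((Cfsg.puigSeq R i : Subgroup R) : Set R) ∧
        Subgroup.centralizer ((Cfsg.puigSeq R i : Subgroup R) : Set R) ≤ Cfsg.puigSeq R i) ∧
      (Subgroup.center R ≤ Subgroup.centralizer ((Cfsg.puigLower R : Subgroup R) : Set R) ∧ Subgroup.centralizer ((Cfsg.puigLower R : Subgroup R) : Set R) ≤ Cfsg.puigLower R) ∧
      (Subgroup.center R ≤ Subgroup.centralizer ((Cfsg.puigSubgroup R : Subgroup R) : Set R) ∧ Subgroup.centralizer ((Cfsg.puigSubgroup R : Subgroup R) : Set R) ≤ Cfsg.puigSubgroup R) ∧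
      Cfsg.puigSubgroup R ≠ ⊥ ∧ Cfsg.puigLower R ≠ ⊥ := by
  obtain ⟨A, -, hAn, hAc, hmax⟩ := Fusion.exists_maximal_normal_abelian (⊥ : Subgroup R)
    inferInstance
  have hself := Fusion.centralizer_eq_of_maximal_normal_abelian hR A hAc hmax
  have hA1 : A ≠ ⊥ := by
    intro h
    rw [h] at hself
    exact top_ne_bot (α := Subgroup R) (eq_bot_iff.mpr (hself ▸ fun x _ => by
      rw [Subgroup.mem_centralizer_iff]; simp))
  have hstep : ∀ X, A ≤ Cfsg.puigStep X := fun X =>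
    le_sSup ⟨hAc, by rw [Subgroup.normalizer_eq_top]; exact le_top⟩
  have main : ∀ Y : Subgroup R, A ≤ Y → Subgroup.center R ≤ Subgroup.centralizer (Y : Set R) ∧
      Subgroup.centralizer (Y : Set R) ≤ Y := fun Y hY =>
    ⟨Subgroup.center_le_centralizer _, ((Subgroup.centralizer_le hY).trans hself.le).trans hY⟩
  have hseq : ∀ n, A ≤ Cfsg.puigSeq R (n + 1) := fun n => hstep _
  have hlow : A ≤ Cfsg.puigLower R := (hseq 1).trans (le_iSup (fun n => Cfsg.puigSeq R (2 * n)) 1)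
  have hup : A ≤ Cfsg.puigSubgroup R := le_iInf fun n => hseq (2 * n)
  refine ⟨fun i hi => main _ ?_, main _ hlow, main _ hup, fun h => hA1 (eq_bot_iff.mpr (h ▸ hup)),
    fun h => hA1 (eq_bot_iff.mpr (h ▸ hlow))⟩
  obtain ⟨j, rfl⟩ : ∃ j, i = j + 1 := ⟨i - 1, by omega⟩
  exact hseq j

end Cfsg.Agent.S1466
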