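import Cfsg.Statements.S1467
-- import your own Cfsg.Agent.* helpers here

set_option autoImplicit false
open Cfsg

namespace Cfsg.Agent.S1467

/-- Let G be a finite group with Puig series L_n(G). Then L_0 = 1, L_1 = G; L_{2n} ≤ L_{2n+2} ≤ L_{2m+3} ≤ L_{2m+1} for all n, m; there is k with L_{2n}(G) = L_*(G) and L_{2n+1}(G) = L(G) for all n ≥ k; L_*(G) ≤ L(G); and applying one Puig step to L_*(G) gives L(G) and to L(G) gives L_*(G). -/
theorem result {G : Type*} [Group G] [Finite G] :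
    Cfsg.puigSeq G 0 = ⊥ ∧ Cfsg.puigSeq G 1 = ⊤ ∧
      (∀ n m : ℕ, Cfsg.puigSeq G (2 * n) ≤ Cfsg.puigSeq G (2 * n + 2) ∧ Cfsg.puigSeq G (2 * n) ≤ Cfsg.puigSeq G (2 * m + 1) ∧
        Cfsg.puigSeq G (2 * m + 3) ≤ Cfsg.puigSeq G (2 * m + 1)) ∧
      (∃ k : ℕ, ∀ n : ℕ, k ≤ n → Cfsg.puigSeq G (2 * n) = Cfsg.puigLower G ∧ Cfsg.puigSeq G (2 * n + 1) = Cfsg.puigSubgroup G) ∧
      Cfsg.puigLower G ≤ Cfsg.puigSubgroup G ∧
      Cfsg.puigStep (Cfsg.puigLower G) = Cfsg.puigSubgroup G ∧ Cfsg.puigStep (Cfsg.puigSubgroup G) = Cfsg.puigLower G := by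
  have anti : ∀ X Y : Subgroup G, X ≤ Y → Cfsg.puigStep Y ≤ Cfsg.puigStep X := fun X Y h =>
    sSup_le fun A hA => le_sSup ⟨hA.1, h.trans hA.2⟩
  have hsucc : ∀ n, Cfsg.puigSeq G (n + 1) = Cfsg.puigStep (Cfsg.puigSeq G n) := fun n => rfl
  have h0 : Cfsg.puigSeq G 0 = ⊥ := rfl
  have h1 : Cfsg.puigSeq G 1 = ⊤ := by
    rw [hsucc, h0, eq_top_iff]
    intro x _
    exact (le_sSup ⟨inferInstance, bot_le⟩ : Subgroup.zpowers x ≤ Cfsg.puigStep ⊥)
      (Subgroup.mem_zpowers x)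
  have hpair : ∀ n, Cfsg.puigSeq G (2 * n) ≤ Cfsg.puigSeq G (2 * n + 2) ∧
      Cfsg.puigSeq G (2 * n + 3) ≤ Cfsg.puigSeq G (2 * n + 1) ∧
      Cfsg.puigSeq G (2 * n) ≤ Cfsg.puigSeq G (2 * n + 1) := by
    intro n
    induction n with
    | zero => exact ⟨h0 ▸ bot_le, h1 ▸ le_top, h0 ▸ bot_le⟩
    | succ n ih =>
      have e : 2 * (n + 1) = 2 * n + 2 := by ring
      rw [e]
      exact ⟨anti _ _ ih.2.1, anti _ _ (anti _ _ ih.2.1), anti _ _ (anti _ _ ih.2.2)⟩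
  have hmono : Monotone fun n => Cfsg.puigSeq G (2 * n) :=
    monotone_nat_of_le_succ fun n => (hpair n).1
  have hanti : Antitone fun n => Cfsg.puigSeq G (2 * n + 1) :=
    antitone_nat_of_succ_le fun n => (hpair n).2.1
  have hmix : ∀ n m, Cfsg.puigSeq G (2 * n) ≤ Cfsg.puigSeq G (2 * m + 1) := fun n m =>
    (hmono (le_max_left n m)).trans (((hpair _).2.2).trans (hanti (le_max_right n m)))
  obtain ⟨k, hk⟩ := WellFoundedGT.monotone_chain_condition ⟨_, hmono⟩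
  obtain ⟨l, hl⟩ := WellFoundedGT.monotone_chain_condition (α := (Subgroup G)ᵒᵈ)
    ⟨fun n => OrderDual.toDual (Cfsg.puigSeq G (2 * n + 1)), fun _ _ h => hanti h⟩
  have hlow : ∀ n, k ≤ n → Cfsg.puigSeq G (2 * n) = Cfsg.puigLower G := by
    intro n hn
    refine le_antisymm (le_iSup (fun j => Cfsg.puigSeq G (2 * j)) n) (iSup_le fun j => ?_)
    have h : Cfsg.puigSeq G (2 * j) ≤ Cfsg.puigSeq G (2 * max n j) := hmono (le_max_right n j)
    rwa [show Cfsg.puigSeq G (2 * max n j) = Cfsg.puigSeq G (2 * n) from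
      (hk (max n j) (hn.trans (le_max_left _ _))).symm.trans (hk n hn)] at h
  have hup : ∀ n, l ≤ n → Cfsg.puigSeq G (2 * n + 1) = Cfsg.puigSubgroup G := by
    intro n hn
    refine le_antisymm (le_iInf fun j => ?_) (iInf_le (fun j => Cfsg.puigSeq G (2 * j + 1)) n)
    have h : Cfsg.puigSeq G (2 * max n j + 1) ≤ Cfsg.puigSeq G (2 * j + 1) := hanti (le_max_right n j)
    rwa [show Cfsg.puigSeq G (2 * max n j + 1) = Cfsg.puigSeq G (2 * n + 1) from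
      (hl (max n j) (hn.trans (le_max_left _ _))).symm.trans (hl n hn)] at h
  have hK := hlow (k + l) le_self_add
  have hK' := hlow (k + l + 1) (by omega)
  have hL := hup (k + l) le_add_self
  refine ⟨h0, h1, fun n m => ⟨(hpair n).1, hmix n m, (hpair m).2.1⟩,
    ⟨k + l, fun n hn => ⟨hlow n (by omega), hup n (by omega)⟩⟩, ?_, ?_, ?_⟩
  · rw [← hK, ← hL]
    exact hmix _ _
  · rw [← hK, ← hsucc, hL]
  · rw [← hL, ← hsucc, ← hK']
    ring_nf

end Cfsg.Agent.S1467
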