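import Cfsg.Statements.S1475
import Cfsg.Agent.OddLocal.CNStructure
-- import your own Cfsg.Agent.* helpers here

set_option autoImplicit false
open Cfsg

namespace Cfsg.Agent.S1475

/-- Let G be a finite solvable group such that the order of every element is a prime power (1 included). Then at most two distinct primes divide the order of G. -/
theorem result {G : Type*} [Group G] [Finite G] [Group.IsSolvable G] (h : ∀ g : G, IsPrimePow (orderOf g) ∨ g = 1) :
    (Nat.card G).primeFactors.card ≤ 2 := by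
  classical
  rcases subsingleton_or_nontrivial G with hs | hn
  · rw [Nat.card_unique]; simp
  obtain ⟨M, hMn, hMc, -, hM1⟩ := Coprime.exists_minimal_normal_abelian (⊤ : Subgroup G)
    top_ne_bot inferInstance
  obtain ⟨p, hp, hpM⟩ := Nat.exists_prime_and_dvd (show Nat.card M ≠ 1 from
    fun e => hM1 (Subgroup.card_eq_one.mp e))
  have := Fact.mk hp
  let P : Sylow p M := default
  have := hMc
  have hPn : (P : Subgroup M).Normal := inferInstance
  have := P.characteristic_of_normal hPn
  set A := (P : Subgroup M).map M.subtype with hAdef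
  have hAn : A.Normal := inferInstance
  have hAM : A ≤ M := Subgroup.map_subtype_le _
  have hAc : IsMulCommutative A := Subgroup.le_centralizer_iff_isMulCommutative.mp
    (hAM.trans ((Subgroup.le_centralizer_iff_isMulCommutative.mpr hMc).trans
      (Subgroup.centralizer_le hAM)))
  have hAp : IsPGroup p A := P.2.map _
  have hA1 : A ≠ ⊥ := fun e => by
    have := P.dvd_card_of_dvd_card hpM
    rw [(Subgroup.map_eq_bot_iff_of_injective _ M.subtype_injective).mp e, Subgroup.card_bot] at this
    exact hp.one_lt.ne' (Nat.dvd_one.mp this)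
  -- commuting elements of coprime order
  have nomix : ∀ (q r : ℕ), q.Prime → r.Prime → q ≠ r → ∀ a b : G, orderOf a = q → orderOf b = r →
      ¬ Commute a b := by
    intro q r hq hr hne a b ha hb hab
    have hord : orderOf (a * b) = q * r := by
      rw [hab.orderOf_mul_eq_mul_orderOf_of_coprime
        (by rw [ha, hb]; exact (Nat.coprime_primes hq hr).mpr hne), ha, hb]
    rcases h (a * b) with h1 | h1
    · rw [hord, isPrimePow_iff_unique_prime_dvd] at h1
      obtain ⟨d, -, hd⟩ := h1
      exact hne ((hd q ⟨hq, dvd_mul_right q r⟩).trans (hd r ⟨hr, dvd_mul_left r q⟩).symm)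
    · rw [h1, orderOf_one] at hord
      have : 1 < q * r := lt_of_lt_of_le hq.one_lt (Nat.le_mul_of_pos_right _ hr.pos)
      omega
  by_contra! h3
  obtain ⟨q, hqm, r, hrm, hqr⟩ := Finset.one_lt_card.mp (show 1 < ((Nat.card G).primeFactors.erase p).card by
    have := Finset.pred_card_le_card_erase (a := p) (s := (Nat.card G).primeFactors)
    omega)
  rw [Finset.mem_erase, Nat.mem_primeFactors] at hqm hrm
  obtain ⟨K, hKle, hKπ, hKidx⟩ := Coprime.exists_isPiHallOf (G := G) (K := ⊤) inferInstance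
    {s : ℕ | s ≠ p}
  have hKcop : (Nat.card K).Coprime p := Nat.coprime_of_dvd fun s hs h1 h2 =>
    hKπ s hs h1 ((Nat.prime_dvd_prime_iff_eq hs hp).mp h2)
  have hKd : ∀ s, s.Prime → s ≠ p → s ∣ Nat.card G → s ∣ Nat.card K := fun s hs hsp hd => by
    rw [← K.card_mul_index] at hd
    rcases hs.dvd_mul.mp hd with h1 | h1
    · exact h1
    · exact absurd (by rwa [Subgroup.relIndex_top_right]) (hKidx s hs hsp)
  have hfpf : OddLocal.CN.FPF K A := {
    abelian := hAc
    ne_bot := hA1
    norm := by rw [Subgroup.normalizer_eq_top]; exact le_top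
    cop := by
      obtain ⟨k, hk⟩ := IsPGroup.iff_card.mp hAp
      rw [hk]; exact hKcop.pow_right k
    free := fun e he he1 => by
      rw [eq_bot_iff]
      intro a ha
      rw [Subgroup.mem_bot]
      by_contra ha1
      obtain ⟨s, e₁, hs, he₁o, -, he₁z, hle⟩ := OddLocal.CN.exists_prime_power he1
      obtain ⟨t, a₁, ht, ha₁o, htd, ha₁z, hle'⟩ := OddLocal.CN.exists_prime_power ha1
      have htp : t = p := by
        obtain ⟨k, hk⟩ := IsPGroup.iff_card.mp hAp
        exact (Nat.prime_dvd_prime_iff_eq ht hp).mp (ht.dvd_of_dvd_pow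
          (htd.trans (hk ▸ Subgroup.orderOf_dvd_natCard _ ha.1)))
      have hsp : s ≠ p := fun e0 => hp.one_lt.ne' (Nat.dvd_one.mp (hKcop ▸ Nat.dvd_gcd
        (e0 ▸ he₁o ▸ Subgroup.orderOf_dvd_natCard _ (Subgroup.zpowers_le.mpr he he₁z)) dvd_rfl))
      have h1 : a ∈ Subgroup.centralizer ({e₁} : Set G) := hle (Subgroup.mem_centralizer_singleton_iff.mpr
        (Subgroup.mem_centralizer_singleton_iff.mp ha.2))
      exact nomix s t hs ht (htp ▸ hsp) e₁ a₁ he₁o ha₁o
        (Subgroup.mem_centralizer_singleton_iff.mp (hle' (Subgroup.mem_centralizer_singleton_iff.mpr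
          (Subgroup.mem_centralizer_singleton_iff.mp h1).symm))) }
  have hKn : Nontrivial K := by
    rw [← Finite.one_lt_card_iff_nontrivial]
    exact hqm.2.1.one_lt.trans_le (Nat.le_of_dvd Nat.card_pos (hKd q hqm.2.1 hqm.1 hqm.2.2.1))
  obtain ⟨B, hBn, hBc, -, hB1⟩ := Coprime.exists_minimal_normal_abelian (⊤ : Subgroup K)
    top_ne_bot inferInstance
  obtain ⟨s, hs, hsB⟩ := Nat.exists_prime_and_dvd (show Nat.card B ≠ 1 from
    fun e => hB1 (Subgroup.card_eq_one.mp e))
  have := Fact.mk hs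
  obtain ⟨b', hb⟩ := exists_prime_orderOf_dvd_card' s hsB
  obtain ⟨t, ht, htp, htd, hts⟩ : ∃ t : ℕ, t.Prime ∧ t ≠ p ∧ t ∣ Nat.card G ∧ t ≠ s := by
    rcases eq_or_ne q s with e | e
    · exact ⟨r, hrm.2.1, hrm.1, hrm.2.2.1, e ▸ hqr.symm⟩
    · exact ⟨q, hqm.2.1, hqm.1, hqm.2.2.1, e⟩
  have := Fact.mk ht
  obtain ⟨c, hc⟩ := exists_prime_orderOf_dvd_card' t (hKd t ht htp htd)
  have hbo : orderOf ((b' : K) : G) = s := by rw [Subgroup.orderOf_coe, Subgroup.orderOf_coe, hb]
  have hco : orderOf (c : G) = t := by rw [Subgroup.orderOf_coe, hc]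
  have hnorm : (c : G) ∈ Subgroup.normalizer (Subgroup.zpowers ((b' : K) : G) : Set G) := by
    refine Coprime.mem_normalizer_of_conj_smul_eq (Subgroup.eq_of_le_of_card_ge ?_
      (Coprime.card_conj_smul _ _).ge)
    rw [Coprime.conj_smul_eq_map, MonoidHom.map_zpowers]
    have hm : c * (b' : K) * c⁻¹ ∈ B := hBn.conj_mem _ b'.2 c
    refine Subgroup.zpowers_le.mpr (hfpf.mem_zpowers_of_commute hs (b' : K).2
      (c * (b' : K) * c⁻¹).2 hbo ?_ ?_)
    · rw [MulEquiv.coe_toMonoidHom, MulEquiv.orderOf_eq, hbo]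
    · exact congrArg (fun z : B => ((z : K) : G)) (hBc.is_comm.comm b' ⟨_, hm⟩)
  exact nomix t s ht hs hts _ _ hco hbo
    (hfpf.commute_of_normalize hs ht (b' : K).2 c.2 hbo hco hnorm)

end Cfsg.Agent.S1475
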