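import Cfsg.Statements.S1476
import Cfsg.Agent.OddLocal.CNStructure
-- import your own Cfsg.Agent.* helpers here

set_option autoImplicit false
open Cfsg

namespace Cfsg.Agent.S1476

/-- Let G be a finite solvable group in which every non-identity element has nilpotent centralizer. Then either G is nilpotent; or G has a normal subgroup K with a Frobenius complement E (K E = G, K ∩ E = 1, E meets its conjugates by outside elements trivially) such that E is cyclic or E is generated by two elementwise-commuting subgroups, one cyclic of odd order and one isomorphic to a generalized quaternion group; or G is a three-step group with respect to some prime p. -/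
theorem result {G : Type*} [Group G] [Finite G] [Group.IsSolvable G] (hCN : Cfsg.IsCNGroup G) :
    Group.IsNilpotent G ∨
      (∃ K E : Subgroup G, K.Normal ∧ Subgroup.IsComplement' K E ∧ Cfsg.IsFrobeniusComplement E ∧
        (IsCyclic E ∨ ∃ C Q : Subgroup G, C ⊔ Q = E ∧ (∀ a ∈ C, ∀ b ∈ Q, a * b = b * a) ∧ IsCyclic C ∧ Odd (Nat.card C) ∧
          ∃ n : ℕ, Nonempty (↥Q ≃* QuaternionGroup (2 ^ n)))) ∨
      ∃ p : ℕ, p.Prime ∧ Cfsg.IsThreeStepGroup p G := by
  by_cases hnn : Group.IsNilpotent G
  · exact Or.inl hnn
  refine Or.inr ?_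
  by_cases hP : ∃ (p : ℕ) (_ : Fact p.Prime) (P : Sylow p G), (P : Subgroup G) ≠ ⊥ ∧
      (P : Subgroup G).Normal
  · obtain ⟨p, _, P, hP1, hPn⟩ := hP
    obtain ⟨-, -, E, hE, hfc, -, hfpf, hnil⟩ :=
      OddLocal.CN.frobenius_structure hCN hnn P hP1 hPn
    exact Or.inl ⟨_, E, inferInstance, hE, hfc, hfpf.structure' hnil⟩
  · have : Nontrivial G := by
      rw [← not_subsingleton_iff_nontrivial]
      intro h
      exact hnn inferInstance
    exact Or.inr (OddLocal.CN.threeStep hCN fun p hp P h1 h2 => hP ⟨p, hp, P, h1, h2⟩)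

end Cfsg.Agent.S1476
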