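import Cfsg.Statements.S1477
import Cfsg.Agent.OddLocal.CNStructure
-- import your own Cfsg.Agent.* helpers here

set_option autoImplicit false
open Cfsg

namespace Cfsg.Agent.S1477

/-- Let G be a finite group in which every non-identity element has nilpotent centralizer, and H a nilpotent subgroup not properly contained in any nilpotent subgroup. Then the order of H is coprime to its index; if the order of H is not a prime power then H ∩ gHg⁻¹ = 1 whenever gHg⁻¹ ≠ H; and if H ∩ gHg⁻¹ = 1 whenever gHg⁻¹ ≠ H, then C_G(x) ≤ H for every non-identity x ∈ H. -/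
theorem result {G : Type*} [Group G] [Finite G] (hCN : Cfsg.IsCNGroup G) (H : Subgroup G) (hH : Group.IsNilpotent H)
    (hmax : ∀ L : Subgroup G, Group.IsNilpotent L → H ≤ L → L = H) :
    (Nat.card H).Coprime H.index ∧
      (¬ IsPrimePow (Nat.card H) → Nat.card H ≠ 1 → ∀ g : G, H.map (MulAut.conj g).toMonoidHom ≠ H → H ⊓ H.map (MulAut.conj g).toMonoidHom = ⊥) ∧
      ((∀ g : G, H.map (MulAut.conj g).toMonoidHom ≠ H → H ⊓ H.map (MulAut.conj g).toMonoidHom = ⊥) → ∀ x ∈ H, x ≠ 1 → Subgroup.centralizer ({x} : Set G) ≤ H) := by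
  have hcent : ∀ z ∈ H, z ≠ 1 → H ≤ Subgroup.centralizer ({z} : Set G) →
      Subgroup.centralizer ({z} : Set G) = H := fun z _ hz1 hle => hmax _ (hCN z hz1) hle
  -- central elements of every prime order
  have hprime : ∀ q : ℕ, q.Prime → q ∣ Nat.card H →
      ∃ z ∈ H, orderOf z = q ∧ z ≠ 1 ∧ H ≤ Subgroup.centralizer ({z} : Set G) := by
    intro q hq hd
    have := Fact.mk hq
    let Q : Sylow q H := default
    have hQn : (Q : Subgroup H).Normal :=
      ((Group.isNilpotent_of_finite_tfae (G := H)).out 0 3 (a := Group.IsNilpotent H)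
        (b := ∀ (r : ℕ) (_ : Fact r.Prime) (S : Sylow r H), (S : Subgroup H).Normal)).mp hH q
        ‹Fact q.Prime› Q
    have hne : (Q : Subgroup H) ≠ ⊥ := fun e => by
      have := Q.dvd_card_of_dvd_card hd
      rw [e, Subgroup.card_bot] at this
      exact hq.one_lt.ne' (Nat.dvd_one.mp this)
    obtain ⟨k, hk⟩ := IsPGroup.iff_card.mp (Q.2.to_inf_left (K := Subgroup.center H))
    have hk0 : k ≠ 0 := fun e => Core.inf_center_ne_bot hne
      (Subgroup.card_eq_one.mp (by rw [hk, e, pow_zero]))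
    obtain ⟨z, hz⟩ := exists_prime_orderOf_dvd_card'
      (G := ↥((Q : Subgroup H) ⊓ Subgroup.center H)) q (hk ▸ dvd_pow_self q hk0)
    refine ⟨(z : H), (z : H).2, by rw [Subgroup.orderOf_coe, Subgroup.orderOf_coe, hz], ?_,
      fun x hx => Subgroup.mem_centralizer_singleton_iff.mpr
        (congrArg Subtype.val (Subgroup.mem_center_iff.mp z.2.2 ⟨x, hx⟩))⟩
    intro e
    rw [← Subgroup.orderOf_coe, ← Subgroup.orderOf_coe, e, orderOf_one] at hz
    exact hq.one_lt.ne hz
  -- Sylow subgroups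
  have hsyl : ∀ q : ℕ, q.Prime → q ∣ Nat.card H → ¬ q ∣ H.index := by
    intro q hq hd hdi
    have := Fact.mk hq
    obtain ⟨zq, hzqH, hzqo, hzq1, hzqC⟩ := hprime q hq hd
    obtain ⟨S, hS⟩ := (IsPGroup.of_card (n := 1)
      (show Nat.card (Subgroup.zpowers zq) = q ^ 1 by rw [Nat.card_zpowers, hzqo, pow_one])).exists_le_sylow
    have hzS : zq ∈ (S : Subgroup G) := hS (Subgroup.mem_zpowers _)
    have hS1 : (S : Subgroup G) ≠ ⊥ := fun e => hzq1 (Subgroup.mem_bot.mp (e ▸ hzS))
    obtain ⟨z, hz, hz1, hzC⟩ := OddLocal.CN.exists_central S.2.isNilpotent hS1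
    have hzH : z ∈ H := (hcent zq hzqH hzq1 hzqC).le (Subgroup.mem_centralizer_singleton_iff.mpr
      (Subgroup.mem_centralizer_singleton_iff.mp (hzC hzS)).symm)
    have hzq : IsPGroup q (Subgroup.zpowers z) := OddLocal.CN.isPGroup_zpowers S.2 hz
    -- a Sylow subgroup of `G` containing that of `H` inside `H`
    let Q : Sylow q H := default
    obtain ⟨T, hT⟩ := (Q.2.map H.subtype).exists_le_sylow
    have hzT : z ∈ (T : Subgroup G) := by
      have hzQ : (⟨z, hzH⟩ : H) ∈ (Q : Subgroup H) := by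
        have hQn : (Q : Subgroup H).Normal :=
          ((Group.isNilpotent_of_finite_tfae (G := H)).out 0 3 (a := Group.IsNilpotent H)
            (b := ∀ (r : ℕ) (_ : Fact r.Prime) (S : Sylow r H), (S : Subgroup H).Normal)).mp hH q
            ‹Fact q.Prime› Q
        have hle : (Subgroup.zpowers (⟨z, hzH⟩ : H)) ≤ (Q : Subgroup H) := by
          refine Core.le_of_coprime_index ?_
          obtain ⟨k, hk⟩ := IsPGroup.iff_card.mp hzq
          rw [Nat.card_zpowers] at hk
          rw [Nat.card_zpowers, ← Subgroup.orderOf_coe, hk]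
          exact Nat.Coprime.pow_left k ((Nat.Prime.coprime_iff_not_dvd hq).mpr Q.not_dvd_index)
        exact hle (Subgroup.mem_zpowers _)
      exact hT ⟨_, hzQ, rfl⟩
    have hT1 : (T : Subgroup G) ≠ ⊥ := fun e => hz1 (Subgroup.mem_bot.mp (e ▸ hzT))
    obtain ⟨w, hw, hw1, hwC⟩ := OddLocal.CN.exists_central T.2.isNilpotent hT1
    have hzq' : zq ∈ (T : Subgroup G) := by
      have hmem : (⟨zq, hzqH⟩ : H) ∈ (Q : Subgroup H) := by
        have hQn : (Q : Subgroup H).Normal :=
          ((Group.isNilpotent_of_finite_tfae (G := H)).out 0 3 (a := Group.IsNilpotent H)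
            (b := ∀ (r : ℕ) (_ : Fact r.Prime) (S : Sylow r H), (S : Subgroup H).Normal)).mp hH q
            ‹Fact q.Prime› Q
        refine (Core.le_of_coprime_index (H := Subgroup.zpowers (⟨zq, hzqH⟩ : H)) ?_)
          (Subgroup.mem_zpowers _)
        rw [Nat.card_zpowers, ← Subgroup.orderOf_coe, hzqo]
        exact (Nat.Prime.coprime_iff_not_dvd hq).mpr Q.not_dvd_index
      exact hT ⟨_, hmem, rfl⟩
    have hwH : w ∈ H := (hcent zq hzqH hzq1 hzqC).le (Subgroup.mem_centralizer_singleton_iff.mpr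
      (Subgroup.mem_centralizer_singleton_iff.mp (hwC hzq')).symm)
    have hwq : IsPGroup q (Subgroup.zpowers w) := OddLocal.CN.isPGroup_zpowers T.2 hw
    have hHw : H ≤ Subgroup.centralizer ({w} : Set G) := by
      refine Coprime.le_of_forall_sylow_le fun r hr => ?_
      have := Fact.mk hr
      rcases eq_or_ne r q with rfl | hrq
      · exact ⟨Q, hT.trans hwC⟩
      · refine ⟨default, fun x hx => ?_⟩
        exact Subgroup.mem_centralizer_singleton_iff.mpr
          (OddLocal.commute_of_mem hH (Subgroup.map_subtype_le _ hx) hwH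
            (OddLocal.CN.coprime_orderOf hr hq hrq (OddLocal.CN.zpowers_primePow _ hx) hwq))
    have hTH : (T : Subgroup G) ≤ H := hwC.trans (hcent w hwH hw1 hHw).le
    exact T.not_dvd_index (hdi.trans (Subgroup.index_dvd_of_le hTH))
  have hTI : ¬ IsPrimePow (Nat.card H) → Nat.card H ≠ 1 →
      ∀ x ∈ H, x ≠ 1 → Subgroup.centralizer ({x} : Set G) ≤ H := by
    intro hnpp hne1 x hx hx1
    refine Coprime.le_of_forall_sylow_le fun s hs => ?_
    have := Fact.mk hs
    refine ⟨default, fun w hw => ?_⟩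
    obtain ⟨t, ht, htd, hts⟩ : ∃ t : ℕ, t.Prime ∧ t ∣ Nat.card H ∧ t ≠ s := by
      by_contra! hall
      refine hnpp ⟨s, _, hs.prime, ?_, (Nat.eq_prime_pow_of_unique_prime_dvd Nat.card_pos.ne'
        fun hd hdd => hall _ hd hdd).symm⟩
      refine Nat.pos_of_ne_zero fun e => hne1 ?_
      have := Nat.eq_prime_pow_of_unique_prime_dvd (Nat.card_pos (α := H)).ne'
        (fun {d} hd hdd => hall d hd hdd)
      rw [this, e, pow_zero]
    obtain ⟨z, hz, hzo, hz1, hzC⟩ := hprime t ht htd
    refine (hcent z hz hz1 hzC).le (Subgroup.mem_centralizer_singleton_iff.mpr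
      (OddLocal.commute_of_mem (hCN x hx1) (Subgroup.map_subtype_le _ hw)
        (Subgroup.mem_centralizer_singleton_iff.mpr
          (Subgroup.mem_centralizer_singleton_iff.mp (hzC hx)).symm) ?_))
    exact OddLocal.CN.coprime_orderOf hs ht (Ne.symm hts) (OddLocal.CN.zpowers_primePow _ hw)
      (IsPGroup.of_card (n := 1) (by haveI := Fact.mk ht; rw [Nat.card_zpowers, hzo, pow_one]))
  refine ⟨Nat.coprime_of_dvd fun q hq h1 h2 => hsyl q hq h1 h2, fun h1 h2 g hg => ?_,
    fun hti x hx hx1 => ?_⟩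
  · have hanch : OddLocal.CN.Anchor H := ⟨fun e => h2 (by rw [e, Subgroup.card_bot]), hH, hTI h1 h2⟩
    by_contra hne
    obtain ⟨w, hw, hw1⟩ := (Subgroup.bot_or_exists_ne_one _).resolve_left hne
    exact hg ((hanch.map_conj g).eq_of_common hanch hw.2 hw.1 hw1)
  · by_cases h1 : IsPrimePow (Nat.card H)
    swap
    · exact hTI h1 (fun e => hx1 (Subgroup.mem_bot.mp ((Subgroup.card_eq_one.mp e) ▸ hx))) x hx hx1
    obtain ⟨q, k, hq, -, hqk⟩ := (isPrimePow_nat_iff _).mp h1
    have := Fact.mk hq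
    have hHq : IsPGroup q H := IsPGroup.of_card hqk.symm
    obtain ⟨z, hz, hz1, hzC⟩ := OddLocal.CN.exists_central hH (fun e => hx1 (Subgroup.mem_bot.mp (e ▸ hx)))
    have hqd : q ∣ Nat.card H := (hqk ▸ dvd_pow_self q (fun e => by
      rw [e, pow_zero] at hqk
      exact hx1 (Subgroup.mem_bot.mp ((Subgroup.card_eq_one.mp hqk.symm) ▸ hx))))
    let HS : Sylow q G := hHq.toSylow (hsyl q hq hqd)
    refine Coprime.le_of_forall_sylow_le fun s hs => ?_
    have := Fact.mk hs
    refine ⟨default, fun w hw => ?_⟩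
    have hwC : w ∈ Subgroup.centralizer ({x} : Set G) := Subgroup.map_subtype_le _ hw
    have hws := OddLocal.CN.zpowers_primePow _ hw
    rcases eq_or_ne s q with rfl | hsq
    · obtain ⟨T, hT⟩ := ((OddLocal.CN.isPGroup_zpowers hHq hx).to_sup_of_normal_right' hws
        (Subgroup.zpowers_le.mpr (Subgroup.centralizer_le_normalizer _ (by
          rw [FixedPointFree.centralizer_zpowers]
          exact Subgroup.mem_centralizer_singleton_iff.mpr
            (Subgroup.mem_centralizer_singleton_iff.mp hwC).symm)))).exists_le_sylow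
      obtain ⟨g, hg⟩ := MulAction.exists_smul_eq G HS T
      have hTH : (T : Subgroup G) = H.map (MulAut.conj g).toMonoidHom := by
        rw [← hg]; rfl
      by_cases hgH : H.map (MulAut.conj g).toMonoidHom = H
      · exact (hTH.trans hgH).le (hT (Subgroup.mem_sup_right (Subgroup.mem_zpowers w)))
      · refine absurd ?_ hx1
        exact Subgroup.mem_bot.mp ((hti g hgH).le
          ⟨hx, hTH.le (hT (Subgroup.mem_sup_left (Subgroup.mem_zpowers x)))⟩)
    · refine (hcent z hz hz1 hzC).le (Subgroup.mem_centralizer_singleton_iff.mpr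
        (OddLocal.commute_of_mem (hCN x hx1) hwC
          (Subgroup.mem_centralizer_singleton_iff.mpr
            (Subgroup.mem_centralizer_singleton_iff.mp (hzC hx)).symm) ?_))
      exact OddLocal.CN.coprime_orderOf hs hq hsq hws (OddLocal.CN.isPGroup_zpowers hHq hz)

end Cfsg.Agent.S1477
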