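import Cfsg.Statements.S1486
import Cfsg.Agent.Char.Clifford


set_option autoImplicit false
open Cfsg

namespace Cfsg.Agent.S1486

/-- Let H be a normal subgroup of the finite group G and θ, φ irreducible characters of H. If φ is a G-conjugate of θ then the functions induced from θ and φ coincide; if φ is not a G-conjugate of θ then the induced functions are orthogonal. -/
theorem result {G : Type*} [Group G] [Fintype G] (H : Subgroup G) [hN : H.Normal] (θ φ : H → ℂ) (hθ : Cfsg.IsIrrCharacter H θ) (hφ : Cfsg.IsIrrCharacter H φ) : ((∃ g : G, φ = fun h : H => θ ⟨g * h * g⁻¹, hN.conj_mem h h.2 g⟩) → Cfsg.indFun H φ = Cfsg.indFun H θ) ∧ ((¬ ∃ g : G, φ = fun h : H => θ ⟨g * h * g⁻¹, hN.conj_mem h h.2 g⟩) → Cfsg.classInner (Cfsg.indFun H φ) (Cfsg.indFun H θ) = 0) := by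
  classical
  refine ⟨?_, fun hno => ?_⟩
  · rintro ⟨g, rfl⟩
    funext y
    simp only [Char.indFun_apply]
    congr 1
    refine Fintype.sum_equiv (Equiv.mulRight g⁻¹) _ _ fun x => ?_
    simp only [Equiv.coe_mulRight, mul_inv_rev, inv_inv]
    have he : g * x⁻¹ * y * (x * g⁻¹) = g * (x⁻¹ * y * x) * g⁻¹ := by group
    rw [he]
    by_cases hy : x⁻¹ * y * x ∈ H
    · rw [Char.extendByZero_of_mem _ _ hy, Char.extendByZero_of_mem _ _ (hN.conj_mem _ hy g)]
    · rw [Char.extendByZero_of_not_mem _ _ hy, Char.extendByZero_of_not_mem]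
      intro h
      exact hy (by simpa [mul_assoc] using hN.conj_mem _ h g⁻¹)
  · letI := Fintype.ofFinite H
    rw [Char.classInner_indFun_indFun hφ hθ]
    have hno' : IsEmpty {g : G // Char.conjFun g φ = θ} :=
      ⟨fun g => hno ⟨(g.1)⁻¹, by
        calc φ = Char.conjFun (g.1)⁻¹ (Char.conjFun g.1 φ) := (Char.conjFun_inv_cancel _ _).symm
          _ = _ := by rw [g.2]; rfl⟩⟩
    simp

end Cfsg.Agent.S1486
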