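import Cfsg.Statements.S1487
import Cfsg.Agent.Char.Clifford


set_option autoImplicit false
open Cfsg

namespace Cfsg.Agent.S1487

/-- Let A ≤ H be normal subgroups of the finite group G and θ an irreducible character of H. Then θ takes the value θ 1 on all of A if and only if the function induced from θ to G takes its value at 1 on all of A. -/
theorem result {G : Type*} [Group G] [Fintype G] (A H : Subgroup G) [A.Normal] [H.Normal] (hAH : A ≤ H) (θ : H → ℂ) (hθ : Cfsg.IsIrrCharacter H θ) : (∀ a : H, (a : G) ∈ A → θ a = θ 1) ↔ (∀ a : G, a ∈ A → Cfsg.indFun H θ a = Cfsg.indFun H θ 1) := by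
  classical
  have hcharθ := Char.IsIrr.isCharacter hθ
  obtain ⟨d, hd0, hd⟩ := Char.IsIrr.degree hθ
  have hmem : ∀ a : G, a ∈ A → ∀ x : G, x⁻¹ * a * x ∈ A := fun a ha x => by
    simpa using ‹A.Normal›.conj_mem a ha x⁻¹
  have hone : Cfsg.indFun H θ 1 = (Nat.card H : ℂ)⁻¹ * ∑ _x : G, θ 1 := by
    rw [Char.indFun_apply]
    congr 1
    refine Finset.sum_congr rfl fun x _ => ?_
    rw [mul_one, inv_mul_cancel, Char.extendByZero_of_mem _ _ (one_mem H)]
    rfl
  have hval : ∀ (a : G) (ha : a ∈ A), Cfsg.indFun H θ a =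
      (Nat.card H : ℂ)⁻¹ * ∑ x : G, θ ⟨x⁻¹ * a * x, hAH (hmem a ha x)⟩ := fun a ha => by
    rw [Char.indFun_apply]
    congr 1
    exact Finset.sum_congr rfl fun x _ => Char.extendByZero_of_mem _ _ (hAH (hmem a ha x))
  constructor
  · intro h a ha
    rw [hval a ha, hone]
    congr 1
    exact Finset.sum_congr rfl fun x _ => h _ (hmem a ha x)
  · intro h a ha
    have he := h a ha
    rw [hval a ha, hone] at he
    have hne : (Nat.card H : ℂ)⁻¹ ≠ 0 := inv_ne_zero (Nat.cast_ne_zero.2 Nat.card_pos.ne')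
    have he' := congrArg Complex.re (mul_left_cancel₀ hne he)
    simp only [Complex.re_sum] at he'
    have hle : ∀ x ∈ (Finset.univ : Finset G),
        (θ ⟨x⁻¹ * (a : G) * x, hAH (hmem a ha x)⟩).re ≤ (θ 1).re := fun x _ =>
      (Complex.re_le_norm _).trans (Char.IsChar.norm_le hcharθ _)
    have h1 := (Finset.sum_eq_sum_iff_of_le hle).1 he' 1 (Finset.mem_univ _)
    simp only [inv_one, one_mul, mul_one, Subtype.coe_eta] at h1
    have hn := Char.IsChar.norm_le hcharθ a
    rw [hd, Complex.natCast_re] at h1 hn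
    have hre := Complex.re_le_norm (θ a)
    have him : (θ a).im = 0 := (Complex.nonneg_iff.1 (Complex.re_eq_norm.1 (by linarith))).2.symm
    rw [hd]
    exact Complex.ext (by simpa using h1) (by simpa using him)

end Cfsg.Agent.S1487
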