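import Cfsg.Statements.S1488
import Cfsg.Agent.Char.Induced


set_option autoImplicit false
open Cfsg

namespace Cfsg.Agent.S1488

/-- Let A be a normal subgroup of the finite group G contained in the subgroup H, let θ be a function on H and θ₁ a function on the image of H in G ⧸ A whose composite with the projection is θ. Then the function induced from θ₁ to G ⧸ A, composed with the projection G → G ⧸ A, equals the function induced from θ to G. -/
theorem result {G : Type*} [Group G] [Fintype G] (A H : Subgroup G) [A.Normal] (hAH : A ≤ H) [Fintype (G ⧸ A)] [Fintype ↥(H.map (QuotientGroup.mk' A))] (θ : H → ℂ) (θ₁ : ↥(H.map (QuotientGroup.mk' A)) → ℂ) (hθ : ∀ x : H, θ₁ ⟨QuotientGroup.mk' A x, Subgroup.mem_map_of_mem _ x.2⟩ = θ x) (g : G) : Cfsg.indFun (H.map (QuotientGroup.mk' A)) θ₁ (QuotientGroup.mk' A g) = Cfsg.indFun H θ g := by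
  classical
  have hmem : ∀ y : G, (QuotientGroup.mk' A) y ∈ (H.map (QuotientGroup.mk' A)) ↔ y ∈ H := by
    intro y
    refine ⟨?_, fun h => Subgroup.mem_map_of_mem _ h⟩
    rintro ⟨z, hz, he⟩
    have : z⁻¹ * y ∈ A := QuotientGroup.eq.1 he
    have := H.mul_mem hz (hAH this)
    rwa [mul_inv_cancel_left] at this
  have hpt : ∀ y : G, Cfsg.extendByZero (H.map (QuotientGroup.mk' A)) θ₁ ((QuotientGroup.mk' A) y) = Cfsg.extendByZero H θ y := by
    intro y
    by_cases hy : y ∈ H
    · rw [Char.extendByZero_of_mem _ _ ((hmem y).2 hy), Char.extendByZero_of_mem _ _ hy]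
      exact hθ ⟨y, hy⟩
    · rw [Char.extendByZero_of_not_mem _ _ (fun h => hy ((hmem y).1 h)),
        Char.extendByZero_of_not_mem _ _ hy]
  have hfib : ∀ c : G ⧸ A, (Finset.univ.filter fun x : G => (QuotientGroup.mk' A) x = c).card = Nat.card A := by
    intro c
    obtain ⟨x₀, rfl⟩ := QuotientGroup.mk'_surjective A c
    rw [← Fintype.card_subtype, ← Nat.card_eq_fintype_card]
    refine Nat.card_congr
      { toFun := fun x => ⟨x₀⁻¹ * x, QuotientGroup.eq.1 x.2.symm⟩
        invFun := fun a => ⟨x₀ * a, QuotientGroup.eq.2 (by simp)⟩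
        left_inv := fun x => Subtype.ext (by simp)
        right_inv := fun a => Subtype.ext (by simp) }
  have hcard : Nat.card H = Nat.card A * Nat.card (H.map (QuotientGroup.mk' A)) := by
    have e1 := Nat.card_congr
      ((Equiv.sigmaFiberEquiv fun h : H => (⟨(QuotientGroup.mk' A) h, (hmem h).2 h.2⟩ : (H.map (QuotientGroup.mk' A)))).symm)
    rw [e1, Nat.card_sigma]
    have hf : ∀ c : (H.map (QuotientGroup.mk' A)), Nat.card {h : H // (⟨(QuotientGroup.mk' A) h, (hmem h).2 h.2⟩ : (H.map (QuotientGroup.mk' A))) = c} = Nat.card A := by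
      intro c
      rw [← hfib c, ← Fintype.card_subtype, ← Nat.card_eq_fintype_card]
      exact Nat.card_congr
        { toFun := fun h => ⟨h.1, congrArg Subtype.val h.2⟩
          invFun := fun x => ⟨⟨x.1, (hmem x.1).1 (by rw [x.2]; exact c.2)⟩, Subtype.ext x.2⟩
          left_inv := fun h => rfl
          right_inv := fun x => rfl }
    rw [Finset.sum_congr rfl (fun c _ => hf c), Finset.sum_const, Finset.card_univ, smul_eq_mul, mul_comm, ← Nat.card_eq_fintype_card]
  have hsum : ∑ x : G, Cfsg.extendByZero H θ (x⁻¹ * g * x) =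
      (Nat.card A : ℂ) * ∑ c : G ⧸ A, Cfsg.extendByZero (H.map (QuotientGroup.mk' A)) θ₁ (c⁻¹ * (QuotientGroup.mk' A) g * c) := by
    rw [← Finset.sum_fiberwise Finset.univ (QuotientGroup.mk' A), Finset.mul_sum]
    refine Finset.sum_congr rfl fun c _ => ?_
    rw [Finset.sum_congr rfl (g := fun _ => Cfsg.extendByZero (H.map (QuotientGroup.mk' A)) θ₁ (c⁻¹ * (QuotientGroup.mk' A) g * c))
      (fun x hx => by
        rw [← (Finset.mem_filter.1 hx).2, ← map_inv, ← map_mul, ← map_mul, hpt]),
      Finset.sum_const, hfib, nsmul_eq_mul]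
  rw [Char.indFun_apply, Char.indFun_apply, hsum, hcard, Nat.cast_mul, mul_inv, mul_mul_mul_comm,
    inv_mul_cancel₀ (Nat.cast_ne_zero.2 Nat.card_pos.ne'), one_mul]

end Cfsg.Agent.S1488
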