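import Cfsg.Statements.S1492
import Cfsg.Agent.Char.Clifford
import Cfsg.Agent.Char.ClassAlg


set_option autoImplicit false
open Cfsg

namespace Cfsg.Agent.S1492

/-- Let ψ be an irreducible character of the finite group G and B ≤ D ≤ C subgroups with B normal in C, every commutator of an element of D with an element of C lying in B (so D/B is central in C/B), and ψ constant equal to ψ 1 on B. Then ψ(1) ^ 2 * |C| * |D| ≤ |G| ^ 2. -/
theorem result {G : Type*} [Group G] [Finite G] (ψ : G → ℂ) (hψ : Cfsg.IsIrrCharacter G ψ) (B C D : Subgroup G) (hBD : B ≤ D) (hDC : D ≤ C) (hBn : ∀ c ∈ C, ∀ b ∈ B, c * b * c⁻¹ ∈ B) (hcent : ∀ d ∈ D, ∀ c ∈ C, d * c * d⁻¹ * c⁻¹ ∈ B) (hker : ∀ b ∈ B, ψ b = ψ 1) : ‖ψ 1‖ ^ 2 * (Nat.card C : ℝ) * (Nat.card D : ℝ) ≤ (Nat.card G : ℝ) ^ 2 := by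
  classical
  have := Fintype.ofFinite G
  letI := Fintype.ofFinite C
  obtain ⟨φ, hφ⟩ := Char.exists_constituent_res (N := C) hψ
  have hind : Cfsg.classInner (Cfsg.indFun C (φ : C → ℂ)) ψ ≠ 0 := by
    rw [Char.classInner_indFun_left C _ (Char.isClassFunction_of_isIrr hψ),
      ← Char.classInner_conj_symm]
    simpa using hφ
  have hkerφ : ∀ b : C, (b : G) ∈ B → (φ : C → ℂ) b = (φ : C → ℂ) 1 := fun b hb =>
    Char.IsChar.constituent_kernel (Char.isCharacter_res C (Char.IsIrr.isCharacter hψ)) φ.2 hφ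
      (by simpa using hker b hb)
  have hscal : ∀ d : C, (d : G) ∈ D → ‖(φ : C → ℂ) d‖ = ((φ : C → ℂ) 1).re := by
    intro d hd
    obtain ⟨n, ρ, hρ, he⟩ := φ.2
    rw [← he] at hkerφ ⊢
    have hone : ∀ b : C, (b : G) ∈ B → ρ b = 1 := fun b hb => by
      refine (Char.character_eq_finrank_iff ρ b).1 ?_
      rw [hkerφ b hb, ρ.char_one]
    have hcomm : ∀ c : C, ρ d * ρ c = ρ c * ρ d := by
      intro c
      have h1 := hone (d * c * d⁻¹ * c⁻¹) (by simpa using hcent d hd c c.2)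
      have h2 : d * c = (d * c * d⁻¹ * c⁻¹) * (c * d) := by group
      rw [← map_mul, ← map_mul, h2, map_mul, h1, one_mul]
    obtain ⟨s, hs, -⟩ := Char.commute_eq_scalar ρ hρ (ρ d) hcomm
    rw [(Char.norm_character_eq_iff ρ d).2 ⟨s, hs⟩]
    simp
  obtain ⟨a, -, ha⟩ := Char.IsIrr.degree φ.2
  obtain ⟨m, -, hm⟩ := Char.IsIrr.degree hψ
  have hDC' : (a : ℝ) ^ 2 * Nat.card D ≤ Nat.card C := by
    have hsum : ∑ c : C, Complex.normSq ((φ : C → ℂ) c) = (Nat.card C : ℝ) := by
      have h := Char.classInner_irr_self φ.2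
      rw [Char.classInner_self_eq, Complex.ofReal_eq_one,
        inv_mul_eq_one₀ (Nat.cast_ne_zero.2 Nat.card_pos.ne')] at h
      exact h.symm
    rw [← hsum]
    calc (a : ℝ) ^ 2 * Nat.card D
        = ∑ c ∈ Finset.univ.filter (fun c : C => (c : G) ∈ D), ((a : ℝ) ^ 2) := by
          rw [Finset.sum_const, nsmul_eq_mul, mul_comm, ← Fintype.card_subtype,
            ← Nat.card_eq_fintype_card]
          congr 2
          exact Nat.card_congr
            { toFun := fun x => ⟨⟨x, hDC x.2⟩, x.2⟩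
              invFun := fun x => ⟨x.1, x.2⟩
              left_inv := fun x => rfl
              right_inv := fun x => rfl }
      _ ≤ ∑ c ∈ Finset.univ.filter (fun c : C => (c : G) ∈ D),
            Complex.normSq ((φ : C → ℂ) c) := by
          refine Finset.sum_le_sum fun c hc => le_of_eq ?_
          rw [← Complex.sq_norm, hscal c (Finset.mem_filter.1 hc).2, ha, Complex.natCast_re]
      _ ≤ _ := Finset.sum_le_sum_of_subset_of_nonneg (Finset.subset_univ _)
            fun c _ _ => Complex.normSq_nonneg _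
  have hle : (m : ℝ) ≤ (C.index : ℝ) * a := by
    have h := Char.IsChar.constituent_degree_le
      (Char.isCharacter_indFun C (Char.IsIrr.isCharacter φ.2)) hψ hind
    rw [Char.indFun_apply_one, ha, hm, ← Nat.cast_mul, Complex.natCast_re, Complex.natCast_re,
      Nat.cast_mul] at h
    exact h
  rw [hm, Complex.norm_natCast, ← Subgroup.card_mul_index C, Nat.cast_mul]
  have hC0 : (0 : ℝ) ≤ Nat.card C := Nat.cast_nonneg _
  have hD0 : (0 : ℝ) ≤ Nat.card D := Nat.cast_nonneg _
  calc (m : ℝ) ^ 2 * Nat.card C * Nat.card D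
      ≤ ((C.index : ℝ) * a) ^ 2 * Nat.card C * Nat.card D := by gcongr
    _ = (C.index : ℝ) ^ 2 * Nat.card C * ((a : ℝ) ^ 2 * Nat.card D) := by ring
    _ ≤ (C.index : ℝ) ^ 2 * Nat.card C * Nat.card C := by gcongr
    _ = _ := by ring

end Cfsg.Agent.S1492
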