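import Cfsg.Statements.S1497
import Cfsg.Agent.Coherence.Dade

set_option autoImplicit false
open Cfsg

namespace Cfsg.Agent.S1497

/-- Let A be a nonempty subset of the finite group G not containing 1 and L a subgroup. Then A is a TI-subset whose normaliser is L if and only if the Dade hypothesis holds for A, L and the constant choice H(a) = ⊥. -/
theorem result {G : Type*} [Group G] [Finite G] (A : Set G) (hA : A.Nonempty) (h1 : (1 : G) ∉ A) (L : Subgroup G) : (Cfsg.IsTISubset A ∧ Subgroup.normalizer A = L) ↔ Cfsg.DadeHypothesis A L (fun _ => ⊥) := by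
  constructor
  · rintro ⟨hTI, rfl⟩
    refine Coherence.Dade.of_TI h1 hTI ?_
    intro a ha
    by_contra hn
    exact h1 ((hTI a hn a ha (by rw [mul_inv_cancel_right]; exact ha)) ▸ ha)
  · intro hD
    have hle : ∀ a ∈ A, ∀ g : G, g * a * g⁻¹ ∈ A → g ∈ L := by
      intro a ha g hg
      obtain ⟨x, hx, e⟩ := hD.fusion a ha g hg
      have hc : x⁻¹ * g ∈ Subgroup.centralizer ({a} : Set G) := by
        rw [Coherence.Dade.mem_centralizer_singleton]
        calc a * (x⁻¹ * g) = x⁻¹ * (x * a * x⁻¹) * g := by group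
          _ = x⁻¹ * (g * a * g⁻¹) * g := by rw [e]
          _ = x⁻¹ * g * a := by group
      have hs : ⊥ ⊔ (L ⊓ Subgroup.centralizer ({a} : Set G)) =
          Subgroup.centralizer ({a} : Set G) := hD.sup_eq a ha
      rw [bot_sup_eq] at hs
      have : x⁻¹ * g ∈ L := (hs.symm ▸ hc : x⁻¹ * g ∈ L ⊓ Subgroup.centralizer ({a} : Set G)).1
      have := L.mul_mem hx this
      rwa [mul_inv_cancel_left] at this
    have hN : Subgroup.normalizer A = L := by
      ext g
      refine ⟨fun hg => ?_, fun hg => ?_⟩
      · obtain ⟨a, ha⟩ := hA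
        exact hle a ha g ((Subgroup.mem_set_normalizer_iff.1 hg a).1 ha)
      · rw [Subgroup.mem_set_normalizer_iff]
        refine fun a => ⟨hD.conj_mem g hg a, fun h => ?_⟩
        have := hD.conj_mem g⁻¹ (inv_mem hg) _ h
        simpa [mul_assoc] using this
    refine ⟨fun g hg x hx hgx => absurd (hN ▸ hle x hx g hgx) hg, hN⟩

end Cfsg.Agent.S1497
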