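import Cfsg.Statements.S1504
import Mathlib

set_option autoImplicit false
open Cfsg

namespace Cfsg.Agent.S1504

theorem hom_ext_sup {G : Type*} [Group G] {W₁ W₂ : Subgroup G} {f g : ↥(W₁ ⊔ W₂) →* ℂˣ}
    (h1 : ∀ w : ↥(W₁ ⊔ W₂), (w : G) ∈ W₁ → f w = g w)
    (h2 : ∀ w : ↥(W₁ ⊔ W₂), (w : G) ∈ W₂ → f w = g w) : f = g := by
  have h : W₁ ⊔ W₂ ≤ (MonoidHom.eqLocus f g).map (W₁ ⊔ W₂).subtype :=
    sup_le (fun x hx => ⟨⟨x, Subgroup.mem_sup_left hx⟩, h1 _ hx, rfl⟩)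
      (fun x hx => ⟨⟨x, Subgroup.mem_sup_right hx⟩, h2 _ hx, rfl⟩)
  refine MonoidHom.ext fun w => ?_
  obtain ⟨v, hv, e⟩ := h w.2
  rw [← (Subtype.ext e : v = w)]
  exact hv

/-- Let W₁, W₂ be subgroups of a finite group with W₁ ⊓ W₂ = ⊥ whose elements commute, and W = W₁ ⊔ W₂. For linear characters φ, ψ of W with φ trivial on W₂ and ψ trivial on W₁, the function (1 − φ)(1 − ψ) vanishes on W₁ ∪ W₂; and the family of these functions, indexed by pairs (φ, ψ) with φ ≠ 1 ≠ ψ, is linearly independent over ℂ. -/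
theorem result {G : Type*} [Group G] [Finite G] (W₁ W₂ : Subgroup G) (hdisj : W₁ ⊓ W₂ = ⊥) (hcomm : ∀ a ∈ W₁, ∀ b ∈ W₂, a * b = b * a) : (∀ φ ψ : ↥(W₁ ⊔ W₂) →* ℂˣ, (∀ w : ↥(W₁ ⊔ W₂), (w : G) ∈ W₂ → φ w = 1) → (∀ w : ↥(W₁ ⊔ W₂), (w : G) ∈ W₁ → ψ w = 1) → ∀ w : ↥(W₁ ⊔ W₂), ((w : G) ∈ W₁ ∨ (w : G) ∈ W₂) → (1 - (φ w : ℂ) - (ψ w : ℂ) + (φ w : ℂ) * (ψ w : ℂ)) = 0) ∧ LinearIndependent ℂ (fun p : {p : (↥(W₁ ⊔ W₂) →* ℂˣ) × (↥(W₁ ⊔ W₂) →* ℂˣ) // p.1 ≠ 1 ∧ p.2 ≠ 1 ∧ (∀ w : ↥(W₁ ⊔ W₂), (w : G) ∈ W₂ → p.1 w = 1) ∧ (∀ w : ↥(W₁ ⊔ W₂), (w : G) ∈ W₁ → p.2 w = 1)} => fun w : ↥(W₁ ⊔ W₂) => 1 - (p.1.1 w : ℂ) - (p.1.2 w : ℂ) + (p.1.1 w : ℂ) * (p.1.2 w : ℂ)) := by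
  classical
  refine ⟨fun φ ψ hφ hψ w hw => ?_, ?_⟩
  · rcases hw with hw | hw
    · rw [hψ w hw]; simp
    · rw [hφ w hw]; simp
  haveI : Fintype ↥(W₁ ⊔ W₂) := Fintype.ofFinite _
  rw [linearIndependent_iff']
  intro s c hc i hi
  have horth : ∀ χ χ' : ↥(W₁ ⊔ W₂) →* ℂˣ,
      ∑ w, (χ w : ℂ) * ((χ' w)⁻¹ : ℂˣ) = if χ = χ' then (Fintype.card ↥(W₁ ⊔ W₂) : ℂ) else 0 := by
    intro χ χ'
    split_ifs with h
    · subst h; simp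
    · have := sum_hom_units_eq_zero ((Units.coeHom ℂ).comp (χ / χ')) (fun he => h (by
        refine MonoidHom.ext fun w => ?_
        have h2 : (χ / χ') w = 1 := Units.ext (DFunLike.congr_fun he w)
        rw [MonoidHom.div_apply, div_eq_one] at h2
        exact h2))
      simpa [div_eq_mul_inv] using this
  have key : ∀ p : {p : (↥(W₁ ⊔ W₂) →* ℂˣ) × (↥(W₁ ⊔ W₂) →* ℂˣ) // p.1 ≠ 1 ∧ p.2 ≠ 1 ∧
      (∀ w : ↥(W₁ ⊔ W₂), (w : G) ∈ W₂ → p.1 w = 1) ∧ (∀ w : ↥(W₁ ⊔ W₂), (w : G) ∈ W₁ → p.2 w = 1)},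
      ∑ w, (1 - (p.1.1 w : ℂ) - (p.1.2 w : ℂ) + (p.1.1 w : ℂ) * (p.1.2 w : ℂ)) *
        (((i.1.1 * i.1.2) w)⁻¹ : ℂˣ) = if p = i then (Fintype.card ↥(W₁ ⊔ W₂) : ℂ) else 0 := by
    intro p
    obtain ⟨hp1, hp2, hpa, hpb⟩ := p.2
    obtain ⟨hi1, hi2, hia, hib⟩ := i.2
    have e1 : p.1.1 ≠ i.1.1 * i.1.2 := fun e => hi2 (hom_ext_sup (fun w hw => by simp [hib w hw])
      (fun w hw => by
        have := DFunLike.congr_fun e w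
        rw [MonoidHom.mul_apply, hpa w hw, hia w hw, one_mul] at this
        exact this.symm))
    have e2 : p.1.2 ≠ i.1.1 * i.1.2 := fun e => hi1 (hom_ext_sup
      (fun w hw => by
        have := DFunLike.congr_fun e w
        rw [MonoidHom.mul_apply, hpb w hw, hib w hw, mul_one] at this
        exact this.symm) (fun w hw => by simp [hia w hw]))
    have e0 : (1 : ↥(W₁ ⊔ W₂) →* ℂˣ) ≠ i.1.1 * i.1.2 := fun e => hi1 (hom_ext_sup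
      (fun w hw => by
        have := DFunLike.congr_fun e w
        rw [MonoidHom.mul_apply, hib w hw, mul_one] at this
        exact this.symm) (fun w hw => by simp [hia w hw]))
    have e3 : p.1.1 * p.1.2 = i.1.1 * i.1.2 ↔ p = i := by
      refine ⟨fun e => Subtype.ext (Prod.ext (hom_ext_sup (fun w hw => ?_) (fun w hw => ?_))
        (hom_ext_sup (fun w hw => ?_) (fun w hw => ?_))), fun e => by rw [e]⟩
      · have := DFunLike.congr_fun e w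
        simpa [MonoidHom.mul_apply, hpb w hw, hib w hw] using this
      · rw [hpa w hw, hia w hw]
      · rw [hpb w hw, hib w hw]
      · have := DFunLike.congr_fun e w
        simpa [MonoidHom.mul_apply, hpa w hw, hia w hw] using this
    have hexp : ∀ w, (1 - (p.1.1 w : ℂ) - (p.1.2 w : ℂ) + (p.1.1 w : ℂ) * (p.1.2 w : ℂ)) *
        (((i.1.1 * i.1.2) w)⁻¹ : ℂˣ) =
        ((1 : ↥(W₁ ⊔ W₂) →* ℂˣ) w : ℂ) * (((i.1.1 * i.1.2) w)⁻¹ : ℂˣ) -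
        (p.1.1 w : ℂ) * (((i.1.1 * i.1.2) w)⁻¹ : ℂˣ) -
        (p.1.2 w : ℂ) * (((i.1.1 * i.1.2) w)⁻¹ : ℂˣ) +
        ((p.1.1 * p.1.2) w : ℂ) * (((i.1.1 * i.1.2) w)⁻¹ : ℂˣ) := fun w => by
      rw [MonoidHom.mul_apply p.1.1, Units.val_mul, MonoidHom.one_apply, Units.val_one]
      ring
    simp only [hexp, Finset.sum_add_distrib, Finset.sum_sub_distrib, horth, if_neg e0, if_neg e1,
      if_neg e2, e3, sub_zero, zero_add]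
  have h := congrArg (fun f : ↥(W₁ ⊔ W₂) → ℂ => ∑ w, f w * (((i.1.1 * i.1.2) w)⁻¹ : ℂˣ)) hc
  simp only [Finset.sum_apply, Pi.smul_apply, smul_eq_mul, Pi.zero_apply, zero_mul,
    Finset.sum_const_zero, Finset.sum_mul, mul_assoc] at h
  rw [Finset.sum_comm] at h
  simp only [← Finset.mul_sum, key, mul_ite, mul_zero, Finset.sum_ite_eq', if_pos hi, mul_eq_zero,
    Nat.cast_eq_zero, Fintype.card_ne_zero, or_false] at h
  exact h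

end Cfsg.Agent.S1504
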