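import Cfsg.Statements.S1527
import Cfsg.Agent.Coherence.Dade

set_option autoImplicit false
open Cfsg

namespace Cfsg.Agent.S1527

/-- Let G be a finite group and H i (i in a finite index type) subgroups of pairwise coprime orders, each of whose underlying sets is a TI-subset of G, such that every non-identity element of G is conjugate to an element of some H i. Then Nat.card G − 1 = Σ_i [G : N_G(H i)] · (Nat.card (H i) − 1). -/
theorem result {G : Type*} [Group G] [Finite G] {ι : Type*} [Fintype ι] (H : ι → Subgroup G) (hcop : ∀ i j, i ≠ j → Nat.Coprime (Nat.card (H i)) (Nat.card (H j))) (hTI : ∀ i, Cfsg.IsTISubset (H i : Set G)) (hcover : ∀ g : G, g ≠ 1 → ∃ i, ∃ x : G, x * g * x⁻¹ ∈ H i) : Nat.card G - 1 = ∑ i, (Subgroup.normalizer (H i : Set G)).index * (Nat.card (H i) - 1) := by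
  classical
  have := Fintype.ofFinite G
  let A : ι → Set G := fun i => {x | x ∈ H i ∧ x ≠ 1}
  have h1 : ∀ i, (1 : G) ∉ A i := fun i h => h.2 rfl
  have hN : ∀ i, Subgroup.normalizer (A i) = Subgroup.normalizer (H i : Set G) := by
    intro i
    ext g
    simp only [Subgroup.mem_set_normalizer_iff]
    refine ⟨fun h x => ?_, fun h x => ?_⟩
    · by_cases hx : x = 1
      · subst hx; simp
      · have := h x
        simp only [A, Set.mem_setOf_eq, ne_eq, conj_eq_one_iff, hx, not_false_iff, and_true] at this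
        simpa using this
    · simp only [A, Set.mem_setOf_eq, ne_eq, conj_eq_one_iff]
      exact and_congr_left' (h x)
  have hTIA : ∀ i, Cfsg.IsTISubset (A i) := fun i g hg x hx hgx =>
    hTI i g (hN i ▸ hg) x hx.1 hgx.1
  have hD : ∀ i, Cfsg.DadeHypothesis (A i) (Subgroup.normalizer (A i)) (fun _ => ⊥) := fun i =>
    Coherence.Dade.of_TI (h1 i) (hTIA i) fun a ha => by
      rw [SetLike.mem_coe, hN i]
      exact Subgroup.le_normalizer ha.1
  let B : ι → Finset G := fun i =>
    Finset.univ.filter (· ∈ Coherence.Dade.support (A i) (fun _ => (⊥ : Subgroup G)))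
  have hB : ∀ i g, g ∈ B i ↔ ∃ x : G, x * g * x⁻¹ ∈ H i ∧ g ≠ 1 := by
    intro i g
    simp only [B, Finset.mem_filter, Finset.mem_univ, true_and, Coherence.Dade.support,
      Set.mem_setOf_eq, Subgroup.mem_bot]
    constructor
    · rintro ⟨a, ha, u, rfl, x, hx⟩
      rw [mul_one] at hx
      exact ⟨x, hx ▸ ha.1, fun e => ha.2 (by rw [← hx, e]; simp)⟩
    · rintro ⟨x, hx, hg⟩
      exact ⟨x * g * x⁻¹, ⟨hx, fun e => hg (conj_eq_one_iff.1 e)⟩, 1, rfl, x, (mul_one _).symm⟩
  have hdisj : ∀ i ∈ (Finset.univ : Finset ι), ∀ j ∈ (Finset.univ : Finset ι), i ≠ j →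
      Disjoint (B i) (B j) := by
    intro i _ j _ hij
    rw [Finset.disjoint_left]
    intro g hi hj
    obtain ⟨x, hx, hg⟩ := (hB i g).1 hi
    obtain ⟨y, hy, -⟩ := (hB j g).1 hj
    have h1 := Subgroup.orderOf_dvd_natCard _ hx
    have h2 := Subgroup.orderOf_dvd_natCard _ hy
    rw [← MulAut.conj_apply, MulEquiv.orderOf_eq] at h1 h2
    exact hg (orderOf_eq_one_iff.1 (Nat.dvd_one.1 (hcop i j hij ▸ Nat.dvd_gcd h1 h2)))
  have hunion : (Finset.univ : Finset ι).biUnion B = Finset.univ.erase (1 : G) := by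
    ext g
    simp only [Finset.mem_biUnion, Finset.mem_univ, true_and, Finset.mem_erase, and_true]
    exact ⟨fun ⟨i, hi⟩ => ((hB i g).1 hi).choose_spec.2, fun hg =>
      let ⟨i, x, hx⟩ := hcover g hg; ⟨i, (hB i g).2 ⟨x, hx, hg⟩⟩⟩
  have hcard : ∀ i, (B i).card =
      (Subgroup.normalizer (H i : Set G)).index * (Nat.card (H i) - 1) := by
    intro i
    have h := Coherence.Dade.sum_support (hD i) (fun _ => (1 : ℂ)) (fun _ _ => rfl)
    have hinner : ∀ a : Subgroup.normalizer (A i), (Nat.card (⊥ : Subgroup G) : ℂ)⁻¹ *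
        ∑ u ∈ Finset.univ.filter (· ∈ (⊥ : Subgroup G)), (1 : ℂ) = 1 := by
      intro a
      have : Finset.univ.filter (· ∈ (⊥ : Subgroup G)) = {(1 : G)} := by ext; simp
      rw [this]; simp
    rw [Finset.sum_congr rfl (fun a _ => hinner a), Finset.sum_const, Finset.sum_const, nsmul_one,
      nsmul_one] at h
    have hA : (Finset.univ.filter (fun a : Subgroup.normalizer (A i) => (a : G) ∈ A i)).card =
        Nat.card (H i) - 1 := by
      have h2 : Nat.card (H i) - 1 = ((Finset.univ : Finset (H i)).erase 1).card := by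
        rw [Finset.card_erase_of_mem (Finset.mem_univ _), Finset.card_univ,
          Nat.card_eq_fintype_card]
      rw [h2]
      refine Finset.card_bij (fun a ha => ⟨(a : G), (Finset.mem_filter.1 ha).2.1⟩) ?_ ?_ ?_
      · intro a ha
        simp only [Finset.mem_erase, Finset.mem_univ, and_true, ne_eq]
        exact fun e => (Finset.mem_filter.1 ha).2.2 (congrArg Subtype.val e)
      · intro a _ b _ e
        exact Subtype.ext (congrArg Subtype.val e : _)
      · intro b hb
        have hb1 : (b : G) ≠ 1 := fun e => (Finset.mem_erase.1 hb).1 (Subtype.ext e)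
        exact ⟨⟨b, by rw [hN i]; exact Subgroup.le_normalizer b.2⟩,
          Finset.mem_filter.2 ⟨Finset.mem_univ _, b.2, hb1⟩, rfl⟩
    have h' : Nat.card (Subgroup.normalizer (A i)) * (B i).card =
        Nat.card G * (Nat.card (H i) - 1) := by
      rw [← hA]
      refine Nat.cast_injective (R := ℂ) ?_
      push_cast
      convert h using 4; ext a; simp only [Finset.mem_filter]
    rw [← Subgroup.card_mul_index (Subgroup.normalizer (A i)), mul_assoc] at h'
    rw [Nat.eq_of_mul_eq_mul_left Nat.card_pos h', hN i]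
  rw [← Finset.sum_congr rfl (fun i _ => hcard i), ← Finset.card_biUnion hdisj, hunion,
    Finset.card_erase_of_mem (Finset.mem_univ _), Finset.card_univ, Nat.card_eq_fintype_card]

end Cfsg.Agent.S1527
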