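import Cfsg.Statements.S1529
import Cfsg.Agent.Coherence.Basic

set_option autoImplicit false
open Cfsg

namespace Cfsg.Agent.S1529

/-- Let N be a subgroup of the finite group G, S a set of irreducible characters of N with at least two members, and τ₁ a linear isometry on the integer combinations of S with virtual-character values such that τ₁ α vanishes at 1 whenever α ∈ ℤ[S] does. Then there is ε ∈ {1, −1} such that ε • τ₁ χ is an irreducible character of G for every χ ∈ S, and distinct members of S give distinct characters. -/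
theorem result {G : Type*} [Group G] [Fintype G] (N : Subgroup G) [Fintype N] (S : Set (N → ℂ)) (hirr : ∀ χ ∈ S, Cfsg.IsIrrCharacter N χ) (htwo : ∃ χ ∈ S, ∃ ψ ∈ S, χ ≠ ψ) (τ₁ : (N → ℂ) → (G → ℂ)) (hτ₁ : Cfsg.IsLinearIsometryOn (Cfsg.zspan S) τ₁) (h0 : ∀ α ∈ Cfsg.zspan S, α 1 = 0 → τ₁ α 1 = 0) : ∃ ε : ℂ, (ε = 1 ∨ ε = -1) ∧ (∀ χ ∈ S, Cfsg.IsIrrCharacter G (ε • τ₁ χ)) ∧ (∀ χ ∈ S, ∀ ψ ∈ S, τ₁ χ = τ₁ ψ → χ = ψ) := by
  classical
  have hgen := fun χ (h : χ ∈ S) => hτ₁.2.2.2 χ (Coherence.mem_zspan_of_mem h)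
  have hinn : ∀ χ ∈ S, ∀ ψ ∈ S,
      Cfsg.classInner (τ₁ χ) (τ₁ ψ) = if χ = ψ then 1 else 0 := fun χ hχ ψ hψ => by
    rw [hτ₁.2.2.1 χ (Coherence.mem_zspan_of_mem hχ) ψ (Coherence.mem_zspan_of_mem hψ),
      Char.classInner_irr (hirr χ hχ) (hirr ψ hψ)]
  have hpm : ∀ χ ∈ S, Coherence.SIrr G (τ₁ χ) := fun χ hχ => by
    obtain ⟨ψ, e | e⟩ := Char.IsGen.eq_pm_irr (hgen χ hχ) (by rw [hinn χ hχ χ hχ, if_pos rfl])
    · exact Or.inl (e ▸ ψ.2)
    · exact Or.inr (by rw [e, neg_neg]; exact ψ.2)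
  have hinj : ∀ χ ∈ S, ∀ ψ ∈ S, τ₁ χ = τ₁ ψ → χ = ψ := by
    intro χ hχ ψ hψ e
    by_contra hne
    have := hinn χ hχ ψ hψ
    rw [if_neg hne, ← e, hinn χ hχ χ hχ, if_pos rfl] at this
    exact one_ne_zero this
  have hcross : ∀ χ ∈ S, ∀ ψ ∈ S, Cfsg.IsIrrCharacter G (τ₁ χ) →
      Cfsg.IsIrrCharacter G (τ₁ ψ) := by
    intro χ hχ ψ hψ hpos
    rcases hpm ψ hψ with h | h
    · exact h
    exfalso
    obtain ⟨a, ha, ea⟩ := Char.IsIrr.degree (hirr χ hχ)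
    obtain ⟨b, hb, eb⟩ := Char.IsIrr.degree (hirr ψ hψ)
    obtain ⟨c, hc, ec⟩ := Char.IsIrr.degree hpos
    obtain ⟨e, he, ee⟩ := Char.IsIrr.degree h
    have hzχ := Coherence.mem_zspan_of_mem hχ
    have hzψ := Coherence.mem_zspan_of_mem hψ
    have hm : (b : ℂ) • χ - (a : ℂ) • ψ ∈ Cfsg.zspan S :=
      Coherence.zspan_sub (Coherence.zspan_natCast_smul b hzχ) (Coherence.zspan_natCast_smul a hzψ)
    have h1 := h0 _ hm (by simp [ea, eb, mul_comm])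
    rw [Coherence.iso_zspan_sub hτ₁ (Coherence.zspan_natCast_smul b hzχ)
      (Coherence.zspan_natCast_smul a hzψ), Coherence.iso_zspan_natCast hτ₁ b hzχ,
      Coherence.iso_zspan_natCast hτ₁ a hzψ] at h1
    simp only [Pi.neg_apply] at ee
    simp only [Pi.sub_apply, Pi.smul_apply, smul_eq_mul, ec] at h1
    have h2 : ((b * c + a * e : ℕ) : ℂ) = 0 := by
      push_cast; linear_combination h1 - (a : ℂ) * ee
    have h3 : b * c + a * e = 0 := by exact_mod_cast h2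
    have h4 : 0 < b * c := Nat.mul_pos hb hc
    omega
  obtain ⟨χ₀, hχ₀, -⟩ := htwo
  rcases hpm χ₀ hχ₀ with h | h
  · exact ⟨1, Or.inl rfl, fun χ hχ => by rw [one_smul]; exact hcross χ₀ hχ₀ χ hχ h, hinj⟩
  · refine ⟨-1, Or.inr rfl, fun χ hχ => ?_, hinj⟩
    rw [neg_one_smul]
    rcases hpm χ hχ with h' | h'
    · exfalso
      have h2 := hcross χ hχ χ₀ hχ₀ h'
      obtain ⟨a, ha, ea⟩ := Char.IsIrr.degree h
      obtain ⟨b, hb, eb⟩ := Char.IsIrr.degree h2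
      rw [Pi.neg_apply, eb] at ea
      have h3 : ((a + b : ℕ) : ℂ) = 0 := by push_cast; linear_combination -ea
      have h4 : a + b = 0 := by exact_mod_cast h3
      omega
    · exact h' 

end Cfsg.Agent.S1529
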