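import Cfsg.Statements.S1530
import Cfsg.Agent.Coherence.Criteria

set_option autoImplicit false
open Cfsg

namespace Cfsg.Agent.S1530

/-- Let N be a subgroup of the finite group G and S₀ a finite set of irreducible characters of N, χ an irreducible character of N not in S₀, with degrees ξ 1 = d ξ. Let τ be a linear isometry on the integer combinations of S₀ ∪ {χ} vanishing at 1, with values virtual characters of G vanishing at 1, such that (S₀, N minus 1, τ) is coherent. If some ψ ∈ S₀ has d ψ dividing d χ and 2 · d ψ · d χ < Σ_{ξ ∈ S₀} (d ξ)², then (S₀ ∪ {χ}, N minus 1, τ) is coherent. -/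
theorem result {G : Type*} [Group G] [Fintype G] (N : Subgroup G) [Fintype N] (S₀ : Finset (N → ℂ)) (χ : N → ℂ) (hirr : ∀ ξ ∈ S₀, Cfsg.IsIrrCharacter N ξ) (hχ : Cfsg.IsIrrCharacter N χ) (hχS : χ ∉ S₀) (d : (N → ℂ) → ℕ) (hd : ∀ ξ ∈ insert χ S₀, ξ 1 = (d ξ : ℂ)) (τ : (N → ℂ) → (G → ℂ)) (hτ : Cfsg.IsLinearIsometryOn (Cfsg.zspanOn (↑(insert χ S₀) : Set (N → ℂ)) {1}ᶜ) τ) (hτ1 : ∀ α ∈ Cfsg.zspanOn (↑(insert χ S₀) : Set (N → ℂ)) {1}ᶜ, τ α 1 = 0) (hcoh : Cfsg.IsCoherent (↑S₀ : Set (N → ℂ)) {1}ᶜ τ) (ψ : N → ℂ) (hψ : ψ ∈ S₀) (hdvd : d ψ ∣ d χ) (hlt : 2 * d ψ * d χ < ∑ ξ ∈ S₀, d ξ ^ 2) : Cfsg.IsCoherent (↑(insert χ S₀) : Set (N → ℂ)) {1}ᶜ τ := by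
  classical
  obtain ⟨hnz, τ₁, hτ₁, hagree⟩ := hcoh
  have hcoe : (↑(insert χ S₀) : Set (N → ℂ)) = insert χ (↑S₀ : Set (N → ℂ)) :=
    Finset.coe_insert _ _
  rw [hcoe] at hτ hτ1 ⊢
  have hirr' : ∀ ξ ∈ insert χ (↑S₀ : Set (N → ℂ)), Cfsg.IsIrrCharacter N ξ := by
    rintro ξ (rfl | hξ)
    · exact hχ
    · exact hirr ξ hξ
  obtain ⟨a, ha⟩ := hdvd
  have hdψ : d ψ ≠ 0 := fun h => Char.IsIrr.one_ne_zero (hirr ψ hψ)
    (by rw [hd ψ (Finset.mem_insert_of_mem hψ), h, Nat.cast_zero])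
  have hdeg : χ 1 = (a : ℂ) * ψ 1 := by
    rw [hd χ (Finset.mem_insert_self χ S₀), hd ψ (Finset.mem_insert_of_mem hψ), ha]
    push_cast; ring
  have hne : ∀ ξ ∈ insert χ (↑S₀ : Set (N → ℂ)), ξ ≠ 0 := fun ξ h e =>
    Char.IsIrr.one_ne_zero (hirr' ξ h) (by rw [e]; rfl)
  have horth : ∀ φ ∈ insert χ (↑S₀ : Set (N → ℂ)), ∀ η ∈ insert χ (↑S₀ : Set (N → ℂ)), φ ≠ η →
      Cfsg.classInner φ η = 0 :=
    fun φ hφ η hη h => Char.classInner_irr_ne (hirr' φ hφ) (hirr' η hη) h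
  have hgen : ∀ ξ ∈ insert χ (↑S₀ : Set (N → ℂ)), Cfsg.IsGeneralizedCharacter N ξ :=
    fun ξ h => Char.isGeneralized_of_isCharacter (Char.IsIrr.isCharacter (hirr' ξ h))
  obtain ⟨x, hform, hsumeq⟩ := Coherence.exists_shift S₀ χ ψ a hψ hχS horth hgen hτ hτ₁ hagree
    hdeg d (fun _ => 1) (fun φ h => hd φ (Finset.mem_insert_of_mem h))
    (fun φ h => by rw [Char.classInner_irr_self (hirr φ h), Nat.cast_one])
    (fun _ _ => one_ne_zero) hdψ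
  set θ := χ - (a : ℂ) • ψ with hθ
  have hθm : θ ∈ Cfsg.zspanOn (insert χ (↑S₀ : Set (N → ℂ))) {1}ᶜ :=
    Coherence.mem_zspanOn_compl_one.2 ⟨Coherence.zspan_sub
      (Coherence.mem_zspan_of_mem (Set.mem_insert _ _))
      (Coherence.zspan_natCast_smul _
        (Coherence.mem_zspan_of_mem (Set.mem_insert_of_mem _ hψ))), by simp [hθ, hdeg]⟩
  have hz : ∀ φ ∈ S₀, φ ∈ Cfsg.zspan (↑S₀ : Set (N → ℂ)) := fun φ h =>
    Coherence.mem_zspan_of_mem h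
  have hself : ∀ φ ∈ S₀, Cfsg.classInner (τ₁ φ) (τ₁ φ) = 1 := fun φ h => by
    rw [hτ₁.2.2.1 _ (hz φ h) _ (hz φ h), Char.classInner_irr_self (hirr φ h)]
  have himne : ∀ φ ∈ S₀, τ₁ φ ≠ 0 := fun φ h e => by
    have := hself φ h
    rw [e, Char.classInner_zero_left] at this
    exact zero_ne_one this
  have hb := Coherence.bessel S₀ τ₁ himne (fun φ hφ η hη h => by
    rw [hτ₁.2.2.1 _ (hz φ hφ) _ (hz η hη), Char.classInner_irr_ne (hirr φ hφ) (hirr η hη) h])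
    (τ θ)
  have o1 : Cfsg.classInner χ ψ = 0 :=
    horth χ (Set.mem_insert _ _) ψ (Set.mem_insert_of_mem _ hψ) fun e => hχS (e ▸ hψ)
  have hnorm : (Cfsg.classInner θ θ).re = 1 + (a : ℝ) ^ 2 := by
    simp [hθ, Char.classInner_sub_left, Char.classInner_sub_right, Char.classInner_smul_left,
      Char.classInner_smul_right, o1, Coherence.inner_eq_zero_comm o1,
      Char.classInner_irr_self hχ, Char.classInner_irr_self (hirr ψ hψ), pow_two]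
  rw [hsumeq, hτ.2.2.1 _ hθm _ hθm, hnorm] at hb
  simp only [Nat.cast_one, mul_one, div_one] at hb
  have hreal : (2 * (d χ : ℝ) * d ψ) < ∑ ξ ∈ S₀, (d ξ : ℝ) ^ 2 := by
    have h : (((2 * d ψ * d χ : ℕ)) : ℝ) < ((∑ ξ ∈ S₀, d ξ ^ 2 : ℕ) : ℝ) := Nat.cast_lt.2 hlt
    push_cast at h
    linarith
  have hx : x = 0 := by
    by_contra hx
    have hpos := Coherence.shift_pos (d := d χ) hdψ (by rw [ha, mul_comm]) hreal hx
    -- the excess is a positive integer at most one, so equality holds in Bessel's inequality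
    choose! m hm using fun φ (h : φ ∈ S₀) => Char.classInner_generalized_int
      (hτ.2.2.2 _ hθm) (hτ₁.2.2.2 _ (hz φ h))
    have hint : ∑ φ ∈ S₀, ‖Cfsg.classInner (τ θ) (τ₁ φ)‖ ^ 2 /
        (Cfsg.classInner (τ₁ φ) (τ₁ φ)).re = ((∑ φ ∈ S₀, m φ ^ 2 : ℤ) : ℝ) := by
      rw [Int.cast_sum]
      refine Finset.sum_congr rfl fun φ hφ => ?_
      rw [hm φ hφ, hself φ hφ, Complex.one_re, div_one, Coherence.norm_intCast_sq, Int.cast_pow]
    simp only [hsumeq, Nat.cast_one, mul_one, div_one] at hint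
    have hlo : (a : ℤ) ^ 2 < ∑ φ ∈ S₀, m φ ^ 2 := by
      have : ((a : ℝ)) ^ 2 < ((∑ φ ∈ S₀, m φ ^ 2 : ℤ) : ℝ) := by linarith
      exact_mod_cast this
    have heq : (a : ℝ) ^ 2 - 2 * a * x + (x : ℝ) ^ 2 * (∑ ξ ∈ S₀, (d ξ : ℝ) ^ 2) /
        (d ψ : ℝ) ^ 2 = 1 + (a : ℝ) ^ 2 := by
      refine le_antisymm hb.1 ?_
      rw [hint]
      have h' : (((a : ℤ) ^ 2 + 1 : ℤ) : ℝ) ≤ ((∑ φ ∈ S₀, m φ ^ 2 : ℤ) : ℝ) :=
        Int.cast_le.2 hlo
      push_cast at h' ⊢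
      linarith
    have hβ := congrFun (hb.2 heq) 1
    have hτψ := (show Coherence.SIrr G (τ₁ ψ) from by
      obtain ⟨μ, e | e⟩ := Char.IsGen.eq_pm_irr (hτ₁.2.2.2 _ (hz ψ hψ)) (hself ψ hψ)
      · exact Or.inl (e ▸ μ.2)
      · exact Or.inr (by rw [e, neg_neg]; exact μ.2)).apply_one_ne_zero
    have hone : ∀ φ ∈ S₀, (d ψ : ℂ) * τ₁ φ 1 = (d φ : ℂ) * τ₁ ψ 1 := by
      intro φ hφ
      have hγ : (d ψ : ℂ) • φ - (d φ : ℂ) • ψ ∈ Cfsg.zspanOn (↑S₀ : Set (N → ℂ)) {1}ᶜ :=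
        Coherence.mem_zspanOn_compl_one.2 ⟨Coherence.zspan_sub
          (Coherence.zspan_natCast_smul _ (hz φ hφ)) (Coherence.zspan_natCast_smul _ (hz ψ hψ)),
          by simp [hd φ (Finset.mem_insert_of_mem hφ), hd ψ (Finset.mem_insert_of_mem hψ),
            mul_comm]⟩
      have h0 := hτ1 _ (Coherence.zspanOn_mono (Set.subset_insert _ _) hγ)
      rw [← hagree _ hγ, Coherence.iso_zspan_sub hτ₁ (Coherence.zspan_natCast_smul _ (hz φ hφ))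
        (Coherence.zspan_natCast_smul _ (hz ψ hψ)), Coherence.iso_zspan_natCast hτ₁ _ (hz φ hφ),
        Coherence.iso_zspan_natCast hτ₁ _ (hz ψ hψ)] at h0
      simpa [sub_eq_zero] using h0
    rw [hτ1 _ hθm, Finset.sum_apply] at hβ
    have hd' : (d ψ : ℂ) ≠ 0 := Nat.cast_ne_zero.2 hdψ
    have hterm : ∀ φ ∈ S₀, ((Cfsg.classInner (τ θ) (τ₁ φ) /
        Cfsg.classInner (τ₁ φ) (τ₁ φ)) • τ₁ φ) 1 =
        τ₁ ψ 1 * ((x : ℂ) / (d ψ : ℂ) ^ 2 * (d φ : ℂ) ^ 2 -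
          if φ = ψ then (a : ℂ) else 0) := by
      intro φ hφ
      have h1 : τ₁ φ 1 = (d φ : ℂ) * τ₁ ψ 1 / (d ψ : ℂ) := by
        rw [eq_div_iff hd', mul_comm]; exact hone φ hφ
      rw [Pi.smul_apply, smul_eq_mul, hself φ hφ, div_one, hform φ hφ, hθ,
        Char.classInner_sub_left, Char.classInner_smul_left,
        horth χ (Set.mem_insert _ _) φ (Set.mem_insert_of_mem _ hφ) (fun e => hχS (e ▸ hφ)),
        Char.classInner_irr (hirr ψ hψ) (hirr φ hφ)]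
      rcases eq_or_ne φ ψ with rfl | hne'
      · rw [if_pos rfl, if_pos rfl]; push_cast; field_simp; ring
      · rw [if_neg hne'.symm, if_neg hne', h1]; push_cast; field_simp; ring
    rw [Finset.sum_congr rfl hterm, ← Finset.mul_sum, Finset.sum_sub_distrib, ← Finset.mul_sum,
      Finset.sum_ite_eq', if_pos hψ] at hβ
    have h2 := (mul_eq_zero.1 hβ.symm).resolve_left hτψ
    have h3 : ((x * ∑ φ ∈ S₀, (d φ : ℤ) ^ 2 : ℤ) : ℂ) = (((a : ℤ) * (d ψ : ℤ) ^ 2 : ℤ) : ℂ) := by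
      push_cast
      have h4 := sub_eq_zero.1 h2
      field_simp at h4
      linear_combination h4
    have h4 : x * ∑ φ ∈ S₀, (d φ : ℤ) ^ 2 = (a : ℤ) * (d ψ : ℤ) ^ 2 := by exact_mod_cast h3
    have h5 : (2 * d ψ * d χ : ℤ) < ∑ φ ∈ S₀, (d φ : ℤ) ^ 2 := by exact_mod_cast hlt
    rw [ha] at h5
    push_cast at h5
    have h6 : (0 : ℤ) ≤ (a : ℤ) * (d ψ : ℤ) ^ 2 := by positivity
    rcases lt_or_gt_of_ne hx with hlt' | hgt
    · nlinarith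
    · nlinarith
  subst hx
  obtain ⟨τ₂, hτ₂, hagree₂, -, -⟩ := Coherence.coherent_insert S₀ χ ψ a hψ hχS horth hne hgen
    hτ hτ₁ hagree hdeg (fun φ hφ => by rw [← hθ, hform φ hφ]; simp)
  obtain ⟨γ, hγ, hγ0⟩ := hnz
  exact ⟨⟨γ, Coherence.zspanOn_mono (Set.subset_insert _ _) hγ, hγ0⟩, τ₂, hτ₂, hagree₂⟩

end Cfsg.Agent.S1530
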