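import Cfsg.Statements.S1532
import Cfsg.Agent.OddChars.TICoherence

set_option autoImplicit false
open Cfsg

namespace Cfsg.Agent.S1532

/-- Let G be a finite group, p an odd prime and P a Sylow p-subgroup that is non-abelian, whose underlying set is a TI-subset of G, with P properly contained in its set normaliser N and C_G(x) ≤ P for every non-identity x ∈ P. Let Z be a nontrivial subgroup of the centre of P normalised by N. Then the set of irreducible characters χ of N with χ z ≠ χ 1 for some z ∈ Z is coherent for the map induced by induction from N to G. -/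
theorem result {G : Type*} [Group G] [Fintype G] (p : ℕ) [Fact p.Prime] (hp : p ≠ 2) (P : Sylow p G) (hna : ¬ IsMulCommutative (P : Subgroup G)) (hTI : Cfsg.IsTISubset ((P : Subgroup G) : Set G)) (hlt : (P : Subgroup G) < Subgroup.normalizer ((P : Subgroup G) : Set G)) (hC : ∀ k ∈ (P : Subgroup G), k ≠ 1 → Subgroup.centralizer ({k} : Set G) ≤ (P : Subgroup G)) [Fintype ↥(Subgroup.normalizer ((P : Subgroup G) : Set G))] (Z : Subgroup G) (hZ1 : Z ≠ ⊥) (hZP : ∀ z ∈ Z, z ∈ (P : Subgroup G) ∧ ∀ y ∈ (P : Subgroup G), z * y = y * z) (hZn : ∀ x ∈ Subgroup.normalizer ((P : Subgroup G) : Set G), ∀ z ∈ Z, x * z * x⁻¹ ∈ Z) : Cfsg.IsCoherent {χ : ↥(Subgroup.normalizer ((P : Subgroup G) : Set G)) → ℂ | Cfsg.IsIrrCharacter ↥(Subgroup.normalizer ((P : Subgroup G) : Set G)) χ ∧ ∃ z : ↥(Subgroup.normalizer ((P : Subgroup G) : Set G)), (z : G) ∈ Z ∧ χ z ≠ χ 1} {1}ᶜ (fun α => Cfsg.indFun (Subgroup.normalizer ((P : Subgroup G) : Set G)) α) := by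
  classical
  have hpK : IsPGroup p (P : Subgroup G) := P.2
  have hnil : Group.IsNilpotent (P : Subgroup G) := hpK.isNilpotent
  have hK1 : (P : Subgroup G) ≠ ⊥ := fun h => hna ⟨⟨fun a b => by
    have h1 : ∀ x : (P : Subgroup G), x = 1 := fun x => Subtype.ext (Subgroup.mem_bot.1 (h ▸ x.2 : (x : G) ∈ (⊥ : Subgroup G)))
    rw [h1 a, h1 b]⟩⟩
  have hC' : ∀ k ∈ ((P : Subgroup G).subgroupOf (Subgroup.normalizer ((P : Subgroup G) : Set G))), k ≠ 1 → Subgroup.centralizer ({k} : Set (Subgroup.normalizer ((P : Subgroup G) : Set G))) ≤ ((P : Subgroup G).subgroupOf (Subgroup.normalizer ((P : Subgroup G) : Set G))) := OddChars.ti_cent_le hC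
  have hnil' := OddChars.ti_nilpotent hnil
  have hlt₁ := OddChars.derived_lt hnil' (OddChars.ti_ne_bot hK1)
  -- the normaliser has odd order
  have hodd : Odd (Nat.card (Subgroup.normalizer ((P : Subgroup G) : Set G))) := by
    rw [← ((P : Subgroup G).subgroupOf (Subgroup.normalizer ((P : Subgroup G) : Set G))).card_mul_index]
    refine Odd.mul ?_ (Nat.not_even_iff_odd.1 fun h =>
      hna (OddChars.ti_isMulCommutative_iff.1 (OddChars.commutative_of_even hC' h)))
    obtain ⟨m, hm⟩ := hpK.exists_card_eq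
    rw [OddChars.ti_card, hm]
    exact ((Fact.out : p.Prime).odd_of_ne_two hp).pow
  obtain ⟨-, R, hS⟩ := OddChars.ti_system hTI hC hodd hnil hK1
  haveI : (Z.subgroupOf (Subgroup.normalizer ((P : Subgroup G) : Set G))).Normal := ⟨fun x hx g => hZn g g.2 x hx⟩
  have hle : Z.subgroupOf (Subgroup.normalizer ((P : Subgroup G) : Set G)) ≤ ((P : Subgroup G).subgroupOf (Subgroup.normalizer ((P : Subgroup G) : Set G))) := fun x hx => (hZP x hx).1
  have hne : Z.subgroupOf (Subgroup.normalizer ((P : Subgroup G) : Set G)) ≠ ⊥ := by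
    rw [ne_eq, Subgroup.subgroupOf_eq_bot, disjoint_iff]
    intro h
    refine hZ1 (eq_bot_iff.2 fun z hz => ?_)
    rw [← h]
    exact ⟨hz, Subgroup.le_normalizer (hZP z hz).1⟩
  have hirr : ∀ χ ∈ Cfsg.inducedIrrAbove ((P : Subgroup G).subgroupOf (Subgroup.normalizer ((P : Subgroup G) : Set G))) ⊥ \ Cfsg.inducedIrrAbove ((P : Subgroup G).subgroupOf (Subgroup.normalizer ((P : Subgroup G) : Set G))) (Z.subgroupOf (Subgroup.normalizer ((P : Subgroup G) : Set G))),
      Cfsg.IsIrrCharacter (Subgroup.normalizer ((P : Subgroup G) : Set G)) χ := fun χ hχ => OddChars.frob_irr hC' hχ.1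
  have h := OddChars.coherent_diff (K := ((P : Subgroup G).subgroupOf (Subgroup.normalizer ((P : Subgroup G) : Set G)))) (Z := Z.subgroupOf (Subgroup.normalizer ((P : Subgroup G) : Set G))) inferInstance hS hodd hnil' hlt₁
    (lt_top_iff_ne_top.2 (OddChars.ti_ne_top hlt)) (OddChars.mem_of_commutator_mem hC' hlt₁.le)
    hne hle (fun z hz k hk => Subtype.ext ((hZP z hz).2 k hk)) hirr
  rw [OddChars.diff_eq_irr_nontrivial hle hirr] at h
  simpa only [Subgroup.mem_subgroupOf] using h

end Cfsg.Agent.S1532
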