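import Cfsg.Statements.S1533
import Cfsg.Agent.OddChars.TICoherence

set_option autoImplicit false
open Cfsg

namespace Cfsg.Agent.S1533

/-- Let G be a finite group, p an odd prime, and P a nontrivial Sylow p-subgroup whose underlying set is a TI-subset of G, with P properly contained in its set normaliser N and C_G(x) ≤ P for every non-identity x ∈ P. Let S be the set of irreducible characters χ of N with χ x ≠ χ 1 for some x ∈ P. Then either S has exactly one member, P is elementary abelian and Nat.card P = [N:P] + 1; or (S, N minus 1, induction to G) is coherent. -/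
theorem result {G : Type*} [Group G] [Fintype G] (p : ℕ) [Fact p.Prime] (hp : p ≠ 2) (P : Sylow p G) (hP1 : (P : Subgroup G) ≠ ⊥) (hTI : Cfsg.IsTISubset ((P : Subgroup G) : Set G)) (hlt : (P : Subgroup G) < Subgroup.normalizer ((P : Subgroup G) : Set G)) (hC : ∀ k ∈ (P : Subgroup G), k ≠ 1 → Subgroup.centralizer ({k} : Set G) ≤ (P : Subgroup G)) [Fintype ↥(Subgroup.normalizer ((P : Subgroup G) : Set G))] : (Nat.card {χ : ↥(Subgroup.normalizer ((P : Subgroup G) : Set G)) → ℂ // Cfsg.IsIrrCharacter ↥(Subgroup.normalizer ((P : Subgroup G) : Set G)) χ ∧ ∃ x : ↥(Subgroup.normalizer ((P : Subgroup G) : Set G)), (x : G) ∈ (P : Subgroup G) ∧ χ x ≠ χ 1} = 1 ∧ Cfsg.IsElementaryAbelian p (P : Subgroup G) ∧ Nat.card (P : Subgroup G) = ((P : Subgroup G).subgroupOf (Subgroup.normalizer ((P : Subgroup G) : Set G))).index + 1) ∨ Cfsg.IsCoherent {χ : ↥(Subgroup.normalizer ((P : Subgroup G) : Set G)) → ℂ | Cfsg.IsIrrCharacter ↥(Subgroup.normalizer ((P : Subgroup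 G) : Set G)) χ ∧ ∃ x : ↥(Subgroup.normalizer ((P : Subgroup G) : Set G)), (x : G) ∈ (P : Subgroup G) ∧ χ x ≠ χ 1} {1}ᶜ (fun α => Cfsg.indFun (Subgroup.normalizer ((P : Subgroup G) : Set G)) α) := by
  classical
  have hpK : IsPGroup p (P : Subgroup G) := P.2
  have hnil : Group.IsNilpotent (P : Subgroup G) := hpK.isNilpotent
  have hset := OddChars.ti_set_eq (K := (P : Subgroup G)) hC
  rcases OddChars.ti_trichotomy hTI hlt hP1 hnil hC with ⟨hcard, q, hq, hel⟩ | ⟨Q, hQ, -⟩ | ⟨-, h⟩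
  · refine Or.inl ⟨OddChars.ti_card_family hC hP1 hnil hcard, ?_, hcard⟩
    obtain ⟨k, hk, hk1⟩ := (Subgroup.bot_or_exists_ne_one _).resolve_left hP1
    obtain ⟨i, hi⟩ := hpK ⟨k, hk⟩
    have hord : orderOf k = q := by
      haveI := Fact.mk hq
      exact orderOf_eq_prime (hel.2 k hk) hk1
    have hdvd : q ∣ p ^ i := hord ▸ orderOf_dvd_of_pow_eq_one (congrArg Subtype.val hi)
    have hpq : q = p := (Nat.prime_dvd_prime_iff_eq hq Fact.out).1 (hq.dvd_of_dvd_pow hdvd)
    exact hpq ▸ hel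
  · exfalso
    have h2 : IsPGroup 2 (P : Subgroup G) := hQ ▸ Q.2
    obtain ⟨k, hk, hk1⟩ := (Subgroup.bot_or_exists_ne_one _).resolve_left hP1
    obtain ⟨i, hi⟩ := hpK ⟨k, hk⟩
    obtain ⟨j, hj⟩ := h2 ⟨k, hk⟩
    have h3 := Nat.eq_one_of_dvd_coprimes (Nat.Coprime.pow i j
        ((Nat.coprime_primes Fact.out Nat.prime_two).2 hp))
      (orderOf_dvd_of_pow_eq_one (congrArg Subtype.val hi : k ^ p ^ i = 1))
      (orderOf_dvd_of_pow_eq_one (congrArg Subtype.val hj : k ^ 2 ^ j = 1))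
    exact hk1 (orderOf_eq_one_iff.1 h3)
  · exact Or.inr (hset ▸ h)

end Cfsg.Agent.S1533
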