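import Cfsg.Statements.S1536
import Cfsg.Agent.Coherence.Fixed
import Cfsg.Agent.S1496


set_option autoImplicit false
open Cfsg

namespace Cfsg.Agent.S1536

/-- Let H be a normal subgroup of the finite group M whose order is coprime to its index. For x ∈ M: some non-principal irreducible character of H is unchanged under h ↦ θ(x h x⁻¹) if and only if some non-identity element of H commutes with x. -/
theorem result {M : Type*} [Group M] [Finite M] (H : Subgroup M) [hN : H.Normal] (hHall : Nat.Coprime (Nat.card H) H.index) (x : M) : (∃ θ : H → ℂ, Cfsg.IsIrrCharacter H θ ∧ θ ≠ (fun _ => 1) ∧ (fun h : H => θ ⟨x * h * x⁻¹, hN.conj_mem h h.2 x⟩) = θ) ↔ ∃ h ∈ H, h ≠ 1 ∧ x * h = h * x := by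
  classical
  refine (Coherence.fixed_irr_iff_fixed_class H x).trans ⟨?_, ?_⟩
  · rintro ⟨h, hne, hconj⟩
    have hne' : (h : M) ≠ 1 := fun e => hne (Subtype.ext e)
    by_cases hcop : Nat.Coprime (orderOf x) (Nat.card H)
    · obtain ⟨k, hk⟩ := isConj_iff.1 hconj
      have hk' : ((k : M) * x) * h * ((k : M) * x)⁻¹ = h := by
        have := congrArg Subtype.val hk
        simp only [Subgroup.coe_mul, Subgroup.coe_inv, MulAut.conjNormal_apply] at this
        calc _ = (k : M) * (x * h * x⁻¹) * (k : M)⁻¹ := by group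
          _ = h := this
      obtain ⟨z, hz, c, hc, hcx, he⟩ := Cfsg.Agent.S1496.result H x
        (by rw [Subgroup.normalizer_eq_top]; trivial) hcop k k.2
      obtain ⟨m, hm1, hm0⟩ := Nat.chineseRemainder hcop 1 0
      have hpow : (c * x) ^ m = x := by
        have h1 : x ^ m = x ^ 1 := pow_eq_pow_iff_modEq.2 hm1
        have h0 : c ^ m = c ^ 0 := pow_eq_pow_iff_modEq.2
          (hm0.of_dvd (Subgroup.orderOf_dvd_natCard _ hc))
        rw [Commute.mul_pow hcx, h0, h1, pow_zero, one_mul, pow_one]
      have hcom : Commute (c * x) (z * h * z⁻¹) := by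
        show c * x * (z * h * z⁻¹) = z * h * z⁻¹ * (c * x)
        rw [← he]
        calc z * (k * x) * z⁻¹ * (z * h * z⁻¹) = z * ((k * x) * h * ((k : M) * x)⁻¹) * (k * x) * z⁻¹ := by
              group
          _ = z * h * (k * x) * z⁻¹ := by rw [hk']
          _ = _ := by group
      refine ⟨z * h * z⁻¹, mul_mem (mul_mem hz h.2) (inv_mem hz),
        fun e => hne' (conj_eq_one_iff.1 e), ?_⟩
      have := hcom.pow_left m
      rwa [hpow] at this
    · obtain ⟨p, hp, hpx, hpH⟩ := Nat.Prime.not_coprime_iff_dvd.1 hcop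
      set y := x ^ (orderOf x / p) with hy
      have hyo : orderOf y = p := orderOf_pow_orderOf_div (orderOf_pos x).ne' hpx
      refine ⟨y, ?_, ?_, (Commute.self_pow x _).eq⟩
      · rw [← QuotientGroup.eq_one_iff]
        have hd1 : orderOf (QuotientGroup.mk y : M ⧸ H) ∣ p := hyo ▸
          orderOf_map_dvd (QuotientGroup.mk' H) y
        have hd2 : orderOf (QuotientGroup.mk y : M ⧸ H) ∣ H.index := by
          rw [Subgroup.index_eq_card]; exact orderOf_dvd_natCard _
        have hcp : Nat.Coprime p H.index := hHall.coprime_dvd_left hpH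
        exact orderOf_eq_one_iff.1 (Nat.dvd_one.1 (hcp ▸ Nat.dvd_gcd hd1 hd2))
      · intro e
        rw [e, orderOf_one] at hyo
        exact hp.one_lt.ne hyo
  · rintro ⟨h, hh, hne, he⟩
    refine ⟨⟨h, hh⟩, fun e => hne (congrArg Subtype.val e), ?_⟩
    have : (MulAut.conjNormal x : MulAut H) ⟨h, hh⟩ = ⟨h, hh⟩ := by
      apply Subtype.ext
      rw [MulAut.conjNormal_apply]
      show x * h * x⁻¹ = h
      rw [he, mul_inv_cancel_right]
    rw [this]

end Cfsg.Agent.S1536
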