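import Cfsg.Statements.S1551
import Cfsg.Agent.Compute.SextStructCheck
import Cfsg.Agent.Compute.StabStruct

set_option autoImplicit false
open scoped Pointwise
open Cfsg

namespace Cfsg.Agent.S1551

theorem adjSwap_spec : ∀ (j : Fin 5) (i : Fin 6),
    Compute.adjSwap j i = ((Equiv.swap j.castSucc j.succ) i : Fin 6).val := by decide +kernel

/-- Structure of a sextet stabiliser: it induces every permutation of the six tetrads, the subgroup fixing each tetrad setwise has order 192, and there is a normal subgroup of order 64 consisting of elements squaring to the identity. -/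
theorem result (S : Finset (Finset Cfsg.GolayPt)) (hS : S ∈ Cfsg.sextets) : (∀ e : Equiv.Perm ↥S, ∃ g ∈ MulAction.stabilizer Cfsg.M24 S, ∀ t : ↥S, (g : Equiv.Perm Cfsg.GolayPt) • (t : Finset Cfsg.GolayPt) = ((e t : ↥S) : Finset Cfsg.GolayPt)) ∧ Nat.card {g : ↥(MulAction.stabilizer Cfsg.M24 S) // ∀ t ∈ S, ((g : Cfsg.M24) : Equiv.Perm Cfsg.GolayPt) • t = t} = 192 ∧ ∃ N : Subgroup ↥(MulAction.stabilizer Cfsg.M24 S), N.Normal ∧ Nat.card N = 64 ∧ ∀ x ∈ N, x * x = 1 := by
  classical
  obtain ⟨h, hh, hhS⟩ := Compute.exists_move_sextet hS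
  obtain ⟨E, hE⟩ := Compute.exists_stab_equiv hh hhS Compute.sextStab_spec.2.1
  have hstab : Nat.card ↥(MulAction.stabilizer Cfsg.M24 S) = 138240 := by
    rw [Nat.card_congr E.toEquiv, Compute.Rep.card_chainGroup _ Compute.sextStab_spec.1,
      Compute.sext_swap_check.2]
  -- the six members
  have hlen : (Compute.masksOf 6 Compute.cfgSextRoot).length = 6 := Compute.length_masksOf _ _
  have hmemS : ∀ i : Fin 6,
      h⁻¹ • Compute.suppM ((Compute.masksOf 6 Compute.cfgSextRoot).getD i 0) ∈ S := by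
    intro i
    rw [Finset.inv_smul_mem_iff, hhS, Compute.mem_decFam]
    refine ⟨_, ?_, rfl⟩
    rw [List.getD_eq_getElem _ _ (by rw [hlen]; exact i.2)]
    exact List.getElem_mem _
  let m : Fin 6 → ↥S := fun i => ⟨_, hmemS i⟩
  have hsurj : Function.Surjective m := by
    rintro ⟨t, ht⟩
    have h1 : h • t ∈ Compute.decFam 6 Compute.cfgSextRoot := hhS ▸ Finset.smul_mem_smul_finset ht
    obtain ⟨a, ha, hat⟩ := Compute.mem_decFam.mp h1
    obtain ⟨i, hi, rfl⟩ := List.getElem_of_mem ha
    refine ⟨⟨i, hlen ▸ hi⟩, Subtype.ext ?_⟩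
    show h⁻¹ • Compute.suppM ((Compute.masksOf 6 Compute.cfgSextRoot).getD i 0) = t
    rw [List.getD_eq_getElem _ _ hi, hat, inv_smul_smul]
  have hSc : Nat.card ↥S = 6 := by
    rw [Nat.card_eq_finsetCard, hS.1]
  have hbij : Function.Bijective m :=
    (Nat.bijective_iff_surjective_and_card m).mpr ⟨hsurj, by rw [hSc, Nat.card_fin]⟩
  let em : Fin 6 ≃ ↥S := Equiv.ofBijective m hbij
  let π := Compute.memberHom S
  have hπ : Function.Surjective π := by
    rw [← MonoidHom.range_eq_top]
    have key : ∀ j : Fin 5, em.permCongrHom (Equiv.swap j.castSucc j.succ) ∈ π.range := by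
      intro j
      have hc := Compute.allBelow_eq_true.mp Compute.sext_swap_check.1 j j.2
      simp only [Bool.and_eq_true, Compute.allBelow_eq_true, Nat.beq_eq] at hc
      obtain ⟨⟨hok, hsift⟩, himg⟩ := hc
      have hok' := Compute.rep24.okb_sound _ hok
      have hmem := Compute.Rep.mem_of_sift Compute.rep24 _ Compute.sextStab_spec.1 hok' hsift
      refine ⟨E.symm ⟨_, hmem⟩, Equiv.ext fun t => ?_⟩
      obtain ⟨i, rfl⟩ := em.surjective t
      show π (E.symm ⟨_, hmem⟩) (em i) = em ((Equiv.swap j.castSucc j.succ) (em.symm (em i)))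
      rw [em.symm_apply_apply]
      apply Subtype.ext
      have hval := hE (E.symm ⟨_, hmem⟩)
      rw [E.apply_symm_apply] at hval
      show (((E.symm ⟨_, hmem⟩ : ↥(MulAction.stabilizer Cfsg.M24 S)) : ↥Cfsg.M24) :
          Equiv.Perm Cfsg.GolayPt) •
          (h⁻¹ • Compute.suppM ((Compute.masksOf 6 Compute.cfgSextRoot).getD i 0)) = _
      have e1 : ((((E.symm ⟨_, hmem⟩ : ↥(MulAction.stabilizer Cfsg.M24 S)) : ↥Cfsg.M24)) :
          Equiv.Perm Cfsg.GolayPt) * h⁻¹ = h⁻¹ * Compute.rep24.den (Compute.sextSwap.getD j 0) := by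
        refine Eq.trans ?_ (congrArg (h⁻¹ * ·) hval).symm
        group
      rw [← mul_smul, e1, mul_smul, Compute.smul_suppM hok', himg i i.2]
      show _ = h⁻¹ • Compute.suppM _
      rw [adjSwap_spec j i]
    rw [eq_top_iff]
    rintro e -
    obtain ⟨f, rfl⟩ := em.permCongrHom.surjective e
    have hf : f ∈ Submonoid.closure (Set.range fun i : Fin 5 => Equiv.swap i.castSucc i.succ) := by
      rw [Equiv.Perm.mclosure_swap_castSucc_succ]; trivial
    induction hf using Submonoid.closure_induction with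
    | mem y hy => obtain ⟨j, rfl⟩ := hy; exact key j
    | one => rw [map_one]; exact one_mem _
    | mul y z _ _ hy hz => rw [map_mul]; exact mul_mem hy hz
  have hker : Nat.card ↥π.ker = 192 := by
    have h1 := π.ker.card_eq_card_quotient_mul_card_subgroup
    rw [Nat.card_congr (QuotientGroup.quotientKerEquivOfSurjective π hπ).toEquiv, Nat.card_perm,
      hSc, hstab] at h1
    rw [show Nat.factorial 6 = 720 from rfl] at h1
    omega
  obtain ⟨N, hNn, hNc, hNsq, -⟩ := Compute.exists_list_subgroup Compute.sextStab_spec.1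
    Compute.sext_elem_check.1
  refine ⟨fun e => ?_, ?_, N.comap E.toMonoidHom, hNn.comap _, ?_, fun x hx => ?_⟩
  · obtain ⟨a, ha⟩ := hπ e
    exact ⟨(a : ↥Cfsg.M24), a.2, fun t => by rw [← ha]; rfl⟩
  · rw [← hker]
    refine Nat.card_congr (Equiv.subtypeEquivRight fun a => ?_)
    rw [MonoidHom.mem_ker, Equiv.ext_iff]
    exact ⟨fun hfix t => Subtype.ext (hfix t t.2), fun hfix t ht => congrArg Subtype.val (hfix ⟨t, ht⟩)⟩
  · rw [Nat.card_congr (Equiv.subtypeEquiv E.toEquiv (fun a => Iff.rfl) :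
      ↥(N.comap E.toMonoidHom) ≃ ↥N), hNc, Compute.sext_elem_check.2]
  · have := hNsq (E x) hx
    rw [← map_mul] at this
    exact E.map_eq_one_iff.mp this

end Cfsg.Agent.S1551
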