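import Cfsg.Statements.S1552
import Cfsg.Agent.Compute.MathieuMaximal

set_option autoImplicit false
open scoped Pointwise
open Cfsg

namespace Cfsg.Agent.S1552

/-- A sextet stabiliser has four orbits on the 1771 sextets, of sizes 1, 90, 240, 1440; and the stabiliser is a maximal proper subgroup. -/
theorem result (S : Finset (Finset Cfsg.GolayPt)) (hS : S ∈ Cfsg.sextets) : ∃ X₁ ∈ Cfsg.sextets, ∃ X₂ ∈ Cfsg.sextets, ∃ X₃ ∈ Cfsg.sextets, (MulAction.orbit ↥(MulAction.stabilizer Cfsg.M24 S) X₁).ncard = 90 ∧ (MulAction.orbit ↥(MulAction.stabilizer Cfsg.M24 S) X₂).ncard = 240 ∧ (MulAction.orbit ↥(MulAction.stabilizer Cfsg.M24 S) X₃).ncard = 1440 ∧ Cfsg.sextets = {S} ∪ MulAction.orbit ↥(MulAction.stabilizer Cfsg.M24 S) X₁ ∪ MulAction.orbit ↥(MulAction.stabilizer Cfsg.M24 S) X₂ ∪ MulAction.orbit ↥(MulAction.stabilizer Cfsg.M24 S) X₃ ∧ IsCoatom (MulAction.stabilizer Cfsg.M24 S) := by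
  obtain ⟨g, hg, hgx⟩ := Compute.exists_move_sextet hS
  obtain ⟨a, b⟩ := Compute.subs_SextSext hg hgx
  refine ⟨_, (a Compute.cfgSextSextSub1 (by simp [Compute.cfgSextSextSubs])).1,
    _, (a Compute.cfgSextSextSub2 (by simp [Compute.cfgSextSextSubs])).1,
    _, (a Compute.cfgSextSextSub3 (by simp [Compute.cfgSextSextSubs])).1,
    (a Compute.cfgSextSextSub1 (by simp [Compute.cfgSextSextSubs])).2.1,
    (a Compute.cfgSextSextSub2 (by simp [Compute.cfgSextSextSubs])).2.1,
    (a Compute.cfgSextSextSub3 (by simp [Compute.cfgSextSextSubs])).2.1, ?_, Compute.isCoatom_Sext hg hgx⟩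
  refine Set.Subset.antisymm (fun X hX => ?_) ?_
  · obtain ⟨s, hs, hXs⟩ := b X hX
    simp only [Compute.cfgSextSextSubs, List.mem_cons, List.not_mem_nil, or_false] at hs
    rcases hs with rfl | rfl | rfl | rfl
    · rw [Compute.orbit_first hgx (congrArg _ Compute.first_Sext)] at hXs
      simp only [Set.mem_union, hXs, true_or]
    · simp only [Set.mem_union, hXs, true_or, or_true]
    · simp only [Set.mem_union, hXs, true_or, or_true]
    · simp only [Set.mem_union, hXs, true_or, or_true]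
  · simp only [Set.union_subset_iff]
    exact ⟨⟨⟨Set.singleton_subset_iff.mpr hS, (a Compute.cfgSextSextSub1 (by simp [Compute.cfgSextSextSubs])).2.2⟩,
        (a Compute.cfgSextSextSub2 (by simp [Compute.cfgSextSextSubs])).2.2⟩,
        (a Compute.cfgSextSextSub3 (by simp [Compute.cfgSextSextSubs])).2.2⟩

end Cfsg.Agent.S1552
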