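import Cfsg.Statements.S1553
import Cfsg.Agent.Compute.IsoTools

set_option autoImplicit false
open scoped Pointwise
open Cfsg

namespace Cfsg.Agent.S1553

/-- The stabiliser of an octad in the group of the length-24 code induces on the octad exactly its alternating group. -/
theorem result (o : Finset Cfsg.GolayPt) (ho : o ∈ Cfsg.octads) : {e : Equiv.Perm ↥o | ∃ g : Equiv.Perm Cfsg.GolayPt, g ∈ Cfsg.M24 ∧ ∃ h : (∀ x, g x ∈ o ↔ x ∈ o), g.subtypePerm h = e} = (alternatingGroup ↥o : Set (Equiv.Perm ↥o)) := by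
  obtain ⟨g, hg, hgo⟩ := Compute.exists_move_octad ho
  let H : Subgroup (Equiv.Perm Cfsg.GolayPt) :=
    Cfsg.M24 ⊓ MulAction.stabilizer (Equiv.Perm Cfsg.GolayPt) o
  have hinv : ∀ a ∈ H, a • o = o := fun a ha => (Subgroup.mem_inf.mp ha).2
  let f := Compute.restrHom H o hinv
  have hH : Nat.card ↥H * 759 = 244823040 := by
    have h := Compute.card_stab_mul (G := Equiv.Perm Cfsg.GolayPt) (H := Cfsg.M24) (x := o)
    have he : (MulAction.orbit ↥Cfsg.M24 o).ncard = 759 := by
      rw [show MulAction.orbit ↥Cfsg.M24 o =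
          MulAction.orbit ↥Cfsg.M24 (Compute.suppM Compute.cfgOctRoot) from
        MulAction.orbit_eq_iff.mpr ⟨⟨g⁻¹, inv_mem hg⟩, inv_smul_eq_iff.mpr
          ((congrArg Compute.suppM Compute.octRoot_eq).trans hgo.symm)⟩]
      exact Compute.octStab_spec.2.2.2
    rw [he, Compute.card_m24] at h
    rw [mul_comm]; exact h.symm
  have hker : Nat.card ↥f.ker = 16 := by
    have hiff : ∀ a : Equiv.Perm Cfsg.GolayPt, (a ∈ Cfsg.M24 ∧ ∀ p ∈ o, a p = p) ↔
        g * a * g⁻¹ ∈ Compute.rep24.chainGroup (Compute.m24cChain.drop 6) := by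
      intro a
      rw [Compute.mem_fix_baseOctad, Compute.conj_mem_M24_iff hg, ← hgo]
      refine and_congr Iff.rfl ⟨fun h p hp => ?_, fun h y hy => ?_⟩
      · obtain ⟨y, hy, rfl⟩ := Finset.mem_smul_finset.mp hp
        exact (Compute.conj_apply_eq_iff rfl).mpr (h y hy)
      · exact (Compute.conj_apply_eq_iff rfl).mp (h _ (Finset.smul_mem_smul_finset hy))
    have e : ↥f.ker ≃ {a : Equiv.Perm Cfsg.GolayPt // a ∈ Cfsg.M24 ∧ ∀ p ∈ o, a p = p} :=
      { toFun := fun a => ⟨(a : ↥H), (Subgroup.mem_inf.mp (a : ↥H).2).1,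
          Compute.restrHom_eq_one.mp a.2⟩
        invFun := fun b => ⟨⟨b.1, Subgroup.mem_inf.mpr ⟨b.2.1, by
          rw [MulAction.mem_stabilizer_iff]
          refine Finset.eq_of_subset_of_card_le (fun q hq => ?_)
            (le_of_eq (Finset.card_smul_finset _ _).symm)
          obtain ⟨p, hp, rfl⟩ := Finset.mem_smul_finset.mp hq
          rw [Equiv.Perm.smul_def, b.2.2 p hp]; exact hp⟩⟩, Compute.restrHom_eq_one.mpr b.2.2⟩
        left_inv := fun a => rfl
        right_inv := fun b => rfl }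
    rw [Nat.card_congr (e.trans ((MulAut.conj g).toEquiv.subtypeEquiv hiff)),
      Compute.Rep.card_chainGroup _ (Compute.checkChain_drop Compute.m24c_check 6)]
    exact Compute.drop6_c.2.1
  have h2 : f.range.index = 2 := by
    have h1 := Subgroup.card_mul_index f.ker
    rw [Subgroup.index_ker, hker] at h1
    have h3 := Subgroup.card_mul_index f.range
    rw [Nat.card_perm, Nat.card_eq_fintype_card (α := ↥o), Fintype.card_coe, ho.2] at h3
    have h4 : Nat.card ↥f.range = 20160 := by omega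
    rw [h4, show Nat.factorial 8 = 20160 * 2 by decide] at h3
    exact Nat.eq_of_mul_eq_mul_left (by norm_num) h3
  rw [← Equiv.Perm.eq_alternatingGroup_of_index_eq_two h2]
  ext e
  constructor
  · rintro ⟨a, ha, h, rfl⟩
    refine ⟨⟨a, Subgroup.mem_inf.mpr ⟨ha, ?_⟩⟩, ?_⟩
    · rw [MulAction.mem_stabilizer_iff]
      refine Finset.eq_of_subset_of_card_le (fun q hq => ?_)
        (le_of_eq (Finset.card_smul_finset _ _).symm)
      obtain ⟨p, hp, rfl⟩ := Finset.mem_smul_finset.mp hq
      exact (h p).mpr hp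
    · rfl
  · rintro ⟨a, rfl⟩
    exact ⟨a, (Subgroup.mem_inf.mp a.2).1,
      fun x => by
        conv_lhs => rw [← hinv a a.2]
        exact Finset.smul_mem_smul_finset_iff _, rfl⟩

end Cfsg.Agent.S1553
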