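import Cfsg.Statements.S1554
import Cfsg.Agent.Compute.IsoTools

set_option autoImplicit false
open scoped Pointwise
open Cfsg

namespace Cfsg.Agent.S1554

/-- An octad stabiliser is a split extension: the joint stabiliser of the octad and a point outside it is a complement to the pointwise stabiliser of the octad, and is isomorphic to the alternating group of degree 8. -/
theorem result (o : Finset Cfsg.GolayPt) (ho : o ∈ Cfsg.octads) (p : Cfsg.GolayPt) (hp : p ∉ o) : (Cfsg.M24 ⊓ fixingSubgroup (Equiv.Perm Cfsg.GolayPt) (o : Set Cfsg.GolayPt)) ⊓ (Cfsg.M24 ⊓ MulAction.stabilizer (Equiv.Perm Cfsg.GolayPt) o ⊓ MulAction.stabilizer (Equiv.Perm Cfsg.GolayPt) p) = ⊥ ∧ (Cfsg.M24 ⊓ fixingSubgroup (Equiv.Perm Cfsg.GolayPt) (o : Set Cfsg.GolayPt)) ⊔ (Cfsg.M24 ⊓ MulAction.stabilizer (Equiv.Perm Cfsg.GolayPt) o ⊓ MulAction.stabilizer (Equiv.Perm Cfsg.GolayPt) p) = (Cfsg.M24 ⊓ MulAction.stabilizer (Equiv.Perm Cfsg.GolayPt) o) ∧ Nonempty (↥(Cfsg.M24 ⊓ MulAction.stabilizer (Equiv.Perm Cfsg.GolayPt)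 o ⊓ MulAction.stabilizer (Equiv.Perm Cfsg.GolayPt) p) ≃* alternatingGroup (Fin 8)) := by
  obtain ⟨g, hg, hgo, hgp⟩ := Compute.exists_move_octOut ho hp
  have hgo' : g • o = Compute.suppM Compute.baseOctad := by rw [hgo, Compute.octRoot_eq]
  let N : Subgroup (Equiv.Perm Cfsg.GolayPt) :=
    Cfsg.M24 ⊓ fixingSubgroup (Equiv.Perm Cfsg.GolayPt) (o : Set Cfsg.GolayPt)
  let P : Subgroup (Equiv.Perm Cfsg.GolayPt) :=
    Cfsg.M24 ⊓ MulAction.stabilizer (Equiv.Perm Cfsg.GolayPt) o ⊓
      MulAction.stabilizer (Equiv.Perm Cfsg.GolayPt) p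
  have hN : ∀ a, a ∈ N ↔ g * a * g⁻¹ ∈ Compute.rep24.chainGroup (Compute.m24cChain.drop 6) := by
    intro a
    rw [Compute.mem_fix_baseOctad, Compute.conj_mem_M24_iff hg, Subgroup.mem_inf,
      mem_fixingSubgroup_iff, ← hgo']
    refine and_congr Iff.rfl ⟨fun h q hq => ?_, fun h y hy => ?_⟩
    · obtain ⟨y, hy, rfl⟩ := Finset.mem_smul_finset.mp hq
      exact (Compute.conj_apply_eq_iff rfl).mpr (h y hy)
    · exact (Compute.conj_apply_eq_iff rfl).mp (h _ (Finset.smul_mem_smul_finset hy))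
  have hP : ∀ a, a ∈ P ↔ g * a * g⁻¹ ∈ Compute.rep24.chainGroup Compute.cfgOctOutChain := by
    intro a
    rw [Compute.mem_cfgOctOut_iff, Compute.conj_mem_M24_iff hg, ← hgo, ← hgp]
    simp only [P, Subgroup.mem_inf, MulAction.mem_stabilizer_iff, mul_smul, inv_smul_smul,
      smul_left_cancel_iff, and_assoc]
  have hgp' : g p = Compute.rep24.pt 4 := hgp
  have htriv : ∀ a, a ∈ N → a p = p → a = 1 := by
    intro a ha hap
    have := Compute.fix_octad_point ((hN a).mp ha) ((Compute.conj_apply_eq_iff hgp').mpr hap)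
    exact conj_eq_one_iff.mp this
  refine ⟨?_, ?_, ?_⟩
  · rw [Subgroup.eq_bot_iff_forall]
    intro a ha
    exact htriv a (Subgroup.mem_inf.mp ha).1 (Subgroup.mem_inf.mp (Subgroup.mem_inf.mp ha).2).2
  · apply le_antisymm
    · refine sup_le (fun a ha => ?_) inf_le_left
      obtain ⟨h1, h2⟩ := Subgroup.mem_inf.mp ha
      refine Subgroup.mem_inf.mpr ⟨h1, MulAction.mem_stabilizer_iff.mpr ?_⟩
      refine Finset.eq_of_subset_of_card_le (fun q hq => ?_)
        (le_of_eq (Finset.card_smul_finset _ _).symm)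
      obtain ⟨y, hy, rfl⟩ := Finset.mem_smul_finset.mp hq
      rw [(mem_fixingSubgroup_iff _).mp h2 y hy]; exact hy
    · intro a ha
      obtain ⟨haM, hao⟩ := Subgroup.mem_inf.mp ha
      rw [MulAction.mem_stabilizer_iff] at hao
      have hout : g • a • p ∉ Compute.suppM Compute.baseOctad := by
        rw [← hgo', Finset.smul_mem_smul_finset_iff]
        intro h
        rw [← hao, Finset.smul_mem_smul_finset_iff] at h
        exact hp h
      have hscan := List.all_eq_true.mp Compute.drop6c_regular.1 _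
        (List.mem_range.mpr (Compute.ptIdx_lt (g • a • p)))
      rw [Bool.eq_false_iff.mpr (fun h => hout (Compute.mem_suppM.mpr h)), Bool.false_or,
        List.any_eq_true] at hscan
      obtain ⟨c, hc, hci⟩ := hscan
      rw [Nat.beq_eq] at hci
      have hchain : ∀ c ∈ Compute.rep24.chainElems (Compute.m24cChain.drop 6),
          Compute.rep24.Ok c ∧ Compute.rep24.den c ∈
            Compute.rep24.chainGroup (Compute.m24cChain.drop 6) :=
        fun c hc => Compute.rep24.chainElems_mem _ (Compute.checkChain_drop Compute.m24c_check 6) hc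
      obtain ⟨hok, hmem⟩ := hchain c hc
      have hn : g⁻¹ * Compute.rep24.den c * g ∈ N := by
        rw [hN]; simpa [mul_assoc] using hmem
      have hnp : (g⁻¹ * Compute.rep24.den c * g) • p = a • p := by
        rw [mul_smul, mul_smul, hgp, Compute.rep24.act_spec _ _ hok (show (4 : ℕ) < 24 by norm_num),
          hci, Compute.rep24_pt_ptIdx, inv_smul_smul]
      have hnfix : (g⁻¹ * Compute.rep24.den c * g) • o = o := by
        refine Finset.eq_of_subset_of_card_le (fun q hq => ?_)
          (le_of_eq (Finset.card_smul_finset _ _).symm)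
        obtain ⟨y, hy, rfl⟩ := Finset.mem_smul_finset.mp hq
        rw [(mem_fixingSubgroup_iff _).mp (Subgroup.mem_inf.mp hn).2 y hy]; exact hy
      have hrest : (g⁻¹ * Compute.rep24.den c * g)⁻¹ * a ∈ P := by
        refine Subgroup.mem_inf.mpr ⟨Subgroup.mem_inf.mpr
          ⟨mul_mem (inv_mem (Subgroup.mem_inf.mp hn).1) haM, ?_⟩, ?_⟩
        · rw [MulAction.mem_stabilizer_iff, mul_smul, hao, inv_smul_eq_iff, hnfix]
        · rw [MulAction.mem_stabilizer_iff, mul_smul, inv_smul_eq_iff, hnp]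
      have := Subgroup.mul_mem_sup hn hrest
      rwa [mul_inv_cancel_left] at this
  · have hinv : ∀ a ∈ Compute.rep24.chainGroup Compute.cfgOctOutChain,
        a • Compute.suppM Compute.cfgOctRoot = Compute.suppM Compute.cfgOctRoot :=
      fun a ha => (Compute.mem_cfgOctOut ha).2.1
    have hfaith : ∀ a ∈ Compute.rep24.chainGroup Compute.cfgOctOutChain,
        (∀ q ∈ Compute.suppM Compute.cfgOctRoot, a q = q) → a = 1 := by
      intro a ha h
      refine Compute.fix_octad_point ?_ (Compute.mem_cfgOctOut ha).2.2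
      rw [Compute.mem_fix_baseOctad]
      exact ⟨(Compute.mem_cfgOctOut ha).1, by rwa [← Compute.octRoot_eq]⟩
    obtain ⟨e⟩ := Compute.nonempty_equiv_alternating (k := 8) Compute.stabOctOut_spec.1
      Compute.roots_lt.1 hinv hfaith (by decide +kernel) (by decide +kernel)
    exact ⟨((({ toEquiv := (MulAut.conj g).toEquiv.subtypeEquiv hP,
                map_mul' := fun x y => Subtype.ext (map_mul (MulAut.conj g) x.1 y.1) } :
      ↥P ≃* ↥(Compute.rep24.chainGroup Compute.cfgOctOutChain)))).trans e⟩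

end Cfsg.Agent.S1554
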