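import Cfsg.Statements.S1555
import Cfsg.Agent.Compute.MathieuExtra

set_option autoImplicit false
open scoped Pointwise
open Cfsg

namespace Cfsg.Agent.S1555

/-- Bottom row of the Leech triangle: an octad is met in a prescribed pair of its points by exactly 16 octads and in a prescribed 4-subset by exactly 4 octads. -/
theorem result (o : Finset Cfsg.GolayPt) (ho : o ∈ Cfsg.octads) (s : Finset Cfsg.GolayPt) (hs : s ⊆ o) : (s.card = 2 → {o' : Finset Cfsg.GolayPt | o' ∈ Cfsg.octads ∧ o ∩ o' = s}.ncard = 16) ∧ (s.card = 4 → {o' : Finset Cfsg.GolayPt | o' ∈ Cfsg.octads ∧ o ∩ o' = s}.ncard = 4) := by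
  obtain ⟨g, hg, hgo⟩ := Compute.exists_move_oct ho
  obtain ⟨m, hm, hmlt, hms⟩ := Compute.exists_submask (r := Compute.cfgOctRoot)
    (s := g • s) (hgo ▸ Finset.smul_finset_subset_smul_finset hs)
  have hcard : s.card = Compute.popBits 24 m := by
    rw [← Compute.card_suppM, hms, Finset.card_smul_finset]
  have hscan : (Compute.subMasks Compute.cfgOctRoot 24).all (fun m =>
      (!(Nat.beq (Compute.popBits 24 m) 2) || Nat.beq ((Compute.cfgOctTree.codes.filter
        fun c => Nat.beq (Nat.land Compute.cfgOctRoot c) m).length) 16) &&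
      (!(Nat.beq (Compute.popBits 24 m) 4) || Nat.beq ((Compute.cfgOctTree.codes.filter
        fun c => Nat.beq (Nat.land Compute.cfgOctRoot c) m).length) 4)) = true := by decide +kernel
  have hm' := List.all_eq_true.mp hscan m hm
  simp only [Bool.and_eq_true, Bool.or_eq_true, Bool.not_eq_true', Bool.eq_false_iff, ne_eq,
    Nat.beq_eq] at hm'
  have key : {o' : Finset Cfsg.GolayPt | o' ∈ Cfsg.octads ∧ o ∩ o' = s}.ncard =
      (Compute.cfgOctTree.codes.filter fun c => Nat.beq (Nat.land Compute.cfgOctRoot c) m).length := by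
    rw [Compute.ncard_setOf_smul g (Q := fun X => X ∈ Cfsg.octads ∧
      Compute.suppM Compute.cfgOctRoot ∩ X = Compute.suppM m) fun X => ?_]
    · rw [Compute.octads_eq_codes]
      refine Compute.ncard_codes_filter (O := Compute.maskObj)
        (Compute.Obj.stab_nodup (O := Compute.maskObj) Compute.cfgOct_stab) Compute.octTree_good ?_
      intro c hc
      rw [Nat.beq_eq, show Nat.land Compute.cfgOctRoot c = Compute.cfgOctRoot &&& c from rfl,
        ← Compute.suppM_eq_iff (Compute.and_lt _ _ (Compute.octTree_good c hc)) hmlt,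
        Compute.suppM_and]
      exact Iff.rfl
    · rw [Compute.smul_mem_octads_iff hg, hms, ← hgo, ← Finset.smul_finset_inter]
      exact and_congr Iff.rfl (MulAction.injective g).eq_iff
  refine ⟨fun h2 => ?_, fun h4 => ?_⟩
  · rw [key]; exact hm'.1.resolve_left (fun h => h (hcard.symm.trans h2))
  · rw [key]; exact hm'.2.resolve_left (fun h => h (hcard.symm.trans h4))

end Cfsg.Agent.S1555
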