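import Cfsg.Statements.S1556
import Cfsg.Agent.Compute.MathieuMoves

set_option autoImplicit false
open scoped Pointwise
open Cfsg

namespace Cfsg.Agent.S1556

/-- Two octads meeting a fixed octad in equally many points are in the same orbit of its stabiliser. -/
theorem result (o o' o'' : Finset Cfsg.GolayPt) (ho : o ∈ Cfsg.octads) (ho' : o' ∈ Cfsg.octads) (ho'' : o'' ∈ Cfsg.octads) (h : (o ∩ o').card = (o ∩ o'').card) : ∃ g : Equiv.Perm Cfsg.GolayPt, g ∈ Cfsg.M24 ∧ g • o = o ∧ g • o' = o'' := by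
  obtain ⟨g, hg, hgo⟩ := Compute.exists_move_oct ho
  obtain ⟨h, hh, hX⟩ := Compute.partsOctOct.1 _ ((Compute.smul_mem_octads_iff hg).mpr ho') _
    ((Compute.smul_mem_octads_iff hg).mpr ho'')
    (by unfold Compute.invOctOct; rw [← hgo, Compute.card_inter_smul, Compute.card_inter_smul, h])
  have h' := (SetLike.ext_iff.mp Compute.octStab_spec.2.1 h).mpr hh
  obtain ⟨hm, hfix⟩ := Subgroup.mem_inf.mp h'
  exact ⟨_, Compute.conj_mem hg hm, Compute.fix_conj hgo hfix, Compute.map_conj hX⟩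

end Cfsg.Agent.S1556
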