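import Cfsg.Statements.S1558
import Cfsg.Agent.Compute.StructFacts
import Cfsg.Agent.Compute.TrioStructData
import Mathlib.LinearAlgebra.Matrix.GeneralLinearGroup.Card

set_option autoImplicit false
open scoped Pointwise
open Cfsg

namespace Cfsg.Agent.S1558

open Cfsg.Agent.Compute
open scoped Pointwise

theorem chain_check : rep24.checkChain trioNChain = true ∧ chainSize trioNChain = 64 ∧
    rep24.squareB trioNChain = true := by
  decide +kernel

theorem normal_check : rep24.normalB cfgTrioChain trioNChain trioInvs = true := by decide +kernel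

theorem swaps_check : trioSwaps.all (rep24.inB cfgTrioChain) = true ∧
    swapsB imgMask (masksOf 3 cfgTrioRoot) trioSwaps = true := by decide +kernel

/-- The successor table. -/
noncomputable def succ (j i : ℕ) : ℕ := getField 10 trioSucc (1008 * j + i)

theorem table_check : rep24.tableB cfgTrioChain trioNChain cfgTrioGens 1008 (getField 120 trioReps)
    (getField 120 trioRepInvs) succ = true := by decide +kernel

theorem table_size : cfgTrioGens.length = 2 ∧
    chainSize cfgTrioChain = 1008 * chainSize trioNChain ∧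
    getField 120 trioReps 0 = rep24.one := by decide +kernel

/-- A 3 by 3 matrix over the field with two elements from nine bits. -/
def mat3 (k : ℕ) : Matrix (Fin 3) (Fin 3) (ZMod 2) :=
  Matrix.of fun i j => (getField 1 k (3 * (i : ℕ) + (j : ℕ)) : ZMod 2)

/-- One entry of a product. -/
def entry3 (a b n : ℕ) : ℕ :=
  (getField 1 a (3 * (n / 3)) * getField 1 b (n % 3) +
    getField 1 a (3 * (n / 3) + 1) * getField 1 b (3 + n % 3) +
    getField 1 a (3 * (n / 3) + 2) * getField 1 b (6 + n % 3)) % 2

/-- The product of two coded matrices. -/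
noncomputable def mul3 (a b : ℕ) : ℕ := pack 1 9 (entry3 a b)

theorem mat3_mul3 (a b : ℕ) : mat3 (mul3 a b) = mat3 a * mat3 b := by
  ext i j
  rw [Matrix.mul_apply, Fin.sum_univ_three]
  simp only [mat3, Matrix.of_apply]
  rw [mul3, getField_pack 1 9 _ (fun n _ => by unfold entry3; omega) (by omega), entry3,
    ZMod.natCast_mod, show (3 * (i : ℕ) + (j : ℕ)) / 3 = i by omega,
    show (3 * (i : ℕ) + (j : ℕ)) % 3 = j by omega]
  push_cast
  simp

theorem mat3_one : mat3 273 = 1 := by decide +kernel

/-- The six permutations of three objects. -/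
def perm3 (k : ℕ) : Equiv.Perm (Fin 3) :=
  [1, Equiv.swap 0 1, Equiv.swap 0 2, Equiv.swap 1 2, Equiv.swap 0 1 * Equiv.swap 1 2,
    Equiv.swap 1 2 * Equiv.swap 0 1].getD k 1

/-- Composition of the six permutations. -/
def comp6 (a b : ℕ) : ℕ :=
  (List.range 6).findIdx fun c => decide (∀ x : Fin 3, perm3 c x = perm3 a (perm3 b x))

/-- The table of `comp6`. -/
def compTable : List ℕ := (List.range 36).map fun n => comp6 (n / 6) (n % 6)

theorem compTable_spec : ∀ a b : Fin 6, ∀ x : Fin 3,
    perm3 (compTable.getD (6 * (a : ℕ) + (b : ℕ)) 0) x = perm3 a (perm3 b x) := by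
  decide +kernel

theorem perm3_injective : ∀ a b : Fin 6, (∀ x, perm3 a x = perm3 b x) → a = b := by
  decide +kernel

/-- The bits of a matrix. -/
def enc3 (M : Matrix (Fin 3) (Fin 3) (ZMod 2)) : ℕ :=
  (M 0 0).val + 2 * (M 0 1).val + 4 * (M 0 2).val + 8 * (M 1 0).val + 16 * (M 1 1).val +
    32 * (M 1 2).val + 64 * (M 2 0).val + 128 * (M 2 1).val + 256 * (M 2 2).val

theorem enc3_mat3 : ∀ k : Fin 512, enc3 (mat3 k) = k := by decide +kernel

theorem mats_check : allBelow 1008 (fun i =>
    Nat.beq (mul3 (getField 9 trioMats i) (getField 9 trioMatInvs i)) 273 &&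
    Nat.beq (mul3 (getField 9 trioMatInvs i) (getField 9 trioMats i)) 273 &&
    Nat.blt (getField 3 trioPerms i) 6) = true := by
  decide +kernel

theorem mats_spec (i : Fin 1008) :
    mat3 (getField 9 trioMats i) * mat3 (getField 9 trioMatInvs i) = 1 ∧
      mat3 (getField 9 trioMatInvs i) * mat3 (getField 9 trioMats i) = 1 ∧
        getField 3 trioPerms i < 6 := by
  have h := allBelow_eq_true.mp mats_check i i.2
  simp only [Bool.and_eq_true, Nat.beq_eq, Nat.blt_eq] at h
  exact ⟨by rw [← mat3_mul3, h.1.1, mat3_one], by rw [← mat3_mul3, h.1.2, mat3_one], h.2⟩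

/-- The image of a coset. -/
def label (i : Fin 1008) : GL (Fin 3) (ZMod 2) × Equiv.Perm (Fin 3) :=
  (⟨mat3 (getField 9 trioMats i), mat3 (getField 9 trioMatInvs i), (mats_spec i).1,
    (mats_spec i).2.1⟩, perm3 (getField 3 trioPerms i))

theorem label_one : getField 9 trioMats 0 = 273 ∧ getField 3 trioPerms 0 = 0 := by
  decide +kernel

theorem step_check : allBelow 2 (fun j => Nat.blt (succ j 0) 1008 && allBelow 1008 fun i =>
    Nat.beq (mul3 (getField 9 trioMats (succ j 0)) (getField 9 trioMats i))
      (getField 9 trioMats (succ j i)) &&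
    Nat.beq (compTable.getD (6 * getField 3 trioPerms (succ j 0) + getField 3 trioPerms i) 0)
      (getField 3 trioPerms (succ j i))) = true := by
  decide +kernel

theorem key_check : bitDistinctB ((List.range 1008).map fun i =>
    getField 9 trioMats i * 8 + getField 3 trioPerms i) = true := by
  decide +kernel

theorem quotient_equiv (hle : rep24.chainGroup trioNChain ≤ rep24.chainGroup cfgTrioChain)
    [((rep24.chainGroup trioNChain).subgroupOf (rep24.chainGroup cfgTrioChain)).Normal] :
    Nonempty ((↥(rep24.chainGroup cfgTrioChain) ⧸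
      (rep24.chainGroup trioNChain).subgroupOf (rep24.chainGroup cfgTrioChain)) ≃*
        GL (Fin 3) (ZMod 2) × Equiv.Perm (Fin 3)) := by
  have hj : ∀ j : Fin 2, succ j 0 < 1008 := fun j => by
    have h := allBelow_eq_true.mp step_check j j.2
    simp only [Bool.and_eq_true, Nat.blt_eq] at h
    exact h.1
  refine Rep.nonempty_quotient_equiv trioStab_spec.1 chain_check.1 table_check span_Trio hle
    table_size.1 table_size.2.1 (0 : Fin 1008) table_size.2.2 label
    (fun j => label ⟨succ j 0, hj j⟩) ?_ ?_ ?_ ?_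
  · refine Prod.ext (Units.ext ?_) ?_
    · change mat3 (getField 9 trioMats 0) = 1
      rw [label_one.1, mat3_one]
    · change perm3 (getField 3 trioPerms 0) = 1
      rw [label_one.2]; rfl
  · intro j i hk
    have h := allBelow_eq_true.mp step_check j j.2
    simp only [Bool.and_eq_true, Nat.blt_eq, allBelow_eq_true, Nat.beq_eq] at h
    obtain ⟨h1, h2⟩ := h.2 i i.2
    refine Prod.ext (Units.ext ?_) (Equiv.ext fun x => ?_)
    · exact (mat3_mul3 _ _).symm.trans (congrArg mat3 h1)
    · have h3 := compTable_spec ⟨_, (mats_spec ⟨succ j 0, hj j⟩).2.2⟩ ⟨_, (mats_spec i).2.2⟩ x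
      exact h3.symm.trans (by rw [h2]; rfl)
  · intro i i' h
    have hm : mat3 (getField 9 trioMats i) = mat3 (getField 9 trioMats i') :=
      congrArg (fun b : GL (Fin 3) (ZMod 2) × Equiv.Perm (Fin 3) =>
        (b.1 : Matrix (Fin 3) (Fin 3) (ZMod 2))) h
    have hm' := congrArg enc3 hm
    rw [enc3_mat3 ⟨_, getField_lt 9 _ _⟩, enc3_mat3 ⟨_, getField_lt 9 _ _⟩] at hm'
    have hp := perm3_injective ⟨_, (mats_spec i).2.2⟩ ⟨_, (mats_spec i').2.2⟩
      fun x => congrArg (fun b : GL (Fin 3) (ZMod 2) × Equiv.Perm (Fin 3) => b.2 x) h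
    have hp' : getField 3 trioPerms i = getField 3 trioPerms i' := congrArg Fin.val hp
    exact Fin.ext (List.inj_on_of_nodup_map (nodup_of_bitDistinctB key_check)
      (List.mem_range.mpr i.2) (List.mem_range.mpr i'.2) (by
        simp only at hm' ⊢
        rw [hm', hp']))
  · rw [Nat.card_prod, Matrix.card_GL_field, Nat.card_perm, Nat.card_eq_fintype_card (α := Fin 3),
      Fintype.card_fin, Fin.prod_univ_three]
    simp [Nat.factorial]

/-- Structure of a trio stabiliser: every permutation of the three octads is induced, and there is a normal subgroup of order 64 of elements squaring to the identity whose quotient is isomorphic to the product of GL(3, 2) with the symmetric group of degree 3. -/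
theorem result (T : Finset (Finset Cfsg.GolayPt)) (hT : T ∈ Cfsg.trios) : (∀ e : Equiv.Perm ↥T, ∃ g ∈ MulAction.stabilizer Cfsg.M24 T, ∀ o : ↥T, (g : Equiv.Perm Cfsg.GolayPt) • (o : Finset Cfsg.GolayPt) = ((e o : ↥T) : Finset Cfsg.GolayPt)) ∧ ∃ (N : Subgroup ↥(MulAction.stabilizer Cfsg.M24 T)) (_ : N.Normal), Nat.card N = 64 ∧ (∀ x ∈ N, x * x = 1) ∧ Nonempty (↥(MulAction.stabilizer Cfsg.M24 T) ⧸ N ≃* GL (Fin 3) (ZMod 2) × Equiv.Perm (Fin 3)) := by
  obtain ⟨g, hg, hgT⟩ := exists_move_trio hT
  have hc := conjTo_one hg hgT trioStab_spec.2.1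
  refine ⟨exists_perm_stab trioStab_spec.1 (goodFam_of_check cfgTrio_good) hc hgT swaps_check.1
    swaps_check.2, ?_⟩
  obtain ⟨hle, hN⟩ := Rep.normalB_spec trioStab_spec.1 chain_check.1 normal_check
  obtain ⟨e⟩ := hc.nonempty_mulEquiv
  obtain ⟨M, hM, hcard, hmem, ⟨e'⟩⟩ := exists_normal_of_equiv e _ hN
  obtain ⟨q⟩ := quotient_equiv hle
  refine ⟨M, hM, ?_, fun x hx => e.injective ?_, ⟨e'.trans q⟩⟩
  · rw [hcard, Nat.card_congr (Subgroup.subgroupOfEquivOfLe hle).toEquiv,
      Rep.card_chainGroup _ chain_check.1, chain_check.2.1]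
  · rw [map_mul, map_one]
    exact Subtype.ext (Rep.squareB_spec chain_check.1 chain_check.2.2 (hmem x hx))

end Cfsg.Agent.S1558
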