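import Cfsg.Statements.S1559
import Cfsg.Agent.Compute.MathieuMaximal

set_option autoImplicit false
open scoped Pointwise
open Cfsg

namespace Cfsg.Agent.S1559

/-- A trio stabiliser has five orbits on the 3795 trios, of sizes 1, 42, 56, 1008, 2688; and the stabiliser is a maximal proper subgroup. -/
theorem result (T : Finset (Finset Cfsg.GolayPt)) (hT : T ∈ Cfsg.trios) : ∃ X₁ ∈ Cfsg.trios, ∃ X₂ ∈ Cfsg.trios, ∃ X₃ ∈ Cfsg.trios, ∃ X₄ ∈ Cfsg.trios, (MulAction.orbit ↥(MulAction.stabilizer Cfsg.M24 T) X₁).ncard = 42 ∧ (MulAction.orbit ↥(MulAction.stabilizer Cfsg.M24 T) X₂).ncard = 56 ∧ (MulAction.orbit ↥(MulAction.stabilizer Cfsg.M24 T) X₃).ncard = 1008 ∧ (MulAction.orbit ↥(MulAction.stabilizer Cfsg.M24 T) X₄).ncard = 2688 ∧ Cfsg.trios = {T} ∪ MulAction.orbit ↥(MulAction.stabilizer Cfsg.M24 T) X₁ ∪ MulAction.orbit ↥(MulAction.stabilizer Cfsg.M24 T) X₂ ∪ MulAction.orbit ↥(MulAction.stabilizer Cfsg.M24 T) X₃ ∪ MulAction.orbit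 ↥(MulAction.stabilizer Cfsg.M24 T) X₄ ∧ IsCoatom (MulAction.stabilizer Cfsg.M24 T) := by
  obtain ⟨g, hg, hgx⟩ := Compute.exists_move_trio hT
  obtain ⟨a, b⟩ := Compute.subs_TrioTrio hg hgx
  refine ⟨_, (a Compute.cfgTrioTrioSub1 (by simp [Compute.cfgTrioTrioSubs])).1,
    _, (a Compute.cfgTrioTrioSub2 (by simp [Compute.cfgTrioTrioSubs])).1,
    _, (a Compute.cfgTrioTrioSub3 (by simp [Compute.cfgTrioTrioSubs])).1,
    _, (a Compute.cfgTrioTrioSub4 (by simp [Compute.cfgTrioTrioSubs])).1,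
    (a Compute.cfgTrioTrioSub1 (by simp [Compute.cfgTrioTrioSubs])).2.1,
    (a Compute.cfgTrioTrioSub2 (by simp [Compute.cfgTrioTrioSubs])).2.1,
    (a Compute.cfgTrioTrioSub3 (by simp [Compute.cfgTrioTrioSubs])).2.1,
    (a Compute.cfgTrioTrioSub4 (by simp [Compute.cfgTrioTrioSubs])).2.1, ?_, Compute.isCoatom_Trio hg hgx⟩
  refine Set.Subset.antisymm (fun X hX => ?_) ?_
  · obtain ⟨s, hs, hXs⟩ := b X hX
    simp only [Compute.cfgTrioTrioSubs, List.mem_cons, List.not_mem_nil, or_false] at hs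
    rcases hs with rfl | rfl | rfl | rfl | rfl
    · rw [Compute.orbit_first hgx (congrArg _ Compute.first_Trio)] at hXs
      simp only [Set.mem_union, hXs, true_or]
    · simp only [Set.mem_union, hXs, true_or, or_true]
    · simp only [Set.mem_union, hXs, true_or, or_true]
    · simp only [Set.mem_union, hXs, true_or, or_true]
    · simp only [Set.mem_union, hXs, true_or, or_true]
  · simp only [Set.union_subset_iff]
    exact ⟨⟨⟨⟨Set.singleton_subset_iff.mpr hT, (a Compute.cfgTrioTrioSub1 (by simp [Compute.cfgTrioTrioSubs])).2.2⟩,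
        (a Compute.cfgTrioTrioSub2 (by simp [Compute.cfgTrioTrioSubs])).2.2⟩,
        (a Compute.cfgTrioTrioSub3 (by simp [Compute.cfgTrioTrioSubs])).2.2⟩,
        (a Compute.cfgTrioTrioSub4 (by simp [Compute.cfgTrioTrioSubs])).2.2⟩

end Cfsg.Agent.S1559
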