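import Cfsg.Statements.S1560
import Cfsg.Agent.Compute.MathieuMoves

set_option autoImplicit false
open scoped Pointwise
open Cfsg

namespace Cfsg.Agent.S1560

/-- Intersection numbers of dodecads: a dodecad meets every other dodecad in 0, 4, 6 or 8 points, meeting 495 of them in 4 points, 1584 in 6 points and 495 in 8 points. -/
theorem result (d : Finset Cfsg.GolayPt) (hd : d ∈ Cfsg.dodecads) : (∀ d' ∈ Cfsg.dodecads, d' ≠ d → (d ∩ d').card = 0 ∨ (d ∩ d').card = 4 ∨ (d ∩ d').card = 6 ∨ (d ∩ d').card = 8) ∧ {d' : Finset Cfsg.GolayPt | d' ∈ Cfsg.dodecads ∧ (d ∩ d').card = 4}.ncard = 495 ∧ {d' : Finset Cfsg.GolayPt | d' ∈ Cfsg.dodecads ∧ (d ∩ d').card = 6}.ncard = 1584 ∧ {d' : Finset Cfsg.GolayPt | d' ∈ Cfsg.dodecads ∧ (d ∩ d').card = 8}.ncard = 495 := by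
  obtain ⟨g, hg, hgd⟩ := Compute.exists_move_dod hd
  have key : ∀ v : ℕ, {d' : Finset Cfsg.GolayPt | d' ∈ Cfsg.dodecads ∧ (d ∩ d').card = v}.ncard =
      {X : Finset Cfsg.GolayPt | X ∈ Cfsg.dodecads ∧ Compute.invDodDod X = v}.ncard := fun v =>
    Compute.ncard_setOf_smul g fun X => by
      unfold Compute.invDodDod
      rw [← hgd, Compute.card_inter_smul, Compute.smul_mem_dodecads_iff hg]
  refine ⟨?_, ?_, ?_, ?_⟩
  · intro d' hd' hne
    have hscan : Compute.cfgDodTree.codes.all (fun c => Compute.memB (Compute.cfgDodDodLab c) [12, 0, 4, 6, 8]) = true := by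
      decide +kernel
    have hm : g • d' ∈ Cfsg.dodecads := (Compute.smul_mem_dodecads_iff hg).mpr hd'
    rw [Compute.dods_eq_codes] at hm
    obtain ⟨c, hc, hcd⟩ := hm
    have hv := Compute.memB_eq_true.mp (List.all_eq_true.mp hscan c hc)
    have hval : Compute.cfgDodDodLab c = (d ∩ d').card := by
      rw [← Compute.card_inter_smul g, hgd, ← hcd]
      exact (Compute.invDodDod_dec c (Compute.tree_good_Dod c hc)).symm
    rw [hval] at hv
    simp only [List.mem_cons, List.not_mem_nil, or_false] at hv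
    rcases hv with hv | hv | hv | hv | hv
    · refine absurd ?_ hne
      have h1 : d ∩ d' = d := Finset.eq_of_subset_of_card_le Finset.inter_subset_left (by rw [hd.2, hv])
      have h2 : d ∩ d' = d' := Finset.eq_of_subset_of_card_le Finset.inter_subset_right (by rw [hd'.2, hv])
      exact h2.symm.trans h1
    all_goals simp [hv]
  all_goals rw [key]; refine Compute.partsDodDod.2 _ _ ?_; decide +kernel

end Cfsg.Agent.S1560
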