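import Cfsg.Statements.S1562
import Cfsg.Agent.Compute.MathieuExtra

set_option autoImplicit false
open scoped Pointwise
open Cfsg

namespace Cfsg.Agent.S1562

/-- Orbits of a triad stabiliser on the triads disjoint from it: the 210 triads inside a common octad with it form one orbit and the remaining 1120 another. -/
theorem result (T : Finset Cfsg.GolayPt) (hT : T.card = 3) : {U : Finset Cfsg.GolayPt | U.card = 3 ∧ Disjoint T U ∧ (∃ o ∈ Cfsg.octads, T ∪ U ⊆ o)}.ncard = 210 ∧ {U : Finset Cfsg.GolayPt | U.card = 3 ∧ Disjoint T U ∧ ¬ (∃ o ∈ Cfsg.octads, T ∪ U ⊆ o)}.ncard = 1120 ∧ ∀ U U' : Finset Cfsg.GolayPt, U.card = 3 → U'.card = 3 → Disjoint T U → Disjoint T U' → ((∃ o ∈ Cfsg.octads, T ∪ U ⊆ o) ↔ (∃ o ∈ Cfsg.octads, T ∪ U' ⊆ o)) → ∃ g : Equiv.Perm Cfsg.GolayPt, g ∈ Cfsg.M24 ∧ g • T = T ∧ g • U = U' := by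
  obtain ⟨g, hg, hgT⟩ := Compute.exists_move_triple hT
  have hinv : ∀ U : Finset Cfsg.GolayPt, Compute.invTripleTriple (g • U) =
      (T ∩ U).card + Compute.extOf (g • (T ∪ U)) 4 := by
    intro U
    unfold Compute.invTripleTriple
    rw [← hgT, Compute.card_inter_smul, Finset.smul_finset_union]
  have hpos : ∀ U, (∃ o ∈ Cfsg.octads, T ∪ U ⊆ o) → Compute.extOf (g • (T ∪ U)) 4 = 4 :=
    fun U h => Compute.extOf_pos 4 ((Compute.exists_subset_smul_iff hg _).mpr h)
  have hneg : ∀ U, ¬ (∃ o ∈ Cfsg.octads, T ∪ U ⊆ o) → Compute.extOf (g • (T ∪ U)) 4 = 0 :=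
    fun U h => Compute.extOf_neg 4 (mt (Compute.exists_subset_smul_iff hg _).mp h)
  refine ⟨?_, ?_, ?_⟩
  · rw [Compute.ncard_setOf_smul g
      (Q := fun X => X ∈ {s : Finset Cfsg.GolayPt | s.card = 3} ∧ Compute.invTripleTriple X = 4)
      fun U => ?_]
    · refine Compute.partsTripleTriple.2 _ _ ?_; decide +kernel
    · rw [hinv, Set.mem_ofPred_eq, Finset.card_smul_finset, Finset.disjoint_iff_inter_eq_empty,
        ← Finset.card_eq_zero]
      have hle : (T ∩ U).card ≤ 3 := le_of_le_of_eq (Finset.card_le_card Finset.inter_subset_left) hT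
      by_cases h : ∃ o ∈ Cfsg.octads, T ∪ U ⊆ o
      · rw [hpos U h]; simp [h]
      · rw [hneg U h]; simp [h]; omega
  · rw [Compute.ncard_setOf_smul g
      (Q := fun X => X ∈ {s : Finset Cfsg.GolayPt | s.card = 3} ∧ Compute.invTripleTriple X = 0)
      fun U => ?_]
    · refine Compute.partsTripleTriple.2 _ _ ?_; decide +kernel
    · rw [hinv, Set.mem_ofPred_eq, Finset.card_smul_finset, Finset.disjoint_iff_inter_eq_empty,
        ← Finset.card_eq_zero]
      by_cases h : ∃ o ∈ Cfsg.octads, T ∪ U ⊆ o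
      · rw [hpos U h]; simp [h]
      · rw [hneg U h]; simp [h]
  intro U U' hU hU' hTU hTU' hiff
  obtain ⟨u, hu, hX⟩ := Compute.partsTripleTriple.1 (g • U)
    (by rw [Set.mem_ofPred_eq, Finset.card_smul_finset, hU]) (g • U')
    (by rw [Set.mem_ofPred_eq, Finset.card_smul_finset, hU'])
    (by
      rw [hinv, hinv, Finset.disjoint_iff_inter_eq_empty.mp hTU,
        Finset.disjoint_iff_inter_eq_empty.mp hTU']
      by_cases h : ∃ o ∈ Cfsg.octads, T ∪ U ⊆ o
      · rw [hpos U h, hpos U' (hiff.mp h)]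
      · rw [hneg U h, hneg U' (mt hiff.mpr h)])
  obtain ⟨hm, hfix⟩ := Subgroup.mem_inf.mp ((SetLike.ext_iff.mp Compute.tripleStab_spec.2.1 u).mpr hu)
  exact ⟨_, Compute.conj_mem hg hm, Compute.fix_conj hgT hfix, Compute.map_conj hX⟩

end Cfsg.Agent.S1562
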