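import Cfsg.Statements.S1567
import Cfsg.Agent.Leech.Generators
import Cfsg.Agent.Leech.Punctured

set_option autoImplicit false
open Cfsg

namespace Cfsg.Agent.S1567

/-- The rank-24 lattice is the additive subgroup generated by its 196560 minimal vectors. -/
theorem result : AddSubgroup.closure {x : Cfsg.GolayPt → ℤ | x ∈ Cfsg.leechLattice ∧ Cfsg.sqNorm x = 32} = Cfsg.leechLattice := by
  refine le_antisymm ((AddSubgroup.closure_le _).2 fun x hx => hx.1) ?_
  refine Leech.lattice_le _ (AddSubgroup.subset_closure ⟨Leech.vecOdd_mem, ?_⟩) (fun i hi => ?_)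
    {w | w ∈ golayCode ∧ hammingNorm w = 8}
    (Leech.span_eight golayCode Leech.card_golayPt Leech.finrank_golayCode Leech.orth_golay Leech.min_golay).ge
    (fun c hc => hc.1) (fun c hc => ?_)
  · decide +kernel
  · constructor
    · refine AddSubgroup.subset_closure ⟨(Leech.pm_mem i).1, ?_⟩
      simp only [sqNorm, Fintype.sum_option, Pi.add_apply]
      obtain ⟨j, rfl⟩ := Option.ne_none_iff_exists'.1 hi
      rw [Finset.sum_eq_single j (fun b _ hb => by simp [hb]) (by simp)]
      simp
    · refine AddSubgroup.subset_closure ⟨(Leech.pm_mem i).2, ?_⟩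
      simp only [sqNorm, Fintype.sum_option, Pi.sub_apply]
      obtain ⟨j, rfl⟩ := Option.ne_none_iff_exists'.1 hi
      rw [Finset.sum_eq_single j (fun b _ hb => by simp [hb]) (by simp)]
      simp
  · refine AddSubgroup.subset_closure ⟨Leech.two_mul_word_mem hc.1, ?_⟩
    have h : ∀ a : ZMod 2, ((2 : ℤ) * (a.val : ℤ)) ^ 2 = 4 * (a.val : ℤ) := by decide
    simp only [sqNorm, Leech.valVec, h, ← Finset.mul_sum]
    rw [show (∑ i, ((c i).val : ℤ)) = ∑ i, Leech.valVec c i from rfl, Leech.sum_valVec, hc.2]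
    norm_num

end Cfsg.Agent.S1567
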