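import Cfsg.Statements.S1568
import Cfsg.Agent.Leech.Theta

set_option autoImplicit false
open Cfsg

namespace Cfsg.Agent.S1568

/-- Shape census of the lattice vectors of sum of squares 48 (customary norm 6): the four families (2^12, 0^12), (±3^3, ±1^21), (±4, ±2^8, 0^15) and (±5, ±1^23) have 5275648, 8290304, 3108864 and 98304 members. -/
theorem result : {x : Cfsg.GolayPt → ℤ | x ∈ Cfsg.leechLattice ∧ Cfsg.sqNorm x = 48 ∧ ∀ i, x i = 0 ∨ x i = 2 ∨ x i = -2}.ncard = 5275648 ∧ {x : Cfsg.GolayPt → ℤ | x ∈ Cfsg.leechLattice ∧ Cfsg.sqNorm x = 48 ∧ ∃ i j k, i ≠ j ∧ j ≠ k ∧ i ≠ k ∧ |x i| = 3 ∧ |x j| = 3 ∧ |x k| = 3}.ncard = 8290304 ∧ {x : Cfsg.GolayPt → ℤ | x ∈ Cfsg.leechLattice ∧ Cfsg.sqNorm x = 48 ∧ ∃ i, |x i| = 4}.ncard = 3108864 ∧ {x : Cfsg.GolayPt → ℤ | x ∈ Cfsg.leechLattice ∧ Cfsg.sqNorm x = 48 ∧ ∃ i, |x i| = 5}.ncard = 98304 := by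
  have hN : {x : Cfsg.GolayPt → ℤ | x ∈ Cfsg.leechLattice ∧ Cfsg.sqNorm x = 4 * ((12 : ℕ) : ℤ)} =
      Leech.evenSet 12 Leech.oddL Leech.evenL ∪ Leech.oddSet 3 Leech.oddK :=
    (Leech.norm_split 12 3 (by norm_num) (by norm_num) rfl).1
  obtain ⟨hE, hEf⟩ := Leech.ncard_even 12
  obtain ⟨hO, hOf⟩ := Leech.ncard_oddSet 3 Leech.oddK (by decide)
  obtain ⟨hE1, hE1f⟩ := Leech.ncard_evenSet 12 [-1, 1] [0] (by decide) (by decide) (by decide) (by decide)
  obtain ⟨hO1, hO1f⟩ := Leech.ncard_oddSet 3 [-1, 0] (by decide)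
  have hcases : ∀ x, x ∈ Cfsg.leechLattice → Cfsg.sqNorm x = 48 →
      x ∈ Leech.evenSet 12 Leech.oddL Leech.evenL ∨ x ∈ Leech.oddSet 3 Leech.oddK := fun x h1 h2 => by
    have : x ∈ {x : Cfsg.GolayPt → ℤ | x ∈ Cfsg.leechLattice ∧ Cfsg.sqNorm x = 4 * ((12 : ℕ) : ℤ)} :=
      ⟨h1, by rw [h2]; norm_num⟩
    rwa [hN] at this
  have hsub1 : Leech.evenSet 12 [-1, 1] [0] ⊆ Leech.evenSet 12 Leech.oddL Leech.evenL := by
    rintro x ⟨h1, h2, h3⟩
    refine ⟨h1, h2, fun i => ?_⟩
    obtain ⟨a, ha, hxa⟩ := h3 i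
    refine ⟨a, ?_, hxa⟩
    simp only [List.mem_cons, List.not_mem_nil, or_false] at ha
    rcases ha with (rfl | rfl) | rfl <;> simp [Leech.oddL, Leech.evenL]
  have hsub2 : Leech.oddSet 3 [-1, 0] ⊆ Leech.oddSet 3 Leech.oddK := by
    rintro x ⟨h1, h2, h3⟩
    refine ⟨h1, h2, fun i => ?_⟩
    obtain ⟨k, hk, hxk⟩ := h3 i
    refine ⟨k, ?_, hxk⟩
    simp only [List.mem_cons, List.not_mem_nil, or_false] at hk
    rcases hk with rfl | rfl <;> simp [Leech.oddK]
  have e1 : {x : Cfsg.GolayPt → ℤ | x ∈ Cfsg.leechLattice ∧ Cfsg.sqNorm x = 48 ∧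
      ∀ i, x i = 0 ∨ x i = 2 ∨ x i = -2} = Leech.evenSet 12 [-1, 1] [0] := by
    ext x
    constructor
    · rintro ⟨h1, h2, h3⟩
      refine ⟨h1, by rw [h2]; norm_num, fun i => ?_⟩
      rcases h3 i with h | h | h
      · exact ⟨0, by simp, by simp [h]⟩
      · exact ⟨1, by simp, by simp [h]⟩
      · exact ⟨-1, by simp, by simp [h]⟩
    · rintro ⟨h1, h2, h3⟩
      refine ⟨h1, by rw [h2]; norm_num, fun i => ?_⟩
      obtain ⟨a, ha, hxa⟩ := h3 i
      simp only [List.mem_cons, List.not_mem_nil, or_false] at ha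
      rcases ha with (rfl | rfl) | rfl <;> simp [hxa]
  have hodd : ∀ x ∈ Leech.oddSet 3 Leech.oddK, ∀ i, |x i| = 1 ∨ |x i| = 3 ∨ |x i| = 5 := by
    rintro x ⟨-, -, h3⟩ i
    obtain ⟨k, hk, hxk⟩ := h3 i
    simp only [Leech.oddK, List.mem_cons, List.not_mem_nil, or_false] at hk
    rcases hk with rfl | rfl | rfl <;> rcases hxk with h | h <;> simp [h]
  have heven : ∀ x ∈ Leech.evenSet 12 Leech.oddL Leech.evenL, ∀ i, (2 : ℤ) ∣ x i := by
    rintro x ⟨-, -, h3⟩ i
    obtain ⟨a, -, hxa⟩ := h3 i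
    exact ⟨a, hxa⟩
  have habs : ∀ (x : Cfsg.GolayPt → ℤ) i, x i ^ 2 = |x i| ^ 2 := fun x i => (sq_abs _).symm
  -- the sum of three squares is bounded by the norm
  have e2 : {x : Cfsg.GolayPt → ℤ | x ∈ Cfsg.leechLattice ∧ Cfsg.sqNorm x = 48 ∧
      ∃ i j k, i ≠ j ∧ j ≠ k ∧ i ≠ k ∧ |x i| = 3 ∧ |x j| = 3 ∧ |x k| = 3} =
      Leech.oddSet 3 [-1, 0] := by
    ext x
    constructor
    · rintro ⟨h1, h2, i, j, k, hij, hjk, hik, hi, hj, hk⟩
      rcases hcases x h1 h2 with h | h
      · exfalso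
        have h3 : |x i| = 3 := hi
        obtain ⟨a, ha⟩ := heven x h i
        rcases abs_eq (by norm_num : (0 : ℤ) ≤ 3) |>.1 h3 with h4 | h4 <;> omega
      · obtain ⟨-, hn, h3⟩ := h
        refine ⟨h1, hn, fun l => ?_⟩
        obtain ⟨q, hq, hxq⟩ := h3 l
        refine ⟨q, ?_, hxq⟩
        simp only [Leech.oddK, List.mem_cons, List.not_mem_nil, or_false] at hq
        rcases hq with rfl | rfl | rfl
        · simp
        · simp
        exfalso
        have hl5 : x l ^ 2 = 25 := by rcases hxq with h | h <;> rw [h] <;> norm_num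
        have hl : l ≠ i ∧ l ≠ j ∧ l ≠ k := by
          refine ⟨?_, ?_, ?_⟩ <;> rintro rfl
          · rw [habs, hi] at hl5; norm_num at hl5
          · rw [habs, hj] at hl5; norm_num at hl5
          · rw [habs, hk] at hl5; norm_num at hl5
        have hle := Finset.sum_le_sum_of_subset_of_nonneg (f := fun q => x q ^ 2)
          (Finset.subset_univ ({l, i, j, k} : Finset Cfsg.GolayPt)) (fun q _ _ => sq_nonneg _)
        rw [Finset.sum_insert (by simp [hl.1, hl.2.1, hl.2.2]),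
          Finset.sum_insert (by simp [hij, hik]), Finset.sum_pair hjk] at hle
        simp only [hl5, habs x i, habs x j, habs x k, hi, hj, hk] at hle
        change _ ≤ Cfsg.sqNorm x at hle
        rw [h2] at hle
        norm_num at hle
    · intro hx
      have hx' := hsub2 hx
      obtain ⟨h1, h2, h3⟩ := hx
      refine ⟨h1, by rw [h2]; norm_num, ?_⟩
      have h13 : ∀ i, x i ^ 2 = 1 ∨ x i ^ 2 = 9 := fun i => by
        obtain ⟨q, hq, hxq⟩ := h3 i
        simp only [List.mem_cons, List.not_mem_nil, or_false] at hq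
        rcases hq with rfl | rfl <;> rcases hxq with h | h <;> simp [h]
      set F : Finset Cfsg.GolayPt := Finset.univ.filter fun i => x i ^ 2 = 9 with hF
      have hcard : F.card = 3 := by
        have hsum : Cfsg.sqNorm x = ∑ i, ((1 : ℤ) + 8 * if x i ^ 2 = 9 then 1 else 0) :=
          Finset.sum_congr rfl fun i _ => by rcases h13 i with h | h <;> simp [h]
        rw [h2, Finset.sum_add_distrib, Leech.sum_golayPt_const, ← Finset.mul_sum,
          ← Finset.natCast_card_filter] at hsum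
        rw [← hF] at hsum
        omega
      obtain ⟨i, j, k, hij, hik, hjk, hFe⟩ := Finset.card_eq_three.1 hcard
      have h9 : ∀ q ∈ F, |x q| = 3 := fun q hq => by
        have h := (Finset.mem_filter.1 hq).2
        rw [habs] at h
        have : (|x q| - 3) * (|x q| + 3) = 0 := by linear_combination h
        rcases mul_eq_zero.1 this with e | e
        · omega
        · have := abs_nonneg (x q); omega
      exact ⟨i, j, k, hij, hjk, hik, h9 i (by simp [hFe]), h9 j (by simp [hFe]), h9 k (by simp [hFe])⟩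
  have e3 : {x : Cfsg.GolayPt → ℤ | x ∈ Cfsg.leechLattice ∧ Cfsg.sqNorm x = 48 ∧ ∃ i, |x i| = 4} =
      Leech.evenSet 12 Leech.oddL Leech.evenL \ Leech.evenSet 12 [-1, 1] [0] := by
    ext x
    constructor
    · rintro ⟨h1, h2, i, hi⟩
      refine ⟨(hcases x h1 h2).resolve_right fun h => ?_, fun h => ?_⟩
      · rcases hodd x h i with e | e | e <;> omega
      · rw [← e1] at h
        rcases h.2.2 i with e | e | e <;> rw [e] at hi <;> norm_num at hi
    · rintro ⟨hx, hnx⟩
      have hx' := hx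
      obtain ⟨h1, h2, h3⟩ := hx
      refine ⟨h1, by rw [h2]; norm_num, ?_⟩
      choose y hy hxy using h3
      obtain ⟨hc, -⟩ := Leech.even_props (v := ⟨x, h1⟩) hxy
      by_contra! hno
      refine hnx ⟨h1, h2, fun i => ⟨y i, ?_, hxy i⟩⟩
      have h12 : ∑ q, y q ^ 2 = 12 := by
        have : Cfsg.sqNorm x = 4 * ∑ q, y q ^ 2 := by
          rw [Cfsg.sqNorm, Finset.mul_sum]
          exact Finset.sum_congr rfl fun q _ => by rw [hxy q]; ring
        omega
      have hb : y i ^ 2 ≤ 12 := h12 ▸ Leech.sq_le_sum y i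
      have hne : y i ≠ 2 ∧ y i ≠ -2 := by
        refine ⟨fun e => hno i ?_, fun e => hno i ?_⟩ <;> rw [hxy i, e] <;> norm_num
      have h33 : y i ≠ 3 ∧ y i ≠ -3 := by
        have key : y i ^ 2 = 9 → False := fun e => by
          have hi : i ∈ Cfsg.support₂ (Leech.red2 y) := by
            rw [Leech.support₂_red2']
            intro hd
            obtain ⟨a, ha⟩ := hd
            rw [ha, mul_pow] at e
            omega
          have h8 := Leech.eight_le_weight hc (fun h => by rw [h] at hi; simp [Cfsg.support₂] at hi)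
          rw [Leech.hammingNorm_eq_card] at h8
          have hs := Finset.add_sum_erase _ (fun q => y q ^ 2) hi
          have hr : (((Cfsg.support₂ (Leech.red2 y)).erase i).card : ℤ) ≤
              ∑ q ∈ (Cfsg.support₂ (Leech.red2 y)).erase i, y q ^ 2 := by
            have := Finset.sum_le_sum (s := (Cfsg.support₂ (Leech.red2 y)).erase i)
              fun q hq => (Leech.odd_sq_bound ((Leech.support₂_red2' y q).1 (Finset.mem_of_mem_erase hq))).1
            simpa using this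
          rw [Finset.card_erase_of_mem hi] at hr
          have hle : ∑ q ∈ Cfsg.support₂ (Leech.red2 y), y q ^ 2 ≤ ∑ q, y q ^ 2 :=
            Finset.sum_le_sum_of_subset_of_nonneg (Finset.subset_univ _) fun q _ _ => sq_nonneg _
          omega
        exact ⟨fun e => key (by rw [e]; norm_num), fun e => key (by rw [e]; norm_num)⟩
      have hy4 : -3 ≤ y i ∧ y i ≤ 3 := by constructor <;> nlinarith
      have : y i = -1 ∨ y i = 0 ∨ y i = 1 := by omega
      rcases this with e | e | e <;> simp [e]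
  have e4 : {x : Cfsg.GolayPt → ℤ | x ∈ Cfsg.leechLattice ∧ Cfsg.sqNorm x = 48 ∧ ∃ i, |x i| = 5} =
      Leech.oddSet 3 Leech.oddK \ Leech.oddSet 3 [-1, 0] := by
    ext x
    constructor
    · rintro ⟨h1, h2, i, hi⟩
      refine ⟨(hcases x h1 h2).resolve_left fun h => ?_, fun h => ?_⟩
      · have := heven x h i
        rcases abs_eq (by norm_num : (0 : ℤ) ≤ 5) |>.1 hi with e | e <;> omega
      · obtain ⟨k, hk, hxk⟩ := h.2.2 i
        simp only [List.mem_cons, List.not_mem_nil, or_false] at hk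
        rcases hk with rfl | rfl <;> rcases hxk with e | e <;> rw [e] at hi <;> norm_num at hi
    · rintro ⟨⟨h1, h2, h3⟩, hnx⟩
      refine ⟨h1, by rw [h2]; norm_num, ?_⟩
      by_contra! hno
      refine hnx ⟨h1, h2, fun i => ?_⟩
      obtain ⟨k, hk, hxk⟩ := h3 i
      refine ⟨k, ?_, hxk⟩
      simp only [Leech.oddK, List.mem_cons, List.not_mem_nil, or_false] at hk
      rcases hk with rfl | rfl | rfl
      · simp
      · simp
      · refine absurd ?_ (hno i)
        rcases hxk with e | e <;> simp [e]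
  rw [e1, e2, e3, e4, Set.ncard_sdiff hsub1 hE1f, Set.ncard_sdiff hsub2 hO1f, hE, hO, hE1, hO1]
  decide +kernel

end Cfsg.Agent.S1568
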