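import Cfsg.Statements.S1569
import Cfsg.Agent.Leech.Cross

set_option autoImplicit false
open scoped Pointwise
open Cfsg

namespace Cfsg.Agent.S1569

/-- The cross through a lattice vector of customary norm 8 has exactly 48 members. -/
theorem result (x : Cfsg.GolayPt → ℤ) (hx : x ∈ Cfsg.leechLattice) (hxn : Cfsg.sqNorm x = 64) : (Cfsg.cross x).ncard = 48 := by
  obtain ⟨g, hg⟩ := Leech.cross_eq_image ⟨x, hx⟩ hxn
  rw [show Cfsg.cross x = _ from hg, Set.ncard_image_of_injective _ Subtype.val_injective]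
  rw [← Leech.ncard_stdCross]
  refine Set.ncard_congr (fun w _ => ((g • w : ↥Cfsg.leechLattice) : Cfsg.GolayPt → ℤ))
    (fun w hw => hw) (fun a b _ _ h => MulAction.injective g (Subtype.ext h)) (fun y hy => ?_)
  refine ⟨g⁻¹ • ⟨y, (Leech.stdCross_mem hy).1⟩, ?_, ?_⟩
  · show ((g • g⁻¹ • _ : ↥Cfsg.leechLattice) : Cfsg.GolayPt → ℤ) ∈ Cfsg.stdCross
    rw [smul_inv_smul]; exact hy
  · rw [smul_inv_smul]

end Cfsg.Agent.S1569
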