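import Cfsg.Statements.S1577
import Cfsg.Agent.Leech.UnitModelU62
import Cfsg.Agent.Leech.UnitaryIso
import Cfsg.Agent.Leech.UnitaryStab
import Cfsg.Agent.Leech.Co2
-- import your own Cfsg.Agent.* helpers here

set_option autoImplicit false
open Cfsg

namespace Cfsg.Agent.S1577

/-- The joint stabiliser of two minimal vectors of customary inner product −2 is isomorphic to PSU(6, 2). -/
theorem result (v w : ↥Cfsg.leechLattice) (hv : Cfsg.sqNorm (v : Cfsg.GolayPt → ℤ) = 32) (hw : Cfsg.sqNorm (w : Cfsg.GolayPt → ℤ) = 32) (hd : Cfsg.dotInt (v : Cfsg.GolayPt → ℤ) (w : Cfsg.GolayPt → ℤ) = -16) (F : Type) [Field F] [Fintype F] (hF : Fintype.card F = 4) : Nonempty (↥(MulAction.stabilizer ↥Cfsg.Co0 v ⊓ MulAction.stabilizer ↥Cfsg.Co0 w) ≃* Cfsg.PSU 6 F 2) := by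
  classical
  have hU : sqNorm Spor.vecU = 32 := by decide +kernel
  have hW : sqNorm (Leech.u62W : GolayPt → ℤ) = 32 := by decide +kernel
  have hUW : dotInt Spor.vecU (Leech.u62W : GolayPt → ℤ) = -16 := by decide +kernel
  obtain ⟨g, g1, g2⟩ := Leech.trans_pairs' v w Spor.leechU Leech.u62W hv hw hU hW (-16) (Or.inl rfl) hd hUW
  obtain ⟨e0⟩ := Leech.stab_pair_iso g v w
  rw [g1, g2] at e0
  set X := {y : ↥leechLattice | y ∈ Leech.layer 32 ∧ dotInt Spor.vecU (y : GolayPt → ℤ) = -16} with hX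
  have hXcard : X.ncard = 4600 := by
    rw [← Leech.ncard_pairSum32.1,
      ← Leech.ncard_layer_dot Spor.leechU hU 8 (-16) (-4) (by norm_num)]
    rfl
  have horb : MulAction.orbit ↥Leech.stabU Leech.u62W = X := by
    ext y
    constructor
    · rintro ⟨⟨k, hk⟩, rfl⟩
      refine ⟨?_, ?_⟩
      · show sqNorm ((k • Leech.u62W : ↥leechLattice) : GolayPt → ℤ) = 32
        rw [Leech.sqNorm_smul]; exact hW
      · have := Leech.dotInt_smul k Spor.leechU Leech.u62W
        rw [show k • Spor.leechU = Spor.leechU from hk] at this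
        exact this.trans hUW
    · rintro ⟨a, b⟩
      obtain ⟨k, k1, k2⟩ := Leech.trans_pairs' Spor.leechU Leech.u62W Spor.leechU y hU hW hU a
        (-16) (Or.inl rfl) hUW b
      exact ⟨⟨k, k1⟩, k2⟩
  have hcardA : Nat.card ↥Leech.u62Group = 9196830720 := by
    have h1 := Leech.card_orbit_stab Leech.stabU Leech.u62W
    rw [Leech.stabU_transitive_facts, horb, hXcard] at h1
    have : Nat.card ↥Leech.u62Group =
        Nat.card ↥(Leech.stabU ⊓ MulAction.stabilizer ↥Co0 Leech.u62W) := rfl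
    omega
  obtain ⟨⟨e1⟩, hG⟩ := Leech.u62_lattice hcardA.le
  have := Leech.Model.charP_of_card (F := F) 2 Nat.prime_two (by rw [hF]; norm_num)
  have : CharP F Leech.u62UData.K.p := this
  obtain ⟨r, hr⟩ := Leech.Model.exists_root_4 hF
  have hP : Nat.card (PSU 6 F 2) = 9196830720 := by
    have := Leech.Model.card_PSU_mul (F := F) (q := 2) (n := 6) (by rw [hF]; norm_num) (by norm_num)
    simp only [Finset.prod_range_succ, Finset.prod_range_zero] at this
    rw [show Nat.gcd 6 (2 + 1) = 3 from rfl] at this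
    norm_num [Nat.even_iff, -Nat.card_eq_fintype_card] at this
    omega
  obtain ⟨e2⟩ := Leech.Model.unitary_iso (F := F) Leech.u62UData _ Leech.u62_uCheck r hr
    (by rw [hF]; rfl) (show 2 ≤ 6 by norm_num) (hP.le.trans Leech.u62_card)
  exact ⟨e0.trans (e1.trans e2.symm)⟩

end Cfsg.Agent.S1577
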