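import Cfsg.Statements.S1582
import Cfsg.Agent.Leech.UnitModelU43
import Cfsg.Agent.Leech.UnitaryIso
import Cfsg.Agent.Leech.UnitaryStab
import Cfsg.Agent.S0404
-- import your own Cfsg.Agent.* helpers here

set_option autoImplicit false
open Cfsg

namespace Cfsg.Agent.S1582

/-- The point stabiliser in the rank-3 action of the McLaughlin group on 275 points is isomorphic to PSU(4, 3). -/
theorem result (u v x : ↥Cfsg.leechLattice) (hu : Cfsg.sqNorm (u : Cfsg.GolayPt → ℤ) = 48) (hv : Cfsg.sqNorm (v : Cfsg.GolayPt → ℤ) = 32 ∧ Cfsg.sqNorm ((u - v) : Cfsg.GolayPt → ℤ) = 32) (hx : x ∈ {x : ↥Cfsg.leechLattice | Cfsg.sqNorm (x : Cfsg.GolayPt → ℤ) = 32 ∧ Cfsg.sqNorm ((u - x) : Cfsg.GolayPt → ℤ) = 32 ∧ Cfsg.dotInt (v : Cfsg.GolayPt → ℤ) (x : Cfsg.GolayPt → ℤ) = 16}) (F : Type) [Field F] [Fintype F] (hF : Fintype.card F = 9) : Nonempty (↥(MulAction.stabilizer ↥Cfsg.Co0 u ⊓ MulAction.stabilizer ↥Cfsg.Co0 v ⊓ MulAction.stabilizer ↥Cfsg.Co0 x) ≃* Cfsg.PSU 4 F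 3) := by
  classical
  obtain ⟨g, g1, g2, g3⟩ := Leech.normal_triple u v x hu hv.1 hx.1
    ((Leech.sq_sub_iff u v hu hv.1).1 hv.2) ((Leech.sq_sub_iff u x hu hx.1).1 hx.2.1) hx.2.2
  have g1' : g • u = Spor.leechV := Subtype.ext g1
  obtain ⟨e0⟩ := Leech.stab_triple_iso g u v x
  rw [g1', g2, g3] at e0
  set A := MulAction.stabilizer ↥Co0 Spor.leechV ⊓ MulAction.stabilizer ↥Co0 (-Spor.leechU)
  have hpair : Nat.card ↥A = 898128000 := by
    have hset : A = MulAction.stabilizer ↥Co0 (-Spor.leechU) ⊓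
        MulAction.stabilizer ↥Co0 (Spor.leechV + Spor.leechU) := by
      ext h
      simp only [A, Subgroup.mem_inf, MulAction.mem_stabilizer_iff, Leech.smul_add', Leech.smul_neg',
        neg_inj]
      constructor
      · rintro ⟨a, b⟩; exact ⟨b, by rw [a, b]⟩
      · rintro ⟨a, b⟩; exact ⟨by rwa [a, add_left_inj] at b, a⟩
    rw [hset]
    exact (S0404.result _ _ (by decide +kernel) (by decide +kernel) (by decide +kernel)).2
  have horb : MulAction.orbit ↥A (-Leech.tripX) = Leech.qX := by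
    have hU : sqNorm ((Spor.leechV : ↥leechLattice) : GolayPt → ℤ) = 48 := by decide +kernel
    have hW : sqNorm ((-Spor.leechU : ↥leechLattice) : GolayPt → ℤ) = 32 := by decide +kernel
    have hd : dotInt ((Spor.leechV : ↥leechLattice) : GolayPt → ℤ)
        ((-Spor.leechU : ↥leechLattice) : GolayPt → ℤ) = 24 := by decide +kernel
    ext y
    constructor
    · rintro ⟨⟨k, hk⟩, rfl⟩
      simp only [A, Subgroup.mem_inf, MulAction.mem_stabilizer_iff] at hk
      obtain ⟨m1, m2, m3⟩ := Leech.qreps_mem.2.2.1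
      refine ⟨?_, ?_, ?_⟩
      · show sqNorm ((k • (-Leech.tripX) : ↥leechLattice) : GolayPt → ℤ) = 32
        rw [Leech.sqNorm_smul]; exact m1
      · have := Leech.dotInt_smul k Spor.leechV (-Leech.tripX)
        rw [hk.1] at this; exact this.trans m2
      · have := Leech.dotInt_smul k (-Spor.leechU) (-Leech.tripX)
        rw [hk.2] at this; exact this.trans m3
    · rintro ⟨a, b, c⟩
      obtain ⟨k, k1, k2, k3⟩ := Leech.normal_triple Spor.leechV (-Spor.leechU) y hU hW a hd b c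
      have hk : k ∈ A := ⟨Subtype.ext k1, k2⟩
      exact ⟨⟨k⁻¹, inv_mem hk⟩, by show k⁻¹ • (-Leech.tripX) = y; rw [← k3, inv_smul_smul]⟩
  have hcardA : Nat.card ↥Leech.u43Group = 3265920 := by
    have h1 := Leech.card_orbit_stab A (-Leech.tripX)
    rw [hpair, horb, Leech.ncard_qX] at h1
    have : Nat.card ↥Leech.u43Group =
        Nat.card ↥(A ⊓ MulAction.stabilizer ↥Co0 (-Leech.tripX)) := rfl
    omega
  obtain ⟨⟨e1⟩, hG⟩ := Leech.u43_lattice hcardA.le
  have := Leech.Model.charP_of_card (F := F) 3 (by norm_num) (by rw [hF]; norm_num)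
  have : CharP F Leech.u43UData.K.p := this
  obtain ⟨r, hr⟩ := Leech.Model.exists_root_9 hF
  have hP : Nat.card (PSU 4 F 3) = 3265920 := by
    have := Leech.Model.card_PSU_mul (F := F) (q := 3) (n := 4) (by rw [hF]; norm_num) (by norm_num)
    simp only [Finset.prod_range_succ, Finset.prod_range_zero] at this
    rw [show Nat.gcd 4 (3 + 1) = 4 from rfl] at this
    norm_num [Nat.even_iff, -Nat.card_eq_fintype_card] at this
    omega
  obtain ⟨e2⟩ := Leech.Model.unitary_iso (F := F) Leech.u43UData _ Leech.u43_uCheck r hr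
    (by rw [hF]; rfl) (show 2 ≤ 4 by norm_num) (hP.le.trans Leech.u43_card)
  exact ⟨e0.trans (e1.trans e2.symm)⟩

end Cfsg.Agent.S1582
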