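import Cfsg.Statements.S1584
import Cfsg.Agent.Leech.Hundred

set_option autoImplicit false
open Cfsg

namespace Cfsg.Agent.S1584

/-- The Higman–Sims group acts with rank 3 and subdegrees 1, 22, 77 on its 100 points, the orbits of a point stabiliser being distinguished by customary inner product 1 with the fixed point. -/
theorem result (v w x : ↥Cfsg.leechLattice) (hv : Cfsg.sqNorm (v : Cfsg.GolayPt → ℤ) = 48) (hw : Cfsg.sqNorm (w : Cfsg.GolayPt → ℤ) = 48) (hvw : Cfsg.dotInt (v : Cfsg.GolayPt → ℤ) (w : Cfsg.GolayPt → ℤ) = -32) (hx : x ∈ {x : ↥Cfsg.leechLattice | Cfsg.sqNorm (x : Cfsg.GolayPt → ℤ) = 32 ∧ Cfsg.dotInt (v : Cfsg.GolayPt → ℤ) (x : Cfsg.GolayPt → ℤ) = 24 ∧ Cfsg.dotInt (w : Cfsg.GolayPt → ℤ) (x : Cfsg.GolayPt → ℤ) = -24}) : {y : ↥Cfsg.leechLattice | y ∈ {x : ↥Cfsg.leechLattice | Cfsg.sqNorm (x : Cfsg.GolayPt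 → ℤ) = 32 ∧ Cfsg.dotInt (v : Cfsg.GolayPt → ℤ) (x : Cfsg.GolayPt → ℤ) = 24 ∧ Cfsg.dotInt (w : Cfsg.GolayPt → ℤ) (x : Cfsg.GolayPt → ℤ) = -24} ∧ Cfsg.dotInt (x : Cfsg.GolayPt → ℤ) (y : Cfsg.GolayPt → ℤ) = 8}.ncard = 22 ∧ {y : ↥Cfsg.leechLattice | y ∈ {x : ↥Cfsg.leechLattice | Cfsg.sqNorm (x : Cfsg.GolayPt → ℤ) = 32 ∧ Cfsg.dotInt (v : Cfsg.GolayPt → ℤ) (x : Cfsg.GolayPt → ℤ) = 24 ∧ Cfsg.dotInt (w : Cfsg.GolayPt → ℤ) (x : Cfsg.GolayPt → ℤ) = -24} ∧ y ≠ x ∧ Cfsg.dotInt (x : Cfsg.GolayPt → ℤ) (y : Cfsg.GolayPt → ℤ) ≠ 8}.ncard = 77 ∧ ∀ y ∈ {x : ↥Cfsg.leechLattice | Cfsg.sqNorm (x : Cfsg.GolayPt → ℤ) = 32 ∧ Cfsg.dotInt (v : Cfsg.GolayPt → ℤ) (x : Cfsg.GolayPt → ℤ) = 24 ∧ Cfsg.dotInt (w : Cfsg.GolayPt → ℤ) (x : Cfsg.GolayPt → ℤ) = -24}, ∀ y' ∈ {x : ↥Cfsg.leechLattice | Cfsg.sqNorm (x : Cfsg.GolayPt → ℤ) = 32 ∧ Cfsg.dotInt (v :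 Cfsg.GolayPt → ℤ) (x : Cfsg.GolayPt → ℤ) = 24 ∧ Cfsg.dotInt (w : Cfsg.GolayPt → ℤ) (x : Cfsg.GolayPt → ℤ) = -24}, y ≠ x → y' ≠ x → (Cfsg.dotInt (x : Cfsg.GolayPt → ℤ) (y : Cfsg.GolayPt → ℤ) = 8 ↔ Cfsg.dotInt (x : Cfsg.GolayPt → ℤ) (y' : Cfsg.GolayPt → ℤ) = 8) → ∃ g : ↥Cfsg.Co0, g • v = v ∧ g • w = w ∧ g • x = x ∧ g • y = y' := by
  obtain ⟨g, gx, gmem, gfix⟩ := Cfsg.Agent.Leech.rank_three v w x hv hw hvw hx
  have hd : ∀ y : ↥Cfsg.leechLattice, Cfsg.dotInt Cfsg.Spor.vecU ((g • y : ↥Cfsg.leechLattice) : Cfsg.GolayPt → ℤ) = Cfsg.dotInt (x : Cfsg.GolayPt → ℤ) (y : Cfsg.GolayPt → ℤ) := fun y => by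
    rw [← Cfsg.Agent.Leech.dotInt_smul g x y, gx]; rfl
  have hU : Cfsg.dotInt Cfsg.Spor.vecU Cfsg.Spor.vecU = 32 := by decide +kernel
  have key : ∀ z ∈ Cfsg.Agent.Leech.hX, (Cfsg.dotInt Cfsg.Spor.vecU (z : Cfsg.GolayPt → ℤ) = 8 ↔ z ∈ Cfsg.Agent.Leech.hX22) ∧
      (z ≠ Cfsg.Spor.leechU ∧ Cfsg.dotInt Cfsg.Spor.vecU (z : Cfsg.GolayPt → ℤ) ≠ 8 ↔ z ∈ Cfsg.Agent.Leech.hX77) := by
    intro z hz
    rw [Cfsg.Agent.Leech.hX_eq] at hz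
    obtain ⟨e22, e77⟩ := Cfsg.Agent.Leech.hX_facts z
    rcases hz with h | h | h
    · rw [Set.mem_singleton_iff] at h
      subst h
      have e : Cfsg.dotInt Cfsg.Spor.vecU ((Cfsg.Spor.leechU : ↥Cfsg.leechLattice) : Cfsg.GolayPt → ℤ) = 32 := hU
      refine ⟨⟨fun a => by omega, fun a => by have := e22 a; omega⟩, ⟨fun a => absurd rfl a.1, fun a => by have := e77 a; omega⟩⟩
    · refine ⟨⟨fun _ => h, fun _ => e22 h⟩, ⟨fun a => absurd (e22 h) a.2, fun a => by have := e22 h; have := e77 a; omega⟩⟩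
    · refine ⟨⟨fun a => by have := e77 h; omega, fun a => by have := e22 a; have := e77 h; omega⟩, ⟨fun _ => h, fun _ => ⟨fun a => ?_, by have := e77 h; omega⟩⟩⟩
      have := e77 h
      subst a
      exact absurd (hU.symm.trans this) (by norm_num)
  have sub22 : Cfsg.Agent.Leech.hX22 ⊆ Cfsg.Agent.Leech.hX := fun z h => by rw [Cfsg.Agent.Leech.hX_eq]; exact Or.inr (Or.inl h)
  have sub77 : Cfsg.Agent.Leech.hX77 ⊆ Cfsg.Agent.Leech.hX := fun z h => by rw [Cfsg.Agent.Leech.hX_eq]; exact Or.inr (Or.inr h)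
  refine ⟨?_, ?_, ?_⟩
  · refine (Cfsg.Agent.Leech.ncard_move g _ (· ∈ Cfsg.Agent.Leech.hX22) fun y => ⟨fun h => ?_, fun h => ?_⟩).trans
      Cfsg.Agent.Leech.ncard_hX22
    · exact (key _ ((gmem y).1 h.1)).1.1 ((hd y).trans h.2)
    · exact ⟨(gmem y).2 (sub22 h), (hd y).symm.trans ((key _ (sub22 h)).1.2 h)⟩
  · refine (Cfsg.Agent.Leech.ncard_move g _ (· ∈ Cfsg.Agent.Leech.hX77) fun y => ⟨fun h => ?_, fun h => ?_⟩).trans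
      Cfsg.Agent.Leech.ncard_hX77
    · refine (key _ ((gmem y).1 h.1)).2.1 ⟨fun e => h.2.1 (MulAction.injective g (e.trans gx.symm)), ?_⟩
      rw [hd y]; exact h.2.2
    · obtain ⟨a, b⟩ := (key _ (sub77 h)).2.2 h
      exact ⟨(gmem y).2 (sub77 h), fun e => a (e ▸ gx), hd y ▸ b⟩
  · intro y hy y' hy' hyx hyx' hiff
    have hgy := (gmem y).1 hy
    have hgy' := (gmem y').1 hy'
    obtain ⟨k, k1, k2, k3, k4⟩ : ∃ k : ↥Cfsg.Co0, k • Cfsg.Agent.Leech.hV = Cfsg.Agent.Leech.hV ∧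
        k • Cfsg.Agent.Leech.hT = Cfsg.Agent.Leech.hT ∧ k • Cfsg.Spor.leechU = Cfsg.Spor.leechU ∧
        k • (g • y) = g • y' := by
      by_cases h8 : Cfsg.dotInt (x : Cfsg.GolayPt → ℤ) (y : Cfsg.GolayPt → ℤ) = 8
      · exact Cfsg.Agent.Leech.trans22 ((key _ hgy).1.1 ((hd y).trans h8))
          ((key _ hgy').1.1 ((hd y').trans (hiff.1 h8)))
      · exact Cfsg.Agent.Leech.trans77
          ((key _ hgy).2.1 ⟨fun e => hyx (MulAction.injective g (e.trans gx.symm)), fun e => h8 ((hd y).symm.trans e)⟩)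
          ((key _ hgy').2.1 ⟨fun e => hyx' (MulAction.injective g (e.trans gx.symm)), fun e => h8 (hiff.2 ((hd y').symm.trans e))⟩)
    obtain ⟨m1, m2⟩ := gfix k k1 k2
    refine ⟨g⁻¹ * k * g, m1, m2, ?_, ?_⟩
    · rw [mul_smul, mul_smul, gx, k3, inv_smul_eq_iff, gx]
    · rw [mul_smul, mul_smul, k4, inv_smul_smul]

end Cfsg.Agent.S1584
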