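import Cfsg.Statements.S1587
-- import your own Cfsg.Agent.* helpers here

set_option autoImplicit false
open Matrix
open Cfsg

namespace Cfsg.Agent.S1587

/-- First step of the characterisation of the rank-24 lattice: in an even lattice without roots, norm-8 vectors congruent modulo 2 are equal, opposite or orthogonal. -/
theorem result (B : Matrix (Fin 24) (Fin 24) ℤ) (hsymm : B.IsSymm) (hpos : ∀ x : Fin 24 → ℤ, x ≠ 0 → 0 < x ⬝ᵥ (B *ᵥ x)) (heven : ∀ x : Fin 24 → ℤ, (2 : ℤ) ∣ x ⬝ᵥ (B *ᵥ x)) (h2 : ∀ x : Fin 24 → ℤ, x ⬝ᵥ (B *ᵥ x) ≠ 2) (x y : Fin 24 → ℤ) (hx : x ⬝ᵥ (B *ᵥ x) = 8) (hy : y ⬝ᵥ (B *ᵥ y) = 8) (hc : ∀ i, (2 : ℤ) ∣ (x - y) i) : y = x ∨ y = -x ∨ x ⬝ᵥ (B *ᵥ y) = 0 := by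
  choose z hz using hc
  have hxy : x - y = (2 : ℤ) • z := by funext i; simp [hz i]
  have hy' : y = x - (2 : ℤ) • z := by rw [← hxy]; abel
  have hsy : ∀ a b : Fin 24 → ℤ, a ⬝ᵥ (B *ᵥ b) = b ⬝ᵥ (B *ᵥ a) := by
    intro a b
    rw [Matrix.dotProduct_mulVec, ← Matrix.mulVec_transpose, hsymm.eq, dotProduct_comm]
  have hQ : ∀ a b : Fin 24 → ℤ, (a - b) ⬝ᵥ (B *ᵥ (a - b)) =
      a ⬝ᵥ (B *ᵥ a) - 2 * (a ⬝ᵥ (B *ᵥ b)) + b ⬝ᵥ (B *ᵥ b) := by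
    intro a b
    simp only [Matrix.mulVec_sub, sub_dotProduct, dotProduct_sub, hsy b a]
    ring
  have hQy : (8 : ℤ) = 8 - 4 * (x ⬝ᵥ (B *ᵥ z)) + 4 * (z ⬝ᵥ (B *ᵥ z)) := by
    conv_lhs => rw [← hy, hy', hQ]
    simp only [Matrix.mulVec_smul, dotProduct_smul, smul_dotProduct, smul_eq_mul, hx]
    ring
  have hQw : (x - z) ⬝ᵥ (B *ᵥ (x - z)) = 8 - 2 * (x ⬝ᵥ (B *ᵥ z)) + z ⬝ᵥ (B *ᵥ z) := by
    rw [hQ, hx]
  have hdot : x ⬝ᵥ (B *ᵥ y) = 8 - 2 * (x ⬝ᵥ (B *ᵥ z)) := by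
    rw [hy']
    simp only [Matrix.mulVec_sub, Matrix.mulVec_smul, dotProduct_sub, dotProduct_smul, smul_eq_mul, hx]
  by_cases hz0 : z = 0
  · left; rw [hy', hz0]; simp
  by_cases hw0 : x - z = 0
  · right; left
    rw [hy', ← sub_eq_zero.1 hw0]; funext i; simp; ring
  right; right
  have hzp : 0 < z ⬝ᵥ (B *ᵥ z) := hpos z hz0
  have hwp : 0 < (x - z) ⬝ᵥ (B *ᵥ (x - z)) := hpos _ hw0
  have h2z := h2 z
  have h2w := h2 (x - z)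
  have hez := heven z
  have hew := heven (x - z)
  omega

end Cfsg.Agent.S1587
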