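import Cfsg.Statements.S1588
import Cfsg.Agent.S1587

set_option autoImplicit false
open Matrix
open Cfsg

namespace Cfsg.Agent.S1588

open Matrix in
theorem fibre_le {B : Matrix (Fin 24) (Fin 24) ℤ} (hsymm : B.IsSymm)
    (hortho : ∀ x y : Fin 24 → ℤ, x ⬝ᵥ (B *ᵥ x) = 8 → y ⬝ᵥ (B *ᵥ y) = 8 → (∀ i, (2 : ℤ) ∣ (x - y) i) →
      y = x ∨ y = -x ∨ x ⬝ᵥ (B *ᵥ y) = 0)
    (F : Finset (Fin 24 → ℤ)) (h8 : ∀ x ∈ F, x ⬝ᵥ (B *ᵥ x) = 8)
    (hc : ∀ x ∈ F, ∀ y ∈ F, ∀ i, (2 : ℤ) ∣ (x - y) i) : F.card ≤ 48 := by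
  classical
  -- a maximal set of representatives up to sign
  obtain ⟨R, hR⟩ := ((F.powerset.filter fun R => ∀ x ∈ R, -x ∈ R → False)).exists_maximal
    ⟨∅, by simp⟩
  obtain ⟨hRF, hRs⟩ := Finset.mem_filter.1 hR.1
  rw [Finset.mem_powerset] at hRF
  have hcov : F ⊆ R ∪ R.image (fun x => -x) := by
    intro x hx
    by_contra hne
    rw [Finset.mem_union, not_or, Finset.mem_image] at hne
    have h1 : insert x R ∈ F.powerset.filter fun R => ∀ y ∈ R, -y ∈ R → False := by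
      refine Finset.mem_filter.2 ⟨Finset.mem_powerset.2 (Finset.insert_subset hx hRF), ?_⟩
      intro y hy hny
      rcases Finset.mem_insert.1 hy with rfl | hy
      · rcases Finset.mem_insert.1 hny with e | hny
        · have e0 : y = 0 := funext fun i => by have := congrFun e i; simp at this ⊢; omega
          have := h8 y hx
          rw [e0] at this; simp at this
        · exact hne.2 ⟨-y, hny, neg_neg y⟩
      · rcases Finset.mem_insert.1 hny with e | hny
        · exact hne.2 ⟨y, hy, e⟩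
        · exact hRs y hy hny
    exact hne.1 (hR.2 h1 (Finset.subset_insert x R) (Finset.mem_insert_self x R))
  have hli : LinearIndependent ℤ (fun x : ↥R => (x : Fin 24 → ℤ)) := by
    rw [Fintype.linearIndependent_iff]
    intro g hg j
    have h1 := congrArg (fun y : Fin 24 → ℤ => (j : Fin 24 → ℤ) ⬝ᵥ (B *ᵥ y)) hg
    simp only [Matrix.mulVec_sum, dotProduct_sum, Matrix.mulVec_smul, dotProduct_smul, smul_eq_mul,
      Matrix.mulVec_zero, dotProduct_zero] at h1
    rw [Finset.sum_eq_single j (fun b _ hb => by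
      rcases hortho (j : Fin 24 → ℤ) (b : Fin 24 → ℤ) (h8 _ (hRF j.2)) (h8 _ (hRF b.2))
        (hc _ (hRF j.2) _ (hRF b.2)) with e | e | e
      · exact absurd (Subtype.ext e) hb
      · exact (hRs _ j.2 (e ▸ b.2)).elim
      · rw [e, mul_zero]) (by simp), h8 _ (hRF j.2)] at h1
    omega
  have hcard := hli.fintype_card_le_finrank
  rw [Fintype.card_coe, Module.finrank_fin_fun] at hcard
  calc F.card ≤ (R ∪ R.image (fun x => -x)).card := Finset.card_le_card hcov
    _ ≤ R.card + (R.image (fun x => -x)).card := Finset.card_union_le _ _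
    _ ≤ 24 + 24 := Nat.add_le_add hcard (Finset.card_image_le.trans hcard)

/-- Second step of the characterisation: under the vector counts of the rank-24 lattice, the norm-8 vectors fall into congruence classes of exactly 48 modulo twice the lattice. -/
theorem result (B : Matrix (Fin 24) (Fin 24) ℤ) (hsymm : B.IsSymm) (hpos : ∀ x : Fin 24 → ℤ, x ≠ 0 → 0 < x ⬝ᵥ (B *ᵥ x)) (heven : ∀ x : Fin 24 → ℤ, (2 : ℤ) ∣ x ⬝ᵥ (B *ᵥ x)) (h2 : ∀ x : Fin 24 → ℤ, x ⬝ᵥ (B *ᵥ x) ≠ 2) (h4 : {x : Fin 24 → ℤ | x ⬝ᵥ (B *ᵥ x) = 4}.ncard = 196560) (h6 : {x : Fin 24 → ℤ | x ⬝ᵥ (B *ᵥ x) = 6}.ncard = 16773120) (h8 : {x : Fin 24 → ℤ | x ⬝ᵥ (B *ᵥ x) = 8}.ncard = 398034000) (x : Fin 24 → ℤ) (hx : x ⬝ᵥ (B *ᵥ x) = 8) : {y : Fin 24 → ℤ | y ⬝ᵥ (B *ᵥ y) = 8 ∧ ∀ i, (2 : ℤ) ∣ (x - y) i}.ncard = 48 := by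
  classical
  let N : (Fin 24 → ℤ) → ℤ := fun v => v ⬝ᵥ (B *ᵥ v)
  let f : (Fin 24 → ℤ) → (Fin 24 → ZMod 2) := fun v i => (v i : ZMod 2)
  have hf : ∀ v w, f v = f w ↔ ∀ i, (2 : ℤ) ∣ (v - w) i := fun v w => by
    simp only [f, funext_iff, ZMod.intCast_eq_intCast_iff, Int.modEq_iff_dvd, Pi.sub_apply]
    exact forall_congr' fun i => by rw [← dvd_neg, neg_sub]; norm_num
  -- congruent short vectors
  have hshort : ∀ v w, f v = f w → N v + N w < 16 → w = v ∨ w = -v := by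
    intro v w h hN
    rw [hf] at h
    choose u hu using h
    have hw : w = v - u - u := funext fun i => by
      have := hu i; simp only [Pi.sub_apply] at this ⊢; omega
    by_contra hne
    push Not at hne
    have hu0 : u ≠ 0 := fun e => hne.1 (by rw [hw, e]; simp)
    have hvu : v - u ≠ 0 := fun e => hne.2 (by rw [hw, e, zero_sub, ← sub_eq_zero.1 e])
    have hpar : N v + N w = 2 * N u + 2 * N (v - u) := by
      simp only [N, hw, Matrix.mulVec_sub, sub_dotProduct, dotProduct_sub]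
      ring
    have hu4 : ∀ x, x ≠ 0 → 4 ≤ N x := fun x hx => by
      have := hpos x hx; have := heven x; have := h2 x; simp only [N]; omega
    have := hu4 u hu0; have := hu4 _ hvu
    omega
  have hneg : ∀ v, N (-v) = N v := fun v => by simp [N, Matrix.mulVec_neg]
  have hfin : ∀ k : ℤ, {x : Fin 24 → ℤ | N x = k}.ncard ≠ 0 → {x : Fin 24 → ℤ | N x = k}.Finite :=
    fun k hk => Set.finite_of_ncard_ne_zero hk
  obtain ⟨F4, hF4⟩ : ∃ F : Finset (Fin 24 → ℤ), (∀ x, x ∈ F ↔ N x = 4) ∧ F.card = 196560 :=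
    have hk := hfin 4 (by simp only [N, h4]; norm_num)
    ⟨hk.toFinset, fun x => Set.Finite.mem_toFinset _,
      by rw [← Set.ncard_eq_toFinset_card _ hk]; exact h4⟩
  obtain ⟨F6, hF6⟩ : ∃ F : Finset (Fin 24 → ℤ), (∀ x, x ∈ F ↔ N x = 6) ∧ F.card = 16773120 :=
    have hk := hfin 6 (by simp only [N, h6]; norm_num)
    ⟨hk.toFinset, fun x => Set.Finite.mem_toFinset _,
      by rw [← Set.ncard_eq_toFinset_card _ hk]; exact h6⟩
  obtain ⟨F8, hF8⟩ : ∃ F : Finset (Fin 24 → ℤ), (∀ x, x ∈ F ↔ N x = 8) ∧ F.card = 398034000 :=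
    have hk := hfin 8 (by simp only [N, h8]; norm_num)
    ⟨hk.toFinset, fun x => Set.Finite.mem_toFinset _,
      by rw [← Set.ncard_eq_toFinset_card _ hk]; exact h8⟩
  have hpair : ∀ F : Finset (Fin 24 → ℤ), (∀ x ∈ F, N x ≤ 6) → F.card ≤ 2 * (F.image f).card := by
    intro F hF
    refine Finset.card_le_mul_card_image F 2 fun c hc => ?_
    obtain ⟨v, hv, rfl⟩ := Finset.mem_image.1 hc
    refine le_trans (Finset.card_le_card (t := {v, -v}) fun w hw => ?_) Finset.card_le_two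
    obtain ⟨hw, hwf⟩ := Finset.mem_filter.1 hw
    rcases hshort v w hwf.symm (by have := hF v hv; have := hF w hw; omega) with e | e <;> simp [e]
  have hfib : ∀ c ∈ F8.image f, (F8.filter fun y => f y = c).card ≤ 48 := fun c _ =>
    fibre_le hsymm
      (fun a b ha hb hc => Cfsg.Agent.S1587.result B hsymm hpos heven h2 a b ha hb hc) _
      (fun a ha => (hF8.1 a).1 (Finset.mem_filter.1 ha).1)
      (fun a ha b hb => (hf a b).1 ((Finset.mem_filter.1 ha).2.trans (Finset.mem_filter.1 hb).2.symm))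
  -- disjointness of the four images
  have hN0 : N 0 = 0 := by simp [N]
  have hdis : ∀ (k l : ℤ) (Fk Fl : Finset (Fin 24 → ℤ)), (∀ x ∈ Fk, N x = k) → (∀ x ∈ Fl, N x = l) →
      k ≠ l → k + l < 16 → Disjoint (Fk.image f) (Fl.image f) := by
    intro k l Fk Fl hk hl hne hlt
    rw [Finset.disjoint_left]
    intro c h1 h2'
    obtain ⟨v, hv, rfl⟩ := Finset.mem_image.1 h1
    obtain ⟨w, hw, hwv⟩ := Finset.mem_image.1 h2'
    have hv' := hk v hv; have hw' := hl w hw
    rcases hshort v w hwv.symm (by omega) with e | e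
    · exact hne (by rw [← hv', ← hw', e])
    · exact hne (by rw [← hv', ← hw', e, hneg])
  let F0 : Finset (Fin 24 → ℤ) := {0}
  have m0 : ∀ x ∈ F0, N x = 0 := fun x hx => by rw [Finset.mem_singleton.1 hx, hN0]
  have m4 := fun x hx => (hF4.1 x).1 hx
  have m6 := fun x hx => (hF6.1 x).1 hx
  have m8 := fun x hx => (hF8.1 x).1 hx
  have htot : ((F0.image f ∪ F4.image f) ∪ (F6.image f ∪ F8.image f)).card ≤ 2 ^ 24 :=
    le_trans (Finset.card_le_univ _) (by rw [Fintype.card_fun, ZMod.card, Fintype.card_fin])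
  rw [Finset.card_union_of_disjoint (Finset.disjoint_union_left.2
      ⟨Finset.disjoint_union_right.2 ⟨hdis 0 6 _ _ m0 m6 (by norm_num) (by norm_num),
        hdis 0 8 _ _ m0 m8 (by norm_num) (by norm_num)⟩,
       Finset.disjoint_union_right.2 ⟨hdis 4 6 _ _ m4 m6 (by norm_num) (by norm_num),
        hdis 4 8 _ _ m4 m8 (by norm_num) (by norm_num)⟩⟩),
    Finset.card_union_of_disjoint (hdis 0 4 _ _ m0 m4 (by norm_num) (by norm_num)),
    Finset.card_union_of_disjoint (hdis 6 8 _ _ m6 m8 (by norm_num) (by norm_num)),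
    show (F0.image f).card = 1 by simp [F0]] at htot
  have b4 := hpair F4 fun v hv => by rw [m4 v hv]; norm_num
  have b6 := hpair F6 fun v hv => by rw [m6 v hv]
  have b8 := Finset.card_le_mul_card_image F8 48 hfib
  rw [hF4.2] at b4; rw [hF6.2] at b6; rw [hF8.2] at b8
  have hi8 : 48 * (F8.image f).card = F8.card := by rw [hF8.2]; omega
  have hx8 : x ∈ F8 := (hF8.1 x).2 hx
  have hfx : (F8.filter fun y => f y = f x).card = 48 := by
    refine le_antisymm (hfib _ (Finset.mem_image_of_mem f hx8)) ?_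
    by_contra hlt
    have hsum := Finset.card_eq_sum_card_image f F8
    have := Finset.sum_lt_sum hfib ⟨f x, Finset.mem_image_of_mem f hx8, not_le.1 hlt⟩
    rw [← hsum, Finset.sum_const, smul_eq_mul] at this
    omega
  rw [show {y : Fin 24 → ℤ | y ⬝ᵥ (B *ᵥ y) = 8 ∧ ∀ i, (2 : ℤ) ∣ (x - y) i} =
    ↑(F8.filter fun y => f y = f x) from ?_, Set.ncard_coe_finset, hfx]
  ext y
  simp only [Set.mem_setOf_eq, Finset.coe_filter, hF8.1]
  exact and_congr_right fun _ => ((hf x y).symm.trans eq_comm)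

end Cfsg.Agent.S1588
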