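import Cfsg.Statements.S1595
import Cfsg.Agent.SmallCodes.Steiner5612

set_option autoImplicit false
open Cfsg

namespace Cfsg.Agent.S1595

/-- Leech triangle of S(5, 6, 12): blocks meet in 0, 2, 3 or 4 points, and a block is met exactly in a given 2-, 3- or 4-subset by 3, 2, 3 blocks respectively. -/
theorem result {α : Type*} [Fintype α] [DecidableEq α] (hα : Fintype.card α = 12) {B : Set (Finset α)} (hB : Cfsg.IsSteinerSystem 5 6 B) (b : Finset α) (hb : b ∈ B) : (∀ c ∈ B, c ≠ b → (b ∩ c).card = 0 ∨ (b ∩ c).card = 2 ∨ (b ∩ c).card = 3 ∨ (b ∩ c).card = 4) ∧ ∀ s ⊆ b, (s.card = 2 → {c : Finset α | c ∈ B ∧ b ∩ c = s}.ncard = 3) ∧ (s.card = 3 → {c : Finset α | c ∈ B ∧ b ∩ c = s}.ncard = 2) ∧ (s.card = 4 → {c : Finset α | c ∈ B ∧ b ∩ c = s}.ncard = 3) := by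
  classical
  obtain ⟨h6, hu⟩ := hB
  set Bf := (Set.toFinite B).toFinset with hBf
  have hmem : ∀ c, c ∈ Bf ↔ c ∈ B := fun c => (Set.toFinite B).mem_toFinset
  have h6' : ∀ c ∈ Bf, c.card = 6 := fun c hc => h6 c ((hmem c).1 hc)
  have hu' : ∀ s : Finset α, s.card = 5 → ∃! c, c ∈ Bf ∧ s ⊆ c := by simpa only [hmem] using hu
  have hN := fun s hs h1 => Agent.SmallCodes.s5612_inter h6' hu' hα ((hmem b).2 hb) s hs h1
  have hcard : ∀ s : Finset α, {c : Finset α | c ∈ B ∧ b ∩ c = s}.ncard = (Bf.filter fun c => b ∩ c = s).card := by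
    intro s
    rw [← Set.ncard_coe_finset]
    congr 1
    ext c
    simp [hmem]
  refine ⟨fun c hc hne => ?_, fun s hs => ⟨fun e => ?_, fun e => ?_, fun e => ?_⟩⟩
  · have hle : (b ∩ c).card ≤ 6 := h6 b hb ▸ Finset.card_le_card Finset.inter_subset_left
    have hpos : 0 < (b ∩ c).card → 0 < Agent.SmallCodes.s5612N (b ∩ c).card := fun h => by
      rw [← hN _ Finset.inter_subset_left h]
      exact Finset.card_pos.2 ⟨c, Finset.mem_filter.2 ⟨(hmem c).2 hc, rfl⟩⟩
    have h6ne : (b ∩ c).card ≠ 6 := fun e => hne (Finset.eq_of_subset_of_card_le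
      (Finset.inter_eq_left.1 (Finset.eq_of_subset_of_card_le Finset.inter_subset_left (by rw [h6 b hb, e])))
      (by rw [h6 b hb, h6 c hc])).symm
    generalize (b ∩ c).card = k at *
    interval_cases k <;> simp [Agent.SmallCodes.s5612N] at *
  all_goals
    rw [hcard, hN s hs (by omega), e]
    rfl

end Cfsg.Agent.S1595
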