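import Cfsg.Statements.S1598
import Cfsg.Agent.Compute.StructFacts
import Cfsg.Agent.Compute.QuartStructData
import Mathlib.LinearAlgebra.Matrix.GeneralLinearGroup.Card

set_option autoImplicit false
open scoped Pointwise
open Cfsg

namespace Cfsg.Agent.S1598

open Cfsg.Agent.Compute
open scoped Pointwise

theorem chain_check : rep24.checkChain quartNChain = true ∧ chainSize quartNChain = 9 ∧
    chainSize cfgDodQChain = 432 := by
  decide +kernel

theorem normal_check : rep24.normalB cfgDodQChain quartNChain quartInvs = true := by decide +kernel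

theorem movers_check : quartMovers.all (rep24.inB cfgDodQChain) = true ∧
    (List.range 24).all (fun i => !cfgDodRoot.testBit i ||
      quartMovers.any fun w => Nat.beq (rep24.act w 0) i) = true := by decide +kernel

/-- The successor table. -/
noncomputable def succ (j i : ℕ) : ℕ := getField 6 quartSucc (48 * j + i)

theorem table_check : rep24.tableB cfgDodQChain quartNChain cfgDodQGens 48 (getField 120 quartReps)
    (getField 120 quartRepInvs) succ = true := by decide +kernel

theorem table_size : cfgDodQGens.length = 2 ∧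
    chainSize cfgDodQChain = 48 * chainSize quartNChain ∧
    getField 120 quartReps 0 = rep24.one := by decide +kernel

/-- A 2 by 2 matrix over the field with three elements from four digits. -/
def mat2 (k : ℕ) : Matrix (Fin 2) (Fin 2) (ZMod 3) :=
  Matrix.of fun i j => ((k / 3 ^ (2 * (i : ℕ) + (j : ℕ)) : ℕ) : ZMod 3)

/-- The digits of a matrix. -/
def enc2 (M : Matrix (Fin 2) (Fin 2) (ZMod 3)) : ℕ :=
  (M 0 0).val + 3 * (M 0 1).val + 9 * (M 1 0).val + 27 * (M 1 1).val

theorem mats_check : ∀ i : Fin 48,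
    mat2 (getField 7 quartMats i) * mat2 (getField 7 quartMatInvs i) = 1 ∧
      mat2 (getField 7 quartMatInvs i) * mat2 (getField 7 quartMats i) = 1 := by
  decide +kernel

/-- The image of a coset. -/
def label (i : Fin 48) : GL (Fin 2) (ZMod 3) :=
  ⟨mat2 (getField 7 quartMats i), mat2 (getField 7 quartMatInvs i), (mats_check i).1, (mats_check i).2⟩

/-- Where the generators go. -/
noncomputable def genLabel (j : Fin 2) : Fin 48 := ⟨succ j 0 % 48, Nat.mod_lt _ (by norm_num)⟩

theorem label_one : mat2 (getField 7 quartMats 0) = 1 := by decide +kernel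

theorem step_check : ∀ j : Fin 2, ∀ i : Fin 48,
    mat2 (getField 7 quartMats (genLabel j)) * mat2 (getField 7 quartMats i) =
      mat2 (getField 7 quartMats (succ j i)) := by
  decide +kernel

theorem key_check : distinctB ((List.finRange 48).map fun i : Fin 48 =>
    enc2 (mat2 (getField 7 quartMats i))) = true := by
  decide +kernel

theorem quotient_equiv (hle : rep24.chainGroup quartNChain ≤ rep24.chainGroup cfgDodQChain)
    [((rep24.chainGroup quartNChain).subgroupOf (rep24.chainGroup cfgDodQChain)).Normal] :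
    Nonempty ((↥(rep24.chainGroup cfgDodQChain) ⧸
      (rep24.chainGroup quartNChain).subgroupOf (rep24.chainGroup cfgDodQChain)) ≃*
        GL (Fin 2) (ZMod 3)) := by
  refine Rep.nonempty_quotient_equiv stabDodQ_spec.1 chain_check.1 table_check span_cfgDodQ hle
    table_size.1 table_size.2.1 (0 : Fin 48) table_size.2.2 label
    (fun j => label (genLabel j)) ?_ ?_ ?_ ?_
  · exact Units.ext label_one
  · intro j i hk
    exact Units.ext (step_check j i)
  · intro i i' h
    have h1 := congrArg (fun b : GL (Fin 2) (ZMod 3) => enc2 (↑b)) h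
    exact List.inj_on_of_nodup_map (nodup_of_distinctB key_check) (List.mem_finRange i)
      (List.mem_finRange i') h1
  · rw [Matrix.card_GL_field, Fin.prod_univ_two]
    simp

/-- A quartet stabiliser inside the dodecad stabiliser has order 432, a normal subgroup of order 9 with quotient GL(2, 3), and is transitive on the dodecad. -/
theorem result (d : Finset Cfsg.GolayPt) (hd : d ∈ Cfsg.dodecads) (Q : Finset (Finset Cfsg.GolayPt)) (hQ : Q ∈ Cfsg.quartets d) : Nat.card ↥(MulAction.stabilizer Cfsg.M24 d ⊓ MulAction.stabilizer Cfsg.M24 Q) = 432 ∧ (∃ (N : Subgroup ↥(MulAction.stabilizer Cfsg.M24 d ⊓ MulAction.stabilizer Cfsg.M24 Q)) (_ : N.Normal), Nat.card N = 9 ∧ Nonempty (↥(MulAction.stabilizer Cfsg.M24 d ⊓ MulAction.stabilizer Cfsg.M24 Q) ⧸ N ≃* GL (Fin 2) (ZMod 3))) ∧ ∀ p ∈ d, ∀ q ∈ d, ∃ g ∈ (MulAction.stabilizer Cfsg.M24 d ⊓ MulAction.stabilizer Cfsg.M24 Q), ((g : ↥Cfsg.M24) : Equiv.Perm Cfsg.GolayPt) p = q := by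
  obtain ⟨g, hg, hgd, hgQ⟩ := exists_move_quartet hd hQ
  have hc := conjTo_quartet hg hgd hgQ
  refine ⟨?_, ?_, ?_⟩
  · rw [hc.card_eq, Rep.card_chainGroup _ stabDodQ_spec.1, chain_check.2.2]
  · obtain ⟨hle, hN⟩ := Rep.normalB_spec stabDodQ_spec.1 chain_check.1 normal_check
    obtain ⟨e⟩ := hc.nonempty_mulEquiv
    obtain ⟨M, hM, hcard, -, ⟨e'⟩⟩ := exists_normal_of_equiv e _ hN
    obtain ⟨q⟩ := quotient_equiv hle
    refine ⟨M, hM, ?_, ⟨e'.trans q⟩⟩
    rw [hcard, Nat.card_congr (Subgroup.subgroupOfEquivOfLe hle).toEquiv,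
      Rep.card_chainGroup _ chain_check.1, chain_check.2.1]
  · intro p hp q hq
    have hmove : ∀ z ∈ d, ∃ h ∈ rep24.chainGroup cfgDodQChain, h • rep24.pt 0 = g • z := by
      intro z hz
      have hz' : g • z ∈ suppM cfgDodRoot := hgd ▸ Finset.smul_mem_smul_finset hz
      have h := List.all_eq_true.mp movers_check.2 _ (List.mem_range.mpr (ptIdx_lt (g • z)))
      rw [mem_suppM.mp hz', Bool.not_true, Bool.false_or, List.any_eq_true] at h
      obtain ⟨w, hw, hwz⟩ := h
      obtain ⟨hok, hmem⟩ := Rep.inB_spec stabDodQ_spec.1 (List.all_eq_true.mp movers_check.1 w hw)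
      rw [Nat.beq_eq] at hwz
      refine ⟨_, hmem, ?_⟩
      rw [rep24.act_spec _ _ hok (show (0 : ℕ) < 24 by norm_num), hwz, rep24_pt_ptIdx]
    obtain ⟨u, hu, hup⟩ := hmove p hp
    obtain ⟨v, hv, hvq⟩ := hmove q hq
    have h2 := mul_mem hv (inv_mem hu)
    refine ⟨⟨g⁻¹ * (v * u⁻¹) * g, conj_mem hg (hc.le h2)⟩, (hc.mem_iff _).mpr (by
      simpa [mul_assoc] using h2), ?_⟩
    exact map_conj (show (v * u⁻¹) • g • p = g • q by rw [← hup, mul_smul, inv_smul_smul, hvq])

end Cfsg.Agent.S1598
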