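import Cfsg.Statements.S1599
import Cfsg.Agent.Compute.MathieuConj

set_option autoImplicit false
open scoped Pointwise
open Cfsg

namespace Cfsg.Agent.S1599

/-- A quartet stabiliser has five orbits on the quartets of its dodecad, of sizes 1, 12, 27, 72, 108. -/
theorem result (d : Finset Cfsg.GolayPt) (hd : d ∈ Cfsg.dodecads) (Q : Finset (Finset Cfsg.GolayPt)) (hQ : Q ∈ Cfsg.quartets d) : ∃ X₁ ∈ Cfsg.quartets d, ∃ X₂ ∈ Cfsg.quartets d, ∃ X₃ ∈ Cfsg.quartets d, ∃ X₄ ∈ Cfsg.quartets d, (MulAction.orbit ↥(MulAction.stabilizer Cfsg.M24 d ⊓ MulAction.stabilizer Cfsg.M24 Q) X₁).ncard = 12 ∧ (MulAction.orbit ↥(MulAction.stabilizer Cfsg.M24 d ⊓ MulAction.stabilizer Cfsg.M24 Q) X₂).ncard = 27 ∧ (MulAction.orbit ↥(MulAction.stabilizer Cfsg.M24 d ⊓ MulAction.stabilizer Cfsg.M24 Q) X₃).ncard = 72 ∧ (MulAction.orbit ↥(MulAction.stabilizer Cfsg.M24 d ⊓ MulAction.stabilizer Cfsg.M24 Q) X₄).ncard = 108 ∧ Cfsg.quartets d = {Q} ∪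 MulAction.orbit ↥(MulAction.stabilizer Cfsg.M24 d ⊓ MulAction.stabilizer Cfsg.M24 Q) X₁ ∪ MulAction.orbit ↥(MulAction.stabilizer Cfsg.M24 d ⊓ MulAction.stabilizer Cfsg.M24 Q) X₂ ∪ MulAction.orbit ↥(MulAction.stabilizer Cfsg.M24 d ⊓ MulAction.stabilizer Cfsg.M24 Q) X₃ ∪ MulAction.orbit ↥(MulAction.stabilizer Cfsg.M24 d ⊓ MulAction.stabilizer Cfsg.M24 Q) X₄ := by
  obtain ⟨g, hg, hgd, hgQ⟩ := Compute.exists_move_quartet hd hQ
  have hc := Compute.conjTo_quartet hg hgd hgQ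
  obtain ⟨h1, h2⟩ := Compute.Obj.part_spec (O := Compute.famObj 4) Compute.span_cfgDodQ
    Compute.cfgDodQ_partQuart (fun s hs => Compute.tree_good_DodQ _ (by
      have h : Compute.cfgDodQQuartSubs.all (fun s => Compute.cfgDodQTree.memB s.root) = true := by
        decide +kernel
      exact Compute.OTr.mem_codes_of_memB (List.all_eq_true.mp h s hs)))
  have hU : ∀ s ∈ Compute.cfgDodQQuartSubs, g⁻¹ • Compute.decFam 4 s.root ∈ Cfsg.quartets d := by
    intro s hs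
    rw [← Compute.smul_mem_quartets_iff hg, smul_inv_smul, hgd, Compute.quartets_eq_codes]
    have h : Compute.cfgDodQQuartSubs.all (fun s => Compute.cfgDodQTree.memB s.root) = true := by
      decide +kernel
    exact ⟨_, Compute.OTr.mem_codes_of_memB (List.all_eq_true.mp h s hs), rfl⟩
  have hsize : ∀ s ∈ Compute.cfgDodQQuartSubs,
      (MulAction.orbit ↥(MulAction.stabilizer Cfsg.M24 d ⊓ MulAction.stabilizer Cfsg.M24 Q)
        (g⁻¹ • Compute.decFam 4 s.root)).ncard = s.size := by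
    intro s hs
    rw [hc.orbit_eq, smul_inv_smul, Set.ncard_smul_set]
    exact (h1 s hs).2
  have horb : ∀ s ∈ Compute.cfgDodQQuartSubs,
      MulAction.orbit ↥(MulAction.stabilizer Cfsg.M24 d ⊓ MulAction.stabilizer Cfsg.M24 Q)
        (g⁻¹ • Compute.decFam 4 s.root) ⊆ Cfsg.quartets d := by
    rintro s hs _ ⟨a, rfl⟩
    have had : ((a : ↥Cfsg.M24) : Equiv.Perm Cfsg.GolayPt) • d = d := (Subgroup.mem_inf.mp a.2).1
    have := Compute.smul_mem_quartets (a : ↥Cfsg.M24).2 (hU s hs)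
    rwa [had] at this
  have hm : ∀ i : Fin 5, ![Compute.cfgDodQQuartSub0, Compute.cfgDodQQuartSub1, Compute.cfgDodQQuartSub2, Compute.cfgDodQQuartSub3, Compute.cfgDodQQuartSub4] i ∈ Compute.cfgDodQQuartSubs := by
    intro i; fin_cases i <;> simp [Compute.cfgDodQQuartSubs]
  refine ⟨g⁻¹ • Compute.decFam 4 Compute.cfgDodQQuartSub1.root, hU _ (hm 1), g⁻¹ • Compute.decFam 4 Compute.cfgDodQQuartSub2.root, hU _ (hm 2), g⁻¹ • Compute.decFam 4 Compute.cfgDodQQuartSub3.root, hU _ (hm 3), g⁻¹ • Compute.decFam 4 Compute.cfgDodQQuartSub4.root, hU _ (hm 4), hsize _ (hm 1), hsize _ (hm 2), hsize _ (hm 3), hsize _ (hm 4), ?_⟩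
  have h0 : Compute.cfgDodQQuartSub0.root = Compute.cfgDodQRoot := by decide +kernel
  refine Set.Subset.antisymm (fun X hX => ?_) ?_
  · have hX' := Compute.smul_mem_quartets hg hX
    rw [hgd, Compute.quartets_eq_codes] at hX'
    obtain ⟨c, hc', hcX⟩ := hX'
    obtain ⟨s, hs, -, hso⟩ := h2 c hc'
    have hXs : X ∈ MulAction.orbit ↥(MulAction.stabilizer Cfsg.M24 d ⊓ MulAction.stabilizer Cfsg.M24 Q)
        (g⁻¹ • Compute.decFam 4 s.root) := by
      rw [hc.orbit_eq, smul_inv_smul, Set.mem_inv_smul_set_iff, ← hcX]; exact hso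
    simp only [Compute.cfgDodQQuartSubs, List.mem_cons, List.not_mem_nil, or_false] at hs
    rcases hs with rfl | rfl | rfl | rfl | rfl
    · obtain ⟨a, rfl⟩ := hXs
      rw [show g⁻¹ • Compute.decFam 4 Compute.cfgDodQQuartSub0.root = Q by rw [h0, ← hgQ, inv_smul_smul]]
      left; left; left; left
      exact (Subgroup.mem_inf.mp a.2).2
    all_goals simp only [Set.mem_union, hXs, true_or, or_true]
  · simp only [Set.union_subset_iff]
    exact ⟨⟨⟨⟨Set.singleton_subset_iff.mpr hQ, horb _ (hm 1)⟩, horb _ (hm 2)⟩, horb _ (hm 3)⟩, horb _ (hm 4)⟩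

end Cfsg.Agent.S1599
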