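import Cfsg.Statements.S1600
import Cfsg.Agent.Compute.MathieuConj

set_option autoImplicit false
open scoped Pointwise
open Cfsg

namespace Cfsg.Agent.S1600

/-- The pointwise stabiliser of three points of a dodecad inside the dodecad stabiliser (order 72) is transitive on the complementary dodecad. -/
theorem result (d : Finset Cfsg.GolayPt) (hd : d ∈ Cfsg.dodecads) (p q r : Cfsg.GolayPt) (hp : p ∈ d) (hq : q ∈ d) (hr : r ∈ d) (hpq : p ≠ q) (hpr : p ≠ r) (hqr : q ≠ r) : Nat.card ↥(MulAction.stabilizer Cfsg.M24 d ⊓ MulAction.stabilizer Cfsg.M24 p ⊓ MulAction.stabilizer Cfsg.M24 q ⊓ MulAction.stabilizer Cfsg.M24 r) = 72 ∧ ∀ x ∉ d, ∀ y ∉ d, ∃ g ∈ (MulAction.stabilizer Cfsg.M24 d ⊓ MulAction.stabilizer Cfsg.M24 p ⊓ MulAction.stabilizer Cfsg.M24 q ⊓ MulAction.stabilizer Cfsg.M24 r), ((g : ↥Cfsg.M24) : Equiv.Perm Cfsg.GolayPt) x = y := by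
  obtain ⟨g, hg, hgd, hgp, hgq, hgr⟩ := Compute.exists_move_dod3 hd hp hq hr hpq hpr hqr
  have hc := Compute.conjTo_dod3 hg hgd hgp hgq hgr
  refine ⟨?_, fun x hx y hy => ?_⟩
  · rw [hc.card_eq, Compute.Rep.card_chainGroup _ Compute.stabDodP3_spec.1]
    decide +kernel
  · obtain ⟨h1, -⟩ := Compute.Obj.part_spec (O := Compute.ptObj) Compute.span_cfgDodP3
      Compute.cfgDodP3_partPt (fun s hs => by
        have h : Compute.cfgDodP3PtSubs.all (fun s => Nat.blt s.root 24) = true := by decide +kernel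
        have := List.all_eq_true.mp h s hs
        rw [Nat.blt_eq] at this
        exact this)
    obtain ⟨horb, -⟩ := h1 Compute.cfgDodP3PtSub4 (by simp [Compute.cfgDodP3PtSubs])
    have hscan : (List.range 24).all (fun i => Compute.cfgDodRoot.testBit i ||
        Compute.cfgDodP3PtSub4.tree.memB i) = true := by decide +kernel
    have hz : ∀ z, z ∉ d → g • z ∈ MulAction.orbit (Compute.rep24.chainGroup Compute.cfgDodP3Chain)
        (Compute.ptObj.dec Compute.cfgDodP3PtSub4.root) := by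
      intro z hz
      have hn : Compute.cfgDodRoot.testBit (Compute.ptIdx (g • z)) = false := by
        rw [← Bool.not_eq_true, ← Compute.mem_suppM, ← hgd, Finset.smul_mem_smul_finset_iff]
        exact hz
      have h := List.all_eq_true.mp hscan _ (List.mem_range.mpr (Compute.ptIdx_lt (g • z)))
      rw [hn, Bool.false_or] at h
      rw [horb]
      exact ⟨_, Compute.OTr.mem_codes_of_memB h, Compute.rep24_pt_ptIdx _⟩
    obtain ⟨a, ha, hax⟩ := hc.exists_move (X := x) (Y := y)
      (MulAction.orbit_eq_iff.mpr (hz x hx) ▸ hz y hy)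
    exact ⟨a, ha, hax⟩

end Cfsg.Agent.S1600
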