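import Cfsg.Statements.S1601
import Cfsg.Agent.Compute.StructFacts
import Cfsg.Agent.Compute.IsoTools
import Cfsg.Agent.Compute.Psl11StructData
import Cfsg.Agent.Classical.A5InPSL

set_option autoImplicit false
open scoped Pointwise
open Cfsg

namespace Cfsg.Agent.S1601

open Cfsg.Agent.Compute
open scoped Pointwise Matrix

/-- The successor table. -/
noncomputable def succ (j i : ℕ) : ℕ := getField 10 psl11Succ (660 * j + i)

theorem table_check : rep24.tableB cfgDodPtOChain [] cfgDodPtOGens 660 (getField 120 psl11Reps)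
    (getField 120 psl11RepInvs) succ = true := by decide +kernel

theorem table_size : cfgDodPtOGens.length = 2 ∧
    chainSize cfgDodPtOChain = 660 * chainSize [] ∧
    getField 120 psl11Reps 0 = rep24.one ∧ rep24.checkChain [] = true := by decide +kernel

/-- Digit of a coded matrix. -/
def dig (k n : ℕ) : ℕ := k / 11 ^ n % 11

/-- The matrix with four given digits. -/
def mat (k : ℕ) : Matrix (Fin 2) (Fin 2) (ZMod 11) :=
  Matrix.of fun i j => (dig k (2 * (i : ℕ) + (j : ℕ)) : ZMod 11)

/-- One entry of a product, modulo 11. -/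
def entry (a b n : ℕ) : ℕ :=
  (dig a (2 * (n / 2)) * dig b (n % 2) + dig a (2 * (n / 2) + 1) * dig b (2 + n % 2)) % 11

/-- The code with the given digits. -/
def code (f : ℕ → ℕ) : ℕ := f 0 + 11 * f 1 + 121 * f 2 + 1331 * f 3

/-- Product of coded matrices. -/
def mulc (a b : ℕ) : ℕ := code (entry a b)

/-- The negative of a coded matrix. -/
def negc (a : ℕ) : ℕ := code fun n => (11 - dig a n) % 11

theorem dig_code (f : ℕ → ℕ) (hf : ∀ n, f n < 11) : ∀ n : Fin 4, dig (code f) n = f n := by
  intro n
  have := hf 0; have := hf 1; have := hf 2; have := hf 3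
  fin_cases n <;> simp only [dig, code] <;> omega

theorem mat_mulc (a b : ℕ) : mat (mulc a b) = mat a * mat b := by
  ext i j
  rw [Matrix.mul_apply, Fin.sum_univ_two]
  simp only [mat, Matrix.of_apply]
  have e := dig_code (entry a b) (fun n => Nat.mod_lt _ (by norm_num)) ⟨2 * (i : ℕ) + (j : ℕ), by omega⟩
  simp only at e
  rw [mulc, e]
  simp only [entry]
  rw [ZMod.natCast_mod, show (2 * (i : ℕ) + (j : ℕ)) / 2 = i by omega,
    show (2 * (i : ℕ) + (j : ℕ)) % 2 = j by omega]
  push_cast
  simp

theorem mat_negc (a : ℕ) : mat (negc a) = -mat a := by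
  ext i j
  simp only [mat, Matrix.of_apply, Matrix.neg_apply]
  have e := dig_code (fun n => (11 - dig a n) % 11) (fun n => Nat.mod_lt _ (by norm_num))
    ⟨2 * (i : ℕ) + (j : ℕ), by omega⟩
  simp only at e
  rw [negc, e, ZMod.natCast_mod, Nat.cast_sub (show dig a (2 * (i : ℕ) + (j : ℕ)) ≤ 11 from (Nat.mod_lt _ (by norm_num)).le),
    ZMod.natCast_self, zero_sub]

/-- The digits of a matrix. -/
def encM (M : Matrix (Fin 2) (Fin 2) (ZMod 11)) : ℕ :=
  (M 0 0).val + 11 * (M 0 1).val + 121 * (M 1 0).val + 1331 * (M 1 1).val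

theorem encM_mat {k : ℕ} (hk : k < 14641) : encM (mat k) = k := by
  simp only [encM, mat, Matrix.of_apply, ZMod.val_natCast, dig, Fin.val_zero, Fin.val_one]
  omega

theorem mats_check : allBelow 660 (fun i => Nat.blt (getField 14 psl11Mats i) 14641 &&
    Nat.beq ((dig (getField 14 psl11Mats i) 0 * dig (getField 14 psl11Mats i) 3 +
      10 * (dig (getField 14 psl11Mats i) 1 * dig (getField 14 psl11Mats i) 2)) % 11) 1) = true := by
  decide +kernel

theorem det_mat (i : Fin 660) : (mat (getField 14 psl11Mats i)).det = 1 := by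
  have h := allBelow_eq_true.mp mats_check i i.2
  simp only [Bool.and_eq_true, Nat.beq_eq] at h
  have h2 : ((_ : ℕ) : ZMod 11) = ((1 : ℕ) : ZMod 11) := congrArg Nat.cast h.2
  rw [ZMod.natCast_mod] at h2
  rw [Matrix.det_fin_two]
  push_cast at h2
  rw [show (10 : ZMod 11) = -1 by decide, neg_one_mul, ← sub_eq_add_neg] at h2
  simpa [mat] using h2

/-- The matrix of an element. -/
noncomputable def sl (i : Fin 660) : Matrix.SpecialLinearGroup (Fin 2) (ZMod 11) :=
  ⟨mat (getField 14 psl11Mats i), det_mat i⟩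

theorem mk_eq_of (A B : Matrix.SpecialLinearGroup (Fin 2) (ZMod 11))
    (h : (A : Matrix (Fin 2) (Fin 2) (ZMod 11)) = B ∨ (A : Matrix (Fin 2) (Fin 2) (ZMod 11)) = -B) :
    (QuotientGroup.mk A : Matrix.ProjectiveSpecialLinearGroup (Fin 2) (ZMod 11)) =
      QuotientGroup.mk B := by
  rw [QuotientGroup.eq, Matrix.SpecialLinearGroup.mem_center_iff]
  rcases h with h | h
  · refine ⟨1, one_pow _, ?_⟩
    have : A = B := Subtype.ext h
    rw [this, inv_mul_cancel]; simp
  · refine ⟨-1, by rw [Fintype.card_fin]; norm_num, ?_⟩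
    have : A = -B := Subtype.ext (by rw [h]; rfl)
    rw [this]
    ext i j
    simp [Matrix.scalar, Matrix.diagonal, Matrix.one_apply]
    split_ifs <;> simp

theorem eq_or_neg_of_mk_eq (A B : Matrix.SpecialLinearGroup (Fin 2) (ZMod 11))
    (h : (QuotientGroup.mk A : Matrix.ProjectiveSpecialLinearGroup (Fin 2) (ZMod 11)) =
      QuotientGroup.mk B) :
    (B : Matrix (Fin 2) (Fin 2) (ZMod 11)) = A ∨
      (B : Matrix (Fin 2) (Fin 2) (ZMod 11)) = -(A : Matrix (Fin 2) (Fin 2) (ZMod 11)) := by
  rw [QuotientGroup.eq, Matrix.SpecialLinearGroup.mem_center_iff] at h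
  obtain ⟨r, hr, hrm⟩ := h
  have he : (B : Matrix (Fin 2) (Fin 2) (ZMod 11)) =
      (A : Matrix (Fin 2) (Fin 2) (ZMod 11)) * Matrix.scalar (Fin 2) r := by
    rw [hrm, ← Matrix.SpecialLinearGroup.coe_mul, mul_inv_cancel_left]
  rw [Fintype.card_fin] at hr
  have hall : ∀ x : ZMod 11, x ^ 2 = 1 → x = 1 ∨ x = -1 := by decide
  have hr' : r = 1 ∨ r = -1 := hall r hr
  rcases hr' with rfl | rfl
  · left; rw [he]; simp
  · right; rw [he]; simp [map_neg]

theorem step_check : allBelow 2 (fun j => Nat.blt (succ j 0) 660 && allBelow 660 fun i =>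
    Nat.beq (mulc (getField 14 psl11Mats (succ j 0)) (getField 14 psl11Mats i))
      (getField 14 psl11Mats (succ j i)) ||
    Nat.beq (mulc (getField 14 psl11Mats (succ j 0)) (getField 14 psl11Mats i))
      (negc (getField 14 psl11Mats (succ j i)))) = true := by
  decide +kernel

theorem key_check : bitDistinctB ((List.range 660).map (fun i => getField 14 psl11Mats i) ++
    (List.range 660).map (fun i => negc (getField 14 psl11Mats i))) = true := by
  decide +kernel

theorem label_one : getField 14 psl11Mats 0 = 1332 := by decide +kernel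

theorem mat_one : mat 1332 = 1 := by decide +kernel

/-- In the 3-transitive action of the smallest Mathieu group on the complementary dodecad, a point stabiliser is isomorphic to PSL(2, 11). -/
theorem result (d : Finset Cfsg.GolayPt) (hd : d ∈ Cfsg.dodecads) (p q : Cfsg.GolayPt) (hp : p ∈ d) (hq : q ∉ d) : Nonempty (↥(MulAction.stabilizer Cfsg.M24 d ⊓ MulAction.stabilizer Cfsg.M24 p ⊓ MulAction.stabilizer Cfsg.M24 q) ≃* Matrix.ProjectiveSpecialLinearGroup (Fin 2) (ZMod 11)) := by
  obtain ⟨g, hg, hgd, hgp⟩ := exists_move_dodPt hd hp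
  have hq' : g • q ∈ maskSet cfgDodRoot := by
    change cfgDodRoot.testBit (ptIdx (g • q)) = false
    rw [← Bool.not_eq_true, ← mem_suppM, ← hgd, Finset.smul_mem_smul_finset_iff]
    exact hq
  have hout : (List.range 24).all (fun i => cfgDodRoot.testBit i || cfgDodPtOTree.memB i) = true := by
    decide +kernel
  have hq0 : (fun i => !cfgDodRoot.testBit i) (ptIdx (g • q)) = true := by
    simp only [show cfgDodRoot.testBit (ptIdx (g • q)) = false from hq', Bool.not_false]
  obtain ⟨h, hh, hhq⟩ := mem_orbit_of_tree (p := fun i => !cfgDodRoot.testBit i)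
    (r := cfgDodPtORoot) stabDodPtO_spec.2.2.1 (by decide +kernel) hq0
  obtain ⟨hm, hhd, hhp⟩ := mem_cfgDodPt hh
  have hc := conjTo_three (mul_mem hm hg) (x₀ := suppM cfgDodRoot) (y₀ := rep24.pt cfgDodPtRoot)
    (z₀ := rep24.pt cfgDodPtORoot) (x := d) (y := p) (z := q)
    (K := rep24.chainGroup cfgDodPtOChain) (by rw [mul_smul, hgd, hhd])
    (by rw [mul_smul, hgp]; exact hhp) (by rw [mul_smul, hhq]) fun a => ⟨mem_cfgDodPtO, fun ha => by
      rw [← stabDodPtO_spec.2.1]
      exact Subgroup.mem_inf.mpr ⟨mem_cfgDodPt_iff.mpr ⟨ha.1, ha.2.1, ha.2.2.1⟩, ha.2.2.2⟩⟩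
  obtain ⟨e0⟩ := hc.nonempty_mulEquiv
  have hbot : (rep24.chainGroup ([] : List Level)) = ⊥ := by
    rw [← Subgroup.card_eq_one, Rep.card_chainGroup _ table_size.2.2.2]; rfl
  have hle : rep24.chainGroup ([] : List Level) ≤ rep24.chainGroup cfgDodPtOChain := by
    rw [hbot]; exact bot_le
  have hsub : (rep24.chainGroup ([] : List Level)).subgroupOf (rep24.chainGroup cfgDodPtOChain) = ⊥ := by
    rw [hbot, Subgroup.bot_subgroupOf]
  haveI : ((rep24.chainGroup ([] : List Level)).subgroupOf (rep24.chainGroup cfgDodPtOChain)).Normal := by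
    rw [hsub]; infer_instance
  have hj : ∀ j : Fin 2, succ j 0 < 660 := fun j => by
    have h := allBelow_eq_true.mp step_check j j.2
    simp only [Bool.and_eq_true, Nat.blt_eq] at h
    exact h.1
  have hlt : ∀ i : Fin 660, getField 14 psl11Mats i < 14641 := fun i => by
    have h := allBelow_eq_true.mp mats_check i i.2
    simp only [Bool.and_eq_true, Nat.blt_eq] at h
    exact h.1
  obtain ⟨e1⟩ := Rep.nonempty_quotient_equiv stabDodPtO_spec.1 table_size.2.2.2 table_check
    span_cfgDodPtO hle table_size.1 table_size.2.1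
    (B := Matrix.ProjectiveSpecialLinearGroup (Fin 2) (ZMod 11)) (0 : Fin 660) table_size.2.2.1
    (fun i => QuotientGroup.mk (sl i)) (fun j => QuotientGroup.mk (sl ⟨succ j 0, hj j⟩))
    (by
      have : sl 0 = 1 := Subtype.ext (by
        change mat (getField 14 psl11Mats 0) = 1
        rw [label_one, mat_one])
      rw [this, QuotientGroup.mk_one])
    (fun j i hk => by
      have h := allBelow_eq_true.mp step_check j j.2
      simp only [Bool.and_eq_true, Nat.blt_eq, allBelow_eq_true, Bool.or_eq_true, Nat.beq_eq] at h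
      rw [← QuotientGroup.mk_mul]
      refine mk_eq_of _ _ ?_
      rw [Matrix.SpecialLinearGroup.coe_mul]
      rcases h.2 i i.2 with e | e
      · left; exact (mat_mulc _ _).symm.trans (congrArg mat e)
      · right; exact ((mat_mulc _ _).symm.trans (congrArg mat e)).trans (mat_negc _))
    (fun i i' he => by
      have hnd := List.nodup_append'.mp (nodup_of_bitDistinctB key_check)
      rcases eq_or_neg_of_mk_eq _ _ he with e | e
      · have e' := congrArg encM (show mat (getField 14 psl11Mats i') = mat (getField 14 psl11Mats i) from e)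
        rw [encM_mat (hlt i), encM_mat (hlt i')] at e'
        exact Fin.ext (List.inj_on_of_nodup_map hnd.1 (List.mem_range.mpr i.2)
          (List.mem_range.mpr i'.2) e'.symm)
      · have e' := congrArg encM (show mat (getField 14 psl11Mats i') = mat (negc (getField 14 psl11Mats i))
          from e.trans (mat_negc _).symm)
        have hn : negc (getField 14 psl11Mats i) < 14641 := by
          simp only [negc, code]; omega
        rw [encM_mat (hlt i'), encM_mat hn] at e'
        exact absurd (List.mem_map.mpr ⟨_, List.mem_range.mpr i.2, e'.symm⟩)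
          (hnd.2.2 (List.mem_map.mpr ⟨_, List.mem_range.mpr i'.2, rfl⟩)))
    (by
      have : Fact (Nat.Prime 11) := ⟨by norm_num⟩
      have h := Cfsg.Agent.Classical.A5InPSL.card_psl (F := ZMod 11)
      simp [ZMod.card, Finset.prod_range_one] at h
      rw [Nat.card_eq_fintype_card]
      omega)
  exact ⟨(e0.trans ((QuotientGroup.quotientBot (G := ↥(rep24.chainGroup cfgDodPtOChain))).symm.trans
    (QuotientGroup.quotientMulEquivOfEq hsub.symm))).trans e1⟩

end Cfsg.Agent.S1601
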