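import Cfsg.Statements.S1602
import Cfsg.Agent.Compute.IsoTools
import Cfsg.Agent.Compute.M12Outside

set_option autoImplicit false
open scoped Pointwise
open Cfsg

namespace Cfsg.Agent.S1602

/-- In the 12-point action of the smallest Mathieu group the setwise stabiliser of a pair is isomorphic to the symmetric group of degree 5. -/
theorem result (d : Finset Cfsg.GolayPt) (hd : d ∈ Cfsg.dodecads) (p q q' : Cfsg.GolayPt) (hp : p ∈ d) (hq : q ∉ d) (hq' : q' ∉ d) (hqq' : q ≠ q') : Nonempty (↥(MulAction.stabilizer Cfsg.M24 d ⊓ MulAction.stabilizer Cfsg.M24 p ⊓ MulAction.stabilizer Cfsg.M24 ({q, q'} : Finset Cfsg.GolayPt)) ≃* Equiv.Perm (Fin 5)) := by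
  obtain ⟨g, hg, hgd, hgp⟩ := Compute.exists_move_dodPt hd hp
  have hout : ∀ z, z ∉ d → g • z ∈ Compute.maskSet Compute.cfgDodRoot := by
    intro z hz
    change Compute.cfgDodRoot.testBit (Compute.ptIdx (g • z)) = false
    rw [← Bool.not_eq_true, ← Compute.mem_suppM, ← hgd, Finset.smul_mem_smul_finset_iff]
    exact hz
  have hnd : [g • q, g • q'].Nodup := by simpa using fun h => hqq' (MulAction.injective g h)
  obtain ⟨third, ht⟩ : ∃ third, [g • q, g • q', third].Nodup ∧
      ∀ z ∈ [g • q, g • q', third], z ∈ Compute.maskSet Compute.cfgDodRoot := by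
    have hne : ((Compute.maskSet Compute.cfgDodRoot) \ {g • q, g • q'}).Nonempty := by
      apply Set.nonempty_of_ncard_ne_zero
      have h1 := Set.le_ncard_sdiff ({g • q, g • q'} : Set Cfsg.GolayPt)
        (Compute.maskSet Compute.cfgDodRoot)
      rw [Compute.ncard_maskSet, Set.ncard_pair (fun h => hqq' (MulAction.injective g h)),
        show Compute.popBits 24 Compute.cfgDodRoot = 12 by decide +kernel] at h1
      omega
    obtain ⟨z, hz, hz'⟩ := hne
    rw [Set.mem_insert_iff, Set.mem_singleton_iff, not_or] at hz'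
    refine ⟨z, ?_, ?_⟩
    · simp only [List.nodup_cons, List.mem_cons, List.not_mem_nil, or_false, not_or,
        List.nodup_nil, and_true, not_false_iff]
      exact ⟨⟨fun h => hqq' (MulAction.injective g h), Ne.symm hz'.1⟩, Ne.symm hz'.2⟩
    · intro y hy
      simp only [List.mem_cons, List.not_mem_nil, or_false] at hy
      rcases hy with rfl | rfl | rfl
      · exact hout q hq
      · exact hout q' hq'
      · exact hz
  obtain ⟨h, hh, hhx⟩ := Compute.m11_outside_tupleTrans _ ht.1 ht.2 rfl
  obtain ⟨hm, hhd, hhp⟩ := Compute.mem_cfgDodPt hh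
  simp only [List.map_cons, List.map_nil, List.cons.injEq] at hhx
  have hpair : Compute.suppM Compute.cfgDodPairRoot =
      {Compute.rep24.pt Compute.cfgDodPtORoot, Compute.rep24.pt Compute.cfgDodPtOORoot} := by
    have hscan : (List.range 24).all (fun i => Compute.cfgDodPairRoot.testBit i ==
        (Nat.beq i Compute.cfgDodPtORoot || Nat.beq i Compute.cfgDodPtOORoot)) = true := by
      decide +kernel
    ext z
    have h := List.all_eq_true.mp hscan _ (List.mem_range.mpr (Compute.ptIdx_lt z))
    rw [beq_iff_eq] at h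
    rw [Compute.mem_suppM, h, Finset.mem_insert, Finset.mem_singleton, Bool.or_eq_true,
      Nat.beq_eq, Nat.beq_eq]
    constructor
    · rintro (e | e)
      · left; rw [← e, Compute.rep24_pt_ptIdx]
      · right; rw [← e, Compute.rep24_pt_ptIdx]
    · rintro (e | e)
      · left; rw [e, Compute.ptIdx_rep24 Compute.root_lt_DodPtO]
      · right; rw [e, Compute.ptIdx_rep24 Compute.root_lt_DodPtOO]
  have hinv : ∀ {γ : Type} [MulAction (Equiv.Perm Cfsg.GolayPt) γ] {x : γ}, h • x = x → h⁻¹ • x = x :=
    fun {γ} _ {x} e => inv_smul_eq_iff.mpr e.symm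
  have hd' : (h⁻¹ * g) • d = Compute.suppM Compute.cfgDodRoot := by
    rw [mul_smul, hgd, hinv hhd]
  have hp' : (h⁻¹ * g) • p = Compute.rep24.pt 0 := by
    rw [mul_smul, hgp]; exact hinv hhp
  have hq0 : (h⁻¹ * g) • ({q, q'} : Finset Cfsg.GolayPt) = Compute.suppM Compute.cfgDodPairRoot := by
    rw [hpair, Finset.smul_finset_insert, Finset.smul_finset_singleton, mul_smul, mul_smul,
      inv_smul_eq_iff.mpr (show g • q = h • Compute.rep24.pt Compute.cfgDodPtORoot from hhx.1.symm),
      inv_smul_eq_iff.mpr (show g • q' = h • Compute.rep24.pt Compute.cfgDodPtOORoot from hhx.2.1.symm)]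
  have hc := Compute.conjTo_three (mul_mem (inv_mem hm) hg) hd' hp' hq0
    (fun _ => Compute.mem_cfgDodPair_iff)
  obtain ⟨e⟩ := Compute.nonempty_equiv_perm (k := 5) (m := 0x4014c)
    Compute.stabDodPair_spec.1 (by decide +kernel) (by decide +kernel) (by decide +kernel)
    (by decide +kernel)
  obtain ⟨e0⟩ := hc.nonempty_mulEquiv
  exact ⟨e0.trans e⟩

end Cfsg.Agent.S1602
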