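import Cfsg.Statements.S1603
import Cfsg.Agent.Compute.M11Involutions
import Cfsg.Agent.Compute.MathieuActions

set_option autoImplicit false
open scoped Pointwise
open Cfsg

namespace Cfsg.Agent.S1603

/-- Isomorphisms and conjugations carry centralisers of singletons to centralisers. -/
theorem cent_map {G H : Type*} [Group G] [Group H] (e : G ≃* H) (x : G) :
    Nonempty (↥(Subgroup.centralizer ({x} : Set G)) ≃* ↥(Subgroup.centralizer ({e x} : Set H))) := by
  refine ⟨(e.subgroupMap _).trans (MulEquiv.subgroupCongr ?_)⟩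
  ext u
  rw [Subgroup.mem_centralizer_singleton_iff, Subgroup.mem_map]
  constructor
  · rintro ⟨v, hv, rfl⟩
    rw [Subgroup.mem_centralizer_singleton_iff] at hv
    change e v * e x = e x * e v
    rw [← map_mul, hv, map_mul]
  · intro h
    refine ⟨e.symm u, ?_, e.apply_symm_apply u⟩
    rw [Subgroup.mem_centralizer_singleton_iff, ← e.apply_eq_iff_eq, map_mul, map_mul,
      e.apply_symm_apply]
    exact h

/-- Involution centralisers in the smallest Mathieu group are isomorphic to GL(2, 3). -/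
theorem result (d : Finset Cfsg.GolayPt) (hd : d ∈ Cfsg.dodecads) (p : Cfsg.GolayPt) (hp : p ∈ d) (x : ↥(MulAction.stabilizer Cfsg.M24 d ⊓ MulAction.stabilizer Cfsg.M24 p)) (hx : orderOf x = 2) : Nonempty (↥(Subgroup.centralizer ({x} : Set ↥(MulAction.stabilizer Cfsg.M24 d ⊓ MulAction.stabilizer Cfsg.M24 p))) ≃* GL (Fin 2) (ZMod 3)) := by
  obtain ⟨e⟩ := Compute.nonempty_stab_dodecad_point hd hp
  obtain ⟨t, -, hcent, hconj⟩ := Compute.m11_involutions
  obtain ⟨c, hc⟩ := isConj_iff.mp (hconj (e x) (by rw [MulEquiv.orderOf_eq, hx]))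
  obtain ⟨f₁⟩ := cent_map e x
  obtain ⟨f₂⟩ := cent_map (MulAut.conj c) t
  rw [MulAut.conj_apply, hc] at f₂
  exact ⟨(f₁.trans f₂.symm).trans
    ((MulEquiv.subgroupCongr hcent).trans (MonoidHom.ofInjective Compute.glM11_injective).symm)⟩

end Cfsg.Agent.S1603
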