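import Cfsg.Statements.S1604
import Cfsg.Agent.Compute.MathieuMoves

set_option autoImplicit false
open scoped Pointwise
open Cfsg

namespace Cfsg.Agent.S1604

/-- A hexad stabiliser in the two-point stabiliser has orbits of sizes 1, 16, 60 on the 77 hexads: the 16 hexads disjoint from it and the 60 meeting it in two points. -/
theorem result (p q : Cfsg.GolayPt) (hpq : p ≠ q) (o o' o'' : Finset Cfsg.GolayPt) (ho : o ∈ Cfsg.octads) (ho' : o' ∈ Cfsg.octads) (ho'' : o'' ∈ Cfsg.octads) (hp : p ∈ o ∧ p ∈ o' ∧ p ∈ o'') (hq : q ∈ o ∧ q ∈ o' ∧ q ∈ o'') (h : (o ∩ o').card = (o ∩ o'').card) : {x : Finset Cfsg.GolayPt | x ∈ Cfsg.octads ∧ p ∈ x ∧ q ∈ x ∧ (o ∩ x).card = 2}.ncard = 16 ∧ {x : Finset Cfsg.GolayPt | x ∈ Cfsg.octads ∧ p ∈ x ∧ q ∈ x ∧ (o ∩ x).card = 4}.ncard = 60 ∧ ∃ g : Equiv.Perm Cfsg.GolayPt, g ∈ Cfsg.M24 ∧ g p = p ∧ g q = q ∧ g • o = o ∧ g • o' = o'' := by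
  obtain ⟨g, hg, hgp, hgq, hgo⟩ := Compute.exists_move_pqOct hpq ho Compute.pqRoots_mem.1
    (iff_of_true hp.1 Compute.pqRoots_pts.1.1) (iff_of_true hq.1 Compute.pqRoots_pts.1.2)
  have key : ∀ v : ℕ, {x : Finset Cfsg.GolayPt | x ∈ Cfsg.octads ∧ p ∈ x ∧ q ∈ x ∧ (o ∩ x).card = v}.ncard =
      {X : Finset Cfsg.GolayPt | X ∈ Cfsg.octads ∧ Compute.invPQBothOct X = v + 48}.ncard := fun v =>
    Compute.ncard_setOf_smul g fun X => by
      unfold Compute.invPQBothOct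
      rw [← hgo, ← hgp, ← hgq, Compute.card_inter_smul, Compute.smul_mem_octads_iff hg]
      simp only [Finset.smul_mem_smul_finset_iff]
      have hle : (o ∩ X).card ≤ 8 := le_of_le_of_eq (Finset.card_le_card Finset.inter_subset_left) ho.2
      by_cases h1 : p ∈ X <;> by_cases h2 : q ∈ X <;> simp [h1, h2] <;> omega
  refine ⟨?_, ?_, ?_⟩
  · rw [key]; refine Compute.partsPQBothOct.2 _ _ ?_; decide +kernel
  · rw [key]; refine Compute.partsPQBothOct.2 _ _ ?_; decide +kernel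
  obtain ⟨u, hu, hX⟩ := Compute.partsPQBothOct.1 _ ((Compute.smul_mem_octads_iff hg).mpr ho') _
    ((Compute.smul_mem_octads_iff hg).mpr ho'')
    (by
      unfold Compute.invPQBothOct
      rw [← hgo, ← hgp, ← hgq, Compute.card_inter_smul, Compute.card_inter_smul, h]
      simp only [Finset.smul_mem_smul_finset_iff, hp.2.1, hp.2.2, hq.2.1, hq.2.2, if_true])
  obtain ⟨hm, h23, h0, hfix⟩ := Compute.mem_cfgPQBoth hu
  exact ⟨_, Compute.conj_mem hg hm, Compute.fix_conj hgp h23, Compute.fix_conj hgq h0,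
    Compute.fix_conj hgo hfix, Compute.map_conj hX⟩

end Cfsg.Agent.S1604
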