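import Cfsg.Statements.S1605
import Cfsg.Agent.Compute.MathieuMoves

set_option autoImplicit false
open scoped Pointwise
open Cfsg

namespace Cfsg.Agent.S1605

/-- The two-point stabiliser acts on the 176 octads through the first point avoiding the second with rank 3 and subdegrees 1, 70, 105 (intersections 8, 2, 4). -/
theorem result (p q : Cfsg.GolayPt) (hpq : p ≠ q) : {x : Finset Cfsg.GolayPt | (x ∈ Cfsg.octads ∧ p ∈ x ∧ q ∉ x)}.ncard = 176 ∧ (∀ o o' : Finset Cfsg.GolayPt, (o ∈ Cfsg.octads ∧ p ∈ o ∧ q ∉ o) → (o' ∈ Cfsg.octads ∧ p ∈ o' ∧ q ∉ o') → ∃ g : Equiv.Perm Cfsg.GolayPt, g ∈ Cfsg.M24 ∧ g p = p ∧ g q = q ∧ g • o = o') ∧ ∀ o : Finset Cfsg.GolayPt, (o ∈ Cfsg.octads ∧ p ∈ o ∧ q ∉ o) → {x : Finset Cfsg.GolayPt | (x ∈ Cfsg.octads ∧ p ∈ x ∧ q ∉ x) ∧ (o ∩ x).card = 2}.ncard = 70 ∧ {x : Finset Cfsg.GolayPt | (x ∈ Cfsg.octads ∧ p ∈ x ∧ q ∉ x) ∧ (o ∩ x).card = 4}.ncard = 105 ∧ ∀ o'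 o'' : Finset Cfsg.GolayPt, (o' ∈ Cfsg.octads ∧ p ∈ o' ∧ q ∉ o') → (o'' ∈ Cfsg.octads ∧ p ∈ o'' ∧ q ∉ o'') → (o ∩ o').card = (o ∩ o'').card → ∃ g : Equiv.Perm Cfsg.GolayPt, g ∈ Cfsg.M24 ∧ g p = p ∧ g q = q ∧ g • o = o ∧ g • o' = o'' := by
  have hcount : {X : Finset Cfsg.GolayPt | X ∈ Cfsg.octads ∧ Compute.invPQOct X = 2}.ncard = 176 :=
    Compute.partsPQOct.2 _ _ (by decide +kernel)
  obtain ⟨g₀, hg₀, hg₀p, hg₀q⟩ := Compute.exists_move_pq hpq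
  refine ⟨?_, ?_, ?_⟩
  · rw [← hcount]
    refine Compute.ncard_setOf_smul g₀ fun X => ?_
    unfold Compute.invPQOct
    rw [← hg₀p, ← hg₀q, Compute.smul_mem_octads_iff hg₀]
    simp only [Finset.smul_mem_smul_finset_iff]
    by_cases h1 : p ∈ X <;> by_cases h2 : q ∈ X <;> simp [h1, h2]
  · rintro o o' ⟨ho, hop, hoq⟩ ⟨ho', hop', hoq'⟩
    obtain ⟨u, hu, hX⟩ := Compute.partsPQOct.1 _ ((Compute.smul_mem_octads_iff hg₀).mpr ho) _
      ((Compute.smul_mem_octads_iff hg₀).mpr ho')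
      (by
        unfold Compute.invPQOct
        rw [← hg₀p, ← hg₀q]
        simp only [Finset.smul_mem_smul_finset_iff, hop, hop', hoq, hoq'])
    obtain ⟨hm, h23, h0⟩ := Compute.mem_cfgPQ hu
    exact ⟨_, Compute.conj_mem hg₀ hm, Compute.fix_conj hg₀p h23, Compute.fix_conj hg₀q h0,
      Compute.map_conj hX⟩
  rintro o ⟨ho, hop, hoq⟩
  obtain ⟨g, hg, hgp, hgq, hgo⟩ := Compute.exists_move_pqOct hpq ho Compute.pqRoots_mem.2.1
    (iff_of_true hop Compute.pqRoots_pts.2.1.1) (iff_of_false hoq Compute.pqRoots_pts.2.1.2)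
  have key : ∀ v : ℕ, v ≤ 8 → {x : Finset Cfsg.GolayPt | (x ∈ Cfsg.octads ∧ p ∈ x ∧ q ∉ x) ∧ (o ∩ x).card = v}.ncard =
      {X : Finset Cfsg.GolayPt | X ∈ Cfsg.octads ∧ Compute.invPQOneOct X = v + 16}.ncard := fun v hv =>
    Compute.ncard_setOf_smul g fun X => by
      unfold Compute.invPQOneOct
      rw [← hgo, ← hgp, ← hgq, Compute.card_inter_smul, Compute.smul_mem_octads_iff hg]
      simp only [Finset.smul_mem_smul_finset_iff]
      have hle : (o ∩ X).card ≤ 8 := le_of_le_of_eq (Finset.card_le_card Finset.inter_subset_left) ho.2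
      by_cases h1 : p ∈ X <;> by_cases h2 : q ∈ X <;> simp [h1, h2] <;> omega
  refine ⟨?_, ?_, ?_⟩
  · rw [key _ (by norm_num)]; refine Compute.partsPQOneOct.2 _ _ ?_; decide +kernel
  · rw [key _ (by norm_num)]; refine Compute.partsPQOneOct.2 _ _ ?_; decide +kernel
  rintro o' o'' ⟨ho', hp', hq'⟩ ⟨ho'', hp'', hq''⟩ h
  obtain ⟨u, hu, hX⟩ := Compute.partsPQOneOct.1 _ ((Compute.smul_mem_octads_iff hg).mpr ho') _
    ((Compute.smul_mem_octads_iff hg).mpr ho'')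
    (by
      unfold Compute.invPQOneOct
      rw [← hgo, ← hgp, ← hgq, Compute.card_inter_smul, Compute.card_inter_smul, h]
      simp only [Finset.smul_mem_smul_finset_iff, hp', hp'', hq', hq''])
  obtain ⟨hm, h23, h0, hfix⟩ := Compute.mem_cfgPQOne hu
  exact ⟨_, Compute.conj_mem hg hm, Compute.fix_conj hgp h23, Compute.fix_conj hgq h0,
    Compute.fix_conj hgo hfix, Compute.map_conj hX⟩

end Cfsg.Agent.S1605
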