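import Cfsg.Statements.S1606
import Cfsg.Agent.Compute.TwentyTwoIndex

set_option autoImplicit false
open Cfsg

namespace Cfsg.Agent.S1606

open MulAction
open scoped Pointwise

/-- An element of M24 fixing a list of points and moving one small set to another. -/
theorem exists_fix_move (F : List GolayPt) {A B : Finset GolayPt} (hF : F.Nodup)
    (hA : ∀ f ∈ F, f ∉ A) (hB : ∀ f ∈ F, f ∉ B) (hAB : A.card = B.card) (h5 : F.length + A.card ≤ 5) :
    ∃ g : ↥M24, (∀ f ∈ F, g • f = f) ∧ g • A = B := by
  classical
  obtain ⟨a, ha, hax⟩ := Compute.exists_move5 (F ++ A.toList)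
    (List.nodup_append.2 ⟨hF, A.nodup_toList, fun f hf v hv e => hA f hf (e ▸ Finset.mem_toList.1 hv)⟩)
    (by simp; omega)
  obtain ⟨b, hb, hbx⟩ := Compute.exists_move5 (F ++ B.toList)
    (List.nodup_append.2 ⟨hF, B.nodup_toList, fun f hf v hv e => hB f hf (e ▸ Finset.mem_toList.1 hv)⟩)
    (by simp; omega)
  rw [List.length_append, Finset.length_toList, hAB] at hax
  rw [List.length_append, Finset.length_toList, ← hax, List.map_append, List.map_append] at hbx
  obtain ⟨h1, h2⟩ := List.append_inj hbx (by simp)
  refine ⟨⟨b⁻¹ * a, mul_mem (inv_mem hb) ha⟩, fun f hf => ?_, ?_⟩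
  · show b⁻¹ (a f) = f
    rw [← List.map_inj_left.1 h1 f hf]
    exact b.symm_apply_apply f
  · show A.image (fun v => b⁻¹ (a v)) = B
    have h3 : A.toList.map (fun v => b⁻¹ (a v)) = B.toList := by
      rw [← List.map_id B.toList, show (fun v => b⁻¹ (a v)) = (b⁻¹ : Equiv.Perm GolayPt) ∘ a from rfl,
        ← List.map_map, ← h2, List.map_map]
      exact List.map_congr_left fun v _ => b.symm_apply_apply v
    ext v
    rw [Finset.mem_image, ← Finset.mem_toList (s := B), ← h3, List.mem_map]
    simp only [Finset.mem_toList]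

/-- The stabiliser of two points in the group of the length-24 code has no subgroups of index 56 or 210. -/
theorem result (p q : Cfsg.GolayPt) (hpq : p ≠ q) (H : Subgroup ↥(MulAction.stabilizer Cfsg.M24 p ⊓ MulAction.stabilizer Cfsg.M24 q)) : H.index ≠ 56 ∧ H.index ≠ 210 := by
  classical
  have hG : Nat.card ↥(stabilizer M24 p ⊓ stabilizer M24 q) = 443520 := by
    obtain ⟨e⟩ := Compute.nonempty_stab2 p q hpq
    rw [Nat.card_congr e.toEquiv, Compute.card_m22]
  have hmul := H.card_mul_index
  rw [hG] at hmul
  refine ⟨fun h => ?_, fun h => ?_⟩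
  · rw [h] at hmul
    set Y : Finset GolayPt := (Finset.univ.erase p).erase q with hYdef
    have hmemY : ∀ v, v ∈ Y ↔ v ≠ q ∧ v ≠ p := fun v => by simp [hYdef]
    refine Compute.M22Index.false_of_index_fiftysix H h (by omega) Y ?_ (fun g => ?_) ?_ ?_
    · rw [Finset.card_erase_of_mem (by simp [hpq.symm]), Finset.card_erase_of_mem (Finset.mem_univ p),
        Finset.card_univ]
      rfl
    · ext v
      have hp : g • p = p := g.2.1
      have hq : g • q = q := g.2.2
      rw [← Finset.inv_smul_mem_iff, hmemY, hmemY, ne_eq, inv_smul_eq_iff, hq, ne_eq, inv_smul_eq_iff, hp]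
    · intro A B hA hB hAB h2
      obtain ⟨g, hg, hgA⟩ := exists_fix_move [p, q] (A := A) (B := B) (by simp [hpq])
        (by intro f hf hfA
            have := (hmemY f).1 (hA hfA)
            simp at hf; tauto)
        (by intro f hf hfA
            have := (hmemY f).1 (hB hfA)
            simp at hf; tauto) hAB (by simp; omega)
      exact ⟨⟨g, hg p (by simp), hg q (by simp)⟩, hgA⟩
    · intro r hr A B hA hB hAB h2
      obtain ⟨hrq, hrp⟩ := (hmemY r).1 hr
      obtain ⟨g, hg, hgA⟩ := exists_fix_move [p, q, r] (A := A) (B := B)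
        (by simp [hpq, hrq.symm, hrp.symm])
        (by intro f hf hfA
            have h1 := Finset.mem_erase.1 (hA hfA)
            have := (hmemY f).1 h1.2
            simp at hf; tauto)
        (by intro f hf hfA
            have h1 := Finset.mem_erase.1 (hB hfA)
            have := (hmemY f).1 h1.2
            simp at hf; tauto) hAB (by simp; omega)
      exact ⟨⟨g, hg p (by simp), hg q (by simp)⟩, hg r (by simp), hgA⟩
  · rw [h] at hmul
    exact Compute.M22Index.false_of_card_2112 (H := ↥H) (by omega)
      ((stabilizer M24 p ⊓ stabilizer M24 q).subtype.comp H.subtype)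
      (Subtype.val_injective.comp Subtype.val_injective)

end Cfsg.Agent.S1606
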