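import Cfsg.Statements.S1608
import Cfsg.Agent.Compute.MathieuMoves

set_option autoImplicit false
open scoped Pointwise
open Cfsg

namespace Cfsg.Agent.S1608

/-- The point stabiliser acts on the 506 octads avoiding the point with rank 4 and subdegrees 1, 15, 210, 280, the suborbits being given by intersection size with the fixed octad. -/
theorem result (x : Cfsg.GolayPt) (o : Finset Cfsg.GolayPt) (ho : o ∈ Cfsg.octads) (hx : x ∉ o) : {o' : Finset Cfsg.GolayPt | o' ∈ Cfsg.octads ∧ x ∉ o' ∧ (o ∩ o').card = 0}.ncard = 15 ∧ {o' : Finset Cfsg.GolayPt | o' ∈ Cfsg.octads ∧ x ∉ o' ∧ (o ∩ o').card = 4}.ncard = 210 ∧ {o' : Finset Cfsg.GolayPt | o' ∈ Cfsg.octads ∧ x ∉ o' ∧ (o ∩ o').card = 2}.ncard = 280 ∧ ∀ o' o'' : Finset Cfsg.GolayPt, o' ∈ Cfsg.octads → o'' ∈ Cfsg.octads → x ∉ o' → x ∉ o'' → (o ∩ o').card = (o ∩ o'').card → ∃ g : Equiv.Perm Cfsg.GolayPt, g ∈ Cfsg.M24 ∧ g x = x ∧ g • o = o ∧ g • o' = o'' := by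
  obtain ⟨g, hg, hgo, hgx⟩ := Compute.exists_move_octOut ho hx
  have key : ∀ v : ℕ, v ≤ 8 → {o' : Finset Cfsg.GolayPt | o' ∈ Cfsg.octads ∧ x ∉ o' ∧ (o ∩ o').card = v}.ncard =
      {X : Finset Cfsg.GolayPt | X ∈ Cfsg.octads ∧ Compute.invOctOutOct X = v + 0}.ncard := fun v hv =>
    Compute.ncard_setOf_smul g fun X => by
      unfold Compute.invOctOutOct
      rw [← hgo, ← hgx, Compute.card_inter_smul, Compute.smul_mem_octads_iff hg]
      simp only [Finset.smul_mem_smul_finset_iff]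
      have hle : (o ∩ X).card ≤ 8 := le_of_le_of_eq (Finset.card_le_card Finset.inter_subset_left) ho.2
      by_cases h1 : x ∈ X <;> simp [h1] <;> omega
  refine ⟨?_, ?_, ?_, ?_⟩
  · rw [key _ (by norm_num)]; refine Compute.partsOctOutOct.2 _ _ ?_; decide +kernel
  · rw [key _ (by norm_num)]; refine Compute.partsOctOutOct.2 _ _ ?_; decide +kernel
  · rw [key _ (by norm_num)]; refine Compute.partsOctOutOct.2 _ _ ?_; decide +kernel
  intro o' o'' ho' ho'' hx' hx'' h
  obtain ⟨u, hu, hX⟩ := Compute.partsOctOutOct.1 _ ((Compute.smul_mem_octads_iff hg).mpr ho') _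
    ((Compute.smul_mem_octads_iff hg).mpr ho'')
    (by
      unfold Compute.invOctOutOct
      rw [← hgo, ← hgx, Compute.card_inter_smul, Compute.card_inter_smul, h]
      simp only [Finset.smul_mem_smul_finset_iff, hx', hx''])
  obtain ⟨hm, hfix, hpt⟩ := Compute.mem_cfgOctOut hu
  exact ⟨_, Compute.conj_mem hg hm, Compute.fix_conj hgx hpt, Compute.fix_conj hgo hfix,
    Compute.map_conj hX⟩

end Cfsg.Agent.S1608
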