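import Cfsg.Statements.S1610
import Cfsg.Agent.SmallCodes.Hexacode

set_option autoImplicit false
open Cfsg

namespace Cfsg.Agent.S1610

/-- The hexacode has 64 words, minimum weight 4, and weight distribution 0^1 4^45 6^18. -/
theorem result (F : Type*) [Field F] [Fintype F] [DecidableEq F] (hF : Fintype.card F = 4) (ω : F) (hω : ω ^ 2 + ω + 1 = 0) : Nat.card ↥(Cfsg.hexacode F ω) = 64 ∧ (∀ x ∈ Cfsg.hexacode F ω, x ≠ 0 → (Finset.univ.filter fun i => x i ≠ 0).card = 4 ∨ (Finset.univ.filter fun i => x i ≠ 0).card = 6) ∧ {x : Fin 6 → F | x ∈ Cfsg.hexacode F ω ∧ (Finset.univ.filter fun i => x i ≠ 0).card = 4}.ncard = 45 ∧ {x : Fin 6 → F | x ∈ Cfsg.hexacode F ω ∧ (Finset.univ.filter fun i => x i ≠ 0).card = 6}.ncard = 18 := by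
  classical
  have h2 : (2 : F) = 0 := by
    have h4 : ((4 : ℕ) : F) = 0 := hF ▸ Nat.cast_card_eq_zero F
    have : (2 : F) * 2 = 0 := by rw [← h4]; norm_num
    simpa using this
  refine ⟨Agent.SmallCodes.hexacode_card hω h2 hF, fun x hx h0 => ?_, ?_, ?_⟩
  · obtain ⟨a, rfl⟩ := (Agent.SmallCodes.mem_hexacode_iff hω h2 hF).1 hx
    rw [Agent.SmallCodes.qWt_eq hω h2 hF]
    exact Agent.SmallCodes.hexW_wt a fun h => h0 (by rw [h]; rfl)
  all_goals
    rw [Agent.SmallCodes.hexacode_ncard hω h2 hF]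
    decide +kernel

end Cfsg.Agent.S1610
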