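import Cfsg.Statements.S1612
import Cfsg.Agent.S1613

set_option autoImplicit false
open Cfsg

namespace Cfsg.Agent.S1612

/-- An element mapping a finite set into itself normalises it. -/
theorem normalizer_of_maps {G : Type*} [Group G] [Finite G] {E : Set G} {k : G}
    (hk : ∀ e ∈ E, k * e * k⁻¹ ∈ E) : k ∈ Subgroup.normalizer E := by
  have heq : (fun x => k * x * k⁻¹) '' E = E := by
    refine Set.eq_of_subset_of_ncard_le (by rintro - ⟨e, he, rfl⟩; exact hk e he) ?_ (Set.toFinite E)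
    rw [Set.ncard_image_of_injective _ fun a b h => mul_left_cancel (mul_right_cancel h)]
  rw [Subgroup.mem_normalizer_iff_conj_image_eq]
  exact heq

/-- A commuting set of involutions generates a 2-group. -/
theorem isPGroup_closure {G : Type*} [Group G] {E : Set G} (hsq : ∀ a ∈ E, a * a = 1)
    (hc : ∀ a ∈ E, ∀ b ∈ E, Commute a b) : IsPGroup 2 (Subgroup.closure E) := by
  have h : ∀ m ∈ Subgroup.closure E, m ^ 2 = 1 ∧ ∀ c ∈ E, Commute m c := by
    intro m hm
    induction hm using Subgroup.closure_induction with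
    | mem a ha => exact ⟨by rw [sq, hsq a ha], hc a ha⟩
    | one => exact ⟨one_pow 2, fun c _ => Commute.one_left c⟩
    | mul a b _ hb' ha hb =>
      have hle : Subgroup.closure E ≤ Subgroup.centralizer {a} := by
        rw [Subgroup.closure_le]
        intro c hc'
        exact Subgroup.mem_centralizer_singleton_iff.2 (ha.2 c hc').symm.eq
      have hab : Commute a b := (Subgroup.mem_centralizer_singleton_iff.1 (hle hb')).symm
      exact ⟨by rw [hab.mul_pow, ha.1, hb.1, one_mul],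
        fun c hc' => (ha.2 c hc').mul_left (hb.2 c hc')⟩
    | inv a _ ha => exact ⟨by rw [inv_pow, ha.1, inv_one], fun c hc' => (ha.2 c hc').inv_left⟩
  exact fun m => ⟨1, Subtype.ext (by simpa using (h m.1 m.2).1)⟩

/-- A 2-subgroup containing a maximum commuting set meets the class in that set only. -/
theorem mem_of_mem_two {G : Type*} [Group G] [Finite G] {D E : Set G}
    (hD : Cfsg.IsThreeTranspositionSet D) (hE : E ⊆ D)
    (hmax : ∀ E' : Set G, E' ⊆ D → (∀ a ∈ E', ∀ b ∈ E', Commute a b) → E'.ncard ≤ E.ncard)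
    {T : Subgroup G} (hT : IsPGroup 2 T) (hET : E ⊆ T) {d : G} (hd : d ∈ D) (hdT : d ∈ T) :
    d ∈ E := by
  by_contra hdE
  have h := hmax (insert d E) (Set.insert_subset hd hE) (by
    intro a ha b hb
    have hmem : ∀ x ∈ insert d E, x ∈ D ∧ x ∈ T := by
      rintro x (rfl | hx)
      exacts [⟨hd, hdT⟩, ⟨hE hx, hET hx⟩]
    exact ThreeTrans.commute_of_mem_two hD hT (hmem a ha).1 (hmem b hb).1 (hmem a ha).2 (hmem b hb).2)
  rw [Set.ncard_insert_of_notMem hdE (Set.toFinite E)] at h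
  omega

/-- Two maximum commuting sets in a subgroup are conjugate in it. -/
theorem exists_conj_in {G : Type*} [Group G] [Finite G] {D E : Set G}
    (hD : Cfsg.IsThreeTranspositionClass D) (hE : E ⊆ D) (hc : ∀ a ∈ E, ∀ b ∈ E, Commute a b)
    (hmax : ∀ E' : Set G, E' ⊆ D → (∀ a ∈ E', ∀ b ∈ E', Commute a b) → E'.ncard ≤ E.ncard)
    (g : G) (H : Subgroup G) (hH : E ⊆ H) (hH' : ∀ e ∈ E, g * e * g⁻¹ ∈ H) :
    ∃ h ∈ H, h * g ∈ Subgroup.normalizer E := by
  have : Fact (Nat.Prime 2) := ⟨Nat.prime_two⟩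
  have hc' := ThreeTrans.class_conj hD
  have hTS := hD.1
  have hA : IsPGroup 2 (Subgroup.closure E) :=
    isPGroup_closure (fun a ha => ThreeTrans.mul_self hTS (hE ha)) hc
  have hA' : IsPGroup 2 (Subgroup.closure ((fun x => g * x * g⁻¹) '' E)) := by
    refine isPGroup_closure ?_ ?_
    · rintro - ⟨a, ha, rfl⟩
      exact ThreeTrans.mul_self hTS (hc' g a (hE ha))
    · rintro - ⟨a, ha, rfl⟩ - ⟨b, hb, rfl⟩
      exact (ThreeTrans.commute_conj g a b).2 (hc a ha b hb)
  have hAH : Subgroup.closure E ≤ H := (Subgroup.closure_le H).2 hH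
  have hAH' : Subgroup.closure ((fun x => g * x * g⁻¹) '' E) ≤ H := by
    rw [Subgroup.closure_le]; rintro - ⟨a, ha, rfl⟩; exact hH' a ha
  obtain ⟨P, hP⟩ := (hA.comap_subtype (K := H)).exists_le_sylow
  obtain ⟨P', hP'⟩ := (hA'.comap_subtype (K := H)).exists_le_sylow
  obtain ⟨h, hh⟩ := MulAction.exists_smul_eq H P' P
  refine ⟨h, h.2, ?_⟩
  set T : Subgroup G := (P : Subgroup H).map H.subtype with hT
  have hTp : IsPGroup 2 T := P.isPGroup'.map _
  have hET : E ⊆ T := fun e he =>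
    ⟨⟨e, hH he⟩, hP (show e ∈ Subgroup.closure E from Subgroup.subset_closure he), rfl⟩
  have hmaps : ∀ e ∈ E, (h : G) * g * e * ((h : G) * g)⁻¹ ∈ E := by
    intro e he
    refine mem_of_mem_two hTS hE hmax hTp hET (hc' _ e (hE he)) ?_
    have h1 : (⟨g * e * g⁻¹, hH' e he⟩ : H) ∈ P' :=
      hP' (show g * e * g⁻¹ ∈ Subgroup.closure ((fun x => g * x * g⁻¹) '' E) from Subgroup.subset_closure ⟨e, he, rfl⟩)
    refine ⟨h * ⟨g * e * g⁻¹, hH' e he⟩ * h⁻¹, ?_, ?_⟩
    · rw [SetLike.mem_coe, ← hh]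
      exact ⟨_, h1, rfl⟩
    · show (h : G) * (g * e * g⁻¹) * (h : G)⁻¹ = _
      group
  exact normalizer_of_maps hmaps

/-- In a 3-transposition group (no solvable normal subgroup, perfect derived group), the normaliser of a commuting set of transpositions of maximum size contains a Sylow 2-subgroup and is doubly transitive on the set. -/
theorem result {G : Type*} [Group G] [Finite G] (hsol : ∀ N : Subgroup G, N.Normal → Group.IsSolvable ↥N → N = ⊥) (hperf : ⁅commutator G, commutator G⁆ = commutator G) {D : Set G} (hD : Cfsg.IsThreeTranspositionClass D) {E : Set G} (hE : E ⊆ D) (hc : ∀ a ∈ E, ∀ b ∈ E, Commute a b) (hmax : ∀ E' : Set G, E' ⊆ D → (∀ a ∈ E', ∀ b ∈ E', Commute a b) → E'.ncard ≤ E.ncard) : (∃ P : Sylow 2 G, (P : Subgroup G) ≤ Subgroup.normalizer E) ∧ ∀ a ∈ E, ∀ b ∈ E, ∀ c ∈ E, ∀ d ∈ E, a ≠ b → c ≠ d → ∃ g ∈ Subgroup.normalizer E, g * a * g⁻¹ = c ∧ g * b * g⁻¹ = d := by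
  have : Fact (Nat.Prime 2) := ⟨Nat.prime_two⟩
  have hTS := hD.1
  have hc' := ThreeTrans.class_conj hD
  have hA : IsPGroup 2 (Subgroup.closure E) :=
    isPGroup_closure (fun a ha => ThreeTrans.mul_self hTS (hE ha)) hc
  refine ⟨?_, ?_⟩
  · obtain ⟨P, hP⟩ := hA.exists_le_sylow
    refine ⟨P, fun g hg => normalizer_of_maps fun e he => ?_⟩
    have heP : e ∈ (P : Subgroup G) := hP (Subgroup.subset_closure he)
    exact mem_of_mem_two hTS hE hmax P.isPGroup' (fun x hx => hP (Subgroup.subset_closure hx))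
      (hc' g e (hE he)) (mul_mem (mul_mem hg heP) (inv_mem hg))
  intro a ha b hb c hcE d hd hab hcd
  -- move `a` to `c`
  obtain ⟨g, hg⟩ := ThreeTrans.class_isConj hD (hE ha) (hE hcE)
  have hcen : ∀ x ∈ E, x ∈ Subgroup.centralizer ({c} : Set G) := fun x hx =>
    Subgroup.mem_centralizer_singleton_iff.2 (hc x hx c hcE).eq
  obtain ⟨h, hh, hk⟩ := exists_conj_in hD hE hc hmax g (Subgroup.centralizer {c})
    hcen (fun e he => by
      rw [Subgroup.mem_centralizer_singleton_iff, ← hg]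
      exact ((ThreeTrans.commute_conj g e a).2 (hc e he a ha)).eq)
  have hhc : h * c * h⁻¹ = c := by
    rw [Subgroup.mem_centralizer_singleton_iff.1 hh, mul_inv_cancel_right]
  set k := h * g with hkdef
  have hka : k * a * k⁻¹ = c := by
    rw [hkdef, show h * g * a * (h * g)⁻¹ = h * (g * a * g⁻¹) * h⁻¹ by group, hg, hhc]
  set b' := k * b * k⁻¹ with hb'
  have hb'E : b' ∈ E := (Subgroup.mem_set_normalizer_iff.1 hk b).1 hb
  have hb'c : b' ≠ c := fun hh => hab (by
    rw [hb', ← hka] at hh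
    exact (mul_left_cancel (mul_right_cancel hh)).symm)
  -- move `b'` to `d` fixing `c`
  obtain ⟨s, hs, hsb⟩ := S1613.result hsol hperf hD c (hE hcE) b'
    ⟨hE hb'E, hb'c, hc c hcE b' hb'E⟩ d ⟨hE hd, hcd.symm, hc c hcE d hd⟩
  have hsc : s * c * s⁻¹ = c := by
    have hle : Subgroup.closure {y : G | y ∈ D ∧ y ≠ c ∧ Commute c y} ≤
        Subgroup.centralizer ({c} : Set G) := by
      rw [Subgroup.closure_le]
      exact fun y hy => Subgroup.mem_centralizer_singleton_iff.2 hy.2.2.eq.symm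
    rw [Subgroup.mem_centralizer_singleton_iff.1 (hle hs), mul_inv_cancel_right]
  obtain ⟨h', hh', hk'⟩ := exists_conj_in hD hE hc hmax s
    (Subgroup.centralizer {c} ⊓ Subgroup.centralizer {d})
    (fun x hx => ⟨hcen x hx, Subgroup.mem_centralizer_singleton_iff.2 (hc x hx d hd).eq⟩)
    (fun e he => by
      refine Subgroup.mem_inf.2 ⟨?_, ?_⟩
      · rw [Subgroup.mem_centralizer_singleton_iff, ← hsc]
        exact ((ThreeTrans.commute_conj s e c).2 (hc e he c hcE)).eq
      · rw [Subgroup.mem_centralizer_singleton_iff, ← hsb]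
        exact ((ThreeTrans.commute_conj s e b').2 (hc e he b' hb'E)).eq)
  refine ⟨h' * s * k, mul_mem hk' hk, ?_, ?_⟩
  · rw [show h' * s * k * a * (h' * s * k)⁻¹ = h' * (s * (k * a * k⁻¹) * s⁻¹) * h'⁻¹ by group,
      hka, hsc, Subgroup.mem_centralizer_singleton_iff.1 hh'.1, mul_inv_cancel_right]
  · rw [show h' * s * k * b * (h' * s * k)⁻¹ = h' * (s * (k * b * k⁻¹) * s⁻¹) * h'⁻¹ by group,
      ← hb', hsb, Subgroup.mem_centralizer_singleton_iff.1 hh'.2, mul_inv_cancel_right]

end Cfsg.Agent.S1612
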