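import Cfsg.Statements.S1616
import Cfsg.Agent.ThreeTrans.SpPSU.Symp
import Cfsg.Agent.ThreeTrans.SpPSU.UnitaryIso

set_option autoImplicit false
open Cfsg

namespace Cfsg.Agent.S1616

/-- If O₂(⟨D_x⟩) is not central in ⟨D_x⟩ for some transposition x, the 3-transposition group is some Sp(2n, 2) or PSU(n, 2). -/
theorem result {G : Type*} [Group G] [Finite G] (hsol : ∀ N : Subgroup G, N.Normal → Group.IsSolvable ↥N → N = ⊥) (hperf : ⁅commutator G, commutator G⁆ = commutator G) {D : Set G} (hD : Cfsg.IsThreeTranspositionClass D) (x : G) (hx : x ∈ D) (h : ¬ Cfsg.pCore 2 ↥(Subgroup.closure {y : G | y ∈ D ∧ y ≠ x ∧ Commute x y}) ≤ Subgroup.center ↥(Subgroup.closure {y : G | y ∈ D ∧ y ≠ x ∧ Commute x y})) : (∃ n : ℕ, Nonempty (G ≃* Matrix.symplecticGroup (Fin n) (ZMod 2))) ∨ ∃ (F : Type) (_ : Field F) (_ : Fintype F) (n : ℕ), Fintype.card F = 4 ∧ Nonempty (G ≃* Cfsg.PSU n F 2) := by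
  classical
  have S : Cfsg.Agent.ThreeTrans.SpPSU.Hyp D :=
    Cfsg.Agent.ThreeTrans.SpPSU.hyp_of_core hsol hperf hD hx h
  obtain ⟨x₀, a₀, -, hx₀, ha₀, -⟩ := S.twins
  rcases S.three_or_five hx₀ ha₀ with hm | hm
  · exact Or.inl (Cfsg.Agent.ThreeTrans.SpPSU.exists_symplectic S fun u hu b hb => by
      rw [S.line_card hu hb hx₀ ha₀, hm])
  · right
    obtain ⟨e, he, hxe⟩ := Cfsg.Agent.ThreeTrans.exists_not_commute hD ⟨x₀, hx₀, a₀, ha₀.1, Ne.symm ha₀.2.1⟩ hx₀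
    have B : Cfsg.Agent.ThreeTrans.SpPSU.Base D x₀ e := ⟨S, hx₀, he, hxe⟩
    obtain ⟨C⟩ := B.exists_coord_four fun b hb => by rw [S.line_card hx₀ hb hx₀ ha₀, hm]
    have : Fintype (Cfsg.Agent.ThreeTrans.SpPSU.Rep D x₀ e) := Fintype.ofFinite _
    exact C.exists_psu

end Cfsg.Agent.S1616
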