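import Cfsg.Statements.S1629
import Cfsg.Agent.ThreeTrans.OrthClass
import Cfsg.Agent.Classical.QuadStd

set_option autoImplicit false
open scoped MatrixGroups
open Cfsg

namespace Cfsg.Agent.S1629

/-- The orthogonal transvections of the plus-type orthogonal group in dimension 2m ≥ 6 over the field with two elements form a generating conjugacy class of 3-transpositions. -/
theorem result (m : ℕ) (hm : 3 ≤ m) : Cfsg.IsThreeTranspositionClass {g : ↥(Cfsg.isometryGroup (ZMod 2) (Cfsg.quadFormPlus m (ZMod 2))) | (((g : GL (Fin m ⊕ Fin m) (ZMod 2)) : Matrix (Fin m ⊕ Fin m) (Fin m ⊕ Fin m) (ZMod 2)) - 1).rank = 1} := by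
  let Q : QuadraticForm (ZMod 2) (Fin m ⊕ Fin m → ZMod 2) :=
    (Classical.Quad.hyp (Classical.Quad.zeroForm (ZMod 2)) m).comp (Classical.Quad.plusCoord m).toLinearMap
  have hQ : ⇑Q = Cfsg.quadFormPlus m (ZMod 2) := funext fun v => Classical.Quad.plusCoord_map m v
  have hnd : (QuadraticMap.polarBilin Q).Nondegenerate := Classical.Quad.nondeg_of fun x hx => by
    refine (Classical.Quad.plusCoord m).map_eq_zero_iff.1
      ((Classical.Quad.nondeg_hyp (Classical.Quad.nondeg_zeroForm) m).1 _ fun y => ?_)
    obtain ⟨z, rfl⟩ := (Classical.Quad.plusCoord m).surjective y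
    have h := hx z
    simpa [Q, QuadraticMap.polar] using h
  have h := ThreeTrans.orth_class hnd (by simp; omega)
  rw [hQ] at h
  exact h

end Cfsg.Agent.S1629
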