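import Cfsg.Statements.S1632
import Cfsg.Agent.Theta24.Basic
-- import your own Cfsg.Agent.* helpers here

set_option autoImplicit false
open Matrix
open Cfsg

namespace Cfsg.Agent.S1632

theorem ncard_norm {B : Matrix (Fin 24) (Fin 24) ℤ} (h : Cfsg.Agent.Theta24.EvenUnimod B) (m : ℕ) :
    {x : Fin 24 → ℤ | x ⬝ᵥ (B *ᵥ x) = 2 * (m : ℤ)}.ncard = Cfsg.Agent.Theta24.rep B m := by
  rw [Cfsg.Agent.Theta24.rep]
  congr 1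
  ext x
  have h1 := Cfsg.Agent.Theta24.two_mul_halfNorm h x
  simp only [Set.mem_ofPred_eq]
  change Cfsg.Agent.Theta24.iq B x = 2 * (m : ℤ) ↔ _
  omega


/-- An even unimodular lattice of rank 24 without roots has 196560, 16773120 and 398034000 vectors of norms 4, 6 and 8. -/
theorem result (B : Matrix (Fin 24) (Fin 24) ℤ) (hsymm : B.IsSymm) (hpos : ∀ x : Fin 24 → ℤ, x ≠ 0 → 0 < x ⬝ᵥ (B *ᵥ x)) (heven : ∀ x : Fin 24 → ℤ, (2 : ℤ) ∣ x ⬝ᵥ (B *ᵥ x)) (hdet : B.det = 1) (h2 : ∀ x : Fin 24 → ℤ, x ⬝ᵥ (B *ᵥ x) ≠ 2) : {x : Fin 24 → ℤ | x ⬝ᵥ (B *ᵥ x) = 4}.ncard = 196560 ∧ {x : Fin 24 → ℤ | x ⬝ᵥ (B *ᵥ x) = 6}.ncard = 16773120 ∧ {x : Fin 24 → ℤ | x ⬝ᵥ (B *ᵥ x) = 8}.ncard = 398034000 := by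
  have h : Cfsg.Agent.Theta24.EvenUnimod B := ⟨hsymm, hpos, heven, hdet⟩
  obtain ⟨a, b, c⟩ := Cfsg.Agent.Theta24.rep_values h h2
  refine ⟨?_, ?_, ?_⟩
  · rw [← a, ← ncard_norm h 2]; norm_num
  · rw [← b, ← ncard_norm h 3]; norm_num
  · rw [← c, ← ncard_norm h 4]; norm_num

end Cfsg.Agent.S1632
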