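import Cfsg.Statements.S1633
import Cfsg.Agent.Leech.UnitModelU35
import Cfsg.Agent.Leech.UnitaryIso
import Cfsg.Agent.Leech.UnitaryStab
import Cfsg.Agent.Leech.HSRank5
-- import your own Cfsg.Agent.* helpers here

set_option autoImplicit false
open Cfsg

namespace Cfsg.Agent.S1633

/-- The Higman–Sims group acts transitively on 352 vectors, a set closed under x ↦ −w − x, with vector stabiliser isomorphic to PSU(3, 5). -/
theorem result (v w : ↥Cfsg.leechLattice) (hv : Cfsg.sqNorm (v : Cfsg.GolayPt → ℤ) = 48) (hw : Cfsg.sqNorm (w : Cfsg.GolayPt → ℤ) = 48) (hvw : Cfsg.dotInt (v : Cfsg.GolayPt → ℤ) (w : Cfsg.GolayPt → ℤ) = -32) (F : Type) [Field F] [Fintype F] (hF : Fintype.card F = 25) : {x : ↥Cfsg.leechLattice | Cfsg.sqNorm (x : Cfsg.GolayPt → ℤ) = 32 ∧ Cfsg.dotInt (v : Cfsg.GolayPt → ℤ) (x : Cfsg.GolayPt → ℤ) = 16 ∧ Cfsg.dotInt (w : Cfsg.GolayPt → ℤ) (x : Cfsg.GolayPt → ℤ) = -24}.ncard = 352 ∧ (∀ x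 ∈ {x : ↥Cfsg.leechLattice | Cfsg.sqNorm (x : Cfsg.GolayPt → ℤ) = 32 ∧ Cfsg.dotInt (v : Cfsg.GolayPt → ℤ) (x : Cfsg.GolayPt → ℤ) = 16 ∧ Cfsg.dotInt (w : Cfsg.GolayPt → ℤ) (x : Cfsg.GolayPt → ℤ) = -24}, -w - x ∈ {x : ↥Cfsg.leechLattice | Cfsg.sqNorm (x : Cfsg.GolayPt → ℤ) = 32 ∧ Cfsg.dotInt (v : Cfsg.GolayPt → ℤ) (x : Cfsg.GolayPt → ℤ) = 16 ∧ Cfsg.dotInt (w : Cfsg.GolayPt → ℤ) (x : Cfsg.GolayPt → ℤ) = -24}) ∧ (∀ x ∈ {x : ↥Cfsg.leechLattice | Cfsg.sqNorm (x : Cfsg.GolayPt → ℤ) = 32 ∧ Cfsg.dotInt (v : Cfsg.GolayPt → ℤ) (x : Cfsg.GolayPt → ℤ) = 16 ∧ Cfsg.dotInt (w : Cfsg.GolayPt → ℤ) (x : Cfsg.GolayPt → ℤ) = -24}, ∀ x' ∈ {x : ↥Cfsg.leechLattice | Cfsg.sqNorm (x : Cfsg.GolayPt → ℤ) = 32 ∧ Cfsg.dotInt (v : Cfsg.GolayPt → ℤ) (x : Cfsg.GolayPt → ℤ) = 16 ∧ Cfsg.dotInt (w : Cfsg.GolayPt → ℤ) (x : Cfsg.GolayPt → ℤ) = -24}, ∃ g : ↥Cfsg.Co0, g • v = v ∧ g • w = w ∧ g • x = x') ∧ ∀ x ∈ {x : ↥Cfsg.leechLattice | Cfsg.sqNorm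 (x : Cfsg.GolayPt → ℤ) = 32 ∧ Cfsg.dotInt (v : Cfsg.GolayPt → ℤ) (x : Cfsg.GolayPt → ℤ) = 16 ∧ Cfsg.dotInt (w : Cfsg.GolayPt → ℤ) (x : Cfsg.GolayPt → ℤ) = -24}, Nonempty (↥(MulAction.stabilizer ↥Cfsg.Co0 v ⊓ MulAction.stabilizer ↥Cfsg.Co0 w ⊓ MulAction.stabilizer ↥Cfsg.Co0 x) ≃* Cfsg.PSU 3 F 5) := by
  classical
  have hneg : ∀ a b : GolayPt → ℤ, dotInt a (-b) = -dotInt a b :=
    fun a b => by simp [dotInt, -Fintype.sum_option]
  obtain ⟨f1, f2, f3, -⟩ := Leech.hV_facts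
  have hs0 : sqNorm ((v + w : ↥leechLattice) : GolayPt → ℤ) = 32 := by
    rw [AddSubgroup.coe_add, Leech.sqNorm_add, hv, hw, hvw]; rfl
  have hsd : dotInt ((-v : ↥leechLattice) : GolayPt → ℤ) ((v + w : ↥leechLattice) : GolayPt → ℤ) = -16 := by
    rw [AddSubgroup.coe_neg, AddSubgroup.coe_add, Leech.dotInt_comm, hneg, Leech.dotInt_comm,
      Leech.dotInt_add_right, Leech.dot_self, hv, hvw]
    rfl
  have hvn : sqNorm ((-v : ↥leechLattice) : GolayPt → ℤ) = 48 := by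
    rw [← hv]; simp [sqNorm, -Fintype.sum_option]
  obtain ⟨g, g1, g2⟩ := Leech.trans_sixteen Leech.hV Leech.hT (-v) (v + w) f1 hvn f2 hs0 f3 hsd
  have hv' : v = g • (-Leech.hV) := by rw [Leech.smul_neg', g1, neg_neg]
  have hw' : w = g • (Leech.hV + Leech.hT) := by rw [Leech.smul_add', g1, g2]; abel
  subst hv'
  subst hw'
  -- the class of the standard pair
  obtain ⟨hclass, hA⟩ : (∀ y : ↥leechLattice, y ∈ Leech.coThreeClass (-8) →
      y ∈ MulAction.orbit ↥Leech.hsGroup Leech.hsRepA0) ∧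
      (MulAction.orbit ↥Leech.hsGroup Leech.hsRepA0).ncard = 352 := by
    have mem : ∀ {r : ↥leechLattice} {d : ℤ}, sqNorm (r : GolayPt → ℤ) = 32 →
        dotInt (Leech.hV : GolayPt → ℤ) (r : GolayPt → ℤ) = -16 →
        dotInt (Leech.hT : GolayPt → ℤ) (r : GolayPt → ℤ) = d → r ∈ Leech.coThreeClass d :=
      fun a b c => ⟨⟨a, b⟩, c⟩
    have mA := mem Leech.hsRepA0_facts.1 Leech.hsRepA0_facts.2.1 Leech.hsRepA0_facts.2.2.1
    have mB := mem Leech.hsRepB0_facts.1 Leech.hsRepB0_facts.2.1 Leech.hsRepB0_facts.2.2.1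
    have mC := mem Leech.hsRepC0_facts.1 Leech.hsRepC0_facts.2.1 Leech.hsRepC0_facts.2.2.1
    have mD := mem Leech.hsRepD0_facts.1 Leech.hsRepD0_facts.2.1 Leech.hsRepD0_facts.2.2.1
    have mT : Leech.hT ∈ Leech.coThreeClass 32 := ⟨⟨f2, f3⟩, by decide +kernel⟩
    have hcard : Leech.coThreeSet.ncard = 11178 := Leech.ncard_11178 Leech.hV f1
    have hfin : Leech.coThreeSet.Finite := Set.finite_of_ncard_ne_zero (by omega)
    have fC : ∀ d, (Leech.coThreeClass d).Finite := fun d => hfin.subset fun z h => h.1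
    have hd : ∀ {d e : ℤ}, d ≠ e → Disjoint (Leech.coThreeClass d) (Leech.coThreeClass e) :=
      fun h => Set.disjoint_left.2 fun z a b => h (a.2.symm.trans b.2)
    have hsub : Leech.coThreeClass (-8) ∪ Leech.coThreeClass 16 ∪ Leech.coThreeClass 0 ∪
        Leech.coThreeClass 8 ∪ Leech.coThreeClass 32 ⊆ Leech.coThreeSet := by
      rintro z ((((h | h) | h) | h) | h) <;> exact h.1
    have hle := Set.ncard_le_ncard hsub hfin
    rw [Set.ncard_union_eq (by simp only [Set.disjoint_union_left]; refine ⟨⟨⟨?_, ?_⟩, ?_⟩, ?_⟩ <;> exact hd (by norm_num))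
        ((((fC _).union (fC _)).union (fC _)).union (fC _)) (fC _),
      Set.ncard_union_eq (by simp only [Set.disjoint_union_left]; refine ⟨⟨?_, ?_⟩, ?_⟩ <;> exact hd (by norm_num))
        (((fC _).union (fC _)).union (fC _)) (fC _),
      Set.ncard_union_eq (by simp only [Set.disjoint_union_left]; refine ⟨?_, ?_⟩ <;> exact hd (by norm_num))
        ((fC _).union (fC _)) (fC _),
      Set.ncard_union_eq (hd (by norm_num)) (fC _) (fC _), hcard] at hle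
    have sA := Leech.orbit_sub_class mA
    have lB : 1100 ≤ _ := Leech.hsOrbitB.trans (Set.ncard_le_ncard (Leech.orbit_sub_class mB) (fC _))
    have lC : 4125 ≤ _ := Leech.hsOrbitC.trans (Set.ncard_le_ncard (Leech.orbit_sub_class mC) (fC _))
    have lD : 5600 ≤ _ := Leech.hsOrbitD.trans (Set.ncard_le_ncard (Leech.orbit_sub_class mD) (fC _))
    have lT : 1 ≤ (Leech.coThreeClass 32).ncard := (Set.ncard_pos (fC _)).2 ⟨_, mT⟩
    have lA : 352 ≤ _ := Leech.hsOrbitA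
    have lAC := Set.ncard_le_ncard sA (fC _)
    refine ⟨fun y hy => ?_, by omega⟩
    rw [Set.eq_of_subset_of_ncard_le sA (by omega) (fC _)]
    exact hy
  -- moving a member of the set to the chosen one
  have hx0 : Leech.u35X ∈ Leech.coThreeClass (-8) :=
    ⟨⟨by decide +kernel, by decide +kernel⟩, by decide +kernel⟩
  have hT16 : ∀ y : ↥leechLattice,
      dotInt ((g • (-Leech.hV) : ↥leechLattice) : GolayPt → ℤ) ((g • y : ↥leechLattice) : GolayPt → ℤ) =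
        -dotInt (Leech.hV : GolayPt → ℤ) (y : GolayPt → ℤ) ∧
      dotInt ((g • (Leech.hV + Leech.hT) : ↥leechLattice) : GolayPt → ℤ) ((g • y : ↥leechLattice) : GolayPt → ℤ) =
        dotInt (Leech.hV : GolayPt → ℤ) (y : GolayPt → ℤ) + dotInt (Leech.hT : GolayPt → ℤ) (y : GolayPt → ℤ) := by
    intro y
    constructor
    · rw [Leech.dotInt_smul, AddSubgroup.coe_neg, Leech.dotInt_comm, hneg, Leech.dotInt_comm]
    · rw [Leech.dotInt_smul, AddSubgroup.coe_add, Leech.dotInt_comm, Leech.dotInt_add_right,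
        Leech.dotInt_comm, Leech.dotInt_comm (y : GolayPt → ℤ)]
  have hset : {x : ↥leechLattice | sqNorm (x : GolayPt → ℤ) = 32 ∧
      dotInt ((g • (-Leech.hV) : ↥leechLattice) : GolayPt → ℤ) (x : GolayPt → ℤ) = 16 ∧
      dotInt ((g • (Leech.hV + Leech.hT) : ↥leechLattice) : GolayPt → ℤ) (x : GolayPt → ℤ) = -24} =
      (fun y => g • y) '' Leech.coThreeClass (-8) := by
    ext x
    obtain ⟨y, rfl⟩ : ∃ y, g • y = x := ⟨g⁻¹ • x, smul_inv_smul g x⟩
    obtain ⟨e1, e2⟩ := hT16 y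
    simp only [Set.mem_setOf_eq, Set.mem_image, MulAction.injective g |>.eq_iff, exists_eq_right,
      Leech.sqNorm_smul, e1, e2]
    constructor
    · rintro ⟨a, b, c⟩; exact ⟨⟨a, by omega⟩, by omega⟩
    · rintro ⟨⟨a, b⟩, c⟩; exact ⟨a, by omega, by omega⟩
  have hcl : Leech.coThreeClass (-8) = MulAction.orbit ↥Leech.hsGroup Leech.hsRepA0 :=
    Set.Subset.antisymm (fun y hy => hclass y hy)
      (Leech.orbit_sub_class ⟨⟨Leech.hsRepA0_facts.1, Leech.hsRepA0_facts.2.1⟩, Leech.hsRepA0_facts.2.2.1⟩)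
  have htrans : ∀ y ∈ Leech.coThreeClass (-8), ∀ y' ∈ Leech.coThreeClass (-8),
      ∃ k ∈ Leech.hsGroup, k • y = y' := by
    intro y hy y' hy'
    obtain ⟨⟨a, ha⟩, ea⟩ := hclass y hy
    obtain ⟨⟨b, hb⟩, eb⟩ := hclass y' hy'
    refine ⟨b * a⁻¹, mul_mem hb (inv_mem ha), ?_⟩
    rw [← ea, ← eb]
    show (b * a⁻¹) • (a • Leech.hsRepA0) = b • Leech.hsRepA0
    rw [mul_smul, inv_smul_smul]
  rw [hset]
  refine ⟨?_, ?_, ?_, ?_⟩
  · rw [Set.ncard_image_of_injective _ (MulAction.injective g), hcl, hA]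
  · rintro x hx
    rw [← hset] at hx ⊢
    obtain ⟨a, b, c⟩ := hx
    set V := g • (-Leech.hV)
    set W := g • (Leech.hV + Leech.hT)
    have e : ((-W - x : ↥leechLattice) : GolayPt → ℤ) = -(W + x : ↥leechLattice).1 := by
      simp only [AddSubgroup.coe_sub, AddSubgroup.coe_neg, AddSubgroup.coe_add]; abel
    refine ⟨?_, ?_, ?_⟩
    · rw [e, show sqNorm (-(W + x : ↥leechLattice).1) = sqNorm ((W + x : ↥leechLattice) : GolayPt → ℤ) by
        simp only [sqNorm, Pi.neg_apply, neg_sq], AddSubgroup.coe_add, Leech.sqNorm_add, hw, a, c]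
      rfl
    · rw [e, hneg, AddSubgroup.coe_add, Leech.dotInt_add_right, hvw, b]; rfl
    · rw [e, hneg, AddSubgroup.coe_add, Leech.dotInt_add_right, Leech.dot_self, hw, c]; rfl
  · rintro _ ⟨y, hy, rfl⟩ _ ⟨y', hy', rfl⟩
    obtain ⟨k, hk, e⟩ := htrans y hy y' hy'
    simp only [Leech.hsGroup, Subgroup.mem_inf, MulAction.mem_stabilizer_iff] at hk
    refine ⟨g * k * g⁻¹, ?_, ?_, ?_⟩
    · rw [mul_smul, inv_smul_smul, mul_smul, Leech.smul_neg', hk.1]
    · rw [mul_smul, inv_smul_smul, mul_smul, Leech.smul_add', hk.1, hk.2]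
    · show (g * k * g⁻¹) • g • y = g • y'
      rw [mul_smul, inv_smul_smul, mul_smul, e]
  · rintro _ ⟨y, hy, rfl⟩
    obtain ⟨k, hk, e⟩ := htrans _ hx0 y hy
    simp only [Leech.hsGroup, Subgroup.mem_inf, MulAction.mem_stabilizer_iff] at hk
    have hcardA : Nat.card ↥Leech.u35Group = 126000 := by
      have h1 := Leech.card_orbit_stab Leech.hsGroup Leech.u35X
      rw [Leech.simple_hs.2, MulAction.orbit_eq_iff.2 (hclass _ hx0), hA] at h1
      have : Nat.card ↥Leech.u35Group =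
          Nat.card ↥(Leech.hsGroup ⊓ MulAction.stabilizer ↥Co0 Leech.u35X) := rfl
      omega
    obtain ⟨⟨e1⟩, hG⟩ := Leech.u35_lattice hcardA.le
    have := Leech.Model.charP_of_card (F := F) 5 (by norm_num) (by rw [hF]; norm_num)
    have : CharP F Leech.u35UData.K.p := this
    obtain ⟨r, hr⟩ := Leech.Model.exists_root_25 hF
    have hP : Nat.card (PSU 3 F 5) = 126000 := by
      have := Leech.Model.card_PSU_mul (F := F) (q := 5) (n := 3) (by rw [hF]; norm_num) (by norm_num)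
      simp only [Finset.prod_range_succ, Finset.prod_range_zero] at this
      rw [show Nat.gcd 3 (5 + 1) = 3 from rfl] at this
      norm_num [Nat.even_iff, -Nat.card_eq_fintype_card] at this
      omega
    obtain ⟨e2⟩ := Leech.Model.unitary_iso (F := F) Leech.u35UData _ Leech.u35_uCheck r hr
      (by rw [hF]; rfl) (show 2 ≤ 3 by norm_num)
      (hP.le.trans Leech.u35_card)
    obtain ⟨e3⟩ := Leech.stab_triple_iso (g * k) Leech.hV Leech.hT Leech.u35X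
    rw [mul_smul, mul_smul, mul_smul, hk.1, hk.2, e] at e3
    have hset3 : MulAction.stabilizer ↥Co0 (g • (-Leech.hV)) ⊓
        MulAction.stabilizer ↥Co0 (g • (Leech.hV + Leech.hT)) ⊓ MulAction.stabilizer ↥Co0 (g • y) =
        MulAction.stabilizer ↥Co0 (g • Leech.hV) ⊓ MulAction.stabilizer ↥Co0 (g • Leech.hT) ⊓
          MulAction.stabilizer ↥Co0 (g • y) := by
      ext h
      simp only [Subgroup.mem_inf, MulAction.mem_stabilizer_iff, Leech.smul_neg', Leech.smul_add',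
        neg_inj]
      constructor
      · rintro ⟨⟨a, b⟩, c⟩; exact ⟨⟨a, by rwa [a, add_right_inj] at b⟩, c⟩
      · rintro ⟨⟨a, b⟩, c⟩; exact ⟨⟨a, by rw [a, b]⟩, c⟩
    exact ⟨(MulEquiv.subgroupCongr hset3).trans (e3.symm.trans (e1.trans e2.symm))⟩

end Cfsg.Agent.S1633
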