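import Cfsg.Statements.S1634
import Cfsg.Agent.Leech.Orbits2025

set_option autoImplicit false
open Cfsg

namespace Cfsg.Agent.S1634

/-- The McLaughlin group acts on 2025 points (minimal vectors orthogonal to v with customary inner product 2 with w) transitively with rank 4 and subdegrees 1, 330, 462, 1232. -/
theorem result (v w : ↥Cfsg.leechLattice) (hv : Cfsg.sqNorm (v : Cfsg.GolayPt → ℤ) = 32) (hw : Cfsg.sqNorm (w : Cfsg.GolayPt → ℤ) = 32) (hvw : Cfsg.dotInt (v : Cfsg.GolayPt → ℤ) (w : Cfsg.GolayPt → ℤ) = -8) : {x : ↥Cfsg.leechLattice | Cfsg.sqNorm (x : Cfsg.GolayPt → ℤ) = 32 ∧ Cfsg.dotInt (v : Cfsg.GolayPt → ℤ) (x : Cfsg.GolayPt → ℤ) = 0 ∧ Cfsg.dotInt (w : Cfsg.GolayPt → ℤ) (x : Cfsg.GolayPt → ℤ) = 16}.ncard = 2025 ∧ (∀ x ∈ {x : ↥Cfsg.leechLattice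 | Cfsg.sqNorm (x : Cfsg.GolayPt → ℤ) = 32 ∧ Cfsg.dotInt (v : Cfsg.GolayPt → ℤ) (x : Cfsg.GolayPt → ℤ) = 0 ∧ Cfsg.dotInt (w : Cfsg.GolayPt → ℤ) (x : Cfsg.GolayPt → ℤ) = 16}, ∀ x' ∈ {x : ↥Cfsg.leechLattice | Cfsg.sqNorm (x : Cfsg.GolayPt → ℤ) = 32 ∧ Cfsg.dotInt (v : Cfsg.GolayPt → ℤ) (x : Cfsg.GolayPt → ℤ) = 0 ∧ Cfsg.dotInt (w : Cfsg.GolayPt → ℤ) (x : Cfsg.GolayPt → ℤ) = 16}, ∃ g : ↥Cfsg.Co0, g • v = v ∧ g • w = w ∧ g • x = x') ∧ ∀ x ∈ {x : ↥Cfsg.leechLattice | Cfsg.sqNorm (x : Cfsg.GolayPt → ℤ) = 32 ∧ Cfsg.dotInt (v : Cfsg.GolayPt → ℤ) (x : Cfsg.GolayPt → ℤ) = 0 ∧ Cfsg.dotInt (w : Cfsg.GolayPt → ℤ) (x : Cfsg.GolayPt → ℤ) = 16}, ∃ y₁ ∈ {x : ↥Cfsg.leechLattice | Cfsg.sqNorm (x : Cfsg.GolayPt → ℤ) = 32 ∧ Cfsg.dotInt (v : Cfsg.GolayPt → ℤ) (x : Cfsg.GolayPt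 → ℤ) = 0 ∧ Cfsg.dotInt (w : Cfsg.GolayPt → ℤ) (x : Cfsg.GolayPt → ℤ) = 16}, ∃ y₂ ∈ {x : ↥Cfsg.leechLattice | Cfsg.sqNorm (x : Cfsg.GolayPt → ℤ) = 32 ∧ Cfsg.dotInt (v : Cfsg.GolayPt → ℤ) (x : Cfsg.GolayPt → ℤ) = 0 ∧ Cfsg.dotInt (w : Cfsg.GolayPt → ℤ) (x : Cfsg.GolayPt → ℤ) = 16}, ∃ y₃ ∈ {x : ↥Cfsg.leechLattice | Cfsg.sqNorm (x : Cfsg.GolayPt → ℤ) = 32 ∧ Cfsg.dotInt (v : Cfsg.GolayPt → ℤ) (x : Cfsg.GolayPt → ℤ) = 0 ∧ Cfsg.dotInt (w : Cfsg.GolayPt → ℤ) (x : Cfsg.GolayPt → ℤ) = 16}, (MulAction.orbit ↥(MulAction.stabilizer ↥Cfsg.Co0 v ⊓ MulAction.stabilizer ↥Cfsg.Co0 w ⊓ MulAction.stabilizer ↥Cfsg.Co0 x) y₁).ncard = 330 ∧ (MulAction.orbit ↥(MulAction.stabilizer ↥Cfsg.Co0 v ⊓ MulAction.stabilizer ↥Cfsg.Co0 w ⊓ MulAction.stabilizer ↥Cfsg.Co0 x) y₂).ncard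 = 462 ∧ (MulAction.orbit ↥(MulAction.stabilizer ↥Cfsg.Co0 v ⊓ MulAction.stabilizer ↥Cfsg.Co0 w ⊓ MulAction.stabilizer ↥Cfsg.Co0 x) y₃).ncard = 1232 := by
  refine ⟨?_, fun x hx x' hx' => Cfsg.Agent.Leech.trans_2025 v w x x' hv hw hvw hx hx', fun x hx => ?_⟩
  · exact Cfsg.Agent.Leech.ncard_2025 v w ⟨hv, hw, hvw⟩
  obtain ⟨g, g1, g2, g3⟩ := Cfsg.Agent.Leech.normal_2025 v w x hv hw hx.1 hvw hx.2.1 hx.2.2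
  obtain ⟨s0, s16, s8⟩ := Cfsg.Agent.Leech.orbit_sizes
  obtain ⟨f0, f16, f8⟩ := Cfsg.Agent.Leech.rep_facts
  have key : ∀ y : ↥Cfsg.leechLattice, Cfsg.sqNorm (y : Cfsg.GolayPt → ℤ) = 32 →
      Cfsg.dotInt Cfsg.Spor.vecU (y : Cfsg.GolayPt → ℤ) = 0 →
      Cfsg.dotInt (Cfsg.Agent.Leech.eW : Cfsg.GolayPt → ℤ) (y : Cfsg.GolayPt → ℤ) = 16 →
      (g⁻¹ • y) ∈ {x : ↥Cfsg.leechLattice | Cfsg.sqNorm (x : Cfsg.GolayPt → ℤ) = 32 ∧ Cfsg.dotInt (v : Cfsg.GolayPt → ℤ) (x : Cfsg.GolayPt → ℤ) = 0 ∧ Cfsg.dotInt (w : Cfsg.GolayPt → ℤ) (x : Cfsg.GolayPt → ℤ) = 16} := by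
    intro y h1 h2 h3
    refine ⟨by rw [Cfsg.Agent.Leech.sqNorm_smul]; exact h1, ?_, ?_⟩
    · rw [← Cfsg.Agent.Leech.dotInt_smul g, g1, smul_inv_smul]; exact h2
    · rw [← Cfsg.Agent.Leech.dotInt_smul g, g2, smul_inv_smul]; exact h3
  refine ⟨g⁻¹ • Cfsg.Agent.Leech.rep0, key _ f0.1 f0.2.1 f0.2.2.1,
    g⁻¹ • Cfsg.Agent.Leech.rep16, key _ f16.1 f16.2.1 f16.2.2.1,
    g⁻¹ • Cfsg.Agent.Leech.rep8, key _ f8.1 f8.2.1 f8.2.2.1, ?_, ?_, ?_⟩ <;>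
    rw [Cfsg.Agent.Leech.ncard_orbit_conj, g1, g2, g3]
  exacts [s0, s16, s8]

end Cfsg.Agent.S1634
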