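import Cfsg.Statements.S1635
import Cfsg.Agent.Leech.Punctured

set_option autoImplicit false
open Cfsg

namespace Cfsg.Agent.S1635

/-- Coset leaders of the length-24 code: a coset contains a unique word of weight ≤ 3, or else exactly six words of weight 4 and none lighter. -/
theorem result (w : Cfsg.GolayPt → ZMod 2) : ({v : Cfsg.GolayPt → ZMod 2 | hammingNorm v ≤ 4 ∧ w - v ∈ Cfsg.golayCode}.ncard = 1 ∧ ∃ v : Cfsg.GolayPt → ZMod 2, hammingNorm v ≤ 3 ∧ w - v ∈ Cfsg.golayCode) ∨ ({v : Cfsg.GolayPt → ZMod 2 | hammingNorm v ≤ 4 ∧ w - v ∈ Cfsg.golayCode}.ncard = 6 ∧ ∀ v : Cfsg.GolayPt → ZMod 2, w - v ∈ Cfsg.golayCode → hammingNorm v ≤ 4 → hammingNorm v = 4) := by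
  have hflip : ∀ v : GolayPt → ZMod 2, w - v ∈ golayCode ↔ v - w ∈ golayCode := fun v => sub_mem_comm_iff
  simp only [hflip]
  have hset : {v : GolayPt → ZMod 2 | hammingNorm v ≤ 4 ∧ v - w ∈ golayCode} =
      {v | v - w ∈ golayCode ∧ hammingNorm v ≤ 4} := Set.ext fun v => and_comm
  rw [hset]
  rcases Leech.coset_small golayCode Leech.card_golayPt Leech.finrank_golayCode Leech.min_golay w
    with ⟨u, hu, h3⟩ | ⟨h6, h4⟩
  · refine Or.inl ⟨by rw [hu, Set.ncard_singleton], u, h3, ?_⟩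
    have : u ∈ {v : GolayPt → ZMod 2 | v - w ∈ golayCode ∧ hammingNorm v ≤ 4} := by rw [hu]; rfl
    exact this.1
  · exact Or.inr ⟨h6, fun v hv hv4 => (h4 v ⟨hv, hv4⟩).1⟩

end Cfsg.Agent.S1635
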