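import Cfsg.Statements.S1636
import Cfsg.Agent.Leech.Punctured

set_option autoImplicit false
open Cfsg

namespace Cfsg.Agent.S1636

/-- The punctured length-23 code has weight distribution 0^1 7^253 8^506 11^1288 12^1288 15^506 16^253 23^1. -/
theorem result : {u : ZMod 23 → ZMod 2 | ∃ w ∈ Cfsg.golayCode, ∀ x : ZMod 23, u x = w (some x)}.ncard = 4096 ∧ {u : ZMod 23 → ZMod 2 | u ∈ {u : ZMod 23 → ZMod 2 | ∃ w ∈ Cfsg.golayCode, ∀ x : ZMod 23, u x = w (some x)} ∧ hammingNorm u = 7}.ncard = 253 ∧ {u : ZMod 23 → ZMod 2 | u ∈ {u : ZMod 23 → ZMod 2 | ∃ w ∈ Cfsg.golayCode, ∀ x : ZMod 23, u x = w (some x)} ∧ hammingNorm u = 8}.ncard = 506 ∧ {u : ZMod 23 → ZMod 2 | u ∈ {u : ZMod 23 → ZMod 2 | ∃ w ∈ Cfsg.golayCode, ∀ x : ZMod 23, u x = w (some x)} ∧ hammingNorm u = 11}.ncard = 1288 ∧ {u : ZMod 23 → ZMod 2 | u ∈ {u : ZMod 23 → ZMod 2 | ∃ w ∈ Cfsg.golayCode, ∀ x : ZMod 23, u x = w (some x)} ∧ hammingNorm u = 12}.ncard = 1288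 ∧ {u : ZMod 23 → ZMod 2 | u ∈ {u : ZMod 23 → ZMod 2 | ∃ w ∈ Cfsg.golayCode, ∀ x : ZMod 23, u x = w (some x)} ∧ hammingNorm u = 15}.ncard = 506 ∧ {u : ZMod 23 → ZMod 2 | u ∈ {u : ZMod 23 → ZMod 2 | ∃ w ∈ Cfsg.golayCode, ∀ x : ZMod 23, u x = w (some x)} ∧ hammingNorm u = 16}.ncard = 253 ∧ ∀ u ∈ {u : ZMod 23 → ZMod 2 | ∃ w ∈ Cfsg.golayCode, ∀ x : ZMod 23, u x = w (some x)}, u ≠ 0 → 7 ≤ hammingNorm u := by
  refine ⟨?_, Leech.punct_count 7 _ (by decide +kernel), Leech.punct_count 8 _ (by decide +kernel),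
    Leech.punct_count 11 _ (by decide +kernel), Leech.punct_count 12 _ (by decide +kernel),
    Leech.punct_count 15 _ (by decide +kernel), Leech.punct_count 16 _ (by decide +kernel), ?_⟩
  · have hset : {u : ZMod 23 → ZMod 2 | ∃ w ∈ Cfsg.golayCode, ∀ x : ZMod 23, u x = w (some x)} =
        Set.range fun n => Leech.punct (Leech.enum n) := by
      ext u
      constructor
      · rintro ⟨w, hw, hu⟩
        obtain ⟨n, rfl⟩ := Leech.exists_enum hw
        exact ⟨n, (funext hu).symm⟩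
      · rintro ⟨n, rfl⟩
        exact ⟨_, Leech.enum_mem n, fun x => rfl⟩
    rw [hset, Set.ncard_range_of_injective fun a b hab =>
      Leech.enum_injective (Leech.punct_inj (Leech.enum_mem a) (Leech.enum_mem b) hab),
      Nat.card_fin]
  · rintro u ⟨w, hw, hu⟩ hu0
    have hw0 : w ≠ 0 := fun h => hu0 (funext fun x => by rw [hu, h]; rfl)
    have h8 := Leech.eight_le_weight hw hw0
    obtain rfl : u = Leech.punct w := funext hu
    rw [hammingNorm, Finset.card_filter, Fintype.sum_option] at h8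
    rw [hammingNorm, Finset.card_filter]
    simp only [Leech.punct]
    calc (7 : ℕ) ≤ ∑ x : ZMod 23, (if w (some x) ≠ 0 then 1 else 0) := by
          split_ifs at h8 <;> omega
      _ = _ := Finset.sum_congr rfl fun x _ => by congr

end Cfsg.Agent.S1636
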