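import Cfsg.Statements.S1637
import Cfsg.Agent.Leech.Punctured

set_option autoImplicit false
open Cfsg

namespace Cfsg.Agent.S1637

/-- The punctured length-23 code is a perfect 3-error-correcting code: each word of length 23 is within distance 3 of exactly one codeword. -/
theorem result (u : ZMod 23 → ZMod 2) : ∃! c : ZMod 23 → ZMod 2, c ∈ {u : ZMod 23 → ZMod 2 | ∃ w ∈ Cfsg.golayCode, ∀ x : ZMod 23, u x = w (some x)} ∧ hammingDist u c ≤ 3 := by
  let w : GolayPt → ZMod 2 := fun q => q.elim 0 u
  obtain ⟨c, hc, e, he, h⟩ :=
    Leech.cover golayCode Leech.card_golayPt Leech.finrank_golayCode Leech.min_golay w none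
  have hdist : ∀ (d : GolayPt → ZMod 2), hammingDist u (Leech.punct d) =
      ((Finset.univ : Finset (ZMod 23)).filter fun x => u x ≠ d (some x)).card := fun d => rfl
  refine ⟨Leech.punct c, ⟨⟨c, hc, fun x => rfl⟩, ?_⟩, ?_⟩
  · rw [hdist]
    have : ((Finset.univ : Finset (ZMod 23)).filter fun x => u x ≠ c (some x)).card ≤ (support₂ e).card := by
      refine Finset.card_le_card_of_injOn some (fun x hx => ?_) (Option.some_injective _).injOn
      have hx' := (Finset.mem_filter.1 hx).2
      have := h (some x) (by simp)
      simp only [w, Option.elim, Pi.add_apply] at this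
      rw [Finset.mem_coe, support₂, Finset.mem_filter]
      refine ⟨Finset.mem_univ _, fun h0 => hx' ?_⟩
      rw [this, h0, add_zero]
    have := (Leech.mem_ball.1 he).2
    rw [Leech.hammingNorm_eq_card] at this
    omega
  · rintro v ⟨⟨d, hd, hv⟩, hvd⟩
    obtain rfl : v = Leech.punct d := funext hv
    let e' : GolayPt → ZMod 2 := fun q => q.elim 0 fun x => u x - d (some x)
    have he' : e' ∈ Leech.ball (none : GolayPt) := by
      refine Leech.mem_ball.2 ⟨rfl, ?_⟩
      refine le_trans ?_ hvd
      rw [hdist, hammingNorm, Finset.card_filter, Finset.card_filter, Fintype.sum_option]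
      simp [e', sub_ne_zero]
    have := (Leech.ball_inj golayCode Leech.min_golay hd hc he' he fun q hq => ?_).1
    · rw [this]
    · rcases q with _ | x
      · exact absurd rfl hq
      · have := h (some x) (by simp)
        simp only [w, Option.elim] at this
        rw [← this]
        simp [e']

end Cfsg.Agent.S1637
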