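import Cfsg.Statements.S1638
import Cfsg.Agent.Compute.MathieuExtra

set_option autoImplicit false
open scoped Pointwise
open Cfsg

namespace Cfsg.Agent.S1638

/-- Fix two points p ≠ q and a pair s of two further points. Among the pairs avoiding p, q and disjoint from s, exactly 30 lie in an octad together with p, q and s and exactly 160 do not; and any two pairs other than s that meet s in equally many points and agree on that octad property are carried to one another by an element of the group of the length-24 code fixing p, q and s. -/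
theorem result (p q : Cfsg.GolayPt) (hpq : p ≠ q) (s : Finset Cfsg.GolayPt) (hs : (s.card = 2 ∧ p ∉ s ∧ q ∉ s)) : {t : Finset Cfsg.GolayPt | (t.card = 2 ∧ p ∉ t ∧ q ∉ t) ∧ Disjoint s t ∧ (∃ o ∈ Cfsg.octads, p ∈ o ∧ q ∈ o ∧ s ∪ t ⊆ o)}.ncard = 30 ∧ {t : Finset Cfsg.GolayPt | (t.card = 2 ∧ p ∉ t ∧ q ∉ t) ∧ Disjoint s t ∧ ¬ (∃ o ∈ Cfsg.octads, p ∈ o ∧ q ∈ o ∧ s ∪ t ⊆ o)}.ncard = 160 ∧ ∀ t t' : Finset Cfsg.GolayPt, (t.card = 2 ∧ p ∉ t ∧ q ∉ t) → (t'.card = 2 ∧ p ∉ t' ∧ q ∉ t') → t ≠ s → t' ≠ s → (s ∩ t).card = (s ∩ t').card → ((∃ o ∈ Cfsg.octads, p ∈ o ∧ q ∈ o ∧ s ∪ t ⊆ o) ↔ (∃ o ∈ Cfsg.octads, p ∈ o ∧ q ∈ o ∧ s ∪ t' ⊆ o)) → ∃ g : Equiv.Perm Cfsg.GolayPt, g ∈ Cfsg.M24 ∧ g p = p ∧ g q = q ∧ g • s = s ∧ g • t = t' := by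
  obtain ⟨hs2, hps, hqs⟩ := hs
  obtain ⟨g, hg, hgp, hgq, hgs⟩ := Compute.exists_move_pqPair hpq hs2 hps hqs
  have hE : ∀ t : Finset Cfsg.GolayPt,
      (∃ o ∈ Cfsg.octads, g • (({p, q} : Finset Cfsg.GolayPt) ∪ (s ∪ t)) ⊆ o) ↔
        ∃ o ∈ Cfsg.octads, p ∈ o ∧ q ∈ o ∧ s ∪ t ⊆ o := by
    intro t
    rw [Compute.exists_subset_smul_iff hg]
    refine exists_congr fun o => and_congr Iff.rfl ?_
    simp [Finset.union_subset_iff, Finset.insert_subset_iff, and_assoc]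
  have hset : ∀ t : Finset Cfsg.GolayPt,
      Compute.suppM (Compute.cfgPQPairRoot ||| 0x800001) ∪ g • t =
        g • (({p, q} : Finset Cfsg.GolayPt) ∪ (s ∪ t)) := by
    intro t
    rw [Compute.suppM_or, Compute.suppM_pairPts, ← hgs, ← hgp, ← hgq, Finset.smul_finset_union,
      Finset.smul_finset_union, Finset.smul_finset_insert, Finset.smul_finset_singleton]
    ext z; simp only [Finset.mem_union, Finset.mem_insert, Finset.mem_singleton]; tauto
  have hinv : ∀ t : Finset Cfsg.GolayPt, Compute.invPQPairPair (g • t) =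
      ((s ∩ t).card + Compute.extOf (g • (({p, q} : Finset Cfsg.GolayPt) ∪ (s ∪ t))) 16) +
        ((if p ∈ t then 4 else 0) + (if q ∈ t then 8 else 0)) := by
    intro t
    unfold Compute.invPQPairPair
    rw [hset, ← hgs, ← hgp, ← hgq, Compute.card_inter_smul]
    simp only [Finset.smul_mem_smul_finset_iff]
  have hle : ∀ t : Finset Cfsg.GolayPt, (s ∩ t).card ≤ 2 := fun t =>
    le_of_le_of_eq (Finset.card_le_card Finset.inter_subset_left) hs2
  refine ⟨?_, ?_, ?_⟩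
  · rw [Compute.ncard_setOf_smul g
      (Q := fun X => X ∈ {s : Finset Cfsg.GolayPt | s.card = 2} ∧ Compute.invPQPairPair X = 16)
      fun t => ?_]
    · refine Compute.partsPQPairPair.2 _ _ ?_; decide +kernel
    · rw [hinv, Set.mem_ofPred_eq, Finset.card_smul_finset, Finset.disjoint_iff_inter_eq_empty,
        ← Finset.card_eq_zero]
      have := hle t
      by_cases h : ∃ o ∈ Cfsg.octads, p ∈ o ∧ q ∈ o ∧ s ∪ t ⊆ o
      · rw [Compute.extOf_pos 16 ((hE t).mpr h)]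
        by_cases h1 : p ∈ t <;> by_cases h2 : q ∈ t <;> simp [h, h1, h2] <;> omega
      · rw [Compute.extOf_neg 16 (mt (hE t).mp h)]
        by_cases h1 : p ∈ t <;> by_cases h2 : q ∈ t <;> simp [h, h1, h2] <;> omega
  · rw [Compute.ncard_setOf_smul g
      (Q := fun X => X ∈ {s : Finset Cfsg.GolayPt | s.card = 2} ∧ Compute.invPQPairPair X = 0)
      fun t => ?_]
    · refine Compute.partsPQPairPair.2 _ _ ?_; decide +kernel
    · rw [hinv, Set.mem_ofPred_eq, Finset.card_smul_finset, Finset.disjoint_iff_inter_eq_empty,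
        ← Finset.card_eq_zero]
      by_cases h : ∃ o ∈ Cfsg.octads, p ∈ o ∧ q ∈ o ∧ s ∪ t ⊆ o
      · rw [Compute.extOf_pos 16 ((hE t).mpr h)]
        by_cases h1 : p ∈ t <;> by_cases h2 : q ∈ t <;> simp [h, h1, h2]
      · rw [Compute.extOf_neg 16 (mt (hE t).mp h)]
        by_cases h1 : p ∈ t <;> by_cases h2 : q ∈ t <;> simp [h, h1, h2] <;> omega
  rintro t t' ⟨ht, hpt, hqt⟩ ⟨ht', hpt', hqt'⟩ _ _ hc hiff
  obtain ⟨u, hu, hX⟩ := Compute.partsPQPairPair.1 (g • t)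
    (by rw [Set.mem_ofPred_eq, Finset.card_smul_finset, ht]) (g • t')
    (by rw [Set.mem_ofPred_eq, Finset.card_smul_finset, ht'])
    (by
      rw [hinv, hinv, hc]
      simp only [hpt, hqt, hpt', hqt', if_false]
      by_cases h : ∃ o ∈ Cfsg.octads, p ∈ o ∧ q ∈ o ∧ s ∪ t ⊆ o
      · rw [Compute.extOf_pos 16 ((hE t).mpr h), Compute.extOf_pos 16 ((hE t').mpr (hiff.mp h))]
      · rw [Compute.extOf_neg 16 (mt (hE t).mp h),
          Compute.extOf_neg 16 (mt (hE t').mp (mt hiff.mpr h))])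
  obtain ⟨hm, h23, h0, hfix⟩ := Compute.mem_cfgPQPair hu
  exact ⟨_, Compute.conj_mem hg hm, Compute.fix_conj hgp h23, Compute.fix_conj hgq h0,
    Compute.fix_conj hgs hfix, Compute.map_conj hX⟩

end Cfsg.Agent.S1638
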