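import Cfsg.Statements.S1639
import Cfsg.Agent.Compute.MathieuMoves

set_option autoImplicit false
open scoped Pointwise
open Cfsg

namespace Cfsg.Agent.S1639

/-- The point stabiliser acts on the 1288 dodecads through the point with rank 4 and subdegrees 1, 165, 330, 792, distinguished by intersection 4, 8, 6 with the fixed dodecad. -/
theorem result (x : Cfsg.GolayPt) (d : Finset Cfsg.GolayPt) (hd : d ∈ Cfsg.dodecads) (hx : x ∈ d) : {d' : Finset Cfsg.GolayPt | d' ∈ Cfsg.dodecads ∧ x ∈ d' ∧ (d ∩ d').card = 4}.ncard = 165 ∧ {d' : Finset Cfsg.GolayPt | d' ∈ Cfsg.dodecads ∧ x ∈ d' ∧ (d ∩ d').card = 8}.ncard = 330 ∧ {d' : Finset Cfsg.GolayPt | d' ∈ Cfsg.dodecads ∧ x ∈ d' ∧ (d ∩ d').card = 6}.ncard = 792 ∧ ∀ d' d'' : Finset Cfsg.GolayPt, d' ∈ Cfsg.dodecads → d'' ∈ Cfsg.dodecads → x ∈ d' → x ∈ d'' → (d ∩ d').card = (d ∩ d'').card → ∃ g : Equiv.Perm Cfsg.GolayPt, g ∈ Cfsg.M24 ∧ g x = x ∧ g • d = d ∧ g • d' = d'' := by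
  obtain ⟨g, hg, hgd, hgx⟩ := Compute.exists_move_dodPt hd hx
  have key : ∀ v : ℕ, {d' : Finset Cfsg.GolayPt | d' ∈ Cfsg.dodecads ∧ x ∈ d' ∧ (d ∩ d').card = v}.ncard =
      {X : Finset Cfsg.GolayPt | X ∈ Cfsg.dodecads ∧ Compute.invDodPtDod X = v + 32}.ncard := fun v =>
    Compute.ncard_setOf_smul g fun X => by
      unfold Compute.invDodPtDod
      rw [← hgd, ← hgx, Compute.card_inter_smul, Compute.smul_mem_dodecads_iff hg]
      simp only [Finset.smul_mem_smul_finset_iff]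
      have hle : (d ∩ X).card ≤ 12 := le_of_le_of_eq (Finset.card_le_card Finset.inter_subset_left) hd.2
      by_cases h1 : x ∈ X <;> simp [h1] <;> omega
  refine ⟨?_, ?_, ?_, ?_⟩
  · rw [key]; refine Compute.partsDodPtDod.2 _ _ ?_; decide +kernel
  · rw [key]; refine Compute.partsDodPtDod.2 _ _ ?_; decide +kernel
  · rw [key]; refine Compute.partsDodPtDod.2 _ _ ?_; decide +kernel
  intro d' d'' hd' hd'' hx' hx'' h
  obtain ⟨u, hu, hX⟩ := Compute.partsDodPtDod.1 _ ((Compute.smul_mem_dodecads_iff hg).mpr hd') _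
    ((Compute.smul_mem_dodecads_iff hg).mpr hd'')
    (by
      unfold Compute.invDodPtDod
      rw [← hgd, ← hgx, Compute.card_inter_smul, Compute.card_inter_smul, h]
      simp only [Finset.smul_mem_smul_finset_iff, hx', hx''])
  obtain ⟨hm, hfix, hpt⟩ := Compute.mem_cfgDodPt hu
  exact ⟨_, Compute.conj_mem hg hm, Compute.fix_conj hgx hpt, Compute.fix_conj hgd hfix,
    Compute.map_conj hX⟩

end Cfsg.Agent.S1639
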