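import Cfsg.Statements.S1641
import Cfsg.Agent.Leech.HSRank5
-- import your own Cfsg.Agent.* helpers here

set_option autoImplicit false
open Cfsg

namespace Cfsg.Agent.S1641

/-- The third Conway group acts on the 11178 cosets of the Higman–Sims group with rank 5 and subdegrees 1, 352, 1100, 4125, 5600. -/
theorem result (u x : ↥Cfsg.leechLattice) (hu : Cfsg.sqNorm (u : Cfsg.GolayPt → ℤ) = 48) (hx : x ∈ {x : ↥Cfsg.leechLattice | Cfsg.sqNorm (x : Cfsg.GolayPt → ℤ) = 32 ∧ Cfsg.dotInt (u : Cfsg.GolayPt → ℤ) (x : Cfsg.GolayPt → ℤ) = -16}) : ∃ y₁ ∈ {x : ↥Cfsg.leechLattice | Cfsg.sqNorm (x : Cfsg.GolayPt → ℤ) = 32 ∧ Cfsg.dotInt (u : Cfsg.GolayPt → ℤ) (x : Cfsg.GolayPt → ℤ) = -16}, ∃ y₂ ∈ {x : ↥Cfsg.leechLattice | Cfsg.sqNorm (x : Cfsg.GolayPt → ℤ) = 32 ∧ Cfsg.dotInt (u : Cfsg.GolayPt → ℤ) (x : Cfsg.GolayPt → ℤ) = -16}, ∃ y₃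 ∈ {x : ↥Cfsg.leechLattice | Cfsg.sqNorm (x : Cfsg.GolayPt → ℤ) = 32 ∧ Cfsg.dotInt (u : Cfsg.GolayPt → ℤ) (x : Cfsg.GolayPt → ℤ) = -16}, ∃ y₄ ∈ {x : ↥Cfsg.leechLattice | Cfsg.sqNorm (x : Cfsg.GolayPt → ℤ) = 32 ∧ Cfsg.dotInt (u : Cfsg.GolayPt → ℤ) (x : Cfsg.GolayPt → ℤ) = -16}, (MulAction.orbit ↥(MulAction.stabilizer ↥Cfsg.Co0 u ⊓ MulAction.stabilizer ↥Cfsg.Co0 x) y₁).ncard = 352 ∧ (MulAction.orbit ↥(MulAction.stabilizer ↥Cfsg.Co0 u ⊓ MulAction.stabilizer ↥Cfsg.Co0 x) y₂).ncard = 1100 ∧ (MulAction.orbit ↥(MulAction.stabilizer ↥Cfsg.Co0 u ⊓ MulAction.stabilizer ↥Cfsg.Co0 x) y₃).ncard = 4125 ∧ (MulAction.orbit ↥(MulAction.stabilizer ↥Cfsg.Co0 u ⊓ MulAction.stabilizer ↥Cfsg.Co0 x) y₄).ncard = 5600 ∧ {x : ↥Cfsg.leechLattice | Cfsg.sqNorm (x : Cfsg.GolayPt → ℤ) = 32 ∧ Cfsg.dotInt (u : Cfsg.GolayPt → ℤ) (x : Cfsg.GolayPt → ℤ)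 = -16} = {x} ∪ MulAction.orbit ↥(MulAction.stabilizer ↥Cfsg.Co0 u ⊓ MulAction.stabilizer ↥Cfsg.Co0 x) y₁ ∪ MulAction.orbit ↥(MulAction.stabilizer ↥Cfsg.Co0 u ⊓ MulAction.stabilizer ↥Cfsg.Co0 x) y₂ ∪ MulAction.orbit ↥(MulAction.stabilizer ↥Cfsg.Co0 u ⊓ MulAction.stabilizer ↥Cfsg.Co0 x) y₃ ∪ MulAction.orbit ↥(MulAction.stabilizer ↥Cfsg.Co0 u ⊓ MulAction.stabilizer ↥Cfsg.Co0 x) y₄ := by
  classical
  obtain ⟨f1, f2, f3, -⟩ := Leech.hV_facts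
  obtain ⟨g, hgu, hgx⟩ := Leech.trans_sixteen Leech.hV Leech.hT u x f1 hu f2 hx.1 f3 hx.2
  subst hgu hgx
  obtain ⟨y₁, m1, y₂, m2, y₃, m3, y₄, m4, c1, c2, c3, c4, hall⟩ := Leech.suborbits_standard
  have himg : {z : ↥leechLattice | sqNorm (z : GolayPt → ℤ) = 32 ∧
      dotInt ((g • Leech.hV : leechLattice) : GolayPt → ℤ) (z : GolayPt → ℤ) = -16} =
      (fun z => g • z) '' Leech.coThreeSet := by
    ext z
    constructor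
    · rintro ⟨h1, h2⟩
      refine ⟨g⁻¹ • z, ⟨?_, ?_⟩, smul_inv_smul g z⟩
      · rw [Leech.sqNorm_smul]; exact h1
      · rw [← Leech.dotInt_smul g, smul_inv_smul]; exact h2
    · rintro ⟨w, ⟨h1, h2⟩, rfl⟩
      exact ⟨by rw [Leech.sqNorm_smul]; exact h1, by rw [Leech.dotInt_smul]; exact h2⟩
  have hinj : Function.Injective (fun z : ↥leechLattice => g • z) := MulAction.injective g
  have hc : ∀ y, (MulAction.orbit ↥(MulAction.stabilizer ↥Co0 (g • Leech.hV) ⊓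
      MulAction.stabilizer ↥Co0 (g • Leech.hT)) (g • y)).ncard =
      (MulAction.orbit ↥Leech.hsGroup y).ncard := fun y => by
    rw [Leech.orbit_image_of_conj, Set.ncard_image_of_injective _ hinj]
  rw [himg]
  refine ⟨g • y₁, ⟨y₁, m1, rfl⟩, g • y₂, ⟨y₂, m2, rfl⟩, g • y₃, ⟨y₃, m3, rfl⟩,
    g • y₄, ⟨y₄, m4, rfl⟩, (hc y₁).trans c1, (hc y₂).trans c2, (hc y₃).trans c3,
    (hc y₄).trans c4, ?_⟩
  simp only [Leech.orbit_image_of_conj]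
  conv_lhs => rw [hall]
  simp only [Set.image_union, Set.image_singleton]

end Cfsg.Agent.S1641
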