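import Cfsg.Statements.S1643
import Cfsg.Agent.Compute.Psl23
-- import your own Cfsg.Agent.* helpers here

set_option autoImplicit false
open scoped Pointwise
open Cfsg

namespace Cfsg.Agent.S1643

open Cfsg.Agent.Compute
open scoped Pointwise

/-- The scalings of the projective line over the residues. -/
def scale : (ZMod 23)ˣ →* Equiv.Perm Cfsg.GolayPt where
  toFun u := Equiv.optionCongr (Units.mulLeft u)
  map_one' := by ext p; cases p <;> simp
  map_mul' u v := by ext p; cases p <;> simp [mul_assoc]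

/-- The residue two as a unit. -/
def two : (ZMod 23)ˣ := ⟨2, 12, by decide, by decide⟩

theorem den_dil : rep24.den dilCode = scale two :=
  den_eq_of_apply (by decide +kernel) _ (by decide +kernel)

theorem two_square : IsSquare two := ⟨⟨5, 14, by decide, by decide⟩, by decide⟩

theorem square_pow : ∀ v : (ZMod 23)ˣ, ∃ k : Fin 11, v * v = two ^ (k : ℕ) := by decide +kernel

/-- The scalings by squares. -/
def scales : Set (Equiv.Perm Cfsg.GolayPt) :=
  {g | ∃ u : (ZMod 23)ˣ, IsSquare u ∧ g = Equiv.optionCongr (Units.mulLeft u)}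

theorem closure_eq_span (A : Set (Equiv.Perm Cfsg.GolayPt)) (l : List ℕ)
    (hl : rep24.den '' {c | c ∈ l} = A ∪ {rep24.den dilCode}) :
    Subgroup.closure (A ∪ scales) = rep24.span l := by
  rw [Rep.span, hl]
  refine le_antisymm ?_ (Subgroup.closure_mono (Set.union_subset_union_right _ ?_))
  · rw [Subgroup.closure_le]
    rintro g (hg | ⟨u, ⟨v, rfl⟩, rfl⟩)
    · exact Subgroup.subset_closure (Or.inl hg)
    · obtain ⟨k, hk⟩ := square_pow v
      change scale (v * v) ∈ _
      rw [hk, map_pow, ← den_dil, SetLike.mem_coe]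
      exact pow_mem (Subgroup.subset_closure (show rep24.den dilCode ∈ A ∪ {rep24.den dilCode} from Or.inr rfl)) _
  · rintro _ rfl
    exact ⟨two, two_square, den_dil⟩

theorem borel_closure :
    Subgroup.closure ({Equiv.optionCongr (Equiv.addRight (1 : ZMod 23))} ∪ scales) = borelGrp := by
  rw [borelGrp, ← Rep.span_of_genB psl_checks.2.2.1 psl_genB.2]
  refine closure_eq_span _ _ ?_
  rw [← den_shift]
  ext g
  simp [eq_comm, or_comm]

theorem psl_closure :
    Subgroup.closure ({Equiv.optionCongr (Equiv.addRight (1 : ZMod 23)), projInv} ∪ scales) =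
      rep24.chainGroup psl23Chain := by
  rw [← Rep.span_of_genB psl_checks.1 psl_genB.1]
  refine closure_eq_span _ _ ?_
  rw [← den_shift, ← den_projInv]
  ext g
  simp [eq_comm]
  tauto

/-- A subgroup that is maximal below another, as a subgroup of that group. -/
theorem isCoatom_comap {G A : Type*} [Group G] [Group A] (f : A →* G) (hf : Function.Injective f)
    {B M : Subgroup G} (hr : f.range = M) (hB : B ≤ M) (hne : B ≠ M)
    (hmax : ∀ H, H ≤ M → B ≤ H → H = B ∨ H = M) : IsCoatom (B.comap f) := by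
  subst hr
  refine ⟨fun h => hne (le_antisymm hB ?_), fun C hC => ?_⟩
  · rintro _ ⟨a, rfl⟩
    exact (h ▸ Subgroup.mem_top a : a ∈ B.comap f)
  · have h1 : B ≤ C.map f := by
      have := Subgroup.map_mono (f := f) hC.le
      rwa [Subgroup.map_comap_eq, inf_eq_right.mpr hB] at this
    rcases hmax (C.map f) (Subgroup.map_le_range f C) h1 with h | h
    · exact absurd (Subgroup.comap_map_eq_self_of_injective hf C ▸ congrArg (Subgroup.comap f) h) hC.ne'
    · exact Subgroup.map_injective hf (h.trans (MonoidHom.range_eq_map f))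

theorem psl_le : rep24.chainGroup psl23Chain ≤ M24 := by
  rw [← Rep.span_of_genB psl_checks.1 psl_genB.1, Rep.span, Subgroup.closure_le]
  rintro _ ⟨c, hc, rfl⟩
  exact (mem_M24_of_check (List.all_eq_true.mp psl_inM24 c hc)).2

theorem card_psl : Nat.card (rep24.chainGroup psl23Chain) = 6072 := by
  rw [Rep.card_chainGroup _ psl_checks.1, psl_checks.2.1]

theorem card_borel : Nat.card borelGrp = 253 := by
  rw [borelGrp, Rep.card_chainGroup _ psl_checks.2.2.1, psl_checks.2.2.2.1]

theorem borel_le_psl : borelGrp ≤ rep24.chainGroup psl23Chain := by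
  rw [← borel_closure, ← psl_closure]
  exact Subgroup.closure_mono (Set.union_subset_union_left _ (Set.singleton_subset_iff.mpr (Or.inl rfl)))

theorem card_m23' : Nat.card ↥(M24 ⊓ MulAction.stabilizer (Equiv.Perm GolayPt) (none : GolayPt)) =
    10200960 := card_m23

theorem borel_ne : borelGrp ≠ M24 ⊓ MulAction.stabilizer (Equiv.Perm GolayPt) (none : GolayPt) := by
  intro h
  have h1 := card_m23'
  rw [← h, card_borel] at h1
  norm_num at h1

theorem stab_cases {H : Subgroup (Equiv.Perm GolayPt)} (hH : H ≤ M24)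
    (hP : rep24.chainGroup psl23Chain ≤ H) :
    H ⊓ MulAction.stabilizer (Equiv.Perm GolayPt) (none : GolayPt) = borelGrp ∨
      H ⊓ MulAction.stabilizer (Equiv.Perm GolayPt) (none : GolayPt) =
        M24 ⊓ MulAction.stabilizer (Equiv.Perm GolayPt) (none : GolayPt) :=
  borel_maximal (inf_le_inf_right _ hH)
    (le_inf (borel_le_psl.trans hP) (borel_le_m23.trans inf_le_right))

theorem psl_trans : MulAction.orbit (rep24.chainGroup psl23Chain) (none : GolayPt) = Set.univ := by
  refine Set.eq_of_subset_of_ncard_le (Set.subset_univ _) ?_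
  have h : Nat.card (rep24.chainGroup psl23Chain) = _ := card_stab_mul (β := GolayPt) (x := none)
  have hle : (MulAction.orbit (rep24.chainGroup psl23Chain) (none : GolayPt)).ncard ≤ 24 := by
    refine le_trans (Set.ncard_le_card _) ?_
    simp [GolayPt]
  rw [card_psl] at h
  rcases stab_cases psl_le le_rfl with e | e <;> rw [e] at h
  · rw [card_borel] at h
    have hcard : Nat.card GolayPt = 24 := by simp
    rw [Set.ncard_univ, hcard]
    generalize (MulAction.orbit (rep24.chainGroup psl23Chain) (none : GolayPt)).ncard = n at h hle ⊢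
    omega
  · rw [card_m23'] at h
    omega

theorem psl_max {H : Subgroup (Equiv.Perm GolayPt)} (hH : H ≤ M24)
    (hP : rep24.chainGroup psl23Chain ≤ H) : H = rep24.chainGroup psl23Chain ∨ H = M24 := by
  have ho : MulAction.orbit H (none : GolayPt) = Set.univ := by
    rw [Set.eq_univ_iff_forall]
    intro p
    obtain ⟨g, hg⟩ : p ∈ MulAction.orbit (rep24.chainGroup psl23Chain) (none : GolayPt) :=
      psl_trans ▸ Set.mem_univ p
    exact ⟨⟨g, hP g.2⟩, hg⟩
  have h : Nat.card H = _ := card_stab_mul (β := GolayPt) (x := none)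
  rw [ho, Set.ncard_univ, show Nat.card GolayPt = 24 by simp [GolayPt]] at h
  rcases stab_cases hH hP with e | e <;> rw [e] at h
  · rw [card_borel] at h
    exact Or.inl (Subgroup.eq_of_le_of_card_ge hP (by rw [card_psl, h])).symm
  · rw [card_m23'] at h
    exact Or.inr (Subgroup.eq_of_le_of_card_ge hH (by rw [card_m24, h]))

/-- PSL(2, 23) = ⟨t ↦ t+1, t ↦ u t (u square), t ↦ −1/t⟩ is maximal of order 6072 in the group of the length-24 code, and its point stabiliser 23:11 (order 253) is maximal in the Mathieu group of degree 23. -/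
theorem result : (Subgroup.closure ({Equiv.optionCongr (Equiv.addRight (1 : ZMod 23)), Cfsg.projInv} ∪ {g : Equiv.Perm Cfsg.GolayPt | ∃ u : (ZMod 23)ˣ, IsSquare u ∧ g = Equiv.optionCongr (Units.mulLeft u)}) ≤ Cfsg.M24 ∧ Nat.card ↥(Subgroup.closure ({Equiv.optionCongr (Equiv.addRight (1 : ZMod 23)), Cfsg.projInv} ∪ {g : Equiv.Perm Cfsg.GolayPt | ∃ u : (ZMod 23)ˣ, IsSquare u ∧ g = Equiv.optionCongr (Units.mulLeft u)})) = 6072 ∧ IsCoatom ((Subgroup.closure ({Equiv.optionCongr (Equiv.addRight (1 : ZMod 23)), Cfsg.projInv} ∪ {g : Equiv.Perm Cfsg.GolayPt | ∃ u : (ZMod 23)ˣ, IsSquare u ∧ g = Equiv.optionCongr (Units.mulLeft u)})).subgroupOf Cfsg.M24)) ∧ (Subgroup.closure ({Equiv.optionCongr (Equiv.addRight (1 : ZMod 23))} ∪ {g : Equiv.Perm Cfsg.GolayPt | ∃ u : (ZMod 23)ˣ, IsSquare u ∧ g = Equiv.optionCongr (Units.mulLeft u)}) ≤ Cfsg.M24 ⊓ MulAction.stabilizer (Equiv.Perm Cfsg.GolayPt) (none : Cfsg.GolayPt) ∧ Nat.card ↥(Subgroup.closure ({Equiv.optionCongr (Equiv.addRight (1 : ZMod 23))} ∪ {g :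 Equiv.Perm Cfsg.GolayPt | ∃ u : (ZMod 23)ˣ, IsSquare u ∧ g = Equiv.optionCongr (Units.mulLeft u)})) = 253 ∧ IsCoatom (((Subgroup.closure ({Equiv.optionCongr (Equiv.addRight (1 : ZMod 23))} ∪ {g : Equiv.Perm Cfsg.GolayPt | ∃ u : (ZMod 23)ˣ, IsSquare u ∧ g = Equiv.optionCongr (Units.mulLeft u)})).subgroupOf Cfsg.M24).subgroupOf (MulAction.stabilizer Cfsg.M24 (none : Cfsg.GolayPt)))) := by
  rw [show ({g : Equiv.Perm Cfsg.GolayPt | ∃ u : (ZMod 23)ˣ, IsSquare u ∧
    g = Equiv.optionCongr (Units.mulLeft u)}) = scales from rfl, psl_closure, borel_closure]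
  refine ⟨⟨psl_le, card_psl, isCoatom_comap M24.subtype Subtype.val_injective M24.range_subtype psl_le
    (fun h => ?_) fun _ => psl_max⟩, borel_le_m23, card_borel, ?_⟩
  · have h1 := card_m24
    rw [← h, card_psl] at h1
    norm_num at h1
  · rw [Subgroup.subgroupOf, Subgroup.subgroupOf, Subgroup.comap_comap]
    refine isCoatom_comap _ (Subtype.val_injective.comp Subtype.val_injective) ?_ borel_le_m23 borel_ne
      fun _ => borel_maximal
    ext g
    constructor
    · rintro ⟨a, rfl⟩
      exact Subgroup.mem_inf.mpr ⟨a.1.2, a.2⟩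
    · exact fun hg => ⟨⟨⟨g, (Subgroup.mem_inf.mp hg).1⟩, (Subgroup.mem_inf.mp hg).2⟩, rfl⟩

end Cfsg.Agent.S1643
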