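import Cfsg.Statements.S1664
import Cfsg.Agent.Fg24.M23.Ident
import Cfsg.Agent.Compute.Mathieu
-- import your own Cfsg.Agent.* helpers here

set_option autoImplicit false
open Cfsg

namespace Cfsg.Agent.S1664

/-- The Mathieu group of degree 23 is determined by its order: a finite simple group of order 10200960 is isomorphic to the concrete M₂₃ (a point stabiliser in the group of the length-24 Golay code). -/
theorem result {G : Type*} [Group G] [Finite G] (hG : Cfsg.IsM23 G) : Cfsg.Spor.IsoM23 G := by
  obtain ⟨hs, hcard⟩ := hG
  haveI := hs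
  haveI := Cfsg.Agent.Compute.isSimpleGroup_m23
  have hM : Nat.card Cfsg.Spor.M23 = 10200960 := Cfsg.Agent.Compute.card_m23
  haveI : Finite Cfsg.Spor.M23 := Nat.finite_of_card_ne_zero (by rw [hM]; norm_num)
  letI := Fintype.ofFinite Cfsg.Spor.M23
  letI := Fintype.ofFinite G
  exact Fg24.M23.unique_ord hcard hM

end Cfsg.Agent.S1664
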