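import Cfsg.Statements.S1678
import Cfsg.Agent.Co3Rec.Ext
import Cfsg.Agent.Co3Rec.Global

set_option autoImplicit false
open Cfsg

namespace Cfsg.Agent.S1678

/-- The third Conway group from an involution centraliser: let G be a finite group with no non-trivial normal subgroup of odd order and trivial centre, having an involution t whose centraliser is a non-split double cover of the symplectic group Sp(6, 2). Then G is isomorphic to the third Conway group (the stabiliser in the Leech lattice automorphism group of a vector of the second shortest length). -/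
theorem result {G : Type*} [Group G] [Finite G] (hO : Cfsg.oddCore G = ⊥) (hZ : Subgroup.center G = ⊥) (t : G) (ht : orderOf t = 2) (hC : Cfsg.IsNonsplitDoubleCover (Subgroup.centralizer ({t} : Set G)) (Matrix.symplecticGroup (Fin 3) (ZMod 2))) : Cfsg.Spor.IsoCo3 G := by
  obtain ⟨S, -⟩ := Co3Rec.exists_setting t ht hC
  obtain ⟨n, hn, hna⟩ := S.exists_mover hO hZ
  obtain ⟨s, hrel, -⟩ := S.exists_rel hn hna
  obtain ⟨θ, hinj, -, hc, -⟩ := hrel.exists_iso ⟨Co3Rec.tC, fun h => S.T_ne_one (S.T_eq.trans h)⟩
  have hθ : ∀ x ∈ Co3Rec.C0, θ x = S.φ x := fun x hx => (hc ⟨x, hx⟩).trans (S.φ_coe ⟨x, hx⟩).symm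
  exact ⟨(MulEquiv.ofBijective θ
    ⟨hinj, MonoidHom.range_eq_top.mp (Co3Rec.range_eq_top S hθ hinj)⟩).symm⟩

end Cfsg.Agent.S1678
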