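import Cfsg.Statements.S1691
-- import your own Cfsg.Agent.* helpers here

set_option autoImplicit false
open Cfsg

namespace Cfsg.Agent.S1691

open Cfsg.Spor

/-- The sign character: every generator goes to `-1`. -/
noncomputable def sgn : Fi24 →* ℤˣ :=
  PresentedGroup.toGroup (f := fun _ => (-1 : ℤˣ)) (by
    rintro r (⟨x, -, y, -, rfl⟩ | hr)
    · simp
    · simp only [Fi24.extra, List.mem_cons, List.not_mem_nil, or_false, Set.mem_setOf_eq] at hr
      rcases hr with rfl | rfl <;> simp [Fi24.l, Fi24.k, Fi24.a, Fi24.b, Fi24.c, Fi24.d, Fi24.e,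
        Fi24.f, Fi24.g, Fi24.j, Fi24.h, Fi24.i] <;> decide)

/-- The image of a generator in the abelianisation. -/
noncomputable def abGen (x : Fi24.Gen) : Abelianization Fi24 :=
  Abelianization.of (PresentedGroup.of x)

theorem abGen_rel (x y : Fi24.Gen) (hx : x ∈ coxNodes Fi24.edges) (hy : y ∈ coxNodes Fi24.edges) :
    (abGen x * abGen y) ^ coxLabel Fi24.edges x y = 1 := by
  have h : PresentedGroup.mk (coxRelators Fi24.edges ∪ {r | r ∈ Fi24.extra})
      ((FreeGroup.of x * FreeGroup.of y) ^ coxLabel Fi24.edges x y) = 1 :=
    PresentedGroup.mk_eq_one_iff.2 (Subgroup.subset_normalClosure (Or.inl ⟨x, hx, y, hy, rfl⟩))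
  rw [map_pow, map_mul] at h
  have := congrArg (Abelianization.of) h
  rw [map_pow, map_mul, map_one] at this
  exact this

theorem abGen_sq (x : Fi24.Gen) : abGen x * abGen x = 1 := by
  have h := abGen_rel x x (by cases x <;> decide) (by cases x <;> decide)
  rwa [coxLabel, if_pos rfl, pow_one] at h

theorem abGen_adj {x y : Fi24.Gen} (h : coxLabel Fi24.edges x y = 3) : abGen x = abGen y := by
  have h3 := abGen_rel x y (by cases x <;> decide) (by cases y <;> decide)
  rw [h, mul_pow, pow_three, pow_three, abGen_sq, abGen_sq, mul_one, mul_one] at h3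
  rw [eq_inv_of_mul_eq_one_left h3, inv_eq_of_mul_eq_one_right (abGen_sq y)]

theorem abGen_eq (x : Fi24.Gen) : abGen x = abGen .d := by
  have hlk : abGen .l = abGen .k := abGen_adj (by decide)
  have hka : abGen .k = abGen .a := abGen_adj (by decide)
  have hab : abGen .a = abGen .b := abGen_adj (by decide)
  have hbc : abGen .b = abGen .c := abGen_adj (by decide)
  have hcd : abGen .c = abGen .d := abGen_adj (by decide)
  have hed : abGen .e = abGen .d := abGen_adj (by decide)
  have hfe : abGen .f = abGen .e := abGen_adj (by decide)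
  have hgf : abGen .g = abGen .f := abGen_adj (by decide)
  have hjg : abGen .j = abGen .g := abGen_adj (by decide)
  have hhd : abGen .h = abGen .d := abGen_adj (by decide)
  have hih : abGen .i = abGen .h := abGen_adj (by decide)
  cases x <;> simp [hlk, hka, hab, hbc, hcd, hed, hfe, hgf, hjg, hhd, hih]

theorem ab_cases (q : Abelianization Fi24) : q = 1 ∨ q = abGen .d := by
  obtain ⟨g, rfl⟩ : ∃ g, Abelianization.of g = q := QuotientGroup.mk_surjective q
  induction g using PresentedGroup.induction_on with
  | _ w =>
    induction w using FreeGroup.induction_on with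
    | C1 => left; simp
    | of x => right; exact abGen_eq x
    | inv_of x h =>
      right
      rw [map_inv, map_inv, show Abelianization.of (PresentedGroup.mk _ (FreeGroup.of x)) = abGen x from rfl,
        abGen_eq x, inv_eq_of_mul_eq_one_right (abGen_sq _)]
    | mul x y hx hy =>
      rw [map_mul, map_mul]
      rcases hx with hx | hx <;> rcases hy with hy | hy <;> simp [hx, hy, abGen_sq]

/-- The commutator subgroup of the presented group Fi₂₄ has index 2 (the presented group is Fi₂₄′:2 with Fi₂₄′ its derived subgroup). -/
theorem result : (commutator Cfsg.Spor.Fi24).index = 2 := by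
  rw [Subgroup.index_eq_card]
  show Nat.card (Abelianization Cfsg.Spor.Fi24) = 2
  rw [Nat.card_eq_two_iff]
  refine ⟨1, abGen .d, fun h => ?_, ?_⟩
  · have := congrArg (Abelianization.lift sgn) h
    rw [map_one, abGen, Abelianization.lift_apply_of, sgn, PresentedGroup.toGroup.of] at this
    exact absurd this (by decide)
  · refine Set.eq_univ_iff_forall.2 fun q => ?_
    rcases ab_cases q with h | h <;> simp [h]

end Cfsg.Agent.S1691
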