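import Cfsg.Statements.S5424
import Cfsg.Agent.LargeExtra.Affine

set_option autoImplicit false
open Cfsg

namespace Cfsg.Agent.S5424

open Matrix

/-- Block matrices `[[1, v], [0, A]]`. -/
def blk {k : ℕ} (v : Fin k → ZMod 2) (A : Matrix (Fin k) (Fin k) (ZMod 2)) :
    Matrix (Fin (k + 1)) (Fin (k + 1)) (ZMod 2) :=
  Matrix.of (Fin.cons (Fin.cons 1 v) fun i => Fin.cons 0 (A i))

theorem blk_00 {k : ℕ} (v : Fin k → ZMod 2) (A : Matrix (Fin k) (Fin k) (ZMod 2)) :
    blk v A 0 0 = 1 := rfl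

theorem blk_0s {k : ℕ} (v : Fin k → ZMod 2) (A : Matrix (Fin k) (Fin k) (ZMod 2)) (j : Fin k) :
    blk v A 0 j.succ = v j := rfl

theorem blk_s0 {k : ℕ} (v : Fin k → ZMod 2) (A : Matrix (Fin k) (Fin k) (ZMod 2)) (i : Fin k) :
    blk v A i.succ 0 = 0 := rfl

theorem blk_ss {k : ℕ} (v : Fin k → ZMod 2) (A : Matrix (Fin k) (Fin k) (ZMod 2)) (i j : Fin k) :
    blk v A i.succ j.succ = A i j := rfl

theorem blk_mul {k : ℕ} (v w : Fin k → ZMod 2) (A B : Matrix (Fin k) (Fin k) (ZMod 2)) :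
    blk v A * blk w B = blk (w + v ᵥ* B) (A * B) := by
  ext i j
  rw [Matrix.mul_apply, Fin.sum_univ_succ]
  refine Fin.cases ?_ (fun i => ?_) i <;> refine Fin.cases ?_ (fun j => ?_) j
  · simp [blk_00, blk_0s, blk_s0]
  · simp [blk_00, blk_0s, blk_ss, Matrix.vecMul, dotProduct]
  · simp [blk_s0, blk_ss]
  · simp [blk_s0, blk_ss, Matrix.mul_apply]

theorem blk_one {k : ℕ} : blk (0 : Fin k → ZMod 2) 1 = 1 := by
  ext i j
  refine Fin.cases ?_ (fun i => ?_) i <;> refine Fin.cases ?_ (fun j => ?_) j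
  · simp [blk_00]
  · simp [blk_0s, Matrix.one_apply_ne (Fin.succ_ne_zero j).symm]
  · simp [blk_s0, Matrix.one_apply_ne (Fin.succ_ne_zero i)]
  · simp [blk_ss, Matrix.one_apply]

theorem blk_inj {k : ℕ} {v w : Fin k → ZMod 2} {A B : Matrix (Fin k) (Fin k) (ZMod 2)}
    (h : blk v A = blk w B) : v = w ∧ A = B :=
  ⟨funext fun j => congrFun (congrFun h 0) j.succ,
    Matrix.ext fun i j => congrFun (congrFun h i.succ) j.succ⟩

theorem det_eq_one {k : ℕ} {M N : Matrix (Fin k) (Fin k) (ZMod 2)} (h : M * N = 1) : M.det = 1 := by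
  have := congrArg Matrix.det h
  rw [Matrix.det_mul, Matrix.det_one] at this
  rcases Cfsg.Agent.LargeExtra.zmod2_cases M.det with e | e
  · rw [e, zero_mul] at this; exact absurd this zero_ne_one
  · exact e

open Cfsg.Agent.LargeExtra in
/-- The affine group inside `SL (n+2, 2)`. -/
theorem exists_setup_sl (n : ℕ) (z : Matrix.SpecialLinearGroup (Fin (n + 2)) (ZMod 2))
    (hz : (z : Matrix (Fin (n + 2)) (Fin (n + 2)) (ZMod 2)) = Matrix.transvection 0 1 1) :
    ∃ S : AffineSetup n (Matrix.SpecialLinearGroup (Fin (n + 2)) (ZMod 2)), S.z = z := by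
  let Am : AL (n + 1) → Matrix (Fin (n + 1)) (Fin (n + 1)) (ZMod 2) :=
    fun g => (LinearMap.toMatrix' (g⁻¹ : AL (n + 1)).toLinearMap)ᵀ
  have hA1 : Am 1 = 1 := by simp [Am, LinearMap.toMatrix'_id]
  have hAmul : ∀ g h, Am (g * h) = Am g * Am h := fun g h => by
    simp only [Am]
    rw [_root_.mul_inv_rev, ← Matrix.transpose_mul, ← LinearMap.toMatrix'_comp]
    rfl
  have hAinv : ∀ g, Am g * Am g⁻¹ = 1 := fun g => by rw [← hAmul, mul_inv_cancel, hA1]
  have hvec : ∀ (g : AL (n + 1)) v, v ᵥ* Am g⁻¹ = g v := fun g v => by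
    simp only [Am, inv_inv]
    rw [Matrix.vecMul_transpose, LinearMap.toMatrix'_mulVec]; rfl
  let ι : Multiplicative (AV (n + 1)) →* Matrix.SpecialLinearGroup (Fin (n + 2)) (ZMod 2) :=
    { toFun := fun v => ⟨blk v.toAdd 1, det_eq_one (N := blk v.toAdd 1) (by
        rw [blk_mul, Matrix.vecMul_one, Matrix.one_mul,
          show v.toAdd + v.toAdd = 0 from funext fun i => zmod2_dbl _, blk_one])⟩
      map_one' := Subtype.ext blk_one
      map_mul' := fun a b => Subtype.ext (by
        show blk (a * b).toAdd 1 = blk a.toAdd 1 * blk b.toAdd 1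
        rw [blk_mul, Matrix.vecMul_one, Matrix.one_mul, toAdd_mul, add_comm a.toAdd b.toAdd]) }
  let μ : AL (n + 1) →* Matrix.SpecialLinearGroup (Fin (n + 2)) (ZMod 2) :=
    { toFun := fun g => ⟨blk 0 (Am g), det_eq_one (N := blk 0 (Am g⁻¹)) (by
        rw [blk_mul, Matrix.zero_vecMul, zero_add, hAinv, blk_one])⟩
      map_one' := Subtype.ext (by show blk 0 (Am 1) = _; rw [hA1, blk_one]; rfl)
      map_mul' := fun a b => Subtype.ext (by
        show blk 0 (Am (a * b)) = blk 0 (Am a) * blk 0 (Am b)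
        rw [blk_mul, Matrix.zero_vecMul, zero_add, hAmul]) }
  have hμv : ∀ g, ((μ g : Matrix.SpecialLinearGroup (Fin (n + 2)) (ZMod 2)) : Matrix _ _ (ZMod 2)) = blk 0 (Am g) :=
    fun g => rfl
  have hιv : ∀ v, ((ι v : Matrix.SpecialLinearGroup (Fin (n + 2)) (ZMod 2)) : Matrix _ _ (ZMod 2)) = blk v.toAdd 1 :=
    fun g => rfl
  have hμinj : Function.Injective μ := fun a b h => by
    have h' := (blk_inj (congrArg Subtype.val h)).2
    refine LinearEquiv.ext fun v => ?_
    have ha : Am b * Am a⁻¹ = 1 := h' ▸ hAinv a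
    have := mul_eq_one_comm.1 ha
    have e : Am a⁻¹ = Am b⁻¹ := by
      calc Am a⁻¹ = Am a⁻¹ * (Am b * Am b⁻¹) := by rw [hAinv, Matrix.mul_one]
        _ = Am b⁻¹ := by rw [← Matrix.mul_assoc, this, Matrix.one_mul]
    rw [← hvec, ← hvec, e]
  refine ⟨{ ι := ι, μ := μ
            ιinj := fun a b h => Multiplicative.toAdd.injective (blk_inj (congrArg Subtype.val h)).1
            μinj := hμinj
            compat := fun g v => ?_
            disj := ?_
            cent := fun v hv => ?_ }, ?_⟩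
  · rw [← map_inv]
    apply Subtype.ext
    simp only [Matrix.SpecialLinearGroup.coe_mul, hμv, hιv, blk_mul, Matrix.zero_vecMul, add_zero,
      toAdd_ofAdd, Matrix.mul_one, zero_add, hAinv, hvec]
  · rw [eq_bot_iff]
    rintro x ⟨⟨v, rfl⟩, g, hg⟩
    have h := (blk_inj (congrArg Subtype.val hg)).1
    rw [Subgroup.mem_bot]
    exact (congrArg ι (Multiplicative.toAdd.injective (h.symm.trans toAdd_one.symm))).trans (map_one ι)
  · intro x hx
    obtain ⟨j, hj⟩ : ∃ j, v j = 1 := by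
      by_contra hc; push Not at hc
      exact hv (funext fun i => (zmod2_cases (v i)).resolve_right (hc i))
    set X := (x : Matrix (Fin (n + 2)) (Fin (n + 2)) (ZMod 2))
    have hcomm : X * blk v 1 = blk v 1 * X := by
      have h := Subgroup.mem_centralizer_singleton_iff.1 hx
      exact congrArg (fun y : Matrix.SpecialLinearGroup (Fin (n + 2)) (ZMod 2) =>
        (y : Matrix (Fin (n + 2)) (Fin (n + 2)) (ZMod 2))) h
    have hcol : ∀ i : Fin (n + 1), X i.succ 0 = 0 := fun i => by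
      have e := congrFun (congrFun hcomm i.succ) j.succ
      simp [Matrix.mul_apply, Fin.sum_univ_succ, blk_0s, blk_s0, blk_ss, Matrix.one_apply, hj] at e
      exact e
    have h00 : X 0 0 = 1 := by
      refine (zmod2_cases _).resolve_left fun e => ?_
      have : X.det = 0 := Matrix.det_eq_zero_of_column_eq_zero 0 (fun i => by
        refine Fin.cases e hcol i)
      rw [x.2] at this
      exact one_ne_zero this
    set a : AV (n + 1) := fun j => X 0 j.succ
    set B : Matrix (Fin (n + 1)) (Fin (n + 1)) (ZMod 2) := Matrix.of fun i j => X i.succ j.succ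
    have hX : X = blk a B := by
      ext i j
      refine Fin.cases ?_ (fun i => ?_) i <;> refine Fin.cases ?_ (fun j => ?_) j
      · rw [blk_00, h00]
      · rw [blk_0s]
      · rw [blk_s0, hcol]
      · rw [blk_ss]; rfl
    set x' := (x⁻¹ : Matrix.SpecialLinearGroup (Fin (n + 2)) (ZMod 2))
    obtain ⟨B', hBB'⟩ : ∃ B', B * B' = 1 := by
      refine ⟨Matrix.of fun i j => (x' : Matrix (Fin (n + 2)) (Fin (n + 2)) (ZMod 2)) i.succ j.succ, ?_⟩
      have h1 : X * (x' : Matrix _ _ (ZMod 2)) = 1 := congrArg Subtype.val (mul_inv_cancel x)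
      rw [hX] at h1
      ext i j
      have e := congrFun (congrFun h1 i.succ) j.succ
      rw [Matrix.mul_apply, Fin.sum_univ_succ, blk_s0, zero_mul, zero_add] at e
      rw [Matrix.mul_apply]
      simpa [blk_ss, Matrix.one_apply] using e
    have hB'B := mul_eq_one_comm.1 hBB'
    -- the linear equivalence with `Am g = B`
    let g : AL (n + 1) :=
      (LinearEquiv.ofLinear (Matrix.toLin' Bᵀ) (Matrix.toLin' B'ᵀ)
        (by rw [← Matrix.toLin'_mul, ← Matrix.transpose_mul, hB'B, Matrix.transpose_one, Matrix.toLin'_one])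
        (by rw [← Matrix.toLin'_mul, ← Matrix.transpose_mul, hBB', Matrix.transpose_one, Matrix.toLin'_one]))⁻¹
    have hg : Am g = B := by
      simp only [Am, g, inv_inv]
      rw [show (LinearEquiv.ofLinear (Matrix.toLin' Bᵀ) (Matrix.toLin' B'ᵀ) _ _).toLinearMap =
        Matrix.toLin' Bᵀ from rfl, LinearMap.toMatrix'_toLin', Matrix.transpose_transpose]
    have hx' : x = ι (.ofAdd (a ᵥ* B')) * μ g := by
      apply Subtype.ext
      show X = blk (a ᵥ* B') 1 * blk 0 (Am g)
      rw [blk_mul, zero_add, hg, Matrix.one_mul, Matrix.vecMul_vecMul, hB'B, Matrix.vecMul_one, hX]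
    rw [hx']
    exact Subgroup.mul_mem_sup ⟨_, rfl⟩ ⟨_, rfl⟩
  · apply Subtype.ext
    show blk (ae0 : AV (n + 1)) 1 = (z : Matrix (Fin (n + 2)) (Fin (n + 2)) (ZMod 2))
    rw [hz]
    ext i j
    refine Fin.cases ?_ (fun i => ?_) i <;> refine Fin.cases ?_ (fun j => ?_) j
    · simp [blk_00, Matrix.transvection, Matrix.single]
    · rw [blk_0s]
      refine Fin.cases ?_ (fun j => ?_) j
      · simp [Matrix.transvection, Matrix.single, ae0, Matrix.one_apply]
      · have h1 : (1 : Fin (n + 2)) ≠ j.succ.succ := fun e => by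
          have := congrArg Fin.val e
          simp at this
        simp [Matrix.transvection, Matrix.single, ae0, Matrix.one_apply, h1, (Fin.succ_ne_zero j.succ).symm]
    · simp [blk_s0, Matrix.transvection, Matrix.single, Matrix.one_apply, (Fin.succ_ne_zero i).symm]
    · simp [blk_ss, Matrix.transvection, Matrix.single, Matrix.one_apply, (Fin.succ_ne_zero i).symm]

open Cfsg.Agent.LargeExtra in
theorem gl_equiv_sl (n : ℕ) :
    Nonempty (Matrix.GeneralLinearGroup (Fin n) (ZMod 2) ≃* Matrix.SpecialLinearGroup (Fin n) (ZMod 2)) := by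
  refine ⟨(MulEquiv.ofBijective (Matrix.SpecialLinearGroup.toGL (n := Fin n) (R := ZMod 2)) ⟨?_, ?_⟩).symm⟩
  · exact Matrix.SpecialLinearGroup.toGL_injective
  · intro g
    refine ⟨⟨(g : Matrix (Fin n) (Fin n) (ZMod 2)), det_eq_one (N := (↑g⁻¹ : Matrix (Fin n) (Fin n) (ZMod 2))) ?_⟩,
      Units.ext rfl⟩
    exact Units.mul_inv g

/-- Let G be the special linear group of degree n + 2 over the field with two elements, n ≥ 2, let z be a transvection, and let Q be the largest normal 2-subgroup of the centralizer C of z. Then Q is extraspecial of order 2^(2n+1) with an elementary abelian subgroup of order 2^(n+1) (plus type), Q is a large extraspecial 2-subgroup of G, and C is the split extension of Q by the special linear group of degree n over the field with two elements. -/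
theorem result (n : ℕ) (hn : 2 ≤ n) (z : Matrix.SpecialLinearGroup (Fin (n + 2)) (ZMod 2)) (hz : (z : Matrix (Fin (n + 2)) (Fin (n + 2)) (ZMod 2)) = Matrix.transvection 0 1 1) (Q : Subgroup (Matrix.SpecialLinearGroup (Fin (n + 2)) (ZMod 2))) (hQ : Q = (Cfsg.pCore 2 ↥(Subgroup.centralizer ({z} : Set (Matrix.SpecialLinearGroup (Fin (n + 2)) (ZMod 2))))).map (Subgroup.centralizer ({z} : Set (Matrix.SpecialLinearGroup (Fin (n + 2)) (ZMod 2)))).subtype) : Cfsg.IsExtraspecial 2 ↥Q ∧ Nat.card ↥Q = 2 ^ (2 * n + 1) ∧ (∃ E : Subgroup (Matrix.SpecialLinearGroup (Fin (n + 2)) (ZMod 2)), E ≤ Q ∧ Cfsg.IsElementaryAbelian 2 E ∧ Nat.card ↥E = 2 ^ (n + 1)) ∧ Cfsg.IsLargeExtraspecial Q ∧ ∃ K : Subgroup (Matrix.SpecialLinearGroup (Fin (n + 2)) (ZMod 2)), K ≤ Subgroup.centralizer ({z} : Set (Matrix.SpecialLinearGroup (Fin (n + 2)) (ZMod 2))) ∧ Q ⊓ K = ⊥ ∧ Q ⊔ K = Subgroup.centralizer ({z} : Set (Matrix.SpecialLinearGroup (Fin (n + 2)) (ZMod 2))) ∧ Nonempty (↥K ≃* Matrix.SpecialLinearGroup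 (Fin n) (ZMod 2)) := by
  obtain ⟨S, hS⟩ := exists_setup_sl n z hz
  subst hS
  have hQ' : Q = S.Q := hQ.trans S.pCore_eq
  subst hQ'
  obtain ⟨e⟩ := gl_equiv_sl n
  obtain ⟨e'⟩ := S.nonempty_K
  exact ⟨S.extraspecial (by omega), S.card_Q, ⟨_, S.U_elementary.1, S.U_elementary.2⟩,
    S.large (by omega), S.K, S.K_le, S.inf_K, S.sup_K, ⟨e'.trans e⟩⟩

end Cfsg.Agent.S5424
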