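import Cfsg.Statements.S1717
import Cfsg.Agent.S5424
import Cfsg.Agent.Core.PCore

set_option autoImplicit false
open Cfsg

namespace Cfsg.Agent.S1717

/-- Let G be a finite group with an involution z whose centraliser C is isomorphic to the centraliser of a transvection of SL(5, 2). Then a Sylow 2-subgroup of C, viewed in G, is a Sylow 2-subgroup of G (its index in G is odd). -/
theorem result {G : Type*} [Group G] [Finite G] (s : Matrix.SpecialLinearGroup (Fin 5) (ZMod 2)) (hs : (s : Matrix (Fin 5) (Fin 5) (ZMod 2)) = Matrix.transvection 0 1 1) (z : G) (hz : orderOf z = 2) (e : (Subgroup.centralizer ({z} : Set G)) ≃* Subgroup.centralizer ({s} : Set (Matrix.SpecialLinearGroup (Fin 5) (ZMod 2)))) (T : Sylow 2 (Subgroup.centralizer ({z} : Set G))) : ¬ 2 ∣ ((T : Subgroup (Subgroup.centralizer ({z} : Set G))).map (Subgroup.subtype (Subgroup.centralizer ({z} : Set G)))).index := by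
  have : Fact (Nat.Prime 2) := ⟨Nat.prime_two⟩
  obtain ⟨-, -, -, ⟨hE, hcenQ, -, -⟩, -⟩ :=
    Cfsg.Agent.S5424.result 3 (by norm_num) s hs _ rfl
  set Cs := Subgroup.centralizer ({s} : Set (Matrix.SpecialLinearGroup (Fin 5) (ZMod 2)))
  set Qs := (Cfsg.pCore 2 ↥Cs).map Cs.subtype
  have hzz : z * z = 1 := by rw [← sq, ← hz, pow_orderOf_eq_one]
  have hz1 : z ≠ 1 := fun h => by rw [h, orderOf_one] at hz; omega
  let z' : ↥(Subgroup.centralizer ({z} : Set G)) := ⟨z, Subgroup.mem_centralizer_singleton_iff.2 rfl⟩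
  have hz'1 : z' ≠ 1 := fun h => hz1 (congrArg Subtype.val h)
  have hz'c : ∀ c : ↥(Subgroup.centralizer ({z} : Set G)), c * z' = z' * c := fun c =>
    Subtype.ext (Subgroup.mem_centralizer_singleton_iff.1 c.2)
  have hQT : Cfsg.pCore 2 ↥(Subgroup.centralizer ({z} : Set G)) ≤ T := Cfsg.Agent.Core.pCore_le_sylow T
  have hecore : ∀ q : ↥Cs, q ∈ Cfsg.pCore 2 ↥Cs → e.symm q ∈ T := fun q hq => hQT (by
    rw [← Cfsg.Agent.Core.map_pCore (p := 2) e.symm]
    exact ⟨q, hq, rfl⟩)
  -- elements of `(Subgroup.centralizer ({z} : Set G))` centralising `T` lie in `⟨z⟩`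
  have hcen : ∀ c : ↥(Subgroup.centralizer ({z} : Set G)), (∀ t ∈ T, c * t = t * c) → c = 1 ∨ c = z' := by
    have hmem : ∀ c : ↥(Subgroup.centralizer ({z} : Set G)), (∀ t ∈ T, c * t = t * c) →
        ((e c : ↥Cs) : Matrix.SpecialLinearGroup (Fin 5) (ZMod 2)) ∈ (Subgroup.center ↥Qs).map Qs.subtype := by
      intro c hc
      rw [← hcenQ]
      refine Subgroup.mem_centralizer_iff.2 ?_
      rintro _ ⟨q, hq, rfl⟩
      have h1 := congrArg e (hc _ (hecore q hq))
      simp only [map_mul, MulEquiv.apply_symm_apply] at h1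
      exact (congrArg Subtype.val h1).symm
    intro c hc
    by_contra hne
    push Not at hne
    obtain ⟨a, ha, hae⟩ := hmem c hc
    obtain ⟨b, hb, hbe⟩ := hmem z' (fun t _ => (hz'c t).symm)
    have h2 := hE.2
    rw [Nat.card_eq_two_iff' (1 : ↥(Subgroup.center ↥Qs))] at h2
    obtain ⟨w, -, huniq⟩ := h2
    have ha1 : a ≠ 1 := fun h => hne.1 (e.injective (Subtype.ext (by
      rw [map_one, ← hae, h]; rfl)))
    have hb1 : b ≠ 1 := fun h => hz'1 (e.injective (Subtype.ext (by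
      rw [map_one, ← hbe, h]; rfl)))
    have hab : (⟨a, ha⟩ : ↥(Subgroup.center ↥Qs)) = ⟨b, hb⟩ :=
      (huniq _ fun h => ha1 (congrArg Subtype.val h)).trans
        (huniq _ fun h => hb1 (congrArg Subtype.val h)).symm
    exact hne.2 (e.injective (Subtype.ext (by rw [← hae, ← hbe, show a = b from congrArg Subtype.val hab])))
  set U := (T : Subgroup ↥(Subgroup.centralizer ({z} : Set G))).map (Subgroup.centralizer ({z} : Set G)).subtype
  intro hdvd
  obtain ⟨S, hUS⟩ := (T.isPGroup'.map (Subgroup.centralizer ({z} : Set G)).subtype).exists_le_sylow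
  have hne : U ≠ (S : Subgroup G) := fun h => S.not_dvd_index (by rw [← h]; exact hdvd)
  have hlt : U.subgroupOf S < ⊤ := lt_top_iff_ne_top.2 fun h =>
    hne (le_antisymm hUS (Subgroup.subgroupOf_eq_top.1 h))
  have := (Group.normalizerCondition_of_isNilpotent (h := S.isPGroup'.isNilpotent)) _ hlt
  obtain ⟨⟨n, hnS⟩, hn, hnU⟩ := SetLike.exists_of_lt this
  have hzU : z ∈ U := by
    refine ⟨z', ?_, rfl⟩
    have hn' : (Subgroup.zpowers z').Normal := ⟨fun x hx g => by
      obtain ⟨k, rfl⟩ := Subgroup.mem_zpowers_iff.1 hx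
      rw [← conj_zpow, hz'c g, mul_inv_cancel_right]
      exact Subgroup.zpow_mem _ (Subgroup.mem_zpowers z') k⟩
    have hzp : IsPGroup 2 ↥(Subgroup.zpowers z') := IsPGroup.of_card (n := 1) (by
      rw [Nat.card_zpowers, pow_one]
      exact orderOf_eq_prime (by rw [sq]; exact Subtype.ext hzz) hz'1)
    exact hzp.le_sylow_of_normal T (Subgroup.mem_zpowers z')
  obtain ⟨c, hcT, hce⟩ : n * z * n⁻¹ ∈ U :=
    (Subgroup.mem_normalizer_iff.1 hn ⟨z, hUS hzU⟩).1 hzU
  have hce' : (c : G) = n * z * n⁻¹ := hce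
  have hcc : ∀ t ∈ T, c * t = t * c := by
    intro t ht
    have htU : n⁻¹ * t * n ∈ U := by
      have := (Subgroup.mem_normalizer_iff.1 (inv_mem hn) ⟨t, hUS ⟨t, ht, rfl⟩⟩).1
        (show (t : G) ∈ U from ⟨t, ht, rfl⟩)
      have h' : n⁻¹ * (t : G) * n⁻¹⁻¹ ∈ U := this
      rwa [inv_inv] at h'
    obtain ⟨d, -, hde⟩ := htU
    have hdz := Subgroup.mem_centralizer_singleton_iff.1 d.2
    rw [show (d : G) = n⁻¹ * t * n from hde] at hdz
    apply Subtype.ext
    show (c : G) * t = t * c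
    rw [hce']
    calc n * z * n⁻¹ * t = n * (z * (n⁻¹ * t * n)) * n⁻¹ := by group
      _ = n * (n⁻¹ * t * n * z) * n⁻¹ := by rw [hdz]
      _ = _ := by group
  rcases hcen c hcc with e1 | e1
  · rw [e1, OneMemClass.coe_one] at hce'
    refine hz1 ?_
    calc z = n⁻¹ * (n * z * n⁻¹) * n := by group
      _ = 1 := by rw [← hce']; group
  · rw [e1] at hce'
    have hnC : n ∈ (Subgroup.centralizer ({z} : Set G)) := Subgroup.mem_centralizer_singleton_iff.2 (mul_inv_eq_iff_eq_mul.1 hce'.symm)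
    have hp : IsPGroup 2 ↥((S : Subgroup G).subgroupOf (Subgroup.centralizer ({z} : Set G))) :=
      S.isPGroup'.comap_of_injective _ Subtype.val_injective
    have hmax := T.is_maximal' hp fun t ht => hUS ⟨t, ht, rfl⟩
    exact hnU ⟨⟨n, hnC⟩, hmax ▸ (show (⟨n, hnC⟩ : ↥(Subgroup.centralizer ({z} : Set G))) ∈ (S : Subgroup G).subgroupOf (Subgroup.centralizer ({z} : Set G)) from hnS), rfl⟩

end Cfsg.Agent.S1717
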