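import Cfsg.Statements.S1722
import Cfsg.Agent.HallJanko.FiveSylow
import Cfsg.Agent.HallJanko.Reduce

set_option autoImplicit false
open Cfsg

namespace Cfsg.Agent.S1722

/-- Sylow 5-structure of a group of Hall–Janko type (large-extraspecial hypothesis with Q of order 32, quotient Ω⁻(4, 2), z not weakly closed in Q, more than one class of involutions): a Sylow 5-subgroup P is its own centraliser, has order 25, its normaliser has order 300, and the subgroups of order 5 fall into exactly two conjugacy classes. -/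
theorem result {G : Type*} [Group G] [Finite G] (z : G) (hz : orderOf z = 2) (Q : Subgroup (Subgroup.centralizer ({z} : Set G))) [Q.Normal] (hF : Cfsg.generalizedFittingSubgroup (Subgroup.centralizer ({z} : Set G)) = Q) (hQ : Cfsg.IsExtraspecial 2 Q) (hcard : Nat.card Q = 2 ^ 5) (e : (Subgroup.centralizer ({z} : Set G)) ⧸ Q ≃* Cfsg.Omega (ZMod 2) (Cfsg.quadFormMinus 1 (ZMod 2) 1 1)) (hnwc : ∃ g : G, (∃ hq : g * z * g⁻¹ ∈ Subgroup.centralizer ({z} : Set G), (⟨g * z * g⁻¹, hq⟩ : Subgroup.centralizer ({z} : Set G)) ∈ Q) ∧ g * z * g⁻¹ ≠ z) (hcl : ∃ x y : G, orderOf x = 2 ∧ orderOf y = 2 ∧ ¬ IsConj x y) (P : Sylow 5 G) : Subgroup.centralizer ((P : Subgroup G) : Set G) = P ∧ Nat.card P = 25 ∧ Nat.card (Subgroup.normalizer ((P : Subgroup G) : Set G)) = 300 ∧ ∃ X Y : Subgroup G, Nat.card X = 5 ∧ Nat.card Y = 5 ∧ (∀ g : G, X.map (MulAut.conj g).toMonoidHom ≠ Y) ∧ ∀ W : Subgroup G, Nat.card W = 5 → ∃ g : G, W.map (MulAut.conj g).toMonoidHom = X ∨ W.map (MulAut.conj g).toMonoidHom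 = Y := by
  haveI : Fact (Nat.Prime 5) := ⟨by norm_num⟩
  have h := HallJanko.HJ.mk' z hz Q hF hQ hcard e hnwc hcl
  obtain ⟨t₀, ht₀, -⟩ := h.exists_outer
  obtain ⟨s, g, K, d, c⟩ := h.exists_split_all ht₀
  obtain ⟨x, P₀, D⟩ := HallJanko.CT.exists_fiveData h d c
  obtain ⟨a, ha⟩ := MulAction.exists_smul_eq G P₀ P
  have hPmap : (P : Subgroup G) = (P₀ : Subgroup G).map (MulAut.conj a).toMonoidHom := by rw [← ha]; rfl
  have h0 := D.centralizer_eq c d h
  obtain ⟨hN, hXY⟩ := D.orbits c d h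
  refine ⟨?_, h.five_card_sylow P, ?_, hXY⟩
  · refine le_antisymm (fun u hu => ?_) (fun u hu => Subgroup.mem_centralizer_iff.2 fun v hv => ?_)
    · have hm : a⁻¹ * u * a ∈ Subgroup.centralizer ((P₀ : Subgroup G) : Set G) := by
        refine Subgroup.mem_centralizer_iff.2 fun v hv => ?_
        have hv' : a * v * a⁻¹ ∈ (P : Subgroup G) := by rw [hPmap]; exact Subgroup.mem_map.2 ⟨v, hv, rfl⟩
        have e := Subgroup.mem_centralizer_iff.1 hu _ hv'
        calc v * (a⁻¹ * u * a) = a⁻¹ * (a * v * a⁻¹ * u) * a := by group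
          _ = a⁻¹ * (u * (a * v * a⁻¹)) * a := by rw [e]
          _ = _ := by group
      rw [h0] at hm
      rw [hPmap]
      refine Subgroup.mem_map.2 ⟨_, hm, ?_⟩
      show a * (a⁻¹ * u * a) * a⁻¹ = u
      group
    · rw [hPmap] at hu hv
      obtain ⟨u', hu', rfl⟩ := hu
      obtain ⟨v', hv', rfl⟩ := hv
      show (MulAut.conj a) v' * (MulAut.conj a) u' = (MulAut.conj a) u' * (MulAut.conj a) v'
      rw [← map_mul, ← map_mul, D.comm h hv' hu']
  · rw [← hN]
    have e1 := Sylow.card_eq_index_normalizer P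
    have e2 := Sylow.card_eq_index_normalizer P₀
    have i1 := (Subgroup.normalizer ((P : Subgroup G) : Set G)).card_mul_index
    have i2 := (Subgroup.normalizer ((P₀ : Subgroup G) : Set G)).card_mul_index
    have hidx : (Subgroup.normalizer ((P : Subgroup G) : Set G)).index =
        (Subgroup.normalizer ((P₀ : Subgroup G) : Set G)).index := e1.symm.trans e2
    rw [hidx, ← i2] at i1
    exact Nat.eq_of_mul_eq_mul_right (Nat.pos_of_ne_zero Subgroup.index_ne_zero_of_finite) i1

end Cfsg.Agent.S1722
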