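import Cfsg.Statements.S1743
import Cfsg.Agent.G2Fusion.Classes
import Cfsg.Agent.G2Fusion.ChevModel

set_option autoImplicit false
open Cfsg

namespace Cfsg.Agent.S1743

open Cfsg.Agent.G2Fusion

/-- Let G be a finite simple group whose Sylow 2-subgroups are isomorphic to a Sylow 2-subgroup of the Chevalley group of type G₂ over a finite field of odd order, and let S be a Sylow 2-subgroup of G. Then either all involutions of G are conjugate, or S has order 64 and the involutions of G form exactly two conjugacy classes. -/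
theorem result {G : Type*} [Group G] [Finite G] [IsSimpleGroup G]
    {F : Type*} [Field F] [Fintype F] (hF : Odd (Fintype.card F)) (S : Sylow 2 G) (P : Sylow 2 ↥(Cfsg.Lie.chevG2.group F))
    (hS : Nonempty (↥(S : Subgroup G) ≃* ↥(P : Subgroup ↥(Cfsg.Lie.chevG2.group F)))) :
    (∀ x y : G, orderOf x = 2 → orderOf y = 2 → IsConj x y) ∨
      (Nat.card ↥(S : Subgroup G) = 64 ∧ ∃ x y : G, orderOf x = 2 ∧ orderOf y = 2 ∧ ¬ IsConj x y ∧
        ∀ z : G, orderOf z = 2 → IsConj z x ∨ IsConj z y) := by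
  classical
  have : Fact (Nat.Prime 2) := ⟨Nat.prime_two⟩
  obtain ⟨φ⟩ := hS
  obtain ⟨N, n, T, Q, hN, hcardT, hmem, hsurj, hinj, hmul⟩ := exists_model (F := F) hF
  let ψ : ↥(T : Subgroup ↥(Cfsg.Lie.chevG2.group F)) ≃* ↥(S : Subgroup G) :=
    (Sylow.equiv T P).trans φ.symm
  let D : Setup S N :=
    { P := fun u => (ψ ⟨Q u, hmem u⟩ : G)
      mem := fun u => (ψ ⟨Q u, hmem u⟩).2
      surj := fun s hs => by
        obtain ⟨u, hu⟩ := hsurj _ (ψ.symm ⟨s, hs⟩).2
        refine ⟨u, ?_⟩
        rw [show (⟨Q u, hmem u⟩ : ↥(T : Subgroup ↥(Cfsg.Lie.chevG2.group F))) = ψ.symm ⟨s, hs⟩ from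
          Subtype.ext hu, ψ.apply_symm_apply]
      inj := fun u v e => hinj (congrArg Subtype.val (ψ.injective (Subtype.ext e)))
      map_mul := fun u v => by
        rw [← Subgroup.coe_mul, ← _root_.map_mul ψ]
        exact congrArg (fun t => ((ψ t : ↥(S : Subgroup G)) : G)) (Subtype.ext (hmul u v)) }
  have hcardS : Nat.card ↥(S : Subgroup G) = 4 * N ^ 2 := by
    rw [← Nat.card_congr ψ.toEquiv, hcardT]
  have hN4 : 4 ≤ N := hN ▸ Nat.le_trans (by norm_num : 4 ≤ 2 ^ 2) (Nat.pow_le_pow_right (by norm_num) (by omega))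
  have hG : 2 < Nat.card G := by
    have := Subgroup.card_le_card_group (S : Subgroup G)
    rw [hcardS] at this
    nlinarith
  rcases D.main hN hG with h | ⟨h4, h⟩
  · exact Or.inl h
  · exact Or.inr ⟨by rw [hcardS, h4]; norm_num, h⟩

end Cfsg.Agent.S1743
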