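import Cfsg.Statements.S1749
import Cfsg.Agent.StdON.Transfer
import Cfsg.Agent.StdON.Glue
import Cfsg.Agent.StdON.Final

set_option autoImplicit false
open Cfsg

namespace Cfsg.Agent.S1749

/-- Let G be a non-abelian finite simple group with the strong B-property (every section of G has the B-property) possessing a standard subgroup L whose centre is cyclic of order 4 with quotient isomorphic to the projective special linear group of dimension 3 over the field with 4 elements. Then G is a group of Lie type in characteristic 3, or an alternating group of degree at least 9, or G is isomorphic to the O'Nan group. -/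
theorem result {G : Type*} [Group G] [Finite G] [IsSimpleGroup G] (hG : ¬ IsMulCommutative G)
    (hB : Cfsg.HasStrongBProperty G) (L : Subgroup G) (hL : Cfsg.IsStandardSubgroup L)
    {F : Type*} [Field F] [Fintype F] (hF : Fintype.card F = 4)
    (hLX : IsCyclic ↥(Subgroup.center ↥L) ∧ Nat.card ↥(Subgroup.center ↥L) = 4 ∧
      Nonempty (↥L ⧸ Subgroup.center ↥L ≃* Matrix.ProjectiveSpecialLinearGroup (Fin 3) F)) :
    Cfsg.IsLieTypeChar 3 G ∨ (∃ n : ℕ, 9 ≤ n ∧ Nonempty (G ≃* ↥(alternatingGroup (Fin n)))) ∨ Cfsg.Spor.IsoON G := by
  obtain ⟨b, ⟨S⟩⟩ := StdON.exists_base L hL hF hLX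
  have hp : StdON.Base.HasPairs b G := fun S' => StdON.exists_pair hG S'
  obtain rfl := StdON.Base.cover_eq_false hp S
  obtain ⟨d⟩ := StdON.Base.exists_finalData hp hG S
  exact .inr (.inr (StdON.isoON_of_data hG d))

end Cfsg.Agent.S1749
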