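import Cfsg.Statements.S1753
-- import your own Cfsg.Agent.* helpers here

set_option autoImplicit false
universe u
open Cfsg

namespace Cfsg.Agent.S1753

/-- Let K be any property of groups. (1) If G is a minimal counterexample relative to K — a finite non-abelian simple group not satisfying K such that every finite non-abelian simple group of smaller order satisfies K — then every proper subgroup of G is a K-group (all its non-abelian simple sections satisfy K), since such sections have smaller order than G. (2) Consequently (induction on the order), if every finite non-abelian simple group all of whose proper subgroups are K-groups satisfies K, then every finite non-abelian simple group satisfies K. -/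
theorem result (K : ∀ (X : Type u) [Group X], Prop) :
    (∀ (G : Type u) [Group G], Cfsg.IsMinCounterexampleWith K G → Cfsg.IsKProperWith K G) ∧
      ((∀ (X : Type u) [Group X] [Finite X], IsSimpleGroup X → ¬ IsMulCommutative X → Cfsg.IsKProperWith K X → K X) →
        ∀ (G : Type u) [Group G] [Finite G], IsSimpleGroup G → ¬ IsMulCommutative G → K G) := by
  have step : ∀ (G : Type u) [Group G], Cfsg.IsMinCounterexampleWith K G →
      Cfsg.IsKProperWith K G := by
    intro G _ hG H hH A N _ hs hc
    obtain ⟨hfin, -, -, -, hmin⟩ := hG
    haveI := hfin
    refine hmin _ hs hc ?_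
    calc Nat.card (A ⧸ N) ≤ Nat.card A := Nat.le_of_dvd Nat.card_pos (Subgroup.card_quotient_dvd_card N)
      _ ≤ Nat.card H := Nat.le_of_dvd Nat.card_pos (Subgroup.card_subgroup_dvd_card A)
      _ < Nat.card G := lt_of_le_of_ne (Subgroup.card_le_card_group H)
          (fun e => hH (Subgroup.eq_top_of_card_eq H e))
  refine ⟨step, fun h G _ _ hs hc => ?_⟩
  have main : ∀ n : ℕ, ∀ (X : Type u) [Group X] [Finite X], Nat.card X = n →
      IsSimpleGroup X → ¬ IsMulCommutative X → K X := by
    intro n
    induction n using Nat.strong_induction_on with
    | _ n ih =>
      intro X _ _ hn hs hc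
      by_contra hK
      refine hK (h X hs hc (step X ⟨‹_›, hs, hc, hK, ?_⟩))
      intro Y _ _ hsY hcY hlt
      exact ih _ (hn ▸ hlt) Y rfl hsY hcY
  exact main _ G rfl hs hc

end Cfsg.Agent.S1753
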