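import Cfsg.Statements.S1755
import Cfsg.Agent.Layer.FStar
import Cfsg.Agent.Core.Fitting
-- import your own Cfsg.Agent.* helpers here

set_option autoImplicit false
open Cfsg

namespace Cfsg.Agent.S1755

theorem involution_unique_of_cyclic {H : Type*} [Group H] [Finite H] (hH : IsCyclic H) {a b : H}
    (ha : orderOf a = 2) (hb : orderOf b = 2) : a = b := by
  classical
  haveI := Fintype.ofFinite H
  by_contra hne
  have h1 := IsCyclic.card_pow_eq_one_le (α := H) (n := 2) two_pos
  have ha1 : a ≠ 1 := fun h => by simp [h] at ha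
  have hb1 : b ≠ 1 := fun h => by simp [h] at hb
  have hsub : ({1, a, b} : Finset H) ⊆ (Finset.univ.filter fun x : H => x ^ 2 = 1) := by
    intro x hx
    simp only [Finset.mem_insert, Finset.mem_singleton] at hx
    simp only [Finset.mem_filter, Finset.mem_univ, true_and]
    rcases hx with rfl | rfl | rfl
    · simp
    · rw [← ha]; exact pow_orderOf_eq_one _
    · rw [← hb]; exact pow_orderOf_eq_one _
  have h2 : ({1, a, b} : Finset H).card = 3 :=
    Finset.card_eq_three.2 ⟨1, a, b, ha1.symm, hb1.symm, hne, rfl⟩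
  have := Finset.card_le_card hsub
  omega

theorem exists_involution {G : Type*} [Group G] {H : Subgroup G} [Finite H] (h2 : IsPGroup 2 H)
    (hne : H ≠ ⊥) : ∃ w ∈ H, orderOf w = 2 := by
  haveI : Nontrivial H := (Subgroup.nontrivial_iff_ne_bot H).2 hne
  obtain ⟨j, hj, hj'⟩ := h2.nontrivial_iff_card.1 inferInstance
  obtain ⟨w, hw⟩ := exists_prime_orderOf_dvd_card' (G := H) 2 (hj' ▸ dvd_pow_self 2 hj.ne')
  exact ⟨w, w.2, by rwa [← Subgroup.orderOf_coe] at hw⟩

theorem ti_aux {G : Type*} [Group G] [Finite G] (z : G) (hz : orderOf z = 2) (C : Subgroup G)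
    (hC : C = Subgroup.centralizer ({z} : Set G)) (Q : Subgroup C)
    (hQdef : Q = Cfsg.generalizedFittingSubgroup C) (hQ : Cfsg.IsOfSymplecticType Q)
    (B : Subgroup Q) (hBc : B.Characteristic) (hBa : IsMulCommutative B) (g : G) :
    (B.map (C.subtype.comp Q.subtype)).map (MulAut.conj g).toMonoidHom = B.map (C.subtype.comp Q.subtype) ∨
      (B.map (C.subtype.comp Q.subtype)).map (MulAut.conj g).toMonoidHom ⊓ B.map (C.subtype.comp Q.subtype) = ⊥ := by
  set ι : Q →* G := C.subtype.comp Q.subtype with hι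
  have hιi : Function.Injective ι := fun a b h => Subtype.ext (Subtype.ext h)
  have hBg : (B.map Q.subtype).map C.subtype = B.map ι := Subgroup.map_map _ _ _
  have hcyc : IsCyclic B := hQ.2 B hBc hBa
  -- the central element `z` as an element of `Q`
  have hzC : z ∈ C := by
    rw [hC, Subgroup.mem_centralizer_iff]
    intro h hh
    rw [Set.mem_singleton_iff.1 hh]
  have hZn : (Subgroup.zpowers (⟨z, hzC⟩ : C)).Normal := by
    refine ⟨fun n hn c => ?_⟩
    obtain ⟨m, rfl⟩ := hn
    have hc : Commute c (⟨z, hzC⟩ : C) :=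
      Subtype.ext (Subgroup.mem_centralizer_iff.1 (hC ▸ c.2 : (c : G) ∈ Subgroup.centralizer ({z} : Set G)) z rfl).symm
    simp only
    rw [(hc.zpow_right m).eq, mul_inv_cancel_right]
    exact ⟨m, rfl⟩
  have hzQ : (⟨z, hzC⟩ : C) ∈ Q := by
    haveI := hZn
    rw [hQdef]
    exact Cfsg.Agent.Layer.fitting_le_generalizedFitting
      (Cfsg.Agent.Core.le_fittingSubgroup (@CommGroup.isNilpotent _ IsCyclic.commGroup)
        (Subgroup.mem_zpowers _))
  set z' : Q := ⟨⟨z, hzC⟩, hzQ⟩ with hz'
  have hz'o : orderOf z' = 2 := by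
    rw [← orderOf_injective ι hιi z']; exact hz
  have hz'c : z' ∈ Subgroup.center Q := Subgroup.mem_center_iff.2 fun q =>
    Subtype.ext (Subtype.ext (Subgroup.mem_centralizer_iff.1 (hC ▸ (q : C).2 : ((q : C) : G) ∈ Subgroup.centralizer ({z} : Set G)) z rfl).symm)
  have hZcyc : IsCyclic (Subgroup.center Q) :=
    hQ.2 _ inferInstance ⟨⟨fun a b => Subtype.ext (Subgroup.mem_center_iff.1 b.2 a)⟩⟩
  -- every involution of `B` is `z`
  have hinv : ∀ w ∈ B, orderOf w = 2 → w = z' := by
    intro w hw ho
    have hwc : w ∈ Subgroup.center Q := by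
      rw [Subgroup.mem_center_iff]
      intro q
      haveI : B.Normal := @Subgroup.normal_of_characteristic _ _ B hBc
      have hmem : q * w * q⁻¹ ∈ B := Subgroup.Normal.conj_mem ‹_› w hw q
      have ho' : orderOf (q * w * q⁻¹) = 2 := by
        rw [← ho]; exact orderOf_injective (MulAut.conj q).toMonoidHom (MulAut.conj q).injective w
      have := involution_unique_of_cyclic hcyc (a := ⟨_, hmem⟩) (b := ⟨w, hw⟩)
        (by rwa [Subgroup.orderOf_mk]) (by rwa [Subgroup.orderOf_mk])
      exact mul_inv_eq_iff_eq_mul.1 (congrArg Subtype.val this)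
    exact congrArg Subtype.val (involution_unique_of_cyclic hZcyc (a := ⟨w, hwc⟩) (b := ⟨z', hz'c⟩)
        (by rwa [Subgroup.orderOf_mk]) (by rwa [Subgroup.orderOf_mk]))
  set BG : Subgroup G := B.map ι with hBG
  have hinvG : ∀ y ∈ BG, orderOf y = 2 → y = z := by
    rintro _ ⟨w, hw, rfl⟩ ho
    rw [orderOf_injective ι hιi] at ho
    rw [hinv w hw ho]; rfl
  refine or_iff_not_imp_right.2 fun hne => ?_
  have h2 : IsPGroup 2 ↥(BG.map (MulAut.conj g).toMonoidHom ⊓ BG) :=
    (((hQ.1).to_subgroup B).map ι).to_le inf_le_right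
  obtain ⟨y, ⟨⟨u, hu, huy⟩, hy⟩, hyo⟩ := exists_involution h2 hne
  have hgz : g * z * g⁻¹ = z := by
    have hyz := hinvG y hy hyo
    have huo : orderOf u = 2 := by
      rw [← orderOf_injective (MulAut.conj g).toMonoidHom (MulAut.conj g).injective u, huy, hyo]
    have huz := hinvG u hu huo
    rw [huz, hyz] at huy
    simpa using huy
  have hgC : g ∈ C := by
    rw [hC, Subgroup.mem_centralizer_iff]
    intro h hh
    rw [Set.mem_singleton_iff.1 hh]
    exact (mul_inv_eq_iff_eq_mul.1 hgz).symm
  haveI hch : B.Characteristic := hBc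
  haveI : Q.Normal := by
    rw [hQdef]
    exact @Subgroup.normal_of_characteristic _ _ _ Cfsg.Agent.Layer.generalizedFitting_characteristic
  haveI : (B.map Q.subtype).Normal := ConjAct.normal_of_characteristic_of_normal
  have e : (B.map Q.subtype).map (MulAut.conj (⟨g, hgC⟩ : C)).toMonoidHom = B.map Q.subtype :=
    Subgroup.mem_normalizer_iff_map_conj_eq.1 (Subgroup.normalizer_eq_top (B.map Q.subtype) ▸ Subgroup.mem_top _)
  calc BG.map (MulAut.conj g).toMonoidHom
      = ((B.map Q.subtype).map C.subtype).map (MulAut.conj g).toMonoidHom := by rw [hBG, hBg]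
    _ = ((B.map Q.subtype).map (MulAut.conj (⟨g, hgC⟩ : C)).toMonoidHom).map C.subtype := by
        simp only [Subgroup.map_map]; rfl
    _ = BG := by rw [e, hBG, hBg]

/-- Let G be a finite group and let z be an involution of G such that Q, the generalized Fitting subgroup of the centralizer C of z, is a 2-group of symplectic type (every characteristic abelian subgroup of Q is cyclic). Let B be a characteristic abelian subgroup of Q, viewed as a subgroup of G. Then for every g in G, the conjugate of B by g either equals B or meets B trivially. -/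
theorem result {G : Type*} [Group G] [Finite G] (z : G) (hz : orderOf z = 2) (hQ : Cfsg.IsOfSymplecticType ↥(Cfsg.generalizedFittingSubgroup ↥(Subgroup.centralizer ({z} : Set G))))
    (B : Subgroup ↥(Cfsg.generalizedFittingSubgroup ↥(Subgroup.centralizer ({z} : Set G)))) (hBc : B.Characteristic) (hBa : IsMulCommutative ↥B) (g : G) :
    ((B.map (Cfsg.generalizedFittingSubgroup ↥(Subgroup.centralizer ({z} : Set G))).subtype).map (Subgroup.centralizer ({z} : Set G)).subtype).map (MulAut.conj g).toMonoidHom =
        (B.map (Cfsg.generalizedFittingSubgroup ↥(Subgroup.centralizer ({z} : Set G))).subtype).map (Subgroup.centralizer ({z} : Set G)).subtype ∨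
      ((B.map (Cfsg.generalizedFittingSubgroup ↥(Subgroup.centralizer ({z} : Set G))).subtype).map (Subgroup.centralizer ({z} : Set G)).subtype).map (MulAut.conj g).toMonoidHom ⊓
        (B.map (Cfsg.generalizedFittingSubgroup ↥(Subgroup.centralizer ({z} : Set G))).subtype).map (Subgroup.centralizer ({z} : Set G)).subtype = ⊥ := by
  rw [Subgroup.map_map B]
  exact ti_aux z hz _ rfl _ rfl hQ B hBc hBa g

end Cfsg.Agent.S1755
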