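import Cfsg.Statements.S1756
import Cfsg.Agent.Fusion.Extraspecial

set_option autoImplicit false
open Cfsg

namespace Cfsg.Agent.S1756

open Subgroup
open scoped commutatorElement

/-- Let Q be an extraspecial 2-subgroup of the finite group G (special with centre of order 2) and t an involution of G normalizing Q such that the centralizer of t in Q has index at most 2 in Q. Then t lies in the product of Q with the centralizer of Q. -/
theorem result {G : Type*} [Group G] [Finite G] (Q : Subgroup G)
    (hQ : Cfsg.IsExtraspecial 2 ↥Q) (t : G) (ht : orderOf t = 2) (htN : t ∈ Subgroup.normalizer (Q : Set G))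
    (hi : (Subgroup.centralizer ({t} : Set G) ⊓ Q).relIndex Q ≤ 2) :
    t ∈ Q ⊔ Subgroup.centralizer (Q : Set G) := by
  haveI := Fact.mk Nat.prime_two
  set C : Subgroup Q := (centralizer ({t} : Set G)).subgroupOf Q with hCdef
  have hmem : ∀ y : Q, y ∈ C ↔ t * y = y * t := fun y => by
    rw [hCdef, mem_subgroupOf, mem_centralizer_singleton_iff, eq_comm]
  rw [inf_relIndex_right] at hi
  change C.index ≤ 2 at hi
  have h0 : C.index ≠ 0 := index_ne_zero_of_finite
  by_cases h1 : C.index = 1
  · refine mem_sup_right (mem_centralizer_iff.2 fun q hq => ?_)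
    exact ((hmem ⟨q, hq⟩).1 (index_eq_one.1 h1 ▸ mem_top _)).symm
  have h2 : C.index = 2 := by omega
  have hmul : ∀ {a b : Q}, a * b ∈ C ↔ (a ∈ C ↔ b ∈ C) := mul_mem_iff_of_index_two h2
  have hZ : center Q ≤ C := by
    rw [← hQ.1.2.2, commutator_def, commutator_le]
    intro a _ b _
    rw [commutatorElement_def, hmul, hmul, hmul, inv_mem_iff, inv_mem_iff]
    tauto
  have htt : t * t = 1 := by rw [← sq, ← ht]; exact pow_orderOf_eq_one t
  let φ : Q →* Q := MonoidHom.mk' (fun y => ⟨t * y * t⁻¹, (mem_normalizer_iff.1 htN _).1 y.2⟩)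
    fun a b => Subtype.ext (by simp only [coe_mul]; group)
  have hφφ : ∀ y, φ (φ y) = y := fun y => Subtype.ext (by
    show t * (t * y * t⁻¹) * t⁻¹ = y
    rw [inv_eq_of_mul_eq_one_right htt]
    calc t * (t * y * t) * t = (t * t) * y * (t * t) := by group
      _ = y := by rw [htt, one_mul, mul_one])
  have hfix : ∀ c ∈ C, φ c = c := fun c hc => Subtype.ext (by
    show t * c * t⁻¹ = c
    rw [(hmem c).1 hc, mul_inv_cancel_right])
  have hcent : ∀ y : Q, y⁻¹ * φ y ∈ center Q := by
    intro y
    by_cases hy : y ∈ C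
    · rw [hfix y hy, inv_mul_cancel]; exact one_mem _
    set w := y⁻¹ * φ y with hw
    have hφy : φ y = y * w := by rw [hw, mul_inv_cancel_left]
    clear_value w
    have hwC : ∀ c ∈ C, c * w = w * c := by
      intro c hc
      have hc' : y * c * y⁻¹ ∈ C := by rw [hmul, hmul, inv_mem_iff]; tauto
      have h := hfix _ hc'
      rw [map_mul, map_mul, map_inv, hfix c hc, hφy] at h
      have e : w * c * w⁻¹ = c := by
        have := congrArg (fun u => y⁻¹ * u * y) h
        simp only [mul_inv_rev, mul_assoc, inv_mul_cancel_left, inv_mul_cancel, mul_one] at this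
        rw [mul_assoc]; exact this
      exact (mul_inv_eq_iff_eq_mul.1 e).symm
    have hwmem : w ∈ C := by
      by_contra hwn
      refine hwn (hZ (mem_center_iff.2 fun g => ?_))
      by_cases hg : g ∈ C
      · exact hwC g hg
      have hg' : w⁻¹ * g ∈ C := by rw [hmul, inv_mem_iff]; tauto
      have h := hwC _ hg'
      rw [mul_inv_cancel_left, mul_assoc, ] at h
      calc g * w = w * (w⁻¹ * (g * w)) := by group
        _ = w * g := by rw [h]
    have hw2 : w * w = 1 := by
      have h := hφφ y
      rw [hφy, map_mul, hφy, hfix w hwmem, mul_assoc] at h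
      exact mul_eq_left.1 h
    have hyw : y * w = w * y := by
      have h := hfix (y * y) (by rw [hmul])
      rw [map_mul, hφy, mul_assoc, mul_right_inj] at h
      calc y * w = (w * (y * w)) * w := by rw [h]
        _ = w * y * (w * w) := by group
        _ = w * y := by rw [hw2, mul_one]
    refine mem_center_iff.2 fun g => ?_
    by_cases hg : g ∈ C
    · exact hwC g hg
    have hg' : y⁻¹ * g ∈ C := by rw [hmul, inv_mem_iff]; tauto
    calc g * w = y * ((y⁻¹ * g) * w) := by group
      _ = y * (w * (y⁻¹ * g)) := by rw [hwC _ hg']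
      _ = w * g := by rw [← mul_assoc, hyw]; group
  let f : Q →* Q := MonoidHom.mk' (fun y => y⁻¹ * φ y) fun a b => by
    show (a * b)⁻¹ * φ (a * b) = a⁻¹ * φ a * (b⁻¹ * φ b)
    rw [map_mul, ← mul_assoc _ b⁻¹, ← mem_center_iff.1 (hcent a) b⁻¹]
    group
  obtain ⟨e, -, he⟩ := Fusion.es_hom_eq_commutator hQ f hcent
    (fun z hz => by show z⁻¹ * φ z = 1; rw [hfix z (hZ hz), inv_mul_cancel]) ⊤ le_top
    Fusion.es_top_nondeg
  have key : ∀ y : Q, φ y = e * y * e⁻¹ := by
    intro y
    have h : y⁻¹ * φ y = ⁅e, y⁆ := he y (mem_top y)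
    calc φ y = y * ⁅e, y⁆ := by rw [← h, mul_inv_cancel_left]
      _ = ⁅e, y⁆ * y := mem_center_iff.1 (h ▸ hcent y) y
      _ = _ := by rw [commutatorElement_def]; group
  rw [show t = (e : G) * ((e : G)⁻¹ * t) by group]
  refine mul_mem (mem_sup_left e.2) (mem_sup_right (mem_centralizer_iff.2 fun q hq => ?_))
  have h := congrArg Subtype.val (key ⟨q, hq⟩)
  change t * q * t⁻¹ = e * q * (e : G)⁻¹ at h
  calc q * ((e : G)⁻¹ * t) = (e : G)⁻¹ * ((e : G) * q * (e : G)⁻¹) * t := by group
    _ = (e : G)⁻¹ * (t * q * t⁻¹) * t := by rw [h]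
    _ = _ := by group

end Cfsg.Agent.S1756
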