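import Cfsg.Statements.S1757
-- import your own Cfsg.Agent.* helpers here

set_option autoImplicit false
open Cfsg

namespace Cfsg.Agent.S1757
open scoped Pointwise

/-- Let p be a prime and A, B p-subgroups of the finite group G, each of which meets every conjugate of itself other than itself trivially. Suppose the order of A is at most that of B, A and B intersect trivially, and B normalizes A. Then A and B commute elementwise. -/
theorem result {G : Type*} [Group G] [Finite G] (p : ℕ) [Fact p.Prime] (A B : Subgroup G)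
    (hA : IsPGroup p ↥A) (hB : IsPGroup p ↥B)
    (hAti : ∀ g : G, A.map (MulAut.conj g).toMonoidHom = A ∨ A.map (MulAut.conj g).toMonoidHom ⊓ A = ⊥)
    (hBti : ∀ g : G, B.map (MulAut.conj g).toMonoidHom = B ∨ B.map (MulAut.conj g).toMonoidHom ⊓ B = ⊥)
    (hle : Nat.card ↥A ≤ Nat.card ↥B) (hAB : A ⊓ B = ⊥) (hN : B ≤ Subgroup.normalizer (A : Set G)) : ⁅A, B⁆ = ⊥ := by
  rw [Subgroup.commutator_eq_bot_iff_le_centralizer]
  have hP : IsPGroup p ↥(A ⊔ B) := hA.to_sup_of_normal_left' hB hN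
  haveI := hP.isNilpotent
  set NA : Subgroup G := A ⊓ Subgroup.normalizer (B : Set G) with hNA
  rcases eq_or_lt_of_le (inf_le_left : NA ≤ A) with hfull | hlt
  · -- `A` normalises `B`
    intro a ha
    rw [Subgroup.mem_centralizer_iff]
    intro b hb
    have hAN : a ∈ Subgroup.normalizer (B : Set G) := (hfull.ge ha).2
    have hcA : a * b * a⁻¹ * b⁻¹ ∈ A := by
      have := (Subgroup.mem_normalizer_iff.1 (hN hb) a⁻¹).1 (inv_mem ha)
      simpa [mul_assoc] using mul_mem ha this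
    have hcB : a * b * a⁻¹ * b⁻¹ ∈ B :=
      mul_mem ((Subgroup.mem_normalizer_iff.1 hAN b).1 hb) (inv_mem hb)
    have h1 : a * b * a⁻¹ * b⁻¹ = 1 := Subgroup.mem_bot.1 (hAB.le ⟨hcA, hcB⟩)
    rw [mul_inv_eq_one, mul_inv_eq_iff_eq_mul] at h1
    exact h1.symm
  exfalso
  have hBn : B ≤ Subgroup.normalizer (NA : Set G) := by
    intro b hb
    rw [Subgroup.mem_normalizer_iff]
    intro x
    have h1 := Subgroup.mem_normalizer_iff.1 (hN hb) x
    have hb' : b ∈ Subgroup.normalizer (B : Set G) := Subgroup.le_normalizer hb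
    simp only [hNA, Subgroup.mem_inf]
    rw [← h1]
    refine and_congr_right fun _ => ⟨fun hx => mul_mem (mul_mem hb' hx) (inv_mem hb'), fun hx => ?_⟩
    simpa [mul_assoc] using mul_mem (mul_mem (inv_mem hb') hx) hb'
  have hM : ((NA ⊔ B : Subgroup G) : Set G) = (NA : Set G) * (B : Set G) :=
    Subgroup.coe_mul_of_right_le_normalizer_left NA B hBn
  have hMA : ∀ x ∈ A, x ∈ NA ⊔ B → x ∈ NA := by
    intro x hxA hxM
    rw [← SetLike.mem_coe, hM] at hxM
    obtain ⟨n, hn, b, hb, rfl⟩ := hxM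
    have : b ∈ A := by simpa using mul_mem (A.inv_mem (Subgroup.mem_inf.1 hn).1) hxA
    have : b = 1 := Subgroup.mem_bot.1 (hAB.le ⟨this, hb⟩)
    simpa [this] using hn
  have hMP : NA ⊔ B ≤ A ⊔ B := sup_le_sup_right inf_le_left B
  have hltP : (NA ⊔ B).subgroupOf (A ⊔ B) < ⊤ := by
    rw [lt_top_iff_ne_top, Ne, Subgroup.subgroupOf_eq_top]
    intro hle
    obtain ⟨x, hxA, hxN⟩ := SetLike.exists_of_lt hlt
    exact hxN (hMA x hxA (hle (Subgroup.mem_sup_left hxA)))
  obtain ⟨⟨x, hxP⟩, hxn, hxM⟩ := SetLike.exists_of_lt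
    (Group.normalizerCondition_of_isNilpotent ((NA ⊔ B).subgroupOf (A ⊔ B)) hltP)
  rw [← Subgroup.subgroupOf_normalizer_eq hMP, Subgroup.mem_subgroupOf] at hxn
  rw [Subgroup.mem_subgroupOf] at hxM
  rw [← SetLike.mem_coe, Subgroup.coe_mul_of_right_le_normalizer_left A B hN] at hxP
  obtain ⟨a, haA, b, hbB, rfl⟩ := hxP
  have hbM : b ∈ NA ⊔ B := Subgroup.mem_sup_right hbB
  have han : a ∈ Subgroup.normalizer ((NA ⊔ B : Subgroup G) : Set G) := by
    simpa using mul_mem hxn (inv_mem (Subgroup.le_normalizer hbM))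
  have haM : a ∉ NA ⊔ B := fun h => hxM (mul_mem h hbM)
  have haB : a ∉ Subgroup.normalizer (B : Set G) :=
    fun h => haM (Subgroup.mem_sup_left ⟨haA, h⟩)
  have hne : B.map (MulAut.conj a).toMonoidHom ≠ B :=
    fun h => haB (Subgroup.mem_normalizer_iff_map_conj_eq.2 h)
  have hdis : B.map (MulAut.conj a).toMonoidHom ⊓ B = ⊥ := (hBti a).resolve_left hne
  have hconjM : ∀ y ∈ B.map (MulAut.conj a).toMonoidHom, y ∈ NA ⊔ B := by
    rintro y ⟨z, hz, rfl⟩
    exact (Subgroup.mem_normalizer_iff.1 han z).1 (Subgroup.mem_sup_right hz)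
  have h1 : Nat.card B * Nat.card B ≤ Nat.card ↥(NA ⊔ B) := by
    have hc : Nat.card B = Nat.card ↥(B.map (MulAut.conj a).toMonoidHom) :=
      Nat.card_congr (B.equivMapOfInjective _ (MulAut.conj a).injective).toEquiv
    conv_lhs => enter [1]; rw [hc]
    rw [← Nat.card_prod]
    refine Nat.card_le_card_of_injective
      (fun q : ↥(B.map (MulAut.conj a).toMonoidHom) × B =>
        (⟨(q.1 : G) * q.2, mul_mem (hconjM _ q.1.2) (Subgroup.mem_sup_right q.2.2)⟩ : ↥(NA ⊔ B)))
      (fun q q' h => ?_)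
    exact Subgroup.mul_injective_of_disjoint (disjoint_iff.2 hdis) (congrArg Subtype.val h)
  have h2 : Nat.card ↥(NA ⊔ B) ≤ Nat.card NA * Nat.card B := by
    rw [← Nat.card_prod]
    refine Nat.card_le_card_of_surjective
      (fun q : NA × B => (⟨(q.1 : G) * q.2, mul_mem (Subgroup.mem_sup_left q.1.2) (Subgroup.mem_sup_right q.2.2)⟩ : ↥(NA ⊔ B))) ?_
    rintro ⟨y, hy⟩
    rw [← SetLike.mem_coe, hM] at hy
    obtain ⟨n, hn, b', hb', rfl⟩ := hy
    exact ⟨(⟨n, hn⟩, ⟨b', hb'⟩), rfl⟩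
  have h3 : Nat.card NA < Nat.card A :=
    lt_of_le_of_ne (Subgroup.card_le_of_le inf_le_left)
      (fun e => hlt.ne (Subgroup.eq_of_le_of_card_ge inf_le_left e.ge))
  have h4 := le_trans h1 h2
  have h5 : Nat.card B ≤ Nat.card NA := Nat.le_of_mul_le_mul_right h4 Nat.card_pos
  omega

end Cfsg.Agent.S1757
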