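import Cfsg.Statements.S1774
import Cfsg.Agent.SymplecticType.Fours
import Cfsg.Agent.Layer.FStar

set_option autoImplicit false
open Cfsg

namespace Cfsg.Agent.S1774

open Subgroup in
open scoped commutatorElement in
theorem smallSymp {G : Type*} [Group G] [Finite G] (z : G) (hz : orderOf z = 2) (hQ : Cfsg.IsOfSymplecticType ↥(Cfsg.generalizedFittingSubgroup ↥(Subgroup.centralizer ({z} : Set G))))
    (h4 : ∀ q ∈ (Cfsg.generalizedFittingSubgroup ↥(Subgroup.centralizer ({z} : Set G))).map (Subgroup.centralizer ({z} : Set G)).subtype, q ^ 4 = 1) :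
    Cfsg.Agent.SymplecticType.SmallSymp z ((Cfsg.generalizedFittingSubgroup ↥(Subgroup.centralizer ({z} : Set G))).map (Subgroup.centralizer ({z} : Set G)).subtype) := by
  classical
  set C := Subgroup.centralizer ({z} : Set G)
  set F := Cfsg.generalizedFittingSubgroup ↥C
  have hz2 : z * z = 1 := by rw [← pow_two, ← hz, pow_orderOf_eq_one]
  have hz1 : z ≠ 1 := fun e => by rw [e, orderOf_one] at hz; omega
  have hCz : ∀ c : G, c ∈ C ↔ Commute c z := fun c => mem_centralizer_singleton_iff
  set zC : C := ⟨z, (hCz z).2 (Commute.refl z)⟩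
  have hzF : zC ∈ F := Cfsg.Agent.Layer.centralizer_generalizedFitting_le
    (mem_centralizer_iff.2 fun x _ => Subtype.ext ((hCz _).1 x.2).eq)
  haveI hn : F.Normal := inferInstance
  have h4' : ∀ x : F, x ^ 4 = 1 := fun x =>
    Subtype.ext (Subtype.ext (h4 _ (mem_map_of_mem C.subtype x.2)))
  have hun : ∀ c : F, c ∈ center F → c * c = 1 → c = 1 ∨ c = ⟨zC, hzF⟩ := by
    intro c hc hc2
    haveI := hQ.2 (center F) inferInstance inferInstance
    by_contra! hne
    have hzc : (⟨zC, hzF⟩ : F) ∈ center F :=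
      mem_center_iff.2 fun x => Subtype.ext (Subtype.ext ((hCz _).1 (x : C).2).eq)
    haveI := Fintype.ofFinite (center F)
    have h1 := IsCyclic.card_pow_eq_one_le (α := center F) (n := 2) two_pos
    have h2 : ({1, ⟨c, hc⟩, ⟨⟨zC, hzF⟩, hzc⟩} : Finset (center F)).card ≤ 2 :=
      le_trans (Finset.card_le_card fun y hy => by
        simp only [Finset.mem_insert, Finset.mem_singleton] at hy
        simp only [Finset.mem_filter, Finset.mem_univ, true_and, pow_two]
        rcases hy with rfl | rfl | rfl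
        · exact one_mul 1
        · exact Subtype.ext hc2
        · exact Subtype.ext (Subtype.ext (Subtype.ext hz2))) h1
    rw [Finset.card_insert_of_notMem, Finset.card_insert_of_notMem, Finset.card_singleton] at h2
    · omega
    · simp only [Finset.mem_singleton]
      exact fun e => hne.2 (congrArg Subtype.val e)
    · simp only [Finset.mem_insert, Finset.mem_singleton, not_or]
      exact ⟨fun e => hne.1 (congrArg Subtype.val e).symm,
        fun e => hz1 (congrArg (fun y : center F => ((((y : F) : C)) : G)) e).symm⟩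
  have hlift : ∀ c : F, c ∈ center F → c * c = 1 → ((c : C) : G) = 1 ∨ ((c : C) : G) = z :=
    fun c hc hc2 => (hun c hc hc2).imp (fun e => by rw [e]; rfl) (fun e => by rw [e])
  constructor
  · exact hz2
  · exact hz1
  · exact ⟨zC, hzF, rfl⟩
  · rintro _ ⟨x, -, rfl⟩; exact (hCz _).1 x.2
  · rintro c hc _ ⟨x, hx, rfl⟩
    exact ⟨⟨c, (hCz c).2 hc⟩ * x * ⟨c, (hCz c).2 hc⟩⁻¹, hn.conj_mem x hx _, rfl⟩
  · intro c hc hcQ
    exact ⟨⟨c, (hCz c).2 hc⟩, Cfsg.Agent.Layer.centralizer_generalizedFitting_le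
      (mem_centralizer_iff.2 fun x hx => Subtype.ext (hcQ _ (mem_map_of_mem C.subtype hx)).symm.eq), rfl⟩
  · rintro _ ⟨x, hx, rfl⟩ _ ⟨y, hy, rfl⟩
    have h1 := (Cfsg.Agent.SymplecticType.comm_square_of_exponent_four hQ h4' ⟨x, hx⟩ ⟨y, hy⟩).1
    exact hlift _ h1.1 h1.2
  · rintro _ ⟨x, hx, rfl⟩
    have h1 := (Cfsg.Agent.SymplecticType.comm_square_of_exponent_four hQ h4' ⟨x, hx⟩ ⟨x, hx⟩).2
    exact hlift _ h1.1 h1.2
  · rintro _ ⟨x, hx, rfl⟩ h2 hc
    exact hlift ⟨x, hx⟩ (mem_center_iff.2 fun y =>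
      Subtype.ext (Subtype.ext (hc _ (mem_map_of_mem C.subtype y.2)).symm.eq)) (Subtype.ext (Subtype.ext h2))

/-- Let G be a finite group and let z be an involution of G such that Q, the generalized Fitting subgroup of the centralizer C of z, is a 2-group of symplectic type (every characteristic abelian subgroup of Q is cyclic); suppose every element of Q has order dividing 4. Let g ∈ G with z' = g z g⁻¹ ≠ z and z' ∈ Q. Then z lies in the conjugate g Q g⁻¹, and the subgroup X generated by Q and g Q g⁻¹ induces every automorphism of the four-group generated by z and z': for any two distinct non-identity elements u, v of that four-group there is x ∈ X with x z x⁻¹ = u and x z' x⁻¹ = v. -/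
theorem result {G : Type*} [Group G] [Finite G] (z : G) (hz : orderOf z = 2) (hQ : Cfsg.IsOfSymplecticType ↥(Cfsg.generalizedFittingSubgroup ↥(Subgroup.centralizer ({z} : Set G))))
    (h4 : ∀ q ∈ (Cfsg.generalizedFittingSubgroup ↥(Subgroup.centralizer ({z} : Set G))).map (Subgroup.centralizer ({z} : Set G)).subtype, q ^ 4 = 1) (g : G) (hne : g * z * g⁻¹ ≠ z) (hin : g * z * g⁻¹ ∈ (Cfsg.generalizedFittingSubgroup ↥(Subgroup.centralizer ({z} : Set G))).map (Subgroup.centralizer ({z} : Set G)).subtype) :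
    z ∈ ((Cfsg.generalizedFittingSubgroup ↥(Subgroup.centralizer ({z} : Set G))).map (Subgroup.centralizer ({z} : Set G)).subtype).map (MulAut.conj g).toMonoidHom ∧
      ∀ u ∈ Subgroup.closure ({z, g * z * g⁻¹} : Set G), ∀ v ∈ Subgroup.closure ({z, g * z * g⁻¹} : Set G),
        u ≠ 1 → v ≠ 1 → u ≠ v →
          ∃ x ∈ (Cfsg.generalizedFittingSubgroup ↥(Subgroup.centralizer ({z} : Set G))).map (Subgroup.centralizer ({z} : Set G)).subtype ⊔ ((Cfsg.generalizedFittingSubgroup ↥(Subgroup.centralizer ({z} : Set G))).map (Subgroup.centralizer ({z} : Set G)).subtype).map (MulAut.conj g).toMonoidHom, x * z * x⁻¹ = u ∧ x * (g * z * g⁻¹) * x⁻¹ = v := by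
  have h := smallSymp z hz hQ h4
  exact ⟨h.mem_conj g hne hin, h.fours g hne hin⟩

end Cfsg.Agent.S1774
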