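import Cfsg.Statements.S1775
import Cfsg.Agent.Layer.CoreComp

set_option linter.style.haveILetI false

set_option autoImplicit false
open Cfsg
open scoped commutatorElement

namespace Cfsg.Agent.S1775

/-- Let G be a finite group whose generalized Fitting subgroup is a non-abelian simple group and in which every proper section (every quotient H/N of a proper subgroup H, or of G by a nontrivial normal subgroup) has the B-property. Let x, y be commuting involutions, let D be the intersection of the 2-layer of C_G(x) with C_G(y), and let J be a 2-component of D. Write Q for the quotient of C_G(y) by its largest normal odd-order subgroup. Then (i) the image of J in Q is a component of the centralizer in Q of the image of x; and (ii) for every J-invariant subgroup E of odd order of C_G(x) ∩ C_G(y), the commutator subgroup [J, E] lies in the largest normal odd-order subgroup of C_G(y). -/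
theorem result {G : Type*} [Group G] [Finite G]
    (hF : IsSimpleGroup ↥(Cfsg.generalizedFittingSubgroup G)) (hF' : ¬ IsMulCommutative ↥(Cfsg.generalizedFittingSubgroup G))
    (hsec : ∀ (H : Subgroup G) (N : Subgroup ↥H) [N.Normal], (H ≠ ⊤ ∨ N ≠ ⊥) → Cfsg.HasBProperty (↥H ⧸ N))
    (x y : G) (hx : orderOf x = 2) (hy : orderOf y = 2) (hxy : x * y = y * x)
    (J : Subgroup ↥((Cfsg.pLayer 2 ↥(Subgroup.centralizer ({x} : Set G))).map (Subgroup.centralizer ({x} : Set G)).subtype ⊓ Subgroup.centralizer ({y} : Set G)))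
    (hJ : Cfsg.IsPComponent 2 J) :
    Cfsg.IsComponent
        ((((J.map (Subgroup.subtype _)).subgroupOf (Subgroup.centralizer ({y} : Set G))).map (QuotientGroup.mk' (Cfsg.oddCore ↥(Subgroup.centralizer ({y} : Set G))))).subgroupOf
          (Subgroup.centralizer ({(QuotientGroup.mk' (Cfsg.oddCore ↥(Subgroup.centralizer ({y} : Set G))) ⟨x, Subgroup.mem_centralizer_singleton_iff.mpr hxy⟩ : ↥(Subgroup.centralizer ({y} : Set G)) ⧸ Cfsg.oddCore ↥(Subgroup.centralizer ({y} : Set G)))} : Set _))) ∧
      ∀ E : Subgroup G, E ≤ Subgroup.centralizer ({x} : Set G) ⊓ Subgroup.centralizer ({y} : Set G) → Odd (Nat.card ↥E) →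
        (∀ j ∈ J.map (Subgroup.subtype _), ∀ e ∈ E, j * e * j⁻¹ ∈ E) →
          ⁅J.map (Subgroup.subtype _), E⁆ ≤ (Cfsg.oddCore ↥(Subgroup.centralizer ({y} : Set G))).map (Subgroup.centralizer ({y} : Set G)).subtype := by
  set JG := J.map (Subgroup.subtype _) with hJG
  have hJD : JG ≤ (pLayer 2 ↥(Subgroup.centralizer ({x} : Set G))).map
      (Subgroup.centralizer ({x} : Set G)).subtype ⊓ Subgroup.centralizer ({y} : Set G) :=
    Subgroup.map_subtype_le J
  obtain ⟨hJsn, hJp0⟩ := Layer.isPComponent_iff_intrinsic.mp hJ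
  have hJGp : Layer.IsPCompGroup 2 ↥JG :=
    Layer.isPCompGroup_congr (Subgroup.equivMapOfInjective J _ (Subgroup.subtype_injective _)) hJp0
  have hJsnD : (JG.subgroupOf ((pLayer 2 ↥(Subgroup.centralizer ({x} : Set G))).map
      (Subgroup.centralizer ({x} : Set G)).subtype ⊓ Subgroup.centralizer ({y} : Set G))).IsSubnormal := by
    rw [hJG, Subgroup.subgroupOf, Subgroup.comap_map_eq_self_of_injective (Subgroup.subtype_injective _)]
    exact hJsn
  clear_value JG
  clear hJ hJsn hJp0 hJG J
  set C := Subgroup.centralizer ({y} : Set G) with hC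
  have hCtop : C ≠ ⊤ := by
    intro htop
    haveI := hF
    have h1 : y ∈ Subgroup.centralizer (generalizedFittingSubgroup G : Set G) :=
      Subgroup.mem_centralizer_iff.mpr fun g _ =>
        Subgroup.mem_centralizer_singleton_iff.mp (htop.ge (Subgroup.mem_top g) : g ∈ Subgroup.centralizer ({y} : Set G))
    have h2 := Layer.centralizer_generalizedFitting_le h1
    have h3 : (⟨y, h2⟩ : ↥(generalizedFittingSubgroup G)) ∈
        Subgroup.center ↥(generalizedFittingSubgroup G) :=
      Subgroup.mem_center_iff.mpr fun g => Subtype.ext (Subgroup.mem_centralizer_iff.mp h1 g g.2)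
    rcases (inferInstance : (Subgroup.center ↥(generalizedFittingSubgroup G)).Normal).eq_bot_or_eq_top
      with hb | ht
    · rw [hb, Subgroup.mem_bot] at h3
      have hy1 : y = 1 := congrArg Subtype.val h3
      rw [hy1, orderOf_one] at hy
      norm_num at hy
    · exact hF' ⟨⟨fun a b => (Subgroup.mem_center_iff.mp (ht ▸ Subgroup.mem_top b) a)⟩⟩
  set f := QuotientGroup.mk' (oddCore ↥C) with hf
  set xc : ↥C := ⟨x, Subgroup.mem_centralizer_singleton_iff.mpr hxy⟩ with hxc
  set xb := f xc with hxb
  have hxc2 : orderOf xc = 2 := by rw [← Subgroup.orderOf_coe, hxc]; exact hx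
  have hB := hsec C (oddCore ↥C) (Or.inl hCtop) xb (by
    refine orderOf_eq_prime (by rw [hxb, ← map_pow, orderOf_dvd_iff_pow_eq_one.mp hxc2.dvd, map_one]) ?_
    intro h1
    have h2 := orderOf_dvd_natCard (⟨xc, (QuotientGroup.eq_one_iff xc).mp h1⟩ : ↥(oddCore ↥C))
    rw [← Subgroup.orderOf_coe] at h2
    rw [show orderOf xc = 2 from hxc2] at h2
    exact Core.not_dvd_card_pPrimeCore h2)
  rw [show oddCore (↥C ⧸ oddCore ↥C) = ⊥ from Core.pPrimeCore_quotient_eq_bot, le_bot_iff,
    Subgroup.map_eq_bot_iff_of_injective _ (Subgroup.subtype_injective _)] at hB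
  set Q := Subgroup.centralizer ({xb} : Set (↥C ⧸ oddCore ↥C)) with hQ
  set H := Subgroup.centralizer ({x} : Set G) ⊓ C with hH
  have hmem : ∀ a : ↥H, (f.comp (Subgroup.inclusion inf_le_right)) a ∈ Q := fun a => by
    rw [hQ, Subgroup.mem_centralizer_singleton_iff]
    show f _ * f _ = f _ * f _
    rw [← map_mul, ← map_mul]
    exact congrArg f (Subtype.ext (Subgroup.mem_centralizer_singleton_iff.mp a.2.1))
  set φ : ↥H →* ↥Q := (f.comp (Subgroup.inclusion inf_le_right)).codRestrict Q hmem with hφ
  have hker : (Nat.card φ.ker).Coprime 2 := by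
    rw [← Subgroup.card_map_of_injective (Subgroup.inclusion_injective (inf_le_right : H ≤ C))]
    refine Core.coprime_card_pPrimeCore.coprime_dvd_left (Subgroup.card_dvd_of_le ?_)
    rintro _ ⟨a, ha, rfl⟩
    exact (QuotientGroup.eq_one_iff _).mp (congrArg Subtype.val (MonoidHom.mem_ker.mp ha))
  have hsurj : Function.Surjective φ := by
    intro q
    have hcen := Layer.map_centralizer_of_coprime (QuotientGroup.mk'_surjective (pPrimeCore 2 ↥C))
      (by rw [QuotientGroup.ker_mk']; exact Core.coprime_card_pPrimeCore)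
      (P := Subgroup.zpowers xc) (IsPGroup.of_card (n := 1) (by rw [Nat.card_zpowers, hxc2, pow_one]))
    have h1 : (q : ↥C ⧸ oddCore ↥C) ∈
        Subgroup.centralizer (((Subgroup.zpowers xc).map f : Subgroup _) : Set _) := by
      rw [MonoidHom.map_zpowers, Subgroup.mem_centralizer_iff]
      intro z hz
      obtain ⟨i, rfl⟩ := Subgroup.mem_zpowers_iff.mp hz
      exact ((Commute.zpow_left
        (Subgroup.mem_centralizer_singleton_iff.mp q.2 : Commute _ xb).symm i)).eq
    rw [← hcen] at h1
    obtain ⟨c, hc, hcq⟩ := h1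
    have hcx : (c : G) ∈ Subgroup.centralizer ({x} : Set G) := Subgroup.mem_centralizer_singleton_iff.mpr
      (congrArg Subtype.val (Subgroup.mem_centralizer_iff.mp hc _ (Subgroup.mem_zpowers _))).symm
    exact ⟨⟨c, hcx, c.2⟩, Subtype.ext hcq⟩
  set L := (pLayer 2 ↥(Subgroup.centralizer ({x} : Set G))).map
    (Subgroup.centralizer ({x} : Set G)).subtype with hL
  set D := L ⊓ C with hD
  have hLx : L ≤ Subgroup.centralizer ({x} : Set G) := Subgroup.map_subtype_le _
  have hDH : D ≤ H := inf_le_inf_right _ hLx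
  have hLn : Subgroup.centralizer ({x} : Set G) ≤ Subgroup.normalizer (L : Set G) := by
    haveI : (pLayer 2 ↥(Subgroup.centralizer ({x} : Set G))).Normal :=
      Layer.normal_sSup_of_conj fun K hK g => Layer.pLayer_characteristic_aux (MulAut.conj g) hK
    refine (Subgroup.normal_subgroupOf_iff_le_normalizer hLx).mp ?_
    rw [hL, Subgroup.subgroupOf,
      Subgroup.comap_map_eq_self_of_injective (Subgroup.subtype_injective _)]
    infer_instance
  have hJH : JG ≤ H := hJD.trans hDH
  have hsn : (JG.subgroupOf H).IsSubnormal :=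
    Subgroup.IsSubnormal.trans (fun g hg => hJD hg)
      (hJsnD.comap (Subgroup.subgroupOfEquivOfLe hDH).toMonoidHom)
      ((Subgroup.normal_subgroupOf_iff_le_normalizer hDH).mpr
        (Layer.le_normalizer_inf (inf_le_left.trans hLn) (inf_le_right.trans Subgroup.le_normalizer))).isSubnormal
  set J' := (JG.subgroupOf H).map φ with hJ'
  have hJHp : Layer.IsPCompGroup 2 ↥(JG.subgroupOf H) :=
    Layer.isPCompGroup_congr (Subgroup.subgroupOfEquivOfLe hJH).symm hJGp
  have hne : J' ≠ ⊥ := by
    intro hb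
    rw [hJ', Subgroup.map_eq_bot_iff] at hb
    refine Layer.isPCompGroup_ne_pPrimeCore hJHp (top_le_iff.mp (Core.le_pPrimeCore ?_))
    rw [Subgroup.card_top]
    exact hker.coprime_dvd_left (Subgroup.card_dvd_of_le hb)
  have hJ'p : IsPComponent 2 J' :=
    Layer.isPComponent_iff_intrinsic.mpr ⟨hsn.map hsurj, Layer.isPCompGroup_map φ hJHp hne⟩
  have hcore : ⁅J', (pPrimeCore 2 ↥J').map J'.subtype⁆ = ⊥ := le_bot_iff.mp
    ((Subgroup.commutator_mono (Layer.pComponent_le_pLayer hJ'p)
      ((Layer.map_pPrimeCore_eq_inf hJ'p.1).le.trans inf_le_right)).trans hB.le)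
  have hcomp : IsComponent J' := Layer.isPComponent_of_isComponent hJ'p
    (Layer.isQuasisimple_of_commutator_eq_bot (Layer.isPCompGroup_map φ hJHp hne) hcore)
  refine ⟨?_, fun E hE hodd hinv => ?_⟩
  · convert hcomp using 1
    ext z
    constructor
    · rintro ⟨c, hc, hcz⟩
      exact ⟨⟨c, hJH hc⟩, hc, Subtype.ext hcz⟩
    · rintro ⟨a, ha, rfl⟩
      exact ⟨⟨a, a.2.2⟩, ha, rfl⟩
  set E' := (E.subgroupOf H).map φ with hE'
  have hE'c : (Nat.card E').Coprime 2 := by
    refine Nat.Coprime.coprime_dvd_left ((Subgroup.card_map_dvd _ _).trans ?_) (Nat.coprime_two_right.mpr hodd)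
    rw [Nat.card_congr (Subgroup.subgroupOfEquivOfLe hE).toEquiv]
  have hJE : J' ≤ Subgroup.normalizer (E' : Set _) := by
    refine (Subgroup.map_mono ?_).trans (Subgroup.le_normalizer_map φ)
    exact fun j hj => Layer.mem_normalizer_of_conj_mem fun e he => hinv j hj e he
  set U := J' ⊔ E' with hU
  haveI : (E'.subgroupOf U).Normal :=
    (Subgroup.normal_subgroupOf_iff_le_normalizer le_sup_right).mpr (sup_le hJE Subgroup.le_normalizer)
  have hbot : ⁅J', E'⁆ = ⊥ := by
    rcases Layer.component_le_or_commute (Layer.isComponent_subgroupOf hcomp (le_sup_left : J' ≤ U))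
      (Subgroup.Normal.isSubnormal (inferInstance : (E'.subgroupOf U).Normal)) with hle | hcm
    · exfalso
      have h1 : J' ≤ E' := fun j hj => hle (x := ⟨j, Subgroup.mem_sup_left hj⟩) hj
      have h2 : 2 ∣ Nat.card E' :=
        (Layer.dvd_card_pComponent hJ'p).trans (Subgroup.card_dvd_of_le h1)
      exact (Nat.prime_two.coprime_iff_not_dvd.mp hE'c.symm) h2
    · have := congrArg (Subgroup.map U.subtype) hcm
      rwa [Subgroup.map_commutator, Subgroup.map_subgroupOf_eq_of_le le_sup_left,
        Subgroup.map_subgroupOf_eq_of_le le_sup_right, Subgroup.map_bot] at this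
  rw [hE', hJ', ← Subgroup.map_commutator, Subgroup.map_eq_bot_iff] at hbot
  rw [← Subgroup.map_subgroupOf_eq_of_le hJH, ← Subgroup.map_subgroupOf_eq_of_le hE,
    ← Subgroup.map_commutator]
  rintro _ ⟨a, ha, rfl⟩
  exact ⟨⟨a, a.2.2⟩, (QuotientGroup.eq_one_iff _).mp (congrArg Subtype.val (MonoidHom.mem_ker.mp (hbot ha))), rfl⟩

end Cfsg.Agent.S1775
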