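import Cfsg.Statements.S1777
import Cfsg.Agent.HSSylow.Loc
import Cfsg.Agent.HSSylow.Core
import Cfsg.Agent.HSSylow.Finish

set_option autoImplicit false
open Cfsg

namespace Cfsg.Agent.S1777

/-- Let G be a finite simple group whose Sylow 2-subgroups are isomorphic to a Sylow 2-subgroup of the Higman–Sims group. Then G is isomorphic to the Higman–Sims group. -/
theorem result {G : Type*} [Group G] [Finite G] [IsSimpleGroup G]
    (S : Sylow 2 G) (P : Sylow 2 ↥Cfsg.Spor.HS) (hS : Nonempty (↥(S : Subgroup G) ≃* ↥(P : Subgroup ↥Cfsg.Spor.HS))) :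
    Cfsg.Spor.IsoHS G := by
  obtain ⟨e⟩ := hS
  obtain ⟨L⟩ := Cfsg.Agent.HSSylow.exists_syl S P e
  have hx := L.no_caseA L.fus L.loc
  exact L.finish L.fus L.loc hx (L.core_one L.fus L.loc hx)

end Cfsg.Agent.S1777
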