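import Cfsg.Statements.S1780
-- import your own Cfsg.Agent.* helpers here

set_option autoImplicit false
open Cfsg

namespace Cfsg.Agent.S1780

/-- Let A be a finite abelian 2-group and t an automorphism of A whose order is a power of 2. If every element of A fixed by t² is fixed by t, then t fixes every element of A. -/
theorem result {A : Type*} [CommGroup A] [Finite A]
    (hA : IsPGroup 2 A) (t : MulAut A) (ht : ∃ k : ℕ, orderOf t = 2 ^ k) (hC : ∀ a : A, t (t a) = a → t a = a) :
    ∀ a : A, t a = a := by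
  obtain ⟨k, hk⟩ := ht
  let S : Subgroup A :=
    { carrier := {a | t a = a}
      one_mem' := map_one t
      mul_mem' := fun {a b} (ha : t a = a) (hb : t b = b) => show t (a * b) = a * b by rw [map_mul, ha, hb]
      inv_mem' := fun {a} (ha : t a = a) => show t a⁻¹ = a⁻¹ by rw [map_inv, ha] }
  by_contra hne
  push_neg at hne
  obtain ⟨a₀, ha₀⟩ := hne
  obtain ⟨a, ha, haS⟩ : ∃ a : A, t a ≠ a ∧ t (t a * a⁻¹) = t a * a⁻¹ := by
    have hmap : S.map (t : A ≃* A).toMonoidHom = S := by
      ext y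
      constructor
      · rintro ⟨x, hx, rfl⟩
        show t (t x) = t x
        rw [show t x = x from hx, show t x = x from hx]
      · intro hy
        exact ⟨y, hy, hy⟩
    let u : MulAut (A ⧸ S) := QuotientGroup.congr S S t hmap
    have hu : ∀ x : A, u (x : A ⧸ S) = ((t x : A) : A ⧸ S) := fun x => rfl
    have hpow : ∀ (m : ℕ) (x : A), (u ^ m) (x : A ⧸ S) = (((t ^ m) x : A) : A ⧸ S) := by
      intro m
      induction m with
      | zero => intro x; rfl
      | succ m ih => intro x; rw [pow_succ, pow_succ, MulAut.mul_apply, MulAut.mul_apply, hu, ih]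
    have hu1 : u ^ (2 ^ k) = 1 := by
      ext q
      obtain ⟨x, rfl⟩ := QuotientGroup.mk_surjective q
      rw [hpow, ← hk, pow_orderOf_eq_one]
      rfl
    have hP : IsPGroup 2 (Subgroup.zpowers u) := by
      rintro ⟨x, m, rfl⟩
      refine ⟨k, Subtype.ext ?_⟩
      show (u ^ m) ^ (2 ^ k) = 1
      rw [← zpow_natCast, ← zpow_mul, mul_comm, zpow_mul, zpow_natCast, hu1, one_zpow]
    have hQ : IsPGroup 2 (A ⧸ S) := hA.to_quotient S
    have : Nontrivial (A ⧸ S) := by
      refine nontrivial_of_ne ((a₀ : A ⧸ S)) 1 ?_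
      rw [Ne, QuotientGroup.eq_one_iff]
      exact ha₀
    obtain ⟨j, hj, hj'⟩ := hQ.nontrivial_iff_card.1 this
    have hdvd : 2 ∣ Nat.card (A ⧸ S) := hj' ▸ dvd_pow_self 2 hj.ne'
    have h1 : (1 : A ⧸ S) ∈ MulAction.fixedPoints (Subgroup.zpowers u) (A ⧸ S) := by
      rintro ⟨x, -⟩
      exact map_one x
    obtain ⟨q, hq, hq1⟩ := hP.exists_fixed_point_of_prime_dvd_card_of_fixed_point (A ⧸ S) hdvd h1
    obtain ⟨a, rfl⟩ := QuotientGroup.mk_surjective q
    have hua : u (a : A ⧸ S) = a := hq ⟨u, Subgroup.mem_zpowers u⟩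
    rw [hu, QuotientGroup.eq_iff_div_mem] at hua
    refine ⟨a, fun h => hq1 (((QuotientGroup.eq_one_iff a).2 h).symm), ?_⟩
    rw [← div_eq_mul_inv]
    exact hua
  set s := t a * a⁻¹ with hs
  have hta : t a = s * a := by simp [hs]
  have hsp : ∀ n : ℕ, t (a ^ n) = s ^ n * a ^ n := by
    intro n; rw [map_pow, hta, mul_pow]
  obtain ⟨j, hj⟩ := IsPGroup.iff_orderOf.1 hA s
  cases j with
  | zero =>
    have : s = 1 := orderOf_eq_one_iff.1 (by simpa using hj)
    exact ha (by rw [hta, this, one_mul])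
  | succ j =>
    have h2 : (s ^ (2 ^ j)) * (s ^ (2 ^ j)) = 1 := by
      rw [← pow_add, ← two_mul, ← pow_succ', ← hj, pow_orderOf_eq_one]
    have hfix : t (s ^ (2 ^ j)) = s ^ (2 ^ j) := by rw [map_pow, haS]
    have h1 := hC (a ^ (2 ^ j)) (by
      rw [hsp, map_mul, hfix, hsp, ← mul_assoc, h2, one_mul])
    rw [hsp, mul_eq_right] at h1
    have := orderOf_dvd_of_pow_eq_one h1
    rw [hj] at this
    have := Nat.le_of_dvd (by positivity) this
    have : 2 ^ j < 2 ^ (j + 1) := Nat.pow_lt_pow_right one_lt_two (Nat.lt_succ_self j)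
    omega

end Cfsg.Agent.S1780
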