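import Cfsg.Statements.S1781
import Cfsg.Agent.S1780
-- import your own Cfsg.Agent.* helpers here

set_option autoImplicit false
open Cfsg

namespace Cfsg.Agent.S1781

theorem centralizes_of_sq_ne_one {G : Type*} [Group G] [Finite G] {A₁ A₂ : Subgroup G}
    (h2 : IsPGroup 2 A₂) (hc : IsMulCommutative A₂) (h1 : IsPGroup 2 A₁) (hc1 : IsMulCommutative A₁)
    (hti : ∀ h : G, A₁.map (MulAut.conj h).toMonoidHom = A₁ ∨ A₁.map (MulAut.conj h).toMonoidHom ⊓ A₁ = ⊥)
    (hdis : A₁ ⊓ A₂ = ⊥) {b : G} (hb : b ∈ A₁) (hbN : b ∈ Subgroup.normalizer (A₂ : Set G))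
    (hb2 : b ^ 2 ≠ 1) : A₂ ≤ Subgroup.normalizer (A₁ : Set G) := by
  -- commuting with a non-identity element of `A₁` forces normalising `A₁`
  have key : ∀ c y : G, y ∈ A₁ → y ≠ 1 → c * y = y * c → c ∈ Subgroup.normalizer (A₁ : Set G) := by
    intro c y hy hy1 hcy
    rcases hti c with h | h
    · exact Subgroup.mem_normalizer_iff_map_conj_eq.2 h
    · refine absurd (Subgroup.mem_bot.1 (h.le ⟨⟨y, hy, ?_⟩, hy⟩)) hy1
      simp [hcy]
  -- normalising both ways forces commuting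
  have comm : ∀ c ∈ A₂, c ∈ Subgroup.normalizer (A₁ : Set G) → ∀ y ∈ A₁,
      y ∈ Subgroup.normalizer (A₂ : Set G) → y * c = c * y := by
    intro c hc hcN y hy hyN
    have e1 : y * c * y⁻¹ * c⁻¹ ∈ A₂ :=
      mul_mem ((Subgroup.mem_normalizer_iff.1 hyN c).1 hc) (inv_mem hc)
    have e2 : y * c * y⁻¹ * c⁻¹ ∈ A₁ := by
      have := mul_mem hy ((Subgroup.mem_normalizer_iff.1 hcN y⁻¹).1 (inv_mem hy))
      simpa [mul_assoc] using this
    have h1 : y * c * y⁻¹ * c⁻¹ = 1 := Subgroup.mem_bot.1 (hdis.le ⟨e2, e1⟩)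
    rwa [mul_inv_eq_one, mul_inv_eq_iff_eq_mul] at h1
  letI : CommGroup A₂ :=
    { (inferInstance : Group A₂) with mul_comm := fun x y => hc.is_comm.comm x y }
  let φ : ↥(Subgroup.normalizer (A₂ : Set G)) →* MulAut A₂ :=
    { toFun := fun n =>
        { toFun := fun a => ⟨n * a * (n : G)⁻¹, (Subgroup.mem_normalizer_iff.1 n.2 a).1 a.2⟩
          invFun := fun a => ⟨(n : G)⁻¹ * a * n, (Subgroup.mem_normalizer_iff''.1 n.2 a).1 a.2⟩
          left_inv := fun a => Subtype.ext (by simp [mul_assoc])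
          right_inv := fun a => Subtype.ext (by simp [mul_assoc])
          map_mul' := fun a a' => Subtype.ext (by simp [mul_assoc]) }
      map_one' := by ext a; simp
      map_mul' := fun m n => by ext a; simp [mul_assoc] }
  have hφ : ∀ a : A₂, ((φ ⟨b, hbN⟩ a : A₂) : G) = b * a * b⁻¹ := fun a => rfl
  have hord : ∃ k : ℕ, orderOf (φ ⟨b, hbN⟩) = 2 ^ k := by
    obtain ⟨k, hk⟩ := IsPGroup.iff_orderOf.1 h1 ⟨b, hb⟩
    have hd : orderOf (φ ⟨b, hbN⟩) ∣ 2 ^ k := by
      rw [← hk, Subgroup.orderOf_mk, ← Subgroup.orderOf_mk b hbN]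
      exact orderOf_map_dvd φ _
    obtain ⟨i, -, hi⟩ := (Nat.dvd_prime_pow Nat.prime_two).1 hd
    exact ⟨i, hi⟩
  have hfix : ∀ a : A₂, φ ⟨b, hbN⟩ a = a := by
    refine Cfsg.Agent.S1780.result h2 _ hord (fun a ha => ?_)
    have ha' : b * (b * a * b⁻¹) * b⁻¹ = (a : G) := by
      have := congrArg Subtype.val ha
      rwa [hφ, hφ] at this
    have haN : (a : G) ∈ Subgroup.normalizer (A₁ : Set G) :=
      key a (b ^ 2) (pow_mem hb 2) hb2 (by
        calc (a : G) * b ^ 2 = b * (b * a * b⁻¹) * b⁻¹ * b ^ 2 := by rw [ha']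
          _ = b ^ 2 * a := by simp [pow_two, mul_assoc])
    refine Subtype.ext ?_
    rw [hφ, comm a a.2 haN b hb hbN, mul_inv_cancel_right]
  intro c hc
  refine key c b hb (fun h => hb2 (by simp [h])) ?_
  have := congrArg Subtype.val (hfix ⟨c, hc⟩)
  rw [hφ, mul_inv_eq_iff_eq_mul] at this
  exact this.symm

/-- Let A be an abelian 2-subgroup of the finite group G such that every conjugate of A equals A or meets A trivially, and let g ∈ G with g A g⁻¹ ≠ A. Then either the subgroup of those elements of A that normalize g A g⁻¹ is an elementary abelian 2-group, or A and g A g⁻¹ commute elementwise. -/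
theorem result {G : Type*} [Group G] [Finite G] (A : Subgroup G)
    (hA2 : IsPGroup 2 ↥A) (hAa : IsMulCommutative ↥A)
    (hti : ∀ h : G, A.map (MulAut.conj h).toMonoidHom = A ∨ A.map (MulAut.conj h).toMonoidHom ⊓ A = ⊥)
    (g : G) (hg : A.map (MulAut.conj g).toMonoidHom ≠ A) :
    Cfsg.IsElementaryAbelian 2 (A ⊓ Subgroup.normalizer ((A.map (MulAut.conj g).toMonoidHom : Subgroup G) : Set G)) ∨
      ⁅A, A.map (MulAut.conj g).toMonoidHom⁆ = ⊥ := by
  set A' : Subgroup G := A.map (MulAut.conj g).toMonoidHom with hA'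
  refine or_iff_not_imp_left.2 fun hne => ?_
  have hdis : A ⊓ A' = ⊥ := by
    rw [inf_comm]; exact (hti g).resolve_left hg
  obtain ⟨b, hb, hbN, hb2⟩ :
      ∃ b ∈ A, b ∈ Subgroup.normalizer (A' : Set G) ∧ b ^ 2 ≠ 1 := by
    by_contra h
    push_neg at h
    refine hne ⟨?_, fun a ha => h a ha.1 ha.2⟩
    refine ⟨⟨fun x y => Subtype.ext ?_⟩⟩
    have := congrArg Subtype.val (hAa.is_comm.comm ⟨(x : G), x.2.1⟩ ⟨(y : G), y.2.1⟩)
    simpa using this
  have h2' : IsPGroup 2 A' := hA2.map _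
  have hc' : IsMulCommutative A' := by
    refine ⟨⟨fun x y => ?_⟩⟩
    obtain ⟨x, u, hu, rfl⟩ := x
    obtain ⟨y, v, hv, rfl⟩ := y
    apply Subtype.ext
    have := congrArg Subtype.val (hAa.is_comm.comm ⟨u, hu⟩ ⟨v, hv⟩)
    simpa using congrArg (MulAut.conj g) this
  have hti' : ∀ h : G, A'.map (MulAut.conj h).toMonoidHom = A' ∨
      A'.map (MulAut.conj h).toMonoidHom ⊓ A' = ⊥ := by
    intro h
    have e : A'.map (MulAut.conj h).toMonoidHom =
        (A.map (MulAut.conj (g⁻¹ * h * g)).toMonoidHom).map (MulAut.conj g).toMonoidHom := by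
      rw [hA', Subgroup.map_map, Subgroup.map_map]
      congr 1
      ext x
      simp [mul_assoc]
    rw [e, hA']
    rcases hti (g⁻¹ * h * g) with h' | h'
    · left; rw [h']
    · right
      rw [← Subgroup.map_inf _ _ _ (MulAut.conj g).injective, h', Subgroup.map_bot]
  have h1 : A' ≤ Subgroup.normalizer (A : Set G) :=
    centralizes_of_sq_ne_one h2' hc' hA2 hAa hti hdis hb hbN hb2
  have hx : (MulAut.conj g) b ∈ A' := ⟨b, hb, rfl⟩
  have h2 : A ≤ Subgroup.normalizer (A' : Set G) :=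
    centralizes_of_sq_ne_one hA2 hAa h2' hc' hti' (by rw [inf_comm]; exact hdis) hx (h1 hx)
      (fun e => hb2 ((MulAut.conj g).injective (by rw [map_pow, e, map_one])))
  rw [Subgroup.commutator_eq_bot_iff_le_centralizer]
  intro a ha
  rw [Subgroup.mem_centralizer_iff]
  intro c hc
  have e1 : a * c * a⁻¹ * c⁻¹ ∈ A' :=
    mul_mem ((Subgroup.mem_normalizer_iff.1 (h2 ha) c).1 hc) (inv_mem hc)
  have e2 : a * c * a⁻¹ * c⁻¹ ∈ A := by
    have := mul_mem ha ((Subgroup.mem_normalizer_iff.1 (h1 hc) a⁻¹).1 (inv_mem ha))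
    simpa [mul_assoc] using this
  have h : a * c * a⁻¹ * c⁻¹ = 1 := Subgroup.mem_bot.1 (hdis.le ⟨e2, e1⟩)
  rw [mul_inv_eq_one, mul_inv_eq_iff_eq_mul] at h
  exact h.symm

end Cfsg.Agent.S1781
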