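import Cfsg.Statements.S1783
import Cfsg.Agent.S1782
import Cfsg.Agent.Core.PCore
import Cfsg.Agent.Core.Frattini
import Cfsg.Agent.Layer.FStar

set_option autoImplicit false
open Cfsg

namespace Cfsg.Agent.S1783

theorem mem_core_of_squares {X : Type*} [Group X] [Finite X]
    (hX : Cfsg.generalizedFittingSubgroup X = Cfsg.pCore 2 X) (b : X)
    (hb : ∀ L : Subgroup X, L.Normal → L ≤ Cfsg.pCore 2 X → ∀ q ∈ L,
      q * b * q⁻¹ * b⁻¹ ∈ Subgroup.closure ((fun a : X => a ^ 2) '' (L : Set X))) :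
    b ∈ Cfsg.pCore 2 X := by
  have : Fact (Nat.Prime 2) := ⟨Nat.prime_two⟩
  set Q := Cfsg.pCore 2 X
  have hQp : IsPGroup 2 ↥Q := Cfsg.Agent.Core.pCore_isPGroup
  let sq : Subgroup X → Subgroup X := fun L => Subgroup.closure ((fun a : X => a ^ 2) '' (L : Set X))
  have hsqn : ∀ L : Subgroup X, L.Normal → (sq L).Normal := fun L hL => ⟨fun n hn g => by
    have h : (sq L).map (MulAut.conj g).toMonoidHom ≤ sq L := by
      rw [MonoidHom.map_closure]
      apply (Subgroup.closure_le _).2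
      rintro _ ⟨_, ⟨x, hx, rfl⟩, rfl⟩
      exact Subgroup.subset_closure ⟨g * x * g⁻¹, hL.conj_mem x hx g, conj_pow⟩
    exact h ⟨n, hn, rfl⟩⟩
  have hsqle : ∀ L : Subgroup X, sq L ≤ L := fun L => (Subgroup.closure_le _).2 (by
    rintro _ ⟨x, hx, rfl⟩; exact L.pow_mem hx 2)
  let Y : Subgroup X :=
    { carrier := {x | ∀ L : Subgroup X, L.Normal → L ≤ Q → ∀ q ∈ L, q * x * q⁻¹ * x⁻¹ ∈ sq L}
      one_mem' := fun L _ _ q _ => by simp
      mul_mem' := fun {x y} hx hy L hL hLQ q hq => by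
        rw [show q * (x * y) * q⁻¹ * (x * y)⁻¹ =
          q * x * q⁻¹ * x⁻¹ * (x * (q * y * q⁻¹ * y⁻¹) * x⁻¹) by group]
        exact mul_mem (hx L hL hLQ q hq) ((hsqn L hL).conj_mem _ (hy L hL hLQ q hq) x)
      inv_mem' := fun {x} hx L hL hLQ q hq => by
        rw [show q * x⁻¹ * q⁻¹ * x⁻¹⁻¹ = x⁻¹ * (q * x * q⁻¹ * x⁻¹)⁻¹ * x⁻¹⁻¹ by group]
        exact (hsqn L hL).conj_mem _ (inv_mem (hx L hL hLQ q hq)) _ }
  have hYn : Y.Normal := ⟨fun x hx g L hL hLQ q hq => by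
    rw [show q * (g * x * g⁻¹) * q⁻¹ * (g * x * g⁻¹)⁻¹ =
      g * (g⁻¹ * q * g * x * (g⁻¹ * q * g)⁻¹ * x⁻¹) * g⁻¹ by group]
    exact (hsqn L hL).conj_mem _ (hx L hL hLQ _ (by simpa using hL.conj_mem q hq g⁻¹)) g⟩
  have hodd : ∀ (n : ℕ) (L : Subgroup X), Nat.card ↥L = n → L.Normal → L ≤ Q → ∀ y ∈ Y,
      Odd (orderOf y) → ∀ q ∈ L, q * y = y * q := by
    intro n
    induction n using Nat.strong_induction_on with
    | _ n ih =>
      intro L hn hL hLQ y hy hodd q hq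
      rcases eq_or_ne L ⊥ with hbot | hbot
      · rw [hbot, Subgroup.mem_bot] at hq; simp [hq]
      have hlt : sq L < L := by
        have hLp : IsPGroup 2 ↥L := hQp.to_le hLQ
        have : Nontrivial ↥L := (Subgroup.nontrivial_iff_ne_bot L).2 hbot
        refine lt_of_le_of_ne (hsqle L) fun e => ?_
        have h1 : sq L ≤ (frattini ↥L).map L.subtype := (Subgroup.closure_le _).2 (by
          rintro _ ⟨x, hx, rfl⟩
          exact ⟨⟨x, hx⟩ ^ 2, Cfsg.Agent.Core.pow_mem_frattini hLp _, rfl⟩)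
        rw [e] at h1
        have h2 : frattini ↥L = ⊤ := eq_top_iff.2 fun x _ => by
          obtain ⟨u, hu, hux⟩ := h1 x.2
          rwa [← Subtype.ext hux]
        obtain ⟨M, hM, -⟩ := (eq_top_or_exists_le_coatom (⊥ : Subgroup ↥L)).resolve_left
          (bot_ne_top (α := Subgroup ↥L))
        exact hM.1 (top_le_iff.1 (h2 ▸ frattini_le_coatom hM))
      set c := q * y * q⁻¹ * y⁻¹ with hc
      have hcL : c ∈ sq L := hy L hL hLQ q hq
      have hcy : Commute c y := ih _ (hn ▸ Set.ncard_lt_ncard hlt (Set.toFinite _)) _ rfl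
        (hsqn L hL) ((hsqle L).trans hLQ) y hy hodd c hcL
      have h1 : c * y = q * y * q⁻¹ := by rw [hc]; group
      have h2 : c ^ orderOf y = 1 := by
        have h3 : (c * y) ^ orderOf y = 1 := by rw [h1, conj_pow, pow_orderOf_eq_one]; group
        rwa [hcy.mul_pow, pow_orderOf_eq_one, mul_one] at h3
      obtain ⟨k, hk⟩ := hQp ⟨c, hLQ (hsqle L hcL)⟩
      have hk' : c ^ 2 ^ k = 1 := congrArg Subtype.val hk
      have : orderOf c = 1 := Nat.Coprime.eq_one_of_dvd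
        (Nat.Coprime.pow_right k ((Nat.coprime_two_right.2
          (hodd.of_dvd_nat (orderOf_dvd_of_pow_eq_one h2)))))
        (orderOf_dvd_of_pow_eq_one hk')
      rw [orderOf_eq_one_iff] at this
      rw [this] at hc
      exact mul_inv_eq_iff_eq_mul.1 (mul_inv_eq_one.1 hc.symm)
  have hYp : IsPGroup 2 ↥Y := by
    intro x
    obtain ⟨k, m, hm, he⟩ := Nat.exists_eq_two_pow_mul_odd (orderOf_pos (x : X)).ne'
    refine ⟨k, Subtype.ext ?_⟩
    show (x : X) ^ 2 ^ k = 1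
    have ho : orderOf ((x : X) ^ 2 ^ k) = m := by
      rw [orderOf_pow, he, Nat.gcd_eq_right (dvd_mul_right _ _), Nat.mul_div_cancel_left _ (by positivity)]
    have hmQ : (x : X) ^ 2 ^ k ∈ Q := by
      have := Cfsg.Agent.Layer.centralizer_generalizedFitting_le (G := X)
      rw [hX] at this
      refine this (Subgroup.mem_centralizer_iff.2 fun q hq => ?_)
      exact hodd _ Q rfl inferInstance le_rfl _ (Y.pow_mem x.2 _) (ho ▸ hm) q hq
    obtain ⟨j, hj⟩ := hQp ⟨_, hmQ⟩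
    have hj' : ((x : X) ^ 2 ^ k) ^ 2 ^ j = 1 := congrArg Subtype.val hj
    rw [← orderOf_eq_one_iff, ho]
    refine Nat.Coprime.eq_one_of_dvd (Nat.Coprime.pow_right j (Nat.coprime_two_right.2 hm)) ?_
    rw [← ho]; exact orderOf_dvd_of_pow_eq_one hj'
  exact Cfsg.Agent.Core.le_pCore hYp hb

theorem ti_commute {X : Type*} [Group X] [Finite X] (S A : Subgroup X) (hS : IsPGroup 2 ↥S)
    (hAS : A ≤ S) (hAn : ∃ a ∈ A, a ^ 2 ≠ 1)
    (P : X → Prop) (hP : ∀ g h, g ∈ S → P h → P (g * h)) (hP1 : P 1)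
    (hPS : ∀ h, P h → A.map (MulAut.conj h).toMonoidHom ≤ S)
    (hti : ∀ h : X, A.map (MulAut.conj h).toMonoidHom = A ∨ A.map (MulAut.conj h).toMonoidHom ⊓ A = ⊥)
    {h : X} (hh : P h) (hne : A.map (MulAut.conj h).toMonoidHom ≠ A) :
    ∀ a ∈ A, ∀ b ∈ A.map (MulAut.conj h).toMonoidHom, a * b = b * a := by
  have : Fact (Nat.Prime 2) := ⟨Nat.prime_two⟩
  let Δ : Set (Subgroup ↥S) :=
    {R | ∃ g, P g ∧ R = (A.map (MulAut.conj g).toMonoidHom).subgroupOf S}
  have hA1 : A.map (MulAut.conj (1 : X)).toMonoidHom = A := by ext; simp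
  have hmm : ∀ g k : X, (A.map (MulAut.conj k).toMonoidHom).map (MulAut.conj g).toMonoidHom =
      A.map (MulAut.conj (g * k)).toMonoidHom := by
    intro g k
    rw [Subgroup.map_map]
    congr 1
    ext x
    simp [mul_assoc]
  have hinv : ∀ s : ↥S, ∀ R ∈ Δ, R.map (MulAut.conj s).toMonoidHom ∈ Δ := by
    rintro s _ ⟨g, hg, rfl⟩
    refine ⟨(s : X) * g, hP _ _ s.2 hg, ?_⟩
    rw [← hmm]
    ext x
    constructor
    · rintro ⟨y, hy, rfl⟩; exact ⟨y, hy, rfl⟩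
    · rintro ⟨y, hy, hyx⟩
      exact ⟨⟨y, hPS g hg hy⟩, hy, Subtype.ext hyx⟩
  have hΦ : ∀ R ∈ Δ, frattini ↥R ≠ ⊥ := by
    rintro _ ⟨g, hg, rfl⟩ e
    obtain ⟨a, ha, ha2⟩ := hAn
    have h1 : g * a * g⁻¹ ∈ A.map (MulAut.conj g).toMonoidHom := ⟨a, ha, rfl⟩
    have h2 := Cfsg.Agent.Core.pow_mem_frattini (hS.to_subgroup _)
      (⟨⟨_, hPS g hg h1⟩, h1⟩ : ↥((A.map (MulAut.conj g).toMonoidHom).subgroupOf S))
    rw [e, Subgroup.mem_bot] at h2
    have h3 : (g * a * g⁻¹) ^ 2 = 1 := congrArg (fun x => ((x.1 : ↥S) : X)) h2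
    rw [conj_pow] at h3
    exact ha2 (by have := congrArg (fun x => g⁻¹ * x * g) h3; simpa [mul_assoc] using this)
  have hcard : ∀ R ∈ Δ, Nat.card ↥R = Nat.card ↥A := by
    rintro _ ⟨g, hg, rfl⟩
    rw [Nat.card_congr (Subgroup.subgroupOfEquivOfLe (hPS g hg)).toEquiv,
      Subgroup.card_map_of_injective (MulAut.conj g).injective]
  have hti' : ∀ R ∈ Δ, ∀ T ∈ Δ, R = T ∨ R ⊓ T = ⊥ := by
    rintro _ ⟨g, hg, rfl⟩ _ ⟨k, hk, rfl⟩
    rcases hti (g⁻¹ * k) with e | e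
    · left
      have := congrArg (Subgroup.map (MulAut.conj g).toMonoidHom) e
      rw [hmm, mul_inv_cancel_left] at this
      rw [this]
    · right
      have := congrArg (Subgroup.map (MulAut.conj g).toMonoidHom) e
      rw [Subgroup.map_inf _ _ _ (MulAut.conj g).injective, hmm, mul_inv_cancel_left,
        Subgroup.map_bot] at this
      rw [eq_bot_iff]
      intro x hx
      exact Subtype.ext (Subgroup.mem_bot.1 (this.le (Subgroup.mem_inf.2 ⟨hx.2, hx.1⟩)))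
  intro a ha b hb
  have := Cfsg.Agent.S1782.comm_all hS Δ hinv hΦ
    (fun R hR T hT => (hcard R hR).trans (hcard T hT).symm) hti' _ ⊤ rfl
    (A.subgroupOf S) ⟨1, hP1, by rw [hA1]⟩
    ((A.map (MulAut.conj h).toMonoidHom).subgroupOf S) ⟨h, hh, rfl⟩ le_top le_top
    (fun e => hne (le_antisymm
      (fun x hx => (e.ge (show (⟨x, hPS h hh hx⟩ : ↥S) ∈ _ from hx)))
      (fun x hx => (e.le (show (⟨x, hAS hx⟩ : ↥S) ∈ _ from hx)))))
    ⟨a, hAS ha⟩ ha ⟨b, hPS h hh hb⟩ hb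
  exact congrArg Subtype.val this

/-- Let X be a finite group whose generalized Fitting subgroup equals its largest normal 2-subgroup Q, and let A be an abelian 2-subgroup of X such that every conjugate of A equals A or meets A trivially. Let B be the subgroup generated by the squares of the elements of A. Then B lies in Q, and if B is not an elementary abelian 2-group then the normal closure of B in X is commutative. -/
theorem result {X : Type*} [Group X] [Finite X]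
    (hX : Cfsg.generalizedFittingSubgroup X = Cfsg.pCore 2 X) (A : Subgroup X) (hA2 : IsPGroup 2 ↥A) (hAa : IsMulCommutative ↥A)
    (hti : ∀ h : X, A.map (MulAut.conj h).toMonoidHom = A ∨ A.map (MulAut.conj h).toMonoidHom ⊓ A = ⊥) :
    Subgroup.closure ((fun a : X => a ^ 2) '' (A : Set X)) ≤ Cfsg.pCore 2 X ∧
      (¬ Cfsg.IsElementaryAbelian 2 (Subgroup.closure ((fun a : X => a ^ 2) '' (A : Set X))) →
        IsMulCommutative ↥(Subgroup.normalClosure ((fun a : X => a ^ 2) '' (A : Set X)))) := by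
  have : Fact (Nat.Prime 2) := ⟨Nat.prime_two⟩
  set Q := Cfsg.pCore 2 X with hQ
  have hQp : IsPGroup 2 ↥Q := Cfsg.Agent.Core.pCore_isPGroup
  have hA1 : A.map (MulAut.conj (1 : X)).toMonoidHom = A := by ext; simp
  have hAc : ∀ x ∈ A, ∀ y ∈ A, x * y = y * x := fun x hx y hy =>
    congrArg Subtype.val (hAa.is_comm.comm (⟨x, hx⟩ : ↥A) ⟨y, hy⟩)
  have hBQ : Subgroup.closure ((fun a : X => a ^ 2) '' (A : Set X)) ≤ Q := by
    refine (Subgroup.closure_le _).2 ?_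
    rintro _ ⟨a, ha, rfl⟩
    by_cases ha2 : a ^ 2 = 1
    · simp [ha2]
    refine mem_core_of_squares hX _ fun L hL hLQ q hq => ?_
    set S := Q ⊔ A
    have hS : IsPGroup 2 ↥S := hQp.to_sup_of_normal_left hA2
    have hPS : ∀ h, h ∈ S → A.map (MulAut.conj h).toMonoidHom ≤ S := by
      rintro h hh _ ⟨x, hx, rfl⟩
      exact S.mul_mem (S.mul_mem hh ((le_sup_right : A ≤ S) hx)) (S.inv_mem hh)
    have hcomm : ∀ x ∈ A, ∀ y ∈ A.map (MulAut.conj q).toMonoidHom, x * y = y * x := by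
      by_cases hne : A.map (MulAut.conj q).toMonoidHom = A
      · intro x hx y hy; exact hAc x hx y (hne.le hy)
      · exact ti_commute S A hS le_sup_right ⟨a, ha, ha2⟩ (· ∈ S) (fun g h => S.mul_mem) S.one_mem hPS
          hti ((le_sup_left : Q ≤ S) (hLQ hq)) hne
    set c := q * a * q⁻¹ * a⁻¹ with hc
    have hcL : c ∈ L := by
      rw [hc, show q * a * q⁻¹ * a⁻¹ = q * (a * q⁻¹ * a⁻¹) by group]
      exact L.mul_mem hq (hL.conj_mem _ (L.inv_mem hq) a)
    have h1 : Commute a (q * a * q⁻¹) := hcomm a ha _ ⟨a, ha, rfl⟩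
    have h2 : q * a ^ 2 * q⁻¹ * (a ^ 2)⁻¹ = c ^ 2 := by
      rw [hc, ← conj_pow, (h1.symm.inv_right).mul_pow, inv_pow]
    rw [h2]
    exact Subgroup.subset_closure ⟨c, hcL, rfl⟩
  refine ⟨hBQ, fun hB => ?_⟩
  set B := Subgroup.closure ((fun a : X => a ^ 2) '' (A : Set X))
  have hBA : B ≤ A := (Subgroup.closure_le _).2 (by rintro _ ⟨x, hx, rfl⟩; exact A.pow_mem hx 2)
  have hBn : ∃ x ∈ A ⊓ Q, x ^ 2 ≠ 1 := by
    by_contra hc
    push Not at hc
    exact hB ⟨⟨⟨fun x y => Subtype.ext (hAc x (hBA x.2) y (hBA y.2))⟩⟩,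
      fun x hx => hc x ⟨hBA hx, hBQ hx⟩⟩
  have hDmap : ∀ h : X, (A ⊓ Q).map (MulAut.conj h).toMonoidHom =
      A.map (MulAut.conj h).toMonoidHom ⊓ Q := by
    intro h
    rw [Subgroup.map_inf _ _ _ (MulAut.conj h).injective]
    congr 1
    ext x
    refine ⟨?_, fun hx => ⟨h⁻¹ * x * h, by simpa using (inferInstance : Q.Normal).conj_mem x hx h⁻¹, by simp [mul_assoc]⟩⟩
    rintro ⟨y, hy, rfl⟩
    exact (inferInstance : Q.Normal).conj_mem y hy h
  have htiD : ∀ h : X, (A ⊓ Q).map (MulAut.conj h).toMonoidHom = A ⊓ Q ∨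
      (A ⊓ Q).map (MulAut.conj h).toMonoidHom ⊓ (A ⊓ Q) = ⊥ := by
    intro h
    rcases hti h with e | e
    · left; rw [hDmap, e]
    · right; rw [eq_bot_iff, hDmap, ← e]
      exact inf_le_inf inf_le_left inf_le_left
  have key : ∀ h : X, ∀ x ∈ A ⊓ Q, ∀ y ∈ (A ⊓ Q).map (MulAut.conj h).toMonoidHom, x * y = y * x := by
    intro h
    by_cases hne : (A ⊓ Q).map (MulAut.conj h).toMonoidHom = A ⊓ Q
    · intro x hx y hy; exact hAc x hx.1 y (hne.le hy).1
    · exact ti_commute Q (A ⊓ Q) hQp inf_le_right hBn (fun _ => True) (fun _ _ _ _ => trivial)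
        trivial (fun k _ => by rw [hDmap]; exact inf_le_right) htiD trivial hne
  refine Subgroup.isMulCommutative_closure ?_
  intro x hx y hy
  obtain ⟨_, ⟨a, ha, rfl⟩, hax⟩ := Group.mem_conjugatesOfSet_iff.1 hx
  obtain ⟨_, ⟨b, hb, rfl⟩, hby⟩ := Group.mem_conjugatesOfSet_iff.1 hy
  obtain ⟨g, rfl⟩ := isConj_iff.1 hax
  obtain ⟨k, rfl⟩ := isConj_iff.1 hby
  have haD : a ^ 2 ∈ A ⊓ Q := ⟨A.pow_mem ha 2, hBQ (Subgroup.subset_closure ⟨a, ha, rfl⟩)⟩
  have hbD : b ^ 2 ∈ A ⊓ Q := ⟨A.pow_mem hb 2, hBQ (Subgroup.subset_closure ⟨b, hb, rfl⟩)⟩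
  have := key (g⁻¹ * k) _ haD _ ⟨b ^ 2, hbD, rfl⟩
  have := congrArg (fun z => g * z * g⁻¹) this
  simpa [mul_assoc] using this

end Cfsg.Agent.S1783
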