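import Cfsg.Statements.S1784
import Cfsg.Agent.ExtraPair.Basic
import Cfsg.Agent.Layer.FStar

set_option autoImplicit false
open Cfsg

namespace Cfsg.Agent.S1784

open Subgroup

/-- Let G be a finite group and let z be an involution of G such that Q, the generalized Fitting subgroup of the centralizer C of z, is a 2-group of symplectic type (every characteristic abelian subgroup of Q is cyclic); suppose Q is extraspecial, and view Q inside G. Let α be an involution of C that is not in Q, and let Q₀ be the subgroup of those q ∈ Q whose commutator with α lies in the subgroup generated by z. Then (a) the subgroup generated by the commutators α q α⁻¹ q⁻¹, q ∈ Q, equals the centre of Q₀; and (b) if Q₀ is not contained in the product of the centralizer of α in Q with the subgroup generated by z, then some element of Q conjugates α to α z. -/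
theorem result {G : Type*} [Group G] [Finite G] (z : G) (hz : orderOf z = 2) (hQ : Cfsg.IsOfSymplecticType ↥(Cfsg.generalizedFittingSubgroup ↥(Subgroup.centralizer ({z} : Set G)))) (hE : Cfsg.IsExtraspecial 2 ↥(Cfsg.generalizedFittingSubgroup ↥(Subgroup.centralizer ({z} : Set G))))
    (α : G) (hα : orderOf α = 2) (hαC : α ∈ Subgroup.centralizer ({z} : Set G)) (hαQ : α ∉ (Cfsg.generalizedFittingSubgroup ↥(Subgroup.centralizer ({z} : Set G))).map (Subgroup.centralizer ({z} : Set G)).subtype)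
    (Q₀ : Subgroup G) (hQ₀ : ∀ q : G, q ∈ Q₀ ↔ (q ∈ (Cfsg.generalizedFittingSubgroup ↥(Subgroup.centralizer ({z} : Set G))).map (Subgroup.centralizer ({z} : Set G)).subtype ∧ α * q * α⁻¹ * q⁻¹ ∈ Subgroup.zpowers z)) :
    Subgroup.closure ((fun q : G => α * q * α⁻¹ * q⁻¹) '' ((Cfsg.generalizedFittingSubgroup ↥(Subgroup.centralizer ({z} : Set G))).map (Subgroup.centralizer ({z} : Set G)).subtype : Set G)) = (Subgroup.center ↥Q₀).map Q₀.subtype ∧
      (¬ Q₀ ≤ ((Cfsg.generalizedFittingSubgroup ↥(Subgroup.centralizer ({z} : Set G))).map (Subgroup.centralizer ({z} : Set G)).subtype ⊓ Subgroup.centralizer ({α} : Set G)) ⊔ Subgroup.zpowers z →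
        ∃ q ∈ (Cfsg.generalizedFittingSubgroup ↥(Subgroup.centralizer ({z} : Set G))).map (Subgroup.centralizer ({z} : Set G)).subtype, q * α * q⁻¹ = α * z) := by
  haveI := Fact.mk Nat.prime_two
  set C := centralizer ({z} : Set G) with hC
  set F := generalizedFittingSubgroup C with hF
  haveI : F.Normal := by rw [hF]; infer_instance
  set Q := F.map C.subtype with hQdef
  have hzC : z ∈ C := mem_centralizer_singleton_iff.2 rfl
  have hzz : z * z = 1 := by rw [← sq, ← hz]; exact pow_orderOf_eq_one z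
  have hαα : α * α = 1 := by rw [← sq, ← hα]; exact pow_orderOf_eq_one α
  have hαi : α⁻¹ = α := inv_eq_of_mul_eq_one_right hαα
  have hz1 : z ≠ 1 := fun e => by rw [e, orderOf_one] at hz; omega
  have hzF : (⟨z, hzC⟩ : C) ∈ F := by
    rw [hF]
    refine Layer.centralizer_generalizedFitting_le (mem_centralizer_iff.2 fun f _ => Subtype.ext ?_)
    exact mem_centralizer_singleton_iff.1 f.2
  let zE : F := ⟨⟨z, hzC⟩, hzF⟩
  let ι : F →* G := C.subtype.comp F.subtype
  have hι : Function.Injective ι := C.subtype_injective.comp F.subtype_injective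
  have hzc : zE ∈ center F := mem_center_iff.2 fun f => hι (by
    simp only [map_mul]; exact mem_centralizer_singleton_iff.1 f.1.2)
  have hZ : zpowers zE = center F := Fusion.es_center_zpowers hE hzc fun e =>
    hz1 (congrArg ι e)
  have hmemz : ∀ f : F, f ∈ center F ↔ ι f ∈ zpowers z := by
    intro f
    rw [← hZ, show zpowers z = (zpowers zE).map ι from (MonoidHom.map_zpowers ι zE).symm,
      mem_map_iff_mem hι]
  let φ : F →* F := MonoidHom.mk'
    (fun f => ⟨⟨α, hαC⟩ * f.1 * ⟨α, hαC⟩⁻¹, Normal.conj_mem inferInstance _ f.2 _⟩)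
    fun a b => Subtype.ext (by simp only [coe_mul]; group)
  have hφval : ∀ f, ι (φ f) = α * ι f * α⁻¹ := fun f => rfl
  have hφ : ∀ f, φ (φ f) = f := fun f => hι (by
    rw [hφval, hφval, hαi]
    calc α * (α * ι f * α) * α = (α * α) * ι f * (α * α) := by group
      _ = ι f := by rw [hαα, one_mul, mul_one])
  have hwval : ∀ f, ι (φ f * f⁻¹) = α * ι f * α⁻¹ * (ι f)⁻¹ := fun f => by
    rw [map_mul, map_inv, hφval]
  have hne : ∃ f, φ f ≠ f := by
    by_contra hcon
    push Not at hcon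
    refine hαQ ⟨⟨α, hαC⟩, ?_, rfl⟩
    show (⟨α, hαC⟩ : C) ∈ F
    rw [hF]
    refine Layer.centralizer_generalizedFitting_le (mem_centralizer_iff.2 fun f hf => ?_)
    have h := congrArg Subtype.val (hcon ⟨f, hf⟩)
    exact (mul_inv_eq_iff_eq_mul.1 h).symm
  have hQmem : ∀ q : G, q ∈ Q ↔ ∃ f : F, ι f = q := fun q =>
    ⟨fun ⟨c, hc, e⟩ => ⟨⟨c, hc⟩, e⟩, fun ⟨f, e⟩ => ⟨f.1, f.2, e⟩⟩
  have hQ₀' : ∀ f : F, ι f ∈ Q₀ ↔ φ f * f⁻¹ ∈ center F := fun f => by
    rw [hQ₀, hmemz, hwval]
    exact and_iff_right ((hQmem _).2 ⟨f, rfl⟩)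
  refine ⟨?_, fun hnle => ?_⟩
  · have hset : (fun q : G => α * q * α⁻¹ * q⁻¹) '' (Q : Set G)
        = ι '' Set.range fun f => φ f * f⁻¹ := by
      ext g
      constructor
      · rintro ⟨q, hq, rfl⟩
        obtain ⟨f, rfl⟩ := (hQmem q).1 hq
        exact ⟨_, ⟨f, rfl⟩, hwval f⟩
      · rintro ⟨_, ⟨f, rfl⟩, rfl⟩
        exact ⟨ι f, (hQmem _).2 ⟨f, rfl⟩, (hwval f).symm⟩
    rw [hset, ← MonoidHom.map_closure]
    ext g
    constructor
    · rintro ⟨f, hf, rfl⟩
      obtain ⟨h1, h2⟩ := (ExtraPair.closure_eq_center hE φ hφ hne f).1 hf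
      refine ⟨⟨ι f, (hQ₀' f).2 h1⟩, mem_center_iff.2 fun q => Subtype.ext ?_, rfl⟩
      obtain ⟨f', hf'⟩ := (hQmem _).1 ((hQ₀ _).1 q.2).1
      show (q : G) * ι f = ι f * q
      rw [← hf', ← map_mul, ← map_mul, h2 f' ((hQ₀' f').1 (hf' ▸ q.2))]
    · rintro ⟨q, hq, rfl⟩
      obtain ⟨f, hf⟩ := (hQmem _).1 ((hQ₀ _).1 q.2).1
      refine ⟨f, (ExtraPair.closure_eq_center hE φ hφ hne f).2 ⟨(hQ₀' f).1 (hf ▸ q.2),
        fun f' h' => hι ?_⟩, hf⟩
      rw [map_mul, map_mul, hf]
      exact congrArg Subtype.val (mem_center_iff.1 hq ⟨ι f', (hQ₀' f').2 h'⟩)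
  · obtain ⟨q, hq, hqn⟩ := SetLike.not_le_iff_exists.1 hnle
    obtain ⟨hqQ, hqz⟩ := (hQ₀ q).1 hq
    refine ⟨q, hqQ, ?_⟩
    obtain ⟨k, hk⟩ := mem_zpowers_iff.1 hqz
    rcases Int.even_or_odd' k with ⟨j, rfl | rfl⟩
    · rw [zpow_mul, zpow_two, hzz, one_zpow, eq_comm, mul_inv_eq_one, mul_inv_eq_iff_eq_mul] at hk
      exact absurd (mem_sup_left (show q ∈ Q ⊓ centralizer ({α} : Set G) from
        ⟨hqQ, mem_centralizer_singleton_iff.2 hk.symm⟩)) hqn
    · rw [zpow_add_one, zpow_mul, zpow_two, hzz, one_zpow, one_mul] at hk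
      rw [hk, hαi, ← mul_assoc, ← mul_assoc, ← mul_assoc, hαα, one_mul]

end Cfsg.Agent.S1784
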