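import Cfsg.Statements.S1785
import Cfsg.Agent.RankChain.Basic

set_option autoImplicit false
open Cfsg

namespace Cfsg.Agent.S1785

open Subgroup

/-- Let X be a finite 2-group having a normal elementary abelian subgroup of order at least 32. Then (a) for any two elementary abelian subgroups A, B of X of order 8 there is a chain A = A₁, A₂, …, Aₙ = B of elementary abelian subgroups of order 8 in which consecutive members commute elementwise; and (b) every elementary abelian subgroup of X of order 4 is contained in an elementary abelian subgroup of order 8. -/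
theorem result {X : Type*} [Group X] [Finite X]
    (hX : IsPGroup 2 X) (E : Subgroup X) [E.Normal] (hE : Cfsg.IsElementaryAbelian 2 E) (hE32 : 32 ≤ Nat.card ↥E) :
    (∀ A B : Subgroup X, Cfsg.IsElementaryAbelian 2 A → Nat.card ↥A = 8 → Cfsg.IsElementaryAbelian 2 B → Nat.card ↥B = 8 →
        Relation.ReflTransGen
          (fun C D : Subgroup X => Cfsg.IsElementaryAbelian 2 C ∧ Nat.card ↥C = 8 ∧ Cfsg.IsElementaryAbelian 2 D ∧ Nat.card ↥D = 8 ∧ ⁅C, D⁆ = ⊥)
          A B) ∧
      (∀ V : Subgroup X, Cfsg.IsElementaryAbelian 2 V → Nat.card ↥V = 4 →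
        ∃ A : Subgroup X, V ≤ A ∧ Cfsg.IsElementaryAbelian 2 A ∧ Nat.card ↥A = 8) := by
  have hm : ∀ i < 3, i * 2 ^ (3 - i) < 5 := by decide
  have hE5 : 2 ^ 5 ≤ Nat.card E := by simpa using hE32
  refine ⟨fun A B hA hA8 hB hB8 => ?_, fun V hV hV4 => ?_⟩
  · have h := RankChain.connected hE hE5 hm hA (n := 3) (by simpa using hA8) hB (by simpa using hB8)
    clear hB hB8
    induction h with
    | refl => exact Relation.ReflTransGen.refl
    | tail _ h ih =>
      exact ih.tail ⟨h.1.1, by simpa using h.1.2, h.2.1.1, by simpa using h.2.1.2,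
        commutator_eq_bot_iff_le_centralizer.2 fun c hc => mem_centralizer_iff.2 fun d hd =>
          (h.2.2 c hc d hd).symm⟩
  · obtain ⟨e, heE, heV, hec⟩ : ∃ e ∈ E, e ∉ V ∧ e ∈ centralizer (V : Set X) := by
      by_cases hVE : V ≤ E
      · obtain ⟨e, he, heV⟩ := SetLike.exists_of_lt (lt_of_le_of_ne hVE fun h => by
          rw [h] at hV4; omega)
        exact ⟨e, he, heV, centralizer_le hVE ((Thompson.ea_iff.1 hE).1 he)⟩
      · exact RankChain.exists_extra hE hV (n := 2) (m := 5) (by simpa using hV4) hE5 (by decide) hVE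
    have hee : e * e = 1 := by rw [← sq]; exact hE.2 e heE
    refine ⟨V ⊔ zpowers e, le_sup_left, ?_, ?_⟩
    · refine Thompson.ea_sup hV (Thompson.ea_mono hE (zpowers_le.2 heE)) ?_
      exact le_centralizer_iff.1 (zpowers_le.2 hec)
    · rw [RankChain.card_sup_zpowers (fun a ha => mem_centralizer_iff.1 hec a ha) hee heV, hV4]

end Cfsg.Agent.S1785
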