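import Cfsg.Statements.S1786
import Cfsg.Agent.TimmesfeldTI.Recognise
import Cfsg.Agent.Layer.FStar

set_option autoImplicit false
open Cfsg
open scoped commutatorElement

namespace Cfsg.Agent.S1786

/-- Let G be a finite group, V an elementary abelian 2-subgroup of G and M the normalizer of V; write Q for the largest normal 2-subgroup of M. Suppose (1) the generalized Fitting subgroup of M equals Q; (2) V is a maximal abelian normal subgroup of M; (3) every conjugate of V equals V or meets V trivially, and for some g ∈ G the conjugate V' = g V g⁻¹ is different from V and contained in Q. Let P be the centralizer of V in Q, W the subgroup generated by V and V', and H the subgroup generated by P and g P g⁻¹. Then: (a) V is contained in g Q g⁻¹; (b) every non-identity element of W lies in exactly one conjugate of V contained in W, H normalizes W, and H modulo the centralizer of W in H is isomorphic to the special linear group of dimension 2 over the field with |V| elements; (c) P = Q, and V equals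 the Frattini subgroup, the centre and the commutator subgroup of Q. -/
theorem result {G : Type*} [Group G] [Finite G] (V : Subgroup G)
    (hV : Cfsg.IsElementaryAbelian 2 V)
    (h1 : (Cfsg.generalizedFittingSubgroup ↥(Subgroup.normalizer (V : Set G))).map (Subgroup.normalizer (V : Set G)).subtype =
      (Cfsg.pCore 2 ↥(Subgroup.normalizer (V : Set G))).map (Subgroup.normalizer (V : Set G)).subtype)
    (h2 : ∀ A : Subgroup G, V ≤ A → A ≤ Subgroup.normalizer (V : Set G) → IsMulCommutative ↥A →
      (∀ m ∈ Subgroup.normalizer (V : Set G), ∀ a ∈ A, m * a * m⁻¹ ∈ A) → A = V)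
    (hti : ∀ x : G, V.map (MulAut.conj x).toMonoidHom = V ∨ V.map (MulAut.conj x).toMonoidHom ⊓ V = ⊥)
    (g : G) (hg : V.map (MulAut.conj g).toMonoidHom ≠ V)
    (hgQ : V.map (MulAut.conj g).toMonoidHom ≤ (Cfsg.pCore 2 ↥(Subgroup.normalizer (V : Set G))).map (Subgroup.normalizer (V : Set G)).subtype) :
    let Q : Subgroup G := (Cfsg.pCore 2 ↥(Subgroup.normalizer (V : Set G))).map (Subgroup.normalizer (V : Set G)).subtype
    let P : Subgroup G := Q ⊓ Subgroup.centralizer (V : Set G)
    let W : Subgroup G := V ⊔ V.map (MulAut.conj g).toMonoidHom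
    let H : Subgroup G := P ⊔ P.map (MulAut.conj g).toMonoidHom
    V ≤ Q.map (MulAut.conj g).toMonoidHom ∧
      (∀ w ∈ W, w ≠ 1 → ∃! U : Subgroup G, (∃ x : G, U = V.map (MulAut.conj x).toMonoidHom) ∧ U ≤ W ∧ w ∈ U) ∧
      H ≤ Subgroup.normalizer (W : Set G) ∧
      (∀ hN : ((Subgroup.centralizer (W : Set G)).subgroupOf H).Normal, ∃ (F : Type) (_ : Field F) (_ : Fintype F), Fintype.card F = Nat.card ↥V ∧
        Nonempty (↥H ⧸ (Subgroup.centralizer (W : Set G)).subgroupOf H ≃* Matrix.SpecialLinearGroup (Fin 2) F)) ∧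
      P = Q ∧ (frattini ↥Q).map Q.subtype = V ∧ (Subgroup.center ↥Q).map Q.subtype = V ∧ (commutator ↥Q).map Q.subtype = V := by
  intro Q P W H
  set U : Subgroup G := V.map (MulAut.conj g).toMonoidHom with hU
  have hgood : TimmesfeldTI.Good V := by
    refine ⟨fun a ha b hb => ?_, fun a ha => by simpa [pow_two] using hV.2 a ha, fun m hm hq => ?_, ?_, hti⟩
    · haveI := hV.1
      exact congrArg Subtype.val (mul_comm' (⟨a, ha⟩ : ↥V) ⟨b, hb⟩)
    · have hF := Subgroup.map_injective (Subgroup.subtype_injective _) h1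
      refine ⟨⟨m, hm⟩, ?_, rfl⟩
      show _ ∈ Cfsg.pCore 2 ↥(Subgroup.normalizer (V : Set G))
      rw [← hF]
      refine Layer.centralizer_generalizedFitting_le (Subgroup.mem_centralizer_iff.mpr fun q hq' => ?_)
      rw [SetLike.mem_coe, hF] at hq'
      exact Subtype.ext (hq _ ⟨q, hq', rfl⟩).symm
    · intro A hVA hAN hab hinv
      exact h2 A hVA hAN ⟨⟨fun a b => Subtype.ext (hab a a.2 b b.2)⟩⟩ hinv
  have hp : TimmesfeldTI.Pair V U := ⟨hgood, ⟨g, rfl⟩, hg, hgQ⟩
  obtain ⟨K, iK, iFK, hcard, hcp, hiso⟩ := hp.recognise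
  have hQU : Q.map (MulAut.conj g).toMonoidHom = TimmesfeldTI.core U := TimmesfeldTI.conjS_core V g
  have hcU : (Subgroup.centralizer (V : Set G)).map (MulAut.conj g).toMonoidHom =
      Subgroup.centralizer (U : Set G) := by
    ext x
    rw [TimmesfeldTI.mem_conjS]
    simp only [Subgroup.mem_centralizer_iff, SetLike.mem_coe]
    constructor
    · intro hx t ht
      rw [hU, TimmesfeldTI.mem_conjS] at ht
      have := congrArg (fun s => g * s * g⁻¹) (hx _ ht)
      simpa [mul_assoc] using this
    · intro hx v hv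
      have := congrArg (fun s => g⁻¹ * s * g)
        (hx (g * v * g⁻¹) (by rw [hU, TimmesfeldTI.mem_conjS]; simpa [mul_assoc] using hv))
      simpa [mul_assoc] using this
  have hPU : P.map (MulAut.conj g).toMonoidHom = TimmesfeldTI.part U := by
    show (Q ⊓ Subgroup.centralizer (V : Set G)).map _ = _
    rw [Subgroup.map_inf _ _ _ (MulAut.conj g).injective, hQU, hcU]
    rfl
  have hH : H = TimmesfeldTI.part V ⊔ TimmesfeldTI.part U := by
    show P ⊔ P.map (MulAut.conj g).toMonoidHom = _
    rw [hPU]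
    rfl
  have hPQ : P = Q := hcp.symm
  refine ⟨hQU ▸ hp.absorb, fun w hw hw1 => ?_, hH ▸ hp.sup_part_le, ?_, hPQ, ?_⟩
  · have huniq : ∀ A B : Subgroup G, (∃ x : G, A = V.map (MulAut.conj x).toMonoidHom) →
        (∃ x : G, B = V.map (MulAut.conj x).toMonoidHom) → w ∈ A → w ∈ B → A = B := by
      rintro _ _ ⟨x, rfl⟩ ⟨y, rfl⟩ hA hB
      rcases hti (y⁻¹ * x) with e | e
      · calc TimmesfeldTI.conjS V x = TimmesfeldTI.conjS (TimmesfeldTI.conjS V (y⁻¹ * x)) y := by
              rw [TimmesfeldTI.conjS_mul, mul_inv_cancel_left]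
          _ = _ := by rw [show TimmesfeldTI.conjS V (y⁻¹ * x) = V from e]
      · exfalso
        refine hw1 ?_
        have h' : y⁻¹ * w * y = 1 := by
          refine Subgroup.mem_bot.mp (e ▸ Subgroup.mem_inf.mpr ⟨?_, TimmesfeldTI.mem_conjS.mp hB⟩)
          rw [TimmesfeldTI.mem_conjS]
          have := TimmesfeldTI.mem_conjS.mp hA
          simpa [mul_assoc] using this
        have := congrArg (fun s => y * s * y⁻¹) h'
        simpa [mul_assoc] using this
    obtain ⟨v, hv, u, hu, rfl⟩ := hp.mem_sup_iff.mp hw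
    obtain ⟨A, hAc, hAW, hwA⟩ : ∃ A : Subgroup G,
        (∃ x : G, A = V.map (MulAut.conj x).toMonoidHom) ∧ A ≤ W ∧ v * u ∈ A := by
      by_cases hu1 : u = 1
      · exact ⟨V, ⟨1, (TimmesfeldTI.conjS_one V).symm⟩, le_sup_left, by rw [hu1, mul_one]; exact hv⟩
      · obtain ⟨y, hy, hmem⟩ := hp.cover hv hu hu1
        exact ⟨_, ⟨y * g, TimmesfeldTI.conjS_mul V y g⟩, hp.part_conj_le hy, hmem⟩
    exact ⟨A, ⟨hAc, hAW, hwA⟩, fun B hB => huniq B A hB.1 hAc hB.2.2 hwA⟩
  · rw [hH]
    exact fun hN => ⟨K, iK, iFK, hcard, hiso hN⟩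
  · have hmemP : ∀ x : ↥Q, (x : G) ∈ TimmesfeldTI.part V := fun x => hcp ▸ x.2
    haveI : Fact (Nat.Prime 2) := ⟨Nat.prime_two⟩
    haveI : Group.IsNilpotent ↥Q := (TimmesfeldTI.core_isPGroup V).isNilpotent
    have hle : commutator ↥Q ≤ V.subgroupOf Q := by
      rw [commutator_def, Subgroup.commutator_le]
      intro a _ b _
      exact hgood.commutator_mem (hmemP a) (hmemP b)
    have hcomm : V ≤ (commutator ↥Q).map Q.subtype := by
      intro v hv
      obtain ⟨w, hw, hw1⟩ := hp.exists_ne_one
      obtain ⟨y, hy, e⟩ := hp.exists_conj_comm hw hw1 hv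
      refine ⟨⁅(⟨y, hy.1⟩ : ↥Q), ⟨w, hgQ hw⟩⁆, ?_, e⟩
      rw [commutator_def]
      exact Subgroup.commutator_mem_commutator (Subgroup.mem_top _) (Subgroup.mem_top _)
    refine ⟨le_antisymm ?_ ?_, le_antisymm ?_ ?_, le_antisymm ?_ hcomm⟩
    · exact Subgroup.map_le_iff_le_comap.mpr (Fusion.frattini_le_of_elementary (p := 2) _ hle fun x => by
        rw [pow_two]; exact hgood.sq_mem (hmemP x))
    · exact hcomm.trans (Subgroup.map_mono Core.commutator_le_frattini)
    · rintro _ ⟨z, hz, rfl⟩
      refine hgood.center_part (hmemP z) fun q hq => ?_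
      exact (congrArg Subtype.val (Subgroup.mem_center_iff.mp hz ⟨q, hq.1⟩)).symm
    · intro v hv
      refine ⟨⟨v, hgood.le_core_self hv⟩, Subgroup.mem_center_iff.mpr fun q => Subtype.ext ?_, rfl⟩
      exact hgood.part_central (hmemP q) hv
    · exact Subgroup.map_le_iff_le_comap.mpr hle

end Cfsg.Agent.S1786
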