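import Cfsg.Statements.S1850
import Cfsg.Agent.CharTwo.Local

set_option autoImplicit false
open Cfsg

namespace Cfsg.Agent.S1850

open Subgroup

/-- Let G be a non-abelian finite simple QTKE-group and T a Sylow 2-subgroup of G. If U is a nontrivial 2-subgroup of G with U ∩ Z(T) ≠ 1, then F*(N_G(U)) = O₂(N_G(U)). -/
theorem result {G : Type*} [Group G] [Finite G] [IsSimpleGroup G]
    (hG : ¬ IsMulCommutative G) (hQ : Cfsg.IsQTKE G) (T : Sylow 2 G) (U : Subgroup G)
    (hU : IsPGroup 2 ↥U) (hZ : U ⊓ ((T : Subgroup G) ⊓ Subgroup.centralizer ((T : Subgroup G) : Set G)) ≠ ⊥) :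
    Subgroup.normalizer (U : Set G) ∈ Cfsg.calHe G := by
  have := Fact.mk Nat.prime_two
  obtain ⟨⟨a, ha⟩, ha1⟩ := (ne_bot_iff_exists_ne_one).1 hZ
  have ha1' : a ≠ 1 := fun e => ha1 (Subtype.ext e)
  obtain ⟨k, hk⟩ := IsPGroup.iff_card.1 (hU.to_le (inf_le_left :
    U ⊓ ((T : Subgroup G) ⊓ centralizer ((T : Subgroup G) : Set G)) ≤ U))
  have hk0 : k ≠ 0 := fun h0 => hZ (card_eq_one.1 (by rw [hk, h0, pow_zero]))
  obtain ⟨z', hz'⟩ := exists_prime_orderOf_dvd_card' 2 (hk ▸ dvd_pow_self 2 hk0)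
  rw [← Subgroup.orderOf_coe] at hz'
  obtain ⟨hzU, -, hzc⟩ := z'.2
  generalize (z' : G) = z at hz' hzU hzc
  have hTC : (T : Subgroup G) ≤ centralizer ({z} : Set G) := fun x hx =>
    mem_centralizer_singleton_iff.2 (mem_centralizer_iff.1 hzc x hx)
  have hzz : z * z = 1 := by rw [← sq, ← hz']; exact pow_orderOf_eq_one z
  have hloc : IsTwoLocal (centralizer ({z} : Set G)) := by
    refine ⟨zpowers z, IsPGroup.of_card (n := 1) (by rw [Nat.card_zpowers, hz', pow_one]),
      fun e => ?_, le_antisymm ?_ fun g hg => ?_⟩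
    · rw [zpowers_eq_bot] at e
      rw [e, orderOf_one] at hz'
      omega
    · refine le_trans (le_of_eq ?_) (centralizer_le_normalizer _)
      rw [zpowers_eq_closure, centralizer_closure]
    · obtain ⟨j, hj⟩ := mem_zpowers_iff.1 ((mem_normalizer_iff.1 hg z).1 (mem_zpowers z))
      rcases Int.even_or_odd' j with ⟨i, rfl | rfl⟩
      · rw [zpow_mul, zpow_two, hzz, one_zpow, eq_comm, conj_eq_one_iff] at hj
        rw [hj, orderOf_one] at hz'
        omega
      · rw [zpow_add_one, zpow_mul, zpow_two, hzz, one_zpow, one_mul] at hj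
        exact mem_centralizer_singleton_iff.2 (mul_inv_eq_iff_eq_mul.1 hj.symm)
  have hsc := hQ.2.2 _ hloc ⟨T, hTC⟩
  exact Layer.generalizedFitting_eq_pCore_iff.2
    (CharTwo.pCoreSelfCentral_normalizer_of_mem hsc hU hzU)

end Cfsg.Agent.S1850
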