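import Cfsg.Statements.S1851
import Cfsg.Agent.CharTwo.Local
import Cfsg.Agent.LocalStructure.CharP
import Cfsg.Agent.LocalStructure.PResidual
import Cfsg.Agent.LocalStructure.OmegaAction
import Cfsg.Agent.Fusion.Residual
import Cfsg.Agent.Fusion.PGroup

set_option autoImplicit false
open Cfsg

namespace Cfsg.Agent.S1851

open Subgroup
open scoped commutatorElement

universe u

/-- A perfect finite group is generated by its elements of odd order. -/
theorem oddGenerated_eq_of_perfect {G : Type u} [Group G] [Finite G] {K : Subgroup G}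
    (hK : ⁅K, K⁆ = K) : Cfsg.oddGenerated K = K := by
  haveI := Fact.mk Nat.prime_two
  have hset : Cfsg.oddGenerated K = LocalStructure.resOf 2 K := by
    rw [LocalStructure.resOf_eq_closure, Cfsg.oddGenerated]
    congr 1
    ext g
    exact and_congr_right fun _ => Nat.coprime_two_right.symm
  rw [hset]
  suffices Cfsg.pResidual 2 ↥K = ⊤ by
    show (Cfsg.pResidual 2 ↥K).map K.subtype = K
    rw [this, ← MonoidHom.range_eq_map, K.range_subtype]
  haveI : (Cfsg.pResidual 2 ↥K).Normal :=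
    @Subgroup.normal_of_characteristic _ _ _ Fusion.pResidual_characteristic
  by_contra hne
  have hcomm : _root_.commutator ↥K = ⊤ := by
    apply map_injective K.subtype_injective
    rw [map_subtype_commutator, hK, ← MonoidHom.range_eq_map, K.range_subtype]
  set N := Cfsg.pResidual 2 ↥K
  haveI : Group.IsNilpotent (↥K ⧸ N) := Fusion.isPGroup_quotient_pResidual.isNilpotent
  haveI : Nontrivial (↥K ⧸ N) := QuotientGroup.nontrivial_iff.2 hne
  refine (IsSolvable.commutator_lt_top_of_nontrivial (G := ↥K ⧸ N)).ne ?_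
  have h := congrArg (Subgroup.map (QuotientGroup.mk' N)) hcomm
  rwa [Subgroup.map_top_of_surjective _ (QuotientGroup.mk'_surjective N), _root_.commutator_def,
    map_commutator, Subgroup.map_top_of_surjective _ (QuotientGroup.mk'_surjective N)] at h

/-- The step up: if `L ≤ K`, `L` generated by odd elements acts on `Ω₁(Z(O₂ L))` and `K` has
characteristic 2 with `O₂ K` normalising `L`, then `L` is trivial on the one module when `K` is
trivial on the other. -/
theorem moduleV_eq_bot {G : Type u} [Group G] [Finite G] {L K : Subgroup G} (hLK : L ≤ K)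
    (hLo : Cfsg.oddGenerated L = L) (hKc : LocalStructure.CharP 2 K)
    (hQL : Cfsg.pCoreOf 2 K ≤ normalizer (L : Set G))
    (h0 : Cfsg.moduleV K = ⊥) : Cfsg.moduleV L = ⊥ := by
  haveI := Fact.mk Nat.prime_two
  set Q := Cfsg.pCoreOf 2 K with hQ
  set R := Cfsg.pCoreOf 2 L with hR
  set W := LocalStructure.omegaZ 2 R with hW
  change ⁅LocalStructure.omegaZ 2 Q, K⁆ = ⊥ at h0
  show ⁅W, L⁆ = ⊥
  rw [commutator_eq_bot_iff_le_centralizer] at h0 ⊢
  have hWea := LocalStructure.omegaZ_ea (p := 2) R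
  have hWc : ∀ a ∈ W, ∀ b ∈ W, a * b = b * a := fun a ha b hb =>
    congrArg Subtype.val (hWea.1.is_comm.comm (⟨a, ha⟩ : W) ⟨b, hb⟩)
  have hW2 : ∀ a ∈ W, a * a = 1 := fun a ha => by rw [← sq]; exact hWea.2 a ha
  have hWL : W ≤ L := (LocalStructure.omegaZ_le R).trans (LocalStructure.pCoreOf_le L)
  have hQR : ∀ {A : Subgroup G}, A ≤ normalizer (L : Set G) → A ≤ normalizer (W : Set G) := fun hA =>
    LocalStructure.le_normalizer_omegaZ
      (LocalStructure.le_normalizer_map_characteristic hA (Cfsg.pCore 2 L))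
  have hQK : K ≤ normalizer (Q : Set G) := LocalStructure.le_normalizer_pCoreOf K
  have hQLR : Q ⊓ L ≤ R := LocalStructure.le_pCoreOf_of_normal inf_le_right
    (Coprime.le_normalizer_inf (hLK.trans hQK) le_normalizer)
    ((LocalStructure.pCoreOf_isPGroup K).to_le inf_le_left)
  intro w hw
  rw [mem_centralizer_iff]
  suffices ∀ l ∈ L, Odd (orderOf l) → ∀ w ∈ W, l * w = w * l by
    intro l hl
    have h : L ≤ centralizer ({w} : Set G) := by
      conv_lhs => rw [← hLo]
      exact (closure_le _).2 fun l hl => mem_centralizer_singleton_iff.2 (this l hl.1 hl.2 w hw)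
    exact mem_centralizer_singleton_iff.1 (h hl)
  intro l hl hodd
  have hconj : ∀ v ∈ W, l * v * l⁻¹ ∈ W := fun v hv =>
    (mem_normalizer_iff.1 (hQR (le_normalizer : L ≤ normalizer (L : Set G)) hl) v).1 hv
  -- conjugation by `l` commutes with that by `Q` on `W`
  have hcommQ : ∀ q ∈ Q, ∀ v ∈ W, q * (l * v * l⁻¹) * q⁻¹ = l * (q * v * q⁻¹) * l⁻¹ := by
    intro q hq v hv
    have hd : l⁻¹ * (q * l * q⁻¹) ∈ L :=
      mul_mem (inv_mem hl) ((mem_normalizer_iff.1 (hQL hq) l).1 hl)
    have hd' : l⁻¹ * (q * l * q⁻¹) ∈ Q := by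
      rw [show l⁻¹ * (q * l * q⁻¹) = l⁻¹ * q * l⁻¹⁻¹ * q⁻¹ by group]
      exact mul_mem ((mem_normalizer_iff.1 (hQK (inv_mem (hLK hl))) q).1 hq) (inv_mem hq)
    have hv' : q * v * q⁻¹ ∈ W := (mem_normalizer_iff.1 (hQR hQL hq) v).1 hv
    have hc : l⁻¹ * (q * l * q⁻¹) * (q * v * q⁻¹) = q * v * q⁻¹ * (l⁻¹ * (q * l * q⁻¹)) :=
      mem_centralizer_iff.1 (LocalStructure.omegaZ_le_centralizer R hv') _ (hQLR ⟨hd', hd⟩)
    calc q * (l * v * l⁻¹) * q⁻¹
        = l * (l⁻¹ * (q * l * q⁻¹) * (q * v * q⁻¹)) * (q * l * q⁻¹)⁻¹ := by group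
      _ = _ := by rw [hc]; group
  let θ : W →* G := MonoidHom.mk' (fun v => (v : G) * (l * v * l⁻¹)) fun a b => by
    show (a : G) * b * (l * (a * b) * l⁻¹) = a * (l * a * l⁻¹) * (b * (l * b * l⁻¹))
    calc (a : G) * b * (l * (a * b) * l⁻¹)
        = a * ((b : G) * (l * a * l⁻¹)) * (l * b * l⁻¹) := by group
      _ = _ := by rw [hWc b b.2 _ (hconj a a.2)]; group
  set J := θ.range with hJ
  have hJW : J ≤ W := by
    rintro _ ⟨v, rfl⟩
    exact mul_mem v.2 (hconj v v.2)
  have hQJ : Q ≤ normalizer (J : Set G) := by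
    refine Subgroup.le_normalizer_iff.mpr ?_
    rintro q hq _ ⟨v, rfl⟩
    refine ⟨⟨q * v * q⁻¹, (mem_normalizer_iff.1 (hQR hQL hq) v).1 v.2⟩, ?_⟩
    show q * (v : G) * q⁻¹ * (l * (q * v * q⁻¹) * l⁻¹) = q * ((v : G) * (l * v * l⁻¹)) * q⁻¹
    rw [← hcommQ q hq v v.2]
    group
  have hJbot : J = ⊥ := by
    by_contra hne
    have hS : IsPGroup 2 (Q ⊔ J : Subgroup G) :=
      (LocalStructure.pCoreOf_isPGroup K).to_sup_of_normal_right'
        ((Thompson.ea_isPGroup hWea).to_le hJW) hQJ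
    haveI : (J.subgroupOf (Q ⊔ J)).Normal :=
      (normal_subgroupOf_iff_le_normalizer le_sup_right).2 (sup_le hQJ le_normalizer)
    have hne' : J.subgroupOf (Q ⊔ J) ≠ ⊥ := fun e =>
      hne (by rwa [subgroupOf_eq_bot, disjoint_iff, inf_eq_left.2 le_sup_right] at e)
    obtain ⟨⟨r, hr⟩, hr1⟩ := ne_bot_iff_exists_ne_one.1
      (Fusion.pGroup_inf_center_ne_bot hS _ hne')
    obtain ⟨v, hv⟩ := hr.1
    have hrQ : (r : G) ∈ centralizer (Q : Set G) := mem_centralizer_iff.2 fun q hq =>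
      congrArg Subtype.val (mem_center_iff.1 hr.2 ⟨q, le_sup_left (b := J) hq⟩)
    have hrW : (r : G) ∈ W := hJW hr.1
    have hrQ' : (r : G) ∈ Q := hKc ⟨hLK (hWL hrW), hrQ⟩
    have hrl : l * (r : G) = r * l := mem_centralizer_iff.1
      (h0 (LocalStructure.mem_omegaZ_iff.2 ⟨hrQ', hrQ, hWea.2 _ hrW⟩)) l (hLK hl)
    have hstep : l * (v : G) * l⁻¹ = (r : G) * v := by
      change (v : G) * (l * v * l⁻¹) = (r : G) at hv
      rw [← hv, ← hWc _ v.2 (v * (l * v * l⁻¹)) (hJW ⟨v, rfl⟩), ← mul_assoc, hW2 v v.2, one_mul]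
    have hpow : ∀ k : ℕ, l ^ k * (v : G) * (l ^ k)⁻¹ = (r : G) ^ k * v := by
      intro k
      induction k with
      | zero => simp
      | succ k ih =>
        have hrk : l * (r : G) ^ k = (r : G) ^ k * l := (Commute.pow_right (show Commute l (r : G) from hrl) k).eq
        calc l ^ (k + 1) * (v : G) * (l ^ (k + 1))⁻¹ = l * (l ^ k * v * (l ^ k)⁻¹) * l⁻¹ := by
              rw [pow_succ']; group
          _ = l * (r : G) ^ k * (v * l⁻¹) := by rw [ih]; group
          _ = (r : G) ^ k * (l * v * l⁻¹) := by rw [hrk]; group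
          _ = _ := by rw [hstep, ← mul_assoc, ← pow_succ]
    have h := hpow (orderOf l)
    rw [pow_orderOf_eq_one, inv_one, mul_one, one_mul, right_eq_mul] at h
    obtain ⟨i, hi⟩ := hodd
    rw [hi, pow_succ, pow_mul, sq, hW2 _ hrW, one_pow, one_mul] at h
    exact hr1 (Subtype.ext (Subtype.ext h))
  intro w hw
  have h : θ ⟨w, hw⟩ ∈ (⊥ : Subgroup G) := hJbot ▸ ⟨⟨w, hw⟩, rfl⟩
  rw [mem_bot] at h
  change w * (l * w * l⁻¹) = 1 at h
  have e : l * w * l⁻¹ = w := mul_left_cancel (h.trans (hW2 w hw).symm)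
  exact mul_inv_eq_iff_eq_mul.1 e

/-- Let G be a non-abelian finite simple QTKE-group and T a Sylow 2-subgroup of G, and let L be a member of ℒ_f(G, T) (a member of ℒ(G, T) that lies in 𝒳 — L ≠ 1, L = O²(L), F*(L) = O₂(L) — and acts nontrivially on Ω₁(Z(O₂(L)))). Then (1) every member K of ℒ(G, T) containing L is again in ℒ_f(G, T) (a sharper form of (1) also compares the modules [Ω₁(Z(R)), L] and [Ω₁(Z(R')), K] for suitable 2-subgroups R, R'; that comparison is not included); and (2) if L is maximal under inclusion among the members of ℒ_f(G, T), then L is a maximal member of ℒ(G, T), hence a member of ℒ_f*(G, T). -/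
theorem result {G : Type*} [Group G] [Finite G] [IsSimpleGroup G]
    (hG : ¬ IsMulCommutative G) (hQ : Cfsg.IsQTKE G) (T : Sylow 2 G) (L : Subgroup G)
    (hL : L ∈ Cfsg.calLf (T : Subgroup G)) :
    (∀ K ∈ Cfsg.calL (T : Subgroup G), L ≤ K → K ∈ Cfsg.calLf (T : Subgroup G)) ∧
    ((∀ K ∈ Cfsg.calLf (T : Subgroup G), L ≤ K → K = L) → L ∈ Cfsg.calLfMax (T : Subgroup G)) := by
  have := Fact.mk Nat.prime_two
  have h1 : ∀ K ∈ Cfsg.calL (T : Subgroup G), L ≤ K → K ∈ Cfsg.calLf (T : Subgroup G) := by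
    intro K hKL hLK
    obtain ⟨⟨hK1, hKp, hKsn, hKmin⟩, hTsyl, hO⟩ := hKL
    obtain ⟨⟨⟨-, hLp, hLsn, -⟩, -, -⟩, ⟨-, -, hLhe⟩, hLV⟩ := hL
    have hperf : ∀ {L X : Subgroup G}, L ≤ X → ⁅L.subgroupOf X, L.subgroupOf X⁆ = L.subgroupOf X →
        ⁅L, L⁆ = L := fun {L X} hle h => by
      have h' := congrArg (Subgroup.map X.subtype) h
      rwa [map_commutator, map_subgroupOf_eq_of_le hle] at h'
    have hKK := hperf le_sup_left hKp
    have hLL := hperf le_sup_left hLp
    set H := K ⊔ (T : Subgroup G) with hH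
    have hTH : (T : Subgroup G) ≤ H := le_sup_right
    -- `H` has characteristic 2
    set O := Cfsg.pCoreOf 2 H with hOdef
    have hO1 : O ≠ ⊥ := fun e => hO ((map_eq_bot_iff_of_injective _ H.subtype_injective).1 e)
    have hHN : H ≤ normalizer (O : Set G) := LocalStructure.le_normalizer_pCoreOf H
    have hN : LocalStructure.CharP 2 (normalizer (O : Set G)) := LocalStructure.charP_iff.2
      (hQ.2.2 _ ⟨O, LocalStructure.pCoreOf_isPGroup H, hO1, rfl⟩ ⟨T, hTH.trans hHN⟩)
    have hON : Cfsg.pCoreOf 2 (normalizer (O : Set G)) ≤ (T : Subgroup G) :=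
      LocalStructure.pCoreOf_le_sylow (hTH.trans hHN) T.2
        (LocalStructure.sylow_not_dvd_relIndex T (hTH.trans hHN))
    have hONO : Cfsg.pCoreOf 2 (normalizer (O : Set G)) ≤ O :=
      LocalStructure.le_pCoreOf_of_normal (hON.trans hTH)
        (hHN.trans (LocalStructure.le_normalizer_pCoreOf _)) (LocalStructure.pCoreOf_isPGroup _)
    have hHc : LocalStructure.CharP 2 H := fun x hx =>
      hONO (hN ⟨hHN hx.1, centralizer_le hONO hx.2⟩)
    have hKc' : LocalStructure.CharP 2 (K.subgroupOf H) :=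
      LocalStructure.charP_of_subnormal hKsn (LocalStructure.charP_iff.1 hHc)
    have hKsc : Layer.PCoreSelfCentral 2 ↥K :=
      Layer.pCoreSelfCentral_congr (subgroupOfEquivOfLe le_sup_left)
        (LocalStructure.charP_iff.1 hKc')
    have hKc : LocalStructure.CharP 2 K := LocalStructure.charP_iff.2 hKsc
    have hQO : Cfsg.pCoreOf 2 K ≤ O := by
      rw [LocalStructure.pCoreOf_eq_inf le_sup_left hKsn]; exact inf_le_right
    -- `O` normalises `L`
    have hOT : O ≤ (T : Subgroup G) :=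
      LocalStructure.pCoreOf_le_sylow hTH T.2 (LocalStructure.sylow_not_dvd_relIndex T hTH)
    have hOL : O ≤ normalizer (L : Set G) := by
      set X := L ⊔ (T : Subgroup G) with hX
      have hXH : X ≤ H := sup_le_sup_right hLK _
      have hA : (O.subgroupOf X).IsSubnormal := Subgroup.Normal.isSubnormal
        ((normal_subgroupOf_iff_le_normalizer (hOT.trans le_sup_right)).2 (hXH.trans hHN))
      have h := (LocalStructure.resOf_sup_of_subnormal hA
        ((LocalStructure.pCoreOf_isPGroup H).comap_of_injective _ X.subtype_injective) hLsn).1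
      have hres : LocalStructure.resOf 2 (L.subgroupOf X) = L.subgroupOf X := by
        have hp : ⁅L.subgroupOf X, L.subgroupOf X⁆ = L.subgroupOf X := hLp
        have := oddGenerated_eq_of_perfect hp
        rw [Cfsg.oddGenerated] at this
        conv_rhs => rw [← this]
        rw [LocalStructure.resOf_eq_closure]
        congr 1
        ext g
        exact and_congr_right fun _ => Nat.coprime_two_right
      rw [hres] at h
      intro o ho
      rw [mem_normalizer_iff]
      have hoX : o ∈ X := le_sup_right (a := L) (hOT ho)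
      intro y
      constructor
      · intro hy
        have := (mem_normalizer_iff.1 (h (show (⟨o, hoX⟩ : X) ∈ O.subgroupOf X from ho))
          ⟨y, le_sup_left (b := (T : Subgroup G)) hy⟩).1 hy
        exact this
      · intro hy
        have := (mem_normalizer_iff.1 (h (show (⟨o⁻¹, inv_mem hoX⟩ : X) ∈ O.subgroupOf X from inv_mem ho))
          ⟨o * y * o⁻¹, le_sup_left (b := (T : Subgroup G)) hy⟩).1 hy
        have h' : o⁻¹ * (o * y * o⁻¹) * o⁻¹⁻¹ ∈ L := this
        rwa [show o⁻¹ * (o * y * o⁻¹) * o⁻¹⁻¹ = y by group] at h'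
    refine ⟨⟨⟨hK1, hKp, hKsn, ?_⟩, hTsyl, hO⟩, ⟨?_, oddGenerated_eq_of_perfect hKK,
      Layer.generalizedFitting_eq_pCore_iff.2 hKsc⟩, fun h0 => hLV ?_⟩
    · assumption
    · intro e
      exact hK1 (by rw [e, bot_subgroupOf])
    · exact moduleV_eq_bot hLK (oddGenerated_eq_of_perfect hLL) hKc (hQO.trans hOL) h0
  exact ⟨h1, fun hmax => ⟨⟨hL.1, fun K hK hLK => hmax K (h1 K hK hLK) hLK⟩, hL.2⟩⟩

end Cfsg.Agent.S1851
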