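import Cfsg.Statements.S1892
import Cfsg.Agent.Layer.PConstraint
import Cfsg.Agent.Coprime.Elementary
-- import your own Cfsg.Agent.* helpers here

set_option autoImplicit false
open Cfsg

namespace Cfsg.Agent.S1892
open scoped commutatorElement

/-- Let S be a finite p-solvable group with no nontrivial normal subgroup of order prime to p, A a p-subgroup of S, and Q a nontrivial A-invariant subgroup of order prime to p with [A, Q] = Q. Then the commutator [O_p(S), A, Q] is nontrivial. -/
theorem result {S : Type*} [Group S] [Finite S] {p : ℕ} [Fact p.Prime]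
    (hS : Cfsg.IsPSolvable p S) (hred : Cfsg.pPrimeCore p S = ⊥)
    (A Q : Subgroup S) (hA : IsPGroup p A) (hQ : ¬ p ∣ Nat.card Q) (hQ1 : Q ≠ ⊥)
    (hinv : ∀ a ∈ A, ∀ x ∈ Q, a * x * a⁻¹ ∈ Q) (hAQ : ⁅A, Q⁆ = Q) :
    ⁅⁅Cfsg.pCore p S, A⁆, Q⁆ ≠ ⊥ := by
  intro hbot
  set P := Cfsg.pCore p S with hP
  have hPp : IsPGroup p P := Core.pCore_isPGroup
  have hAQn : A ≤ Subgroup.normalizer (Q : Set S) := by
    intro a ha
    rw [Subgroup.mem_normalizer_iff]
    refine fun x => ⟨hinv a ha x, fun hx => ?_⟩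
    simpa [mul_assoc] using hinv a⁻¹ (A.inv_mem ha) _ hx
  set C : Subgroup S := P ⊓ Subgroup.centralizer (Q : Set S) with hC
  have hPAC : ⁅P, A⁆ ≤ C :=
    le_inf (Subgroup.commutator_le_left P A) (Subgroup.commutator_eq_bot_iff_le_centralizer.mp hbot)
  have hAC : A ≤ Subgroup.normalizer (C : Set S) :=
    Coprime.le_normalizer_inf Subgroup.le_normalizer_of_normal (Coprime.le_normalizer_centralizer hAQn)
  have hQC : Q ≤ Subgroup.normalizer (C : Set S) :=
    Coprime.le_normalizer_inf Subgroup.le_normalizer_of_normal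
      (Coprime.le_normalizer_centralizer Subgroup.le_normalizer)
  set N : Subgroup S := P ⊓ Subgroup.normalizer (C : Set S) with hN
  set H : Subgroup S := Subgroup.normalizer (N : Set S) ⊓ Subgroup.normalizer (C : Set S) with hH
  have hAH : A ≤ H := le_inf (Coprime.le_normalizer_inf Subgroup.le_normalizer_of_normal
    (hAC.trans Subgroup.le_normalizer)) hAC
  have hQH : Q ≤ H := le_inf (Coprime.le_normalizer_inf Subgroup.le_normalizer_of_normal
    (hQC.trans Subgroup.le_normalizer)) hQC
  have hNH : N ≤ H := le_inf Subgroup.le_normalizer inf_le_right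
  have hCN : C ≤ N := le_inf inf_le_left Subgroup.le_normalizer
  have hCn : (C.subgroupOf H).Normal := Subgroup.normal_subgroupOf_of_le_normalizer inf_le_right
  have hNn : (N.subgroupOf H).Normal := Subgroup.normal_subgroupOf_of_le_normalizer inf_le_left
  let f := QuotientGroup.mk' (C.subgroupOf H)
  have hn' : ((N.subgroupOf H).map f).Normal := hNn.map f (QuotientGroup.mk'_surjective _)
  let T : Subgroup H := (Subgroup.centralizer ((N.subgroupOf H).map f : Set _)).comap f
  have hT : T.Normal := inferInstance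
  have hAT : A.subgroupOf H ≤ T := by
    intro a ha
    rw [Subgroup.mem_comap, Subgroup.mem_centralizer_iff]
    rintro _ ⟨n, hn, rfl⟩
    have h1 : f ⁅n, a⁆ = 1 := (QuotientGroup.eq_one_iff _).mpr (by
      rw [Subgroup.mem_subgroupOf]
      exact hPAC (Subgroup.commutator_mem_commutator hn.1 ha))
    rw [map_commutatorElement, commutatorElement_eq_one_iff_mul_comm] at h1
    exact h1
  have hQT : Q ≤ T.map H.subtype := by
    conv_lhs => rw [← hAQ]
    rw [Subgroup.commutator_le]
    intro a ha q hq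
    refine ⟨⁅(⟨a, hAH ha⟩ : H), ⟨q, hQH hq⟩⁆, ?_, rfl⟩
    exact Subgroup.commutator_le_left T ⊤
      (Subgroup.commutator_mem_commutator (hAT ha) (Subgroup.mem_top _))
  have hcop : (Nat.card Q).Coprime (Nat.card C) := by
    obtain ⟨k, hk⟩ := IsPGroup.iff_card.mp (hPp.to_le (inf_le_left : C ≤ P))
    rw [hk]
    exact Nat.Coprime.pow_right k ((Fact.out : p.Prime).coprime_iff_not_dvd.mpr hQ).symm
  have hNC : N ≤ C := by
    intro n hn
    have hfix : ∀ q ∈ Q, n⁻¹ * (q * n * q⁻¹) ∈ C := by
      intro q hq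
      obtain ⟨t, ht, htq⟩ := hQT hq
      change (t : S) = q at htq
      subst htq
      rw [SetLike.mem_coe, Subgroup.mem_comap, Subgroup.mem_centralizer_iff] at ht
      have h1 := ht (f ⟨n, hNH hn⟩) (Subgroup.mem_map_of_mem _ hn)
      have h2 : f ((⟨n, hNH hn⟩ : H)⁻¹ * (t * ⟨n, hNH hn⟩ * t⁻¹)) = 1 := by
        rw [map_mul, map_mul, map_mul, map_inv, map_inv, ← h1, mul_inv_cancel_right, inv_mul_cancel]
      exact Subgroup.mem_subgroupOf.mp ((QuotientGroup.eq_one_iff (N := C.subgroupOf H) _).mp h2)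
    have hCs : Group.IsSolvable C := by
      have := (hPp.to_le (inf_le_left : C ≤ P)).isNilpotent
      infer_instance
    obtain ⟨c, hc, hnc⟩ := Coprime.exists_fixed_mem_leftCoset hQC hcop (Or.inr hCs) hfix
    refine ⟨hn.1, ?_⟩
    simpa using Subgroup.mul_mem _ hnc (Subgroup.inv_mem _ hc.2)
  have hCP : C = P := by
    refine le_antisymm inf_le_left ?_
    by_contra hle
    have := hPp.isNilpotent
    have hlt : C.subgroupOf P < ⊤ := lt_top_iff_ne_top.mpr fun h => hle (Subgroup.subgroupOf_eq_top.mp h)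
    obtain ⟨x, hx, hxC⟩ := SetLike.exists_of_lt (Group.normalizerCondition_of_isNilpotent _ hlt)
    refine hxC ?_
    rw [Subgroup.mem_subgroupOf]
    refine hNC ⟨x.2, ?_⟩
    change (x : S) ∈ Subgroup.normalizer (C : Set S)
    rw [Subgroup.mem_normalizer_iff]
    intro v
    constructor
    · intro hv
      exact (Subgroup.mem_normalizer_iff.mp hx ⟨v, hv.1⟩).mp hv
    · intro hv
      have hvP : v ∈ P := by
        have := P.mul_mem (P.mul_mem (P.inv_mem x.2) hv.1) x.2
        simpa [mul_assoc] using this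
      exact (Subgroup.mem_normalizer_iff.mp hx ⟨v, hvP⟩).mpr hv
  refine hQ1 ?_
  have hQP : Q ≤ P := by
    have h1 : Q ≤ Subgroup.centralizer (P : Set S) :=
      Subgroup.le_centralizer_iff.mp (hCP ▸ inf_le_right)
    exact h1.trans (Layer.pCoreSelfCentral_of_isPSolvable hS hred)
  obtain ⟨k, hk⟩ := IsPGroup.iff_card.mp (hPp.to_le hQP)
  rcases Nat.eq_zero_or_pos k with rfl | hk0
  · exact Subgroup.card_eq_one.mp (by rw [hk, pow_zero])
  · exact absurd (hk ▸ dvd_pow_self p hk0.ne') hQ

end Cfsg.Agent.S1892
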