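import Cfsg.Statements.S1893
import Cfsg.Agent.QdFree.FittingStable
import Cfsg.Agent.OddLocal.Basic
import Cfsg.Agent.OddLocal.InvTransitivity

set_option autoImplicit false
open Cfsg
open Subgroup
open Cfsg.Agent

namespace Cfsg.Agent.S1893

/-- Let S be a finite solvable group, π a set of primes containing neither 2 nor 3, H a Hall π-subgroup of S, and A a self-centralizing normal subgroup of the Fitting subgroup F(H). Then C_S(A) = A × D for a normal subgroup D of C_S(A) whose order has no prime divisor in π. -/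
theorem result {S : Type*} [Group S] [Finite S] [Group.IsSolvable S]
    (π : Set ℕ) (h2 : 2 ∉ π) (h3 : 3 ∉ π) (H : Subgroup S) (hH : Cfsg.IsPiHall π H)
    (A : Subgroup S) (hA : Cfsg.IsSCN ((Cfsg.fittingSubgroup H).map H.subtype) A) :
    ∃ D : Subgroup S, D ≤ Subgroup.centralizer (A : Set S) ∧
      (∀ c ∈ Subgroup.centralizer (A : Set S), ∀ d ∈ D, c * d * c⁻¹ ∈ D) ∧
      A ⊓ D = ⊥ ∧ A ⊔ D = Subgroup.centralizer (A : Set S) ∧
      ∀ q : ℕ, q.Prime → q ∣ Nat.card D → q ∉ π := by
  classical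
  obtain ⟨hAFH, hFHA, hSCN⟩ := hA
  set FH := (Cfsg.fittingSubgroup H).map H.subtype with hFH
  have hFHH : FH ≤ H := map_subtype_le _
  set O := Cfsg.piCore {r : ℕ | r.Prime ∧ r ∉ π} S with hO
  have hOn : O.Normal := inferInstance
  have hOπ : ∀ r : ℕ, r.Prime → r ∣ Nat.card O → r ∉ π := fun r hr hd =>
    ((OddLocal.piNum_piCore {r : ℕ | r.Prime ∧ r ∉ π}) r hr hd).2
  set f := QuotientGroup.mk' O with hf
  have hfs : Function.Surjective f := QuotientGroup.mk'_surjective O
  have hHO : H ⊓ O = ⊥ := by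
    refine eq_bot_of_card_eq _ (Nat.eq_one_iff_not_exists_prime_dvd.mpr fun r hr hd => ?_)
    exact hOπ r hr (hd.trans (card_dvd_of_le inf_le_right)) (hH.1 r hr (hd.trans (card_dvd_of_le inf_le_left)))
  have hinj : ∀ x ∈ H, f x = 1 → x = 1 := fun x hx h =>
    mem_bot.mp (hHO.le ⟨hx, (QuotientGroup.eq_one_iff x).mp h⟩)
  set Fb := Cfsg.fittingSubgroup (S ⧸ O) with hFb
  set Hb := H.map f with hHb
  -- the Fitting subgroup of the quotient is a π-group
  have hFπ : ∀ r : ℕ, r.Prime → r ∣ Nat.card Fb → r ∈ π := by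
    intro r hr hd
    by_contra hrπ
    have : Fact r.Prime := ⟨hr⟩
    have hR : Cfsg.pCore r (S ⧸ O) ≠ ⊥ := by
      intro hbot
      have : Fb.Normal := inferInstance
      obtain ⟨P⟩ : Nonempty (Sylow r Fb) := inferInstance
      have hPn : (P : Subgroup Fb).Normal := Sylow.normal_of_all_max_subgroups_normal
        (fun M hM => NormalizerCondition.normal_of_coatom M Group.normalizerCondition_of_isNilpotent hM) P
      have hchar : (P : Subgroup Fb).Characteristic := Sylow.characteristic_of_normal P hPn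
      have hn : ((P : Subgroup Fb).map Fb.subtype).Normal := ConjAct.normal_of_characteristic_of_normal
      have := Core.le_pCore (hN := hn) (P.isPGroup'.map _)
      rw [hbot, le_bot_iff, map_eq_bot_iff_of_injective _ Fb.subtype_injective] at this
      exact P.ne_bot_of_dvd_card hd this
    set M := (Cfsg.pCore r (S ⧸ O)).comap f
    have hMO : M ≤ O := by
      refine le_sSup ⟨(inferInstance : (Cfsg.pCore r (S ⧸ O)).Normal).comap f, fun s hs hsd => ?_⟩
      have hc : Nat.card M = Nat.card O * Nat.card (Cfsg.pCore r (S ⧸ O)) := by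
        have h1 := card_eq_card_quotient_mul_card_subgroup (O.subgroupOf M)
        rw [Nat.card_congr (subgroupOfEquivOfLe (fun x hx => mem_comap.mpr (by
          rw [hf, QuotientGroup.mk'_apply, (QuotientGroup.eq_one_iff x).mpr hx]; exact one_mem _) : O ≤ M)).toEquiv] at h1
        rw [h1, mul_comm]
        congr 1
        let g : M →* Cfsg.pCore r (S ⧸ O) := f.subgroupComap _
        have hg : Function.Surjective g := MonoidHom.subgroupComap_surjective_of_surjective f _ hfs
        have hk : g.ker = O.subgroupOf M := by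
          ext x
          rw [MonoidHom.mem_ker, mem_subgroupOf, Subtype.ext_iff]
          exact QuotientGroup.eq_one_iff _
        rw [← hk]
        exact Nat.card_congr (QuotientGroup.quotientKerEquivOfSurjective g hg).toEquiv
      rw [hc] at hsd
      refine ⟨hs, ?_⟩
      rcases hs.dvd_mul.mp hsd with h | h
      · exact hOπ s hs h
      · obtain ⟨m, hm⟩ := IsPGroup.iff_card.mp (Core.pCore_isPGroup (p := r) (G := S ⧸ O))
        rw [hm] at h
        rw [(Nat.prime_dvd_prime_iff_eq hs hr).mp (hs.dvd_of_dvd_pow h)]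
        exact hrπ
    refine hR ((eq_bot_iff_forall _).mpr fun y hy => ?_)
    obtain ⟨x, rfl⟩ := hfs y
    exact (QuotientGroup.eq_one_iff x).mpr (hMO hy)
  -- it lies in the image of `H`
  have hFH' : Fb ≤ Hb := by
    have h1 : (Hb ⊔ Fb) = Hb := by
      refine (eq_of_le_of_card_ge le_sup_left (le_of_eq ?_)).symm
      have hrel : Hb.relIndex (Hb ⊔ Fb) = 1 := by
        refine Nat.eq_one_iff_not_exists_prime_dvd.mpr fun r hr hd => ?_
        have h2 : Hb.relIndex (Hb ⊔ Fb) ∣ Nat.card Fb := by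
          have e1 := relIndex_mul_relIndex ⊥ Hb (Hb ⊔ Fb) bot_le le_sup_left
          have e2 := relIndex_mul_relIndex ⊥ Fb (Hb ⊔ Fb) bot_le le_sup_right
          have e3 := relIndex_mul_relIndex ⊥ (Fb ⊓ Hb) Hb bot_le inf_le_right
          rw [relIndex_bot_left, relIndex_bot_left] at e1 e2 e3
          rw [sup_comm] at e2
          rw [relIndex_sup_left] at e2
          rw [inf_relIndex_right] at e3
          rw [sup_comm Fb Hb] at e2
          refine Dvd.intro (Nat.card (Fb ⊓ Hb : Subgroup (S ⧸ O))) ?_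
          refine Nat.eq_of_mul_eq_mul_left (Nat.pos_of_ne_zero (show Fb.relIndex Hb ≠ 0 from index_ne_zero_of_finite)) ?_
          calc Fb.relIndex Hb * (Hb.relIndex (Hb ⊔ Fb) * Nat.card (Fb ⊓ Hb : Subgroup (S ⧸ O)))
              = Hb.relIndex (Hb ⊔ Fb) * (Nat.card (Fb ⊓ Hb : Subgroup (S ⧸ O)) * Fb.relIndex Hb) := by ring
            _ = Nat.card (Hb ⊔ Fb : Subgroup (S ⧸ O)) := by rw [e3, mul_comm]; exact e1
            _ = _ := by rw [← e2, mul_comm]
        have hrπ := hFπ r hr (hd.trans h2)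
        refine hH.2 r hr hrπ (hd.trans ((Dvd.intro _ (relIndex_mul_index le_sup_left)).trans ?_))
        exact index_map_dvd H hfs
      rw [relIndex_eq_one] at hrel
      rw [le_antisymm hrel le_sup_left]
    exact h1 ▸ le_sup_right
  -- pulled back to `H` it lies in `F(H)`
  have hpull : ∀ y ∈ Fb, ∃ x ∈ FH, f x = y := by
    set N := Fb.comap (f.comp H.subtype)
    have hNn : N.Normal := (inferInstance : Fb.Normal).comap _
    let g : N →* Fb := (f.comp H.subtype).subgroupComap Fb
    have hg : Function.Injective g := by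
      rw [injective_iff_map_eq_one]
      intro x hx
      exact Subtype.ext (Subtype.ext (hinj _ x.1.2 (congrArg Subtype.val hx)))
    have hN : N ≤ Cfsg.fittingSubgroup H := Core.le_fittingSubgroup (Subgroup.isNilpotent_of_ker_le_center g
      (by rw [(MonoidHom.ker_eq_bot_iff g).mpr hg]; exact bot_le))
    intro y hy
    obtain ⟨x, hx, rfl⟩ := hFH' hy
    exact ⟨x, ⟨⟨x, hx⟩, hN hy, rfl⟩, rfl⟩
  set Ab := A.map f
  have hnorm : Fb ≤ normalizer (Ab : Set (S ⧸ O)) := by
    intro y hy
    obtain ⟨x, hx, rfl⟩ := hpull y hy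
    exact le_normalizer_map f ⟨x, hFHA hx, rfl⟩
  have hcap : Fb ⊓ centralizer (Ab : Set (S ⧸ O)) ≤ Ab := by
    rintro y ⟨hy, hyc⟩
    obtain ⟨x, hx, rfl⟩ := hpull y hy
    refine mem_map_of_mem f (hSCN.le ⟨hx, mem_centralizer_iff.mpr fun a ha => ?_⟩)
    have h1 := mem_centralizer_iff.mp hyc _ (mem_map_of_mem f ha)
    rw [← map_mul, ← map_mul] at h1
    refine mul_inv_eq_one.mp (hinj _ (mul_mem (mul_mem (hFHH (hAFH ha)) (hFHH hx))
      (inv_mem (mul_mem (hFHH hx) (hFHH (hAFH ha)))) : a * x * (x * a)⁻¹ ∈ H) ?_)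
    rw [map_mul, map_inv, h1, mul_inv_cancel]
  have h5 : ∀ r : ℕ, r.Prime → r ∣ Nat.card Fb → 5 ≤ r := fun r hr hd => by
    have hrπ := hFπ r hr hd
    have n2 : r ≠ 2 := fun h => h2 (h ▸ hrπ)
    have n3 : r ≠ 3 := fun h => h3 (h ▸ hrπ)
    have := hr.two_le
    by_contra hlt
    have : r = 4 := by omega
    subst this
    norm_num at hr
  have hCF := QdFree.centralizer_le_fitting hnorm hcap h5
  have hsplit : ∀ c ∈ centralizer (A : Set S), ∃ a ∈ A, a⁻¹ * c ∈ O := by
    intro c hc
    have hc' : f c ∈ centralizer (Ab : Set (S ⧸ O)) := mem_centralizer_iff.mpr (by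
      rintro _ ⟨a, ha, rfl⟩
      rw [← map_mul, ← map_mul, mem_centralizer_iff.mp hc a ha])
    obtain ⟨a, ha, hac⟩ := hcap ⟨hCF hc', hc'⟩
    exact ⟨a, ha, QuotientGroup.eq.mp hac⟩
  have hAC : A ≤ centralizer (A : Set S) := fun a ha => (hSCN.ge ha).2
  refine ⟨O ⊓ centralizer (A : Set S), inf_le_right, fun c hc d hd =>
    ⟨hOn.conj_mem d hd.1 c, (mul_mem (mul_mem hc hd.2) (inv_mem hc) :
      c * d * c⁻¹ ∈ centralizer (A : Set S))⟩, ?_, le_antisymm ?_ ?_,
    fun r hr hd => hOπ r hr (hd.trans (card_dvd_of_le inf_le_left))⟩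
  · exact le_bot_iff.mp (le_trans (inf_le_inf (hAFH.trans hFHH) inf_le_left) hHO.le)
  · exact sup_le hAC inf_le_right
  · intro c hc
    obtain ⟨a, ha, hac⟩ := hsplit c hc
    rw [show c = a * (a⁻¹ * c) by group]
    exact mul_mem (mem_sup_left ha) (mem_sup_right ⟨hac, (mul_mem (inv_mem (hAC ha)) hc :
      a⁻¹ * c ∈ centralizer (A : Set S))⟩)

end Cfsg.Agent.S1893
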