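import Cfsg.Statements.S1894
import Cfsg.Agent.Fusion.PGroup
-- import your own Cfsg.Agent.* helpers here

set_option autoImplicit false
open Cfsg

namespace Cfsg.Agent.S1894

/-- Let P be a finite p-group, A a normal subgroup of P and B an abelian subgroup of A that is normal in P. Then some subgroup C of A containing B is normal in P and is self-centralizing and normal in A (C ∈ SCN(A)). -/
theorem result {P : Type*} [Group P] [Finite P] {p : ℕ} [Fact p.Prime] (hP : IsPGroup p P)
    (A : Subgroup P) [A.Normal] (B : Subgroup P) [B.Normal] (hBA : B ≤ A) (hB : IsMulCommutative B) :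
    ∃ C : Subgroup P, C.Normal ∧ B ≤ C ∧ Cfsg.IsSCN A C := by
  classical
  obtain ⟨C, ⟨hCn, hBC, hCA, hCc⟩, hmax⟩ := wellFounded_gt.has_min
    {C : Subgroup P | C.Normal ∧ B ≤ C ∧ C ≤ A ∧ IsMulCommutative C} ⟨B, inferInstance, le_rfl, hBA, hB⟩
  refine ⟨C, hCn, hBC, hCA, Subgroup.le_normalizer_of_normal, ?_⟩
  have hle : C ≤ A ⊓ Subgroup.centralizer (C : Set P) :=
    le_inf hCA (Subgroup.le_centralizer_iff_isMulCommutative.mpr hCc)
  refine le_antisymm ?_ hle
  by_contra hne
  obtain ⟨L, hLn, hCL, hLD, hLc, -⟩ :=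
    Fusion.exists_normal_card_succ hP C (A ⊓ Subgroup.centralizer (C : Set P)) (hle.lt_of_not_ge hne)
  have hLne : L ≠ C := fun e => by
    rw [e] at hLc
    exact absurd hLc (Nat.ne_of_lt (lt_mul_of_one_lt_left Nat.card_pos (Fact.out : p.Prime).one_lt))
  refine hmax L ⟨hLn, hBC.trans hCL, hLD.trans inf_le_left, ?_⟩ (hCL.lt_of_ne hLne.symm)
  -- the centre of `L` contains `C`, with quotient of prime order
  have hidx : Nat.card (L ⧸ C.subgroupOf L) = p := by
    have h := Subgroup.card_eq_card_quotient_mul_card_subgroup (C.subgroupOf L)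
    rw [Nat.card_congr (Subgroup.subgroupOfEquivOfLe hCL).toEquiv, hLc] at h
    exact (Nat.eq_of_mul_eq_mul_right Nat.card_pos h).symm
  haveI : IsCyclic (L ⧸ C.subgroupOf L) := isCyclic_of_prime_card hidx
  refine MonoidHom.isMulCommutative_of_isCyclic_of_ker_le_center (QuotientGroup.mk' (C.subgroupOf L)) ?_
  rw [QuotientGroup.ker_mk']
  intro c hc
  rw [Subgroup.mem_center_iff]
  intro l
  exact Subtype.ext (Subgroup.mem_centralizer_iff.mp (hLD l.2).2 c hc).symm

end Cfsg.Agent.S1894
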