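import Cfsg.Statements.S1896
import Cfsg.Agent.MaxClass.Metacyclic

set_option autoImplicit false
open Cfsg

namespace Cfsg.Agent.S1896

/-- A finite metacyclic 2-group whose automorphism group is not a 2-group is isomorphic to the quaternion group of order 8 or to a homocyclic abelian group Z_{2^n} × Z_{2^n}. -/
theorem result {X : Type*} [Group X] [Finite X] (hX : IsPGroup 2 X)
    (hm : Cfsg.IsMetacyclic X) (hA : ¬ IsPGroup 2 (MulAut X)) :
    Nonempty (X ≃* QuaternionGroup 2) ∨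
      ∃ n : ℕ, Nonempty (X ≃* Multiplicative (ZMod (2 ^ n)) × Multiplicative (ZMod (2 ^ n))) := by
  have : Fact (Nat.Prime 2) := ⟨Nat.prime_two⟩
  obtain ⟨φ, hφ⟩ : ∃ φ : MulAut X, ∀ k, orderOf φ ≠ 2 ^ k := by
    by_contra! h
    exact hA (IsPGroup.iff_orderOf.2 h)
  obtain ⟨k, m, hm', hord⟩ := Nat.exists_eq_two_pow_mul_odd (orderOf_pos φ).ne'
  refine MaxClass.metacyclic_odd_aut hX hm (φ ^ 2 ^ k) (fun h => hφ k ?_) ?_
  · have h1 := orderOf_dvd_iff_pow_eq_one.2 h
    rw [hord] at h1 ⊢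
    obtain rfl : m = 1 := Nat.dvd_one.1 (Nat.dvd_of_mul_dvd_mul_left (Nat.two_pow_pos k) (by rwa [mul_one]))
    rw [mul_one]
  · rw [orderOf_pow' φ (by positivity), hord, Nat.gcd_eq_right (dvd_mul_right _ _),
      Nat.mul_div_cancel_left _ (Nat.two_pow_pos k)]
    exact hm'

end Cfsg.Agent.S1896
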