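import Cfsg.Statements.S1897
import Cfsg.Agent.U33.Subgroup
import Cfsg.Agent.Classical.SmallPSL
import Cfsg.Agent.Classical.UnitaryThreeTwo

set_option autoImplicit false
open Cfsg

namespace Cfsg.Agent.S1897

/-- The projective special unitary group PSU₃(3) (realised over the field with 9 elements) has a subgroup isomorphic to PSL₂(7). -/
theorem result {F : Type*} [Field F] [Fintype F] (hF : Fintype.card F = 9)
    {K : Type*} [Field K] [Fintype K] (hK : Fintype.card K = 7) :
    ∃ H : Subgroup (Cfsg.PSU 3 F 3), Nonempty (H ≃* Matrix.ProjectiveSpecialLinearGroup (Fin 2) K) := by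
  obtain ⟨e⟩ := Classical.U32.psu_congr (n := 3) (q := 3)
    (FiniteField.ringEquivOfCardEq (hF.trans U33.F9.card_eq.symm))
  obtain ⟨H, hH, hs⟩ := U33.exists_simple_168
  let e' := H.equivMapOfInjective e.symm.toMonoidHom e.symm.injective
  haveI := hs
  haveI : IsSimpleGroup ↥(H.map e.symm.toMonoidHom) := e'.symm.isSimpleGroup
  refine ⟨H.map e.symm.toMonoidHom, ?_⟩
  exact Classical.Small.simple_168_psl ((Nat.card_congr e'.toEquiv).symm.trans hH) hK

end Cfsg.Agent.S1897
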