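import Cfsg.Statements.S1898

set_option autoImplicit false
open Cfsg

namespace Cfsg.Agent.S1898

/-- Let X be a finite 2-group whose derived subgroup is elementary abelian and central. Then the subgroup generated by the elements of order dividing 4 has exponent dividing 4, and every automorphism of X fixing each element of order dividing 4 has 2-power order. -/
theorem result {X : Type*} [Group X] [Finite X] (hX : IsPGroup 2 X)
    (hel : Cfsg.IsElementaryAbelian 2 (commutator X)) (hcen : commutator X ≤ Subgroup.center X) :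
    (∀ x ∈ Subgroup.closure {g : X | g ^ 4 = 1}, x ^ 4 = 1) ∧
      ∀ φ : MulAut X, (∀ g : X, g ^ 4 = 1 → φ g = g) → ∃ k : ℕ, φ ^ (2 ^ k) = 1 := by
  have hc4 : ∀ x y : X, x * y = y * x → (x * y) ^ 4 = x ^ 4 * y ^ 4 := fun x y h => (show Commute x y from h).mul_pow 4
  have hcm : ∀ a b : X, a * b * a⁻¹ * b⁻¹ ∈ commutator X := fun a b =>
    Subgroup.commutator_mem_commutator (Subgroup.mem_top a) (Subgroup.mem_top b)
  -- `(x y)^4 = x^4 y^4`
  have hpow : ∀ x y : X, (x * y) ^ 4 = x ^ 4 * y ^ 4 := by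
    intro x y
    set c := y * x * y⁻¹ * x⁻¹ with hcdef
    have hc : c ∈ commutator X := hcm y x
    have hcc : ∀ g, g * c = c * g := fun g => Subgroup.mem_center_iff.1 (hcen hc) g
    have hc2 : c * c = 1 := by simpa [pow_two] using hel.2 c hc
    have hyx : y * x = c * (x * y) := by simp [hcdef, mul_assoc]
    clear_value c
    have h2 : (x * y) ^ 2 = c * (x ^ 2 * y ^ 2) := by
      calc (x * y) ^ 2 = x * (y * x) * y := by simp [pow_two, mul_assoc]
      _ = x * c * (x * y) * y := by rw [hyx]; simp [mul_assoc]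
      _ = c * (x ^ 2 * y ^ 2) := by rw [hcc x]; simp [pow_two, mul_assoc]
    have hyx2 : y ^ 2 * x = x * y ^ 2 := by
      calc y ^ 2 * x = y * (y * x) := by simp [pow_two, mul_assoc]
      _ = y * c * (x * y) := by rw [hyx, ← mul_assoc y c]
      _ = c * ((y * x) * y) := by rw [hcc y]; simp [mul_assoc]
      _ = c * c * (x * y ^ 2) := by rw [hyx]; simp [pow_two, mul_assoc]
      _ = x * y ^ 2 := by rw [hc2, one_mul]
    have hcomm : Commute (x ^ 2) (y ^ 2) := (Commute.pow_right (show Commute (y ^ 2) x from hyx2) 2).symm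
    calc (x * y) ^ 4 = ((x * y) ^ 2) ^ 2 := by rw [← pow_mul]
    _ = c ^ 2 * (x ^ 2 * y ^ 2) ^ 2 := by rw [h2, (show Commute c _ from (hcc _).symm).mul_pow]
    _ = x ^ 4 * y ^ 4 := by rw [hcomm.mul_pow, ← pow_mul, ← pow_mul, pow_two c, hc2, one_mul]
  constructor
  · intro x hx
    induction hx using Subgroup.closure_induction with
    | mem g hg => exact hg
    | one => simp
    | mul a b _ _ iha ihb => rw [hpow, iha, ihb, one_mul]
    | inv a _ iha => rw [inv_pow, iha, inv_one]
  intro φ hφ
  have key : ∀ k : ℕ, ∀ g : X, g ^ 4 ^ (k + 1) = 1 → (φ ^ 4 ^ k) g = g := by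
    intro k
    induction k with
    | zero => intro g hg; simpa using hφ g (by simpa using hg)
    | succ k ih =>
      intro g hg
      have h4 : (φ ^ 4 ^ k) (g ^ 4) = g ^ 4 := ih _ (by rw [← pow_mul, ← pow_succ', hg])
      rw [pow_succ 4 k, pow_mul]
      set ψ := φ ^ 4 ^ k
      obtain ⟨c, hc⟩ : ∃ c, ψ g = g * c := ⟨g⁻¹ * ψ g, by rw [mul_inv_cancel_left]⟩
      have hc4' : c ^ 4 = 1 := by
        rw [map_pow, hc, hpow] at h4
        exact mul_left_cancel (h4.trans (mul_one _).symm)
      have hfix : ∀ n : ℕ, (φ ^ n) c = c := by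
        intro n
        induction n with
        | zero => rfl
        | succ n ihn => rw [pow_succ, MulAut.mul_apply, hφ c hc4', ihn]
      have hiter : ∀ n : ℕ, (ψ ^ n) g = g * c ^ n := by
        intro n
        induction n with
        | zero => simp
        | succ n ihn =>
          rw [pow_succ', MulAut.mul_apply, ihn, map_mul, map_pow, hc, show ψ c = c from hfix _, mul_assoc, ← pow_succ']
      rw [hiter, hc4', mul_one]
  obtain ⟨k, hk⟩ := IsPGroup.iff_card.1 hX
  refine ⟨2 * k, MulEquiv.ext fun g => ?_⟩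
  rw [pow_mul, show (2 : ℕ) ^ 2 = 4 by norm_num]
  apply key
  have : g ^ Nat.card X = 1 := pow_card_eq_one'
  rw [hk] at this
  rw [show (4 : ℕ) ^ (k + 1) = 2 ^ k * 2 ^ (k + 2) by rw [← pow_add, show (4:ℕ) = 2 ^ 2 by norm_num, ← pow_mul]; congr 1; ring,
    pow_mul, this, one_pow]

end Cfsg.Agent.S1898
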