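import Cfsg.Statements.S1899

set_option autoImplicit false
open Cfsg

namespace Cfsg.Agent.S1899

/-- Let a dihedral group of order 2n, n odd and n > 1, act on a finite abelian 2-group A through automorphisms d and t with d^n = 1, t² = 1 and t d t⁻¹ = d⁻¹, and suppose that d fixes only the identity. Then A is the internal direct product of C_A(t) and its image under d. -/
theorem result {A : Type*} [CommGroup A] [Finite A] (hA : IsPGroup 2 A)
    {n : ℕ} (hn : Odd n) (hn1 : 1 < n) (d t : MulAut A) (hd : d ^ n = 1) (ht : t ^ 2 = 1) (hdt : t * d * t⁻¹ = d⁻¹)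
    (hfix : ∀ a : A, d a = a → a = 1) :
    (MulEquiv.toMonoidHom t).eqLocus (MonoidHom.id A) ⊓ ((MulEquiv.toMonoidHom t).eqLocus (MonoidHom.id A)).map d.toMonoidHom = ⊥ ∧
      (MulEquiv.toMonoidHom t).eqLocus (MonoidHom.id A) ⊔ ((MulEquiv.toMonoidHom t).eqLocus (MonoidHom.id A)).map d.toMonoidHom = ⊤ := by
  set ρ := MulEquiv.toMonoidHom t
  have hmem : ∀ a : A, a ∈ ρ.eqLocus (MonoidHom.id A) ↔ t a = a := fun a => Iff.rfl
  have htt : ∀ a : A, t (t a) = a := fun a => by
    rw [← MulAut.mul_apply, ← pow_two, ht]; rfl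
  have hd' : ∀ a : A, t (d a) = d⁻¹ (t a) := fun a => by
    have h : t * d = d⁻¹ * t := by rw [← hdt, inv_mul_cancel_right]
    exact DFunLike.congr_fun h a
  have hd'' : ∀ a : A, t (d⁻¹ a) = d (t a) := fun a => by
    apply d⁻¹.injective
    rw [← hd', MulAut.apply_inv_self, MulAut.inv_apply_self]
  -- `d² a = a` forces `a = 1`
  have hfix2 : ∀ a : A, d (d a) = a → a = 1 := fun a h => hfix a (by
    obtain ⟨m, hm⟩ := hn
    have h2 : ∀ k : ℕ, (d ^ (2 * k)) a = a := by
      intro k
      induction k with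
      | zero => rfl
      | succ k ih => rw [show 2 * (k + 1) = 2 + 2 * k by ring, pow_add, MulAut.mul_apply, ih, pow_two, MulAut.mul_apply, h]
    have h3 : (d ^ n) a = a := by rw [hd]; rfl
    rwa [hm, show 2 * m + 1 = 1 + 2 * m by ring, pow_add, MulAut.mul_apply, h2, pow_one] at h3)
  constructor
  · rw [Subgroup.eq_bot_iff_forall]
    rintro a ⟨ha, b, hb, rfl⟩
    have ha : t (d b) = d b := ha
    have hb : t b = b := hb
    rw [hd', hb] at ha
    have : b = 1 := hfix2 b (by rw [← ha, MulAut.apply_inv_self])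
    simp [this]
  · rw [eq_top_iff]
    intro a _
    -- `ψ x = d x / d⁻¹ x` is bijective and anticommutes with `t`
    let ψ : A → A := fun x => d x / d⁻¹ x
    have hψ : Function.Injective ψ := fun x y h => by
      have h1 : d (x / y) = d⁻¹ (x / y) := by
        have : d x / d⁻¹ x = d y / d⁻¹ y := h
        rw [map_div, map_div]
        rwa [← div_eq_div_iff_div_eq_div]
      refine div_eq_one.1 (hfix2 _ ?_)
      rw [h1, MulAut.apply_inv_self]
    obtain ⟨x, hx⟩ := Finite.injective_iff_surjective.1 hψ (a / t a)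
    have hx' : d x / d⁻¹ x = a / t a := hx
    have htx : t x = x := by
      apply hψ
      show d (t x) / d⁻¹ (t x) = d x / d⁻¹ x
      rw [← hd'', ← hd', ← map_div, hx', ← inv_div (d x), hx', map_inv, map_div, htt, inv_div]
    have h1 : a / d x ∈ ρ.eqLocus (MonoidHom.id A) := by
      rw [hmem, map_div, hd', htx, eq_comm, div_eq_div_iff_div_eq_div]
      exact hx'.symm
    have : a = a / d x * d x := (div_mul_cancel a (d x)).symm
    rw [this]
    exact Subgroup.mul_mem_sup h1 ⟨x, htx, rfl⟩

end Cfsg.Agent.S1899
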