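import Cfsg.Statements.S1900
import Cfsg.Agent.Coprime.Elementary
import Cfsg.Agent.Coprime.Generation
import Cfsg.Agent.Fusion.PGroup
import Cfsg.Agent.Coprime.Basic
-- import your own Cfsg.Agent.* helpers here

set_option autoImplicit false
open Cfsg
open scoped commutatorElement

namespace Cfsg.Agent.S1900

theorem centralizer_zpowers' {S : Type*} [Group S] (g : S) :
    Subgroup.centralizer (Subgroup.zpowers g : Set S) = Subgroup.centralizer {g} := by
  rw [Subgroup.zpowers_eq_closure, Subgroup.centralizer_closure]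

theorem exists_gen {S : Type*} [Group S] {q : ℕ} [Fact q.Prime] {X : Subgroup S} (h : Nat.card X = q) :
    ∃ x, Subgroup.zpowers x = X := by
  have := isCyclic_of_prime_card h
  obtain ⟨g, hg⟩ := this.exists_generator
  refine ⟨g, le_antisymm (Subgroup.zpowers_le.mpr g.2) fun z hz => ?_⟩
  obtain ⟨i, hi⟩ := hg ⟨z, hz⟩
  exact ⟨i, congrArg Subtype.val hi⟩

/-- The bilinear step. -/
theorem bilinear {S T : Type*} [Group S] [Finite S] [Group T] {f : S →* T} {M' M P Q X₁ X₂ : Subgroup S} [M.Normal]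
    (hf : f.ker = M') (hMP : M ≤ P)
    (hcen : ∀ m ∈ M, ∀ g ∈ P, Commute (f m) (f g))
    (hcom : ⁅P ⊓ Subgroup.centralizer (X₁ : Set S), P ⊓ Subgroup.centralizer (X₂ : Set S)⁆ ≤ M)
    (hQc : IsMulCommutative Q) {x y : S}
    (h1 : Subgroup.centralizer (X₁ : Set S) = Subgroup.centralizer {x})
    (h2 : Subgroup.centralizer (X₂ : Set S) = Subgroup.centralizer {y}) (hxQ : x ∈ Q) (hyQ : y ∈ Q)
    (hQP : Q ≤ Subgroup.normalizer (P : Set S))
    (hgen : M ≤ (M ⊓ (P ⊓ Subgroup.centralizer (X₁ : Set S))) ⊔ (M ⊓ (P ⊓ Subgroup.centralizer (X₂ : Set S))))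
    (hint : (P ⊓ Subgroup.centralizer (X₁ : Set S)) ⊓ (P ⊓ Subgroup.centralizer (X₂ : Set S)) = ⊥)
    {c1 c2 : S} (hc1 : c1 ∈ P ⊓ Subgroup.centralizer (X₁ : Set S))
    (hc2 : c2 ∈ P ⊓ Subgroup.centralizer (X₂ : Set S)) : ⁅c1, c2⁆ ∈ M' := by
  rw [h1, h2] at hcom hgen hint
  rw [h1] at hc1
  rw [h2] at hc2
  set C1 := P ⊓ Subgroup.centralizer {x}
  set C2 := P ⊓ Subgroup.centralizer {y}
  have hxy : Commute x y := congrArg Subtype.val (hQc.is_comm.comm (⟨x, hxQ⟩ : Q) ⟨y, hyQ⟩)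
  have hfixx : ∀ c ∈ C1, x * c * x⁻¹ = c := fun c hc =>
    mul_inv_eq_iff_eq_mul.mpr (Subgroup.mem_centralizer_singleton_iff.mp hc.2).symm
  have hfixy : ∀ c ∈ C2, y * c * y⁻¹ = c := fun c hc =>
    mul_inv_eq_iff_eq_mul.mpr (Subgroup.mem_centralizer_singleton_iff.mp hc.2).symm
  have hconjP : ∀ u ∈ Q, ∀ c ∈ P, u * c * u⁻¹ ∈ P := fun u hu c hc =>
    (Subgroup.mem_normalizer_iff.mp (hQP hu) c).mp hc
  -- surjectivity of `d ↦ d⁻¹ u d u⁻¹` on a subgroup where `u` is fixed-point-free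
  have hsurj : ∀ (C : Subgroup S) (u : S), (∀ c ∈ C, u * c * u⁻¹ ∈ C) →
      (∀ c ∈ C, u * c * u⁻¹ = c → c = 1) → ∀ c ∈ C, ∃ d ∈ C, d⁻¹ * (u * d * u⁻¹) = c := by
    intro C u hu hfree c hc
    have hinj : Function.Injective fun d : C => (⟨(d : S)⁻¹ * (u * d * u⁻¹),
        mul_mem (inv_mem d.2) (hu d d.2)⟩ : C) := by
      intro a b h
      have h' : (a : S)⁻¹ * (u * a * u⁻¹) = (b : S)⁻¹ * (u * b * u⁻¹) := congrArg Subtype.val h
      have h0 : u * ((b : S) * (a : S)⁻¹) * u⁻¹ = (b : S) * (a : S)⁻¹ := by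
        calc u * ((b : S) * (a : S)⁻¹) * u⁻¹ = (u * b * u⁻¹) * (u * a * u⁻¹)⁻¹ := by simp [mul_assoc]
          _ = (b : S) * ((b : S)⁻¹ * (u * b * u⁻¹)) * ((a : S) * ((a : S)⁻¹ * (u * a * u⁻¹)))⁻¹ := by
            simp
          _ = (b : S) * (a : S)⁻¹ := by rw [h']; simp [mul_assoc]
      exact Subtype.ext (mul_inv_eq_one.mp (hfree _ (mul_mem b.2 (inv_mem a.2)) h0)).symm
    obtain ⟨d, hd⟩ := Finite.surjective_of_injective hinj ⟨c, hc⟩
    exact ⟨d, d.2, congrArg Subtype.val hd⟩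
  have hC1y : ∀ c ∈ C1, y * c * y⁻¹ ∈ C1 := fun c hc => ⟨hconjP y hyQ c hc.1,
    Subgroup.mem_centralizer_singleton_iff.mpr (by
      have e := (Subgroup.mem_centralizer_singleton_iff.mp hc.2)
      exact ((hxy.mul_right (show Commute x c from e.symm)).mul_right hxy.inv_right).eq.symm)⟩
  have hC2x : ∀ c ∈ C2, x * c * x⁻¹ ∈ C2 := fun c hc => ⟨hconjP x hxQ c hc.1,
    Subgroup.mem_centralizer_singleton_iff.mpr (by
      have e := (Subgroup.mem_centralizer_singleton_iff.mp hc.2)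
      exact ((hxy.symm.mul_right (show Commute y c from e.symm)).mul_right hxy.symm.inv_right).eq.symm)⟩
  obtain ⟨e, he, rfl⟩ := hsurj C1 y hC1y (fun c hc h => Subgroup.mem_bot.mp (hint ▸
    (⟨hc, hc.1, Subgroup.mem_centralizer_singleton_iff.mpr (mul_inv_eq_iff_eq_mul.mp h).symm⟩ :
      c ∈ C1 ⊓ C2))) c1 hc1
  obtain ⟨d, hd, rfl⟩ := hsurj C2 x hC2x (fun c hc h => Subgroup.mem_bot.mp (hint ▸
    (⟨⟨hc.1, Subgroup.mem_centralizer_singleton_iff.mpr (mul_inv_eq_iff_eq_mul.mp h).symm⟩, hc⟩ :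
      c ∈ C1 ⊓ C2))) c2 hc2
  have hcom' : ∀ a ∈ C1, ∀ b ∈ C2, ⁅a, b⁆ ∈ M := fun a ha b hb =>
    hcom (Subgroup.commutator_mem_commutator ha hb)
  -- multiplicativity
  have hmulL : ∀ a ∈ C1, ∀ a' ∈ C1, ∀ b ∈ C2, f ⁅a * a', b⁆ = f ⁅a', b⁆ * f ⁅a, b⁆ := by
    intro a ha a' ha' b hb
    have e1 : ⁅a * a', b⁆ = a * ⁅a', b⁆ * a⁻¹ * ⁅a, b⁆ := by
      simp only [commutatorElement_def]; group
    rw [e1, map_mul, map_mul, map_mul, map_inv, (hcen _ (hcom' a' ha' b hb) a ha.1).symm.eq,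
      mul_inv_cancel_right]
  have hmulR : ∀ a ∈ C1, ∀ b ∈ C2, ∀ b' ∈ C2, f ⁅a, b * b'⁆ = f ⁅a, b⁆ * f ⁅a, b'⁆ := by
    intro a ha b hb b' hb'
    have e1 : ⁅a, b * b'⁆ = ⁅a, b⁆ * (b * ⁅a, b'⁆ * b⁻¹) := by
      simp only [commutatorElement_def]; group
    rw [e1, map_mul, map_mul, map_mul, map_inv, (hcen _ (hcom' a ha b' hb') b hb.1).symm.eq,
      mul_inv_cancel_right]
  have hsub0 : M ⊓ C1 ⊔ M ⊓ C2 ≤ M := sup_le inf_le_left inf_le_left
  have hcomm2 : ∀ u ∈ M ⊓ C1 ⊔ M ⊓ C2, ∀ v ∈ M ⊓ C1 ⊔ M ⊓ C2,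
      Commute (f (y * u * y⁻¹)) (f (x * v * x⁻¹)) := fun u hu v hv =>
    hcen _ (Subgroup.Normal.conj_mem inferInstance u (hsub0 hu) y) _
      (hconjP x hxQ v (hMP (hsub0 hv)))
  -- the relation on `M`
  have hrel : ∀ m ∈ M, f (x * (y * m * y⁻¹) * x⁻¹) * f m = f (x * m * x⁻¹) * f (y * m * y⁻¹) := by
    intro m hm
    have hm' := hgen hm
    rw [Subgroup.sup_eq_closure] at hm'
    clear hm
    induction hm' using Subgroup.closure_induction with
    | mem v hv =>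
      rcases hv with ⟨hvM, hv⟩ | ⟨hvM, hv⟩
      · rw [hfixx v hv, hfixx _ (hC1y v hv)]
        exact (hcen v hvM _ (hconjP y hyQ v hv.1)).symm.eq
      · rw [hfixy v hv]
    | one => simp
    | mul u v hu hv iu iv =>
      rw [← Subgroup.sup_eq_closure] at hu hv
      have hsub : ∀ w ∈ M ⊓ C1 ⊔ M ⊓ C2, w ∈ M := fun w hw => hsub0 hw
      have cc : ∀ g ∈ Q, ∀ w, g * (u * w) * g⁻¹ = g * u * g⁻¹ * (g * w * g⁻¹) := fun g _ w => by
        simp [mul_assoc]
      have e1 : x * (y * (u * v) * y⁻¹) * x⁻¹ =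
          x * (y * u * y⁻¹) * x⁻¹ * (x * (y * v * y⁻¹) * x⁻¹) := by simp [mul_assoc]
      rw [e1, cc x hxQ, cc y hyQ, map_mul f (x * (y * u * y⁻¹) * x⁻¹), map_mul f u v,
        map_mul f (x * u * x⁻¹), map_mul f (y * u * y⁻¹)]
      set A' := f (x * (y * u * y⁻¹) * x⁻¹)
      set B' := f (x * (y * v * y⁻¹) * x⁻¹)
      calc A' * B' * (f u * f v) = A' * (B' * f u) * f v := by simp only [mul_assoc]
        _ = A' * (f u * B') * f v := by
          rw [(hcen u (hsub u hu) _ (hconjP x hxQ _ (hconjP y hyQ v (hMP (hsub v hv))))).symm.eq]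
        _ = (A' * f u) * (B' * f v) := by simp only [mul_assoc]
        _ = f (x * u * x⁻¹) * f (y * u * y⁻¹) * (f (x * v * x⁻¹) * f (y * v * y⁻¹)) := by rw [iu, iv]
        _ = f (x * u * x⁻¹) * (f (y * u * y⁻¹) * f (x * v * x⁻¹)) * f (y * v * y⁻¹) := by
          simp only [mul_assoc]
        _ = f (x * u * x⁻¹) * (f (x * v * x⁻¹) * f (y * u * y⁻¹)) * f (y * v * y⁻¹) := by
          congr 2
          exact (hcomm2 u hu v hv).eq
        _ = f (x * u * x⁻¹) * f (x * v * x⁻¹) * (f (y * u * y⁻¹) * f (y * v * y⁻¹)) := by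
          simp only [mul_assoc]
    | inv u hu iu =>
      rw [← Subgroup.sup_eq_closure] at hu
      have hsub : u ∈ M := hsub0 hu
      have c1 := hcen u hsub _ (hconjP x hxQ _ (hconjP y hyQ u (hMP hsub)))
      have c2 := hcomm2 u hu u hu
      have e1 : ∀ g : S, g * u⁻¹ * g⁻¹ = (g * u * g⁻¹)⁻¹ := fun g => by simp [mul_assoc]
      rw [e1, e1, show x * (y * u * y⁻¹)⁻¹ * x⁻¹ = (x * (y * u * y⁻¹) * x⁻¹)⁻¹ by simp [mul_assoc],
        map_inv, map_inv, map_inv, map_inv, ← mul_inv_rev, ← mul_inv_rev, inv_inj, c1.eq, iu]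
      exact c2.symm.eq
  have hye := hC1y e he
  have hxd := hC2x d hd
  have hLinv : ∀ a ∈ C1, ∀ b ∈ C2, f ⁅a⁻¹, b⁆ = (f ⁅a, b⁆)⁻¹ := fun a ha b hb => by
    have := hmulL a⁻¹ (inv_mem ha) a ha b hb
    rw [inv_mul_cancel, commutatorElement_one_left, map_one] at this
    exact (eq_inv_of_mul_eq_one_right this.symm)
  have hRinv : ∀ a ∈ C1, ∀ b ∈ C2, f ⁅a, b⁻¹⁆ = (f ⁅a, b⁆)⁻¹ := fun a ha b hb => by
    have := hmulR a ha b hb b⁻¹ (inv_mem hb)
    rw [mul_inv_cancel, commutatorElement_one_right, map_one] at this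
    exact (eq_inv_of_mul_eq_one_right this.symm)
  have hm := hcom' e he d hd
  have k := hrel _ hm
  have ey : y * ⁅e, d⁆ * y⁻¹ = ⁅y * e * y⁻¹, d⁆ := by
    conv_rhs => rw [← hfixy d hd]
    simp [commutatorElement_def, mul_assoc]
  have ex : x * ⁅e, d⁆ * x⁻¹ = ⁅e, x * d * x⁻¹⁆ := by
    conv_rhs => rw [← hfixx e he]
    simp [commutatorElement_def, mul_assoc]
  have exy : x * ⁅y * e * y⁻¹, d⁆ * x⁻¹ = ⁅y * e * y⁻¹, x * d * x⁻¹⁆ := by
    conv_rhs => rw [← hfixx _ hye]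
    simp [commutatorElement_def, mul_assoc]
  rw [ey, ex, exy] at k
  rw [← hf, MonoidHom.mem_ker, hmulL _ (inv_mem he) _ hye _ (mul_mem (inv_mem hd) hxd),
    hmulR _ hye _ (inv_mem hd) _ hxd, hmulR _ (inv_mem he) _ (inv_mem hd) _ hxd,
    hRinv _ hye _ hd, hRinv _ (inv_mem he) _ hd, hLinv _ he _ hd, hLinv _ he _ hxd, inv_inv]
  -- a⁻¹ * b * (m * c⁻¹) = 1 with b * m = c * a
  rw [mul_assoc, inv_mul_eq_one, ← mul_assoc, eq_mul_inv_iff_mul_eq]
  rw [k]
  exact ((hcen _ (hcom' _ he _ hxd) _ (hMP (hcom' _ hye _ hd))).eq).symm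


/-- Let S = PQ be a finite group with P a normal Sylow p-subgroup and Q elementary abelian of order q², q a prime different from p. If exactly two subgroups X₁, X₂ of order q in Q have a nontrivial centralizer in P, then P is the internal direct product of C_P(X₁) and C_P(X₂): they commute elementwise, meet trivially and generate P. -/
theorem result {S : Type*} [Group S] [Finite S] {p q : ℕ} [Fact p.Prime] [Fact q.Prime] (hpq : p ≠ q)
    (P : Sylow p S) [(P : Subgroup S).Normal] (Q : Subgroup S) (hQ : Cfsg.IsElementaryAbelian q Q) (hQc : Nat.card Q = q ^ 2)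
    (hS : (P : Subgroup S) ⊔ Q = ⊤)
    (X₁ X₂ : Subgroup S) (h₁ : X₁ ≤ Q) (h₂ : X₂ ≤ Q) (h₁₂ : X₁ ≠ X₂) (hc₁ : Nat.card X₁ = q) (hc₂ : Nat.card X₂ = q)
    (hf₁ : (P : Subgroup S) ⊓ Subgroup.centralizer (X₁ : Set S) ≠ ⊥)
    (hf₂ : (P : Subgroup S) ⊓ Subgroup.centralizer (X₂ : Set S) ≠ ⊥)
    (honly : ∀ X : Subgroup S, X ≤ Q → Nat.card X = q →
      (P : Subgroup S) ⊓ Subgroup.centralizer (X : Set S) ≠ ⊥ → X = X₁ ∨ X = X₂) :
    ⁅(P : Subgroup S) ⊓ Subgroup.centralizer (X₁ : Set S), (P : Subgroup S) ⊓ Subgroup.centralizer (X₂ : Set S)⁆ = ⊥ ∧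
      ((P : Subgroup S) ⊓ Subgroup.centralizer (X₁ : Set S)) ⊓ ((P : Subgroup S) ⊓ Subgroup.centralizer (X₂ : Set S)) = ⊥ ∧
      ((P : Subgroup S) ⊓ Subgroup.centralizer (X₁ : Set S)) ⊔ ((P : Subgroup S) ⊓ Subgroup.centralizer (X₂ : Set S)) = P := by
  classical
  have hq : q.Prime := Fact.out
  obtain ⟨x, hx⟩ : ∃ x, Subgroup.zpowers x = X₁ := exists_gen hc₁
  obtain ⟨y, hy⟩ : ∃ y, Subgroup.zpowers y = X₂ := exists_gen hc₂
  have hxQ : x ∈ Q := h₁ (hx ▸ Subgroup.mem_zpowers x)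
  have hyQ : y ∈ Q := h₂ (hy ▸ Subgroup.mem_zpowers y)
  have hCx : ∀ X : Subgroup S, ∀ g, Subgroup.zpowers g = X →
      Subgroup.centralizer (X : Set S) = Subgroup.centralizer {g} := by
    rintro X g rfl
    exact centralizer_zpowers' g
  set C1 := (P : Subgroup S) ⊓ Subgroup.centralizer (X₁ : Set S) with hC1
  set C2 := (P : Subgroup S) ⊓ Subgroup.centralizer (X₂ : Set S) with hC2
  have hQP : Q ≤ Subgroup.normalizer ((P : Subgroup S) : Set S) := Subgroup.le_normalizer_of_normal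
  obtain ⟨kP, hkP⟩ := IsPGroup.iff_card.mp P.2
  have hcop : (Nat.card Q).Coprime (Nat.card (P : Subgroup S)) := by
    rw [hQc, hkP]
    exact ((Nat.coprime_primes hq Fact.out).mpr (Ne.symm hpq)).pow _ _
  haveI := hQ.1
  have hQnc : ¬ IsCyclic Q := Coprime.ea_not_isCyclic hQ (by rw [hQc])
  have hzc : ∀ a ∈ Q, a ≠ 1 → Nat.card (Subgroup.zpowers a) = q := fun a ha ha1 => by
    rw [Nat.card_zpowers, Coprime.ea_orderOf hQ ha ha1]
  -- the fixed points of every element lie in `C1` or `C2`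
  have hfix : ∀ a ∈ Q, a ≠ 1 → (P : Subgroup S) ⊓ Subgroup.centralizer {a} = C1 ∨
      (P : Subgroup S) ⊓ Subgroup.centralizer {a} = C2 ∨ (P : Subgroup S) ⊓ Subgroup.centralizer {a} = ⊥ := by
    intro a ha ha1
    by_cases h : (P : Subgroup S) ⊓ Subgroup.centralizer {a} = ⊥
    · exact Or.inr (Or.inr h)
    rw [← centralizer_zpowers'] at h ⊢
    rcases honly _ (Subgroup.zpowers_le.mpr ha) (hzc a ha ha1) h with e | e
    · exact Or.inl (by rw [e])
    · exact Or.inr (Or.inl (by rw [e]))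
  -- trivial intersection
  have hint : C1 ⊓ C2 = ⊥ := by
    by_contra h
    obtain ⟨c, hc, hc1⟩ := (C1 ⊓ C2).bot_or_exists_ne_one.resolve_left h
    have hcQ : ∀ g ∈ X₁ ⊔ X₂, g * c = c * g := by
      intro g hg
      have : X₁ ⊔ X₂ ≤ Subgroup.centralizer {c} := by
        refine sup_le (fun z hz => Subgroup.mem_centralizer_singleton_iff.mpr ?_)
          (fun z hz => Subgroup.mem_centralizer_singleton_iff.mpr ?_)
        · exact Subgroup.mem_centralizer_iff.mp hc.1.2 z hz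
        · exact Subgroup.mem_centralizer_iff.mp hc.2.2 z hz
      exact Subgroup.mem_centralizer_singleton_iff.mp (this hg)
    have hx1 : x ≠ 1 := fun h0 => by
      rw [← hx, h0, Subgroup.zpowers_one_eq_bot, Subgroup.card_bot] at hc₁
      exact hq.ne_one hc₁.symm
    have hy1 : y ≠ 1 := fun h0 => by
      rw [← hy, h0, Subgroup.zpowers_one_eq_bot, Subgroup.card_bot] at hc₂
      exact hq.ne_one hc₂.symm
    -- the third subgroup generated by `x * y`
    have hxy : x * y ∈ X₁ ⊔ X₂ := Subgroup.mul_mem_sup (hx ▸ Subgroup.mem_zpowers x) (hy ▸ Subgroup.mem_zpowers y)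
    have hny : y ∉ Subgroup.zpowers x := fun hm => h₁₂ (by
      refine (Subgroup.eq_of_le_of_card_ge ?_ (by rw [hc₁, hc₂])).symm
      rw [← hy, ← hx]
      exact Subgroup.zpowers_le.mpr hm)
    have hnx : x ∉ Subgroup.zpowers y := fun hm => h₁₂ (by
      refine Subgroup.eq_of_le_of_card_ge ?_ (by rw [hc₁, hc₂])
      rw [← hy, ← hx]
      exact Subgroup.zpowers_le.mpr hm)
    have hxy1 : x * y ≠ 1 := fun h0 => hny (by
      rw [eq_inv_of_mul_eq_one_right h0]; exact inv_mem (Subgroup.mem_zpowers x))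
    have hne : (P : Subgroup S) ⊓ Subgroup.centralizer (Subgroup.zpowers (x * y) : Set S) ≠ ⊥ := fun h0 => hc1 (by
      refine Subgroup.mem_bot.mp (h0 ▸ (⟨hc.1.1, ?_⟩ : c ∈ (P : Subgroup S) ⊓ _))
      show c ∈ Subgroup.centralizer _
      rw [centralizer_zpowers', Subgroup.mem_centralizer_singleton_iff]
      exact (hcQ _ hxy).symm)
    rcases honly _ (Subgroup.zpowers_le.mpr (mul_mem hxQ hyQ)) (hzc _ (mul_mem hxQ hyQ) hxy1) hne with e | e
    · refine hny ?_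
      have h0 : x * y ∈ X₁ := e ▸ Subgroup.mem_zpowers _
      rw [← hx] at h0
      simpa using mul_mem (inv_mem (Subgroup.mem_zpowers x)) h0
    · refine hnx ?_
      have h0 : x * y ∈ X₂ := e ▸ Subgroup.mem_zpowers _
      rw [← hy] at h0
      simpa using mul_mem h0 (inv_mem (Subgroup.mem_zpowers y))
  -- generation
  have hgen : ∀ K : Subgroup S, K ≤ (P : Subgroup S) → Q ≤ Subgroup.normalizer (K : Set S) →
      K ≤ (K ⊓ C1) ⊔ (K ⊓ C2) := by
    intro K hK hQK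
    conv_lhs => rw [← Coprime.iSup_centralizer_eq hQnc hQK (hcop.coprime_dvd_right (Subgroup.card_dvd_of_le hK))]
    refine iSup₂_le fun a ha => ?_
    have e : K ⊓ Subgroup.centralizer {a} = K ⊓ ((P : Subgroup S) ⊓ Subgroup.centralizer {a}) := by
      rw [← inf_assoc, inf_eq_left.mpr hK]
    rw [e]
    rcases hfix a ha.1 ha.2 with e1 | e1 | e1 <;> rw [e1]
    · exact le_sup_left
    · exact le_sup_right
    · simp
  refine ⟨?_, hint, le_antisymm (sup_le inf_le_left inf_le_left)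
    ((hgen _ le_rfl hQP).trans (sup_le_sup inf_le_right inf_le_right))⟩
  -- commutation, down the lower central series of `P`
  have hPnil : Group.IsNilpotent (P : Subgroup S) := P.2.isNilpotent
  obtain ⟨n, hn⟩ := (Subgroup.isNilpotent_iff_lowerCentralSeries _).mp hPnil
  suffices h : ∀ k, ⁅C1, C2⁆ ≤ (P : Subgroup S).lowerCentralSeries k from le_bot_iff.mp (hn ▸ h n)
  have hnorm : ∀ k, ((P : Subgroup S).lowerCentralSeries k).Normal := by
    intro k
    induction k with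
    | zero => rw [Subgroup.lowerCentralSeries_zero]; infer_instance
    | succ k ih => haveI := ih; rw [Subgroup.lowerCentralSeries_succ]; infer_instance
  intro k
  induction k with
  | zero =>
    rw [Subgroup.lowerCentralSeries_zero, Subgroup.commutator_le]
    intro a ha b hb
    exact mul_mem (mul_mem (mul_mem ha.1 hb.1) (inv_mem ha.1)) (inv_mem hb.1)
  | succ k ih =>
    set M := (P : Subgroup S).lowerCentralSeries k with hM
    set M' := (P : Subgroup S).lowerCentralSeries (k + 1) with hM'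
    haveI := hnorm k
    haveI : M'.Normal := hnorm (k + 1)
    refine Subgroup.commutator_le.mpr fun c1 hc1 c2 hc2 => ?_
    have hcen : ∀ m ∈ M, ∀ g ∈ (P : Subgroup S), Commute (QuotientGroup.mk' M' m) (QuotientGroup.mk' M' g) := by
      intro m hm g hg
      rw [← commutatorElement_eq_one_iff_commute, ← map_commutatorElement]
      refine (QuotientGroup.eq_one_iff _).mpr ?_
      rw [hM', Subgroup.lowerCentralSeries_succ]
      exact Subgroup.commutator_mem_commutator hm hg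
    exact bilinear (f := QuotientGroup.mk' M') (QuotientGroup.ker_mk' M') (M := M)
      (Subgroup.lowerCentralSeries_le_self _ k) hcen ih hQ.1 (hCx X₁ x hx) (hCx X₂ y hy) hxQ hyQ hQP
      (hgen M (Subgroup.lowerCentralSeries_le_self _ k) Subgroup.le_normalizer_of_normal) hint hc1 hc2

end Cfsg.Agent.S1900
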