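import Cfsg.Statements.S1901
import Cfsg.Agent.Coprime.Basic
-- import your own Cfsg.Agent.* helpers here

set_option autoImplicit false
open Cfsg
open scoped commutatorElement

namespace Cfsg.Agent.S1901

/-- Let G be a finite p-solvable group and Q a subgroup of order prime to p such that p divides the index of C_G(Q) in N_G(Q). Then Q normalizes no Sylow p-subgroup of G. -/
theorem result {G : Type*} [Group G] [Finite G] {p : ℕ} [Fact p.Prime]
    (hG : Cfsg.IsPSolvable p G) (Q : Subgroup G) (hQ : ¬ p ∣ Nat.card Q)
    (hA : p ∣ (Subgroup.centralizer (Q : Set G)).relIndex (Subgroup.normalizer (Q : Set G)))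
    (P : Sylow p G) : ¬ Q ≤ Subgroup.normalizer ((P : Subgroup G) : Set G) := by
  classical
  intro hQP
  obtain ⟨n, H, h0, hl, hm, hn, hi⟩ := hG
  -- a `p`-element of `N(Q)` outside `C(Q)`
  obtain ⟨y, hyN, ⟨k, hk⟩, hyC⟩ : ∃ y ∈ Subgroup.normalizer (Q : Set G),
      (∃ k : ℕ, orderOf y = p ^ k) ∧ y ∉ Subgroup.centralizer (Q : Set G) := by
    obtain ⟨T⟩ : Nonempty (Sylow p (Subgroup.normalizer (Q : Set G))) := inferInstance
    by_contra hne
    push Not at hne
    refine T.not_dvd_index (hA.trans ?_)
    refine Subgroup.index_dvd_of_le fun t ht => ?_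
    obtain ⟨k, hk⟩ := IsPGroup.iff_orderOf.mp T.2 ⟨t, ht⟩
    exact hne t t.2 ⟨k, (Subgroup.orderOf_coe t).trans ((Subgroup.orderOf_coe (⟨t, ht⟩ : (T : Subgroup _))).trans hk)⟩
  have hyQ : Subgroup.zpowers y ≤ Subgroup.normalizer (Q : Set G) := Subgroup.zpowers_le.mpr hyN
  have hp : p.Prime := Fact.out
  have hcop : (Nat.card (Subgroup.zpowers y)).Coprime (Nat.card Q) := by
    rw [Nat.card_zpowers, hk]
    exact (hp.coprime_iff_not_dvd.mpr hQ).pow_left k
  have hsolv : Group.IsSolvable (Subgroup.zpowers y) :=
    Group.isSolvable_of_comm fun a b => IsMulCommutative.is_comm.comm a b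
  set R : Subgroup G := ⁅Q, Subgroup.zpowers y⁆ with hR
  have hRQ : R ≤ Q := Coprime.commutator_le_of_le_normalizer hyQ
  suffices h : ∀ i : Fin (n + 1), R ≤ H i by
    have h' := h 0
    rw [h0, le_bot_iff, hR, Subgroup.commutator_comm, Subgroup.commutator_eq_bot_iff_le_centralizer] at h'
    exact hyC (h' (Subgroup.mem_zpowers y))
  intro i
  induction i using Fin.reverseInduction with
  | last => rw [hl]; exact le_top
  | cast i ih =>
    haveI := hn i.castSucc
    haveI := hn i.succ
    set f := QuotientGroup.mk' (H i.castSucc) with hf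
    have hrel : ∀ U : Subgroup G, U ≤ H i.succ → Nat.card (U.map f) ∣ (H i.castSucc).relIndex (H i.succ) := by
      intro U hU
      rw [← Subgroup.relIndex_bot_left (U.map f)]
      have : (H i.castSucc).relIndex (H i.succ) = Nat.card ((H i.succ).map f) := by
        rw [← Subgroup.relIndex_ker, hf, QuotientGroup.ker_mk']
      rw [this, Subgroup.relIndex_bot_left]
      exact Subgroup.card_dvd_of_le (Subgroup.map_mono hU)
    have hle : ∀ U : Subgroup G, U.map f = ⊥ → U ≤ H i.castSucc := fun U h => by
      rwa [Subgroup.map_eq_bot_iff, hf, QuotientGroup.ker_mk'] at h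
    rcases hi i with ⟨m, hm'⟩ | hc
    · refine hle R (Subgroup.card_eq_one.mp (Nat.eq_one_of_dvd_coprimes
        ((hp.coprime_iff_not_dvd.mpr hQ).pow_left m)
        (hm' ▸ hrel R ih) ((Subgroup.card_map_dvd R f).trans (Subgroup.card_dvd_of_le hRQ))))
    · set R' : Subgroup G := Q ⊓ H i.succ with hR'
      have hPR : ((P : Subgroup G).map f) ≤ Subgroup.centralizer (R'.map f : Set (G ⧸ H i.castSucc)) := by
        rw [← Subgroup.commutator_eq_bot_iff_le_centralizer, ← Subgroup.map_commutator]
        set U : Subgroup G := ⁅(P : Subgroup G), R'⁆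
        have h1 : U ≤ (P : Subgroup G) ⊓ H i.succ := by
          refine le_inf ?_ ?_
          · refine (Subgroup.commutator_comm _ _).le.trans ?_
            exact (Subgroup.commutator_mono inf_le_left le_rfl).trans
              (by rw [Subgroup.commutator_comm]; exact Coprime.commutator_le_of_le_normalizer hQP)
          · exact (Subgroup.commutator_mono le_rfl inf_le_right).trans (Subgroup.commutator_le_right _ _)
        obtain ⟨a, ha⟩ := IsPGroup.iff_card.mp P.2
        exact Subgroup.card_eq_one.mp (Nat.eq_one_of_dvd_coprimes (hc.pow_right a)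
          (hrel U (h1.trans inf_le_right))
          ((Subgroup.card_map_dvd U f).trans (ha ▸ Subgroup.card_dvd_of_le (h1.trans inf_le_left))))
      have hyR' : f y ∈ Subgroup.normalizer (R'.map f : Set (G ⧸ H i.castSucc)) :=
        Subgroup.le_normalizer_map f (Subgroup.mem_map_of_mem f (Coprime.le_normalizer_inf hyQ
          Subgroup.le_normalizer_of_normal (Subgroup.mem_zpowers y)))
      have hcy : f y ∈ Subgroup.centralizer (R'.map f : Set (G ⧸ H i.castSucc)) := by
        set C := Subgroup.centralizer (R'.map f : Set (G ⧸ H i.castSucc))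
        set K := Subgroup.normalizer (R'.map f : Set (G ⧸ H i.castSucc))
        haveI : (C.subgroupOf K).Normal := inferInstance
        have hidx : ¬ p ∣ (C.subgroupOf K).index := fun h => by
          refine (P.mapSurjective (QuotientGroup.mk'_surjective (H i.castSucc))).not_dvd_index ?_
          refine h.trans (((Subgroup.relIndex_dvd_of_le_left K hPR).trans ?_))
          have hPK : (P : Subgroup G).map f ≤ K := hPR.trans (Subgroup.centralizer_le_normalizer _)
          exact Dvd.intro _ (Subgroup.relIndex_mul_index hPK)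
        have h1 : orderOf (QuotientGroup.mk' (C.subgroupOf K) ⟨f y, hyR'⟩) ∣ p ^ k := by
          refine (orderOf_map_dvd _ _).trans ?_
          rw [Subgroup.orderOf_mk, ← hk]
          exact orderOf_map_dvd f y
        have h2 := _root_.orderOf_dvd_natCard (QuotientGroup.mk' (C.subgroupOf K) ⟨f y, hyR'⟩)
        have h3 := Nat.eq_one_of_dvd_coprimes ((hp.coprime_iff_not_dvd.mpr hidx).pow_left k) h1
          (by rw [Subgroup.index_eq_card]; exact h2)
        exact ((QuotientGroup.eq_one_iff _).mp (orderOf_eq_one_iff.mp h3) :)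
      have hbot : (⁅R', Subgroup.zpowers y⁆).map f = ⊥ := by
        rw [Subgroup.map_commutator, MonoidHom.map_zpowers, Subgroup.commutator_comm,
          Subgroup.commutator_eq_bot_iff_le_centralizer, Subgroup.zpowers_le]
        exact hcy
      calc R = ⁅R, Subgroup.zpowers y⁆ := (Coprime.commutator_commutator_eq hyQ hcop (Or.inl hsolv)).symm
        _ ≤ ⁅R', Subgroup.zpowers y⁆ := Subgroup.commutator_mono (le_inf hRQ ih) le_rfl
        _ ≤ H i.castSucc := hle _ hbot

end Cfsg.Agent.S1901
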