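import Cfsg.Statements.S1902
import Cfsg.Agent.Fusion.FixedLine
import Cfsg.Agent.Layer.PConstraint
import Cfsg.Agent.Core.PCore
import Cfsg.Agent.Coprime.Basic
import Cfsg.Agent.OddLocal.PLengthOne

set_option autoImplicit false
open Cfsg

namespace Cfsg.Agent.S1902

set_option maxHeartbeats 800000

open Subgroup in
/-- The case of a trivial `p'`-core. -/
theorem eq_bot_of_core_bot {G : Type*} [Group G] [Finite G] {p : ℕ} [hp : Fact p.Prime] (hp2 : p ≠ 2)
    (hC : centralizer (Cfsg.pCore p G : Set G) ≤ Cfsg.pCore p G)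
    (B : Subgroup G) (hB : Cfsg.IsElementaryAbelian p B) (hBc : Nat.card B = p ^ 2)
    (b₀ : G) (hb₀ : b₀ ∈ B) (hb₁ : b₀ ≠ 1)
    (hH : ∀ S : Subgroup G, IsPGroup p S → B ≤ S → S ≤ centralizer ({b₀} : Set G) →
      ∀ x ∈ S, x ^ p = 1 → x ∈ B)
    (Q : Subgroup G) (hQ : (Nat.card Q).Coprime p) (hBQ : B ≤ normalizer (Q : Set G)) : Q = ⊥ := by
  have hpp : p.Prime := hp.out
  haveI := hB.1
  set R := Cfsg.pCore p G with hR
  have hRp : IsPGroup p R := Core.pCore_isPGroup
  have hbR : ∀ g : G, g ∈ normalizer (R : Set G) := fun g => by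
    rw [normalizer_eq_top_iff.mpr inferInstance]; exact mem_top g
  have hQR : Q ≤ normalizer (R : Set G) := fun q _ => hbR q
  have hBp : IsPGroup p B := IsPGroup.of_card hBc
  have hBb : B ≤ centralizer ({b₀} : Set G) := fun x hx => mem_centralizer_singleton_iff.mpr
    (congrArg Subtype.val (hB.1.is_comm.comm (⟨x, hx⟩ : B) ⟨b₀, hb₀⟩))
  have hbp : b₀ ^ p = 1 := hB.2 b₀ hb₀
  have hQR1 : ∀ x ∈ Q, x ∈ R → x = 1 := fun x hxQ hxR => by
    obtain ⟨k, hk⟩ := IsPGroup.iff_orderOf.mp hRp ⟨x, hxR⟩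
    rw [Subgroup.orderOf_mk] at hk
    exact orderOf_eq_one_iff.mp (Nat.eq_one_of_dvd_coprimes (hQ.pow_right k)
      (Subgroup.orderOf_dvd_natCard Q hxQ) hk.dvd)
  set Z := B ⊓ R with hZ
  have hQZ : Q ≤ centralizer (Z : Set G) := fun q hq => mem_centralizer_iff.mpr fun z hz => by
    rw [← commutatorElement_eq_one_iff_mul_comm]
    refine hQR1 _ ?_ ?_
    · rw [commutatorElement_def]
      exact mul_mem ((mem_normalizer_iff.mp (hBQ hz.1) q).mp hq) (inv_mem hq)
    · rw [commutatorElement_def, mul_assoc z, mul_assoc z]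
      exact mul_mem hz.2 ((inferInstance : R.Normal).conj_mem _ (inv_mem hz.2) q)
  have hT : ∀ x ∈ R, x ^ p = 1 → Commute x b₀ → x ∈ Z := by
    intro x hx hxp hxb
    refine ⟨?_, hx⟩
    refine hH ((R ⊔ B) ⊓ centralizer ({b₀} : Set G)) ?_ (le_inf le_sup_right hBb) inf_le_right x
      ⟨mem_sup_left hx, mem_centralizer_singleton_iff.mpr hxb⟩ hxp
    exact (IsPGroup.to_sup_of_normal_left hRp hBp).to_le inf_le_left
  have hQb : Q ⊓ centralizer ({b₀} : Set G) = ⊥ := by
    set Qb := Q ⊓ centralizer ({b₀} : Set G)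
    have hle : Qb ≤ centralizer (R : Set G) := by
      refine Coprime.thompson_pxq (P := zpowers b₀) (U := R) ?_
        (hQ.coprime_dvd_left (card_dvd_of_le inf_le_left)) hRp ?_ ?_ (fun q _ => hbR q) ?_
      · refine IsPGroup.of_card (n := 1) ?_
        rw [Nat.card_zpowers, orderOf_eq_prime hbp hb₁, pow_one]
      · rw [zpowers_le]
        exact mem_centralizer_iff.mpr fun q hq => mem_centralizer_singleton_iff.mp hq.2
      · exact fun g _ => hbR g
      · -- elements of order `p` among the fixed points are centralised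
        set T := R ⊓ centralizer (zpowers b₀ : Set G) with hTdef
        intro t ht
        refine mem_centralizer_iff.mpr fun q hq => ?_
        have hqn : q ∈ normalizer (T : Set G) := by
          have hqc : ∀ g ∈ zpowers b₀, g * q = q * g := by
            intro g hg
            obtain ⟨i, rfl⟩ := mem_zpowers_iff.mp hg
            exact ((show Commute b₀ q from (mem_centralizer_singleton_iff.mp hq.2).symm).zpow_left i).eq
          exact Coprime.le_normalizer_inf (A := zpowers q) (zpowers_le.mpr (hbR q))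
            (zpowers_le.mpr (le_normalizer (mem_centralizer_iff.mpr hqc))) (mem_zpowers q)
        have hTp : IsPGroup p T := hRp.to_le inf_le_left
        set a : MulAut T := T.normalizerMonoidHom ⟨q, hqn⟩
        have ha : a = 1 := by
          refine Fusion.eq_one_of_fixes_omega hTp a ?_ fun x hx => ?_
          · refine Nat.Coprime.coprime_dvd_left ((orderOf_map_dvd _ _).trans ?_) hQ
            rw [Subgroup.orderOf_mk]
            exact Subgroup.orderOf_dvd_natCard Q hq.1
          · rcases hx with hx | ⟨h2, -⟩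
            swap
            · exact absurd h2 hp2
            have hxb : Commute (x : G) b₀ := (mem_centralizer_iff.mp x.2.2 b₀ (mem_zpowers b₀)).symm
            have hxZ : (x : G) ∈ Z := hT x x.2.1 (congrArg Subtype.val hx) hxb
            refine Subtype.ext ?_
            show q * (x : G) * q⁻¹ = x
            rw [← mem_centralizer_iff.mp (hQZ hq.1) _ hxZ, mul_inv_cancel_right]
        have h1 : ((a ⟨t, ht⟩ : T) : G) = t := by rw [ha]; rfl
        exact mul_inv_eq_iff_eq_mul.mp h1
    exact (eq_bot_iff_forall _).mpr fun q hq => hQR1 q hq.1 (hC (hle hq))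
  by_cases hbR' : b₀ ∈ R
  · rw [← hQb, eq_comm, inf_eq_left]
    exact fun q hq => mem_centralizer_singleton_iff.mpr
      (mem_centralizer_iff.mp (hQZ hq) b₀ ⟨hb₀, hbR'⟩).symm
  have hZc : Nat.card Z ≤ p := by
    obtain ⟨j, hj⟩ := (hBp.to_le (inf_le_left : Z ≤ B)).exists_card_eq
    have hlt : Nat.card Z < Nat.card B := lt_of_le_of_ne (card_le_of_le inf_le_left) fun h =>
      hbR' ((eq_of_le_of_card_ge inf_le_left h.ge).ge hb₀).2
    rw [hj, hBc] at hlt
    have hj2 := (Nat.pow_lt_pow_iff_right hpp.one_lt).mp hlt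
    calc Nat.card Z = p ^ j := hj
      _ ≤ p ^ 1 := Nat.pow_le_pow_right hpp.pos (by omega)
      _ = p := pow_one p
  have hQC := Fusion.FixedLine.le_centralizer_of_fixed_line hp2 hbp hQ (hBQ hb₀) hQb hQZ hZc R hRp
    (hbR b₀) hQR hT
  exact (eq_bot_iff_forall _).mpr fun q hq => hQR1 q hq (hC (hQC hq))

/-- Let p be an odd prime, G a finite p-solvable group, and B an elementary abelian subgroup of order p² such that B is the subgroup generated by the elements of order p of some Sylow p-subgroup of C_G(b₀), for some nontrivial b₀ ∈ B. Then every B-invariant subgroup of G of order prime to p lies in O_{p'}(G). -/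
theorem result {G : Type*} [Group G] [Finite G] {p : ℕ} [Fact p.Prime] (hp : p ≠ 2)
    (hG : Cfsg.IsPSolvable p G) (B : Subgroup G) (hB : Cfsg.IsElementaryAbelian p B) (hBc : Nat.card B = p ^ 2)
    (b₀ : G) (hb₀ : b₀ ∈ B) (hb₁ : b₀ ≠ 1) (P : Sylow p ↥(Subgroup.centralizer ({b₀} : Set G)))
    (hBP : B = Subgroup.closure {x : G | x ∈ ((P : Subgroup ↥(Subgroup.centralizer ({b₀} : Set G))).map
      (Subgroup.centralizer ({b₀} : Set G)).subtype : Subgroup G) ∧ orderOf x = p})
    (Q : Subgroup G) (hQ : ¬ p ∣ Nat.card Q) (hinv : ∀ b ∈ B, ∀ x ∈ Q, b * x * b⁻¹ ∈ Q) :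
    Q ≤ Cfsg.pPrimeCore p G := by
  open Subgroup in
  have hpp : p.Prime := Fact.out
  haveI := hB.1
  have hBp : IsPGroup p B := IsPGroup.of_card hBc
  have hBb : B ≤ (centralizer ({b₀} : Set G)) := fun x hx => mem_centralizer_singleton_iff.mpr
    (congrArg Subtype.val (hB.1.is_comm.comm (⟨x, hx⟩ : B) ⟨b₀, hb₀⟩))
  have hin : ∀ y : (centralizer ({b₀} : Set G)), y ∈ (P : Subgroup (centralizer ({b₀} : Set G))) → (y : G) ^ p = 1 → (y : G) ∈ B := by
    intro y hy hyp
    rcases eq_or_ne (y : G) 1 with h1 | h1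
    · rw [h1]; exact B.one_mem
    rw [hBP]
    refine subset_closure ?_
    exact ⟨mem_map_of_mem (centralizer ({b₀} : Set G)).subtype hy, orderOf_eq_prime hyp h1⟩
  -- elements of order `p` in a `p`-subgroup of the centraliser containing `B`
  have hH0 : ∀ S : Subgroup G, IsPGroup p S → B ≤ S → S ≤ (centralizer ({b₀} : Set G)) → ∀ x ∈ S, x ^ p = 1 → x ∈ B := by
    intro S hS hBS hSC x hx hxp
    obtain ⟨P', hP'⟩ := (hS.comap_of_injective (centralizer ({b₀} : Set G)).subtype (centralizer ({b₀} : Set G)).subtype_injective).exists_le_sylow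
    obtain ⟨c, hc⟩ := MulAction.exists_smul_eq (centralizer ({b₀} : Set G)) P' P
    have hconj : ∀ y (hy : y ∈ (centralizer ({b₀} : Set G))), y ∈ S → y ^ p = 1 → (c : G) * y * (c : G)⁻¹ ∈ B := by
      intro y hy hyS hyp
      refine hin (c * ⟨y, hy⟩ * c⁻¹) ?_ ?_
      · rw [← hc]
        have h1 : (⟨y, hy⟩ : (centralizer ({b₀} : Set G))) ∈ (P' : Subgroup (centralizer ({b₀} : Set G))) := hP' hyS
        have h2 := Subgroup.smul_mem_pointwise_smul (⟨y, hy⟩ : (centralizer ({b₀} : Set G))) (MulAut.conj c) _ h1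
        exact h2
      · show ((c : G) * y * (c : G)⁻¹) ^ p = 1
        rw [conj_pow, hyp, mul_one, mul_inv_cancel]
    have hcB : B.map (MulAut.conj (c : G)).toMonoidHom = B := by
      refine eq_of_le_of_card_ge ?_ (card_map_of_injective (MulAut.conj (c : G)).injective).ge
      rintro _ ⟨y, hy, rfl⟩
      exact hconj y (hBb hy) (hBS hy) (hB.2 y hy)
    have h1 : (c : G) * x * (c : G)⁻¹ ∈ B.map (MulAut.conj (c : G)).toMonoidHom :=
      hcB.symm ▸ hconj x (hSC hx) hx hxp
    obtain ⟨y, hy, hye⟩ := h1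
    rw [show x = y from ((MulAut.conj (c : G)).injective hye).symm]
    exact hy
  set N := Cfsg.pPrimeCore p G with hN
  set f := QuotientGroup.mk' N with hf
  have hfs : Function.Surjective f := QuotientGroup.mk'_surjective N
  have hker : f.ker = N := QuotientGroup.ker_mk' N
  have hker' : (Nat.card f.ker).Coprime p := by rw [hker]; exact Core.coprime_card_pPrimeCore
  have hinj : ∀ S : Subgroup G, IsPGroup p S → ∀ x ∈ S, f x = 1 → x = 1 := fun S hS x hx h => by
    refine mem_bot.mp ((OddLocal.inf_pPrimeCore_eq_bot hS).le ⟨hx, ?_⟩)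
    exact hker.le (MonoidHom.mem_ker.mpr h)
  suffices h : Q.map f = ⊥ by
    rwa [Subgroup.map_eq_bot_iff, hker] at h
  refine eq_bot_of_core_bot hp
    (Layer.pCoreSelfCentral_of_isPSolvable (Layer.isPSolvable_of_surjective hG hfs)
      Core.pPrimeCore_quotient_eq_bot) (B.map f) ⟨?_, ?_⟩ ?_ (f b₀) (mem_map_of_mem f hb₀) ?_ ?_ _ ?_ ?_
  · exact ⟨⟨by rintro ⟨_, x, hx, rfl⟩ ⟨_, y, hy, rfl⟩; exact Subtype.ext (by
      show f x * f y = f y * f x
      rw [← map_mul, ← map_mul]; exact congrArg f (congrArg Subtype.val (hB.1.is_comm.comm (⟨x, hx⟩ : B) ⟨y, hy⟩)))⟩⟩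
  · rintro _ ⟨x, hx, rfl⟩
    rw [← map_pow, hB.2 x hx, map_one]
  · refine le_antisymm ((Nat.le_of_dvd Nat.card_pos (card_map_dvd B f)).trans hBc.le) ?_
    rw [← hBc]
    refine Nat.card_le_card_of_injective (fun x : B => (⟨f x, mem_map_of_mem f x.2⟩ : B.map f))
      fun x y h => ?_
    have h1 : f ((x : G) * (y : G)⁻¹) = 1 := by
      rw [map_mul, map_inv, mul_inv_eq_one]; exact congrArg Subtype.val h
    exact Subtype.ext (mul_inv_eq_one.mp (hinj B hBp _ (B.mul_mem x.2 (B.inv_mem y.2)) h1))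
  · exact fun h => hb₁ (hinj B hBp b₀ hb₀ h)
  · intro S hS hBS hSC x hx hxp
    have hz : (centralizer (zpowers b₀ : Set G)).map f = centralizer (((zpowers b₀).map f : Subgroup (G ⧸ N)) : Set (G ⧸ N)) :=
      Layer.map_centralizer_of_coprime hfs hker' (IsPGroup.of_card (n := 1) (by
        rw [Nat.card_zpowers, orderOf_eq_prime (hB.2 b₀ hb₀) hb₁, pow_one]))
    rw [MonoidHom.map_zpowers, FixedPointFree.centralizer_zpowers, FixedPointFree.centralizer_zpowers] at hz
    set K := S.comap f ⊓ (centralizer ({b₀} : Set G)) with hK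
    have hBK : B ≤ K := le_inf (map_le_iff_le_comap.mp hBS) hBb
    obtain ⟨T, hT⟩ := (hBp.comap_of_injective K.subtype K.subtype_injective).exists_le_sylow
    set T' := (T : Subgroup K).map K.subtype
    have hKS : K.map f = S := by
      refine le_antisymm (le_trans (map_mono inf_le_left) (map_comap_le _ _)) fun y hy => ?_
      obtain ⟨g, hg, hgy⟩ := hz.ge (hSC hy)
      exact ⟨g, ⟨show f g ∈ S from hgy ▸ hy, hg⟩, hgy⟩
    let g : K →* S := MonoidHom.codRestrict (f.comp K.subtype) S fun k => hKS.le (mem_map_of_mem f k.2)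
    have hgs : Function.Surjective g := fun y => by
      obtain ⟨k, hk, hke⟩ := hKS.ge y.2
      exact ⟨⟨k, hk⟩, Subtype.ext hke⟩
    have htop : (T.mapSurjective hgs : Subgroup S) = ⊤ :=
      ((T.mapSurjective hgs).is_maximal' (hS.to_subgroup ⊤) le_top).symm
    obtain ⟨t, ht, hte⟩ := htop.ge (mem_top (⟨x, hx⟩ : S))
    have hte' : f (t : G) = x := congrArg Subtype.val hte
    have htp : (t : G) ^ p = 1 := hinj T' (T.2.map _) _ (pow_mem (show (t : G) ∈ T' from ⟨t, ht, rfl⟩) p)
      (by rw [map_pow, hte', hxp])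
    refine ⟨t, hH0 T' (T.2.map _) ?_ ?_ _ ⟨t, ht, rfl⟩ htp, hte'⟩
    · intro y hy
      exact ⟨⟨y, hBK hy⟩, hT hy, rfl⟩
    · exact (map_subtype_le _).trans inf_le_right
  · exact ((hpp.coprime_iff_not_dvd.mpr hQ).symm).coprime_dvd_left (card_map_dvd Q f)
  · rintro _ ⟨y, hy, rfl⟩
    refine (le_normalizer_map (H := Q) f) (mem_map_of_mem f (mem_normalizer_iff.mpr fun x => ⟨hinv y hy x, fun hx => ?_⟩))
    simpa [mul_assoc] using hinv y⁻¹ (B.inv_mem hy) _ hx

end Cfsg.Agent.S1902
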