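import Cfsg.Statements.S1903
import Cfsg.Agent.Ord320.Derive
import Cfsg.Agent.Ord320.Target
-- import your own Cfsg.Agent.* helpers here

set_option autoImplicit false
open Cfsg

namespace Cfsg.Agent.S1903

/-- A finite group of order 320 whose derived subgroup has order 64 and has centre a Klein four-group is isomorphic to the centralizer of an involution in PSU₃(4). -/
theorem result {G : Type*} [Group G] [Finite G] (hG : Nat.card G = 320) (hD : Nat.card (commutator G) = 64)
    (hZ : IsKleinFour (Subgroup.center (commutator G)))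
    {F : Type*} [Field F] [Fintype F] (hF : Fintype.card F = 16) :
    ∃ t : Cfsg.PSU 3 F 4, orderOf t = 2 ∧ Nonempty (G ≃* Subgroup.centralizer ({t} : Set (Cfsg.PSU 3 F 4))) := by
  let e : Cfsg.Agent.U34.F16 ≃+* F :=
    FiniteField.ringEquivOfCardEq (Cfsg.Agent.U34.F16.card.trans hF.symm)
  let π : Cfsg.PSU 3 F 4 ≃* Cfsg.SU 3 Cfsg.Agent.U34.F16 4 :=
    (Cfsg.Agent.U34.psuEquiv hF).trans (Cfsg.Agent.U34.mapSU 3 4 e).symm
  obtain ⟨-, -, -, -, -, -, -, -, -, -, -, -, -, -, t2, t1⟩ := Cfsg.Agent.Ord320.rels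
  obtain ⟨a, u, c1, c2, hr, ht⟩ := Cfsg.Agent.Ord320.exists_rel hG hD hZ
  obtain ⟨a', u', d1, d2, hr', ht'⟩ := Cfsg.Agent.Ord320.exists_rel_K
  obtain ⟨hK, hK'⟩ := Cfsg.Agent.Ord320.K_eq
  have : Fact (Nat.Prime 2) := ⟨Nat.prime_two⟩
  refine ⟨π.symm Cfsg.Agent.Ord320.sT, ?_, ?_⟩
  · rw [π.symm.orderOf_eq]
    exact orderOf_eq_prime (by rw [pow_two]; exact t2) t1
  · obtain ⟨φ⟩ := Cfsg.Agent.Ord320.nonempty_equiv hr hr' hG hK' ht ht'
    refine ⟨φ.trans ((MulEquiv.subgroupCongr hK).trans ((π.symm.subgroupMap _).trans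
      (MulEquiv.subgroupCongr ?_)))⟩
    ext x
    simp only [Subgroup.mem_map, Subgroup.mem_centralizer_singleton_iff]
    constructor
    · rintro ⟨y, hy, rfl⟩
      exact (map_mul π.symm _ _).symm.trans ((congrArg π.symm hy).trans (map_mul π.symm _ _))
    · intro hx
      refine ⟨π x, ?_, π.symm_apply_apply x⟩
      have := congrArg π hx
      simpa using this

end Cfsg.Agent.S1903
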