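import Cfsg.Statements.S1904
import Cfsg.Agent.OddAutTwo.Main
-- import your own Cfsg.Agent.* helpers here

set_option autoImplicit false
open Cfsg

namespace Cfsg.Agent.S1904

/-- Let X be a finite nonabelian 2-group with no normal abelian subgroup that is self-centralizing and contains an elementary abelian subgroup of order 8. Suppose a group A of automorphisms of X of odd order satisfies [X, A] = X. Then X is the quaternion group of order 8, or X is special of order 64 with exactly three involutions, all central, or X is extraspecial of order 32 with exactly eleven involutions (the central product of a quaternion group and a dihedral group of order 8). -/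
theorem result {X : Type*} [Group X] [Finite X] (hX : IsPGroup 2 X) (hna : ¬ IsMulCommutative X)
    (hscn : ¬ ∃ A : Subgroup X, A.Normal ∧ Subgroup.centralizer (A : Set X) = A ∧
      ∃ E : Subgroup X, E ≤ A ∧ Cfsg.IsElementaryAbelian 2 E ∧ Nat.card E = 8)
    (A : Subgroup (MulAut X)) (hA : Odd (Nat.card A))
    (hXA : Subgroup.closure {g : X | ∃ φ ∈ A, ∃ x : X, g = x⁻¹ * φ x} = ⊤) :
    Nonempty (X ≃* QuaternionGroup 2) ∨
      (Cfsg.IsSpecial 2 X ∧ Nat.card X = 64 ∧ Nat.card {x : X // orderOf x = 2} = 3 ∧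
        ∀ x : X, orderOf x = 2 → x ∈ Subgroup.center X) ∨
      (Cfsg.IsExtraspecial 2 X ∧ Nat.card X = 32 ∧ Nat.card {x : X // orderOf x = 2} = 11) := by
  have : Fact (Nat.Prime 2) := ⟨Nat.prime_two⟩
  refine Cfsg.Agent.OddAutTwo.Data.classification ⟨A, hX, hA, hXA, fun E hEn hE => ?_⟩ hna
  by_contra hlt
  have hEc : IsMulCommutative E := ⟨⟨fun u v => Subtype.ext
    (Cfsg.Agent.OddAutTwo.comm_of_exp_two hE u.2 v.2)⟩⟩
  obtain ⟨M, hEM, hMn, hMc, hmax⟩ := Cfsg.Agent.Fusion.exists_maximal_normal_abelian E hEc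
  refine hscn ⟨M, hMn, Cfsg.Agent.Fusion.centralizer_eq_of_maximal_normal_abelian hX M hMc hmax, ?_⟩
  obtain ⟨k, hk⟩ := IsPGroup.iff_card.mp (hX.to_subgroup E)
  have hk3 : 2 ^ 3 ∣ Nat.card E := by
    rw [hk] at hlt ⊢
    refine pow_dvd_pow 2 ?_
    by_contra h
    exact hlt ((Nat.pow_le_pow_right (by norm_num) (show k ≤ 2 by omega)).trans (by norm_num))
  obtain ⟨K, hK⟩ := Sylow.exists_subgroup_card_pow_prime (G := E) 2 hk3
  refine ⟨K.map E.subtype, (Subgroup.map_subtype_le K).trans hEM, ⟨?_, ?_⟩, ?_⟩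
  · exact ⟨⟨fun u v => Subtype.ext (Cfsg.Agent.OddAutTwo.comm_of_exp_two hE
      (Subgroup.map_subtype_le K u.2) (Subgroup.map_subtype_le K v.2))⟩⟩
  · intro a ha
    rw [pow_two]
    exact hE a (Subgroup.map_subtype_le K ha)
  · rw [Subgroup.card_map_of_injective E.subtype_injective, hK]
    norm_num

end Cfsg.Agent.S1904
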