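import Cfsg.Statements.S1905
import Cfsg.Agent.Invol.SEPairs
import Cfsg.Agent.Invol.StronglyEmbedded

set_option autoImplicit false
open Cfsg

namespace Cfsg.Agent.S1905

open Subgroup in
theorem exists_isConj_of_centralizers {S : Type*} [Group S] [Finite S] {M : Subgroup S}
    (hC : ∀ i ∈ M, orderOf i = 2 → Subgroup.centralizer ({i} : Set S) ≤ M)
    {t u : S} (ht : orderOf t = 2) (htM : t ∈ M) (hu : orderOf u = 2) (huM : u ∉ M) : IsConj t u := by
  refine Invol.isConj_of_odd ht hu ?_
  by_contra h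
  rw [Nat.not_odd_iff_even] at h
  refine huM (hC _ (hC t htM ht ?_) (Invol.orderOf_central h (orderOf_pos _)) ?_)
  · exact mem_centralizer_singleton_iff.mpr (Invol.commute_central ht hu h).eq
  · exact mem_centralizer_singleton_iff.mpr (Invol.commute_central' ht hu h).eq.symm

open Subgroup in
theorem stronglyEmbedded_of {S : Type*} [Group S] [Finite S] {M : Subgroup S} (hne : M ≠ ⊤)
    (hM : Even (Nat.card M))
    (hC : ∀ i ∈ M, orderOf i = 2 → Subgroup.centralizer ({i} : Set S) ≤ M) (X : Sylow 2 M)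
    (hN : Subgroup.normalizer (((X : Subgroup M).map M.subtype : Subgroup S) : Set S) ≤ M) :
    Cfsg.IsStronglyEmbedded M := by
  haveI : Fact (Nat.Prime 2) := ⟨Nat.prime_two⟩
  refine (Invol.se_iff M).mpr ⟨hne, hM, fun x g hx hxM hxg => ?_⟩
  set M' := M.map (MulAut.conj g).toMonoidHom with hM'
  have hC' : ∀ i ∈ M', orderOf i = 2 → centralizer ({i} : Set S) ≤ M' := by
    intro i hi ho c hc
    rw [hM', Invol.mem_map_conj_iff] at hi ⊢
    refine hC _ hi ?_ (mem_centralizer_singleton_iff.mpr ?_)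
    · rw [show g⁻¹ * i * g = MulAut.conj g⁻¹ i by simp, MulEquiv.orderOf_eq, ho]
    · have := mem_centralizer_singleton_iff.mp hc
      calc g⁻¹ * c * g * (g⁻¹ * i * g) = g⁻¹ * (c * i) * g := by group
        _ = g⁻¹ * (i * c) * g := by rw [this]
        _ = g⁻¹ * i * g * (g⁻¹ * c * g) := by group
  set D := M ⊓ M' with hD
  have hxD : x ∈ D := ⟨hxM, Invol.mem_map_conj_iff.mpr hxg⟩
  obtain ⟨P0, hP0⟩ := IsPGroup.exists_le_sylow (G := D) (P := Subgroup.zpowers (⟨x, hxD⟩ : D))
    (IsPGroup.of_card (n := 1) (by rw [Nat.card_zpowers, Subgroup.orderOf_mk, hx, pow_one]))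
  set P := (P0 : Subgroup D).map D.subtype with hP
  have hPp : IsPGroup 2 P := P0.isPGroup'.map _
  have hxP : x ∈ P := ⟨⟨x, hxD⟩, hP0 (mem_zpowers _), rfl⟩
  have hPD : P ≤ D := map_subtype_le _
  have hmax : ∀ R : Subgroup S, IsPGroup 2 R → P ≤ R → R ≤ D → R = P := by
    intro R hR hPR hRD
    refine le_antisymm (fun r hr => ?_) hPR
    have h1 := P0.is_maximal' (Q := R.subgroupOf D)
      (hR.comap_of_injective _ D.subtype_injective) (fun q hq => hPR (mem_map_of_mem _ hq))
    exact ⟨⟨r, hRD hr⟩, (h1 ▸ (show (⟨r, hRD hr⟩ : D) ∈ R.subgroupOf D from hr)), rfl⟩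
  obtain ⟨P1, hP1⟩ := IsPGroup.exists_le_sylow (G := M) (P := P.subgroupOf M)
    (hPp.comap_of_injective _ M.subtype_injective)
  set Q := (P1 : Subgroup M).map M.subtype with hQ
  have hQp : IsPGroup 2 Q := P1.isPGroup'.map _
  have hPQ : P ≤ Q := fun p hp => ⟨⟨p, (hPD hp).1⟩, hP1 hp, rfl⟩
  haveI : Nontrivial Q := by
    refine (nontrivial_iff_ne_bot Q).mpr fun h => ?_
    have := hPQ hxP
    rw [h, mem_bot] at this
    rw [this, orderOf_one] at hx
    omega
  have hQc : (center Q).map Q.subtype ≠ ⊥ := by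
    intro h
    rw [map_eq_bot_iff_of_injective _ Q.subtype_injective] at h
    exact (nontrivial_iff_ne_bot _).mp hQp.center_nontrivial h
  obtain ⟨t, htZ, ht⟩ := Invol.exists_involution_of_ne_bot
    ((hQp.to_subgroup (center Q)).map Q.subtype) hQc
  obtain ⟨⟨t', ht'Q⟩, htc, rfl⟩ := htZ
  have htcom : ∀ q ∈ Q, q * t' = t' * q := fun q hq =>
    congrArg Subtype.val (mem_center_iff.mp htc ⟨q, hq⟩)
  have htD : t' ∈ D := ⟨map_subtype_le _ ht'Q, hC' x hxD.2 hx
    (mem_centralizer_singleton_iff.mpr (htcom x (hPQ hxP)).symm)⟩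
  have htP : t' ∈ P := by
    have h := hmax (P ⊔ zpowers t') (hQp.to_le (sup_le hPQ (zpowers_le.mpr ht'Q))) le_sup_left
      (sup_le hPD (zpowers_le.mpr htD))
    exact h ▸ mem_sup_right (mem_zpowers t')
  have hQD : Q ≤ D := le_inf (map_subtype_le _) fun q hq =>
    hC' t' htD.2 ht (mem_centralizer_singleton_iff.mpr (htcom q hq))
  have hQP : Q = P := hmax Q hQp hPQ hQD
  -- `g⁻¹Qg` is a Sylow subgroup of `M`
  set R := Q.map (MulAut.conj g⁻¹).toMonoidHom with hR
  have hRM : R ≤ M := by
    rintro _ ⟨q, hq, rfl⟩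
    simpa using Invol.mem_map_conj_iff.mp (hQD hq).2
  have hcard : Nat.card (R.subgroupOf M) = Nat.card (P1 : Subgroup M) := by
    rw [Nat.card_congr (subgroupOfEquivOfLe hRM).toEquiv, hR,
      card_map_of_injective (MulAut.conj g⁻¹).injective, hQ,
      card_map_of_injective M.subtype_injective]
  let P2 : Sylow 2 M := Sylow.ofCard (R.subgroupOf M) (by rw [hcard, P1.card_eq_multiplicity])
  obtain ⟨m, hm⟩ := MulAction.exists_smul_eq M P2 P1
  have hm' : (R.subgroupOf M).map (MulAut.conj m).toMonoidHom = (P1 : Subgroup M) := by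
    rw [← hm]; rfl
  have hNQ : normalizer (Q : Set S) ≤ M := by
    obtain ⟨c, hc⟩ := MulAction.exists_smul_eq M X P1
    have hc' : (X : Subgroup M).map (MulAut.conj c).toMonoidHom = (P1 : Subgroup M) := by
      rw [← hc]; rfl
    intro n hn
    have hn' : (c : S)⁻¹ * n * c ∈ M := by
      refine hN (mem_normalizer_iff_map_conj_eq.mpr ?_)
      have hXQ : ((X : Subgroup M).map M.subtype).map (MulAut.conj (c : S)).toMonoidHom = Q := by
        rw [hQ, ← hc', map_map, map_map]; rfl
      have hQn := mem_normalizer_iff_map_conj_eq.mp hn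
      have hcomp : ((MulAut.conj ((c : S)⁻¹ * n * c)).toMonoidHom : S →* S) =
          ((MulAut.conj (c : S)⁻¹).toMonoidHom.comp (MulAut.conj n).toMonoidHom).comp
            (MulAut.conj (c : S)).toMonoidHom := by ext y; simp [mul_assoc]
      show ((X : Subgroup M).map M.subtype).map
        ((MulAut.conj ((c : S)⁻¹ * n * c)).toMonoidHom) = (X : Subgroup M).map M.subtype
      rw [hcomp, ← map_map, hXQ, ← map_map]
      refine Eq.trans (congrArg (Subgroup.map _) hQn) ?_
      rw [← hXQ, map_map]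
      convert map_id _
      ext y; simp [mul_assoc]
    have := M.mul_mem (M.mul_mem c.2 hn') (M.inv_mem c.2)
    simpa [mul_assoc] using this
  have hmg : (m : S) * g⁻¹ ∈ normalizer (Q : Set S) := by
    refine mem_normalizer_iff_map_conj_eq.mpr ?_
    have h2 := congrArg (Subgroup.map M.subtype) hm'
    rw [← hQ, map_map,
      show M.subtype.comp (MulAut.conj m).toMonoidHom =
        (MulAut.conj (m : S)).toMonoidHom.comp M.subtype from rfl,
      ← map_map, map_subgroupOf_eq_of_le hRM, hR, map_map] at h2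
    refine Eq.trans ?_ h2
    congr 1
    ext y; simp [mul_assoc]
  have := M.mul_mem (M.inv_mem m.2) (hNQ hmg)
  simpa using this

/-- Let M be a subgroup of even order of a finite group S such that M contains the centralizer in S of each of its involutions and the normal core of M in S has odd order. Then all involutions of S are conjugate. If moreover N_S(X) ≤ M for a Sylow 2-subgroup X of M and I is an involution in the centre of X, then all involutions of M are conjugate in M and M = M₀ C_M(I) for some subgroup M₀ of M of odd order. -/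
theorem result {S : Type*} [Group S] [Finite S] (M : Subgroup S) (hM : Even (Nat.card M))
    (hC : ∀ i ∈ M, orderOf i = 2 → Subgroup.centralizer ({i} : Set S) ≤ M) (hcore : Odd (Nat.card M.normalCore)) :
    (∀ x y : S, orderOf x = 2 → orderOf y = 2 → IsConj x y) ∧
      ∀ (X : Sylow 2 M) (I : M), I ∈ (Subgroup.center ↥(X : Subgroup ↥M)).map (X : Subgroup ↥M).subtype → orderOf I = 2 →
        Subgroup.normalizer (((X : Subgroup M).map M.subtype : Subgroup S) : Set S) ≤ M →
        (∀ x y : M, orderOf x = 2 → orderOf y = 2 → IsConj x y) ∧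
          ∃ M₀ : Subgroup M, Odd (Nat.card M₀) ∧
            ∀ m : M, ∃ a ∈ M₀, ∃ c ∈ Subgroup.centralizer ({I} : Set M), m = a * c := by
  haveI : Fact (Nat.Prime 2) := ⟨Nat.prime_two⟩
  obtain ⟨t0, ht0⟩ := exists_prime_orderOf_dvd_card' (G := M) 2 (even_iff_two_dvd.mp hM)
  rw [← Subgroup.orderOf_coe] at ht0
  have hout : ∃ u : S, orderOf u = 2 ∧ u ∉ M := by
    by_contra! h
    have hle : Subgroup.normalClosure ({(t0 : S)} : Set S) ≤ M := by
      refine (Subgroup.closure_le _).mpr fun y hy => ?_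
      obtain ⟨b, hb, hby⟩ := Group.mem_conjugatesOfSet_iff.mp hy
      obtain ⟨g, rfl⟩ := isConj_iff.mp hby
      rw [Set.mem_singleton_iff] at hb
      subst hb
      exact h _ (by rw [show g * (t0 : S) * g⁻¹ = MulAut.conj g (t0 : S) from rfl,
        MulEquiv.orderOf_eq, ht0])
    have hmem : (t0 : S) ∈ M.normalCore :=
      (Subgroup.normal_le_normalCore.mpr hle) (Subgroup.subset_normalClosure rfl)
    have := Subgroup.orderOf_dvd_natCard M.normalCore hmem
    rw [ht0] at this
    exact Nat.not_even_iff_odd.mpr hcore (even_iff_two_dvd.mpr this)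
  obtain ⟨u, hu, huM⟩ := hout
  constructor
  · intro x y hx hy
    by_cases hxM : x ∈ M <;> by_cases hyM : y ∈ M
    · exact (exists_isConj_of_centralizers hC hx hxM hu huM).trans
        (exists_isConj_of_centralizers hC hy hyM hu huM).symm
    · exact exists_isConj_of_centralizers hC hx hxM hy hyM
    · exact (exists_isConj_of_centralizers hC hy hyM hx hxM).symm
    · exact (exists_isConj_of_centralizers hC ht0 t0.2 hx hxM).symm.trans
        (exists_isConj_of_centralizers hC ht0 t0.2 hy hyM)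
  · intro X I _ hI hN
    have hne : M ≠ ⊤ := fun h => huM (h ▸ Subgroup.mem_top u)
    have hse := stronglyEmbedded_of hne hM hC X hN
    have hDodd : Odd (Nat.card ↥(M ⊓ M.map (MulAut.conj u).toMonoidHom)) := hse.2.2 u huM
    have htr : ∀ x y : M, orderOf x = 2 → orderOf y = 2 →
        ∃ d : M, (d : S) ∈ M ⊓ M.map (MulAut.conj u).toMonoidHom ∧ d * x * d⁻¹ = y := by
      intro x y hx hy
      obtain ⟨d, hd, hdx⟩ := Invol.se_inter_transitive hse hu huM
        ((Subgroup.orderOf_coe x).trans hx) x.2 ((Subgroup.orderOf_coe y).trans hy) y.2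
      exact ⟨⟨d, hd.1⟩, hd, Subtype.ext hdx⟩
    refine ⟨fun x y hx hy => ?_, (M ⊓ M.map (MulAut.conj u).toMonoidHom).subgroupOf M, ?_, fun m => ?_⟩
    · obtain ⟨d, -, hd⟩ := htr x y hx hy
      exact isConj_iff.mpr ⟨d, hd⟩
    · rwa [Nat.card_congr (Subgroup.subgroupOfEquivOfLe inf_le_left).toEquiv]
    · obtain ⟨d, hd, hdI⟩ := htr I (m * I * m⁻¹) hI (by
        rw [show m * I * m⁻¹ = MulAut.conj m I from rfl, MulEquiv.orderOf_eq, hI])
      refine ⟨d, hd, d⁻¹ * m, Subgroup.mem_centralizer_singleton_iff.mpr ?_, by group⟩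
      calc d⁻¹ * m * I = d⁻¹ * (m * I * m⁻¹) * m := by group
        _ = d⁻¹ * (d * I * d⁻¹) * m := by rw [hdI]
        _ = I * (d⁻¹ * m) := by group

end Cfsg.Agent.S1905
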