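import Cfsg.Statements.S1906
import Cfsg.Agent.NormalRank.SpRankBound
import Cfsg.Agent.Fusion.PGroup
-- import your own Cfsg.Agent.* helpers here

set_option autoImplicit false
set_option linter.style.haveILetI false
open Cfsg

namespace Cfsg.Agent.S1906

open Subgroup
open scoped Pointwise

variable {G : Type*} [Group G] [Finite G]

/-- parity of the fixed points of an involution -/
theorem odd_fixed {P α : Type*} [Group P] [MulAction P α] [Finite α] (hP : IsPGroup 2 P)
    (h : Odd (Nat.card α)) : Odd (Nat.card (MulAction.fixedPoints P α)) := by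
  haveI : Fact (Nat.Prime 2) := ⟨Nat.prime_two⟩
  have h1 := hP.card_modEq_card_fixedPoints α
  rw [Nat.odd_iff] at h ⊢
  exact (Eq.symm h1).trans h

/-- the transfer of a linear character at a central involution of a Sylow 2-subgroup -/
theorem transfer_ne_one (S : Subgroup G) (hS2 : IsPGroup 2 S) (hidx : Odd S.index) {A : Type*} [CommGroup A] (φ : S →* A)
    (z : S) (hz : ∀ y, Commute z y) (hz2 : z ^ 2 = 1) (m : A) (hm : m ≠ 1) (hm2 : m ^ 2 = 1)
    (hval : ∀ w : S, w ^ 2 = 1 → φ w = 1 ∨ φ w = m)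
    (hN : ∀ g ∈ normalizer (S : Set G), ∀ hg : g⁻¹ * z * g ∈ S,
      φ ⟨_, hg⟩ = m) :
    MonoidHom.transfer φ (z : G) ≠ 1 := by
  classical
  haveI : Fact (Nat.Prime 2) := ⟨Nat.prime_two⟩
  let : Fintype (Quotient (MulAction.orbitRel (zpowers (z : G)) (G ⧸ S))) := Fintype.ofFinite _
  have hzG : (z : G) ^ 2 = 1 := congrArg Subtype.val hz2
  let B : Set (G ⧸ S) := {c | ∃ hc : c.out⁻¹ * z * c.out ∈ S, φ ⟨_, hc⟩ = m}
  have hfixB : ∀ c ∈ B, (z : G) • c = c := by
    rintro c ⟨hc, -⟩
    conv_lhs => rw [← QuotientGroup.out_eq' c]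
    conv_rhs => rw [← QuotientGroup.out_eq' c]
    refine (QuotientGroup.eq.mpr ?_).symm
    show c.out⁻¹ * ((z : G) * c.out) ∈ S
    rw [← mul_assoc]; exact hc
  -- invariance under `S`
  have hBinv : ∀ x : S, ∀ c ∈ B, x • c ∈ B := by
    rintro x c ⟨hc, hcv⟩
    have hout : ((x • c : G ⧸ S)).out⁻¹ * ((x : G) * c.out) ∈ S := by
      refine QuotientGroup.eq.mp ?_
      rw [QuotientGroup.out_eq']
      conv_lhs => rw [← QuotientGroup.out_eq' c]
      rfl
    set o := ((x • c : G ⧸ S)).out with ho
    set s := o⁻¹ * ((x : G) * c.out) with hs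
    have e : o⁻¹ * z * o = s * (c.out⁻¹ * z * c.out) * s⁻¹ := by
      have hxz : (x : G)⁻¹ * z * x = z := by
        rw [mul_assoc, show (z : G) * x = x * z from congrArg Subtype.val (hz x).eq, inv_mul_cancel_left]
      have : o = (x : G) * c.out * s⁻¹ := by rw [hs]; group
      conv_lhs => rw [this]
      calc ((x : G) * c.out * s⁻¹)⁻¹ * z * ((x : G) * c.out * s⁻¹)
          = s * (c.out⁻¹ * ((x : G)⁻¹ * z * x) * c.out) * s⁻¹ := by group
        _ = _ := by rw [hxz]
    have hmem : o⁻¹ * z * o ∈ S := e ▸ mul_mem (mul_mem hout hc) (inv_mem hout)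
    refine ⟨hmem, ?_⟩
    rw [show (⟨o⁻¹ * z * o, hmem⟩ : S) = ⟨s, hout⟩ * ⟨_, hc⟩ * ⟨s, hout⟩⁻¹ from Subtype.ext e,
      map_mul, map_mul, map_inv, mul_inv_cancel_comm, hcv]
  -- the `S`-fixed points all lie in `B`
  have hfixS : ∀ c : G ⧸ S, c ∈ MulAction.fixedPoints S (G ⧸ S) → c ∈ B := by
    intro c hc
    have hn : c.out ∈ normalizer (S : Set G) :=
      (Sylow.mem_fixedPoints_mul_left_cosets_iff_mem_normalizer (H := S) (x := c.out)).mp (by
        rwa [QuotientGroup.out_eq'])
    have hmem : c.out⁻¹ * z * c.out ∈ S := (mem_normalizer_iff''.mp hn (z : G)).mp z.2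
    exact ⟨hmem, hN _ hn hmem⟩
  have hodd : Odd (Nat.card B) := by
    let act : MulAction S B :=
      { smul := fun x c => ⟨x • (c : G ⧸ S), hBinv x c c.2⟩
        one_smul := fun c => Subtype.ext (one_smul S (c : G ⧸ S))
        mul_smul := fun x y c => Subtype.ext (mul_smul x y (c : G ⧸ S)) }
    have hall : Odd (Nat.card (MulAction.fixedPoints S (G ⧸ S))) := by
      refine odd_fixed hS2 ?_
      rw [← index_eq_card]
      exact hidx
    have hBfix : Nat.card (MulAction.fixedPoints S B) = Nat.card (MulAction.fixedPoints S (G ⧸ S)) :=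
      Nat.card_congr
        { toFun := fun c => ⟨(c.1 : G ⧸ S), fun x => congrArg Subtype.val (c.2 x)⟩
          invFun := fun c => ⟨⟨c.1, hfixS c.1 c.2⟩, fun x => Subtype.ext (c.2 x)⟩
          left_inv := fun c => rfl
          right_inv := fun c => rfl }
    rw [Nat.odd_iff] at hall ⊢
    rw [← hBfix] at hall
    exact Eq.trans (hS2.card_modEq_card_fixedPoints B) hall
  -- value of the transfer
  have hterm : ∀ q : Quotient (MulAction.orbitRel (zpowers (z : G)) (G ⧸ S)),
      φ ⟨_, QuotientGroup.out_conj_pow_minimalPeriod_mem S (z : G) q.out⟩ =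
        if q.out ∈ B then m else 1 := by
    intro q
    have hmem := QuotientGroup.out_conj_pow_minimalPeriod_mem S (z : G) q.out
    have hd : Function.minimalPeriod ((z : G) • ·) q.out ∣ 2 := by
      apply Function.IsPeriodicPt.minimalPeriod_dvd
      simp only [Function.IsPeriodicPt, Function.IsFixedPt, smul_iterate, hzG, one_smul]
    rcases (Nat.dvd_prime Nat.prime_two).mp hd with h1 | h1
    · simp only [h1, pow_one] at hmem ⊢
      by_cases hB : q.out ∈ B
      · rw [if_pos hB]
        obtain ⟨hc, hv⟩ := hB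
        exact hv
      · rw [if_neg hB]
        refine (hval ⟨_, hmem⟩ (Subtype.ext ?_)).resolve_right fun h => hB ⟨hmem, h⟩
        show (q.out.out⁻¹ * (z : G) * q.out.out) ^ 2 = 1
        calc (q.out.out⁻¹ * (z : G) * q.out.out) ^ 2 = q.out.out⁻¹ * (z : G) ^ 2 * q.out.out := by
              simp [pow_two, mul_assoc]
          _ = 1 := by rw [hzG]; group
    · rw [if_neg fun hB => by
        have := Function.minimalPeriod_eq_one_iff_isFixedPt.mpr (show Function.IsFixedPt ((z : G) • ·) q.out from hfixB _ hB)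
        omega]
      rw [show (⟨_, QuotientGroup.out_conj_pow_minimalPeriod_mem S (z : G) q.out⟩ : S) = 1 from
        Subtype.ext (by simp [h1, hzG]), map_one]
  have hsing : ∀ c ∈ B, (Quotient.mk (MulAction.orbitRel (zpowers (z : G)) (G ⧸ S)) c).out = c := by
    intro c hc
    obtain ⟨y, hy⟩ := Quotient.mk_out (s := MulAction.orbitRel (zpowers (z : G)) (G ⧸ S)) c
    rw [← hy]
    have hst : (zpowers (z : G)) ≤ MulAction.stabilizer G c := zpowers_le.mpr (hfixB c hc)
    exact hst y.2
  have hcount : (Finset.univ.filter fun q : Quotient (MulAction.orbitRel (zpowers (z : G)) (G ⧸ S)) =>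
      q.out ∈ B).card = Nat.card B := by
    rw [← Fintype.card_subtype, ← Nat.card_eq_fintype_card]
    exact Nat.card_congr
      { toFun := fun q => ⟨q.1.out, q.2⟩
        invFun := fun c => ⟨Quotient.mk _ c.1, by rw [hsing c.1 c.2]; exact c.2⟩
        left_inv := fun q => Subtype.ext q.1.out_eq
        right_inv := fun c => Subtype.ext (hsing c.1 c.2) }
  rw [MonoidHom.transfer_eq_prod_quotient_orbitRel_zpowers_quot]
  simp only [hterm]
  rw [Finset.prod_ite, Finset.prod_const, Finset.prod_const_one, mul_one, hcount]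
  obtain ⟨r, hr⟩ := hodd
  rw [hr, pow_succ, pow_mul, hm2, one_pow, one_mul]
  exact hm

theorem main (hG : ∀ H : Subgroup G, H.index ≠ 2) (S : Subgroup G) (hS2 : IsPGroup 2 S) (hidx : Odd S.index)
    {F : Type*} [Field F] [Fintype F]
    (hF : Odd (Fintype.card F)) (f : ↥S →* GL (Fin 3) F) (hf : Function.Injective f)
    (E : Subgroup G) (hE : E ≤ S) (hEa : Cfsg.IsElementaryAbelian 2 E) (hE8 : Nat.card E = 8) :
    IsMulCommutative S := by
  classical
  haveI : Fact (Nat.Prime 2) := ⟨Nat.prime_two⟩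
  by_contra hna
  set E' : Subgroup S := E.subgroupOf S with hE'
  have hE'a : IsMulCommutative E' := ⟨⟨fun a b => by
    refine Subtype.ext (Subtype.ext ?_)
    show ((a : S) : G) * ((b : S) : G) = ((b : S) : G) * ((a : S) : G)
    exact congrArg Subtype.val (hEa.1.is_comm.comm (⟨((a : S) : G), a.2⟩ : E) ⟨((b : S) : G), b.2⟩)⟩⟩
  have h2 := Classical.two_ne_zero_of_odd (F := F) hF
  have hne : (-1 : F) ≠ 1 := fun h => h2 (by linear_combination -h)
  set toM : S →* Matrix (Fin 3) (Fin 3) F := (Units.coeHom _).comp f with htoM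
  have hinj : Function.Injective toM := Units.val_injective.comp hf
  obtain ⟨b, s, hs, hsb, hsd⟩ := NormalRank.exists_sign_map h2 toM hinj E' hE'a
    (fun a ha => Subtype.ext (hEa.2 _ ha))
  have hsbij : Function.Bijective s := hs.bijective_of_nat_card_le (by
    rw [show Nat.card E' = Nat.card E from Nat.card_congr (Subgroup.subgroupOfEquivOfLe hE).toEquiv, hE8]
    simp)
  have hdiag : ∀ x : S, (∀ a ∈ E', Commute a x) → ∀ i, ∃ c : F, (toM x).mulVec (b i) = c • b i := by
    intro x hx i
    refine ⟨b.repr ((toM x).mulVec (b i)) i, b.repr.injective (Finsupp.ext fun j => ?_)⟩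
    rw [map_smul, Module.Basis.repr_self, Finsupp.smul_apply, Finsupp.single_apply]
    by_cases hij : i = j
    · subst hij; simp
    rw [if_neg hij, smul_zero]
    obtain ⟨a, ha⟩ := hsbij.2 fun k => decide (k = i)
    have h1 : (toM a.1).mulVecLin ((toM x).mulVec (b i)) = (-1 : F) • (toM x).mulVec (b i) := by
      rw [Matrix.mulVecLin_apply, Matrix.mulVec_mulVec, ← map_mul, (hx _ a.2).eq, map_mul,
        ← Matrix.mulVec_mulVec, hsb, ha, Matrix.mulVec_smul]
      simp
    have h3 := congrArg (fun v => b.repr v j) h1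
    simp only [map_smul, Finsupp.smul_apply, smul_eq_mul] at h3
    conv_lhs at h3 => rw [← b.sum_repr ((toM x).mulVec (b i))]
    simp only [map_sum, map_smul, Matrix.mulVecLin_apply, hsb, ha, Finsupp.coe_finsetSum, Finset.sum_apply,
      Finsupp.smul_apply, Module.Basis.repr_self, Finsupp.single_apply, smul_eq_mul] at h3
    rw [Finset.sum_eq_single j (fun k _ hk => by simp [hk]) (fun h => absurd (Finset.mem_univ j) h)] at h3
    simp [Ne.symm hij] at h3
    have h4 : (2 : F) * b.repr ((toM x).mulVec (b i)) j = 0 := by linear_combination h3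
    exact (mul_eq_zero.mp h4).resolve_left h2
  have hext : ∀ x y : S, (∀ i, (toM x).mulVec (b i) = (toM y).mulVec (b i)) → x = y := fun x y h =>
    hinj (Matrix.toLin'.injective (b.ext fun i => by simpa only [Matrix.toLin'_apply] using h i))
  have hcomm : ∀ x y : S, (∀ a ∈ E', Commute a x) → (∀ a ∈ E', Commute a y) → Commute x y := by
    intro x y hx hy
    refine hext _ _ fun i => ?_
    obtain ⟨c, hc⟩ := hdiag x hx i
    obtain ⟨d, hd⟩ := hdiag y hy i
    rw [map_mul, map_mul, ← Matrix.mulVec_mulVec, ← Matrix.mulVec_mulVec, hc, hd, Matrix.mulVec_smul,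
      Matrix.mulVec_smul, hc, hd, smul_smul, smul_smul, mul_comm]
  have hmemE : ∀ w : S, w ^ 2 = 1 → (∀ a ∈ E', Commute a w) → w ∈ E' := by
    intro w hw hwc
    choose c hc using hdiag w hwc
    have hc2 : ∀ i, c i = 1 ∨ c i = -1 := by
      intro i
      have h1 : (c i * c i) • b i = (1 : F) • b i := by
        rw [← smul_smul, ← hc i, ← Matrix.mulVec_smul, ← hc i, Matrix.mulVec_mulVec, ← map_mul, ← pow_two,
          hw, map_one, Matrix.one_mulVec, one_smul]
      exact mul_self_eq_one_iff.mp (smul_left_injective F (b.ne_zero i) h1)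
    obtain ⟨a, ha⟩ := hsbij.2 fun i => decide (c i = -1)
    suffices w = a.1 from this ▸ a.2
    refine hext _ _ fun i => ?_
    rw [hsb, hc, ha]
    rcases hc2 i with h | h <;> simp [h, hne.symm]
  set lam : S →* Fˣ := Matrix.GeneralLinearGroup.det.comp f with hlam
  have hlamval : ∀ x : S, ((lam x : Fˣ) : F) = (toM x).det := fun x => rfl
  obtain ⟨z, hzs⟩ := hsbij.2 fun _ => true
  have hzm : ∀ v, (toM z.1).mulVec v = -v := fun v => by
    have : (toM z.1).mulVecLin = (-1 : Module.End F (Fin 3 → F)) := b.ext fun i => by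
      rw [Matrix.mulVecLin_apply, hsb, hzs]; simp
    simpa using LinearMap.congr_fun this v
  have hzc : ∀ y, Commute z.1 y := fun y => hext _ _ fun i => by
    rw [map_mul, map_mul, ← Matrix.mulVec_mulVec, ← Matrix.mulVec_mulVec, hzm, hzm, Matrix.mulVec_neg]
  have hz2 : z.1 ^ 2 = 1 := Subtype.ext (hEa.2 _ z.2)
  have hlz : lam z.1 = -1 := Units.ext (by
    rw [hlamval, hsd, hzs]; norm_num)
  have hlcomm : ∀ y ∈ _root_.commutator S, lam y = 1 := fun y hy =>
    Abelianization.commutator_subset_ker lam hy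
  -- a central involution in the commutator subgroup
  have hcne : _root_.commutator S ≠ ⊥ := fun h => hna ⟨⟨fun x y =>
    commutatorElement_eq_one_iff_mul_comm.mp (mem_bot.mp (h ▸ by
      rw [_root_.commutator_def]; exact commutator_mem_commutator (mem_top x) (mem_top y)))⟩⟩
  obtain ⟨⟨c, hc⟩, hco⟩ : ∃ c : ↥(_root_.commutator S ⊓ center S), orderOf c = 2 := by
    refine exists_prime_orderOf_dvd_card' 2 ?_
    haveI : Nontrivial ↥(_root_.commutator S ⊓ center S) :=
      (nontrivial_iff_ne_bot _).mpr (Fusion.pGroup_inf_center_ne_bot hS2 _ hcne)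
    exact (hS2.to_subgroup _).card_eq_or_dvd.resolve_left Finite.one_lt_card.ne'
  have hc2 : c ^ 2 = 1 := by
    have := congrArg Subtype.val (hco ▸ pow_orderOf_eq_one (⟨c, hc⟩ : ↥(_root_.commutator S ⊓ center S)))
    simpa using this
  have hc1 : c ≠ 1 := fun h => by
    subst h
    rw [show (⟨1, hc⟩ : ↥(_root_.commutator S ⊓ center S)) = 1 from rfl, orderOf_one] at hco
    exact absurd hco (by norm_num)
  have hcentE : ∀ w : S, w ^ 2 = 1 → (∀ y, Commute w y) → w ∈ E' := fun w hw hwc =>
    hmemE w hw fun a _ => (hwc a).symm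
  have hcc : ∀ y, Commute c y := fun y => (mem_center_iff.mp hc.2 y).symm
  have hm1 : (-1 : Fˣ) ≠ 1 := fun h => hne (by simpa using congrArg Units.val h)
  have hcentral : ∀ w : S, w ^ 2 = 1 → (∀ y, Commute w y) → w ∉ _root_.commutator S →
      w = z.1 ∨ w = z.1 * c := by
    intro w hw hwc hwX
    by_contra hcon
    push Not at hcon
    -- otherwise `E` would be central
    have hw1 : w ≠ 1 := fun h => hwX (h ▸ one_mem _)
    have hwc1 : w ≠ c := fun h => hwX (h ▸ hc.1)
    let T : Subgroup S := center S ⊓ E'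
    have hzT : z.1 ∈ T := ⟨mem_center_iff.mpr fun y => (hzc y).eq.symm, z.2⟩
    have hcT : c ∈ T := ⟨hc.2, hcentE c hc2 hcc⟩
    have hwT : w ∈ T := ⟨mem_center_iff.mpr fun y => (hwc y).eq.symm, hcentE w hw hwc⟩
    have hz1 : z.1 ≠ 1 := fun h => hm1 (by rw [← hlz, h, map_one])
    have hzc1 : z.1 ≠ c := fun h => hm1 (by rw [← hlz, h, hlcomm c hc.1])
    have hzcc : z.1 * c ≠ 1 := fun h => hzc1 (by
      rw [eq_inv_of_mul_eq_one_left h]; exact inv_eq_of_mul_eq_one_right (by rwa [← pow_two]))
    have hsub : ({1, c, z.1, z.1 * c, w} : Finset S) ⊆ (Set.toFinite (T : Set S)).toFinset := by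
      intro y hy
      simp only [Finset.mem_insert, Finset.mem_singleton] at hy
      rw [Set.Finite.mem_toFinset]
      rcases hy with rfl | rfl | rfl | rfl | rfl
      exacts [one_mem T, hcT, hzT, mul_mem hzT hcT, hwT]
    have h5 : 5 ≤ Nat.card T := by
      refine le_trans (le_of_eq ?_) ((Finset.card_le_card hsub).trans (le_of_eq ?_))
      · simp [hc1.symm, hz1.symm, hzcc.symm, hw1.symm, hzc1.symm, hwc1.symm, Ne.symm hcon.1, Ne.symm hcon.2, hz1, hc1]
      · rw [← Set.ncard_eq_toFinset_card]; rfl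
    have hE'8 : Nat.card E' = 8 := by rw [Nat.card_congr (Subgroup.subgroupOfEquivOfLe hE).toEquiv, hE8]
    have hTE : T = E' := by
      refine eq_of_le_of_card_ge inf_le_right ?_
      have hd : Nat.card T ∣ 8 := hE'8 ▸ card_dvd_of_le inf_le_right
      rcases (Nat.dvd_prime_pow Nat.prime_two).mp (show Nat.card T ∣ 2 ^ 3 from hd) with ⟨k, hk, e⟩
      interval_cases k <;> omega
    refine hna ⟨⟨fun x y => (hcomm x y (fun a ha => ?_) fun a ha => ?_).eq⟩⟩
    · exact (mem_center_iff.mp (hTE.ge ha).1 x).symm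
    · exact (mem_center_iff.mp (hTE.ge ha).1 y).symm
  have hval : ∀ w : S, w ^ 2 = 1 → lam w = 1 ∨ lam w = -1 := fun w hw => by
    have : ((lam w : Fˣ) : F) * ((lam w : Fˣ) : F) = 1 := by
      rw [← Units.val_mul, ← map_mul, ← pow_two, hw, map_one, Units.val_one]
    rcases mul_self_eq_one_iff.mp this with h | h
    exacts [Or.inl (Units.ext h), Or.inr (Units.ext (by rw [h]; simp))]
  have hV := transfer_ne_one S hS2 (hidx) lam z.1 hzc hz2 (-1) hm1 (by simp) hval (by
    intro g hg hmem
    set w : S := ⟨_, hmem⟩ with hw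
    let ψ : S ≃* S :=
      { toFun := fun y => ⟨g * y * g⁻¹, (mem_normalizer_iff.mp hg _).mp y.2⟩
        invFun := fun y => ⟨g⁻¹ * y * g, (mem_normalizer_iff''.mp hg _).mp y.2⟩
        left_inv := fun y => Subtype.ext (by show g⁻¹ * (g * (y : G) * g⁻¹) * g = y; group)
        right_inv := fun y => Subtype.ext (by show g * (g⁻¹ * (y : G) * g) * g⁻¹ = y; group)
        map_mul' := fun y y' => Subtype.ext (by simp [mul_assoc]) }
    have hwψ : w = ψ.symm z.1 := rfl
    have hw2 : w ^ 2 = 1 := by rw [hwψ, ← map_pow, hz2, map_one]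
    have hwc : ∀ y, Commute w y := fun y => by
      have := (hzc (ψ y)).map ψ.symm
      rwa [ψ.symm_apply_apply, ← hwψ] at this
    have hwX : w ∉ _root_.commutator S := fun h => by
      have h1 : w ∈ (_root_.commutator S).comap ψ.toMonoidHom := by
        rw [(inferInstance : (_root_.commutator S).Characteristic).fixed ψ]; exact h
      replace h1 : ψ w ∈ _root_.commutator S := h1
      rw [hwψ, ψ.apply_symm_apply] at h1
      exact hm1 (by rw [← hlz, hlcomm _ h1])
    rcases hcentral w hw2 hwc hwX with h | h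
    · rw [h, hlz]
    · rw [h, map_mul, hlz, hlcomm c hc.1, mul_one])
  -- contradiction with the absence of subgroups of index two
  set τ := MonoidHom.transfer lam with hτ
  have hzG : orderOf (τ (z.1 : G)) = 2 := orderOf_eq_prime (by
    rw [← map_pow, show ((z.1 : S) : G) ^ 2 = 1 from congrArg Subtype.val hz2, map_one]) hV
  have h2d : 2 ∣ Nat.card τ.range := by
    rw [← hzG]
    exact τ.range.orderOf_dvd_natCard ⟨_, rfl⟩
  haveI : IsCyclic τ.range := inferInstance
  obtain ⟨r, hr⟩ := IsCyclic.exists_generator (α := τ.range)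
  let K : Subgroup τ.range := zpowers (r ^ 2)
  have hK : K.index = 2 := by
    have h1 := K.card_mul_index
    have hro : orderOf r = Nat.card τ.range := orderOf_eq_card_of_forall_mem_zpowers hr
    rw [Nat.card_zpowers, orderOf_pow_of_dvd two_ne_zero (hro ▸ h2d), hro] at h1
    obtain ⟨t, ht⟩ := h2d
    rw [ht, Nat.mul_div_cancel_left _ two_pos] at h1
    have htpos : 0 < t := by
      have : 0 < Nat.card τ.range := Nat.card_pos
      omega
    exact Nat.eq_of_mul_eq_mul_left htpos (h1.trans (mul_comm 2 t))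
  exact hG (K.comap τ.rangeRestrict) (by
    rw [index_comap_of_surjective _ τ.rangeRestrict_surjective, hK])

/-- Let G be a finite group with no subgroup of index 2 whose Sylow 2-subgroup X embeds in GL₃(F) for a finite field F of odd order. If X contains an elementary abelian subgroup of order 8, then X is abelian. -/
theorem result {G : Type*} [Group G] [Finite G] (hG : ∀ H : Subgroup G, H.index ≠ 2) (X : Sylow 2 G)
    {F : Type*} [Field F] [Fintype F] (hF : Odd (Fintype.card F))
    (f : ↥(X : Subgroup G) →* GL (Fin 3) F) (hf : Function.Injective f)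
    (E : Subgroup G) (hE : E ≤ (X : Subgroup G)) (hEa : Cfsg.IsElementaryAbelian 2 E) (hE8 : Nat.card E = 8) :
    IsMulCommutative (X : Subgroup G) := by
  exact main hG (X : Subgroup G) X.2 (Nat.odd_iff.mpr (by have := X.not_dvd_index; omega)) hF f hf E hE hEa hE8

end Cfsg.Agent.S1906
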