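import Cfsg.Statements.S1910
import Cfsg.Agent.Control.Basic

set_option autoImplicit false
open Cfsg

namespace Cfsg.Agent.S1910

open Subgroup Cfsg.Agent.Control
open scoped commutatorElement

variable {G : Type*} [Group G] [Finite G]

theorem eq_bot_of_odd {X Y : Subgroup G} (hX : IsPGroup 2 X) (hY : Odd (Nat.card Y)) (h : X ≤ Y) :
    X = ⊥ := by
  rw [← card_eq_one]
  obtain ⟨k, hk⟩ := IsPGroup.iff_card.mp hX
  rcases k with _ | k
  · simpa using hk
  · exfalso
    have := (show 2 ∣ Nat.card X from hk ▸ dvd_pow_self 2 (by omega)).trans (card_dvd_of_le h)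
    exact (Nat.not_even_iff_odd.2 hY) (even_iff_two_dvd.2 this)

theorem normalizer_le {A : Subgroup G} (hA : Cfsg.IsTightlyEmbedded A) {U : Subgroup G}
    (hU : IsPGroup 2 U) (hU1 : U ≠ ⊥) (hUA : U ≤ A) {h : G}
    (hh : h ∈ normalizer (U : Set G)) : h ∈ normalizer (A : Set G) := by
  by_contra hA'
  refine hU1 (eq_bot_of_odd hU (hA.2 h hA') (le_inf hUA ?_))
  have : U.map (MulAut.conj h).toMonoidHom = U := mem_normalizer_iff_map_conj_eq.mp hh
  exact this ▸ map_mono hUA

theorem isTightlyEmbedded_map {Q : Subgroup G} (hQ : Cfsg.IsTightlyEmbedded Q) (g : G) :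
    Cfsg.IsTightlyEmbedded (Q.map (MulAut.conj g).toMonoidHom) := by
  refine ⟨by rw [card_map_of_injective (MulAut.conj g).injective]; exact hQ.1, fun h hh => ?_⟩
  have hh' : g⁻¹ * h * g ∉ normalizer (Q : Set G) := by
    intro hn
    apply hh
    rw [mem_normalizer_iff_map_conj_eq] at hn ⊢
    show cjSub h (cjSub g Q) = cjSub g Q
    calc cjSub h (cjSub g Q) = cjSub g (cjSub (g⁻¹ * h * g) Q) := by
          rw [cjSub_cjSub, cjSub_cjSub]; congr 1; group
      _ = cjSub g Q := by rw [show cjSub (g⁻¹ * h * g) Q = Q from hn]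
  have key := hQ.2 _ hh'
  have e : cjSub g Q ⊓ cjSub h (cjSub g Q) = cjSub g (Q ⊓ cjSub (g⁻¹ * h * g) Q) := by
    rw [show cjSub g (Q ⊓ cjSub (g⁻¹ * h * g) Q) = cjSub g Q ⊓ cjSub g (cjSub (g⁻¹ * h * g) Q)
      from map_inf _ _ _ (MulAut.conj g).injective, cjSub_cjSub, cjSub_cjSub,
      show g * (g⁻¹ * h * g) = h * g by group]
  show Odd (Nat.card ↥(cjSub g Q ⊓ cjSub h (cjSub g Q)))
  rw [e, card_cjSub]
  exact key

theorem decompose {A T S : Subgroup G} (hTN : T ≤ normalizer (A : Set G)) (hTS : T ≤ S)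
    (hS : S ≤ A ⊔ T) {x : G} (hx : x ∈ S) : ∃ a ∈ S ⊓ A, ∃ t ∈ T, x = a * t := by
  have h := hS hx
  rw [← SetLike.mem_coe, coe_mul_of_right_le_normalizer_left A T hTN] at h
  obtain ⟨a, ha, t, ht, rfl⟩ := h
  refine ⟨a, ⟨?_, ha⟩, t, ht, rfl⟩
  have := S.mul_mem hx (S.inv_mem (hTS ht))
  rwa [mul_inv_cancel_right] at this

/-- The key dichotomy. -/
theorem step {A B T S : Subgroup G} (hB : Cfsg.IsTightlyEmbedded B)
    (hodd : Odd (Nat.card ↥(A ⊓ B))) (hTB : T ≤ B) (hTN : T ≤ normalizer (A : Set G))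
    (hT : IsPGroup 2 T) (hT1 : T ≠ ⊥) (hSyl : SylIn 2 S (A ⊔ T)) (hTS : T ≤ S) :
    SylIn 2 (S ⊓ normalizer (T : Set G) ⊓ A) A ∨
      ∃ f : T →* ↥(S ⊓ normalizer (T : Set G) ⊓ A), Function.Injective f := by
  set R := S ⊓ normalizer (T : Set G) ⊓ A with hR
  have hTA : T ⊓ A = ⊥ :=
    eq_bot_of_odd hT.to_inf_left hodd (le_inf inf_le_right (inf_le_left.trans hTB))
  by_cases hfull : S ⊓ A ≤ R
  · left
    rw [show R = S ⊓ A from le_antisymm (le_inf (inf_le_left.trans inf_le_left) inf_le_right) hfull]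
    exact hSyl.inf_normal le_sup_left (sup_le le_normalizer hTN)
  · right
    set N := S ⊓ normalizer (T : Set G) with hN
    have hTN' : T ≤ N := le_inf hTS le_normalizer
    have hNS : N < S := by
      refine lt_of_le_of_ne inf_le_left fun h => hfull ?_
      rw [hR, h]
    obtain ⟨s, hs, hsN⟩ := SetLike.exists_of_lt
      (Fusion.lt_inf_normalizer_of_isPGroup hSyl.isPGroup hNS)
    have hnormN : N.map (MulAut.conj s).toMonoidHom = N :=
      mem_normalizer_iff_map_conj_eq.mp hs.2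
    have hsT : ∀ t ∈ T, s * t * s⁻¹ ∈ N := fun t ht => by
      rw [← hnormN]; exact ⟨t, hTN' ht, rfl⟩
    have hSA : ∀ x, x ∈ S ⊓ A → x ∈ B → x = 1 := by
      intro x hx hxB
      have h := eq_bot_of_odd (X := zpowers x) (hSyl.isPGroup.to_le ((zpowers_le).2 hx.1)) hodd
        (zpowers_le.2 ⟨hx.2, hxB⟩)
      exact zpowers_eq_bot.1 h
    -- the conjugate of `T` by `s` meets `T` trivially
    have hdisj : ∀ t ∈ T, s * t * s⁻¹ ∈ T → t = 1 := by
      intro t ht hst
      by_cases hsB : s ∈ normalizer (B : Set G)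
      · exfalso
        apply hsN
        obtain ⟨a, ha, u, hu, rfl⟩ := decompose hTN hTS hSyl.le hs.1
        have huN : u ∈ normalizer (B : Set G) := le_normalizer (hTB hu)
        have haB : a ∈ normalizer (B : Set G) := by
          have := (normalizer (B : Set G)).mul_mem hsB ((normalizer (B : Set G)).inv_mem huN)
          rwa [mul_inv_cancel_right] at this
        refine N.mul_mem ⟨ha.1, ?_⟩ (hTN' hu)
        have hcomm : ∀ v ∈ T, a * v * a⁻¹ = v := by
          intro v hv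
          rw [← mul_inv_eq_one]
          refine hSA _ ⟨S.mul_mem (S.mul_mem (S.mul_mem ha.1 (hTS hv)) (S.inv_mem ha.1))
            (S.inv_mem (hTS hv)), ?_⟩ ?_
          · have h := (mem_normalizer_iff.1 (hTN hv) a⁻¹).1 (A.inv_mem ha.2)
            have := A.mul_mem ha.2 h
            simpa [mul_assoc] using this
          · exact B.mul_mem ((mem_normalizer_iff.1 haB v).1 (hTB hv)) (B.inv_mem (hTB hv))
        refine centralizer_le_normalizer _ (mem_centralizer_iff.2 fun v hv => ?_)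
        exact (mul_inv_eq_iff_eq_mul.1 (hcomm v hv)).symm
      · have hodd' := hB.2 s hsB
        have hmem : zpowers (s * t * s⁻¹) ≤ B ⊓ B.map (MulAut.conj s).toMonoidHom :=
          zpowers_le.2 ⟨hTB hst, ⟨t, hTB ht, rfl⟩⟩
        have h := zpowers_eq_bot.1
          (eq_bot_of_odd (hT.to_le (zpowers_le.2 hst)) hodd' hmem)
        simpa using h
    have hRN : ∀ r : R, (r : G) ∈ N := fun r => r.2.1
    haveI : (T.subgroupOf N).Normal := normal_subgroupOf_of_le_normalizer inf_le_right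
    set π : R →* ↥N ⧸ T.subgroupOf N :=
      (QuotientGroup.mk' _).comp (inclusion (inf_le_left : R ≤ N)) with hπ
    have hπbij : Function.Bijective π := by
      constructor
      · rw [injective_iff_map_eq_one]
        intro r hr
        have h : (r : G) ∈ T :=
          (QuotientGroup.eq_one_iff (N := T.subgroupOf N) (inclusion (inf_le_left : R ≤ N) r)).1 hr
        have h' : (r : G) ∈ T ⊓ A := ⟨h, r.2.2⟩
        rw [hTA] at h'
        exact Subtype.ext (mem_bot.1 h')
      · intro q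
        obtain ⟨⟨x, hx⟩, rfl⟩ := QuotientGroup.mk_surjective q
        obtain ⟨a, ha, u, hu, rfl⟩ := decompose hTN hTS hSyl.le hx.1
        have haN : a ∈ N := by
          have := N.mul_mem hx (N.inv_mem (hTN' hu))
          rwa [mul_inv_cancel_right] at this
        refine ⟨⟨a, haN, ha.2⟩, ?_⟩
        refine QuotientGroup.eq.mpr ?_
        show a⁻¹ * (a * u) ∈ T
        rwa [inv_mul_cancel_left]
    set φ : T →* ↥N := MonoidHom.codRestrict ((MulAut.conj s).toMonoidHom.comp T.subtype) N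
      (fun t => hsT t t.2) with hφ
    refine ⟨(MulEquiv.ofBijective π hπbij).symm.toMonoidHom.comp ((QuotientGroup.mk' _).comp φ), ?_⟩
    rw [injective_iff_map_eq_one]
    intro t ht
    have h1 : QuotientGroup.mk' (T.subgroupOf N) (φ t) = 1 :=
      (MulEquiv.ofBijective π hπbij).symm.map_eq_one_iff.1 ht
    exact Subtype.ext (hdisj t t.2 ((QuotientGroup.eq_one_iff (N := T.subgroupOf N) (φ t)).1 h1))

/-- Let Q be a tightly embedded subgroup of a finite group G, g an element outside N_G(Q), T a nontrivial Sylow 2-subgroup of Q^g ∩ N_G(Q), and S a Sylow 2-subgroup of QT containing T. Then T ∩ Q = 1, and N_S(T) is the direct product of T and N_S(T) ∩ Q, with N_S(T) ∩ Q isomorphic to T. -/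
theorem result {G : Type*} [Group G] [Finite G] (Q : Subgroup G) (hQ : Cfsg.IsTightlyEmbedded Q)
    (g : G) (hg : g ∉ Subgroup.normalizer (Q : Set G))
    (T : Subgroup G) (hT1 : T ≠ ⊥) (hT : T ≤ Q.map (MulAut.conj g).toMonoidHom ⊓ Subgroup.normalizer (Q : Set G))
    (hTsyl : IsPGroup 2 T ∧ ¬ 2 ∣ T.relIndex (Q.map (MulAut.conj g).toMonoidHom ⊓ Subgroup.normalizer (Q : Set G)))
    (S : Subgroup G) (hTS : T ≤ S) (hS : S ≤ Q ⊔ T) (hSsyl : IsPGroup 2 S ∧ ¬ 2 ∣ S.relIndex (Q ⊔ T)) :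
    T ⊓ Q = ⊥ ∧
      T ⊓ (S ⊓ Subgroup.normalizer (T : Set G) ⊓ Q) = ⊥ ∧
      ⁅T, S ⊓ Subgroup.normalizer (T : Set G) ⊓ Q⁆ = ⊥ ∧
      T ⊔ (S ⊓ Subgroup.normalizer (T : Set G) ⊓ Q) = S ⊓ Subgroup.normalizer (T : Set G) ∧
      Nonempty (↥(S ⊓ Subgroup.normalizer (T : Set G) ⊓ Q) ≃* T) := by
  have hgi : Q.map (MulAut.conj g).toMonoidHom = cjSub g Q := rfl
  set B := Q.map (MulAut.conj g).toMonoidHom with hBdef
  have hB : Cfsg.IsTightlyEmbedded B := isTightlyEmbedded_map hQ g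
  have hodd : Odd (Nat.card ↥(Q ⊓ B)) := hQ.2 g hg
  have hTB : T ≤ B := hT.trans inf_le_left
  have hTN : T ≤ normalizer (Q : Set G) := hT.trans inf_le_right
  have hTp := hTsyl.1
  have hTs : SylIn 2 T (B ⊓ normalizer (Q : Set G)) := ⟨hT, hTp, hTsyl.2⟩
  have hSs : SylIn 2 S (Q ⊔ T) := ⟨hS, hSsyl.1, hSsyl.2⟩
  have hTQ : T ⊓ Q = ⊥ :=
    eq_bot_of_odd hTp.to_inf_left hodd (le_inf inf_le_right (inf_le_left.trans hTB))
  set R := S ⊓ normalizer (T : Set G) ⊓ Q with hRdef
  have hRp : IsPGroup 2 R := hSs.isPGroup.to_le (inf_le_left.trans inf_le_left)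
  have hcomm : ⁅T, R⁆ = ⊥ := by
    rw [eq_bot_iff, ← hTQ, commutator_le]
    intro t ht r hr
    refine ⟨?_, ?_⟩
    · have h := (mem_normalizer_iff.1 hr.1.2 t⁻¹).1 (T.inv_mem ht)
      have := T.mul_mem ht h
      simpa [commutatorElement_def, mul_assoc] using this
    · have h := (mem_normalizer_iff.1 (hTN ht) r).1 hr.2
      exact Q.mul_mem h (Q.inv_mem hr.2)
  have hsup : T ⊔ R = S ⊓ normalizer (T : Set G) := by
    refine le_antisymm (sup_le (le_inf hTS le_normalizer) inf_le_left) fun x hx => ?_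
    obtain ⟨a, ha, t, ht, rfl⟩ := decompose hTN hTS hS hx.1
    refine (T ⊔ R).mul_mem (mem_sup_right ⟨?_, ha.2⟩) (mem_sup_left ht)
    have := (S ⊓ normalizer (T : Set G)).mul_mem hx
      ((S ⊓ normalizer (T : Set G)).inv_mem ⟨hTS ht, le_normalizer ht⟩)
    rwa [mul_inv_cancel_right] at this
  refine ⟨hTQ, ?_, hcomm, hsup, ?_⟩
  · rw [eq_bot_iff, ← hTQ]; exact inf_le_inf_left _ inf_le_right
  -- sizes
  have hQB : Nat.card ↥B = Nat.card Q := card_map_of_injective (MulAut.conj g).injective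
  have hTT' : ∀ W : Subgroup G, SylIn 2 W B → SylIn 2 (cjSub g⁻¹ W) Q := fun W h => by
    have := h.cjSub g⁻¹
    rwa [hgi, cjSub_cjSub, inv_mul_cancel, cjSub_one] at this
  have hTT : SylIn 2 T B → SylIn 2 (cjSub g⁻¹ T) Q := hTT' T
  have hR1 : R ≠ ⊥ := by
    intro h
    rcases step hB hodd hTB hTN hTp hT1 hSs hTS with h' | ⟨f, hf⟩
    · have h2 : 2 ∣ Nat.card Q := even_iff_two_dvd.1 hQ.1
      apply h'.not_dvd
      rw [← hRdef, h, relIndex_bot_left]
      exact h2
    · apply hT1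
      rw [eq_bot_iff]
      intro t ht
      have e : f ⟨t, ht⟩ = f 1 := by
        apply Subtype.ext
        have := (f ⟨t, ht⟩).2
        have h1 := (f 1).2
        simp only [← hRdef, h, mem_bot] at this h1
        rw [this, h1]
      exact congrArg Subtype.val (hf e)
  have hRC : R ≤ centralizer (T : Set G) := by
    rw [← commutator_eq_bot_iff_le_centralizer, commutator_comm]
    exact hcomm
  have hTR : T ≤ normalizer (R : Set G) :=
    (le_centralizer_iff.1 hRC).trans (centralizer_le_normalizer _)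
  have hRB : R ≤ normalizer (B : Set G) := fun r hr =>
    normalizer_le hB hTp hT1 hTB (centralizer_le_normalizer _ (hRC hr))
  have h2p : IsPGroup 2 ↥(T ⊔ R) := hsup ▸ hSs.isPGroup.to_inf_left
  obtain ⟨S', hS', hle'⟩ := SylIn.exists_ge (H := B ⊔ R) h2p
    (sup_le_sup_right hTB R)
  have hT' : S' ⊓ normalizer (R : Set G) ⊓ B = T := by
    refine hTs.eq_of_le (hS'.isPGroup.to_le (inf_le_left.trans inf_le_left)) ?_ ?_
    · exact le_inf inf_le_right fun x hx => normalizer_le hQ hRp hR1 inf_le_right hx.1.2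
    · exact le_inf (le_inf (le_sup_left.trans hle') hTR) hTB
  have d2 := step hQ (by rwa [inf_comm] at hodd) (inf_le_right : R ≤ Q) hRB hRp hR1 hS'
    (le_sup_right.trans hle')
  rw [hT'] at d2
  have d1 := step hB hodd hTB hTN hTp hT1 hSs hTS
  rw [← hRdef] at d1
  have inj1 : ∀ f : T →* R, Function.Injective f → Nat.card R ≤ Nat.card T → Nonempty (R ≃* T) :=
    fun f hf hc => ⟨(MulEquiv.ofBijective f ((Nat.bijective_iff_injective_and_card f).2
      ⟨hf, le_antisymm (Nat.card_le_card_of_injective f hf) hc⟩)).symm⟩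
  have inj2 : ∀ f : R →* T, Function.Injective f → Nat.card T ≤ Nat.card R → Nonempty (R ≃* T) :=
    fun f hf hc => ⟨MulEquiv.ofBijective f ((Nat.bijective_iff_injective_and_card f).2
      ⟨hf, le_antisymm (Nat.card_le_card_of_injective f hf) hc⟩)⟩
  have hTc : Nat.card ↥(cjSub g⁻¹ T) = Nat.card T := card_cjSub _ _
  rcases d1 with hRS | ⟨f, hf⟩ <;> rcases d2 with hTS' | ⟨f', hf'⟩
  · obtain ⟨d, -, hd⟩ := hRS.exists_conj (hTT hTS')
    rw [cjSub_cjSub] at hd
    exact ⟨(MulEquiv.subgroupCongr hd).symm.trans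
      (T.equivMapOfInjective _ (MulAut.conj (d * g⁻¹)).injective).symm⟩
  · refine inj2 f' hf' ?_
    obtain ⟨W, hW, hle⟩ := SylIn.exists_ge (p := 2) (H := B) hTp hTB
    have e : Nat.card ↥(cjSub g⁻¹ W) = Nat.card R := hRS.card_eq (hTT' W hW)
    rw [← e, card_cjSub]
    exact card_le_of_le hle
  · refine inj1 f hf ?_
    obtain ⟨W, hW, hle⟩ := SylIn.exists_ge (p := 2) (H := Q) hRp inf_le_right
    calc Nat.card ↥R ≤ Nat.card W := card_le_of_le hle
      _ = Nat.card ↥(cjSub g⁻¹ T) := (hW.card_eq (hTT hTS')).symm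
      _ = Nat.card T := hTc
  · exact inj1 f hf (Nat.card_le_card_of_injective f' hf')

end Cfsg.Agent.S1910
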