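import Cfsg.Statements.S1914
import Cfsg.Agent.CycFour.Main
import Cfsg.Agent.Layer.Components

set_option autoImplicit false
open Cfsg

namespace Cfsg.Agent.S1914

/-- Let A be a semisimple subgroup (a central product of quasisimple groups, A = E(A)) of a finite group and t an involution normalizing A such that the Sylow 2-subgroups of C_A(t) are cyclic of order 4. Then A has 2-rank exactly 1. -/
theorem result {G : Type*} [Group G] [Finite G] (A : Subgroup G) (hA : Cfsg.layer ↥A = ⊤)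
    (t : G) (ht : orderOf t = 2) (htA : t ∈ Subgroup.normalizer (A : Set G))
    (hC : ∀ R : Sylow 2 ↥(A ⊓ Subgroup.centralizer ({t} : Set G)), IsCyclic R ∧ Nat.card R = 4) :
    Cfsg.PRankLE 2 1 A ∧ ¬ Cfsg.PRankLE 2 0 A := by
  have hperf : ⁅A, A⁆ = A := by
    have h := Cfsg.Agent.Layer.layer_perfect (G := ↥A)
    rw [hA] at h
    have h2 := congrArg (Subgroup.map A.subtype) h
    rwa [Subgroup.map_commutator, ← MonoidHom.range_eq_map, Subgroup.range_subtype] at h2
  have tt : t * t = 1 := by rw [← pow_two, ← ht, pow_orderOf_eq_one]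
  have t1 : t ≠ 1 := fun e => by rw [e, orderOf_one] at ht; omega
  obtain ⟨R⟩ := (inferInstance : Nonempty (Sylow 2 ↥(A ⊓ Subgroup.centralizer ({t} : Set G))))
  obtain ⟨hRc, hR4⟩ := hC R
  obtain ⟨γ, hγ⟩ := hRc.exists_generator
  obtain ⟨r, hr⟩ : ∃ r : G, r = ((γ : ↥(A ⊓ Subgroup.centralizer ({t} : Set G))) : G) := ⟨_, rfl⟩
  have r4 : orderOf r = 4 := by
    rw [hr, Subgroup.orderOf_coe, Subgroup.orderOf_coe, orderOf_eq_card_of_forall_mem_zpowers hγ,
      hR4]
  have hrmem : r ∈ A ⊓ Subgroup.centralizer ({t} : Set G) := hr ▸ γ.1.2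
  have cmax : ∀ Q : Subgroup G, Q ≤ A ⊓ Subgroup.centralizer ({t} : Set G) → IsPGroup 2 Q →
      Nat.card Q ≤ 4 := fun Q hQ hQ2 => by
    obtain ⟨R', hR'⟩ := (hQ2.comap_subtype :
      IsPGroup 2 (Q.subgroupOf (A ⊓ Subgroup.centralizer ({t} : Set G)))).exists_le_sylow
    rw [← (hC R').2, ← Nat.card_congr (Subgroup.subgroupOfEquivOfLe hQ).toEquiv]
    exact Subgroup.card_le_of_le hR'
  refine ⟨fun B _ hB2 => ?_, fun h => ?_⟩
  · have hB := CycFour.rank_one A hperf t tt t1 htA r hrmem.1 r4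
      (Subgroup.mem_centralizer_singleton_iff.1 hrmem.2).symm cmax (B.map A.subtype)
      (Subgroup.map_subtype_le B) (by
        rintro _ ⟨x, hx, rfl⟩
        simpa [pow_two] using congrArg Subtype.val (hB2 x hx))
    rwa [← Nat.card_congr (Subgroup.equivMapOfInjective B A.subtype A.subtype_injective).toEquiv,
      ← pow_one 2] at hB
  · let z : ↥A := ⟨r ^ 2, pow_mem hrmem.1 2⟩
    have hz : orderOf z = 2 := by
      rw [Subgroup.orderOf_mk, orderOf_pow' _ two_ne_zero, r4]; rfl
    have h2 := h (Subgroup.zpowers z) inferInstance (fun a ha => by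
      obtain ⟨i, rfl⟩ := Subgroup.mem_zpowers_iff.1 ha
      rw [← zpow_natCast, ← zpow_mul, mul_comm, zpow_mul, zpow_natCast,
        show z ^ 2 = 1 by rw [← hz, pow_orderOf_eq_one], one_zpow])
    rw [Nat.card_zpowers, hz] at h2
    norm_num at h2

end Cfsg.Agent.S1914
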