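import Cfsg.Statements.S1915
import Cfsg.Agent.FourRankOne.Main
import Cfsg.Agent.Layer.Components

set_option autoImplicit false
open Cfsg

namespace Cfsg.Agent.S1915

/-- Let A be a semisimple subgroup (A = E(A)) of a finite group and U a Klein four-group normalizing A. If the subgroup of A generated by the normalizers N_A(V) of the nontrivial subgroups V of U has 2-rank exactly 1, then A has 2-rank exactly 1. -/
theorem result {G : Type*} [Group G] [Finite G] (A : Subgroup G) (hA : Cfsg.layer ↥A = ⊤)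
    (U : Subgroup G) (hU : IsKleinFour U) (hUA : U ≤ Subgroup.normalizer (A : Set G))
    (hΓ : Cfsg.PRankLE 2 1 ↥(⨆ V : {V : Subgroup G // V ≤ U ∧ V ≠ ⊥}, A ⊓ Subgroup.normalizer ((V : Subgroup G) : Set G)) ∧
      ¬ Cfsg.PRankLE 2 0 ↥(⨆ V : {V : Subgroup G // V ≤ U ∧ V ≠ ⊥}, A ⊓ Subgroup.normalizer ((V : Subgroup G) : Set G))) :
    Cfsg.PRankLE 2 1 A ∧ ¬ Cfsg.PRankLE 2 0 A := by
  have hperf : ⁅A, A⁆ = A := by
    have h := Cfsg.Agent.Layer.layer_perfect (G := ↥A)
    rw [hA] at h
    have h2 := congrArg (Subgroup.map A.subtype) h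
    rwa [Subgroup.map_commutator, ← MonoidHom.range_eq_map, Subgroup.range_subtype] at h2
  obtain ⟨hΓ1, hΓ0⟩ := hΓ
  refine ⟨fun B hBc hB2 => ?_, fun h => hΓ0 ?_⟩
  · have hc := FourRankOne.rank_one A U hperf hU hUA ?_ (B.map A.subtype)
      (Subgroup.map_subtype_le B) ?_ ?_
    · rwa [← Nat.card_congr (Subgroup.equivMapOfInjective B A.subtype A.subtype_injective).toEquiv,
        ← pow_one 2] at hc
    · intro u hu hu1 x hx y hy hx2 hy2 hx1 hy1 hxy hcomm hux huy
      set Γ := ⨆ V : {V : Subgroup G // V ≤ U ∧ V ≠ ⊥},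
        A ⊓ Subgroup.normalizer ((V : Subgroup G) : Set G) with hΓ
      have hmem : ∀ w ∈ A, u * w = w * u → w ∈ Γ := fun w hw huw => by
        refine Subgroup.mem_iSup_of_mem (ι := {V : Subgroup G // V ≤ U ∧ V ≠ ⊥})
          ⟨Subgroup.zpowers u, Subgroup.zpowers_le.2 hu, by
            simpa [Subgroup.zpowers_eq_bot] using hu1⟩ ⟨hw, ?_⟩
        refine Subgroup.mem_normalizer_iff.2 fun g => ?_
        have hc : ∀ i : ℤ, w * u ^ i * w⁻¹ = u ^ i := fun i => by
          rw [← (Commute.zpow_left huw i).eq, mul_inv_cancel_right]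
        constructor
        · rintro ⟨i, rfl⟩; exact ⟨i, (hc i).symm⟩
        · rintro ⟨i, hi⟩
          refine ⟨i, ?_⟩
          change u ^ i = w * g * w⁻¹ at hi
          show u ^ i = g
          exact mul_left_cancel (mul_right_cancel ((hc i).trans hi))
      let K : Subgroup ↥Γ := Subgroup.closure {⟨x, hmem x hx hux⟩, ⟨y, hmem y hy huy⟩}
      have hKc : IsMulCommutative K := Subgroup.isMulCommutative_closure (by
        rintro a (rfl | rfl) b (rfl | rfl)
        · rfl
        · exact Subtype.ext hcomm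
        · exact Subtype.ext hcomm.symm
        · rfl)
      have hK2 : ∀ a ∈ K, a ^ 2 = 1 := by
        intro a ha
        induction ha using Subgroup.closure_induction with
        | mem a ha =>
          rcases ha with rfl | rfl
          · exact Subtype.ext (by simpa [pow_two] using hx2)
          · exact Subtype.ext (by simpa [pow_two] using hy2)
        | one => exact one_pow 2
        | mul a b ha hb iha ihb =>
          have hab : Commute a b :=
            congrArg Subtype.val (hKc.is_comm.comm (⟨a, ha⟩ : K) ⟨b, hb⟩)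
          rw [hab.mul_pow, iha, ihb, one_mul]
        | inv a _ iha => rw [inv_pow, iha, inv_one]
      have h2 := hΓ1 K hKc hK2
      have hsub : ({1, ⟨x, hmem x hx hux⟩, ⟨y, hmem y hy huy⟩} : Set ↥Γ) ⊆ (K : Set ↥Γ) := by
        rintro w (rfl | rfl | rfl)
        exacts [one_mem _, Subgroup.subset_closure (Or.inl rfl),
          Subgroup.subset_closure (Or.inr rfl)]
      have h3 := Set.ncard_le_ncard hsub (Set.toFinite _)
      rw [Set.ncard_eq_three.2 ⟨_, _, _, fun e => hx1 (congrArg Subtype.val e).symm,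
        fun e => hy1 (congrArg Subtype.val e).symm, fun e => hxy (congrArg Subtype.val e), rfl⟩,
        show (K : Set ↥Γ).ncard = Nat.card K from rfl] at h3
      omega
    · rintro _ ⟨a, ha, rfl⟩ _ ⟨b, hb, rfl⟩
      exact congrArg (fun p : B => A.subtype p) (hBc.is_comm.comm (⟨a, ha⟩ : B) ⟨b, hb⟩)
    · rintro _ ⟨a, ha, rfl⟩
      rw [← map_mul, ← pow_two, hB2 a ha, map_one]
  · set Γ := ⨆ V : {V : Subgroup G // V ≤ U ∧ V ≠ ⊥},
      A ⊓ Subgroup.normalizer ((V : Subgroup G) : Set G)
    intro C hCc hC2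
    have hΓA : Γ ≤ A := iSup_le fun _ => inf_le_left
    have hinj := Subgroup.inclusion_injective hΓA
    rw [Nat.card_congr (Subgroup.equivMapOfInjective C _ hinj).toEquiv]
    refine h _ (Subgroup.map_isMulCommutative C _) ?_
    rintro _ ⟨c, hc, rfl⟩
    rw [← map_pow, hC2 c hc, map_one]

end Cfsg.Agent.S1915
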