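import Cfsg.Statements.S1921
import Cfsg.Agent.Layer.Components

set_option autoImplicit false
open Cfsg

namespace Cfsg.Agent.S1921

/-- Let a be an involution of a finite group H and L a component of H with a L a⁻¹ ≠ L; put M = ⟨L, aLa⁻¹⟩ and let J be the subgroup generated by the elements x · a x a⁻¹ with x ∈ L (the diagonal). Then every element of M outside J·Z(M) generates M together with J. -/
theorem result {H : Type*} [Group H] [Finite H] (a : H) (ha : orderOf a = 2) (L : Subgroup H) (hL : Cfsg.IsComponent L)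
    (hLa : L.map (MulAut.conj a).toMonoidHom ≠ L) (x : H) (hxM : x ∈ L ⊔ L.map (MulAut.conj a).toMonoidHom)
    (hxJ : x ∉ Subgroup.closure {y : H | ∃ l ∈ L, y = l * (a * l * a⁻¹)} ⊔
      ((L ⊔ L.map (MulAut.conj a).toMonoidHom) ⊓ Subgroup.centralizer ((L ⊔ L.map (MulAut.conj a).toMonoidHom : Subgroup H) : Set H))) :
    Subgroup.closure {y : H | ∃ l ∈ L, y = l * (a * l * a⁻¹)} ⊔ Subgroup.zpowers x = L ⊔ L.map (MulAut.conj a).toMonoidHom := by
  set φ := (MulAut.conj a).toMonoidHom with hφ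
  set L' := L.map φ with hL'
  set M := L ⊔ L' with hM
  have hcomm : ∀ l ∈ L, ∀ m ∈ L', l * m = m * l := fun l hl m hm =>
    Layer.commute_of_commutator_eq_bot
      (Layer.components_commute hL (Layer.isComponent_map_conj hL a) (Ne.symm hLa)) hl hm
  have hmem' : ∀ l ∈ L, a * l * a⁻¹ ∈ L' := fun l hl => ⟨l, hl, rfl⟩
  set J := Subgroup.closure {y : H | ∃ l ∈ L, y = l * (a * l * a⁻¹)} with hJ
  have hJmem : ∀ l ∈ L, l * (a * l * a⁻¹) ∈ J := fun l hl => Subgroup.subset_closure ⟨l, hl, rfl⟩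
  set U := J ⊔ Subgroup.zpowers x with hU
  have hJM : J ≤ M := (Subgroup.closure_le _).mpr fun y hy => by
    obtain ⟨l, hl, rfl⟩ := hy
    exact M.mul_mem (Subgroup.mem_sup_left hl) (Subgroup.mem_sup_right (hmem' l hl))
  -- write `x` as a product
  have hLn : L' ≤ Subgroup.normalizer (L : Set H) :=
    (Subgroup.le_centralizer_iff.mp fun l hl => Subgroup.mem_centralizer_iff.mpr
      fun m hm => (hcomm l hl m hm).symm).trans (Subgroup.centralizer_le_normalizer _)
  obtain ⟨l₁, hl₁, _, ⟨l₂, hl₂, rfl⟩, hx⟩ :=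
    Set.mem_mul.mp ((Subgroup.coe_mul_of_right_le_normalizer_left L L' hLn).le hxM)
  simp only [hφ, MulEquiv.coe_toMonoidHom, MulAut.conj_apply] at hx
  set w := l₁ * l₂⁻¹ with hw
  have hwx : x = w * (l₂ * (a * l₂ * a⁻¹)) := by rw [← hx, hw]; group
  have hwL : w ∈ L := L.mul_mem hl₁ (L.inv_mem hl₂)
  have hwU : w ∈ U := by
    rw [show w = x * (l₂ * (a * l₂ * a⁻¹))⁻¹ by rw [hwx]; group]
    exact U.mul_mem (Subgroup.mem_sup_right (Subgroup.mem_zpowers x))
      (U.inv_mem (Subgroup.mem_sup_left (hJmem l₂ hl₂)))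
  have hnorm : L ≤ Subgroup.normalizer ((U ⊓ L : Subgroup H) : Set H) := by
    have h1 : ∀ l ∈ L, ∀ n ∈ U ⊓ L, l * n * l⁻¹ ∈ U ⊓ L := by
      rintro l hl n ⟨hnU, hnL⟩
      refine ⟨?_, L.mul_mem (L.mul_mem hl hnL) (L.inv_mem hl)⟩
      have h := U.mul_mem (U.mul_mem (Subgroup.mem_sup_left (hJmem l hl)) hnU)
        (U.inv_mem (Subgroup.mem_sup_left (hJmem l hl)))
      have e : a * l * a⁻¹ * n = n * (a * l * a⁻¹) := (hcomm n hnL _ (hmem' l hl)).symm
      rwa [show l * (a * l * a⁻¹) * n * (l * (a * l * a⁻¹))⁻¹ = l * n * l⁻¹ by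
        rw [mul_assoc l _ n, e]; group] at h
    intro l hl
    refine Subgroup.mem_normalizer_iff.mpr fun n => ⟨fun hn => h1 l hl n hn, fun hn => ?_⟩
    have := h1 l⁻¹ (L.inv_mem hl) _ hn
    simpa [mul_assoc] using this
  rcases Layer.qs_sub_normalized_cases hL.2 (inf_le_right : U ⊓ L ≤ L) hnorm with h | h
  · have hLU : L ≤ U := h ▸ inf_le_left
    refine le_antisymm (sup_le hJM (Subgroup.zpowers_le.mpr hxM)) (sup_le hLU ?_)
    rintro _ ⟨l, hl, rfl⟩
    have h2 := U.mul_mem (U.inv_mem (hLU hl)) (Subgroup.mem_sup_left (hJmem l hl))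
    simpa [hφ] using h2
  · exfalso
    refine hxJ ?_
    rw [hwx]
    refine mul_mem (Subgroup.mem_sup_right ⟨Subgroup.mem_sup_left hwL, ?_⟩)
      (Subgroup.mem_sup_left (hJmem l₂ hl₂))
    refine (Subgroup.le_centralizer_iff.mp (?_ : M ≤ Subgroup.centralizer (Subgroup.zpowers w : Set H)))
      (Subgroup.mem_zpowers w)
    refine sup_le (fun l hl => ?_) fun m hm => ?_
    · refine Subgroup.mem_centralizer_iff.mpr fun z hz => ?_
      obtain ⟨i, rfl⟩ := Subgroup.mem_zpowers_iff.mp hz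
      exact ((show Commute w l from
        Layer.commute_of_commutator_eq_bot h ⟨hwU, hwL⟩ hl).zpow_left i).eq
    · refine Subgroup.mem_centralizer_iff.mpr fun z hz => ?_
      obtain ⟨i, rfl⟩ := Subgroup.mem_zpowers_iff.mp hz
      exact ((show Commute w m from hcomm w hwL m hm).zpow_left i).eq

end Cfsg.Agent.S1921
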