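import Cfsg.Statements.S1922

set_option autoImplicit false
open Cfsg

namespace Cfsg.Agent.S1922

universe u

/-- `z` fixes exactly the point `H`, and so does each product with a commuting conjugate. -/
structure Pt {G : Type u} [Group G] (z : G) (H : Subgroup G) : Prop where
  inv : z * z = 1
  ne_one : z ≠ 1
  ne_top : H ≠ ⊤
  fix : ∀ g, g * z * g⁻¹ ∈ H ↔ g ∈ H
  pair : ∀ g, g * z * g⁻¹ ≠ z → Commute z (g * z * g⁻¹) →
    ∀ k, k * (z * (g * z * g⁻¹)) * k⁻¹ ∈ H ↔ k ∈ H

variable {G : Type u} [Group G]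

theorem Pt.cent {z : G} {H : Subgroup G} (h : Pt z H) :
    Subgroup.centralizer ({z} : Set G) ≤ H := by
  intro g hg
  have hc := Subgroup.mem_centralizer_singleton_iff.mp hg
  refine (h.fix g).mp ?_
  rw [hc, mul_inv_cancel_right]
  simpa using (h.fix 1).mpr H.one_mem

theorem dihedral_conj {a b : G} (ha : a * a = 1) (hb : b * b = 1) (k : ℕ) :
    (a * b) ^ k * a * ((a * b) ^ k)⁻¹ = (a * b) ^ (2 * k) * a := by
  induction k with
  | zero => simp
  | succ k ih =>
    have hai : a⁻¹ = a := inv_eq_of_mul_eq_one_right ha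
    have hbi : b⁻¹ = b := inv_eq_of_mul_eq_one_right hb
    calc (a * b) ^ (k + 1) * a * ((a * b) ^ (k + 1))⁻¹
        = (a * b) * ((a * b) ^ k * a * ((a * b) ^ k)⁻¹) * (a * b)⁻¹ := by
          rw [pow_succ']; simp only [mul_inv_rev, mul_assoc]
      _ = (a * b) * (a * b) ^ (2 * k) * (a * b⁻¹ * a⁻¹) := by rw [ih]; group
      _ = (a * b) * (a * b) ^ (2 * k) * ((a * b) * a) := by rw [hai, hbi]
      _ = _ := by rw [show 2 * (k + 1) = 2 * k + 1 + 1 from by ring, pow_succ (a * b) (2 * k + 1), pow_succ']; simp only [mul_assoc]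

theorem dihedral_central {a b : G} (ha : a * a = 1) (hb : b * b = 1) {m : ℕ}
    (hm : (a * b) ^ (2 * m) = 1) : Commute ((a * b) ^ m) a ∧ Commute ((a * b) ^ m) b := by
  have h := dihedral_conj ha hb m
  rw [hm, one_mul] at h
  have h1 : Commute ((a * b) ^ m) a := mul_inv_eq_iff_eq_mul.mp h
  refine ⟨h1, ?_⟩
  have h2 := h1.mul_right (Commute.self_pow (a * b) m).symm
  rwa [← mul_assoc, ha, one_mul] at h2

theorem Pt.odd_prod [Finite G] {z : G} {H : Subgroup G} (h : Pt z H) {g : G} (hg : g ∉ H) :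
    Odd (orderOf (z * (g * z * g⁻¹))) := by
  set s := g * z * g⁻¹ with hs
  have hss : s * s = 1 := by rw [hs, mul_assoc, mul_assoc, mul_assoc, inv_mul_cancel_left, ← mul_assoc z, h.inv, one_mul, mul_inv_cancel]
  rw [← Nat.not_even_iff_odd]
  rintro ⟨m, hm⟩
  have hm0 : 0 < m := by
    have := orderOf_pos (z * s); omega
  set j := (z * s) ^ m with hj
  have hj2 : (z * s) ^ (2 * m) = 1 := by rw [two_mul, ← hm]; exact pow_orderOf_eq_one _
  obtain ⟨hjz, hjs⟩ := dihedral_central h.inv hss hj2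
  rw [← hj] at hjz hjs
  have hjj : j * j = 1 := by rw [hj, ← pow_add, ← two_mul, hj2]
  have hj1 : j ≠ 1 := pow_ne_one_of_lt_orderOf hm0.ne' (by omega)
  have hjH : j ∈ H := h.cent (Subgroup.mem_centralizer_singleton_iff.mpr hjz.eq)
  have hjg : g⁻¹ * j * g ∈ H := by
    refine h.cent (Subgroup.mem_centralizer_singleton_iff.mpr ?_)
    have e : g⁻¹ * j * g * z = g⁻¹ * (j * s) * g := by rw [hs]; group
    rw [e, hjs.eq, hs]; group
  rcases Nat.even_or_odd m with ⟨k, rfl⟩ | ⟨k, rfl⟩
  · set c := (z * s) ^ k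
    have ht : c * z * c⁻¹ = j * z := by rw [dihedral_conj h.inv hss, hj, two_mul]
    have hp := h.pair c (by rw [ht]; simpa using hj1)
      (by rw [ht]; exact (hjz.symm.mul_right (Commute.refl z))) g⁻¹
    rw [ht, show z * (j * z) = j from by rw [← mul_assoc, hjz.symm.eq, mul_assoc, h.inv, mul_one],
      inv_inv] at hp
    exact hg (inv_inv g ▸ inv_mem (hp.mp hjg))
  · set c := (z * s) ^ k
    have ht : c * z * c⁻¹ = j * s := by
      rw [dihedral_conj h.inv hss, hj, pow_succ, mul_assoc _ (z * s), mul_assoc z, hss, mul_one]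
    have ht' : g⁻¹ * c * z * (g⁻¹ * c)⁻¹ = g⁻¹ * j * g * z := by
      calc g⁻¹ * c * z * (g⁻¹ * c)⁻¹ = g⁻¹ * (c * z * c⁻¹) * g := by group
        _ = _ := by rw [ht, hs]; group
    have hjz' : Commute (g⁻¹ * j * g) z := by
      show g⁻¹ * j * g * z = z * (g⁻¹ * j * g)
      have e : g⁻¹ * j * g * z = g⁻¹ * (j * s) * g := by rw [hs]; group
      rw [e, hjs.eq, hs]; group
    have hp := h.pair (g⁻¹ * c) (by
        rw [ht']
        intro e
        rw [mul_eq_right] at e
        exact hj1 (by simpa [mul_assoc] using congrArg (fun x => g * x * g⁻¹) e))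
      (by rw [ht']; exact hjz'.symm.mul_right (Commute.refl z)) g
    rw [ht', show z * (g⁻¹ * j * g * z) = g⁻¹ * j * g from by
      rw [← mul_assoc, hjz'.symm.eq, mul_assoc, h.inv, mul_one]] at hp
    exact hg (hp.mp (by simpa [mul_assoc] using hjH))

theorem exists_conj_of_odd {a b : G} (ha : a * a = 1) (hb : b * b = 1)
    (ho : Odd (orderOf (a * b))) : ∃ c ∈ Subgroup.zpowers (a * b), c * a * c⁻¹ = b := by
  obtain ⟨k, hk⟩ := ho
  refine ⟨(a * b) ^ k, Subgroup.npow_mem_zpowers _ _, ?_⟩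
  rw [dihedral_conj ha hb]
  have : (a * b) ^ (2 * k) * (a * b) = 1 := by rw [← pow_succ, ← hk]; exact pow_orderOf_eq_one _
  rw [← mul_assoc] at this
  rw [eq_inv_of_mul_eq_one_left this]
  exact inv_eq_of_mul_eq_one_right hb

theorem conj_sq {z : G} (hz : z * z = 1) (g : G) : g * z * g⁻¹ * (g * z * g⁻¹) = 1 := by
  rw [mul_assoc, mul_assoc, mul_assoc, inv_mul_cancel_left, ← mul_assoc z, hz, one_mul, mul_inv_cancel]

/-- In a subgroup not inside `H` the conjugates of `z` form one class. -/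
theorem Pt.one_class [Finite G] {z : G} {H : Subgroup G} (h : Pt z H) {L : Subgroup G}
    (hz : z ∈ L) {a : G} (ha : a ∈ L) (haH : a ∉ H) {g : G} (hg : g * z * g⁻¹ ∈ L) :
    ∃ y ∈ L, y * z * y⁻¹ = g * z * g⁻¹ := by
  by_cases hgH : g ∈ H
  · have hn : g⁻¹ * a ∉ H := fun h' => haH (by simpa using mul_mem hgH h')
    have ho := h.odd_prod hn
    have e : g * (z * (g⁻¹ * a * z * (g⁻¹ * a)⁻¹)) * g⁻¹ = (g * z * g⁻¹) * (a * z * a⁻¹) := by group
    have ho' : Odd (orderOf ((g * z * g⁻¹) * (a * z * a⁻¹))) := by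
      rw [← e]
      rwa [show g * (z * (g⁻¹ * a * z * (g⁻¹ * a)⁻¹)) * g⁻¹ = MulAut.conj g _ from rfl,
        (MulAut.conj g).orderOf_eq]
    obtain ⟨c, hc, hce⟩ := exists_conj_of_odd (conj_sq h.inv g) (conj_sq h.inv a) ho'
    have hcL : c ∈ L :=
      Subgroup.zpowers_le.mpr (mul_mem hg (mul_mem (mul_mem ha hz) (inv_mem ha))) hc
    refine ⟨c⁻¹ * a, mul_mem (inv_mem hcL) ha, ?_⟩
    calc c⁻¹ * a * z * (c⁻¹ * a)⁻¹ = c⁻¹ * (a * z * a⁻¹) * c := by group
      _ = _ := by rw [← hce]; group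
  · obtain ⟨c, hc, hce⟩ := exists_conj_of_odd h.inv (conj_sq h.inv g) (h.odd_prod hgH)
    exact ⟨c, Subgroup.zpowers_le.mpr (mul_mem hz hg) hc, hce⟩

/-- `z` has a class of odd size. -/
theorem Pt.odd_index [Finite G] {z : G} {H : Subgroup G} (h : Pt z H) :
    ¬ 2 ∣ (Subgroup.centralizer ({z} : Set G)).index := by
  induction hn : Nat.card G using Nat.strong_induction_on generalizing G with
  | _ n IH =>
  subst hn
  intro heven
  have : Fact (Nat.Prime 2) := ⟨Nat.prime_two⟩
  have hzH : z ∈ H := h.cent (Subgroup.mem_centralizer_singleton_iff.mpr rfl)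
  have hnc : ∀ v : G, v * v = 1 → v ≠ 1 → ¬ ∀ g : G, Commute v g := by
    intro v hv hv1 hcen
    have hvH : v ∈ H := h.cent (Subgroup.mem_centralizer_singleton_iff.mpr (hcen z).eq)
    set Z := Subgroup.zpowers v
    have hZn : Z.Normal := ⟨fun x hx g => by
      obtain ⟨i, rfl⟩ := hx
      rw [← ((hcen g).zpow_left i).eq, mul_inv_cancel_right]
      exact zpow_mem (Subgroup.mem_zpowers v) i⟩
    have hZH : Z ≤ H := Subgroup.zpowers_le.mpr hvH
    have hmem : ∀ x, x ∈ Z → x = 1 ∨ x = v := by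
      intro x hx
      obtain ⟨i, rfl⟩ := Subgroup.mem_zpowers_iff.mp hx
      rcases Int.even_or_odd i with ⟨k, rfl⟩ | ⟨k, rfl⟩
      · exact Or.inl (by rw [← two_mul, zpow_mul, zpow_two, hv, one_zpow])
      · exact Or.inr (by rw [zpow_add_one, zpow_mul, zpow_two, hv, one_zpow, one_mul])
    have hzv : ∀ g : G, g * z * g⁻¹ ≠ z * v := by
      intro g e
      obtain ⟨a, ha⟩ : ∃ a : G, a ∉ H := by
        by_contra hh
        exact h.ne_top (eq_top_iff.mpr fun x _ => by_contra fun hx => hh ⟨x, hx⟩)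
      refine ha ((h.pair g (by rw [e]; simpa using hv1)
        (by rw [e]; exact (Commute.refl z).mul_right (hcen z).symm) a).mp ?_)
      rw [e, ← mul_assoc z, h.inv, one_mul, ← (hcen a).eq, mul_inv_cancel_right]
      exact hvH
    let π := QuotientGroup.mk' Z
    have hπ : ∀ x, π x ∈ H.map π ↔ x ∈ H := fun x => by
      constructor
      · rintro ⟨y, hy, hyx⟩
        have := hZH (QuotientGroup.eq.mp (show ((y : G ⧸ Z)) = (x : G ⧸ Z) from hyx))
        simpa using mul_mem hy this
      · exact fun hx => ⟨x, hx, rfl⟩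
    have hsep : ∀ g k : G, π (g * z * g⁻¹) = π (k * z * k⁻¹) → g * z * g⁻¹ = k * z * k⁻¹ := by
      intro g k e
      rcases hmem _ (QuotientGroup.eq.mp (show ((k * z * k⁻¹ : G) : G ⧸ Z) = ((g * z * g⁻¹ : G) : G ⧸ Z) from e.symm)) with h1 | h1
      · exact (inv_mul_eq_one.mp h1).symm
      · refine absurd ?_ (hzv (k⁻¹ * g))
        rw [inv_mul_eq_iff_eq_mul] at h1
        calc k⁻¹ * g * z * (k⁻¹ * g)⁻¹ = k⁻¹ * (g * z * g⁻¹) * k := by group
          _ = z * (k⁻¹ * v * k) := by rw [h1]; group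
          _ = z * v := by rw [mul_assoc k⁻¹, (hcen k).eq, inv_mul_cancel_left]
    have hq : Pt (π z) (H.map π) := by
      refine ⟨by rw [← map_mul, h.inv, map_one], fun e => ?_, fun e => ?_, fun q => ?_, fun q hq hc k => ?_⟩
      · rcases hmem z ((QuotientGroup.eq_one_iff z).mp e) with h1 | h1
        · exact h.ne_one h1
        · exact h.ne_top (top_le_iff.mp fun x _ => h.cent
            (Subgroup.mem_centralizer_singleton_iff.mpr (by rw [h1]; exact (hcen x).eq.symm)))
      · exact h.ne_top (top_le_iff.mp fun x _ => (hπ x).mp (e ▸ Subgroup.mem_top _))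
      · obtain ⟨g, rfl⟩ := QuotientGroup.mk'_surjective Z q
        rw [← map_inv, ← map_mul, ← map_mul, hπ, hπ]
        exact h.fix g
      · obtain ⟨g, rfl⟩ := QuotientGroup.mk'_surjective Z q
        obtain ⟨k, rfl⟩ := QuotientGroup.mk'_surjective Z k
        rw [← map_inv, ← map_mul, ← map_mul] at hq hc
        have hne : g * z * g⁻¹ ≠ z := fun e => hq (by rw [e])
        have hcom : Commute z (g * z * g⁻¹) := by
          have e := hsep ((g * z * g⁻¹)) 1 (by
            simp only [π, map_mul, map_inv, one_mul, inv_one, mul_one] at hc ⊢; rw [← hc.eq]; group)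
          simp only [one_mul, inv_one, mul_one] at e
          exact (mul_inv_eq_iff_eq_mul.mp e).symm
        rw [← map_inv, ← map_inv, ← map_mul, ← map_mul, ← map_mul, ← map_mul, ← map_mul, hπ, hπ]
        exact h.pair g hne hcom k
    have hlt : Nat.card (G ⧸ Z) < Nat.card G := by
      rw [Subgroup.card_eq_card_quotient_mul_card_subgroup Z, Nat.card_zpowers,
        orderOf_eq_prime (p := 2) (by rw [pow_two, hv]) hv1]
      have : 0 < Nat.card (G ⧸ Z) := Nat.card_pos
      omega
    refine IH _ hlt hq rfl ?_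
    have e : (Subgroup.centralizer ({π z} : Set (G ⧸ Z))).comap π = Subgroup.centralizer ({z} : Set G) := by
      ext g
      rw [Subgroup.mem_comap, Subgroup.mem_centralizer_singleton_iff,
        Subgroup.mem_centralizer_singleton_iff]
      refine ⟨fun e => mul_inv_eq_iff_eq_mul.mp ?_, fun e => by rw [← map_mul, e, map_mul]⟩
      have := hsep g 1 (by rw [map_mul, map_mul, map_inv, e]; simp)
      simpa using this
    rwa [← Subgroup.index_comap_of_surjective _ (QuotientGroup.mk'_surjective Z), e]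
  -- centralizers of involutions commuting with `z` lie in `H`
  have key : ∀ j : G, j * j = 1 → j ≠ 1 → Commute j z → Subgroup.centralizer ({j} : Set G) ≤ H := by
    intro j hjj hj1 hjz
    by_contra hnot
    obtain ⟨a, ha, haH⟩ := SetLike.not_le_iff_exists.mp hnot
    set L := Subgroup.centralizer ({j} : Set G)
    have hzL : z ∈ L := Subgroup.mem_centralizer_singleton_iff.mpr hjz.symm.eq
    have hL : L ≠ ⊤ := fun e => hnc j hjj hj1 fun g =>
      (Subgroup.mem_centralizer_singleton_iff.mp (show g ∈ L by rw [e]; exact Subgroup.mem_top g)).symm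
    have hPt : Pt (⟨z, hzL⟩ : L) (H.subgroupOf L) := by
      refine ⟨Subtype.ext h.inv, fun e => h.ne_one (congrArg Subtype.val e),
        fun e => haH ((Subgroup.subgroupOf_eq_top.mp e) ha), fun g => h.fix g, fun g hg hc k =>
          h.pair g (fun e => hg (Subtype.ext e)) (congrArg Subtype.val hc.eq) k⟩
    have hodd := IH _ (lt_of_le_of_ne (Nat.le_of_dvd Nat.card_pos (Subgroup.card_subgroup_dvd_card L))
      fun e => hL (Subgroup.eq_top_of_card_eq L e)) hPt rfl
    set C := Subgroup.centralizer ({z} : Set G)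
    have hcen : Subgroup.centralizer ({(⟨z, hzL⟩ : L)} : Set L) = C.subgroupOf L := by
      ext x
      rw [Subgroup.mem_subgroupOf, Subgroup.mem_centralizer_singleton_iff,
        Subgroup.mem_centralizer_singleton_iff]
      exact Subtype.ext_iff
    rw [hcen] at hodd
    have hP : IsPGroup 2 (Subgroup.zpowers j) := IsPGroup.of_card (n := 1)
      (by rw [Nat.card_zpowers, pow_one, orderOf_eq_prime (p := 2) (by rw [pow_two, hjj]) hj1])
    have hmod := hP.card_modEq_card_fixedPoints (G ⧸ C)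
    let f : L ⧸ C.subgroupOf L → MulAction.fixedPoints (Subgroup.zpowers j) (G ⧸ C) :=
      Quotient.lift (fun x => ⟨((x : G) : G ⧸ C), fun y => by
        obtain ⟨i, hi⟩ := y.2
        show (((y : G) * (x : G) : G) : G ⧸ C) = ((x : G) : G ⧸ C)
        have hxj : Commute (x : G) j := Subgroup.mem_centralizer_singleton_iff.mp x.2
        rw [← hi, ← (hxj.zpow_right i).eq, QuotientGroup.eq, mul_inv_rev, mul_assoc,
          inv_mul_cancel, mul_one]
        exact inv_mem (zpow_mem (Subgroup.mem_centralizer_singleton_iff.mpr hjz.eq) i)⟩)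
        fun x y hxy => Subtype.ext (QuotientGroup.eq.mpr (by
          have := QuotientGroup.leftRel_apply.mp hxy
          exact this))
    have hf : Function.Bijective f := by
      constructor
      · rintro ⟨x⟩ ⟨y⟩ e
        refine Quotient.sound (QuotientGroup.leftRel_apply.mpr ?_)
        have h1 : (((x : L) : G) : G ⧸ C) = (((y : L) : G) : G ⧸ C) := congrArg Subtype.val e
        have h2 : (x : G)⁻¹ * (y : G) ∈ C := QuotientGroup.eq.mp h1
        exact h2
      · rintro ⟨q, hq⟩
        obtain ⟨g, rfl⟩ := QuotientGroup.mk_surjective q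
        have hfix : g⁻¹ * j * g ∈ C := by
          have h0 : ((g : G) : G ⧸ C) = ((j * g : G) : G ⧸ C) := (hq ⟨j, Subgroup.mem_zpowers j⟩).symm
          have h1 := QuotientGroup.eq.mp h0
          rwa [← mul_assoc] at h1
        have hgL : g * z * g⁻¹ ∈ L := by
          rw [Subgroup.mem_centralizer_singleton_iff]
          have h2 := Subgroup.mem_centralizer_singleton_iff.mp hfix
          calc g * z * g⁻¹ * j = g * (z * (g⁻¹ * j * g)) * g⁻¹ := by group
            _ = _ := by rw [← h2]; group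
        obtain ⟨y, hy, hyg⟩ := h.one_class hzL ha haH hgL
        refine ⟨QuotientGroup.mk ⟨y, hy⟩, Subtype.ext (QuotientGroup.eq.mpr ?_)⟩
        rw [Subgroup.mem_centralizer_singleton_iff]
        calc y⁻¹ * g * z = y⁻¹ * (g * z * g⁻¹) * g := by group
          _ = _ := by rw [← hyg]; group
    rw [← Nat.card_eq_of_bijective f hf, ← Subgroup.index_eq_card, ← Subgroup.index_eq_card] at hmod
    exact hodd ((Nat.ModEq.dvd_iff hmod (dvd_refl 2)).mp heven)
  -- a central involution of a Sylow subgroup containing `z`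
  obtain ⟨S, hS⟩ := (IsPGroup.of_card (n := 1) (G := Subgroup.zpowers z)
    (by rw [Nat.card_zpowers, pow_one, orderOf_eq_prime (p := 2) (by rw [pow_two, h.inv]) h.ne_one]) :
      IsPGroup 2 (Subgroup.zpowers z)).exists_le_sylow
  have hzS : z ∈ (S : Subgroup G) := hS (Subgroup.mem_zpowers z)
  have : Nontrivial (S : Subgroup G) := (Subgroup.nontrivial_iff_ne_bot _).mpr fun e =>
    h.ne_one (Subgroup.mem_bot.mp (e ▸ hzS))
  have := S.isPGroup'.center_nontrivial
  obtain ⟨n, hn⟩ := IsPGroup.iff_card.mp (S.isPGroup'.to_subgroup (Subgroup.center (S : Subgroup G)))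
  have hn0 : n ≠ 0 := fun e => by
    subst e
    exact (Finite.one_lt_card (α := Subgroup.center (S : Subgroup G))).ne' hn
  obtain ⟨w, hw⟩ := exists_prime_orderOf_dvd_card' (G := Subgroup.center (S : Subgroup G)) 2
    (hn ▸ dvd_pow_self 2 hn0)
  set w' : G := ((w : (S : Subgroup G)) : G)
  have hwo : orderOf w' = 2 := by rw [Subgroup.orderOf_coe, Subgroup.orderOf_coe, hw]
  have hwS : ∀ s ∈ (S : Subgroup G), Commute w' s := fun s hs =>
    (congrArg Subtype.val ((Subgroup.mem_center_iff.mp w.2) ⟨s, hs⟩)).symm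
  have hindex : ∀ g : G, g * w' * g⁻¹ ≠ z := by
    intro g e
    have hle : ((g • S : Sylow 2 G) : Subgroup G) ≤ Subgroup.centralizer ({z} : Set G) := by
      rw [Sylow.coe_subgroup_smul]
      rintro x ⟨s, hs, rfl⟩
      rw [Subgroup.mem_centralizer_singleton_iff, ← e]
      show g * s * g⁻¹ * (g * w' * g⁻¹) = g * w' * g⁻¹ * (g * s * g⁻¹)
      calc g * s * g⁻¹ * (g * w' * g⁻¹) = g * (s * w') * g⁻¹ := by group
        _ = _ := by rw [← (hwS s hs).eq]; group
    exact (g • S).not_dvd_index (heven.trans (Subgroup.index_dvd_of_le hle))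
  have hwz : Commute w' z := hwS z hzS
  have hww : w' * w' = 1 := by rw [← pow_two, ← hwo, pow_orderOf_eq_one]
  have hw1 : w' ≠ 1 := fun e => by rw [e, orderOf_one] at hwo; omega
  have hCw : Subgroup.centralizer ({w'} : Set G) ≤ H := key w' hww hw1 hwz
  obtain ⟨g, hg⟩ : ∃ g : G, g ∉ H := by
    by_contra hh
    exact h.ne_top (eq_top_iff.mpr fun x _ => by_contra fun hx => hh ⟨x, hx⟩)
  set x := g * w' * g⁻¹ with hx
  have hxx : x * x = 1 := conj_sq hww g
  rcases Nat.even_or_odd (orderOf (z * x)) with ⟨m, hm⟩ | ho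
  · have hm0 : 0 < m := by
      have := orderOf_pos (z * x); omega
    set j := (z * x) ^ m with hj
    have hj2 : (z * x) ^ (2 * m) = 1 := by rw [two_mul, ← hm]; exact pow_orderOf_eq_one _
    obtain ⟨hjz, hjx⟩ := dihedral_central h.inv hxx hj2
    rw [← hj] at hjz hjx
    have hjj : j * j = 1 := by rw [hj, ← pow_add, ← two_mul, hj2]
    have hj1 : j ≠ 1 := pow_ne_one_of_lt_orderOf hm0.ne' (by omega)
    have hxH : x ∈ H := key j hjj hj1 hjz (Subgroup.mem_centralizer_singleton_iff.mpr hjx.symm.eq)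
    have hjg : g⁻¹ * j * g ∈ H := by
      refine hCw (Subgroup.mem_centralizer_singleton_iff.mpr ?_)
      have e : g⁻¹ * j * g * w' = g⁻¹ * (j * x) * g := by rw [hx]; group
      rw [e, hjx.eq, hx]; group
    have hjH : j ∈ H := h.cent (Subgroup.mem_centralizer_singleton_iff.mpr hjz.eq)
    rcases Nat.even_or_odd m with ⟨k, rfl⟩ | ⟨k, rfl⟩
    · set c := (z * x) ^ k
      have ht : c * z * c⁻¹ = j * z := by rw [dihedral_conj h.inv hxx, hj, two_mul]
      have hp := h.pair c (by rw [ht]; simpa using hj1)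
        (by rw [ht]; exact (hjz.symm.mul_right (Commute.refl z))) g⁻¹
      rw [ht, show z * (j * z) = j from by rw [← mul_assoc, hjz.symm.eq, mul_assoc, h.inv, mul_one],
        inv_inv] at hp
      exact hg (inv_inv g ▸ inv_mem (hp.mp hjg))
    · set c := (z * x) ^ k
      have ht : c * z * c⁻¹ = j * x := by
        rw [dihedral_conj h.inv hxx, hj, pow_succ, mul_assoc _ (z * x), mul_assoc z, hxx, mul_one]
      have hcH : c ∈ H := (h.fix c).mp (by rw [ht]; exact mul_mem hjH hxH)
      have hgc : g⁻¹ * c ∈ H := by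
        refine (h.fix _).mp ?_
        have e : g⁻¹ * c * z * (g⁻¹ * c)⁻¹ = g⁻¹ * (c * z * c⁻¹) * g := by group
        rw [e, ht, hx]
        have hw'H : w' ∈ H := hCw (Subgroup.mem_centralizer_singleton_iff.mpr rfl)
        have e2 : g⁻¹ * (j * (g * w' * g⁻¹)) * g = g⁻¹ * j * g * w' := by group
        rw [e2]
        exact mul_mem hjg hw'H
      exact hg (inv_inv g ▸ inv_mem (by simpa using mul_mem hgc (inv_mem hcH)))
  · obtain ⟨c, -, hc⟩ := exists_conj_of_odd h.inv hxx ho
    refine hindex (c⁻¹ * g) ?_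
    calc c⁻¹ * g * w' * (c⁻¹ * g)⁻¹ = c⁻¹ * x * c := by rw [hx]; group
      _ = z := by rw [← hc]; group

/-- The two forms of the condition on an isolated point involution. -/
theorem result {G : Type*} [Group G] [Finite G] (z : G) (hz : orderOf z = 2) (H : Subgroup G) (hH : H ≠ ⊤)
    (h0 : ∀ g : G, z ∈ H.map (MulAut.conj g).toMonoidHom ↔ g ∈ H) :
    (∀ t : G, IsConj z t → t ≠ z → t * z = z * t → ∀ g : G, z * t ∈ H.map (MulAut.conj g).toMonoidHom ↔ g ∈ H) ↔
      ((∃ P : Sylow 2 G, z ∈ (Subgroup.center ↥(P : Subgroup G)).map (P : Subgroup G).subtype) ∧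
        ∀ t : G, IsConj z t → t ≠ z → t * z = z * t → Subgroup.centralizer ({z * t} : Set G) ≤ H) := by
  have : Fact (Nat.Prime 2) := ⟨Nat.prime_two⟩
  have hmap : ∀ g x : G, x ∈ H.map (MulAut.conj g).toMonoidHom ↔ g⁻¹ * x * g ∈ H := fun g x => by
    rw [Subgroup.mem_map_equiv, MulAut.conj_symm_apply]
  have hzz : z * z = 1 := by rw [← pow_two, ← hz, pow_orderOf_eq_one]
  have hz1 : z ≠ 1 := fun e => by rw [e, orderOf_one] at hz; omega
  have hfix : ∀ g, g * z * g⁻¹ ∈ H ↔ g ∈ H := fun g => by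
    have := h0 g⁻¹
    rwa [hmap, inv_inv, inv_mem_iff] at this
  have hzH : z ∈ H := by simpa using (hfix 1).mpr H.one_mem
  have htH : ∀ t : G, t * z = z * t → t ∈ H := fun t ht => (hfix t).mp (by rwa [ht, mul_inv_cancel_right])
  constructor
  · intro h
    have hpt : Pt z H := ⟨hzz, hz1, hH, hfix, fun g hne hc k => by
      have := h _ (isConj_iff.mpr ⟨g, rfl⟩) hne hc.symm.eq k⁻¹
      rwa [hmap, inv_inv, inv_mem_iff] at this⟩
    refine ⟨?_, fun t ht hne hc g hg => (h t ht hne hc g).mp ?_⟩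
    · set C := Subgroup.centralizer ({z} : Set G)
      obtain ⟨Q⟩ : Nonempty (Sylow 2 C) := inferInstance
      obtain ⟨P, hP⟩ := (Q.isPGroup'.map C.subtype).exists_le_sylow
      have hcard : Nat.card (P : Subgroup G) ≤ Nat.card ((Q : Subgroup C).map C.subtype) := by
        rw [Subgroup.card_subtype]
        have h1 : (P : Subgroup G) = (P : Subgroup G) := rfl
        rw [Sylow.card_eq_multiplicity, Sylow.card_eq_multiplicity, ← Subgroup.card_mul_index C,
          Nat.factorization_mul Nat.card_pos.ne' Subgroup.index_ne_zero_of_finite, Finsupp.add_apply,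
          Nat.factorization_eq_zero_of_not_dvd hpt.odd_index, add_zero]
      have heq := Subgroup.eq_of_le_of_card_ge hP hcard
      have hPC : (P : Subgroup G) ≤ C := heq ▸ Subgroup.map_subtype_le _
      have hzP : z ∈ (P : Subgroup G) := by
        have hzC : z ∈ C := Subgroup.mem_centralizer_singleton_iff.mpr rfl
        have hn : (Subgroup.zpowers (⟨z, hzC⟩ : C)).Normal := ⟨fun x hx k => by
          obtain ⟨i, rfl⟩ := hx
          have hk : Commute k (⟨z, hzC⟩ : C) := Subtype.ext (Subgroup.mem_centralizer_singleton_iff.mp k.2)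
          rw [(hk.zpow_right i).eq, mul_inv_cancel_right]
          exact zpow_mem (Subgroup.mem_zpowers _) i⟩
        have hp : IsPGroup 2 (Subgroup.zpowers (⟨z, hzC⟩ : C)) := IsPGroup.of_card (n := 1)
          (by rw [Nat.card_zpowers, Subgroup.orderOf_mk, hz, pow_one])
        exact heq ▸ ⟨⟨z, hzC⟩, hp.le_sylow_of_normal Q (Subgroup.mem_zpowers _), rfl⟩
      refine ⟨P, ⟨z, hzP⟩, Subgroup.mem_center_iff.mpr fun s => Subtype.ext ?_, rfl⟩
      exact Subgroup.mem_centralizer_singleton_iff.mp (hPC s.2)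
    · rw [hmap, mul_assoc, ← Subgroup.mem_centralizer_singleton_iff.mp hg, inv_mul_cancel_left]
      exact mul_mem hzH (htH t hc)
  · rintro ⟨⟨P, ⟨zc, hzc, hzeq⟩⟩, hcent⟩ t ht hne hc g
    rw [hmap]
    refine ⟨fun hy => ?_, fun hg => mul_mem (mul_mem (inv_mem hg) (mul_mem hzH (htH t hc))) hg⟩
    have hPH : (P : Subgroup G) ≤ H := fun s hs => (hfix s).mp (by
      have := congrArg Subtype.val (Subgroup.mem_center_iff.mp hzc ⟨s, hs⟩)
      simp only [Subgroup.coe_mul] at this
      rw [← hzeq] at hzH ⊢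
      rw [show s * (P : Subgroup G).subtype zc = (P : Subgroup G).subtype zc * s from this,
        mul_inv_cancel_right]
      exact hzH)
    set y := g⁻¹ * (z * t) * g with hy'
    have htt : t * t = 1 := by
      obtain ⟨c, rfl⟩ := isConj_iff.mp ht
      exact conj_sq hzz c
    have hyy : y * y = 1 := by
      rw [hy', show g⁻¹ * (z * t) * g * (g⁻¹ * (z * t) * g) = g⁻¹ * (z * (t * z) * t) * g by group,
        hc, show g⁻¹ * (z * (z * t) * t) * g = g⁻¹ * (z * z * (t * t)) * g by group, hzz, htt]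
      group
    obtain ⟨Q, hQ⟩ := (show IsPGroup 2 (Subgroup.zpowers (⟨y, hy⟩ : H)) by
      obtain ⟨k, -, hk⟩ := (Nat.dvd_prime_pow Nat.prime_two).mp (orderOf_dvd_of_pow_eq_one
        (show (⟨y, hy⟩ : H) ^ 2 ^ 1 = 1 from Subtype.ext (by
          show y ^ (2 ^ 1) = 1
          rw [pow_one, pow_two, hyy])))
      exact IsPGroup.of_card (n := k) (by rw [Nat.card_zpowers, hk])).exists_le_sylow
    obtain ⟨a, ha⟩ := MulAction.exists_smul_eq H (P.subtype hPH) Q
    have hmemQ : (⟨y, hy⟩ : H) ∈ ((a • P.subtype hPH : Sylow 2 H) : Subgroup H) := by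
      rw [ha]; exact hQ (Subgroup.mem_zpowers _)
    rw [Sylow.coe_subgroup_smul] at hmemQ
    obtain ⟨s, hs, hse⟩ := hmemQ
    have hsy : (a : G) * (s : G) * (a : G)⁻¹ = y := congrArg Subtype.val hse
    have hsz : Commute (s : G) z := by
      have := congrArg Subtype.val (Subgroup.mem_center_iff.mp hzc ⟨(s : G), hs⟩)
      rw [← hzeq]; exact this
    have hC : g * a * z * (g * a)⁻¹ ∈ Subgroup.centralizer ({z * t} : Set G) := by
      rw [Subgroup.mem_centralizer_singleton_iff]
      have e : z * t = g * a * (s : G) * (g * a)⁻¹ := by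
        calc z * t = g * y * g⁻¹ := by rw [hy']; group
          _ = _ := by rw [← hsy]; group
      rw [e]
      calc g * a * z * (g * a)⁻¹ * (g * a * (s : G) * (g * a)⁻¹) = g * a * (z * s) * (g * a)⁻¹ := by group
        _ = _ := by rw [← hsz.eq]; group
    have := (hfix _).mp (hcent t ht hne hc hC)
    simpa using mul_mem this (inv_mem a.2)

end Cfsg.Agent.S1922
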