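import Cfsg.Statements.S1924
import Cfsg.Agent.Control.Basic
import Cfsg.Agent.Fusion.Residual

set_option autoImplicit false
open Cfsg

namespace Cfsg.Agent.S1924

open Subgroup Cfsg.Agent.Control
open scoped commutatorElement

theorem sign_eq_neg_one {α : Type*} [Fintype α] [DecidableEq α] (σ : Equiv.Perm α) {j m : ℕ}
    (hσ : σ ^ (2 ^ (j + 1)) = 1) (hfix : ∀ x, (σ ^ (2 ^ j)) x ≠ x)
    (hcard : Fintype.card α = 2 ^ (j + 1) * m) (hm : Odd m) : Equiv.Perm.sign σ = -1 := by
  have hlen : ∀ l ∈ σ.cycleType, l = 2 ^ (j + 1) := by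
    intro l hl
    have hdvd : l ∣ 2 ^ (j + 1) :=
      (Equiv.Perm.dvd_of_mem_cycleType hl).trans (orderOf_dvd_of_pow_eq_one hσ)
    obtain ⟨i, hi, rfl⟩ := (Nat.dvd_prime_pow Nat.prime_two).1 hdvd
    by_contra hne
    have hij : i ≤ j := by
      rcases Nat.lt_or_eq_of_le hi with h | h
      · omega
      · exact absurd (h ▸ rfl) hne
    rw [Equiv.Perm.cycleType_def] at hl
    obtain ⟨c, hc, hcl⟩ := Multiset.mem_map.1 hl
    have hc' := Equiv.Perm.mem_cycleFactorsFinset_iff.1 (show c ∈ σ.cycleFactorsFinset from hc)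
    obtain ⟨x, hx⟩ := hc'.1.nonempty_support
    refine hfix x ?_
    have hpow : ∀ n : ℕ, (σ ^ n) x = (c ^ n) x ∧ (c ^ n) x ∈ c.support := by
      intro n
      induction n with
      | zero => exact ⟨rfl, hx⟩
      | succ n ih =>
        rw [pow_succ', pow_succ', Equiv.Perm.mul_apply, Equiv.Perm.mul_apply, ih.1]
        exact ⟨(hc'.2 _ ih.2).symm, Equiv.Perm.apply_mem_support.2 ih.2⟩
    have hord : orderOf c = 2 ^ i := hc'.1.orderOf.trans hcl
    have hone : c ^ (2 ^ j) = 1 := by
      rw [← orderOf_dvd_iff_pow_eq_one, hord]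
      exact pow_dvd_pow 2 hij
    rw [(hpow _).1, hone, Equiv.Perm.one_apply]
  have hsupp : σ.support = Finset.univ := by
    refine Finset.eq_univ_of_forall fun x => Equiv.Perm.mem_support.2 fun h => hfix x ?_
    exact Equiv.Perm.pow_apply_eq_self_of_apply_eq_self h _
  have hrep : σ.cycleType = Multiset.replicate (Multiset.card σ.cycleType) (2 ^ (j + 1)) :=
    Multiset.eq_replicate_card.2 hlen
  have hsum := σ.sum_cycleType
  rw [hsupp, Finset.card_univ, hcard, hrep, Multiset.sum_replicate, smul_eq_mul] at hsum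
  have hk : Multiset.card σ.cycleType = m := by
    rw [mul_comm] at hsum
    exact Nat.eq_of_mul_eq_mul_left (by positivity) hsum
  rw [Equiv.Perm.sign_of_cycleType, hrep, Multiset.sum_replicate, Multiset.card_replicate, hk,
    smul_eq_mul]
  refine Odd.neg_one_pow ?_
  refine Even.add_odd ?_ hm
  exact (Nat.even_pow.2 ⟨even_two, by omega⟩).mul_left _

/-- An element acting semiregularly with odd many orbits lies outside `O²(G)`. -/
theorem not_mem_pResidual {G : Type*} [Group G] [Finite G] (H : Subgroup G) (c : G) {j m : ℕ}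
    (hc : orderOf c = 2 ^ (j + 1)) (hH : H.index = 2 ^ (j + 1) * m) (hm : Odd m)
    (hconj : ∀ g : G, g * c ^ (2 ^ j) * g⁻¹ ∉ H) : c ∉ Cfsg.pResidual 2 G := by
  classical
  haveI : Fintype (G ⧸ H) := Fintype.ofFinite _
  set f : G →* ℤˣ := Equiv.Perm.sign.comp (MulAction.toPermHom G (G ⧸ H)) with hf
  have hA : IsPGroup 2 ℤˣ := IsPGroup.of_card (n := 1) (by simp)
  intro hcmem
  have h1 : f c = 1 := MonoidHom.mem_ker.1 (Fusion.pResidual_le_ker f hA hcmem)
  have h2 : f c = -1 := by
    refine sign_eq_neg_one _ (j := j) (m := m) ?_ ?_ ?_ hm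
    · rw [← map_pow, ← hc, pow_orderOf_eq_one, map_one]
    · intro q hq
      obtain ⟨g, rfl⟩ := QuotientGroup.mk_surjective q
      rw [← map_pow] at hq
      change ((c ^ (2 ^ j) * g : G) : G ⧸ H) = (g : G ⧸ H) at hq
      refine hconj g⁻¹ ?_
      have := H.inv_mem (QuotientGroup.eq.1 hq.symm)
      simpa [mul_assoc] using H.inv_mem this
    · rw [← Nat.card_eq_fintype_card, ← Subgroup.index_eq_card, hH]
  rw [h1] at h2
  exact absurd h2 (by decide)

theorem add_self_zmod_two : ∀ i : ZMod 2, i + i = 0 := by decide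

theorem orderOf_eq_two_of_notMem {n : ℕ} (hn : 2 ≤ n) (C : Subgroup (DihedralGroup n))
    (hC : IsCyclic ↥C) (hCi : C.index = 2) {x : DihedralGroup n} (hx : x ∉ C) : orderOf x = 2 := by
  haveI : NeZero n := ⟨by omega⟩
  cases x with
  | sr i => exact DihedralGroup.orderOf_sr i
  | r i =>
    have hcard : Nat.card C = n := by
      have := C.card_mul_index
      rw [hCi, DihedralGroup.nat_card] at this
      omega
    obtain ⟨⟨c, hc⟩, hgen⟩ := hC.exists_ofOrder_eq_natCard
    rw [Subgroup.orderOf_mk, hcard] at hgen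
    have hCeq : C = zpowers c :=
      (eq_of_le_of_card_ge (zpowers_le.2 hc) (by rw [hcard, Nat.card_zpowers, hgen])).symm
    cases c with
    | r k =>
      exfalso
      apply hx
      have hrot : zpowers (DihedralGroup.r k) ≤ zpowers (DihedralGroup.r (1 : ZMod n)) :=
        zpowers_le.2 ⟨(k.val : ℤ), by simp [DihedralGroup.r_one_pow]⟩
      have : C = zpowers (DihedralGroup.r (1 : ZMod n)) := by
        refine eq_of_le_of_card_ge (hCeq ▸ hrot) ?_
        rw [hcard, Nat.card_zpowers, DihedralGroup.orderOf_r_one]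
      rw [this]
      exact ⟨(i.val : ℤ), by simp [DihedralGroup.r_one_pow]⟩
    | sr k =>
      rw [DihedralGroup.orderOf_sr] at hgen
      subst hgen
      have hi : i ≠ 0 := by
        rintro rfl
        exact hx C.one_mem
      refine orderOf_eq_prime ?_ ?_
      · rw [sq, DihedralGroup.r_mul_r]
        have : i + i = 0 := add_self_zmod_two i
        rw [this, DihedralGroup.one_def]
      · rw [DihedralGroup.one_def]
        exact fun h => hi (DihedralGroup.r.inj h)

/-- A consequence of Thompson's transfer lemma. Let G be a finite group, L a subgroup with O²(L) = L, T a Sylow 2-subgroup of L and S a Sylow 2-subgroup of G containing T. Suppose D ≤ S is a dihedral subgroup of order at least 4 (the four-group counts) with D ∩ T = 1 and S = TD as a set of products (so |S| = |T|·|D|), and C ≤ D is cyclic of index 2 in D. If no involution of D outside C is G-conjugate to an involution of the subgroup generated by T and C, and the involution of C is not G-conjugate to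 any involution of T, then G has a normal subgroup K, containing every Sylow 2-subgroup of L as a Sylow 2-subgroup, with G = KD. -/
theorem result {G : Type*} [Group G] [Finite G] (L T S D C : Subgroup G) (hL : Cfsg.pResidual 2 ↥L = ⊤)
    (hTL : T ≤ L) (hT2 : IsPGroup 2 T) (hTsyl : ¬ 2 ∣ T.relIndex L)
    (hS2 : IsPGroup 2 S) (hSsyl : ¬ 2 ∣ S.index) (hTS : T ≤ S)
    (hDS : D ≤ S) (hDih : ∃ n : ℕ, 2 ≤ n ∧ Nonempty (↥D ≃* DihedralGroup n)) (hDT : D ⊓ T = ⊥) (hTD : T ⊔ D = S) (hTDc : Nat.card T * Nat.card D = Nat.card S)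
    (hCD : C ≤ D) (hC : IsCyclic ↥C) (hCi : C.relIndex D = 2)
    (h1 : ∀ x ∈ D, x ∉ C → orderOf x = 2 → ∀ g : G, g * x * g⁻¹ ∈ T ⊔ C → False)
    (h2 : ∀ c ∈ C, orderOf c = 2 → ∀ g : G, g * c * g⁻¹ ∈ T → False) :
    ∃ K : Subgroup G, K.Normal ∧ K ⊔ D = ⊤ ∧
      ∀ T' : Subgroup G, T' ≤ L → IsPGroup 2 T' → ¬ 2 ∣ T'.relIndex L → T' ≤ K ∧ ¬ 2 ∣ T'.relIndex K := by
  classical
  obtain ⟨n, hn, ⟨e⟩⟩ := hDih
  set K := Cfsg.pResidual 2 G with hK
  have hinv : ∀ x ∈ D, x ∉ C → orderOf x = 2 := by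
    intro x hxD hxC
    set C' := (C.subgroupOf D).map e.toMonoidHom with hC'
    have hcyc : IsCyclic ↥C' := by
      haveI := hC
      exact (MulEquiv.isCyclic ((C.subgroupOf D).equivMapOfInjective _ e.injective)).1
        ((MulEquiv.isCyclic (subgroupOfEquivOfLe hCD)).2 hC)
    have hidx : C'.index = 2 := by
      rw [hC', index_map_of_bijective (f := e.toMonoidHom) e.bijective]
      exact hCi
    have hx' : e ⟨x, hxD⟩ ∉ C' := by
      rintro ⟨y, hy, hye⟩
      have := e.injective hye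
      subst this
      exact hxC hy
    have := orderOf_eq_two_of_notMem hn C' hcyc hidx hx'
    rwa [MulEquiv.orderOf_eq, Subgroup.orderOf_mk] at this
  have hTsylL : SylIn 2 T L := ⟨hTL, hT2, hTsyl⟩
  have hLK : L ≤ K := by
    intro l hl
    have h : (⟨l, hl⟩ : L) ∈ Cfsg.pResidual 2 ↥L := hL ▸ mem_top _
    exact Fusion.map_pResidual_le L.subtype ⟨_, h, rfl⟩
  -- `S = TD` with unique factorisation
  have hfac : ∀ s ∈ S, ∃ t ∈ T, ∃ d ∈ D, s = t * d := by
    have hinj : Function.Injective (fun q : T × D =>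
        (⟨(q.1 : G) * q.2, S.mul_mem (hTS q.1.2) (hDS q.2.2)⟩ : S)) := by
      rintro ⟨t, d⟩ ⟨t', d'⟩ h
      have h' : (t : G) * d = t' * d' := congrArg Subtype.val h
      have hmem : (t' : G)⁻¹ * t ∈ D ⊓ T := by
        refine ⟨?_, T.mul_mem (T.inv_mem t'.2) t.2⟩
        have : (t' : G)⁻¹ * t = d' * (d : G)⁻¹ := by
          rw [inv_mul_eq_iff_eq_mul, ← mul_assoc, ← h', mul_inv_cancel_right]
        rw [this]
        exact D.mul_mem d'.2 (D.inv_mem d.2)
      rw [hDT, mem_bot, inv_mul_eq_one] at hmem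
      have ht : t = t' := Subtype.ext hmem.symm
      subst ht
      exact Prod.ext rfl (Subtype.ext (mul_left_cancel h'))
    have hbij := (Nat.bijective_iff_injective_and_card _).2 ⟨hinj, by rw [Nat.card_prod, hTDc]⟩
    intro s hs
    obtain ⟨⟨t, d⟩, h⟩ := hbij.2 ⟨s, hs⟩
    exact ⟨t, t.2, d, d.2, (congrArg Subtype.val h).symm⟩
  -- the subgroup `TC`
  set H := T ⊔ C with hH
  have hHS : H ≤ S := sup_le hTS (hCD.trans hDS)
  have hHD : ∀ d ∈ D, d ∈ H → d ∈ C := by
    intro d hd hdH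
    by_contra hdC
    exact h1 d hd hdC (hinv d hd hdC) 1 (by simpa using hdH)
  have hprod : ∀ (R : Subgroup G) (C₀ : Subgroup G), T ≤ R → R ≤ S → C₀ ≤ R → C₀ ≤ D →
      (∀ d ∈ D, d ∈ R → d ∈ C₀) → Nat.card R = Nat.card T * Nat.card C₀ := by
    intro R C₀ hTR hRS hCR hC₀D hR
    rw [← Nat.card_prod]
    refine (Nat.card_eq_of_bijective (fun q : T × C₀ =>
      (⟨(q.1 : G) * q.2, R.mul_mem (hTR q.1.2) (hCR q.2.2)⟩ : R)) ⟨?_, ?_⟩).symm
    · rintro ⟨t, d⟩ ⟨t', d'⟩ h
      have h' : (t : G) * d = t' * d' := congrArg Subtype.val h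
      have hmem : (t' : G)⁻¹ * t ∈ D ⊓ T := by
        refine ⟨?_, T.mul_mem (T.inv_mem t'.2) t.2⟩
        have : (t' : G)⁻¹ * t = d' * (d : G)⁻¹ := by
          rw [inv_mul_eq_iff_eq_mul, ← mul_assoc, ← h', mul_inv_cancel_right]
        rw [this]
        exact hC₀D (C₀.mul_mem d'.2 (C₀.inv_mem d.2))
      rw [hDT, mem_bot, inv_mul_eq_one] at hmem
      have ht : t = t' := Subtype.ext hmem.symm
      subst ht
      exact Prod.ext rfl (Subtype.ext (mul_left_cancel h'))
    · rintro ⟨r, hr⟩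
      obtain ⟨t, ht, d, hd, rfl⟩ := hfac r (hRS hr)
      have hdR : d ∈ R := by
        have := R.mul_mem (R.inv_mem (hTR ht)) hr
        rwa [inv_mul_cancel_left] at this
      exact ⟨(⟨t, ht⟩, ⟨d, hR d hd hdR⟩), rfl⟩
  have hHcard : Nat.card H = Nat.card T * Nat.card C :=
    hprod H C le_sup_left hHS le_sup_right hCD hHD
  have hCcard : Nat.card C * 2 = Nat.card D := by
    rw [← hCi, relIndex, ← Nat.card_congr (subgroupOfEquivOfLe hCD).toEquiv, card_mul_index]
  have hHidx : H.index = 2 ^ (0 + 1) * S.index := by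
    have e1 : H.relIndex S = 2 := by
      have := (H.subgroupOf S).card_mul_index
      rw [Nat.card_congr (subgroupOfEquivOfLe hHS).toEquiv, ← hTDc, ← hCcard, hHcard, ← mul_assoc]
        at this
      exact Nat.eq_of_mul_eq_mul_left (mul_pos Nat.card_pos Nat.card_pos) this
    rw [← relIndex_mul_index hHS, e1]
    rfl
  have hSodd : Odd S.index := Nat.odd_iff.2 (by omega)
  have hxK : ∀ x ∈ D, x ∉ C → x ∉ K := by
    intro x hxD hxC
    refine not_mem_pResidual H x (j := 0) (m := S.index) (by simpa using hinv x hxD hxC) hHidx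
      hSodd fun g hg => h1 x hxD hxC (hinv x hxD hxC) g (by simpa using hg)
  -- the Sylow subgroup of `K`
  set R := S ⊓ K with hR
  have hRsyl : SylIn 2 R K := by
    have hStop : SylIn 2 S ⊤ := ⟨le_top, hS2, by rwa [relIndex_top_right]⟩
    exact hStop.inf_normal le_top le_normalizer_of_normal
  have hTR : T ≤ R := le_inf hTS (hTL.trans hLK)
  set C₀ := C ⊓ K with hC₀
  have hRcard : Nat.card R = Nat.card T * Nat.card C₀ := by
    refine hprod R C₀ hTR inf_le_left (le_inf ((inf_le_left).trans (hCD.trans hDS)) inf_le_right)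
      (inf_le_left.trans hCD) fun d hd hdR => ⟨?_, hdR.2⟩
    by_contra hdC
    exact hxK d hd hdC hdR.2
  have hC₀1 : C₀ = ⊥ := by
    haveI : IsCyclic ↥C₀ :=
      isCyclic_of_injective (inclusion (inf_le_left : C₀ ≤ C)) (inclusion_injective _)
    obtain ⟨⟨c, hc⟩, hgen⟩ := (‹IsCyclic ↥C₀›).exists_ofOrder_eq_natCard
    rw [Subgroup.orderOf_mk] at hgen
    obtain ⟨k, hk⟩ := IsPGroup.iff_card.mp (hS2.to_le (inf_le_left.trans (hCD.trans hDS)) :
      IsPGroup 2 ↥C₀)
    rcases k with _ | j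
    · exact card_eq_one.1 (by simpa using hk)
    exfalso
    rw [hk] at hgen
    have hcK : c ∈ K := hc.2
    have hkey : (⟨c, hcK⟩ : K) ∉ Cfsg.pResidual 2 ↥K := by
      refine not_mem_pResidual (T.subgroupOf K) _ (j := j) (m := R.relIndex K)
        (by rw [Subgroup.orderOf_mk]; exact hgen) ?_
        (Nat.odd_iff.2 (by have := hRsyl.not_dvd; omega)) ?_
      · show T.relIndex K = _
        rw [← relIndex_mul_relIndex T R K hTR hRsyl.le]
        congr 1
        have := (T.subgroupOf R).card_mul_index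
        rw [Nat.card_congr (subgroupOfEquivOfLe hTR).toEquiv, hRcard, hk] at this
        exact Nat.eq_of_mul_eq_mul_left Nat.card_pos this
      · intro g hg
        refine h2 (c ^ (2 ^ j)) (C.pow_mem hc.1 _) ?_ g ?_
        · rw [orderOf_pow, hgen, Nat.gcd_eq_right (pow_dvd_pow 2 (Nat.le_succ j)),
            Nat.pow_div (Nat.le_succ j) two_pos]
          simp
        · simpa [mem_subgroupOf] using hg
    exact hkey ((Fusion.pResidual_pResidual (G := G) (p := 2)).ge (mem_top _))
  have hTeq : T = R := by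
    refine eq_of_le_of_card_ge hTR ?_
    rw [hRcard, hC₀1]
    simp
  have hST : SylIn 2 T K := hTeq ▸ hRsyl
  refine ⟨K, Fusion.pResidualNormal, ?_, fun T' hT'L hT'p hT'n => ⟨hT'L.trans hLK, ?_⟩⟩
  · rw [eq_top_iff]
    obtain ⟨P, hP⟩ := SylIn.exists_sylow (p := 2) (T := S) ⟨le_top, hS2, by rwa [relIndex_top_right]⟩
    rw [← Fusion.sylow_sup_pResidual (p := 2) P, hP, ← hTD]
    exact sup_le (sup_le (le_sup_of_le_left (hST.le)) le_sup_right) le_sup_left
  · obtain ⟨d, hd, hdT⟩ := hTsylL.exists_conj ⟨hT'L, hT'p, hT'n⟩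
    have h := hST.cjSub d⁻¹
    rw [← hdT, cjSub_cjSub, inv_mul_cancel, cjSub_one] at h
    have hdK : cjSub d⁻¹ K = K :=
      mem_normalizer_iff_map_conj_eq.mp (le_normalizer_of_normal (K := ⊤) (H := K) (mem_top _))
    rw [hdK] at h
    exact h.not_dvd

end Cfsg.Agent.S1924
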