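import Cfsg.Statements.S1930
import Cfsg.Agent.FlavellQuad.Reduce
import Cfsg.Agent.Layer.FStar

set_option autoImplicit false
open Cfsg

namespace Cfsg.Agent.S1930

open Subgroup Cfsg.Agent.FlavellQuad Cfsg.Agent.RootSub

/-- Inside a finite group let G be a nontrivial subgroup and R an r-subgroup (r a prime) normalizing G, with the order of G prime to r. Let p > 3 be a prime with F*(G) = O_p(G), and let P be the intersection of all R-invariant Sylow p-subgroups of G. Then P has a nontrivial characteristic subgroup that is normalized by G. -/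
theorem result {X : Type*} [Group X] [Finite X] (G R : Subgroup X) (r : ℕ) [Fact r.Prime] (hR : IsPGroup r ↥R) (hcop : (Nat.card ↥G).Coprime r) (hnorm : R ≤ Subgroup.normalizer (G : Set X)) (hG : G ≠ ⊥) (p : ℕ) [Fact p.Prime] (hp : 3 < p) (hF : Cfsg.generalizedFittingSubgroup ↥G = Cfsg.pCore p ↥G) (P : Subgroup X) (hP : P = ⨅ S : {S : Sylow p ↥G // ∀ a ∈ R, ((S : Subgroup ↥G).map G.subtype).map (MulAut.conj a).toMonoidHom = (S : Subgroup ↥G).map G.subtype}, ((S : Sylow p ↥G) : Subgroup ↥G).map G.subtype) : ∃ C : Subgroup ↥P, C.Characteristic ∧ C ≠ ⊥ ∧ G ≤ Subgroup.normalizer ((C.map P.subtype : Subgroup X) : Set X) := by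
  have hp5 : 5 ≤ p := by
    rcases Nat.lt_or_ge p 5 with h | h
    · exfalso
      obtain rfl : p = 4 := by omega
      exact absurd (Fact.out : Nat.Prime 4) (by decide)
    · exact h
  have hn : ∀ a ∈ R, conjBy G a = G := fun a ha => conjBy_eq_self_iff.mpr (hnorm ha)
  have hT0 : Cfsg.pCore p ↥G ≠ ⊥ := fun h0 => by
    have h := Layer.centralizer_generalizedFitting_le (G := ↥G)
    rw [hF, h0] at h
    exact hG ((eq_bot_iff_forall G).mpr fun x hx => congrArg Subtype.val
      (mem_bot.mp (h (show (⟨x, hx⟩ : G) ∈ centralizer ((⊥ : Subgroup G) : Set G) from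
        mem_centralizer_iff.mpr fun y hy => by rw [mem_bot.mp hy, one_mul, mul_one]))))
  -- p differs from r
  have hpr : p ≠ r := by
    intro hpr
    have hT : IsPGroup p ↥(Cfsg.pCore p ↥G) := Core.pCore_isPGroup
    haveI : Nontrivial ↥(Cfsg.pCore p ↥G) := (nontrivial_iff_ne_bot _).mpr hT0
    obtain ⟨k, hk, hcard⟩ := (IsPGroup.nontrivial_iff_card hT).mp inferInstance
    have hd : p ∣ Nat.card G :=
      (hcard ▸ dvd_pow_self p hk.ne' : p ∣ Nat.card ↥(Cfsg.pCore p ↥G)).trans (card_subgroup_dvd_card _)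
    exact (Fact.out : p.Prime).one_lt.ne'
      (Nat.dvd_one.mp (hcop ▸ Nat.dvd_gcd hd (hpr ▸ dvd_rfl)))
  -- the elements of P
  have hPle : ∀ S, IsSyl p G S → (∀ a ∈ R, conjBy S a = S) → P ≤ S := by
    intro S hS hSR
    let Q : Sylow p G := Sylow.ofCard (S.subgroupOf G) (by
      rw [Nat.card_congr (subgroupOfEquivOfLe hS.1).toEquiv]; exact hS.2)
    have hQ : (Q : Subgroup G).map G.subtype = S := map_subgroupOf_eq_of_le hS.1
    rw [hP]
    refine (iInf_le _ ⟨Q, fun a ha => ?_⟩).trans hQ.le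
    rw [hQ]
    exact hSR a ha
  have hPall : ∀ g ∈ P, InAllSyl p G R g := fun g hg S hS hSR => hPle S hS hSR hg
  have hPG : P ≤ G := by
    obtain ⟨S, hS, -, hSR⟩ := exists_inv_syl (p := p) hR hcop hn bot_le IsPGroup.of_bot
      (fun a _ => conjBy_bot a)
    exact (hPle S hS hSR).trans hS.1
  have hTP : opCore p G ≤ P := hP ▸ le_iInf fun S => map_mono (Core.pCore_le_sylow S.1)
  have hPp : IsPGroup p P := by
    obtain ⟨S, hS, -, hSR⟩ := exists_inv_syl (p := p) hR hcop hn bot_le IsPGroup.of_bot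
      (fun a _ => conjBy_bot a)
    exact hS.isPGroup.to_le (hPle S hS hSR)
  haveI hPn : Nontrivial P := (nontrivial_iff_ne_bot P).mpr fun h =>
    hT0 ((map_eq_bot_iff_of_injective _ G.subtype_injective).mp (le_bot_iff.mp (h ▸ hTP)))
  refine ⟨Cfsg.kInfLower P, characteristic_iff_map_eq.mpr fun φ => (KInf.map_kInf_equiv φ).1,
    (KInf.kInf_ne_bot hPp).1, ?_⟩
  -- work inside G ⊔ R
  set Y : Subgroup X := G ⊔ R with hY
  have hGY : G ≤ Y := le_sup_left
  have hRY : R ≤ Y := le_sup_right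
  set G' := G.subgroupOf Y with hG'
  set R' := R.subgroupOf Y with hR'
  haveI : G'.Normal := normal_subgroupOf_of_le_normalizer (sup_le le_normalizer hnorm)
  have hR'r : IsPGroup r R' := IsPGroup.of_equiv hR (subgroupOfEquivOfLe hRY).symm
  have hcop' : (Nat.card G').Coprime r := by
    rwa [hG', Nat.card_congr (subgroupOfEquivOfLe hGY).toEquiv]
  have hsup : G' ⊔ R' = ⊤ := by
    rw [hG', hR', ← subgroupOf_sup hGY hRY, hY, subgroupOf_self]
  have hTG : Cfsg.pCore p ↥Y ≤ G' := by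
    intro t ht
    obtain ⟨g, hg, a, ha, rfl⟩ := mem_sup_of_normal_left.mp (hsup.ge (mem_top t))
    set f := QuotientGroup.mk' G'
    have he : f (g * a) = f a := by
      rw [map_mul, (QuotientGroup.eq_one_iff g).mpr hg |> fun e => show f g = 1 from e, one_mul]
    obtain ⟨i, hi⟩ := Core.pCore_isPGroup ⟨g * a, ht⟩
    obtain ⟨j, hj⟩ := hR'r ⟨a, ha⟩
    have h1 : f a ^ p ^ i = 1 := by
      rw [← he, ← map_pow, show (g * a) ^ p ^ i = 1 from congrArg Subtype.val hi, map_one]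
    have h2 : f a ^ r ^ j = 1 := by
      rw [← map_pow, show a ^ r ^ j = 1 from congrArg Subtype.val hj, map_one]
    have h3 : f a ^ 1 = 1 := by
      have := pow_gcd_eq_one.mpr ⟨h1, h2⟩
      rwa [Nat.Coprime.gcd_eq_one
        (((Nat.coprime_primes (Fact.out : p.Prime) (Fact.out : r.Prime)).mpr hpr).pow i j)] at this
    rw [pow_one] at h3
    exact (QuotientGroup.eq_one_iff _).mp (he.trans h3)
  let e : ↥G' ≃* ↥G := subgroupOfEquivOfLe hGY
  have hcore : (Cfsg.pCore p ↥G').map e.toMonoidHom = Cfsg.pCore p ↥G := Core.map_pCore e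
  have hTmap : (Cfsg.pCore p ↥G').map G'.subtype = Cfsg.pCore p ↥Y := by
    rw [Core.map_pCore_normal, inf_eq_left.mpr hTG]
  have hTP' : Cfsg.pCore p ↥Y ≤ P.subgroupOf Y := by
    rw [← hTmap]
    rintro _ ⟨t, ht, rfl⟩
    exact mem_subgroupOf.mpr (hTP ⟨e t, hcore ▸ mem_map_of_mem _ ht, rfl⟩)
  have hC : centralizer (Cfsg.pCore p ↥Y : Set ↥Y) ⊓ G' ≤ Cfsg.pCore p ↥Y := by
    rintro c ⟨hc, hcG⟩
    set c₀ := e ⟨c, hcG⟩ with hc₀
    have hcc : c₀ ∈ Cfsg.pCore p ↥G := by
      have h := Layer.centralizer_generalizedFitting_le (G := ↥G)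
      rw [hF] at h
      refine h (mem_centralizer_iff.mpr fun t ht => ?_)
      rw [← hcore] at ht
      obtain ⟨t', ht', rfl⟩ := ht
      have hcomm := mem_centralizer_iff.mp hc _ (hTmap.le ⟨t', ht', rfl⟩)
      refine Subtype.ext ?_
      exact congrArg (fun z : ↥Y => (z : X)) hcomm
    rw [← hcore] at hcc
    obtain ⟨t', ht', he⟩ := hcc
    exact hTmap.le ⟨t', ht', congrArg Subtype.val (e.injective he)⟩
  have hnormal : (Cfsg.inducedFunctor Cfsg.kInfLower (P.subgroupOf Y)).Normal :=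
    kInf_normal hp5 hR'r hcop' (fun x hx => mem_subgroupOf.mpr (hPG hx)) hTP'
      (fun g hg => (hPall g hg).subgroupOf hGY hRY g.2) hC
  have hmap : (Cfsg.kInfLower P).map P.subtype =
      (Cfsg.inducedFunctor Cfsg.kInfLower (P.subgroupOf Y)).map Y.subtype := by
    rw [← (KInf.map_kInf_equiv (subgroupOfEquivOfLe (hPG.trans hGY))).1, Cfsg.inducedFunctor,
      map_map, map_map]
    rfl
  rw [hmap]
  intro g hg
  refine conjBy_eq_self_iff.mp (conjBy_eq_self_of_forall ?_)
  rintro _ ⟨z, hz, rfl⟩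
  exact ⟨⟨g, hGY hg⟩ * z * ⟨g, hGY hg⟩⁻¹, hnormal.conj_mem z hz _, rfl⟩

end Cfsg.Agent.S1930
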