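import Cfsg.Agent.QuadNormal.Main
-- Template for statement S1935 (row 1935; see /opt/grader/pristine/manifest.json for weights).
-- Copy to Cfsg/Agent/S1935.lean and replace the sorry. The statement below is byte-identical to the frozen
-- statement Cfsg.CfsgFrozen.S1935 (Cfsg/Statements/S1935.lean; the theorem Cfsg.loc5_f_module_for_p_group_has_two_subnormal_quadratic_offender);
-- the grader kernel-checks Cfsg.Agent.S1935.result against that frozen type. Keep the theorem IN THIS FILE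
-- (a `result` declared elsewhere and merely imported here is not credited); helpers may live anywhere
-- under Cfsg/Agent/.
-- import your own Cfsg.Agent.* helpers here

set_option autoImplicit false
open Cfsg

namespace Cfsg.Agent.S1935

open scoped commutatorElement

/-- Conjugation of `G` on the additive copy of a subgroup it normalizes. -/
@[reducible] def conjAct {Ω : Type*} [Group Ω] {V G : Subgroup Ω} [IsMulCommutative ↥V]
    (hGV : G ≤ Subgroup.normalizer (V : Set Ω)) : DistribMulAction ↥G (Additive ↥V) where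
  smul g v := Additive.ofMul ⟨(g : Ω) * (v.toMul : Ω) * (g : Ω)⁻¹,
    (Subgroup.mem_normalizer_iff.mp (hGV g.2) _).mp v.toMul.2⟩
  one_smul v := Additive.toMul.injective (Subtype.ext (by
    show ((1 : ↥G) : Ω) * (v.toMul : Ω) * ((1 : ↥G) : Ω)⁻¹ = (v.toMul : Ω)
    simp))
  mul_smul g h v := Additive.toMul.injective (Subtype.ext (by
    show ((g * h : ↥G) : Ω) * (v.toMul : Ω) * ((g * h : ↥G) : Ω)⁻¹ =
      (g : Ω) * ((h : Ω) * (v.toMul : Ω) * (h : Ω)⁻¹) * (g : Ω)⁻¹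
    simp [mul_assoc]))
  smul_zero g := Additive.toMul.injective (Subtype.ext (by
    show (g : Ω) * ((1 : ↥V) : Ω) * (g : Ω)⁻¹ = ((1 : ↥V) : Ω)
    simp))
  smul_add g u v := Additive.toMul.injective (Subtype.ext (by
    show (g : Ω) * ((u.toMul : Ω) * (v.toMul : Ω)) * (g : Ω)⁻¹ =
      (g : Ω) * (u.toMul : Ω) * (g : Ω)⁻¹ * ((g : Ω) * (v.toMul : Ω) * (g : Ω)⁻¹)
    group))

/-- Let p ≥ 5 be a prime and, inside an ambient finite group, let G be a p-subgroup acting faithfully by conjugation on an elementary abelian p-subgroup V that it normalizes (only the identity of G centralizes V). Suppose V is an F-module for G: some nontrivial elementary abelian subgroup E of G satisfies #E · #C_V(E) ≥ #V. Then G contains such an offender A that moreover acts quadratically on V ([V, A, A] = 1) and is normal in its normal closure in G. -/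
theorem result {Ω : Type*} [Group Ω] [Finite Ω] (p : ℕ) [Fact p.Prime] (hp : 5 ≤ p) (V G : Subgroup Ω) (hV : Cfsg.IsElementaryAbelian p V) (hG : IsPGroup p ↥G) (hGV : G ≤ Subgroup.normalizer (V : Set Ω)) (hfaith : G ⊓ Subgroup.centralizer (V : Set Ω) = ⊥) (hF : ∃ E : Subgroup Ω, E ≤ G ∧ E ≠ ⊥ ∧ Cfsg.IsElementaryAbelian p E ∧ Nat.card ↥V ≤ Nat.card ↥E * Nat.card ↥(V ⊓ Subgroup.centralizer (E : Set Ω))) : ∃ A : Subgroup Ω, A ≤ G ∧ A ≠ ⊥ ∧ Cfsg.IsElementaryAbelian p A ∧ Nat.card ↥V ≤ Nat.card ↥A * Nat.card ↥(V ⊓ Subgroup.centralizer (A : Set Ω)) ∧ ⁅⁅V, A⁆, A⁆ = ⊥ ∧ ∀ g ∈ Subgroup.closure {x : Ω | ∃ h ∈ G, ∃ a ∈ A, x = h * a * h⁻¹}, ∀ a ∈ A, g * a * g⁻¹ ∈ A := by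
  classical
  obtain ⟨E, hEG, hE0, hEea, hEoff⟩ := hF
  haveI : IsMulCommutative ↥V := hV.1
  letI : CommGroup ↥V := { (inferInstance : Group ↥V) with mul_comm := mul_comm' }
  letI := conjAct hGV
  have hsmul : ∀ (g : ↥G) (v : Additive ↥V),
      ((g • v).toMul : Ω) = (g : Ω) * (v.toMul : Ω) * (g : Ω)⁻¹ := fun g v => rfl
  have hfixiff : ∀ (g : ↥G) (v : Additive ↥V), g • v = v ↔ (g : Ω) * v.toMul = v.toMul * g := by
    intro g v
    rw [← Additive.toMul.injective.eq_iff, ← Subtype.coe_inj, hsmul, mul_inv_eq_iff_eq_mul]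
  haveI : FaithfulSMul ↥G (Additive ↥V) := ⟨fun {g h} e => by
    have hk : ∀ v : Additive ↥V, (g⁻¹ * h) • v = v := fun v => by
      rw [mul_smul, ← e v, inv_smul_smul]
    have hm : ((g⁻¹ * h : ↥G) : Ω) ∈ G ⊓ Subgroup.centralizer (V : Set Ω) :=
      Subgroup.mem_inf.mpr ⟨(g⁻¹ * h).2, Subgroup.mem_centralizer_iff.mpr fun v hv =>
        ((hfixiff _ (Additive.ofMul ⟨v, hv⟩)).mp (hk _)).symm⟩
    rw [hfaith, Subgroup.mem_bot] at hm
    exact inv_mul_eq_one.mp (Subtype.ext hm)⟩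
  have hpV : ∀ v : Additive ↥V, p • v = 0 := fun v =>
    Additive.toMul.injective (Subtype.ext (by simpa using hV.2 _ v.toMul.2))
  have hfixcard : ∀ F : Subgroup Ω, F ≤ G →
      Nat.card (PGV.fix (Additive ↥V) (F.subgroupOf G)) =
        Nat.card ↥(V ⊓ Subgroup.centralizer (F : Set Ω)) := by
    intro F hF
    refine Nat.card_congr
      { toFun := fun v => ⟨(v.1.toMul : Ω), Subgroup.mem_inf.mpr ⟨v.1.toMul.2,
          Subgroup.mem_centralizer_iff.mpr fun f hf =>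
            (hfixiff ⟨f, hF hf⟩ v.1).mp (v.2 ⟨f, hF hf⟩ hf)⟩⟩
        invFun := fun v => ⟨Additive.ofMul ⟨v.1, (Subgroup.mem_inf.mp v.2).1⟩, fun g hg =>
          (hfixiff g _).mpr (Subgroup.mem_centralizer_iff.mp (Subgroup.mem_inf.mp v.2).2 _ hg)⟩
        left_inv := fun v => rfl
        right_inv := fun v => rfl }
  have hcardF : ∀ F : Subgroup Ω, F ≤ G → Nat.card ↥(F.subgroupOf G) = Nat.card ↥F := fun F hF =>
    Nat.card_congr (Subgroup.subgroupOfEquivOfLe hF).toEquiv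
  have hVcard : Nat.card (Additive ↥V) = Nat.card ↥V := Nat.card_congr Additive.toMul
  have hodd : Odd p := (Fact.out : p.Prime).odd_of_ne_two (by omega)
  obtain ⟨A, hA0, hAab, hApow, hAoff, hAq, hAn⟩ := QuadNormal.exists_offender (p := p)
    (V := Additive ↥V) hodd hG hpV (E := E.subgroupOf G)
    (fun h => hE0 (by
      have e := congrArg (Subgroup.map G.subtype) h
      rwa [Subgroup.subgroupOf_map_subtype, inf_eq_left.mpr hEG, Subgroup.map_bot] at e))
    (fun a ha b hb => Subtype.ext (by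
      have h := hEea.1.is_comm.comm (⟨(a : Ω), ha⟩ : ↥E) ⟨(b : Ω), hb⟩
      exact (congrArg (fun x : ↥E => (x : Ω)) h :)))
    (fun a ha => Subtype.ext (by simpa using hEea.2 _ ha))
    (by rw [hVcard, hcardF E hEG, hfixcard E hEG]; exact hEoff)
  set A' := A.map G.subtype with hA'
  have hA'G : A' ≤ G := Subgroup.map_subtype_le A
  have hsub : A'.subgroupOf G = A :=
    Subgroup.comap_map_eq_self_of_injective G.subtype_injective A
  refine ⟨A', hA'G, fun h => hA0 ?_, ⟨⟨⟨?_⟩⟩, ?_⟩, ?_, ?_, ?_⟩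
  · rw [← hsub, h, Subgroup.bot_subgroupOf]
  · rintro ⟨_, a, ha, rfl⟩ ⟨_, b, hb, rfl⟩
    exact Subtype.ext (congrArg (fun x : ↥G => (x : Ω)) (hAab a ha b hb).eq :)
  · rintro _ ⟨a, ha, rfl⟩
    rw [← map_pow, hApow a ha, map_one]
  · rw [← hVcard, ← hcardF A' hA'G, ← hfixcard A' hA'G, hsub]
    exact hAoff
  · rw [Subgroup.commutator_eq_bot_iff_le_centralizer]
    refine Subgroup.commutator_le.mpr fun v hv x hx => ?_
    obtain ⟨a, ha, rfl⟩ := hx
    rw [Subgroup.mem_centralizer_iff]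
    intro y hy
    obtain ⟨b, hb, rfl⟩ := hy
    have hq := hAq a ha b hb (-Additive.ofMul (⟨v, hv⟩ : ↥V))
    rw [hfixiff] at hq
    have e : ((a • (-Additive.ofMul (⟨v, hv⟩ : ↥V)) - (-Additive.ofMul (⟨v, hv⟩ : ↥V))).toMul : Ω) =
        (a : Ω) * v⁻¹ * (a : Ω)⁻¹ * v := by
      rw [sub_neg_eq_add]; rfl
    rw [e] at hq
    have h2 : (a : Ω) * v⁻¹ * (a : Ω)⁻¹ * v = ⁅v, (a : Ω)⁆ := by
      rw [commutatorElement_def]
      have hw : (a : Ω) * v⁻¹ * (a : Ω)⁻¹ ∈ V :=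
        (Subgroup.mem_normalizer_iff.mp (hGV a.2) _).mp (V.inv_mem hv)
      rw [show v * (a : Ω) * v⁻¹ * (a : Ω)⁻¹ = v * ((a : Ω) * v⁻¹ * (a : Ω)⁻¹) by group]
      exact congrArg Subtype.val (mul_comm' (⟨_, hw⟩ : ↥V) ⟨v, hv⟩)
    rw [h2] at hq
    exact hq
  · intro g hg a ha
    refine (Subgroup.mem_normalizer_iff.mp ((Subgroup.closure_le _).mpr ?_ hg) a).mp ha
    rintro x ⟨h, hh, c, hc, rfl⟩
    obtain ⟨c, hc', rfl⟩ := hc
    have key : ∀ d ∈ A, ∀ b ∈ A', h * (d : Ω) * h⁻¹ * b * (h * (d : Ω) * h⁻¹)⁻¹ ∈ A' := by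
      rintro d hd _ ⟨b, hb, rfl⟩
      exact ⟨_, hAn ⟨h, hh⟩ d hd b hb, rfl⟩
    rw [SetLike.mem_coe, Subgroup.mem_normalizer_iff]
    refine fun b => ⟨fun hb => key c hc' b hb, fun hb => ?_⟩
    have h1 := key c⁻¹ (A.inv_mem hc') _ hb
    have e : h * ((c⁻¹ : ↥G) : Ω) * h⁻¹ *
        (h * G.subtype c * h⁻¹ * b * (h * G.subtype c * h⁻¹)⁻¹) *
        (h * ((c⁻¹ : ↥G) : Ω) * h⁻¹)⁻¹ = b := by
      simp only [Subgroup.coe_subtype, Subgroup.coe_inv]; group
    rwa [e] at h1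

end Cfsg.Agent.S1935
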