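import Cfsg.Statements.S1939

set_option autoImplicit false
open Cfsg

namespace Cfsg.Agent.S1939

/-- Let S be a Sylow p-subgroup of the finite group G and a an element of S that is the only G-conjugate of a lying in S. Then every power of a has the same property: for every n, the only G-conjugate of a^n lying in S is a^n. -/
theorem result {G : Type*} [Group G] [Finite G] {p : ℕ} [Fact p.Prime] (S : Sylow p G) (a : G)
    (haS : a ∈ (S : Subgroup G)) (hwc : ∀ g : G, g * a * g⁻¹ ∈ (S : Subgroup G) → g * a * g⁻¹ = a) (n : ℕ) :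
    ∀ g : G, g * a ^ n * g⁻¹ ∈ (S : Subgroup G) → g * a ^ n * g⁻¹ = a ^ n := by
  intro g hg
  set b := g * a ^ n * g⁻¹ with hb
  have haP : ∀ x ∈ (S : Subgroup G), x * a = a * x := fun x hx => by
    have h := hwc x (S.1.mul_mem (S.1.mul_mem hx haS) (S.1.inv_mem hx))
    calc x * a = x * a * x⁻¹ * x := by simp [mul_assoc]
    _ = a * x := by rw [h]
  set C := Subgroup.centralizer ({b} : Set G)
  have hmem : ∀ y, y * b = b * y → y ∈ C := fun y hy => Subgroup.mem_centralizer_singleton_iff.2 hy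
  have hay : a ∈ C := hmem a (haP b hg).symm
  have hgay : g * a * g⁻¹ ∈ C := hmem _ (by
    rw [hb]; simp [mul_assoc]
    simpa [mul_assoc] using congrArg (fun w => g * w * g⁻¹) (Commute.self_pow a n).eq)
  obtain ⟨j, hj⟩ := (S.2) ⟨a, haS⟩
  have hj' : orderOf a ∣ p ^ j := orderOf_dvd_of_pow_eq_one (by simpa using congrArg Subtype.val hj)
  obtain ⟨i, -, hi⟩ := (Nat.dvd_prime_pow Fact.out).1 hj'
  have hS1 : IsPGroup p ↥(Subgroup.zpowers (⟨a, hay⟩ : C)) :=
    IsPGroup.of_card (n := i) (by rw [Nat.card_zpowers, Subgroup.orderOf_mk, hi])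
  have hS2 : IsPGroup p ↥(Subgroup.zpowers (⟨g * a * g⁻¹, hgay⟩ : C)) :=
    IsPGroup.of_card (n := i) (by rw [Nat.card_zpowers, Subgroup.orderOf_mk, ← MulAut.conj_apply g a, MulEquiv.orderOf_eq, hi])
  obtain ⟨T₁, hT₁⟩ := hS1.exists_le_sylow
  obtain ⟨T₂, hT₂⟩ := hS2.exists_le_sylow
  obtain ⟨c, hc⟩ := MulAction.exists_smul_eq C T₂ T₁
  have h1 : c * ⟨g * a * g⁻¹, hgay⟩ * c⁻¹ ∈ T₁ := by
    rw [← hc, Sylow.smul_def]
    exact Subgroup.smul_mem_pointwise_smul _ (MulAut.conj c) _ (hT₂ (Subgroup.mem_zpowers _))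
  obtain ⟨U, hU⟩ := (T₁.2.map C.subtype).exists_le_sylow
  obtain ⟨x, hx⟩ := MulAction.exists_smul_eq G U S
  have toS : ∀ u ∈ (U : Subgroup G), x * u * x⁻¹ ∈ (S : Subgroup G) := fun u hu => by
    rw [← hx, Sylow.smul_def]
    exact Subgroup.smul_mem_pointwise_smul _ (MulAut.conj x) _ hu
  have e1 := hwc x (toS a (hU ⟨⟨a, hay⟩, hT₁ (Subgroup.mem_zpowers _), rfl⟩))
  have e2 := hwc (x * (c : G) * g) (by
    have := toS _ (hU ⟨_, h1, rfl⟩); simpa [mul_assoc] using this)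
  -- hence `c g` fixes `a`
  have e3 : ((c : G) * g) * a * ((c : G) * g)⁻¹ = a := by
    have e4 := e1.trans (e2.symm)
    have e5 := congrArg (fun w => x⁻¹ * w * x) e4
    simp only [mul_inv_rev, mul_assoc, inv_mul_cancel_left, inv_mul_cancel, mul_one] at e5 ⊢
    exact e5.symm
  have e6 : ((c : G) * g) * a ^ n * ((c : G) * g)⁻¹ = a ^ n := by
    rw [← conj_pow, e3]
  calc b = (c : G) * b * (c : G)⁻¹ := by
        rw [Subgroup.mem_centralizer_singleton_iff.1 c.2, mul_inv_cancel_right]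
  _ = ((c : G) * g) * a ^ n * ((c : G) * g)⁻¹ := by rw [hb]; simp [mul_assoc]
  _ = a ^ n := e6

end Cfsg.Agent.S1939
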