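import Cfsg.Statements.S1940

set_option autoImplicit false
open Cfsg

namespace Cfsg.Agent.S1940

/-- Let the finite group L act by automorphisms on the finite abelian group M, and let N be an L-invariant subgroup of M such that M/N is a p-group on which L acts trivially (every l • m lies in the coset mN). If every element of M is a product of an element of N and an element fixed by a Sylow p-subgroup T of L, then every element of M is a product of an element of N and an element fixed by all of L. -/
theorem result {L : Type*} [Group L] [Finite L] {M : Type*} [CommGroup M] [Finite M] [MulDistribMulAction L M]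
    {p : ℕ} [Fact p.Prime] (N : Subgroup M) (hN : ∀ (l : L) (m : M), m ∈ N → l • m ∈ N)
    (hquot : IsPGroup p (M ⧸ N)) (htriv : ∀ (l : L) (m : M), (l • m) * m⁻¹ ∈ N) (T : Sylow p L)
    (hT : ∀ m : M, ∃ n ∈ N, ∃ c : M, (∀ t ∈ (T : Subgroup L), t • c = c) ∧ m = n * c) :
    ∀ m : M, ∃ n ∈ N, ∃ c : M, (∀ l : L, l • c = c) ∧ m = n * c := by
  intro m
  classical
  obtain ⟨n₀, hn₀, c, hc, rfl⟩ := hT m
  have hwell : ∀ a b : L, (QuotientGroup.leftRel (T : Subgroup L)).r a b → a • c = b • c := by
    intro a b hab
    rw [QuotientGroup.leftRel_apply] at hab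
    calc a • c = a • ((a⁻¹ * b) • c) := by rw [hc _ hab]
    _ = b • c := by rw [← mul_smul, mul_inv_cancel_left]
  let f : L ⧸ (T : Subgroup L) → M := Quotient.lift (fun l : L => l • c) hwell
  have hf : ∀ l : L, f (l : L ⧸ (T : Subgroup L)) = l • c := fun l => rfl
  have : Fintype (L ⧸ (T : Subgroup L)) := Fintype.ofFinite _
  set e := ∏ q, f q
  have hmod : (QuotientGroup.mk e : M ⧸ N) = (QuotientGroup.mk c : M ⧸ N) ^ (T : Subgroup L).index := by
    rw [← QuotientGroup.mk'_apply N e, map_prod,
      Finset.prod_eq_pow_card (b := (QuotientGroup.mk c : M ⧸ N)), Finset.card_univ, ← Nat.card_eq_fintype_card]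
    · rfl
    intro q _
    induction q using QuotientGroup.induction_on with
    | H l =>
      rw [hf, QuotientGroup.mk'_apply]
      refine (QuotientGroup.eq.2 ?_).symm
      rw [mul_comm]; exact htriv l c
  have hfix : ∀ l : L, l • e = e := by
    intro l
    rw [show e = ∏ q, f q from rfl, Finset.smul_prod']
    refine Fintype.prod_equiv (MulAction.toPerm l) _ _ fun q => ?_
    induction q using QuotientGroup.induction_on with
    | H a => exact (mul_smul l a c).symm
  obtain ⟨k, hk⟩ := hquot (QuotientGroup.mk c)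
  have hcop : ((T : Subgroup L).index).Coprime (orderOf (QuotientGroup.mk c : M ⧸ N)) :=
    ((((Fact.out : p.Prime).coprime_iff_not_dvd.2 T.not_dvd_index).symm).pow_right k).coprime_dvd_right
      (orderOf_dvd_of_pow_eq_one hk)
  obtain ⟨j, hj⟩ := exists_pow_eq_self_of_coprime hcop
  have he : ((QuotientGroup.mk (e ^ j)) : M ⧸ N) = QuotientGroup.mk c := by
    rw [QuotientGroup.mk_pow, hmod, hj]
  refine ⟨n₀ * ((e ^ j)⁻¹ * c), N.mul_mem hn₀ (QuotientGroup.eq.1 he), e ^ j, fun l => ?_, ?_⟩
  · rw [smul_pow', hfix]
  · rw [mul_assoc, mul_comm ((e ^ j)⁻¹) c, inv_mul_cancel_right]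

end Cfsg.Agent.S1940
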