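import Cfsg.Statements.S1941
import Cfsg.Agent.Layer.PConstraint
import Cfsg.Agent.Core.Fitting
import Cfsg.Agent.Layer.FStar
-- import your own Cfsg.Agent.* helpers here

set_option autoImplicit false
open Cfsg
open scoped commutatorElement Pointwise

namespace Cfsg.Agent.S1941

/-- Let G be a finite group with no nontrivial normal subgroup of order prime to p, T a Sylow p-subgroup of G and E(G) the layer of G (the subgroup generated by its components). An automorphism of G of p-power order that fixes T and E(G) elementwise is inner. -/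
theorem result {G : Type*} [Group G] [Finite G] {p : ℕ} [Fact p.Prime] (hcore : Cfsg.pPrimeCore p G = ⊥)
    (T : Sylow p G) (α : MulAut G) (hα : ∃ j : ℕ, orderOf α = p ^ j) (hfixT : ∀ x ∈ (T : Subgroup G), α x = x)
    (hfixE : ∀ x ∈ Cfsg.layer G, α x = x) : ∃ g : G, ∀ x : G, α x = g * x * g⁻¹ := by
  classical
  open scoped IsMulCommutative in
  set FS := Cfsg.generalizedFittingSubgroup G with hFS
  set Z : Subgroup G := Subgroup.centralizer (FS : Set G) with hZdef
  have hZle : Z ≤ FS := Layer.centralizer_generalizedFitting_le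
  haveI hZc : IsMulCommutative Z := Subgroup.le_centralizer_iff_isMulCommutative.mp
    (le_rfl.trans (Subgroup.centralizer_le (show (Z : Set G) ⊆ FS from hZle)))
  haveI hZn : Z.Normal := inferInstance
  have hFP : Cfsg.fittingSubgroup G = Cfsg.pCore p G := Layer.fitting_eq_pCore_of_pPrimeCore_eq_bot hcore
  have hPT : Cfsg.pCore p G ≤ (T : Subgroup G) := by
    obtain ⟨S, hS⟩ := (Core.pCore_isPGroup (p := p) (G := G)).exists_le_sylow
    obtain ⟨g, hg⟩ := MulAction.exists_smul_eq G S T
    intro x hx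
    have hx' : g⁻¹ * x * g ∈ Cfsg.pCore p G := by
      simpa using (inferInstance : (Cfsg.pCore p G).Normal).conj_mem x hx g⁻¹
    rw [← hg, Sylow.coe_subgroup_smul, Subgroup.mem_pointwise_smul_iff_inv_smul_mem]
    simpa using hS hx'
  have hfix : ∀ x ∈ FS, α x = x := by
    intro x hx
    have hle : FS ≤ (α : G →* G).eqLocus (MonoidHom.id G) := by
      rw [hFS, generalizedFittingSubgroup, sup_le_iff]
      exact ⟨fun y hy => hfixE y hy, fun y hy => hfixT y (hPT (hFP ▸ hy))⟩
    exact hle hx
  have hvZ : ∀ g : G, α g * g⁻¹ ∈ Z := by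
    intro g
    rw [hZdef, Subgroup.mem_centralizer_iff]
    intro y hy
    have hy' : g⁻¹ * y * g ∈ FS := by
      simpa using (inferInstance : FS.Normal).conj_mem y hy g⁻¹
    have h := hfix _ hy'
    rw [map_mul, map_mul, map_inv, hfix y hy] at h
    calc y * (α g * g⁻¹) = α g * ((α g)⁻¹ * y * α g) * g⁻¹ := by simp [mul_assoc]
      _ = α g * g⁻¹ * y := by rw [h]; simp [mul_assoc]
  have hZp : IsPGroup p Z := by
    refine (Core.pCore_isPGroup (p := p) (G := G)).to_le (hFP ▸ ?_)
    exact Core.le_fittingSubgroup_of_isMulCommutative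
  let v : G ⧸ (T : Subgroup G) → Z := Quotient.lift (fun g : G => (⟨α g * g⁻¹, hvZ g⟩ : Z)) (by
    intro a b hab
    have hab' : a⁻¹ * b ∈ (T : Subgroup G) := QuotientGroup.leftRel_apply.mp hab
    have h := hfixT _ hab'
    rw [map_mul, map_inv, inv_mul_eq_iff_eq_mul] at h
    refine Subtype.ext ?_
    change α a * a⁻¹ = α b * b⁻¹
    rw [h]
    simp [mul_assoc])
  have hvmk : ∀ g : G, ((v g : Z) : G) = α g * g⁻¹ := fun g => rfl
  haveI := Fintype.ofFinite (G ⧸ (T : Subgroup G))
  set W : Z := ∏ x, v x with hW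
  let c : G → (Z →* Z) := fun g =>
    { toFun := fun z => ⟨g * z * g⁻¹, hZn.conj_mem z z.2 g⟩
      map_one' := Subtype.ext (by simp)
      map_mul' := fun a b => Subtype.ext (by simp [mul_assoc]) }
  have hshift : ∀ (g : G) (x : G ⧸ (T : Subgroup G)), v (g • x) = v g * c g (v x) := by
    intro g x
    induction x using QuotientGroup.induction_on with
    | _ x =>
      refine Subtype.ext ?_
      rw [MulAction.Quotient.smul_coe, smul_eq_mul, hvmk, Subgroup.coe_mul, hvmk]
      change _ = _ * (g * (α x * x⁻¹) * g⁻¹)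
      rw [map_mul]
      simp [mul_assoc]
  have hsum : ∀ g : G, W = v g ^ Nat.card (G ⧸ (T : Subgroup G)) * c g W := by
    intro g
    calc W = ∏ x, v (g • x) := (Equiv.prod_comp (MulAction.toPerm g) v).symm
      _ = ∏ x, v g * c g (v x) := Finset.prod_congr rfl fun x _ => hshift g x
      _ = _ := by rw [Finset.prod_mul_distrib, Finset.prod_const, Finset.card_univ, ← map_prod,
            Nat.card_eq_fintype_card]
  have hcop : (Nat.card Z).Coprime (Nat.card (G ⧸ (T : Subgroup G))) := by
    obtain ⟨k, hk⟩ := IsPGroup.iff_card.mp hZp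
    rw [hk, ← Subgroup.index_eq_card]
    exact ((Fact.out : p.Prime).coprime_iff_not_dvd.mpr T.not_dvd_index).pow_left k
  obtain ⟨w, hw⟩ := (powCoprime hcop).surjective W
  refine ⟨(w : G), fun g => ?_⟩
  have h := hsum g
  rw [← hw] at h
  change w ^ _ = v g ^ _ * c g (w ^ _) at h
  rw [map_pow, ← mul_pow] at h
  have h2 : w = v g * c g w := (powCoprime hcop).injective h
  have h3 : (w : G) = α g * g⁻¹ * (g * w * g⁻¹) := congrArg Subtype.val h2
  calc α g = α g * g⁻¹ * (g * w * g⁻¹) * (g * (w : G)⁻¹) := by simp [mul_assoc]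
    _ = (w : G) * (g * (w : G)⁻¹) := by rw [← h3]
    _ = (w : G) * g * (w : G)⁻¹ := by rw [mul_assoc]

end Cfsg.Agent.S1941
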