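import Cfsg.Statements.S1944
import Cfsg.Agent.Fusion.Frattini

set_option autoImplicit false
open Cfsg

namespace Cfsg.Agent.S1944

set_option maxHeartbeats 400000
open Subgroup
open scoped IsMulCommutative

/-- Let S be a Sylow p-subgroup of the finite group G and suppose that the centre Z(S) lies in O_{p',p}(G). The elements of S each of which is its only G-conjugate in S form a subgroup W of Z(S); W is then a direct factor of Z(S): there is a subgroup K of Z(S) with W ∩ K = 1 and WK = Z(S). -/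
theorem result {G : Type*} [Group G] [Finite G] {p : ℕ} [Fact p.Prime] (S : Sylow p G)
    (hZ : ((S : Subgroup G) ⊓ Subgroup.centralizer ((S : Subgroup G) : Set G)) ≤ Cfsg.pPrimePCore p G) :
    ∃ W K : Subgroup G, (∀ x : G, x ∈ W ↔ (x ∈ (S : Subgroup G) ∧ ∀ g : G, g * x * g⁻¹ ∈ (S : Subgroup G) → g * x * g⁻¹ = x)) ∧
      K ≤ ((S : Subgroup G) ⊓ Subgroup.centralizer ((S : Subgroup G) : Set G)) ∧ W ⊓ K = ⊥ ∧ W ⊔ K = ((S : Subgroup G) ⊓ Subgroup.centralizer ((S : Subgroup G) : Set G)) := by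
  classical
  set H := (S : Subgroup G) ⊓ Cfsg.pPrimePCore p G with hH
  set N := normalizer (H : Set G) with hN
  set ZS := (S : Subgroup G) ⊓ centralizer ((S : Subgroup G) : Set G) with hZS
  have hSN : (S : Subgroup G) ≤ N := Fusion.le_normalizer_inf_pPrimePCore S
  have hZH : ZS ≤ H := le_inf inf_le_left hZ
  set V := H ⊓ centralizer (H : Set G) with hV
  have hZV : ZS ≤ V := le_inf hZH (inf_le_right.trans (centralizer_le inf_le_left))
  have : IsMulCommutative V := ⟨⟨fun a b => Subtype.ext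
    (mem_centralizer_iff.mp (mem_inf.mp b.2).2 a (mem_inf.mp a.2).1)⟩⟩
  set W := ZS ⊓ centralizer (N : Set G) with hW
  have hWmem : ∀ x : G, x ∈ W ↔ (x ∈ (S : Subgroup G) ∧
      ∀ g : G, g * x * g⁻¹ ∈ (S : Subgroup G) → g * x * g⁻¹ = x) := by
    intro x
    constructor
    · intro hx
      obtain ⟨hxZ, hxC⟩ := mem_inf.mp hx
      refine ⟨(mem_inf.mp hxZ).1, fun g hg => ?_⟩
      obtain ⟨n, hn, hne⟩ := Fusion.exists_normalizer_conj_eq S (mem_inf.mp hxZ).1 hg rfl
      rw [← hne, mem_centralizer_iff.mp hxC n hn, mul_inv_cancel_right]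
    · rintro ⟨hxS, hx⟩
      have hxZ : x ∈ ZS := mem_inf.mpr ⟨hxS, mem_centralizer_iff.mpr fun s hs => by
        have := hx s (mul_mem (mul_mem hs hxS) (inv_mem hs))
        rwa [mul_inv_eq_iff_eq_mul] at this⟩
      refine mem_inf.mpr ⟨hxZ, mem_centralizer_iff.mpr fun n hn => ?_⟩
      have := hx n (mem_inf.mp ((mem_normalizer_iff.mp hn x).mp (hZH hxZ))).1
      rwa [mul_inv_eq_iff_eq_mul] at this
  have hmemV : ∀ n ∈ N, ∀ z ∈ V, n * z * n⁻¹ ∈ V := by
    intro n hn z hz
    refine mem_inf.mpr ⟨(mem_normalizer_iff.mp hn z).mp (mem_inf.mp hz).1,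
      mem_centralizer_iff.mpr fun h hh => ?_⟩
    have h' : n⁻¹ * h * n ∈ H := (mem_normalizer_iff''.mp hn h).mp hh
    have := mem_centralizer_iff.mp (mem_inf.mp hz).2 _ h'
    calc h * (n * z * n⁻¹) = n * ((n⁻¹ * h * n) * z) * n⁻¹ := by group
      _ = n * (z * (n⁻¹ * h * n)) * n⁻¹ := by rw [this]
      _ = n * z * n⁻¹ * h := by group
  set R := (S : Subgroup G).subgroupOf N with hR
  let f : ZS → (N ⧸ R) → V := fun z q => Quotient.liftOn' q
    (fun n => ⟨(n : G) * z * (n : G)⁻¹, hmemV n n.2 z (hZV z.2)⟩) (fun a b hab => by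
      have hs : (a : G)⁻¹ * b ∈ (S : Subgroup G) := mem_subgroupOf.mp (show a⁻¹ * b ∈ R from QuotientGroup.leftRel_apply.mp hab)
      have := mem_centralizer_iff.mp (mem_inf.mp z.2).2 _ hs
      apply Subtype.ext
      calc (a : G) * z * (a : G)⁻¹ = a * (z * ((a : G)⁻¹ * b)) * (b : G)⁻¹ := by group
        _ = a * (((a : G)⁻¹ * b) * z) * (b : G)⁻¹ := by rw [this]
        _ = (b : G) * z * (b : G)⁻¹ := by group)
  have hf : ∀ z (n : N), ((f z (QuotientGroup.mk n) : V) : G) = (n : G) * z * (n : G)⁻¹ :=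
    fun z n => rfl
  haveI : Fintype (N ⧸ R) := Fintype.ofFinite _
  let τ : ZS →* V := MonoidHom.mk' (fun z => ∏ q, f z q) (fun a b => by
    rw [← Finset.prod_mul_distrib]
    refine Finset.prod_congr rfl fun q _ => ?_
    induction q using QuotientGroup.induction_on with
    | H n =>
      apply Subtype.ext
      rw [Subgroup.coe_mul, hf, hf, hf, Subgroup.coe_mul]
      group)
  have hτfix : ∀ z, ((τ z : V) : G) ∈ W := by
    intro z
    have hC : ((τ z : V) : G) ∈ centralizer (N : Set G) := by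
      rw [mem_centralizer_iff]
      intro n hn
      let c : V →* V := MonoidHom.mk' (fun v => ⟨n * v * n⁻¹, hmemV n hn v v.2⟩) (fun a b => by
        apply Subtype.ext
        simp only [Subgroup.coe_mul]
        group)
      have key : c (τ z) = τ z := by
        show c (∏ q, f z q) = ∏ q, f z q
        rw [map_prod]
        refine Fintype.prod_equiv (MulAction.toPerm (⟨n, hn⟩ : N)) _ _ fun q => ?_
        induction q using QuotientGroup.induction_on with
        | H m =>
          apply Subtype.ext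
          show n * _ * n⁻¹ = _
          rw [hf, show (MulAction.toPerm (⟨n, hn⟩ : N)) (QuotientGroup.mk m : N ⧸ R) =
            QuotientGroup.mk (⟨n, hn⟩ * m) from rfl, hf, Subgroup.coe_mul]
          group
      have h2 : n * ((τ z : V) : G) * n⁻¹ = ((τ z : V) : G) := congrArg Subtype.val key
      rwa [mul_inv_eq_iff_eq_mul] at h2
    exact mem_inf.mpr ⟨mem_inf.mpr ⟨(mem_inf.mp (mem_inf.mp (τ z).2).1).1,
      centralizer_le hSN hC⟩, hC⟩
  set m := Nat.card (N ⧸ R) with hm
  have hτW : ∀ z : ZS, (z : G) ∈ W → ((τ z : V) : G) = (z : G) ^ m := by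
    intro z hz
    have : ∀ q, f z q = ⟨(z : G), hZV z.2⟩ := by
      intro q
      induction q using QuotientGroup.induction_on with
      | H n =>
        apply Subtype.ext
        rw [hf, mem_centralizer_iff.mp (mem_inf.mp hz).2 n n.2, mul_inv_cancel_right]
    show ((∏ q, f z q : V) : G) = _
    rw [Finset.prod_congr rfl (fun q _ => this q), Finset.prod_const, Finset.card_univ,
      SubmonoidClass.coe_pow, hm, Nat.card_eq_fintype_card]
  have hcop : (Nat.card W).Coprime m := by
    obtain ⟨a, ha⟩ := IsPGroup.iff_card.mp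
      (S.isPGroup'.to_le ((inf_le_left : W ≤ ZS).trans inf_le_left))
    rw [ha]
    refine Nat.Coprime.pow_left a ((Fact.out : p.Prime).coprime_iff_not_dvd.mpr fun hd => ?_)
    exact S.not_dvd_index (hd.trans (relIndex_dvd_index_of_le hSN))
  refine ⟨W, τ.ker.map ZS.subtype, hWmem, map_subtype_le _, ?_, ?_⟩
  · rw [eq_bot_iff]
    intro x hx
    obtain ⟨hxW, z, hzk, rfl⟩ := mem_inf.mp hx
    have h1 := hτW z hxW
    rw [show τ z = 1 from hzk, Subgroup.coe_one] at h1
    have h2 : orderOf (z : G) ∣ Nat.card W :=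
      (Subgroup.orderOf_mk (z : G) hxW) ▸ orderOf_dvd_natCard _
    exact mem_bot.mpr (orderOf_eq_one_iff.mp (Nat.eq_one_of_dvd_coprimes hcop h2
      (orderOf_dvd_of_pow_eq_one h1.symm)))
  · refine le_antisymm (sup_le inf_le_left (map_subtype_le _)) fun x hx => ?_
    obtain ⟨w, hw⟩ := (powCoprime hcop).surjective ⟨_, hτfix ⟨x, hx⟩⟩
    have hw' : (w : G) ^ m = ((τ ⟨x, hx⟩ : V) : G) := congrArg Subtype.val hw
    let w' : ZS := ⟨w, (mem_inf.mp w.2).1⟩
    have hk : w'⁻¹ * ⟨x, hx⟩ ∈ τ.ker := by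
      rw [MonoidHom.mem_ker, map_mul, map_inv, inv_mul_eq_one]
      exact Subtype.ext ((hτW w' w.2).trans hw')
    rw [show x = (w : G) * ((w : G)⁻¹ * x) by group]
    exact mul_mem_sup w.2 ⟨_, hk, rfl⟩

end Cfsg.Agent.S1944
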