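import Cfsg.Statements.S2799
import Cfsg.Agent.FusSys.WeakClosed
import Cfsg.Agent.FusSys.GfsFree

set_option autoImplicit false
open Cfsg

namespace Cfsg.Agent.S2799

/-- Let S be a Sylow p-subgroup of the finite group G, J(S) the subgroup generated by the abelian subgroups of S of largest order, and x an element of S lying in the centre of N_G(J(S)). Assume that p is odd, or that x is a p-th power of an element of Z(S), or that the symmetric group of degree 4 is not involved in G. Then x is weakly closed in S with respect to G: every G-conjugate of x that lies in S equals x. -/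
theorem result {G : Type*} [Group G] [Finite G] {p : ℕ} [Fact p.Prime] (S : Sylow p G) (x : G) (hxS : x ∈ (S : Subgroup G)) (hxZ : x ∈ (Subgroup.center ↥(Subgroup.normalizer ((Cfsg.thompsonSubgroupAOf (S : Subgroup G)) : Set G))).map (Subgroup.normalizer ((Cfsg.thompsonSubgroupAOf (S : Subgroup G)) : Set G)).subtype) (h : p ≠ 2 ∨ (∃ z ∈ (S : Subgroup G) ⊓ Subgroup.centralizer ((S : Subgroup G) : Set G), z ^ p = x) ∨ ¬ Cfsg.Involves (Equiv.Perm (Fin 4)) G) : ∀ g : G, g * x * g⁻¹ ∈ (S : Subgroup G) → g * x * g⁻¹ = x := by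
  intro g hg
  set F := Cfsg.groupFusionSystem (S : Subgroup G)
  have hF : F.IsSaturated p := FusSys.gfs_saturated S
  set J := FusSys.wsub FusSys.jW (S : Subgroup G) with hJ
  have hJS : J ≤ (S : Subgroup G) := FusSys.wsub_le _ _
  obtain ⟨n, hn, rfl⟩ := hxZ
  have hfix : ∀ a ∈ Subgroup.normalizer (J : Set G), a * (n : G) * a⁻¹ = (n : G) := fun a ha => by
    rw [hJ, FusSys.wsub_jW] at ha
    have h1 : a * (n : G) = (n : G) * a :=
      congrArg Subtype.val (Subgroup.mem_center_iff.1 hn ⟨a, ha⟩)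
    rw [h1, mul_inv_cancel_right]
  have hT : FusionSystem.normalizerIn (S : Subgroup G) J = (S : Subgroup G) :=
    FusSys.normalizerIn_eq_of_le fun s hs => (FusSys.normalizerIn_le_normalizerIn_wsub
      (p := p) FusSys.posFunctor_jW le_rfl S.2 (FusSys.le_normalizerIn le_rfl hs)).2
  have hN := FusSys.isNormalizerSystem_normalizerSys (F := F) hJS
  set N := FusSys.normalizerSys (F := F) hJS
  have hZN : Subgroup.zpowers (n : G) ≤ FusionSystem.normalizerIn (S : Subgroup G) J := by
    rw [hT, Subgroup.zpowers_le]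
    exact hxS
  have hxN : (n : G) ∈ N.center := by
    refine FusSys.le_center (FusSys.isCentral_iff.2 ⟨hZN, fun P f hf => ?_⟩)
      (Subgroup.mem_zpowers _)
    obtain ⟨-, hP, himg, k, hk, hkf, hkJ⟩ := (FusSys.mor_normalizerSystem hN).1 hf
    obtain ⟨-, -, a, ha⟩ := FusSys.mor_gfs.1 hk
    have haN : a ∈ Subgroup.normalizer (J : Set G) := FusSys.mem_normalizer_of_maps fun y hy => by
      rw [← ha y (Subgroup.mem_sup_right hy)]
      exact (hkJ _).2 ⟨y, hy, rfl⟩
    have hZfix : ∀ y ∈ Subgroup.zpowers (n : G), a * y * a⁻¹ = y := by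
      rintro _ ⟨i, rfl⟩
      show a * (n : G) ^ i * a⁻¹ = (n : G) ^ i
      rw [← conj_zpow, hfix a haN]
    have hle : P ⊔ Subgroup.zpowers (n : G) ⊔ J ≤ (S : Subgroup G) :=
      sup_le (sup_le (hP.trans inf_le_left) (hZN.trans inf_le_left)) hJS
    have hmem : ∀ y ∈ P ⊔ Subgroup.zpowers (n : G) ⊔ J, a * y * a⁻¹ ∈ (S : Subgroup G) := by
      have hsub : P ⊔ Subgroup.zpowers (n : G) ⊔ J ≤
          (S : Subgroup G).comap (MulAut.conj a).toMonoidHom := by
        refine sup_le (sup_le (fun y hy => ?_) fun y hy => ?_) fun y hy => ?_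
        · show a * y * a⁻¹ ∈ (S : Subgroup G)
          rw [← ha y (Subgroup.mem_sup_left hy)]
          exact hk.mem_S (Subgroup.mem_sup_left hy)
        · show a * y * a⁻¹ ∈ (S : Subgroup G)
          rw [hZfix y hy]
          exact (hZN hy).1
        · exact hJS ((Subgroup.mem_normalizer_iff.1 haN y).1 hy)
      exact fun y hy => hsub hy
    have hm : FusSys.Mor F (P ⊔ Subgroup.zpowers (n : G) ⊔ J) (fun y => a * y * a⁻¹) :=
      FusSys.mor_gfs.2 ⟨hle, hmem, a, fun _ _ => rfl⟩
    refine ⟨_, (FusSys.mor_normalizerSystem hN).2 ⟨hm.mono le_sup_left, sup_le hP hZN,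
      fun y hy => ?_, _, hm, fun _ _ => rfl, fun y => ?_⟩, fun y hy => ?_, hZfix⟩
    · rw [hT]; exact hmem y (Subgroup.mem_sup_left hy)
    · refine ⟨fun hy => ⟨a⁻¹ * y * a, (Subgroup.mem_normalizer_iff''.1 haN y).1 hy, by group⟩, ?_⟩
      rintro ⟨q, hq, rfl⟩
      exact (Subgroup.mem_normalizer_iff.1 haN q).1 hq
    · show a * y * a⁻¹ = f y
      rw [← ha y (Subgroup.mem_sup_left hy), hkf y hy]
  have hxF : (n : G) ∈ F.center := by
    rcases h with h | ⟨z, hz, hzx⟩ | h
    · exact (FusSys.thompson_center_eq S.2 hF (Or.inl h) hN).le hxN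
    · exact FusSys.agemo_inf_center_le FusSys.posFunctor_jW FusSys.quadCond_jW S.2 hF hN
        ⟨Subgroup.subset_closure ⟨z, hz, hzx⟩, hxN⟩
    · exact (FusSys.thompson_center_eq S.2 hF (Or.inr (FusSys.free_gfs S h)) hN).le hxN
  obtain ⟨-, hc⟩ := FusSys.isCentral_iff.1 (FusSys.isCentral_center (F := F))
  have hm : FusSys.Mor F (Subgroup.zpowers (n : G)) (fun y => g * y * g⁻¹) := by
    refine FusSys.mor_gfs.2 ⟨hZN.trans inf_le_left, ?_, g, fun _ _ => rfl⟩
    rintro _ ⟨i, rfl⟩
    show g * (n : G) ^ i * g⁻¹ ∈ _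
    rw [← conj_zpow]
    exact zpow_mem hg i
  obtain ⟨k, -, hkf, hkc⟩ := hc _ _ hm
  exact (hkf _ (Subgroup.mem_zpowers _)).symm.trans (hkc _ hxF)

end Cfsg.Agent.S2799
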