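import Cfsg.Statements.S1945
import Cfsg.Agent.QdFree.IsolatedCenter
import Cfsg.Agent.S2799
import Cfsg.Agent.Core.Fitting
import Cfsg.Agent.Layer.PConstraint
import Cfsg.Agent.QdFree.ZJControl

set_option autoImplicit false
open Cfsg
open Subgroup
open Cfsg.Agent

namespace Cfsg.Agent.S1945

/-- Let S be a Sylow p-subgroup of the finite group G, and assume that p is odd or that G is solvable. The elements of S each of which is its only G-conjugate in S form a subgroup W of Z(S); W is then a direct factor of Z(S): there is a subgroup K of Z(S) with W ∩ K = 1 and WK = Z(S). (For p = 2 and G not solvable this can fail.) -/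
theorem result {G : Type*} [Group G] [Finite G] {p : ℕ} [Fact p.Prime] (S : Sylow p G) (h : p ≠ 2 ∨ Group.IsSolvable G) :
    ∃ W K : Subgroup G, (∀ x : G, x ∈ W ↔ (x ∈ (S : Subgroup G) ∧ ∀ g : G, g * x * g⁻¹ ∈ (S : Subgroup G) → g * x * g⁻¹ = x)) ∧
      K ≤ ((S : Subgroup G) ⊓ Subgroup.centralizer ((S : Subgroup G) : Set G)) ∧ W ⊓ K = ⊥ ∧ W ⊔ K = ((S : Subgroup G) ⊓ Subgroup.centralizer ((S : Subgroup G) : Set G)) := by
  classical
  set Z := (S : Subgroup G) ⊓ centralizer ((S : Subgroup G) : Set G)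
  let Iso : G → Prop := fun x => x ∈ (S : Subgroup G) ∧
    ∀ g : G, g * x * g⁻¹ ∈ (S : Subgroup G) → g * x * g⁻¹ = x
  have hIsoZ : ∀ x, Iso x → x ∈ Z := fun x hx => mem_inf.mpr ⟨hx.1, mem_centralizer_iff.mpr fun s hs =>
    mul_inv_eq_iff_eq_mul.mp (hx.2 s (mul_mem (mul_mem hs hx.1) (inv_mem hs)))⟩
  suffices h' : ∃ N A : Subgroup G, (S : Subgroup G) ≤ N ∧ A ≤ (S : Subgroup G) ∧
      (∀ a ∈ A, ∀ b ∈ A, Commute a b) ∧ (∀ n ∈ N, ∀ a ∈ A, n * a * n⁻¹ ∈ A) ∧ Z ≤ A ∧
      ∀ x ∈ Z, (∀ n ∈ N, n * x = x * n) → Iso x by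
    obtain ⟨N, A, hSN, hAS, hAc, hAN, hZA, hiso⟩ := h'
    obtain ⟨K, hKZ, hinf, hsup⟩ := QdFree.IsolatedCenter.exists_complement S hSN hAS hAc hAN hZA
    refine ⟨(S : Subgroup G) ⊓ centralizer (N : Set G), K, fun x => ⟨fun hx => ?_, fun hx => ?_⟩,
      hKZ, hinf, hsup⟩
    · exact hiso x ⟨hx.1, centralizer_le hSN hx.2⟩ fun n hn => mem_centralizer_iff.mp hx.2 n hn
    · exact mem_inf.mpr ⟨hx.1, mem_centralizer_iff.mpr fun n hn =>
        mul_inv_eq_iff_eq_mul.mp (hx.2 n (hAS (hAN n hn x (hZA (hIsoZ x hx)))))⟩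
  by_cases hp : p ≠ 2
  · set J := Cfsg.thompsonSubgroupAOf (S : Subgroup G)
    set A := Cfsg.centerThompsonAOf (S : Subgroup G) with hA
    have hJS : J ≤ (S : Subgroup G) := map_subtype_le _
    refine ⟨normalizer (J : Set G), A, ?_, inf_le_left.trans hJS, fun a ha b hb =>
      (mem_centralizer_iff.mp hb.2 a ha.1), fun n hn a ha => ?_, fun x hx => ?_, fun x hx hfix => ?_⟩
    · have hJn : (Cfsg.thompsonSubgroupA ↥(S : Subgroup G)).Normal := by
        refine ⟨fun x hx g => ?_⟩
        have hle : (Cfsg.thompsonSubgroupA ↥(S : Subgroup G)).map (MulAut.conj g).toMonoidHom ≤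
            Cfsg.thompsonSubgroupA ↥(S : Subgroup G) := by
          rw [Cfsg.thompsonSubgroupA, Fusion.map_sSup_eq]
          refine sSup_le ?_
          rintro _ ⟨B, hB, rfl⟩
          refine le_sSup (α := Subgroup ↥(S : Subgroup G)) ⟨?_, fun C hC => ?_⟩
          · have := hB.1
            exact Subgroup.map_isMulCommutative B _
          · rw [card_map_of_injective (MulAut.conj g).injective]; exact hB.2 C hC
        exact hle ⟨x, hx, rfl⟩
      intro s hs
      refine QdFree.ZJControl.mem_normalizer_of_conj fun x hx => ?_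
      obtain ⟨y, hy, rfl⟩ := hx
      exact ⟨_, hJn.conj_mem y hy ⟨s, hs⟩, rfl⟩
    · refine ⟨(mem_normalizer_iff.mp hn a).mp ha.1, mem_centralizer_iff.mpr fun y hy => ?_⟩
      have h1 := mem_centralizer_iff.mp ha.2 _ ((mem_normalizer_iff''.mp hn y).mp hy)
      calc y * (n * a * n⁻¹) = n * ((n⁻¹ * y * n) * a) * n⁻¹ := by group
        _ = _ := by rw [h1]; group
    · rw [hA, Fusion.centerThompsonAOf_eq_zInter]
      exact mem_sInf.mpr fun B hB => Fusion.mem_of_commute hB hx.1 (pow_zero x) fun b hb =>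
        mem_centralizer_iff.mp hx.2 b (hB.le hb)
    · refine ⟨hx.1, Cfsg.Agent.S2799.result S x hx.1 ?_ (Or.inl hp)⟩
      have hxN : x ∈ normalizer (J : Set G) := mem_normalizer_iff.mpr fun y => by
        constructor
        · intro hy
          rw [← mem_centralizer_iff.mp hx.2 y (hJS hy), mul_inv_cancel_right]; exact hy
        · intro hy
          have h1 := mem_centralizer_iff.mp hx.2 _ (hJS hy)
          rw [inv_mul_cancel_right] at h1
          have h3 : x * y * x⁻¹ = y := mul_left_cancel (a := x) (by rw [← h1])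
          rwa [h3] at hy
      exact ⟨⟨x, hxN⟩, mem_center_iff.mpr fun g => Subtype.ext (hfix g g.2), rfl⟩
  · have : Group.IsSolvable G := h.resolve_left hp
    set O := Cfsg.pPrimeCore p G
    let q : G →* G ⧸ O := QuotientGroup.mk' O
    have hq : Function.Surjective q := QuotientGroup.mk'_surjective O
    have hker : q.ker = O := QuotientGroup.ker_mk' O
    have hkerc : (Nat.card q.ker).Coprime p := by rw [hker]; exact Core.coprime_card_pPrimeCore
    set T := Cfsg.pCore p (G ⧸ O)
    have : Group.IsSolvable (G ⧸ O) := solvable_of_surjective hq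
    have hCT : centralizer (T : Set (G ⧸ O)) ≤ T := by
      have h := Core.centralizer_fittingSubgroup_le (G := G ⧸ O)
      rwa [Layer.fitting_eq_pCore_of_pPrimeCore_eq_bot Core.pPrimeCore_quotient_eq_bot] at h
    have hinj : ∀ x ∈ (S : Subgroup G), q x = 1 → x = 1 := fun x hx hx1 => by
      have h1 : x ∈ (S : Subgroup G) ⊓ q.ker := ⟨hx, hx1⟩
      rwa [Subgroup.inf_eq_bot_of_coprime (Layer.coprime_card_of_isPGroup S.isPGroup' hkerc), mem_bot] at h1
    set T0 := (S : Subgroup G) ⊓ T.comap q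
    have hT0map : T0.map q = T := by
      refine le_antisymm (map_le_iff_le_comap.mpr inf_le_right) fun t ht => ?_
      obtain ⟨s, hs, hse⟩ := Core.pCore_le_sylow (S.mapSurjective hq) ht
      exact ⟨s, ⟨hs, show q s ∈ T by rw [hse]; exact ht⟩, hse⟩
    have hNtop : (normalizer (T0 : Set G)).map q = ⊤ := by
      rw [Layer.map_normalizer_of_coprime hq hkerc (S.isPGroup'.to_le inf_le_left), hT0map]
      exact normalizer_eq_top_iff.mpr inferInstance
    refine ⟨normalizer (T0 : Set G), T0 ⊓ centralizer (T0 : Set G), ?_, inf_le_left.trans inf_le_left,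
      fun a ha b hb => mem_centralizer_iff.mp hb.2 a ha.1, fun n hn a ha => ?_, fun x hx => ?_, fun x hx hfix => ?_⟩
    · intro s hs
      refine QdFree.ZJControl.mem_normalizer_of_conj fun x hx => mem_inf.mpr ⟨mul_mem (mul_mem hs hx.1) (inv_mem hs), ?_⟩
      show q (s * x * s⁻¹) ∈ T
      rw [map_mul, map_mul, map_inv]
      exact (inferInstance : T.Normal).conj_mem _ hx.2 (q s)
    · refine ⟨(mem_normalizer_iff.mp hn a).mp ha.1, mem_centralizer_iff.mpr fun y hy => ?_⟩
      have h1 := mem_centralizer_iff.mp ha.2 _ ((mem_normalizer_iff''.mp hn y).mp hy)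
      calc y * (n * a * n⁻¹) = n * ((n⁻¹ * y * n) * a) * n⁻¹ := by group
        _ = _ := by rw [h1]; group
    · have hxT : q x ∈ centralizer (T : Set (G ⧸ O)) := mem_centralizer_iff.mpr fun t ht => by
        obtain ⟨s, hs, rfl⟩ := hT0map.ge ht
        rw [← map_mul, ← map_mul, mem_centralizer_iff.mp hx.2 s hs.1]
      exact ⟨⟨hx.1, hCT hxT⟩, centralizer_le inf_le_left hx.2⟩
    · refine ⟨hx.1, fun g hg => ?_⟩
      obtain ⟨n, hn, hne⟩ := hNtop.ge (mem_top (q g))
      refine (mul_inv_eq_one.mp (hinj _ (mul_mem hg (inv_mem hx.1)) ?_))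
      have h1 : q n * q x = q x * q n := by rw [← map_mul, ← map_mul, hfix n hn]
      rw [map_mul, map_mul, map_mul, map_inv, map_inv, ← hne, h1, mul_inv_cancel_right, mul_inv_cancel]

end Cfsg.Agent.S1945
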