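import Cfsg.Statements.S1946
import Cfsg.Agent.Fusion.OmegaFixed
import Cfsg.Agent.Fusion.Control

set_option autoImplicit false
open Cfsg

open scoped commutatorElement

namespace Cfsg.Agent.S1946

set_option maxHeartbeats 400000
open Subgroup

theorem mem_centralizer_of_omega {G : Type*} [Group G] [Finite G] {p : ℕ} [Fact p.Prime] (P : Sylow p G)
    (h : ∀ a ∈ (P : Subgroup G), (a ^ p = 1 ∨ (p = 2 ∧ a ^ 4 = 1)) → ∀ g : G,
      g * a * g⁻¹ ∈ (P : Subgroup G) → ∃ x ∈ (P : Subgroup G), g * a * g⁻¹ = x * a * x⁻¹)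
    {Q : Subgroup G} (hQ : Q ≤ (P : Subgroup G)) {g : G} (hg : g ∈ normalizer (Q : Set G))
    (hgo : Nat.Coprime (orderOf g) p) : g ∈ centralizer (Q : Set G) := by
  set L := fun i => (P : Subgroup G).lowerCentralSeries i with hL
  obtain ⟨c, hc⟩ : ∃ c, L c = ⊥ := by
    have := P.2.isNilpotent
    exact (isNilpotent_iff_lowerCentralSeries (S := (P : Subgroup G))).mp this
  set Qf := fun i => Q ⊓ ⨅ n : ℕ, (L i).comap (MulAut.conj (g ^ n)).toMonoidHom with hQf
  have memQf : ∀ {i z}, z ∈ Qf i ↔ z ∈ Q ∧ ∀ n : ℕ, g ^ n * z * (g ^ n)⁻¹ ∈ L i := by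
    intro i z
    simp only [hQf, mem_inf, mem_iInf, mem_comap, MulEquiv.coe_toMonoidHom, MulAut.conj_apply]
  have hpQ : ∀ n : ℕ, ∀ z ∈ Q, g ^ n * z * (g ^ n)⁻¹ ∈ Q := fun n z hz =>
    (mem_normalizer_iff.mp (pow_mem hg n) z).mp hz
  have hQfn : ∀ i, g ∈ normalizer (Qf i : Set G) := by
    intro i
    rw [mem_normalizer_iff_map_conj_eq]
    refine eq_of_le_of_card_ge ?_ (card_map_of_injective (MulAut.conj g).injective).ge
    rintro _ ⟨z, hz, rfl⟩
    obtain ⟨hzQ, hzL⟩ := memQf.mp hz
    refine memQf.mpr ⟨(mem_normalizer_iff.mp hg z).mp hzQ, fun n => ?_⟩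
    have := hzL (n + 1)
    rw [pow_succ] at this
    simpa [mul_assoc] using this
  have key : ∀ k i, i + k = c → ∀ z ∈ Qf i, g * z * g⁻¹ = z := by
    intro k
    induction k with
    | zero =>
      intro i hi z hz
      have := (memQf.mp hz).2 0
      rw [add_zero] at hi
      rw [hi, hc, mem_bot] at this
      simp at this
      simp [this]
    | succ k ih =>
      intro i hi
      set φ : MulAut ↥(Qf i) := (Qf i).normalizerMonoidHom ⟨g, hQfn i⟩ with hφ
      have hφo : (orderOf φ).Coprime p := hgo.coprime_dvd_left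
        ((orderOf_map_dvd (Qf i).normalizerMonoidHom _).trans (by rw [Subgroup.orderOf_mk]))
      suffices e : φ = 1 by
        intro z hz
        exact congrArg (fun f : MulAut ↥(Qf i) => ((f ⟨z, hz⟩ : ↥(Qf i)) : G)) e
      refine Fusion.eq_one_of_fixes_omega ((P.2.to_le hQ).to_le inf_le_left) φ hφo fun a ha => ?_
      obtain ⟨haQ, haL⟩ := memQf.mp a.2
      have haL0 : (a : G) ∈ L i := by simpa using haL 0
      have hord : ((a : G) ^ p = 1 ∨ (p = 2 ∧ (a : G) ^ 4 = 1)) :=
        ha.imp (fun e => by rw [← SubmonoidClass.coe_pow, e]; rfl)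
          (fun e => ⟨e.1, by rw [← SubmonoidClass.coe_pow, e.2]; rfl⟩)
      set d := fun n : ℕ => g ^ n * (a : G) * (g ^ n)⁻¹ * (a : G)⁻¹ with hd
      have hdL : ∀ n, d n ∈ Q ∧ d n ∈ L (i + 1) := by
        intro n
        obtain ⟨x, hx, hxe⟩ := h a (hQ haQ) hord (g ^ n) (hQ (hpQ n _ haQ))
        refine ⟨mul_mem (hpQ n _ haQ) (inv_mem haQ), ?_⟩
        rw [hd]
        simp only
        rw [hxe, show x * (a : G) * x⁻¹ * (a : G)⁻¹ = ⁅(a : G), x⁆⁻¹ by
          rw [commutatorElement_def]; group]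
        refine inv_mem ?_
        simp only [hL, Subgroup.lowerCentralSeries_succ]
        exact commutator_mem_commutator haL0 hx
      set z := d 1 with hz
      have hzf : z ∈ Qf (i + 1) := by
        refine memQf.mpr ⟨(hdL 1).1, fun n => ?_⟩
        have : g ^ n * z * (g ^ n)⁻¹ = d (n + 1) * (d n)⁻¹ := by
          rw [hz, hd]
          simp only [pow_succ, pow_one]
          group
        rw [this]
        exact mul_mem (hdL _).2 (inv_mem (hdL _).2)
      have hfix := ih (i + 1) (by omega) z hzf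
      have hzn : ∀ n : ℕ, d n = z ^ n := by
        intro n
        induction n with
        | zero => simp [hd]
        | succ n ihn =>
          have h1 : g * d n * g⁻¹ = d n := by
            rw [ihn]
            exact (map_pow (MulAut.conj g) z n).trans (by rw [MulAut.conj_apply, hfix])
          have h2 : d (n + 1) = (g * d n * g⁻¹) * d 1 := by
            simp only [hd, pow_succ', pow_zero, mul_one]
            group
          rw [h2, h1, ihn, ← hz, ← pow_succ]
      have h2 := hzn (orderOf g)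
      simp only [hd, pow_orderOf_eq_one, one_mul, inv_one, mul_one, mul_inv_cancel] at h2
      obtain ⟨e, he⟩ := IsPGroup.iff_orderOf.mp (P.2.to_le hQ) ⟨z, (hdL 1).1⟩
      rw [Subgroup.orderOf_mk] at he
      have h3 : orderOf z ∣ Nat.gcd (p ^ e) (orderOf g) :=
        Nat.dvd_gcd he.dvd (orderOf_dvd_of_pow_eq_one h2.symm)
      rw [Nat.Coprime.gcd_eq_one (Nat.Coprime.pow_left e hgo.symm), Nat.dvd_one,
        orderOf_eq_one_iff] at h3
      apply Subtype.ext
      show g * (a : G) * g⁻¹ = a
      have h4 : g * (a : G) * g⁻¹ * (a : G)⁻¹ = 1 := by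
        rw [← h3, hz, hd]; simp
      exact mul_inv_eq_one.mp h4
  rw [mem_centralizer_iff]
  intro x hx
  have h1 := key c 0 (zero_add c) x (memQf.mpr ⟨hx, fun n => by simpa [hL] using hQ (hpQ n x hx)⟩)
  calc x * g = g * x * g⁻¹ * g := by rw [h1]
    _ = g * x := by group

/-- Let P be a Sylow p-subgroup of the finite group G. Then G has a normal p-complement if and only if P controls the fusion of its elements of order dividing p (dividing 4 when p = 2): whenever such an element a of P has a G-conjugate g a g⁻¹ in P, that conjugate is already x a x⁻¹ for some x in P. -/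
theorem result {G : Type*} [Group G] [Finite G] {p : ℕ} [Fact p.Prime] (P : Sylow p G) :
    Cfsg.HasNormalPComplement p G ↔
      ∀ a ∈ (P : Subgroup G), (a ^ p = 1 ∨ (p = 2 ∧ a ^ 4 = 1)) → ∀ g : G, g * a * g⁻¹ ∈ (P : Subgroup G) →
        ∃ x ∈ (P : Subgroup G), g * a * g⁻¹ = x * a * x⁻¹ := by
  constructor
  · intro hG a ha _ g hga
    obtain ⟨s, hs, hse⟩ := Fusion.exists_mem_conj_eq_of_frobenius P
      (fun Q hQ => fun y hy hy' =>
        Fusion.mem_centralizer_of_hasNormalPComplement hG (P.2.to_le hQ) hy hy')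
      (Fusion.alperinChain_of_subset P (A := {a}) (g := g⁻¹) (Set.singleton_subset_iff.mpr ha)
        (by rw [Fusion.conjSet, Set.image_singleton, Set.singleton_subset_iff, inv_inv]; exact hga))
    exact ⟨s⁻¹, inv_mem hs, by simpa using hse a rfl⟩
  · intro h
    exact Fusion.hasNormalPComplement_of_frobenius_sylow P
      fun Q hQ g hg hgo => mem_centralizer_of_omega P h hQ hg hgo

end Cfsg.Agent.S1946
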