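import Cfsg.Statements.S1947
import Cfsg.Agent.Fusion.Frobenius
import Cfsg.Agent.S4126

set_option autoImplicit false
open Cfsg

namespace Cfsg.Agent.S1947

/-- Let G be a finite group and p a prime. If every element of G of order dividing p (dividing 4 when p = 2) lies in some fixed term Z_n(G) of the upper central series, then G has a normal p-complement. -/
theorem result {G : Type*} [Group G] [Finite G] {p : ℕ} [Fact p.Prime] (n : ℕ)
    (h : ∀ a : G, (a ^ p = 1 ∨ (p = 2 ∧ a ^ 4 = 1)) → a ∈ Subgroup.upperCentralSeries G n) : Cfsg.HasNormalPComplement p G := by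
  refine Cfsg.Agent.Fusion.hasNormalPComplement_of_frobenius fun Q hQ g hg hgo => ?_
  have key : ∀ i, ∀ x ∈ Q, x ∈ Subgroup.upperCentralSeries G i → Commute g x := by
    intro i
    induction i with
    | zero =>
      intro x _ hx
      rw [Subgroup.upperCentralSeries_zero, Subgroup.mem_bot] at hx
      subst hx
      exact Commute.one_right g
    | succ i ih =>
      intro x hxQ hx
      set w := g * x * g⁻¹ * x⁻¹ with hwdef
      have hwQ : w ∈ Q :=
        mul_mem ((Subgroup.mem_normalizer_iff.mp hg x).mp hxQ) (inv_mem hxQ)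
      have hwZ : w ∈ Subgroup.upperCentralSeries G i := by
        have h1 := (Subgroup.mem_upperCentralSeries_succ_iff.mp hx) g
        have e : w = (x * g * x⁻¹ * g⁻¹)⁻¹ := by rw [hwdef]; group
        rw [e]; exact inv_mem h1
      have hgw : Commute g w := ih w hwQ hwZ
      have hiter : ∀ m : ℕ, g ^ m * x * (g ^ m)⁻¹ = w ^ m * x := by
        intro m
        induction m with
        | zero => simp
        | succ m ihm =>
          calc g ^ (m + 1) * x * (g ^ (m + 1))⁻¹ = g * (g ^ m * x * (g ^ m)⁻¹) * g⁻¹ := by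
                rw [pow_succ']; group
            _ = (g * w ^ m) * x * g⁻¹ := by rw [ihm]; group
            _ = w ^ m * (g * x * g⁻¹) := by rw [(hgw.pow_right m).eq]; group
            _ = _ := by rw [hwdef, pow_succ]; group
      have h1 : w ^ orderOf g = 1 := by
        have h5 := hiter (orderOf g)
        rw [pow_orderOf_eq_one] at h5
        simpa using h5.symm
      obtain ⟨k, hk⟩ := IsPGroup.iff_orderOf.mp hQ ⟨w, hwQ⟩
      rw [Subgroup.orderOf_mk] at hk
      have h2 : orderOf w ∣ Nat.gcd (orderOf g) (p ^ k) :=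
        Nat.dvd_gcd (orderOf_dvd_of_pow_eq_one h1) hk.dvd
      rw [(hgo.pow_right k).gcd_eq_one, Nat.dvd_one, orderOf_eq_one_iff, hwdef] at h2
      exact (mul_inv_eq_iff_eq_mul.mp (mul_inv_eq_one.mp h2))
  refine Cfsg.Agent.S4126.le_centralizer_of_fixes_four hQ (A := Subgroup.zpowers g)
    (Subgroup.zpowers_le.mpr hg) (by rwa [Nat.card_zpowers]) ?_ (Subgroup.mem_zpowers g)
  intro v hv hvp a ha
  obtain ⟨j, rfl⟩ := ha
  exact ((key n v hv (h v hvp)).zpow_left j).eq

end Cfsg.Agent.S1947
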