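import Cfsg.Statements.S1948
import Cfsg.Agent.Layer.PConstraint

set_option autoImplicit false
open Cfsg

namespace Cfsg.Agent.S1948

/-- Let S be a Sylow p-subgroup of the finite group G. Then G = N_G(S)·O_{p'}(G) if and only if G is p-constrained and N_G(S) controls fusion in S, in the sense that whenever a subgroup Q of S has a conjugate g Q g⁻¹ inside S, the element g is a product n c with n normalizing S and c centralizing Q. -/
theorem result {G : Type*} [Group G] [Finite G] {p : ℕ} [Fact p.Prime] (S : Sylow p G) :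
    Subgroup.normalizer ((S : Subgroup G) : Set G) ⊔ Cfsg.pPrimeCore p G = ⊤ ↔
      (Cfsg.IsPConstrained p G ∧
        ∀ Q : Subgroup G, Q ≤ (S : Subgroup G) → ∀ g : G, Q.map (MulAut.conj g).toMonoidHom ≤ (S : Subgroup G) →
          ∃ n ∈ Subgroup.normalizer ((S : Subgroup G) : Set G), ∃ c ∈ Subgroup.centralizer (Q : Set G), g = n * c) := by
  classical
  set N := Cfsg.pPrimeCore p G with hN
  set f := QuotientGroup.mk' N with hf
  have hfs : Function.Surjective f := QuotientGroup.mk'_surjective N
  have hkerN : f.ker = N := QuotientGroup.ker_mk' N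
  have hNcop : (Nat.card N).Coprime p := Agent.Core.coprime_card_pPrimeCore
  have hSN : (S : Subgroup G) ⊓ N = ⊥ := Agent.Layer.inf_eq_bot_of_isPGroup S.isPGroup' hNcop
  set T : Sylow p (G ⧸ N) := S.mapSurjective hfs with hT
  have hTc : (T : Subgroup (G ⧸ N)) = (S : Subgroup G).map f := rfl
  constructor
  · intro htop
    constructor
    · rw [Agent.Layer.isPConstrained_iff_selfCentral]
      have : (T : Subgroup (G ⧸ N)).Normal := by
        rw [← Subgroup.normalizer_eq_top_iff, eq_top_iff, hTc]
        refine le_trans ?_ (Subgroup.le_normalizer_map f)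
        have h1 := congrArg (Subgroup.map f) htop
        rw [Subgroup.map_sup, Subgroup.map_top_of_surjective f hfs] at h1
        rw [← h1, (Subgroup.map_eq_bot_iff N).mpr hkerN.ge, sup_bot_eq]
      have hsolv : Cfsg.IsPSolvable p (G ⧸ N) := by
        refine ⟨2, ![⊥, (T : Subgroup (G ⧸ N)), ⊤], rfl, rfl, ?_, ?_, ?_⟩
        · rw [Fin.monotone_iff_le_succ]
          intro i
          fin_cases i
          · exact bot_le
          · exact le_top
        · intro i
          fin_cases i
          · exact (inferInstance : (⊥ : Subgroup (G ⧸ N)).Normal)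
          · exact (inferInstance : (T : Subgroup (G ⧸ N)).Normal)
          · exact (inferInstance : (⊤ : Subgroup (G ⧸ N)).Normal)
        · intro i
          fin_cases i
          · left
            obtain ⟨m, hm⟩ := IsPGroup.iff_card.mp T.isPGroup'
            exact ⟨m, (Subgroup.relIndex_bot_left _).trans hm⟩
          · right
            show ((T : Subgroup (G ⧸ N)).relIndex ⊤).Coprime p
            rw [Subgroup.relIndex_top_right, Nat.coprime_comm,
              (Fact.out : p.Prime).coprime_iff_not_dvd]
            exact T.not_dvd_index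
      exact Agent.Layer.pCoreSelfCentral_of_isPSolvable hsolv Agent.Core.pPrimeCore_quotient_eq_bot
    · intro Q hQ g hg
      obtain ⟨n, hn, k, hk, rfl⟩ := Subgroup.mem_sup_of_normal_right.mp (htop ▸ Subgroup.mem_top g)
      refine ⟨n, hn, k, ?_, rfl⟩
      rw [Subgroup.mem_centralizer_iff]
      intro q hq
      have h1 : n * k * q * (n * k)⁻¹ ∈ (S : Subgroup G) := hg ⟨q, hq, rfl⟩
      have h2 : k * q * k⁻¹ ∈ (S : Subgroup G) :=
        (Subgroup.mem_normalizer_iff.mp hn _).mpr (by
          have e : n * (k * q * k⁻¹) * n⁻¹ = n * k * q * (n * k)⁻¹ := by group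
          exact e ▸ h1)
      have h3 : k * q * k⁻¹ * q⁻¹ ∈ (S : Subgroup G) ⊓ N := by
        refine Subgroup.mem_inf.mpr ⟨mul_mem h2 (inv_mem (hQ hq)), ?_⟩
        have e : k * q * k⁻¹ * q⁻¹ = k * (q * k⁻¹ * q⁻¹) := by group
        exact e ▸ mul_mem hk ((inferInstance : N.Normal).conj_mem _ (inv_mem hk) q)
      rw [hSN, Subgroup.mem_bot, mul_inv_eq_one] at h3
      exact (mul_inv_eq_iff_eq_mul.mp h3).symm
  · rintro ⟨hc, hfus⟩
    rw [Agent.Layer.isPConstrained_iff_selfCentral] at hc
    set O := Cfsg.pCore p (G ⧸ N) with hO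
    set R := (S : Subgroup G) ⊓ O.comap f with hR
    have hRf : R.map f = O := by
      apply le_antisymm
      · exact Subgroup.map_le_iff_le_comap.mpr inf_le_right
      · intro y hy
        have hy' : y ∈ (T : Subgroup (G ⧸ N)) := Agent.Core.pCore_le_sylow T hy
        obtain ⟨s, hs, rfl⟩ := hy'
        exact ⟨s, ⟨hs, hy⟩, rfl⟩
    have hRp : IsPGroup p R := S.isPGroup'.to_le inf_le_left
    have hker : (Nat.card f.ker).Coprime p := by rw [hkerN]; exact hNcop
    have hNR : (Subgroup.normalizer (R : Set G)).map f = ⊤ := by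
      rw [Agent.Layer.map_normalizer_of_coprime hfs hker hRp, hRf, Subgroup.normalizer_eq_top_iff]
      exact inferInstanceAs ((Cfsg.pCore p (G ⧸ N)).Normal)
    have key : (Subgroup.normalizer ((S : Subgroup G) : Set G)).map f = ⊤ := by
      rw [eq_top_iff, ← hNR, Subgroup.map_le_iff_le_comap]
      intro h hh
      have hmap : R.map (MulAut.conj h).toMonoidHom ≤ (S : Subgroup G) := by
        rintro _ ⟨x, hx, rfl⟩
        exact ((Subgroup.mem_normalizer_iff.mp hh x).mp hx).1
      obtain ⟨n, hn, c, hcR, rfl⟩ := hfus R inf_le_left h hmap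
      rw [Subgroup.mem_comap, map_mul]
      refine mul_mem ⟨n, hn, rfl⟩ ?_
      have hcO : f c ∈ O := hc (by
        rw [Subgroup.mem_centralizer_iff]
        intro y hy
        obtain ⟨x, hx, rfl⟩ := (hRf.symm ▸ hy : y ∈ R.map f)
        rw [← map_mul, ← map_mul, Subgroup.mem_centralizer_iff.mp hcR x hx])
      obtain ⟨s, hs, hsc⟩ := (Agent.Core.pCore_le_sylow T hcO : f c ∈ (T : Subgroup (G ⧸ N)))
      exact ⟨s, Subgroup.le_normalizer hs, hsc⟩
    have h1 := congrArg (Subgroup.comap f) key
    rwa [Subgroup.comap_map_eq, hkerN, Subgroup.comap_top] at h1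

end Cfsg.Agent.S1948
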