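import Cfsg.Statements.S1949
import Cfsg.Agent.Fusion.OmegaFixed
import Cfsg.Agent.Fusion.Residual
import Cfsg.Agent.Thompson.Basic
import Cfsg.Agent.Core.Solvable

set_option autoImplicit false
set_option maxHeartbeats 1000000
open Cfsg
open Subgroup
open Cfsg.Agent
open scoped commutatorElement

namespace Cfsg.Agent.S1949

/-- Let P be a finite p-group and G a group of automorphisms of P containing the inner automorphisms. Then there is a G-invariant subgroup D of P, contained in the subgroup generated by the elements x⁻¹α(x) with x in P and α in O^p(G), of exponent dividing p when p is odd and dividing 4 when p = 2, with [D, P] ≤ Z(D), such that every automorphism in G of order prime to p that fixes D elementwise is the identity; moreover every maximal abelian subgroup A of D is normal in P and every automorphism in G fixing A elementwise has p-power order. -/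
theorem result {P : Type*} [Group P] [Finite P] {p : ℕ} [Fact p.Prime] (hP : IsPGroup p P)
    (G : Subgroup (MulAut P)) (hG : Cfsg.Inn P ≤ G) :
    ∃ D : Subgroup P,
      (∀ α ∈ G, D.map α.toMonoidHom = D) ∧
      D ≤ Subgroup.closure {y : P | ∃ α ∈ Cfsg.pResidual p ↥G, ∃ x : P, y = x⁻¹ * (α : MulAut P) x} ∧
      (∀ d ∈ D, d ^ p = 1 ∨ (p = 2 ∧ d ^ 4 = 1)) ∧
      ⁅D, (⊤ : Subgroup P)⁆ ≤ D ⊓ Subgroup.centralizer (D : Set P) ∧
      (∀ α ∈ G, (orderOf α).Coprime p → (∀ d ∈ D, α d = d) → α = 1) ∧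
      ∀ A : Subgroup P, A ≤ D → IsMulCommutative ↥A →
        (∀ B : Subgroup P, A ≤ B → B ≤ D → IsMulCommutative ↥B → B = A) →
        A.Normal ∧ ∀ α ∈ G, (∀ a ∈ A, α a = a) → ∃ k : ℕ, orderOf α = p ^ k := by
  classical
  set O := Cfsg.pResidual p ↥G with hO
  set Q := closure {y : P | ∃ α ∈ O, ∃ x : P, y = x⁻¹ * (α : MulAut P) x} with hQ
  have hOn : O.Normal := Fusion.pResidualNormal
  -- invariance
  have hinn : ∀ (K : Subgroup P), (∀ α ∈ G, K.map α.toMonoidHom = K) → K.Normal := fun K hK =>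
    ⟨fun n hn g => by
      rw [← hK (MulAut.conj g) (hG ⟨g, rfl⟩)]
      exact ⟨n, hn, rfl⟩⟩
  have inv_of : ∀ (K : Subgroup P), (∀ α ∈ G, ∀ x ∈ K, α x ∈ K) → ∀ α ∈ G, K.map α.toMonoidHom = K :=
    fun K hK α hα => eq_of_le_of_card_ge (map_le_iff_le_comap.mpr fun x hx => hK α hα x hx)
      (le_of_eq (card_map_of_injective α.injective).symm)
  have hQinv : ∀ α ∈ G, ∀ x ∈ Q, α x ∈ Q := by
    intro α hα x hx
    refine (show Q ≤ Q.comap α.toMonoidHom from (closure_le _).mpr ?_) hx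
    rintro _ ⟨β, hβ, y, rfl⟩
    refine subset_closure ⟨⟨α, hα⟩ * β * ⟨α, hα⟩⁻¹, hOn.conj_mem β hβ _, α y, ?_⟩
    change α (y⁻¹ * (β : MulAut P) y) = (α y)⁻¹ * (α * (β : MulAut P) * α⁻¹) (α y)
    simp [MulAut.mul_apply]
  -- a maximal invariant abelian subgroup
  obtain ⟨A₀, ⟨hA₀Q, hA₀inv, hA₀c⟩, hmax⟩ := Set.exists_max_image
    {K : Subgroup P | K ≤ Q ∧ (∀ α ∈ G, ∀ x ∈ K, α x ∈ K) ∧ ∀ x ∈ K, ∀ y ∈ K, x * y = y * x}
    (fun K : Subgroup P => Nat.card K) (Set.toFinite _)
    ⟨⊥, bot_le, fun α _ x hx => by simp [mem_bot.mp hx], fun x hx y _ => by simp [mem_bot.mp hx]⟩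
  have hA₀n : A₀.Normal := hinn _ (inv_of _ hA₀inv)
  set π := QuotientGroup.mk' A₀ with hπ
  set Om := Cfsg.omegaOne p ((⊤ : Subgroup (P ⧸ A₀)) ⊓ centralizer ((⊤ : Subgroup (P ⧸ A₀)) : Set (P ⧸ A₀))) with hOm
  have hOmc : ∀ u ∈ Om, ∀ v, u * v = v * u := fun u hu v =>
    (mem_centralizer_iff.mp (Thompson.omegaOne_le p _ hu).2 v (mem_top v)).symm
  have hOmp : ∀ u ∈ Om, u ^ p = 1 := fun u hu =>
    (Thompson.omegaOne_ea (p := p) (H := (⊤ : Subgroup (P ⧸ A₀)) ⊓ centralizer ((⊤ : Subgroup (P ⧸ A₀)) : Set (P ⧸ A₀)))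
      (inf_le_right.trans (centralizer_le (SetLike.coe_subset_coe.mpr inf_le_left)))).2 u hu
  set D₁ := Q ⊓ centralizer (A₀ : Set P) ⊓ Om.comap π with hD₁
  have hmemOm : ∀ {x : P}, x ^ p ∈ A₀ → (∀ y, x⁻¹ * y⁻¹ * x * y ∈ A₀) → x ∈ Om.comap π := by
    intro x hxp hxc
    refine Thompson.mem_omegaOne ⟨mem_top _, mem_centralizer_iff.mpr fun v _ => ?_⟩ ?_
    · obtain ⟨y, rfl⟩ := QuotientGroup.mk'_surjective A₀ v
      rw [← map_mul, ← map_mul, QuotientGroup.mk'_apply, QuotientGroup.mk'_apply, QuotientGroup.eq]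
      have := hxc y
      rwa [show x⁻¹ * y⁻¹ * x * y = (y * x)⁻¹ * (x * y) by group] at this
    · rw [← map_pow, QuotientGroup.mk'_apply, QuotientGroup.eq_one_iff]; exact hxp
  have hD₁comm : ∀ d ∈ D₁, ∀ y : P, d⁻¹ * y⁻¹ * d * y ∈ A₀ := by
    intro d hd y
    rw [← QuotientGroup.eq_one_iff]
    have := hOmc _ hd.2 (π y)
    simp only [QuotientGroup.mk_mul, QuotientGroup.mk_inv]
    calc (π d)⁻¹ * (π y)⁻¹ * π d * π y = (π y * π d)⁻¹ * (π d * π y) := by group
      _ = 1 := by rw [← this, inv_mul_cancel]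
  have hD₁pow : ∀ d ∈ D₁, d ^ p ∈ A₀ := fun d hd => by
    rw [← QuotientGroup.eq_one_iff]
    exact (map_pow π d p).trans (hOmp _ hd.2)
  have hD₁inv : ∀ α ∈ G, ∀ x ∈ D₁, α x ∈ D₁ := by
    intro α hα x hx
    refine ⟨⟨hQinv α hα x hx.1.1, mem_centralizer_iff.mpr fun a ha => ?_⟩, hmemOm ?_ fun y => ?_⟩
    · have h1 := mem_centralizer_iff.mp hx.1.2 (α⁻¹ a) (hA₀inv α⁻¹ (inv_mem hα) a ha)
      have := congrArg α h1
      simpa using this
    · rw [← map_pow]; exact hA₀inv α hα _ (hD₁pow x hx)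
    · have := hA₀inv α hα _ (hD₁comm x hx (α⁻¹ y))
      simpa using this
  have hA₀D₁ : A₀ ≤ D₁ := fun a ha => ⟨⟨hA₀Q ha, mem_centralizer_iff.mpr fun b hb => hA₀c b hb a ha⟩,
    hmemOm (pow_mem ha p) fun y => by
      have := mul_mem (inv_mem ha) (hA₀n.conj_mem a ha y⁻¹)
      rwa [inv_inv, ← mul_assoc, ← mul_assoc] at this⟩
  have hcenter : D₁ ⊓ centralizer (D₁ : Set P) = A₀ := by
    refine (eq_of_le_of_card_ge (le_inf hA₀D₁ fun a ha => mem_centralizer_iff.mpr fun d hd =>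
      (mem_centralizer_iff.mp hd.1.2 a ha).symm) (hmax _ ⟨fun x hx => hx.1.1.1, fun α hα x hx =>
        ⟨hD₁inv α hα x hx.1, mem_centralizer_iff.mpr fun d hd => ?_⟩, fun x hx y hy =>
        mem_centralizer_iff.mp hy.2 x hx.1⟩)).symm
    have h1 := congrArg α (mem_centralizer_iff.mp hx.2 _ (hD₁inv α⁻¹ (inv_mem hα) d hd))
    simpa using h1
  have hQc : Q ⊓ centralizer (D₁ : Set P) ≤ A₀ := by
    have hCn : (Q ⊓ centralizer (D₁ : Set P)).Normal := hinn _ (inv_of _ fun α hα x hx =>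
      ⟨hQinv α hα x hx.1, mem_centralizer_iff.mpr fun d hd => by
        have h1 := congrArg α (mem_centralizer_iff.mp hx.2 _ (hD₁inv α⁻¹ (inv_mem hα) d hd))
        simpa using h1⟩)
    by_contra hle
    set N' := (Q ⊓ centralizer (D₁ : Set P)).map π
    have hN'n : N'.Normal := hCn.map π (QuotientGroup.mk'_surjective A₀)
    have hN' : N' ≠ ⊥ := fun h => hle (by
      rwa [Subgroup.map_eq_bot_iff, hπ, QuotientGroup.ker_mk'] at h)
    have := (hP.to_quotient A₀).isNilpotent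
    have hne := Core.inf_center_ne_bot hN'
    obtain ⟨⟨u, hu⟩, hu1⟩ := (ne_bot_iff_exists_ne_one).mp hne
    obtain ⟨u', hu', hu'1, hu'p⟩ : ∃ u' ∈ N' ⊓ center (P ⧸ A₀), u' ≠ 1 ∧ u' ^ p = 1 := by
      obtain ⟨k, hk⟩ := hP.to_quotient A₀ u
      have hex : ∃ k, u ^ p ^ k = 1 := ⟨k, hk⟩
      rcases e : Nat.find hex with _ | i
      · have := Nat.find_spec hex
        rw [e, pow_zero, pow_one] at this
        exact absurd (Subtype.ext this) hu1
      · refine ⟨u ^ p ^ i, pow_mem hu _, Nat.find_min hex (by omega), ?_⟩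
        rw [← pow_mul, ← pow_succ, ← e]; exact Nat.find_spec hex
    obtain ⟨x, hx, rfl⟩ := hu'.1
    refine hu'1 ((QuotientGroup.eq_one_iff x).mpr ?_)
    have hxD : x ∈ D₁ := ⟨⟨hx.1, centralizer_le (SetLike.coe_subset_coe.mpr hA₀D₁) hx.2⟩,
      Thompson.mem_omegaOne ⟨mem_top _, mem_centralizer_iff.mpr fun v _ =>
        mem_center_iff.mp hu'.2 v⟩ hu'p⟩
    rw [← hcenter]
    exact ⟨hxD, hx.2⟩
  -- the subgroup of bounded exponent
  have hcl : ∀ x ∈ D₁, ∀ y ∈ D₁, ∀ z ∈ D₁, (x⁻¹ * y⁻¹ * x * y) * z = z * (x⁻¹ * y⁻¹ * x * y) :=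
    fun x hx y _ z hz => mem_centralizer_iff.mp hz.1.2 _ (hD₁comm x hx y)
  have hpos : 0 < p := (Fact.out : p.Prime).pos
  set q := if p = 2 then 4 else p with hq
  have hmul : ∀ x ∈ D₁, ∀ y ∈ D₁, x ^ q = 1 → y ^ q = 1 → (x * y) ^ q = 1 := by
    intro x hx y hy hxq hyq
    have hxc : Commute ⁅y, x⁆ x := by
      have := hcl y⁻¹ (inv_mem hy) x⁻¹ (inv_mem hx) x hx
      rw [inv_inv, inv_inv] at this
      exact this
    have hyc : Commute ⁅y, x⁆ y := by
      have := hcl y⁻¹ (inv_mem hy) x⁻¹ (inv_mem hx) y hy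
      rw [inv_inv, inv_inv] at this
      exact this
    have hpx : ⁅y, x⁆ ^ p = 1 := by
      have hc : Commute (x ^ p) y := mem_centralizer_iff.mp hy.1.2 _ (hD₁pow x hx)
      rw [commutatorElement_def, show y * x * y⁻¹ * x⁻¹ = (y * x * y⁻¹) * x⁻¹ from rfl,
        (Commute.mul_pow ?_ p), conj_pow, inv_pow, ← hc.eq, mul_inv_cancel_right, mul_inv_cancel]
      have h1 : Commute (y * x * y⁻¹ * x⁻¹) x := hxc
      refine Commute.inv_right ?_
      show y * x * y⁻¹ * x = x * (y * x * y⁻¹)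
      calc y * x * y⁻¹ * x = (y * x * y⁻¹ * x⁻¹) * x * x := by group
        _ = x * (y * x * y⁻¹ * x⁻¹) * x := by rw [h1.eq]
        _ = _ := by group
    rw [Fusion.mul_pow_of_commute_commutator hxc hyc, hxq, hyq, one_mul, one_mul]
    have hdvd : p ∣ q.choose 2 := by
      rw [hq]
      rcases eq_or_ne p 2 with rfl | h2
      · decide
      · rw [if_neg h2]
        exact (Fact.out : p.Prime).dvd_choose_self two_ne_zero
          (lt_of_le_of_ne (Fact.out : p.Prime).two_le (Ne.symm h2))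
    obtain ⟨t, ht⟩ := hdvd
    rw [ht, pow_mul, hpx, one_pow]
  let D : Subgroup P :=
    { carrier := {x | x ∈ D₁ ∧ x ^ q = 1}
      one_mem' := ⟨one_mem _, one_pow q⟩
      mul_mem' := fun {x y} hx hy => ⟨mul_mem hx.1 hy.1, hmul x hx.1 y hy.1 hx.2 hy.2⟩
      inv_mem' := fun {x} hx => ⟨inv_mem hx.1, by rw [inv_pow, hx.2, inv_one]⟩ }
  have hDinv : ∀ α ∈ G, ∀ x ∈ D, α x ∈ D := fun α hα x hx =>
    ⟨hD₁inv α hα x hx.1, by rw [← map_pow, hx.2, map_one]⟩
  have hDn : D.Normal := hinn _ (inv_of _ hDinv)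
  have hDcomm : ⁅D, (⊤ : Subgroup P)⁆ ≤ D ⊓ centralizer (D : Set P) := by
    rw [commutator_le]
    intro d hd y _
    have hA : d * y * d⁻¹ * y⁻¹ ∈ A₀ := by
      have := hD₁comm d⁻¹ (inv_mem hd.1) y⁻¹
      rwa [inv_inv, inv_inv] at this
    refine ⟨?_, mem_centralizer_iff.mpr fun z hz => ?_⟩
    · rw [commutatorElement_def, show d * y * d⁻¹ * y⁻¹ = d * (y * d⁻¹ * y⁻¹) by group]
      exact mul_mem hd (hDn.conj_mem _ (inv_mem hd) y)
    · exact (mem_centralizer_iff.mp hz.1.1.2 _ hA).symm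
  -- powers of an automorphism moving by a fixed element
  have hstab : ∀ (α : MulAut P), (orderOf α).Coprime p → ∀ x : P, α (x⁻¹ * α x) = x⁻¹ * α x →
      α x = x := by
    intro α hα x hfix
    set c := x⁻¹ * α x with hc
    have hit : ∀ n : ℕ, (α ^ n) x = x * c ^ n := by
      intro n
      induction n with
      | zero => simp
      | succ n ihn =>
        rw [pow_succ', MulAut.mul_apply, ihn, map_mul, map_pow, hfix,
          show α x = x * c by rw [hc]; group, mul_assoc, ← pow_succ']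
    have h5 := hit (orderOf α)
    rw [pow_orderOf_eq_one, MulAut.one_apply, left_eq_mul] at h5
    obtain ⟨m, hm⟩ := hP c
    have h6 : orderOf c ∣ Nat.gcd (p ^ m) (orderOf α) :=
      Nat.dvd_gcd (orderOf_dvd_of_pow_eq_one hm) (orderOf_dvd_of_pow_eq_one h5)
    rw [Nat.Coprime.gcd_eq_one (hα.symm.pow_left m), Nat.dvd_one, orderOf_eq_one_iff] at h6
    rw [hc, inv_mul_eq_one] at h6
    exact h6.symm
  have hfaith : ∀ α ∈ G, (orderOf α).Coprime p → (∀ d ∈ D, α d = d) → α = 1 := by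
    intro α hα hco hfix
    have hD₁fix : ∀ d ∈ D₁, α d = d := by
      have hmem : ∀ d : P, α d ∈ D₁ ↔ d ∈ D₁ := fun d => ⟨fun h => by
        have := hD₁inv α⁻¹ (inv_mem hα) _ h
        simpa using this, hD₁inv α hα d⟩
      let a : MulAut D₁ :=
        { toFun := fun d => ⟨α d, (hmem d).mpr d.2⟩
          invFun := fun d => ⟨α⁻¹ d, hD₁inv α⁻¹ (inv_mem hα) d d.2⟩
          left_inv := fun d => Subtype.ext (by simp)
          right_inv := fun d => Subtype.ext (by simp)
          map_mul' := fun d e => Subtype.ext (map_mul α (d : P) e) }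
      have ha : a ^ orderOf α = 1 := by
        have hpow : ∀ n, ∀ d : D₁, ((a ^ n) d : P) = (α ^ n) (d : P) := by
          intro n
          induction n with
          | zero => intro d; rfl
          | succ n ihn =>
            intro d
            rw [pow_succ', pow_succ', MulAut.mul_apply, MulAut.mul_apply, ← ihn]
            rfl
        ext d
        rw [hpow, pow_orderOf_eq_one]; rfl
      have h1 := Fusion.eq_one_of_fixes_omega (hP.to_subgroup D₁) a
        (Nat.Coprime.of_dvd_left (orderOf_dvd_of_pow_eq_one ha) hco) (fun x hx => Subtype.ext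
          (hfix x ⟨x.2, by
            rcases hx with hx | ⟨h2, hx⟩
            · rw [hq]
              split_ifs with h2
              · subst h2
                rw [show (4 : ℕ) = 2 * 2 from rfl, pow_mul, ← SubmonoidClass.coe_pow, hx]; simp
              · rw [← SubmonoidClass.coe_pow, hx]; rfl
            · rw [hq, if_pos h2, ← SubmonoidClass.coe_pow, hx]; rfl⟩))
      intro d hd
      exact congrArg Subtype.val (DFunLike.congr_fun h1 (⟨d, hd⟩ : D₁))
    have hQfix : ∀ y ∈ Q, α y = y := fun y hy => by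
      refine hstab α hco y (hD₁fix _ (hA₀D₁ (hQc ⟨(mul_mem (inv_mem hy) (hQinv α hα y hy) : y⁻¹ * α y ∈ Q), ?_⟩)))
      refine mem_centralizer_iff.mpr fun d hd => ?_
      have hyn : y * d * y⁻¹ ∈ D₁ := by
        have := (hinn _ (inv_of _ hD₁inv)).conj_mem d hd y
        exact this
      have h1 : α y * d * (α y)⁻¹ = y * d * y⁻¹ := by
        have := hD₁fix _ hyn
        rwa [map_mul, map_mul, map_inv, hD₁fix d hd] at this
      calc d * (y⁻¹ * α y) = y⁻¹ * (y * d * y⁻¹) * α y := by group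
        _ = y⁻¹ * (α y * d * (α y)⁻¹) * α y := by rw [h1]
        _ = _ := by group
    refine MulEquiv.ext fun x => hstab α hco x (hQfix _ (subset_closure ⟨⟨α, hα⟩, ?_, x, rfl⟩))
    refine Fusion.mem_pResidual_of_coprime ?_
    rwa [← orderOf_submonoid] 
  refine ⟨D, inv_of D hDinv, fun d hd => hd.1.1.1, fun d hd => ?_, hDcomm, hfaith, ?_⟩
  · have := hd.2
    rw [hq] at this
    split_ifs at this with h2
    · exact Or.inr ⟨h2, this⟩
    · exact Or.inl this
  intro A hAD hAc hAmax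
  have hcomA : ∀ x ∈ A, ∀ y ∈ A, x * y = y * x := fun x hx y hy =>
    congrArg Subtype.val (hAc.is_comm.comm ⟨x, hx⟩ ⟨y, hy⟩)
  have hCA : D ⊓ centralizer (A : Set P) ≤ A := by
    intro x hx
    have hB : IsMulCommutative (closure ((A : Set P) ∪ {x}) : Subgroup P) := by
      refine Subgroup.isMulCommutative_closure ?_
      rintro a (ha | rfl) b (hb | rfl)
      · exact hcomA a ha b hb
      · exact mem_centralizer_iff.mp hx.2 a ha
      · exact (mem_centralizer_iff.mp hx.2 b hb).symm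
      · rfl
    have := hAmax _ (fun a ha => subset_closure (Or.inl ha))
      ((closure_le _).mpr (Set.union_subset hAD (Set.singleton_subset_iff.mpr hx.1))) hB
    exact this ▸ subset_closure (Or.inr rfl)
  refine ⟨⟨fun a ha g => ?_⟩, fun α hα hfix => ?_⟩
  · have h1 := hDcomm (commutator_mem_commutator (hAD ha) (mem_top g))
    have h2 : ⁅a, g⁆ ∈ A := hCA ⟨h1.1, centralizer_le (SetLike.coe_subset_coe.mpr hAD) h1.2⟩
    have := mul_mem (inv_mem h2) ha
    rwa [commutatorElement_def, show (a * g * a⁻¹ * g⁻¹)⁻¹ * a = g * a * g⁻¹ by group] at this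
  · obtain ⟨k, m, hm, hkm⟩ := Nat.exists_eq_pow_mul_and_not_dvd (orderOf_pos α).ne' p
      (Fact.out : p.Prime).ne_one
    refine ⟨k, ?_⟩
    have hco : (orderOf (α ^ p ^ k)).Coprime p := by
      rw [orderOf_pow_of_dvd (pow_ne_zero _ hpos.ne') (hkm ▸ dvd_mul_right _ _), hkm,
        Nat.mul_div_cancel_left _ (pow_pos hpos k)]
      exact ((Fact.out : p.Prime).coprime_iff_not_dvd.mpr hm).symm
    have hfix' : ∀ n : ℕ, ∀ a ∈ A, (α ^ n) a = a := by
      intro n
      induction n with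
      | zero => intro a _; rfl
      | succ n ihn => intro a ha; rw [pow_succ, MulAut.mul_apply, hfix a ha, ihn a ha]
    set β := α ^ p ^ k
    have h1 : β = 1 := by
      refine hfaith β (pow_mem hα _) hco fun d hd => hstab β hco d (hfix' _ _ (hCA
        ⟨(mul_mem (inv_mem hd) (hDinv β (pow_mem hα _) d hd) : d⁻¹ * β d ∈ D), mem_centralizer_iff.mpr fun a ha => ?_⟩))
      have hd' : d⁻¹ * a * d ∈ A := by
        have h1 := hDcomm (commutator_mem_commutator (inv_mem hd) (mem_top a))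
        have h2 : ⁅d⁻¹, a⁆ ∈ A := hCA ⟨h1.1, centralizer_le (SetLike.coe_subset_coe.mpr hAD) h1.2⟩
        have := mul_mem h2 ha
        rwa [commutatorElement_def, inv_inv, inv_mul_cancel_right] at this
      have h2 : (β d)⁻¹ * a * β d = d⁻¹ * a * d := by
        have := hfix' (p ^ k) _ hd'
        rwa [map_mul, map_mul, map_inv, hfix' (p ^ k) a ha] at this
      calc a * (d⁻¹ * β d) = d⁻¹ * (d * a * d⁻¹) * β d := by group
        _ = d⁻¹ * β d * a := by
          have h3 : d * a * d⁻¹ = β d * a * (β d)⁻¹ := by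
            have hd'' : d * a * d⁻¹ ∈ A := by
              have h1 := hDcomm (commutator_mem_commutator hd (mem_top a))
              have h2 : ⁅d, a⁆ ∈ A := hCA ⟨h1.1, centralizer_le (SetLike.coe_subset_coe.mpr hAD) h1.2⟩
              have := mul_mem h2 ha
              rwa [commutatorElement_def, inv_mul_cancel_right] at this
            have := hfix' (p ^ k) _ hd''
            rwa [map_mul, map_mul, map_inv, hfix' (p ^ k) a ha, eq_comm] at this
          rw [h3]; group
    have hdvd : orderOf α ∣ p ^ k := orderOf_dvd_of_pow_eq_one h1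
    exact Nat.dvd_antisymm hdvd (hkm ▸ dvd_mul_right _ _)

end Cfsg.Agent.S1949
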