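import Cfsg.Statements.S1951
import Cfsg.Agent.PairPSolv.Count
import Cfsg.Agent.PairPSolv.Degree
import Cfsg.Agent.Blocks.Modular

set_option autoImplicit false
open Cfsg

namespace Cfsg.Agent.S1951

/-- Let p be a prime and P a nontrivial elementary abelian Sylow p-subgroup of a finite nonabelian simple group G whose nonidentity elements are all conjugate in G. Suppose that two elements of P are conjugate in G only if they are conjugate in N_G(P), that the centralizer of every element of order p of P has a normal p-complement, and that every two elements of order p of G generate a p-solvable subgroup. Then p = 2. -/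
theorem result {G : Type*} [Group G] [Finite G] [IsSimpleGroup G] (hG : ¬ IsMulCommutative G) {p : ℕ} [Fact p.Prime] (P : Sylow p G)
    (hP1 : (P : Subgroup G) ≠ ⊥) (hPe : Cfsg.IsElementaryAbelian p (P : Subgroup G))
    (hconj : ∀ x ∈ (P : Subgroup G), ∀ y ∈ (P : Subgroup G), x ≠ 1 → y ≠ 1 → ∃ g : G, g * x * g⁻¹ = y)
    (ha : ∀ x ∈ (P : Subgroup G), ∀ y ∈ (P : Subgroup G), (∃ g : G, g * x * g⁻¹ = y) →
      ∃ n ∈ Subgroup.normalizer ((P : Subgroup G) : Set G), n * x * n⁻¹ = y)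
    (hb : ∀ x ∈ (P : Subgroup G), orderOf x = p → Cfsg.HasNormalPComplement p ↥(Subgroup.centralizer ({x} : Set G)))
    (hc : ∀ x y : G, orderOf x = p → orderOf y = p → Cfsg.IsPSolvable p ↥(Subgroup.closure ({x, y} : Set G))) :
    p = 2 := by
  classical
  have := Fintype.ofFinite G
  have hp : p.Prime := Fact.out
  by_contra hp2
  have hp3 : 3 ≤ p := by have := hp.two_le; omega
  obtain ⟨x, hxP, hx1⟩ := (P : Subgroup G).ne_bot_iff_exists_ne_one.1 hP1 |>
    (fun ⟨y, hy⟩ => ⟨y.1, y.2, fun e => hy (Subtype.ext e)⟩ : _ → ∃ x, x ∈ (P : Subgroup G) ∧ x ≠ 1)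
  have hPo : ∀ u ∈ (P : Subgroup G), u ≠ 1 → orderOf u = p := fun u hu hu1 =>
    orderOf_eq_prime (hPe.2 u hu) hu1
  have hxo := hPo x hxP hx1
  haveI := hPe.1
  have hcomm : ∀ a ∈ (P : Subgroup G), ∀ b ∈ (P : Subgroup G), a * b = b * a := fun a ha b hb => by
    have := mul_comm' (⟨a, ha⟩ : (P : Subgroup G)) ⟨b, hb⟩
    exact congrArg Subtype.val this
  have hab : ∀ A : Subgroup G, IsPGroup p A → ∀ a ∈ A, ∀ b ∈ A, a * b = b * a := by
    intro A hA a ha b hb
    obtain ⟨T, hT⟩ := hA.exists_le_sylow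
    obtain ⟨c, hc'⟩ := MulAction.exists_smul_eq G T P
    have hm : ∀ w ∈ A, c * w * c⁻¹ ∈ (P : Subgroup G) := fun w hw => hc' ▸ ⟨w, hT hw, rfl⟩
    have := hcomm _ (hm a ha) _ (hm b hb)
    rw [show c * a * c⁻¹ * (c * b * c⁻¹) = c * (a * b) * c⁻¹ by group,
      show c * b * c⁻¹ * (c * a * c⁻¹) = c * (b * a) * c⁻¹ by group] at this
    simpa using this
  have hC := hb x hxP hxo
  obtain ⟨P₀, K, hK⟩ := PairPSolv.exists_centData ⟨1, by rw [hxo, pow_one]⟩ hC
  have hPle : (P : Subgroup G) ≤ Subgroup.centralizer ({x} : Set G) := fun u hu =>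
    Subgroup.mem_centralizer_singleton_iff.2 (hcomm u hu x hxP)
  have hq : Nat.card P₀ = Nat.card (P : Subgroup G) := by
    rw [show Nat.card P₀ = Nat.card (P.subtype hPle) from
      (Sylow.card_eq_multiplicity P₀).trans (Sylow.card_eq_multiplicity (P.subtype hPle)).symm]
    exact Nat.card_congr (Subgroup.subgroupOfEquivOfLe hPle).toEquiv
  rw [hq] at hK
  set q := Nat.card (P : Subgroup G) with hqdef
  have hpq : p ≤ q := by
    have h1 : orderOf (⟨x, hxP⟩ : (P : Subgroup G)) ∣ q := orderOf_dvd_natCard _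
    rw [← Subgroup.orderOf_coe, hxo] at h1
    exact Nat.le_of_dvd Nat.card_pos h1
  have hq3 : 3 ≤ q := hp3.trans hpq
  obtain ⟨M, hM⟩ := Blocks.exists_isPModular p hp
  -- the count
  have hrat : ∀ b, 1 ≤ b → b < p → ∃ n : G, n * x * n⁻¹ = x ^ b := fun b hb1 hbp =>
    hconj x hxP _ (pow_mem hxP b) hx1 (fun e => by
      have := orderOf_dvd_of_pow_eq_one e
      rw [hxo] at this
      exact absurd (Nat.le_of_dvd (by omega) this) (by omega))
  have hsing : ∀ g : G, p ∣ orderOf g → PairPSolv.sect p x g = 1 := by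
    intro g hg
    refine if_pos ?_
    obtain ⟨c, hc'⟩ := BlockThms.OrderP.exists_conj_mem P (Blocks.orderOf_pPartOf hp g)
    have hne : c * Blocks.pPartOf p g * c⁻¹ ≠ 1 := by
      intro e
      rw [conj_eq_one_iff] at e
      exact (Blocks.pPartOf_eq_one_iff hp g).1 e hg
    obtain ⟨d, hd⟩ := hconj x hxP _ hc' hx1 hne
    exact (isConj_iff.2 ⟨d, hd⟩).trans (isConj_iff.2 ⟨c, rfl⟩).symm
  have hnonneg : ∀ g : G, 0 ≤ (PairPSolv.sect p x g).re := fun g => by
    unfold PairPSolv.sect; split <;> simp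
  set R := (Finset.univ.filter fun a : G => ¬ p ∣ orderOf (x * (a * x * a⁻¹))).card with hR
  have hcount := PairPSolv.card_regular_mul_le hxo hab hc hrat
  rw [← hR] at hcount
  have hlow : (Nat.card G : ℝ) - R ≤ (∑ a : G, PairPSolv.sect p x (x * (a * x * a⁻¹))).re := by
    have h1 : ∀ a : G, (1 : ℝ) - (if ¬ p ∣ orderOf (x * (a * x * a⁻¹)) then 1 else 0) ≤
        (PairPSolv.sect p x (x * (a * x * a⁻¹))).re := fun a => by
      by_cases h : p ∣ orderOf (x * (a * x * a⁻¹))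
      · rw [if_neg (not_not.2 h), hsing _ h]; simp
      · rw [if_pos h, sub_self]; exact hnonneg _
    rw [Complex.re_sum]
    refine le_trans ?_ (Finset.sum_le_sum fun a _ => h1 a)
    rw [Finset.sum_sub_distrib, Finset.sum_boole, hR]
    simp [Nat.card_eq_fintype_card]
  rw [hK.sum_sect_mul hM] at hlow
  -- characters
  have hfin := Set.toFinite (Cfsg.principalBlock M G)
  have hval : ∀ χ : Cfsg.IrrCharacter G, ∃ d k : ℕ, 0 < d ∧ (χ : G → ℂ) 1 = d ∧
      (χ : G → ℂ) x = ((d : ℝ) - q * k : ℝ) ∧ (k = 0 → χ = Blocks.triv G) := by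
    intro χ
    obtain ⟨n, ρ, hρ, hχρ⟩ := χ.2
    obtain ⟨d, hd0, hd⟩ := Char.IsIrr.degree χ.2
    let θ : ↥(P : Subgroup G) → ℂ := fun a => (χ : G → ℂ) (a : G)
    have hθ : Cfsg.IsCharacter (P : Subgroup G) θ :=
      Char.isCharacter_res _ (Char.IsIrr.isCharacter χ.2)
    have hθv : ∀ a : (P : Subgroup G), a ≠ 1 → θ a = (χ : G → ℂ) x := by
      intro a ha
      obtain ⟨g, hg⟩ := hconj x hxP a a.2 hx1 (fun e => ha (Subtype.ext e))
      exact (Char.classFun_isConj (Char.isClassFunction_of_isIrr χ.2) (isConj_iff.2 ⟨g, hg⟩)).symm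
    haveI : Nontrivial (P : Subgroup G) := ⟨⟨⟨x, hxP⟩, 1, fun e => hx1 (congrArg Subtype.val e)⟩⟩
    letI : CommGroup (P : Subgroup G) :=
      { (inferInstance : Group (P : Subgroup G)) with mul_comm := mul_comm' }
    obtain ⟨k, hk⟩ := PairPSolv.exists_gap hθ hθv
    have hk' : (χ : G → ℂ) x = (d : ℂ) - q * k := by
      have : θ 1 = (d : ℂ) := hd
      rw [← hqdef] at hk
      linear_combination -hk + this
    refine ⟨d, k, hd0, hd, by rw [hk']; push_cast; ring, fun hk0 => ?_⟩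
    subst hk0
    rw [Nat.cast_zero, mul_zero, sub_zero, ← hd] at hk'
    have hker : ρ x = 1 := by
      refine (Char.character_eq_finrank_iff ρ x).1 ?_
      rw [congrFun hχρ x, hk', ← congrFun hχρ 1, ρ.char_one]
    have hall : ∀ g : G, ρ g = 1 := by
      rcases (IsSimpleGroup.eq_bot_or_eq_top_of_normal ρ.ker inferInstance) with h | h
      · exfalso
        have : x ∈ ρ.ker := hker
        rw [h, Subgroup.mem_bot] at this
        exact hx1 this
      · intro g
        have : g ∈ ρ.ker := h ▸ Subgroup.mem_top g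
        exact this
    by_contra hne
    have h0 := Char.classInner_irrChar χ (Blocks.triv G)
    rw [if_neg hne, Cfsg.classInner] at h0
    have hc1 : ∀ g : G, (χ : G → ℂ) g * (starRingEnd ℂ) ((Blocks.triv G : G → ℂ) g) = (d : ℂ) := by
      intro g
      show (χ : G → ℂ) g * (starRingEnd ℂ) (1 : ℂ) = _
      rw [map_one, mul_one, ← hd, ← congrFun hχρ g, ← congrFun hχρ 1]
      show LinearMap.trace ℂ _ (ρ g) = LinearMap.trace ℂ _ (ρ 1)
      rw [hall g, hall 1]
    rw [Finset.sum_congr rfl fun g _ => hc1 g, Finset.sum_const, nsmul_eq_mul, Finset.card_univ,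
      ← Nat.card_eq_fintype_card, ← mul_assoc, inv_mul_cancel₀ Char.card_ne_zero, one_mul] at h0
    exact hd0.ne' (by exact_mod_cast h0)
  choose d k hd0 hd hv hk0 using hval
  set e : Cfsg.IrrCharacter G → ℝ := fun χ => (d χ : ℝ) - q * k χ with he
  have htriv : Blocks.triv G ∈ hfin.toFinset := hfin.mem_toFinset.2 (Blocks.triv_mem_principalBlock hM)
  have ht1 : (d (Blocks.triv G) : ℝ) = 1 := by
    have h1 := hd (Blocks.triv G)
    have : ((Blocks.triv G : Cfsg.IrrCharacter G) : G → ℂ) 1 = 1 := rfl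
    rw [this] at h1
    exact_mod_cast h1.symm
  have ht2 : e (Blocks.triv G) = 1 := by
    have h1 := hv (Blocks.triv G)
    have : ((Blocks.triv G : Cfsg.IrrCharacter G) : G → ℂ) x = 1 := rfl
    rw [this] at h1
    exact (Complex.ofReal_eq_one.1 h1.symm)
  set S := hfin.toFinset.erase (Blocks.triv G) with hS
  have hsplit : ∀ f : Cfsg.IrrCharacter G → ℝ,
      ∑ χ ∈ hfin.toFinset, f χ = f (Blocks.triv G) + ∑ χ ∈ S, f χ :=
    fun f => (Finset.add_sum_erase _ _ htriv).symm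
  have hsq : ∑ χ ∈ S, e χ ^ 2 = (q : ℝ) - 1 := by
    have h1 := (hK.principal_values hM).1
    rw [finsum_mem_eq_finite_toFinset_sum _ hfin] at h1
    have h2 : ((∑ χ ∈ hfin.toFinset, e χ ^ 2 : ℝ) : ℂ) = (q : ℂ) := by
      rw [← h1, Complex.ofReal_sum]
      refine Finset.sum_congr rfl fun χ _ => ?_
      rw [hv χ, Complex.conj_ofReal, he]
      push_cast
      ring
    rw [← Complex.ofReal_natCast, Complex.ofReal_inj, hsplit, ht2] at h2
    linarith
  have hlin : ∑ χ ∈ S, e χ * d χ = -1 := by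
    have h1 := hK.sect_eq hM 1
    have h0 : PairPSolv.sect p x (1 : G) = 0 := by
      refine if_neg ?_
      rw [(Blocks.pPartOf_eq_one_iff hp (1 : G)).2 (by simpa using hp.ne_one), isConj_one_left]
      exact hx1
    rw [h0] at h1
    simp only [mul_assoc, ← Finset.mul_sum] at h1
    have h2 := (mul_eq_zero.1 h1.symm).resolve_left (inv_ne_zero hK.q_ne_zero)
    have h3 : ((∑ χ ∈ hfin.toFinset, e χ * d χ : ℝ) : ℂ) = 0 := by
      rw [← h2, Complex.ofReal_sum]
      refine Finset.sum_congr rfl fun χ _ => ?_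
      rw [hv χ, Complex.conj_ofReal, hd χ, he]
      push_cast
      ring
    rw [Complex.ofReal_eq_zero, hsplit, ht2, ht1] at h3
    linarith
  have hcnt : ((q : ℝ) - 2) / 2 ≤ ∑ χ ∈ S, e χ ^ 3 / d χ := by
    have h2 : ∑ χ ∈ hfin.toFinset, (starRingEnd ℂ) ((χ : G → ℂ) x) * (χ : G → ℂ) x ^ 2 /
        (χ : G → ℂ) 1 = ((∑ χ ∈ hfin.toFinset, e χ ^ 3 / d χ : ℝ) : ℂ) := by
      rw [Complex.ofReal_sum]
      refine Finset.sum_congr rfl fun χ _ => ?_
      rw [hv χ, Complex.conj_ofReal, hd χ, he]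
      push_cast
      ring
    rw [h2, show (Nat.card G : ℂ) * (q : ℂ)⁻¹ *
      ((∑ χ ∈ hfin.toFinset, e χ ^ 3 / d χ : ℝ) : ℂ) = (((Nat.card G : ℝ) * (q : ℝ)⁻¹ *
        ∑ χ ∈ hfin.toFinset, e χ ^ 3 / d χ : ℝ) : ℂ) by push_cast; ring,
      Complex.ofReal_re, hsplit, ht2, ht1] at hlow
    have hG : (0 : ℝ) < Nat.card G := Nat.cast_pos.2 Nat.card_pos
    have hRle : 2 * (R : ℝ) ≤ Nat.card G := by
      have : 2 * R ≤ (p - 1) * R := Nat.mul_le_mul_right _ (by omega)
      exact_mod_cast this.trans hcount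
    have hqpos : (0 : ℝ) < q := Nat.cast_pos.2 (by omega)
    set s := ∑ χ ∈ S, e χ ^ 3 / (d χ : ℝ)
    have : (Nat.card G : ℝ) * ((q : ℝ) / 2) ≤ (Nat.card G : ℝ) * (1 + s) := by
      have h3 : (Nat.card G : ℝ) / 2 ≤ (Nat.card G : ℝ) * (q : ℝ)⁻¹ * (1 + s) := by
        rw [one_pow, div_one] at hlow
        linarith
      have h4 := mul_le_mul_of_nonneg_right h3 hqpos.le
      have h5 : (Nat.card G : ℝ) * (q : ℝ)⁻¹ * (1 + s) * q = (Nat.card G : ℝ) * (1 + s) := by
        field_simp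
      linarith
    have := le_of_mul_le_mul_left this hG
    linarith
  refine PairPSolv.arith_contra S (fun χ => (d χ : ℝ)) e (q := (q : ℝ)) (by exact_mod_cast hq3)
    (fun χ _ => Nat.cast_pos.2 (hd0 χ)) ?_ ?_ hsq hlin le_rfl hcnt
  · intro χ hχ
    have h1 : e χ ^ 2 ≤ (q : ℝ) - 1 := by
      rw [← hsq]
      exact Finset.single_le_sum (f := fun i => e i ^ 2) (fun j _ => sq_nonneg (e j)) hχ
    have h2 : e χ = (((d χ : ℤ) - q * k χ : ℤ) : ℝ) := by rw [he]; push_cast; ring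
    rw [h2] at h1 ⊢
    have h3 : ((d χ : ℤ) - q * k χ) ^ 2 ≤ (q : ℤ) - 1 := by exact_mod_cast h1
    have hq3' : (3 : ℤ) ≤ q := by exact_mod_cast hq3
    have : ((d χ : ℤ) - q * k χ) ≤ (q : ℤ) - 2 := by
      by_contra hlt
      rw [not_le] at hlt
      nlinarith
    exact_mod_cast this
  · intro χ hχ
    have hk1 : (1 : ℝ) ≤ k χ := by
      exact_mod_cast Nat.pos_of_ne_zero fun h => (Finset.mem_erase.1 hχ).1 (hk0 χ h)
    show (d χ : ℝ) - q * k χ + q ≤ d χ
    nlinarith [Nat.cast_nonneg (α := ℝ) q]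

end Cfsg.Agent.S1951
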