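import Cfsg.Statements.S1952
import Mathlib

set_option autoImplicit false
open Cfsg

namespace Cfsg.Agent.S1952

open Subgroup

theorem val_add_one {p : ℕ} [Fact p.Prime] (i : ZMod p) : (i + 1).val = (i.val + 1) % p := by
  rw [ZMod.val_add, ZMod.val_one]

/-- Let P be a finite p-group with a normal elementary abelian subgroup A of index p, and let x ∈ A and y ∈ P with y outside A. If the product of the p conjugates y^(-i) x y^i (i = 0, …, p−1) is not the identity, then the wreath product Z_p ≀ Z_p, realised as a Sylow p-subgroup of the symmetric group of degree p², is a homomorphic image of P. -/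
theorem result {P : Type*} [Group P] [Finite P] {p : ℕ} [Fact p.Prime] (hP : IsPGroup p P) (A : Subgroup P) [A.Normal]
    (hA : Cfsg.IsElementaryAbelian p A) (hidx : A.index = p) (x y : P) (hx : x ∈ A) (hy : y ∉ A)
    (hprod : ((List.range p).map (fun i => (y ^ i)⁻¹ * x * y ^ i)).prod ≠ 1) :
    ∃ (Q : Sylow p (Equiv.Perm (Fin (p ^ 2)))) (f : P →* ↥(Q : Subgroup (Equiv.Perm (Fin (p ^ 2))))), Function.Surjective f := by
  classical
  have hpp : p.Prime := Fact.out
  haveI : NeZero p := ⟨hpp.ne_zero⟩
  have hcomm : ∀ a ∈ A, ∀ b ∈ A, a * b = b * a := fun a ha b hb =>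
    congrArg Subtype.val (hA.1.is_comm.comm (⟨a, ha⟩ : A) ⟨b, hb⟩)
  letI : CommGroup A := { (inferInstance : Group A) with mul_comm := hA.1.is_comm.comm }
  have hconj : ∀ a ∈ A, ∀ g : P, g⁻¹ * a * g ∈ A := fun a ha g => by
    simpa using ‹A.Normal›.conj_mem a ha g⁻¹
  have hxp : ∀ a : A, a ^ p = 1 := fun a => Subtype.ext (by rw [SubgroupClass.coe_pow]; exact hA.2 a a.2)
  -- conjugates of `x`
  let xi : ZMod p → A := fun i => ⟨(y ^ i.val)⁻¹ * x * y ^ i.val, hconj x hx _⟩
  have hyp : y ^ p ∈ A := hidx ▸ pow_index_mem A y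
  have hxi : ∀ i, y⁻¹ * (xi i : P) * y = (xi (i + 1) : P) := by
    intro i
    show y⁻¹ * ((y ^ i.val)⁻¹ * x * y ^ i.val) * y = (y ^ (i + 1).val)⁻¹ * x * y ^ (i + 1).val
    have hlt : i.val < p := i.val_lt
    rw [val_add_one]
    rcases Nat.lt_or_ge (i.val + 1) p with h | h
    · rw [Nat.mod_eq_of_lt h, pow_succ]; group
    · have he : i.val + 1 = p := by omega
      rw [he, Nat.mod_self, pow_zero, inv_one, one_mul, mul_one]
      calc y⁻¹ * ((y ^ i.val)⁻¹ * x * y ^ i.val) * y = (y ^ (i.val + 1))⁻¹ * x * y ^ (i.val + 1) := by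
            rw [pow_succ]; group
        _ = x := by rw [he, mul_assoc, hcomm x hx _ hyp, inv_mul_cancel_left]
  -- the element `z`
  set z : A := ∏ i, xi i with hz
  have hz1 : (z : P) ≠ 1 := by
    intro e
    apply hprod
    have h1 : ((List.range p).map fun i => (y ^ i)⁻¹ * x * y ^ i) =
        ((List.range p).map fun i : ℕ => A.subtype (xi (i : ZMod p))) := by
      refine List.map_congr_left fun i hi => ?_
      show _ = (y ^ ((i : ZMod p)).val)⁻¹ * x * y ^ ((i : ZMod p)).val
      rw [ZMod.val_natCast, Nat.mod_eq_of_lt (List.mem_range.1 hi)]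
    rw [h1, show (fun i : ℕ => A.subtype (xi (i : ZMod p))) = A.subtype ∘ (fun i : ℕ => xi (i : ZMod p)) from rfl,
      ← List.map_map, ← map_list_prod]
    have h2 : ((List.range p).map fun i : ℕ => xi (i : ZMod p)).prod = z := by
      rw [hz, ← List.prod_toFinset _ List.nodup_range, List.toFinset_range]
      refine Finset.prod_nbij' (fun i : ℕ => (i : ZMod p)) (fun i : ZMod p => i.val) (by simp) ?_ ?_ ?_ (by simp)
      · intro i _; simpa using i.val_lt
      · intro i hi; simp only [Finset.mem_range] at hi; simp [ZMod.val_natCast, Nat.mod_eq_of_lt hi]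
      · intro i _; simp
    rw [h2]
    exact e
  -- `A₀` of index `p` in `A` avoiding `z`
  obtain ⟨A0, hA0le, hzA0, hA0max⟩ : ∃ A0 : Subgroup P, A0 ≤ A ∧ (z : P) ∉ A0 ∧
      ∀ B : Subgroup P, B ≤ A → (z : P) ∉ B → A0 ≤ B → B = A0 := by
    obtain ⟨A0, hA0, hmax⟩ := Set.exists_max_image {B : Subgroup P | B ≤ A ∧ (z : P) ∉ B}
      (fun B => Nat.card B) (Set.toFinite _) ⟨⊥, bot_le, fun e => hz1 (mem_bot.1 e)⟩
    exact ⟨A0, hA0.1, hA0.2, fun B hB hzB hle => (eq_of_le_of_card_ge hle (hmax B ⟨hB, hzB⟩)).symm⟩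
  have hsup : A0 ⊔ zpowers (z : P) = A := by
    refine le_antisymm (sup_le hA0le (zpowers_le.2 z.2)) fun a ha => ?_
    by_contra hne
    have ha0 : a ∉ A0 := fun h => hne (mem_sup_left h)
    have hzin : (z : P) ∈ A0 ⊔ zpowers a := by
      by_contra h
      have := hA0max _ (sup_le hA0le (zpowers_le.2 ha)) h le_sup_left
      exact ha0 (this ▸ mem_sup_right (mem_zpowers a))
    have hN : zpowers a ≤ normalizer (A0 : Set P) := zpowers_le.2 (mem_normalizer_iff.2 fun b => by
      constructor
      · intro hb; rwa [hcomm a ha b (hA0le hb), mul_inv_cancel_right]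
      · intro hb
        have hbA := hA0le hb
        have hbA' : b ∈ A := by
          have := hconj _ hbA a
          simpa [mul_assoc] using this
        rwa [hcomm a ha b hbA', mul_inv_cancel_right] at hb)
    rw [← SetLike.mem_coe, coe_mul_of_right_le_normalizer_left _ _ hN] at hzin
    obtain ⟨b, hb, _, ⟨k, rfl⟩, hbk⟩ := hzin
    simp only at hbk
    have hap : a ^ p = 1 := hA.2 a ha
    have hk : ¬ (p : ℤ) ∣ k := by
      rintro ⟨m, rfl⟩
      apply hzA0
      rw [← hbk, zpow_mul, zpow_natCast, hap, one_zpow, mul_one]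
      exact hb
    have hao : orderOf a = p := orderOf_eq_prime hap (fun e => ha0 (e ▸ one_mem _))
    have hg : Int.gcd k p = 1 := by
      rw [Int.gcd_comm]
      exact (hpp.coprime_iff_not_dvd.2 (fun h => hk (Int.natCast_dvd.2 h)))
    obtain ⟨u, v, huv⟩ : ∃ u v : ℤ, u * k + v * (p : ℤ) = 1 :=
      ⟨Int.gcdA k p, Int.gcdB k p, by
        have := Int.gcd_eq_gcd_ab k p
        rw [hg] at this
        push_cast at this
        linear_combination -this⟩
    apply hne
    have hakS : a ^ k ∈ A0 ⊔ zpowers (z : P) := by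
      rw [show a ^ k = b⁻¹ * (z : P) by rw [← hbk, inv_mul_cancel_left]]
      exact mul_mem (mem_sup_left (inv_mem hb)) (mem_sup_right (mem_zpowers _))
    have : a = (a ^ k) ^ u := by
      rw [← zpow_mul, mul_comm]
      conv_lhs => rw [← zpow_one a, ← huv, zpow_add, mul_comm v, zpow_mul a (p : ℤ), zpow_natCast, hap, one_zpow, mul_one]
    rw [this]
    exact zpow_mem hakS u
  have hA0c : Nat.card A ≤ Nat.card A0 * p := by
    have hzo : Nat.card (zpowers (z : P)) = p := by
      rw [Nat.card_zpowers, orderOf_eq_prime (hA.2 _ z.2) hz1]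
    have hN : zpowers (z : P) ≤ normalizer (A0 : Set P) := zpowers_le.2 (mem_normalizer_iff.2 fun b => by
      have hzc : (z : P) ∈ center P ∨ True := Or.inr trivial
      constructor
      · intro hb; rwa [hcomm _ z.2 b (hA0le hb), mul_inv_cancel_right]
      · intro hb
        have hbA' : b ∈ A := by
          have := hconj _ (hA0le hb) (z : P)
          simpa [mul_assoc] using this
        rwa [hcomm _ z.2 b hbA', mul_inv_cancel_right] at hb)
    have h1 : Nat.card A ≤ Nat.card (A0 × zpowers (z : P)) := by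
      refine Nat.card_le_card_of_surjective
        (fun q : A0 × zpowers (z : P) => (⟨q.1 * q.2, A.mul_mem (hA0le q.1.2) (zpowers_le.2 z.2 q.2.2)⟩ : A)) ?_
      intro a
      have ha : (a : P) ∈ ((A0 ⊔ zpowers (z : P) : Subgroup P) : Set P) := by rw [hsup]; exact a.2
      rw [coe_mul_of_right_le_normalizer_left _ _ hN] at ha
      obtain ⟨b, hb, c, hc, hbc⟩ := ha
      exact ⟨(⟨b, hb⟩, ⟨c, hc⟩), Subtype.ext hbc⟩
    rwa [Nat.card_prod, hzo] at h1
  set K := A0.normalCore with hK
  have hKA : K ≤ A := (normalCore_le A0).trans hA0le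
  -- `A / K` has order at least `p ^ p`
  have hcount : p ^ p ≤ K.relIndex A := by
    let Φ : (ZMod p → ZMod p) → A := fun c => ∏ i, xi i ^ (c i).val
    have hpow : ∀ (a : A) (m n : ZMod p), a ^ (m + n).val = a ^ m.val * a ^ n.val := fun a m n => by
      rw [ZMod.val_add, ← pow_add]
      conv_rhs => rw [← Nat.mod_add_div (m.val + n.val) p, pow_add, pow_mul, hxp, one_pow, mul_one]
    have hΦ : ∀ c d, Φ (c + d) = Φ c * Φ d := fun c d => by
      simp only [Φ, Pi.add_apply, hpow, Finset.prod_mul_distrib]
    have hshift : ∀ c, y⁻¹ * (Φ c : P) * y = (Φ (fun i => c (i - 1)) : P) := by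
      intro c
      let σ : A →* A := MonoidHom.mk' (fun a => ⟨y⁻¹ * a * y, hconj a a.2 y⟩)
        (fun a b => Subtype.ext (by show y⁻¹ * ((a : P) * b) * y = y⁻¹ * a * y * (y⁻¹ * b * y); group))
      show (σ (Φ c) : P) = _
      congr 1
      rw [map_prod]
      refine Fintype.prod_equiv (Equiv.addRight 1) _ _ fun i => ?_
      simp only [map_pow, Equiv.coe_addRight, add_sub_cancel_right, show σ (xi i) = xi (i + 1) from Subtype.ext (hxi i)]
    let U : AddSubgroup (ZMod p → ZMod p) :=
      { carrier := {c | (Φ c : P) ∈ K}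
        zero_mem' := by
          show (Φ 0 : P) ∈ K
          simp only [Φ, Pi.zero_apply, ZMod.val_zero, pow_zero, Finset.prod_const_one, OneMemClass.coe_one]
          exact one_mem K
        add_mem' := fun {c d} hc hd => by
          show (Φ (c + d) : P) ∈ K
          rw [hΦ, Subgroup.coe_mul]; exact mul_mem hc hd
        neg_mem' := fun {c} hc => by
          show (Φ (-c) : P) ∈ K
          have h := hΦ (-c) c
          rw [neg_add_cancel] at h
          have h0 : Φ 0 = 1 := by simp [Φ]
          rw [h0] at h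
          rw [eq_inv_of_mul_eq_one_left h.symm, InvMemClass.coe_inv]
          exact inv_mem hc }
    have hU : ∀ c ∈ U, c = 0 := by
      intro c hc
      by_contra hc0
      -- the shift acts on `U`
      have hUs : ∀ (k : ℕ) (c : ZMod p → ZMod p), c ∈ U → (fun i => c (i - k)) ∈ U := by
        intro k
        induction k with
        | zero => intro c hc; simpa using hc
        | succ k ih =>
          intro c hc
          have h1 : (fun i => c (i - k)) ∈ U := ih c hc
          have h2 : (Φ (fun i => c (i - k)) : P) ∈ K := h1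
          have h3 : y⁻¹ * (Φ (fun i => c (i - k)) : P) * y ∈ K := by
            simpa using A0.normalCore_normal.conj_mem _ h2 y⁻¹
          rw [hshift] at h3
          show (Φ _ : P) ∈ K
          convert h3 using 4 with i
          push_cast; ring
      letI act : MulAction (Multiplicative (ZMod p)) U :=
        { smul := fun k c => ⟨fun i => c.1 (i - k.toAdd), by
            have := hUs k.toAdd.val c.1 c.2
            rwa [ZMod.natCast_zmod_val] at this⟩
          one_smul := fun c => Subtype.ext (funext fun i => by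
            show c.1 (i - (1 : Multiplicative (ZMod p)).toAdd) = c.1 i
            rw [toAdd_one, sub_zero])
          mul_smul := fun k l c => Subtype.ext (funext fun i => by
            show c.1 (i - (k * l).toAdd) = c.1 (i - k.toAdd - l.toAdd)
            rw [toAdd_mul]; ring_nf) }
      have hG : IsPGroup p (Multiplicative (ZMod p)) :=
        IsPGroup.of_card (n := 1) (by rw [Nat.card_congr Multiplicative.toAdd, Nat.card_zmod, pow_one])
      have hUp : p ∣ Nat.card U := by
        have h1 : addOrderOf (⟨c, hc⟩ : U) = p := addOrderOf_eq_prime (Subtype.ext (funext fun i => by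
          show p • c i = 0
          rw [nsmul_eq_mul, ZMod.natCast_self, zero_mul])) (fun e => hc0 (congrArg Subtype.val e))
        conv_lhs => rw [← h1]
        exact addOrderOf_dvd_natCard (⟨c, hc⟩ : U)
      obtain ⟨d, hd, hd0⟩ := hG.exists_fixed_point_of_prime_dvd_card_of_fixed_point (α := U) hUp
        (a := 0) (fun k => Subtype.ext (funext fun i => rfl))
      have hconst : ∀ i, d.1 i = d.1 0 := fun i => by
        have h1 := congrFun (congrArg Subtype.val (hd (Multiplicative.ofAdd i))) i
        have h2 : d.1 (i - i) = d.1 i := h1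
        rw [sub_self] at h2
        exact h2.symm
      have hΦd : (Φ d.1 : P) = (z : P) ^ (d.1 0).val := by
        simp only [Φ, hconst, Finset.prod_pow, SubgroupClass.coe_pow, hz]
      have hdK : (z : P) ^ (d.1 0).val ∈ K := hΦd ▸ d.2
      have hne : d.1 0 ≠ 0 := fun e => hd0 (Subtype.ext (funext fun i => by
        rw [show (0 : U).1 i = 0 from rfl, hconst i, e]))
      have hcop : ((d.1 0).val).Coprime p := ((hpp.coprime_iff_not_dvd).2 fun h => hne (by
        rw [← ZMod.natCast_zmod_val (d.1 0)]
        exact (ZMod.natCast_eq_zero_iff _ p).2 h)).symm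
      have hzp : orderOf (z : P) = p := orderOf_eq_prime (hA.2 _ z.2) hz1
      obtain ⟨m, hm⟩ := exists_pow_eq_self_of_coprime (hzp.symm ▸ hcop : ((d.1 0).val).Coprime (orderOf (z : P)))
      apply hzA0
      rw [← hm]
      exact normalCore_le A0 (pow_mem hdK m)
    have hinj : Function.Injective (fun c : ZMod p → ZMod p =>
        (QuotientGroup.mk (Φ c) : A ⧸ K.subgroupOf A)) := by
      intro c d hcd
      have h1 := QuotientGroup.eq.1 hcd
      rw [mem_subgroupOf, Subgroup.coe_mul, InvMemClass.coe_inv] at h1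
      have h2 : d - c ∈ U := by
        show (Φ (d - c) : P) ∈ K
        have h3 := hΦ (d - c) c
        rw [sub_add_cancel] at h3
        rw [h3, mul_comm, Subgroup.coe_mul, inv_mul_cancel_left] at h1
        exact h1
      exact (sub_eq_zero.1 (hU _ h2)).symm
    have h := Nat.card_le_card_of_injective _ hinj
    rwa [Nat.card_fun, Nat.card_zmod, ← index_eq_card] at h
  -- the permutation representation
  have hA0p : A0.index ∣ p ^ 2 ∧ A0.index = p ^ 2 := by
    have h1 := A0.card_mul_index
    have h2 := A.card_mul_index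
    rw [hidx] at h2
    have h3 : A0.index = p ^ 2 := by
      have hne : A0 ≠ A := fun e => hzA0 (e ▸ z.2)
      obtain ⟨i, hi⟩ := hP.index A0
      have h4 : Nat.card P ≤ Nat.card A0 * p ^ 2 := by
        rw [← h2, sq, ← mul_assoc]; exact Nat.mul_le_mul_right p hA0c
      have h5 : A0.index ≤ p ^ 2 := Nat.le_of_mul_le_mul_left (h1 ▸ h4) Nat.card_pos
      have hlt : Nat.card A0 < Nat.card A :=
        Set.Finite.card_lt_card (Set.toFinite _) (SetLike.coe_ssubset_coe.2 (lt_of_le_of_ne hA0le hne))
      have h6 : p < A0.index := by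
        by_contra hle
        push Not at hle
        have : Nat.card A * p ≤ Nat.card A0 * p := h2.symm ▸ h1 ▸ Nat.mul_le_mul_left _ hle
        exact absurd (Nat.le_of_mul_le_mul_right this hpp.pos) (not_le.2 hlt)
      rw [hi] at h5 h6 ⊢
      have := (Nat.pow_le_pow_iff_right hpp.one_lt).1 h5
      have h7 : 1 < i := (Nat.pow_lt_pow_iff_right hpp.one_lt).1 (by rwa [pow_one])
      congr 1; omega
    exact ⟨dvd_of_eq h3, h3⟩
  let e : P ⧸ A0 ≃ Fin (p ^ 2) := Finite.equivFinOfCardEq (by rw [← index_eq_card]; exact hA0p.2)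
  let f0 : P →* Equiv.Perm (Fin (p ^ 2)) :=
    e.permCongrHom.toMonoidHom.comp (MulAction.toPermHom P (P ⧸ A0))
  have hker : f0.ker = K := by
    rw [hK, normalCore_eq_ker, MonoidHom.ker_comp_of_injective]
    exact e.permCongrHom.injective
  have hR : p ^ (p + 1) ≤ Nat.card f0.range := by
    rw [← index_ker, hker, ← relIndex_mul_index hKA, hidx, pow_succ]
    exact Nat.mul_le_mul_right p hcount
  have hRp : IsPGroup p f0.range := hP.of_surjective f0.rangeRestrict f0.rangeRestrict_surjective
  obtain ⟨Q, hQ⟩ := hRp.exists_le_sylow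
  have hQc : Nat.card (Q : Subgroup (Equiv.Perm (Fin (p ^ 2)))) = p ^ (p + 1) := by
    rw [Sylow.card_eq_multiplicity, Nat.card_eq_fintype_card, Fintype.card_perm, Fintype.card_fin, Nat.factorization_def _ hpp, sq,
      padicValNat_factorial_mul]
    have h1 := padicValNat_factorial_mul (p := p) 1
    rw [mul_one, Nat.factorial_one, padicValNat.one, zero_add] at h1
    rw [h1, add_comm]
  have hQe : f0.range = (Q : Subgroup (Equiv.Perm (Fin (p ^ 2)))) :=
    eq_of_le_of_card_ge hQ (hQc.le.trans hR)
  exact ⟨Q, f0.codRestrict _ (fun g => hQe ▸ ⟨g, rfl⟩), fun q => by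
    obtain ⟨g, hg⟩ := (hQe.symm ▸ q.2 : (q : Equiv.Perm (Fin (p ^ 2))) ∈ f0.range)
    exact ⟨g, Subtype.ext hg⟩⟩

end Cfsg.Agent.S1952
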