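import Cfsg.Statements.S1953
import Cfsg.Agent.KInf.Control
import Cfsg.Agent.QdFree.PStable
import Cfsg.Agent.SylowNumber.Formula
import Cfsg.Agent.Fusion.Transfer
import Cfsg.Agent.Fusion.Residual
-- import your own Cfsg.Agent.* helpers here

set_option autoImplicit false
open Cfsg

namespace Cfsg.Agent.S1953

open Subgroup in
theorem conj_of_mem {G : Type*} [Group G] {H : Subgroup G} {g : G} (h : g ∈ normalizer (H : Set G)) :
    H.map (MulAut.conj g).toMonoidHom = H :=
  mem_normalizer_iff_map_conj_eq.mp h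

open Subgroup in
theorem mem_of_conj {G : Type*} [Group G] {H : Subgroup G} {g : G}
    (h : H.map (MulAut.conj g).toMonoidHom = H) : g ∈ normalizer (H : Set G) :=
  mem_normalizer_iff_map_conj_eq.mpr h

open Subgroup in
theorem conj_centralizer {G : Type*} [Group G] {H : Subgroup G} {g : G} (h : g ∈ normalizer (H : Set G)) :
    (centralizer (H : Set G)).map (MulAut.conj g).toMonoidHom = centralizer (H : Set G) := by
  ext y
  rw [mem_map_equiv, MulAut.conj_symm_apply, mem_centralizer_iff, mem_centralizer_iff]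
  constructor
  · intro hy s hs
    have := hy (g⁻¹ * s * g) ((mem_normalizer_iff''.mp h s).mp hs)
    calc s * y = g * ((g⁻¹ * s * g) * (g⁻¹ * y * g)) * g⁻¹ := by group
      _ = _ := by rw [this]; group
  · intro hy s hs
    have := hy (g * s * g⁻¹) ((mem_normalizer_iff.mp h s).mp hs)
    calc s * (g⁻¹ * y * g) = g⁻¹ * ((g * s * g⁻¹) * y) * g := by group
      _ = _ := by rw [this]; group

open Subgroup in
theorem pStable_section {G : Type*} [Group G] [Finite G] {p : ℕ} [Fact p.Prime] (hp : p ≠ 2)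
    (hfree : ∀ P : Subgroup G, IsPGroup p P →
      ¬ Cfsg.Involves (Matrix.SpecialLinearGroup (Fin 2) (ZMod p))
        (↥(normalizer (P : Set G)) ⧸ (centralizer (P : Set G)).subgroupOf (normalizer (P : Set G))))
    (L R : Subgroup G) [(R.subgroupOf L).Normal] :
    Cfsg.IsNormalizerPStable p (↥L ⧸ R.subgroupOf L) := by
  refine QdFree.isNormalizerPStable_of_free' hp fun P hP hne hinv => ?_
  obtain ⟨P₀, M, g, hP₀, -, hM, hg, hgc⟩ := QdFree.exists_local_cover (QuotientGroup.mk' (R.subgroupOf L))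
    (QuotientGroup.mk'_surjective _) hP hne
  refine hfree P₀ hP₀ ?_
  set C₀ := (centralizer (P₀ : Set G)).subgroupOf (normalizer (P₀ : Set G))
  set C := (centralizer (P : Set (↥L ⧸ R.subgroupOf L))).subgroupOf (normalizer (P : Set (↥L ⧸ R.subgroupOf L)))
  let ψ : M →* ↥(normalizer (P₀ : Set G)) ⧸ C₀ := (QuotientGroup.mk' C₀).comp (inclusion hM)
  let φ := (QuotientGroup.mk' C).comp g
  have hφ : Function.Surjective φ := (QuotientGroup.mk'_surjective C).comp hg
  have hker : ψ.rangeRestrict.ker ≤ φ.ker := by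
    intro m hm
    rw [MonoidHom.ker_rangeRestrict] at hm
    exact (QuotientGroup.eq_one_iff _).mpr (hgc m ((QuotientGroup.eq_one_iff (inclusion hM m)).mp hm))
  let χ : ψ.range →* _ :=
    (QuotientGroup.lift _ φ hker).comp
      (QuotientGroup.quotientKerEquivOfSurjective ψ.rangeRestrict ψ.rangeRestrict_surjective).symm.toMonoidHom
  have hχ : Function.Surjective χ := by
    intro y
    obtain ⟨m, rfl⟩ := hφ y
    refine ⟨(QuotientGroup.quotientKerEquivOfSurjective ψ.rangeRestrict ψ.rangeRestrict_surjective)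
      (QuotientGroup.mk m), ?_⟩
    show QuotientGroup.lift _ φ hker ((QuotientGroup.quotientKerEquivOfSurjective ψ.rangeRestrict ψ.rangeRestrict_surjective).symm
      ((QuotientGroup.quotientKerEquivOfSurjective ψ.rangeRestrict ψ.rangeRestrict_surjective) (QuotientGroup.mk m))) = _
    rw [MulEquiv.symm_apply_apply]
    rfl
  exact QdFree.involves_of_subgroup (QdFree.involves_of_surjective hinv hχ)

open Subgroup in
theorem fus_kInf {G : Type*} [Group G] [Finite G] {p : ℕ} [Fact p.Prime]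
    (hst : ∀ (L R : Subgroup G) [(R.subgroupOf L).Normal],
      Cfsg.IsNormalizerPStable p (↥L ⧸ R.subgroupOf L)) (S : Sylow p G) :
    ∀ A : Subgroup G, A ≤ (S : Subgroup G) → ∀ g : G, A.map (MulAut.conj g).toMonoidHom ≤ (S : Subgroup G) →
      ∃ n ∈ normalizer ((Cfsg.inducedFunctor Cfsg.kInfLower (S : Subgroup G) : Subgroup G) : Set G),
        ∀ a ∈ A, g * a * g⁻¹ = n * a * n⁻¹ := by
  have hW := KInf.IsKFunctor.lower
  have hF : ∀ V ∈ ({Cfsg.kInfLower} : Set (∀ (Q : Type _) [Group Q], Subgroup Q)), Cfsg.IsCharPFunctor p V :=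
    fun V hV => hV ▸ hW.isCharPFunctor
  have key : Control.GFus {Cfsg.kInfLower} p G := by
    refine Control.gFus_of_quotients hF (fun K' R' _ hc => ?_) Control.IsSec.refl
    obtain ⟨T'⟩ := (inferInstance : Nonempty (Sylow p (↥K' ⧸ R'.subgroupOf K')))
    refine Control.famFus_iff.mpr ⟨_, Control.sylIn_top T', fun A g _ _ hgA =>
      Control.Ctrl.of_mem ⟨_, ⟨Cfsg.kInfLower, rfl, rfl⟩, rfl⟩ ⟨mem_top g, ?_⟩ hgA⟩
    rw [normalizer_eq_top_iff.mpr (KInf.kInf_normal_of_pStable hW hc (fun N _ => ?_) T')]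
    · exact mem_top g
    · refine Control.of_sections (P := fun Z _ => Cfsg.IsNormalizerPStable p Z)
        (fun _ _ _ _ e h => KInf.isNormalizerPStable_congr e h) hst
        ((Control.isSec_of_surjective (QuotientGroup.mk'_surjective N)).trans
          (Control.isSec_quotient K' R'))
  intro A hA g hg
  obtain ⟨c, hcR, hce⟩ := (Control.famFus_iff_forall (Control.isConjugacyFunctor_iF hF)
    (Control.sylIn_top S)).mp key A g (mem_top g) hA
      (by rintro _ ⟨a, ha, rfl⟩; exact hg ⟨a, ha, rfl⟩)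
  refine ⟨c, hcR.mem (fun N hN => ?_), fun a ha => (hce a ha).symm⟩
  obtain ⟨_, ⟨V, hV, rfl⟩, rfl⟩ := hN
  rw [Set.mem_singleton_iff.mp hV]
  exact inf_le_right

/-- Let p be an odd prime and P a Sylow p-subgroup of the finite group G, and suppose that for no p-subgroup Q of G does N_G(Q)/C_G(Q) have a section isomorphic to SL₂(p). Call a subgroup Q of P centric-radical when Z(Q) is a Sylow p-subgroup of C_G(Q) and the only normal subgroup X of N_G(Q) containing Q·C_G(Q) such that the index of Q·C_G(Q) in X is a power of p is Q·C_G(Q) itself (that is, N_G(Q)/Q·C_G(Q) has no nontrivial normal p-subgroup). Then there is a centric-radical subgroup Q of P contained in every centric-radical subgroup of P; it is normal in P, and N_G(Q) controls strong fusion in P: whenever a subgroup A of P has g A g⁻¹ ≤ P, the element g is a product h c with h in N_G(Q) and c centralizing A. -/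
theorem result {G : Type*} [Group G] [Finite G] {p : ℕ} [Fact p.Prime] (hp : p ≠ 2) (P : Sylow p G)
    (hfree : ∀ Q : Subgroup G, IsPGroup p ↥Q → ¬ ∃ (H K : Subgroup G) (_ : (K.subgroupOf H).Normal),
      Subgroup.centralizer (Q : Set G) ≤ K ∧ K ≤ H ∧ H ≤ Subgroup.normalizer (Q : Set G) ∧
      Nonempty ((↥H ⧸ K.subgroupOf H) ≃* Matrix.SpecialLinearGroup (Fin 2) (ZMod p)))
    (cr : Subgroup G → Prop)
    (hcr : ∀ Q : Subgroup G, cr Q ↔ (Q ≤ (P : Subgroup G) ∧
      (∃ R : Sylow p ↥(Subgroup.centralizer (Q : Set G)),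
        (R : Subgroup ↥(Subgroup.centralizer (Q : Set G))).map (Subgroup.centralizer (Q : Set G)).subtype = Q ⊓ Subgroup.centralizer (Q : Set G)) ∧
      ∀ X : Subgroup G, X ≤ Subgroup.normalizer (Q : Set G) →
        (∀ n ∈ Subgroup.normalizer (Q : Set G), X.map (MulAut.conj n).toMonoidHom = X) →
        Q ⊔ Subgroup.centralizer (Q : Set G) ≤ X → (∃ k : ℕ, (Q ⊔ Subgroup.centralizer (Q : Set G)).relIndex X = p ^ k) →
        X = Q ⊔ Subgroup.centralizer (Q : Set G))) :
    ∃ Q : Subgroup G, cr Q ∧ (∀ R : Subgroup G, cr R → Q ≤ R) ∧ (∀ x ∈ (P : Subgroup G), Q.map (MulAut.conj x).toMonoidHom = Q) ∧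
      ∀ A : Subgroup G, A ≤ (P : Subgroup G) → ∀ g : G, A.map (MulAut.conj g).toMonoidHom ≤ (P : Subgroup G) →
        ∃ h ∈ Subgroup.normalizer (Q : Set G), ∃ c ∈ Subgroup.centralizer (A : Set G), g = h * c := by
  have hfree' : ∀ Q : Subgroup G, IsPGroup p Q →
      ¬ Cfsg.Involves (Matrix.SpecialLinearGroup (Fin 2) (ZMod p))
        (↥(Subgroup.normalizer (Q : Set G)) ⧸ (Subgroup.centralizer (Q : Set G)).subgroupOf (Subgroup.normalizer (Q : Set G))) := by
    intro Q hQ hinv
    set N := Subgroup.normalizer (Q : Set G)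
    set C := (Subgroup.centralizer (Q : Set G)).subgroupOf N
    obtain ⟨H', K', hn, ⟨e⟩⟩ := hinv
    have := hn
    set H₀ := H'.comap (QuotientGroup.mk' C)
    set K₀ := (K' ⊓ H').comap (QuotientGroup.mk' C)
    have hCK : C ≤ K₀ := fun x hx => by
      show QuotientGroup.mk' C x ∈ K' ⊓ H'
      rw [QuotientGroup.mk'_apply, (QuotientGroup.eq_one_iff x).mpr hx]; exact one_mem _
    let φ : H₀.map N.subtype →* ↥H' ⧸ K'.subgroupOf H' :=
      (QuotientGroup.mk' _).comp (((QuotientGroup.mk' C).subgroupComap H').comp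
        (H₀.equivMapOfInjective N.subtype N.subtype_injective).symm.toMonoidHom)
    have hφ : Function.Surjective φ := by
      intro z
      obtain ⟨⟨y, hy⟩, rfl⟩ := QuotientGroup.mk'_surjective (K'.subgroupOf H') z
      obtain ⟨x, rfl⟩ := QuotientGroup.mk'_surjective C y
      refine ⟨H₀.equivMapOfInjective N.subtype N.subtype_injective ⟨x, hy⟩, ?_⟩
      show QuotientGroup.mk' _ ((QuotientGroup.mk' C).subgroupComap H' ((H₀.equivMapOfInjective N.subtype N.subtype_injective).symm _)) = _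
      rw [MulEquiv.symm_apply_apply]
      rfl
    have hker : φ.ker = (K₀.map N.subtype).subgroupOf (H₀.map N.subtype) := by
      ext z
      obtain ⟨w, rfl⟩ := (H₀.equivMapOfInjective N.subtype N.subtype_injective).surjective z
      have hval : φ (H₀.equivMapOfInjective N.subtype N.subtype_injective w) =
          QuotientGroup.mk' _ ((QuotientGroup.mk' C).subgroupComap H' w) := by
        show QuotientGroup.mk' _ ((QuotientGroup.mk' C).subgroupComap H' ((H₀.equivMapOfInjective N.subtype N.subtype_injective).symm _)) = _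
        rw [MulEquiv.symm_apply_apply]
      rw [MonoidHom.mem_ker, hval, QuotientGroup.mk'_apply, QuotientGroup.eq_one_iff,
        Subgroup.mem_subgroupOf, Subgroup.mem_subgroupOf]
      show QuotientGroup.mk' C (w : N) ∈ K' ↔ ((w : N) : G) ∈ K₀.map N.subtype
      rw [Subgroup.mem_map]
      exact ⟨fun h => ⟨w, ⟨h, w.2⟩, rfl⟩, fun ⟨v, hv, hvw⟩ => (N.subtype_injective hvw) ▸ hv.1⟩
    have hn' : ((K₀.map N.subtype).subgroupOf (H₀.map N.subtype)).Normal := hker ▸ φ.normal_ker
    refine hfree Q hQ ⟨H₀.map N.subtype, K₀.map N.subtype, hn', ?_,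
      Subgroup.map_mono (Subgroup.comap_mono inf_le_right), Subgroup.map_subtype_le _,
      ⟨((QuotientGroup.quotientMulEquivOfEq hker).symm.trans (QuotientGroup.quotientKerEquivOfSurjective φ hφ)).trans e⟩⟩
    intro x hx
    exact ⟨⟨x, Subgroup.centralizer_le_normalizer _ hx⟩, hCK hx, rfl⟩
  have hst := fun (L R : Subgroup G) (_ : (R.subgroupOf L).Normal) => pStable_section hp hfree' L R
  have hfus := fus_kInf hst P
  set K := Cfsg.inducedFunctor Cfsg.kInfLower (P : Subgroup G) with hKdef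
  set M := Subgroup.normalizer (K : Set G) with hMdef
  have hKP : K ≤ (P : Subgroup G) := Subgroup.map_subtype_le _
  have hPM : (P : Subgroup G) ≤ M := Control.self_le_normalizer_functor
    (Control.isConjugacyFunctor_induced (KInf.isCharPFunctor_kInfLower p)) P.2
  have hKC : (P : Subgroup G) ⊓ Subgroup.centralizer (K : Set G) ≤ K := by
    rintro x ⟨hxP, hxC⟩
    refine ⟨⟨x, hxP⟩, (KInf.centralizer_kInf_le P.2).1 ?_, rfl⟩
    exact Subgroup.mem_centralizer_iff.mpr fun y hy =>
      Subtype.ext (Subgroup.mem_centralizer_iff.mp hxC y ⟨y, hy, rfl⟩)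
  let PM : Sylow p M := P.subtype hPM
  set O := Cfsg.pPrimeCore p M
  set R := Cfsg.pPrimePCore p M
  set Q := (P : Subgroup G) ⊓ R.map M.subtype with hQdef
  have hRn : R.Normal := Subgroup.Normal.comap inferInstance _
  have hQP : Q ≤ (P : Subgroup G) := inf_le_left
  have hKM : K ≤ M := Subgroup.le_normalizer
  have hKn : (K.subgroupOf M).Normal := Subgroup.normal_in_normalizer
  have hKQ : K ≤ Q := by
    refine le_inf hKP fun x hx => ⟨⟨x, hKM hx⟩, ?_, rfl⟩
    show QuotientGroup.mk' O _ ∈ Cfsg.pCore p (↥M ⧸ O)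
    have hn := hKn.map _ (QuotientGroup.mk'_surjective O)
    have hpK : IsPGroup p ((K.subgroupOf M).map (QuotientGroup.mk' O)) :=
      ((P.2.to_le hKP).comap_of_injective M.subtype M.subtype_injective).map _
    exact Core.le_pCore hpK (Subgroup.mem_map_of_mem _ (Subgroup.mem_subgroupOf.mpr hx))
  -- `R = Q * O`
  have hRQ : ∀ x : M, x ∈ R → ∃ q o : M, (q : G) ∈ Q ∧ o ∈ O ∧ x = q * o := by
    intro x hx
    have hle := Core.pCore_le_sylow (PM.mapSurjective (QuotientGroup.mk'_surjective O))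
    obtain ⟨s, hs, hse⟩ := (hle hx : QuotientGroup.mk' O x ∈ _)
    refine ⟨s, s⁻¹ * x, ⟨hs, s, ?_, rfl⟩, QuotientGroup.eq.mp hse, by group⟩
    show QuotientGroup.mk' O s ∈ Cfsg.pCore p (↥M ⧸ O)
    rw [hse]; exact hx
  have hC : Subgroup.centralizer (K : Set G) ≤ M := Subgroup.centralizer_le_normalizer _
  -- the centralizer of `K`
  have hCK : ∀ x : G, (hx : x ∈ Subgroup.centralizer (K : Set G)) →
      ∃ z o : M, (z : G) ∈ K ∧ o ∈ O ∧ x = (z : G) * o := by
    set C := (Subgroup.centralizer (K : Set G)).subgroupOf M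
    have hCn : C.Normal := by
      refine ⟨fun c hc m => ?_⟩
      show ((m : G) * c * (m : G)⁻¹) ∈ Subgroup.centralizer (K : Set G)
      rw [Subgroup.mem_centralizer_iff]
      intro k hk
      have h1 := Subgroup.mem_centralizer_iff.mp (hc : (c : G) ∈ Subgroup.centralizer (K : Set G))
        ((m : G)⁻¹ * k * (m : G)) ((Subgroup.mem_normalizer_iff''.mp m.2 k).mp hk)
      calc k * ((m : G) * c * (m : G)⁻¹) = (m : G) * (((m : G)⁻¹ * k * m) * c) * (m : G)⁻¹ := by group
        _ = _ := by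
          rw [show (m : G)⁻¹ * k * m * (c : G) = (c : G) * ((m : G)⁻¹ * k * m) from h1]; group
    obtain ⟨S, hS⟩ := SylowNumber.exists_sylow_inf PM C
    have hSK : ∀ c : C, c ∈ (S : Subgroup C) → ((c : M) : G) ∈ K := fun c hc => by
      rw [hS] at hc
      exact hKC ⟨hc.1, c.2⟩
    have hburn : Cfsg.HasNormalPComplement p C :=
      Fusion.hasNormalPComplement_of_normalizer_le_centralizer S fun x _ => by
        rw [Subgroup.mem_centralizer_iff]
        exact fun s hs => Subtype.ext (Subtype.ext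
          (Subgroup.mem_centralizer_iff.mp (x.2 : ((x : M) : G) ∈ Subgroup.centralizer (K : Set G)) _ (hSK s hs)))
    have hle : (Cfsg.pResidual p C).map C.subtype ≤ O := by
      have := Fusion.pResidual_characteristic (p := p) (G := C)
      refine Core.le_pPrimeCore ?_
      rw [Subgroup.card_map_of_injective C.subtype_injective]
      exact Fusion.coprime_card_pResidual_of_hasNormalPComplement hburn
    intro x hx
    obtain ⟨z, hz, o, ho, hzo⟩ := Subgroup.mem_sup_of_normal_right.mp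
      ((Fusion.sylow_sup_pResidual S).ge (Subgroup.mem_top (⟨⟨x, hC hx⟩, hx⟩ : C)))
    exact ⟨z, o, hSK z hz, hle ⟨o, ho, rfl⟩, congrArg (fun y : C => ((y : M) : G)) hzo.symm⟩
  have hCQ : Subgroup.centralizer (Q : Set G) ≤ Subgroup.centralizer (K : Set G) :=
    Subgroup.centralizer_le (SetLike.coe_subset_coe.mpr hKQ)
  have hPQ : (P : Subgroup G) ≤ Subgroup.normalizer (Q : Set G) := by
    intro x hx
    rw [Subgroup.mem_normalizer_iff]
    intro y
    constructor
    · rintro ⟨hyP, m, hm, rfl⟩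
      exact ⟨(P : Subgroup G).mul_mem ((P : Subgroup G).mul_mem hx hyP) ((P : Subgroup G).inv_mem hx),
        ⟨x, hPM hx⟩ * m * ⟨x, hPM hx⟩⁻¹, hRn.conj_mem m hm _, rfl⟩
    · rintro ⟨hyP, m, hm, hme⟩
      refine ⟨?_, ⟨x, hPM hx⟩⁻¹ * m * ⟨x, hPM hx⟩, ?_, ?_⟩
      · have h0 := (P : Subgroup G).mul_mem ((P : Subgroup G).mul_mem ((P : Subgroup G).inv_mem hx) hyP) hx
        rwa [show x⁻¹ * (x * y * x⁻¹) * x = y by group] at h0
      · simpa using hRn.conj_mem m hm (⟨x, hPM hx⟩ : M)⁻¹
      · show x⁻¹ * (m : G) * x = y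
        rw [show (m : G) = x * y * x⁻¹ from hme]; group
  -- fusion is controlled by the normalizer of `Q`
  have hctrl : ∀ A : Subgroup G, A ≤ (P : Subgroup G) → ∀ g : G, A.map (MulAut.conj g).toMonoidHom ≤ (P : Subgroup G) →
      ∃ h ∈ Subgroup.normalizer (Q : Set G), ∃ c ∈ Subgroup.centralizer (A : Set G), g = h * c := by
    intro A hA g hg
    obtain ⟨n, hn, hne⟩ := hfus A hA g hg
    -- Frattini
    let QR : Sylow p R := (SylowNumber.exists_sylow_inf PM R).choose
    have hQR : (QR : Subgroup R) = ((PM : Subgroup M) ⊓ R).subgroupOf R :=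
      (SylowNumber.exists_sylow_inf PM R).choose_spec
    obtain ⟨m, hm, r, hr, hmr⟩ := Subgroup.mem_sup_of_normal_right.mp
      (QR.normalizer_sup_eq_top.ge (Subgroup.mem_top (⟨n, hn⟩ : M)))
    have hmQ : (m : G) ∈ Subgroup.normalizer (Q : Set G) := by
      have h1 : ((QR : Subgroup R).map R.subtype).map M.subtype = Q := by
        rw [hQR, Subgroup.map_subgroupOf_eq_of_le inf_le_right, Subgroup.map_inf_eq _ _ _ M.subtype_injective]
        rw [hQdef]
        congr 1
        exact Subgroup.map_subgroupOf_eq_of_le hPM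
      rw [← h1]
      exact Subgroup.le_normalizer_map M.subtype ⟨m, hm, rfl⟩
    obtain ⟨q, o, hq, ho, rfl⟩ := hRQ r hr
    -- `n = (m q) o`
    set h₁ := (m : G) * q
    have hh₁ : h₁ ∈ Subgroup.normalizer (Q : Set G) := mul_mem hmQ (Subgroup.le_normalizer hq)
    have hn' : n = h₁ * o := by
      rw [show n = ((⟨n, hn⟩ : M) : G) from rfl, ← hmr, Subgroup.coe_mul, Subgroup.coe_mul, ← mul_assoc]
    have hQM : Q ≤ M := hQP.trans hPM
    -- work inside `N_M(Q)`
    set D : Subgroup G := O.map M.subtype ⊓ Subgroup.normalizer (Q : Set G)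
    have hOn : M ≤ Subgroup.normalizer ((O.map M.subtype : Subgroup G) : Set G) := by
      intro y hy
      have h2 : (⟨y, hy⟩ : M) ∈ Subgroup.normalizer (O : Set M) := by
        rw [Subgroup.normalizer_eq_top]; exact Subgroup.mem_top _
      exact Subgroup.le_normalizer_map M.subtype ⟨_, h2, rfl⟩
    set Ao := A.map (MulAut.conj (o : G)).toMonoidHom
    have hAoN : Ao ≤ Subgroup.normalizer (Q : Set G) := by
      rintro _ ⟨a, ha, rfl⟩
      show (o : G) * a * (o : G)⁻¹ ∈ _
      have h3 : g * a * g⁻¹ ∈ Subgroup.normalizer (Q : Set G) := hPQ (hg ⟨a, ha, rfl⟩)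
      rw [hne a ha, hn', show h₁ * (o : G) * a * (h₁ * (o : G))⁻¹ = h₁ * ((o : G) * a * (o : G)⁻¹) * h₁⁻¹ by group] at h3
      simpa [mul_assoc] using mul_mem (mul_mem (inv_mem hh₁) h3) hh₁
    have hD : ∀ a ∈ A, a⁻¹ * ((o : G) * a * (o : G)⁻¹) ∈ D := by
      intro a ha
      refine ⟨?_, (Subgroup.normalizer (Q : Set G)).mul_mem ((Subgroup.normalizer (Q : Set G)).inv_mem (hPQ (hA ha))) (hAoN ⟨a, ha, rfl⟩)⟩
      have haM : a ∈ M := hPM (hA ha)
      refine ⟨⟨a, haM⟩⁻¹ * o * ⟨a, haM⟩ * o⁻¹, mul_mem ?_ (inv_mem ho), by simp [mul_assoc]⟩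
      simpa using Core.pPrimeCore_normal.conj_mem o ho (⟨a, haM⟩ : M)⁻¹
    have hDA : ∀ a ∈ A, ∀ d ∈ D, a * d * a⁻¹ ∈ D := fun a ha d hd =>
      ⟨(Subgroup.mem_normalizer_iff.mp (hOn (hPM (hA ha))) d).mp hd.1,
        (Subgroup.normalizer (Q : Set G)).mul_mem ((Subgroup.normalizer (Q : Set G)).mul_mem (hPQ (hA ha)) hd.2)
          ((Subgroup.normalizer (Q : Set G)).inv_mem (hPQ (hA ha)))⟩
    set B := A ⊔ D
    have hDB : (D.subgroupOf B).Normal := by
      refine ⟨fun d hd b => ?_⟩
      have hBN : B ≤ Subgroup.normalizer (D : Set G) := by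
        refine sup_le (fun a ha => ?_) Subgroup.le_normalizer
        rw [Subgroup.mem_normalizer_iff]
        refine fun d => ⟨hDA a ha d, fun h => ?_⟩
        have := hDA a⁻¹ (inv_mem ha) _ h
        simpa [mul_assoc] using this
      exact (Subgroup.mem_normalizer_iff.mp (hBN b.2) d).mp hd
    have hAoB : Ao ≤ B := by
      rintro _ ⟨a, ha, rfl⟩
      show (o : G) * a * (o : G)⁻¹ ∈ B
      have := mul_mem (Subgroup.mem_sup_left (T := D) ha) (Subgroup.mem_sup_right (S := A) (hD a ha))
      simpa [B] using this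
    have hDcop : (Nat.card D).Coprime p := by
      refine Nat.Coprime.coprime_dvd_left (Subgroup.card_dvd_of_le inf_le_left) ?_
      rw [Subgroup.card_map_of_injective M.subtype_injective]
      exact Core.coprime_card_pPrimeCore
    have hAp : IsPGroup p A := P.2.to_le hA
    obtain ⟨k, hk⟩ := IsPGroup.iff_card.mp hAp
    have hidx : ¬ p ∣ (A.subgroupOf B).index := by
      intro hdvd
      have hsup : A.subgroupOf B ⊔ D.subgroupOf B = ⊤ := by
        rw [← Subgroup.subgroupOf_sup le_sup_left le_sup_right, Subgroup.subgroupOf_self]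
      have h4 : (A.subgroupOf B).index ∣ Nat.card (D.subgroupOf B) := by
        rw [← Subgroup.relIndex_top_right, ← hsup, SylowNumber.relIndex_sup_normal]
        exact Subgroup.relIndex_dvd_card _ _
      rw [Nat.card_congr (Subgroup.subgroupOfEquivOfLe (le_sup_right (a := A) (b := D))).toEquiv] at h4
      exact (Nat.Prime.coprime_iff_not_dvd Fact.out).mp hDcop.symm (hdvd.trans h4)
    let SA : Sylow p B := (hAp.comap_of_injective B.subtype B.subtype_injective).toSylow hidx
    obtain ⟨T, hT⟩ := (IsPGroup.comap_of_injective (hAp.map _ : IsPGroup p Ao) B.subtype B.subtype_injective :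
      IsPGroup p (Ao.subgroupOf B)).exists_le_sylow
    obtain ⟨b, hb⟩ := MulAction.exists_smul_eq B SA T
    obtain ⟨e, he, f, hf, hef⟩ := Subgroup.mem_sup_of_normal_right.mp
      (show b ∈ A.subgroupOf B ⊔ D.subgroupOf B by
        rw [← Subgroup.subgroupOf_sup le_sup_left le_sup_right, Subgroup.subgroupOf_self]
        exact Subgroup.mem_top b)
    obtain ⟨e', he', f', hf', hef'⟩ : ∃ e' ∈ A.subgroupOf B, ∃ f' ∈ D.subgroupOf B, b = f' * e' :=
      ⟨e, he, e * f * e⁻¹, hDB.conj_mem f hf e, by rw [← hef]; group⟩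
    set d : G := B.subtype f'
    have hdD : d ∈ D := hf'
    -- every element of `Ao` is `d a' d⁻¹`
    have hcent : ∀ a ∈ A, (o : G) * a * (o : G)⁻¹ = d * a * d⁻¹ := by
      intro a ha
      have h5 : (⟨_, hAoB ⟨a, ha, rfl⟩⟩ : B) ∈ (T : Subgroup B) := hT ⟨a, ha, rfl⟩
      rw [← hb, Sylow.coe_subgroup_smul] at h5
      obtain ⟨a', ha', hae⟩ := h5
      have hae' : (b : G) * (a' : G) * (b : G)⁻¹ = (o : G) * a * (o : G)⁻¹ := congrArg Subtype.val hae
      rw [hef', Subgroup.coe_mul] at hae'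
      set a₁ := (e' : G) * (a' : G) * (e' : G)⁻¹
      have ha₁ : a₁ ∈ A := mul_mem (mul_mem he' ha') (inv_mem he')
      have h6 : d * a₁ * d⁻¹ = (o : G) * a * (o : G)⁻¹ := by rw [← hae']; simp only [a₁, d, Subgroup.coe_subtype]; group
      suffices a₁ = a by rw [← h6, this]
      have h7 : a⁻¹ * a₁ ∈ D := by
        have h8 := mul_mem (hD a ha) (mul_mem hdD (inv_mem (hDA a₁ ha₁ d hdD)))
        rw [← h6] at h8
        have e9 : a⁻¹ * (d * a₁ * d⁻¹) * (d * (a₁ * d * a₁⁻¹)⁻¹) = a⁻¹ * (d * a₁ * d⁻¹) * d * a₁ * d⁻¹ * a₁⁻¹ := by group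
        have h9 := mul_mem (mul_mem (inv_mem (hDA a⁻¹ (inv_mem ha) d hdD)) (hD a ha)) (hDA a⁻¹ (inv_mem ha) d hdD)
        rw [← h6] at h9
        have e10 : (a⁻¹ * d * a⁻¹⁻¹)⁻¹ * (a⁻¹ * (d * a₁ * d⁻¹)) * (a⁻¹ * d * a⁻¹⁻¹) = a⁻¹ * a₁ * (d⁻¹ * (a⁻¹ * d * a⁻¹⁻¹)) := by group
        rw [e10] at h9
        have h10 := mul_mem h9 (inv_mem (mul_mem (inv_mem hdD) (hDA a⁻¹ (inv_mem ha) d hdD)))
        rwa [mul_inv_cancel_right] at h10
      obtain ⟨i, hi⟩ := hAp ⟨_, mul_mem (inv_mem ha) ha₁⟩
      have h11 : orderOf (a⁻¹ * a₁) ∣ p ^ i := orderOf_dvd_of_pow_eq_one (congrArg Subtype.val hi)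
      have h12 := Subgroup.orderOf_dvd_natCard D h7
      exact (inv_mul_eq_one.mp (orderOf_eq_one_iff.mp
        (Nat.eq_one_of_dvd_coprimes (hDcop.pow_right i) h12 h11))).symm
    refine ⟨h₁ * d, mul_mem hh₁ hdD.2, (h₁ * d)⁻¹ * g, ?_, by group⟩
    rw [Subgroup.mem_centralizer_iff]
    intro a ha
    have h13 : g * a * g⁻¹ = h₁ * d * a * (h₁ * d)⁻¹ := by
      rw [hne a ha, hn', show h₁ * (o : G) * a * (h₁ * (o : G))⁻¹ = h₁ * ((o : G) * a * (o : G)⁻¹) * h₁⁻¹ by group,
        hcent a ha]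
      group
    calc a * ((h₁ * d)⁻¹ * g) = (h₁ * d)⁻¹ * (h₁ * d * a * (h₁ * d)⁻¹) * g := by group
      _ = _ := by rw [← h13]; group
  have hnorm : ∀ x ∈ (P : Subgroup G), Q.map (MulAut.conj x).toMonoidHom = Q := fun x hx =>
    conj_of_mem (hPQ hx)
  have hcrQ : cr Q := by
    rw [hcr]
    refine ⟨hQP, ?_, fun X hXN hXn hle hidx => ?_⟩
    · set NQ := Subgroup.normalizer (Q : Set G)
      set CQ := Subgroup.centralizer (Q : Set G)
      have hCN : CQ ≤ NQ := Subgroup.centralizer_le_normalizer _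
      have hCn : (CQ.subgroupOf NQ).Normal := Subgroup.normal_subgroupOf_centralizer_normalizer (Q : Set G)
      obtain ⟨S, hS⟩ := SylowNumber.exists_sylow_inf (P.subtype hPQ) (CQ.subgroupOf NQ)
      let e : CQ ≃* CQ.subgroupOf NQ := (Subgroup.subgroupOfEquivOfLe hCN).symm
      refine ⟨S.comapOfInjective e.toMonoidHom e.injective (fun z _ => e.surjective z), ?_⟩
      show ((S : Subgroup (CQ.subgroupOf NQ)).comap e.toMonoidHom).map CQ.subtype = _
      rw [hS]
      ext x
      constructor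
      · rintro ⟨c, hc, rfl⟩
        have hcP : (c : G) ∈ (P : Subgroup G) := hc.1
        refine ⟨?_, c.2⟩
        exact hKQ (hKC ⟨hcP, hCQ c.2⟩)
      · rintro ⟨hxQ, hxC⟩
        exact ⟨⟨x, hxC⟩, ⟨hQP hxQ, (e ⟨x, hxC⟩).2⟩, rfl⟩
    · -- the radical condition
      refine le_antisymm ?_ hle
      obtain ⟨k, hk⟩ := hidx
      have hXM : X ≤ M := by
        intro x hx
        obtain ⟨n, hn, hne⟩ := hfus Q hQP x (by
          exact (conj_of_mem (hXN hx)).le.trans hQP)
        have hc : n⁻¹ * x ∈ Subgroup.centralizer (Q : Set G) := Subgroup.mem_centralizer_iff.mpr fun q hq => by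
          calc q * (n⁻¹ * x) = n⁻¹ * (n * q * n⁻¹) * x := by group
            _ = _ := by rw [← hne q hq]; group
        simpa using mul_mem hn (hC (hCQ hc))
      set π := QuotientGroup.mk' O
      set QC := Q ⊔ Subgroup.centralizer (Q : Set G)
      have hQCM : QC ≤ M := hle.trans hXM
      have hQCR : ∀ y : M, (y : G) ∈ QC → y ∈ R := by
        intro y hy
        have : QC ≤ R.map M.subtype := by
          refine sup_le inf_le_right fun c hc => ?_
          obtain ⟨z, o, hz, ho, rfl⟩ := hCK c (hCQ hc)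
          refine mul_mem (hKQ hz).2 ⟨o, ?_, rfl⟩
          show π o ∈ Cfsg.pCore p (↥M ⧸ O)
          rw [show π o = 1 from (QuotientGroup.eq_one_iff o).mpr ho]
          exact one_mem _
        obtain ⟨r, hr, hre⟩ := this hy
        exact (M.subtype_injective hre) ▸ hr
      set Xb := (X.subgroupOf M).map π
      have hXp : IsPGroup p Xb := by
        rintro ⟨_, y, hy, rfl⟩
        have hyX : (y : G) ∈ X := hy
        have hn' : (QC.subgroupOf X).Normal := by
          refine ⟨fun c hc z => ?_⟩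
          show (z : G) * c * (z : G)⁻¹ ∈ QC
          have h1 : (z : G) ∈ Subgroup.normalizer (QC : Set G) := by
            have hz := hXN z.2
            refine mem_of_conj ?_
            rw [Subgroup.map_sup, conj_of_mem hz, conj_centralizer hz]
          exact (Subgroup.mem_normalizer_iff.mp h1 c).mp hc
        have h4 : (y : G) ^ p ^ k ∈ QC := by
          have h5 := (QC.subgroupOf X).pow_index_mem (⟨y, hyX⟩ : X)
          rw [show (QC.subgroupOf X).index = p ^ k from hk] at h5
          exact h5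
        have h6 : π (y ^ p ^ k) ∈ Cfsg.pCore p (↥M ⧸ O) := hQCR _ (by rwa [Subgroup.coe_pow])
        obtain ⟨j, hj⟩ := Core.pCore_isPGroup ⟨_, h6⟩
        refine ⟨k + j, Subtype.ext ?_⟩
        show π y ^ p ^ (k + j) = 1
        rw [pow_add, pow_mul, ← map_pow]
        exact congrArg Subtype.val hj
      have hXnM : (X.subgroupOf M ⊔ O).Normal := by
        rw [← Subgroup.normalizer_eq_top_iff, eq_top_iff]
        intro n _
        -- `M = N_M(Q) O`
        let QR : Sylow p R := (SylowNumber.exists_sylow_inf PM R).choose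
        have hQR : (QR : Subgroup R) = ((PM : Subgroup M) ⊓ R).subgroupOf R :=
          (SylowNumber.exists_sylow_inf PM R).choose_spec
        obtain ⟨m, hm, r, hr, rfl⟩ := Subgroup.mem_sup_of_normal_right.mp
          (QR.normalizer_sup_eq_top.ge (Subgroup.mem_top n))
        obtain ⟨q, o, hq, ho, rfl⟩ := hRQ r hr
        refine mul_mem ?_ (mul_mem (Subgroup.le_normalizer (Subgroup.mem_sup_left (hle (Subgroup.mem_sup_left hq))))
          (Subgroup.le_normalizer (Subgroup.mem_sup_right ho)))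
        have h1 : ((QR : Subgroup R).map R.subtype).map M.subtype = Q := by
          rw [hQR, Subgroup.map_subgroupOf_eq_of_le inf_le_right, Subgroup.map_inf_eq _ _ _ M.subtype_injective, hQdef]
          congr 1
          exact Subgroup.map_subgroupOf_eq_of_le hPM
        have hmQ : (m : G) ∈ Subgroup.normalizer (Q : Set G) := by
          rw [← h1]
          exact Subgroup.le_normalizer_map M.subtype ⟨m, hm, rfl⟩
        have hX' : (X.subgroupOf M).map (MulAut.conj m).toMonoidHom = X.subgroupOf M := by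
          apply Subgroup.map_injective M.subtype_injective
          rw [Subgroup.map_map, Subgroup.map_subgroupOf_eq_of_le hXM]
          conv_rhs => rw [← hXn _ hmQ, ← Subgroup.map_subgroupOf_eq_of_le hXM, Subgroup.map_map]
          rfl
        refine mem_of_conj ?_
        rw [Subgroup.map_sup, hX']
        congr 1
        exact conj_of_mem (by
          rw [Subgroup.normalizer_eq_top]; exact Subgroup.mem_top m)
      have hXbn : Xb.Normal := by
        have := hXnM.map π (QuotientGroup.mk'_surjective O)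
        rwa [Subgroup.map_sup, (Subgroup.map_eq_bot_iff O).mpr (QuotientGroup.ker_mk' O).ge, sup_bot_eq] at this
      intro x hx
      have h7 : (⟨x, hXM hx⟩ : M) ∈ R := Core.le_pCore hXp ⟨⟨x, hXM hx⟩, hx, rfl⟩
      obtain ⟨q, o, hq, ho, hqo⟩ := hRQ _ h7
      have hx' : x = (q : G) * o := congrArg Subtype.val hqo
      rw [hx']
      refine mul_mem (Subgroup.mem_sup_left hq) (Subgroup.mem_sup_right ?_)
      have hoN : (o : G) ∈ Subgroup.normalizer (Q : Set G) := by
        rw [show (o : G) = (q : G)⁻¹ * x by rw [hx']; group]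
        exact mul_mem (inv_mem (Subgroup.le_normalizer hq)) (hXN hx)
      rw [Subgroup.mem_centralizer_iff]
      intro y hy
      have hyM : y ∈ M := hPM (hQP hy)
      set w : M := o * ⟨y, hyM⟩ * o⁻¹ * ⟨y, hyM⟩⁻¹
      have hwO : w ∈ O := by
        have := mul_mem ho (Core.pPrimeCore_normal.conj_mem o⁻¹ (inv_mem ho) (⟨y, hyM⟩ : M))
        simpa [w, mul_assoc] using this
      have hwQ : (w : G) ∈ Q := by
        show (o : G) * y * (o : G)⁻¹ * y⁻¹ ∈ Q
        exact mul_mem ((Subgroup.mem_normalizer_iff.mp hoN y).mp hy) (inv_mem hy)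
      obtain ⟨i, hi⟩ := P.2 ⟨_, hQP hwQ⟩
      have h8 : orderOf w ∣ p ^ i := orderOf_dvd_of_pow_eq_one (Subtype.ext ((Subgroup.coe_pow M w (p ^ i)).trans (congrArg Subtype.val hi :)))
      have h9 := orderOf_eq_one_iff.mp (Nat.eq_one_of_dvd_coprimes
        ((Core.coprime_card_pPrimeCore (p := p) (G := M)).pow_right i) (Subgroup.orderOf_dvd_natCard O hwO) h8)
      have h10 : (o : G) * y * (o : G)⁻¹ * y⁻¹ = 1 := congrArg Subtype.val h9
      exact (mul_inv_eq_iff_eq_mul.mp (mul_inv_eq_one.mp h10)).symm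
  refine ⟨Q, hcrQ, fun S hS => ?_, hnorm, hctrl⟩
  rw [hcr] at hS
  obtain ⟨hSP, hsyl, hrad⟩ := hS
  set NS := Subgroup.normalizer (S : Set G)
  set CS := Subgroup.centralizer (S : Set G)
  obtain ⟨T, hT⟩ := hsyl
  set Y := Q ⊓ NS
  -- `Y R C(R)` is normal in the normalizer
  have hYS : Y ≤ S := by
    set X := Y ⊔ (S ⊔ CS)
    have hSCn : ∀ n ∈ NS, (S ⊔ CS).map (MulAut.conj n).toMonoidHom = S ⊔ CS := by
      intro n hn
      rw [Subgroup.map_sup, conj_of_mem hn, conj_centralizer hn]
    have hXN : X ≤ NS := sup_le inf_le_right (sup_le Subgroup.le_normalizer (Subgroup.centralizer_le_normalizer _))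
    have hXn : ∀ n ∈ NS, X.map (MulAut.conj n).toMonoidHom = X := by
      intro n hn
      obtain ⟨h, hh, c, hc, rfl⟩ := hctrl S hSP n ((conj_of_mem hn).le.trans hSP)
      have hcN : c ∈ NS := Subgroup.centralizer_le_normalizer _ hc
      have hhN : h ∈ NS := by simpa using mul_mem hn (inv_mem hcN)
      have h1 : X.map (MulAut.conj c).toMonoidHom = X :=
        conj_of_mem (Subgroup.le_normalizer (Subgroup.mem_sup_right (Subgroup.mem_sup_right hc)))
      have h2 : X.map (MulAut.conj h).toMonoidHom = X := by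
        rw [Subgroup.map_sup, hSCn h hhN]
        congr 1
        rw [Subgroup.map_inf_eq _ _ _ (MulEquiv.injective _), conj_of_mem hh,
          conj_of_mem (Subgroup.le_normalizer hhN)]
      rw [map_mul]
      show X.map ((MulAut.conj h).toMonoidHom.comp (MulAut.conj c).toMonoidHom) = X
      rw [← Subgroup.map_map, h1, h2]
    have hidx : ∃ k : ℕ, (S ⊔ CS).relIndex X = p ^ k := by
      have hYp : IsPGroup p Y := P.2.to_le (inf_le_left.trans hQP)
      have hn : ((S ⊔ CS).subgroupOf X).Normal := ⟨fun x hx z => by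
        show (z : G) * x * (z : G)⁻¹ ∈ S ⊔ CS
        exact (Subgroup.mem_normalizer_iff.mp (mem_of_conj (hSCn _ (hXN z.2))) x).mp hx⟩
      obtain ⟨k, hk⟩ := IsPGroup.iff_card.mp hYp
      have hd : (S ⊔ CS).relIndex X ∣ Nat.card Y := by
        show ((S ⊔ CS).subgroupOf X).index ∣ _
        rw [← Subgroup.relIndex_top_right, show (⊤ : Subgroup X) = Y.subgroupOf X ⊔ (S ⊔ CS).subgroupOf X by
          rw [← Subgroup.subgroupOf_sup le_sup_left le_sup_right, Subgroup.subgroupOf_self],
          Subgroup.relIndex_sup_right]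
        refine (Subgroup.relIndex_dvd_card _ _).trans ?_
        rw [Nat.card_congr (Subgroup.subgroupOfEquivOfLe (le_sup_left (a := Y) (b := S ⊔ CS))).toEquiv]
      rw [hk] at hd
      obtain ⟨j, -, hj⟩ := (Nat.dvd_prime_pow Fact.out).mp hd
      exact ⟨j, hj⟩
    have hX := hrad X hXN hXn le_sup_right hidx
    intro y hy
    have hy' : y ∈ S ⊔ CS := hX.le (Subgroup.mem_sup_left hy)
    obtain ⟨s, hs, c, hc, rfl⟩ : ∃ s ∈ S, ∃ c ∈ CS, s * c = y := by
      have := Subgroup.mul_normal (S.subgroupOf NS) (CS.subgroupOf NS)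
        (hN := Subgroup.normal_subgroupOf_centralizer_normalizer (S : Set G))
      have hy'' : (⟨y, hy.2⟩ : NS) ∈ S.subgroupOf NS ⊔ CS.subgroupOf NS := by
        rw [← Subgroup.subgroupOf_sup Subgroup.le_normalizer (Subgroup.centralizer_le_normalizer _)]
        exact hy'
      rw [← SetLike.mem_coe, this] at hy''
      obtain ⟨s, hs, c, hc, he⟩ := hy''
      exact ⟨s, hs, c, hc, congrArg Subtype.val he⟩
    have hcP : c ∈ (P : Subgroup G) := by
      simpa using mul_mem (inv_mem (hSP hs)) (hQP hy.1)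
    refine mul_mem hs ?_
    obtain ⟨i, hi⟩ := P.2 ⟨c, hcP⟩
    have hpc : IsPGroup p (Subgroup.zpowers (⟨c, hc⟩ : CS)) := by
      obtain ⟨j, -, hj⟩ := (Nat.dvd_prime_pow Fact.out).mp (orderOf_dvd_of_pow_eq_one
        (show (⟨c, hc⟩ : CS) ^ p ^ i = 1 from Subtype.ext (by
          rw [Subgroup.coe_pow]
          exact congrArg Subtype.val hi)))
      exact IsPGroup.of_card (n := j) (by rw [Nat.card_zpowers, hj])
    obtain ⟨T', hT'⟩ := hpc.exists_le_sylow
    obtain ⟨u, hu⟩ := MulAction.exists_smul_eq CS T T'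
    have hcT : (⟨c, hc⟩ : CS) ∈ ((u • T : Sylow p CS) : Subgroup CS) := by
      rw [hu]; exact hT' (Subgroup.mem_zpowers _)
    rw [Sylow.coe_subgroup_smul] at hcT
    obtain ⟨t, ht, hte⟩ := hcT
    have htS : (t : G) ∈ S := (hT.le ⟨t, ht, rfl⟩ : (t : G) ∈ S ⊓ CS).1
    rw [show c = (t : G) from (congrArg Subtype.val hte).symm.trans (by
      show (u : G) * t * (u : G)⁻¹ = t
      rw [← Subgroup.mem_centralizer_iff.mp u.2 _ htS, mul_inv_cancel_right])]
    exact htS
  -- the normalizer condition in `Q S`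
  by_contra hnot
  set QS := Q ⊔ S
  have hQS : QS ≤ (P : Subgroup G) := sup_le hQP hSP
  have hp' : IsPGroup p QS := P.2.to_le hQS
  have : Group.IsNilpotent QS := hp'.isNilpotent
  have hne : S.subgroupOf QS ≠ ⊤ := fun h =>
    hnot (le_sup_left.trans (Subgroup.subgroupOf_eq_top.mp h))
  have hlt := Group.normalizerCondition_of_isNilpotent (S.subgroupOf QS) hne.lt_top
  refine hlt.not_ge fun y hy => ?_
  have hyN : (y : G) ∈ NS := by
    have := Subgroup.le_normalizer_map QS.subtype (Subgroup.mem_map_of_mem QS.subtype hy)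
    rwa [Subgroup.map_subgroupOf_eq_of_le le_sup_right] at this
  -- decompose
  have hSQ : S ≤ Subgroup.normalizer (Q : Set G) := hSP.trans hPQ
  obtain ⟨s, hs, q, hq, hsq⟩ : ∃ s ∈ S, ∃ q ∈ Q, s * q = (y : G) := by
    have h1 : (y : G) ∈ S ⊔ Q := sup_comm Q S ▸ y.2
    rw [← SetLike.mem_coe, Subgroup.coe_mul_of_left_le_normalizer_right S Q hSQ] at h1
    obtain ⟨s, hs, q, hq, he⟩ := h1
    exact ⟨s, hs, q, hq, he⟩
  have hqN : q ∈ NS := by
    rw [show q = s⁻¹ * (y : G) by rw [← hsq]; group]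
    exact mul_mem (inv_mem (Subgroup.le_normalizer hs)) hyN
  show (y : G) ∈ S
  rw [← hsq]
  exact mul_mem hs (hYS ⟨hq, hqN⟩)

end Cfsg.Agent.S1953
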