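import Cfsg.Statements.S1954
import Cfsg.Agent.Fusion.AlperinGoldschmidt
import Cfsg.Agent.Fusion.CyclicNormal
import Cfsg.Agent.Coprime.Tools

set_option autoImplicit false
open Cfsg

namespace Cfsg.Agent.S1954

open Subgroup in
/-- If the fusion of subgroups of `Q` in `N` factors through `W`-normalising elements, the members
of the Alperin-Goldschmidt family contain `W`. -/
theorem le_of_gCond {G : Type*} [Group G] [Finite G] {p : ℕ} [Fact p.Prime] {N : Subgroup G} [N.Normal]
    (P : Sylow p G) {W : Subgroup G} (hW : W ≤ (P : Subgroup G) ⊓ N)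
    (hPW : (P : Subgroup G) ≤ normalizer (W : Set G))
    (hL : ∀ A : Subgroup G, A ≤ (P : Subgroup G) ⊓ N → ∀ n ∈ N,
      A.map (MulAut.conj n).toMonoidHom ≤ (P : Subgroup G) ⊓ N →
      ∃ h ∈ N ⊓ normalizer (W : Set G), ∃ c ∈ N ⊓ centralizer (A : Set G), n = h * c)
    {D : Subgroup G} (hD : Fusion.GCond P D) : W ≤ D := by
  classical
  set M := normalizer (D : Set G) with hM
  set B := D ⊓ N with hB
  set C := N ⊓ centralizer (B : Set G) with hC
  set T := W ⊓ normalizer (B : Set G) with hT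
  have hMB : M ≤ normalizer (B : Set G) :=
    Coprime.le_normalizer_inf le_rfl (by rw [normalizer_eq_top]; exact le_top)
  have hBC : ∀ x ∈ normalizer (B : Set G), x ∈ normalizer (C : Set G) := fun x hx =>
    (Coprime.le_normalizer_inf (K := N) (A := normalizer (B : Set G)) (le_top.trans (normalizer_eq_top (H := N)).ge)
      (Coprime.le_normalizer_centralizer le_rfl)) hx
  have hTC : T ≤ normalizer (C : Set G) := fun x hx => hBC x hx.2
  set U := (T ⊔ C) ⊓ M with hU
  have hDP : D ≤ (P : Subgroup G) := hD.le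
  have hBQ : B ≤ (P : Subgroup G) ⊓ N := inf_le_inf_right _ hDP
  -- `M ⊓ N` normalises `U`
  have hZU : M ⊓ N ≤ normalizer (U : Set G) := by
    intro z hz
    have hzB := hMB hz.1
    obtain ⟨h, hh, c, hc, rfl⟩ := hL B hBQ z hz.2 (by
      rintro _ ⟨b, hb, rfl⟩
      exact hBQ ((mem_normalizer_iff.1 hzB b).1 hb))
    have hcB : c ∈ normalizer (B : Set G) := centralizer_le_normalizer _ hc.2
    have hhB : h ∈ normalizer (B : Set G) := by
      have := mul_mem hzB (inv_mem hcB)
      rwa [mul_inv_cancel_right] at this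
    have h1 : h * c ∈ normalizer ((T ⊔ C : Subgroup G) : Set G) := by
      refine mul_mem ?_ (le_normalizer (mem_sup_right hc))
      exact (Coprime.le_normalizer_sup (A := zpowers h) (zpowers_le.2 (Coprime.le_normalizer_inf
        (A := zpowers h) (zpowers_le.2 hh.2) (zpowers_le.2 (le_normalizer hhB)) (mem_zpowers h)))
        (zpowers_le.2 (hBC h hhB))) (mem_zpowers h)
    exact (Coprime.le_normalizer_inf (A := zpowers (h * c)) (zpowers_le.2 h1)
      (zpowers_le.2 (le_normalizer hz.1))) (mem_zpowers _)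
  have hUN : U ≤ M ⊓ N := le_inf inf_le_right (inf_le_left.trans (sup_le (inf_le_left.trans (hW.trans inf_le_right)) inf_le_left))
  set K := (Cfsg.pPrimeCore p ↥M).map M.subtype with hK
  obtain ⟨hKP, hDPp, hcomm, hKD, hsup⟩ := hD.prod
  -- elements of order prime to `p` in `U` lie in `K`
  have hcop : ∀ q ∈ U, (orderOf q).Coprime p → q ∈ K := by
    intro q hq hqo
    have hqTC : q ∈ T ⊔ C := hq.1
    rw [sup_comm, Coprime.mem_sup_of_le_normalizer hTC] at hqTC
    obtain ⟨c₀, hc₀, t, ht, hct⟩ := hqTC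
    have hqC : q ∈ C := by
      set S := T ⊔ C with hS
      have hCn : (C.subgroupOf S).Normal := (normal_subgroupOf_iff_le_normalizer le_sup_right).2
        (sup_le hTC le_normalizer)
      set f := QuotientGroup.mk' (C.subgroupOf S)
      have h1 : f ⟨q, hq.1⟩ = f ⟨t, mem_sup_left ht⟩ := by
        rw [show (⟨q, hq.1⟩ : S) = ⟨c₀, mem_sup_right hc₀⟩ * ⟨t, mem_sup_left ht⟩ from Subtype.ext hct.symm,
          map_mul, show f ⟨c₀, mem_sup_right hc₀⟩ = 1 from (QuotientGroup.eq_one_iff _).2 (mem_subgroupOf.2 hc₀),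
          one_mul]
      obtain ⟨m, hm⟩ := (P.isPGroup'.to_le (inf_le_left.trans (hW.trans inf_le_left) : T ≤ (P : Subgroup G))) ⟨t, ht⟩
      have h2 : orderOf (f ⟨q, hq.1⟩) ∣ Nat.gcd (orderOf q) (p ^ m) := by
        refine Nat.dvd_gcd ((orderOf_map_dvd f _).trans (by rw [Subgroup.orderOf_mk])) ?_
        rw [h1]
        refine (orderOf_map_dvd f _).trans (orderOf_dvd_of_pow_eq_one (Subtype.ext ?_))
        rw [SubmonoidClass.coe_pow]
        exact congrArg (Subtype.val : T → G) hm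
      rw [(hqo.pow_right m).gcd_eq_one, Nat.dvd_one, orderOf_eq_one_iff] at h2
      exact mem_subgroupOf.1 ((QuotientGroup.eq_one_iff _).1 h2)
    -- such an element centralises `D`
    have hqD : q ∈ centralizer (D : Set G) := mem_centralizer_iff.2 fun d hd => by
      have hw : d⁻¹ * (q * d * q⁻¹) ∈ B := by
        refine ⟨D.mul_mem (D.inv_mem hd) ((mem_normalizer_iff.1 hq.2 d).1 hd), ?_⟩
        have := N.mul_mem (Subgroup.Normal.conj_mem inferInstance q hqC.1 d⁻¹) (N.inv_mem hqC.1)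
        simpa [mul_assoc] using this
      obtain ⟨m, hm⟩ := (P.isPGroup'.to_le (inf_le_left.trans hDP : B ≤ (P : Subgroup G))) ⟨_, hw⟩
      have hw1 := Fusion.eq_one_of_transvection_coprime (p := p ^ m) (hqo.pow_right m)
        (congrArg (Subtype.val : B → G) hm) (mem_centralizer_iff.1 hqC.2 _ hw).symm
        (show q * d * q⁻¹ = d * (d⁻¹ * (q * d * q⁻¹)) by rw [mul_inv_cancel_left])
      rw [inv_mul_eq_one] at hw1
      exact (mul_inv_eq_iff_eq_mul.1 hw1.symm).symm
    have hqs : q ∈ K ⊔ D := hsup.ge (hD.cent hqD)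
    rw [sup_comm, Coprime.mem_sup_of_le_normalizer (fun k hk => centralizer_le_normalizer _
      (mem_centralizer_iff.2 fun d hd => (hcomm k hk d hd).symm))] at hqs
    obtain ⟨d, hd, k, hk, rfl⟩ := hqs
    obtain ⟨m, hm⟩ := (P.isPGroup'.to_le hDP) ⟨d, hd⟩
    have hpow : (d * k) ^ p ^ m ∈ K := by
      rw [(show Commute d k from (hcomm k hk d hd).symm).mul_pow,
        show d ^ p ^ m = 1 from congrArg (Subtype.val : D → G) hm, one_mul]
      exact K.pow_mem hk _
    obtain ⟨i, hi⟩ := exists_pow_eq_self_of_coprime (hqo.pow_right m).symm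
    rw [← hi]
    exact K.pow_mem hpow i
  -- hence `U` lies in `O_{p',p}(M)`
  have hUM : U ≤ M := inf_le_right
  set f := QuotientGroup.mk' (Cfsg.pPrimeCore p M) with hf
  have hfs := QuotientGroup.mk'_surjective (Cfsg.pPrimeCore p M)
  set Zq := (N.subgroupOf M).map f with hZq
  have hZn : Zq.Normal := (inferInstance : (N.subgroupOf M).Normal).map f hfs
  set Uq := (U.subgroupOf M).map f with hUq
  have hUqp : IsPGroup p Uq := by
    by_contra hnp
    obtain ⟨x, hx, hx1, hxo⟩ := Layer.exists_coprime_orderOf hnp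
    obtain ⟨u, hu, rfl⟩ := hx
    apply hx1
    -- replace `u` by a power of order prime to `p`
    obtain ⟨a, b, hb, hab⟩ := Nat.exists_eq_pow_mul_and_not_dvd (orderOf_pos u).ne' p (Fact.out : p.Prime).ne_one
    obtain ⟨j, hj⟩ := exists_pow_eq_self_of_coprime (hxo.pow_right a).symm
    have hmem : u ^ p ^ a ∈ U.subgroupOf M := pow_mem hu _
    have ho : (orderOf ((u ^ p ^ a : M) : G)).Coprime p := by
      rw [Subgroup.orderOf_coe, orderOf_pow' u (pow_ne_zero _ (Fact.out : p.Prime).ne_zero), hab,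
        Nat.gcd_mul_right_left, Nat.mul_div_cancel_left _ (pow_pos (Fact.out : p.Prime).pos a)]
      exact (((Fact.out : p.Prime).coprime_iff_not_dvd).2 hb).symm
    obtain ⟨k, hk, hke⟩ := hcop _ (mem_subgroupOf.1 hmem) ho
    rw [← hj, ← map_pow f u, show u ^ p ^ a = k from (Subtype.ext hke).symm,
      show f k = 1 from (QuotientGroup.eq_one_iff k).2 hk, one_pow]
  have hUZ : Uq ≤ Zq := map_mono fun x hx => mem_subgroupOf.2 (hUN (mem_subgroupOf.1 hx)).2
  have hUqn : (Uq.subgroupOf Zq).Normal := by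
    refine (normal_subgroupOf_iff_le_normalizer hUZ).2 ?_
    rintro _ ⟨z, hz, rfl⟩
    rw [mem_normalizer_iff]
    have hzn : ∀ y : M, y ∈ U.subgroupOf M → z * y * z⁻¹ ∈ U.subgroupOf M := fun y hy =>
      mem_subgroupOf.2 ((mem_normalizer_iff.1 (hZU ⟨z.2, hz⟩) (y : G)).1 (mem_subgroupOf.1 hy))
    have hzn' : ∀ y : M, y ∈ U.subgroupOf M → z⁻¹ * y * z ∈ U.subgroupOf M := fun y hy => by
      have h := (mem_normalizer_iff''.1 (hZU ⟨z.2, hz⟩) (y : G)).1 (mem_subgroupOf.1 hy)
      exact mem_subgroupOf.2 h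
    intro w
    constructor
    · rintro ⟨y, hy, rfl⟩
      exact ⟨z * y * z⁻¹, hzn y hy, by simp⟩
    · rintro ⟨y, hy, he⟩
      refine ⟨z⁻¹ * y * z, hzn' y hy, ?_⟩
      rw [map_mul, map_mul, he, map_inv]
      group
  have hUcore : Uq ≤ Cfsg.pCore p (M ⧸ Cfsg.pPrimeCore p M) := by
    have h1 : Uq.subgroupOf Zq ≤ Cfsg.pCore p Zq :=
      Core.le_pCore (hUqp.comap_of_injective Zq.subtype Zq.subtype_injective)
    have h2 := (map_mono (f := Zq.subtype) h1).trans ((Core.map_pCore_normal Zq).le.trans inf_le_left)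
    rwa [map_subgroupOf_eq_of_le hUZ] at h2
  have hWM : W ⊓ M ≤ D := by
    rintro w ⟨hwW, hwM⟩
    have hwU : w ∈ U := ⟨mem_sup_left ⟨hwW, hMB hwM⟩, hwM⟩
    have hwpp : w ∈ (Cfsg.pPrimePCore p ↥M).map M.subtype :=
      ⟨⟨w, hwM⟩, hUcore ⟨⟨w, hwM⟩, mem_subgroupOf.2 hwU, rfl⟩, rfl⟩
    have hws : w ∈ K ⊔ D := hsup.ge hwpp
    rw [sup_comm, Coprime.mem_sup_of_le_normalizer (fun k hk => centralizer_le_normalizer _
      (mem_centralizer_iff.2 fun d hd => (hcomm k hk d hd).symm))] at hws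
    obtain ⟨d, hd, k, hk, rfl⟩ := hws
    have hkP : k ∈ (P : Subgroup G) := by
      have := (P : Subgroup G).mul_mem ((P : Subgroup G).inv_mem (hDP hd)) (hW hwW).1
      rwa [inv_mul_cancel_left] at this
    have hk1 : k = 1 := by
      have hbot : K ⊓ (P : Subgroup G) = ⊥ := by
        rw [inf_comm]
        refine Layer.inf_eq_bot_of_isPGroup P.isPGroup' ?_
        rw [hK, card_map_of_injective M.subtype_injective]
        exact Core.coprime_card_pPrimeCore
      have : k ∈ K ⊓ (P : Subgroup G) := ⟨hk, hkP⟩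
      rwa [hbot, mem_bot] at this
    rwa [hk1, mul_one]
  by_contra hWD
  have hDW : D ≤ normalizer (W : Set G) := hDP.trans hPW
  have hlt : D < D ⊔ W := lt_of_le_of_ne le_sup_left fun e => hWD (le_sup_right.trans e.ge)
  obtain ⟨l, hl, hlD⟩ := SetLike.exists_of_lt (Fusion.lt_inf_normalizer_of_isPGroup
    (P.isPGroup'.to_le (sup_le hDP (hW.trans inf_le_left))) hlt)
  obtain ⟨hl1, hl2⟩ := hl
  replace hl1 : l ∈ W ⊔ D := sup_comm D W ▸ hl1
  rw [Coprime.mem_sup_of_le_normalizer hDW] at hl1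
  obtain ⟨w, hw, d, hd, rfl⟩ := hl1
  refine hlD (D.mul_mem (hWM ⟨hw, ?_⟩) hd)
  have := mul_mem (show w * d ∈ normalizer (D : Set G) from hl2) (inv_mem (le_normalizer hd))
  rwa [mul_inv_cancel_right] at this

/-- Let N be a normal subgroup of the finite group G, P a Sylow p-subgroup of G, and V a subgroup of P ∩ N normal in P ∩ N such that N_N(V) controls strong fusion in P ∩ N with respect to N (whenever a subgroup A of P ∩ N has n A n⁻¹ ≤ P ∩ N for some n in N, then n = h c with h in N_N(V) and c in C_N(A)). Let W be the subgroup generated by the conjugates of V under N_G(P ∩ N). Then N_G(W) controls strong fusion in P with respect to G. -/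
theorem result {G : Type*} [Group G] [Finite G] {p : ℕ} [Fact p.Prime] (N : Subgroup G) [N.Normal] (P : Sylow p G) (V : Subgroup G)
    (hV : V ≤ (P : Subgroup G) ⊓ N) (hVn : ∀ x ∈ (P : Subgroup G) ⊓ N, V.map (MulAut.conj x).toMonoidHom = V)
    (hctrl : ∀ A : Subgroup G, A ≤ (P : Subgroup G) ⊓ N → ∀ n ∈ N, A.map (MulAut.conj n).toMonoidHom ≤ (P : Subgroup G) ⊓ N →
      ∃ h ∈ N ⊓ Subgroup.normalizer (V : Set G), ∃ c ∈ N ⊓ Subgroup.centralizer (A : Set G), n = h * c)
    (W : Subgroup G) (hW : W = Subgroup.closure (⋃ x ∈ Subgroup.normalizer (((P : Subgroup G) ⊓ N : Subgroup G) : Set G),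
      ((V.map (MulAut.conj x).toMonoidHom : Subgroup G) : Set G))) :
    ∀ A : Subgroup G, A ≤ (P : Subgroup G) → ∀ g : G, A.map (MulAut.conj g).toMonoidHom ≤ (P : Subgroup G) →
        ∃ h ∈ Subgroup.normalizer (W : Set G), ∃ c ∈ Subgroup.centralizer (A : Set G), g = h * c := by
  classical
  set Q := (P : Subgroup G) ⊓ N with hQdef
  have hgen : ∀ x ∈ Subgroup.normalizer (Q : Set G), V.map (MulAut.conj x).toMonoidHom ≤ W := fun x hx v hv => by
    rw [hW]
    exact Subgroup.subset_closure (Set.mem_iUnion₂.2 ⟨x, hx, hv⟩)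
  have hWQ : W ≤ Q := by
    rw [hW, Subgroup.closure_le]
    intro v hv
    obtain ⟨x, hx, u, hu, rfl⟩ := Set.mem_iUnion₂.1 hv
    exact (Subgroup.mem_normalizer_iff.1 hx u).1 (hV hu)
  -- sufficient condition for normalising `W`
  have hnormW : ∀ h : G, (∀ x ∈ Subgroup.normalizer (Q : Set G),
      (V.map (MulAut.conj x).toMonoidHom).map (MulAut.conj h).toMonoidHom ≤ W) →
      h ∈ Subgroup.normalizer (W : Set G) := by
    intro h hh
    refine Coprime.mem_normalizer_of_conj_smul_eq ?_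
    rw [Coprime.conj_smul_eq_map]
    refine Subgroup.eq_of_le_of_card_ge ?_ (Nat.card_congr
      (W.equivMapOfInjective _ (MulAut.conj h).injective).toEquiv).le
    conv_lhs => rw [hW]
    rw [MonoidHom.map_closure, Subgroup.closure_le]
    rintro _ ⟨v, hv, rfl⟩
    obtain ⟨x, hx, hxv⟩ := Set.mem_iUnion₂.1 hv
    exact hh x hx ⟨v, hxv, rfl⟩
  have hNQW : Subgroup.normalizer (Q : Set G) ≤ Subgroup.normalizer (W : Set G) := fun m hm =>
    hnormW m fun x hx => by
      rintro _ ⟨_, ⟨v, hv, rfl⟩, rfl⟩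
      exact hgen (m * x) (mul_mem hm hx) ⟨v, hv, by simp [mul_assoc]⟩
  -- fusion in `N` factors through the normaliser of `W`
  have hL : ∀ A : Subgroup G, A ≤ Q → ∀ n ∈ N, A.map (MulAut.conj n).toMonoidHom ≤ Q →
      ∃ h ∈ N ⊓ Subgroup.normalizer (W : Set G), ∃ c ∈ N ⊓ Subgroup.centralizer (A : Set G), n = h * c := by
    intro A hA n hn hnA
    have step : ∀ s : Finset G, (∀ x ∈ s, x ∈ Subgroup.normalizer (Q : Set G)) →
        ∃ h ∈ N, ∃ c ∈ N ⊓ Subgroup.centralizer (A : Set G), n = h * c ∧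
          ∀ x ∈ s, (V.map (MulAut.conj x).toMonoidHom).map (MulAut.conj h).toMonoidHom =
            V.map (MulAut.conj x).toMonoidHom := by
      intro s
      induction s using Finset.induction_on with
      | empty => exact fun _ => ⟨n, hn, 1, one_mem _, (mul_one n).symm, fun x hx => absurd hx (Finset.notMem_empty x)⟩
      | @insert x s hxs ih =>
        intro hall
        obtain ⟨h, hhN, c, hc, hnhc, hs⟩ := ih fun y hy => hall y (Finset.mem_insert_of_mem hy)
        have hx := hall x (Finset.mem_insert_self x s)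
        set A' := A ⊔ s.sup (fun y => V.map (MulAut.conj y).toMonoidHom) with hA'
        have hsle : s.sup (fun y => V.map (MulAut.conj y).toMonoidHom) ≤ Q := Finset.sup_le fun y hy => by
          rintro _ ⟨u, hu, rfl⟩
          exact (Subgroup.mem_normalizer_iff.1 (hall y (Finset.mem_insert_of_mem hy)) u).1 (hV hu)
        have hA'Q : A' ≤ Q := sup_le hA hsle
        have hconj : A'.map (MulAut.conj h).toMonoidHom ≤ Q := by
          rw [hA', Subgroup.map_sup]
          refine sup_le ?_ ?_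
          · rintro _ ⟨a, ha, rfl⟩
            refine hnA ⟨a, ha, ?_⟩
            show n * a * n⁻¹ = h * a * h⁻¹
            rw [hnhc, show h * c * a * (h * c)⁻¹ = h * (c * a * c⁻¹) * h⁻¹ by group,
              (Subgroup.mem_centralizer_iff.1 hc.2 a ha).symm, mul_inv_cancel_right]
          · rw [Subgroup.map_le_iff_le_comap]
            refine Finset.sup_le fun y hy => ?_
            rw [← Subgroup.map_le_iff_le_comap, hs y hy]
            exact le_trans (Finset.le_sup (f := fun y => V.map (MulAut.conj y).toMonoidHom) hy) hsle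
        -- control by the conjugate `V ^ x`
        have hxc : ∀ y : G, y ∈ Q ↔ x⁻¹ * y * x ∈ Q := fun y => Subgroup.mem_normalizer_iff''.1 hx y
        obtain ⟨h₁, hh₁, c₁, hc₁, he⟩ := hctrl (A'.map (MulAut.conj x⁻¹).toMonoidHom)
          (by
            rintro _ ⟨a, ha, rfl⟩
            show x⁻¹ * a * x⁻¹⁻¹ ∈ Q
            rw [inv_inv]
            exact (hxc a).1 (hA'Q ha))
          (x⁻¹ * h * x) (by simpa using (inferInstance : N.Normal).conj_mem h hhN x⁻¹) (by
            rintro _ ⟨_, ⟨a, ha, rfl⟩, rfl⟩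
            have := (hxc _).1 (hconj ⟨a, ha, rfl⟩)
            simpa [mul_assoc] using this)
        have he' : h = (x * h₁ * x⁻¹) * (x * c₁ * x⁻¹) := by
          calc h = x * (x⁻¹ * h * x) * x⁻¹ := by group
            _ = _ := by rw [he]; group
        have hcA' : x * c₁ * x⁻¹ ∈ Subgroup.centralizer (A' : Set G) := Subgroup.mem_centralizer_iff.2 fun a ha => by
          have h2 := Subgroup.mem_centralizer_iff.1 hc₁.2 (x⁻¹ * a * x) ⟨a, ha, by simp⟩
          calc a * (x * c₁ * x⁻¹) = x * ((x⁻¹ * a * x) * c₁) * x⁻¹ := by group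
            _ = x * c₁ * x⁻¹ * a := by rw [h2]; group
        refine ⟨x * h₁ * x⁻¹, (inferInstance : N.Normal).conj_mem h₁ hh₁.1 x, (x * c₁ * x⁻¹) * c,
          ⟨N.mul_mem ((inferInstance : N.Normal).conj_mem c₁ hc₁.1 x) hc.1,
            mul_mem (Subgroup.centralizer_le (fun a ha => (le_sup_left : A ≤ A') ha) hcA') hc.2⟩,
          by rw [hnhc]; conv_lhs => rw [he']
             group, fun y hy => ?_⟩
        refine Subgroup.eq_of_le_of_card_ge ?_ (Nat.card_congr ((V.map (MulAut.conj y).toMonoidHom).equivMapOfInjective _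
          (MulAut.conj (x * h₁ * x⁻¹)).injective).toEquiv).le
        rintro _ ⟨v, hv, rfl⟩
        rcases Finset.mem_insert.1 hy with rfl | hy'
        · obtain ⟨u, hu, rfl⟩ := hv
          refine ⟨h₁ * u * h₁⁻¹, (Subgroup.mem_normalizer_iff.1 hh₁.2 u).1 hu, ?_⟩
          simp [mul_assoc]
        · refine (hs y hy').le ⟨v, hv, ?_⟩
          have hvc := Subgroup.mem_centralizer_iff.1 hcA' v
            ((le_sup_right : _ ≤ A') (Finset.le_sup (f := fun y => V.map (MulAut.conj y).toMonoidHom) hy' hv))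
          show h * v * h⁻¹ = x * h₁ * x⁻¹ * v * (x * h₁ * x⁻¹)⁻¹
          rw [he', show x * h₁ * x⁻¹ * (x * c₁ * x⁻¹) * v * (x * h₁ * x⁻¹ * (x * c₁ * x⁻¹))⁻¹ =
            (x * h₁ * x⁻¹) * ((x * c₁ * x⁻¹) * v * (x * c₁ * x⁻¹)⁻¹) * (x * h₁ * x⁻¹)⁻¹ by group,
            ← hvc, mul_inv_cancel_right]
    have := Fintype.ofFinite G
    obtain ⟨h, hh, c, hc, he, hs⟩ := step (Finset.univ.filter fun x => x ∈ Subgroup.normalizer (Q : Set G))
      fun x hx => (Finset.mem_filter.1 hx).2
    refine ⟨h, ⟨hh, hnormW h fun x hx => ?_⟩, c, hc, he⟩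
    rw [hs x (Finset.mem_filter.2 ⟨Finset.mem_univ x, hx⟩)]
    exact hgen x hx
  have hPQ : (P : Subgroup G) ≤ Subgroup.normalizer (Q : Set G) :=
    Coprime.le_normalizer_inf Subgroup.le_normalizer (by rw [Subgroup.normalizer_eq_top]; exact le_top)
  -- `W` is weakly closed
  have hwc : ∀ x : G, W.map (MulAut.conj x).toMonoidHom ≤ (P : Subgroup G) → x ∈ Subgroup.normalizer (W : Set G) := by
    intro x hx
    have hxs : x ∈ Subgroup.normalizer (Q : Set G) ⊔ N := by
      rw [hQdef, Fusion.normalizer_sylow_inf_sup_eq_top P N]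
      exact Subgroup.mem_top x
    rw [Subgroup.mem_sup_of_normal_right] at hxs
    obtain ⟨m, hm, n, hn, rfl⟩ := hxs
    obtain ⟨h, hh, c, hc, rfl⟩ := hL W hWQ n hn (by
      rintro _ ⟨w, hw, rfl⟩
      refine (Subgroup.mem_normalizer_iff.1 hm _).2 ⟨hx ⟨w, hw, ?_⟩, ?_⟩
      · show m * n * w * (m * n)⁻¹ = m * (n * w * n⁻¹) * m⁻¹
        group
      · exact (inferInstance : N.Normal).conj_mem _ ((inferInstance : N.Normal).conj_mem w (hWQ hw).2 n) m)
    exact mul_mem (hNQW hm) (mul_mem hh.2 (Subgroup.centralizer_le_normalizer _ hc.2))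
  have hchain : ∀ (A : Set G) (g : G), Fusion.GChain P A g →
      ∃ c ∈ Subgroup.centralizer A, ∃ h ∈ Subgroup.normalizer (W : Set G), g = c * h := by
    intro A g hg
    induction hg with
    | base c hc => exact ⟨c, hc, 1, one_mem _, (mul_one c).symm⟩
    | @cons A g x D hA hx hD _ ih =>
      obtain ⟨c, hc, h, hh, rfl⟩ := ih
      have hWD : W ≤ D := le_of_gCond P hWQ (hPQ.trans hNQW) hL hD
      have hxW : x ∈ Subgroup.normalizer (W : Set G) := hwc x (by
        rintro _ ⟨w, hw, rfl⟩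
        exact hD.le ((Subgroup.mem_normalizer_iff.1 hx w).1 (hWD hw)))
      have hc' : x * c * x⁻¹ ∈ Subgroup.centralizer A := by
        have := Fusion.conj_mem_centralizer_conjSet hc x⁻¹
        rwa [← Fusion.conjSet_mul, mul_inv_cancel, Fusion.conjSet_one, inv_inv] at this
      exact ⟨_, hc', x * h, mul_mem hxW hh, by group⟩
  intro A hA g hg
  obtain ⟨c, hc, h, hh, he⟩ := hchain _ g⁻¹ (Fusion.gChain_of_subset P (A := (A : Set G)) (g := g⁻¹) hA (by
    intro x hx
    rw [Fusion.mem_conjSet, inv_inv] at hx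
    refine hg ⟨g⁻¹ * x * g, hx, ?_⟩
    show g * (g⁻¹ * x * g) * g⁻¹ = x
    group))
  exact ⟨h⁻¹, inv_mem hh, c⁻¹, inv_mem hc, by rw [← mul_inv_rev, ← he, inv_inv]⟩

end Cfsg.Agent.S1954
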