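import Cfsg.Statements.S1956

set_option autoImplicit false
open Cfsg

namespace Cfsg.Agent.S1956

/-- Let P be a Sylow p-subgroup of the finite group G such that every element of P of order dividing p (dividing 4 when p = 2) is central in P. Then the fusion of these elements is controlled by N_G(P): if such an element a of P has g a g⁻¹ in P, then g = n c with n normalizing P and c commuting with a. -/
theorem result {G : Type*} [Group G] [Finite G] {p : ℕ} [Fact p.Prime] (P : Sylow p G)
    (hcen : ∀ a ∈ (P : Subgroup G), (a ^ p = 1 ∨ (p = 2 ∧ a ^ 4 = 1)) → ∀ y ∈ (P : Subgroup G), a * y = y * a) :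
    ∀ a ∈ (P : Subgroup G), (a ^ p = 1 ∨ (p = 2 ∧ a ^ 4 = 1)) → ∀ g : G, g * a * g⁻¹ ∈ (P : Subgroup G) →
      ∃ n ∈ Subgroup.normalizer ((P : Subgroup G) : Set G), ∃ c : G, c * a = a * c ∧ g = n * c := by
  intro a ha hord g hg
  have hord' : (g * a * g⁻¹) ^ p = 1 ∨ (p = 2 ∧ (g * a * g⁻¹) ^ 4 = 1) := by
    rcases hord with h | ⟨h2, h⟩
    · left; rw [conj_pow, h]; simp
    · right; exact ⟨h2, by rw [conj_pow, h]; simp⟩
  set C := Subgroup.centralizer ({a} : Set G)
  have h1 : (P : Subgroup G) ≤ C := fun y hy => Subgroup.mem_centralizer_singleton_iff.2 (hcen a ha hord y hy).symm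
  have h2 : ((g⁻¹ • P : Sylow p G) : Subgroup G) ≤ C := by
    intro y hy
    rw [Sylow.smul_def, Sylow.pointwise_smul_def, Subgroup.mem_pointwise_smul_iff_inv_smul_mem] at hy
    have h := hcen _ hg hord' _ hy
    rw [← map_inv, inv_inv, MulAut.smul_def, MulAut.conj_apply] at h
    rw [Subgroup.mem_centralizer_singleton_iff]
    have := congrArg (fun w => g⁻¹ * w * g) h
    simp only [mul_assoc, inv_mul_cancel_left, inv_mul_cancel, mul_one] at this
    exact this.symm
  obtain ⟨c, hc⟩ := MulAction.exists_smul_eq C (P.subtype h1) ((g⁻¹ • P).subtype h2)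
  have hc' : (c : G) • P = g⁻¹ • P := by
    rw [Sylow.smul_subtype] at hc
    exact Sylow.subtype_injective hc
  refine ⟨g * c, ?_, (c : G)⁻¹, ?_, by simp⟩
  · refine Sylow.smul_eq_iff_mem_normalizer.1 ?_
    rw [mul_smul, hc', smul_inv_smul]
  · exact Subgroup.mem_centralizer_singleton_iff.1 (C.inv_mem c.2)

end Cfsg.Agent.S1956
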