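import Cfsg.Statements.S1966
import Cfsg.Agent.Core.PCore

set_option autoImplicit false
open Cfsg

namespace Cfsg.Agent.S1966

/-- Let p be a prime, G a finite group with Sylow p-subgroup S and 𝓕 a conjugation family for S in G. Then the members of 𝓕 containing O_p(G) still form a conjugation family for S in G. -/
theorem result {G : Type*} [Group G] [Finite G] {p : ℕ} [Fact p.Prime] (S : Sylow p G) (𝓕 : Set (Subgroup G)) (h : Cfsg.IsConjugationFamily 𝓕 (S : Subgroup G)) : Cfsg.IsConjugationFamily {T : Subgroup G | T ∈ 𝓕 ∧ Cfsg.pCore p G ≤ T} (S : Subgroup G) := by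
  obtain ⟨hF, hfam⟩ := h
  refine ⟨fun T hT => hF T hT.1, fun A g hA hAS hg => ?_⟩
  have hcore : (Cfsg.pCore p G : Set G) ⊆ (S : Subgroup G) := by
    intro x hx
    have hn : (Cfsg.pCore p G).Normal := Cfsg.Agent.Core.pCore_normal (p := p) (G := G)
    exact Cfsg.Agent.Core.pCore_le_sylow S hx
  have hinv : ∀ (u : G), ∀ x ∈ Cfsg.pCore p G, u⁻¹ * x * u ∈ Cfsg.pCore p G := fun u x hx => by
    simpa using (Cfsg.Agent.Core.pCore_normal (p := p) (G := G)).conj_mem x hx u⁻¹
  obtain ⟨n, T, x, hprod, hT, hx, h0, hstep⟩ := hfam (A ∪ Cfsg.pCore p G) g (hA.mono Set.subset_union_left)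
    (Set.union_subset hAS hcore)
    (by rintro _ ⟨a, ha | ha, rfl⟩; exacts [hg ⟨a, ha, rfl⟩, hcore (hinv g a ha)])
  refine ⟨n, T, x, hprod, fun i => ⟨hT i, ?_⟩, hx, fun h => (Set.subset_union_left.trans (h0 h)),
    fun i h => (Set.image_mono Set.subset_union_left).trans (hstep i h)⟩
  intro y hy
  obtain ⟨i, hi⟩ := i
  cases i with
  | zero => exact h0 hi (Or.inr hy)
  | succ j =>
    refine hstep ⟨j, by omega⟩ hi ⟨((List.ofFn x).take (j + 1)).prod * y * (((List.ofFn x).take (j + 1)).prod)⁻¹, Or.inr ?_, ?_⟩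
    · simpa using hinv ((((List.ofFn x).take (j + 1)).prod)⁻¹) y hy
    · simp [mul_assoc]

end Cfsg.Agent.S1966
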