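import Cfsg.Statements.S1967
import Cfsg.Agent.Control.Family

set_option autoImplicit false
open Cfsg

namespace Cfsg.Agent.S1967

/-- Let p be a prime, G a finite group with Sylow p-subgroup S and W a conjugacy functor for p on G. Then W controls strong fusion in G if and only if, whenever T ≤ S and g ∈ G satisfy gTg⁻¹ ≤ S, one can write g = n c with n ∈ N_G(W(S)) and c ∈ C_G(T). -/
theorem result {G : Type*} [Group G] [Finite G] {p : ℕ} [Fact p.Prime] (S : Sylow p G) (W : Subgroup G → Subgroup G) (hW : Cfsg.IsConjugacyFunctor p W) : Cfsg.ControlsStrongFusionIn p W ⊤ ↔ ∀ (T : Subgroup G) (g : G), T ≤ (S : Subgroup G) → T.map (MulAut.conj g).toMonoidHom ≤ (S : Subgroup G) → ∃ n ∈ Subgroup.normalizer ((W (S : Subgroup G) : Subgroup G) : Set G), ∃ c ∈ Subgroup.centralizer (T : Set G), g = n * c := by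
  have hS := Control.sylIn_top S
  have hW' : ∀ V ∈ ({W} : Set (Subgroup G → Subgroup G)), Cfsg.IsConjugacyFunctor p V :=
    fun V hV => hV ▸ hW
  rw [Control.fus_iff_family, Control.famFus_iff_forall hW' hS, Control.normSet_singleton]
  constructor
  · intro h T g hT hgT
    obtain ⟨c, hc, hce⟩ := h (T : Set G) g (Subgroup.mem_top g) hT (by
      rintro _ ⟨a, ha, rfl⟩
      exact hgT ⟨a, ha, rfl⟩)
    have hcN : c ∈ Subgroup.normalizer ((W (S : Subgroup G) : Subgroup G) : Set G) :=
      hc.mem (fun N hN => by rw [Set.mem_singleton_iff.mp hN]; exact inf_le_right)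
    refine ⟨c, hcN, c⁻¹ * g, Subgroup.mem_centralizer_iff.mpr fun a ha => ?_, by group⟩
    have := hce a ha
    calc a * (c⁻¹ * g) = c⁻¹ * (c * a * c⁻¹) * g := by group
      _ = c⁻¹ * g * a := by rw [this]; group
  · intro h A g _ hA hgA
    obtain ⟨n, hn, c, hc, hgnc⟩ := h (Subgroup.closure A) g ((Subgroup.closure_le _).mpr hA)
      (Control.closure_subset_of_cj hgA)
    have heq : ∀ a ∈ A, n * a * n⁻¹ = g * a * g⁻¹ := fun a ha => by
      have h1 := Subgroup.mem_centralizer_iff.mp hc a (Subgroup.subset_closure ha)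
      subst hgnc
      calc n * a * n⁻¹ = n * (a * c) * c⁻¹ * n⁻¹ := by group
        _ = n * c * a * (n * c)⁻¹ := by rw [h1]; group
    refine (Control.Ctrl.of_mem (𝒩 := {⊤ ⊓ Subgroup.normalizer ((W (S : Subgroup G) : Subgroup G) : Set G)})
      (T := (S : Subgroup G)) (N := ⊤ ⊓ Subgroup.normalizer ((W (S : Subgroup G) : Subgroup G) : Set G)) rfl
      ⟨Subgroup.mem_top n, hn⟩ ?_).of_eqOn heq
    rw [Control.Ctrl.cj_eq heq]
    exact hgA

end Cfsg.Agent.S1967
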