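import Cfsg.Statements.S1969
import Cfsg.Agent.Control.Sections

set_option autoImplicit false
universe u
open Cfsg

namespace Cfsg.Agent.S1969

/-- Let p be a prime, G a finite group and W an isomorphism-invariant p-group functor (W assigns to every group Q a subgroup W(Q), nontrivial whenever Q is a nontrivial finite p-group, and every isomorphism from a finite p-group Q onto a group R carries W(Q) onto W(R)). Suppose that W(S*) is normal in G* whenever G* = K/R is a section of G with C_{G*}(O_p(G*)) ≤ O_p(G*) and S* is a Sylow p-subgroup of G*. Then W controls strong fusion in every section of G: for every section K/R and every Sylow p-subgroup T of K/R, the subgroup W(T) controls strong fusion in K/R. -/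
theorem result {G : Type u} [Group G] [Finite G] {p : ℕ} [Fact p.Prime] (W : ∀ (Q : Type u) [Group Q], Subgroup Q) (hW : Cfsg.IsCharPFunctor.{u} p W) (hloc : ∀ (K R : Subgroup G) [hR : (R.subgroupOf K).Normal], Subgroup.centralizer ((Cfsg.pCore p (↥K ⧸ R.subgroupOf K) : Subgroup (↥K ⧸ R.subgroupOf K)) : Set (↥K ⧸ R.subgroupOf K)) ≤ Cfsg.pCore p (↥K ⧸ R.subgroupOf K) → ∀ T : Sylow p (↥K ⧸ R.subgroupOf K), (Cfsg.inducedFunctor (G := (↥K ⧸ R.subgroupOf K)) W ((T : Subgroup (↥K ⧸ R.subgroupOf K)))).Normal) : ∀ (K R : Subgroup G) [hR : (R.subgroupOf K).Normal], ∀ T : Sylow p (↥K ⧸ R.subgroupOf K), Cfsg.ControlsStrongFusion p (Cfsg.inducedFunctor (G := (↥K ⧸ R.subgroupOf K)) W ((T : Subgroup (↥K ⧸ R.subgroupOf K)))) := by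
  intro K R _ T
  have hF : ∀ V ∈ ({W} : Set (∀ (Q : Type u) [Group Q], Subgroup Q)), Cfsg.IsCharPFunctor.{u} p V :=
    fun V hV => hV ▸ hW
  have key : Control.GFus {W} p (↥K ⧸ R.subgroupOf K) := by
    refine Control.gFus_of_quotients (X := G) hF (fun K' R' _ hc => ?_) (Control.isSec_quotient K R)
    obtain ⟨T'⟩ := (inferInstance : Nonempty (Sylow p (↥K' ⧸ R'.subgroupOf K')))
    refine Control.famFus_iff.mpr ⟨_, Control.sylIn_top T', fun A g _ _ hgA =>
      Control.Ctrl.of_mem ⟨_, ⟨W, rfl, rfl⟩, rfl⟩ ⟨Subgroup.mem_top g, ?_⟩ hgA⟩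
    rw [Subgroup.normalizer_eq_top_iff.mpr (hloc K' R' hc T')]
    exact Subgroup.mem_top g
  have hc := Control.isConjugacyFunctor_induced (X := ↥K ⧸ R.subgroupOf K) hW
  refine ⟨T, (hc _ T.2).1, fun A hA => ⟨hA, fun g hg => ?_⟩⟩
  obtain ⟨c, hcR, hce⟩ := (Control.famFus_iff_forall (Control.isConjugacyFunctor_iF hF)
    (Control.sylIn_top T)).mp key A g (Subgroup.mem_top g) hA hg
  refine ⟨c, hcR.mem (fun N hN => ?_), fun a ha => (hce a ha).symm⟩
  obtain ⟨_, ⟨V, hV, rfl⟩, rfl⟩ := hN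
  rw [Set.mem_singleton_iff.mp hV]
  exact inf_le_right

end Cfsg.Agent.S1969
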