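import Cfsg.Statements.S1972
import Cfsg.Agent.Control.TransferStep

set_option autoImplicit false
universe u
open Cfsg

namespace Cfsg.Agent.S1972

/-- Let p be a prime, G a finite group and W an isomorphism-invariant p-group functor (W assigns to every group Q a subgroup W(Q), nontrivial whenever Q is a nontrivial finite p-group, and every isomorphism from a finite p-group Q onto a group R carries W(Q) onto W(R)). Suppose that whenever G* = K/R is a section of G with C_{G*}(O_p(G*)) ≤ O_p(G*) and S* is a Sylow p-subgroup of G* with W(S*) not normal in G*, there is an element g of S* outside O_p(G*) such that [X, g, …, g] ≤ Y with p − 1 entries g, for every chief factor X/Y of G* with X ≤ O_p(G*). Then W controls transfer in every section of G. -/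
theorem result {G : Type u} [Group G] [Finite G] {p : ℕ} [Fact p.Prime] (W : ∀ (Q : Type u) [Group Q], Subgroup Q) (hW : Cfsg.IsCharPFunctor.{u} p W) (hloc : ∀ (K R : Subgroup G) [hR : (R.subgroupOf K).Normal], Subgroup.centralizer ((Cfsg.pCore p (↥K ⧸ R.subgroupOf K) : Subgroup (↥K ⧸ R.subgroupOf K)) : Set (↥K ⧸ R.subgroupOf K)) ≤ Cfsg.pCore p (↥K ⧸ R.subgroupOf K) → ∀ T : Sylow p (↥K ⧸ R.subgroupOf K), ¬ (Cfsg.inducedFunctor (G := (↥K ⧸ R.subgroupOf K)) W ((T : Subgroup (↥K ⧸ R.subgroupOf K)))).Normal → ∃ g : (↥K ⧸ R.subgroupOf K), g ∈ (T : Subgroup (↥K ⧸ R.subgroupOf K)) ∧ g ∉ Cfsg.pCore p (↥K ⧸ R.subgroupOf K) ∧ ∀ U V : Subgroup (↥K ⧸ R.subgroupOf K), Cfsg.IsChiefFactor U V → U ≤ Cfsg.pCore p (↥K ⧸ R.subgroupOf K) → Cfsg.iterCommutator U (Subgroup.zpowers g) (p - 1) ≤ V) : ∀ (K R : Subgroup G) [hR : (R.subgroupOf K).Normal], Cfsg.ControlsTransferIn p (Cfsg.inducedFunctor (G := (↥K ⧸ R.subgroupOf K)) W) ⊤ := by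
  intro K R _
  have hF : ∀ V ∈ ({W} : Set (∀ (Q : Type u) [Group Q], Subgroup Q)), Cfsg.IsCharPFunctor.{u} p V :=
    fun V hV => hV ▸ hW
  have key : Control.GTr {W} p (↥K ⧸ R.subgroupOf K) := by
    refine Control.gTr_of_quotients (X := G) hF (fun K' R' _ hc IH => ?_) (Control.isSec_quotient K R)
    obtain ⟨T⟩ := (inferInstance : Nonempty (Sylow p (↥K' ⧸ R'.subgroupOf K')))
    refine Control.famTr_iff.mpr ⟨_, Control.sylIn_top T, ?_⟩
    by_cases hn : (Cfsg.inducedFunctor (G := (↥K' ⧸ R'.subgroupOf K')) W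
        (T : Subgroup (↥K' ⧸ R'.subgroupOf K'))).Normal
    · exact Control.trCtrl_of_normal hF rfl T hn
    obtain ⟨hlt, hproper⟩ := Control.proper_normalizer_of_not_normal hF rfl T hn
    obtain ⟨g, hgT, hgQ, hg⟩ := hloc K' R' hc T hn
    have hQ : Cfsg.pCore p (↥K' ⧸ R'.subgroupOf K') ≠ ⊥ := fun h0 => by
      rw [h0] at hc hgQ
      refine hgQ (hc ?_)
      exact Subgroup.mem_centralizer_iff.mpr fun y hy => by
        rw [Subgroup.mem_bot.mp hy, one_mul, mul_one]
    have hsub := fun (H : Subgroup (↥K' ⧸ R'.subgroupOf K')) (hH : H ≠ ⊤) hTH => Control.trCtrl_subgroup hF T hTH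
      (IH H (Control.isSec_subgroup H) (Core.card_lt_of_ne_top hH))
    exact Control.trCtrl_of_inf_commutator hF hlt hsub
      (IH _ (Control.isSec_of_surjective (QuotientGroup.mk'_surjective _)) (Core.card_quotient_lt hQ))
      (Control.inf_commutator_le_of_good hlt hsub hproper hgT hgQ hg)
  exact Control.tr_iff_family.mpr (by simpa only [Control.GTr, Control.iF, Set.image_singleton] using key)

end Cfsg.Agent.S1972
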