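import Cfsg.Statements.S1988
import Cfsg.Agent.KInf.Complement
import Cfsg.Agent.KInf.Control

set_option autoImplicit false
universe u
open Cfsg

namespace Cfsg.Agent.S1988

/-- Let p be an odd prime, G a finite group with Sylow p-subgroup S and K the lower K-infinity subgroup of S. If N_G(K) has a normal p-complement, or if N_G(K)/C_G(K) is a p-group (every element of N_G(K) of order prime to p centralizes K), then G has a normal p-complement. -/
theorem result {G : Type u} [Group G] [Finite G] {p : ℕ} [Fact p.Prime] (hp : p ≠ 2) (S : Sylow p G) (h : Cfsg.HasNormalPComplement p ↥(Subgroup.normalizer ((Cfsg.inducedFunctor Cfsg.kInfLower (S : Subgroup G) : Subgroup G) : Set G)) ∨ ∀ g ∈ Subgroup.normalizer ((Cfsg.inducedFunctor Cfsg.kInfLower (S : Subgroup G) : Subgroup G) : Set G), (orderOf g).Coprime p → g ∈ Subgroup.centralizer ((Cfsg.inducedFunctor Cfsg.kInfLower (S : Subgroup G) : Subgroup G) : Set G)) : Cfsg.HasNormalPComplement p G := by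
  set W := Cfsg.inducedFunctor (G := G) Cfsg.kInfLower (S : Subgroup G)
  have hWc := Control.isConjugacyFunctor_induced (X := G) (KInf.isCharPFunctor_kInfLower p)
    (S : Subgroup G) S.2
  refine KInf.hasNormalPComplement_of_loc (KInf.isCharPFunctor_kInfLower p)
    (fun Y _ _ _ hC T hT => ?_) S (h.elim id fun hcent => ?_)
  · obtain ⟨g, hgT, hgQ, -, -, hor⟩ := KInf.exists_small_degree T (Or.inl hT)
    obtain ⟨U, V, hUV, hU, hq, hn⟩ := hor hC
    have := hUV.2.1
    have h2 : 2 ≤ p - 1 := by have := (Fact.out : p.Prime).two_le; omega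
    exact ⟨g, hgT, hgQ, U, V, hUV, hU, (KInf.iter_anti U _ h2).trans hq,
      fun h' => hn (KInf.trivOn_of_commutator_le h')⟩
  -- the second hypothesis gives a normal complement in the normaliser
  set N := Subgroup.normalizer (W : Set G) with hNdef
  have hSN : (S : Subgroup G) ≤ N :=
    Control.self_le_normalizer_functor
      (Control.isConjugacyFunctor_induced (KInf.isCharPFunctor_kInfLower p)) S.2
  set C := (Subgroup.centralizer (W : Set G)).subgroupOf N
  have hCn : C.Normal := inferInstance
  have hT : Control.SylIn p (((S : Subgroup G).subgroupOf N) ⊓ C) C :=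
    (Control.sylIn_top (S.subtype hSN)).inf_normal le_top
      (by rw [Subgroup.normalizer_eq_top_iff.mpr hCn])
  have hTW : ∀ x : N, x ∈ (S : Subgroup G).subgroupOf N ⊓ C → (x : G) ∈ W := by
    intro x hx
    refine ⟨⟨x, hx.1⟩, (KInf.centralizer_kInf_le S.2).1 (Subgroup.mem_centralizer_iff.mpr
      fun y hy => Subtype.ext ?_), rfl⟩
    exact Subgroup.mem_centralizer_iff.mp hx.2 (y : G) ⟨y, hy, rfl⟩
  obtain ⟨P, hP⟩ : ∃ P : Sylow p C, (P : Subgroup C) =
      ((S : Subgroup G).subgroupOf N ⊓ C).subgroupOf C :=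
    ⟨(hT.isPGroup.comap_subtype (K := C)).toSylow hT.not_dvd, rfl⟩
  have hcC : Cfsg.HasNormalPComplement p C :=
    Fusion.hasNormalPComplement_of_normalizer_le_centralizer P fun c _ =>
      Subgroup.mem_centralizer_iff.mpr fun x hx => by
        replace hx : x ∈ (P : Subgroup C) := hx
        rw [hP] at hx
        exact Subtype.ext (Subtype.ext (Subgroup.mem_centralizer_iff.mp c.2 _ (hTW _ hx)))
  set R := (Cfsg.pResidual p C).map C.subtype
  have : (Cfsg.pResidual p C).Characteristic := Fusion.pResidual_characteristic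
  have hRn : R.Normal := ConjAct.normal_of_characteristic_of_normal
  have hRc : (Nat.card R).Coprime p := by
    rw [Subgroup.card_map_of_injective C.subtype_injective]
    exact Fusion.coprime_card_pResidual_of_hasNormalPComplement hcC
  refine Fusion.hasNormalPComplement_of_quotient R hRc
    (Fusion.hasNormalPComplement_of_isPGroup fun z => ?_)
  obtain ⟨x, rfl⟩ := QuotientGroup.mk_surjective z
  obtain ⟨a, ha⟩ := KInf.exists_pow_coprime (p := p) x
  have hxC : x ^ p ^ a ∈ C := hcent _ (x ^ p ^ a).2 (by rw [Subgroup.subtype_apply, Subgroup.orderOf_coe]; exact ha)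
  obtain ⟨b, hb⟩ := Fusion.isPGroup_quotient_pResidual (p := p) (G := C)
    (QuotientGroup.mk ⟨x ^ p ^ a, hxC⟩)
  rw [← QuotientGroup.mk_pow, QuotientGroup.eq_one_iff] at hb
  refine ⟨a + b, ?_⟩
  rw [← QuotientGroup.mk_pow, QuotientGroup.eq_one_iff, pow_add, pow_mul]
  exact ⟨_, hb, rfl⟩

end Cfsg.Agent.S1988
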