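import Cfsg.Statements.S1990
import Cfsg.Agent.KInf.Complement
import Cfsg.Agent.Fusion.Tate

set_option autoImplicit false
universe u
open Cfsg

namespace Cfsg.Agent.S1990

/-- Let p be an odd prime, G a finite group with Sylow p-subgroup S, and W an isomorphism-invariant p-group functor (W assigns to every group Q a subgroup W(Q), nontrivial whenever Q is a nontrivial finite p-group, and every isomorphism from a finite p-group Q onto a group R carries W(Q) onto W(R)). Suppose N_G(W(S)) has a normal p-complement, and W(T) controls strong fusion in every section G* = K/R of G all of whose sections are p-stable in the normalizer form, for every Sylow p-subgroup T of G*. Then G has a normal p-complement. -/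
theorem result {G : Type u} [Group G] [Finite G] {p : ℕ} [Fact p.Prime] (hp : p ≠ 2) (W : ∀ (Q : Type u) [Group Q], Subgroup Q) (hW : Cfsg.IsCharPFunctor.{u} p W) (S : Sylow p G) (hN : Cfsg.HasNormalPComplement p ↥(Subgroup.normalizer ((Cfsg.inducedFunctor (G := G) W (S : Subgroup G) : Subgroup G) : Set G))) (hctl : ∀ (K R : Subgroup G) [hR : (R.subgroupOf K).Normal], (∀ (K' R' : Subgroup (↥K ⧸ R.subgroupOf K)) [hR' : (R'.subgroupOf K').Normal], Cfsg.IsNormalizerPStable p (↥K' ⧸ R'.subgroupOf K')) → ∀ T : Sylow p (↥K ⧸ R.subgroupOf K), Cfsg.ControlsStrongFusion p (Cfsg.inducedFunctor (G := (↥K ⧸ R.subgroupOf K)) W (T : Subgroup (↥K ⧸ R.subgroupOf K)))) : Cfsg.HasNormalPComplement p G := by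
  have hF : ∀ V ∈ ({W} : Set (∀ (Q : Type u) [Group Q], Subgroup Q)), Cfsg.IsCharPFunctor.{u} p V :=
    fun V hV => hV ▸ hW
  refine KInf.hasNormalPComplement_of_minimal hW (fun Y _ _ hY hC _ hab T hT hNc _ => ?_) S hN
  -- `W` controls fusion in `Y`
  have hfus : Control.GFus {W} p Y := by
    refine Control.of_sections (P := fun Z _ => Finite Z →
      (∀ (Z' : Type u) [Group Z'] [Finite Z'], Control.IsSec Z' Z →
        Cfsg.IsNormalizerPStable p Z') → Control.GFus {W} p Z)
      (fun Z Z' _ _ e h _ hst => ?_) (fun K R _ _ hst => ?_) hY inferInstance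
      (fun Z' _ _ hZ' => KInf.isNormalizerPStable_of_abTop (hab.isSec hZ') hp)
    · have : Finite Z := Finite.of_equiv Z' e.symm.toEquiv
      exact Control.gFus_congr hF e (h inferInstance fun V _ _ hV =>
        hst V (hV.trans (Control.isSec_of_surjective (f := e.symm.toMonoidHom) e.symm.surjective)))
    · exact KInf.gFus_of_controlsStrongFusion hW (fun T' => hctl K R
        (fun K' R' _ => hst _ (Control.isSec_quotient K' R')) T')
  have hfc := (Control.famFus_iff_forall (Control.isConjugacyFunctor_iF hF)
    (Control.sylIn_top T)).mp hfus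
  set N := Subgroup.normalizer
    ((Cfsg.inducedFunctor (G := Y) W (T : Subgroup Y) : Subgroup Y) : Set Y) with hNdef
  have hTN : (T : Subgroup Y) ≤ N :=
    Control.self_le_normalizer_functor (Control.isConjugacyFunctor_induced hW) T.2
  have hctlN : ∀ x ∈ T, ∀ g : Y, g * x * g⁻¹ ∈ T → ∃ t ∈ N, t * x * t⁻¹ = g * x * g⁻¹ := by
    intro x hx g hg
    obtain ⟨c, hc, hce⟩ := hfc {x} g (Subgroup.mem_top g) (Set.singleton_subset_iff.mpr hx)
      (by rintro _ ⟨a, rfl, rfl⟩; exact hg)
    refine ⟨c, hc.mem ?_, hce x rfl⟩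
    rintro _ ⟨_, ⟨V, hV, rfl⟩, rfl⟩
    rw [Set.mem_singleton_iff.mp hV]
    exact inf_le_right
  have hTate := Fusion.inf_pResidual_eq_of_commutator_inf_eq T N hTN
    (((Fusion.commutator_inf_eq_of_controls T N hTN hctlN).le).trans inf_le_left)
  have hcop : (Nat.card ((Cfsg.pResidual p N).map N.subtype)).Coprime p := by
    rw [Subgroup.card_map_of_injective N.subtype_injective]
    exact Fusion.coprime_card_pResidual_of_hasNormalPComplement hNc
  rw [Layer.inf_eq_bot_of_isPGroup T.2 hcop] at hTate
  have hY' : Cfsg.HasNormalPComplement p Y :=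
    Fusion.hasNormalPComplement_of_inf_pResidual_le_frattini T (hTate.le.trans bot_le)
  exact hT.1 (T.3 ((KInf.isPGroup_of_selfCentral_of_complement hC hY').to_subgroup ⊤) le_top).symm

end Cfsg.Agent.S1990
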