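import Cfsg.Statements.S1992
import Cfsg.Agent.KInf.Control
import Cfsg.Agent.Control.NormalIndexP
import Cfsg.Agent.Char.Integral

set_option autoImplicit false
open Cfsg

namespace Cfsg.Agent.S1992

/-- Let G be a finite group in which, for every prime q dividing the order of G, every Sylow q-subgroup is its own normalizer. Then the order of G is a power of a single prime (G is a q-group for some prime q; for G trivial any prime works). -/
theorem result {G : Type*} [Group G] [Finite G] (h : ∀ q : ℕ, q.Prime → q ∣ Nat.card G → ∀ Q : Sylow q G, Subgroup.normalizer ((Q : Subgroup G) : Set G) = Q) : ∃ q : ℕ, q.Prime ∧ IsPGroup q G := by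
  have hFr : ∀ (q : ℕ), q.Prime → ∀ N : Subgroup G, N.Normal → N.index = q → IsPGroup q G := by
    intro q hq N hN hidx
    have hall : ∀ r : ℕ, r.Prime → r ∣ Nat.card G → r = q := by
      intro r hr hrd
      by_contra hne
      have : Fact r.Prime := ⟨hr⟩
      obtain ⟨R⟩ := (inferInstance : Nonempty (Sylow r G))
      have hRN : (R : Subgroup G) ≤ N := by
        intro x hx
        obtain ⟨a, ha⟩ := R.2 ⟨x, hx⟩
        have h1 : (QuotientGroup.mk' N x) ^ r ^ a = 1 := by
          rw [← map_pow, show x ^ r ^ a = 1 from congrArg Subtype.val ha, map_one]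
        have h2 : (QuotientGroup.mk' N x) ^ q = 1 := by
          rw [← hidx, Subgroup.index_eq_card]; exact pow_card_eq_one'
        have h3 := pow_gcd_eq_one.mpr ⟨h1, h2⟩
        rw [Nat.Coprime.gcd_eq_one (Nat.Coprime.pow_left a ((Nat.coprime_primes hr hq).mpr hne)),
          pow_one] at h3
        exact (QuotientGroup.eq_one_iff x).mp h3
      have hFra := Control.sylIn_top R
      have htop : N = ⊤ := eq_top_iff.mpr fun g _ => by
        obtain ⟨y, hy, c, hc, rfl⟩ := Control.exists_eq_normalizer_mul
          (hFra.mono hRN le_top) g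
        exact mul_mem (hRN (h r hr hrd R ▸ hy)) hc
      rw [htop, Subgroup.index_top] at hidx
      exact hq.ne_one hidx.symm
    have hcard := Nat.eq_prime_pow_of_unique_prime_dvd (p := q) (n := Nat.card G) Nat.card_pos.ne'
      fun {d} hd hdn => hall d hd hdn
    exact IsPGroup.of_card hcard
  by_cases hbig : ∃ q, q.Prime ∧ q ∣ Nat.card G ∧ 5 ≤ q
  · obtain ⟨q, hq, hqd, hq5⟩ := hbig
    have : Fact q.Prime := ⟨hq⟩
    obtain ⟨S⟩ := (inferInstance : Nonempty (Sylow q G))
    obtain ⟨N, hN, hidx⟩ := Control.exists_index_eq_prime (KInf.isCharPFunctor_kInfLower q)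
      (fun _ _ _ hY => KInf.gTr_kInf KInf.IsKFunctor.lower hq5 hY) S
      (S.ne_bot_of_dvd_card hqd) (fun g hg hcop => by
        rw [h q hq hqd S] at hg
        obtain ⟨a, ha⟩ := S.2 ⟨g, hg⟩
        have h1 : g ^ q ^ a = 1 := congrArg Subtype.val ha
        have h2 : orderOf g = 1 := Nat.eq_one_of_dvd_coprimes (Nat.Coprime.pow_right a hcop)
          (dvd_refl _) (orderOf_dvd_of_pow_eq_one h1)
        rw [orderOf_eq_one_iff] at h2
        exact h2 ▸ one_mem _)
    exact ⟨q, hq, hFr q hq N hN hidx⟩
  push Not at hbig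
  by_cases hG : Subsingleton G
  · exact ⟨2, Nat.prime_two, fun g => ⟨0, by rw [Subsingleton.elim g 1, one_pow]⟩⟩
  rw [not_subsingleton_iff_nontrivial] at hG
  have hsupp : (Nat.card G).primeFactors ⊆ {2, 3} := fun r hr => by
    obtain ⟨hr', hrd, -⟩ := Nat.mem_primeFactors.mp hr
    have := hbig r hr' hrd
    have := hr'.two_le
    interval_cases r <;> revert hr' <;> norm_num
  have hsol : Group.IsSolvable G := by
    refine Char.isSolvable_of_card_eq 2 3 Nat.prime_two Nat.prime_three _ G rfl
      ⟨(Nat.card G).factorization 2, (Nat.card G).factorization 3, ?_⟩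
    conv_lhs => rw [← Nat.prod_factorization_pow_eq_self (Nat.card_pos (α := G)).ne']
    rw [Finsupp.prod, Nat.support_factorization]
    rw [Finset.prod_subset hsupp (fun r _ hr => by
      rw [← Nat.support_factorization, Finsupp.notMem_support_iff] at hr
      rw [hr, pow_zero])]
    simp
  have hne : (commutator G).index ≠ 1 := fun h1 =>
    (Group.IsSolvable.commutator_lt_top_of_nontrivial G).ne (Subgroup.index_eq_one.mp h1)
  have hr := Nat.minFac_prime hne
  have : Fact (Nat.minFac (commutator G).index).Prime := ⟨hr⟩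
  obtain ⟨S⟩ := (inferInstance : Nonempty (Sylow (Nat.minFac (commutator G).index) G))
  obtain ⟨N, hN, hidx⟩ := Control.exists_index_eq_prime_of_not_le S fun hle =>
    S.not_dvd_index ((Nat.minFac_dvd _).trans (Subgroup.index_dvd_of_le hle))
  exact ⟨_, hr, hFr _ hr N hN hidx⟩

end Cfsg.Agent.S1992
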