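import Cfsg.Statements.S1996
import Cfsg.Agent.Control.Sections

set_option autoImplicit false
universe u
open Cfsg

namespace Cfsg.Agent.S1996

/-- Let p be a prime, G a finite group and W₁, W₂ two isomorphism-invariant p-group functors (W assigns to every group Q a subgroup W(Q), nontrivial whenever Q is a nontrivial finite p-group, and every isomorphism from a finite p-group Q onto a group R carries W(Q) onto W(R)). Suppose that G* = N_{G*}(W₁(S*)) N_{G*}(W₂(S*)) whenever G* = K/R is a section of G with C_{G*}(O_p(G*)) ≤ O_p(G*) and S* is a Sylow p-subgroup of G*. Then the pair {W₁, W₂} controls strong fusion in G. -/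
theorem result {G : Type u} [Group G] [Finite G] {p : ℕ} [Fact p.Prime] (W₁ W₂ : ∀ (Q : Type u) [Group Q], Subgroup Q) (hW₁ : Cfsg.IsCharPFunctor.{u} p W₁) (hW₂ : Cfsg.IsCharPFunctor.{u} p W₂) (hfac : ∀ (K R : Subgroup G) [hR : (R.subgroupOf K).Normal], Subgroup.centralizer ((Cfsg.pCore p (↥K ⧸ R.subgroupOf K) : Subgroup (↥K ⧸ R.subgroupOf K)) : Set (↥K ⧸ R.subgroupOf K)) ≤ Cfsg.pCore p (↥K ⧸ R.subgroupOf K) → ∀ T : Sylow p (↥K ⧸ R.subgroupOf K), ∀ x : (↥K ⧸ R.subgroupOf K), ∃ a ∈ Subgroup.normalizer ((Cfsg.inducedFunctor (G := (↥K ⧸ R.subgroupOf K)) W₁ (T : Subgroup (↥K ⧸ R.subgroupOf K)) : Subgroup (↥K ⧸ R.subgroupOf K)) : Set (↥K ⧸ R.subgroupOf K)), ∃ b ∈ Subgroup.normalizer ((Cfsg.inducedFunctor (G := (↥K ⧸ R.subgroupOf K)) W₂ (T : Subgroup (↥K ⧸ R.subgroupOf K)) : Subgroup (↥K ⧸ R.subgroupOf K)) : Set (↥K ⧸ R.subgroupOf K)), x = a * b) : Cfsg.FamilyControlsStrongFusionIn p {Cfsg.inducedFunctor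 (G := G) W₁, Cfsg.inducedFunctor (G := G) W₂} ⊤ := by
  have hF : ∀ W ∈ ({W₁, W₂} : Set (∀ (Q : Type u) [Group Q], Subgroup Q)),
      Cfsg.IsCharPFunctor.{u} p W := by
    rintro W (rfl | rfl)
    · exact hW₁
    · exact hW₂
  have key := Control.gFus_of_quotients (X := G) hF (fun K R _ hc => ?_) Control.IsSec.refl
  · simpa only [Control.GFus, Control.iF, Set.image_pair] using key
  obtain ⟨T⟩ := (inferInstance : Nonempty (Sylow p (↥K ⧸ R.subgroupOf K)))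
  refine Control.famFus_iff.mpr ⟨_, Control.sylIn_top T, fun A g _ hA hgA => ?_⟩
  obtain ⟨a, ha, b, hb, rfl⟩ := hfac K R hc T g
  set N₁ := Subgroup.normalizer ((Cfsg.inducedFunctor W₁ (T : Subgroup (↥K ⧸ R.subgroupOf K)) :
    Subgroup (↥K ⧸ R.subgroupOf K)) : Set (↥K ⧸ R.subgroupOf K))
  set N₂ := Subgroup.normalizer ((Cfsg.inducedFunctor W₂ (T : Subgroup (↥K ⧸ R.subgroupOf K)) :
    Subgroup (↥K ⧸ R.subgroupOf K)) : Set (↥K ⧸ R.subgroupOf K))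
  have hT₁ : (T : Subgroup (↥K ⧸ R.subgroupOf K)) ≤ N₁ :=
    Control.self_le_normalizer_functor (Control.isConjugacyFunctor_induced hW₁) T.2
  have hT₂ : (T : Subgroup (↥K ⧸ R.subgroupOf K)) ≤ N₂ :=
    Control.self_le_normalizer_functor (Control.isConjugacyFunctor_induced hW₂) T.2
  have hB : Control.cjSub b (Subgroup.closure A) ≤ N₁ ⊓ N₂ := by
    rw [Subgroup.map_le_iff_le_comap, Subgroup.closure_le]
    intro x hx
    have h1 : a * b * x * (a * b)⁻¹ ∈ N₁ := hT₁ (hgA ⟨x, hx, rfl⟩)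
    have h2 := mul_mem (mul_mem (inv_mem ha) h1) ha
    rw [show a⁻¹ * (a * b * x * (a * b)⁻¹) * a = b * x * b⁻¹ by group] at h2
    exact Subgroup.mem_inf.mpr ⟨h2, mul_mem (mul_mem hb (hT₂ (hA hx))) (inv_mem hb)⟩
  obtain ⟨d, hd, hdB⟩ :=
    ((Control.sylIn_top T).mono (le_inf hT₁ hT₂) le_top).exists_cjSub_le
      (Control.isPGroup_cjSub (T.2.to_le ((Subgroup.closure_le _).mpr hA))) hB
  have hdbA : Control.cj (d * b) A ⊆ (T : Subgroup (↥K ⧸ R.subgroupOf K)) := by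
    rintro _ ⟨x, hx, rfl⟩
    change d * b * x * (d * b)⁻¹ ∈ _
    rw [show d * b * x * (d * b)⁻¹ = d * (b * x * b⁻¹) * d⁻¹ by group]
    exact hdB ⟨_, ⟨x, Subgroup.subset_closure hx, rfl⟩, rfl⟩
  have s1 : Control.Ctrl (Control.normSet (Control.iF {W₁, W₂} (↥K ⧸ R.subgroupOf K)) ⊤
      (T : Subgroup (↥K ⧸ R.subgroupOf K))) (T : Subgroup (↥K ⧸ R.subgroupOf K)) A (d * b) :=
    Control.Ctrl.of_mem ⟨_, ⟨W₂, Or.inr rfl, rfl⟩, rfl⟩ ⟨Subgroup.mem_top _, mul_mem hd.2 hb⟩ hdbA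
  have s2 := s1.trans (h := a * d⁻¹) (Control.Ctrl.of_mem ⟨_, ⟨W₁, Or.inl rfl, rfl⟩, rfl⟩
    (Subgroup.mem_inf.mpr ⟨Subgroup.mem_top _, mul_mem ha (inv_mem hd.1)⟩) (by
      rw [← Control.cj_mul, show a * d⁻¹ * (d * b) = a * b by group]; exact hgA))
  rwa [show a * d⁻¹ * (d * b) = a * b by group] at s2

end Cfsg.Agent.S1996
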