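import Cfsg.Statements.S1997
import Cfsg.Agent.Control.PairCentre

set_option autoImplicit false
universe u
open Cfsg
open Subgroup
open Cfsg.Agent

namespace Cfsg.Agent.S1997

/-- Let p be a prime, G a finite group with Sylow p-subgroup S, and W₁, W₂ two isomorphism-invariant p-group functors (W assigns to every group Q a subgroup W(Q), nontrivial whenever Q is a nontrivial finite p-group, and every isomorphism from a finite p-group Q onto a group R carries W(Q) onto W(R)). Suppose that G* = C_{G*}(Ω₁Z(S*)) N_{G*}(W₁(S*)) = C_{G*}(Ω₁Z(S*)) N_{G*}(W₂(S*)) = N_{G*}(W₁(S*)) N_{G*}(W₂(S*)) whenever G* = K/R is a section of G with C_{G*}(O_p(G*)) ≤ O_p(G*) and S* is a Sylow p-subgroup of G*, where Ω₁Z denotes the subgroup generated by the elements of order dividing p in the centre. Suppose also Ω₁Z(S) ≤ W₁(S) ∩ W₂(S), and let A be the normal closure of Ω₁Z(S) in N_G(W₁(S)). Then A is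 an elementary abelian subgroup of S, strongly closed in S with respect to G, and A controls strong fusion in G. -/
theorem result {G : Type u} [Group G] [Finite G] {p : ℕ} [Fact p.Prime] (S : Sylow p G) (W₁ W₂ : ∀ (Q : Type u) [Group Q], Subgroup Q) (hW₁ : Cfsg.IsCharPFunctor.{u} p W₁) (hW₂ : Cfsg.IsCharPFunctor.{u} p W₂) (hfac : ∀ (K R : Subgroup G) [hR : (R.subgroupOf K).Normal], Subgroup.centralizer ((Cfsg.pCore p (↥K ⧸ R.subgroupOf K) : Subgroup (↥K ⧸ R.subgroupOf K)) : Set (↥K ⧸ R.subgroupOf K)) ≤ Cfsg.pCore p (↥K ⧸ R.subgroupOf K) → ∀ T : Sylow p (↥K ⧸ R.subgroupOf K), (∀ x : (↥K ⧸ R.subgroupOf K), ∃ a ∈ Subgroup.centralizer ((Cfsg.omegaOne p ((T : Subgroup (↥K ⧸ R.subgroupOf K)) ⊓ Subgroup.centralizer (((T : Subgroup (↥K ⧸ R.subgroupOf K)) : Subgroup (↥K ⧸ R.subgroupOf K)) : Set (↥K ⧸ R.subgroupOf K))) : Subgroup (↥K ⧸ R.subgroupOf K)) : Set (↥K ⧸ R.subgroupOf K)), ∃ b ∈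 Subgroup.normalizer ((Cfsg.inducedFunctor (G := (↥K ⧸ R.subgroupOf K)) W₁ (T : Subgroup (↥K ⧸ R.subgroupOf K)) : Subgroup (↥K ⧸ R.subgroupOf K)) : Set (↥K ⧸ R.subgroupOf K)), x = a * b) ∧ (∀ x : (↥K ⧸ R.subgroupOf K), ∃ a ∈ Subgroup.centralizer ((Cfsg.omegaOne p ((T : Subgroup (↥K ⧸ R.subgroupOf K)) ⊓ Subgroup.centralizer (((T : Subgroup (↥K ⧸ R.subgroupOf K)) : Subgroup (↥K ⧸ R.subgroupOf K)) : Set (↥K ⧸ R.subgroupOf K))) : Subgroup (↥K ⧸ R.subgroupOf K)) : Set (↥K ⧸ R.subgroupOf K)), ∃ b ∈ Subgroup.normalizer ((Cfsg.inducedFunctor (G := (↥K ⧸ R.subgroupOf K)) W₂ (T : Subgroup (↥K ⧸ R.subgroupOf K)) : Subgroup (↥K ⧸ R.subgroupOf K)) : Set (↥K ⧸ R.subgroupOf K)), x = a * b) ∧ (∀ x : (↥K ⧸ R.subgroupOf K), ∃ a ∈ Subgroup.normalizer ((Cfsg.inducedFunctor (G := (↥K ⧸ R.subgroupOf K)) W₁ (T : Subgroup (↥K ⧸ R.subgroupOf K)) : Subgroup (↥K ⧸ R.subgroupOf K)) : Set (↥K ⧸ R.subgroupOf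 K)), ∃ b ∈ Subgroup.normalizer ((Cfsg.inducedFunctor (G := (↥K ⧸ R.subgroupOf K)) W₂ (T : Subgroup (↥K ⧸ R.subgroupOf K)) : Subgroup (↥K ⧸ R.subgroupOf K)) : Set (↥K ⧸ R.subgroupOf K)), x = a * b)) (hZ : Cfsg.omegaOne p ((S : Subgroup G) ⊓ Subgroup.centralizer (((S : Subgroup G) : Subgroup G) : Set G)) ≤ Cfsg.inducedFunctor (G := G) W₁ (S : Subgroup G) ⊓ Cfsg.inducedFunctor (G := G) W₂ (S : Subgroup G)) (N₁ : Subgroup G) (hN₁ : N₁ = Subgroup.normalizer ((Cfsg.inducedFunctor (G := G) W₁ (S : Subgroup G) : Subgroup G) : Set G)) (A : Subgroup G) (hA : A = (Subgroup.normalClosure (((Cfsg.omegaOne p ((S : Subgroup G) ⊓ Subgroup.centralizer (((S : Subgroup G) : Subgroup G) : Set G))).subgroupOf N₁ : Subgroup ↥N₁) : Set ↥N₁)).map N₁.subtype) : A ≤ (S : Subgroup G) ∧ Cfsg.IsElementaryAbelian p A ∧ Cfsg.IsStronglyClosed A (S : Subgroup G) ∧ Cfsg.ControlsStrongFusion p A := by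
  have hsec : Control.SecFac3 p W₁ W₂ G :=
    Control.secFac3_of_quotients W₁ W₂ hW₁ hW₂ fun K R _ hc T => hfac K R hc T
  have hF : ∀ W ∈ ({W₁, W₂} : Set (∀ (Q : Type u) [Group Q], Subgroup Q)),
      Cfsg.IsCharPFunctor.{u} p W := by
    rintro W (rfl | rfl)
    · exact hW₁
    · exact hW₂
  set Z := Control.omZ p (S : Subgroup G)
  have hZC : Z ≤ (S : Subgroup G) ⊓ centralizer ((S : Subgroup G) : Set G) :=
    Thompson.omegaOne_le p _
  have hS₁ : (S : Subgroup G) ≤ N₁ := hN₁ ▸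
    Control.self_le_normalizer_functor (Control.isConjugacyFunctor_induced hW₁) S.2
  have hconj : ∀ z ∈ Z, ∀ n ∈ N₁, n * z * n⁻¹ ∈ (S : Subgroup G) := fun z hz n hn =>
    (Control.isConjugacyFunctor_induced hW₁ _ S.2).1
      ((mem_normalizer_iff.mp (hN₁ ▸ hn) z).mp (hZ hz).1)
  have hgen : A = closure {x : G | ∃ n ∈ N₁, ∃ z ∈ Z, x = n * z * n⁻¹} := by
    rw [hA, Subgroup.normalClosure, MonoidHom.map_closure]
    congr 1
    ext x
    simp only [Set.mem_image, Group.mem_conjugatesOfSet_iff, Set.mem_ofPred_eq, SetLike.mem_coe,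
      mem_subgroupOf]
    constructor
    · rintro ⟨_, ⟨z, hz, hconj'⟩, rfl⟩
      obtain ⟨n, rfl⟩ := isConj_iff.mp hconj'
      exact ⟨n, n.2, z, hz, rfl⟩
    · rintro ⟨n, hn, z, hz, rfl⟩
      exact ⟨⟨n, hn⟩ * ⟨z, hS₁ (hZC hz).1⟩ * ⟨n, hn⟩⁻¹,
        ⟨⟨z, hS₁ (hZC hz).1⟩, hz, isConj_iff.mpr ⟨⟨n, hn⟩, rfl⟩⟩, rfl⟩
  have hAS : A ≤ (S : Subgroup G) := by
    rw [hgen, closure_le]
    rintro _ ⟨n, hn, z, hz, rfl⟩
    exact hconj z hz n hn
  have hcomm : ∀ x ∈ {x : G | ∃ n ∈ N₁, ∃ z ∈ Z, x = n * z * n⁻¹},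
      ∀ y ∈ {x : G | ∃ n ∈ N₁, ∃ z ∈ Z, x = n * z * n⁻¹}, x * y = y * x := by
    rintro _ ⟨n, hn, z, hz, rfl⟩ _ ⟨m, hm, w, hw, rfl⟩
    have h1 := mem_centralizer_iff.mp (hZC hz).2 _ (hconj w hw (n⁻¹ * m) (mul_mem (inv_mem hn) hm))
    calc n * z * n⁻¹ * (m * w * m⁻¹) = n * (z * (n⁻¹ * m * w * (n⁻¹ * m)⁻¹)) * n⁻¹ := by group
      _ = n * (n⁻¹ * m * w * (n⁻¹ * m)⁻¹ * z) * n⁻¹ := by rw [h1]
      _ = _ := by group
  have hAc : ∀ x ∈ A, ∀ y ∈ A, x * y = y * x := by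
    intro x hx y hy
    rw [hgen] at hx hy
    have hc := Subgroup.isMulCommutative_closure hcomm
    exact congrArg Subtype.val (hc.is_comm.comm ⟨x, hx⟩ ⟨y, hy⟩)
  have hAp : ∀ x ∈ A, x ^ p = 1 := by
    intro x hx
    rw [hgen] at hx
    refine Subgroup.closure_induction (p := fun x _ => x ^ p = 1) ?_ (one_pow p) ?_ ?_ hx
    · rintro _ ⟨n, -, z, hz, rfl⟩
      have hzp : z ^ p = 1 := (Thompson.omegaOne_ea (p := p)
        (H := (S : Subgroup G) ⊓ centralizer ((S : Subgroup G) : Set G))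
        (inf_le_right.trans (centralizer_le (SetLike.coe_subset_coe.mpr inf_le_left)))).2 z hz
      rw [conj_pow, hzp, mul_one, mul_inv_cancel]
    · intro a b ha hb h1 h2
      rw [← hgen] at ha hb
      rw [(show Commute a b from hAc a ha b hb).mul_pow, h1, h2, one_mul]
    · intro a _ h1
      rw [inv_pow, h1, inv_one]
  have hinv : ∀ (W : Subgroup G), (∀ m ∈ W, ∀ z ∈ Z, ∀ n ∈ N₁, m * (n * z * n⁻¹) * m⁻¹ ∈ A) →
      W ≤ normalizer (A : Set G) := fun W h m hm => by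
    have key : ∀ m ∈ W, ∀ x ∈ A, m * x * m⁻¹ ∈ A := by
      intro m hm x hx
      have hle : A ≤ A.comap (MulAut.conj m).toMonoidHom := by
        conv_lhs => rw [hgen]
        rw [closure_le]
        rintro _ ⟨n, hn, z, hz, rfl⟩
        exact h m hm z hz n hn
      exact hle hx
    refine mem_normalizer_iff.mpr fun x => ⟨key m hm x, fun hx => ?_⟩
    have := key m⁻¹ (inv_mem hm) _ hx
    rwa [show m⁻¹ * (m * x * m⁻¹) * m⁻¹⁻¹ = x by group] at this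
  have hN₁A : N₁ ≤ normalizer (A : Set G) := hinv N₁ fun m hm z hz n hn => by
    rw [hgen]
    exact subset_closure ⟨m * n, mul_mem hm hn, z, hz, by group⟩
  have hN₂A : normalizer ((Cfsg.inducedFunctor W₂ (S : Subgroup G) : Subgroup G) : Set G) ≤
      normalizer (A : Set G) := hinv _ fun m hm z hz n hn => by
    obtain ⟨-, n₂, hn₂, e₂⟩ := Control.rel_of_conj hW₁ hW₂ hsec S hZ hz (hconj z hz n hn)
    have hmem : m * n₂ * z * (m * n₂)⁻¹ ∈ (S : Subgroup G) :=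
      (Control.isConjugacyFunctor_induced hW₂ _ S.2).1
        ((mem_normalizer_iff.mp (mul_mem hm hn₂) z).mp (hZ hz).2)
    obtain ⟨⟨k, hk, ek⟩, -⟩ := Control.rel_of_conj hW₁ hW₂ hsec S hZ hz hmem
    rw [hgen]
    exact subset_closure ⟨k, hN₁ ▸ hk, z, hz, by rw [ek, ← e₂]; group⟩
  have hctrl : ∀ (B : Set G), B ⊆ ((S : Subgroup G) : Set G) → ∀ g : G,
      Control.cj g B ⊆ ((S : Subgroup G) : Set G) →
      ∃ x ∈ normalizer (A : Set G), ∀ a ∈ B, g * a * g⁻¹ = x * a * x⁻¹ := by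
    intro B hB g hg
    obtain ⟨c, hc, hce⟩ := (Control.famFus_iff_forall (Control.isConjugacyFunctor_iF hF)
      (Control.sylIn_top S)).mp (Control.gFus_pair_of_fac3 hW₁ hW₂ hsec) B g (mem_top g) hB hg
    refine ⟨c, hc.mem ?_, fun a ha => (hce a ha).symm⟩
    rintro _ ⟨_, ⟨W, hW, rfl⟩, rfl⟩
    rcases hW with rfl | rfl
    · exact inf_le_right.trans (hN₁ ▸ hN₁A)
    · exact inf_le_right.trans hN₂A
  refine ⟨hAS, ⟨⟨⟨fun a b => Subtype.ext (hAc a a.2 b b.2)⟩⟩, hAp⟩, ⟨hAS, fun x hx g hg => ?_⟩,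
    S, hAS, fun B hB => ⟨hB, fun g hg => hctrl B hB g hg⟩⟩
  obtain ⟨c, hc, hce⟩ := hctrl {x} (Set.singleton_subset_iff.mpr (hAS hx)) g
    (by rintro _ ⟨_, rfl, rfl⟩; exact hg)
  rw [hce x rfl]
  exact (mem_normalizer_iff.mp hc x).mp hx

end Cfsg.Agent.S1997
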