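import Cfsg.Statements.S1998
import Cfsg.Agent.Control.TransferStep

set_option autoImplicit false
universe u
open Cfsg

namespace Cfsg.Agent.S1998

/-- Let p be a prime, G a finite group with Sylow p-subgroup S, and 𝓦 a nonempty set of isomorphism-invariant p-group functors (W assigns to every group Q a subgroup W(Q), nontrivial whenever Q is a nontrivial finite p-group, and every isomorphism from a finite p-group Q onto a group R carries W(Q) onto W(R)). Suppose the induced conjugacy functors control transfer in every section of G other than G itself, but not in G. Let T be the subgroup generated by the S ∩ (N_G(W(S)))', W ∈ 𝓦, and M = N_G(T ∩ O_p(G)). Then: C_G(O_p(G)) ≤ O_p(G); M is a proper subgroup of G containing every proper subgroup of G that contains S (the unique maximal subgroup over S); [O_p(G), M] ≤ O_p(G) ∩ M' ≤ O_p(G) ∩ T; and every element u of S outside O_p(G) satisfies [X, u, …, u] ≰ Y with p − 1 entries u, for some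 chief factor X/Y of G with X ≤ O_p(G). -/
theorem result {G : Type u} [Group G] [Finite G] {p : ℕ} [Fact p.Prime] (S : Sylow p G) (𝓦 : Set (∀ (Q : Type u) [Group Q], Subgroup Q)) (h𝓦 : ∀ W ∈ 𝓦, Cfsg.IsCharPFunctor.{u} p W) (hne : 𝓦.Nonempty) (hsec : ∀ (K R : Subgroup G) [hR : (R.subgroupOf K).Normal], (K = ⊤ → R ≠ ⊥) → Cfsg.FamilyControlsTransferIn p ((fun W => Cfsg.inducedFunctor (G := (↥K ⧸ R.subgroupOf K)) W) '' 𝓦) ⊤) (hG : ¬ Cfsg.FamilyControlsTransferIn p ((fun W => Cfsg.inducedFunctor (G := G) W) '' 𝓦) ⊤) (T M : Subgroup G) (hT : T = (⨆ W ∈ 𝓦, (S : Subgroup G) ⊓ ⁅Subgroup.normalizer ((Cfsg.inducedFunctor (G := G) W (S : Subgroup G) : Subgroup G) : Set G), Subgroup.normalizer ((Cfsg.inducedFunctor (G := G) W (S : Subgroup G) : Subgroup G) : Set G)⁆)) (hM : M = Subgroup.normalizer ((T ⊓ Cfsg.pCore p G : Subgroup G) : Set G)) : Subgroup.centralizer ((Cfsg.pCore p G : Subgroup G) : Set G) ≤ Cfsg.pCore p G ∧ (M ≠ ⊤ ∧ ∀ H : Subgroup G,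 (S : Subgroup G) ≤ H → H ≠ ⊤ → H ≤ M) ∧ (⁅Cfsg.pCore p G, M⁆ ≤ Cfsg.pCore p G ⊓ ⁅M, M⁆ ∧ Cfsg.pCore p G ⊓ ⁅M, M⁆ ≤ Cfsg.pCore p G ⊓ T) ∧ ∀ u : G, u ∈ (S : Subgroup G) → u ∉ Cfsg.pCore p G → ∃ U V : Subgroup G, Cfsg.IsChiefFactor U V ∧ U ≤ Cfsg.pCore p G ∧ ¬ Cfsg.iterCommutator U (Subgroup.zpowers u) (p - 1) ≤ V := by
  obtain ⟨W₀, hW₀⟩ := hne
  set Q := Cfsg.pCore p G with hQdef
  have hGTr : ¬ Control.GTr 𝓦 p G := hG
  have hsecs : ∀ (K R : Subgroup G) [(R.subgroupOf K).Normal], (K = ⊤ → R ≠ ⊥) →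
      Control.GTr 𝓦 p (↥K ⧸ R.subgroupOf K) := fun K R _ h => hsec K R h
  have IHs : ∀ H : Subgroup G, H ≠ ⊤ → Control.GTr 𝓦 p H := fun H hH => by
    have hR : (⊥ : Subgroup G).subgroupOf H = ⊥ := by rw [Subgroup.bot_subgroupOf]
    have : ((⊥ : Subgroup G).subgroupOf H).Normal := by rw [hR]; infer_instance
    exact Control.gTr_congr h𝓦 ((QuotientGroup.quotientMulEquivOfEq hR).trans QuotientGroup.quotientBot)
      (hsecs H ⊥ (fun h => absurd h hH))
  have IHq : ∀ N : Subgroup G, ∀ [N.Normal], N ≠ ⊥ → Control.GTr 𝓦 p (G ⧸ N) := fun N hN hne => by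
    let f : (⊤ : Subgroup G) →* G ⧸ N := (QuotientGroup.mk' N).comp (⊤ : Subgroup G).subtype
    have hf : Function.Surjective f := fun x => by
      obtain ⟨g, rfl⟩ := QuotientGroup.mk'_surjective N x
      exact ⟨⟨g, Subgroup.mem_top g⟩, rfl⟩
    have hker : f.ker = N.subgroupOf (⊤ : Subgroup G) := by
      ext x
      simp [f, Subgroup.mem_subgroupOf]
    exact Control.gTr_congr h𝓦 ((QuotientGroup.quotientMulEquivOfEq hker.symm).trans
      (QuotientGroup.quotientKerEquivOfSurjective f hf)) (hsecs ⊤ N (fun _ => hne))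
  have hP' : Cfsg.pPrimeCore p G = ⊥ := by
    by_contra h
    exact hGTr (Control.gTr_pPrime h𝓦 (QuotientGroup.mk'_surjective _) Control.mk'_pPrimeCore_coprime
      (IHq _ h))
  have hQne : Q ≠ ⊥ := fun h => hGTr (Control.gTr_of_pCore_eq_bot h𝓦 h IHs)
  have hC : Subgroup.centralizer (Q : Set G) ≤ Q := by
    by_contra h
    exact hGTr (Control.gTr_of_not_selfCentral h𝓦 hP' h IHs (IHq _ hQne))
  have hTr : ¬ Control.TrCtrl (Control.normSet (Control.iF 𝓦 G) ⊤ (S : Subgroup G))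
      (S : Subgroup G) ⊤ := fun h => hGTr (Control.famTr_iff.mpr ⟨_, Control.sylIn_top S, h⟩)
  have hTeq : T = Control.tGen (Control.normSet (Control.iF 𝓦 G) ⊤ (S : Subgroup G))
      (S : Subgroup G) := by
    rw [hT]
    simp only [Control.tGen, Control.normSet, Control.iF, iSup_image, top_inf_eq]
  have hMeq : M = Subgroup.normalizer ((Q ⊓ T : Subgroup G) : Set G) := by rw [hM, inf_comm]
  obtain ⟨hlt, hproper⟩ := Control.proper_normalizer_of_not_normal h𝓦 hW₀ S
    (fun hn => hTr (Control.trCtrl_of_normal h𝓦 hW₀ S hn))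
  have hsub : ∀ H : Subgroup G, H ≠ ⊤ → (S : Subgroup G) ≤ H → (S : Subgroup G) ⊓ ⁅H, H⁆ ≤ T :=
    fun H hH hSH => hTeq ▸ Control.trCtrl_subgroup h𝓦 S hSH (IHs H hH)
  have hfin : ¬ Q ⊓ commutator G ≤ T := fun h => hTr (Control.trCtrl_of_inf_commutator h𝓦 hlt
    (hTeq ▸ hsub) (IHq _ hQne) (hTeq ▸ h))
  have hMne : M ≠ ⊤ := fun he => hfin (Control.inf_commutator_le_of_normal hlt hsub hproper
    (hMeq ▸ he))
  have hmax : Control.UniqueMaxOver (S : Subgroup G) M :=
    hMeq ▸ Control.uniqueMaxOver_normalizer hsub hproper (hMeq ▸ hMne)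
  refine ⟨hC, ⟨hMne, fun H hSH hH => hmax.max H hSH hH⟩, ⟨le_inf ?_ ?_, ?_⟩, fun u hu huQ => ?_⟩
  · rw [Subgroup.commutator_comm]
    exact Subgroup.commutator_le_right _ _
  · exact Subgroup.commutator_mono ((Core.pCore_le_sylow S).trans hmax.le) le_rfl
  · exact le_inf inf_le_left ((inf_le_inf_right _ (Core.pCore_le_sylow S)).trans
      (hsub M hMne hmax.le))
  · by_contra hcon
    push Not at hcon
    exact hfin (Control.inf_commutator_le_of_good hlt hsub hproper hu huQ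
      (fun U V hUV hU => hcon U V hUV hU))

end Cfsg.Agent.S1998
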