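import Cfsg.Statements.S2761
import Cfsg.Agent.QdFree.QdSylow

set_option autoImplicit false
open Cfsg

namespace Cfsg.Agent.S2761

/-- The group Qd(2), the natural semidirect product of an elementary abelian group of order 4 by SL₂(2) (realised as the affine subgroup of SL₃(2)), is isomorphic to the symmetric group of degree 4. -/
theorem result : Nonempty (↥(Cfsg.qd 2) ≃* Equiv.Perm (Fin 4)) := by
  classical
  let act : Cfsg.Agent.QdFree.Affine (ZMod 2) →* Equiv.Perm (Fin 2 → ZMod 2) :=
    { toFun := fun g => ((g.right.toLin').toEquiv).trans (Equiv.addLeft g.left.toAdd)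
      map_one' := Equiv.ext fun v => by
        show (0 : Fin 2 → ZMod 2) + ((1 : Matrix.SpecialLinearGroup (Fin 2) (ZMod 2)) : Matrix (Fin 2) (Fin 2) (ZMod 2)).mulVec v = v
        rw [Matrix.SpecialLinearGroup.coe_one, Matrix.one_mulVec, zero_add]
      map_mul' := fun g h => Equiv.ext fun v => by
        show g.left.toAdd + (g.right : Matrix (Fin 2) (Fin 2) (ZMod 2)).mulVec h.left.toAdd
            + ((g.right * h.right : Matrix.SpecialLinearGroup (Fin 2) (ZMod 2)) : Matrix (Fin 2) (Fin 2) (ZMod 2)).mulVec v
          = g.left.toAdd + (g.right : Matrix (Fin 2) (Fin 2) (ZMod 2)).mulVec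
            (h.left.toAdd + (h.right : Matrix (Fin 2) (Fin 2) (ZMod 2)).mulVec v)
        rw [Matrix.SpecialLinearGroup.coe_mul, Matrix.mulVec_add, Matrix.mulVec_mulVec, add_assoc] }
  have hinj : Function.Injective act := by
    rw [injective_iff_map_eq_one]
    intro g hg
    have h0 : ∀ v, g.left.toAdd + (g.right : Matrix (Fin 2) (Fin 2) (ZMod 2)).mulVec v = v := fun v => by
      have := Equiv.ext_iff.mp hg v
      exact this
    have hl : g.left.toAdd = 0 := by simpa using h0 0
    refine SemidirectProduct.ext (Multiplicative.toAdd.injective hl) (Subtype.ext ?_)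
    refine Matrix.ext_of_mulVec_single fun i => ?_
    have := h0 (Pi.single i 1)
    rw [hl, zero_add] at this
    rw [this, SemidirectProduct.one_right, Matrix.SpecialLinearGroup.coe_one, Matrix.one_mulVec]
  have hbij : Function.Bijective act := by
    refine (Nat.bijective_iff_injective_and_card act).mpr ⟨hinj, ?_⟩
    rw [Cfsg.Agent.QdFree.card_affine, Nat.card_perm, Nat.card_fun, Nat.card_zmod, Nat.card_fin]
    rfl
  exact ⟨((Cfsg.Agent.QdFree.qdEquiv 2).symm.trans (MulEquiv.ofBijective act hbij)).trans
    (Equiv.permCongrHom (Fintype.equivFinOfCardEq (by simp)))⟩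

end Cfsg.Agent.S2761
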