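import Cfsg.Statements.S1999
import Cfsg.Agent.FFLemma.Control
import Cfsg.Agent.S2761
import Cfsg.Agent.QdFree.ZJControlQd

set_option autoImplicit false
open Cfsg

namespace Cfsg.Agent.S1999

/-- Let G be a finite group. The symmetric group of degree 4 is not involved in G if and only if, in every section K/R of G, the pair of conjugacy functors {Z, J_e} controls strong fusion (for the prime 2): here Z(P) is the centre and J_e(P) the subgroup generated by the elementary abelian subgroups of P of largest order, and control by the pair means that 2-fusion of tuples inside a Sylow 2-subgroup T of the section is generated, staying inside T, by conjugation inside N(Z(T)) and N(J_e(T)). -/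
theorem result {G : Type*} [Group G] [Finite G] : ¬ Cfsg.Involves (Equiv.Perm (Fin 4)) G ↔ ∀ (K R : Subgroup G) [hR : (R.subgroupOf K).Normal], Cfsg.FamilyControlsStrongFusionIn 2 ({fun P : Subgroup (↥K ⧸ R.subgroupOf K) => P ⊓ Subgroup.centralizer ((P : Subgroup (↥K ⧸ R.subgroupOf K)) : Set (↥K ⧸ R.subgroupOf K)), fun P : Subgroup (↥K ⧸ R.subgroupOf K) => Cfsg.thompsonSubgroupOf 2 P} : Set (Subgroup (↥K ⧸ R.subgroupOf K) → Subgroup (↥K ⧸ R.subgroupOf K))) ⊤ := by
  haveI : Fact (Nat.Prime 2) := ⟨Nat.prime_two⟩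
  constructor
  · intro h4 K R hR
    have h4' : ¬ Cfsg.Involves (Equiv.Perm (Fin 4)) (↥K ⧸ R.subgroupOf K) := fun h =>
      h4 (QdFree.involves_of_subgroup
        (QdFree.involves_of_surjective h (QuotientGroup.mk'_surjective _)))
    have := FFLemma.gFus_pair h4'
    rwa [Cfsg.Agent.Control.GFus, FFLemma.iF_pairFam] at this
  · intro h hinv
    obtain ⟨K, R, hn, ⟨e⟩⟩ := hinv
    obtain ⟨e'⟩ := S2761.result
    obtain ⟨K', R', hn', ⟨e''⟩⟩ :=
      QdFree.exists_section_equiv (p := 2) (G := G) ⟨K, R, hn, ⟨e.trans e'.symm⟩⟩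
    refine FFLemma.not_gFus_qd e'' FFLemma.pairFam_char ?_
    rw [Cfsg.Agent.Control.GFus, FFLemma.iF_pairFam]
    exact h K' R'

end Cfsg.Agent.S1999
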