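import Cfsg.Statements.S2000
import Cfsg.Agent.FFLemma.Control
import Cfsg.Agent.S2761
import Cfsg.Agent.QdFree.ZJControlQd

set_option autoImplicit false
universe u
open Cfsg

namespace Cfsg.Agent.S2000

/-- Let p be a prime and G a finite group. Then Qd(p) (the natural semidirect product of an elementary abelian group of order p² by SL₂(p)) is not involved in G if and only if there is a set 𝓦 of isomorphism-invariant p-group functors (each nontrivial on nontrivial finite p-groups and carried onto W(R) by every isomorphism from a finite p-group Q onto R, hence with characteristic values on finite p-groups) whose induced conjugacy functors control strong fusion in every section of G. -/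
theorem result {G : Type u} [Group G] [Finite G] {p : ℕ} [Fact p.Prime] : ¬ Cfsg.Involves ↥(Cfsg.qd p) G ↔ ∃ 𝓦 : Set (∀ (Q : Type u) [Group Q], Subgroup Q), (∀ W ∈ 𝓦, Cfsg.IsCharPFunctor.{u} p W) ∧ ∀ (K R : Subgroup G) [hR : (R.subgroupOf K).Normal], Cfsg.FamilyControlsStrongFusionIn p ((fun W => Cfsg.inducedFunctor (G := (↥K ⧸ R.subgroupOf K)) W) '' 𝓦) ⊤ := by
  constructor
  · intro hfree
    by_cases h2 : p = 2
    · subst h2
      refine ⟨FFLemma.pairFam, FFLemma.pairFam_char, fun K R hR => ?_⟩
      refine FFLemma.gFus_pair fun h => hfree ?_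
      obtain ⟨K', R', hn', ⟨e⟩⟩ := QdFree.involves_of_subgroup
        (QdFree.involves_of_surjective h (QuotientGroup.mk'_surjective _))
      obtain ⟨e'⟩ := S2761.result
      exact ⟨K', R', hn', ⟨e.trans e'.symm⟩⟩
    · have hF : ∀ W ∈ ({QdFree.zjFunctor 0} : Set (∀ (Q : Type u) [Group Q], Subgroup Q)),
          Cfsg.IsCharPFunctor.{u} p W := by
        rintro W rfl
        exact QdFree.isCharPFunctor_zj
      refine ⟨_, hF, fun K R hR => ?_⟩
      have hfree' := QdFree.not_involves_section hfree K R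
      obtain ⟨S⟩ := (inferInstance : Nonempty (Sylow p (↥K ⧸ R.subgroupOf K)))
      refine Cfsg.Agent.Control.famFus_iff.mpr ⟨_, Cfsg.Agent.Control.sylIn_top S,
        fun A g _ hA hgA => ?_⟩
      obtain ⟨-, hctl⟩ := QdFree.ZJControl.controls_qd_free h2 (Or.inl rfl) (dvd_zero p) hfree' S
        (Fusion.isStronglyClosed_self S) A hA
      obtain ⟨c, hc, hce⟩ := hctl g hgA
      refine Cfsg.Agent.Control.Ctrl.of_eqOn (g := c) ?_ fun a ha => (hce a ha).symm
      refine Cfsg.Agent.Control.Ctrl.of_mem ⟨_, ⟨_, rfl, rfl⟩, rfl⟩ ⟨Subgroup.mem_top c, ?_⟩ ?_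
      · dsimp only
        rw [QdFree.inducedFunctor_zj]
        exact hc
      · rintro _ ⟨a, ha, rfl⟩
        rw [show (fun a => c * a * c⁻¹) a = g * a * g⁻¹ from (hce a ha).symm]
        exact hgA ⟨a, ha, rfl⟩
  · rintro ⟨𝓦, h𝓦, hctl⟩ hinv
    obtain ⟨K, R, hn, ⟨e⟩⟩ := QdFree.exists_section_equiv hinv
    exact FFLemma.not_gFus_qd e h𝓦 (hctl K R)

end Cfsg.Agent.S2000
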