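import Cfsg.Statements.S2001
import Cfsg.Agent.Control.CentralFunctor

set_option autoImplicit false
open Cfsg
open Subgroup
open scoped Pointwise
open Cfsg.Agent

namespace Cfsg.Agent.S2001

/-- Let p be a prime dividing the order of the finite group G, P a Sylow p-subgroup, W a conjugacy functor for p on G with Z(H) ≤ W(H) for every nontrivial p-subgroup H, and V a central functor: a conjugacy functor with V(H) ≤ Z(H), and V(H) ≤ V(K) whenever Z(H) ≤ Z(K), for nontrivial p-subgroups H, K. Say that W with V controls transfer in a subgroup L when some Sylow p-subgroup Q of L satisfies Q ∩ L' = (Q ∩ (N_L(W(Q)))')·(Q ∩ (C_L(V(Q)))') as a product of two subgroups. If W with V controls transfer in N_G(H) for every subgroup H with Z(P) ≤ H ≤ P, then W with V controls transfer in G. -/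
theorem result {G : Type*} [Group G] [Finite G] {p : ℕ} [Fact p.Prime] (hdiv : p ∣ Nat.card G) (P : Sylow p G) (W V : Subgroup G → Subgroup G) (hW : Cfsg.IsConjugacyFunctor p W) (hV : Cfsg.IsConjugacyFunctor p V) (hWZ : ∀ H : Subgroup G, IsPGroup p ↥H → H ⊓ Subgroup.centralizer ((H : Subgroup G) : Set G) ≤ W H) (hVZ : ∀ H : Subgroup G, IsPGroup p ↥H → V H ≤ H ⊓ Subgroup.centralizer ((H : Subgroup G) : Set G)) (hVmono : ∀ H K : Subgroup G, IsPGroup p ↥H → IsPGroup p ↥K → H ≠ ⊥ → K ≠ ⊥ → H ⊓ Subgroup.centralizer ((H : Subgroup G) : Set G) ≤ K ⊓ Subgroup.centralizer ((K : Subgroup G) : Set G) → V H ≤ V K) (hloc : ∀ H : Subgroup G, (P : Subgroup G) ⊓ Subgroup.centralizer (((P : Subgroup G) : Subgroup G) : Set G) ≤ H → H ≤ (P : Subgroup G) → ∃ Q : Subgroup G, Q ≤ Subgroup.normalizer ((H : Subgroup G) : Set G) ∧ IsPGroup p ↥Q ∧ ¬ p ∣ (Q).relIndex (Subgroup.normalizer ((H : Subgroup G) : Set G)) ∧ ∀ x : G, x ∈ Q ⊓ ⁅Subgroup.normalizer ((H : Subgroup G) : Set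 G), Subgroup.normalizer ((H : Subgroup G) : Set G)⁆ ↔ ∃ a ∈ Q ⊓ ⁅Subgroup.normalizer ((H : Subgroup G) : Set G) ⊓ Subgroup.normalizer ((W Q : Subgroup G) : Set G), Subgroup.normalizer ((H : Subgroup G) : Set G) ⊓ Subgroup.normalizer ((W Q : Subgroup G) : Set G)⁆, ∃ b ∈ Q ⊓ ⁅Subgroup.normalizer ((H : Subgroup G) : Set G) ⊓ Subgroup.centralizer ((V Q : Subgroup G) : Set G), Subgroup.normalizer ((H : Subgroup G) : Set G) ⊓ Subgroup.centralizer ((V Q : Subgroup G) : Set G)⁆, x = a * b) : ∃ Q : Subgroup G, IsPGroup p ↥Q ∧ ¬ p ∣ Q.index ∧ ∀ x : G, x ∈ Q ⊓ commutator G ↔ ∃ a ∈ Q ⊓ ⁅Subgroup.normalizer ((W Q : Subgroup G) : Set G), Subgroup.normalizer ((W Q : Subgroup G) : Set G)⁆, ∃ b ∈ Q ⊓ ⁅Subgroup.centralizer ((V Q : Subgroup G) : Set G), Subgroup.centralizer ((V Q : Subgroup G) : Set G)⁆, x = a * b := by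
  have hd : Control.PairData P (p := p) W V :=
    { hW := hW, hV := hV, hWZ := hWZ, hmono := hVmono, hP1 := P.ne_bot_of_dvd_card hdiv }
  refine ⟨(P : Subgroup G), P.2, P.not_dvd_index, ?_⟩
  have key := Control.transfer_of_local hd fun F _ hadm R hR => by
    obtain ⟨g, H, hZH, hHP, rfl⟩ := hadm
    obtain ⟨Q, hQN, hQp, hQd, hQ⟩ := hloc H hZH hHP
    obtain ⟨e, eN, eQ, eW, eV⟩ := Control.exists_transport hW hV (g := g) ⟨hQN, hQp, hQd⟩ hR
    have h1 := map_mono (f := (MulAut.conj e).toMonoidHom) (show Q ⊓ ⁅normalizer (H : Set G), normalizer (H : Set G)⁆ ≤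
        (Q ⊓ ⁅normalizer (H : Set G) ⊓ normalizer ((W Q : Subgroup G) : Set G),
          normalizer (H : Set G) ⊓ normalizer ((W Q : Subgroup G) : Set G)⁆) ⊔
        (Q ⊓ ⁅normalizer (H : Set G) ⊓ centralizer ((V Q : Subgroup G) : Set G),
          normalizer (H : Set G) ⊓ centralizer ((V Q : Subgroup G) : Set G)⁆) from fun x hx => by
      obtain ⟨a, ha, b, hb, rfl⟩ := (hQ x).mp hx
      exact mul_mem (mem_sup_left ha) (mem_sup_right hb))
    have hinj : Function.Injective (MulAut.conj e).toMonoidHom := (MulAut.conj e).injective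
    simp only [Subgroup.map_sup, map_inf _ _ _ hinj, map_commutator] at h1
    rw [← eW, ← eV, ← eN, ← eQ]
    simpa only [Control.cjSub, map_inf _ _ _ hinj] using h1
  set N := normalizer ((W (P : Subgroup G) : Subgroup G) : Set G)
  set C := centralizer ((V (P : Subgroup G) : Subgroup G) : Set G)
  intro x
  constructor
  · intro hx
    have hB : (P : Subgroup G) ⊓ ⁅C, C⁆ ≤ normalizer (((P : Subgroup G) ⊓ ⁅N, N⁆ : Subgroup G) : Set G) :=
      inf_le_left.trans fun u hu => by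
        have huN : u ∈ N := Control.self_le_normalizer_functor hW P.2 hu
        refine Control.mem_normalizer_of_cjSub_eq ?_
        rw [Control.cjSub, map_inf _ _ _ (MulAut.conj u).injective, map_commutator]
        change Control.cjSub u _ ⊓ ⁅Control.cjSub u N, Control.cjSub u N⁆ = _
        rw [Control.cjSub_eq_of_mem (le_normalizer hu), Control.cjSub_eq_of_mem (le_normalizer huN)]
    have h1 := key hx
    obtain ⟨a, ha, b, hb, hab⟩ : x ∈ (((P : Subgroup G) ⊓ ⁅N, N⁆ : Subgroup G) : Set G) *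
        (((P : Subgroup G) ⊓ ⁅C, C⁆ : Subgroup G) : Set G) := by
      rw [← coe_mul_of_right_le_normalizer_left _ _ hB]; exact h1
    exact ⟨a, ha, b, hb, hab.symm⟩
  · rintro ⟨a, ha, b, hb, rfl⟩
    exact ⟨mul_mem ha.1 hb.1, mul_mem (commutator_mono le_top le_top ha.2)
      (commutator_mono le_top le_top hb.2)⟩

end Cfsg.Agent.S2001
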