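import Cfsg.Statements.S2002
import Cfsg.Agent.Control.CentralFunctor

set_option autoImplicit false
open Cfsg
open Subgroup
open Cfsg.Agent

namespace Cfsg.Agent.S2002

/-- Let p be a prime dividing the order of the finite group G, P a Sylow p-subgroup, W a conjugacy functor for p on G with Z(H) ≤ W(H) for every nontrivial p-subgroup H, and V a central functor (a conjugacy functor with V(H) ≤ Z(H), and V(H) ≤ V(K) whenever Z(H) ≤ Z(K)). Say that W with V controls strong fusion in a subgroup L when some Sylow p-subgroup Q of L has the property: whenever X ⊆ Q and a ∈ L with a⁻¹Xa ⊆ Q, then a = c b with c ∈ C_L(X) and b = b₁ ⋯ bₙ a product of elements each in N_L(W(Q)) or in C_L(V(Q)) such that every partial conjugate (b₁ ⋯ bₖ)⁻¹ X (b₁ ⋯ bₖ) lies in Q. If W with V controls strong fusion in N_G(H) for every subgroup H with Z(P) ≤ H ≤ P, then W with V controls strong fusion in G. -/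
theorem result {G : Type*} [Group G] [Finite G] {p : ℕ} [Fact p.Prime] (hdiv : p ∣ Nat.card G) (P : Sylow p G) (W V : Subgroup G → Subgroup G) (hW : Cfsg.IsConjugacyFunctor p W) (hV : Cfsg.IsConjugacyFunctor p V) (hWZ : ∀ H : Subgroup G, IsPGroup p ↥H → H ⊓ Subgroup.centralizer ((H : Subgroup G) : Set G) ≤ W H) (hVZ : ∀ H : Subgroup G, IsPGroup p ↥H → V H ≤ H ⊓ Subgroup.centralizer ((H : Subgroup G) : Set G)) (hVmono : ∀ H K : Subgroup G, IsPGroup p ↥H → IsPGroup p ↥K → H ≠ ⊥ → K ≠ ⊥ → H ⊓ Subgroup.centralizer ((H : Subgroup G) : Set G) ≤ K ⊓ Subgroup.centralizer ((K : Subgroup G) : Set G) → V H ≤ V K) (hloc : ∀ H : Subgroup G, (P : Subgroup G) ⊓ Subgroup.centralizer (((P : Subgroup G) : Subgroup G) : Set G) ≤ H → H ≤ (P : Subgroup G) → ∃ Q : Subgroup G, Q ≤ Subgroup.normalizer ((H : Subgroup G) : Set G) ∧ IsPGroup p ↥Q ∧ ¬ p ∣ (Q).relIndex (Subgroup.normalizer ((H : Subgroup G) : Set G)) ∧ ∀ (X : Set G) (a : G), X ⊆ Q → a ∈ Subgroup.normalizer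 ((H : Subgroup G) : Set G) → (fun x => a⁻¹ * x * a) '' X ⊆ Q → ∃ c ∈ Subgroup.normalizer ((H : Subgroup G) : Set G) ⊓ Subgroup.centralizer X, ∃ (n : ℕ) (b : Fin n → G), (∀ i, b i ∈ Subgroup.normalizer ((H : Subgroup G) : Set G) ⊓ Subgroup.normalizer ((W Q : Subgroup G) : Set G) ∨ b i ∈ Subgroup.normalizer ((H : Subgroup G) : Set G) ⊓ Subgroup.centralizer ((V Q : Subgroup G) : Set G)) ∧ a = c * (List.ofFn b).prod ∧ ∀ k : ℕ, k ≤ n → (fun x => (((List.ofFn b).take k).prod)⁻¹ * x * ((List.ofFn b).take k).prod) '' ((fun x => c⁻¹ * x * c) '' X) ⊆ Q) : ∃ Q : Subgroup G, IsPGroup p ↥Q ∧ ¬ p ∣ Q.index ∧ ∀ (X : Set G) (a : G), X ⊆ Q → (fun x => a⁻¹ * x * a) '' X ⊆ Q → ∃ c ∈ Subgroup.centralizer X, ∃ (n : ℕ) (b : Fin n → G), (∀ i, b i ∈ ⊤ ⊓ Subgroup.normalizer ((W Q : Subgroup G) : Set G) ∨ b i ∈ ⊤ ⊓ Subgroup.centralizer ((V Q : Subgroup G) : Set G)) ∧ a = c * (List.ofFn b).prod ∧ ∀ k : ℕ, k ≤ n → (fun x => (((List.ofFn b).take k).prod)⁻¹ * x * ((List.ofFn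 b).take k).prod) '' ((fun x => c⁻¹ * x * c) '' X) ⊆ Q := by
  have hd : Control.PairData P (p := p) W V :=
    { hW := hW, hV := hV, hWZ := hWZ, hmono := hVmono, hP1 := P.ne_bot_of_dvd_card hdiv }
  have hconj : ∀ (g : G) (X : Set G), (fun x => g⁻¹ * x * g) '' X = Control.cj g⁻¹ X := fun g X => by
    ext y; simp [Control.cj]
  have key := Control.fusion_of_local hd fun F _ hadm R hR => by
    obtain ⟨g, H, hZH, hHP, rfl⟩ := hadm
    obtain ⟨Q, hQN, hQp, hQd, hQ⟩ := hloc H hZH hHP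
    obtain ⟨e, eN, eQ, eW, eV⟩ := Control.exists_transport hW hV (g := g) ⟨hQN, hQp, hQd⟩ hR
    intro A x hx hA hxA
    rw [← eN, Control.mem_cjSub] at hx
    rw [← eQ, Control.coe_cjSub] at hA hxA
    have hA' : Control.cj e⁻¹ A ⊆ Q := (Control.cj_mono hA).trans (Control.cj_inv_cj e _).le
    have hxA' : Control.cj (e⁻¹ * x * e) (Control.cj e⁻¹ A) ⊆ Q := by
      rw [← Control.cj_mul, show e⁻¹ * x * e * e⁻¹ = e⁻¹ * x by group, Control.cj_mul]
      exact (Control.cj_mono hxA).trans (Control.cj_inv_cj e _).le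
    set X := Control.cj e⁻¹ A
    set h := e⁻¹ * x * e with hh
    obtain ⟨c, hc, n, b, hb, hprod, hk⟩ := hQ X h⁻¹ hA' (inv_mem hx) (by rwa [hconj, inv_inv])
    have hfix : (fun y => c⁻¹ * y * c) '' X = X := by
      rw [Set.image_congr (g := id) fun y hy => by
        rw [id, mul_assoc, mem_centralizer_iff.mp hc.2 y hy, inv_mul_cancel_left]]
      exact Set.image_id X
    rw [hfix] at hk
    have hr := Control.reach_of_list (T := Q) (X := X)
      (𝒩 := {normalizer (H : Set G) ⊓ normalizer ((W Q : Subgroup G) : Set G),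
        normalizer (H : Set G) ⊓ centralizer ((V Q : Subgroup G) : Set G)}) (List.ofFn b)
      (fun y hy => by
        obtain ⟨i, rfl⟩ := List.mem_ofFn.mp hy
        rcases hb i with hi | hi
        · exact ⟨_, Or.inl rfl, hi⟩
        · exact ⟨_, Or.inr rfl, hi⟩)
      (fun k hk' => by rw [← hconj]; exact hk k (by simpa using hk'))
    have hC : Control.Ctrl {normalizer (H : Set G) ⊓ normalizer ((W Q : Subgroup G) : Set G),
        normalizer (H : Set G) ⊓ centralizer ((V Q : Subgroup G) : Set G)} Q X h := by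
      refine ⟨_, hr, fun y hy => ?_⟩
      have hp' : (List.ofFn b).prod = c⁻¹ * h⁻¹ := by rw [hprod]; group
      rw [hp', show (c⁻¹ * h⁻¹)⁻¹ * y * (c⁻¹ * h⁻¹)⁻¹⁻¹ = h * (c * y) * c⁻¹ * h⁻¹ by group,
        ← mem_centralizer_iff.mp hc.2 y hy]
      group
    have h2 := Control.ctrl_map_aut hC e
    rw [Set.image_pair, eW, eV, eQ, ← Control.cj_mul, mul_inv_cancel, Control.cj_one,
      show e * h * e⁻¹ = x by rw [hh]; group] at h2
    exact h2
  refine ⟨(P : Subgroup G), P.2, P.not_dvd_index, fun X a hX haX => ?_⟩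
  rw [hconj] at haX
  obtain ⟨r, hr, hre⟩ := key X a⁻¹ (mem_top _) hX haX
  obtain ⟨l, hl, hlp, hlk⟩ := Control.list_of_reach hr hX
  have hc : a * r ∈ centralizer X := mem_centralizer_iff.mpr fun y hy => by
    have h1 := hre y hy
    rw [inv_inv] at h1
    calc y * (a * r) = a * (a⁻¹ * y * a) * r := by group
      _ = a * (r * y * r⁻¹) * r := by rw [h1]
      _ = a * r * y := by group
  refine ⟨a * r, hc, l.length, l.get, fun i => ?_, ?_, fun k _ => ?_⟩
  · obtain ⟨N, hN, hiN⟩ := hl _ (List.get_mem l i)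
    rcases hN with rfl | rfl
    · exact Or.inl ⟨mem_top _, hiN⟩
    · exact Or.inr ⟨mem_top _, hiN⟩
  · rw [List.ofFn_get, hlp]; group
  · rw [hconj, hconj, List.ofFn_get]
    have : Control.cj (a * r)⁻¹ X = X := by
      rw [← hconj, Set.image_congr (g := id) fun y hy => by
        rw [id, mul_assoc, mem_centralizer_iff.mp hc y hy, inv_mul_cancel_left]]
      exact Set.image_id X
    rw [this]
    exact hlk k

end Cfsg.Agent.S2002
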