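import Cfsg.Statements.S2005
import Cfsg.Agent.KInf.Complement

set_option autoImplicit false
universe u
open Cfsg

namespace Cfsg.Agent.S2005

/-- Thompson's normal p-complement criterion in functor form. Let p be a prime, G a finite group with Sylow p-subgroup S, and W an isomorphism-invariant p-group functor (W assigns to every group Q a subgroup W(Q), nontrivial whenever Q is a nontrivial finite p-group, and every isomorphism from a finite p-group Q onto a group R carries W(Q) onto W(R)). Suppose N_G(W(S)) has a normal p-complement, and that W(S*) is normal in G* whenever G* = K/R is a section of G with C_{G*}(O_p(G*)) ≤ O_p(G*) such that G*/O_p(G*) has a normal p-complement, and S* is a Sylow p-subgroup of G* that is a maximal subgroup of G*. Then G has a normal p-complement. -/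
theorem result {G : Type u} [Group G] [Finite G] {p : ℕ} [Fact p.Prime] (W : ∀ (Q : Type u) [Group Q], Subgroup Q) (hW : Cfsg.IsCharPFunctor.{u} p W) (S : Sylow p G) (hN : Cfsg.HasNormalPComplement p ↥(Subgroup.normalizer ((Cfsg.inducedFunctor (G := G) W (S : Subgroup G) : Subgroup G) : Set G))) (hloc : ∀ (K R : Subgroup G) [hR : (R.subgroupOf K).Normal], Subgroup.centralizer ((Cfsg.pCore p (↥K ⧸ R.subgroupOf K) : Subgroup (↥K ⧸ R.subgroupOf K)) : Set (↥K ⧸ R.subgroupOf K)) ≤ Cfsg.pCore p (↥K ⧸ R.subgroupOf K) → Cfsg.HasNormalPComplement p ((↥K ⧸ R.subgroupOf K) ⧸ Cfsg.pCore p (↥K ⧸ R.subgroupOf K)) → ∀ T : Sylow p (↥K ⧸ R.subgroupOf K), IsCoatom (T : Subgroup (↥K ⧸ R.subgroupOf K)) → (Cfsg.inducedFunctor (G := (↥K ⧸ R.subgroupOf K)) W ((T : Subgroup (↥K ⧸ R.subgroupOf K)))).Normal) : Cfsg.HasNormalPComplement p G := by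
  refine KInf.hasNormalPComplement_of_minimal hW (fun Y _ _ hY hC hQ _ T hT _ hn => ?_) S hN
  refine hn (Control.of_sections
    (P := fun Z _ => Finite Z → Subgroup.centralizer (Cfsg.pCore p Z : Set Z) ≤ Cfsg.pCore p Z →
      Cfsg.HasNormalPComplement p (Z ⧸ Cfsg.pCore p Z) → ∀ T : Sylow p Z, IsCoatom (T : Subgroup Z) →
        (Cfsg.inducedFunctor (G := Z) W (T : Subgroup Z)).Normal) ?_
    (fun K R _ _ => hloc K R) hY inferInstance hC hQ T hT)
  intro Z Z' _ _ e h hfin hC' hQ' T' hT'
  have : Finite Z := Finite.of_equiv Z' e.symm.toEquiv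
  have he : Function.Surjective e.symm.toMonoidHom := e.symm.surjective
  set T₀ := T'.mapSurjective he with hT₀
  have hmap : (T₀ : Subgroup Z).map e.toMonoidHom = T' := by
    rw [hT₀, Sylow.coe_mapSurjective, Subgroup.map_map,
      show e.toMonoidHom.comp e.symm.toMonoidHom = MonoidHom.id Z' from
        MonoidHom.ext e.apply_symm_apply, Subgroup.map_id]
  have hQ₀ : Cfsg.HasNormalPComplement p (Z ⧸ Cfsg.pCore p Z) :=
    (Fusion.hasNormalPComplement_congr
      (QuotientGroup.congr (Cfsg.pCore p Z) (Cfsg.pCore p Z') e (Core.map_pCore e))).mpr hQ'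
  have hT₀co : IsCoatom (T₀ : Subgroup Z) := by
    rw [← (MulEquiv.mapSubgroup e).isCoatom_iff, show MulEquiv.mapSubgroup e (T₀ : Subgroup Z)
      = (T₀ : Subgroup Z).map e.toMonoidHom from rfl, hmap]
    exact hT'
  have h1 := h inferInstance (Control.selfCentral_congr e hC') hQ₀ T₀ hT₀co
  have h2 := Control.inducedFunctor_map hW e.toMonoidHom T₀.2 e.injective.injOn
  rw [hmap] at h2
  rw [h2]
  exact h1.map _ e.surjective

end Cfsg.Agent.S2005
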