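import Cfsg.Statements.S2007
import Cfsg.Agent.Fusion.Transfer
import Cfsg.Agent.Fusion.Residual

set_option autoImplicit false
open Cfsg

namespace Cfsg.Agent.S2007

/-- Let p be a prime, G a finite group with Sylow p-subgroup S, and T a normal subgroup of S containing C_S(T). If N_G(T)/C_G(T) is a p-group (every element of N_G(T) of order prime to p centralizes T), then N_G(T) has a normal p-complement. -/
theorem result {G : Type*} [Group G] [Finite G] {p : ℕ} [Fact p.Prime] (S : Sylow p G) (T : Subgroup G) (hTS : T ≤ (S : Subgroup G)) (hTn : (S : Subgroup G) ≤ Subgroup.normalizer ((T : Subgroup G) : Set G)) (hC : (S : Subgroup G) ⊓ Subgroup.centralizer ((T : Subgroup G) : Set G) ≤ T) (hN : ∀ g ∈ Subgroup.normalizer ((T : Subgroup G) : Set G), (orderOf g).Coprime p → g ∈ Subgroup.centralizer ((T : Subgroup G) : Set G)) : Cfsg.HasNormalPComplement p ↥(Subgroup.normalizer ((T : Subgroup G) : Set G)) := by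
  set N := Subgroup.normalizer ((T : Subgroup G) : Set G)
  set C := Subgroup.centralizer ((T : Subgroup G) : Set G)
  obtain ⟨Q⟩ : Nonempty (Sylow p C) := inferInstance
  have hCN : C ≤ N := Subgroup.centralizer_le_normalizer (T : Set G)
  have hQT : ∀ q : C, q ∈ (Q : Subgroup C) → (q : G) ∈ T := by
    intro q hq
    obtain ⟨R, hR⟩ := (Q.isPGroup'.map (Subgroup.inclusion hCN)).exists_le_sylow
    obtain ⟨n, hn⟩ := MulAction.exists_smul_eq N (S.subtype hTn) R
    have hm : Subgroup.inclusion hCN q ∈ ((n • S.subtype hTn : Sylow p N) : Subgroup N) := by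
      rw [hn]; exact hR ⟨q, hq, rfl⟩
    rw [Sylow.coe_subgroup_smul] at hm
    obtain ⟨s, hs, hse⟩ := hm
    have hsq : (n : G) * (s : G) * (n : G)⁻¹ = (q : G) := congrArg Subtype.val hse
    have hsC : (s : G) ∈ C := by
      rw [Subgroup.mem_centralizer_iff]
      intro t ht
      have h1 := Subgroup.mem_centralizer_iff.mp q.2 ((n : G) * t * (n : G)⁻¹)
        ((Subgroup.mem_normalizer_iff.mp n.2 t).mp ht)
      rw [← hsq] at h1
      have := congrArg (fun y => (n : G)⁻¹ * y * (n : G)) h1
      simpa [mul_assoc] using this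
    rw [← hsq]
    exact (Subgroup.mem_normalizer_iff.mp n.2 _).mp (hC ⟨hs, hsC⟩)
  have hburn : Cfsg.HasNormalPComplement p C :=
    Cfsg.Agent.Fusion.hasNormalPComplement_of_normalizer_le_centralizer Q fun x _ => by
      rw [Subgroup.mem_centralizer_iff]
      intro q hq
      exact Subtype.ext (Subgroup.mem_centralizer_iff.mp x.2 _ (hQT q hq))
  rw [Cfsg.Agent.Fusion.hasNormalPComplement_iff, ← Subgroup.card_map_of_injective N.subtype_injective]
  refine (Cfsg.Agent.Fusion.coprime_card_pResidual_of_hasNormalPComplement hburn).coprime_dvd_left ?_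
  rw [← Subgroup.card_map_of_injective C.subtype_injective]
  refine Subgroup.card_dvd_of_le ?_
  rw [Cfsg.pResidual, MonoidHom.map_closure, Subgroup.closure_le]
  rintro _ ⟨g, hg, rfl⟩
  have hg' : (orderOf (g : G)).Coprime p := by rwa [Subgroup.orderOf_coe]
  refine ⟨⟨g, hN g g.2 hg'⟩, Cfsg.Agent.Fusion.mem_pResidual_of_coprime ?_, rfl⟩
  rwa [Subgroup.orderOf_mk]

end Cfsg.Agent.S2007
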