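import Cfsg.Statements.S2008
import Cfsg.Agent.Techniques.FourGroupInversion

set_option autoImplicit false
open Cfsg

namespace Cfsg.Agent.S2008

/-- Let H be a finite group and z an involution such that every proper normal subgroup of H meets the centralizer of z trivially, and suppose z lies in a Klein four-subgroup E of H all three of whose involutions are conjugate to z in H. Then H has no non-trivial abelian normal subgroup. -/
theorem result {H : Type*} [Group H] [Finite H] (z : H) (hz : orderOf z = 2) (hN : ∀ N : Subgroup H, N.Normal → N ≠ ⊤ → N ⊓ Subgroup.centralizer ({z} : Set H) = ⊥) (E : Subgroup H) (hE : IsKleinFour ↥E) (hzE : z ∈ E) (hc : ∀ e ∈ E, e ≠ 1 → IsConj z e) (N : Subgroup H) [N.Normal] (hab : IsMulCommutative ↥N) : N = ⊥ := by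
  refine Cfsg.Agent.Techniques.eq_bot_of_fourGroup z hz hN E hE hzE hc N ?_
  rintro rfl
  -- an abelian group has singleton conjugacy classes
  obtain ⟨e, he, he1, hez⟩ : ∃ e ∈ E, e ≠ 1 ∧ e ≠ z := by
    by_contra h
    push Not at h
    have : (E : Set H) ⊆ {1, z} := fun x hx => by
      rcases eq_or_ne x 1 with h1 | h1
      · exact Or.inl h1
      · exact Or.inr (h x hx h1)
    have h4 : Nat.card E ≤ 2 := le_trans (Nat.card_mono (Set.toFinite _) this) (by
      rw [Nat.card_coe_set_eq]; exact le_trans (Set.ncard_insert_le _ _) (by simp))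
    rw [hE.card_four] at h4
    omega
  obtain ⟨g, hg⟩ := isConj_iff.1 (hc e he he1)
  have := congrArg Subtype.val (hab.1.comm (⟨g, Subgroup.mem_top g⟩ : (⊤ : Subgroup H)) ⟨z, Subgroup.mem_top z⟩)
  simp only [Subgroup.coe_mul] at this
  exact hez (by rw [← hg, this, mul_inv_cancel_right])

end Cfsg.Agent.S2008
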