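import Cfsg.Statements.S2010
import Cfsg.Agent.QdFree.ClassTwo
import Cfsg.Agent.Thompson.Factorizable
import Cfsg.Agent.Core.Fitting
import Cfsg.Agent.QdFree.Control

set_option autoImplicit false
open Cfsg
open Subgroup
open Cfsg.Agent
open scoped commutatorElement

namespace Cfsg.Agent.S2010

/-- Let G be a finite solvable group with no section isomorphic to the symmetric group of degree 4, whose Sylow 2-subgroup S has nilpotency class at most 2. Then G = N_G(J_e(S)) · O_{2'}(G), where J_e(S) is the subgroup generated by the elementary abelian subgroups of S of largest order. -/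
theorem result {G : Type*} [Group G] [Finite G]
    [Group.IsSolvable G] (hS4 : ¬ Cfsg.Involves (Equiv.Perm (Fin 4)) G) (S : Sylow 2 G)
    (hcl : Subgroup.lowerCentralSeries (S : Subgroup G) 2 = ⊥) :
    Subgroup.normalizer ((Cfsg.thompsonSubgroupOf 2 (S : Subgroup G)) : Set G) ⊔ Cfsg.pPrimeCore 2 G = ⊤ := by
  classical
  set O := Cfsg.pPrimeCore 2 G
  let f : G →* G ⧸ O := QuotientGroup.mk' O
  have hf : Function.Surjective f := QuotientGroup.mk'_surjective O
  have hkerO : f.ker = O := QuotientGroup.ker_mk' O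
  have hker : (Nat.card f.ker).Coprime 2 := by rw [hkerO]; exact Core.coprime_card_pPrimeCore
  set Sb : Sylow 2 (G ⧸ O) := S.mapSurjective hf
  have hSb : (Sb : Subgroup (G ⧸ O)) = (S : Subgroup G).map f := Sylow.coe_mapSurjective hf S
  have hcl' : ∀ s ∈ (Sb : Subgroup (G ⧸ O)), ∀ t ∈ (Sb : Subgroup (G ⧸ O)),
      ∀ r ∈ (Sb : Subgroup (G ⧸ O)), Commute ⁅s, t⁆ r := by
    rw [hSb]
    rintro _ ⟨s, hs, rfl⟩ _ ⟨t, ht, rfl⟩ _ ⟨r, hr, rfl⟩
    rw [← map_commutatorElement]
    refine Commute.map ?_ f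
    refine commutatorElement_eq_one_iff_commute.mp (mem_bot.mp ?_)
    rw [← hcl]
    exact commutator_mem_commutator (commutator_mem_commutator hs ht) hr
  set T := Cfsg.pCore 2 (G ⧸ O)
  have hTp : IsPGroup 2 T := Core.pCore_isPGroup
  have : Group.IsSolvable (G ⧸ O) := solvable_of_surjective hf
  have hCT : centralizer (T : Set (G ⧸ O)) ≤ T := by
    have h := Core.centralizer_fittingSubgroup_le (G := G ⧸ O)
    rwa [Layer.fitting_eq_pCore_of_pPrimeCore_eq_bot Core.pPrimeCore_quotient_eq_bot] at h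
  have hS4' : ¬ Cfsg.Involves (Equiv.Perm (Fin 4)) (G ⧸ O) := fun h =>
    hS4 (QdFree.involves_of_surjective h hf)
  set X := (G ⧸ O) ⧸ T
  have : Group.IsSolvable X := solvable_of_surjective (QuotientGroup.mk'_surjective T)
  have hFo : (Nat.card (Cfsg.fittingSubgroup X)).Coprime 2 := by
    refine (Nat.coprime_comm.mp ((Nat.Prime.coprime_iff_not_dvd Nat.prime_two).mpr fun hdvd => ?_))
    obtain ⟨P⟩ := (inferInstance : Nonempty (Sylow 2 (Cfsg.fittingSubgroup X)))
    have hPn : (P : Subgroup (Cfsg.fittingSubgroup X)).Normal :=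
      P.normal_of_normalizerCondition Group.normalizerCondition_of_isNilpotent
    have : (P : Subgroup (Cfsg.fittingSubgroup X)).Characteristic := P.characteristic_of_normal hPn
    have hn : ((P : Subgroup (Cfsg.fittingSubgroup X)).map (Cfsg.fittingSubgroup X).subtype).Normal :=
      ConjAct.normal_of_characteristic_of_normal
    have hbot := Core.le_pCore (N := (P : Subgroup (Cfsg.fittingSubgroup X)).map
      (Cfsg.fittingSubgroup X).subtype) (hN := hn) (P.2.map _)
    rw [Core.pCore_quotient_eq_bot, le_bot_iff, map_eq_bot_iff_of_injective _ (subtype_injective _)] at hbot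
    exact P.ne_bot_of_dvd_card hdvd hbot
  have hJle : Cfsg.thompsonSubgroupOf 2 (Sb : Subgroup (G ⧸ O)) ≤ T :=
    Thompson.thompsonOf_le_iff.mpr fun A hAS hA hmax =>
      QdFree.ClassTwo.le_of_maxEA hS4' hTp hCT hFo Core.centralizer_fittingSubgroup_le Sb hcl' hAS hA hmax
  set J := Cfsg.thompsonSubgroupOf 2 (Sb : Subgroup (G ⧸ O))
  have hJn : J.Normal := by
    have hTS : T ≤ (Sb : Subgroup (G ⧸ O)) := Core.pCore_le_sylow Sb
    have heq : J = Cfsg.thompsonSubgroupOf 2 T := by
      have hbig : ∀ A ≤ (Sb : Subgroup (G ⧸ O)), Cfsg.IsElementaryAbelian 2 A →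
          (∀ B ≤ (Sb : Subgroup (G ⧸ O)), Cfsg.IsElementaryAbelian 2 B → Nat.card B ≤ Nat.card A) → A ≤ T :=
        fun A h1 h2 h3 => (Thompson.le_thompsonOf h1 h2 h3).trans hJle
      obtain ⟨A, ⟨hAS, hA⟩, hAmax⟩ := Set.Finite.exists_maximalFor (fun A : Subgroup (G ⧸ O) => Nat.card A)
        {A | A ≤ (Sb : Subgroup (G ⧸ O)) ∧ Cfsg.IsElementaryAbelian 2 A} (Set.toFinite _)
          ⟨⊥, bot_le, Thompson.ea_bot⟩
      have hA' : ∀ B ≤ (Sb : Subgroup (G ⧸ O)), Cfsg.IsElementaryAbelian 2 B → Nat.card B ≤ Nat.card A :=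
        fun B hB hBe => (le_total _ _).elim id fun h => hAmax ⟨hB, hBe⟩ h
      refine le_antisymm (Thompson.thompsonOf_le_iff.mpr fun B hB hBe hBmax =>
        Thompson.le_thompsonOf (hbig B hB hBe hBmax) hBe fun B' hB' => hBmax B' (hB'.trans hTS))
        (Thompson.thompsonOf_le_iff.mpr fun B hB hBe hBmax =>
          Thompson.le_thompsonOf (hB.trans hTS) hBe fun B' hB' hBe' =>
            (hA' B' hB' hBe').trans (hBmax A (hbig A hAS hA hA') hA))
    rw [heq]
    have : (Cfsg.thompsonSubgroup 2 ↥T).Characteristic := Subgroup.characteristic_iff_map_eq.mpr fun e =>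
      Thompson.map_thompson e
    exact ConjAct.normal_of_characteristic_of_normal
  have hinj : Function.Injective (f.comp (S : Subgroup G).subtype) := by
    rw [injective_iff_map_eq_one]
    intro x hx
    have h1 : ((x : G)) ∈ (S : Subgroup G) ⊓ f.ker := ⟨x.2, hx⟩
    rw [Subgroup.inf_eq_bot_of_coprime (Layer.coprime_card_of_isPGroup S.isPGroup' hker), mem_bot] at h1
    exact Subtype.ext h1
  have hmap := Layer.map_normalizer_of_coprime hf hker
    (S.isPGroup'.to_le (Thompson.thompsonOf_le 2 (S : Subgroup G)))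
  rw [Thompson.thompsonOf_map_of_injOn hinj, ← hSb, normalizer_eq_top_iff.mpr hJn] at hmap
  rw [← hkerO]
  refine eq_top_iff.mpr fun x _ => ?_
  have hx : f x ∈ (normalizer (Cfsg.thompsonSubgroupOf 2 (S : Subgroup G) : Set G)).map f := hmap.ge (mem_top _)
  exact (comap_map_eq f _).le hx

end Cfsg.Agent.S2010
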