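import Cfsg.Statements.S2011
import Cfsg.Agent.FusSys.GroupSys
import Cfsg.Agent.Core.PCore

set_option autoImplicit false
open Cfsg

namespace Cfsg.Agent.S2011

set_option maxHeartbeats 400000
open Subgroup
open scoped Pointwise

/-- Let G be a finite group with Sylow p-subgroup P and Q ≤ P. Then Q is centric in the fusion system of G on P (C_P(R) ≤ R for every G-conjugate R of Q lying in P) if and only if C_G(Q) is the internal direct product of Z(Q) = Q ∩ C_G(Q) and the largest normal subgroup of C_G(Q) of order prime to p. -/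
theorem result {G : Type*} [Group G] [Finite G] (p : ℕ) [Fact p.Prime] (P : Sylow p G) (Q : Subgroup G) (hQ : Q ≤ P) : (Cfsg.groupFusionSystem (P : Subgroup G)).IsCentric Q ↔ Cfsg.IsInternalDirectProduct (Q ⊓ Subgroup.centralizer (Q : Set G)) ((Cfsg.pPrimeCore p ↥(Subgroup.centralizer (Q : Set G))).map (Subgroup.centralizer (Q : Set G)).subtype) (Subgroup.centralizer (Q : Set G)) := by
  set C := centralizer (Q : Set G) with hC
  set Z := Q ⊓ C with hZ
  set O := (Cfsg.pPrimeCore p ↥C).map C.subtype with hO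
  have hQp : IsPGroup p Q := P.isPGroup'.to_le hQ
  constructor
  · intro hc
    -- a Sylow subgroup of `C` lies in `Z`
    obtain ⟨T⟩ := (inferInstance : Nonempty (Sylow p C))
    have hTQ : (T : Subgroup C).map C.subtype ≤ Z := by
      set T' := (T : Subgroup C).map C.subtype with hT'
      have hT'C : T' ≤ C := map_subtype_le _
      have hU : IsPGroup p (T' ⊔ Q : Subgroup G) :=
        (T.isPGroup'.map _).to_sup_of_normal_right' hQp
          (hT'C.trans (centralizer_le_normalizer _))
      obtain ⟨S', hS'⟩ := hU.exists_le_sylow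
      obtain ⟨g, hg⟩ := MulAction.exists_smul_eq G S' P
      have hmem : ∀ x ∈ T' ⊔ Q, g * x * g⁻¹ ∈ (P : Subgroup G) := fun x hx => by
        rw [← hg]
        exact ⟨x, hS' hx, rfl⟩
      set R := Q.map (MulAut.conj g).toMonoidHom with hR
      have hRP : R ≤ (P : Subgroup G) := by
        rintro _ ⟨x, hx, rfl⟩
        exact hmem x (mem_sup_right hx)
      have hiso := FusSys.iso_gfs (g := g) hQ hRP fun x => by simp [hR, Subgroup.mem_map]
      intro t ht
      have ht' : g * t * g⁻¹ ∈ R := hc.2 R hiso.isConj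
        (mem_inf.mpr ⟨hmem t (mem_sup_left ht), mem_centralizer_iff.mpr fun y hy => by
          obtain ⟨x, hx, rfl⟩ := hy
          have h1 := mem_centralizer_iff.mp (hT'C ht) x hx
          show g * x * g⁻¹ * (g * t * g⁻¹) = g * t * g⁻¹ * (g * x * g⁻¹)
          calc g * x * g⁻¹ * (g * t * g⁻¹) = g * (x * t) * g⁻¹ := by group
            _ = g * (t * x) * g⁻¹ := by rw [h1]
            _ = g * t * g⁻¹ * (g * x * g⁻¹) := by group⟩)
      obtain ⟨x, hx, hxt⟩ := ht'
      have : x = t := mul_left_cancel (mul_right_cancel (show g * x * g⁻¹ = g * t * g⁻¹ from hxt))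
      exact mem_inf.mpr ⟨this ▸ hx, hT'C ht⟩
    have hindex : ¬ p ∣ (Z.subgroupOf C).index := fun hd =>
      T.not_dvd_index (hd.trans (index_dvd_of_le fun t ht => hTQ ⟨t, ht, rfl⟩))
    haveI hZn : (Z.subgroupOf C).Normal := ⟨fun z hz c => by
      have h1 := mem_centralizer_iff.mp c.2 (z : G) (mem_inf.mp (mem_subgroupOf.mp hz)).1
      rw [show c * z * c⁻¹ = z from Subtype.ext (by push_cast; rw [← h1, mul_inv_cancel_right])]
      exact hz⟩
    have hidx : (Z.subgroupOf C).index.Coprime p :=
      ((Fact.out : p.Prime).coprime_iff_not_dvd.mpr hindex).symm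
    obtain ⟨K, hK⟩ := exists_right_complement'_of_coprime (N := Z.subgroupOf C) (by
      obtain ⟨a, ha⟩ := IsPGroup.iff_card.mp ((hQp.to_le (inf_le_left : Z ≤ Q)).comap_of_injective
        C.subtype C.subtype_injective)
      rw [show Nat.card (Z.subgroupOf C) = p ^ a from ha]
      exact hidx.symm.pow_left a)
    have hcomm : ∀ z ∈ Z.subgroupOf C, ∀ c : C, c * z = z * c := fun z hz c => by
      apply Subtype.ext
      exact (mem_centralizer_iff.mp c.2 (z : G) (mem_inf.mp (mem_subgroupOf.mp hz)).1).symm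
    haveI : K.Normal := by
      rw [← normalizer_eq_top_iff, eq_top_iff, ← hK.sup_eq_top]
      refine sup_le (fun z hz => mem_normalizer_iff.mpr fun k => ?_) Subgroup.le_normalizer
      rw [← hcomm z hz k, mul_inv_cancel_right]
    have hKO : K ≤ Cfsg.pPrimeCore p C := Core.le_pPrimeCore (by
      rw [← hK.symm.index_eq_card]; exact hidx)
    refine ⟨inf_le_right, map_subtype_le _, ?_, ?_, ?_⟩
    · rintro a ha _ ⟨b, -, rfl⟩
      exact mem_centralizer_iff.mp b.2 a (mem_inf.mp ha).1
    · refine inf_eq_bot_of_coprime ?_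
      obtain ⟨a, ha⟩ := IsPGroup.iff_card.mp (hQp.to_le (inf_le_left : Z ≤ Q))
      rw [ha, hO, card_map_of_injective C.subtype_injective]
      exact (Core.coprime_card_pPrimeCore (G := C) (p := p)).symm.pow_left a
    · refine le_antisymm (sup_le inf_le_right (map_subtype_le _)) ?_
      intro c hc'
      have h := (sup_le_sup (le_refl (Z.subgroupOf C)) hKO) (hK.sup_eq_top ▸ mem_top (⟨c, hc'⟩ : C))
      have h2 := mem_map_of_mem C.subtype h
      rw [Subgroup.map_sup, map_subgroupOf_eq_of_le (inf_le_right : Z ≤ C)] at h2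
      exact h2
  · rintro ⟨-, hOC, hcm, -, hsup⟩
    refine ⟨hQ, fun R hR => ?_⟩
    obtain ⟨f, hf⟩ := Cfsg.Agent.FusSys.isConj_iff.1 hR
    obtain ⟨g, -, hg⟩ := hf.exists_conj_gfs
    intro x hx
    obtain ⟨hxP, hxR⟩ := mem_inf.mp hx
    have hc : g⁻¹ * x * g ∈ C := mem_centralizer_iff.mpr fun q hq => by
      have h1 := mem_centralizer_iff.mp hxR _ ((hg q).1 hq)
      calc q * (g⁻¹ * x * g) = g⁻¹ * ((g * q * g⁻¹) * x) * g := by group
        _ = g⁻¹ * (x * (g * q * g⁻¹)) * g := by rw [h1]
        _ = g⁻¹ * x * g * q := by group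
    rw [← hsup] at hc
    have hc' : g⁻¹ * x * g ∈ ((Z : Set G) * (O : Set G)) := by
      rw [← coe_mul_of_left_le_normalizer_right]
      · exact hc
      · intro z hz
        refine mem_normalizer_iff.mpr fun k => ⟨fun hk => ?_, fun hk => ?_⟩
        · rwa [hcm z hz k hk, mul_inv_cancel_right]
        · have h1 := hcm z hz _ hk
          have : z * k * z⁻¹ = k := by
            have h2 : z * (z * k * z⁻¹) = z * k := by rw [h1]; group
            exact mul_left_cancel h2
          rwa [← this]
    obtain ⟨z, hz, k, hk, hzk : z * k = g⁻¹ * x * g⟩ := hc'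
    have hk1 : k = 1 := by
      have hx' : ∃ n, orderOf (g⁻¹ * x * g) = p ^ n := by
        obtain ⟨n, hn⟩ := IsPGroup.iff_orderOf.mp P.isPGroup' ⟨x, hxP⟩
        refine ⟨n, ?_⟩
        rw [← Subgroup.orderOf_coe] at hn
        rw [← hn]
        simpa using (SemiconjBy.orderOf_eq g⁻¹ (x := x) (y := g⁻¹ * x * g)
          (by simp [SemiconjBy, mul_assoc])).symm
      obtain ⟨n, hn⟩ := hx'
      obtain ⟨m, hm⟩ := IsPGroup.iff_orderOf.mp (hQp.to_le (inf_le_left : Z ≤ Q)) ⟨z, hz⟩
      rw [← Subgroup.orderOf_coe] at hm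
      have hpow : k ^ (p ^ (n + m)) = 1 := by
        have h1 : (g⁻¹ * x * g) ^ (p ^ (n + m)) = 1 := by
          rw [pow_add, pow_mul, ← hn, pow_orderOf_eq_one, one_pow]
        have h2 : z ^ (p ^ (n + m)) = 1 := by
          rw [pow_add, mul_comm, pow_mul, ← hm]
          simp [pow_orderOf_eq_one]
        rw [← hzk, (show Commute z k from hcm z hz k hk).mul_pow, h2, one_mul] at h1
        exact h1
      have hkO : orderOf k ∣ Nat.card O :=
        (Subgroup.orderOf_mk k hk) ▸ orderOf_dvd_natCard _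
      refine orderOf_eq_one_iff.mp (Nat.eq_one_of_dvd_coprimes ?_ hkO (orderOf_dvd_of_pow_eq_one hpow))
      rw [hO, card_map_of_injective C.subtype_injective]
      exact (Core.coprime_card_pPrimeCore (G := C) (p := p)).pow_right _
    rw [hk1, mul_one] at hzk
    have hzQ : z ∈ Q := (mem_inf.mp hz).1
    have := (hg z).1 hzQ
    rwa [hzk, show g * (g⁻¹ * x * g) * g⁻¹ = x by group] at this

end Cfsg.Agent.S2011
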