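import Cfsg.Statements.S2014
import Cfsg.Agent.Fusion.Residual

set_option autoImplicit false
open Cfsg

namespace Cfsg.Agent.S2014

/-- Let P be a Sylow p-subgroup of a finite group G and A, C ≤ P subgroups conjugate in G, with C extremal: N_P(C) is a Sylow p-subgroup of N_G(C). Then there is g with gAg⁻¹ = C and g N_P(A) g⁻¹ ≤ N_P(C); moreover, given any h with hAh⁻¹ = C, g can be chosen so that h g⁻¹ lies in O^p(N_G(C)), the subgroup of N_G(C) generated by its elements of order prime to p. -/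
theorem result {G : Type*} [Group G] [Finite G] (p : ℕ) [Fact p.Prime] (P : Sylow p G) (A C : Subgroup G) (hA : A ≤ P) (hC : C ≤ P) (hext : ¬ p ∣ ((P : Subgroup G) ⊓ Subgroup.normalizer ((C : Subgroup G) : Set G)).relIndex (Subgroup.normalizer ((C : Subgroup G) : Set G))) (h : G) (hh : A.map (MulAut.conj h).toMonoidHom = C) : ∃ g : G, A.map (MulAut.conj g).toMonoidHom = C ∧ ((P : Subgroup G) ⊓ Subgroup.normalizer ((A : Subgroup G) : Set G)).map (MulAut.conj g).toMonoidHom ≤ (P : Subgroup G) ⊓ Subgroup.normalizer ((C : Subgroup G) : Set G) ∧ h * g⁻¹ ∈ (Cfsg.pResidual p ↥(Subgroup.normalizer ((C : Subgroup G) : Set G))).map (Subgroup.normalizer ((C : Subgroup G) : Set G)).subtype := by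
  set N := Subgroup.normalizer ((C : Subgroup G) : Set G)
  set P0 := ((P : Subgroup G) ⊓ N).subgroupOf N
  have hP0 : IsPGroup p P0 := (P.isPGroup'.to_le inf_le_left).comap_of_injective _ N.subtype_injective
  let PN : Sylow p N := hP0.toSylow hext
  have hPN : (PN : Subgroup N) = P0 := hP0.toSylow_coe hext
  set R := (((P : Subgroup G) ⊓ Subgroup.normalizer (A : Set G)).map (MulAut.conj h).toMonoidHom)
  have hRN : R ≤ N := by
    rintro _ ⟨x, hx, rfl⟩
    rw [Subgroup.mem_normalizer_iff]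
    intro y
    show y ∈ C ↔ h * x * h⁻¹ * y * (h * x * h⁻¹)⁻¹ ∈ C
    rw [← hh, Subgroup.mem_map_equiv, Subgroup.mem_map_equiv, MulAut.conj_symm_apply,
      MulAut.conj_symm_apply, Subgroup.mem_normalizer_iff.mp hx.2 (h⁻¹ * y * h)]
    have e : h⁻¹ * (h * x * h⁻¹ * y * (h * x * h⁻¹)⁻¹) * h = x * (h⁻¹ * y * h) * x⁻¹ := by group
    rw [e]
  have hR : IsPGroup p (R.subgroupOf N) :=
    (IsPGroup.map (P.isPGroup'.to_le inf_le_left) _).comap_of_injective _ N.subtype_injective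
  obtain ⟨Q, hQ⟩ := hR.exists_le_sylow
  obtain ⟨n, hn⟩ := MulAction.exists_smul_eq N Q PN
  obtain ⟨u, hu, k, hk, huk⟩ := Subgroup.mem_sup_of_normal_right.mp
    ((Cfsg.Agent.Fusion.sylow_sup_pResidual PN).ge (Subgroup.mem_top n))
  refine ⟨(k : G) * h, ?_, ?_, ?_⟩
  · ext y
    rw [← hh, Subgroup.mem_map_equiv, Subgroup.mem_map_equiv, MulAut.conj_symm_apply,
      MulAut.conj_symm_apply]
    have hkC := Subgroup.mem_normalizer_iff.mp (inv_mem k.2) y
    rw [← hh, Subgroup.mem_map_equiv, Subgroup.mem_map_equiv, MulAut.conj_symm_apply,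
      MulAut.conj_symm_apply] at hkC
    have e : (k * h)⁻¹ * y * (k * h) = h⁻¹ * ((k : G)⁻¹ * y * (k : G)⁻¹⁻¹) * h := by group
    rw [e]
    exact hkC.symm
  · rintro _ ⟨x, hx, rfl⟩
    show (k : G) * h * x * ((k : G) * h)⁻¹ ∈ _
    have hxR : (⟨h * x * h⁻¹, hRN ⟨x, hx, rfl⟩⟩ : N) ∈ (Q : Subgroup N) := hQ ⟨x, hx, rfl⟩
    have hm : n * ⟨h * x * h⁻¹, hRN ⟨x, hx, rfl⟩⟩ * n⁻¹ ∈ (PN : Subgroup N) := by
      rw [← hn, Sylow.coe_subgroup_smul]
      exact ⟨_, hxR, rfl⟩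
    rw [← huk] at hm
    have hm' := mul_mem (mul_mem (inv_mem hu) hm) hu
    have e : u⁻¹ * (u * k * ⟨h * x * h⁻¹, hRN ⟨x, hx, rfl⟩⟩ * (u * k)⁻¹) * u
        = k * ⟨h * x * h⁻¹, hRN ⟨x, hx, rfl⟩⟩ * k⁻¹ := by group
    rw [e, hPN] at hm'
    have e2 : (k : G) * h * x * ((k : G) * h)⁻¹ = (k : G) * (h * x * h⁻¹) * (k : G)⁻¹ := by group
    rw [e2]
    exact hm'
  · refine ⟨k⁻¹, inv_mem hk, ?_⟩
    show (k : G)⁻¹ = h * ((k : G) * h)⁻¹
    group

end Cfsg.Agent.S2014
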