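import Cfsg.Statements.S2055
import Cfsg.Agent.Fi24Mult.Bound
import Cfsg.Agent.Fi24Mult.Cover
import Cfsg.Agent.ProjExt.Stem

set_option autoImplicit false
open Cfsg

namespace Cfsg.Agent.S2055

/-- The Schur multiplier of the Fischer group Fi₂₄′ (the commutator subgroup of the presented group Fi₂₄) is cyclic of order 3; here the Schur multiplier is described through stem extensions, as in the definitions: surjective homomorphisms onto the group from a finite group, whose kernel is central in that finite group and contained in that finite group's commutator subgroup. -/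
theorem result : Cfsg.HasCyclicSchurMultiplier Cfsg.Spor.Fi24' 3 := by
  haveI := Fact.mk Nat.prime_three
  exact ProjExt.Stem.hasCyclicSchurMultiplier_of Fi24Mult.Cov.covHom Fi24Mult.Cov.covHom_stem
    (mulEquivOfPrimeCardEq (p := 3) Fi24Mult.Cov.card_ker_covHom
      (by rw [Nat.card_congr Multiplicative.toAdd, Nat.card_zmod]))
    fun Γ _ _ σ hσ => Fi24Mult.stem_bound σ hσ

end Cfsg.Agent.S2055
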