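import Cfsg.Statements.S5169
import Cfsg.Agent.GroupSub.CodeFus
import Cfsg.Agent.Compute.M24Base

set_option autoImplicit false
open Cfsg

namespace Cfsg.Agent.S5169

open Cfsg.Agent.GroupSub
open Cfsg.Agent.Compute (rep24 inM24B)

open scoped Pointwise

/-- Membership test for M23. -/
noncomputable def inM23B (g : ℕ) : Bool := inM24B g && Nat.beq (rep24.act g 23) 23

theorem pt_23 : rep24.pt 23 = (none : GolayPt) := by
  rw [Compute.rep24_pt (by norm_num)]; rfl

theorem mem_of_check (g : ℕ) (h : inM23B g = true) : rep24.Ok g ∧ rep24.den g ∈ Cfsg.Spor.M23 := by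
  simp only [inM23B, Bool.and_eq_true, Nat.beq_eq] at h
  obtain ⟨hok, hm⟩ := Compute.mem_M24_of_check h.1
  refine ⟨hok, hm, MulAction.mem_stabilizer_iff.2 ?_⟩
  have e := rep24.act_spec g 23 hok (show 23 < rep24.n from (by decide : 23 < 24))
  rw [h.2, pt_23] at e
  exact e

theorem card_m23 : Nat.card Cfsg.Spor.M23 = 10200960 := by
  have hb := Compute.bases_m24a.1
  have e : Cfsg.Spor.M23 = rep24.chainGroup (Compute.m24aChain.tail) := by
    rw [Cfsg.Spor.M23, Compute.m24_eq, ← pt_23]
    exact Compute.Rep.chainGroup_inf_stabilizer Compute.m24a_check hb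
  rw [e]
  exact (Compute.Rep.card_chainGroup _ (Compute.Rep.checkChain_tail Compute.m24a_check)).trans
    (by decide +kernel)

/-- Certificate for a Sylow 2-subgroup. -/
def cert : CodeFus.Cert where
  xs := [0xb94109ba345c98d7a86831ec448835,
    0xbaeae3bd8595151b352898604188c0,
    0xbceadb48ab33a878290963e2410c20,
    0xbaaac94dc63c5746d9287c024188a0,
    0xb96a68ca676b9eb62862852c44a020,
    0xbcea6b28ac685f03c9285d224189c0,
    0xb96af8ba6ba48c780528636c418940]
  k := 3
  pc := [(0, [53, 10, 36, 8, 48, 32]),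
    (0, [25, 2, 12, 8, 16]),
    (0, [5, 2, 4, 8]),
    (0, [5, 2, 4]),
    (0, [1, 2]),
    (0, [1]),
    (0, [])]
  z := 0xb96af8ba6ba48c780528636c418940
  cols := [130, 260, 776, 792, 1284]
  hists := [[0, 0, 11, 1, 4],
    [0, 8, 8, 0, 0],
    [0, 8, 8, 0, 0],
    [0, 8, 0, 0, 8],
    [0, 0, 8, 0, 8],
    [0, 16, 0, 0, 0],
    [0, 16, 0, 0, 0],
    [16, 0, 0, 0, 0]]
  roots := [[115], [21], [82], [54]]
  steps := [([0], 0xbbd0d2ccf67417461855544241a640, 0xbc10c904ceb3e8b69c558aa641a4a0),
    ([0], 0xba92d34a2f9ad8eb5004804e3aa0a2, 0xbac6a7ca278328d75aa22cc28200c9),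
    ([2], 0xbd5259b1f1049c83a96db503019844, 0xb9ec69ba048b5124aaac58a80184af),
    ([0, 3], 0xbbe243160da8563b1d0c02a4913a74, 0xbade0096b1b0a086988954e5460dc7),
    ([3, 4, 3], 0xbb850b543102c732a50795146235ec, 0xbce4661e140d84071549411636d62f),
    ([0, 5], 0xbc50770e80ad82d848ab7a84c990c9, 0xbb9f11aacb3cd8441815a0522915b0)]
  fin := [[1, 4, 5],
    [3, 4, 3],
    [0, 6],
    [0, 1, 2],
    [1, 3, 5, 1],
    [2, 4],
    [0]]

theorem groupB_ok : cert.groupB inM23B = true := by decide +kernel

theorem squareB_ok : cert.squareB = true := by decide +kernel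

theorem centerB_ok : cert.centerB = true := by decide +kernel

theorem histB_ok : cert.histB = true := by decide +kernel

theorem closedB_ok : cert.closedB inM23B = true := by decide +kernel

/-- The 2-fusion system of the Mathieu group M₂₃ (as the explicit permutation group carved out of the automorphism group of the binary Golay code) on a Sylow 2-subgroup is simple: saturated, over a nontrivial 2-group, with no normal subsystem other than the trivial one and itself. -/
theorem result (S : Sylow 2 Cfsg.Spor.M23) : (Cfsg.groupFusionSystem (S : Subgroup Cfsg.Spor.M23)).IsSimple 2 := by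
  exact CodeFus.isSimple_of_cert Cfsg.Spor.M23 inM23B mem_of_check cert
    groupB_ok squareB_ok centerB_ok histB_ok closedB_ok (m := 79695)
    (by rw [card_m23]; decide +kernel) (by decide) S

end Cfsg.Agent.S5169
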