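import Cfsg.Statements.S2063
import Cfsg.Agent.OutMathieu.Main
import Cfsg.Agent.OutMathieu.DataM23
import Cfsg.Agent.Compute.Mathieu
import Cfsg.Agent.S5169

set_option autoImplicit false
open Cfsg

namespace Cfsg.Agent.S2063

open Cfsg.Agent.OutMathieu
open Cfsg.Agent.Compute (rep24 allBelow_eq_true)
open Cfsg.Agent.S5169 (inM23B cert)

theorem hbase : certM23.baseB inM23B = true := by decide +kernel

theorem hpow : certM23.powB inM23B = true := by decide +kernel

theorem hclass : certM23.classB 0 165 = true := by decide +kernel

theorem hz : certM23.zB inM23B cert.z = true := by decide +kernel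

theorem hsurv : certM23.survB = true := by decide +kernel

theorem hslp : rep24.slpCheck slpM23 [rep24.one, certM23.a, certM23.b]
    Compute.m24aL1.gens = true := by decide +kernel

theorem hzmove : rep24.okb cert.z = true ∧
    Compute.allBelow 24 (fun i => Nat.beq (rep24.act cert.z i) i) = false := by decide +kernel

theorem hlen : certM23.orbs.length = 165 := by decide +kernel

theorem hstep : ∀ j < certM23.orbs.length, ∀ i < certM23.p, certM23.stepB j i = true := by
  intro j hj i hi
  rw [hlen] at hj
  have h := hclass
  rw [OCert.classB, allBelow_eq_true] at h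
  have h' := h j hj
  rw [allBelow_eq_true, Nat.zero_add] at h'
  exact h' i hi

/-- The outer automorphism group of M23 is trivial. -/
theorem result : Nat.card (Cfsg.Out ↥Cfsg.Spor.M23) = 1 := by
  have hle : Cfsg.Spor.M23 ≤ Cfsg.M24 := fun _ hx => hx.1
  have hcard := card_out_le_of_cert hle S5169.mem_of_check (gens := Compute.m24aL1.gens)
    Compute.m23_eq certM23 cert slpM23 hslp S5169.groupB_ok S5169.centerB_ok hzmove hbase hpow
    hstep hz hsurv (m := 79695) (by rw [Compute.card_m23]; decide +kernel) (by decide)
    (show Nat.Prime 23 by norm_num)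
    (by rw [Compute.card_m23, show certM23.p = 23 from rfl]; decide)
  exact le_antisymm (hcard.trans (le_of_eq rfl)) Nat.card_pos

end Cfsg.Agent.S2063
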