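import Cfsg.Statements.S2076
import Cfsg.Agent.LyOut.OfCert
import Cfsg.Agent.DCoset.Ly.Final
-- import your own Cfsg.Agent.* helpers here

set_option autoImplicit false
open Cfsg

namespace Cfsg.Agent.S2076

/-- The outer automorphism group of the Lyons group (the finitely presented group of the definitions) is trivial: every automorphism is inner. -/
theorem result : Nat.card (Cfsg.Out Cfsg.Spor.Ly) = 1 := by
  refine Cfsg.Agent.LyOut.card_out ?_
  obtain ⟨m1, h1, hm⟩ : ∃ m1 : Fin Cfsg.Agent.DCoset.Ly.cover.nLive,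
      Cfsg.Agent.DCoset.Ly.cover.idx m1 = 19530 ∧
      ∀ m : Fin Cfsg.Agent.DCoset.Ly.cover.nLive, m.1 ≠ 0 → m = m1 ∨
        (25 ∣ Cfsg.Agent.DCoset.Ly.cover.idx m ∧ 19530 < Cfsg.Agent.DCoset.Ly.cover.idx m) := by
    decide +kernel
  exact Cfsg.Agent.LyOut.facts_of_cert Cfsg.Agent.DCoset.Ly.steps Cfsg.Agent.DCoset.Ly.cover
    Cfsg.Agent.DCoset.Ly.steps_ok Cfsg.Agent.DCoset.Ly.node_src Cfsg.Agent.DCoset.Ly.valid
    Cfsg.Agent.DCoset.Ly.idx_sum Cfsg.Agent.DCoset.Ly.ly_index.1 Cfsg.Agent.DCoset.Ly.ly_simple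
    Cfsg.Agent.DCoset.Ly.ly_index.2.2 m1 h1 hm

end Cfsg.Agent.S2076
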