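import Cfsg.Statements.S2083
import Cfsg.Agent.DCoset.Th.Aut.Main

set_option autoImplicit false
open Cfsg

namespace Cfsg.Agent.S2083

/-- The outer automorphism group of the Thompson group (the finitely presented group of the definitions) is trivial: every automorphism is inner. -/
theorem result : Nat.card (Cfsg.Out Cfsg.Spor.Th) = 1 := by
  have htop : Cfsg.Inn Cfsg.Spor.Th = ⊤ :=
    eq_top_iff.2 fun α _ => Cfsg.Agent.DCoset.Th.Aut.aut_inner Cfsg.Agent.ThMat.th_big α
  show Nat.card (MulAut Cfsg.Spor.Th ⧸ Cfsg.Inn Cfsg.Spor.Th) = 1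
  rw [← Subgroup.index_eq_card, htop, Subgroup.index_top]

end Cfsg.Agent.S2083
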