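import Cfsg.Statements.S2087
import Cfsg.Agent.S0243
import Cfsg.Agent.S0249
import Cfsg.Agent.S2086
import Cfsg.Agent.Classical.SmallPSL
-- import your own Cfsg.Agent.* helpers here

set_option autoImplicit false
open Cfsg

namespace Cfsg.Agent.S2087

universe u v

private theorem transfer {G : Type u} {G' : Type u} [Group G] [Group G'] (e : G' ≃* G)
    {A : Type v} [CommGroup A] (h : Cfsg.HasSchurMultiplier G' A) : Cfsg.HasSchurMultiplier G A := by
  obtain ⟨⟨Γ, i, j, σ, hσ, ⟨f⟩⟩, h2⟩ := h
  have key : ∀ {Δ : Type u} [Group Δ] {R R' : Type u} [Group R] [Group R'] (ε : R' ≃* R) (τ : Δ →* R'),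
      (ε.toMonoidHom.comp τ).ker = τ.ker := fun ε τ => by
    ext x
    simp
  refine ⟨⟨Γ, i, j, e.toMonoidHom.comp σ, ⟨e.surjective.comp hσ.1, ?_, ?_⟩,
    ⟨(MulEquiv.subgroupCongr (key e σ)).trans f⟩⟩, fun Δ _ _ τ hτ => ?_⟩
  · rw [key e σ]; exact hσ.2.1
  · rw [key e σ]; exact hσ.2.2
  · obtain ⟨π, hπ⟩ := h2 Δ (e.symm.toMonoidHom.comp τ)
      ⟨e.symm.surjective.comp hτ.1, by rw [key e.symm τ]; exact hτ.2.1, by rw [key e.symm τ]; exact hτ.2.2⟩
    exact ⟨(MulEquiv.subgroupCongr (key e.symm τ)).toMonoidHom.comp π,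
      (MulEquiv.subgroupCongr (key e.symm τ)).surjective.comp hπ⟩

/-- Exceptional Schur multiplier: over the field with 2 elements, PSL₃ has Schur multiplier cyclic of order 2 (here the Schur multiplier is described through stem extensions, as in the definitions). -/
theorem result {F : Type*} [Field F] [Fintype F] (hF : Fintype.card F = 2) : Cfsg.HasCyclicSchurMultiplier (Matrix.ProjectiveSpecialLinearGroup (Fin 3) F) 2 := by
  have hcard : Nat.card (Matrix.ProjectiveSpecialLinearGroup (Fin 3) F) = 168 := by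
    have h := S0243.result hF 3 (by norm_num)
    simp only [Fin.prod_univ_three, Fin.val_zero, Fin.val_one, Fin.val_two] at h
    norm_num at h
    exact h
  haveI := S0249.result (F := F) 3 le_rfl
  haveI : Fact (Nat.Prime 7) := ⟨by norm_num⟩
  have hK : Fintype.card (ULift (ZMod 7)) = 7 := by rw [Fintype.card_ulift, ZMod.card]
  obtain ⟨e⟩ := Classical.Small.simple_168_psl hcard hK
  have h7 := S2086.result hK 2 le_rfl (fun _ => by norm_num) (by simp)
  exact transfer e.symm h7

end Cfsg.Agent.S2087
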