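import Cfsg.Statements.S2094
import Cfsg.Agent.DMult.Odd.Main

set_option autoImplicit false
open Cfsg

namespace Cfsg.Agent.S2094

/-- Schur multipliers of the odd-dimensional orthogonal groups: for m ≥ 3 and a field F of odd order q with (m, q) ≠ (3, 3), the Schur multiplier of PΩ_(2m+1)(F) (for the form x₀² + Σ xᵢyᵢ) is cyclic of order 2 = gcd(2, q − 1); here the Schur multiplier is described through stem extensions, as in the definitions. -/
theorem result {F : Type*} [Field F] [Fintype F] {q : ℕ} (hF : Fintype.card F = q) (hq : Odd q) (m : ℕ) (hm : 3 ≤ m) (hexc : ¬ (m = 3 ∧ q = 3)) : Cfsg.HasCyclicSchurMultiplier (Cfsg.POmega F (Cfsg.quadFormOdd m F)) 2 := by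
  classical
  have h2 : (2 : F) ≠ 0 := fun h => by
    obtain ⟨r, hr⟩ := DMult.even_card_of_two h
    obtain ⟨s, hs⟩ := hq
    omega
  refine DMult.multiplierB hm h2 ?_
  by_cases h4 : 4 ≤ m
  · exact Or.inl h4
  refine Or.inr ?_
  have h3 : 3 < Finset.univ.card (α := F) := by
    rw [Finset.card_univ, hF]
    have h1 : 2 ≤ q := hF ▸ Fintype.one_lt_card
    obtain ⟨s, hs⟩ := hq
    have : q ≠ 3 := fun e => hexc ⟨by omega, e⟩
    omega
  obtain ⟨c, -, hc⟩ := Finset.exists_mem_notMem_of_card_lt_card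
    (lt_of_le_of_lt (Finset.card_le_three (a := (0 : F)) (b := 1) (c := -1)) h3)
  simp only [Finset.mem_insert, Finset.mem_singleton, not_or] at hc
  exact ⟨c, hc.1, fun e => (mul_self_eq_one_iff.1 e).elim hc.2.1 hc.2.2⟩

end Cfsg.Agent.S2094
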