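import Cfsg.Statements.S2106
import Cfsg.Agent.ChevExt.TypeE

set_option autoImplicit false
open Cfsg

namespace Cfsg.Agent.S2106

/-- Schur multipliers of the (adjoint, simple) Chevalley groups of type E₇: over a field with q elements the Schur multiplier is cyclic of order gcd(2, q − 1) (here the Schur multiplier is described through stem extensions, as in the definitions). -/
theorem result {F : Type*} [Field F] [Fintype F] {q : ℕ} (hF : Fintype.card F = q) : Cfsg.HasCyclicSchurMultiplier ↥(Cfsg.Lie.chevE7.group F) (Nat.gcd 2 (q - 1)) := by
  subst hF
  open Cfsg.Agent.Chev Cfsg.Agent.ChevExt in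
  exact multiplier_adjoint certE7 extra_chevE7 facts_chevE7 e7_perfect e7_hTor_injective
    e7_cyclic_ker e7_card_ker

end Cfsg.Agent.S2106
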