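import Cfsg.Statements.S2107
import Cfsg.Agent.ChevExt.Main
import Cfsg.Agent.ChevExt.Data.E8

set_option autoImplicit false
open Cfsg

namespace Cfsg.Agent.S2107

/-- Schur multipliers of the Chevalley groups of type E₈: over every finite field the Schur multiplier of E₈(q) is trivial (here the Schur multiplier is described through stem extensions, as in the definitions). -/
theorem result {F : Type*} [Field F] [Fintype F] : Cfsg.HasCyclicSchurMultiplier ↥(Cfsg.Lie.chevE8.group F) 1 := by
  open Cfsg.Agent.Chev Cfsg.Agent.ChevExt in
  exact Cfsg.Agent.ProjExt.Stem.hasCyclicSchurMultiplier_one fun Γ _ _ σ hσ =>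
    ker_eq_bot_of_unimodular facts_chevE8 certE8 extra_chevE8
      (torusHom_injective e8_checks facts_chevE8 e8_smith (by decide)) σ hσ

end Cfsg.Agent.S2107
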