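import Cfsg.Statements.S2111
import Cfsg.Agent.Suzuki.Multiplier
import Cfsg.Agent.ProjExt.Stem
-- import your own Cfsg.Agent.* helpers here

set_option autoImplicit false
open Cfsg
open Cfsg.Agent

namespace Cfsg.Agent.S2111

/-- Schur multipliers of the Suzuki groups: for q = 2^(2m+1) with m ≥ 2 the Schur multiplier of Sz(q) is trivial (here the Schur multiplier is described through stem extensions, as in the definitions); q = 8 is exceptional. -/
theorem result {F : Type*} [Field F] [Fintype F] {m : ℕ} (hm : 2 ≤ m) (hF : Fintype.card F = 2 ^ (2 * m + 1)) : Cfsg.HasCyclicSchurMultiplier ↥(Cfsg.Lie.Sz F (2 ^ (m + 1))) 1 := by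
  obtain ⟨e⟩ := Suzuki.nonempty_equiv (show 1 ≤ m by omega) hF
  refine ProjExt.Stem.hasCyclicSchurMultiplier_one fun Γ _ _ σ hσ => ?_
  have hker : (e.symm.toMonoidHom.comp σ).ker = σ.ker := by
    ext x
    simp [MonoidHom.mem_ker]
  rw [← hker]
  refine Suzuki.trivial_multiplier hm hF _ ⟨e.symm.surjective.comp hσ.1, ?_, ?_⟩ <;> rw [hker]
  · exact hσ.2.1
  · exact hσ.2.2

end Cfsg.Agent.S2111
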