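import Cfsg.Statements.S2122
import Cfsg.Agent.ChevAut.OutIndex
import Cfsg.Agent.Chev.WeylAll
-- import your own Cfsg.Agent.* helpers here

set_option autoImplicit false
open Cfsg

namespace Cfsg.Agent.S2122

/-- Outer automorphisms of the Chevalley groups of type F₄: over a field with q = p^f (p prime) elements, the outer automorphism group of F₄(q) has order gcd(2, p) · f (field automorphisms, and in characteristic 2 also the exceptional graph automorphism). -/
theorem result {F : Type*} [Field F] [Fintype F] (p f : ℕ) [Fact p.Prime] [CharP F p] (hF : Fintype.card F = p ^ f) : Nat.card (Cfsg.Out ↥(Cfsg.Lie.chevF4.group F)) = Nat.gcd 2 p * f := by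
  have hf : 1 ≤ f := Nat.one_le_iff_ne_zero.2 fun h => by
    rw [h, pow_zero] at hF; exact absurd hF Fintype.one_lt_card.ne'
  have hD : Cfsg.Lie.chevF4 ∈ [Cfsg.Lie.chevG2, Cfsg.Lie.chevB2, Cfsg.Lie.chevD4, Cfsg.Lie.chevF4,
    Cfsg.Lie.chevE6, Cfsg.Lie.chevE7, Cfsg.Lie.chevE8] := by simp
  have hN : 1 * Nat.card ↥(Cfsg.Lie.chevF4.diagonalSubgroup F) =
      (Fintype.card F - 1) ^ Cfsg.Lie.chevF4.rank := by
    have := Chev.f4_card_diagonal F
    simpa [Fin.prod_univ_succ] using this
  have hc : ringChar F = p := ringChar.eq F p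
  by_cases h2 : p = 2
  · subst h2
    rw [ChevAut.card_out (Chev.facts_of_mem hD) (ChevAut.autFacts_of_mem hD) hD hf hF hN
      (ChevAut.f4_index_two hc), mul_one]
    rfl
  · rw [ChevAut.card_out (Chev.facts_of_mem hD) (ChevAut.autFacts_of_mem hD) hD hf hF hN
      (ChevAut.f4_index_other (by rw [hc]; exact h2)), one_mul, one_mul,
      (Nat.coprime_primes Nat.prime_two Fact.out).2 (Ne.symm h2), one_mul]

end Cfsg.Agent.S2122
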