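import Cfsg.Statements.S2123
import Cfsg.Agent.ChevAut.OutIndex
import Cfsg.Agent.Chev.WeylAll
-- import your own Cfsg.Agent.* helpers here

set_option autoImplicit false
open Cfsg

namespace Cfsg.Agent.S2123

/-- Outer automorphisms of the (adjoint, simple) Chevalley groups of type E₆: over a field with q = p^f (p prime) elements, the outer automorphism group of E₆(q) has order 2 · gcd(3, q − 1) · f (diagonal, field and graph automorphisms). -/
theorem result {F : Type*} [Field F] [Fintype F] (p f : ℕ) [Fact p.Prime] [CharP F p] (hF : Fintype.card F = p ^ f) : Nat.card (Cfsg.Out ↥(Cfsg.Lie.chevE6.group F)) = 2 * Nat.gcd 3 (p ^ f - 1) * f := by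
  have hf : 1 ≤ f := Nat.one_le_iff_ne_zero.2 fun h => by
    rw [h, pow_zero] at hF; exact absurd hF Fintype.one_lt_card.ne'
  have hD : Cfsg.Lie.chevE6 ∈ [Cfsg.Lie.chevG2, Cfsg.Lie.chevB2, Cfsg.Lie.chevD4, Cfsg.Lie.chevF4,
    Cfsg.Lie.chevE6, Cfsg.Lie.chevE7, Cfsg.Lie.chevE8] := by simp
  have hN : Nat.gcd 3 (p ^ f - 1) * Nat.card ↥(Cfsg.Lie.chevE6.diagonalSubgroup F) =
      (Fintype.card F - 1) ^ Cfsg.Lie.chevE6.rank := by
    have := Chev.e6_card_diagonal F
    simpa [Fin.prod_univ_succ, hF, Nat.gcd_comm] using this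
  rw [ChevAut.card_out (Chev.facts_of_mem hD) (ChevAut.autFacts_of_mem hD) hD hf hF hN
    ChevAut.e6_index]

end Cfsg.Agent.S2123
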