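import Cfsg.Statements.S2125
import Cfsg.Agent.ChevAut.OutIndex
import Cfsg.Agent.Chev.WeylAll
-- import your own Cfsg.Agent.* helpers here

set_option autoImplicit false
open Cfsg

namespace Cfsg.Agent.S2125

/-- Outer automorphisms of the Chevalley groups of type E₈: over a field with p^f elements, p prime, the outer automorphism group of E₈(p^f) has order f (field automorphisms only). -/
theorem result {F : Type*} [Field F] [Fintype F] (p f : ℕ) [Fact p.Prime] [CharP F p] (hF : Fintype.card F = p ^ f) : Nat.card (Cfsg.Out ↥(Cfsg.Lie.chevE8.group F)) = f := by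
  have hf : 1 ≤ f := Nat.one_le_iff_ne_zero.2 fun h => by
    rw [h, pow_zero] at hF; exact absurd hF Fintype.one_lt_card.ne'
  have hD : Cfsg.Lie.chevE8 ∈ [Cfsg.Lie.chevG2, Cfsg.Lie.chevB2, Cfsg.Lie.chevD4, Cfsg.Lie.chevF4,
    Cfsg.Lie.chevE6, Cfsg.Lie.chevE7, Cfsg.Lie.chevE8] := by simp
  have hN : 1 * Nat.card ↥(Cfsg.Lie.chevE8.diagonalSubgroup F) =
      (Fintype.card F - 1) ^ Cfsg.Lie.chevE8.rank := by
    have := Chev.e8_card_diagonal F
    simpa [Fin.prod_univ_succ, hF, Nat.gcd_comm] using this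
  rw [ChevAut.card_out (Chev.facts_of_mem hD) (ChevAut.autFacts_of_mem hD) hD hf hF hN
    (ChevAut.index_eq_one hD F fun _ π hπ _ => ChevAut.eq_one_of_short ChevAut.e8_symList hπ), one_mul, one_mul]

end Cfsg.Agent.S2125
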