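import Cfsg.Statements.S2126
import Cfsg.Agent.Suzuki.Aut
-- import your own Cfsg.Agent.* helpers here

set_option autoImplicit false
open Cfsg
open Cfsg.Agent

namespace Cfsg.Agent.S2126

/-- Outer automorphisms of the Suzuki groups: for q = 2^(2m+1) with m ≥ 1 the outer automorphism group of Sz(q) has order 2m + 1 (field automorphisms only). -/
theorem result {F : Type*} [Field F] [Fintype F] {m : ℕ} (hm : 1 ≤ m) (hF : Fintype.card F = 2 ^ (2 * m + 1)) : Nat.card (Cfsg.Out ↥(Cfsg.Lie.Sz F (2 ^ (m + 1)))) = 2 * m + 1 := by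
  obtain ⟨e⟩ := Suzuki.nonempty_equiv (F := F) hm hF
  rw [← Suzuki.card_out hm hF]
  refine (Nat.card_congr (QuotientGroup.congr (Cfsg.Inn ↥(Cfsg.Sz F m))
    (Cfsg.Inn ↥(Cfsg.Lie.Sz F (2 ^ (m + 1)))) (MulAut.congr e) ?_).toEquiv).symm
  ext x
  constructor
  · rintro ⟨y, ⟨g, rfl⟩, rfl⟩
    exact ⟨e g, MulEquiv.ext fun z => by simp [MulAut.congr]⟩
  · rintro ⟨g, rfl⟩
    exact ⟨MulAut.conj (e.symm g), ⟨_, rfl⟩, MulEquiv.ext fun z => by simp [MulAut.congr]⟩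

end Cfsg.Agent.S2126
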