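import Cfsg.Statements.S2129
import Cfsg.Agent.ChevAut.Twisted.Cases
import Cfsg.Agent.AutPSL.Structure

set_option autoImplicit false
open Cfsg Cfsg.Lie Cfsg.Agent.Chev

namespace Cfsg.Agent.S2129

/-- Outer automorphisms of the triality-twisted groups: for q = p^f (p prime), with the group realised over the field with q³ elements, the outer automorphism group of ³D₄(q) has order 3f (the field automorphisms of the cubic extension). -/
theorem result {K : Type*} [Field K] [Fintype K] (p f : ℕ) [Fact p.Prime] [CharP K p] (hK : Fintype.card K = p ^ (3 * f)) (hf : 1 ≤ f) : Nat.card (Cfsg.Out ↥(Cfsg.Lie.twistedD4 K (p ^ f))) = 3 * f := by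
  have hq : IsPrimePow (p ^ f) := ((Fact.out : p.Prime).isPrimePow).pow (by omega)
  have hK' : Fintype.card K = (p ^ f) ^ 3 := by rw [hK, ← pow_mul, mul_comm]
  obtain ⟨φ, hφ, hq2, hqφ, e⟩ := exists_twistD4 hq hK'
  rw [← e, (twistD4 K φ hφ).card_out1 (q := p ^ f) (fun t => (by have := hqφ 1 t; rwa [pow_one, pow_one] at this : φ t = t ^ (p ^ f)))
    (ChevAut.autFacts_of_mem (by simp)) rfl hf hK' (d4_card_par φ hφ hqφ hq2 hK') (d4_rigid φ hφ)
    (a₀ := (0 : Fin 2)) (show d4Len 0 = 3 by decide +kernel) (d4_link φ hφ hq2 hK' hqφ),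
    d4_card_ker, (AutPSL.card_gal (F := K) (by omega : 1 ≤ 3 * f) hK).2]
  exact one_mul _

end Cfsg.Agent.S2129
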