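import Cfsg.Statements.S2130
import Cfsg.Agent.ChevAut.Twisted.Cases
import Cfsg.Agent.AutPSL.Structure

set_option autoImplicit false
open Cfsg Cfsg.Lie Cfsg.Agent.Chev

namespace Cfsg.Agent.S2130

/-- Outer automorphisms of the twisted groups of type ²E₆: for q = p^f (p prime), with the group realised over the field with q² elements, the outer automorphism group of ²E₆(q) has order 2 · gcd(3, q + 1) · f (diagonal automorphisms and the field automorphisms of the quadratic extension). -/
theorem result {K : Type*} [Field K] [Fintype K] (p f : ℕ) [Fact p.Prime] [CharP K p] (hK : Fintype.card K = p ^ (2 * f)) (hf : 1 ≤ f) : Nat.card (Cfsg.Out ↥(Cfsg.Lie.twistedE6 K (p ^ f))) = 2 * Nat.gcd 3 (p ^ f + 1) * f := by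
  have hq : IsPrimePow (p ^ f) := ((Fact.out : p.Prime).isPrimePow).pow (by omega)
  have hK' : Fintype.card K = (p ^ f) ^ 2 := by rw [hK, ← pow_mul, mul_comm]
  obtain ⟨φ, hφ, hq2, hqφ, e⟩ := exists_twistE6 hq hK'
  rw [← e, (twistE6 K φ hφ).card_out1 (q := p ^ f) (fun t => (by have := hqφ 1 t; rwa [pow_one, pow_one] at this : φ t = t ^ (p ^ f)))
    (ChevAut.autFacts_of_mem (by simp)) rfl hf hK' (e6_card_par φ hφ hqφ hq2 hK') (e6_rigid φ hφ)
    (a₀ := (0 : Fin 4)) (show e6Len 0 = 2 by decide +kernel) (e6_link φ hφ hq2 hK' hqφ),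
    e6_card_ker φ hφ hqφ hq2 hK', (AutPSL.card_gal (F := K) (by omega : 1 ≤ 2 * f) hK).2]
  ring

end Cfsg.Agent.S2130
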