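import Cfsg.Statements.S2140
import Cfsg.Agent.MinIndex.Main

set_option autoImplicit false
open Cfsg

namespace Cfsg.Agent.S2140

open Matrix Cfsg.Agent.MinIndex

variable {ι F : Type*} [Fintype ι] [DecidableEq ι] [Field F] [Finite F]

/-- There is a subgroup above the centre whose index is the number of points. -/
theorem exists_point_stab (hn : 3 ≤ Fintype.card ι) :
    ∃ K : Subgroup (SpecialLinearGroup ι F), Subgroup.center _ ≤ K ∧
      K.index = ∑ i ∈ Finset.range (Fintype.card ι), Nat.card F ^ i := by
  classical
  obtain ⟨i⟩ : Nonempty ι := Fintype.card_pos_iff.1 (by omega)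
  set e : ι → F := Pi.single i 1 with he
  have he0 : e ≠ 0 := single_one_ne_zero i
  set C := Submodule.span F ({e} : Set (ι → F)) with hC
  letI : MulAction (SpecialLinearGroup ι F) (Submodule F (ι → F)) :=
    { smul := fun g P => img P g
      one_smul := fun P => by
        show img P 1 = P
        rw [img, Matrix.SpecialLinearGroup.coe_one, Matrix.mulVecLin_one, Submodule.map_id]
      mul_smul := fun g h P => img_mul P g h }
  refine ⟨MulAction.stabilizer _ C, ?_, ?_⟩
  · intro z hz
    obtain ⟨r, hr, hz'⟩ := Matrix.SpecialLinearGroup.mem_center_iff.1 hz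
    have hr0 : r ≠ 0 := by
      rintro rfl
      rw [zero_pow (by omega)] at hr
      exact zero_ne_one hr
    show img C z = C
    rw [hC, img_line, ← hz']
    have : (Matrix.scalar ι r) *ᵥ e = r • e := by
      funext k
      rw [Matrix.scalar_apply, Matrix.mulVec_diagonal, Pi.smul_apply, smul_eq_mul]
    rw [this, Submodule.span_singleton_smul_eq hr0.isUnit]
  · rw [MulAction.index_stabilizer, ← Nat.card_coe_set_eq]
    apply le_antisymm
    · rw [← card_points]
      have : MulAction.orbit (SpecialLinearGroup ι F) C ⊆
          Set.range (Projectivization.submodule : Projectivization F (ι → F) → Submodule F (ι → F)) := by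
        rintro _ ⟨g, rfl⟩
        have hg : g.1 *ᵥ e ≠ 0 := fun h => he0 (by
          have h2 := congrArg (fun x => (g⁻¹ : SpecialLinearGroup ι F).1 *ᵥ x) h
          simp only [mulVec_mulVec, ← Matrix.SpecialLinearGroup.coe_mul, inv_mul_cancel,
            Matrix.SpecialLinearGroup.coe_one, one_mulVec, mulVec_zero] at h2
          exact h2)
        refine ⟨Projectivization.mk F _ hg, ?_⟩
        rw [Projectivization.submodule_mk]
        show _ = img C g
        rw [hC, img_line]
      refine (Nat.card_mono (Set.toFinite _) this).trans ?_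
      rw [Nat.card_range_of_injective Projectivization.submodule_injective]
    · refine (card_points_le_orbit hn C (by simpa [hC] using he0) ?_).trans (le_of_eq rfl)
      intro h
      have h1 := finrank_span_singleton (K := F) he0
      rw [← hC, h, finrank_top, Module.finrank_fintype_fun_eq_card] at h1
      omega

/-- Minimal index of a proper subgroup of the linear groups: for n ≥ 3 and a field F with q elements, (n, q) ≠ (4, 2), every proper subgroup of PSL_n(F) has index at least (q^n − 1)/(q − 1), and some subgroup has exactly that index (the stabiliser of a point of the projective space). -/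
theorem result {F : Type*} [Field F] [Fintype F] {q : ℕ} (hF : Fintype.card F = q) (n : ℕ) (hn : 3 ≤ n) (hexc : ¬ (n = 4 ∧ q = 2)) : (∀ H : Subgroup (Matrix.ProjectiveSpecialLinearGroup (Fin n) F), H ≠ ⊤ → (q ^ n - 1) / (q - 1) ≤ H.index) ∧ (∃ H : Subgroup (Matrix.ProjectiveSpecialLinearGroup (Fin n) F), H.index = (q ^ n - 1) / (q - 1)) := by
  have hq : Nat.card F = q := by rw [Nat.card_eq_fintype_card, hF]
  have hq2 : 2 ≤ q := hq ▸ Finite.one_lt_card
  have hn' : 3 ≤ Fintype.card (Fin n) := by rw [Fintype.card_fin]; exact hn
  have hsum : (∑ i ∈ Finset.range (Fintype.card (Fin n)), Nat.card F ^ i) = (q ^ n - 1) / (q - 1) := by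
    rw [Fintype.card_fin, hq, Nat.geomSum_eq hq2]
  constructor
  · intro H hH
    rw [← hsum, ← Subgroup.index_comap_of_surjective H (QuotientGroup.mk'_surjective _)]
    refine index_ge hn' (by rwa [Fintype.card_fin, hq]) _ fun h => hH ?_
    rw [← Subgroup.map_comap_eq_self_of_surjective (QuotientGroup.mk'_surjective _) H, h,
      Subgroup.map_top_of_surjective _ (QuotientGroup.mk'_surjective _)]
  · obtain ⟨K, hK, hidx⟩ := exists_point_stab (F := F) hn'
    refine ⟨K.map (QuotientGroup.mk' _), ?_⟩
    rw [Subgroup.index_map_eq _ (QuotientGroup.mk'_surjective _) (by rwa [QuotientGroup.ker_mk']), hidx, hsum]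

end Cfsg.Agent.S2140
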