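import Cfsg.Statements.S2141
import Cfsg.Agent.MinIndexForm.Sp.Main

set_option autoImplicit false
open Cfsg

namespace Cfsg.Agent.S2141

open Cfsg.Agent.MinIndexForm.Sp Cfsg.Agent.Classical

/-- Minimal index of a proper subgroup of the symplectic groups over fields with at least 3 elements: for m ≥ 2 and a field F with q ≥ 3 elements, (m, q) ≠ (2, 3), every proper subgroup of PSp_2m(F) has index at least (q^(2m) − 1)/(q − 1), and that index is attained. -/
theorem result {F : Type*} [Field F] [Fintype F] {q : ℕ} (hF : Fintype.card F = q) (m : ℕ) (hm : 2 ≤ m) (hq : 3 ≤ q) (hexc : ¬ (m = 2 ∧ q = 3)) : (∀ H : Subgroup (Cfsg.PSp m F), H ≠ ⊤ → (q ^ (2 * m) - 1) / (q - 1) ≤ H.index) ∧ (∃ H : Subgroup (Cfsg.PSp m F), H.index = (q ^ (2 * m) - 1) / (q - 1)) := by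
  classical
  subst hF
  refine ⟨fun H hH => ?_, ?_⟩
  · rw [pts_eq_div _ _ (by omega)]
    let f : Alt.isoGroup (sympB m F) →* Cfsg.PSp m F :=
      (QuotientGroup.mk' _).comp (spEquiv m F).symm.toMonoidHom
    have hf : Function.Surjective f :=
      (QuotientGroup.mk'_surjective _).comp (spEquiv m F).symm.surjective
    rw [← Subgroup.index_comap_of_surjective H hf]
    refine min_index_iso m hm hq hexc sympB_isAlt sympB_nondeg finrank_symp _ fun h => hH (eq_top_iff.2 fun g _ => ?_)
    obtain ⟨x, rfl⟩ := hf g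
    have hx : x ∈ H.comap f := h ▸ Subgroup.mem_top x
    exact hx
  · obtain ⟨K, hZK, hK⟩ := exists_index_iso (F := F) m (by omega)
    refine ⟨K.map (QuotientGroup.mk' _), ?_⟩
    rw [pts_eq_div _ _ (by omega), Subgroup.index_map_eq _ (QuotientGroup.mk'_surjective _)
      (by rw [QuotientGroup.ker_mk']; exact hZK), hK]

end Cfsg.Agent.S2141
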