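import Cfsg.Statements.S2142
import Cfsg.Agent.MinIndexForm.Sp.Two

set_option autoImplicit false
open Cfsg

namespace Cfsg.Agent.S2142

open Cfsg.Agent.MinIndexForm.Sp Cfsg.Agent.Classical

/-- Minimal index of a proper subgroup of the symplectic groups over the field with 2 elements: for m ≥ 3, every proper subgroup of Sp_2m(2) has index at least 2^(m−1)(2^m − 1), and that index is attained. -/
theorem result {F : Type*} [Field F] [Fintype F] (hF : Fintype.card F = 2) (m : ℕ) (hm : 3 ≤ m) : (∀ H : Subgroup (Cfsg.PSp m F), H ≠ ⊤ → 2 ^ (m - 1) * (2 ^ m - 1) ≤ H.index) ∧ (∃ H : Subgroup (Cfsg.PSp m F), H.index = 2 ^ (m - 1) * (2 ^ m - 1)) := by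
  classical
  rw [Fintype.card_eq_nat_card] at hF
  have := char_two_of_card hF
  obtain ⟨n, rfl⟩ : ∃ n, m = n + 1 := ⟨m - 1, by omega⟩
  rw [Nat.add_sub_cancel]
  refine ⟨fun H hH => ?_, ?_⟩
  · let f : Alt.isoGroup (sympB (n + 1) F) →* Cfsg.PSp (n + 1) F :=
      (QuotientGroup.mk' _).comp (spEquiv (n + 1) F).symm.toMonoidHom
    have hf : Function.Surjective f :=
      (QuotientGroup.mk'_surjective _).comp (spEquiv (n + 1) F).symm.surjective
    rw [← Subgroup.index_comap_of_surjective H hf]
    refine min_index_two hF sympB_isAlt sympB_nondeg n (by omega) finrank_symp fun h => hH (eq_top_iff.2 fun g _ => ?_)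
    obtain ⟨x, rfl⟩ := hf g
    have hx : x ∈ H.comap f := h ▸ Subgroup.mem_top x
    exact hx
  · have hφ : Refines (sympB (n + 1) F) fun x => ∑ i, x (Sum.inl i) * x (Sum.inr i) := fun u v => by
      rw [sympB_eq_sum, ← Finset.sum_add_distrib, ← Finset.sum_add_distrib]
      refine Finset.sum_congr rfl fun i _ => ?_
      simp only [Pi.add_apply, CharTwo.sub_eq_add]
      ring
    obtain ⟨K, hK⟩ := exists_index_two hF sympB_isAlt sympB_nondeg n (by omega) finrank_symp hφ
    refine ⟨(K.comap (spEquiv (n + 1) F).toMonoidHom).map (QuotientGroup.mk' _), ?_⟩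
    rw [Subgroup.index_map_eq _ (QuotientGroup.mk'_surjective _) ?_,
      Subgroup.index_comap_of_surjective (f := (spEquiv (n + 1) F).toMonoidHom) K (spEquiv (n + 1) F).surjective, hK]
    rw [QuotientGroup.ker_mk']
    intro z hz
    have hz' : spEquiv (n + 1) F z ∈ Subgroup.center (Alt.isoGroup (sympB (n + 1) F)) := by
      rw [Subgroup.mem_center_iff] at hz ⊢
      intro g
      obtain ⟨g', rfl⟩ := (spEquiv (n + 1) F).surjective g
      rw [← map_mul, ← map_mul, hz g']
    obtain ⟨a, ha⟩ := Alt.scalar_of_center sympB_isAlt sympB_nondeg hz'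
    have : Nontrivial (Fin (n + 1) ⊕ Fin (n + 1) → F) := nontrivial_symp (by omega)
    obtain ⟨v, hv⟩ := exists_ne (0 : Fin (n + 1) ⊕ Fin (n + 1) → F)
    have ha1 : spEquiv (n + 1) F z = 1 := Subtype.ext (LinearEquiv.ext fun x => by
      rcases zero_or_one hF a with h | h
      · exact absurd ((spEquiv (n + 1) F z).1.map_eq_zero_iff.1 (by rw [ha, h, zero_smul])) hv
      · rw [ha, h, one_smul]; rfl)
    show spEquiv (n + 1) F z ∈ K
    rw [ha1]; exact K.one_mem

end Cfsg.Agent.S2142
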