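import Cfsg.Statements.S2143
import Cfsg.Agent.MinIndexForm.O.Main
import Cfsg.Agent.Classical.OrthElem.Std

set_option autoImplicit false
open Cfsg

namespace Cfsg.Agent.S2143

open Cfsg.Agent.Classical Cfsg.Agent.MinIndexForm Module QuadraticMap

/-- Minimal index of a proper subgroup of the odd-dimensional orthogonal groups: for m ≥ 3 and a field F with q elements, q odd and q ≥ 5, every proper subgroup of PΩ_(2m+1)(F) (for the form x₀² + Σ xᵢyᵢ) has index at least (q^(2m) − 1)/(q − 1), and that index is attained. -/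
theorem result {F : Type*} [Field F] [Fintype F] {q : ℕ} (hF : Fintype.card F = q) (hodd : Odd q) (h5 : 5 ≤ q) (m : ℕ) (hm : 3 ≤ m) : (∀ H : Subgroup (Cfsg.POmega F (Cfsg.quadFormOdd m F)), H ≠ ⊤ → (q ^ (2 * m) - 1) / (q - 1) ≤ H.index) ∧ (∃ H : Subgroup (Cfsg.POmega F (Cfsg.quadFormOdd m F)), H.index = (q ^ (2 * m) - 1) / (q - 1)) := by
  classical
  have h2 : (2 : F) ≠ 0 := fun h => by
    rw [Nat.odd_iff, ← hF] at hodd
    have hc : ringChar F = 2 := by
      have := CharP.ringChar_of_prime_eq_zero (R := F) Nat.prime_two (by exact_mod_cast h)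
      exact this
    have := FiniteField.even_card_of_char_two hc
    omega
  obtain ⟨hQ, hd⟩ := OrthElem.oddQ_facts h2 m
  have hN : Nat.card (Quad.SPt (OrthElem.oddQ F m)) = (q ^ (2 * m) - 1) / (q - 1) := by
    rw [O.pts_eq_div, OrthElem.zcard_odd_eq hQ hd, Nat.card_eq_fintype_card, hF]
  have h := O.pomega_bound hQ (by omega) (by rw [Nat.card_eq_fintype_card, hF]; omega)
  rw [hN] at h
  rw [← OrthElem.coe_oddQ]
  exact h

end Cfsg.Agent.S2143
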