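import Cfsg.Statements.S2144
import Cfsg.Agent.MinIndexForm.O.OddThree
import Cfsg.Agent.Classical.OrthElem.Std

set_option autoImplicit false
open Cfsg

namespace Cfsg.Agent.S2144

open Cfsg.Agent.Classical Cfsg.Agent.MinIndexForm Module QuadraticMap

/-- Minimal index of a proper subgroup of the odd-dimensional orthogonal groups over the field with 3 elements: for m ≥ 3, every proper subgroup of PΩ_(2m+1)(3) (for the form x₀² + Σ xᵢyᵢ) has index at least 3^m(3^m − 1)/2, and that index is attained. -/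
theorem result {F : Type*} [Field F] [Fintype F] (hF : Fintype.card F = 3) (m : ℕ) (hm : 3 ≤ m) : (∀ H : Subgroup (Cfsg.POmega F (Cfsg.quadFormOdd m F)), H ≠ ⊤ → 3 ^ m * (3 ^ m - 1) / 2 ≤ H.index) ∧ (∃ H : Subgroup (Cfsg.POmega F (Cfsg.quadFormOdd m F)), H.index = 3 ^ m * (3 ^ m - 1) / 2) := by
  classical
  have hq : Nat.card F = 3 := by rw [Nat.card_eq_fintype_card, hF]
  have h2 : (2 : F) ≠ 0 := fun h => by
    have := FiniteField.even_card_of_char_two (F := F)
      (CharP.ringChar_of_prime_eq_zero Nat.prime_two (by exact_mod_cast h))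
    omega
  obtain ⟨hQ, hd⟩ := OrthElem.oddQ_facts h2 m
  rw [← OrthElem.coe_oddQ]
  refine O.pomega_of_attained hQ (by omega) (fun H hH => ?_) ?_
  · obtain ⟨k, rfl⟩ : ∃ k, m = k + 1 := ⟨m - 1, by omega⟩
    exact O.index_bound_three hQ hq (k := k) (by omega) (by omega) H hH
  · obtain ⟨v, hv, hc⟩ := O.exists_small_norm hQ hq (by omega) hd
    obtain ⟨S, hS, hSi⟩ := O.index_aniso_stab hQ hq.le (by omega) hv
    refine ⟨S, hS, ?_⟩
    have hl := O.card_norm_lines (Q := OrthElem.oddQ F m) hq.le hv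
    rw [hl, hq, ← hSi, two_mul, pow_add] at hc
    have hX : 1 ≤ 3 ^ m := Nat.one_le_pow _ _ (by norm_num)
    rw [Nat.mul_sub, mul_one]
    omega

end Cfsg.Agent.S2144
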