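import Cfsg.Statements.S2146
import Cfsg.Agent.MinIndexForm.O.PlusTwo
import Cfsg.Agent.Classical.OrthElem.Std

set_option autoImplicit false
open Cfsg

namespace Cfsg.Agent.S2146

open Cfsg.Agent.Classical Cfsg.Agent.MinIndexForm Module QuadraticMap

/-- Minimal index of a proper subgroup of the even-dimensional orthogonal groups of plus type over the field with 2 elements: for m ≥ 4, every proper subgroup of Ω⁺_2m(2) (for the form Σ xᵢyᵢ) has index at least 2^(m−1)(2^m − 1), and that index is attained. -/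
theorem result {F : Type*} [Field F] [Fintype F] (hF : Fintype.card F = 2) (m : ℕ) (hm : 4 ≤ m) : (∀ H : Subgroup (Cfsg.POmega F (Cfsg.quadFormPlus m F)), H ≠ ⊤ → 2 ^ (m - 1) * (2 ^ m - 1) ≤ H.index) ∧ (∃ H : Subgroup (Cfsg.POmega F (Cfsg.quadFormPlus m F)), H.index = 2 ^ (m - 1) * (2 ^ m - 1)) := by
  classical
  obtain ⟨k, rfl⟩ : ∃ k, m = k + 1 := ⟨m - 1, by omega⟩
  have hq : Nat.card F = 2 := by rw [Nat.card_eq_fintype_card, hF]
  obtain ⟨hQ, hd, hp⟩ := OrthElem.plusQ_facts (F := F) (k + 1)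
  rw [← OrthElem.coe_plusQ, Nat.add_sub_cancel]
  refine O.pomega_of_attained hQ (by omega)
    (fun H hH => O.index_bound_plus hQ hq (by omega) (by omega) hp H hH) ?_
  set Q := OrthElem.plusQ F (k + 1)
  have : Finite ((Fin (k + 1) ⊕ Fin (k + 1)) → F) := inferInstance
  have hz := OrthElem.zcard_plus_eq hQ hd hp
  have hcnt := O.norm_count hQ (by omega) hd (one_ne_zero (α := F))
  rw [← Nat.card_eq_fintype_card, hq] at hz
  rw [hq] at hcnt
  have h1z : 1 ≤ Quad.zcard Q := by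
    rw [Quad.zcard]
    have : Nonempty {x // Q x = 0} := ⟨⟨0, QuadraticMap.map_zero Q⟩⟩
    exact Nat.card_pos
  obtain ⟨r, hr⟩ := Nat.exists_eq_add_of_le' (Nat.one_le_pow k 2 (by norm_num))
  have e1 : 2 ^ (k + 1) = 2 * (r + 1) := by rw [pow_succ', hr]
  have e2 : 2 ^ (2 * (k + 1)) = 4 * (r * r) + 8 * r + 4 := by rw [two_mul, pow_add, e1]; ring
  rw [e1, hr, show (2 * (r + 1) - 1) * (r + 1 + 1) = 2 * (r * r) + 5 * r + 2 by
    rw [show 2 * (r + 1) - 1 = 2 * r + 1 by omega]; ring] at hz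
  rw [e2] at hcnt
  have hS : Nat.card {w // Q w = 1} = 2 ^ k * (2 ^ (k + 1) - 1) := by
    rw [e1, hr, show (r + 1) * (2 * (r + 1) - 1) = 2 * (r * r) + 3 * r + 1 by
      rw [show 2 * (r + 1) - 1 = 2 * r + 1 by omega]; ring]
    omega
  have hne : Nonempty {w // Q w = 1} := by
    refine (Nat.card_pos_iff.1 ?_).1
    rw [hS]
    exact Nat.mul_pos (Nat.two_pow_pos k) (by have := Nat.one_lt_two_pow (n := k + 1) (by omega); omega)
  obtain ⟨⟨v, hv⟩⟩ := hne
  obtain ⟨S, hc, hSi⟩ := O.index_aniso_stab hQ (by omega) (by omega) (v := v) (by rw [hv]; exact one_ne_zero)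
  refine ⟨S, hc, ?_⟩
  rw [hSi, ← hS, hv, O.card_norm_lines (Q := Q) (by omega) (one_ne_zero (α := F)), hq, show (2 : ℕ) - 1 = 1 from rfl, mul_one]

end Cfsg.Agent.S2146
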