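import Cfsg.Statements.S2147
import Cfsg.Agent.MinIndexForm.O.SmallMain
import Cfsg.Agent.Classical.OrthElem.Std

set_option autoImplicit false
open Cfsg

namespace Cfsg.Agent.S2147

open Cfsg.Agent.Classical Cfsg.Agent.MinIndexForm Module QuadraticMap

/-- Minimal index of a proper subgroup of the even-dimensional orthogonal groups of minus type: for m ≥ 4 and a field F with q elements, every proper subgroup of PΩ⁻_2m(F) (for the form Σ_{i<m−1} xᵢyᵢ + z₁² + a z₁z₂ + b z₂² with anisotropic binary part) has index at least (q^m + 1)(q^(m−1) − 1)/(q − 1), and that index is attained. -/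
theorem result {F : Type*} [Field F] [Fintype F] {q : ℕ} (hF : Fintype.card F = q) (m : ℕ) (hm : 4 ≤ m) (a b : F) (hab : ∀ z₁ z₂ : F, z₁ ^ 2 + a * z₁ * z₂ + b * z₂ ^ 2 = 0 → z₁ = 0 ∧ z₂ = 0) : (∀ H : Subgroup (Cfsg.POmega F (Cfsg.quadFormMinus (m - 1) F a b)), H ≠ ⊤ → (q ^ m + 1) * (q ^ (m - 1) - 1) / (q - 1) ≤ H.index) ∧ (∃ H : Subgroup (Cfsg.POmega F (Cfsg.quadFormMinus (m - 1) F a b)), H.index = (q ^ m + 1) * (q ^ (m - 1) - 1) / (q - 1)) := by
  classical
  obtain ⟨k, rfl⟩ : ∃ k, m = k + 2 := ⟨m - 2, by omega⟩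
  obtain ⟨hQ, hd, hp⟩ := OrthElem.minusQ_facts (F := F) hab (k + 1)
  have hN : Nat.card (Quad.SPt (OrthElem.minusQ (k + 1) a b)) =
      (q ^ (k + 2) + 1) * (q ^ (k + 1) - 1) / (q - 1) := by
    rw [O.pts_eq_div, OrthElem.zcard_minus_eq hQ (k := k + 1) hd hp, Nat.card_eq_fintype_card, hF]
  have h := O.pomega_of_bound hQ (by omega) (fun H hH => ?_)
  · rw [hN] at h
    rw [OrthElem.coe_minusQ] at h
    exact h
  · rcases Nat.lt_or_ge (Nat.card F) 4 with h4 | h4
    · exact O.index_bound_minus hQ (by omega) (k := k) (by omega) (by omega) hp H hH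
    · exact O.index_bound hQ (by omega) h4 H hH

end Cfsg.Agent.S2147
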