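import Cfsg.Statements.S2149
import Cfsg.Agent.U35.Bound
import Cfsg.Agent.U35.Fifty
import Cfsg.Agent.Classical.UnitaryThreeTwo
-- import your own Cfsg.Agent.* helpers here

set_option autoImplicit false
open Cfsg

namespace Cfsg.Agent.S2149

/-- Minimal index of a proper subgroup of PSU₃(5), realised over the field with 25 elements: every proper subgroup has index at least 50, and that index is attained. -/
theorem result {F : Type*} [Field F] [Fintype F] (hF : Fintype.card F = 25) : (∀ H : Subgroup (Cfsg.PSU 3 F 5), H ≠ ⊤ → 50 ≤ H.index) ∧ (∃ H : Subgroup (Cfsg.PSU 3 F 5), H.index = 50) := by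
  open Cfsg.Agent.U35 in
  classical
  obtain ⟨e⟩ := Cfsg.Agent.Classical.U32.psu_congr (n := 3) (q := 5)
    (FiniteField.ringEquivOfCardEq (hF.trans F25.card_eq.symm))
  let f : Cfsg.PSU 3 F25 5 →* Cfsg.PSU 3 F 5 := e.symm.toMonoidHom
  have hf : Function.Surjective f := e.symm.surjective
  have hq : Function.Surjective (f.comp (QuotientGroup.mk' (Subgroup.center G35))) :=
    hf.comp (QuotientGroup.mk'_surjective _)
  refine ⟨fun H hH => ?_, ?_⟩
  · rw [← Subgroup.index_comap_of_surjective H hq]
    refine bound fun h => hH (eq_top_iff.2 fun g _ => ?_)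
    obtain ⟨x, rfl⟩ := hq g
    have : x ∈ H.comap (f.comp (QuotientGroup.mk' (Subgroup.center G35))) := h ▸ Subgroup.mem_top x
    exact this
  · refine ⟨fifty.map (f.comp (QuotientGroup.mk' (Subgroup.center G35))), ?_⟩
    rw [Subgroup.index_map_eq _ hq ?_, index_fifty]
    intro x hx
    refine center_le_fifty ?_
    have h1 : f (QuotientGroup.mk' (Subgroup.center G35) x) = 1 := hx
    have h2 : QuotientGroup.mk' (Subgroup.center G35) x = 1 :=
      e.symm.injective (h1.trans (map_one e.symm).symm)
    exact (QuotientGroup.eq_one_iff x).1 h2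

end Cfsg.Agent.S2149
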