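import Cfsg.Statements.S2150
import Cfsg.Agent.MinIndexForm.SUF.TwoBound
import Cfsg.Agent.AutPSU.Basic

set_option autoImplicit false
open Cfsg

namespace Cfsg.Agent.S2150

/-- Minimal index of a proper subgroup of the four-dimensional unitary groups: for a field F with q² elements, every proper subgroup of PSU₄(q) has index at least (q + 1)(q³ + 1), and that index is attained. -/
theorem result {F : Type*} [Field F] [Fintype F] (q : ℕ) (hF : Fintype.card F = q ^ 2) (hq : 2 ≤ q) : (∀ H : Subgroup (Cfsg.PSU 4 F q), H ≠ ⊤ → (q + 1) * (q ^ 3 + 1) ≤ H.index) ∧ (∃ H : Subgroup (Cfsg.PSU 4 F q), H.index = (q + 1) * (q ^ 3 + 1)) := by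
  obtain ⟨σ, hu⟩ := Cfsg.Agent.AutPSU.exists_uctx hF
  have h := hu.isHerm 4
  have hd : Module.finrank F (Fin 4 → F) = 4 := Module.finrank_fin_fun F
  have hfix : Nat.card (Cfsg.Agent.Classical.Herm.fixField σ) = q := hu.card_fix
  let e := Cfsg.Agent.Classical.suEquiv 4 hu.pow
  constructor
  · intro H hH
    let H' := (H.comap (Cfsg.Agent.AutPSU.mkU)).comap e.symm.toMonoidHom
    have hidx : H'.index = H.index := by
      show ((H.comap (Cfsg.Agent.AutPSU.mkU)).comap e.symm.toMonoidHom).index = H.index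
      rw [Subgroup.index_comap_of_surjective (f := e.symm.toMonoidHom) _ e.symm.surjective,
        Subgroup.index_comap_of_surjective _ Cfsg.Agent.AutPSU.mkU_surjective]
    have hne : H' ≠ ⊤ := fun ht => hH (Subgroup.index_eq_one.1 (by rw [← hidx, ht, Subgroup.index_top]))
    rw [← hidx]
    rcases Nat.lt_or_ge q 3 with h3 | h3
    · obtain rfl : q = 2 := by omega
      exact Cfsg.Agent.MinIndexForm.SUF.bound_two hfix h hd H' hne
    · rw [← hfix]
      exact Cfsg.Agent.MinIndexForm.SUF.bound_four h hd (hfix.symm ▸ h3) H' hne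
  · obtain ⟨v, hv0, hvv⟩ := Cfsg.Agent.Classical.Herm.exists_isotropic h (by omega)
    obtain ⟨τ, -⟩ := Cfsg.Agent.MinIndexForm.SU.exists_frame h hv0 hvv
    have hdW : Module.finrank F τ.W = 2 := by have := τ.finrank_W; omega
    obtain ⟨u, hu0, huu⟩ := Cfsg.Agent.Classical.Herm.exists_isotropic τ.hB_W (by omega)
    obtain ⟨ρ, -⟩ := Cfsg.Agent.MinIndexForm.SU.exists_frame τ.hB_W hu0 huu
    refine ⟨((Cfsg.Agent.MinIndexForm.SUF.lineStab τ ρ).comap e.toMonoidHom).map Cfsg.Agent.AutPSU.mkU, ?_⟩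
    rw [Subgroup.index_map_eq _ Cfsg.Agent.AutPSU.mkU_surjective,
      Subgroup.index_comap_of_surjective (f := e.toMonoidHom) _ e.surjective,
      Cfsg.Agent.MinIndexForm.SUF.index_lineStab τ ρ hdW hd, hfix]
    intro z hz
    rw [MonoidHom.mem_ker, Cfsg.Agent.AutPSU.mkU_eq_one_iff] at hz
    have hc : e z ∈ Subgroup.center _ := Subgroup.mem_center_iff.2 fun g => by
      obtain ⟨g, rfl⟩ := e.surjective g
      rw [← map_mul, ← map_mul, Subgroup.mem_center_iff.1 hz g]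
    let π : Cfsg.Agent.MinIndexForm.SU.Fr _ := ⟨h, (ρ.y : Fin 4 → F), (ρ.f : Fin 4 → F),
      by rw [← τ.BW_apply]; exact ρ.hyy, by rw [← τ.BW_apply]; exact ρ.hff,
      by rw [← τ.BW_apply]; exact ρ.hyf⟩
    obtain ⟨a, ha⟩ := τ.mem_P.1 (Cfsg.Agent.MinIndexForm.SU.center_le_P τ hc)
    obtain ⟨b, hb⟩ := π.mem_P.1 (Cfsg.Agent.MinIndexForm.SU.center_le_P π hc)
    refine Cfsg.Agent.MinIndexForm.SUF.mem_lineStab τ ρ hdW ?_ ?_
    · show Cfsg.Agent.MinIndexForm.SUF.InL τ ρ ((e z).1 τ.y)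
      rw [ha]
      simpa using Cfsg.Agent.MinIndexForm.SUF.inL_comb τ ρ 0 (a : F)
    · show Cfsg.Agent.MinIndexForm.SUF.InL τ ρ ((e z).1 (ρ.y : Fin 4 → F))
      rw [show (e z).1 (ρ.y : Fin 4 → F) = (b : F) • (ρ.y : Fin 4 → F) from hb]
      simpa using Cfsg.Agent.MinIndexForm.SUF.inL_comb τ ρ (b : F) 0

end Cfsg.Agent.S2150
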