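import Cfsg.Statements.S2152
import Cfsg.Agent.MinIndexForm.SUE.Main
import Cfsg.Agent.AutPSU.Basic

set_option autoImplicit false
open Cfsg

namespace Cfsg.Agent.S2152

/-- Minimal index of a proper subgroup of the unitary groups of even dimension n ≥ 6: for a field F with q² elements, q ≥ 3, every proper subgroup of PSU_n(q) has index at least (q^n − 1)(q^(n−1) + 1)/(q² − 1), and that index is attained (the isotropic points). -/
theorem result {F : Type*} [Field F] [Fintype F] (q : ℕ) (hF : Fintype.card F = q ^ 2) (hq : 3 ≤ q) (n : ℕ) (hn : 6 ≤ n) (heven : Even n) : (∀ H : Subgroup (Cfsg.PSU n F q), H ≠ ⊤ → (q ^ n - 1) * (q ^ (n - 1) + 1) / (q ^ 2 - 1) ≤ H.index) ∧ (∃ H : Subgroup (Cfsg.PSU n F q), H.index = (q ^ n - 1) * (q ^ (n - 1) + 1) / (q ^ 2 - 1)) := by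
  obtain ⟨σ, hu⟩ := Cfsg.Agent.AutPSU.exists_uctx hF
  have h := hu.isHerm n
  obtain ⟨j, rfl⟩ := heven
  have hd : Module.finrank F (Fin (j + j) → F) = 2 * j := by rw [Module.finrank_fin_fun]; omega
  have hfix : Nat.card (Cfsg.Agent.Classical.Herm.fixField σ) = q := hu.card_fix
  have hval : (q ^ (j + j) - 1) * (q ^ (j + j - 1) + 1) / (q ^ 2 - 1) =
      Cfsg.Agent.MinIndexForm.SUE.Ne q j := by
    rw [← two_mul, ← Cfsg.Agent.MinIndexForm.SUE.Ne_mul q j (by omega), Nat.mul_div_cancel]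
    have : 2 ^ 2 ≤ q ^ 2 := Nat.pow_le_pow_left (show 2 ≤ q by omega) 2
    omega
  rw [hval]
  let e := Cfsg.Agent.Classical.suEquiv (j + j) hu.pow
  constructor
  · intro H hH
    let H' := (H.comap (Cfsg.Agent.AutPSU.mkU)).comap e.symm.toMonoidHom
    have hidx : H'.index = H.index := by
      show ((H.comap (Cfsg.Agent.AutPSU.mkU)).comap e.symm.toMonoidHom).index = H.index
      rw [Subgroup.index_comap_of_surjective (f := e.symm.toMonoidHom) _ e.symm.surjective,
        Subgroup.index_comap_of_surjective _ Cfsg.Agent.AutPSU.mkU_surjective]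
    have hne : H' ≠ ⊤ := fun ht => hH (Subgroup.index_eq_one.1 (by rw [← hidx, ht, Subgroup.index_top]))
    rw [← hidx, ← hfix]
    exact Cfsg.Agent.MinIndexForm.SUE.index_bound (hfix.symm ▸ hq) j (by omega) _ _ h hd H' hne
  · obtain ⟨v, hv0, hvv⟩ := Cfsg.Agent.Classical.Herm.exists_isotropic h (by omega)
    obtain ⟨τ, -⟩ := Cfsg.Agent.MinIndexForm.SU.exists_frame h hv0 hvv
    refine ⟨(τ.P.comap e.toMonoidHom).map Cfsg.Agent.AutPSU.mkU, ?_⟩
    rw [Subgroup.index_map_eq _ Cfsg.Agent.AutPSU.mkU_surjective, Subgroup.index_comap_of_surjective (f := e.toMonoidHom) _ e.surjective,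
      Cfsg.Agent.MinIndexForm.SUE.index_P τ hd (by omega), hfix]
    intro z hz
    rw [MonoidHom.mem_ker, Cfsg.Agent.AutPSU.mkU_eq_one_iff] at hz
    refine Cfsg.Agent.MinIndexForm.SU.center_le_P τ (Subgroup.mem_center_iff.2 fun g => ?_)
    obtain ⟨g, rfl⟩ := e.surjective g
    show e g * e z = e z * e g
    rw [← map_mul, ← map_mul, Subgroup.mem_center_iff.1 hz g]

end Cfsg.Agent.S2152
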