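import Cfsg.Statements.S2153
import Cfsg.Agent.MinIndexForm.SUT.Main
import Cfsg.Agent.AutPSU.Basic

set_option autoImplicit false
open Cfsg

namespace Cfsg.Agent.S2153

/-- Minimal index of a proper subgroup of the unitary groups PSU_n(2) with n divisible by 6, realised over the field with 4 elements: every proper subgroup has index at least 2^(n−1)(2^n − 1)/3, and that index is attained. -/
theorem result {F : Type*} [Field F] [Fintype F] (hF : Fintype.card F = 4) (n : ℕ) (hn : 6 ∣ n) (hpos : 6 ≤ n) : (∀ H : Subgroup (Cfsg.PSU n F 2), H ≠ ⊤ → 2 ^ (n - 1) * (2 ^ n - 1) / 3 ≤ H.index) ∧ (∃ H : Subgroup (Cfsg.PSU n F 2), H.index = 2 ^ (n - 1) * (2 ^ n - 1) / 3) := by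
  obtain ⟨σ, hu⟩ := Cfsg.Agent.AutPSU.exists_uctx (q := 2) (hF.trans (by norm_num))
  have h := hu.isHerm n
  obtain ⟨m, rfl⟩ := hn
  have hd : Module.finrank F (Fin (6 * m) → F) = 2 * (3 * m) := by rw [Module.finrank_fin_fun]; omega
  have hfix : Nat.card (Cfsg.Agent.Classical.Herm.fixField σ) = 2 := hu.card_fix
  have hk : 3 ≤ 3 * m := by omega
  have hval : 2 ^ (6 * m - 1) * (2 ^ (6 * m) - 1) / 3 = Cfsg.Agent.MinIndexForm.SUT.Na (3 * m) := by
    rw [show 6 * m = 2 * (3 * m) by omega, ← Cfsg.Agent.MinIndexForm.SUT.Na_three, Nat.mul_div_cancel_left _ (by norm_num)]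
  rw [hval]
  let e := Cfsg.Agent.Classical.suEquiv (6 * m) hu.pow
  constructor
  · intro H hH
    let H' := (H.comap (Cfsg.Agent.AutPSU.mkU)).comap e.symm.toMonoidHom
    have hidx : H'.index = H.index := by
      show ((H.comap (Cfsg.Agent.AutPSU.mkU)).comap e.symm.toMonoidHom).index = H.index
      rw [Subgroup.index_comap_of_surjective (f := e.symm.toMonoidHom) _ e.symm.surjective,
        Subgroup.index_comap_of_surjective _ Cfsg.Agent.AutPSU.mkU_surjective]
    have hne : H' ≠ ⊤ := fun ht => hH (Subgroup.index_eq_one.1 (by rw [← hidx, ht, Subgroup.index_top]))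
    rw [← hidx]
    exact Cfsg.Agent.MinIndexForm.SUT.index_bound hfix h hk hd H' hne
  · obtain ⟨v, hv⟩ := Cfsg.Agent.MinIndexForm.SU.exists_unit h (by omega)
    refine ⟨((Cfsg.Agent.MinIndexForm.SUT.pointStab v).comap e.toMonoidHom).map Cfsg.Agent.AutPSU.mkU, ?_⟩
    rw [Subgroup.index_map_eq _ Cfsg.Agent.AutPSU.mkU_surjective,
      Subgroup.index_comap_of_surjective (f := e.toMonoidHom) _ e.surjective,
      Cfsg.Agent.MinIndexForm.SUT.index_pointStab hfix h (by omega) hd hv]
    intro z hz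
    rw [MonoidHom.mem_ker, Cfsg.Agent.AutPSU.mkU_eq_one_iff] at hz
    obtain ⟨a, ha⟩ := Cfsg.Agent.AutPSU.center_scalar hu (by omega) hz
    have hev : (e z).1 v = a • v := ha v
    have ha0 : a ≠ 0 := fun h0 => by
      rw [h0, zero_smul] at hev
      have hv0 : v = 0 := (e z).1.map_eq_zero_iff.1 hev
      simp [hv0] at hv
    exact ⟨Units.mk0 a ha0, hev⟩

end Cfsg.Agent.S2153
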