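import Cfsg.Statements.S2158
import Cfsg.Agent.Chev.All
import Cfsg.Agent.Chev.Bruhat

set_option autoImplicit false
open Cfsg

namespace Cfsg.Agent.S2158

open Cfsg.Lie Cfsg.Agent.Chev

universe u

theorem diag_conj_lower {D : ChevalleyDatum} {F : Type u} [Field F] {g u : GL D.Idx F}
    (d : D.Idx → F) (hg : (g : Matrix D.Idx D.Idx F) = Matrix.diagonal d)
    (hu : u ∈ lowerGroup 1) : g * u * g⁻¹ ∈ lowerGroup 1 := by
  have key : ∀ A : Matrix D.Idx D.Idx F, BelowBy 1 (A - 1) →
      BelowBy 1 ((g : Matrix D.Idx D.Idx F) * A * ((g⁻¹ : GL D.Idx F) : Matrix D.Idx D.Idx F) - 1) := by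
    intro A hA
    have hgi : ((g⁻¹ : GL D.Idx F) : Matrix D.Idx D.Idx F) = Matrix.diagonal fun a => (d a)⁻¹ := by
      have hd : ∀ a, d a ≠ 0 := by
        intro a ha
        have := congrFun (congrFun (g.mul_inv) a) a
        rw [hg, Matrix.diagonal_mul, ha, zero_mul, Matrix.one_apply_eq] at this
        exact zero_ne_one this
      refine left_inv_eq_right_inv (a := (g : Matrix D.Idx D.Idx F)) g.inv_mul ?_
      · rw [hg, Matrix.diagonal_mul_diagonal, ← Matrix.diagonal_one]
        congr 1; funext a; exact mul_inv_cancel₀ (hd a)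
    have e : (g : Matrix D.Idx D.Idx F) * A * ((g⁻¹ : GL D.Idx F) : Matrix D.Idx D.Idx F) - 1 =
        (g : Matrix D.Idx D.Idx F) * (A - 1) * ((g⁻¹ : GL D.Idx F) : Matrix D.Idx D.Idx F) := by
      rw [mul_sub, sub_mul, mul_one, g.mul_inv]
    rw [e, hg, hgi]
    intro a b hab
    rw [Matrix.mul_diagonal, Matrix.diagonal_mul, hA a b hab, mul_zero, zero_mul]
  exact ⟨by rw [Units.val_mul, Units.val_mul]; exact key _ hu.1,
    by rw [mul_inv_rev, mul_inv_rev, inv_inv, ← mul_assoc, Units.val_mul, Units.val_mul]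
       exact key _ hu.2⟩

theorem mem_diagonalSubgroup {D : ChevalleyDatum} {F : Type u} [Field F] (hF : Facts.{u} D)
    {g : GL D.Idx F} (d : D.Idx → F) (hd : (g : Matrix D.Idx D.Idx F) = Matrix.diagonal d)
    (hg : g ∈ D.group F) : g ∈ D.diagonalSubgroup F := by
  obtain ⟨b, hb, w, x, hx, e⟩ := exists_normalForm hF hg
  have hU := posUnipotent_le_lowerGroup hF (F := F)
  obtain ⟨v, hv, c, hvc⟩ := (mem_borel_iff hF).1 hb
  have hxU : x ∈ D.posUnipotent F := by
    refine (Subgroup.closure_le _).2 ?_ hx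
    rintro _ ⟨r, s, h1, -, rfl⟩
    exact mem_posUnipotent_of hF r.2 h1 s
  have hπ : pWord hF w = 1 := by
    refine eq_one_of_pos hF (pWord_mem hF w) fun i => not_lt.1 fun hi => ?_
    obtain ⟨z, hz⟩ := isMon_conj_mem hF (isMon_nWord hF w) (sRoot hF i) (1 : F)
    have hlow : nWord hF w * xG hF (sRoot hF i : ℕ) (1 : F) * (nWord hF w)⁻¹ ∈ (lowerGroup 1 : Subgroup (GL D.Idx F)) := by
      have e2 : nWord hF w * xG hF (sRoot hF i : ℕ) (1 : F) * (nWord hF w)⁻¹ =
          (torusHom c : GL D.Idx F)⁻¹ * (v⁻¹ * (g * (x⁻¹ * xG hF (sRoot hF i : ℕ) (1 : F) * x) * g⁻¹) * v) *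
            ((torusHom c : GL D.Idx F)⁻¹)⁻¹ := by
        rw [e, hvc]; group
      rw [e2, ← map_inv]
      refine diag_conj_lower _ rfl (Subgroup.mul_mem _ (Subgroup.mul_mem _
        (Subgroup.inv_mem _ (hU hv)) (diag_conj_lower d hd ?_)) (hU hv))
      exact hU (Subgroup.mul_mem _ (Subgroup.mul_mem _ (Subgroup.inv_mem _ hxU)
        (mem_posUnipotent_of hF (sRoot hF i).2 (hF.simple_pos i i.2) 1)) hxU)
    rw [hz] at hlow
    have hup := negUnipotent_le_upperGroup hF
      (mem_negUnipotent_of hF (pWord hF w (sRoot hF i)).2 hi z)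
    have h1 : xG hF (pWord hF w (sRoot hF i) : ℕ) z = 1 := by
      apply Units.ext
      ext a b
      rw [Units.val_one, Matrix.one_apply]
      by_cases hab : pos D b ≤ pos D a
      · exact hup.1 a b hab
      · have := hlow.1 a b (by omega)
        rwa [Matrix.sub_apply, sub_eq_zero, Matrix.one_apply] at this
    rw [h1] at hz
    exact one_ne_zero ((xG_eq_one_iff hF (sRoot hF i).2).1 (conj_eq_one_iff.1 hz))
  have hgB : g ∈ D.borelSubgroup F := by
    rw [e]
    exact Subgroup.mul_mem _ (Subgroup.mul_mem _ hb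
      (Subgroup.mem_sup_right (nWord_mem_diagonal hF w hπ))) (uMinus_le_borel hF _ hx)
  obtain ⟨v', hv', c', hg'⟩ := (mem_borel_iff hF).1 hgB
  have hlow := hU hv'
  have hvd : v' = 1 := by
    have hv2 : v' = g * (torusHom c' : GL D.Idx F)⁻¹ := by rw [hg', mul_inv_cancel_right]
    apply Units.ext
    ext a b
    rw [Units.val_one, Matrix.one_apply]
    by_cases hab : pos D a ≤ pos D b
    · have := hlow.1 a b (by omega)
      rwa [Matrix.sub_apply, sub_eq_zero, Matrix.one_apply] at this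
    · have hne : a ≠ b := fun h => hab (by rw [h])
      rw [if_neg hne, hv2, Units.val_mul, hd, ← map_inv, Matrix.diagonal_mul, torusHom_apply,
        if_neg hne, mul_zero]
  rw [hg', hvd, one_mul]
  exact torusHom_mem hF c'

/-- In a Chevalley group of type G₂, B₂, D₄, F₄, E₆, E₇ or E₈ over any field, an element of the group whose matrix is the diagonal matrix `ĥ(χ)` of a character `χ` of the root lattice already lies in the diagonal subgroup H (the non-trivial inclusion of the statement that the group meets the group of all such diagonal matrices in H). -/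
theorem result {F : Type*} [Field F] (D : Cfsg.Lie.ChevalleyDatum) (hD : D ∈ [Cfsg.Lie.chevG2, Cfsg.Lie.chevB2, Cfsg.Lie.chevD4, Cfsg.Lie.chevF4, Cfsg.Lie.chevE6, Cfsg.Lie.chevE7, Cfsg.Lie.chevE8]) (χ : ℕ → Fˣ) (hχ : D.IsRootCharacter χ) (g : GL D.Idx F) (hg : g ∈ D.group F)
    (hgχ : (g : Matrix D.Idx D.Idx F) = D.charDiag F χ) : g ∈ D.diagonalSubgroup F := by
  exact mem_diagonalSubgroup (facts_of_mem hD) _ hgχ hg

end Cfsg.Agent.S2158
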