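import Cfsg.Statements.S2161
import Cfsg.Agent.Chev.GraphPerm

set_option autoImplicit false
open Cfsg

namespace Cfsg.Agent.S2161

/-- For the Chevalley groups of types D₄ and E₆ (one root length) over any field: if `π` is a symmetry of the Dynkin diagram and `φ` is an automorphism sending `x_{p_i}(t)` to `x_{p_{π i}}(t)` and `x_{-p_i}(t)` to `x_{-p_{π i}}(t)` for every fundamental root `p_i`, then for every root `r` there is a sign `ε = ±1` with `φ(x_r(t)) = x_{π·r}(ε t)` for all `t`, where `π·r` is the root whose coefficients are those of `r` permuted by `π`. -/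
theorem result {F : Type*} [Field F] (D : Cfsg.Lie.ChevalleyDatum) (hD : D ∈ [Cfsg.Lie.chevD4, Cfsg.Lie.chevE6])
    (π : Equiv.Perm (Fin D.rank)) (hπ : D.IsDiagramSymmetry π) (φ : ↥(D.group F) ≃* ↥(D.group F))
    (hφ : ∀ (g : ↥(D.group F)) (i : Fin D.rank) (t : F),
      (((g : GL D.Idx F) : Matrix D.Idx D.Idx F) = D.x F (D.simple i) t →
        ((φ g : GL D.Idx F) : Matrix D.Idx D.Idx F) = D.x F (D.simple (π i)) t) ∧
      (((g : GL D.Idx F) : Matrix D.Idx D.Idx F) = D.x F (D.neg (D.simple i)) t →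
        ((φ g : GL D.Idx F) : Matrix D.Idx D.Idx F) = D.x F (D.neg (D.simple (π i))) t))
    (r : ℕ) (hr : r < D.nroots) :
    ∃ ε : F, (ε = 1 ∨ ε = -1) ∧ ∀ (g : ↥(D.group F)) (t : F),
      ((g : GL D.Idx F) : Matrix D.Idx D.Idx F) = D.x F r t →
        ((φ g : GL D.Idx F) : Matrix D.Idx D.Idx F) = D.x F (D.permRoot π r) (ε * t) := by
  simp only [List.mem_cons, List.not_mem_nil, or_false] at hD
  open Cfsg.Agent.Chev Cfsg.Lie in
  have main : ∀ {D : ChevalleyDatum} {π : Equiv.Perm (Fin D.rank)} {ρ : Equiv.Perm (Fin D.nroots)}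
      {ε : Fin D.nroots → ℤ} (hF : Facts D) (hG : GraphFacts D π ρ ε)
      (_ : ∀ r : Fin D.nroots, D.permRoot π r = (ρ r : ℕ)) (φ : ↥(D.group F) ≃* ↥(D.group F))
      (_ : ∀ (g : ↥(D.group F)) (i : Fin D.rank) (t : F),
        (((g : GL D.Idx F) : Matrix D.Idx D.Idx F) = D.x F (D.simple i) t →
          ((φ g : GL D.Idx F) : Matrix D.Idx D.Idx F) = D.x F (D.simple (π i)) t) ∧
        (((g : GL D.Idx F) : Matrix D.Idx D.Idx F) = D.x F (D.neg (D.simple i)) t →
          ((φ g : GL D.Idx F) : Matrix D.Idx D.Idx F) = D.x F (D.neg (D.simple (π i))) t))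
      (r : ℕ) (_ : r < D.nroots),
      ∃ ε : F, (ε = 1 ∨ ε = -1) ∧ ∀ (g : ↥(D.group F)) (t : F),
        ((g : GL D.Idx F) : Matrix D.Idx D.Idx F) = D.x F r t →
          ((φ g : GL D.Idx F) : Matrix D.Idx D.Idx F) = D.x F (D.permRoot π r) (ε * t) := by
    intro D π ρ ε hF hG hperm φ hφ r hr
    obtain ⟨e, he, h⟩ := hG.aut_x hF ⟨r, hr⟩ (F := F)
    refine ⟨e, he, fun g t eg => ?_⟩
    rw [hG.eq_aut hF φ hφ g, show (g : GL D.Idx F) = xG hF r t from Units.ext eg, h t, xG_val,
      ← hperm ⟨r, hr⟩]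
  open Cfsg.Agent.Chev in
  rcases hD with rfl | rfl
  · rcases d4_symm_cases π hπ with rfl | rfl | rfl | rfl | rfl | rfl
    · exact main facts_chevD4 d4_012_facts d4_012_perm φ hφ r hr
    · exact main facts_chevD4 d4_031_facts d4_031_perm φ hφ r hr
    · exact main facts_chevD4 d4_310_facts d4_310_perm φ hφ r hr
    · exact main facts_chevD4 d4_213_facts d4_213_perm φ hφ r hr
    · exact main facts_chevD4 d4_032_facts d4_032_perm φ hφ r hr
    · exact main facts_chevD4 d4_312_facts d4_312_perm φ hφ r hr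
  · rcases e6_symm_cases π hπ with rfl | rfl
    · exact main facts_chevE6 e6_id_facts e6_id_perm φ hφ r hr
    · exact main facts_chevE6 e6_flip_facts e6_flip_perm φ hφ r hr

end Cfsg.Agent.S2161
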