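import Cfsg.Statements.S2164
import Mathlib
import Cfsg.Agent.Classical.UnitInvolFrame
import Cfsg.Agent.Classical.UnitarySmall

set_option autoImplicit false
open Cfsg

namespace Cfsg.Agent.S2164

open Matrix Module Cfsg.Agent.Classical Cfsg.Agent.Classical.Herm Cfsg.Agent.Classical.UInv

section

variable {F : Type*} [Field F] [Fintype F] {σ : F →+* F} {n : ℕ}

theorem comb_gram {V : Type*} [AddCommGroup V] [Module F V] {B : V →ₛₗ[σ] V →ₗ[F] F} {N : V →ₗ[F] V}
    {k s : ℕ} (f : HFr B N k s) (x y : (Fin k → F) × (Fin k → F) × (Fin s → F)) :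
    B (f.comb x) (f.comb y) =
      (∑ i, σ (x.1 i) * y.2.1 i) + ((∑ i, σ (x.2.1 i) * y.1 i) + ∑ i, σ (x.2.2 i) * y.2.2 i) := by
  simp [f.comb_apply, map_sum, map_smulₛₗ, LinearMap.sum_apply, f.uu, f.ww, f.uw, f.wu, f.uz, f.zu, f.wz, f.zw,
    f.zz, Finset.sum_add_distrib, mul_comm]

theorem comb_N {V : Type*} [AddCommGroup V] [Module F V] {B : V →ₛₗ[σ] V →ₗ[F] F} {N : V →ₗ[F] V}
    {k s : ℕ} (f : HFr B N k s) (hz : ∀ i, N (f.z i) = 0) (x : (Fin k → F) × (Fin k → F) × (Fin s → F)) :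
    N (f.comb x) = f.comb (0, x.1, 0) := by
  simp [f.comb_apply, map_sum, f.Nu, f.Nw, hz]

theorem finrank_range_eq {V : Type*} [AddCommGroup V] [Module F V] {B : V →ₛₗ[σ] V →ₗ[F] F} {N : V →ₗ[F] V}
    {k s : ℕ} (f : HFr B N k s) (hz : ∀ i, N (f.z i) = 0) (hs : ∀ v, f.comb (f.coord v) = v) :
    finrank F (LinearMap.range N) = k := by
  let L : (Fin k → F) →ₗ[F] V := f.comb.comp ((LinearMap.inr F _ _).comp (LinearMap.inl F _ _))
  have hL : ∀ a, L a = f.comb (0, a, 0) := fun a => rfl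
  have hinj : Function.Injective L := fun a b e => by
    have := congrArg f.coord e
    rw [hL, hL, f.coord_comb, f.coord_comb] at this
    exact congrArg (fun x => x.2.1) this
  have hr : LinearMap.range N = LinearMap.range L := by
    refine le_antisymm ?_ ?_
    · rintro _ ⟨v, rfl⟩
      exact ⟨(f.coord v).1, by rw [hL, ← comb_N f hz, hs]⟩
    · rintro _ ⟨a, rfl⟩
      exact ⟨f.comb (a, 0, 0), by rw [comb_N f hz, hL]⟩
  rw [hr, LinearMap.finrank_range_of_inj hinj, finrank_fin_fun]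

theorem finrank_eq {V : Type*} [AddCommGroup V] [Module F V] {B : V →ₛₗ[σ] V →ₗ[F] F} {N : V →ₗ[F] V}
    {k s : ℕ} (f : HFr B N k s) (hs : ∀ v, f.comb (f.coord v) = v) : k + (k + s) = finrank F V := by
  rw [← LinearEquiv.finrank_eq (LinearEquiv.ofLinearMap f.comb f.coord
    (LinearMap.ext hs) (LinearMap.ext f.coord_comb))]
  simp

/-- The main step: an isometry of determinant one carrying one normal frame to another. -/
theorem exists_conj [CharP F 2] {q : ℕ} (hσ : IsInvol σ) (hq : Nat.card (fixField σ) = q) (hqe : Even q)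
    (Na Nb : Matrix (Fin n) (Fin n) F)
    (ha : ∀ x y, hermB n σ (Na *ᵥ x) y = hermB n σ x (Na *ᵥ y)) (ha2 : Na * Na = 0)
    (hb : ∀ x y, hermB n σ (Nb *ᵥ x) y = hermB n σ x (Nb *ᵥ y)) (hb2 : Nb * Nb = 0)
    (hr : Na.rank = Nb.rank) (hne : Na ≠ 0) :
    ∃ g : Matrix (Fin n) (Fin n) F, g.det = 1 ∧
      (∀ x y, hermB n σ (g *ᵥ x) (g *ᵥ y) = hermB n σ x y) ∧ g * Na = Nb * g := by
  classical
  have H := hermB_isHerm hσ n
  have hz0 : ∀ M : Matrix (Fin n) (Fin n) F, M * M = 0 → ∀ x, M.mulVecLin (M.mulVecLin x) = 0 := fun M hM x => by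
    simp [hM]
  obtain ⟨k, s, fa, hsa, hza⟩ := exists_full H (N := Na.mulVecLin) (by simpa using ha) (hz0 Na ha2)
  obtain ⟨k', s', fb, hsb, hzb⟩ := exists_full H (N := Nb.mulVecLin) (by simpa using hb) (hz0 Nb hb2)
  have e1 := finrank_range_eq fa hza hsa
  have e2 := finrank_range_eq fb hzb hsb
  obtain rfl : k = k' := by
    rw [← e1, ← e2]
    exact hr
  obtain rfl : s = s' := by
    have := finrank_eq fa hsa
    have := finrank_eq fb hsb
    omega
  have hk : 0 < k := by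
    rcases Nat.eq_zero_or_pos k with rfl | hk
    · exfalso
      apply hne
      have : finrank F (LinearMap.range Na.mulVecLin) = 0 := e1
      rw [Submodule.finrank_eq_zero, LinearMap.range_eq_bot] at this
      exact Matrix.mulVec_injective (funext fun x => by simpa using LinearMap.congr_fun this x)
    · exact hk
  set T := fb.comb.comp fa.coord
  let g0 : Matrix (Fin n) (Fin n) F := LinearMap.toMatrix' T
  have hg0 : ∀ x, g0 *ᵥ x = T x := fun x => by simp [g0]
  have hiso : ∀ x y, hermB n σ (g0 *ᵥ x) (g0 *ᵥ y) = hermB n σ x y := fun x y => by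
    rw [hg0, hg0]
    conv_rhs => rw [← hsa x, ← hsa y, comb_gram fa]
    exact comb_gram fb _ _
  have hcom : ∀ x, g0 *ᵥ (Na *ᵥ x) = Nb *ᵥ (g0 *ᵥ x) := fun x => by
    rw [hg0, hg0]
    change fb.comb (fa.coord (Na.mulVecLin x)) = Nb.mulVecLin (fb.comb (fa.coord x))
    rw [comb_N fb hzb]
    conv_lhs => rw [← hsa x, comb_N fa hza, fa.coord_comb]
  have hNN : g0.det * σ g0.det = 1 := by
    have := congrArg Matrix.det ((preserves_iff_mul (σ := σ) g0).1 hiso)
    rwa [Matrix.det_mul, Matrix.det_transpose, Matrix.det_one, ← RingHom.mapMatrix_apply,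
      ← RingHom.map_det, mul_comm] at this
  have hd0 : g0.det ≠ 0 := left_ne_zero_of_mul_eq_one hNN
  obtain ⟨l, hl, hl2⟩ : ∃ l : F, l * σ l = 1 ∧ l ^ 2 = g0.det⁻¹ := by
    have hK : Nat.card (normHom σ).ker = q + 1 := by rw [card_ker_normHom hσ, hq]
    have hco : (Nat.card (normHom σ).ker).Coprime 2 := by
      rw [hK, Nat.coprime_two_right, Nat.odd_add_one, Nat.not_odd_iff_even]
      exact hqe
    have hmem : (Units.mk0 g0.det hd0)⁻¹ ∈ (normHom σ).ker :=
      inv_mem (MonoidHom.mem_ker.2 (Units.ext (by rw [normHom_coe]; simpa using hNN)))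
    obtain ⟨e, he⟩ := (powCoprime hco).surjective ⟨_, hmem⟩
    refine ⟨((e : Fˣ) : F), ?_, ?_⟩
    · rw [← normHom_coe, MonoidHom.mem_ker.1 e.2, Units.val_one]
    · have := congrArg (fun z : (normHom σ).ker => ((z : Fˣ) : F)) he
      simpa using this
  let i0 : Fin k := ⟨0, hk⟩
  set u0 := fa.u i0 with hu0
  set w0 := fa.w i0 with hw0
  let U : Matrix (Fin n) (Fin 2) F := Matrix.of fun i j => (l - 1) * ![u0, w0] j i
  let W : Matrix (Fin 2) (Fin n) F := Matrix.of fun j i => σ (![w0, u0] j i)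
  let D : Matrix (Fin n) (Fin n) F := 1 + U * W
  have hD : ∀ x, D *ᵥ x = x + ((l - 1) * hermB n σ w0 x) • u0 + ((l - 1) * hermB n σ u0 x) • w0 := by
    intro x
    have e : W *ᵥ x = ![hermB n σ w0 x, hermB n σ u0 x] := by
      funext j
      fin_cases j <;> simp [W, Matrix.mulVec, dotProduct, hermB_apply]
    rw [show D *ᵥ x = x + U *ᵥ (W *ᵥ x) by simp [D, Matrix.add_mulVec], e]
    funext i
    rw [Pi.add_apply, Pi.add_apply, Pi.add_apply, Matrix.mulVec, dotProduct, Fin.sum_univ_two]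
    simp [U]
    ring
  have b1 : hermB n σ u0 u0 = 0 := fa.uu _ _
  have b2 : hermB n σ w0 w0 = 0 := fa.ww _ _
  have b3 : hermB n σ u0 w0 = 1 := by rw [hu0, hw0, fa.uw, if_pos rfl]
  have b4 : hermB n σ w0 u0 = 1 := by rw [hu0, hw0, fa.wu, if_pos rfl]
  have hDiso : ∀ x y, hermB n σ (D *ᵥ x) (D *ᵥ y) = hermB n σ x y := by
    intro x y
    rw [hD, hD]
    simp only [map_add, map_smulₛₗ, LinearMap.add_apply, LinearMap.smul_apply, smul_eq_mul, RingHom.id_apply,
      map_mul, map_sub, map_one, H.symm, b1, b2, b3, b4]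
    linear_combination (hermB n σ x u0 * hermB n σ w0 y + hermB n σ x w0 * hermB n σ u0 y) * hl
  have hDcom : ∀ x, D *ᵥ (Na *ᵥ x) = Na *ᵥ (D *ᵥ x) := by
    intro x
    have c1 : Na *ᵥ u0 = w0 := fa.Nu i0
    have c2 : Na *ᵥ w0 = 0 := fa.Nw i0
    have c3 : hermB n σ w0 (Na *ᵥ x) = 0 := by rw [← ha, c2, map_zero, LinearMap.zero_apply]
    have c4 : hermB n σ u0 (Na *ᵥ x) = hermB n σ w0 x := by rw [← ha, c1]
    simp only [hD, Matrix.mulVec_add, Matrix.mulVec_smul, c1, c2, c3, c4, mul_zero, zero_smul, smul_zero, add_zero]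
  have hDdet : D.det = l ^ 2 := by
    have e : W * U = !![(l - 1), 0; 0, (l - 1)] := by
      ext i j
      have hh : ∀ a b : Fin n → F, ∑ x, σ (a x) * ((l - 1) * b x) = (l - 1) * hermB n σ a b := fun a b => by
        rw [hermB_apply, Finset.mul_sum]
        exact Finset.sum_congr rfl fun x _ => by ring
      fin_cases i <;> fin_cases j <;> simp [W, U, Matrix.mul_apply, hh, b1, b2, b3, b4]
    rw [show D = 1 + U * W from rfl, Matrix.det_one_add_mul_comm, e, Matrix.det_fin_two]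
    simp
    ring
  refine ⟨g0 * D, by rw [Matrix.det_mul, hDdet, hl2, mul_inv_cancel₀ hd0], fun x y => ?_, ?_⟩
  · simp only [← Matrix.mulVec_mulVec, hiso, hDiso]
  · refine Matrix.ext_of_mulVec_single fun j => ?_
    rw [← Matrix.mulVec_mulVec, ← Matrix.mulVec_mulVec, ← Matrix.mulVec_mulVec, ← Matrix.mulVec_mulVec,
      hDcom, hcom]

end


/-- Conjugacy of involutions in the special unitary group SU_n(q), q even, n ≥ 3, realised over the field F with q² elements as the matrices of determinant 1 preserving the form Σ u_i v_i^q: for two elements of order 2 of SU_n(q) the following are equivalent — they are conjugate in SU_n(q); they are conjugate in SL_n(F); the matrices a − 1 and b − 1 have the same rank. -/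
theorem result {F : Type*} [Field F] [Fintype F] [CharP F 2] {n q : ℕ} (hF : Fintype.card F = q ^ 2) (hn : 3 ≤ n) (a b : ↥(Cfsg.SU n F q)) (ha : orderOf a = 2) (hb : orderOf b = 2) :
    (IsConj a b ↔ IsConj (a : Matrix.SpecialLinearGroup (Fin n) F) (b : Matrix.SpecialLinearGroup (Fin n) F)) ∧
    (IsConj a b ↔ (((a : Matrix.SpecialLinearGroup (Fin n) F) : Matrix (Fin n) (Fin n) F) - 1).rank = (((b : Matrix.SpecialLinearGroup (Fin n) F) : Matrix (Fin n) (Fin n) F) - 1).rank) := by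
  classical
  obtain ⟨σ, hσq, hσ, hcard, hq1⟩ := Cfsg.Agent.Classical.exists_powHom hF
  have hqe : Even q := by
    have : ringChar F = 2 := ringChar.eq F 2
    have h := FiniteField.even_card_iff_char_two.1 this
    rw [hF, ← Nat.even_iff, Nat.even_pow] at h
    exact h.1
  have hdata : ∀ a : ↥(Cfsg.SU n F q), orderOf a = 2 →
      let N := ((a : Matrix.SpecialLinearGroup (Fin n) F) : Matrix (Fin n) (Fin n) F) - 1
      (∀ x y, hermB n σ (N *ᵥ x) y = hermB n σ x (N *ᵥ y)) ∧ N * N = 0 ∧ N ≠ 0 := by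
    intro a ha
    have haa : a * a = 1 := by rw [← sq, ← ha, pow_orderOf_eq_one]
    set M := ((a : Matrix.SpecialLinearGroup (Fin n) F) : Matrix (Fin n) (Fin n) F) with hM
    have hMM : M * M = 1 := congrArg (fun g : ↥(Cfsg.SU n F q) =>
      ((g : Matrix.SpecialLinearGroup (Fin n) F) : Matrix (Fin n) (Fin n) F)) haa
    refine ⟨fun x y => ?_, ?_, fun h0 => ?_⟩
    · have e : hermB n σ (M *ᵥ x) y = hermB n σ x (M *ᵥ y) := by
        conv_lhs => rw [← Matrix.one_mulVec y, ← hMM, ← Matrix.mulVec_mulVec, (mem_SU_iff hσq _).1 a.2]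
      simp [Matrix.sub_mulVec, map_sub, e]
    · rw [sub_mul, mul_sub, hMM, mul_one, one_mul]
      have h2 : (2 : Matrix (Fin n) (Fin n) F) = 0 := by
        rw [← map_ofNat (Matrix.scalar (Fin n)), show (2 : F) = 0 by exact_mod_cast CharP.cast_eq_zero F 2, map_zero]
      have : (1 : Matrix (Fin n) (Fin n) F) - M - (M - 1) = 2 - 2 * M := by rw [two_mul, ← one_add_one_eq_two]; abel
      rw [this, h2, zero_mul, sub_zero]
    · have h1 : a = 1 := Subtype.ext (Subtype.ext (sub_eq_zero.1 h0))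
      rw [h1, orderOf_one] at ha
      omega
  obtain ⟨ha1, ha2, ha3⟩ := hdata a ha
  obtain ⟨hb1, hb2, hb3⟩ := hdata b hb
  have key : (((a : Matrix.SpecialLinearGroup (Fin n) F) : Matrix (Fin n) (Fin n) F) - 1).rank =
      (((b : Matrix.SpecialLinearGroup (Fin n) F) : Matrix (Fin n) (Fin n) F) - 1).rank → IsConj a b := by
    intro hr
    obtain ⟨g, hgd, hgi, hg⟩ := exists_conj hσ hcard hqe _ _ ha1 ha2 hb1 hb2 hr ha3
    obtain ⟨g0, hg0⟩ : ∃ g0 : Matrix.SpecialLinearGroup (Fin n) F, (g0 : Matrix (Fin n) (Fin n) F) = g :=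
      ⟨⟨g, hgd⟩, rfl⟩
    have hmem : g0 ∈ Cfsg.SU n F q := (mem_SU_iff hσq _).2 (by rw [hg0]; exact hgi)
    refine isConj_iff.2 ⟨⟨g0, hmem⟩, mul_inv_eq_iff_eq_mul.2 (Subtype.ext (Subtype.ext ?_))⟩
    simp only [Subgroup.coe_mul, Matrix.SpecialLinearGroup.coe_mul, hg0]
    rw [mul_sub, sub_mul, mul_one, one_mul, sub_left_inj] at hg
    exact hg
  have hsl : IsConj (a : Matrix.SpecialLinearGroup (Fin n) F) (b : Matrix.SpecialLinearGroup (Fin n) F) →
      (((a : Matrix.SpecialLinearGroup (Fin n) F) : Matrix (Fin n) (Fin n) F) - 1).rank =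
        (((b : Matrix.SpecialLinearGroup (Fin n) F) : Matrix (Fin n) (Fin n) F) - 1).rank := by
    intro h
    obtain ⟨c, hc⟩ := isConj_iff.1 h
    rw [← hc, Matrix.SpecialLinearGroup.coe_mul, Matrix.SpecialLinearGroup.coe_mul]
    have e : (c : Matrix (Fin n) (Fin n) F) * ((a : Matrix.SpecialLinearGroup (Fin n) F) : Matrix (Fin n) (Fin n) F) *
        ((c⁻¹ : Matrix.SpecialLinearGroup (Fin n) F) : Matrix (Fin n) (Fin n) F) - 1 =
        (c : Matrix (Fin n) (Fin n) F) * (((a : Matrix.SpecialLinearGroup (Fin n) F) : Matrix (Fin n) (Fin n) F) - 1) *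
        ((c⁻¹ : Matrix.SpecialLinearGroup (Fin n) F) : Matrix (Fin n) (Fin n) F) := by
      rw [mul_sub, mul_one, sub_mul, ← Matrix.SpecialLinearGroup.coe_mul c c⁻¹, mul_inv_cancel,
        Matrix.SpecialLinearGroup.coe_one]
    rw [e, Matrix.rank_mul_eq_left_of_isUnit_det _ _ (by rw [Matrix.SpecialLinearGroup.det_coe]; exact isUnit_one),
      Matrix.rank_mul_eq_right_of_isUnit_det _ _ (by rw [Matrix.SpecialLinearGroup.det_coe]; exact isUnit_one)]
  exact ⟨⟨fun h => (MonoidHom.map_isConj (Cfsg.SU n F q).subtype h), fun h => key (hsl h)⟩,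
    ⟨fun h => hsl (MonoidHom.map_isConj (Cfsg.SU n F q).subtype h), key⟩⟩

end Cfsg.Agent.S2164
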