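import Cfsg.Statements.S2166
import Mathlib
import Cfsg.Agent.Classical.SympInvolFrame
import Cfsg.Agent.Classical.SympGroup

set_option autoImplicit false
open Cfsg

namespace Cfsg.Agent.S2166

open Matrix Module Cfsg.Agent.Classical Cfsg.Agent.Classical.SInv

section

variable {F : Type*} [Field F] {V : Type*} [AddCommGroup V] [Module F V] {B : LinearMap.BilinForm F V}

theorem comb_gram {N : V →ₗ[F] V} (D : SData B N) {ι : Type} [Fintype ι] [DecidableEq ι] {π : ι → ι}
    (hπ : ∀ i, π (π i) = i) {u : ι → V} (hu : IsFr B N π u) {s : ℕ} {z z' : Fin s → V} (hz : IsPairs B N u z z')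
    (x y : (ι → F) × (ι → F) × (Fin s → F) × (Fin s → F)) :
    B (comb N u z z' x) (comb N u z z' y) =
      (∑ i, x.1 i * y.2.1 (π i)) + (∑ i, x.2.1 i * y.1 (π i)) +
        ((∑ i, x.2.2.1 i * y.2.2.2 i) + ∑ i, x.2.2.2 i * y.2.2.1 i) := by
  have h := coord_comb D hπ hu hz y
  simp only [Prod.ext_iff, funext_iff, coord, LinearMap.prod_apply, Function.prod_apply,
    LinearMap.pi_apply] at h
  obtain ⟨h1, h2, h3, h4⟩ := h
  have e1 : ∀ i, B (u i) (comb N u z z' y) = y.2.1 (π i) := fun i => by rw [← h2 (π i), hπ]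
  have e2 : ∀ i, B (N (u i)) (comb N u z z' y) = y.1 (π i) := fun i => by rw [← h1 (π i), hπ]
  rw [comb_apply u z z' x]
  simp only [map_add, map_sum, map_smul, LinearMap.add_apply, LinearMap.coe_sum, Finset.sum_apply,
    LinearMap.smul_apply, smul_eq_mul, e1, e2, h3, h4]
  ring

theorem comb_N {N : V →ₗ[F] V} (D : SData B N) {ι : Type} [Fintype ι] {u : ι → V} {s : ℕ} {z z' : Fin s → V}
    (h1 : ∀ i, N (z i) = 0) (h2 : ∀ i, N (z' i) = 0) (x : (ι → F) × (ι → F) × (Fin s → F) × (Fin s → F)) :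
    N (comb N u z z' x) = comb N u z z' (0, x.1, 0, 0) := by
  simp [comb_apply, map_sum, D.sq, h1, h2]

theorem finrank_range_eq {N : V →ₗ[F] V} (D : SData B N) {ι : Type} [Fintype ι] [DecidableEq ι] {π : ι → ι}
    (hπ : ∀ i, π (π i) = i) {u : ι → V} (hu : IsFr B N π u) {s : ℕ} {z z' : Fin s → V} (hz : IsPairs B N u z z')
    (h1 : ∀ i, N (z i) = 0) (h2 : ∀ i, N (z' i) = 0) (hs : ∀ v, comb N u z z' (coord B N π u z z' v) = v) :
    finrank F (LinearMap.range N) = Fintype.card ι := by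
  let L : (ι → F) →ₗ[F] V := (comb N u z z').comp ((LinearMap.inr F _ _).comp (LinearMap.inl F _ _))
  have hL : ∀ a, L a = comb N u z z' (0, a, 0, 0) := fun a => rfl
  have hinj : Function.Injective L := fun a b e => by
    have := congrArg (coord B N π u z z') e
    rw [hL, hL, coord_comb D hπ hu hz, coord_comb D hπ hu hz] at this
    exact congrArg (fun x => x.2.1) this
  have hr : LinearMap.range N = LinearMap.range L := by
    refine le_antisymm ?_ ?_
    · rintro _ ⟨v, rfl⟩
      exact ⟨(coord B N π u z z' v).1, by rw [hL, ← comb_N D h1 h2, hs]⟩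
    · rintro _ ⟨a, rfl⟩
      exact ⟨comb N u z z' (a, 0, 0, 0), by rw [comb_N D h1 h2, hL]⟩
  rw [hr, LinearMap.finrank_range_of_inj hinj, finrank_fintype_fun_eq_card]

theorem finrank_eq {N : V →ₗ[F] V} (D : SData B N) {ι : Type} [Fintype ι] [DecidableEq ι] {π : ι → ι}
    (hπ : ∀ i, π (π i) = i) {u : ι → V} (hu : IsFr B N π u) {s : ℕ} {z z' : Fin s → V} (hz : IsPairs B N u z z')
    (hs : ∀ v, comb N u z z' (coord B N π u z z' v) = v) :
    Fintype.card ι + (Fintype.card ι + (s + s)) = finrank F V := by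
  rw [← LinearEquiv.finrank_eq (LinearEquiv.ofLinearMap (comb N u z z') (coord B N π u z z')
    (LinearMap.ext hs) (LinearMap.ext (coord_comb D hπ hu hz)))]
  simp

/-- The isometry carrying one completed frame to another of the same shape. -/
theorem exists_iso {Na Nb : V →ₗ[F] V} (Da : SData B Na) (Db : SData B Nb) {ι : Type} [Fintype ι] [DecidableEq ι]
    {π : ι → ι} (hπ : ∀ i, π (π i) = i) [FiniteDimensional F V] {ua ub : ι → V} (ha : IsFr B Na π ua)
    (hb : IsFr B Nb π ub) (hQa : ∀ x, Perp B Na ua x → Na x = 0) (hQb : ∀ x, Perp B Nb ub x → Nb x = 0) :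
    ∃ T : V →ₗ[F] V, (∀ x y, B (T x) (T y) = B x y) ∧ ∀ x, T (Na x) = Nb (T x) := by
  obtain ⟨s, za, za', hza, a1, a2, hsa⟩ := exists_complete Da hπ ha hQa
  obtain ⟨t, zb, zb', hzb, b1, b2, hsb⟩ := exists_complete Db hπ hb hQb
  obtain rfl : s = t := by
    have := finrank_eq Da hπ ha hza hsa
    have := finrank_eq Db hπ hb hzb hsb
    omega
  refine ⟨(comb Nb ub zb zb').comp (coord B Na π ua za za'), fun x y => ?_, fun x => ?_⟩
  · conv_rhs => rw [← hsa x, ← hsa y, comb_gram Da hπ ha hza]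
    exact comb_gram Db hπ hb hzb _ _
  · simp only [LinearMap.comp_apply]
    rw [comb_N Db b1 b2]
    conv_lhs => rw [← hsa x, comb_N Da a1 a2, coord_comb Da hπ ha hza]

theorem rank_eq_card {N : V →ₗ[F] V} (D : SData B N) {ι : Type} [Fintype ι] [DecidableEq ι] {π : ι → ι}
    (hπ : ∀ i, π (π i) = i) [FiniteDimensional F V] {u : ι → V} (hu : IsFr B N π u)
    (hQ : ∀ x, Perp B N u x → N x = 0) : finrank F (LinearMap.range N) = Fintype.card ι := by
  obtain ⟨s, z, z', hz, a1, a2, hs⟩ := exists_complete D hπ hu hQ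
  exact finrank_range_eq D hπ hu hz a1 a2 hs

/-- The two invariants determine the map up to isometry. -/
theorem exists_conj [Finite F] [FiniteDimensional F V] {Na Nb : V →ₗ[F] V} (Da : SData B Na) (Db : SData B Nb)
    (hr : finrank F (LinearMap.range Na) = finrank F (LinearMap.range Nb))
    (hq : (∀ x, B x (Na x) = 0) ↔ ∀ x, B x (Nb x) = 0) :
    ∃ T : V →ₗ[F] V, (∀ x y, B (T x) (T y) = B x y) ∧ ∀ x, T (Na x) = Nb (T x) := by
  by_cases h : ∀ x, B x (Na x) = 0
  · obtain ⟨k, ua, ha, hQa⟩ := exists_alt Da h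
    obtain ⟨l, ub, hb, hQb⟩ := exists_alt Db (hq.1 h)
    have e1 := rank_eq_card Da (fun i : Fin k × Bool => by simp) ha hQa
    have e2 := rank_eq_card Db (fun i : Fin l × Bool => by simp) hb hQb
    obtain rfl : k = l := by simp at e1 e2; omega
    exact exists_iso Da Db (fun i : Fin k × Bool => by simp) ha hb hQa hQb
  · have h' := mt hq.2 h
    push Not at h h'
    obtain ⟨x, hx⟩ := h
    obtain ⟨y, hy⟩ := h'
    obtain ⟨k, ua, ha, hQa⟩ := exists_diag Da hx
    obtain ⟨l, ub, hb, hQb⟩ := exists_diag Db hy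
    have e1 := rank_eq_card Da (fun i => rfl) ha hQa
    have e2 := rank_eq_card Db (fun i => rfl) hb hQb
    obtain rfl : k = l := by simp at e1 e2; omega
    exact exists_iso Da Db (fun i => rfl) ha hb hQa hQb

theorem even_rank {N : V →ₗ[F] V} [FiniteDimensional F V] (D : SData B N) (h : ∀ x, B x (N x) = 0) :
    Even (finrank F (LinearMap.range N)) := by
  obtain ⟨k, u, hu, hQ⟩ := exists_alt D h
  rw [rank_eq_card D (fun i : Fin k × Bool => by simp) hu hQ, Fintype.card_prod, Fintype.card_bool]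
  exact even_two.mul_left _

end


/-- Conjugacy of involutions in the symplectic group Sp_{2m}(F), F a finite field of characteristic two, m ≥ 2 (Sp taken as the matrices A with A J Aᵀ = J, acting on column vectors, with the alternating form f(u, v) = u ⬝ (J v)). For an involution t write V(t) for the set of vectors v with f(v, t v) = 0 (a subspace). Two involutions a, b are conjugate in Sp_{2m}(F) exactly when a − 1 and b − 1 have the same rank and, in case that rank is even, V(a) and V(b) have the same number of elements. -/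
theorem result {F : Type*} [Field F] [Fintype F] [CharP F 2] {m : ℕ} (hm : 2 ≤ m) (a b : ↥(Matrix.symplecticGroup (Fin m) F)) (ha : orderOf a = 2) (hb : orderOf b = 2) :
    IsConj a b ↔ ((((a : ↥(Matrix.symplecticGroup (Fin m) F)) : Matrix (Fin m ⊕ Fin m) (Fin m ⊕ Fin m) F) - 1).rank = (((b : ↥(Matrix.symplecticGroup (Fin m) F)) : Matrix (Fin m ⊕ Fin m) (Fin m ⊕ Fin m) F) - 1).rank ∧
      (Even (((a : ↥(Matrix.symplecticGroup (Fin m) F)) : Matrix (Fin m ⊕ Fin m) (Fin m ⊕ Fin m) F) - 1).rank → Nat.card {v : Fin m ⊕ Fin m → F // Cfsg.sympForm m F v (Matrix.mulVec ((a : ↥(Matrix.symplecticGroup (Fin m) F)) : Matrix (Fin m ⊕ Fin m) (Fin m ⊕ Fin m) F) v) = 0} = Nat.card {v : Fin m ⊕ Fin m → F // Cfsg.sympForm m F v (Matrix.mulVec ((b : ↥(Matrix.symplecticGroup (Fin m) F)) : Matrix (Fin m ⊕ Fin m) (Fin m ⊕ Fin m) F) v) = 0})) := by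
  classical
  have h2 : (2 : F) = 0 := by exact_mod_cast CharP.cast_eq_zero F 2
  have hdata : ∀ a : ↥(Matrix.symplecticGroup (Fin m) F), orderOf a = 2 →
      SData (sympB m F) ((a : Matrix (Fin m ⊕ Fin m) (Fin m ⊕ Fin m) F) - 1).mulVecLin ∧
      ∀ v, sympB m F v (((a : Matrix (Fin m ⊕ Fin m) (Fin m ⊕ Fin m) F) - 1).mulVecLin v) =
        Cfsg.sympForm m F v ((a : Matrix (Fin m ⊕ Fin m) (Fin m ⊕ Fin m) F) *ᵥ v) := by
    intro a ha
    have haa : a * a = 1 := by rw [← sq, ← ha, pow_orderOf_eq_one]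
    set M := (a : Matrix (Fin m ⊕ Fin m) (Fin m ⊕ Fin m) F)
    have hMM : M * M = 1 := congrArg Subtype.val haa
    have hs : ∀ x y, sympB m F x y = sympB m F y x := fun x y => by
      have e := sympB_isAlt (m := m) (F := F) (x + y)
      simp only [map_add, LinearMap.add_apply, sympB_isAlt x, sympB_isAlt y] at e
      linear_combination e - (sympB m F y x) * h2
    refine ⟨⟨h2, fun x => sympB_isAlt x, hs, fun x hx => sympB_nondeg.1 x hx, fun x y => ?_, fun x => ?_⟩,
      fun v => ?_⟩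
    · have e : sympB m F (M *ᵥ x) y = sympB m F x (M *ᵥ y) := by
        conv_lhs => rw [← Matrix.one_mulVec y, ← hMM, ← Matrix.mulVec_mulVec, (mem_symplectic_iff _).1 a.2]
      simp [Matrix.sub_mulVec, map_sub, e]
    · have : (M - 1) * (M - 1) = 0 := by
        rw [sub_mul, mul_sub, hMM, mul_one, one_mul]
        have h2' : (2 : Matrix (Fin m ⊕ Fin m) (Fin m ⊕ Fin m) F) = 0 := by
          rw [← map_ofNat (Matrix.scalar (Fin m ⊕ Fin m)), h2, map_zero]
        rw [show (1 : Matrix (Fin m ⊕ Fin m) (Fin m ⊕ Fin m) F) - M - (M - 1) = 2 - 2 * M by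
          rw [two_mul, ← one_add_one_eq_two]; abel, h2', zero_mul, sub_zero]
      rw [Matrix.mulVecLin_apply, Matrix.mulVecLin_apply, Matrix.mulVec_mulVec, this, Matrix.zero_mulVec]
    · rw [Matrix.mulVecLin_apply, Matrix.sub_mulVec, Matrix.one_mulVec, map_sub, sympB_isAlt v, sub_zero,
        sympB_apply]
  obtain ⟨Da, qa⟩ := hdata a ha
  obtain ⟨Db, qb⟩ := hdata b hb
  constructor
  · intro h
    obtain ⟨c, hc⟩ := isConj_iff.1 h
    set C := (c : Matrix (Fin m ⊕ Fin m) (Fin m ⊕ Fin m) F)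
    set C' := ((c⁻¹ : ↥(Matrix.symplecticGroup (Fin m) F)) : Matrix (Fin m ⊕ Fin m) (Fin m ⊕ Fin m) F)
    have hcc : C * C' = 1 := congrArg Subtype.val (mul_inv_cancel c)
    have hcc' : C' * C = 1 := congrArg Subtype.val (inv_mul_cancel c)
    have hb' : (b : Matrix (Fin m ⊕ Fin m) (Fin m ⊕ Fin m) F) = C * a * C' := (congrArg Subtype.val hc).symm
    have hu : IsUnit C.det := (Matrix.isUnit_iff_isUnit_det C).1 ⟨⟨C, C', hcc, hcc'⟩, rfl⟩
    have hu' : IsUnit C'.det := (Matrix.isUnit_iff_isUnit_det C').1 ⟨⟨C', C, hcc', hcc⟩, rfl⟩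
    refine ⟨?_, fun _ => ?_⟩
    · rw [hb', show C * a * C' - 1 = C * ((a : Matrix (Fin m ⊕ Fin m) (Fin m ⊕ Fin m) F) - 1) * C' by
        rw [mul_sub, mul_one, sub_mul, hcc], Matrix.rank_mul_eq_left_of_isUnit_det _ _ hu',
        Matrix.rank_mul_eq_right_of_isUnit_det _ _ hu]
    · have hiso := (mem_symplectic_iff C).1 c.2
      refine Nat.card_congr (Equiv.subtypeEquiv
        { toFun := fun v => C *ᵥ v
          invFun := fun v => C' *ᵥ v
          left_inv := fun v => by simp [hcc']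
          right_inv := fun v => by simp [hcc] } fun v => ?_)
      simp only [Equiv.coe_fn_mk, ← sympB_apply, hb', Matrix.mulVec_mulVec, Matrix.mul_assoc, hcc', Matrix.mul_one]
      rw [← Matrix.mulVec_mulVec, hiso]
  · rintro ⟨hr, hcard⟩
    have hall : ∀ a : ↥(Matrix.symplecticGroup (Fin m) F),
        Nat.card {v : Fin m ⊕ Fin m → F // Cfsg.sympForm m F v ((a : Matrix (Fin m ⊕ Fin m) (Fin m ⊕ Fin m) F) *ᵥ v) = 0} =
          Nat.card (Fin m ⊕ Fin m → F) ↔
        ∀ v, Cfsg.sympForm m F v ((a : Matrix (Fin m ⊕ Fin m) (Fin m ⊕ Fin m) F) *ᵥ v) = 0 := by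
      intro a
      simp only [Nat.card_eq_fintype_card, Fintype.card_subtype, Finset.card_eq_iff_eq_univ, Finset.filter_eq_self,
        Finset.mem_univ, true_implies]
    have hq : (∀ x, sympB m F x (((a : Matrix (Fin m ⊕ Fin m) (Fin m ⊕ Fin m) F) - 1).mulVecLin x) = 0) ↔
        ∀ x, sympB m F x (((b : Matrix (Fin m ⊕ Fin m) (Fin m ⊕ Fin m) F) - 1).mulVecLin x) = 0 := by
      constructor
      · intro h
        have he : Even ((a : Matrix (Fin m ⊕ Fin m) (Fin m ⊕ Fin m) F) - 1).rank := even_rank Da h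
        simp only [qa] at h
        simp only [qb]
        exact (hall b).1 ((hcard he).symm.trans ((hall a).2 h))
      · intro h
        have he : Even ((a : Matrix (Fin m ⊕ Fin m) (Fin m ⊕ Fin m) F) - 1).rank := by
          rw [hr]; exact even_rank Db h
        simp only [qb] at h
        simp only [qa]
        exact (hall a).1 ((hcard he).trans ((hall b).2 h))
    obtain ⟨T, hT, hTN⟩ := exists_conj Da Db hr hq
    obtain ⟨g, hg⟩ : ∃ g : Matrix (Fin m ⊕ Fin m) (Fin m ⊕ Fin m) F, ∀ x, g *ᵥ x = T x :=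
      ⟨LinearMap.toMatrix' T, fun x => by simp⟩
    have hmem : g ∈ Matrix.symplecticGroup (Fin m) F := (mem_symplectic_iff g).2 fun u v => by rw [hg, hg, hT]
    refine isConj_iff.2 ⟨⟨g, hmem⟩, mul_inv_eq_iff_eq_mul.2 (Subtype.ext ?_)⟩
    change g * (a : Matrix (Fin m ⊕ Fin m) (Fin m ⊕ Fin m) F) = (b : Matrix (Fin m ⊕ Fin m) (Fin m ⊕ Fin m) F) * g
    refine Matrix.ext_of_mulVec_single fun j => ?_
    have e := hTN (Pi.single j 1)
    simp only [Matrix.mulVecLin_apply, ← hg, Matrix.sub_mulVec, Matrix.one_mulVec, Matrix.mulVec_sub,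
      Matrix.mulVec_mulVec] at e
    rw [sub_mul, one_mul, Matrix.sub_mulVec] at e
    exact sub_left_injective e

end Cfsg.Agent.S2166
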