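import Cfsg.Statements.S2167
import Cfsg.Agent.Classical.AltBasis
import Mathlib

set_option autoImplicit false
open Cfsg

namespace Cfsg.Agent.S2167

open Matrix

/-- The radical of an alternating form has even codimension. -/
theorem even_codim_ker {F V : Type*} [Field F] [AddCommGroup V] [Module F V] [FiniteDimensional F V]
    (B : LinearMap.BilinForm F V) (hA : B.IsAlt) :
    ∃ r, Even r ∧ Module.finrank F ↥(LinearMap.ker B) + r = Module.finrank F V := by
  classical
  obtain ⟨m, k, b, h1, h2, h3, h4⟩ := Cfsg.Agent.Classical.Alt.exists_basis_symp hA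
  refine ⟨m + m, ⟨m, rfl⟩, ?_⟩
  have hker : LinearMap.ker B = Submodule.span F (Set.range (b ∘ Sum.inr)) := by
    refine le_antisymm (fun v hv => ?_) (Submodule.span_le.2 ?_)
    · have hv' : ∀ w, B v w = 0 := fun w => by rw [LinearMap.mem_ker.1 hv]; rfl
      have hsum := b.sum_repr v
      rw [Fintype.sum_sum_type, Fintype.sum_sum_type] at hsum
      have hbneg : ∀ x y, B y x = -B x y := fun x y => (LinearMap.IsAlt.neg hA x y).symm
      have hl : ∀ j, b.repr v (Sum.inl (Sum.inl j)) = 0 := by
        intro j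
        have := hv' (b (Sum.inl (Sum.inr j)))
        rw [← hsum] at this
        simpa [map_add, map_sum, map_smul, h1, h3, h4] using this
      have hr : ∀ j, b.repr v (Sum.inl (Sum.inr j)) = 0 := by
        intro j
        have := hv' (b (Sum.inl (Sum.inl j)))
        rw [← hsum] at this
        simpa [map_add, map_sum, map_smul, h2, h4, hbneg (b (Sum.inl (Sum.inl j))), h1] using this
      rw [← hsum]
      simp only [hl, hr, zero_smul, Finset.sum_const_zero, zero_add]
      exact Submodule.sum_mem _ fun j _ => Submodule.smul_mem _ _ (Submodule.subset_span ⟨j, rfl⟩)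
    · rintro _ ⟨j, rfl⟩
      exact LinearMap.mem_ker.2 (LinearMap.ext (h4 j))
  rw [hker, finrank_span_eq_card (b.linearIndependent.comp Sum.inr Sum.inr_injective),
    Module.finrank_eq_card_basis b]
  simp only [Fintype.card_sum, Fintype.card_fin]
  omega

/-- For an involution t of the symplectic group Sp_{2m}(F), m ≥ 2, F a finite field of characteristic two (matrices A with A J Aᵀ = J acting on column vectors, alternating form f(u, v) = u ⬝ (J v)): the set V(t) of vectors v with f(v, t v) = 0 has either q^{2m} or q^{2m−1} elements, q the order of F (it is a subspace of codimension at most 1), and if it is the whole space then t − 1 has even rank. -/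
theorem result {F : Type*} [Field F] [Fintype F] [CharP F 2] {m : ℕ} (hm : 2 ≤ m) (a : ↥(Matrix.symplecticGroup (Fin m) F)) (ha : orderOf a = 2) :
    (Nat.card {v : Fin m ⊕ Fin m → F // Cfsg.sympForm m F v (Matrix.mulVec ((a : ↥(Matrix.symplecticGroup (Fin m) F)) : Matrix (Fin m ⊕ Fin m) (Fin m ⊕ Fin m) F) v) = 0} = Fintype.card F ^ (2 * m) ∨ Nat.card {v : Fin m ⊕ Fin m → F // Cfsg.sympForm m F v (Matrix.mulVec ((a : ↥(Matrix.symplecticGroup (Fin m) F)) : Matrix (Fin m ⊕ Fin m) (Fin m ⊕ Fin m) F) v) = 0} * Fintype.card F = Fintype.card F ^ (2 * m)) ∧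
    ((∀ v : Fin m ⊕ Fin m → F, Cfsg.sympForm m F v (Matrix.mulVec ((a : ↥(Matrix.symplecticGroup (Fin m) F)) : Matrix (Fin m ⊕ Fin m) (Fin m ⊕ Fin m) F) v) = 0) → Even (((a : ↥(Matrix.symplecticGroup (Fin m) F)) : Matrix (Fin m ⊕ Fin m) (Fin m ⊕ Fin m) F) - 1).rank) := by
  classical
  set A : Matrix (Fin m ⊕ Fin m) (Fin m ⊕ Fin m) F :=
    ((a : ↥(Matrix.symplecticGroup (Fin m) F)) : Matrix (Fin m ⊕ Fin m) (Fin m ⊕ Fin m) F) with hAdef
  set J := Matrix.J (Fin m) F with hJ
  have hAA : A * A = 1 := by
    have h := pow_orderOf_eq_one a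
    rw [ha, pow_two] at h
    exact congrArg Subtype.val h
  have hsymp : Aᵀ * J * A = J := SymplecticGroup.mem_iff'.1 a.2
  have hinv : ∀ u v, Cfsg.sympForm m F (A *ᵥ u) (A *ᵥ v) = Cfsg.sympForm m F u v := by
    intro u v
    unfold Cfsg.sympForm
    rw [← hJ, dotProduct_comm, dotProduct_mulVec, ← mulVec_transpose, mulVec_mulVec, mulVec_mulVec,
      hsymp, dotProduct_comm]
  have hsw : ∀ u v, Cfsg.sympForm m F v u = -Cfsg.sympForm m F u v := by
    intro u v
    unfold Cfsg.sympForm
    rw [← hJ, dotProduct_comm, ← dotProduct_neg, ← neg_mulVec, ← J_transpose, ← hJ, mulVec_transpose,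
      dotProduct_comm u, ← dotProduct_mulVec, dotProduct_comm]
  have hneg : ∀ x : F, -x = x := CharTwo.neg_eq
  have hcross : ∀ u v, Cfsg.sympForm m F v (A *ᵥ u) = -Cfsg.sympForm m F u (A *ᵥ v) := by
    intro u v
    rw [← hinv v (A *ᵥ u), mulVec_mulVec, hAA, one_mulVec, hsw]
  have hadd : ∀ u v, Cfsg.sympForm m F (u + v) (A *ᵥ (u + v)) =
      Cfsg.sympForm m F u (A *ᵥ u) + Cfsg.sympForm m F v (A *ᵥ v) := by
    intro u v
    have := hcross u v
    simp only [Cfsg.sympForm, mulVec_add, add_dotProduct, dotProduct_add] at this ⊢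
    linear_combination this
  haveI : Fact (Nat.Prime 2) := ⟨Nat.prime_two⟩
  haveI : ExpChar F 2 := ExpChar.prime Nat.prime_two
  let σ := (frobeniusEquiv F 2).symm
  have hσ : ∀ c : F, σ (c ^ 2) = c := fun c => by
    rw [← frobeniusEquiv_def]; exact (frobeniusEquiv F 2).symm_apply_apply c
  let L : (Fin m ⊕ Fin m → F) →ₗ[F] F :=
    { toFun := fun v => σ (Cfsg.sympForm m F v (A *ᵥ v))
      map_add' := fun u v => by rw [hadd, map_add]
      map_smul' := fun c v => by
        rw [RingHom.id_apply, smul_eq_mul]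
        have : Cfsg.sympForm m F (c • v) (A *ᵥ (c • v)) = c ^ 2 * Cfsg.sympForm m F v (A *ᵥ v) := by
          simp [Cfsg.sympForm, mulVec_smul]
          ring
        rw [this, map_mul, hσ] }
  have hL : ∀ v, v ∈ LinearMap.ker L ↔ Cfsg.sympForm m F v (A *ᵥ v) = 0 := fun v => by
    rw [LinearMap.mem_ker]
    exact map_eq_zero_iff σ σ.injective
  have hcard : Nat.card {v : Fin m ⊕ Fin m → F // Cfsg.sympForm m F v (A *ᵥ v) = 0} =
      Fintype.card F ^ Module.finrank F ↥(LinearMap.ker L) := by
    rw [← Nat.card_eq_fintype_card, ← Module.natCard_eq_pow_finrank]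
    exact Nat.card_congr (Equiv.subtypeEquivRight fun v => (hL v).symm)
  have hdim : Module.finrank F (Fin m ⊕ Fin m → F) = 2 * m := by
    rw [Module.finrank_fintype_fun_eq_card, Fintype.card_sum, Fintype.card_fin]; ring
  have hrk := LinearMap.finrank_range_add_finrank_ker L
  have hle : Module.finrank F ↥(LinearMap.range L) ≤ 1 :=
    (Submodule.finrank_le _).trans (Module.finrank_self F).le
  rw [hdim] at hrk
  refine ⟨?_, fun hall => ?_⟩
  · rcases Nat.le_one_iff_eq_zero_or_eq_one.1 hle with h | h
    · left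
      rw [hcard]
      congr 1
      omega
    · right
      rw [hcard, ← pow_succ]
      congr 1
      omega
  · let B : LinearMap.BilinForm F (Fin m ⊕ Fin m → F) := Matrix.toBilin' (J * (A - 1))
    have hB : ∀ u v, B u v = u ⬝ᵥ (J *ᵥ ((A - 1) *ᵥ v)) := fun u v => by
      rw [Matrix.toBilin'_apply', mulVec_mulVec]
    have halt : B.IsAlt := fun v => by
      rw [hB, sub_mulVec, one_mulVec, mulVec_sub, dotProduct_sub]
      have h0 : Cfsg.sympForm m F v v = 0 := by
        unfold Cfsg.sympForm Matrix.J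
        rw [fromBlocks_mulVec]
        simp only [dotProduct, Fintype.sum_sum_type, Sum.elim_inl, Sum.elim_inr, zero_mulVec,
          neg_mulVec, one_mulVec, Pi.add_apply, Pi.neg_apply, Pi.zero_apply, zero_add, add_zero,
          mul_neg, Finset.sum_neg_distrib, Function.comp_apply]
        rw [neg_add_eq_zero]
        exact Finset.sum_congr rfl fun i _ => mul_comm _ _
      exact (congrArg₂ (· - ·) (hall v) h0).trans (sub_zero 0)
    obtain ⟨r, hr, hsum⟩ := even_codim_ker B halt
    have hker : LinearMap.ker B = LinearMap.ker (Matrix.mulVecLin (J * (A - 1))) := by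
      ext v
      rw [LinearMap.mem_ker, LinearMap.mem_ker, Matrix.mulVecLin_apply, ← mulVec_mulVec]
      refine ⟨fun h => dotProduct_eq_zero _ fun u => ?_, fun h => LinearMap.ext fun u => ?_⟩
      · rw [dotProduct_comm, ← hB, ← LinearMap.IsAlt.neg halt, h]
        simp
      · rw [← LinearMap.IsAlt.neg halt, hB, h, dotProduct_zero, neg_zero]
        rfl
    have h2 := LinearMap.finrank_range_add_finrank_ker (Matrix.mulVecLin (J * (A - 1)))
    have hrank : (J * (A - 1)).rank = (A - 1).rank :=
      Matrix.rank_mul_eq_right_of_isUnit_det J (A - 1) (isUnit_det_J (Fin m) F)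
    rw [← hker, hdim] at h2
    rw [hdim] at hsum
    have h3 : (J * (A - 1)).rank = r := by
      unfold Matrix.rank
      omega
    rw [← hrank, h3]
    exact hr

end Cfsg.Agent.S2167
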