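import Cfsg.Statements.S2169
import Cfsg.Agent.Classical.OrthBlocks
-- import your own Cfsg.Agent.* helpers here

set_option autoImplicit false
open Cfsg

namespace Cfsg.Agent.S2169

/-- For the hyperbolic quadratic form Σ x_i y_i in dimension 2m over a finite field F of characteristic two, m ≥ 4 (plus type): an element of order 2 of the full isometry group O lies in the commutator subgroup Ω of O exactly when t − 1 has even rank. -/
theorem result {F : Type*} [Field F] [Fintype F] [CharP F 2] {m : ℕ} (hm : 4 ≤ m) (t : ↥(Cfsg.isometryGroup F (Cfsg.quadFormPlus m F))) (ht : orderOf t = 2) :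
    t ∈ Cfsg.Omega F (Cfsg.quadFormPlus m F) ↔ Even ((((t : ↥(Cfsg.isometryGroup F (Cfsg.quadFormPlus m F))) : GL (Fin m ⊕ Fin m) F) : Matrix (Fin m ⊕ Fin m) (Fin m ⊕ Fin m) F) - 1).rank := by
  open Cfsg.Agent.Classical.Quad QuadraticMap in
    revert t
    rw [← coe_plusQ]
    intro t ht
    have hex : Nat.card F ≠ 2 ∨ Module.finrank F (Fin m ⊕ Fin m → F) ≠ 4 := by
      rw [finrank_plus]; omega
    rw [mem_omega_iff, mem_commutator_chars nondeg_plusQ hex]
    have hr := LinearMap.finrank_range_add_finrank_ker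
      (Matrix.mulVecLin ((((t : GL (Fin m ⊕ Fin m) F)) : Matrix (Fin m ⊕ Fin m) (Fin m ⊕ Fin m) F) - 1))
    have hk : LinearMap.ker (Matrix.mulVecLin ((((t : GL (Fin m ⊕ Fin m) F)) :
        Matrix (Fin m ⊕ Fin m) (Fin m ⊕ Fin m) F) - 1)) = fixSub (oEquiv _ t) := by
      ext x
      rw [LinearMap.mem_ker, mem_fixSub, oEquiv_apply, Matrix.mulVecLin_apply, Matrix.sub_mulVec, Matrix.one_mulVec,
        sub_eq_zero]
    rw [hk, finrank_plus] at hr
    rw [Matrix.rank]
    refine ⟨fun h => ?_, fun h => ⟨?_, fun h2 => absurd CharTwo.two_eq_zero h2⟩⟩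
    · have h1 : dsign (oEquiv _ t) = 1 := h.1
      rw [dsign, finrank_plus, neg_one_pow_eq_one_iff_even (show (-1 : ℤˣ) ≠ 1 by decide), Nat.even_iff] at h1
      rw [Nat.even_iff]
      omega
    · show dsign (oEquiv _ t) = 1
      rw [dsign, finrank_plus, neg_one_pow_eq_one_iff_even (show (-1 : ℤˣ) ≠ 1 by decide), Nat.even_iff]
      rw [Nat.even_iff] at h
      omega

end Cfsg.Agent.S2169
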