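import Cfsg.Statements.S2171
import Cfsg.Agent.Classical.OrthBlocks
-- import your own Cfsg.Agent.* helpers here

set_option autoImplicit false
open Cfsg

namespace Cfsg.Agent.S2171

/-- For the quadratic form Σ x_i y_i + (z₁² + c z₁ z₂ + d z₂²) in dimension 2m with anisotropic binary part over a finite field F of characteristic two, m ≥ 4 (minus type): an element of order 2 of the full isometry group O lies in the commutator subgroup Ω of O exactly when t − 1 has even rank. -/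
theorem result {F : Type*} [Field F] [Fintype F] [CharP F 2] {m : ℕ} (hm : 4 ≤ m) (c d : F) (hcd : ∀ z₁ z₂ : F, z₁ ^ 2 + c * z₁ * z₂ + d * z₂ ^ 2 = 0 → z₁ = 0 ∧ z₂ = 0) (t : ↥(Cfsg.isometryGroup F (Cfsg.quadFormMinus (m - 1) F c d))) (ht : orderOf t = 2) :
    t ∈ Cfsg.Omega F (Cfsg.quadFormMinus (m - 1) F c d) ↔ Even ((((t : ↥(Cfsg.isometryGroup F (Cfsg.quadFormMinus (m - 1) F c d))) : GL ((Fin (m - 1) ⊕ Fin (m - 1)) ⊕ Fin 2) F) : Matrix ((Fin (m - 1) ⊕ Fin (m - 1)) ⊕ Fin 2) ((Fin (m - 1) ⊕ Fin (m - 1)) ⊕ Fin 2) F) - 1).rank := by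
  open Cfsg.Agent.Classical.Quad QuadraticMap in
    let Q : QuadraticForm F ((Fin (m - 1) ⊕ Fin (m - 1)) ⊕ Fin 2 → F) :=
      (hyp (binForm c d) (m - 1)).comp (minusCoord (m - 1)).toLinearMap
    have hQe : ⇑Q = Cfsg.quadFormMinus (m - 1) F c d := funext fun x => by simp [Q, minusCoord_map]
    have hQ : (polarBilin Q).Nondegenerate :=
      Iso.nondeg (Iso.symm ⟨minusCoord (m - 1), fun x => by simp [Q]⟩) (nondeg_hyp (nondeg_binForm hcd) (m - 1))
    revert t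
    rw [← hQe]
    intro t ht
    have hd : Module.finrank F ((Fin (m - 1) ⊕ Fin (m - 1)) ⊕ Fin 2 → F) = 2 * m := by simp; omega
    have hex : Nat.card F ≠ 2 ∨ Module.finrank F ((Fin (m - 1) ⊕ Fin (m - 1)) ⊕ Fin 2 → F) ≠ 4 := by
      rw [hd]; omega
    rw [mem_omega_iff, mem_commutator_chars hQ hex]
    have hr := LinearMap.finrank_range_add_finrank_ker
      (Matrix.mulVecLin ((((t : GL ((Fin (m - 1) ⊕ Fin (m - 1)) ⊕ Fin 2) F)) :
        Matrix ((Fin (m - 1) ⊕ Fin (m - 1)) ⊕ Fin 2) ((Fin (m - 1) ⊕ Fin (m - 1)) ⊕ Fin 2) F) - 1))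
    have hk : LinearMap.ker (Matrix.mulVecLin ((((t : GL ((Fin (m - 1) ⊕ Fin (m - 1)) ⊕ Fin 2) F)) :
        Matrix ((Fin (m - 1) ⊕ Fin (m - 1)) ⊕ Fin 2) ((Fin (m - 1) ⊕ Fin (m - 1)) ⊕ Fin 2) F) - 1)) =
          fixSub (oEquiv _ t) := by
      ext x
      rw [LinearMap.mem_ker, mem_fixSub, oEquiv_apply, Matrix.mulVecLin_apply, Matrix.sub_mulVec, Matrix.one_mulVec,
        sub_eq_zero]
    rw [hk, hd] at hr
    rw [Matrix.rank]
    refine ⟨fun h => ?_, fun h => ⟨?_, fun h2 => absurd CharTwo.two_eq_zero h2⟩⟩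
    · have h1 : dsign (oEquiv _ t) = 1 := h.1
      rw [dsign, hd, neg_one_pow_eq_one_iff_even (show (-1 : ℤˣ) ≠ 1 by decide), Nat.even_iff] at h1
      rw [Nat.even_iff]
      omega
    · show dsign (oEquiv _ t) = 1
      rw [dsign, hd, neg_one_pow_eq_one_iff_even (show (-1 : ℤˣ) ≠ 1 by decide), Nat.even_iff]
      rw [Nat.even_iff] at h
      omega

end Cfsg.Agent.S2171
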