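import Cfsg.Statements.S2172
import Cfsg.Agent.Classical.OrthInvol
-- import your own Cfsg.Agent.* helpers here

set_option autoImplicit false
open Cfsg

namespace Cfsg.Agent.S2172

/-- Splitting of involution classes from O to Ω for the hyperbolic quadratic form Q = Σ x_i y_i in dimension 2m over a finite field F of characteristic two, m ≥ 4. Let t, s be involutions of the commutator subgroup Ω that are conjugate in the full isometry group O. If it is not the case that t − 1 has rank m and Q(v + t v) = 0 for every vector v, then t and s are conjugate by an element of Ω. If t − 1 has rank m and Q(v + t v) = 0 for all v, then t and s are conjugate by an element of Ω exactly when the intersection of the images of t − 1 and s − 1 has even dimension (so the class of t in O meets at most two classes of Ω). -/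
theorem result {F : Type*} [Field F] [Fintype F] [CharP F 2] {m : ℕ} (hm : 4 ≤ m) (t s : ↥(Cfsg.isometryGroup F (Cfsg.quadFormPlus m F))) (ht : orderOf t = 2) (hs : orderOf s = 2) (htO : t ∈ Cfsg.Omega F (Cfsg.quadFormPlus m F)) (hsO : s ∈ Cfsg.Omega F (Cfsg.quadFormPlus m F)) (hconj : IsConj t s) :
    (¬ (((((t : ↥(Cfsg.isometryGroup F (Cfsg.quadFormPlus m F))) : GL (Fin m ⊕ Fin m) F) : Matrix (Fin m ⊕ Fin m) (Fin m ⊕ Fin m) F) - 1).rank = m ∧ ∀ v : Fin m ⊕ Fin m → F, Cfsg.quadFormPlus m F (v + Matrix.mulVec (((t : ↥(Cfsg.isometryGroup F (Cfsg.quadFormPlus m F))) : GL (Fin m ⊕ Fin m) F) : Matrix (Fin m ⊕ Fin m) (Fin m ⊕ Fin m) F) v) = 0) →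
      ∃ g ∈ Cfsg.Omega F (Cfsg.quadFormPlus m F), g * t * g⁻¹ = s) ∧
    ((((((t : ↥(Cfsg.isometryGroup F (Cfsg.quadFormPlus m F))) : GL (Fin m ⊕ Fin m) F) : Matrix (Fin m ⊕ Fin m) (Fin m ⊕ Fin m) F) - 1).rank = m ∧ ∀ v : Fin m ⊕ Fin m → F, Cfsg.quadFormPlus m F (v + Matrix.mulVec (((t : ↥(Cfsg.isometryGroup F (Cfsg.quadFormPlus m F))) : GL (Fin m ⊕ Fin m) F) : Matrix (Fin m ⊕ Fin m) (Fin m ⊕ Fin m) F) v) = 0) →
      ((∃ g ∈ Cfsg.Omega F (Cfsg.quadFormPlus m F), g * t * g⁻¹ = s) ↔
        Even (Module.finrank F ↥(LinearMap.range (Matrix.toLin' ((((t : ↥(Cfsg.isometryGroup F (Cfsg.quadFormPlus m F))) : GL (Fin m ⊕ Fin m) F) : Matrix (Fin m ⊕ Fin m) (Fin m ⊕ Fin m) F) - 1)) ⊓ LinearMap.range (Matrix.toLin' ((((s : ↥(Cfsg.isometryGroup F (Cfsg.quadFormPlus m F))) : GL (Fin m ⊕ Fin m) F) : Matrix (Fin m ⊕ Fin m) (Fin m ⊕ Fin m) F) - 1)))))) := by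
  open Cfsg.Agent.Classical.Quad QuadraticMap in
    revert t s
    rw [← coe_plusQ]
    intro t s ht hs htO hsO hconj
    have hd : Module.finrank F (Fin m ⊕ Fin m → F) = 2 * m := finrank_plus
    have hex : Nat.card F ≠ 2 ∨ Module.finrank F (Fin m ⊕ Fin m → F) ≠ 4 := by
      rw [hd]; omega
    obtain ⟨h1, h2⟩ := involution_data (Q := plusQ F m) (t := t) (by
      have := pow_orderOf_eq_one t
      rwa [ht, pow_two] at this)
    have h3 := LinearMap.finrank_range_add_finrank_ker
      (Matrix.toLin' (((t : GL (Fin m ⊕ Fin m) F) : Matrix (Fin m ⊕ Fin m) (Fin m ⊕ Fin m) F) - 1))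
    have h4 := Submodule.finrank_mono h1
    rw [h2, hd] at h3
    constructor
    · intro hnot
      obtain ⟨v, hv, hQv⟩ : ∃ v ∈ fixSub (oEquiv (plusQ F m) t), plusQ F m v ≠ 0 := by
        by_contra hc
        push Not at hc
        have hle := (plus_index m).2 _ (fun u hu => (congrFun coe_plusQ u).symm.trans (hc u hu))
        refine hnot ⟨?_, fun v => hc _ (h1 ⟨v, ?_⟩)⟩
        · rw [Matrix.rank, ← Matrix.toLin'_apply']
          omega
        · rw [Matrix.toLin'_apply, Matrix.sub_mulVec, Matrix.one_mulVec]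
          funext i
          simp only [Pi.sub_apply, Pi.add_apply, CharTwo.sub_eq_add]
          exact add_comm _ _
      exact exists_conj_omega nondeg_plusQ hex hconj hv hQv
    · rintro ⟨hr, hsing⟩
      rw [Matrix.rank, ← Matrix.toLin'_apply'] at hr
      set R := LinearMap.range (Matrix.toLin' (((t : GL (Fin m ⊕ Fin m) F) :
        Matrix (Fin m ⊕ Fin m) (Fin m ⊕ Fin m) F) - 1))
      have hR : ∀ u ∈ R, plusQ F m u = 0 := by
        rintro _ ⟨v, rfl⟩
        rw [Matrix.toLin'_apply, Matrix.sub_mulVec, Matrix.one_mulVec, show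
          ((t : GL (Fin m ⊕ Fin m) F) : Matrix (Fin m ⊕ Fin m) (Fin m ⊕ Fin m) F).mulVec v - v =
          v + ((t : GL (Fin m ⊕ Fin m) F) : Matrix (Fin m ⊕ Fin m) (Fin m ⊕ Fin m) F).mulVec v by
            funext i
            simp only [Pi.sub_apply, Pi.add_apply, CharTwo.sub_eq_add]
            exact add_comm _ _]
        exact hsing v
      have heven : Even m := by
        have hd1 : dsign (oEquiv (plusQ F m) t) = 1 :=
          ((mem_commutator_chars nondeg_plusQ hex _).1 ((mem_omega_iff t).1 htO)).1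
        rw [dsign, hd, neg_one_pow_eq_one_iff_even (show (-1 : ℤˣ) ≠ 1 by decide), Nat.even_iff] at hd1
        rw [Nat.even_iff]
        omega
      have hmap : ∀ g, g * t * g⁻¹ = s → R.map ((oEquiv (plusQ F m) g).1 : (Fin m ⊕ Fin m → F) →ₗ[F] (Fin m ⊕ Fin m → F)) =
          LinearMap.range (Matrix.toLin' (((s : GL (Fin m ⊕ Fin m) F) :
            Matrix (Fin m ⊕ Fin m) (Fin m ⊕ Fin m) F) - 1)) := fun g hg => by
        have hgs : ∀ v, ((oEquiv (plusQ F m) s).1 ((oEquiv (plusQ F m) g).1 v)) =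
            (oEquiv (plusQ F m) g).1 ((oEquiv (plusQ F m) t).1 v) := fun v => by
          rw [← oG_mul_apply, ← oG_mul_apply, ← map_mul, ← map_mul, ← hg, inv_mul_cancel_right]
        ext y
        constructor
        · rintro ⟨_, ⟨v, rfl⟩, rfl⟩
          refine ⟨(oEquiv (plusQ F m) g).1 v, ?_⟩
          rw [Matrix.toLin'_apply, Matrix.toLin'_apply, Matrix.sub_mulVec, Matrix.one_mulVec, Matrix.sub_mulVec,
            Matrix.one_mulVec, ← oEquiv_apply, ← oEquiv_apply, hgs, LinearEquiv.coe_coe, map_sub]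
        · rintro ⟨w, rfl⟩
          obtain ⟨v, rfl⟩ := (oEquiv (plusQ F m) g).1.surjective w
          refine ⟨_, ⟨v, rfl⟩, ?_⟩
          rw [Matrix.toLin'_apply, Matrix.toLin'_apply, Matrix.sub_mulVec, Matrix.one_mulVec, Matrix.sub_mulVec,
            Matrix.one_mulVec, ← oEquiv_apply, ← oEquiv_apply, hgs, LinearEquiv.coe_coe, map_sub]
      have hRm : Module.finrank F R = m := hr
      have hpar : ∀ g, g * t * g⁻¹ = s → (dickson nondeg_plusQ hex (oEquiv (plusQ F m) g) = 1 ↔
          Even (Module.finrank F ↥(R ⊓ LinearMap.range (Matrix.toLin' (((s : GL (Fin m ⊕ Fin m) F) :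
            Matrix (Fin m ⊕ Fin m) (Fin m ⊕ Fin m) F) - 1))))) := fun g hg => by
        refine Iff.trans (even_codim_iff nondeg_plusQ hex hd hR hRm (oEquiv (plusQ F m) g)).symm ?_
        rw [hmap g hg]
        have hle : Module.finrank F ↥(R ⊓ LinearMap.range (Matrix.toLin' (((s : GL (Fin m ⊕ Fin m) F) :
            Matrix (Fin m ⊕ Fin m) (Fin m ⊕ Fin m) F) - 1))) ≤ m :=
          (Submodule.finrank_mono inf_le_left).trans hRm.le
        exact (Nat.even_sub hle).trans ⟨fun h => h.1 heven, fun h => iff_of_true heven h⟩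
      constructor
      · rintro ⟨g, hg, hg'⟩
        exact (hpar g hg').1 ((mem_commutator_chars nondeg_plusQ hex _).1 ((mem_omega_iff g).1 hg)).1
      · intro he
        obtain ⟨g, hg⟩ := isConj_iff.1 hconj
        exact ⟨g, (mem_omega_iff g).2 ((mem_commutator_chars nondeg_plusQ hex _).2
          ⟨(hpar g hg).2 he, fun h' => absurd CharTwo.two_eq_zero h'⟩), hg⟩

end Cfsg.Agent.S2172
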