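import Cfsg.Statements.S2173
import Cfsg.Agent.Classical.OrthInvol
-- import your own Cfsg.Agent.* helpers here

set_option autoImplicit false
open Cfsg

namespace Cfsg.Agent.S2173

/-- For the quadratic form Σ x_i y_i + (z₁² + c z₁ z₂ + d z₂²) in dimension 2m with anisotropic binary part over a finite field F of characteristic two, m ≥ 4 (minus type): two involutions of the commutator subgroup Ω that are conjugate in the full isometry group O are conjugate by an element of Ω (no class of involutions of O inside Ω splits). -/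
theorem result {F : Type*} [Field F] [Fintype F] [CharP F 2] {m : ℕ} (hm : 4 ≤ m) (c d : F) (hcd : ∀ z₁ z₂ : F, z₁ ^ 2 + c * z₁ * z₂ + d * z₂ ^ 2 = 0 → z₁ = 0 ∧ z₂ = 0) (t s : ↥(Cfsg.isometryGroup F (Cfsg.quadFormMinus (m - 1) F c d))) (ht : orderOf t = 2) (hs : orderOf s = 2) (htO : t ∈ Cfsg.Omega F (Cfsg.quadFormMinus (m - 1) F c d)) (hsO : s ∈ Cfsg.Omega F (Cfsg.quadFormMinus (m - 1) F c d)) (hconj : IsConj t s) :
    ∃ g ∈ Cfsg.Omega F (Cfsg.quadFormMinus (m - 1) F c d), g * t * g⁻¹ = s := by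
  open Cfsg.Agent.Classical.Quad QuadraticMap in
    let Q : QuadraticForm F ((Fin (m - 1) ⊕ Fin (m - 1)) ⊕ Fin 2 → F) :=
      (hyp (binForm c d) (m - 1)).comp (minusCoord (m - 1)).toLinearMap
    have hQe : ⇑Q = Cfsg.quadFormMinus (m - 1) F c d := funext fun x => by simp [Q, minusCoord_map]
    have hQ : (polarBilin Q).Nondegenerate :=
      Iso.nondeg (Iso.symm ⟨minusCoord (m - 1), fun x => by simp [Q]⟩) (nondeg_hyp (nondeg_binForm hcd) (m - 1))
    revert t s
    rw [← hQe]
    intro t s ht hs htO hsO hconj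
    have hd : Module.finrank F ((Fin (m - 1) ⊕ Fin (m - 1)) ⊕ Fin 2 → F) = 2 * m := by simp; omega
    have hex : Nat.card F ≠ 2 ∨ Module.finrank F ((Fin (m - 1) ⊕ Fin (m - 1)) ⊕ Fin 2 → F) ≠ 4 := by
      rw [hd]; omega
    obtain ⟨h1, h2⟩ := involution_data (Q := Q) (t := t) (by
      have := pow_orderOf_eq_one t
      rwa [ht, pow_two] at this)
    obtain ⟨v, hv, hQv⟩ : ∃ v ∈ fixSub (oEquiv Q t), Q v ≠ 0 := by
      by_contra hc
      push Not at hc
      have hle := (minus_index hcd (m - 1)).2 _ (fun u hu => hQe ▸ hc u hu)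
      have h3 := LinearMap.finrank_range_add_finrank_ker
        (Matrix.toLin' (((t : GL ((Fin (m - 1) ⊕ Fin (m - 1)) ⊕ Fin 2) F) :
          Matrix ((Fin (m - 1) ⊕ Fin (m - 1)) ⊕ Fin 2) ((Fin (m - 1) ⊕ Fin (m - 1)) ⊕ Fin 2) F) - 1))
      have h4 := Submodule.finrank_mono h1
      rw [h2, hd] at h3
      omega
    exact exists_conj_omega hQ hex hconj hv hQv

end Cfsg.Agent.S2173
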