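import Cfsg.Statements.S2177
import Cfsg.Agent.Chev.G2Invol

set_option autoImplicit false
open Cfsg

namespace Cfsg.Agent.S2177

/-- Conjugacy classes of involutions in the Chevalley group of type G₂ over a finite field F of characteristic two with at least four elements (the matrix group generated by the root elements x_r(t)). In this problem's root numbering for type G₂ (the Chevalley data module; p₁ = a short, p₂ = b long; roots indexed by coefficient vectors in increasing order) let 11 be the highest root 3a + 2b (long) and 9 the short root 2a + b; consider x_{3a+2b}(1) and x_{2a+b}(1). Then: each invertible matrix equal to one of these two products lies in the group and has order 2; every element of order 2 of the group is conjugate in the group to one of them; and no two of them are conjugate in the group (so, the two matrices being distinct, the group has exactly two conjugacy classes of involutions). -/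
theorem result {F : Type*} [Field F] [Fintype F] [CharP F 2] (hF : 4 ≤ Fintype.card F) :
    (∀ y : GL Cfsg.Lie.chevG2.Idx F, ((y : GL Cfsg.Lie.chevG2.Idx F) : Matrix Cfsg.Lie.chevG2.Idx Cfsg.Lie.chevG2.Idx F) ∈ [Cfsg.Lie.chevG2.x F 11 1, Cfsg.Lie.chevG2.x F 9 1] → y ∈ Cfsg.Lie.chevG2.group F ∧ orderOf y = 2) ∧
    (∀ g ∈ Cfsg.Lie.chevG2.group F, orderOf g = 2 → ∃ y ∈ Cfsg.Lie.chevG2.group F, ((y : GL Cfsg.Lie.chevG2.Idx F) : Matrix Cfsg.Lie.chevG2.Idx Cfsg.Lie.chevG2.Idx F) ∈ [Cfsg.Lie.chevG2.x F 11 1, Cfsg.Lie.chevG2.x F 9 1] ∧ ∃ h ∈ Cfsg.Lie.chevG2.group F, h * g * h⁻¹ = y) ∧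
    (∀ y₁ ∈ Cfsg.Lie.chevG2.group F, ∀ y₂ ∈ Cfsg.Lie.chevG2.group F, ((y₁ : GL Cfsg.Lie.chevG2.Idx F) : Matrix Cfsg.Lie.chevG2.Idx Cfsg.Lie.chevG2.Idx F) ∈ [Cfsg.Lie.chevG2.x F 11 1, Cfsg.Lie.chevG2.x F 9 1] → ((y₂ : GL Cfsg.Lie.chevG2.Idx F) : Matrix Cfsg.Lie.chevG2.Idx Cfsg.Lie.chevG2.Idx F) ∈ [Cfsg.Lie.chevG2.x F 11 1, Cfsg.Lie.chevG2.x F 9 1] →
      (∃ h ∈ Cfsg.Lie.chevG2.group F, h * y₁ * h⁻¹ = y₂) → ((y₁ : GL Cfsg.Lie.chevG2.Idx F) : Matrix Cfsg.Lie.chevG2.Idx Cfsg.Lie.chevG2.Idx F) = ((y₂ : GL Cfsg.Lie.chevG2.Idx F) : Matrix Cfsg.Lie.chevG2.Idx Cfsg.Lie.chevG2.Idx F)) := by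
  open Cfsg.Lie Cfsg.Agent.Chev Cfsg.Agent.Chev.G2Invol in
  have hmem : ∀ y : GL chevG2.Idx F, ((y : GL chevG2.Idx F) : Matrix chevG2.Idx chevG2.Idx F) ∈
      [chevG2.x F 11 1, chevG2.x F 9 1] → y = xG facts_chevG2 11 1 ∨ y = xG facts_chevG2 9 1 := by
    intro y hy
    simp only [List.mem_cons, List.not_mem_nil, or_false] at hy
    exact hy.imp (fun e => Units.ext e) (fun e => Units.ext e)
  open Cfsg.Lie Cfsg.Agent.Chev Cfsg.Agent.Chev.G2Invol in
  have hord : ∀ r : ℕ, 6 ≤ r → r < 12 → orderOf (xG facts_chevG2 r (1 : F)) = 2 := fun r h1 h2 => by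
    refine orderOf_eq_prime (p := 2) ?_ fun e => one_ne_zero
      ((xG_eq_one_iff facts_chevG2 (by rw [nroots_eq]; exact h2)).1 e)
    rw [pow_two, xG_mul, CharTwo.add_self_eq_zero, xG_zero]
  open Cfsg.Lie Cfsg.Agent.Chev Cfsg.Agent.Chev.G2Invol in
  refine ⟨fun y hy => ?_, fun g hg ho => ?_, fun y₁ _ y₂ _ h1 h2 hc => ?_⟩
  · open Cfsg.Lie Cfsg.Agent.Chev in
    rcases hmem y hy with rfl | rfl
    · exact ⟨xG_mem_group _ _ _, hord 11 (by omega) (by omega)⟩
    · exact ⟨xG_mem_group _ _ _, hord 9 (by omega) (by omega)⟩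
  · open Cfsg.Lie Cfsg.Agent.Chev Cfsg.Agent.Chev.G2Invol in
    have hsq : g * g = 1 := by rw [← pow_two, ← ho, pow_orderOf_eq_one]
    open Cfsg.Lie Cfsg.Agent.Chev Cfsg.Agent.Chev.G2Invol in
    rcases classes hg hsq (fun e => by rw [e, orderOf_one] at ho; exact absurd ho (by omega)) with
      ⟨e, he, h⟩ | ⟨e, he, h⟩
    · exact ⟨_, Cfsg.Agent.Chev.xG_mem_group Cfsg.Agent.Chev.facts_chevG2 9 1, by simp, e, he, h⟩
    · exact ⟨_, Cfsg.Agent.Chev.xG_mem_group Cfsg.Agent.Chev.facts_chevG2 11 1, by simp, e, he, h⟩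
  · open Cfsg.Lie Cfsg.Agent.Chev Cfsg.Agent.Chev.G2Invol in
    obtain ⟨e, he, h⟩ := hc
    rcases hmem y₁ h1 with rfl | rfl <;> rcases hmem y₂ h2 with rfl | rfl
    · rfl
    · exact absurd ⟨e, he, h⟩ not_cj_long_short
    · exact absurd ⟨e⁻¹, Subgroup.inv_mem _ he, by rw [← h]; group⟩ not_cj_long_short
    · rfl

end Cfsg.Agent.S2177
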