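import Cfsg.Statements.S2182
import Cfsg.Agent.Chev.E6Invol.Main
-- import your own Cfsg.Agent.* helpers here

set_option autoImplicit false
open Cfsg

namespace Cfsg.Agent.S2182

/-- The twisted group ²E₆(q), q even, realised inside the Chevalley group of type E₆ over the field K with q² elements, has exactly three conjugacy classes of elements of order 2. -/
theorem result {K : Type*} [Field K] [Fintype K] [CharP K 2] (q : ℕ) (hK : Fintype.card K = q ^ 2) :
    (ConjClasses.mk '' {g : ↥(Cfsg.Lie.twistedE6 K q) | orderOf g = 2}).ncard = 3 := by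
  
  haveI : Fact (Nat.Prime 2) := ⟨Nat.prime_two⟩
  have hq : IsPrimePow q := by
    obtain ⟨n, hn0, hn⟩ := FiniteField.card K 2
    obtain ⟨m, -, hm⟩ := (Nat.dvd_prime_pow Nat.prime_two).1 (hn ▸ hK ▸ dvd_pow_self q two_ne_zero)
    refine ⟨2, m, Nat.prime_two.prime, ?_, hm.symm⟩
    rcases Nat.eq_zero_or_pos m with rfl | h
    · have := Fintype.one_lt_card (α := K)
      rw [hK, hm] at this
      simp at this
    · exact h
  obtain ⟨φ, hφ, hq2, hqφ, e⟩ := Cfsg.Agent.Chev.exists_twistE6 hq hK
  have hne : ∃ x : K, φ x ≠ x := by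
    by_contra h
    push Not at h
    have hall : ∀ x : K, x ^ q = x := fun x => by
      have := hqφ 1 x
      rw [pow_one, pow_one] at this
      rw [← this, h x]
    have hle : Fintype.card K ≤ q := by
      classical
      refine le_trans (Finset.card_le_card (fun x _ => ?_) : _ ≤ ((Polynomial.X ^ q - Polynomial.X :
        Polynomial K)).roots.toFinset.card) ((Multiset.toFinset_card_le _).trans
          ((Polynomial.card_roots' _).trans (FiniteField.X_pow_card_sub_X_natDegree_eq K hq2).le))
      rw [Multiset.mem_toFinset, Polynomial.mem_roots (FiniteField.X_pow_card_sub_X_ne_zero K hq2)]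
      simp [hall x]
    rw [hK, pow_two] at hle
    nlinarith
  rw [← e]
  exact Cfsg.Agent.Chev.E6Invol.class_count hqφ hq2 hK hne

end Cfsg.Agent.S2182
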