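import Cfsg.Statements.S2183
import Cfsg.Agent.Chev.D4Invol.Distinct
-- import your own Cfsg.Agent.* helpers here

set_option autoImplicit false
open Cfsg

namespace Cfsg.Agent.S2183

/-- The twisted group ³D₄(q), q even, realised inside the Chevalley group of type D₄ over the field K with q³ elements, has exactly two conjugacy classes of elements of order 2. -/
theorem result {K : Type*} [Field K] [Fintype K] [CharP K 2] (q : ℕ) (hK : Fintype.card K = q ^ 3) :
    (ConjClasses.mk '' {g : ↥(Cfsg.Lie.twistedD4 K q) | orderOf g = 2}).ncard = 2 := by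
  haveI : Fact (Nat.Prime 2) := ⟨Nat.prime_two⟩
  have hq : IsPrimePow q := by
    obtain ⟨n, hn0, hn⟩ := FiniteField.card K 2
    obtain ⟨m, -, hm⟩ := (Nat.dvd_prime_pow Nat.prime_two).1 (hn ▸ hK ▸ dvd_pow_self q three_ne_zero)
    refine ⟨2, m, Nat.prime_two.prime, ?_, hm.symm⟩
    rcases Nat.eq_zero_or_pos m with rfl | h
    · have := Fintype.one_lt_card (α := K)
      rw [hK, hm] at this
      simp at this
    · exact h
  obtain ⟨φ, hφ, hq2, hqφ, e⟩ := Cfsg.Agent.Chev.exists_twistD4 hq hK
  rw [← e]
  exact Cfsg.Agent.Chev.D4Invol.class_count hqφ hq2 hK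

end Cfsg.Agent.S2183
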