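import Cfsg.Statements.S2184
import Cfsg.Agent.Chev.ReeF4Invol.Count
import Cfsg.Agent.TwistedF4Two.Gen
import Cfsg.Agent.TwistedF4Two.Main
-- import your own Cfsg.Agent.* helpers here

set_option autoImplicit false
open Cfsg

namespace Cfsg.Agent.S2184

/-- The twisted group ²F₄(q), q = 2^(2m+1) with m ≥ 0 (realised inside the Chevalley group of type F₄ over the field K with q elements, θ the 2^m-th power map), has exactly two conjugacy classes of elements of order 2; and so does the Tits group, the commutator subgroup of ²F₄(2). -/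
theorem result {K : Type*} [Field K] [Fintype K] (m : ℕ) (hK : Fintype.card K = 2 ^ (2 * m + 1)) :
    (ConjClasses.mk '' {g : ↥(Cfsg.Lie.twistedF4 K (2 ^ m)) | orderOf g = 2}).ncard = 2 ∧ (ConjClasses.mk '' {g : Cfsg.Lie.TitsGroup | orderOf g = 2}).ncard = 2 := by
  haveI := Fact.mk Nat.prime_two
  haveI : CharP K 2 := by
    obtain ⟨p, hp⟩ := CharP.exists K
    obtain ⟨n, hp', hn⟩ := FiniteField.card K p
    have h : p = 2 := (Nat.prime_dvd_prime_iff_eq hp' Nat.prime_two).1
      (hp'.dvd_of_dvd_pow (hK ▸ hn ▸ dvd_pow_self p n.ne_zero))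
    exact h ▸ hp
  exact ⟨Cfsg.Agent.Chev.ReeF4Invol.count hK,
    Cfsg.Agent.Chev.ReeF4Invol.count_index_two (K := ZMod 2) (m := 0) (by simp [ZMod.card])
      (D := commutator ↥(Cfsg.Lie.twistedF4 (ZMod 2) 1)) Cfsg.Agent.TwistedF4Two.index_D
      Cfsg.Agent.TwistedF4Two.involution_mem_commutator⟩

end Cfsg.Agent.S2184
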