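import Cfsg.Statements.S2189
import Cfsg.Agent.Overgroup.Final
import Cfsg.Agent.Overgroup.Specialise
-- import your own Cfsg.Agent.* helpers here

set_option autoImplicit false
open Cfsg

namespace Cfsg.Agent.S2189

open Cfsg.Lie Cfsg.Agent.Chev Cfsg.Agent.Overgroup
open scoped MatrixGroups

theorem card_fixed {k : Type*} [Field k] [IsAlgClosed k] (p : ℕ) [Fact p.Prime] [CharP k p]
    {q : ℕ} (hq : 2 ≤ q) (hpq : p ∣ q) (L : Subfield k) (hL : ∀ t, t ∈ L ↔ t ^ q = t) :
    Finite L ∧ Nat.card L = q := by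
  classical
  set P : Polynomial k := Polynomial.X ^ q - Polynomial.X
  have hP : P ≠ 0 := FiniteField.X_pow_card_sub_X_ne_zero k (by omega)
  have hmem : ∀ t, t ∈ L ↔ t ∈ P.roots.toFinset := fun t => by
    rw [hL, Multiset.mem_toFinset, Polynomial.mem_roots hP]
    simp [P, sub_eq_zero]
  have e : L ≃ {t // t ∈ P.roots.toFinset} := Equiv.subtypeEquivRight hmem
  refine ⟨Finite.of_equiv _ e.symm, ?_⟩
  rw [Nat.card_congr e, Nat.card_eq_fintype_card, Fintype.card_coe,
    Multiset.toFinset_card_of_nodup (Polynomial.nodup_roots (galois_poly_separable p q hpq)),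
    ← (IsAlgClosed.splits P).natDegree_eq_card_roots,
    FiniteField.X_pow_card_sub_X_natDegree_eq k (by omega)]

/-- Finite subgroups of an adjoint Chevalley group over an algebraically closed field that contain the group over a finite subfield. Let k be an algebraically closed field of prime characteristic p, G the Chevalley group of type G₂, B₂, D₄, F₄, E₆, E₇ or E₈ over k (the matrix group generated by the root elements x_s(t), t ∈ k), and q = p^a with a ≥ 1. Let L be the subgroup generated by the root elements x_s(t) with t^q = t (the Chevalley group over the field of q elements inside G), and let M be a finite subgroup of G containing L. Then for some r ≥ 1, M contains every root element x_s(t) with t^(q^r) = t and every element of M is a matrix all of whose entries c satisfy c^(q^r) = c (so M lies between the Chevalley group over the field with q^r elements and the group of points of G fixed by the q^r-th power map). -/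
theorem result {k : Type*} [Field k] [IsAlgClosed k] (p : ℕ) [Fact p.Prime] [CharP k p] (D : Cfsg.Lie.ChevalleyDatum) (hD : D ∈ [Cfsg.Lie.chevG2, Cfsg.Lie.chevB2, Cfsg.Lie.chevD4, Cfsg.Lie.chevF4, Cfsg.Lie.chevE6, Cfsg.Lie.chevE7, Cfsg.Lie.chevE8]) (a : ℕ) (ha : 1 ≤ a) (M : Subgroup (GL D.Idx k)) (hMfin : Finite ↥M) (hMG : M ≤ D.group k)
    (hLM : Subgroup.closure {g : GL D.Idx k | ∃ (s : ℕ) (t : k), t ^ (p ^ a) = t ∧ (g : Matrix D.Idx D.Idx k) = D.x k s t} ≤ M) :
    ∃ r : ℕ, 1 ≤ r ∧ Subgroup.closure {g : GL D.Idx k | ∃ (s : ℕ) (t : k), t ^ ((p ^ a) ^ r) = t ∧ (g : Matrix D.Idx D.Idx k) = D.x k s t} ≤ M ∧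
      ∀ g ∈ M, ∀ i j : D.Idx, ((g : Matrix D.Idx D.Idx k) i j) ^ ((p ^ a) ^ r) = (g : Matrix D.Idx D.Idx k) i j := by
  classical
  have hp : p.Prime := Fact.out
  set q := p ^ a with hq
  have hq2 : 2 ≤ q := le_trans hp.two_le (Nat.le_self_pow (by omega) p)
  have hF := facts_of_mem hD
  have hT := top_lt hF
  set T := D.nroots - 1 with hTd
  have hval : ∀ (g : GL D.Idx k) (s : ℕ) (t : k),
      (g : Matrix D.Idx D.Idx k) = D.x k s t → g = xG hF s t := fun g s t e => Units.ext e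
  have hxM : ∀ (s : ℕ) (t : k), t ^ q = t → xG hF s t ∈ M := fun s t ht =>
    hLM (Subgroup.subset_closure ⟨s, t, ht, rfl⟩)
  have : Fintype ↥M := Fintype.ofFinite _
  set N := Nat.card ↥M + q
  let roots : ℕ → Finset k := fun Q => (Polynomial.X ^ Q - Polynomial.X : Polynomial k).roots.toFinset
  have hroots : ∀ Q, 2 ≤ Q → ∀ t : k, t ^ Q = t → t ∈ roots Q := fun Q hQ t ht => by
    rw [Multiset.mem_toFinset, Polynomial.mem_roots (FiniteField.X_pow_card_sub_X_ne_zero k (by omega))]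
    simp [ht]
  choose par hpar using fun g : ↥M => exists_params hF (hMG g.2)
  set S₁ : Finset k := (Finset.range (N + 1)).biUnion roots
  set S₂ : Finset k := (Finset.univ : Finset (↥M × D.Idx × D.Idx)).image
    fun x => (x.1 : GL D.Idx k).1 x.2.1 x.2.2
  set S₃ : Finset k := (Finset.univ : Finset (↥M × ↥M × D.Idx × D.Idx)).image
    fun x => (x.1 : GL D.Idx k).1 x.2.2.1 x.2.2.2 - (x.2.1 : GL D.Idx k).1 x.2.2.1 x.2.2.2
  set S₄ : Finset k := (Finset.range (N + 1)).biUnion fun Q => (S₂ ∪ roots q).image fun t => t ^ Q - t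
  obtain ⟨R, F, hField, hFin, hChar, φ, hSR, hsep⟩ := exists_specialisation p
    ((Finset.univ : Finset ↥M).biUnion par ∪ S₁ ∪ S₂ ∪ S₃ ∪ S₄)
  have hFv : Facts D := facts_of_mem (D := D) hD
  set ι := Matrix.GeneralLinearGroup.map (n := D.Idx) R.subtype
  set π := Matrix.GeneralLinearGroup.map (n := D.Idx) φ
  have hι : Function.Injective ι := fun g h e => by
    apply Units.ext
    ext i j
    exact congrArg (fun g : GL D.Idx k => g.1 i j) e
  have lift : ∀ g : ↥M, ∃ b ∈ rootsR hF R, ι b = g := fun g => hpar g R fun s hs => hSR s (by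
    refine Finset.mem_union_left _ (Finset.mem_union_left _ (Finset.mem_union_left _
      (Finset.mem_union_left _ (Finset.mem_biUnion.2 ⟨g, Finset.mem_univ g, hs⟩))))
    )
  set B := rootsR hF R ⊓ M.comap ι
  have hBinj : ∀ b ∈ B, ∀ b' ∈ B, π b = π b' → b = b' := by
    intro b hb b' hb' e
    apply Units.ext
    ext i j
    have h0 : φ (b.1 i j - b'.1 i j) = 0 := by
      rw [map_sub, sub_eq_zero]
      exact congrArg (fun g : GL D.Idx F => g.1 i j) e
    exact sub_eq_zero.1 (hsep _ (Finset.mem_union_left _ (Finset.mem_union_right _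
      (Finset.mem_image.2 ⟨(⟨ι b, hb.2⟩, ⟨ι b', hb'.2⟩, i, j), Finset.mem_univ _, rfl⟩))) h0)
  set H := B.map π
  have hH : H ≤ D.group F := (Subgroup.map_mono inf_le_left).trans (map_rootsR_le hF R φ)
  have hxB : ∀ (s : Fin D.nroots) (t : R), xG hF (s : ℕ) (t : k) ∈ M →
      xG hFv (s : ℕ) (φ t) ∈ H := fun s t ht => by
    refine ⟨SS.xU D hF R s t, ⟨Subgroup.subset_closure ⟨s, t, rfl⟩, ?_⟩, SS.map_xU hF R φ s t⟩
    show ι _ ∈ M
    rw [show ι (SS.xU D hF R s t) = _ from SS.map_xU hF R R.subtype s t]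
    exact ht
  obtain ⟨L, hL, hE⟩ := overgroup_finite hD p hFv hH fun s hs => by
    have := hxB ⟨s, hs⟩ 1 (hxM s _ (by simp))
    rwa [map_one] at this
  set Q := Nat.card L with hQd
  have hQ2 : 2 ≤ Q := Finite.one_lt_card
  have hQN : Q ≤ N := by
    refine le_trans ?_ (Nat.le_add_right _ q)
    let f : L → ↥M := fun t =>
      ⟨ι (((hL T hT t).2 t.2).choose), (((hL T hT t).2 t.2).choose_spec.1).2⟩
    refine Nat.card_le_card_of_injective f fun t t' e => Subtype.ext ?_
    have e1 := hι (congrArg Subtype.val e)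
    have h1 := ((hL T hT t).2 t.2).choose_spec.2
    rw [e1, ((hL T hT t').2 t'.2).choose_spec.2] at h1
    exact (sub_eq_zero.1 ((xG_eq_one_iff hFv hT).1
      (by rw [sub_eq_add_neg, ← xG_mul, ← xG_inv, ← h1, mul_inv_cancel])))
  have hS1 : ∀ P, P ≤ N → ∀ t ∈ roots P, t ∈ R := fun P hP t ht => hSR t
    (Finset.mem_union_left _ (Finset.mem_union_left _ (Finset.mem_union_left _
      (Finset.mem_union_right _ (Finset.mem_biUnion.2 ⟨P, Finset.mem_range.2 (by omega), ht⟩)))))
  have hpowQ : ∀ (t : R), (t : k) ∈ S₂ ∪ roots q → φ t ∈ L → (t : k) ^ Q = t := by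
    intro t ht hφ
    refine sub_eq_zero.1 (hsep (t ^ Q - t) (Finset.mem_union_right _
      (Finset.mem_biUnion.2 ⟨Q, Finset.mem_range.2 (by omega),
        Finset.mem_image.2 ⟨t, ht, rfl⟩⟩)) ?_)
    rw [map_sub, map_pow, (mem_subfield_iff_pow L).1 hφ, sub_self]
  have hentries : ∀ g ∈ M, ∀ i j : D.Idx, (g : Matrix D.Idx D.Idx k) i j ^ Q = g.1 i j := by
    intro g hg i j
    obtain ⟨b, hb, eb⟩ := lift ⟨g, hg⟩
    have e : ((b.1 i j : R) : k) = g.1 i j := congrArg (fun g : GL D.Idx k => g.1 i j) eb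
    rw [← e]
    refine hpowQ _ (Finset.mem_union_left _ ?_)
      (hE (π b) ⟨b, ⟨hb, by show ι b ∈ M; rw [eb]; exact hg⟩, rfl⟩ i j)
    rw [e]
    exact Finset.mem_image.2 ⟨(⟨g, hg⟩, i, j), Finset.mem_univ _, rfl⟩
  obtain ⟨e, -, hQe⟩ : ∃ e : ℕ, 0 < e ∧ Q = p ^ e := by
    have : Fintype L := Fintype.ofFinite L
    obtain ⟨n, -, hn⟩ := FiniteField.card L p
    exact ⟨n, n.2, by rw [hQd, Nat.card_eq_fintype_card, hn]⟩
  -- the fields of fixed points in `k`
  set σa : k →+* k := iterateFrobenius k p a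
  set σe : k →+* k := iterateFrobenius k p e
  set kq : Subfield k := σa.eqLocusField (RingHom.id k)
  set kQ : Subfield k := σe.eqLocusField (RingHom.id k)
  have hkq : ∀ t : k, t ∈ kq ↔ t ^ q = t := fun t => Iff.rfl
  have hkQ : ∀ t : k, t ∈ kQ ↔ t ^ Q = t := fun t => by rw [hQe]; exact Iff.rfl
  obtain ⟨hqfin, hqcard⟩ := card_fixed p hq2 (dvd_pow_self p (by omega)) kq hkq
  obtain ⟨hQfin, hQcard⟩ := card_fixed p hQ2
    (by rw [hQe]; exact dvd_pow_self p (by rintro rfl; rw [pow_zero] at hQe; omega)) kQ hkQ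
  have hle : kq ≤ kQ := fun t ht => by
    rw [hkQ]
    have htR := hS1 q (Nat.le_add_left _ _) t (hroots q hq2 t ((hkq t).1 ht))
    exact hpowQ ⟨t, htR⟩ (Finset.mem_union_right _ (hroots q hq2 t ((hkq t).1 ht)))
      ((hL T hT _).1 (hxB ⟨T, hT⟩ ⟨t, htR⟩ (hxM _ t ((hkq t).1 ht))))
  letI : Algebra kq kQ := (Subfield.inclusion hle).toAlgebra
  have hQr : Q = q ^ Module.finrank kq kQ := by
    rw [← hQcard, Module.natCard_eq_pow_finrank (K := kq), hqcard]
  refine ⟨Module.finrank kq kQ, ?_, (Subgroup.closure_le _).2 ?_, fun g hg i j => ?_⟩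
  · rcases Nat.eq_zero_or_pos (Module.finrank kq kQ) with h | h
    · rw [h, pow_zero] at hQr; omega
    · exact h
  · rintro g ⟨s, t, ht, e'⟩
    rw [hval g s t e']
    rw [← hQr] at ht
    by_cases hs : s < D.nroots
    swap
    · rw [show xG hF s t = 1 from Units.ext (x_of_ge hs t)]
      exact one_mem _
    have htR := hS1 Q hQN t (hroots Q hQ2 t ht)
    obtain ⟨b, hb, eb⟩ := (hL s hs (φ ⟨t, htR⟩)).2 ((mem_subfield_iff_pow L).2
      (by rw [← map_pow]; exact congrArg φ (Subtype.ext ht)))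
    suffices ι b = xG hF s t by rw [← this]; exact hb.2
    have hxe : ∀ i j : D.Idx,
        ((SS.xR D ⟨s, hs⟩ (⟨t, htR⟩ : R) i j : R) : k) = D.x k s t i j := fun i j =>
      congrFun (congrFun ((SS.xR_map R.subtype ⟨s, hs⟩ (⟨t, htR⟩ : R)).trans
        (SS.xR_eq (F := k) ⟨s, hs⟩ t)) i) j
    have hfix : ∀ i j : D.Idx, ((SS.xR D ⟨s, hs⟩ (⟨t, htR⟩ : R) i j : R) : k) ^ Q =
        ((SS.xR D ⟨s, hs⟩ (⟨t, htR⟩ : R) i j : R) : k) := by
      intro i j
      rw [hxe i j]
      have h2 : σe t = t := by show t ^ p ^ e = t; rw [← hQe]; exact ht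
      have h3 := congrArg (fun g : GL D.Idx k => g.1 i j) (gmap_xG hF hF σe s t)
      rw [h2] at h3
      rw [hQe]
      exact h3
    apply Units.ext
    ext i j
    set d : R := b.1 i j - SS.xR D ⟨s, hs⟩ ⟨t, htR⟩ i j
    have hd : (d : k) ∈ kQ := kQ.sub_mem ((hkQ _).2 (hentries _ hb.2 i j)) ((hkQ _).2 (hfix i j))
    have hd0 : (d : k) = 0 := by
      refine hsep d ?_ ?_
      · exact Finset.mem_union_left _ (Finset.mem_union_left _ (Finset.mem_union_left _
          (Finset.mem_union_right _ (Finset.mem_biUnion.2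
            ⟨Q, Finset.mem_range.2 (by omega), hroots Q hQ2 _ ((hkQ _).1 hd)⟩))))
      · rw [map_sub, sub_eq_zero]
        exact congrArg (fun g : GL D.Idx F => g.1 i j) (eb.trans
          (SS.map_xU hF R φ ⟨s, hs⟩ ⟨t, htR⟩).symm)
    exact (sub_eq_zero.1 hd0).trans (hxe i j)
  · rw [← hQr]
    exact hentries g hg i j

end Cfsg.Agent.S2189
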