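import Cfsg.Statements.S2190
import Cfsg.Agent.Overgroup.Final
-- import your own Cfsg.Agent.* helpers here

set_option autoImplicit false
open Cfsg

namespace Cfsg.Agent.S2190

open Cfsg.Lie Cfsg.Agent.Chev Cfsg.Agent.Overgroup
open scoped MatrixGroups

theorem card_fixed {K : Type*} [Field K] [Fintype K] {q r : ℕ} (hq : 2 ≤ q)
    (hK : Fintype.card K = q ^ r) (L : Subfield K) (hL : ∀ t, t ∈ L ↔ t ^ q = t) :
    Nat.card L = q := by
  classical
  refine le_antisymm ?_ ?_
  · set P : Polynomial K := Polynomial.X ^ q - Polynomial.X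
    have hP : P ≠ 0 := FiniteField.X_pow_card_sub_X_ne_zero K (by omega)
    have hsub : (Finset.univ : Finset L).image Subtype.val ⊆ P.roots.toFinset := fun x hx => by
      obtain ⟨y, -, rfl⟩ := Finset.mem_image.1 hx
      rw [Multiset.mem_toFinset, Polynomial.mem_roots hP]
      simp [P, (hL y).1 y.2]
    have := Finset.card_le_card hsub
    rw [Finset.card_image_of_injective _ Subtype.val_injective, Finset.card_univ] at this
    rw [Nat.card_eq_fintype_card]
    refine le_trans this (le_trans (Multiset.toFinset_card_le _) (le_trans (Polynomial.card_roots' P) ?_))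
    rw [FiniteField.X_pow_card_sub_X_natDegree_eq K (by omega)]
  · have hker := IsCyclic.card_powMonoidHom_ker Kˣ (q - 1)
    have hdvd : q - 1 ∣ Nat.card Kˣ := by
      rw [Nat.card_units, Nat.card_eq_fintype_card, hK]
      simpa using Nat.sub_dvd_pow_sub_pow q 1 r
    rw [Nat.gcd_eq_right hdvd] at hker
    let f : Option (powMonoidHom (q - 1) : Kˣ →* Kˣ).ker → L := fun o => o.elim 0 fun u =>
      ⟨((u : Kˣ) : K), (hL _).2 (by
        have h := congrArg Units.val (MonoidHom.mem_ker.1 u.2)
        rw [powMonoidHom_apply, Units.val_pow_eq_pow_val, Units.val_one] at h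
        calc ((u : Kˣ) : K) ^ q = ((u : Kˣ) : K) ^ (q - 1 + 1) := by congr 1; omega
          _ = _ := by rw [pow_succ, h, one_mul])⟩
    have hf : Function.Injective f := by
      rintro (_ | ⟨u, hu⟩) (_ | ⟨v, hv⟩) h
      · rfl
      · exact absurd (congrArg Subtype.val h).symm (Units.ne_zero v)
      · exact absurd (congrArg Subtype.val h) (Units.ne_zero u)
      · exact congrArg some (Subtype.ext (Units.ext (congrArg Subtype.val h :)))
    have := Nat.card_le_card_of_injective f hf
    rw [Finite.card_option, hker] at this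
    omega

/-- Subfield subgroups of prime degree are maximal. Let K be a finite field with q^r elements, r a prime, q a power of the characteristic, and G the Chevalley group of type G₂, B₂, D₄, F₄, E₆, E₇ or E₈ over K (the matrix group generated by the root elements). Let M be the subgroup of G consisting of the matrices all of whose entries lie in the subfield with q elements (entries c with c^q = c). Then M is a proper subgroup of G and is maximal: every subgroup of G containing M is M or G. -/
theorem result {K : Type*} [Field K] [Fintype K] (p : ℕ) [Fact p.Prime] [CharP K p] (D : Cfsg.Lie.ChevalleyDatum) (hD : D ∈ [Cfsg.Lie.chevG2, Cfsg.Lie.chevB2, Cfsg.Lie.chevD4, Cfsg.Lie.chevF4, Cfsg.Lie.chevE6, Cfsg.Lie.chevE7, Cfsg.Lie.chevE8]) (a r : ℕ) (ha : 1 ≤ a) (hr : r.Prime) (hK : Fintype.card K = (p ^ a) ^ r) (M : Subgroup (GL D.Idx K))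
    (hM : ∀ g : GL D.Idx K, g ∈ M ↔ g ∈ D.group K ∧ ∀ i j : D.Idx, ((g : Matrix D.Idx D.Idx K) i j) ^ (p ^ a) = (g : Matrix D.Idx D.Idx K) i j) :
    M ≠ D.group K ∧ ∀ H : Subgroup (GL D.Idx K), M ≤ H → H ≤ D.group K → H = M ∨ H = D.group K := by
  classical
  have hp2 : 2 ≤ p := (Fact.out : p.Prime).two_le
  set q := p ^ a with hq
  have hq2 : 2 ≤ q := le_trans hp2 (Nat.le_self_pow (by omega) p)
  have hF := facts_of_mem hD
  set σ : K →+* K := iterateFrobenius K p a with hσd
  have hσ : ∀ t : K, σ t = t ^ q := fun t => rfl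
  set kq : Subfield K := σ.eqLocusField (RingHom.id K) with hkqd
  have hkq : ∀ t : K, t ∈ kq ↔ t ^ q = t := fun t => Iff.rfl
  have hcard := card_fixed hq2 hK kq hkq
  have hxM : ∀ (s : ℕ) (t : K), t ^ q = t → xG hF s t ∈ M := fun s t ht =>
    (hM _).2 ⟨xG_mem_group hF s t, fun i j => by
      rw [← hσ, ← gmap_apply σ, gmap_xG hF hF, hσ, ht]⟩
  have hT := top_lt hF
  refine ⟨fun e => ?_, fun H hMH hHG => ?_⟩
  · obtain ⟨t, ht⟩ : ∃ t : K, t ^ q ≠ t := by
      by_contra hall
      simp only [not_exists, not_not] at hall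
      have htop : Nat.card kq = Fintype.card K := by
        rw [← Nat.card_eq_fintype_card]
        exact Nat.card_congr (Equiv.subtypeUnivEquiv fun t => (hkq t).2 (hall t))
      rw [hcard, hK] at htop
      exact (lt_self_pow₀ (a := q) (by omega) hr.one_lt).ne htop
    have hx : xG hF (D.nroots - 1) t ∈ M := by rw [e]; exact xG_mem_group hF _ t
    refine ht ?_
    have h2 : gmap D σ (xG hF (D.nroots - 1) t) = xG hF (D.nroots - 1) t := by
      apply Units.ext
      ext i j
      rw [gmap_apply, hσ]
      exact ((hM _).1 hx).2 i j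
    rw [gmap_xG hF hF] at h2
    rw [← hσ]
    exact sub_eq_zero.1 ((xG_eq_one_iff hF hT).1
      (by rw [sub_eq_add_neg, ← xG_mul, ← xG_inv, h2, mul_inv_cancel]))
  · obtain ⟨L, hL, hE⟩ := overgroup_finite hD p hF hHG fun s _ => hMH (hxM s 1 (one_pow q))
    have hle : kq ≤ L := fun t ht =>
      (hL _ hT t).1 (hMH (hxM _ t ((hkq t).1 ht)))
    letI : Algebra kq L := (Subfield.inclusion hle).toAlgebra
    have hd : Nat.card L = q ^ Module.finrank kq L := by
      rw [Module.natCard_eq_pow_finrank (K := kq), hcard]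
    have he : Nat.card K = Nat.card L ^ Module.finrank L K :=
      Module.natCard_eq_pow_finrank (K := L)
    rw [Nat.card_eq_fintype_card (α := K), hK, hd] at he
    have hr' := Nat.pow_right_injective hq2 (he.trans (pow_mul q _ _).symm)
    rcases hr.eq_one_or_self_of_dvd _ (Dvd.intro _ hr'.symm) with h | h
    · left
      refine le_antisymm (fun g hg => (hM g).2 ⟨hHG hg, fun i j => ?_⟩) hMH
      have := (mem_subfield_iff_pow L).1 (hE g hg i j)
      rwa [hd, h, pow_one] at this
    · right
      refine le_antisymm hHG ((Subgroup.closure_le _).2 ?_)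
      rintro g ⟨s, t, e⟩
      obtain rfl : g = xG hF s t :=
        Units.ext (e.trans (by rw [xG_val, ChevalleyDatum.x, dif_pos s.2]))
      refine (hL s s.2 t).2 ((mem_subfield_iff_pow L).2 ?_)
      rw [hd, h, ← hK]
      exact FiniteField.pow_card t

end Cfsg.Agent.S2190
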