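import Cfsg.Statements.S2191
import Cfsg.Agent.Overgroup.Twisted.E6

set_option autoImplicit false
open Cfsg

namespace Cfsg.Agent.S2191

/-- In the twisted group ²E₆(q), realised inside the Chevalley group of type E₆ over the field K with q² elements (q a power of the characteristic) as the subgroup generated by the root elements, and products of root elements, that the twisting map fixes, the subgroup of matrices all of whose entries lie in the subfield with q elements (entries c with c^q = c; it contains the subgroup of type F₄ over that subfield) is a proper maximal subgroup. -/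
theorem result {K : Type*} [Field K] [Fintype K] (p : ℕ) [Fact p.Prime] [CharP K p] (q : ℕ) (hq : ∃ a : ℕ, 1 ≤ a ∧ q = p ^ a) (hK : Fintype.card K = q ^ 2) (M : Subgroup (GL Cfsg.Lie.chevE6.Idx K))
    (hM : ∀ g : GL Cfsg.Lie.chevE6.Idx K, g ∈ M ↔ g ∈ Cfsg.Lie.twistedE6 K q ∧ ∀ i j : Cfsg.Lie.chevE6.Idx, ((g : Matrix Cfsg.Lie.chevE6.Idx Cfsg.Lie.chevE6.Idx K) i j) ^ q = (g : Matrix Cfsg.Lie.chevE6.Idx Cfsg.Lie.chevE6.Idx K) i j) :
    M ≠ Cfsg.Lie.twistedE6 K q ∧ ∀ H : Subgroup (GL Cfsg.Lie.chevE6.Idx K), M ≤ H → H ≤ Cfsg.Lie.twistedE6 K q → H = M ∨ H = Cfsg.Lie.twistedE6 K q := by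
  obtain ⟨a, ha, rfl⟩ := hq
  have hqp : IsPrimePow (p ^ a) := ((Fact.out : p.Prime).isPrimePow).pow (by omega)
  obtain ⟨φ, hφ, hq2, hpow, hG⟩ := Cfsg.Agent.Chev.exists_twistE6 hqp hK
  have hirr : ∃ t : K, φ t ≠ t := by
    by_contra h
    push Not at h
    have e := Cfsg.Agent.Chev.card_fixed (l := 1) hq2 hK (one_dvd 2)
    rw [Nat.card_congr (Equiv.subtypeUnivEquiv fun x => ?_), Nat.card_eq_fintype_card, hK] at e
    · exact absurd ((Nat.pow_right_injective hq2) e) (by norm_num)
    · simpa using (hpow 1 x).symm.trans (by rw [pow_one]; exact h x)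
  have := Cfsg.Agent.Overgroup.Twisted.e6_maximal φ hφ hirr M (fun g => ?_)
  · rwa [hG] at this
  rw [hM, hG]
  refine and_congr_right fun _ => ⟨fun h => ?_, fun h i j => ?_⟩
  · refine Units.ext (Matrix.ext fun i j => ?_)
    rw [Cfsg.Agent.Chev.gmap_apply]
    simpa using (hpow 1 _).trans (by rw [pow_one]; exact h i j)
  · have := congrArg (fun x : GL Cfsg.Lie.chevE6.Idx K => (x : Matrix Cfsg.Lie.chevE6.Idx Cfsg.Lie.chevE6.Idx K) i j) h
    simp only [Cfsg.Agent.Chev.gmap_apply] at this
    simpa using (hpow 1 _).symm.trans (by rw [pow_one]; exact this)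

end Cfsg.Agent.S2191
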