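import Cfsg.Statements.S2192
import Cfsg.Agent.Overgroup.Twisted.D4

set_option autoImplicit false
open Cfsg

namespace Cfsg.Agent.S2192

/-- In the twisted group ³D₄(q), realised inside the Chevalley group of type D₄ over the field K with q³ elements (q a power of the characteristic) as the subgroup generated by the root elements, and products of root elements, that the twisting map fixes, the subgroup of matrices all of whose entries lie in the subfield with q elements (it contains the subgroup of type G₂ over that subfield) is a proper maximal subgroup. -/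
theorem result {K : Type*} [Field K] [Fintype K] (p : ℕ) [Fact p.Prime] [CharP K p] (q : ℕ) (hq : ∃ a : ℕ, 1 ≤ a ∧ q = p ^ a) (hK : Fintype.card K = q ^ 3) (M : Subgroup (GL Cfsg.Lie.chevD4.Idx K))
    (hM : ∀ g : GL Cfsg.Lie.chevD4.Idx K, g ∈ M ↔ g ∈ Cfsg.Lie.twistedD4 K q ∧ ∀ i j : Cfsg.Lie.chevD4.Idx, ((g : Matrix Cfsg.Lie.chevD4.Idx Cfsg.Lie.chevD4.Idx K) i j) ^ q = (g : Matrix Cfsg.Lie.chevD4.Idx Cfsg.Lie.chevD4.Idx K) i j) :
    M ≠ Cfsg.Lie.twistedD4 K q ∧ ∀ H : Subgroup (GL Cfsg.Lie.chevD4.Idx K), M ≤ H → H ≤ Cfsg.Lie.twistedD4 K q → H = M ∨ H = Cfsg.Lie.twistedD4 K q := by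
  obtain ⟨a, ha, rfl⟩ := hq
  have hqp : IsPrimePow (p ^ a) := ((Fact.out : p.Prime).isPrimePow).pow (by omega)
  obtain ⟨φ, hφ, hq2, hpow, hG⟩ := Cfsg.Agent.Chev.exists_twistD4 hqp hK
  have hirr : ∃ t : K, φ t ≠ t := by
    by_contra h
    push Not at h
    have e := Cfsg.Agent.Chev.card_fixed (l := 1) hq2 hK (one_dvd 3)
    rw [Nat.card_congr (Equiv.subtypeUnivEquiv fun x => ?_), Nat.card_eq_fintype_card, hK] at e
    · exact absurd ((Nat.pow_right_injective hq2) e) (by norm_num)
    · simpa using (hpow 1 x).symm.trans (by rw [pow_one]; exact h x)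
  have := Cfsg.Agent.Overgroup.Twisted.d4_maximal φ hφ hq2 hK (fun t => by simpa using hpow 1 t) hirr M (fun g => ?_)
  · rwa [hG] at this
  rw [hM, hG]
  refine and_congr_right fun _ => ⟨fun h => ?_, fun h i j => ?_⟩
  · refine Units.ext (Matrix.ext fun i j => ?_)
    rw [Cfsg.Agent.Chev.gmap_apply]
    simpa using (hpow 1 _).trans (by rw [pow_one]; exact h i j)
  · have := congrArg (fun x : GL Cfsg.Lie.chevD4.Idx K => (x : Matrix Cfsg.Lie.chevD4.Idx Cfsg.Lie.chevD4.Idx K) i j) h
    simp only [Cfsg.Agent.Chev.gmap_apply] at this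
    simpa using (hpow 1 _).symm.trans (by rw [pow_one]; exact this)

end Cfsg.Agent.S2192
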