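import Cfsg.Statements.S2197
import Cfsg.Agent.TwistedF4Two.Overgroup
import Cfsg.Agent.TwistedF4Two.TwoTrans

set_option autoImplicit false
set_option maxRecDepth 100000
open Cfsg

namespace Cfsg.Agent.S2197

open MulAction TwistedF4Two TwistedF4Two.TwoTrans

attribute [local irreducible] rho toM comp img Cfsg.Lie.chevF4 gen

theorem degrees : ∀ n : Fin 4241, 3 ≤ (n : ℕ) → 17971200 % ((n : ℕ) * ((n : ℕ) - 1)) = 0 →
    (n : ℕ) < 16 ∨ ((n : ℕ) % 2 = 1 ∧ (n : ℕ) < 1462) ∨ (n : ℕ) = 16 ∨ (n : ℕ) = 26 ∨ (n : ℕ) = 40 := by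
  decide +kernel

/-- The conjugate of the central involution belonging to a point. -/
noncomputable def cPt (p : Pt) : D := (exists_D_smul p).choose * zD * (exists_D_smul p).choose⁻¹

theorem cPt_smul (g : D) (p : Pt) : cPt (g • p) = g * cPt p * g⁻¹ := by
  rw [cPt, conj_zD_eq (d' := g * (exists_D_smul p).choose) (by
    rw [(exists_D_smul (g • p)).choose_spec, mul_smul, (exists_D_smul p).choose_spec]), cPt]
  group

theorem map_conj_eq {A B : Type*} [Group A] [Group B] (f : A →* B) (a b : A) :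
    f (a * b * a⁻¹) = f a * f b * (f a)⁻¹ := by simp

theorem inv_mem_PD {d : D} (h : d ∈ U1D) : d⁻¹ ∈ PD := inv_mem (U1D_le_PD h)

section

variable {Ω : Type*} [MulAction D Ω]

theorem fixed_smul {g : D} (hg : g ∈ PD) {a : Ω} (ha : zD • a = a) : zD • g • a = g • a := by
  rw [← mul_smul, ← commute_zD hg, mul_smul, ha]

variable [Finite Ω] [FaithfulSMul D Ω] [IsMultiplyPretransitive D Ω 2]

omit [Finite Ω] [FaithfulSMul D Ω] in
theorem not_odd (hn : 3 ≤ Nat.card Ω) (hodd : Nat.card Ω % 2 = 1) (hlt : Nat.card Ω < 1462) : False := by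
  have : IsPretransitive D Ω := isPretransitive_of_is_two_pretransitive
  have := Fact.mk Nat.prime_two
  have hp : IsPGroup 2 U1D := IsPGroup.of_card (n := 11) (by rw [card_U1D]; norm_num)
  obtain ⟨a, ha⟩ := hp.nonempty_fixed_point_of_prime_not_dvd_card Ω (by omega)
  have hle : U1D ≤ stabilizer D a := fun g hg => ha ⟨g, hg⟩
  have h := Subgroup.card_mul_index (stabilizer D a)
  rw [index_stabilizer_of_transitive, TwistedF4Two.card_D] at h
  have htop : stabilizer D a = ⊤ := eq_top_of_overgroup hle (by nlinarith)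
  rw [htop, Subgroup.card_top, TwistedF4Two.card_D] at h
  omega

omit [IsMultiplyPretransitive D Ω 2] in
theorem not_sixteen (hn : Nat.card Ω = 16) : False := by
  classical
  have : Fintype Ω := Fintype.ofFinite Ω
  have h16 := dvd_moved (Ω := Ω) xD_pow.1
  rw [xD_pow.2] at h16
  have hpos : 0 < moved Ω zD := moved_pos zD_ne_one
  have hsum := moved_add_fixed (Ω := Ω) zD
  have hfix : Nat.card {a : Ω // zD • a = a} = 0 := by
    have := Nat.le_of_dvd hpos h16; omega
  have hall : ∀ a : Ω, xD ^ 8 • a ≠ a := fun a ha => by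
    rw [xD_pow.2] at ha
    rcases Nat.card_eq_zero.1 hfix with h | h
    · exact h.false ⟨a, ha⟩
    · exact absurd h (not_infinite_iff_finite.2 inferInstance)
  have hs := sign_eq_neg_one (Ω := Ω) xD_pow.1 (by rw [← Nat.card_eq_fintype_card]; exact hn) hall
  have hker : commutator D ≤ ((Equiv.Perm.sign).comp (toPermHom D Ω)).ker :=
    Abelianization.commutator_subset_ker _
  rw [commutator_D] at hker
  have h1 : Equiv.Perm.sign (toPermHom D Ω xD) = 1 := hker (Subgroup.mem_top xD)
  rw [hs] at h1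
  exact absurd h1 (by decide)

theorem not_twentysix (hn : Nat.card Ω = 26) : False := by
  classical
  have : Fintype Ω := Fintype.ofFinite Ω
  have : Fintype Pt := Fintype.ofFinite Pt
  have h16 := dvd_moved (Ω := Ω) xD_pow.1
  rw [xD_pow.2] at h16
  have hpos : 0 < moved Ω zD := moved_pos zD_ne_one
  have hsum := moved_add_fixed (Ω := Ω) zD
  have hm : moved Ω zD = 16 := by
    obtain ⟨c, hc⟩ := h16; omega
  have h := pairs_dvd_sum (G := D) (Ω := Ω) cPt cPt_smul
  rw [Finset.sum_congr rfl fun p _ => show moved Ω (cPt p) = 16 from (moved_conj _ _).trans hm,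
    Finset.sum_const, Finset.card_univ, smul_eq_mul, ← Nat.card_eq_fintype_card (α := Pt), card_Pt,
    ← Nat.card_eq_fintype_card, hn] at h
  norm_num at h

omit [Finite Ω] [IsMultiplyPretransitive D Ω 2] [FaithfulSMul D Ω] in
theorem orbit_dvd {a : Ω} {S : ℕ} (hS : Nat.card (stabilizer D a) = S) :
    ∃ L, L ∣ Nat.gcd 10240 S ∧ (orbit PD a).ncard * L = 10240 := by
  refine ⟨Nat.card (stabilizer PD a), Nat.dvd_gcd ?_ ?_, ?_⟩
  · rw [← card_PD]; exact Subgroup.card_subgroup_dvd_card _
  · rw [← hS]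
    exact Subgroup.card_dvd_of_injective ((PD.subtype.comp (stabilizer PD a).subtype).codRestrict
      (stabilizer D a) fun g => g.2) fun g h e => Subtype.ext (Subtype.ext (congrArg Subtype.val e :))
  · rw [← index_stabilizer, mul_comm, Subgroup.card_mul_index, card_PD]

omit [Finite Ω] [FaithfulSMul D Ω] [IsMultiplyPretransitive D Ω 2] in
theorem core_false {a : Ω} (hH : Nat.card (stabilizer D a) = 449280)
    (hfix : ∀ b ∈ orbit PD a, yD • b = b) : False := by
  let K : Subgroup D := fixingSubgroup D (orbit PD a)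
  let M : Subgroup T := K.map D.subtype
  have hy : yT ∈ M := Subgroup.mem_map.2 ⟨yD, fun b => hfix b b.2, rfl⟩
  have hM : ∀ v ∈ U1, ∀ g ∈ M, v * g * v⁻¹ ∈ M := by
    intro v hv x hx
    obtain ⟨g, hg, hgx⟩ := Subgroup.mem_map.1 hx
    obtain ⟨d, hd, hdU⟩ : ∃ d : D, D.subtype d = v ∧ d ∈ U1D := ⟨⟨v, U1_le_D hv⟩, rfl, hv⟩
    refine Subgroup.mem_map.2 ⟨d * g * d⁻¹, ?_, ?_⟩
    case refine_2 =>
      rw [map_conj_eq D.subtype d g, hgx, hd]
    intro b
    have hP : d⁻¹ ∈ PD := inv_mem_PD hdU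
    obtain ⟨q, hq⟩ : ∃ q : PD, q • a = (b : Ω) := b.2
    have hmem : d⁻¹ • (b : Ω) ∈ orbit PD a := by
      refine MulAction.mem_orbit_iff.2 ⟨(⟨d⁻¹, hP⟩ : PD) * q, ?_⟩
      rw [mul_smul, hq, Subgroup.mk_smul]
    rw [mul_smul, mul_smul, show g • _ = _ from hg ⟨_, hmem⟩, smul_inv_smul]
  have hbig := core_large hy hM
  have hle1 : M ⊓ U1 ≤ (stabilizer D a).map D.subtype := by
    rintro _ ⟨⟨g, hg, rfl⟩, -⟩
    exact ⟨g, hg ⟨a, mem_orbit_self a⟩, rfl⟩
  have d1 : Nat.card ↥(M ⊓ U1) ∣ 449280 := by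
    rw [← hH, Nat.card_congr (Subgroup.equivMapOfInjective (stabilizer D a) _ D.subtype_injective).toEquiv]
    exact Subgroup.card_dvd_of_le hle1
  have d2 : Nat.card ↥(M ⊓ U1) ∣ 2048 := card_U1 ▸ Subgroup.card_dvd_of_le inf_le_right
  have := Nat.le_of_dvd (by norm_num) (Nat.dvd_gcd d1 d2)
  rw [show Nat.gcd 449280 2048 = 256 by decide] at this
  omega

theorem not_forty (hn : Nat.card Ω = 40) : False := by
  have : IsPretransitive D Ω := isPretransitive_of_is_two_pretransitive
  have hH : ∀ a : Ω, Nat.card (stabilizer D a) = 449280 := fun a => by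
    have h := Subgroup.card_mul_index (stabilizer D a)
    rw [index_stabilizer_of_transitive, hn, TwistedF4Two.card_D] at h
    omega
  have h16 := dvd_moved (Ω := Ω) xD_pow.1
  rw [xD_pow.2] at h16
  have hpos : 0 < moved Ω zD := moved_pos zD_ne_one
  have hsum := moved_add_fixed (Ω := Ω) zD
  let F : Set Ω := {a | zD • a = a}
  have hF : F.ncard = 8 ∨ F.ncard = 24 := by
    have e : F.ncard = Nat.card {a : Ω // zD • a = a} := (Nat.card_coe_set_eq F).symm
    obtain ⟨c, hc⟩ := h16; omega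
  have hsub : ∀ a ∈ F, orbit PD a ⊆ F := by
    rintro a ha _ ⟨⟨g, hg⟩, rfl⟩
    exact fixed_smul hg ha
  have hsize : ∀ a ∈ F, (orbit PD a).ncard = 8 ∨ (orbit PD a).ncard = 16 := by
    intro a ha
    obtain ⟨L, hL, e⟩ := orbit_dvd (hH a)
    rw [show Nat.gcd 10240 449280 = 1280 by decide] at hL
    obtain ⟨c, hc⟩ := hL
    have hle : (orbit PD a).ncard ≤ 24 := by
      have := Set.ncard_le_ncard (hsub a ha) (Set.toFinite F)
      omega
    have h8 : (orbit PD a).ncard = 8 * c := by
      rw [show (10240 : ℕ) = 8 * (L * c) by rw [← hc]] at e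
      have hL0 : 0 < L := Nat.pos_of_ne_zero fun h => by rw [h] at hc; simp at hc
      exact Nat.eq_of_mul_eq_mul_right hL0 (by rw [e]; ring)
    have hc3 : c ≤ 3 := by omega
    interval_cases c <;> omega
  obtain ⟨a, haF, ha8⟩ : ∃ a ∈ F, (orbit PD a).ncard = 8 := by
    obtain ⟨a, ha⟩ := Set.nonempty_of_ncard_ne_zero (s := F) (by omega)
    rcases hsize a ha with h | h
    · exact ⟨a, ha, h⟩
    · obtain ⟨b, hb, hb'⟩ : ∃ b ∈ F, b ∉ orbit PD a := by
        by_contra hno
        push Not at hno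
        have := Set.ncard_le_ncard hno (Set.toFinite _)
        have := Set.ncard_le_ncard (hsub a ha) (Set.toFinite F)
        omega
      refine ⟨b, hb, (hsize b hb).resolve_right fun h' => ?_⟩
      have hd : Disjoint (orbit PD a) (orbit PD b) := by
        rw [Set.disjoint_left]
        intro c h1 h2
        exact hb' ((orbit_eq_iff.2 h1).symm.trans (orbit_eq_iff.2 h2) ▸ mem_orbit_self b)
      have := Set.ncard_le_ncard (Set.union_subset (hsub a ha) (hsub b hb)) (Set.toFinite F)
      rw [Set.ncard_union_eq hd (Set.toFinite _) (Set.toFinite _)] at this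
      omega
  have := Fact.mk Nat.prime_five
  let Q : Subgroup PD := Subgroup.zpowers ⟨yD, yD_mem⟩
  have hQ : Nat.card Q = 5 := by
    rw [Nat.card_zpowers, Subgroup.orderOf_mk]; exact orderOf_yD
  have hO : Nat.card (orbit PD a) = 8 := by rw [Nat.card_coe_set_eq]; exact ha8
  have hmod := (IsPGroup.of_card (n := 1) (by rw [hQ, pow_one]) : IsPGroup 5 Q).card_modEq_card_fixedPoints
    (orbit PD a)
  rw [hO] at hmod
  have hle : Nat.card (fixedPoints Q (orbit PD a)) ≤ 8 := by
    rw [← hO]; exact Nat.card_le_card_of_injective _ Subtype.val_injective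
  have h38 : Nat.card (fixedPoints Q (orbit PD a)) = 3 ∨ Nat.card (fixedPoints Q (orbit PD a)) = 8 := by
    unfold Nat.ModEq at hmod; omega
  rcases h38 with h3 | h8
  · have hd := card_fixed_dvd (Ω := orbit PD a) Q hQ (by rw [card_PD]; norm_num)
      (by rw [← Set.nonempty_coe_sort, ← not_isEmpty_iff]; intro h; rw [Nat.card_of_isEmpty] at h3; omega)
    rw [h3, card_PD] at hd
    norm_num at hd
  · have hfix : ∀ b ∈ orbit PD a, yD • b = b := fun b hb => by
      have huniv : fixedPoints Q (orbit PD a) = Set.univ :=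
        Set.eq_univ_iff_ncard _ |>.2 (by rw [← Nat.card_coe_set_eq, h8, hO])
      have h := (Set.eq_univ_iff_forall.1 huniv ⟨b, hb⟩) ⟨⟨yD, yD_mem⟩, Subgroup.mem_zpowers _⟩
      exact congrArg Subtype.val h
    exact core_false (hH a) hfix

theorem not_two_transitive (hn : 3 ≤ Nat.card Ω) : False := by
  have hd := mul_pred_dvd_card (G := D) (Ω := Ω) (by omega)
  rw [TwistedF4Two.card_D] at hd
  have hle := Nat.le_of_dvd (by norm_num) hd
  have hlt : Nat.card Ω < 4241 := by
    by_contra h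
    push Not at h
    have : 4241 * 4240 ≤ Nat.card Ω * (Nat.card Ω - 1) := Nat.mul_le_mul h (by omega)
    omega
  rcases degrees ⟨_, hlt⟩ hn (Nat.mod_eq_zero_of_dvd hd) with h | ⟨h1, h2⟩ | h | h | h <;> simp only at *
  · have h16 := dvd_moved (Ω := Ω) xD_pow.1
    rw [xD_pow.2] at h16
    have hpos : 0 < moved Ω zD := moved_pos zD_ne_one
    have := Nat.le_of_dvd hpos h16
    have := moved_add_fixed (Ω := Ω) zD
    omega
  · exact not_odd hn h1 h2
  · exact not_sixteen h
  · exact not_twentysix h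
  · exact not_forty h

end

/-- The Tits group (the commutator subgroup of ²F₄(2)) has no faithful 2-transitive action on a finite set with more than two points. -/
theorem result {Ω : Type*} [Fintype Ω] [MulAction Cfsg.Lie.TitsGroup Ω] [FaithfulSMul Cfsg.Lie.TitsGroup Ω] (hΩ : 3 ≤ Fintype.card Ω) :
    ¬ MulAction.IsMultiplyPretransitive Cfsg.Lie.TitsGroup Ω 2 := by
  intro h
  exact not_two_transitive (Ω := Ω) (by rw [Nat.card_eq_fintype_card]; exact hΩ)

end Cfsg.Agent.S2197
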