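import Cfsg.Statements.S2205
import Cfsg.Agent.PSqPlus.Main

set_option autoImplicit false
open Cfsg

namespace Cfsg.Agent.S2205

/-- A finite group acting faithfully and 2-transitively on a set with p² + 1 points, p a prime, is doubly primitive — a point stabilizer acts primitively on the remaining p² points — unless p = 2 and the group is the Frobenius group of order 20. -/
theorem result {G Ω : Type*} [Group G] [Finite G] [Fintype Ω] [MulAction G Ω] [FaithfulSMul G Ω] (p : ℕ) (hp : p.Prime) (hΩ : Fintype.card Ω = p ^ 2 + 1) (h2 : MulAction.IsMultiplyPretransitive G Ω 2) (a : Ω) :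
    MulAction.IsPreprimitive ↥(MulAction.stabilizer G a) ↥(SubMulAction.ofStabilizer G a) ∨ (p = 2 ∧ Nat.card G = 20) := by
  classical
  by_cases hprim : MulAction.IsPreprimitive ↥(MulAction.stabilizer G a) ↥(SubMulAction.ofStabilizer G a)
  · exact Or.inl hprim
  have hn : Nat.card Ω = p ^ 2 + 1 := by rw [Nat.card_eq_fintype_card, hΩ]
  have h2' : ∀ x y x' y' : Ω, x ≠ y → x' ≠ y' → ∃ g : G, g • x = x' ∧ g • y = y' :=
    fun x y x' y' h h' => MulAction.is_two_pretransitive_iff.1 h2 h h'
  obtain ⟨blk, hmem, hnot, hsize, heq, hequiv⟩ := Cfsg.Agent.PSqPlus.exists_blocks hp hn h2' a hprim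
  by_cases h2p : p = 2
  · subst h2p
    exact Or.inr ⟨rfl, Cfsg.Agent.PSqPlus.card_eq_twenty hn h2' a blk hmem hnot hsize hequiv⟩
  · exact absurd (Cfsg.Agent.PSqPlus.false_of_setup
      { prime := hp, odd := h2p, card := hn, trans := h2', faithful := inferInstance, a := a,
        blk := blk, mem := hmem, not_mem := hnot, size := hsize, blk_eq := heq, equiv := hequiv }) id

end Cfsg.Agent.S2205
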