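import Cfsg.Statements.S2209
import Cfsg.Agent.Chev.All
import Cfsg.Agent.Chev.TopCentralizer

set_option autoImplicit false
set_option maxRecDepth 100000
open Cfsg

namespace Cfsg.Agent.S2209

open Cfsg.Lie Cfsg.Agent.Chev

/-- The table checks for the centraliser of the last root. -/
def chk (D : ChevalleyDatum) (l : List ℕ) (k : ℕ) : Bool :=
  (l.all fun s => decide (s < D.nroots) && commutesChk D (D.nroots - 1) s) &&
    decide (D.cartan k (D.nroots - 1) = 1) &&
    (List.range D.rank).all fun j => decide (j = k) ||
      (decide (D.cartan j (D.nroots - 1) = 0) && decide (D.neg (D.simple j) ∈ l))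

universe u

theorem of_chk {D : ChevalleyDatum} (hF : Facts.{u} D) {F : Type u} [Field F] [CharP F 2]
    {l : List ℕ} {k : ℕ} (hk : k < D.rank) (h : chk D l k = true) (t : GL D.Idx F)
    (ht : (t : Matrix D.Idx D.Idx F) = D.x F (D.nroots - 1) 1) :
    D.group F ⊓ Subgroup.centralizer {t} = D.posUnipotent F ⊔ Subgroup.closure {g : GL D.Idx F |
      ∃ s ∈ l, ∃ c : F, (g : Matrix D.Idx D.Idx F) = D.x F s c} := by
  simp only [chk, Bool.and_eq_true, List.all_eq_true, decide_eq_true_eq, Bool.or_eq_true] at h
  obtain ⟨⟨h1, h2⟩, h3⟩ := h
  exact centralizer_top hF l ⟨k, hk⟩ h1 h2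
    (fun j hj => ((h3 j (List.mem_range.2 j.2)).resolve_left fun e => hj (Fin.ext e))) ht

/-- Centralizer of a long root involution in the Chevalley groups of type E₆, E₇, E₈ over a finite field F of characteristic two. Let G be the group generated by the root elements, U the subgroup generated by the positive root subgroups, r the highest root (the last root index: 71, 125, 239 respectively), and t the element of G with matrix x_r(1). Then the centralizer of t in G is the subgroup generated by U together with the root subgroups X_{−p} for the fundamental roots p orthogonal to r — all fundamental roots except p₂ for E₆, except p₁ for E₇, except p₈ for E₈ (numbering with p₁–p₃–p₄–…–p_l the long chain and p₂ joined to p₄); the indices of these negative fundamental roots are 15, 29, 32, 34, 35 (E₆), 47, 52, 56, 59, 61, 62 (E₇), 77, 98, 104, 109, 113, 116, 118 (E₈). (This is the unipotent radical of the corresponding maximal parabolic subgroup extended by the root subgroups of its Levi factor, of type A₅, D₆, E₇ respectively.) -/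
theorem result {F : Type*} [Field F] [Fintype F] [CharP F 2] (d : Cfsg.Lie.ChevalleyDatum × List ℕ)
    (hd : d ∈ [(Cfsg.Lie.chevE6, [15, 29, 32, 34, 35]), (Cfsg.Lie.chevE7, [47, 52, 56, 59, 61, 62]), (Cfsg.Lie.chevE8, [77, 98, 104, 109, 113, 116, 118])])
    (t : GL d.1.Idx F) (ht : (t : Matrix d.1.Idx d.1.Idx F) = d.1.x F (d.1.nroots - 1) 1) :
    d.1.group F ⊓ Subgroup.centralizer {t} = d.1.posUnipotent F ⊔ Subgroup.closure {g : GL d.1.Idx F | ∃ s ∈ d.2, ∃ c : F, (g : Matrix d.1.Idx d.1.Idx F) = d.1.x F s c} := by
  simp only [List.mem_cons, List.not_mem_nil, or_false] at hd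
  rcases hd with rfl | rfl | rfl
  · exact of_chk facts_chevE6 (k := 1) (by decide +kernel) (by decide +kernel) t ht
  · exact of_chk facts_chevE7 (k := 0) (by decide +kernel) (by decide +kernel) t ht
  · exact of_chk facts_chevE8 (k := 7) (by decide +kernel) (by decide +kernel) t ht

end Cfsg.Agent.S2209
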