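import Cfsg.Statements.S2219
import Cfsg.Agent.NineTwoPrimes.Four
-- import your own Cfsg.Agent.* helpers here

set_option autoImplicit false
open Cfsg

namespace Cfsg.Agent.S2219

/-- Let G be a non-abelian finite simple group of order 9·2ᵃ·qᵇ for a prime q other than 2 and 3, having at least three conjugacy classes of nonidentity 3-elements (elements of order 3 or 9). Then G is isomorphic to PSL(2,8) or to PSL(2,17). -/
theorem result {G : Type*} [Group G] [Finite G] [IsSimpleGroup G] (hG : ¬ IsMulCommutative G)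
    (q a b : ℕ) (hq : q.Prime) (hq2 : q ≠ 2) (hq3 : q ≠ 3) (hcard : Nat.card G = 9 * 2 ^ a * q ^ b)
    (h3 : 3 ≤ Nat.card {C : ConjClasses G // ∃ g ∈ C.carrier, g ≠ 1 ∧ orderOf g ∣ 9}) :
    (∃ (F : Type) (_ : Field F) (_ : Fintype F), Fintype.card F = 8 ∧
        Nonempty (G ≃* Matrix.ProjectiveSpecialLinearGroup (Fin 2) F)) ∨
      Nonempty (G ≃* Matrix.ProjectiveSpecialLinearGroup (Fin 2) (ZMod 17)) := by
  classical
  have := Fintype.ofFinite G
  have : Fact (Nat.Prime 3) := ⟨Nat.prime_three⟩
  have hna : ∃ u v : G, u * v ≠ v * u := by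
    by_contra h
    push Not at h
    exact hG ⟨⟨h⟩⟩
  have hq5 : 5 ≤ q := by
    have := hq.two_le
    by_contra h
    interval_cases q <;> first | omega | norm_num at hq
  obtain ⟨R⟩ : Nonempty (Sylow 3 G) := inferInstance
  have hR : Nat.card (R : Subgroup G) = 9 := by
    have h3a : ¬ 3 ∣ 2 ^ a := fun h => absurd (Nat.prime_three.dvd_of_dvd_pow h) (by norm_num)
    have h3b : ¬ 3 ∣ q ^ b := fun h =>
      hq3 ((Nat.prime_dvd_prime_iff_eq Nat.prime_three hq).1 (Nat.prime_three.dvd_of_dvd_pow h)).symm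
    rw [R.card_eq_multiplicity, hcard, Nat.factorization_mul (by positivity)
      (pow_ne_zero _ hq.ne_zero), Nat.factorization_mul (by norm_num) (by positivity),
      Finsupp.add_apply, Finsupp.add_apply, Nat.factorization_eq_zero_of_not_dvd h3a,
      Nat.factorization_eq_zero_of_not_dvd h3b, show (9 : ℕ) = 3 ^ 2 by norm_num,
      Nat.prime_three.factorization_pow]
    simp
  rcases NineTwoPrimes.setup_or_four hna hR h3 with hS | ⟨u, v, hF⟩
  · exact NineTwoPrimes.iso_of_card (NineTwoPrimes.card_of_inversion hna hS hR hq hq5 hcard)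
  · exact (hF.elim hR hna hq hq5 hcard).elim

end Cfsg.Agent.S2219
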