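import Cfsg.Statements.S3341
import Cfsg.Agent.ThreeTINine.Shape
import Cfsg.Agent.S0497
import Cfsg.Agent.Char.Linear
import Mathlib.GroupTheory.Transfer

set_option autoImplicit false
open Cfsg
open Cfsg.Agent
open Cfsg.Agent.ThreeTINine

namespace Cfsg.Agent.S3341

/-- Let G be a finite simple group whose Sylow 3-subgroup S is elementary abelian of order 9, such that G has more than one conjugacy class of elements of order 3 and C_G(s) = S for every non-identity s in S. Then G is isomorphic to the alternating group of degree 6. -/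
theorem result {G : Type*} [Group G] [Finite G] [IsSimpleGroup G]
    (P : Sylow 3 G) (S : Subgroup G) (hSP : S = P) (hcomm : IsMulCommutative S) (hexp : ∀ a ∈ S, a ^ 3 = 1)
    (hcard : Nat.card S = 9)
    (hclasses : ∃ a b : G, orderOf a = 3 ∧ orderOf b = 3 ∧ ∀ g : G, g * a * g⁻¹ ≠ b)
    (hcent : ∀ s ∈ S, s ≠ 1 → Subgroup.centralizer ({s} : Set G) = S) :
    Nonempty (G ≃* alternatingGroup (Fin 6)) := by
  classical
  haveI : Fact (Nat.Prime 3) := ⟨Nat.prime_three⟩
  have hc : ∀ x ∈ S, ∀ y ∈ S, x * y = y * x := fun x hx y hy =>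
    congrArg Subtype.val (hcomm.is_comm.comm ⟨x, hx⟩ ⟨y, hy⟩)
  have h : TI S := TI.of_sylow P hSP hc hexp hcard hcent
  have h27 : ¬ 27 ∣ Nat.card G := by
    intro hd
    have h1 := P.not_dvd_index
    have h2 := (P : Subgroup G).card_mul_index
    rw [← hSP, hcard] at h2
    rw [← hSP] at h1
    exact h1 (Nat.dvd_of_mul_dvd_mul_left (show 0 < 9 by norm_num) (h2 ▸ hd))
  obtain ⟨a0, b0, ha0, hb0, hab0⟩ := hclasses
  obtain ⟨k, hk⟩ := h.cover a0 (ha0 ▸ pow_orderOf_eq_one a0)
  obtain ⟨l, hl⟩ := h.cover b0 (hb0 ▸ pow_orderOf_eq_one b0)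
  have hk1 : k * a0 * k⁻¹ ≠ 1 := fun e => by simp [conj_eq_one_iff.1 e] at ha0
  have hl1 : l * b0 * l⁻¹ ≠ 1 := fun e => by simp [conj_eq_one_iff.1 e] at hb0
  have hab : ∀ g : G, g * (k * a0 * k⁻¹) * g⁻¹ ≠ l * b0 * l⁻¹ := fun g e => hab0 (l⁻¹ * g * k) (by
    calc l⁻¹ * g * k * a0 * (l⁻¹ * g * k)⁻¹ = l⁻¹ * (g * (k * a0 * k⁻¹) * g⁻¹) * l := by group
      _ = b0 := by rw [e]; group)
  have hle := h.card_le hk hk1 hl hl1 fun g _ => hab g
  have hnorm : ¬ S.Normal := fun hn => by
    rcases hn.eq_bot_or_eq_top with e | e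
    · rw [e, Subgroup.card_bot] at hcard; omega
    · refine hab0 1 ?_
      have hz : (Subgroup.zpowers a0).Normal := ⟨fun z hz g => by
        rw [hc g (e ▸ Subgroup.mem_top g) z (e ▸ Subgroup.mem_top z), mul_inv_cancel_right]; exact hz⟩
      rcases hz.eq_bot_or_eq_top with e' | e'
      · rw [Subgroup.zpowers_eq_bot] at e'; simp [e'] at ha0
      · have h9 := Nat.card_zpowers a0
        rw [e', ← e, hcard, ha0] at h9
        omega
  set N := Subgroup.normalizer (S : Set G) with hN
  have hS0 := h.card_normalizer hk hk1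
  simp only [← hN] at hS0 hle
  by_cases hsq : ∀ g ∈ N, g * g ∈ S
  · exfalso
    by_cases hall : ∀ g ∈ N, g ∈ S
    · -- the transfer gives a normal complement
      have hP : Subgroup.normalizer ((P : Subgroup G) : Set G) ≤ Subgroup.centralizer ((P : Subgroup G) : Set G) := by
        rw [← hSP]
        intro g hg s hs
        exact hc s hs g (hall g hg)
      have hcomp := MonoidHom.ker_transferSylow_isComplement' P hP
      rcases (MonoidHom.normal_ker (MonoidHom.transferSylow P hP)).eq_bot_or_eq_top with e | e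
      · rw [e] at hcomp
        have : (S : Subgroup G) = ⊤ := hSP.trans (Subgroup.isComplement'_bot_left.1 hcomp)
        exact hnorm (this ▸ inferInstance)
      · rw [e] at hcomp
        have := Subgroup.isComplement'_top_left.1 hcomp
        rw [hSP, this, Subgroup.card_bot] at hcard
        omega
    · push Not at hall
      obtain ⟨u, hu, huS⟩ := hall
      obtain ⟨χ, hχ, hχ1⟩ := h.two_case (h.invert hu huS (hsq u hu)) fun g hg s hs => by
        by_cases hgS : g ∈ S
        · exact Or.inl (by rw [hc g hgS s hs, mul_inv_cancel_right])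
        · exact Or.inr (h.invert hg hgS (hsq g hg) s hs)
      obtain ⟨f, hf⟩ := Char.IsChar.exists_hom (Char.IsIrr.isCharacter χ.2) hχ1
      rcases (MonoidHom.normal_ker f).eq_bot_or_eq_top with e | e
      · refine hnorm ⟨fun s hs g => ?_⟩
        have : g * s * g⁻¹ = s := (MonoidHom.ker_eq_bot_iff f).1 e (by
          rw [map_mul, map_mul, map_inv, mul_inv_cancel_comm])
        rw [this]; exact hs
      · refine hχ (funext fun g => ?_)
        rw [hf]
        have : f g = 1 := by
          have hg : g ∈ f.ker := e ▸ Subgroup.mem_top g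
          exact hg
        simp [this]
  · have hN36 : Nat.card N = 36 := by
      have h1 : ¬ Nat.card N ≤ 18 := fun hle => by
        push Not at hsq
        obtain ⟨w, hw, hw2⟩ := hsq
        have hd : Nat.card N ∣ Nat.card G := Subgroup.card_subgroup_dvd_card N
        rcases (show (orbit S (k * a0 * k⁻¹)).card ≤ 1 ∨ (orbit S (k * a0 * k⁻¹)).card = 2 by omega) with e | e
        · have hNS : S = N := Subgroup.eq_of_le_of_card_ge Subgroup.le_normalizer (by rw [hcard]; omega)
          exact hw2 (mul_mem (hNS ▸ hw) (hNS ▸ hw))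
        · refine hw2 ?_
          have hn : (S.subgroupOf N).Normal :=
            (Subgroup.normal_subgroupOf_iff_le_normalizer Subgroup.le_normalizer).2 le_rfl
          have hidx : (S.subgroupOf N).index = 2 := by
            have h1 := (S.subgroupOf N).card_mul_index
            rw [Nat.card_congr (Subgroup.subgroupOfEquivOfLe (Subgroup.le_normalizer : S ≤ N)).toEquiv, hcard,
              hS0, e] at h1
            omega
          simpa [Subgroup.mem_subgroupOf] using Subgroup.mul_self_mem_of_index_two hidx ⟨w, hw⟩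
      have h3 : Nat.card N ≠ 27 := fun e => h27 (e ▸ Subgroup.card_subgroup_dvd_card N)
      omega
    obtain ⟨w, hw, x, hx, hx1, hxy, hy, hcov⟩ := h.exists_four hN36 hsq
    rcases h.four_case hw hx hx1 hxy hy hcov hN36 h27 with e | e
    · exact absurd (Subgroup.normalizer_eq_top_iff.1 e) hnorm
    · exact S0497.result e

end Cfsg.Agent.S3341
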