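import Cfsg.Statements.S2220
import Cfsg.Agent.S2219
import Cfsg.Agent.S3341
import Cfsg.Agent.NineEight.Final
-- import your own Cfsg.Agent.* helpers here

set_option autoImplicit false
open Cfsg

namespace Cfsg.Agent.S2220

/-- Let G be a non-abelian finite simple group of order 9·2ᵃ·qᵇ for a prime q other than 2 and 3, and suppose a Sylow 3-subgroup R of G is strongly self-centralizing: C_G(k) = R for every nonidentity k ∈ R. Then G is isomorphic to the alternating group of degree 6, to PSL(2,8) or to PSL(2,17). -/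
theorem result {G : Type*} [Group G] [Finite G] [IsSimpleGroup G] (hG : ¬ IsMulCommutative G)
    (q a b : ℕ) (hq : q.Prime) (hq2 : q ≠ 2) (hq3 : q ≠ 3) (hcard : Nat.card G = 9 * 2 ^ a * q ^ b)
    (R : Sylow 3 G) (hR : ∀ k ∈ (R : Subgroup G), k ≠ 1 → Subgroup.centralizer ({k} : Set G) = R) :
    Nonempty (G ≃* ↥(alternatingGroup (Fin 6))) ∨
      (∃ (F : Type) (_ : Field F) (_ : Fintype F), Fintype.card F = 8 ∧
        Nonempty (G ≃* Matrix.ProjectiveSpecialLinearGroup (Fin 2) F)) ∨
      Nonempty (G ≃* Matrix.ProjectiveSpecialLinearGroup (Fin 2) (ZMod 17)) := by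
  classical
  have := Fintype.ofFinite G
  have : Fact (Nat.Prime 3) := ⟨Nat.prime_three⟩
  have hna : ∃ u v : G, u * v ≠ v * u := by
    by_contra h
    push Not at h
    exact hG ⟨⟨h⟩⟩
  by_cases h3 : 3 ≤ Nat.card {C : ConjClasses G // ∃ g ∈ C.carrier, g ≠ 1 ∧ orderOf g ∣ 9}
  · exact Or.inr (S2219.result hG q a b hq hq2 hq3 hcard h3)
  have hq5 : 5 ≤ q := by
    have := hq.two_le
    by_contra h
    interval_cases q <;> first | omega | norm_num at hq
  have hcR : Nat.card (R : Subgroup G) = 9 := by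
    have h3a : ¬ 3 ∣ 2 ^ a := fun h => absurd (Nat.prime_three.dvd_of_dvd_pow h) (by norm_num)
    have h3b : ¬ 3 ∣ q ^ b := fun h =>
      hq3 ((Nat.prime_dvd_prime_iff_eq Nat.prime_three hq).1 (Nat.prime_three.dvd_of_dvd_pow h)).symm
    rw [R.card_eq_multiplicity, hcard, Nat.factorization_mul (by positivity)
      (pow_ne_zero _ hq.ne_zero), Nat.factorization_mul (by norm_num) (by positivity),
      Finsupp.add_apply, Finsupp.add_apply, Nat.factorization_eq_zero_of_not_dvd h3a,
      Nat.factorization_eq_zero_of_not_dvd h3b, show (9 : ℕ) = 3 ^ 2 by norm_num,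
      Nat.prime_three.factorization_pow]
    simp
  have hcomm := NineTwoPrimes.comm_of_card_nine hcR
  have hc : ∀ u ∈ (R : Subgroup G), ∀ v ∈ (R : Subgroup G), u * v = v * u := fun u hu v hv =>
    congrArg Subtype.val (hcomm.is_comm.comm (⟨u, hu⟩ : (R : Subgroup G)) ⟨v, hv⟩)
  have h9 : ∀ g ∈ (R : Subgroup G), orderOf g ∣ 9 := fun g hg =>
    hcR ▸ Subgroup.orderOf_dvd_natCard _ hg
  -- the subgroup is elementary
  have hcube : ∀ g ∈ (R : Subgroup G), g ^ 3 = 1 := by
    intro g hg
    by_contra hg3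
    refine h3 ?_
    have hg9 : g ^ 9 = 1 := orderOf_dvd_iff_pow_eq_one.1 (h9 g hg)
    have hg1 : g ≠ 1 := fun e => hg3 (by rw [e, one_pow])
    have hpow : ∀ i, ¬ 3 ∣ i → g ^ i ≠ 1 := fun i hi e => hg3 (by
      have hd := orderOf_dvd_of_pow_eq_one e
      obtain ⟨j, hj2, hj⟩ := (Nat.dvd_prime_pow Nat.prime_three).1 (show orderOf g ∣ 3 ^ 2 from h9 g hg)
      rcases Nat.eq_zero_or_pos j with rfl | hj0
      · exact absurd (orderOf_eq_one_iff.1 (by simpa using hj)) hg1
      · exact absurd ((hj ▸ dvd_pow_self 3 hj0.ne' : 3 ∣ orderOf g).trans hd) hi)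
    have h2 : ∀ k : G, k * g * k⁻¹ ≠ g ^ 2 := fun k hk => by
      have hkR : k ∈ Subgroup.normalizer (R : Set G) := by
        have hc2 := hR (g ^ 2) (pow_mem hg 2) (hpow 2 (by norm_num))
        rw [← hk] at hc2
        refine Subgroup.mem_normalizer_iff.2 fun s => ?_
        show s ∈ (R : Subgroup G) ↔ k * s * k⁻¹ ∈ (R : Subgroup G)
        rw [show s ∈ (R : Subgroup G) ↔ s ∈ Subgroup.centralizer ({g} : Set G) by rw [hR g hg hg1],
          show k * s * k⁻¹ ∈ (R : Subgroup G) ↔ k * s * k⁻¹ ∈ Subgroup.centralizer ({k * g * k⁻¹} : Set G) by rw [hc2],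
          Subgroup.mem_centralizer_singleton_iff, Subgroup.mem_centralizer_singleton_iff]
        constructor
        · intro e
          calc k * s * k⁻¹ * (k * g * k⁻¹) = k * (s * g) * k⁻¹ := by group
            _ = k * g * k⁻¹ * (k * s * k⁻¹) := by rw [e]; group
        · intro e
          calc s * g = k⁻¹ * (k * s * k⁻¹ * (k * g * k⁻¹)) * k := by group
            _ = g * s := by rw [e]; group
      set n := k * k with hn
      have hn4 : n * g * n⁻¹ = g ^ 4 := by
        calc n * g * n⁻¹ = k * (k * g * k⁻¹) * k⁻¹ := by rw [hn]; group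
          _ = (k * g * k⁻¹) ^ 2 := by rw [conj_pow, hk]
          _ = g ^ 4 := by rw [hk, ← pow_mul]
      have hn3 : n ^ 3 ∈ (R : Subgroup G) := by
        rw [← hR g hg hg1, Subgroup.mem_centralizer_singleton_iff]
        have e : n ^ 3 * g * (n ^ 3)⁻¹ = g := by
          calc n ^ 3 * g * (n ^ 3)⁻¹ = n * (n * (n * g * n⁻¹) * n⁻¹) * n⁻¹ := by
                rw [pow_succ, sq]; group
            _ = n * (n * g ^ 4 * n⁻¹) * n⁻¹ := by rw [hn4]
            _ = n * (g ^ 4) ^ 4 * n⁻¹ := by rw [← conj_pow, hn4]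
            _ = ((g ^ 4) ^ 4) ^ 4 := by rw [← conj_pow, ← conj_pow, hn4]
            _ = g ^ (9 * 7 + 1) := by rw [← pow_mul, ← pow_mul]
            _ = g := by rw [pow_add, pow_mul, hg9, one_pow, one_mul, pow_one]
        rwa [mul_inv_eq_iff_eq_mul] at e
      have hnR : Subgroup.zpowers n ≤ Subgroup.normalizer (R : Set G) :=
        Subgroup.zpowers_le.2 (mul_mem hkR hkR)
      have hp : IsPGroup 3 (Subgroup.zpowers n) := by
        have h27 : orderOf n ∣ 3 ^ 3 := orderOf_dvd_of_pow_eq_one (by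
          rw [show (3 : ℕ) ^ 3 = 3 * 9 from rfl, pow_mul]
          exact orderOf_dvd_iff_pow_eq_one.1 (h9 _ hn3))
        obtain ⟨j, -, hj⟩ := (Nat.dvd_prime_pow Nat.prime_three).1 h27
        exact IsPGroup.of_card (n := j) (by rw [Nat.card_zpowers, hj])
      have hsup := IsPGroup.to_sup_of_normal_right' hp R.2 hnR
      have hnmem : n ∈ (R : Subgroup G) := by
        rw [← R.3 hsup le_sup_right]
        exact Subgroup.mem_sup_left (Subgroup.mem_zpowers n)
      refine hg3 ?_
      have e : g ^ 3 * g = g := by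
        rw [← pow_succ, ← hn4, hc n hnmem g hg, mul_inv_cancel_right]
      simpa using e
    have hmem : ∀ i, i ≠ 0 → i < 9 → ∃ u ∈ (ConjClasses.mk (g ^ i)).carrier, u ≠ 1 ∧ orderOf u ∣ 9 :=
      fun i hi hi9 => ⟨g ^ i, ConjClasses.mem_carrier_mk, fun e => by
        by_cases hd : 3 ∣ i
        · obtain ⟨j, rfl⟩ := hd
          have hj : j = 1 ∨ j = 2 := by omega
          rcases hj with rfl | rfl
          · exact hg3 e
          · refine hg3 ?_
            calc g ^ 3 = g ^ 9 * (g ^ (3 * 2))⁻¹ := by rw [← pow_sub g (by norm_num : 3 * 2 ≤ 9)]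
              _ = 1 := by rw [hg9, e, one_mul, inv_one]
        · exact hpow i hd e, h9 _ (pow_mem hg i)⟩
    let f : Fin 3 → {C : ConjClasses G // ∃ g ∈ C.carrier, g ≠ 1 ∧ orderOf g ∣ 9} :=
      fun i => ⟨ConjClasses.mk (g ^ ((i : ℕ) + 1)), hmem _ (Nat.succ_ne_zero _) (by omega)⟩
    have hf : Function.Injective f := by
      intro i j e
      have e' := ConjClasses.mk_eq_mk_iff_isConj.1 (congrArg Subtype.val e)
      have hthree : ∀ m, ¬ 3 ∣ m → ¬ IsConj (g ^ m) (g ^ 3) := fun m hm hcj => by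
        obtain ⟨k, hk⟩ := isConj_iff.1 hcj
        refine hg3 ?_
        have h33 : (g ^ 3) ^ 3 = 1 := by rw [← pow_mul]; exact hg9
        rw [← hk, conj_pow, conj_eq_one_iff, ← pow_mul] at h33
        rw [← orderOf_dvd_iff_pow_eq_one] at h33 ⊢
        exact (Nat.Coprime.dvd_of_dvd_mul_left (show (orderOf g).Coprime m by
          obtain ⟨j, -, hj⟩ := (Nat.dvd_prime_pow Nat.prime_three).1 (show orderOf g ∣ 3 ^ 2 from h9 g hg)
          rw [hj]
          exact Nat.Coprime.pow_left j (Nat.prime_three.coprime_iff_not_dvd.2 hm)) h33)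
      have h12 : ¬ IsConj (g ^ 1) (g ^ 2) := fun hcj => by
        obtain ⟨k, hk⟩ := isConj_iff.1 hcj
        exact h2 k (by rwa [pow_one] at hk)
      fin_cases i <;> fin_cases j <;> simp only [Fin.val_zero, Fin.val_one, Fin.val_two] at e' <;>
        first | rfl | exact absurd e' h12 | exact absurd e'.symm h12 |
          exact absurd e' (hthree 1 (by norm_num)) | exact absurd e'.symm (hthree 1 (by norm_num)) |
          exact absurd e' (hthree 2 (by norm_num)) | exact absurd e'.symm (hthree 2 (by norm_num))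
    have := Nat.card_le_card_of_injective f hf
    rwa [Nat.card_fin] at this
  have hTI := ThreeTINine.TI.of_sylow R rfl hc hcube hcR hR
  obtain ⟨x, hx, hx1⟩ := (Subgroup.bot_or_exists_ne_one (R : Subgroup G)).resolve_left fun e => by
    rw [e, Subgroup.card_bot] at hcR; omega
  by_cases hfus : ∀ g : G, g ^ 3 = 1 → g ≠ 1 → IsConj x g
  · exact (NineEight.false_of_one_class ⟨hTI, hx, hx1⟩ hfus hna hq hq5
      (NineTwoPrimes.exp_pos hna hcard) hcard).elim
  push Not at hfus
  obtain ⟨g, hg3, hg1, hgx⟩ := hfus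
  refine Or.inl (S3341.result R R rfl hcomm hcube hcR
    ⟨x, g, orderOf_eq_prime (hcube x hx) hx1, orderOf_eq_prime hg3 hg1, fun k e => hgx ?_⟩ hR)
  exact isConj_iff.2 ⟨k, e⟩

end Cfsg.Agent.S2220
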