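import Cfsg.Statements.S2221
import Cfsg.Agent.AltSylow.Model

set_option autoImplicit false
open Cfsg

namespace Cfsg.Agent.S2221

open Cfsg.Agent.AltSylow Equiv in
theorem sq_eq_one : ∀ (x : Cfsg.Agent.AltSylow.W 2), sgn 2 x = 1 → x * x = 1 := by
  intro x hx
  obtain ⟨c, w, rfl⟩ := exists_el x
  have hw1 : ∀ y : W 1, sgn 1 y = 1 → y = 1 := by
    intro y hy
    obtain ⟨d, v, rfl⟩ := exists_el y
    have hv : v = 1 := funext fun b => Subtype.ext (Subgroup.mem_bot.1 (v b).2)
    subst hv
    cases d
    · exact el_one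
    · rw [sgn_flip] at hy
      exact absurd hy (by decide)
  have hc : sgn 2 (el c w) = sgn 1 (w false) * sgn 1 (w true) := by
    cases c
    · exact sgn_el_false w
    · rw [show el true w = el true 1 * el false w by rw [el_mul]; simp, map_mul, sgn_flip_even le_rfl, one_mul,
        sgn_el_false]
  rw [hc] at hx
  have heq : ∀ b, w (xor b c) * w b = 1 := by
    intro b
    refine hw1 _ ?_
    rw [map_mul]
    cases b <;> cases c <;> simp_all [mul_comm, Int.units_mul_self]
  rw [el_mul, Bool.xor_self, ← el_one]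
  exact congrArg _ (funext heq)

open Cfsg.Agent.AltSylow in
theorem dec_of_sq {G : Type*} [Group G] [Finite G] (h4 : Nat.card G = 4) (hsq : ∀ x : G, x * x = 1) : Dec G := by
  have hcomm : ∀ x y : G, x * y = y * x := fun x y => by
    have hinv : ∀ z : G, z⁻¹ = z := fun z => inv_eq_of_mul_eq_one_right (hsq z)
    calc x * y = (x * y)⁻¹ := (hinv _).symm
      _ = y * x := by rw [mul_inv_rev, hinv, hinv]
  have hnt : Nontrivial G := Finite.one_lt_card_iff_nontrivial.1 (by omega)
  obtain ⟨x, hx⟩ := exists_ne (1 : G)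
  have hox : Nat.card (Subgroup.zpowers x) = 2 := by
    rw [Nat.card_zpowers]
    exact orderOf_eq_prime (by rw [pow_two]; exact hsq x) hx
  obtain ⟨y, hy⟩ : ∃ y, y ∉ Subgroup.zpowers x := by
    by_contra h
    push Not at h
    rw [(Subgroup.eq_top_iff' _).2 h, Subgroup.card_top, h4] at hox
    omega
  have hy1 : y ≠ 1 := fun h => hy (h ▸ Subgroup.one_mem _)
  have hoy : Nat.card (Subgroup.zpowers y) = 2 := by
    rw [Nat.card_zpowers]
    exact orderOf_eq_prime (by rw [pow_two]; exact hsq y) hy1
  refine ⟨Subgroup.zpowers x, Subgroup.zpowers y, ?_, ?_, fun a _ b _ => hcomm a b, ?_, ?_⟩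
  · intro h; rw [h, Subgroup.card_bot] at hox; omega
  · intro h; rw [h, Subgroup.card_bot] at hoy; omega
  · by_contra h
    have h1 : Subgroup.zpowers x ⊓ Subgroup.zpowers y = Subgroup.zpowers y := by
      refine Subgroup.eq_of_le_of_card_ge inf_le_right ?_
      have h2 := Subgroup.card_dvd_of_le (inf_le_right : Subgroup.zpowers x ⊓ Subgroup.zpowers y ≤ _)
      rw [hoy] at h2 ⊢
      rcases (Nat.dvd_prime Nat.prime_two).1 h2 with h3 | h3
      · exact absurd (Subgroup.card_eq_one.1 h3) h
      · omega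
    exact hy ((inf_eq_right.1 h1) (Subgroup.mem_zpowers y))
  · have hle : Subgroup.zpowers x ≤ Subgroup.zpowers x ⊔ Subgroup.zpowers y := le_sup_left
    have h2 := Subgroup.card_dvd_of_le hle
    have h3 := Subgroup.card_subgroup_dvd_card (Subgroup.zpowers x ⊔ Subgroup.zpowers y)
    rw [hox] at h2
    rw [h4] at h3
    have h5 : Nat.card ↥(Subgroup.zpowers x ⊔ Subgroup.zpowers y) ≠ 2 := by
      intro h6
      have h7 := Subgroup.eq_of_le_of_card_ge hle (by omega)
      exact hy (h7 ▸ Subgroup.mem_sup_right (Subgroup.mem_zpowers y))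
    have h6 := Nat.le_of_dvd (by norm_num) h3
    refine Subgroup.eq_top_of_le_card _ ?_
    rw [h4]
    have h8 : 0 < Nat.card ↥(Subgroup.zpowers x ⊔ Subgroup.zpowers y) := Nat.card_pos
    rcases h2 with ⟨c, hc⟩
    have hc2 : c ≠ 1 := fun e => h5 (by rw [hc, e])
    omega

/-- Direct decomposability of the Sylow 2-subgroups of the alternating groups. Let n ≥ 4 and let P be a Sylow 2-subgroup of the alternating group of degree n. Then P is the internal direct product of two nontrivial subgroups if and only if n = 4, n = 5, or n ≡ 2, 3 (mod 4) with 4⌊n/4⌋ not a power of 2. In the remaining cases (n ≡ 0, 1 (mod 4) with n ≥ 8, or n ≡ 2, 3 (mod 4) with 4⌊n/4⌋ a power of 2) P is directly indecomposable. -/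
theorem result (n : ℕ) (hn : 4 ≤ n)
    (P : Sylow 2 (alternatingGroup (Fin n))) :
    (∃ S₁ S₂ : Subgroup (alternatingGroup (Fin n)), S₁ ≠ ⊥ ∧ S₂ ≠ ⊥ ∧
        Cfsg.IsInternalDirectProduct S₁ S₂ (P : Subgroup (alternatingGroup (Fin n)))) ↔
      (n = 4 ∨ n = 5 ∨ ((n % 4 = 2 ∨ n % 4 = 3) ∧ ∀ r : ℕ, 4 * (n / 4) ≠ 2 ^ r)) := by
  classical
  rw [AltSylow.dec_subgroup_iff]
  set q := n / 4 with hq
  have hq1 : 1 ≤ q := by omega
  have hL : 1 ≤ q.bitIndices.length := by
    by_contra h
    have h' : q.bitIndices = [] := List.length_eq_zero_iff.1 (by omega)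
    have := Nat.sum_map_two_pow_bitIndices q
    rw [h'] at this
    simp at this
    omega
  obtain ⟨i₀⟩ : Nonempty (AltSylow.Dig q) := Fintype.card_pos_iff.1 (by rw [AltSylow.card_dig]; omega)
  have hpow : (∀ r : ℕ, 4 * q ≠ 2 ^ r) ↔ 2 ≤ q.bitIndices.length := by
    constructor
    · intro h
      by_contra h2
      obtain ⟨a, ha⟩ : ∃ a, q.bitIndices = [a] := List.length_eq_one_iff.1 (by omega)
      have := Nat.sum_map_two_pow_bitIndices q
      rw [ha] at this
      simp at this
      exact h (a + 2) (by rw [pow_add, this]; ring)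
    · intro h r hr
      have hr2 : 2 ≤ r := by
        by_contra h2
        interval_cases r <;> omega
      obtain ⟨s, rfl⟩ : ∃ s, r = s + 2 := ⟨r - 2, by omega⟩
      have hqs : q = 2 ^ s := by rw [pow_add] at hr; omega
      rw [hqs, Nat.bitIndices_two_pow] at h
      simp at h
  have hv : padicValNat 2 n.factorial + q.bitIndices.length = n / 2 + n / 4 + q := by
    have h1 := AltSylow.val_factorial_four n
    have h2 := AltSylow.val_factorial_add_length q
    rw [← hq] at h1 ⊢
    omega
  have hE := AltSylow.sum_exponent q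
  have hS := AltSylow.sum_pow_kq q
  have hk := AltSylow.two_le_kq q
  by_cases hr : n % 4 = 2 ∨ n % 4 = 3
  · obtain ⟨e⟩ := AltSylow.sylow_iso (AltSylow.kq q) (r := n % 4) (by omega) ⊤ (by omega)
      ((AltSylow.flipHom (⟨0, by omega⟩ : Fin (n % 4)) ⟨1, by omega⟩).comp
        ((AltSylow.tot (AltSylow.kq q)).comp (Subgroup.subtype _)))
      (fun h => AltSylow.sign_flipHom (by simp [Fin.ext_iff]) _)
      (by rw [Subgroup.card_top, AltSylow.card_PW, ← pow_succ]; congr 1; omega) P
    have hiff : AltSylow.Dec ↥(P : Subgroup (alternatingGroup (Fin n))) ↔ AltSylow.Dec (AltSylow.PW (AltSylow.kq q)) :=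
      ⟨fun h => h.of_equiv (e.symm.trans Subgroup.topEquiv),
       fun h => h.of_equiv (Subgroup.topEquiv.symm.trans e)⟩
    rw [hiff, AltSylow.dec_PW _ hk i₀, hpow]
    constructor
    · rintro ⟨j, hj⟩
      refine Or.inr (Or.inr ⟨hr, ?_⟩)
      have := Fintype.one_lt_card_iff.2 ⟨j, i₀, hj⟩
      rwa [AltSylow.card_dig] at this
    · rintro (h | h | ⟨-, h⟩)
      · omega
      · omega
      · exact Fintype.exists_ne_of_one_lt_card (by rw [AltSylow.card_dig]; omega) i₀
  · have hker := AltSylow.card_ker_tot (AltSylow.kq q) i₀ (le_of_lt (hk i₀))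
    obtain ⟨e⟩ := AltSylow.sylow_iso (AltSylow.kq q) (r := n % 4) (by omega) (AltSylow.tot (AltSylow.kq q)).ker
      (by omega) 1 (fun h => by rw [MonoidHom.one_apply, map_one]; exact (MonoidHom.mem_ker.1 h.2).symm)
      (by rw [hker, AltSylow.card_PW]; congr 1; omega) P
    have hiff : AltSylow.Dec ↥(P : Subgroup (alternatingGroup (Fin n))) ↔
        AltSylow.Dec (AltSylow.tot (AltSylow.kq q)).ker :=
      ⟨fun h => h.of_equiv e.symm, fun h => h.of_equiv e⟩
    rw [hiff]
    constructor
    · intro h
      by_contra hne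
      refine AltSylow.not_dec_ker _ hk i₀ (fun hu => ?_) h
      by_contra h3
      have hk2 : AltSylow.kq q i₀ = 2 := by have := hk i₀; omega
      have huniv : (Finset.univ : Finset (AltSylow.Dig q)) = {i₀} :=
        Finset.eq_singleton_iff_unique_mem.2 ⟨Finset.mem_univ _, fun j _ => hu j⟩
      rw [huniv, Finset.sum_singleton, hk2] at hS
      exact hne (by omega)
    · intro h
      have h45 : n = 4 ∨ n = 5 := by
        rcases h with h | h | ⟨h, -⟩
        · exact Or.inl h
        · exact Or.inr h
        · exact absurd h hr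
      have hqe : q = 1 := by omega
      have hlen : q.bitIndices.length = 1 := by rw [hqe, Nat.bitIndices_one]; rfl
      have huniq : ∀ j : AltSylow.Dig q, j = i₀ := fun j =>
        Fintype.card_le_one_iff.1 (by rw [AltSylow.card_dig, hlen]) j i₀
      have hki : ∀ j : AltSylow.Dig q, AltSylow.kq q j = 2 := by
        intro j
        have hj := j.2
        rw [List.mem_toFinset] at hj
        have := Nat.two_pow_le_of_mem_bitIndices hj
        have h0 : (j : ℕ) = 0 := by
          by_contra h0
          have := Nat.one_lt_pow h0 (by norm_num : 1 < 2)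
          omega
        show (j : ℕ) + 2 = 2
        omega
      refine dec_of_sq ?_ fun x => ?_
      · have huniv : (Finset.univ : Finset (AltSylow.Dig q)) = {i₀} :=
          Finset.eq_singleton_iff_unique_mem.2 ⟨Finset.mem_univ _, fun j _ => huniq j⟩
        rw [AltSylow.card_PW, huniv, Finset.sum_singleton, hki i₀] at hker
        rw [show (2 : ℕ) ^ (2 ^ 2 - 1) = 8 from rfl] at hker
        omega
      · refine Subtype.ext (funext fun j => ?_)
        have hs : AltSylow.sgn (AltSylow.kq q j) ((x : AltSylow.PW (AltSylow.kq q)) j) = 1 := by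
          have h1 : ∏ l, AltSylow.sgn (AltSylow.kq q l) ((x : AltSylow.PW (AltSylow.kq q)) l) = 1 := x.2
          rwa [Finset.prod_eq_single j (fun l _ hl => absurd ((huniq l).trans (huniq j).symm) hl)
            (fun h => absurd (Finset.mem_univ j) h)] at h1
        show (x : AltSylow.PW (AltSylow.kq q)) j * (x : AltSylow.PW (AltSylow.kq q)) j = 1
        revert hs
        generalize (x : AltSylow.PW (AltSylow.kq q)) j = w
        revert w
        rw [hki j]
        exact sq_eq_one


end Cfsg.Agent.S2221
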