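import Cfsg.Statements.S2222
import Cfsg.Agent.SymSylow.Alt

set_option autoImplicit false
open Cfsg

namespace Cfsg.Agent.S2222

theorem conj_map_eq {G : Type*} [Group G] (H : Subgroup G) (x g : G) (h : x⁻¹ * g ∈ H) :
    H.map (MulAut.conj g).toMonoidHom = H.map (MulAut.conj x).toMonoidHom := by
  have e : g = x * (x⁻¹ * g) := by group
  rw [e]
  ext y
  simp only [Subgroup.mem_map, MulEquiv.coe_toMonoidHom, MulAut.conj_apply]
  constructor
  · rintro ⟨z, hz, rfl⟩
    exact ⟨(x⁻¹ * g) * z * (x⁻¹ * g)⁻¹, H.mul_mem (H.mul_mem h hz) (H.inv_mem h), by group⟩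
  · rintro ⟨z, hz, rfl⟩
    exact ⟨(x⁻¹ * g)⁻¹ * z * (x⁻¹ * g), H.mul_mem (H.mul_mem (H.inv_mem h) hz) h, by group⟩

theorem exists_conj_sylow {G : Type*} [Group G] [Finite G] {p : ℕ} [Fact p.Prime] (H : Subgroup G)
    (P : Sylow p G) (hP : (P : Subgroup G) ≤ H) (g : G) :
    ∃ x ∈ H ⊔ H.map (MulAut.conj g).toMonoidHom,
      x⁻¹ * g ∈ Subgroup.normalizer ((P : Subgroup G) : Set G) := by
  set J := H ⊔ H.map (MulAut.conj g).toMonoidHom with hJ
  have h1 : (P : Subgroup G) ≤ J := hP.trans le_sup_left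
  have h2 : ((g • P : Sylow p G) : Subgroup G) ≤ J := by
    intro y hy
    refine (le_sup_right : H.map (MulAut.conj g).toMonoidHom ≤ J) ?_
    rw [Sylow.coe_subgroup_smul, Subgroup.mem_pointwise_smul_iff_inv_smul_mem] at hy
    refine ⟨(MulAut.conj g)⁻¹ • y, hP hy, ?_⟩
    simp [MulAut.smul_def, mul_assoc]
  obtain ⟨x, hx⟩ := MulAction.exists_smul_eq J (P.subtype h1) ((g • P).subtype h2)
  refine ⟨x.1, x.2, ?_⟩
  rw [Sylow.smul_subtype h1 x] at hx
  have h3 : x.1 • P = g • P := Sylow.subtype_injective hx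
  exact Sylow.smul_eq_iff_mem_normalizer.1 (by rw [mul_smul, ← h3, inv_smul_smul])

theorem pronormal_of_sylow {G : Type*} [Group G] [Finite G] {p : ℕ} [Fact p.Prime] (P : Sylow p G) :
    Cfsg.IsPronormal (P : Subgroup G) := by
  intro g
  obtain ⟨x, hx, hxg⟩ := exists_conj_sylow (P : Subgroup G) P le_rfl g
  refine ⟨x, hx, ?_⟩
  ext y
  simp only [Subgroup.mem_map, MulEquiv.coe_toMonoidHom, MulAut.conj_apply]
  rw [Subgroup.mem_normalizer_iff] at hxg
  constructor
  · rintro ⟨z, hz, rfl⟩
    exact ⟨(x⁻¹ * g) * z * (x⁻¹ * g)⁻¹, (hxg z).1 hz, by group⟩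
  · rintro ⟨z, hz, rfl⟩
    refine ⟨(x⁻¹ * g)⁻¹ * z * (x⁻¹ * g), (hxg _).2 ?_, by group⟩
    convert hz using 1
    group

theorem pronormal_of_prime_index {G : Type*} [Group G] [Finite G] (H : Subgroup G) (h : H.index.Prime) :
    Cfsg.IsPronormal H := by
  intro g
  rcases h.eq_one_or_self_of_dvd _ (Subgroup.index_dvd_of_le
    (le_sup_left : H ≤ H ⊔ H.map (MulAut.conj g).toMonoidHom)) with h1 | h1
  · rw [Subgroup.index_eq_one] at h1
    exact ⟨g, by rw [h1]; exact Subgroup.mem_top _, rfl⟩
  · refine ⟨1, Subgroup.one_mem _, ?_⟩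
    have h2 : H = H ⊔ H.map (MulAut.conj g).toMonoidHom := by
      refine Subgroup.eq_of_le_of_card_ge le_sup_left ?_
      have a := H.index_mul_card
      have b := (H ⊔ H.map (MulAut.conj g).toMonoidHom).index_mul_card
      rw [h1] at b
      exact le_of_eq (Nat.eq_of_mul_eq_mul_left h.pos (b.trans a.symm))
    have h3 : H.map (MulAut.conj g).toMonoidHom ≤ H := le_trans le_sup_right (le_of_eq h2.symm)
    have h4 : H.map (MulAut.conj g).toMonoidHom = H := by
      refine Subgroup.eq_of_le_of_card_ge h3 ?_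
      rw [Subgroup.card_map_of_injective (MulAut.conj g).injective]
    rw [h4]
    ext y
    simp


/-- In the alternating group of degree n ≥ 5 every subgroup H of odd index is pronormal: for every element g, the subgroups H and gHg⁻¹ are conjugate by an element of the subgroup they generate. -/
theorem result (n : ℕ) (hn : 5 ≤ n)
    (H : Subgroup (alternatingGroup (Fin n))) (hH : Odd H.index) : Cfsg.IsPronormal H := by
  haveI : Fact (Nat.Prime 2) := ⟨Nat.prime_two⟩
  obtain ⟨P₀⟩ : Nonempty (Sylow 2 H) := inferInstance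
  obtain ⟨P, hP⟩ := (P₀.2.map H.subtype).exists_le_sylow
  have hle : (P : Subgroup (alternatingGroup (Fin n))) ≤ H := by
    have h1 : Nat.card ((P₀ : Subgroup H).map H.subtype) = Nat.card (P : Subgroup (alternatingGroup (Fin n))) := by
      rw [Subgroup.card_map_of_injective (Subgroup.subtype_injective _), P₀.card_eq_multiplicity, P.card_eq_multiplicity,
        ← H.index_mul_card, Nat.factorization_mul Subgroup.index_ne_zero_of_finite Nat.card_pos.ne', Finsupp.add_apply,
        Nat.factorization_eq_zero_of_not_dvd (show ¬ 2 ∣ H.index by rcases hH with ⟨k, hk⟩; omega), zero_add]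
    rw [← Subgroup.eq_of_le_of_card_ge hP h1.ge]
    exact Subgroup.map_subtype_le _
  by_cases h6 : 6 ≤ n
  · intro g
    obtain ⟨x, hx, hxg⟩ := exists_conj_sylow H P hle g
    rw [Cfsg.Agent.SymSylow.normalizer_sylow_alt h6 P] at hxg
    exact ⟨x, hx, conj_map_eq H x g (hle hxg)⟩
  · obtain rfl : n = 5 := by omega
    haveI : Nontrivial (Fin 5) := inferInstance
    have hcard : Nat.card (alternatingGroup (Fin 5)) = 60 := by
      rw [nat_card_alternatingGroup, Nat.card_fin]; rfl
    have hP4 : Nat.card (P : Subgroup (alternatingGroup (Fin 5))) = 4 := by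
      rw [P.card_eq_multiplicity, hcard]
      rw [show (60 : ℕ) = 2 ^ 2 * 15 by norm_num, Nat.factorization_mul (by norm_num) (by norm_num),
        Finsupp.add_apply, Nat.Prime.factorization_pow Nat.prime_two, Finsupp.single_eq_same,
        Nat.factorization_eq_zero_of_not_dvd (by norm_num : ¬ 2 ∣ 15), add_zero]
      norm_num
    have hmul := H.index_mul_card
    rw [hcard] at hmul
    obtain ⟨k, hk⟩ := hP4 ▸ Subgroup.card_dvd_of_le hle
    rw [hk] at hmul
    have hdvd : H.index ∣ 15 := ⟨k, by linarith⟩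
    have h15 := Nat.le_of_dvd (by norm_num) hdvd
    have : H.index = 1 ∨ H.index = 3 ∨ H.index = 5 ∨ H.index = 15 := by
      interval_cases h : H.index <;> omega
    rcases this with h | h | h | h
    · intro g
      rw [Subgroup.index_eq_one] at h
      exact ⟨g, by simp [h], rfl⟩
    · exact pronormal_of_prime_index H (by rw [h]; norm_num)
    · exact pronormal_of_prime_index H (by rw [h]; norm_num)
    · rw [h] at hmul
      have : (P : Subgroup (alternatingGroup (Fin 5))) = H :=
        Subgroup.eq_of_le_of_card_ge hle (by omega)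
      exact this ▸ pronormal_of_sylow P

end Cfsg.Agent.S2222
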