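import Cfsg.Statements.S2225
import Cfsg.Agent.OddIndex.EvenField
import Cfsg.Agent.OddIndex.SL2Case

set_option autoImplicit false
open Cfsg

namespace Cfsg.Agent.S2225

/-- Let F be a finite field and d = 2^w ≥ 2 a power of 2 such that PSL_d(F) is simple. Then every subgroup H of PSL_d(F) of odd index is pronormal: for every g, H and gHg⁻¹ are conjugate by an element of the subgroup they generate. -/
theorem result {F : Type*} [Field F] [Fintype F]
    (w : ℕ) (hw : 1 ≤ w) (hs : IsSimpleGroup (Matrix.ProjectiveSpecialLinearGroup (Fin (2 ^ w)) F))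
    (H : Subgroup (Matrix.ProjectiveSpecialLinearGroup (Fin (2 ^ w)) F)) (hH : Odd H.index) : Cfsg.IsPronormal H := by
  haveI : Fact (Nat.Prime 2) := ⟨Nat.prime_two⟩
  apply OddIndex.pronormal_map (QuotientGroup.mk' (Subgroup.center (Matrix.SpecialLinearGroup (Fin (2 ^ w)) F)))
    (QuotientGroup.mk'_surjective _)
  set f := QuotientGroup.mk' (Subgroup.center (Matrix.SpecialLinearGroup (Fin (2 ^ w)) F)) with hf
  have hodd : ¬ 2 ∣ (H.comap f).index := by
    rw [Subgroup.index_comap_of_surjective _ (QuotientGroup.mk'_surjective _)]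
    exact hH.not_two_dvd_nat
  by_cases h2 : (2 : F) = 0
  · haveI : CharP F 2 := CharTwo.of_one_ne_zero_of_two_eq_zero one_ne_zero h2
    exact OddIndex.pronormal_even _ hodd
  rcases (by omega : w = 1 ∨ 2 ≤ w) with rfl | hw2
  · exact OddIndex.pronormal_sl2 h2 _ hodd
  obtain ⟨P, hP⟩ := OddIndex.exists_sylow_le (H.comap f) hodd
  refine OddIndex.pronormal_of_normalizer _ P hP fun g hg => ⟨1, one_mem _, ?_⟩
  obtain ⟨t, ht, z, hz, rfl⟩ := OddIndex.exists_mul_of_normalizes P
    (Subgroup.center (Matrix.SpecialLinearGroup (Fin (2 ^ w)) F))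
    (OddIndex.odd_normalizer_sl h2 hw2 P) (g := g) fun s hs => ((Subgroup.mem_normalizer_iff.1 hg) s).1 hs
  have htz : t * z ∈ H.comap f := mul_mem (hP ht) (by
    show f z ∈ H
    rw [show f z = 1 from (QuotientGroup.eq_one_iff z).2 hz]
    exact one_mem H)
  rw [OddIndex.map_conj_eq_self _ (fun y hy => mul_mem (mul_mem htz hy) (inv_mem htz))]
  exact (OddIndex.map_conj_eq_self _ fun y hy => by simpa using hy).symm

end Cfsg.Agent.S2225
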