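import Cfsg.Statements.S2226
import Cfsg.Agent.OddIndex.UnitaryEven
import Cfsg.Agent.OddIndex.UnitaryOdd

set_option autoImplicit false
open Cfsg

namespace Cfsg.Agent.S2226

/-- Let F be a finite field with q² elements and d = 2^w ≥ 4 a power of 2 such that the unitary group PSU_d(q) (realised over F) is simple. Then every subgroup H of PSU_d(q) of odd index is pronormal: for every g, H and gHg⁻¹ are conjugate by an element of the subgroup they generate. -/
theorem result {F : Type*} [Field F] [Fintype F] (q : ℕ)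
    (hF : Fintype.card F = q ^ 2) (w : ℕ) (hw : 2 ≤ w) (hs : IsSimpleGroup (Cfsg.PSU (2 ^ w) F q))
    (H : Subgroup (Cfsg.PSU (2 ^ w) F q)) (hH : Odd H.index) : Cfsg.IsPronormal H := by
  haveI : Fact (Nat.Prime 2) := ⟨Nat.prime_two⟩
  obtain ⟨σ, hσq, hσ, hq, hq1⟩ := Classical.exists_powHom hF
  apply OddIndex.pronormal_map (QuotientGroup.mk' (Subgroup.center (Cfsg.SU (2 ^ w) F q)))
    (QuotientGroup.mk'_surjective _)
  set f := QuotientGroup.mk' (Subgroup.center (Cfsg.SU (2 ^ w) F q)) with hf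
  have hodd : ¬ 2 ∣ (H.comap f).index := by
    rw [Subgroup.index_comap_of_surjective _ (QuotientGroup.mk'_surjective _)]
    exact hH.not_two_dvd_nat
  by_cases h2 : (2 : F) = 0
  · haveI : CharP F 2 := CharTwo.of_one_ne_zero_of_two_eq_zero one_ne_zero h2
    exact OddIndex.pronormal_su_even hσ hσq (m := 2 ^ (w - 1))
      (by rw [← pow_succ', Nat.sub_add_cancel (le_of_lt hw)]) _ hodd
  obtain ⟨P, hP⟩ := OddIndex.exists_sylow_le (H.comap f) hodd
  refine OddIndex.pronormal_of_normalizer _ P hP fun g hg => ⟨1, one_mem _, ?_⟩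
  obtain ⟨t, ht, z, hz, rfl⟩ := OddIndex.exists_mul_of_normalizes P (Subgroup.center (Cfsg.SU (2 ^ w) F q))
    (OddIndex.odd_normalizer_su σ h2 hσ hσq hw P) (g := g) fun s hs => ((Subgroup.mem_normalizer_iff.1 hg) s).1 hs
  have htz : t * z ∈ H.comap f := mul_mem (hP ht) (by
    show f z ∈ H
    rw [show f z = 1 from (QuotientGroup.eq_one_iff z).2 hz]
    exact one_mem H)
  rw [OddIndex.map_conj_eq_self _ (fun y hy => mul_mem (mul_mem htz hy) (inv_mem htz))]
  exact (OddIndex.map_conj_eq_self _ fun y hy => by simpa using hy).symm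

end Cfsg.Agent.S2226
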