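import Cfsg.Statements.S2231
-- import your own Cfsg.Agent.* helpers here

import Cfsg.Agent.SL2Class.PSL
import Cfsg.Agent.Classical.SL2Gen

set_option autoImplicit false
open Cfsg

namespace Cfsg.Agent.S2231

open Matrix SL2Class


/-- Let p be an odd prime and K a finite field of characteristic p. Then Qd(p) (the natural semidirect product of an elementary abelian group of order p² by SL₂(p)) is not involved in the projective special linear group PSL₂(K). -/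
theorem result {p : ℕ} [Fact p.Prime] (hp : p ≠ 2) {K : Type*} [Field K] [Fintype K] [CharP K p] : ¬ Cfsg.Involves ↥(Cfsg.qd p) (Matrix.ProjectiveSpecialLinearGroup (Fin 2) K) := by
  classical
  rintro ⟨G, R, hR, ⟨e⟩⟩
  have hab : ∀ P : Sylow p (Matrix.ProjectiveSpecialLinearGroup (Fin 2) K), ∀ a ∈ P, ∀ b ∈ P, a * b = b * a := by
    intro P a ha b hb
    obtain ⟨P₀, hP₀⟩ := Classical.exists_sylow_rootSL (F := K) p
    obtain ⟨g, rfl⟩ := MulAction.exists_smul_eq (Matrix.ProjectiveSpecialLinearGroup (Fin 2) K)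
      (P₀.mapSurjective (proj_surjective (F := K))) P
    obtain ⟨a', ha', rfl⟩ := ha
    obtain ⟨b', hb', rfl⟩ := hb
    show g * a' * g⁻¹ * (g * b' * g⁻¹) = g * b' * g⁻¹ * (g * a' * g⁻¹)
    suffices a' * b' = b' * a' by
      calc g * a' * g⁻¹ * (g * b' * g⁻¹) = g * (a' * b') * g⁻¹ := by group
        _ = g * (b' * a') * g⁻¹ := by rw [this]
        _ = g * b' * g⁻¹ * (g * a' * g⁻¹) := by group
    have h1 : a' ∈ ((P₀.mapSurjective (proj_surjective (F := K)) : Sylow p _) : Subgroup _) := ha'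
    have h2 : b' ∈ ((P₀.mapSurjective (proj_surjective (F := K)) : Sylow p _) : Subgroup _) := hb'
    rw [Sylow.coe_mapSurjective, hP₀] at h1 h2
    obtain ⟨_, ⟨c, rfl⟩, rfl⟩ := h1
    obtain ⟨_, ⟨d, rfl⟩, rfl⟩ := h2
    rw [← map_mul, ← map_mul, ← map_mul, ← map_mul, mul_comm c d]
  have hp2 := (Fact.out : p.Prime).two_le
  let a₀ : (Matrix.SpecialLinearGroup (Fin 3) (ZMod p)) := ⟨!![1, 0, 0; 0, 1, 1; 0, 0, 1], by simp [Matrix.det_fin_three]⟩
  let b₀ : (Matrix.SpecialLinearGroup (Fin 3) (ZMod p)) := ⟨!![1, 1, 0; 0, 1, 0; 0, 0, 1], by simp [Matrix.det_fin_three]⟩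
  have hqd : ∀ M : (Matrix.SpecialLinearGroup (Fin 3) (ZMod p)), (M : Matrix (Fin 3) (Fin 3) (ZMod p)) 2 0 = 0 → (M : Matrix (Fin 3) (Fin 3) (ZMod p)) 2 1 = 0 →
      (M : Matrix (Fin 3) (Fin 3) (ZMod p)) 2 2 = 1 → M ∈ Cfsg.qd p := fun M h0 h1 h2 =>
    Subgroup.subset_closure ⟨h0, h1, h2⟩
  let U : Subgroup (Matrix.SpecialLinearGroup (Fin 3) (ZMod p)) :=
    { carrier := {M | (M : Matrix (Fin 3) (Fin 3) (ZMod p)) 2 0 = 0 ∧ (M : Matrix (Fin 3) (Fin 3) (ZMod p)) 2 1 = 0 ∧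
        (M : Matrix (Fin 3) (Fin 3) (ZMod p)) 1 0 = 0 ∧ (M : Matrix (Fin 3) (Fin 3) (ZMod p)) 0 0 = 1 ∧
        (M : Matrix (Fin 3) (Fin 3) (ZMod p)) 1 1 = 1 ∧ (M : Matrix (Fin 3) (Fin 3) (ZMod p)) 2 2 = 1}
      one_mem' := by simp
      mul_mem' := by
        rintro A B ⟨a1, a2, a3, a4, a5, a6⟩ ⟨b1, b2, b3, b4, b5, b6⟩
        simp [Matrix.SpecialLinearGroup.coe_mul, Matrix.mul_apply, Fin.sum_univ_three, a1, a2, a3, a4, a5, a6,
          b1, b2, b3, b4, b5, b6]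
      inv_mem' := by
        rintro A ⟨a1, a2, a3, a4, a5, a6⟩
        simp [Matrix.SpecialLinearGroup.coe_inv, Matrix.adjugate_fin_three, a1, a2, a3, a4, a5, a6] }
  have hU : IsPGroup p U := by
    rintro ⟨M, h1, h2, h3, h4, h5, h6⟩
    refine ⟨1, Subtype.ext (Subtype.ext ?_)⟩
    simp only [pow_one, SubmonoidClass.coe_pow, Matrix.SpecialLinearGroup.coe_pow, OneMemClass.coe_one,
      Matrix.SpecialLinearGroup.coe_one]
    set A : Matrix (Fin 3) (Fin 3) (ZMod p) := (M : Matrix (Fin 3) (Fin 3) (ZMod p))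
    have hN3 : (A - 1) ^ 3 = 0 := by
      rw [pow_succ, pow_two]
      ext i j
      fin_cases i <;> fin_cases j <;>
        simp [Matrix.mul_apply, Fin.sum_univ_three, h1, h2, h3, h4, h5, h6]
    have hp3 : 3 ≤ p := by omega
    have e2 : (A - 1) ^ p = 0 := pow_eq_zero_of_le hp3 hN3
    have e3 : (A - 1) ^ p = A ^ p - 1 := by
      have := Commute.add_pow_prime_eq (x := A - 1) (y := 1) (Fact.out : p.Prime) (Commute.one_right _)
      rw [sub_add_cancel, one_pow, e2, zero_add] at this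
      rw [e2, this]
      rw [show ((p : Matrix (Fin 3) (Fin 3) (ZMod p))) = 0 from CharP.cast_eq_zero _ p]
      simp
    rw [e2] at e3
    exact sub_eq_zero.1 e3.symm
  let π : ↥G →* ↥(Cfsg.qd p) := e.toMonoidHom.comp (QuotientGroup.mk' (R.subgroupOf G))
  have hπ : Function.Surjective π := e.surjective.comp (QuotientGroup.mk'_surjective _)
  haveI : Finite (Matrix.ProjectiveSpecialLinearGroup (Fin 2) K) := Finite.of_surjective _ (proj_surjective (F := K))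
  obtain ⟨T, hT⟩ := (hU.comap_of_injective (Cfsg.qd p).subtype Subtype.val_injective).exists_le_sylow
  obtain ⟨u, rfl⟩ := MulAction.exists_smul_eq ↥(Cfsg.qd p) ((default : Sylow p ↥G).mapSurjective hπ) T
  obtain ⟨v, rfl⟩ := hπ u
  obtain ⟨P, hP⟩ := ((v • (default : Sylow p ↥G) : Sylow p ↥G).isPGroup'.map G.subtype).exists_le_sylow
  have ha : (⟨a₀, hqd a₀ rfl rfl rfl⟩ : ↥(Cfsg.qd p)) ∈ (U.comap (Cfsg.qd p).subtype) :=
    ⟨rfl, rfl, rfl, rfl, rfl, rfl⟩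
  have hb : (⟨b₀, hqd b₀ rfl rfl rfl⟩ : ↥(Cfsg.qd p)) ∈ (U.comap (Cfsg.qd p).subtype) :=
    ⟨rfl, rfl, rfl, rfl, rfl, rfl⟩
  have hlift : ∀ z ∈ U.comap (Cfsg.qd p).subtype, ∃ w : ↥G,
      (w : Matrix.ProjectiveSpecialLinearGroup (Fin 2) K) ∈ P ∧ π w = z := by
    intro z hz
    obtain ⟨y, hy, hyz⟩ := hT hz
    have hy' : y ∈ (((default : Sylow p ↥G).mapSurjective hπ : Sylow p _) : Subgroup _) := hy
    rw [Sylow.coe_mapSurjective] at hy'
    obtain ⟨w, hw, rfl⟩ := hy'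
    exact ⟨v * w * v⁻¹, hP ⟨v * w * v⁻¹, ⟨w, hw, by simp⟩, rfl⟩, by rw [← hyz]; simp⟩
  obtain ⟨wa, hwa, hwa'⟩ := hlift _ ha
  obtain ⟨wb, hwb, hwb'⟩ := hlift _ hb
  have hcomm : wa * wb = wb * wa := Subtype.ext (hab P _ hwa _ hwb)
  have e1 := congrArg (fun w => (((π w : ↥(Cfsg.qd p)) : (Matrix.SpecialLinearGroup (Fin 3) (ZMod p))) : Matrix (Fin 3) (Fin 3) (ZMod p)) 0 2) hcomm
  simp only [map_mul, hwa', hwb'] at e1
  have e2 : (HMul.hMul (!![1, 0, 0; 0, 1, 1; 0, 0, 1] : Matrix (Fin 3) (Fin 3) (ZMod p)) (!![1, 1, 0; 0, 1, 0; 0, 0, 1] : Matrix (Fin 3) (Fin 3) (ZMod p)) : Matrix (Fin 3) (Fin 3) (ZMod p)) 0 2 =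
      (HMul.hMul (!![1, 1, 0; 0, 1, 0; 0, 0, 1] : Matrix (Fin 3) (Fin 3) (ZMod p)) (!![1, 0, 0; 0, 1, 1; 0, 0, 1] : Matrix (Fin 3) (Fin 3) (ZMod p)) : Matrix (Fin 3) (Fin 3) (ZMod p)) 0 2 := e1
  simp [Matrix.mul_apply, Fin.sum_univ_three] at e2

end Cfsg.Agent.S2231
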