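import Mathlib
import Cfsg.Statements.S2232

set_option autoImplicit false
set_option linter.style.haveILetI false
open Cfsg Matrix

namespace Cfsg.Agent.S2232

/-! ### `Qd(p)` -/

section Qd

variable {p : ℕ} [Fact p.Prime]

theorem qd_row {M : Matrix.SpecialLinearGroup (Fin 3) (ZMod p)} (hM : M ∈ Cfsg.qd p) :
    (M : Matrix (Fin 3) (Fin 3) (ZMod p)) 2 0 = 0 ∧ (M : Matrix (Fin 3) (Fin 3) (ZMod p)) 2 1 = 0 ∧
      (M : Matrix (Fin 3) (Fin 3) (ZMod p)) 2 2 = 1 := by
  induction hM using Subgroup.closure_induction with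
  | mem x hx => exact hx
  | one => simp
  | mul x y _ _ hx hy =>
    refine ⟨?_, ?_, ?_⟩ <;>
      simp [Matrix.SpecialLinearGroup.coe_mul, Matrix.mul_apply, Fin.sum_univ_three, hx.1, hx.2.1,
        hx.2.2, hy.1, hy.2.1, hy.2.2]
  | inv x _ hx =>
    have h : (x : Matrix (Fin 3) (Fin 3) (ZMod p)) *
        ((x⁻¹ : Matrix.SpecialLinearGroup (Fin 3) (ZMod p)) : Matrix (Fin 3) (Fin 3) (ZMod p)) = 1 := by
      rw [← Matrix.SpecialLinearGroup.coe_mul, mul_inv_cancel, Matrix.SpecialLinearGroup.coe_one]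
    refine ⟨?_, ?_, ?_⟩
    · have := congrFun (congrFun h 2) 0
      simpa [Matrix.mul_apply, Fin.sum_univ_three, hx.1, hx.2.1, hx.2.2] using this
    · have := congrFun (congrFun h 2) 1
      simpa [Matrix.mul_apply, Fin.sum_univ_three, hx.1, hx.2.1, hx.2.2] using this
    · have := congrFun (congrFun h 2) 2
      simpa [Matrix.mul_apply, Fin.sum_univ_three, hx.1, hx.2.1, hx.2.2] using this

/-- The upper left block. -/
def block : ↥(Cfsg.qd p) →* Matrix (Fin 2) (Fin 2) (ZMod p) where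
  toFun M := Matrix.of fun i j =>
    ((M : Matrix.SpecialLinearGroup (Fin 3) (ZMod p)) : Matrix (Fin 3) (Fin 3) (ZMod p))
      i.castSucc j.castSucc
  map_one' := by
    ext i j
    fin_cases i <;> fin_cases j <;> simp
  map_mul' M N := by
    have hN := qd_row N.2
    ext i j
    fin_cases i <;> fin_cases j <;>
      simp [Matrix.SpecialLinearGroup.coe_mul, Matrix.mul_apply, Fin.sum_univ_three,
        Fin.sum_univ_two, hN.1, hN.2.1]

theorem ker_pow {M : ↥(Cfsg.qd p)} (hM : M ∈ (block (p := p)).ker) : M ^ p = 1 := by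
  have hb : block M = 1 := hM
  have h00 := congrFun (congrFun hb 0) 0
  have h01 := congrFun (congrFun hb 0) 1
  have h10 := congrFun (congrFun hb 1) 0
  have h11 := congrFun (congrFun hb 1) 1
  simp [block] at h00 h01 h10 h11
  have hr := qd_row M.2
  obtain ⟨A, hA⟩ : ∃ A, A = ((M : Matrix.SpecialLinearGroup (Fin 3) (ZMod p)) :
      Matrix (Fin 3) (Fin 3) (ZMod p)) := ⟨_, rfl⟩
  rw [← hA] at h00 h01 h10 h11 hr
  have hsq : (A - 1) * (A - 1) = 0 := by
    ext i j
    fin_cases i <;> fin_cases j <;>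
      simp [Matrix.mul_apply, Fin.sum_univ_three, h00, h01, h10, h11, hr.1, hr.2.1, hr.2.2]
  apply Subtype.ext
  apply Subtype.ext
  show ((((M ^ p : ↥(Cfsg.qd p))) : Matrix.SpecialLinearGroup (Fin 3) (ZMod p)) :
      Matrix (Fin 3) (Fin 3) (ZMod p)) = 1
  rw [Subgroup.coe_pow, Matrix.SpecialLinearGroup.coe_pow, ← hA, ← sub_eq_zero]
  have h1 : (A - 1) ^ p = A ^ p - 1 ^ p := sub_pow_char_of_commute _ (Commute.one_right A)
  rw [one_pow] at h1
  rw [← h1]
  exact pow_eq_zero_of_le (Fact.out : p.Prime).two_le (by rw [pow_two]; exact hsq)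

/-- A transvection in `Qd(p)`. -/
def tv (i j : Fin 3) (hij : i ≠ j) (hi : i ≠ 2) : ↥(Cfsg.qd p) :=
  ⟨⟨Matrix.transvection i j 1, Matrix.det_transvection_of_ne i j hij 1⟩,
    Subgroup.subset_closure (by
      refine ⟨?_, ?_, ?_⟩ <;>
        simp [Matrix.transvection, Matrix.single_apply, hi])⟩

theorem tv_pow (i j : Fin 3) (hij : i ≠ j) (hi : i ≠ 2) : (tv (p := p) i j hij hi) ^ p = 1 := by
  apply Subtype.ext
  apply Subtype.ext
  show ((((tv (p := p) i j hij hi ^ p : ↥(Cfsg.qd p))) : Matrix.SpecialLinearGroup (Fin 3) (ZMod p)) :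
      Matrix (Fin 3) (Fin 3) (ZMod p)) = 1
  rw [Subgroup.coe_pow, Matrix.SpecialLinearGroup.coe_pow]
  show Matrix.transvection i j (1 : ZMod p) ^ p = 1
  have h2 : (Matrix.transvection i j (1 : ZMod p) - 1) * (Matrix.transvection i j 1 - 1) = 0 := by
    rw [Matrix.transvection, add_sub_cancel_left, Matrix.single_mul_single_of_ne _ _ _ _ hij.symm]
  have h1 : (Matrix.transvection i j (1 : ZMod p) - 1) ^ p = Matrix.transvection i j 1 ^ p - 1 ^ p :=
    sub_pow_char_of_commute _ (Commute.one_right _)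
  rw [one_pow] at h1
  rw [← sub_eq_zero, ← h1]
  exact pow_eq_zero_of_le (Fact.out : p.Prime).two_le (by rw [pow_two]; exact h2)

end Qd

/-! ### `p`-elements normalising a `p`-subgroup of the unitary group -/

theorem exists_fixed_vector {p : ℕ} [Fact p.Prime] {G M : Type*} [Group G] [AddCommGroup M]
    [DistribMulAction G M] [Finite M] (hG : IsPGroup p G) (hM : p ∣ Nat.card M) :
    ∃ x : M, x ≠ 0 ∧ ∀ g : G, g • x = x := by
  obtain ⟨x, hx, hne⟩ := hG.exists_fixed_point_of_prime_dvd_card_of_fixed_point M hM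
    (a := (0 : M)) (fun g => smul_zero g)
  exact ⟨x, fun h => hne h.symm, hx⟩

section Unitary

variable {K : Type*} [Field K] [Fintype K] {p : ℕ} [Fact p.Prime] [CharP K p] {n : ℕ}

/-- The matrix of an element of the unitary group. -/
abbrev um (g : ↥(Cfsg.SU 3 K (p ^ n))) : Matrix (Fin 3) (Fin 3) K :=
  ((g : Matrix.SpecialLinearGroup (Fin 3) K) : Matrix (Fin 3) (Fin 3) K)

omit [Fintype K] [Fact p.Prime] [CharP K p] in
theorem um_form (g : ↥(Cfsg.SU 3 K (p ^ n))) (u v : Fin 3 → K) :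
    Cfsg.hermForm 3 K (p ^ n) (um g *ᵥ u) (um g *ᵥ v) = Cfsg.hermForm 3 K (p ^ n) u v :=
  g.2 u v

omit [Fintype K] [Fact p.Prime] [CharP K p] in
theorem um_mul (g h : ↥(Cfsg.SU 3 K (p ^ n))) (x : Fin 3 → K) :
    um (g * h) *ᵥ x = um g *ᵥ (um h *ᵥ x) := by
  rw [Matrix.mulVec_mulVec]
  rfl

omit [Fintype K] [Fact p.Prime] [CharP K p] in
theorem um_one (x : Fin 3 → K) : um (1 : ↥(Cfsg.SU 3 K (p ^ n))) *ᵥ x = x := by
  show (1 : Matrix (Fin 3) (Fin 3) K) *ᵥ x = x
  rw [Matrix.one_mulVec]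

omit [Fintype K] [Fact p.Prime] [CharP K p] in
theorem eq_one_of_fix (g : ↥(Cfsg.SU 3 K (p ^ n))) (h : ∀ x, um g *ᵥ x = x) : g = 1 := by
  apply Subtype.ext
  apply Subtype.ext
  show um g = 1
  exact Matrix.ext_iff_mulVec.mpr fun x => by rw [h, Matrix.one_mulVec]

theorem mul_pElement (hp : p ≠ 2) (V : Subgroup ↥(Cfsg.SU 3 K (p ^ n)))
    (hV : IsPGroup p V) (hV1 : V ≠ ⊥) {a b : ↥(Cfsg.SU 3 K (p ^ n))}
    (ha : a ∈ Subgroup.normalizer (V : Set ↥(Cfsg.SU 3 K (p ^ n))))
    (hb : b ∈ Subgroup.normalizer (V : Set ↥(Cfsg.SU 3 K (p ^ n))))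
    {i j : ℕ} (hai : a ^ p ^ i = 1) (hbj : b ^ p ^ j = 1) : (a * b) ^ p = 1 := by
  classical
  have hpp : p.Prime := Fact.out
  let q := p ^ n
  have hq0 : q ≠ 0 := pow_ne_zero n hpp.ne_zero
  have hqinj : Function.Injective fun x : K => x ^ q := iterateFrobenius_inj K p n
  have hqbij : Function.Bijective fun x : K => x ^ q := hqinj.bijective_of_finite
  have hqadd : ∀ x y : K, (x + y) ^ q = x ^ q + y ^ q := fun x y => add_pow_char_pow x y p n
  let H : (Fin 3 → K) → (Fin 3 → K) → K := Cfsg.hermForm 3 K q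
  have hH : ∀ u v, H u v = u 0 * v 0 ^ q + u 1 * v 1 ^ q + u 2 * v 2 ^ q := fun u v =>
    Fin.sum_univ_three _
  -- the fixed space of `V`
  let W : Submodule K (Fin 3 → K) :=
    { carrier := {x | ∀ g ∈ V, um g *ᵥ x = x}
      zero_mem' := fun g _ => Matrix.mulVec_zero _
      add_mem' := fun {x y} hx hy g hg => by rw [Matrix.mulVec_add, hx g hg, hy g hg]
      smul_mem' := fun c x hx g hg => by rw [Matrix.mulVec_smul, hx g hg] }
  let W2 : Submodule K (Fin 3 → K) :=
    { carrier := {x | ∀ w ∈ W, H x w = 0}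
      zero_mem' := fun w _ => by simp [hH]
      add_mem' := fun {x y} hx hy w hw => by
        have h1 := hx w hw; have h2 := hy w hw
        rw [hH] at h1 h2 ⊢
        simp only [Pi.add_apply]
        linear_combination h1 + h2
      smul_mem' := fun c x hx w hw => by
        have h1 := hx w hw
        rw [hH] at h1 ⊢
        simp only [Pi.smul_apply, smul_eq_mul]
        linear_combination c * h1 }
  have hW : W ≠ ⊤ := fun h => hV1 <| (Subgroup.eq_bot_iff_forall V).mpr fun g hg =>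
    eq_one_of_fix g fun x => (h ▸ Submodule.mem_top : x ∈ W) g hg
  let T : Submodule K (Fin 3 → K) :=
    { carrier := {x | ∃ w ∈ W, (fun k => w k ^ q) = x}
      zero_mem' := ⟨0, W.zero_mem, by funext k; simp [zero_pow hq0]⟩
      add_mem' := by
        rintro _ _ ⟨u, hu, rfl⟩ ⟨v, hv, rfl⟩
        exact ⟨u + v, W.add_mem hu hv, by funext k; simp [hqadd]⟩
      smul_mem' := by
        rintro c _ ⟨u, hu, rfl⟩
        obtain ⟨d, hd⟩ := hqbij.2 c
        exact ⟨d • u, W.smul_mem d hu, by funext k; simp [mul_pow, ← hd]⟩ }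
  have hT : T ≠ ⊤ := by
    intro h
    apply hW
    rw [eq_top_iff]
    intro x _
    obtain ⟨w, hw, hwx⟩ := (h ▸ Submodule.mem_top : (fun k => x k ^ q) ∈ T)
    have : w = x := funext fun k => hqinj (congrFun hwx k)
    exact this ▸ hw
  have hW2 : W2 ≠ ⊥ := by
    obtain ⟨f, hf, hfT⟩ := T.exists_le_ker_of_lt_top (lt_top_iff_ne_top.mpr hT)
    rw [Submodule.ne_bot_iff]
    refine ⟨fun k => f (Pi.single k 1), fun w hw => ?_, fun h0 => hf ?_⟩
    · have h1 : f (fun k => w k ^ q) = 0 := hfT ⟨w, hw, rfl⟩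
      rw [LinearMap.pi_apply_eq_sum_univ f (fun k => w k ^ q), Fin.sum_univ_three] at h1
      rw [hH, ← h1]
      have e : ∀ k : Fin 3, (fun j => if k = j then (1 : K) else 0) = Pi.single k 1 := by
        intro k; funext j; simp [Pi.single_apply, eq_comm]
      simp only [e, smul_eq_mul]
      ring
    · refine LinearMap.ext fun x => ?_
      rw [LinearMap.pi_apply_eq_sum_univ f x, LinearMap.zero_apply]
      refine Finset.sum_eq_zero fun k _ => ?_
      have e : (fun j => if k = j then (1 : K) else 0) = Pi.single k 1 := by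
        funext j; simp [Pi.single_apply, eq_comm]
      rw [e, show f (Pi.single k 1) = 0 from congrFun h0 k, smul_zero]
  -- invariance
  have hinvW : ∀ g ∈ Subgroup.normalizer (V : Set ↥(Cfsg.SU 3 K (p ^ n))), ∀ x ∈ W,
      um g *ᵥ x ∈ W := by
    intro g hg x hx v hv
    have hv' : g⁻¹ * v * g ∈ V := by
      have := (Subgroup.mem_normalizer_iff.mp (inv_mem hg) v).mp hv
      rwa [inv_inv] at this
    calc um v *ᵥ (um g *ᵥ x) = um (g * (g⁻¹ * v * g)) *ᵥ x := by rw [← um_mul, show v * g = g * (g⁻¹ * v * g) by group]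
      _ = um g *ᵥ x := by rw [um_mul, hx _ hv']
  have hinvW2 : ∀ g ∈ Subgroup.normalizer (V : Set ↥(Cfsg.SU 3 K (p ^ n))), ∀ x ∈ W2,
      um g *ᵥ x ∈ W2 := by
    intro g hg x hx w hw
    have h1 : um g⁻¹ *ᵥ w ∈ W := hinvW _ (inv_mem hg) w hw
    have h2 := um_form g x (um g⁻¹ *ᵥ w)
    rw [← um_mul, mul_inv_cancel, um_one] at h2
    exact h2.trans (hx _ h1)
  obtain ⟨l, hl0, hlW, hlW2⟩ : ∃ l : Fin 3 → K, l ≠ 0 ∧ l ∈ W ∧ l ∈ W2 := by
    letI : DistribMulAction V W2 :=
      { smul := fun g x => ⟨um (g : ↥(Cfsg.SU 3 K (p ^ n))) *ᵥ (x : Fin 3 → K),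
          hinvW2 _ (Subgroup.le_normalizer g.2) _ x.2⟩
        one_smul := fun x => Subtype.ext (um_one _)
        mul_smul := fun g h x => Subtype.ext (um_mul _ _ _)
        smul_zero := fun g => Subtype.ext (by
          show um (g : ↥(Cfsg.SU 3 K (p ^ n))) *ᵥ (0 : Fin 3 → K) = 0
          exact Matrix.mulVec_zero _)
        smul_add := fun g x y => Subtype.ext (by
          show um (g : ↥(Cfsg.SU 3 K (p ^ n))) *ᵥ ((x : Fin 3 → K) + (y : Fin 3 → K)) =
            um (g : ↥(Cfsg.SU 3 K (p ^ n))) *ᵥ (x : Fin 3 → K) +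
              um (g : ↥(Cfsg.SU 3 K (p ^ n))) *ᵥ (y : Fin 3 → K)
          exact Matrix.mulVec_add _ _ _) }
    have hd : p ∣ Nat.card W2 := by
      haveI : Nontrivial W2 := Submodule.nontrivial_iff_ne_bot.mpr hW2
      obtain ⟨m, -, hm⟩ := FiniteField.card K p
      rw [Module.natCard_eq_pow_finrank (K := K), Nat.card_eq_fintype_card, hm]
      exact dvd_pow (dvd_pow_self p m.ne_zero) Module.finrank_pos.ne'
    obtain ⟨x, hx, hfix⟩ := exists_fixed_vector hV hd
    exact ⟨x, fun h => hx (Subtype.ext h), fun g hg => congrArg Subtype.val (hfix ⟨g, hg⟩), x.2⟩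
  -- the isotropic line
  have hline : ∀ u ∈ W, u ∈ W2 → ∃ c : K, u = c • l := by
    intro u hu hu2
    by_contra hne
    push Not at hne
    have hli : LinearIndependent K ![l, u] :=
      (LinearIndependent.pair_iff' hl0).mpr fun c => (hne c).symm
    have hc : crossProduct l u ≠ 0 := crossProduct_ne_zero_iff_linearIndependent.mpr hli
    let l' : Fin 3 → K := fun k => l k ^ q
    let u' : Fin 3 → K := fun k => u k ^ q
    have d1 : ∀ x y : Fin 3 → K, x ∈ W2 → y ∈ W → x ⬝ᵥ (fun k => y k ^ q) = 0 :=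
      fun x y hx hy => hx y hy
    have e1 : crossProduct (crossProduct l u) l' = 0 := by
      rw [cross_cross_eq_smul_sub_smul, d1 l l hlW2 hlW, d1 u l hu2 hlW]
      simp
    have e2 : crossProduct (crossProduct l u) u' = 0 := by
      rw [cross_cross_eq_smul_sub_smul, d1 l u hlW2 hu, d1 u u hu2 hu]
      simp
    have par : ∀ y : Fin 3 → K, crossProduct (crossProduct l u) y = 0 →
        ∃ c : K, c • crossProduct l u = y := by
      intro y hy
      by_contra hcon
      push Not at hcon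
      exact crossProduct_ne_zero_iff_linearIndependent.mpr
        ((LinearIndependent.pair_iff' hc).mpr hcon) hy
    obtain ⟨c1, h1⟩ := par l' e1
    obtain ⟨c2, h2⟩ := par u' e2
    have hc1 : c1 ≠ 0 := by
      rintro rfl
      rw [zero_smul] at h1
      apply hl0
      funext k
      exact eq_zero_of_pow_eq_zero (congrFun h1.symm k)
    obtain ⟨d, hd⟩ := hqbij.2 (c2 / c1)
    apply hne d
    funext k
    apply hqinj
    have k1 : c1 * crossProduct l u k = l k ^ q := congrFun h1 k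
    have k2 : c2 * crossProduct l u k = u k ^ q := congrFun h2 k
    simp only [Pi.smul_apply, smul_eq_mul, mul_pow]
    have hd' : d ^ q = c2 / c1 := hd
    rw [hd', ← k1, ← k2, ← mul_assoc, div_mul_cancel₀ _ hc1]
  -- the flag
  let f : (Fin 3 → K) →ₗ[K] K :=
    { toFun := fun x => H x l
      map_add' := fun x y => by simp only [hH, Pi.add_apply]; ring
      map_smul' := fun c x => by
        simp only [hH, Pi.smul_apply, smul_eq_mul, RingHom.id_apply]; ring }
  have hfl : f l = 0 := hlW2 l hlW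
  have hf0 : f ≠ 0 := by
    intro h
    apply hl0
    funext k
    have h1 : H (Pi.single k 1) l = 0 := LinearMap.congr_fun h (Pi.single k 1)
    rw [hH] at h1
    apply eq_zero_of_pow_eq_zero (n := q)
    fin_cases k <;> simpa using h1
  have hrank : Module.finrank K (LinearMap.ker f) = 2 := by
    have := Module.Dual.finrank_ker_add_one_of_ne_zero hf0
    simp at this ⊢
    omega
  obtain ⟨e, he, hel⟩ : ∃ e ∈ LinearMap.ker f, ∀ c : K, c • l ≠ e := by
    by_contra hcon
    push Not at hcon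
    have hle : LinearMap.ker f ≤ Submodule.span K {l} := fun x hx =>
      Submodule.mem_span_singleton.mpr (hcon x hx)
    have := Submodule.finrank_mono hle
    rw [hrank, finrank_span_singleton hl0] at this
    omega
  have hspan : ∀ x ∈ LinearMap.ker f, ∃ s t : K, s • l + t • e = x := by
    have hli : LinearIndependent K ![l, e] := (LinearIndependent.pair_iff' hl0).mpr hel
    have heq : Submodule.span K (Set.range ![l, e]) = LinearMap.ker f := by
      refine Submodule.eq_of_le_of_finrank_eq ?_ ?_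
      · rw [Submodule.span_le]
        rintro _ ⟨k, rfl⟩
        fin_cases k
        · exact LinearMap.mem_ker.mpr hfl
        · exact he
      · rw [finrank_span_eq_card hli, hrank]; rfl
    intro x hx
    rw [← heq, Matrix.range_cons, Matrix.range_cons, Matrix.range_empty, Set.union_empty,
      Set.singleton_union, Submodule.mem_span_pair] at hx
    exact hx
  -- the flag group
  let Good : ↥(Cfsg.SU 3 K (p ^ n)) → Prop := fun g =>
    um g *ᵥ l = l ∧ (∀ x ∈ LinearMap.ker f, ∃ s : K, um g *ᵥ x = x + s • l) ∧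
      ∀ x, f (um g *ᵥ x) = f x
  have hgood : ∀ g, g ∈ Subgroup.normalizer (V : Set ↥(Cfsg.SU 3 K (p ^ n))) →
      ∀ k, g ^ p ^ k = 1 → Good g := by
    intro g hg k hgk
    obtain ⟨c, hc⟩ := hline _ (hinvW g hg l hlW) (hinvW2 g hg l hlW2)
    have hone : ∀ c : K, c ^ p ^ k = 1 → c = 1 := by
      intro c hck
      apply iterateFrobenius_inj K p k
      rw [iterateFrobenius_def, iterateFrobenius_def, hck, one_pow]
    have hit : ∀ m : ℕ, um (g ^ m) *ᵥ l = c ^ m • l := by
      intro m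
      induction m with
      | zero => rw [pow_zero, pow_zero, one_smul]; exact um_one l
      | succ m ih =>
        rw [pow_succ', um_mul, ih, Matrix.mulVec_smul, hc, smul_smul, pow_succ]
    have hc1 : c = 1 := by
      apply hone
      have := hit (p ^ k)
      rw [hgk, um_one] at this
      obtain ⟨x, hx⟩ := Function.ne_iff.mp hl0
      have h' := congrFun this x
      simp only [Pi.smul_apply, smul_eq_mul] at h'
      exact (mul_eq_right₀ hx).mp h'.symm
    have hgl : um g *ᵥ l = l := by rw [hc, hc1, one_smul]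
    have hfx : ∀ x, f (um g *ᵥ x) = f x := by
      intro x
      show H (um g *ᵥ x) l = H x l
      conv_lhs => rw [← hgl]
      exact um_form g x l
    refine ⟨hgl, ?_, hfx⟩
    obtain ⟨s0, t0, hst⟩ := hspan (um g *ᵥ e) (by
      rw [LinearMap.mem_ker, hfx]; exact he)
    have hit2 : ∀ m : ℕ, ∃ s : K, um (g ^ m) *ᵥ e = s • l + t0 ^ m • e := by
      intro m
      induction m with
      | zero => exact ⟨0, by rw [pow_zero, pow_zero, zero_smul, zero_add, one_smul]; exact um_one e⟩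
      | succ m ih =>
        obtain ⟨s, hs⟩ := ih
        exact ⟨s + t0 ^ m * s0, by
          rw [pow_succ', um_mul, hs, Matrix.mulVec_add, Matrix.mulVec_smul, Matrix.mulVec_smul,
            hgl, ← hst, smul_add, smul_smul, smul_smul, add_smul, pow_succ]
          abel⟩
    have ht0 : t0 = 1 := by
      apply hone
      obtain ⟨s, hs⟩ := hit2 (p ^ k)
      rw [hgk, um_one] at hs
      by_contra hne
      have h1 : (1 - t0 ^ p ^ k) • e = s • l := by
        rw [sub_smul, one_smul, sub_eq_iff_eq_add]; exact hs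
      apply hel ((1 - t0 ^ p ^ k)⁻¹ * s)
      rw [← smul_smul, ← h1, inv_smul_smul₀ (sub_ne_zero.mpr (Ne.symm hne))]
    intro x hx
    obtain ⟨s, t, rfl⟩ := hspan x hx
    refine ⟨t * s0, ?_⟩
    rw [Matrix.mulVec_add, Matrix.mulVec_smul, Matrix.mulVec_smul, hgl, ← hst, ht0, one_smul,
      smul_add, smul_smul]
    abel
  obtain ⟨ga1, ga2, ga3⟩ := hgood a ha i hai
  obtain ⟨gb1, gb2, gb3⟩ := hgood b hb j hbj
  have h1 : um (a * b) *ᵥ l = l := by rw [um_mul, gb1, ga1]
  have h2 : ∀ x ∈ LinearMap.ker f, ∃ s : K, um (a * b) *ᵥ x = x + s • l := by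
    intro x hx
    obtain ⟨s, hs⟩ := gb2 x hx
    obtain ⟨t, ht⟩ := ga2 x hx
    exact ⟨t + s, by rw [um_mul, hs, Matrix.mulVec_add, Matrix.mulVec_smul, ga1, ht, add_smul]; abel⟩
  have h3 : ∀ x, f (um (a * b) *ᵥ x) = f x := fun x => by rw [um_mul, ga3, gb3]
  have hcube : (um (a * b) - 1) ^ 3 = 0 := by
    refine Matrix.ext_iff_mulVec.mpr fun x => ?_
    rw [Matrix.zero_mulVec, pow_succ', pow_two, ← Matrix.mulVec_mulVec, ← Matrix.mulVec_mulVec]
    simp only [Matrix.sub_mulVec, Matrix.one_mulVec]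
    obtain ⟨s, hs⟩ := h2 (um (a * b) *ᵥ x - x) (by rw [LinearMap.mem_ker, map_sub, h3, sub_self])
    rw [hs, add_sub_cancel_left, Matrix.mulVec_smul, h1, sub_self]
  have h3p : 3 ≤ p := by have := hpp.two_le; omega
  apply Subtype.ext
  apply Subtype.ext
  show ((((a * b) ^ p : ↥(Cfsg.SU 3 K (p ^ n))) : Matrix.SpecialLinearGroup (Fin 3) K) :
      Matrix (Fin 3) (Fin 3) K) = 1
  rw [Subgroup.coe_pow, Matrix.SpecialLinearGroup.coe_pow]
  show um (a * b) ^ p = 1
  have h4 : (um (a * b) - 1) ^ p = um (a * b) ^ p - 1 ^ p :=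
    sub_pow_char_of_commute _ (Commute.one_right _)
  rw [one_pow] at h4
  rw [← sub_eq_zero, ← h4]
  exact pow_eq_zero_of_le h3p hcube

end Unitary

/-- Let p be an odd prime, q a power of p and K a finite field with q² elements. Then Qd(p) (the natural semidirect product of an elementary abelian group of order p² by SL₂(p)) is not involved in the projective special unitary group PSU₃(q) realised over K. -/
theorem result {p : ℕ} [Fact p.Prime] (hp : p ≠ 2) {K : Type*} [Field K] [Fintype K] [CharP K p] (n : ℕ) (hn : 1 ≤ n) (hK : Fintype.card K = (p ^ n) ^ 2) : ¬ Cfsg.Involves ↥(Cfsg.qd p) (Cfsg.PSU 3 K (p ^ n)) := by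
  classical
  have hpp : p.Prime := Fact.out
  rintro ⟨K0, R, hRn, ⟨e⟩⟩
  haveI := hRn
  let π := QuotientGroup.mk' (Subgroup.center ↥(Cfsg.SU 3 K (p ^ n)))
  let K' : Subgroup ↥(Cfsg.SU 3 K (p ^ n)) := K0.comap π
  let φ : K' →* ↥(Cfsg.qd p) :=
    e.toMonoidHom.comp ((QuotientGroup.mk' (R.subgroupOf K0)).comp (π.subgroupComap K0))
  have hφ : Function.Surjective φ := by
    intro x
    obtain ⟨y, rfl⟩ := e.surjective x
    obtain ⟨z, rfl⟩ := QuotientGroup.mk'_surjective (R.subgroupOf K0) y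
    obtain ⟨w, hw⟩ := QuotientGroup.mk'_surjective (Subgroup.center ↥(Cfsg.SU 3 K (p ^ n))) z
    refine ⟨⟨w, by show π w ∈ K0; rw [show π w = (z : _) from hw]; exact z.2⟩, ?_⟩
    show e (QuotientGroup.mk' (R.subgroupOf K0) _) = e (QuotientGroup.mk' (R.subgroupOf K0) z)
    congr 2
    exact Subtype.ext hw
  let N0 : Subgroup ↥(Cfsg.qd p) := (block (p := p)).ker
  haveI : N0.Normal := MonoidHom.normal_ker _
  let O : Subgroup K' := N0.comap φ
  haveI : O.Normal := Subgroup.normal_comap φ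
  let φO : O →* N0 := (φ.subgroupComap N0)
  have hφO : Function.Surjective φO := by
    rintro ⟨x, hx⟩
    obtain ⟨w, rfl⟩ := hφ x
    exact ⟨⟨w, hx⟩, rfl⟩
  have hN0p : IsPGroup p N0 := fun x => ⟨1, Subtype.ext (by
    rw [pow_one, Subgroup.coe_pow, Subgroup.coe_one]; exact ker_pow x.2)⟩
  obtain ⟨P⟩ : Nonempty (Sylow p O) := inferInstance
  have hPmap : ∀ x : N0, ∃ v ∈ (P : Subgroup O), φO v = x := by
    intro x
    have htop : ((P.mapSurjective hφO : Sylow p N0) : Subgroup N0) = ⊤ :=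
      ((P.mapSurjective hφO).is_maximal' (hN0p.to_subgroup ⊤) le_top).symm
    exact Subgroup.mem_map.mp (htop.symm ▸ Subgroup.mem_top x :
      x ∈ ((P.mapSurjective hφO : Sylow p N0) : Subgroup N0))
  let V1 : Subgroup K' := (P : Subgroup O).map O.subtype
  let V : Subgroup ↥(Cfsg.SU 3 K (p ^ n)) := V1.map K'.subtype
  have hVp : IsPGroup p V := (P.isPGroup'.map O.subtype).map K'.subtype
  have hV1 : V ≠ ⊥ := by
    intro h
    rw [Subgroup.map_eq_bot_iff_of_injective _ K'.subtype_injective,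
      Subgroup.map_eq_bot_iff_of_injective _ O.subtype_injective] at h
    obtain ⟨v, hv, hvx⟩ := hPmap ⟨tv 0 2 (by decide) (by decide), by
      show block _ = 1
      ext i j
      fin_cases i <;> fin_cases j <;>
        simp [block, tv, Matrix.transvection, Matrix.single_apply, Fin.ext_iff]⟩
    rw [h, Subgroup.mem_bot] at hv
    rw [hv, map_one] at hvx
    have h02 := congrArg (fun z : N0 => (((z : ↥(Cfsg.qd p)) :
      Matrix.SpecialLinearGroup (Fin 3) (ZMod p)) : Matrix (Fin 3) (Fin 3) (ZMod p)) 0 2) hvx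
    simp [tv, Matrix.transvection] at h02
  have hlift : ∀ x : ↥(Cfsg.qd p), x ^ p = 1 → ∃ g : K',
      (g : ↥(Cfsg.SU 3 K (p ^ n))) ∈ Subgroup.normalizer (V : Set ↥(Cfsg.SU 3 K (p ^ n))) ∧
      φ g = x ∧ ∃ k, g ^ p ^ k = 1 := by
    intro x hx
    obtain ⟨w, hw⟩ := hφ x
    have hmem : w ∈ Subgroup.normalizer (V1 : Set K') ⊔ O := by
      rw [Sylow.normalizer_sup_eq_top P]; exact Subgroup.mem_top w
    obtain ⟨g0, hg0, o, ho, rfl⟩ := Subgroup.mem_sup_of_normal_right.mp hmem
    obtain ⟨v, hv, hvo⟩ := hPmap ⟨φ o, ho⟩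
    have hg : g0 * (v : K') ∈ Subgroup.normalizer (V1 : Set K') :=
      mul_mem hg0 (Subgroup.le_normalizer ⟨v, hv, rfl⟩)
    have hφg : φ (g0 * (v : K')) = x := by
      rw [← hw, map_mul, map_mul]
      congr 1
      exact congrArg Subtype.val hvo
    obtain ⟨k, m, hm, hkm⟩ := Nat.exists_eq_pow_mul_and_not_dvd
      (orderOf_pos (g0 * (v : K'))).ne' p hpp.ne_one
    obtain ⟨s, t, hst⟩ : IsCoprime (m : ℤ) (p : ℤ) :=
      Int.isCoprime_iff_nat_coprime.mpr (by
        simpa using ((hpp.coprime_iff_not_dvd).mpr hm).symm)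
    refine ⟨(g0 * (v : K')) ^ ((m : ℤ) * s), ?_, ?_, k, ?_⟩
    · have hn' : (g0 * (v : K')) ^ ((m : ℤ) * s) ∈ Subgroup.normalizer (V1 : Set K') :=
        zpow_mem hg _
      generalize (g0 * (v : K')) ^ ((m : ℤ) * s) = gg at hn'
      rw [Subgroup.mem_normalizer_iff]
      intro z
      constructor
      · rintro ⟨z', hz', rfl⟩
        exact ⟨_, (Subgroup.mem_normalizer_iff.mp hn' z').mp hz', rfl⟩
      · rintro ⟨z', hz', hz''⟩
        refine ⟨gg⁻¹ * z' * gg, ?_, ?_⟩
        · have := (Subgroup.mem_normalizer_iff.mp (inv_mem hn') z').mp hz'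
          simpa using this
        · show (gg : ↥(Cfsg.SU 3 K (p ^ n)))⁻¹ * (z' : ↥(Cfsg.SU 3 K (p ^ n))) * gg = z
          change (z' : ↥(Cfsg.SU 3 K (p ^ n))) = gg * z * (gg : ↥(Cfsg.SU 3 K (p ^ n)))⁻¹ at hz''
          rw [hz'']; group
    · rw [map_zpow, hφg, show (m : ℤ) * s = 1 - (p : ℤ) * t by linear_combination hst, _root_.zpow_sub,
        zpow_one, _root_.zpow_mul, zpow_natCast, hx, _root_.one_zpow, inv_one, mul_one]
    · rw [← zpow_natCast, ← _root_.zpow_mul,
        show (m : ℤ) * s * ((p ^ k : ℕ) : ℤ) = ((p ^ k * m : ℕ) : ℤ) * s by push_cast; ring,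
        _root_.zpow_mul, zpow_natCast, ← hkm, pow_orderOf_eq_one, _root_.one_zpow]
  obtain ⟨g1, hg1n, hg1, k1, hk1⟩ := hlift (tv 0 1 (by decide) (by decide)) (tv_pow _ _ _ _)
  obtain ⟨g2, hg2n, hg2, k2, hk2⟩ := hlift (tv 1 0 (by decide) (by decide)) (tv_pow _ _ _ _)
  have h := mul_pElement hp V hVp hV1 hg1n hg2n (i := k1) (j := k2)
    (congrArg Subtype.val hk1) (congrArg Subtype.val hk2)
  have h' : (g1 * g2) ^ p = 1 := Subtype.ext h
  have hx := congrArg φ h'
  rw [map_pow, map_mul, hg1, hg2, map_one] at hx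
  obtain ⟨M, hM⟩ : ∃ M : Matrix (Fin 3) (Fin 3) (ZMod p),
      M = Matrix.transvection 0 1 1 * Matrix.transvection 1 0 1 := ⟨_, rfl⟩
  have hMp : M ^ p = 1 := by
    have := congrArg (fun z : ↥(Cfsg.qd p) => ((z : Matrix.SpecialLinearGroup (Fin 3) (ZMod p)) :
      Matrix (Fin 3) (Fin 3) (ZMod p))) hx
    simp [tv] at this
    rw [hM]
    exact this
  have hnil : IsNilpotent (M - 1) := ⟨p, by
    rw [sub_pow_char_of_commute _ (Commute.one_right M), hMp, one_pow, sub_self]⟩
  have htr := (Matrix.isNilpotent_trace_of_isNilpotent hnil).eq_zero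
  rw [Matrix.trace_sub, hM] at htr
  simp [Matrix.trace, Fin.sum_univ_three, Matrix.mul_apply, Matrix.transvection,
    Matrix.single_apply, Matrix.one_apply] at htr
  try norm_num at htr

end Cfsg.Agent.S2232
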