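import Cfsg.Statements.S2239
import Cfsg.Agent.Suzuki.Subfield
-- import your own Cfsg.Agent.* helpers here

set_option autoImplicit false
open Cfsg
open Cfsg.Agent

namespace Cfsg.Agent.S2239

/-- Subfield subgroups of the Suzuki group: let q = 2^(2m+1) and s = 2^(2k+1) with m, k ≥ 1 and 2k+1 dividing 2m+1 (so q is a power of s), both groups realised as stabilisers in SL₄ of the Suzuki–Tits ovoid. Then Sz(q) has a subgroup isomorphic to Sz(s), and any two subgroups of Sz(q) isomorphic to Sz(s) are conjugate. -/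
theorem result {F : Type*} [Field F] [Fintype F] {m : ℕ} (hm : 1 ≤ m) (hF : Fintype.card F = 2 ^ (2 * m + 1)) {K : Type*} [Field K] [Fintype K] {k : ℕ} (hk : 1 ≤ k) (hK : Fintype.card K = 2 ^ (2 * k + 1)) (hdiv : 2 * k + 1 ∣ 2 * m + 1) :
    (∃ S : Subgroup ↥(Cfsg.Sz F m), Nonempty (↥S ≃* ↥(Cfsg.Sz K k))) ∧
    ∀ S₁ S₂ : Subgroup ↥(Cfsg.Sz F m), Nonempty (↥S₁ ≃* ↥(Cfsg.Sz K k)) → Nonempty (↥S₂ ≃* ↥(Cfsg.Sz K k)) →
      ∃ g : ↥(Cfsg.Sz F m), S₂ = S₁.map (MulAut.conj g).toMonoidHom := by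
  have hG := RankOne.Ovoid.good_of_card (m := m) hF
  have : Fact (Nat.Prime 2) := ⟨Nat.prime_two⟩
  have : CharP F 2 := charP_of_card_eq_prime_pow hF
  have : CharP K 2 := charP_of_card_eq_prime_pow hK
  letI : Algebra (ZMod 2) F := ZMod.algebra F 2
  letI : Algebra (ZMod 2) K := ZMod.algebra K 2
  have hnF : Module.finrank (ZMod 2) F = 2 * m + 1 := by
    have := Module.natCard_eq_pow_finrank (K := ZMod 2) (V := F)
    rw [Nat.card_zmod, Nat.card_eq_fintype_card, hF] at this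
    exact (Nat.pow_right_injective le_rfl this).symm
  have hnK : Module.finrank (ZMod 2) K = 2 * k + 1 := by
    have := Module.natCard_eq_pow_finrank (K := ZMod 2) (V := K)
    rw [Nat.card_zmod, Nat.card_eq_fintype_card, hK] at this
    exact (Nat.pow_right_injective le_rfl this).symm
  obtain ⟨φ⟩ := FiniteField.nonempty_algHom_of_finrank_dvd (F := ZMod 2) (K := K) (L := F)
    (by rw [hnK, hnF]; exact hdiv)
  let ι : K →+* F := φ.toRingHom
  have hσ := Suzuki.sigma_restrict (m := m) hK hdiv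
  refine ⟨⟨(Suzuki.sub ι hσ hG hk hK).range,
    ⟨(MonoidHom.ofInjective (Suzuki.sub_injective ι hσ hG hk hK)).symm⟩⟩, fun S₁ S₂ h₁ h₂ => ?_⟩
  obtain ⟨g₁, e₁⟩ := Suzuki.conjugate ι hσ hG hk hK hm hF S₁ h₁
  obtain ⟨g₂, e₂⟩ := Suzuki.conjugate ι hσ hG hk hK hm hF S₂ h₂
  refine ⟨g₂⁻¹ * g₁, Subgroup.map_injective (MulAut.conj g₂).injective
    (f := (MulAut.conj g₂).toMonoidHom) ?_⟩
  rw [Subgroup.map_map, e₂, ← e₁]
  congr 1
  ext x
  simp [mul_assoc]

end Cfsg.Agent.S2239
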