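import Cfsg.Statements.S2240
import Cfsg.Agent.Suzuki.Fusion
-- import your own Cfsg.Agent.* helpers here

set_option autoImplicit false
open Cfsg
open Cfsg.Agent

namespace Cfsg.Agent.S2240

/-- Elementary abelian TI-subgroups of the Suzuki group: let q = 2^(2m+1) with m ≥ 1, the group realised as the stabiliser in SL₄ of the Suzuki–Tits ovoid, and n ≥ 2. There is an elementary abelian 2-subgroup E of order 2^n that is a TI-subgroup (every conjugate of E meeting E nontrivially is E itself) if and only if n divides 2m + 1. -/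
theorem result {F : Type*} [Field F] [Fintype F] {m : ℕ} (hm : 1 ≤ m) (hF : Fintype.card F = 2 ^ (2 * m + 1)) (n : ℕ) (hn : 2 ≤ n) :
    (∃ E : Subgroup ↥(Cfsg.Sz F m), Cfsg.IsElementaryAbelian 2 E ∧ Nat.card ↥E = 2 ^ n ∧
      ∀ x : ↥(Cfsg.Sz F m), E ⊓ E.map (MulAut.conj x).toMonoidHom ≠ ⊥ → x ∈ Subgroup.normalizer (E : Set ↥(Cfsg.Sz F m))) ↔ n ∣ 2 * m + 1 := by
  classical
  have hG := RankOne.Ovoid.good_of_card (m := m) hF
  have : Fact (Nat.Prime 2) := ⟨Nat.prime_two⟩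
  constructor
  · rintro ⟨E, ⟨hEc, hE2⟩, hEn, hTI⟩
    obtain ⟨P, hP⟩ := (IsPGroup.of_card hEn).exists_le_sylow
    obtain ⟨g, hg⟩ := Suzuki.exists_conj_U hG hm hF P
    have hform : ∀ e ∈ E, ∃ b, g * e * g⁻¹ = Suzuki.T hG 0 b := fun e he => by
      obtain ⟨a, b, hab⟩ := (hg e).mp (hP he)
      have h2 : Suzuki.T hG a b * Suzuki.T hG a b = 1 := by
        rw [← hab]
        calc g * e * g⁻¹ * (g * e * g⁻¹) = g * e ^ 2 * g⁻¹ := by simp [pow_two, mul_assoc]
          _ = 1 := by rw [hE2 e he]; simp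
      exact ⟨b, by rw [hab, Suzuki.fst_eq_zero hG h2]⟩
    let B : AddSubgroup F :=
      { carrier := {b | g⁻¹ * Suzuki.T hG 0 b * g ∈ E}
        add_mem' := fun {x y} hx hy => by
          have h := E.mul_mem hx hy
          show g⁻¹ * Suzuki.T hG 0 (x + y) * g ∈ E
          rw [show Suzuki.T hG 0 (x + y) = Suzuki.T hG 0 x * Suzuki.T hG 0 y by
            rw [Suzuki.T_mul]; simp]
          simpa [mul_assoc] using h
        zero_mem' := by
          show g⁻¹ * Suzuki.T hG 0 0 * g ∈ E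
          rw [Suzuki.T_zero]; simp
        neg_mem' := fun {x} hx => by
          show g⁻¹ * Suzuki.T hG 0 (-x) * g ∈ E
          rw [show -x = x by linear_combination (-x) * hG.two]; exact hx }
    refine Suzuki.dvd_of_rigid hF B ?_ (n := n) (by omega) ?_
    · rw [← hEn]
      refine Nat.card_eq_of_bijective (fun b : B => (⟨g⁻¹ * Suzuki.T hG 0 b * g, b.2⟩ : E))
        ⟨fun b b' h => Subtype.ext ((Suzuki.T_inj hG
          (mul_left_cancel (mul_right_cancel (congrArg Subtype.val h)))).2), fun e => ?_⟩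
      obtain ⟨b, hb⟩ := hform e e.2
      have hbe : g⁻¹ * Suzuki.T hG 0 b * g = e := by rw [← hb]; simp [mul_assoc]
      exact ⟨⟨b, show g⁻¹ * Suzuki.T hG 0 b * g ∈ E by rw [hbe]; exact e.2⟩, Subtype.ext hbe⟩
    · rintro μ hμ ⟨f, hf, hf0, hμf⟩ b hb
      obtain ⟨c, hc⟩ := Finite.surjective_of_injective
        (f := fun z : F => z ^ (2 ^ (m + 1))) (fun _ _ h => Suzuki.sigma_inj hG h) μ
      have hc0 : c ≠ 0 := by
        rintro rfl
        exact hμ (hc.symm.trans (zero_pow Suzuki.sigma_ne_zero))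
      simp only at hc
      set x := g⁻¹ * Suzuki.H hG (Units.mk0 c hc0) * g with hxdef
      have hconj : ∀ z, x * (g⁻¹ * Suzuki.T hG 0 z * g) * x⁻¹ = g⁻¹ * Suzuki.T hG 0 (μ * z) * g := by
        intro z
        have h := Suzuki.H_conj_T hG (Units.mk0 c hc0) 0 z
        rw [mul_zero, Units.val_mk0, hc] at h
        calc x * (g⁻¹ * Suzuki.T hG 0 z * g) * x⁻¹
            = g⁻¹ * (Suzuki.H hG (Units.mk0 c hc0) * Suzuki.T hG 0 z) *
                (Suzuki.H hG (Units.mk0 c hc0))⁻¹ * g := by simp [hxdef, mul_assoc]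
          _ = _ := by rw [h]; simp [mul_assoc]
      have hx : x ∈ Subgroup.normalizer (E : Set ↥(Cfsg.Sz F m)) := by
        refine hTI x fun hbot => ?_
        have hmem : g⁻¹ * Suzuki.T hG 0 (μ * f) * g ∈
            E ⊓ E.map (MulAut.conj x).toMonoidHom := ⟨hμf, _, hf, hconj f⟩
        rw [hbot, Subgroup.mem_bot] at hmem
        have h1 : Suzuki.T hG 0 (μ * f) = Suzuki.T hG 0 0 := by
          rw [Suzuki.T_zero]
          simpa [mul_assoc, inv_mul_eq_one, eq_comm] using hmem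
        exact mul_ne_zero hμ hf0 (Suzuki.T_inj hG h1).2
      have h2 := (hx _).mp hb
      rw [hconj] at h2
      exact h2
  · intro hdiv
    obtain ⟨K, hK⟩ := Suzuki.exists_subfield hF hdiv
    let E : Subgroup (Cfsg.Sz F m) :=
      { carrier := {g | ∃ b ∈ K, g = Suzuki.T hG 0 b}
        one_mem' := ⟨0, K.zero_mem, (Suzuki.T_zero hG).symm⟩
        mul_mem' := by
          rintro _ _ ⟨b, hb, rfl⟩ ⟨b', hb', rfl⟩
          exact ⟨b + b', K.add_mem hb hb', by rw [Suzuki.T_mul]; simp⟩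
        inv_mem' := by
          rintro _ ⟨b, hb, rfl⟩
          exact ⟨b, hb, by rw [Suzuki.T_inv]; simp⟩ }
    refine ⟨E, ⟨⟨⟨fun x y => ?_⟩⟩, ?_⟩, ?_, fun x hx => ?_⟩
    · obtain ⟨b, -, hb⟩ := x.2
      obtain ⟨b', -, hb'⟩ := y.2
      refine Subtype.ext ?_
      show (x : Cfsg.Sz F m) * y = y * x
      rw [hb, hb', Suzuki.T_mul, Suzuki.T_mul]
      simp [add_comm]
    · rintro _ ⟨b, -, rfl⟩
      rw [pow_two, Suzuki.T_sq]
      simp [Suzuki.T_zero]
    · rw [← hK]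
      refine (Nat.card_eq_of_bijective
        (fun b : K => (⟨Suzuki.T hG 0 b, b, b.2, rfl⟩ : E))
        ⟨fun b b' h => Subtype.ext (Suzuki.T_inj hG (congrArg Subtype.val h)).2, fun e => ?_⟩).symm
      obtain ⟨b, hb, he⟩ := e.2
      exact ⟨⟨b, hb⟩, Subtype.ext he.symm⟩
    · obtain ⟨w, hw, hw1⟩ := (Subgroup.bot_or_exists_ne_one _).resolve_left hx
      obtain ⟨⟨b', hb', hwb⟩, _, ⟨b, hb, rfl⟩, hxw⟩ := hw
      have hconj : x * Suzuki.T hG 0 b * x⁻¹ = Suzuki.T hG 0 b' := hxw.trans hwb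
      have hb0 : b ≠ 0 := fun h0 => hw1 (by
        rw [← hxw]
        show x * Suzuki.T hG 0 b * x⁻¹ = 1
        rw [h0, Suzuki.T_zero]; simp)
      have hne : Suzuki.T hG (0 : F) b ≠ 1 := fun h => hb0 (by
        rw [← Suzuki.T_zero hG] at h
        exact (Suzuki.T_inj hG h).2)
      have hfix := Suzuki.fix_of_conj_mem_U hG (Suzuki.T_mem hG 0 b) hne
        (hconj ▸ Suzuki.T_mem hG 0 b')
      obtain ⟨a, a', c, rfl⟩ := Suzuki.eq_T_mul_H hG hm hF hfix
      have hgen : ∀ z : F, Suzuki.T hG a a' * Suzuki.H hG c * Suzuki.T hG 0 z *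
          (Suzuki.T hG a a' * Suzuki.H hG c)⁻¹ = Suzuki.T hG 0 ((c : F) ^ (2 ^ (m + 1)) * z) := by
        intro z
        rw [mul_inv_eq_iff_eq_mul, mul_assoc, Suzuki.H_conj_T, ← mul_assoc, ← mul_assoc,
          Suzuki.T_mul, Suzuki.T_mul]
        congr 2 <;> simp [Suzuki.sigma_ne_zero] <;> ring
      rw [hgen] at hconj
      have hb'' := (Suzuki.T_inj hG hconj).2
      have hμ : (c : F) ^ (2 ^ (m + 1)) ∈ K := by
        have h := K.div_mem hb' hb
        rwa [← hb'', mul_div_cancel_right₀ _ hb0] at h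
      have hμ0 : (c : F) ^ (2 ^ (m + 1)) ≠ 0 := pow_ne_zero _ c.ne_zero
      intro z
      refine ⟨?_, ?_⟩
      · rintro ⟨s, hs, rfl⟩
        exact ⟨_, K.mul_mem hμ hs, hgen s⟩
      · rintro ⟨s, hs, hs'⟩
        refine ⟨s / (c : F) ^ (2 ^ (m + 1)), K.div_mem hs hμ, ?_⟩
        have h := hgen (s / (c : F) ^ (2 ^ (m + 1)))
        rw [mul_div_cancel₀ _ hμ0, ← hs'] at h
        exact (mul_left_cancel (mul_right_cancel h)).symm

end Cfsg.Agent.S2240
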