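import Cfsg.Statements.S2241
import Cfsg.Agent.Suzuki.Fusion
-- import your own Cfsg.Agent.* helpers here

set_option autoImplicit false
open Cfsg
open Cfsg.Agent

namespace Cfsg.Agent.S2241

/-- Real 2-elements of the Suzuki group: with q = 2^(2m+1), m ≥ 1, and the group realised as the stabiliser in SL₄ of the Suzuki–Tits ovoid, a non-identity element of a Sylow 2-subgroup is conjugate to its inverse if and only if it is an involution; in particular no element of order 4 is conjugate to its inverse. -/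
theorem result {F : Type*} [Field F] [Fintype F] {m : ℕ} (hm : 1 ≤ m) (hF : Fintype.card F = 2 ^ (2 * m + 1)) (P : Sylow 2 ↥(Cfsg.Sz F m)) (g : ↥(Cfsg.Sz F m)) (hg : g ∈ (P : Subgroup ↥(Cfsg.Sz F m))) (h1 : g ≠ 1) :
    IsConj g g⁻¹ ↔ orderOf g = 2 := by
  have hG := RankOne.Ovoid.good_of_card (m := m) hF
  obtain ⟨k, hk⟩ := Suzuki.exists_conj_U hG hm hF P
  refine ⟨fun h => ?_, fun h => ?_⟩
  · obtain ⟨x, hx⟩ := isConj_iff.mp h
    have h2 := Suzuki.involution_of_real hG hm hF ((hk g).mp hg)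
      (fun e => h1 (by simpa [mul_inv_eq_one, mul_eq_left] using e)) (g := k * x * k⁻¹) (by
        calc k * x * k⁻¹ * (k * g * k⁻¹) * (k * x * k⁻¹)⁻¹ = k * (x * g * x⁻¹) * k⁻¹ := by
              simp [mul_assoc]
          _ = (k * g * k⁻¹)⁻¹ := by rw [hx]; simp [mul_assoc])
    have h3 : k * (g * g) * k⁻¹ = 1 := by rw [← h2]; simp [mul_assoc]
    exact orderOf_eq_prime (by rw [pow_two]; simpa [mul_inv_eq_one, mul_eq_left] using h3) h1
  · rw [inv_eq_of_mul_eq_one_right (by rw [← pow_two, ← h, pow_orderOf_eq_one])]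

end Cfsg.Agent.S2241
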