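import Cfsg.Statements.S2244
import Cfsg.Agent.WeakClosed.Main
import Cfsg.Agent.WeakClosed.Data

set_option autoImplicit false
set_option maxRecDepth 10000
open Cfsg

namespace Cfsg.Agent.S2244

open Cfsg.Agent.WeakClosed

/-- no certificate entry of kind at least three -/
private theorem not_big_kind {l : List (ℕ × ℕ × ℕ)} (h : (l.all fun e => decide (e.1 < 3)) = true) :
    ¬ ∃ r kind, (l.getD r (0, 0, 0)).1 = kind + 3 := by
  rintro ⟨r, kind, e⟩
  by_cases hr : r < l.length
  · rw [List.getD_eq_getElem _ _ hr] at e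
    have := (List.all_eq_true.1 h) _ (List.getElem_mem hr)
    simp only [decide_eq_true_eq] at this
    omega
  · rw [List.getD_eq_default _ _ (by omega)] at e
    simp at e

/-- Weakly closed unipotent subgroups of Chevalley groups: let G be the Chevalley group of type G₂, B₂, D₄, F₄, E₆, E₇ or E₈ over a finite field F (the matrix group generated by the root elements), with |F| ≠ 2, and |F| ≠ 3 as well for the types G₂, B₂, D₄, F₄. Let U be the subgroup generated by the positive root subgroups. If X ≤ U is weakly closed in U with respect to G (every G-conjugate of X lying in U equals X), then X is the unipotent radical U_J of a standard parabolic subgroup for some set J of fundamental roots. -/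
theorem result {F : Type*} [Field F] [Fintype F] (D : Cfsg.Lie.ChevalleyDatum) (hD : D ∈ [Cfsg.Lie.chevG2, Cfsg.Lie.chevB2, Cfsg.Lie.chevD4, Cfsg.Lie.chevF4, Cfsg.Lie.chevE6, Cfsg.Lie.chevE7, Cfsg.Lie.chevE8])
    (h2 : Fintype.card F ≠ 2) (h3 : D ∈ [Cfsg.Lie.chevG2, Cfsg.Lie.chevB2, Cfsg.Lie.chevD4, Cfsg.Lie.chevF4] → Fintype.card F ≠ 3)
    (X : Subgroup (GL D.Idx F)) (hXU : X ≤ D.posUnipotent F)
    (hwc : ∀ g ∈ D.group F, X.map (MulAut.conj g).toMonoidHom ≤ D.posUnipotent F → X.map (MulAut.conj g).toMonoidHom = X) :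
    ∃ J : Set ℕ, (∀ j ∈ J, j < D.rank) ∧ X = D.unipotentRadical F J := by
  have hF := Cfsg.Agent.Chev.facts_of_mem hD
  have h1 : 1 < Fintype.card F := Fintype.one_lt_card
  have hq : 3 ≤ Fintype.card F := by omega
  simp only [List.mem_cons, List.not_mem_nil, or_false] at hD h3
  rcases hD with rfl | rfl | rfl | rfl | rfl | rfl | rfl
  · have h4 : 4 ≤ Fintype.card F := by have := h3 (Or.inl rfl); omega
    exact exists_radical hF radChk_G2 sepChk_G2 (fun _ => h4) hq (fun _ => h4) X hXU hwc
  · have h4 : 4 ≤ Fintype.card F := by have := h3 (Or.inr (Or.inl rfl)); omega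
    exact exists_radical hF radChk_B2 sepChk_B2 (fun _ => h4) hq (fun _ => h4) X hXU hwc
  · have h4 : 4 ≤ Fintype.card F := by have := h3 (Or.inr (Or.inr (Or.inl rfl))); omega
    exact exists_radical hF radChk_D4 sepChk_D4 (fun _ => h4) hq (fun _ => h4) X hXU hwc
  · have h4 : 4 ≤ Fintype.card F := by have := h3 (Or.inr (Or.inr (Or.inr rfl))); omega
    exact exists_radical hF radChk_F4 sepChk_F4 (fun _ => h4) hq (fun _ => h4) X hXU hwc
  · exact exists_radical hF radChk_E6 sepChk_E6 (by simp) hq
      (fun h => absurd h (not_big_kind (by decide))) X hXU hwc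
  · exact exists_radical hF radChk_E7 sepChk_E7 (by simp) hq
      (fun h => absurd h (not_big_kind (by decide))) X hXU hwc
  · exact exists_radical hF radChk_E8 sepChk_E8 (by simp) hq
      (fun h => absurd h (not_big_kind (by decide))) X hXU hwc

end Cfsg.Agent.S2244
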