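import Cfsg.Statements.S2247
import Cfsg.Agent.Suzuki.Fusion
-- import your own Cfsg.Agent.* helpers here

set_option autoImplicit false
open Cfsg
open Cfsg.Agent

namespace Cfsg.Agent.S2247

/-- In the Suzuki group with q = 2^(2m+1), m ≥ 1 (realised as the stabiliser in SL₄ of the Suzuki–Tits ovoid), the normalizer of a Sylow 2-subgroup P is a maximal subgroup and is the only maximal subgroup containing P. -/
theorem result {F : Type*} [Field F] [Fintype F] {m : ℕ} (hm : 1 ≤ m) (hF : Fintype.card F = 2 ^ (2 * m + 1)) (P : Sylow 2 ↥(Cfsg.Sz F m)) :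
    IsCoatom (Subgroup.normalizer ((P : Subgroup ↥(Cfsg.Sz F m)) : Set ↥(Cfsg.Sz F m))) ∧
    ∀ M : Subgroup ↥(Cfsg.Sz F m), IsCoatom M → (P : Subgroup ↥(Cfsg.Sz F m)) ≤ M → M = Subgroup.normalizer ((P : Subgroup ↥(Cfsg.Sz F m)) : Set ↥(Cfsg.Sz F m)) := by
  have hG := RankOne.Ovoid.good_of_card (m := m) hF
  obtain ⟨g, hg⟩ := Suzuki.exists_conj_U hG hm hF P
  have hN : Subgroup.normalizer ((P : Subgroup (Cfsg.Sz F m)) : Set (Cfsg.Sz F m)) =
      (MulAction.stabilizer (Cfsg.Sz F m) (Suzuki.pI : Cfsg.suzukiOvoid F m)).map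
        (MulAut.conj g⁻¹).toMonoidHom := by
    ext x
    rw [Subgroup.mem_map_equiv, ← Suzuki.normalizer_U hG hm hF]
    show (∀ n, n ∈ (P : Subgroup (Cfsg.Sz F m)) ↔ x * n * x⁻¹ ∈ (P : Subgroup (Cfsg.Sz F m))) ↔
      ∀ n, n ∈ Suzuki.U hG ↔ _
    simp only [map_inv, MulAut.inv_symm, SetLike.mem_coe, MulAut.conj_apply]
    constructor
    · intro h n
      have := h (g⁻¹ * n * g)
      rw [show ∀ z, z ∈ (P : Subgroup (Cfsg.Sz F m)) ↔ g * z * g⁻¹ ∈ Suzuki.U hG from hg,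
        show ∀ z, z ∈ (P : Subgroup (Cfsg.Sz F m)) ↔ g * z * g⁻¹ ∈ Suzuki.U hG from hg] at this
      simpa [mul_assoc] using this
    · intro h n
      have := h (g * n * g⁻¹)
      rw [show ∀ z, z ∈ (P : Subgroup (Cfsg.Sz F m)) ↔ g * z * g⁻¹ ∈ Suzuki.U hG from hg,
        show ∀ z, z ∈ (P : Subgroup (Cfsg.Sz F m)) ↔ g * z * g⁻¹ ∈ Suzuki.U hG from hg]
      simpa [mul_assoc] using this
  refine ⟨?_, fun M hM hPM => ?_⟩
  · rw [hN]
    exact ((MulEquiv.mapSubgroup (MulAut.conj g⁻¹)).isCoatom_iff _).mpr (Suzuki.U_isCoatom hG hm hF)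
  · have hU : Suzuki.U hG ≤ M.map (MulAut.conj g).toMonoidHom := fun u hu => by
      refine ⟨g⁻¹ * u * g, hPM ((hg _).mpr ?_), by simp [mul_assoc]⟩
      simpa [mul_assoc] using hu
    have hne : M.map (MulAut.conj g).toMonoidHom ≠ ⊤ := fun h => hM.1 (by
      rw [eq_top_iff]
      intro x _
      obtain ⟨y, hy, hyx⟩ : g * x * g⁻¹ ∈ M.map (MulAut.conj g).toMonoidHom :=
        h ▸ Subgroup.mem_top _
      rwa [show y = x from (MulAut.conj g).injective hyx] at hy)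
    have hle := (Suzuki.le_stabilizer_or_eq_top hG hm hF _ hU).resolve_right hne
    have hle' : M ≤ Subgroup.normalizer ((P : Subgroup (Cfsg.Sz F m)) : Set (Cfsg.Sz F m)) := by
      intro x hx
      rw [hN]
      exact ⟨g * x * g⁻¹, hle ⟨x, hx, rfl⟩, by simp [mul_assoc]⟩
    exact ((hM.le_iff_eq (by
      rw [hN]
      exact (((MulEquiv.mapSubgroup (MulAut.conj g⁻¹)).isCoatom_iff _).mpr (Suzuki.U_isCoatom hG hm hF)).1)).mp
        hle').symm

end Cfsg.Agent.S2247
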