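import Cfsg.Statements.S2254
import Mathlib
import Cfsg.Agent.NilPerm.Unique

set_option autoImplicit false
open Cfsg

namespace Cfsg.Agent.S2254

/-- Let n ≡ 3 (mod 4). Then every nilpotent subgroup of the symmetric group on n letters has order at most 3 times the order of a Sylow 2-subgroup of the symmetric group on n − 3 letters; the bound is attained by a nilpotent subgroup isomorphic to the direct product of such a Sylow 2-subgroup with a cyclic group of order 3; and any two nilpotent subgroups attaining the bound are conjugate. -/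
theorem result  (n : ℕ) (hn : n % 4 = 3)
    (P : Sylow 2 (Equiv.Perm (Fin (n - 3)))) :
    (∀ N : Subgroup (Equiv.Perm (Fin n)), Group.IsNilpotent N → Nat.card N ≤ 3 * Nat.card P) ∧
    (∃ M : Subgroup (Equiv.Perm (Fin n)), Group.IsNilpotent M ∧ Nat.card M = 3 * Nat.card P ∧
      Nonempty (M ≃* (↥(P : Subgroup (Equiv.Perm (Fin (n - 3)))) × Multiplicative (ZMod 3)))) ∧
    (∀ N₁ N₂ : Subgroup (Equiv.Perm (Fin n)), Group.IsNilpotent N₁ → Group.IsNilpotent N₂ →
      Nat.card N₁ = 3 * Nat.card P → Nat.card N₂ = 3 * Nat.card P →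
      ∃ g : Equiv.Perm (Fin n), N₂ = N₁.map (MulAut.conj g).toMonoidHom) := by
  have : Fact (Nat.Prime 2) := ⟨Nat.prime_two⟩
  have hP : Nat.card P = 2 ^ Cfsg.Agent.NilPerm.twoExp (n - 3) := Cfsg.Agent.NilPerm.card_sylow_two P
  refine ⟨fun N hN => ?_, ?_, fun N₁ N₂ hN₁ hN₂ h₁ h₂ =>
    Cfsg.Agent.NilPerm.exists_conj hn N₁ N₂ hN₁ hN₂ (hP ▸ h₁) (hP ▸ h₂)⟩
  · have hb := Cfsg.Agent.NilPerm.card_le_bound N hN
    rw [Cfsg.Agent.NilPerm.bound, if_pos hn, ← hP] at hb
    exact hb
  · obtain ⟨f, hf, -⟩ := Cfsg.Agent.NilPerm.exists_three_hom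
    let ψ : ↥(P : Subgroup (Equiv.Perm (Fin (n - 3)))) × Multiplicative (ZMod 3) →* Equiv.Perm (Fin n) :=
      (Cfsg.Agent.NilPerm.pairHom (show 3 ≤ n by omega)).comp ((Subgroup.subtype _).prodMap f)
    have hψ : Function.Injective ψ :=
      (Cfsg.Agent.NilPerm.pairHom_injective (show 3 ≤ n by omega)).comp ((Subgroup.subtype_injective _).prodMap hf)
    have : Group.IsNilpotent ↥(P : Subgroup (Equiv.Perm (Fin (n - 3)))) := P.isPGroup'.isNilpotent
    obtain ⟨M, hM, hc, hiso⟩ := Cfsg.Agent.NilPerm.exists_range ψ hψ inferInstance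
    refine ⟨M, hM, ?_, hiso⟩
    rw [hc, Nat.card_prod, mul_comm]
    simp

end Cfsg.Agent.S2254
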