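import Cfsg.Statements.S2255
import Mathlib
import Cfsg.Agent.NilPerm.Alt

set_option autoImplicit false
open Cfsg

namespace Cfsg.Agent.S2255

/-- Let n be a natural number not congruent to 3 modulo 4, with n ∉ {5, 6, 9}. Then every nilpotent subgroup of the alternating group on n letters has order at most the order of a Sylow 2-subgroup of the alternating group (so the nilpotent subgroups of largest order are exactly the Sylow 2-subgroups). -/
theorem result  (n : ℕ) (hn : n % 4 ≠ 3)
    (h5 : n ≠ 5) (h6 : n ≠ 6) (h9 : n ≠ 9)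
    (N : Subgroup (alternatingGroup (Fin n))) (hN : Group.IsNilpotent N)
    (P : Sylow 2 (alternatingGroup (Fin n))) :
    Nat.card N ≤ Nat.card P := by
  rcases lt_or_ge n 4 with h4 | h4
  · have hc : Nat.card (alternatingGroup (Fin n)) = 1 := by
      rcases (show n = 0 ∨ n = 1 ∨ n = 2 by omega) with rfl | rfl | rfl
      · exact Nat.card_unique
      · exact Nat.card_unique
      · rw [Nat.card_eq_fintype_card]; decide
    exact le_trans (Subgroup.card_le_card_group N) (hc ▸ Nat.card_pos)
  obtain ⟨h1, h2, h3⟩ := Cfsg.Agent.NilPerm.map_subtype_alt N hN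
  have hb := Cfsg.Agent.NilPerm.two_mul_card_le_bound h4 (by simp; omega) _ h1 h2
  rw [h3, Cfsg.Agent.NilPerm.bound, if_neg hn,
    ← Cfsg.Agent.NilPerm.two_mul_card_sylow_two (by omega) P] at hb
  omega

end Cfsg.Agent.S2255
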