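import Cfsg.Statements.S2256
import Mathlib
import Cfsg.Agent.NilPerm.Alt
import Cfsg.Agent.NilPerm.Unique

set_option autoImplicit false
open Cfsg

namespace Cfsg.Agent.S2256

/-- Let n ≡ 3 (mod 4) with n ≥ 7. Then every nilpotent subgroup of the alternating group on n letters has order at most 3 times the order of a Sylow 2-subgroup of the alternating group on n − 3 letters; the bound is attained by a nilpotent subgroup isomorphic to the direct product of such a Sylow 2-subgroup with a cyclic group of order 3; and any two nilpotent subgroups of the alternating group attaining the bound are conjugate in it. -/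
theorem result  (n : ℕ) (hn : n % 4 = 3) (h7 : 7 ≤ n)
    (P : Sylow 2 (alternatingGroup (Fin (n - 3)))) :
    (∀ N : Subgroup (alternatingGroup (Fin n)), Group.IsNilpotent N → Nat.card N ≤ 3 * Nat.card P) ∧
    (∃ M : Subgroup (alternatingGroup (Fin n)), Group.IsNilpotent M ∧ Nat.card M = 3 * Nat.card P ∧
      Nonempty (M ≃* (↥(P : Subgroup (alternatingGroup (Fin (n - 3)))) × Multiplicative (ZMod 3)))) ∧
    (∀ N₁ N₂ : Subgroup (alternatingGroup (Fin n)), Group.IsNilpotent N₁ → Group.IsNilpotent N₂ →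
      Nat.card N₁ = 3 * Nat.card P → Nat.card N₂ = 3 * Nat.card P →
      ∃ g : alternatingGroup (Fin n), N₂ = N₁.map (MulAut.conj g).toMonoidHom) := by
  have : Fact (Nat.Prime 2) := ⟨Nat.prime_two⟩
  have hP : 2 * Nat.card P = 2 ^ Cfsg.Agent.NilPerm.twoExp (n - 3) :=
    Cfsg.Agent.NilPerm.two_mul_card_sylow_two (by omega) P
  have hb : Cfsg.Agent.NilPerm.bound n = 3 * (2 * Nat.card P) := by
    rw [Cfsg.Agent.NilPerm.bound, if_pos hn, hP]
  refine ⟨fun N hN => ?_, ?_, fun N₁ N₂ hN₁ hN₂ h₁ h₂ => ?_⟩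
  · obtain ⟨h1, h2, h3⟩ := Cfsg.Agent.NilPerm.map_subtype_alt N hN
    have := Cfsg.Agent.NilPerm.two_mul_card_le_bound (by omega) (by simp; omega) _ h1 h2
    rw [h3, hb] at this
    omega
  · obtain ⟨f, hf, hfs⟩ := Cfsg.Agent.NilPerm.exists_three_hom
    let ψ : ↥(P : Subgroup (alternatingGroup (Fin (n - 3)))) × Multiplicative (ZMod 3) →* Equiv.Perm (Fin n) :=
      (Cfsg.Agent.NilPerm.pairHom (show 3 ≤ n by omega)).comp
        (((alternatingGroup (Fin (n - 3))).subtype.comp (Subgroup.subtype _)).prodMap f)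
    have hψ : Function.Injective ψ :=
      (Cfsg.Agent.NilPerm.pairHom_injective (show 3 ≤ n by omega)).comp
        (((Subgroup.subtype_injective _).comp (Subgroup.subtype_injective _)).prodMap hf)
    have hA : ∀ x, ψ x ∈ alternatingGroup (Fin n) := fun x => by
      rw [Equiv.Perm.mem_alternatingGroup]
      show Equiv.Perm.sign (Cfsg.Agent.NilPerm.pairHom (show 3 ≤ n by omega) (((x.1 : alternatingGroup (Fin (n - 3))) : Equiv.Perm (Fin (n - 3))), f x.2)) = 1
      rw [Cfsg.Agent.NilPerm.sign_pairHom, hfs, mul_one]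
      exact Equiv.Perm.mem_alternatingGroup.1 (x.1 : alternatingGroup (Fin (n - 3))).2
    have : Group.IsNilpotent ↥(P : Subgroup (alternatingGroup (Fin (n - 3)))) := P.isPGroup'.isNilpotent
    obtain ⟨M, hM, hc, hiso⟩ := Cfsg.Agent.NilPerm.exists_range (ψ.codRestrict _ hA)
      (fun a b h => hψ (congrArg Subtype.val h)) inferInstance
    refine ⟨M, hM, ?_, hiso⟩
    rw [hc, Nat.card_prod, mul_comm]
    simp
  · have key : ∀ N : Subgroup (alternatingGroup (Fin n)), Group.IsNilpotent N →
        Nat.card N = 3 * Nat.card P → ∃ M : Subgroup (Equiv.Perm (Fin n)), Group.IsNilpotent M ∧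
          Nat.card M = 3 * 2 ^ Cfsg.Agent.NilPerm.twoExp (n - 3) ∧
          N.map (alternatingGroup (Fin n)).subtype = M ⊓ alternatingGroup (Fin n) ∧
          ∃ x ∈ M, Equiv.Perm.sign x = -1 := by
      intro N hN hc
      obtain ⟨h1, h2, h3⟩ := Cfsg.Agent.NilPerm.map_subtype_alt N hN
      have hev : 2 ∣ Nat.card (N.map (alternatingGroup (Fin n)).subtype) := by
        have h4 : 2 * 2 ∣ 2 * Nat.card P := by
          rw [hP]
          have h5 : Cfsg.Agent.NilPerm.twoExp 4 ≤ Cfsg.Agent.NilPerm.twoExp (n - 3) :=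
            Cfsg.Agent.NilPerm.twoExp_mono (by omega)
          have : Cfsg.Agent.NilPerm.twoExp 4 = 3 := by simp [Cfsg.Agent.NilPerm.twoExp]
          exact (show (2 * 2 : ℕ) = 2 ^ 2 by norm_num) ▸ pow_dvd_pow 2 (by omega)
        rw [h3, hc]
        exact dvd_mul_of_dvd_right (Nat.dvd_of_mul_dvd_mul_left two_pos h4) 3
      obtain ⟨M, hM, hle, x, hx, hs⟩ := Cfsg.Agent.NilPerm.exists_extension _ h1 hev
      have hcM := Cfsg.Agent.NilPerm.card_even_part M hx hs
      have hMle := Cfsg.Agent.NilPerm.card_le_bound M hM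
      have hlo := Subgroup.card_le_of_le (le_inf hle h2)
      rw [h3, hc] at hlo
      rw [hb] at hMle
      refine ⟨M, hM, by omega, Subgroup.eq_of_le_of_card_ge (le_inf hle h2) (by rw [h3, hc]; omega),
        x, hx, hs⟩
    obtain ⟨M₁, hM₁, hc₁, e₁, -⟩ := key N₁ hN₁ h₁
    obtain ⟨M₂, hM₂, hc₂, e₂, x, hx, hxs⟩ := key N₂ hN₂ h₂
    obtain ⟨g, hg⟩ := Cfsg.Agent.NilPerm.exists_conj hn M₁ M₂ hM₁ hM₂ hc₁ hc₂
    obtain ⟨g', hg's, hg'⟩ : ∃ g' : Equiv.Perm (Fin n), Equiv.Perm.sign g' = 1 ∧
        M₂ = M₁.map (MulAut.conj g').toMonoidHom := by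
      rcases Int.units_eq_one_or (Equiv.Perm.sign g) with h | h
      · exact ⟨g, h, hg⟩
      · refine ⟨x * g, by rw [map_mul, hxs, h]; rfl, ?_⟩
        have hcomp : (MulAut.conj (x * g)).toMonoidHom =
            (MulAut.conj x).toMonoidHom.comp (MulAut.conj g).toMonoidHom := by rw [map_mul]; rfl
        rw [hcomp, ← Subgroup.map_map, ← hg]
        ext y
        rw [Subgroup.mem_map_equiv, MulAut.conj_symm_apply]
        constructor
        · intro hy; exact mul_mem (mul_mem (inv_mem hx) hy) hx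
        · intro hy
          have := mul_mem (mul_mem hx hy) (inv_mem hx)
          rwa [show x * (x⁻¹ * y * x) * x⁻¹ = y by group] at this
    refine ⟨⟨g', Equiv.Perm.mem_alternatingGroup.2 hg's⟩, ?_⟩
    refine Subgroup.map_injective (Subgroup.subtype_injective _) ?_
    rw [Subgroup.map_map, e₂, hg']
    have hcomm : (alternatingGroup (Fin n)).subtype.comp
        (MulAut.conj (⟨g', Equiv.Perm.mem_alternatingGroup.2 hg's⟩ : alternatingGroup (Fin n))).toMonoidHom =
        (MulAut.conj g').toMonoidHom.comp (alternatingGroup (Fin n)).subtype := rfl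
    rw [hcomm, ← Subgroup.map_map, e₁, Subgroup.map_inf _ _ _ (MulAut.conj g').injective]
    congr 1
    ext y
    rw [Subgroup.mem_map_equiv, MulAut.conj_symm_apply, Equiv.Perm.mem_alternatingGroup,
      Equiv.Perm.mem_alternatingGroup]
    simp [hg's]

end Cfsg.Agent.S2256
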