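import Cfsg.Statements.S2260

set_option autoImplicit false
open Cfsg

namespace Cfsg.Agent.S2260

theorem pow_clog_eq_zero {F : Type*} [Field F] (p : ℕ) (hp : 1 < p) (d : ℕ)
    (M : Matrix (Fin d) (Fin d) F) (hM : IsNilpotent M) : M ^ p ^ Nat.clog p d = 0 := by
  have hc := Matrix.isNilpotent_charpoly_sub_pow_of_isNilpotent hM
  rw [isNilpotent_iff_eq_zero, sub_eq_zero, Fintype.card_fin] at hc
  have hd : M ^ d = 0 := by
    have := Matrix.aeval_self_charpoly M
    rw [hc] at this
    simpa using this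
  exact pow_eq_zero_of_le (Nat.le_pow_clog hp d) hd

theorem order_dvd {F : Type*} [Field F] (p : ℕ) [Fact p.Prime] [CharP F p] (d : ℕ)
    (u : GL (Fin d) F) (hu : IsNilpotent ((u : Matrix (Fin d) (Fin d) F) - 1)) :
    orderOf u ∣ p ^ Nat.clog p d := by
  rcases Nat.eq_zero_or_pos d with rfl | hd
  · have : u = 1 := Units.ext (Subsingleton.elim _ _)
    simp [this]
  haveI : Nonempty (Fin d) := ⟨⟨0, hd⟩⟩
  apply orderOf_dvd_of_pow_eq_one
  apply Units.ext
  have h := pow_clog_eq_zero p (Fact.out : p.Prime).one_lt d _ hu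
  rw [sub_pow_char_pow_of_commute _ (Nat.clog p d) (Commute.one_right _), one_pow, sub_eq_zero] at h
  simpa using h

theorem order_eq {F : Type*} [Field F] (p : ℕ) [Fact p.Prime] [CharP F p] (d : ℕ)
    (u : GL (Fin d) F) (hu : IsNilpotent ((u : Matrix (Fin d) (Fin d) F) - 1))
    (hne : ((u : Matrix (Fin d) (Fin d) F) - 1) ^ (d - 1) ≠ 0) :
    orderOf u = p ^ Nat.clog p d := by
  have hd : 0 < d := by
    rcases Nat.eq_zero_or_pos d with rfl | hd
    · exact absurd (Subsingleton.elim _ _) hne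
    · exact hd
  haveI : Nonempty (Fin d) := ⟨⟨0, hd⟩⟩
  obtain ⟨j, hj, he⟩ := (Nat.dvd_prime_pow (Fact.out : p.Prime)).1 (order_dvd p d u hu)
  rcases Nat.lt_or_ge j (Nat.clog p d) with hlt | hge
  · exfalso
    have hpd : p ^ j < d := (Nat.lt_clog_iff_pow_lt (Fact.out : p.Prime).one_lt).1 hlt
    have h1 : (u : Matrix (Fin d) (Fin d) F) ^ p ^ j = 1 := by
      have := pow_orderOf_eq_one u
      rw [he] at this
      simpa using congrArg Units.val this
    have h2 : ((u : Matrix (Fin d) (Fin d) F) - 1) ^ p ^ j = 0 := by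
      rw [sub_pow_char_pow_of_commute _ j (Commute.one_right _), h1, one_pow, sub_self]
    exact hne (pow_eq_zero_of_le (by omega) h2)
  · rw [he, le_antisymm hj hge]

/-- Let F be a finite field of prime characteristic p and u an invertible d × d matrix over F with u − 1 nilpotent (a unipotent element). Then the order of u is at most p^⌈log_p d⌉; and if moreover (u − 1)^(d−1) ≠ 0 (u is a single Jordan block) then the order of u is exactly p^⌈log_p d⌉. -/
theorem result {F : Type*} [Field F] [Finite F] (p : ℕ) [Fact p.Prime] [CharP F p] (d : ℕ)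
    (u : GL (Fin d) F) (hu : IsNilpotent ((u : Matrix (Fin d) (Fin d) F) - 1)) :
    orderOf u ≤ p ^ Nat.clog p d ∧
    (((u : Matrix (Fin d) (Fin d) F) - 1) ^ (d - 1) ≠ 0 → orderOf u = p ^ Nat.clog p d) := by
  exact ⟨Nat.le_of_dvd (pow_pos (Fact.out : p.Prime).pos _) (order_dvd p d u hu), order_eq p d u hu⟩

end Cfsg.Agent.S2260
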