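import Cfsg.Statements.S2263
import Cfsg.Agent.Classical.PGUOrder.Upper
import Cfsg.Agent.Classical.PGUOrder.Lower

set_option autoImplicit false
open Cfsg

namespace Cfsg.Agent.S2263

/-- Let q = p^f with p prime and f ≥ 1, F a field with q² elements, d ≥ 3 with (d, q) ≠ (3, 2), and PGU_d(q) the general unitary group of the standard Hermitian form modulo its centre. Then the largest order of an element of PGU_d(q) is: q^(d−1) − 1 if d is odd and f ≥ 2; (p^(d−2) + 1)p if d is odd and f = 1; q^(d−1) + 1 if d is even and q > 2; 4(2^(d−3) + 1) if d is even and q = 2. -/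
theorem result {F : Type*} [Field F] [Fintype F] (p f d : ℕ) (hp : p.Prime) (hf : 1 ≤ f) (q : ℕ) (hq : q = p ^ f)
    (hF : Fintype.card F = q ^ 2) (hd : 3 ≤ d) (h32 : ¬ (d = 3 ∧ q = 2)) :
    (Odd d → 2 ≤ f → (∀ g : (↥(Cfsg.GU d F q) ⧸ Subgroup.center ↥(Cfsg.GU d F q)), orderOf g ≤ q ^ (d - 1) - 1) ∧ ∃ g : (↥(Cfsg.GU d F q) ⧸ Subgroup.center ↥(Cfsg.GU d F q)), orderOf g = q ^ (d - 1) - 1) ∧
    (Odd d → f = 1 → (∀ g : (↥(Cfsg.GU d F q) ⧸ Subgroup.center ↥(Cfsg.GU d F q)), orderOf g ≤ (p ^ (d - 2) + 1) * p) ∧ ∃ g : (↥(Cfsg.GU d F q) ⧸ Subgroup.center ↥(Cfsg.GU d F q)), orderOf g = (p ^ (d - 2) + 1) * p) ∧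
    (Even d → 2 < q → (∀ g : (↥(Cfsg.GU d F q) ⧸ Subgroup.center ↥(Cfsg.GU d F q)), orderOf g ≤ q ^ (d - 1) + 1) ∧ ∃ g : (↥(Cfsg.GU d F q) ⧸ Subgroup.center ↥(Cfsg.GU d F q)), orderOf g = q ^ (d - 1) + 1) ∧
    (Even d → q = 2 → (∀ g : (↥(Cfsg.GU d F q) ⧸ Subgroup.center ↥(Cfsg.GU d F q)), orderOf g ≤ 4 * (2 ^ (d - 3) + 1)) ∧ ∃ g : (↥(Cfsg.GU d F q) ⧸ Subgroup.center ↥(Cfsg.GU d F q)), orderOf g = 4 * (2 ^ (d - 3) + 1)) := by
  have hu := fun g => Agent.Classical.PGUOrder.upper p f d hp hf q hq hF hd h32 g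
  obtain ⟨l1, l2, l3, l4⟩ := Agent.Classical.PGUOrder.lower p f d hp hf q hq hF hd
  have hall : ∀ x : (↥(Cfsg.GU d F q) ⧸ Subgroup.center ↥(Cfsg.GU d F q)),
      orderOf x ≤ Agent.Classical.PGUOrder.tgt p f q d := fun x => QuotientGroup.induction_on x hu
  refine ⟨fun ho hf2 => ⟨fun x => ?_, ?_⟩, fun ho hf1 => ⟨fun x => ?_, ?_⟩, fun he hq2 => ⟨fun x => ?_, ?_⟩,
    fun he hq2 => ⟨fun x => ?_, ?_⟩⟩
  · refine (hall x).trans_eq ?_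
    rw [Agent.Classical.PGUOrder.tgt, if_pos ho, if_neg (by omega)]
  · obtain ⟨g, hg⟩ := l1 ho hf2; exact ⟨_, hg⟩
  · refine (hall x).trans_eq ?_
    rw [Agent.Classical.PGUOrder.tgt, if_pos ho, if_pos hf1]
  · obtain ⟨g, hg⟩ := l2 ho hf1; exact ⟨_, hg⟩
  · refine (hall x).trans_eq ?_
    rw [Agent.Classical.PGUOrder.tgt, if_neg (Nat.not_odd_iff_even.2 he), if_neg (by omega)]
  · obtain ⟨g, hg⟩ := l3 he hq2; exact ⟨_, hg⟩
  · refine (hall x).trans_eq ?_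
    rw [Agent.Classical.PGUOrder.tgt, if_neg (Nat.not_odd_iff_even.2 he), if_pos hq2]
  · obtain ⟨g, hg⟩ := l4 he hq2; exact ⟨_, hg⟩

end Cfsg.Agent.S2263
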