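import Cfsg.Statements.S2265
import Cfsg.Agent.FormOrder.Matrices
import Cfsg.Agent.Classical.OrthPOmega
import Cfsg.Agent.S0791

set_option autoImplicit false
open Cfsg

namespace Cfsg.Agent.S2265

open Cfsg.Agent.Classical.Quad QuadraticMap in
theorem bound {F : Type*} [Field F] [Fintype F] {ι : Type} [Fintype ι] [DecidableEq ι]
    (Q : QuadraticForm F (ι → F)) (hQ : (polarBilin Q).Nondegenerate) {m : ℕ} (hm : 2 ≤ m)
    (hn : Fintype.card ι ≤ 2 * m ∨ (3 ≤ m ∧ (2 : F) ≠ 0 ∧ Fintype.card ι ≤ 2 * m + 1))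
    (g : Cfsg.POmega F ⇑Q) : (Fintype.card F - 1) * orderOf g ≤ Fintype.card F ^ (m + 1) := by
  refine FormOrder.orderOf_quot_le
    ((Units.coeHom (Matrix ι ι F)).comp ((Cfsg.isometryGroup F ⇑Q).subtype.comp (Cfsg.Omega F ⇑Q).subtype))
    (Units.val_injective.comp (Subtype.val_injective.comp Subtype.val_injective))
    (polarBilin Q) hQ.1 (fun x u v => ?_) hm hn g
  have h := (x : Cfsg.isometryGroup F ⇑Q).2
  simp only [polarBilin_apply_apply, QuadraticMap.polar, MonoidHom.comp_apply, Subgroup.coe_subtype]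
  rw [← Matrix.mulVec_add]
  exact congrArg₂ (· - ·) (congrArg₂ (· - ·) (h (u + v) 0) (h u 0)) (h v 0)

/-- Let F be a finite field with q elements. Every element g of PΩ_(2m+1)(F) (m ≥ 3, q odd), of PΩ⁺_2m(F) (m ≥ 4), or of PΩ⁻_2m(F) (m ≥ 4, the form having an anisotropic binary part) satisfies (q − 1)·|g| ≤ q^(m+1), i.e. has order at most q^(m+1)/(q − 1). -/
theorem result {F : Type*} [Field F] [Fintype F] (m : ℕ) :
    (3 ≤ m → Odd (Fintype.card F) → ∀ g : Cfsg.POmega F (Cfsg.quadFormOdd m F),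
      (Fintype.card F - 1) * orderOf g ≤ Fintype.card F ^ (m + 1)) ∧
    (4 ≤ m → ∀ g : Cfsg.POmega F (Cfsg.quadFormPlus m F),
      (Fintype.card F - 1) * orderOf g ≤ Fintype.card F ^ (m + 1)) ∧
    (4 ≤ m → ∀ a b : F, (∀ z₁ z₂ : F, z₁ ^ 2 + a * z₁ * z₂ + b * z₂ ^ 2 = 0 → z₁ = 0 ∧ z₂ = 0) →
      ∀ g : Cfsg.POmega F (Cfsg.quadFormMinus (m - 1) F a b),
      (Fintype.card F - 1) * orderOf g ≤ Fintype.card F ^ (m + 1)) := by
  open Cfsg.Agent.Classical.Quad QuadraticMap in
    refine ⟨fun hm hodd => ?_, fun hm => ?_, fun hm a b hab => ?_⟩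
    · have h2 : (2 : F) ≠ 0 := Ring.two_ne_zero fun h => by
        have h' := FiniteField.even_card_of_char_two h
        obtain ⟨r, hr⟩ := hodd
        omega
      let Q : QuadraticForm F (Unit ⊕ (Fin m ⊕ Fin m) → F) := (hyp (sqForm F) m).comp (oddCoord m).toLinearMap
      have hQe : ⇑Q = Cfsg.quadFormOdd m F := funext fun x => by simp [Q, oddCoord_map]
      have hQ : (polarBilin Q).Nondegenerate :=
        Iso.nondeg (Iso.symm ⟨oddCoord m, fun x => by simp [Q]⟩) (nondeg_hyp (nondeg_sqForm h2) m)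
      rw [← hQe]
      exact bound Q hQ (m := m) (by omega) (Or.inr ⟨hm, h2, by simp; omega⟩)
    · let Q : QuadraticForm F (Fin m ⊕ Fin m → F) := (hyp (zeroForm F) m).comp (plusCoord m).toLinearMap
      have hQe : ⇑Q = Cfsg.quadFormPlus m F := funext fun x => by simp [Q, plusCoord_map]
      have hQ : (polarBilin Q).Nondegenerate :=
        Iso.nondeg (Iso.symm ⟨plusCoord m, fun x => by simp [Q]⟩) (nondeg_hyp nondeg_zeroForm m)
      rw [← hQe]
      exact bound Q hQ (m := m) (by omega) (Or.inl (by simp; omega))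
    · obtain ⟨k, rfl⟩ : ∃ k, m = k + 1 := ⟨m - 1, by omega⟩
      rw [Nat.add_sub_cancel]
      let Q : QuadraticForm F ((Fin k ⊕ Fin k) ⊕ Fin 2 → F) := (hyp (binForm a b) k).comp (minusCoord k).toLinearMap
      have hQe : ⇑Q = Cfsg.quadFormMinus k F a b := funext fun x => by simp [Q, minusCoord_map]
      have hQ : (polarBilin Q).Nondegenerate :=
        Iso.nondeg (Iso.symm ⟨minusCoord k, fun x => by simp [Q]⟩) (nondeg_hyp (nondeg_binForm hab) k)
      rw [← hQe]
      exact bound Q hQ (m := k + 1) (by omega) (Or.inl (by simp; omega))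

end Cfsg.Agent.S2265
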