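import Cfsg.Statements.S2268

set_option autoImplicit false
open Cfsg

namespace Cfsg.Agent.S2268

/-- Let G be a finite group with an abelian Sylow p-subgroup P and let Q ≤ P. Then N_G(Q) = (N_G(Q) ∩ N_G(P))·C_G(Q), so that N_G(Q)/C_G(Q) is a homomorphic image of the subgroup (N_G(Q) ∩ N_G(P))/C_G(P) of N_G(P)/C_G(P); in particular the order of N_G(Q)/C_G(Q) divides the order of N_G(P)/C_G(P). -/
theorem result {G : Type*} [Group G] [Finite G] {p : ℕ} [Fact p.Prime]
    (P : Sylow p G) (hP : IsMulCommutative (P : Subgroup G)) (Q : Subgroup G) (hQ : Q ≤ (P : Subgroup G)) :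
    Subgroup.normalizer (Q : Set G) =
      (Subgroup.normalizer (Q : Set G) ⊓ Subgroup.normalizer ((P : Subgroup G) : Set G)) ⊔ Subgroup.centralizer (Q : Set G) ∧
    ((Subgroup.centralizer (Q : Set G)).subgroupOf (Subgroup.normalizer (Q : Set G))).index ∣ ((Subgroup.centralizer ((P : Subgroup G) : Set G)).subgroupOf (Subgroup.normalizer ((P : Subgroup G) : Set G))).index := by
  classical
  set N := Subgroup.normalizer (Q : Set G) with hN
  set C := Subgroup.centralizer (Q : Set G) with hC
  set NP := Subgroup.normalizer ((P : Subgroup G) : Set G) with hNP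
  set CP := Subgroup.centralizer ((P : Subgroup G) : Set G) with hCP
  have hcn : ∀ (S : Subgroup G), Subgroup.centralizer (S : Set G) ≤ Subgroup.normalizer (S : Set G) := by
    intro S c hc
    rw [Subgroup.mem_normalizer_iff]
    intro h
    constructor
    · intro hh
      rw [← Subgroup.mem_centralizer_iff.1 hc h hh, mul_inv_cancel_right]
      exact hh
    · intro hh
      have := Subgroup.mem_centralizer_iff.1 hc _ hh
      have e : c * h * c⁻¹ = h := by
        have := congrArg (fun x => c⁻¹ * x) this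
        simpa [mul_assoc] using this.symm
      rwa [e] at hh
  have hCN : C ≤ N := hcn Q
  have hPC : (P : Subgroup G) ≤ C := by
    intro x hx
    rw [hC, Subgroup.mem_centralizer_iff]
    intro y hy
    exact Subtype.ext_iff.1 (hP.is_comm.comm ⟨y, hQ hy⟩ ⟨x, hx⟩)
  have hCPC : CP ≤ C := Subgroup.centralizer_le hQ
  have hCPNP : CP ≤ NP := hcn (P : Subgroup G)
  have hnormal : (C.subgroupOf N).Normal := by
    constructor
    rintro ⟨c, hcN⟩ hc ⟨g, hg⟩
    rw [Subgroup.mem_subgroupOf] at hc ⊢
    simp only [Subgroup.coe_mul, Subgroup.coe_inv]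
    rw [hC, Subgroup.mem_centralizer_iff]
    intro y hy
    have hy' : g⁻¹ * y * g ∈ Q := by
      have := (Subgroup.mem_normalizer_iff.1 (N.inv_mem hg) y).1 hy
      simpa using this
    have e := Subgroup.mem_centralizer_iff.1 hc _ hy'
    have e2 := congrArg (fun x => g * x * g⁻¹) e
    simpa [mul_assoc] using e2
  let PN : Sylow p N := P.subtype (hPC.trans hCN)
  have htop : (N ⊓ NP).subgroupOf N ⊔ C.subgroupOf N = ⊤ := by
    have h := Sylow.normalizer_sup_eq_top' (N := C.subgroupOf N) PN (by
      intro x hx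
      exact hPC hx)
    rw [eq_top_iff, ← h]
    refine sup_le_sup_right ?_ _
    intro x hx
    rw [Subgroup.mem_subgroupOf, Subgroup.mem_inf]
    refine ⟨x.2, ?_⟩
    rw [hNP, Subgroup.mem_normalizer_iff]
    intro y
    constructor
    · intro hy
      exact (Subgroup.mem_normalizer_iff.1 hx ⟨y, hCN (hPC hy)⟩).1 hy
    · intro hy
      have hyN : y ∈ N := by
        have := hCN (hPC hy)
        have h2 := N.mul_mem (N.mul_mem (N.inv_mem x.2) this) x.2
        simpa [mul_assoc] using h2
      exact (Subgroup.mem_normalizer_iff.1 hx ⟨y, hyN⟩).2 hy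
  constructor
  · apply le_antisymm
    · intro g hg
      have hm : (⟨g, hg⟩ : N) ∈ (N ⊓ NP).subgroupOf N ⊔ C.subgroupOf N := by
        rw [htop]; exact Subgroup.mem_top _
      have h2 := Subgroup.mem_map_of_mem N.subtype hm
      rw [Subgroup.map_sup, Subgroup.subgroupOf_map_subtype, Subgroup.subgroupOf_map_subtype,
        inf_of_le_left hCN, inf_of_le_left (inf_le_left : N ⊓ NP ≤ N)] at h2
      exact h2
    · exact sup_le inf_le_left hCN
  · have hKN : N ⊓ NP ≤ N := inf_le_left
    have h1 : (C.subgroupOf N).index = C.relIndex (N ⊓ NP) := by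
      rw [← Subgroup.relIndex_top_right, ← htop, Subgroup.relIndex_sup_right,
        Subgroup.relIndex_subgroupOf hKN]
    have hCPK : CP ≤ N ⊓ NP := le_inf (hCPC.trans hCN) hCPNP
    rw [h1]
    change C.relIndex (N ⊓ NP) ∣ CP.relIndex NP
    rw [← Subgroup.relIndex_mul_relIndex CP (N ⊓ NP) NP hCPK inf_le_right]
    exact Dvd.dvd.mul_right (Subgroup.relIndex_dvd_of_le_left _ hCPC) _

end Cfsg.Agent.S2268
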