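import Cfsg.Statements.S2269
import Cfsg.Agent.SymSylow.Alt

set_option autoImplicit false
open Cfsg

namespace Cfsg.Agent.S2269

/-- Let n ≥ 5 and let P be an abelian Sylow p-subgroup of the alternating group A_n. Then N(P)/C(P) (taken in A_n) has even order, or P is cyclic, except when n = 5 and p = 2, where P is a four-group and N(P)/C(P) has order 3. -/
theorem result (n : ℕ) (hn : 5 ≤ n) {p : ℕ} [Fact p.Prime]
    (P : Sylow p (alternatingGroup (Fin n))) (hP : IsMulCommutative (P : Subgroup (alternatingGroup (Fin n)))) :
    (¬ (n = 5 ∧ p = 2) → 2 ∣ ((Subgroup.centralizer ((P : Subgroup (alternatingGroup (Fin n))) : Set (alternatingGroup (Fin n)))).subgroupOf (Subgroup.normalizer ((P : Subgroup (alternatingGroup (Fin n))) : Set (alternatingGroup (Fin n))))).index ∨ IsCyclic (P : Subgroup (alternatingGroup (Fin n)))) ∧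
    ((n = 5 ∧ p = 2) → ((Subgroup.centralizer ((P : Subgroup (alternatingGroup (Fin n))) : Set (alternatingGroup (Fin n)))).subgroupOf (Subgroup.normalizer ((P : Subgroup (alternatingGroup (Fin n))) : Set (alternatingGroup (Fin n))))).index = 3 ∧ IsKleinFour (P : Subgroup (alternatingGroup (Fin n)))) := by
  classical
  set NP := Subgroup.normalizer ((P : Subgroup (alternatingGroup (Fin n))) : Set (alternatingGroup (Fin n))) with hNP
  set CP := Subgroup.centralizer ((P : Subgroup (alternatingGroup (Fin n))) : Set (alternatingGroup (Fin n))) with hCP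
  set P' : Subgroup (alternatingGroup (Fin n)) := (P : Subgroup (alternatingGroup (Fin n))) with hP'
  haveI : Nontrivial (Fin n) := Fin.nontrivial_iff_two_le.2 (by omega)
  have hker : P'.normalizerMonoidHom.ker = CP.subgroupOf NP := Subgroup.normalizerMonoidHom_ker _
  haveI hnormal : (CP.subgroupOf NP).Normal := hker ▸ MonoidHom.normal_ker _
  refine ⟨fun hne => ?_, ?_⟩
  · rcases eq_or_ne p 2 with rfl | hp2
    · exact absurd hP (Cfsg.Agent.SymSylow.sylow_alt_not_comm (by omega) P)
    have hp : p.Prime := Fact.out
    by_cases hsmall : n < p + 2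
    · right
      have h2 : 2 * Nat.card (alternatingGroup (Fin n)) = n.factorial := by
        rw [two_mul_nat_card_alternatingGroup, Nat.card_perm, Nat.card_fin]
      have hfac : (Nat.card (alternatingGroup (Fin n))).factorization p ≤ 1 := by
        have h3 : (Nat.card (alternatingGroup (Fin n))).factorization p = n.factorial.factorization p := by
          rw [← h2, Nat.factorization_mul (by norm_num) Nat.card_pos.ne', Finsupp.add_apply,
            Nat.factorization_eq_zero_of_not_dvd (n := 2) (fun h => hp2 ((Nat.prime_dvd_prime_iff_eq hp Nat.prime_two).1 h)), zero_add]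
        rw [h3, Nat.factorization_factorial hp (b := 2) (Nat.log_lt_of_lt_pow (by omega) (by nlinarith [hp.two_le]))]
        simp only [Finset.sum_Ico_succ_top (le_refl 1), Finset.Ico_self, Finset.sum_empty, pow_one, zero_add]
        rw [Nat.div_le_iff_le_mul_add_pred hp.pos]
        have := hp.two_le
        omega
      have hcard : Nat.card P' = p ^ (Nat.card (alternatingGroup (Fin n))).factorization p := P.card_eq_multiplicity
      interval_cases h : (Nat.card (alternatingGroup (Fin n))).factorization p
      · haveI : Subsingleton P' := (Nat.card_eq_one_iff_unique.1 (by simpa using hcard)).1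
        exact isCyclic_of_subsingleton
      · exact isCyclic_of_prime_card (by simpa using hcard)
    left
    have hp3 : 3 ≤ p := by have := hp.two_le; omega
    let f : Fin p ≃ {i : Fin n // i.val < p} :=
      { toFun := fun i => ⟨⟨i.val, by omega⟩, i.isLt⟩
        invFun := fun i => ⟨i.1.val, i.2⟩
        left_inv := fun i => rfl
        right_inv := fun i => rfl }
    set y : Equiv.Perm (Fin n) := (finRotate p).extendDomain f with hy
    have hys : y.support.card = p := by
      rw [hy, Equiv.Perm.card_support_extend_domain, support_finRotate_of_le (by omega), Finset.card_univ,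
        Fintype.card_fin]
    have hyA : y ∈ alternatingGroup (Fin n) := by
      rw [Equiv.Perm.mem_alternatingGroup, hy, Equiv.Perm.sign_extendDomain, sign_finRotate]
      exact ((hp.even_sub_one hp2).neg_one_pow)
    have hyord : orderOf (⟨y, hyA⟩ : alternatingGroup (Fin n)) = p := by
      rw [← Subgroup.orderOf_coe]
      show orderOf y = p
      rw [← Equiv.Perm.lcm_cycleType, hy, Equiv.Perm.cycleType_extendDomain, cycleType_finRotate_of_le (by omega),
        Multiset.lcm_singleton, normalize_eq]
    have hyp : IsPGroup p (Subgroup.zpowers (⟨y, hyA⟩ : alternatingGroup (Fin n))) :=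
      IsPGroup.of_card (n := 1) (by rw [Nat.card_zpowers, hyord, pow_one])
    obtain ⟨Q, hQ⟩ := hyp.exists_le_sylow
    obtain ⟨c, hc⟩ := MulAction.exists_smul_eq (alternatingGroup (Fin n)) P Q
    have hx0 : c⁻¹ * (⟨y, hyA⟩ : alternatingGroup (Fin n)) * c ∈ P' := by
      have := hQ (Subgroup.mem_zpowers _)
      rw [← hc, Sylow.coe_subgroup_smul, Subgroup.mem_pointwise_smul_iff_inv_smul_mem] at this
      simpa [MulAut.smul_def, MulAut.inv_def] using this
    set x : alternatingGroup (Fin n) := c⁻¹ * ⟨y, hyA⟩ * c with hx
    have hxord : orderOf x = p := by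
      rw [hx, ← hyord]
      exact orderOf_injective (MulAut.conj c⁻¹).toMonoidHom (MulEquiv.injective _) ⟨y, hyA⟩ |>.symm ▸ by
        simp [MulAut.conj_apply]
    have hx1 : x ≠ 1 := fun e => by rw [e, orderOf_one] at hxord; omega
    obtain ⟨g, hg⟩ : ∃ g, g⁻¹ * x * g = x⁻¹ := by
      have hconj : IsConj x x⁻¹ := by
        refine alternatingGroup.isConj_of ?_ ?_
        · rw [Subgroup.coe_inv, Equiv.Perm.isConj_iff_cycleType_eq, Equiv.Perm.cycleType_inv]
        · have : ((x : Equiv.Perm (Fin n))).support.card = y.support.card := by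
            rw [← Equiv.Perm.sum_cycleType, ← Equiv.Perm.sum_cycleType, hx, Subgroup.coe_mul, Subgroup.coe_mul,
              Subgroup.coe_inv]
            congr 1
            simpa using Equiv.Perm.cycleType_conj (σ := y) (τ := ((c : Equiv.Perm (Fin n)))⁻¹)
          rw [this, hys, Fintype.card_fin]
          omega
      obtain ⟨c', hc'⟩ := isConj_iff.1 hconj
      exact ⟨c'⁻¹, by simpa using hc'⟩
    haveI := hP
    obtain ⟨m, hm, hmx⟩ := P.conj_eq_normalizer_conj_of_mem x g hx0 (by rw [hg]; exact inv_mem hx0)
    rw [hg] at hmx
    by_contra hodd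
    set k := (CP.subgroupOf NP).index with hk
    have hmem : ((⟨m, hm⟩ : NP) ^ k) ∈ CP.subgroupOf NP := Subgroup.pow_index_mem _ _
    rw [Subgroup.mem_subgroupOf] at hmem
    simp only [Subgroup.coe_pow] at hmem
    have key : ∀ j : ℕ, (m⁻¹) ^ j * x * m ^ j = if Even j then x else x⁻¹ := by
      intro j
      induction j with
      | zero => simp
      | succ j ih =>
        have h3 : (m⁻¹) ^ (j + 1) * x * m ^ (j + 1) = m⁻¹ * ((m⁻¹) ^ j * x * m ^ j) * m := by
          rw [pow_succ', pow_succ]; group
        rw [h3, ih]
        by_cases hj : Even j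
        · rw [if_pos hj, if_neg (by simpa [Nat.even_add_one] using hj), ← hmx]
        · rw [if_neg hj, if_pos (by simpa [Nat.even_add_one] using hj)]
          have := congrArg (fun y => y⁻¹) hmx
          simpa [mul_assoc] using this.symm
    have h4 := key k
    rw [if_neg (fun h => hodd (even_iff_two_dvd.1 h))] at h4
    have h5 : x * m ^ k = m ^ k * x := Subgroup.mem_centralizer_iff.1 hmem x hx0
    rw [inv_pow, mul_assoc, h5, inv_mul_cancel_left] at h4
    have h6 : x ^ 2 = 1 := by rw [pow_two]; nth_rewrite 2 [h4]; exact mul_inv_cancel x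
    have := Nat.le_of_dvd (by norm_num) ((orderOf_dvd_iff_pow_eq_one).2 h6)
    omega
  · rintro ⟨rfl, rfl⟩
    have hcard5 : Nat.card (alternatingGroup (Fin 5)) = 60 := by
      rw [nat_card_alternatingGroup, Nat.card_fin]; rfl
    have h4 : Nat.card P' = 4 := by
      rw [hP', P.card_eq_multiplicity, hcard5]
      rw [show (60 : ℕ) = 2 ^ 2 * 15 by norm_num, Nat.factorization_mul (by norm_num) (by norm_num),
        Finsupp.add_apply, Nat.Prime.factorization_pow Nat.prime_two, Finsupp.single_eq_same,
        Nat.factorization_eq_zero_of_not_dvd (by norm_num : ¬ 2 ∣ 15), add_zero]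
      norm_num
    have hnoc : ¬ IsCyclic P' := by
      intro h
      obtain ⟨⟨z, hz⟩, hz'⟩ := h.exists_generator
      have hzord : orderOf z = 4 := by
        have := orderOf_eq_card_of_forall_mem_zpowers hz'
        rwa [h4, ← Subgroup.orderOf_coe] at this
      rw [← Subgroup.orderOf_coe] at hzord
      set w : Equiv.Perm (Fin 5) := (z : Equiv.Perm (Fin 5)) with hw
      have hlcm : w.cycleType.lcm = 4 := by rw [Equiv.Perm.lcm_cycleType, hzord]
      obtain ⟨a, ha, ha4⟩ : ∃ a ∈ w.cycleType, 4 ∣ a := by
        by_contra h2
        push_neg at h2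
        have : w.cycleType.lcm ∣ 2 := Multiset.lcm_dvd.2 fun a ha => by
          have h3 : a ∣ 4 := hlcm ▸ Multiset.dvd_lcm ha
          have h4 := Nat.le_of_dvd (by norm_num) h3
          have h5 := Equiv.Perm.two_le_of_mem_cycleType ha
          have h6 := h2 a ha
          interval_cases a <;> omega
        rw [hlcm] at this
        norm_num at this
      have ha5 : a ≤ 5 := by
        have := Multiset.le_sum_of_mem ha
        rw [Equiv.Perm.sum_cycleType] at this
        exact this.trans (w.support.card_le_univ.trans (by simp))
      have ha2 := Equiv.Perm.two_le_of_mem_cycleType ha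
      have ha' : a = 4 := by omega
      obtain ⟨t, ht⟩ := Multiset.exists_cons_of_mem ha
      have ht0 : t = 0 := by
        rcases t.empty_or_exists_mem with h | ⟨b, hb⟩
        · exact h
        · exfalso
          have := Equiv.Perm.two_le_of_mem_cycleType (show b ∈ w.cycleType by rw [ht]; exact Multiset.mem_cons_of_mem hb)
          have h2 := Multiset.le_sum_of_mem hb
          have h3 : w.cycleType.sum ≤ 5 := by
            rw [Equiv.Perm.sum_cycleType]; exact w.support.card_le_univ.trans (by simp)
          rw [ht, Multiset.sum_cons] at h3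
          omega
      have hs : Equiv.Perm.sign w = 1 := z.2
      rw [Equiv.Perm.sign_of_cycleType, ht, ht0, ha'] at hs
      exact absurd hs (by decide)
    haveI hk : IsKleinFour P' := ⟨h4, by
      have hdvd : Monoid.exponent P' ∣ 4 := h4 ▸ Group.exponent_dvd_nat_card
      have hne4 : Monoid.exponent P' ≠ 4 := fun e => hnoc (by
        letI : CommGroup P' := { (inferInstance : Group P') with mul_comm := hP.is_comm.comm }
        exact IsCyclic.of_exponent_eq_card (by rw [e, h4]))
      have hne1 : Monoid.exponent P' ≠ 1 := fun e => by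
        haveI := Monoid.exp_eq_one_iff.1 e
        rw [Nat.card_unique] at h4; omega
      obtain ⟨i, hi, he⟩ := (Nat.dvd_prime_pow Nat.prime_two (m := 2)).1 (by simpa using hdvd)
      interval_cases i <;> simp_all⟩
    refine ⟨?_, hk⟩
    have hPC : P' ≤ CP := fun a ha => Subgroup.mem_centralizer_iff.2 fun b hb =>
      congrArg Subtype.val (hP.is_comm.comm ⟨b, hb⟩ ⟨a, ha⟩)
    have hodd : ¬ 2 ∣ (CP.subgroupOf NP).index := by
      intro h
      have h1 : CP.relIndex NP ∣ P'.index :=
        (Subgroup.relIndex_dvd_of_le_left NP hPC).trans (Subgroup.relIndex_dvd_index_of_le Subgroup.le_normalizer)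
      exact P.not_dvd_index (h.trans h1)
    have h24 : (CP.subgroupOf NP).index ∣ 24 := by
      have h1 : Nat.card P'.normalizerMonoidHom.range ∣ Nat.card (MulAut P') := Subgroup.card_subgroup_dvd_card _
      have h2 : Nat.card (MulAut P') ∣ Nat.card (Equiv.Perm P') :=
        Subgroup.card_dvd_of_injective (MulAut.toPerm P') MulEquiv.toEquiv_injective
      rw [← hker, Subgroup.index_ker]
      rw [Nat.card_perm, h4] at h2
      exact h1.trans h2
    have hne1 : (CP.subgroupOf NP).index ≠ 1 := by
      intro h
      rw [Subgroup.index_eq_one, Subgroup.subgroupOf_eq_top] at h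
      have hsimple : IsSimpleGroup (alternatingGroup (Fin 5)) := alternatingGroup.isSimpleGroup (by simp)
      have htr := MonoidHom.ker_transferSylow_isComplement' P h
      rcases (inferInstance : (MonoidHom.transferSylow P h).ker.Normal).eq_bot_or_eq_top with e | e
      · have := htr.card_mul
        rw [e, Subgroup.card_bot, one_mul, ← hP', h4, hcard5] at this
        omega
      · have := htr.card_mul
        rw [e, Subgroup.card_top, ← hP', h4, hcard5] at this
        omega
    have hd : (CP.subgroupOf NP).index ∣ 24 := h24
    have := Nat.le_of_dvd (by norm_num) hd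
    interval_cases h : (CP.subgroupOf NP).index <;> omega

end Cfsg.Agent.S2269
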