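import Cfsg.Statements.S2270

set_option autoImplicit false
open Cfsg

namespace Cfsg.Agent.S2270

/-- Let n ≥ 3, p an odd prime, and P an abelian Sylow p-subgroup of the symmetric group S_n (with p dividing n!, so that P ≠ 1). Then N(P)/C(P) has even order. -/
theorem result (n : ℕ) (hn : 3 ≤ n) {p : ℕ} [Fact p.Prime] (hp : p ≠ 2) (hpn : p ≤ n)
    (P : Sylow p (Equiv.Perm (Fin n))) (hP : IsMulCommutative (P : Subgroup (Equiv.Perm (Fin n)))) :
    2 ∣ ((Subgroup.centralizer ((P : Subgroup (Equiv.Perm (Fin n))) : Set (Equiv.Perm (Fin n)))).subgroupOf (Subgroup.normalizer ((P : Subgroup (Equiv.Perm (Fin n))) : Set (Equiv.Perm (Fin n))))).index := by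
  classical
  set NP := Subgroup.normalizer ((P : Subgroup (Equiv.Perm (Fin n))) : Set (Equiv.Perm (Fin n)))
  set CP := Subgroup.centralizer ((P : Subgroup (Equiv.Perm (Fin n))) : Set (Equiv.Perm (Fin n)))
  have hdvd : p ∣ Nat.card (Equiv.Perm (Fin n)) := by
    rw [Nat.card_perm, Nat.card_fin]
    exact (Nat.Prime.dvd_factorial (Fact.out : p.Prime)).2 hpn
  obtain ⟨⟨x, hx⟩, hx0⟩ := Subgroup.ne_bot_iff_exists_ne_one.1 (P.ne_bot_of_dvd_card hdvd)
  have hx1 : x ≠ 1 := fun e => hx0 (Subtype.ext e)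
  obtain ⟨g, hg⟩ : ∃ g, g⁻¹ * x * g = x⁻¹ := by
    have : IsConj x x⁻¹ := by
      rw [Equiv.Perm.isConj_iff_cycleType_eq, Equiv.Perm.cycleType_inv]
    obtain ⟨c, hc⟩ := isConj_iff.1 this
    exact ⟨c⁻¹, by simpa using hc⟩
  haveI := hP
  obtain ⟨m, hm, hmx⟩ := P.conj_eq_normalizer_conj_of_mem x g hx (by rw [hg]; exact inv_mem hx)
  rw [hg] at hmx
  have hnormal : (CP.subgroupOf NP).Normal := by
    constructor
    rintro ⟨c, hcN⟩ hc ⟨g, hg⟩
    rw [Subgroup.mem_subgroupOf] at hc ⊢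
    simp only [Subgroup.coe_mul, Subgroup.coe_inv]
    rw [Subgroup.mem_centralizer_iff]
    intro y hy
    have hy' : g⁻¹ * y * g ∈ (P : Subgroup (Equiv.Perm (Fin n))) := by
      have := (Subgroup.mem_normalizer_iff.1 (NP.inv_mem hg) y).1 hy
      simpa using this
    have e := Subgroup.mem_centralizer_iff.1 hc _ hy'
    have e2 := congrArg (fun x => g * x * g⁻¹) e
    simpa [mul_assoc] using e2
  by_contra hodd
  set k := (CP.subgroupOf NP).index with hk
  have hmem : ((⟨m, hm⟩ : NP) ^ k) ∈ CP.subgroupOf NP := Subgroup.pow_index_mem _ _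
  rw [Subgroup.mem_subgroupOf] at hmem
  simp only [Subgroup.coe_pow] at hmem
  have key : ∀ j : ℕ, (m⁻¹) ^ j * x * m ^ j = if Even j then x else x⁻¹ := by
    intro j
    induction j with
    | zero => simp
    | succ j ih =>
      have h3 : (m⁻¹) ^ (j + 1) * x * m ^ (j + 1) = m⁻¹ * ((m⁻¹) ^ j * x * m ^ j) * m := by
        rw [pow_succ', pow_succ]; group
      rw [h3, ih]
      by_cases hj : Even j
      · rw [if_pos hj, if_neg (by simpa [Nat.even_add_one] using hj), ← hmx]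
      · rw [if_neg hj, if_pos (by simpa [Nat.even_add_one] using hj)]
        have := congrArg (fun y => y⁻¹) hmx
        simpa [mul_assoc] using this.symm
  have h4 := key k
  rw [if_neg (fun h => hodd (even_iff_two_dvd.1 h))] at h4
  have h5 : x * m ^ k = m ^ k * x := Subgroup.mem_centralizer_iff.1 hmem x hx
  rw [mul_assoc, h5, ← mul_assoc, inv_pow, inv_mul_cancel, one_mul] at h4
  have h6 : x ^ 2 = 1 := by rw [pow_two]; nth_rewrite 2 [h4]; exact mul_inv_cancel x
  obtain ⟨e, he⟩ := P.2 ⟨x, hx⟩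
  have he' : x ^ p ^ e = 1 := by simpa using congrArg Subtype.val he
  have hcop : Nat.Coprime 2 (p ^ e) :=
    ((Nat.coprime_primes Nat.prime_two (Fact.out : p.Prime)).2 (Ne.symm hp)).pow_right e
  have h7 := (orderOf_dvd_iff_pow_eq_one).2 h6
  have h8 := (orderOf_dvd_iff_pow_eq_one).2 he'
  have h9 := Nat.dvd_gcd h7 h8
  rw [hcop.gcd_eq_one, Nat.dvd_one, orderOf_eq_one_iff] at h9
  exact hx1 h9

end Cfsg.Agent.S2270
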