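import Cfsg.Statements.S2271
import Mathlib

set_option autoImplicit false
open Cfsg

namespace Cfsg.Agent.S2271

open Equiv

variable {n : ℕ}

/-- Edge multiplicity of the graph of `b`. -/
def edge (b : Perm (Fin n)) (x y : Fin n) : ℤ :=
  (if b x = y then 1 else 0) + (if b y = x then 1 else 0)

theorem edge_comm (b : Perm (Fin n)) (x y : Fin n) : edge b x y = edge b y x := add_comm _ _

theorem sum_edge (b : Perm (Fin n)) (x : Fin n) : ∑ y, edge b x y = 2 := by
  have h : ∀ y, (b y = x ↔ y = b⁻¹ x) := fun y => ⟨fun h => by simp [← h], fun h => by simp [h]⟩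
  simp [edge, Finset.sum_add_distrib, h]

/-- Some quadruple has non-constant matching sums. -/
theorem exists_quad (hn : 5 ≤ n) (b : Perm (Fin n)) (hb : b ≠ 1) :
    ∃ x y z w : Fin n, x ≠ y ∧ x ≠ z ∧ x ≠ w ∧ y ≠ z ∧ y ≠ w ∧ z ≠ w ∧
      edge b x y + edge b z w ≠ edge b x z + edge b y w := by
  by_contra hcon
  push_neg at hcon
  obtain ⟨x0, hx0⟩ : ∃ x, b x ≠ x := by
    by_contra h
    push_neg at h
    exact hb (Equiv.ext h)
  have huniv : ∀ i j : Fin n, i ≠ j → ((Finset.univ.erase i).erase j).card = n - 2 := fun i j hij => by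
    rw [Finset.card_erase_of_mem (Finset.mem_erase.2 ⟨hij.symm, Finset.mem_univ _⟩),
      Finset.card_erase_of_mem (Finset.mem_univ _), Finset.card_univ, Fintype.card_fin]
    omega
  by_cases hfix : ∃ v, b v = v
  · obtain ⟨v, hv⟩ := hfix
    have hev : ∀ i, i ≠ v → edge b v i = 0 := fun i hi => by
      have h1 : b v ≠ i := by rw [hv]; exact hi.symm
      have h2 : b i ≠ v := fun h => hi (b.injective (h.trans hv.symm))
      simp [edge, h1, h2]
    have key : ∀ i j k, i ≠ v → j ≠ v → k ≠ v → i ≠ j → i ≠ k → j ≠ k → edge b i j = edge b i k := by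
      intro i j k hi hj hk hij hik hjk
      have h := hcon i j k v hij hik hi hjk hj hk
      rw [edge_comm b k v, hev k hk, edge_comm b j v, hev j hj, add_zero, add_zero] at h
      exact h
    have hxv : x0 ≠ v := fun h => hx0 (h ▸ hv)
    have hyv : b x0 ≠ v := fun h => hxv (b.injective (h.trans hv.symm))
    have hdiag : edge b x0 x0 = 0 := by simp [edge, hx0]
    have hs := sum_edge b x0
    rw [← Finset.add_sum_erase _ _ (Finset.mem_univ x0), hdiag, zero_add,
      ← Finset.add_sum_erase _ _ (Finset.mem_erase.2 ⟨hxv.symm, Finset.mem_univ v⟩),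
      edge_comm, hev x0 hxv, zero_add,
      Finset.sum_congr rfl (fun j hj => show edge b x0 j = edge b x0 (b x0) by
        simp only [Finset.mem_erase] at hj
        rcases eq_or_ne j (b x0) with h | h
        · rw [h]
        · exact key x0 j (b x0) hxv hj.1 hyv hj.2.1.symm (Ne.symm hx0) h)] at hs
    rw [Finset.sum_const, huniv x0 v hxv, nsmul_eq_mul] at hs
    have hpos : 1 ≤ edge b x0 (b x0) := by
      simp only [edge, if_true]; split_ifs <;> norm_num
    have : (3 : ℤ) ≤ ((n - 2 : ℕ) : ℤ) := by exact_mod_cast (show 3 ≤ n - 2 by omega)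
    nlinarith
  · push_neg at hfix
    have hdiag : ∀ i, edge b i i = 0 := fun i => by simp [edge, hfix i]
    have key : ∀ i j k, i ≠ j → i ≠ k → j ≠ k → edge b i j = edge b i k := by
      intro i j k hij hik hjk
      set U := ((Finset.univ.erase i).erase j).erase k with hU
      have hcard : U.card = n - 3 := by
        rw [hU, Finset.card_erase_of_mem (Finset.mem_erase.2 ⟨hjk.symm, Finset.mem_erase.2 ⟨hik.symm, Finset.mem_univ _⟩⟩),
          huniv i j hij]
        omega
      have hrow : ∀ r, edge b r i + edge b r j + edge b r k + ∑ l ∈ U, edge b r l = 2 := fun r => by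
        rw [← sum_edge b r, ← Finset.add_sum_erase _ _ (Finset.mem_univ i),
          ← Finset.add_sum_erase _ _ (Finset.mem_erase.2 ⟨hij.symm, Finset.mem_univ j⟩),
          ← Finset.add_sum_erase _ _ (Finset.mem_erase.2 ⟨hjk.symm, Finset.mem_erase.2 ⟨hik.symm, Finset.mem_univ k⟩⟩)]
        rw [hU]; ring
      have hsum : ∑ l ∈ U, (edge b i j + edge b k l) = ∑ l ∈ U, (edge b i k + edge b j l) := by
        refine Finset.sum_congr rfl fun l hl => ?_
        simp only [hU, Finset.mem_erase] at hl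
        exact hcon i j k l hij hik hl.2.2.1.symm hjk hl.2.1.symm hl.1.symm
      simp only [Finset.sum_add_distrib, Finset.sum_const, hcard, nsmul_eq_mul] at hsum
      have hk := hrow k
      have hj := hrow j
      rw [hdiag k, edge_comm b k i, edge_comm b k j] at hk
      rw [hdiag j, edge_comm b j i] at hj
      have h3 : ((n - 3 : ℕ) : ℤ) + 1 ≠ 0 := by omega
      have h4 : (((n - 3 : ℕ) : ℤ) + 1) * (edge b i j - edge b i k) = 0 := by
        linear_combination hsum - hk + hj
      exact sub_eq_zero.1 ((mul_eq_zero.1 h4).resolve_left h3)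
    have hs := sum_edge b x0
    rw [← Finset.add_sum_erase _ _ (Finset.mem_univ x0), hdiag, zero_add,
      Finset.sum_congr rfl (fun j hj => show edge b x0 j = edge b x0 (b x0) by
        simp only [Finset.mem_erase] at hj
        rcases eq_or_ne j (b x0) with h | h
        · rw [h]
        · exact key x0 j (b x0) hj.1.symm (Ne.symm hx0) h)] at hs
    rw [Finset.sum_const, Finset.card_erase_of_mem (Finset.mem_univ _), Finset.card_univ, Fintype.card_fin,
      nsmul_eq_mul] at hs
    have hpos : 1 ≤ edge b x0 (b x0) := by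
      simp only [edge, if_true]; split_ifs <;> norm_num
    have : (4 : ℤ) ≤ ((n - 1 : ℕ) : ℤ) := by exact_mod_cast (show 4 ≤ n - 1 by omega)
    nlinarith

/-- A conjugate of `b` by an even permutation has non-constant matching sums on a given quadruple. -/
theorem exists_conj (hn : 5 ≤ n) (b : Perm (Fin n)) (hb : b ≠ 1) {x y z w : Fin n} (hxy : x ≠ y)
    (hxz : x ≠ z) (hxw : x ≠ w) (hyz : y ≠ z) (hyw : y ≠ w) (hzw : z ≠ w) :
    ∃ k ∈ alternatingGroup (Fin n),
      edge (k * b * k⁻¹) x y + edge (k * b * k⁻¹) z w ≠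
        edge (k * b * k⁻¹) x z + edge (k * b * k⁻¹) y w := by
  obtain ⟨x', y', z', w', hxy', hxz', hxw', hyz', hyw', hzw', hne⟩ := exists_quad hn b hb
  let q : Fin 4 ↪ Fin n := ⟨![x, y, z, w], by
    intro i j h
    fin_cases i <;> fin_cases j <;> simp_all [eq_comm]⟩
  let q' : Fin 4 ↪ Fin n := ⟨![x', y', z', w'], by
    intro i j h
    fin_cases i <;> fin_cases j <;> simp_all [eq_comm]⟩
  let e : {i : Fin n // i ∈ Set.range q'} ≃ {i : Fin n // i ∈ Set.range q} :=
    (Equiv.ofInjective q' q'.injective).symm.trans (Equiv.ofInjective q q.injective)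
  let σ : Perm (Fin n) := e.extendSubtype
  have hσ : ∀ i, σ (q' i) = q i := fun i => by
    rw [show σ = e.extendSubtype from rfl, Equiv.extendSubtype_apply_of_mem e (q' i) ⟨i, rfl⟩]
    simp [e]
  have hx : σ x' = x := hσ 0
  have hy : σ y' = y := hσ 1
  have hz : σ z' = z := hσ 2
  have hw : σ w' = w := hσ 3
  have hcon : ∀ (k : Perm (Fin n)) (u v : Fin n), edge (k * b * k⁻¹) u v = edge b (k⁻¹ u) (k⁻¹ v) := by
    intro k u v
    simp only [edge, Perm.mul_apply]
    congr 1 <;> refine if_congr ?_ rfl rfl <;> exact ⟨fun h => by rw [← h]; simp, fun h => by rw [h]; simp⟩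
  rcases Int.units_eq_one_or (Perm.sign σ) with hs | hs
  · refine ⟨σ, Perm.mem_alternatingGroup.2 hs, ?_⟩
    have i1 : σ⁻¹ x = x' := by rw [← hx]; simp
    have i2 : σ⁻¹ y = y' := by rw [← hy]; simp
    have i3 : σ⁻¹ z = z' := by rw [← hz]; simp
    have i4 : σ⁻¹ w = w' := by rw [← hw]; simp
    rw [hcon, hcon, hcon, hcon, i1, i2, i3, i4]
    exact hne
  · refine ⟨swap y z * σ, Perm.mem_alternatingGroup.2 (by
      rw [map_mul, Perm.sign_swap hyz, hs]; rfl), ?_⟩
    have i1 : (swap y z * σ)⁻¹ x = x' := by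
      rw [Perm.inv_eq_iff_eq, Perm.mul_apply, hx, swap_apply_of_ne_of_ne hxy hxz]
    have i2 : (swap y z * σ)⁻¹ y = z' := by
      rw [Perm.inv_eq_iff_eq, Perm.mul_apply, hz, swap_apply_right]
    have i3 : (swap y z * σ)⁻¹ z = y' := by
      rw [Perm.inv_eq_iff_eq, Perm.mul_apply, hy, swap_apply_left]
    have i4 : (swap y z * σ)⁻¹ w = w' := by
      rw [Perm.inv_eq_iff_eq, Perm.mul_apply, hw, swap_apply_of_ne_of_ne hyw.symm hzw.symm]
    rw [hcon, hcon, hcon, hcon, i1, i2, i3, i4]
    exact hne.symm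

/-- The four-point identity. -/
theorem four_point (a b : Perm (Fin n)) (C : ℤ) {x y z w : Fin n} (hxy : x ≠ y) (hxz : x ≠ z)
    (hxw : x ≠ w) (hyz : y ≠ z) (hyw : y ≠ w) (hzw : z ≠ w)
    (hconst : ∀ v ∈ alternatingGroup (Fin n),
      ∑ i, ∑ j, (if b (v i) = v j then (1 : ℤ) else 0) * (if a j = i then 1 else 0) = C) :
    (edge a x y + edge a z w) * ((edge b x y + edge b z w) - (edge b x z + edge b y w)) +
      (edge a x z + edge a y w) * ((edge b x z + edge b y w) - (edge b x w + edge b y z)) +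
      (edge a x w + edge a y z) * ((edge b x w + edge b y z) - (edge b x y + edge b z w)) = 0 := by
  set B : Fin n → Fin n → ℤ := fun i j => if b i = j then 1 else 0 with hB
  set A : Fin n → Fin n → ℤ := fun i j => if a j = i then 1 else 0 with hA
  set v1 : Perm (Fin n) := swap x y * swap z w with hv1
  set v2 : Perm (Fin n) := swap x z * swap y w with hv2
  set v3 : Perm (Fin n) := swap x w * swap y z with hv3
  set c : Perm (Fin n) := swap y z * swap z w with hc
  have even2 : ∀ p q r s : Fin n, p ≠ q → r ≠ s → swap p q * swap r s ∈ alternatingGroup (Fin n) := by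
    intro p q r s hpq hrs
    rw [Perm.mem_alternatingGroup, map_mul, Perm.sign_swap hpq, Perm.sign_swap hrs]; rfl
  have hcA : c ∈ alternatingGroup (Fin n) := even2 _ _ _ _ hyz hzw
  let V : List (Perm (Fin n)) := [1, v1, v2, v3]
  let M : Fin n → Fin n → ℤ := fun i j => B i j + B (v1 i) (v1 j) + B (v2 i) (v2 j) + B (v3 i) (v3 j)
  have htot : ∀ h ∈ alternatingGroup (Fin n), ∑ i, ∑ j, M (h i) (h j) * A i j = 4 * C := by
    intro h hh
    simp only [M, add_mul, Finset.sum_add_distrib]
    have e0 : ∑ i, ∑ j, B (h i) (h j) * A i j = C := hconst h hh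
    have e1 : ∑ i, ∑ j, B (v1 (h i)) (v1 (h j)) * A i j = C := hconst (v1 * h) (mul_mem (even2 _ _ _ _ hxy hzw) hh)
    have e2 : ∑ i, ∑ j, B (v2 (h i)) (v2 (h j)) * A i j = C := hconst (v2 * h) (mul_mem (even2 _ _ _ _ hxz hyw) hh)
    have e3 : ∑ i, ∑ j, B (v3 (h i)) (v3 (h j)) * A i j = C := hconst (v3 * h) (mul_mem (even2 _ _ _ _ hxw hyz) hh)
    linarith
  have hdiff : ∑ i, ∑ j, (M i j - M (c i) (c j)) * A i j = 0 := by
    simp only [sub_mul, Finset.sum_sub_distrib]
    have h1 := htot 1 (one_mem _)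
    have h2 := htot c hcA
    simp only [Perm.one_apply] at h1
    linarith
  -- evaluation of the permutations
  have v1x : v1 x = y := by simp [hv1, swap_apply_of_ne_of_ne hxz hxw]
  have v1y : v1 y = x := by simp [hv1, swap_apply_of_ne_of_ne hyz hyw]
  have v1z : v1 z = w := by simp [hv1, swap_apply_of_ne_of_ne hxw.symm hyw.symm]
  have v1w : v1 w = z := by simp [hv1, swap_apply_of_ne_of_ne hxz.symm hyz.symm]
  have v2x : v2 x = z := by simp [hv2, swap_apply_of_ne_of_ne hxy hxw]
  have v2y : v2 y = w := by simp [hv2, swap_apply_of_ne_of_ne hxw.symm hzw.symm]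
  have v2z : v2 z = x := by simp [hv2, swap_apply_of_ne_of_ne hyz.symm hzw]
  have v2w : v2 w = y := by simp [hv2, swap_apply_of_ne_of_ne hxy.symm hyz]
  have v3x : v3 x = w := by simp [hv3, swap_apply_of_ne_of_ne hxy hxz]
  have v3y : v3 y = z := by simp [hv3, swap_apply_of_ne_of_ne hxz.symm hzw]
  have v3z : v3 z = y := by simp [hv3, swap_apply_of_ne_of_ne hxy.symm hyw]
  have v3w : v3 w = x := by simp [hv3, swap_apply_of_ne_of_ne hyw.symm hzw.symm]
  have cx : c x = x := by simp [hc, swap_apply_of_ne_of_ne hxz hxw, swap_apply_of_ne_of_ne hxy hxz]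
  have cy : c y = z := by simp [hc, swap_apply_of_ne_of_ne hyz hyw]
  have cz : c z = w := by simp [hc, swap_apply_of_ne_of_ne hyw.symm hzw.symm]
  have cw : c w = y := by simp [hc]
  set Q : Finset (Fin n) := {x, y, z, w} with hQ
  have hout : ∀ i, i ∉ Q → v1 i = i ∧ v2 i = i ∧ v3 i = i ∧ c i = i := by
    intro i hi
    simp only [hQ, Finset.mem_insert, Finset.mem_singleton, not_or] at hi
    obtain ⟨a1, a2, a3, a4⟩ := hi
    simp [hv1, hv2, hv3, hc, swap_apply_of_ne_of_ne, a1, a2, a3, a4]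
  have hzero : ∀ i j, (i ∉ Q ∨ j ∉ Q) → M i j - M (c i) (c j) = 0 := by
    intro i j h
    rcases h with h | h
    · obtain ⟨e1, e2, e3, e4⟩ := hout i h
      simp only [M, e1, e2, e3, e4]
      by_cases hj : j ∈ Q
      · simp only [hQ, Finset.mem_insert, Finset.mem_singleton] at hj
        rcases hj with rfl | rfl | rfl | rfl <;>
          simp only [v1x, v1y, v1z, v1w, v2x, v2y, v2z, v2w, v3x, v3y, v3z, v3w, cx, cy, cz, cw] <;> ring
      · obtain ⟨f1, f2, f3, f4⟩ := hout j hj
        simp only [f1, f2, f3, f4, sub_self]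
    · obtain ⟨e1, e2, e3, e4⟩ := hout j h
      simp only [M, e1, e2, e3, e4]
      by_cases hi : i ∈ Q
      · simp only [hQ, Finset.mem_insert, Finset.mem_singleton] at hi
        rcases hi with rfl | rfl | rfl | rfl <;>
          simp only [v1x, v1y, v1z, v1w, v2x, v2y, v2z, v2w, v3x, v3y, v3z, v3w, cx, cy, cz, cw] <;> ring
      · obtain ⟨f1, f2, f3, f4⟩ := hout i hi
        simp only [f1, f2, f3, f4, sub_self]
  rw [← Finset.sum_subset (Finset.subset_univ Q) (fun i _ hi => Finset.sum_eq_zero fun j _ => by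
    rw [hzero i j (Or.inl hi), zero_mul])] at hdiff
  rw [Finset.sum_congr rfl (fun i _ => (Finset.sum_subset (Finset.subset_univ Q) (fun j _ hj => by
    rw [hzero i j (Or.inr hj), zero_mul])).symm)] at hdiff
  have ea : ∀ i j, edge a i j = A j i + A i j := fun i j => rfl
  have eb : ∀ i j, edge b i j = B i j + B j i := fun i j => rfl
  have nx : x ∉ ({y, z, w} : Finset (Fin n)) := by simp [hxy, hxz, hxw]
  have ny : y ∉ ({z, w} : Finset (Fin n)) := by simp [hyz, hyw]
  have nz : z ∉ ({w} : Finset (Fin n)) := by simp [hzw]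
  simp only [hQ, Finset.sum_insert nx, Finset.sum_insert ny, Finset.sum_insert nz, Finset.sum_singleton,
    M, v1x, v1y, v1z, v1w, v2x, v2y, v2z, v2w, v3x, v3y, v3z, v3w, cx, cy, cz, cw] at hdiff
  simp only [ea, eb]
  linear_combination hdiff

theorem card_fixed (a g : Perm (Fin n)) :
    (Nat.card (Function.fixedPoints ⇑(a * g)) : ℤ) =
      ∑ i, ∑ j, (if g i = j then (1 : ℤ) else 0) * (if a j = i then 1 else 0) := by
  classical
  have h : Nat.card (Function.fixedPoints ⇑(a * g)) = (Finset.univ.filter fun i => a (g i) = i).card := by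
    rw [Nat.card_eq_fintype_card, Fintype.card_ofFinset]
    rfl
  rw [h]
  push_cast [Finset.natCast_card_filter]
  refine Finset.sum_congr rfl fun i _ => ?_
  rw [Finset.sum_eq_single (g i) (fun j _ hj => by rw [if_neg hj.symm, zero_mul])
    (fun h' => absurd (Finset.mem_univ _) h'), if_pos rfl, one_mul]

/-- Let n ≥ 5 and let a, b be non-identity permutations in the symmetric group S_n. Then the number of fixed points is not constant on the set of products a′b′ with a′ conjugate to a and b′ conjugate to b under the alternating group: there are even permutations g₁, h₁, g₂, h₂ such that (g₁ a g₁⁻¹)(h₁ b h₁⁻¹) and (g₂ a g₂⁻¹)(h₂ b h₂⁻¹) have different numbers of fixed points. -/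
theorem result (n : ℕ) (hn : 5 ≤ n) (a b : Equiv.Perm (Fin n)) (ha : a ≠ 1) (hb : b ≠ 1) :
    ∃ g₁ h₁ g₂ h₂ : Equiv.Perm (Fin n), g₁ ∈ alternatingGroup (Fin n) ∧ h₁ ∈ alternatingGroup (Fin n) ∧ g₂ ∈ alternatingGroup (Fin n) ∧ h₂ ∈ alternatingGroup (Fin n) ∧
      Nat.card (Function.fixedPoints ⇑(g₁ * a * g₁⁻¹ * (h₁ * b * h₁⁻¹))) ≠
        Nat.card (Function.fixedPoints ⇑(g₂ * a * g₂⁻¹ * (h₂ * b * h₂⁻¹))) := by
  by_contra hcon
  push_neg at hcon
  obtain ⟨x, y, z, w, hxy, hxz, hxw, hyz, hyw, hzw, hT⟩ := exists_quad hn a ha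
  obtain ⟨k, hk, hU⟩ := exists_conj hn b hb hxy hxz hxw hyz hyw hzw
  set b' := k * b * k⁻¹ with hb'
  have hconst : ∀ v ∈ alternatingGroup (Fin n),
      ∑ i, ∑ j, (if b' (v i) = v j then (1 : ℤ) else 0) * (if a j = i then 1 else 0) =
        (Nat.card (Function.fixedPoints ⇑(a * b)) : ℤ) := by
    intro v hv
    have h := hcon 1 (v⁻¹ * k) 1 1 (one_mem _) (mul_mem (inv_mem hv) hk) (one_mem _) (one_mem _)
    simp only [one_mul, inv_one, mul_one] at h
    rw [← h, card_fixed]
    refine Finset.sum_congr rfl fun i _ => Finset.sum_congr rfl fun j _ => ?_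
    congr 1
    refine if_congr ?_ rfl rfl
    rw [show v⁻¹ * k * b * (v⁻¹ * k)⁻¹ = v⁻¹ * b' * v by rw [hb']; group]
    simp only [Perm.mul_apply]
    exact ⟨fun h => by simp [h], fun h => by simp [← h]⟩
  have h1 := four_point a b' _ hxy hxz hxw hyz hyw hzw hconst
  have h2 := four_point a b' _ hxy hxw hxz hyw.symm.symm hyz hzw.symm hconst
  rw [edge_comm a w z, edge_comm b' w z] at h2
  set T1 := edge a x y + edge a z w
  set T2 := edge a x z + edge a y w
  set T3 := edge a x w + edge a y z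
  set U1 := edge b' x y + edge b' z w
  set U2 := edge b' x z + edge b' y w
  set U3 := edge b' x w + edge b' y z
  have hpos : 0 < (T1 - T2) ^ 2 + (T1 - T2) * (T2 - T3) + (T2 - T3) ^ 2 := by
    have : T1 - T2 ≠ 0 := sub_ne_zero.2 hT
    nlinarith [sq_nonneg (T1 - T2 + 2 * (T2 - T3)), mul_self_pos.2 this]
  have h3 : ((T1 - T2) ^ 2 + (T1 - T2) * (T2 - T3) + (T2 - T3) ^ 2) * (U1 - U2) = 0 := by
    linear_combination ((T1 - T2) + (T2 - T3)) * h1 - (T2 - T3) * h2
  exact hU (sub_eq_zero.1 ((mul_eq_zero.1 h3).resolve_left hpos.ne'))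

end Cfsg.Agent.S2271
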