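import Cfsg.Statements.S2272
-- import your own Cfsg.Agent.* helpers here

set_option autoImplicit false
open Cfsg

namespace Cfsg.Agent.S2272

open Matrix

section

variable {F : Type*} [Field F] {n : ℕ}

local notation "SL" => Matrix.SpecialLinearGroup (Fin n) F
local notation "M" => Matrix (Fin n) (Fin n) F

theorem exists_dual {W : Submodule F (Fin n → F)} {x : Fin n → F} (hx : x ∉ W) :
    ∃ φ : Fin n → F, φ ⬝ᵥ x = 1 ∧ ∀ y ∈ W, φ ⬝ᵥ y = 0 := by
  obtain ⟨f, hfx, hfW⟩ := Submodule.exists_dual_map_eq_bot_of_notMem hx inferInstance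
  refine ⟨fun i => (f x)⁻¹ * f (Pi.single i 1), ?_, fun y hy => ?_⟩
  all_goals
    have key : ∀ z : Fin n → F, (fun i => (f x)⁻¹ * f (Pi.single i 1)) ⬝ᵥ z = (f x)⁻¹ * f z := fun z => by
      conv_rhs => rw [pi_eq_sum_univ' z, map_sum, Finset.mul_sum]
      refine Finset.sum_congr rfl fun i _ => ?_
      rw [map_smul, smul_eq_mul]; ring
    rw [key]
  · exact inv_mul_cancel₀ hfx
  · have h1 : f y ∈ W.map f := Submodule.mem_map_of_mem hy
    rw [hfW, Submodule.mem_bot] at h1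
    rw [h1, mul_zero]

theorem exists_not_mem (h3 : 3 ≤ n) (v w : Fin n → F) : ∃ x, x ∉ Submodule.span F {v, w} := by
  by_contra hc
  push Not at hc
  classical
  have h1 : Module.finrank F (Submodule.span F ({v, w} : Set (Fin n → F))) ≤ ({v, w} : Finset (Fin n → F)).card := by
    have := finrank_span_finset_le_card (R := F) ({v, w} : Finset (Fin n → F))
    rw [Finset.coe_insert, Finset.coe_singleton] at this
    exact this
  rw [show Submodule.span F ({v, w} : Set (Fin n → F)) = ⊤ from eq_top_iff.mpr fun x _ => hc x, finrank_top, Module.finrank_fin_fun] at h1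
  have := Finset.card_le_two (a := v) (b := w)
  omega

theorem exists_not_eigen {A : M} (hA : ∀ c : F, A ≠ Matrix.scalar (Fin n) c) :
    ∃ v : Fin n → F, A *ᵥ v ∉ Submodule.span F {v} := by
  by_contra hc
  push Not at hc
  simp only [Submodule.mem_span_singleton] at hc
  obtain ⟨c, hcc⟩ := (LinearMap.exists_eq_smul_id_of_forall_notLinearIndependent (f := Matrix.toLin' A) (fun v => by
    rw [LinearIndependent.pair_iff]
    push Not
    obtain ⟨k, hk⟩ := hc v
    exact ⟨k, -1, by simp [Matrix.toLin'_apply, ← hk], fun _ => by norm_num⟩))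
  refine hA c (Matrix.toLin'.injective ?_)
  rw [hcc]
  exact LinearMap.ext fun v => by simp [Matrix.toLin'_apply, Matrix.scalar_apply, Pi.smul_def]

/-- a transvection -/
def tv (x φ : Fin n → F) (h : φ ⬝ᵥ x = 0) : SL :=
  ⟨1 + vecMulVec x φ, by
    rw [vecMulVec_eq Unit, det_one_add_replicateCol_mul_replicateRow, h, add_zero]⟩

theorem vecMulVec_sq {x φ : Fin n → F} (h : φ ⬝ᵥ x = 0) : vecMulVec x φ * vecMulVec x φ = 0 := by
  rw [vecMulVec_mul_vecMulVec, h, zero_smul, vecMulVec_zero]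

theorem coe_tv_inv {x φ : Fin n → F} (h : φ ⬝ᵥ x = 0) : (((tv x φ h)⁻¹ : SL) : M) = 1 - vecMulVec x φ := by
  have h1 : ((tv x φ h : SL) : M) * (((tv x φ h)⁻¹ : SL) : M) = 1 := by
    rw [← Matrix.SpecialLinearGroup.coe_mul, mul_inv_cancel]; rfl
  have h2 : (1 - vecMulVec x φ) * ((tv x φ h : SL) : M) = 1 := by
    show (1 - vecMulVec x φ) * (1 + vecMulVec x φ) = 1
    rw [sub_mul, one_mul, mul_add, mul_one, vecMulVec_sq h]; abel
  exact (left_inv_eq_right_inv h2 h1).symm

theorem conj_tv_mulVec {x φ : Fin n → F} (h : φ ⬝ᵥ x = 0) (Y : M) (w : Fin n → F) :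
    (((tv x φ h : SL) : M) * Y * (((tv x φ h)⁻¹ : SL) : M)) *ᵥ w =
      (Y *ᵥ (w - (φ ⬝ᵥ w) • x)) + (φ ⬝ᵥ (Y *ᵥ (w - (φ ⬝ᵥ w) • x))) • x := by
  rw [coe_tv_inv]
  show ((1 + vecMulVec x φ) * Y * (1 - vecMulVec x φ)) *ᵥ w = _
  simp only [← mulVec_mulVec, add_mulVec, sub_mulVec, one_mulVec, vecMulVec_mulVec, op_smul_eq_smul]

theorem trace_aux (C Y : M) (x φ : Fin n → F) :
    (C * ((1 + vecMulVec x φ) * Y * (1 - vecMulVec x φ))).trace =
      (C * Y).trace + φ ⬝ᵥ ((Y * C - C * Y) *ᵥ x) - (φ ⬝ᵥ (Y *ᵥ x)) * (φ ⬝ᵥ (C *ᵥ x)) := by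
  set N := vecMulVec x φ with hN
  have e : C * ((1 + N) * Y * (1 - N)) = C * Y + C * N * Y - C * Y * N - C * N * Y * N := by noncomm_ring
  have t1 : (C * N * Y).trace = φ ⬝ᵥ ((Y * C) *ᵥ x) := by
    rw [trace_mul_comm, ← mul_assoc, hN, mul_vecMulVec, trace_vecMulVec, dotProduct_comm]
  have t2 : (C * Y * N).trace = φ ⬝ᵥ ((C * Y) *ᵥ x) := by
    rw [hN, mul_vecMulVec, trace_vecMulVec, dotProduct_comm]
  have t3 : (C * N * Y * N).trace = (φ ⬝ᵥ (Y *ᵥ x)) * (φ ⬝ᵥ (C *ᵥ x)) := by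
    rw [show C * N * Y * N = (C * N) * (Y * N) by noncomm_ring, hN, mul_vecMulVec, mul_vecMulVec,
      vecMulVec_mul_vecMulVec, trace_vecMulVec, dotProduct_smul, smul_eq_mul, dotProduct_comm (C *ᵥ x)]
  rw [e, trace_sub, trace_sub, trace_add, t1, t2, t3, sub_mulVec, dotProduct_sub]
  ring

theorem const_trace (h3 : 3 ≤ n) {B C : M} (hB : ∀ c : F, B ≠ Matrix.scalar (Fin n) c)
    (hC : ∀ c : F, C ≠ Matrix.scalar (Fin n) c) :
    ¬ ∀ h : SL, (C * ((h : M) * B * ((h⁻¹ : SL) : M))).trace = (C * B).trace := by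
  intro hconst
  set cj : SL → M := fun h => (h : M) * B * ((h⁻¹ : SL) : M) with hcj
  have hmul : ∀ (u h : SL), cj (u * h) = (u : M) * cj h * ((u⁻¹ : SL) : M) := fun u h => by
    simp only [hcj, _root_.mul_inv_rev, Matrix.SpecialLinearGroup.coe_mul, mul_assoc]
  have hid : ∀ (h : SL) (x φ : Fin n → F), φ ⬝ᵥ x = 0 →
      φ ⬝ᵥ ((cj h * C - C * cj h) *ᵥ x) = (φ ⬝ᵥ (cj h *ᵥ x)) * (φ ⬝ᵥ (C *ᵥ x)) := by
    intro h x φ hx
    have h1 := (hconst (tv x φ hx * h)).trans (hconst h).symm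
    rw [show ((tv x φ hx * h : SL) : M) * B * (((tv x φ hx * h)⁻¹ : SL) : M) = cj (tv x φ hx * h) from rfl, hmul,
      coe_tv_inv, show ((tv x φ hx : SL) : M) = 1 + vecMulVec x φ from rfl, trace_aux] at h1
    exact sub_eq_zero.mp (by linear_combination h1)
  obtain ⟨v, hv⟩ := exists_not_eigen hC
  set W := Submodule.span F ({v, C *ᵥ v} : Set (Fin n → F)) with hW
  have hvW : v ∈ W := Submodule.subset_span (by simp)
  obtain ⟨h, hY⟩ : ∃ h : SL, cj h *ᵥ v ∉ W := by
    by_contra hc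
    push Not at hc
    by_cases hne : ∃ h : SL, cj h *ᵥ v ∉ Submodule.span F {v}
    · obtain ⟨h, hh⟩ := hne
      obtain ⟨ψ, hψ1, hψ0⟩ := exists_dual hh
      obtain ⟨z, hz⟩ := exists_not_mem h3 v (C *ᵥ v)
      have hx : ψ ⬝ᵥ (z - (ψ ⬝ᵥ z) • (cj h *ᵥ v)) = 0 := by
        rw [dotProduct_sub, dotProduct_smul, hψ1, smul_eq_mul, mul_one, sub_self]
      have h1 := hc (tv _ ψ hx * h)
      rw [hmul, conj_tv_mulVec hx, hψ0 v (Submodule.mem_span_singleton_self v), zero_smul, sub_zero, hψ1, one_smul] at h1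
      refine hz ?_
      have h2 := W.sub_mem h1 (hc h)
      rw [add_sub_cancel_left] at h2
      have h4 := W.add_mem h2 (W.smul_mem (ψ ⬝ᵥ z) (hc h))
      rwa [sub_add_cancel] at h4
    · push Not at hne
      obtain ⟨p, hp⟩ := exists_not_eigen hB
      obtain ⟨c, hcv⟩ := Submodule.mem_span_singleton.mp (hne 1)
      have hc1 : B *ᵥ v = c • v := by simpa [hcj] using hcv.symm
      have hall : ∀ w, w ∉ Submodule.span F {v} → B *ᵥ w ∈ Submodule.span F {w} := by
        intro w hw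
        have hv0 : v ∉ Submodule.span F {v - w} := fun hm => by
          obtain ⟨k, hk⟩ := Submodule.mem_span_singleton.mp hm
          rcases eq_or_ne k 0 with rfl | hk0
          · exact hv (by rw [← hk]; simp)
          · refine hw (Submodule.mem_span_singleton.mpr ⟨1 - k⁻¹, ?_⟩)
            have : v - w = k⁻¹ • v := by rw [← hk, smul_smul, inv_mul_cancel₀ hk0, one_smul, hk]
            rw [sub_smul, one_smul, ← this, sub_sub_cancel]
        obtain ⟨ψ, hψ1, hψ0⟩ := exists_dual hv0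
        have hx : ψ ⬝ᵥ (v - w) = 0 := hψ0 _ (Submodule.mem_span_singleton_self _)
        obtain ⟨k, hk⟩ := Submodule.mem_span_singleton.mp (hne (tv _ ψ hx * 1))
        refine Submodule.mem_span_singleton.mpr ⟨k, ?_⟩
        have h1 : ((tv (v - w) ψ hx : SL) : M) *ᵥ w = v := by
          show (1 + vecMulVec (v - w) ψ) *ᵥ w = v
          have h5 : ψ ⬝ᵥ w = 1 := by
            rw [dotProduct_sub, hψ1] at hx; exact (sub_eq_zero.mp hx).symm
          rw [add_mulVec, one_mulVec, vecMulVec_mulVec, op_smul_eq_smul, h5, one_smul, add_sub_cancel]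
        have h1' : (((tv (v - w) ψ hx)⁻¹ : SL) : M) *ᵥ v = w := by
          conv_lhs => arg 2; rw [← h1]
          rw [mulVec_mulVec, ← Matrix.SpecialLinearGroup.coe_mul, inv_mul_cancel, Matrix.SpecialLinearGroup.coe_one,
            one_mulVec]
        rw [hmul, ← mulVec_mulVec, ← mulVec_mulVec, h1'] at hk
        have h2 := congrArg (fun z => (((tv (v - w) ψ hx)⁻¹ : SL) : M) *ᵥ z) hk
        simp only [mulVec_smul, h1', mulVec_mulVec, ← mul_assoc, ← Matrix.SpecialLinearGroup.coe_mul, inv_mul_cancel,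
          Matrix.SpecialLinearGroup.coe_one, one_mul] at h2
        simp only [hcj, inv_one, Matrix.SpecialLinearGroup.coe_one, one_mul, mul_one] at h2
        exact h2
      by_cases hpv : p ∈ Submodule.span F {v}
      · obtain ⟨k, rfl⟩ := Submodule.mem_span_singleton.mp hpv
        exact hp (Submodule.mem_span_singleton.mpr ⟨c, by rw [mulVec_smul, hc1, smul_comm]⟩)
      · exact hp (hall p hpv)
  have hline : ∀ g : SL, cj g *ᵥ v ∉ W → (cj g * C - C * cj g) *ᵥ v ∈ Submodule.span F {v} := by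
    intro g hg
    set z := (cj g * C - C * cj g) *ᵥ v with hz
    have key : ∀ u, u = cj g *ᵥ v ∨ u = C *ᵥ v → z ∈ Submodule.span F {v, u} := by
      intro u hu
      by_contra hzn
      obtain ⟨φ, hφ1, hφ0⟩ := exists_dual hzn
      have h0 := hid g v φ (hφ0 v (Submodule.subset_span (by simp)))
      have hu0 : φ ⬝ᵥ u = 0 := hφ0 u (Submodule.subset_span (by simp))
      rcases hu with rfl | rfl <;> rw [hu0] at h0 <;> simp [← hz, hφ1] at h0
    obtain ⟨a, b, hab⟩ := Submodule.mem_span_pair.mp (key _ (Or.inl rfl))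
    rcases eq_or_ne b 0 with rfl | hb
    · exact Submodule.mem_span_singleton.mpr ⟨a, by rw [← hab]; simp⟩
    · refine absurd ?_ hg
      have h1 : b • (cj g *ᵥ v) ∈ W := by
        have := W.sub_mem (key _ (Or.inr rfl)) (W.smul_mem a hvW)
        rwa [← hab, add_sub_cancel_left] at this
      exact (W.smul_mem_iff hb).mp h1
  set Y := cj h with hYdef
  have hCv : C *ᵥ v ∉ Submodule.span F {v, Y *ᵥ v} := by
    intro hm
    obtain ⟨a, b, hab⟩ := Submodule.mem_span_pair.mp hm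
    rcases eq_or_ne b 0 with rfl | hb
    · exact hv (Submodule.mem_span_singleton.mpr ⟨a, by rw [← hab]; simp⟩)
    · refine hY ((W.smul_mem_iff hb).mp ?_)
      have := W.sub_mem (show C *ᵥ v ∈ W from Submodule.subset_span (by simp)) (W.smul_mem a hvW)
      rwa [← hab, add_sub_cancel_left] at this
  obtain ⟨ψ, hψ1, hψ0⟩ := exists_dual hCv
  have hψv : ψ ⬝ᵥ v = 0 := hψ0 v (Submodule.subset_span (by simp))
  have hψY : ψ ⬝ᵥ (Y *ᵥ v) = 0 := hψ0 _ (Submodule.subset_span (by simp))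
  have e1 : cj (tv v ψ hψv * h) *ᵥ v = Y *ᵥ v := by
    rw [hmul, conj_tv_mulVec, hψv, zero_smul, sub_zero, hψY, zero_smul, add_zero]
  have a1 := hline _ (e1.symm ▸ hY)
  have a2 := hline h hY
  have hd := Submodule.sub_mem _ a1 a2
  rw [sub_mulVec, sub_mulVec, ← mulVec_mulVec, ← mulVec_mulVec v C (cj _), e1, hmul, conj_tv_mulVec, hψ1, one_smul,
    mulVec_sub] at hd
  obtain ⟨k, hk⟩ := Submodule.mem_span_singleton.mp hd
  refine hY (?_ : Y *ᵥ v ∈ W)
  have : Y *ᵥ v = (ψ ⬝ᵥ (Y *ᵥ (C *ᵥ v) - Y *ᵥ v) - k) • v := by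
    rw [sub_smul, hk, ← hYdef]; clear_value Y; simp only [← mulVec_mulVec]; abel
  rw [this]
  exact W.smul_mem _ hvW

theorem exists_trace_ne (h3 : 3 ≤ n) {A B : M} (hA : ∀ c : F, A ≠ Matrix.scalar (Fin n) c)
    (hB : ∀ c : F, B ≠ Matrix.scalar (Fin n) c) :
    (∃ g h : SL, ((g : M) * A * ((g⁻¹ : SL) : M) * ((h : M) * B * ((h⁻¹ : SL) : M))).trace = 0) ∧
      ∃ g h : SL, ((g : M) * A * ((g⁻¹ : SL) : M) * ((h : M) * B * ((h⁻¹ : SL) : M))).trace ≠ 0 := by
  constructor
  · by_contra hc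
    push Not at hc
    obtain ⟨v, hv⟩ := exists_not_eigen hA
    obtain ⟨w, hw⟩ := exists_not_mem h3 v (A *ᵥ v)
    obtain ⟨φ, hφ1, hφ0⟩ := exists_dual hw
    have hφv : φ ⬝ᵥ v = 0 := hφ0 v (Submodule.subset_span (by simp))
    have hφA : φ ⬝ᵥ (A *ᵥ v) = 0 := hφ0 _ (Submodule.subset_span (by simp))
    set C : M := vecMulVec v φ * A - A * vecMulVec v φ with hC
    have hzero : ∀ h : SL, (C * ((h : M) * B * ((h⁻¹ : SL) : M))).trace = 0 := by
      intro h
      by_contra hne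
      set Y : M := (h : M) * B * ((h⁻¹ : SL) : M)
      set s : F := -(A * Y).trace / (C * Y).trace with hs
      have hsv : φ ⬝ᵥ (s • v) = 0 := by rw [dotProduct_smul, hφv, smul_zero]
      refine hc (tv (s • v) φ hsv) h ?_
      rw [coe_tv_inv, show ((tv (s • v) φ hsv : SL) : M) = 1 + vecMulVec (s • v) φ from rfl, smul_vecMulVec]
      have e : (1 + s • vecMulVec v φ) * A * (1 - s • vecMulVec v φ) = A + s • C := by
        have : vecMulVec v φ * A * vecMulVec v φ = 0 := by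
          rw [mul_assoc, mul_vecMulVec, vecMulVec_mul_vecMulVec, hφA, zero_smul, vecMulVec_zero]
        simp only [add_mul, mul_sub, one_mul, mul_one, smul_mul_assoc, mul_smul_comm, this, smul_zero, hC, smul_sub]
        abel
      rw [e, add_mul, trace_add, smul_mul_assoc, trace_smul, smul_eq_mul, hs, div_mul_cancel₀ _ hne, add_neg_cancel]
    refine const_trace h3 hB ?_ fun h => (hzero h).trans ?_
    · intro c hcC
      have h1 : C *ᵥ w = c • w := by rw [hcC]; ext i; simp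
      rw [hC, sub_mulVec, ← mulVec_mulVec, ← mulVec_mulVec, vecMulVec_mulVec, vecMulVec_mulVec, op_smul_eq_smul,
        op_smul_eq_smul, hφ1, one_smul] at h1
      have h2 := congrArg (fun z => φ ⬝ᵥ z) h1
      simp only [dotProduct_sub, dotProduct_smul, hφv, hφA, hφ1, smul_eq_mul, mul_zero, sub_zero, mul_one] at h2
      rw [← h2, zero_smul, sub_eq_zero] at h1
      exact hv (Submodule.mem_span_singleton.mpr ⟨_, h1⟩)
    · simpa using (hzero 1).symm
  · by_contra hc
    push Not at hc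
    exact const_trace h3 hB hA fun h => by
      have h1 := hc 1 h
      have h2 := hc 1 1
      simp only [inv_one, Matrix.SpecialLinearGroup.coe_one, one_mul, mul_one] at h1 h2
      rw [h1, h2]

end

theorem main {F : Type*} [Field F] [Fintype F] (d : ℕ) (hd : 3 ≤ d)
    (a b : Matrix.ProjectiveSpecialLinearGroup (Fin d) F) (ha : a ≠ 1) (hb : b ≠ 1) :
    ∃ g h : Matrix.ProjectiveSpecialLinearGroup (Fin d) F, ¬ IsConj (a * b) (g * a * g⁻¹ * (h * b * h⁻¹)) := by
  classical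
  obtain ⟨A, rfl⟩ := QuotientGroup.mk_surjective a
  obtain ⟨B, rfl⟩ := QuotientGroup.mk_surjective b
  have hns : ∀ X : Matrix.SpecialLinearGroup (Fin d) F,
      (QuotientGroup.mk X : Matrix.ProjectiveSpecialLinearGroup (Fin d) F) ≠ 1 →
      ∀ c : F, (X : Matrix (Fin d) (Fin d) F) ≠ Matrix.scalar (Fin d) c := by
    intro X hX c hc
    refine hX ((QuotientGroup.eq_one_iff X).mpr (Subgroup.mem_center_iff.mpr fun Y => Subtype.ext ?_))
    rw [Matrix.SpecialLinearGroup.coe_mul, Matrix.SpecialLinearGroup.coe_mul, hc]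
    exact ((Matrix.scalar_commute c (fun r => mul_comm c r) _).eq).symm
  obtain ⟨⟨g, h, h0⟩, ⟨g', h', h1⟩⟩ := exists_trace_ne hd (hns A ha) (hns B hb)
  by_contra hc
  push Not at hc
  have key : ∀ g h : Matrix.SpecialLinearGroup (Fin d) F, ∃ r : F, r ≠ 0 ∧
      ((g : Matrix (Fin d) (Fin d) F) * A * ((g⁻¹ : Matrix.SpecialLinearGroup (Fin d) F) : Matrix (Fin d) (Fin d) F) *
        ((h : Matrix (Fin d) (Fin d) F) * B * ((h⁻¹ : Matrix.SpecialLinearGroup (Fin d) F) : Matrix (Fin d) (Fin d) F))).trace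
      = r * ((A * B : Matrix.SpecialLinearGroup (Fin d) F) : Matrix (Fin d) (Fin d) F).trace := by
    intro g h
    obtain ⟨c, hcc⟩ := isConj_iff.mp (hc (QuotientGroup.mk g) (QuotientGroup.mk h))
    obtain ⟨c, rfl⟩ := QuotientGroup.mk_surjective c
    simp only [← QuotientGroup.mk_mul, ← QuotientGroup.mk_inv, QuotientGroup.eq] at hcc
    obtain ⟨r, -, hr⟩ := Matrix.SpecialLinearGroup.mem_center_iff.mp hcc
    set Z := (c * (A * B) * c⁻¹)⁻¹ * (g * A * g⁻¹ * (h * B * h⁻¹)) with hZ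
    have h2 : g * A * g⁻¹ * (h * B * h⁻¹) = c * (A * B) * c⁻¹ * Z := by rw [hZ, mul_inv_cancel_left]
    have hr0 : r ≠ 0 := by
      rintro rfl
      haveI : NeZero d := ⟨by omega⟩
      have := Z.det_coe
      rw [← hr, map_zero, Matrix.det_zero] at this
      exact zero_ne_one this
    refine ⟨r, hr0, ?_⟩
    have h3 := congrArg (fun X : Matrix.SpecialLinearGroup (Fin d) F => (X : Matrix (Fin d) (Fin d) F).trace) h2
    simp only [Matrix.SpecialLinearGroup.coe_mul] at h3 ⊢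
    rw [h3, ← hr, Matrix.scalar_apply, ← Matrix.smul_one_eq_diagonal, mul_smul_comm, mul_one, trace_smul, smul_eq_mul,
      trace_mul_comm, ← mul_assoc, ← Matrix.SpecialLinearGroup.coe_mul, inv_mul_cancel,
      Matrix.SpecialLinearGroup.coe_one, one_mul]
  obtain ⟨r, hr, e⟩ := key g h
  obtain ⟨r', -, e'⟩ := key g' h'
  rw [h0] at e
  rcases mul_eq_zero.mp e.symm with h2 | h2
  · exact hr h2
  · exact h1 (by rw [e', h2, mul_zero])

/-- Let F be a finite field and d ≥ 3, and let a, b be non-identity elements of PSL_d(F). Then the product of the conjugacy classes of a and b is not a single conjugacy class: there are conjugates a′ of a and b′ of b such that a′b′ is not conjugate to ab. -/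
theorem result {F : Type*} [Field F] [Fintype F] (d : ℕ) (hd : 3 ≤ d)
    (a b : Matrix.ProjectiveSpecialLinearGroup (Fin d) F) (ha : a ≠ 1) (hb : b ≠ 1) :
    ∃ g h : Matrix.ProjectiveSpecialLinearGroup (Fin d) F, ¬ IsConj (a * b) (g * a * g⁻¹ * (h * b * h⁻¹)) := by
  exact main d hd a b ha hb

end Cfsg.Agent.S2272
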