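import Cfsg.Statements.S2276
import Cfsg.Agent.AltPPair.Blocks

set_option autoImplicit false
open Cfsg

namespace Cfsg.Agent.S2276

open Equiv Cfsg.Agent.AltPPair
open scoped commutatorElement

/-- Powers of `p` bounded by `p ^ b` with sum at least `j * p ^ b` have a part of sum exactly
`j * p ^ b`. -/
theorem exists_part (p : ℕ) : ∀ (b j : ℕ) (M : Multiset ℕ),
    (∀ x ∈ M, ∃ i, i ≤ b ∧ x = p ^ i) → j * p ^ b ≤ M.sum → ∃ S ≤ M, S.sum = j * p ^ b := by
  intro b
  induction b with
  | zero =>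
    intro j M hM hsum
    have h1 : ∀ x ∈ M, x = 1 := fun x hx => by
      obtain ⟨i, hi, rfl⟩ := hM x hx
      rw [Nat.le_zero.mp hi, pow_zero]
    have hM' : M = Multiset.replicate M.card 1 := Multiset.eq_replicate.mpr ⟨rfl, h1⟩
    refine ⟨Multiset.replicate j 1, ?_, by simp⟩
    rw [hM', Multiset.sum_replicate] at hsum
    rw [hM']
    exact Multiset.replicate_le_replicate 1 |>.mpr (by simpa using hsum)
  | succ b ih =>
    intro j
    induction j with
    | zero => intro M _ _; exact ⟨0, Multiset.zero_le _, by simp⟩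
    | succ j ihj =>
      intro M hM hsum
      obtain ⟨S₁, hS₁, hs₁⟩ := ihj M hM (le_trans (Nat.mul_le_mul_right _ (Nat.le_succ j)) hsum)
      have hrest : 1 * p ^ (b + 1) ≤ (M - S₁).sum := by
        have : (M - S₁).sum + S₁.sum = M.sum := by
          rw [← Multiset.sum_add, Multiset.sub_add_cancel hS₁]
        rw [one_mul]
        rw [Nat.succ_mul] at hsum
        omega
      have hM' : ∀ x ∈ M - S₁, ∃ i, i ≤ b + 1 ∧ x = p ^ i :=
        fun x hx => hM x (Multiset.mem_of_le (Multiset.sub_le_self _ _) hx)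
      obtain ⟨S₂, hS₂, hs₂⟩ : ∃ S ≤ M - S₁, S.sum = p ^ (b + 1) := by
        by_cases hin : p ^ (b + 1) ∈ M - S₁
        · exact ⟨{p ^ (b + 1)}, Multiset.singleton_le.mpr hin, by simp⟩
        · obtain ⟨S, hS, hs⟩ := ih p (M - S₁) (fun x hx => by
            obtain ⟨i, hi, rfl⟩ := hM' x hx
            refine ⟨i, ?_, rfl⟩
            rcases Nat.lt_or_ge i (b + 1) with h | h
            · omega
            · exact absurd (le_antisymm hi h ▸ hx) hin)
            (by rw [← pow_succ']; simpa using hrest)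
          exact ⟨S, hS, by rw [hs, pow_succ']⟩
      refine ⟨S₁ + S₂, ?_, by rw [Multiset.sum_add, hs₁, hs₂, Nat.succ_mul]⟩
      calc S₁ + S₂ ≤ S₁ + (M - S₁) := add_le_add le_rfl hS₂
        _ = M := by rw [add_comm]; exact Multiset.sub_add_cancel hS₁

/-- Gluing a model pair into `Fin n`. -/
theorem glue {p : ℕ} (hp : p.Prime) {n l r : ℕ} (hn : l + r = n) (u w : Perm (Fin n))
    (C D : Perm (Fin l)) (Ru Rw : Multiset ℕ) (hu : u.cycleType = C.cycleType + Ru)
    (hw : w.cycleType = D.cycleType + Rw) (hRu : Ru.sum ≤ r) (hRw : Rw.sum ≤ r) :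
    ∃ s : ℤˣ, ∀ k : Perm (Fin l), Good p C (k * D * k⁻¹) →
      ∃ h : Perm (Fin n), Perm.sign h = s * Perm.sign k ∧ Good p u (h * w * h⁻¹) := by
  classical
  obtain ⟨ru, hru⟩ := (Equiv.Perm.exists_with_cycleType_iff (Fin r)).mpr
    ⟨by rw [Fintype.card_fin]; exact hRu, fun x hx => Perm.two_le_of_mem_cycleType
      (hu ▸ Multiset.mem_add.mpr (Or.inr hx) : x ∈ u.cycleType)⟩
  obtain ⟨rw', hrw⟩ := (Equiv.Perm.exists_with_cycleType_iff (Fin r)).mpr
    ⟨by rw [Fintype.card_fin]; exact hRw, fun x hx => Perm.two_le_of_mem_cycleType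
      (hw ▸ Multiset.mem_add.mpr (Or.inr hx) : x ∈ w.cycleType)⟩
  let e : Fin l ⊕ Fin r ≃ Fin n := finSumFinEquiv.trans (finCongr hn)
  let ψ : Perm (Fin l) × Perm (Fin r) →* Perm (Fin n) :=
    e.permCongrHom.toMonoidHom.comp (Perm.sumCongrHom (Fin l) (Fin r))
  have hψ : Function.Injective ψ := e.permCongrHom.injective.comp Perm.sumCongrHom_injective
  have htype : ∀ (σ : Perm (Fin l)) (τ : Perm (Fin r)),
      (ψ (σ, τ)).cycleType = σ.cycleType + τ.cycleType := fun σ τ =>
    (cycleType_permCongr e _).trans (cycleType_sumCongr σ τ)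
  obtain ⟨a, ha⟩ := isConj_iff.mp (Perm.isConj_iff_cycleType_eq.mpr
    (show (ψ (C, ru)).cycleType = u.cycleType by rw [htype, hru, hu]))
  obtain ⟨b, hb⟩ := isConj_iff.mp (Perm.isConj_iff_cycleType_eq.mpr
    (show w.cycleType = (ψ (D, rw')).cycleType by rw [htype, hrw, hw]))
  refine ⟨Perm.sign a * Perm.sign b, fun k hk => ?_⟩
  refine ⟨a * ψ (k, 1) * b, ?_, ?_⟩
  · have hs : Perm.sign (ψ (k, 1)) = Perm.sign k := by
      change Perm.sign (e.permCongr (Perm.sumCongr k 1)) = _
      rw [Perm.sign_permCongr, Perm.sign_sumCongr, map_one, mul_one]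
    rw [map_mul, map_mul, hs]
    exact mul_right_comm _ _ _
  · have h1 : Good p (ψ (C, ru)) (ψ (k * D * k⁻¹, rw')) :=
      (Good.of_map hp (MonoidHom.fst (Perm (Fin l)) (Perm (Fin r)))
        (σ := (C, ru)) (τ := (k * D * k⁻¹, rw')) hk).map ψ hψ
    have h2 := h1.map (MulAut.conj a).toMonoidHom (MulAut.conj a).injective
    simp only [MulEquiv.coe_toMonoidHom, MulAut.conj_apply] at h2
    rw [ha] at h2
    rw [show a * ψ (k, 1) * b * w * (a * ψ (k, 1) * b)⁻¹ =
      a * (ψ (k, 1) * (b * w * b⁻¹) * (ψ (k, 1))⁻¹) * a⁻¹ by group, hb, ← map_inv,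
      ← map_mul, ← map_mul]
    simpa using h2

/-- The partition of `n` of a permutation of `Fin n`. -/
def parts {n : ℕ} (w : Perm (Fin n)) : Multiset ℕ :=
  w.cycleType + Multiset.replicate (n - w.cycleType.sum) 1

theorem parts_sum {n : ℕ} (w : Perm (Fin n)) : (parts w).sum = n := by
  have := w.sum_cycleType_le
  simp only [parts, Multiset.sum_add, Multiset.sum_replicate, smul_eq_mul, mul_one,
    Fintype.card_fin] at *
  omega

theorem parts_filter {n : ℕ} (w : Perm (Fin n)) :
    (parts w).filter (fun c => 2 ≤ c) = w.cycleType := by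
  rw [parts, Multiset.filter_add, Multiset.filter_eq_self.mpr fun x hx =>
    Perm.two_le_of_mem_cycleType hx, Multiset.filter_eq_nil.mpr fun x hx => ?_, add_zero]
  rw [Multiset.eq_of_mem_replicate hx]
  omega

section lt

variable {p : ℕ} [hp : Fact p.Prime]

theorem natCast_block (hp3 : 3 ≤ p) (k : ℕ) (hk : k = 0 ∨ p ∣ 2 * k + 1) :
    (1 : ZMod p) ≠ ((2 * k : ℕ) : ZMod p) := by
  intro h
  rcases hk with rfl | ⟨t, ht⟩
  · simp at h
  · have h1 : ((2 * k + 1 : ℕ) : ZMod p) = 0 := by rw [ht]; simp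
    rw [Nat.cast_add, ← h, Nat.cast_one, one_add_one_eq_two] at h1
    have h2 : ((2 : ℕ) : ZMod p) = 0 := by exact_mod_cast h1
    rw [ZMod.natCast_eq_zero_iff] at h2
    exact absurd (Nat.le_of_dvd two_pos h2) (by omega)

theorem block_of_pow (hp3 : 3 ≤ p) (i : ℕ) :
    ∃ k, 2 * k + 1 = p ^ i ∧ (k = 0 ∨ p ∣ 2 * k + 1) := by
  obtain ⟨k, hk⟩ := (hp.out.odd_of_ne_two (by omega)).pow (n := i)
  refine ⟨k, hk.symm, ?_⟩
  rcases i with _ | i
  · left; rw [pow_zero] at hk; omega
  · exact Or.inr (hk ▸ dvd_pow_self p (Nat.succ_ne_zero i))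

theorem wt_false (L : List ℕ) : wt (L.map fun k => (k, false)) = L.length := by
  induction L with
  | nil => rfl
  | cons k L ih => simp [wt, ih]; omega

theorem tot_eq (L : List (ℕ × Bool)) :
    tot L = ((L.map fun x => 2 * x.1 + 1 : List ℕ) : Multiset ℕ).sum := by
  induction L with
  | nil => rfl
  | cons x L ih =>
    obtain ⟨k, b⟩ := x
    rw [List.map_cons, ← Multiset.cons_coe, Multiset.sum_cons, ← ih]
    rfl

/-- The combinatorial core: an `l`-cycle and a given type with all parts smaller than `l`. -/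
theorem exists_blocks (hp3 : 3 ≤ p) {a : ℕ} (m : ℕ) (S : Multiset ℕ) (hm : 2 ≤ m)
    (hpm : ∃ i, m = p ^ i) (hS : ∀ x ∈ S, ∃ i, x = p ^ i) (hS0 : S ≠ 0)
    (hsum : m + S.sum = p ^ a) :
    ∃ L : List (ℕ × Bool), ((L.map fun x => 2 * x.1 + 1 : List ℕ) : Multiset ℕ) = m ::ₘ S ∧
      2 ≤ wt L ∧ ¬ p ∣ wt L ∧ ∃ x y, x < tot L ∧ y < tot L ∧
        (blockFun L x : ZMod p) - x ≠ (blockFun L y : ZMod p) - y := by
  classical
  have hp2 : p ≠ 2 := by omega
  obtain ⟨im, him⟩ := hpm
  obtain ⟨km, hkm, hkm'⟩ := block_of_pow hp3 im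
  rw [← him] at hkm
  have hpm' : p ∣ 2 * km + 1 := hkm'.resolve_left (by omega)
  have ha : a ≠ 0 := by
    rintro rfl
    rw [pow_zero] at hsum
    omega
  have half : ∀ x ∈ S, ∃ k, 2 * k + 1 = x ∧ (k = 0 ∨ p ∣ 2 * k + 1) := fun x hx => by
    obtain ⟨i, rfl⟩ := hS x hx; exact block_of_pow hp3 i
  -- halving a part gives back the part
  have back : ∀ T : Multiset ℕ, T ≤ S →
      ((((T.toList.map fun x => x / 2).map fun k => (k, false)).map fun x => 2 * x.1 + 1 :
        List ℕ) : Multiset ℕ) = T := by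
    intro T hT
    rw [List.map_map, List.map_map]
    conv_rhs => rw [← Multiset.coe_toList T, ← List.map_id T.toList]
    refine congrArg _ (List.map_congr_left fun x hx => ?_)
    obtain ⟨k, rfl, -⟩ := half x (Multiset.mem_of_le hT (Multiset.mem_toList.mp hx))
    simp only [Function.comp, id]; omega
  set c := Multiset.card S + 1 with hc
  have hcard : 0 < Multiset.card S := Multiset.card_pos.mpr hS0
  have h0 : ∀ (b : Bool) (k : ℕ) (rest : List (ℕ × Bool)), 1 ≤ k →
      blockFun ((k, b) :: rest) (if b then 0 else 1) = if b then 1 else 0 := by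
    intro b k rest hk
    cases b
    · simp only [blockFun, Bool.false_eq_true, if_false]
      rw [if_pos (by omega), show 1 + 2 * k = 2 * k + 1 by omega, Nat.mod_self]
    · simp only [blockFun, if_true]
      rw [if_pos (by omega), Nat.mod_eq_of_lt (by omega)]
  have h2nd : ∀ (k₁ : ℕ) (b : Bool) (rest : List (ℕ × Bool)),
      blockFun ((k₁, b) :: rest) (2 * k₁ + 1) = 2 * k₁ + 1 + blockFun rest 0 := by
    intro k₁ b rest
    simp only [blockFun]
    rw [if_neg (lt_irrefl _), Nat.sub_self]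
  have hrev : ∀ (k : ℕ) (rest : List (ℕ × Bool)), blockFun ((k, false) :: rest) 0 = 2 * k := by
    intro k rest
    simp only [blockFun, Bool.false_eq_true, if_false]
    rw [if_pos (by omega), Nat.zero_add, Nat.mod_eq_of_lt (by omega)]
  by_cases hc1 : c % p = 1
  swap
  · -- one forward block
    obtain ⟨x₀, hx₀⟩ := Multiset.exists_mem_of_ne_zero hS0
    obtain ⟨k₀, hk₀, hk₀'⟩ := half x₀ hx₀
    have hT : S.erase x₀ ≤ S := Multiset.erase_le _ _
    set L := (km, true) :: (k₀, false) ::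
      (((S.erase x₀).toList.map fun x => x / 2).map fun k => (k, false)) with hL
    have hwt : wt L = (2 * km + 1) + (Multiset.card S) := by
      simp only [hL, wt, wt_false, List.length_map, Multiset.length_toList, if_true,
        Bool.false_eq_true, if_false]
      rw [Multiset.card_erase_of_mem hx₀, Nat.pred_eq_sub_one]
      omega
    refine ⟨L, ?_, by omega, fun hd => ?_, 0, 2 * km + 1, ?_, ?_, ?_⟩
    · simp only [hL, List.map_cons, ← Multiset.cons_coe]
      rw [back _ hT, hkm, hk₀, Multiset.cons_erase hx₀]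
    · rw [hwt, Nat.dvd_add_right hpm'] at hd
      obtain ⟨t, ht⟩ := hd
      exact hc1 (by rw [hc, ht, Nat.mul_add_mod, Nat.mod_eq_of_lt hp.out.one_lt])
    · simp only [hL, tot]; omega
    · simp only [hL, tot]; omega
    · have e0 : blockFun L 0 = 1 := h0 true km _ (by omega)
      have e1 : blockFun L (2 * km + 1) = 2 * km + 1 + 2 * k₀ := by rw [hL, h2nd, hrev]
      rw [e0, e1]
      push_cast
      simpa using natCast_block hp3 k₀ hk₀'
  · by_cases h1 : 1 ∈ S
    · -- all blocks backward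
      have hT : S.erase 1 ≤ S := Multiset.erase_le _ _
      set L := (km, false) :: (0, false) ::
        (((S.erase 1).toList.map fun x => x / 2).map fun k => (k, false)) with hL
      have hwt : wt L = c := by
        simp only [hL, wt, wt_false, List.length_map, Multiset.length_toList, Bool.false_eq_true,
          if_false]
        rw [Multiset.card_erase_of_mem h1, Nat.pred_eq_sub_one]
        omega
      refine ⟨L, ?_, by omega, fun hd => ?_, 1, 2 * km + 1, ?_, ?_, ?_⟩
      · simp only [hL, List.map_cons, ← Multiset.cons_coe]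
        rw [back _ hT, hkm, show 2 * 0 + 1 = 1 from rfl, Multiset.cons_erase h1]
      · rw [hwt] at hd
        rw [Nat.mod_eq_zero_of_dvd hd] at hc1
        omega
      · simp only [hL, tot]; omega
      · simp only [hL, tot]; omega
      · have e0 : blockFun L 1 = 0 := h0 false km _ (by omega)
        have e1 : blockFun L (2 * km + 1) = 2 * km + 1 := by rw [hL, h2nd, hrev]
        rw [e0, e1]
        simp
    · -- two forward blocks
      have hS1 : ∀ x ∈ S, 2 ≤ x := fun x hx => by
        obtain ⟨i, rfl⟩ := hS x hx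
        rcases i with _ | i
        · exact absurd (by simpa using hx) h1
        · calc 2 ≤ p := by omega
            _ ≤ p ^ (i + 1) := Nat.le_self_pow (Nat.succ_ne_zero i) p
      have hcp : p + 1 ≤ c := by
        by_contra hcon
        rcases Nat.lt_or_ge c p with h | h
        · rw [Nat.mod_eq_of_lt h] at hc1; omega
        · rw [show c = p by omega, Nat.mod_self] at hc1; omega
      obtain ⟨x₀, hx₀⟩ := Multiset.exists_mem_of_ne_zero hS0
      obtain ⟨k₀, hk₀, hk₀'⟩ := half x₀ hx₀
      have hne : S.erase x₀ ≠ 0 := fun h => by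
        have := Multiset.card_erase_of_mem hx₀
        rw [h, Multiset.card_zero, Nat.pred_eq_sub_one] at this
        omega
      obtain ⟨y₀, hy₀⟩ := Multiset.exists_mem_of_ne_zero hne
      obtain ⟨j₀, hj₀, hj₀'⟩ := half y₀ (Multiset.mem_of_mem_erase hy₀)
      have hx2 := hS1 x₀ hx₀
      have hpx : p ∣ 2 * k₀ + 1 := hk₀'.resolve_left (by omega)
      have hT : (S.erase x₀).erase y₀ ≤ S :=
        le_trans (Multiset.erase_le _ _) (Multiset.erase_le _ _)
      set L := (km, true) :: (k₀, true) :: (j₀, false) ::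
        ((((S.erase x₀).erase y₀).toList.map fun x => x / 2).map fun k => (k, false)) with hL
      have hwt : wt L = (2 * km + 1) + (2 * k₀ + 1) + (c - 2) := by
        simp only [hL, wt, wt_false, List.length_map, Multiset.length_toList, if_true,
          Bool.false_eq_true, if_false]
        rw [Multiset.card_erase_of_mem hy₀, Multiset.card_erase_of_mem hx₀, Nat.pred_eq_sub_one,
          Nat.pred_eq_sub_one]
        omega
      refine ⟨L, ?_, by omega, fun hd => ?_, 0, 2 * km + 1 + (2 * k₀ + 1), ?_, ?_, ?_⟩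
      · simp only [hL, List.map_cons, ← Multiset.cons_coe]
        rw [back _ hT, hkm, hk₀, hj₀, Multiset.cons_erase hy₀, Multiset.cons_erase hx₀]
      · rw [hwt, Nat.dvd_add_right (hpm'.add hpx)] at hd
        obtain ⟨t, ht⟩ := hd
        rw [show c = p * t + 2 by omega, Nat.mul_add_mod] at hc1
        rw [Nat.mod_eq_of_lt (by omega)] at hc1
        omega
      · simp only [hL, tot]; omega
      · simp only [hL, tot]; omega
      · have e0 : blockFun L 0 = 1 := h0 true km _ (by omega)
        have e1 : blockFun L (2 * km + 1 + (2 * k₀ + 1)) =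
            2 * km + 1 + (2 * k₀ + 1) + 2 * j₀ := by
          simp only [hL, blockFun]
          rw [if_neg (by omega), if_neg (by omega)]
          rw [show 2 * km + 1 + (2 * k₀ + 1) - (2 * km + 1) - (2 * k₀ + 1) = 0 by omega,
            if_pos (by omega)]
          simp only [Bool.false_eq_true, if_false]
          rw [Nat.zero_add, Nat.mod_eq_of_lt (by omega)]
          omega
        rw [e0, e1]
        push_cast
        simpa using natCast_block hp3 j₀ hj₀'

end lt

/-- A permutation of `Fin n` with a conjugate of the wrong sign is fixed up by the centraliser. -/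
theorem exists_even {p n : ℕ} {u w : Perm (Fin n)} (hz : ¬ Subgroup.centralizer {w} ≤ alternatingGroup (Fin n))
    {h : Perm (Fin n)} (hg : Good p u (h * w * h⁻¹)) :
    ∃ h : Perm (Fin n), Perm.sign h = 1 ∧ Good p u (h * w * h⁻¹) := by
  rcases Int.units_eq_one_or (Perm.sign h) with hs | hs
  · exact ⟨h, hs, hg⟩
  · obtain ⟨z, hz1, hz2⟩ := SetLike.not_le_iff_exists.mp hz
    rw [Equiv.Perm.mem_alternatingGroup] at hz2
    refine ⟨h * z, ?_, ?_⟩
    · rw [map_mul, hs, (Int.units_eq_one_or _).resolve_left hz2]; rfl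
    · have : z * w * z⁻¹ = w :=
        mul_inv_eq_iff_eq_mul.mpr (Subgroup.mem_centralizer_singleton_iff.mp hz1)
      rwa [show h * z * w * (h * z)⁻¹ = h * (z * w * z⁻¹) * h⁻¹ by group, this]

/-- Odd powers of a prime as cycle lengths. -/
theorem cycle_pow {p n : ℕ} (hp : p.Prime) {σ : Perm (Fin n)} (hσ : ∃ k, orderOf σ = p ^ k) :
    ∀ c ∈ σ.cycleType, ∃ i, 1 ≤ i ∧ c = p ^ i := by
  intro c hc
  obtain ⟨k, hk⟩ := hσ
  obtain ⟨i, -, hi⟩ := (Nat.dvd_prime_pow hp).mp (hk ▸ Perm.dvd_of_mem_cycleType hc)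
  refine ⟨i, ?_, hi⟩
  have := Perm.two_le_of_mem_cycleType hc
  rcases i with _ | i
  · rw [hi, pow_zero] at this; omega
  · omega

/-- `⁅gxg⁻¹, hxh⁻¹⁆ = x ≠ 1` excludes solvability. -/
theorem not_solvable_of {G : Type*} [Group G] {x g h : G} (hx : x ≠ 1)
    (he : ⁅g * x * g⁻¹, h * x * h⁻¹⁆ = x) {H : Subgroup G} (h1 : x ∈ H) (h2 : g ∈ H) (h3 : h ∈ H) :
    ¬ Group.IsSolvable H := by
  intro hs
  obtain ⟨n, hn⟩ := (Group.isSolvable_def H).1 hs
  have key : ∀ i, (⟨x, h1⟩ : H) ∈ derivedSeries H i := by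
    intro i
    induction i with
    | zero => simp
    | succ i ih =>
      rw [derivedSeries_succ]
      have e : (⟨x, h1⟩ : H) = ⁅(⟨g, h2⟩ : H) * ⟨x, h1⟩ * ⟨g, h2⟩⁻¹,
          (⟨h, h3⟩ : H) * ⟨x, h1⟩ * ⟨h, h3⟩⁻¹⁆ := Subtype.ext (by
        simpa [commutatorElement_def] using he.symm)
      rw [e]
      exact Subgroup.commutator_mem_commutator ((derivedSeries_normal H i).conj_mem _ ih _)
        ((derivedSeries_normal H i).conj_mem _ ih _)
  have := key n
  rw [hn, Subgroup.mem_bot] at this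
  exact hx (congrArg Subtype.val this)

theorem good_of_witness {n : ℕ} {p : ℕ} (hp : p.Prime) (C D x g h : Perm (Fin n)) (N : ℕ)
    (hN : ¬ p ∣ N) (hne : C * D ≠ 1) (hpow : (C * D) ^ N = 1) (hx : x ≠ 1)
    (he : ⁅g * x * g⁻¹, h * x * h⁻¹⁆ = x)
    (h1 : x ∈ Subgroup.closure ({C, D} : Set (Perm (Fin n))))
    (h2 : g ∈ Subgroup.closure ({C, D} : Set (Perm (Fin n))))
    (h3 : h ∈ Subgroup.closure ({C, D} : Set (Perm (Fin n)))) : Good p C D := by
  refine ⟨fun ⟨k, hk⟩ => ?_, not_solvable_of hx he h1 h2 h3⟩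
  rcases k with _ | k
  · exact hne (orderOf_eq_one_iff.mp (by rw [hk, pow_zero]))
  · exact hN ((dvd_pow_self p (Nat.succ_ne_zero k)).trans (hk ▸ orderOf_dvd_of_pow_eq_one hpow))

/-- `(0 1 2)` and `(2 3 4)`. -/
theorem good_five : Good 3 (c[0, 1, 2] : Perm (Fin 5)) c[2, 3, 4] := by
  have hC : (c[0, 1, 2] : Perm (Fin 5)) ∈ Subgroup.closure {c[0, 1, 2], c[2, 3, 4]} :=
    Subgroup.subset_closure (Set.mem_insert _ _)
  have hD : (c[2, 3, 4] : Perm (Fin 5)) ∈ Subgroup.closure {c[0, 1, 2], c[2, 3, 4]} :=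
    Subgroup.subset_closure (Set.mem_insert_of_mem _ rfl)
  exact good_of_witness Nat.prime_three c[0, 1, 2] c[2, 3, 4] c[0, 1, 2] c[2, 3, 4]
    (c[0, 1, 2] * c[2, 3, 4] * c[2, 3, 4] * c[0, 1, 2] * c[2, 3, 4] : Perm (Fin 5))
    5 (by norm_num) (by decide +kernel) (by decide +kernel) (by decide +kernel)
    (by decide +kernel) hC hD
    (mul_mem (mul_mem (mul_mem (mul_mem hC hD) hD) hC) hD)

/-- `(0 1 2)(3 4 5)` and `(0 1 3)(2 5 4)`. -/
theorem good_six : Good 3 (c[0, 1, 2] * c[3, 4, 5] : Perm (Fin 6)) (c[0, 1, 3] * c[2, 5, 4]) := by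
  set C := (c[0, 1, 2] * c[3, 4, 5] : Perm (Fin 6)) with hC'
  set D := (c[0, 1, 3] * c[2, 5, 4] : Perm (Fin 6)) with hD'
  have hC : C ∈ Subgroup.closure {C, D} := Subgroup.subset_closure (Set.mem_insert _ _)
  have hD : D ∈ Subgroup.closure {C, D} := Subgroup.subset_closure (Set.mem_insert_of_mem _ rfl)
  exact good_of_witness Nat.prime_three C D C D (C * D * D * C * D) 5 (by norm_num)
    (by rw [hC', hD']; decide +kernel) (by rw [hC', hD']; decide +kernel) (by rw [hC']; decide +kernel)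
    (by rw [hC', hD']; decide +kernel) hC hD
    (mul_mem (mul_mem (mul_mem (mul_mem hC hD) hD) hC) hD)

/-- `(0 1 2)` and `(0 1 3)(2 4 5)`. -/
theorem good_six' : Good 3 (c[0, 1, 2] : Perm (Fin 6)) (c[0, 1, 3] * c[2, 4, 5]) := by
  set C := (c[0, 1, 2] : Perm (Fin 6)) with hC'
  set D := (c[0, 1, 3] * c[2, 4, 5] : Perm (Fin 6)) with hD'
  have hC : C ∈ Subgroup.closure {C, D} := Subgroup.subset_closure (Set.mem_insert _ _)
  have hD : D ∈ Subgroup.closure {C, D} := Subgroup.subset_closure (Set.mem_insert_of_mem _ rfl)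
  exact good_of_witness Nat.prime_three _ _ (C * D * C * C) D (D * C) 4 (by norm_num)
    (by rw [hC', hD']; decide +kernel) (by rw [hC', hD']; decide +kernel) (by rw [hC', hD']; decide +kernel)
    (by rw [hC', hD']; decide +kernel) (mul_mem (mul_mem (mul_mem hC hD) hC) hC) hD (mul_mem hD hC)

/-- `l = m = 3`. -/
theorem threes {n : ℕ} (hn : 5 ≤ n) (u w : Perm (Fin n)) (i j : ℕ)
    (hu : u.cycleType = Multiset.replicate (i + 1) 3)
    (hw : w.cycleType = Multiset.replicate (j + 1) 3) :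
    ∃ h : Perm (Fin n), Good 3 u (h * w * h⁻¹) := by
  have hui : 3 * (i + 1) ≤ n := by
    have := u.sum_cycleType_le
    rw [hu, Multiset.sum_replicate, Fintype.card_fin, smul_eq_mul] at this
    omega
  have hwj : 3 * (j + 1) ≤ n := by
    have := w.sum_cycleType_le
    rw [hw, Multiset.sum_replicate, Fintype.card_fin, smul_eq_mul] at this
    omega
  have t5 : ∀ σ : Perm (Fin 5), σ = c[0, 1, 2] ∨ σ = c[2, 3, 4] → σ.cycleType = {3} := by
    rintro σ (rfl | rfl) <;> decide +kernel
  have t6 : (c[0, 1, 2] * c[3, 4, 5] : Perm (Fin 6)).cycleType = Multiset.replicate 2 3 ∧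
      (c[0, 1, 3] * c[2, 5, 4] : Perm (Fin 6)).cycleType = Multiset.replicate 2 3 ∧
      (c[0, 1, 2] : Perm (Fin 6)).cycleType = {3} ∧
      (c[0, 1, 3] * c[2, 4, 5] : Perm (Fin 6)).cycleType = Multiset.replicate 2 3 := by
    refine ⟨?_, ?_, ?_, ?_⟩ <;> decide +kernel
  rcases i with _ | i <;> rcases j with _ | j
  · obtain ⟨s, hs⟩ := glue Nat.prime_three (l := 5) (r := n - 5) (by omega) u w _ _ 0 0
      (by rw [hu, t5 _ (Or.inl rfl)]; rfl) (by rw [hw, t5 _ (Or.inr rfl)]; rfl)
      (by simp) (by simp)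
    obtain ⟨h, -, hh⟩ := hs 1 (by simpa using good_five)
    exact ⟨h, hh⟩
  · obtain ⟨s, hs⟩ := glue Nat.prime_three (l := 6) (r := n - 6) (by omega) u w _ _ 0
      (Multiset.replicate j 3) (by rw [hu, t6.2.2.1]; rfl)
      (by rw [hw, t6.2.2.2, ← Multiset.replicate_add]; congr 1; omega)
      (by simp) (by simp; omega)
    obtain ⟨h, -, hh⟩ := hs 1 (by simpa using good_six')
    exact ⟨h, hh⟩
  · obtain ⟨s, hs⟩ := glue Nat.prime_three (l := 6) (r := n - 6) (by omega) w u _ _ 0
      (Multiset.replicate i 3) (by rw [hw, t6.2.2.1]; rfl)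
      (by rw [hu, t6.2.2.2, ← Multiset.replicate_add]; congr 1; omega)
      (by simp) (by simp; omega)
    obtain ⟨h, -, hh⟩ := hs 1 (by simpa using good_six')
    refine ⟨h⁻¹, ?_⟩
    have := hh.swap.map (MulAut.conj h⁻¹).toMonoidHom (MulAut.conj h⁻¹).injective
    simpa [mul_assoc] using this
  · obtain ⟨s, hs⟩ := glue Nat.prime_three (l := 6) (r := n - 6) (by omega) u w _ _
      (Multiset.replicate i 3) (Multiset.replicate j 3)
      (by rw [hu, t6.1, ← Multiset.replicate_add]; congr 1; omega)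
      (by rw [hw, t6.2.1, ← Multiset.replicate_add]; congr 1; omega)
      (by simp; omega) (by simp; omega)
    obtain ⟨h, -, hh⟩ := hs 1 (by simpa using good_six)
    exact ⟨h, hh⟩

/-- The swap of `0` and `1`. -/
def s01 (x : ℕ) : ℕ := if x = 0 then 1 else if x = 1 then 0 else x

/-- The product of the swaps of `0, 1` and of `2, 3`. -/
def s0123 (x : ℕ) : ℕ :=
  if x = 0 then 1 else if x = 1 then 0 else if x = 2 then 3 else if x = 3 then 2 else x

theorem s01_of_le {x : ℕ} (h : 2 ≤ x) : s01 x = x := by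
  rw [s01, if_neg (by omega), if_neg (by omega)]

theorem s0123_of_le {x : ℕ} (h : 4 ≤ x) : s0123 x = x := by
  rw [s0123, if_neg (by omega), if_neg (by omega), if_neg (by omega), if_neg (by omega)]

/-- The `l`-cycle against its conjugates by an odd and an even permutation. -/
theorem equal_cycles {p : ℕ} [hp : Fact p.Prime] (hp3 : 3 ≤ p) {a : ℕ} (ha : 1 ≤ a)
    (h5 : 5 ≤ p ^ a) :
    ∀ s : ℤˣ, ∃ k : Perm (Fin (p ^ a)), Perm.sign k = s ∧
      Good p (finRotate (p ^ a)) (k * finRotate (p ^ a) * k⁻¹) := by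
  obtain ⟨k, hk⟩ := (hp.out.odd_of_ne_two (by omega)).pow (n := a)
  have hpl : p ∣ 2 * k + 1 := hk ▸ dvd_pow_self p (by omega)
  set l := p ^ a with hl
  have hCD : ∀ h : Perm (Fin l), ∃ s, (h * finRotate l * h⁻¹) ^ p ^ s = 1 := fun h => by
    refine ⟨a, ?_⟩
    rw [conj_pow]
    have : finRotate l ^ l = 1 := by
      obtain ⟨v, hv⟩ : ∃ v, l = v + 2 := ⟨l - 2, by omega⟩
      rw [hv]
      exact orderOf_dvd_iff_pow_eq_one.mp (by
        rw [← Perm.lcm_cycleType, cycleType_finRotate]; simp)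
    rw [← hl, this]; group
  have hval : ∀ (h : Perm (Fin l)) (φ : ℕ → ℕ), h⁻¹ = h → (∀ i : Fin l, (h i : ℕ) = φ i) →
      ∀ i : Fin l, ((h * finRotate l * h⁻¹) i : ℕ) = φ ((φ i + 1) % l) := by
    intro h φ hinv hφ i
    rw [Perm.mul_apply, Perm.mul_apply, hinv, hφ, finRotate_val, hφ]
  have hswap : ∀ (x y : ℕ) (hx : x < l) (hy : y < l) (i : Fin l),
      ((Equiv.swap (⟨x, hx⟩ : Fin l) ⟨y, hy⟩) i : ℕ) =
        if (i : ℕ) = x then y else if (i : ℕ) = y then x else (i : ℕ) := by
    intro x y hx hy i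
    rw [Equiv.swap_apply_def]
    split_ifs <;> first | rfl | (simp_all [Fin.ext_iff])
  intro s
  rcases Int.units_eq_one_or s with rfl | rfl
  · -- the even one
    refine ⟨Equiv.swap ⟨0, by omega⟩ ⟨1, by omega⟩ * Equiv.swap ⟨2, by omega⟩ ⟨3, by omega⟩,
      ?_, ?_⟩
    · rw [map_mul, Perm.sign_swap (by simp), Perm.sign_swap (by simp)]; rfl
    set h := (Equiv.swap ⟨0, by omega⟩ ⟨1, by omega⟩ * Equiv.swap ⟨2, by omega⟩ ⟨3, by omega⟩ :
      Perm (Fin l)) with hh
    have hφ : ∀ i : Fin l, (h i : ℕ) = s0123 i := by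
      intro i
      rw [hh, Perm.mul_apply, hswap, hswap]
      simp only [s0123]
      split_ifs <;> first | contradiction | rfl | omega
    have hinv : h⁻¹ = h := by
      rw [Perm.inv_def]
      refine Equiv.ext fun i => ?_
      rw [Equiv.symm_apply_eq]
      refine Fin.ext ?_
      rw [hφ, hφ]
      simp only [s0123]
      split_ifs <;> first | contradiction | rfl | omega
    have hf := hval h s0123 hinv hφ
    set f := fun x => s0123 ((s0123 x + 1) % l) with hfdef
    have fhi : ∀ x, 4 ≤ x → x < 2 * k → f x = x + 1 := fun x h1 h2 => by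
      simp only [hfdef]
      rw [s0123_of_le h1, Nat.mod_eq_of_lt (by omega), s0123_of_le (by omega)]
    have f0 : f 0 = 3 := by
      simp only [hfdef, show s0123 0 = 1 from rfl]
      rw [Nat.mod_eq_of_lt (by omega)]; rfl
    have f1 : f 1 = 0 := by
      simp only [hfdef, show s0123 1 = 0 from rfl]
      rw [Nat.mod_eq_of_lt (by omega)]; rfl
    have f2 : f 2 = 4 := by
      simp only [hfdef, show s0123 2 = 3 from rfl]
      rw [Nat.mod_eq_of_lt (by omega)]; rfl
    have f3 : f 3 = 2 := by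
      simp only [hfdef, show s0123 3 = 2 from rfl]
      rw [Nat.mod_eq_of_lt (by omega)]; rfl
    have flast : f (2 * k) = 1 := by
      simp only [hfdef]
      rw [s0123_of_le (x := 2 * k) (by omega), ← hk, Nat.mod_self]; rfl
    set g := fun x => f x + 1 with hg
    have e1 : ∀ j, 1 ≤ j → j ≤ k - 1 → g^[j] 0 = 2 * j + 2 := by
      intro j
      induction j with
      | zero => intro h _; omega
      | succ j ih =>
        intro _ hj
        rw [Function.iterate_succ_apply']
        rcases Nat.eq_zero_or_pos j with rfl | hj0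
        · simp [hg, f0]
        · rw [ih hj0 (by omega), hg]; simp only
          rw [fhi _ (by omega) (by omega)]; omega
    have ek : g^[k] 0 = 2 := by
      rw [show k = (k - 1) + 1 by omega, Function.iterate_succ_apply', e1 _ (by omega) le_rfl, hg]
      simp only
      rw [show 2 * (k - 1) + 2 = 2 * k by omega, flast]
    have e2 : ∀ i, 1 ≤ i → i ≤ k - 1 → g^[k + i] 0 = 2 * i + 3 := by
      intro i
      induction i with
      | zero => intro h _; omega
      | succ i ih =>
        intro _ hi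
        rw [← Nat.add_assoc, Function.iterate_succ_apply']
        rcases Nat.eq_zero_or_pos i with rfl | hi0
        · rw [Nat.add_zero, ek, hg]; simp only; rw [f2]
        · rw [ih hi0 (by omega), hg]; simp only
          rw [fhi _ (by omega) (by omega)]; omega
    refine good_of_orbit hp3 hl ha _ (hCD h) f hf (2 * k - 1) (by omega) ?_ ?_ ?_ 0 3 (by omega)
      (by omega) ?_
    · intro hd
      have h2 := Nat.dvd_sub hpl hd
      rw [show 2 * k + 1 - (2 * k - 1) = 2 by omega] at h2
      exact absurd (Nat.le_of_dvd two_pos h2) (by omega)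
    · rw [show 2 * k - 1 = k + (k - 1) by omega, e2 _ (by omega) le_rfl]; omega
    · intro j h1 h2
      rcases Nat.lt_trichotomy j k with h | rfl | h
      · rw [e1 j h1 (by omega)]; omega
      · rw [ek]; omega
      · rw [show j = k + (j - k) by omega, e2 _ (by omega) (by omega)]; omega
    · rw [f0, f3]
      intro he
      have : ((4 : ℕ) : ZMod p) = 0 := by push_cast at he ⊢; linear_combination he
      rw [ZMod.natCast_eq_zero_iff] at this
      exact absurd ((Nat.prime_dvd_prime_iff_eq hp.out Nat.prime_two).mp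
        (hp.out.dvd_of_dvd_pow (show p ∣ 2 ^ 2 from this))) (by omega)
  · -- the odd one
    refine ⟨Equiv.swap ⟨0, by omega⟩ ⟨1, by omega⟩, by rw [Perm.sign_swap (by simp)], ?_⟩
    set h := (Equiv.swap ⟨0, by omega⟩ ⟨1, by omega⟩ : Perm (Fin l)) with hh
    have hφ : ∀ i : Fin l, (h i : ℕ) = s01 i := fun i => by rw [hh, hswap, s01]
    have hinv : h⁻¹ = h := by rw [hh, Equiv.swap_inv]
    have hf := hval h s01 hinv hφ
    set f := fun x => s01 ((s01 x + 1) % l) with hfdef
    have fhi : ∀ x, 2 ≤ x → x < 2 * k → f x = x + 1 := fun x h1 h2 => by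
      simp only [hfdef]
      rw [s01_of_le h1, Nat.mod_eq_of_lt (by omega), s01_of_le (by omega)]
    have f0 : f 0 = 2 := by
      simp only [hfdef, show s01 0 = 1 from rfl]
      rw [Nat.mod_eq_of_lt (by omega)]; rfl
    have f1 : f 1 = 0 := by
      simp only [hfdef, show s01 1 = 0 from rfl]
      rw [Nat.mod_eq_of_lt (by omega)]; rfl
    set g := fun x => f x + 1 with hg
    have e1 : ∀ j, 1 ≤ j → j ≤ k → g^[j] 0 = 2 * j + 1 := by
      intro j
      induction j with
      | zero => intro h _; omega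
      | succ j ih =>
        intro _ hj
        rw [Function.iterate_succ_apply']
        rcases Nat.eq_zero_or_pos j with rfl | hj0
        · simp [hg, f0]
        · rw [ih hj0 (by omega), hg]; simp only
          rw [fhi _ (by omega) (by omega)]; omega
    refine good_of_orbit hp3 hl ha _ (hCD h) f hf k (by omega) ?_ (by rw [e1 k (by omega) le_rfl]; omega)
      (fun j h1 h2 => by rw [e1 j h1 h2.le]; omega) 1 2 (by omega) (by omega) ?_
    · intro hd
      rw [Nat.dvd_add_right (hd.mul_left 2)] at hpl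
      exact absurd (Nat.le_of_dvd one_pos hpl) (by omega)
    · rw [f1, fhi 2 le_rfl (by omega)]
      intro he
      have : ((2 : ℕ) : ZMod p) = 0 := by push_cast at he ⊢; linear_combination -he
      rw [ZMod.natCast_eq_zero_iff] at this
      exact absurd (Nat.le_of_dvd two_pos this) (by omega)

/-- The case where the longest cycle of `u` is at least as long as those of `w`. -/
theorem core {p : ℕ} [hp : Fact p.Prime] (hp3 : 3 ≤ p) {n a : ℕ} (hn : 5 ≤ n)
    (u w : Perm (Fin n)) (hw : w ≠ 1) (hu' : ∀ c ∈ u.cycleType, ∃ i, 1 ≤ i ∧ c = p ^ i)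
    (hw' : ∀ c ∈ w.cycleType, ∃ i, 1 ≤ i ∧ c = p ^ i) (ha : 1 ≤ a) (hau : p ^ a ∈ u.cycleType)
    (hmu : ∀ c ∈ u.cycleType, c ≤ p ^ a) (hmw : ∀ c ∈ w.cycleType, c ≤ p ^ a) :
    ∃ h : Perm (Fin n), Perm.sign h = 1 ∧ Good p u (h * w * h⁻¹) := by
  classical
  have hl2 : 2 ≤ p ^ a := Perm.two_le_of_mem_cycleType hau
  have hsu : p ^ a + (u.cycleType.erase (p ^ a)).sum ≤ n := by
    rw [← Multiset.sum_cons, Multiset.cons_erase hau]
    simpa using u.sum_cycleType_le
  have hrot : (finRotate (p ^ a)).cycleType = {p ^ a} := cycleType_finRotate_of_le hl2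
  have hu : u.cycleType = (finRotate (p ^ a)).cycleType + u.cycleType.erase (p ^ a) := by
    rw [hrot, Multiset.singleton_add, Multiset.cons_erase hau]
  by_cases hlw : p ^ a ∈ w.cycleType
  · rcases Nat.lt_or_ge (p ^ a) 5 with h5 | h5
    · have hpa : p = 3 ∧ a = 1 := by
        rcases (show a = 1 ∨ 2 ≤ a by omega) with rfl | h
        · refine ⟨?_, rfl⟩
          rw [pow_one] at h5
          have := hp.out
          interval_cases p
          · rfl
          · norm_num at this
        · exfalso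
          have : p ^ 2 ≤ p ^ a := Nat.pow_le_pow_right hp.out.pos h
          nlinarith
      obtain ⟨rfl, rfl⟩ := hpa
      have all3 : ∀ σ : Perm (Fin n), 3 ∈ σ.cycleType → (∀ c ∈ σ.cycleType, ∃ i, 1 ≤ i ∧ c = 3 ^ i) →
          (∀ c ∈ σ.cycleType, c ≤ 3) → ∃ i, σ.cycleType = Multiset.replicate (i + 1) 3 := by
        intro σ h3 h1 h2
        refine ⟨Multiset.card σ.cycleType - 1, ?_⟩
        rw [Nat.sub_add_cancel (Multiset.card_pos_iff_exists_mem.mpr ⟨3, h3⟩)]
        refine Multiset.eq_replicate_card.mpr fun c hc => ?_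
        obtain ⟨i, hi, rfl⟩ := h1 c hc
        have := Nat.le_self_pow (show i ≠ 0 by omega) 3
        have := h2 _ hc
        omega
      obtain ⟨i, hi⟩ := all3 u hau hu' hmu
      obtain ⟨j, hj⟩ := all3 w hlw hw' hmw
      obtain ⟨h, hh⟩ := threes hn u w i j hi hj
      refine exists_even (fun hle => ?_) hh
      rw [Perm.centralizer_le_alternating_iff] at hle
      obtain ⟨-, h2, h3⟩ := hle
      have := h3 3
      rw [hj, Multiset.count_replicate_self] at this
      rw [hj, Multiset.sum_replicate, Fintype.card_fin, smul_eq_mul] at h2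
      rcases j with _ | j <;> omega
    · have hsw : p ^ a + (w.cycleType.erase (p ^ a)).sum ≤ n := by
        rw [← Multiset.sum_cons, Multiset.cons_erase hlw]
        simpa using w.sum_cycleType_le
      obtain ⟨s, hs⟩ := glue hp.out (l := p ^ a) (r := n - p ^ a) (by omega) u w _ _ _
        (w.cycleType.erase (p ^ a)) hu
        (by rw [hrot, Multiset.singleton_add, Multiset.cons_erase hlw]) (by omega) (by omega)
      obtain ⟨k, hks, hk⟩ := equal_cycles hp3 ha h5 s
      obtain ⟨h, hh1, hh2⟩ := hs k hk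
      exact ⟨h, by rw [hh1, hks, Int.units_mul_self], hh2⟩
  · -- all cycles of `w` are shorter
    obtain ⟨m, hm⟩ : ∃ m, m ∈ w.cycleType := Multiset.exists_mem_of_ne_zero
      (fun h => hw (Perm.cycleType_eq_zero.mp h))
    obtain ⟨m, hm, hmax⟩ : ∃ m ∈ w.cycleType, ∀ c ∈ w.cycleType, c ≤ m := by
      obtain ⟨m', hm', hmax'⟩ := Finset.exists_max_image w.cycleType.toFinset id
        ⟨m, Multiset.mem_toFinset.mpr hm⟩
      exact ⟨m', Multiset.mem_toFinset.mp hm', fun c hc => hmax' c (Multiset.mem_toFinset.mpr hc)⟩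
    obtain ⟨b, hb, rfl⟩ := hw' m hm
    have hba : b < a := by
      by_contra hcon
      rcases Nat.lt_or_ge a b with h | h
      · exact absurd (hmw _ hm) (not_le.mpr (Nat.pow_lt_pow_right hp.out.one_lt h))
      · exact hlw ((show b = a by omega) ▸ hm)
    set M := parts w with hM
    have hMm : p ^ b ∈ M := Multiset.mem_add.mpr (Or.inl hm)
    have hMpow : ∀ x ∈ M, ∃ i, i ≤ b ∧ x = p ^ i := by
      intro x hx
      rcases Multiset.mem_add.mp hx with h | h
      · obtain ⟨i, -, rfl⟩ := hw' x h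
        exact ⟨i, (Nat.pow_le_pow_iff_right hp.out.one_lt).mp (hmax _ h), rfl⟩
      · exact ⟨0, Nat.zero_le _, by rw [Multiset.eq_of_mem_replicate h, pow_zero]⟩
    have hsum : p ^ b + (M.erase (p ^ b)).sum = n := by
      rw [← Multiset.sum_cons, Multiset.cons_erase hMm, parts_sum]
    have hj1 : (p ^ (a - b) - 1) * p ^ b = p ^ a - p ^ b := by
      rw [Nat.sub_mul, one_mul, ← pow_add, Nat.sub_add_cancel hba.le]
    obtain ⟨S, hS, hSsum⟩ := exists_part p b (p ^ (a - b) - 1) (M.erase (p ^ b))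
      (fun x hx => hMpow x (Multiset.mem_of_mem_erase hx)) (by rw [hj1]; omega)
    rw [hj1] at hSsum
    have hlt : p ^ b < p ^ a := Nat.pow_lt_pow_right hp.out.one_lt hba
    have hS0 : S ≠ 0 := fun h => by rw [h, Multiset.sum_zero] at hSsum; omega
    obtain ⟨L, hLparts, hw2, hwp, x, y, hx, hy, hxy⟩ := exists_blocks hp3 (a := a) (p ^ b) S
      (Perm.two_le_of_mem_cycleType hm) ⟨b, rfl⟩
      (fun z hz => (hMpow z (Multiset.mem_of_mem_erase (Multiset.mem_of_le hS hz))).imp
        fun i hi => hi.2) hS0 (by omega)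
    have htot : tot L = p ^ a := by rw [tot_eq, hLparts, Multiset.sum_cons, hSsum]; omega
    have hle : p ^ b ::ₘ S ≤ M := by
      rw [← Multiset.cons_erase hMm]; exact Multiset.cons_le_cons _ hS
    have hD1 : (blockPerm L).cycleType = (p ^ b ::ₘ S).filter (fun c => 2 ≤ c) := by
      rw [cycleType_blockPerm, hLparts]
    have hDpow : ∃ s, blockPerm L ^ p ^ s = 1 := by
      refine ⟨b, orderOf_dvd_iff_pow_eq_one.mp ?_⟩
      rw [← Perm.lcm_cycleType, hD1, Multiset.lcm_dvd]
      intro z hz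
      obtain ⟨i, hi, rfl⟩ := hMpow z (Multiset.mem_of_le hle (Multiset.mem_of_mem_filter hz))
      exact pow_dvd_pow p hi
    obtain ⟨hend, hmid⟩ := orbit_blocks L
    have hgood : Good p (finRotate (tot L)) (blockPerm L) :=
      good_of_orbit hp3 htot ha _ hDpow _ (blockPerm_val L) (wt L) hw2 hwp hend hmid x y hx hy hxy
    obtain ⟨s, hs⟩ := glue hp.out (l := tot L) (r := n - tot L) (by omega) u w
      (finRotate (tot L)) (blockPerm L) (u.cycleType.erase (p ^ a))
      ((M - (p ^ b ::ₘ S)).filter (fun c => 2 ≤ c))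
      (by rw [htot]; exact hu)
      (by rw [hD1, ← Multiset.filter_add, add_comm, Multiset.sub_add_cancel hle, parts_filter])
      (by omega) (by
        have h1 : (M - (p ^ b ::ₘ S)).sum + (p ^ b ::ₘ S).sum = n := by
          rw [← Multiset.sum_add, Multiset.sub_add_cancel hle, parts_sum]
        have h2 := congrArg Multiset.sum (Multiset.filter_add_not (fun c => 2 ≤ c)
          (M - (p ^ b ::ₘ S)))
        rw [Multiset.sum_add] at h2
        rw [Multiset.sum_cons] at h1
        omega)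
    obtain ⟨h, -, hh⟩ := hs 1 (by simpa using hgood)
    refine exists_even (fun hle' => ?_) hh
    rw [Perm.centralizer_le_alternating_iff] at hle'
    obtain ⟨-, h2, h3⟩ := hle'
    rw [Fintype.card_fin] at h2
    have hnod : w.cycleType.Nodup := Multiset.nodup_iff_count_le_one.mpr h3
    -- the cycle lengths are distinct powers below `p ^ a`
    have hsub : w.cycleType.toFinset ⊆ (Finset.range a).image (fun i => p ^ i) := by
      intro c hc
      obtain ⟨i, -, rfl⟩ := hw' c (Multiset.mem_toFinset.mp hc)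
      refine Finset.mem_image.mpr ⟨i, Finset.mem_range.mpr ?_, rfl⟩
      exact lt_of_le_of_lt ((Nat.pow_le_pow_iff_right hp.out.one_lt).mp
        (hmax _ (Multiset.mem_toFinset.mp hc))) hba
    have hlt' : w.cycleType.sum < p ^ a := by
      calc w.cycleType.sum = ∑ c ∈ w.cycleType.toFinset, c := by
            rw [Finset.sum_eq_multiset_sum, Multiset.toFinset_val, hnod.dedup, Multiset.map_id']
        _ ≤ ∑ c ∈ (Finset.range a).image (fun i => p ^ i), c :=
            Finset.sum_le_sum_of_subset hsub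
        _ = ∑ i ∈ Finset.range a, p ^ i :=
            Finset.sum_image fun i _ j _ h => Nat.pow_right_injective hp.out.two_le h
        _ < p ^ a := Nat.geomSum_lt hp.out.two_le fun i hi => Finset.mem_range.mp hi
    have hdiv : p ∣ w.cycleType.sum := Multiset.dvd_sum fun c hc => by
      obtain ⟨i, hi, rfl⟩ := hw' c hc
      exact dvd_pow_self p (by omega)
    have hpa : p ∣ p ^ a := dvd_pow_self p (by omega)
    have h4 := Nat.dvd_sub hpa hdiv
    rw [show p ^ a - w.cycleType.sum = 1 by omega] at h4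
    exact hp.out.not_dvd_one h4

/-- Let n ≥ 5, p ≥ 3 a prime, and u, w non-identity elements of p-power order in the alternating group A_n. Then there is g ∈ A_n such that u·(g w g⁻¹) does not have p-power order and ⟨u, g w g⁻¹⟩ is not solvable. -/
theorem result (n : ℕ) (hn : 5 ≤ n) (p : ℕ) (hp : p.Prime) (hp3 : 3 ≤ p) (u w : alternatingGroup (Fin n)) (hu : u ≠ 1) (hw : w ≠ 1)
    (hu' : ∃ k : ℕ, orderOf u = p ^ k) (hw' : ∃ k : ℕ, orderOf w = p ^ k) :
    ∃ g : alternatingGroup (Fin n), (¬ ∃ k : ℕ, orderOf (u * (g * w * g⁻¹)) = p ^ k) ∧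
      ¬ Group.IsSolvable ↥(Subgroup.closure ({u, g * w * g⁻¹} : Set (alternatingGroup (Fin n)))) := by
  have := Fact.mk hp
  classical
  obtain ⟨σ, hσ⟩ := u
  obtain ⟨τ, hτ⟩ := w
  have hσ1 : σ ≠ 1 := fun h => hu (Subtype.ext h)
  have hτ1 : τ ≠ 1 := fun h => hw (Subtype.ext h)
  have hσp := cycle_pow hp (σ := σ) (hu'.imp fun k hk => by
    rw [← hk]; exact (orderOf_injective (alternatingGroup (Fin n)).subtype Subtype.val_injective ⟨σ, hσ⟩))
  have hτp := cycle_pow hp (σ := τ) (hw'.imp fun k hk => by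
    rw [← hk]; exact (orderOf_injective (alternatingGroup (Fin n)).subtype Subtype.val_injective ⟨τ, hτ⟩))
  suffices H : ∃ h : Perm (Fin n), Perm.sign h = 1 ∧ Good p σ (h * τ * h⁻¹) by
    obtain ⟨h, hs, hg⟩ := H
    refine ⟨⟨h, Equiv.Perm.mem_alternatingGroup.mpr hs⟩, ?_⟩
    exact Good.of_map hp (alternatingGroup (Fin n)).subtype hg
  have top : ∀ π : Perm (Fin n), π ≠ 1 → (∀ c ∈ π.cycleType, ∃ i, 1 ≤ i ∧ c = p ^ i) →
      ∃ a, 1 ≤ a ∧ p ^ a ∈ π.cycleType ∧ ∀ c ∈ π.cycleType, c ≤ p ^ a := by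
    intro π hπ hπp
    obtain ⟨m, hm⟩ := Multiset.exists_mem_of_ne_zero
      (fun h => hπ (Perm.cycleType_eq_zero.mp h))
    obtain ⟨m', hm', hmax⟩ := Finset.exists_max_image π.cycleType.toFinset id
      ⟨m, Multiset.mem_toFinset.mpr hm⟩
    obtain ⟨a, ha, rfl⟩ := hπp m' (Multiset.mem_toFinset.mp hm')
    exact ⟨a, ha, Multiset.mem_toFinset.mp hm', fun c hc => hmax c (Multiset.mem_toFinset.mpr hc)⟩
  obtain ⟨a, ha, hau, hmu⟩ := top σ hσ1 hσp
  obtain ⟨b, hb, hbw, hmw⟩ := top τ hτ1 hτp
  rcases Nat.le_total (p ^ b) (p ^ a) with h | h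
  · exact core hp3 hn σ τ hτ1 hσp hτp ha hau hmu fun c hc => (hmw c hc).trans h
  · obtain ⟨g, hg1, hg2⟩ := core hp3 hn τ σ hσ1 hτp hσp hb hbw hmw fun c hc => (hmu c hc).trans h
    refine ⟨g⁻¹, by rw [map_inv, hg1, inv_one], ?_⟩
    have := hg2.swap.map (MulAut.conj g⁻¹).toMonoidHom (MulAut.conj g⁻¹).injective
    simpa [mul_assoc] using this

end Cfsg.Agent.S2276
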