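import Cfsg.Statements.S2277
import Mathlib
import Cfsg.Agent.TwoGen.Core
import Cfsg.Agent.Core.Frattini
import Cfsg.Agent.CentLarge.Basic

set_option autoImplicit false
open Cfsg

namespace Cfsg.Agent.S2277

theorem stage2 {P V : Type*} [Group P] [CommGroup V] [Finite P] [Finite V] {p : ℕ} [Fact p.Prime] (hp3 : 3 ≤ p)
    (hP : IsPGroup p P) (hcopV : (Nat.card V).Coprime p) (ρ0 : P →* MulAut V)
    (hirr : ∀ W : Subgroup V, (∀ g : P, ∀ u ∈ W, ρ0 g u ∈ W) → W ≠ ⊥ → ∀ (g : P) (v : V), v⁻¹ * ρ0 g v ∈ W)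
    (C D : Set P) (hC : Subgroup.closure C = ⊤) (hD : Subgroup.closure D = ⊤)
    (hfac : ∀ c ∈ C, ∀ d ∈ D, ∀ v, ∃ a b, ρ0 c a = a ∧ ρ0 d b = b ∧ a * b = v) :
    ∀ g v, ρ0 g v = v := by
  classical
  by_contra! hmoved
  have hfixed : ∀ v : V, ∀ (g : P) (d : V), ρ0 g v = v * d → ρ0 g d = d → d = 1 := by
    intro v g d hv hd
    have hit : ∀ j : ℕ, (ρ0 g ^ j) v = v * d ^ j := by
      intro j
      induction j with
      | zero => simp
      | succ j ih => rw [pow_succ', MulAut.mul_apply, ih, map_mul, hv, map_pow, hd, mul_assoc, ← pow_succ']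
    have h1 := hit (Nat.card P)
    rw [← map_pow, pow_card_eq_one', map_one, MulAut.one_apply, left_eq_mul] at h1
    obtain ⟨k, hk⟩ := hP.exists_card_eq
    exact (powCoprime (hcopV.pow_right k)).injective (show d ^ p ^ k = 1 ^ p ^ k by rw [← hk, h1, one_pow])
  have hfix : ∀ v : V, (∀ g, ρ0 g v = v) → v = 1 := by
    intro v hv
    by_contra hv1
    let W : Subgroup V :=
      { carrier := {u | ∀ g, ρ0 g u = u}
        one_mem' := fun g => map_one _
        mul_mem' := fun {a b} ha hb g => by rw [map_mul, ha g, hb g]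
        inv_mem' := fun {a} ha g => by rw [map_inv, ha g] }
    have hW : W ≠ ⊥ := fun h => hv1 (Subgroup.mem_bot.1 (h ▸ (hv : v ∈ W)))
    obtain ⟨g, w, hgw⟩ := hmoved
    have := hirr W (fun g u hu => (hu g).symm ▸ hu) hW g w
    have h1 := hfixed w g (w⁻¹ * ρ0 g w) (by rw [mul_inv_cancel_left]) (this g)
    exact hgw (inv_mul_eq_one.1 h1).symm
  haveI : Fintype P := Fintype.ofFinite P
  have hirr2 : ∀ W : Subgroup V, (∀ g : P, ∀ u ∈ W, ρ0 g u ∈ W) → W = ⊥ ∨ W = ⊤ := by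
    intro W hW
    by_cases hW1 : W = ⊥
    · exact Or.inl hW1
    refine Or.inr (eq_top_iff.2 fun v _ => ?_)
    have h1 : ∏ g : P, ρ0 g v = 1 := hfix _ fun h => by
      rw [map_prod]
      exact Fintype.prod_equiv (Equiv.mulLeft h) _ _ fun g => by rw [← MulAut.mul_apply, ← map_mul]; rfl
    have h2 : ∏ g : P, (v⁻¹ * ρ0 g v) ∈ W := Subgroup.prod_mem W fun g _ => hirr W hW hW1 g v
    rw [Finset.prod_mul_distrib, h1, mul_one, Finset.prod_const, Finset.card_univ, inv_pow, W.inv_mem_iff,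
      ← Nat.card_eq_fintype_card] at h2
    obtain ⟨k, hk⟩ := hP.exists_card_eq
    obtain ⟨m, hm⟩ := exists_pow_eq_self_of_coprime (x := v)
      (Nat.Coprime.coprime_dvd_right (orderOf_dvd_natCard v) ((hcopV.pow_right k).symm))
    rw [← hm]
    exact W.pow_mem (hk ▸ h2) m
  have hgen : ∀ S : Set P, Subgroup.closure S = ⊤ → Subgroup.closure (ρ0.rangeRestrict '' S) = ⊤ := fun S hS => by
    rw [← MonoidHom.map_closure, hS, Subgroup.map_top_of_surjective _ ρ0.rangeRestrict_surjective]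
  have hsub := Cfsg.Agent.TwoGen.trivial_of_factorisation hp3 (hP.of_surjective ρ0.rangeRestrict ρ0.rangeRestrict_surjective)
    ρ0.range.subtype Subtype.val_injective hcopV
    (fun W hW => hirr2 W fun g u hu => hW (ρ0.rangeRestrict g) u hu)
    (ρ0.rangeRestrict '' C) (ρ0.rangeRestrict '' D) (hgen C hC) (hgen D hD) (by
      rintro _ ⟨c, hc, rfl⟩ _ ⟨d, hd, rfl⟩ v
      exact hfac c hc d hd v)
  obtain ⟨g, v, hgv⟩ := hmoved
  have h1 : ρ0.rangeRestrict g = 1 := Subsingleton.elim _ _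
  exact hgv (by rw [show ρ0 g = 1 from congrArg Subtype.val h1, MulAut.one_apply])

theorem stage2' {P V : Type*} [Group P] [iV : Group V] [Finite P] [Finite V] (hc : ∀ a b : V, a * b = b * a) {p : ℕ} [Fact p.Prime] (hp3 : 3 ≤ p)
    (hP : IsPGroup p P) (hcopV : (Nat.card V).Coprime p) (ρ0 : P →* MulAut V)
    (hirr : ∀ W : Subgroup V, (∀ g : P, ∀ u ∈ W, ρ0 g u ∈ W) → W ≠ ⊥ → ∀ (g : P) (v : V), v⁻¹ * ρ0 g v ∈ W)
    (C D : Set P) (hC : Subgroup.closure C = ⊤) (hD : Subgroup.closure D = ⊤)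
    (hfac : ∀ c ∈ C, ∀ d ∈ D, ∀ v, ∃ a b, ρ0 c a = a ∧ ρ0 d b = b ∧ a * b = v) :
    ∀ g v, ρ0 g v = v :=
  letI : CommGroup V := { iV with mul_comm := hc }
  stage2 hp3 hP hcopV ρ0 hirr C D hC hD hfac

theorem trivial_on_sylow {G : Type*} [Group G] [Finite G] {p q : ℕ} [Fact p.Prime] [Fact q.Prime] (hp3 : 3 ≤ p)
    (P Q : Subgroup G) (hP : IsPGroup p P) (hQp : IsPGroup q Q) (hQ : P ≤ Subgroup.normalizer (Q : Set G))
    (hcop : (Nat.card Q).Coprime p) (C D : Set G) (hC : Subgroup.closure C = P) (hD : Subgroup.closure D = P)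
    (hfac : ∀ c ∈ C, ∀ d ∈ D, ∀ x ∈ Q, ∃ a b, a ∈ Q ∧ b ∈ Q ∧ c * a = a * c ∧ d * b = b * d ∧ a * b = x) :
    P ≤ Subgroup.centralizer (Q : Set G) := by
  classical
  by_contra hnc
  haveI : Group.IsNilpotent Q := hQp.isNilpotent
  have hcopPQ : (Nat.card P).Coprime (Nat.card Q) := by
    obtain ⟨k, hk⟩ := hP.exists_card_eq
    rw [hk]; exact (hcop.symm).pow_left k
  set D0 := (commutator Q).map Q.subtype with hD0
  have hD0n : P ≤ Subgroup.normalizer (D0 : Set G) := by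
    intro x hx
    have h1 : Q.map (MulAut.conj x).toMonoidHom = Q := by
      ext z
      rw [Subgroup.mem_map_equiv, MulAut.conj_symm_apply]
      exact (Subgroup.mem_normalizer_iff''.1 (hQ hx) z).symm
    rw [Subgroup.mem_normalizer_iff'']
    intro z
    rw [hD0, Subgroup.map_subtype_commutator]
    conv_lhs => rw [← h1, ← Subgroup.map_commutator, Subgroup.mem_map_equiv, MulAut.conj_symm_apply]
  obtain ⟨U, ⟨hUQ, hUP, hDU, hUnt⟩, hmax⟩ := wellFounded_gt.has_min
    {U : Subgroup G | U ≤ Q ∧ P ≤ Subgroup.normalizer (U : Set G) ∧ D0 ≤ U ∧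
      ¬ ∀ a ∈ P, ∀ k ∈ Q, a * k * a⁻¹ * k⁻¹ ∈ U}
    ⟨D0, Subgroup.map_subtype_le _, hD0n, le_rfl, fun h => hnc
      (Cfsg.Agent.Coprime.le_centralizer_of_trivial_mod_frattini hQ
        (hcopPQ.coprime_dvd_right (Subgroup.card_subgroup_dvd_card _))
        fun a ha k hk => Subgroup.map_mono (Cfsg.Agent.Core.commutator_le_frattini) (h a ha k hk))⟩
  have hcU : commutator Q ≤ U.subgroupOf Q := fun x hx => hDU ⟨x, hx, rfl⟩
  haveI hUn : (U.subgroupOf Q).Normal := by
    constructor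
    intro u hu g
    have : g * u * g⁻¹ * u⁻¹ ∈ U.subgroupOf Q := hcU (by
      rw [commutator_eq_closure]; exact Subgroup.subset_closure ⟨g, u, rfl⟩)
    simpa using (U.subgroupOf Q).mul_mem this hu
  have hVc : ∀ a b : Q ⧸ U.subgroupOf Q, a * b = b * a := by
    intro a b
    obtain ⟨a, rfl⟩ := QuotientGroup.mk_surjective a
    obtain ⟨b, rfl⟩ := QuotientGroup.mk_surjective b
    refine (QuotientGroup.eq (s := U.subgroupOf Q)).2 (hcU ?_)
    rw [commutator_eq_closure]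
    exact Subgroup.subset_closure ⟨b⁻¹, a⁻¹, by rw [commutatorElement_def]; group⟩
  let σ : P →* MulAut Q := Q.normalizerMonoidHom.comp (Subgroup.inclusion hQ)
  have hσ : ∀ (g : P) (x : Q), ((σ g x : Q) : G) = g * x * (g : G)⁻¹ := fun g x => rfl
  have hσU : ∀ g : P, (U.subgroupOf Q).map (σ g).toMonoidHom = U.subgroupOf Q := by
    intro g
    ext x
    rw [Subgroup.mem_map_equiv, Subgroup.mem_subgroupOf, Subgroup.mem_subgroupOf]
    have h := Subgroup.mem_normalizer_iff.1 (hUP g.2) (((σ g).symm x : Q) : G)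
    rw [← hσ, MulEquiv.apply_symm_apply] at h
    exact h
  let ρ0 : P →* MulAut (Q ⧸ U.subgroupOf Q) := MonoidHom.mk' (fun g => QuotientGroup.congr _ _ (σ g) (hσU g))
    fun a b => by
      apply MulEquiv.ext
      intro v
      obtain ⟨x, rfl⟩ := QuotientGroup.mk_surjective v
      show QuotientGroup.mk (σ (a * b) x) = _
      rw [map_mul]; rfl
  have hρ0 : ∀ (g : P) (x : Q), ρ0 g (QuotientGroup.mk x) = QuotientGroup.mk (σ g x) := fun g x => rfl
  have hmem : ∀ (g : P) (x : Q), ρ0 g (QuotientGroup.mk x) = QuotientGroup.mk x ↔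
      (g : G) * x * (g : G)⁻¹ * (x : G)⁻¹ ∈ U := by
    intro g x
    rw [hρ0, eq_comm, QuotientGroup.eq_iff_div_mem, Subgroup.mem_subgroupOf, ← U.inv_mem_iff]
    simp [div_eq_mul_inv, hσ, mul_assoc]
  have hmoved : ∃ (g : P) (v : Q ⧸ U.subgroupOf Q), ρ0 g v ≠ v := by
    by_contra! h
    exact hUnt fun a ha k hk => (hmem ⟨a, ha⟩ ⟨k, hk⟩).1 (h _ _)
  have hgenP : ∀ S : Set G, Subgroup.closure S = P → Subgroup.closure (((↑) : P → G) ⁻¹' S) = ⊤ := by
    intro S hS
    refine Subgroup.map_injective P.subtype_injective ?_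
    rw [MonoidHom.map_closure, ← MonoidHom.range_eq_map, Subgroup.range_subtype, Subgroup.coe_subtype,
      Set.image_preimage_eq_of_subset, hS]
    intro s hs
    exact ⟨⟨s, hS ▸ Subgroup.subset_closure hs⟩, rfl⟩
  have hcopV : (Nat.card (Q ⧸ U.subgroupOf Q)).Coprime p :=
    hcop.coprime_dvd_left (Subgroup.card_quotient_dvd_card _)
  have hirr : ∀ W : Subgroup (Q ⧸ U.subgroupOf Q), (∀ g : P, ∀ u ∈ W, ρ0 g u ∈ W) → W ≠ ⊥ →
      ∀ (g : P) (v : Q ⧸ U.subgroupOf Q), v⁻¹ * ρ0 g v ∈ W := by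
    intro W hW hW1 g v
    obtain ⟨k, rfl⟩ := QuotientGroup.mk_surjective v
    let U' := (W.comap (QuotientGroup.mk' (U.subgroupOf Q))).map Q.subtype
    have hUU' : U < U' := by
      refine lt_of_le_of_ne (fun x hx => ⟨⟨x, hUQ hx⟩, ?_, rfl⟩) fun h => hW1 ?_
      · show QuotientGroup.mk' _ _ ∈ W
        rw [show QuotientGroup.mk' (U.subgroupOf Q) ⟨x, hUQ hx⟩ = 1 from (QuotientGroup.eq_one_iff _).2 hx]
        exact W.one_mem
      · rw [Subgroup.eq_bot_iff_forall]
        intro w hw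
        obtain ⟨x, rfl⟩ := QuotientGroup.mk_surjective w
        have hx : (x : G) ∈ U := h ▸ ⟨x, hw, rfl⟩
        exact (QuotientGroup.eq_one_iff _).2 hx
    have hU'P : P ≤ Subgroup.normalizer (U' : Set G) := fun a ha => Subgroup.mem_normalizer_fintype fun x hx => by
      obtain ⟨y, hy, rfl⟩ := hx
      exact ⟨σ ⟨a, ha⟩ y, hW ⟨a, ha⟩ _ hy, rfl⟩
    have htriv : ∀ a ∈ P, ∀ k ∈ Q, a * k * a⁻¹ * k⁻¹ ∈ U' := by
      by_contra h
      exact hmax U' ⟨Subgroup.map_subtype_le _, hU'P, hDU.trans hUU'.le, h⟩ hUU'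
    obtain ⟨y, hy, hye⟩ := htriv g g.2 k k.2
    have e : QuotientGroup.mk y = (QuotientGroup.mk k)⁻¹ * ρ0 g (QuotientGroup.mk k) := by
      have hy2 : y = σ g k * k⁻¹ := Subtype.ext (by rw [Subgroup.coe_mul, hσ]; exact hye)
      rw [hy2, QuotientGroup.mk_mul, QuotientGroup.mk_inv, hρ0]
      exact hVc _ _
    exact e ▸ hy
  obtain ⟨g, v, hgv⟩ := hmoved
  refine hgv (stage2' hVc hp3 hP hcopV ρ0 hirr _ _ (hgenP C hC) (hgenP D hD) ?_ g v)
  intro c hc d hd v
  obtain ⟨x, rfl⟩ := QuotientGroup.mk_surjective v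
  obtain ⟨a, b, ha, hb, hca, hdb, hab⟩ := hfac c hc d hd x x.2
  refine ⟨QuotientGroup.mk ⟨a, ha⟩, QuotientGroup.mk ⟨b, hb⟩, ?_, ?_, ?_⟩
  · refine (hmem c ⟨a, ha⟩).2 ?_
    rw [show (c : G) * a * (c : G)⁻¹ * a⁻¹ = 1 by rw [hca]; group]
    exact U.one_mem
  · refine (hmem d ⟨b, hb⟩).2 ?_
    rw [show (d : G) * b * (d : G)⁻¹ * b⁻¹ = 1 by rw [hdb]; group]
    exact U.one_mem
  · rw [← QuotientGroup.mk_mul]; exact congrArg _ (Subtype.ext hab)

open scoped Pointwise in
theorem sylow_factorises {G : Type*} [Group G] [Finite G] {q : ℕ} [Fact q.Prime] (N : Subgroup G) [N.Normal] (Q : Sylow q N)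
    (c d : G) (hc : (Nat.card (Subgroup.zpowers c)).Coprime (Nat.card N)) (hd : (Nat.card (Subgroup.zpowers d)).Coprime (Nat.card N))
    (hQc : c ∈ Subgroup.normalizer ((Q : Subgroup N).map N.subtype : Set G))
    (hQd : d ∈ Subgroup.normalizer ((Q : Subgroup N).map N.subtype : Set G))
    (hN : ∀ x ∈ N, ∃ a b, a ∈ N ∧ b ∈ N ∧ c * a = a * c ∧ d * b = b * d ∧ a * b = x) :
    ∀ x ∈ (Q : Subgroup N).map N.subtype,
      ∃ a b, a ∈ (Q : Subgroup N).map N.subtype ∧ b ∈ (Q : Subgroup N).map N.subtype ∧ c * a = a * c ∧ d * b = b * d ∧ a * b = x := by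
  set Qg := (Q : Subgroup N).map N.subtype with hQg
  have hQN : Qg ≤ N := Subgroup.map_subtype_le _
  have big : ∀ e : G, (Nat.card (Subgroup.zpowers e)).Coprime (Nat.card N) → e ∈ Subgroup.normalizer (Qg : Set G) →
      q ^ (Nat.card (N ⊓ Subgroup.centralizer {e} : Subgroup G)).factorization q ≤ Nat.card (Qg ⊓ Subgroup.centralizer {e} : Subgroup G) := by
    intro e he heQ
    set A := Subgroup.zpowers e
    have hsolv : Group.IsSolvable A := inferInstance
    obtain ⟨R⟩ : Nonempty (Sylow q (N ⊓ Subgroup.centralizer {e} : Subgroup G)) := inferInstance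
    set Rg := (R : Subgroup (N ⊓ Subgroup.centralizer {e} : Subgroup G)).map (Subgroup.subtype _)
    have hRle : Rg ≤ N ⊓ Subgroup.centralizer {e} := Subgroup.map_subtype_le _
    have hRA : A ≤ Subgroup.normalizer (Rg : Set G) := by
      rw [Subgroup.zpowers_le]
      refine Subgroup.mem_normalizer_fintype fun z hz => ?_
      have := Subgroup.mem_centralizer_singleton_iff.1 (hRle hz).2
      rw [← this, mul_inv_cancel_right]
      exact hz
    obtain ⟨R', hRR', hR'A⟩ := Cfsg.Agent.Coprime.exists_le_invariant_sylow (A := A) Subgroup.le_normalizer_of_normal he (Or.inl hsolv) (hRle.trans inf_le_left) (R.2.map _) hRA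
    obtain ⟨f, hf, hfe⟩ := Cfsg.Agent.Coprime.exists_centralizer_conj_sylow (A := A) Subgroup.le_normalizer_of_normal he (Or.inl hsolv) R' Q hR'A (Subgroup.zpowers_le.2 heQ)
    have hmap : ∀ z ∈ Rg, (f : G) * z * (f : G)⁻¹ ∈ Qg ⊓ Subgroup.centralizer {e} := by
      intro z hz
      refine ⟨?_, ?_⟩
      · obtain ⟨w, hw, rfl⟩ := hRR' hz
        exact ⟨MulAut.conj f w, hfe ▸ ⟨w, hw, rfl⟩, rfl⟩
      · refine Subgroup.mem_centralizer_singleton_iff.2 ?_
        have h1 : Commute e (f : G) := Subgroup.mem_centralizer_iff.1 hf e (Subgroup.mem_zpowers e)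
        have h2 : Commute e z := (Subgroup.mem_centralizer_singleton_iff.1 (hRle hz).2).symm
        exact ((h1.mul_right h2).mul_right h1.inv_right).eq.symm
    calc q ^ _ = Nat.card Rg := by rw [Subgroup.card_map_of_injective (Subgroup.subtype_injective _), R.card_eq_multiplicity]
      _ ≤ _ := Nat.card_le_card_of_injective (fun z => (⟨_, hmap z z.2⟩ : (Qg ⊓ Subgroup.centralizer {e} : Subgroup G)))
        fun a b h => Subtype.ext (mul_left_cancel (mul_right_cancel (congrArg Subtype.val h)))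
  set K := Qg ⊓ Subgroup.centralizer {c} with hK
  set L := Qg ⊓ Subgroup.centralizer {d} with hL
  set Nc := N ⊓ Subgroup.centralizer {c}
  set Nd := N ⊓ Subgroup.centralizer {d}
  have hset : ((Nc : Set G) * (Nd : Set G)) = (N : Set G) := by
    refine Set.Subset.antisymm ?_ fun x hx => ?_
    · rintro _ ⟨a, ha, b, hb, rfl⟩; exact N.mul_mem ha.1 hb.1
    · obtain ⟨a, b, ha, hb, hca, hdb, rfl⟩ := hN x hx
      exact ⟨a, ⟨ha, Subgroup.mem_centralizer_singleton_iff.2 hca.symm⟩, b,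
        ⟨hb, Subgroup.mem_centralizer_singleton_iff.2 hdb.symm⟩, rfl⟩
  have h1 := Cfsg.Agent.CentLarge.card_mul_card_inf Nc Nd
  rw [hset] at h1
  change Nat.card N * _ = _ at h1
  have h2 := Cfsg.Agent.CentLarge.card_mul_card_inf K L
  have hf := congrArg (fun n : ℕ => n.factorization q) h1
  simp only [Nat.factorization_mul Nat.card_pos.ne' Nat.card_pos.ne', Finsupp.add_apply] at hf
  have hQc' : Nat.card Qg = q ^ (Nat.card N).factorization q := by
    rw [hQg, Subgroup.card_map_of_injective N.subtype_injective, Q.card_eq_multiplicity]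
  have hKL : Nat.card (K ⊓ L : Subgroup G) ≤ q ^ (Nat.card (Nc ⊓ Nd : Subgroup G)).factorization q := by
    have hle : K ⊓ L ≤ Nc ⊓ Nd := inf_le_inf (inf_le_inf_right _ hQN) (inf_le_inf_right _ hQN)
    obtain ⟨k, hk⟩ := ((Q.2.map N.subtype).to_le ((inf_le_left.trans inf_le_left) : K ⊓ L ≤ Qg)).exists_card_eq
    rw [hk]
    exact Nat.pow_le_pow_right (Fact.out : q.Prime).pos
      (((Fact.out : q.Prime).pow_dvd_iff_le_factorization Nat.card_pos.ne').1 (hk ▸ Subgroup.card_dvd_of_le hle))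
  have hge : Nat.card Qg ≤ Nat.card ((K : Set G) * (L : Set G) : Set G) := by
    refine Nat.le_of_mul_le_mul_right ?_ (Nat.card_pos (α := (K ⊓ L : Subgroup G)))
    rw [h2, hQc']
    calc q ^ _ * Nat.card (K ⊓ L : Subgroup G) ≤ q ^ (Nat.card N).factorization q * q ^ (Nat.card (Nc ⊓ Nd : Subgroup G)).factorization q :=
          Nat.mul_le_mul_left _ hKL
      _ = q ^ (Nat.card Nc).factorization q * q ^ (Nat.card Nd).factorization q := by rw [← pow_add, ← pow_add, hf]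
      _ ≤ _ := Nat.mul_le_mul (big c hc hQc) (big d hd hQd)
  have heq : (K : Set G) * (L : Set G) = (Qg : Set G) := by
    refine Set.eq_of_subset_of_ncard_le ?_ ?_ (Set.toFinite _)
    · rintro _ ⟨a, ha, b, hb, rfl⟩; exact Qg.mul_mem ha.1 hb.1
    · rw [← Nat.card_coe_set_eq, ← Nat.card_coe_set_eq]; exact hge
  intro x hx
  obtain ⟨a, ha, b, hb, hab⟩ := heq.ge hx
  exact ⟨a, b, ha.1, hb.1, (Subgroup.mem_centralizer_singleton_iff.1 ha.2).symm, (Subgroup.mem_centralizer_singleton_iff.1 hb.2).symm, hab⟩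


/-- Let p ≥ 3 be prime and G a finite group with a Sylow p-subgroup P and a normal p-complement N (N normal, of order prime to p, with NP = G). Suppose P is generated by a subset C and also by a subset D, and that ⟨x c x⁻¹, d⟩ is a p-group for all x ∈ N, c ∈ C, d ∈ D. Then P centralizes N, so that G = N × P. -/
theorem result {G : Type*} [Group G] [Finite G] (p : ℕ) [Fact p.Prime] (hp3 : 3 ≤ p) (P : Sylow p G)
    (N : Subgroup G) [N.Normal] (hN : (Nat.card N).Coprime p) (hNP : N ⊔ (P : Subgroup G) = ⊤)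
    (C D : Set G) (hC : Subgroup.closure C = (P : Subgroup G)) (hD : Subgroup.closure D = (P : Subgroup G))
    (h : ∀ x ∈ N, ∀ c ∈ C, ∀ d ∈ D, IsPGroup p ↥(Subgroup.closure ({x * c * x⁻¹, d} : Set G))) :
    ⁅(P : Subgroup G), N⁆ = ⊥ := by
  classical
  have hCP : ∀ c ∈ C, c ∈ (P : Subgroup G) := fun c hc => hC ▸ Subgroup.subset_closure hc
  have hDP : ∀ d ∈ D, d ∈ (P : Subgroup G) := fun d hd => hD ▸ Subgroup.subset_closure hd
  obtain ⟨k, hk⟩ := P.2.exists_card_eq
  have hcop : (Nat.card (P : Subgroup G)).Coprime (Nat.card N) := by rw [hk]; exact hN.symm.pow_left k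
  have hdisj : ∀ z ∈ (P : Subgroup G), z ∈ N → z = 1 := fun z hz hzN => by
    have : z ∈ (P : Subgroup G) ⊓ N := ⟨hz, hzN⟩
    rwa [Subgroup.inf_eq_bot_of_coprime hcop, Subgroup.mem_bot] at this
  have hfacN : ∀ c ∈ C, ∀ d ∈ D, ∀ x ∈ N, ∃ a b, a ∈ N ∧ b ∈ N ∧ c * a = a * c ∧ d * b = b * d ∧ a * b = x := by
    intro c hc d hd x hx
    have hH := h x⁻¹ (N.inv_mem hx) c hc d hd
    obtain ⟨R, hR⟩ := hH.exists_le_sylow
    obtain ⟨y, hy⟩ := MulAction.exists_smul_eq G P R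
    obtain ⟨n, hn, π, hπ, hyn⟩ : ∃ n ∈ N, ∃ π ∈ (P : Subgroup G), n * π = y := by
      have hmem : y ∈ ((N ⊔ (P : Subgroup G) : Subgroup G) : Set G) := by rw [hNP]; trivial
      rw [Subgroup.normal_mul] at hmem
      exact hmem
    have key : ∀ z ∈ Subgroup.closure ({x⁻¹ * c * x⁻¹⁻¹, d} : Set G), n⁻¹ * z * n ∈ (P : Subgroup G) := by
      intro z hz
      have hzR := hR hz
      rw [← hy, Sylow.coe_subgroup_smul] at hzR
      obtain ⟨w, hw, hwz⟩ := hzR
      have hwz' : y * w * y⁻¹ = z := hwz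
      rw [show n⁻¹ * z * n = π * w * π⁻¹ by rw [← hwz', ← hyn]; group]
      exact mul_mem (mul_mem hπ hw) (inv_mem hπ)
    have hdd := key d (Subgroup.subset_closure (Or.inr rfl))
    have hnd : n⁻¹ * d * n * d⁻¹ = 1 := hdisj _ (mul_mem hdd (inv_mem (hDP d hd))) (by
      have := N.mul_mem (N.inv_mem hn) ((‹N.Normal›).conj_mem n hn d)
      simpa [mul_assoc] using this)
    have hcc := key _ (Subgroup.subset_closure (Or.inl rfl))
    have hxn : x * n ∈ N := N.mul_mem hx hn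
    have hnc : (x * n)⁻¹ * c * (x * n) * c⁻¹ = 1 := hdisj _
      (mul_mem (by simpa [mul_assoc] using hcc) (inv_mem (hCP c hc))) (by
        have := N.mul_mem (N.inv_mem hxn) ((‹N.Normal›).conj_mem (x * n) hxn c)
        simpa [mul_assoc] using this)
    rw [mul_inv_eq_one] at hnd hnc
    refine ⟨x * n, n⁻¹, hxn, N.inv_mem hn, ?_, ?_, mul_inv_cancel_right x n⟩
    · calc c * (x * n) = (x * n) * ((x * n)⁻¹ * c * (x * n)) := by group
        _ = _ := by rw [hnc]
    · calc d * n⁻¹ = (n⁻¹ * d * n) * n⁻¹ := by rw [hnd]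
        _ = _ := by group
  have hsolv : Group.IsSolvable (P : Subgroup G) := by
    haveI := P.2.isNilpotent
    infer_instance
  rw [Subgroup.commutator_eq_bot_iff_le_centralizer, Subgroup.le_centralizer_iff]
  suffices htop : (Subgroup.centralizer ((P : Subgroup G) : Set G)).subgroupOf N = ⊤ from Subgroup.subgroupOf_eq_top.1 htop
  rw [← Subgroup.index_eq_one]
  by_contra h1
  obtain ⟨q, hq, hqd⟩ := Nat.exists_prime_and_dvd h1
  haveI := Fact.mk hq
  obtain ⟨Q, hQ⟩ := Cfsg.Agent.Coprime.exists_invariant_sylow (A := (P : Subgroup G)) Subgroup.le_normalizer_of_normal hcop (Or.inl hsolv) q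
  have hPQ := trivial_on_sylow hp3 (P : Subgroup G) ((Q : Subgroup N).map N.subtype) P.2 (Q.2.map _) hQ
    (hN.coprime_dvd_left (Subgroup.card_dvd_of_le (Subgroup.map_subtype_le _))) C D hC hD
    (fun c hc d hd => sylow_factorises N Q c d
      (hcop.coprime_dvd_left (Subgroup.card_dvd_of_le (Subgroup.zpowers_le.2 (hCP c hc))))
      (hcop.coprime_dvd_left (Subgroup.card_dvd_of_le (Subgroup.zpowers_le.2 (hDP d hd))))
      (hQ (hCP c hc)) (hQ (hDP d hd)) (hfacN c hc d hd))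
  have hle : (Q : Subgroup N) ≤ (Subgroup.centralizer ((P : Subgroup G) : Set G)).subgroupOf N := fun x hx =>
    Subgroup.le_centralizer_iff.1 hPQ ⟨x, hx, rfl⟩
  exact Q.not_dvd_index (hqd.trans (Subgroup.index_dvd_of_le hle))

end Cfsg.Agent.S2277
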