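import Cfsg.Statements.S2284
import Cfsg.Agent.ShortPres.Shift.Tiny
-- import your own Cfsg.Agent.* helpers here

set_option autoImplicit false
open Cfsg

namespace Cfsg.Agent.S2284

/-- For every n, the symmetric group S_n and the alternating group A_n each have a presentation with 2 generators and at most 8 relations. -/
theorem result (n : ℕ) : (∃ rels : Finset (FreeGroup (Fin 2)), rels.card ≤ 8 ∧ Nonempty (PresentedGroup (↑rels : Set (FreeGroup (Fin 2))) ≃* Equiv.Perm (Fin n))) ∧ (∃ rels : Finset (FreeGroup (Fin 2)), rels.card ≤ 8 ∧ Nonempty (PresentedGroup (↑rels : Set (FreeGroup (Fin 2))) ≃* ↥(alternatingGroup (Fin n)))) := by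
  
  rcases Nat.lt_or_ge n 5 with h | h
  · exact Cfsg.Agent.ShortPres.Shift.tiny_fin n (by omega)
  · obtain ⟨hS, hA⟩ := Cfsg.Agent.ShortPres.Shift.seven_fin n h
    obtain ⟨R, hR, hRe⟩ := hS.two
    obtain ⟨R', hR', hRe'⟩ := hA.two
    exact ⟨⟨R, hR.trans (by norm_num), hRe⟩, R', hR'.trans (by norm_num), hRe'⟩

end Cfsg.Agent.S2284
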