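import Cfsg.Statements.S2292
import Cfsg.Agent.SpShortPres.Pres
import Cfsg.Agent.SpFourPres.Main
import Cfsg.Agent.SpTwoGen.Main

set_option autoImplicit false
open Cfsg

namespace Cfsg.Agent.S2292

/-- Let F be a finite field with q elements and m ≥ 2 with (m, q) ≠ (2, 2). Then the simple group PSp_2m(F) has a presentation with 2 generators and at most 80 relations. -/
theorem result {F : Type*} [Field F] [Fintype F] (m : ℕ) (hm : 2 ≤ m) (h22 : ¬ (m = 2 ∧ Fintype.card F = 2)) :
    ∃ rels : Finset (FreeGroup (Fin 2)), rels.card ≤ 80 ∧ Nonempty (PresentedGroup (↑rels : Set (FreeGroup (Fin 2))) ≃* Cfsg.PSp m F) := by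
  classical
  have hF : m = 2 → 2 < Fintype.card F := fun h => by
    have h1 : Fintype.card F ≠ 2 := fun e => h22 ⟨h, e⟩
    have h2 := Fintype.one_lt_card (α := F)
    omega
  obtain ⟨r, hr, hP⟩ : ∃ r ≤ 78, Cfsg.Agent.ShortPres.HasPres (Cfsg.PSp m F) r := by
    rcases (show m = 2 ∨ 3 ≤ m by omega) with rfl | h3
    · obtain ⟨rels, hc, he⟩ := (Cfsg.Agent.SpFourPres.exists_presentations F).2
      exact ⟨32, by norm_num, Cfsg.Agent.ShortPres.hasPres_of_presented rels hc he⟩
    · have := Fact.mk h3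
      exact ⟨_, by norm_num, Cfsg.Agent.SpShortPres.psp_hasPres⟩
  obtain ⟨a, b, h⟩ := Cfsg.Agent.SpTwoGen.symplectic_two_generated (F := F) hm hF
  have hab : Subgroup.closure ({(QuotientGroup.mk' _ a : Cfsg.PSp m F),
      QuotientGroup.mk' _ b} : Set (Cfsg.PSp m F)) = ⊤ := by
    have h2 := congrArg (Subgroup.map
      (QuotientGroup.mk' (Subgroup.center (Matrix.symplecticGroup (Fin m) F)))) h
    rwa [MonoidHom.map_closure, Set.image_pair,
      Subgroup.map_top_of_surjective _ (QuotientGroup.mk'_surjective _)] at h2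
  obtain ⟨rels, hc, he⟩ := hP.two_gen hab
  exact ⟨rels, by omega, he⟩

end Cfsg.Agent.S2292
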