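import Cfsg.Statements.S2295
import Cfsg.Agent.OPlusPres.Pres
import Cfsg.Agent.S2288
-- import your own Cfsg.Agent.* helpers here

set_option autoImplicit false
open Cfsg

namespace Cfsg.Agent.S2295

/-- Let F be a finite field and n ≥ 4, and let Ω⁺_2n(F) be the commutator subgroup of the orthogonal group of the hyperbolic quadratic form Σ x_i y_i, with PΩ⁺_2n(F) its central quotient. Then Ω⁺_2n(F) has a presentation with 8 generators and at most 31 relations (at most 29 if n = 4 or 5), and PΩ⁺_2n(F) one with 8 generators and at most 32 relations (at most 30 if n = 4 or 5). -/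
theorem result {F : Type*} [Field F] [Fintype F] (n : ℕ) (hn : 4 ≤ n) :
    (∃ rels : Finset (FreeGroup (Fin 8)), rels.card ≤ 31 ∧ Nonempty (PresentedGroup (↑rels : Set (FreeGroup (Fin 8))) ≃* ↥(Cfsg.Omega F (Cfsg.quadFormPlus n F)))) ∧ (∃ rels : Finset (FreeGroup (Fin 8)), rels.card ≤ 32 ∧ Nonempty (PresentedGroup (↑rels : Set (FreeGroup (Fin 8))) ≃* Cfsg.POmega F (Cfsg.quadFormPlus n F))) ∧
    (n ≤ 5 → (∃ rels : Finset (FreeGroup (Fin 8)), rels.card ≤ 29 ∧ Nonempty (PresentedGroup (↑rels : Set (FreeGroup (Fin 8))) ≃* ↥(Cfsg.Omega F (Cfsg.quadFormPlus n F)))) ∧ (∃ rels : Finset (FreeGroup (Fin 8)), rels.card ≤ 30 ∧ Nonempty (PresentedGroup (↑rels : Set (FreeGroup (Fin 8))) ≃* Cfsg.POmega F (Cfsg.quadFormPlus n F)))) := by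
  classical
  obtain ⟨m, rfl⟩ : ∃ m, n = m + 2 := ⟨n - 2, by omega⟩
  obtain ⟨⟨rels, hc, he⟩, -, ⟨r4, hc4, he4⟩, ⟨r5, hc5, he5⟩⟩ :=
    Cfsg.Agent.S2288.result (F := F) (m + 2) (by omega)
  have hp := Cfsg.Agent.ShortPres.presK_of_presented rels hc he
  obtain ⟨h1, h2⟩ := Cfsg.Agent.OPlusPres.oplus_presented (F := F) (m := m) (R := 31) (by omega) hp
    le_rfl (by omega)
  refine ⟨h1, h2, fun h5 => ?_⟩
  have hs : Cfsg.Agent.ShortPres.PresK (Matrix.SpecialLinearGroup (Fin (m + 2)) F) 6 22 := by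
    rcases (show m = 2 ∨ m = 3 by omega) with rfl | rfl
    · exact Cfsg.Agent.ShortPres.presK_of_presented r4 (by omega) he4
    · exact Cfsg.Agent.ShortPres.presK_of_presented r5 hc5 he5
  exact Cfsg.Agent.OPlusPres.oplus_presented (F := F) (R := 29) (by omega) hs (by omega) (by omega)

end Cfsg.Agent.S2295
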