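import Cfsg.Statements.S2296
import Cfsg.Agent.SpShortPres.Gens
import Cfsg.Agent.SL3Pres.Main
import Cfsg.Agent.S2288

set_option autoImplicit false
open Cfsg

namespace Cfsg.Agent.S2296

/-- Let F be a finite field. Sp_2n(F) has a presentation with 10 generators and at most 58 relations for n ≥ 4, with 9 generators and at most 57 relations for n = 4 or 5, and with 8 generators and at most 52 relations for n = 3; in each case PSp_2n(F) has a presentation with the same number of generators and at most one more relation. -/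
theorem result {F : Type*} [Field F] [Fintype F] (n : ℕ) :
    (4 ≤ n → (∃ rels : Finset (FreeGroup (Fin 10)), rels.card ≤ 58 ∧ Nonempty (PresentedGroup (↑rels : Set (FreeGroup (Fin 10))) ≃* Matrix.symplecticGroup (Fin n) F)) ∧ (∃ rels : Finset (FreeGroup (Fin 10)), rels.card ≤ 59 ∧ Nonempty (PresentedGroup (↑rels : Set (FreeGroup (Fin 10))) ≃* Cfsg.PSp n F))) ∧
    ((n = 4 ∨ n = 5) → (∃ rels : Finset (FreeGroup (Fin 9)), rels.card ≤ 57 ∧ Nonempty (PresentedGroup (↑rels : Set (FreeGroup (Fin 9))) ≃* Matrix.symplecticGroup (Fin n) F)) ∧ (∃ rels : Finset (FreeGroup (Fin 9)), rels.card ≤ 58 ∧ Nonempty (PresentedGroup (↑rels : Set (FreeGroup (Fin 9))) ≃* Cfsg.PSp n F))) ∧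
    (n = 3 → (∃ rels : Finset (FreeGroup (Fin 8)), rels.card ≤ 52 ∧ Nonempty (PresentedGroup (↑rels : Set (FreeGroup (Fin 8))) ≃* Matrix.symplecticGroup (Fin n) F)) ∧ (∃ rels : Finset (FreeGroup (Fin 8)), rels.card ≤ 53 ∧ Nonempty (PresentedGroup (↑rels : Set (FreeGroup (Fin 8))) ≃* Cfsg.PSp n F))) := by
  refine ⟨fun h4 => ?_, fun h45 => ?_, fun h3 => ?_⟩
  · have := Fact.mk (show 3 ≤ n by omega)
    obtain ⟨⟨rels, hc, he⟩, -⟩ := Cfsg.Agent.S2288.result (F := F) n h4
    exact Cfsg.Agent.SpShortPres.sp_presented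
      (Cfsg.Agent.ShortPres.presK_of_presented rels hc he) (K := 10) (R := 58) le_rfl (by omega)
  · have := Fact.mk (show 3 ≤ n by omega)
    have hp : Cfsg.Agent.ShortPres.PresK (Matrix.SpecialLinearGroup (Fin n) F) 6 22 := by
      obtain ⟨-, -, ⟨r4, hc4, he4⟩, ⟨r5, hc5, he5⟩⟩ := Cfsg.Agent.S2288.result (F := F) 4 le_rfl
      rcases h45 with rfl | rfl
      · exact Cfsg.Agent.ShortPres.presK_of_presented r4 (by omega) he4
      · exact Cfsg.Agent.ShortPres.presK_of_presented r5 hc5 he5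
    exact Cfsg.Agent.SpShortPres.sp_presented hp (K := 9) (R := 57) le_rfl (by omega)
  · subst h3
    have := Fact.mk (show 3 ≤ 3 from le_rfl)
    obtain ⟨rels, hc, he⟩ := Cfsg.Agent.SL3Pres.exists_presentation (F := F)
    exact Cfsg.Agent.SpShortPres.sp_presented
      (Cfsg.Agent.ShortPres.presK_of_presented rels hc he) (K := 8) (R := 52) (by omega) (by omega)

end Cfsg.Agent.S2296
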