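import Cfsg.Statements.S2298
-- import your own Cfsg.Agent.* helpers here

import Cfsg.Agent.GL2Rep.GLCount

set_option autoImplicit false
open Cfsg

namespace Cfsg.Agent.S2298

open Cfsg.Agent.GL2Rep Cfsg.Agent.GL2Rep.GL Matrix


/-- Over a finite field F with q elements, every irreducible complex character of GL₂ has degree 1, q − 1, q or q + 1; and when q ≥ 3 (so that these four numbers are distinct) there are exactly q − 1 irreducible characters of degree 1, exactly q − 1 of degree q, exactly (q − 1)(q − 2)/2 of degree q + 1 and exactly q(q − 1)/2 of degree q − 1. -/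
theorem result {F : Type*} [Field F] [Fintype F] :
    (∀ χ : Matrix.GeneralLinearGroup (Fin 2) F → ℂ, Cfsg.IsIrrCharacter (Matrix.GeneralLinearGroup (Fin 2) F) χ →
      χ 1 = 1 ∨ χ 1 = (Fintype.card F : ℂ) - 1 ∨ χ 1 = (Fintype.card F : ℂ) ∨ χ 1 = (Fintype.card F : ℂ) + 1) ∧
    (3 ≤ Fintype.card F →
      Nat.card {χ : Cfsg.IrrCharacter (Matrix.GeneralLinearGroup (Fin 2) F) // (χ : Matrix.GeneralLinearGroup (Fin 2) F → ℂ) 1 = 1} = Fintype.card F - 1 ∧
      Nat.card {χ : Cfsg.IrrCharacter (Matrix.GeneralLinearGroup (Fin 2) F) // (χ : Matrix.GeneralLinearGroup (Fin 2) F → ℂ) 1 = (Fintype.card F : ℂ)} = Fintype.card F - 1 ∧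
      Nat.card {χ : Cfsg.IrrCharacter (Matrix.GeneralLinearGroup (Fin 2) F) // (χ : Matrix.GeneralLinearGroup (Fin 2) F → ℂ) 1 = (Fintype.card F : ℂ) + 1} = (Fintype.card F - 1) * (Fintype.card F - 2) / 2 ∧
      Nat.card {χ : Cfsg.IrrCharacter (Matrix.GeneralLinearGroup (Fin 2) F) // (χ : Matrix.GeneralLinearGroup (Fin 2) F → ℂ) 1 = (Fintype.card F : ℂ) - 1} = Fintype.card F * (Fintype.card F - 1) / 2) := by
  classical
  haveI : Fintype (GL (Fin 2) F) := Fintype.ofFinite _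
  obtain ⟨L, S, P, C, hall, hL, hS, hP, hC, cL, cS, cP, cC⟩ := table (F := F)
  refine ⟨fun χ hχ => ?_, fun hq => ?_⟩
  · rcases hall ⟨χ, hχ⟩ with h | h | h | h
    · exact Or.inl (hL _ h).1
    · exact Or.inr (Or.inr (Or.inl (hS _ h).1))
    · exact Or.inr (Or.inr (Or.inr (hP _ h).1))
    · exact Or.inr (Or.inl (hC _ h).1)
  have hcount : ∀ (T : Finset (Cfsg.IrrCharacter (GL (Fin 2) F))) (c : ℂ),
      (∀ χ : Cfsg.IrrCharacter (GL (Fin 2) F), (χ : GL (Fin 2) F → ℂ) 1 = c ↔ χ ∈ T) →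
      Nat.card {χ : Cfsg.IrrCharacter (GL (Fin 2) F) // (χ : GL (Fin 2) F → ℂ) 1 = c} = T.card := fun T c h => by
    rw [Nat.card_congr (Equiv.subtypeEquivRight h), Nat.card_eq_fintype_card, Fintype.card_coe]
  have d1 : ∀ a b : ℂ, a = b → a - b = 0 := fun a b h => sub_eq_zero.2 h
  have q3 : (3 : ℝ) ≤ Fintype.card F := by exact_mod_cast hq
  have cases : ∀ χ : Cfsg.IrrCharacter (GL (Fin 2) F),
      (((χ : GL (Fin 2) F → ℂ) 1 = 1 ∧ χ ∈ L) ∨ ((χ : GL (Fin 2) F → ℂ) 1 = Fintype.card F ∧ χ ∈ S) ∨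
        ((χ : GL (Fin 2) F → ℂ) 1 = Fintype.card F + 1 ∧ χ ∈ P) ∨ ((χ : GL (Fin 2) F → ℂ) 1 = Fintype.card F - 1 ∧ χ ∈ C)) := fun χ => by
    rcases hall χ with h | h | h | h
    · exact Or.inl ⟨(hL _ h).1, h⟩
    · exact Or.inr (Or.inl ⟨(hS _ h).1, h⟩)
    · exact Or.inr (Or.inr (Or.inl ⟨(hP _ h).1, h⟩))
    · exact Or.inr (Or.inr (Or.inr ⟨(hC _ h).1, h⟩))
  have ne1 : (Fintype.card F : ℂ) ≠ 1 := fun e => by
    have := congrArg Complex.re e
    simp at this; linarith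
  have ne2 : (Fintype.card F : ℂ) + 1 ≠ 1 := fun e => by
    have := congrArg Complex.re e
    simp at this
  have ne3 : (Fintype.card F : ℂ) - 1 ≠ 1 := fun e => by
    have := congrArg Complex.re e
    simp at this; linarith
  have ne4 : (Fintype.card F : ℂ) + 1 ≠ Fintype.card F := fun e => one_ne_zero (α := ℂ) (by linear_combination e)
  have ne5 : (Fintype.card F : ℂ) - 1 ≠ Fintype.card F := fun e => one_ne_zero (α := ℂ) (by linear_combination -e)
  have ne6 : (Fintype.card F : ℂ) - 1 ≠ Fintype.card F + 1 := fun e =>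
    two_ne_zero (α := ℂ) (by linear_combination -e)
  refine ⟨?_, ?_, ?_, ?_⟩
  · rw [hcount L 1 fun χ => ⟨fun h => ?_, fun h => (hL _ h).1⟩, cL]
    rcases cases χ with ⟨e, m⟩ | ⟨e, -⟩ | ⟨e, -⟩ | ⟨e, -⟩
    · exact m
    · exact absurd (e.symm.trans h) ne1
    · exact absurd (e.symm.trans h) ne2
    · exact absurd (e.symm.trans h) ne3
  · rw [hcount S _ fun χ => ⟨fun h => ?_, fun h => (hS _ h).1⟩, cS]
    rcases cases χ with ⟨e, -⟩ | ⟨e, m⟩ | ⟨e, -⟩ | ⟨e, -⟩
    · exact absurd (h.symm.trans e) ne1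
    · exact m
    · exact absurd (e.symm.trans h) ne4
    · exact absurd (e.symm.trans h) ne5
  · rw [hcount P _ fun χ => ⟨fun h => ?_, fun h => (hP _ h).1⟩]
    · omega
    rcases cases χ with ⟨e, -⟩ | ⟨e, -⟩ | ⟨e, m⟩ | ⟨e, -⟩
    · exact absurd (h.symm.trans e) ne2
    · exact absurd (h.symm.trans e) ne4
    · exact m
    · exact absurd (e.symm.trans h) ne6
  · rw [hcount C _ fun χ => ⟨fun h => ?_, fun h => (hC _ h).1⟩]
    · omega
    rcases cases χ with ⟨e, -⟩ | ⟨e, -⟩ | ⟨e, -⟩ | ⟨e, m⟩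
    · exact absurd (h.symm.trans e) ne3
    · exact absurd (h.symm.trans e) ne5
    · exact absurd (h.symm.trans e) ne6
    · exact m

end Cfsg.Agent.S2298
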