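import Cfsg.Statements.S2299
-- import your own Cfsg.Agent.* helpers here

import Cfsg.Agent.GL2Rep.SLValues

set_option autoImplicit false
open Cfsg

namespace Cfsg.Agent.S2299

open Cfsg.Agent.GL2Rep Cfsg.Agent.GL2Rep.SL Matrix


/-- Over a finite field F with q elements, q odd, every irreducible complex character of SL₂ has degree 1, q, q + 1, q − 1, (q + 1)/2 or (q − 1)/2; and when q ≥ 5 (so that these six numbers are distinct) there are exactly one irreducible character of degree 1, one of degree q, (q − 3)/2 of degree q + 1, (q − 1)/2 of degree q − 1, two of degree (q + 1)/2 and two of degree (q − 1)/2. -/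
theorem result {F : Type*} [Field F] [Fintype F] (hodd : Odd (Fintype.card F)) :
    (∀ χ : Matrix.SpecialLinearGroup (Fin 2) F → ℂ, Cfsg.IsIrrCharacter (Matrix.SpecialLinearGroup (Fin 2) F) χ →
      χ 1 = 1 ∨ χ 1 = (Fintype.card F : ℂ) ∨ χ 1 = (Fintype.card F : ℂ) + 1 ∨ χ 1 = (Fintype.card F : ℂ) - 1 ∨
        χ 1 = (((Fintype.card F + 1) / 2 : ℕ) : ℂ) ∨ χ 1 = (((Fintype.card F - 1) / 2 : ℕ) : ℂ)) ∧
    (5 ≤ Fintype.card F →
      Nat.card {χ : Cfsg.IrrCharacter (Matrix.SpecialLinearGroup (Fin 2) F) // (χ : Matrix.SpecialLinearGroup (Fin 2) F → ℂ) 1 = 1} = 1 ∧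
      Nat.card {χ : Cfsg.IrrCharacter (Matrix.SpecialLinearGroup (Fin 2) F) // (χ : Matrix.SpecialLinearGroup (Fin 2) F → ℂ) 1 = (Fintype.card F : ℂ)} = 1 ∧
      Nat.card {χ : Cfsg.IrrCharacter (Matrix.SpecialLinearGroup (Fin 2) F) // (χ : Matrix.SpecialLinearGroup (Fin 2) F → ℂ) 1 = (Fintype.card F : ℂ) + 1} = (Fintype.card F - 3) / 2 ∧
      Nat.card {χ : Cfsg.IrrCharacter (Matrix.SpecialLinearGroup (Fin 2) F) // (χ : Matrix.SpecialLinearGroup (Fin 2) F → ℂ) 1 = (Fintype.card F : ℂ) - 1} = (Fintype.card F - 1) / 2 ∧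
      Nat.card {χ : Cfsg.IrrCharacter (Matrix.SpecialLinearGroup (Fin 2) F) // (χ : Matrix.SpecialLinearGroup (Fin 2) F → ℂ) 1 = (((Fintype.card F + 1) / 2 : ℕ) : ℂ)} = 2 ∧
      Nat.card {χ : Cfsg.IrrCharacter (Matrix.SpecialLinearGroup (Fin 2) F) // (χ : Matrix.SpecialLinearGroup (Fin 2) F → ℂ) 1 = (((Fintype.card F - 1) / 2 : ℕ) : ℂ)} = 2) := by
  classical
  have h2 : (2 : F) ≠ 0 := by
    intro e
    haveI : CharP F 2 := CharTwo.of_one_ne_zero_of_two_eq_zero one_ne_zero e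
    exact (Nat.not_even_iff_odd.2 hodd) (Nat.even_iff.2 (FiniteField.even_card_of_char_two (ringChar.eq F 2)))
  obtain ⟨k, P, H, C₂, C₁, hk, hkq, hall, hP, hH, hC2, hC1, cP, cH, c2, c1⟩ := table_odd (F := F) h2
  haveI : Fintype (GL (Fin 2) F) := Fintype.ofFinite _
  let one' : Cfsg.IrrCharacter (Matrix.SpecialLinearGroup (Fin 2) F) := ⟨fun _ => 1, Cfsg.Agent.Char.isIrrCharacter_one⟩
  let St' : Cfsg.IrrCharacter (Matrix.SpecialLinearGroup (Fin 2) F) := ⟨St, St_isIrr⟩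
  have cases : ∀ χ : Cfsg.IrrCharacter (Matrix.SpecialLinearGroup (Fin 2) F), ∃ d : ℕ, (χ : Matrix.SpecialLinearGroup (Fin 2) F → ℂ) 1 = (d : ℂ) ∧
      ((d = 1 ∧ χ = one') ∨ (d = 2 * k + 1 ∧ χ = St') ∨ (d = 2 * k + 2 ∧ χ ∈ P) ∨ (d = k + 1 ∧ χ ∈ H) ∨
        (d = 2 * k ∧ χ ∈ C₂) ∨ (d = k ∧ χ ∈ C₁)) := fun χ => by
    rcases hall χ with e | e | e | e | e | e
    · exact ⟨1, by rw [e, Nat.cast_one], Or.inl ⟨rfl, Subtype.ext e⟩⟩
    · exact ⟨2 * k + 1, by rw [e, St_one, hkq], Or.inr (Or.inl ⟨rfl, Subtype.ext e⟩)⟩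
    · exact ⟨_, (hP χ e).1, Or.inr (Or.inr (Or.inl ⟨rfl, e⟩))⟩
    · exact ⟨_, (hH χ e).1, Or.inr (Or.inr (Or.inr (Or.inl ⟨rfl, e⟩)))⟩
    · exact ⟨_, (hC2 χ e).1, Or.inr (Or.inr (Or.inr (Or.inr (Or.inl ⟨rfl, e⟩))))⟩
    · exact ⟨_, (hC1 χ e).1, Or.inr (Or.inr (Or.inr (Or.inr (Or.inr ⟨rfl, e⟩))))⟩
  refine ⟨fun χ hχ => ?_, fun hq => ?_⟩
  · obtain ⟨d, hd, h⟩ := cases ⟨χ, hχ⟩
    simp only at hd
    rw [hd, hkq]
    rcases h with ⟨e, -⟩ | ⟨e, -⟩ | ⟨e, -⟩ | ⟨e, -⟩ | ⟨e, -⟩ | ⟨e, -⟩ <;> rw [e]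
    · left; simp
    · exact Or.inr (Or.inl rfl)
    · exact Or.inr (Or.inr (Or.inl (by push_cast; ring)))
    · exact Or.inr (Or.inr (Or.inr (Or.inr (Or.inl (congrArg Nat.cast (by omega))))))
    · exact Or.inr (Or.inr (Or.inr (Or.inl (by push_cast; ring))))
    · exact Or.inr (Or.inr (Or.inr (Or.inr (Or.inr (congrArg Nat.cast (by omega))))))
  have hk2 : 2 ≤ k := by omega
  have hcount : ∀ (T : Finset (Cfsg.IrrCharacter (Matrix.SpecialLinearGroup (Fin 2) F))) (n : ℕ) (c : ℂ), c = (n : ℂ) → (∀ χ ∈ T, (χ : Matrix.SpecialLinearGroup (Fin 2) F → ℂ) 1 = c) →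
      (∀ χ : Cfsg.IrrCharacter (Matrix.SpecialLinearGroup (Fin 2) F), (χ : Matrix.SpecialLinearGroup (Fin 2) F → ℂ) 1 = c → χ ∈ T) →
      Nat.card {χ : Cfsg.IrrCharacter (Matrix.SpecialLinearGroup (Fin 2) F) // (χ : Matrix.SpecialLinearGroup (Fin 2) F → ℂ) 1 = c} = T.card := fun T n c _ h1 h2 => by
    rw [Nat.card_congr (Equiv.subtypeEquivRight (fun χ => ⟨h2 χ, h1 χ⟩)), Nat.card_eq_fintype_card, Fintype.card_coe]
  have hnat : ∀ {χ : Cfsg.IrrCharacter (Matrix.SpecialLinearGroup (Fin 2) F)} {d n : ℕ} {c : ℂ}, (χ : Matrix.SpecialLinearGroup (Fin 2) F → ℂ) 1 = (d : ℂ) → (χ : Matrix.SpecialLinearGroup (Fin 2) F → ℂ) 1 = c → c = (n : ℂ) → d = n :=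
    fun h1 h2 h3 => Nat.cast_injective (h1.symm.trans (h2.trans h3))
  refine ⟨?_, ?_, ?_, ?_, ?_, ?_⟩
  · rw [hcount {one'} 1 1 Nat.cast_one.symm (fun χ h => by rw [Finset.mem_singleton.1 h]) (fun χ h => ?_), Finset.card_singleton]
    obtain ⟨d, hd, hc⟩ := cases χ
    have := hnat hd h Nat.cast_one.symm
    rcases hc with ⟨e, m⟩ | ⟨e, -⟩ | ⟨e, -⟩ | ⟨e, -⟩ | ⟨e, -⟩ | ⟨e, -⟩ <;> try omega
    exact Finset.mem_singleton.2 m
  · rw [hcount {St'} _ _ rfl (fun χ h => by rw [Finset.mem_singleton.1 h]; exact St_one) (fun χ h => ?_), Finset.card_singleton]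
    obtain ⟨d, hd, hc⟩ := cases χ
    have := hnat hd h rfl
    rcases hc with ⟨e, -⟩ | ⟨e, m⟩ | ⟨e, -⟩ | ⟨e, -⟩ | ⟨e, -⟩ | ⟨e, -⟩ <;> try omega
    exact Finset.mem_singleton.2 m
  · rw [hcount P (2 * k + 2) _ (by rw [hkq]; push_cast; ring) (fun χ h => by rw [(hP χ h).1, hkq]; push_cast; ring) (fun χ h => ?_)]
    · omega
    obtain ⟨d, hd, hc⟩ := cases χ
    have := hnat hd h (n := 2 * k + 2) (by rw [hkq]; push_cast; ring)
    rcases hc with ⟨e, -⟩ | ⟨e, -⟩ | ⟨e, m⟩ | ⟨e, -⟩ | ⟨e, -⟩ | ⟨e, -⟩ <;> (try omega) <;> assumption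
  · rw [hcount C₂ (2 * k) _ (by rw [hkq]; push_cast; ring) (fun χ h => by rw [(hC2 χ h).1, hkq]; push_cast; ring) (fun χ h => ?_)]
    · omega
    obtain ⟨d, hd, hc⟩ := cases χ
    have := hnat hd h (n := 2 * k) (by rw [hkq]; push_cast; ring)
    rcases hc with ⟨e, -⟩ | ⟨e, -⟩ | ⟨e, -⟩ | ⟨e, -⟩ | ⟨e, m⟩ | ⟨e, -⟩ <;> (try omega) <;> assumption
  · rw [hcount H _ _ rfl (fun χ h => by rw [(hH χ h).1]; exact congrArg Nat.cast (by omega)) (fun χ h => ?_), cH]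
    obtain ⟨d, hd, hc⟩ := cases χ
    have := hnat hd h rfl
    rcases hc with ⟨e, -⟩ | ⟨e, -⟩ | ⟨e, -⟩ | ⟨e, m⟩ | ⟨e, -⟩ | ⟨e, -⟩ <;> (try omega) <;> assumption
  · rw [hcount C₁ _ _ rfl (fun χ h => by rw [(hC1 χ h).1]; exact congrArg Nat.cast (by omega)) (fun χ h => ?_), c1]
    obtain ⟨d, hd, hc⟩ := cases χ
    have := hnat hd h rfl
    rcases hc with ⟨e, -⟩ | ⟨e, -⟩ | ⟨e, -⟩ | ⟨e, -⟩ | ⟨e, -⟩ | ⟨e, m⟩ <;> (try omega) <;> assumption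

end Cfsg.Agent.S2299
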