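import Cfsg.Statements.S2300
-- import your own Cfsg.Agent.* helpers here

import Cfsg.Agent.GL2Rep.SLValues

set_option autoImplicit false
open Cfsg

namespace Cfsg.Agent.S2300

open Cfsg.Agent.GL2Rep Cfsg.Agent.GL2Rep.SL Matrix


/-- Over a finite field F with q elements, q even, every irreducible complex character of SL₂ has degree 1, q − 1, q or q + 1; and when q ≥ 4 (so that these four numbers are distinct) there are exactly one irreducible character of degree 1, one of degree q, (q − 2)/2 of degree q + 1 and q/2 of degree q − 1. -/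
theorem result {F : Type*} [Field F] [Fintype F] [CharP F 2] :
    (∀ χ : Matrix.SpecialLinearGroup (Fin 2) F → ℂ, Cfsg.IsIrrCharacter (Matrix.SpecialLinearGroup (Fin 2) F) χ →
      χ 1 = 1 ∨ χ 1 = (Fintype.card F : ℂ) - 1 ∨ χ 1 = (Fintype.card F : ℂ) ∨ χ 1 = (Fintype.card F : ℂ) + 1) ∧
    (4 ≤ Fintype.card F →
      Nat.card {χ : Cfsg.IrrCharacter (Matrix.SpecialLinearGroup (Fin 2) F) // (χ : Matrix.SpecialLinearGroup (Fin 2) F → ℂ) 1 = 1} = 1 ∧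
      Nat.card {χ : Cfsg.IrrCharacter (Matrix.SpecialLinearGroup (Fin 2) F) // (χ : Matrix.SpecialLinearGroup (Fin 2) F → ℂ) 1 = (Fintype.card F : ℂ)} = 1 ∧
      Nat.card {χ : Cfsg.IrrCharacter (Matrix.SpecialLinearGroup (Fin 2) F) // (χ : Matrix.SpecialLinearGroup (Fin 2) F → ℂ) 1 = (Fintype.card F : ℂ) + 1} = (Fintype.card F - 2) / 2 ∧
      Nat.card {χ : Cfsg.IrrCharacter (Matrix.SpecialLinearGroup (Fin 2) F) // (χ : Matrix.SpecialLinearGroup (Fin 2) F → ℂ) 1 = (Fintype.card F : ℂ) - 1} = Fintype.card F / 2) := by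
  classical
  have h2 : (2 : F) = 0 := CharTwo.two_eq_zero
  obtain ⟨P, C, hall, hP, hC, cP, cC⟩ := table_even (F := F) h2
  haveI : Fintype (GL (Fin 2) F) := Fintype.ofFinite _
  let one' : Cfsg.IrrCharacter (Matrix.SpecialLinearGroup (Fin 2) F) := ⟨fun _ => 1, Cfsg.Agent.Char.isIrrCharacter_one⟩
  let St' : Cfsg.IrrCharacter (Matrix.SpecialLinearGroup (Fin 2) F) := ⟨St, St_isIrr⟩
  have hpos := Fintype.one_lt_card (α := F)
  have cases : ∀ χ : Cfsg.IrrCharacter (Matrix.SpecialLinearGroup (Fin 2) F), ∃ d : ℕ, (χ : Matrix.SpecialLinearGroup (Fin 2) F → ℂ) 1 = (d : ℂ) ∧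
      ((d = 1 ∧ χ = one') ∨ (d = Fintype.card F ∧ χ = St') ∨ (d = Fintype.card F + 1 ∧ χ ∈ P) ∨
        (d = Fintype.card F - 1 ∧ χ ∈ C)) := fun χ => by
    rcases hall χ with e | e | e | e
    · exact ⟨1, by rw [e, Nat.cast_one], Or.inl ⟨rfl, Subtype.ext e⟩⟩
    · exact ⟨_, by rw [e, St_one], Or.inr (Or.inl ⟨rfl, Subtype.ext e⟩)⟩
    · exact ⟨_, by rw [(hP χ e).1, Nat.cast_add, Nat.cast_one], Or.inr (Or.inr (Or.inl ⟨rfl, e⟩))⟩
    · exact ⟨_, by rw [(hC χ e).1, Nat.cast_sub hpos.le, Nat.cast_one], Or.inr (Or.inr (Or.inr ⟨rfl, e⟩))⟩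
  refine ⟨fun χ hχ => ?_, fun hq => ?_⟩
  · obtain ⟨d, hd, h⟩ := cases ⟨χ, hχ⟩
    simp only at hd
    rw [hd]
    rcases h with ⟨e, -⟩ | ⟨e, -⟩ | ⟨e, -⟩ | ⟨e, -⟩ <;> rw [e]
    · left; simp
    · exact Or.inr (Or.inr (Or.inl rfl))
    · exact Or.inr (Or.inr (Or.inr (by push_cast; ring)))
    · exact Or.inr (Or.inl (by rw [Nat.cast_sub hpos.le, Nat.cast_one]))
  have hcount : ∀ (T : Finset (Cfsg.IrrCharacter (Matrix.SpecialLinearGroup (Fin 2) F))) (c : ℂ), (∀ χ ∈ T, (χ : Matrix.SpecialLinearGroup (Fin 2) F → ℂ) 1 = c) →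
      (∀ χ : Cfsg.IrrCharacter (Matrix.SpecialLinearGroup (Fin 2) F), (χ : Matrix.SpecialLinearGroup (Fin 2) F → ℂ) 1 = c → χ ∈ T) →
      Nat.card {χ : Cfsg.IrrCharacter (Matrix.SpecialLinearGroup (Fin 2) F) // (χ : Matrix.SpecialLinearGroup (Fin 2) F → ℂ) 1 = c} = T.card := fun T c h1 h2 => by
    rw [Nat.card_congr (Equiv.subtypeEquivRight (fun χ => ⟨h2 χ, h1 χ⟩)), Nat.card_eq_fintype_card, Fintype.card_coe]
  have hnat : ∀ {χ : Cfsg.IrrCharacter (Matrix.SpecialLinearGroup (Fin 2) F)} {d n : ℕ} {c : ℂ}, (χ : Matrix.SpecialLinearGroup (Fin 2) F → ℂ) 1 = (d : ℂ) → (χ : Matrix.SpecialLinearGroup (Fin 2) F → ℂ) 1 = c → c = (n : ℂ) → d = n :=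
    fun h1 h2 h3 => Nat.cast_injective (h1.symm.trans (h2.trans h3))
  refine ⟨?_, ?_, ?_, ?_⟩
  · rw [hcount {one'} 1 (fun χ h => by rw [Finset.mem_singleton.1 h]) (fun χ h => ?_), Finset.card_singleton]
    obtain ⟨d, hd, hc⟩ := cases χ
    have := hnat hd h Nat.cast_one.symm
    rcases hc with ⟨e, m⟩ | ⟨e, -⟩ | ⟨e, -⟩ | ⟨e, -⟩ <;> try omega
    exact Finset.mem_singleton.2 m
  · rw [hcount {St'} _ (fun χ h => by rw [Finset.mem_singleton.1 h]; exact St_one) (fun χ h => ?_), Finset.card_singleton]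
    obtain ⟨d, hd, hc⟩ := cases χ
    have := hnat hd h rfl
    rcases hc with ⟨e, -⟩ | ⟨e, m⟩ | ⟨e, -⟩ | ⟨e, -⟩ <;> try omega
    exact Finset.mem_singleton.2 m
  · rw [hcount P _ (fun χ h => (hP χ h).1) (fun χ h => ?_)]
    · omega
    obtain ⟨d, hd, hc⟩ := cases χ
    have := hnat hd h (n := Fintype.card F + 1) (by push_cast; ring)
    rcases hc with ⟨e, -⟩ | ⟨e, -⟩ | ⟨e, m⟩ | ⟨e, -⟩ <;> (try omega) <;> assumption
  · rw [hcount C _ (fun χ h => (hC χ h).1) (fun χ h => ?_)]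
    · omega
    obtain ⟨d, hd, hc⟩ := cases χ
    have := hnat hd h (n := Fintype.card F - 1) (by rw [Nat.cast_sub hpos.le, Nat.cast_one])
    rcases hc with ⟨e, -⟩ | ⟨e, -⟩ | ⟨e, -⟩ | ⟨e, m⟩ <;> (try omega) <;> assumption

end Cfsg.Agent.S2300
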