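import Cfsg.Statements.S2301
-- import your own Cfsg.Agent.* helpers here

import Cfsg.Agent.SL2Class.Classes

set_option autoImplicit false
open Cfsg

namespace Cfsg.Agent.S2301

open Matrix SL2Class


/-- Over a finite field with q elements of odd characteristic p, the elements of order p of SL₂ (the non-identity unipotent elements) fall into exactly two conjugacy classes, each of size (q² − 1)/2; two upper unitriangular matrices with non-zero off-diagonal entries b and b′ are conjugate exactly when bb′ is a square. -/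
theorem result {F : Type*} [Field F] [Fintype F] (p : ℕ) [Fact p.Prime] [CharP F p] (hp : p ≠ 2) :
    Nat.card {C : ConjClasses (Matrix.SpecialLinearGroup (Fin 2) F) // ∃ g : Matrix.SpecialLinearGroup (Fin 2) F, orderOf g = p ∧ ConjClasses.mk g = C} = 2 ∧
    (∀ g : Matrix.SpecialLinearGroup (Fin 2) F, orderOf g = p → Nat.card (ConjClasses.mk g).carrier = (Fintype.card F ^ 2 - 1) / 2) ∧
    ∀ g h : Matrix.SpecialLinearGroup (Fin 2) F, (g : Matrix (Fin 2) (Fin 2) F) 0 0 = 1 → (g : Matrix (Fin 2) (Fin 2) F) 1 1 = 1 → (g : Matrix (Fin 2) (Fin 2) F) 1 0 = 0 → (g : Matrix (Fin 2) (Fin 2) F) 0 1 ≠ 0 →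
      (h : Matrix (Fin 2) (Fin 2) F) 0 0 = 1 → (h : Matrix (Fin 2) (Fin 2) F) 1 1 = 1 → (h : Matrix (Fin 2) (Fin 2) F) 1 0 = 0 → (h : Matrix (Fin 2) (Fin 2) F) 0 1 ≠ 0 →
      (IsConj g h ↔ IsSquare ((g : Matrix (Fin 2) (Fin 2) F) 0 1 * (h : Matrix (Fin 2) (Fin 2) F) 0 1)) := by
  classical
  have h2 : (2 : F) ≠ 0 := fun e => hp ((Nat.prime_dvd_prime_iff_eq Fact.out Nat.prime_two).1
    ((CharP.cast_eq_zero_iff F p 2).1 (by exact_mod_cast e)))
  have h4 : (2 : F) * 2 = 4 := by norm_num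
  obtain ⟨ν, hν⟩ := exists_nonsquare (F := F) h2
  refine ⟨?_, fun g hg => ?_, fun g h g00 g11 g10 g01 h00 h11 h10 h01 => ?_⟩
  · rw [Nat.card_eq_two_iff' ⟨ConjClasses.mk (comp 2),
      comp 2, orderOf_of_tr_two (nonScalar_comp 2) (tr_comp 2) p, rfl⟩]
    refine ⟨⟨ConjClasses.mk (compT 2 ν), compT 2 ν, orderOf_of_tr_two (nonScalar_compT 2 ν) (tr_compT 2 ν) p, rfl⟩,
      fun e => not_isConj_compT h2 h4 hν
        (ConjClasses.mk_eq_mk_iff_isConj.1 (congrArg Subtype.val e).symm), ?_⟩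
    rintro ⟨C, g, hg, rfl⟩ hne
    obtain ⟨hgs, hgt⟩ := tr_of_orderOf p hg
    rcases isConj_comp_or hgs hν with e | e <;> rw [hgt] at e
    · exact absurd (Subtype.ext (ConjClasses.mk_eq_mk_iff_isConj.2 e.symm)) hne
    · exact Subtype.ext (ConjClasses.mk_eq_mk_iff_isConj.2 e.symm)
  · obtain ⟨hgs, hgt⟩ := tr_of_orderOf p hg
    have h := card_carrier_mul g
    rw [card_cent_double h2 hgs (by rw [hgt, h4]), card_sl] at h
    have e : Nat.card (ConjClasses.mk g).carrier * 2 = Fintype.card F ^ 2 - 1 :=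
      Nat.eq_of_mul_eq_mul_left (Fintype.card_pos (α := F)) (by rw [← h]; ring)
    rw [← e, Nat.mul_div_cancel _ two_pos]
  · have hgs : NonScalar g := fun e => g01 e.1
    have hgt : tr g = 2 := by rw [tr, g00, g11, one_add_one_eq_two]
    set b := (g : Matrix (Fin 2) (Fin 2) F) 0 1 with hb
    set b' := (h : Matrix (Fin 2) (Fin 2) F) 0 1 with hb'
    rw [isConj_iff_N2 (P := !![b', 0; 0, b]) hgs (by simp [det_fin_two_of, g01, h01]) (by
      ext i j
      fin_cases i <;> fin_cases j <;>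
        simp [Matrix.mul_apply, Fin.sum_univ_two, g00, g11, g10, h00, h11, h10, ← hb, ← hb', mul_comm]),
      det_fin_two_of, hgt]
    constructor
    · rintro ⟨x, y, hxy⟩
      have := isSquare_of_N2_double h2 h4 hxy
      simpa [mul_comm] using this
    · rintro ⟨r, hr⟩
      exact ⟨r, 0, by simp [N2]; linear_combination -hr⟩

end Cfsg.Agent.S2301
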