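import Cfsg.Statements.S2302
-- import your own Cfsg.Agent.* helpers here

import Cfsg.Agent.SL2Class.Classes

set_option autoImplicit false
open Cfsg

namespace Cfsg.Agent.S2302

open Matrix SL2Class


/-- Over a finite field with q elements of characteristic 2, the involutions of SL₂ (the non-identity unipotent elements) form a single conjugacy class, of size q² − 1. -/
theorem result {F : Type*} [Field F] [Fintype F] [CharP F 2] (g h : Matrix.SpecialLinearGroup (Fin 2) F) (hg : orderOf g = 2) (hh : orderOf h = 2) :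
    IsConj g h ∧ Nat.card (ConjClasses.mk g).carrier = Fintype.card F ^ 2 - 1 := by
  have h2 : (2 : F) = 0 := by exact_mod_cast CharP.cast_eq_zero F 2
  haveI : Fact (Nat.Prime 2) := ⟨Nat.prime_two⟩
  obtain ⟨hgs, hgt⟩ := tr_of_orderOf 2 hg
  obtain ⟨hhs, hht⟩ := tr_of_orderOf 2 hh
  refine ⟨isConj_of_tr hgs hhs (hgt.trans hht.symm) (Or.inr h2), ?_⟩
  have h := card_carrier_mul g
  rw [card_cent_double_even h2 hgs (hgt.trans h2), card_sl, mul_comm _ (Fintype.card F)] at h
  exact Nat.eq_of_mul_eq_mul_left Fintype.card_pos h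

end Cfsg.Agent.S2302
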