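import Cfsg.Statements.S2303
-- import your own Cfsg.Agent.* helpers here

import Cfsg.Agent.GL2Rep.GLClasses

set_option autoImplicit false
open Cfsg

namespace Cfsg.Agent.S2303

open Cfsg.Agent.GL2Rep Matrix


/-- Over a finite field with q elements: a diagonal element of GL₂ with two distinct diagonal entries has centralizer of order (q − 1)² (so q(q + 1) conjugates), and an element of GL₂ with no eigenvector in F² has centralizer of order q² − 1 (so q(q − 1) conjugates). -/
theorem result {F : Type*} [Field F] [Fintype F] (g : Matrix.GeneralLinearGroup (Fin 2) F) :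
    ((g : Matrix (Fin 2) (Fin 2) F) 0 1 = 0 → (g : Matrix (Fin 2) (Fin 2) F) 1 0 = 0 → (g : Matrix (Fin 2) (Fin 2) F) 0 0 ≠ (g : Matrix (Fin 2) (Fin 2) F) 1 1 →
      Nat.card (Subgroup.centralizer ({g} : Set (Matrix.GeneralLinearGroup (Fin 2) F))) = (Fintype.card F - 1) ^ 2) ∧
    ((∀ (c : F) (v : Fin 2 → F), v ≠ 0 → (g : Matrix (Fin 2) (Fin 2) F).mulVec v ≠ c • v) →
      Nat.card (Subgroup.centralizer ({g} : Set (Matrix.GeneralLinearGroup (Fin 2) F))) = Fintype.card F ^ 2 - 1) := by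
  classical
  have hcard : Nat.card Fˣ = Fintype.card F - 1 := by rw [Nat.card_units, Nat.card_eq_fintype_card]
  refine ⟨fun h01 h10 hne => ?_, fun hg => ?_⟩
  · have hs : GL.NS (g : Matrix (Fin 2) (Fin 2) F) := fun h => hne h.2.2
    have hd : (g : Matrix (Fin 2) (Fin 2) F) 0 0 - (g : Matrix (Fin 2) (Fin 2) F) 1 1 ≠ 0 := sub_ne_zero.2 hne
    rw [GL.card_centralizer hs, pow_two, ← hcard, ← Nat.card_prod]
    refine Nat.card_congr (Equiv.symm (Equiv.ofBijective (fun p : Fˣ × Fˣ => ⟨((p.1 : F) - ((p.1 : F) - p.2) / ((g : Matrix (Fin 2) (Fin 2) F) 0 0 - (g : Matrix (Fin 2) (Fin 2) F) 1 1) * (g : Matrix (Fin 2) (Fin 2) F) 0 0,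
      ((p.1 : F) - p.2) / ((g : Matrix (Fin 2) (Fin 2) F) 0 0 - (g : Matrix (Fin 2) (Fin 2) F) 1 1)), ?_⟩) ⟨?_, ?_⟩))
    · set b := ((p.1 : F) - p.2) / ((g : Matrix (Fin 2) (Fin 2) F) 0 0 - (g : Matrix (Fin 2) (Fin 2) F) 1 1) with hb
      have hb' : b * ((g : Matrix (Fin 2) (Fin 2) F) 0 0 - (g : Matrix (Fin 2) (Fin 2) F) 1 1) = (p.1 : F) - p.2 := div_mul_cancel₀ _ hd
      have e2 : (p.1 : F) - b * (g : Matrix (Fin 2) (Fin 2) F) 0 0 + b * (g : Matrix (Fin 2) (Fin 2) F) 1 1 = p.2 := by linear_combination -hb'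
      simp [Matrix.det_fin_two, h01, h10, e2]
    · intro p p' h
      have h1 := congrArg (fun x => x.1.2) h
      have h2 := congrArg (fun x => x.1.1) h
      simp only at h1 h2
      rw [h1] at h2
      have e1 : (p.1 : F) = p'.1 := by linear_combination h2
      have e2 : (p.1 : F) - p.2 = (p'.1 : F) - p'.2 := by
        have := congrArg (fun x => x * ((g : Matrix (Fin 2) (Fin 2) F) 0 0 - (g : Matrix (Fin 2) (Fin 2) F) 1 1)) h1
        simpa [div_mul_cancel₀ _ hd] using this
      exact Prod.ext (Units.ext e1) (Units.ext (by linear_combination e1 - e2))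
    · rintro ⟨⟨a, b⟩, hab⟩
      simp [Matrix.det_fin_two, h01, h10] at hab
      refine ⟨(Units.mk0 _ hab.1, Units.mk0 _ hab.2), Subtype.ext ?_⟩
      have e : (a + b * (g : Matrix (Fin 2) (Fin 2) F) 0 0 - (a + b * (g : Matrix (Fin 2) (Fin 2) F) 1 1)) /
          ((g : Matrix (Fin 2) (Fin 2) F) 0 0 - (g : Matrix (Fin 2) (Fin 2) F) 1 1) = b := by
        rw [div_eq_iff hd]; ring
      simp only [Units.val_mk0]
      rw [e]
      simp
  · have hs : GL.NS (g : Matrix (Fin 2) (Fin 2) F) := by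
      intro h
      refine hg ((g : Matrix (Fin 2) (Fin 2) F) 0 0) ![1, 0] (fun h => by simpa using congrFun h 0) ?_
      ext i; fin_cases i <;> simp [Matrix.mulVec, dotProduct, Fin.sum_univ_two, h.2.1]
    have key : ∀ p : F × F, ((p.1 • (1 : Matrix (Fin 2) (Fin 2) F) + p.2 • (g : Matrix (Fin 2) (Fin 2) F)).det ≠ 0) ↔ p ≠ 0 := by
      rintro ⟨a, b⟩
      refine ⟨fun h e => h ?_, fun h e => ?_⟩
      · simp only [Prod.mk_eq_zero] at e
        simp [e.1, e.2]
      · obtain ⟨v, hv, hv'⟩ := Matrix.exists_mulVec_eq_zero_iff.2 e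
        simp only [Matrix.add_mulVec, Matrix.smul_mulVec, Matrix.one_mulVec] at hv'
        by_cases hb : b = 0
        · subst hb
          simp only [zero_smul, add_zero] at hv'
          rcases smul_eq_zero.1 hv' with ha | ha
          · exact h (by simp [ha])
          · exact hv ha
        · refine hg (-(a / b)) v hv ?_
          rw [eq_comm, ← sub_eq_zero]
          refine (smul_eq_zero.1 (show b • (-(a / b) • v - (g : Matrix (Fin 2) (Fin 2) F) *ᵥ v) = 0 from ?_)).resolve_left hb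
          rw [smul_sub, smul_smul, mul_neg, mul_div_cancel₀ _ hb, neg_smul, ← neg_add', hv', neg_zero]
    rw [GL.card_centralizer hs, Nat.card_congr (Equiv.subtypeEquivRight key), Nat.card_eq_fintype_card,
      Fintype.card_subtype_compl, Fintype.card_prod, Fintype.card_subtype_eq, pow_two]

end Cfsg.Agent.S2303
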