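import Cfsg.Statements.S2307
-- import your own Cfsg.Agent.* helpers here

import Cfsg.Agent.GL2Rep.SL
import Cfsg.Agent.GL2Rep.TwoConst

set_option autoImplicit false
open Cfsg

namespace Cfsg.Agent.S2307

open Cfsg.Agent.GL2Rep Matrix


/-- Over a finite field F with q elements, q odd, let α be the multiplicative character of F of order 2. The character of SL₂ induced from the linear character b ↦ α(b₁₁) of the upper triangular subgroup is the sum of two distinct irreducible characters, each of degree (q + 1)/2, which are conjugate under GL₂: some fixed element of GL₂ conjugates the one into the other. -/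
theorem result {F : Type*} [Field F] [Fintype F] [DecidableEq F] (hodd : Odd (Fintype.card F)) (α : MulChar F ℂ)
    (hα : α ^ 2 = 1) (hα1 : α ≠ 1) :
    ∃ χ₁ χ₂ : Matrix.SpecialLinearGroup (Fin 2) F → ℂ, Cfsg.IsIrrCharacter (Matrix.SpecialLinearGroup (Fin 2) F) χ₁ ∧ Cfsg.IsIrrCharacter (Matrix.SpecialLinearGroup (Fin 2) F) χ₂ ∧ χ₁ ≠ χ₂ ∧
      Cfsg.indFun ((Cfsg.upperTriangularGL 2 F).comap Matrix.SpecialLinearGroup.toGL) (fun b => α (((b : Matrix.SpecialLinearGroup (Fin 2) F) : Matrix (Fin 2) (Fin 2) F) 0 0)) = χ₁ + χ₂ ∧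
      χ₁ 1 = (((Fintype.card F + 1) / 2 : ℕ) : ℂ) ∧ χ₂ 1 = (((Fintype.card F + 1) / 2 : ℕ) : ℂ) ∧
      ∃ x : Matrix.GeneralLinearGroup (Fin 2) F, ∀ g h : Matrix.SpecialLinearGroup (Fin 2) F,
        Matrix.SpecialLinearGroup.toGL h = x * Matrix.SpecialLinearGroup.toGL g * x⁻¹ → χ₂ h = χ₁ g := by
  classical
  have hrange : (Matrix.SpecialLinearGroup.toGL : Matrix.SpecialLinearGroup (Fin 2) F →* GL (Fin 2) F).range.Normal := by
    constructor
    rintro n ⟨s, rfl⟩ g
    refine ⟨⟨((g * Matrix.SpecialLinearGroup.toGL s * g⁻¹ : GL (Fin 2) F) : Matrix (Fin 2) (Fin 2) F), ?_⟩, Units.ext rfl⟩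
    rw [Units.val_mul, Units.val_mul, Matrix.det_mul, Matrix.det_mul,
      show ((Matrix.SpecialLinearGroup.toGL s : GL (Fin 2) F) : Matrix (Fin 2) (Fin 2) F).det = 1 from s.2,
      mul_one, ← Matrix.det_mul, ← Units.val_mul, mul_inv_cancel, Units.val_one, Matrix.det_one]
  haveI := hrange
  have hres : (fun s : Matrix.SpecialLinearGroup (Fin 2) F => GL.R α 1 (Matrix.SpecialLinearGroup.toGL s)) = SL.R α := by
    funext s
    rw [GL.R_apply, SL.R_apply]
    have hd := SL.det_eq s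
    congr 1
    · show (if (s : Matrix (Fin 2) (Fin 2) F) 1 0 = 0 then
        α ((s : Matrix (Fin 2) (Fin 2) F) 0 0) * (1 : MulChar F ℂ) ((s : Matrix (Fin 2) (Fin 2) F) 1 1) else 0) = _
      split_ifs with h
      · rw [h, mul_zero, sub_zero] at hd
        rw [MulChar.one_apply (IsUnit.of_mul_eq_one_right _ hd), mul_one]
      · rfl
    · refine Finset.sum_congr rfl fun c _ => ?_
      show (if (s : Matrix (Fin 2) (Fin 2) F) 0 1 + ((s : Matrix (Fin 2) (Fin 2) F) 0 0 - (s : Matrix (Fin 2) (Fin 2) F) 1 1) * c - (s : Matrix (Fin 2) (Fin 2) F) 1 0 * c * c = 0 then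
        α ((s : Matrix (Fin 2) (Fin 2) F) 1 1 + (s : Matrix (Fin 2) (Fin 2) F) 1 0 * c) * (1 : MulChar F ℂ) ((s : Matrix (Fin 2) (Fin 2) F) 0 0 - c * (s : Matrix (Fin 2) (Fin 2) F) 1 0) else 0) = _
      split_ifs with h
      · have he : ((s : Matrix (Fin 2) (Fin 2) F) 1 1 + (s : Matrix (Fin 2) (Fin 2) F) 1 0 * c) * ((s : Matrix (Fin 2) (Fin 2) F) 0 0 - c * (s : Matrix (Fin 2) (Fin 2) F) 1 0) = 1 := by
          linear_combination hd + (s : Matrix (Fin 2) (Fin 2) F) 1 0 * h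
        rw [MulChar.one_apply (IsUnit.of_mul_eq_one_right _ he), mul_one]
      · rfl
  have hinv : α = α⁻¹ := by rwa [pow_two, mul_eq_one_iff_eq_inv] at hα
  have hn : Cfsg.classInner (SL.R α) (SL.R α) = 2 := by
    rw [SL.inner_R, if_pos rfl, if_pos hinv]; norm_num
  obtain ⟨φ₁, φ₂, h₁, h₂, hne, hsum, x, hx⟩ := two_conj_constituents
    (Matrix.SpecialLinearGroup.toGL : Matrix.SpecialLinearGroup (Fin 2) F →* GL (Fin 2) F)
    Matrix.SpecialLinearGroup.toGL_injective (χ := GL.R α 1) (GL.R_isIrr α 1 hα1) (by rw [hres]; exact hn)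
  rw [hres] at hsum
  have heq : φ₂ 1 = φ₁ 1 := hx 1 1 (by simp)
  have hdeg := congrFun hsum 1
  rw [SL.R_one, Pi.add_apply, heq] at hdeg
  have hhalf : φ₁ 1 = (((Fintype.card F + 1) / 2 : ℕ) : ℂ) := by
    rw [Nat.cast_div (Nat.even_iff.1 hodd.add_one |> Nat.dvd_of_mod_eq_zero) (by norm_num)]
    push_cast
    linear_combination -(1 / 2 : ℂ) * hdeg
  exact ⟨φ₁, φ₂, h₁, h₂, hne, hsum, hhalf, heq.trans hhalf, x, hx⟩

end Cfsg.Agent.S2307
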