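import Cfsg.Statements.S2308
-- import your own Cfsg.Agent.* helpers here

import Cfsg.Agent.GL2Rep.GL

set_option autoImplicit false
open Cfsg

namespace Cfsg.Agent.S2308

open Cfsg.Agent.GL2Rep Matrix


/-- Values of the permutation character of GL₂ over a finite field F with q elements on the cosets of its upper triangular subgroup (equivalently, the number of lines of F² that an element maps to themselves): q + 1 at a scalar matrix, 2 at a diagonal matrix with two different diagonal entries, 0 at an element with no eigenvector in F², and 1 at an upper triangular matrix with equal diagonal entries and non-zero upper right entry. -/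
theorem result {F : Type*} [Field F] [Fintype F] (g : Matrix.GeneralLinearGroup (Fin 2) F) :
    ((∃ a : F, (g : Matrix (Fin 2) (Fin 2) F) = a • (1 : Matrix (Fin 2) (Fin 2) F)) → Cfsg.fixedPointCharacter (Cfsg.upperTriangularGL 2 F) g = Fintype.card F + 1) ∧
    ((g : Matrix (Fin 2) (Fin 2) F) 0 1 = 0 → (g : Matrix (Fin 2) (Fin 2) F) 1 0 = 0 → (g : Matrix (Fin 2) (Fin 2) F) 0 0 ≠ (g : Matrix (Fin 2) (Fin 2) F) 1 1 →
      Cfsg.fixedPointCharacter (Cfsg.upperTriangularGL 2 F) g = 2) ∧
    ((∀ (c : F) (v : Fin 2 → F), v ≠ 0 → (g : Matrix (Fin 2) (Fin 2) F).mulVec v ≠ c • v) → Cfsg.fixedPointCharacter (Cfsg.upperTriangularGL 2 F) g = 0) ∧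
    ((g : Matrix (Fin 2) (Fin 2) F) 1 0 = 0 → (g : Matrix (Fin 2) (Fin 2) F) 0 0 = (g : Matrix (Fin 2) (Fin 2) F) 1 1 → (g : Matrix (Fin 2) (Fin 2) F) 0 1 ≠ 0 →
      Cfsg.fixedPointCharacter (Cfsg.upperTriangularGL 2 F) g = 1) := by
  classical
  haveI : Fintype (GL (Fin 2) F) := Fintype.ofFinite _
  rw [GL.fixedPoint_eq]
  have hd := GL.det_ne g
  refine ⟨?_, fun h01 h10 hne => ?_, GL.R_noEigen 1 1 g, fun h10 he h01 => ?_⟩
  · rintro ⟨a, ha⟩
    rw [GL.R_scalar 1 1 g a ha]
    have : a ≠ 0 := fun e => hd (by rw [ha, e]; simp)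
    simp [MulChar.one_apply (Ne.isUnit this)]
  · rw [GL.R_diag 1 1 g h10 hne]
    rw [h10, mul_zero, sub_zero, mul_ne_zero_iff] at hd
    simp [MulChar.one_apply hd.1.isUnit, MulChar.one_apply hd.2.isUnit]
    norm_num
  · rw [GL.R_unipotent 1 1 g h10 he h01]
    rw [h10, mul_zero, sub_zero, mul_ne_zero_iff] at hd
    simp [MulChar.one_apply hd.1.isUnit]

end Cfsg.Agent.S2308
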