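import Cfsg.Statements.S2309
-- import your own Cfsg.Agent.* helpers here

import Cfsg.Agent.GL2Rep.GLCount

set_option autoImplicit false
open Cfsg

namespace Cfsg.Agent.S2309

open Cfsg.Agent.GL2Rep Cfsg.Agent.GL2Rep.GL Matrix


/-- Over a finite field F with q elements: every irreducible complex character of GL₂ of degree q − 1 vanishes at every diagonal matrix with two distinct entries, and every irreducible complex character of degree q + 1 vanishes at every element with no eigenvector in F². -/
theorem result {F : Type*} [Field F] [Fintype F] (χ : Matrix.GeneralLinearGroup (Fin 2) F → ℂ) (hχ : Cfsg.IsIrrCharacter (Matrix.GeneralLinearGroup (Fin 2) F) χ) (g : Matrix.GeneralLinearGroup (Fin 2) F) :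
    (χ 1 = (Fintype.card F : ℂ) - 1 → (g : Matrix (Fin 2) (Fin 2) F) 0 1 = 0 → (g : Matrix (Fin 2) (Fin 2) F) 1 0 = 0 → (g : Matrix (Fin 2) (Fin 2) F) 0 0 ≠ (g : Matrix (Fin 2) (Fin 2) F) 1 1 → χ g = 0) ∧
    (χ 1 = (Fintype.card F : ℂ) + 1 → (∀ (c : F) (v : Fin 2 → F), v ≠ 0 → (g : Matrix (Fin 2) (Fin 2) F).mulVec v ≠ c • v) → χ g = 0) := by
  classical
  haveI : Fintype (GL (Fin 2) F) := Fintype.ofFinite _
  have hq : (1 : ℝ) < Fintype.card F := by exact_mod_cast Fintype.one_lt_card
  have hc := Cfsg.Agent.Char.isClassFunction_of_isIrr hχ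
  rcases degree_cases hχ with ⟨lam, rfl⟩ | ⟨lam, rfl⟩ | ⟨α, β, hne, rfl⟩ | ⟨hd, hcusp⟩
  · refine ⟨fun h h01 h10 hne => ?_, fun h => ?_⟩
    · exfalso
      rw [linDet_one] at h
      have hn : Fintype.card F = 2 := by
        have : ((Fintype.card F : ℕ) : ℂ) = ((2 : ℕ) : ℂ) := by push_cast; linear_combination -h
        exact_mod_cast this
      have hd := det_ne g
      rw [h01, zero_mul, sub_zero, mul_ne_zero_iff] at hd
      have hu : Fintype.card Fˣ = 1 := by rw [Fintype.card_units, hn]
      haveI : Subsingleton Fˣ := Fintype.card_le_one_iff_subsingleton.1 hu.le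
      exact hne (congrArg Units.val (Subsingleton.elim (Units.mk0 _ hd.1) (Units.mk0 _ hd.2)))
    · exfalso
      rw [linDet_one] at h
      have := congrArg Complex.re h
      simp at this
  · refine ⟨fun h => ?_, fun h => ?_⟩ <;> exfalso <;> rw [St_one] at h <;>
      exact one_ne_zero (α := ℂ) (by first | linear_combination h | linear_combination -h)
  · refine ⟨fun h => ?_, fun _ hg => R_noEigen α β g hg⟩
    exfalso
    rw [R_one] at h
    exact two_ne_zero (α := ℂ) (by linear_combination h)
  · refine ⟨fun _ h01 h10 hne => ?_, fun h => ?_⟩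
    · have hdn := det_ne g
      rw [h10, mul_zero, sub_zero, mul_ne_zero_iff] at hdn
      set a := Units.mk0 _ hdn.1
      set d := Units.mk0 _ hdn.2
      have key : ∀ e : F, χ (bEl a d e) = χ g := by
        intro e
        let x : GL (Fin 2) F := bEl 1 1 (e / ((g : Matrix (Fin 2) (Fin 2) F) 1 1 - (g : Matrix (Fin 2) (Fin 2) F) 0 0))
        rw [← hc g x]
        congr 1
        rw [eq_mul_inv_iff_mul_eq]
        refine Units.ext ?_
        have hz := sub_ne_zero.2 hne.symm
        rw [Units.val_mul, Units.val_mul, coe_bEl]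
        ext i j
        fin_cases i <;> fin_cases j <;> simp [x, a, d, coe_bEl, Matrix.mul_apply, Fin.sum_univ_two, h01, h10]
        field_simp
        ring
      have h := cusp_sum_eq_zero hc hcusp a d
      simp only [key, Finset.sum_const, Finset.card_univ, nsmul_eq_mul] at h
      exact (mul_eq_zero.1 h).resolve_left (Nat.cast_ne_zero.2 Fintype.card_ne_zero)
    · exfalso
      exact two_ne_zero (α := ℂ) (by linear_combination hd - h)

end Cfsg.Agent.S2309
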