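import Cfsg.Statements.S2310
-- import your own Cfsg.Agent.* helpers here

import Cfsg.Agent.GL2Rep.GLCount

set_option autoImplicit false
open Cfsg

namespace Cfsg.Agent.S2310

open Cfsg.Agent.GL2Rep Cfsg.Agent.GL2Rep.GL Matrix


/-- Over a finite field F with q ≥ 3 elements, let u be the upper unitriangular matrix of GL₂ with off-diagonal entry 1. An irreducible complex character χ of GL₂ takes at u the value 1 if χ has degree 1 or q + 1, the value −1 if χ has degree q − 1, and the value 0 if χ has degree q. -/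
theorem result {F : Type*} [Field F] [Fintype F] (hq : 3 ≤ Fintype.card F) (χ : Matrix.GeneralLinearGroup (Fin 2) F → ℂ) (hχ : Cfsg.IsIrrCharacter (Matrix.GeneralLinearGroup (Fin 2) F) χ)
    (u : Matrix.GeneralLinearGroup (Fin 2) F) (hu : (u : Matrix (Fin 2) (Fin 2) F) = !![1, 1; 0, 1]) :
    (χ 1 = 1 → χ u = 1) ∧ (χ 1 = (Fintype.card F : ℂ) + 1 → χ u = 1) ∧
    (χ 1 = (Fintype.card F : ℂ) - 1 → χ u = -1) ∧ (χ 1 = (Fintype.card F : ℂ) → χ u = 0) := by
  classical
  haveI : Fintype (GL (Fin 2) F) := Fintype.ofFinite _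
  have hq' : (3 : ℝ) ≤ Fintype.card F := by exact_mod_cast hq
  have hu' : (u : Matrix (Fin 2) (Fin 2) F) 1 0 = 0 ∧ (u : Matrix (Fin 2) (Fin 2) F) 0 0 = (u : Matrix (Fin 2) (Fin 2) F) 1 1 ∧
      (u : Matrix (Fin 2) (Fin 2) F) 0 1 ≠ 0 := by simp [hu]
  have hR : ∀ α β : MulChar F ℂ, R α β u = 1 := fun α β => by
    rw [R_unipotent α β u hu'.1 hu'.2.1 hu'.2.2, hu]; simp
  have hlin : ∀ lam : MulChar F ℂ, linDet lam u = 1 := fun lam => by simp [linDet, hu, Matrix.det_fin_two_of]
  have hre : ∀ {a b : ℂ}, a = b → a.re = b.re := fun h => congrArg _ h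
  rcases degree_cases hχ with ⟨lam, rfl⟩ | ⟨lam, rfl⟩ | ⟨α, β, hne, rfl⟩ | ⟨hd, hcusp⟩
  · exact ⟨fun _ => hlin lam, fun _ => hlin lam,
      fun h => by rw [linDet_one] at h; have := hre h; simp at this; linarith,
      fun h => by rw [linDet_one] at h; have := hre h; simp at this; linarith⟩
  · refine ⟨fun h => ?_, fun h => ?_, fun h => ?_, fun _ => by rw [St, Pi.sub_apply, hR, hlin, sub_self]⟩ <;>
      (rw [St_one] at h; have := hre h; simp at this) <;> linarith
  · exact ⟨fun _ => hR α β, fun _ => hR α β,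
      fun h => by rw [R_one] at h; have := hre h; simp at this; linarith,
      fun h => by rw [R_one] at h; have := hre h; simp at this⟩
  · refine ⟨fun h => ?_, fun h => ?_, fun _ => ?_, fun h => ?_⟩
    · exfalso; have := hre (hd.symm.trans h); simp at this; linarith
    · exfalso; have := hre (hd.symm.trans h); simp at this; linarith
    · have h := cusp_unipotent (Cfsg.Agent.Char.isClassFunction_of_isIrr hχ) hcusp u hu
      rw [hd] at h
      have hne : (Fintype.card F : ℂ) - 1 ≠ 0 := fun e => by have := congrArg Complex.re e; simp at this; linarith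
      exact mul_left_cancel₀ hne (by linear_combination h)
    · exfalso; have := hre (hd.symm.trans h); simp at this

end Cfsg.Agent.S2310
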