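import Cfsg.Statements.S2313
import Cfsg.Agent.Chev.All
import Cfsg.Agent.Chev.SteinbergCells

set_option autoImplicit false
set_option synthInstance.maxHeartbeats 400000
set_option maxHeartbeats 1000000
open Cfsg

namespace Cfsg.Agent.S2313

open Cfsg.Lie Cfsg.Agent.Chev

universe u

variable {D : ChevalleyDatum} {F : Type u} [Field F]

theorem big_cell (hF : Facts.{u} D) {π : Equiv.Perm (Fin D.nroots)} (hπ : π ∈ weyl hF)
    (hlong : ∀ r : Fin D.nroots, ((π r : ℕ) < half D ↔ half D ≤ (r : ℕ))) :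
    (uMinus hF π⁻¹ (F := F) = D.posUnipotent F) ∧
    ∀ z ∈ D.borelSubgroup F, ((repN hF π : GL D.Idx F))⁻¹ * z * repN hF π ∈ D.borelSubgroup F →
      z ∈ D.diagonalSubgroup F := by
  have hinv : ∀ r : Fin D.nroots, half D ≤ (r : ℕ) → (π⁻¹ r : ℕ) < half D := by
    intro r hr
    by_contra h
    have h2 := (hlong (π⁻¹ r)).2 (not_lt.1 h)
    rw [app_inv] at h2
    omega
  refine ⟨le_antisymm (uMinus_le_posU hF _) ?_, fun z hz hzn => ?_⟩
  · rw [posUnipotent_eq hF, Subgroup.closure_le]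
    rintro _ ⟨r, t, h1, h2, rfl⟩
    exact Subgroup.subset_closure ⟨⟨r, h2⟩, t, h1, hinv ⟨r, h2⟩ h1, rfl⟩
  set n := (repN hF π : GL D.Idx F)
  have hnI := isMon_inv hF (repN_mem hF π) (isMon_repN hF hπ (F := F))
  have hnorm : ∀ m ∈ D.monomialSubgroup F, ∀ h ∈ D.diagonalSubgroup F,
      m * h * m⁻¹ ∈ D.diagonalSubgroup F := fun m hm h hh => by
    have := (diagonal_subgroupOf_normal hF (F := F)).conj_mem
      ⟨h, Subgroup.mem_sup_left hh⟩ (Subgroup.mem_subgroupOf.2 hh) ⟨m, hm⟩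
    exact Subgroup.mem_subgroupOf.1 this
  obtain ⟨v, hv, c, rfl⟩ := (mem_borel_iff hF).1 hz
  have hV : n⁻¹ * v * n ∈ D.negUnipotent F := by
    have hle : D.posUnipotent F ≤
        (D.negUnipotent F).comap (MulAut.conj n⁻¹).toMonoidHom := by
      rw [posUnipotent_eq hF, Subgroup.closure_le]
      rintro _ ⟨r, t, h1, h2, rfl⟩
      obtain ⟨s, hs⟩ := isMon_conj_mem hF hnI ⟨r, h2⟩ t
      show n⁻¹ * xG hF r t * n⁻¹⁻¹ ∈ D.negUnipotent F
      rw [show n⁻¹ * xG hF r t * n⁻¹⁻¹ = _ from hs]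
      exact mem_negUnipotent_of hF (π⁻¹ ⟨r, h2⟩).2 (hinv ⟨r, h2⟩ h1) s
    simpa using hle hv
  have hT : n⁻¹ * torusHom c * n ∈ D.diagonalSubgroup F := by
    simpa using hnorm n⁻¹ (Subgroup.inv_mem _ (repN_mem hF π)) _ (torusHom_mem hF c)
  have hD : n⁻¹ * (v * torusHom c) * n ∈ D.diagonalSubgroup F :=
    (borel_inf_negBorel hF (F := F)).le ⟨hzn, by
      rw [show n⁻¹ * (v * torusHom c) * n = (n⁻¹ * v * n) * (n⁻¹ * torusHom c * n) by group]
      exact Subgroup.mul_mem _ (Subgroup.mem_sup_left hV) (Subgroup.mem_sup_right hT)⟩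
  have := hnorm n (repN_mem hF π) _ hD
  rwa [show n * (n⁻¹ * (v * torusHom c) * n) * n⁻¹ = v * torusHom c by group] at this

/-- In a Chevalley group of type G₂, B₂, D₄, F₄, E₆, E₇ or E₈ over a finite field, the restriction of the Steinberg character to the subgroup B = UH is the permutation character of B on the cosets of the diagonal subgroup H: at b ∈ B its value is the number of cosets xH, x ∈ B, with bxH = xH. -/
theorem result {F : Type*} [Field F] [Fintype F] (D : Cfsg.Lie.ChevalleyDatum) (hD : D ∈ [Cfsg.Lie.chevG2, Cfsg.Lie.chevB2, Cfsg.Lie.chevD4, Cfsg.Lie.chevF4, Cfsg.Lie.chevE6, Cfsg.Lie.chevE7, Cfsg.Lie.chevE8]) (b : ↥((D.borelSubgroup F).subgroupOf (D.group F))) :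
    D.steinbergCharacter F ((((D.borelSubgroup F).subgroupOf (D.group F)).subtype) b) =
      Cfsg.fixedPointCharacter (((D.diagonalSubgroup F).subgroupOf (D.group F)).subgroupOf ((D.borelSubgroup F).subgroupOf (D.group F))) b := by
  have hF := facts_of_mem hD
  obtain ⟨w, hw⟩ := exists_longest hF
  obtain ⟨hY, hH⟩ := big_cell hF (F := F) (pWord_mem hF w) hw
  show D.steinbergCharacter F (b : ↥(D.group F)) = _
  rw [steinberg_borel hF hw b.2, Cfsg.fixedPointCharacter, cellCount, hY]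
  congr 1
  set HB := ((D.diagonalSubgroup F).subgroupOf (D.group F)).subgroupOf
    ((D.borelSubgroup F).subgroupOf (D.group F)) with hHB
  have hUB : ∀ y : GL D.Idx F, y ∈ D.posUnipotent F → y ∈ D.borelSubgroup F :=
    fun y hy => Subgroup.mem_sup_left hy
  let f : ↥(D.posUnipotent F) → ↥((D.borelSubgroup F).subgroupOf (D.group F)) ⧸ HB := fun y =>
    QuotientGroup.mk ⟨⟨y, borel_le_group hF (hUB y y.2)⟩, hUB y y.2⟩
  have hmk : ∀ x y : ↥((D.borelSubgroup F).subgroupOf (D.group F)),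
      (QuotientGroup.mk x : _ ⧸ HB) = QuotientGroup.mk y ↔
        ((x : ↥(D.group F)) : GL D.Idx F)⁻¹ * ((y : ↥(D.group F)) : GL D.Idx F) ∈
          D.diagonalSubgroup F := fun x y => QuotientGroup.eq
  have hf : Function.Bijective f := by
    constructor
    · rintro ⟨x, hx⟩ ⟨y, hy⟩ e
      have h := (hmk _ _).1 e
      have h2 : x⁻¹ * y ∈ D.posUnipotent F ⊓ D.diagonalSubgroup F :=
        ⟨Subgroup.mul_mem _ (Subgroup.inv_mem _ hx) hy, h⟩
      rw [posUnipotent_inf_diagonal hF, Subgroup.mem_bot, inv_mul_eq_one] at h2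
      exact Subtype.ext h2
    · intro q
      obtain ⟨x, rfl⟩ := QuotientGroup.mk_surjective q
      obtain ⟨v, hv, c, e⟩ := (mem_borel_iff hF).1 x.2
      refine ⟨⟨v, hv⟩, (hmk _ _).2 ?_⟩
      show v⁻¹ * ((x : ↥(D.group F)) : GL D.Idx F) ∈ D.diagonalSubgroup F
      change ((x : ↥(D.group F)) : GL D.Idx F) = _ at e
      rw [e, inv_mul_cancel_left]
      exact torusHom_mem hF c
  refine Nat.card_congr ((Equiv.ofBijective f hf).subtypeEquiv fun y => ?_)
  set bb := (((b : ↥(D.group F))) : GL D.Idx F) with hbb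
  set n := (repN hF (pWord hF w) : GL D.Idx F)
  rw [MulAction.mem_fixedBy]
  have hsm : b • f y = QuotientGroup.mk (b * ⟨⟨y, borel_le_group hF (hUB y y.2)⟩, hUB y y.2⟩) := rfl
  show FixPt hF (pWord hF w) bb (y : GL D.Idx F) ↔ b • f y = f y
  rw [hsm, hmk]
  show _ ↔ (bb * (y : GL D.Idx F))⁻¹ * (y : GL D.Idx F) ∈ D.diagonalSubgroup F
  rw [← Subgroup.inv_mem_iff _ (x := (bb * (y : GL D.Idx F))⁻¹ * (y : GL D.Idx F)),
    mul_inv_rev, inv_inv, ← mul_assoc]
  constructor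
  · rintro ⟨b', hb', e⟩
    refine hH _ (Subgroup.mul_mem _ (Subgroup.mul_mem _ (Subgroup.inv_mem _ (hUB _ y.2)) b.2)
      (hUB _ y.2)) ?_
    rw [show n⁻¹ * ((y : GL D.Idx F)⁻¹ * bb * (y : GL D.Idx F)) * n =
      n⁻¹ * (y : GL D.Idx F)⁻¹ * (bb * ((y : GL D.Idx F) * n)) by group, e]
    rw [show n⁻¹ * (y : GL D.Idx F)⁻¹ * ((y : GL D.Idx F) * n * b') = b' by group]
    exact hb'
  · intro h
    refine ⟨n⁻¹ * ((y : GL D.Idx F)⁻¹ * bb * (y : GL D.Idx F)) * n, ?_, show bb * ((y : GL D.Idx F) * n) = (y : GL D.Idx F) * n *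
      (n⁻¹ * ((y : GL D.Idx F)⁻¹ * bb * (y : GL D.Idx F)) * n) by group⟩
    refine Subgroup.mem_sup_right ?_
    have := (diagonal_subgroupOf_normal hF (F := F)).conj_mem
      ⟨_, Subgroup.mem_sup_left h⟩ (Subgroup.mem_subgroupOf.2 h)
      ⟨n⁻¹, Subgroup.inv_mem _ (repN_mem hF _)⟩
    simpa [Subgroup.mem_subgroupOf] using this

end Cfsg.Agent.S2313
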