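import Cfsg.Statements.S2315
import Mathlib
import Cfsg.Agent.NilCount.Basic

set_option autoImplicit false
open Cfsg

namespace Cfsg.Agent.S2315

/-- Steinberg's count of unipotent elements for the general linear group: over a finite field with q elements of characteristic p, the number of elements of GL_n of p-power order (the unipotent matrices) is q^(n(n−1)). -/
theorem result {F : Type*} [Field F] [Fintype F] (p : ℕ) [Fact p.Prime] [CharP F p] (n : ℕ) :
    Nat.card {g : Matrix.GeneralLinearGroup (Fin n) F // ∃ k : ℕ, orderOf g = p ^ k} = Fintype.card F ^ (n * (n - 1)) := by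
  classical
  rcases Nat.eq_zero_or_pos n with rfl | hn
  · rw [Nat.zero_mul, pow_zero, Nat.card_eq_one_iff_unique]
    exact ⟨⟨fun a b => Subtype.ext (Subsingleton.elim _ _)⟩, ⟨⟨1, 0, by simp⟩⟩⟩
  haveI : Nonempty (Fin n) := ⟨⟨0, hn⟩⟩
  have hp := (Fact.out : p.Prime)
  have key : ∀ g : Matrix.GeneralLinearGroup (Fin n) F,
      (∃ k : ℕ, orderOf g = p ^ k) ↔ IsNilpotent ((g : Matrix (Fin n) (Fin n) F) - 1) := by
    intro g
    constructor
    · rintro ⟨k, hk⟩
      refine ⟨p ^ k, ?_⟩
      have h1 : ((g : Matrix (Fin n) (Fin n) F)) ^ p ^ k = 1 := by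
        rw [← Units.val_pow_eq_pow_val, ← hk, pow_orderOf_eq_one, Units.val_one]
      rw [sub_pow_char_pow_of_commute p k (Commute.one_right _), h1, one_pow, sub_self]
    · rintro ⟨m, hm⟩
      have h0 : ((g : Matrix (Fin n) (Fin n) F) - 1) ^ p ^ m = 0 := pow_eq_zero_of_le (Nat.lt_pow_self hp.one_lt).le hm
      rw [sub_pow_char_pow_of_commute p m (Commute.one_right _), one_pow, sub_eq_zero] at h0
      have h1 : g ^ p ^ m = 1 := Units.ext (by rw [Units.val_pow_eq_pow_val, h0, Units.val_one])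
      obtain ⟨k, -, hk⟩ := (Nat.dvd_prime_pow hp).1 (orderOf_dvd_of_pow_eq_one h1)
      exact ⟨k, hk⟩
  rw [Nat.card_congr (Equiv.subtypeEquivRight key)]
  let e : {g : Matrix.GeneralLinearGroup (Fin n) F // IsNilpotent ((g : Matrix (Fin n) (Fin n) F) - 1)} ≃
      {A : Matrix (Fin n) (Fin n) F // IsNilpotent A} :=
    { toFun := fun g => ⟨(g.1 : Matrix (Fin n) (Fin n) F) - 1, g.2⟩
      invFun := fun A => ⟨A.2.isUnit_add_one.unit, by rw [IsUnit.unit_spec, add_sub_cancel_right]; exact A.2⟩
      left_inv := fun g => Subtype.ext (Units.ext (by rw [IsUnit.unit_spec, sub_add_cancel]))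
      right_inv := fun A => Subtype.ext (by simp [IsUnit.unit_spec]) }
  let e2 : {A : Matrix (Fin n) (Fin n) F // IsNilpotent A} ≃ {T : Module.End F (Fin n → F) // IsNilpotent T} :=
    (Matrix.toLinAlgEquiv' (R := F) (n := Fin n)).toEquiv.subtypeEquiv fun A =>
      (IsNilpotent.map_iff (f := (Matrix.toLinAlgEquiv' (R := F) (n := Fin n))) (EquivLike.injective _)).symm
  rw [Nat.card_congr (e.trans e2), Cfsg.Agent.NilCount.card_nilpotent n (Fin n → F) (Module.finrank_fin_fun F)]

end Cfsg.Agent.S2315
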