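import Cfsg.Statements.S2317
import Cfsg.Agent.MatModule.Unipotent

set_option autoImplicit false
open Cfsg

namespace Cfsg.Agent.S2317

open Cfsg.Agent.MatModule

/-- Over a finite field of characteristic p, the conjugacy classes of GL_n consisting of elements of p-power order (the unipotent classes) are as many as the partitions of n. -/
theorem result {F : Type*} [Field F] [Fintype F] (p : ℕ) [Fact p.Prime] [CharP F p] (n : ℕ) :
    Nat.card {C : ConjClasses (Matrix.GeneralLinearGroup (Fin n) F) //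
      ∃ g : Matrix.GeneralLinearGroup (Fin n) F, (∃ k : ℕ, orderOf g = p ^ k) ∧ ConjClasses.mk g = C} =
      Fintype.card (Nat.Partition n) := by
  classical
  rw [← Nat.card_eq_fintype_card]
  choose g hg using fun μ : Nat.Partition n => exists_gl_hasType (F := F) μ.parts μ.parts_sum
  have hpow : ∀ μ : Nat.Partition n, ∃ k, orderOf (g μ) = p ^ k := by
    intro μ
    have hz : ((Matrix.toLin' (g μ : Matrix (Fin n) (Fin n) F)) - 1) ^ p ^ n = 0 :=
      (sub_one_pow_eq_zero_iff (hg μ) _).2 fun e he => (μ.le_of_mem_parts he).trans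
        (Nat.lt_pow_self (Fact.out : p.Prime).one_lt).le
    obtain ⟨k, -, hk⟩ := (Nat.dvd_prime_pow Fact.out).1
      (orderOf_dvd_of_pow_eq_one ((toLin'_pow_eq_one_iff (g μ) n).2 hz))
    exact ⟨k, hk⟩
  have h0 : ∀ μ : Nat.Partition n, (0 : ℕ) ∉ μ.parts := fun μ h => (μ.parts_pos h).false
  symm
  refine Nat.card_eq_of_bijective (fun μ => ⟨ConjClasses.mk (g μ), g μ, hpow μ, rfl⟩) ⟨?_, ?_⟩
  · intro μ ν h
    obtain ⟨x, hx⟩ := isConj_iff.1 (ConjClasses.mk_eq_mk_iff_isConj.1 (congrArg Subtype.val h))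
    exact Nat.Partition.ext (hasType_unique (hasType_of_conj hx (hg μ)) (hg ν) (h0 μ) (h0 ν))
  · rintro ⟨C', y, ⟨k, hk⟩, rfl⟩
    have hz := (toLin'_pow_eq_one_iff y k).1 (by rw [← hk, pow_orderOf_eq_one])
    obtain ⟨m, hm0, hm⟩ := exists_hasType _ hz
    have hsum := sum_eq_finrank hm
    rw [Module.finrank_fintype_fun_eq_card, Fintype.card_fin] at hsum
    set μ : Nat.Partition n := ⟨m, fun {i} hi => Nat.pos_of_ne_zero fun h => hm0 (h ▸ hi), hsum⟩
    refine ⟨μ, Subtype.ext (ConjClasses.mk_eq_mk_iff_isConj.2 (isConj_iff.2 ?_))⟩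
    exact exists_conj_gl_of_hasType _ _ (hg μ) hm

end Cfsg.Agent.S2317
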