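import Cfsg.Statements.S2318
import Cfsg.Agent.SteinbergUnique.Final
import Cfsg.Agent.S2326
import Cfsg.Agent.Chev.All
import Cfsg.Agent.Char.Artin

set_option autoImplicit false
open Cfsg

namespace Cfsg.Agent.S2318

/-- In a Chevalley group of type G₂, B₂, D₄, F₄, E₆, E₇ or E₈ over a finite field of characteristic p (for types G₂ and B₂ the field is assumed to have at least 3 elements, so that the group is perfect), the Steinberg character is the only irreducible complex character whose degree is divisible by the full power of p dividing the group order (the only irreducible character of p-defect zero). -/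
theorem result {F : Type*} [Field F] [Fintype F] (p : ℕ) [Fact p.Prime] [CharP F p] (D : Cfsg.Lie.ChevalleyDatum) (hD : D ∈ [Cfsg.Lie.chevG2, Cfsg.Lie.chevB2, Cfsg.Lie.chevD4, Cfsg.Lie.chevF4, Cfsg.Lie.chevE6, Cfsg.Lie.chevE7, Cfsg.Lie.chevE8]) (hq : (D = Cfsg.Lie.chevG2 ∨ D = Cfsg.Lie.chevB2) → 3 ≤ Fintype.card F)
    (χ : ↥(D.group F) → ℂ) (hχ : Cfsg.IsIrrCharacter ↥(D.group F) χ)
    (hdeg : ∃ d : ℕ, χ 1 = (d : ℂ) ∧ p ^ (Nat.card ↥(D.group F)).factorization p ∣ d) :
    χ = D.steinbergCharacter F := by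
  have hF := Cfsg.Agent.Chev.facts_of_mem hD
  obtain ⟨P, hP⟩ := Cfsg.Agent.S2326.result p D hD (F := F)
  have := Fintype.ofFinite ↥(D.group F)
  obtain ⟨d, hd, hdvd⟩ := hdeg
  set k := (Nat.card ↥(D.group F)).factorization p with hk
  have hp : p.Prime := Fact.out
  have hcard : Nat.card ↥(P : Subgroup ↥(D.group F)) = p ^ k := P.card_eq_multiplicity
  have hzero : ∀ ψ : ↥(D.group F) → ℂ, Cfsg.IsIrrCharacter ↥(D.group F) ψ →
      (∃ m : ℕ, ψ 1 = (m : ℂ) ∧ p ^ k ∣ m) →
      ∀ u ∈ Cfsg.Agent.SteinbergUnique.uIn D F, u ≠ 1 → ψ u = 0 := by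
    rintro ψ hψ ⟨m, hm, hm'⟩ u hu hu1
    refine Cfsg.Agent.Char.defect_zero hψ hp (n := k) (Nat.ordProj_dvd _ _)
      (Nat.pow_succ_factorization_not_dvd Nat.card_pos.ne' hp) hm hm' u ?_
    have hord : orderOf u ∣ p ^ k := by
      rw [← hcard]
      exact Subgroup.orderOf_dvd_natCard _ (by rw [hP]; exact hu)
    obtain ⟨j, -, hj⟩ := (Nat.dvd_prime_pow hp).1 hord
    rw [hj]
    refine dvd_pow_self p fun h0 => hu1 ?_
    rw [h0, pow_zero] at hj
    exact orderOf_eq_one_iff.1 hj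
  refine Cfsg.Agent.SteinbergUnique.unique hF hχ (Cfsg.Agent.Chev.steinberg_irr hF)
    (hzero χ hχ ⟨d, hd, hdvd⟩) (hzero _ (Cfsg.Agent.Chev.steinberg_irr hF)
      ⟨Fintype.card F ^ Cfsg.Agent.Chev.half D, by
        rw [Cfsg.Agent.Chev.steinberg_one hF, Nat.cast_pow], ?_⟩)
  rw [← hcard, hP]
  exact (Cfsg.Agent.SteinbergUnique.card_uIn hF (F := F)).dvd

end Cfsg.Agent.S2318
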