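import Cfsg.Statements.S2320
-- import your own Cfsg.Agent.* helpers here

import Cfsg.Agent.GL2Rep.GLCount

set_option autoImplicit false
open Cfsg

namespace Cfsg.Agent.S2320

open Cfsg.Agent.GL2Rep Cfsg.Agent.GL2Rep.GL Matrix


/-- Over a finite field F with q elements, every irreducible complex character of GL₂ of degree q takes a value of absolute value 1 at every diagonal matrix with two different diagonal entries and at every element with no eigenvector in F². -/
theorem result {F : Type*} [Field F] [Fintype F] (χ : Matrix.GeneralLinearGroup (Fin 2) F → ℂ) (hχ : Cfsg.IsIrrCharacter (Matrix.GeneralLinearGroup (Fin 2) F) χ) (hdeg : χ 1 = (Fintype.card F : ℂ)) (g : Matrix.GeneralLinearGroup (Fin 2) F) :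
    ((g : Matrix (Fin 2) (Fin 2) F) 0 1 = 0 → (g : Matrix (Fin 2) (Fin 2) F) 1 0 = 0 → (g : Matrix (Fin 2) (Fin 2) F) 0 0 ≠ (g : Matrix (Fin 2) (Fin 2) F) 1 1 → ‖χ g‖ = 1) ∧
    ((∀ (c : F) (v : Fin 2 → F), v ≠ 0 → (g : Matrix (Fin 2) (Fin 2) F).mulVec v ≠ c • v) → ‖χ g‖ = 1) := by
  classical
  haveI : Fintype (GL (Fin 2) F) := Fintype.ofFinite _
  have hq : (1 : ℝ) < Fintype.card F := by exact_mod_cast Fintype.one_lt_card
  rcases degree_cases hχ with ⟨lam, rfl⟩ | ⟨lam, rfl⟩ | ⟨α, β, hne, rfl⟩ | ⟨hd, -⟩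
  · exfalso; rw [linDet_one] at hdeg
    have := congrArg Complex.re hdeg; simp at this; linarith
  · have hn : ∀ x : GL (Fin 2) F, ‖linDet lam x‖ = 1 := fun x => norm_apply lam x.det_ne_zero
    refine ⟨fun h01 h10 hne => ?_, fun hg => ?_⟩
    · have e : St lam g = linDet lam g := by
        rw [St, Pi.sub_apply, R_diag lam lam g h10 hne, linDet, Matrix.det_fin_two, h01, h10, mul_zero, sub_zero, map_mul]
        ring
      rw [e, hn]
    · rw [St, Pi.sub_apply, R_noEigen lam lam g hg, zero_sub, norm_neg, hn]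
  · exfalso; rw [R_one] at hdeg
    exact one_ne_zero (α := ℂ) (by linear_combination hdeg)
  · exfalso
    exact one_ne_zero (α := ℂ) (by linear_combination hd - hdeg)

end Cfsg.Agent.S2320
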