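import Cfsg.Statements.S2321
-- import your own Cfsg.Agent.* helpers here

import Cfsg.Agent.GL2Rep.SLValues

set_option autoImplicit false
open Cfsg

namespace Cfsg.Agent.S2321

open Cfsg.Agent.GL2Rep Cfsg.Agent.GL2Rep.SL Matrix


/-- Over a finite field F with q elements, an irreducible complex character of SL₂ of degree q (the Steinberg character) takes the value 1 at every diagonal matrix whose diagonal entry a has a² ≠ 1, the value −1 at every element with no eigenvector in F², and the value 0 at every upper triangular matrix with equal diagonal entries and non-zero upper right entry. -/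
theorem result {F : Type*} [Field F] [Fintype F] (χ : Matrix.SpecialLinearGroup (Fin 2) F → ℂ) (hχ : Cfsg.IsIrrCharacter (Matrix.SpecialLinearGroup (Fin 2) F) χ) (hdeg : χ 1 = (Fintype.card F : ℂ)) (g : Matrix.SpecialLinearGroup (Fin 2) F) :
    ((g : Matrix (Fin 2) (Fin 2) F) 0 1 = 0 → (g : Matrix (Fin 2) (Fin 2) F) 1 0 = 0 → (g : Matrix (Fin 2) (Fin 2) F) 0 0 ^ 2 ≠ 1 → χ g = 1) ∧
    ((∀ (c : F) (v : Fin 2 → F), v ≠ 0 → (g : Matrix (Fin 2) (Fin 2) F).mulVec v ≠ c • v) → χ g = -1) ∧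
    ((g : Matrix (Fin 2) (Fin 2) F) 1 0 = 0 → (g : Matrix (Fin 2) (Fin 2) F) 0 0 = (g : Matrix (Fin 2) (Fin 2) F) 1 1 → (g : Matrix (Fin 2) (Fin 2) F) 0 1 ≠ 0 → χ g = 0) := by
  classical
  haveI : Fintype (GL (Fin 2) F) := Fintype.ofFinite _
  have hpos := Fintype.one_lt_card (α := F)
  obtain ⟨d, hd, h⟩ := nat_cases hχ
  rw [hd] at hdeg
  have hdq := Nat.cast_injective hdeg
  rcases h with ⟨h', -⟩ | ⟨-, rfl⟩ | ⟨h', -⟩ | ⟨-, h', -⟩ | ⟨h', -⟩ | ⟨-, h', -⟩ <;> try omega
  refine ⟨fun h01 h10 ha => ?_, fun hg => ?_, fun h10 he h01 => ?_⟩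
  · obtain ⟨a, ha1, ha2, rfl⟩ := diag_eq_bEl h01 h10 ha
    rw [St_apply, R_diag 1 _ h10]
    · simp [coe_bEl, MulChar.one_apply (Ne.isUnit (inv_ne_zero a.ne_zero))]
    · simp only [coe_bEl]
      intro e
      simp at e
      exact ha2 (by nth_rewrite 2 [e]; simp)
  · rw [St_apply, R_noEigen 1 g hg, zero_sub]
  · rw [St_apply, R_unipotent 1 g h10 he h01]
    have hd' := det_eq g
    rw [h10, mul_zero, sub_zero] at hd'
    rw [MulChar.one_apply (IsUnit.of_mul_eq_one _ hd'), sub_self]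

end Cfsg.Agent.S2321
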