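import Cfsg.Statements.S2322
-- import your own Cfsg.Agent.* helpers here

import Cfsg.Agent.GL2Rep.SLValues

set_option autoImplicit false
open Cfsg

namespace Cfsg.Agent.S2322

open Cfsg.Agent.GL2Rep Cfsg.Agent.GL2Rep.SL Matrix


/-- Over a finite field F with q elements, q odd: every irreducible complex character of SL₂ of degree q − 1 or (q − 1)/2 vanishes at every diagonal matrix whose diagonal entry a has a² ≠ 1, and every irreducible complex character of degree q + 1 or (q + 1)/2 vanishes at every element with no eigenvector in F². -/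
theorem result {F : Type*} [Field F] [Fintype F] (hodd : Odd (Fintype.card F)) (χ : Matrix.SpecialLinearGroup (Fin 2) F → ℂ) (hχ : Cfsg.IsIrrCharacter (Matrix.SpecialLinearGroup (Fin 2) F) χ) (g : Matrix.SpecialLinearGroup (Fin 2) F) :
    ((χ 1 = (Fintype.card F : ℂ) - 1 ∨ χ 1 = (((Fintype.card F - 1) / 2 : ℕ) : ℂ)) →
      (g : Matrix (Fin 2) (Fin 2) F) 0 1 = 0 → (g : Matrix (Fin 2) (Fin 2) F) 1 0 = 0 → (g : Matrix (Fin 2) (Fin 2) F) 0 0 ^ 2 ≠ 1 → χ g = 0) ∧
    ((χ 1 = (Fintype.card F : ℂ) + 1 ∨ χ 1 = (((Fintype.card F + 1) / 2 : ℕ) : ℂ)) →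
      (∀ (c : F) (v : Fin 2 → F), v ≠ 0 → (g : Matrix (Fin 2) (Fin 2) F).mulVec v ≠ c • v) → χ g = 0) := by
  classical
  haveI : Fintype (GL (Fin 2) F) := Fintype.ofFinite _
  have h2 : (2 : F) ≠ 0 := by
    intro e
    haveI : CharP F 2 := CharTwo.of_one_ne_zero_of_two_eq_zero one_ne_zero e
    exact (Nat.not_even_iff_odd.2 hodd) (Nat.even_iff.2 (FiniteField.even_card_of_char_two (ringChar.eq F 2)))
  have hpos := Fintype.one_lt_card (α := F)
  obtain ⟨j, hj⟩ := hodd
  obtain ⟨d, hd, h⟩ := nat_cases hχ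
  have hcl := Cfsg.Agent.Char.isClassFunction_of_isIrr hχ
  have cst : ∀ {n : ℕ} {x : ℂ}, x = (n : ℂ) → χ 1 = x → d = n := fun hx h =>
    Nat.cast_injective (hd.symm.trans (h.trans hx))
  refine ⟨fun hdeg h01 h10 ha => ?_, fun hdeg hg => ?_⟩
  · have hd3 : d + 1 = Fintype.card F ∨ 2 * d + 1 = Fintype.card F := by
      rcases hdeg with e | e
      · exact Or.inl (by have := cst (n := Fintype.card F - 1) (by rw [Nat.cast_sub (by omega)]; simp) e; omega)
      · exact Or.inr (by have := cst rfl e; omega)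
    by_cases hq3 : Fintype.card F = 3
    · exfalso
      have hdet := det_eq g
      rw [h01, zero_mul, sub_zero] at hdet
      have h1 := FiniteField.pow_card_sub_one_eq_one _ (left_ne_zero_of_mul_eq_one hdet)
      rw [hq3] at h1
      exact ha h1
    rcases h with ⟨h', -⟩ | ⟨h', -⟩ | ⟨h', -⟩ | ⟨-, h', -⟩ | ⟨-, hc⟩ | ⟨-, -, hc⟩
    iterate 4 omega
    · exact cusp_diag hcl hc h01 h10 ha
    · exact cusp_diag hcl hc h01 h10 ha
  · have hd3 : d = Fintype.card F + 1 ∨ 2 * d = Fintype.card F + 1 := by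
      rcases hdeg with e | e
      · exact Or.inl (cst (by push_cast; ring) e)
      · exact Or.inr (by have := cst rfl e; omega)
    rcases h with ⟨h', -⟩ | ⟨h', -⟩ | ⟨-, α, -, rfl⟩ | ⟨-, -, α, ha, ha1, hin⟩ | ⟨h', hc⟩ | ⟨-, h', -⟩
    · omega
    · omega
    · exact R_noEigen α g hg
    · exact half_noEigen ha ha1 hχ hin hg
    · -- here q = 3 and d = 2
      obtain ⟨k, P, H, C₂, C₁, hk, hkq, hall, hP, hH, hC2, hC1, cP, cH, c2, c1⟩ := table_odd (F := F) h2
      obtain rfl : k = 1 := by omega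
      let one' : Cfsg.IrrCharacter (Matrix.SpecialLinearGroup (Fin 2) F) := ⟨fun _ => 1, Cfsg.Agent.Char.isIrrCharacter_one⟩
      let St' : Cfsg.IrrCharacter (Matrix.SpecialLinearGroup (Fin 2) F) := ⟨St, St_isIrr⟩
      have hns : SL2Class.NonScalar g :=
        SL2Class.nonScalar_of_sq_ne (SL2Class.sq_ne_four_of_noRoot h2 (SL2Class.noRoot_iff_noEigen.1 hg))
      have hcent : Nat.card (Subgroup.centralizer ({g} : Set (Matrix.SpecialLinearGroup (Fin 2) F))) = 4 := by
        rw [SL2Class.card_cent_noRoot (SL2Class.noRoot_iff_noEigen.1 hg) hns, hkq]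
      have horth := Cfsg.Agent.Char.second_orthogonality g g
      rw [if_pos (IsConj.refl g), hcent] at horth
      have hl : ∀ ψ ∈ C₁, ‖(ψ : Matrix.SpecialLinearGroup (Fin 2) F → ℂ) g‖ = 1 := fun ψ hψ => by
        obtain ⟨f, hf⟩ := Cfsg.Agent.Char.IsChar.exists_hom (Cfsg.Agent.Char.IsIrr.isCharacter ψ.2)
          (by rw [(hC1 ψ hψ).1, Nat.cast_one])
        rw [hf]
        refine Complex.norm_eq_one_of_pow_eq_one (n := orderOf g) ?_ (orderOf_pos g).ne'
        rw [← Units.val_pow_eq_pow_val, ← map_pow, pow_orderOf_eq_one, map_one, Units.val_one]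
      have hre : ∑ ψ : Cfsg.IrrCharacter (Matrix.SpecialLinearGroup (Fin 2) F), ‖(ψ : Matrix.SpecialLinearGroup (Fin 2) F → ℂ) g‖ ^ 2 = 4 := by
        have e : ∀ ψ : Cfsg.IrrCharacter (Matrix.SpecialLinearGroup (Fin 2) F), (ψ : Matrix.SpecialLinearGroup (Fin 2) F → ℂ) g * (starRingEnd ℂ) ((ψ : Matrix.SpecialLinearGroup (Fin 2) F → ℂ) g) =
            ((‖(ψ : Matrix.SpecialLinearGroup (Fin 2) F → ℂ) g‖ ^ 2 : ℝ) : ℂ) := fun ψ => by rw [Complex.mul_conj']; push_cast; rfl
        simp only [e, ← Complex.ofReal_sum] at horth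
        exact_mod_cast horth
      let T := insert one' (insert St' (insert ⟨χ, hχ⟩ C₁))
      have hs : ∑ ψ ∈ T, ‖(ψ : Matrix.SpecialLinearGroup (Fin 2) F → ℂ) g‖ ^ 2 ≤ 4 :=
        hre ▸ Finset.sum_le_sum_of_subset_of_nonneg (Finset.subset_univ T) (fun i _ _ => by positivity)
      have hne : ∀ {a b : Cfsg.IrrCharacter (Matrix.SpecialLinearGroup (Fin 2) F)}, (a : Matrix.SpecialLinearGroup (Fin 2) F → ℂ) 1 ≠ (b : Matrix.SpecialLinearGroup (Fin 2) F → ℂ) 1 → a ≠ b := fun h e => h (e ▸ rfl)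
      have n1 : one' ∉ insert St' (insert (⟨χ, hχ⟩ : Cfsg.IrrCharacter (Matrix.SpecialLinearGroup (Fin 2) F)) C₁) := by
        simp only [Finset.mem_insert, not_or]
        refine ⟨hne ?_, hne ?_, fun hm => ?_⟩
        · rw [show (St'.val : Matrix.SpecialLinearGroup (Fin 2) F → ℂ) 1 = (Fintype.card F : ℂ) from St_one, hkq]
          show (1 : ℂ) ≠ _
          norm_num
        · show (1 : ℂ) ≠ χ 1
          rw [hd, show d = 2 by omega]
          norm_num
        · have := (hC1 _ hm).2 1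
          rw [show (one'.val : Matrix.SpecialLinearGroup (Fin 2) F → ℂ) = fun _ => 1 from rfl, inner_one_R, if_pos rfl] at this
          exact one_ne_zero this
      have n2 : St' ∉ insert (⟨χ, hχ⟩ : Cfsg.IrrCharacter (Matrix.SpecialLinearGroup (Fin 2) F)) C₁ := by
        simp only [Finset.mem_insert, not_or]
        refine ⟨hne ?_, fun hm => ?_⟩
        · rw [show (St'.val : Matrix.SpecialLinearGroup (Fin 2) F → ℂ) 1 = (Fintype.card F : ℂ) from St_one, hkq]
          show _ ≠ χ 1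
          rw [hd, show d = 2 by omega]
          norm_num
        · have := (hC1 _ hm).1
          rw [show (St'.val : Matrix.SpecialLinearGroup (Fin 2) F → ℂ) 1 = (Fintype.card F : ℂ) from St_one, hkq] at this
          norm_num at this
      have n3 : (⟨χ, hχ⟩ : Cfsg.IrrCharacter (Matrix.SpecialLinearGroup (Fin 2) F)) ∉ C₁ := fun hm => by
        have := (hC1 _ hm).1
        rw [show (((⟨χ, hχ⟩ : Cfsg.IrrCharacter (Matrix.SpecialLinearGroup (Fin 2) F)) : Matrix.SpecialLinearGroup (Fin 2) F → ℂ) 1) = (d : ℂ) from hd, show d = 2 by omega] at this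
        norm_num at this
      rw [Finset.sum_insert n1, Finset.sum_insert n2, Finset.sum_insert n3,
        Finset.sum_congr rfl (fun ψ hψ => by rw [hl ψ hψ]), Finset.sum_const, c1] at hs
      rw [show (one'.val : Matrix.SpecialLinearGroup (Fin 2) F → ℂ) g = 1 from rfl, show (St'.val : Matrix.SpecialLinearGroup (Fin 2) F → ℂ) g = -1 by
        show St g = -1
        rw [St_apply, R_noEigen 1 g hg, zero_sub]] at hs
      simp at hs
      have : ‖χ g‖ ^ 2 ≤ 0 := by linarith
      simpa using le_antisymm this (sq_nonneg _)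
    · omega

end Cfsg.Agent.S2322
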