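import Cfsg.Statements.S2323
-- import your own Cfsg.Agent.* helpers here

import Cfsg.Agent.GL2Rep.SLValues

set_option autoImplicit false
open Cfsg

namespace Cfsg.Agent.S2323

open Cfsg.Agent.GL2Rep Cfsg.Agent.GL2Rep.SL Matrix


/-- Over a finite field F with q ≥ 4 elements, let u be the upper unitriangular matrix of SL₂ with off-diagonal entry 1. An irreducible complex character of SL₂ takes at u the value 1 if its degree is q + 1 and the value −1 if its degree is q − 1. -/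
theorem result {F : Type*} [Field F] [Fintype F] (hq : 4 ≤ Fintype.card F) (χ : Matrix.SpecialLinearGroup (Fin 2) F → ℂ) (hχ : Cfsg.IsIrrCharacter (Matrix.SpecialLinearGroup (Fin 2) F) χ)
    (u : Matrix.SpecialLinearGroup (Fin 2) F) (hu : (u : Matrix (Fin 2) (Fin 2) F) = !![1, 1; 0, 1]) :
    (χ 1 = (Fintype.card F : ℂ) + 1 → χ u = 1) ∧ (χ 1 = (Fintype.card F : ℂ) - 1 → χ u = -1) := by
  classical
  haveI : Fintype (GL (Fin 2) F) := Fintype.ofFinite _
  obtain ⟨d, hd, h⟩ := nat_cases hχ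
  refine ⟨fun e => ?_, fun e => ?_⟩
  · have hd3 : d = Fintype.card F + 1 := Nat.cast_injective (R := ℂ) (by rw [← hd, e]; push_cast; ring)
    rcases h with ⟨h', -⟩ | ⟨h', -⟩ | ⟨-, α, -, rfl⟩ | ⟨-, h', -⟩ | ⟨h', -⟩ | ⟨-, h', -⟩ <;> try omega
    rw [R_unipotent α u (by simp [hu]) (by simp [hu]) (by simp [hu]), hu]
    simp
  · have hd3 : d + 1 = Fintype.card F := Nat.cast_injective (R := ℂ) (by push_cast; linear_combination e - hd)
    rcases h with ⟨h', -⟩ | ⟨h', -⟩ | ⟨h', -⟩ | ⟨-, h', -⟩ | ⟨-, hc⟩ | ⟨-, h', -⟩ <;> try omega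
    exact cusp_full_unipotent hχ hc e (by omega) u hu

end Cfsg.Agent.S2323
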