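import Cfsg.Statements.S2324
import Cfsg.Agent.GL2Rep.SLHalf

set_option autoImplicit false
open Cfsg

namespace Cfsg.Agent.S2324

open Cfsg.Agent.GL2Rep Cfsg.Agent.GL2Rep.SL Cfsg.Agent.Char

/-- Over a finite field F with q elements, q odd and q ≥ 5, let u be the upper unitriangular matrix of SL₂ with off-diagonal entry 1 and let δ = (−1)^((q−1)/2). Every irreducible complex character χ of SL₂ of degree (q + 1)/2 satisfies (2χ(u) − 1)² = δq, and every irreducible complex character χ of degree (q − 1)/2 satisfies (2χ(u) + 1)² = δq; that is, χ(u) = (1 ± √(δq))/2 in the first case and χ(u) = (−1 ± √(δq))/2 in the second. Moreover two different irreducible characters of degree (q + 1)/2 take the two different values (their values at u add up to 1), and likewise for degree (q − 1)/2 (values adding up to −1). -/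
theorem result {F : Type*} [Field F] [Fintype F] (hodd : Odd (Fintype.card F)) (hq : 5 ≤ Fintype.card F)
    (u : Matrix.SpecialLinearGroup (Fin 2) F) (hu : (u : Matrix (Fin 2) (Fin 2) F) = !![1, 1; 0, 1]) :
    (∀ χ : Matrix.SpecialLinearGroup (Fin 2) F → ℂ, Cfsg.IsIrrCharacter (Matrix.SpecialLinearGroup (Fin 2) F) χ → χ 1 = (((Fintype.card F + 1) / 2 : ℕ) : ℂ) → (2 * χ u - 1) ^ 2 = (-1 : ℂ) ^ ((Fintype.card F - 1) / 2) * (Fintype.card F : ℂ)) ∧
    (∀ χ : Matrix.SpecialLinearGroup (Fin 2) F → ℂ, Cfsg.IsIrrCharacter (Matrix.SpecialLinearGroup (Fin 2) F) χ → χ 1 = (((Fintype.card F - 1) / 2 : ℕ) : ℂ) → (2 * χ u + 1) ^ 2 = (-1 : ℂ) ^ ((Fintype.card F - 1) / 2) * (Fintype.card F : ℂ)) ∧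
    (∀ χ₁ χ₂ : Matrix.SpecialLinearGroup (Fin 2) F → ℂ, Cfsg.IsIrrCharacter (Matrix.SpecialLinearGroup (Fin 2) F) χ₁ → Cfsg.IsIrrCharacter (Matrix.SpecialLinearGroup (Fin 2) F) χ₂ → χ₁ ≠ χ₂ →
      χ₁ 1 = (((Fintype.card F + 1) / 2 : ℕ) : ℂ) → χ₂ 1 = (((Fintype.card F + 1) / 2 : ℕ) : ℂ) → χ₁ u + χ₂ u = 1) ∧
    (∀ χ₁ χ₂ : Matrix.SpecialLinearGroup (Fin 2) F → ℂ, Cfsg.IsIrrCharacter (Matrix.SpecialLinearGroup (Fin 2) F) χ₁ → Cfsg.IsIrrCharacter (Matrix.SpecialLinearGroup (Fin 2) F) χ₂ → χ₁ ≠ χ₂ →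
      χ₁ 1 = (((Fintype.card F - 1) / 2 : ℕ) : ℂ) → χ₂ 1 = (((Fintype.card F - 1) / 2 : ℕ) : ℂ) → χ₁ u + χ₂ u = -1) := by
  classical
  haveI : Fintype (Matrix.SpecialLinearGroup (Fin 2) F) := Fintype.ofFinite _
  haveI : Fintype (GL (Fin 2) F) := Fintype.ofFinite _
  have h2 := two_ne_zero_of_odd hodd
  obtain ⟨k, H, C₁, hk, hkq, cH, c1, hHm, hCm, hHi, hCc⟩ := half_rows (F := F) h2 hq
  obtain ⟨ν, hν'⟩ := SL2Class.exists_nonsquare (F := F) h2
  have hν : ¬ IsSquare (ν : F) := hν'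
  obtain rfl : u = bEl 1 1 := Subtype.ext (by rw [hu, coe_bEl]; simp)
  have hqq : (Fintype.card F : ℂ) = 2 * (k : ℂ) + 1 := by rw [hkq]; push_cast; ring
  have e1 : (Fintype.card F + 1) / 2 = k + 1 := by omega
  have e2 : (Fintype.card F - 1) / 2 = k := by omega
  rw [e1, e2]
  have sH : ∀ χ : IrrCharacter (Matrix.SpecialLinearGroup (Fin 2) F),
      (χ : Matrix.SpecialLinearGroup (Fin 2) F → ℂ) 1 = ((k + 1 : ℕ) : ℂ) → (χ : Matrix.SpecialLinearGroup (Fin 2) F → ℂ) (bEl 1 1) + (χ : Matrix.SpecialLinearGroup (Fin 2) F → ℂ) (bEl 1 (ν : F)) = 1 := fun χ h => by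
    obtain ⟨h1, h0⟩ := hHi χ ((hHm χ).2 h)
    exact (half_sums h2 hk hkq hν χ.2).1 h h1 h0
  have sC : ∀ χ : IrrCharacter (Matrix.SpecialLinearGroup (Fin 2) F),
      (χ : Matrix.SpecialLinearGroup (Fin 2) F → ℂ) 1 = ((k : ℕ) : ℂ) → (χ : Matrix.SpecialLinearGroup (Fin 2) F → ℂ) (bEl 1 1) + (χ : Matrix.SpecialLinearGroup (Fin 2) F → ℂ) (bEl 1 (ν : F)) = -1 := fun χ h =>
    (half_sums h2 hk hkq hν χ.2).2 h (hCc χ ((hCm χ).2 h))
  refine ⟨fun χ hχ h => ?_, fun χ hχ h => ?_, fun a b ha hb hab h h' => ?_, fun a b ha hb hab h h' => ?_⟩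
  · have s := sH ⟨χ, hχ⟩ h
    simp only at s
    have hd := diff_sq h2 (IsIrr.isCharacter hχ) hν (by rw [h, s, hqq]; push_cast; ring)
    rw [e2] at hd
    rw [← hd]; linear_combination ((χ (bEl 1 1) - χ (bEl 1 (ν : F))) + (2 * χ (bEl 1 1) - 1)) * s
  · have s := sC ⟨χ, hχ⟩ h
    simp only at s
    have hd := diff_sq h2 (IsIrr.isCharacter hχ) hν (by rw [h, s, hqq]; ring)
    rw [e2] at hd
    rw [← hd]; linear_combination ((χ (bEl 1 1) - χ (bEl 1 (ν : F))) + (2 * χ (bEl 1 1) + 1)) * s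
  · have s := sH ⟨a, ha⟩ h
    simp only at s
    have hd := half_unipotent h2 hk hkq hν ha (by rw [h, s, hqq]; push_cast; ring)
    have := pair_twist cH hHm (χ₁ := ⟨a, ha⟩) (χ₂ := ⟨b, hb⟩) ((hHm _).2 h) ((hHm _).2 h')
      (fun e => hab (congrArg Subtype.val e)) hd (bEl 1 1)
    simp only [dia_bEl, mul_one] at this
    rw [this]; exact s
  · have s := sC ⟨a, ha⟩ h
    simp only at s
    have hd := half_unipotent h2 hk hkq hν ha (by rw [h, s, hqq]; ring)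
    have := pair_twist c1 hCm (χ₁ := ⟨a, ha⟩) (χ₂ := ⟨b, hb⟩) ((hCm _).2 h) ((hCm _).2 h')
      (fun e => hab (congrArg Subtype.val e)) hd (bEl 1 1)
    simp only [dia_bEl, mul_one] at this
    rw [this]; exact s

end Cfsg.Agent.S2324
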