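import Cfsg.Statements.S2327
import Cfsg.Agent.Chev.All
import Cfsg.Agent.Chev.MinCoset

set_option autoImplicit false
open Cfsg

namespace Cfsg.Agent.S2327

/-- In a Chevalley group of type G₂, B₂, D₄, F₄, E₆, E₇ or E₈ over a finite field with q elements, the Steinberg character (the alternating sum of the permutation characters on the standard parabolic subgroups) has degree q^N, N the number of positive roots; this is the order of U and the largest power of the characteristic dividing the group order. -/
theorem result {F : Type*} [Field F] [Fintype F] (D : Cfsg.Lie.ChevalleyDatum) (hD : D ∈ [Cfsg.Lie.chevG2, Cfsg.Lie.chevB2, Cfsg.Lie.chevD4, Cfsg.Lie.chevF4, Cfsg.Lie.chevE6, Cfsg.Lie.chevE7, Cfsg.Lie.chevE8]) :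
    D.steinbergCharacter F 1 = (Fintype.card F : ℂ) ^ (D.nroots / 2) := by
  classical
  have hF := Chev.facts_of_mem hD
  have h1 : ∀ J : Finset ℕ, Cfsg.fixedPointCharacter (D.parabolicIn F J) (1 : ↥(D.group F)) =
      ((∑ u ∈ Chev.minSet hF (Chev.idxSet D ↑J), Fintype.card F ^ Chev.invCard u : ℕ) : ℂ) := by
    intro J
    rw [← Chev.index_parabolic hF (↑J : Set ℕ) (F := F)]
    unfold Cfsg.fixedPointCharacter Cfsg.Lie.ChevalleyDatum.parabolicIn
    congr 1
    rw [Subgroup.index_eq_card]
    exact Nat.card_congr (Equiv.subtypeUnivEquiv fun x => one_smul _ x)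
  have hmap : (Finset.range D.rank).powerset =
      (Finset.univ : Finset (Fin D.rank)).powerset.map
        ⟨Finset.map Fin.valEmbedding, Finset.map_injective Fin.valEmbedding⟩ := by
    ext J
    simp only [Finset.mem_powerset, Finset.mem_map, Function.Embedding.coeFn_mk]
    constructor
    · intro h
      refine ⟨Chev.idxSet D ↑J, Finset.subset_univ _, ?_⟩
      ext j
      simp only [Finset.mem_map, Chev.mem_idxSet, Finset.mem_coe, Fin.valEmbedding_apply]
      exact ⟨fun ⟨i, hi, e⟩ => e ▸ hi, fun hj => ⟨⟨j, Finset.mem_range.1 (h hj)⟩, hj, rfl⟩⟩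
    · rintro ⟨A, -, rfl⟩ j hj
      obtain ⟨i, -, rfl⟩ := Finset.mem_map.1 hj
      exact Finset.mem_range.2 i.2
  have hidx : ∀ A : Finset (Fin D.rank),
      Chev.idxSet D ↑(A.map Fin.valEmbedding) = A := by
    intro A
    ext i
    simp only [Chev.mem_idxSet, Finset.mem_coe]
    exact Finset.mem_map' Fin.valEmbedding
  simp only [Cfsg.Lie.ChevalleyDatum.steinbergCharacter, h1]
  rw [hmap, Finset.sum_map]
  simp only [Function.Embedding.coeFn_mk, hidx, Finset.card_map]
  exact Chev.alternating_sum hF (Fintype.card F)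

end Cfsg.Agent.S2327
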