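import Cfsg.Statements.S2328
import Cfsg.Agent.Chev.All
import Cfsg.Agent.Chev.DoubleCosets
import Cfsg.Agent.Char.Artin
import Cfsg.Agent.S2326

set_option autoImplicit false
open Cfsg

namespace Cfsg.Agent.S2328

/-- In a Chevalley group of type G₂, B₂, D₄, F₄, E₆, E₇ or E₈ over a finite field of characteristic p, the Steinberg character vanishes at every element whose order is divisible by p (every element that is not semisimple). -/
theorem result {F : Type*} [Field F] [Fintype F] (p : ℕ) [Fact p.Prime] [CharP F p] (D : Cfsg.Lie.ChevalleyDatum) (hD : D ∈ [Cfsg.Lie.chevG2, Cfsg.Lie.chevB2, Cfsg.Lie.chevD4, Cfsg.Lie.chevF4, Cfsg.Lie.chevE6, Cfsg.Lie.chevE7, Cfsg.Lie.chevE8]) (g : ↥(D.group F)) (hg : p ∣ orderOf g) :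
    D.steinbergCharacter F g = 0 := by
  have hF := Cfsg.Agent.Chev.facts_of_mem hD
  obtain ⟨P, hP⟩ := Cfsg.Agent.S2326.result p D hD (F := F)
  obtain ⟨n, hp, hq⟩ := FiniteField.card F p
  have hUG : D.posUnipotent F ≤ D.group F :=
    le_sup_left.trans (Cfsg.Agent.Chev.borel_le_group hF)
  have hc : Nat.card ↥(P : Subgroup ↥(D.group F)) =
      Fintype.card F ^ Cfsg.Agent.Chev.half D := by
    rw [hP, Nat.card_congr (Subgroup.subgroupOfEquivOfLe hUG).toEquiv,
      Cfsg.Agent.Chev.card_posUnipotent hF]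
  have := Fintype.ofFinite ↥(D.group F)
  refine Cfsg.Agent.Char.defect_zero (Cfsg.Agent.Chev.steinberg_irr hF)
    (n := (n : ℕ) * Cfsg.Agent.Chev.half D) (d := Fintype.card F ^ Cfsg.Agent.Chev.half D) hp
    ?_ ?_ ?_ ?_ g hg
  · rw [pow_mul, ← hq, ← hc]
    exact Subgroup.card_subgroup_dvd_card _
  · intro hd
    rw [pow_succ, pow_mul, ← hq, ← hc, ← Subgroup.card_mul_index (P : Subgroup ↥(D.group F))] at hd
    exact P.not_dvd_index (Nat.dvd_of_mul_dvd_mul_left Nat.card_pos hd)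
  · rw [Cfsg.Agent.Chev.steinberg_one hF, Nat.cast_pow]
  · rw [pow_mul, ← hq]

end Cfsg.Agent.S2328
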