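import Cfsg.Statements.S2330
-- import your own Cfsg.Agent.* helpers here

import Cfsg.Agent.GL2Rep.GLClasses

set_option autoImplicit false
open Cfsg

namespace Cfsg.Agent.S2330

open Cfsg.Agent.GL2Rep Matrix


/-- Over a finite field with q elements, the general linear group GL₂ has exactly q² − 1 conjugacy classes. -/
theorem result {F : Type*} [Field F] [Fintype F] :
    Nat.card (ConjClasses (Matrix.GeneralLinearGroup (Fin 2) F)) = Fintype.card F ^ 2 - 1 := by
  classical
  have h1 : 1 ≤ Fintype.card F := Fintype.card_pos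
  rw [GL.card_conjClasses, Nat.card_prod, Nat.card_units, Nat.card_eq_fintype_card]
  obtain ⟨m, hm⟩ : ∃ m, Fintype.card F = m + 1 := ⟨_, (Nat.succ_pred_eq_of_pos h1).symm⟩
  rw [hm, Nat.add_sub_cancel, show (m + 1) ^ 2 = (m + (m + 1) * m) + 1 by ring, Nat.add_sub_cancel]

end Cfsg.Agent.S2330
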