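import Cfsg.Statements.S2332
import Cfsg.Agent.SLDeg.Main
import Cfsg.Agent.SLDeg.Exist

set_option autoImplicit false
open Cfsg

namespace Cfsg.Agent.S2332

/-- Smallest degree of a non-linear irreducible complex representation of SL_n over a finite field with q elements, for n ≥ 3 and (n, q) not one of (3, 2), (3, 4), (4, 2), (4, 3): every irreducible complex representation of SL_n(F) of degree at least 2 has degree at least (q^n − q)/(q − 1), and there is an irreducible complex representation of exactly that degree. -/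
theorem result {F : Type*} [Field F] [Fintype F] [DecidableEq F] (n : ℕ) (hn : 3 ≤ n)
    (hex : (n, Fintype.card F) ≠ (3, 2) ∧ (n, Fintype.card F) ≠ (3, 4) ∧ (n, Fintype.card F) ≠ (4, 2) ∧ (n, Fintype.card F) ≠ (4, 3)) :
    (∀ (k : ℕ) (ρ : Representation ℂ (Matrix.SpecialLinearGroup (Fin n) F) (Fin k → ℂ)), ρ.IsIrreducible → 2 ≤ k → (Fintype.card F ^ n - Fintype.card F) / (Fintype.card F - 1) ≤ k) ∧
    (∃ ρ : Representation ℂ (Matrix.SpecialLinearGroup (Fin n) F) (Fin ((Fintype.card F ^ n - Fintype.card F) / (Fintype.card F - 1)) → ℂ), ρ.IsIrreducible) := by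
  obtain ⟨m, rfl⟩ : ∃ m, n = m + 3 := ⟨n - 3, by omega⟩
  have hq : 2 ≤ Fintype.card F := Fintype.one_lt_card
  refine ⟨fun k ρ hirr hk => ?_, ?_⟩
  · refine SLDeg.degree_ge (fun hm => ?_) (fun hm => ?_) k ρ hirr hk
    · subst hm
      simp only [ne_eq, Prod.mk.injEq, Nat.zero_add, true_and] at hex
      exact ⟨hex.1, hex.2.1⟩
    · subst hm
      simp [Prod.mk.injEq] at hex
      omega
  · obtain ⟨k, ρ, hirr, hρ⟩ := SLDeg.Perm.chi_isIrr (m := m) (1 : Fˣ →* ℂˣ)
    have h1 : (k : ℂ) = ((Fintype.card F - 1 : ℕ) : ℂ)⁻¹ * ((Fintype.card F ^ (m + 3) - 1 : ℕ) : ℂ) - 1 := by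
      have h2 := congrFun hρ 1
      rw [Representation.char_one, Module.finrank_fin_fun, SLDeg.Perm.chi_one, Fintype.card_units] at h2
      rw [h2, SLDeg.Perm.δ, if_pos rfl]
    have h3 : (k + 1) * (Fintype.card F - 1) = Fintype.card F ^ (m + 3) - 1 := by
      have h4 : ((Fintype.card F - 1 : ℕ) : ℂ) ≠ 0 := Nat.cast_ne_zero.2 (by omega)
      have h5 : (((k + 1) * (Fintype.card F - 1) : ℕ) : ℂ) = ((Fintype.card F ^ (m + 3) - 1 : ℕ) : ℂ) := by
        rw [Nat.cast_mul, Nat.cast_add, h1, Nat.cast_one, sub_add_cancel, mul_comm, ← mul_assoc, mul_inv_cancel₀ h4,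
          one_mul]
      exact_mod_cast h5
    have hpow : 1 ≤ Fintype.card F ^ (m + 3) := Nat.one_le_pow _ _ (by omega)
    have h6 := SLDeg.points_eq (Fintype.card F) (m + 3) (k + 1) hq (by omega) (by omega)
    rw [show (Fintype.card F ^ (m + 3) - Fintype.card F) / (Fintype.card F - 1) = k by omega]
    exact ⟨ρ, hirr⟩

end Cfsg.Agent.S2332
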