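import Cfsg.Statements.S2336
import Cfsg.Agent.SLDeg.Exist

set_option autoImplicit false
open Cfsg

namespace Cfsg.Agent.S2336

/-- Let F be a finite field with q elements and n ≥ 3. The permutation character of SL_n(F) on the non-zero vectors of F^n (the function sending a matrix to the number of non-zero vectors it fixes) is the sum of the principal character and q − 1 pairwise distinct irreducible complex characters. -/
theorem result {F : Type*} [Field F] [Fintype F] [DecidableEq F] (n : ℕ) (hn : 3 ≤ n) :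
    ∃ χ : Fin (Fintype.card F - 1) → (Matrix.SpecialLinearGroup (Fin n) F → ℂ),
      (∀ i, Cfsg.IsIrrCharacter (Matrix.SpecialLinearGroup (Fin n) F) (χ i)) ∧ Function.Injective χ ∧
      ∀ g : Matrix.SpecialLinearGroup (Fin n) F,
        (Nat.card {v : Fin n → F // v ≠ 0 ∧ (g : Matrix (Fin n) (Fin n) F).mulVec v = v} : ℂ) = 1 + ∑ i, χ i g := by
  classical
  obtain ⟨m, rfl⟩ : ∃ m, n = m + 3 := ⟨n - 3, by omega⟩
  let _ := Fintype.ofFinite (Fˣ →* ℂˣ)
  have hcard : Fintype.card (Fˣ →* ℂˣ) = Fintype.card F - 1 := by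
    rw [← Fintype.card_units, ← Nat.card_eq_fintype_card, CommGroup.card_monoidHom_of_hasEnoughRootsOfUnity Fˣ ℂ,
      Nat.card_eq_fintype_card]
  let en : Fin (Fintype.card F - 1) ≃ (Fˣ →* ℂˣ) := (finCongr hcard.symm).trans (Fintype.equivFin _).symm
  refine ⟨fun i => SLDeg.Perm.chi (en i), fun i => SLDeg.Perm.chi_isIrr _,
    fun i j h => en.injective (SLDeg.Perm.chi_injective h), fun g => ?_⟩
  rw [Fintype.sum_equiv en (fun i => SLDeg.Perm.chi (en i) g) (fun θ => SLDeg.Perm.chi θ g) fun i => rfl,
    SLDeg.Perm.sum_chi, SLDeg.Perm.Nc, Nat.card_eq_fintype_card, Fintype.card_subtype]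
  congr 2
  refine Finset.filter_congr fun v _ => and_congr_right fun _ => ?_
  rw [Units.val_one, one_smul]
  rfl

end Cfsg.Agent.S2336
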