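import Cfsg.Statements.S2337
import Cfsg.Agent.SzDeg.Bound

set_option autoImplicit false
open Cfsg

namespace Cfsg.Agent.S2337

theorem result {F : Type*} [Field F] [Fintype F] (m : ℕ) (hm : 1 ≤ m) (hF : Fintype.card F = 2 ^ (2 * m + 1)) :
    (∀ (k : ℕ) (ρ : Representation ℂ (Cfsg.Lie.Sz F (2 ^ (m + 1))) (Fin k → ℂ)), ρ.IsIrreducible → 2 ≤ k → 2 ^ m * (2 ^ (2 * m + 1) - 1) ≤ k) := by
  intro k ρ hirr hk
  haveI : CharP F 2 := charP_of_card_eq_prime_pow hF
  by_cases h : ∃ b, ρ (SzDeg.U hF 0 b) ≠ 1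
  · have := SzDeg.degree_ge hF ρ h
    rwa [Module.finrank_fintype_fun_eq_card, Fintype.card_fin] at this
  push Not at h
  exfalso
  have htriv := SzDeg.hom_trivial hm hF ρ h
  let e0 : Fin k → ℂ := Pi.single (⟨0, by omega⟩ : Fin k) 1
  let S : Subrepresentation ρ := ⟨Submodule.span ℂ {e0}, fun g v hv => by rw [htriv g]; exact hv⟩
  have h0 : e0 ≠ 0 := fun e => by
    have := congrFun e ⟨0, by omega⟩
    simp [e0] at this
  rcases IsSimpleOrder.eq_bot_or_eq_top S with h1 | h1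
  · have h2 : S.toSubmodule = ⊥ := by rw [h1]; rfl
    exact h0 (Submodule.span_singleton_eq_bot.1 h2)
  · have h2 : S.toSubmodule = ⊤ := by rw [h1]; rfl
    have h3 := finrank_span_singleton (K := ℂ) h0
    change Module.finrank ℂ S.toSubmodule = 1 at h3
    rw [h2, finrank_top, Module.finrank_fintype_fun_eq_card, Fintype.card_fin] at h3
    omega

end Cfsg.Agent.S2337
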