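import Cfsg.Agent.G2Deg.Three
import Cfsg.Agent.G2Deg.One

set_option autoImplicit false
open Cfsg

namespace Cfsg.Agent.S2338

/-- Lower bounds for the degrees of non-linear irreducible complex representations of the Chevalley group of type G₂ over a finite field with q elements: the degree is at least q³ + 1 when q ≡ 1 (mod 3) and q > 4, at least q³ − 1 when q ≡ 2 (mod 3) and q > 2, and at least q⁴ + q² + 1 when q ≡ 0 (mod 3) and q > 3. -/
theorem result {F : Type*} [Field F] [Fintype F] (k : ℕ) (ρ : Representation ℂ (Cfsg.Lie.chevG2.group F) (Fin k → ℂ)) (hρ : ρ.IsIrreducible) (hk : 2 ≤ k) :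
    (Fintype.card F % 3 = 1 → 4 < Fintype.card F → Fintype.card F ^ 3 + 1 ≤ k) ∧
    (Fintype.card F % 3 = 2 → 2 < Fintype.card F → Fintype.card F ^ 3 - 1 ≤ k) ∧
    (Fintype.card F % 3 = 0 → 3 < Fintype.card F → Fintype.card F ^ 4 + Fintype.card F ^ 2 + 1 ≤ k) := by
  classical
  have main : Fintype.card F % 3 ≠ 0 → 5 ≤ Fintype.card F →
      Fintype.card F ^ 3 + 1 ≤ k ∨
        ((∀ B : Fin 4 → F, B ≠ 0 → ¬ G2Deg.IsCube B → G2Deg.mult ρ B = 0) ∧
          0 < G2Deg.mult ρ ![1, 0, 0, 0] ∧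
          G2Deg.mult ρ 0 + G2Deg.mult ρ ![1, 0, 0, 0] * (Fintype.card F ^ 3 - 1) ≤ k) := by
    intro h3 h5
    have hthree : (3 : F) ≠ 0 := fun h => h3 (by
      obtain ⟨p, hp⟩ := CharP.exists F
      obtain ⟨f, hpp, hqf⟩ := FiniteField.card F p
      have hd : p ∣ 3 := (CharP.cast_eq_zero_iff F p 3).1 (by exact_mod_cast h)
      obtain rfl := (Nat.prime_dvd_prime_iff_eq hpp Nat.prime_three).1 hd
      rw [hqf]
      exact Nat.mod_eq_zero_of_dvd (dvd_pow_self 3 f.ne_zero))
    exact (G2Deg.wt ρ).away h3 h5 hthree (G2Deg.degree_eq ρ) (G2Deg.nn_pos ρ hρ hk (by omega))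
  refine ⟨fun h1 h4 => ?_, fun h2 h4 => ?_, fun h0 h4 => G2Deg.three_bound h0 h4 ρ hρ hk⟩
  · rcases main (by omega) (by omega) with h | ⟨hsup, hd, hle⟩
    · exact h
    · by_contra hlt
      have hq3 : 7 ^ 3 ≤ Fintype.card F ^ 3 := Nat.pow_le_pow_left (by omega) 3
      have hone : G2Deg.mult ρ ![1, 0, 0, 0] = 1 := by
        by_contra hne
        have := Nat.mul_le_mul_right (Fintype.card F ^ 3 - 1)
          (show 2 ≤ G2Deg.mult ρ ![1, 0, 0, 0] by omega)
        omega
      rw [hone, one_mul] at hle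
      exact G2Deg.one_case ρ hsup hone (by omega) h1 (by omega)
  · rcases main (by omega) (by omega) with h | ⟨-, hd, hle⟩
    · omega
    · have := Nat.mul_le_mul_right (Fintype.card F ^ 3 - 1) hd
      omega

end Cfsg.Agent.S2338
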