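import Cfsg.Statements.S2344
import Cfsg.Agent.OrthOdd.Main
import Cfsg.Agent.Classical.OrthPOmega

set_option autoImplicit false
open Cfsg

namespace Cfsg.Agent.S2344

/-- For a finite field F of odd order q > 3 and n ≥ 3, every irreducible complex representation of degree at least 2 of Ω_{2n+1}(F) (the commutator subgroup of the isometry group of the quadratic form x₀² + x₁y₁ + ⋯ + x_ny_n) has degree at least (q^{2n} − 1)/(q² − 1). -/
theorem result {F : Type*} [Field F] [Fintype F] (n : ℕ) (hn : 3 ≤ n) (hodd : Odd (Fintype.card F)) (h3 : 3 < Fintype.card F) :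
    (∀ (k : ℕ) (ρ : Representation ℂ (Cfsg.Omega F (Cfsg.quadFormOdd n F)) (Fin k → ℂ)), ρ.IsIrreducible → 2 ≤ k → (Fintype.card F ^ (2 * n) - 1) / (Fintype.card F ^ 2 - 1) ≤ k) := by
  obtain ⟨m, rfl⟩ : ∃ m, n = m + 3 := ⟨n - 3, by omega⟩
  have h2 : (2 : F) ≠ 0 := Ring.two_ne_zero (fun h => by
    have := FiniteField.even_card_of_char_two (F := F) h
    obtain ⟨j, hj⟩ := hodd
    omega)
  let Q : QuadraticForm F (Unit ⊕ (Fin (m + 3) ⊕ Fin (m + 3)) → F) :=
    (Classical.Quad.hyp (Classical.Quad.sqForm F) (m + 3)).comp (Classical.Quad.oddCoord (m + 3)).toLinearMap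
  have hQ : Cfsg.quadFormOdd (m + 3) F = ⇑Q :=
    funext fun x => (Classical.Quad.oddCoord_map (m + 3) x).symm
  rw [hQ]
  intro k ρ hirr hk
  have hnd : (QuadraticMap.polarBilin Q).Nondegenerate :=
    Classical.Quad.Iso.nondeg (Classical.Quad.Iso.symm ⟨Classical.Quad.oddCoord (m + 3), fun x => rfl⟩)
      (OrthOdd.nondeg_odd h2)
  have hdim : Module.finrank F (Unit ⊕ (Fin (m + 3) ⊕ Fin (m + 3)) → F) = 2 * m + 7 := by
    rw [Module.finrank_fintype_fun_eq_card]; simp; omega
  let c := Classical.Quad.oCongr (Q₁ := Q) (Q₂ := Classical.Quad.hyp (Classical.Quad.sqForm F) (m + 3))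
    (Classical.Quad.oddCoord (m + 3)) fun x => rfl
  let e : Cfsg.Omega F ⇑Q ≃* OrthOdd.OmB (m + 3) F :=
    ((Classical.Quad.omegaEquiv hnd (by omega)).trans (MulEquiv.subgroupCongr
      (Classical.Quad.eo_eq_commutator hnd (by omega) (Or.inr (by omega))))).trans
      ((c.subgroupMap _).trans (MulEquiv.subgroupCongr (by
        rw [commutator_def, Subgroup.map_commutator, Subgroup.map_top_of_surjective _ c.surjective,
          ← commutator_def])))
  refine OrthOdd.min_degree h2 (by rcases hodd with ⟨j, hj⟩; omega) k (ρ.comp e.symm.toMonoidHom) ?_ hk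
  rw [Char.isIrreducible_iff] at hirr ⊢
  refine ⟨hirr.1, fun U hU => hirr.2 U fun g v hv => ?_⟩
  have h := hU (e g) v hv
  rwa [MonoidHom.comp_apply, MulEquiv.coe_toMonoidHom, MulEquiv.symm_apply_apply] at h

end Cfsg.Agent.S2344
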