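import Cfsg.Statements.S2345
import Cfsg.Agent.OrthDeg.Plus
import Cfsg.Agent.Classical.OrthPOmega

set_option autoImplicit false
open Cfsg

namespace Cfsg.Agent.S2345

/-- For a finite field F with q > 3 elements and n ≥ 4, every irreducible complex representation of degree at least 2 of Ω⁺_{2n}(F) (the commutator subgroup of the isometry group of the hyperbolic quadratic form x₁y₁ + ⋯ + x_ny_n) has degree at least (q^n − 1)(q^{n−1} + q)/(q² − 1). -/
theorem result {F : Type*} [Field F] [Fintype F] (n : ℕ) (hn : 4 ≤ n) (h3 : 3 < Fintype.card F) :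
    (∀ (k : ℕ) (ρ : Representation ℂ (Cfsg.Omega F (Cfsg.quadFormPlus n F)) (Fin k → ℂ)), ρ.IsIrreducible → 2 ≤ k → (Fintype.card F ^ n - 1) * (Fintype.card F ^ (n - 1) + Fintype.card F) / (Fintype.card F ^ 2 - 1) ≤ k) := by
  obtain ⟨m, rfl⟩ : ∃ m, n = m + 4 := ⟨n - 4, by omega⟩
  rw [← Classical.Quad.coe_plusQ, show m + 4 - 1 = m + 3 by omega]
  intro k ρ hirr hk
  have hn5 : 5 ≤ Module.finrank F (Fin (m + 4) ⊕ Fin (m + 4) → F) := by rw [Classical.Quad.finrank_plus]; omega
  let e : Cfsg.Omega F ⇑(Classical.Quad.plusQ F (m + 4)) ≃* OrthDeg.Om m F :=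
    (Classical.Quad.omegaEquiv Classical.Quad.nondeg_plusQ hn5).trans (MulEquiv.subgroupCongr
      (Classical.Quad.eo_eq_commutator Classical.Quad.nondeg_plusQ (by omega) OrthDeg.hexP))
  refine OrthDeg.min_degree h3 k (ρ.comp e.symm.toMonoidHom) ?_ hk
  rw [Char.isIrreducible_iff] at hirr ⊢
  refine ⟨hirr.1, fun U hU => hirr.2 U fun g v hv => ?_⟩
  have h := hU (e g) v hv
  rwa [MonoidHom.comp_apply, MulEquiv.coe_toMonoidHom, MulEquiv.symm_apply_apply] at h

end Cfsg.Agent.S2345
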