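import Cfsg.Statements.S2346
import Cfsg.Agent.OrthMinus.Main
import Cfsg.Agent.Classical.OrthPOmega

set_option autoImplicit false
open Cfsg

namespace Cfsg.Agent.S2346

/-- For a finite field F with q elements, n ≥ 4, and a, b ∈ F with z₁² + a z₁z₂ + b z₂² anisotropic, every irreducible complex representation of degree at least 2 of Ω⁻_{2n}(F) (the commutator subgroup of the isometry group of x₁y₁ + ⋯ + x_{n−1}y_{n−1} + z₁² + a z₁z₂ + b z₂²) has degree at least (q^n + 1)(q^{n−1} − q)/(q² − 1). -/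
theorem result {F : Type*} [Field F] [Fintype F] (n : ℕ) (hn : 4 ≤ n) (a b : F) (hab : ∀ z₁ z₂ : F, z₁ ^ 2 + a * z₁ * z₂ + b * z₂ ^ 2 = 0 → z₁ = 0 ∧ z₂ = 0) :
    (∀ (k : ℕ) (ρ : Representation ℂ (Cfsg.Omega F (Cfsg.quadFormMinus (n - 1) F a b)) (Fin k → ℂ)), ρ.IsIrreducible → 2 ≤ k → (Fintype.card F ^ n + 1) * (Fintype.card F ^ (n - 1) - Fintype.card F) / (Fintype.card F ^ 2 - 1) ≤ k) := by
  obtain ⟨m, rfl⟩ : ∃ m, n = m + 4 := ⟨n - 4, by omega⟩
  rw [show m + 4 - 1 = m + 3 by omega]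
  let Q : QuadraticForm F ((Fin (m + 3) ⊕ Fin (m + 3)) ⊕ Fin 2 → F) :=
    (Classical.Quad.hyp (Classical.Quad.binForm a b) (m + 3)).comp (Classical.Quad.minusCoord (m + 3)).toLinearMap
  have hQ : Cfsg.quadFormMinus (m + 3) F a b = ⇑Q :=
    funext fun x => (Classical.Quad.minusCoord_map a b (m + 3) x).symm
  rw [hQ]
  intro k ρ hirr hk
  have hnd : (QuadraticMap.polarBilin Q).Nondegenerate :=
    Classical.Quad.Iso.nondeg (Classical.Quad.Iso.symm ⟨Classical.Quad.minusCoord (m + 3), fun x => rfl⟩)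
      (OrthMinus.nondeg_minus hab)
  have hdim : Module.finrank F ((Fin (m + 3) ⊕ Fin (m + 3)) ⊕ Fin 2 → F) = 2 * m + 8 := by
    rw [Module.finrank_fintype_fun_eq_card]; simp; omega
  let c := Classical.Quad.oCongr (Q₁ := Q) (Q₂ := Classical.Quad.hyp (Classical.Quad.binForm a b) (m + 3))
    (Classical.Quad.minusCoord (m + 3)) fun x => rfl
  let e : Cfsg.Omega F ⇑Q ≃* OrthMinus.OmM (m + 3) a b :=
    ((Classical.Quad.omegaEquiv hnd (by omega)).trans (MulEquiv.subgroupCongr
      (Classical.Quad.eo_eq_commutator hnd (by omega) (Or.inr (by omega))))).trans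
      ((c.subgroupMap _).trans (MulEquiv.subgroupCongr (by
        rw [commutator_def, Subgroup.map_commutator, Subgroup.map_top_of_surjective _ c.surjective,
          ← commutator_def])))
  refine OrthMinus.min_degree hab k (ρ.comp e.symm.toMonoidHom) ?_ hk
  rw [Char.isIrreducible_iff] at hirr ⊢
  refine ⟨hirr.1, fun U hU => hirr.2 U fun g v hv => ?_⟩
  have h := hU (e g) v hv
  rwa [MonoidHom.comp_apply, MulEquiv.coe_toMonoidHom, MulEquiv.symm_apply_apply] at h

end Cfsg.Agent.S2346
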