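import Cfsg.Statements.S2347
import Cfsg.Agent.Weil.Rep
import Cfsg.Agent.Weil.Lower
import Cfsg.Agent.Char.Iso

set_option autoImplicit false
open Cfsg

namespace Cfsg.Agent.S2347

theorem irr_bound {F : Type*} [Field F] [Fintype F] [DecidableEq F] {n : ℕ} (hn : 2 ≤ n)
    (hodd : Odd (Fintype.card F)) {V : Type*} [AddCommGroup V] [Module ℂ V] [FiniteDimensional ℂ V]
    (ρ : Representation ℂ (Matrix.symplecticGroup (Fin n) F) V) (hirr : ρ.IsIrreducible)
    (hk : 2 ≤ Module.finrank ℂ V) : (Fintype.card F ^ n - 1) / 2 ≤ Module.finrank ℂ V := by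
  refine Weil.lower_bound hn hodd ρ ?_
  by_contra hc
  push Not at hc
  obtain ⟨-, hU⟩ := Char.isIrreducible_iff.1 hirr
  obtain ⟨v, hv⟩ : ∃ v : V, v ≠ 0 := by
    have : Nontrivial V := Module.nontrivial_of_finrank_pos (R := ℂ) (by omega)
    exact exists_ne 0
  rcases hU (Submodule.span ℂ {v}) (fun g w hw => by rw [hc g]; simpa using hw) with h | h
  · exact hv (Submodule.span_singleton_eq_bot.1 h)
  · have := finrank_span_singleton (K := ℂ) hv
    rw [h, finrank_top] at this
    omega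

theorem bound_or_fixed {F : Type*} [Field F] [Fintype F] [DecidableEq F] {n : ℕ} (hn : 2 ≤ n)
    (hodd : Odd (Fintype.card F)) {V : Type*} [AddCommGroup V] [Module ℂ V] [FiniteDimensional ℂ V]
    (ρ : Representation ℂ (Matrix.symplecticGroup (Fin n) F) V) (hV : Nontrivial V) :
    (Fintype.card F ^ n - 1) / 2 ≤ Module.finrank ℂ V ∨ ∃ x : V, x ≠ 0 ∧ ∀ g, ρ g x = x := by
  have hperf := Cfsg.Agent.Classical.commutator_symplectic (F := F) (m := n) (by
    have h1 := Fintype.one_lt_card (α := F)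
    obtain ⟨k, hk⟩ := hodd
    omega)
  obtain ⟨S, hS⟩ := Char.exists_irreducible_sub ρ
  have hSnt : Nontrivial S.toSubmodule := (Char.isIrreducible_iff.1 hS).1
  by_cases hd : 2 ≤ Module.finrank ℂ S.toSubmodule
  · exact Or.inl ((irr_bound hn hodd S.toRepresentation hS hd).trans S.toSubmodule.finrank_le)
  right
  have hd1 : Module.finrank ℂ S.toSubmodule = 1 := by
    have := Module.finrank_pos (R := ℂ) (M := S.toSubmodule)
    omega
  obtain ⟨x, hx⟩ := exists_ne (0 : S.toSubmodule)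
  have hsc : ∀ g, ∃ c : ℂ, S.toRepresentation g x = c • x := fun g => by
    obtain ⟨c, hc⟩ := exists_smul_eq_of_finrank_eq_one hd1 hx (S.toRepresentation g x)
    exact ⟨c, hc.symm⟩
  choose c hc using hsc
  have hmulc : ∀ g h, c (g * h) = c g * c h := fun g h => by
    refine smul_left_injective ℂ hx ?_
    show c (g * h) • x = (c g * c h) • x
    rw [← hc, map_mul, Module.End.mul_apply, hc, map_smul, hc, smul_smul, mul_comm]
  let χ : Matrix.symplecticGroup (Fin n) F →* ℂ :=
    { toFun := c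
      map_one' := smul_left_injective ℂ hx (show c 1 • x = (1 : ℂ) • x by rw [← hc, map_one, one_smul]; rfl)
      map_mul' := hmulc }
  refine ⟨x.1, fun h => hx (Subtype.ext h), fun g => ?_⟩
  have h1 : χ.toHomUnits g = 1 := by
    have hle : (⊤ : Subgroup (Matrix.symplecticGroup (Fin n) F)) ≤ χ.toHomUnits.ker :=
      hperf ▸ Abelianization.commutator_subset_ker χ.toHomUnits
    exact MonoidHom.mem_ker.1 (hle (Subgroup.mem_top g))
  have h2 : c g = 1 := congrArg Units.val h1
  have := hc g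
  rw [h2, one_smul] at this
  exact congrArg Subtype.val this


/-- Smallest degree of a non-linear irreducible complex representation of the symplectic group Sp_{2n} over a finite field of odd order q, n ≥ 2: every irreducible complex representation of degree at least 2 has degree at least (q^n − 1)/2, and there is an irreducible complex representation of exactly that degree (a Weil representation). -/
theorem result {F : Type*} [Field F] [Fintype F] [DecidableEq F] (n : ℕ) (hn : 2 ≤ n) (hodd : Odd (Fintype.card F)) :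
    (∀ (k : ℕ) (ρ : Representation ℂ (Matrix.symplecticGroup (Fin n) F) (Fin k → ℂ)), ρ.IsIrreducible → 2 ≤ k → (Fintype.card F ^ n - 1) / 2 ≤ k) ∧
    (∃ ρ : Representation ℂ (Matrix.symplecticGroup (Fin n) F) (Fin ((Fintype.card F ^ n - 1) / 2) → ℂ), ρ.IsIrreducible) := by
  classical
  have h2 : (2 : F) ≠ 0 := by
    refine Ring.two_ne_zero fun h => ?_
    have := FiniteField.even_card_iff_char_two.1 h
    obtain ⟨k, hk⟩ := hodd
    omega
  have hq : 3 ≤ Fintype.card F := by
    have := Fintype.one_lt_card (α := F)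
    obtain ⟨k, hk⟩ := hodd
    omega
  refine ⟨fun k ρ hρ hk => ?_, ?_⟩
  · simpa using irr_bound hn hodd ρ hρ (by simpa using hk)
  obtain ⟨ψ, hψ1⟩ : ∃ ψ : AddChar F ℂ, ψ 1 ≠ 1 := AddChar.exists_apply_ne_zero.2 one_ne_zero
  have hψ : ψ ≠ 1 := fun h => hψ1 (by simp [h])
  let ρ := Weil.weilRep (n := n) hψ h2
  have hm := (Weil.finrank_odd (F := F) (n := n) h2).1
  have hm2 : 2 ≤ (Fintype.card F ^ n - 1) / 2 := by
    have : 3 ^ 2 ≤ Fintype.card F ^ n :=
      (Nat.pow_le_pow_left hq 2).trans (Nat.pow_le_pow_right (by omega) hn)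
    omega
  suffices hirr : ρ.IsIrreducible by
    let e : Weil.sect F n (-1) ≃ₗ[ℂ] (Fin ((Fintype.card F ^ n - 1) / 2) → ℂ) :=
      LinearEquiv.ofFinrankEq _ _ (by rw [hm, Module.finrank_fin_fun])
    exact ⟨Char.transport e ρ, Char.isIrreducible_transport e hirr⟩
  have hnt : Nontrivial (Weil.sect F n (-1)) := Module.nontrivial_of_finrank_pos (R := ℂ) (by omega)
  refine Char.isIrreducible_iff.2 ⟨hnt, fun U hU => ?_⟩
  by_cases hU0 : U = ⊥
  · exact Or.inl hU0
  right
  let σ : Subrepresentation ρ := ⟨U, fun g v hv => hU g v hv⟩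
  have hle2 : Module.finrank ℂ U ≤ Module.finrank ℂ (Weil.sect F n (-1)) := U.finrank_le
  rcases bound_or_fixed (V := U) hn hodd σ.toRepresentation (Submodule.nontrivial_iff_ne_bot.2 hU0) with h3 | ⟨x, hx, hfix⟩
  · exact Submodule.eq_top_of_finrank_eq (by omega)
  exfalso
  let f : Weil.sect F n (-1) := x.1
  have hf : ∀ g, ρ g f = f := fun g => congrArg Subtype.val (hfix g)
  have hf0 : f ≠ 0 := fun h => hx (Subtype.ext h)
  set φ : (Fin n → F) → ℂ := (f : (Fin n → F) → ℂ) with hφ
  have hodd' : ∀ y, φ (-y) = -φ y := fun y => by simpa using f.2 y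
  obtain ⟨y0, hy0⟩ : ∃ y, φ y ≠ 0 := by
    by_contra h
    push Not at h
    exact hf0 (Subtype.ext (funext h))
  have hy00 : y0 ≠ 0 := fun h => hy0 (by
    have e := hodd' 0
    rw [neg_zero] at e
    rw [h]
    linear_combination (1 / 2 : ℂ) * e)
  have hlevi : ∀ (A B : Matrix (Fin n) (Fin n) F), A * B = 1 → ∃ s : ℂ, ∀ y, φ (B.mulVec y) = s * φ y := by
    intro A B h
    obtain ⟨s, hs⟩ := Weil.weilRep_eigen hψ h2 (Weil.isInt_levi A B h) (hf _)
    exact ⟨s, fun y => by simpa [Matrix.mulVec, dotProduct] using congrFun hs y⟩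
  have hall : ∀ y, y ≠ 0 → φ y ≠ 0 := by
    intro y hy hzero
    obtain ⟨A, hA, hAy⟩ := Weil.exists_map y y0 hy hy00
    obtain ⟨V, rfl⟩ := hA
    obtain ⟨s, hs⟩ := hlevi _ _ V.inv_mul
    apply hy0
    rw [← hAy, hs, hzero, mul_zero]
  obtain ⟨a, ha⟩ := AddChar.ne_one_iff.1 hψ
  let i0 : Fin n := ⟨0, by omega⟩
  let i1 : Fin n := ⟨1, by omega⟩
  have hXs : (Matrix.diagonal (Pi.single i0 (-(2 * a)))).IsSymm := Matrix.isSymm_diagonal _
  obtain ⟨s, hs⟩ := Weil.weilRep_eigen hψ h2 (Weil.isInt_lowU (ψ := ψ) h2 _ hXs) (hf _)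
  have hval : ∀ y, y ≠ 0 → ψ (-((y ⬝ᵥ (Matrix.diagonal (Pi.single i0 (-(2 * a)))).mulVec y) * (2 : F)⁻¹)) = s := by
    intro y hy
    have := congrFun hs y
    rw [Matrix.mulVec_diagonal, Pi.smul_apply, smul_eq_mul] at this
    exact mul_right_cancel₀ (hall y hy) this
  have hne : i1 ≠ i0 := by simp [i0, i1]
  have e1 := hval (Pi.single i1 1) (by simp)
  have e0 := hval (Pi.single i0 1) (by simp)
  simp [Matrix.mulVec_diagonal, hne] at e1
  rw [← e1] at e0
  apply ha
  simp [Matrix.mulVec_diagonal] at e0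
  rwa [show (2 : F) * a * 2⁻¹ = a by field_simp] at e0

end Cfsg.Agent.S2347
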