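import Cfsg.Statements.S2354
import Cfsg.Agent.WordLaws.PingPong

set_option autoImplicit false
open Cfsg

namespace Cfsg.Agent.S2354

open Polynomial Matrix

/-- The matrix of the central unipotent element with parameter `b`. -/
def zMat {R : Type*} [CommRing R] (e : ℕ) (b : R) : Matrix (Fin 4) (Fin 4) R :=
  !![1, 0, 0, 0; 0, 1, 0, 0; b, 0, 1, 0; b ^ e, b, 0, 1]

/-- The antidiagonal permutation matrix. -/
def revMat (R : Type*) [CommRing R] : Matrix (Fin 4) (Fin 4) R :=
  !![0, 0, 0, 1; 0, 0, 1, 0; 0, 1, 0, 0; 1, 0, 0, 0]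

theorem revMat_mul_self (R : Type*) [CommRing R] : revMat R * revMat R = 1 := by
  ext i j
  fin_cases i <;> fin_cases j <;> simp [revMat, Matrix.mul_apply, Fin.sum_univ_four]

theorem two_pow_pow {R : Type*} [CommRing R] [CharP R 2] (m : ℕ) (x y : R) :
    (x + y) ^ (2 ^ (m + 1)) = x ^ (2 ^ (m + 1)) + y ^ (2 ^ (m + 1)) := add_pow_char_pow x y 2 (m + 1)

theorem zMat_add {R : Type*} [CommRing R] [CharP R 2] (m : ℕ) (x y : R) :
    zMat (2 ^ (m + 1)) (x + y) = zMat (2 ^ (m + 1)) x * zMat (2 ^ (m + 1)) y := by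
  ext i j
  fin_cases i <;> fin_cases j <;>
    simp [zMat, Matrix.mul_apply, Fin.sum_univ_four, two_pow_pow, add_comm]

theorem zMat_zero {R : Type*} [CommRing R] (m : ℕ) : zMat (2 ^ (m + 1)) (0 : R) = 1 := by
  ext i j
  fin_cases i <;> fin_cases j <;> simp [zMat, zero_pow]

/-- The central unipotent elements as units. -/
def zGL {R : Type*} [CommRing R] [CharP R 2] (m : ℕ) (b : R) : GL (Fin 4) R where
  val := zMat (2 ^ (m + 1)) b
  inv := zMat (2 ^ (m + 1)) (-b)
  val_inv := by rw [← zMat_add, add_neg_cancel, zMat_zero]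
  inv_val := by rw [← zMat_add, neg_add_cancel, zMat_zero]

/-- The Weyl element as a unit. -/
def revGL (R : Type*) [CommRing R] : GL (Fin 4) R where
  val := revMat R
  inv := revMat R
  val_inv := revMat_mul_self R
  inv_val := revMat_mul_self R

theorem zGL_add {R : Type*} [CommRing R] [CharP R 2] (m : ℕ) (x y : R) :
    zGL m (x + y) = zGL m x * zGL m y := Units.ext (zMat_add m x y)

theorem revGL_mem_Sz {F : Type*} [Field F] [CharP F 2] (m : ℕ) :
    revGL F ∈ Cfsg.Lie.Sz F (2 ^ (m + 1)) := by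
  refine Subgroup.subset_closure ⟨?_, ?_⟩
  · intro u v
    simp [revGL, revMat, Cfsg.Lie.altForm4, Matrix.mulVec, dotProduct, Fin.sum_univ_four]
    ring
  · ext i j
    fin_cases i <;> fin_cases j <;>
      simp [revGL, revMat, Cfsg.Lie.star4, Cfsg.Lie.pairOf, zero_pow, CharTwo.neg_eq]

theorem zGL_mem_Sz {F : Type*} [Field F] [Fintype F] [CharP F 2] {m : ℕ}
    (hF : Fintype.card F = 2 ^ (2 * m + 1)) (b : F) : zGL m b ∈ Cfsg.Lie.Sz F (2 ^ (m + 1)) := by
  have hsq : (b ^ 2 ^ (m + 1)) ^ 2 ^ (m + 1) = b ^ 2 := by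
    rw [← pow_mul, ← pow_add, show m + 1 + (m + 1) = (2 * m + 1) + 1 by ring, pow_succ, pow_mul, ← hF,
      FiniteField.pow_card]
  refine Subgroup.subset_closure ⟨?_, ?_⟩
  · intro u v
    simp [zGL, zMat, Cfsg.Lie.altForm4, Matrix.mulVec, dotProduct, Fin.sum_univ_four]
    have h2 : (2 : F) = 0 := CharTwo.two_eq_zero
    linear_combination (b * u 0 * v 1 + b * u 1 * v 0 + b ^ 2 ^ (m + 1) * u 0 * v 0) * h2
  · ext i j
    fin_cases i <;> fin_cases j <;>
      simp [zGL, zMat, Cfsg.Lie.star4, Cfsg.Lie.pairOf, zero_pow, CharTwo.neg_eq, hsq] <;> ring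

/-- The first column of the product of segments: the top entry dominates, with controlled degree. -/
theorem tail_bound (m : ℕ) :
    ∀ l : List (Bool × (ZMod 2)[X]), (∀ s ∈ l, WordLaws.Good (ZMod 2) s.2) →
      let T := ((l.map fun s => cond s.1 (revGL (ZMod 2)[X]) (revGL (ZMod 2)[X])⁻¹ * zGL m s.2).prod :
        GL (Fin 4) (ZMod 2)[X])
      (T : Matrix (Fin 4) (Fin 4) (ZMod 2)[X]) 0 0 ≠ 0 ∧
      ((T : Matrix (Fin 4) (Fin 4) (ZMod 2)[X]) 0 0).natDegree ≤ 2 ^ (m + 1) * (l.map fun s => s.2.natDegree).sum ∧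
      ∀ i : Fin 4, ((T : Matrix (Fin 4) (Fin 4) (ZMod 2)[X]) i 0).natDegree ≤
        ((T : Matrix (Fin 4) (Fin 4) (ZMod 2)[X]) 0 0).natDegree := by
  intro l
  induction l with
  | nil => intro _; simp [Fin.forall_fin_succ]
  | cons s l ih =>
    intro h
    obtain ⟨h0, hS, hle⟩ := ih (fun t ht => h t (List.mem_cons_of_mem _ ht))
    obtain ⟨hp, hpd⟩ := h s List.mem_cons_self
    simp only [List.map_cons, List.prod_cons, List.sum_cons]
    set T := (l.map fun s => cond s.1 (revGL (ZMod 2)[X]) (revGL (ZMod 2)[X])⁻¹ * zGL m s.2).prod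
    have hcond : cond s.1 (revGL (ZMod 2)[X]) (revGL (ZMod 2)[X])⁻¹ = revGL (ZMod 2)[X] := by
      cases s.1 <;> rfl
    rw [hcond]
    set x : Fin 4 → (ZMod 2)[X] := fun i => (T : Matrix (Fin 4) (Fin 4) (ZMod 2)[X]) i 0 with hx
    set e := 2 ^ (m + 1)
    have he : 2 ≤ e := Nat.le_self_pow (by omega) 2
    set p := s.2
    have hcol : ∀ i, ((revGL (ZMod 2)[X] * zGL m p * T : GL (Fin 4) (ZMod 2)[X]) :
        Matrix (Fin 4) (Fin 4) (ZMod 2)[X]) i 0 = ![p ^ e * x 0 + p * x 1 + x 3, p * x 0 + x 2, x 1, x 0] i := by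
      intro i
      fin_cases i <;> simp [revGL, revMat, zGL, zMat, hx, e, Matrix.mul_apply, Fin.sum_univ_four]
    have hp0 : p ≠ 0 := fun e' => by simp [e'] at hp
    have hle' : ∀ i, (x i).natDegree ≤ (x 0).natDegree := hle
    have hd1 : (p ^ e * x 0).natDegree = e * p.natDegree + (x 0).natDegree := by
      rw [natDegree_mul (pow_ne_zero _ hp0) h0, natDegree_pow]
    have hd2 : (p * x 1 + x 3).natDegree < (p ^ e * x 0).natDegree := by
      refine lt_of_le_of_lt (natDegree_add_le _ _) ?_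
      rw [hd1]
      refine max_lt (lt_of_le_of_lt natDegree_mul_le ?_) ?_
      · have := hle' 1
        have : 2 * p.natDegree ≤ e * p.natDegree := Nat.mul_le_mul_right _ he
        omega
      · have := hle' 3
        have : 2 * p.natDegree ≤ e * p.natDegree := Nat.mul_le_mul_right _ he
        omega
    have hy : (p ^ e * x 0 + p * x 1 + x 3).natDegree = e * p.natDegree + (x 0).natDegree := by
      rw [add_assoc, natDegree_add_eq_left_of_natDegree_lt hd2, hd1]
    have hy0 : p ^ e * x 0 + p * x 1 + x 3 ≠ 0 := by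
      intro e'
      rw [e', natDegree_zero] at hy
      have : 2 * p.natDegree ≤ e * p.natDegree := Nat.mul_le_mul_right _ he
      omega
    have h2 : 2 * p.natDegree ≤ e * p.natDegree := Nat.mul_le_mul_right _ he
    refine ⟨?_, ?_, fun i => ?_⟩
    · rw [hcol]; exact hy0
    · rw [hcol]
      change (p ^ e * x 0 + p * x 1 + x 3).natDegree ≤ _
      rw [hy, mul_add]
      exact add_le_add le_rfl hS
    · rw [hcol, hcol]
      fin_cases i
      · exact le_rfl
      · simp only [Matrix.cons_val_one, Matrix.cons_val_zero, Matrix.head_cons, Fin.mk_one, Fin.isValue]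
        refine le_trans (natDegree_add_le _ _) ?_
        rw [hy]
        have := hle' 2
        exact max_le (le_trans natDegree_mul_le (by omega)) (by omega)
      · simp
        rw [hy]
        exact le_trans (hle' 1) (by omega)
      · simp
        rw [hy]
        exact le_trans (le_refl (x 0).natDegree) (by omega)


/-- A non-trivial law holds in only finitely many Suzuki groups: for every non-trivial element w of the free group on countably many generators there is N such that for q = 2^(2m+1) with m ≥ N some substitution of elements of the Suzuki group over the field with q elements into w is not the identity. -/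
theorem result (w : FreeGroup ℕ) (hw : w ≠ 1) :
    ∃ N : ℕ, ∀ (F : Type*) [Field F] [Fintype F] (m : ℕ), 1 ≤ m → N ≤ m →
      Fintype.card F = 2 ^ (2 * m + 1) →
      ∃ f : ℕ → ↥(Cfsg.Lie.Sz F (2 ^ (m + 1))), FreeGroup.lift f w ≠ 1 := by
  classical
  obtain ⟨x, L, hxL⟩ : ∃ x L, w.toWord = x :: L := by
    cases h : w.toWord with
    | nil => exact absurd (FreeGroup.toWord_eq_nil_iff.1 h) hw
    | cons x L => exact ⟨x, L, rfl⟩
  have hred : FreeGroup.IsReduced (x :: L) := hxL ▸ FreeGroup.isReduced_toWord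
  have hw' : FreeGroup.mk (x :: L) = w := hxL ▸ FreeGroup.mk_toWord
  let A := WordLaws.parA (ZMod 2)
  let B := WordLaws.parB (ZMod 2)
  let p := WordLaws.leftPart A B x
  let S := p.natDegree + ((WordLaws.segs A B (x :: L)).map fun s => s.2.natDegree).sum
  refine ⟨S, fun F _ _ m hm hNm hF => ?_⟩
  haveI : CharP F 2 := charP_of_card_eq_prime_pow hF
  haveI : Fact (Nat.Prime 2) := ⟨Nat.prime_two⟩
  let u : (ZMod 2)[X] → GL (Fin 4) (ZMod 2)[X] := zGL m
  let f₀ : ℕ → GL (Fin 4) (ZMod 2)[X] := fun i => u (A i) * revGL _ * u (B i)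
  have hval := WordLaws.lift_eq_segs A B u (zGL_add m) (revGL (ZMod 2)[X]) x L
  rw [hw'] at hval
  obtain ⟨h0, hS, hle⟩ := tail_bound m _ (WordLaws.segs_good (x :: L) hred)
  set T := ((WordLaws.segs A B (x :: L)).map fun s => cond s.1 (revGL (ZMod 2)[X]) (revGL (ZMod 2)[X])⁻¹ * zGL m s.2).prod
  obtain ⟨hp, hpd⟩ := WordLaws.good_left (R := ZMod 2) x
  change 1 ≤ p.natDegree at hpd
  have hp0 : p ≠ 0 := by
    intro e; rw [e] at hpd; simp at hpd
  set e := 2 ^ (m + 1) with he_def
  have he : 2 ≤ e := Nat.le_self_pow (by omega) 2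
  have h2 : 2 * p.natDegree ≤ e * p.natDegree := Nat.mul_le_mul_right _ he
  let t : Fin 4 → (ZMod 2)[X] := fun i => (T : Matrix (Fin 4) (Fin 4) (ZMod 2)[X]) i 0
  let P : (ZMod 2)[X] := p ^ e * t 0 + (p * t 1 + t 3)
  have hd1 : (p ^ e * t 0).natDegree = e * p.natDegree + (t 0).natDegree := by
    rw [natDegree_mul (pow_ne_zero _ hp0) h0, natDegree_pow]
  have hPd : P.natDegree = e * p.natDegree + (t 0).natDegree := by
    rw [← hd1]
    refine natDegree_add_eq_left_of_natDegree_lt (lt_of_le_of_lt (natDegree_add_le _ _) ?_)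
    rw [hd1]
    have h1 := hle 1
    have h3 := hle 3
    change (t 1).natDegree ≤ (t 0).natDegree at h1
    change (t 3).natDegree ≤ (t 0).natDegree at h3
    exact max_lt (lt_of_le_of_lt natDegree_mul_le (by omega)) (by omega)
  have hP0 : P ≠ 0 := by
    intro e'; rw [e', natDegree_zero] at hPd; omega
  have hbound : P.natDegree < Fintype.card F := by
    rw [hPd]
    have hS' : (t 0).natDegree ≤ e * ((WordLaws.segs A B (x :: L)).map fun s => s.2.natDegree).sum := hS
    calc e * p.natDegree + (t 0).natDegree ≤ e * S := by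
          rw [show S = p.natDegree + _ from rfl, mul_add]; omega
      _ < e * 2 ^ m := Nat.mul_lt_mul_of_pos_left (lt_of_le_of_lt hNm Nat.lt_two_pow_self) (by omega)
      _ = Fintype.card F := by rw [hF, he_def, ← pow_add]; congr 1; omega
  let ι : ZMod 2 →+* F := ZMod.castHom (dvd_refl 2) F
  obtain ⟨c, hc⟩ := WordLaws.exists_eval_ne_zero (P.map ι)
    ((Polynomial.map_ne_zero_iff (RingHom.injective ι)).2 hP0) (by rwa [natDegree_map])
  rw [eval_map] at hc
  let Φ : GL (Fin 4) (ZMod 2)[X] →* GL (Fin 4) F := Matrix.GeneralLinearGroup.map (eval₂RingHom ι c)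
  have hmem : ∀ i, Φ (f₀ i) ∈ Cfsg.Lie.Sz F e := by
    intro i
    have hu : ∀ q, Φ (u q) = zGL m (eval₂RingHom ι c q) := fun q => by
      apply Units.ext
      ext a b
      fin_cases a <;> fin_cases b <;> simp [Φ, u, zGL, zMat, eval₂_pow]
    have hr : Φ (revGL _) = revGL F := by
      apply Units.ext
      ext a b
      fin_cases a <;> fin_cases b <;> simp [Φ, revGL, revMat]
    simp only [f₀, map_mul, hu, hr]
    exact Subgroup.mul_mem _ (Subgroup.mul_mem _ (zGL_mem_Sz hF _) (revGL_mem_Sz m)) (zGL_mem_Sz hF _)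
  refine ⟨fun i => ⟨Φ (f₀ i), hmem i⟩, fun h => hc ?_⟩
  have e1 : (Cfsg.Lie.Sz F e).subtype.comp (FreeGroup.lift fun i => (⟨Φ (f₀ i), hmem i⟩ : Cfsg.Lie.Sz F e)) =
      Φ.comp (FreeGroup.lift f₀) := by ext i; simp
  have h3 := DFunLike.congr_fun e1 w
  rw [MonoidHom.comp_apply, MonoidHom.comp_apply, h, map_one, hval] at h3
  have h4 := congrArg (fun g : GL (Fin 4) F => (g : Matrix (Fin 4) (Fin 4) F) 3 0) h3
  simp only [Units.val_one] at h4
  rw [Matrix.one_apply_ne (by decide)] at h4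
  rw [h4]
  simp [Φ, u, zGL, zMat, P, t, p, T, A, B, Matrix.mul_apply, Fin.sum_univ_four, add_assoc, e]

end Cfsg.Agent.S2354
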