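import Cfsg.Statements.S2355
import Cfsg.Agent.WordLaws.Embed
import Cfsg.Agent.WordLaws.Unitary

set_option autoImplicit false
open Cfsg

namespace Cfsg.Agent.S2355

open Matrix

theorem card_gl_le {ι : Type} [Fintype ι] [DecidableEq ι] {F : Type} [Field F] [Fintype F] {M : ℕ}
    (hι : Fintype.card ι ≤ M) (hF : Fintype.card F ≤ M) : Nat.card (Matrix ι ι F) ≤ M ^ (M * M) := by
  rw [Matrix, Nat.card_fun, Nat.card_fun, Nat.card_eq_fintype_card, Nat.card_eq_fintype_card, ← pow_mul]
  calc Fintype.card F ^ (Fintype.card ι * Fintype.card ι) ≤ M ^ (Fintype.card ι * Fintype.card ι) :=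
        Nat.pow_le_pow_left hF _
    _ ≤ M ^ (M * M) := Nat.pow_le_pow_right (lt_of_lt_of_le Fintype.card_pos hF) (Nat.mul_le_mul hι hι)

theorem card_quotient_le {ι : Type} [Fintype ι] [DecidableEq ι] {F : Type} [Field F] [Fintype F] {M : ℕ}
    (hι : Fintype.card ι ≤ M) (hF : Fintype.card F ≤ M) {K : Type} [Group K] (f : K → Matrix ι ι F)
    (hf : Function.Injective f) (Z : Subgroup K) : Nat.card (K ⧸ Z) ≤ M ^ (M * M) := by
  haveI : Finite K := Finite.of_injective f hf
  exact (Nat.card_le_card_of_surjective _ (QuotientGroup.mk_surjective (s := Z))).trans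
    ((Nat.card_le_card_of_injective f hf).trans (card_gl_le hι hF))

theorem card_pomega_le {ι : Type} [Fintype ι] [DecidableEq ι] {F : Type} [Field F] [Fintype F] {M : ℕ}
    (hι : Fintype.card ι ≤ M) (hF : Fintype.card F ≤ M) (Q : (ι → F) → F) :
    Nat.card (Cfsg.POmega F Q) ≤ M ^ (M * M) :=
  card_quotient_le hι hF (fun x => ((x.1.1 : GL ι F) : Matrix ι ι F))
    (fun _ _ h => Subtype.ext (Subtype.ext (Units.ext h))) _

/-- Blow-up by an identity block on the left. -/
def leftPad {m : ℕ} {F : Type} [Field F] :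
    Matrix.SpecialLinearGroup (Fin m) F →* Matrix (Unit ⊕ (Fin m ⊕ Fin m)) (Unit ⊕ (Fin m ⊕ Fin m)) F where
  toFun A := fromBlocks 1 0 0 (WordLaws.doubleHom m A)
  map_one' := by simp [fromBlocks_one]
  map_mul' A B := by simp [fromBlocks_multiply]

/-- Blow-up by an identity block on the right. -/
def rightPad {m : ℕ} {F : Type} [Field F] :
    Matrix.SpecialLinearGroup (Fin m) F →* Matrix ((Fin m ⊕ Fin m) ⊕ Fin 2) ((Fin m ⊕ Fin m) ⊕ Fin 2) F where
  toFun A := fromBlocks (WordLaws.doubleHom m A) 0 0 1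
  map_one' := by simp [fromBlocks_one]
  map_mul' A B := by simp [fromBlocks_multiply]

theorem leftPad_quadForm {m : ℕ} {F : Type} [Field F] (A : Matrix.SpecialLinearGroup (Fin m) F)
    (v : Unit ⊕ (Fin m ⊕ Fin m) → F) :
    Cfsg.quadFormOdd m F (leftPad A *ᵥ v) = Cfsg.quadFormOdd m F v := by
  have e : leftPad A *ᵥ v = Sum.elim (v ∘ Sum.inl) (WordLaws.doubleHom m A *ᵥ (v ∘ Sum.inr)) := by
    simp [leftPad, fromBlocks_mulVec]
  rw [e]
  exact congrArg (v (Sum.inl ()) ^ 2 + ·) (WordLaws.doubleHom_quadFormPlus A (v ∘ Sum.inr))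

theorem rightPad_quadForm {m : ℕ} {F : Type} [Field F] (a b : F) (A : Matrix.SpecialLinearGroup (Fin m) F)
    (v : (Fin m ⊕ Fin m) ⊕ Fin 2 → F) :
    Cfsg.quadFormMinus m F a b (rightPad A *ᵥ v) = Cfsg.quadFormMinus m F a b v := by
  have e : rightPad A *ᵥ v = Sum.elim (WordLaws.doubleHom m A *ᵥ (v ∘ Sum.inl)) (v ∘ Sum.inr) := by
    simp [rightPad, fromBlocks_mulVec]
  rw [e]
  exact congrArg (· + (v (Sum.inr 0) ^ 2 + a * v (Sum.inr 0) * v (Sum.inr 1) + b * v (Sum.inr 1) ^ 2))
    (WordLaws.doubleHom_quadFormPlus A (v ∘ Sum.inl))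

theorem perfect_sl {m : ℕ} (hm : 3 ≤ m) {F : Type} [Field F] [Fintype F] :
    commutator (Matrix.SpecialLinearGroup (Fin m) F) = ⊤ :=
  Classical.commutator_sl_eq_top (Or.inl (by simpa using hm))


/-- A non-trivial law is satisfied by only finitely many finite simple groups that are alternating or classical, up to isomorphism: for every non-trivial element w of the free group on countably many generators there is a bound N such that every alternating group of degree ≥ 5 and every simple classical group (linear, symplectic, unitary or orthogonal, in this problem's sense) in which w is a law has order at most N. -/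
theorem result (w : FreeGroup ℕ) (hw : w ≠ 1) :
    ∃ N : ℕ, ∀ (G : Type*) [Group G] [Finite G],
      (Cfsg.IsAlternating G ∨ Cfsg.IsPSL G ∨ Cfsg.IsPSp G ∨ Cfsg.IsPSU G ∨ Cfsg.IsPOmegaOdd G ∨
          Cfsg.IsPOmegaPlus G ∨ Cfsg.IsPOmegaMinus G) →
      (∀ f : ℕ → G, FreeGroup.lift f w = 1) → Nat.card G ≤ N := by
  classical
  obtain ⟨N, hN5, hA, h2, hSL⟩ := WordLaws.exists_sl_value w hw
  refine ⟨Nat.factorial N + (4 * (N + 2) ^ 2) ^ ((4 * (N + 2) ^ 2) * (4 * (N + 2) ^ 2)), fun G _ _ hG hlaw => ?_⟩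
  set M := 4 * (N + 2) ^ 2 with hM
  have hMN : 4 * (N + 2) ≤ M := by
    rw [hM, pow_two]; exact Nat.mul_le_mul_left 4 (Nat.le_mul_of_pos_left _ (by omega))
  suffices h : Nat.card G ≤ M ^ (M * M) ∨ Nat.card G ≤ Nat.factorial N by omega
  rcases hG with hG | hG | hG | hG | hG | hG | hG
  · obtain ⟨n, -, ⟨e⟩⟩ := hG
    rcases Nat.lt_or_ge n N with h | h
    · right
      rw [Nat.card_congr e.toEquiv]
      refine (Subgroup.card_le_card_group _).trans ?_
      rw [Nat.card_perm, Nat.card_fin]
      exact Nat.factorial_le h.le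
    · obtain ⟨f, hf⟩ := hA n h
      exact (WordLaws.exists_value_equiv e w ⟨f, fun h1 => hf (by rw [h1]; exact Subgroup.one_mem _)⟩ hlaw).elim
  · obtain ⟨F, _, _, n, hn, -, ⟨e⟩⟩ := hG
    by_cases h : N ≤ n ∨ N ≤ Fintype.card F
    · obtain ⟨f, hf⟩ := hSL F n hn h
      exact (WordLaws.exists_value_equiv e w
        (WordLaws.exists_value_quotient (MonoidHom.id _) Function.injective_id w f hf) hlaw).elim
    · left
      rw [Nat.card_congr e.toEquiv]
      exact card_quotient_le (ι := Fin n) (F := F) (by rw [Fintype.card_fin]; omega) (by omega)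
        (fun x : Matrix.SpecialLinearGroup (Fin n) F => (x : Matrix (Fin n) (Fin n) F)) Subtype.coe_injective _
  · obtain ⟨F, _, _, m, hm, -, ⟨e⟩⟩ := hG
    by_cases h : N ≤ m ∨ N ≤ Fintype.card F
    · obtain ⟨f, hf⟩ := hSL F m hm h
      exact (WordLaws.exists_value_equiv e w
        (WordLaws.exists_value_quotient (WordLaws.spHom m) (WordLaws.spHom_injective m) w f hf) hlaw).elim
    · left
      rw [Nat.card_congr e.toEquiv]
      exact card_quotient_le (ι := Fin m ⊕ Fin m) (F := F) (by simp; omega) (by omega)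
        (fun x : Matrix.symplecticGroup (Fin m) F => (x : Matrix (Fin m ⊕ Fin m) (Fin m ⊕ Fin m) F))
        Subtype.coe_injective _
  · obtain ⟨F, _, _, n, q, hF, hn, -, ⟨e⟩⟩ := hG
    by_cases h : N ≤ n
    · obtain ⟨f, hf⟩ := hA n h
      refine (WordLaws.exists_value_equiv e w (WordLaws.exists_value_quotient
        ((WordLaws.permSL (F := F)).codRestrict _ WordLaws.permSL_mem_SU) (fun a b h' => ?_) w f hf) hlaw).elim
      exact WordLaws.permSL_injective (congrArg Subtype.val h')
    by_cases hq : N + 1 ≤ q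
    · obtain ⟨F₀, ψ, hcard, hψ⟩ := WordLaws.exists_subfield_hom (n := n) hF (by omega)
      haveI : Fintype F₀ := Fintype.ofFinite _
      rw [Nat.card_eq_fintype_card] at hcard
      obtain ⟨f, hf⟩ := h2 F₀ (by omega)
      exact (WordLaws.exists_value_equiv e w
        (WordLaws.exists_value_quotient ψ hψ w f hf) hlaw).elim
    · left
      rw [Nat.card_congr e.toEquiv]
      refine card_quotient_le (ι := Fin n) (F := F) (by rw [Fintype.card_fin]; omega) ?_
        (fun x : Cfsg.SU n F q => ((x : Matrix.SpecialLinearGroup (Fin n) F) : Matrix (Fin n) (Fin n) F))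
        (Subtype.coe_injective.comp Subtype.coe_injective) _
      rw [hF, hM]
      exact le_trans (Nat.pow_le_pow_left (by omega : q ≤ N + 2) 2) (by omega)
  · obtain ⟨F, _, _, m, hm, -, ⟨e⟩⟩ := hG
    by_cases h : N ≤ m ∨ N ≤ Fintype.card F
    · obtain ⟨f, hf⟩ := hSL F m (by omega) h
      obtain ⟨ψ, hψ⟩ := WordLaws.exists_omega_hom (Cfsg.quadFormOdd m F) (perfect_sl hm) leftPad
        (fun A B h' => WordLaws.doubleHom_injective m (fromBlocks_inj.1 h').2.2.2) leftPad_quadForm
      exact (WordLaws.exists_value_equiv e w (WordLaws.exists_value_quotient ψ hψ w f hf) hlaw).elim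
    · left
      rw [Nat.card_congr e.toEquiv]
      exact card_pomega_le (by simp; omega) (by omega) _
  · obtain ⟨F, _, _, m, hm, ⟨e⟩⟩ := hG
    by_cases h : N ≤ m ∨ N ≤ Fintype.card F
    · obtain ⟨f, hf⟩ := hSL F m (by omega) h
      obtain ⟨ψ, hψ⟩ := WordLaws.exists_omega_hom (Cfsg.quadFormPlus m F) (perfect_sl (by omega))
        (WordLaws.doubleHom m) (WordLaws.doubleHom_injective m) WordLaws.doubleHom_quadFormPlus
      exact (WordLaws.exists_value_equiv e w (WordLaws.exists_value_quotient ψ hψ w f hf) hlaw).elim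
    · left
      rw [Nat.card_congr e.toEquiv]
      exact card_pomega_le (by simp; omega) (by omega) _
  · obtain ⟨F, _, _, m, a, b, hm, -, ⟨e⟩⟩ := hG
    by_cases h : N ≤ m - 1 ∨ N ≤ Fintype.card F
    · obtain ⟨f, hf⟩ := hSL F (m - 1) (by omega) h
      obtain ⟨ψ, hψ⟩ := WordLaws.exists_omega_hom (Cfsg.quadFormMinus (m - 1) F a b) (perfect_sl (by omega))
        rightPad (fun A B h' => WordLaws.doubleHom_injective _ (fromBlocks_inj.1 h').1) (rightPad_quadForm a b)
      exact (WordLaws.exists_value_equiv e w (WordLaws.exists_value_quotient ψ hψ w f hf) hlaw).elim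
    · left
      rw [Nat.card_congr e.toEquiv]
      exact card_pomega_le (by simp; omega) (by omega) _

end Cfsg.Agent.S2355
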