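import Cfsg.Statements.S2356
import Mathlib
import Cfsg.Agent.Classical.SUThreeGraph

set_option autoImplicit false
open Cfsg

namespace Cfsg.Agent.S2356

open Cfsg.Agent.Classical Cfsg.Agent.Classical.SUThree Cfsg.Agent.Classical.Herm

set_option maxHeartbeats 1600000

theorem commute_iff {G : Type*} [Group G] (e : G ≃* G) (a b : G) : Commute (e a) (e b) ↔ Commute a b :=
  ⟨fun h => e.injective (by simpa only [map_mul] using h.eq), fun h => h.map e⟩


/-- Let q be odd, F the field with q² elements, S = SU_3(F) (determinant-one isometries of the standard Hermitian form) and t an involution of S. Then: exactly q(q−1) involutions other than t commute with t; exactly q(q−2)(q²−1) involutions do not commute with t but commute with some involution commuting with t; exactly (q+1)(q²−1) involutions x do not commute with t and admit no involution commuting with both t and x; and every involution can be reached from t in at most three steps, each step going to an involution that commutes with the previous one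 (the commuting involution graph is connected of diameter 3). -/
theorem result {F : Type*} [Field F] [Fintype F] {q : ℕ} (hq : Odd q)
    (hF : Fintype.card F = q ^ 2) (t : ↥(Cfsg.SU 3 F q)) (ht : t ≠ 1) (ht2 : t * t = 1) :
    Nat.card {x : ↥(Cfsg.SU 3 F q) // x ≠ 1 ∧ x * x = 1 ∧ x ≠ t ∧ Commute t x} = q * (q - 1) ∧
    Nat.card {x : ↥(Cfsg.SU 3 F q) // x ≠ 1 ∧ x * x = 1 ∧ ¬ Commute t x ∧
        ∃ y : ↥(Cfsg.SU 3 F q), y ≠ 1 ∧ y * y = 1 ∧ Commute t y ∧ Commute y x} = q * (q - 2) * (q ^ 2 - 1) ∧
    Nat.card {x : ↥(Cfsg.SU 3 F q) // x ≠ 1 ∧ x * x = 1 ∧ ¬ Commute t x ∧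
        ∀ y : ↥(Cfsg.SU 3 F q), y ≠ 1 → y * y = 1 → ¬ (Commute t y ∧ Commute y x)} = (q + 1) * (q ^ 2 - 1) ∧
    ∀ x : ↥(Cfsg.SU 3 F q), x ≠ 1 → x * x = 1 →
      ∃ y z : ↥(Cfsg.SU 3 F q), y ≠ 1 ∧ y * y = 1 ∧ z ≠ 1 ∧ z * z = 1 ∧
        Commute t y ∧ Commute y z ∧ Commute z x := by
  classical
  obtain ⟨σ, hσq, hσ, hcard, -⟩ := Cfsg.Agent.Classical.exists_powHom hF
  have h2 : (2 : F) ≠ 0 := by
    intro h
    have h2' : ringChar F = 2 := CharP.ringChar_of_prime_eq_zero Nat.prime_two (by exact_mod_cast h)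
    have := FiniteField.even_card_iff_char_two.1 h2'
    rw [hF, Nat.pow_mod] at this
    rw [Nat.odd_iff.1 hq] at this
    exact absurd this (by norm_num)
  obtain ⟨g, rfl⟩ := exists_conj_base hσ hσq h2 t ht ht2
  set e := MulAut.conj g
  refine ⟨?_, ?_, ?_, ?_⟩
  · refine Eq.trans (Nat.card_congr (e.toEquiv.subtypeEquiv fun x => ?_).symm) (card_adj hσ hσq hcard h2)
    simp only [MulEquiv.toEquiv_eq_coe, EquivLike.coe_coe, ne_eq, MulEquiv.map_eq_one_iff, ← map_mul, commute_iff, e.injective.eq_iff]
  · refine Eq.trans (Nat.card_congr (e.toEquiv.subtypeEquiv fun x => ?_).symm) (card_mid hσ hσq hcard h2)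
    refine and_congr ?_ (and_congr ?_ (and_congr ?_ ((exists_congr fun y => ?_).trans e.surjective.exists.symm))) <;>
      simp only [MulEquiv.toEquiv_eq_coe, EquivLike.coe_coe, ne_eq, MulEquiv.map_eq_one_iff, ← map_mul, commute_iff]
  · refine Eq.trans (Nat.card_congr (e.toEquiv.subtypeEquiv fun x => ?_).symm) (card_far hσ hσq hcard h2)
    refine and_congr ?_ (and_congr ?_ (and_congr ?_ ((forall_congr' fun y => ?_).trans e.surjective.forall.symm))) <;>
      simp only [MulEquiv.toEquiv_eq_coe, EquivLike.coe_coe, ne_eq, MulEquiv.map_eq_one_iff, ← map_mul, commute_iff]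
  · intro x hx hx2
    obtain ⟨x, rfl⟩ := e.surjective x
    obtain ⟨y, z, hy, hy2, hz, hz2, h1, h2', h3⟩ := path_exists hσ hσq h2 x (by simpa using hx)
      (e.injective (by rw [map_mul, map_one, hx2]))
    exact ⟨e y, e z, by simpa using hy, by rw [← map_mul, hy2, map_one], by simpa using hz,
      by rw [← map_mul, hz2, map_one], h1.map e, h2'.map e, h3.map e⟩

end Cfsg.Agent.S2356
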