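import Cfsg.Statements.S2360
import Mathlib
import Cfsg.Agent.Classical.SUThreeGraph

set_option autoImplicit false
open Cfsg

namespace Cfsg.Agent.S2360

open Cfsg.Agent.Classical Cfsg.Agent.Classical.SUThree Cfsg.Agent.Classical.Herm

set_option maxHeartbeats 1600000

theorem commute_iff {G : Type*} [Group G] (e : G ≃* G) (a b : G) : Commute (e a) (e b) ↔ Commute a b :=
  ⟨fun h => e.injective (by simpa only [map_mul] using h.eq), fun h => h.map e⟩

theorem card_conjClass {G : Type*} [Group G] [Finite G] (t : G) :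
    Nat.card {x : G // ∃ g : G, g * t * g⁻¹ = x} * Nat.card ↥(Subgroup.centralizer ({t} : Set G)) = Nat.card G := by
  rw [← Nat.card_prod]
  choose c hc using fun x : {x : G // ∃ g : G, g * t * g⁻¹ = x} => x.2
  refine Nat.card_congr (Equiv.ofBijective (fun p : {x : G // ∃ g : G, g * t * g⁻¹ = x} ×
      ↥(Subgroup.centralizer ({t} : Set G)) => c p.1 * p.2.1) ⟨?_, ?_⟩)
  · rintro ⟨x, a⟩ ⟨y, b⟩ h
    simp only at h
    have ha := Subgroup.mem_centralizer_singleton_iff.1 a.2
    have hb := Subgroup.mem_centralizer_singleton_iff.1 b.2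
    have key : ∀ (x : {x : G // ∃ g : G, g * t * g⁻¹ = x}) (a : G), a * t = t * a →
        (c x * a) * t * (c x * a)⁻¹ = x.1 := fun x a ha => by
      rw [← hc x, mul_assoc (c x) a t, ha]
      group
    have hxy : x = y := Subtype.ext (by rw [← key x a.1 ha, h, key y b.1 hb])
    subst hxy
    exact Prod.ext rfl (Subtype.ext (mul_left_cancel h))
  · intro g
    let x : {x : G // ∃ g : G, g * t * g⁻¹ = x} := ⟨g * t * g⁻¹, g, rfl⟩
    refine ⟨(x, ⟨(c x)⁻¹ * g, Subgroup.mem_centralizer_singleton_iff.2 ?_⟩), by simp⟩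
    calc (c x)⁻¹ * g * t = (c x)⁻¹ * (g * t * g⁻¹) * g := by group
      _ = (c x)⁻¹ * (c x * t * (c x)⁻¹) * g := by rw [hc x]
      _ = t * ((c x)⁻¹ * g) := by group


/-- Let q be odd, F the field with q² elements and S = SU_3(F) (determinant-one isometries of the standard Hermitian form). Then all involutions of S are conjugate; there are exactly q²(q²−q+1) of them; the centralizer of an involution has order q(q+1)(q²−1), the order of the full unitary group of degree 2; and for two distinct commuting involutions t and x there is exactly one further involution commuting with both. -/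
theorem result {F : Type*} [Field F] [Fintype F] {q : ℕ} (hq : Odd q)
    (hF : Fintype.card F = q ^ 2) (t : ↥(Cfsg.SU 3 F q)) (ht : t ≠ 1) (ht2 : t * t = 1) :
    (∀ x : ↥(Cfsg.SU 3 F q), x ≠ 1 → x * x = 1 → ∃ g : ↥(Cfsg.SU 3 F q), g * t * g⁻¹ = x) ∧
    Nat.card {x : ↥(Cfsg.SU 3 F q) // x ≠ 1 ∧ x * x = 1} = q ^ 2 * (q ^ 2 - q + 1) ∧
    Nat.card ↥(Subgroup.centralizer ({t} : Set ↥(Cfsg.SU 3 F q))) = q * (q + 1) * (q ^ 2 - 1) ∧
    ∀ x : ↥(Cfsg.SU 3 F q), x ≠ 1 → x * x = 1 → x ≠ t → Commute t x →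
      Nat.card {y : ↥(Cfsg.SU 3 F q) // y ≠ 1 ∧ y * y = 1 ∧ y ≠ t ∧ y ≠ x ∧ Commute t y ∧ Commute x y} = 1 := by
  classical
  obtain ⟨σ, hσq, hσ, hcard, hq1⟩ := Cfsg.Agent.Classical.exists_powHom hF
  have h2 : (2 : F) ≠ 0 := by
    intro h
    have h2' : ringChar F = 2 := CharP.ringChar_of_prime_eq_zero Nat.prime_two (by exact_mod_cast h)
    have := FiniteField.even_card_iff_char_two.1 h2'
    rw [hF, Nat.pow_mod] at this
    rw [Nat.odd_iff.1 hq] at this
    exact absurd this (by norm_num)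
  have hconj : ∀ x : ↥(Cfsg.SU 3 F q), x ≠ 1 → x * x = 1 → ∃ g : ↥(Cfsg.SU 3 F q), g * t * g⁻¹ = x := by
    intro x hx hx2
    obtain ⟨a, rfl⟩ := exists_conj_base hσ hσq h2 t ht ht2
    obtain ⟨b, rfl⟩ := exists_conj_base hσ hσq h2 x hx hx2
    exact ⟨b * a⁻¹, by simp only [MulAut.conj_apply]; group⟩
  refine ⟨hconj, card_inv hσ hσq hcard h2, ?_, ?_⟩
  · have h := card_conjClass t
    have e : Nat.card {x : ↥(Cfsg.SU 3 F q) // ∃ g : ↥(Cfsg.SU 3 F q), g * t * g⁻¹ = x} =
        Nat.card {x : ↥(Cfsg.SU 3 F q) // x ≠ 1 ∧ x * x = 1} := by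
      refine Nat.card_congr (Equiv.subtypeEquivRight fun x => ⟨?_, fun h => hconj x h.1 h.2⟩)
      rintro ⟨g, rfl⟩
      refine ⟨fun h => ht ?_, ?_⟩
      · calc t = g⁻¹ * (g * t * g⁻¹) * g := by group
          _ = 1 := by rw [h]; group
      · calc g * t * g⁻¹ * (g * t * g⁻¹) = g * (t * t) * g⁻¹ := by group
          _ = 1 := by rw [ht2]; group
    rw [e, card_inv hσ hσq hcard h2] at h
    have hsu := Cfsg.Agent.Classical.card_SU_mul_eq_GU (n := 3) hσ hσq hcard (by norm_num)
    rw [Cfsg.Agent.Classical.card_GU_formula hσ hσq hcard, ← h] at hsu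
    generalize Nat.card ↥(Subgroup.centralizer ({t} : Set ↥(Cfsg.SU 3 F q))) = C at hsu ⊢
    simp only [Finset.prod_range_succ, Finset.prod_range_zero, one_mul] at hsu
    norm_num [Nat.even_iff] at hsu
    obtain ⟨d, hd⟩ := Nat.le.dest (Nat.le_self_pow two_ne_zero q)
    obtain ⟨a, ha⟩ := Nat.le.dest (show 1 ≤ q ^ 2 from Nat.one_le_pow _ _ (by omega))
    rw [show q ^ 2 - 1 = a by omega, show q ^ 2 - q = d by omega] at hsu
    rw [show q ^ 2 - 1 = a by omega]
    refine Nat.eq_of_mul_eq_mul_left (show 0 < (q + 1) * (q ^ 2 * (d + 1)) by positivity) ?_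
    rw [mul_assoc, hsu]
    zify at hd ha ⊢
    linear_combination (-((q : ℤ) ^ 3 * (a : ℤ) * ((q : ℤ) + 1) ^ 2)) * hd
  · intro x hx hx2 hxt htx
    obtain ⟨a, rfl⟩ := exists_conj_base hσ hσq h2 t ht ht2
    set e := MulAut.conj a
    obtain ⟨x, rfl⟩ := e.surjective x
    obtain ⟨u, rfl⟩ := exists_refSU hσ hσq h2 x (by simpa using hx) (e.injective (by rw [map_mul, map_one, hx2]))
    rw [commute_iff] at htx
    have hu0 : u.1 0 = 0 := (adj_t0_iff hσ hσq h2 u).1 ⟨fun h => hxt (by rw [h]), htx⟩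
    have hN : Nat.card {x : ↥(Cfsg.SU 3 F q) // x ≠ 1 ∧ x * x = 1 ∧ (x ≠ t0 hσ hσq ∧ x ≠ refSU hσ hσq u ∧
        Commute (t0 hσ hσq) x ∧ Commute (refSU hσ hσq u) x)} = 1 := by
      have h := card_inv_mul hσ hσq h2 hcard fun x => x ≠ t0 hσ hσq ∧ x ≠ refSU hσ hσq u ∧
        Commute (t0 hσ hσq) x ∧ Commute (refSU hσ hσq u) x
      have hu := u.2
      rw [hermB_three, hu0, map_zero, zero_mul, zero_add] at hu
      have hiff : ∀ w : {v : Fin 3 → F // hermB 3 σ v v = 1},
          (refSU hσ hσq w ≠ t0 hσ hσq ∧ refSU hσ hσq w ≠ refSU hσ hσq u ∧ Commute (t0 hσ hσq) (refSU hσ hσq w) ∧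
            Commute (refSU hσ hσq u) (refSU hσ hσq w)) ↔ (w.1 0 = 0 ∧ hermB 3 σ u.1 w.1 = 0) := by
        intro w
        rw [← adj_t0_iff hσ hσq h2, commute_refSU_iff hσ hσq h2 u w]
        constructor
        · rintro ⟨h1, h3, h4, h5 | h5⟩
          · exact ⟨⟨h1, h4⟩, h5⟩
          · exact absurd h5.symm h3
        · rintro ⟨⟨h1, h4⟩, h5⟩
          refine ⟨h1, fun he => ?_, h4, Or.inl h5⟩
          obtain ⟨c, -, hc⟩ := (refMat_eq_iff hσ h2 w.2 u.2).1 (congrArg (fun g : ↥(Cfsg.SU 3 F q) =>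
            ((g : Matrix.SpecialLinearGroup (Fin 3) F) : Matrix (Fin 3) (Fin 3) F)) he)
          rw [hc, map_smul, u.2, smul_eq_mul, mul_one] at h5
          have := w.2
          rw [hc, h5] at this
          simp at this
      simp only [hiff] at h
      have ec : Nat.card {w : {v : Fin 3 → F // hermB 3 σ v v = 1} // w.1 0 = 0 ∧ hermB 3 σ u.1 w.1 = 0} =
          Nat.card {c : F // c * σ c = 1} := by
        symm
        refine Nat.card_congr
          { toFun := fun c => ⟨⟨![0, c.1 * σ (u.1 2), -(c.1 * σ (u.1 1))], by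
              simp [hermB_three, hσ.invol]
              linear_combination c.2 + (c.1 * σ c.1) * hu⟩, by simp, by simp [hermB_three, hu0]; ring⟩
            invFun := fun w => ⟨w.1.1 1 * u.1 2 - w.1.1 2 * u.1 1, by
              have hw := w.1.2
              have hp := w.2.2
              rw [hermB_three, w.2.1, map_zero, zero_mul, zero_add] at hw
              rw [hermB_three, w.2.1, mul_zero, zero_add] at hp
              have hp' := congrArg σ hp
              simp only [map_add, map_mul, map_zero, hσ.invol] at hp'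
              simp only [map_sub, map_mul]
              linear_combination hw + (σ (w.1.1 1) * w.1.1 1 + σ (w.1.1 2) * w.1.1 2) * hu -
                (u.1 1 * σ (w.1.1 1) + u.1 2 * σ (w.1.1 2)) * hp⟩
            left_inv := fun c => Subtype.ext (by simp; linear_combination c.1 * hu)
            right_inv := fun w => by
              have hp := w.2.2
              rw [hermB_three, w.2.1, mul_zero, zero_add] at hp
              refine Subtype.ext (Subtype.ext (funext fun i => ?_))
              fin_cases i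
              · simp [w.2.1]
              · simp
                linear_combination w.1.1 1 * hu - u.1 1 * hp
              · simp
                linear_combination w.1.1 2 * hu - u.1 2 * hp }
      rw [ec, Cfsg.Agent.Classical.card_norm_fibre hσ (map_one σ) one_ne_zero, hcard] at h
      exact Nat.eq_of_mul_eq_mul_right (Nat.succ_pos q) (h.trans (one_mul _).symm)
    refine Eq.trans (Nat.card_congr (e.toEquiv.subtypeEquiv fun y => ?_).symm) hN
    simp [commute_iff, ← map_mul]

end Cfsg.Agent.S2360
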