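import Cfsg.Statements.S2362
import Cfsg.Agent.SpecBC.NoElement
import Cfsg.Agent.SpecBC.PSpElement
import Cfsg.Agent.Classical.OrthPOmega

set_option autoImplicit false
open Cfsg

namespace Cfsg.Agent.S2362

open Module QuadraticMap Cfsg.Agent.Classical.Quad

theorem result {F : Type*} [Field F] [Fintype F] (hodd : Odd (Fintype.card F)) (n : ℕ) (hn : 3 ≤ n) :
    Set.range (orderOf : Cfsg.POmega F (Cfsg.quadFormOdd n F) → ℕ) ≠ Set.range (orderOf : Cfsg.PSp n F → ℕ) := by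
  classical
  obtain ⟨p, hcp⟩ := CharP.exists F
  obtain ⟨e, hpr, hcard⟩ := FiniteField.card F p
  haveI : Fact p.Prime := ⟨hpr⟩
  have hp : p ≠ 2 := by
    rintro rfl
    rw [hcard] at hodd
    exact Nat.not_odd_iff_even.2 ((Nat.even_pow).2 ⟨even_two, e.ne_zero⟩) hodd
  have h2 : (2 : F) ≠ 0 := by
    intro h
    have : ((2 : ℕ) : F) = 0 := by exact_mod_cast h
    exact hp ((Nat.prime_dvd_prime_iff_eq hpr Nat.prime_two).1 ((CharP.cast_eq_zero_iff F p 2).1 this))
  obtain ⟨a, ha⟩ := SpecBC.exists_psp_element (F := F) p hp hn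
  intro heq
  obtain ⟨b, hb⟩ : ∃ b : Cfsg.POmega F (Cfsg.quadFormOdd n F), orderOf b = p * (Fintype.card F ^ (n - 1) + 1) := by
    have : orderOf a ∈ Set.range (orderOf : Cfsg.PSp n F → ℕ) := ⟨a, rfl⟩
    rw [← heq] at this
    obtain ⟨b, hb⟩ := this
    exact ⟨b, hb.trans ha⟩
  let Q : QuadraticForm F (Unit ⊕ (Fin n ⊕ Fin n) → F) :=
    (hyp (sqForm F) n).comp (oddCoord (F := F) n).toLinearMap
  have hQf : (⇑Q : _ → F) = Cfsg.quadFormOdd n F := funext fun v => oddCoord_map n v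
  have hQ : (polarBilin Q).Nondegenerate := nondeg_of fun x hx => (oddCoord (F := F) n).injective <| by
    rw [map_zero]
    refine eq_zero_of_polar (nondeg_hyp (nondeg_sqForm h2) n) fun y => ?_
    obtain ⟨y, rfl⟩ := (oddCoord n).surjective y
    have := hx y
    simp only [QuadraticMap.polar, Q, QuadraticMap.comp_apply, LinearEquiv.coe_coe, map_add] at this
    exact this
  have hfr : finrank F (Unit ⊕ (Fin n ⊕ Fin n) → F) = 2 * n + 1 := by
    rw [Module.finrank_fintype_fun_eq_card]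
    simp
    omega
  have hcount : SpecBC.vcard Q (1 : F) = Nat.card F ^ (2 * n) + Nat.card F ^ n := by
    rw [SpecBC.vcard_congr (oddCoord (F := F) n) (Q₂ := hyp (sqForm F) n) (fun x => rfl), SpecBC.vcard_odd_one h2]
  replace hb : ∃ b : Cfsg.POmega F ⇑Q, orderOf b = p * (Fintype.card F ^ (n - 1) + 1) := by
    rw [hQf]; exact ⟨b, hb⟩
  clear_value Q
  clear hQf heq b
  obtain ⟨b, hb⟩ := hb
  obtain ⟨g, rfl⟩ := QuotientGroup.mk'_surjective _ b
  have hdet : ∀ x : Cfsg.Omega F ⇑Q, (((x : Cfsg.isometryGroup F ⇑Q) : GL (Unit ⊕ (Fin n ⊕ Fin n)) F) :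
      Matrix (Unit ⊕ (Fin n ⊕ Fin n)) (Unit ⊕ (Fin n ⊕ Fin n)) F).det = 1 := by
    intro x
    rw [det_eq_dickson hQ (hex_of_two h2 _),
      ((mem_commutator_iff hQ h2 (by omega) _).1 ((mem_omega_iff x.1).1 x.2)).1]
    simp
  have hcen : Subgroup.center (Cfsg.Omega F ⇑Q) = ⊥ := by
    refine Subgroup.eq_bot_of_card_eq _ ((card_center_omega hQ (by omega)).2 (Or.inl ?_))
    rintro ⟨x, hx, hx1⟩
    have h := hdet ⟨x, hx⟩
    rw [hx1, Matrix.det_neg, Matrix.det_one, mul_one] at h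
    have hc : Fintype.card (Unit ⊕ (Fin n ⊕ Fin n)) = 2 * n + 1 := by simp; omega
    rw [hc, pow_succ, pow_mul, neg_one_sq, one_pow, one_mul] at h
    exact h2 (by linear_combination -h)
  have hord : orderOf g = orderOf (QuotientGroup.mk' (Subgroup.center (Cfsg.Omega F ⇑Q)) g) := by
    refine (orderOf_injective _ ((MonoidHom.ker_eq_bot_iff _).1 ?_) g).symm
    rw [QuotientGroup.ker_mk', hcen]
  set g' := oEquiv Q g.1 with hg'
  have hg'ord : orderOf g' = p * (Fintype.card F ^ (n - 1) + 1) := by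
    rw [hg', MulEquiv.orderOf_eq, Subgroup.orderOf_coe, hord, hb]
  refine SpecBC.no_element p hp hn hQ hfr hcount g' ?_ ((mem_commutator_iff hQ h2 (by omega) _).1 ((mem_omega_iff g.1).1 g.2)).2
    (by rw [hg'ord, Nat.card_eq_fintype_card])
  rw [← hdet g, ← LinearMap.det_toLin']
  congr 1

end Cfsg.Agent.S2362
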