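import Cfsg.Statements.S2363
import Cfsg.Agent.S0243
import Cfsg.Agent.S0245
import Cfsg.Agent.S0246
import Cfsg.Agent.S0280
import Cfsg.Agent.S0292
import Cfsg.Agent.S0293
import Cfsg.Agent.S0294
import Cfsg.Agent.S0324
import Cfsg.Agent.S1059
import Cfsg.Agent.S1062
import Cfsg.Agent.S1063
import Cfsg.Agent.S1064
import Cfsg.Agent.S1065
import Cfsg.Agent.S1066
import Cfsg.Agent.S1067
import Cfsg.Agent.S1068
import Cfsg.Agent.S1069
import Cfsg.Agent.Suzuki.Basic

set_option autoImplicit false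
open Cfsg

namespace Cfsg.Agent.S2363

/-- The order bound from a formula c * |G| = q ^ N * R with c prime to q. -/
theorem core {p f q N M c R g : ℕ} (hp : p.Prime) (hq : q = p ^ f) (hf : f ≠ 0) (hg : g ≠ 0)
    (hc : c.Coprime q) (hcard : c * g = q ^ N * R) (hR : R < q ^ M) :
    f * N ≤ g.factorization p ∧ g < p ^ (f * (N + M)) ∧ g.factorization p ≤ R.factorization p + f * N := by
  have hq0 : 0 < q := hq ▸ pow_pos hp.pos f
  have h1 : q ^ N ∣ g := (Nat.Coprime.pow_left N hc.symm).dvd_of_dvd_mul_left ⟨R, hcard⟩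
  rw [hq, ← pow_mul] at h1
  have hc0 : c ≠ 0 := by
    rintro rfl
    rw [Nat.coprime_zero_left, hq] at hc
    rcases Nat.pow_eq_one.1 hc with h | h
    · exact hp.ne_one h
    · exact hf h
  refine ⟨(hp.pow_dvd_iff_le_factorization hg).1 h1, ?_, ?_⟩
  · rw [pow_mul, ← hq]
    calc g ≤ c * g := Nat.le_mul_of_pos_left _ (Nat.pos_of_ne_zero hc0)
      _ < q ^ N * q ^ M := hcard ▸ Nat.mul_lt_mul_of_pos_left hR (pow_pos hq0 N)
      _ = _ := (pow_add q N M).symm
  · have hR0 : R ≠ 0 := by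
      rintro rfl
      rw [mul_zero] at hcard
      exact (mul_ne_zero hc0 hg) hcard
    have hfac := congrArg (fun n => n.factorization p) hcard
    simp only [Nat.factorization_mul hc0 hg, Nat.factorization_mul (pow_ne_zero _ hq0.ne') hR0,
      Finsupp.add_apply] at hfac
    rw [hq, ← pow_mul, hp.factorization_pow, Finsupp.single_eq_same] at hfac
    omega

theorem gcd_coprime_of_dvd {n a q : ℕ} (h : ∀ d, d ∣ a → d ∣ q → d = 1) : (Nat.gcd n a).Coprime q :=
  h _ ((Nat.gcd_dvd_left _ q).trans (Nat.gcd_dvd_right n a)) (Nat.gcd_dvd_right _ q)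

theorem gcd_coprime_sub {n q m : ℕ} (hq : 0 < q) (hm : m ≠ 0) : (Nat.gcd n (q ^ m - 1)).Coprime q :=
  gcd_coprime_of_dvd fun d h1 h2 => by
    have h3 : d ∣ q ^ m := h2.trans (dvd_pow_self q hm)
    have h4 := Nat.dvd_sub h3 h1
    rw [Nat.sub_sub_self (Nat.one_le_pow _ _ hq)] at h4
    exact Nat.dvd_one.1 h4

theorem gcd_coprime_add {n q m : ℕ} (hm : m ≠ 0) : (Nat.gcd n (q ^ m + 1)).Coprime q :=
  gcd_coprime_of_dvd fun d h1 h2 => by
    have h3 : d ∣ q ^ m := h2.trans (dvd_pow_self q hm)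
    exact Nat.dvd_one.1 ((Nat.dvd_add_right h3).1 h1)

theorem gcd_coprime_sub_one {n q : ℕ} (hq : 0 < q) : (Nat.gcd n (q - 1)).Coprime q := by
  simpa using gcd_coprime_sub (n := n) (m := 1) hq one_ne_zero

theorem gcd_coprime_add_one {n q : ℕ} : (Nat.gcd n (q + 1)).Coprime q := by
  simpa using gcd_coprime_add (n := n) (q := q) (m := 1) one_ne_zero

/-- The two bounds. -/
def Goal (p g : ℕ) : Prop := g < p ^ (3 * g.factorization p) ∧ g ^ 3 < p ^ (8 * g.factorization p)

theorem goal_of {p f q N M c R g : ℕ} (hp : p.Prime) (hq : q = p ^ f) (hf : f ≠ 0) (hg : g ≠ 0)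
    (hc : c.Coprime q) (hcard : c * g = q ^ N * R) (hR : R < q ^ M) (hNM : 3 * M ≤ 5 * N) : Goal p g := by
  obtain ⟨hk, hlt, -⟩ := core hp hq hf hg hc hcard hR
  refine ⟨hlt.trans_le (Nat.pow_le_pow_right hp.pos ?_), ?_⟩
  · nlinarith
  · calc g ^ 3 < (p ^ (f * (N + M))) ^ 3 := Nat.pow_lt_pow_left hlt (by norm_num)
      _ ≤ _ := by
        rw [← pow_mul]
        exact Nat.pow_le_pow_right hp.pos (by nlinarith)

theorem prod_pos {q : ℕ} (hq : 2 ≤ q) (k : ℕ) (e : ℕ → ℕ) (he : ∀ i, e i ≠ 0) :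
    0 < ∏ i ∈ Finset.range k, (q ^ e i - 1) :=
  Finset.prod_pos fun i _ => Nat.sub_pos_of_lt (Nat.one_lt_pow (he i) hq)

theorem prod_le {q : ℕ} (k : ℕ) (e : ℕ → ℕ) :
    ∏ i ∈ Finset.range k, (q ^ e i - 1) ≤ q ^ ∑ i ∈ Finset.range k, e i := by
  rw [← Finset.prod_pow_eq_pow_sum]
  exact Finset.prod_le_prod (fun _ _ => Nat.zero_le _) fun i _ => Nat.sub_le _ _

theorem prod_lt {q : ℕ} (hq : 2 ≤ q) (k : ℕ) (e : ℕ → ℕ) :
    ∏ i ∈ Finset.range (k + 1), (q ^ e i - 1) < q ^ ∑ i ∈ Finset.range (k + 1), e i := by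
  rw [Finset.prod_range_succ, Finset.sum_range_succ, pow_add]
  calc _ ≤ (q ^ ∑ i ∈ Finset.range k, e i) * (q ^ e k - 1) := Nat.mul_le_mul_right _ (prod_le k e)
    _ < _ := Nat.mul_lt_mul_of_pos_left (Nat.sub_lt (pow_pos (by omega) _) one_pos) (pow_pos (by omega) _)

theorem sum_even (k : ℕ) : ∑ i ∈ Finset.range k, 2 * (i + 1) = k * (k + 1) := by
  induction k with
  | zero => rfl
  | succ k ih => rw [Finset.sum_range_succ, ih]; ring

theorem sum_succ2 (k : ℕ) : 2 * ∑ i ∈ Finset.range k, (i + 2) = k * (k + 3) := by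
  induction k with
  | zero => rfl
  | succ k ih => rw [Finset.sum_range_succ, mul_add, ih]; ring

theorem pair_lt {q a b : ℕ} (hq : 2 ≤ q) (hab : a ≤ b) : (q ^ a - 1) * (q ^ b + 1) < q ^ (a + b) := by
  obtain ⟨x, hx⟩ : ∃ x, q ^ a = x + 1 := ⟨q ^ a - 1, by have := Nat.one_le_pow a q (by omega); omega⟩
  have h2 : q ^ a ≤ q ^ b := Nat.pow_le_pow_right (by omega) hab
  rw [pow_add, hx, Nat.add_sub_cancel]
  nlinarith

theorem pair_lt' {q a b : ℕ} (hq : 2 ≤ q) (hab : a ≤ b) : (q ^ b + 1) * (q ^ a - 1) < q ^ (a + b) := by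
  rw [mul_comm]; exact pair_lt hq hab

theorem card_psl {F : Type} [Field F] [Fintype F] (n : ℕ) (hn : 2 ≤ n) :
    Nat.gcd n (Fintype.card F - 1) * Nat.card (Matrix.ProjectiveSpecialLinearGroup (Fin n) F) =
      Fintype.card F ^ (n * (n - 1) / 2) * ∏ i ∈ Finset.range (n - 1), (Fintype.card F ^ (i + 2) - 1) := by
  have hq : 2 ≤ Fintype.card F := Fintype.one_lt_card
  have h := S0243.result (F := F) rfl n hn
  have e : ∀ i : Fin n, Fintype.card F ^ n - Fintype.card F ^ (i : ℕ) =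
      Fintype.card F ^ (i : ℕ) * (Fintype.card F ^ (n - (i : ℕ)) - 1) := fun i => by
    rw [Nat.mul_sub, mul_one, ← pow_add, Nat.add_sub_cancel' i.2.le]
  rw [Finset.prod_congr rfl fun i _ => e i,
    Fin.prod_univ_eq_prod_range (fun i => Fintype.card F ^ i * (Fintype.card F ^ (n - i) - 1)),
    Finset.prod_mul_distrib, Finset.prod_pow_eq_pow_sum, Finset.sum_range_id,
    ← Finset.prod_range_reflect] at h
  obtain ⟨k, rfl⟩ : ∃ k, n = k + 1 := ⟨n - 1, by omega⟩
  rw [Finset.prod_range_succ', Finset.prod_congr rfl (g := fun i => Fintype.card F ^ (i + 2) - 1)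
    (fun i hi => by rw [Finset.mem_range] at hi; congr 2; omega)] at h
  rw [show k + 1 - (k + 1 - 1 - 0) = 1 by omega, pow_one] at h
  refine Nat.eq_of_mul_eq_mul_left (show 0 < Fintype.card F - 1 by omega) ?_
  rw [Nat.add_sub_cancel] at h ⊢
  linarith [h]

theorem psu_prod {q : ℕ} (hq : 2 ≤ q) (k : ℕ) :
    (Even k → ∏ i ∈ Finset.range k, (if Even i then q ^ (i + 2) - 1 else q ^ (i + 2) + 1) ≤
        q ^ ∑ i ∈ Finset.range k, (i + 2)) ∧
    (Odd k → ∃ P, ∏ i ∈ Finset.range k, (if Even i then q ^ (i + 2) - 1 else q ^ (i + 2) + 1) =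
        P * (q ^ (k + 1) - 1) ∧ P ≤ q ^ ∑ i ∈ Finset.range (k - 1), (i + 2)) := by
  induction k with
  | zero => simp
  | succ k ih =>
    refine ⟨fun h => ?_, fun h => ?_⟩
    · have hk : Odd k := by
        rcases Nat.even_or_odd k with h1 | h1
        · exact absurd h (Nat.not_even_iff_odd.2 (Even.add_one h1))
        · exact h1
      obtain ⟨P, e, hP⟩ := ih.2 hk
      rw [Finset.prod_range_succ, e, if_neg (Nat.not_even_iff_odd.2 hk), Finset.sum_range_succ]
      obtain ⟨j, rfl⟩ : ∃ j, k = j + 1 := ⟨k - 1, by have := hk.pos; omega⟩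
      rw [Nat.add_sub_cancel] at hP
      rw [Finset.sum_range_succ, mul_assoc]
      refine (Nat.mul_le_mul hP (pair_lt hq (show j + 1 + 1 ≤ j + 1 + 2 by omega)).le).trans (le_of_eq ?_)
      rw [← pow_add]; congr 1; omega
    · have hk : Even k := by
        rcases Nat.even_or_odd k with h1 | h1
        · exact h1
        · exact absurd (Odd.add_one h1) (Nat.not_even_iff_odd.2 h)
      exact ⟨_, by rw [Finset.prod_range_succ, if_pos hk], by simpa using ih.1 hk⟩

theorem psu_lt {q : ℕ} (hq : 2 ≤ q) {k : ℕ} (hk : 2 ≤ k) :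
    ∏ i ∈ Finset.range k, (if Even i then q ^ (i + 2) - 1 else q ^ (i + 2) + 1) <
      q ^ ∑ i ∈ Finset.range k, (i + 2) := by
  rcases Nat.even_or_odd k with h | h
  · obtain ⟨j, rfl⟩ : ∃ j, k = j + 2 := ⟨k - 2, by omega⟩
    have hj : Even j := by simpa [parity_simps] using h
    rw [Finset.prod_range_succ, Finset.prod_range_succ, if_pos hj,
      if_neg (Nat.not_even_iff_odd.2 hj.add_one), Finset.sum_range_succ, Finset.sum_range_succ, mul_assoc]
    refine (Nat.mul_le_mul_right _ ((psu_prod hq j).1 hj)).trans_lt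
      (lt_of_lt_of_eq (Nat.mul_lt_mul_of_pos_left (pair_lt hq (show j + 2 ≤ j + 1 + 2 by omega)) (pow_pos (by omega) _)) ?_)
    rw [← pow_add]; congr 1; omega
  · obtain ⟨P, e, hP⟩ := (psu_prod hq k).2 h
    obtain ⟨j, rfl⟩ : ∃ j, k = j + 1 := ⟨k - 1, by omega⟩
    rw [Nat.add_sub_cancel] at hP
    rw [e, Finset.sum_range_succ]
    refine (Nat.mul_le_mul_right _ hP).trans_lt
      (lt_of_lt_of_eq (Nat.mul_lt_mul_of_pos_left (Nat.sub_lt (pow_pos (by omega) _) one_pos) (pow_pos (by omega) _)) ?_)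
    rw [← pow_add]

theorem exists_pow {F : Type} [Field F] [Fintype F] {p : ℕ} (hp : p.Prime) [CharP F p] :
    ∃ f, f ≠ 0 ∧ Fintype.card F = p ^ f := by
  haveI := Fact.mk hp
  obtain ⟨n, -, h⟩ := FiniteField.card F p
  exact ⟨n, n.ne_zero, h⟩

theorem exists_pow_root {p q e f : ℕ} (hp : p.Prime) (he : e ≠ 0) (hf : f ≠ 0) (h : q ^ e = p ^ f) :
    ∃ g, g ≠ 0 ∧ q = p ^ g := by
  obtain ⟨g, -, hg⟩ := (Nat.dvd_prime_pow hp).1 (h ▸ dvd_pow_self q he)
  refine ⟨g, ?_, hg⟩
  rintro rfl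
  rw [pow_zero] at hg
  subst hg
  rw [one_pow] at h
  rcases Nat.pow_eq_one.1 h.symm with h | h
  · exact hp.ne_one h
  · exact hf h

theorem card_congr' {G : Type*} {H : Type*} [Group G] [Group H] (e : G ≃* H) : Nat.card G = Nat.card H :=
  Nat.card_congr e.toEquiv

/-- The Borel–Tits-free order bound. -/
theorem main {G : Type*} [Group G] [Finite G] (p : ℕ) (hp : p.Prime) (hG : Cfsg.IsLieTypeChar p G) :
    Nat.card G < p ^ (3 * (Nat.card G).factorization p) ∧
      ((¬ ∃ (F : Type) (_ : Field F) (_ : Fintype F), Fintype.card F = p ^ (Nat.card G).factorization p ∧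
          Nonempty (G ≃* Matrix.ProjectiveSpecialLinearGroup (Fin 2) F)) →
        Nat.card G ^ 3 < p ^ (8 * (Nat.card G).factorization p)) := by
  have hg : Nat.card G ≠ 0 := Nat.card_pos.ne'
  have done : Goal p (Nat.card G) → Nat.card G < p ^ (3 * (Nat.card G).factorization p) ∧
      ((¬ ∃ (F : Type) (_ : Field F) (_ : Fintype F), Fintype.card F = p ^ (Nat.card G).factorization p ∧
          Nonempty (G ≃* Matrix.ProjectiveSpecialLinearGroup (Fin 2) F)) →
        Nat.card G ^ 3 < p ^ (8 * (Nat.card G).factorization p)) := fun h => ⟨h.1, fun _ => h.2⟩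
  rcases hG with ⟨F, _, _, _, n, hn, -, ⟨e⟩⟩ | ⟨F, _, _, _, m, hm, -, ⟨e⟩⟩ | ⟨F, _, _, _, n, q, hF, hn, -, ⟨e⟩⟩ |
    ⟨F, _, _, _, m, hm, hodd, ⟨e⟩⟩ | ⟨F, _, _, _, m, hm, ⟨e⟩⟩ | ⟨F, _, _, _, m, a, b, hm, hab, ⟨e⟩⟩ |
    ⟨F, _, _, _, hcase⟩ | ⟨K, _, _, _, q, hq, hcase⟩ | ⟨rfl, F, _, _, m, hm, hF, ⟨e⟩⟩ |
    ⟨rfl, F, _, _, m, hm, hF, ⟨e⟩⟩ | ⟨rfl, F, _, _, m, hm, hF, ⟨e⟩⟩
  -- linear
  · obtain ⟨f, hf, hq⟩ := exists_pow (F := F) hp
    have hq2 : 2 ≤ Fintype.card F := Fintype.one_lt_card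
    have hc := gcd_coprime_sub_one (n := n) (q := Fintype.card F) (by omega)
    have h := card_psl (F := F) n hn
    rw [← card_congr' e] at h
    rcases eq_or_lt_of_le hn with rfl | hn3
    · obtain ⟨hk1, hlt, hk2⟩ := core hp hq hf hg hc h (prod_lt hq2 0 (fun i => i + 2))
      norm_num at hk1 hlt hk2
      have hnd : (Fintype.card F ^ 2 - 1).factorization p = 0 := Nat.factorization_eq_zero_of_not_dvd fun hd => by
        have h3 : p ∣ Fintype.card F ^ 2 := (hq ▸ dvd_pow_self p hf).trans (dvd_pow_self _ two_ne_zero)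
        have h4 := Nat.dvd_sub h3 hd
        rw [Nat.sub_sub_self (Nat.one_le_pow _ _ (by omega))] at h4
        exact hp.not_dvd_one h4
      have hkf : (Nat.card G).factorization p = f := by omega
      refine ⟨hlt.trans_le (Nat.pow_le_pow_right hp.pos (by omega)), fun hne => ?_⟩
      exact absurd ⟨F, inferInstance, inferInstance, by rw [hq, hkf], ⟨e⟩⟩ hne
    · obtain ⟨j, rfl⟩ : ∃ j, n = j + 3 := ⟨n - 3, by omega⟩
      rw [show j + 3 - 1 = j + 2 by omega] at h
      refine done (goal_of hp hq hf hg hc h (prod_lt hq2 (j + 1) (fun i => i + 2)) ?_)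
      have hs := sum_succ2 (j + 2)
      have hd : 2 ∣ (j + 3) * (j + 2) := by
        rw [mul_comm]; exact (Nat.even_mul_succ_self (j + 2)).two_dvd
      have h2 := Nat.mul_div_cancel' hd
      nlinarith
  -- symplectic
  · obtain ⟨f, hf, hq⟩ := exists_pow (F := F) hp
    have hq2 : 2 ≤ Fintype.card F := Fintype.one_lt_card
    have h := S0245.result (F := F) rfl m
    rw [(Subgroup.center (Matrix.symplecticGroup (Fin m) F)).card_eq_card_quotient_mul_card_subgroup,
      S0246.result (F := F) rfl m (by omega), ← card_congr' e, mul_comm] at h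
    obtain ⟨k, rfl⟩ : ∃ k, m = k + 1 := ⟨m - 1, by omega⟩
    refine done (goal_of hp hq hf hg (gcd_coprime_sub_one (by omega)) h (prod_lt hq2 k _) ?_)
    rw [sum_even]
    nlinarith
  -- unitary
  · obtain ⟨f0, hf0, hq0⟩ := exists_pow (F := F) hp
    obtain ⟨f, hf, hq⟩ := exists_pow_root hp two_ne_zero hf0 (hF.symm.trans hq0)
    have hq2 : 2 ≤ q := hq ▸ le_trans hp.two_le (Nat.le_self_pow hf p)
    obtain ⟨k, rfl⟩ : ∃ k, n = k + 1 := ⟨n - 1, by omega⟩
    have h := S0280.result hF (k + 1) (by omega)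
    rw [← card_congr' e, Finset.prod_range_succ', Finset.prod_congr rfl
      (g := fun i => if Even i then q ^ (i + 2) - 1 else q ^ (i + 2) + 1)
      (fun i _ => by rcases Nat.even_or_odd i with hi | hi <;> simp [hi, parity_simps])] at h
    simp only [Even.zero, if_true, zero_add, pow_one] at h
    have h' : Nat.gcd (k + 1) (q + 1) * Nat.card G = q ^ ((k + 1) * (k + 1 - 1) / 2) *
        ∏ i ∈ Finset.range k, if Even i then q ^ (i + 2) - 1 else q ^ (i + 2) + 1 :=
      Nat.eq_of_mul_eq_mul_left (show 0 < q + 1 by omega) (by linarith [h])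
    refine done (goal_of hp hq hf hg gcd_coprime_add_one h' (psu_lt hq2 (by omega)) ?_)
    have hs := sum_succ2 k
    rw [Nat.add_sub_cancel]
    have h2 := Nat.mul_div_cancel' (show 2 ∣ (k + 1) * k by rw [mul_comm]; exact (Nat.even_mul_succ_self k).two_dvd)
    nlinarith
  -- orthogonal, odd dimension
  · obtain ⟨f, hf, hq⟩ := exists_pow (F := F) hp
    have hq2 : 2 ≤ Fintype.card F := Fintype.one_lt_card
    have h := S0292.result (F := F) rfl hodd m hm
    rw [← card_congr' e] at h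
    obtain ⟨k, rfl⟩ : ∃ k, m = k + 1 := ⟨m - 1, by omega⟩
    refine done (goal_of hp hq hf hg (Nat.coprime_two_left.2 hodd) h (prod_lt hq2 k _) ?_)
    rw [sum_even]
    nlinarith
  -- orthogonal, plus type
  · obtain ⟨f, hf, hq⟩ := exists_pow (F := F) hp
    have hq2 : 2 ≤ Fintype.card F := Fintype.one_lt_card
    have h := S0293.result (F := F) rfl m hm
    rw [← card_congr' e, mul_assoc] at h
    obtain ⟨k, rfl⟩ : ∃ k, m = k + 1 := ⟨m - 1, by omega⟩
    rw [Nat.add_sub_cancel] at h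
    refine done (goal_of (M := (k + 1) + k * (k + 1)) hp hq hf hg (gcd_coprime_sub (m := k + 1) (Nat.zero_lt_of_lt hq2) k.succ_ne_zero) h ?_ (by nlinarith))
    rw [pow_add (Fintype.card F) (k + 1) (k * (k + 1))]
    refine Nat.mul_lt_mul_of_lt_of_le (Nat.sub_lt (pow_pos (by omega) _) one_pos) ?_ (pow_pos (by omega) _)
    rw [← sum_even]
    exact prod_le k _
  -- orthogonal, minus type
  · obtain ⟨f, hf, hq⟩ := exists_pow (F := F) hp
    have hq2 : 2 ≤ Fintype.card F := Fintype.one_lt_card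
    have h := S0294.result (F := F) rfl m hm a b hab
    rw [← card_congr' e, mul_assoc] at h
    obtain ⟨k, rfl⟩ : ∃ k, m = k + 2 := ⟨m - 2, by omega⟩
    rw [show k + 2 - 1 = k + 1 by omega, Finset.prod_range_succ', mul_left_comm] at h
    refine done (goal_of (M := k * (k + 3) + (2 + (k + 2))) hp hq hf hg (gcd_coprime_add (m := k + 2) (k + 1).succ_ne_zero)
      (N := (k + 2) * (k + 1))
      (R := (∏ i ∈ Finset.range k, (Fintype.card F ^ (2 * (i + 1 + 1)) - 1)) * ((Fintype.card F ^ (k + 2) + 1) * (Fintype.card F ^ (2 * (0 + 1)) - 1)))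
      (by rw [h]; ring) ?_
      (show 3 * _ ≤ 5 * ((k + 2) * (k + 1)) by nlinarith))
    rw [pow_add (Fintype.card F) (k * (k + 3)) (2 + (k + 2))]
    refine Nat.mul_lt_mul_of_le_of_lt ?_ (pair_lt' hq2 (by omega)) (pow_pos (by omega) _)
    refine (prod_le k _).trans (le_of_eq (congrArg _ ?_))
    calc ∑ i ∈ Finset.range k, 2 * (i + 1 + 1) = 2 * ∑ i ∈ Finset.range k, (i + 2) := (Finset.mul_sum _ _ _).symm
      _ = _ := sum_succ2 k
  -- exceptional Chevalley
  · obtain ⟨f, hf, hq⟩ := exists_pow (F := F) hp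
    have hq2 : 2 ≤ Fintype.card F := Fintype.one_lt_card
    have hpos : ∀ a, 0 < Fintype.card F ^ a := fun a => pow_pos (by omega) _
    have hl : ∀ a, Fintype.card F ^ a - 1 < Fintype.card F ^ a := fun a => Nat.sub_lt (hpos a) one_pos
    rcases hcase with ⟨-, ⟨e⟩⟩ | ⟨⟨e⟩⟩ | ⟨⟨e⟩⟩ | ⟨⟨e⟩⟩ | ⟨⟨e⟩⟩
    · have h := S1059.result (F := F) rfl
      simp only [← card_congr' e, mul_assoc] at h
      refine done (goal_of (M := 2 + 6) hp hq hf hg (Nat.coprime_one_left _) (by rw [one_mul]; exact h) ?_ (by norm_num))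
      rw [pow_add]; gcongr <;> exact hl _
    · have h := S1062.result (F := F) rfl
      simp only [← card_congr' e, mul_assoc] at h
      refine done (goal_of (M := 2 + (6 + (8 + 12))) hp hq hf hg (Nat.coprime_one_left _) (by rw [one_mul]; exact h) ?_ (by norm_num))
      simp only [pow_add]; gcongr <;> exact hl _
    · have h := S1063.result (F := F) rfl
      simp only [← card_congr' e, mul_assoc] at h
      refine done (goal_of (M := 2 + (5 + (6 + (8 + (9 + 12))))) hp hq hf hg (gcd_coprime_sub_one (by omega)) h ?_ (by norm_num))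
      simp only [pow_add]; gcongr <;> exact hl _
    · have h := S1064.result (F := F) rfl
      simp only [← card_congr' e, mul_assoc] at h
      refine done (goal_of (M := 2 + (6 + (8 + (10 + (12 + (14 + 18)))))) hp hq hf hg (gcd_coprime_sub_one (by omega)) h ?_ (by norm_num))
      simp only [pow_add]; gcongr <;> exact hl _
    · have h := S1065.result (F := F) rfl
      simp only [← card_congr' e, mul_assoc] at h
      refine done (goal_of (M := 2 + (8 + (12 + (14 + (18 + (20 + (24 + 30))))))) hp hq hf hg (Nat.coprime_one_left _) (by rw [one_mul]; exact h) ?_ (by norm_num))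
      simp only [pow_add]; gcongr <;> exact hl _
  -- twisted E6, D4
  · obtain ⟨f0, hf0, hq0⟩ := exists_pow (F := K) hp
    rcases hcase with ⟨hK, ⟨e⟩⟩ | ⟨hK, ⟨e⟩⟩
    · obtain ⟨f, hf, hqe⟩ := exists_pow_root hp two_ne_zero hf0 (hK.symm.trans hq0)
      have hq2 : 2 ≤ q := hq.two_le
      have h := S1066.result hq hK
      rw [← card_congr' e] at h
      refine done (goal_of (N := 36) (M := ((2 + 5) + 6) + ((8 + 9) + 12)) hp hqe hf hg gcd_coprime_add_one
        (R := ((q ^ 2 - 1) * (q ^ 5 + 1) * (q ^ 6 - 1)) * ((q ^ 8 - 1) * (q ^ 9 + 1) * (q ^ 12 - 1)))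
        (by rw [h]; ring) ?_ (by norm_num))
      have hpos : ∀ a, 0 < q ^ a := fun a => pow_pos (by omega) _
      rw [pow_add, pow_add, pow_add _ (8 + 9)]
      gcongr <;> first | exact pair_lt hq2 (by norm_num) | exact Nat.sub_lt (hpos _) one_pos
    · obtain ⟨f, hf, hqe⟩ := exists_pow_root hp (show (3 : ℕ) ≠ 0 by norm_num) hf0 (hK.symm.trans hq0)
      have hq2 : 2 ≤ q := hq.two_le
      have h := S1067.result hq hK
      rw [← card_congr' e] at h
      refine done (goal_of (N := 12) (M := (2 + 6) + 9) hp hqe hf hg (Nat.coprime_one_left _)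
        (R := ((q ^ 2 - 1) * (q ^ 6 - 1)) * (q ^ 8 + q ^ 4 + 1))
        (by rw [one_mul, h]; ring) ?_ (by norm_num))
      have hpos : ∀ a, 0 < q ^ a := fun a => pow_pos (by omega) _
      rw [pow_add, pow_add]
      refine Nat.mul_lt_mul_of_lt_of_le ?_ ?_ (hpos 9)
      · gcongr <;> exact Nat.sub_lt (hpos _) one_pos
      · have h4 : q ^ 4 + 1 ≤ q ^ 8 := lt_of_lt_of_le (Nat.pow_lt_pow_right hq2 (by norm_num : 4 < 8)) le_rfl
        have h9 : q ^ 9 = q * q ^ 8 := by ring
        have h10 : 2 * q ^ 8 ≤ q * q ^ 8 := Nat.mul_le_mul_right _ hq2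
        omega
  -- Suzuki
  · obtain ⟨eS⟩ := Suzuki.nonempty_equiv (F := F) hm hF
    have h := S0324.result hm hF
    rw [← card_congr' (e.trans eS.symm), mul_assoc] at h
    have hq2 : 2 ≤ 2 ^ (2 * m + 1) := Nat.le_self_pow (by omega) 2
    refine done (goal_of (f := 2 * m + 1) (N := 2) (M := 1 + 2) hp rfl (by omega) hg (Nat.coprime_one_left _)
      (by rw [one_mul]; exact h) ?_ (by norm_num))
    simpa [mul_comm] using pair_lt hq2 (show 1 ≤ 2 by norm_num)
  -- large Ree
  · have h := S1068.result hF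
    rw [← card_congr' e] at h
    have hq2 : 2 ≤ 2 ^ (2 * m + 1) := Nat.le_self_pow (by omega) 2
    generalize hqd : 2 ^ (2 * m + 1) = q at h hq2
    refine done (goal_of (q := q) (N := 12) (M := (1 + 3) + (4 + 6)) (c := 1) (f := 2 * m + 1)
      (R := ((q ^ 1 - 1) * (q ^ 3 + 1)) * ((q ^ 4 - 1) * (q ^ 6 + 1))) hp hqd.symm (by omega) hg
      (Nat.coprime_one_left _) (by rw [one_mul, h, pow_one]; ring) ?_ (by norm_num))
    rw [pow_add]
    gcongr <;> exact pair_lt hq2 (by norm_num)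
  -- small Ree
  · have h := S1069.result hF
    rw [← card_congr' e, mul_assoc] at h
    have hq2 : 2 ≤ 3 ^ (2 * m + 1) := le_trans (by norm_num) (Nat.le_self_pow (show 2 * m + 1 ≠ 0 by omega) 3)
    refine done (goal_of (f := 2 * m + 1) (N := 3) (M := 1 + 3) hp rfl (by omega) hg (Nat.coprime_one_left _)
      (by rw [one_mul]; exact h) ?_ (by norm_num))
    simpa using pair_lt hq2 (show 1 ≤ 3 by norm_num)

/-- Let G be a finite simple group of Lie type in characteristic p and let p^k be the exact power of p dividing the order of G. Then the order of G is less than p^(3k); and unless G is isomorphic to PSL(2, F) for the field F with p^k elements, the cube of the order of G is less than p^(8k) (that is, the order is below p^(8k/3)). -/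
theorem result {G : Type*} [Group G] [Finite G] (p : ℕ) (hp : p.Prime) (hG : Cfsg.IsLieTypeChar p G) :
    Nat.card G < p ^ (3 * (Nat.card G).factorization p) ∧
      ((¬ ∃ (F : Type) (_ : Field F) (_ : Fintype F), Fintype.card F = p ^ (Nat.card G).factorization p ∧
          Nonempty (G ≃* Matrix.ProjectiveSpecialLinearGroup (Fin 2) F)) →
        Nat.card G ^ 3 < p ^ (8 * (Nat.card G).factorization p)) :=
  main p hp hG

end Cfsg.Agent.S2363
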