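import Cfsg.Statements.S2364
import Cfsg.Agent.PSLCent.Linear
-- import your own Cfsg.Agent.* helpers here

set_option autoImplicit false
open Cfsg

namespace Cfsg.Agent.S2364

/-- Let F be a finite field of characteristic p, n ≥ 4, and let a, b be commuting elements of PSL(n, F) with a of order p. Then every prime divisor of the order of b divides the order of SL(n − 2, F). -/
theorem result {F : Type*} [Field F] [Fintype F] (p : ℕ) [Fact p.Prime] [CharP F p] (n : ℕ) (hn : 4 ≤ n)
    (a b : Matrix.ProjectiveSpecialLinearGroup (Fin n) F) (ha : orderOf a = p) (hab : Commute a b) :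
    (orderOf b).primeFactors ⊆ (Nat.card (Matrix.SpecialLinearGroup (Fin (n - 2)) F)).primeFactors := by
  classical
  intro r hr
  rw [Nat.mem_primeFactors] at hr ⊢
  obtain ⟨hr, hrb, -⟩ := hr
  refine ⟨hr, ?_, Nat.card_pos.ne'⟩
  by_contra hno
  have hrd : ¬ r ∣ Nat.card (GL (Fin (n - 2)) F) := fun h =>
    hno (PSLCent.dvd_card_sl_of_dvd_card_gl hr (by omega) h)
  obtain ⟨k, hpr, hk⟩ := FiniteField.card F p
  have hpq : p ∣ Fintype.card F := hk ▸ dvd_pow_self p k.pos.ne'
  have hrp : r ≠ p := by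
    rintro rfl
    refine hrd ?_
    rw [Matrix.card_GL_field]
    refine dvd_trans ?_ (Finset.dvd_prod_of_mem _ (Finset.mem_univ (⟨1, by omega⟩ : Fin (n - 2))))
    exact Nat.dvd_sub (hpq.trans (dvd_pow_self _ (by omega))) (hpq.trans (dvd_pow_self _ one_ne_zero))
  have : Nonempty (Fin n) := ⟨⟨0, by omega⟩⟩
  have hZ : (Nat.card (Subgroup.center (Matrix.SpecialLinearGroup (Fin n) F))).Coprime p := by
    rw [Classical.card_center_sl]
    refine (Nat.Coprime.coprime_dvd_left (Nat.gcd_dvd_right _ _) ?_)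
    refine (hpr.coprime_iff_not_dvd.2 fun h => hpr.ne_one ?_).symm
    have h1 : 1 ≤ Fintype.card F := Fintype.card_pos
    have h2 := Nat.dvd_sub hpq h
    rw [Nat.sub_sub_self h1] at h2
    exact Nat.dvd_one.1 h2
  obtain ⟨u, B, hu, hup, hB, hc⟩ := PSLCent.exists_lift hZ hr ha hrb hab
  have h1 := PSLCent.no_commuting_pair p hn hr hrp hrd (u : Matrix (Fin n) (Fin n) F) B
    (fun h => hu (Subtype.ext h))
    (by rw [← Matrix.SpecialLinearGroup.coe_pow, hup, Matrix.SpecialLinearGroup.coe_one])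
    (by rw [← Matrix.SpecialLinearGroup.coe_pow, ← hB, pow_orderOf_eq_one,
      Matrix.SpecialLinearGroup.coe_one])
    (congrArg (fun z : Matrix.SpecialLinearGroup (Fin n) F => (z : Matrix (Fin n) (Fin n) F)) hc.eq)
  have h2 : B = 1 := Subtype.ext h1
  rw [h2, orderOf_one] at hB
  exact hr.one_lt.ne hB

end Cfsg.Agent.S2364
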