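import Cfsg.Statements.S2365
import Cfsg.Agent.PSLCent.Unitary
-- import your own Cfsg.Agent.* helpers here

set_option autoImplicit false
open Cfsg

namespace Cfsg.Agent.S2365

/-- Let q be a power of the prime p, F the field with q² elements, m ≥ 4, and let a, b be commuting elements of PSU(m, q) with a of order p. Then every prime divisor of the order of b divides the order of SU(m − 2, q). -/
theorem result {F : Type*} [Field F] [Fintype F] (p : ℕ) [Fact p.Prime] [CharP F p] (m q : ℕ) (hm : 4 ≤ m) (hF : Fintype.card F = q ^ 2)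
    (a b : Cfsg.PSU m F q) (ha : orderOf a = p) (hab : Commute a b) :
    (orderOf b).primeFactors ⊆ (Nat.card ↥(Cfsg.SU (m - 2) F q)).primeFactors := by
  classical
  intro r hr
  rw [Nat.mem_primeFactors] at hr ⊢
  obtain ⟨hr, hrb, -⟩ := hr
  refine ⟨hr, ?_, Nat.card_pos.ne'⟩
  by_contra hno
  obtain ⟨σ, hσq, hσ, hfix, hq1⟩ := Classical.exists_powHom hF
  have hrd : ¬ r ∣ Nat.card (Cfsg.GU (m - 2) F q) := fun h =>
    hno (PSLCent.dvd_card_su_of_dvd_card_gu hσ hσq hfix hr (by omega) h)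
  obtain ⟨k, hpr, hk⟩ := FiniteField.card F p
  have hpq : p ∣ q := hpr.dvd_of_dvd_pow (show p ∣ q ^ 2 by rw [← hF, hk]; exact dvd_pow_self p k.pos.ne')
  have hrp : r ≠ p := by
    rintro rfl
    refine hrd ?_
    rw [Classical.card_GU_formula hσ hσq hfix]
    refine Dvd.dvd.mul_right (hpq.trans (dvd_pow_self _ ?_)) _
    have h2 : 2 * 1 ≤ (m - 2) * (m - 2 - 1) := Nat.mul_le_mul (by omega) (by omega)
    omega
  have hZ : (Nat.card (Subgroup.center (Cfsg.SU m F q))).Coprime p := by
    rw [Classical.card_center_SU hσ hσq hfix (by omega)]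
    refine (Nat.Coprime.coprime_dvd_left (Nat.gcd_dvd_right _ _) ?_)
    refine (hpr.coprime_iff_not_dvd.2 fun h => hpr.ne_one ?_).symm
    exact Nat.dvd_one.1 ((Nat.dvd_add_right hpq).1 h)
  obtain ⟨u, B, hu, hup, hB, hc⟩ := PSLCent.exists_lift hZ hr ha hrb hab
  let φ : Cfsg.SU m F q →* Matrix (Fin m) (Fin m) F :=
    (Cfsg.slToMat m F).comp (Cfsg.SU m F q).subtype
  have hφ : Function.Injective φ := fun x y h => Subtype.ext (Subtype.ext h)
  have h1 := PSLCent.no_commuting_pair_unitary hσ hσq hfix p hm hr hrp hrd (φ u) (φ B)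
    ((Classical.mem_SU_iff hσq u.1).1 u.2) ((Classical.mem_SU_iff hσq B.1).1 B.2)
    (fun h => hu (hφ (h.trans (map_one φ).symm)))
    (by rw [← map_pow, hup, map_one])
    (by rw [← map_pow, ← hB, pow_orderOf_eq_one, map_one])
    (hc.map φ)
  have h2 : B = 1 := hφ (h1.trans (map_one φ).symm)
  rw [h2, orderOf_one] at hB
  exact hr.one_lt.ne hB

end Cfsg.Agent.S2365
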