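import Cfsg.Statements.S2366
import Cfsg.Agent.PSUThree.Lower

set_option autoImplicit false
open Cfsg

namespace Cfsg.Agent.S2366

theorem result {F : Type*} [Field F] [Fintype F] (p : ℕ) [Fact p.Prime] [CharP F p] (hp : p ≠ 2) (q : ℕ) (hF : Fintype.card F = q ^ 2) :
    Set.range (orderOf : Cfsg.PSU 3 F q → ℕ) =
      {s : ℕ | s ∣ q + 1} ∪ {s : ℕ | s ∣ p * (q + 1) / Nat.gcd 3 (q + 1)} ∪
        {s : ℕ | s ∣ (q ^ 2 - 1) / Nat.gcd 3 (q + 1)} ∪ {s : ℕ | s ∣ (q ^ 2 - q + 1) / Nat.gcd 3 (q + 1)} := by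
  have hdiv : ∀ {N s : ℕ}, (∃ x : Cfsg.PSU 3 F q, orderOf x = N) → N ≠ 0 → s ∣ N →
      ∃ x : Cfsg.PSU 3 F q, orderOf x = s := by
    rintro N s ⟨x, rfl⟩ hN ⟨r, hr⟩
    have hr0 : r ≠ 0 := fun h => hN (by rw [hr, h, mul_zero])
    refine ⟨x ^ r, ?_⟩
    rw [orderOf_pow' x hr0, hr, Nat.gcd_mul_left_left, Nat.mul_div_cancel _ (Nat.pos_of_ne_zero hr0)]
  ext s
  simp only [Set.mem_range, Set.mem_union, Set.mem_ofPred_eq]
  constructor
  · rintro ⟨x, rfl⟩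
    rcases PSUThree.order_mem p hp hF x with h | h | h | h
    · exact Or.inl (Or.inl (Or.inl h))
    · exact Or.inl (Or.inl (Or.inr h))
    · exact Or.inl (Or.inr h)
    · exact Or.inr h
  · haveI : Finite (Cfsg.PSU 3 F q) := inferInstance
    have hne : ∀ x : Cfsg.PSU 3 F q, orderOf x ≠ 0 := fun x => (orderOf_pos x).ne'
    rintro (((h | h) | h) | h)
    · obtain ⟨x, hx⟩ := PSUThree.exists_q_add_one hF
      exact hdiv ⟨x, hx⟩ (Nat.succ_ne_zero q) h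
    · obtain ⟨x, hx⟩ := PSUThree.exists_mixed p hp hF
      exact hdiv ⟨x, hx⟩ (hx ▸ hne x) h
    · obtain ⟨x, hx⟩ := PSUThree.exists_torus hF
      exact hdiv ⟨x, hx⟩ (hx ▸ hne x) h
    · obtain ⟨x, hx⟩ := PSUThree.exists_singer hF
      exact hdiv ⟨x, hx⟩ (hx ▸ hne x) h

end Cfsg.Agent.S2366
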