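import Cfsg.Statements.S2367

set_option autoImplicit false
open Cfsg

namespace Cfsg.Agent.S2367

theorem fact_aux {p : ℕ} (hp : p.Prime) : (Nat.factorial (3 * p - 1)).factorization p + 1 + (if p = 3 then 1 else 0) = (Nat.factorial 3).factorization p + 3 := by
  have h1 : (Nat.factorial (p * 3)).factorization p = (Nat.factorial 3).factorization p + 3 :=
    Nat.factorization_factorial_mul hp
  have h2 : Nat.factorial (p * 3) = (3 * p) * Nat.factorial (3 * p - 1) := by
    rw [mul_comm p 3, Nat.mul_factorial_pred (by have := hp.pos; omega)]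
  rw [h2, Nat.factorization_mul (by have := hp.pos; omega) (Nat.factorial_ne_zero _), Finsupp.add_apply,
    Nat.factorization_mul (by norm_num) hp.ne_zero, Finsupp.add_apply, hp.factorization_self] at h1
  by_cases h : p = 3
  · subst h
    have : (3 : ℕ).factorization 3 = 1 := hp.factorization_self
    rw [if_pos rfl]
    linarith
  · have : (3 : ℕ).factorization p = 0 :=
      Nat.factorization_eq_zero_of_not_dvd fun hd => h ((Nat.prime_dvd_prime_iff_eq hp Nat.prime_three).1 hd)
    rw [if_neg h]
    omega

theorem fact_mono {p m n : ℕ} (h : m ≤ n) :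
    (Nat.factorial m).factorization p ≤ (Nat.factorial n).factorization p :=
  (Nat.factorization_le_iff_dvd (Nat.factorial_ne_zero _) (Nat.factorial_ne_zero _)).2
    (Nat.factorial_dvd_factorial h) p

theorem two_part (n : ℕ) : n / 2 + n / 2 / 2 ≤ (Nat.factorial n).factorization 2 := by
  have h1 := fact_mono (p := 2) (show 2 * (n / 2) ≤ n by omega)
  have h2 := fact_mono (p := 2) (show 2 * (n / 2 / 2) ≤ n / 2 by omega)
  rw [Nat.factorization_factorial_mul Nat.prime_two] at h1 h2
  omega

theorem cube_lt : ∀ p : ℕ, 5 ≤ p → p ^ 3 < 2 ^ (2 * p - 1) := by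
  refine Nat.le_induction (by norm_num) ?_
  intro p hp ih
  rw [show 2 * (p + 1) - 1 = (2 * p - 1) + 2 by omega, pow_add]
  have h4 : (p + 1) ^ 3 < 4 * p ^ 3 := by nlinarith [Nat.mul_le_mul_left (p * p) hp, Nat.mul_le_mul_left p hp]
  omega

/-- Check for odd primes below 72 whose cube exactly divides `N`. -/
def table (N : ℕ) : Bool :=
  (List.range 72).all fun q => !(N % q ^ 3 == 0) || q == 2 || N % q ^ 4 == 0 ||
    (List.range q).any (fun d => decide (2 ≤ d) && q % d == 0) ||
    (List.range 22).any (fun k => decide (q ^ 3 < 2 ^ k) && N % 2 ^ k == 0)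

theorem of_table {N p : ℕ} (hp : p.Prime) (hodd : p ≠ 2) (hN : N ≠ 0) (h3 : N.factorization p = 3)
    (hdvd : N ∣ Nat.factorial 71)
    (htab : table N = true) :
    p ^ 3 < 2 ^ N.factorization 2 := by
  have hd : p ^ 3 ∣ N := (hp.pow_dvd_iff_le_factorization hN).2 h3.ge
  have hle : p ≤ 71 := (hp.dvd_factorial).1 (((dvd_pow_self p (by norm_num)).trans hd).trans hdvd)
  have h := List.all_eq_true.1 htab p (List.mem_range.2 (by omega))
  simp only [Bool.or_eq_true, Bool.not_eq_true', beq_eq_false_iff_ne, beq_iff_eq, List.any_eq_true,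
    List.mem_range, Bool.and_eq_true, decide_eq_true_eq, ← Nat.dvd_iff_mod_eq_zero] at h
  rcases h with (((h | h) | h) | ⟨d, hdp, hd2, hdd⟩) | ⟨k, -, hk, hk2⟩
  · exact absurd (Nat.mod_eq_zero_of_dvd hd) h
  · exact absurd h hodd
  · have := (hp.pow_dvd_iff_le_factorization hN).1 h; omega
  · rcases hp.eq_one_or_self_of_dvd d hdd with h | h <;> omega
  exact hk.trans_le (Nat.pow_le_pow_right (by norm_num)
    ((Nat.prime_two.pow_dvd_iff_le_factorization hN).1 hk2))

/-- Let G be an alternating group of degree at least 5 or a simple group with the order of one of the 26 sporadic groups, and let p be an odd prime such that p³ is the exact power of p dividing the order of G. Then p³ is less than the 2-part of the order of G. -/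
theorem result {G : Type*} [Group G] [Finite G] (hG : Cfsg.IsAlternating G ∨ Cfsg.IsSporadic G)
    (p : ℕ) (hp : p.Prime) (hodd : p ≠ 2) (h3 : (Nat.card G).factorization p = 3) :
    p ^ 3 < 2 ^ (Nat.card G).factorization 2 := by
  rcases hG with ⟨n, hn, ⟨e⟩⟩ | hG
  · haveI : Nontrivial (Fin n) := Fin.nontrivial_iff_two_le.2 (by omega)
    have h2 : 2 * Nat.card G = Nat.factorial n := by
      rw [Nat.card_congr e.toEquiv, two_mul_nat_card_alternatingGroup, Nat.card_perm, Nat.card_fin]
    have hf : ∀ q : ℕ, (Nat.factorial n).factorization q = (2 : ℕ).factorization q + (Nat.card G).factorization q :=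
      fun q => by rw [← h2, Nat.factorization_mul (by norm_num) Nat.card_pos.ne', Finsupp.add_apply]
    have hp2 : (2 : ℕ).factorization p = 0 :=
      Nat.factorization_eq_zero_of_not_dvd fun hd => hodd ((Nat.prime_dvd_prime_iff_eq hp Nat.prime_two).1 hd)
    have h22 : (2 : ℕ).factorization 2 = 1 := Nat.prime_two.factorization_self
    have hfp := hf p
    have hf2 := hf 2
    have htwo := two_part n
    have haux := fact_aux hp
    have h36 : (Nat.factorial 3).factorization p = if p = 3 then 1 else 0 := by
      rw [show Nat.factorial 3 = 2 * 3 from rfl, Nat.factorization_mul (by norm_num) (by norm_num),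
        Finsupp.add_apply, hp2, zero_add, Nat.Prime.factorization Nat.prime_three, Finsupp.single_apply]
      simp [eq_comm]
    have hn3 : 3 * p ≤ n := by
      by_contra h
      have := fact_mono (p := p) (show n ≤ 3 * p - 1 by omega)
      split_ifs at h36 haux <;> omega
    have hp5 : 5 ≤ p := by
      by_contra h
      obtain rfl : p = 3 := by
        have := hp.two_le
        by_contra hne
        obtain rfl : p = 4 := by omega
        norm_num at hp
      have := fact_mono (p := 3) (show 3 * 3 ≤ n from hn3)
      have h9 : (Nat.factorial (3 * 3)).factorization 3 = (Nat.factorial 3).factorization 3 + 3 :=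
        Nat.factorization_factorial_mul Nat.prime_three
      rw [if_pos rfl] at h36
      linarith
    exact (cube_lt p hp5).trans_le (Nat.pow_le_pow_right (by norm_num) (by omega))
  · rcases hG with h | h | h | h | h | h | h | h | h | h | h | h | h | h | h | h | h | h | h | h | h | h | h | h | h | h <;>
      (rw [h.2] at h3 ⊢; exact of_table hp hodd (by norm_num) h3 (by decide +kernel) (by decide +kernel))

end Cfsg.Agent.S2367
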