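import Cfsg.Statements.S2368
import Cfsg.Agent.S2260

set_option autoImplicit false
open Cfsg

namespace Cfsg.Agent.S2368

theorem shift_pow {F : Type*} [Field F] (m k : ℕ) :
    (Matrix.of fun i j : Fin m => if j.val = i.val + 1 then (1 : F) else 0) ^ k =
      Matrix.of fun i j : Fin m => if j.val = i.val + k then (1 : F) else 0 := by
  induction k with
  | zero =>
    ext i j
    simp [Matrix.one_apply, Fin.ext_iff, eq_comm]
  | succ k ih =>
    rw [pow_succ, ih]
    ext i j
    simp only [Matrix.mul_apply, Matrix.of_apply]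
    by_cases h : j.val = i.val + (k + 1)
    · rw [if_pos h, Finset.sum_eq_single (⟨i.val + k, by omega⟩ : Fin m)]
      · simp only [if_true, one_mul]
        rw [if_pos]; omega
      · intro b _ hb
        rw [if_neg (fun e => hb (Fin.ext e)), zero_mul]
      · simp
    · rw [if_neg h]
      apply Finset.sum_eq_zero
      intro b _
      by_cases hb : b.val = i.val + k
      · rw [if_neg (by omega : ¬ j.val = b.val + 1), mul_zero]
      · rw [if_neg hb, zero_mul]

/-- Let F be a finite field of characteristic p and m ≥ 1. Every element of GL(m, F) of p-power order has order less than p·m, and GL(m, F) has an element of p-power order at least m; so the largest order of a p-element of GL(m, F) is the least power of p that is at least m. -/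
theorem result {F : Type*} [Field F] [Fintype F] (p : ℕ) [Fact p.Prime] [CharP F p] (m : ℕ) (hm : 1 ≤ m) :
    (∀ g : Matrix.GeneralLinearGroup (Fin m) F, (∃ j : ℕ, orderOf g = p ^ j) → orderOf g < p * m) ∧
      ∃ g : Matrix.GeneralLinearGroup (Fin m) F, (∃ j : ℕ, orderOf g = p ^ j) ∧ m ≤ orderOf g := by
  haveI : Nonempty (Fin m) := ⟨⟨0, hm⟩⟩
  have hp := (Fact.out : p.Prime)
  constructor
  · rintro g ⟨j, hj⟩
    have hu : IsNilpotent ((g : Matrix (Fin m) (Fin m) F) - 1) := by
      refine ⟨p ^ j, ?_⟩
      have := pow_orderOf_eq_one g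
      rw [hj] at this
      rw [sub_pow_char_pow_of_commute _ j (Commute.one_right _), one_pow]
      simpa [sub_eq_zero] using congrArg Units.val this
    have h1 := Nat.le_of_dvd (pow_pos hp.pos _) (S2260.order_dvd p m g hu)
    refine lt_of_le_of_lt h1 ?_
    rcases Nat.eq_zero_or_pos (Nat.clog p m) with h0 | h0
    · rw [h0, pow_zero]
      exact lt_of_lt_of_le hp.one_lt (Nat.le_mul_of_pos_right p hm)
    · obtain ⟨k, hk⟩ : ∃ k, Nat.clog p m = k + 1 := ⟨Nat.clog p m - 1, by omega⟩
      rw [hk, pow_succ']
      exact Nat.mul_lt_mul_of_pos_left ((Nat.lt_clog_iff_pow_lt hp.one_lt).1 (by omega)) hp.pos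
  · set N : Matrix (Fin m) (Fin m) F := Matrix.of fun i j => if j.val = i.val + 1 then (1 : F) else 0 with hN
    have hnil : IsNilpotent N := by
      refine ⟨m, ?_⟩
      rw [hN, shift_pow]
      ext i j
      simp only [Matrix.of_apply, Matrix.zero_apply]
      rw [if_neg]; omega
    obtain ⟨g, hg⟩ := hnil.isUnit_one_add
    have hu : IsNilpotent ((g : Matrix (Fin m) (Fin m) F) - 1) := by
      rw [hg, add_sub_cancel_left]; exact hnil
    have hne : ((g : Matrix (Fin m) (Fin m) F) - 1) ^ (m - 1) ≠ 0 := by
      rw [hg, add_sub_cancel_left, hN, shift_pow]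
      intro h
      have h2 := congrFun (congrFun h ⟨0, hm⟩) ⟨m - 1, by omega⟩
      simp only [Matrix.of_apply, Matrix.zero_apply] at h2
      rw [if_pos (by simp)] at h2
      exact one_ne_zero h2
    refine ⟨g, ⟨Nat.clog p m, S2260.order_eq p m g hu hne⟩, ?_⟩
    rw [S2260.order_eq p m g hu hne]
    exact Nat.le_pow_clog hp.one_lt m

end Cfsg.Agent.S2368
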