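import Cfsg.Statements.S2369
import Cfsg.Agent.Chev.ReeF4BT.Main
-- import your own Cfsg.Agent.* helpers here

set_option autoImplicit false
open Cfsg

namespace Cfsg.Agent.S2369

open Cfsg.Agent.Chev Cfsg.Agent.Chev.ReeF4

/-- Let q = 2^(2m+1) with m ≥ 1 and let a, b be commuting elements of the large Ree group ²F₄(q) with a an involution. Then every prime divisor of the order of b divides q(q⁴ − 1). -/
theorem result {K : Type*} [Field K] [Fintype K] (m : ℕ) (hm : 1 ≤ m) (hK : Fintype.card K = 2 ^ (2 * m + 1))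
    (a b : ↥(Cfsg.Lie.twistedF4 K (2 ^ m))) (ha : orderOf a = 2) (hab : Commute a b) :
    (orderOf b).primeFactors ⊆ (2 ^ (2 * m + 1) * ((2 ^ (2 * m + 1)) ^ 4 - 1)).primeFactors := by
  haveI : Fact (Nat.Prime 2) := ⟨Nat.prime_two⟩
  haveI : CharP K 2 := charP_two hK
  have hm' := isTheta hK
  obtain ⟨P, hP⟩ := exists_sylow hK
  have hpg : IsPGroup 2 ↥(Subgroup.zpowers a) :=
    IsPGroup.of_card (n := 1) (by rw [Nat.card_zpowers, ha, pow_one])
  obtain ⟨P', hP'⟩ := hpg.exists_le_sylow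
  obtain ⟨w, hw⟩ := MulAction.exists_smul_eq ↥(Cfsg.Lie.twistedF4 K (2 ^ m)) P' P
  set x : ↥(Cfsg.Lie.twistedF4 K (2 ^ m)) := w * a * w⁻¹ with hx
  set y : ↥(Cfsg.Lie.twistedF4 K (2 ^ m)) := w * b * w⁻¹ with hy
  have hxU : (x : GL Cfsg.Lie.chevF4.Idx K) ∈ U1 K m := by
    have h1 : x ∈ (P : Subgroup ↥(Cfsg.Lie.twistedF4 K (2 ^ m))) := by
      rw [← hw]
      exact Subgroup.smul_mem_pointwise_smul a (MulAut.conj w) _
        (hP' (Subgroup.mem_zpowers a))
    rw [hP] at h1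
    exact h1
  set Q : Subgroup (GL Cfsg.Lie.chevF4.Idx K) := Subgroup.zpowers (x : GL Cfsg.Lie.chevF4.Idx K)
  have hQ : Q ≠ ⊥ := fun e => by
    have h1 : (x : GL Cfsg.Lie.chevF4.Idx K) = 1 :=
      Subgroup.mem_bot.1 (e ▸ Subgroup.mem_zpowers _)
    have h2 : x = 1 := Subtype.ext h1
    rw [hx, conj_eq_one_iff] at h2
    rw [h2, orderOf_one] at ha
    exact absurd ha (by norm_num)
  obtain ⟨g, hg, k, hN⟩ := borel_tits hK ((Subgroup.zpowers_le).2 hxU) hQ
  have hxy : Commute (x : GL Cfsg.Lie.chevF4.Idx K) (y : GL Cfsg.Lie.chevF4.Idx K) := by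
    have : Commute x y := hab.map (MulAut.conj w).toMonoidHom
    exact this.map (Cfsg.Lie.twistedF4 K (2 ^ m)).subtype
  have hyN : (y : GL Cfsg.Lie.chevF4.Idx K) ∈
      Subgroup.normalizer (Q : Set (GL Cfsg.Lie.chevF4.Idx K)) := by
    refine Subgroup.mem_normalizer_iff''.2 fun h => ?_
    constructor <;> intro hh
    · obtain ⟨j, rfl⟩ := Subgroup.mem_zpowers_iff.1 hh
      rw [mul_assoc, (hxy.zpow_left j).eq, inv_mul_cancel_left]
      exact hh
    · obtain ⟨j, hj⟩ := Subgroup.mem_zpowers_iff.1 hh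
      have : h = (x : GL Cfsg.Lie.chevF4.Idx K) ^ j := by
        have e := congrArg (fun z => (y : GL Cfsg.Lie.chevF4.Idx K) * z *
          (y : GL Cfsg.Lie.chevF4.Idx K)⁻¹) hj
        simp only [mul_assoc, mul_inv_cancel, mul_one, mul_inv_cancel_left] at e
        rw [← e, ← mul_assoc, ← (hxy.zpow_left j).eq, mul_inv_cancel_right]
      rw [this]
      exact Subgroup.zpow_mem_zpowers _ j
  have hz := hN _ (G1_le_fx hm' y.2) hyN
  have hord : orderOf (⟨_, hz⟩ : ↥(Pa K m k)) = orderOf b := by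
    rw [← orderOf_injective (Pa K m k).subtype Subtype.coe_injective,
      ← orderOf_injective ((Cfsg.Lie.twistedF4 K (2 ^ m)).subtype.comp (MulAut.conj w).toMonoidHom)
        ((Cfsg.Lie.twistedF4 K (2 ^ m)).subtype_injective.comp (MulAut.conj w).injective) b]
    show orderOf (g⁻¹ * (y : GL Cfsg.Lie.chevF4.Idx K) * g) =
      orderOf (y : GL Cfsg.Lie.chevF4.Idx K)
    rw [← orderOf_injective (MulAut.conj g⁻¹).toMonoidHom (MulAut.conj g⁻¹).injective
      (y : GL Cfsg.Lie.chevF4.Idx K)]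
    simp [mul_assoc]
  have hdvd : orderOf b ∣ Nat.card ↥(Pa K m k) := hord ▸ orderOf_dvd_natCard _
  rw [card_Pa hK, card_Bf hK, hK] at hdvd
  obtain ⟨q, hq⟩ : ∃ q, q = 2 ^ (2 * m + 1) := ⟨_, rfl⟩
  rw [← hq] at hdvd ⊢
  have hq2 : 2 ≤ q := hq ▸ Nat.le_self_pow (by omega) 2
  have h4 : q ^ 4 - 1 = (q - 1) * (q + 1) * (q ^ 2 + 1) := by
    clear hdvd hq
    obtain ⟨r, rfl⟩ : ∃ r, q = r + 1 := ⟨q - 1, by omega⟩
    refine (Nat.sub_eq_iff_eq_add (Nat.one_le_pow _ _ (Nat.succ_pos r))).2 ?_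
    simp only [Nat.add_sub_cancel, Nat.succ_eq_add_one]
    ring
  intro r hr
  obtain ⟨hp, hrb, -⟩ := Nat.mem_primeFactors.1 hr
  refine Nat.mem_primeFactors.2 ⟨hp, ?_, ?_⟩
  · rw [h4]
    have hk : ((k : ℕ) = 0 ∨ (k : ℕ) = 1) := by omega
    rcases (Nat.Prime.dvd_mul hp).1 (hrb.trans hdvd) with h1 | h1
    · rcases (Nat.Prime.dvd_mul hp).1 h1 with h2 | h2
      · exact (hp.dvd_of_dvd_pow h2).trans (dvd_mul_right q _)
      · exact (hp.dvd_of_dvd_pow h2).trans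
          (dvd_mul_of_dvd_right (dvd_mul_of_dvd_left (dvd_mul_right _ _) _) q)
    · rcases hk with hk | hk <;> rw [hk] at h1
      · rw [zero_add, pow_one, add_comm] at h1
        exact h1.trans (dvd_mul_of_dvd_right (dvd_mul_of_dvd_left (dvd_mul_left _ _) _) q)
      · rw [add_comm 1 (q ^ _)] at h1
        exact h1.trans (dvd_mul_of_dvd_right (dvd_mul_left _ _) q)
  · rw [h4]
    have h1 : q - 1 ≠ 0 := by omega
    positivity

end Cfsg.Agent.S2369
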