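import Cfsg.Statements.S2370
import Cfsg.Agent.Chev.GradingAll
import Cfsg.Agent.Chev.ReeF4.Stmts

set_option autoImplicit false
open Cfsg

namespace Cfsg.Agent.S2370

open Cfsg.Lie Cfsg.Agent.Chev
open scoped MatrixGroups

universe u

theorem pow_grade {ι : Type*} [Fintype ι] [DecidableEq ι] {R : Type*} [CommRing R] (G : ι → ℤ)
    {N : Matrix ι ι R} (hN : ∀ a b, G a ≤ G b → N a b = 0) :
    ∀ (n : ℕ) (a b : ι), G a < G b + n → (N ^ n) a b = 0
  | 0, a, b, h => by
    rw [pow_zero, Matrix.one_apply_ne]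
    rintro rfl
    simp at h
  | n + 1, a, b, h => by
    rw [pow_succ, Matrix.mul_apply]
    refine Finset.sum_eq_zero fun c _ => ?_
    by_cases hc : G c ≤ G b
    · rw [hN c b hc, mul_zero]
    · rw [pow_grade G hN n a c (by push_cast at h; omega), zero_mul]

theorem height_chk : ∀ s : Fin 48,
    -11 ≤ ((List.range 4).map fun i => gradeC chevF4 f4Cert f4Mu i s).sum ∧
      ((List.range 4).map fun i => gradeC chevF4 f4Cert f4Mu i s).sum ≤ 11 := by
  decide +kernel

theorem height_bound (a : chevF4.Idx) :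
    -11 ≤ gradeJ (D := chevF4) f4Mu ∅ a ∧ gradeJ (D := chevF4) f4Mu ∅ a ≤ 11 := by
  classical
  rcases a with a | s
  · simp [gradeJ]
  · have h := height_chk s
    have e : gradeJ (D := chevF4) f4Mu ∅ (Sum.inr s : chevF4.Idx) =
        ((List.range 4).map fun i => gradeC chevF4 f4Cert f4Mu i s).sum := by
      rw [list_range_map_sum]
      simp only [gradeJ, Sum.elim_inr, Set.mem_empty_iff_false, not_false_eq_true, Finset.filter_true]
      refine Finset.sum_congr rfl fun i _ => ?_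
      rw [gradeC, list_range_map_sum]
      exact Finset.sum_congr rfl fun j _ => by rw [cartan_eq f4_checks j.2 s.2]
    rw [e]
    exact h

theorem posU_pow {K : Type u} [Field K] [CharP K 2] {g : GL chevF4.Idx K}
    (hg : g ∈ chevF4.posUnipotent K) : g ^ 32 = 1 := by
  classical
  set G := gradeJ (D := chevF4) f4Mu ∅ with hG
  have hF : Facts.{u} chevF4 := facts_chevF4
  let rais : Matrix chevF4.Idx chevF4.Idx K → Prop := fun A =>
    ∀ a b, G a ≤ G b → A a b = if a = b then 1 else 0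
  let Ur : Subgroup (GL chevF4.Idx K) :=
    { carrier := {g | rais (g : Matrix chevF4.Idx chevF4.Idx K) ∧ rais ((g⁻¹ : GL chevF4.Idx K) : Matrix chevF4.Idx chevF4.Idx K)}
      one_mem' := by simp [rais, Matrix.one_apply]
      mul_mem' := by
        have key : ∀ A B : Matrix chevF4.Idx chevF4.Idx K, rais A → rais B → rais (A * B) := by
          intro A B hA hB a b hab
          rw [Matrix.mul_apply, Finset.sum_eq_single a]
          · rw [hA a a le_rfl, if_pos rfl, one_mul, hB a b hab]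
          · intro c _ hc
            by_cases h' : G a ≤ G c
            · rw [hA a c h', if_neg (Ne.symm hc), zero_mul]
            · rw [hB c b (by omega), if_neg (fun e => h' (by rw [e]; exact hab)), mul_zero]
          · intro hn; exact absurd (Finset.mem_univ _) hn
        rintro g g' ⟨h1, h2⟩ ⟨h3, h4⟩
        exact ⟨by rw [Units.val_mul]; exact key _ _ h1 h3,
          by rw [mul_inv_rev, Units.val_mul]; exact key _ _ h4 h2⟩
      inv_mem' := by rintro g ⟨h1, h2⟩; exact ⟨h2, by rwa [inv_inv]⟩ }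
  have hU : chevF4.posUnipotent K ≤ Ur := by
    refine (Subgroup.closure_le _).2 ?_
    rintro g ⟨r, t, hr, e⟩
    have hr' : r < chevF4.nroots := hr.1
    have hpos := (hF.posRoot_iff r hr').1 hr
    have hG0 : 0 < G (Sum.inr ⟨r, hr'⟩ : chevF4.Idx) := by
      simp only [hG, gradeJ, Sum.elim_inr]
      obtain ⟨i, hi, hne⟩ : ∃ i, i < chevF4.rank ∧ coef chevF4 r i ≠ 0 := by
        by_contra hno
        push Not at hno
        have hz : ∀ i : Fin chevF4.rank, ∑ j : Fin chevF4.rank, (f4Mu.getD i []).getD j 0 * chevF4.cartan j r = 0 :=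
          fun i => (grade_of_chk f4_checks f4_grade i.2 ⟨r, hr'⟩).1 (hno i i.2)
        have hb : ∀ r : Fin 48, 24 ≤ r.val → ∃ i : Fin 4,
            gradeC chevF4 f4Cert f4Mu i r ≠ 0 := by decide +kernel
        obtain ⟨i, hi⟩ := hb ⟨r, hr'⟩ hpos
        refine hi ?_
        rw [gradeC, list_range_map_sum]
        refine Eq.trans (Finset.sum_congr rfl fun j _ => ?_) (hz i)
        rw [cartan_eq f4_checks j.2 hr']
      refine Finset.sum_pos' (fun j _ => ?_) ⟨⟨i, hi⟩, by simp,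
        (grade_of_chk f4_checks f4_grade hi ⟨r, hr'⟩).2 hne hpos⟩
      by_cases h0 : coef chevF4 r j = 0
      · exact ((grade_of_chk f4_checks f4_grade j.2 ⟨r, hr'⟩).1 h0).ge
      · exact ((grade_of_chk f4_checks f4_grade j.2 ⟨r, hr'⟩).2 h0 hpos).le
    have key : ∀ v : K, rais (chevF4.x K r v) := fun v a b hab => by
      by_contra hne
      obtain ⟨k, hk, e'⟩ := entry_grade f4_checks f4Mu ∅ hr' v hne
      rw [← hG] at e'
      nlinarith
    rw [show g = xG hF r t from Units.ext e]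
    exact ⟨key t, by rw [xG_inv]; exact key (-t)⟩
  have hN : ∀ a b, G a ≤ G b → ((g : Matrix chevF4.Idx chevF4.Idx K) - 1) a b = 0 := fun a b hab => by
    rw [Matrix.sub_apply, Matrix.one_apply, (hU hg).1 a b hab, sub_self]
  have h0 : ((g : Matrix chevF4.Idx chevF4.Idx K) - 1) ^ 32 = 0 := by
    ext a b
    refine pow_grade G hN 32 a b ?_
    have h1 := (height_bound a).2
    have h2 := (height_bound b).1
    rw [← hG] at h1 h2
    omega
  haveI : Nonempty chevF4.Idx := ⟨Sum.inr ⟨0, by decide⟩⟩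
  have : CharP (Matrix chevF4.Idx chevF4.Idx K) 2 :=
    charP_of_injective_algebraMap (algebraMap K (Matrix chevF4.Idx chevF4.Idx K)).injective 2
  haveI := Fact.mk Nat.prime_two
  apply Units.ext
  rw [show (32 : ℕ) = 2 ^ 5 by norm_num] at h0 ⊢
  rw [sub_pow_char_pow_of_commute _ _ (Commute.one_right _), one_pow, sub_eq_zero] at h0
  rw [Units.val_pow_eq_pow_val, h0, Units.val_one]

theorem order_le {G : Type*} [Group G] [Finite G] (U : Subgroup G) {n : ℕ} (hcard : Nat.card U = 2 ^ n)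
    (hodd : ¬ 2 ∣ U.index) (h32 : ∀ u ∈ U, u ^ 32 = 1) (x : G) (hx : ∃ j : ℕ, orderOf x = 2 ^ j) :
    orderOf x ≤ 32 := by
  haveI := Fact.mk Nat.prime_two
  obtain ⟨j, hj⟩ := hx
  have hxp : IsPGroup 2 (Subgroup.zpowers x) := IsPGroup.of_card (n := j) (by rw [Nat.card_zpowers, hj])
  obtain ⟨P, hP⟩ := hxp.exists_le_sylow
  obtain ⟨g, hg⟩ := MulAction.exists_smul_eq G P ((IsPGroup.of_card hcard).toSylow hodd)
  have hy : g * x * g⁻¹ ∈ U := by
    have : g * x * g⁻¹ ∈ ((g • P : Sylow 2 G) : Subgroup G) :=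
      ⟨x, hP (Subgroup.mem_zpowers x), by simp [MulAut.conj_apply]⟩
    rwa [hg, IsPGroup.toSylow_coe] at this
  have h := h32 _ hy
  rw [conj_pow, mul_inv_eq_one, mul_eq_left] at h
  exact Nat.le_of_dvd (by norm_num) (orderOf_dvd_of_pow_eq_one h)

/-- Let q = 2^(2m+1) with m ≥ 1. Every element of 2-power order of the large Ree group ²F₄(q) has order at most 32. -/
theorem result {K : Type*} [Field K] [Fintype K] (m : ℕ) (hm : 1 ≤ m) (hK : Fintype.card K = 2 ^ (2 * m + 1))
    (x : ↥(Cfsg.Lie.twistedF4 K (2 ^ m))) (hx : ∃ j : ℕ, orderOf x = 2 ^ j) : orderOf x ≤ 32 := by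
  classical
  haveI := Fact.mk Nat.prime_two
  haveI : CharP K 2 := by
    obtain ⟨p, hp⟩ := CharP.exists K
    obtain ⟨n, hpp, hn⟩ := FiniteField.card K p
    have hd : p ∣ 2 ^ (2 * m + 1) := by rw [← hK, hn]; exact dvd_pow_self p n.ne_zero
    exact ((Nat.prime_dvd_prime_iff_eq hpp Nat.prime_two).1 (hpp.dvd_of_dvd_pow hd)) ▸ hp
  have hle : chevF4.posUnipotent K ⊓ Cfsg.Lie.twistedF4 K (2 ^ m) ≤ Cfsg.Lie.twistedF4 K (2 ^ m) := inf_le_right
  have hcard : Nat.card ↥((chevF4.posUnipotent K ⊓ Cfsg.Lie.twistedF4 K (2 ^ m)).subgroupOf (Cfsg.Lie.twistedF4 K (2 ^ m))) =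
      (2 ^ (2 * m + 1)) ^ 12 :=
    (Nat.card_congr (Subgroup.subgroupOfEquivOfLe hle).toEquiv).trans (ReeF4.card_posU hK)
  have hodd : ¬ 2 ∣ ((chevF4.posUnipotent K ⊓ Cfsg.Lie.twistedF4 K (2 ^ m)).subgroupOf (Cfsg.Lie.twistedF4 K (2 ^ m))).index := by
    have h := Subgroup.card_mul_index ((chevF4.posUnipotent K ⊓ Cfsg.Lie.twistedF4 K (2 ^ m)).subgroupOf (Cfsg.Lie.twistedF4 K (2 ^ m)))
    rw [hcard, ReeF4.card_formula hK] at h
    simp only [mul_assoc] at h
    rw [Nat.eq_of_mul_eq_mul_left (pow_pos (pow_pos two_pos _) _) h]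
    have he : Even (2 ^ (2 * m + 1)) := Nat.even_pow.2 ⟨even_two, by omega⟩
    have h1 : ∀ a, a ≠ 0 → ¬ 2 ∣ (2 ^ (2 * m + 1)) ^ a - 1 ∧ ¬ 2 ∣ (2 ^ (2 * m + 1)) ^ a + 1 := fun a ha => by
      have h2 : 2 ∣ (2 ^ (2 * m + 1)) ^ a := dvd_pow (dvd_pow_self 2 (by omega)) ha
      have h3 := Nat.one_le_pow a (2 ^ (2 * m + 1)) (pow_pos two_pos _)
      omega
    refine Nat.prime_two.not_dvd_mul ?_ (Nat.prime_two.not_dvd_mul (h1 3 (by norm_num)).2
      (Nat.prime_two.not_dvd_mul (h1 4 (by norm_num)).1 (h1 6 (by norm_num)).2))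
    simpa using (h1 1 one_ne_zero).1
  exact order_le _ (hcard.trans (pow_mul 2 (2 * m + 1) 12).symm) hodd
    (fun u hu => Subtype.ext (by
      rw [Subgroup.coe_pow]
      exact posU_pow (Subgroup.mem_inf.1 (Subgroup.mem_subgroupOf.1 hu)).1)) x hx

end Cfsg.Agent.S2370
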