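import Cfsg.Statements.S2372
import Cfsg.Agent.Chev.CoxeterTorus
import Cfsg.Agent.Chev.All

/-!
The twisted torus of order `q ^ 4 + 1` of `F₄(q)`.
-/

set_option autoImplicit false
open Cfsg

namespace Cfsg.Agent.S2372

open Cfsg.Lie Cfsg.Agent.Chev

/-- The certificate: a regular Weyl element with characteristic polynomial `X⁴ + 1`. -/
def cert : TorusCert chevF4 where
  w := [(⟨2, by decide⟩ : Fin 4), ⟨1, by decide⟩, ⟨2, by decide⟩, ⟨0, by decide⟩, ⟨3, by decide⟩,
    ⟨1, by decide⟩]
  r0 := 3
  phi := ![1, 0, 0, 0, 1]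
  B := ![![-1, 0, 0, 0], ![-1, -1, 1, 0], ![-1, -1, 1, 1], ![0, -1, 0, 1]]
  cand := [3, 31, 35]

theorem cert_valid : cert.Valid where
  r0_lt := by decide +kernel
  rank_pos := by decide +kernel
  phi_zero := by decide +kernel
  rel := by decide +kernel
  left_inv := by decide +kernel
  right_inv := by decide +kernel
  equiv := by decide +kernel
  regular := by decide +kernel
  sep := by decide +kernel
  rigid := by decide +kernel
  inj := by decide +kernel

/-- The group F₄(q) contains a cyclic subgroup of order q⁴ + 1 which is its own centralizer. -/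
theorem result {F : Type*} [Field F] [Fintype F] (q : ℕ) (hF : Fintype.card F = q) :
    ∃ H : Subgroup ↥(Cfsg.Lie.chevF4.group F), IsCyclic ↥H ∧ Nat.card ↥H = q ^ 4 + 1 ∧
      Subgroup.centralizer (H : Set ↥(Cfsg.Lie.chevF4.group F)) = H := by
  refine TorusCert.exists_selfCentralizing cert_valid facts_chevF4 q hF _ ?_
  show _ = ∑ j : Fin 5, ![(1 : ℤ), 0, 0, 0, 1] j * (q : ℤ) ^ (j : ℕ)
  simp [Fin.sum_univ_succ]
  ring

end Cfsg.Agent.S2372
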