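import Cfsg.Statements.S2374
import Cfsg.Agent.Chev.ScTorus
import Cfsg.Agent.Chev.E8Sub

set_option autoImplicit false
open Cfsg

namespace Cfsg.Agent.S2374

open Cfsg.Lie Cfsg.Agent.Chev

/-- The certificate of the twisted torus. -/
def cert : ScCert chevE7 where
  w := [1, 4, 5, 3, 0, 2, 4, 6, 5, 6, 3].map (Fin.ofNat 7)
  r0 := 19
  u0 := ![0, -1, 0, 0, 0, 0, 0]
  phi := ![1, 0, -1, 1, 1, -1, 0, 1]
  P := ![![0, -1, 1, 0, -1, 1, 0], ![-1, 0, 0, 0, 0, 0, 0], ![0, -1, 0, 1, -1, 0, 1], ![-1, -1, 0, 0, 0, 0, 0], ![-1, 0, 0, -1, 1, 0, 0], ![-2, 1, 1, -3, 1, 1, -1], ![-1, 1, 0, -2, 1, 1, -1]]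
  cand := [19]
  bezA := ![-4, -7, -8, -12, -9, -6, -3]
  bezB := ![0, 1, 0, 0, 0, 0, 0]

set_option maxHeartbeats 0 in
theorem cert_valid : cert.Valid where
  r0_lt := by decide +kernel
  rank_pos := by decide +kernel
  phi_zero := by decide +kernel
  rel := by decide +kernel
  left_inv := by decide +kernel
  back_eq := by decide +kernel
  equiv := by decide +kernel
  regular := by decide +kernel
  sep := by decide +kernel
  rigid := by decide +kernel
  inj := by decide +kernel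
  index_pos := by decide +kernel
  mod_one := by decide +kernel
  bez_a := by decide +kernel
  bez_b := by decide +kernel

/-- The group E₇(q) (the simple Chevalley group of type E₇) contains a cyclic subgroup of order (q⁴ − q² + 1)(q³ + 1)/gcd(2, q − 1) which is its own centralizer. -/
theorem result {F : Type*} [Field F] [Fintype F] (q : ℕ) (hF : Fintype.card F = q) :
    ∃ H : Subgroup ↥(Cfsg.Lie.chevE7.group F), IsCyclic ↥H ∧ Nat.card ↥H = (q ^ 4 - q ^ 2 + 1) * (q ^ 3 + 1) / Nat.gcd 2 (q - 1) ∧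
      Subgroup.centralizer (H : Set ↥(Cfsg.Lie.chevE7.group F)) = H := by
  refine ScCert.exists_selfCentralizing cert_valid facts_chevE7 extra_chevE7 facts_chevE8
    e7InE8 (fun {_} [_] => torusHom_injective_chevE8) q hF _ ?_ 2 (by decide +kernel)
  have h2 : q ^ 2 ≤ q ^ 4 := Nat.pow_le_pow_right (hF ▸ Fintype.card_pos) (by norm_num)
  show _ = ∑ j : Fin 8, (![1, 0, -1, 1, 1, -1, 0, 1] : Fin 8 → ℤ) j * (q : ℤ) ^ (j : ℕ)
  simp [Fin.sum_univ_succ, Nat.cast_sub h2]
  ring

end Cfsg.Agent.S2374
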