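import Cfsg.Statements.S2378
import Cfsg.Agent.Chev.SylowTorus
import Cfsg.Agent.Chev.WeylAll
import Cfsg.Agent.Chev.SylowData.G2
import Cfsg.Agent.Chev.SylowData.B2
import Cfsg.Agent.Chev.SylowData.D4
import Cfsg.Agent.Chev.SylowData.F4
import Cfsg.Agent.Chev.SylowData.E6
import Cfsg.Agent.Chev.SylowData.E7
import Cfsg.Agent.Chev.SylowData.E8

/-!
Homocyclic Sylow subgroups for primes not dividing the order of the Weyl group.
-/

set_option autoImplicit false
open Cfsg

namespace Cfsg.Agent.S2378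

/-- Sylow subgroups for primes away from the characteristic and the Weyl group. Let `G` be the Chevalley group of type G₂, B₂, D₄, F₄, E₆, E₇ or E₈ over a field with `q` elements, with the degrees of its Weyl group listed beside the type (their product is the order of the Weyl group), and let `r` be a prime dividing the order of `G`, not dividing `q` and not dividing the order of the Weyl group. Let `d` be the multiplicative order of `q` modulo `r`, `a` the number of degrees divisible by `d`, and `m` the `r`-part of the value at `q` of the `d`-th cyclotomic polynomial. Then every Sylow `r`-subgroup of `G` is homocyclic: a direct product of `a` cyclic groups of order `m` (in particular abelian). -/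
theorem result {F : Type*} [Field F] [Fintype F] {q : ℕ} (hq : Fintype.card F = q)
    (c : Cfsg.Lie.ChevalleyDatum × List ℕ)
    (hc : c ∈ [(Cfsg.Lie.chevG2, [2, 6]), (Cfsg.Lie.chevB2, [2, 4]), (Cfsg.Lie.chevD4, [2, 4, 4, 6]), (Cfsg.Lie.chevF4, [2, 6, 8, 12]),
      (Cfsg.Lie.chevE6, [2, 5, 6, 8, 9, 12]), (Cfsg.Lie.chevE7, [2, 6, 8, 10, 12, 14, 18]), (Cfsg.Lie.chevE8, [2, 8, 12, 14, 18, 20, 24, 30])])
    (r : ℕ) [Fact r.Prime] (hrq : ¬ r ∣ q) (hrW : ¬ r ∣ c.2.prod) (hrG : r ∣ Nat.card ↥(c.1.group F)) (P : Sylow r ↥(c.1.group F)) :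
    Nonempty (↥(P : Subgroup ↥(c.1.group F)) ≃*
      (Fin (c.2.filter (fun e => orderOf (q : ZMod r) ∣ e)).length →
        Multiplicative (ZMod (r ^ padicValNat r ((Polynomial.cyclotomic (orderOf (q : ZMod r)) ℤ).eval (q : ℤ)).natAbs)))) := by
  simp only [List.mem_cons, List.not_mem_nil, or_false] at hc
  rcases hc with rfl | rfl | rfl | rfl | rfl | rfl | rfl
  · exact Chev.sylow_homocyclic Chev.facts_chevG2 hq _ (cI := 1) Chev.g2CartanAdj_spec (N := 6)
      (g0 := ∏ i : Fin 2, (q - 1).gcd ([1, 1].getD i 0))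
      (by rw [← hq]; exact Chev.g2_card_group F) r hrq
      (fun h => hrW ((h.trans (Finset.prod_dvd_prod_of_dvd _ (fun i : Fin 2 => ([1, 1].getD i 0 : ℕ))
        fun i _ => Nat.gcd_dvd_right _ _)).trans (by decide)))
      (fun h => hrW (h.trans (by decide))) (by decide) hrW _ Chev.g2EigenCerts_chk
      Chev.g2EigenCerts_cover hrG P
  · exact Chev.sylow_homocyclic Chev.facts_chevB2 hq _ (cI := 2) Chev.b2CartanAdj_spec (N := 4)
      (g0 := ∏ i : Fin 2, (q - 1).gcd ([1, 2].getD i 0))
      (by rw [← hq]; exact Chev.b2_card_group F) r hrq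
      (fun h => hrW ((h.trans (Finset.prod_dvd_prod_of_dvd _ (fun i : Fin 2 => ([1, 2].getD i 0 : ℕ))
        fun i _ => Nat.gcd_dvd_right _ _)).trans (by decide)))
      (fun h => hrW (h.trans (by decide))) (by decide) hrW _ Chev.b2EigenCerts_chk
      Chev.b2EigenCerts_cover hrG P
  · exact Chev.sylow_homocyclic Chev.facts_chevD4 hq _ (cI := 2) Chev.d4CartanAdj_spec (N := 12)
      (g0 := ∏ i : Fin 4, (q - 1).gcd ([1, 1, 2, 2].getD i 0))
      (by rw [← hq]; exact Chev.d4_card_group F) r hrq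
      (fun h => hrW ((h.trans (Finset.prod_dvd_prod_of_dvd _ (fun i : Fin 4 => ([1, 1, 2, 2].getD i 0 : ℕ))
        fun i _ => Nat.gcd_dvd_right _ _)).trans (by decide)))
      (fun h => hrW (h.trans (by decide))) (by decide) hrW _ Chev.d4EigenCerts_chk
      Chev.d4EigenCerts_cover hrG P
  · exact Chev.sylow_homocyclic Chev.facts_chevF4 hq _ (cI := 1) Chev.f4CartanAdj_spec (N := 24)
      (g0 := ∏ i : Fin 4, (q - 1).gcd ([1, 1, 1, 1].getD i 0))
      (by rw [← hq]; exact Chev.f4_card_group F) r hrq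
      (fun h => hrW ((h.trans (Finset.prod_dvd_prod_of_dvd _ (fun i : Fin 4 => ([1, 1, 1, 1].getD i 0 : ℕ))
        fun i _ => Nat.gcd_dvd_right _ _)).trans (by decide)))
      (fun h => hrW (h.trans (by decide))) (by decide) hrW _ Chev.f4EigenCerts_chk
      Chev.f4EigenCerts_cover hrG P
  · exact Chev.sylow_homocyclic Chev.facts_chevE6 hq _ (cI := 3) Chev.e6CartanAdj_spec (N := 36)
      (g0 := ∏ i : Fin 6, (q - 1).gcd ([1, 1, 1, 1, 1, 3].getD i 0))
      (by rw [← hq]; exact Chev.e6_card_group F) r hrq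
      (fun h => hrW ((h.trans (Finset.prod_dvd_prod_of_dvd _ (fun i : Fin 6 => ([1, 1, 1, 1, 1, 3].getD i 0 : ℕ))
        fun i _ => Nat.gcd_dvd_right _ _)).trans (by decide)))
      (fun h => hrW (h.trans (by decide))) (by decide) hrW _ Chev.e6EigenCerts_chk
      Chev.e6EigenCerts_cover hrG P
  · exact Chev.sylow_homocyclic Chev.facts_chevE7 hq _ (cI := 2) Chev.e7CartanAdj_spec (N := 63)
      (g0 := ∏ i : Fin 7, (q - 1).gcd ([1, 1, 1, 1, 1, 1, 2].getD i 0))
      (by rw [← hq]; exact Chev.e7_card_group F) r hrq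
      (fun h => hrW ((h.trans (Finset.prod_dvd_prod_of_dvd _ (fun i : Fin 7 => ([1, 1, 1, 1, 1, 1, 2].getD i 0 : ℕ))
        fun i _ => Nat.gcd_dvd_right _ _)).trans (by decide)))
      (fun h => hrW (h.trans (by decide))) (by decide) hrW _ Chev.e7EigenCerts_chk
      Chev.e7EigenCerts_cover hrG P
  · exact Chev.sylow_homocyclic Chev.facts_chevE8 hq _ (cI := 1) Chev.e8CartanAdj_spec (N := 120)
      (g0 := ∏ i : Fin 8, (q - 1).gcd ([1, 1, 1, 1, 1, 1, 1, 1].getD i 0))
      (by rw [← hq]; exact Chev.e8_card_group F) r hrq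
      (fun h => hrW ((h.trans (Finset.prod_dvd_prod_of_dvd _ (fun i : Fin 8 => ([1, 1, 1, 1, 1, 1, 1, 1].getD i 0 : ℕ))
        fun i _ => Nat.gcd_dvd_right _ _)).trans (by decide)))
      (fun h => hrW (h.trans (by decide))) (by decide) hrW _ Chev.e8EigenCerts_chk
      Chev.e8EigenCerts_cover hrG P

end Cfsg.Agent.S2378
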