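import Cfsg.Statements.S2379
import Cfsg.Agent.MatModule.LargeSylow

set_option autoImplicit false
open Cfsg

namespace Cfsg.Agent.S2379

open Cfsg.Agent.LargeSylow in

/-- Sylow subgroups of `SL_n(q)` for large primes. Let `F` be a field with `q` elements and `r` a prime with `r > n` and `r ∤ q` (so `r` does not divide the order `n!` of the Weyl group). Let `d` be the multiplicative order of `q` modulo `r`, `a` the number of integers `i` with `2 ≤ i ≤ n` divisible by `d` (the degrees of the Weyl group are `2, …, n`), and `m` the `r`-part of the value at `q` of the `d`-th cyclotomic polynomial. Then every Sylow `r`-subgroup of `SL_n(q)` is a direct product of `a` cyclic groups of order `m`. -/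
theorem result {F : Type*} [Field F] [Fintype F] {q : ℕ} (hq : Fintype.card F = q) (n : ℕ)
    (r : ℕ) [Fact r.Prime] (hrn : n < r) (hrq : ¬ r ∣ q) (P : Sylow r (Matrix.SpecialLinearGroup (Fin n) F)) :
    Nonempty (↥(P : Subgroup (Matrix.SpecialLinearGroup (Fin n) F)) ≃*
      (Fin ((Finset.Icc 2 n).filter (fun i => orderOf (q : ZMod r) ∣ i)).card →
        Multiplicative (ZMod (r ^ padicValNat r ((Polynomial.cyclotomic (orderOf (q : ZMod r)) ℤ).eval (q : ℤ)).natAbs)))) := by
  classical
  rw [val_cyclotomic (two_le_q hq) hrq]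
  set d := orderOf (q : ZMod r) with hddef
  have hd := order_pos (r := r) hrq
  rw [← hddef] at hd
  have hq2 := two_le_q hq
  rcases Nat.eq_zero_or_pos n with rfl | hn
  · obtain ⟨g, hg⟩ := exists_gl_orderOf (F := F) (k := r ^ ex q r) hq hd pow_ex_dvd
    rw [show Finset.filter (fun i => d ∣ i) (Finset.Icc 2 0) = ∅ by simp, Finset.card_empty]
    refine homocyclic P ?_ hg 1 (fun a b _ => Subsingleton.elim a b)
    rw [Nat.card_unique, zero_mul, padicValNat.one]
  have hval : padicValNat r (Nat.card (Matrix.SpecialLinearGroup (Fin n) F)) +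
      padicValNat r (q - 1) = n / d * ex q r := by
    rw [add_comm, ← padicValNat.mul (by omega) Nat.card_pos.ne',
      Cfsg.Agent.Classical.card_sl_mul hq n hn, val_gl hq hrn hrq]
  have hq1 := val_pow_sub_one (r := r) hq2 hrq (i := 1) (Nat.Prime.not_dvd_one Fact.out)
  rw [pow_one] at hq1
  by_cases h1 : d = 1
  · rw [hq1, if_pos (h1 ▸ dvd_rfl), h1, Nat.div_one] at hval
    rw [h1]
    obtain ⟨k, rfl⟩ : ∃ k, n = k + 1 := ⟨n - 1, by omega⟩
    rw [Finset.filter_true_of_mem fun i _ => one_dvd i, Nat.card_Icc, show k + 1 + 1 - 2 = k by omega]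
    obtain ⟨g, hg⟩ := exists_orderOf (H := Fˣ) (k := r ^ ex q r) (by
      rw [Nat.card_units, Nat.card_eq_fintype_card, hq]
      have h := pow_ex_dvd (q := q) (r := r)
      rwa [← hddef, h1, pow_one] at h)
    obtain ⟨ψ, hψ⟩ := exists_sl_torus (F := F) k
    refine homocyclic P ?_ hg ψ hψ
    rw [add_one_mul] at hval
    omega
  · have hnd : ¬ d ∣ 1 := fun h => h1 (Nat.dvd_one.1 h)
    rw [hq1, if_neg hnd, add_zero] at hval
    have hcount : ((Finset.Icc 2 n).filter (fun i => d ∣ i)).card = n / d := by
      rw [← count_dvd n, ← Finset.insert_Icc_add_one_left_eq_Icc (show 1 ≤ n from hn), Finset.filter_insert,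
        if_neg hnd]
      rfl
    rw [hcount]
    obtain ⟨g, hg⟩ := exists_gl_orderOf (F := F) (k := r ^ ex q r) hq hd pow_ex_dvd
    obtain ⟨ψ, hψ⟩ := exists_gl_blocks (F := F) (Nat.div_mul_le_self n d)
    haveI : NeZero (r ^ ex q r) := ⟨pow_ne_zero _ (Fact.out : r.Prime).ne_zero⟩
    obtain ⟨φ, hφ⟩ := exists_cyclic_hom hg
    set f := ψ.comp (φ.compLeft (Fin (n / d))) with hf
    have hdet : ∀ x, (f x).1.det = 1 := by
      intro x
      let D : (Fin (n / d) → Multiplicative (ZMod (r ^ ex q r))) →* Fˣ := Matrix.GeneralLinearGroup.det.comp f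
      have hx : D x ^ r ^ ex q r = 1 := by
        rw [← map_pow, show x ^ r ^ ex q r = 1 from funext fun i => by
          rw [Pi.pow_apply, Pi.one_apply]
          exact orderOf_dvd_iff_pow_eq_one.1 (by
            have := orderOf_dvd_natCard (x i)
            rwa [Nat.card_congr Multiplicative.toAdd, Nat.card_zmod] at this), map_one]
      have hx2 : D x ^ (q - 1) = 1 := by
        have hc : Nat.card Fˣ = q - 1 := by rw [Nat.card_units, Nat.card_eq_fintype_card, hq]
        rw [← hc]
        exact pow_card_eq_one'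
      have h3 := pow_gcd_eq_one.2 ⟨hx, hx2⟩
      rw [Nat.Coprime.gcd_eq_one (by simpa using coprime_of_order_ne_one (r := r) hq2 hnd (ex q r)),
        pow_one] at h3
      exact congrArg Units.val h3
    refine exists_sylow_equiv P (MonoidHom.mk' (fun x => (⟨(f x).1, hdet x⟩ : Matrix.SpecialLinearGroup (Fin n) F))
      (fun a b => Subtype.ext (by simp [map_mul]; rfl))) ?_ ?_
    · intro a b hab
      exact (hψ.comp fun x y he => funext fun i => hφ (congrFun he i)) (Units.ext (congrArg Subtype.val hab))
    · rw [Nat.card_fun, Nat.card_congr Multiplicative.toAdd, Nat.card_zmod, Nat.card_fin, ← pow_mul, hval,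
        mul_comm]

end Cfsg.Agent.S2379
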