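import Cfsg.Statements.S2381
import Cfsg.Agent.MatModule.LargeSylow

set_option autoImplicit false
open Cfsg

namespace Cfsg.Agent.S2381

open Cfsg.Agent.LargeSylow in

/-- Sylow subgroups of `Sp_{2n}(q)` for large primes. Let `F` be a field with `q` elements and `r` an odd prime with `r > n` and `r ∤ q` (so `r` does not divide the order `2^n n!` of the Weyl group). Let `d` be the multiplicative order of `q` modulo `r`, `a` the number of `i` with `1 ≤ i ≤ n` and `d ∣ 2i` (the degrees being `2, 4, …, 2n`), and `m` the `r`-part of the value at `q` of the `d`-th cyclotomic polynomial. Then every Sylow `r`-subgroup of the symplectic group `Sp_{2n}(q)` is a direct product of `a` cyclic groups of order `m`. -/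
theorem result {F : Type*} [Field F] [Fintype F] {q : ℕ} (hq : Fintype.card F = q) (n : ℕ)
    (r : ℕ) [Fact r.Prime] (hr2 : r ≠ 2) (hrn : n < r) (hrq : ¬ r ∣ q) (P : Sylow r ↥(Matrix.symplecticGroup (Fin n) F)) :
    Nonempty (↥(P : Subgroup ↥(Matrix.symplecticGroup (Fin n) F)) ≃*
      (Fin ((Finset.Icc 1 n).filter (fun i => orderOf (q : ZMod r) ∣ 2 * i)).card →
        Multiplicative (ZMod (r ^ padicValNat r ((Polynomial.cyclotomic (orderOf (q : ZMod r)) ℤ).eval (q : ℤ)).natAbs)))) := by
  classical
  rw [val_cyclotomic (two_le_q hq) hrq]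
  set d := orderOf (q : ZMod r) with hddef
  have hd := order_pos (r := r) hrq
  rw [← hddef] at hd
  have hq2 := two_le_q hq
  have hval : padicValNat r (Nat.card ↥(Matrix.symplecticGroup (Fin n) F)) =
      ((Finset.Icc 1 n).filter (fun i => d ∣ 2 * i)).card * ex q r := by
    rw [Cfsg.Agent.Classical.card_symplecticGroup hq, padicValNat.mul (pow_ne_zero _ (by omega))
      (Finset.prod_ne_zero_iff.2 fun i _ => Nat.sub_ne_zero_of_lt (Nat.one_lt_pow (by omega) (by omega))),
      val_pow_q hrq, zero_add]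
    have hbij : ∏ i ∈ Finset.range n, (q ^ (2 * (i + 1)) - 1) = ∏ i ∈ Finset.Icc 1 n, (q ^ (2 * i) - 1) := by
      rw [← Finset.Ico_add_one_right_eq_Icc, Finset.prod_Ico_eq_prod_range, Nat.add_sub_cancel]
      exact Finset.prod_congr rfl fun i _ => by rw [add_comm 1 i]
    rw [hbij, val_prod hq2 hrq _ (fun i => 2 * i) (fun i hi hdv => by
      rw [Finset.mem_Icc] at hi
      rcases (Fact.out : r.Prime).dvd_mul.1 hdv with h | h
      · exact hr2 ((Nat.prime_dvd_prime_iff_eq Fact.out Nat.prime_two).1 h)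
      · have := Nat.le_of_dvd (by omega) h
        omega)]
  rcases Nat.even_or_odd' d with ⟨h, hh | hh⟩
  · have hh0 : 0 < h := by omega
    have hcount : ((Finset.Icc 1 n).filter (fun i => d ∣ 2 * i)).card = n / h := by
      rw [← count_dvd n, hh]
      simp only [Nat.mul_dvd_mul_iff_left two_pos]
    rw [hcount] at hval ⊢
    have hk : r ^ ex q r ∣ q ^ h + 1 := by
      have h1 : r ^ ex q r ∣ (q ^ h + 1) * (q ^ h - 1) := by
        rw [← Nat.sq_sub_sq, one_pow, ← pow_mul, mul_comm h 2, ← hh]
        exact pow_ex_dvd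
      exact (coprime_of_order_ne_one hq2 (fun hdv => by
        have := Nat.le_of_dvd hh0 hdv
        rw [← hddef] at this
        omega) _).dvd_of_dvd_mul_right h1
    obtain ⟨g, hg⟩ := exists_sp_orderOf (F := F) hq hh0 hk
    obtain ⟨ψ, hψ⟩ := exists_sp_blocks (F := F) (Nat.div_mul_le_self n h)
    exact homocyclic P hval hg ψ hψ
  · have hcount : ((Finset.Icc 1 n).filter (fun i => d ∣ 2 * i)).card = n / d := by
      rw [← count_dvd n]
      congr 1
      refine Finset.filter_congr fun i _ => ?_
      exact (Nat.coprime_two_right.2 ⟨h, hh⟩).dvd_mul_left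
    rw [hcount] at hval ⊢
    obtain ⟨g, hg⟩ := exists_gl_orderOf (F := F) (k := r ^ ex q r) hq hd pow_ex_dvd
    obtain ⟨ψ, hψ⟩ := exists_sp_blocks (F := F) (Nat.div_mul_le_self n d)
    obtain ⟨φ, hφ⟩ := exists_gl_to_sp (F := F) d
    exact homocyclic P hval hg (ψ.comp (φ.compLeft (Fin (n / d))))
      (hψ.comp fun x y he => funext fun i => hφ (congrFun he i))

end Cfsg.Agent.S2381
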