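import Cfsg.Statements.S2383
import Cfsg.Agent.Chev.Semisimple.Classes
import Cfsg.Agent.Chev.Semisimple.AlcoveB2
import Cfsg.Agent.Chev.Semisimple.AlcoveD4
import Cfsg.Agent.Chev.Semisimple.AlcoveE7

set_option autoImplicit false
open Cfsg
open Cfsg.Agent.Chev Cfsg.Agent.Chev.SS

namespace Cfsg.Agent.S2383

/-- Steinberg's count of semisimple classes in characteristic 2 for the types B₂, D₄, E₇, where the finite simply connected group has trivial centre and so coincides with the Chevalley group: for the Chevalley group of type B₂, D₄ or E₇ over a field with `q` elements of characteristic 2, the conjugacy classes of elements of odd order number exactly `q^l`, `l` the rank. -/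
theorem result {F : Type*} [Field F] [Fintype F] {q : ℕ} (hq : Fintype.card F = q) [CharP F 2]
    (D : Cfsg.Lie.ChevalleyDatum) (hD : D ∈ [Cfsg.Lie.chevB2, Cfsg.Lie.chevD4, Cfsg.Lie.chevE7]) :
    Nat.card {c : ConjClasses ↥(D.group F) // ∃ g : ↥(D.group F), ConjClasses.mk g = c ∧ Odd (orderOf g)} = q ^ D.rank := by
  have hq2 : 2 ≤ q := hq ▸ Fintype.one_lt_card
  have hev : 2 ∣ q := by
    rw [← CharP.cast_eq_zero_iff F 2, ← hq]
    exact FiniteField.cast_card_eq_zero F
  have hcop : Nat.Coprime 2 (q - 1) := by
    rw [Nat.prime_two.coprime_iff_not_dvd]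
    omega
  simp only [← Nat.coprime_two_right]
  simp only [List.mem_cons, List.not_mem_nil, or_false] at hD
  rcases hD with rfl | rfl | rfl
  · exact card_semisimple_classes facts_chevB2 alcoveB2_valid two_pos
      (alcoveB2_valid.cartanInv rfl) hq hcop 2
  · exact card_semisimple_classes facts_chevD4 alcoveD4_valid two_pos
      (alcoveD4_valid.cartanInv rfl) hq hcop 2
  · exact card_semisimple_classes facts_chevE7 alcoveE7_valid two_pos
      (alcoveE7_valid.cartanInv rfl) hq hcop 2

end Cfsg.Agent.S2383
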