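import Cfsg.Statements.S2569
import Cfsg.Agent.MatModule.PolyModule

set_option autoImplicit false
open Cfsg

namespace Cfsg.Agent.S2569

open Cfsg.Agent.MatModule Polynomial

/-- In GL_n over a finite field of characteristic p, the conjugacy class of a semisimple element (an element of order prime to p) under the special linear group is its whole GL-conjugacy class: for every such x and every invertible g there is h of determinant one with h x h⁻¹ = g x g⁻¹. -/
theorem result {F : Type*} [Field F] [Fintype F] {p : ℕ} [Fact p.Prime] [CharP F p] {n : ℕ} (x g : GL (Fin n) F) (hx : (orderOf x).Coprime p) : ∃ h : GL (Fin n) F, (h : Matrix (Fin n) (Fin n) F).det = 1 ∧ h * x * h⁻¹ = g * x * g⁻¹ := by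
  classical
  haveI : Finite F := inferInstance
  rcases Nat.eq_zero_or_pos n with rfl | hn
  · exact ⟨g, Matrix.det_fin_zero, rfl⟩
  haveI : Nonempty (Fin n) := ⟨⟨0, hn⟩⟩
  have hsep : (X ^ orderOf x - C 1 : F[X]).Separable := by
    refine separable_X_pow_sub_C (1 : F) ?_ one_ne_zero
    rw [Ne, CharP.cast_eq_zero_iff F p]
    intro hd
    exact (Fact.out : p.Prime).ne_one (Nat.eq_one_of_dvd_coprimes hx hd dvd_rfl)
  have hann : aeval (Matrix.toLin' (x : Matrix (Fin n) (Fin n) F)) (X ^ orderOf x - C 1 : F[X]) = 0 := by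
    rw [map_sub, map_pow, aeval_X, aeval_C, map_one, ← Matrix.toLin'_pow, ← Units.val_pow_eq_pow_val,
      pow_orderOf_eq_one, Units.val_one, Matrix.toLin'_one]
    exact sub_self _
  obtain ⟨c, hc, hdet⟩ := exists_commute_det _ hsep.squarefree hann
    (ν := ((g : Matrix (Fin n) (Fin n) F).det)⁻¹)
    (inv_ne_zero (Matrix.isUnits_det_units g).ne_zero)
  set C' := LinearMap.toMatrix' c with hC'
  have hCdet : C'.det = ((g : Matrix (Fin n) (Fin n) F).det)⁻¹ := by
    rw [hC', LinearMap.det_toMatrix', hdet]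
  have hCu : IsUnit C'.det := by
    rw [hCdet]
    exact isUnit_iff_ne_zero.2 (inv_ne_zero (Matrix.isUnits_det_units g).ne_zero)
  set cu : GL (Fin n) F := ((Matrix.isUnit_iff_isUnit_det C').2 hCu).unit with hcu
  have hcx : cu * x = x * cu := by
    apply Units.ext
    show C' * (x : Matrix (Fin n) (Fin n) F) = (x : Matrix (Fin n) (Fin n) F) * C'
    have h := congrArg LinearMap.toMatrix' hc
    rw [Module.End.mul_eq_comp, Module.End.mul_eq_comp, LinearMap.toMatrix'_comp,
      LinearMap.toMatrix'_comp, LinearMap.toMatrix'_toLin'] at h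
    exact h
  refine ⟨g * cu, ?_, ?_⟩
  · show ((g : Matrix (Fin n) (Fin n) F) * C').det = 1
    rw [Matrix.det_mul, hCdet, mul_inv_cancel₀ (Matrix.isUnits_det_units g).ne_zero]
  · rw [mul_inv_rev]
    calc g * cu * x * (cu⁻¹ * g⁻¹) = g * (cu * x * cu⁻¹) * g⁻¹ := by group
      _ = g * x * g⁻¹ := by rw [hcx, mul_inv_cancel_right]

end Cfsg.Agent.S2569
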