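import Cfsg.Statements.S2388
import Cfsg.Agent.MatModule.GLSemisimple
import Cfsg.Agent.S2569

set_option autoImplicit false
open Cfsg

namespace Cfsg.Agent.S2388

open Cfsg.Agent.MatModule

/-- In `SL_n(q)`, `q` a power of the prime `p`, two elements of order prime to `p` with the same characteristic polynomial are conjugate in `SL_n(q)` (not merely in `GL_n`). -/
theorem result {F : Type*} [Field F] [Fintype F] (p : ℕ) [Fact p.Prime] [CharP F p] (n : ℕ)
    (g h : Matrix.SpecialLinearGroup (Fin n) F) (hg : (orderOf g).Coprime p) (hh : (orderOf h).Coprime p)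
    (hc : (g : Matrix (Fin n) (Fin n) F).charpoly = (h : Matrix (Fin n) (Fin n) F).charpoly) : IsConj g h := by
  have hinj : Function.Injective (Matrix.SpecialLinearGroup.toGL (n := Fin n) (R := F)) := by
    intro a b hab
    exact Subtype.ext (congrArg (fun z : GL (Fin n) F => (z : Matrix (Fin n) (Fin n) F)) hab)
  obtain ⟨G, hG⟩ := exists_conj_of_matrix_charpoly_eq (p := p)
    (Matrix.SpecialLinearGroup.toGL g) (Matrix.SpecialLinearGroup.toGL h)
    (by rwa [orderOf_injective _ hinj]) (by rwa [orderOf_injective _ hinj]) hc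
  obtain ⟨K, hKd, hK⟩ := S2569.result (Matrix.SpecialLinearGroup.toGL g) G
    (p := p) (by rwa [orderOf_injective _ hinj])
  rw [hG, mul_inv_eq_iff_eq_mul] at hK
  obtain ⟨k, hk⟩ : ∃ k : Matrix.SpecialLinearGroup (Fin n) F,
      (k : Matrix (Fin n) (Fin n) F) = (K : Matrix (Fin n) (Fin n) F) := ⟨⟨_, hKd⟩, rfl⟩
  refine isConj_iff.2 ⟨k, ?_⟩
  rw [mul_inv_eq_iff_eq_mul]
  apply Subtype.ext
  show (k : Matrix (Fin n) (Fin n) F) * (g : Matrix (Fin n) (Fin n) F) =
    (h : Matrix (Fin n) (Fin n) F) * (k : Matrix (Fin n) (Fin n) F)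
  rw [hk]
  exact congrArg (fun z : GL (Fin n) F => (z : Matrix (Fin n) (Fin n) F)) hK

end Cfsg.Agent.S2388
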