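import Cfsg.Statements.S2384
import Cfsg.Agent.MatModule.GLSemisimple
import Cfsg.Agent.S2387
import Cfsg.Agent.S2388

set_option autoImplicit false
open Cfsg

namespace Cfsg.Agent.S2384

open Cfsg.Agent.MatModule Polynomial

theorem card_monic_coeff {F : Type*} [Field F] [Fintype F] (n : ℕ) (a : F) :
    Nat.card {f : F[X] // f.Monic ∧ f.natDegree = n + 1 ∧ f.coeff 0 = a} = Fintype.card F ^ n := by
  classical
  set E := (monicEquivDegreeLT (R := F) (n + 1)).trans (degreeLTEquiv F (n + 1)).toEquiv with hE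
  have h0 : ∀ f, E f 0 = f.1.coeff 0 := by
    intro f
    show (f.1.eraseLead).coeff 0 = f.1.coeff 0
    rw [eraseLead_coeff_of_ne _ (by rw [f.2.2]; exact Nat.succ_ne_zero n |>.symm)]
  rw [Nat.card_congr (show {f : F[X] // f.Monic ∧ f.natDegree = n + 1 ∧ f.coeff 0 = a} ≃
      {c : Fin (n + 1) → F // c 0 = a} from
    ((Equiv.subtypeEquivRight fun f => and_assoc.symm).trans
      (Equiv.subtypeSubtypeEquivSubtypeInter _ (fun f : F[X] => f.coeff 0 = a)).symm).trans
      (E.subtypeEquiv fun f => by rw [h0]))]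
  rw [Nat.card_congr ((Fin.consEquiv (fun _ => F)).symm.subtypeEquiv (q := fun y => y.1 = a)
      (p := fun c : Fin (n + 1) → F => c 0 = a) fun c => Iff.rfl),
    Nat.card_congr (Equiv.prodSubtypeFstEquivSubtypeProd (p := fun x : F => x = a)),
    Nat.card_prod, Nat.card_unique, one_mul, Nat.card_fun, Nat.card_eq_fintype_card (α := F),
    Nat.card_fin]

/-- In `SL_n(q)`, `q` a power of the prime `p`, the number of conjugacy classes of elements of order prime to `p` (the semisimple classes) is `q^(n-1)`. -/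
theorem result {F : Type*} [Field F] [Fintype F] {q : ℕ} (hq : Fintype.card F = q) (p : ℕ) [Fact p.Prime] [CharP F p] (n : ℕ) (hn : 1 ≤ n) :
    Nat.card {c : ConjClasses (Matrix.SpecialLinearGroup (Fin n) F) //
      ∃ g : Matrix.SpecialLinearGroup (Fin n) F, ConjClasses.mk g = c ∧ (orderOf g).Coprime p} = q ^ (n - 1) := by
  classical
  obtain ⟨n, rfl⟩ := Nat.exists_eq_add_of_le' hn
  rw [← hq, Nat.add_sub_cancel, ← card_monic_coeff n ((-1 : F) ^ (n + 1))]
  have hdet : ∀ M : Matrix (Fin (n + 1)) (Fin (n + 1)) F,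
      M.det = 1 ↔ M.charpoly.coeff 0 = (-1 : F) ^ (n + 1) := by
    intro M
    rw [Matrix.det_eq_sign_charpoly_coeff, Fintype.card_fin]
    have h1 : ((-1 : F) ^ (n + 1)) * (-1) ^ (n + 1) = 1 := by rw [← mul_pow, neg_one_mul, neg_neg, one_pow]
    constructor
    · intro h
      calc M.charpoly.coeff 0 = ((-1 : F) ^ (n + 1) * (-1) ^ (n + 1)) * M.charpoly.coeff 0 := by
            rw [h1, one_mul]
        _ = _ := by rw [mul_assoc, h, mul_one]
    · intro h
      rw [h, h1]
  have hok : ∀ g : Matrix.SpecialLinearGroup (Fin (n + 1)) F,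
      (g : Matrix (Fin (n + 1)) (Fin (n + 1)) F).charpoly.Monic ∧
      (g : Matrix (Fin (n + 1)) (Fin (n + 1)) F).charpoly.natDegree = n + 1 ∧
      (g : Matrix (Fin (n + 1)) (Fin (n + 1)) F).charpoly.coeff 0 = (-1 : F) ^ (n + 1) := fun g =>
    ⟨Matrix.charpoly_monic _, by rw [Matrix.charpoly_natDegree_eq_dim, Fintype.card_fin],
      (hdet _).1 g.2⟩
  have hinj : Function.Injective (Matrix.SpecialLinearGroup.toGL (n := Fin (n + 1)) (R := F)) := by
    intro a b hab
    exact Subtype.ext (congrArg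
      (fun z : GL (Fin (n + 1)) F => (z : Matrix (Fin (n + 1)) (Fin (n + 1)) F)) hab)
  refine Nat.card_eq_of_bijective (fun c => ⟨_, hok c.2.choose⟩) ⟨?_, ?_⟩
  · intro c d h
    have h' := congrArg Subtype.val h
    have := S2388.result p (n + 1) c.2.choose d.2.choose c.2.choose_spec.2 d.2.choose_spec.2 h'
    refine Subtype.ext ?_
    rw [← c.2.choose_spec.1, ← d.2.choose_spec.1]
    exact ConjClasses.mk_eq_mk_iff_isConj.2 this
  · rintro ⟨f, hf, hd, h0⟩
    obtain ⟨g, hg, hgf⟩ := S2387.exists_semisimple p f hf hd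
      (by rw [h0]; exact pow_ne_zero _ (neg_ne_zero.2 one_ne_zero))
    set G : Matrix.SpecialLinearGroup (Fin (n + 1)) F :=
      ⟨(g : Matrix (Fin (n + 1)) (Fin (n + 1)) F), (hdet _).2 (hgf ▸ h0)⟩ with hG
    have hGo : (orderOf G).Coprime p := by
      rw [← orderOf_injective _ hinj, show Matrix.SpecialLinearGroup.toGL G = g from Units.ext rfl]
      exact hg
    refine ⟨⟨ConjClasses.mk G, G, rfl, hGo⟩, Subtype.ext ?_⟩
    have hs := Exists.choose_spec (show ∃ g' : Matrix.SpecialLinearGroup (Fin (n + 1)) F,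
      ConjClasses.mk g' = ConjClasses.mk G ∧ (orderOf g').Coprime p from ⟨G, rfl, hGo⟩)
    obtain ⟨x, hx⟩ := isConj_iff.1 (ConjClasses.mk_eq_mk_iff_isConj.1 hs.1)
    show Matrix.charpoly _ = f
    rw [← hgf]
    have e := congrArg (fun z : Matrix.SpecialLinearGroup (Fin (n + 1)) F =>
      (z : Matrix (Fin (n + 1)) (Fin (n + 1)) F).charpoly) hx
    simp only [Matrix.SpecialLinearGroup.coe_mul] at e
    rw [Matrix.charpoly_mul_comm, ← mul_assoc, ← Matrix.SpecialLinearGroup.coe_mul, inv_mul_cancel,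
      Matrix.SpecialLinearGroup.coe_one, one_mul] at e
    exact e

end Cfsg.Agent.S2384
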