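import Cfsg.Statements.S2385
import Cfsg.Agent.MatModule.SympPoly
import Cfsg.Agent.S2389

set_option autoImplicit false
open Cfsg

namespace Cfsg.Agent.S2385

open Polynomial Cfsg.Agent.SympConj in

/-- In the symplectic group `Sp_{2n}(q)`, `q` a power of the prime `p`, the number of conjugacy classes of elements of order prime to `p` is `q^n`. -/
theorem result {F : Type*} [Field F] [Fintype F] {q : ℕ} (hq : Fintype.card F = q) (p : ℕ) [Fact p.Prime] [CharP F p] (n : ℕ) :
    Nat.card {c : ConjClasses ↥(Matrix.symplecticGroup (Fin n) F) //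
      ∃ g : ↥(Matrix.symplecticGroup (Fin n) F), ConjClasses.mk g = c ∧ (orderOf g).Coprime p} = q ^ n := by
  classical
  rcases Nat.eq_zero_or_pos n with rfl | hm
  · rw [pow_zero, Nat.card_eq_one_iff_unique]
    refine ⟨⟨fun c d => Subtype.ext ?_⟩, ⟨ConjClasses.mk 1, 1, rfl, by rw [orderOf_one]; exact Nat.coprime_one_left p⟩⟩
    obtain ⟨x, hx⟩ := ConjClasses.exists_rep c.1
    obtain ⟨y, hy⟩ := ConjClasses.exists_rep d.1
    rw [← hx, ← hy, Subsingleton.elim x y]
  rw [← hq, show Fintype.card F ^ n = Nat.card (Fin n → F) by simp [Nat.card_eq_fintype_card]]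
  refine Nat.card_eq_of_bijective (fun c i => c.2.choose.1.charpoly.coeff ((i : ℕ) + 1)) ⟨?_, ?_⟩
  · intro c d h
    refine Subtype.ext ?_
    rw [← c.2.choose_spec.1, ← d.2.choose_spec.1]
    refine ConjClasses.mk_eq_mk_iff_isConj.2
      (Cfsg.Agent.S2389.result p n _ _ c.2.choose_spec.2 d.2.choose_spec.2 ?_)
    have hlow : ∀ j, j ≤ n → c.2.choose.1.charpoly.coeff j = d.2.choose.1.charpoly.coeff j := by
      intro j hj
      rcases Nat.eq_zero_or_pos j with rfl | hj0
      · have e : ∀ A : Matrix.symplecticGroup (Fin n) F, A.1.charpoly.coeff 0 = 1 := fun A => by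
          have := Matrix.det_eq_sign_charpoly_coeff A.1
          rw [det_eq_one, Fintype.card_sum, Fintype.card_fin, ← two_mul, pow_mul, neg_one_sq, one_pow,
            one_mul] at this
          exact this.symm
        rw [e, e]
      · have := congrFun h ⟨j - 1, by omega⟩
        simp only [show j - 1 + 1 = j by omega] at this
        exact this
    ext j
    rcases le_or_gt j n with hj | hj
    · exact hlow j hj
    rcases le_or_gt j (2 * n) with hj' | hj'
    · rw [show j = 2 * n - (2 * n - j) by omega, coeff_charpoly_palindromic _ (i := 2 * n - j) (by omega),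
        coeff_charpoly_palindromic _ (i := 2 * n - j) (by omega)]
      exact hlow _ (by omega)
    · rw [coeff_eq_zero_of_natDegree_lt, coeff_eq_zero_of_natDegree_lt]
      all_goals (rw [Matrix.charpoly_natDegree_eq_dim, Fintype.card_sum, Fintype.card_fin]; omega)
  · intro c
    set d : ℕ → F := fun j => if h : 1 ≤ j ∧ j ≤ n then c ⟨j - 1, by omega⟩ else 1 with hd
    set low : F[X] := ∑ j ∈ Finset.range (2 * n), C (d (min j (2 * n - j))) * X ^ j with hlowdef
    have hlow : low.degree < ((2 * n : ℕ) : WithBot ℕ) := by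
      refine lt_of_le_of_lt (degree_sum_le _ _) ((Finset.sup_lt_iff (by exact WithBot.bot_lt_coe _)).2 ?_)
      intro j hj
      exact lt_of_le_of_lt (degree_C_mul_X_pow_le _ _) (by exact_mod_cast Finset.mem_range.1 hj)
    set f : F[X] := X ^ (2 * n) + low with hfdef
    have hfm : f.Monic := monic_X_pow_add hlow
    have hfd : f.natDegree = 2 * n := by
      rw [hfdef, natDegree_add_eq_left_of_degree_lt (by rwa [degree_X_pow]), natDegree_X_pow]
    have hd0 : d 0 = 1 := by simp [hd]
    have hfc : ∀ j ≤ 2 * n, f.coeff j = d (min j (2 * n - j)) := by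
      intro j hj
      rw [hfdef, coeff_add, coeff_X_pow, hlowdef, finsetSum_coeff]
      simp only [coeff_C_mul_X_pow, Finset.sum_ite_eq, Finset.mem_range]
      rcases eq_or_lt_of_le hj with rfl | hj'
      · simp [hd0]
      · rw [if_neg hj'.ne, if_pos hj', zero_add]
    obtain ⟨A, hA⟩ := exists_charpoly hm f hfm hfd
      (fun l hl => by
        rw [hfc _ (by omega), hfc _ hl]
        congr 1
        omega)
      (by rw [hfc 0 (Nat.zero_le _), Nat.zero_min, hd0])
    -- pass to the p'-part, which has the same characteristic polynomial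
    have hord : 0 < orderOf A := orderOf_pos A
    set g := A ^ (Fintype.card F ^ orderOf A) with hg
    have hgc : g.1.charpoly = f := by
      have e : ∀ k : ℕ, (A.1 ^ (Fintype.card F ^ k)).charpoly = A.1.charpoly := by
        intro k
        induction k with
        | zero => rw [pow_zero, pow_one]
        | succ k ih => rw [pow_succ, pow_mul, FiniteField.Matrix.charpoly_pow_card, ih]
      rw [hg, SubmonoidClass.coe_pow, e, hA]
    have hgord : (orderOf g).Coprime p := by
      obtain ⟨a, k, hk, hak⟩ := Nat.exists_eq_pow_mul_and_not_dvd hord.ne' p (Fact.out : p.Prime).ne_one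
      obtain ⟨e, -, he⟩ := FiniteField.card F p
      have hdvd : orderOf g ∣ k := by
        refine orderOf_dvd_of_pow_eq_one ?_
        rw [hg, ← pow_mul, ← orderOf_dvd_iff_pow_eq_one]
        conv_lhs => rw [hak]
        refine Nat.mul_dvd_mul_right ?_ k
        rw [he, ← pow_mul]
        refine pow_dvd_pow p ?_
        have hk0 : 0 < k := Nat.pos_of_ne_zero fun h => hk (h ▸ dvd_zero p)
        calc a ≤ p ^ a := (Nat.lt_pow_self (Fact.out : p.Prime).one_lt).le
          _ ≤ orderOf A := hak ▸ Nat.le_mul_of_pos_right _ hk0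
          _ ≤ (e : ℕ) * orderOf A := Nat.le_mul_of_pos_left _ e.pos
      exact (((Fact.out : p.Prime).coprime_iff_not_dvd.2 hk).symm).coprime_dvd_left hdvd
    refine ⟨⟨ConjClasses.mk g, g, rfl, hgord⟩, funext fun i => ?_⟩
    have hs := Exists.choose_spec (show ∃ g' : Matrix.symplecticGroup (Fin n) F,
      ConjClasses.mk g' = ConjClasses.mk g ∧ (orderOf g').Coprime p from ⟨g, rfl, hgord⟩)
    obtain ⟨y, hy⟩ := isConj_iff.1 (ConjClasses.mk_eq_mk_iff_isConj.1 hs.1)
    have e := congrArg (fun w : Matrix.symplecticGroup (Fin n) F => w.1.charpoly) hy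
    simp only [Submonoid.coe_mul] at e
    rw [Matrix.charpoly_mul_comm, ← mul_assoc, ← Submonoid.coe_mul, inv_mul_cancel, OneMemClass.coe_one,
      one_mul] at e
    have hi := i.isLt
    refine (congrArg (fun w : F[X] => w.coeff ((i : ℕ) + 1)) (e.trans hgc)).trans ?_
    rw [hfc _ (by omega), show min ((i : ℕ) + 1) (2 * n - ((i : ℕ) + 1)) = (i : ℕ) + 1 by omega, hd]
    simp only []
    rw [dif_pos (show 1 ≤ (i : ℕ) + 1 ∧ (i : ℕ) + 1 ≤ n from ⟨by omega, by omega⟩)]
    rfl

end Cfsg.Agent.S2385
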