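import Cfsg.Statements.S2390
import Cfsg.Agent.MatModule.UnitaryDet
import Cfsg.Agent.MatModule.GLSemisimple

set_option autoImplicit false
open Cfsg

namespace Cfsg.Agent.S2390

/-- In the special unitary group `SU_n(q)` (inside `SL_n` over the field with `q²` elements), `q` a power of the prime `p`, two elements of order prime to `p` with the same characteristic polynomial are conjugate in `SU_n(q)`. -/
theorem result {F : Type*} [Field F] [Fintype F] {q : ℕ} (hF : Fintype.card F = q ^ 2) (p : ℕ) [Fact p.Prime] [CharP F p] (n : ℕ)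
    (g h : ↥(Cfsg.SU n F q)) (hg : (orderOf g).Coprime p) (hh : (orderOf h).Coprime p)
    (hc : ((g : Matrix.SpecialLinearGroup (Fin n) F) : Matrix (Fin n) (Fin n) F).charpoly =
      ((h : Matrix.SpecialLinearGroup (Fin n) F) : Matrix (Fin n) (Fin n) F).charpoly) : IsConj g h := by
  classical
  obtain ⟨σ, hσq, hσ, -, -⟩ := Cfsg.Agent.Classical.exists_powHom hF
  have hmem : ∀ x : ↥(Cfsg.SU n F q), Matrix.SpecialLinearGroup.toGL x.1 ∈ Cfsg.GU n F q := by
    intro x
    rw [Cfsg.Agent.Classical.mem_GU_iff hσq]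
    exact (Cfsg.Agent.Classical.mem_SU_iff hσq x.1).1 x.2
  have hinj : Function.Injective (fun x : ↥(Cfsg.SU n F q) => Matrix.SpecialLinearGroup.toGL x.1) := by
    intro a b hab
    exact Subtype.ext (Subtype.ext (congrArg (fun z : GL (Fin n) F => (z : Matrix (Fin n) (Fin n) F)) hab))
  have hord : ∀ x : ↥(Cfsg.SU n F q),
      orderOf (Matrix.SpecialLinearGroup.toGL x.1) = orderOf x := fun x =>
    orderOf_injective (Matrix.SpecialLinearGroup.toGL.comp (Cfsg.SU n F q).subtype) hinj x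
  set A := Matrix.SpecialLinearGroup.toGL g.1 with hA
  set B := Matrix.SpecialLinearGroup.toGL h.1 with hB
  obtain ⟨P, hP⟩ := Cfsg.Agent.MatModule.exists_conj_of_matrix_charpoly_eq (p := p) A B
    (by rwa [hord]) (by rwa [hord]) hc
  obtain ⟨U, hU, hUA⟩ :=
    Cfsg.Agent.UnitaryConj.exists_unitary_conj hσ hσq (hmem g) (hmem h) hP
  obtain ⟨u, hu, huA, hdet⟩ : ∃ u ∈ Cfsg.GU n F q, Commute u A ∧ u.1.det * U.1.det = 1 := by
    by_cases hU1 : U.1.det = 1
    · exact ⟨1, one_mem _, Commute.one_left _, by rw [Units.val_one, Matrix.det_one, hU1, mul_one]⟩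
    · rcases Nat.eq_zero_or_pos n with rfl | hn
      · exact absurd Matrix.det_fin_zero hU1
      obtain ⟨f, hf, hfA⟩ := Cfsg.Agent.MatModule.exists_squarefree_aeval (p := p) A (by rwa [hord])
      have hε := Cfsg.Agent.Classical.det_norm_GU hσq hU
      have hne : U.1.det ≠ 0 := left_ne_zero_of_mul_eq_one hε
      obtain ⟨u, hu, huA, hud⟩ := Cfsg.Agent.UnitaryConj.exists_unitary_commute_det hσ hσq (hmem g)
        hf hfA (ε := σ U.1.det) (by rw [hσ.2, mul_comm]; exact hε) hn
      exact ⟨u, hu, huA, by rw [hud, mul_comm]; exact hε⟩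
  have hUu : U * u ∈ Cfsg.GU n F q := mul_mem hU hu
  have hconj : U * u * A * (U * u)⁻¹ = B := by
    rw [mul_assoc U u A, huA.eq]
    exact (show U * (A * u) * (U * u)⁻¹ = U * A * U⁻¹ by group).trans hUA
  obtain ⟨k, hk⟩ : ∃ k : Matrix.SpecialLinearGroup (Fin n) F,
      (k : Matrix (Fin n) (Fin n) F) = (U * u).1 :=
    ⟨⟨_, by rw [Matrix.det_mul, mul_comm]; exact hdet⟩, rfl⟩
  have hk' : Matrix.SpecialLinearGroup.toGL k = U * u := Units.ext hk
  have hkS : k ∈ Cfsg.SU n F q := by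
    rw [Cfsg.Agent.Classical.mem_SU_iff hσq]
    rw [hk]
    exact (Cfsg.Agent.Classical.mem_GU_iff hσq _).1 hUu
  refine isConj_iff.2 ⟨⟨k, hkS⟩, hinj ?_⟩
  simp only [Subgroup.coe_mul, Subgroup.coe_inv, map_mul, map_inv, hk']
  exact hconj

end Cfsg.Agent.S2390
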