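import Cfsg.Statements.S2386
import Cfsg.Agent.MatModule.SelfDualPoly
import Cfsg.Agent.MatModule.InvariantHerm
import Cfsg.Agent.S2387
import Cfsg.Agent.S2390

set_option autoImplicit false
open Cfsg

namespace Cfsg.Agent.S2386

open Polynomial Cfsg.Agent.MatModule Cfsg.Agent.Classical Cfsg.Agent.UnitaryConj in

/-- In the special unitary group `SU_n(q)` (matrices of determinant one over the field with `q²` elements preserving the standard Hermitian form), `q` a power of the prime `p`, the number of conjugacy classes of elements of order prime to `p` is `q^(n-1)`. -/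
theorem result {F : Type*} [Field F] [Fintype F] {q : ℕ} (hF : Fintype.card F = q ^ 2) (p : ℕ) [Fact p.Prime] [CharP F p] (n : ℕ) (hn : 1 ≤ n) :
    Nat.card {c : ConjClasses ↥(Cfsg.SU n F q) // ∃ g : ↥(Cfsg.SU n F q), ConjClasses.mk g = c ∧ (orderOf g).Coprime p} = q ^ (n - 1) := by
  classical
  obtain ⟨σ, hσq, hσ, -, -⟩ := exists_powHom hF
  obtain ⟨z, hz⟩ := Herm.exists_moved hσ
  obtain ⟨m, rfl⟩ := Nat.exists_eq_add_of_le' hn
  rw [Nat.add_sub_cancel]
  set ε : F := (-1) ^ (m + 1) with hεdef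
  have hεσ : σ ε = ε := by rw [hεdef, map_pow, map_neg, map_one]
  have hεε : ε * ε = 1 := by rw [hεdef, ← mul_pow, neg_one_mul, neg_neg, one_pow]
  have hε : ε * σ ε = 1 := by rw [hεσ, hεε]
  rw [← card_twisted σ hσ.2 z hz ε hε (Nat.card_eq_fintype_card.trans hF) m]
  -- coefficients of conjugate-inverse characteristic polynomials
  have hadjc : ∀ (M : Matrix (Fin (m + 1)) (Fin (m + 1)) F) (j : ℕ),
      (adj σ M).charpoly.coeff j = σ (M.charpoly.coeff j) := by
    intro M j
    rw [adj, Matrix.charpoly_transpose, Matrix.charpoly_map, coeff_map]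
  have hrel : ∀ g : ↥(Cfsg.SU (m + 1) F q), ∀ j ≤ m + 1,
      σ ((g.1 : Matrix (Fin (m + 1)) (Fin (m + 1)) F).charpoly.coeff j) =
        ε * (g.1 : Matrix (Fin (m + 1)) (Fin (m + 1)) F).charpoly.coeff (m + 1 - j) := by
    intro g j hj
    set M := (g.1 : Matrix (Fin (m + 1)) (Fin (m + 1)) F) with hM
    have hU : Matrix.SpecialLinearGroup.toGL g.1 ∈ Cfsg.GU (m + 1) F q :=
      (mem_GU_iff hσq _).2 ((mem_SU_iff hσq g.1).1 g.2)
    have h1 : adj σ M * M = 1 := (mem_GU_iff_adj hσq _).1 hU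
    have h2 : M⁻¹ = adj σ M := Matrix.inv_eq_left_inv h1
    rw [← hadjc, ← h2, coeff_charpoly_inv M g.1.2 (by simpa using hj), Fintype.card_fin]
  have hf0 : ∀ g : ↥(Cfsg.SU (m + 1) F q),
      (g.1 : Matrix (Fin (m + 1)) (Fin (m + 1)) F).charpoly.coeff 0 = ε := by
    intro g
    have h := Matrix.det_eq_sign_charpoly_coeff (g.1 : Matrix (Fin (m + 1)) (Fin (m + 1)) F)
    rw [g.1.2, Fintype.card_fin, ← hεdef] at h
    calc _ = ε * ε * (g.1 : Matrix (Fin (m + 1)) (Fin (m + 1)) F).charpoly.coeff 0 := by rw [hεε, one_mul]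
      _ = ε := by rw [mul_assoc, ← h, mul_one]
  have hmem : ∀ g : ↥(Cfsg.SU (m + 1) F q), ∀ i : Fin m,
      (g.1 : Matrix (Fin (m + 1)) (Fin (m + 1)) F).charpoly.coeff ((i.rev : ℕ) + 1) =
        ε * σ ((g.1 : Matrix (Fin (m + 1)) (Fin (m + 1)) F).charpoly.coeff ((i : ℕ) + 1)) := by
    intro g i
    have hi := i.isLt
    rw [hrel g _ (by omega), ← mul_assoc, hεε, one_mul]
    congr 1
    rw [Fin.val_rev]
    omega
  refine Nat.card_eq_of_bijective (fun c => ⟨fun i => (c.2.choose.1 : Matrix (Fin (m + 1)) (Fin (m + 1)) F).charpoly.coeff ((i : ℕ) + 1), hmem c.2.choose⟩) ⟨?_, ?_⟩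
  · intro c d h
    have h' := congrArg Subtype.val h
    refine Subtype.ext ?_
    rw [← c.2.choose_spec.1, ← d.2.choose_spec.1]
    refine ConjClasses.mk_eq_mk_iff_isConj.2
      (Cfsg.Agent.S2390.result hF p (m + 1) _ _ c.2.choose_spec.2 d.2.choose_spec.2 ?_)
    ext j
    rcases Nat.eq_zero_or_pos j with rfl | hj
    · rw [hf0, hf0]
    rcases lt_trichotomy j (m + 1) with hj' | rfl | hj'
    · have := congrFun h' ⟨j - 1, by omega⟩
      simp only [show j - 1 + 1 = j by omega] at this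
      exact this
    · have e : ∀ M : Matrix (Fin (m + 1)) (Fin (m + 1)) F, M.charpoly.coeff (m + 1) = 1 := fun M => by
        have := M.charpoly_monic.coeff_natDegree
        rwa [Matrix.charpoly_natDegree_eq_dim, Fintype.card_fin] at this
      rw [e, e]
    · rw [coeff_eq_zero_of_natDegree_lt, coeff_eq_zero_of_natDegree_lt]
      all_goals rw [Matrix.charpoly_natDegree_eq_dim, Fintype.card_fin]; exact hj'
  · rintro ⟨c, hc⟩
    set f : F[X] := X ^ (m + 1) + (C ε + ∑ i : Fin m, C (c i) * X ^ ((i : ℕ) + 1)) with hfdef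
    have hlow : (C ε + ∑ i : Fin m, C (c i) * X ^ ((i : ℕ) + 1)).degree < ((m + 1 : ℕ) : WithBot ℕ) := by
      refine lt_of_le_of_lt (degree_add_le _ _) (max_lt ?_ ?_)
      · exact lt_of_le_of_lt degree_C_le (by exact_mod_cast Nat.succ_pos m)
      · refine lt_of_le_of_lt (degree_sum_le _ _) ((Finset.sup_lt_iff (by exact WithBot.bot_lt_coe _)).2 ?_)
        intro i _
        exact lt_of_le_of_lt (degree_C_mul_X_pow_le _ _) (by exact_mod_cast Nat.succ_lt_succ i.isLt)
    have hfm : f.Monic := monic_X_pow_add hlow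
    have hfd : f.natDegree = m + 1 := by
      rw [hfdef, natDegree_add_eq_left_of_degree_lt (by rwa [degree_X_pow]), natDegree_X_pow]
    have hfc : ∀ j, f.coeff j = (if j = m + 1 then 1 else 0) + ((if j = 0 then ε else 0) +
        ∑ i : Fin m, if j = (i : ℕ) + 1 then c i else 0) := by
      intro j
      rw [hfdef, coeff_add, coeff_add, coeff_X_pow, coeff_C, finsetSum_coeff]
      simp only [coeff_C_mul_X_pow]
    have hci : ∀ i : Fin m, f.coeff ((i : ℕ) + 1) = c i := by
      intro i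
      rw [hfc, if_neg (by omega), if_neg (by omega), zero_add, zero_add,
        Finset.sum_eq_single i (fun k _ hk => if_neg (fun he => hk (Fin.ext (by omega))))
          (fun h => absurd (Finset.mem_univ i) h), if_pos rfl]
    have h00 : f.coeff 0 = ε := by
      rw [hfc, if_neg (by omega), if_pos rfl, Finset.sum_eq_zero (fun k _ => if_neg (by omega)),
        zero_add, add_zero]
    have htop : f.coeff (m + 1) = 1 := by rw [← hfd]; exact hfm.coeff_natDegree
    have hfrel : ∀ j ≤ m + 1, σ (f.coeff j) = ε * f.coeff (m + 1 - j) := by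
      intro j hj
      rcases Nat.eq_zero_or_pos j with rfl | hj0
      · rw [Nat.sub_zero, h00, htop, mul_one, hεσ]
      rcases eq_or_lt_of_le hj with rfl | hj'
      · rw [Nat.sub_self, h00, htop, map_one, hεε]
      obtain ⟨i, rfl⟩ : ∃ i : Fin m, j = (i : ℕ) + 1 := ⟨⟨j - 1, by omega⟩, by simp; omega⟩
      rw [hci, show m + 1 - ((i : ℕ) + 1) = (i.rev : ℕ) + 1 by rw [Fin.val_rev]; omega, hci, hc,
        ← mul_assoc, hεε, one_mul]
    have hε0 : ε ≠ 0 := left_ne_zero_of_mul_eq_one hεε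
    obtain ⟨x, hx, hxf⟩ := Cfsg.Agent.S2387.exists_semisimple p f hfm hfd (h00 ▸ hε0)
    have hxd : x.1.det = 1 := by
      rw [Matrix.det_eq_sign_charpoly_coeff, hxf, h00, Fintype.card_fin, ← hεdef, hεε]
    let star' : GL (Fin (m + 1)) F →* GL (Fin (m + 1)) F :=
      { toFun := fun g => ⟨adj σ (g⁻¹ : GL (Fin (m + 1)) F).1, adj σ g.1,
          by rw [← adj_mul, Units.mul_inv, adj_one], by rw [← adj_mul, Units.inv_mul, adj_one]⟩
        map_one' := Units.ext (by rw [Units.val_mk, inv_one, Units.val_one, adj_one])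
        map_mul' := fun a b => Units.ext (by
          change adj σ ((a * b)⁻¹ : GL (Fin (m + 1)) F).1 =
            adj σ (a⁻¹ : GL (Fin (m + 1)) F).1 * adj σ (b⁻¹ : GL (Fin (m + 1)) F).1
          rw [_root_.mul_inv_rev, Units.val_mul, adj_mul]) }
    have hsx : (orderOf (star' x)).Coprime p := hx.coprime_dvd_left (orderOf_map_dvd star' x)
    have hscp : (star' x).1.charpoly = f := by
      ext j
      change (adj σ (x⁻¹ : GL (Fin (m + 1)) F).1).charpoly.coeff j = _
      rw [hadjc, Matrix.coe_units_inv]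
      rcases le_or_gt j (m + 1) with hj | hj
      · rw [coeff_charpoly_inv x.1 hxd (by simpa using hj), hxf, Fintype.card_fin, ← hεdef, ← hfrel j hj,
          hσ.2]
      · rw [coeff_eq_zero_of_natDegree_lt, map_zero, coeff_eq_zero_of_natDegree_lt (hfd ▸ hj)]
        rw [Matrix.charpoly_natDegree_eq_dim, Fintype.card_fin]; exact hj
    obtain ⟨Q, hQ⟩ := exists_conj_of_matrix_charpoly_eq (p := p) x (star' x) hx hsx (by rw [hxf, hscp])
    have hQ' : adj σ x.1 * Q.1 * x.1 = Q.1 := by
      have h1 : Q.1 * x.1 = (star' x).1 * Q.1 := by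
        rw [← Units.val_mul, ← Units.val_mul, ← hQ, inv_mul_cancel_right]
      rw [mul_assoc, h1, ← mul_assoc, show adj σ x.1 * (star' x).1 = 1 from (star' x).inv_mul, one_mul]
    obtain ⟨P, hP⟩ := exists_conj_mem_GU hσ hσq x Q hQ'
    have hPd : (P * x * P⁻¹).1.det = 1 := by
      have e : Matrix.GeneralLinearGroup.det (P * x * P⁻¹) = 1 := by
        rw [map_mul, map_mul, map_inv, mul_inv_cancel_comm]
        exact Units.ext hxd
      exact congrArg Units.val e
    set g : ↥(Cfsg.SU (m + 1) F q) := ⟨⟨_, hPd⟩, (mem_SU_iff hσq _).2 ((mem_GU_iff hσq _).1 hP)⟩ with hg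
    have hgord : (orderOf g).Coprime p := by
      have hinj : Function.Injective (fun y : ↥(Cfsg.SU (m + 1) F q) => Matrix.SpecialLinearGroup.toGL y.1) := by
        intro a b hab
        exact Subtype.ext (Subtype.ext (congrArg Units.val hab))
      rw [← orderOf_injective (Matrix.SpecialLinearGroup.toGL.comp (Cfsg.SU (m + 1) F q).subtype) hinj g,
        show (Matrix.SpecialLinearGroup.toGL.comp (Cfsg.SU (m + 1) F q).subtype) g = MulAut.conj P x from
          Units.ext rfl]
      exact hx.coprime_dvd_left (orderOf_map_dvd (MulAut.conj P).toMonoidHom x)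
    have hgc : (g.1 : Matrix (Fin (m + 1)) (Fin (m + 1)) F).charpoly = f := by
      change ((P * x * P⁻¹ : GL (Fin (m + 1)) F).1).charpoly = f
      rw [Units.val_mul, Units.val_mul, Matrix.charpoly_mul_comm, ← mul_assoc, ← Units.val_mul,
        inv_mul_cancel, Units.val_one, one_mul, hxf]
    refine ⟨⟨ConjClasses.mk g, g, rfl, hgord⟩, Subtype.ext ?_⟩
    have hs := Exists.choose_spec (show ∃ g' : ↥(Cfsg.SU (m + 1) F q),
      ConjClasses.mk g' = ConjClasses.mk g ∧ (orderOf g').Coprime p from ⟨g, rfl, hgord⟩)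
    obtain ⟨y, hy⟩ := isConj_iff.1 (ConjClasses.mk_eq_mk_iff_isConj.1 hs.1)
    funext i
    have e := congrArg (fun w : ↥(Cfsg.SU (m + 1) F q) =>
      ((Matrix.SpecialLinearGroup.toGL w.1 : GL (Fin (m + 1)) F).1).charpoly) hy
    simp only [Subgroup.coe_mul, Subgroup.coe_inv, map_mul, map_inv, Units.val_mul] at e
    rw [Matrix.charpoly_mul_comm, ← mul_assoc, ← Units.val_mul, inv_mul_cancel, Units.val_one,
      one_mul] at e
    exact (congrArg (fun w : F[X] => w.coeff ((i : ℕ) + 1)) (e.trans hgc)).trans (hci i)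

end Cfsg.Agent.S2386
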