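import Mathlib
import Cfsg.Statements.S2392
import Cfsg.Agent.Classical.LinearBasic
import Cfsg.Agent.Classical.LinearMove

set_option autoImplicit false
open scoped MatrixGroups
open Cfsg

namespace Cfsg.Agent.S2392
open Matrix

section
variable {F : Type*} [Field F] {n : ℕ}

/-- The vectors killed by the coordinate `l`. -/
def plane (l : Fin n) : AddSubgroup (Fin n → F) where
  carrier := {a | a l = 0}
  add_mem' := fun {a b} (ha : a l = 0) (hb : b l = 0) => by simp [ha, hb]
  zero_mem' := rfl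
  neg_mem' := fun {a} (ha : a l = 0) => by simp [ha]

/-- The transvection `v ↦ v + v l • a`. -/
def T (l : Fin n) (a : plane (F := F) l) : Matrix.SpecialLinearGroup (Fin n) F :=
  ⟨1 + vecMulVec a.1 (Pi.single l 1), by
    rw [Classical.det_one_add_vecMulVec, single_dotProduct, one_mul, show a.1 l = 0 from a.2, add_zero]⟩

theorem T_mulVec (l : Fin n) (a : plane (F := F) l) (v : Fin n → F) :
    (T l a).1 *ᵥ v = v + v l • a.1 := by
  show (1 + vecMulVec a.1 (Pi.single l 1)) *ᵥ v = _
  rw [add_mulVec, one_mulVec, vecMulVec_mulVec, single_dotProduct, one_mul]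
  rw [op_smul_eq_smul]

theorem T_zero (l : Fin n) : T (F := F) l 0 = 1 :=
  Classical.sl_ext_mulVec fun v => by rw [T_mulVec]; simp

theorem T_add (l : Fin n) (a b : plane (F := F) l) : T l (a + b) = T l a * T l b := by
  refine Classical.sl_ext_mulVec fun v => ?_
  rw [Matrix.SpecialLinearGroup.coe_mul, ← mulVec_mulVec, T_mulVec, T_mulVec, T_mulVec]
  have hb : b.1 l = 0 := b.2
  simp only [AddSubgroup.coe_add, smul_add, Pi.add_apply, Pi.smul_apply, hb, smul_zero, add_zero]
  abel

theorem T_central {l : Fin n} (hn : 2 ≤ n) (a : plane (F := F) l)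
    (h : T l a ∈ Subgroup.center (Matrix.SpecialLinearGroup (Fin n) F)) : a = 0 := by
  obtain ⟨r, -, hr⟩ := Matrix.SpecialLinearGroup.mem_center_iff.1 h
  obtain ⟨i, hi⟩ := Fintype.exists_ne_of_one_lt_card (by simp; omega) l
  have e : ∀ v : Fin n → F, v + v l • a.1 = r • v := fun v => by
    rw [← T_mulVec, ← hr]; ext j; simp [mulVec_diagonal]
  have h1 := congrFun (e (Pi.single i 1)) i
  simp [Pi.single_apply, Ne.symm hi] at h1
  refine Subtype.ext (funext fun j => ?_)
  have h2 := congrFun (e (Pi.single l 1)) j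
  simp [← h1] at h2
  exact h2

/-- The stabiliser moves row vectors around. -/
theorem exists_move {l : Fin n} (u u' : Fin n → F) (hu : u l = 0) (hu' : u' l = 0)
    (hind : u ∉ Submodule.span F {u' - u}) : ∃ g : Matrix.SpecialLinearGroup (Fin n) F,
      u ᵥ* g.1 = u' ∧ (∀ a : plane (F := F) l, (g.1 *ᵥ a.1) l = 0) ∧
      g.1 *ᵥ Pi.single l 1 = Pi.single l 1 ∧ Pi.single l 1 ᵥ* g.1 = Pi.single l 1 := by
  obtain ⟨φ, hφu, hφ⟩ := Classical.exists_dual_one _ hind
  let a : Fin n → F := Function.update φ l 0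
  have hdot : ∀ w : Fin n → F, w l = 0 → w ⬝ᵥ a = φ ⬝ᵥ w := fun w hw => by
    rw [dotProduct_comm φ]
    refine Finset.sum_congr rfl fun j _ => ?_
    by_cases hj : j = l
    · subst hj; simp [a, hw]
    · simp [a, hj]
  have hua : u ⬝ᵥ a = 1 := by rw [hdot u hu]; exact hφu
  have hdl : (u' - u) l = 0 := by simp [hu, hu']
  have hperp : (u' - u) ⬝ᵥ a = 0 := by
    rw [hdot _ hdl]; exact hφ _ (Submodule.mem_span_singleton_self _)
  have hal : a l = 0 := by simp [a]
  refine ⟨⟨1 + vecMulVec a (u' - u), by rw [Classical.det_one_add_vecMulVec, hperp, add_zero]⟩, ?_, ?_, ?_, ?_⟩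
  · show u ᵥ* (1 + vecMulVec a (u' - u)) = u'
    rw [vecMul_add, vecMul_one, vecMul_vecMulVec, hua, one_smul, add_sub_cancel]
  · intro b
    show ((1 + vecMulVec a (u' - u)) *ᵥ b.1) l = 0
    rw [add_mulVec, one_mulVec, vecMulVec_mulVec]
    simp [hal, show b.1 l = 0 from b.2]
  · show (1 + vecMulVec a (u' - u)) *ᵥ Pi.single l 1 = _
    rw [add_mulVec, one_mulVec, vecMulVec_mulVec, dotProduct_single, hdl]
    simp
  · show Pi.single l 1 ᵥ* (1 + vecMulVec a (u' - u)) = _
    rw [vecMul_add, vecMul_one, vecMul_vecMulVec, single_dotProduct, hal]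
    simp

end


/-- A lower bound for representations in cross characteristic: for `n ≥ 3` and a field `F` with `q` elements, every homomorphism from `SL_n(F)` to `GL_d(K)`, `K` a field of characteristic different from that of `F`, whose kernel is central has `d ≥ q^(n-1) - 1`. -/
theorem result {F : Type*} [Field F] [Fintype F] {q : ℕ} (hq : Fintype.card F = q) (n : ℕ) (hn : 3 ≤ n)
    {K : Type*} [Field K] (hK : ringChar K ≠ ringChar F) {d : ℕ}
    (ρ : Matrix.SpecialLinearGroup (Fin n) F →* GL (Fin d) K) (hker : ρ.ker ≤ Subgroup.center (Matrix.SpecialLinearGroup (Fin n) F)) :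
    q ^ (n - 1) - 1 ≤ d := by
  classical
  let p := ringChar F
  haveI : CharP F p := ringChar.charP F
  obtain ⟨⟨k, hk⟩, hp, hcard⟩ := FiniteField.card F p
  haveI : Fact p.Prime := ⟨hp⟩
  let L := AlgebraicClosure K
  have hpL : (p : L) ≠ 0 := by
    intro h
    have hpK : (p : K) = 0 := (algebraMap K L).injective (by rw [map_natCast, map_zero]; exact h)
    have hdvd : ringChar K ∣ p := ringChar.dvd hpK
    rcases (Nat.dvd_prime hp).1 hdvd with h1 | h1
    · exact CharP.ringChar_ne_one (R := K) h1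
    · exact hK h1
  haveI : NeZero (p : L) := ⟨hpL⟩
  haveI : NeZero p := ⟨hp.ne_zero⟩
  obtain ⟨ζ, hζr⟩ := IsAlgClosed.exists_root (Polynomial.cyclotomic p L) (Polynomial.degree_cyclotomic_pos p L hp.pos).ne'
  have hζ : IsPrimitiveRoot ζ p := Polynomial.isRoot_cyclotomic_iff.1 hζr
  letI : Algebra (ZMod p) F := ZMod.algebra F p
  obtain ⟨φ, hφ⟩ : ∃ φ : F →ₗ[ZMod p] ZMod p, φ 1 = 1 := by
    obtain ⟨f, hf⟩ := LinearMap.exists_leftInverse_of_injective (Algebra.linearMap (ZMod p) F)
      (LinearMap.ker_eq_bot.2 (algebraMap (ZMod p) F).injective)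
    exact ⟨f, by simpa using LinearMap.congr_fun hf 1⟩
  let ψ : AddChar F L := (AddChar.zmodChar p hζ.pow_eq_one).compAddMonoidHom φ.toAddMonoidHom
  have hψ1 : ψ 1 ≠ 1 := by
    show AddChar.zmodChar p hζ.pow_eq_one (φ 1) ≠ 1
    rw [hφ, AddChar.zmodChar_apply, ZMod.val_one, pow_one]
    exact hζ.ne_one hp.one_lt
  haveI : NeZero n := ⟨by omega⟩
  let l : Fin n := 0
  let A := plane (F := F) l
  let R : Matrix.SpecialLinearGroup (Fin n) F →* Matrix (Fin d) (Fin d) L :=
    ((RingHom.mapMatrix (algebraMap K L)).toMonoidHom.comp (Units.coeHom _)).comp ρ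
  -- orthogonality
  have horth : ∀ w : A, w ≠ 0 → ∑ a : A, ψ (w.1 ⬝ᵥ a.1) = 0 := by
    intro w hw
    obtain ⟨j, hj⟩ : ∃ j, w.1 j ≠ 0 := by
      by_contra hc
      push Not at hc
      exact hw (Subtype.ext (funext hc))
    have hjl : j ≠ l := fun e => hj (e ▸ w.2)
    let f : AddChar A L :=
      { toFun := fun a => ψ (w.1 ⬝ᵥ a.1)
        map_zero_eq_one' := by simp
        map_add_eq_mul' := fun a b => by simp [dotProduct_add, AddChar.map_add_eq_mul] }
    have hf : f ≠ 1 := by
      intro h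
      have h1 : f ⟨Pi.single j (w.1 j)⁻¹, Pi.single_eq_of_ne hjl.symm _⟩ = 1 := by rw [h]; rfl
      change ψ (w.1 ⬝ᵥ Pi.single j (w.1 j)⁻¹) = 1 at h1
      rw [dotProduct_single, mul_inv_cancel₀ hj] at h1
      exact hψ1 h1
    exact AddChar.sum_eq_zero_of_ne_one hf
  have hA0 : (Fintype.card A : L) ≠ 0 := by
    have hA : IsPGroup p (Multiplicative A) := fun a => ⟨1, by
      rw [pow_one]
      apply Multiplicative.toAdd.injective
      apply Subtype.ext
      funext j
      show p • (Multiplicative.toAdd a).1 j = 0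
      rw [nsmul_eq_mul, CharP.cast_eq_zero, zero_mul]⟩
    obtain ⟨i, hi⟩ := IsPGroup.iff_card.1 hA
    rw [Nat.card_congr Multiplicative.toAdd, Nat.card_eq_fintype_card] at hi
    rw [hi, Nat.cast_pow]
    exact pow_ne_zero _ hpL
  let P : A → Matrix (Fin d) (Fin d) L := fun u => ∑ a : A, ψ (-(u.1 ⬝ᵥ a.1)) • R (T l a)
  have hRP : ∀ u a : A, R (T l a) * P u = ψ (u.1 ⬝ᵥ a.1) • P u := by
    intro u a
    simp only [P, Matrix.mul_sum, Finset.smul_sum, Matrix.mul_smul, smul_smul, ← map_mul R, ← T_add]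
    refine Fintype.sum_equiv (Equiv.addLeft a) (fun b : A => ψ (-(u.1 ⬝ᵥ b.1)) • R (T l (a + b)))
      (fun c : A => (ψ (u.1 ⬝ᵥ a.1) * ψ (-(u.1 ⬝ᵥ c.1))) • R (T l c)) fun b => ?_
    show _ = (ψ (u.1 ⬝ᵥ a.1) * ψ (-(u.1 ⬝ᵥ (a + b).1))) • R (T l (a + b))
    rw [← AddChar.map_add_eq_mul, AddSubgroup.coe_add, dotProduct_add]
    congr 2
    ring
  have hsum : ∑ u : A, P u = (Fintype.card A : L) • 1 := by
    simp only [P]
    rw [Finset.sum_comm, Finset.sum_eq_single (0 : A)]
    · rw [T_zero, map_one]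
      simp [← Nat.cast_smul_eq_nsmul L]
    · intro a _ ha
      rw [← Finset.sum_smul]
      have hz : ∑ u : A, ψ (-(u.1 ⬝ᵥ a.1)) = 0 := by
        rw [← horth a ha]
        refine Fintype.sum_equiv (Equiv.neg A) (fun u : A => ψ (-(u.1 ⬝ᵥ a.1))) (fun u : A => ψ (a.1 ⬝ᵥ u.1)) fun u => ?_
        show _ = ψ (a.1 ⬝ᵥ (-u : A).1)
        rw [AddSubgroup.coe_neg, dotProduct_neg, dotProduct_comm]
      rw [hz, zero_smul]
    · simp
  -- some nontrivial constituent
  obtain ⟨u₀, hu₀, hPu₀⟩ : ∃ u : A, u ≠ 0 ∧ P u ≠ 0 := by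
    by_contra hc
    push Not at hc
    obtain ⟨i, hi⟩ := Fintype.exists_ne_of_one_lt_card (by simp; omega) l
    let a : A := ⟨Pi.single i 1, Pi.single_eq_of_ne hi.symm _⟩
    have ha : a ≠ 0 := fun h => by simpa [a] using congrFun (congrArg Subtype.val h) i
    have h1 : P 0 = (Fintype.card A : L) • 1 := by
      rw [← hsum, Finset.sum_eq_single (0 : A) (fun u _ hu => hc u hu) (by simp)]
    have h2 := hRP 0 a
    rw [h1, mul_smul_comm, mul_one, AddSubgroup.coe_zero, zero_dotProduct, AddChar.map_zero_eq_one, one_smul] at h2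
    have h3 : R (T l a) = 1 := smul_right_injective _ hA0 h2
    have h4 : T l a ∈ ρ.ker := by
      rw [MonoidHom.mem_ker]
      apply Units.ext
      have h5 : ((ρ (T l a)).1).map (algebraMap K L) = (1 : Matrix (Fin d) (Fin d) L) := h3
      ext x y
      refine (algebraMap K L).injective ?_
      have := congrFun (congrFun h5 x) y
      rw [Matrix.map_apply] at this
      rw [this, Units.val_one]
      by_cases hxy : x = y <;> simp [Matrix.one_apply, hxy]
    exact ha (T_central (by omega) a (hker h4))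
  -- transport
  have hmove : ∀ u u' : A, u.1 ∉ Submodule.span F {u'.1 - u.1} → P u' ≠ 0 → P u ≠ 0 := by
    intro u u' hind hP hzero
    obtain ⟨g, hgu, hgA, hge, hge'⟩ := exists_move u.1 u'.1 u.2 u'.2 hind
    apply hP
    have hgT : ∀ a : A, T l ⟨g.1 *ᵥ a.1, hgA a⟩ * g = g * T l a := by
      intro a
      refine Classical.sl_ext_mulVec fun v => ?_
      have hl : (g.1 *ᵥ v) l = v l := by
        have := congrArg (fun w => w ⬝ᵥ v) hge'
        rwa [← dotProduct_mulVec, single_dotProduct, single_dotProduct, one_mul, one_mul] at this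
      rw [Matrix.SpecialLinearGroup.coe_mul, Matrix.SpecialLinearGroup.coe_mul, ← mulVec_mulVec, ← mulVec_mulVec,
        T_mulVec, T_mulVec, mulVec_add, mulVec_smul, hl]
    let e : A → A := fun a => ⟨g.1 *ᵥ a.1, hgA a⟩
    have he : Function.Bijective e := by
      refine Finite.injective_iff_bijective.1 fun a b hab => Subtype.ext ?_
      have h1 : g.1 *ᵥ a.1 = g.1 *ᵥ b.1 := congrArg Subtype.val hab
      have h2 := congrArg (fun w => (g⁻¹).1 *ᵥ w) h1
      simp only [mulVec_mulVec, ← Matrix.SpecialLinearGroup.coe_mul, inv_mul_cancel, Matrix.SpecialLinearGroup.coe_one, one_mulVec] at h2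
      exact h2
    have h1 : P u = ∑ a : A, ψ (-(u'.1 ⬝ᵥ a.1)) • R (T l (e a)) := by
      show ∑ a : A, ψ (-(u.1 ⬝ᵥ a.1)) • R (T l a) = _
      rw [← he.sum_comp (fun a : A => ψ (-(u.1 ⬝ᵥ a.1)) • R (T l a))]
      refine Finset.sum_congr rfl fun a _ => ?_
      show ψ (-(u.1 ⬝ᵥ (g.1 *ᵥ a.1))) • _ = _
      rw [dotProduct_mulVec, hgu]
    have h2 : P u * R g = R g * P u' := by
      rw [h1]
      simp only [P, Matrix.sum_mul, Matrix.mul_sum, Matrix.smul_mul, Matrix.mul_smul, ← map_mul R]
      refine Finset.sum_congr rfl fun a _ => ?_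
      rw [hgT a]
    rw [hzero, zero_mul] at h2
    calc P u' = R g⁻¹ * (R g * P u') := by rw [← mul_assoc, ← map_mul, inv_mul_cancel, map_one, one_mul]
      _ = 0 := by rw [← h2, mul_zero]
  have hall : ∀ u : A, u ≠ 0 → P u ≠ 0 := by
    intro u hu
    by_cases hind : u.1 ∈ Submodule.span F {u₀.1 - u.1}
    · -- an intermediate vector
      obtain ⟨w, hw⟩ : ∃ w : A, w.1 ∉ Submodule.span F ({u.1} : Set (Fin n → F)) := by
        by_contra hc
        push Not at hc
        obtain ⟨i, hi⟩ := Fintype.exists_ne_of_one_lt_card (by simp; omega) l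
        obtain ⟨j, hj⟩ : ∃ j, j ∉ ({l, i} : Finset (Fin n)) := by
          by_contra hc'
          push Not at hc'
          have h1 := Finset.card_le_card (fun j _ => hc' j : (Finset.univ : Finset (Fin n)) ⊆ {l, i})
          have h2 := Finset.card_le_two (a := l) (b := i)
          rw [Finset.card_univ, Fintype.card_fin] at h1
          omega
        simp only [Finset.mem_insert, Finset.mem_singleton, not_or] at hj
        obtain ⟨c, hc1⟩ := Submodule.mem_span_singleton.1 (hc ⟨Pi.single i 1, Pi.single_eq_of_ne hi.symm _⟩)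
        obtain ⟨c', hc2⟩ := Submodule.mem_span_singleton.1 (hc ⟨Pi.single j 1, Pi.single_eq_of_ne (Ne.symm hj.1) _⟩)
        have e1 := congrFun hc1 i
        have e2 := congrFun hc1 j
        have e3 := congrFun hc2 j
        simp [hj.2] at e1 e2 e3
        rcases e2 with h | h
        · simp [h] at e1
        · simp [h] at e3
      have hu1 : u.1 ≠ 0 := fun h => hu (Subtype.ext h)
      obtain ⟨c, hcu⟩ : ∃ c : F, u₀.1 = c • u.1 := by
        obtain ⟨t, ht⟩ := Submodule.mem_span_singleton.1 hind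
        refine ⟨t⁻¹ + 1, ?_⟩
        have ht0 : t ≠ 0 := fun h => hu1 (by rw [← ht, h, zero_smul])
        have : u₀.1 - u.1 = t⁻¹ • u.1 := by
          calc u₀.1 - u.1 = t⁻¹ • (t • (u₀.1 - u.1)) := (inv_smul_smul₀ ht0 _).symm
            _ = t⁻¹ • u.1 := by rw [ht]
        rw [add_smul, one_smul, ← this, sub_add_cancel]
      have h1 : w.1 ∉ Submodule.span F {u₀.1 - w.1} := by
        intro h
        obtain ⟨t, ht⟩ := Submodule.mem_span_singleton.1 h
        refine hw (Submodule.mem_span_singleton.2 ⟨(1 + t)⁻¹ * (t * c), ?_⟩)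
        have e : (1 + t) • w.1 = (t * c) • u.1 := by
          rw [add_smul, one_smul, mul_smul, ← hcu]
          nth_rewrite 1 [← ht]
          rw [smul_sub]; abel
        have h1t : (1 + t) ≠ 0 := by
          intro h0
          rw [h0, zero_smul] at e
          rcases smul_eq_zero.1 e.symm with h' | h'
          · rcases mul_eq_zero.1 h' with h'' | h''
            · rw [h'', add_zero] at h0; exact one_ne_zero (α := F) h0
            · exact hu₀ (Subtype.ext (by rw [hcu, h'', zero_smul]; rfl))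
          · exact hu1 h'
        rw [mul_smul, ← e, inv_smul_smul₀ h1t]
      have h2 : u.1 ∉ Submodule.span F {w.1 - u.1} := by
        intro h
        obtain ⟨t, ht⟩ := Submodule.mem_span_singleton.1 h
        have ht0 : t ≠ 0 := fun h => hu1 (by rw [← ht, h, zero_smul])
        refine hw (Submodule.mem_span_singleton.2 ⟨t⁻¹ + 1, ?_⟩)
        have : w.1 - u.1 = t⁻¹ • u.1 := by
          calc w.1 - u.1 = t⁻¹ • (t • (w.1 - u.1)) := (inv_smul_smul₀ ht0 _).symm
            _ = t⁻¹ • u.1 := by rw [ht]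
        rw [add_smul, one_smul, ← this, sub_add_cancel]
      exact hmove u w h2 (hmove w u₀ h1 hPu₀)
    · exact hmove u u₀ hind hPu₀
  -- independent eigenvectors
  have hvec : ∀ u : {u : A // u ≠ 0}, ∃ x : Fin d → L, P u.1 *ᵥ x ≠ 0 := by
    intro u
    by_contra hc
    push Not at hc
    exact hall u.1 u.2 (Matrix.ext_of_mulVec_single fun i => by rw [hc, zero_mulVec])
  choose x hx using hvec
  let v : {u : A // u ≠ 0} → (Fin d → L) := fun u => P u.1 *ᵥ x u
  have hPv : ∀ (w : A) (u : {u : A // u ≠ 0}), P w *ᵥ v u = if w = u.1 then (Fintype.card A : L) • v u else 0 := by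
    intro w u
    show (∑ a : A, ψ (-(w.1 ⬝ᵥ a.1)) • R (T l a)) *ᵥ (P u.1 *ᵥ x u) = _
    rw [Matrix.sum_mulVec]
    have e : ∀ a : A, (ψ (-(w.1 ⬝ᵥ a.1)) • R (T l a)) *ᵥ (P u.1 *ᵥ x u) = ψ ((u.1 - w).1 ⬝ᵥ a.1) • v u := fun a => by
      rw [Matrix.smul_mulVec, mulVec_mulVec, hRP, Matrix.smul_mulVec, smul_smul, ← AddChar.map_add_eq_mul,
        AddSubgroup.coe_sub, sub_dotProduct, neg_add_eq_sub]
    simp only [e]
    rw [← Finset.sum_smul]
    by_cases hwu : w = u.1
    · rw [if_pos hwu]
      simp [hwu, v]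
    · rw [if_neg hwu, horth _ (sub_ne_zero.2 (Ne.symm hwu)), zero_smul]
  have hli : LinearIndependent L v := by
    rw [Fintype.linearIndependent_iff]
    intro c hc u
    have h := congrArg (fun y => P u.1 *ᵥ y) hc
    simp only [mulVec_sum, mulVec_smul, hPv, mulVec_zero] at h
    rw [Finset.sum_eq_single u] at h
    · rw [if_pos rfl, smul_smul, smul_eq_zero] at h
      rcases h with h | h
      · exact (mul_eq_zero.1 h).resolve_right hA0
      · exact absurd h (hx u)
    · intro b _ hb
      rw [if_neg (fun e => hb (Subtype.ext e.symm)), smul_zero]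
    · simp
  have hbound := hli.fintype_card_le_finrank
  rw [Module.finrank_pi, Fintype.card_fin, Fintype.card_subtype_compl, Fintype.card_subtype_eq] at hbound
  have hA : Fintype.card A = q ^ (n - 1) := by
    let e : A ≃ ({i : Fin n // i ≠ l} → F) :=
      { toFun := fun a i => a.1 i.1
        invFun := fun f => ⟨fun i => if h : i = l then 0 else f ⟨i, h⟩, dif_pos rfl⟩
        left_inv := fun a => Subtype.ext (funext fun i => by
          by_cases h : i = l
          · simp [h]; exact a.2.symm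
          · simp [h])
        right_inv := fun f => funext fun i => by simp [i.2] }
    rw [Fintype.card_congr e, Fintype.card_fun, hq, Fintype.card_subtype_compl, Fintype.card_fin,
      Fintype.card_subtype_eq]
  rwa [hA] at hbound

end Cfsg.Agent.S2392
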