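import Mathlib
import Cfsg.Statements.S2393

set_option autoImplicit false
set_option linter.style.haveILetI false
open Cfsg Matrix

namespace Cfsg.Agent.S2393

/-! ### Common eigenvectors -/

section Eigen

variable {L V : Type*} [Field L] [IsAlgClosed L] [AddCommGroup V] [Module L V]
  [FiniteDimensional L V]

theorem exists_eigen_ne_one (y : Module.End L V) (p : ℕ) (hp : (p : L) ≠ 0) (hy : y ^ p = 1)
    (hy1 : y ≠ 1) : ∃ c : L, c ≠ 1 ∧ ∃ v : V, v ≠ 0 ∧ y v = c • v := by
  obtain ⟨W, hW⟩ : ∃ W, W = LinearMap.range (y - 1) := ⟨_, rfl⟩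
  have hmem : ∀ w ∈ W, y w ∈ W := by
    intro w hw
    rw [hW] at hw ⊢
    obtain ⟨u, rfl⟩ := hw
    exact ⟨y u, by simp [map_sub]⟩
  have hne : W ≠ ⊥ := by
    rw [hW, Ne, LinearMap.range_eq_bot, sub_eq_zero]
    exact hy1
  haveI : Nontrivial W := Submodule.nontrivial_iff_ne_bot.mpr hne
  obtain ⟨c, hc⟩ := Module.End.exists_eigenvalue (y.restrict hmem : Module.End L W)
  obtain ⟨w, hw⟩ := hc.exists_hasEigenvector
  have hyw : y (w : V) = c • (w : V) := congrArg Subtype.val hw.apply_eq_smul
  have hw0 : (w : V) ≠ 0 := fun h => hw.2 (Subtype.ext h)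
  refine ⟨c, ?_, w, hw0, hyw⟩
  rintro rfl
  rw [one_smul] at hyw
  obtain ⟨u, hu⟩ : (w : V) ∈ LinearMap.range (y - 1) := hW ▸ w.2
  have hu' : y u = u + w := by
    rw [← hu]; simp
  have hiter : ∀ i : ℕ, (y ^ i) u = u + (i : L) • (w : V) := by
    intro i
    induction i with
    | zero => simp
    | succ i ih =>
      rw [pow_succ', Module.End.mul_apply, ih, map_add, map_smul, hu', hyw, Nat.cast_succ,
        add_smul, one_smul]
      abel
  have := hiter p
  rw [hy, Module.End.one_apply, eq_comm, add_eq_left, smul_eq_zero] at this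
  rcases this with h | h
  · exact hp h
  · exact hw0 h

theorem exists_common_eigen {ι : Type*} (f : ι → Module.End L V)
    (hcomm : ∀ i j, f i * f j = f j * f i) (i0 : ι) (c : L) (v0 : V) (hv0 : v0 ≠ 0)
    (hc : f i0 v0 = c • v0) (s : Finset ι) :
    ∃ v : V, v ≠ 0 ∧ f i0 v = c • v ∧ ∀ i ∈ s, ∃ μ : L, f i v = μ • v := by
  classical
  induction s using Finset.induction with
  | empty => exact ⟨v0, hv0, hc, by simp⟩
  | insert a s _ ih =>
    obtain ⟨v, hv, hv1, hv2⟩ := ih
    choose μ hμ using hv2
    let W : Submodule L V :=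
      { carrier := {w | f i0 w = c • w ∧ ∀ i, (h : i ∈ s) → f i w = μ i h • w}
        zero_mem' := by simp
        add_mem' := fun {x y} hx hy =>
          ⟨by rw [map_add, hx.1, hy.1, smul_add],
           fun i h => by rw [map_add, hx.2 i h, hy.2 i h, smul_add]⟩
        smul_mem' := fun r x hx =>
          ⟨by rw [map_smul, hx.1, smul_comm],
           fun i h => by rw [map_smul, hx.2 i h, smul_comm]⟩ }
    have hmem : ∀ w ∈ W, f a w ∈ W := by
      intro w hw
      refine ⟨?_, fun i h => ?_⟩
      · rw [← Module.End.mul_apply, hcomm, Module.End.mul_apply, hw.1, map_smul]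
      · rw [← Module.End.mul_apply, hcomm, Module.End.mul_apply, hw.2 i h, map_smul]
    haveI : Nontrivial W := by
      rw [Submodule.nontrivial_iff_ne_bot, Submodule.ne_bot_iff]
      exact ⟨v, ⟨hv1, fun i h => hμ i h⟩, hv⟩
    obtain ⟨e, he⟩ := Module.End.exists_eigenvalue ((f a).restrict hmem : Module.End L W)
    obtain ⟨w, hw⟩ := he.exists_hasEigenvector
    refine ⟨w, fun h => hw.2 (Subtype.ext h), w.2.1, fun i hi => ?_⟩
    rcases Finset.mem_insert.mp hi with rfl | hi
    · exact ⟨e, congrArg Subtype.val hw.apply_eq_smul⟩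
    · exact ⟨μ i hi, w.2.2 i hi⟩

end Eigen

theorem card_le_of_distinct_chars {L V : Type*} [Field L] [AddCommGroup V] [Module L V]
    [FiniteDimensional L V] {M : Type*} [Monoid M] (Φ : M → Module.End L V) {ι : Type*} [Fintype ι]
    (χ : ι → (M →* L)) (hχ : Function.Injective χ) (v : ι → V) (hv : ∀ i, v i ≠ 0)
    (he : ∀ i m, Φ m (v i) = χ i m • v i) : Fintype.card ι ≤ Module.finrank L V := by
  refine LinearIndependent.fintype_card_le_finrank (b := v) ?_
  rw [Fintype.linearIndependent_iff]
  intro g hg i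
  have hzero : ∀ φ : Module.Dual L V, g i * φ (v i) = 0 := by
    intro φ
    have hli : LinearIndependent L (fun j => (χ j : M → L)) :=
      (linearIndependent_monoidHom M L).comp χ hχ
    refine Fintype.linearIndependent_iff.mp hli (fun j => g j * φ (v j)) ?_ i
    funext m
    have h1 := congrArg φ (congrArg (Φ m) hg)
    simp only [map_sum, map_smul, he, map_zero, smul_eq_mul] at h1
    rw [Finset.sum_apply, Pi.zero_apply, ← h1]
    exact Finset.sum_congr rfl fun j _ => by simp [mul_comm, mul_left_comm, mul_assoc]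
  by_contra hgi
  apply hv i
  rw [← Module.forall_dual_apply_eq_zero_iff L]
  exact fun φ => (mul_eq_zero.mp (hzero φ)).resolve_left hgi

/-! ### The symmetric unipotent subgroup -/

section Sp

variable {F : Type*} [Field F] {l : Type*} [Fintype l] [DecidableEq l]

theorem mem_upper {S : Matrix l l F} (hS : Sᵀ = S) :
    fromBlocks 1 S 0 1 ∈ symplecticGroup l F := by
  rw [SymplecticGroup.mem_iff]
  simp [Matrix.J, fromBlocks_transpose, fromBlocks_multiply, hS]

theorem mem_lower {S : Matrix l l F} (hS : Sᵀ = S) :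
    fromBlocks 1 0 S 1 ∈ symplecticGroup l F := by
  rw [SymplecticGroup.mem_iff]
  simp [Matrix.J, fromBlocks_transpose, fromBlocks_multiply, hS]

theorem mem_diag {M M' : Matrix l l F} (h : M * M' = 1) :
    fromBlocks M 0 0 M'ᵀ ∈ symplecticGroup l F := by
  rw [SymplecticGroup.mem_iff]
  simp [Matrix.J, fromBlocks_transpose, fromBlocks_multiply, h, ← Matrix.transpose_mul]

/-- Symmetric matrices. -/
def symAdd (F : Type*) [Field F] (l : Type*) : AddSubgroup (Matrix l l F) where
  carrier := {S | Sᵀ = S}
  zero_mem' := Matrix.transpose_zero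
  add_mem' := fun {a b} ha hb => by
    show (a + b)ᵀ = a + b
    rw [Matrix.transpose_add, ha, hb]
  neg_mem' := fun {a} ha => by
    show (-a)ᵀ = -a
    rw [Matrix.transpose_neg, ha]

end Sp

theorem single_sandwich {F : Type*} [Field F] {l : Type*} [Fintype l] [DecidableEq l]
    (M : Matrix l l F) (a b : l) (t : F) (i j : l) :
    (M * Matrix.single a b t * Mᵀ) i j = M i a * t * M j b := by
  rw [Matrix.mul_apply, Finset.sum_eq_single b]
  · rw [Matrix.mul_apply, Finset.sum_eq_single a]
    · simp [Matrix.transpose_apply]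
    · intro c _ hc
      simp [Matrix.single_apply_of_ne, hc.symm]
    · simp
  · intro c _ hc
    rw [Matrix.mul_apply, Finset.sum_eq_zero, zero_mul]
    intro d _
    simp [Matrix.single_apply_of_ne, hc.symm]
  · simp

set_option maxHeartbeats 2000000 in
/-- A lower bound for representations in cross characteristic: for `n ≥ 2` and a field `F` with `q` elements, `q` odd, every homomorphism from the symplectic group `Sp_{2n}(F)` to `GL_d(K)`, `K` a field of characteristic different from that of `F`, whose kernel is central has `d ≥ q^(n-1)(q-1)/2`. -/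
theorem result {F : Type*} [Field F] [Fintype F] {q : ℕ} (hq : Fintype.card F = q) (hodd : Odd q) (n : ℕ) (hn : 2 ≤ n)
    {K : Type*} [Field K] (hK : ringChar K ≠ ringChar F) {d : ℕ}
    (ρ : ↥(Matrix.symplecticGroup (Fin n) F) →* GL (Fin d) K) (hker : ρ.ker ≤ Subgroup.center ↥(Matrix.symplecticGroup (Fin n) F)) :
    q ^ (n - 1) * (q - 1) / 2 ≤ d := by
  classical
  obtain ⟨m, rfl⟩ : ∃ m, n = m + 1 := ⟨n - 1, by omega⟩
  let Sp := ↥(Matrix.symplecticGroup (Fin (m + 1)) F)
  obtain ⟨p, hpdef⟩ : ∃ p, p = ringChar F := ⟨_, rfl⟩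
  haveI hcp : CharP F p := hpdef ▸ ringChar.charP F
  have hp : p.Prime := CharP.char_is_prime F p
  let L := AlgebraicClosure K
  have hpL : (p : L) ≠ 0 := by
    intro h
    have hK0 : (p : K) = 0 := by
      apply (algebraMap K L).injective
      rw [map_natCast, map_zero]; exact h
    rcases (Nat.dvd_prime hp).mp (ringChar.dvd hK0) with h1 | h1
    · haveI : CharP K (ringChar K) := ringChar.charP K
      exact CharP.ringChar_ne_one h1
    · exact hK (h1.trans hpdef)
  have h2F : (2 : F) ≠ 0 := by
    apply Ring.two_ne_zero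
    intro h
    have hpar := FiniteField.even_card_iff_char_two.mp h
    rw [hq] at hpar
    rcases hodd with ⟨k, hk⟩
    omega
  -- the representation over the algebraic closure
  let emb : GL (Fin d) K →* Module.End L (Fin d → L) :=
    (Matrix.toLinAlgEquiv' (R := L) (n := Fin d)).toMonoidHom.comp
      ((RingHom.mapMatrix (algebraMap K L)).toMonoidHom.comp (Units.coeHom _))
  have hemb : Function.Injective emb := by
    intro a b h
    apply Units.ext
    have h1 := (Matrix.toLinAlgEquiv' (R := L) (n := Fin d)).injective h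
    exact Matrix.map_injective (algebraMap K L).injective h1
  let Φ : Sp →* Module.End L (Fin d → L) := emb.comp ρ
  have hΦ1 : ∀ g : Sp, Φ g = 1 → g ∈ Subgroup.center Sp := fun g hg =>
    hker (MonoidHom.mem_ker.mpr (hemb (hg.trans emb.map_one.symm)))
  let Sym := Multiplicative (symAdd F (Fin (m + 1)))
  let up : Sym →* Sp :=
    { toFun := fun S => ⟨fromBlocks 1 (Multiplicative.toAdd S).1 0 1,
        mem_upper (Multiplicative.toAdd S).2⟩
      map_one' := Subtype.ext (by simp)
      map_mul' := fun S T => Subtype.ext (by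
        show fromBlocks 1 ((Multiplicative.toAdd S).1 + (Multiplicative.toAdd T).1) 0 1 =
          fromBlocks 1 (Multiplicative.toAdd S).1 0 1 * fromBlocks 1 (Multiplicative.toAdd T).1 0 1
        simp [fromBlocks_multiply, add_comm]) }
  have hupp : ∀ S : Sym, up S ^ p = 1 := by
    intro S
    rw [← map_pow]
    have : S ^ p = 1 := by
      apply Multiplicative.toAdd.injective
      apply Subtype.ext
      ext i j
      rw [toAdd_pow, toAdd_one, AddSubgroup.coe_nsmul, Matrix.smul_apply, nsmul_eq_mul,
        CharP.cast_eq_zero, zero_mul]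
      rfl
    rw [this, map_one]
  -- the element of the first root subgroup
  let E : F → Sym := fun t => Multiplicative.ofAdd
    ⟨Matrix.single 0 0 t, by show _ᵀ = _; rw [Matrix.transpose_single]⟩
  have hE1 : Φ (up (E 1)) ≠ 1 := by
    intro h
    have hc := Subgroup.mem_center_iff.mp (hΦ1 _ h)
      ⟨fromBlocks 1 0 (Matrix.single 0 0 1) 1, mem_lower (by rw [Matrix.transpose_single])⟩
    have hc' := congrArg (fun g : Sp => g.1 (Sum.inl 0) (Sum.inl 0)) hc
    have hc'' : (fromBlocks 1 0 (Matrix.single 0 0 1) 1 * fromBlocks 1 (Matrix.single 0 0 1) 0 1 :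
          Matrix (Fin (m + 1) ⊕ Fin (m + 1)) (Fin (m + 1) ⊕ Fin (m + 1)) F) (Sum.inl 0) (Sum.inl 0) =
        (fromBlocks 1 (Matrix.single 0 0 1) 0 1 * fromBlocks 1 0 (Matrix.single 0 0 1) 1 :
          Matrix (Fin (m + 1) ⊕ Fin (m + 1)) (Fin (m + 1) ⊕ Fin (m + 1)) F) (Sum.inl 0) (Sum.inl 0) := hc'
    simp [fromBlocks_multiply, Matrix.add_apply] at hc''
  obtain ⟨c, hc1, v0, hv0, hv0c⟩ := exists_eigen_ne_one (Φ (up (E 1))) p hpL
    (by rw [← map_pow, hupp, map_one]) hE1
  haveI : Fintype Sym := Fintype.ofFinite _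
  obtain ⟨v, hv, hvc, hve⟩ := exists_common_eigen (fun S : Sym => Φ (up S))
    (fun i j => by rw [← map_mul, ← map_mul, ← map_mul, ← map_mul, mul_comm]) (E 1) c v0 hv0 hv0c
    Finset.univ
  choose μ hμ using fun S : Sym => hve S (Finset.mem_univ S)
  let χ : Sym →* L :=
    { toFun := μ
      map_one' := by
        apply smul_left_injective L hv
        show μ 1 • v = (1 : L) • v
        rw [← hμ, map_one, map_one, Module.End.one_apply, one_smul]
      map_mul' := fun S T => by
        apply smul_left_injective L hv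
        show μ (S * T) • v = (μ S * μ T) • v
        rw [← hμ, map_mul, map_mul, Module.End.mul_apply, hμ T, map_smul, hμ S, smul_smul,
          mul_comm] }
  have hlam : χ (E 1) ≠ 1 := by
    intro h
    apply hc1
    apply smul_left_injective L hv
    show c • v = (1 : L) • v
    rw [← hvc, hμ]
    exact congrArg (· • v) h
  have hEadd : ∀ s t, E (s + t) = E s * E t := fun s t => by
    apply Multiplicative.toAdd.injective
    apply Subtype.ext
    exact Matrix.single_add 0 0 s t
  have hfaith : ∀ e : F, (∀ t, χ (E (e * t)) = 1) → e = 0 := by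
    intro e h
    by_contra he
    exact hlam (by simpa [he] using h e⁻¹)
  -- conjugating matrices
  let Mm : F → (Fin m → F) → Matrix (Fin (m + 1)) (Fin (m + 1)) F := fun a u =>
    Matrix.of fun i j => if i = 0 then (Fin.cons a u : Fin (m + 1) → F) j
      else if i = j then 1 else 0
  have hMinv : ∀ a u, a ≠ 0 → Mm a u * Mm a⁻¹ (fun j => -(a⁻¹ * u j)) = 1 := by
    intro a u ha
    ext i j
    rw [Matrix.mul_apply, Fin.sum_univ_succ]
    refine Fin.cases ?_ (fun i => ?_) i
    · refine Fin.cases ?_ (fun j => ?_) j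
      · simp [Mm, Fin.succ_ne_zero, ha]
      · simp [Mm, Fin.succ_ne_zero, Fin.succ_inj, Finset.sum_ite_eq', Matrix.one_apply,
          (Fin.succ_ne_zero j).symm, ha]
    · refine Fin.cases ?_ (fun j => ?_) j
      · simp [Mm, Fin.succ_ne_zero, Fin.succ_inj, Matrix.one_apply]
      · simp [Mm, Fin.succ_ne_zero, Fin.succ_inj, Finset.sum_ite_eq, Matrix.one_apply]
  let tw : F → (Fin m → F) → Sym →* Sym := fun a u =>
    { toFun := fun S => Multiplicative.ofAdd
        ⟨Mm a u * (Multiplicative.toAdd S).1 * (Mm a u)ᵀ, by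
          show _ᵀ = _
          rw [Matrix.transpose_mul, Matrix.transpose_mul, Matrix.transpose_transpose,
            (Multiplicative.toAdd S).2, Matrix.mul_assoc]⟩
      map_one' := by
        apply Multiplicative.toAdd.injective
        apply Subtype.ext
        simp
      map_mul' := fun S T => by
        apply Multiplicative.toAdd.injective
        apply Subtype.ext
        show Mm a u * ((Multiplicative.toAdd S).1 + (Multiplicative.toAdd T).1) * (Mm a u)ᵀ =
          Mm a u * (Multiplicative.toAdd S).1 * (Mm a u)ᵀ +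
            Mm a u * (Multiplicative.toAdd T).1 * (Mm a u)ᵀ
        rw [Matrix.mul_add, Matrix.add_mul] }
  have htwvec : ∀ a u, a ≠ 0 → ∃ w : Fin d → L, w ≠ 0 ∧
      ∀ S : Sym, Φ (up S) w = χ (tw a u S) • w := by
    intro a u ha
    let D : Sp := ⟨fromBlocks (Mm a u) 0 0 (Mm a⁻¹ (fun j => -(a⁻¹ * u j)))ᵀ,
      mem_diag (hMinv a u ha)⟩
    have hconj : ∀ S : Sym, D * up S = up (tw a u S) * D := by
      intro S
      apply Subtype.ext
      show fromBlocks _ _ _ _ * fromBlocks _ _ _ _ = fromBlocks _ _ _ _ * fromBlocks _ _ _ _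
      rw [fromBlocks_multiply, fromBlocks_multiply]
      simp only [up, tw, MonoidHom.coe_mk, OneHom.coe_mk, toAdd_ofAdd, mul_zero, zero_mul,
        add_zero, zero_add, mul_one, one_mul]
      congr 1
      rw [Matrix.mul_assoc, ← Matrix.transpose_mul,
        mul_eq_one_comm.mp (hMinv a u ha), Matrix.transpose_one, mul_one]
    refine ⟨Φ D⁻¹ v, fun h => hv ?_, fun S => ?_⟩
    · have := congrArg (Φ D) h
      rwa [← Module.End.mul_apply, ← map_mul, mul_inv_cancel, map_one, Module.End.one_apply,
        map_zero] at this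
    · have h1 : up S * D⁻¹ = D⁻¹ * up (tw a u S) := by
        rw [eq_inv_mul_iff_mul_eq, ← mul_assoc, hconj, mul_inv_cancel_right]
      rw [← Module.End.mul_apply, ← map_mul, h1, map_mul, Module.End.mul_apply, hμ, map_smul]
      rfl
  -- the index set
  let Rsq : Finset F := (Finset.univ.erase 0).image fun x => x * x
  have hR : ∀ s ∈ Rsq, ∃ a : F, a ≠ 0 ∧ a * a = s := by
    intro s hs
    obtain ⟨a, ha, rfl⟩ := Finset.mem_image.mp hs
    exact ⟨a, (Finset.mem_erase.mp ha).1, rfl⟩
  choose rt hrt0 hrt using hR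
  have hRcard : q - 1 ≤ 2 * Rsq.card := by
    have h1 : ∀ s ∈ Rsq, ((Finset.univ.erase (0 : F)).filter fun x => x * x = s).card ≤ 2 := by
      intro s hs
      refine (Finset.card_le_card (t := ({rt s hs, -rt s hs} : Finset F)) fun x hx => ?_).trans
        Finset.card_le_two
      have hx2 : x * x = rt s hs * rt s hs := by rw [hrt]; exact (Finset.mem_filter.mp hx).2
      rcases mul_self_eq_mul_self_iff.mp hx2 with h | h <;> simp [h]
    have := Finset.card_le_mul_card_image (Finset.univ.erase (0 : F)) 2 h1
    rwa [Finset.card_erase_of_mem (Finset.mem_univ 0), Finset.card_univ, hq] at this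
  let ι := ↥Rsq × (Fin m → F)
  let χs : ι → (Sym →* L) := fun i => χ.comp (tw (rt i.1.1 i.1.2) i.2)
  have hinj : Function.Injective χs := by
    rintro ⟨⟨s, hs⟩, u⟩ ⟨⟨s', hs'⟩, u'⟩ h
    have hM0 : ∀ (a : F) (u : Fin m → F) (i : Fin (m + 1)), Mm a u i 0 = if i = 0 then a else 0 := by
      intro a u i
      by_cases hi : i = 0
      · simp [Mm, hi]
      · simp [Mm, hi]
    have h1 : ∀ (a : F) (u : Fin m → F) (t : F), tw a u (E t) = E (a * a * t) := by
      intro a u t
      apply Multiplicative.toAdd.injective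
      apply Subtype.ext
      ext i j
      show (Mm a u * Matrix.single 0 0 t * (Mm a u)ᵀ : Matrix (Fin (m + 1)) (Fin (m + 1)) F) i j =
        (Matrix.single 0 0 (a * a * t) : Matrix (Fin (m + 1)) (Fin (m + 1)) F) i j
      rw [single_sandwich, hM0, hM0, Matrix.single_apply]
      by_cases hi : i = 0 <;> by_cases hj : j = 0 <;> simp [hi, hj, eq_comm] <;> ring
    have hdiff : ∀ x y : F, χ (E x) = χ (E y) → χ (E (x - y)) = 1 := by
      intro x y hxy
      have hne : χ (E y) ≠ 0 := by
        intro h0
        have h2 : χ (E y) * χ (E (-y)) = 1 := by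
          rw [← map_mul, ← hEadd, add_neg_cancel]
          have : E 0 = 1 := by
            apply Multiplicative.toAdd.injective
            exact Subtype.ext (Matrix.single_zero 0 0)
          rw [this, map_one]
        rw [h0, zero_mul] at h2
        exact zero_ne_one h2
      have h2 : χ (E (x - y)) * χ (E y) = 1 * χ (E y) := by
        rw [← map_mul, ← hEadd, sub_add_cancel, hxy, one_mul]
      exact mul_right_cancel₀ hne h2
    have hss : s = s' := by
      refine sub_eq_zero.mp (hfaith _ fun t => ?_)
      have h2 : χ (tw (rt s hs) u (E t)) = χ (tw (rt s' hs') u' (E t)) :=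
        DFunLike.congr_fun h (E t)
      rw [h1, h1, hrt, hrt] at h2
      rw [sub_mul]
      exact hdiff _ _ h2
    subst hss
    have hu : u = u' := by
      funext k
      obtain ⟨a, hadef⟩ : ∃ a, a = rt s hs := ⟨_, rfl⟩
      have ha : a ≠ 0 := hadef ▸ hrt0 s hs
      refine sub_eq_zero.mp ((mul_eq_zero.mp (hfaith (2 * a * (u k - u' k)) fun t => ?_)).resolve_left
        (mul_ne_zero h2F ha))
      let B : Sym := Multiplicative.ofAdd ⟨Matrix.single 0 k.succ t + Matrix.single k.succ 0 t, by
        show _ᵀ = _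
        rw [Matrix.transpose_add, Matrix.transpose_single, Matrix.transpose_single]; exact add_comm _ _⟩
      let B' : Sym := Multiplicative.ofAdd ⟨Matrix.single 0 k.succ (a * t) +
        Matrix.single k.succ 0 (a * t), by
        show _ᵀ = _
        rw [Matrix.transpose_add, Matrix.transpose_single, Matrix.transpose_single]; exact add_comm _ _⟩
      have hMk : ∀ (u : Fin m → F) (i : Fin (m + 1)),
          Mm a u i k.succ = if i = 0 then u k else if i = k.succ then 1 else 0 := by
        intro u i
        by_cases hi : i = 0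
        · simp [Mm, hi]
        · simp [Mm, hi]
      have h3 : ∀ u : Fin m → F, tw a u B = E (2 * a * u k * t) * B' := by
        intro u
        apply Multiplicative.toAdd.injective
        apply Subtype.ext
        ext i j
        show (Mm a u * (Matrix.single 0 k.succ t + Matrix.single k.succ 0 t) * (Mm a u)ᵀ :
            Matrix (Fin (m + 1)) (Fin (m + 1)) F) i j =
          (Matrix.single 0 0 (2 * a * u k * t) +
            (Matrix.single 0 k.succ (a * t) + Matrix.single k.succ 0 (a * t)) :
              Matrix (Fin (m + 1)) (Fin (m + 1)) F) i j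
        rw [Matrix.mul_add, Matrix.add_mul, Matrix.add_apply, single_sandwich, single_sandwich,
          hM0, hM0, hMk, hMk]
        simp only [Matrix.add_apply, Matrix.single_apply]
        refine Fin.cases ?_ (fun i => ?_) i <;> refine Fin.cases ?_ (fun j => ?_) j
        · simp [Fin.succ_ne_zero, (Fin.succ_ne_zero k).symm]; ring
        · by_cases hjk : j = k
          · subst hjk; simp [Fin.succ_ne_zero, (Fin.succ_ne_zero j).symm]
          · simp [Fin.succ_ne_zero, (Fin.succ_ne_zero j).symm, (Fin.succ_ne_zero k).symm,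
              Fin.succ_inj, hjk, Ne.symm hjk]
        · by_cases hik : i = k
          · subst hik; simp [Fin.succ_ne_zero, (Fin.succ_ne_zero i).symm, mul_comm]
          · simp [Fin.succ_ne_zero, (Fin.succ_ne_zero i).symm, (Fin.succ_ne_zero k).symm,
              Fin.succ_inj, hik, Ne.symm hik]
        · simp [Fin.succ_ne_zero, (Fin.succ_ne_zero i).symm, (Fin.succ_ne_zero j).symm]
      have h4 : χ (tw (rt s hs) u B) = χ (tw (rt s hs) u' B) := DFunLike.congr_fun h B
      rw [← hadef, h3, h3, map_mul, map_mul] at h4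
      have hB' : χ B' ≠ 0 := by
        intro h0
        have := map_mul χ B' B'⁻¹
        rw [mul_inv_cancel, map_one, h0, zero_mul] at this
        exact one_ne_zero this
      have h5 := hdiff _ _ (mul_right_cancel₀ hB' h4)
      rw [← h5]
      congr 2
      ring
    rw [hu]
  choose w hw0 hwe using fun i : ι => htwvec (rt i.1.1 i.1.2) i.2 (hrt0 _ _)
  have hb := card_le_of_distinct_chars (fun S : Sym => Φ (up S)) χs hinj w hw0 fun i S => hwe i S
  rw [Module.finrank_fintype_fun_eq_card, Fintype.card_fin] at hb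
  refine le_trans ?_ hb
  rw [Fintype.card_prod, Fintype.card_coe, Fintype.card_fun, Fintype.card_fin, hq,
    Nat.add_sub_cancel]
  calc q ^ m * (q - 1) / 2 ≤ q ^ m * (2 * Rsq.card) / 2 :=
        Nat.div_le_div_right (Nat.mul_le_mul_left _ hRcard)
    _ = Rsq.card * q ^ m := by
      rw [mul_left_comm, Nat.mul_div_cancel_left _ (by norm_num : 0 < 2), mul_comm]

end Cfsg.Agent.S2393
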