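import Cfsg.Statements.S2395
import Cfsg.Agent.Chev.SimpleAll
import Cfsg.Agent.Chev.ExtraAll
import Cfsg.Agent.Chev.Steinberg
import Cfsg.Agent.Chev.LiftPerfect

set_option autoImplicit false
open Cfsg

namespace Cfsg.Agent.S2395

/-- The group presented by Steinberg's generators x̄_r(t) subject only to (R1) (additivity) and (R2) (the commutator formula) is perfect, for each of the types G₂, B₂, D₄, F₄, E₆, E₇, E₈ over any field (for types B₂ and G₂ the field must have more than two elements — the cases where the Chevalley group is not simple are set aside). -/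
theorem result {K : Type*} [Field K] (D : Cfsg.Lie.ChevalleyDatum) (hD : D ∈ [Cfsg.Lie.chevG2, Cfsg.Lie.chevB2, Cfsg.Lie.chevD4, Cfsg.Lie.chevF4, Cfsg.Lie.chevE6, Cfsg.Lie.chevE7, Cfsg.Lie.chevE8]) (hK : D ∈ [Cfsg.Lie.chevB2, Cfsg.Lie.chevG2] → ∃ x : K, x ≠ 0 ∧ x ≠ 1) :
    commutator (D.SteinbergCover K) = ⊤ := by
  simp only [List.mem_cons, List.not_mem_nil, or_false] at hD
  open Cfsg.Agent.Chev Cfsg.Lie in
  rcases hD with rfl | rfl | rfl | rfl | rfl | rfl | rfl
  · exact (scLift facts_chevG2).commutator_eq_top extra_chevG2 (fun _ => hK (by simp)) g2_perfect_chk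
  · exact (scLift facts_chevB2).commutator_eq_top extra_chevB2 (fun _ => hK (by simp)) b2_perfect_chk
  · exact (scLift facts_chevD4).commutator_eq_top extra_chevD4 (fun e => Bool.noConfusion e)
      d4_perfect_chk
  · exact (scLift facts_chevF4).commutator_eq_top extra_chevF4 (fun e => Bool.noConfusion e)
      f4_perfect_chk
  · exact (scLift facts_chevE6).commutator_eq_top extra_chevE6 (fun e => Bool.noConfusion e)
      e6_perfect_chk
  · exact (scLift facts_chevE7).commutator_eq_top extra_chevE7 (fun e => Bool.noConfusion e)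
      e7_perfect_chk
  · exact (scLift facts_chevE8).commutator_eq_top extra_chevE8 (fun e => Bool.noConfusion e)
      e8_perfect_chk

end Cfsg.Agent.S2395
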