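import Cfsg.Statements.S2397
import Cfsg.Agent.Chev.All
import Cfsg.Agent.Chev.ExtraAll
import Cfsg.Agent.Chev.Steinberg
import Cfsg.Agent.Chev.LiftFinite

set_option autoImplicit false
open Cfsg

namespace Cfsg.Agent.S2397

/-- Over a finite field the relators (R3) h̄_r(t₁) h̄_r(t₂) = h̄_r(t₁ t₂) are consequences of (R1) and (R2): for each of the types G₂, B₂, D₄, F₄, E₆, E₇, E₈ (for types B₂ and G₂ the field must have more than two elements — the cases where the Chevalley group is not simple are set aside) the group presented by (R1), (R2) is canonically isomorphic to the one presented by (R1)–(R3), by an isomorphism matching the generators x̄_r(t). -/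
theorem result {K : Type*} [Field K] [Finite K] (D : Cfsg.Lie.ChevalleyDatum) (hD : D ∈ [Cfsg.Lie.chevG2, Cfsg.Lie.chevB2, Cfsg.Lie.chevD4, Cfsg.Lie.chevF4, Cfsg.Lie.chevE6, Cfsg.Lie.chevE7, Cfsg.Lie.chevE8]) (hK : D ∈ [Cfsg.Lie.chevB2, Cfsg.Lie.chevG2] → ∃ x : K, x ≠ 0 ∧ x ≠ 1) :
    ∃ e : D.SteinbergCover K ≃* D.SteinbergGroup K, ∀ (r : ℕ) (t : K), e (D.scGen K r t) = D.stGen K r t := by
  open Cfsg.Agent.Chev Cfsg.Lie in
  have hF := facts_of_mem hD
  open Cfsg.Agent.Chev Cfsg.Lie in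
  have hE := extra_of_mem hD
  let A := Cfsg.Agent.Chev.scLift hF (F := K)
  have hrel : ∀ g ∈ D.steinbergRels K, PresentedGroup.mk (D.steinbergRelsAB K) g = 1 := by
    rintro g (h | ⟨r, t₁, t₂, hr, h₁, h₂, rfl⟩)
    · exact Cfsg.Agent.Chev.mk_rel h
    · have hh : ∀ t : K, PresentedGroup.mk (D.steinbergRelsAB K) (D.stH r t) = A.h r t := by
        intro t
        rw [Cfsg.Lie.ChevalleyDatum.stH, Cfsg.Agent.Chev.mk_stWord]
        simp [A, Cfsg.Agent.Chev.scLift, Cfsg.Agent.Chev.presLift, Cfsg.Agent.Chev.Lift.h,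
          Cfsg.Agent.Chev.Lift.n, Cfsg.Lie.ChevalleyDatum.hWord, Cfsg.Lie.ChevalleyDatum.nWord,
          mul_assoc]
      rw [map_mul, map_mul, map_inv, hh, hh, hh, mul_inv_eq_one]
      exact A.h_mul hE r hr t₁ t₂ h₁ h₂
  have hle : D.steinbergRelsAB K ⊆ D.steinbergRels K := fun _ h => Or.inl h
  let f : D.SteinbergCover K →* D.SteinbergGroup K :=
    QuotientGroup.map _ _ (MonoidHom.id _) (Subgroup.normalClosure_mono hle)
  let b : D.SteinbergGroup K →* D.SteinbergCover K :=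
    QuotientGroup.map _ _ (MonoidHom.id _) (Subgroup.normalClosure_le_normal
      (fun g hg => (QuotientGroup.eq_one_iff g).1 (hrel g hg)))
  refine ⟨MonoidHom.toMulEquiv f b (MonoidHom.ext fun x => ?_) (MonoidHom.ext fun x => ?_),
    fun r t => rfl⟩
  · obtain ⟨g, rfl⟩ := PresentedGroup.mk_surjective _ x
    rfl
  · obtain ⟨g, rfl⟩ := PresentedGroup.mk_surjective _ x
    rfl

end Cfsg.Agent.S2397
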