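import Mathlib
import Cfsg.Statements.S2402
import Cfsg.Agent.SLTwoGen.Basic

set_option autoImplicit false
open Cfsg
open scoped Matrix

namespace Cfsg.Agent.S2402

/-- Explicit two-element generation of `PSL_{n+1}(K)` for a finite field `K` with more than three elements: let `k` generate the multiplicative group of `K`, `h = diag(k, k⁻¹, 1, …, 1)`, `x = 1 + E₁₂` (the elementary transvection) and `w` the monomial matrix with entries `1` in positions `(i, i+1)` and `(−1)^n` in position `(n+1, 1)`. Then `h` and `x·w` generate `SL_{n+1}(K)` modulo its centre: the subgroup they generate together with the centre is everything. -/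
theorem result {K : Type*} [Field K] [Fintype K] (hK : 3 < Fintype.card K) (n : ℕ) (hn : 1 ≤ n)
    (k : Kˣ) (hk : ∀ u : Kˣ, u ∈ Subgroup.zpowers k)
    (h x w : Matrix.SpecialLinearGroup (Fin (n + 1)) K)
    (hh : (h : Matrix (Fin (n + 1)) (Fin (n + 1)) K) =
      Matrix.diagonal (fun i => if i.val = 0 then (k : K) else if i.val = 1 then ((k⁻¹ : Kˣ) : K) else 1))
    (hx : (x : Matrix (Fin (n + 1)) (Fin (n + 1)) K) = Matrix.transvection (0 : Fin (n + 1)) (1 : Fin (n + 1)) 1)
    (hw : (w : Matrix (Fin (n + 1)) (Fin (n + 1)) K) =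
      Matrix.of (fun i j => if j.val = i.val + 1 then 1 else if i.val = n ∧ j.val = 0 then (-1) ^ n else 0)) :
    Subgroup.closure ({h, x * w} : Set (Matrix.SpecialLinearGroup (Fin (n + 1)) K)) ⊔
      Subgroup.center (Matrix.SpecialLinearGroup (Fin (n + 1)) K) = ⊤ := by
  obtain ⟨m, rfl⟩ : ∃ m, n = m + 1 := ⟨n - 1, by omega⟩
  set H := Subgroup.closure ({h, x * w} : Set (Matrix.SpecialLinearGroup (Fin (m + 1 + 1)) K)) with hHdef
  have hhH : h ∈ H := Subgroup.subset_closure (by simp)
  have huH : x * w ∈ H := Subgroup.subset_closure (by simp)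
  have h01 : (0 : Fin (m + 1 + 1)) ≠ 1 := by simp
  let d : Fin (m + 1 + 1) → K := fun i => if i.val = 0 then (k : K) else if i.val = 1 then ((k⁻¹ : Kˣ) : K) else 1
  have hk0 : (k : K) ≠ 0 := k.ne_zero
  have hd : ∀ i, d i ≠ 0 := by
    intro i; simp only [d]; split_ifs <;> simp
  have hd0 : d 0 = (k : K) := by simp [d]
  have hd1 : d 1 = ((k⁻¹ : Kˣ) : K) := by simp [d]
  have hh' : ∀ v : Fin (m + 1 + 1) → K,
      (h : Matrix (Fin (m + 1 + 1)) (Fin (m + 1 + 1)) K) *ᵥ v = fun i => d i * v i := by
    intro v; ext i; rw [hh, Matrix.mulVec_diagonal]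
  have hxeq : x = Matrix.SpecialLinearGroup.transvection h01 (1 : K) := by
    apply Subtype.ext
    rw [hx, Matrix.SpecialLinearGroup.transvection_coe]
    rfl
  -- conjugation of the transvections by `h`
  have hconj : ∀ c : K, h * Matrix.SpecialLinearGroup.transvection h01 c =
      Matrix.SpecialLinearGroup.transvection h01 ((k : K) ^ 2 * c) * h := by
    intro c
    refine Cfsg.Agent.Classical.sl_ext_mulVec fun v => ?_
    simp only [Matrix.SpecialLinearGroup.coe_mul, Matrix.SpecialLinearGroup.transvection_coe, ← Matrix.mulVec_mulVec,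
      Cfsg.Agent.Classical.tv_mulVec, hh']
    ext i
    simp only [Pi.add_apply]
    by_cases hi : i = 0
    · subst hi
      simp only [Pi.single_eq_same, hd0, hd1, Units.val_inv_eq_inv_val]
      field_simp
    · simp [hi]
  -- the conjugate of `h` by `x * w`
  obtain ⟨c0, hc0⟩ : ∃ c0 : K, c0 = 1 - d 1 / d (1 + 1) := ⟨_, rfl⟩
  have hcomm : ∀ g : Matrix.SpecialLinearGroup (Fin (m + 1 + 1)) K, g = w * h * w⁻¹ →
      x * g * x⁻¹ = Matrix.SpecialLinearGroup.transvection h01 c0 * g ∧ g * h = h * g := by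
    intro g hg
    have hgv : ∀ v : Fin (m + 1 + 1) → K,
        (g : Matrix (Fin (m + 1 + 1)) (Fin (m + 1 + 1)) K) *ᵥ v = fun i => d (i + 1) * v i := by
      intro v
      have e : g * w = w * h := by rw [hg, inv_mul_cancel_right]
      obtain ⟨u, rfl⟩ : ∃ u, v = (w : Matrix (Fin (m + 1 + 1)) (Fin (m + 1 + 1)) K) *ᵥ u :=
        ⟨(w⁻¹ : Matrix.SpecialLinearGroup (Fin (m + 1 + 1)) K).1 *ᵥ v, by
          rw [Matrix.mulVec_mulVec, ← Matrix.SpecialLinearGroup.coe_mul, mul_inv_cancel,
            Matrix.SpecialLinearGroup.coe_one, Matrix.one_mulVec]⟩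
      rw [Matrix.mulVec_mulVec, ← Matrix.SpecialLinearGroup.coe_mul, e, Matrix.SpecialLinearGroup.coe_mul,
        ← Matrix.mulVec_mulVec, hh', Cfsg.Agent.SLTwoGen.w_mulVec hw, Cfsg.Agent.SLTwoGen.w_mulVec hw]
      ext i; ring
    constructor
    · rw [mul_inv_eq_iff_eq_mul]
      refine Cfsg.Agent.Classical.sl_ext_mulVec fun v => ?_
      simp only [hxeq, Matrix.SpecialLinearGroup.coe_mul, Matrix.SpecialLinearGroup.transvection_coe,
        ← Matrix.mulVec_mulVec, Cfsg.Agent.Classical.tv_mulVec, hgv]
      ext i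
      simp only [Pi.add_apply]
      by_cases hi : i = 0
      · subst hi
        have h1 : (1 : Fin (m + 1 + 1)) ≠ 0 := Ne.symm h01
        simp only [Pi.single_eq_same, Pi.single_eq_of_ne h1, zero_add, add_zero, one_mul, hc0]
        field_simp [hd]
        ring
      · simp [hi]
    · refine Cfsg.Agent.Classical.sl_ext_mulVec fun v => ?_
      simp only [Matrix.SpecialLinearGroup.coe_mul, ← Matrix.mulVec_mulVec, hgv, hh']
      ext i; ring
  have hk2 : (k : K) ^ 2 ≠ 1 := by
    intro e
    have hu : ∀ u : Kˣ, (u : K) = 1 ∨ (u : K) = (k : K) := by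
      intro u
      obtain ⟨z, rfl⟩ := Subgroup.mem_zpowers_iff.1 (hk u)
      have e2 : k ^ (2 : ℤ) = 1 := by
        apply Units.ext
        rw [Units.val_zpow_eq_zpow_val, zpow_ofNat, e, Units.val_one]
      rcases Int.even_or_odd' z with ⟨a, rfl | rfl⟩
      · left; rw [zpow_mul, e2, one_zpow, Units.val_one]
      · right; rw [zpow_add, zpow_mul, e2, one_zpow, one_mul, zpow_one]
    classical
    have hsub : (Finset.univ : Finset K) ⊆ ({0, 1, (k : K)} : Finset K) := by
      intro a _
      by_cases ha : a = 0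
      · simp [ha]
      · rcases hu (Units.mk0 a ha) with h | h <;> simp_all
    have := (Finset.card_le_card hsub).trans Finset.card_le_three
    rw [Finset.card_univ] at this
    omega
  have hc0ne : c0 ≠ 0 := by
    rw [hc0, sub_ne_zero]
    intro e
    rw [eq_div_iff (hd _), one_mul] at e
    have hv := Fin.val_add (1 : Fin (m + 1 + 1)) 1
    simp only [Fin.val_one] at hv
    rcases Nat.eq_zero_or_pos m with rfl | hm
    · have : ((1 : Fin (0 + 1 + 1)) + 1) = 0 := rfl
      rw [this, hd0, hd1, Units.val_inv_eq_inv_val] at e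
      field_simp at e
      exact hk2 (by linear_combination e)
    · rw [Nat.mod_eq_of_lt (by omega)] at hv
      have : d (1 + 1) = 1 := by
        simp only [d]; rw [if_neg (by omega), if_neg (by omega)]
      rw [this, hd1, Units.val_inv_eq_inv_val, eq_comm, inv_eq_one] at e
      exact hk2 (by rw [e, one_pow])
  obtain ⟨hA, hB⟩ := hcomm _ rfl
  have hc1 : Matrix.SpecialLinearGroup.transvection h01 (((k : K) ^ 2 - 1) * c0) ∈ H := by
    set g := w * h * w⁻¹
    have e0 : x * g * x⁻¹ ∈ H := by
      have : x * g * x⁻¹ = (x * w) * h * (x * w)⁻¹ := by simp [g, mul_assoc]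
      rw [this]; exact H.mul_mem (H.mul_mem huH hhH) (H.inv_mem huH)
    rw [hA] at e0
    set T := Matrix.SpecialLinearGroup.transvection h01 c0
    have e1 : h * (T * g) * h⁻¹ * (T * g)⁻¹ =
        Matrix.SpecialLinearGroup.transvection h01 (((k : K) ^ 2 - 1) * c0) := by
      have e2 : h * (T * g) * h⁻¹ = Matrix.SpecialLinearGroup.transvection h01 ((k : K) ^ 2 * c0) * g := by
        rw [← mul_assoc, hconj, mul_assoc _ h, ← hB, ← mul_assoc, mul_inv_cancel_right]
      rw [e2, mul_inv_rev, mul_assoc, mul_inv_cancel_left, Matrix.SpecialLinearGroup.transvection_inv,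
        ← Matrix.SpecialLinearGroup.transvection_add]
      congr 1; ring
    rw [← e1]
    exact H.mul_mem (H.mul_mem (H.mul_mem hhH e0) (H.inv_mem hhH)) (H.inv_mem e0)
  -- the set of parameters is everything
  let c1 : K := ((k : K) ^ 2 - 1) * c0
  have hc1ne : c1 ≠ 0 := mul_ne_zero (sub_ne_zero.2 hk2) hc0ne
  let S : AddSubgroup K :=
    { carrier := {a | Matrix.SpecialLinearGroup.transvection h01 (a * c1) ∈ H}
      add_mem' := by
        intro a b ha hb
        simp only [Set.mem_setOf_eq] at ha hb ⊢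
        rw [add_mul, Matrix.SpecialLinearGroup.transvection_add]
        exact H.mul_mem ha hb
      zero_mem' := by
        simp only [Set.mem_setOf_eq, zero_mul]
        have e : Matrix.SpecialLinearGroup.transvection h01 (0 : K) = 1 := by
          apply Subtype.ext
          rw [Matrix.SpecialLinearGroup.transvection_coe]
          simp
        rw [e]; exact H.one_mem
      neg_mem' := by
        intro a ha
        simp only [Set.mem_setOf_eq] at ha ⊢
        rw [neg_mul, ← Matrix.SpecialLinearGroup.transvection_inv]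
        exact H.inv_mem ha }
  have hS1 : (1 : K) ∈ S := by show Matrix.SpecialLinearGroup.transvection h01 (1 * c1) ∈ H; rw [one_mul]; exact hc1
  have hSk : ∀ a ∈ S, (k : K) ^ 2 * a ∈ S := by
    intro a ha
    show Matrix.SpecialLinearGroup.transvection h01 ((k : K) ^ 2 * a * c1) ∈ H
    rw [mul_assoc, eq_mul_inv_of_mul_eq (hconj (a * c1)).symm]
    exact H.mul_mem (H.mul_mem hhH ha) (H.inv_mem hhH)
  have hSsq : ∀ a : K, a ^ 2 ∈ S := by
    intro a
    by_cases ha : a = 0
    · subst ha; simp
    · obtain ⟨z, hz⟩ : Units.mk0 a ha ∈ Submonoid.powers k := by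
        rw [mem_powers_iff_mem_zpowers]; exact hk _
      have hz' : a = (k : K) ^ z := by
        have := congrArg Units.val hz
        simpa using this.symm
      subst hz'
      clear hz ha
      induction z with
      | zero => simpa using hS1
      | succ z ih =>
        rw [show ((k : K) ^ (z + 1)) ^ 2 = (k : K) ^ 2 * ((k : K) ^ z) ^ 2 by ring]
        exact hSk _ ih
  have hSall : ∀ a : K, a ∈ S := by
    intro a
    rcases eq_or_ne (ringChar K) 2 with h2 | h2
    · obtain ⟨b, rfl⟩ := FiniteField.isSquare_of_char_two h2 a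
      rw [← sq]; exact hSsq b
    · have h2' : (2 : K) ≠ 0 := Ring.two_ne_zero h2
      have : a = ((a + 1) / 2) ^ 2 - ((a - 1) / 2) ^ 2 := by field_simp; ring
      rw [this]; exact S.sub_mem (hSsq _) (hSsq _)
  have hfull : Cfsg.Agent.SLTwoGen.Full H (0 : Fin (m + 1 + 1)) 1 := by
    intro hij c
    have := hSall (c / c1)
    change Matrix.SpecialLinearGroup.transvection h01 (c / c1 * c1) ∈ H at this
    rwa [div_mul_cancel₀ _ hc1ne] at this
  have hwH : w ∈ H := by
    have : w = x⁻¹ * (x * w) := by simp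
    rw [this]
    exact H.mul_mem (H.inv_mem (hxeq ▸ hfull h01 1)) huH
  rw [Cfsg.Agent.SLTwoGen.eq_top hw hn hwH hfull, top_sup_eq]

end Cfsg.Agent.S2402
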