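import Mathlib
import Cfsg.Statements.S2403
import Cfsg.Agent.SLTwoGen.Basic

set_option autoImplicit false
open Cfsg

namespace Cfsg.Agent.S2403

/-- Explicit two-element generation of `PSL_{n+1}(K)` over the fields with two or three elements: with `x = 1 + E₁₂` and `w` the monomial matrix with entries `1` in positions `(i, i+1)` and `(−1)^n` in position `(n+1, 1)`, the elements `x` and `w` generate `SL_{n+1}(K)` modulo its centre. -/
theorem result {K : Type*} [Field K] [Fintype K] (hK : Fintype.card K ≤ 3) (n : ℕ) (hn : 1 ≤ n)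
    (x w : Matrix.SpecialLinearGroup (Fin (n + 1)) K)
    (hx : (x : Matrix (Fin (n + 1)) (Fin (n + 1)) K) = Matrix.transvection (0 : Fin (n + 1)) (1 : Fin (n + 1)) 1)
    (hw : (w : Matrix (Fin (n + 1)) (Fin (n + 1)) K) =
      Matrix.of (fun i j => if j.val = i.val + 1 then 1 else if i.val = n ∧ j.val = 0 then (-1) ^ n else 0)) :
    Subgroup.closure ({x, w} : Set (Matrix.SpecialLinearGroup (Fin (n + 1)) K)) ⊔
      Subgroup.center (Matrix.SpecialLinearGroup (Fin (n + 1)) K) = ⊤ := by
  rw [eq_top_iff]
  refine le_trans (le_of_eq ?_) le_sup_left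
  refine (Cfsg.Agent.SLTwoGen.eq_top hw hn (Subgroup.subset_closure (by simp)) ?_).symm
  intro hij c
  have hxeq : x = Matrix.SpecialLinearGroup.transvection hij (1 : K) := by
    apply Subtype.ext
    rw [hx, Matrix.SpecialLinearGroup.transvection_coe]
    rfl
  have hx1 : Matrix.SpecialLinearGroup.transvection hij (1 : K) ∈ Subgroup.closure {x, w} :=
    hxeq ▸ Subgroup.subset_closure (by simp)
  have hc : c = 0 ∨ c = 1 ∨ c = -1 := by
    classical
    by_contra h
    push Not at h
    obtain ⟨h0, h1, h2⟩ := h
    have huniv : ({0, 1, c} : Finset K) = Finset.univ := by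
      refine Finset.eq_univ_of_card _ (le_antisymm (Finset.card_le_univ _) ?_)
      rw [Finset.card_insert_of_notMem (by simp [Ne.symm h0]), Finset.card_insert_of_notMem (by simp [Ne.symm h1]),
        Finset.card_singleton]
      omega
    have hm : (-1 : K) ∈ ({0, 1, c} : Finset K) := huniv ▸ Finset.mem_univ _
    have hm1 : (1 + c) ∈ ({0, 1, c} : Finset K) := huniv ▸ Finset.mem_univ _
    simp at hm hm1
    rcases hm with hm | hm
    · rcases hm1 with hm1 | hm1
      · exact h1 (by linear_combination hm1 + hm)
      · exact h0 hm1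
    · exact h2 hm.symm
  rcases hc with rfl | rfl | rfl
  · have e : Matrix.SpecialLinearGroup.transvection hij (0 : K) = 1 := by
      apply Subtype.ext
      rw [Matrix.SpecialLinearGroup.transvection_coe]
      simp
    rw [e]; exact one_mem _
  · exact hx1
  · rw [← Matrix.SpecialLinearGroup.transvection_inv]
    exact inv_mem hx1

end Cfsg.Agent.S2403
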