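import Cfsg.Statements.S2405
import Cfsg.Agent.Chev.All
import Cfsg.Agent.Chev.TwoGen

set_option autoImplicit false
open Cfsg

namespace Cfsg.Agent.S2405

open Cfsg.Lie Cfsg.Agent.Chev

theorem g2_torusGen : chkTorusGen chevG2 g2Cert [0, 1] 6 1 9 0 1 8
    [] = true := by decide +kernel

theorem b2_torusGen : chkTorusGen chevB2 b2Cert [0, 1] 4 1 7 1 2 4
    [] = true := by decide +kernel

theorem d4_torusGen : chkTorusGen chevD4 d4Cert [3, 1, 0, 2] 6 1 6 12 1 4
    [(false, 1, 13, 3)] = true := by decide +kernel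

theorem d4_twoGen : chkTwoGen chevD4 d4Cert [2, 3, 1, 0] 6 3 14
    [(true, 1, 12, 2), (false, 2, 11, 1)] = true := by decide +kernel

theorem f4_torusGen : chkTorusGen chevF4 f4Cert [0, 1, 2, 3] 12 0 24 35 27 5
    [] = true := by decide +kernel

theorem f4_twoGen : chkTwoGen chevF4 f4Cert [0, 1, 2, 3] 12 36 41
    [(false, 9, 12, 3), (true, 0, 36, 17)] = true := by decide +kernel

theorem e6_torusGen : chkTorusGen chevE6 e6Cert [0, 1, 2, 3, 4, 5] 12 5 15 27 6 12
    [(false, 12, 35, 11)] = true := by decide +kernel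

theorem e6_twoGen : chkTwoGen chevE6 e6Cert [0, 1, 2, 3, 4, 5] 12 11 39
    [(false, 8, 52, 15), (false, 8, 32, 6)] = true := by decide +kernel

theorem e7_torusGen : chkTorusGen chevE7 e7Cert [0, 1, 2, 3, 4, 5, 6] 18 1 123 69 86 118
    [(false, 0, 119, 27), (false, 20, 59, 18)] = true := by decide +kernel

theorem e7_twoGen : chkTwoGen chevE7 e7Cert [0, 1, 2, 3, 4, 5, 6] 18 73 63
    [(true, 23, 93, 39), (false, 20, 59, 18)] = true := by decide +kernel

theorem e8_torusGen : chkTorusGen chevE8 e8Cert [0, 1, 2, 3, 4, 5, 6, 7] 30 1 218 130 151 203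
    [(false, 62, 113, 59), (false, 47, 96, 28)] = true := by decide +kernel

theorem e8_twoGen : chkTwoGen chevE8 e8Cert [0, 1, 2, 3, 4, 5, 6, 7] 30 162 105
    [(false, 47, 138, 66), (false, 47, 96, 28)] = true := by decide +kernel

/-- Each Chevalley group of type G₂, B₂, D₄, F₄, E₆, E₇ or E₈ over a finite field is generated by two of its elements (types B₂ and G₂ over the field with two elements, where the group is not simple, excepted). -/
theorem result {F : Type*} [Field F] [Finite F] (D : Cfsg.Lie.ChevalleyDatum) (hD : D ∈ [Cfsg.Lie.chevG2, Cfsg.Lie.chevB2, Cfsg.Lie.chevD4, Cfsg.Lie.chevF4, Cfsg.Lie.chevE6, Cfsg.Lie.chevE7, Cfsg.Lie.chevE8])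
    (hF : D ∈ [Cfsg.Lie.chevB2, Cfsg.Lie.chevG2] → ∃ x : F, x ≠ 0 ∧ x ≠ 1) :
    ∃ a b : ↥(D.group F), Subgroup.closure ({a, b} : Set ↥(D.group F)) = ⊤ := by
  have : Fintype F := Fintype.ofFinite F
  simp only [List.mem_cons, List.not_mem_nil, or_false] at hD hF
  by_cases hq : ∃ x : F, x ≠ 0 ∧ x ≠ 1
  · rcases hD with rfl | rfl | rfl | rfl | rfl | rfl | rfl
    · exact two_gen_torus g2_checks facts_chevG2 hq g2_torusGen
    · exact two_gen_torus b2_checks facts_chevB2 hq b2_torusGen
    · exact two_gen_torus d4_checks facts_chevD4 hq d4_torusGen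
    · exact two_gen_torus f4_checks facts_chevF4 hq f4_torusGen
    · exact two_gen_torus e6_checks facts_chevE6 hq e6_torusGen
    · exact two_gen_torus e7_checks facts_chevE7 hq e7_torusGen
    · exact two_gen_torus e8_checks facts_chevE8 hq e8_torusGen
  · have h2 : ∀ x : F, x = 0 ∨ x = 1 := fun x => by
      by_contra hx
      exact hq ⟨x, fun e => hx (Or.inl e), fun e => hx (Or.inr e)⟩
    rcases hD with rfl | rfl | rfl | rfl | rfl | rfl | rfl
    · exact absurd (hF (Or.inr rfl)) hq
    · exact absurd (hF (Or.inl rfl)) hq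
    · exact two_gen_two d4_checks facts_chevD4 h2 d4_twoGen
    · exact two_gen_two f4_checks facts_chevF4 h2 f4_twoGen
    · exact two_gen_two e6_checks facts_chevE6 h2 e6_twoGen
    · exact two_gen_two e7_checks facts_chevE7 h2 e7_twoGen
    · exact two_gen_two e8_checks facts_chevE8 h2 e8_twoGen

end Cfsg.Agent.S2405
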