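import Cfsg.Statements.S2410
import Cfsg.Agent.Suzuki.Fusion
-- import your own Cfsg.Agent.* helpers here

set_option autoImplicit false
open Cfsg
open Cfsg.Agent

namespace Cfsg.Agent.S2410

/-- The Suzuki group over the field with `2^(2m+1)` elements, `m ≥ 1` (realised as the stabiliser in `SL₄` of the Suzuki–Tits ovoid), is generated by two of its elements. -/
theorem result {F : Type*} [Field F] [Fintype F] {m : ℕ} (hm : 1 ≤ m) (hF : Fintype.card F = 2 ^ (2 * m + 1)) :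
    ∃ a b : ↥(Cfsg.Sz F m), Subgroup.closure ({a, b} : Set ↥(Cfsg.Sz F m)) = ⊤ := by
  classical
  have hG := RankOne.Ovoid.good_of_card (m := m) hF
  have h2 := hG.two
  obtain ⟨c, hc⟩ := IsCyclic.exists_generator (α := Fˣ)
  refine ⟨Suzuki.H hG c, Suzuki.T hG 1 0 * Suzuki.J hG, ?_⟩
  set K := Subgroup.closure ({Suzuki.H hG c, Suzuki.T hG 1 0 * Suzuki.J hG} : Set _)
  have hH : ∀ a, Suzuki.H hG a ∈ K := fun a => by
    obtain ⟨k, rfl⟩ := hc a
    rw [map_zpow]
    exact K.zpow_mem (Subgroup.subset_closure (by simp)) k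
  have hb : Suzuki.T hG 1 0 * Suzuki.J hG ∈ K := Subgroup.subset_closure (by simp)
  -- conjugating the torus gives a translation off the centre
  have h1 : ∀ a : Fˣ, Suzuki.T hG 1 0 * Suzuki.H hG a * (Suzuki.T hG 1 0)⁻¹ * (Suzuki.H hG a)⁻¹ ∈ K := by
    intro a
    refine K.mul_mem ?_ (K.inv_mem (hH a))
    have h := K.mul_mem (K.mul_mem hb (hH a⁻¹)) (K.inv_mem hb)
    have hJ : Suzuki.J hG * Suzuki.H hG a⁻¹ * (Suzuki.J hG)⁻¹ = Suzuki.H hG a := by
      rw [inv_eq_of_mul_eq_one_right (Suzuki.J_mul_J hG), Suzuki.J_H_J, inv_inv]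
    rw [show Suzuki.T hG 1 0 * Suzuki.J hG * Suzuki.H hG a⁻¹ * (Suzuki.T hG 1 0 * Suzuki.J hG)⁻¹ =
      Suzuki.T hG 1 0 * (Suzuki.J hG * Suzuki.H hG a⁻¹ * (Suzuki.J hG)⁻¹) * (Suzuki.T hG 1 0)⁻¹ by
        simp [mul_assoc], hJ] at h
    exact h
  obtain ⟨w, hw⟩ : ∃ w : Fˣ, w ≠ 1 := by
    have : Nontrivial Fˣ := by
      rw [← Finite.one_lt_card_iff_nontrivial, Nat.card_units, Nat.card_eq_fintype_card]
      have := Suzuki.two_lt_card hm hF
      omega
    exact exists_ne 1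
  obtain ⟨x, y, hx, hxy⟩ : ∃ x y, x ≠ 0 ∧ Suzuki.T hG x y ∈ K := by
    have h := h1 w
    rw [Suzuki.T_inv, mul_assoc (Suzuki.T hG 1 0), Suzuki.H_conj_T, ← mul_assoc,
      mul_inv_cancel_right, Suzuki.T_mul] at h
    refine ⟨_, _, fun h0 => hw (Suzuki.lam_eq_one hG ?_), h⟩
    linear_combination h0 - h2
  have horb : ∀ z : F, ∃ y', Suzuki.T hG z y' ∈ K := by
    intro z
    rcases eq_or_ne z 0 with rfl | hz
    · exact ⟨0, by rw [Suzuki.T_zero]; exact K.one_mem⟩
    have hl : ∃ a : Fˣ, Suzuki.lam m (a : F) * x = z := by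
      have hinj : Function.Injective (fun a : Fˣ => Units.mk0 (Suzuki.lam m (a : F))
          (div_ne_zero (pow_ne_zero _ a.ne_zero) (pow_ne_zero _ a.ne_zero))) := by
        intro a a' h
        have h' : Suzuki.lam m (a : F) = Suzuki.lam m (a' : F) := congrArg Units.val h
        refine mul_inv_eq_one.mp (Suzuki.lam_eq_one hG ?_)
        simp only [Suzuki.lam] at h' ⊢
        rw [Units.val_mul, Units.val_inv_eq_inv_val]
        simp only [mul_pow, inv_pow]
        have := a.ne_zero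
        have := a'.ne_zero
        field_simp at h' ⊢
        linear_combination h'
      obtain ⟨a, ha⟩ := Finite.surjective_of_injective hinj (Units.mk0 (z / x) (div_ne_zero hz hx))
      exact ⟨a, by rw [show Suzuki.lam m (a : F) = z / x from congrArg Units.val ha,
        div_mul_cancel₀ _ hx]⟩
    obtain ⟨a, rfl⟩ := hl
    refine ⟨(a : F) ^ (2 ^ (m + 1)) * y, ?_⟩
    have h := K.mul_mem (K.mul_mem (hH a) hxy) (K.inv_mem (hH a))
    rwa [Suzuki.H_conj_T, mul_inv_cancel_right] at h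
  have hzero : ∀ b, Suzuki.T hG 0 b ∈ K := fun b => by
    obtain ⟨z, rfl⟩ := Suzuki.sigma_succ_surj hG b
    obtain ⟨y', hy'⟩ := horb z
    rw [← Suzuki.T_sq hG z y']
    exact K.mul_mem hy' hy'
  have hT : ∀ a b, Suzuki.T hG a b ∈ K := fun a b => by
    obtain ⟨y', hy'⟩ := horb a
    have := K.mul_mem hy' (hzero (b - y'))
    rwa [Suzuki.T_mul, add_zero, mul_zero, add_zero, add_sub_cancel] at this
  exact Suzuki.eq_top_of_gen hG hm hF K hT hH ((K.mul_mem_cancel_left (hT 1 0)).mp hb)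

end Cfsg.Agent.S2410
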