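import Cfsg.Statements.S2412
import Cfsg.Agent.SUTwoGen.Main
-- import your own Cfsg.Agent.* helpers here

set_option autoImplicit false
open Cfsg

namespace Cfsg.Agent.S2412

/-- The projective special unitary group `PSU_n(q)` with `n ≥ 3`, realised over the field with `q²` elements, `(n, q) ≠ (3, 2)`, is generated by two of its elements. -/
theorem result {F : Type*} [Field F] [Fintype F] {q : ℕ} (hq : IsPrimePow q) (hF : Fintype.card F = q ^ 2) (n : ℕ) (hn : 3 ≤ n) (h32 : n = 3 → q ≠ 2) :
    ∃ a b : Cfsg.PSU n F q, Subgroup.closure ({a, b} : Set (Cfsg.PSU n F q)) = ⊤ := by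
  obtain ⟨σ, hu⟩ := AutPSU.exists_uctx hF
  obtain ⟨a, b, hab⟩ : ∃ a b : AutPSU.Su n F q, Subgroup.closure ({a, b} : Set (AutPSU.Su n F q)) = ⊤ := by
    rcases Nat.lt_or_ge n 4 with h | h
    · have h3 : n = 3 := by omega
      obtain ⟨u, g, -, hgen⟩ := SUGen.generated_three hu h3 (by have := hu.one_lt; have := h32 h3; omega)
      exact ⟨u, g * u * g⁻¹, hgen⟩
    · exact SUTwoGen.su_two_gen hu (m := n / 2) (by omega) (by omega)
  refine ⟨AutPSU.mkU a, AutPSU.mkU b, ?_⟩
  have := congrArg (Subgroup.map (AutPSU.mkU (n := n) (F := F) (q := q))) hab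
  rw [MonoidHom.map_closure, Set.image_pair, Subgroup.map_top_of_surjective _ AutPSU.mkU_surjective] at this
  exact this

end Cfsg.Agent.S2412
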