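import Cfsg.Statements.S2416
import Cfsg.Agent.Chev.All
import Cfsg.Agent.Chev.Generation

set_option autoImplicit false
open scoped MatrixGroups
open Cfsg

namespace Cfsg.Agent.S2416

open Cfsg.Lie Cfsg.Agent.Chev

/-- A short root and a conjugate of it with commutator a long root conjugate to the node `b`. -/
def longStep (D : ChevalleyDatum) (p : ℤ) (a b : ℕ) (w : List ℕ) : Bool :=
  decide (a < D.rank) && decide (b < D.rank) && w.all (fun i => decide (i < D.rank)) &&
    let s := w.foldr (fun i s => D.reflectRoot i s) (D.simple a)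
    decide (s < D.nroots) && decide (s ≠ D.simple a) && decide (s ≠ D.neg (D.simple a)) &&
      match D.commTerms (D.simple a) s with
      | [(k, m, 1, 1)] => decide (k < D.nroots) && decide (m = p ∨ m = -p) &&
          decide (D.reflectRoot a k = D.simple b)
      | _ => false

universe u

section

variable {D : ChevalleyDatum} {K : Type u} [Field K] (hF : Facts.{u} D)
include hF

theorem of_single {i : ℕ} (hi : i < D.rank) (h : allNodes D [i] = true) :
    D.group K ≤ D.monomialSubgroup K ⊔ D.rootSubgroup K (D.simple i) :=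
  group_le_of_nodes hF le_sup_left h fun k hk => by
    rw [List.mem_singleton.1 hk]
    exact ⟨hi, fun t => Subgroup.mem_sup_right (Subgroup.subset_closure ⟨t, rfl⟩)⟩

theorem of_two {i a b : ℕ} {p : ℤ} {w : List ℕ} (hi : i < D.rank) (hp : (p : K) ≠ 0)
    (hl : longStep D p a b w = true) (ha : a ∈ closeNodes D D.rank [i])
    (h : allNodes D [i, b] = true) :
    D.group K ≤ D.monomialSubgroup K ⊔ D.rootSubgroup K (D.simple i) := by
  set M := D.monomialSubgroup K ⊔ D.rootSubgroup K (D.simple i)
  have hN : D.monomialSubgroup K ≤ M := le_sup_left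
  have h0 : ∀ k ∈ [i], k < D.rank ∧ ∀ t : K, xG hF (D.simple k) t ∈ M := fun k hk => by
    rw [List.mem_singleton.1 hk]
    exact ⟨hi, fun t => Subgroup.mem_sup_right (Subgroup.subset_closure ⟨t, rfl⟩)⟩
  obtain ⟨har, hXa⟩ := closeNodes_mem hF hN D.rank [i] h0 a ha
  simp only [longStep, Bool.and_eq_true, decide_eq_true_eq, List.all_eq_true] at hl
  obtain ⟨⟨⟨-, hb⟩, hw⟩, ⟨⟨hs, hsr⟩, hsn⟩, hc⟩ := hl
  have hfold : ∀ w : List ℕ, (∀ i ∈ w, i < D.rank) →
      w.foldr (fun i s => D.reflectRoot i s) (D.simple a) < D.nroots ∧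
        ∀ t : K, xG hF (w.foldr (fun i s => D.reflectRoot i s) (D.simple a)) t ∈ M := by
    intro w
    induction w with
    | nil => exact fun _ => ⟨hF.simple_lt a har, hXa⟩
    | cons j w ih =>
      intro hw
      obtain ⟨h1, h2⟩ := ih fun x hx => hw x (List.mem_cons_of_mem _ hx)
      exact ⟨hF.refl_lt j (hw j List.mem_cons_self) _ h1,
        fun t => xG_refl_mem hF hN (hw j List.mem_cons_self) h1 h2 t⟩
  split at hc
  · next k m hcomm =>
    simp only [Bool.and_eq_true, decide_eq_true_eq] at hc
    obtain ⟨⟨hk, hm⟩, hkb⟩ := hc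
    have hm0 : (m : K) ≠ 0 := by
      rcases hm with rfl | rfl
      · exact hp
      · rw [Int.cast_neg]; exact neg_ne_zero.2 hp
    have hXk : ∀ t : K, xG hF k t ∈ M := xG_comm_mem hF (hF.simple_lt a har) hs hsr hsn hcomm hm0
      hXa (hfold w hw).2
    refine group_le_of_nodes hF hN h fun x hx => ?_
    rcases List.mem_cons.1 hx with rfl | hx
    · exact h0 x (List.mem_singleton.2 rfl)
    · rw [List.mem_singleton.1 hx]
      exact ⟨hb, fun t => hkb ▸ xG_refl_mem hF hN har hk hXk t⟩
  · exact absurd hc Bool.false_ne_true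

end

/-- A Chevalley group of type G₂, B₂, D₄, F₄, E₆, E₇ or E₈ over a finite field lies in (indeed equals) the subgroup generated by its monomial subgroup `N` and a single fundamental root subgroup `X_p`, where `p` is a short fundamental root if there are two root lengths (any fundamental root otherwise), provided the characteristic is not 2 for types B₂, F₄ and not 3 for type G₂ (and the field has more than two elements for B₂, G₂). -/
theorem result {K : Type*} [Field K] [Finite K] (D : Cfsg.Lie.ChevalleyDatum) (hD : D ∈ [Cfsg.Lie.chevG2, Cfsg.Lie.chevB2, Cfsg.Lie.chevD4, Cfsg.Lie.chevF4, Cfsg.Lie.chevE6, Cfsg.Lie.chevE7, Cfsg.Lie.chevE8])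
    (hK : D ∈ [Cfsg.Lie.chevB2, Cfsg.Lie.chevG2] → ∃ x : K, x ≠ 0 ∧ x ≠ 1)
    (h2 : D ∈ [Cfsg.Lie.chevB2, Cfsg.Lie.chevF4] → ringChar K ≠ 2) (h3 : D = Cfsg.Lie.chevG2 → ringChar K ≠ 3)
    (i : ℕ) (hi : i < D.rank) (hshort : D.isLong (D.simple i) = false) :
    D.group K ≤ D.monomialSubgroup K ⊔ D.rootSubgroup K (D.simple i) := by
  have hne : ∀ p : ℕ, p.Prime → ringChar K ≠ p → ((p : ℤ) : K) ≠ 0 := fun p hp hne h => by
    rw [Int.cast_natCast, ringChar.spec] at h
    rcases (Nat.dvd_prime hp).1 h with e | e
    · exact CharP.ringChar_ne_one e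
    · exact hne e
  simp only [List.mem_cons, List.not_mem_nil, or_false] at hD h2
  rcases hD with rfl | rfl | rfl | rfl | rfl | rfl | rfl
  · have hp : ((3 : ℤ) : K) ≠ 0 := hne 3 Nat.prime_three (h3 rfl)
    obtain ⟨rfl⟩ : Nonempty (i = 0) := by
      change i < 2 at hi; interval_cases i
      · exact ⟨rfl⟩
      · exact absurd hshort (by decide +kernel)
    exact of_two facts_chevG2 hi hp (a := 0) (b := 1) (w := [0, 1]) (by decide +kernel)
      (by decide +kernel) (by decide +kernel)
  · have hp : ((2 : ℤ) : K) ≠ 0 := hne 2 Nat.prime_two (h2 (by simp))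
    obtain ⟨rfl⟩ : Nonempty (i = 0) := by
      change i < 2 at hi; interval_cases i
      · exact ⟨rfl⟩
      · exact absurd hshort (by decide +kernel)
    exact of_two facts_chevB2 hi hp (a := 0) (b := 1) (w := [1]) (by decide +kernel)
      (by decide +kernel) (by decide +kernel)
  · refine of_single facts_chevD4 hi ?_
    change i < 4 at hi; interval_cases i <;> decide +kernel
  · have hp : ((2 : ℤ) : K) ≠ 0 := hne 2 Nat.prime_two (h2 (by simp))
    change i < 4 at hi; interval_cases i
    · exact of_two facts_chevF4 (by decide) hp (a := 1) (b := 2) (w := [2]) (by decide +kernel)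
        (by decide +kernel) (by decide +kernel)
    · exact of_two facts_chevF4 (by decide) hp (a := 1) (b := 2) (w := [2]) (by decide +kernel)
        (by decide +kernel) (by decide +kernel)
    · exact absurd hshort (by decide +kernel)
    · exact absurd hshort (by decide +kernel)
  · refine of_single facts_chevE6 hi ?_
    change i < 6 at hi; interval_cases i <;> decide +kernel
  · refine of_single facts_chevE7 hi ?_
    change i < 7 at hi; interval_cases i <;> decide +kernel
  · refine of_single facts_chevE8 hi ?_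
    change i < 8 at hi; interval_cases i <;> decide +kernel

end Cfsg.Agent.S2416
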