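import Cfsg.Statements.S2417
import Cfsg.Agent.Chev.All
import Cfsg.Agent.Chev.Generation

set_option autoImplicit false
open scoped MatrixGroups
open Cfsg

namespace Cfsg.Agent.S2417

/-- In the characteristics with an exceptional graph symmetry — type B₂ or F₄ in characteristic 2 (field of more than two elements for B₂) and type G₂ in characteristic 3 — the Chevalley group lies in the subgroup generated by its monomial subgroup `N` and the two fundamental root subgroups `X_a`, `X_b` of a short root `a` and a long root `b` joined in the Dynkin diagram. -/
theorem result {K : Type*} [Field K] [Finite K] (e : Cfsg.Lie.ChevalleyDatum × ℕ)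
    (he : e ∈ [(Cfsg.Lie.chevB2, 2), (Cfsg.Lie.chevF4, 2), (Cfsg.Lie.chevG2, 3)]) [CharP K e.2]
    (hK : e.1 = Cfsg.Lie.chevB2 → ∃ x : K, x ≠ 0 ∧ x ≠ 1)
    (i j : ℕ) (hi : i < e.1.rank) (hj : j < e.1.rank) (hshort : e.1.isLong (e.1.simple i) = false)
    (hlong : e.1.isLong (e.1.simple j) = true) (hbond : e.1.bonds i j ≠ 0) :
    e.1.group K ≤ e.1.monomialSubgroup K ⊔ e.1.rootSubgroup K (e.1.simple i) ⊔ e.1.rootSubgroup K (e.1.simple j) := by
  have main : ∀ {D : Cfsg.Lie.ChevalleyDatum} (hF : Chev.Facts D), i < D.rank → j < D.rank →
      Chev.allNodes D [i, j] = true →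
      D.group K ≤ D.monomialSubgroup K ⊔ D.rootSubgroup K (D.simple i) ⊔
        D.rootSubgroup K (D.simple j) := by
    intro D hF hi hj h
    refine Chev.group_le_of_nodes hF (le_sup_left.trans le_sup_left) h fun k hk => ?_
    rcases List.mem_cons.1 hk with rfl | hk
    · exact ⟨hi, fun t => Subgroup.mem_sup_left (Subgroup.mem_sup_right
        (Subgroup.subset_closure ⟨t, rfl⟩))⟩
    · rw [List.mem_singleton.1 hk]
      exact ⟨hj, fun t => Subgroup.mem_sup_right (Subgroup.subset_closure ⟨t, rfl⟩)⟩
  clear hbond
  simp only [List.mem_cons, List.not_mem_nil, or_false] at he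
  rcases he with rfl | rfl | rfl
  · refine main Chev.facts_chevB2 hi hj ?_
    change i < 2 at hi; change j < 2 at hj
    interval_cases i <;> interval_cases j <;>
      first
        | decide +kernel
        | exact absurd hshort (by decide +kernel)
        | exact absurd hlong (by decide +kernel)
  · refine main Chev.facts_chevF4 hi hj ?_
    change i < 4 at hi; change j < 4 at hj
    interval_cases i <;> interval_cases j <;>
      first
        | decide +kernel
        | exact absurd hshort (by decide +kernel)
        | exact absurd hlong (by decide +kernel)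
  · refine main Chev.facts_chevG2 hi hj ?_
    change i < 2 at hi; change j < 2 at hj
    interval_cases i <;> interval_cases j <;>
      first
        | decide +kernel
        | exact absurd hshort (by decide +kernel)
        | exact absurd hlong (by decide +kernel)

end Cfsg.Agent.S2417
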