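import Cfsg.Statements.S2418
import Cfsg.Agent.Chev.WeylAll
import Cfsg.Agent.Chev.WeylCenter

set_option autoImplicit false
open Cfsg

namespace Cfsg.Agent.S2418

open Cfsg.Lie Cfsg.Agent.Chev

theorem g2_minusOne : chkCenter chevG2 g2Cert = true ∧
    chkMinusOne chevG2 g2Cert ((List.finRange chevG2.rank).map Fin.val) 3 = true ∧
      0 < chevG2.rank := by
  refine ⟨?_, ?_, ?_⟩ <;> decide +kernel

theorem b2_minusOne : chkCenter chevB2 b2Cert = true ∧
    chkMinusOne chevB2 b2Cert ((List.finRange chevB2.rank).map Fin.val) 2 = true ∧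
      0 < chevB2.rank := by
  refine ⟨?_, ?_, ?_⟩ <;> decide +kernel

theorem d4_minusOne : chkCenter chevD4 d4Cert = true ∧
    chkMinusOne chevD4 d4Cert ((List.finRange chevD4.rank).map Fin.val) 3 = true ∧
      0 < chevD4.rank := by
  refine ⟨?_, ?_, ?_⟩ <;> decide +kernel

theorem f4_minusOne : chkCenter chevF4 f4Cert = true ∧
    chkMinusOne chevF4 f4Cert ((List.finRange chevF4.rank).map Fin.val) 6 = true ∧
      0 < chevF4.rank := by
  refine ⟨?_, ?_, ?_⟩ <;> decide +kernel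

theorem e7_minusOne : chkCenter chevE7 e7Cert = true ∧
    chkMinusOne chevE7 e7Cert ((List.finRange chevE7.rank).map Fin.val) 9 = true ∧
      0 < chevE7.rank := by
  refine ⟨?_, ?_, ?_⟩ <;> decide +kernel

theorem e8_minusOne : chkCenter chevE8 e8Cert = true ∧
    chkMinusOne chevE8 e8Cert ((List.finRange chevE8.rank).map Fin.val) 15 = true ∧
      0 < chevE8.rank := by
  refine ⟨?_, ?_, ?_⟩ <;> decide +kernel

theorem e6_noMinusOne : chkCenter chevE6 e6Cert = true ∧ chkNoMinusOne chevE6 e6Cert = true ∧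
    (e6Cert.longest.all fun i => decide (i < chevE6.rank)) = true := by
  refine ⟨?_, ?_, ?_⟩ <;> decide +kernel

/-- For the Coxeter groups of types B₂, G₂, D₄, F₄, E₇, E₈ the centre has order 2 (the element acting as −1 on the root system) and is generated by a power of the Coxeter element `s₁ s₂ ⋯ s_l`; the Coxeter group of type E₆ has trivial centre. -/
theorem result (c : (Σ n : ℕ, CoxeterMatrix (Fin n)) × ℕ)
    (hc : c ∈ [(⟨2, CoxeterMatrix.B 2⟩, 2), (⟨2, CoxeterMatrix.G₂⟩, 2), (⟨4, Cfsg.Lie.coxeterD4⟩, 2), (⟨4, CoxeterMatrix.F₄⟩, 2),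
      (⟨6, CoxeterMatrix.E₆⟩, 1), (⟨7, CoxeterMatrix.E₇⟩, 2), (⟨8, CoxeterMatrix.E₈⟩, 2)]) :
    Nat.card (Subgroup.center c.1.2.Group) = c.2 ∧
      Subgroup.center c.1.2.Group ≤ Subgroup.zpowers ((List.finRange c.1.1).map c.1.2.simple).prod := by
  simp only [List.mem_cons, List.not_mem_nil, or_false] at hc
  rcases hc with rfl | rfl | rfl | rfl | rfl | rfl | rfl
  · obtain ⟨hz, hn⟩ := center_eq_pair b2_checks facts_chevB2.{0} b2_minusOne.1 b2_minusOne.2.1
      b2_minusOne.2.2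
    exact coxeter_center facts_chevB2 _ b2_orderOf _ 2 hz hn
  · obtain ⟨hz, hn⟩ := center_eq_pair g2_checks facts_chevG2.{0} g2_minusOne.1 g2_minusOne.2.1
      g2_minusOne.2.2
    exact coxeter_center facts_chevG2 _ g2_orderOf _ 2 hz hn
  · obtain ⟨hz, hn⟩ := center_eq_pair d4_checks facts_chevD4.{0} d4_minusOne.1 d4_minusOne.2.1
      d4_minusOne.2.2
    exact coxeter_center facts_chevD4 _ d4_orderOf _ 2 hz hn
  · obtain ⟨hz, hn⟩ := center_eq_pair f4_checks facts_chevF4.{0} f4_minusOne.1 f4_minusOne.2.1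
      f4_minusOne.2.2
    exact coxeter_center facts_chevF4 _ f4_orderOf _ 2 hz hn
  · have hb := center_eq_bot e6_checks facts_chevE6.{0} e6_noMinusOne.1 e6_noMinusOne.2.1
      fun i hi => of_decide_eq_true (List.all_eq_true.1 e6_noMinusOne.2.2 i hi)
    exact coxeter_center facts_chevE6 _ e6_orderOf (List.finRange 6) 1 (hb.le.trans bot_le)
      (by rw [hb, Subgroup.card_bot])
  · obtain ⟨hz, hn⟩ := center_eq_pair e7_checks facts_chevE7.{0} e7_minusOne.1 e7_minusOne.2.1
      e7_minusOne.2.2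
    exact coxeter_center facts_chevE7 _ e7_orderOf _ 2 hz hn
  · obtain ⟨hz, hn⟩ := center_eq_pair e8_checks facts_chevE8.{0} e8_minusOne.1 e8_minusOne.2.1
      e8_minusOne.2.2
    exact coxeter_center facts_chevE8 _ e8_orderOf _ 2 hz hn

end Cfsg.Agent.S2418
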