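import Cfsg.Statements.S2419

set_option autoImplicit false
open Cfsg

namespace Cfsg.Agent.S2419

section Lemmas

variable {n : ℕ} (M : CoxeterMatrix (Fin n))

theorem simple_sq (i : Fin n) : M.simple i * M.simple i = 1 := by
  simpa using M.toCoxeterSystem.simple_mul_simple_self i

theorem simple_pow (i j : Fin n) : (M.simple i * M.simple j) ^ M i j = 1 := by
  simpa using M.toCoxeterSystem.simple_mul_simple_pow i j

theorem simple_inv (i : Fin n) : (M.simple i)⁻¹ = M.simple i :=
  inv_eq_of_mul_eq_one_right (simple_sq M i)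

theorem simple_comm {i j : Fin n} (h : M i j = 2) : Commute (M.simple i) (M.simple j) := by
  have h1 := simple_pow M i j
  rw [h, pow_two] at h1
  have h2 := eq_inv_of_mul_eq_one_left h1
  rw [mul_inv_rev, simple_inv, simple_inv] at h2
  exact h2

theorem braid3 {i j : Fin n} (h : M i j = 3) :
    M.simple i * M.simple j * M.simple i * M.simple j * M.simple i = M.simple j := by
  have h1 := simple_pow M i j
  rw [h] at h1
  calc M.simple i * M.simple j * M.simple i * M.simple j * M.simple i
      = (M.simple i * M.simple j) ^ 3 * (M.simple j)⁻¹ := by rw [pow_succ, pow_succ, pow_one]; group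
    _ = M.simple j := by rw [h1, one_mul, simple_inv]

/-- The Coxeter element moves a simple reflection to the next one. -/
theorem coxeter_conj (L₁ L₂ : List (Fin n)) (a b : Fin n) (hl : List.finRange n = L₁ ++ a :: b :: L₂)
    (h₁ : ∀ j ∈ L₁, M j b = 2) (h₂ : ∀ j ∈ L₂, M a j = 2) (hab : M a b = 3) :
    ((List.finRange n).map M.simple).prod * M.simple a * (((List.finRange n).map M.simple).prod)⁻¹ =
      M.simple b := by
  rw [hl, List.map_append, List.map_cons, List.map_cons, List.prod_append, List.prod_cons, List.prod_cons]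
  set P := (L₁.map M.simple).prod
  set Q := (L₂.map M.simple).prod
  have hP : Commute P (M.simple b) := Commute.list_prod_left _ _ fun y hy => by
    obtain ⟨j, hj, rfl⟩ := List.mem_map.mp hy
    exact simple_comm M (h₁ j hj)
  have hQ : Commute (M.simple a) Q := Commute.list_prod_right _ _ fun y hy => by
    obtain ⟨j, hj, rfl⟩ := List.mem_map.mp hy
    exact simple_comm M (h₂ j hj)
  calc P * (M.simple a * (M.simple b * Q)) * M.simple a * (P * (M.simple a * (M.simple b * Q)))⁻¹
      = P * M.simple a * M.simple b * (Q * M.simple a * Q⁻¹) * (M.simple b)⁻¹ * (M.simple a)⁻¹ * P⁻¹ := by group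
    _ = P * M.simple a * M.simple b * M.simple a * (M.simple b)⁻¹ * (M.simple a)⁻¹ * P⁻¹ := by
      rw [← hQ.eq, mul_inv_cancel_right]
    _ = P * (M.simple a * M.simple b * M.simple a * M.simple b * M.simple a) * P⁻¹ := by
      rw [simple_inv, simple_inv]; group
    _ = M.simple b := by rw [braid3 M hab, hP.eq, mul_inv_cancel_right]

theorem closure_eq_top (K : Subgroup M.Group) (h : ∀ i, M.simple i ∈ K) : K = ⊤ := by
  rw [eq_top_iff, ← M.toCoxeterSystem.subgroup_closure_range_simple, Subgroup.closure_le]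
  rintro _ ⟨i, rfl⟩
  simpa using h i

/-- The three first reflections in the exceptional series `E`. -/
theorem typeE_start (s0 s1 s2 s3 : Fin n) (h01 : M s0 s1 = 2) (h02 : M s0 s2 = 3) (h03 : M s0 s3 = 2)
    (h12 : M s1 s2 = 2) (h23 : M s2 s3 = 3) (K : Subgroup M.Group)
    (ha : M.simple s0 * M.simple s1 * M.simple s2 ∈ K) (h3 : M.simple s3 ∈ K) :
    M.simple s0 ∈ K ∧ M.simple s1 ∈ K ∧ M.simple s2 ∈ K := by
  set a := M.simple s0 * M.simple s1 * M.simple s2 with hadef
  set b := M.simple s0 * M.simple s2 with hbdef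
  have hab : a = M.simple s1 * b := by
    rw [hadef, (simple_comm M h01).eq, hbdef, mul_assoc]
  have hb3 : b ^ 3 = 1 := h02 ▸ simple_pow M s0 s2
  have hc : Commute (M.simple s1) b := (simple_comm M h01).symm.mul_right (simple_comm M h12)
  have h1 : M.simple s1 ∈ K := by
    have : a ^ 3 = M.simple s1 := by
      rw [hab, hc.mul_pow, hb3, mul_one, pow_succ, pow_two, simple_sq, one_mul]
    exact this ▸ K.pow_mem ha 3
  have hb : b ∈ K := by
    have h4 : (M.simple s1)⁻¹ * a = b := by rw [hab, inv_mul_cancel_left]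
    exact h4 ▸ K.mul_mem (K.inv_mem h1) ha
  have h32 : M.simple s3 * M.simple s2 ∈ K := by
    have h5 : b⁻¹ * (M.simple s3 * b * M.simple s3) = M.simple s3 * M.simple s2 := by
      have h6 := braid3 M h23
      calc b⁻¹ * (M.simple s3 * b * M.simple s3)
          = M.simple s2 * (M.simple s0 * (M.simple s3 * M.simple s0)) * M.simple s2 * M.simple s3 := by
            rw [hbdef, mul_inv_rev, simple_inv, simple_inv]; simp only [mul_assoc]
        _ = M.simple s2 * M.simple s3 * M.simple s2 * M.simple s3 := by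
            rw [(simple_comm M h03).symm.eq, ← mul_assoc (M.simple s0), simple_sq, one_mul]
        _ = (M.simple s2 * M.simple s3 * M.simple s2 * M.simple s3 * M.simple s2) * M.simple s2 := by
            rw [mul_assoc _ (M.simple s2) (M.simple s2), simple_sq, mul_one]
        _ = M.simple s3 * M.simple s2 := by rw [h6]
    exact h5 ▸ K.mul_mem (K.inv_mem hb) (K.mul_mem (K.mul_mem h3 hb) h3)
  have h2 : M.simple s2 ∈ K := by
    have h7 : (M.simple s3)⁻¹ * (M.simple s3 * M.simple s2) = M.simple s2 := inv_mul_cancel_left _ _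
    exact h7 ▸ K.mul_mem (K.inv_mem h3) h32
  refine ⟨?_, h1, h2⟩
  have h8 : b * (M.simple s2)⁻¹ = M.simple s0 := mul_inv_cancel_right _ _
  exact h8 ▸ K.mul_mem hb (K.inv_mem h2)

theorem d4_ne : Cfsg.Lie.coxeterD4.simple 0 ≠ Cfsg.Lie.coxeterD4.simple 2 := by
  intro h
  let f : Fin 4 → Equiv.Perm (Fin 4) := ![Equiv.swap 0 1, Equiv.swap 1 2, Equiv.swap 2 3, Equiv.swap 0 1]
  have hf : Cfsg.Lie.coxeterD4.IsLiftable f := by
    unfold CoxeterMatrix.IsLiftable
    decide
  have h1 := congrArg (Cfsg.Lie.coxeterD4.toCoxeterSystem.lift ⟨f, hf⟩) h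
  rw [← Cfsg.Lie.coxeterD4.toCoxeterSystem_simple, CoxeterSystem.lift_apply_simple,
    CoxeterSystem.lift_apply_simple] at h1
  exact absurd h1 (by decide)

theorem f4_ne : CoxeterMatrix.F₄.simple 0 ≠ CoxeterMatrix.F₄.simple 2 := by
  intro h
  let f : Fin 4 → ℤˣ := ![-1, -1, 1, 1]
  have hf : CoxeterMatrix.F₄.IsLiftable f := by
    unfold CoxeterMatrix.IsLiftable
    decide
  have h1 := congrArg (CoxeterMatrix.F₄.toCoxeterSystem.lift ⟨f, hf⟩) h
  rw [← CoxeterMatrix.F₄.toCoxeterSystem_simple, CoxeterSystem.lift_apply_simple,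
    CoxeterSystem.lift_apply_simple] at h1
  exact absurd h1 (by decide)

end Lemmas


/-- The Coxeter groups of types B₂, G₂, E₆, E₇, E₈ are generated by the Coxeter element `s₁ s₂ ⋯ s_l` together with one suitable reflection (a conjugate of a simple reflection); for types D₄ and F₄ the Coxeter element together with two suitable reflections suffices. -/
theorem result (c : (Σ n : ℕ, CoxeterMatrix (Fin n)) × ℕ)
    (hc : c ∈ [(⟨2, CoxeterMatrix.B 2⟩, 1), (⟨2, CoxeterMatrix.G₂⟩, 1), (⟨4, Cfsg.Lie.coxeterD4⟩, 2), (⟨4, CoxeterMatrix.F₄⟩, 2),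
      (⟨6, CoxeterMatrix.E₆⟩, 1), (⟨7, CoxeterMatrix.E₇⟩, 1), (⟨8, CoxeterMatrix.E₈⟩, 1)]) :
    ∃ T : Finset c.1.2.Group, T.card = c.2 ∧ (∀ t ∈ T, ∃ (g : c.1.2.Group) (i : Fin c.1.1), t = g * c.1.2.simple i * g⁻¹) ∧
      Subgroup.closure (({((List.finRange c.1.1).map c.1.2.simple).prod} : Set c.1.2.Group) ∪ ↑T) = ⊤ := by
  classical
  simp only [List.mem_cons, List.not_mem_nil, or_false] at hc
  have two : ∀ (M : CoxeterMatrix (Fin 2)),
      ∃ T : Finset M.Group, T.card = 1 ∧ (∀ t ∈ T, ∃ (g : M.Group) (i : Fin 2), t = g * M.simple i * g⁻¹) ∧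
        Subgroup.closure (({((List.finRange 2).map M.simple).prod} : Set M.Group) ∪ ↑T) = ⊤ := by
    intro M
    refine ⟨{M.simple 0}, Finset.card_singleton _, fun t ht => ⟨1, 0, by simp [Finset.mem_singleton.mp ht]⟩,
      closure_eq_top M _ ?_⟩
    have h0 : M.simple 0 ∈ Subgroup.closure (({((List.finRange 2).map M.simple).prod} : Set M.Group) ∪
        ↑({M.simple 0} : Finset M.Group)) := Subgroup.subset_closure (Or.inr (by simp))
    intro i
    fin_cases i
    · exact h0
    · have hc := Subgroup.mul_mem _ (Subgroup.inv_mem _ h0)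
        (Subgroup.subset_closure (Set.mem_union_left _ (Set.mem_singleton ((List.finRange 2).map M.simple).prod)))
      simpa [List.finRange_succ, simple_inv, ← mul_assoc, simple_sq] using hc
  have four : ∀ (M : CoxeterMatrix (Fin 4)), M 0 2 = 2 → M 0 3 = 2 → M 0 1 = 3 → M.simple 0 ≠ M.simple 2 →
      ∃ T : Finset M.Group, T.card = 2 ∧ (∀ t ∈ T, ∃ (g : M.Group) (i : Fin 4), t = g * M.simple i * g⁻¹) ∧
        Subgroup.closure (({((List.finRange 4).map M.simple).prod} : Set M.Group) ∪ ↑T) = ⊤ := by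
    intro M h02 h03 h01 hne
    refine ⟨{M.simple 0, M.simple 2}, Finset.card_pair hne, fun t ht => ?_, closure_eq_top M _ ?_⟩
    · rcases Finset.mem_insert.mp ht with rfl | h
      · exact ⟨1, 0, by simp⟩
      · exact ⟨1, 2, by simp [Finset.mem_singleton.mp h]⟩
    set K := Subgroup.closure (({((List.finRange 4).map M.simple).prod} : Set M.Group) ∪
      ↑({M.simple 0, M.simple 2} : Finset M.Group))
    have hc : ((List.finRange 4).map M.simple).prod ∈ K := Subgroup.subset_closure (Or.inl rfl)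
    have h0 : M.simple 0 ∈ K := Subgroup.subset_closure (Or.inr (by simp))
    have h2 : M.simple 2 ∈ K := Subgroup.subset_closure (Or.inr (by simp))
    have h1 : M.simple 1 ∈ K := by
      rw [← coxeter_conj M [] [2, 3] 0 1 (by decide) (by simp) (by simp [h02, h03]) h01]
      exact K.mul_mem (K.mul_mem hc h0) (K.inv_mem hc)
    have h3 : M.simple 3 ∈ K := by
      have := K.mul_mem (K.inv_mem (K.mul_mem (K.mul_mem h0 h1) h2)) hc
      have e : ((List.finRange 4).map M.simple).prod = M.simple 0 * M.simple 1 * M.simple 2 * M.simple 3 := by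
        simp [List.finRange_succ, mul_assoc]
      rwa [e, inv_mul_cancel_left] at this
    intro i
    fin_cases i <;> assumption
  rcases hc with rfl | rfl | rfl | rfl | rfl | rfl | rfl
  · exact two _
  · exact two _
  · exact four _ (by decide) (by decide) (by decide) d4_ne
  · exact four _ (by decide) (by decide) (by decide) f4_ne
  · refine ⟨{(CoxeterMatrix.E₆).simple 3}, Finset.card_singleton _,
      fun t ht => ⟨1, 3, by simp [Finset.mem_singleton.mp ht]⟩, closure_eq_top _ _ ?_⟩
    set K := Subgroup.closure (({((List.finRange 6).map (CoxeterMatrix.E₆).simple).prod} : Set (CoxeterMatrix.E₆).Group) ∪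
      ↑({(CoxeterMatrix.E₆).simple 3} : Finset (CoxeterMatrix.E₆).Group)) with hK
    have hc : ((List.finRange 6).map (CoxeterMatrix.E₆).simple).prod ∈ K := Subgroup.subset_closure (Or.inl rfl)
    have h3 : (CoxeterMatrix.E₆).simple 3 ∈ K := Subgroup.subset_closure (Or.inr (by simp))
    have h4 : (CoxeterMatrix.E₆).simple 4 ∈ K := by
      rw [← coxeter_conj (CoxeterMatrix.E₆) [0, 1, 2] [5] 3 4 (by decide) (by decide) (by decide) (by decide)]
      exact K.mul_mem (K.mul_mem hc h3) (K.inv_mem hc)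
    have h5 : (CoxeterMatrix.E₆).simple 5 ∈ K := by
      rw [← coxeter_conj (CoxeterMatrix.E₆) [0, 1, 2, 3] [] 4 5 (by decide) (by decide) (by decide) (by decide)]
      exact K.mul_mem (K.mul_mem hc h4) (K.inv_mem hc)
    have ha : (CoxeterMatrix.E₆).simple 0 * (CoxeterMatrix.E₆).simple 1 * (CoxeterMatrix.E₆).simple 2 ∈ K := by
      have h := K.mul_mem hc (K.inv_mem (K.mul_mem (K.mul_mem h3 h4) h5))
      have e : ((List.finRange 6).map (CoxeterMatrix.E₆).simple).prod * ((CoxeterMatrix.E₆).simple 3 * (CoxeterMatrix.E₆).simple 4 * (CoxeterMatrix.E₆).simple 5)⁻¹ =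
          (CoxeterMatrix.E₆).simple 0 * (CoxeterMatrix.E₆).simple 1 * (CoxeterMatrix.E₆).simple 2 := by
        rw [mul_inv_eq_iff_eq_mul]
        simp [List.finRange_succ, mul_assoc]
      exact e ▸ h
    obtain ⟨h0, h1, h2⟩ := typeE_start (CoxeterMatrix.E₆) 0 1 2 3 (by decide) (by decide) (by decide) (by decide) (by decide) K ha h3
    intro i
    fin_cases i <;> assumption
  · refine ⟨{(CoxeterMatrix.E₇).simple 3}, Finset.card_singleton _,
      fun t ht => ⟨1, 3, by simp [Finset.mem_singleton.mp ht]⟩, closure_eq_top _ _ ?_⟩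
    set K := Subgroup.closure (({((List.finRange 7).map (CoxeterMatrix.E₇).simple).prod} : Set (CoxeterMatrix.E₇).Group) ∪
      ↑({(CoxeterMatrix.E₇).simple 3} : Finset (CoxeterMatrix.E₇).Group)) with hK
    have hc : ((List.finRange 7).map (CoxeterMatrix.E₇).simple).prod ∈ K := Subgroup.subset_closure (Or.inl rfl)
    have h3 : (CoxeterMatrix.E₇).simple 3 ∈ K := Subgroup.subset_closure (Or.inr (by simp))
    have h4 : (CoxeterMatrix.E₇).simple 4 ∈ K := by
      rw [← coxeter_conj (CoxeterMatrix.E₇) [0, 1, 2] [5, 6] 3 4 (by decide) (by decide) (by decide) (by decide)]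
      exact K.mul_mem (K.mul_mem hc h3) (K.inv_mem hc)
    have h5 : (CoxeterMatrix.E₇).simple 5 ∈ K := by
      rw [← coxeter_conj (CoxeterMatrix.E₇) [0, 1, 2, 3] [6] 4 5 (by decide) (by decide) (by decide) (by decide)]
      exact K.mul_mem (K.mul_mem hc h4) (K.inv_mem hc)
    have h6 : (CoxeterMatrix.E₇).simple 6 ∈ K := by
      rw [← coxeter_conj (CoxeterMatrix.E₇) [0, 1, 2, 3, 4] [] 5 6 (by decide) (by decide) (by decide) (by decide)]
      exact K.mul_mem (K.mul_mem hc h5) (K.inv_mem hc)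
    have ha : (CoxeterMatrix.E₇).simple 0 * (CoxeterMatrix.E₇).simple 1 * (CoxeterMatrix.E₇).simple 2 ∈ K := by
      have h := K.mul_mem hc (K.inv_mem (K.mul_mem (K.mul_mem (K.mul_mem h3 h4) h5) h6))
      have e : ((List.finRange 7).map (CoxeterMatrix.E₇).simple).prod * ((CoxeterMatrix.E₇).simple 3 * (CoxeterMatrix.E₇).simple 4 * (CoxeterMatrix.E₇).simple 5 * (CoxeterMatrix.E₇).simple 6)⁻¹ =
          (CoxeterMatrix.E₇).simple 0 * (CoxeterMatrix.E₇).simple 1 * (CoxeterMatrix.E₇).simple 2 := by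
        rw [mul_inv_eq_iff_eq_mul]
        simp [List.finRange_succ, mul_assoc]
      exact e ▸ h
    obtain ⟨h0, h1, h2⟩ := typeE_start (CoxeterMatrix.E₇) 0 1 2 3 (by decide) (by decide) (by decide) (by decide) (by decide) K ha h3
    intro i
    fin_cases i <;> assumption
  · refine ⟨{(CoxeterMatrix.E₈).simple 3}, Finset.card_singleton _,
      fun t ht => ⟨1, 3, by simp [Finset.mem_singleton.mp ht]⟩, closure_eq_top _ _ ?_⟩
    set K := Subgroup.closure (({((List.finRange 8).map (CoxeterMatrix.E₈).simple).prod} : Set (CoxeterMatrix.E₈).Group) ∪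
      ↑({(CoxeterMatrix.E₈).simple 3} : Finset (CoxeterMatrix.E₈).Group)) with hK
    have hc : ((List.finRange 8).map (CoxeterMatrix.E₈).simple).prod ∈ K := Subgroup.subset_closure (Or.inl rfl)
    have h3 : (CoxeterMatrix.E₈).simple 3 ∈ K := Subgroup.subset_closure (Or.inr (by simp))
    have h4 : (CoxeterMatrix.E₈).simple 4 ∈ K := by
      rw [← coxeter_conj (CoxeterMatrix.E₈) [0, 1, 2] [5, 6, 7] 3 4 (by decide) (by decide) (by decide) (by decide)]
      exact K.mul_mem (K.mul_mem hc h3) (K.inv_mem hc)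
    have h5 : (CoxeterMatrix.E₈).simple 5 ∈ K := by
      rw [← coxeter_conj (CoxeterMatrix.E₈) [0, 1, 2, 3] [6, 7] 4 5 (by decide) (by decide) (by decide) (by decide)]
      exact K.mul_mem (K.mul_mem hc h4) (K.inv_mem hc)
    have h6 : (CoxeterMatrix.E₈).simple 6 ∈ K := by
      rw [← coxeter_conj (CoxeterMatrix.E₈) [0, 1, 2, 3, 4] [7] 5 6 (by decide) (by decide) (by decide) (by decide)]
      exact K.mul_mem (K.mul_mem hc h5) (K.inv_mem hc)
    have h7 : (CoxeterMatrix.E₈).simple 7 ∈ K := by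
      rw [← coxeter_conj (CoxeterMatrix.E₈) [0, 1, 2, 3, 4, 5] [] 6 7 (by decide) (by decide) (by decide) (by decide)]
      exact K.mul_mem (K.mul_mem hc h6) (K.inv_mem hc)
    have ha : (CoxeterMatrix.E₈).simple 0 * (CoxeterMatrix.E₈).simple 1 * (CoxeterMatrix.E₈).simple 2 ∈ K := by
      have h := K.mul_mem hc (K.inv_mem (K.mul_mem (K.mul_mem (K.mul_mem (K.mul_mem h3 h4) h5) h6) h7))
      have e : ((List.finRange 8).map (CoxeterMatrix.E₈).simple).prod * ((CoxeterMatrix.E₈).simple 3 * (CoxeterMatrix.E₈).simple 4 * (CoxeterMatrix.E₈).simple 5 * (CoxeterMatrix.E₈).simple 6 * (CoxeterMatrix.E₈).simple 7)⁻¹ =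
          (CoxeterMatrix.E₈).simple 0 * (CoxeterMatrix.E₈).simple 1 * (CoxeterMatrix.E₈).simple 2 := by
        rw [mul_inv_eq_iff_eq_mul]
        simp [List.finRange_succ, mul_assoc]
      exact e ▸ h
    obtain ⟨h0, h1, h2⟩ := typeE_start (CoxeterMatrix.E₈) 0 1 2 3 (by decide) (by decide) (by decide) (by decide) (by decide) K ha h3
    intro i
    fin_cases i <;> assumption

end Cfsg.Agent.S2419
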