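import Cfsg.Statements.S2422
import Cfsg.Agent.GLFlags.Unipotent

set_option autoImplicit false
open scoped MatrixGroups
open Cfsg

namespace Cfsg.Agent.S2422

/-- The irreducible characters of `GL_n(q)` attached to different partitions of `n` (each written with `n` non-decreasing parts, zeros allowed) by the alternating sum of flag permutation characters are different. -/
theorem result {F : Type*} [Field F] [Fintype F] {n : ℕ} (ν ν' : Fin n → ℕ) (hmono : Monotone ν) (hsum : ∑ i, ν i = n)
    (hmono' : Monotone ν') (hsum' : ∑ i, ν' i = n) (h : Cfsg.unipotentCharacterGL n F ν = Cfsg.unipotentCharacterGL n F ν') : ν = ν' := by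
  classical
  haveI := Fintype.ofFinite ↥(GLFlags.unitriangularGL n F)
  obtain ⟨ψ, hψ⟩ := AddChar.exists_apply_ne_zero.mpr (one_ne_zero : (1 : F) ≠ 0)
  wlog hw : GLFlags.weight ν ≤ GLFlags.weight ν' generalizing ν ν'
  · exact (this ν' ν hmono' hsum' hmono hsum h.symm (le_of_lt (not_le.mp hw))).symm
  have h1 := GLFlags.sum_generic_unipotent hsum hsum hmono hmono le_rfl hψ
  have h2 := GLFlags.sum_generic_unipotent hsum hsum' hmono hmono' hw hψ
  rw [if_pos rfl, h] at h1
  by_contra hne
  rw [if_neg (Ne.symm hne), h1] at h2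
  obtain ⟨k, hk, hk'⟩ := GLFlags.sum_generic_pos hmono hsum ψ
  rw [hk', Nat.cast_eq_zero] at h2
  exact hk h2

end Cfsg.Agent.S2422
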