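import Cfsg.Statements.S2426
import Mathlib
import Cfsg.Agent.SteinSL2.Rel
import Cfsg.Agent.RootSub.Dickson.Common

set_option autoImplicit false
open Cfsg

namespace Cfsg.Agent.S2426

/-- The rank-one Steinberg presentation of `SL₂` over a finite field `K`: generators `x(t)`, `y(t)` (`t ∈ K`; the two opposite root subgroups) subject to additivity `x(t)x(u) = x(t+u)`, `y(t)y(u) = y(t+u)` and, with `w(t) = x(t) y(−t⁻¹) x(t)` and `w'(t) = y(t) x(−t⁻¹) y(t)` for `t ≠ 0`, the relations `w(t) x(u) w(t)⁻¹ = y(−t⁻² u)` and `w'(t) y(u) w'(t)⁻¹ = x(−t⁻² u)`, present `SL₂(K)`, with `x(t) ↦ (1 t; 0 1)` and `y(t) ↦ (1 0; t 1)`. -/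
theorem result {K : Type*} [Field K] [Finite K] :
    ∃ e : PresentedGroup
        ({g : FreeGroup (Bool × K) | ∃ (b : Bool) (t u : K), g = FreeGroup.of (b, t) * FreeGroup.of (b, u) * (FreeGroup.of (b, t + u))⁻¹} ∪
          {g | ∃ (b : Bool) (t u : K), t ≠ 0 ∧
            g = (FreeGroup.of (b, t) * FreeGroup.of (!b, -t⁻¹) * FreeGroup.of (b, t)) * FreeGroup.of (b, u) *
                  (FreeGroup.of (b, t) * FreeGroup.of (!b, -t⁻¹) * FreeGroup.of (b, t))⁻¹ * (FreeGroup.of (!b, -(t⁻¹ ^ 2 * u)))⁻¹})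
        ≃* Matrix.SpecialLinearGroup (Fin 2) K,
      (∀ t : K, ((e (PresentedGroup.of (true, t)) : Matrix (Fin 2) (Fin 2) K)) = !![1, t; 0, 1]) ∧
      (∀ t : K, ((e (PresentedGroup.of (false, t)) : Matrix (Fin 2) (Fin 2) K)) = !![1, 0; t, 1]) := by
  classical
  set rels : Set (FreeGroup (Bool × K)) := ({g : FreeGroup (Bool × K) | ∃ (b : Bool) (t u : K), g = FreeGroup.of (b, t) * FreeGroup.of (b, u) * (FreeGroup.of (b, t + u))⁻¹} ∪
          {g | ∃ (b : Bool) (t u : K), t ≠ 0 ∧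
            g = (FreeGroup.of (b, t) * FreeGroup.of (!b, -t⁻¹) * FreeGroup.of (b, t)) * FreeGroup.of (b, u) *
                  (FreeGroup.of (b, t) * FreeGroup.of (!b, -t⁻¹) * FreeGroup.of (b, t))⁻¹ * (FreeGroup.of (!b, -(t⁻¹ ^ 2 * u)))⁻¹}) with hrels
  let P := PresentedGroup rels
  let R : Cfsg.Agent.SteinSL2.Rel K P :=
    { x := fun t => PresentedGroup.of (true, t)
      y := fun t => PresentedGroup.of (false, t)
      x_add := fun t u => by
        have h := PresentedGroup.one_of_mem (rels := rels) (Or.inl ⟨true, t, u, rfl⟩)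
        rw [map_mul, map_mul, map_inv, mul_inv_eq_one] at h
        exact h
      y_add := fun t u => by
        have h := PresentedGroup.one_of_mem (rels := rels) (Or.inl ⟨false, t, u, rfl⟩)
        rw [map_mul, map_mul, map_inv, mul_inv_eq_one] at h
        exact h
      wx := fun t u ht => by
        have h := PresentedGroup.one_of_mem (rels := rels) (Or.inr ⟨true, t, u, ht, rfl⟩)
        simp only [map_mul, map_inv, mul_inv_eq_one] at h
        exact h }
  have hgen : Subgroup.closure (Set.range R.x ∪ Set.range R.y) = ⊤ := by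
    rw [eq_top_iff, ← PresentedGroup.closure_range_of rels]
    refine Subgroup.closure_mono ?_
    rintro _ ⟨⟨b, t⟩, rfl⟩
    cases b
    · exact Or.inr ⟨t, rfl⟩
    · exact Or.inl ⟨t, rfl⟩
  let f : Bool × K → Matrix.SpecialLinearGroup (Fin 2) K := fun a =>
    if a.1 then Cfsg.Agent.RootSub.Dickson.upR a.2 else Cfsg.Agent.RootSub.Dickson.lowR a.2
  have hrel : ∀ r ∈ rels, FreeGroup.lift f r = 1 := by
    rintro r (⟨b, t, u, rfl⟩ | ⟨b, t, u, ht, rfl⟩)
    · rw [map_mul, map_mul, map_inv, mul_inv_eq_one]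
      apply Subtype.ext
      cases b <;> ext i j <;> fin_cases i <;> fin_cases j <;>
        simp [f, Cfsg.Agent.RootSub.Dickson.coe_upR, Cfsg.Agent.RootSub.Dickson.coe_lowR, FreeGroup.lift_apply_of, Matrix.SpecialLinearGroup.coe_mul, add_comm]
    · rw [map_mul, map_mul, map_inv, map_inv, mul_inv_eq_one, mul_inv_eq_iff_eq_mul]
      apply Subtype.ext
      cases b <;> ext i j <;> fin_cases i <;> fin_cases j <;>
        simp [f, Cfsg.Agent.RootSub.Dickson.coe_upR, Cfsg.Agent.RootSub.Dickson.coe_lowR, FreeGroup.lift_apply_of, Matrix.SpecialLinearGroup.coe_mul, ht] <;>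
        field_simp <;> try ring
  let φ : P →* Matrix.SpecialLinearGroup (Fin 2) K := PresentedGroup.toGroup hrel
  have hx : ∀ t, (φ (R.x t) : Matrix (Fin 2) (Fin 2) K) = !![1, t; 0, 1] := fun t => by
    show ((PresentedGroup.toGroup hrel (PresentedGroup.of (true, t)) : Matrix.SpecialLinearGroup (Fin 2) K) : Matrix (Fin 2) (Fin 2) K) = _
    rw [PresentedGroup.toGroup.of]
    simp [f, Cfsg.Agent.RootSub.Dickson.coe_upR, Cfsg.Agent.RootSub.Dickson.coe_lowR]
  have hy : ∀ t, (φ (R.y t) : Matrix (Fin 2) (Fin 2) K) = !![1, 0; t, 1] := fun t => by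
    show ((PresentedGroup.toGroup hrel (PresentedGroup.of (false, t)) : Matrix.SpecialLinearGroup (Fin 2) K) : Matrix (Fin 2) (Fin 2) K) = _
    rw [PresentedGroup.toGroup.of]
    simp [f, Cfsg.Agent.RootSub.Dickson.coe_upR, Cfsg.Agent.RootSub.Dickson.coe_lowR]
  have hw : ∀ t : K, t ≠ 0 → (φ (R.w t) : Matrix (Fin 2) (Fin 2) K) = !![0, t; -t⁻¹, 0] := fun t ht => by
    simp only [Cfsg.Agent.SteinSL2.Rel.w, map_mul, Matrix.SpecialLinearGroup.coe_mul, hx, hy]
    ext i j
    fin_cases i <;> fin_cases j <;> simp [ht]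
  have hh : ∀ t : K, t ≠ 0 → (φ (R.h t) : Matrix (Fin 2) (Fin 2) K) = !![t, 0; 0, t⁻¹] := fun t ht => by
    simp only [Cfsg.Agent.SteinSL2.Rel.h, map_mul, Matrix.SpecialLinearGroup.coe_mul, hw t ht, hw (-1) (by simp)]
    ext i j
    fin_cases i <;> fin_cases j <;> simp
  have hinj : Function.Injective φ := by
    rw [injective_iff_map_eq_one]
    intro g hg
    have hg' := congrArg Subtype.val hg
    rcases R.bruhat hgen g with ⟨t, u, ht, rfl⟩ | ⟨s, t, u, ht, rfl⟩
    · rw [map_mul, Matrix.SpecialLinearGroup.coe_mul, hh t ht, hx] at hg'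
      have h00 := congrFun (congrFun hg' 0) 0
      have h01 := congrFun (congrFun hg' 0) 1
      simp at h00 h01
      subst h00
      obtain rfl : u = 0 := by simpa using h01
      rw [R.h_one, R.x_zero, one_mul]
    · rw [map_mul, map_mul, Matrix.SpecialLinearGroup.coe_mul, Matrix.SpecialLinearGroup.coe_mul, hw t ht, hx, hx] at hg'
      have h10 := congrFun (congrFun hg' 1) 0
      simp at h10
      exact absurd h10 ht
  have hsurj : Function.Surjective φ := by
    rw [← MonoidHom.range_eq_top]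
    refine Cfsg.Agent.RootSub.Dickson.eq_top_of_trans (fun r => ⟨R.x r, ?_⟩) (fun r => ⟨R.y r, ?_⟩)
    · exact Subtype.ext ((hx r).trans (Cfsg.Agent.RootSub.Dickson.coe_upR r).symm)
    · exact Subtype.ext ((hy r).trans (Cfsg.Agent.RootSub.Dickson.coe_lowR r).symm)
  exact ⟨MulEquiv.ofBijective φ ⟨hinj, hsurj⟩, hx, hy⟩

end Cfsg.Agent.S2426
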