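import Cfsg.Statements.S2427
-- import your own Cfsg.Agent.* helpers here

import Cfsg.Agent.SL2Class.Classes

set_option autoImplicit false
open Cfsg

namespace Cfsg.Agent.S2427

open Matrix SL2Class

local notation "G3" => Matrix.SpecialLinearGroup (Fin 2) (ZMod 3)

local instance : Fact (Nat.Prime 3) := ⟨Nat.prime_three⟩

/-- The element `!![0, -1; 1, 0]`. -/
def Jm : G3 := ⟨!![0, -1; 1, 0], by decide⟩

/-- The element `!![1, 1; 1, -1]`. -/
def Km : G3 := ⟨!![1, 1; 1, -1], by decide⟩

/-- The quaternion subgroup. -/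
def psiFun : QuaternionGroup 2 → G3
  | .a i => Jm ^ i.val
  | .xa i => Km * Jm ^ i.val

set_option maxRecDepth 100000 in
theorem psi_mul : ∀ x y, psiFun (x * y) = psiFun x * psiFun y := by decide

/-- The quaternion subgroup, as a homomorphism. -/
def psi : QuaternionGroup 2 →* G3 := MonoidHom.mk' psiFun psi_mul

set_option maxRecDepth 100000 in
theorem psi_inj : ∀ x y, psiFun x = psiFun y → x = y := by decide

set_option maxRecDepth 100000 in
theorem psi_props : ∀ x, tr (psiFun x) = 0 ∨ psiFun x = 1 ∨ psiFun x = -1 := by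
  intro x; rcases x with i | i <;> fin_cases i <;> decide

set_option maxRecDepth 100000 in
theorem psi_onto : ∀ m : Fin 2 → Fin 2 → ZMod 3, m 0 0 * m 1 1 - m 0 1 * m 1 0 = 1 → (m 0 0 + m 1 1 = 0) →
    ∃ x, ((psiFun x : G3) : Matrix (Fin 2) (Fin 2) (ZMod 3)) = Matrix.of m := by decide

theorem mem_Q {g : G3} : g ∈ psi.range ↔ tr g = 0 ∨ g = 1 ∨ g = -1 := by
  constructor
  · rintro ⟨x, rfl⟩; exact psi_props x
  · rintro (h | rfl | rfl)
    · obtain ⟨x, hx⟩ := psi_onto (fun i j => (g : Matrix (Fin 2) (Fin 2) (ZMod 3)) i j) (det_eq g) h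
      exact ⟨x, Subtype.ext hx⟩
    · exact one_mem _
    · exact ⟨.a 2, by decide⟩


/-- The group SL₂ over the field with 3 elements has order 24 and centre of order 2; its commutator subgroup has order 8, is isomorphic to the quaternion group of order 8 and is complemented by every Sylow 3-subgroup (so the group is a semidirect product of a quaternion group of order 8 by a cyclic group of order 3); and its only normal subgroups besides the trivial subgroup and the whole group are the centre and the commutator subgroup. -/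
theorem result :
    Nat.card (Matrix.SpecialLinearGroup (Fin 2) (ZMod 3)) = 24 ∧
    Nat.card (Subgroup.center (Matrix.SpecialLinearGroup (Fin 2) (ZMod 3))) = 2 ∧
    Nat.card (commutator (Matrix.SpecialLinearGroup (Fin 2) (ZMod 3))) = 8 ∧
    Nonempty (commutator (Matrix.SpecialLinearGroup (Fin 2) (ZMod 3)) ≃* QuaternionGroup 2) ∧
    (∀ P : Sylow 3 (Matrix.SpecialLinearGroup (Fin 2) (ZMod 3)),
      Subgroup.IsComplement' (commutator (Matrix.SpecialLinearGroup (Fin 2) (ZMod 3)))
        (P : Subgroup (Matrix.SpecialLinearGroup (Fin 2) (ZMod 3)))) ∧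
    ∀ N : Subgroup (Matrix.SpecialLinearGroup (Fin 2) (ZMod 3)), N.Normal →
      N = ⊥ ∨ N = ⊤ ∨ N = Subgroup.center (Matrix.SpecialLinearGroup (Fin 2) (ZMod 3)) ∨
        N = commutator (Matrix.SpecialLinearGroup (Fin 2) (ZMod 3)) := by
  classical
  haveI : Fact (Nat.Prime 2) := ⟨Nat.prime_two⟩
  have h2 : (2 : ZMod 3) ≠ 0 := by decide
  have hcard : Nat.card G3 = 24 := by rw [card_sl, ZMod.card]; rfl
  set Q := psi.range with hQ
  have hQcard : Nat.card Q = 8 := by
    rw [← Nat.card_congr (MonoidHom.ofInjective (show Function.Injective psi from fun x y => psi_inj x y)).toEquiv,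
      Nat.card_eq_fintype_card]
    rfl
  haveI hQn : Q.Normal := ⟨fun n hn g => by
    rw [hQ, mem_Q] at hn ⊢
    rcases hn with h | rfl | rfl
    · exact Or.inl (by rw [tr_conj, h])
    · exact Or.inr (Or.inl (by group))
    · exact Or.inr (Or.inr (by rw [Subgroup.mem_center_iff.1 neg_one_mem_center g, mul_inv_cancel_right]))⟩
  have hidx : Q.index = 3 := by
    have := Subgroup.card_mul_index Q
    rw [hQcard, hcard] at this
    omega
  have hcom : commutator G3 = Q := by
    refine le_antisymm ?_ ?_
    · rw [← Subgroup.Normal.quotient_commutative_iff_commutator_le]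
      haveI : IsCyclic (G3 ⧸ Q) := isCyclic_of_prime_card (p := 3) ((Subgroup.index_eq_card Q).symm.trans hidx)
      exact IsCyclic.commutative
    · rintro _ ⟨x, rfl⟩
      have hJ : Jm ∈ commutator G3 := by
        let A : G3 := ⟨!![0, 1; 2, 1], by decide⟩
        let B : G3 := ⟨!![0, 1; 2, 2], by decide⟩
        have e : Jm = A * B * A⁻¹ * B⁻¹ := by decide
        rw [← commutatorElement_def] at e
        rw [e]; exact Subgroup.commutator_mem_commutator (Subgroup.mem_top _) (Subgroup.mem_top _)
      have hK : Km ∈ commutator G3 := by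
        let A : G3 := ⟨!![0, 1; 2, 0], by decide⟩
        let B : G3 := ⟨!![1, 1; 2, 0], by decide⟩
        have e : Km = A * B * A⁻¹ * B⁻¹ := by decide
        rw [← commutatorElement_def] at e
        rw [e]; exact Subgroup.commutator_mem_commutator (Subgroup.mem_top _) (Subgroup.mem_top _)
      rcases x with i | i
      · exact pow_mem hJ _
      · exact mul_mem hK (pow_mem hJ _)
  have hP3 : ∀ P : Sylow 3 G3, Nat.card (P : Subgroup G3) = 3 := fun P => by
    obtain ⟨k, hk⟩ := IsPGroup.iff_card.1 P.isPGroup'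
    have h1 : Nat.card (P : Subgroup G3) ∣ 24 := hcard ▸ Subgroup.card_subgroup_dvd_card _
    have h2 : ¬ 3 ∣ (P : Subgroup G3).index := P.not_dvd_index
    have h3 := Subgroup.card_mul_index (P : Subgroup G3)
    rw [hcard, hk] at h3
    rcases k with _ | _ | k
    · rw [pow_zero, one_mul] at h3; rw [h3] at h2; omega
    · rw [hk]; rfl
    · exfalso
      have h9 : 9 ∣ 24 := ⟨3 ^ k * (P : Subgroup G3).index, by rw [← h3]; ring⟩
      omega
  refine ⟨hcard, center_card h2, by rw [hcom, hQcard], ⟨(MulEquiv.subgroupCongr hcom).trans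
    (MonoidHom.ofInjective (show Function.Injective psi from fun x y => psi_inj x y)).symm⟩, fun P => ?_, fun N hN => ?_⟩
  · rw [hcom]
    exact Subgroup.isComplement'_of_coprime (by rw [hQcard, hP3 P, hcard]) (by rw [hQcard, hP3 P]; decide)
  · by_cases h3 : 3 ∣ Nat.card N
    · refine Or.inr (Or.inl ?_)
      obtain ⟨⟨z, hz⟩, hzo⟩ := exists_prime_orderOf_dvd_card' 3 h3
      rw [Subgroup.orderOf_mk] at hzo
      obtain ⟨P, hP⟩ := (IsPGroup.of_card (p := 3) (n := 1) (G := Subgroup.zpowers z) (by rw [Nat.card_zpowers, hzo, pow_one])).exists_le_sylow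
      have hPN : (P : Subgroup G3) ≤ N := by
        rw [← Subgroup.eq_of_le_of_card_ge hP (by rw [hP3 P, Nat.card_zpowers, hzo])]
        exact Subgroup.zpowers_le.2 hz
      let T : G3 := ⟨!![1, 1; 0, 1], by decide⟩
      have hTo : orderOf T = 3 := orderOf_eq_prime (by decide) (fun e => absurd (congrArg (fun A : G3 => (A : Matrix (Fin 2) (Fin 2) (ZMod 3)) 0 1) e) (by decide))
      obtain ⟨P', hP'⟩ := (IsPGroup.of_card (p := 3) (n := 1) (G := Subgroup.zpowers T) (by rw [Nat.card_zpowers, hTo, pow_one])).exists_le_sylow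
      obtain ⟨a, ha⟩ := MulAction.exists_smul_eq G3 P P'
      have hTN : T ∈ N := by
        have h : T ∈ (P' : Subgroup G3) := hP' (Subgroup.mem_zpowers _)
        rw [← ha] at h
        obtain ⟨u, hu, hu'⟩ := h
        rw [← hu']
        exact hN.conj_mem u (hPN hu) a
      have hT' : Jm * T⁻¹ * Jm⁻¹ ∈ N := hN.conj_mem _ (inv_mem hTN) Jm
      have hJN : Jm ∈ N := by
        have e : Jm = (Jm * T⁻¹ * Jm⁻¹) * T⁻¹ * (Jm * T⁻¹ * Jm⁻¹) := by decide
        rw [e]; exact mul_mem (mul_mem hT' (inv_mem hTN)) hT'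
      have hKN : Km ∈ N := by
        obtain ⟨g, hg⟩ := isConj_iff.1 (isConj_of_tr (F := ZMod 3) (g := Jm) (h := Km)
          (nonScalar_of_sq_ne (by decide)) (nonScalar_of_sq_ne (by decide)) (by decide) (Or.inl (by decide)))
        rw [← hg]; exact hN.conj_mem _ hJN g
      have hQN : Q ≤ N := by
        rintro _ ⟨x, rfl⟩
        rcases x with i | i
        · exact pow_mem hJN _
        · exact mul_mem hKN (pow_mem hJN _)
      refine Subgroup.eq_top_of_card_eq N (Nat.dvd_antisymm (Subgroup.card_subgroup_dvd_card N) ?_)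
      rw [hcard]
      exact Nat.Coprime.mul_dvd_of_dvd_of_dvd (m := 3) (n := 8) (by decide) h3
        (hQcard ▸ Subgroup.card_dvd_of_le hQN)
    · have hNQ : N ≤ Q := by
        intro y hy
        have h1 : orderOf (QuotientGroup.mk' Q y) ∣ 3 := by
          have := orderOf_dvd_natCard (QuotientGroup.mk' Q y)
          rwa [← Subgroup.index_eq_card, hidx] at this
        have h2 : orderOf (QuotientGroup.mk' Q y) ∣ Nat.card N :=
          (orderOf_map_dvd _ y).trans ((Subgroup.orderOf_mk y hy) ▸ orderOf_dvd_natCard (⟨y, hy⟩ : N))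
        rcases (Nat.dvd_prime Nat.prime_three).1 h1 with h | h
        · exact (QuotientGroup.eq_one_iff y).1 (orderOf_eq_one_iff.1 h)
        · exact absurd ((dvd_of_eq h.symm).trans h2) h3
      by_cases hc : N ≤ Subgroup.center G3
      · have h2c := center_card (F := ZMod 3) h2
        rcases (Nat.dvd_prime Nat.prime_two).1 (h2c ▸ Subgroup.card_dvd_of_le hc) with h | h
        · exact Or.inl (Subgroup.card_eq_one.1 h)
        · exact Or.inr (Or.inr (Or.inl (Subgroup.eq_of_le_of_card_ge hc (by rw [h, h2c]))))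
      · refine Or.inr (Or.inr (Or.inr ?_))
        rw [hcom]
        obtain ⟨y, hy, hyc⟩ := SetLike.not_le_iff_exists.1 hc
        have hyt : tr y = 0 := (mem_Q.1 (hNQ hy)).resolve_right fun h => hyc (mem_center_cases.2 h)
        have hne : (0 : ZMod 3) * 0 ≠ 4 := by decide
        have key : ∀ z : G3, tr z = 0 → z ∈ N := fun z hz => by
          obtain ⟨g, hg⟩ := isConj_iff.1 (isConj_of_tr (g := y) (h := z) (nonScalar_of_sq_ne (by rw [hyt]; exact hne))
            (nonScalar_of_sq_ne (by rw [hz]; exact hne)) (hyt.trans hz.symm) (Or.inl (by rw [hyt]; exact hne)))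
          rw [← hg]; exact hN.conj_mem _ hy g
        refine le_antisymm hNQ ?_
        rintro _ ⟨x, rfl⟩
        have hJN : Jm ∈ N := key _ (by decide)
        have hKN : Km ∈ N := key _ (by decide)
        rcases x with i | i
        · exact pow_mem hJN _
        · exact mul_mem hKN (pow_mem hJN _)

end Cfsg.Agent.S2427
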