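import Cfsg.Statements.S2428
-- import your own Cfsg.Agent.* helpers here

import Cfsg.Agent.SL2Class.Torus

set_option autoImplicit false
open Cfsg

namespace Cfsg.Agent.S2428

open Matrix SL2Class


/-- Let F be a finite field with q elements, q odd, and let d be a diagonal element of SL₂ over F whose diagonal entry a has a² ≠ 1 (such d exist exactly when q > 3). Then the centraliser of d is precisely the diagonal subgroup T; the normaliser of T has order 2(q − 1) and exactly (q + 5)/2 conjugacy classes; and every element of that normaliser outside T has square equal to −1. -/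
theorem result {F : Type*} [Field F] [Fintype F] (hodd : Odd (Fintype.card F))
    (d : Matrix.SpecialLinearGroup (Fin 2) F) (hd01 : (d : Matrix (Fin 2) (Fin 2) F) 0 1 = 0) (hd10 : (d : Matrix (Fin 2) (Fin 2) F) 1 0 = 0) (hda : (d : Matrix (Fin 2) (Fin 2) F) 0 0 ^ 2 ≠ 1) :
    (∀ g : Matrix.SpecialLinearGroup (Fin 2) F, g ∈ Subgroup.centralizer ({d} : Set (Matrix.SpecialLinearGroup (Fin 2) F)) ↔ ((g : Matrix (Fin 2) (Fin 2) F) 0 1 = 0 ∧ (g : Matrix (Fin 2) (Fin 2) F) 1 0 = 0)) ∧
    Nat.card (Subgroup.normalizer ((Subgroup.centralizer ({d} : Set (Matrix.SpecialLinearGroup (Fin 2) F))) : Set (Matrix.SpecialLinearGroup (Fin 2) F))) = 2 * (Fintype.card F - 1) ∧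
    Nat.card (ConjClasses (Subgroup.normalizer ((Subgroup.centralizer ({d} : Set (Matrix.SpecialLinearGroup (Fin 2) F))) : Set (Matrix.SpecialLinearGroup (Fin 2) F)))) = (Fintype.card F + 5) / 2 ∧
    ∀ g : Matrix.SpecialLinearGroup (Fin 2) F, g ∈ Subgroup.normalizer ((Subgroup.centralizer ({d} : Set (Matrix.SpecialLinearGroup (Fin 2) F))) : Set (Matrix.SpecialLinearGroup (Fin 2) F)) →
      g ∉ Subgroup.centralizer ({d} : Set (Matrix.SpecialLinearGroup (Fin 2) F)) → ((g * g) : Matrix (Fin 2) (Fin 2) F) = -1 := by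
  classical
  have hodd' : Fintype.card F % 2 = 1 := Nat.odd_iff.1 hodd
  have h2 : (2 : F) ≠ 0 := fun e => by
    haveI : CharP F 2 := CharTwo.of_one_ne_zero_of_two_eq_zero one_ne_zero e
    have := FiniteField.even_card_of_char_two (ringChar.eq F 2)
    omega
  set a := (d : Matrix (Fin 2) (Fin 2) F) 0 0 with ha
  set a' := (d : Matrix (Fin 2) (Fin 2) F) 1 1 with ha'
  have haa : a * a' = 1 := by
    have := det_eq d
    rw [hd01] at this
    linear_combination this
  have htr : tr d = a + a' := rfl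
  have ht : tr d * tr d ≠ 4 := fun e => by
    have h0 : (a - a') * (a - a') = 0 := by rw [htr] at e; linear_combination e - 4 * haa
    have h1 : a = a' := sub_eq_zero.1 (mul_self_eq_zero.1 h0)
    exact hda (by rw [pow_two]; nth_rw 2 [h1]; exact haa)
  have hd : NonScalar d := nonScalar_of_sq_ne ht
  have hne : a - a' ≠ 0 := fun e => hd ⟨hd01, hd10, sub_eq_zero.1 e⟩
  have hC := card_cent_split (r := a) (by rw [htr]; linear_combination -haa) ht
  refine ⟨fun g => ?_, by rw [card_normalizer ht, hC], ?_, fun g hg hgn => ?_⟩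
  · rw [mem_centralizer hd]
    constructor
    · rintro ⟨x, y, e⟩
      rw [e]
      simp [lin_apply, hd01, hd10]
    · rintro ⟨h01, h10⟩
      refine ⟨(g : Matrix (Fin 2) (Fin 2) F) 0 0 - ((g : Matrix (Fin 2) (Fin 2) F) 0 0 -
        (g : Matrix (Fin 2) (Fin 2) F) 1 1) / (a - a') * a, ((g : Matrix (Fin 2) (Fin 2) F) 0 0 -
        (g : Matrix (Fin 2) (Fin 2) F) 1 1) / (a - a'), ?_⟩
      ext i j
      fin_cases i <;> fin_cases j <;> simp [lin_apply, hd01, hd10, h01, h10, ← ha, ← ha']
      field_simp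
      ring
  · rw [card_classes_normalizer h2 ht (m := (Fintype.card F - 1) / 2) (by rw [hC]; omega)]
    have := Fintype.one_lt_card (α := F)
    omega
  · have := congrArg (fun A : Matrix.SpecialLinearGroup (Fin 2) F => (A : Matrix (Fin 2) (Fin 2) F))
      (sq_of_not_mem h2 ht hg hgn)
    simpa using this

end Cfsg.Agent.S2428
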