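import Cfsg.Statements.S2429
-- import your own Cfsg.Agent.* helpers here

import Cfsg.Agent.SL2Class.Torus

set_option autoImplicit false
open Cfsg

namespace Cfsg.Agent.S2429

open Matrix SL2Class


/-- Let F be a finite field with q elements, q odd. Then SL₂ over F contains a cyclic subgroup T′ of order q + 1 (a non-split torus) with the following properties: T′ is its own centraliser, and indeed the centraliser of each element of T′ other than 1 and −1 is exactly T′; every element of SL₂ having no eigenvector in F² is conjugate to an element of T′; the normaliser of T′ has order 2(q + 1) and exactly (q + 7)/2 conjugacy classes; and every element of that normaliser outside T′ has square −1. -/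
theorem result {F : Type*} [Field F] [Fintype F] (hodd : Odd (Fintype.card F)) :
    ∃ T' : Subgroup (Matrix.SpecialLinearGroup (Fin 2) F), IsCyclic T' ∧ Nat.card T' = Fintype.card F + 1 ∧
      Subgroup.centralizer ((T' : Set (Matrix.SpecialLinearGroup (Fin 2) F))) = T' ∧
      (∀ g : Matrix.SpecialLinearGroup (Fin 2) F, g ∈ T' → (g : Matrix (Fin 2) (Fin 2) F) ≠ 1 → (g : Matrix (Fin 2) (Fin 2) F) ≠ -1 → Subgroup.centralizer ({g} : Set (Matrix.SpecialLinearGroup (Fin 2) F)) = T') ∧
      (∀ g : Matrix.SpecialLinearGroup (Fin 2) F, (∀ (c : F) (v : Fin 2 → F), v ≠ 0 → (g : Matrix (Fin 2) (Fin 2) F).mulVec v ≠ c • v) → ∃ h : Matrix.SpecialLinearGroup (Fin 2) F, h * g * h⁻¹ ∈ T') ∧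
      Nat.card (Subgroup.normalizer (T' : Set (Matrix.SpecialLinearGroup (Fin 2) F))) = 2 * (Fintype.card F + 1) ∧
      Nat.card (ConjClasses (Subgroup.normalizer (T' : Set (Matrix.SpecialLinearGroup (Fin 2) F)))) = (Fintype.card F + 7) / 2 ∧
      ∀ g : Matrix.SpecialLinearGroup (Fin 2) F, g ∈ Subgroup.normalizer (T' : Set (Matrix.SpecialLinearGroup (Fin 2) F)) → g ∉ T' → ((g * g) : Matrix (Fin 2) (Fin 2) F) = -1 := by
  classical
  have hodd' : Fintype.card F % 2 = 1 := Nat.odd_iff.1 hodd
  have h2 : (2 : F) ≠ 0 := fun e => by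
    haveI : CharP F 2 := CharTwo.of_one_ne_zero_of_two_eq_zero one_ne_zero e
    have := FiniteField.even_card_of_char_two (ringChar.eq F 2)
    omega
  obtain ⟨g₀, hg₀, ht⟩ := exists_elliptic (F := F) h2
  have hns := nonScalar_of_sq_ne ht
  refine ⟨Subgroup.centralizer {g₀}, isCyclic_centralizer ht, card_cent_noRoot hg₀ hns, ?_, ?_, ?_,
    by rw [card_normalizer ht, card_cent_noRoot hg₀ hns], ?_, fun g hg hgn => ?_⟩
  · refine le_antisymm (Subgroup.centralizer_le (Set.singleton_subset_iff.2 (self_mem_cent g₀))) ?_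
    exact fun x hx y hy => centralizer_comm hns hy hx
  · intro g hg h1 h1'
    refine centralizer_eq hns hg fun h => ?_
    exact (not_or.2 ⟨h1, h1'⟩) (scalar_cases (fun h' => h' h))
  · intro g hg
    have hg' := noRoot_iff_noEigen.1 hg
    obtain ⟨x, hx, hxt, hxs⟩ := exists_tr_mem h2 hg₀ hg'
    obtain ⟨h, hh⟩ := isConj_iff.1 (isConj_of_tr (nonScalar_of_sq_ne (sq_ne_four_of_noRoot h2 hg')) hxs hxt.symm
      (Or.inl (sq_ne_four_of_noRoot h2 hg')))
    exact ⟨h, hh ▸ hx⟩
  · rw [card_classes_normalizer h2 ht (m := (Fintype.card F + 1) / 2) (by rw [card_cent_noRoot hg₀ hns]; omega)]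
    omega
  · have := congrArg (fun A : Matrix.SpecialLinearGroup (Fin 2) F => (A : Matrix (Fin 2) (Fin 2) F))
      (sq_of_not_mem h2 ht hg hgn)
    simpa using this

end Cfsg.Agent.S2429
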