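import Cfsg.Statements.S2434
-- import your own Cfsg.Agent.* helpers here

import Cfsg.Agent.GL2Rep.SLCuspTorus

set_option autoImplicit false
open Cfsg

namespace Cfsg.Agent.S2434

open Matrix Cfsg.Agent.Char Cfsg.Agent.GL2Rep.SL

universe u

theorem aux {F : Type u} [Field F] [Fintype F] (hodd : Odd (Fintype.card F))
    (C : Subgroup (Matrix.SpecialLinearGroup (Fin 2) F)) (hC : IsCyclic C) (hcard : Nat.card C = Fintype.card F + 1)
    [DecidableEq F] [Fintype (Matrix.SpecialLinearGroup (Fin 2) F)] :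
    ∃ χ₀ : (C →* ℂˣ) → (Matrix.SpecialLinearGroup (Fin 2) F → ℂ),
    (∀ θ : C →* ℂˣ, (∃ c : C, θ c ^ 2 ≠ 1) →
      IsIrrCharacter (Matrix.SpecialLinearGroup (Fin 2) F) (χ₀ θ) ∧ χ₀ θ 1 = (Fintype.card F : ℂ) - 1 ∧
        (∀ c : C, (c : Matrix.SpecialLinearGroup (Fin 2) F) ∉ Subgroup.center (Matrix.SpecialLinearGroup (Fin 2) F) → χ₀ θ c = -((θ c).val + (θ c)⁻¹.val)) ∧
        (∀ c : C, (c : Matrix.SpecialLinearGroup (Fin 2) F) ∈ Subgroup.center (Matrix.SpecialLinearGroup (Fin 2) F) → ∀ g : Matrix.SpecialLinearGroup (Fin 2) F, χ₀ θ ((c : Matrix.SpecialLinearGroup (Fin 2) F) * g) = (θ c).val * χ₀ θ g) ∧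
        (∀ g : Matrix.SpecialLinearGroup (Fin 2) F, (g : Matrix (Fin 2) (Fin 2) F) 0 1 = 0 → (g : Matrix (Fin 2) (Fin 2) F) 1 0 = 0 → (g : Matrix (Fin 2) (Fin 2) F) 0 0 ^ 2 ≠ 1 → χ₀ θ g = 0) ∧
        (∀ g : Matrix.SpecialLinearGroup (Fin 2) F, (g : Matrix (Fin 2) (Fin 2) F) 1 0 = 0 → (g : Matrix (Fin 2) (Fin 2) F) 0 0 = 1 → (g : Matrix (Fin 2) (Fin 2) F) 1 1 = 1 → (g : Matrix (Fin 2) (Fin 2) F) 0 1 ≠ 0 → χ₀ θ g = -1)) ∧
    (∀ χ : Matrix.SpecialLinearGroup (Fin 2) F → ℂ, IsIrrCharacter (Matrix.SpecialLinearGroup (Fin 2) F) χ → χ 1 = (Fintype.card F : ℂ) - 1 →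
      ∃ θ : C →* ℂˣ, (∃ c : C, θ c ^ 2 ≠ 1) ∧
        ∀ c : C, (c : Matrix.SpecialLinearGroup (Fin 2) F) ∉ Subgroup.center (Matrix.SpecialLinearGroup (Fin 2) F) → χ c = -((θ c).val + (θ c)⁻¹.val)) := by
  classical
  haveI := hC
  haveI : Fintype (GL (Fin 2) F) := Fintype.ofFinite _
  have h2 : (2 : F) ≠ 0 := fun h => by
    haveI := Fact.mk Nat.prime_two
    haveI : CharP F 2 := (CharP.charP_iff_prime_eq_zero Nat.prime_two).2 (by exact_mod_cast h)
    obtain ⟨⟨n, hn⟩, -, e⟩ := FiniteField.card F 2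
    rw [e, Nat.odd_pow_iff (by exact Nat.pos_iff_ne_zero.1 hn)] at hodd
    exact absurd hodd (by decide)
  obtain ⟨ψ, hψ1⟩ : ∃ ψ : AddChar F ℂ, ψ (1 : F) ≠ 1 := AddChar.exists_apply_ne_zero.2 one_ne_zero
  have hψ : ψ ≠ 1 := fun e => hψ1 (by rw [e, AddChar.one_apply])
  obtain ⟨ν', hν'⟩ := SL2Class.exists_nonsquare (F := F) h2
  have hν : ¬ IsSquare (ν' : F) := hν'
  have hneg := neg_one_mem (C := C) h2 hcard
  let n : C := ⟨-1, hneg⟩
  let χ₀ : (C →* ℂˣ) → (Matrix.SpecialLinearGroup (Fin 2) F → ℂ) :=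
    fun θ => cus ψ (ν' : F) C θ (θ n : ℂ)
  have hne : ∀ θ : C →* ℂˣ, (∃ c : C, θ c ^ 2 ≠ 1) ↔ θ ≠ θ⁻¹ := by
    intro θ
    constructor
    · rintro ⟨c, hc⟩ e
      refine hc ?_
      rw [pow_two]
      nth_rw 2 [e]
      rw [MonoidHom.inv_apply, mul_inv_cancel]
    · intro e
      by_contra h
      push Not at h
      exact e (MonoidHom.ext fun c => by
        rw [MonoidHom.inv_apply]
        exact eq_inv_of_mul_eq_one_left (by rw [← pow_two, h c]))
  refine ⟨χ₀, fun θ hθ => ⟨cus_isIrr h2 hcard hψ hν θ hneg rfl ((hne θ).1 hθ), cus_one h2 hcard _ _ θ _,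
    fun c hc => cus_torus h2 hcard _ _ θ _ c hc, ?_, ?_, ?_⟩, ?_⟩
  · intro c hc g
    rcases SL2Class.mem_center_cases.1 hc with h | h
    · obtain rfl : c = 1 := Subtype.ext h
      simp
    · obtain rfl : c = n := Subtype.ext h
      exact cus_neg h2 _ _ θ hneg rfl g
  · intro g h01 h10 ha
    obtain ⟨a, ha0, hg⟩ := eq_bEl h10
    have hne4 : SL2Class.tr g * SL2Class.tr g ≠ 4 ∧ ¬ SL2Class.NoRoot (SL2Class.tr g) := by
      rw [hg]
      constructor
      · intro h
        simp [SL2Class.tr, coe_bEl] at h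
        field_simp at h
        refine ha ?_
        rw [← ha0]
        have e := sub_eq_zero.1 (mul_self_eq_zero.1 (show ((a : F) * a - 1) * ((a : F) * a - 1) = 0 by
          linear_combination h))
        linear_combination e
      · intro h
        refine h (a : F) ?_
        simp [SL2Class.tr, coe_bEl]
        field_simp
        ring
    exact cus_split h2 hcard _ _ θ _ hne4.1 hne4.2
  · intro g h10 h00 _ h01
    obtain ⟨a, ha0, hg⟩ := eq_bEl h10
    obtain rfl : a = 1 := Units.ext (ha0.trans h00)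
    rw [hg]
    exact cus_unipotent h2 hcard hψ hν θ _ h01
  intro χ hχ hdeg
  obtain ⟨k, P, H, C₂, C₁, hk, hq, hall, hPd, hHd, hC2d, hC1d, -, -, hC2card, -⟩ := table_odd (F := F) h2
  -- the characters of C
  obtain ⟨gen, hgen⟩ := hC.exists_generator
  have hgord : orderOf gen = Fintype.card F + 1 := by rw [orderOf_eq_card_of_forall_mem_zpowers hgen, hcard]
  have hdvd : ∀ r : rootsOfUnity (Fintype.card F + 1) ℂ, orderOf (r : ℂˣ) ∣ orderOf gen := fun r => by
    rw [hgord]; exact orderOf_dvd_of_pow_eq_one r.2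
  let th : rootsOfUnity (Fintype.card F + 1) ℂ → (C →* ℂˣ) := fun r => monoidHomOfForallMemZpowers hgen (hdvd r)
  have hth : ∀ r, th r gen = (r : ℂˣ) := fun r => monoidHomOfForallMemZpowers_apply_gen hgen (hdvd r)
  haveI : Fintype (rootsOfUnity (Fintype.card F + 1) ℂ) := Fintype.ofFinite _
  have hR : Fintype.card (rootsOfUnity (Fintype.card F + 1) ℂ) = Fintype.card F + 1 := by
    rw [← Nat.card_eq_fintype_card, Complex.card_rootsOfUnity]
  let T := Finset.filter (fun r : rootsOfUnity (Fintype.card F + 1) ℂ => (r : ℂˣ) ^ 2 ≠ 1) Finset.univ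
  have hT : 2 * k ≤ T.card := by
    have h := Finset.card_filter_add_card_filter_not (s := (Finset.univ : Finset (rootsOfUnity (Fintype.card F + 1) ℂ)))
      (fun r : rootsOfUnity (Fintype.card F + 1) ℂ => (r : ℂˣ) ^ 2 ≠ 1)
    rw [Finset.card_univ, hR] at h
    have hle : (Finset.filter (fun r : rootsOfUnity (Fintype.card F + 1) ℂ => ¬ (r : ℂˣ) ^ 2 ≠ 1)
        Finset.univ).card ≤ ({1, -1} : Finset ℂ).card := by
      refine Finset.card_le_card_of_injOn
        (fun r : rootsOfUnity (Fintype.card F + 1) ℂ => ((r : ℂˣ) : ℂ)) ?_ ?_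
      · intro r hr
        have h2r := congrArg Units.val (not_not.1 (Finset.mem_filter.1 hr).2)
        rw [Units.val_pow_eq_pow_val, Units.val_one] at h2r
        simpa using sq_eq_one_iff.1 h2r
      · intro r _ r' _ e
        exact Subtype.ext (Units.ext e)
    have := Finset.card_le_two (a := (1 : ℂ)) (b := -1)
    simp only [T]
    omega
  have hTθ : ∀ r ∈ T, ∃ c : C, th r c ^ 2 ≠ 1 := fun r hr => ⟨gen, by rw [hth]; exact (Finset.mem_filter.1 hr).2⟩
  obtain ⟨r₀, hr₀⟩ : T.Nonempty := Finset.card_pos.1 (by omega)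
  have hχeq : χ 1 = ((2 * k : ℕ) : ℂ) := by rw [hdeg, hq]; push_cast; ring
  have hnat : ∀ m : ℕ, χ 1 = (m : ℂ) → m = 2 * k := fun m h => Nat.cast_injective (R := ℂ) (h.symm.trans hχeq)
  have key : ∀ χ' : IrrCharacter (Matrix.SpecialLinearGroup (Fin 2) F),
      (χ' : Matrix.SpecialLinearGroup (Fin 2) F → ℂ) 1 = (Fintype.card F : ℂ) - 1 →
        χ' ∈ C₂ ∨ (k = 1 ∧ χ' ∈ H) := by
    intro χ' h'
    rcases hall χ' with e | e | e | e | e | e
    · rw [e, hq] at h'
      have := Nat.cast_injective (R := ℂ) (show ((1 : ℕ) : ℂ) = ((2 * k : ℕ) : ℂ) by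
        push_cast at h' ⊢; linear_combination h')
      omega
    · rw [e, St_one] at h'
      exact absurd (show (1 : ℂ) = 0 by linear_combination h') one_ne_zero
    · have h := (hPd χ' e).1
      rw [h', hq] at h
      have := Nat.cast_injective (R := ℂ) (show ((2 * k : ℕ) : ℂ) = ((2 * k + 2 : ℕ) : ℂ) by
        push_cast at h ⊢; linear_combination h)
      omega
    · have h := (hHd χ' e).1
      rw [h', hq] at h
      have := Nat.cast_injective (R := ℂ) (show ((2 * k : ℕ) : ℂ) = ((k + 1 : ℕ) : ℂ) by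
        push_cast at h ⊢; linear_combination h)
      exact Or.inr ⟨by omega, e⟩
    · exact Or.inl e
    · have h := (hC1d χ' e).1
      rw [h', hq] at h
      have := Nat.cast_injective (R := ℂ) (show ((2 * k : ℕ) : ℂ) = ((k : ℕ) : ℂ) by
        push_cast at h ⊢; linear_combination h)
      omega
  rcases key ⟨χ, hχ⟩ hdeg with hmem | ⟨hk1, hmem⟩
  · -- all of C₂ is constructed
    let f : {r // r ∈ T} → IrrCharacter (Matrix.SpecialLinearGroup (Fin 2) F) := fun r =>
      ⟨χ₀ (th r.1), cus_isIrr h2 hcard hψ hν (th r.1) hneg rfl ((hne _).1 (hTθ r.1 r.2))⟩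
    have hsub : T.attach.image f ⊆ C₂ := by
      intro x hx
      obtain ⟨r, -, rfl⟩ := Finset.mem_image.1 hx
      rcases key (f r) (cus_one h2 hcard _ _ _ _) with e | ⟨-, e⟩
      · exact e
      · obtain ⟨-, α, -, -, hα⟩ := hHd _ e
        exact absurd (cus_cusp h2 hcard hψ hν (th r.1) hneg rfl α) hα
    have hfib : T.attach.card ≤ 2 * (T.attach.image f).card := by
      refine Finset.card_le_mul_card_image _ 2 fun b hb => ?_
      obtain ⟨r, -, rfl⟩ := Finset.mem_image.1 hb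
      refine le_trans (Finset.card_le_card_of_injOn (t := ({(r.1 : ℂˣ), (r.1 : ℂˣ)⁻¹} : Finset ℂˣ))
        (fun x => (x.1 : ℂˣ)) ?_ ?_) Finset.card_le_two
      · intro x hx
        have e : χ₀ (th x.1) = χ₀ (th r.1) := congrArg Subtype.val (Finset.mem_filter.1 hx).2
        have h := inner_cus h2 hcard hψ hν (th r.1) (th x.1) (ω := (th r.1 n : ℂ)) (ω' := (th x.1 n : ℂ))
          hneg rfl rfl
        rw [show cus ψ (ν' : F) C (th x.1) (th x.1 n : ℂ) = cus ψ (ν' : F) C (th r.1) (th r.1 n : ℂ) from e,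
          classInner_irr_self (cus_isIrr h2 hcard hψ hν (th r.1) hneg rfl ((hne _).1 (hTθ r.1 r.2)))] at h
        simp only [Finset.coe_insert, Finset.coe_singleton, Set.mem_insert_iff, Set.mem_singleton_iff]
        by_cases h' : th x.1 = th r.1
        · left; rw [← hth x.1, ← hth r.1, h']
        · rw [if_neg h'] at h
          by_cases h'' : th x.1 = (th r.1)⁻¹
          · right; rw [← hth x.1, ← hth r.1, h'', MonoidHom.inv_apply]
          · rw [if_neg h'', add_zero] at h; exact absurd h one_ne_zero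
      · intro x _ y _ e
        exact Subtype.ext (Subtype.ext e)
    rw [Finset.card_attach] at hfib
    have heq : T.attach.image f = C₂ := Finset.eq_of_subset_of_card_le hsub (by omega)
    rw [← heq] at hmem
    obtain ⟨r, -, hr⟩ := Finset.mem_image.1 hmem
    refine ⟨th r.1, hTθ r.1 r.2, fun c hc => ?_⟩
    rw [show χ = χ₀ (th r.1) from (congrArg Subtype.val hr).symm]
    exact cus_torus h2 hcard _ _ _ _ c hc
  · -- q = 3
    obtain ⟨-, α, hα2, hα1, hα⟩ := hHd _ hmem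
    refine ⟨th r₀, hTθ r₀ hr₀, fun c hc => ?_⟩
    have hnr := (torus_mem h2 hcard c.2 hc).1
    rw [half_noEigen hα2 hα1 hχ hα (SL2Class.noRoot_iff_noEigen.2 hnr)]
    have h4 : Fintype.card F + 1 = 4 := by omega
    have hsq : ∀ x : C, x * x ≠ 1 → x * x = n := fun x hx => by
      have h : (x * x) * (x * x) = 1 := by
        rw [← pow_two, ← pow_two, ← pow_mul, show 2 * 2 = Nat.card C by rw [hcard]; omega, pow_card_eq_one']
      rcases SL2Class.sq_eq_one_cases h2 (congrArg Subtype.val h) with e | e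
      · exact absurd (Subtype.ext e) hx
      · exact Subtype.ext e
    have hcc : c * c ≠ 1 := fun e => by
      rcases SL2Class.sq_eq_one_cases h2 (congrArg Subtype.val e) with e' | e'
      · exact hc (e' ▸ Subgroup.one_mem _)
      · exact hc (e' ▸ SL2Class.neg_one_mem_center)
    have hgg : gen * gen ≠ 1 := fun e => by
      have := orderOf_le_of_pow_eq_one (x := gen) (n := 2) (by norm_num) (by rw [pow_two, e])
      omega
    have hr2 : (th r₀ n : ℂ) = -1 := by
      rw [← hsq gen hgg, map_mul, hth, Units.val_mul]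
      have h1 : ((r₀ : ℂˣ) : ℂ) ^ 4 = 1 := by
        have e : (r₀ : ℂˣ) ^ (Fintype.card F + 1) = 1 := r₀.2
        have e' : (r₀ : ℂˣ) ^ 4 = 1 := (congrArg (fun m => (r₀ : ℂˣ) ^ m) h4).symm.trans e
        rw [← Units.val_pow_eq_pow_val, e', Units.val_one]
      have h2' : ((r₀ : ℂˣ) : ℂ) * (r₀ : ℂˣ) ≠ 1 := fun e => (Finset.mem_filter.1 hr₀).2
        (Units.ext (by rw [Units.val_pow_eq_pow_val, pow_two, e, Units.val_one]))
      exact ((mul_self_eq_one_iff.1 (show (((r₀ : ℂˣ) : ℂ) * (r₀ : ℂˣ)) * (((r₀ : ℂˣ) : ℂ) * (r₀ : ℂˣ)) = 1 by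
        linear_combination h1)).resolve_left h2')
    rw [← hsq c hcc, map_mul, Units.val_mul] at hr2
    have h0 : (th r₀ c : ℂ) ≠ 0 := Units.ne_zero _
    rw [Units.val_inv_eq_inv_val]
    field_simp
    linear_combination hr2


/-- Let F be a finite field with q elements, q odd, and C a cyclic subgroup of order q + 1 of SL₂ over F (a non-split torus; it contains the centre). For every homomorphism θ from C to the non-zero complex numbers with θ² ≠ 1 there is an irreducible complex character χ of degree q − 1 such that χ(c) = −θ(c) − θ(c)⁻¹ for every non-central c in C, χ(zg) = θ(z)χ(g) for central z in C, χ vanishes at diagonal elements with entry a, a² ≠ 1, and χ takes the value −1 at every upper unitriangular element other than 1. Conversely every irreducible character of degree q − 1 has, for some such θ, the values −θ(c) − θ(c)⁻¹ at the non-central elements c of C (for q ≥ 5 these are exactly the cuspidal characters of degree q − 1).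 -/
theorem result {F : Type*} [Field F] [Fintype F] (hodd : Odd (Fintype.card F))
    (C : Subgroup (Matrix.SpecialLinearGroup (Fin 2) F)) (hC : IsCyclic C) (hcard : Nat.card C = Fintype.card F + 1) :
    (∀ θ : C →* ℂˣ, (∃ c : C, θ c ^ 2 ≠ 1) →
      ∃ χ : Matrix.SpecialLinearGroup (Fin 2) F → ℂ, Cfsg.IsIrrCharacter (Matrix.SpecialLinearGroup (Fin 2) F) χ ∧ χ 1 = (Fintype.card F : ℂ) - 1 ∧
        (∀ c : C, (c : Matrix.SpecialLinearGroup (Fin 2) F) ∉ Subgroup.center (Matrix.SpecialLinearGroup (Fin 2) F) → χ c = -((θ c).val + (θ c)⁻¹.val)) ∧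
        (∀ c : C, (c : Matrix.SpecialLinearGroup (Fin 2) F) ∈ Subgroup.center (Matrix.SpecialLinearGroup (Fin 2) F) → ∀ g : Matrix.SpecialLinearGroup (Fin 2) F, χ ((c : Matrix.SpecialLinearGroup (Fin 2) F) * g) = (θ c).val * χ g) ∧
        (∀ g : Matrix.SpecialLinearGroup (Fin 2) F, (g : Matrix (Fin 2) (Fin 2) F) 0 1 = 0 → (g : Matrix (Fin 2) (Fin 2) F) 1 0 = 0 → (g : Matrix (Fin 2) (Fin 2) F) 0 0 ^ 2 ≠ 1 → χ g = 0) ∧
        (∀ g : Matrix.SpecialLinearGroup (Fin 2) F, (g : Matrix (Fin 2) (Fin 2) F) 1 0 = 0 → (g : Matrix (Fin 2) (Fin 2) F) 0 0 = 1 → (g : Matrix (Fin 2) (Fin 2) F) 1 1 = 1 → (g : Matrix (Fin 2) (Fin 2) F) 0 1 ≠ 0 → χ g = -1)) ∧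
    (∀ χ : Matrix.SpecialLinearGroup (Fin 2) F → ℂ, Cfsg.IsIrrCharacter (Matrix.SpecialLinearGroup (Fin 2) F) χ → χ 1 = (Fintype.card F : ℂ) - 1 →
      ∃ θ : C →* ℂˣ, (∃ c : C, θ c ^ 2 ≠ 1) ∧
        ∀ c : C, (c : Matrix.SpecialLinearGroup (Fin 2) F) ∉ Subgroup.center (Matrix.SpecialLinearGroup (Fin 2) F) → χ c = -((θ c).val + (θ c)⁻¹.val)) := by
  classical
  haveI : Fintype (Matrix.SpecialLinearGroup (Fin 2) F) := Fintype.ofFinite _
  obtain ⟨χ₀, h1, h2⟩ := aux hodd C hC hcard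
  exact ⟨fun θ hθ => ⟨χ₀ θ, h1 θ hθ⟩, h2⟩

end Cfsg.Agent.S2434
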