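import Cfsg.Statements.S2435
import Cfsg.Agent.GL2Rep.SLHalf

set_option autoImplicit false
open Cfsg

namespace Cfsg.Agent.S2435

open Cfsg.Agent.GL2Rep Cfsg.Agent.GL2Rep.SL Cfsg.Agent.Char

/-- Let F be a finite field with q elements, q odd and q ≥ 5, and χ an irreducible complex character of SL₂ over F. If χ has degree (q + 1)/2, then at a diagonal element with entry a, a² ≠ 1, χ takes the value 1 when a is a square in F and −1 otherwise. If χ has degree (q − 1)/2, then at an element g with no eigenvector in F² (so g has order dividing q + 1), χ takes the value −1 when g raised to the power (q + 1)/2 is the identity and the value 1 otherwise. -/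
theorem result {F : Type*} [Field F] [Fintype F] (hodd : Odd (Fintype.card F)) (hq : 5 ≤ Fintype.card F)
    (χ : Matrix.SpecialLinearGroup (Fin 2) F → ℂ) (hχ : Cfsg.IsIrrCharacter (Matrix.SpecialLinearGroup (Fin 2) F) χ) (g : Matrix.SpecialLinearGroup (Fin 2) F) :
    (χ 1 = (((Fintype.card F + 1) / 2 : ℕ) : ℂ) → (g : Matrix (Fin 2) (Fin 2) F) 0 1 = 0 → (g : Matrix (Fin 2) (Fin 2) F) 1 0 = 0 → (g : Matrix (Fin 2) (Fin 2) F) 0 0 ^ 2 ≠ 1 →
      (IsSquare ((g : Matrix (Fin 2) (Fin 2) F) 0 0) → χ g = 1) ∧ (¬ IsSquare ((g : Matrix (Fin 2) (Fin 2) F) 0 0) → χ g = -1)) ∧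
    (χ 1 = (((Fintype.card F - 1) / 2 : ℕ) : ℂ) → (∀ (c : F) (v : Fin 2 → F), v ≠ 0 → (g : Matrix (Fin 2) (Fin 2) F).mulVec v ≠ c • v) →
      (((g ^ ((Fintype.card F + 1) / 2)) : Matrix (Fin 2) (Fin 2) F) = 1 → χ g = -1) ∧ (((g ^ ((Fintype.card F + 1) / 2)) : Matrix (Fin 2) (Fin 2) F) ≠ 1 → χ g = 1)) := by
  classical
  haveI : Fintype (Matrix.SpecialLinearGroup (Fin 2) F) := Fintype.ofFinite _
  haveI : Fintype (GL (Fin 2) F) := Fintype.ofFinite _
  haveI : Fintype (MulChar F ℂ) := Fintype.ofFinite _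
  have h2 := two_ne_zero_of_odd hodd
  obtain ⟨k, H, C₁, hk, hkq, -, -, hHm, -, hHi, -⟩ := half_rows (F := F) h2 hq
  obtain ⟨-, -, hsq, hns⟩ := qc_facts (F := F) h2
  refine ⟨fun hd h01 h10 ha => ?_, fun hd hg => ?_⟩
  · have hmem : (⟨χ, hχ⟩ : IrrCharacter _) ∈ H := (hHm _).2 (by
      show χ 1 = _
      rw [hd]; congr 1; omega)
    obtain ⟨h1, h0⟩ := hHi _ hmem
    obtain ⟨a, ha0, ha', rfl⟩ := diag_eq_bEl h01 h10 ha
    have hv := diag_value (isClassFunction_of_isIrr hχ) ha'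
    rw [Finset.sum_eq_single qc (fun β _ hβ => by rw [show classInner χ (R β) = 0 from h0 β hβ, zero_mul]) (by simp),
      show classInner χ (R qc) = 1 from h1, one_mul] at hv
    rw [hv, ← ha0]
    exact ⟨hsq _ a.ne_zero, hns _⟩
  · have hv := halfCusp_elliptic h2 hq hχ hd (SL2Class.noRoot_iff_noEigen.1 hg)
    have e : ∀ x : Matrix.SpecialLinearGroup (Fin 2) F,
        ((x : Matrix (Fin 2) (Fin 2) F) = 1 ↔ x = 1) := fun x =>
      ⟨fun h => Subtype.ext (h.trans Matrix.SpecialLinearGroup.coe_one.symm), fun h => by rw [h, Matrix.SpecialLinearGroup.coe_one]⟩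
    exact ⟨fun h => by rw [hv, if_pos ((e _).1 h)], fun h => by rw [hv, if_neg (mt (e _).2 h)]⟩

end Cfsg.Agent.S2435
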