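import Cfsg.Statements.S2436
import Cfsg.Agent.GL2Rep.SLMcKay
-- import your own Cfsg.Agent.* helpers here

set_option autoImplicit false
open Cfsg

namespace Cfsg.Agent.S2436

/-- Let F be a finite field with q elements, q odd, ℓ any prime and S a Sylow ℓ-subgroup of SL₂ over F with normaliser N. Then SL₂ and N have the same number of irreducible complex characters of degree not divisible by ℓ (the McKay equality holds for SL₂ over F at every prime). -/
theorem result {F : Type*} [Field F] [Fintype F] (hodd : Odd (Fintype.card F)) (ℓ : ℕ) [Fact ℓ.Prime] (S : Sylow ℓ (Matrix.SpecialLinearGroup (Fin 2) F)) :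
    Nat.card {χ : Cfsg.IrrCharacter (Matrix.SpecialLinearGroup (Fin 2) F) // ¬ ℓ ∣ Cfsg.charDegree (χ : Matrix.SpecialLinearGroup (Fin 2) F → ℂ)} =
      Nat.card {ψ : Cfsg.IrrCharacter (Subgroup.normalizer ((S : Subgroup (Matrix.SpecialLinearGroup (Fin 2) F)) : Set (Matrix.SpecialLinearGroup (Fin 2) F))) //
        ¬ ℓ ∣ Cfsg.charDegree (ψ : Subgroup.normalizer ((S : Subgroup (Matrix.SpecialLinearGroup (Fin 2) F)) : Set (Matrix.SpecialLinearGroup (Fin 2) F)) → ℂ)} := by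
  classical
  have hℓp := (Fact.out : ℓ.Prime)
  have hq1 := Fintype.one_lt_card (α := F)
  have hq2 : Fintype.card F % 2 = 1 := Nat.odd_iff.1 hodd
  have h2 : (2 : F) ≠ 0 := fun e => by
    haveI : CharP F 2 := CharTwo.of_one_ne_zero_of_two_eq_zero one_ne_zero e
    have := FiniteField.even_card_of_char_two (ringChar.eq F 2)
    omega
  set G := Matrix.SpecialLinearGroup (Fin 2) F
  by_cases hG : ℓ ∣ Nat.card G
  swap
  · have hS : (S : Subgroup G) = ⊥ := by
      apply Subgroup.eq_bot_of_card_eq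
      rw [S.card_eq_multiplicity, Nat.factorization_eq_zero_of_not_dvd hG, pow_zero]
    have hN : Subgroup.normalizer ((S : Subgroup G) : Set G) = ⊤ := by
      rw [hS]; exact Subgroup.normalizer_eq_top_iff.2 inferInstance
    rw [Cfsg.Agent.GL2Rep.McKayAux.card_congr
      ((MulEquiv.subgroupCongr hN).trans Subgroup.topEquiv) (fun d => ¬ ℓ ∣ d)]
  obtain ⟨k, hk1, hk, hcount⟩ := Cfsg.Agent.GL2Rep.SLMcKay.count_G (F := F) h2 ℓ
  rw [hcount]
  by_cases h2ℓ : ℓ = 2
  · subst h2ℓ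
    rw [Cfsg.Agent.GL2Rep.SLMcKay.count_two h2 hodd S]
    rcases Nat.even_or_odd k with ⟨j, hj⟩ | ⟨j, hj⟩
    · rw [if_neg (by omega), if_neg (by omega), if_pos (by omega), if_neg (by omega), if_pos (by omega),
        if_pos (by omega)]; ring
    · rw [if_neg (by omega), if_neg (by omega), if_pos (by omega), if_pos (by omega), if_pos (by omega),
        if_neg (by omega)]; ring
  have hnd : ∀ n : ℕ, 0 < n → n ≤ 2 → ¬ ℓ ∣ n := fun n h0 h2' h => by
    have := Nat.le_of_dvd h0 h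
    have := hℓp.two_le
    omega
  have hn1 : ¬ ℓ ∣ 1 := hnd 1 one_pos one_le_two
  have hn2 : ¬ ℓ ∣ 2 := hnd 2 two_pos le_rfl
  have hmul : ∀ a, ℓ ∣ 2 * a → ℓ ∣ a := fun a h => (hℓp.dvd_mul.1 h).resolve_left hn2
  have hsucc : ∀ a, ℓ ∣ a → ¬ ℓ ∣ a + 1 := fun a h h' => hn1 ((Nat.dvd_add_right h).1 h')
  by_cases hp : ℓ ∣ Fintype.card F
  · obtain ⟨p, hpc⟩ := CharP.exists F
    haveI := Fact.mk (CharP.char_is_prime F p)
    obtain ⟨n, -, hn⟩ := FiniteField.card F p
    have : ℓ = p := (Nat.prime_dvd_prime_iff_eq hℓp Fact.out).1 (hℓp.dvd_of_dvd_pow (hn ▸ hp))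
    subst this
    rw [Cfsg.Agent.GL2Rep.SLMcKay.count_p h2 hodd S, if_neg hn1, if_pos (hk ▸ hp),
      if_neg (hsucc _ (hk ▸ hp)),
      if_neg (fun h => hsucc _ (hk ▸ hp) (dvd_mul_of_dvd_right h 2)),
      if_neg (fun h => hsucc _ h (hk ▸ hp)),
      if_neg (fun h => hsucc _ (dvd_mul_of_dvd_right h 2) (hk ▸ hp))]
    omega
  rw [Cfsg.Agent.SL2Class.card_sl, hℓp.dvd_mul, or_iff_right hp, hk] at hG
  rw [show (2 * k + 1) ^ 2 - 1 = 2 * k * (2 * k + 2) from by
    have : (2 * k + 1) ^ 2 = 2 * k * (2 * k + 2) + 1 := by ring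
    omega, hℓp.dvd_mul] at hG
  obtain ⟨hm, hpl⟩ := Cfsg.Agent.S2430.result hodd ℓ h2ℓ S
  rw [if_neg hn1, if_neg (hk ▸ hp)]
  rcases hG with hd | hd
  · have hd' := hmul _ hd
    rw [Cfsg.Agent.GL2Rep.SLMcKay.count_torus h2 h2ℓ S (c := Fintype.card F - 1) (Or.inl rfl)
      (by rwa [hk, Nat.add_sub_cancel]) hp (hm (by rwa [hk, Nat.add_sub_cancel])),
      if_neg (fun h => hn2 ((Nat.dvd_add_right hd).1 h)), if_neg (hsucc _ hd'), if_pos hd, if_pos hd']
    omega
  · have hd' : ℓ ∣ k + 1 := hmul _ (by rwa [mul_add, mul_one])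
    rw [Cfsg.Agent.GL2Rep.SLMcKay.count_torus h2 h2ℓ S (c := Fintype.card F + 1) (Or.inr rfl)
      (by rwa [hk]) hp (hpl (by rwa [hk])), if_pos hd, if_pos hd',
      if_neg (fun h => hn2 ((Nat.dvd_add_right h).1 hd)), if_neg (fun h => hsucc _ h hd')]
    omega

end Cfsg.Agent.S2436
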