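import Cfsg.Statements.S2438
-- import your own Cfsg.Agent.* helpers here

import Cfsg.Agent.GL2Rep.SLValues

set_option autoImplicit false
open Cfsg

namespace Cfsg.Agent.S2438

open Cfsg.Agent.GL2Rep Cfsg.Agent.GL2Rep.SL Matrix


/-- Let F be a finite field with q elements, q odd, q ≥ 5, U the upper unitriangular subgroup of SL₂ over F, and χ an irreducible complex character. The sum of the values of χ over U equals 2q, q, 0, q, 0 according as the degree of χ is q + 1, q, q − 1, (q + 1)/2, (q − 1)/2; so among these five degrees the sum vanishes exactly for the degrees q − 1 and (q − 1)/2, i.e. the irreducible characters of those two degrees are the ones whose restriction to U does not contain the trivial character (the cuspidal characters), while those of degree q + 1, q and (q + 1)/2 are not cuspidal. -/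
theorem result {F : Type*} [Field F] [Fintype F] [DecidableEq F] (hodd : Odd (Fintype.card F)) (hq : 5 ≤ Fintype.card F)
    (χ : Matrix.SpecialLinearGroup (Fin 2) F → ℂ) (hχ : Cfsg.IsIrrCharacter (Matrix.SpecialLinearGroup (Fin 2) F) χ) :
    (χ 1 = (Fintype.card F : ℂ) + 1 →
      (∑ g : Matrix.SpecialLinearGroup (Fin 2) F, if (g : Matrix (Fin 2) (Fin 2) F) 1 0 = 0 ∧ (g : Matrix (Fin 2) (Fin 2) F) 0 0 = 1 ∧ (g : Matrix (Fin 2) (Fin 2) F) 1 1 = 1 then χ g else 0) = 2 * (Fintype.card F : ℂ)) ∧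
    (χ 1 = (Fintype.card F : ℂ) →
      (∑ g : Matrix.SpecialLinearGroup (Fin 2) F, if (g : Matrix (Fin 2) (Fin 2) F) 1 0 = 0 ∧ (g : Matrix (Fin 2) (Fin 2) F) 0 0 = 1 ∧ (g : Matrix (Fin 2) (Fin 2) F) 1 1 = 1 then χ g else 0) = (Fintype.card F : ℂ)) ∧
    (χ 1 = (Fintype.card F : ℂ) - 1 →
      (∑ g : Matrix.SpecialLinearGroup (Fin 2) F, if (g : Matrix (Fin 2) (Fin 2) F) 1 0 = 0 ∧ (g : Matrix (Fin 2) (Fin 2) F) 0 0 = 1 ∧ (g : Matrix (Fin 2) (Fin 2) F) 1 1 = 1 then χ g else 0) = 0) ∧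
    (χ 1 = (((Fintype.card F + 1) / 2 : ℕ) : ℂ) →
      (∑ g : Matrix.SpecialLinearGroup (Fin 2) F, if (g : Matrix (Fin 2) (Fin 2) F) 1 0 = 0 ∧ (g : Matrix (Fin 2) (Fin 2) F) 0 0 = 1 ∧ (g : Matrix (Fin 2) (Fin 2) F) 1 1 = 1 then χ g else 0) = (Fintype.card F : ℂ)) ∧
    (χ 1 = (((Fintype.card F - 1) / 2 : ℕ) : ℂ) →
      (∑ g : Matrix.SpecialLinearGroup (Fin 2) F, if (g : Matrix (Fin 2) (Fin 2) F) 1 0 = 0 ∧ (g : Matrix (Fin 2) (Fin 2) F) 0 0 = 1 ∧ (g : Matrix (Fin 2) (Fin 2) F) 1 1 = 1 then χ g else 0) = 0) := by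
  classical
  haveI : Fintype (GL (Fin 2) F) := Fintype.ofFinite _
  haveI : Fintype (MulChar F ℂ) := Fintype.ofFinite _
  have hcl := Cfsg.Agent.Char.isClassFunction_of_isIrr hχ
  have hsum : (∑ g : Matrix.SpecialLinearGroup (Fin 2) F, if (g : Matrix (Fin 2) (Fin 2) F) 1 0 = 0 ∧ (g : Matrix (Fin 2) (Fin 2) F) 0 0 = 1 ∧ (g : Matrix (Fin 2) (Fin 2) F) 1 1 = 1 then χ g else 0) =
      (Fintype.card F : ℂ) * ∑ α : MulChar F ℂ, Cfsg.classInner χ (R α) := by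
    have h := sum_eq hcl 1
    simp only [Units.val_one, map_one, mul_one] at h
    rw [← h, ← Finset.sum_filter]
    symm
    refine Finset.sum_bij (fun e _ => bEl 1 e) (fun e _ => by simp [coe_bEl]) (fun a _ b _ e => ?_) (fun g hg => ?_) (fun e _ => rfl)
    · have := congrArg (fun g : Matrix.SpecialLinearGroup (Fin 2) F => (g : Matrix (Fin 2) (Fin 2) F) 0 1) e
      simpa [coe_bEl] using this
    · obtain ⟨-, h10, h00, -⟩ := Finset.mem_filter.1 hg
      obtain ⟨a, ha, e⟩ := eq_bEl h10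
      obtain rfl : a = 1 := Units.ext (by rw [ha, h00]; rfl)
      exact ⟨_, Finset.mem_univ _, e.symm⟩
  have hcusp : Cusp χ → ∑ α : MulChar F ℂ, Cfsg.classInner χ (R α) = 0 := fun hc => Finset.sum_eq_zero fun α _ => hc α
  obtain ⟨j, hj⟩ := hodd
  obtain ⟨d, hd, h⟩ := nat_cases hχ
  have cst : ∀ {n : ℕ} {x : ℂ}, x = (n : ℂ) → χ 1 = x → d = n := fun hx h =>
    Nat.cast_injective (hd.symm.trans (h.trans hx))
  rw [hsum]
  refine ⟨fun e => ?_, fun e => ?_, fun e => ?_, fun e => ?_, fun e => ?_⟩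
  · have := cst (n := Fintype.card F + 1) (by push_cast; ring) e
    rcases h with ⟨h', -⟩ | ⟨h', -⟩ | ⟨-, α, hα, rfl⟩ | ⟨-, h', -⟩ | ⟨h', -⟩ | ⟨-, h', -⟩ <;> try omega
    have e' : ∀ β : MulChar F ℂ, (α = β⁻¹) = (β = α⁻¹) := fun β =>
      propext ⟨fun h => by rw [h, inv_inv], fun h => by rw [h, inv_inv]⟩
    simp only [inner_R, Finset.sum_add_distrib, Finset.sum_ite_eq, Finset.mem_univ, if_true, e',
      Finset.sum_ite_eq']
    ring
  · have := cst (n := Fintype.card F) rfl e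
    rcases h with ⟨h', -⟩ | ⟨-, rfl⟩ | ⟨h', -⟩ | ⟨-, h', -⟩ | ⟨h', -⟩ | ⟨-, h', -⟩ <;> try omega
    rw [Finset.sum_eq_single (1 : MulChar F ℂ)]
    · rw [St, Cfsg.Agent.Char.classInner_sub_left, inner_R, inner_one_R, if_pos rfl, if_pos inv_one.symm]
      norm_num
    · intro α _ hα
      rw [St, Cfsg.Agent.Char.classInner_sub_left, inner_R, inner_one_R, if_neg hα.symm, if_neg, if_neg hα]
      · norm_num
      · intro e; exact hα (by rw [← inv_inv α, ← e, inv_one])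
    · simp
  · have := cst (n := Fintype.card F - 1) (by rw [Nat.cast_sub (by omega)]; simp) e
    rcases h with ⟨h', -⟩ | ⟨h', -⟩ | ⟨h', -⟩ | ⟨-, h', -⟩ | ⟨-, hc⟩ | ⟨-, -, hc⟩ <;> try omega
    · rw [hcusp hc, mul_zero]
    · rw [hcusp hc, mul_zero]
  · have := cst rfl e
    rcases h with ⟨h', -⟩ | ⟨h', -⟩ | ⟨h', -⟩ | ⟨-, -, α, ha, ha1, hin⟩ | ⟨h', -⟩ | ⟨-, h', -⟩ <;> try omega
    obtain ⟨-, h1, h0, -⟩ := half ha ha1 hχ hin
    rw [Finset.sum_eq_single α (fun β _ hβ => h0 β hβ) (by simp), h1, mul_one]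
  · have := cst rfl e
    rcases h with ⟨h', -⟩ | ⟨h', -⟩ | ⟨h', -⟩ | ⟨-, h', -⟩ | ⟨-, hc⟩ | ⟨-, -, hc⟩ <;> try omega
    · rw [hcusp hc, mul_zero]
    · rw [hcusp hc, mul_zero]

end Cfsg.Agent.S2438
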