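import Cfsg.Statements.S4538
import Cfsg.Agent.SLSteinberg.Dichotomy
import Cfsg.Agent.SLSteinberg.Existence
import Cfsg.Agent.SLSteinberg.Unique

set_option autoImplicit false
open Cfsg

namespace Cfsg.Agent.S4538

/-- Let F be a finite field of characteristic p and n ≥ 2. Relative to a maximal ideal M of the algebraic integers containing p, the group SL(n, F) has exactly one p-block of defect zero, and every other p-block has full defect (its defect equals the exponent of p in the order of the group, so its defect groups are Sylow p-subgroups). -/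
theorem result {F : Type*} [Field F] [Fintype F] (n : ℕ) (hn : 2 ≤ n) (p : ℕ) [Fact p.Prime] [CharP F p] (M : Ideal Cfsg.AlgInt) (hM : Cfsg.IsPModular p M) : Nat.card {B : Set (Cfsg.IrrCharacter (Matrix.SpecialLinearGroup (Fin n) F)) // Cfsg.IsPBlock M B ∧ Cfsg.blockDefect p B = 0} = 1 ∧ ∀ B : Set (Cfsg.IrrCharacter (Matrix.SpecialLinearGroup (Fin n) F)), Cfsg.IsPBlock M B → Cfsg.blockDefect p B = 0 ∨ Cfsg.blockDefect p B = (Nat.card (Matrix.SpecialLinearGroup (Fin n) F)).factorization p := by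
  classical
  have hp : p.Prime := Fact.out
  refine ⟨?_, fun B hB => SLSteinberg.defect_zero_or_full hM hB⟩
  set a := (Nat.card (Matrix.SpecialLinearGroup (Fin n) F)).factorization p with ha
  have hG0 : Nat.card (Matrix.SpecialLinearGroup (Fin n) F) ≠ 0 := Nat.card_pos.ne'
  have hcodeg : ∀ χ : Cfsg.IrrCharacter (Matrix.SpecialLinearGroup (Fin n) F),
      a ≤ (Cfsg.charDegree (χ : Matrix.SpecialLinearGroup (Fin n) F → ℂ)).factorization p →
      ¬ p ∣ Nat.card (Matrix.SpecialLinearGroup (Fin n) F) /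
        Cfsg.charDegree (χ : Matrix.SpecialLinearGroup (Fin n) F → ℂ) := by
    intro χ hχ hdvd
    have hd : Cfsg.charDegree (χ : Matrix.SpecialLinearGroup (Fin n) F → ℂ) ∣
        Nat.card (Matrix.SpecialLinearGroup (Fin n) F) := CharArith.charDegree_dvd_card χ.2
    have hd0 := Blocks.charDegree_pos χ.2
    have h1 : (Nat.card (Matrix.SpecialLinearGroup (Fin n) F) /
        Cfsg.charDegree (χ : Matrix.SpecialLinearGroup (Fin n) F → ℂ)).factorization p = 0 := by
      rw [Nat.factorization_div hd, Finsupp.tsub_apply]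
      omega
    rcases Nat.factorization_eq_zero_iff .. |>.1 h1 with h | h | h
    · exact h hp
    · exact h hdvd
    · exact (Nat.div_pos (Nat.le_of_dvd Nat.card_pos hd) hd0).ne' h
  obtain ⟨χ₀, hχ₀⟩ := SLSteinberg.exists_steinberg (F := F) hn hM
  have hc₀ : ¬ p ∣ Nat.card (Matrix.SpecialLinearGroup (Fin n) F) /
      Cfsg.charDegree (χ₀ : Matrix.SpecialLinearGroup (Fin n) F → ℂ) :=
    hcodeg χ₀ (by rw [hχ₀, hp.factorization_pow, Finsupp.single_eq_same])
  have hB₀ := BlockThms.blockOf_eq_singleton hM χ₀ hc₀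
  have hd₀ : Cfsg.blockDefect p ({χ₀} : Set (Cfsg.IrrCharacter (Matrix.SpecialLinearGroup (Fin n) F))) = 0 := by
    rw [Cfsg.blockDefect, Set.image_singleton, csInf_singleton, hχ₀, hp.factorization_pow,
      Finsupp.single_eq_same, Nat.sub_self]
  rw [Nat.card_eq_one_iff_unique]
  refine ⟨⟨?_⟩, ⟨⟨{χ₀}, hB₀ ▸ Blocks.isPBlock_blockOf χ₀, hd₀⟩⟩⟩
  rintro ⟨B, hB, hB0⟩ ⟨C, hC, hC0⟩
  have key : ∀ B : Set (Cfsg.IrrCharacter (Matrix.SpecialLinearGroup (Fin n) F)), Cfsg.IsPBlock M B →
      Cfsg.blockDefect p B = 0 → B = {χ₀} := by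
    intro B hB hB0
    obtain ⟨χ, hχ⟩ := Blocks.IsPBlock.nonempty hM hB
    rw [BlockChar.blockDefect_eq] at hB0
    have h1 := BlockChar.minVal_le (p := p) hχ
    have hc := hcodeg χ (by omega)
    have hBs := BlockThms.blockOf_eq_singleton hM χ hc
    have : Fintype (UniTri.unitri n F) := Fintype.ofFinite _
    have hvan : ∀ (ψ : Cfsg.IrrCharacter (Matrix.SpecialLinearGroup (Fin n) F)),
        ¬ p ∣ Nat.card (Matrix.SpecialLinearGroup (Fin n) F) /
          Cfsg.charDegree (ψ : Matrix.SpecialLinearGroup (Fin n) F → ℂ) →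
        ∀ x : UniTri.unitri n F, x ≠ 1 →
          (ψ : Matrix.SpecialLinearGroup (Fin n) F → ℂ) (x : Matrix.SpecialLinearGroup (Fin n) F) = 0 := by
      intro ψ hψ x hx
      refine BlockThms.eq_zero_of_not_dvd_codegree hM ψ hψ (fun hreg => hreg ?_)
      obtain ⟨j, hj⟩ := IsPGroup.iff_orderOf.1 (UniTri.isPGroup_unitri (n := n) (K := F) p) x
      rw [show orderOf (x : Matrix.SpecialLinearGroup (Fin n) F) = orderOf x from
        orderOf_injective (UniTri.unitri n F).subtype Subtype.val_injective x, hj]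
      exact dvd_pow_self p fun h0 => hx (orderOf_eq_one_iff.1 (by rw [hj, h0, pow_zero]))
    rw [Blocks.IsPBlock.eq_blockOf hM hB hχ, hBs, show χ = χ₀ from
      Subtype.ext (SLSteinberg.eq_of_vanish χ.2 χ₀.2 (hvan χ hc) (hvan χ₀ hc₀))]
  exact Subtype.ext ((key B hB hB0).trans (key C hC hC0).symm)

end Cfsg.Agent.S4538
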