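import Cfsg.Statements.S2440
import Cfsg.Agent.S4538
import Cfsg.Agent.BlockThms.FullDefect
import Cfsg.Agent.Classical.LinearBasic
-- import your own Cfsg.Agent.* helpers here

set_option autoImplicit false
open Cfsg

namespace Cfsg.Agent.S2440

open Matrix in
theorem card_center_classes {F : Type*} [Field F] [Fintype F] {n : ℕ} (p : ℕ) [Fact p.Prime]
    [CharP F p] (hn : 2 ≤ n) (P : Sylow p (SpecialLinearGroup (Fin n) F))
    (hP : (P : Subgroup (SpecialLinearGroup (Fin n) F)) ≠ ⊥) :
    Nat.card {C : ConjClasses (Subgroup.normalizer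
        ((P : Subgroup (SpecialLinearGroup (Fin n) F)) : Set (SpecialLinearGroup (Fin n) F))) //
      ∀ m, ConjClasses.mk m = C → ¬ p ∣ orderOf m ∧ (m : SpecialLinearGroup (Fin n) F) ∈
        Subgroup.centralizer ((P : Subgroup (SpecialLinearGroup (Fin n) F)) : Set _)} =
      Nat.gcd n (Fintype.card F - 1) := by
  classical
  have hp : p.Prime := Fact.out
  have : Nonempty (Fin n) := ⟨⟨0, by omega⟩⟩
  set N := Subgroup.normalizer
    ((P : Subgroup (SpecialLinearGroup (Fin n) F)) : Set (SpecialLinearGroup (Fin n) F)) with hN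
  have hcore : (Cfsg.pCore p N).map N.subtype = (P : Subgroup (SpecialLinearGroup (Fin n) F)) := by
    refine P.3 (Core.pCore_isPGroup.map _) fun x hx => ?_
    have : ((P : Subgroup (SpecialLinearGroup (Fin n) F)).subgroupOf N).Normal :=
      (Subgroup.normal_subgroupOf_iff_le_normalizer Subgroup.le_normalizer).2 le_rfl
    exact ⟨⟨x, Subgroup.le_normalizer hx⟩, Core.le_pCore
      (N := (P : Subgroup (SpecialLinearGroup (Fin n) F)).subgroupOf N)
      (P.2.comap_of_injective N.subtype N.subtype_injective) (show _ from hx), rfl⟩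
  have hcard := Classical.card_center_sl (ι := Fin n) (F := F)
  rw [Fintype.card_fin] at hcard
  rw [← hcard]
  have hZN : Subgroup.center (SpecialLinearGroup (Fin n) F) ≤ N := fun z hz => by
    rw [hN, Subgroup.mem_normalizer_iff]
    intro x
    rw [(Subgroup.mem_center_iff.1 hz x).symm, mul_inv_cancel_right]
  have hord : ∀ z ∈ Subgroup.center (SpecialLinearGroup (Fin n) F), ¬ p ∣ orderOf z := by
    intro z hz h
    have hdvd := h.trans (Subgroup.orderOf_dvd_natCard _ hz)
    rw [hcard] at hdvd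
    obtain ⟨k, hk, hF⟩ := FiniteField.card F p
    have h1 := hdvd.trans (Nat.gcd_dvd_right _ _)
    have h2 : p ∣ Fintype.card F := hF ▸ dvd_pow_self p k.pos.ne'
    have h3 := Nat.dvd_sub h2 h1
    rw [Nat.sub_sub_self Fintype.card_pos, Nat.dvd_one] at h3
    exact hp.one_lt.ne' h3
  have hmem : ∀ (z) (hz : z ∈ Subgroup.center (SpecialLinearGroup (Fin n) F)) (m : N),
      ConjClasses.mk m = ConjClasses.mk (⟨z, hZN hz⟩ : N) → (m : SpecialLinearGroup (Fin n) F) = z := by
    intro z hz m hm
    obtain ⟨k, hk⟩ := isConj_iff.1 (ConjClasses.mk_eq_mk_iff_isConj.1 hm.symm)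
    rw [← hk]
    show (k : SpecialLinearGroup (Fin n) F) * z * (k : SpecialLinearGroup (Fin n) F)⁻¹ = z
    rw [Subgroup.mem_center_iff.1 hz k, mul_inv_cancel_right]
  refine (Nat.card_congr (Equiv.ofBijective
    (fun z : Subgroup.center (SpecialLinearGroup (Fin n) F) =>
      (⟨ConjClasses.mk ⟨(z : SpecialLinearGroup (Fin n) F), hZN z.2⟩, fun m hm => ?_⟩ :
        {C : ConjClasses N // ∀ m : N, ConjClasses.mk m = C → ¬ p ∣ orderOf m ∧
          (m : SpecialLinearGroup (Fin n) F) ∈
            Subgroup.centralizer ((P : Subgroup (SpecialLinearGroup (Fin n) F)) : Set _)}))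
    ⟨fun a b h => ?_, ?_⟩)).symm
  · rw [← Subgroup.orderOf_coe, hmem _ z.2 m hm]
    exact ⟨hord _ z.2, Subgroup.center_le_centralizer _ z.2⟩
  · exact Subtype.ext (hmem _ b.2 _ (congrArg Subtype.val h))
  · rintro ⟨C, hC⟩
    obtain ⟨m, rfl⟩ := C.exists_rep
    obtain ⟨hm, hmC⟩ := hC m rfl
    rw [← Subgroup.orderOf_coe] at hm
    refine ⟨⟨(m : SpecialLinearGroup (Fin n) F), SLSteinberg.central_of_radical P.2 hP hm
      (fun x hx => Subgroup.mem_centralizer_singleton_iff.2 (Subgroup.mem_centralizer_iff.1 hmC x hx))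
      hcore⟩, rfl⟩

open Matrix in
theorem main {F : Type*} [Field F] [Fintype F] (p : ℕ) [Fact p.Prime] [CharP F p] (n : ℕ) (hn : 2 ≤ n)
    (M : Ideal Cfsg.AlgInt) (hM : Cfsg.IsPModular p M) :
    Nat.card {B : Set (Cfsg.IrrCharacter (SpecialLinearGroup (Fin n) F)) // Cfsg.IsPBlock M B} =
      Nat.gcd n (Fintype.card F - 1) + 1 := by
  classical
  have hp : p.Prime := Fact.out
  obtain ⟨P⟩ : Nonempty (Sylow p (SpecialLinearGroup (Fin n) F)) := inferInstance
  set a := (Nat.card (SpecialLinearGroup (Fin n) F)).factorization p with ha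
  have ha0 : a ≠ 0 := by
    intro h0
    have h01 : (⟨0, by omega⟩ : Fin n) < ⟨1, by omega⟩ := by simp
    obtain ⟨Q, hQ⟩ := UniTri.exists_sylow (n := n) (K := F) p
    have h1 := Q.card_eq_multiplicity
    rw [← ha, h0, pow_zero] at h1
    have h2 := UniTri.tv_mem h01 (1 : F)
    rw [← hQ, Subgroup.card_eq_one.1 h1, Subgroup.mem_bot] at h2
    have h3 := UniTri.tv_apply h01.ne (1 : F) ⟨0, by omega⟩ ⟨1, by omega⟩
    rw [h2, Matrix.SpecialLinearGroup.coe_one, if_pos ⟨rfl, rfl⟩, Matrix.one_apply_ne h01.ne, zero_add] at h3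
    exact zero_ne_one h3
  have hP : (P : Subgroup (SpecialLinearGroup (Fin n) F)) ≠ ⊥ := by
    intro h
    have h1 := P.card_eq_multiplicity
    rw [h, Subgroup.card_bot] at h1
    exact ha0 ((pow_eq_one_iff.1 h1.symm).resolve_left hp.ne_one)
  obtain ⟨h0, hdich⟩ := S4538.result n hn p M hM (F := F)
  have hfull := DefectThms.card_full_defect hM P
  rw [card_center_classes p hn P hP] at hfull
  have hFin : Finite (Set (Cfsg.IrrCharacter (SpecialLinearGroup (Fin n) F))) := inferInstance
  rw [← Nat.card_congr (Equiv.sumCompl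
    fun B : {B : Set (Cfsg.IrrCharacter (SpecialLinearGroup (Fin n) F)) // Cfsg.IsPBlock M B} =>
      Cfsg.blockDefect p B.1 = 0), Nat.card_sum,
    Nat.card_congr (Equiv.subtypeSubtypeEquivSubtypeInter
      (fun B : Set (Cfsg.IrrCharacter (SpecialLinearGroup (Fin n) F)) => Cfsg.IsPBlock M B)
      fun B => Cfsg.blockDefect p B = 0), h0, ← hfull,
    Nat.card_congr (Equiv.subtypeSubtypeEquivSubtypeInter
      (fun B : Set (Cfsg.IrrCharacter (SpecialLinearGroup (Fin n) F)) => Cfsg.IsPBlock M B)
      fun B => ¬ Cfsg.blockDefect p B = 0), add_comm]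
  refine congrArg (· + 1) (Nat.card_congr (Equiv.subtypeEquivRight fun B => and_congr_right fun hB => ?_))
  rw [DefectThms.isDefectGroup_sylow_iff hM hB P]
  rcases hdich B hB with h | h
  · rw [← ha, h]
    constructor <;> intro <;> omega
  · rw [← ha, h, ← ha]
    constructor <;> intro <;> omega


/-- For a prime p and n ≥ 2, the group SL_n over the field with p elements has exactly gcd(n, p − 1) + 1 p-blocks relative to any maximal ideal of the algebraic integers containing p, that is, one more than the order of its centre (only this total is asserted; it arises as the defect-zero block of the Steinberg character plus as many blocks of maximal defect as the order of the centre). -/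
theorem result (p : ℕ) [Fact p.Prime] (n : ℕ) (hn : 2 ≤ n) (M : Ideal Cfsg.AlgInt) (hM : Cfsg.IsPModular p M) :
    Nat.card {B : Set (Cfsg.IrrCharacter (Matrix.SpecialLinearGroup (Fin n) (ZMod p))) // Cfsg.IsPBlock M B} =
      Nat.gcd n (p - 1) + 1 := by
  have h := main (F := ZMod p) p n hn M hM
  rwa [ZMod.card] at h

end Cfsg.Agent.S2440
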