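import Cfsg.Statements.S2444
import Cfsg.Agent.OreSL.Blocks
import Cfsg.Agent.OreSL.Scalar

set_option autoImplicit false
open Cfsg

namespace Cfsg.Agent.S2444

/-- In the special linear group SL(n,F) over a finite field F, with n ≥ 2 and (n, |F|) not (2,2) or (2,3), every element is a commutator a·b·a⁻¹·b⁻¹ of two elements of SL(n,F). -/
theorem result {F : Type*} [Field F] [Fintype F] (n : ℕ) (hn : 2 ≤ n) (hex : n = 2 → 4 ≤ Fintype.card F) :
    ∀ g : Matrix.SpecialLinearGroup (Fin n) F, ∃ a b : Matrix.SpecialLinearGroup (Fin n) F, g = a * b * a⁻¹ * b⁻¹ := by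
  classical
  intro g
  set T : Module.End F (Fin n → F) := Matrix.toLin' g.1 with hT
  have hdet : LinearMap.det T = 1 := by rw [hT, LinearMap.det_toLin']; exact g.2
  have key : OreSL.IsComm T := by
    by_cases hs : ∃ a : F, T = a • LinearMap.id
    · obtain ⟨a, ha⟩ := hs
      rw [ha]
      refine OreSL.isComm_scalar ?_
      rw [ha, LinearMap.det_smul, LinearMap.det_id, mul_one, Module.finrank_fin_fun] at hdet
      exact hdet
    · push Not at hs
      refine OreSL.isComm_of_not_scalar hdet hs ?_
      rw [Module.finrank_fin_fun]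
      by_cases h2 : n = 2
      · right
        obtain ⟨a, ha⟩ : ∃ a : F, a ∉ ({0, 1, -1} : Finset F) := by
          by_contra h
          push Not at h
          have h1 : ({0, 1, -1} : Finset F) = Finset.univ := Finset.eq_univ_of_forall h
          have h4 := hex h2
          rw [← Finset.card_univ, ← h1] at h4
          have := (Finset.card_le_three : ({0, 1, -1} : Finset F).card ≤ 3)
          omega
        simp only [Finset.mem_insert, Finset.mem_singleton, not_or] at ha
        exact ⟨a, ha.1, fun h => (mul_self_eq_one_iff.1 h).elim ha.2.1 ha.2.2⟩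
      · left; omega
  obtain ⟨a, c, ha, hc, h⟩ := key
  refine ⟨⟨LinearMap.toMatrix' a, by rw [LinearMap.det_toMatrix']; exact ha⟩,
    ⟨LinearMap.toMatrix' c, by rw [LinearMap.det_toMatrix']; exact hc⟩, ?_⟩
  refine eq_mul_inv_of_mul_eq (eq_mul_inv_of_mul_eq ?_)
  apply Subtype.ext
  have h' := congrArg LinearMap.toMatrix' h
  simp only [Module.End.mul_eq_comp, LinearMap.toMatrix'_comp, hT, LinearMap.toMatrix'_toLin'] at h'
  exact h'

end Cfsg.Agent.S2444
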