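import Cfsg.Statements.S2450
-- import your own Cfsg.Agent.* helpers here

import Cfsg.Agent.SL2Class.PSL

set_option autoImplicit false
open Cfsg

namespace Cfsg.Agent.S2450

open Matrix SL2Class

section

variable {F : Type*} [Field F]

theorem tr_product (t u s : F) (ν μ : Fˣ) (Y : Matrix.SpecialLinearGroup (Fin 2) F)
    (hY : (Y : Matrix (Fin 2) (Fin 2) F) = !![s * ((μ⁻¹ : Fˣ) : F), -(μ : F) + s * u - s * s * ((μ⁻¹ : Fˣ) : F);
      ((μ⁻¹ : Fˣ) : F), u - s * ((μ⁻¹ : Fˣ) : F)]) :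
    tr (compT t ν * Y) = -(ν : F) * ((μ⁻¹ : Fˣ) : F) +
      ((ν⁻¹ : Fˣ) : F) * (-(μ : F) + s * u - s * s * ((μ⁻¹ : Fˣ) : F)) + t * (u - s * ((μ⁻¹ : Fˣ) : F)) := by
  rw [tr, Matrix.SpecialLinearGroup.coe_mul, coe_compT, hY]
  simp [Matrix.mul_apply, Fin.sum_univ_two]
  ring

theorem exists_compT [Fintype F] {x : Matrix.SpecialLinearGroup (Fin 2) F} (hx : NonScalar x) :
    ∃ ν : Fˣ, IsConj (compT (tr x) ν) x := by
  have e1 : compT (tr x) (1 : Fˣ) = comp (tr x) := Subtype.ext (by simp [coe_compT, coe_comp])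
  by_cases h2 : (2 : F) = 0
  · exact ⟨1, isConj_of_tr (nonScalar_compT _ _) hx (tr_compT _ _) (Or.inr h2)⟩
  · obtain ⟨ν, hν⟩ := exists_nonsquare (F := F) h2
    rcases isConj_comp_or hx hν with h | h
    · exact ⟨1, e1 ▸ h⟩
    · exact ⟨ν, h⟩

theorem quad_not_two_valued [Fintype F] (h4 : 4 ≤ Fintype.card F) {A : F} (hA : A ≠ 0) (B C w : F) :
    ∃ s : F, ¬ (A * s * s + B * s + C = w ∨ A * s * s + B * s + C = -w) := by
  classical
  by_contra h
  push Not at h
  have hroots : ∀ v : F, (Finset.univ.filter fun s : F => A * s * s + B * s + C = v).card ≤ 2 := by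
    intro v
    have hne : Polynomial.C A * Polynomial.X ^ 2 + Polynomial.C B * Polynomial.X + Polynomial.C (C - v) ≠ 0 :=
      fun e => by
        have := Polynomial.degree_quadratic (b := B) (c := C - v) hA
        rw [e, Polynomial.degree_zero] at this
        exact absurd this (by decide)
    refine le_trans (Finset.card_le_card (t := (Polynomial.C A * Polynomial.X ^ 2 + Polynomial.C B * Polynomial.X +
      Polynomial.C (C - v)).roots.toFinset) fun s hs => ?_) ?_
    · simp at hs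
      rw [Multiset.mem_toFinset, Polynomial.mem_roots hne]
      simp
      linear_combination hs
    · refine (Multiset.toFinset_card_le _).trans ((Polynomial.card_roots' _).trans ?_)
      rw [Polynomial.natDegree_quadratic hA]
  have hsub : (Finset.univ : Finset F) ⊆ (Finset.univ.filter fun s : F => A * s * s + B * s + C = w) ∪
      (Finset.univ.filter fun s : F => A * s * s + B * s + C = -w) := fun s _ => by
    simp; exact h s
  have hc := (Finset.card_le_card hsub).trans (Finset.card_union_le _ _)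
  rw [Finset.card_univ] at hc
  have h1 := hroots w
  have h1' := hroots (-w)
  by_cases h2 : (2 : F) = 0
  · have e : -w = w := by linear_combination -w * h2
    have hsub' : (Finset.univ : Finset F) ⊆ Finset.univ.filter fun s : F => A * s * s + B * s + C = w := fun s _ => by
      simp; exact (h s).elim id fun h' => h'.trans e
    have hc' := Finset.card_le_card hsub'
    rw [Finset.card_univ] at hc'
    omega
  · have := card_odd_of_two_ne_zero h2
    omega

end


/-- The Arad–Herzog conjecture for PSL(2,q): let F be a finite field with q ≥ 4 elements. For any two non-identity elements a, b of PSL(2,F), the set of products of a conjugate of a with a conjugate of b is not a single conjugacy class. -/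
theorem result {F : Type*} [Field F] [Fintype F] (h4 : 4 ≤ Fintype.card F)
    (a b : Matrix.ProjectiveSpecialLinearGroup (Fin 2) F) (ha : a ≠ 1) (hb : b ≠ 1) (c : Matrix.ProjectiveSpecialLinearGroup (Fin 2) F) :
    {g : Matrix.ProjectiveSpecialLinearGroup (Fin 2) F | ∃ u v : Matrix.ProjectiveSpecialLinearGroup (Fin 2) F, g = (u * a * u⁻¹) * (v * b * v⁻¹)} ≠ {g | IsConj c g} := by
  classical
  obtain ⟨x, rfl⟩ := proj_surjective a
  obtain ⟨y, rfl⟩ := proj_surjective b
  obtain ⟨z, rfl⟩ := proj_surjective c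
  have hxs : NonScalar x := fun h => ha (proj_eq_one.2 (mem_center_iff.2 (fun h' => h' h)))
  have hys : NonScalar y := fun h => hb (proj_eq_one.2 (mem_center_iff.2 (fun h' => h' h)))
  obtain ⟨ν, hν⟩ := exists_compT hxs
  obtain ⟨μ, hμ⟩ := exists_compT hys
  intro hset
  set t := tr x
  set u := tr y
  obtain ⟨kx, hkx⟩ := isConj_iff.1 hν
  obtain ⟨ky, hky⟩ := isConj_iff.1 hμ
  obtain ⟨s, hs⟩ := quad_not_two_valued h4 (A := -(((ν⁻¹ : Fˣ) : F) * ((μ⁻¹ : Fˣ) : F)))
    (neg_ne_zero.2 (mul_ne_zero (Units.ne_zero _) (Units.ne_zero _)))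
    (((ν⁻¹ : Fˣ) : F) * u - t * ((μ⁻¹ : Fˣ) : F))
    (-(ν : F) * ((μ⁻¹ : Fˣ) : F) - ((ν⁻¹ : Fˣ) : F) * (μ : F) + t * u) (tr z)
  set U : Matrix.SpecialLinearGroup (Fin 2) F := ⟨!![1, s; 0, 1], by simp [det_fin_two_of]⟩ with hU
  set Y := U * compT u μ * U⁻¹ with hY
  have hYc : (Y : Matrix (Fin 2) (Fin 2) F) = !![s * ((μ⁻¹ : Fˣ) : F), -(μ : F) + s * u - s * s * ((μ⁻¹ : Fˣ) : F);
      ((μ⁻¹ : Fˣ) : F), u - s * ((μ⁻¹ : Fˣ) : F)] := by
    rw [hY, Matrix.SpecialLinearGroup.coe_mul, Matrix.SpecialLinearGroup.coe_mul, Matrix.SpecialLinearGroup.coe_inv,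
      coe_compT, hU, Matrix.adjugate_fin_two]
    ext i j
    fin_cases i <;> fin_cases j <;> simp [Matrix.mul_apply, Fin.sum_univ_two, Matrix.vecMul, dotProduct] <;> ring
  have hmem : proj (compT t ν * Y) ∈ {g | IsConj (proj z) g} := by
    rw [← hset]
    refine ⟨(proj kx)⁻¹, proj (U * ky⁻¹), ?_⟩
    rw [← hkx, ← hky, hY]
    simp only [map_mul, map_inv]
    group
  obtain ⟨k, hk⟩ := isConj_iff.1 (show IsConj (proj z) (proj (compT t ν * Y)) from hmem)
  obtain ⟨k, rfl⟩ := proj_surjective k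
  rw [← map_inv, ← map_mul, ← map_mul] at hk
  refine hs ?_
  have e : -(((ν⁻¹ : Fˣ) : F) * ((μ⁻¹ : Fˣ) : F)) * s * s + (((ν⁻¹ : Fˣ) : F) * u - t * ((μ⁻¹ : Fˣ) : F)) * s +
      (-(ν : F) * ((μ⁻¹ : Fˣ) : F) - ((ν⁻¹ : Fˣ) : F) * (μ : F) + t * u) = tr (compT t ν * Y) := by
    rw [tr_product t u s ν μ Y hYc]; ring
  rw [e]
  rcases proj_eq_iff.1 hk with h | h <;> rw [h]
  · exact Or.inl (tr_conj k z)
  · exact Or.inr (by rw [tr_neg, tr_conj])

end Cfsg.Agent.S2450
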