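import Cfsg.Statements.S2459
import Cfsg.Agent.PSL3Cover.Three

set_option autoImplicit false
open Cfsg

namespace Cfsg.Agent.S2459

/-- A form of Thompson's conjecture for PSL(3,q), q > 2 (covering the non-identity elements), with a semisimple class: for F a finite field of characteristic p with more than 2 elements there is an element x of PSL(3,F) of order prime to p such that every non-identity element of PSL(3,F) is a product of two conjugates of x. -/
theorem result {F : Type*} [Field F] [Fintype F] (p : ℕ) [Fact p.Prime] [CharP F p] (h3 : 3 ≤ Fintype.card F) :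
    ∃ x : Matrix.ProjectiveSpecialLinearGroup (Fin 3) F, ¬ p ∣ orderOf x ∧ ∀ g : Matrix.ProjectiveSpecialLinearGroup (Fin 3) F, g ≠ 1 → ∃ u v : Matrix.ProjectiveSpecialLinearGroup (Fin 3) F, g = (u * x * u⁻¹) * (v * x * v⁻¹) := by
  classical
  obtain h4 | hF3 : 4 ≤ Fintype.card F ∨ Fintype.card F = 3 := by omega
  · obtain ⟨z, hz⟩ := IsCyclic.exists_generator (α := Fˣ)
    have hord : orderOf z = Fintype.card F - 1 := by
      rw [orderOf_eq_card_of_forall_mem_zpowers hz, Nat.card_units, Nat.card_eq_fintype_card]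
    have hz1 : (z : F) ≠ 1 := fun h => by
      rw [show z = 1 from Units.ext h, orderOf_one] at hord; omega
    have hz2 : (z : F) * z ≠ 1 := fun h => by
      have := Nat.le_of_dvd (by norm_num) (orderOf_dvd_of_pow_eq_one (show z ^ 2 = 1 by rw [pow_two]; exact Units.ext h))
      omega
    have hz0 := z.ne_zero
    let l : Fin 3 → F := ![1, z, (z : F)⁻¹]
    have hl : Function.Injective l := by
      intro i j h
      have e1 : (z : F) ≠ (z : F)⁻¹ := fun h' => hz2 (by nth_rewrite 2 [h']; exact mul_inv_cancel₀ hz0)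
      have e2 : (z : F)⁻¹ ≠ 1 := fun h' => hz1 (inv_eq_one.1 h')
      have e3 : z ≠ 1 := fun h' => hz1 (by rw [h']; rfl)
      fin_cases i <;> fin_cases j <;> simp [l, e1, e1.symm, e2, e2.symm, hz1, hz1.symm, e3] at h ⊢
    have hprod : l 0 * l 1 * l 2 = 1 := by simp [l, hz0]
    let D : Matrix.SpecialLinearGroup (Fin 3) F :=
      ⟨Matrix.diagonal l, by rw [Matrix.det_diagonal, Fin.prod_univ_three, hprod]⟩
    refine ⟨QuotientGroup.mk D, fun hdvd => ?_, fun g hg => PSL3Cover.cover D
      (PSL3Cover.torus_cyclic l hl hprod D rfl) (PSL3Cover.torus_rank_one l hl hprod D rfl) g hg⟩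
    have hD : D ^ (Fintype.card F - 1) = 1 := by
      refine Subtype.ext ?_
      rw [Matrix.SpecialLinearGroup.coe_pow, Matrix.SpecialLinearGroup.coe_one]
      show Matrix.diagonal l ^ _ = 1
      rw [Matrix.diagonal_pow, ← Matrix.diagonal_one]
      congr 1
      funext i
      refine FiniteField.pow_card_sub_one_eq_one (l i) ?_
      fin_cases i <;> simp [l, hz0]
    have h1 : p ∣ Fintype.card F - 1 := hdvd.trans (orderOf_dvd_of_pow_eq_one (by
      rw [← QuotientGroup.mk_pow, hD, QuotientGroup.mk_one]))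
    obtain ⟨n, -, hn⟩ := FiniteField.card F p
    have h2 : p ∣ Fintype.card F := hn ▸ dvd_pow_self p n.ne_zero
    have h3 := Nat.dvd_sub h2 h1
    rw [show Fintype.card F - (Fintype.card F - 1) = 1 by omega, Nat.dvd_one] at h3
    exact (Fact.out : p.Prime).one_lt.ne h3.symm
  · haveI : Fact (Nat.Prime 3) := ⟨Nat.prime_three⟩
    haveI : CharP F 3 := charP_of_card_eq_prime hF3
    have hp3 : p = 3 := CharP.eq F ‹CharP F p› ‹CharP F 3›
    let f : ZMod 3 →+* F := ZMod.castHom dvd_rfl F
    let φ : ZMod 3 ≃+* F := RingEquiv.ofBijective f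
      ((Fintype.bijective_iff_injective_and_card f).2 ⟨f.injective, by rw [ZMod.card, hF3]⟩)
    let D : Matrix.SpecialLinearGroup (Fin 3) F := ⟨PSL3Cover.comp3 (φ 0) (φ 2), by
      simp [PSL3Cover.comp3, Matrix.det_fin_three]⟩
    have hcls := @PSL3Cover.inClass_three F _ φ D rfl
    refine ⟨QuotientGroup.mk D, fun hdvd => ?_, fun g hg => PSL3Cover.cover D (fun t s => ?_) (fun a ha => ?_) g hg⟩
    · have hD : D ^ 13 = 1 := by
        refine Subtype.ext ?_
        rw [Matrix.SpecialLinearGroup.coe_pow, Matrix.SpecialLinearGroup.coe_one]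
        show PSL3Cover.comp3 (φ 0) (φ 2) ^ 13 = 1
        rw [← PSL3Cover.map_comp3, ← RingEquiv.mapMatrix_apply, ← map_pow, PSL3Cover.comp_pow, map_one]
      have h1 : p ∣ 13 := hdvd.trans (orderOf_dvd_of_pow_eq_one (by
        rw [← QuotientGroup.mk_pow, hD, QuotientGroup.mk_one]))
      rw [hp3] at h1
      norm_num at h1
    all_goals
      obtain ⟨x, hx, hx1⟩ : ∃ x ∈ PSL3Cover.table, x.1.map φ = _ := by
        first
          | obtain ⟨x, hx, e⟩ := PSL3Cover.table_comp (φ.symm t) (φ.symm s)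
            exact ⟨x, hx, by rw [e, PSL3Cover.map_comp3, φ.apply_symm_apply, φ.apply_symm_apply]⟩
          | obtain ⟨x, hx, e⟩ := PSL3Cover.table_nc (φ.symm a) ((map_ne_zero φ.symm).2 ha)
            exact ⟨x, hx, by rw [e, PSL3Cover.map_nc3, φ.apply_symm_apply]⟩
      obtain ⟨hmul, hB, hC⟩ := PSL3Cover.table_ok x hx
      refine ⟨_, _, hcls hB, hcls hC, 1, by simp, ?_⟩
      rw [Matrix.mul_one, Matrix.one_mul, ← hx1, ← hmul, Matrix.map_mul]

end Cfsg.Agent.S2459
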