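import Cfsg.Statements.S2461
import Cfsg.Agent.G2Square.Small

set_option autoImplicit false
open Cfsg

namespace Cfsg.Agent.S2461

/-- A form of Thompson's conjecture for the simple Chevalley groups G₂(q), q ≥ 3 (covering the non-identity elements), with a semisimple class: for F a finite field of characteristic p with at least 3 elements there is an element x of the Chevalley group of type G₂ over F of order prime to p such that every non-identity element of that group is a product of two conjugates of x. -/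
theorem result {F : Type*} [Field F] [Fintype F] (p : ℕ) [Fact p.Prime] [CharP F p] (h3 : 3 ≤ Fintype.card F) :
    ∃ x : Cfsg.Lie.chevG2.group F, ¬ p ∣ orderOf x ∧ ∀ g : Cfsg.Lie.chevG2.group F, g ≠ 1 → ∃ u v : Cfsg.Lie.chevG2.group F, g = (u * x * u⁻¹) * (v * x * v⁻¹) := by
  classical
  have hp : p.Prime := Fact.out
  obtain ⟨n, -, hn⟩ := FiniteField.card F p
  have hdvd : p ∣ Fintype.card F := hn ▸ dvd_pow_self p n.ne_zero
  -- it suffices to work with matrices
  suffices H : ∃ N, ¬ p ∣ N ∧ Cfsg.Agent.G2Square.SmallCover F N by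
    obtain ⟨N, hN, x, hx, hxN, hcov⟩ := H
    refine ⟨⟨x, hx⟩, fun hd => hN (hd.trans ?_), fun g hg => ?_⟩
    · rw [Subgroup.orderOf_mk]
      exact orderOf_dvd_of_pow_eq_one hxN
    · obtain ⟨a, ha, b, hb, e⟩ := hcov g g.2 (fun e => hg (Subtype.ext e))
      exact ⟨⟨a, ha⟩, ⟨b, hb⟩, Subtype.ext e⟩
  by_cases h7 : 7 ≤ Fintype.card F
  · refine ⟨Fintype.card F - 1, fun hd => ?_, ?_⟩
    · have h1 := Nat.dvd_sub hdvd hd
      rw [show Fintype.card F - (Fintype.card F - 1) = 1 by omega] at h1
      exact hp.not_dvd_one h1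
    · obtain ⟨c, hc, hcn⟩ := Cfsg.Agent.G2Square.exists_regular (F := F)
        (by rw [Nat.card_eq_fintype_card]; exact h7)
      rw [Nat.card_eq_fintype_card] at hcn
      refine ⟨Cfsg.Agent.Chev.torusHom c, Cfsg.Agent.G2Square.torus_mem_group c, ?_,
        fun g hg hne => Cfsg.Agent.G2Square.regular_cover hc hg hne⟩
      rw [← map_pow, hcn, map_one]
  have hcases : Fintype.card F = 3 ∨ Fintype.card F = 4 ∨ Fintype.card F = 5 := by
    have h6 : Fintype.card F ≠ 6 := by
      intro h
      have hpp : IsPrimePow (6 : ℕ) := h ▸ hn ▸ hp.isPrimePow.pow n.ne_zero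
      rw [isPrimePow_nat_iff_bounded] at hpp
      revert hpp
      decide
    omega
  rcases hcases with h | h | h
  · refine ⟨_, fun hd => ?_, Cfsg.Agent.G2Square.smallCover_three h⟩
    rw [h] at hd hdvd
    obtain rfl : p = 3 := (Nat.prime_dvd_prime_iff_eq hp Nat.prime_three).1 hdvd
    omega
  · refine ⟨_, fun hd => ?_, Cfsg.Agent.G2Square.smallCover_four h⟩
    rw [h] at hd hdvd
    obtain rfl : p = 2 := (Nat.prime_dvd_prime_iff_eq hp Nat.prime_two).1
      (hp.dvd_of_dvd_pow (show p ∣ 2 ^ 2 from hdvd))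
    omega
  · refine ⟨_, fun hd => ?_, Cfsg.Agent.G2Square.smallCover_five h⟩
    rw [h] at hd hdvd
    obtain rfl : p = 5 := (Nat.prime_dvd_prime_iff_eq hp Nat.prime_five).1 hdvd
    omega

end Cfsg.Agent.S2461
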