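import Cfsg.Statements.S2462
import Cfsg.Agent.D4Square.Three
import Cfsg.Agent.D4Square.TwoCover

set_option autoImplicit false
open Cfsg

namespace Cfsg.Agent.S2462

/-- A form of Thompson's conjecture for the triality groups ³D₄(q) (covering the non-identity elements) with a semisimple class: for q a power of the prime p and K the field with q³ elements there is an element x of ³D₄(q) (realised over K) of order prime to p such that every non-identity element of ³D₄(q) is a product of two conjugates of x. -/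
theorem result {K : Type*} [Field K] [Fintype K] (p : ℕ) [Fact p.Prime] [CharP K p] (q : ℕ) (hq : IsPrimePow q) (hK : Fintype.card K = q ^ 3) :
    ∃ x : Cfsg.Lie.twistedD4 K q, ¬ p ∣ orderOf x ∧ ∀ g : Cfsg.Lie.twistedD4 K q, g ≠ 1 → ∃ u v : Cfsg.Lie.twistedD4 K q, g = (u * x * u⁻¹) * (v * x * v⁻¹) := by
  classical
  have hp : p.Prime := Fact.out
  obtain ⟨φ, hφq, hφ, -⟩ := Cfsg.Agent.Chev.exists_pow_hom K (k := 3) hq hK
  set T := Cfsg.Agent.Chev.twistD4 K φ hφ with hT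
  have hG : T.G1 = Cfsg.Lie.twistedD4 K q := Cfsg.Agent.Chev.d4_G1_eq φ hφ hφq
  have hpq : p ∣ q := by
    have hdvd : p ∣ Fintype.card K := by
      rw [← CharP.cast_eq_zero_iff K p]
      exact FiniteField.cast_card_eq_zero K
    rw [hK] at hdvd
    exact hp.dvd_of_dvd_pow hdvd
  suffices H : ∃ x ∈ T.G1, (∃ n : ℕ, x ^ n = 1 ∧ ¬ p ∣ n) ∧
      ∀ g ∈ T.G1, g ≠ 1 → ∃ a ∈ T.G1, ∃ b ∈ T.G1, g = (a * x * a⁻¹) * (b * x * b⁻¹) by
    obtain ⟨x, hx, ⟨n, hn, hpn⟩, hc⟩ := H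
    rw [hG] at hx hc
    refine ⟨⟨x, hx⟩, fun hd => hpn (hd.trans ?_), fun g hg => ?_⟩
    · exact orderOf_dvd_of_pow_eq_one (Subtype.ext (by simpa using hn))
    · obtain ⟨a, ha, b, hb, e⟩ := hc g.1 g.2 fun e => hg (Subtype.ext e)
      exact ⟨⟨a, ha⟩, ⟨b, hb⟩, Subtype.ext e⟩
  have hq2 : 2 ≤ q := hq.two_le
  rcases Nat.lt_or_ge q 4 with h4 | h4
  · interval_cases q
    · have hp2 : p = 2 := (Nat.prime_dvd_prime_iff_eq hp Nat.prime_two).1 hpq
      subst hp2
      obtain ⟨x, hx, h21, hc⟩ := Cfsg.Agent.D4Square.cover_two φ hφ hφq (by simpa using hK)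
      exact ⟨x, hx, ⟨21, h21, by norm_num⟩, hc⟩
    · have hp3 : p = 3 := (Nat.prime_dvd_prime_iff_eq hp Nat.prime_three).1 hpq
      subst hp3
      obtain ⟨x, hx, h8, hc⟩ := Cfsg.Agent.D4Square.cover_three φ hφ hφq
      exact ⟨x, hx, ⟨8, h8, by norm_num⟩, hc⟩
  · obtain ⟨c, hc, hreg⟩ := Cfsg.Agent.D4Square.exists_regular φ hφ h4 hK hφq
    have hcT := T.mem_T1.2 ⟨c, hc, rfl⟩
    refine ⟨_, T.T1_le_G1 hcT, ⟨q ^ 3 - 1, ?_, fun hd => ?_⟩,
      fun g hg hne => Cfsg.Agent.D4Square.regular_cover φ hφ hc hreg hg hne⟩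
    · rw [← map_pow]
      have e : c ^ (q ^ 3 - 1) = 1 := by
        funext i
        rw [Pi.pow_apply, Pi.one_apply, ← hK, ← Fintype.card_units]
        exact pow_card_eq_one
      rw [e, map_one]
    · have h1 : 1 ≤ q ^ 3 := Nat.one_le_pow _ _ (by omega)
      have h3 := Nat.dvd_sub (dvd_pow hpq (show 3 ≠ 0 by norm_num)) hd
      rw [show q ^ 3 - (q ^ 3 - 1) = 1 by omega, Nat.dvd_one] at h3
      exact hp.one_lt.ne' h3

end Cfsg.Agent.S2462
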