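import Cfsg.Statements.S2463
import Cfsg.Agent.F4Square.Large
import Cfsg.Agent.F4Square.Two.Cover

set_option autoImplicit false
open Cfsg

namespace Cfsg.Agent.S2463

open Cfsg.Lie in
/-- Pull a covering element of a subgroup back along an isomorphism. -/
theorem transfer {M T : Type*} [Group M] [Group T] {G : Subgroup T} (e : M ≃* G) {x : T} (hx : x ∈ G)
    {n : ℕ} (hn : x ^ n = 1) (hodd : Odd n)
    (hcov : ∀ g ∈ G, g ≠ 1 → ∃ a ∈ G, ∃ b ∈ G, g = (a * x * a⁻¹) * (b * x * b⁻¹)) :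
    ∃ x : M, Odd (orderOf x) ∧ ∀ g : M, g ≠ 1 → ∃ u v : M, g = (u * x * u⁻¹) * (v * x * v⁻¹) := by
  refine ⟨e.symm ⟨x, hx⟩, ?_, fun g hg => ?_⟩
  · refine Odd.of_dvd_nat hodd (orderOf_dvd_of_pow_eq_one ?_)
    rw [← map_pow]
    refine (map_eq_one_iff _ e.symm.injective).2 (Subtype.ext ?_)
    simpa using hn
  · obtain ⟨a, ha, b, hb, h⟩ := hcov (e g : T) (e g).2 (fun h => hg (e.injective (by
      rw [map_one]; exact Subtype.ext h)))
    refine ⟨e.symm ⟨a, ha⟩, e.symm ⟨b, hb⟩, e.injective ?_⟩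
    simp only [map_mul, map_inv, MulEquiv.apply_symm_apply]
    exact Subtype.ext (by simpa using h)

/-- A form of Thompson's conjecture for the simple groups of type ²F₄ (covering the non-identity elements) with a semisimple class: if M is a large Ree group ²F₄(2^(2m+1)) with m ≥ 1, or the Tits group, then there is an element x of M of odd order such that every non-identity element of M is a product of two conjugates of x. -/
theorem result {M : Type*} [Group M] [Finite M] (hM : Cfsg.Lie.Iso2F4 M ∨ Cfsg.Lie.IsoTits M) :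
    ∃ x : M, Odd (orderOf x) ∧ ∀ g : M, g ≠ 1 → ∃ u v : M, g = (u * x * u⁻¹) * (v * x * v⁻¹) := by
  rcases hM with ⟨K, _, _, m, hm, hK, ⟨e⟩⟩ | ⟨⟨e⟩⟩
  · haveI : CharP K 2 := Cfsg.Agent.Chev.ReeF4.charP_two hK
    obtain ⟨x, hx, ⟨n, hn, hodd⟩, hcov⟩ := Cfsg.Agent.F4Square.cover_large hK hm
    exact transfer e hx hn hodd hcov
  · exact transfer e Cfsg.Agent.F4Square.Two.x_mem Cfsg.Agent.F4Square.Two.x_five
      (by decide) (fun g hg hne => Cfsg.Agent.F4Square.Two.cover hg hne)

end Cfsg.Agent.S2463
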