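import Cfsg.Statements.S2466
import Cfsg.Agent.AltOrders.Basic

set_option autoImplicit false
open Cfsg

namespace Cfsg.Agent.S2466

/-- Adjacency of odd primes in the prime graph of the alternating groups: let r ≠ s be odd primes at most n. The alternating group of degree n has an element of order r·s if and only if r + s ≤ n. -/
theorem result (n r s : ℕ) (hr : r.Prime) (hs : s.Prime) (hr2 : r ≠ 2) (hs2 : s ≠ 2) (hrs : r ≠ s) (hrn : r ≤ n) (hsn : s ≤ n) :
    (r * s ∈ Set.range (orderOf : alternatingGroup (Fin n) → ℕ)) ↔ r + s ≤ n := by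
  rw [AltOrders.mem_range_iff]
  constructor
  · rintro ⟨m, hsum, h2, -, hl⟩
    obtain ⟨a, ha, hra⟩ := AltOrders.exists_dvd_of_dvd_lcm hr (hl ▸ Dvd.intro s rfl : r ∣ m.lcm)
    obtain ⟨b, hb, hsb⟩ := AltOrders.exists_dvd_of_dvd_lcm hs (hl ▸ Dvd.intro_left r rfl : s ∣ m.lcm)
    have har := Nat.le_of_dvd (by have := h2 a ha; omega) hra
    have hbs := Nat.le_of_dvd (by have := h2 b hb; omega) hsb
    by_cases hab : a = b
    · subst hab
      have h1 := Nat.le_of_dvd (by have := h2 a ha; omega)
        (((Nat.coprime_primes hr hs).2 hrs).mul_dvd_of_dvd_of_dvd hra hsb)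
      have := Multiset.le_sum_of_mem ha
      have : r + s ≤ r * s := by nlinarith [hr.two_le, hs.two_le]
      omega
    · have := AltOrders.add_le_sum ha hb hab
      omega
  · intro h
    refine ⟨{r, s}, by simpa using h, ?_, ?_, ?_⟩
    · simp [hr.two_le, hs.two_le]
    · have := (hr.odd_of_ne_two hr2).add_odd (hs.odd_of_ne_two hs2)
      simpa using this.add (show Even 2 from even_two)
    · simpa [lcm_eq_nat_lcm] using ((Nat.coprime_primes hr hs).2 hrs).lcm_eq_mul

end Cfsg.Agent.S2466
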