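import Cfsg.Statements.S2467
import Cfsg.Agent.AltOrders.Basic

set_option autoImplicit false
open Cfsg

namespace Cfsg.Agent.S2467

/-- Adjacency of 2 and an odd prime in the prime graph of the alternating groups: let r be an odd prime at most n, with n ≥ 4. The alternating group of degree n has an element of order 2r if and only if r + 4 ≤ n. -/
theorem result (n r : ℕ) (hn : 4 ≤ n) (hr : r.Prime) (hr2 : r ≠ 2) (hrn : r ≤ n) :
    (2 * r ∈ Set.range (orderOf : alternatingGroup (Fin n) → ℕ)) ↔ r + 4 ≤ n := by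
  rw [AltOrders.mem_range_iff]
  have hr3 : 3 ≤ r := by have := hr.two_le; omega
  constructor
  · rintro ⟨m, hsum, h2, hev, hl⟩
    obtain ⟨a, ha, h2a⟩ := AltOrders.exists_dvd_of_dvd_lcm Nat.prime_two
      (hl ▸ Dvd.intro r rfl : 2 ∣ m.lcm)
    obtain ⟨b, hb, hrb⟩ := AltOrders.exists_dvd_of_dvd_lcm hr (hl ▸ Dvd.intro_left 2 rfl : r ∣ m.lcm)
    have hbr := Nat.le_of_dvd (by have := h2 b hb; omega) hrb
    obtain ⟨t, rfl⟩ := Multiset.exists_cons_of_mem ha
    obtain ⟨c, hc, hce⟩ := AltOrders.exists_second_even hev rfl (even_iff_two_dvd.2 h2a)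
    obtain ⟨t', rfl⟩ := Multiset.exists_cons_of_mem hc
    have h2r : ∀ x : ℕ, 2 ≤ x → 2 ∣ x → r ∣ x → 2 * r ≤ x := fun x hx h h' =>
      Nat.le_of_dvd (by omega)
        (((Nat.coprime_primes Nat.prime_two hr).2 (by omega)).mul_dvd_of_dvd_of_dvd h h')
    simp only [Multiset.sum_cons] at hsum
    have ha2 := h2 a (Multiset.mem_cons_self a _)
    have hc2 := h2 c (Multiset.mem_cons_of_mem (Multiset.mem_cons_self c t'))
    rcases Multiset.mem_cons.1 hb with rfl | hb
    · have := h2r b ha2 h2a hrb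
      omega
    rcases Multiset.mem_cons.1 hb with rfl | hb
    · have := h2r b hc2 hce.two_dvd hrb
      omega
    · have := Multiset.le_sum_of_mem hb
      omega
  · intro h
    refine ⟨{r, 2, 2}, ?_, ?_, ?_, ?_⟩
    · simp; omega
    · simp [hr.two_le]
    · obtain ⟨k, hk⟩ := hr.odd_of_ne_two hr2
      exact ⟨k + 4, by simp; omega⟩
    · simpa [mul_comm, lcm_eq_nat_lcm] using ((Nat.coprime_primes hr Nat.prime_two).2 hr2).lcm_eq_mul

end Cfsg.Agent.S2467
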