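import Cfsg.Statements.S2471
-- import your own Cfsg.Agent.* helpers here

import Cfsg.Agent.SL2Class.PSL

set_option autoImplicit false
open Cfsg

namespace Cfsg.Agent.S2471

open Matrix SL2Class


/-- In PSL(2,q) with q odd, the characteristic p is isolated from 2 in the prime graph: for F a finite field of odd characteristic p with at least 5 elements, PSL(2,F) has no element of order 2p. -/
theorem result {F : Type*} [Field F] [Fintype F] (p : ℕ) [Fact p.Prime] [CharP F p] (hp : p ≠ 2) (h5 : 5 ≤ Fintype.card F) (g : Matrix.ProjectiveSpecialLinearGroup (Fin 2) F) :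
    orderOf g ≠ 2 * p := by
  classical
  obtain ⟨x, rfl⟩ := proj_surjective g
  intro h
  obtain ⟨n, -, hn⟩ := FiniteField.card F p
  have hq : p ∣ Fintype.card F := hn ▸ dvd_pow_self p n.ne_zero
  have hp1 := (Fact.out : p.Prime).one_lt
  have hdvd : p ∣ orderOf (proj x) := ⟨2, by rw [h]; ring⟩
  have hno : ∀ c : ℕ, (c = Fintype.card F - 1 ∨ c = Fintype.card F + 1) →
      ¬ orderOf (proj x) ∣ c / Nat.gcd 2 (Fintype.card F - 1) := by
    intro c hc hd
    have h1 : p ∣ c := (hdvd.trans hd).trans (Nat.div_dvd_of_dvd (by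
      rcases hc with rfl | rfl
      · exact Nat.gcd_dvd_right _ _
      · have := Nat.gcd_dvd_left 2 (Fintype.card F - 1)
        have h2 := Nat.gcd_dvd_right 2 (Fintype.card F - 1)
        rw [show Fintype.card F + 1 = (Fintype.card F - 1) + 2 by omega]
        exact dvd_add h2 this))
    rcases hc with rfl | rfl
    · have := Nat.dvd_sub hq h1
      rw [show Fintype.card F - (Fintype.card F - 1) = 1 by omega, Nat.dvd_one] at this
      omega
    · have := Nat.dvd_sub h1 hq
      rw [Nat.add_sub_cancel_left, Nat.dvd_one] at this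
      omega
  rcases orderOf_proj_dvd x p with hd | hd | hd
  · have hle := Nat.le_of_dvd (by omega) (h ▸ hd : 2 * p ∣ p)
    omega
  · exact hno _ (Or.inl rfl) hd
  · exact hno _ (Or.inr rfl) hd

end Cfsg.Agent.S2471
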