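import Cfsg.Statements.S2474
import Cfsg.Agent.PrimeGraph.BothChar
import Cfsg.Agent.Classical.QuadTypes

set_option autoImplicit false
open Cfsg

namespace Cfsg.Agent.S2474

open Cfsg.Agent.Classical Cfsg.Agent.Classical.Quad Cfsg.Agent.PrimeGraph QuadraticMap Module in
theorem key.{u} {F : Type u} [Field F] [Fintype F] {ι : Type} [Fintype ι] [DecidableEq ι] (Q' : (ι → F) → F)
    (Q : QuadraticForm F (ι → F)) (hQe : ⇑Q = Q') (hQ : (polarBilin Q).Nondegenerate) (hodd : Odd (Fintype.card F))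
    (n : ℕ) (hn : 3 ≤ n) (hι : Fintype.card ι = 2 * n + 1) (r s : ℕ) (hr : r.Prime) (hs : s.Prime) (hrs : r ≠ s) :
    (r * s ∈ Set.range (orderOf : Cfsg.POmega F Q' → ℕ)) ↔ (r * s ∈ Set.range (orderOf : Cfsg.PSp n F → ℕ)) := by
  subst hQe
  have h2 : (2 : F) ≠ 0 := Ring.two_ne_zero fun h => by
    have := FiniteField.even_card_of_char_two h
    rcases hodd with ⟨i, hi⟩
    omega
  rw [range_orderOf_pomega Q hQ h2 ⟨n, hι⟩ (by omega), range_orderOf_psp]
  have hW : finrank F (ι → F) = 2 * n + 1 := by rw [finrank_fintype_fun_eq_card, hι]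
  have hV : finrank F (Fin n ⊕ Fin n → F) = 2 * n := finrank_symp
  haveI := nontrivial_symp (F := F) (m := n) (by omega)
  haveI : Finite (Fin n ⊕ Fin n → F) := Pi.finite
  haveI : Finite (Module.End F (Fin n ⊕ Fin n → F)) := Module.finite_of_finite F
  haveI : Finite (Alt.isoGroup (sympB n F)) := Finite.of_injective _ (spHomEnd_injective (sympB n F))
  have hZ : ∀ z ∈ Subgroup.center (Alt.isoGroup (sympB n F)), z * z = 1 := fun z hz => by
    refine spHomEnd_injective _ ?_
    rcases (mem_center_iff sympB_isAlt sympB_nondeg z).1 hz with h | h <;> rw [map_mul, h, map_one]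
    · rw [one_mul]
    · exact LinearMap.ext fun x => neg_neg x
  obtain ⟨p, hchar⟩ := CharP.exists F
  haveI : Fact p.Prime := ⟨CharP.char_is_prime F p⟩
  have hp2 : p ≠ 2 := fun h => h2 (by rw [← Nat.cast_ofNat, ← h]; exact CharP.cast_eq_zero F p)
  have hne : ∀ {a : ℕ}, a.Prime → a ≠ p → (a : F) ≠ 0 := fun {a} ha hap h => by
    rw [CharP.cast_eq_zero_iff F p] at h
    exact hap ((Nat.prime_dvd_prime_iff_eq (Fact.out) ha).1 h).symm
  suffices H : ∀ r s : ℕ, r.Prime → s.Prime → r ≠ s → r ≠ 2 → (s = 2 ∨ r ≠ p) →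
      ((∃ u ∈ commutator (oG Q), orderOf u = r * s) ↔
        ∃ g : Alt.isoGroup (sympB n F) ⧸ Subgroup.center (Alt.isoGroup (sympB n F)), orderOf g = r * s) by
    by_cases hr2 : r = 2
    · have := H s r hs hr (Ne.symm hrs) (by omega) (Or.inl hr2)
      rwa [mul_comm s r] at this
    by_cases hc : s = 2 ∨ r ≠ p
    · exact H r s hr hs hrs hr2 hc
    push Not at hc
    have := H s r hs hr (Ne.symm hrs) hc.1 (Or.inr (fun h => hrs (hc.2.trans h.symm)))
    rwa [mul_comm s r] at this
  intro r s hr hs hrs hr2 hc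
  by_cases hs2 : s = 2
  · subst hs2
    rw [quot_two hZ hr hr2]
    by_cases hrp : r = p
    · subst hrp
      exact iff_of_true (orth_two_char hQ h2 r hr2 (by omega)) (sp_two_char h2 r (by omega))
    · constructor
      · rintro ⟨u, hu, hord⟩
        exact sp_of_orth_two sympB_isAlt sympB_nondeg hV hQ hW h2 (by omega) hr hr2 (hne hr hrp) u hu hord
      · rintro ⟨S, y, hSy, hS, hy, hyy⟩
        exact orth_of_sp_two sympB_isAlt sympB_nondeg hV hQ hW h2 (by omega) hr hr2 (hne hr hrp) S y hSy hS hy hyy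
  have hrp : r ≠ p := hc.resolve_left hs2
  rw [quot_odd hZ ((hr.odd_of_ne_two hr2).mul (hs.odd_of_ne_two hs2))]
  by_cases hsp : s = p
  · subst hsp
    constructor
    · rintro ⟨u, -, hord⟩
      exact sp_of_orth_char sympB_isAlt sympB_nondeg hV hQ hW h2 hr hr2 hrp u hord
    · rintro ⟨g, hg⟩
      exact orth_of_sp_char sympB_isAlt sympB_nondeg hV hQ hW h2 (by omega) hr hr2 hp2 hrp g hg
  have hmF : ((r * s : ℕ) : F) ≠ 0 := by
    rw [Nat.cast_mul]
    exact mul_ne_zero (hne hr hrp) (hne hs hsp)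
  have hm : Odd (r * s) := (hr.odd_of_ne_two hr2).mul (hs.odd_of_ne_two hs2)
  constructor
  · rintro ⟨u, -, hord⟩
    exact sp_of_orth_odd sympB_isAlt sympB_nondeg hV hQ hW h2 hm hmF u hord
  · rintro ⟨g, hg⟩
    exact orth_of_sp_odd sympB_isAlt sympB_nondeg hV hQ hW h2 (by omega) hm hmF g hg

/-- For q odd and n ≥ 3 the simple groups PΩ(2n+1,q) and PSp(2n,q) (which have the same order but different sets of element orders) have the same prime graph: for all distinct primes r, s, one of them has an element of order r·s if and only if the other does. -/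
theorem result {F : Type*} [Field F] [Fintype F] (hodd : Odd (Fintype.card F)) (n : ℕ) (hn : 3 ≤ n) (r s : ℕ) (hr : r.Prime) (hs : s.Prime) (hrs : r ≠ s) :
    (r * s ∈ Set.range (orderOf : Cfsg.POmega F (Cfsg.quadFormOdd n F) → ℕ)) ↔ (r * s ∈ Set.range (orderOf : Cfsg.PSp n F → ℕ)) := by
  open Cfsg.Agent.Classical.Quad QuadraticMap in
  refine key _ ((hyp (sqForm F) n).comp (oddCoord n).toLinearMap) (funext fun x => oddCoord_map n x)
    (Iso.nondeg (Iso.symm ⟨oddCoord n, fun x => rfl⟩) (nondeg_hyp (nondeg_sqForm ?_) n)) hodd n hn (by simp; omega)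
    r s hr hs hrs
  exact Ring.two_ne_zero fun h => by
    have := FiniteField.even_card_of_char_two h
    rcases hodd with ⟨i, hi⟩
    omega

end Cfsg.Agent.S2474
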