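import Cfsg.Statements.S2477
import Cfsg.Agent.AltOrders.Basic

set_option autoImplicit false
open Cfsg

namespace Cfsg.Agent.S2477

/-- The set of element orders of the alternating group of degree 10 is {1, 2, 3, 4, 5, 6, 7, 8, 9, 10, 12, 15, 21}. -/
theorem result : Set.range (orderOf : alternatingGroup (Fin 10) → ℕ) = {1, 2, 3, 4, 5, 6, 7, 8, 9, 10, 12, 15, 21} := by
  have hall : ∀ l ∈ AltOrders.smallLists 5 2 10, (l.sum + l.length) % 2 = 0 →
      l.foldr Nat.lcm 1 ∈ [1, 2, 3, 4, 5, 6, 7, 8, 9, 10, 12, 15, 21] := by decide +kernel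
  have hex : ∀ N ∈ [1, 2, 3, 4, 5, 6, 7, 8, 9, 10, 12, 15, 21], ∃ l ∈ AltOrders.smallLists 5 2 10,
      (l.sum + l.length) % 2 = 0 ∧ l.foldr Nat.lcm 1 = N ∧ (∀ x ∈ l, 2 ≤ x) ∧ l.sum ≤ 10 := by decide +kernel
  have hlcm : ∀ l : List ℕ, (l : Multiset ℕ).lcm = l.foldr Nat.lcm 1 := by
    intro l
    induction l with
    | nil => rfl
    | cons a t ih => rw [← Multiset.cons_coe, Multiset.lcm_cons, ih]; rfl
  ext N
  constructor
  · rintro ⟨σ, rfl⟩
    obtain ⟨l, hl, hlm⟩ := AltOrders.mem_smallLists_of_multiset (fuel := 5) (b := 10)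
      (σ : Equiv.Perm (Fin 10)).cycleType (fun x hx => Equiv.Perm.two_le_of_mem_cycleType hx)
      (AltOrders.sum_cycleType_le _) (by norm_num)
    obtain ⟨p, hp⟩ := AltOrders.even_cycleType σ
    rw [← hlm, Multiset.sum_coe, Multiset.coe_card] at hp
    have := hall l hl (by omega)
    rw [AltOrders.orderOf_eq_lcm, ← hlm, hlcm]
    simpa using this
  · intro hN
    obtain ⟨l, -, hev, hl, h2, hs⟩ := hex N (by simpa using hN)
    obtain ⟨σ, hσ⟩ := AltOrders.exists_of_cycleType (n := 10) (l : Multiset ℕ) h2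
      (by rw [Multiset.sum_coe]; exact hs) (by rw [Multiset.sum_coe, Multiset.coe_card]; exact Nat.even_iff.2 hev)
    exact ⟨σ, by rw [hσ, hlcm, hl]⟩

end Cfsg.Agent.S2477
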