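import Cfsg.Statements.S2479
import Cfsg.Agent.MatModule.ClassNumberSLArith
import Cfsg.Agent.S2384
import Cfsg.Agent.S2325
import Cfsg.Agent.S2331

set_option autoImplicit false
open Cfsg

namespace Cfsg.Agent.S2479

/-- The number of conjugacy classes of SL(n,q): for F a finite field with q elements, the number k of conjugacy classes of SL(n,F) satisfies q^(n−1) < k and k ≤ (5/2)·q^(n−1) for n ≥ 2, and k ≤ q^(n−1) + 3q^(n−2) for n ≥ 3. -/
theorem result {F : Type*} [Field F] [Fintype F] (n : ℕ) (hn : 2 ≤ n) :
    Fintype.card F ^ (n - 1) < Nat.card (ConjClasses (Matrix.SpecialLinearGroup (Fin n) F)) ∧ 2 * Nat.card (ConjClasses (Matrix.SpecialLinearGroup (Fin n) F)) ≤ 5 * Fintype.card F ^ (n - 1) ∧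
      (3 ≤ n → Nat.card (ConjClasses (Matrix.SpecialLinearGroup (Fin n) F)) ≤ Fintype.card F ^ (n - 1) + 3 * Fintype.card F ^ (n - 2)) := by
  classical
  set q := Fintype.card F with hq
  have hq2 : 2 ≤ q := Fintype.one_lt_card
  refine ⟨?_, ?_, ?_⟩
  · obtain ⟨p, hp⟩ := CharP.exists F
    obtain ⟨E, hpp, -⟩ := FiniteField.card F p
    haveI := Fact.mk hpp
    have h := Cfsg.Agent.S2384.result (F := F) rfl p n (by omega)
    rw [← hq] at h
    rw [← h]
    haveI : Finite (ConjClasses (Matrix.SpecialLinearGroup (Fin n) F)) := Quotient.finite _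
    let i : Fin n := ⟨0, by omega⟩
    let j : Fin n := ⟨1, by omega⟩
    have hij : i ≠ j := by simp [i, j, Fin.ext_iff]
    let u : Matrix.SpecialLinearGroup (Fin n) F :=
      ⟨Matrix.transvection i j 1, Matrix.det_transvection_of_ne i j hij 1⟩
    have hu : ∀ k : ℕ, ((u ^ k : Matrix.SpecialLinearGroup (Fin n) F) : Matrix (Fin n) (Fin n) F) =
        Matrix.transvection i j (k : F) := by
      intro k
      induction k with
      | zero => simp [Matrix.transvection]
      | succ k ih =>
        rw [pow_succ, Matrix.SpecialLinearGroup.coe_mul, ih, Nat.cast_succ]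
        exact Matrix.transvection_mul_transvection_same i j hij _ _
    have hu1 : u ≠ 1 := fun e => by
      have h1 := congrArg (fun x : Matrix.SpecialLinearGroup (Fin n) F => (x : Matrix (Fin n) (Fin n) F) i j) e
      simp [u, Matrix.transvection, hij] at h1
    have hord : orderOf u = p := by
      refine orderOf_eq_prime (Subtype.ext ?_) hu1
      rw [hu, CharP.cast_eq_zero]
      simp [Matrix.transvection]
    refine Finite.card_subtype_lt (x := ConjClasses.mk u) ?_
    rintro ⟨g, hg, hcop⟩
    have hconj := ConjClasses.mk_eq_mk_iff_isConj.1 hg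
    obtain ⟨c, hc⟩ := isConj_iff.1 hconj
    have he : orderOf g = p := by
      rw [← hord, ← hc]
      exact (orderOf_injective (MulAut.conj c).toMonoidHom (MulAut.conj c).injective g).symm
    rw [he, Nat.coprime_self] at hcop
    exact hpp.one_lt.ne' hcop
  · rcases Nat.lt_or_ge n 3 with h | h
    · obtain rfl : n = 2 := by omega
      rcases Nat.even_or_odd q with he | ho
      · haveI : CharP F 2 := ringChar.of_eq (FiniteField.even_card_iff_char_two.2 (Nat.even_iff.1 he))
        rw [Cfsg.Agent.S2331.result, ← hq, show 2 - 1 = 1 from rfl, pow_one]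
        omega
      · rw [Cfsg.Agent.S2325.result ho, ← hq, show 2 - 1 = 1 from rfl, pow_one]
        have := Nat.odd_iff.1 ho
        omega
    · have hg := (Cfsg.Agent.ClassNumberSL.good hq2 h rfl).1
      have hk := Nat.le_of_mul_le_mul_left (Cfsg.Agent.ClassNumberSL.card_sl_le.trans hg) (by omega)
      have he : q ^ (n - 1) = q ^ (n - 2) * q := by rw [← pow_succ]; congr 1; omega
      rw [he] at hk ⊢
      have := Nat.mul_le_mul_left (q ^ (n - 2)) hq2
      omega
  · intro h
    exact Nat.le_of_mul_le_mul_left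
      (Cfsg.Agent.ClassNumberSL.card_sl_le.trans (Cfsg.Agent.ClassNumberSL.good hq2 h rfl).1) (by omega)

end Cfsg.Agent.S2479
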