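import Cfsg.Statements.S2480
import Cfsg.Agent.MatModule.ClassNumberSLArith
import Cfsg.Agent.S2479
import Cfsg.Agent.S2325
import Cfsg.Agent.S2331

set_option autoImplicit false
open Cfsg

namespace Cfsg.Agent.S2480

/-- The number of conjugacy classes of PSL(n,q): for F a finite field with q elements, n ≥ 2 and d = gcd(n, q − 1), the number k of conjugacy classes of PSL(n,F) satisfies q^(n−1) ≤ d·k ≤ q^(n−1) + 5q^(n−2). -/
theorem result {F : Type*} [Field F] [Fintype F] (n : ℕ) (hn : 2 ≤ n) :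
    Fintype.card F ^ (n - 1) ≤ Nat.gcd n (Fintype.card F - 1) * Nat.card (ConjClasses (Matrix.ProjectiveSpecialLinearGroup (Fin n) F)) ∧
      Nat.gcd n (Fintype.card F - 1) * Nat.card (ConjClasses (Matrix.ProjectiveSpecialLinearGroup (Fin n) F)) ≤ Fintype.card F ^ (n - 1) + 5 * Fintype.card F ^ (n - 2) := by
  classical
  set q := Fintype.card F with hq
  have hq2 : 2 ≤ q := Fintype.one_lt_card
  obtain ⟨h1, h2, h3⟩ := Cfsg.Agent.ClassNumberSL.card_psl_le (F := F) (n := n) (by omega)
  rw [← hq] at h1 h2 h3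
  refine ⟨le_trans (Cfsg.Agent.S2479.result (F := F) n hn).1.le h3, ?_⟩
  rcases Nat.lt_or_ge n 3 with h | h
  · obtain rfl : n = 2 := by omega
    rw [show 2 - 1 = 1 from rfl, pow_one, show 2 - 2 = 0 from rfl, pow_zero, mul_one]
    refine (h2 rfl).trans ?_
    rcases Nat.even_or_odd q with he | ho
    · haveI : CharP F 2 := ringChar.of_eq (FiniteField.even_card_iff_char_two.2 (Nat.even_iff.1 he))
      rw [Cfsg.Agent.S2331.result, ← hq]
      omega
    · rw [Cfsg.Agent.S2325.result ho, ← hq]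
  · refine Nat.le_of_mul_le_mul_left (?_ : (q - 1) * _ ≤ (q - 1) * _) (by omega)
    refine le_trans (Nat.mul_le_mul_left _ h1) (le_trans ?_ (Cfsg.Agent.ClassNumberSL.good hq2 h rfl).2)
    rw [mul_add]
    exact Nat.add_le_add_right Cfsg.Agent.ClassNumberSL.card_sl_le _

end Cfsg.Agent.S2480
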