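import Cfsg.Statements.S2481
import Cfsg.Agent.MatModule.ClassNumberSU
import Cfsg.Agent.S2386

set_option autoImplicit false
open Cfsg

namespace Cfsg.Agent.S2481

open Cfsg.Agent.USeq Cfsg.Agent.Classical in

/-- The number of conjugacy classes of SU(n,q): for n ≥ 2, q a prime power and F the field with q² elements, the number k of conjugacy classes of SU(n,q) (the determinant-one isometries of the standard Hermitian form on F^n) satisfies q^(n−1) ≤ k ≤ 8.26·q^(n−1). -/
theorem result {F : Type*} [Field F] [Fintype F] (n q : ℕ) (hn : 2 ≤ n) (hF : Fintype.card F = q ^ 2) :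
    q ^ (n - 1) ≤ Nat.card (ConjClasses (Cfsg.SU n F q)) ∧ 100 * Nat.card (ConjClasses (Cfsg.SU n F q)) ≤ 826 * q ^ (n - 1) := by
  classical
  obtain ⟨σ, hσq, hσ, hfix, hq⟩ := exists_powHom hF
  constructor
  · obtain ⟨p, hp⟩ := CharP.exists F
    obtain ⟨E, hpp, -⟩ := FiniteField.card F p
    haveI := Fact.mk hpp
    rw [← Cfsg.Agent.S2386.result hF p n (by omega)]
    exact Nat.card_le_card_of_injective _ Subtype.val_injective
  · haveI := (seqs_le (σ := σ) hσ hF hfix n 1 n le_rfl).1
    letI := Fintype.ofFinite (USeqs σ 1 n n)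
    have h : (q + 1) * Nat.card (ConjClasses (Cfsg.SU n F q)) ≤ suBound q n (Nat.gcd n (q + 1)) :=
      (Nat.mul_le_mul_left _ (card_su_le hσ hσq hfix)).trans ((sum_det_one_le hσ hF hfix).trans
        (sum_sq_le hσ hF hfix rfl))
    have h2 := suBound_le (D := Nat.gcd n (q + 1)) (show 2 ≤ q by omega) hn rfl
    refine Nat.le_of_mul_le_mul_left (?_ : (q + 1) * _ ≤ (q + 1) * _) (by omega)
    linarith

end Cfsg.Agent.S2481
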