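import Cfsg.Statements.S2485
-- import your own Cfsg.Agent.* helpers here

import Cfsg.Agent.GroupSub.GL2Two

set_option autoImplicit false
open scoped Pointwise
open Cfsg

namespace Cfsg.Agent.S2485

open Matrix hiding J
open GroupSub.GL2Two


/-- Let q = 2^k − 1 ≥ 7 be a prime and let G = PGL(2,q), the general linear group of degree 2 over the field with q elements modulo its centre. Then any two Sylow 2-subgroups of G have a non-trivial intersection: for a Sylow 2-subgroup H and every x ∈ G, H ∩ H^x ≠ 1. -/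
theorem result {q k : ℕ} [Fact q.Prime] (hk : q + 1 = 2 ^ k) (hq : 7 ≤ q)
    (H : Sylow 2 (GL (Fin 2) (ZMod q) ⧸ Subgroup.center (GL (Fin 2) (ZMod q))))
    (x : GL (Fin 2) (ZMod q) ⧸ Subgroup.center (GL (Fin 2) (ZMod q))) :
    (H : Subgroup (GL (Fin 2) (ZMod q) ⧸ Subgroup.center (GL (Fin 2) (ZMod q)))) ⊓ MulAut.conj x • (H : Subgroup _) ≠ ⊥ := by
  classical
  haveI : Fact (Nat.Prime 2) := ⟨Nat.prime_two⟩
  have h2 : (2 : ZMod q) ≠ 0 := by
    intro e
    have h : ((2 : ℕ) : ZMod q) = 0 := by exact_mod_cast e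
    exact absurd (Nat.le_of_dvd (by norm_num) ((CharP.cast_eq_zero_iff (ZMod q) q 2).1 h)) (by omega)
  have hq4 : q % 4 = 3 := by
    have hk2 : 2 ≤ k := by
      by_contra hlt
      interval_cases k <;> omega
    have h4 : (4 : ℕ) ∣ q + 1 := hk ▸ pow_dvd_pow 2 hk2
    omega
  have hsq : ∀ a : ZMod q, a * a ≠ -1 := fun a ha =>
    ZMod.exists_sq_eq_neg_one_iff.1 ⟨a, ha.symm⟩ hq4
  let G2 := GL (Fin 2) (ZMod q)
  let π : GL (Fin 2) (ZMod q) →* GL (Fin 2) (ZMod q) ⧸ Subgroup.center (GL (Fin 2) (ZMod q)) := QuotientGroup.mk' _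
  have hker : ∀ g : GL (Fin 2) (ZMod q), π g = 1 ↔ ∃ r : ZMod q, (g : Matrix (Fin 2) (Fin 2) (ZMod q)) = Matrix.scalar (Fin 2) r := fun g =>
    (QuotientGroup.eq_one_iff g).trans mem_center_iff_scalar
  have hneg : ∀ u v : GL (Fin 2) (ZMod q), (u : Matrix (Fin 2) (Fin 2) (ZMod q)) = -(v : Matrix (Fin 2) (Fin 2) (ZMod q)) → π u = π v := by
    intro u v h
    have e : π (v⁻¹ * u) = 1 := (hker _).2 ⟨-1, by rw [Units.val_mul, h, Matrix.mul_neg, Units.inv_mul, map_neg, map_one]⟩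
    rw [map_mul, map_inv] at e
    exact (inv_mul_eq_one.1 e).symm
  have hJJ : ((J (ZMod q) * J (ZMod q) : GL (Fin 2) (ZMod q)) : Matrix (Fin 2) (Fin 2) (ZMod q)) = -1 := by
    ext a b; fin_cases a <;> fin_cases b <;> simp [Matrix.mul_apply, Fin.sum_univ_two]
  set C := Subgroup.centralizer ({π (J (ZMod q))} : Set (GL (Fin 2) (ZMod q) ⧸ Subgroup.center (GL (Fin 2) (ZMod q)))) with hC
  have hmem : ∀ g, π g ∈ C → g ∈ cJ (ZMod q) ∨ Anti g := by
    intro g hg
    rw [hC, Subgroup.mem_centralizer_singleton_iff, ← map_mul, ← map_mul] at hg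
    have e : π ((J (ZMod q) * g)⁻¹ * (g * J (ZMod q))) = 1 := by rw [map_mul, map_inv, hg, inv_mul_cancel]
    obtain ⟨r, hr⟩ := (hker _).1 e
    have e1 : ((g * J (ZMod q) : GL (Fin 2) (ZMod q)) : Matrix (Fin 2) (Fin 2) (ZMod q)) = ((J (ZMod q) * g : GL (Fin 2) (ZMod q)) : Matrix (Fin 2) (Fin 2) (ZMod q)) * Matrix.scalar (Fin 2) r := by
      rw [← hr, ← Units.val_mul, mul_inv_cancel_left]
    have e2 := congrArg Matrix.det e1
    rw [Units.val_mul, Units.val_mul, Matrix.det_mul, Matrix.det_mul, Matrix.det_mul, Matrix.scalar_apply, Matrix.det_diagonal] at e2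
    simp [Matrix.det_fin_two] at e2
    have hd := det_ne g
    have hr2 : r ^ 2 = 1 := mul_left_cancel₀ hd (by linear_combination -e2)
    refine mem_or_anti_of_comm ?_
    rcases sq_eq_one_iff.1 hr2 with rfl | rfl
    · left; rw [e1, map_one, mul_one]
    · right; rw [e1, map_neg, map_one, Matrix.mul_neg, mul_one]
  have hpow : ∀ g ∈ cJ (ZMod q), π g ^ (q + 1) = 1 := by
    intro g hg
    obtain ⟨g1, g2⟩ := mem_cJ.1 hg
    rw [← map_pow, hker]
    set M : Matrix (Fin 2) (Fin 2) (ZMod q) := (g : Matrix (Fin 2) (Fin 2) (ZMod q)) with hM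
    refine ⟨M.det, ?_⟩
    rw [← conj_eM_mul hg, Units.val_mul, conj_eM_entries hg, Units.val_pow_eq_pow_val, pow_succ, ← hM]
    congr 1
    set K : Matrix (Fin 2) (Fin 2) (ZMod q) := !![0, -1; 1, 0] with hK
    have hdec : M = algebraMap (ZMod q) _ (M 0 0) + algebraMap (ZMod q) _ (M 1 0) * K := by
      ext a b; fin_cases a <;> fin_cases b <;> simp [hK, Matrix.algebraMap_matrix_apply, Matrix.mul_apply, Fin.sum_univ_two, g1, g2]
    have hK2 : K ^ 2 = -1 := by
      rw [pow_two]; ext a b; fin_cases a <;> fin_cases b <;> simp [hK, Matrix.mul_apply, Fin.sum_univ_two]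
    have hKq : K ^ q = -K := by
      calc K ^ q = K ^ (2 * (q / 2) + 1) := congrArg _ (by omega)
        _ = -K := by rw [pow_succ, pow_mul, hK2, Odd.neg_one_pow ⟨q / 4, by omega⟩, neg_one_mul]
    conv_lhs => rw [hdec]
    rw [add_pow_char_of_commute q (Algebra.commute_algebraMap_left _ _), Commute.mul_pow (Algebra.commute_algebraMap_left _ _), ← map_pow, ← map_pow, ZMod.pow_card, ZMod.pow_card, hKq]
    ext a b; fin_cases a <;> fin_cases b <;> simp [hK, Matrix.algebraMap_matrix_apply, Matrix.mul_apply, Fin.sum_univ_two]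
  have hCp : IsPGroup 2 C := by
    rintro ⟨y, hy⟩
    obtain ⟨g, rfl⟩ := QuotientGroup.mk'_surjective _ y
    refine ⟨k + 1, Subtype.ext ?_⟩
    show π g ^ 2 ^ (k + 1) = 1
    rcases hmem g hy with hg | ⟨g1, g2⟩
    · rw [pow_succ, pow_mul, ← hk, hpow g hg, one_pow]
    · rw [pow_succ', pow_mul]
      have e : π g ^ 2 = 1 := by
        rw [← map_pow, hker]
        refine ⟨(g : Matrix (Fin 2) (Fin 2) (ZMod q)) 0 0 ^ 2 + (g : Matrix (Fin 2) (Fin 2) (ZMod q)) 1 0 ^ 2, ?_⟩
        rw [Units.val_pow_eq_pow_val, pow_two]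
        ext a b; fin_cases a <;> fin_cases b <;> simp [Matrix.mul_apply, Fin.sum_univ_two, g1, g2] <;> ring
      rw [e, one_pow]
  obtain ⟨S, hS⟩ := exists_sylow_eq_Qs (F := ZMod q) h2
  have hSC : C = (S.mapSurjective (QuotientGroup.mk'_surjective (Subgroup.center (GL (Fin 2) (ZMod q))))).toSubgroup := by
    refine (S.mapSurjective (QuotientGroup.mk'_surjective (Subgroup.center (GL (Fin 2) (ZMod q))))).is_maximal' hCp ?_
    rw [Sylow.coe_mapSurjective, hS, Subgroup.map_le_iff_le_comap]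
    intro g hg
    show π g ∈ C
    rcases hg with hg | hg
    · rw [hC, Subgroup.mem_centralizer_singleton_iff, ← map_mul, ← map_mul, Subgroup.mem_centralizer_singleton_iff.1 hg.1]
    · have he : π (eM (ZMod q)) ∈ C := by
        rw [hC, Subgroup.mem_centralizer_singleton_iff, ← map_mul, ← map_mul]
        refine hneg _ _ ?_
        ext a b; fin_cases a <;> fin_cases b <;> simp [Matrix.mul_apply, Fin.sum_univ_two]
      have hk' : π (eM (ZMod q) * g) ∈ C := by
        rw [hC, Subgroup.mem_centralizer_singleton_iff, ← map_mul, ← map_mul, Subgroup.mem_centralizer_singleton_iff.1 hg.1]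
      rw [map_mul] at hk'
      exact (Subgroup.mul_mem_cancel_left C he).1 hk'
  obtain ⟨h, rfl⟩ := MulAction.exists_smul_eq (GL (Fin 2) (ZMod q) ⧸ Subgroup.center (GL (Fin 2) (ZMod q))) (S.mapSurjective (QuotientGroup.mk'_surjective (Subgroup.center (GL (Fin 2) (ZMod q))))) H
  obtain ⟨g, hg⟩ := QuotientGroup.mk'_surjective _ (h⁻¹ * x * h)
  obtain ⟨J', hJ'⟩ : ∃ J', J' = g * J (ZMod q) * g⁻¹ := ⟨_, rfl⟩
  have hJ'2 : (J' : Matrix (Fin 2) (Fin 2) (ZMod q)) * (J' : Matrix (Fin 2) (Fin 2) (ZMod q)) = -1 := by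
    rw [← Units.val_mul, show J' * J' = g * (J (ZMod q) * J (ZMod q)) * g⁻¹ by rw [hJ']; group, Units.val_mul, Units.val_mul, hJJ, Matrix.mul_neg, mul_one, Matrix.neg_mul, Units.mul_inv]
  obtain ⟨w, hw1, hw2, hw3⟩ : ∃ w : GL (Fin 2) (ZMod q), π w ≠ 1 ∧ π (w * J (ZMod q)) = π (J (ZMod q) * w) ∧ π (w * J') = π (J' * w) := by
    set P : Matrix (Fin 2) (Fin 2) (ZMod q) := (J' : Matrix (Fin 2) (Fin 2) (ZMod q)) with hP
    by_cases hc : J' ∈ cJ (ZMod q)
    · refine ⟨J (ZMod q), fun e => ?_, rfl, by rw [← Subgroup.mem_centralizer_singleton_iff.1 hc]⟩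
      obtain ⟨r, hr⟩ := (hker _).1 e
      simpa using congrFun (congrFun hr 1) 0
    · set M : Matrix (Fin 2) (Fin 2) (ZMod q) := !![0, -1; 1, 0] * P - P * !![0, -1; 1, 0] with hM
      have hM' : M = !![-P 1 0 - P 0 1, P 0 0 - P 1 1; P 0 0 - P 1 1, P 1 0 + P 0 1] := by
        ext a b; fin_cases a <;> fin_cases b <;> simp [hM, Matrix.mul_apply, Matrix.vecMul, dotProduct, Fin.sum_univ_two] <;> ring
      have hdet : M.det ≠ 0 := by
        intro e
        rw [hM', Matrix.det_fin_two_of] at e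
        by_cases hz : P 0 0 - P 1 1 = 0
        · rw [hz] at e
          have : P 1 0 + P 0 1 = 0 := mul_self_eq_zero.1 (by linear_combination -e)
          exact hc (mem_cJ.2 ⟨by linear_combination -hz, by linear_combination this⟩)
        · exact hsq ((P 1 0 + P 0 1) / (P 0 0 - P 1 1)) (by field_simp; linear_combination -e)
      let m : GL (Fin 2) (ZMod q) := Matrix.GeneralLinearGroup.mkOfDetNeZero M hdet
      have hm : (m : Matrix (Fin 2) (Fin 2) (ZMod q)) = M := rfl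
      refine ⟨m, fun e => hdet ?_, hneg _ _ ?_, hneg _ _ ?_⟩
      · obtain ⟨r, hr⟩ := (hker _).1 e
        rw [hm] at hr
        have h00 := congrFun (congrFun hr 0) 0
        have h11 := congrFun (congrFun hr 1) 1
        have h10 := congrFun (congrFun hr 1) 0
        simp [hM'] at h00 h11 h10
        have h0 : r = 0 := (mul_eq_zero.1 (show (2 : ZMod q) * r = 0 by linear_combination -h00 - h11)).resolve_left h2
        rw [hr, h0, map_zero, Matrix.det_zero]
      · rw [Units.val_mul, Units.val_mul, hm, coe_J, hM']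
        ext a b; fin_cases a <;> fin_cases b <;> simp [Matrix.mul_apply, Fin.sum_univ_two] <;> ring
      · rw [Units.val_mul, Units.val_mul, hm, ← hP, hM, Matrix.sub_mul, Matrix.mul_sub, Matrix.mul_assoc, hJ'2, ← Matrix.mul_assoc P P, hJ'2]
        simp [Matrix.mul_assoc]
  have hin : ∀ a z : GL (Fin 2) (ZMod q) ⧸ Subgroup.center (GL (Fin 2) (ZMod q)), a⁻¹ * z * a ∈ C → z ∈ MulAut.conj a • C := by
    intro a z hz
    rw [Subgroup.mem_pointwise_smul_iff_inv_smul_mem, ← map_inv]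
    simpa [MulAut.smul_def] using hz
  intro hbot
  refine hw1 ?_
  suffices h * π w * h⁻¹ = 1 by simpa using this
  rw [← Subgroup.mem_bot, ← hbot]
  rw [Sylow.coe_subgroup_smul, ← hSC, smul_smul, ← map_mul]
  refine ⟨hin _ _ ?_, hin _ _ ?_⟩
  · rw [show h⁻¹ * (h * π w * h⁻¹) * h = π w by group, hC, Subgroup.mem_centralizer_singleton_iff, ← map_mul, ← map_mul]
    exact hw2
  · rw [show (x * h)⁻¹ * (h * π w * h⁻¹) * (x * h) = (h⁻¹ * x * h)⁻¹ * π w * (h⁻¹ * x * h) by group, ← hg]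
    show (π g)⁻¹ * π w * π g ∈ C
    rw [hC, Subgroup.mem_centralizer_singleton_iff]
    rw [hJ'] at hw3
    simp only [map_mul, map_inv] at hw3
    calc (π g)⁻¹ * π w * π g * π (J (ZMod q)) = (π g)⁻¹ * (π w * (π g * π (J (ZMod q)) * (π g)⁻¹)) * π g := by group
      _ = (π g)⁻¹ * (π g * π (J (ZMod q)) * (π g)⁻¹ * π w) * π g := by rw [hw3]
      _ = π (J (ZMod q)) * ((π g)⁻¹ * π w * π g) := by group

end Cfsg.Agent.S2485
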