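import Cfsg.Statements.S2487
import Cfsg.Agent.OrthTwoSylow.Main
import Cfsg.Agent.Classical.OrthBlocks
-- import your own Cfsg.Agent.* helpers here

set_option autoImplicit false
open scoped Pointwise
open Cfsg

namespace Cfsg.Agent.S2487

/-- Let m ≥ 4 and let G be the full isometry group of the hyperbolic quadratic form x₁y₁ + ⋯ + x_m y_m on the 2m-dimensional space over the field with 2 elements (the orthogonal group O⁺(2m,2), which contains Ω⁺(2m,2) with index 2). Then any two Sylow 2-subgroups of G have a non-trivial intersection: for a Sylow 2-subgroup H and every x ∈ G, H ∩ H^x ≠ 1. -/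
theorem result {F : Type*} [Field F] [Fintype F] (hF : Fintype.card F = 2) {m : ℕ} (hm : 4 ≤ m)
    (H : Sylow 2 (Cfsg.isometryGroup F (Cfsg.quadFormPlus m F)))
    (x : Cfsg.isometryGroup F (Cfsg.quadFormPlus m F)) :
    (H : Subgroup (Cfsg.isometryGroup F (Cfsg.quadFormPlus m F))) ⊓ MulAut.conj x • (H : Subgroup _) ≠ ⊥ := by
  classical
  open Cfsg.Agent.Classical in
  have key : ∀ (Q : QuadraticForm F (Fin m ⊕ Fin m → F)), ⇑Q = Cfsg.quadFormPlus m F →
      (QuadraticMap.polarBilin Q).Nondegenerate →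
      ∀ H K : Sylow 2 (Cfsg.isometryGroup F ⇑Q), (H : Subgroup (Cfsg.isometryGroup F ⇑Q)) ⊓ K ≠ ⊥ := by
    intro Q hQe hQ H K
    refine Cfsg.Agent.OrthTwoSylow.sylow_inf_ne_bot (Q := Q) (by rw [Nat.card_eq_fintype_card, hF])
      ((Quad.oG Q).subtype.comp (Quad.oEquiv Q).toMonoidHom) (fun g => ((Quad.oEquiv Q) g).2)
      (Subtype.val_injective.comp (Quad.oEquiv Q).injective) hQ (m := m) (by simp [two_mul])
      (fun f hf => ⟨(Quad.oEquiv Q).symm ⟨f, hf⟩, by simp⟩) ?_ (by omega) H K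
    obtain ⟨⟨W, hW, hWd⟩, -⟩ := Quad.plus_index (F := F) m
    exact ⟨W, fun u hu => by rw [hQe]; exact hW u hu, hWd⟩
  have hmain : ∀ (f : (Fin m ⊕ Fin m → F) → F),
      (∃ Q : QuadraticForm F (Fin m ⊕ Fin m → F), ⇑Q = f ∧ f = Cfsg.quadFormPlus m F ∧
        (QuadraticMap.polarBilin Q).Nondegenerate) →
      ∀ H K : Sylow 2 (Cfsg.isometryGroup F f), (H : Subgroup (Cfsg.isometryGroup F f)) ⊓ K ≠ ⊥ := by
    rintro f ⟨Q, rfl, hf, hQ⟩ H K
    exact key Q hf hQ H K
  exact hmain _ ⟨Cfsg.Agent.Classical.Quad.plusQ F m, Cfsg.Agent.Classical.Quad.coe_plusQ, rfl,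
    Cfsg.Agent.Classical.Quad.nondeg_plusQ⟩ H (MulAut.conj x • H)

end Cfsg.Agent.S2487
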