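import Cfsg.Statements.S2488
import Cfsg.Agent.S4231
import Cfsg.Agent.Fusion.PGroup
import Cfsg.Agent.SylQuot.AltSix

set_option autoImplicit false
open Cfsg
open scoped Pointwise

namespace Cfsg.Agent.S2488

open SylQuot.AltSix

theorem conj_injective : Function.Injective (MulAut.conj : A6 →* MulAut A6) := by
  rw [injective_iff_map_eq_one]
  intro a ha
  have hc : ∀ b : A6, a * b = b * a := fun b => by
    have h := congrArg (fun φ : MulAut A6 => φ b) ha
    change a * b * a⁻¹ = b at h
    exact mul_inv_eq_iff_eq_mul.mp h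
  have : ∀ a : A6, a * p3 = p3 * a → a * q5 = q5 * a → a = 1 := by decide +kernel
  exact this a (hc p3) (hc q5)

/-- An automorphism of five-power free order fixing an element of order five and inverting
nothing else: the existence of a nontrivial common fixer in the order five case. -/
theorem exists_fix_five (hM : Nat.card (MulAut A6) = 1440) {w : A6} (hw : w * w = 1)
    (h5 : (z0 * w) ^ 5 = 1) (hne : z0 * w ≠ 1) :
    ∃ u : MulAut A6, u ≠ 1 ∧ u z0 = z0 ∧ u w = w := by
  classical
  have := Fact.mk Nat.prime_two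
  have hC5 := five_centralizer w hw h5 hne
  have hinv := fun x => five_inverters w x hw h5 hne
  set c := z0 * w with hc
  let St : Subgroup (MulAut A6) :=
    { carrier := {α | α c = c}
      one_mem' := rfl
      mul_mem' := fun {a b} ha hb => by
        change a (b c) = c
        rw [Set.mem_setOf_eq] at ha hb
        rw [hb, ha]
      inv_mem' := fun {a} ha => by
        change a.symm c = c
        rw [MulEquiv.symm_apply_eq]
        exact ha.symm }
  -- the stabiliser has at least ten elements
  have h10 : 10 ≤ Nat.card St := by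
    let f : MulAut A6 → A6 := fun α => α c
    have hle : Nat.card (MulAut A6) ≤ Nat.card St * 144 := by
      let S5 : Finset A6 := Finset.univ.filter fun d : A6 => d ^ 5 = 1 ∧ d ≠ 1
      have hf : ∀ α, f α ∈ S5 := fun α => by
        rw [Finset.mem_filter]
        exact ⟨Finset.mem_univ _, by rw [← map_pow, h5, map_one],
          fun h => hne (α.injective (h.trans (map_one α).symm))⟩
      let g : S5 → MulAut A6 := fun d => if h : ∃ α, f α = d.1 then Classical.choose h else 1
      have hg : ∀ α, f (g ⟨f α, hf α⟩) = f α := fun α => by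
        simp only [g, dif_pos (show ∃ β, f β = f α from ⟨α, rfl⟩)]
        exact Classical.choose_spec (show ∃ β, f β = f α from ⟨α, rfl⟩)
      have hS5 : Nat.card S5 = 144 := by rw [Nat.card_eq_fintype_card, Fintype.card_coe]; exact card_fives
      refine le_trans ?_ (le_of_eq ((Nat.card_prod _ _).trans (congrArg (Nat.card St * ·) hS5)))
      refine Nat.card_le_card_of_injective (fun α => ((⟨(g ⟨f α, hf α⟩)⁻¹ * α, ?_⟩ : St),
        (⟨f α, hf α⟩ : S5))) ?_
      · have key : ∀ β γ : MulAut A6, β c = γ c → β⁻¹ * γ ∈ St := fun β γ h => by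
          change β.symm (γ c) = c
          rw [MulEquiv.symm_apply_eq, h]
        exact key _ _ (hg α)
      · intro α β h
        simp only [Prod.mk.injEq, Subtype.mk.injEq] at h
        obtain ⟨h1, h2⟩ := h
        have e : (⟨f α, hf α⟩ : S5) = ⟨f β, hf β⟩ := Subtype.ext h2
        rw [e] at h1
        exact mul_left_cancel h1
    rw [hM] at hle
    omega
  -- its inner part has five elements
  obtain ⟨u, hu⟩ : ∃ u : St, orderOf u = 2 := by
    refine exists_prime_orderOf_dvd_card' 2 ?_
    by_contra hodd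
    have hIn : (MulAut.conj : A6 →* MulAut A6).range.Normal := by
      refine ⟨?_⟩
      rintro _ ⟨a, rfl⟩ φ
      refine ⟨φ a, ?_⟩
      ext1 b
      simp
    have hidx : (MulAut.conj : A6 →* MulAut A6).range.index = 4 := by
      have h := Subgroup.card_mul_index (MulAut.conj : A6 →* MulAut A6).range
      rw [← Nat.card_congr (MonoidHom.ofInjective conj_injective).toEquiv, card_A6, hM] at h
      omega
    have hin : ∀ α : St, α.1 ∈ (MulAut.conj : A6 →* MulAut A6).range := by
      intro α
      have h4 := Subgroup.pow_index_mem (MulAut.conj : A6 →* MulAut A6).range α.1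
      rw [hidx] at h4
      have hco : Nat.Coprime (orderOf α.1) 4 := by
        refine Nat.Coprime.coprime_dvd_left (Subgroup.orderOf_coe α ▸ orderOf_dvd_natCard α) ?_
        exact ((Nat.prime_two.coprime_iff_not_dvd.mpr hodd).symm.pow_right 2)
      obtain ⟨m, hm⟩ := exists_pow_eq_self_of_coprime hco.symm
      rw [← hm]
      exact Subgroup.pow_mem _ h4 m
    have h5' : Nat.card St ≤ 5 := by
      rw [← hC5, ← Fintype.card_coe, ← Nat.card_eq_fintype_card]
      choose pre hpre using hin
      refine Nat.card_le_card_of_injective (fun α : St => (⟨pre α, ?_⟩ :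
        (Finset.univ.filter fun x : A6 => x * c = c * x : Finset A6))) ?_
      · rw [Finset.mem_filter]
        refine ⟨Finset.mem_univ _, mul_inv_eq_iff_eq_mul.mp ?_⟩
        change MulAut.conj (pre α) c = c
        rw [hpre]
        exact α.2
      · intro α β h
        exact Subtype.ext (by rw [← hpre α, ← hpre β, show pre α = pre β from congrArg Subtype.val h])
    omega
  have huc : u.1 c = c := u.2
  have hz0 : z0 * z0 = 1 := by decide +kernel
  have hzc : z0 * c * z0⁻¹ = c⁻¹ := by
    rw [hc, inv_eq_of_mul_eq_one_right hz0, mul_inv_rev, inv_eq_of_mul_eq_one_right hz0,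
      inv_eq_of_mul_eq_one_right hw, ← mul_assoc z0 z0, hz0, one_mul]
  obtain ⟨i, hi⟩ := hinv (u.1 z0) (by rw [← map_mul, hz0, map_one]) (by
    have h := congrArg u.1 hzc
    rw [map_mul, map_mul, map_inv, map_inv, huc] at h
    exact h)
  have hu1 : u.1 ≠ 1 := fun h => by
    have : u = 1 := Subtype.ext h
    rw [this, orderOf_one] at hu
    omega
  have huu : u.1 * u.1 = 1 := by
    have h := pow_orderOf_eq_one u
    rw [hu, pow_two] at h
    exact congrArg Subtype.val h
  have hi0 : i.val = 0 := by
    have h2 : u.1 (u.1 z0) = z0 := DFunLike.congr_fun huu z0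
    rw [hi, map_mul, map_pow, huc, hi, mul_assoc, ← pow_add, mul_eq_left] at h2
    have hord : orderOf c = 5 := by
      have := Fact.mk (show Nat.Prime 5 by norm_num)
      exact orderOf_eq_prime h5 hne
    have hd := orderOf_dvd_of_pow_eq_one h2
    rw [hord] at hd
    have := i.isLt
    omega
  have huz : u.1 z0 = z0 := by rw [hi, hi0, pow_zero, mul_one]
  refine ⟨u.1, hu1, huz, ?_⟩
  have hwc : w = z0 * c := by rw [hc, ← mul_assoc, hz0, one_mul]
  rw [hwc, map_mul, huz, huc]

theorem exists_fix_z0 (hM : Nat.card (MulAut A6) = 1440) (w : A6) (hw : w * w = 1) :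
    ∃ u : MulAut A6, u ≠ 1 ∧ u z0 = z0 ∧ u w = w := by
  rcases sigma_or_five w hw with ⟨h5, hne⟩ | ⟨σ, hz, hws, hσ⟩
  · exact exists_fix_five hM hw h5 hne
  · refine ⟨MulAut.conjNormal σ, fun h => ?_, ?_, ?_⟩
    · have key : ∀ x : A6, σ * x.1 = x.1 * σ := fun x => by
        have e := congrArg (fun φ : MulAut A6 => (φ x).1) h
        simp only [MulAut.conjNormal_apply, MulAut.one_apply] at e
        exact mul_inv_eq_iff_eq_mul.mp e
      rcases hσ with h' | h'
      · exact h' (key p3)
      · exact h' (key q5)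
    · refine Subtype.ext ?_
      rw [MulAut.conjNormal_apply]
      exact mul_inv_eq_iff_eq_mul.mpr hz
    · refine Subtype.ext ?_
      rw [MulAut.conjNormal_apply]
      exact mul_inv_eq_iff_eq_mul.mpr hws

theorem exists_fix (hM : Nat.card (MulAut A6) = 1440) (z w : A6) (hz : z * z = 1) (hz1 : z ≠ 1)
    (hw : w * w = 1) : ∃ u : MulAut A6, u ≠ 1 ∧ u z = z ∧ u w = w := by
  obtain ⟨g, hg⟩ := conj_z0 z hz hz1
  obtain ⟨u, hu, huz, huw⟩ := exists_fix_z0 hM (g⁻¹ * w * g) (by
    rw [show g⁻¹ * w * g * (g⁻¹ * w * g) = g⁻¹ * (w * w) * g by group, hw]; group)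
  refine ⟨MulAut.conj g * u * (MulAut.conj g)⁻¹, fun h => hu (conj_eq_one_iff.mp h), ?_, ?_⟩
  · change g * u ((MulAut.conj g).symm z) * g⁻¹ = z
    rw [MulAut.conj_symm_apply, ← hg, show g⁻¹ * (g * z0 * g⁻¹) * g = z0 by group, huz]
  · change g * u ((MulAut.conj g).symm w) * g⁻¹ = w
    rw [MulAut.conj_symm_apply, huw]
    group

/-- Any two Sylow 2-subgroups of Aut(A₆) intersect nontrivially. -/
theorem result {G : Type*} [Group G] [Finite G] (N : Subgroup G) [N.Normal]
    (e : N ≃* alternatingGroup (Fin 6)) (hidx : N.index = 4)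
    (hC : Subgroup.centralizer (N : Set G) = ⊥)
    (H : Sylow 2 G) (x : G) :
    (H : Subgroup G) ⊓ MulAut.conj x • (H : Subgroup G) ≠ ⊥ := by
  classical
  have := Fact.mk Nat.prime_two
  let φ : G →* MulAut A6 := (MulAut.congr e).toMonoidHom.comp (MulAut.conjNormal (H := N))
  have hφ : ∀ g a, ((e.symm (φ g a) : N) : G) = g * (e.symm a : N) * g⁻¹ := fun g a => by
    change ((e.symm (e (MulAut.conjNormal g (e.symm a))) : N) : G) = _
    rw [e.symm_apply_apply, MulAut.conjNormal_apply]
  have hinj : Function.Injective φ := by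
    rw [injective_iff_map_eq_one]
    intro g hg
    rw [← Subgroup.mem_bot, ← hC]
    intro n hn
    have h := hφ g (e ⟨n, hn⟩)
    rw [hg, MulAut.one_apply, e.symm_apply_apply] at h
    exact eq_mul_inv_iff_mul_eq.mp h
  have hG : Nat.card G = 1440 := by
    rw [← N.card_mul_index, Nat.card_congr e.toEquiv, card_A6, hidx]
  have hM : Nat.card (MulAut A6) = 1440 := by
    refine le_antisymm (Nat.le_of_dvd (by norm_num) ?_) (hG ▸ Nat.card_le_card_of_injective φ hinj)
    have := S4231.card_aut_dvd 6 (by norm_num)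
    rwa [card_A6] at this
  have hsur : Function.Surjective φ :=
    ((Nat.bijective_iff_injective_and_card φ).mpr ⟨hinj, hG.trans hM.symm⟩).2
  have hH32 : Nat.card (H : Subgroup G) = 32 := by
    rw [H.card_eq_multiplicity, hG, show (1440 : ℕ) = 2 ^ 5 * 45 by norm_num,
      Nat.factorization_mul (by norm_num) (by norm_num), Finsupp.add_apply,
      Nat.factorization_pow, Finsupp.smul_apply, Nat.prime_two.factorization_self,
      Nat.factorization_eq_zero_of_not_dvd (show ¬ 2 ∣ 45 by norm_num)]
    norm_num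
  -- a central involution of `H` inside `N`
  have hK : N.subgroupOf (H : Subgroup G) ≠ ⊥ := by
    intro h
    have h1 := Subgroup.card_mul_index (N.subgroupOf (H : Subgroup G))
    rw [h, Subgroup.card_bot, one_mul, hH32, Subgroup.index_bot] at h1
    have h2 : (N.subgroupOf (H : Subgroup G)).index ∣ N.index := Subgroup.relIndex_dvd_index_of_normal N _
    rw [h, Subgroup.index_bot, hH32, hidx] at h2
    norm_num at h2
  obtain ⟨z, hzN, hz2, hz1, hzH⟩ : ∃ z : G, z ∈ N ∧ z * z = 1 ∧ z ≠ 1 ∧
      ∀ h ∈ (H : Subgroup G), h * z = z * h := by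
    have hne := Fusion.pGroup_inf_center_ne_bot H.isPGroup' (N.subgroupOf (H : Subgroup G)) hK
    obtain ⟨⟨y, hy⟩, hord⟩ := exists_prime_orderOf_dvd_card'
      (G := ↥(N.subgroupOf (H : Subgroup G) ⊓ Subgroup.center (H : Subgroup G))) 2 (by
        obtain ⟨k, hk⟩ := IsPGroup.iff_card.mp (H.isPGroup'.to_subgroup
          (N.subgroupOf (H : Subgroup G) ⊓ Subgroup.center (H : Subgroup G)))
        have : Nontrivial _ := (Subgroup.nontrivial_iff_ne_bot _).mpr hne
        have h1 : 1 < Nat.card ↥(N.subgroupOf (H : Subgroup G) ⊓ Subgroup.center (H : Subgroup G)) :=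
          Finite.one_lt_card
        rcases k with _ | k
        · rw [hk] at h1; simp at h1
        · rw [hk]; exact dvd_pow_self 2 k.succ_ne_zero)
    rw [Subgroup.orderOf_mk] at hord
    have hord' : orderOf (y : G) = 2 := by rw [Subgroup.orderOf_coe, hord]
    refine ⟨y, (Subgroup.mem_inf.mp hy).1, ?_, fun h => ?_, fun h hh => ?_⟩
    · have e2 := pow_orderOf_eq_one (y : G)
      rwa [hord', pow_two] at e2
    · rw [h, orderOf_one] at hord'; omega
    · exact congrArg Subtype.val (Subgroup.mem_center_iff.mp (Subgroup.mem_inf.mp hy).2 ⟨h, hh⟩)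
  -- the centraliser of `z` is `H`
  have hcent : ∀ g : G, g * z = z * g → g ∈ (H : Subgroup G) := by
    have hle : (H : Subgroup G) ≤ Subgroup.centralizer ({z} : Set G) := fun h hh =>
      Subgroup.mem_centralizer_singleton_iff.mpr (hzH h hh)
    have hcard : Nat.card (Subgroup.centralizer ({z} : Set G)) ≤ 32 := by
      have horb : 45 ≤ (MulAction.orbit (ConjAct G) z).ncard := by
        have h45 : (Set.range fun d : {d : A6 // d * d = 1 ∧ d ≠ 1} => ((e.symm d.1 : N) : G)).ncard =
            45 := by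
          rw [Set.ncard_range_of_injective, Nat.card_eq_fintype_card, Fintype.card_subtype,
            card_involutions]
          exact fun a b h => Subtype.ext (e.symm.injective (Subtype.ext h))
        rw [← h45]
        refine Set.ncard_le_ncard ?_ (Set.toFinite _)
        rintro _ ⟨⟨d, hd, hd1⟩, rfl⟩
        have hzd : (e ⟨z, hzN⟩) * (e ⟨z, hzN⟩) = 1 ∧ e ⟨z, hzN⟩ ≠ 1 := by
          refine ⟨by rw [← map_mul, show (⟨z, hzN⟩ : N) * ⟨z, hzN⟩ = 1 from Subtype.ext hz2, map_one],
            fun h => hz1 ?_⟩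
          exact congrArg Subtype.val (e.injective (h.trans (map_one e).symm))
        obtain ⟨a, ha⟩ := conj_z0 _ hzd.1 hzd.2
        obtain ⟨b, hb⟩ := conj_z0 d hd hd1
        rw [ConjAct.mem_orbit_conjAct]
        refine IsConj.symm (isConj_iff.mpr ⟨((e.symm (b * a⁻¹) : N) : G), ?_⟩)
        have h : d = b * a⁻¹ * e ⟨z, hzN⟩ * (b * a⁻¹)⁻¹ := by
          rw [← ha, ← hb]; group
        change _ = ((e.symm d : N) : G)
        simp only [h, map_mul, map_inv, MulEquiv.symm_apply_apply, Subgroup.coe_mul,
          InvMemClass.coe_inv]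
      have h1 := Subgroup.card_mul_index (MulAction.stabilizer (ConjAct G) z)
      rw [MulAction.index_stabilizer, show Nat.card (ConjAct G) = 1440 from hG] at h1
      have h2 : Nat.card (MulAction.stabilizer (ConjAct G) z) =
          Nat.card (Subgroup.centralizer ({z} : Set G)) :=
        Nat.card_congr (ConjAct.toConjAct.toEquiv.symm.subtypeEquiv fun g => by
          rw [MulAction.mem_stabilizer_iff, Subgroup.mem_centralizer_singleton_iff,
            ConjAct.smul_def, mul_inv_eq_iff_eq_mul]
          rfl)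
      rw [h2] at h1
      have h3 := Nat.mul_le_mul_left (Nat.card (Subgroup.centralizer ({z} : Set G))) horb
      omega
    have heq := Subgroup.eq_of_le_of_card_ge hle (by rw [hH32]; exact hcard)
    intro g hg
    rw [heq]
    exact Subgroup.mem_centralizer_singleton_iff.mpr hg
  -- a common fixer of `z` and its conjugate
  have hwN : x * z * x⁻¹ ∈ N := Subgroup.Normal.conj_mem ‹N.Normal› z hzN x
  have hz' : e ⟨z, hzN⟩ * e ⟨z, hzN⟩ = 1 := by
    rw [← map_mul, show (⟨z, hzN⟩ : N) * ⟨z, hzN⟩ = 1 from Subtype.ext hz2, map_one]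
  have hw' : e ⟨_, hwN⟩ * e ⟨_, hwN⟩ = 1 := by
    rw [← map_mul, show (⟨_, hwN⟩ : N) * ⟨_, hwN⟩ = 1 from Subtype.ext (by
      change x * z * x⁻¹ * (x * z * x⁻¹) = 1
      rw [show x * z * x⁻¹ * (x * z * x⁻¹) = x * (z * z) * x⁻¹ by group, hz2]; group), map_one]
  obtain ⟨u, hu, huz, huw⟩ := exists_fix hM _ _ hz'
    (fun h => hz1 (congrArg Subtype.val (e.injective (h.trans (map_one e).symm)))) hw'
  obtain ⟨g, rfl⟩ := hsur u
  have hfix : ∀ (n : G) (hn : n ∈ N), φ g (e ⟨n, hn⟩) = e ⟨n, hn⟩ → g * n = n * g := by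
    intro n hn h
    have h' := hφ g (e ⟨n, hn⟩)
    rw [h, e.symm_apply_apply] at h'
    exact (eq_mul_inv_iff_mul_eq.mp h').symm
  have hgz := hfix z hzN huz
  have hgw := hfix _ hwN huw
  intro hbot
  have hmem : g ∈ (H : Subgroup G) ⊓ MulAut.conj x • (H : Subgroup G) := by
    refine ⟨hcent g hgz, ?_⟩
    have h : x⁻¹ * g * x ∈ (H : Subgroup G) := hcent _ (by
      rw [show x⁻¹ * g * x * z = x⁻¹ * (g * (x * z * x⁻¹)) * x by group, hgw]; group)
    have := Subgroup.smul_mem_pointwise_smul _ (MulAut.conj x) _ h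
    rwa [MulAut.smul_def, MulAut.conj_apply, show x * (x⁻¹ * g * x) * x⁻¹ = g by group] at this
  rw [hbot, Subgroup.mem_bot] at hmem
  exact hu (by rw [hmem, map_one])

end Cfsg.Agent.S2488
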