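import Cfsg.Statements.S2490
import Cfsg.Agent.ThreeInv.Quadratic
import Cfsg.Agent.Char.Integral
import Cfsg.Agent.Core.Basics
import Cfsg.Agent.TwoTransfer.Basic

set_option autoImplicit false
open Cfsg

namespace Cfsg.Agent.S2490

open scoped Pointwise commutatorElement

variable {G : Type*} [Group G] [Finite G]

/-- There is an element of order `a * b`. -/
def Edge (G : Type*) [Group G] (a b : ℕ) : Prop := ∃ g : G, orderOf g = a * b

theorem Edge.symm {a b : ℕ} (h : Edge G a b) : Edge G b a := h.imp fun _ hg => by rw [hg, mul_comm]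

theorem Edge.of_quotient {N : Subgroup G} [N.Normal] {a b : ℕ} (h : Edge (G ⧸ N) a b) : Edge G a b := by
  obtain ⟨x, hx⟩ := h
  obtain ⟨g, rfl⟩ := QuotientGroup.mk_surjective x
  obtain ⟨k, hk⟩ : orderOf (g : G ⧸ N) ∣ orderOf g := orderOf_map_dvd (QuotientGroup.mk' N) g
  refine ⟨g ^ k, ?_⟩
  have hk0 : k ≠ 0 := fun e => (orderOf_pos g).ne' (by rw [hk, e, mul_zero])
  rw [orderOf_pow_of_dvd hk0 (Dvd.intro_left _ hk.symm), hk,
    Nat.mul_div_cancel _ (Nat.pos_of_ne_zero hk0), hx]

theorem exists_ne_one (S : Subgroup G) (h : S ≠ ⊥) : ∃ x ∈ S, x ≠ 1 := by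
  obtain ⟨⟨x, hx⟩, hx1⟩ := (Subgroup.ne_bot_iff_exists_ne_one).1 h
  exact ⟨x, hx, fun e => hx1 (Subtype.ext e)⟩

theorem card_eq_index {p : ℕ} [Fact p.Prime] (P : Sylow p G) :
    Nat.card (Sylow p G) = (Subgroup.normalizer ((P : Subgroup G) : Set G)).index :=
  P.card_eq_index_normalizer

theorem smul_iff {p : ℕ} (g : G) (P : Sylow p G) :
    g • P = P ↔ g ∈ Subgroup.normalizer ((P : Subgroup G) : Set G) :=
  Sylow.smul_eq_iff_mem_normalizer

theorem nsup {p : ℕ} [Fact p.Prime] {N : Subgroup G} [N.Normal] (P : Sylow p G)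
    (hP : (P : Subgroup G) ≤ N) : Subgroup.normalizer ((P : Subgroup G) : Set G) ⊔ N = ⊤ :=
  Sylow.normalizer_sup_eq_top' P hP

/-- A `q`-subgroup `R` normalised by an `r`-subgroup `S` gives an element of order `q * r`, unless
`r` divides `|R| - 1` and `S` is small. -/
theorem edge_of_action {q r : ℕ} (hq : q.Prime) (hr : r.Prime) (hqr : q ≠ r) (R S : Subgroup G)
    (hR : IsPGroup q R) (hR1 : R ≠ ⊥) (hS : IsPGroup r S) (hS1 : S ≠ ⊥)
    (hn : S ≤ Subgroup.normalizer (R : Set G))
    (hc : ¬ r ∣ Nat.card R - 1 ∨ Nat.card R - 1 < Nat.card S) : Edge G q r := by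
  classical
  haveI : Fact q.Prime := ⟨hq⟩
  haveI : Fact r.Prime := ⟨hr⟩
  obtain ⟨u, hu, v, hv, hu1, hv1, huv⟩ : ∃ u ∈ R, ∃ v ∈ S, u ≠ 1 ∧ v ≠ 1 ∧ Commute u v := by
    by_contra hne
    push Not at hne
    letI : MulAction S R :=
      { smul := fun s x => ⟨(s : G) * x * (s : G)⁻¹,
          (Subgroup.mem_normalizer_iff.1 (hn s.2) x).1 x.2⟩
        one_smul := fun x => Subtype.ext (by show (1 : G) * x * (1 : G)⁻¹ = x; group)
        mul_smul := fun s t x => Subtype.ext (by
          show ((s : G) * t) * x * ((s : G) * t)⁻¹ = (s : G) * ((t : G) * x * (t : G)⁻¹) * (s : G)⁻¹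
          group) }
    have hfix : ∀ (s : S) (x : R), s • x = x → (s : G) = 1 ∨ (x : G) = 1 := by
      intro s x hsx
      by_contra hh
      push Not at hh
      refine hne x x.2 s s.2 hh.2 hh.1 ?_
      have h1 : (s : G) * x * (s : G)⁻¹ = x := congrArg Subtype.val hsx
      exact (mul_inv_eq_iff_eq_mul.1 h1).symm
    have h1R : ∀ s : S, s • (1 : R) = 1 := fun s => Subtype.ext (by
      show (s : G) * ((1 : R) : G) * (s : G)⁻¹ = ((1 : R) : G); simp)
    obtain ⟨s₀, hs₀, hs₀1⟩ := exists_ne_one S hS1
    have hone : Nat.card (MulAction.fixedPoints S R) = 1 := by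
      refine Nat.card_eq_one_iff_exists.2 ⟨⟨1, h1R⟩, fun x => Subtype.ext (Subtype.ext ?_)⟩
      exact (hfix ⟨s₀, hs₀⟩ x.1 (x.2 _)).resolve_left hs₀1
    rcases hc with hc | hc
    · apply hc
      have hmod := hS.card_modEq_card_fixedPoints R
      rw [hone] at hmod
      exact (Nat.modEq_iff_dvd' Nat.card_pos).1 hmod.symm
    · obtain ⟨x₀, hx₀, hx₀1⟩ := exists_ne_one R hR1
      have hinj : Function.Injective (fun s : S =>
          (⟨s • (⟨x₀, hx₀⟩ : R), fun e => hx₀1 (by
            have := congrArg (fun y : R => s⁻¹ • y) e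
            simp only [inv_smul_smul, h1R] at this
            exact congrArg Subtype.val this)⟩ : {y : R // y ≠ 1})) := by
        intro s t e
        have e1 : s • (⟨x₀, hx₀⟩ : R) = t • ⟨x₀, hx₀⟩ := congrArg Subtype.val e
        have e' : (t⁻¹ * s) • (⟨x₀, hx₀⟩ : R) = ⟨x₀, hx₀⟩ := by
          rw [mul_smul, e1, inv_smul_smul]
        rcases hfix _ _ e' with h | h
        · exact (inv_mul_eq_one.1 (Subtype.ext h : t⁻¹ * s = 1)).symm
        · exact absurd h hx₀1
      have h2 := Nat.card_le_card_of_injective _ hinj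
      haveI := Fintype.ofFinite R
      rw [Nat.card_eq_fintype_card (α := {y : R // y ≠ 1}), Fintype.card_subtype_compl,
        Fintype.card_subtype_eq, ← Nat.card_eq_fintype_card] at h2
      omega
  obtain ⟨a, ha⟩ := hR ⟨u, hu⟩
  obtain ⟨b, hb⟩ := hS ⟨v, hv⟩
  obtain ⟨i, -, hi⟩ := (Nat.dvd_prime_pow hq).1 (orderOf_dvd_of_pow_eq_one (congrArg Subtype.val ha : u ^ q ^ a = 1))
  obtain ⟨j, -, hj⟩ := (Nat.dvd_prime_pow hr).1 (orderOf_dvd_of_pow_eq_one (congrArg Subtype.val hb : v ^ r ^ b = 1))
  have hi0 : i ≠ 0 := fun e => hu1 (orderOf_eq_one_iff.1 (by rw [hi, e, pow_zero]))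
  have hj0 : j ≠ 0 := fun e => hv1 (orderOf_eq_one_iff.1 (by rw [hj, e, pow_zero]))
  obtain ⟨i, rfl⟩ := Nat.exists_eq_succ_of_ne_zero hi0
  obtain ⟨j, rfl⟩ := Nat.exists_eq_succ_of_ne_zero hj0
  refine ⟨u ^ q ^ i * v ^ r ^ j, ?_⟩
  have e1 : orderOf (u ^ q ^ i) = q := by
    rw [orderOf_pow_of_dvd (pow_ne_zero _ hq.ne_zero) (hi ▸ pow_dvd_pow q (Nat.le_succ i)), hi,
      pow_succ, Nat.mul_div_cancel_left _ (Nat.pos_of_ne_zero (pow_ne_zero _ hq.ne_zero))]
  have e2 : orderOf (v ^ r ^ j) = r := by
    rw [orderOf_pow_of_dvd (pow_ne_zero _ hr.ne_zero) (hj ▸ pow_dvd_pow r (Nat.le_succ j)), hj,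
      pow_succ, Nat.mul_div_cancel_left _ (Nat.pos_of_ne_zero (pow_ne_zero _ hr.ne_zero))]
  rw [(huv.pow_pow _ _).orderOf_mul_eq_mul_orderOf_of_coprime
    (by rw [e1, e2]; exact (Nat.coprime_primes hq hr).2 hqr), e1, e2]

theorem fact_7920 : (7920 : ℕ).factorization 2 = 4 ∧ (7920 : ℕ).factorization 3 = 2 ∧
    (7920 : ℕ).factorization 5 = 1 ∧ (7920 : ℕ).factorization 11 = 1 := by
  have e : (7920 : ℕ) = 2 ^ 4 * 3 ^ 2 * 5 ^ 1 * 11 ^ 1 := by norm_num
  have h5 : Nat.Prime 5 := by norm_num
  have h11 : Nat.Prime 11 := by norm_num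
  rw [e, Nat.factorization_mul (by norm_num) (by norm_num), Nat.factorization_mul (by norm_num) (by norm_num),
    Nat.factorization_mul (by norm_num) (by norm_num), Nat.Prime.factorization_pow Nat.prime_two,
    Nat.Prime.factorization_pow Nat.prime_three, Nat.Prime.factorization_pow h5,
    Nat.Prime.factorization_pow h11]
  simp

theorem prime_dvd_7920 {q : ℕ} (hq : q.Prime) (h : q ∣ 7920) : q = 2 ∨ q = 3 ∨ q = 5 ∨ q = 11 := by
  rw [show (7920 : ℕ) = 2 ^ 4 * 3 ^ 2 * (5 * 11) by norm_num] at h
  have h' := fun {p : ℕ} (hp : p.Prime) (hd : q ∣ p) => (Nat.prime_dvd_prime_iff_eq hq hp).1 hd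
  rcases hq.dvd_mul.1 h with h | h
  · rcases hq.dvd_mul.1 h with h | h
    · exact Or.inl (h' Nat.prime_two (hq.dvd_of_dvd_pow h))
    · exact Or.inr (Or.inl (h' Nat.prime_three (hq.dvd_of_dvd_pow h)))
  · rcases hq.dvd_mul.1 h with h | h
    · exact Or.inr (Or.inr (Or.inl (h' (by norm_num) h)))
    · exact Or.inr (Or.inr (Or.inr (h' (by norm_num) h)))

/-- Frattini argument: if `q` does not divide the index of `N`, the normaliser of a Sylow
`q`-subgroup of `N` contains a Sylow `r`-subgroup when `r` does not divide `|N|`. -/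
theorem frattini_sylow {q r : ℕ} [Fact q.Prime] [Fact r.Prime] (N : Subgroup G) [N.Normal]
    (hr : ¬ r ∣ Nat.card N) (hrG : r ∣ Nat.card G) (Q : Sylow q N) :
    ∃ S : Subgroup G, IsPGroup r S ∧ S ≠ ⊥ ∧
      S ≤ Subgroup.normalizer (((Q : Subgroup N).map N.subtype : Subgroup G) : Set G) := by
  have hf : Subgroup.normalizer (((Q : Subgroup N).map N.subtype : Subgroup G) : Set G) ⊔ N = ⊤ :=
    Q.normalizer_sup_eq_top
  obtain ⟨M, hMd⟩ : ∃ M, M = Subgroup.normalizer (((Q : Subgroup N).map N.subtype : Subgroup G) : Set G) := ⟨_, rfl⟩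
  rw [← hMd] at hf ⊢
  have hdvd : r ∣ Nat.card M := by
    have h1 := Subgroup.card_mul_index N
    have hri : r ∣ N.index := by
      rw [← h1] at hrG
      exact ((Fact.out : r.Prime).dvd_mul.1 hrG).resolve_left hr
    have h2 : N.index = N.relIndex M := by
      rw [← Subgroup.relIndex_top_right, ← hf, Subgroup.relIndex_sup_right]
    exact hri.trans (h2 ▸ Subgroup.relIndex_dvd_card N M)
  obtain ⟨P⟩ : Nonempty (Sylow r M) := inferInstance
  refine ⟨(P : Subgroup M).map M.subtype, P.isPGroup'.map _, fun h => ?_, Subgroup.map_subtype_le _⟩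
  rw [(Subgroup.map_eq_bot_iff_of_injective _ M.subtype_injective)] at h
  exact P.ne_bot_of_dvd_card hdvd h

theorem card_sup_of_normal (H N : Subgroup G) [N.Normal] :
    Nat.card (H ⊔ N : Subgroup G) * Nat.card (H ⊓ N : Subgroup G) = Nat.card H * Nat.card N :=
  Cfsg.Agent.Core.card_sup_mul_card_inf H N

theorem relIndex_sup (H K : Subgroup G) [K.Normal] : H.relIndex (K ⊔ H) = H.relIndex K := by
  have h1 := card_sup_of_normal H K
  have h2 : H.relIndex K * Nat.card (H ⊓ K : Subgroup G) = Nat.card K := by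
    rw [← Subgroup.inf_relIndex_right, mul_comm,
      ← Nat.card_congr (Subgroup.subgroupOfEquivOfLe (inf_le_right : H ⊓ K ≤ K)).toEquiv]
    exact Subgroup.card_mul_index _
  have h3 : H.relIndex (H ⊔ K) * Nat.card H = Nat.card (H ⊔ K : Subgroup G) := by
    rw [mul_comm, ← Nat.card_congr (Subgroup.subgroupOfEquivOfLe (le_sup_left : H ≤ H ⊔ K)).toEquiv]
    exact Subgroup.card_mul_index _
  rw [sup_comm]
  refine Nat.eq_of_mul_eq_mul_right (Nat.card_pos (α := (H ⊓ K : Subgroup G)))
    (Nat.eq_of_mul_eq_mul_right (Nat.card_pos (α := H)) ?_)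
  rw [h2, mul_right_comm, h3, h1, mul_comm]

theorem commutator_le_ker_comm {A : Type*} [Group A] (f : G →* A) (h : ∀ a b : A, a * b = b * a) :
    commutator G ≤ f.ker := by
  rw [commutator_def, Subgroup.commutator_le]
  intro a _ b _
  rw [MonoidHom.mem_ker, map_commutatorElement, commutatorElement_eq_one_iff_mul_comm]
  exact h _ _

theorem pq_card (n : ℕ) (h0 : n ≠ 0) (h : ∀ p : ℕ, p.Prime → p ∣ n → p = 3 ∨ p = 5) :
    n = 3 ^ n.factorization 3 * 5 ^ n.factorization 5 := by
  conv_lhs => rw [← Nat.prod_factorization_pow_eq_self h0]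
  have hs : n.factorization.support ⊆ ({3, 5} : Finset ℕ) := by
    intro p hp
    rw [Nat.support_factorization, Nat.mem_primeFactors] at hp
    simpa using h p hp.1 hp.2.1
  rw [Finsupp.prod_of_support_subset _ hs _ (fun i _ => pow_zero i), Finset.prod_pair (by norm_num)]

/-- An element of order 11 acting faithfully on at most 12 points commutes with no element of
another prime order. -/
theorem no_commuting {X : Type*} [MulAction G X] [Finite X] (hX : Nat.card X ≤ 12)
    (hf : ∀ x : G, (∀ p : X, x • p = p) → x = 1) (a b : G) (ha : orderOf a = 11)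
    (hb : orderOf b = 2 ∨ orderOf b = 3) (hab : Commute a b) : False := by
  classical
  haveI := Fintype.ofFinite X
  have hb11 : Nat.Coprime (orderOf b) 11 := by rcases hb with e | e <;> rw [e] <;> norm_num
  obtain ⟨p₁, hp₁⟩ : ∃ p : X, a • p ≠ p := by
    by_contra! h
    rw [hf a h, orderOf_one] at ha; omega
  have horb : ∀ p : X, a • p ≠ p → Function.Injective fun i : Fin 11 => a ^ (i : ℕ) • p := by
    intro p hp
    have hper : Function.minimalPeriod (a • ·) p = 11 := by
      refine (Nat.dvd_prime (by norm_num)).1 (Function.IsPeriodicPt.minimalPeriod_dvd ?_) |>.resolve_left ?_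
      · show (a • ·)^[11] p = p
        rw [smul_iterate_apply, ← ha, pow_orderOf_eq_one, one_smul]
      · exact fun h => hp (Function.minimalPeriod_eq_one_iff_isFixedPt.1 h)
    intro i j hij
    have hij' : (a • ·)^[(i : ℕ)] p = (a • ·)^[(j : ℕ)] p := by rw [smul_iterate_apply, smul_iterate_apply]; exact hij
    exact Fin.ext ((Function.iterate_eq_iterate_iff_of_lt_minimalPeriod
      (by rw [hper]; exact i.2) (by rw [hper]; exact j.2)).1 hij')
  let A : Finset X := Finset.univ.image fun i : Fin 11 => a ^ (i : ℕ) • p₁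
  have hA : A.card = 11 := by rw [Finset.card_image_of_injective _ (horb p₁ hp₁)]; rfl
  have hpow : ∀ (k : ℕ), a ^ k • p₁ ∈ A := fun k => by
    refine Finset.mem_image.2 ⟨⟨k % 11, Nat.mod_lt _ (by norm_num)⟩, Finset.mem_univ _, ?_⟩
    show a ^ (k % 11) • p₁ = a ^ k • p₁
    rw [pow_eq_pow_mod k (ha ▸ pow_orderOf_eq_one a)]
  -- every point moved by `a` lies in the orbit
  have hcover : ∀ p : X, a • p ≠ p → p ∈ A := by
    intro p hp
    by_contra hpA
    let B : Finset X := Finset.univ.image fun i : Fin 11 => a ^ (i : ℕ) • p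
    have hB : B.card = 11 := by rw [Finset.card_image_of_injective _ (horb p hp)]; rfl
    have hd : Disjoint A B := by
      rw [Finset.disjoint_left]
      intro q hqA hqB
      obtain ⟨i, -, hi⟩ := Finset.mem_image.1 hqA
      obtain ⟨j, -, hj⟩ := Finset.mem_image.1 hqB
      apply hpA
      have : p = a ^ (11 - (j : ℕ) + (i : ℕ)) • p₁ := by
        rw [pow_add, mul_smul, hi, ← hj, ← mul_smul, ← pow_add, Nat.sub_add_cancel j.2.le, ← ha,
          pow_orderOf_eq_one, one_smul]
      rw [this]; exact hpow _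
    have := Finset.card_le_univ (A ∪ B)
    rw [Finset.card_union_of_disjoint hd, hA, hB, ← Nat.card_eq_fintype_card] at this
    omega
  have hsingle : ∀ p q : X, a • p = p → a • q = q → p = q := by
    intro p q hp hq
    by_contra hne
    have hd : Disjoint A {p, q} := by
      rw [Finset.disjoint_left]
      intro r hr hr'
      obtain ⟨i, -, rfl⟩ := Finset.mem_image.1 hr
      have hfixr : a • (a ^ (i : ℕ) • p₁) = a ^ (i : ℕ) • p₁ := by
        simp only [Finset.mem_insert, Finset.mem_singleton] at hr'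
        rcases hr' with e | e <;> rw [e] <;> assumption
      rw [← mul_smul, (Commute.pow_right (Commute.refl a) (i : ℕ)).eq, mul_smul] at hfixr
      exact hp₁ (MulAction.injective (a ^ (i : ℕ)) hfixr)
    have := Finset.card_le_univ (A ∪ {p, q})
    rw [Finset.card_union_of_disjoint hd, hA, Finset.card_pair hne, ← Nat.card_eq_fintype_card] at this
    omega
  have hbfix : ∀ p : X, a • p = p → b • p = p := by
    intro p hp
    refine hsingle _ _ ?_ hp
    rw [← mul_smul, hab.eq, mul_smul, hp]
  -- on the orbit `b` is a power of `a`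
  have hbp : a • (b • p₁) ≠ b • p₁ := fun h => hp₁ (by
    rw [← mul_smul, hab.eq, mul_smul] at h; exact MulAction.injective b h)
  obtain ⟨i, -, hi⟩ := Finset.mem_image.1 (hcover _ hbp)
  have hbA : ∀ p : X, a • p ≠ p → b • p = a ^ (i : ℕ) • p := by
    intro p hp
    obtain ⟨j, -, rfl⟩ := Finset.mem_image.1 (hcover p hp)
    rw [← mul_smul, ← mul_smul, ← (hab.pow_left (j : ℕ)).eq, mul_smul, ← hi, ← mul_smul, ← pow_add,
      ← pow_add, add_comm]
  have hk : ∀ k : ℕ, b ^ k • p₁ = a ^ ((i : ℕ) * k) • p₁ := by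
    intro k
    induction k with
    | zero => simp
    | succ k ih =>
      rw [pow_succ', mul_smul, ih, hbA, ← mul_smul, ← pow_add, Nat.mul_succ, add_comm]
      intro h
      rw [← mul_smul, (Commute.pow_right (Commute.refl a) _).eq, mul_smul] at h
      exact hp₁ (MulAction.injective _ h)
  have h11 : 11 ∣ (i : ℕ) * orderOf b := by
    have h1 := hk (orderOf b)
    rw [pow_orderOf_eq_one, one_smul, pow_eq_pow_mod _ (ha ▸ pow_orderOf_eq_one a : a ^ 11 = 1)] at h1
    have h2 := horb p₁ hp₁ (a₁ := ⟨((i : ℕ) * orderOf b) % 11, Nat.mod_lt _ (by norm_num)⟩) (a₂ := 0)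
      (by show a ^ (((i : ℕ) * orderOf b) % 11) • p₁ = a ^ ((0 : Fin 11) : ℕ) • p₁; simpa using h1.symm)
    exact Nat.dvd_of_mod_eq_zero (congrArg Fin.val h2)
  have hi0 : (i : ℕ) = 0 := by
    have := (hb11.symm).dvd_of_dvd_mul_right h11
    have := i.2
    omega
  have hb1 : b = 1 := hf b fun p => by
    by_cases hp : a • p = p
    · exact hbfix p hp
    · rw [hbA p hp, hi0, pow_zero, one_smul]
  rw [hb1, orderOf_one] at hb; omega

/-- Burnside: a Sylow subgroup centralised by its normaliser has a normal complement. -/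
theorem not_perfect_of_burnside {p : ℕ} [Fact p.Prime] (hperf : commutator G = ⊤) (P : Sylow p G)
    (hP1 : p ∣ Nat.card G)
    (hle : Subgroup.normalizer ((P : Subgroup G) : Set G) ≤ Subgroup.centralizer ((P : Subgroup G) : Set G)) :
    False := by
  have hc := MonoidHom.ker_transferSylow_isComplement' P hle
  have hcom : commutator G ≤ (MonoidHom.transferSylow P hle).ker := by
    rw [commutator_def, Subgroup.commutator_le]
    intro a _ b _
    rw [MonoidHom.mem_ker, map_commutatorElement, commutatorElement_eq_one_iff_mul_comm]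
    exact Subtype.ext (Subgroup.mem_centralizer_iff.1 (hle (Subgroup.le_normalizer
      ((MonoidHom.transferSylow P hle) b).2)) _ ((MonoidHom.transferSylow P hle) a).2)
  have htop : (MonoidHom.transferSylow P hle).ker = ⊤ := top_le_iff.1 (hperf ▸ hcom)
  rw [htop] at hc
  have := hc.card_mul
  rw [Subgroup.card_top] at this
  have h1 : Nat.card (P : Subgroup G) = 1 := (mul_eq_left₀ Nat.card_pos.ne').1 this
  exact P.ne_bot_of_dvd_card hP1 (Subgroup.eq_bot_of_card_eq _ h1)

/-- Burnside with a normaliser which centralises. -/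
theorem centralizer_ne_normalizer {p : ℕ} [Fact p.Prime] (hperf : commutator G = ⊤) (P : Sylow p G)
    (hP1 : p ∣ Nat.card G) :
    Nat.card (Subgroup.centralizer ((P : Subgroup G) : Set G)) <
      Nat.card (Subgroup.normalizer ((P : Subgroup G) : Set G)) := by
  have hle : Subgroup.centralizer ((P : Subgroup G) : Set G) ≤ Subgroup.normalizer ((P : Subgroup G) : Set G) := by
    intro x hx
    rw [Subgroup.mem_normalizer_iff]
    intro h
    constructor
    · intro hh
      rwa [← Subgroup.mem_centralizer_iff.1 hx h hh, mul_inv_cancel_right]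
    · intro hh
      have := Subgroup.mem_centralizer_iff.1 (inv_mem hx) _ hh
      have e : h = x * h * x⁻¹ := by
        calc h = x⁻¹ * (x * h * x⁻¹) * x⁻¹⁻¹ := by group
          _ = x * h * x⁻¹ := by rw [← this, mul_inv_cancel_right]
      rwa [e]
  refine lt_of_le_of_ne (Subgroup.card_le_of_le hle) fun h => ?_
  exact not_perfect_of_burnside hperf P hP1 (Subgroup.eq_of_le_of_card_ge hle h.ge).ge

theorem card_quot_dvd {p : ℕ} [Fact p.Prime] (P : Subgroup G) (hP : Nat.card P = p) :
    Nat.card (Subgroup.normalizer (P : Set G)) ∣ Nat.card (Subgroup.centralizer (P : Set G)) * (p - 1) := by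
  let φ := Subgroup.normalizerMonoidHom P
  haveI : IsCyclic P := isCyclic_of_prime_card hP
  haveI : Finite (MulAut P) := Finite.of_injective _ MulEquiv.toEquiv_injective
  have hr : Nat.card φ.range ∣ p - 1 := by
    have := φ.range.card_subgroup_dvd_card
    rwa [IsCyclic.card_mulAut, hP, Nat.totient_prime (Fact.out : p.Prime)] at this
  rw [φ.ker.card_eq_card_quotient_mul_card_subgroup,
    Nat.card_congr (QuotientGroup.quotientKerEquivRange φ).toEquiv, mul_comm _ (p - 1)]
  refine Nat.mul_dvd_mul hr ?_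
  rw [Subgroup.normalizerMonoidHom_ker]
  exact Subgroup.card_comap_dvd_of_injective _ _ (Subgroup.subtype_injective _)

theorem inf_centralizer_card {p : ℕ} [Fact p.Prime] {P : Subgroup G} {x : G} (hP : Nat.card P = p)
    (hx : x ∈ Subgroup.centralizer (P : Set G)) :
    orderOf x ∣ Nat.card (Subgroup.centralizer (P : Set G)) := by
  rw [← Subgroup.orderOf_mk x hx]; exact orderOf_dvd_natCard _

/-- An element of order `a * b` yields an element of order `b` centralising a Sylow `a`-subgroup. -/
theorem centralizer_dvd_of_edge {a b : ℕ} [Fact a.Prime] (hb : b.Prime) (hab : a ≠ b)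
    (hcard : ∀ P : Sylow a G, Nat.card (P : Subgroup G) = a) {m : ℕ}
    (hm : ∀ P : Sylow a G, Nat.card (Subgroup.centralizer ((P : Subgroup G) : Set G)) ∣ m)
    (h : Edge G a b) : b ∣ m := by
  obtain ⟨g, hg⟩ := h
  have hb0 := hb.pos
  have ha0 := (Fact.out : a.Prime).pos
  have e1 : orderOf (g ^ b) = a := by
    rw [orderOf_pow_of_dvd hb0.ne' (hg ▸ dvd_mul_left b a), hg, Nat.mul_div_cancel _ hb0]
  have e2 : orderOf (g ^ a) = b := by
    rw [orderOf_pow_of_dvd ha0.ne' (hg ▸ dvd_mul_right a b), hg, Nat.mul_div_cancel_left _ ha0]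
  obtain ⟨Q, hQ⟩ := (IsPGroup.of_card (p := a) (n := 1) (by rw [Nat.card_zpowers, e1, pow_one]) :
    IsPGroup a (Subgroup.zpowers (g ^ b))).exists_le_sylow
  have hQe : Subgroup.zpowers (g ^ b) = Q := Subgroup.eq_of_le_of_card_ge hQ (by
    rw [hcard Q, Nat.card_zpowers, e1])
  have hmem : g ^ a ∈ Subgroup.centralizer ((Q : Subgroup G) : Set G) := by
    rw [← hQe, Subgroup.mem_centralizer_iff]
    rintro _ ⟨k, rfl⟩
    exact (((Commute.refl g).pow_pow b a).zpow_left k).eq
  have := (inf_centralizer_card (hcard Q) hmem).trans (hm Q)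
  rwa [e2] at this

/-- There is no perfect group of order 3960 with 45 Sylow 11-subgroups generating it, 396 Sylow
5-subgroups and trivial centre. -/
theorem no_3960 {X : Type*} [Group X] [Finite X] (hcard : Nat.card X = 3960)
    (hperf : commutator X = ⊤) (h11 : Nat.card (Sylow 11 X) = 45) (h5 : Nat.card (Sylow 5 X) = 396)
    (hgen : ∀ K : Subgroup X, (∀ P : Sylow 11 X, (P : Subgroup X) ≤ K) → K = ⊤)
    (hZ : Subgroup.center X = ⊥) : False := by
  classical
  haveI : Fintype X := Fintype.ofFinite X
  haveI : Fact (Nat.Prime 11) := ⟨by norm_num⟩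
  haveI : Fact (Nat.Prime 5) := ⟨by norm_num⟩
  haveI : Fact (Nat.Prime 3) := ⟨by norm_num⟩
  haveI : Fact (Nat.Prime 2) := ⟨by norm_num⟩
  obtain ⟨g2, g3, g5, g11⟩ : (3960 : ℕ).factorization 2 = 3 ∧ (3960 : ℕ).factorization 3 = 2 ∧
      (3960 : ℕ).factorization 5 = 1 ∧ (3960 : ℕ).factorization 11 = 1 := by
    have e : (3960 : ℕ) = 2 ^ 3 * 3 ^ 2 * 5 ^ 1 * 11 ^ 1 := by norm_num
    have h5' : Nat.Prime 5 := by norm_num
    have h11' : Nat.Prime 11 := by norm_num
    rw [e, Nat.factorization_mul (by norm_num) (by norm_num), Nat.factorization_mul (by norm_num) (by norm_num),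
      Nat.factorization_mul (by norm_num) (by norm_num), Nat.Prime.factorization_pow Nat.prime_two,
      Nat.Prime.factorization_pow Nat.prime_three, Nat.Prime.factorization_pow h5',
      Nat.Prime.factorization_pow h11']
    simp
  have sc : ∀ (q : ℕ) [Fact q.Prime] (P : Sylow q X),
      Nat.card (P : Subgroup X) = q ^ (3960 : ℕ).factorization q := fun q _ P => by
    rw [P.card_eq_multiplicity, hcard]
  have hP11 : ∀ P : Sylow 11 X, Nat.card (P : Subgroup X) = 11 := fun P => by rw [sc 11 P, g11, pow_one]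
  have hP5 : ∀ P : Sylow 5 X, Nat.card (P : Subgroup X) = 5 := fun P => by rw [sc 5 P, g5, pow_one]
  have hN11 : ∀ P : Sylow 11 X, Nat.card (Subgroup.normalizer ((P : Subgroup X) : Set X)) = 88 := fun P => by
    have := Subgroup.card_mul_index (Subgroup.normalizer ((P : Subgroup X) : Set X))
    rw [← card_eq_index P, h11, hcard] at this; omega
  have hN5 : ∀ P : Sylow 5 X, Nat.card (Subgroup.normalizer ((P : Subgroup X) : Set X)) = 10 := fun P => by
    have := Subgroup.card_mul_index (Subgroup.normalizer ((P : Subgroup X) : Set X))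
    rw [← card_eq_index P, h5, hcard] at this; omega
  have hCN : ∀ (q : ℕ) [Fact q.Prime] (P : Sylow q X),
      Nat.card (Subgroup.centralizer ((P : Subgroup X) : Set X)) ∣
        Nat.card (Subgroup.normalizer ((P : Subgroup X) : Set X)) := by
    intro q _ P
    refine Subgroup.card_dvd_of_le ?_
    intro x hx
    rw [Subgroup.mem_normalizer_iff]
    intro h
    constructor
    · intro hh; rwa [← Subgroup.mem_centralizer_iff.1 hx h hh, mul_inv_cancel_right]
    · intro hh
      have := Subgroup.mem_centralizer_iff.1 (inv_mem hx) _ hh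
      have e : h = x * h * x⁻¹ := by
        calc h = x⁻¹ * (x * h * x⁻¹) * x⁻¹⁻¹ := by group
          _ = x * h * x⁻¹ := by rw [← this, mul_inv_cancel_right]
      rwa [e]
  have hC11 : ∀ P : Sylow 11 X, Nat.card (Subgroup.centralizer ((P : Subgroup X) : Set X)) = 44 := fun P => by
    have h1 := hCN 11 P
    have h2 := centralizer_ne_normalizer hperf P (by rw [hcard]; norm_num)
    have h3 := card_quot_dvd _ (hP11 P)
    rw [hN11 P] at h1 h2 h3
    generalize Nat.card (Subgroup.centralizer ((P : Subgroup X) : Set X)) = c at h1 h2 h3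
    have key : ∀ c ∈ Nat.divisors 88, c < 88 → 88 ∣ c * 10 → c = 44 := by decide +kernel
    exact key c (Nat.mem_divisors.2 ⟨h1, by norm_num⟩) h2 h3
  have hC5 : ∀ P : Sylow 5 X, Nat.card (Subgroup.centralizer ((P : Subgroup X) : Set X)) = 5 := fun P => by
    have h1 := hCN 5 P
    have h2 := centralizer_ne_normalizer hperf P (by rw [hcard]; norm_num)
    have h3 := card_quot_dvd _ (hP5 P)
    rw [hN5 P] at h1 h2 h3
    generalize Nat.card (Subgroup.centralizer ((P : Subgroup X) : Set X)) = c at h1 h2 h3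
    have key : ∀ c ∈ Nat.divisors 10, c < 10 → 10 ∣ c * 4 → c = 5 := by decide +kernel
    exact key c (Nat.mem_divisors.2 ⟨h1, by norm_num⟩) h2 h3
  have hno113 : ¬ Edge X 11 3 := fun h => by
    have := centralizer_dvd_of_edge Nat.prime_three (by norm_num) hP11 (m := 44) (fun P => (hC11 P).dvd) h
    norm_num at this
  have hno53 : ¬ Edge X 5 3 := fun h => by
    have := centralizer_dvd_of_edge Nat.prime_three (by norm_num) hP5 (m := 5) (fun P => (hC5 P).dvd) h
    norm_num at this
  -- the 2-elements centralising a Sylow 11-subgroup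
  let V : Sylow 11 X → Set X := fun P =>
    {v | v ∈ Subgroup.centralizer ((P : Subgroup X) : Set X) ∧ v ^ 4 = 1 ∧ v ≠ 1}
  have hA : ∀ (P : Sylow 11 X) (v : X), v ∈ V P →
      Subgroup.centralizer ({v} : Set X) ≤ Subgroup.normalizer ((P : Subgroup X) : Set X) := by
    intro P v hv
    obtain ⟨D, hD⟩ : ∃ D, D = Subgroup.centralizer ({v} : Set X) := ⟨_, rfl⟩
    rw [← hD]
    have hPD : (P : Subgroup X) ≤ D := fun x hx => by
      rw [hD, Subgroup.mem_centralizer_singleton_iff]
      exact Subgroup.mem_centralizer_iff.1 hv.1 x hx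
    have hvD : v ∈ D := by rw [hD, Subgroup.mem_centralizer_singleton_iff]
    obtain ⟨PD, hPDe⟩ : ∃ PD : Sylow 11 D, PD = P.subtype hPD := ⟨_, rfl⟩
    have hn : Nat.card (Sylow 11 D) = (Subgroup.normalizer ((P : Subgroup X) : Set X)).relIndex D := by
      rw [card_eq_index PD, hPDe, Sylow.coe_subtype, ← Subgroup.subgroupOf_normalizer_eq hPD]
      rfl
    have hle45 : (Subgroup.normalizer ((P : Subgroup X) : Set X)).relIndex D ≤ 45 := by
      have := Subgroup.relIndex_le_of_le_right (H := Subgroup.normalizer ((P : Subgroup X) : Set X))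
        (le_top : D ≤ ⊤) (by rw [Subgroup.relIndex_top_right]; exact Subgroup.index_ne_zero_of_finite)
      rwa [Subgroup.relIndex_top_right, ← card_eq_index P, h11] at this
    have hI : Nat.card (Subgroup.normalizer ((P : Subgroup X) : Set X) ⊓ D : Subgroup X) * Nat.card (Sylow 11 D) =
        Nat.card D := by
      rw [hn, ← Subgroup.inf_relIndex_right,
        ← Nat.card_congr (Subgroup.subgroupOfEquivOfLe (inf_le_right :
          Subgroup.normalizer ((P : Subgroup X) : Set X) ⊓ D ≤ D)).toEquiv]
      exact Subgroup.card_mul_index _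
    have hv2 : 2 ∣ orderOf v := by
      obtain ⟨k, -, hk⟩ := (Nat.dvd_prime_pow Nat.prime_two).1
        (orderOf_dvd_of_pow_eq_one (show v ^ 2 ^ 2 = 1 from hv.2.1))
      rcases k with _ | k
      · exact absurd (orderOf_eq_one_iff.1 (by rw [hk, pow_zero])) hv.2.2
      · rw [hk, pow_succ]; exact Dvd.intro_left _ rfl
    have h22 : 22 ∣ Nat.card (Subgroup.normalizer ((P : Subgroup X) : Set X) ⊓ D : Subgroup X) := by
      have hvN : v ∈ Subgroup.normalizer ((P : Subgroup X) : Set X) ⊓ D := by
        refine Subgroup.mem_inf.2 ⟨?_, hvD⟩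
        rw [Subgroup.mem_normalizer_iff]
        intro h
        constructor
        · intro hh; rwa [← Subgroup.mem_centralizer_iff.1 hv.1 h hh, mul_inv_cancel_right]
        · intro hh
          have := Subgroup.mem_centralizer_iff.1 (inv_mem hv.1) _ hh
          have e : h = v * h * v⁻¹ := by
            calc h = v⁻¹ * (v * h * v⁻¹) * v⁻¹⁻¹ := by group
              _ = v * h * v⁻¹ := by rw [← this, mul_inv_cancel_right]
          rwa [e]
      have d2 : 2 ∣ Nat.card (Subgroup.normalizer ((P : Subgroup X) : Set X) ⊓ D : Subgroup X) :=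
        hv2.trans (Subgroup.orderOf_dvd_natCard _ hvN)
      have d11 : 11 ∣ Nat.card (Subgroup.normalizer ((P : Subgroup X) : Set X) ⊓ D : Subgroup X) :=
        (hP11 P).symm.dvd.trans (Subgroup.card_dvd_of_le (le_inf Subgroup.le_normalizer hPD))
      exact (show Nat.Coprime 2 11 by norm_num).mul_dvd_of_dvd_of_dvd d2 d11
    have hn1 : Nat.card (Sylow 11 D) = 1 ∨ Nat.card (Sylow 11 D) = 12 ∨ Nat.card (Sylow 11 D) = 45 := by
      have hm : Nat.card (Sylow 11 D) % 11 = 1 % 11 := card_sylow_modEq_one 11 D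
      have hd : Nat.card (Sylow 11 D) ∣ 180 := by
        have h1 : 22 * Nat.card (Sylow 11 D) ∣ 3960 := by
          rw [← hcard]
          exact ((Nat.mul_dvd_mul_right h22 _).trans hI.dvd).trans D.card_subgroup_dvd_card
        rw [show 3960 = 22 * 180 by norm_num] at h1
        exact (Nat.mul_dvd_mul_iff_left (by norm_num)).1 h1
      rw [← hn] at hle45
      generalize Nat.card (Sylow 11 D) = m at hm hd hle45
      have key : ∀ m ∈ Nat.divisors 180, m ≤ 45 → m % 11 = 1 % 11 → m = 1 ∨ m = 12 ∨ m = 45 := by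
        decide +kernel
      exact key m (Nat.mem_divisors.2 ⟨hd, by norm_num⟩) hle45 hm
    rcases hn1 with h | h | h
    · rw [hn] at h; exact Subgroup.relIndex_eq_one.1 h
    · -- then `D` has a normal 11-complement containing a Sylow 3-subgroup
      exfalso
      have hD264 : Nat.card D = 264 ∧
          Nat.card (Subgroup.normalizer ((P : Subgroup X) : Set X) ⊓ D : Subgroup X) = 22 := by
        have h1 : Nat.card (Subgroup.normalizer ((P : Subgroup X) : Set X) ⊓ D : Subgroup X) ∣ 88 :=
          hN11 P ▸ Subgroup.card_dvd_of_le inf_le_left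
        have h2 : Nat.card (Subgroup.normalizer ((P : Subgroup X) : Set X) ⊓ D : Subgroup X) * 12 ∣ 3960 := by
          rw [← h, hI, ← hcard]; exact D.card_subgroup_dvd_card
        rw [h] at hI
        generalize Nat.card (Subgroup.normalizer ((P : Subgroup X) : Set X) ⊓ D : Subgroup X) = c at hI h1 h2 h22
        have key : ∀ c ∈ Nat.divisors 88, 22 ∣ c → c * 12 ∣ 3960 → c = 22 := by decide +kernel
        have hc := key c (Nat.mem_divisors.2 ⟨h1, by norm_num⟩) h22 h2
        exact ⟨by omega, hc⟩
      have hle : Subgroup.normalizer ((PD : Subgroup D) : Set D) ≤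
          Subgroup.centralizer ((PD : Subgroup D) : Set D) := by
        intro d hd
        rw [hPDe, Sylow.coe_subtype, ← Subgroup.subgroupOf_normalizer_eq hPD] at hd
        -- the normaliser in `D` is generated by `P` and `v`
        obtain ⟨W, hW⟩ : ∃ W, W = Subgroup.centralizer ((P : Subgroup X) : Set X) ⊓
            (Subgroup.normalizer ((P : Subgroup X) : Set X) ⊓ D) := ⟨_, rfl⟩
        haveI : IsCyclic (P : Subgroup X) := isCyclic_of_prime_card (hP11 P)
        have hPW : (P : Subgroup X) ≤ W := hW ▸ le_inf (Subgroup.le_centralizer _) (le_inf Subgroup.le_normalizer hPD)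
        have hvW : v ∈ W := by
          rw [hW]
          refine Subgroup.mem_inf.2 ⟨hv.1, Subgroup.mem_inf.2 ⟨?_, hvD⟩⟩
          rw [Subgroup.mem_normalizer_iff]
          intro k
          constructor
          · intro hh; rwa [← Subgroup.mem_centralizer_iff.1 hv.1 k hh, mul_inv_cancel_right]
          · intro hh
            have := Subgroup.mem_centralizer_iff.1 (inv_mem hv.1) _ hh
            have e : k = v * k * v⁻¹ := by
              calc k = v⁻¹ * (v * k * v⁻¹) * v⁻¹⁻¹ := by group
                _ = v * k * v⁻¹ := by rw [← this, mul_inv_cancel_right]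
            rwa [e]
        have h22W : 22 ∣ Nat.card W :=
          (show Nat.Coprime 2 11 by norm_num).mul_dvd_of_dvd_of_dvd
            (hv2.trans (Subgroup.orderOf_dvd_natCard _ hvW)) (hP11 P ▸ Subgroup.card_dvd_of_le hPW)
        have hWe : W = Subgroup.normalizer ((P : Subgroup X) : Set X) ⊓ D := by
          refine Subgroup.eq_of_le_of_card_ge (hW ▸ inf_le_right) ?_
          rw [hD264.2]
          exact Nat.le_of_dvd Nat.card_pos h22W
        have hdW : (d : X) ∈ W := hWe ▸ ⟨hd, d.2⟩
        rw [hW] at hdW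
        rw [hPDe, Sylow.coe_subtype, Subgroup.mem_centralizer_iff]
        exact fun w hw => Subtype.ext (Subgroup.mem_centralizer_iff.1 hdW.1 w hw)
      obtain ⟨K, hK⟩ : ∃ K, K = (MonoidHom.transferSylow PD hle).ker := ⟨_, rfl⟩
      haveI : K.Normal := hK ▸ MonoidHom.normal_ker _
      have hKc : Nat.card K = 24 := by
        have := (MonoidHom.ker_transferSylow_isComplement' PD hle).card_mul
        rw [← hK, hD264.1, hPDe, Sylow.coe_subtype,
          Nat.card_congr (Subgroup.subgroupOfEquivOfLe hPD).toEquiv, hP11 P] at this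
        omega
      obtain ⟨R⟩ : Nonempty (Sylow 3 K) := inferInstance
      obtain ⟨S, hS, hS1, hSn⟩ := frattini_sylow (G := D) (r := 11) K (by rw [hKc]; norm_num)
        (by rw [hD264.1]; norm_num) R
      obtain ⟨y, hy⟩ := edge_of_action (G := D) Nat.prime_three (Fact.out : Nat.Prime 11) (by norm_num) _ S
        (R.isPGroup'.map _) (fun h' => R.ne_bot_of_dvd_card (by rw [hKc]; norm_num)
          ((Subgroup.map_eq_bot_iff_of_injective _ K.subtype_injective).1 h')) hS hS1 hSn
        (Or.inl (by
          rw [Nat.card_congr (Subgroup.equivMapOfInjective _ _ K.subtype_injective).toEquiv.symm,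
            R.card_eq_multiplicity, hKc]
          have : (24 : ℕ).factorization 3 = 1 := by
            have e : (24 : ℕ) = 2 ^ 3 * 3 := by norm_num
            rw [e, Nat.factorization_mul (by norm_num) (by norm_num),
              Nat.Prime.factorization_pow Nat.prime_two, Nat.Prime.factorization Nat.prime_three]
            simp
          rw [this]; norm_num))
      exact hno113 ⟨(y : X), by rw [Subgroup.orderOf_coe, hy]⟩
    · -- then `v` is central
      exfalso
      have hall : ∀ Q : Sylow 11 X, (Q : Subgroup X) ≤ D := by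
        let f : Sylow 11 D → Sylow 11 X := fun Q =>
          Classical.choose (Q.isPGroup'.map D.subtype).exists_le_sylow
        have hfQ : ∀ Q : Sylow 11 D, (f Q : Subgroup X) = (Q : Subgroup D).map D.subtype := by
          intro Q
          refine (Subgroup.eq_of_le_of_card_ge
            (Classical.choose_spec (Q.isPGroup'.map D.subtype).exists_le_sylow) ?_).symm
          rw [hP11, Nat.card_congr (Subgroup.equivMapOfInjective _ _ D.subtype_injective).toEquiv.symm]
          refine Nat.le_of_dvd Nat.card_pos ?_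
          exact Sylow.dvd_card_of_dvd_card Q (hP11 P ▸ Subgroup.card_dvd_of_le hPD)
        have hfi : Function.Injective f := fun a b e => Sylow.ext
          (Subgroup.map_injective D.subtype_injective (by rw [← hfQ, ← hfQ, e]))
        have hbij := hfi.bijective_of_nat_card_le (by rw [h, h11])
        intro Q
        obtain ⟨Q', rfl⟩ := hbij.2 Q
        rw [hfQ]; exact Subgroup.map_subtype_le _
      have hDt := hgen D hall
      have : v ∈ Subgroup.center X := Subgroup.mem_center_iff.2 fun g =>
        (Subgroup.mem_centralizer_singleton_iff.1 (hD ▸ hDt ▸ Subgroup.mem_top g : g ∈ Subgroup.centralizer ({v} : Set X)))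
      rw [hZ, Subgroup.mem_bot] at this
      exact hv.2.2 this
  have hB : ∀ (P Q : Sylow 11 X) (v : X), v ∈ V P → v ∈ V Q → P = Q := by
    intro P Q v hP hQ
    have h1 : (Q : Subgroup X) ≤ Subgroup.normalizer ((P : Subgroup X) : Set X) := fun x hx =>
      hA P v hP (Subgroup.mem_centralizer_singleton_iff.2 (Subgroup.mem_centralizer_iff.1 hQ.1 x hx))
    haveI : (P.subtype (Subgroup.le_normalizer :
        (P : Subgroup X) ≤ Subgroup.normalizer ((P : Subgroup X) : Set X))).toSubgroup.Normal := by
      rw [Sylow.coe_subtype]; exact Subgroup.normal_in_normalizer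
    haveI := Sylow.unique_of_normal (P.subtype Subgroup.le_normalizer :
        Sylow 11 (Subgroup.normalizer ((P : Subgroup X) : Set X))) inferInstance
    have h2 : (Q.subtype h1) = P.subtype Subgroup.le_normalizer := Subsingleton.elim _ _
    have h3 := congrArg (fun S : Sylow 11 (Subgroup.normalizer ((P : Subgroup X) : Set X)) =>
      S.toSubgroup.map (Subgroup.subtype _)) h2
    simp only [Sylow.coe_subtype, Subgroup.map_subgroupOf_eq_of_le h1,
      Subgroup.map_subgroupOf_eq_of_le Subgroup.le_normalizer] at h3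
    exact Sylow.ext h3.symm
  -- the Sylow 2-subgroup of a centraliser has order 4
  have hV4 : ∀ P : Sylow 11 X, ∃ T : Subgroup X, Nat.card T = 4 ∧
      ∀ x, x ∈ T ↔ x ∈ Subgroup.centralizer ((P : Subgroup X) : Set X) ∧ x ^ 4 = 1 := by
    intro P
    obtain ⟨C, hC⟩ : ∃ C, C = Subgroup.centralizer ((P : Subgroup X) : Set X) := ⟨_, rfl⟩
    have hCc : Nat.card C = 44 := hC ▸ hC11 P
    have f44 : (44 : ℕ).factorization 2 = 2 := by
      have e : (44 : ℕ) = 2 ^ 2 * 11 := by norm_num
      rw [e, Nat.factorization_mul (by norm_num) (by norm_num),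
        Nat.Prime.factorization_pow Nat.prime_two, Nat.Prime.factorization (Fact.out : Nat.Prime 11)]
      simp
    obtain ⟨T⟩ : Nonempty (Sylow 2 C) := inferInstance
    have hTc : Nat.card (T : Subgroup C) = 4 := by rw [T.card_eq_multiplicity, hCc, f44]; norm_num
    haveI : IsCyclic (P : Subgroup X) := isCyclic_of_prime_card (hP11 P)
    have hPC : (P : Subgroup X) ≤ C := hC ▸ Subgroup.le_centralizer _
    have hTn : (T : Subgroup C).Normal := by
      rw [← Subgroup.normalizer_eq_top_iff]
      refine Subgroup.eq_top_of_le_card _ ?_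
      rw [hCc]
      have h1 : 4 ∣ Nat.card (Subgroup.normalizer ((T : Subgroup C) : Set C)) :=
        hTc ▸ Subgroup.card_dvd_of_le Subgroup.le_normalizer
      have h2 : 11 ∣ Nat.card (Subgroup.normalizer ((T : Subgroup C) : Set C)) := by
        refine (show 11 ∣ Nat.card ((P : Subgroup X).subgroupOf C) by
          rw [Nat.card_congr (Subgroup.subgroupOfEquivOfLe hPC).toEquiv, hP11 P]).trans (Subgroup.card_dvd_of_le ?_)
        intro x hx
        rw [Subgroup.mem_normalizer_iff]
        intro y
        have hcy : (y : X) * x = x * y := by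
          have := Subgroup.mem_centralizer_iff.1 (hC ▸ y.2 : (y : X) ∈ Subgroup.centralizer ((P : Subgroup X) : Set X)) x hx
          exact this.symm
        have : x * y * x⁻¹ = y := Subtype.ext (by
          simp only [Subgroup.coe_mul, Subgroup.coe_inv]; rw [← hcy, mul_inv_cancel_right])
        rw [this]
      exact Nat.le_of_dvd Nat.card_pos ((show Nat.Coprime 4 11 by norm_num).mul_dvd_of_dvd_of_dvd h1 h2)
    refine ⟨(T : Subgroup C).map C.subtype, ?_, fun x => ?_⟩
    · rw [Nat.card_congr (Subgroup.equivMapOfInjective _ _ C.subtype_injective).toEquiv.symm, hTc]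
    · constructor
      · rintro ⟨y, hy, rfl⟩
        refine ⟨hC ▸ y.2, ?_⟩
        have := congrArg (fun z : (T : Subgroup C) => ((z : C) : X)) (pow_card_eq_one' (x := (⟨y, hy⟩ : (T : Subgroup C))))
        rw [hTc] at this
        simpa using this
      · rintro ⟨hx, hx4⟩
        have hp : IsPGroup 2 (Subgroup.zpowers (⟨x, hC ▸ hx⟩ : C)) := by
          obtain ⟨j, -, hj⟩ := (Nat.dvd_prime_pow Nat.prime_two).1
            (orderOf_dvd_of_pow_eq_one (show (⟨x, hC ▸ hx⟩ : C) ^ 2 ^ 2 = 1 from Subtype.ext hx4))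
          exact IsPGroup.of_card (n := j) (by rw [Nat.card_zpowers, hj])
        obtain ⟨T', hT'⟩ := hp.exists_le_sylow
        haveI := Sylow.unique_of_normal T hTn
        exact ⟨_, Subsingleton.elim T' T ▸ hT' (Subgroup.mem_zpowers _), rfl⟩
  -- every involution centralises a Sylow 11-subgroup
  have hinv : ∀ w : X, orderOf w = 2 → ∃ P, w ∈ V P := by
    intro w hw
    have hw2 : w ^ 2 = 1 := hw ▸ pow_orderOf_eq_one w
    have hw1 : w ≠ 1 := fun e => by rw [e, orderOf_one] at hw; omega
    obtain ⟨S, hS⟩ := (IsPGroup.of_card (p := 2) (n := 1) (by rw [Nat.card_zpowers, hw, pow_one]) :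
      IsPGroup 2 (Subgroup.zpowers w)).exists_le_sylow
    have hwS := hS (Subgroup.mem_zpowers w)
    -- a Sylow 2-subgroup inside some normaliser
    obtain ⟨P0⟩ : Nonempty (Sylow 11 X) := inferInstance
    obtain ⟨S0⟩ : Nonempty (Sylow 2 (Subgroup.normalizer ((P0 : Subgroup X) : Set X))) := inferInstance
    have hS0c : Nat.card S0.toSubgroup = 8 := by
      rw [S0.card_eq_multiplicity, hN11 P0]
      have : (88 : ℕ).factorization 2 = 3 := by
        have e : (88 : ℕ) = 2 ^ 3 * 11 := by norm_num
        rw [e, Nat.factorization_mul (by norm_num) (by norm_num),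
          Nat.Prime.factorization_pow Nat.prime_two, Nat.Prime.factorization (Fact.out : Nat.Prime 11)]
        simp
      rw [this]; norm_num
    obtain ⟨S1, hS1⟩ := (S0.isPGroup'.map (Subgroup.subtype _)).exists_le_sylow
    have hS1e : S0.toSubgroup.map (Subgroup.subtype _) = (S1 : Subgroup X) :=
      Subgroup.eq_of_le_of_card_ge hS1 (by
        rw [sc 2 S1, g2, Nat.card_congr (Subgroup.equivMapOfInjective _ _ (Subgroup.subtype_injective _)).toEquiv.symm, hS0c]
        norm_num)
    obtain ⟨g, hg⟩ := MulAction.exists_smul_eq X S1 S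
    obtain ⟨T, hTc, hT⟩ := hV4 P0
    have hTS : T ≤ S1 := by
      rw [← hS1e]
      intro x hx
      obtain ⟨hxC, hx4⟩ := (hT x).1 hx
      have hxN : x ∈ Subgroup.normalizer ((P0 : Subgroup X) : Set X) := by
        rw [Subgroup.mem_normalizer_iff]
        intro k
        constructor
        · intro hh; rwa [← Subgroup.mem_centralizer_iff.1 hxC k hh, mul_inv_cancel_right]
        · intro hh
          have := Subgroup.mem_centralizer_iff.1 (inv_mem hxC) _ hh
          have e : k = x * k * x⁻¹ := by
            calc k = x⁻¹ * (x * k * x⁻¹) * x⁻¹⁻¹ := by group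
              _ = x * k * x⁻¹ := by rw [← this, mul_inv_cancel_right]
          rwa [e]
      have hTN : T ≤ Subgroup.normalizer ((P0 : Subgroup X) : Set X) := fun y hy => by
        obtain ⟨hyC, -⟩ := (hT y).1 hy
        rw [Subgroup.mem_normalizer_iff]
        intro k
        constructor
        · intro hh; rwa [← Subgroup.mem_centralizer_iff.1 hyC k hh, mul_inv_cancel_right]
        · intro hh
          have := Subgroup.mem_centralizer_iff.1 (inv_mem hyC) _ hh
          have e : k = y * k * y⁻¹ := by
            calc k = y⁻¹ * (y * k * y⁻¹) * y⁻¹⁻¹ := by group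
              _ = y * k * y⁻¹ := by rw [← this, mul_inv_cancel_right]
          rwa [e]
      -- `T` is a normal 2-subgroup of the normaliser
      haveI : (T.subgroupOf (Subgroup.normalizer ((P0 : Subgroup X) : Set X))).Normal := ⟨fun a ha n => by
        obtain ⟨haC, ha4⟩ := (hT a).1 ha
        refine (hT _).2 ⟨?_, ?_⟩
        · rw [Subgroup.mem_centralizer_iff]
          intro k hk
          have hk' : (n : X)⁻¹ * k * n ∈ (P0 : Subgroup X) := by
            have := (Subgroup.mem_normalizer_iff.1 (inv_mem n.2) k).1 hk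
            rwa [inv_inv] at this
          have := Subgroup.mem_centralizer_iff.1 haC _ hk'
          show k * ((n : X) * a * (n : X)⁻¹) = (n : X) * a * (n : X)⁻¹ * k
          calc k * ((n : X) * a * (n : X)⁻¹) = n * ((n : X)⁻¹ * k * n * a) * (n : X)⁻¹ := by group
            _ = n * (a * ((n : X)⁻¹ * k * n)) * (n : X)⁻¹ := by rw [this]
            _ = (n : X) * a * (n : X)⁻¹ * k := by group
        · show ((n : X) * a * (n : X)⁻¹) ^ 4 = 1
          have ha4' : (a : X) ^ 4 = 1 := ha4
          rw [conj_pow, ha4']; group⟩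
      have hTp : IsPGroup 2 (T.subgroupOf (Subgroup.normalizer ((P0 : Subgroup X) : Set X))) :=
        IsPGroup.of_card (n := 2) (by rw [Nat.card_congr (Subgroup.subgroupOfEquivOfLe hTN).toEquiv, hTc]; norm_num)
      exact ⟨⟨x, hxN⟩, hTp.le_sylow_of_normal S0 (show (⟨x, hxN⟩ : Subgroup.normalizer ((P0 : Subgroup X) : Set X)) ∈
        T.subgroupOf _ from hx), rfl⟩
    -- conjugate everything into `S`
    obtain ⟨M, hM⟩ : ∃ M, M = T.map (MulAut.conj g).toMonoidHom := ⟨_, rfl⟩
    have hrel : M.relIndex S = 2 := by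
      have hle : M ≤ S := by
        rw [hM, ← hg, Sylow.coe_subgroup_smul]
        rintro _ ⟨t, ht, rfl⟩
        rw [Subgroup.mem_smul_pointwise_iff_exists]
        exact ⟨t, hTS ht, rfl⟩
      have h1 := Subgroup.card_mul_index (M.subgroupOf (S : Subgroup X))
      rw [Nat.card_congr (Subgroup.subgroupOfEquivOfLe hle).toEquiv, hM,
        Nat.card_congr (Subgroup.equivMapOfInjective _ _ (MulAut.conj g).injective).toEquiv.symm, hTc,
        sc 2 S, g2, ← hM] at h1
      show (M.subgroupOf (S : Subgroup X)).index = 2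
      omega
    by_contra hne
    push Not at hne
    obtain ⟨N, hNn, hN2, -⟩ := TwoTransfer.exists_index_two S M hrel w hwS
      (fun k g' hk _ => by
        obtain ⟨k, rfl⟩ := Nat.exists_eq_succ_of_ne_zero (by omega : k ≠ 0)
        rw [pow_succ', pow_mul, hw2, one_pow, mul_one, inv_mul_cancel]; exact one_mem M)
      (fun g' _ hmem => by
        rw [hM] at hmem
        obtain ⟨t, ht, hte⟩ := hmem
        obtain ⟨htC, ht4⟩ := (hT t).1 ht
        have hwe : w = (g' * g) * t * (g' * g)⁻¹ := by
          have hte' : g * t * g⁻¹ = g'⁻¹ * w * g' := hte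
          calc w = g' * (g'⁻¹ * w * g') * g'⁻¹ := by group
            _ = g' * (g * t * g⁻¹) * g'⁻¹ := by rw [hte']
            _ = _ := by group
        refine hne ((g' * g) • P0) ⟨?_, ?_, hw1⟩
        · rw [Subgroup.mem_centralizer_iff]
          intro k hk
          rw [Sylow.coe_subgroup_smul, SetLike.mem_coe, Subgroup.mem_smul_pointwise_iff_exists] at hk
          obtain ⟨k', hk', rfl⟩ := hk
          rw [hwe, MulAut.smul_def, MulAut.conj_apply]
          have := Subgroup.mem_centralizer_iff.1 htC k' hk'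
          calc g' * g * k' * (g' * g)⁻¹ * (g' * g * t * (g' * g)⁻¹)
              = g' * g * (k' * t) * (g' * g)⁻¹ := by group
            _ = g' * g * (t * k') * (g' * g)⁻¹ := by rw [this]
            _ = g' * g * t * (g' * g)⁻¹ * (g' * g * k' * (g' * g)⁻¹) := by group
        · rw [show (4 : ℕ) = 2 * 2 by norm_num, pow_mul, hw2, one_pow])
    haveI := hNn
    have hab : ∀ a b : X ⧸ N, a * b = b * a := by
      haveI : Fact (Nat.Prime 2) := ⟨Nat.prime_two⟩
      haveI : IsCyclic (X ⧸ N) := isCyclic_of_prime_card (p := 2) hN2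
      intro a b
      obtain ⟨c, hc⟩ := IsCyclic.exists_generator (α := X ⧸ N)
      obtain ⟨i, rfl⟩ := hc a
      obtain ⟨j, rfl⟩ := hc b
      exact ((Commute.refl c).zpow_zpow i j).eq
    have : commutator X ≤ N := by
      rw [commutator_def, Subgroup.commutator_le]
      intro a _ b _
      rw [← QuotientGroup.eq_one_iff, commutatorElement_def]
      simp only [QuotientGroup.mk_mul, QuotientGroup.mk_inv]
      rw [hab (a : X ⧸ N) b]; group
    rw [hperf, top_le_iff] at this
    rw [this, Subgroup.index_top] at hN2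
    omega
  -- no involution commutes with an element of order three
  have hno23 : ∀ w x : X, orderOf w = 2 → x ^ 3 = 1 → Commute w x → x = 1 := by
    intro w x hw hx hwx
    by_contra hx1
    obtain ⟨P, hP⟩ := hinv w hw
    have hxN : x ∈ Subgroup.normalizer ((P : Subgroup X) : Set X) :=
      hA P w hP (Subgroup.mem_centralizer_singleton_iff.2 hwx.eq.symm)
    have := Subgroup.orderOf_dvd_natCard _ hxN
    rw [hN11 P, orderOf_eq_prime hx hx1] at this
    norm_num at this
  have hexp3 : ∀ R : Sylow 3 X, Nat.card (R : Subgroup X) = 9 := fun R => by rw [sc 3 R, g3]; norm_num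
  -- the Sylow 3-subgroups
  have hn3 : 55 ≤ Nat.card (Sylow 3 X) := by
    by_contra hlt
    obtain ⟨R⟩ : Nonempty (Sylow 3 X) := inferInstance
    have hprod : Nat.card (Subgroup.normalizer ((R : Subgroup X) : Set X)) * Nat.card (Sylow 3 X) = 3960 := by
      rw [card_eq_index R, Subgroup.card_mul_index, hcard]
    have hd : Nat.card (Sylow 3 X) ∣ 440 := by
      obtain ⟨c, hc⟩ : 9 ∣ Nat.card (Subgroup.normalizer ((R : Subgroup X) : Set X)) :=
        hexp3 R ▸ Subgroup.card_dvd_of_le Subgroup.le_normalizer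
      rw [hc] at hprod
      exact ⟨c, by rw [mul_assoc, mul_comm c] at hprod; omega⟩
    have hm : Nat.card (Sylow 3 X) % 3 = 1 % 3 := card_sylow_modEq_one 3 X
    have hr : 5 ∣ Nat.card (Subgroup.normalizer ((R : Subgroup X) : Set X)) ∨
        11 ∣ Nat.card (Subgroup.normalizer ((R : Subgroup X) : Set X)) := by
      generalize Nat.card (Sylow 3 X) = n at hd hm hprod hlt
      have key : ∀ n ∈ Nat.divisors 440, n < 55 → n % 3 = 1 % 3 → n = 1 ∨ n = 4 ∨ n = 10 ∨ n = 22 ∨ n = 40 := by
        decide +kernel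
      rcases key n (Nat.mem_divisors.2 ⟨hd, by norm_num⟩) (by omega) hm with rfl | rfl | rfl | rfl | rfl <;> omega
    rcases hr with hr | hr
    · obtain ⟨S⟩ : Nonempty (Sylow 5 (Subgroup.normalizer ((R : Subgroup X) : Set X))) := inferInstance
      exact hno53 (edge_of_action Nat.prime_three (Fact.out : Nat.Prime 5) (by norm_num) (R : Subgroup X)
        ((S : Subgroup _).map (Subgroup.subtype _)) R.isPGroup'
        (R.ne_bot_of_dvd_card (by rw [hcard]; norm_num)) (S.isPGroup'.map _)
        (fun h => S.ne_bot_of_dvd_card hr ((Subgroup.map_eq_bot_iff_of_injective _ (Subgroup.subtype_injective _)).1 h))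
        (Subgroup.map_subtype_le _) (Or.inl (by rw [hexp3 R]; norm_num))).symm
    · obtain ⟨S⟩ : Nonempty (Sylow 11 (Subgroup.normalizer ((R : Subgroup X) : Set X))) := inferInstance
      exact hno113 (edge_of_action Nat.prime_three (Fact.out : Nat.Prime 11) (by norm_num) (R : Subgroup X)
        ((S : Subgroup _).map (Subgroup.subtype _)) R.isPGroup'
        (R.ne_bot_of_dvd_card (by rw [hcard]; norm_num)) (S.isPGroup'.map _)
        (fun h => S.ne_bot_of_dvd_card hr ((Subgroup.map_eq_bot_iff_of_injective _ (Subgroup.subtype_injective _)).1 h))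
        (Subgroup.map_subtype_le _) (Or.inl (by rw [hexp3 R]; norm_num))).symm
  have habel : ∀ R : Sylow 3 X, ∀ a ∈ (R : Subgroup X), ∀ b ∈ (R : Subgroup X), a * b = b * a := by
    intro R a ha b hb
    have := IsPGroup.isMulCommutative_of_card_eq_prime_sq (p := 3) (G := (R : Subgroup X)) (by rw [hexp3 R]; norm_num)
    exact congrArg Subtype.val (this.is_comm.comm ⟨a, ha⟩ ⟨b, hb⟩)
  -- trivial intersections
  have hTI : ∀ (R R' : Sylow 3 X) (x : X), x ∈ (R : Subgroup X) → x ∈ (R' : Subgroup X) → x ≠ 1 → R = R' := by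
    intro R R' x hxR hxR' hx1
    obtain ⟨D, hD⟩ : ∃ D, D = Subgroup.centralizer ({x} : Set X) := ⟨_, rfl⟩
    have hRD : ∀ S : Sylow 3 X, x ∈ (S : Subgroup X) → (S : Subgroup X) ≤ D := fun S hS a ha => by
      rw [hD, Subgroup.mem_centralizer_singleton_iff]; exact habel S a ha x hS
    have hx9 : x ^ 9 = 1 := by
      have := congrArg Subtype.val (pow_card_eq_one' (x := (⟨x, hxR⟩ : (R : Subgroup X))))
      rwa [hexp3 R] at this
    obtain ⟨y, hy, hy1, hyc⟩ : ∃ y : X, y ^ 3 = 1 ∧ y ≠ 1 ∧ ∀ d ∈ D, Commute d y := by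
      by_cases h3 : x ^ 3 = 1
      · exact ⟨x, h3, hx1, fun d hd => Subgroup.mem_centralizer_singleton_iff.1 (hD ▸ hd)⟩
      · exact ⟨x ^ 3, by rw [← pow_mul]; exact hx9, h3, fun d hd =>
          (show Commute d x from Subgroup.mem_centralizer_singleton_iff.1 (hD ▸ hd)).pow_right 3⟩
    have hprimes : ∀ q : ℕ, q.Prime → q ∣ Nat.card D → q = 3 := by
      intro q hq hqd
      haveI : Fact q.Prime := ⟨hq⟩
      obtain ⟨d, hd⟩ := exists_prime_orderOf_dvd_card' q hqd
      have hdo : orderOf (d : X) = q := by rw [Subgroup.orderOf_coe, hd]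
      have hdy := hyc d d.2
      have hyo : orderOf y = 3 := orderOf_eq_prime hy hy1
      rcases prime_dvd_7920 hq ((hqd.trans D.card_subgroup_dvd_card).trans (hcard ▸ Dvd.intro 2 (by norm_num)))
        with rfl | rfl | rfl | rfl
      · exact absurd (hno23 d y hdo hy hdy) hy1
      · rfl
      · exact absurd ⟨(d : X) * y, by
          rw [hdy.orderOf_mul_eq_mul_orderOf_of_coprime (by rw [hdo, hyo]; norm_num), hdo, hyo]⟩ hno53
      · exact absurd ⟨(d : X) * y, by
          rw [hdy.orderOf_mul_eq_mul_orderOf_of_coprime (by rw [hdo, hyo]; norm_num), hdo, hyo]⟩ hno113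
    have hD3 : IsPGroup 3 D := IsPGroup.of_card
      (Nat.eq_prime_pow_of_unique_prime_dvd Nat.card_pos.ne' (fun {q} hq hd => hprimes q hq hd))
    exact Sylow.ext ((R.is_maximal' hD3 (hRD R hxR)).symm.trans (R'.is_maximal' hD3 (hRD R' hxR')))
  -- counting
  let U1 : Finset X := Finset.univ.filter fun x => 11 ∣ orderOf x
  let U2 : Finset X := Finset.univ.filter fun x => orderOf x = 5
  let U3 : Finset X := Finset.univ.filter fun x => ∃ P, x ∈ V P
  let U4 : Finset X := Finset.univ.filter fun x => ∃ R : Sylow 3 X, x ∈ (R : Subgroup X) ∧ x ≠ 1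
  have hU1 : 1800 ≤ U1.card := by
    let f : Sylow 11 X → Finset X := fun P =>
      Finset.univ.filter fun x => x ∈ Subgroup.centralizer ((P : Subgroup X) : Set X) ∧ ¬ x ^ 4 = 1
    have hf : ∀ P, (f P).card = 40 := by
      intro P
      obtain ⟨T, hTc, hT⟩ := hV4 P
      have e : f P = (Finset.univ.filter (· ∈ Subgroup.centralizer ((P : Subgroup X) : Set X))) \
          (Finset.univ.filter (· ∈ T)) := by
        ext x
        simp only [f, Finset.mem_sdiff, Finset.mem_filter, Finset.mem_univ, true_and, hT]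
        tauto
      rw [e, Finset.card_sdiff_of_subset (fun x hx => by
        simp only [Finset.mem_filter, Finset.mem_univ, true_and, hT] at hx ⊢; exact hx.1),
        ← Fintype.card_subtype, ← Fintype.card_subtype, ← Nat.card_eq_fintype_card,
        ← Nat.card_eq_fintype_card, hTc, hC11 P]
    haveI := Fintype.ofFinite (Sylow 11 X)
    have hx44 : ∀ (P : Sylow 11 X) (x : X), x ∈ f P → 11 ∣ orderOf x ∧ x ^ 4 ∈ (P : Subgroup X) ∧ x ^ 4 ≠ 1 := by
      intro P x hx
      simp only [f, Finset.mem_filter, Finset.mem_univ, true_and] at hx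
      have hd := inf_centralizer_card (hP11 P) hx.1
      rw [hC11 P] at hd
      have h11d : 11 ∣ orderOf x := by
        by_contra h
        apply hx.2
        refine orderOf_dvd_iff_pow_eq_one.1 ?_
        exact (((Fact.out : Nat.Prime 11).coprime_iff_not_dvd.2 h).symm).dvd_of_dvd_mul_right hd
      refine ⟨h11d, ?_, hx.2⟩
      obtain ⟨C, hC⟩ : ∃ C, C = Subgroup.centralizer ((P : Subgroup X) : Set X) := ⟨_, rfl⟩
      haveI : IsCyclic (P : Subgroup X) := isCyclic_of_prime_card (hP11 P)
      have hPC : (P : Subgroup X) ≤ C := hC ▸ Subgroup.le_centralizer _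
      have hnorm : ((P.subtype hPC : Sylow 11 C) : Subgroup C).Normal := by
        rw [Sylow.coe_subtype]
        exact ⟨fun a ha c => by
          have hcm := Subgroup.mem_centralizer_iff.1 (hC ▸ c.2 : (c : X) ∈ Subgroup.centralizer ((P : Subgroup X) : Set X)) a ha
          show ((c * a * c⁻¹ : C) : X) ∈ (P : Subgroup X)
          simp only [Subgroup.coe_mul, Subgroup.coe_inv]
          rw [← hcm, mul_inv_cancel_right]; exact ha⟩
      haveI := Sylow.unique_of_normal (P.subtype hPC : Sylow 11 C) hnorm
      have hp : IsPGroup 11 (Subgroup.zpowers ((⟨x, hC ▸ hx.1⟩ : C) ^ 4)) := by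
        have h1 : ((⟨x, hC ▸ hx.1⟩ : C) ^ 4) ^ 11 = 1 := by
          rw [← pow_mul]
          exact Subtype.ext (orderOf_dvd_iff_pow_eq_one.1 hd)
        obtain ⟨j, -, hj⟩ := (Nat.dvd_prime_pow (Fact.out : Nat.Prime 11)).1
          (orderOf_dvd_of_pow_eq_one (show ((⟨x, hC ▸ hx.1⟩ : C) ^ 4) ^ 11 ^ 1 = 1 by rwa [pow_one]))
        exact IsPGroup.of_card (n := j) (by rw [Nat.card_zpowers, hj])
      obtain ⟨Q, hQ⟩ := hp.exists_le_sylow
      have := (Subsingleton.elim Q (P.subtype hPC)) ▸ hQ (Subgroup.mem_zpowers _)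
      simpa [Subgroup.mem_subgroupOf] using this
    have hdisj : Set.PairwiseDisjoint (↑(Finset.univ : Finset (Sylow 11 X))) f := by
      intro P _ Q _ hne
      rw [Function.onFun, Finset.disjoint_left]
      intro x hP hQ
      apply hne
      obtain ⟨-, hP1, hP2⟩ := hx44 P x hP
      obtain ⟨-, hQ1, -⟩ := hx44 Q x hQ
      apply Sylow.ext
      have key : ∀ R : Sylow 11 X, x ^ 4 ∈ (R : Subgroup X) → Subgroup.zpowers (x ^ 4) = R := by
        intro R hR
        refine Subgroup.eq_of_le_of_card_ge (Subgroup.zpowers_le.2 hR) ?_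
        have h1 := Subgroup.orderOf_dvd_natCard _ hR
        rw [hP11 R] at h1
        rw [hP11 R, Nat.card_zpowers]
        rcases (Nat.dvd_prime (Fact.out : Nat.Prime 11)).1 h1 with e | e
        · exact absurd (orderOf_eq_one_iff.1 e) hP2
        · exact e.ge
      exact (key P hP1).symm.trans (key Q hQ1)
    calc 1800 = ∑ P : Sylow 11 X, (f P).card := by
          rw [Finset.sum_congr rfl (fun P _ => hf P), Finset.sum_const, Finset.card_univ,
            ← Nat.card_eq_fintype_card, h11]; rfl
      _ = (Finset.univ.biUnion f).card := (Finset.card_biUnion hdisj).symm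
      _ ≤ U1.card := Finset.card_le_card fun x hx => by
          obtain ⟨P, -, hP⟩ := Finset.mem_biUnion.1 hx
          simp only [U1, Finset.mem_filter, Finset.mem_univ, true_and]
          exact (hx44 P x hP).1
  haveI := Fintype.ofFinite (Sylow 5 X)
  haveI := Fintype.ofFinite (Sylow 3 X)
  haveI := Fintype.ofFinite (Sylow 11 X)
  have hU2 : 1584 ≤ U2.card := by
    let f : Sylow 5 X → Finset X := fun P => (Finset.univ.filter (· ∈ (P : Subgroup X))).erase 1
    have hf : ∀ P, (f P).card = 4 := fun P => by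
      rw [Finset.card_erase_of_mem (by simp), ← Fintype.card_subtype, ← Nat.card_eq_fintype_card, hP5 P]
    have hord : ∀ P x, x ∈ f P → orderOf x = 5 := by
      intro P x hx
      simp only [f, Finset.mem_erase, Finset.mem_filter, Finset.mem_univ, true_and] at hx
      have h1 := Subgroup.orderOf_dvd_natCard _ hx.2
      rw [hP5 P] at h1
      exact ((Nat.dvd_prime (Fact.out : Nat.Prime 5)).1 h1).resolve_left fun e => hx.1 (orderOf_eq_one_iff.1 e)
    have hdisj : Set.PairwiseDisjoint (↑(Finset.univ : Finset (Sylow 5 X))) f := by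
      intro P _ Q _ hne
      rw [Function.onFun, Finset.disjoint_left]
      intro x hP hQ
      apply hne
      have hP' : x ∈ (P : Subgroup X) := (Finset.mem_filter.1 (Finset.mem_erase.1 hP).2).2
      have hQ' : x ∈ (Q : Subgroup X) := (Finset.mem_filter.1 (Finset.mem_erase.1 hQ).2).2
      apply Sylow.ext
      have key : ∀ R : Sylow 5 X, x ∈ (R : Subgroup X) → Subgroup.zpowers x = R := fun R hR =>
        Subgroup.eq_of_le_of_card_ge (Subgroup.zpowers_le.2 hR)
          (by rw [hP5 R, Nat.card_zpowers, hord P x hP])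
      exact (key P hP').symm.trans (key Q hQ')
    calc 1584 = ∑ P : Sylow 5 X, (f P).card := by
          rw [Finset.sum_congr rfl (fun P _ => hf P), Finset.sum_const, Finset.card_univ,
            ← Nat.card_eq_fintype_card, h5]; rfl
      _ = (Finset.univ.biUnion f).card := (Finset.card_biUnion hdisj).symm
      _ ≤ U2.card := Finset.card_le_card fun x hx => by
          obtain ⟨P, -, hP⟩ := Finset.mem_biUnion.1 hx
          simp only [U2, Finset.mem_filter, Finset.mem_univ, true_and]
          exact hord P x hP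
  have hU3 : 135 ≤ U3.card := by
    let f : Sylow 11 X → Finset X := fun P => Finset.univ.filter (· ∈ V P)
    have hf : ∀ P, (f P).card = 3 := fun P => by
      obtain ⟨T, hTc, hT⟩ := hV4 P
      have e : f P = (Finset.univ.filter (· ∈ T)).erase 1 := by
        ext x
        simp only [f, V, Finset.mem_erase, Finset.mem_filter, Finset.mem_univ, true_and, Set.mem_setOf_eq, hT]
        tauto
      rw [e, Finset.card_erase_of_mem (by simp), ← Fintype.card_subtype, ← Nat.card_eq_fintype_card, hTc]
    have hdisj : Set.PairwiseDisjoint (↑(Finset.univ : Finset (Sylow 11 X))) f := by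
      intro P _ Q _ hne
      rw [Function.onFun, Finset.disjoint_left]
      intro x hP hQ
      exact hne (hB P Q x (Finset.mem_filter.1 hP).2 (Finset.mem_filter.1 hQ).2)
    calc 135 = ∑ P : Sylow 11 X, (f P).card := by
          rw [Finset.sum_congr rfl (fun P _ => hf P), Finset.sum_const, Finset.card_univ,
            ← Nat.card_eq_fintype_card, h11]; rfl
      _ = (Finset.univ.biUnion f).card := (Finset.card_biUnion hdisj).symm
      _ ≤ U3.card := Finset.card_le_card fun x hx => by
          obtain ⟨P, -, hP⟩ := Finset.mem_biUnion.1 hx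
          simp only [U3, Finset.mem_filter, Finset.mem_univ, true_and]
          exact ⟨P, (Finset.mem_filter.1 hP).2⟩
  have hU4 : 8 * Nat.card (Sylow 3 X) ≤ U4.card := by
    let f : Sylow 3 X → Finset X := fun R => (Finset.univ.filter (· ∈ (R : Subgroup X))).erase 1
    have hf : ∀ R, (f R).card = 8 := fun R => by
      rw [Finset.card_erase_of_mem (by simp), ← Fintype.card_subtype, ← Nat.card_eq_fintype_card, hexp3 R]
    have hdisj : Set.PairwiseDisjoint (↑(Finset.univ : Finset (Sylow 3 X))) f := by
      intro P _ Q _ hne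
      rw [Function.onFun, Finset.disjoint_left]
      intro x hP hQ
      exact hne (hTI P Q x (Finset.mem_filter.1 (Finset.mem_erase.1 hP).2).2
        (Finset.mem_filter.1 (Finset.mem_erase.1 hQ).2).2 (Finset.mem_erase.1 hP).1)
    calc 8 * Nat.card (Sylow 3 X) = ∑ P : Sylow 3 X, (f P).card := by
          rw [Finset.sum_congr rfl (fun P _ => hf P), Finset.sum_const, Finset.card_univ,
            ← Nat.card_eq_fintype_card, smul_eq_mul, mul_comm]
      _ = (Finset.univ.biUnion f).card := (Finset.card_biUnion hdisj).symm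
      _ ≤ U4.card := Finset.card_le_card fun x hx => by
          obtain ⟨P, -, hP⟩ := Finset.mem_biUnion.1 hx
          simp only [U4, Finset.mem_filter, Finset.mem_univ, true_and]
          exact ⟨P, (Finset.mem_filter.1 (Finset.mem_erase.1 hP).2).2, (Finset.mem_erase.1 hP).1⟩
  -- orders of the elements of the four sets
  have o3 : ∀ x ∈ U3, orderOf x ∣ 4 ∧ x ≠ 1 := fun x hx => by
    obtain ⟨P, -, h4, h1⟩ : ∃ P, x ∈ V P := by
      simp only [U3, Finset.mem_filter, Finset.mem_univ, true_and] at hx; exact hx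
    exact ⟨orderOf_dvd_of_pow_eq_one h4, h1⟩
  have o4 : ∀ x ∈ U4, orderOf x ∣ 9 ∧ x ≠ 1 := fun x hx => by
    obtain ⟨R, hR, h1⟩ : ∃ R : Sylow 3 X, x ∈ (R : Subgroup X) ∧ x ≠ 1 := by
      simp only [U4, Finset.mem_filter, Finset.mem_univ, true_and] at hx; exact hx
    exact ⟨hexp3 R ▸ Subgroup.orderOf_dvd_natCard _ hR, h1⟩
  have o1 : ∀ x ∈ U1, 11 ∣ orderOf x := fun x hx => (Finset.mem_filter.1 hx).2
  have o2 : ∀ x ∈ U2, orderOf x = 5 := fun x hx => (Finset.mem_filter.1 hx).2
  have d12 : Disjoint U1 U2 := Finset.disjoint_left.2 fun x h1 h2 => by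
    have := o1 x h1; rw [o2 x h2] at this; norm_num at this
  have d13 : Disjoint U1 U3 := Finset.disjoint_left.2 fun x h1 h2 => by
    have := (o1 x h1).trans (o3 x h2).1; norm_num at this
  have d14 : Disjoint U1 U4 := Finset.disjoint_left.2 fun x h1 h2 => by
    have := (o1 x h1).trans (o4 x h2).1; norm_num at this
  have d23 : Disjoint U2 U3 := Finset.disjoint_left.2 fun x h1 h2 => by
    have := (o3 x h2).1; rw [o2 x h1] at this; norm_num at this
  have d24 : Disjoint U2 U4 := Finset.disjoint_left.2 fun x h1 h2 => by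
    have := (o4 x h2).1; rw [o2 x h1] at this; norm_num at this
  have d34 : Disjoint U3 U4 := Finset.disjoint_left.2 fun x h1 h2 => by
    have h := Nat.dvd_gcd (o3 x h1).1 (o4 x h2).1
    norm_num at h
    exact (o4 x h2).2 h
  let U : Finset X := U1 ∪ U2 ∪ U3 ∪ U4
  have hU : U.card = U1.card + U2.card + U3.card + U4.card := by
    rw [Finset.card_union_of_disjoint (Finset.disjoint_union_left.2 ⟨Finset.disjoint_union_left.2 ⟨d14, d24⟩, d34⟩),
      Finset.card_union_of_disjoint (Finset.disjoint_union_left.2 ⟨d13, d23⟩),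
      Finset.card_union_of_disjoint d12]
  have hone : (1 : X) ∉ U := by
    simp only [U, Finset.mem_union, not_or]
    refine ⟨⟨⟨fun h => ?_, fun h => ?_⟩, fun h => (o3 1 h).2 rfl⟩, fun h => (o4 1 h).2 rfl⟩
    · have := o1 1 h; rw [orderOf_one] at this; norm_num at this
    · have := o2 1 h; rw [orderOf_one] at this; norm_num at this
  -- one more element
  obtain ⟨R⟩ : Nonempty (Sylow 3 X) := inferInstance
  have hprod : Nat.card (Subgroup.normalizer ((R : Subgroup X) : Set X)) * Nat.card (Sylow 3 X) = 3960 := by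
    rw [card_eq_index R, Subgroup.card_mul_index, hcard]
  have hcardX : Fintype.card X = 3960 := by rw [← Nat.card_eq_fintype_card, hcard]
  have h55 : Nat.card (Sylow 3 X) = 55 := by
    have h1 := Finset.card_le_univ (insert (1 : X) U)
    rw [Finset.card_insert_of_notMem hone, hU, hcardX] at h1
    omega
  have hNR : Nat.card (Subgroup.normalizer ((R : Subgroup X) : Set X)) = 72 := by rw [h55] at hprod; omega
  obtain ⟨T0⟩ : Nonempty (Sylow 2 (Subgroup.normalizer ((R : Subgroup X) : Set X))) := inferInstance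
  obtain ⟨T, hT⟩ : ∃ T, T = T0.toSubgroup.map (Subgroup.subtype _) := ⟨_, rfl⟩
  have hTc : Nat.card T = 8 := by
    rw [hT, Nat.card_congr (Subgroup.equivMapOfInjective _ _ (Subgroup.subtype_injective _)).toEquiv.symm,
      T0.card_eq_multiplicity, hNR]
    have : (72 : ℕ).factorization 2 = 3 := by
      have e : (72 : ℕ) = 2 ^ 3 * 3 ^ 2 := by norm_num
      rw [e, Nat.factorization_mul (by norm_num) (by norm_num),
        Nat.Prime.factorization_pow Nat.prime_two, Nat.Prime.factorization_pow Nat.prime_three]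
      simp
    rw [this]; norm_num
  have hTN : T ≤ Subgroup.normalizer ((R : Subgroup X) : Set X) := hT ▸ Subgroup.map_subtype_le _
  have hinvert : ∀ s ∈ T, orderOf s = 2 → ∀ y ∈ (R : Subgroup X), s * y * s⁻¹ = y⁻¹ := by
    intro s hs hso y hy
    have hy' : s * y * s⁻¹ ∈ (R : Subgroup X) := (Subgroup.mem_normalizer_iff.1 (hTN hs) y).1 hy
    have hss : s * s = 1 := by rw [← pow_two, ← hso, pow_orderOf_eq_one]
    have hfix : Commute s (y * (s * y * s⁻¹)) := by
      show s * (y * (s * y * s⁻¹)) = y * (s * y * s⁻¹) * s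
      have hc := habel R y hy _ hy'
      calc s * (y * (s * y * s⁻¹)) = s * y * s⁻¹ * ((s * s) * y * (s * s)⁻¹) * s := by group
        _ = s * y * s⁻¹ * y * s := by rw [hss]; group
        _ = y * (s * y * s⁻¹) * s := by rw [← hc]
    obtain ⟨k, hk⟩ := R.isPGroup' ⟨_, (R : Subgroup X).mul_mem hy hy'⟩
    have hk' : (y * (s * y * s⁻¹)) ^ 3 ^ k = 1 := congrArg Subtype.val hk
    have hone' : y * (s * y * s⁻¹) = 1 := by
      by_contra hne
      obtain ⟨j, -, hj⟩ := (Nat.dvd_prime_pow Nat.prime_three).1 (orderOf_dvd_of_pow_eq_one hk')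
      rcases j with _ | j
      · exact hne (orderOf_eq_one_iff.1 (by rw [hj, pow_zero]))
      · have h1 := hno23 s ((y * (s * y * s⁻¹)) ^ 3 ^ j) hso
          (by rw [← pow_mul, ← pow_succ, ← hj, pow_orderOf_eq_one]) (hfix.pow_right _)
        have := orderOf_dvd_of_pow_eq_one h1
        rw [hj] at this
        have := (Nat.pow_dvd_pow_iff_le_right (by norm_num)).1 this
        omega
    exact eq_inv_of_mul_eq_one_right hone'
  have huniq : ∀ s ∈ T, ∀ t ∈ T, orderOf s = 2 → orderOf t = 2 → s = t := by
    intro s hs t ht hso hto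
    by_contra hne
    obtain ⟨k, hk⟩ := (IsPGroup.of_card (p := 2) (n := 3) (by rw [hTc]; norm_num) : IsPGroup 2 T)
      ⟨s * t, T.mul_mem hs ht⟩
    have hk' : (s * t) ^ 2 ^ k = 1 := congrArg Subtype.val hk
    obtain ⟨j, -, hj⟩ := (Nat.dvd_prime_pow Nat.prime_two).1 (orderOf_dvd_of_pow_eq_one hk')
    rcases j with _ | j
    · have h1 : s * t = 1 := orderOf_eq_one_iff.1 (by rw [hj, pow_zero])
      have htt : t * t = 1 := by rw [← pow_two, ← hto, pow_orderOf_eq_one]
      exact hne (by
        calc s = s * (t * t) := by rw [htt, mul_one]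
          _ = t := by rw [← mul_assoc, h1, one_mul])
    · obtain ⟨y, hy, hy1⟩ := exists_ne_one _
        (R.ne_bot_of_dvd_card (by rw [hcard]; norm_num))
      have hyc : Commute (s * t) y := by
        show s * t * y = y * (s * t)
        calc s * t * y = s * (t * y * t⁻¹) * t := by group
          _ = s * y⁻¹ * t := by rw [hinvert t ht hto y hy]
          _ = (s * y * s⁻¹)⁻¹ * (s * t) := by group
          _ = y * (s * t) := by rw [hinvert s hs hso y hy, inv_inv]
      have hy9 : y ^ 9 = 1 := by
        have := congrArg Subtype.val (pow_card_eq_one' (x := (⟨y, hy⟩ : (R : Subgroup X))))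
        rwa [hexp3 R] at this
      have hw : orderOf ((s * t) ^ 2 ^ j) = 2 := by
        rw [orderOf_pow_of_dvd (pow_ne_zero _ two_ne_zero) (hj ▸ pow_dvd_pow 2 (Nat.le_succ j)), hj,
          pow_succ, Nat.mul_div_cancel_left _ (Nat.two_pow_pos j)]
      by_cases h3 : y ^ 3 = 1
      · exact hy1 (hno23 _ y hw h3 (hyc.pow_left _))
      · exact h3 (hno23 _ (y ^ 3) hw (by rw [← pow_mul]; exact hy9) ((hyc.pow_left _).pow_right _))
  have hTp : IsPGroup 2 T := IsPGroup.of_card (n := 3) (by rw [hTc]; norm_num)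
  obtain ⟨z, hz⟩ := exists_prime_orderOf_dvd_card' (G := T) 2 (by rw [hTc]; norm_num)
  have hz' : orderOf (z : X) = 2 := by rw [Subgroup.orderOf_coe, hz]
  obtain ⟨P, hP⟩ := hinv z hz'
  -- an element of order at least four outside the kernel
  obtain ⟨u, huT, huV, hu1⟩ : ∃ u ∈ T, (¬ ∃ P', u ∈ V P') ∧ u ≠ 1 := by
    by_contra hne
    push Not at hne
    have hsub : ∀ u ∈ T, u ∈ Subgroup.centralizer ((P : Subgroup X) : Set X) ∧ u ^ 4 = 1 := by
      intro u hu
      by_cases hu1 : u = 1
      · subst hu1; exact ⟨one_mem _, one_pow _⟩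
      obtain ⟨P', hP'⟩ : ∃ P', u ∈ V P' := by
        by_contra h
        exact hu1 (hne u hu fun P' hP' => h ⟨P', hP'⟩)
      obtain ⟨k, hk⟩ := hTp ⟨u, hu⟩
      obtain ⟨j, -, hj⟩ := (Nat.dvd_prime_pow Nat.prime_two).1
        (orderOf_dvd_of_pow_eq_one (congrArg Subtype.val hk : u ^ 2 ^ k = 1))
      rcases j with _ | j
      · exact absurd (orderOf_eq_one_iff.1 (by rw [hj, pow_zero])) hu1
      · have hw : orderOf (u ^ 2 ^ j) = 2 := by
          rw [orderOf_pow_of_dvd (pow_ne_zero _ two_ne_zero) (hj ▸ pow_dvd_pow 2 (Nat.le_succ j)), hj,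
            pow_succ, Nat.mul_div_cancel_left _ (Nat.two_pow_pos j)]
        have e : u ^ 2 ^ j = z := huniq _ (T.pow_mem hu _) _ z.2 hw hz'
        have hzP' : (z : X) ∈ V P' := ⟨e ▸ Subgroup.pow_mem _ hP'.1 _, by
          rw [← e, ← pow_mul, mul_comm, pow_mul, hP'.2.1, one_pow], hP.2.2⟩
        have hPP : P' = P := hB _ _ _ hzP' hP
        exact ⟨hPP ▸ hP'.1, hP'.2.1⟩
    obtain ⟨T4, hT4c, hT4⟩ := hV4 P
    have := Subgroup.card_le_of_le (show T ≤ T4 from fun u hu => (hT4 u).2 (hsub u hu))
    omega
  have huU : u ∉ insert (1 : X) U := by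
    simp only [Finset.mem_insert, U, Finset.mem_union, not_or]
    have h8 := Subgroup.orderOf_dvd_natCard _ huT
    rw [hTc] at h8
    refine ⟨hu1, ⟨⟨fun h => ?_, fun h => ?_⟩, fun h => huV (by simp only [U3, Finset.mem_filter, Finset.mem_univ, true_and] at h; exact h)⟩, fun h => ?_⟩
    · have := (o1 u h).trans h8; norm_num at this
    · rw [o2 u h] at h8; norm_num at h8
    · have h' := Nat.dvd_gcd h8 (o4 u h).1
      norm_num at h'
      exact hu1 h'
  have hfin := Finset.card_le_univ (insert u (insert (1 : X) U))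
  rw [Finset.card_insert_of_notMem huU, Finset.card_insert_of_notMem hone, hU, hcardX] at hfin
  omega

/-- Forty-five Sylow 11-subgroups are impossible. -/
theorem forty_five (hord : Nat.card G = 7920) (M : Subgroup G) [M.Normal]
    (hperf : commutator M = ⊤) (hne : M ≠ ⊤)
    (hminimal : ∀ K : Subgroup G, K.Normal → K ≤ M → K = ⊥ ∨ K = M)
    (hC : Subgroup.centralizer (M : Set G) = ⊥)
    (h11 : Nat.card (Sylow 11 M) = 45) (hG11 : Nat.card (Sylow 11 G) = 45)
    (hall : ∀ P : Sylow 11 G, (P : Subgroup G) ≤ M)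
    (hconn : Edge G 11 2 → Edge G 11 3 → (Edge G 11 5 ∨ Edge G 2 5 ∨ Edge G 3 5) → False)
    (hconn3 : Edge G 11 2 → Edge G 5 3 → Edge G 5 2 → False) : False := by
  classical
  haveI : Fact (Nat.Prime 11) := ⟨by norm_num⟩
  haveI : Fact (Nat.Prime 5) := ⟨by norm_num⟩
  haveI : Fact (Nat.Prime 3) := ⟨by norm_num⟩
  haveI : Fact (Nat.Prime 2) := ⟨by norm_num⟩
  obtain ⟨f2, f3, f5, f11⟩ := fact_7920
  have hdvdM : Nat.card M ∣ 7920 := hord ▸ M.card_subgroup_dvd_card
  have hM0 : 1 < Nat.card M := by
    by_contra h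
    have : Nat.card M = 1 := by have := Nat.card_pos (α := M); omega
    have h1 := h11
    haveI : Subsingleton M := (Nat.card_eq_one_iff_unique.1 this).1
    haveI : Subsingleton (Sylow 11 M) := ⟨fun a b => Sylow.ext (Subgroup.ext fun x => by
      rw [Subsingleton.elim x 1]; simp [one_mem])⟩
    rw [Nat.card_of_subsingleton (Classical.arbitrary (Sylow 11 M))] at h1
    omega
  obtain ⟨P⟩ : Nonempty (Sylow 11 M) := inferInstance
  have h11M : 11 ∣ Nat.card M := by
    obtain ⟨P₀⟩ : Nonempty (Sylow 11 G) := inferInstance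
    have := Subgroup.card_dvd_of_le (hall P₀)
    rwa [P₀.card_eq_multiplicity, hord, f11, pow_one] at this
  have hfac11 : (Nat.card M).factorization 11 = 1 := le_antisymm
    (f11 ▸ (Nat.factorization_le_iff_dvd Nat.card_pos.ne' (by norm_num)).2 hdvdM 11)
    ((Nat.Prime.pow_dvd_iff_le_factorization (by norm_num) Nat.card_pos.ne').1 (by rwa [pow_one]))
  have hP : Nat.card (P : Subgroup M) = 11 := by rw [P.card_eq_multiplicity, hfac11, pow_one]
  have hNM := Subgroup.card_mul_index (Subgroup.normalizer ((P : Subgroup M) : Set M))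
  rw [← card_eq_index P, h11] at hNM
  obtain ⟨c, hc⟩ : 11 ∣ Nat.card (Subgroup.normalizer ((P : Subgroup M) : Set M)) :=
    hP.symm.dvd.trans (Subgroup.card_dvd_of_le Subgroup.le_normalizer)
  rw [hc] at hNM
  have hcd : c ∣ 16 := by
    rw [← hNM, show (7920 : ℕ) = 11 * 45 * 16 by norm_num, show 11 * c * 45 = 11 * 45 * c by ring] at hdvdM
    exact (Nat.mul_dvd_mul_iff_left (by norm_num)).1 hdvdM
  have hc16 : c ≠ 16 := fun e => hne (Subgroup.eq_top_of_card_eq M (by rw [hord, ← hNM, e]))
  have hlt := centralizer_ne_normalizer hperf P h11M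
  have hC11 : 11 ∣ Nat.card (Subgroup.centralizer ((P : Subgroup M) : Set M)) := by
    haveI : IsCyclic (P : Subgroup M) := isCyclic_of_prime_card hP
    exact hP.symm.dvd.trans (Subgroup.card_dvd_of_le (Subgroup.le_centralizer _))
  have hdq := card_quot_dvd _ hP
  rw [hc] at hlt hdq
  -- the order of `M`
  have hc248 : c = 2 ∨ c = 4 ∨ c = 8 := by
    have hle := Nat.le_of_dvd (by norm_num) hcd
    interval_cases c <;> first | omega | (norm_num at hcd) | skip
    · exfalso
      have := Nat.le_of_dvd Nat.card_pos hC11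
      omega
  have hCc : Nat.card (Subgroup.centralizer ((P : Subgroup M) : Set M)) * 2 = 11 * c := by
    obtain ⟨d, hd⟩ := hC11
    rw [hd] at hdq hlt ⊢
    rw [show (11 - 1 : ℕ) = 10 by norm_num, mul_assoc] at hdq
    have h1 := (Nat.mul_dvd_mul_iff_left (by norm_num : 0 < 11)).1 hdq
    have hdlt : d < c := by omega
    have hd0 : 0 < d := by have := Nat.card_pos (α := Subgroup.centralizer ((P : Subgroup M) : Set M)); omega
    have key : ∀ c ∈ ({2, 4, 8} : Finset ℕ), ∀ d ∈ Finset.range 8, 0 < d → d < c → c ∣ d * 10 → d * 2 = c := by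
      decide +kernel
    have := key c (by simpa using hc248) d (Finset.mem_range.2 (by omega)) hd0 hdlt h1
    omega
  obtain ⟨Q⟩ : Nonempty (Sylow 5 M) := inferInstance
  have h5M : 5 ∣ Nat.card M := ⟨11 * c * 9, by rw [← hNM]; ring⟩
  have hfac5 : (Nat.card M).factorization 5 = 1 := le_antisymm
    (f5 ▸ (Nat.factorization_le_iff_dvd Nat.card_pos.ne' (by norm_num)).2 hdvdM 5)
    ((Nat.Prime.pow_dvd_iff_le_factorization (by norm_num) Nat.card_pos.ne').1 (by rwa [pow_one]))
  have hQ : Nat.card (Q : Subgroup M) = 5 := by rw [Q.card_eq_multiplicity, hfac5, pow_one]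
  have hc2 : c ≠ 2 := by
    rintro rfl
    -- a Sylow 2-subgroup of order two
    obtain ⟨T⟩ : Nonempty (Sylow 2 M) := inferInstance
    have hT : Nat.card (T : Subgroup M) = 2 := by
      rw [T.card_eq_multiplicity, ← hNM]
      have : (11 * 2 * 45 : ℕ).factorization 2 = 1 := by
        have e : (11 * 2 * 45 : ℕ) = 2 ^ 1 * 495 := by norm_num
        rw [e, Nat.factorization_mul (by norm_num) (by norm_num),
          Nat.Prime.factorization_pow Nat.prime_two]
        simp [Nat.factorization_eq_zero_of_not_dvd (by norm_num : ¬ 2 ∣ 495)]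
      rw [this, pow_one]
    refine not_perfect_of_burnside hperf T ⟨495, by rw [← hNM]⟩ fun x hx => ?_
    rw [Subgroup.mem_centralizer_iff]
    intro t ht
    by_cases ht1 : t = 1
    · simp [ht1]
    obtain ⟨w, -, hw⟩ := (Nat.card_eq_two_iff' (1 : (T : Subgroup M))).1 hT
    have hxt : x * t * x⁻¹ ∈ (T : Subgroup M) := (Subgroup.mem_normalizer_iff.1 hx t).1 ht
    have hne1 : x * t * x⁻¹ ≠ 1 := fun h => ht1 (conj_eq_one_iff.1 h)
    have e1 := hw ⟨_, hxt⟩ fun e => hne1 (congrArg Subtype.val e)
    have e2 := hw ⟨t, ht⟩ fun e => ht1 (congrArg Subtype.val e)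
    exact (mul_inv_eq_iff_eq_mul.1 (congrArg Subtype.val (e1.trans e2.symm) : x * t * x⁻¹ = t)).symm
  have hc48 : c = 4 ∨ c = 8 := by omega
  -- no element of order 55 and none of order 55 in `M`
  have hno : ¬ Edge M 11 5 := fun h => by
    have hcard : ∀ P' : Sylow 11 M, Nat.card (P' : Subgroup M) = 11 := fun P' => by
      rw [P'.card_eq_multiplicity, hfac11, pow_one]
    have := centralizer_dvd_of_edge (by norm_num : Nat.Prime 5) (by norm_num) hcard
      (m := Nat.card (Subgroup.centralizer ((P : Subgroup M) : Set M))) (fun P' => by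
        obtain ⟨g, rfl⟩ := MulAction.exists_smul_eq M P P'
        refine (dvd_of_eq ?_)
        have e : Subgroup.centralizer (((g • P : Sylow 11 M) : Subgroup M) : Set M) =
            (Subgroup.centralizer ((P : Subgroup M) : Set M)).map (MulAut.conj g).toMonoidHom := by
          rw [Sylow.coe_subgroup_smul]
          ext x
          simp only [Subgroup.mem_map, Subgroup.mem_centralizer_iff, SetLike.mem_coe,
            Subgroup.mem_smul_pointwise_iff_exists, MulAut.smul_def, MulAut.conj_apply,
            MulEquiv.coe_toMonoidHom]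
          constructor
          · intro h
            refine ⟨g⁻¹ * x * g, fun y hy => ?_, by group⟩
            have := h (g * y * g⁻¹) ⟨y, hy, rfl⟩
            calc y * (g⁻¹ * x * g) = g⁻¹ * (g * y * g⁻¹ * x) * g := by group
              _ = g⁻¹ * (x * (g * y * g⁻¹)) * g := by rw [this]
              _ = g⁻¹ * x * g * y := by group
          · rintro ⟨w, hw, rfl⟩ _ ⟨y, hy, rfl⟩
            calc g * y * g⁻¹ * (g * w * g⁻¹) = g * (y * w) * g⁻¹ := by group
              _ = g * (w * y) * g⁻¹ := by rw [hw y hy]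
              _ = g * w * g⁻¹ * (g * y * g⁻¹) := by group
        rw [e, Nat.card_congr (Subgroup.equivMapOfInjective _ _ (MulAut.conj g).injective).toEquiv.symm]) h
    obtain ⟨k, hk⟩ := this
    rcases hc48 with rfl | rfl <;> omega
  have he2 : Edge M 11 2 := by
    obtain ⟨x, hx⟩ := exists_prime_orderOf_dvd_card' (G := Subgroup.centralizer ((P : Subgroup M) : Set M)) 2
      (by rcases hc48 with rfl | rfl <;> omega)
    obtain ⟨a, ha⟩ := exists_prime_orderOf_dvd_card' (G := (P : Subgroup M)) 11 (by rw [hP])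
    have hxa : Commute (a : M) x := Subgroup.mem_centralizer_iff.1 x.2 a a.2
    exact ⟨(a : M) * x, by
      rw [hxa.orderOf_mul_eq_mul_orderOf_of_coprime (by rw [Subgroup.orderOf_coe, Subgroup.orderOf_coe, hx, ha]; norm_num),
        Subgroup.orderOf_coe, Subgroup.orderOf_coe, hx, ha]⟩
  have hG2 : Edge G 11 2 := by
    obtain ⟨g, hg⟩ := he2; exact ⟨(g : G), by rw [Subgroup.orderOf_coe, hg]⟩
  have hgen : ∀ K : Subgroup M, (∀ P' : Sylow 11 M, (P' : Subgroup M) ≤ K) → K = ⊤ := by
    intro K hK
    obtain ⟨W, hW⟩ : ∃ W, W = ⨆ P' : Sylow 11 G, (P' : Subgroup G) := ⟨_, rfl⟩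
    haveI : W.Normal := by
      rw [← Subgroup.normalizer_eq_top_iff, eq_top_iff]
      intro g _
      have key : ∀ g : G, ∀ y ∈ W, g * y * g⁻¹ ∈ W := by
        intro g
        have hle : W ≤ W.comap (MulAut.conj g).toMonoidHom := by
          conv_lhs => rw [hW]
          refine iSup_le fun P' y hy => ?_
          rw [Subgroup.mem_comap, hW]
          refine Subgroup.mem_iSup_of_mem (g • P') ?_
          rw [Sylow.coe_subgroup_smul, Subgroup.mem_smul_pointwise_iff_exists]
          exact ⟨y, hy, rfl⟩
        exact fun y hy => hle hy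
      rw [Subgroup.mem_normalizer_iff]
      refine fun y => ⟨key g y, fun hy => ?_⟩
      have := key g⁻¹ _ hy
      rwa [show g⁻¹ * (g * y * g⁻¹) * g⁻¹⁻¹ = y by group] at this
    have hWK : W ≤ K.map M.subtype := by
      rw [hW]
      refine iSup_le fun P' => ?_
      intro y hy
      exact ⟨⟨y, hall P' hy⟩, hK (P'.subtype (hall P')) (by rw [Sylow.coe_subtype]; exact hy), rfl⟩
    rcases hminimal W inferInstance (hWK.trans (Subgroup.map_subtype_le _)) with e | e
    · exfalso
      obtain ⟨P'⟩ : Nonempty (Sylow 11 G) := inferInstance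
      have : (P' : Subgroup G) ≤ ⊥ := e ▸ hW ▸ le_iSup (fun P' : Sylow 11 G => (P' : Subgroup G)) P'
      exact P'.ne_bot_of_dvd_card (by rw [hord]; norm_num) (le_bot_iff.1 this)
    · rw [eq_top_iff]
      intro x _
      obtain ⟨y, hy, hyx⟩ := (e ▸ hWK : M ≤ K.map M.subtype) x.2
      rwa [← Subtype.ext hyx]
  have hZ : Subgroup.center M = ⊥ := by
    rw [eq_bot_iff]
    intro z hz
    have : (z : G) ∈ Subgroup.centralizer (M : Set G) :=
      Subgroup.mem_centralizer_iff.2 fun m hm => congrArg Subtype.val (Subgroup.mem_center_iff.1 hz ⟨m, hm⟩)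
    rw [hC, Subgroup.mem_bot] at this
    exact Subgroup.mem_bot.2 (Subtype.ext this)
  -- the Sylow 5-subgroups
  have hNQ := Subgroup.card_mul_index (Subgroup.normalizer ((Q : Subgroup M) : Set M))
  rw [← card_eq_index Q] at hNQ
  obtain ⟨e, he⟩ : 5 ∣ Nat.card (Subgroup.normalizer ((Q : Subgroup M) : Set M)) :=
    hQ.symm.dvd.trans (Subgroup.card_dvd_of_le Subgroup.le_normalizer)
  have hn5 : Nat.card (Sylow 5 M) ∣ 99 * c :=
    ⟨e, by rw [he, ← hNM] at hNQ; rw [mul_assoc, mul_comm e] at hNQ; omega⟩
  have hm5 : Nat.card (Sylow 5 M) % 5 = 1 % 5 := card_sylow_modEq_one 5 M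
  have hcases : Nat.card (Sylow 5 M) = 1 ∨ Nat.card (Sylow 5 M) = 6 ∨ Nat.card (Sylow 5 M) = 11 ∨
      Nat.card (Sylow 5 M) = 36 ∨ Nat.card (Sylow 5 M) = 66 ∨ Nat.card (Sylow 5 M) = 396 := by
    have h792 : Nat.card (Sylow 5 M) ∣ 792 := hn5.trans (by rcases hc48 with rfl | rfl <;> norm_num)
    generalize Nat.card (Sylow 5 M) = n at hm5 h792
    have key : ∀ n ∈ Nat.divisors 792, n % 5 = 1 % 5 → n = 1 ∨ n = 6 ∨ n = 11 ∨ n = 36 ∨ n = 66 ∨ n = 396 := by
      decide +kernel
    exact key n (Nat.mem_divisors.2 ⟨h792, by norm_num⟩) hm5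
  have hfaith : ∀ x : M, (∀ Q' : Sylow 5 M, x • Q' = Q') → Nat.card (Sylow 5 M) ≠ 1 → x = 1 := by
    intro x hx hn1
    obtain ⟨Kk, hKk⟩ : ∃ Kk, Kk = (MulAction.toPermHom M (Sylow 5 M)).ker := ⟨_, rfl⟩
    haveI : Kk.Normal := hKk ▸ MonoidHom.normal_ker _
    have hxK : x ∈ Kk := by rw [hKk, MonoidHom.mem_ker]; exact Equiv.ext hx
    -- `G` permutes the Sylow subgroups of `M`, so the kernel is normal in `G`
    have hmap : (Kk.map M.subtype).Normal := by
      refine ⟨fun y hy g => ?_⟩
      obtain ⟨k, hk, rfl⟩ := hy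
      refine ⟨MulAut.conjNormal g k, ?_, rfl⟩
      rw [hKk] at hk ⊢
      rw [SetLike.mem_coe, MonoidHom.mem_ker] at hk ⊢
      refine Equiv.ext fun Q' => ?_
      let φ : MulAut M := MulAut.conjNormal g
      have hQ'' : ∃ Q'' : Sylow 5 M, (Q'' : Subgroup M).map φ.toMonoidHom = Q' := by
        refine ⟨Q'.comapOfInjective φ.toMonoidHom φ.injective (fun a _ => φ.surjective a), ?_⟩
        show Subgroup.map φ.toMonoidHom ((Q' : Subgroup M).comap φ.toMonoidHom) = Q'
        exact Subgroup.map_comap_eq_self_of_surjective φ.surjective _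
      obtain ⟨Q'', hQ''⟩ := hQ''
      have hkQ : k • Q'' = Q'' := Equiv.ext_iff.1 hk Q''
      apply Sylow.ext
      show ((φ k • Q' : Sylow 5 M) : Subgroup M) = Q'
      rw [Sylow.coe_subgroup_smul, ← hQ'']
      ext y
      obtain ⟨y', rfl⟩ := φ.surjective y
      have h1 : y' ∈ MulAut.conj k • (Q'' : Subgroup M) ↔ y' ∈ (Q'' : Subgroup M) := by
        rw [← Sylow.coe_subgroup_smul, hkQ]
      rw [Subgroup.mem_pointwise_smul_iff_inv_smul_mem] at h1 ⊢
      simp only [Subgroup.mem_map, MulEquiv.coe_toMonoidHom, MulAut.smul_def, MulAut.conj_inv_apply] at h1 ⊢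
      constructor
      · rintro ⟨w, hw, he⟩
        refine ⟨y', h1.1 ?_, rfl⟩
        have e3 : w = k⁻¹ * y' * k := φ.injective (by rw [he, map_mul, map_mul, map_inv])
        rwa [← e3]
      · rintro ⟨w, hw, he⟩
        refine ⟨k⁻¹ * y' * k, h1.2 ?_, by rw [map_mul, map_mul, map_inv]⟩
        rwa [← φ.injective he]
    rcases hminimal _ hmap (Subgroup.map_subtype_le _) with h | h
    · exact Subgroup.mem_bot.1 ((Subgroup.map_eq_bot_iff_of_injective _ M.subtype_injective).1 h ▸ hxK)
    · exfalso
      apply hn1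
      rw [card_eq_index Q, Subgroup.index_eq_one, eq_top_iff]
      intro m _
      have hm : m ∈ Kk := by
        obtain ⟨m', hm', e'⟩ := h.ge m.2
        rwa [← Subtype.ext e']
      rw [hKk, MonoidHom.mem_ker] at hm
      exact (smul_iff _ _).1 (Equiv.ext_iff.1 hm Q)
  have small : Nat.card (Sylow 5 M) ≤ 12 → Nat.card (Sylow 5 M) ≠ 1 → False := by
    intro hle hn1
    obtain ⟨g, hg⟩ := he2
    exact no_commuting (X := Sylow 5 M) hle (fun x hx => hfaith x hx hn1) (g ^ 2) (g ^ 11)
      (by rw [orderOf_pow_of_dvd (by norm_num) (by rw [hg]; norm_num), hg])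
      (Or.inl (by rw [orderOf_pow_of_dvd (by norm_num) (by rw [hg]; norm_num), hg]))
      ((Commute.refl g).pow_pow 2 11)
  have sylM : ∀ r : ℕ, r.Prime → r ∣ Nat.card (Subgroup.normalizer ((Q : Subgroup M) : Set M)) →
      ¬ r ∣ 4 → r ≠ 5 → Edge M 5 r := by
    intro r hr hd h4 h5
    haveI : Fact r.Prime := ⟨hr⟩
    obtain ⟨S⟩ : Nonempty (Sylow r (Subgroup.normalizer ((Q : Subgroup M) : Set M))) := inferInstance
    exact edge_of_action (Fact.out : Nat.Prime 5) hr h5.symm (Q : Subgroup M)
      ((S : Subgroup _).map (Subgroup.subtype _)) Q.isPGroup' (Q.ne_bot_of_dvd_card h5M)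
      (S.isPGroup'.map _)
      (fun h => S.ne_bot_of_dvd_card hd ((Subgroup.map_eq_bot_iff_of_injective _ (Subgroup.subtype_injective _)).1 h))
      (Subgroup.map_subtype_le _) (Or.inl (by rw [hQ]; exact h4))
  rcases hcases with h | h | h | h | h | h
  · -- a normal Sylow 5-subgroup
    have hnQ : (Q : Subgroup M).Normal := by
      rw [card_eq_index Q, Subgroup.index_eq_one] at h
      exact Subgroup.normalizer_eq_top_iff.1 h
    haveI := Q.characteristic_of_normal hnQ
    rcases hminimal ((Q : Subgroup M).map M.subtype) inferInstance (Subgroup.map_subtype_le _) with e' | e'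
    · exact Q.ne_bot_of_dvd_card h5M ((Subgroup.map_eq_bot_iff_of_injective _ M.subtype_injective).1 e')
    · have := congrArg (fun K : Subgroup G => Nat.card K) e'
      simp only [Nat.card_congr (Subgroup.equivMapOfInjective _ _ M.subtype_injective).toEquiv.symm, hQ] at this
      omega
  · exact small (by omega) (by omega)
  · exact small (by omega) (by omega)
  · exact hno (sylM 11 (by norm_num) (by rw [h] at hNQ; omega) (by norm_num) (by norm_num)).symm
  · -- the normaliser in `G` has order 120
    have e53 : Edge G 5 3 := by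
      obtain ⟨g, hg⟩ := sylM 3 (by norm_num) (by rw [h] at hNQ; omega) (by norm_num) (by norm_num)
      exact ⟨(g : G), by rw [Subgroup.orderOf_coe, hg]⟩
    refine hconn3 hG2 e53 ?_
    obtain ⟨QG, hQG⟩ : ∃ QG, QG = (Q : Subgroup M).map M.subtype := ⟨_, rfl⟩
    have hQGc : Nat.card QG = 5 := by
      rw [hQG, Nat.card_congr (Subgroup.equivMapOfInjective _ _ M.subtype_injective).toEquiv.symm, hQ]
    have hNG : Nat.card (Subgroup.normalizer (QG : Set G)) = 120 := by
      have hidx : (Subgroup.normalizer (QG : Set G)).index = 66 := by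
        have hf : Subgroup.normalizer (QG : Set G) ⊔ M = ⊤ := by rw [hQG]; exact Q.normalizer_sup_eq_top
        have hle : QG ≤ M := hQG ▸ Subgroup.map_subtype_le _
        have e1 : (Subgroup.normalizer (QG : Set G)).index =
            (Subgroup.normalizer (QG : Set G)).relIndex M := by
          rw [← Subgroup.relIndex_top_right, ← hf, sup_comm, relIndex_sup]
        rw [e1, Subgroup.relIndex, Subgroup.subgroupOf_normalizer_eq hle, hQG, Subgroup.subgroupOf,
          Subgroup.comap_map_eq_self_of_injective M.subtype_injective, ← card_eq_index Q, h]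
      have := Subgroup.card_mul_index (Subgroup.normalizer (QG : Set G))
      rw [hidx, hord] at this; omega
    have h2 : 2 ∣ Nat.card (Subgroup.centralizer (QG : Set G)) := by
      have h1 := card_quot_dvd QG hQGc
      rw [hNG] at h1
      have : 30 ∣ Nat.card (Subgroup.centralizer (QG : Set G)) :=
        (Nat.mul_dvd_mul_iff_right (by norm_num : 0 < 4)).1 (by simpa using h1)
      exact (by norm_num : 2 ∣ 30).trans this
    obtain ⟨x, hx⟩ := exists_prime_orderOf_dvd_card' 2 h2
    obtain ⟨a, ha⟩ := exists_prime_orderOf_dvd_card' (G := QG) 5 (by rw [hQGc])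
    have hxa : Commute (a : G) x := Subgroup.mem_centralizer_iff.1 x.2 a a.2
    exact ⟨(a : G) * x, by
      rw [hxa.orderOf_mul_eq_mul_orderOf_of_coprime (by rw [Subgroup.orderOf_coe, Subgroup.orderOf_coe, hx, ha]; norm_num),
        Subgroup.orderOf_coe, Subgroup.orderOf_coe, hx, ha]⟩
  · rcases hc48 with rfl | rfl
    · refine not_perfect_of_burnside hperf Q h5M ?_
      haveI : IsCyclic (Q : Subgroup M) := isCyclic_of_prime_card hQ
      rw [show Subgroup.normalizer ((Q : Subgroup M) : Set M) = Q from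
        (Subgroup.eq_of_le_of_card_ge Subgroup.le_normalizer (by rw [h] at hNQ; omega)).symm]
      exact Subgroup.le_centralizer _
    · exact no_3960 (by omega) hperf h11 h hgen hZ

set_option maxHeartbeats 800000 in
theorem main (hord : Nat.card G = 7920)
    (hconn : Edge G 11 2 → Edge G 11 3 → (Edge G 11 5 ∨ Edge G 2 5 ∨ Edge G 3 5) → False)
    (hconn2 : Edge G 3 2 → Edge G 3 11 → Edge G 3 5 → False)
    (hconn5 : Edge G 5 2 → Edge G 5 3 → Edge G 5 11 → False)
    (hconn2' : Edge G 2 11 → Edge G 2 5 → Edge G 2 3 → False)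
    (hconn3 : Edge G 11 2 → Edge G 5 3 → Edge G 5 2 → False) :
    IsSimpleGroup G := by
  classical
  haveI : Nontrivial G := Finite.one_lt_card_iff_nontrivial.1 (by omega)
  obtain ⟨f2, f3, f5, f11⟩ := fact_7920
  have p5 : Nat.Prime 5 := by norm_num
  have p11 : Nat.Prime 11 := by norm_num
  have sylcard : ∀ (q : ℕ) [Fact q.Prime] (P : Sylow q G),
      Nat.card (P : Subgroup G) = q ^ (7920 : ℕ).factorization q := fun q _ P => by
    rw [P.card_eq_multiplicity, hord]
  -- no nontrivial normal subgroup of prime power order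
  have noq : ∀ q : ℕ, q.Prime → ∀ N : Subgroup G, N.Normal → IsPGroup q N → N = ⊥ := by
    intro q hq N hN hNq
    by_contra hN1
    haveI : Fact q.Prime := ⟨hq⟩
    have hnorm : ∀ S : Subgroup G, S ≤ Subgroup.normalizer (N : Set G) :=
      fun S => by rw [Subgroup.normalizer_eq_top]; exact le_top
    obtain ⟨a, ha⟩ := IsPGroup.iff_card.1 hNq
    have ha0 : a ≠ 0 := fun e => hN1 (Subgroup.eq_bot_of_card_eq _ (by rw [ha, e, pow_zero]))
    have hdv : q ∣ 7920 := hord ▸ (dvd_pow_self q ha0).trans (ha ▸ N.card_subgroup_dvd_card)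
    have hale : a ≤ (7920 : ℕ).factorization q := by
      rw [← Nat.Prime.pow_dvd_iff_le_factorization hq (by norm_num), ← ha, ← hord]
      exact N.card_subgroup_dvd_card
    have E : ∀ r : ℕ, r.Prime → q ≠ r → r ∣ 7920 →
        (¬ r ∣ q ^ a - 1 ∨ q ^ a - 1 < r ^ (7920 : ℕ).factorization r) → Edge G q r := by
      intro r hr hqr hrd hc
      haveI : Fact r.Prime := ⟨hr⟩
      obtain ⟨P⟩ : Nonempty (Sylow r G) := inferInstance
      refine edge_of_action hq hr hqr N P hNq hN1 P.isPGroup' (P.ne_bot_of_dvd_card (hord ▸ hrd))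
        (hnorm _) ?_
      rw [ha, sylcard r P]; exact hc
    rcases prime_dvd_7920 hq hdv with rfl | rfl | rfl | rfl
    · rw [f2] at hale
      have e11 : Edge G 2 11 := E 11 p11 (by norm_num) (by norm_num) (Or.inl (by interval_cases a <;> norm_num at *))
      rcases (show a ≤ 3 ∨ a = 4 by omega) with h3 | rfl
      · exact hconn2' e11 (E 5 p5 (by norm_num) (by norm_num) (Or.inl (by interval_cases a <;> norm_num at *)))
          (E 3 Nat.prime_three (by norm_num) (by norm_num) (Or.inr (by rw [f3]; interval_cases a <;> norm_num at *)))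
      haveI := hN
      haveI : Fact (Nat.Prime 5) := ⟨p5⟩
      haveI : Fact (Nat.Prime 11) := ⟨p11⟩
      haveI : Fact (Nat.Prime 3) := ⟨Nat.prime_three⟩
      have hQ : Nat.card (G ⧸ N) = 495 := by
        have := N.card_eq_card_quotient_mul_card_subgroup
        rw [hord, ha] at this; omega
      obtain ⟨fa, fb, fc⟩ : (495 : ℕ).factorization 11 = 1 ∧ (495 : ℕ).factorization 5 = 1 ∧
          (495 : ℕ).factorization 3 = 2 := by
        have e : (495 : ℕ) = 3 ^ 2 * 5 ^ 1 * 11 ^ 1 := by norm_num
        rw [e, Nat.factorization_mul (by norm_num) (by norm_num), Nat.factorization_mul (by norm_num) (by norm_num),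
          Nat.Prime.factorization_pow Nat.prime_three, Nat.Prime.factorization_pow p5, Nat.Prime.factorization_pow p11]
        simp
      -- Sylow numbers in the quotient
      have key : ∀ (r : ℕ) [Fact r.Prime] (P : Sylow r (G ⧸ N)),
          (495 : ℕ).factorization r = 1 →
          Nat.card (Subgroup.normalizer ((P : Subgroup (G ⧸ N)) : Set (G ⧸ N))) * Nat.card (Sylow r (G ⧸ N)) = 495 ∧
          Nat.card (Sylow r (G ⧸ N)) * r ∣ 495 ∧ Nat.card (Sylow r (G ⧸ N)) % r = 1 % r := by
        intro r _ P hf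
        have h1 : Nat.card (Subgroup.normalizer ((P : Subgroup (G ⧸ N)) : Set (G ⧸ N))) *
            Nat.card (Sylow r (G ⧸ N)) = 495 := by
          rw [card_eq_index P, Subgroup.card_mul_index, hQ]
        have hP : Nat.card (P : Subgroup (G ⧸ N)) = r := by rw [P.card_eq_multiplicity, hQ, hf, pow_one]
        have h2 : Nat.card (Sylow r (G ⧸ N)) * r ∣ 495 := by
          have h3 := Nat.mul_dvd_mul_left (Nat.card (Sylow r (G ⧸ N))) (hP.symm.dvd.trans (Subgroup.card_dvd_of_le Subgroup.le_normalizer) :
            r ∣ Nat.card (Subgroup.normalizer ((P : Subgroup (G ⧸ N)) : Set (G ⧸ N))))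
          rwa [mul_comm _ (Nat.card (Subgroup.normalizer _)), h1] at h3
        exact ⟨h1, h2, card_sylow_modEq_one r (G ⧸ N)⟩
      obtain ⟨Q⟩ : Nonempty (Sylow 5 (G ⧸ N)) := inferInstance
      obtain ⟨P⟩ : Nonempty (Sylow 11 (G ⧸ N)) := inferInstance
      have hQc : Nat.card (Q : Subgroup (G ⧸ N)) = 5 := by rw [Q.card_eq_multiplicity, hQ, fb, pow_one]
      have hPc : Nat.card (P : Subgroup (G ⧸ N)) = 11 := by rw [P.card_eq_multiplicity, hQ, fa, pow_one]
      -- the edge from 5 to 3
      have e53 : Edge G 5 3 := by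
        obtain ⟨h1, h2, h3⟩ := key 5 Q fb
        have hm : 3 ∣ Nat.card (Subgroup.normalizer ((Q : Subgroup (G ⧸ N)) : Set (G ⧸ N))) := by
          have hn : Nat.card (Sylow 5 (G ⧸ N)) ∣ 99 := by
            obtain ⟨c, hc⟩ := h2
            exact ⟨c, by rw [mul_assoc, mul_comm 5, ← mul_assoc] at hc; omega⟩
          have hle := Nat.le_of_dvd (by norm_num) hn
          have h4 : Nat.card (Sylow 5 (G ⧸ N)) = 1 ∨ Nat.card (Sylow 5 (G ⧸ N)) = 11 := by
            revert hn h3
            generalize Nat.card (Sylow 5 (G ⧸ N)) = n at hle ⊢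
            intro h3 hn
            interval_cases n <;> omega
          rcases h4 with h | h <;> rw [h] at h1 <;> omega
        obtain ⟨R⟩ : Nonempty (Sylow 3 (Subgroup.normalizer ((Q : Subgroup (G ⧸ N)) : Set (G ⧸ N)))) := inferInstance
        exact (edge_of_action p5 Nat.prime_three (by norm_num) _
          ((R : Subgroup _).map (Subgroup.subtype _)) Q.isPGroup' (Q.ne_bot_of_dvd_card (by rw [hQ]; norm_num))
          (R.isPGroup'.map _) (fun h => R.ne_bot_of_dvd_card hm
            ((Subgroup.map_eq_bot_iff_of_injective _ (Subgroup.subtype_injective _)).1 h))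
          (Subgroup.map_subtype_le _) (Or.inl (by rw [hQc]; norm_num))).of_quotient
      -- the edge from 11 to 3
      have e113 : Edge G 11 3 := by
        obtain ⟨h1, h2, h3⟩ := key 11 P fa
        by_cases hm : 3 ∣ Nat.card (Subgroup.normalizer ((P : Subgroup (G ⧸ N)) : Set (G ⧸ N)))
        · obtain ⟨R⟩ : Nonempty (Sylow 3 (Subgroup.normalizer ((P : Subgroup (G ⧸ N)) : Set (G ⧸ N)))) := inferInstance
          exact (edge_of_action p11 Nat.prime_three (by norm_num) _
            ((R : Subgroup _).map (Subgroup.subtype _)) P.isPGroup' (P.ne_bot_of_dvd_card (by rw [hQ]; norm_num))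
            (R.isPGroup'.map _) (fun h => R.ne_bot_of_dvd_card hm
              ((Subgroup.map_eq_bot_iff_of_injective _ (Subgroup.subtype_injective _)).1 h))
            (Subgroup.map_subtype_le _) (Or.inl (by rw [hPc]; norm_num))).of_quotient
        · have hn : Nat.card (Sylow 11 (G ⧸ N)) ∣ 45 := by
            obtain ⟨c, hc⟩ := h2
            exact ⟨c, by rw [mul_assoc, mul_comm 11, ← mul_assoc] at hc; omega⟩
          have hle := Nat.le_of_dvd (by norm_num) hn
          have h4 : Nat.card (Sylow 11 (G ⧸ N)) = 1 ∨ Nat.card (Sylow 11 (G ⧸ N)) = 45 := by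
            revert hn h3
            generalize Nat.card (Sylow 11 (G ⧸ N)) = n at hle ⊢
            intro h3 hn
            interval_cases n <;> omega
          have hN11 : Subgroup.normalizer ((P : Subgroup (G ⧸ N)) : Set (G ⧸ N)) = P := by
            refine (Subgroup.eq_of_le_of_card_ge Subgroup.le_normalizer ?_).symm
            rw [hPc]
            rcases h4 with h | h <;> rw [h] at h1 <;> omega
          haveI : IsCyclic (P : Subgroup (G ⧸ N)) := isCyclic_of_prime_card hPc
          have hle' : Subgroup.normalizer ((P : Subgroup (G ⧸ N)) : Set (G ⧸ N)) ≤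
              Subgroup.centralizer ((P : Subgroup (G ⧸ N)) : Set (G ⧸ N)) := by
            rw [hN11]; exact Subgroup.le_centralizer _
          obtain ⟨K, hK⟩ : ∃ K, K = (MonoidHom.transferSylow P hle').ker := ⟨_, rfl⟩
          haveI : K.Normal := hK ▸ MonoidHom.normal_ker _
          have hKc : Nat.card K = 45 := by
            have := (MonoidHom.ker_transferSylow_isComplement' P hle').card_mul
            rw [← hK, hPc, hQ] at this; omega
          obtain ⟨R⟩ : Nonempty (Sylow 3 K) := inferInstance
          obtain ⟨S, hS, hS1, hSn⟩ := frattini_sylow (r := 11) K (by rw [hKc]; norm_num) (by rw [hQ]; norm_num) R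
          refine ((edge_of_action Nat.prime_three p11 (by norm_num) _ S (R.isPGroup'.map _)
            (fun h => R.ne_bot_of_dvd_card (by rw [hKc]; norm_num)
              ((Subgroup.map_eq_bot_iff_of_injective _ K.subtype_injective).1 h)) hS hS1 hSn
            (Or.inl ?_)).of_quotient).symm
          rw [Nat.card_congr (Subgroup.equivMapOfInjective _ _ K.subtype_injective).toEquiv.symm,
            R.card_eq_multiplicity, hKc]
          have : (45 : ℕ).factorization 3 = 2 := by
            have e : (45 : ℕ) = 3 ^ 2 * 5 := by norm_num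
            rw [e, Nat.factorization_mul (by norm_num) (by norm_num),
              Nat.Prime.factorization_pow Nat.prime_three, Nat.Prime.factorization p5]
            simp
          rw [this]; norm_num
      exact hconn e11.symm e113 (Or.inr (Or.inr e53.symm))
    · rw [f3] at hale
      exact hconn2 (E 2 Nat.prime_two (by norm_num) (by norm_num) (Or.inr (by rw [f2]; interval_cases a <;> norm_num at *)))
        (E 11 p11 (by norm_num) (by norm_num) (Or.inl (by interval_cases a <;> norm_num at *)))
        (E 5 p5 (by norm_num) (by norm_num) (Or.inl (by interval_cases a <;> norm_num at *)))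
    · rw [f5] at hale
      obtain rfl : a = 1 := by omega
      exact hconn5 (E 2 Nat.prime_two (by norm_num) (by norm_num) (Or.inr (by rw [f2]; norm_num)))
        (E 3 Nat.prime_three (by norm_num) (by norm_num) (Or.inl (by norm_num)))
        (E 11 p11 (by norm_num) (by norm_num) (Or.inl (by norm_num)))
    · rw [f11] at hale
      obtain rfl : a = 1 := by omega
      refine hconn (E 2 Nat.prime_two (by norm_num) (by norm_num) (Or.inr (by rw [f2]; norm_num)))
        (E 3 Nat.prime_three (by norm_num) (by norm_num) (Or.inl (by norm_num))) ?_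
      haveI := hN
      haveI : Fact (Nat.Prime 3) := ⟨Nat.prime_three⟩
      haveI : Fact (Nat.Prime 5) := ⟨p5⟩
      by_cases h5 : 5 ∣ Nat.card (Subgroup.centralizer (N : Set G))
      · left
        obtain ⟨x, hx⟩ := exists_prime_orderOf_dvd_card' 5 h5
        obtain ⟨y, hy⟩ := exists_prime_orderOf_dvd_card' (G := N) 11 (by rw [ha, pow_one])
        have hxy : Commute (y : G) x := Subgroup.mem_centralizer_iff.1 x.2 y y.2
        exact ⟨(y : G) * x, by
          rw [hxy.orderOf_mul_eq_mul_orderOf_of_coprime (by rw [Subgroup.orderOf_coe, Subgroup.orderOf_coe, hx, hy]; norm_num),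
            Subgroup.orderOf_coe, Subgroup.orderOf_coe, hx, hy]⟩
      · right; right
        obtain ⟨R⟩ : Nonempty (Sylow 3 (Subgroup.centralizer (N : Set G))) := inferInstance
        obtain ⟨S, hS, hS1, hSn⟩ := frattini_sylow (r := 5) (Subgroup.centralizer (N : Set G)) h5
          (by rw [hord]; norm_num) R
        have hC : Nat.card (Subgroup.centralizer (N : Set G)) * (Subgroup.centralizer (N : Set G)).index = 7920 := by
          rw [Subgroup.card_mul_index, hord]
        have hidx : ¬ 3 ∣ (Subgroup.centralizer (N : Set G)).index := by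
          intro hd
          let φ : G →* MulAut N := MulAut.conjNormal
          have hker : φ.ker = Subgroup.centralizer (N : Set G) := by
            ext g
            rw [MonoidHom.mem_ker, Subgroup.mem_centralizer_iff]
            constructor
            · intro h y hy
              have := congrArg Subtype.val (DFunLike.congr_fun h ⟨y, hy⟩)
              simp only [φ, MulAut.conjNormal_apply, MulAut.one_apply] at this
              exact (mul_inv_eq_iff_eq_mul.1 this).symm
            · intro h
              apply MulEquiv.ext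
              intro y
              apply Subtype.ext
              simp only [φ, MulAut.conjNormal_apply, MulAut.one_apply]
              rw [← h y y.2, mul_inv_cancel_right]
          haveI : IsCyclic N := isCyclic_of_prime_card (p := 11) (by rw [ha, pow_one])
          haveI : Finite (MulAut N) := Finite.of_injective _ MulEquiv.toEquiv_injective
          have h10 : Nat.card φ.range ∣ 10 := by
            have := φ.range.card_subgroup_dvd_card
            rwa [IsCyclic.card_mulAut, ha, pow_one, Nat.totient_prime p11] at this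
          rw [← hker, Subgroup.index_ker] at hd
          have := hd.trans h10
          norm_num at this
        have hR9 : Nat.card (R : Subgroup (Subgroup.centralizer (N : Set G))) = 9 := by
          rw [R.card_eq_multiplicity]
          have h9 : 9 ∣ Nat.card (Subgroup.centralizer (N : Set G)) :=
            (Nat.Coprime.pow_left 2 ((Nat.prime_three.coprime_iff_not_dvd).2 hidx)).dvd_of_dvd_mul_right
              (by rw [hC]; norm_num)
          have hle : (Nat.card (Subgroup.centralizer (N : Set G))).factorization 3 ≤ 2 := by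
            rw [← f3, ← hord]
            exact (Nat.factorization_le_iff_dvd Nat.card_pos.ne' Nat.card_pos.ne').2
              (Subgroup.card_subgroup_dvd_card _) 3
          have hge : 2 ≤ (Nat.card (Subgroup.centralizer (N : Set G))).factorization 3 :=
            (Nat.Prime.pow_dvd_iff_le_factorization Nat.prime_three Nat.card_pos.ne').1 h9
          rw [le_antisymm hle hge]; norm_num
        refine edge_of_action Nat.prime_three p5 (by norm_num) _ S (R.isPGroup'.map _)
            (fun h => by
              have h' := congrArg (fun K : Subgroup G => Nat.card K) h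
              simp only [Nat.card_congr (Subgroup.equivMapOfInjective _ _
                (Subgroup.subtype_injective _)).toEquiv.symm, hR9, Subgroup.card_bot] at h'
              omega) hS hS1 hSn (Or.inl ?_)
        rw [Nat.card_congr (Subgroup.equivMapOfInjective _ _ (Subgroup.subtype_injective _)).toEquiv.symm, hR9]
        norm_num
  refine ⟨fun H hH => ?_⟩
  by_contra! hH2
  haveI := hH
  -- minimal normal subgroups
  obtain ⟨M, hMH, ⟨hMn, hM1⟩, hMmin⟩ := Finite.exists_le_minimal
    (p := fun K : Subgroup G => K.Normal ∧ K ≠ ⊥) (a := H) ⟨hH, hH2.1⟩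
  have minimal : ∀ K : Subgroup G, K.Normal → K ≤ M → K = ⊥ ∨ K = M := fun K hK hKM => by
    by_cases h : K = ⊥
    · exact Or.inl h
    · exact Or.inr (le_antisymm hKM (hMmin ⟨hK, h⟩ hKM))
  -- every minimal normal subgroup is perfect of order divisible by 11
  have e11 : ∀ M : Subgroup G, M.Normal → M ≠ ⊥ → (∀ K : Subgroup G, K.Normal → K ≤ M → K = ⊥ ∨ K = M) →
      ⁅M, M⁆ = M ∧ 11 ∣ Nat.card M := by
    intro M hMn hM1 minimal
    haveI := hMn
    have hperf : ⁅M, M⁆ = M := by
      rcases minimal ⁅M, M⁆ inferInstance (Subgroup.commutator_le_self M) with h | h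
      · exfalso
        haveI : Nontrivial M := (Subgroup.nontrivial_iff_ne_bot M).2 hM1
        obtain ⟨q, hq, hqd⟩ := Nat.exists_prime_and_dvd (n := Nat.card M)
          (fun e => hM1 (Subgroup.eq_bot_of_card_eq M e))
        haveI : Fact q.Prime := ⟨hq⟩
        obtain ⟨P⟩ : Nonempty (Sylow q M) := inferInstance
        haveI hPn : (P : Subgroup M).Normal := ⟨fun x hx g => by
          have hc : ⁅(g : G), (x : G)⁆ = 1 := (Subgroup.mem_bot).1
            (h ▸ Subgroup.commutator_mem_commutator g.2 x.2)
          have : g * x * g⁻¹ = x := Subtype.ext (by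
            have := commutatorElement_eq_one_iff_mul_comm.1 hc
            simp only [Subgroup.coe_mul, Subgroup.coe_inv]
            rw [this, mul_inv_cancel_right])
          rwa [this]⟩
        haveI : (P : Subgroup M).Characteristic := P.characteristic_of_normal hPn
        have hn : ((P : Subgroup M).map M.subtype).Normal := inferInstance
        exact P.ne_bot_of_dvd_card hqd ((Subgroup.map_eq_bot_iff_of_injective _ M.subtype_injective).1
          (noq q hq _ hn (P.isPGroup'.map _)))
      · exact h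
    refine ⟨hperf, ?_⟩
    by_contra h11
    have hns : ¬ Group.IsSolvable M := by
      intro hs
      haveI : Nontrivial M := (Subgroup.nontrivial_iff_ne_bot M).2 hM1
      have hlt := IsSolvable.commutator_lt_top_of_nontrivial M
      apply hlt.ne
      apply Subgroup.map_injective M.subtype_injective
      rw [← MonoidHom.range_eq_map, Subgroup.range_subtype, Subgroup.map_subtype_commutator, hperf]
    haveI : Fact (Nat.Prime 11) := ⟨p11⟩
    have hr11 : 11 ∣ Nat.card G := by rw [hord]; norm_num
    have E : ∀ q : ℕ, q.Prime → q ∣ Nat.card M → Edge G 11 q := by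
      intro q hq hqd
      haveI : Fact q.Prime := ⟨hq⟩
      have hq11 : q ≠ 11 := fun e => h11 (e ▸ hqd)
      obtain ⟨Q⟩ : Nonempty (Sylow q M) := inferInstance
      obtain ⟨S, hS, hS1, hSn⟩ := frattini_sylow (r := 11) M h11 hr11 Q
      refine (edge_of_action hq p11 hq11 _ S (Q.isPGroup'.map _)
        (fun h => Q.ne_bot_of_dvd_card hqd ((Subgroup.map_eq_bot_iff_of_injective _ M.subtype_injective).1 h))
        hS hS1 hSn (Or.inl ?_)).symm
      obtain ⟨a, ha⟩ := IsPGroup.iff_card.1 Q.isPGroup'
      rw [Nat.card_congr (Subgroup.equivMapOfInjective _ _ M.subtype_injective).toEquiv.symm, ha]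
      have hale : a ≤ (7920 : ℕ).factorization q := by
        rw [← Nat.Prime.pow_dvd_iff_le_factorization hq (by norm_num), ← ha, ← hord]
        exact (Subgroup.card_subgroup_dvd_card _).trans M.card_subgroup_dvd_card
      have ha0 : a ≠ 0 := fun e => Q.ne_bot_of_dvd_card hqd (Subgroup.eq_bot_of_card_eq _ (by rw [ha, e, pow_zero]))
      rcases prime_dvd_7920 hq (hord ▸ hqd.trans M.card_subgroup_dvd_card) with rfl | rfl | rfl | rfl
      · rw [f2] at hale; interval_cases a <;> norm_num at *
      · rw [f3] at hale; interval_cases a <;> norm_num at *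
      · rw [f5] at hale; interval_cases a <;> norm_num at *
      · exact absurd rfl hq11
    have sol : ∀ r : ℕ, r.Prime → (∀ q : ℕ, q.Prime → q ∣ Nat.card M → q = 2 ∨ q = r) → False :=
      fun r hr h => hns (ThreeInv.isSolvable_two_primes r hr h)
    have hd : ∀ q : ℕ, q.Prime → q ∣ Nat.card M → q = 2 ∨ q = 3 ∨ q = 5 := fun q hq h => by
      rcases prime_dvd_7920 hq (hord ▸ h.trans M.card_subgroup_dvd_card) with e | e | e | e
      exacts [Or.inl e, Or.inr (Or.inl e), Or.inr (Or.inr e), absurd (e ▸ h) h11]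
    have h2 : 2 ∣ Nat.card M := by
      by_contra h2
      refine hns (ThreeInv.isSolvable_two_primes (G := M) 3 Nat.prime_three ?_)
      intro q hq h
      rcases hd q hq h with e | e | e
      · exact Or.inl e
      · exact Or.inr e
      · exfalso
        exact hns (Cfsg.Agent.Char.isSolvable_of_card_eq 3 5 Nat.prime_three p5 _ M rfl
          ⟨_, _, (pq_card (Nat.card M) Nat.card_pos.ne' fun p hp hpd => by
            rcases hd p hp hpd with e' | e' | e'
            exacts [absurd (e' ▸ hpd) h2, Or.inl e', Or.inr e'])⟩)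
    have h3 : 3 ∣ Nat.card M := by
      by_contra h3
      exact sol 5 p5 fun q hq h => by
        rcases hd q hq h with e | e | e
        exacts [Or.inl e, absurd (e ▸ h) h3, Or.inr e]
    have h5 : 5 ∣ Nat.card M := by
      by_contra h5
      exact sol 3 Nat.prime_three fun q hq h => by
        rcases hd q hq h with e | e | e
        exacts [Or.inl e, Or.inr e, absurd (e ▸ h) h5]
    exact hconn (E 2 Nat.prime_two h2) (E 3 Nat.prime_three h3) (Or.inl (E 5 p5 h5))
  haveI := hMn
  have hMne : M ≠ ⊤ := fun e => hH2.2 (top_le_iff.1 (e ▸ hMH))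
  obtain ⟨hperf, hM11⟩ := e11 M hMn hM1 minimal
  haveI : Fact (Nat.Prime 11) := ⟨p11⟩
  -- the centraliser of `M` is trivial
  have hC : Subgroup.centralizer (M : Set G) = ⊥ := by
    by_contra hC
    obtain ⟨L, hLC, ⟨hLn, hL1⟩, hLmin⟩ := Finite.exists_le_minimal
      (p := fun K : Subgroup G => K.Normal ∧ K ≠ ⊥) (a := Subgroup.centralizer (M : Set G)) ⟨inferInstance, hC⟩
    haveI := hLn
    have hLmin' : ∀ K : Subgroup G, K.Normal → K ≤ L → K = ⊥ ∨ K = L := fun K hK hKL => by
      by_cases h : K = ⊥
      · exact Or.inl h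
      · exact Or.inr (le_antisymm hKL (hLmin ⟨hK, h⟩ hKL))
    obtain ⟨-, hL11⟩ := e11 L hLn hL1 hLmin'
    have hLM : Disjoint L M := by
      rw [disjoint_iff]
      rcases minimal (L ⊓ M) inferInstance inf_le_right with h | h
      · exact h
      · exfalso
        have hab : M ≤ Subgroup.centralizer (M : Set G) := (h ▸ inf_le_left : M ≤ L).trans hLC
        have : ⁅M, M⁆ = ⊥ := Subgroup.commutator_eq_bot_iff_le_centralizer.2 hab
        exact hM1 (hperf ▸ this)
    have hcard : Nat.card (L ⊔ M : Subgroup G) = Nat.card L * Nat.card M := by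
      rw [← card_sup_of_normal L M, disjoint_iff.1 hLM, Subgroup.card_bot, mul_one]
    have := hcard ▸ (L ⊔ M).card_subgroup_dvd_card
    have h121 : 11 * 11 ∣ 7920 := hord ▸ (Nat.mul_dvd_mul hL11 hM11).trans this
    norm_num at h121
  -- the Sylow 11-subgroups
  have hall : ∀ P : Sylow 11 G, (P : Subgroup G) ≤ M := by
    obtain ⟨x, hx⟩ := exists_prime_orderOf_dvd_card' 11 hM11
    obtain ⟨Q, hQ⟩ := (IsPGroup.of_card (p := 11) (n := 1) (by
      rw [Nat.card_zpowers, Subgroup.orderOf_coe, hx, pow_one]) :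
      IsPGroup 11 (Subgroup.zpowers (x : G))).exists_le_sylow
    have hQe : Subgroup.zpowers (x : G) = Q := Subgroup.eq_of_le_of_card_ge hQ (by
      rw [sylcard 11 Q, f11, Nat.card_zpowers, Subgroup.orderOf_coe, hx, pow_one])
    intro P
    obtain ⟨g, hg⟩ := MulAction.exists_smul_eq G Q P
    rw [← hg, Sylow.coe_subgroup_smul]
    intro y hy
    rw [Subgroup.mem_smul_pointwise_iff_exists] at hy
    obtain ⟨z, hz, rfl⟩ := hy
    exact hMn.conj_mem z ((Subgroup.zpowers_le.2 x.2) (hQe.symm ▸ hz)) g
  obtain ⟨P⟩ : Nonempty (Sylow 11 G) := inferInstance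
  have hPc : Nat.card (P : Subgroup G) = 11 := by rw [sylcard 11 P, f11, pow_one]
  have hnn : Nat.card (Subgroup.normalizer ((P : Subgroup G) : Set G)) * Nat.card (Sylow 11 G) = 7920 := by
    rw [card_eq_index P, Subgroup.card_mul_index, hord]
  have h11n : Nat.card (Sylow 11 G) * 11 ∣ 7920 := by
    have h3 := Nat.mul_dvd_mul_left (Nat.card (Sylow 11 G)) (hPc.symm.dvd.trans (Subgroup.card_dvd_of_le Subgroup.le_normalizer) :
      11 ∣ Nat.card (Subgroup.normalizer ((P : Subgroup G) : Set G)))
    rwa [mul_comm _ (Nat.card (Subgroup.normalizer _)), hnn] at h3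
  have hn : Nat.card (Sylow 11 G) = 1 ∨ Nat.card (Sylow 11 G) = 12 ∨ Nat.card (Sylow 11 G) = 45 ∨
      Nat.card (Sylow 11 G) = 144 := by
    have hd : Nat.card (Sylow 11 G) ∣ 720 := by
      obtain ⟨c, hc⟩ := h11n
      exact ⟨c, by rw [mul_assoc, mul_comm 11, ← mul_assoc] at hc; omega⟩
    have hm : Nat.card (Sylow 11 G) % 11 = 1 % 11 := card_sylow_modEq_one 11 G
    have hle := Nat.le_of_dvd (by norm_num) hd
    have hdiv : Nat.card (Sylow 11 G) ∈ Nat.divisors 720 := Nat.mem_divisors.2 ⟨hd, by norm_num⟩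
    revert hdiv hm
    generalize Nat.card (Sylow 11 G) = n
    intro hm hdiv
    have key : ∀ n ∈ Nat.divisors 720, n % 11 = 1 % 11 → n = 1 ∨ n = 12 ∨ n = 45 ∨ n = 144 := by
      decide +kernel
    exact key n hdiv hm
  obtain ⟨PM, hPM⟩ : ∃ PM : Sylow 11 M, PM = P.subtype (hall P) := ⟨_, rfl⟩
  have hnM : Nat.card (Sylow 11 M) = Nat.card (Sylow 11 G) := by
    rw [card_eq_index PM, card_eq_index P, hPM, Sylow.coe_subtype,
      ← Subgroup.subgroupOf_normalizer_eq (hall P)]
    have hf : Subgroup.normalizer ((P : Subgroup G) : Set G) ⊔ M = ⊤ :=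
      nsup P (hall P)
    calc ((Subgroup.normalizer ((P : Subgroup G) : Set G)).subgroupOf M).index
        = (Subgroup.normalizer ((P : Subgroup G) : Set G)).relIndex M := rfl
      _ = (Subgroup.normalizer ((P : Subgroup G) : Set G)).relIndex
            (M ⊔ Subgroup.normalizer ((P : Subgroup G) : Set G)) := (relIndex_sup _ _).symm
      _ = _ := by rw [sup_comm, hf, Subgroup.relIndex_top_right]
  haveI : Fact (Nat.Prime 3) := ⟨Nat.prime_three⟩
  rcases hn with h | h | h | h
  · -- a normal Sylow subgroup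
    rw [card_eq_index P, Subgroup.index_eq_one, Subgroup.normalizer_eq_top_iff] at h
    have := noq 11 p11 _ h P.isPGroup'
    rw [this, Subgroup.card_bot] at hPc; omega
  · -- the action on twelve points
    have h3 : 3 ∣ Nat.card (Subgroup.normalizer ((P : Subgroup G) : Set G)) := by
      rw [h] at hnn; omega
    obtain ⟨R⟩ : Nonempty (Sylow 3 (Subgroup.normalizer ((P : Subgroup G) : Set G))) := inferInstance
    obtain ⟨g, hg⟩ := edge_of_action p11 Nat.prime_three (by norm_num) (P : Subgroup G)
      ((R : Subgroup _).map (Subgroup.subtype _)) P.isPGroup' (P.ne_bot_of_dvd_card (by rw [hord]; norm_num))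
      (R.isPGroup'.map _) (fun h => R.ne_bot_of_dvd_card h3
        ((Subgroup.map_eq_bot_iff_of_injective _ (Subgroup.subtype_injective _)).1 h))
      (Subgroup.map_subtype_le _) (Or.inl (by rw [hPc]; norm_num))
    have ha : orderOf (g ^ 3) = 11 := by
      rw [orderOf_pow_of_dvd (by norm_num) (by rw [hg]; norm_num), hg]
    have hb : orderOf (g ^ 11) = 3 := by
      rw [orderOf_pow_of_dvd (by norm_num) (by rw [hg]; norm_num), hg]
    refine no_commuting (X := Sylow 11 G) (by omega) ?_ (g ^ 3) (g ^ 11) ha (Or.inr hb) ((Commute.refl g).pow_pow 3 11)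
    intro x hx
    -- the kernel of the action is trivial
    obtain ⟨Kk, hKk⟩ : ∃ Kk, Kk = (MulAction.toPermHom G (Sylow 11 G)).ker := ⟨_, rfl⟩
    haveI : Kk.Normal := hKk ▸ MonoidHom.normal_ker _
    have hxK : x ∈ Kk := by rw [hKk, MonoidHom.mem_ker]; exact Equiv.ext hx
    rcases minimal (Kk ⊓ M) inferInstance inf_le_right with h0 | h0
    · have : Kk ≤ Subgroup.centralizer (M : Set G) := by
        intro k hk
        rw [Subgroup.mem_centralizer_iff]
        intro m hm
        have : ⁅Kk, M⁆ ≤ ⊥ := h0 ▸ Subgroup.commutator_le_inf Kk M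
        exact ((commutatorElement_eq_one_iff_mul_comm).1
          (Subgroup.mem_bot.1 (this (Subgroup.commutator_mem_commutator hk hm)))).symm
      exact Subgroup.mem_bot.1 (hC ▸ this hxK)
    · exfalso
      have hMK : M ≤ Subgroup.normalizer ((P : Subgroup G) : Set G) := fun m hm => by
        have h1 : m ∈ Kk := (h0 ▸ inf_le_left : M ≤ Kk) hm
        rw [hKk, MonoidHom.mem_ker] at h1
        exact (smul_iff _ _).1 (Equiv.ext_iff.1 h1 P)
      have htop : Subgroup.normalizer ((P : Subgroup G) : Set G) = ⊤ := by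
        have hf := nsup P (hall P)
        rwa [sup_eq_left.2 hMK] at hf
      rw [card_eq_index P, htop, Subgroup.index_top] at h
      omega
  · -- 45 is impossible
    have htop : commutator M = ⊤ := by
      apply Subgroup.map_injective M.subtype_injective
      rw [← MonoidHom.range_eq_map, Subgroup.range_subtype, Subgroup.map_subtype_commutator, hperf]
    exact forty_five hord M htop hMne minimal hC (hnM.trans h) h hall hconn hconn3
  · -- then `M` has a normal complement
    rw [h] at hnn hnM
    have hMc : Nat.card M = 1584 ∨ Nat.card M = 7920 := by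
      have h1 : 144 * 11 ∣ Nat.card M := by
        have hd1 : Nat.card (Subgroup.normalizer ((PM : Subgroup M) : Set M)) * 144 = Nat.card M := by
          rw [← hnM, card_eq_index PM, Subgroup.card_mul_index]
        rw [← hd1, mul_comm]
        refine Nat.mul_dvd_mul_right ?_ _
        have : Nat.card (PM : Subgroup M) = 11 := by
          rw [hPM, Sylow.coe_subtype, Nat.card_congr (Subgroup.subgroupOfEquivOfLe (hall P)).toEquiv, hPc]
        exact this.symm.dvd.trans (Subgroup.card_dvd_of_le Subgroup.le_normalizer)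
      have h2 : Nat.card M ∣ 7920 := hord ▸ M.card_subgroup_dvd_card
      obtain ⟨c, hc⟩ := h1
      rw [hc, show (7920 : ℕ) = 144 * 11 * 5 by norm_num, Nat.mul_dvd_mul_iff_left (by norm_num)] at h2
      rcases (Nat.dvd_prime p5).1 h2 with rfl | rfl <;> omega
    rcases hMc with hMc | hMc
    · have hPMc : Nat.card (PM : Subgroup M) = 11 := by
        rw [hPM, Sylow.coe_subtype, Nat.card_congr (Subgroup.subgroupOfEquivOfLe (hall P)).toEquiv, hPc]
      have hNP : Subgroup.normalizer ((PM : Subgroup M) : Set M) = PM := by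
        refine (Subgroup.eq_of_le_of_card_ge Subgroup.le_normalizer ?_).symm
        have hd1 : Nat.card (Subgroup.normalizer ((PM : Subgroup M) : Set M)) * 144 = Nat.card M := by
          rw [← hnM, card_eq_index PM, Subgroup.card_mul_index]
        rw [hPMc]; omega
      haveI : IsCyclic (PM : Subgroup M) := isCyclic_of_prime_card hPMc
      have hle' : Subgroup.normalizer ((PM : Subgroup M) : Set M) ≤
          Subgroup.centralizer ((PM : Subgroup M) : Set M) := by
        rw [hNP]; exact Subgroup.le_centralizer _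
      have hc := MonoidHom.ker_transferSylow_isComplement' PM hle'
      -- a perfect group has no abelian quotient
      have hcom : commutator M ≤ (MonoidHom.transferSylow PM hle').ker :=
        commutator_le_ker_comm _ fun a b => by
          obtain ⟨g, hg⟩ := IsCyclic.exists_generator (α := (PM : Subgroup M))
          obtain ⟨i, rfl⟩ := hg a
          obtain ⟨j, rfl⟩ := hg b
          exact ((Commute.refl g).zpow_zpow i j).eq
      have htop : commutator M = ⊤ := by
        apply Subgroup.map_injective M.subtype_injective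
        rw [← MonoidHom.range_eq_map, Subgroup.range_subtype, Subgroup.map_subtype_commutator, hperf]
      have := hc.card_mul
      rw [show (MonoidHom.transferSylow PM hle').ker = ⊤ from top_le_iff.1 (htop ▸ hcom), Subgroup.card_top,
        hPMc] at this
      omega
    · exact hMne (Subgroup.eq_top_of_card_eq M (by rw [hMc, hord]))

/-- Let G be a finite group of order 7920 = 2⁴·3²·5·11 (the order of the smallest Mathieu group) and suppose its prime graph (vertices the prime divisors of the order, distinct p, q joined when there is an element of order pq) is disconnected: the prime divisors split into two non-empty parts with no element of order pq for p in one part and q in the other. Then G is simple. -/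
theorem result {G : Type*} [Group G] [Finite G] (hord : Nat.card G = 7920)
    (hdisc : (∃ A : Set ℕ, (∃ a ∈ A, a.Prime ∧ a ∣ Nat.card G) ∧ (∃ b ∉ A, b.Prime ∧ b ∣ Nat.card G) ∧
      ∀ a ∈ A, ∀ b ∉ A, a.Prime → b.Prime → a ∣ Nat.card G → b ∣ Nat.card G → ¬ ∃ g : G, orderOf g = a * b)) :
    IsSimpleGroup G := by
  obtain ⟨A, ⟨a₀, ha₀, hpa, hda⟩, ⟨b₀, hb₀, hpb, hdb⟩, hno⟩ := hdisc
  have h2 : (2 : ℕ).Prime := Nat.prime_two
  have h3 : (3 : ℕ).Prime := Nat.prime_three
  have h5 : (5 : ℕ).Prime := by norm_num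
  have h11 : (11 : ℕ).Prime := by norm_num
  have same : ∀ a b : ℕ, a.Prime → b.Prime → a ∣ 7920 → b ∣ 7920 → Edge G a b → (a ∈ A ↔ b ∈ A) := by
    intro a b ha hb da db he
    constructor
    · intro hA
      by_contra hB
      exact hno a hA b hB ha hb (hord ▸ da) (hord ▸ db) he
    · intro hB
      by_contra hA
      exact hno b hB a hA hb ha (hord ▸ db) (hord ▸ da) he.symm
  have fin : ¬ ((11 ∈ A ↔ 2 ∈ A) ∧ (11 ∈ A ↔ 3 ∈ A) ∧ (11 ∈ A ↔ 5 ∈ A)) := by
    rintro ⟨e2, e3, e5⟩
    rcases prime_dvd_7920 hpa (hord ▸ hda) with rfl | rfl | rfl | rfl <;>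
      rcases prime_dvd_7920 hpb (hord ▸ hdb) with rfl | rfl | rfl | rfl <;> tauto
  have s := fun a b ha hb => same a b ha hb
  refine main hord ?_ ?_ ?_ ?_ ?_
  · intro e1 e2 e3
    have i1 := s 11 2 h11 h2 (by norm_num) (by norm_num) e1
    have i2 := s 11 3 h11 h3 (by norm_num) (by norm_num) e2
    rcases e3 with e | e | e
    · exact fin ⟨i1, i2, s 11 5 h11 h5 (by norm_num) (by norm_num) e⟩
    · exact fin ⟨i1, i2, i1.trans (s 2 5 h2 h5 (by norm_num) (by norm_num) e)⟩
    · exact fin ⟨i1, i2, i2.trans (s 3 5 h3 h5 (by norm_num) (by norm_num) e)⟩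
  · intro e1 e2 e3
    have i1 := s 3 2 h3 h2 (by norm_num) (by norm_num) e1
    have i2 := s 3 11 h3 h11 (by norm_num) (by norm_num) e2
    have i3 := s 3 5 h3 h5 (by norm_num) (by norm_num) e3
    exact fin ⟨i2.symm.trans i1, i2.symm, i2.symm.trans i3⟩
  · intro e1 e2 e3
    have i1 := s 5 2 h5 h2 (by norm_num) (by norm_num) e1
    have i2 := s 5 3 h5 h3 (by norm_num) (by norm_num) e2
    have i3 := s 5 11 h5 h11 (by norm_num) (by norm_num) e3
    exact fin ⟨i3.symm.trans i1, i3.symm.trans i2, i3.symm⟩
  · intro e1 e2 e3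
    have i1 := s 2 11 h2 h11 (by norm_num) (by norm_num) e1
    have i2 := s 2 5 h2 h5 (by norm_num) (by norm_num) e2
    have i3 := s 2 3 h2 h3 (by norm_num) (by norm_num) e3
    exact fin ⟨i1.symm, i1.symm.trans i3, i1.symm.trans i2⟩
  · intro e1 e2 e3
    have i1 := s 11 2 h11 h2 (by norm_num) (by norm_num) e1
    have i2 := s 5 3 h5 h3 (by norm_num) (by norm_num) e2
    have i3 := s 5 2 h5 h2 (by norm_num) (by norm_num) e3
    exact fin ⟨i1, i1.trans (i3.symm.trans i2), i1.trans i3.symm⟩

end Cfsg.Agent.S2490
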