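import Cfsg.Statements.S2503
-- import your own Cfsg.Agent.* helpers here

import Cfsg.Agent.SL2Class.PSL
import Cfsg.Agent.Classical.SL2Gen

set_option autoImplicit false
open Cfsg

namespace Cfsg.Agent.S2503

open Matrix SL2Class


/-- Let F be a finite field with q = 2^t ≥ 4 elements and L = PSL(2,F). Then L has a cyclic subgroup A of order q + 1 and an elementary abelian 2-subgroup B of order q such that L = ABA: every element of L is a product a·b·a' with a, a' ∈ A and b ∈ B. -/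
theorem result {F : Type*} [Field F] [Fintype F]
    (h2 : 2 ∣ Fintype.card F) (h4 : 4 ≤ Fintype.card F) :
    ∃ A B : Subgroup (Matrix.ProjectiveSpecialLinearGroup (Fin 2) F),
      IsCyclic A ∧ Nat.card A = Fintype.card F + 1 ∧ IsMulCommutative B ∧ (∀ b ∈ B, b * b = 1) ∧
        Nat.card B = Fintype.card F ∧
        ∀ g : Matrix.ProjectiveSpecialLinearGroup (Fin 2) F, ∃ a ∈ A, ∃ b ∈ B, ∃ c ∈ A, g = a * b * c := by
  classical
  have h2' : (2 : F) = 0 := by
    by_contra h
    have := card_odd_of_two_ne_zero h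
    omega
  have hinj : Function.Injective (proj (F := F)) := by
    rw [injective_iff_map_eq_one]
    intro y hy
    have hy' := proj_eq_one.1 hy
    rwa [center_eq_bot h2', Subgroup.mem_bot] at hy'
  obtain ⟨t, ht⟩ := exists_noRoot (F := F)
  have ht0 : t ≠ 0 := fun e => ht 1 (by rw [e]; linear_combination h2')
  have ht4 : tr (comp t) * tr (comp t) ≠ 4 := by
    rw [tr_comp]; exact fun e => ht0 ((sq_eq_four_iff_even h2' t).1 e)
  set A₀ := Subgroup.centralizer ({comp t} : Set (Matrix.SpecialLinearGroup (Fin 2) F))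
  haveI := isCyclic_centralizer ht4
  set U := (Classical.rootHomSL (F := F)).range
  refine ⟨A₀.map proj, U.map proj, ?_, ?_, ?_, ?_, ?_, fun G => ?_⟩
  · exact isCyclic_of_surjective (A₀.equivMapOfInjective proj hinj).toMonoidHom (MulEquiv.surjective _)
  · rw [Subgroup.card_map_of_injective hinj, card_cent_noRoot (by rwa [tr_comp]) (nonScalar_comp t)]
  · refine ⟨⟨?_⟩⟩
    rintro ⟨_, _, ⟨a, rfl⟩, rfl⟩ ⟨_, _, ⟨b, rfl⟩, rfl⟩
    exact Subtype.ext (by
      show proj (Classical.rootHomSL a) * proj (Classical.rootHomSL b) = _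
      rw [← map_mul, ← map_mul, mul_comm a b, map_mul, map_mul]; rfl)
  · rintro _ ⟨_, ⟨a, rfl⟩, rfl⟩
    rw [← map_mul, ← map_mul, show a * a = 1 from Multiplicative.toAdd.injective (by
      rw [toAdd_mul, toAdd_one]; linear_combination a.toAdd * h2'), map_one, map_one]
  · rw [Subgroup.card_map_of_injective hinj,
      ← Nat.card_congr (MonoidHom.ofInjective Classical.rootHomSL_injective).toEquiv]
    exact Nat.card_eq_fintype_card.trans (Fintype.card_multiplicative F)
  · obtain ⟨g, rfl⟩ := proj_surjective G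
    set M : Matrix (Fin 2) (Fin 2) F :=
      ((g * comp t * g⁻¹ : Matrix.SpecialLinearGroup (Fin 2) F) : Matrix (Fin 2) (Fin 2) F) with hM
    have hMt : M 0 0 + M 1 1 = t := (tr_conj g (comp t)).trans (tr_comp t)
    have hMd : M 0 0 * M 1 1 - M 0 1 * M 1 0 = 1 := det_eq (g * comp t * g⁻¹)
    obtain ⟨α, hα⟩ := exists_sq_eq_of_two_eq_zero h2' (M 1 0 + 1)
    obtain ⟨β, hβ⟩ := exists_sq_eq_of_two_eq_zero h2' (M 0 1 + 1)
    obtain ⟨x₀, y₀, hxy, hne⟩ : ∃ x y : F, α * x + β * y = 0 ∧ ¬ (x = 0 ∧ y = 0) := by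
      by_cases hb : α = 0
      · exact ⟨1, 0, by rw [hb]; ring, fun h => one_ne_zero h.1⟩
      · exact ⟨β, -α, by ring, fun h => hb (neg_eq_zero.1 h.2)⟩
    obtain ⟨k, hk⟩ := exists_sq_eq_of_two_eq_zero h2' (N2 t x₀ y₀)⁻¹
    set x := k * x₀ with hx
    set y := k * y₀ with hy
    have hN : N2 t x y = 1 := by
      rw [show N2 t x y = k * k * N2 t x₀ y₀ by simp only [N2, hx, hy]; ring, hk,
        inv_mul_cancel₀ (N2_ne_zero ht hne)]
    let c : Matrix.SpecialLinearGroup (Fin 2) F := cen (comp t) ⟨(x, y), by rw [tr_comp]; exact hN⟩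
    have hc : (c : Matrix (Fin 2) (Fin 2) F) = !![x, -y; y, x + y * t] := by
      rw [cen_coe]
      ext i j; fin_cases i <;> fin_cases j <;> simp [lin_apply, coe_comp]
    have hcA : c ∈ A₀ := (mem_centralizer (nonScalar_comp t)).2 ⟨_, _, rfl⟩
    set K : Matrix (Fin 2) (Fin 2) F :=
      ((c⁻¹ * (g * comp t * g⁻¹) * c : Matrix.SpecialLinearGroup (Fin 2) F) : Matrix (Fin 2) (Fin 2) F) with hK
    have hK10 : K 1 0 = 1 := by
      rw [hK, Matrix.SpecialLinearGroup.coe_mul, Matrix.SpecialLinearGroup.coe_mul,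
        Matrix.SpecialLinearGroup.coe_inv, ← hM, hc, Matrix.adjugate_fin_two]
      simp [Matrix.mul_apply, Matrix.vecMul, dotProduct, Fin.sum_univ_two]
      have hN' : x * x + t * x * y + y * y = 1 := hN
      have hsq : (α * x + β * y) * (α * x + β * y) = 0 := by
        rw [show α * x + β * y = k * (α * x₀ + β * y₀) by rw [hx, hy]; ring, hxy]; ring
      linear_combination hsq + hN' - x * x * hα + y * y * hβ + x * y * hMt - (x * x + α * β * x * y + β * β * y * y + x * y * M 0 0) * h2'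
    have hKt : K 0 0 + K 1 1 = t := by
      have := tr_conj c⁻¹ (g * comp t * g⁻¹)
      rw [inv_inv] at this
      exact this.trans ((tr_conj g _).trans (tr_comp t))
    set b := Classical.rootHomSL (Multiplicative.ofAdd (K 0 0)) with hb
    have hKeq : c⁻¹ * (g * comp t * g⁻¹) * c = b * comp t * b⁻¹ := by
      have hKd : K 0 0 * K 1 1 - K 0 1 * K 1 0 = 1 := det_eq _
      refine Subtype.ext ?_
      rw [← hK, Matrix.SpecialLinearGroup.coe_mul, Matrix.SpecialLinearGroup.coe_mul,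
        Matrix.SpecialLinearGroup.coe_inv, hb, Classical.rootHomSL_coe, coe_comp, Matrix.adjugate_fin_two]
      rw [hK10] at hKd
      ext i j
      fin_cases i <;> fin_cases j <;> simp [Matrix.mul_apply, Fin.sum_univ_two, hK10]
      · linear_combination -hKd + K 0 0 * hKt
      · linear_combination hKt
    have ha : b⁻¹ * (c⁻¹ * g) ∈ A₀ := by
      refine Subgroup.mem_centralizer_singleton_iff.2 (mul_inv_eq_iff_eq_mul.1 ?_)
      calc b⁻¹ * (c⁻¹ * g) * comp t * (b⁻¹ * (c⁻¹ * g))⁻¹ = b⁻¹ * (c⁻¹ * (g * comp t * g⁻¹) * c) * b := by group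
        _ = comp t := by rw [hKeq]; group
    refine ⟨proj c, ⟨c, hcA, rfl⟩, proj b, ⟨b, ⟨_, rfl⟩, rfl⟩, proj (b⁻¹ * (c⁻¹ * g)), ⟨_, ha, rfl⟩, ?_⟩
    rw [← map_mul, ← map_mul, mul_assoc, mul_inv_cancel_left, mul_inv_cancel_left]

end Cfsg.Agent.S2503
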