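import Cfsg.Statements.S2504
import Cfsg.Agent.PermGroups.MaxAbelian

set_option autoImplicit false
open Cfsg

namespace Cfsg.Agent.S2504

/-- The largest order of an abelian subgroup of the alternating group of degree n is 3^k when n = 3k, 4·3^(k−1) when n = 3k + 1, and 16·3^(k−2) when n = 3k + 2, for every k ≥ 2 (so for all degrees n ≥ 6). -/
theorem result (k : ℕ) (hk : 2 ≤ k) :
    IsGreatest {c : ℕ | ∃ A : Subgroup (alternatingGroup (Fin (3 * k))), IsMulCommutative A ∧ Nat.card A = c} (3 ^ k) ∧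
    IsGreatest {c : ℕ | ∃ A : Subgroup (alternatingGroup (Fin (3 * k + 1))), IsMulCommutative A ∧ Nat.card A = c}
      (4 * 3 ^ (k - 1)) ∧
    IsGreatest {c : ℕ | ∃ A : Subgroup (alternatingGroup (Fin (3 * k + 2))), IsMulCommutative A ∧ Nat.card A = c}
      (16 * 3 ^ (k - 2)) := by
  obtain ⟨j, rfl⟩ := Nat.exists_eq_add_of_le' hk
  obtain ⟨h0, h1, h2⟩ := PermGroups.MaxAbelian.mxAlt_values j
  refine ⟨⟨?_, ?_⟩, ⟨?_, ?_⟩, ⟨?_, ?_⟩⟩
  · obtain ⟨A, hA, hc⟩ := (PermGroups.MaxAbelian.has_threes true (PermGroups.MaxAbelian.has_zero true) (j + 2)).exists_alt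
    exact ⟨A, hA, hc.trans (by ring)⟩
  · rintro _ ⟨A, hA, rfl⟩
    refine (PermGroups.MaxAbelian.card_le_of_alt A hA).trans (le_of_eq ?_)
    rw [show 3 * (j + 2) = 3 * j + 6 by ring, h0, pow_add]; ring
  · obtain ⟨A, hA, hc⟩ := (PermGroups.MaxAbelian.has_threes true (PermGroups.MaxAbelian.has_four true) (j + 1)).exists_alt
    rw [show 3 * (j + 2) + 1 = 3 * (j + 1) + 4 by ring, show j + 2 - 1 = j + 1 by omega]
    exact ⟨A, hA, hc.trans (by ring)⟩
  · rintro _ ⟨A, hA, rfl⟩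
    refine (PermGroups.MaxAbelian.card_le_of_alt A hA).trans (le_of_eq ?_)
    rw [show 3 * (j + 2) + 1 = 3 * j + 7 by ring, h1, show j + 2 - 1 = j + 1 by omega, pow_succ]; ring
  · obtain ⟨A, hA, hc⟩ := (PermGroups.MaxAbelian.has_threes true
      ((PermGroups.MaxAbelian.has_four true).add (PermGroups.MaxAbelian.has_four true)) j).exists_alt
    rw [show 3 * (j + 2) + 2 = 3 * j + (4 + 4) by ring, show j + 2 - 2 = j by omega]
    exact ⟨A, hA, hc.trans (by ring)⟩
  · rintro _ ⟨A, hA, rfl⟩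
    refine (PermGroups.MaxAbelian.card_le_of_alt A hA).trans (le_of_eq ?_)
    rw [show 3 * (j + 2) + 2 = 3 * j + 8 by ring, h2, show j + 2 - 2 = j by omega]

end Cfsg.Agent.S2504
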