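import Cfsg.Statements.S2505
import Cfsg.Agent.PermGroups.MaxAbelian

set_option autoImplicit false
open Cfsg

namespace Cfsg.Agent.S2505

/-- The largest order of an abelian subgroup of the symmetric group of degree n is 3^k when n = 3k, 4·3^(k−1) when n = 3k + 1, and 2·3^k when n = 3k + 2, for every k ≥ 1. -/
theorem result (k : ℕ) (hk : 1 ≤ k) :
    IsGreatest {c : ℕ | ∃ A : Subgroup (Equiv.Perm (Fin (3 * k))), IsMulCommutative A ∧ Nat.card A = c} (3 ^ k) ∧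
    IsGreatest {c : ℕ | ∃ A : Subgroup (Equiv.Perm (Fin (3 * k + 1))), IsMulCommutative A ∧ Nat.card A = c}
      (4 * 3 ^ (k - 1)) ∧
    IsGreatest {c : ℕ | ∃ A : Subgroup (Equiv.Perm (Fin (3 * k + 2))), IsMulCommutative A ∧ Nat.card A = c}
      (2 * 3 ^ k) := by
  obtain ⟨j, rfl⟩ := Nat.exists_eq_add_of_le' hk
  obtain ⟨h0, -, h2⟩ := PermGroups.MaxAbelian.mx_values (j + 1)
  obtain ⟨-, h1, -⟩ := PermGroups.MaxAbelian.mx_values j
  refine ⟨⟨?_, ?_⟩, ⟨?_, ?_⟩, ⟨?_, ?_⟩⟩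
  · obtain ⟨A, hA, hc, -⟩ := PermGroups.MaxAbelian.has_threes false (PermGroups.MaxAbelian.has_zero false) (j + 1)
    exact ⟨A, hA, hc.trans (by ring)⟩
  · rintro _ ⟨A, hA, rfl⟩
    refine (PermGroups.MaxAbelian.card_le A hA).trans (le_of_eq ?_)
    rw [Fintype.card_fin, h0]
  · obtain ⟨A, hA, hc, -⟩ := PermGroups.MaxAbelian.has_threes false (PermGroups.MaxAbelian.has_four false) j
    rw [show 3 * (j + 1) + 1 = 3 * j + 4 by ring, show j + 1 - 1 = j by omega]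
    exact ⟨A, hA, hc.trans (by ring)⟩
  · rintro _ ⟨A, hA, rfl⟩
    refine (PermGroups.MaxAbelian.card_le A hA).trans (le_of_eq ?_)
    rw [Fintype.card_fin, show 3 * (j + 1) + 1 = 3 * j + 4 by ring, h1, show j + 1 - 1 = j by omega]
  · obtain ⟨A, hA, hc, -⟩ := PermGroups.MaxAbelian.has_threes false PermGroups.MaxAbelian.has_two (j + 1)
    exact ⟨A, hA, hc.trans (by ring)⟩
  · rintro _ ⟨A, hA, rfl⟩
    refine (PermGroups.MaxAbelian.card_le A hA).trans (le_of_eq ?_)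
    rw [Fintype.card_fin, h2]

end Cfsg.Agent.S2505
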