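import Cfsg.Statements.S2506
import Mathlib
import Cfsg.Agent.PermGroups.MaxAbelianConj

set_option autoImplicit false
open Cfsg

namespace Cfsg.Agent.S2506

open Equiv Equiv.Perm
open scoped Pointwise
open Cfsg.Agent.PermGroups.MaxAbelian

/-- In the alternating group of any degree, any two abelian subgroups of the largest possible order (among abelian subgroups) are conjugate. -/
theorem result (n : ℕ)
    (A B : Subgroup (alternatingGroup (Fin n))) (hA : IsMulCommutative A) (hB : IsMulCommutative B)
    (hAmax : ∀ C : Subgroup (alternatingGroup (Fin n)), IsMulCommutative C → Nat.card C ≤ Nat.card A)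
    (hBmax : ∀ C : Subgroup (alternatingGroup (Fin n)), IsMulCommutative C → Nat.card C ≤ Nat.card B) :
    ∃ g : alternatingGroup (Fin n), B = MulAut.conj g • A := by
  obtain ⟨A₀, hA₀, hc₀⟩ := (has_mxAlt n).exists_alt
  have hcA : Nat.card A = mxAlt n := le_antisymm (card_le_of_alt A hA) (hc₀ ▸ hAmax A₀ hA₀)
  have hcB : Nat.card B = mxAlt n := le_antisymm (card_le_of_alt B hB) (hc₀ ▸ hBmax A₀ hA₀)
  by_cases h5 : n = 5
  · subst h5
    haveI : Fact (Nat.Prime 5) := ⟨by norm_num⟩
    have hsyl : ∀ C : Subgroup (alternatingGroup (Fin 5)), Nat.card C = mxAlt 5 →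
        Nat.card C = 5 ^ (Nat.card (alternatingGroup (Fin 5))).factorization 5 := fun C hC => by
      have h60 : Nat.card (alternatingGroup (Fin 5)) = 5 * 12 := by
        rw [Nat.card_eq_fintype_card, card_alternatingGroup, Fintype.card_fin]; rfl
      rw [hC, h60, Nat.factorization_mul (by norm_num) (by norm_num), Finsupp.add_apply,
        Nat.Prime.factorization_self (by norm_num), Nat.factorization_eq_zero_of_not_dvd (by norm_num)]
      rfl
    let PA : Sylow 5 (alternatingGroup (Fin 5)) := Sylow.ofCard A (hsyl A hcA)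
    let PB : Sylow 5 (alternatingGroup (Fin 5)) := Sylow.ofCard B (hsyl B hcB)
    obtain ⟨g, hg⟩ := MulAction.exists_smul_eq (alternatingGroup (Fin 5)) PA PB
    exact ⟨g, congrArg Sylow.toSubgroup hg.symm⟩
  · set ι := (alternatingGroup (Fin n)).subtype with hι
    have hM : ∀ C : Subgroup (alternatingGroup (Fin n)), IsMulCommutative C → Nat.card C = mxAlt n →
        Cfsg.Agent.PermGroups.MaxAbelian.Max (C.map ι) := fun C hC hc => by
      haveI := hC
      refine ⟨Subgroup.map_isMulCommutative C ι, Subgroup.map_subtype_le C, ?_⟩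
      rw [Subgroup.card_map_of_injective (Subgroup.subtype_injective _), hc, Fintype.card_fin]
    obtain ⟨σ, hσ, hmap⟩ := max_conj n h5 _ _ (hM A hA hcA) (hM B hB hcB)
    refine ⟨⟨σ, hσ⟩, Subgroup.map_injective (Subgroup.subtype_injective (alternatingGroup (Fin n))) ?_⟩
    show Subgroup.map ι B = Subgroup.map ι (A.map (MulAut.conj (⟨σ, hσ⟩ : alternatingGroup (Fin n))).toMonoidHom)
    rw [← hmap, Subgroup.map_map, Subgroup.map_map]
    rfl

end Cfsg.Agent.S2506
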