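import Cfsg.Statements.S2513
import Cfsg.Agent.Spectrum.Orders
import Cfsg.Agent.Spectrum.Linear

set_option autoImplicit false
open Cfsg

namespace Cfsg.Agent.S2513

open Matrix in
theorem one_of_ne_zero {F : Type*} [Field F] [Fintype F] (hF : Fintype.card F = 2) {x : F} (hx : x ≠ 0) : x = 1 := by
  have := FiniteField.pow_card_sub_one_eq_one x hx
  simpa [hF] using this

theorem exists_mult_gt_half {n i : ℕ} (h1 : 1 ≤ i) (h2 : i ≤ n) : ∃ j, i ∣ j ∧ n < 2 * j ∧ j ≤ n := by
  refine ⟨i * (n / i), dvd_mul_right _ _, ?_, Nat.mul_div_le _ _⟩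
  have h := Nat.div_add_mod n i
  have h' := Nat.mod_lt n (show i > 0 by omega)
  have : i ≤ i * (n / i) := Nat.le_mul_of_pos_right i (Nat.div_pos h2 (by omega))
  omega

/-- Let F be the field with two elements, n ≥ 2, L = PSL(n, F) and k₀ = ⌊(n + 3)/2⌋. Then for every k ≥ k₀ the direct product of k copies of L has the same set of element orders as the direct product of k₀ copies of L. -/
theorem result {F : Type*} [Field F] [Fintype F] (hF : Fintype.card F = 2) (n k : ℕ) (hn : 2 ≤ n) (hk : (n + 3) / 2 ≤ k) :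
    Set.range (orderOf : (Fin k → Matrix.ProjectiveSpecialLinearGroup (Fin n) F) → ℕ) = Set.range (orderOf : (Fin ((n + 3) / 2) → Matrix.ProjectiveSpecialLinearGroup (Fin n) F) → ℕ) := by
  haveI : CharP F 2 := by
    obtain ⟨p, hp⟩ := CharP.exists F
    obtain ⟨a, hpp, ha⟩ := FiniteField.card F p
    have h2 : p ^ (a : ℕ) = 2 := ha.symm.trans hF
    have hdvd : p ∣ 2 := h2 ▸ dvd_pow_self p a.ne_zero
    have : p = 2 := (Nat.prime_dvd_prime_iff_eq hpp Nat.prime_two).mp hdvd
    exact this ▸ hp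
  have hbot : Subgroup.center (Matrix.SpecialLinearGroup (Fin n) F) = ⊥ := by
    rw [Subgroup.eq_bot_iff_forall]
    intro A hA
    obtain ⟨r, hr, hrA⟩ := Matrix.SpecialLinearGroup.mem_center_iff.mp hA
    have hr0 : r ≠ 0 := by
      rintro rfl
      rw [zero_pow (by simp; omega)] at hr
      exact zero_ne_one hr
    rw [one_of_ne_zero hF hr0, map_one] at hrA
    exact Subtype.ext hrA.symm
  let π : Matrix.SpecialLinearGroup (Fin n) F →* Matrix.ProjectiveSpecialLinearGroup (Fin n) F :=
    QuotientGroup.mk' _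
  have hπ : Function.Injective π := by
    rw [← MonoidHom.ker_eq_bot_iff, QuotientGroup.ker_mk', hbot]
  have key : ∀ g : GL (Fin n) F, ∃ s : Matrix.ProjectiveSpecialLinearGroup (Fin n) F, orderOf s = orderOf g := by
    intro g
    have hd : (g : Matrix (Fin n) (Fin n) F).det = 1 :=
      one_of_ne_zero hF (Matrix.GeneralLinearGroup.det g).ne_zero
    obtain ⟨A, hA⟩ : ∃ A : Matrix.SpecialLinearGroup (Fin n) F,
        (A : Matrix (Fin n) (Fin n) F) = (g : Matrix (Fin n) (Fin n) F) := ⟨⟨_, hd⟩, rfl⟩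
    refine ⟨π A, ?_⟩
    rw [orderOf_injective π hπ, ← orderOf_injective _ Matrix.SpecialLinearGroup.toGL_injective]
    exact congrArg orderOf (Units.ext hA)
  have hex : ∀ i : Fin ((n + 3) / 2), ∃ g : GL (Fin n) F, orderOf g =
      if (i : ℕ) < n - n / 2 then 2 ^ (n / 2 + 1 + i) - 1 else 2 ^ Nat.clog 2 n := by
    intro i
    split_ifs with h
    · obtain ⟨g, hg⟩ := Spectrum.exists_orderOf_card_pow_sub_one (F := F) (i := n / 2 + 1 + i) (by omega)
      obtain ⟨g', hg', -⟩ := Spectrum.exists_GL_of_le (n := n) (by omega) g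
      exact ⟨g', by rw [hg', hg, hF]⟩
    · obtain ⟨u, hu, -⟩ := Spectrum.exists_unipotent_orderOf (F := F) 2 n hn
      exact ⟨u, hu⟩
  choose g hg using hex
  choose e he using fun i => key (g i)
  refine Spectrum.range_orderOf_pi_eq hk e fun x => ?_
  obtain ⟨A, rfl⟩ := QuotientGroup.mk'_surjective _ x
  set M := Finset.univ.lcm fun i => orderOf (e i) with hM
  refine (orderOf_map_dvd _ A).trans ?_
  rw [← orderOf_injective _ Matrix.SpecialLinearGroup.toGL_injective]
  set N := (Finset.range (n - n / 2)).lcm fun j => 2 ^ (n / 2 + 1 + j) - 1 with hN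
  have h1 : Matrix.SpecialLinearGroup.toGL A ^ (N * 2 ^ Nat.clog 2 n) = 1 := by
    refine Spectrum.GL_pow_eq_one 2 _ _ _ (fun i h1 h2 => ?_) (by simpa using Nat.le_pow_clog one_lt_two n)
    rw [Fintype.card_fin] at h2
    rw [hF]
    obtain ⟨j, hij, hj1, hj2⟩ := exists_mult_gt_half h1 h2
    refine (Nat.pow_sub_one_dvd_pow_sub_one 2 hij).trans ?_
    have : j = n / 2 + 1 + (j - (n / 2 + 1)) := by omega
    rw [this]
    exact Finset.dvd_lcm (f := fun j => 2 ^ (n / 2 + 1 + j) - 1) (Finset.mem_range.mpr (by omega))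
  refine (orderOf_dvd_of_pow_eq_one h1).trans (Nat.Coprime.mul_dvd_of_dvd_of_dvd ?_ ?_ ?_)
  · refine Nat.Coprime.pow_right _ ?_
    rw [Nat.coprime_two_right]
    apply Nat.not_even_iff_odd.mp
    intro heven
    have hall : ∀ t : Finset ℕ, ¬ Even (t.lcm fun j => 2 ^ (n / 2 + 1 + j) - 1) := by
      intro t
      induction t using Finset.induction_on with
      | empty => simp
      | insert a t ha ih =>
        rw [Finset.lcm_insert]
        intro h
        have h' : 2 ∣ Nat.lcm (2 ^ (n / 2 + 1 + a) - 1) (t.lcm fun j => 2 ^ (n / 2 + 1 + j) - 1) :=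
          even_iff_two_dvd.mp h
        rcases (Nat.prime_two.dvd_mul).mp (h'.trans (Nat.lcm_dvd_mul _ _)) with h2 | h2
        · have : 2 ∣ 2 ^ (n / 2 + 1 + a) := dvd_pow_self 2 (by omega)
          have : 1 ≤ 2 ^ (n / 2 + 1 + a) := Nat.one_le_two_pow
          omega
        · exact ih (even_iff_two_dvd.mpr h2)
    exact hall _ heven
  · refine Finset.lcm_dvd fun j hj => ?_
    rw [Finset.mem_range] at hj
    have h := Finset.dvd_lcm (f := fun i => orderOf (e i)) (Finset.mem_univ (⟨j, by omega⟩ : Fin ((n + 3) / 2)))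
    simp only [he, hg, hj, if_true] at h
    simpa [hM, he, hg] using h
  · have h := Finset.dvd_lcm (f := fun i => orderOf (e i))
      (Finset.mem_univ (⟨n - n / 2, by omega⟩ : Fin ((n + 3) / 2)))
    simp only [he, hg, lt_irrefl, if_false] at h
    simpa [hM, he, hg] using h

end Cfsg.Agent.S2513
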