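import Cfsg.Statements.S2514
import Mathlib

set_option autoImplicit false
open Cfsg

namespace Cfsg.Agent.S2514

/-- Every element order divides a maximal one. -/
theorem exists_max_order {K : Type*} [Group K] [Finite K] (y : K) : ∃ m,
    (m ∈ Set.range (orderOf : K → ℕ) ∧ ∀ l ∈ Set.range (orderOf : K → ℕ), m ∣ l → l = m) ∧ orderOf y ∣ m := by
  obtain ⟨m, ⟨hmr, hym⟩, hm⟩ := Set.exists_max_image {l | l ∈ Set.range (orderOf : K → ℕ) ∧ orderOf y ∣ l} id
    ((Set.finite_range _).subset fun l hl => hl.1) ⟨_, ⟨y, rfl⟩, dvd_rfl⟩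
  refine ⟨m, ⟨hmr, fun l hl hml => ?_⟩, hym⟩
  obtain ⟨w, rfl⟩ := hl
  exact le_antisymm (hm _ ⟨⟨w, rfl⟩, hym.trans hml⟩) (Nat.le_of_dvd (orderOf_pos w) hml)

/-- For a finite group X write μ(X) for the set of element orders of X that are maximal under divisibility. Let G and H be finite groups and k ≥ 1 such that μ(H) ⊆ μ(G) and μ(G) has fewer than k elements outside μ(H). Then the direct product of k copies of G has the same set of element orders as the direct product of k − 1 copies of G with H. -/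
theorem result {G H : Type*} [Group G] [Finite G] [Group H] [Finite H] (k : ℕ) (hk : 1 ≤ k)
    (hsub : {n : ℕ | n ∈ Set.range (orderOf : H → ℕ) ∧ ∀ m ∈ Set.range (orderOf : H → ℕ), n ∣ m → m = n} ⊆ {n : ℕ | n ∈ Set.range (orderOf : G → ℕ) ∧ ∀ m ∈ Set.range (orderOf : G → ℕ), n ∣ m → m = n})
    (hfew : ({n : ℕ | n ∈ Set.range (orderOf : G → ℕ) ∧ ∀ m ∈ Set.range (orderOf : G → ℕ), n ∣ m → m = n} \ {n : ℕ | n ∈ Set.range (orderOf : H → ℕ) ∧ ∀ m ∈ Set.range (orderOf : H → ℕ), n ∣ m → m = n}).ncard < k) :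
    Set.range (orderOf : (Fin k → G) → ℕ) = Set.range (orderOf : (Fin (k - 1) → G) × H → ℕ) := by
  have horder : ∀ {ι K : Type _} [Group K] (f : ι → K) (n : ℕ), orderOf f ∣ n ↔ ∀ i, orderOf (f i) ∣ n := by
    intro ι K _ f n
    simp only [orderOf_dvd_iff_pow_eq_one, funext_iff, Pi.pow_apply, Pi.one_apply]
  ext N
  constructor
  · rintro ⟨f, rfl⟩
    choose m hm hdm using fun i => exists_max_order (f i)
    suffices hs : ∃ y : (Fin (k - 1) → G) × H, ∀ i, orderOf (f i) ∣ orderOf y by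
      obtain ⟨y, hy⟩ := hs
      exact ⟨y ^ (orderOf y / orderOf f),
        orderOf_pow_orderOf_div (orderOf_pos y).ne' ((horder f _).2 hy)⟩
    obtain ⟨k', rfl⟩ : ∃ k', k = k' + 1 := ⟨k - 1, by omega⟩
    -- a slot to give up
    obtain ⟨i₀, z, hz⟩ : ∃ (i₀ : Fin (k' + 1)) (z : H), orderOf (f i₀) ∣ orderOf z ∨
        ∃ j, j ≠ i₀ ∧ m j = m i₀ := by
      by_cases hex : ∃ i, m i ∈ {n : ℕ | n ∈ Set.range (orderOf : H → ℕ) ∧
          ∀ l ∈ Set.range (orderOf : H → ℕ), n ∣ l → l = n}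
      · obtain ⟨i, ⟨z, hz⟩, -⟩ := hex
        exact ⟨i, z, Or.inl (hz ▸ hdm i)⟩
      · push Not at hex
        obtain ⟨i, -, j, -, hij, hmij⟩ := Set.exists_ne_map_eq_of_ncard_lt_of_maps_to
          (s := (Set.univ : Set (Fin (k' + 1)))) (f := m) (by rwa [Set.ncard_univ, Nat.card_eq_fintype_card, Fintype.card_fin])
          (fun i _ => Set.mem_sdiff_of_mem (hm i) (hex i))
          (Set.Finite.subset (s := Set.range (orderOf : G → ℕ)) (Set.finite_range _)
            (fun l (hl : l ∈ {n : ℕ | n ∈ Set.range (orderOf : G → ℕ) ∧ ∀ m ∈ Set.range (orderOf : G → ℕ), n ∣ m → m = n} \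
              {n : ℕ | n ∈ Set.range (orderOf : H → ℕ) ∧ ∀ m ∈ Set.range (orderOf : H → ℕ), n ∣ m → m = n}) => hl.1.1))
        exact ⟨i, 1, Or.inr ⟨j, hij.symm, hmij.symm⟩⟩
    choose g hg using fun i => (hm i).1
    refine ⟨(fun j : Fin (k' + 1 - 1) => g (i₀.succAbove (Fin.cast (by omega) j)), z), fun i => ?_⟩
    have hcomp : ∀ j : Fin k', m (i₀.succAbove j) ∣ orderOf
        (((fun j : Fin (k' + 1 - 1) => g (i₀.succAbove (Fin.cast (by omega) j))), z) : (Fin (k' + 1 - 1) → G) × H) := by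
      intro j
      rw [Prod.orderOf_mk]
      refine dvd_trans ?_ (Nat.dvd_lcm_left _ _)
      have h := (horder _ _).1 (dvd_refl (orderOf (fun j : Fin (k' + 1 - 1) => g (i₀.succAbove (Fin.cast (by omega) j))))) (Fin.cast (by omega) j)
      simp only [Fin.cast_cast, Fin.cast_eq_self, hg] at h
      exact h
    by_cases hi : i = i₀
    · subst hi
      rcases hz with hz | ⟨j, hji, hmj⟩
      · rw [Prod.orderOf_mk]; exact hz.trans (Nat.dvd_lcm_right _ _)
      · obtain ⟨j', rfl⟩ := Fin.exists_succAbove_eq hji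
        exact (hdm i).trans (hmj ▸ hcomp j')
    · obtain ⟨j', rfl⟩ := Fin.exists_succAbove_eq hi
      exact (hdm _).trans (hcomp j')
  · rintro ⟨⟨f, z⟩, rfl⟩
    obtain ⟨m, hm, hzm⟩ := exists_max_order z
    obtain ⟨g, hg⟩ := (hsub hm).1
    obtain ⟨k', rfl⟩ : ∃ k', k = k' + 1 := ⟨k - 1, by omega⟩
    let F : Fin (k' + 1) → G := Fin.snoc (fun j => f (Fin.cast (by omega) j)) g
    refine ⟨F ^ (orderOf F / orderOf (f, z)), orderOf_pow_orderOf_div (orderOf_pos F).ne' ?_⟩
    have hF := (horder F (orderOf F)).1 dvd_rfl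
    rw [Prod.orderOf_mk]
    refine Nat.lcm_dvd ((horder f _).2 fun j => ?_) ?_
    · have := hF (Fin.castSucc (Fin.cast (by omega) j))
      simpa [F] using this
    · have := hF (Fin.last k')
      simp only [F, Fin.snoc_last, hg] at this
      exact hzm.trans this

end Cfsg.Agent.S2514
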