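import Cfsg.Statements.S2515
import Mathlib

set_option autoImplicit false
open Cfsg
open scoped Matrix

namespace Cfsg.Agent.S2515

section
variable (F : Type) [Field F] [CharP F 3]

local notation "M2" => Matrix (Fin 2) (Fin 2) F
local notation "SL2" => Matrix.SpecialLinearGroup (Fin 2) F

/-- Frobenius twist of an element of `SL₂`. -/
noncomputable def tw : SL2 →* SL2 := Matrix.SpecialLinearGroup.map (frobenius F 3)

omit [CharP F 3] in
theorem sign_sq (s : ℤˣ) : ((s : ℤ) : F) * ((s : ℤ) : F) = 1 := by
  rcases Int.units_eq_one_or s with rfl | rfl <;> simp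

/-- The linear map `X ↦ s A X (frob A)⁻¹`. -/
noncomputable def actFun (p : ℤˣ × SL2) (X : M2) : M2 :=
  ((p.1 : ℤ) : F) • ((p.2 : M2) * X * (((tw F p.2)⁻¹ : SL2) : M2))

theorem actFun_one (X : M2) : actFun F 1 X = X := by
  simp [actFun]

theorem actFun_mul (p r : ℤˣ × SL2) (X : M2) :
    actFun F (p * r) X = actFun F p (actFun F r X) := by
  simp only [actFun, Prod.fst_mul, Prod.snd_mul, Units.val_mul, Int.cast_mul, map_mul, mul_inv_rev,
    Matrix.SpecialLinearGroup.coe_mul, Matrix.mul_smul, Matrix.smul_mul, smul_smul, Matrix.mul_assoc]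

theorem actFun_add (p : ℤˣ × SL2) (X Y : M2) :
    actFun F p (X + Y) = actFun F p X + actFun F p Y := by
  simp [actFun, Matrix.mul_add, Matrix.add_mul]

/-- The action as a homomorphism. -/
noncomputable def act : ℤˣ × SL2 →* MulAut (Multiplicative M2) where
  toFun p := AddEquiv.toMultiplicative
    { toFun := actFun F p
      invFun := actFun F p⁻¹
      left_inv := fun X => by rw [← actFun_mul, inv_mul_cancel, actFun_one]
      right_inv := fun X => by rw [← actFun_mul, mul_inv_cancel, actFun_one]
      map_add' := actFun_add F p }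
  map_one' := by
    refine MulEquiv.ext fun x => ?_
    show Multiplicative.ofAdd (actFun F 1 x.toAdd) = x
    rw [actFun_one]; rfl
  map_mul' p r := by
    refine MulEquiv.ext fun x => ?_
    show Multiplicative.ofAdd (actFun F (p * r) x.toAdd) =
      Multiplicative.ofAdd (actFun F p (actFun F r x.toAdd))
    rw [actFun_mul]

theorem act_apply (p : ℤˣ × SL2) (x : Multiplicative M2) :
    act F p x = Multiplicative.ofAdd (actFun F p x.toAdd) := rfl

/-- The group `V ⋊ (2 × PSL₂(F))`. -/
abbrev G := Multiplicative M2 ⋊[(act F).range.subtype] (act F).range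

omit [CharP F 3] in
theorem ch (A : SL2) : (A : M2) * A = (A : M2).trace • (A : M2) - 1 := by
  have hd : (A : M2) 0 0 * (A : M2) 1 1 - (A : M2) 0 1 * (A : M2) 1 0 = 1 := by
    have := A.2
    rwa [Matrix.det_fin_two] at this
  ext i j
  fin_cases i <;> fin_cases j <;>
    simp [Matrix.mul_apply, Fin.sum_univ_two, Matrix.trace_fin_two] <;>
    first | linear_combination hd | linear_combination -hd | ring1

theorem tw_trace (A : SL2) : (tw F A : M2).trace = (A : M2).trace ^ 3 := by
  have : (tw F A : M2) = (A : M2).map (frobenius F 3) := rfl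
  rw [this, Matrix.trace_fin_two, Matrix.trace_fin_two, add_pow_char]
  simp [frobenius_def]

theorem act_neg_one : act F (1, -1) = 1 := by
  refine MulEquiv.ext fun x => ?_
  rw [act_apply]
  have h : tw F (-1) = -1 := by
    apply Subtype.ext
    ext i j
    fin_cases i <;> fin_cases j <;> simp [tw]
  simp [actFun, h]

theorem act_eq_one (s : ℤˣ) (A : SL2) (hs : s = 1) (hA : A = 1 ∨ A = -1) : act F (s, A) = 1 := by
  subst hs
  rcases hA with rfl | rfl
  · exact map_one (act F)
  · exact act_neg_one F

theorem of_act_eq_one (s : ℤˣ) (A : SL2) (h : act F (s, A) = 1) : s = 1 ∧ (A = 1 ∨ A = -1) := by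
  have hf : ∀ X : M2, actFun F (s, A) X = X := fun X => by
    have := congrArg (fun e => (e (Multiplicative.ofAdd X)).toAdd) h
    simpa [act_apply] using this
  set σ : F := ((s : ℤ) : F) with hσ
  have hBA : ((tw F A : SL2) : M2) = σ • (A : M2) := by
    have h1 := congrArg (fun Z => Z * ((tw F A : SL2) : M2)) (hf 1)
    simp only [actFun, mul_one, Matrix.smul_mul, one_mul, Matrix.mul_assoc,
      ← Matrix.SpecialLinearGroup.coe_mul, inv_mul_cancel] at h1
    rw [← h1]
    simp [hσ]
  have hc : ∀ X : M2, (A : M2) * X = X * (A : M2) := fun X => by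
    have h1 := congrArg (fun Z => Z * ((tw F A : SL2) : M2)) (hf X)
    simp only [actFun, Matrix.smul_mul, Matrix.mul_assoc, ← Matrix.SpecialLinearGroup.coe_mul,
      inv_mul_cancel] at h1
    simp only [Matrix.SpecialLinearGroup.coe_one, mul_one] at h1
    rw [hBA, Matrix.mul_smul] at h1
    have h2 := congrArg (fun Z => σ • Z) h1
    simpa [hσ, smul_smul, sign_sq] using h2
  have e1 := hc !![0, 1; 0, 0]
  have e2 := hc !![0, 0; 1, 0]
  have a1 := congrFun (congrFun e1 0) 1
  have a2 := congrFun (congrFun e1 1) 1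
  have a3 := congrFun (congrFun e2 0) 0
  simp [Matrix.mul_apply, Fin.sum_univ_two] at a1 a2 a3
  have hd : (A : M2) 0 0 * (A : M2) 1 1 - (A : M2) 0 1 * (A : M2) 1 0 = 1 := by
    have := A.2
    rwa [Matrix.det_fin_two] at this
  have hA : A = 1 ∨ A = -1 := by
    have : (A : M2) 0 0 = 1 ∨ (A : M2) 0 0 = -1 := by
      apply mul_self_eq_one_iff.mp
      rw [a2, a3, ← a1] at hd
      simpa using hd
    rcases this with h0 | h0
    · left; apply Subtype.ext
      ext i j
      fin_cases i <;> fin_cases j <;> simp_all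
    · right; apply Subtype.ext
      ext i j
      fin_cases i <;> fin_cases j <;> simp_all
  refine ⟨?_, hA⟩
  have h11 : (tw F A : SL2) = A := by
    rcases hA with rfl | rfl
    · exact map_one _
    · apply Subtype.ext
      ext i j
      fin_cases i <;> fin_cases j <;> simp [tw]
  rw [h11] at hBA
  have h3 : σ = 1 := by
    have := congrFun (congrFun hBA 0) 0
    rcases hA with rfl | rfl <;> simp at this <;> exact this.symm
  rcases Int.units_eq_one_or s with rfl | rfl
  · rfl
  · exfalso
    simp [hσ] at h3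
    have h2 : ((3 : ℕ) : F) = 0 := CharP.cast_eq_zero F 3
    have : (1 : F) = 0 := by
      push_cast at h2
      linear_combination h2 + h3
    exact one_ne_zero this

variable [Fintype F]

theorem fixed_small (hF : Fintype.card F % 4 = 3) (s : ℤˣ) (A : SL2) (X : M2) (hX : X ≠ 0)
    (hfix : actFun F (s, A) X = X) : act F (s, A) ^ 2 = 1 ∨ act F (s, A) ^ 3 = 1 := by
  set σ : F := ((s : ℤ) : F) with hσ
  set t : F := (A : M2).trace with ht
  have h1 : σ • ((A : M2) * X) = X * (tw F A : M2) := by
    have h1 := congrArg (fun Z => Z * ((tw F A : SL2) : M2)) hfix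
    simp only [actFun, Matrix.smul_mul, Matrix.mul_assoc, ← Matrix.SpecialLinearGroup.coe_mul,
      inv_mul_cancel] at h1
    simpa using h1
  have h2 : (A : M2) * X = σ • (X * (tw F A : M2)) := by
    rw [← h1, smul_smul, hσ, sign_sq, one_smul]
  have h3 : (A : M2) * ((A : M2) * X) = X * ((tw F A : M2) * (tw F A : M2)) := by
    rw [h2, Matrix.mul_smul, ← Matrix.mul_assoc, h2, Matrix.smul_mul, smul_smul, hσ, sign_sq,
      one_smul, Matrix.mul_assoc]
  rw [← Matrix.mul_assoc, ch, ch, tw_trace, ← ht, Matrix.sub_mul, Matrix.smul_mul, h2, smul_smul,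
    Matrix.mul_sub, Matrix.mul_smul, one_mul, mul_one] at h3
  have h4 : (t * σ - t ^ 3) • (X * (tw F A : M2)) = 0 := by
    rw [sub_smul, sub_left_inj.mp h3, sub_self]
  have h5 : X * (tw F A : M2) ≠ 0 := fun h => hX (by
    have := congrArg (fun Z => Z * (((tw F A)⁻¹ : SL2) : M2)) h
    simp only [Matrix.mul_assoc, ← Matrix.SpecialLinearGroup.coe_mul, mul_inv_cancel,
      Matrix.SpecialLinearGroup.coe_one, mul_one, zero_mul] at this
    exact this)
  have h6 := (smul_eq_zero.mp h4).resolve_right h5
  have hss : s ^ 2 = 1 := Int.units_sq s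
  by_cases h0 : t = 0
  · left
    rw [← map_pow]
    apply act_eq_one F
    · exact hss
    · right
      apply Subtype.ext
      show ((A ^ 2 : SL2) : M2) = _
      rw [pow_two, Matrix.SpecialLinearGroup.coe_mul, ch, ← ht, h0]
      simp
  · have h7 : t * t = σ := by
      have : t * (σ - t * t) = 0 := by linear_combination h6
      exact (sub_eq_zero.mp ((mul_eq_zero.mp this).resolve_left h0)).symm
    rcases Int.units_eq_one_or s with rfl | rfl
    swap
    · exfalso
      have hns : ¬ IsSquare (-1 : F) := fun h => FiniteField.isSquare_neg_one_iff.mp h hF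
      exact hns ⟨t, by rw [h7, hσ]; simp⟩
    have hσ1 : σ = 1 := by simp [hσ]
    rw [hσ1] at h7
    right
    rw [← map_pow]
    apply act_eq_one F
    · simp
    · have hA3 : ((A ^ 3 : SL2) : M2) = (-t) • (1 : M2) := by
        rw [pow_three, Matrix.SpecialLinearGroup.coe_mul, Matrix.SpecialLinearGroup.coe_mul, ch,
          ← ht, Matrix.mul_sub, Matrix.mul_smul, ch, ← ht, mul_one, smul_sub, smul_smul, h7]
        simp
      rcases mul_self_eq_one_iff.mp h7 with h8 | h8
      · right; apply Subtype.ext
        show ((A ^ 3 : SL2) : M2) = _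
        rw [hA3, h8]; simp
      · left; apply Subtype.ext
        show ((A ^ 3 : SL2) : M2) = _
        rw [hA3, h8]; simp

/-- The order of every element of `2 × PSL₂(F)` divides `6`, `q - 1` or `(q + 1) / 2`. -/
theorem k_orders {α : ℕ} (hcard : Fintype.card F = 3 ^ α) (hF : Fintype.card F % 4 = 3) (s : ℤˣ) (A : SL2) :
    ∃ n ∈ ({6, Fintype.card F - 1, (Fintype.card F + 1) / 2} : Set ℕ), act F (s, A) ^ n = 1 := by
  set q := Fintype.card F with hq
  set t : F := (A : M2).trace with ht
  set D : F := t * t - 1 with hD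
  have hq2 : 2 * (q / 2) + 1 = q := by omega
  have h3 : (3 : F) = 0 := by
    have := CharP.cast_eq_zero F 3
    push_cast at this
    exact this
  set X : M2 := (A : M2) + t • (1 : M2) with hX
  have hXX : X * X = D • (1 : M2) := by
    have e : X * X = (A : M2) * A + (t + t) • (A : M2) + (t * t) • (1 : M2) := by
      rw [hX]
      simp only [add_mul, mul_add, Matrix.smul_mul, Matrix.mul_smul, one_mul, mul_one, smul_smul,
        add_smul]
      abel
    have h3t : (t + (t + t)) • (A : M2) = 0 := by
      have : t + (t + t) = 0 := by linear_combination t * h3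
      rw [this, zero_smul]
    rw [e, ch, ← ht, hD]
    rw [add_smul] at h3t
    have : t • (A : M2) - 1 + (t + t) • (A : M2) + (t * t) • (1 : M2) =
      (t • (A : M2) + (t + t) • (A : M2)) + (-1 + (t * t) • (1 : M2)) := by abel
    rw [this, h3t, zero_add, sub_smul, one_smul]
    abel
  have heven : Even (q - 1) := ⟨q / 2, by omega⟩
  have heven2 : Even ((q + 1) / 2) := ⟨(q + 1) / 4, by omega⟩
  by_cases hD0 : D = 0
  · refine ⟨6, by simp, ?_⟩
    rw [← map_pow]
    apply act_eq_one F
    · show s ^ 6 = 1
      rw [Int.units_pow_eq_pow_mod_two, show (6 : ℕ) % 2 = 0 by rfl, pow_zero]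
    · left
      have e : X ^ 3 = 0 := by rw [pow_three, hXX, hD0]; simp
      rw [hX, add_pow_char_of_commute _ ((Commute.one_right _).smul_right t), smul_pow,
        one_pow] at e
      apply Subtype.ext
      show ((A ^ 6 : SL2) : M2) = _
      have htt : t * t = 1 := by
        rw [hD] at hD0; exact sub_eq_zero.mp hD0
      rw [Matrix.SpecialLinearGroup.coe_pow, show (6 : ℕ) = 3 * 2 by rfl, pow_mul,
        eq_neg_of_add_eq_zero_left e, neg_sq, smul_pow, one_pow, ← pow_mul]
      rw [show t ^ (3 * 2) = (t * t) ^ 3 by ring, htt]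
      simp
  · have hXq : X ^ q = (A : M2) ^ q + t • (1 : M2) := by
      rw [hX]
      have hc : Commute (A : M2) (t • (1 : M2)) := (Commute.one_right _).smul_right t
      rw [hcard, add_pow_char_pow_of_commute _ _ hc, smul_pow, one_pow, ← hcard, hq,
        FiniteField.pow_card]
    have hXq2 : X ^ q = D ^ (q / 2) • X := by
      conv_lhs => rw [← hq2]
      rw [pow_add, pow_mul, pow_two, hXX, smul_pow, one_pow, pow_one, Matrix.smul_mul, one_mul]
    have hD2 : D ^ (q / 2) = 1 ∨ D ^ (q / 2) = -1 := by
      apply mul_self_eq_one_iff.mp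
      rw [← pow_add, show q / 2 + q / 2 = q - 1 by omega]
      exact FiniteField.pow_card_sub_one_eq_one D hD0
    rcases hD2 with hD2 | hD2
    · have hAq : A ^ q = A := by
        apply Subtype.ext
        show ((A ^ q : SL2) : M2) = _
        rw [Matrix.SpecialLinearGroup.coe_pow]
        rw [hD2, one_smul, hXq, hX] at hXq2
        exact add_right_cancel hXq2
      refine ⟨q - 1, by simp, ?_⟩
      rw [← map_pow]
      apply act_eq_one F
      · show s ^ (q - 1) = 1
        rw [Int.units_pow_eq_pow_mod_two, Nat.even_iff.mp heven, pow_zero]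
      · left
        show A ^ (q - 1) = 1
        have : A ^ (q - 1) * A = 1 * A := by rw [← pow_succ, one_mul, show q - 1 + 1 = q by omega, hAq]
        exact mul_right_cancel this
    · have hAq : A ^ (q + 1) = 1 := by
        apply Subtype.ext
        show ((A ^ (q + 1) : SL2) : M2) = _
        rw [Matrix.SpecialLinearGroup.coe_pow, pow_succ]
        rw [hD2, hXq, hX, smul_add, neg_one_smul, neg_one_smul] at hXq2
        have h3t : t • (1 : M2) + (t • (1 : M2) + t • (1 : M2)) = 0 := by
          rw [← add_smul, ← add_smul, show t + (t + t) = 0 by linear_combination t * h3, zero_smul]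
        have hAq : (A : M2) ^ q = -(A : M2) + t • (1 : M2) := by
          have := eq_sub_of_add_eq hXq2
          rw [this]
          apply eq_of_sub_eq_zero
          rw [← neg_eq_zero, ← h3t]
          abel
        rw [hAq, Matrix.add_mul, Matrix.smul_mul, one_mul, Matrix.neg_mul, ch, ← ht]
        simp
      refine ⟨(q + 1) / 2, by simp, ?_⟩
      rw [← map_pow]
      apply act_eq_one F
      · show s ^ ((q + 1) / 2) = 1
        rw [Int.units_pow_eq_pow_mod_two, Nat.even_iff.mp heven2, pow_zero]
      · show A ^ ((q + 1) / 2) = 1 ∨ A ^ ((q + 1) / 2) = -1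
        set E : SL2 := A ^ ((q + 1) / 2) with hE
        have hEE : E * E = 1 := by rw [hE, ← pow_add, show (q + 1) / 2 + (q + 1) / 2 = q + 1 by omega, hAq]
        have h1 := ch F E
        rw [← Matrix.SpecialLinearGroup.coe_mul, hEE, Matrix.SpecialLinearGroup.coe_one] at h1
        set c := (E : M2).trace
        have h2 : c • (E : M2) = (2 : F) • (1 : M2) := by
          rw [eq_sub_iff_add_eq] at h1
          rw [← h1, two_smul]
        have hc : c ≠ 0 := by
          intro hc
          have := congrFun (congrFun h2 0) 0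
          simp [hc] at this
          have : (1 : F) = 0 := by linear_combination h3 + this
          exact one_ne_zero this
        have h4 : (E : M2) = (c⁻¹ * 2) • (1 : M2) := by
          rw [← smul_smul, ← h2, smul_smul, inv_mul_cancel₀ hc, one_smul]
        set d := c⁻¹ * 2
        have hd : d * d = 1 := by
          have := congrFun (congrFun (congrArg (Subtype.val) hEE) 0) 0
          rw [Matrix.SpecialLinearGroup.coe_mul, h4] at this
          simpa using this
        rcases mul_self_eq_one_iff.mp hd with hd | hd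
        · left; apply Subtype.ext; rw [h4, hd]; simp
        · right; apply Subtype.ext; rw [h4, hd]; simp

theorem pow_left_fixed (x : G F) {n : ℕ} (hn : x.right ^ n = 1) :
    (x.right : MulAut (Multiplicative M2)) (x ^ n).left = (x ^ n).left := by
  have hr : (x ^ n).right = 1 := by
    rw [← SemidirectProduct.rightHom_eq_right, map_pow]
    exact hn
  have h := congrArg SemidirectProduct.left ((Commute.self_pow x n).eq)
  simp only [SemidirectProduct.mul_left, hr, map_one, MulAut.one_apply] at h
  rw [mul_comm (x ^ n).left] at h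
  exact mul_left_cancel h

theorem cube_eq_one (v : Multiplicative M2) : v ^ 3 = 1 := by
  apply Multiplicative.toAdd.injective
  show 3 • v.toAdd = 0
  ext i j
  have h3 : (3 : F) = 0 := by
    have := CharP.cast_eq_zero F 3
    push_cast at this
    exact this
  simp [h3]

theorem orders {α : ℕ} (hcard : Fintype.card F = 3 ^ α) (hF : Fintype.card F % 4 = 3) (x : G F) :
    ∃ n ∈ ({6, 9, Fintype.card F - 1, (Fintype.card F + 1) / 2} : Set ℕ), orderOf x ∣ n := by
  obtain ⟨⟨s, A⟩, hp⟩ := x.right.2
  have key : ∀ n, act F (s, A) ^ n = 1 → x.right ^ n = 1 := fun n hn => by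
    apply Subtype.ext
    rw [SubgroupClass.coe_pow, ← hp]
    exact hn
  have hin : ∀ n, x.right ^ n = 1 → x ^ n = SemidirectProduct.inl (x ^ n).left := fun n hn => by
    refine SemidirectProduct.ext (by simp) ?_
    rw [SemidirectProduct.right_inl, ← SemidirectProduct.rightHom_eq_right, map_pow]
    exact hn
  by_cases hfix : ∃ X : M2, X ≠ 0 ∧ actFun F (s, A) X = X
  · obtain ⟨X, hX, hfX⟩ := hfix
    rcases fixed_small F hF s A X hX hfX with h | h
    · refine ⟨6, by simp, orderOf_dvd_of_pow_eq_one ?_⟩
      rw [show (6 : ℕ) = 2 * 3 by rfl, pow_mul, hin 2 (key 2 h), ← map_pow, cube_eq_one, map_one]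
    · refine ⟨9, by simp, orderOf_dvd_of_pow_eq_one ?_⟩
      rw [show (9 : ℕ) = 3 * 3 by rfl, pow_mul, hin 3 (key 3 h), ← map_pow, cube_eq_one, map_one]
  · obtain ⟨n, hn, h⟩ := k_orders F hcard hF s A
    refine ⟨n, ?_, orderOf_dvd_of_pow_eq_one ?_⟩
    · simp only [Set.mem_insert_iff, Set.mem_singleton_iff] at hn ⊢
      tauto
    · rw [hin n (key n h)]
      have h1 := pow_left_fixed F x (key n h)
      rw [← hp, act_apply] at h1
      have h2 : (x ^ n).left.toAdd = 0 := by
        by_contra h0
        refine hfix ⟨_, h0, ?_⟩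
        exact congrArg Multiplicative.toAdd h1
      rw [show (x ^ n).left = 1 from Multiplicative.toAdd.injective h2, map_one]

theorem exists_order_nine : ∃ x : G F, orderOf x = 9 := by
  let U : SL2 := ⟨!![1, 1; 0, 1], by simp [Matrix.det_fin_two]⟩
  have hU : (U : M2) = !![1, 1; 0, 1] := rfl
  have htw : tw F U = U := by
    apply Subtype.ext
    show (U : M2).map (frobenius F 3) = (U : M2)
    rw [hU]
    ext i j
    fin_cases i <;> fin_cases j <;> simp
  let k : (act F).range := ⟨act F (1, U), ⟨_, rfl⟩⟩
  let x : G F := ⟨Multiplicative.ofAdd !![0, 0; 1, 0], k⟩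
  have hk3 : k ^ 3 = 1 := by
    apply Subtype.ext
    show act F (1, U) ^ 3 = 1
    rw [← map_pow]
    apply act_eq_one F
    · simp
    · left; apply Subtype.ext
      show ((U ^ 3 : SL2) : M2) = _
      have h3 : (3 : F) = 0 := by
        have := CharP.cast_eq_zero F 3
        push_cast at this
        exact this
      rw [pow_three, Matrix.SpecialLinearGroup.coe_mul, Matrix.SpecialLinearGroup.coe_mul, hU,
        Matrix.SpecialLinearGroup.coe_one]
      ext i j
      fin_cases i <;> fin_cases j <;>
        simp [Matrix.mul_apply, Fin.sum_univ_two] <;> linear_combination h3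
  have hne : x ^ 3 ≠ 1 := by
    intro h
    have h1 := congrArg (fun y : G F => y.left.toAdd) h
    simp only [pow_three, SemidirectProduct.mul_left, SemidirectProduct.mul_right,
      SemidirectProduct.one_left, toAdd_one] at h1
    simp only [x, k, Subgroup.coe_subtype, Subgroup.coe_mul, act_apply, MulAut.mul_apply, toAdd_mul,
      toAdd_ofAdd, actFun, htw, Units.val_one, Int.cast_one, one_smul] at h1
    have h3 : (3 : F) = 0 := by
      have := CharP.cast_eq_zero F 3
      push_cast at this
      exact this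
    rw [Matrix.SpecialLinearGroup.coe_inv, hU] at h1
    have h01 := congrFun (congrFun h1 0) 1
    simp [Matrix.SpecialLinearGroup.coe_inv, Matrix.adjugate_fin_two, Matrix.mul_apply,
      Fin.sum_univ_two] at h01
    have : (1 : F) = 0 := by linear_combination h01 + 2 * h3
    exact one_ne_zero this
  refine ⟨x, orderOf_eq_prime_pow (p := 3) (n := 1) (by simpa using hne) ?_⟩
  have hr : (x ^ 3).right = 1 := by
    rw [← SemidirectProduct.rightHom_eq_right, map_pow]
    exact hk3
  rw [show (3 : ℕ) ^ (1 + 1) = 3 * 3 by rfl, pow_mul,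
    show x ^ 3 = SemidirectProduct.inl (x ^ 3).left from SemidirectProduct.ext (by simp) (by simp [hr]),
    ← map_pow, cube_eq_one, map_one]

theorem exists_order_six : ∃ x : G F, orderOf x = 6 := by
  let J : SL2 := ⟨!![0, 1; -1, 0], by simp [Matrix.det_fin_two]⟩
  have hJ : (J : M2) = !![0, 1; -1, 0] := rfl
  have htw : tw F J = J := by
    apply Subtype.ext
    show (J : M2).map (frobenius F 3) = (J : M2)
    rw [hJ]
    ext i j
    fin_cases i <;> fin_cases j <;> simp
  let k : (act F).range := ⟨act F (1, J), ⟨_, rfl⟩⟩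
  have hk1 : k ≠ 1 := fun h => by
    have h1 := (of_act_eq_one F 1 J (congrArg Subtype.val h)).2
    rcases h1 with h1 | h1 <;>
    · have := congrArg (fun B : SL2 => (B : M2) 0 1) h1
      simp [hJ] at this
  have hk2 : k ^ 2 = 1 := by
    apply Subtype.ext
    show act F (1, J) ^ 2 = 1
    rw [← map_pow]
    apply act_eq_one F
    · simp
    · right; apply Subtype.ext
      show ((J ^ 2 : SL2) : M2) = _
      rw [pow_two, Matrix.SpecialLinearGroup.coe_mul, hJ, Matrix.SpecialLinearGroup.coe_neg,
        Matrix.SpecialLinearGroup.coe_one]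
      ext i j
      fin_cases i <;> fin_cases j <;> simp [Matrix.mul_apply, Fin.sum_univ_two]
  let x : G F := ⟨Multiplicative.ofAdd 1, k⟩
  have hx2 : x ^ 2 ≠ 1 := by
    intro h
    have h1 := congrArg (fun y : G F => y.left.toAdd) h
    simp only [pow_two, SemidirectProduct.mul_left, SemidirectProduct.one_left, toAdd_one] at h1
    simp only [x, k, Subgroup.coe_subtype, act_apply, toAdd_mul, toAdd_ofAdd, actFun, htw,
      Units.val_one, Int.cast_one, one_smul, mul_one] at h1
    rw [← Matrix.SpecialLinearGroup.coe_mul, mul_inv_cancel, Matrix.SpecialLinearGroup.coe_one] at h1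
    have h2 := congrFun (congrFun h1 0) 0
    simp at h2
    have h3 : ((3 : ℕ) : F) = 0 := CharP.cast_eq_zero F 3
    push_cast at h3
    have : (1 : F) = 0 := by linear_combination h3 - h2
    exact one_ne_zero this
  have hx6 : x ^ 6 = 1 := by
    have hr : (x ^ 2).right = 1 := by
      rw [← SemidirectProduct.rightHom_eq_right, map_pow]
      exact hk2
    rw [show (6 : ℕ) = 2 * 3 by rfl, pow_mul,
      show x ^ 2 = SemidirectProduct.inl (x ^ 2).left from SemidirectProduct.ext (by simp) (by simp [hr]),
      ← map_pow, cube_eq_one, map_one]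
  have hx3 : x ^ 3 ≠ 1 := by
    intro h
    have h1 := congrArg SemidirectProduct.rightHom h
    rw [map_pow, map_one] at h1
    change k ^ 3 = 1 at h1
    rw [pow_succ, hk2, one_mul] at h1
    exact hk1 h1
  refine ⟨x, ?_⟩
  have hd := orderOf_dvd_of_pow_eq_one hx6
  have hp : x ^ orderOf x = 1 := pow_orderOf_eq_one x
  have hle : orderOf x ≤ 6 := Nat.le_of_dvd (by norm_num) hd
  have hx1 : x ≠ 1 := fun h => hx2 (by rw [h, one_pow])
  interval_cases h : orderOf x
  all_goals first
    | rfl
    | omega
    | exact absurd (by simpa using hp) hx1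
    | exact absurd hp hx2
    | exact absurd hp hx3

theorem exists_order_qsub (hF : Fintype.card F % 4 = 3) : ∃ x : G F, orderOf x = Fintype.card F - 1 := by
  classical
  set q := Fintype.card F with hq
  obtain ⟨l, hl⟩ := IsCyclic.exists_generator (α := Fˣ)
  have hol : orderOf l = q - 1 := by
    rw [orderOf_eq_card_of_forall_mem_zpowers hl, Nat.card_units, Nat.card_eq_fintype_card]
  let A : SL2 := ⟨!![(l : F), 0; 0, ((l⁻¹ : Fˣ) : F)], by simp [Matrix.det_fin_two]⟩
  have hApow : ∀ k : ℕ, ((A ^ k : SL2) : M2) = !![((l ^ k : Fˣ) : F), 0; 0, (((l ^ k)⁻¹ : Fˣ) : F)] := by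
    intro k
    induction k with
    | zero => ext i j; fin_cases i <;> fin_cases j <;> simp
    | succ k ih =>
      rw [pow_succ, Matrix.SpecialLinearGroup.coe_mul, ih]
      ext i j
      fin_cases i <;> fin_cases j <;>
        simp [A, Matrix.mul_apply, Fin.sum_univ_two, pow_succ, mul_comm]
  let k₀ : (act F).range := ⟨act F (-1, A), ⟨_, rfl⟩⟩
  refine ⟨SemidirectProduct.inr k₀, ?_⟩
  rw [orderOf_injective _ SemidirectProduct.inr_injective]
  have key : ∀ k : ℕ, k₀ ^ k = 1 ↔ (q - 1) ∣ k := by
    intro k
    constructor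
    · intro h
      have h1 := congrArg Subtype.val h
      change act F (-1, A) ^ k = 1 at h1
      rw [← map_pow] at h1
      obtain ⟨hs, hA⟩ := of_act_eq_one F ((-1 : ℤˣ) ^ k) (A ^ k) h1
      have hk : 2 ∣ k := by
        rw [Int.units_pow_eq_pow_mod_two] at hs
        by_contra hne
        rw [show k % 2 = 1 by omega] at hs
        exact absurd hs (by decide)
      have hl2 : l ^ (2 * k) = 1 := by
        apply Units.ext
        rcases hA with hA | hA <;>
        · have := congrArg (fun B : SL2 => (B : M2) 0 0) hA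
          simp [hApow] at this
          simp [pow_mul', this]
      have h2 := orderOf_dvd_of_pow_eq_one hl2
      rw [hol] at h2
      obtain ⟨a, ha⟩ := hk
      have hqe : q - 1 = 2 * (q / 2) := by omega
      rw [hqe] at h2 ⊢
      rw [ha] at h2 ⊢
      have hodd : Nat.Coprime (q / 2) 2 := by
        rw [Nat.coprime_two_right, Nat.odd_iff]; omega
      exact Nat.mul_dvd_mul_left 2 (hodd.dvd_of_dvd_mul_left (Nat.dvd_of_mul_dvd_mul_left (by norm_num) h2))
    · intro h
      apply Subtype.ext
      show act F (-1, A) ^ k = 1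
      rw [← map_pow]
      apply act_eq_one F
      · have : Even k := by
          obtain ⟨a, rfl⟩ := h
          exact (Even.mul_right ⟨q / 2, by omega⟩ a)
        exact this.neg_one_pow
      · left; apply Subtype.ext
        show ((A ^ k : SL2) : M2) = _
        rw [hApow, orderOf_dvd_iff_pow_eq_one.mp (hol ▸ h)]
        ext i j
        fin_cases i <;> fin_cases j <;> simp
  apply Nat.dvd_antisymm
  · exact orderOf_dvd_of_pow_eq_one ((key _).mpr dvd_rfl)
  · exact (key _).mp (pow_orderOf_eq_one _)

theorem exists_order_qadd (hF : Fintype.card F % 4 = 3) (h27 : 27 ≤ Fintype.card F) :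
    ∃ x : G F, orderOf x = (Fintype.card F + 1) / 2 := by
  classical
  set q := Fintype.card F with hq
  let K := AlgebraicClosure F
  haveI : CharP K 3 := charP_of_injective_algebraMap (algebraMap F K).injective 3
  have hqK : (q : K) = 0 := by
    rw [← map_natCast (algebraMap F K), hq, Nat.cast_card_eq_zero, map_zero]
  haveI : NeZero ((q + 1 : ℕ) : K) := ⟨by push_cast; rw [hqK, zero_add]; exact one_ne_zero⟩
  obtain ⟨z, hz⟩ := HasEnoughRootsOfUnity.prim (M := K) (n := q + 1)
  have hz0 : z ≠ 0 := hz.ne_zero (by omega)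
  have hzq : z ^ q = z⁻¹ := by
    apply eq_inv_of_mul_eq_one_left
    rw [← pow_succ, hz.pow_eq_one]
  have ht : (z + z⁻¹) ^ q = z + z⁻¹ := by
    obtain ⟨n, hp, hcard⟩ := FiniteField.card F 3
    haveI := Fact.mk hp
    rw [hq, hcard, add_pow_char_pow, ← hcard, ← hq, inv_pow, hzq, inv_inv, add_comm]
  obtain ⟨t, htt⟩ : ∃ t : F, algebraMap F K t = z + z⁻¹ := by
    by_contra hne
    let P : Polynomial K := Polynomial.X ^ q - Polynomial.X
    have hP : P ≠ 0 := FiniteField.X_pow_card_sub_X_ne_zero K (Fintype.one_lt_card)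
    have hroot : ∀ y ∈ insert (z + z⁻¹) (Finset.univ.image (algebraMap F K)), y ∈ P.roots.toFinset := by
      intro y hy
      rw [Multiset.mem_toFinset, Polynomial.mem_roots hP]
      rcases Finset.mem_insert.mp hy with rfl | hy
      · simp [P, ht]
      · obtain ⟨a, -, rfl⟩ := Finset.mem_image.mp hy
        simp [P, ← map_pow, hq, FiniteField.pow_card]
    have h1 := Finset.card_le_card hroot
    rw [Finset.card_insert_of_notMem (by simpa using fun x hx => hne ⟨x, hx⟩),
      Finset.card_image_of_injective _ (algebraMap F K).injective, Finset.card_univ] at h1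
    have h2 : P.roots.toFinset.card ≤ q := by
      refine le_trans (Multiset.toFinset_card_le _) (le_trans (Polynomial.card_roots' _) ?_)
      rw [FiniteField.X_pow_card_sub_X_natDegree_eq K Fintype.one_lt_card]
    omega
  let A : SL2 := ⟨!![0, -1; 1, t], by simp [Matrix.det_fin_two]⟩
  have hev : ∀ k : ℕ, Matrix.vecMul ![1, z] (((A ^ k : SL2) : M2).map (algebraMap F K)) = z ^ k • ![1, z] := by
    intro k
    induction k with
    | zero => simp
    | succ k ih =>
      rw [pow_succ, Matrix.SpecialLinearGroup.coe_mul, Matrix.map_mul, ← Matrix.vecMul_vecMul, ih,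
        Matrix.smul_vecMul, pow_succ, mul_smul]
      congr 1
      funext i
      fin_cases i <;> simp [A, Matrix.vecMul, dotProduct, Fin.sum_univ_two, htt, mul_add, hz0]
  let k₀ : (act F).range := ⟨act F (1, A), ⟨_, rfl⟩⟩
  refine ⟨SemidirectProduct.inr k₀, ?_⟩
  rw [orderOf_injective _ SemidirectProduct.inr_injective]
  have hdvd : (q + 1) / 2 ∣ orderOf k₀ := by
    have h1 := congrArg Subtype.val (pow_orderOf_eq_one k₀)
    change act F (1, A) ^ orderOf k₀ = 1 at h1
    rw [← map_pow] at h1
    obtain ⟨-, hA⟩ := of_act_eq_one F _ (A ^ orderOf k₀) h1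
    have h2 : z ^ orderOf k₀ = 1 ∨ z ^ orderOf k₀ = -1 := by
      rcases hA with hA | hA
      · left
        have := congrFun (hev (orderOf k₀)) 0
        rw [hA] at this
        simp [Matrix.vecMul, dotProduct, Fin.sum_univ_two] at this
        exact this.symm
      · right
        have := congrFun (hev (orderOf k₀)) 0
        rw [hA] at this
        simp [Matrix.vecMul, dotProduct, Fin.sum_univ_two] at this
        exact this.symm
    have h3 : z ^ (2 * orderOf k₀) = 1 := by
      rw [pow_mul']; rcases h2 with h2 | h2 <;> rw [h2] <;> simp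
    have h4 := hz.dvd_of_pow_eq_one _ h3
    rw [show q + 1 = 2 * ((q + 1) / 2) by omega] at h4
    exact Nat.dvd_of_mul_dvd_mul_left (by norm_num) h4
  obtain ⟨n, hp, hcard⟩ := FiniteField.card F 3
  obtain ⟨m, hm, hpow⟩ := k_orders F hcard hF 1 A
  have hd : orderOf k₀ ∣ m := orderOf_dvd_of_pow_eq_one (Subtype.ext hpow)
  have hm2 := hdvd.trans hd
  simp only [Set.mem_insert_iff, Set.mem_singleton_iff] at hm
  rcases hm with rfl | rfl | rfl
  · have h6 := Nat.le_of_dvd (by norm_num) hm2
    omega
  · exfalso
    have h5 : (q + 1) / 2 ∣ 2 * ((q + 1) / 2) := Dvd.intro_left 2 rfl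
    have h6 := Nat.dvd_sub h5 hm2
    rw [show 2 * ((q + 1) / 2) - (q - 1) = 2 by omega] at h6
    have := Nat.le_of_dvd (by norm_num) h6
    omega
  · exact Nat.dvd_antisymm hd hdvd

end

/-- Let q = 3^α with α ≥ 3 odd. There is a finite group H having a non-trivial normal 3-subgroup and whose element orders maximal under divisibility are exactly 6, 9, q − 1 and (q + 1)/2. -/
theorem result (α : ℕ) (hα : 3 ≤ α) (hodd : Odd α) :
    ∃ (H : Type) (_ : Group H) (_ : Fintype H), (∃ P : Subgroup H, P.Normal ∧ P ≠ ⊥ ∧ IsPGroup 3 ↥P) ∧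
      {n : ℕ | n ∈ Set.range (orderOf : H → ℕ) ∧ ∀ m ∈ Set.range (orderOf : H → ℕ), n ∣ m → m = n} = ({6, 9, 3 ^ α - 1, (3 ^ α + 1) / 2} : Set ℕ) := by
  classical
  haveI : Fact (Nat.Prime 3) := ⟨by norm_num⟩
  let F := GaloisField 3 α
  letI : Fintype F := Fintype.ofFinite F
  have hcard : Fintype.card F = 3 ^ α := by
    rw [Fintype.card_eq_nat_card]
    exact GaloisField.card 3 α (by omega)
  obtain ⟨a, ha⟩ := hodd
  have hQ27 : 27 ≤ 3 ^ α := le_trans (by norm_num) (Nat.pow_le_pow_right (by norm_num) hα)
  have hQ4 : 3 ^ α % 4 = 3 := by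
    rw [ha, pow_succ, pow_mul, Nat.mul_mod, Nat.pow_mod]
    norm_num
  have hF : Fintype.card F % 4 = 3 := by rw [hcard]; exact hQ4
  have hQ3 : 3 ∣ 3 ^ α := dvd_pow_self 3 (by omega)
  haveI : Finite (G F) := Finite.of_equiv _ SemidirectProduct.equivProd.symm
  refine ⟨G F, inferInstance, Fintype.ofFinite _, ⟨SemidirectProduct.inl.range, ?_, ?_, ?_⟩, ?_⟩
  · rw [SemidirectProduct.range_inl_eq_ker_rightHom]
    infer_instance
  · intro h
    rw [Subgroup.eq_bot_iff_forall] at h
    have := h _ ⟨Multiplicative.ofAdd (1 : Matrix (Fin 2) (Fin 2) F), rfl⟩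
    rw [← map_one (SemidirectProduct.inl (N := Multiplicative (Matrix (Fin 2) (Fin 2) F))
      (φ := (act F).range.subtype))] at this
    have := SemidirectProduct.inl_injective this
    exact one_ne_zero (Multiplicative.ofAdd.injective (this.trans ofAdd_zero.symm))
  · rintro ⟨_, v, rfl⟩
    refine ⟨1, Subtype.ext ?_⟩
    show SemidirectProduct.inl v ^ 3 ^ 1 = 1
    rw [pow_one, ← map_pow, cube_eq_one, map_one]
  · set L : Set ℕ := {6, 9, 3 ^ α - 1, (3 ^ α + 1) / 2} with hL
    have hup : ∀ x : G F, ∃ n ∈ L, orderOf x ∣ n := fun x => by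
      have := orders F hcard hF x
      rwa [hcard] at this
    have hin : ∀ n ∈ L, n ∈ Set.range (orderOf : G F → ℕ) := by
      intro n hn
      simp only [hL, Set.mem_insert_iff, Set.mem_singleton_iff] at hn
      rcases hn with rfl | rfl | rfl | rfl
      · exact exists_order_six F
      · exact exists_order_nine F
      · rw [← hcard]; exact exists_order_qsub F hF
      · rw [← hcard]; exact exists_order_qadd F hF (by omega)
    have hanti : ∀ m ∈ L, ∀ n ∈ L, m ∣ n → m = n := by
      obtain ⟨c, hc⟩ := hQ3
      intro m hm n hn hd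
      simp only [hL, Set.mem_insert_iff, Set.mem_singleton_iff] at hm hn
      rcases hm with rfl | rfl | rfl | rfl <;> rcases hn with rfl | rfl | rfl | rfl <;>
        first
          | rfl
          | (exfalso; revert hd; norm_num; done)
          | (exfalso; have := Nat.le_of_dvd (by omega) hd; omega)
          | (exfalso; obtain ⟨e, he⟩ := hd; omega)
          | (exfalso
             have h2 := Nat.dvd_sub (Dvd.intro_left 2 rfl : (3 ^ α + 1) / 2 ∣ 2 * ((3 ^ α + 1) / 2)) hd
             have := Nat.le_of_dvd (by omega) h2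
             omega)
    ext n
    constructor
    · rintro ⟨⟨x, rfl⟩, hmax⟩
      obtain ⟨m, hm, hd⟩ := hup x
      rwa [← hmax m (hin m hm) hd]
    · intro hn
      refine ⟨hin n hn, ?_⟩
      rintro _ ⟨x, rfl⟩ hd
      obtain ⟨m, hm, hd'⟩ := hup x
      have := hanti n hn m hm (hd.trans hd')
      exact Nat.dvd_antisymm (this ▸ hd') hd

end Cfsg.Agent.S2515
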