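import Cfsg.Statements.S2516
import Mathlib

set_option autoImplicit false
open Cfsg

namespace Cfsg.Agent.S2516

theorem pow_mk {F : Type*} [Field F] {V : Type*} [AddCommGroup V] [Module F V]
    {G : Type*} [Group G] (ρ : Representation F G V)
    (x : Multiplicative V ⋊[(MulAutMultiplicative V).symm.toMonoidHom.comp
        ((DistribMulAction.toAddAut ((V →ₗ[F] V)ˣ) V).comp ρ.asGroupHom)] G) :
    ∀ n : ℕ, x ^ n = ⟨Multiplicative.ofAdd
      ((∑ i ∈ Finset.range n, ρ x.right ^ i) (Multiplicative.toAdd x.left)), x.right ^ n⟩ := by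
  intro n
  induction n with
  | zero => simp; rfl
  | succ n ih =>
    rw [pow_succ', ih]
    refine SemidirectProduct.ext ?_ ?_
    · refine Multiplicative.toAdd.injective ?_
      rw [SemidirectProduct.mul_left, geom_sum_succ, toAdd_mul, toAdd_ofAdd, LinearMap.add_apply,
        Module.End.one_apply, Module.End.mul_apply, add_comm]
      rfl
    · rw [SemidirectProduct.mul_right, pow_succ']

/-- Let F be a field of characteristic p > 0, V a non-zero finite-dimensional F-vector space, G a finite group and ρ a representation of G on V; form the semidirect product V ⋊ G. For g ∈ G of order k, the coset Vg contains an element of order pk if and only if the minimal polynomial of ρ(g) does not divide 1 + X + ⋯ + X^(k−1). -/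
theorem result {F : Type*} [Field F] (p : ℕ) [Fact p.Prime] [CharP F p] {V : Type*} [AddCommGroup V] [Module F V] [FiniteDimensional F V] [Nontrivial V]
    {G : Type*} [Group G] [Finite G] (ρ : Representation F G V) (g : G) :
    (∃ x : Multiplicative V ⋊[(MulAutMultiplicative V).symm.toMonoidHom.comp
        ((DistribMulAction.toAddAut ((V →ₗ[F] V)ˣ) V).comp ρ.asGroupHom)] G,
        x.right = g ∧ orderOf x = p * orderOf g) ↔
      ¬ (minpoly F (ρ g) ∣ ∑ i ∈ Finset.range (orderOf g), (Polynomial.X : Polynomial F) ^ i) := by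
  have hp : p.Prime := Fact.out
  have haeval : minpoly F (ρ g) ∣ ∑ i ∈ Finset.range (orderOf g), (Polynomial.X : Polynomial F) ^ i ↔
      ∑ i ∈ Finset.range (orderOf g), ρ g ^ i = 0 := by
    rw [minpoly.dvd_iff, map_sum]
    simp
  rw [haeval]
  constructor
  · rintro ⟨x, rfl, hx⟩ h0
    have h1 : x ^ orderOf x.right = 1 := by
      rw [pow_mk, h0, pow_orderOf_eq_one]
      rfl
    have h2 := Nat.le_of_dvd (orderOf_pos x.right) (orderOf_dvd_of_pow_eq_one h1)
    rw [hx] at h2
    exact absurd h2 (not_le.2 (lt_mul_left (orderOf_pos x.right) hp.one_lt))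
  · intro h0
    obtain ⟨v, hv⟩ : ∃ v, (∑ i ∈ Finset.range (orderOf g), ρ g ^ i) v ≠ 0 := by
      by_contra hne
      push Not at hne
      exact h0 (LinearMap.ext hne)
    refine ⟨⟨Multiplicative.ofAdd v, g⟩, rfl, ?_⟩
    set x : Multiplicative V ⋊[(MulAutMultiplicative V).symm.toMonoidHom.comp
        ((DistribMulAction.toAddAut ((V →ₗ[F] V)ˣ) V).comp ρ.asGroupHom)] G :=
      ⟨Multiplicative.ofAdd v, g⟩ with hxdef
    have hk : x ^ orderOf g = ⟨Multiplicative.ofAdd
        ((∑ i ∈ Finset.range (orderOf g), ρ g ^ i) v), 1⟩ := by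
      rw [pow_mk]
      exact SemidirectProduct.ext rfl (pow_orderOf_eq_one g)
    have hd : orderOf g ∣ orderOf x := orderOf_map_dvd SemidirectProduct.rightHom x
    obtain ⟨d, hd⟩ := hd
    have hpk : x ^ (orderOf g * p) = 1 := by
      rw [pow_mul, hk, show (⟨Multiplicative.ofAdd ((∑ i ∈ Finset.range (orderOf g), ρ g ^ i) v), 1⟩ :
        Multiplicative V ⋊[(MulAutMultiplicative V).symm.toMonoidHom.comp
        ((DistribMulAction.toAddAut ((V →ₗ[F] V)ˣ) V).comp ρ.asGroupHom)] G) =
        SemidirectProduct.inl (Multiplicative.ofAdd ((∑ i ∈ Finset.range (orderOf g), ρ g ^ i) v)) from rfl,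
        ← map_pow, ← ofAdd_nsmul, ← Nat.cast_smul_eq_nsmul F p, CharP.cast_eq_zero, zero_smul,
        ofAdd_zero, map_one]
    have hdp : d ∣ p := (Nat.mul_dvd_mul_iff_left (orderOf_pos g)).1
      (hd ▸ orderOf_dvd_of_pow_eq_one hpk)
    rcases (Nat.dvd_prime hp).1 hdp with rfl | rfl
    · exfalso
      rw [mul_one] at hd
      have h1 := pow_orderOf_eq_one x
      rw [hd, hk] at h1
      exact hv (congrArg (fun y : Multiplicative V ⋊[(MulAutMultiplicative V).symm.toMonoidHom.comp
        ((DistribMulAction.toAddAut ((V →ₗ[F] V)ˣ) V).comp ρ.asGroupHom)] G =>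
        Multiplicative.toAdd y.left) h1)
    · rw [hd, mul_comm]

end Cfsg.Agent.S2516
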