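import Cfsg.Statements.S2517
import Cfsg.Agent.SpecNine.Transport
-- import your own Cfsg.Agent.* helpers here

set_option autoImplicit false
open Cfsg Module QuadraticMap Cfsg.Agent.Classical.Quad Cfsg.Agent.AutPOmega Cfsg.Agent.SpecNine

namespace Cfsg.Agent.S2517

/-- Let F be a finite field of odd order q, let Ω₉ be the simple orthogonal group PΩ(9, F), and let Ω₈⁻ be the commutator subgroup of the isometry group of a minus-type non-singular quadratic form on V = F⁸ (the simple group PΩ⁻(8, F), acting on its natural module V). Then Ω₉ and the semidirect product V ⋊ Ω₈⁻ have exactly the same set of element orders. -/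
theorem result {F : Type*} [Field F] [Fintype F] (hF : Odd (Fintype.card F)) (a b : F)
    (hab : ∀ z₁ z₂ : F, z₁ ^ 2 + a * z₁ * z₂ + b * z₂ ^ 2 = 0 → z₁ = 0 ∧ z₂ = 0) :
    Set.range (orderOf : Cfsg.POmega F (Cfsg.quadFormOdd 4 F) → ℕ) =
      Set.range (orderOf :
        (Multiplicative (((Fin 3 ⊕ Fin 3) ⊕ Fin 2) → F)) ⋊[
          (MulAutMultiplicative (((Fin 3 ⊕ Fin 3) ⊕ Fin 2) → F)).symm.toMonoidHom.comp
           ((DistribMulAction.toAddAut (LinearMap.GeneralLinearGroup F (((Fin 3 ⊕ Fin 3) ⊕ Fin 2) → F))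
              (((Fin 3 ⊕ Fin 3) ⊕ Fin 2) → F)).comp
            (Matrix.GeneralLinearGroup.toLin.toMonoidHom.comp
              ((Cfsg.isometryGroup F (Cfsg.quadFormMinus 3 F a b)).subtype.comp
                (Cfsg.Omega F (Cfsg.quadFormMinus 3 F a b)).subtype)))]
          ↥(Cfsg.Omega F (Cfsg.quadFormMinus 3 F a b)) → ℕ) := by
  classical
  obtain ⟨p, hp⟩ := CharP.exists F
  haveI : Fact p.Prime := ⟨CharP.char_is_prime F p⟩
  have h2 : (2 : F) ≠ 0 := two_ne_zero_of_odd hF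
  have hA9 := nondeg_hyp (nondeg_sqForm (F := F) h2) 4
  have hB8 := nondeg_hyp (nondeg_binForm hab) 3
  have heA : ∀ x, hyp (sqForm F) 4 (oddCoord 4 x) = qOdd F 4 x := oddCoord_map 4
  have heB : ∀ x, hyp (binForm a b) 3 (minusCoord 3 x) = qMinus F 3 a b x := minusCoord_map a b 3
  obtain ⟨φA, hAi, hAc, hAs, -⟩ := corr h2 hA9 (oddCoord 4) heA
  obtain ⟨φ8, h8i, h8c, h8s, h8e⟩ := corr h2 hB8 (minusCoord 3) heB
  have hQ : (polarBilin (qOdd F 4)).Nondegenerate := (Iso.symm ⟨oddCoord 4, heA⟩).nondeg hA9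
  have hc := center_nine h2 hQ (by simp [Module.finrank_pi, Fintype.card_sum])
  have hord : ∀ s : Cfsg.Omega F (⇑(qOdd F 4)),
      orderOf (QuotientGroup.mk' (Subgroup.center (Cfsg.Omega F (⇑(qOdd F 4)))) s) = orderOf s := fun s =>
    orderOf_injective _ ((MonoidHom.ker_eq_bot_iff _).1 (by rw [QuotientGroup.ker_mk', hc])) s
  have hrA : Set.range (orderOf : Cfsg.POmega F (Cfsg.quadFormOdd 4 F) → ℕ) =
      Set.range (orderOf : Cfsg.Omega F (⇑(qOdd F 4)) → ℕ) := by
    apply Set.Subset.antisymm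
    · rintro _ ⟨x, rfl⟩
      obtain ⟨s, rfl⟩ := QuotientGroup.mk'_surjective _ x
      exact ⟨s, (hord s).symm⟩
    · rintro _ ⟨s, rfl⟩
      exact ⟨QuotientGroup.mk' _ s, hord s⟩
  rw [hrA]
  haveI : Finite ((Multiplicative (((Fin 3 ⊕ Fin 3) ⊕ Fin 2) → F)) ⋊[
        (MulAutMultiplicative (((Fin 3 ⊕ Fin 3) ⊕ Fin 2) → F)).symm.toMonoidHom.comp
         ((DistribMulAction.toAddAut (LinearMap.GeneralLinearGroup F (((Fin 3 ⊕ Fin 3) ⊕ Fin 2) → F))
            (((Fin 3 ⊕ Fin 3) ⊕ Fin 2) → F)).comp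
          (Matrix.GeneralLinearGroup.toLin.toMonoidHom.comp
            ((Cfsg.isometryGroup F (Cfsg.quadFormMinus 3 F a b)).subtype.comp
              (Cfsg.Omega F (Cfsg.quadFormMinus 3 F a b)).subtype)))]
        ↥(Cfsg.Omega F (Cfsg.quadFormMinus 3 F a b))) := Finite.of_equiv _ SemidirectProduct.equivProd.symm
  let ψ : ↥(Cfsg.Omega F (Cfsg.quadFormMinus 3 F a b)) →* oG (hyp (binForm a b) 3) := φ8
  refine isospectral p h2 hab φA hAi (fun g => hAc g) hAs (ψ.comp SemidirectProduct.rightHom)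
    (fun h => h8c h.right) (fun h => minusCoord 3 (Multiplicative.toAdd h.left))
    (fun h n => semi_pow ψ h8i (minusCoord 3) (fun g v => h8e g v) h n) (fun g hd hs v => ?_)
  obtain ⟨s, rfl⟩ := h8s g hd hs
  exact ⟨⟨Multiplicative.ofAdd ((minusCoord 3).symm v), s⟩, rfl, (minusCoord 3).apply_symm_apply v⟩

end Cfsg.Agent.S2517
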