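import Cfsg.Statements.S2519
import Cfsg.Agent.Chev.G2Spec.Maximal
-- import your own Cfsg.Agent.* helpers here

set_option autoImplicit false
open Cfsg

namespace Cfsg.Agent.S2519

/-- Let F be a finite field of odd order q = p^a ≥ 5. The element orders of the Chevalley group G₂(F) that are maximal under divisibility are exactly p(q + 1), p(q − 1), q² − 1, q² + q + 1, q² − q + 1, together with p² when p is 3 or 5. -/
theorem result {F : Type*} [Field F] [Fintype F] (p a : ℕ) (hp : p.Prime) (hp2 : p ≠ 2) (ha : 1 ≤ a) (hF : Fintype.card F = p ^ a) (hq5 : 5 ≤ Fintype.card F) :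
    {n : ℕ | n ∈ Set.range (orderOf : ↥(Cfsg.Lie.chevG2.group F) → ℕ) ∧ ∀ m ∈ Set.range (orderOf : ↥(Cfsg.Lie.chevG2.group F) → ℕ), n ∣ m → m = n} =
      ({p * (p ^ a + 1), p * (p ^ a - 1), p ^ (2 * a) - 1, p ^ (2 * a) + p ^ a + 1, p ^ (2 * a) - p ^ a + 1} : Set ℕ) ∪
        (if p = 3 ∨ p = 5 then ({p ^ 2} : Set ℕ) else ∅) := by
  haveI := Fact.mk hp
  haveI : CharP F p := by
    obtain ⟨p', hp'⟩ := CharP.exists F
    obtain ⟨e, hpr, he⟩ := FiniteField.card F p'
    have : p' = p := (Nat.prime_dvd_prime_iff_eq hpr hp).1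
      (hpr.dvd_of_dvd_pow (hF ▸ he ▸ dvd_pow_self p' e.ne_zero))
    exact this ▸ hp'
  have hqq : p ^ (2 * a) = Fintype.card F ^ 2 := by rw [hF, ← pow_mul, mul_comm]
  rw [hqq, ← hF]
  obtain ⟨h1, h2, h3, h4, h5⟩ := Cfsg.Agent.G2Spec.exists_orders F p
  refine Cfsg.Agent.G2Spec.maximal_eq ?_ ?_
    (Cfsg.Agent.G2Spec.odd_antichain hp hp2 (hF ▸ dvd_pow_self p (by omega)) hq5)
  · rintro _ ⟨x, rfl⟩
    have hp3 : 3 ≤ p := by have := hp.two_le; omega
    rcases Cfsg.Agent.G2Spec.order_cases p x with h | h | h | h | h | h | h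
    · exact ⟨_, Or.inl (by simp), h⟩
    · exact ⟨Fintype.card F ^ 2 + Fintype.card F + 1, Or.inl (by simp), h⟩
    · exact ⟨Fintype.card F ^ 2 - Fintype.card F + 1, Or.inl (by simp), h⟩
    · exact ⟨p * (Fintype.card F - 1), Or.inl (by simp), h⟩
    · exact ⟨p * (Fintype.card F + 1), Or.inl (by simp), h⟩
    · exact absurd h.1 hp2
    · by_cases h35 : p = 3 ∨ p = 5
      · exact ⟨p ^ 2, Or.inr (by rw [if_pos h35]; rfl), h 2 (by nlinarith)⟩
      · have h7 : 7 ≤ p := by
          have h4 : p ≠ 4 := fun e => by rw [e] at hp; norm_num at hp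
          have h6 : p ≠ 6 := fun e => by rw [e] at hp; norm_num at hp
          omega
        refine ⟨p * (Fintype.card F + 1), Or.inl (by simp), (h 1 (by simpa using h7)).trans ?_⟩
        rw [pow_one]
        exact dvd_mul_right _ _
  · rintro t (ht | ht)
    · simp only [Set.mem_insert_iff, Set.mem_singleton_iff] at ht
      rcases ht with rfl | rfl | rfl | rfl | rfl
      exacts [h5, h4, h1, h2, h3]
    · split_ifs at ht with h35
      · rw [Set.mem_singleton_iff] at ht
        subst ht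
        have main : ∃ x : ↥(Cfsg.Lie.chevG2.group F), x ^ p ^ 2 = 1 ∧ ∀ b ∈ [p], x ^ b ≠ 1 := by
          refine Cfsg.Agent.G2Spec.exists_prime_field F p [p] ?_
          rcases h35 with rfl | rfl
          · obtain ⟨g, hg, h9, hb⟩ := Cfsg.Agent.G2Spec.exists_order_9_p3
            exact ⟨g, hg, h9, by simpa using hb⟩
          · obtain ⟨g, hg, h9, hb⟩ := Cfsg.Agent.G2Spec.exists_order_25_p5
            exact ⟨g, hg, h9, by simpa using hb⟩
        obtain ⟨x, hx, hb⟩ := main
        refine ⟨x, orderOf_eq_prime_pow (n := 1) ?_ hx⟩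
        rw [pow_one]
        exact hb p (by simp)
      · exact absurd ht (Set.notMem_empty t)

end Cfsg.Agent.S2519
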