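import Cfsg.Statements.S2520
import Cfsg.Agent.Chev.G2Spec.Maximal
-- import your own Cfsg.Agent.* helpers here

set_option autoImplicit false
open Cfsg

namespace Cfsg.Agent.S2520

/-- Let F be a finite field with q = 2^a ≥ 4 elements and G₂(F) the Chevalley group of type G₂ over it. Every element order of G₂(F) maximal under divisibility lies in the set {8, 12, 2(q + 1), 2(q − 1), q² − 1, q² + q + 1, q² − q + 1}, and every member of that set is an element order of G₂(F). -/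
theorem result {F : Type*} [Field F] [Fintype F] (a : ℕ) (ha : 2 ≤ a) (hF : Fintype.card F = 2 ^ a) :
    {n : ℕ | n ∈ Set.range (orderOf : ↥(Cfsg.Lie.chevG2.group F) → ℕ) ∧ ∀ m ∈ Set.range (orderOf : ↥(Cfsg.Lie.chevG2.group F) → ℕ), n ∣ m → m = n} ⊆ ({8, 12, 2 * (2 ^ a + 1), 2 * (2 ^ a - 1), 2 ^ (2 * a) - 1, 2 ^ (2 * a) + 2 ^ a + 1, 2 ^ (2 * a) - 2 ^ a + 1} : Set ℕ) ∧
    ({8, 12, 2 * (2 ^ a + 1), 2 * (2 ^ a - 1), 2 ^ (2 * a) - 1, 2 ^ (2 * a) + 2 ^ a + 1, 2 ^ (2 * a) - 2 ^ a + 1} : Set ℕ) ⊆ Set.range (orderOf : ↥(Cfsg.Lie.chevG2.group F) → ℕ) := by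
  haveI : Fact (Nat.Prime 2) := ⟨Nat.prime_two⟩
  haveI : CharP F 2 := by
    obtain ⟨p', hp'⟩ := CharP.exists F
    obtain ⟨e, hpr, he⟩ := FiniteField.card F p'
    have : p' = 2 := (Nat.prime_dvd_prime_iff_eq hpr Nat.prime_two).1
      (hpr.dvd_of_dvd_pow (hF ▸ he ▸ dvd_pow_self p' e.ne_zero))
    exact this ▸ hp'
  have hqq : 2 ^ (2 * a) = Fintype.card F ^ 2 := by rw [hF, ← pow_mul, mul_comm]
  rw [hqq, ← hF]
  obtain ⟨h1, h2, h3, h4, h5⟩ := Cfsg.Agent.G2Spec.exists_orders F 2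
  have h8 : 8 ∈ Set.range (orderOf : ↥(Cfsg.Lie.chevG2.group F) → ℕ) := by
    obtain ⟨x, hx, hb⟩ := Cfsg.Agent.G2Spec.exists_prime_field F 2 (n := 8) [4] (by
      obtain ⟨g, hg, h, hb⟩ := Cfsg.Agent.G2Spec.exists_order_8_p2
      exact ⟨g, hg, h, by simpa using hb⟩)
    exact ⟨x, orderOf_eq_prime_pow (p := 2) (n := 2) (hb 4 (by simp)) hx⟩
  have h12 : 12 ∈ Set.range (orderOf : ↥(Cfsg.Lie.chevG2.group F) → ℕ) := by
    obtain ⟨x, hx, hb⟩ := Cfsg.Agent.G2Spec.exists_prime_field F 2 (n := 12) [4, 6] (by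
      obtain ⟨g, hg, h, hb, hb'⟩ := Cfsg.Agent.G2Spec.exists_order_12_p2
      exact ⟨g, hg, h, by simpa using ⟨hb, hb'⟩⟩)
    refine ⟨x, ?_⟩
    have hd := orderOf_dvd_of_pow_eq_one hx
    have n4 : ¬ orderOf x ∣ 4 := fun h => hb 4 (by simp) (orderOf_dvd_iff_pow_eq_one.1 h)
    have n6 : ¬ orderOf x ∣ 6 := fun h => hb 6 (by simp) (orderOf_dvd_iff_pow_eq_one.1 h)
    have hle := Nat.le_of_dvd (by norm_num) hd
    interval_cases orderOf x <;> omega
  have hsub : ({8, 12, 2 * (Fintype.card F + 1), 2 * (Fintype.card F - 1), Fintype.card F ^ 2 - 1,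
      Fintype.card F ^ 2 + Fintype.card F + 1, Fintype.card F ^ 2 - Fintype.card F + 1} : Set ℕ) ⊆
      Set.range (orderOf : ↥(Cfsg.Lie.chevG2.group F) → ℕ) := by
    intro t ht
    simp only [Set.mem_insert_iff, Set.mem_singleton_iff] at ht
    rcases ht with rfl | rfl | rfl | rfl | rfl | rfl | rfl
    exacts [h8, h12, h5, h4, h1, h2, h3]
  refine ⟨?_, hsub⟩
  rintro _ ⟨⟨x, rfl⟩, hmax⟩
  have key : ∀ t ∈ ({8, 12, 2 * (Fintype.card F + 1), 2 * (Fintype.card F - 1),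
      Fintype.card F ^ 2 - 1, Fintype.card F ^ 2 + Fintype.card F + 1,
      Fintype.card F ^ 2 - Fintype.card F + 1} : Set ℕ), orderOf x ∣ t →
      orderOf x ∈ ({8, 12, 2 * (Fintype.card F + 1), 2 * (Fintype.card F - 1),
      Fintype.card F ^ 2 - 1, Fintype.card F ^ 2 + Fintype.card F + 1,
      Fintype.card F ^ 2 - Fintype.card F + 1} : Set ℕ) := fun t ht h => hmax t (hsub ht) h ▸ ht
  rcases Cfsg.Agent.G2Spec.order_cases 2 x with h | h | h | h | h | h | h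
  · exact key _ (by simp) h
  · exact key _ (by simp) h
  · exact key _ (by simp) h
  · exact key _ (by simp) h
  · exact key _ (by simp) h
  · exact key _ (by simp) h.2
  · exact key _ (by simp) (h 3 (by norm_num))

end Cfsg.Agent.S2520
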