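import Cfsg.Statements.S2521
import Mathlib

set_option autoImplicit false
open Cfsg

namespace Cfsg.Agent.S2521

/-- Let B be a finite group that is the semidirect product of a nilpotent normal subgroup U by an abelian subgroup T (U ∩ T = 1, UT = B), and let t ∈ T have centralizer exactly T. Then every element of the coset tU is conjugate to t in B: for each u ∈ U there is b ∈ B with b t b⁻¹ = t u. -/
theorem result {B : Type*} [Group B] [Finite B] (U T : Subgroup B) [U.Normal] (hU : Group.IsNilpotent ↥U) (hT : IsMulCommutative ↥T)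
    (hcompl : Subgroup.IsComplement' U T) (t : B) (ht : t ∈ T) (hreg : Subgroup.centralizer ({t} : Set B) = T) (u : B) (hu : u ∈ U) :
    ∃ b : B, b * t * b⁻¹ = t * u := by
  let f : U → U := fun w => ⟨t⁻¹ * (w : B) * t * (w : B)⁻¹,
    mul_mem (by simpa using (‹U.Normal›).conj_mem _ w.2 t⁻¹) (inv_mem w.2)⟩
  have hinj : Function.Injective f := by
    intro v w h
    have h' : t⁻¹ * (v : B) * t * (v : B)⁻¹ = t⁻¹ * w * t * (w : B)⁻¹ := congrArg Subtype.val h
    have hc : (w : B)⁻¹ * v * t = t * ((w : B)⁻¹ * v) := by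
      calc (w : B)⁻¹ * v * t = (w : B)⁻¹ * t * (t⁻¹ * (v : B) * t * (v : B)⁻¹) * v := by group
        _ = t * ((w : B)⁻¹ * v) := by rw [h']; group
    have hT' : (w : B)⁻¹ * v ∈ T := hreg ▸ Subgroup.mem_centralizer_singleton_iff.2 hc
    have h1 : (w : B)⁻¹ * v = 1 := Subgroup.mem_bot.1 (hcompl.disjoint.eq_bot ▸
      Subgroup.mem_inf.2 ⟨mul_mem (inv_mem w.2) v.2, hT'⟩)
    exact Subtype.ext (inv_mul_eq_one.1 h1).symm
  obtain ⟨w, hw⟩ := Finite.injective_iff_surjective.1 hinj ⟨u, hu⟩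
  have hw' : t⁻¹ * (w : B) * t * (w : B)⁻¹ = u := congrArg Subtype.val hw
  exact ⟨w, by rw [← hw']; group⟩

end Cfsg.Agent.S2521
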