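import Cfsg.Statements.S2522
import Cfsg.Agent.Sourour.Main
-- import your own Cfsg.Agent.* helpers here

set_option autoImplicit false
open Cfsg

namespace Cfsg.Agent.S2522

/-- Let K be a field with at least four elements (finite or infinite), n ≥ 3, and J ∈ GL(n, K) the regular unipotent matrix (ones on the diagonal and the superdiagonal, zeros elsewhere). Then every non-scalar g ∈ GL(n, K) with det g = 1 is a product of two GL(n, K)-conjugates of J. -/
theorem result {K : Type*} [Field K] (hK : 4 ≤ Cardinal.mk K) (n : ℕ) (hn : 3 ≤ n) (J g : GL (Fin n) K)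
    (hJ : ∀ i j : Fin n, (J : Matrix (Fin n) (Fin n) K) i j = if i = j then 1 else if j.val = i.val + 1 then 1 else 0)
    (hg : ¬ ∃ c : K, (g : Matrix (Fin n) (Fin n) K) = c • (1 : Matrix (Fin n) (Fin n) K))
    (hdet : (g : Matrix (Fin n) (Fin n) K).det = 1) :
    ∃ x y : GL (Fin n) K, g = (x * J * x⁻¹) * (y * J * y⁻¹) := by
  obtain ⟨hB, hB4⟩ := Sourour.big_of_cardinal hK
  have hns : ∀ a : K, Matrix.toLinAlgEquiv' (g : Matrix (Fin n) (Fin n) K) ≠ a • LinearMap.id := by
    intro a h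
    refine hg ⟨a, Matrix.toLinAlgEquiv'.injective ?_⟩
    rw [h, map_smul, map_one]
    rfl
  obtain ⟨N, M, hN, hM, hNM⟩ := Sourour.exists_regular_pair hB hB4 hn (by simp)
    (g := Matrix.toLinAlgEquiv' (g : Matrix (Fin n) (Fin n) K))
    (by rw [← hdet]; exact LinearMap.det_toLin' _) hns
  obtain ⟨x, hx⟩ := Sourour.exists_conj (by omega) J hJ hN
  obtain ⟨y, hy⟩ := Sourour.exists_conj (by omega) J hJ hM
  refine ⟨x, y, Units.ext ?_⟩
  rw [Units.val_mul, hx, hy, ← map_mul, ← hNM, LinearMap.toMatrixAlgEquiv'_toLinAlgEquiv']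

end Cfsg.Agent.S2522
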