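import Cfsg.Statements.S2524
import Cfsg.Agent.WeilFour.Classify

set_option autoImplicit false
open Cfsg

namespace Cfsg.Agent.S2524

open WeilFour Module in
/-- Degrees which are too small for higher rank. -/
theorem small_lt {q Q k : ℕ} (hq : 3 ≤ q) (hQ : q * q ≤ Q) (hk : 2 * k ≤ Q + 1) :
    2 * (q + 1) * k < (Q - 1) * (Q - q) := by
  obtain ⟨r, rfl⟩ : ∃ r, q = r + 3 := ⟨q - 3, by omega⟩
  obtain ⟨t, rfl⟩ : ∃ t, Q = (r + 3) * (r + 3) + t := ⟨Q - (r + 3) * (r + 3), by omega⟩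
  have h1 : (r + 3) * (r + 3) + t - 1 = r * r + 6 * r + 8 + t := by
    rw [show (r + 3) * (r + 3) = r * r + 6 * r + 9 by ring]; omega
  have h3 : (r + 3) * (r + 3) + t - (r + 3) = r * r + 5 * r + 6 + t := by
    rw [show (r + 3) * (r + 3) = r * r + 6 * r + 9 by ring]; omega
  have h4 : 2 * (r + 3 + 1) * k ≤ (r + 4) * ((r + 3) * (r + 3) + t + 1) := by
    rw [show 2 * (r + 3 + 1) * k = (r + 4) * (2 * k) by ring]
    exact Nat.mul_le_mul_left _ hk
  rw [h1, h3]
  refine lt_of_le_of_lt h4 ?_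
  nlinarith [Nat.zero_le (r * t), Nat.zero_le (r * r), Nat.zero_le (t * t)]

open WeilFour Module in
/-- The four characters. -/
theorem four {F : Type*} [Field F] [Fintype F] [DecidableEq F] {n : ℕ} (hn : 2 ≤ n)
    (hodd : Odd (Fintype.card F)) :
    ∃ χ : Bool → Bool → Cfsg.IrrCharacter (SpG n F),
      (∀ b, (χ b true : SpG n F → ℂ) 1 = ((Fintype.card F ^ n + 1 : ℕ) : ℂ) / 2) ∧
      (∀ b, (χ b false : SpG n F → ℂ) 1 = ((Fintype.card F ^ n - 1 : ℕ) : ℂ) / 2) ∧
      (∀ p, χ true p ≠ χ false p) ∧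
      ∀ θ : Cfsg.IrrCharacter (SpG n F), (θ : SpG n F → ℂ) 1 ≠ 1 →
        (∀ k : ℕ, (θ : SpG n F → ℂ) 1 = (k : ℂ) →
          2 * (Fintype.card F + 1) * k < (Fintype.card F ^ n - 1) * (Fintype.card F ^ n - Fintype.card F)) →
        ∃ b p, θ = χ b p := by
  classical
  have h2 : (2 : F) ≠ 0 := by
    refine Ring.two_ne_zero fun h => ?_
    have := FiniteField.even_card_iff_char_two.1 h
    obtain ⟨k, hk⟩ := hodd
    omega
  obtain ⟨ψ, hψ1⟩ : ∃ ψ : AddChar F ℂ, ψ 1 ≠ 1 := AddChar.exists_apply_ne_zero.2 one_ne_zero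
  have hψ : ψ ≠ 1 := fun h => hψ1 (by simp [h])
  obtain ⟨ν, hν⟩ := FiniteField.exists_nonsquare (F := F) fun h => h2 (by
    have := ringChar.Nat.cast_ringChar (R := F)
    rw [h] at this
    exact_mod_cast this)
  have : Nontrivial (Fin n) := Fin.nontrivial_iff_two_le.2 hn
  let av : Bool → F := fun b => if b then 1 else ν
  have hav : ∀ b, av b ≠ 0 := fun b => by
    cases b
    · exact nu_ne h2 hψ hν
    · exact one_ne_zero
  let sg : Bool → ℂ := fun p => if p then 1 else -1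
  have hsg : ∀ p, sg p = 1 ∨ sg p = -1 := fun p => by cases p <;> simp [sg]
  let R := fun b p => wRep (n := n) (mulShift_ne h2 hψ (hav b)) h2 (sg p)
  have hirr : ∀ b p, (R b p).IsIrreducible := fun b p => wRep_irreducible _ h2 hodd (hsg p)
  let χ : Bool → Bool → Cfsg.IrrCharacter (SpG n F) := fun b p =>
    ⟨(R b p).character, Char.isIrrCharacter_of_rep _ (hirr b p)⟩
  have hdim : ∀ (b p : Bool), (2 : ℂ) * (χ b p : SpG n F → ℂ) 1 = ((Fintype.card F ^ n : ℕ) : ℂ) + sg p := by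
    intro b p
    show (2 : ℂ) * (R b p).character 1 = _
    rw [Representation.char_one]
    exact Weil.finrank_sect h2 _ (by rcases hsg p with h | h <;> rw [h] <;> norm_num)
  have hpos : 1 ≤ Fintype.card F ^ n := Nat.one_le_pow _ _ Fintype.card_pos
  refine ⟨χ, fun b => ?_, fun b => ?_, fun p h => ?_, fun θ hθ1 hθ => ?_⟩
  · have := hdim b true
    simp [sg] at this ⊢
    linear_combination this / 2
  · have := hdim b false
    rw [Nat.cast_sub hpos]
    simp [sg] at this ⊢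
    linear_combination this / 2
  · exact wRep_char_ne (n := n) h2 hψ hν (s := sg p) (by rcases hsg p with h' | h' <;> rw [h'] <;> norm_num)
      (congrArg Subtype.val h)
  · obtain ⟨θ, k, ρ, hρ, rfl⟩ := θ
    simp only [Representation.char_one] at hθ1 hθ
    have hk : finrank ℂ (Fin k → ℂ) = k := finrank_fin_fun ℂ
    obtain ⟨a, ha, s, hay, hs, he⟩ := classify (ρ := ρ) h2 hψ hodd hν hρ (fun h => hθ1 (by rw [h, Nat.cast_one]))
      (hθ _ rfl)
    rcases hay with rfl | rfl <;> rcases hs with rfl | rfl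
    · exact ⟨true, true, Subtype.ext he⟩
    · exact ⟨true, false, Subtype.ext he⟩
    · exact ⟨false, true, Subtype.ext he⟩
    · exact ⟨false, false, Subtype.ext he⟩

/-- Let F be a finite field of odd order q and G = Sp(2n, F) with n ≥ 2. Then G has exactly four irreducible complex characters of degree (q^n + 1)/2 or (q^n − 1)/2 (two of each), and every other non-principal irreducible character has degree at least (q^n − 1)(q^n − q)/(2(q + 1)). -/
theorem result {F : Type*} [Field F] [Fintype F] (hodd : Odd (Fintype.card F)) (n : ℕ) (hn : 2 ≤ n) :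
    Nat.card {χ : Cfsg.IrrCharacter ↥(Matrix.symplecticGroup (Fin n) F) // (χ : ↥(Matrix.symplecticGroup (Fin n) F) → ℂ) 1 = (((Fintype.card F) ^ n + 1 : ℕ) : ℂ) / 2} = 2 ∧
    Nat.card {χ : Cfsg.IrrCharacter ↥(Matrix.symplecticGroup (Fin n) F) // (χ : ↥(Matrix.symplecticGroup (Fin n) F) → ℂ) 1 = (((Fintype.card F) ^ n - 1 : ℕ) : ℂ) / 2} = 2 ∧
    ∀ χ : Cfsg.IrrCharacter ↥(Matrix.symplecticGroup (Fin n) F),
      (χ : ↥(Matrix.symplecticGroup (Fin n) F) → ℂ) 1 ≠ 1 →
      (χ : ↥(Matrix.symplecticGroup (Fin n) F) → ℂ) 1 ≠ (((Fintype.card F) ^ n + 1 : ℕ) : ℂ) / 2 →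
      (χ : ↥(Matrix.symplecticGroup (Fin n) F) → ℂ) 1 ≠ (((Fintype.card F) ^ n - 1 : ℕ) : ℂ) / 2 →
      (((Fintype.card F) ^ n - 1 : ℕ) : ℝ) * (((Fintype.card F) ^ n - Fintype.card F : ℕ) : ℝ) / (2 * ((Fintype.card F : ℕ) + 1 : ℝ)) ≤ ‖(χ : ↥(Matrix.symplecticGroup (Fin n) F) → ℂ) 1‖ := by
  classical
  obtain ⟨χ, hp, hm, hne, hall⟩ := four (F := F) hn hodd
  have hq : 3 ≤ Fintype.card F := by
    have := Fintype.one_lt_card (α := F)
    obtain ⟨k, hk⟩ := hodd
    omega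
  set q := Fintype.card F with hqd
  set Q := q ^ n with hQd
  have hQ : q * q ≤ Q := by rw [← pow_two]; exact Nat.pow_le_pow_right (by omega) hn
  have hQ9 : 9 ≤ Q := le_trans (Nat.mul_le_mul hq hq) hQ
  have hpm : ((Q + 1 : ℕ) : ℂ) / 2 ≠ ((Q - 1 : ℕ) : ℂ) / 2 := fun h => by
    have h' : ((Q + 1 : ℕ) : ℂ) = ((Q - 1 : ℕ) : ℂ) := by linear_combination 2 * h
    have := Nat.cast_injective h'
    omega
  have hcount : ∀ (N : ℕ) (p : Bool), 2 * 1 < N → N ≤ Q + 1 → (∀ b, (χ b p : ↥(Matrix.symplecticGroup (Fin n) F) → ℂ) 1 = (N : ℂ) / 2) →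
      (∀ b, (χ b (!p) : ↥(Matrix.symplecticGroup (Fin n) F) → ℂ) 1 ≠ (N : ℂ) / 2) →
      Nat.card {θ : Cfsg.IrrCharacter ↥(Matrix.symplecticGroup (Fin n) F) //
        (θ : ↥(Matrix.symplecticGroup (Fin n) F) → ℂ) 1 = (N : ℂ) / 2} = 2 := by
    intro N p hN1 hN hdeg hother
    refine Nat.card_eq_two_iff.2 ⟨⟨χ true p, hdeg true⟩, ⟨χ false p, hdeg false⟩,
      fun h => hne p (congrArg Subtype.val h), Set.eq_univ_of_forall fun θ => ?_⟩
    obtain ⟨θ, hθ⟩ := θ
    obtain ⟨b, p', hb⟩ := hall θ (fun h => by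
        rw [h] at hθ
        have h' : ((2 * 1 : ℕ) : ℂ) = (N : ℂ) := by push_cast; linear_combination 2 * hθ
        exact absurd (Nat.cast_injective h') (by omega))
      (fun k hk => small_lt hq hQ (by
        rw [hk] at hθ
        have h' : ((2 * k : ℕ) : ℂ) = (N : ℂ) := by push_cast; linear_combination 2 * hθ
        have := Nat.cast_injective h'
        omega))
    subst hb
    by_cases hp' : p' = p
    · subst hp'
      cases b
      · exact Or.inr rfl
      · exact Or.inl rfl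
    · have : p' = !p := by cases p <;> cases p' <;> simp_all
      subst this
      exact absurd hθ (hother b)
  refine ⟨hcount (Q + 1) true (by omega) le_rfl hp (fun b h => hpm ((h.symm.trans (hm b)))),
    hcount (Q - 1) false (by omega) (by omega) hm (fun b h => hpm ((hp b).symm.trans h)), fun θ h1 h2 h3 => ?_⟩
  obtain ⟨k, ρ, -, hρ⟩ := θ.2
  have hk : (θ : ↥(Matrix.symplecticGroup (Fin n) F) → ℂ) 1 = (k : ℂ) := by
    rw [← hρ, Representation.char_one, Module.finrank_fintype_fun_eq_card, Fintype.card_fin]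
  rw [hk, Complex.norm_natCast]
  by_contra hlt
  push Not at hlt
  rw [lt_div_iff₀ (by positivity)] at hlt
  have hnat : 2 * (q + 1) * k < (Q - 1) * (Q - q) := by
    have : ((2 * (q + 1) * k : ℕ) : ℝ) < (((Q - 1) * (Q - q) : ℕ) : ℝ) := by
      push_cast
      nlinarith [hlt]
    exact_mod_cast this
  obtain ⟨b, p, rfl⟩ := hall θ h1 (fun k' hk' => by
    rw [hk] at hk'
    have := Nat.cast_injective hk'
    subst this
    exact hnat)
  cases p
  · exact h3 (hm b)
  · exact h2 (hp b)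

end Cfsg.Agent.S2524
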