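import Cfsg.Statements.S2525
import Cfsg.Agent.S1062
import Cfsg.Agent.Chev.F4Graph.Main
-- import your own Cfsg.Agent.* helpers here

set_option autoImplicit false
open Cfsg

namespace Cfsg.Agent.S2525

/-- Let F be a finite field with q = 2^n elements and G = F₄(F). For an odd prime r let e(r, q) be the multiplicative order of q modulo r. Two distinct primes r, s dividing the order of G are non-adjacent in the prime graph of G (no element of order rs) if and only if, up to swapping r and s, either r = 2 and e(s, q) ∈ {8, 12}, or r, s are both odd with k = e(r, q) < l = e(s, q) and one of: l ∈ {8, 12}; l = 6 and k ∈ {3, 4}; l = 4 and k = 3. -/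
theorem result {F : Type*} [Field F] [Fintype F] (n : ℕ) (hn : 1 ≤ n) (hF : Fintype.card F = 2 ^ n)
    (r s : ℕ) (hr : r.Prime) (hs : s.Prime) (hrs : r ≠ s) (hrG : r ∣ Nat.card ↥(Cfsg.Lie.chevF4.group F)) (hsG : s ∣ Nat.card ↥(Cfsg.Lie.chevF4.group F)) :
    (¬ ∃ x : ↥(Cfsg.Lie.chevF4.group F), orderOf x = r * s) ↔
      ((r = 2 ∧ orderOf ((Fintype.card F : ℕ) : ZMod s) ∈ ({8, 12} : Finset ℕ)) ∨ (s = 2 ∧ orderOf ((Fintype.card F : ℕ) : ZMod r) ∈ ({8, 12} : Finset ℕ)) ∨
       (r ≠ 2 ∧ s ≠ 2 ∧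
         ((orderOf ((Fintype.card F : ℕ) : ZMod r) < orderOf ((Fintype.card F : ℕ) : ZMod s) ∧ (orderOf ((Fintype.card F : ℕ) : ZMod s) ∈ ({8, 12} : Finset ℕ) ∨ (orderOf ((Fintype.card F : ℕ) : ZMod s) = 6 ∧ orderOf ((Fintype.card F : ℕ) : ZMod r) ∈ ({3, 4} : Finset ℕ)) ∨ (orderOf ((Fintype.card F : ℕ) : ZMod s) = 4 ∧ orderOf ((Fintype.card F : ℕ) : ZMod r) = 3))) ∨
          (orderOf ((Fintype.card F : ℕ) : ZMod s) < orderOf ((Fintype.card F : ℕ) : ZMod r) ∧ (orderOf ((Fintype.card F : ℕ) : ZMod r) ∈ ({8, 12} : Finset ℕ) ∨ (orderOf ((Fintype.card F : ℕ) : ZMod r) = 6 ∧ orderOf ((Fintype.card F : ℕ) : ZMod s) ∈ ({3, 4} : Finset ℕ)) ∨ (orderOf ((Fintype.card F : ℕ) : ZMod r) = 4 ∧ orderOf ((Fintype.card F : ℕ) : ZMod s) = 3)))))) := by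
  classical
  haveI : CharP F 2 := by
    obtain ⟨p, hp⟩ := CharP.exists F
    obtain ⟨e, hpr, he⟩ := FiniteField.card F p
    have : p = 2 := by
      have h2 : p ∣ 2 ^ n := hF ▸ he ▸ dvd_pow_self p e.ne_zero
      exact (Nat.prime_dvd_prime_iff_eq hpr Nat.prime_two).1 (hpr.dvd_of_dvd_pow h2)
    exact this ▸ hp
  haveI := Fact.mk hr
  haveI := Fact.mk hs
  have hord : ∀ (a : ℕ) [Fact a.Prime], a ≠ 2 → a ∣ Nat.card ↥(Cfsg.Lie.chevF4.group F) →
      orderOf ((Fintype.card F : ℕ) : ZMod a) ∈ Cfsg.Agent.F4Graph.ordList := by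
    intro a _ ha hdvd
    rw [Cfsg.Agent.S1062.result rfl] at hdvd
    have ha' : a.Prime := Fact.out
    have hpow : ∀ e, a ∣ Fintype.card F ^ e - 1 →
        orderOf ((Fintype.card F : ℕ) : ZMod a) ∣ e := by
      intro e he
      refine orderOf_dvd_of_pow_eq_one ?_
      rw [← ZMod.natCast_eq_zero_iff, Nat.cast_sub (Nat.one_le_pow _ _ Fintype.card_pos),
        sub_eq_zero] at he
      push_cast at he
      exact he
    have hsmall : ∀ d : ℕ, (d ∣ 2 ∨ d ∣ 6 ∨ d ∣ 8 ∨ d ∣ 12) → d ∈ Cfsg.Agent.F4Graph.ordList := by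
      intro d hd
      have h24 : d ∈ Nat.divisors 2 ∨ d ∈ Nat.divisors 6 ∨ d ∈ Nat.divisors 8 ∨
          d ∈ Nat.divisors 12 := by
        simpa [Nat.mem_divisors] using hd
      have key : ∀ d ∈ Nat.divisors 2 ∪ Nat.divisors 6 ∪ Nat.divisors 8 ∪ Nat.divisors 12,
          d ∈ Cfsg.Agent.F4Graph.ordList := by decide +kernel
      exact key d (by simp only [Finset.mem_union]; tauto)
    refine hsmall _ ?_
    rcases ha'.dvd_mul.1 hdvd with h | h
    · rcases ha'.dvd_mul.1 h with h | h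
      · rcases ha'.dvd_mul.1 h with h | h
        · rcases ha'.dvd_mul.1 h with h | h
          · exact absurd ((Nat.prime_dvd_prime_iff_eq ha' Nat.prime_two).1
              (ha'.dvd_of_dvd_pow (hF ▸ ha'.dvd_of_dvd_pow h))) ha
          · exact Or.inl (hpow 2 h)
        · exact Or.inr (Or.inl (hpow 6 h))
      · exact Or.inr (Or.inr (Or.inl (hpow 8 h)))
    · exact Or.inr (Or.inr (Or.inr (hpow 12 h)))
  have hzero : orderOf ((Fintype.card F : ℕ) : ZMod 2) = 0 := by
    rw [show ((Fintype.card F : ℕ) : ZMod 2) = 0 from (ZMod.natCast_eq_zero_iff _ _).2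
      (hF ▸ dvd_pow_self 2 (by omega)), orderOf_zero]
  -- one of the primes is two
  have htwo : ∀ (a : ℕ) [Fact a.Prime], a ≠ 2 → a ∣ Nat.card ↥(Cfsg.Lie.chevF4.group F) →
      ((¬ ∃ x : ↥(Cfsg.Lie.chevF4.group F), orderOf x = 2 * a) ↔
        orderOf ((Fintype.card F : ℕ) : ZMod a) ∈ ({8, 12} : Finset ℕ)) := by
    intro a _ ha hdvd
    have h := hord a ha hdvd
    constructor
    · intro hno
      by_contra hc
      refine hno (Cfsg.Agent.F4Graph.exists_of_two rfl ha ?_)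
      simp [Cfsg.Agent.F4Graph.ordList] at h hc ⊢
      tauto
    · intro hc
      exact Cfsg.Agent.F4Graph.not_exists_of_two rfl ha (by simpa using hc)
  by_cases h2r : r = 2
  · subst h2r
    rw [htwo s (Ne.symm hrs) hsG]
    simp [hzero, Ne.symm hrs]
  by_cases h2s : s = 2
  · subst h2s
    rw [mul_comm, htwo r h2r hrG]
    simp [hzero, h2r]
  simp only [h2r, h2s, false_and, false_or, true_and, ne_eq, not_false_iff]
  have her := hord r h2r hrG
  have hes := hord s h2s hsG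
  rcases Bool.eq_false_or_eq_true (Cfsg.Agent.F4Graph.badB
      (orderOf ((Fintype.card F : ℕ) : ZMod r)) (orderOf ((Fintype.card F : ℕ) : ZMod s))) with h | h
  · refine iff_of_true (Cfsg.Agent.F4Graph.not_exists_of_bad rfl h2r h2s hrs h) ?_
    simp [Cfsg.Agent.F4Graph.badB] at h
    simp only [Finset.mem_insert, Finset.mem_singleton]
    tauto
  · refine iff_of_false (not_not.2 (Cfsg.Agent.F4Graph.exists_of_good rfl h2r h2s hrs her hes h)) ?_
    simp [Cfsg.Agent.F4Graph.badB] at h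
    simp only [Finset.mem_insert, Finset.mem_singleton]
    grind

end Cfsg.Agent.S2525
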