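import Cfsg.Statements.S2531
import Mathlib

set_option autoImplicit false
open Cfsg

namespace Cfsg.Agent.S2531

open Module

variable {F : Type*} [Field F] [Finite F] {n : ℕ}

/-- `1 + q + ⋯ + q ^ (d - 1)`. -/
def geo (q d : ℕ) : ℕ := ∑ i ∈ Finset.range d, q ^ i

theorem geo_succ (q d : ℕ) : geo q (d + 1) = geo q d + q ^ d := Finset.sum_range_succ _ _

theorem geo_succ' (q d : ℕ) : geo q (d + 1) = 1 + q * geo q d := by
  rw [geo, geo, Finset.sum_range_succ', Finset.mul_sum, pow_zero, add_comm]
  simp [pow_succ']

theorem rep_mem_iff (W : Submodule F (Fin n → F)) (v : Fin n → F) (hv : v ≠ 0) :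
    (Projectivization.mk F v hv).rep ∈ W ↔ v ∈ W := by
  obtain ⟨a, ha⟩ := (Projectivization.mk_eq_mk_iff' F _ _ (Projectivization.rep_nonzero _) hv).1
    (Projectivization.mk_rep (Projectivization.mk F v hv))
  rw [← ha]
  have ha0 : a ≠ 0 := fun h => Projectivization.rep_nonzero (Projectivization.mk F v hv) (by rw [← ha, h, zero_smul])
  exact Submodule.smul_mem_iff W ha0

theorem card_points (W : Submodule F (Fin n → F)) :
    Nat.card {x : Projectivization F (Fin n → F) // x.rep ∈ W} = geo (Nat.card F) (finrank F W) := by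
  rw [geo, ← Projectivization.card_of_finrank F W rfl]
  refine (Nat.card_eq_of_bijective (fun u : Projectivization F W =>
    (⟨Projectivization.map W.subtype W.subtype_injective u, ?_⟩ :
      {x : Projectivization F (Fin n → F) // x.rep ∈ W})) ⟨?_, ?_⟩).symm
  · induction u using Projectivization.ind with
    | h v hv =>
      rw [Projectivization.map_mk, rep_mem_iff]
      exact v.2
  · intro u v h
    exact Projectivization.map_injective _ W.subtype_injective (congrArg Subtype.val h)
  · rintro ⟨x, hx⟩
    exact ⟨Projectivization.mk F ⟨x.rep, hx⟩ (fun h => x.rep_nonzero (congrArg Subtype.val h)), Subtype.ext x.mk_rep⟩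

/-- Let `F` be a finite field and `n ≥ 3`. No set of permutations of the points of the projective space of `Fⁿ`, each induced by an invertible semilinear transformation of `Fⁿ` (so a subset of the full projective semilinear group), is sharply 2-transitive on the points: it is impossible that for all pairs of distinct points `(a, b)` and `(c, d)` exactly one member of the set sends `a` to `c` and `b` to `d`. -/
theorem result {F : Type*} [Field F] [Finite F]
    (n : ℕ) (hn : 3 ≤ n) (S : Set (Equiv.Perm (Projectivization F (Fin n → F))))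
    (hS : ∀ s ∈ S, ∃ (σ : F ≃+* F) (f : (Fin n → F) →ₛₗ[(σ : F →+* F)] (Fin n → F)) (hf : Function.Injective f),
      ∀ x, s x = Projectivization.map f hf x) :
    ¬ (∀ a b c d : Projectivization F (Fin n → F), a ≠ b → c ≠ d →
        ∃! s, s ∈ S ∧ s a = c ∧ s b = d) := by
  classical
  intro hsharp
  obtain ⟨d, rfl⟩ : ∃ d, n = d + 2 + 1 := ⟨n - 3, by omega⟩
  set q := Nat.card F with hq
  haveI : Finite (Projectivization F (Fin (d + 2 + 1) → F)) := inferInstance
  have := Fintype.ofFinite (Projectivization F (Fin (d + 2 + 1) → F))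
  have hq1 : 1 < q := Finite.one_lt_card
  let W0 : Submodule F (Fin (d + 2 + 1) → F) := LinearMap.ker (LinearMap.proj (R := F) (φ := fun _ => F) 0)
  have hW0 : finrank F W0 = d + 2 := by
    have h := LinearMap.finrank_range_add_finrank_ker (LinearMap.proj (R := F) (φ := fun _ : Fin (d + 2 + 1) => F) 0)
    rw [LinearMap.range_eq_top.2 (fun y => ⟨fun _ => y, rfl⟩), finrank_top, finrank_self, finrank_fin_fun] at h
    change 1 + finrank F W0 = _ at h
    omega
  -- the point off the hyperplane
  let v0 : Fin (d + 2 + 1) → F := Pi.single 0 1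
  have hv0 : v0 ≠ 0 := by simp [v0]
  let a : Projectivization F (Fin (d + 2 + 1) → F) := Projectivization.mk F v0 hv0
  have ha : ¬ a.rep ∈ W0 := by
    rw [rep_mem_iff]
    simp [W0, v0]
  -- the maps fixing `a`
  let S0 : Finset (Equiv.Perm (Projectivization F (Fin (d + 2 + 1) → F))) := Finset.univ.filter fun s => s ∈ S ∧ s a = a
  let H : Finset (Projectivization F (Fin (d + 2 + 1) → F)) := Finset.univ.filter fun x => x.rep ∈ W0
  have hHc : H.card = geo q (d + 2) := by
    refine (Eq.trans ?_ (congrArg (geo q) hW0) : H.card = geo q (d + 2))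
    rw [hq, ← card_points, Nat.card_eq_fintype_card, Fintype.card_subtype]
  have hHa : ∀ x ∈ H, x ≠ a := fun x hx h => ha (h ▸ (Finset.mem_filter.1 hx).2)
  have hS0 : S0.card + 1 = geo q (d + 2 + 1) := by
    have hN : Fintype.card (Projectivization F (Fin (d + 2 + 1) → F)) = geo q (d + 2 + 1) := by
      rw [← Nat.card_eq_fintype_card, geo, hq]
      exact Projectivization.card_of_finrank F (Fin (d + 2 + 1) → F) (by rw [finrank_fin_fun])
    obtain ⟨b, hb⟩ : ∃ b, b ∈ H := Finset.card_pos.1 (by rw [hHc, geo_succ']; omega)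
    have hba := hHa b hb
    have himg : S0.image (fun s => s b) = Finset.univ.erase a := by
      ext y
      simp only [Finset.mem_image, Finset.mem_erase, Finset.mem_univ, and_true, S0, Finset.mem_filter, true_and]
      constructor
      · rintro ⟨s, ⟨-, hsa⟩, rfl⟩ h
        exact hba (s.injective (h.trans hsa.symm))
      · intro hy
        obtain ⟨s, ⟨hs, hsa, hsb⟩, -⟩ := hsharp a b a y hba.symm (Ne.symm hy)
        exact ⟨s, ⟨hs, hsa⟩, hsb⟩
    have hcard := congrArg Finset.card himg
    rw [Finset.card_image_of_injOn ?_, Finset.card_erase_of_mem (Finset.mem_univ a), Finset.card_univ, hN] at hcard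
    · rw [hcard, geo_succ']; omega
    · intro s hs t ht h
      simp only [S0, Finset.coe_filter, Finset.mem_univ, true_and, Set.mem_setOf_eq] at hs ht
      exact (hsharp a b a (s b) hba.symm (fun h' => hba (s.injective (h'.symm.trans hs.2.symm)))).unique
        ⟨hs.1, hs.2, rfl⟩ ⟨ht.1, ht.2, h.symm⟩
  -- double count
  have hsum : ∑ s ∈ S0, (H.filter fun x => s x ∈ H).card = H.card * H.card := by
    simp only [Finset.card_filter]
    rw [Finset.sum_comm]
    have hone : ∀ x ∈ H, ∑ s ∈ S0, (if s x ∈ H then 1 else 0) = H.card := by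
      intro x hx
      rw [← Finset.card_filter]
      refine Finset.card_bij (fun s _ => s x) (fun s hs => (Finset.mem_filter.1 hs).2) ?_ ?_
      · intro s hs t ht h
        simp only [S0, Finset.mem_filter, Finset.mem_univ, true_and] at hs ht
        exact (hsharp a x a (s x) (hHa x hx).symm (hHa _ hs.2).symm).unique
          ⟨hs.1.1, hs.1.2, rfl⟩ ⟨ht.1.1, ht.1.2, h.symm⟩
      · intro y hy
        obtain ⟨s, ⟨hs, hsa, hsx⟩, -⟩ := hsharp a x a y (hHa x hx).symm (hHa y hy).symm
        exact ⟨s, by simp only [S0, Finset.mem_filter, Finset.mem_univ, true_and]; exact ⟨⟨hs, hsa⟩, hsx ▸ hy⟩, hsx⟩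
    rw [Finset.sum_congr rfl hone, Finset.sum_const, smul_eq_mul]
  have hcase : ∀ s ∈ S0, (H.filter fun x => s x ∈ H).card = geo q (d + 1) ∨
      (H.filter fun x => s x ∈ H).card = geo q (d + 1) + q ^ (d + 1) := by
    intro s hs
    simp only [S0, Finset.mem_filter, Finset.mem_univ, true_and] at hs
    obtain ⟨σ, f, hf, hsf⟩ := hS s hs.1
    let ℓ : W0 →ₗ[F] F :=
      { toFun := fun v => σ.symm (f v.1 0)
        map_add' := fun u v => by simp [map_add]
        map_smul' := fun c v => by simp [map_smulₛₗ] }
    have hcardeq : (H.filter fun x => s x ∈ H).card = geo q (finrank F (LinearMap.ker ℓ)) := by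
      rw [(Submodule.equivMapOfInjective W0.subtype W0.subtype_injective (LinearMap.ker ℓ)).finrank_eq, hq,
        ← card_points, Nat.card_eq_fintype_card, Fintype.card_subtype, Finset.filter_filter]
      congr 1
      ext x
      simp only [Finset.mem_filter, Finset.mem_univ, true_and, H]
      have hsx : (s x).rep ∈ W0 ↔ f x.rep ∈ W0 := by
        rw [hsf x]
        conv_lhs => rw [← x.mk_rep, Projectivization.map_mk]
        exact rep_mem_iff W0 _ _
      rw [hsx]
      constructor
      · rintro ⟨h1, h2⟩
        refine ⟨⟨x.rep, h1⟩, ?_, rfl⟩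
        show σ.symm (f x.rep 0) = 0
        rw [show f x.rep 0 = 0 from h2, map_zero]
      · rintro ⟨v, hv, hvx⟩
        rw [← hvx]
        refine ⟨v.2, ?_⟩
        show f v.1 0 = 0
        exact (map_eq_zero_iff _ σ.symm.injective).1 hv
    have h := LinearMap.finrank_range_add_finrank_ker ℓ
    have hr : finrank F (LinearMap.range ℓ) ≤ 1 := (Submodule.finrank_le _).trans (by rw [finrank_self])
    rw [hW0] at h
    rw [hcardeq]
    rcases Nat.lt_or_ge (finrank F (LinearMap.ker ℓ)) (d + 2) with h1 | h1
    · left; congr 1; omega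
    · right; rw [← geo_succ]; congr 1; omega
  -- the congruence
  set T := S0.filter fun s => (H.filter fun x => s x ∈ H).card = geo q (d + 1) + q ^ (d + 1)
  have hval : ∑ s ∈ S0, (H.filter fun x => s x ∈ H).card = S0.card * geo q (d + 1) + T.card * q ^ (d + 1) := by
    rw [Finset.sum_congr rfl (fun s hs => show (H.filter fun x => s x ∈ H).card = geo q (d + 1) +
      (if (H.filter fun x => s x ∈ H).card = geo q (d + 1) + q ^ (d + 1) then q ^ (d + 1) else 0) by
      split_ifs with h
      · exact h
      · rw [add_zero]; exact (hcase s hs).resolve_right h), Finset.sum_add_distrib, Finset.sum_const,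
      smul_eq_mul, ← Finset.sum_filter, Finset.sum_const, smul_eq_mul]
  rw [hsum, hHc] at hval
  rw [geo_succ' q (d + 2)] at hS0
  have hS0' : S0.card = q * geo q (d + 2) := by omega
  rw [hS0'] at hval
  have hk := geo_succ' q (d + 1)
  have hmain : T.card * q ^ (d + 1) = geo q (d + 2) := by
    have : geo q (d + 2) * geo q (d + 2) = geo q (d + 2) + q * geo q (d + 2) * geo q (d + 1) := by
      nth_rewrite 2 [hk]
      ring
    omega
  rw [hk, pow_succ'] at hmain
  have hd : q ∣ 1 := by
    have h1 : q ∣ 1 + q * geo q (d + 1) := ⟨T.card * q ^ d, by rw [← hmain]; ring⟩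
    exact (Nat.dvd_add_left (dvd_mul_right q _)).1 h1
  have := Nat.le_of_dvd one_pos hd
  omega

end Cfsg.Agent.S2531
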