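import Cfsg.Statements.S2532

set_option autoImplicit false
open Cfsg

namespace Cfsg.Agent.S2532

/-- There is a function `f` of two natural-number arguments such that, whenever `m ≥ f(n, r)`, every subgroup of order `n` of the alternating group of degree `m` centralizes some subgroup of that alternating group isomorphic to the alternating group of degree `r`. -/
theorem result :
    ∃ f : ℕ → ℕ → ℕ, ∀ (m r : ℕ) (H : Subgroup ↥(alternatingGroup (Fin m))), f (Nat.card H) r ≤ m →
      ∃ K : Subgroup ↥(alternatingGroup (Fin m)), Nonempty (↥K ≃* ↥(alternatingGroup (Fin r))) ∧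
        K ≤ Subgroup.centralizer (H : Set ↥(alternatingGroup (Fin m))) := by
  classical
  refine ⟨fun n r => n * (r * 2 ^ n) + 1, fun m r H hm => ?_⟩
  haveI := Fintype.ofFinite H
  haveI := Fintype.ofFinite (Subgroup H)
  haveI := Fintype.ofFinite (Quotient (MulAction.orbitRel H (Fin m)))
  set Ω := Quotient (MulAction.orbitRel H (Fin m))
  -- many orbits
  have horb : m ≤ Fintype.card Ω * Nat.card H := by
    have hsurj : Function.Surjective (fun p : Ω × H => p.2 • p.1.out) := by
      intro x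
      obtain ⟨g, hg⟩ := (Quotient.mk_out x : (MulAction.orbitRel H (Fin m)) _ x)
      exact ⟨(Quotient.mk _ x, g⁻¹), by show g⁻¹ • (Quotient.mk _ x).out = x; rw [← hg, inv_smul_smul]⟩
    have h1 := Fintype.card_le_of_surjective _ hsurj
    rwa [Fintype.card_fin, Fintype.card_prod, ← Nat.card_eq_fintype_card (α := H)] at h1
  have hsub : Fintype.card (Subgroup H) ≤ 2 ^ Nat.card H := by
    rw [Nat.card_eq_fintype_card, ← Fintype.card_set]
    exact Fintype.card_le_of_injective (fun K => (K : Set H)) SetLike.coe_injective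
  obtain ⟨S, hS⟩ : ∃ S : Subgroup H,
      r ≤ (Finset.univ.filter (fun o : Ω => MulAction.stabilizer H o.out = S)).card := by
    by_contra hall
    push Not at hall
    have h1 := Finset.card_eq_sum_card_fiberwise (f := fun o : Ω => MulAction.stabilizer H o.out)
      (s := Finset.univ) (t := Finset.univ) (fun o _ => Finset.mem_univ _)
    have h2 : Fintype.card Ω ≤ Fintype.card (Subgroup H) * r := by
      rw [← Finset.card_univ, h1]
      refine (Finset.sum_le_card_nsmul _ _ r fun K _ => (hall K).le).trans ?_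
      rw [Finset.card_univ, smul_eq_mul]
    have h3 : Fintype.card Ω * Nat.card H ≤ Nat.card H * (r * 2 ^ Nat.card H) := by
      rw [mul_comm, mul_comm r]
      exact Nat.mul_le_mul_left _ (h2.trans (Nat.mul_le_mul_right _ hsub))
    simp only at hm
    omega
  obtain ⟨emb⟩ : Nonempty (Fin r ↪ {o : Ω // MulAction.stabilizer H o.out = S}) :=
    Function.Embedding.nonempty_of_card_le (by rwa [Fintype.card_fin, Fintype.card_subtype])
  let pt : Fin r → Fin m := fun i => (emb i).1.out
  have hpt : ∀ i, MulAction.stabilizer H (pt i) = S := fun i => (emb i).2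
  have hmem : ∀ i (a b : H), a • pt i = b • pt i ↔ b⁻¹ * a ∈ S := fun i a b => by
    rw [← hpt i, MulAction.mem_stabilizer_iff, mul_smul, inv_smul_eq_iff]
  haveI := Fintype.ofFinite (H ⧸ S)
  let e : Fin r × (H ⧸ S) → Fin m := fun p => p.2.out • pt p.1
  have he : Function.Injective e := by
    rintro ⟨i, a⟩ ⟨j, b⟩ h
    have hij : i = j := by
      refine emb.injective (Subtype.ext ?_)
      rw [← Quotient.out_eq (emb i).1, ← Quotient.out_eq (emb j).1]
      refine Quotient.sound ⟨a.out⁻¹ * b.out, ?_⟩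
      show (a.out⁻¹ * b.out) • pt j = pt i
      rw [mul_smul, ← show a.out • pt i = b.out • pt j from h, inv_smul_smul]
    subst hij
    refine Prod.ext rfl ?_
    rw [← QuotientGroup.out_eq' a, ← QuotientGroup.out_eq' b, eq_comm, QuotientGroup.eq]
    exact (hmem i a.out b.out).mp h
  have he_smul : ∀ (g : H) (p : Fin r × (H ⧸ S)), g • e p = e (p.1, g • p.2) := by
    intro g p
    show g • p.2.out • pt p.1 = (g • p.2).out • pt p.1
    rw [← mul_smul, hmem, ← QuotientGroup.eq]
    rw [QuotientGroup.out_eq']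
    show g • p.2 = ((g * p.2.out : H) : H ⧸ S)
    conv_lhs => rw [← QuotientGroup.out_eq' p.2]
    rfl
  let ι : (Fin r × (H ⧸ S)) ↪ Fin m := ⟨e, he⟩
  let F : Equiv.Perm (Fin r) →* Equiv.Perm (Fin m) :=
    { toFun := fun τ => Equiv.Perm.viaEmbedding (Equiv.prodCongr τ (Equiv.refl _)) ι
      map_one' := by
        rw [show Equiv.prodCongr (1 : Equiv.Perm (Fin r)) (Equiv.refl (H ⧸ S)) = 1 from rfl]
        exact map_one (Equiv.Perm.viaEmbeddingHom ι)
      map_mul' := fun a b => by
        rw [show Equiv.prodCongr (a * b) (Equiv.refl (H ⧸ S)) =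
          Equiv.prodCongr a (Equiv.refl (H ⧸ S)) * Equiv.prodCongr b (Equiv.refl (H ⧸ S)) from rfl]
        exact map_mul (Equiv.Perm.viaEmbeddingHom ι) _ _ }
  have hFin : ∀ τ p, F τ (e p) = e (τ p.1, p.2) := fun τ p =>
    Equiv.Perm.viaEmbedding_apply (Equiv.prodCongr τ (Equiv.refl (H ⧸ S))) ι p
  have hFout : ∀ τ x, x ∉ Set.range e → F τ x = x := fun τ x hx =>
    Equiv.Perm.viaEmbedding_apply_of_notMem (Equiv.prodCongr τ (Equiv.refl (H ⧸ S))) ι x hx
  have hsign : ∀ τ : Equiv.Perm (Fin r), Equiv.Perm.sign τ = 1 → F τ ∈ alternatingGroup (Fin m) := by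
    intro τ hτ
    rw [Equiv.Perm.mem_alternatingGroup]
    show Equiv.Perm.sign (Equiv.Perm.viaEmbedding (Equiv.prodCongr τ (Equiv.refl _)) ι) = 1
    rw [Equiv.Perm.viaEmbedding, Equiv.Perm.sign_extendDomain]
    rw [show Equiv.prodCongr τ (Equiv.refl (H ⧸ S)) = Equiv.prodCongrLeft (fun _ => τ) from rfl,
      Equiv.Perm.sign_prodCongrLeft, Finset.prod_eq_one fun _ _ => hτ]
  let Fa : alternatingGroup (Fin r) →* alternatingGroup (Fin m) :=
    (F.comp (alternatingGroup (Fin r)).subtype).codRestrict _ fun τ =>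
      hsign τ (Equiv.Perm.mem_alternatingGroup.mp τ.2)
  have hFinj : Function.Injective Fa := by
    intro a b h
    refine Subtype.ext (Equiv.ext fun i => ?_)
    have h1 : F a (e (i, ((1 : H) : H ⧸ S))) = F b (e (i, ((1 : H) : H ⧸ S))) := by
      have h2 : (F a : Equiv.Perm (Fin m)) = F b := congrArg Subtype.val h
      rw [h2]
    rw [hFin, hFin] at h1
    exact congrArg Prod.fst (he h1)
  refine ⟨Fa.range, ⟨(MonoidHom.ofInjective hFinj).symm⟩, ?_⟩
  rintro _ ⟨τ, rfl⟩
  rw [Subgroup.mem_centralizer_iff]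
  intro g hg
  refine Subtype.ext (Equiv.ext fun x => ?_)
  show (⟨g, hg⟩ : H) • F τ x = F τ ((⟨g, hg⟩ : H) • x)
  by_cases hx : x ∈ Set.range e
  · obtain ⟨p, rfl⟩ := hx
    rw [hFin, he_smul, he_smul, hFin]
  · rw [hFout τ x hx, hFout]
    rintro ⟨p, hp⟩
    refine hx ⟨(p.1, (⟨g, hg⟩ : H)⁻¹ • p.2), ?_⟩
    rw [← he_smul, hp, inv_smul_smul]

end Cfsg.Agent.S2532
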