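import Cfsg.Statements.S2533
import Mathlib

set_option autoImplicit false
open Cfsg

namespace Cfsg.Agent.S2533

open Matrix

abbrev V (p : ℕ) := Multiplicative (Fin 3 → ZMod p)

def act (p : ℕ) : ℤˣ →* MulAut (V p) where
  toFun u := AddEquiv.toMultiplicative (DistribMulAction.toAddEquiv (Fin 3 → ZMod p) u)
  map_one' := MulEquiv.ext fun v => by
    show Multiplicative.ofAdd ((1 : ℤˣ) • Multiplicative.toAdd v) = v
    rw [one_smul]; rfl
  map_mul' a b := MulEquiv.ext fun v => by
    show Multiplicative.ofAdd ((a * b) • Multiplicative.toAdd v) =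
      Multiplicative.ofAdd (a • b • Multiplicative.toAdd v)
    rw [mul_smul]

variable {p : ℕ} {a : ℕ}

abbrev Ix (a : ℕ) := Fin (2 * a + 1)

/-- The off-diagonal block. -/
def nMat (a : ℕ) (v : Fin 3 → ZMod p) : Matrix (Ix a) (Ix a) (ZMod p) := fun i k =>
  if i.1 ≤ a ∧ a < k.1 then
    (if k.1 = i.1 + a + 1 then v 0 else 0) + (if k.1 = i.1 + a then v 1 else 0) +
      (if i.1 = 0 ∧ k.1 = 2 * a then v 2 else 0)
  else 0

theorem nMat_add (v w : Fin 3 → ZMod p) : nMat a (v + w) = nMat a v + nMat a w := by
  ext i k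
  simp only [nMat, Matrix.add_apply, Pi.add_apply]
  split_ifs <;> ring

theorem nMat_zero : nMat (p := p) a 0 = 0 := by
  ext i k
  simp [nMat]

theorem nMat_mul (v w : Fin 3 → ZMod p) : nMat a v * nMat a w = 0 := by
  ext i k
  rw [Matrix.mul_apply, Matrix.zero_apply]
  refine Finset.sum_eq_zero fun l _ => ?_
  by_cases h : l.1 ≤ a
  · rw [show nMat a v i l = 0 from if_neg (by omega), zero_mul]
  · rw [show nMat a w l k = 0 from if_neg (by omega), mul_zero]

/-- The diagonal part. -/
def dVec (a : ℕ) (u : ℤˣ) : Ix a → ZMod p := fun i => if i.1 ≤ a then ((u : ℤ) : ZMod p) else 1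

theorem cast_mul_self (u : ℤˣ) : ((u : ℤ) : ZMod p) * ((u : ℤ) : ZMod p) = 1 := by
  rw [← Int.cast_mul, ← Units.val_mul, Int.units_mul_self, Units.val_one, Int.cast_one]

theorem det_one_add (v : Fin 3 → ZMod p) : (1 + nMat a v).det = 1 := by
  rw [Matrix.det_of_upperTriangular]
  · refine Finset.prod_eq_one fun i _ => ?_
    rw [Matrix.add_apply, Matrix.one_apply_eq, show nMat a v i i = 0 from if_neg (by omega), add_zero]
  · intro i k hki
    rw [Matrix.add_apply, Matrix.one_apply_ne (show i ≠ k from fun e => lt_irrefl k (e ▸ hki)), zero_add]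
    exact if_neg (by have : k.1 < i.1 := hki; omega)

theorem det_diag (ha : Odd a) (u : ℤˣ) : (diagonal (dVec (p := p) a u)).det = 1 := by
  rw [Matrix.det_diagonal]
  simp only [dVec]
  rw [Finset.prod_ite, Finset.prod_const, Finset.prod_const_one, mul_one]
  have hc : (Finset.univ.filter fun i : Ix a => i.1 ≤ a).card = a + 1 := by
    rw [show (Finset.univ.filter fun i : Ix a => i.1 ≤ a) = Finset.Iic (⟨a, by omega⟩ : Ix a) by
      ext i; simp [Fin.le_def], Fin.card_Iic]
  obtain ⟨b, rfl⟩ := ha
  rw [hc, show 2 * b + 1 + 1 = 2 * (b + 1) by ring, pow_mul, pow_two, cast_mul_self, one_pow]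

def f1 (a : ℕ) : V p →* SpecialLinearGroup (Ix a) (ZMod p) where
  toFun v := ⟨1 + nMat a (Multiplicative.toAdd v), det_one_add _⟩
  map_one' := Subtype.ext (by
    show 1 + nMat a (0 : Fin 3 → ZMod p) = 1
    rw [nMat_zero, add_zero])
  map_mul' v w := Subtype.ext (by
    show 1 + nMat a (Multiplicative.toAdd v + Multiplicative.toAdd w) =
      (1 + nMat a (Multiplicative.toAdd v)) * (1 + nMat a (Multiplicative.toAdd w))
    rw [add_mul, one_mul, mul_add, mul_one, nMat_mul, add_zero, nMat_add]
    abel)

def f2 (ha : Odd a) : ℤˣ →* SpecialLinearGroup (Ix a) (ZMod p) where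
  toFun u := ⟨diagonal (dVec a u), det_diag ha u⟩
  map_one' := Subtype.ext (by
    show diagonal (dVec a 1) = 1
    rw [← Matrix.diagonal_one]
    congr 1
    funext i
    simp [dVec])
  map_mul' u w := Subtype.ext (by
    show diagonal (dVec a (u * w)) = diagonal (dVec a u) * diagonal (dVec a w)
    rw [Matrix.diagonal_mul_diagonal]
    congr 1
    funext i
    simp only [dVec]
    split_ifs <;> simp)

theorem compat (ha : Odd a) (u : ℤˣ) :
    (f1 a).comp (act p u).toMonoidHom = (MulAut.conj (f2 ha u)).toMonoidHom.comp (f1 a) := by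
  refine MonoidHom.ext fun v => ?_
  show f1 a (Multiplicative.ofAdd (u • Multiplicative.toAdd v)) = f2 ha u * f1 a v * (f2 ha u)⁻¹
  rw [eq_mul_inv_iff_mul_eq]
  refine Subtype.ext ?_
  show (1 + nMat a (u • Multiplicative.toAdd v)) * diagonal (dVec a u) =
    diagonal (dVec a u) * (1 + nMat a (Multiplicative.toAdd v))
  rw [add_mul, one_mul, mul_add, mul_one]
  congr 1
  ext i k
  rw [Matrix.mul_diagonal, Matrix.diagonal_mul]
  by_cases h : i.1 ≤ a ∧ a < k.1
  · simp only [nMat, dVec, if_pos h, if_pos h.1, if_neg (not_le.2 h.2), mul_one, Units.smul_def,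
      Pi.smul_apply, zsmul_eq_mul]
    split_ifs <;> ring
  · simp only [nMat, if_neg h, zero_mul, mul_zero]

/-- Let us call `C` the commutant statement. -/
theorem scalar_of_commute (hp : p.Prime) (G : Matrix (Ix a) (Ix a) (ZMod p))
    (hblock : ∀ i k : Ix a, ¬ (i.1 ≤ a ↔ k.1 ≤ a) → G i k = 0)
    (hG : ∀ v, G * nMat a v = nMat a v * G) : G = diagonal fun _ => G 0 0 := by
  haveI := Fact.mk hp
  let g : ℕ → ℕ → ZMod p := fun i j => if h : i < 2 * a + 1 ∧ j < 2 * a + 1 then G ⟨i, h.1⟩ ⟨j, h.2⟩ else 0
  have hg : ∀ i k : Ix a, G i k = g i.1 k.1 := fun i k => by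
    simp only [g]
    rw [dif_pos ⟨i.2, k.2⟩]
  have e0 : ∀ i j, i ≤ a → j < a →
      g i j = if i < a then g (i + a + 1) (j + a + 1) else 0 := by
    intro i j hi hj
    have h := congrFun (congrFun (hG ![1, 0, 0]) ⟨i, by omega⟩) ⟨j + a + 1, by omega⟩
    have hv : ∀ s t : Ix a, nMat (p := p) a ![1, 0, 0] s t =
        if s.1 ≤ a ∧ t.1 = s.1 + a + 1 then 1 else 0 := fun s t => by
      by_cases hs : s.1 ≤ a ∧ t.1 = s.1 + a + 1
      · rw [if_pos hs, nMat, if_pos ⟨hs.1, by omega⟩]
        simp [hs.2]
      · rw [if_neg hs, nMat]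
        split_ifs <;> simp_all
    rw [Matrix.mul_apply, Matrix.mul_apply, Finset.sum_eq_single (⟨j, by omega⟩ : Ix a)] at h
    · rw [hv, if_pos ⟨by show j ≤ a; omega, rfl⟩, mul_one] at h
      simp only [hg] at h
      rw [h]
      split_ifs with hia
      · rw [Finset.sum_eq_single (⟨i + a + 1, by omega⟩ : Ix a)]
        · rw [hv, if_pos ⟨hi, rfl⟩, one_mul]
        · intro l _ hl
          rw [hv, if_neg (fun hc => hl (Fin.ext hc.2)), zero_mul]
        · exact fun hc => absurd (Finset.mem_univ _) hc
      · refine Finset.sum_eq_zero fun l _ => ?_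
        rw [hv, if_neg (fun hc => by have h9 := hc.2; have := l.2; dsimp only at h9 ⊢; omega), zero_mul]
    · intro l _ hl
      rw [hv, if_neg (fun hc => hl (Fin.ext (by have h9 := hc.2; dsimp only at h9 ⊢; omega))), mul_zero]
    · exact fun hc => absurd (Finset.mem_univ _) hc
  have e1 : ∀ i j, i ≤ a → j < a →
      g i (j + 1) = if 1 ≤ i then g (i + a) (j + a + 1) else 0 := by
    intro i j hi hj
    have h := congrFun (congrFun (hG ![0, 1, 0]) ⟨i, by omega⟩) ⟨j + a + 1, by omega⟩
    have hv : ∀ s t : Ix a, nMat (p := p) a ![0, 1, 0] s t =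
        if s.1 ≤ a ∧ a < t.1 ∧ t.1 = s.1 + a then 1 else 0 := fun s t => by
      by_cases hs : s.1 ≤ a ∧ a < t.1 ∧ t.1 = s.1 + a
      · rw [if_pos hs, nMat, if_pos ⟨hs.1, hs.2.1⟩]
        simp [hs.2.2]
      · rw [if_neg hs, nMat]
        split_ifs <;> simp_all
    rw [Matrix.mul_apply, Matrix.mul_apply, Finset.sum_eq_single (⟨j + 1, by omega⟩ : Ix a)] at h
    · rw [hv, if_pos ⟨by show j + 1 ≤ a; omega, by show a < j + a + 1; omega, by show j + a + 1 = j + 1 + a; omega⟩,
        mul_one] at h
      simp only [hg] at h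
      rw [h]
      split_ifs with hia
      · rw [Finset.sum_eq_single (⟨i + a, by omega⟩ : Ix a)]
        · rw [hv, if_pos ⟨hi, by show a < i + a; omega, rfl⟩, one_mul]
        · intro l _ hl
          rw [hv, if_neg (fun hc => hl (Fin.ext hc.2.2)), zero_mul]
        · exact fun hc => absurd (Finset.mem_univ _) hc
      · refine Finset.sum_eq_zero fun l _ => ?_
        rw [hv, if_neg (fun hc => by have h1 := hc.2.1; have h2 := hc.2.2; simp only at h1 h2; omega), zero_mul]
    · intro l _ hl
      rw [hv, if_neg (fun hc => hl (Fin.ext (by have := hc.2.2; simp only at this ⊢; omega))), mul_zero]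
    · exact fun hc => absurd (Finset.mem_univ _) hc
  have shift : ∀ i j, i < a → j < a → g (i + 1) (j + 1) = g i j := fun i j hi hj => by
    rw [e1 (i + 1) j (by omega) hj, if_pos (by omega), e0 i j hi.le hj, if_pos hi,
      show i + 1 + a = i + a + 1 by omega]
  have iter : ∀ d i j, i + d ≤ a → j + d ≤ a → g (i + d) (j + d) = g i j := by
    intro d
    induction d with
    | zero => intros; rfl
    | succ d ih =>
      intro i j hi hj
      rw [← add_assoc, ← add_assoc, shift _ _ (by omega) (by omega)]
      exact ih i j (by omega) (by omega)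
  have hB : ∀ i j, i ≤ a → j ≤ a → g i j = if i = j then g 0 0 else 0 := by
    intro i j hi hj
    rcases lt_trichotomy i j with h | h | h
    · rw [if_neg h.ne]
      have h1 := iter i 0 (j - i) (by omega) (by omega)
      rw [zero_add, Nat.sub_add_cancel h.le] at h1
      rw [h1, show j - i = (j - i - 1) + 1 by omega, e1 0 _ (by omega) (by omega), if_neg (by omega)]
    · subst h
      have h1 := iter i 0 0 (by omega) (by omega)
      rw [zero_add] at h1
      rw [h1, if_pos rfl]
    · rw [if_neg h.ne']
      have h1 := iter (a - i) i j (by omega) (by omega)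
      rw [← h1, show i + (a - i) = a by omega, e0 a _ le_rfl (by omega), if_neg (lt_irrefl a)]
  ext i k
  rw [Matrix.diagonal_apply]
  have h00 : G 0 0 = g 0 0 := hg 0 0
  by_cases hik : i.1 ≤ a ↔ k.1 ≤ a
  · rw [h00, hg]
    by_cases hi : i.1 ≤ a
    · rw [hB _ _ hi (hik.1 hi)]
      simp only [Fin.ext_iff]
    · have hk : ¬ k.1 ≤ a := fun h => hi (hik.2 h)
      have hil := i.2
      have hkl := k.2
      have h1 := e0 (i.1 - a - 1) (k.1 - a - 1) (by omega) (by omega)
      rw [if_pos (by omega), show i.1 - a - 1 + a + 1 = i.1 by omega,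
        show k.1 - a - 1 + a + 1 = k.1 by omega, hB _ _ (by omega) (by omega)] at h1
      rw [← h1]
      by_cases h : i = k
      · subst h; simp
      · have : i.1 ≠ k.1 := fun e => h (Fin.ext e)
        rw [if_neg (by omega), if_neg h]
  · rw [hblock i k hik, if_neg]
    rintro rfl
    exact hik Iff.rfl

/-- For every odd prime `p` there is a finite group `H` of order `2p³` which, for infinitely many `n`, embeds in the projective special linear group `PSL(n, p)` as a subgroup with trivial centralizer. -/
theorem result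
    (p : ℕ) [Fact p.Prime] (hp : p ≠ 2) :
    ∃ (H : Type) (_ : Group H) (_ : Finite H), Nat.card H = 2 * p ^ 3 ∧
      ∀ N : ℕ, ∃ n, N ≤ n ∧ ∃ φ : H →* Matrix.ProjectiveSpecialLinearGroup (Fin n) (ZMod p),
        Function.Injective φ ∧ Subgroup.centralizer (φ.range : Set (Matrix.ProjectiveSpecialLinearGroup (Fin n) (ZMod p))) = ⊥ := by
  have hpp : p.Prime := Fact.out
  have h2 : (2 : ZMod p) ≠ 0 := by
    intro h
    have h' : ((2 : ℕ) : ZMod p) = 0 := by exact_mod_cast h
    exact hp ((Nat.prime_dvd_prime_iff_eq hpp Nat.prime_two).1 ((ZMod.natCast_eq_zero_iff _ _).1 h'))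
  refine ⟨V p ⋊[act p] ℤˣ, inferInstance, Finite.of_equiv _ SemidirectProduct.equivProd.symm, ?_, fun N => ?_⟩
  · rw [SemidirectProduct.card, show Nat.card (V p) = p ^ 3 by
      rw [Nat.card_congr Multiplicative.toAdd]; simp, Nat.card_eq_fintype_card, Fintype.card_units_int,
      mul_comm]
  set a := 2 * N + 3 with hadef
  have ha : Odd a := ⟨N + 1, by omega⟩
  refine ⟨2 * a + 1, by omega, (QuotientGroup.mk' _).comp (SemidirectProduct.lift (f1 a) (f2 ha) (compat ha)), ?_, ?_⟩
  · rw [injective_iff_map_eq_one]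
    intro x hx
    rw [MonoidHom.comp_apply, QuotientGroup.mk'_apply, QuotientGroup.eq_one_iff,
      Matrix.SpecialLinearGroup.mem_center_iff] at hx
    obtain ⟨r, -, hr⟩ := hx
    obtain ⟨v, u⟩ := x
    have hM : ∀ i k : Ix a, (if i = k then r else 0) =
        ((1 : Matrix (Ix a) (Ix a) (ZMod p)) + nMat a (Multiplicative.toAdd v)) i k * dVec a u k := fun i k => by
      have h := congrFun (congrFun hr i) k
      rw [Matrix.scalar_apply, Matrix.diagonal_apply] at h
      rw [h, ← Matrix.mul_diagonal]
      rfl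
    have hz : ∀ i : Ix a, nMat a (Multiplicative.toAdd v) i i = 0 := fun i => if_neg (by omega)
    have hr1 : r = 1 := by
      have h := hM ⟨2 * a, by omega⟩ ⟨2 * a, by omega⟩
      rw [if_pos rfl, Matrix.add_apply, Matrix.one_apply_eq, hz, add_zero, dVec, if_neg (by show ¬ 2 * a ≤ a; omega),
        one_mul] at h
      exact h
    subst hr1
    have hu : ((u : ℤ) : ZMod p) = 1 := by
      have h := hM ⟨0, by omega⟩ ⟨0, by omega⟩
      rw [if_pos rfl, Matrix.add_apply, Matrix.one_apply_eq, hz, add_zero, dVec, if_pos (Nat.zero_le a),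
        one_mul] at h
      exact h.symm
    have hu1 : u = 1 := by
      rcases Int.units_eq_one_or u with rfl | rfl
      · rfl
      · exfalso
        refine h2 ?_
        rw [Units.val_neg, Units.val_one, Int.cast_neg, Int.cast_one] at hu
        linear_combination -hu
    subst hu1
    have hN : ∀ i k : Ix a, i ≠ k → nMat a (Multiplicative.toAdd v) i k = 0 := fun i k hik => by
      have h := hM i k
      rw [if_neg hik, Matrix.add_apply, Matrix.one_apply_ne hik, zero_add] at h
      simpa [dVec] using h.symm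
    refine SemidirectProduct.ext ?_ rfl
    refine Multiplicative.toAdd.injective (funext fun j => ?_)
    fin_cases j
    · have h := hN ⟨0, by omega⟩ ⟨a + 1, by omega⟩ (fun e => by have := congrArg Fin.val e; simp only at this; omega)
      rw [nMat, if_pos (by constructor <;> simp only [Fin.val_mk] <;> omega)] at h
      simpa [show a + 1 ≠ a by omega, show a + 1 ≠ 2 * a by omega] using h
    · have h := hN ⟨1, by omega⟩ ⟨a + 1, by omega⟩ (fun e => by have := congrArg Fin.val e; simp only at this; omega)
      rw [nMat, if_pos (by constructor <;> simp only [Fin.val_mk] <;> omega)] at h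
      simpa [show a + 1 ≠ 1 + a + 1 by omega, add_comm 1 a] using h
    · have h := hN ⟨0, by omega⟩ ⟨2 * a, by omega⟩ (fun e => by have := congrArg Fin.val e; simp only at this; omega)
      rw [nMat, if_pos (by constructor <;> simp only [Fin.val_mk] <;> omega)] at h
      simpa [show 2 * a ≠ a + 1 by omega, show 2 * a ≠ a by omega] using h
  · rw [Subgroup.eq_bot_iff_forall]
    intro x hx
    obtain ⟨g, rfl⟩ := QuotientGroup.mk_surjective x
    rw [QuotientGroup.eq_one_iff, Matrix.SpecialLinearGroup.mem_center_iff]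
    have hc : ∀ h : V p ⋊[act p] ℤˣ, ∃ r : ZMod p,
        (g : Matrix (Ix a) (Ix a) (ZMod p)) * (SemidirectProduct.lift (f1 a) (f2 ha) (compat ha) h).1 =
          r • ((SemidirectProduct.lift (f1 a) (f2 ha) (compat ha) h).1 * g) := fun h => by
      set X := SemidirectProduct.lift (f1 a) (f2 ha) (compat ha) h
      have h1 := Subgroup.mem_centralizer_iff.1 hx _ ⟨h, rfl⟩
      rw [MonoidHom.comp_apply, QuotientGroup.mk'_apply, ← QuotientGroup.mk_mul, ← QuotientGroup.mk_mul,
        QuotientGroup.eq] at h1
      obtain ⟨r, -, hr⟩ := Matrix.SpecialLinearGroup.mem_center_iff.1 h1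
      refine ⟨r, ?_⟩
      have h2 : (g * X).1 = (X * g).1 * ((X * g)⁻¹ * (g * X)).1 := by
        rw [← Matrix.SpecialLinearGroup.coe_mul, mul_inv_cancel_left]
      rw [← Matrix.SpecialLinearGroup.coe_mul, h2, ← hr, Matrix.scalar_apply, ← Matrix.smul_one_eq_diagonal,
        Matrix.mul_smul, mul_one, Matrix.SpecialLinearGroup.coe_mul]
    set G : Matrix (Ix a) (Ix a) (ZMod p) := (g : Matrix (Ix a) (Ix a) (ZMod p)) with hG
    set Gi : Matrix (Ix a) (Ix a) (ZMod p) := ((g⁻¹ : SpecialLinearGroup (Ix a) (ZMod p)) : Matrix (Ix a) (Ix a) (ZMod p))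
    have hinv : Gi * G = 1 := by
      rw [← Matrix.SpecialLinearGroup.coe_mul, inv_mul_cancel, Matrix.SpecialLinearGroup.coe_one]
    have hinv' : G * Gi = 1 := by
      rw [← Matrix.SpecialLinearGroup.coe_mul, mul_inv_cancel, Matrix.SpecialLinearGroup.coe_one]
    -- the diagonal element
    obtain ⟨r, hr⟩ := hc (SemidirectProduct.inr (-1))
    rw [SemidirectProduct.lift_inr] at hr
    set D : Matrix (Ix a) (Ix a) (ZMod p) := diagonal (dVec a (-1)) with hD
    have hr' : G * D = r • (D * G) := hr
    have htr : D.trace = -1 := by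
      rw [hD, Matrix.trace_diagonal]
      simp only [dVec, Units.val_neg, Units.val_one, Int.cast_neg, Int.cast_one]
      have hc' : (Finset.univ.filter fun i : Ix a => i.1 ≤ a).card = a + 1 := by
        rw [show (Finset.univ.filter fun i : Ix a => i.1 ≤ a) = Finset.Iic (⟨a, by omega⟩ : Ix a) by
          ext i; simp [Fin.le_def], Fin.card_Iic]
      have hc'' : (Finset.univ.filter fun i : Ix a => ¬ i.1 ≤ a).card = a := by
        have := Finset.card_filter_add_card_filter_not (s := (Finset.univ : Finset (Ix a))) (fun i : Ix a => i.1 ≤ a)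
        rw [hc', Finset.card_univ, Fintype.card_fin] at this
        omega
      rw [Finset.sum_ite, Finset.sum_const, Finset.sum_const, hc', hc'']
      simp
    have hr1 : r = 1 := by
      have h := congrArg (fun M => (Gi * M).trace) hr'
      simp only [Matrix.mul_smul, Matrix.trace_smul, smul_eq_mul] at h
      rw [← mul_assoc, hinv, one_mul, Matrix.trace_mul_comm Gi, mul_assoc, hinv', mul_one, htr] at h
      linear_combination h
    subst hr1
    rw [one_smul] at hr'
    have hblock : ∀ i k : Ix a, ¬ (i.1 ≤ a ↔ k.1 ≤ a) → G i k = 0 := by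
      intro i k hik
      have h := congrFun (congrFun hr' i) k
      rw [hD, Matrix.mul_diagonal, Matrix.diagonal_mul] at h
      simp only [dVec, Units.val_neg, Units.val_one, Int.cast_neg, Int.cast_one] at h
      refine (mul_eq_zero.1 (?_ : (2 : ZMod p) * G i k = 0)).resolve_left h2
      by_cases hi : i.1 ≤ a
      · rw [if_pos hi, if_neg (fun hk => hik (iff_of_true hi hk))] at h
        linear_combination h
      · rw [if_neg hi, if_pos (by by_contra hk; exact hik (iff_of_false hi hk))] at h
        linear_combination -h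
    -- the unipotent elements
    have hcomm : ∀ v : Fin 3 → ZMod p, G * nMat a v = nMat a v * G := by
      intro v
      obtain ⟨r, hr⟩ := hc (SemidirectProduct.inl (Multiplicative.ofAdd v))
      rw [SemidirectProduct.lift_inl] at hr
      have hr' : G * (1 + nMat a v) = r • ((1 + nMat a v) * G) := hr
      have hpow : ∀ j : ℕ, G * (1 + nMat a v) ^ j = r ^ j • ((1 + nMat a v) ^ j * G) := by
        intro j
        induction j with
        | zero => simp
        | succ j ih =>
          rw [pow_succ, ← mul_assoc, ih, Matrix.smul_mul, mul_assoc, hr', Matrix.mul_smul, smul_smul,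
            ← mul_assoc, pow_succ]
      have hXp : (1 + nMat a v) ^ p = 1 := by
        have h := congrArg (fun t : SpecialLinearGroup (Ix a) (ZMod p) => (t : Matrix (Ix a) (Ix a) (ZMod p)))
          (map_pow (f1 a) (Multiplicative.ofAdd v) p)
        rw [show (Multiplicative.ofAdd v) ^ p = 1 by
          rw [← ofAdd_nsmul]
          exact congrArg Multiplicative.ofAdd (funext fun j => by simp), map_one,
          Matrix.SpecialLinearGroup.coe_pow, Matrix.SpecialLinearGroup.coe_one] at h
        exact h.symm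
      have h1 := hpow p
      rw [hXp, mul_one, one_mul, ZMod.pow_card] at h1
      have hr1 : r = 1 := by
        have h3 := congrArg (fun M => (Gi * M) 0 0) h1
        simp only [Matrix.mul_smul, hinv, Matrix.smul_apply, Matrix.one_apply_eq, smul_eq_mul, mul_one] at h3
        exact h3.symm
      rw [hr1, one_smul, mul_add, add_mul, mul_one, one_mul] at hr'
      exact add_left_cancel hr'
    have hscal := scalar_of_commute hpp G hblock hcomm
    refine ⟨G 0 0, ?_, by rw [Matrix.scalar_apply]; exact hscal.symm⟩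
    have hdet : G.det = 1 := g.2
    rw [hscal, Matrix.det_diagonal, Finset.prod_const, Finset.card_univ] at hdet
    exact hdet

end Cfsg.Agent.S2533
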