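import Cfsg.Statements.S2536
import Cfsg.Agent.HallSymShape.Smooth
import Cfsg.Agent.HallSymShape.Exist
-- import your own Cfsg.Agent.* helpers here

set_option autoImplicit false
open Cfsg

namespace Cfsg.Agent.S2536

/-- Let `π` be a set of primes and `n` a natural number such that at least two primes of `π` divide `n!` but not every prime dividing `n!` lies in `π`. Then the symmetric group of degree `n` has a Hall `π`-subgroup if and only if either `n` is prime and the primes of `π` dividing `n!` are exactly the primes smaller than `n` (a point stabilizer is then such a subgroup), or `n ∈ {7, 8}` and the primes of `π` dividing `n!` are exactly 2 and 3. -/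
theorem result (n : ℕ) (π : Set ℕ)
    (h2 : ∃ r s : ℕ, r.Prime ∧ s.Prime ∧ r ≠ s ∧ r ∈ π ∧ s ∈ π ∧ r ≤ n ∧ s ≤ n)
    (hns : ∃ r : ℕ, r.Prime ∧ r ≤ n ∧ r ∉ π) :
    Cfsg.IsEPiGroup π (Equiv.Perm (Fin n)) ↔
      ((n.Prime ∧ ∀ r : ℕ, r.Prime → r ≤ n → (r ∈ π ↔ r < n)) ∨
       ((n = 7 ∨ n = 8) ∧ ∀ r : ℕ, r.Prime → r ≤ n → (r ∈ π ↔ (r = 2 ∨ r = 3)))) := by
  constructor
  · rintro ⟨H, hH⟩
    obtain ⟨a, b, ha, hb, hne, haπ, hbπ, han, hbn⟩ := h2
    obtain ⟨c, hc, hcn, hcπ⟩ := hns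
    obtain ⟨r, R, Δ, hr, hr5, hrn, hrπ, hset, -, hn, hR, hcases, -⟩ :=
      HallSymShape.structure_fin hH ⟨a, b, ha, hb, hne, haπ, hbπ, han, hbn⟩ ⟨c, hc, hcn, hcπ⟩
    have key : r = 5 → ∀ t : ℕ, t.Prime → t ≤ n → (t ∈ π ↔ (t = 2 ∨ t = 3)) := fun e t ht htn => by
      rw [hset t ht htn, e]
      refine ⟨fun h => ?_, fun h => by omega⟩
      have := ht.two_le
      have h4 : t ≠ 4 := by rintro rfl; norm_num at ht
      omega
    rcases hcases with ⟨hlt, hfree⟩ | ⟨rfl, rfl⟩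
    · rcases HallSymShape.smooth_cases hr hr5 hR hlt hfree with rfl | ⟨rfl, rfl⟩
      · obtain rfl : n = r := by omega
        exact Or.inl ⟨hr, hset⟩
      · exact Or.inr ⟨Or.inl (by omega), key rfl⟩
    · exact Or.inr ⟨Or.inr (by omega), key rfl⟩
  · rintro (⟨hp, hπ⟩ | ⟨rfl | rfl, hπ⟩)
    · exact HallSymShape.exists_prime_degree hp hπ
    · exact HallSymShape.exists_seven hπ
    · exact HallSymShape.exists_eight hπ

end Cfsg.Agent.S2536
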