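import Cfsg.Statements.S2540
import Cfsg.Agent.Classical.LinearBasic
-- import your own Cfsg.Agent.* helpers here

set_option autoImplicit false
open Cfsg

namespace Cfsg.Agent.S2540

/-- Let F be a finite field and n ≥ 1, excluding the case n = 2 with #F ≤ 3. A subgroup of GL_n(F) that is normalized by every element of SL_n(F) either consists of scalar matrices or contains SL_n(F). -/
theorem result {F : Type*} [Field F] [Fintype F] (n : ℕ) (hn : 1 ≤ n) (hex : ¬ (n = 2 ∧ Fintype.card F ≤ 3)) (G : Subgroup (Matrix.GeneralLinearGroup (Fin n) F)) (hG : ∀ s : Matrix.SpecialLinearGroup (Fin n) F, ∀ g ∈ G, (Matrix.SpecialLinearGroup.toGL s) * g * (Matrix.SpecialLinearGroup.toGL s)⁻¹ ∈ G) : (∀ g ∈ G, ∃ c : F, (g : Matrix (Fin n) (Fin n) F) = c • (1 : Matrix (Fin n) (Fin n) F)) ∨ (Matrix.SpecialLinearGroup.toGL : Matrix.SpecialLinearGroup (Fin n) F →* _).range ≤ G := by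
  classical
  open Matrix in
  rcases Nat.lt_or_ge n 2 with h1 | h2
  · left
    intro g _
    obtain rfl : n = 1 := by omega
    refine ⟨g.1 0 0, ?_⟩
    ext i j
    fin_cases i; fin_cases j; simp
  have hh : 3 ≤ Fintype.card (Fin n) ∨ ∃ x : F, x ≠ 0 ∧ x ^ 2 ≠ 1 := by
    by_cases hn3 : 3 ≤ n
    · exact Or.inl (by simpa using hn3)
    right
    have hq : 4 ≤ Fintype.card F := by
      by_contra hc
      exact hex ⟨by omega, by omega⟩
    by_contra hc
    push Not at hc
    have hsub : (Finset.univ : Finset F) ⊆ {0, 1, -1} := fun x _ => by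
      by_cases hx : x = 0
      · simp [hx]
      rcases mul_self_eq_one_iff.1 ((pow_two x).symm.trans (hc x hx)) with e | e <;> simp [e]
    have h3 := (Finset.card_le_card hsub).trans Finset.card_le_three
    rw [Finset.card_univ] at h3
    omega
  haveI : IsSimpleGroup (Matrix.ProjectiveSpecialLinearGroup (Fin n) F) :=
    Cfsg.Agent.Classical.isSimpleGroup_psl (hh.imp id fun x => ⟨by simpa using h2, x⟩)
  let ι : Matrix.SpecialLinearGroup (Fin n) F →* GL (Fin n) F := Matrix.SpecialLinearGroup.toGL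
  have hperf : commutator (Matrix.SpecialLinearGroup (Fin n) F) = ⊤ :=
    Cfsg.Agent.Classical.commutator_sl_eq_top hh
  let N : Subgroup (Matrix.SpecialLinearGroup (Fin n) F) := G.comap ι
  haveI hN : N.Normal := ⟨fun x hx s => by
    show ι (s * x * s⁻¹) ∈ G
    rw [map_mul, map_mul, map_inv]
    exact hG s (ι x) hx⟩
  rcases (Subgroup.Normal.map hN (QuotientGroup.mk' (Subgroup.center (Matrix.SpecialLinearGroup (Fin n) F)))
    (QuotientGroup.mk'_surjective _)).eq_bot_or_eq_top with hb | ht
  · left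
    have hNZ : N ≤ Subgroup.center (Matrix.SpecialLinearGroup (Fin n) F) := by
      rw [Subgroup.map_eq_bot_iff, QuotientGroup.ker_mk'] at hb; exact hb
    intro g hg
    have hk : ∀ s, ∃ z : Subgroup.center (Matrix.SpecialLinearGroup (Fin n) F), ι z.1 = ι s * g * (ι s)⁻¹ * g⁻¹ := by
      intro s
      have hd : ι s * g * (ι s)⁻¹ * g⁻¹ ∈ ι.range := by
        have hs : (Matrix.GeneralLinearGroup.det : GL (Fin n) F →* Fˣ) (ι s) = 1 := by
          refine MonoidHom.mem_ker.1 ?_
          rw [← Cfsg.Agent.Classical.range_toGL_eq_ker_det]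
          exact ⟨s, rfl⟩
        show _ ∈ (Matrix.SpecialLinearGroup.toGL : Matrix.SpecialLinearGroup (Fin n) F →* _).range
        rw [Cfsg.Agent.Classical.range_toGL_eq_ker_det, MonoidHom.mem_ker, map_mul, map_mul, map_mul, map_inv, map_inv, hs]
        simp
      obtain ⟨x, hx⟩ := hd
      have hxN : x ∈ N := by
        show ι x ∈ G
        rw [hx]
        exact G.mul_mem (hG s g hg) (G.inv_mem hg)
      exact ⟨⟨x, hNZ hxN⟩, hx⟩
    choose z hz using hk
    have hinj : Function.Injective ι := Matrix.SpecialLinearGroup.toGL_injective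
    have hmul : ∀ s t, z (s * t) = z s * z t := fun s t => by
      apply Subtype.ext
      apply hinj
      have hc : ι s * ι (z t).1 = ι (z t).1 * ι s := by
        rw [← map_mul, ← map_mul, Subgroup.mem_center_iff.1 (z t).2 s]
      have e : ι (z (s * t)).1 = ι (z t).1 * ι (z s).1 := by
        calc ι (z (s * t)).1 = ι (s * t) * g * (ι (s * t))⁻¹ * g⁻¹ := hz _
          _ = ι s * (ι t * g * (ι t)⁻¹ * g⁻¹) * g * (ι s)⁻¹ * g⁻¹ := by rw [map_mul]; group
          _ = ι s * ι (z t).1 * g * (ι s)⁻¹ * g⁻¹ := by rw [hz t]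
          _ = ι (z t).1 * (ι s * g * (ι s)⁻¹ * g⁻¹) := by rw [hc]; group
          _ = _ := by rw [hz s]
      rw [e, ← map_mul]
      congr 1
      exact (Subgroup.mem_center_iff.1 (z t).2 (z s).1).symm
    let f : Matrix.SpecialLinearGroup (Fin n) F →* Subgroup.center (Matrix.SpecialLinearGroup (Fin n) F) :=
      MonoidHom.mk' z hmul
    have hf : ∀ s, z s = 1 := fun s => by
      have hle : commutator (Matrix.SpecialLinearGroup (Fin n) F) ≤ f.ker := by
        rw [commutator_def, Subgroup.commutator_le]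
        intro a _ b _
        rw [MonoidHom.mem_ker, map_commutatorElement, commutatorElement_eq_one_iff_mul_comm]
        exact Subtype.ext (Subgroup.mem_center_iff.1 (f b).2 _)
      exact hle (hperf ▸ Subgroup.mem_top s)
    have hcomm : ∀ s, ι s * g = g * ι s := fun s => by
      have := hz s
      rw [hf s, Subgroup.coe_one, map_one, eq_comm, mul_inv_eq_one, mul_inv_eq_iff_eq_mul] at this
      exact this
    obtain ⟨r, hr⟩ := Matrix.mem_range_scalar_of_commute_transvectionStruct (M := (g : Matrix (Fin n) (Fin n) F))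
      fun t => by
        have := congrArg Units.val (hcomm ⟨t.toMatrix, by simp⟩)
        exact this
    exact ⟨r, by rw [← hr]; ext i j; by_cases h : i = j <;> simp [h]⟩
  · right
    rw [MonoidHom.range_eq_map, ← hperf, Subgroup.map_le_iff_le_comap]
    show commutator _ ≤ N
    rw [commutator_def, Subgroup.commutator_le]
    intro a _ b _
    have hdec : ∀ x : Matrix.SpecialLinearGroup (Fin n) F, ∃ w ∈ Subgroup.center (Matrix.SpecialLinearGroup (Fin n) F),
        QuotientGroup.mk' N x = QuotientGroup.mk' N w := fun x => by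
      obtain ⟨y, hy, hyx⟩ := (ht.ge (Subgroup.mem_top (QuotientGroup.mk' _ x)) : _ ∈ N.map _)
      refine ⟨y⁻¹ * x, QuotientGroup.eq.1 hyx, ?_⟩
      rw [map_mul, map_inv, show QuotientGroup.mk' N y = 1 from (QuotientGroup.eq_one_iff y).2 hy, inv_one, one_mul]
    obtain ⟨u, hu, hau⟩ := hdec a
    obtain ⟨v, hv, hbv⟩ := hdec b
    rw [← QuotientGroup.eq_one_iff, ← QuotientGroup.mk'_apply, map_commutatorElement, hau, hbv, ← map_commutatorElement,
      commutatorElement_eq_one_iff_mul_comm.2 (Subgroup.mem_center_iff.1 hv u), map_one]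

end Cfsg.Agent.S2540
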