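import Cfsg.Statements.S2541
-- import your own Cfsg.Agent.* helpers here

set_option autoImplicit false
open Cfsg

namespace Cfsg.Agent.S2541

/-- Let F be a field with 9 elements. The symmetric group S_6 is not isomorphic to PGL_2(F) (although both have index-2 subgroups isomorphic to A_6). -/
theorem result {F : Type*} [Field F] [Fintype F] (hF : Fintype.card F = 9) : ¬ Nonempty (Equiv.Perm (Fin 6) ≃* Matrix.ProjGenLinGroup (Fin 2) F) := by
  classical
  rintro ⟨e⟩
  obtain ⟨ζ, hζ⟩ := IsCyclic.exists_generator (α := Fˣ)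
  have hζ8 : orderOf ζ = 8 := by
    rw [orderOf_eq_card_of_forall_mem_zpowers hζ, Nat.card_units, Nat.card_eq_fintype_card, hF]
  let d : Fˣ →* GL (Fin 2) F :=
    MonoidHom.toHomUnits
      { toFun := fun a => Matrix.diagonal ![(a : F), 1]
        map_one' := by ext i j; fin_cases i <;> fin_cases j <;> simp
        map_mul' := fun a b => by ext i j; fin_cases i <;> fin_cases j <;> simp }
  have hinj : Function.Injective fun a : Fˣ => Matrix.ProjGenLinGroup.mk (d a) := by
    intro a b hab
    have h := (Matrix.ProjGenLinGroup.mk_eq_one (g := d (a⁻¹ * b))).1 (by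
      rw [map_mul d, map_inv d, map_mul, map_inv]
      exact inv_mul_eq_one.2 hab)
    rw [Matrix.GeneralLinearGroup.center_eq_range_scalar] at h
    obtain ⟨c, hc⟩ := h
    have h0 := congrArg (fun g : GL (Fin 2) F => g.1 0 0) hc
    have h1 := congrArg (fun g : GL (Fin 2) F => g.1 1 1) hc
    replace h0 : _ = Matrix.diagonal ![((a⁻¹ * b : Fˣ) : F), 1] 0 0 := h0
    replace h1 : _ = Matrix.diagonal ![((a⁻¹ * b : Fˣ) : F), 1] 1 1 := h1
    simp at h0 h1
    rw [h1] at h0
    refine inv_mul_eq_one.1 (Units.ext ?_)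
    simpa using h0.symm
  let φ : Fˣ →* Equiv.Perm (Fin 6) :=
    MonoidHom.mk' (fun a => e.symm (Matrix.ProjGenLinGroup.mk (d a))) fun a b => by
      rw [map_mul, map_mul, map_mul]
  have hφ : orderOf (φ ζ) = 8 := by
    rw [orderOf_injective φ (e.symm.injective.comp hinj), hζ8]
  rw [← Equiv.Perm.lcm_cycleType] at hφ
  have h4 : (φ ζ).cycleType.lcm ∣ 4 := Multiset.lcm_dvd.2 fun r hr => by
    have hle : r ≤ 6 := (Equiv.Perm.le_card_support_of_mem_cycleType hr).trans (by
      simpa using Finset.card_le_univ (φ ζ).support)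
    have hdvd : r ∣ 8 := hφ ▸ Multiset.dvd_lcm hr
    interval_cases r <;> omega
  rw [hφ] at h4
  omega

end Cfsg.Agent.S2541
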