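import Cfsg.Statements.S2542
import Cfsg.Agent.Classical.A5InPSL
import Cfsg.Agent.SL2Class.PSL
import Cfsg.Agent.SmallOrder.Basic
import Cfsg.Agent.S1019

set_option autoImplicit false
open Cfsg

namespace Cfsg.Agent.S2542

open Cfsg.Agent.SL2Class

theorem card_orderThree : Nat.card {g : alternatingGroup (Fin 5) // g ^ 3 = 1 ∧ g ≠ 1} = 20 := by
  rw [Nat.card_eq_fintype_card]
  decide +kernel

theorem index_centralizer_three {F : Type*} [Field F] [Fintype F] (hF : Fintype.card F = 11)
    (x : Matrix.ProjectiveSpecialLinearGroup (Fin 2) F) (hx : x ^ 3 = 1) (hx1 : x ≠ 1) :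
    (Subgroup.centralizer ({x} : Set (Matrix.ProjectiveSpecialLinearGroup (Fin 2) F))).index = 110 := by
  classical
  have : Fact (Nat.Prime 11) := ⟨by norm_num⟩
  have hchar : CharP F 11 := charP_of_card_eq_prime hF
  have h2 : (2 : F) ≠ 0 := by
    have h : ((2 : ℕ) : F) ≠ 0 := fun e => by
      have := (CharP.cast_eq_zero_iff F 11 2).1 e
      norm_num at this
    exact_mod_cast h
  obtain ⟨g₀, rfl⟩ := proj_surjective (F := F) x
  -- a lift of order three
  obtain ⟨g, hg, hg3⟩ : ∃ g, proj g = proj g₀ ∧ g ^ 3 = 1 := by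
    rw [← map_pow, proj_eq_one, mem_center_cases] at hx
    rcases hx with h | h
    · exact ⟨g₀, rfl, h⟩
    · refine ⟨-g₀, proj_eq_iff.2 (Or.inr (neg_neg g₀).symm), ?_⟩
      rw [Odd.neg_pow (by decide), h, neg_neg]
  rw [← hg] at hx1 ⊢
  have hns : NonScalar g := by
    by_contra hn
    exact hx1 (proj_eq_one.2 (mem_center_iff.2 hn))
  have hm : (g : Matrix (Fin 2) (Fin 2) F) * g * g = 1 := by
    have := congrArg (fun a : Matrix.SpecialLinearGroup (Fin 2) F => (a : Matrix (Fin 2) (Fin 2) F)) hg3
    simpa [pow_succ] using this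
  have hlin : lin g (-tr g) (tr g * tr g - 1) = lin g 1 0 := by
    have h1 : lin g (-1) (tr g) * lin g 0 1 = lin g 1 0 := by
      rw [← g_sq, lin_self, lin_one, hm]
    rw [lin_mul] at h1
    rw [← h1]
    congr 1 <;> ring
  obtain ⟨ht, ht2⟩ := lin_ext hns hlin
  have ht' : tr g = -1 := by linear_combination -ht
  have hroot : NoRoot (tr g) := by
    intro r hr
    rw [ht'] at hr
    have h1 : (r : F) ^ 3 = 1 := by linear_combination (r - 1) * hr
    have hne : r ≠ 1 := by
      rintro rfl
      have : ((3 : ℕ) : F) = 0 := by push_cast; linear_combination hr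
      have := (CharP.cast_eq_zero_iff F 11 3).1 this
      norm_num at this
    have hr0 : r ≠ 0 := by rintro rfl; simp at hr
    have h10 : r ^ 10 = 1 := by
      have := FiniteField.pow_card_sub_one_eq_one r hr0
      rwa [hF] at this
    exact hne (by simpa using pow_gcd_eq_one.2 ⟨h1, h10⟩)
  have hc := card_cent_noRoot hroot hns
  rw [index_proj_of_tr_ne (Or.inl (by rw [ht']; intro e; exact h2 (by linear_combination -e)))]
  have hmul := (Subgroup.centralizer ({g} : Set (Matrix.SpecialLinearGroup (Fin 2) F))).index_mul_card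
  rw [card_sl, hc, hF] at hmul
  norm_num at hmul
  omega

/-- Let F be a field with 11 elements. PSL_2(F) has a subgroup H of index 11 isomorphic to the alternating group A_5, and the action of PSL_2(F) on the cosets of H is 2-transitive (of degree 11). -/
theorem result {F : Type*} [Field F] [Fintype F] (hF : Fintype.card F = 11) : ∃ H : Subgroup (Matrix.ProjectiveSpecialLinearGroup (Fin 2) F), H.index = 11 ∧ Nonempty (H ≃* alternatingGroup (Fin 5)) ∧ MulAction.IsMultiplyPretransitive (Matrix.ProjectiveSpecialLinearGroup (Fin 2) F) ((Matrix.ProjectiveSpecialLinearGroup (Fin 2) F) ⧸ H) 2 := by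
  classical
  obtain ⟨H, ⟨e⟩⟩ := (Cfsg.Agent.Classical.A5InPSL.main hF).2 (by norm_num)
  have hH : Nat.card H = 60 := by
    rw [Nat.card_congr e.toEquiv, nat_card_alternatingGroup, Nat.card_fin]
    rfl
  have hG : Nat.card (Matrix.ProjectiveSpecialLinearGroup (Fin 2) F) = 660 := by
    have := Cfsg.Agent.Classical.A5InPSL.card_psl (F := F)
    rw [hF] at this
    norm_num at this
    simp only [Nat.card_eq_fintype_card] at this ⊢
    omega
  have hidx : H.index = 11 := by
    have := H.index_mul_card
    rw [hH, hG] at this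
    omega
  refine ⟨H, hidx, ⟨e⟩, ?_⟩
  have : Fact (Nat.Prime 3) := ⟨Nat.prime_three⟩
  have hcardQ : Nat.card (Matrix.ProjectiveSpecialLinearGroup (Fin 2) F ⧸ H) = 11 := hidx
  -- an element of order three fixes at most two points
  have hfix : ∀ x ∈ H, orderOf x = 3 →
      Nat.card (MulAction.fixedBy (Matrix.ProjectiveSpecialLinearGroup (Fin 2) F ⧸ H) x) ≤ 2 := by
    intro x hx hx3
    have h := Cfsg.Agent.S1019.result H x hx
    rw [hidx] at h
    have hcl : Nat.card {g // IsConj x g} = 110 := by
      have hx1 : x ≠ 1 := fun e => by rw [e, orderOf_one] at hx3; norm_num at hx3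
      rw [← index_centralizer_three hF x (hx3 ▸ pow_orderOf_eq_one x) hx1, ← card_carrier_eq x]
      exact Nat.card_congr (Equiv.subtypeEquivRight fun g => by
        rw [ConjClasses.mem_carrier_iff_mk_eq, ConjClasses.mk_eq_mk_iff_isConj]; exact isConj_comm)
    have hle : Nat.card {g // IsConj x g ∧ g ∈ H} ≤ 20 := by
      rw [← card_orderThree]
      refine Nat.card_le_card_of_injective (fun g => ⟨e ⟨g.1, g.2.2⟩, ?_, ?_⟩) fun a b h => ?_
      · obtain ⟨c, hc⟩ := isConj_iff.1 g.2.1
        rw [← map_pow, MulEquiv.map_eq_one_iff]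
        refine Subtype.ext ?_
        have hx' : x ^ 3 = 1 := hx3 ▸ pow_orderOf_eq_one x
        rw [SubmonoidClass.coe_pow, OneMemClass.coe_one, ← hc, conj_pow, hx']
        group
      · intro h1
        rw [MulEquiv.map_eq_one_iff] at h1
        have hg1 : g.1 = 1 := congrArg Subtype.val h1
        have := g.2.1
        rw [hg1, isConj_one_left] at this
        rw [this, orderOf_one] at hx3
        norm_num at hx3
      · have h' := e.injective (congrArg Subtype.val h)
        exact Subtype.ext (congrArg (fun z : H => z.1) h')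
    rw [hcl] at h
    omega
  -- the stabiliser is transitive on the other points
  let base : Matrix.ProjectiveSpecialLinearGroup (Fin 2) F ⧸ H := QuotientGroup.mk 1
  have hbase : ∀ h : H, h • base = base := fun h => by
    show (QuotientGroup.mk (h.1 * 1) : Matrix.ProjectiveSpecialLinearGroup (Fin 2) F ⧸ H) = _
    rw [mul_one, QuotientGroup.eq]
    simp
  have hsimpH : IsSimpleGroup H := e.isSimpleGroup
  have hnaH : ¬ IsMulCommutative H := SmallOrder.not_comm_of_card (by rw [hH]; norm_num)
  have hbig : ∀ q, q ≠ base → 5 ≤ Nat.card (MulAction.orbit H q) := by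
    intro q hq
    have hd : Nat.card (MulAction.orbit H q) = (MulAction.stabilizer H q).index :=
      (MulAction.index_stabilizer H q).symm ▸ rfl
    rw [hd]
    by_cases htop : MulAction.stabilizer H q = ⊤
    · exfalso
      obtain ⟨g, rfl⟩ := QuotientGroup.mk_surjective q
      have hmem : ∀ h ∈ H, g⁻¹ * h * g ∈ H := fun h hh => by
        have : (⟨h, hh⟩ : H) ∈ MulAction.stabilizer H (QuotientGroup.mk g : _ ⧸ H) := htop ▸ Subgroup.mem_top _
        have h' : (QuotientGroup.mk g : Matrix.ProjectiveSpecialLinearGroup (Fin 2) F ⧸ H) = QuotientGroup.mk (h * g) :=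
          (MulAction.mem_stabilizer_iff.1 this).symm
        have := QuotientGroup.eq.1 h'
        rwa [← mul_assoc] at this
      have hN : g⁻¹ ∈ Subgroup.normalizer (H : Set (Matrix.ProjectiveSpecialLinearGroup (Fin 2) F)) := by
        refine Subgroup.mem_normalizer_fintype fun n hn => ?_
        rw [inv_inv]
        exact hmem n hn
      have hgH : g ∉ H := fun hg => hq (QuotientGroup.eq.2 (by simpa using hg))
      have hlt : H < Subgroup.normalizer (H : Set (Matrix.ProjectiveSpecialLinearGroup (Fin 2) F)) :=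
        lt_of_le_of_ne Subgroup.le_normalizer fun e => hgH (inv_mem_iff.1 (e.symm ▸ hN))
      have h1 := Subgroup.card_dvd_of_le hlt.le
      have h2 := (Subgroup.normalizer (H : Set (Matrix.ProjectiveSpecialLinearGroup (Fin 2) F))).card_subgroup_dvd_card
      rw [hH] at h1
      rw [hG] at h2
      obtain ⟨k, hk⟩ := h1
      rw [hk, show (660 : ℕ) = 60 * 11 by norm_num] at h2
      rcases (Nat.dvd_prime (by norm_num : Nat.Prime 11)).1 (Nat.dvd_of_mul_dvd_mul_left (by norm_num) h2) with rfl | rfl
      · exact hlt.ne (Subgroup.eq_of_le_of_card_ge hlt.le (by rw [hk, hH]))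
      · have hnorm : H.Normal := Subgroup.normalizer_eq_top_iff.1
          (Subgroup.eq_top_of_card_eq _ (by rw [hk, hG]))
        have hs : IsSimpleGroup (Matrix.ProjectiveSpecialLinearGroup (Fin 2) F) :=
          Cfsg.Agent.Classical.isSimpleGroup_psl (ι := Fin 2) (F := F)
            (Or.inr ⟨by simp, Cfsg.Agent.Classical.Small.exists_sq_ne_one (by rw [hF]; norm_num)⟩)
        rcases hnorm.eq_bot_or_eq_top with e' | e'
        · rw [e', Subgroup.card_bot] at hH; norm_num at hH
        · rw [e', Subgroup.index_top] at hidx; norm_num at hidx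
    · have hd := SmallOrder.two_mul_card_dvd hnaH _ htop
      rw [hH] at hd
      by_contra hlt
      push Not at hlt
      interval_cases (MulAction.stabilizer H q).index <;> norm_num [Nat.factorial] at hd
  rw [MulAction.is_two_pretransitive_iff]
  have key : ∀ q r, q ≠ base → r ≠ base → ∃ h : H, h • q = r := by
    intro q r hq hr
    by_contra hcon
    have hdisj : Disjoint (MulAction.orbit H q) (MulAction.orbit H r) := by
      rw [Set.disjoint_left]
      intro z hzq hzr
      obtain ⟨a, ha⟩ := hzq
      obtain ⟨b, hb⟩ := hzr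
      exact hcon ⟨b⁻¹ * a, by rw [mul_smul, show a • q = z from ha, ← show b • r = z from hb, inv_smul_smul]⟩
    have hbq : base ∉ MulAction.orbit H q := fun ⟨a, ha⟩ => hq (by
      have := congrArg (a⁻¹ • ·) (show a • q = base from ha)
      simpa [hbase] using this)
    have hbr : base ∉ MulAction.orbit H r := fun ⟨a, ha⟩ => hr (by
      have := congrArg (a⁻¹ • ·) (show a • r = base from ha)
      simpa [hbase] using this)
    have hq5 := hbig q hq
    have hr5 := hbig r hr
    have hsum : Nat.card (MulAction.orbit H q) + Nat.card (MulAction.orbit H r) ≤ 10 := by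
      rw [Nat.card_coe_set_eq, Nat.card_coe_set_eq, ← Set.ncard_union_eq hdisj]
      have hsub : (MulAction.orbit H q ∪ MulAction.orbit H r) ⊆ Set.univ \ {base} := fun z hz =>
        ⟨trivial, fun e => by rw [Set.mem_singleton_iff.1 e] at hz; exact hz.elim hbq hbr⟩
      refine (Set.ncard_le_ncard hsub).trans ?_
      rw [Set.ncard_sdiff (Set.subset_univ _), Set.ncard_singleton, Set.ncard_univ, hcardQ]
    have hq' : (MulAction.stabilizer H q).index = 5 := by
      rw [MulAction.index_stabilizer, ← Nat.card_coe_set_eq]; omega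
    have hK : Nat.card (MulAction.stabilizer H q) = 12 := by
      have := (MulAction.stabilizer H q).index_mul_card
      rw [hq', hH] at this
      omega
    obtain ⟨x, hx⟩ := exists_prime_orderOf_dvd_card' (G := MulAction.stabilizer H q) 3 (by rw [hK]; norm_num)
    have hxpow : x.1.1 ^ 3 = 1 := by
      have h1 : x ^ 3 = 1 := hx ▸ pow_orderOf_eq_one x
      simpa using congrArg (fun a : MulAction.stabilizer H q => a.1.1) h1
    have hx3 : orderOf x.1.1 = 3 := by rw [Subgroup.orderOf_coe, Subgroup.orderOf_coe, hx]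
    have hfx := hfix x.1.1 x.1.2 hx3
    -- a fixed point in the other orbit
    obtain ⟨z, hz, hzfix⟩ : ∃ z ∈ MulAction.orbit H r, x.1 • z = z := by
      have : Fact (Nat.Prime 3) := ⟨Nat.prime_three⟩
      let P := Subgroup.zpowers x.1
      have hP : IsPGroup 3 P := IsPGroup.of_card (n := 1) (by
        rw [pow_one, Nat.card_zpowers, Subgroup.orderOf_coe, hx])
      have hmod := hP.card_modEq_card_fixedPoints (MulAction.orbit H r)
      have hne : Nat.card (MulAction.fixedPoints P (MulAction.orbit H r)) ≠ 0 := fun h0 => by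
        rw [h0] at hmod
        have : Nat.card (MulAction.orbit H r) = 5 := by omega
        rw [this] at hmod
        exact absurd hmod (by decide)
      obtain ⟨⟨z, hz⟩⟩ := (Nat.card_ne_zero.1 hne).1
      exact ⟨z.1, z.2, congrArg Subtype.val (hz ⟨x.1, Subgroup.mem_zpowers _⟩)⟩
    have hsub : ({base, q, z} : Set _) ⊆ MulAction.fixedBy _ (x.1.1 : Matrix.ProjectiveSpecialLinearGroup (Fin 2) F) := by
      rintro w (rfl | rfl | rfl)
      · exact hbase x.1
      · exact MulAction.mem_stabilizer_iff.1 x.2
      · exact hzfix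
    have h3 : ({base, q, z} : Set (Matrix.ProjectiveSpecialLinearGroup (Fin 2) F ⧸ H)).ncard = 3 :=
      Set.ncard_eq_three.2 ⟨base, q, z, fun e => hq e.symm, fun e => hbr (e ▸ hz),
        fun e => hdisj.ne_of_mem (MulAction.mem_orbit_self q) hz e, rfl⟩
    have := Set.ncard_le_ncard hsub
    rw [h3, ← Nat.card_coe_set_eq] at this
    omega
  intro a b c d hab hcd
  obtain ⟨g₁, hg₁⟩ := MulAction.exists_smul_eq (Matrix.ProjectiveSpecialLinearGroup (Fin 2) F) a base
  obtain ⟨g₂, hg₂⟩ := MulAction.exists_smul_eq (Matrix.ProjectiveSpecialLinearGroup (Fin 2) F) c base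
  obtain ⟨h, hh⟩ := key (g₁ • b) (g₂ • d)
    (fun e => hab (MulAction.injective g₁ (hg₁.trans e.symm)))
    (fun e => hcd (MulAction.injective g₂ (hg₂.trans e.symm)))
  refine ⟨g₂⁻¹ * h.1 * g₁, ?_, ?_⟩
  · rw [mul_smul, mul_smul, hg₁, inv_smul_eq_iff, hg₂]; exact hbase h
  · rw [mul_smul, mul_smul, inv_smul_eq_iff]; exact hh

end Cfsg.Agent.S2542
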