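import Cfsg.Statements.S2544
import Cfsg.Agent.SLSteinberg.Existence
import Cfsg.Agent.Blocks.Modular
import Cfsg.Agent.Char.Linear
-- import your own Cfsg.Agent.* helpers here

set_option autoImplicit false
open Cfsg

namespace Cfsg.Agent.S2544

open Matrix in
theorem fixed_central {G : Type*} [Group G] [Finite G] (H : Subgroup G) {c : G} (hc : c ∈ H)
    (hz : c ∈ Subgroup.center G) (g : G) :
    Cfsg.fixedPointCharacter H (c * g) = Cfsg.fixedPointCharacter H g := by
  have hfix : ∀ y : G ⧸ H, c • y = y := by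
    intro y
    induction y using QuotientGroup.induction_on with
    | H x =>
      show ((c * x : G) : G ⧸ H) = (x : G ⧸ H)
      rw [← Subgroup.mem_center_iff.1 hz x, QuotientGroup.mk_mul_of_mem x hc]
  have : MulAction.fixedBy (G ⧸ H) (c * g) = MulAction.fixedBy (G ⧸ H) g := by
    ext y
    simp only [MulAction.mem_fixedBy, mul_smul, hfix]
  rw [Cfsg.fixedPointCharacter, Cfsg.fixedPointCharacter, this]

open Matrix in
theorem main {F : Type*} [Field F] [Fintype F] (p : ℕ) [Fact p.Prime] [CharP F p] (n : ℕ) (hn : 2 ≤ n) :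
    ∃ χ : Matrix.ProjectiveSpecialLinearGroup (Fin n) F → ℂ,
      Cfsg.IsIrrCharacter (Matrix.ProjectiveSpecialLinearGroup (Fin n) F) χ ∧
      ∀ P : Sylow p (Matrix.ProjectiveSpecialLinearGroup (Fin n) F), χ 1 = Nat.card P ∧
        ∀ x : Matrix.ProjectiveSpecialLinearGroup (Fin n) F, x ∈ P → x ≠ 1 → χ x = 0 := by
  classical
  have hp : p.Prime := Fact.out
  obtain ⟨M, hM⟩ := Cfsg.Agent.Blocks.exists_isPModular p hp
  obtain ⟨χ, hdeg, hres⟩ := SLSteinberg.exists_steinberg' (F := F) hn hM
  set Z := Subgroup.center (SpecialLinearGroup (Fin n) F) with hZ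
  have hcent : ∀ z ∈ Z, ∀ g, (χ : SpecialLinearGroup (Fin n) F → ℂ) (z * g) =
      (χ : SpecialLinearGroup (Fin n) F → ℂ) g := by
    intro z hz g
    obtain ⟨r, -, hr⟩ := Matrix.SpecialLinearGroup.mem_center_iff.1 hz
    rw [hres, hres, map_mul]
    simp only [Cfsg.unipotentCharacterGL]
    refine Finset.sum_congr rfl fun κ _ => ?_
    split_ifs
    · rw [fixed_central]
      · show (z : Matrix (Fin n) (Fin n) F).BlockTriangular _
        rw [← hr]
        exact blockTriangular_diagonal _
      · refine Subgroup.mem_center_iff.2 fun h => Units.ext ?_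
        show (h : Matrix (Fin n) (Fin n) F) * (z : Matrix (Fin n) (Fin n) F) =
          (z : Matrix (Fin n) (Fin n) F) * (h : Matrix (Fin n) (Fin n) F)
        rw [← hr]
        exact (scalar_commute r (Commute.all r) (h : Matrix (Fin n) (Fin n) F)).eq.symm
    · rfl
  have hker : ∀ z ∈ Z, (χ : SpecialLinearGroup (Fin n) F → ℂ) z =
      (χ : SpecialLinearGroup (Fin n) F → ℂ) 1 := fun z hz => by
    simpa using hcent z hz 1
  obtain ⟨φ, hφ, hφχ⟩ := Char.IsIrr.exists_quotient Z χ.2 hker
  have hcodeg : ¬ p ∣ Nat.card (SpecialLinearGroup (Fin n) F) /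
      Cfsg.charDegree (χ : SpecialLinearGroup (Fin n) F → ℂ) := by
    rw [hdeg]
    exact Nat.not_dvd_ordCompl hp Nat.card_pos.ne'
  have hZp : ¬ p ∣ Nat.card Z := by
    intro h
    obtain ⟨z, hz⟩ := exists_prime_orderOf_dvd_card' p h
    obtain ⟨r, -, hr⟩ := Matrix.SpecialLinearGroup.mem_center_iff.1 z.2
    have h1 : (z : SpecialLinearGroup (Fin n) F) ^ p = 1 := by
      rw [← SubmonoidClass.coe_pow, ← hz, pow_orderOf_eq_one, OneMemClass.coe_one]
    have h2 : scalar (Fin n) (r ^ p) = (1 : Matrix (Fin n) (Fin n) F) := by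
      rw [map_pow, hr, ← Matrix.SpecialLinearGroup.coe_pow, h1, Matrix.SpecialLinearGroup.coe_one]
    have h3 : r ^ p = 1 := by
      have := congr_fun₂ h2 ⟨0, by omega⟩ ⟨0, by omega⟩
      simpa using this
    have h4 : r = 1 := by
      have : (r - 1) ^ p = 0 := by rw [sub_pow_char, h3, one_pow, sub_self]
      exact sub_eq_zero.1 (eq_zero_of_pow_eq_zero this)
    have h5 : z = 1 := by
      apply Subtype.ext
      apply Subtype.ext
      show (z : SpecialLinearGroup (Fin n) F).1 = 1
      rw [← hr, h4, map_one]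
    rw [h5, orderOf_one] at hz
    exact hp.one_lt.ne hz
  refine ⟨φ, hφ, fun P => ⟨?_, fun x hx hx1 => ?_⟩⟩
  · have hd : (χ : SpecialLinearGroup (Fin n) F → ℂ) 1 =
        (Cfsg.charDegree (χ : SpecialLinearGroup (Fin n) F → ℂ) : ℂ) := by
      obtain ⟨m, ρ, -, hρ⟩ := χ.2
      rw [Cfsg.charDegree, ← hρ, ρ.char_one, Complex.natCast_re, Nat.floor_natCast]
    have hq : φ 1 = (χ : SpecialLinearGroup (Fin n) F → ℂ) 1 := (hφχ 1).symm
    rw [hq, hd, hdeg, P.card_eq_multiplicity, Subgroup.card_eq_card_quotient_mul_card_subgroup Z,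
      Nat.factorization_mul Nat.card_pos.ne' Nat.card_pos.ne', Finsupp.add_apply,
      Nat.factorization_eq_zero_of_not_dvd hZp, add_zero]
  · obtain ⟨g, rfl⟩ := QuotientGroup.mk_surjective x
    rw [← hφχ]
    refine BlockThms.eq_zero_of_not_dvd_codegree hM χ hcodeg (fun hreg => hreg ?_)
    obtain ⟨j, hj⟩ := IsPGroup.iff_orderOf.1 P.2 ⟨_, hx⟩
    rw [Subgroup.orderOf_mk] at hj
    refine dvd_trans ?_ (orderOf_map_dvd (QuotientGroup.mk' Z) g)
    show p ∣ orderOf ((g : SpecialLinearGroup (Fin n) F ⧸ Z))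
    rw [hj]
    exact dvd_pow_self p fun h0 => hx1 (orderOf_eq_one_iff.1 (by rw [hj, h0, pow_zero]))

/-- Let F be a finite field of characteristic p and consider the projective special linear group PSL_n(F) with n ≥ 2. This group has an irreducible complex character χ whose degree equals the order of a Sylow p-subgroup (namely q^(n(n−1)/2) when #F = q) and whose restriction to any Sylow p-subgroup P is the regular character of P: χ vanishes on the non-identity elements of P. (This is the Steinberg character.) -/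
theorem result {F : Type*} [Field F] [Fintype F] (p : ℕ) [Fact p.Prime] [CharP F p] (n : ℕ) (hn : 2 ≤ n) : ∃ χ : Matrix.ProjectiveSpecialLinearGroup (Fin n) F → ℂ, Cfsg.IsIrrCharacter (Matrix.ProjectiveSpecialLinearGroup (Fin n) F) χ ∧ ∀ P : Sylow p (Matrix.ProjectiveSpecialLinearGroup (Fin n) F), χ 1 = Nat.card P ∧ ∀ x : Matrix.ProjectiveSpecialLinearGroup (Fin n) F, x ∈ P → x ≠ 1 → χ x = 0 := by
  exact main p n hn

end Cfsg.Agent.S2544
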