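import Cfsg.Statements.S2556
import Cfsg.Agent.Suzuki.AutU
-- import your own Cfsg.Agent.* helpers here

set_option autoImplicit false
open Cfsg
open Cfsg.Agent

namespace Cfsg.Agent.S2556
theorem pCore_map_le {A B : Type*} [Group A] [Group B] (e : A ≃* B) (p : ℕ) :
    (Cfsg.pCore p A).map e.toMonoidHom ≤ Cfsg.pCore p B := by
  rw [Subgroup.map_le_iff_le_comap]
  refine sSup_le ?_
  rintro N ⟨hN, hp⟩
  rw [← Subgroup.map_le_iff_le_comap]
  exact le_sSup ⟨hN.map _ e.surjective, hp.map _⟩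

theorem pCore_map {A B : Type*} [Group A] [Group B] (e : A ≃* B) (p : ℕ) :
    (Cfsg.pCore p A).map e.toMonoidHom = Cfsg.pCore p B := by
  refine le_antisymm (pCore_map_le e p) fun x hx => ⟨e.symm x, ?_, e.apply_symm_apply x⟩
  exact pCore_map_le e.symm p ⟨x, hx, rfl⟩


/-- Let S be a Sylow 2-subgroup of the Suzuki group Sz(q), q = 2ⁿ with n = 2m + 1 ≥ 3 (realised as 4 × 4 matrices over the field with q elements). Then the largest normal 2-subgroup of the automorphism group of S is elementary abelian of order 2^(n²), and the automorphism group of S has order 2^(n²) · n · (q − 1). -/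
theorem result {S : Type*} [Group S] [Finite S] (m : ℕ) (hm : 1 ≤ m)
    {F : Type*} [Field F] [Fintype F] (hF : Fintype.card F = 2 ^ (2 * m + 1))
    (P : Sylow 2 ↥(Cfsg.Lie.Sz F (2 ^ (m + 1)))) (hS : Nonempty (S ≃* ↥(P : Subgroup ↥(Cfsg.Lie.Sz F (2 ^ (m + 1)))))) :
    Cfsg.IsElementaryAbelian 2 (Cfsg.pCore 2 (MulAut S)) ∧ Nat.card ↥(Cfsg.pCore 2 (MulAut S)) = 2 ^ ((2 * m + 1) ^ 2) ∧
      Nat.card (MulAut S) = 2 ^ ((2 * m + 1) ^ 2) * ((2 * m + 1) * (2 ^ (2 * m + 1) - 1)) := by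
  have hG := RankOne.Ovoid.good_of_card (m := m) hF
  have : Fact (Nat.Prime 2) := ⟨Nat.prime_two⟩
  obtain ⟨e0⟩ := Suzuki.nonempty_equiv (F := F) hm hF
  obtain ⟨eS⟩ := hS
  let Q : Sylow 2 ↥(Cfsg.Sz F m) := P.comapOfInjective e0.toMonoidHom e0.injective
    (by rw [MonoidHom.range_eq_top.mpr e0.surjective]; exact le_top)
  let e1 : ↥(Q : Subgroup ↥(Cfsg.Sz F m)) ≃* ↥(P : Subgroup ↥(Cfsg.Lie.Sz F (2 ^ (m + 1)))) :=
    ((Q : Subgroup ↥(Cfsg.Sz F m)).equivMapOfInjective e0.toMonoidHom e0.injective).trans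
      (MulEquiv.subgroupCongr (Subgroup.map_comap_eq_self_of_surjective e0.surjective _))
  let ε : ↥(Suzuki.U hG) ≃* S := ((Sylow.equiv (Suzuki.sylowU hG hm hF) Q).trans e1).trans eS.symm
  let Φ : MulAut ↥(Suzuki.U hG) ≃* MulAut S := MulAut.congr ε
  rw [← pCore_map Φ 2, Suzuki.pCore_mulAut hG hm hF]
  refine ⟨⟨?_, ?_⟩, ?_, ?_⟩
  · refine ⟨⟨fun a b => Subtype.ext ?_⟩⟩
    obtain ⟨x, hx, ex⟩ := a.2
    obtain ⟨y, hy, ey⟩ := b.2
    show (a : MulAut S) * b = b * a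
    rw [← ex, ← ey, ← map_mul, ← map_mul]
    exact congrArg _ (congrArg Subtype.val
      ((Suzuki.autKer_elementary hG hm hF).1.is_comm.comm ⟨x, hx⟩ ⟨y, hy⟩))
  · rintro _ ⟨x, hx, rfl⟩
    rw [← map_pow, (Suzuki.autKer_elementary hG hm hF).2 x hx, map_one]
  · rw [Subgroup.card_map_of_injective Φ.injective, Suzuki.card_autKer hG hm hF]
  · rw [← Nat.card_congr Φ.toEquiv, Suzuki.card_mulAut hG hm hF]

end Cfsg.Agent.S2556
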