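import Cfsg.Statements.S2559
import Cfsg.Agent.OrthEven.ClassNumber
import Cfsg.Agent.OrthEven.Lower
import Cfsg.Agent.Classical.QuadTypes
-- import your own Cfsg.Agent.* helpers here

set_option autoImplicit false
open Cfsg

namespace Cfsg.Agent.S2559

open QuadraticMap in
theorem bounds {F : Type*} [Field F] [Fintype F] (h2 : (2 : F) = 0) {ι : Type} [Fintype ι] [DecidableEq ι]
    (Q' : (ι → F) → F) (Q : QuadraticForm F (ι → F)) (hQ : ⇑Q = Q') (hnd : (polarBilin Q).Nondegenerate)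
    {n : ℕ} (hn : 2 ≤ n) (hι : Fintype.card ι = 2 * n) :
    Fintype.card F ^ n ≤ 2 * Nat.card (ConjClasses (Cfsg.isometryGroup F Q')) ∧
      Nat.card (ConjClasses (Cfsg.isometryGroup F Q')) ≤ 15 * Fintype.card F ^ n := by
  subst hQ
  exact ⟨Cfsg.Agent.OrthEven.pow_le_two_mul_card_conjClasses h2 Q hnd hn hι,
    Cfsg.Agent.OrthEven.card_conjClasses_le h2 Q hnd hι⟩

/-- The number of conjugacy classes of the full orthogonal groups O⁺(2n,q) and O⁻(2n,q), q even, 2n ≥ 4: for F a finite field of even order q and n ≥ 2, the number k of conjugacy classes of the isometry group of the hyperbolic quadratic form Σ xᵢyᵢ on F^{2n}, and likewise of the elliptic form Σ xᵢyᵢ + (z₁² + a z₁z₂ + b z₂²) with anisotropic binary part, satisfies q^n/2 ≤ k ≤ 15·q^n. -/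
theorem result {F : Type*} [Field F] [Fintype F] (heven : Even (Fintype.card F)) (n : ℕ) (hn : 2 ≤ n) (a b : F) (hab : ∀ z₁ z₂ : F, z₁ ^ 2 + a * z₁ * z₂ + b * z₂ ^ 2 = 0 → z₁ = 0 ∧ z₂ = 0) :
    (Fintype.card F ^ n ≤ 2 * Nat.card (ConjClasses ↥(Cfsg.isometryGroup F (Cfsg.quadFormPlus n F))) ∧
      Nat.card (ConjClasses ↥(Cfsg.isometryGroup F (Cfsg.quadFormPlus n F))) ≤ 15 * Fintype.card F ^ n) ∧
    (Fintype.card F ^ n ≤ 2 * Nat.card (ConjClasses ↥(Cfsg.isometryGroup F (Cfsg.quadFormMinus (n - 1) F a b))) ∧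
      Nat.card (ConjClasses ↥(Cfsg.isometryGroup F (Cfsg.quadFormMinus (n - 1) F a b))) ≤ 15 * Fintype.card F ^ n) := by
  have h2 : (2 : F) = 0 := by
    have h : ringChar F = 2 := FiniteField.even_card_iff_char_two.2 (Nat.even_iff.1 heven)
    have := ringChar.Nat.cast_ringChar (R := F)
    rw [h] at this
    exact_mod_cast this
  open Cfsg.Agent.Classical.Quad QuadraticMap in
  refine ⟨bounds h2 _ ((hyp (zeroForm F) n).comp (plusCoord n).toLinearMap) ?_
      (Iso.nondeg (Iso.symm ⟨plusCoord n, fun x => rfl⟩) (nondeg_hyp nondeg_zeroForm n)) hn (by simp; omega),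
    bounds h2 _ ((hyp (binForm a b) (n - 1)).comp (minusCoord (n - 1)).toLinearMap) ?_
      (Iso.nondeg (Iso.symm ⟨minusCoord (n - 1), fun x => rfl⟩) (nondeg_hyp (nondeg_binForm hab) (n - 1))) hn
      (by simp; omega)⟩
  · exact funext fun x => plusCoord_map n x
  · exact funext fun x => minusCoord_map a b (n - 1) x

end Cfsg.Agent.S2559
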