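import Cfsg.Statements.S2560
import Cfsg.Agent.MatModule.OrthOddClasses
import Cfsg.Agent.Classical.QuadTypes
-- import your own Cfsg.Agent.* helpers here

set_option autoImplicit false
open Cfsg

namespace Cfsg.Agent.S2560

/-- The number of conjugacy classes of Ω(2n+1,q), q odd, n ≥ 2: for F a finite field of odd order q, the number k of conjugacy classes of the commutator subgroup of the isometry group of the quadratic form x₀² + Σ xᵢyᵢ on F^{2n+1} satisfies q^n/2 ≤ k ≤ 7.3·q^n. -/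
theorem result {F : Type*} [Field F] [Fintype F] (hodd : Odd (Fintype.card F)) (n : ℕ) (hn : 2 ≤ n) :
    Fintype.card F ^ n ≤ 2 * Nat.card (ConjClasses ↥(Cfsg.Omega F (Cfsg.quadFormOdd n F))) ∧
      10 * Nat.card (ConjClasses ↥(Cfsg.Omega F (Cfsg.quadFormOdd n F))) ≤ 73 * Fintype.card F ^ n := by
  let Q : QuadraticForm F (Unit ⊕ (Fin n ⊕ Fin n) → F) :=
    (Cfsg.Agent.Classical.Quad.hyp (Cfsg.Agent.Classical.Quad.sqForm F) n).comp (Cfsg.Agent.Classical.Quad.oddCoord n).toLinearMap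
  have h2 : (2 : F) ≠ 0 := Ring.two_ne_zero fun h => by
    have := FiniteField.even_card_of_char_two h
    rcases hodd with ⟨r, hr⟩
    omega
  have hQ : ⇑Q = Cfsg.quadFormOdd n F := funext fun x => Cfsg.Agent.Classical.Quad.oddCoord_map n x
  have hnd : (QuadraticMap.polarBilin Q).Nondegenerate :=
    Cfsg.Agent.Classical.Quad.Iso.nondeg (Cfsg.Agent.Classical.Quad.Iso.symm ⟨Cfsg.Agent.Classical.Quad.oddCoord n, fun x => rfl⟩)
      (Cfsg.Agent.Classical.Quad.nondeg_hyp (Cfsg.Agent.Classical.Quad.nondeg_sqForm h2) n)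
  obtain ⟨h1, h3, h4⟩ := Cfsg.Agent.FormClass.omega_odd_bounds h2 Q hnd (by omega : 1 ≤ n) (by simp; omega)
  rw [← hQ]
  refine ⟨h1, ?_⟩
  rcases Nat.lt_or_ge (Fintype.card F) 5 with hq | hq
  · have h3' : Fintype.card F = 3 := by
      have := Fintype.one_lt_card (α := F)
      rcases hodd with ⟨r, hr⟩
      omega
    have := Cfsg.Agent.FormClass.Wt_odd_bound3 (n := n) (by omega)
    rw [h3'] at h4 ⊢
    omega
  · have := Cfsg.Agent.FormClass.Wt_odd_bound5 hq n
    omega

end Cfsg.Agent.S2560
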