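import Cfsg.Statements.S2565
import Cfsg.Agent.Classical.AltEight
-- import your own Cfsg.Agent.* helpers here

set_option autoImplicit false
open Cfsg

namespace Cfsg.Agent.S2565

/-- The commutator subgroup of the full orthogonal group of the plus-type form Σ xᵢyᵢ in dimension 6 over the field of two elements (the group Ω⁺₆(2), of index 2) is isomorphic to the alternating group of degree 8. -/
theorem result :
    (Cfsg.Omega (ZMod 2) (Cfsg.quadFormPlus 3 (ZMod 2))).index = 2 ∧
    Nonempty (↥(Cfsg.Omega (ZMod 2) (Cfsg.quadFormPlus 3 (ZMod 2))) ≃* alternatingGroup (Fin 8)) := by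
  classical
  obtain ⟨s⟩ := Cfsg.Agent.Classical.Symm2.equiv_eight (F := ZMod 2) (by simp)
  have hcomm : (commutator (Cfsg.isometryGroup (ZMod 2) (Cfsg.quadFormPlus 3 (ZMod 2)))).map
      (s : Cfsg.isometryGroup (ZMod 2) (Cfsg.quadFormPlus 3 (ZMod 2)) →* Equiv.Perm (Fin 8)) = alternatingGroup (Fin 8) := by
    rw [← alternatingGroup.commutator_perm_eq (α := Fin 8) (by simp), commutator_def, Subgroup.map_commutator,
      ← MonoidHom.range_eq_map, MonoidHom.range_eq_top.2 s.surjective, commutator_def]
  refine ⟨?_, ⟨(s.subgroupMap _).trans (MulEquiv.subgroupCongr hcomm)⟩⟩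
  show (commutator (Cfsg.isometryGroup (ZMod 2) (Cfsg.quadFormPlus 3 (ZMod 2)))).index = 2
  rw [← Subgroup.index_map_equiv _ s, hcomm]
  exact alternatingGroup.index_eq_two

end Cfsg.Agent.S2565
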