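import Cfsg.Statements.S2566
import Cfsg.Agent.Classical.PlusFourTwo
-- import your own Cfsg.Agent.* helpers here

set_option autoImplicit false
open Cfsg

namespace Cfsg.Agent.S2566

/-- The full orthogonal group of the plus-type form x₁y₁ + x₂y₂ in dimension 4 over the field of two elements has order 72 and is isomorphic to the wreath product of the symmetric group of degree 3 by a group of order 2: it has a normal subgroup isomorphic to the direct product of two symmetric groups of degree 3, of index 2, whose two direct factors are interchanged by conjugation by some element. -/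
theorem result :
    Nat.card ↥(Cfsg.isometryGroup (ZMod 2) (Cfsg.quadFormPlus 2 (ZMod 2))) = 72 ∧
    ∃ (A B : Subgroup ↥(Cfsg.isometryGroup (ZMod 2) (Cfsg.quadFormPlus 2 (ZMod 2)))),
      Nonempty (↥A ≃* Equiv.Perm (Fin 3)) ∧ Nonempty (↥B ≃* Equiv.Perm (Fin 3)) ∧ A ⊓ B = ⊥ ∧ (∀ a ∈ A, ∀ b ∈ B, a * b = b * a) ∧
      (A ⊔ B).index = 2 ∧ ∃ g : ↥(Cfsg.isometryGroup (ZMod 2) (Cfsg.quadFormPlus 2 (ZMod 2))), A.map (MulAut.conj g).toMonoidHom = B := by
  rw [← Cfsg.Agent.Classical.Quad.coe_plusQ]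
  obtain ⟨hc, A, B, ⟨eA⟩, ⟨eB⟩, hAB, hcomm, hidx, g, hg⟩ := Cfsg.Agent.Classical.Quad.plus_four_two_shape
  let ψ := (Cfsg.Agent.Classical.Quad.oEquiv (Cfsg.Agent.Classical.Quad.plusQ (ZMod 2) 2)).symm
  refine ⟨(Nat.card_congr ψ.symm.toEquiv).trans hc, A.map ψ.toMonoidHom, B.map ψ.toMonoidHom,
    ⟨(ψ.subgroupMap A).symm.trans eA⟩, ⟨(ψ.subgroupMap B).symm.trans eB⟩, ?_, ?_, ?_, ψ g, ?_⟩
  · rw [← Subgroup.map_inf _ _ _ ψ.injective, hAB, Subgroup.map_bot]
  · rintro _ ⟨a, ha, rfl⟩ _ ⟨b, hb, rfl⟩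
    rw [← map_mul, ← map_mul, hcomm a ha b hb]
  · rw [← Subgroup.map_sup]
    exact (Subgroup.index_map_equiv _ ψ).trans hidx
  · rw [← hg, Subgroup.map_map, Subgroup.map_map]
    refine congrArg (fun f => Subgroup.map f A) (MonoidHom.ext fun x => ?_)
    simp

end Cfsg.Agent.S2566
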