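import Cfsg.Statements.S2567
import Mathlib

set_option autoImplicit false
open Cfsg

namespace Cfsg.Agent.S2567

/-- Lifting elements of prime order from PGL to GL: let F be a finite field with q elements, r a prime not dividing q − 1, and x an element of order r in GL_n(F) modulo its centre (the scalar matrices). Then x has exactly one preimage in GL_n(F) of order r. -/
theorem result {F : Type*} [Field F] [Fintype F] {q n r : ℕ} (hF : Fintype.card F = q) (hr : r.Prime) (hdiv : ¬ r ∣ q - 1) (x : GL (Fin n) F ⧸ Subgroup.center (GL (Fin n) F)) (hx : orderOf x = r) : ∃! g : GL (Fin n) F, (QuotientGroup.mk g : GL (Fin n) F ⧸ Subgroup.center (GL (Fin n) F)) = x ∧ orderOf g = r := by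
  classical
  haveI : Fact r.Prime := ⟨hr⟩
  rcases Nat.eq_zero_or_pos n with rfl | hn
  · obtain ⟨y, rfl⟩ := QuotientGroup.mk_surjective x
    have : y = 1 := Subsingleton.elim _ _
    rw [this, QuotientGroup.mk_one, orderOf_one] at hx
    exact absurd hx.symm hr.one_lt.ne'
  haveI : NeZero n := ⟨hn.ne'⟩
  have hZ : Nat.card (Subgroup.center (GL (Fin n) F)) ∣ q - 1 := by
    have hsub : (Subgroup.center (GL (Fin n) F)) ≤ (Units.map (Matrix.scalar (Fin n) : F →+* Matrix (Fin n) (Fin n) F).toMonoidHom).range := by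
      intro z hz
      obtain ⟨c, hc⟩ := Matrix.GeneralLinearGroup.mem_center_iff_val_eq_scalar.1 hz
      by_cases hc0 : c = 0
      · exfalso
        refine z.isUnit.ne_zero ?_
        rw [← hc, hc0, map_zero]
      · exact ⟨Units.mk0 c hc0, Units.ext hc⟩
    refine (Subgroup.card_dvd_of_le hsub).trans ((Subgroup.card_range_dvd _).trans ?_)
    rw [Nat.card_units, Nat.card_eq_fintype_card, hF]
  have hco : (Nat.card (Subgroup.center (GL (Fin n) F))).Coprime r :=
    ((Nat.Prime.coprime_iff_not_dvd hr).2 fun h => hdiv (h.trans hZ)).symm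
  obtain ⟨y, rfl⟩ := QuotientGroup.mk_surjective x
  have hyr : y ^ r ∈ (Subgroup.center (GL (Fin n) F)) := by
    rw [← QuotientGroup.eq_one_iff, QuotientGroup.mk_pow, ← hx, pow_orderOf_eq_one]
  obtain ⟨w, hw⟩ := (powCoprime hco).surjective ⟨y ^ r, hyr⟩
  have hw' : (w : GL (Fin n) F) ^ r = y ^ r := congrArg Subtype.val hw
  have hcw : Commute y ((w : GL (Fin n) F))⁻¹ := Commute.inv_right (Subgroup.mem_center_iff.1 w.2 y)
  have hmk : (QuotientGroup.mk (y * (w : GL (Fin n) F)⁻¹) : GL (Fin n) F ⧸ (Subgroup.center (GL (Fin n) F))) = QuotientGroup.mk y := by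
    rw [QuotientGroup.eq]
    have : (y * (w : GL (Fin n) F)⁻¹)⁻¹ * y = w := by group
    rw [this]; exact w.2
  have hord : orderOf (y * (w : GL (Fin n) F)⁻¹) = r := by
    refine orderOf_eq_prime (by rw [hcw.mul_pow, inv_pow, hw', mul_inv_cancel]) fun h => ?_
    rw [h, QuotientGroup.mk_one] at hmk
    rw [← hmk, orderOf_one] at hx
    exact hr.one_lt.ne hx
  refine ⟨_, ⟨hmk, hord⟩, fun g ⟨hgx, hgr⟩ => ?_⟩
  set g₀ := y * (w : GL (Fin n) F)⁻¹ with hg₀
  have hz : g₀⁻¹ * g ∈ (Subgroup.center (GL (Fin n) F)) := QuotientGroup.eq.1 (hmk.trans hgx.symm)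
  have hc : Commute g₀ (g₀⁻¹ * g) := Subgroup.mem_center_iff.1 hz g₀
  have h1 : (g₀⁻¹ * g) ^ r = 1 := by
    have e : g = g₀ * (g₀⁻¹ * g) := by group
    have h2 : (g₀ * (g₀⁻¹ * g)) ^ r = 1 := by rw [← e, ← hgr, pow_orderOf_eq_one]
    rwa [hc.mul_pow, ← hord, pow_orderOf_eq_one, one_mul, hord] at h2
  have h2 : (⟨g₀⁻¹ * g, hz⟩ : (Subgroup.center (GL (Fin n) F))) = 1 := (powCoprime hco).injective (Subtype.ext (by
    show (g₀⁻¹ * g) ^ r = ((1 : (Subgroup.center (GL (Fin n) F))) : GL (Fin n) F) ^ r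
    rw [h1, OneMemClass.coe_one, one_pow]))
  exact (inv_mul_eq_one.1 (congrArg Subtype.val h2)).symm

end Cfsg.Agent.S2567
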