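import Cfsg.Statements.S2568
import Cfsg.Agent.MatModule.GLSemisimple
import Cfsg.Agent.S2387
import Mathlib.RingTheory.Polynomial.Cyclotomic.Factorization

set_option autoImplicit false
open Cfsg

namespace Cfsg.Agent.S2568

open Cfsg.Agent.MatModule Polynomial UniqueFactorizationMonoid

theorem card_multiset_le {T : Type*} [Fintype T] (N : ℕ) :
    Nat.card {m : Multiset T // Multiset.card m ≤ N} = (Fintype.card T + N).choose N := by
  classical
  rw [show (Fintype.card T + N).choose N = Fintype.card (Sym (Option T) N) by
    rw [Sym.card_sym_eq_choose, Fintype.card_option]; congr 1; omega, ← Nat.card_eq_fintype_card]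
  refine Nat.card_eq_of_bijective (fun m =>
    (⟨m.1.map some + Multiset.replicate (N - Multiset.card m.1) none, by
      rw [Multiset.card_add, Multiset.card_map, Multiset.card_replicate]; have := m.2; omega⟩ :
      Sym (Option T) N)) ⟨?_, ?_⟩
  · intro a b h
    refine Subtype.ext ?_
    have h' := congrArg (fun s : Sym (Option T) N => Multiset.filterMap id (s : Multiset (Option T))) h
    have e : ∀ (s : Multiset T) (k : ℕ),
        Multiset.filterMap id (s.map some + Multiset.replicate k none) = s := by
      intro s k
      rw [Multiset.filterMap_add, Multiset.filterMap_map]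
      have : Multiset.filterMap id (Multiset.replicate k (none : Option T)) = 0 := by
        induction k with
        | zero => rfl
        | succ k ih => rw [Multiset.replicate_succ, Multiset.filterMap_cons_none _ _ rfl, ih]
      rw [this, add_zero]
      exact Multiset.filterMap_some s
    exact (e _ _).symm.trans (h'.trans (e _ _))
  · rintro ⟨s, hs⟩
    have key : ∀ s : Multiset (Option T),
        (Multiset.filterMap id s).map some + Multiset.replicate (s.count none) none = s := by
      intro s
      induction s using Multiset.induction with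
      | empty => rfl
      | cons x s ih =>
        cases x with
        | none =>
          rw [Multiset.filterMap_cons_none _ _ rfl, Multiset.count_cons_self, Multiset.replicate_succ,
            Multiset.add_cons, ih]
        | some x =>
          rw [Multiset.filterMap_cons_some _ _ _ (by rfl : id (some x) = some x),
            Multiset.count_cons_of_ne (by simp), Multiset.map_cons, Multiset.cons_add, ih]
    have hc := congrArg Multiset.card (key s)
    rw [Multiset.card_add, Multiset.card_map, Multiset.card_replicate, hs] at hc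
    refine ⟨⟨Multiset.filterMap id s, by omega⟩, Subtype.ext ?_⟩
    show _ + Multiset.replicate (N - _) none = s
    rw [show N - Multiset.card (Multiset.filterMap id s) = s.count none by omega, key]

/-- A semisimple element is killed by `r` iff every factor of its characteristic polynomial divides `X ^ r - 1`. -/
theorem pow_eq_one_iff_factors {F : Type*} [Field F] [Fintype F] [DecidableEq F] {p : ℕ} [Fact p.Prime]
    [CharP F p] {n : ℕ} (g : GL (Fin n) F) (hg : (orderOf g).Coprime p) (r : ℕ) :
    g ^ r = 1 ↔ ∀ s ∈ normalizedFactors (g : Matrix (Fin n) (Fin n) F).charpoly,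
      s ∣ X ^ r - 1 := by
  classical
  set φ := Matrix.toLin' (g : Matrix (Fin n) (Fin n) F) with hφ
  obtain ⟨q, hq, hgq⟩ := exists_squarefree_aeval g hg
  obtain ⟨ι, _, s, hs, hsi, Φ, hΦ⟩ := exists_rootMul φ hq hgq
  haveI : ∀ i, Module.Finite F (AdjoinRoot (s i)) := fun i => finite_adjoinRoot (s i) (hs i)
  haveI : Module.Finite F (∀ i, AdjoinRoot (s i)) := Module.Finite.pi
  have hc : (g : Matrix (Fin n) (Fin n) F).charpoly = ∏ i, s i := by
    rw [← Matrix.charpoly_toLin', ← charpoly_rootMul s hs, ← Φ.charpoly_conj φ]
    congr 1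
    refine LinearMap.ext fun v => ?_
    show Φ (φ (Φ.symm v)) = _
    rw [hΦ, LinearEquiv.apply_symm_apply]
  have hfac : normalizedFactors (g : Matrix (Fin n) (Fin n) F).charpoly = Finset.univ.val.map s := by
    rw [hc]
    have := normalizedFactors_prod_eq (Finset.univ.val.map s)
      (fun a ha => by obtain ⟨b, -, rfl⟩ := Multiset.mem_map.1 ha; exact hsi b)
    rw [Multiset.map_map] at this
    rw [show (Finset.univ.val.map s).prod = ∏ a, s a from rfl] at this
    rw [this]
    exact Multiset.map_congr rfl fun a _ => (hs a).normalize_eq_self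
  have hpow : ∀ (v : Fin n → F) i, Φ ((φ ^ r) v) i = AdjoinRoot.root (s i) ^ r * Φ v i := by
    intro v i
    induction r with
    | zero => simp
    | succ r ih => rw [pow_succ', Module.End.mul_apply, hΦ, rootMul_apply, ih, pow_succ', mul_assoc]
  have hone : g ^ r = 1 ↔ ∀ i, AdjoinRoot.root (s i) ^ r = 1 := by
    have hmat : g ^ r = 1 ↔ φ ^ r = 1 := by
      rw [hφ, ← Matrix.toLin'_pow, ← Units.val_pow_eq_pow_val, Units.ext_iff, Units.val_one,
        Module.End.one_eq_id, ← Matrix.toLin'_one]
      exact Matrix.toLin'.injective.eq_iff.symm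
    rw [hmat]
    constructor
    · intro h i
      have := hpow (Φ.symm 1) i
      rwa [h, Module.End.one_apply, LinearEquiv.apply_symm_apply, Pi.one_apply, mul_one, eq_comm] at this
    · intro h
      refine LinearMap.ext fun v => Φ.injective (funext fun i => ?_)
      rw [hpow, h i, one_mul, Module.End.one_apply]
  rw [hone, hfac]
  simp only [Multiset.mem_map, Finset.mem_val, Finset.mem_univ, true_and, forall_exists_index,
    forall_apply_eq_imp_iff]
  refine forall_congr' fun i => ?_
  rw [← AdjoinRoot.mk_eq_zero, map_sub, map_pow, map_one, sub_eq_zero]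
  rfl

/-- Number of conjugacy classes of elements of a given prime order r, coprime to the characteristic, in GL_n(q): if i is the multiplicative order of q modulo r and t = (r − 1)/i, the classes correspond to the non-zero t-tuples of natural numbers (a_1, …, a_t) with i(a_1 + ⋯ + a_t) ≤ n (a_j is the multiplicity of the j-th Frobenius orbit of nontrivial r-th roots of unity among the eigenvalues), so there are exactly C(⌊n/i⌋ + t, t) − 1 of them. -/
theorem result {F : Type*} [Field F] [Fintype F] {p q : ℕ} [Fact p.Prime] [CharP F p] (hF : Fintype.card F = q) (n r i t : ℕ) (hr : r.Prime) (hrp : r ≠ p) (hi : i = orderOf (q : ZMod r)) (ht : t * i = r - 1) : Nat.card {C : ConjClasses (GL (Fin n) F) // ∃ g : GL (Fin n) F, ConjClasses.mk g = C ∧ orderOf g = r} = Nat.choose (n / i + t) t - 1 := by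
  classical
  subst hi hF
  haveI := Fact.mk hr
  have hrF : (r : F) ≠ 0 := by
    rw [Ne, CharP.cast_eq_zero_iff F p]
    intro hd
    exact hrp ((Nat.prime_dvd_prime_iff_eq Fact.out hr).1 hd).symm
  obtain ⟨e, -, hcardF⟩ := FiniteField.card F p
  set i := orderOf ((Fintype.card F : ℕ) : ZMod r) with hidef
  have hpr : p.Coprime r := (Nat.coprime_primes Fact.out hr).2 (Ne.symm hrp)
  haveI : NeZero (r : F) := ⟨hrF⟩
  set T := (normalizedFactors (cyclotomic r F)).toFinset with hT
  have hTirr : ∀ s ∈ T, Irreducible s := fun s hs =>
    irreducible_of_normalized_factor _ (Multiset.mem_toFinset.1 hs)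
  have hTmon : ∀ s ∈ T, s.Monic := fun s hs => by
    rw [← normalize_normalized_factor _ (Multiset.mem_toFinset.1 hs)]
    exact monic_normalize (hTirr s hs).ne_zero
  have hTdeg : ∀ s ∈ T, s.natDegree = i := by
    intro s hs
    rw [natDegree_of_dvd_cyclotomic_of_irreducible hcardF hpr
      (dvd_of_mem_normalizedFactors (Multiset.mem_toFinset.1 hs)) (hTirr s hs), ← orderOf_units,
      ZMod.coe_unitOfCoprime, hidef, hcardF]
  have hcyc1 : ∀ s ∈ T, s ≠ X - C 1 := by
    intro s hs h
    have hd := dvd_of_mem_normalizedFactors (Multiset.mem_toFinset.1 hs)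
    rw [h, dvd_iff_isRoot, IsRoot, eval_one_cyclotomic_prime] at hd
    exact hrF hd
  have hTcard : T.card = t := by
    have hnodup : (normalizedFactors (cyclotomic r F)).Nodup :=
      (squarefree_iff_nodup_normalizedFactors (cyclotomic_ne_zero r F)).1 (squarefree_cyclotomic r F)
    have h := congrArg natDegree
      (prod_normalizedFactors_eq (cyclotomic_ne_zero r F))
    rw [(cyclotomic.monic r F).normalize_eq_self, natDegree_cyclotomic, Nat.totient_prime hr] at h
    rw [natDegree_multiset_prod_of_monic _ (fun s hs => hTmon s (Multiset.mem_toFinset.2 hs)),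
      Multiset.map_congr rfl (fun s hs => hTdeg s (Multiset.mem_toFinset.2 hs)), Multiset.map_const',
      Multiset.sum_replicate, smul_eq_mul] at h
    rw [hT, Multiset.toFinset_card_of_nodup hnodup]
    have h' : Multiset.card (normalizedFactors (cyclotomic r F)) * i = t * i := h.trans ht.symm
    rcases Nat.eq_zero_or_pos i with h0 | h0
    · rw [h0, mul_zero] at ht
      have := hr.two_le
      omega
    · exact Nat.eq_of_mul_eq_mul_right h0 h'
  have hdvd : ∀ s : F[X], s.Monic → Irreducible s → (s ∣ X ^ r - 1 ↔ s = X - C 1 ∨ s ∈ T) := by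
    intro s hs hsi
    constructor
    · intro h
      rw [← cyclotomic_prime_mul_X_sub_one F r] at h
      rcases hsi.prime.dvd_or_dvd h with h | h
      · right
        rw [hT, Multiset.mem_toFinset, mem_normalizedFactors_iff' (cyclotomic_ne_zero r F)]
        exact ⟨hsi, hs.normalize_eq_self, h⟩
      · left
        rw [← map_one (C (R := F))] at h
        exact eq_of_monic_of_associated hs (monic_X_sub_C 1)
          (hsi.associated_of_dvd (irreducible_X_sub_C 1) h)
    · rintro (rfl | h)
      · rw [dvd_iff_isRoot]
        simp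
      · exact (dvd_of_mem_normalizedFactors (Multiset.mem_toFinset.1 h)).trans
          (cyclotomic.dvd_X_pow_sub_one r F)
  set N := n / i with hN
  have hi0 : 0 < i := by
    rcases Nat.eq_zero_or_pos i with h0 | h0
    · rw [h0, mul_zero] at ht
      have := hr.two_le
      omega
    · exact h0
  have hdegle : ∀ m : Multiset T, Multiset.card m ≤ N → i * Multiset.card m ≤ n := fun m hm =>
    (Nat.mul_le_mul_left i hm).trans (Nat.mul_div_le n i)
  set poly : Multiset T → F[X] := fun m =>
    (X - C 1) ^ (n - i * Multiset.card m) * (m.map Subtype.val).prod with hpoly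
  have hfac : ∀ m : Multiset T, normalizedFactors (poly m) =
      Multiset.replicate (n - i * Multiset.card m) (X - C 1) + m.map Subtype.val := by
    intro m
    have e : poly m = (Multiset.replicate (n - i * Multiset.card m) (X - C 1) + m.map Subtype.val).prod := by
      rw [Multiset.prod_add, Multiset.prod_replicate]
    rw [e, normalizedFactors_prod_eq]
    · rw [Multiset.map_add, Multiset.map_replicate, (monic_X_sub_C (1 : F)).normalize_eq_self,
        Multiset.map_map]
      congr 1
      exact Multiset.map_congr rfl fun s _ => (hTmon _ s.2).normalize_eq_self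
    · intro a ha
      rcases Multiset.mem_add.1 ha with ha | ha
      · rw [Multiset.eq_of_mem_replicate ha]; exact irreducible_X_sub_C 1
      · obtain ⟨s, -, rfl⟩ := Multiset.mem_map.1 ha
        exact hTirr _ s.2
  have hmonp : ∀ m, (poly m).Monic := fun m =>
    ((monic_X_sub_C 1).pow _).mul (monic_multiset_prod_of_monic _ _ fun s _ => hTmon _ s.2)
  have hdegp : ∀ m, Multiset.card m ≤ N → (poly m).natDegree = n := by
    intro m hm
    rw [hpoly, Monic.natDegree_mul ((monic_X_sub_C 1).pow _)
      (monic_multiset_prod_of_monic _ _ fun s _ => hTmon _ s.2), natDegree_pow, natDegree_X_sub_C,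
      mul_one, natDegree_multiset_prod_of_monic _ (fun s hs => by
        obtain ⟨a, -, rfl⟩ := Multiset.mem_map.1 hs; exact hTmon _ a.2), Multiset.map_map,
      Multiset.map_congr rfl (fun (s : T) _ => show (natDegree ∘ Subtype.val) s = i from hTdeg _ s.2), Multiset.map_const', Multiset.sum_replicate,
      smul_eq_mul, mul_comm (Multiset.card m)]
    have := hdegle m hm
    omega
  have h0p : ∀ m, (poly m).coeff 0 ≠ 0 := by
    intro m h
    have hX : (X : F[X]) ∈ normalizedFactors (poly m) :=
      (mem_normalizedFactors_iff' (hmonp m).ne_zero).2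
        ⟨irreducible_X, monic_X.normalize_eq_self, X_dvd_iff.2 h⟩
    rw [hfac] at hX
    have hd : (X : F[X]) ∣ X ^ r - 1 := by
      rcases Multiset.mem_add.1 hX with hX | hX
      · exact ((hdvd X monic_X irreducible_X).2 (Or.inl (Multiset.eq_of_mem_replicate hX)))
      · obtain ⟨s, -, hs⟩ := Multiset.mem_map.1 hX
        exact ((hdvd X monic_X irreducible_X).2 (Or.inr (hs ▸ s.2)))
    rw [X_dvd_iff] at hd
    simp [coeff_X_pow, hr.ne_zero.symm] at hd
  have hgex : ∀ m : {m : {m : Multiset T // Multiset.card m ≤ N} // m.1 ≠ 0},
      ∃ g : GL (Fin n) F, orderOf g = r ∧ (g : Matrix (Fin n) (Fin n) F).charpoly = poly m.1.1 := by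
    rintro ⟨⟨m, hm⟩, hm0⟩
    obtain ⟨g, hg, hgf⟩ := S2387.exists_semisimple p (poly m) (hmonp m) (hdegp m hm) (h0p m)
    refine ⟨g, orderOf_eq_prime ?_ ?_, hgf⟩
    · rw [pow_eq_one_iff_factors g hg, hgf, hfac]
      intro s hs
      rcases Multiset.mem_add.1 hs with hs | hs
      · rw [Multiset.eq_of_mem_replicate hs]
        exact (hdvd _ (monic_X_sub_C 1) (irreducible_X_sub_C 1)).2 (Or.inl rfl)
      · obtain ⟨a, -, rfl⟩ := Multiset.mem_map.1 hs
        exact (hdvd _ (hTmon _ a.2) (hTirr _ a.2)).2 (Or.inr a.2)
    · intro h1
      obtain ⟨a, ha⟩ := Multiset.exists_mem_of_ne_zero hm0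
      have hmem : (a : F[X]) ∈ normalizedFactors (g : Matrix (Fin n) (Fin n) F).charpoly := by
        rw [hgf, hfac]
        exact Multiset.mem_add.2 (Or.inr (Multiset.mem_map_of_mem _ ha))
      have := (pow_eq_one_iff_factors g hg 1).1 (by rw [pow_one, h1]) _ hmem
      rw [pow_one, ← map_one (C (R := F))] at this
      exact hcyc1 _ a.2 (eq_of_monic_of_associated (hTmon _ a.2) (monic_X_sub_C 1)
        ((hTirr _ a.2).associated_of_dvd (irreducible_X_sub_C 1) this))
  choose g hgr hgf using hgex
  have hcount : Nat.card {m : {m : Multiset T // Multiset.card m ≤ N} // m.1 ≠ 0} =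
      (N + t).choose t - 1 := by
    haveI : Finite {m : Multiset T // Multiset.card m ≤ N} := Nat.finite_of_card_ne_zero (by
      rw [card_multiset_le]; exact (Nat.choose_pos (Nat.le_add_left _ _)).ne')
    letI := Fintype.ofFinite {m : Multiset T // Multiset.card m ≤ N}
    rw [Nat.card_congr (Equiv.subtypeEquivRight (q := fun m : {m : Multiset T // Multiset.card m ≤ N} => m ≠ ⟨0, by simp⟩)
      fun m => ⟨fun h e => h (congrArg Subtype.val e), fun h e => h (Subtype.ext e)⟩),
      Nat.card_eq_fintype_card, Fintype.card_subtype_compl, Fintype.card_subtype_eq,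
      ← Nat.card_eq_fintype_card, card_multiset_le, Fintype.card_coe, hTcard, add_comm N t,
      Nat.choose_symm_add]
  rw [← hcount]
  symm
  refine Nat.card_eq_of_bijective (fun m => ⟨ConjClasses.mk (g m), g m, rfl, hgr m⟩) ⟨?_, ?_⟩
  · intro a b h
    obtain ⟨x, hx⟩ := isConj_iff.1 (ConjClasses.mk_eq_mk_iff_isConj.1 (congrArg Subtype.val h))
    have e := congrArg (fun z : GL (Fin n) F => (z : Matrix (Fin n) (Fin n) F).charpoly) hx
    simp only [Units.val_mul] at e
    rw [Matrix.charpoly_mul_comm, ← mul_assoc, ← Units.val_mul, inv_mul_cancel, Units.val_one,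
      one_mul, hgf, hgf] at e
    have e' := congrArg (fun f => (normalizedFactors f).filter (· ≠ X - C 1)) e
    have hflt : ∀ m : Multiset T, (normalizedFactors (poly m)).filter (· ≠ X - C 1) =
        m.map Subtype.val := by
      intro m
      rw [hfac, Multiset.filter_add, Multiset.filter_eq_nil.2 (fun s hs h => h (Multiset.eq_of_mem_replicate hs)),
        zero_add, Multiset.filter_eq_self]
      intro s hs
      obtain ⟨a, -, rfl⟩ := Multiset.mem_map.1 hs
      exact hcyc1 _ a.2
    rw [hflt, hflt] at e'
    exact Subtype.ext (Subtype.ext (Multiset.map_injective Subtype.val_injective e'))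
  · rintro ⟨C', x, rfl, hx⟩
    have hxc : (orderOf x).Coprime p := by rw [hx]; exact hpr.symm
    set K := normalizedFactors (x : Matrix (Fin n) (Fin n) F).charpoly with hK
    have hch := Matrix.charpoly_monic (x : Matrix (Fin n) (Fin n) F)
    have hKirr : ∀ s ∈ K, Irreducible s := fun s hs => irreducible_of_normalized_factor _ hs
    have hKmon : ∀ s ∈ K, s.Monic := fun s hs => by
      rw [← normalize_normalized_factor _ hs]; exact monic_normalize (hKirr s hs).ne_zero
    have hKT : ∀ s ∈ K.filter (· ≠ X - C 1), s ∈ T := by
      intro s hs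
      rw [Multiset.mem_filter] at hs
      have h := (pow_eq_one_iff_factors x hxc r).1 (by rw [← hx, pow_orderOf_eq_one]) s hs.1
      exact ((hdvd s (hKmon s hs.1) (hKirr s hs.1)).1 h).resolve_left hs.2
    set m : Multiset T := (K.filter (· ≠ X - C 1)).attach.map fun s => ⟨s.1, hKT s.1 s.2⟩ with hm
    have hmv : m.map Subtype.val = K.filter (· ≠ X - C 1) := by
      rw [hm, Multiset.map_map]
      exact Multiset.attach_map_val _
    have hKeq : Multiset.replicate (K.count (X - C 1)) (X - C 1) + m.map Subtype.val = K := by
      rw [hmv, ← Multiset.filter_eq']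
      exact Multiset.filter_add_not _ K
    have hprod : K.prod = (x : Matrix (Fin n) (Fin n) F).charpoly := by
      rw [hK, prod_normalizedFactors_eq hch.ne_zero, hch.normalize_eq_self]
    have hdeg : n = K.count (X - C 1) + i * Multiset.card m := by
      have h := congrArg natDegree hprod
      rw [Matrix.charpoly_natDegree_eq_dim, Fintype.card_fin] at h
      rw [← h, natDegree_multiset_prod_of_monic _ hKmon]
      conv_lhs => rw [← hKeq]
      rw [Multiset.map_add, Multiset.sum_add, Multiset.map_replicate, natDegree_X_sub_C,
        Multiset.sum_replicate, Multiset.map_map, Multiset.map_congr rfl (fun (s : T) _ => show (natDegree ∘ Subtype.val) s = i from hTdeg _ s.2),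
        Multiset.map_const', Multiset.sum_replicate, smul_eq_mul, smul_eq_mul, mul_one,
        mul_comm (Multiset.card m)]
    have hmN : Multiset.card m ≤ N := by
      rw [hN, Nat.le_div_iff_mul_le hi0, mul_comm]
      omega
    have hpolym : poly m = (x : Matrix (Fin n) (Fin n) F).charpoly := by
      rw [← hprod]
      conv_rhs => rw [← hKeq]
      rw [Multiset.prod_add, Multiset.prod_replicate]
      show (X - C 1) ^ (n - i * Multiset.card m) * _ = _
      rw [show n - i * Multiset.card m = K.count (X - C 1) by omega]
    have hm0 : m ≠ 0 := by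
      intro h
      have h1 : x ^ 1 = 1 := by
        rw [pow_eq_one_iff_factors x hxc]
        intro s hs
        rw [← hK, ← hKeq, h, Multiset.map_zero, add_zero] at hs
        rw [Multiset.eq_of_mem_replicate hs, pow_one, map_one]
      rw [pow_one] at h1
      rw [h1, orderOf_one] at hx
      exact hr.ne_one hx.symm
    refine ⟨⟨⟨m, hmN⟩, hm0⟩, Subtype.ext ?_⟩
    refine ConjClasses.mk_eq_mk_iff_isConj.2 (isConj_iff.2 ?_)
    refine exists_conj_of_matrix_charpoly_eq (p := p) _ _ ?_ hxc ?_
    · rw [hgr]; exact hpr.symm
    · rw [hgf, hpolym]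

end Cfsg.Agent.S2568
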