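import Cfsg.Statements.S2572
import Mathlib

set_option autoImplicit false
open Cfsg

namespace Cfsg.Agent.S2572

open Matrix

/-- Index type: first, middle, last. -/
abbrev Ix (m : ℕ) : Type := (Fin 1 ⊕ Fin m) ⊕ Fin 1

/-- The elementary nilpotent matrix in the first row and last column. -/
def corner (F : Type*) [Field F] (m : ℕ) : Matrix (Ix m) (Ix m) F :=
  Matrix.single (Sum.inl (Sum.inl 0)) (Sum.inr 0) 1

variable {F : Type*} [Field F] [Fintype F] {m : ℕ}

/-- Shape of a matrix commuting with the corner. -/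
def shape (d : F × F × (Fin m → F) × (Fin m → F) × Matrix (Fin m) (Fin m) F) : Matrix (Ix m) (Ix m) F :=
  Matrix.fromBlocks
    (Matrix.fromBlocks (Matrix.of fun _ _ => d.1) (Matrix.of fun _ j => d.2.2.1 j) 0 d.2.2.2.2)
    (Matrix.of fun i _ => Sum.elim (fun _ => d.2.1) d.2.2.2.1 i) 0 (Matrix.of fun _ _ => d.1)

theorem commute_iff (g : Matrix (Ix m) (Ix m) F) :
    g * corner F m = corner F m * g ↔ ∃ d, g = shape d := by
  classical
  constructor
  · intro h
    have key : ∀ i j, (g * corner F m) i j = (corner F m * g) i j := fun i j => by rw [h]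
    simp only [corner] at key
    refine ⟨(g (Sum.inl (Sum.inl 0)) (Sum.inl (Sum.inl 0)), g (Sum.inl (Sum.inl 0)) (Sum.inr 0),
      fun j => g (Sum.inl (Sum.inl 0)) (Sum.inl (Sum.inr j)),
      fun i => g (Sum.inl (Sum.inr i)) (Sum.inr 0),
      Matrix.of fun i j => g (Sum.inl (Sum.inr i)) (Sum.inl (Sum.inr j))), ?_⟩
    have hlast : ∀ j, g (Sum.inr 0) (Sum.inl j) = 0 := fun j => by
      have := key (Sum.inl (Sum.inl 0)) (Sum.inl j)
      rw [Matrix.single_mul_apply_same, Matrix.mul_single_apply_of_ne (hbj := by simp)] at this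
      simpa using this.symm
    have hcol : ∀ i, g (Sum.inl (Sum.inr i)) (Sum.inl (Sum.inl 0)) = 0 := fun i => by
      have := key (Sum.inl (Sum.inr i)) (Sum.inr 0)
      rw [Matrix.mul_single_apply_same, Matrix.single_mul_apply_of_ne _ _ _ _ _ (by simp)] at this
      simpa using this
    have hdiag : g (Sum.inl (Sum.inl 0)) (Sum.inl (Sum.inl 0)) = g (Sum.inr 0) (Sum.inr 0) := by
      have := key (Sum.inl (Sum.inl 0)) (Sum.inr 0)
      rw [Matrix.single_mul_apply_same, Matrix.mul_single_apply_same] at this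
      simpa using this
    ext i j
    rcases i with (i | i) | i <;> rcases j with (j | j) | j <;>
      simp [shape, Fin.fin_one_eq_zero, hlast, hcol, hdiag]
  · rintro ⟨d, rfl⟩
    simp only [corner]
    ext i j
    rcases i with (i | i) | i <;> rcases j with (j | j) | j <;>
      simp [shape, Matrix.mul_apply, Fintype.sum_sum_type, Matrix.single_apply, Fin.fin_one_eq_zero]

theorem shape_injective : Function.Injective (shape : _ → Matrix (Ix m) (Ix m) F) := by
  rintro ⟨a, c, r, s, A⟩ ⟨a', c', r', s', A'⟩ h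
  have h' := fun i j => congrFun (congrFun h i) j
  obtain rfl : a = a' := by simpa [shape] using h' (Sum.inr 0) (Sum.inr 0)
  obtain rfl : c = c' := by simpa [shape] using h' (Sum.inl (Sum.inl 0)) (Sum.inr 0)
  obtain rfl : r = r' := funext fun j => by simpa [shape] using h' (Sum.inl (Sum.inl 0)) (Sum.inl (Sum.inr j))
  obtain rfl : s = s' := funext fun j => by simpa [shape] using h' (Sum.inl (Sum.inr j)) (Sum.inr 0)
  obtain rfl : A = A' := Matrix.ext fun i j => by simpa [shape] using h' (Sum.inl (Sum.inr i)) (Sum.inl (Sum.inr j))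
  rfl

theorem det_shape (d : F × F × (Fin m → F) × (Fin m → F) × Matrix (Fin m) (Fin m) F) :
    (shape d).det = d.1 * d.2.2.2.2.det * d.1 := by
  simp [shape]

theorem card_centralizer_corner :
    Nat.card {g : GL (Ix m) F // (g : Matrix (Ix m) (Ix m) F) * corner F m = corner F m * g} =
      Fintype.card F ^ (2 * m + 1) * (Fintype.card F - 1) * Nat.card (GL (Fin m) F) := by
  classical
  have e : Fˣ × F × (Fin m → F) × (Fin m → F) × GL (Fin m) F ≃
      {g : GL (Ix m) F // (g : Matrix (Ix m) (Ix m) F) * corner F m = corner F m * g} := by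
    refine Equiv.ofBijective (fun d => ⟨((Matrix.isUnit_iff_isUnit_det
      (shape ((d.1 : F), d.2.1, d.2.2.1, d.2.2.2.1, (d.2.2.2.2 : Matrix (Fin m) (Fin m) F)))).2 ?_).unit, ?_⟩) ⟨?_, ?_⟩
    · rw [det_shape]
      exact (d.1.isUnit.mul ((Matrix.isUnit_iff_isUnit_det _).1 d.2.2.2.2.isUnit)).mul d.1.isUnit
    · exact (commute_iff _).2 ⟨_, rfl⟩
    · rintro ⟨a, c, r, s, A⟩ ⟨a', c', r', s', A'⟩ h
      have h' := shape_injective (congrArg (fun g => ((g : {g : GL (Ix m) F //
        (g : Matrix (Ix m) (Ix m) F) * corner F m = corner F m * g}).1 : Matrix (Ix m) (Ix m) F)) h)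
      simp only [Prod.mk.injEq] at h'
      obtain ⟨h1, rfl, rfl, rfl, h5⟩ := h'
      rw [Units.ext h1, Units.ext h5]
    · rintro ⟨g, hg⟩
      obtain ⟨⟨a, c, r, s, A⟩, hd⟩ := (commute_iff _).1 hg
      have hu := (Matrix.isUnit_iff_isUnit_det _).1 g.isUnit
      rw [hd, det_shape, isUnit_iff_ne_zero] at hu
      have ha : a ≠ 0 := fun h => hu (by simp [h])
      have hA : IsUnit A.det := isUnit_iff_ne_zero.2 fun h => hu (by simp [h])
      exact ⟨(Units.mk0 a ha, c, r, s, ((Matrix.isUnit_iff_isUnit_det A).2 hA).unit),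
        Subtype.ext (Units.ext hd.symm)⟩
  rw [← Nat.card_congr e]
  rw [Nat.card_prod, Nat.card_prod, Nat.card_prod, Nat.card_prod]
  simp only [Nat.card_eq_fintype_card, Fintype.card_units, Fintype.card_fun, Fintype.card_fin]
  ring

set_option maxHeartbeats 1000000 in
theorem exists_basis {n : ℕ} (hn : n = m + 2) (N : Matrix (Fin n) (Fin n) F) (hr : N.rank = 1)
    (h2 : N * N = 0) : ∃ b : Module.Basis (Ix m) F (Fin n → F),
      LinearMap.toMatrixAlgEquiv b (Matrix.toLinAlgEquiv' N) = corner F m := by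
  classical
  obtain ⟨u₀, hu₀, hu₀1⟩ := finrank_eq_one_iff'.1 (show Module.finrank F (LinearMap.range N.mulVecLin) = 1 from hr)
  set u : Fin n → F := (u₀ : Fin n → F)
  have hu : u ≠ 0 := fun h => hu₀ (Subtype.ext h)
  obtain ⟨w, hw⟩ : ∃ w, N *ᵥ w = u := u₀.2
  choose c hc using fun x => hu₀1 ⟨N *ᵥ x, ⟨x, rfl⟩⟩
  have hc' : ∀ x, c x • u = N *ᵥ x := fun x => congrArg Subtype.val (hc x)
  let φ : (Fin n → F) →ₗ[F] F :=
    { toFun := c
      map_add' := fun x y => smul_left_injective F hu (by
        show c (x + y) • u = (c x + c y) • u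
        rw [add_smul, hc', hc', hc', mulVec_add])
      map_smul' := fun a x => smul_left_injective F hu (by
        show c (a • x) • u = (a • c x) • u
        rw [smul_eq_mul, mul_smul, hc', hc', mulVec_smul]) }
  have hφ : ∀ x, N *ᵥ x = φ x • u := fun x => (hc' x).symm
  have hw1 : φ w = 1 := smul_left_injective F hu (by
    show φ w • u = (1 : F) • u
    rw [← hφ, hw, one_smul])
  have hφu : φ u = 0 := smul_left_injective F hu (by
    show φ u • u = (0 : F) • u
    rw [← hφ, zero_smul, ← hw, mulVec_mulVec, h2, zero_mulVec])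
  obtain ⟨C, hC⟩ := Submodule.exists_isCompl (Submodule.span F ({⟨u, hφu⟩} : Set (LinearMap.ker φ)))
  have hker : Module.finrank F (LinearMap.ker φ) + 1 = n := by
    have := LinearMap.finrank_range_add_finrank_ker φ
    rw [LinearMap.range_eq_top.2 (fun a => ⟨a • w, by rw [map_smul, hw1, smul_eq_mul, mul_one]⟩),
      finrank_top, Module.finrank_self, Module.finrank_fin_fun] at this
    omega
  have hCdim : Module.finrank F C = m := by
    have := Submodule.finrank_add_eq_of_isCompl hC
    have h1 : (⟨u, hφu⟩ : LinearMap.ker φ) ≠ 0 := fun h => hu (congrArg Subtype.val h)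
    rw [finrank_span_singleton h1] at this
    omega
  haveI : Module.Free F C := Module.Free.of_divisionRing F C
  let bC := (Module.finBasisOfFinrankEq F C hCdim)
  let v : Ix m → (Fin n → F) := Sum.elim (Sum.elim (fun _ => u) (fun j => ((bC j : LinearMap.ker φ) : Fin n → F))) (fun _ => w)
  have hφv : ∀ i, φ (v i) = if i = Sum.inr 0 then 1 else 0 := by
    rintro ((i | i) | i)
    · simpa [v] using hφu
    · simpa [v] using (bC i : LinearMap.ker φ).2
    · simpa [v, Fin.fin_one_eq_zero] using hw1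
  have hli : LinearIndependent F v := by
    rw [Fintype.linearIndependent_iff]
    intro g hg
    have hlast : g (Sum.inr 0) = 0 := by
      have := congrArg φ hg
      simpa [map_sum, hφv] using this
    have hsum : g (Sum.inl (Sum.inl 0)) • (⟨u, hφu⟩ : LinearMap.ker φ) +
        ((∑ j, g (Sum.inl (Sum.inr j)) • bC j : C) : LinearMap.ker φ) = 0 := by
      apply Subtype.ext
      simp only [Fintype.sum_sum_type, Fin.sum_univ_one, v, Sum.elim_inl, Sum.elim_inr, hlast,
        zero_smul, add_zero] at hg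
      simpa using hg
    have h1 : g (Sum.inl (Sum.inl 0)) • (⟨u, hφu⟩ : LinearMap.ker φ) = 0 := by
      refine (Submodule.disjoint_def.1 hC.disjoint) _
        (Submodule.smul_mem _ _ (Submodule.mem_span_singleton_self _)) ?_
      rw [eq_neg_of_add_eq_zero_left hsum]
      exact neg_mem (Subtype.mem _)
    rw [h1, zero_add] at hsum
    have h0 : (∑ j, g (Sum.inl (Sum.inr j)) • bC j : C) = 0 := ZeroMemClass.coe_eq_zero.1 hsum
    have h3 : ∀ j, g (Sum.inl (Sum.inr j)) = 0 := fun j => by
      have := congrFun (bC.repr_sum_self fun j => g (Sum.inl (Sum.inr j))) j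
      rw [h0] at this
      simpa using this.symm
    rintro ((i | i) | i)
    · rw [Fin.fin_one_eq_zero i]
      exact (smul_eq_zero.1 h1).resolve_right (fun h => hu (congrArg Subtype.val h))
    · exact h3 i
    · rw [Fin.fin_one_eq_zero i]; exact hlast
  haveI : Nonempty (Ix m) := ⟨Sum.inr 0⟩
  let b := basisOfLinearIndependentOfCardEqFinrank hli (by
    rw [Module.finrank_fin_fun]
    simp only [Fintype.card_sum, Fintype.card_fin]
    omega)
  have hb : ∀ i, b i = v i := fun i => by simp [b]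
  refine ⟨b, ?_⟩
  ext i j
  rw [LinearMap.toMatrixAlgEquiv_apply, Matrix.toLinAlgEquiv'_apply, hφ, hb, hφv,
    show u = b (Sum.inl (Sum.inl 0)) by rw [hb]; rfl, map_smul, b.repr_self, Finsupp.smul_single,
    Finsupp.single_apply, corner, Matrix.single_apply]
  by_cases h1 : Sum.inl (Sum.inl 0) = i <;> by_cases h2 : j = Sum.inr 0 <;>
    simp [h1, h2, eq_comm (a := (Sum.inr 0 : Ix m))]

/-- Centraliser of a transvection in GL_n(q), n ≥ 2: if t − 1 has rank one and square zero, the centraliser of t in GL_n(q) has order q^(2n−3) (q − 1) |GL_(n−2)(q)| (a group of order q^(2n−3) extended by GL_1(q) × GL_(n−2)(q)). -/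
theorem result {F : Type*} [Field F] [Fintype F] {q n : ℕ} (hF : Fintype.card F = q) (hn : 2 ≤ n) (t : GL (Fin n) F) (ht : Cfsg.IsTransvection (t : Matrix (Fin n) (Fin n) F)) : Nat.card ↥(Subgroup.centralizer ({t} : Set (GL (Fin n) F))) = q ^ (2 * n - 3) * (q - 1) * ∏ i : Fin (n - 2), (q ^ (n - 2) - q ^ (i : ℕ)) := by
  classical
  obtain ⟨m, rfl⟩ : ∃ m, n = m + 2 := ⟨n - 2, by omega⟩
  obtain ⟨b, hb⟩ := exists_basis rfl _ ht.1 ht.2
  let Ψ : Matrix (Fin (m + 2)) (Fin (m + 2)) F ≃ₐ[F] Matrix (Ix m) (Ix m) F :=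
    (Matrix.toLinAlgEquiv').trans (LinearMap.toMatrixAlgEquiv b)
  have hΨ : Ψ (t : Matrix (Fin (m + 2)) (Fin (m + 2)) F) = 1 + corner F m := by
    rw [show (t : Matrix (Fin (m + 2)) (Fin (m + 2)) F) = 1 + ((t : Matrix (Fin (m + 2)) (Fin (m + 2)) F) - 1) from
      (add_sub_cancel 1 _).symm, map_add, map_one]
    congr 1
  let U : GL (Fin (m + 2)) F ≃* GL (Ix m) F := Units.mapEquiv Ψ.toMulEquiv
  have e : ↥(Subgroup.centralizer ({t} : Set (GL (Fin (m + 2)) F))) ≃
      {g : GL (Ix m) F // (g : Matrix (Ix m) (Ix m) F) * corner F m = corner F m * g} := by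
    refine U.toEquiv.subtypeEquiv fun g => ?_
    rw [Subgroup.mem_centralizer_singleton_iff, ← U.injective.eq_iff, map_mul, map_mul, Units.ext_iff,
      Units.val_mul, Units.val_mul]
    show Ψ _ * Ψ _ = Ψ _ * Ψ _ ↔ Ψ _ * _ = _ * Ψ _
    rw [hΨ, mul_add, add_mul, mul_one, one_mul, add_right_inj]
  rw [Nat.card_congr e, card_centralizer_corner, hF, Matrix.card_GL_field, hF,
    show 2 * (m + 2) - 3 = 2 * m + 1 by omega]
  rfl

end Cfsg.Agent.S2572
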