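import Cfsg.Statements.S2573

set_option autoImplicit false
open Cfsg

namespace Cfsg.Agent.S2573

/-- The invariant subspaces of a regular unipotent matrix form a chain: over a finite field, if u is an n × n matrix with (u − 1)^n = 0 and rank(u − 1) = n − 1, then every subspace W of F^n with u W ⊆ W is the kernel of (u − 1)^(dim W); so u has at most one invariant subspace of each dimension. -/
theorem result {F : Type*} [Field F] [Finite F] {n : ℕ} (u : Matrix (Fin n) (Fin n) F) (hnil : (u - 1) ^ n = 0) (hreg : (u - 1).rank = n - 1) (W : Submodule F (Fin n → F)) (hW : ∀ v ∈ W, u.mulVec v ∈ W) : W = LinearMap.ker (Matrix.mulVecLin ((u - 1) ^ Module.finrank F W)) := by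
  classical
  set N : Module.End F (Fin n → F) := Matrix.mulVecLin (u - 1) with hN
  have hNW : ∀ w ∈ W, N w ∈ W := fun w hw => by
    simp only [hN, Matrix.mulVecLin_apply, Matrix.sub_mulVec, Matrix.one_mulVec]
    exact W.sub_mem (hW w hw) hw
  have hpow : ∀ k : ℕ, Matrix.mulVecLin ((u - 1) ^ k) = N ^ k := by
    intro k
    induction k with
    | zero => simp [Matrix.mulVecLin_one, Module.End.one_eq_id]
    | succ k ih => rw [pow_succ, Matrix.mulVecLin_mul, ih, pow_succ]; rfl
  rw [hpow]
  set d := Module.finrank F W with hd
  have hnilW : (N.restrict hNW) ^ d = 0 := by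
    have h1 : IsNilpotent (N.restrict hNW) := ⟨n, LinearMap.ext fun w => Subtype.ext (by
      rw [Module.End.pow_restrict n, LinearMap.restrict_coe_apply, LinearMap.zero_apply, Submodule.coe_zero,
        ← hpow, hnil, Matrix.mulVecLin_zero, LinearMap.zero_apply])⟩
    have h2 := LinearMap.aeval_self_charpoly (N.restrict hNW)
    have h3 : (N.restrict hNW).charpoly = Polynomial.X ^ d :=
      ((LinearMap.charpoly_nilpotent_tfae (N.restrict hNW)).out 0 1).mp h1
    rw [h3] at h2
    simpa using h2
  have hle : W ≤ LinearMap.ker (N ^ d) := fun w hw => by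
    have h1 := congrArg Subtype.val (LinearMap.congr_fun hnilW (⟨w, hw⟩ : W))
    rw [Module.End.pow_restrict d, LinearMap.restrict_coe_apply] at h1
    exact h1
  have hker1 : Module.finrank F (LinearMap.ker N) ≤ 1 := by
    have h1 := LinearMap.finrank_range_add_finrank_ker N
    rw [Module.finrank_fin_fun] at h1
    have h2 : Module.finrank F (LinearMap.range N) = n - 1 := hreg
    omega
  have hdim : ∀ k : ℕ, Module.finrank F (LinearMap.ker (N ^ k)) ≤ k := by
    intro k
    induction k with
    | zero => simp [Module.End.one_eq_id]
    | succ k ih =>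
      have hmap : ∀ x ∈ LinearMap.ker (N ^ (k + 1)), N x ∈ LinearMap.ker (N ^ k) := fun x hx => by
        rw [LinearMap.mem_ker] at hx ⊢
        rwa [pow_succ, Module.End.mul_apply] at hx
      have h1 := LinearMap.finrank_range_add_finrank_ker (N.restrict hmap)
      have h2 : Module.finrank F (LinearMap.range (N.restrict hmap)) ≤ k := (Submodule.finrank_le _).trans ih
      let i : LinearMap.ker (N.restrict hmap) →ₗ[F] LinearMap.ker N :=
        ((LinearMap.ker (N ^ (k + 1))).subtype.comp (LinearMap.ker (N.restrict hmap)).subtype).codRestrict _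
          fun z => LinearMap.mem_ker.mpr (congrArg Subtype.val (LinearMap.mem_ker.mp z.2))
      have hi : Function.Injective i := fun a b h => by
        have h4 : ((i a : LinearMap.ker N) : Fin n → F) = (i b : LinearMap.ker N) := by rw [h]
        exact Subtype.ext (Subtype.ext h4)
      have h3 := (LinearMap.finrank_le_finrank_of_injective hi).trans hker1
      omega
  exact Submodule.eq_of_le_of_finrank_le hle (hdim d)

end Cfsg.Agent.S2573
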