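import Cfsg.Statements.S2574

set_option autoImplicit false
open Cfsg

namespace Cfsg.Agent.S2574

open Matrix Module

theorem finrank_ker_comp_le {K V : Type*} [Field K] [AddCommGroup V] [Module K V] [FiniteDimensional K V]
    (f g : V →ₗ[K] V) : finrank K (LinearMap.ker (g ∘ₗ f)) ≤ finrank K (LinearMap.ker f) + finrank K (LinearMap.ker g) := by
  set r := f.domRestrict (LinearMap.ker (g ∘ₗ f)) with hr
  have h := LinearMap.finrank_range_add_finrank_ker r
  have h1 : finrank K (LinearMap.range r) ≤ finrank K (LinearMap.ker g) := by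
    refine Submodule.finrank_mono ?_
    rintro _ ⟨⟨x, hx⟩, rfl⟩
    exact hx
  have h2 : finrank K (LinearMap.ker r) ≤ finrank K (LinearMap.ker f) := by
    refine LinearMap.finrank_le_finrank_of_injective
      (f := ((LinearMap.ker (g ∘ₗ f)).subtype.comp (LinearMap.ker r).subtype).codRestrict
        (LinearMap.ker f) (fun x => x.2)) ?_
    intro x y hxy
    have h' := congrArg Subtype.val hxy
    exact Subtype.ext (Subtype.ext h')
  omega

/-- A regular unipotent element of the symplectic group has totally isotropic small invariant subspaces: over a finite field, if u ∈ Sp_2m(F) satisfies (u − 1)^(2m) = 0 and rank(u − 1) = 2m − 1, and W is a u-invariant subspace with 2 dim W ≤ 2m, then the alternating form vanishes identically on W. -/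
theorem result {F : Type*} [Field F] [Finite F] {m : ℕ} (u : Matrix.symplecticGroup (Fin m) F) (hnil : ((u : Matrix (Fin m ⊕ Fin m) (Fin m ⊕ Fin m) F) - 1) ^ (2 * m) = 0) (hreg : ((u : Matrix (Fin m ⊕ Fin m) (Fin m ⊕ Fin m) F) - 1).rank = 2 * m - 1) (W : Submodule F (Fin m ⊕ Fin m → F)) (hW : ∀ v ∈ W, (u : Matrix (Fin m ⊕ Fin m) (Fin m ⊕ Fin m) F).mulVec v ∈ W) (hdim : 2 * Module.finrank F W ≤ 2 * m) : ∀ v ∈ W, ∀ w ∈ W, Cfsg.sympForm m F v w = 0 := by
  classical
  set U : Matrix (Fin m ⊕ Fin m) (Fin m ⊕ Fin m) F := (u : Matrix (Fin m ⊕ Fin m) (Fin m ⊕ Fin m) F)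
    with hU
  set N := U - 1 with hN
  have hdimV : finrank F (Fin m ⊕ Fin m → F) = 2 * m := by simp [two_mul]
  rcases Nat.eq_zero_or_pos m with rfl | hm
  · intro v _ w _
    simp [Cfsg.sympForm, dotProduct]
  have hker1 : finrank F (LinearMap.ker N.mulVecLin) = 1 := by
    have h := LinearMap.finrank_range_add_finrank_ker N.mulVecLin
    rw [hdimV] at h
    have : finrank F (LinearMap.range N.mulVecLin) = 2 * m - 1 := hreg
    omega
  have hstep : ∀ a b : ℕ, finrank F (LinearMap.ker (N ^ (a + b)).mulVecLin) ≤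
      finrank F (LinearMap.ker (N ^ a).mulVecLin) + finrank F (LinearMap.ker (N ^ b).mulVecLin) := by
    intro a b
    rw [add_comm a b, pow_add, Matrix.mulVecLin_mul]
    exact finrank_ker_comp_le _ _
  have hle : ∀ j, finrank F (LinearMap.ker (N ^ j).mulVecLin) ≤ j := by
    intro j
    induction j with
    | zero =>
      rw [pow_zero, Matrix.mulVecLin_one, LinearMap.ker_id, finrank_bot]
    | succ j ih =>
      have := hstep j 1
      rw [pow_one, hker1] at this
      omega
  have htop : finrank F (LinearMap.ker (N ^ (m + m)).mulVecLin) = 2 * m := by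
    rw [← two_mul, hnil, Matrix.mulVecLin_zero, LinearMap.ker_zero, finrank_top, hdimV]
  have hkm : finrank F (LinearMap.ker (N ^ m).mulVecLin) = m := by
    have := hle m
    have := hstep m m
    omega
  have hrange : LinearMap.ker (N ^ m).mulVecLin = LinearMap.range (N ^ m).mulVecLin := by
    refine (Submodule.eq_of_le_of_finrank_eq ?_ ?_).symm
    · rintro _ ⟨x, rfl⟩
      rw [LinearMap.mem_ker, Matrix.mulVecLin_apply, Matrix.mulVecLin_apply, Matrix.mulVec_mulVec,
        ← pow_add, ← two_mul, hnil, Matrix.zero_mulVec]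
    · have h := LinearMap.finrank_range_add_finrank_ker (N ^ m).mulVecLin
      rw [hdimV, hkm] at h
      omega
  -- `W` lies in the middle kernel
  have hWk : W ≤ LinearMap.ker (N ^ m).mulVecLin := by
    have hNW : ∀ v ∈ W, N.mulVecLin v ∈ W := by
      intro v hv
      rw [Matrix.mulVecLin_apply, hN, Matrix.sub_mulVec, Matrix.one_mulVec]
      exact W.sub_mem (hW v hv) hv
    set φ : Module.End F W := N.mulVecLin.restrict hNW with hφ
    have hpw : ∀ (k : ℕ) (v : W), ((φ ^ k) v : Fin m ⊕ Fin m → F) = (N ^ k).mulVecLin v := by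
      intro k
      induction k with
      | zero => intro v; simp
      | succ k ih =>
        intro v
        rw [pow_succ, Module.End.mul_apply, ih, pow_succ, Matrix.mulVecLin_mul]
        rfl
    have hnilp : IsNilpotent φ := ⟨2 * m, LinearMap.ext fun v => Subtype.ext (by
      rw [hpw, hnil]; simp)⟩
    have hch : φ ^ finrank F W = 0 := by
      have h := LinearMap.aeval_self_charpoly φ
      have hcp : φ.charpoly = Polynomial.X ^ finrank F W :=
        ((LinearMap.charpoly_nilpotent_tfae φ).out 0 1).1 hnilp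
      rwa [hcp, map_pow, Polynomial.aeval_X] at h
    intro v hv
    have hz := congrArg Subtype.val (LinearMap.congr_fun hch ⟨v, hv⟩)
    rw [hpw] at hz
    have e : N ^ m = N ^ (m - finrank F W) * N ^ finrank F W := by
      rw [← pow_add, Nat.sub_add_cancel (by omega)]
    rw [LinearMap.mem_ker, e, Matrix.mulVecLin_mul, LinearMap.comp_apply]
    show ((N ^ (m - finrank F W)).mulVecLin) ((N ^ finrank F W).mulVecLin v) = 0
    rw [hz]
    exact map_zero _
  -- the adjoint of `u - 1`
  have hJ : U.transpose * J (Fin m) F * U = J (Fin m) F := SymplecticGroup.mem_iff'.1 u.2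
  set U' : Matrix (Fin m ⊕ Fin m) (Fin m ⊕ Fin m) F :=
    ((u⁻¹ : Matrix.symplecticGroup (Fin m) F) : Matrix (Fin m ⊕ Fin m) (Fin m ⊕ Fin m) F) with hU'
  have h1 : U * U' = 1 := congrArg Subtype.val (mul_inv_cancel u)
  have h2 : U' * U = 1 := congrArg Subtype.val (inv_mul_cancel u)
  have hUJ : U.transpose * J (Fin m) F = J (Fin m) F * U' := by
    calc U.transpose * J (Fin m) F = U.transpose * J (Fin m) F * (U * U') := by rw [h1, mul_one]
      _ = J (Fin m) F * U' := by rw [← mul_assoc, hJ]
  have hsemi : SemiconjBy (J (Fin m) F) (U' - 1) N.transpose := by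
    show J (Fin m) F * (U' - 1) = N.transpose * J (Fin m) F
    rw [hN, Matrix.transpose_sub, Matrix.transpose_one, mul_sub, sub_mul, mul_one, one_mul, hUJ]
  have hneg : U' - 1 = -U' * N := by
    rw [hN, neg_mul, mul_sub, mul_one, h2, neg_sub]
  have hcomm : Commute (-U') N := by
    show -U' * (U - 1) = (U - 1) * -U'
    rw [mul_sub, sub_mul, neg_mul, mul_neg, h1, h2, mul_one, one_mul]
  intro v hv w hw
  have hv' := hWk hv
  rw [hrange] at hv'
  obtain ⟨x, rfl⟩ := hv'
  have hw' : (N ^ m) *ᵥ w = 0 := hWk hw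
  show ((N ^ m) *ᵥ x) ⬝ᵥ (J (Fin m) F *ᵥ w) = 0
  rw [dotProduct_comm, Matrix.dotProduct_mulVec, ← Matrix.mulVec_transpose, Matrix.transpose_pow,
    Matrix.mulVec_mulVec, ← (hsemi.pow_right m).eq, hneg, hcomm.mul_pow, ← Matrix.mulVec_mulVec,
    ← Matrix.mulVec_mulVec, hw', Matrix.mulVec_zero, Matrix.mulVec_zero, zero_dotProduct]

end Cfsg.Agent.S2574
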