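import Cfsg.Statements.S2575
import Mathlib

set_option autoImplicit false
open Cfsg

namespace Cfsg.Agent.S2575

/-- Which diagonal involutions of PGL_n(q) lie in PSL_n(q), q odd: for the diagonal matrix t with i entries −1 and n − i entries 1, some non-zero scalar multiple of t has determinant one if and only if i is even or the 2-part of q − 1 exceeds the 2-part of n (that is, −1 is an n-th power in the field exactly in the latter case). -/
theorem result {F : Type*} [Field F] [Fintype F] {q : ℕ} (hF : Fintype.card F = q) (hq : Odd q) {n : ℕ} (hn : 1 ≤ n) (i : ℕ) (hi : i ≤ n) : (∃ c : F, c ≠ 0 ∧ (c • Matrix.diagonal (fun j : Fin n => if (j : ℕ) < i then (-1 : F) else 1)).det = 1) ↔ (Even i ∨ padicValNat 2 n < padicValNat 2 (q - 1)) := by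
  classical
  haveI : Fact (Nat.Prime 2) := ⟨Nat.prime_two⟩
  have hdet : ∀ c : F, (c • Matrix.diagonal (fun j : Fin n => if (j : ℕ) < i then (-1 : F) else 1)).det = c ^ n * (-1) ^ i := by
    intro c
    rw [Matrix.det_smul, Fintype.card_fin, Matrix.det_diagonal, Finset.prod_ite, Finset.prod_const,
      Finset.prod_const_one, mul_one]
    congr 2
    rw [Fin.card_filter_val_lt]
    omega
  simp only [hdet]
  rcases Nat.even_or_odd i with he | ho
  · simp only [he, true_or, iff_true]
    exact ⟨1, one_ne_zero, by rw [one_pow, one_mul, he.neg_one_pow]⟩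
  have hne : (-1 : F) ≠ 1 := by
    refine Ring.neg_one_ne_one_of_char_ne_two (fun h => ?_)
    have h2 := (FiniteField.even_card_iff_char_two (F := F)).1 h
    rw [hF] at h2
    obtain ⟨r, hr⟩ := hq
    omega
  simp only [Nat.not_even_iff_odd.2 ho, false_or, ho.neg_one_pow, mul_neg, mul_one, neg_eq_iff_eq_neg]
  have hq2 : 2 ≤ q := hF ▸ Fintype.one_lt_card
  set b := padicValNat 2 (q - 1) with hb
  set a := padicValNat 2 n with ha
  obtain ⟨n', hn'⟩ : 2 ^ a ∣ n := pow_padicValNat_dvd
  obtain ⟨m, hm⟩ : 2 ^ b ∣ q - 1 := pow_padicValNat_dvd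
  have hmodd : Odd m := by
    rw [← Nat.not_even_iff_odd]
    rintro ⟨s, hs⟩
    exact pow_succ_padicValNat_not_dvd (p := 2) (show q - 1 ≠ 0 by omega) ⟨s, by rw [← hb, hm, hs, pow_succ]; ring⟩
  have hn'odd : Odd n' := by
    rw [← Nat.not_even_iff_odd]
    rintro ⟨s, hs⟩
    exact pow_succ_padicValNat_not_dvd (p := 2) (show n ≠ 0 by omega) ⟨s, by rw [← ha, hn', hs, pow_succ]; ring⟩
  constructor
  · rintro ⟨c, hc, hcn⟩
    by_contra hab
    have h1 : (c ^ n) ^ m = 1 := by
      obtain ⟨d, hd⟩ := Nat.exists_eq_add_of_le (not_lt.1 hab)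
      rw [← pow_mul, show n * m = (q - 1) * (2 ^ d * n') by rw [hn', hm, hd, pow_add]; ring, pow_mul,
        ← hF, FiniteField.pow_card_sub_one_eq_one c hc, one_pow]
    rw [hcn, hmodd.neg_one_pow] at h1
    exact hne h1
  · intro hab
    obtain ⟨g, hg⟩ := IsCyclic.exists_ofOrder_eq_natCard (α := Fˣ)
    have hcard : Nat.card Fˣ = q - 1 := by rw [Nat.card_units, Nat.card_eq_fintype_card, hF]
    have hd : 2 ^ (a + 1) ∣ orderOf g := by
      rw [hg, hcard]; exact (pow_dvd_pow 2 (by omega)).trans pow_padicValNat_dvd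
    set c := g ^ (orderOf g / 2 ^ (a + 1))
    have hc : orderOf c = 2 ^ (a + 1) := orderOf_pow_orderOf_div (orderOf_pos g).ne' hd
    have h2 : ((c : F) ^ 2 ^ a) ^ 2 = 1 := by
      rw [← pow_mul, ← pow_succ, ← Units.val_pow_eq_pow_val, ← hc, pow_orderOf_eq_one, Units.val_one]
    have h1 : (c : F) ^ 2 ^ a ≠ 1 := by
      intro h
      have := orderOf_dvd_of_pow_eq_one (show c ^ 2 ^ a = 1 from Units.ext (by simpa using h))
      rw [hc, Nat.pow_dvd_pow_iff_le_right one_lt_two] at this
      omega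
    refine ⟨c, c.ne_zero, ?_⟩
    rw [hn', pow_mul, (sq_eq_one_iff.1 h2).resolve_left h1, hn'odd.neg_one_pow]

end Cfsg.Agent.S2575
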