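import Cfsg.Statements.S2576
import Mathlib

set_option autoImplicit false
open Cfsg

namespace Cfsg.Agent.S2576

/-- Which involutions of PGL_2m(q) coming from a scalar of the quadratic extension field lie in PSL_2m(q), q odd: let μ generate the Sylow 2-subgroup of the multiplicative group of the field with q elements (μ has order the 2-part of q − 1) and let t be the block-diagonal matrix with m diagonal blocks [[0, 1], [μ, 0]] (so t² is the scalar μ and t is an involution modulo scalars). Then some non-zero scalar multiple of t has determinant one if and only if q ≡ 3 (mod 4) or the 2-part of q − 1 is less than the 2-part of 2m. -/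
theorem result {F : Type*} [Field F] [Fintype F] {q : ℕ} (hF : Fintype.card F = q) (hq : Odd q) {m : ℕ} (hm : 1 ≤ m) (μ : F) (hμ : orderOf μ = 2 ^ padicValNat 2 (q - 1)) : (∃ c : F, c ≠ 0 ∧ (c • Matrix.blockDiagonal (fun _ : Fin m => !![(0 : F), 1; μ, 0])).det = 1) ↔ (q % 4 = 3 ∨ padicValNat 2 (q - 1) < padicValNat 2 (2 * m)) := by
  classical
  haveI : Fact (Nat.Prime 2) := ⟨Nat.prime_two⟩
  have hdet : ∀ c : F, (c • Matrix.blockDiagonal (fun _ : Fin m => !![(0 : F), 1; μ, 0])).det = c ^ (2 * m) * (-μ) ^ m := by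
    intro c
    rw [Matrix.det_smul, Matrix.det_blockDiagonal, Finset.prod_const, Finset.card_univ]
    simp [Matrix.det_fin_two, Fintype.card_fin]
  simp only [hdet]
  have hq2 : 2 ≤ q := hF ▸ Fintype.one_lt_card
  set b := padicValNat 2 (q - 1) with hb
  obtain ⟨M, hM⟩ : 2 ^ b ∣ q - 1 := pow_padicValNat_dvd
  have hMns : ∀ s, M ≠ 2 * s := fun s hs =>
    pow_succ_padicValNat_not_dvd (p := 2) (show q - 1 ≠ 0 by omega) ⟨s, by rw [← hb, hM, hs, pow_succ]; ring⟩
  have hb1 : 1 ≤ b := by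
    by_contra h
    obtain ⟨r, hr⟩ := hq
    rw [show b = 0 by omega, pow_zero, one_mul] at hM
    exact hMns r (by omega)
  set a := padicValNat 2 (2 * m) with ha
  obtain ⟨m', hm'⟩ : 2 ^ a ∣ 2 * m := pow_padicValNat_dvd
  have hm'ns : ∀ s, m' ≠ 2 * s := fun s hs =>
    pow_succ_padicValNat_not_dvd (p := 2) (show 2 * m ≠ 0 by omega) ⟨s, by rw [← ha, hm', hs, pow_succ]; ring⟩
  have ha1 : 1 ≤ a := by
    by_contra h
    rw [show a = 0 by omega, pow_zero, one_mul] at hm'
    exact hm'ns m hm'.symm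
  have hq4 : q % 4 = 3 ↔ b = 1 := by
    constructor
    · intro h
      by_contra hb2
      obtain ⟨c, hc⟩ : 2 ^ 2 ∣ q - 1 := (pow_dvd_pow 2 (show 2 ≤ b by omega)).trans ⟨M, hM⟩
      omega
    · intro h
      rw [h, pow_one] at hM
      obtain ⟨s, hs⟩ : ∃ s, M = 2 * s + 1 := ⟨M / 2, by have := hMns (M / 2); omega⟩
      omega
  constructor
  · rintro ⟨c, hc, hcd⟩
    rw [hq4]
    by_contra hno
    push Not at hno
    obtain ⟨hb2, hab⟩ := hno
    -- the twisted generator
    have hprim : IsPrimitiveRoot μ (2 ^ b) := hμ ▸ IsPrimitiveRoot.orderOf μ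
    haveI : NeZero (2 ^ b) := ⟨by positivity⟩
    have hneg : (-1 : F) = μ ^ 2 ^ (b - 1) := by
      have h2 : (μ ^ 2 ^ (b - 1)) ^ 2 = 1 := by
        rw [← pow_mul, ← pow_succ, Nat.sub_add_cancel hb1, hprim.pow_eq_one]
      have h1 : μ ^ 2 ^ (b - 1) ≠ 1 := fun h => by
        have := (hprim.pow_eq_one_iff_dvd _).1 h
        rw [Nat.pow_dvd_pow_iff_le_right one_lt_two] at this
        omega
      exact ((sq_eq_one_iff.1 h2).resolve_left h1).symm
    have hd : (c ^ M) ^ 2 ^ b = 1 := by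
      rw [← pow_mul, mul_comm, ← hM, ← hF, FiniteField.pow_card_sub_one_eq_one c hc]
    obtain ⟨j, -, hj⟩ := hprim.eq_pow_of_pow_eq_one hd
    have h1 : μ ^ (j * (2 * m) + (2 ^ (b - 1) + 1) * (m * M)) = 1 := by
      rw [pow_add, pow_mul, hj, pow_mul μ (2 ^ (b - 1) + 1), pow_succ μ, ← hneg, neg_one_mul]
      calc (c ^ M) ^ (2 * m) * (-μ) ^ (m * M) = (c ^ (2 * m) * (-μ) ^ m) ^ M := by
            rw [mul_pow, ← pow_mul, ← pow_mul, ← pow_mul, mul_comm M]
        _ = 1 := by rw [hcd, one_pow]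
    obtain ⟨s, hs⟩ := (hprim.pow_eq_one_iff_dvd _).1 h1
    obtain ⟨d, hd'⟩ : ∃ d, b = a + d := ⟨b - a, by omega⟩
    obtain ⟨e, he⟩ : ∃ e, b - 1 = e + 1 := ⟨b - 2, by omega⟩
    have h2 : 2 ^ a * m' * (2 * j + (2 ^ (b - 1) + 1) * M) = 2 ^ a * (2 ^ d * s * 2) := by
      rw [← hm']
      calc 2 * m * (2 * j + (2 ^ (b - 1) + 1) * M) = 2 * (j * (2 * m) + (2 ^ (b - 1) + 1) * (m * M)) := by ring
        _ = 2 * (2 ^ b * s) := by rw [hs]
        _ = 2 ^ a * (2 ^ d * s * 2) := by rw [hd', pow_add]; ring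
    rw [mul_assoc] at h2
    have h3 := Nat.eq_of_mul_eq_mul_left (Nat.pow_pos two_pos) h2
    have hev : Even (m' * (2 * j + (2 ^ (b - 1) + 1) * M)) := ⟨2 ^ d * s, by rw [h3]; ring⟩
    rw [he, pow_succ] at hev
    rcases Nat.even_mul.1 hev with h | h
    · obtain ⟨t, ht⟩ := h; exact hm'ns t (by omega)
    · obtain ⟨t, ht⟩ := h
      have h4 : M = 2 * (t - j - 2 ^ e * M) := by
        have : (2 ^ e * 2 + 1) * M = 2 * (2 ^ e * M) + M := by ring
        omega
      exact hMns _ h4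
  · intro h
    refine ⟨1, one_ne_zero, ?_⟩
    rw [one_pow, one_mul]
    by_cases hb2 : b = 1
    · have : μ = -1 := by
        have h2 : μ ^ 2 = 1 := by rw [← pow_one 2, ← hb2, ← hμ, pow_orderOf_eq_one]
        refine (sq_eq_one_iff.1 h2).resolve_left fun h1 => ?_
        rw [h1, orderOf_one, hb2] at hμ
        norm_num at hμ
      rw [this, neg_neg, one_pow]
    · have hab : b < a := h.resolve_left (fun h3 => hb2 (hq4.1 h3))
      have hme : 2 ^ b ∣ m := by
        refine ⟨2 ^ (a - 1 - b) * m', ?_⟩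
        have : 2 * m = 2 * (2 ^ b * (2 ^ (a - 1 - b) * m')) := by
          rw [hm', ← mul_assoc (2 ^ b), ← pow_add, ← mul_assoc 2, ← pow_succ', show b + (a - 1 - b) + 1 = a by omega]
        omega
      obtain ⟨s, hs⟩ := hme
      have hev : Even (2 ^ b) := (Nat.even_pow.2 ⟨even_two, by omega⟩)
      rw [hs, pow_mul, hev.neg_pow, ← hμ, pow_orderOf_eq_one, one_pow]

end Cfsg.Agent.S2576
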