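import Cfsg.Statements.S2578
import Cfsg.Agent.MatModule.Unipotent
import Cfsg.Agent.MatModule.GLSemisimple

set_option autoImplicit false
open Cfsg

namespace Cfsg.Agent.S2578

open Cfsg.Agent.MatModule Polynomial

universe u

theorem apply_eq_mul {F : Type u} [Field F] {ι : Type u} [Subsingleton ι] [Nonempty ι] (s : ι → F[X])
    (c : Module.End F (∀ i, AdjoinRoot (s i)))
    (hc : ∀ v, c (rootMul s v) = rootMul s (c v)) (v : ∀ i, AdjoinRoot (s i)) : c v = c 1 * v := by
  obtain ⟨i⟩ := (inferInstance : Nonempty ι)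
  obtain ⟨h, hh⟩ := AdjoinRoot.mk_surjective (v i)
  have hv : v = fun j => AdjoinRoot.mk (s j) h := by
    funext j
    obtain rfl := Subsingleton.elim i j
    exact hh.symm
  subst hv
  clear hh
  induction h using Polynomial.induction_on with
  | C a =>
    have : (fun j => AdjoinRoot.mk (s j) (C a)) = a • (1 : ∀ j, AdjoinRoot (s j)) := by
      funext j
      rw [Pi.smul_apply, Pi.one_apply, Algebra.smul_def, mul_one]
      rfl
    rw [this, map_smul, mul_smul_comm, mul_one]
  | add p q hp hq =>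
    have : (fun j => AdjoinRoot.mk (s j) (p + q)) =
        (fun j => AdjoinRoot.mk (s j) p) + fun j => AdjoinRoot.mk (s j) q :=
      funext fun j => map_add _ p q
    rw [this, map_add, hp, hq, mul_add]
  | monomial k a hk =>
    have : (fun j => AdjoinRoot.mk (s j) (C a * X ^ (k + 1))) =
        rootMul s (fun j => AdjoinRoot.mk (s j) (C a * X ^ k)) := by
      funext j
      rw [rootMul_apply, pow_succ, ← mul_assoc, map_mul, AdjoinRoot.mk_X, mul_comm]
    rw [this, hc, hk]
    funext j
    simp only [rootMul_apply, Pi.mul_apply]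
    ring

/-- An element commuting with a regular unipotent element has a single eigenvalue. -/
theorem exists_scalar_sub_nilpotent {F : Type u} [Field F] {n : ℕ} (hn : 0 < n) (u c : GL (Fin n) F)
    (hu : HasType (Matrix.toLin' (u : Matrix (Fin n) (Fin n) F)) {n}) (hc : c * u = u * c) :
    ∃ t : Fˣ, Matrix.GeneralLinearGroup.det c = t ^ n ∧
      IsNilpotent (Matrix.scalar (Fin n) (t : F) - (c : Matrix (Fin n) (Fin n) F)) := by
  classical
  obtain ⟨ι, _, e, he, Φ, hΦ⟩ := hu
  have hcard : Fintype.card ι = 1 := by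
    have := congrArg Multiset.card he
    simpa using this
  haveI : Subsingleton ι := Fintype.card_le_one_iff_subsingleton.1 hcard.le
  haveI : Nonempty ι := Fintype.card_pos_iff.1 (hcard ▸ Nat.one_pos)
  obtain ⟨i⟩ := (inferInstance : Nonempty ι)
  have hei : e i = n := by
    have : e i ∈ Finset.univ.val.map e := Multiset.mem_map_of_mem _ (Finset.mem_univ i)
    rw [he] at this
    exact Multiset.mem_singleton.1 this
  set s : ι → F[X] := fun j => (lin : F[X]) ^ e j
  set c' : Module.End F (∀ j, AdjoinRoot (s j)) :=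
    Φ.conj (Matrix.toLin' (c : Matrix (Fin n) (Fin n) F)) with hc'
  have happ : ∀ w, c' w = Φ (Matrix.toLin' (c : Matrix (Fin n) (Fin n) F) (Φ.symm w)) := fun w => rfl
  have hcomm : ∀ w, c' (rootMul s w) = rootMul s (c' w) := by
    intro w
    obtain ⟨v, rfl⟩ := Φ.surjective w
    rw [happ, happ, ← hΦ, ← hΦ, LinearEquiv.symm_apply_apply, LinearEquiv.symm_apply_apply]
    refine congrArg Φ ?_
    rw [← LinearMap.comp_apply, ← LinearMap.comp_apply, ← Matrix.toLin'_mul, ← Matrix.toLin'_mul,
      ← Units.val_mul, ← Units.val_mul, hc]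
  obtain ⟨h, hh⟩ := AdjoinRoot.mk_surjective (c' 1 i)
  set t := h.eval 1 with ht
  set M := Matrix.scalar (Fin n) t - (c : Matrix (Fin n) (Fin n) F) with hM
  have hMz : Matrix.toLin' M ^ n = 0 := by
    have key : ∀ (k : ℕ) v, Φ ((Matrix.toLin' M ^ k) v) i =
        AdjoinRoot.mk (s i) ((C t - h) ^ k) * Φ v i := by
      intro k
      induction k with
      | zero => intro v; simp
      | succ k ih =>
        intro v
        have e1 : ∀ w, Matrix.toLin' M w = t • w - Matrix.toLin' (c : Matrix (Fin n) (Fin n) F) w := by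
          intro w
          rw [hM, map_sub, LinearMap.sub_apply]
          congr 1
          rw [Matrix.toLin'_apply]
          funext j
          simp [Matrix.scalar_apply, Matrix.mulVec_diagonal]
        have e2 : ∀ w, Φ (Matrix.toLin' (c : Matrix (Fin n) (Fin n) F) w) i = c' 1 i * Φ w i := by
          intro w
          have := congrFun (apply_eq_mul s c' hcomm (Φ w)) i
          rwa [happ, LinearEquiv.symm_apply_apply, Pi.mul_apply] at this
        rw [pow_succ', Module.End.mul_apply, e1, map_sub, map_smul, Pi.sub_apply, Pi.smul_apply, e2,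
          ih, ← hh, pow_succ', map_mul _ (C t - h), map_sub, sub_mul, sub_mul, Algebra.smul_def,
          AdjoinRoot.mk_C, AdjoinRoot.algebraMap_eq, mul_assoc, mul_assoc]
    refine LinearMap.ext fun v => Φ.injective (funext fun j => ?_)
    obtain rfl := Subsingleton.elim i j
    rw [key, LinearMap.zero_apply, map_zero, Pi.zero_apply]
    have hd : (lin : F[X]) ∣ C t - h := by
      rw [dvd_iff_isRoot]
      simp [IsRoot, ht]
    have hz : AdjoinRoot.mk (s i) ((C t - h) ^ n) = 0 :=
      AdjoinRoot.mk_eq_zero.2 (show (lin : F[X]) ^ e i ∣ _ by rw [hei]; exact pow_dvd_pow_of_dvd hd n)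
    rw [hz, zero_mul]
  have hchar : M.charpoly = X ^ n := by
    have h' : (Matrix.toLin' M).charpoly = X ^ Module.finrank F (Fin n → F) :=
      ((LinearMap.charpoly_nilpotent_tfae (Matrix.toLin' M)).out 0 1).1
        (show IsNilpotent (Matrix.toLin' M) from ⟨n, hMz⟩)
    rwa [Matrix.charpoly_toLin', Module.finrank_fintype_fun_eq_card, Fintype.card_fin] at h'
  have hdet : (c : Matrix (Fin n) (Fin n) F).det = t ^ n := by
    have := Matrix.eval_charpoly M t
    rw [hchar, eval_pow, eval_X, hM, sub_sub_cancel] at this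
    exact this.symm
  have ht0 : t ≠ 0 := by
    intro h0
    apply (Matrix.isUnits_det_units c).ne_zero
    rw [hdet, h0, zero_pow hn.ne']
  refine ⟨Units.mk0 t ht0, Units.ext hdet, n, ?_⟩
  rw [← Matrix.toLin'_pow] at hMz
  exact Matrix.toLin'.map_eq_zero_iff.1 hMz

/-- The determinant of an element commuting with a regular unipotent element is an `n`-th power. -/
theorem exists_pow_eq_det {F : Type u} [Field F] {n : ℕ} (hn : 0 < n) (u c : GL (Fin n) F)
    (hu : HasType (Matrix.toLin' (u : Matrix (Fin n) (Fin n) F)) {n}) (hc : c * u = u * c) :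
    ∃ t : Fˣ, Matrix.GeneralLinearGroup.det c = t ^ n :=
  let ⟨t, ht, _⟩ := exists_scalar_sub_nilpotent hn u c hu hc
  ⟨t, ht⟩

theorem hasType_of_rank {F : Type u} [Field F] {n : ℕ} (hn : 0 < n) (M : Matrix (Fin n) (Fin n) F)
    (hz : (M - 1) ^ n = 0) (hr : (M - 1).rank = n - 1) : HasType (Matrix.toLin' M) {n} := by
  have hz' : (Matrix.toLin' M - 1) ^ n = 0 := by
    rw [Module.End.one_eq_id, ← Matrix.toLin'_one, ← map_sub, ← Matrix.toLin'_pow, hz, map_zero]
  obtain ⟨m, hm0, hm⟩ := exists_hasType _ hz'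
  have hsum := sum_eq_finrank hm
  rw [Module.finrank_fintype_fun_eq_card, Fintype.card_fin] at hsum
  have h1 := finrank_range_sub_one_pow hm 1
  rw [pow_one, Module.End.one_eq_id, ← Matrix.toLin'_one, ← map_sub] at h1
  have h2 : Module.finrank F (LinearMap.range (Matrix.toLin' (M - 1))) = n - 1 := hr
  rw [h2] at h1
  have h3 : ∀ m : Multiset ℕ, (0 : ℕ) ∉ m → (m.map (fun e => e - 1)).sum + Multiset.card m = m.sum := by
    intro m hm
    induction m using Multiset.induction with
    | empty => rfl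
    | cons a m ih =>
      rw [Multiset.mem_cons, not_or] at hm
      have := ih hm.2
      have := hm.1
      simp only [Multiset.map_cons, Multiset.sum_cons, Multiset.card_cons]
      omega
  have h4 := h3 m hm0
  obtain ⟨a, rfl⟩ := Multiset.card_eq_one.1 (show Multiset.card m = 1 by omega)
  rw [Multiset.sum_singleton] at hsum
  rwa [hsum] at hm

theorem spec_of_hasType {F : Type u} [Field F] {n : ℕ} (M : Matrix (Fin n) (Fin n) F)
    (h : HasType (Matrix.toLin' M) {n}) : (M - 1) ^ n = 0 ∧ (M - 1).rank = n - 1 ∧ M.det = 1 := by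
  classical
  refine ⟨?_, ?_, ?_⟩
  · have := (sub_one_pow_eq_zero_iff h n).2 (by simp)
    rw [Module.End.one_eq_id, ← Matrix.toLin'_one, ← map_sub, ← Matrix.toLin'_pow] at this
    exact Matrix.toLin'.map_eq_zero_iff.1 this
  · have h1 := finrank_range_sub_one_pow h 1
    rw [pow_one, Module.End.one_eq_id, ← Matrix.toLin'_one, ← map_sub] at h1
    show Module.finrank F (LinearMap.range (Matrix.toLin' (M - 1))) = n - 1
    convert h1 using 1
    all_goals first | rfl | simp [Matrix.rank]
  · obtain ⟨ι, _, e, he, Φ, hΦ⟩ := h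
    have hmon : ∀ i, ((lin : F[X]) ^ e i).Monic := fun i => (monic_X_sub_C 1).pow _
    haveI : ∀ i, Module.Finite F (AdjoinRoot ((lin : F[X]) ^ e i)) :=
      fun i => finite_adjoinRoot _ (hmon i)
    haveI : Module.Finite F (∀ i, AdjoinRoot ((lin : F[X]) ^ e i)) := Module.Finite.pi
    have hc : M.charpoly = ∏ i, (lin : F[X]) ^ e i := by
      rw [← Matrix.charpoly_toLin', ← charpoly_rootMul _ hmon, ← Φ.charpoly_conj (Matrix.toLin' M)]
      congr 1
      refine LinearMap.ext fun v => ?_
      show Φ (Matrix.toLin' M (Φ.symm v)) = _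
      rw [hΦ, LinearEquiv.apply_symm_apply]
    have hs : ∑ i, e i = n := by
      have := congrArg Multiset.sum he
      simpa using this
    rw [Matrix.det_eq_sign_charpoly_coeff, hc, Finset.prod_pow_eq_pow_sum, hs, Fintype.card_fin,
      coeff_zero_eq_eval_zero]
    simp [← mul_pow]

/-- Regular unipotent classes of SL_n(q): for n ≥ 2 over the field with q elements, the matrices u of determinant one with (u − 1)^n = 0 and rank(u − 1) = n − 1 form a single GL_n(q)-class which splits into exactly gcd(n, q − 1) conjugacy classes of SL_n(q). -/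
theorem result {F : Type*} [Field F] [Fintype F] {q : ℕ} (hF : Fintype.card F = q) {n : ℕ} (hn : 2 ≤ n) : Nat.card {C : ConjClasses (Matrix.SpecialLinearGroup (Fin n) F) // ∃ u : Matrix.SpecialLinearGroup (Fin n) F, ConjClasses.mk u = C ∧ ((u : Matrix (Fin n) (Fin n) F) - 1) ^ n = 0 ∧ ((u : Matrix (Fin n) (Fin n) F) - 1).rank = n - 1} = Nat.gcd n (q - 1) := by
  classical
  subst hF
  obtain ⟨u₀, hu₀⟩ := exists_gl_hasType (F := F) (n := n) {n} (Multiset.sum_singleton n)
  obtain ⟨hz₀, hr₀, -⟩ := spec_of_hasType _ hu₀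
  set D : Fˣ → GL (Fin n) F := fun d => ((Matrix.isUnit_iff_isUnit_det
    (Matrix.diagonal (Function.update (fun _ : Fin n => (1 : F)) ⟨0, by omega⟩ (d : F)))).2 (by
      rw [Matrix.det_diagonal, Finset.prod_update_of_mem (Finset.mem_univ _)]
      simp)).unit with hD
  have hDdet : ∀ d, Matrix.GeneralLinearGroup.det (D d) = d := by
    intro d
    refine Units.ext ?_
    show (Matrix.diagonal (Function.update (fun _ : Fin n => (1 : F)) ⟨0, by omega⟩ (d : F))).det = d
    rw [Matrix.det_diagonal, Finset.prod_update_of_mem (Finset.mem_univ _)]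
    simp
  have hty : ∀ d, HasType (Matrix.toLin'
      ((D d * u₀ * (D d)⁻¹ : GL (Fin n) F) : Matrix (Fin n) (Fin n) F)) {n} :=
    fun d => hasType_of_conj rfl hu₀
  set x : Fˣ → Matrix.SpecialLinearGroup (Fin n) F := fun d =>
    ⟨_, (spec_of_hasType _ (hty d)).2.2⟩ with hx
  have hmem : ∀ d, ((x d : Matrix (Fin n) (Fin n) F) - 1) ^ n = 0 ∧
      ((x d : Matrix (Fin n) (Fin n) F) - 1).rank = n - 1 :=
    fun d => ⟨(spec_of_hasType _ (hty d)).1, (spec_of_hasType _ (hty d)).2.1⟩
  set R := (powMonoidHom n : Fˣ →* Fˣ).range with hR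
  have hxGL : ∀ d, Matrix.SpecialLinearGroup.toGL (x d) = D d * u₀ * (D d)⁻¹ := fun d => Units.ext rfl
  have hiff : ∀ d d', IsConj (x d) (x d') → d⁻¹ * d' ∈ R := by
    intro d d' h
    obtain ⟨k, hk⟩ := isConj_iff.1 h
    have hk' := congrArg Matrix.SpecialLinearGroup.toGL hk
    rw [map_mul, map_mul, map_inv, hxGL, hxGL] at hk'
    set K := Matrix.SpecialLinearGroup.toGL k with hK
    have hcm : (D d')⁻¹ * K * D d * u₀ = u₀ * ((D d')⁻¹ * K * D d) := by
      calc (D d')⁻¹ * K * D d * u₀
          = (D d')⁻¹ * (K * (D d * u₀ * (D d)⁻¹) * K⁻¹) * (K * D d) := by group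
        _ = (D d')⁻¹ * (D d' * u₀ * (D d')⁻¹) * (K * D d) := by rw [hk']
        _ = u₀ * ((D d')⁻¹ * K * D d) := by group
    obtain ⟨t, ht⟩ := exists_pow_eq_det (by omega) u₀ _ hu₀ hcm
    rw [map_mul, map_mul, map_inv, hDdet, hDdet,
      show Matrix.GeneralLinearGroup.det K = 1 from Units.ext k.2, mul_one] at ht
    exact ⟨t⁻¹, by rw [powMonoidHom_apply, inv_pow, ← ht, mul_inv_rev, inv_inv]⟩
  have hconj : ∀ (u : Matrix.SpecialLinearGroup (Fin n) F) (g : GL (Fin n) F),
      g * u₀ * g⁻¹ = Matrix.SpecialLinearGroup.toGL u → ∀ d, d⁻¹ * Matrix.GeneralLinearGroup.det g ∈ R →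
      IsConj (x d) u := by
    intro u g hg d hd
    obtain ⟨t, ht⟩ := hd
    rw [powMonoidHom_apply] at ht
    set Z : GL (Fin n) F := Units.map (Matrix.scalar (Fin n)).toMonoidHom t⁻¹ with hZ
    have hZc : Z * u₀ = u₀ * Z := by
      apply Units.ext
      exact (Matrix.scalar_commute ((t⁻¹ : Fˣ) : F) (fun r' => Commute.all _ r')
        (u₀ : Matrix (Fin n) (Fin n) F)).eq
    have hZd : Matrix.GeneralLinearGroup.det Z = (t ^ n)⁻¹ := by
      refine Units.ext ?_
      show (Matrix.scalar (Fin n) ((t⁻¹ : Fˣ) : F)).det = _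
      rw [Matrix.scalar_apply, Matrix.det_diagonal, Finset.prod_const, Finset.card_univ,
        Fintype.card_fin]
      simp
    set K := g * Z * (D d)⁻¹ with hK
    have hKd : Matrix.GeneralLinearGroup.det K = 1 := by
      rw [hK, map_mul, map_mul, map_inv, hDdet, hZd, ht, mul_inv_rev, inv_inv, ← mul_assoc,
        mul_inv_cancel, one_mul, mul_inv_cancel]
    obtain ⟨k, hk⟩ : ∃ k : Matrix.SpecialLinearGroup (Fin n) F,
        (k : Matrix (Fin n) (Fin n) F) = (K : Matrix (Fin n) (Fin n) F) :=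
      ⟨⟨_, congrArg Units.val hKd⟩, rfl⟩
    refine isConj_iff.2 ⟨k, ?_⟩
    rw [mul_inv_eq_iff_eq_mul]
    apply Subtype.ext
    show (k : Matrix (Fin n) (Fin n) F) * (x d : Matrix (Fin n) (Fin n) F) =
      (u : Matrix (Fin n) (Fin n) F) * (k : Matrix (Fin n) (Fin n) F)
    rw [hk]
    have : K * (D d * u₀ * (D d)⁻¹) = Matrix.SpecialLinearGroup.toGL u * K := by
      rw [← hg, hK]
      calc g * Z * (D d)⁻¹ * (D d * u₀ * (D d)⁻¹) = g * (Z * u₀) * (D d)⁻¹ := by group
        _ = g * (u₀ * Z) * (D d)⁻¹ := by rw [hZc]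
        _ = g * u₀ * g⁻¹ * (g * Z * (D d)⁻¹) := by group
    exact congrArg (fun z : GL (Fin n) F => (z : Matrix (Fin n) (Fin n) F)) this
  rw [show Nat.gcd n (Fintype.card F - 1) = Nat.card (Fˣ ⧸ R) by
    rw [← Subgroup.index_eq_card, hR, IsCyclic.index_powMonoidHom_range, Nat.card_units,
      Nat.card_eq_fintype_card, Nat.gcd_comm]]
  symm
  refine Nat.card_eq_of_bijective
    (fun d => ⟨ConjClasses.mk (x d.out), x d.out, rfl, hmem _⟩) ⟨?_, ?_⟩
  · intro a b h
    have h' := hiff _ _ (ConjClasses.mk_eq_mk_iff_isConj.1 (congrArg Subtype.val h))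
    rw [← QuotientGroup.eq, QuotientGroup.out_eq', QuotientGroup.out_eq'] at h'
    exact h'
  · rintro ⟨C', u, rfl, hz, hr⟩
    obtain ⟨g, hg⟩ := exists_conj_gl_of_hasType u₀ (Matrix.SpecialLinearGroup.toGL u) hu₀
      (hasType_of_rank (by omega) _ hz hr)
    refine ⟨(Matrix.GeneralLinearGroup.det g : Fˣ), Subtype.ext ?_⟩
    refine ConjClasses.mk_eq_mk_iff_isConj.2 (hconj u g hg _ ?_)
    rw [← QuotientGroup.eq, QuotientGroup.out_eq']

end Cfsg.Agent.S2578
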