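import Cfsg.Statements.S2580
import Cfsg.Agent.MatModule.PolyModule

set_option autoImplicit false
open Cfsg

namespace Cfsg.Agent.S2580

open Cfsg.Agent.MatModule

/-- Over a finite field, a square matrix is similar to its transpose: for every n × n matrix A there is an invertible matrix P with P A P⁻¹ = Aᵀ (stated as conjugacy in the monoid of matrices, whose units are the invertible matrices). -/
theorem result {F : Type*} [Field F] [Finite F] {n : ℕ} (A : Matrix (Fin n) (Fin n) F) : IsConj A A.transpose := by
  classical
  obtain ⟨B, hB, hsym⟩ := exists_bilin (Matrix.toLin' A)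
  set P := LinearMap.toMatrix₂' F B with hP
  have hdet : P.det ≠ 0 := by
    rw [← Matrix.separatingLeft_iff_det_ne_zero]
    exact LinearMap.separatingLeft_toMatrix₂'_iff.2 hB
  have hcomm : P * A = A.transpose * P := by
    have e : B.comp (Matrix.toLin' A) = B.compl₂ (Matrix.toLin' A) :=
      LinearMap.ext fun v => LinearMap.ext fun w => hsym v w
    rw [hP, LinearMap.toMatrix₂'_mul, ← e, LinearMap.toMatrix₂'_comp, LinearMap.toMatrix'_toLin']
  exact ⟨((Matrix.isUnit_iff_isUnit_det P).2 (isUnit_iff_ne_zero.2 hdet)).unit, hcomm⟩

end Cfsg.Agent.S2580
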