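import Cfsg.Statements.S2581
import Mathlib

set_option autoImplicit false
open Cfsg

namespace Cfsg.Agent.S2581

open Matrix Finset

variable {F : Type*} [Field F] {t : ℕ} {d : Fin t → ℕ}

abbrev Ix (d : Fin t → ℕ) := (k : Fin t) × Fin (d k)

/-- The nilpotent part. -/
def nilPart (d : Fin t → ℕ) (F : Type*) [Field F] : Matrix (Ix d) (Ix d) F :=
  Matrix.of fun x y => if x.1 = y.1 ∧ (x.2 : ℕ) = (y.2 : ℕ) + 1 then 1 else 0

theorem jordanTypeMatrix_eq : Cfsg.jordanTypeMatrix d F = 1 + nilPart d F := by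
  ext ⟨k, i⟩ ⟨l, j⟩
  by_cases hkl : k = l
  · subst hkl
    simp only [Cfsg.jordanTypeMatrix, Matrix.blockDiagonal'_apply_eq, Cfsg.jordanBlock, Matrix.add_apply,
      nilPart, Matrix.of_apply, true_and, Matrix.one_apply]
    rcases eq_or_ne i j with rfl | hij
    · simp
    · have h1 : (i : ℕ) ≠ j := fun h => hij (Fin.ext h)
      simp [h1, hij]
  · simp [Cfsg.jordanTypeMatrix, Matrix.blockDiagonal'_apply_ne _ _ _ hkl, nilPart, hkl]

theorem mul_nil_apply (g : Matrix (Ix d) (Ix d) F) (x : Ix d) (l : Fin t) (j : Fin (d l)) :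
    (g * nilPart d F) x ⟨l, j⟩ = if h : (j : ℕ) + 1 < d l then g x ⟨l, ⟨j + 1, h⟩⟩ else 0 := by
  rw [Matrix.mul_apply]
  split_ifs with h
  · rw [Finset.sum_eq_single ⟨l, ⟨j + 1, h⟩⟩]
    · simp [nilPart]
    · rintro ⟨k, i⟩ _ hne
      simp only [nilPart, Matrix.of_apply]
      rw [if_neg, mul_zero]
      rintro ⟨rfl, hi⟩
      exact hne (Sigma.ext rfl (heq_of_eq (Fin.ext (by simp only; omega))))
    · exact fun h => absurd (Finset.mem_univ _) h
  · refine Finset.sum_eq_zero fun z _ => ?_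
    obtain ⟨k, i⟩ := z
    simp only [nilPart, Matrix.of_apply]
    rw [if_neg, mul_zero]
    rintro ⟨rfl, hi⟩
    have := i.2
    omega

theorem nil_mul_apply (g : Matrix (Ix d) (Ix d) F) (k : Fin t) (i : Fin (d k)) (y : Ix d) :
    (nilPart d F * g) ⟨k, i⟩ y = if h : 0 < (i : ℕ) then g ⟨k, ⟨i - 1, by omega⟩⟩ y else 0 := by
  rw [Matrix.mul_apply]
  split_ifs with h
  · rw [Finset.sum_eq_single ⟨k, ⟨i - 1, by omega⟩⟩]
    · have : (i : ℕ) = i - 1 + 1 := by omega
      simp [nilPart, ← this]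
    · rintro ⟨l, j⟩ _ hne
      simp only [nilPart, Matrix.of_apply]
      rw [if_neg, zero_mul]
      rintro ⟨rfl, hi⟩
      exact hne (Sigma.ext rfl (heq_of_eq (Fin.ext (by simp only; omega))))
    · exact fun h => absurd (Finset.mem_univ _) h
  · refine Finset.sum_eq_zero fun z _ => ?_
    obtain ⟨l, j⟩ := z
    simp only [nilPart, Matrix.of_apply]
    rw [if_neg, zero_mul]
    rintro ⟨rfl, hi⟩
    omega

/-- The parameters of a commuting matrix: the coefficient `r` of the pair `(k, l)`. -/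
abbrev Par (d : Fin t → ℕ) := (p : Fin t × Fin t) × Fin (min (d p.1) (d p.2))

/-- The commuting matrix of given parameters. -/
def ofPar (c : Par d → F) : Matrix (Ix d) (Ix d) F :=
  Matrix.of fun x y =>
    if h : (y.2 : ℕ) ≤ (x.2 : ℕ) ∧ d x.1 - min (d x.1) (d y.1) ≤ (x.2 : ℕ) - y.2 then
      c ⟨(x.1, y.1), ⟨(x.2 : ℕ) - y.2 - (d x.1 - min (d x.1) (d y.1)), by
        have := x.2.2
        show _ < min (d x.1) (d y.1)
        omega⟩⟩
    else 0

theorem toeplitz {g : Matrix (Ix d) (Ix d) F} (hg : g * nilPart d F = nilPart d F * g)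
    (k l : Fin t) : ∀ (j i : ℕ) (hj : j < d l) (hi : i < d k),
    g ⟨k, ⟨i, hi⟩⟩ ⟨l, ⟨j, hj⟩⟩ =
      if j ≤ i then g ⟨k, ⟨i - j, by omega⟩⟩ ⟨l, ⟨0, by omega⟩⟩ else 0 := by
  intro j
  induction j with
  | zero => intro i hj hi; simp
  | succ j ih =>
    intro i hj hi
    have h := congrFun (congrFun hg ⟨k, ⟨i, hi⟩⟩) ⟨l, ⟨j, by omega⟩⟩
    rw [mul_nil_apply, nil_mul_apply, dif_pos hj] at h
    rw [h]
    simp only
    split_ifs with h0 h1
    · rw [ih, if_pos (by omega)]
      congr 2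
      simp only [Fin.ext_iff]
      omega
    · rw [ih, if_neg (by omega)]
    · omega
    · rfl

theorem low_zero {g : Matrix (Ix d) (Ix d) F} (hg : g * nilPart d F = nilPart d F * g)
    (k l : Fin t) (m : ℕ) (hm : m + d l < d k) (hl : 0 < d l) :
    g ⟨k, ⟨m, by omega⟩⟩ ⟨l, ⟨0, hl⟩⟩ = 0 := by
  have h := congrFun (congrFun hg ⟨k, ⟨m + d l, hm⟩⟩) ⟨l, ⟨d l - 1, by omega⟩⟩
  rw [mul_nil_apply, nil_mul_apply, dif_neg (by simp only; omega), dif_pos (by simp only; omega),
    toeplitz hg, if_pos (by simp only; omega)] at h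
  rw [h]
  congr 2
  simp only [Fin.ext_iff]
  omega

theorem ofPar_comm (c : Par d → F) : ofPar c * nilPart d F = nilPart d F * ofPar c := by
  ext ⟨k, i⟩ ⟨l, j⟩
  rw [mul_nil_apply, nil_mul_apply]
  have := i.2
  have := j.2
  simp only [ofPar, Matrix.of_apply]
  split_ifs <;> first
    | (congr 2; simp only [Fin.ext_iff]; omega)
    | rfl
    | (exfalso; omega)

/-- The parameters of a matrix. -/
def toPar (hd : ∀ k, 1 ≤ d k) (g : Matrix (Ix d) (Ix d) F) : Par d → F := fun q =>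
  g ⟨q.1.1, ⟨d q.1.1 - min (d q.1.1) (d q.1.2) + q.2, by have := q.2.2; omega⟩⟩ ⟨q.1.2, ⟨0, hd _⟩⟩

theorem toPar_ofPar (hd : ∀ k, 1 ≤ d k) (c : Par d → F) : toPar hd (ofPar c) = c := by
  funext ⟨⟨k, l⟩, r⟩
  simp only [toPar, ofPar, Matrix.of_apply]
  rw [dif_pos ⟨Nat.zero_le _, by omega⟩]
  congr 2
  simp only [Fin.ext_iff]
  omega

theorem ofPar_toPar (hd : ∀ k, 1 ≤ d k) {g : Matrix (Ix d) (Ix d) F}
    (hg : g * nilPart d F = nilPart d F * g) : ofPar (toPar hd g) = g := by
  ext ⟨k, i, hi⟩ ⟨l, j, hj⟩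
  rw [toeplitz hg]
  simp only [toPar, ofPar, Matrix.of_apply]
  split_ifs with h1 h2 h3
  · congr 2
    simp only [Fin.ext_iff]
    omega
  · omega
  · exact (low_zero hg k l (i - j) (by omega) (hd l)).symm
  · rfl

/-- The diagonal block of size `v`. -/
def blk (c : Par d → F) (hd : ∀ k, 1 ≤ d k) (v : ℕ) :
    Matrix {k : Fin t // d k = v} {k : Fin t // d k = v} F :=
  Matrix.of fun k l => c ⟨(k.1, l.1), ⟨0, lt_min (hd _) (hd _)⟩⟩

theorem isUnit_ofPar (hd : ∀ k, 1 ≤ d k) (c : Par d → F) :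
    IsUnit (ofPar c) ↔ ∀ v : Fin (Finset.univ.sup d + 1), (blk c hd v).det ≠ 0 := by
  classical
  set D := Finset.univ.sup d with hD
  have hle : ∀ k, d k ≤ D := fun k => Finset.le_sup (f := d) (Finset.mem_univ k)
  let b : Ix d → ℕ := fun x => (D - x.2) * (D + 1) + d x.1
  have hb_eq : ∀ x y : Ix d, b x = b y → (x.2 : ℕ) = y.2 ∧ d x.1 = d y.1 := by
    intro x y h
    have h1 := hle x.1; have h2 := hle y.1
    have h3 := x.2.2; have h4 := y.2.2
    simp only [b] at h
    have e1 := congrArg (· / (D + 1)) h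
    simp only [Nat.add_comm ((D - _) * (D + 1)), Nat.add_mul_div_right _ _ (Nat.succ_pos D),
      Nat.div_eq_of_lt (Nat.lt_succ_of_le h1), Nat.div_eq_of_lt (Nat.lt_succ_of_le h2)] at e1
    refine ⟨by omega, ?_⟩
    have e2 : D - (x.2 : ℕ) = D - y.2 := by omega
    rw [e2] at h
    omega
  have htri : Matrix.BlockTriangular (ofPar c) b := by
    rintro ⟨k, i⟩ ⟨l, j⟩ h
    simp only [b] at h
    have h1 := hle k; have h2 := hle l
    have h3 := i.2; have h4 := j.2
    simp only [ofPar, Matrix.of_apply]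
    rw [dif_neg]
    rintro ⟨hji, hgap⟩
    rcases Nat.lt_or_ge (j : ℕ) i with hlt | hge
    · have hh : D - (i : ℕ) + 1 ≤ D - j := by omega
      have := Nat.mul_le_mul_right (D + 1) hh
      rw [Nat.add_mul] at this
      omega
    · have : (i : ℕ) = j := le_antisymm hge hji
      rw [this] at h
      omega
  have hblk : ∀ (k : Fin t) (i : Fin (d k)),
      ((ofPar c).toSquareBlock b (b ⟨k, i⟩)).det = (blk c hd (d k)).det := by
    intro k i
    let e : {l : Fin t // d l = d k} ≃ {y : Ix d // b y = b ⟨k, i⟩} :=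
      { toFun := fun l => ⟨⟨l.1, ⟨i, l.2.symm ▸ i.2⟩⟩, by simp [b, l.2]⟩
        invFun := fun y => ⟨y.1.1, (hb_eq _ _ y.2).2⟩
        left_inv := fun l => rfl
        right_inv := by
          rintro ⟨⟨l, j⟩, hy⟩
          obtain ⟨h1, -⟩ := hb_eq _ _ hy
          simp only [Subtype.mk.injEq, Sigma.mk.injEq, heq_eq_eq, true_and, Fin.ext_iff]
          exact h1.symm }
    rw [← Matrix.det_submatrix_equiv_self e]
    congr 1
    ext l m
    simp only [Matrix.submatrix_apply, Matrix.toSquareBlock_def, Matrix.of_apply, e, Equiv.coe_fn_mk,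
      ofPar, blk]
    have := l.2; have := m.2
    rw [dif_pos ⟨le_rfl, by omega⟩]
    congr 2
    simp only [Fin.ext_iff]
    omega
  rw [Matrix.isUnit_iff_isUnit_det, isUnit_iff_ne_zero, htri.det, Finset.prod_ne_zero_iff]
  constructor
  · intro h v
    by_cases hv : ∃ k, d k = v
    · obtain ⟨k, hk⟩ := hv
      have := h _ (Finset.mem_image_of_mem b (Finset.mem_univ (⟨k, ⟨0, hd k⟩⟩ : Ix d)))
      rw [hblk] at this
      rw [← hk]
      exact this
    · have : IsEmpty {k : Fin t // d k = (v : ℕ)} := ⟨fun k => hv ⟨k.1, k.2⟩⟩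
      simp [Matrix.det_isEmpty]
  · intro h a ha
    obtain ⟨⟨k, i⟩, -, rfl⟩ := Finset.mem_image.1 ha
    rw [hblk]
    exact h ⟨d k, Nat.lt_succ_of_le (hle k)⟩

/-- The leading parameters. -/
abbrev Lead (d : Fin t → ℕ) (q : Par d) : Prop := d q.1.1 = d q.1.2 ∧ (q.2 : ℕ) = 0

/-- The leading parameters by block size. -/
def leadEquiv (hd : ∀ k, 1 ≤ d k) : {q : Par d // Lead d q} ≃
    ((v : Fin (Finset.univ.sup d + 1)) × {k : Fin t // d k = (v : ℕ)} × {k : Fin t // d k = (v : ℕ)}) where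
  toFun q := ⟨⟨d q.1.1.1, Nat.lt_succ_of_le (Finset.le_sup (f := d) (Finset.mem_univ _))⟩,
    ⟨q.1.1.1, rfl⟩, ⟨q.1.1.2, q.2.1.symm⟩⟩
  invFun w := ⟨⟨(w.2.1.1, w.2.2.1), ⟨0, lt_min (hd _) (hd _)⟩⟩, w.2.1.2.trans w.2.2.2.symm, rfl⟩
  left_inv := by
    rintro ⟨⟨⟨k, l⟩, r⟩, h1, h2⟩
    simp only [Subtype.mk.injEq, Sigma.mk.injEq, heq_eq_eq, true_and, Fin.ext_iff]
    exact h2.symm
  right_inv := by
    rintro ⟨⟨v, hv⟩, ⟨k, hk⟩, ⟨l, hl⟩⟩
    simp only at hk hl
    subst hk
    rfl

/-- Counting matrices of nonzero determinant. -/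
theorem card_det_ne_zero [Fintype F] {q : ℕ} (hF : Fintype.card F = q) (ι : Type*) [Fintype ι]
    [DecidableEq ι] {a : ℕ} (ha : Fintype.card ι = a) :
    Nat.card {M : Matrix ι ι F // M.det ≠ 0} = ∏ j : Fin a, (q ^ a - q ^ (j : ℕ)) := by
  subst hF
  let e : ι ≃ Fin a := Fintype.equivFinOfCardEq ha
  have e1 : {M : Matrix ι ι F // M.det ≠ 0} ≃ {M : Matrix (Fin a) (Fin a) F // M.det ≠ 0} :=
    (Matrix.reindex e e).subtypeEquiv fun M => by rw [Matrix.det_reindex_self]
  have e2 : GL (Fin a) F ≃ {M : Matrix (Fin a) (Fin a) F // M.det ≠ 0} :=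
    { toFun := fun g => ⟨g, isUnit_iff_ne_zero.1 ((Matrix.isUnit_iff_isUnit_det _).1 g.isUnit)⟩
      invFun := fun M => ((Matrix.isUnit_iff_isUnit_det _).2 (isUnit_iff_ne_zero.2 M.2)).unit
      left_inv := fun g => Units.ext rfl
      right_inv := fun M => rfl }
  rw [Nat.card_congr e1, ← Nat.card_congr e2, Matrix.card_GL_field]

theorem main [Fintype F] {q : ℕ} (hF : Fintype.card F = q) (hd : ∀ k, 1 ≤ d k) :
    Nat.card {g : GL (Ix d) F // (g : Matrix (Ix d) (Ix d) F) * Cfsg.jordanTypeMatrix d F =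
        Cfsg.jordanTypeMatrix d F * (g : Matrix (Ix d) (Ix d) F)} =
      q ^ Fintype.card {r : Par d // ¬ Lead d r} *
        ∏ v : Fin (Finset.univ.sup d + 1),
          ∏ j : Fin (Fintype.card {k : Fin t // d k = (v : ℕ)}),
            (q ^ Fintype.card {k : Fin t // d k = (v : ℕ)} - q ^ (j : ℕ)) := by
  classical
  have hcomm : ∀ g : Matrix (Ix d) (Ix d) F, g * Cfsg.jordanTypeMatrix d F = Cfsg.jordanTypeMatrix d F * g ↔
      g * nilPart d F = nilPart d F * g := by
    intro g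
    rw [jordanTypeMatrix_eq, mul_add, add_mul, mul_one, one_mul, add_right_inj]
  have e1 : {g : GL (Ix d) F // (g : Matrix (Ix d) (Ix d) F) * Cfsg.jordanTypeMatrix d F =
      Cfsg.jordanTypeMatrix d F * (g : Matrix (Ix d) (Ix d) F)} ≃ {c : Par d → F // IsUnit (ofPar c)} :=
    { toFun := fun g => ⟨toPar hd g.1, by rw [ofPar_toPar hd ((hcomm _).1 g.2)]; exact g.1.isUnit⟩
      invFun := fun c => ⟨c.2.unit, (hcomm _).2 (ofPar_comm c.1)⟩
      left_inv := fun g => Subtype.ext (Units.ext (ofPar_toPar hd ((hcomm _).1 g.2)))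
      right_inv := fun c => Subtype.ext (toPar_ofPar hd c.1) }
  let S := Finset.univ.sup d + 1
  let e2 : (Par d → F) ≃ ((v : Fin S) → Matrix {k : Fin t // d k = (v : ℕ)} {k : Fin t // d k = (v : ℕ)} F) ×
      ({r : Par d // ¬ Lead d r} → F) :=
    (Equiv.piEquivPiSubtypeProd (Lead d) fun _ => F).trans
      (Equiv.prodCongr
        (((Equiv.arrowCongr (leadEquiv hd) (Equiv.refl F)).trans
          (Equiv.piCurry fun _ _ => F)).trans
            (Equiv.piCongrRight fun v => (Equiv.curry _ _ F).trans Matrix.of))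
        (Equiv.refl _))
  have he2 : ∀ c v, (e2 c).1 v = blk c hd v := by
    intro c v
    ext k l
    rfl
  have e3 : {c : Par d → F // IsUnit (ofPar c)} ≃
      ((v : Fin S) → {M : Matrix {k : Fin t // d k = (v : ℕ)} {k : Fin t // d k = (v : ℕ)} F // M.det ≠ 0}) ×
        ({r : Par d // ¬ Lead d r} → F) :=
    ((e2.subtypeEquiv (q := fun z : ((v : Fin S) → Matrix {k : Fin t // d k = (v : ℕ)} {k : Fin t // d k = (v : ℕ)} F) × ({r : Par d // ¬ Lead d r} → F) => ∀ v, (z.1 v).det ≠ 0) fun c => by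
        rw [isUnit_ofPar hd]; simp only [he2]; rfl).trans
      (Equiv.prodSubtypeFstEquivSubtypeProd (p := fun z : ((v : Fin S) → Matrix {k : Fin t // d k = (v : ℕ)} {k : Fin t // d k = (v : ℕ)} F) => ∀ v, (z v).det ≠ 0))).trans
      (Equiv.prodCongr (Equiv.subtypePiEquivPi (β := fun v : Fin S => Matrix {k : Fin t // d k = (v : ℕ)} {k : Fin t // d k = (v : ℕ)} F) (p := fun v M => M.det ≠ 0)) (Equiv.refl _))
  rw [Nat.card_congr e1, Nat.card_congr e3, Nat.card_prod, Nat.card_pi, mul_comm]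
  congr 1
  · rw [Nat.card_fun, Nat.card_eq_fintype_card, Nat.card_eq_fintype_card, hF]
  · exact Finset.prod_congr rfl fun v _ => card_det_ne_zero hF _ rfl

theorem exponent (hd : ∀ k, 1 ≤ d k) :
    Fintype.card {r : Par d // ¬ Lead d r} =
      2 * (∑ i ∈ Finset.range (Finset.univ.sup d + 1), ∑ j ∈ Finset.range (Finset.univ.sup d + 1),
        if i < j then i * (Finset.univ.filter fun k : Fin t => d k = i).card *
          (Finset.univ.filter fun k : Fin t => d k = j).card else 0) +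
      ∑ i ∈ Finset.range (Finset.univ.sup d + 1), (i - 1) * (Finset.univ.filter fun k : Fin t => d k = i).card ^ 2 := by
  classical
  set S := Finset.univ.sup d + 1
  set a : ℕ → ℕ := fun i => (Finset.univ.filter fun k : Fin t => d k = i).card
  have hmem : ∀ k : Fin t, k ∈ (Finset.univ : Finset (Fin t)) → d k ∈ Finset.range S := fun k _ =>
    Finset.mem_range.2 (Nat.lt_succ_of_le (Finset.le_sup (f := d) (Finset.mem_univ _)))
  have ha0 : a 0 = 0 := by
    simp only [a, Finset.card_eq_zero, Finset.filter_eq_empty_iff]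
    intro k _
    have := hd k
    omega
  have key : ∀ f : ℕ → ℕ, (∑ k : Fin t, f (d k)) = ∑ i ∈ Finset.range S, a i * f i := by
    intro f
    rw [← Finset.sum_fiberwise_of_maps_to hmem]
    refine Finset.sum_congr rfl fun i _ => ?_
    rw [Finset.sum_congr rfl fun k hk => by rw [(Finset.mem_filter.1 hk).2], Finset.sum_const, smul_eq_mul]
  have hPar : Fintype.card (Par d) = ∑ i ∈ Finset.range S, ∑ j ∈ Finset.range S, a i * a j * min i j := by
    rw [Fintype.card_sigma, Fintype.sum_prod_type]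
    simp only [Fintype.card_fin]
    rw [key fun i => ∑ l : Fin t, min i (d l)]
    refine Finset.sum_congr rfl fun i _ => ?_
    rw [key fun j => min i j, Finset.mul_sum]
    exact Finset.sum_congr rfl fun j _ => by ring
  have hLead : Fintype.card {r : Par d // Lead d r} = ∑ i ∈ Finset.range S, a i ^ 2 := by
    rw [Fintype.card_congr (leadEquiv hd), Fintype.card_sigma, Finset.sum_range]
    refine Finset.sum_congr rfl fun v _ => ?_
    rw [Fintype.card_prod, Fintype.card_subtype, sq]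
  have hsplit := Fintype.card_subtype_compl (fun r : Par d => Lead d r)
  have hle := Fintype.card_subtype_le (fun r : Par d => Lead d r)
  have hterm : ∀ i j, a i * a j * min i j =
      (if i < j then i * a i * a j else 0) + (if j < i then j * a j * a i else 0) +
        (if i = j then i * a i ^ 2 else 0) := by
    intro i j
    rcases lt_trichotomy i j with h | rfl | h
    · rw [if_pos h, if_neg (by omega), if_neg (by omega), min_eq_left h.le]; ring
    · simp; ring
    · rw [if_neg (by omega), if_pos h, if_neg (by omega), min_eq_right h.le]; ring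
  have hdiag : ∑ i ∈ Finset.range S, i * a i ^ 2 =
      ∑ i ∈ Finset.range S, (i - 1) * a i ^ 2 + ∑ i ∈ Finset.range S, a i ^ 2 := by
    rw [← Finset.sum_add_distrib]
    refine Finset.sum_congr rfl fun i _ => ?_
    rcases Nat.eq_zero_or_pos i with rfl | hi
    · simp [ha0]
    · obtain ⟨i, rfl⟩ : ∃ k, i = k + 1 := ⟨i - 1, by omega⟩
      rw [Nat.add_sub_cancel]; ring
  have hsum : Fintype.card (Par d) =
      2 * (∑ i ∈ Finset.range S, ∑ j ∈ Finset.range S, if i < j then i * a i * a j else 0) +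
        ∑ i ∈ Finset.range S, i * a i ^ 2 := by
    rw [hPar]
    simp only [hterm, Finset.sum_add_distrib]
    rw [Finset.sum_comm (f := fun i j => if j < i then j * a j * a i else 0), two_mul]
    congr 1
    refine Finset.sum_congr rfl fun i hi => ?_
    rw [Finset.sum_ite_eq, if_pos hi]
  simp only [a] at *
  omega


/-- Order of the centraliser in GL of a unipotent matrix of given Jordan type over the field with q elements: if the type has a_i blocks of size i (all block sizes at least 1), the invertible matrices commuting with it number q^γ · Π_i |GL_(a_i)(q)| with γ = 2 Σ_(i<j) i a_i a_j + Σ_i (i − 1) a_i² (a group of order q^γ extended by Π GL_(a_i)(q)). -/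
theorem result {F : Type*} [Field F] [Fintype F] {q : ℕ} (hF : Fintype.card F = q) {t : ℕ} (d : Fin t → ℕ) (hd : ∀ k, 1 ≤ d k) : Nat.card {g : GL ((k : Fin t) × Fin (d k)) F // (g : Matrix ((k : Fin t) × Fin (d k)) ((k : Fin t) × Fin (d k)) F) * Cfsg.jordanTypeMatrix d F = Cfsg.jordanTypeMatrix d F * (g : Matrix ((k : Fin t) × Fin (d k)) ((k : Fin t) × Fin (d k)) F)} = q ^ (2 * (∑ i ∈ Finset.range (Finset.univ.sup d + 1), ∑ j ∈ Finset.range (Finset.univ.sup d + 1), if i < j then i * (Finset.univ.filter (fun k : Fin t => d k = i)).card * (Finset.univ.filter (fun k : Fin t => d k = j)).card else 0) + ∑ i ∈ Finset.range (Finset.univ.sup d + 1), (i - 1) * (Finset.univ.filter (fun k : Fin t => d k = i)).card ^ 2) * ∏ i ∈ Finset.range (Finset.univ.sup d + 1), ∏ j : Fin ((Finset.univ.filter (fun k : Fin t => d k = i)).card), (q ^ (Finset.univ.filter (fun k : Fin t => d k = i)).card - q ^ (j : ℕ)) := by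
  classical
  rw [main hF hd, exponent hd, Finset.prod_range]
  congr 1
  refine Finset.prod_congr rfl fun v _ => ?_
  rw [Fintype.card_subtype]

end Cfsg.Agent.S2581
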