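import Cfsg.Statements.S2582
import Cfsg.Agent.MatModule.UnipotentFormBridge
import Cfsg.Agent.MatModule.SympConj
import Cfsg.Agent.Classical.SympGroup

set_option autoImplicit false
open Cfsg

namespace Cfsg.Agent.S2582

open Cfsg.Agent.UniForm Cfsg.Agent.Classical in

/-- Which unipotent Jordan types occur in the finite symplectic group: over a finite field, a unipotent matrix with Jordan block sizes d_1, …, d_t (sum 2m, all at least 1) is similar to an element of Sp_2m(F) if and only if every odd block size occurs an even number of times. -/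
theorem result {F : Type*} [Field F] [Fintype F] {m t : ℕ} (d : Fin t → ℕ) (hd : ∀ k, 1 ≤ d k) (hsum : ∑ k, d k = 2 * m) : (∃ e : ((k : Fin t) × Fin (d k)) ≃ (Fin m ⊕ Fin m), ∃ A : Matrix.symplecticGroup (Fin m) F, IsConj (Matrix.reindex e e (Cfsg.jordanTypeMatrix d F)) (A : Matrix (Fin m ⊕ Fin m) (Fin m ⊕ Fin m) F)) ↔ ∀ j : ℕ, Odd j → Even (Finset.univ.filter (fun k : Fin t => d k = j)).card := by
  classical
  constructor
  · rintro ⟨e, A, hA⟩ j hj
    have hT := hasType_of_isConj e hA
    have hA' := (mem_symplectic_iff A.1).1 A.2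
    rw [← count_types]
    refine even_count_odd_of_alt (B := sympB m F) ⟨LinearMap.IsAlt.isRefl sympB_isAlt, fun x hx => sympB_nondeg.1 x hx,
      fun x y => ?_⟩ (pow_eq_zero_of_hasType hT) sympB_isAlt hT hj
    rw [Matrix.toLin'_apply, Matrix.toLin'_apply]
    exact hA' x y
  · intro h
    have hsum' : (Finset.univ.val.map d).sum = 2 * m := hsum
    obtain ⟨B, φ, hk, hsep, hp, hT⟩ := realizes_of_even (F := F) true (by simp) (Finset.univ.val.map d)
      (fun h0 => by
        obtain ⟨k, -, hk⟩ := Multiset.mem_map.1 h0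
        have := hd k
        omega)
      (fun j hj _ => by rw [count_types]; exact h j (hj.2 rfl))
    let e₀ : (Fin (Finset.univ.val.map d).sum → F) ≃ₗ[F] (Fin m ⊕ Fin m → F) := LinearEquiv.ofFinrankEq _ _ (by
      rw [Module.finrank_fin_fun, hsum', finrank_symp])
    obtain ⟨y, hy⟩ := Cfsg.Agent.SympConj.exists_isometry (B := sympB m F)
      (B' := B.comp e₀.symm.toLinearMap e₀.symm.toLinearMap) sympB_isAlt (fun x hx => sympB_nondeg.1 x hx)
      (fun x => hk (e₀.symm x)) (fun x hx => e₀.symm.map_eq_zero_iff.1 (hsep _ fun z => by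
        have h2 := hx (e₀ z)
        simp only [LinearMap.BilinForm.comp_apply, LinearEquiv.coe_coe, LinearEquiv.symm_apply_apply] at h2
        exact h2))
    have hyT : ∀ u v, sympB m F (y (e₀ u)) (y (e₀ v)) = B u v := fun u v => by
      rw [hy, LinearMap.BilinForm.comp_apply]
      simp only [LinearEquiv.coe_coe, LinearEquiv.symm_apply_apply]
    have hyinj : Function.Injective (fun u => y (e₀ u)) := by
      intro u v huv
      refine sub_eq_zero.1 (hsep _ fun z => ?_)
      rw [← hyT, map_sub, map_sub, show y (e₀ u) = y (e₀ v) from huv, sub_self, map_zero, LinearMap.zero_apply]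
    let Φ := LinearEquiv.ofBijective (y ∘ₗ e₀.toLinearMap) ⟨hyinj,
      (LinearMap.injective_iff_surjective_of_finrank_eq_finrank e₀.finrank_eq).1 hyinj⟩
    let M : Module.End F (Fin m ⊕ Fin m → F) := Φ.toLinearMap ∘ₗ φ ∘ₗ Φ.symm.toLinearMap
    have hM : LinearMap.toMatrix' M ∈ Matrix.symplecticGroup (Fin m) F := by
      rw [mem_symplectic_iff]
      intro u v
      obtain ⟨u, rfl⟩ := Φ.surjective u
      obtain ⟨v, rfl⟩ := Φ.surjective v
      rw [LinearMap.toMatrix'_mulVec, LinearMap.toMatrix'_mulVec]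
      simp only [M, LinearMap.comp_apply, LinearEquiv.coe_coe, LinearEquiv.symm_apply_apply]
      show sympB m F (y (e₀ (φ u))) (y (e₀ (φ v))) = sympB m F (y (e₀ u)) (y (e₀ v))
      rw [hyT, hyT, hp]
    obtain ⟨e, he⟩ := exists_isConj_of_hasType (n := Fin m ⊕ Fin m) (A := LinearMap.toMatrix' M)
      (by rw [hsum]; simp [two_mul]) (by
        rw [Matrix.toLin'_toMatrix']
        exact hasType_equiv Φ (fun x => by
          show Φ (φ x) = Φ (φ (Φ.symm (Φ x)))
          rw [LinearEquiv.symm_apply_apply]) hT)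
    exact ⟨e, ⟨_, hM⟩, he⟩

end Cfsg.Agent.S2582
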