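import Cfsg.Statements.S2583
import Cfsg.Agent.MatModule.UnipotentFormBridge

set_option autoImplicit false
open Cfsg

namespace Cfsg.Agent.S2583

open Cfsg.Agent.UniForm in

/-- Which unipotent Jordan types occur in a finite orthogonal group in odd characteristic: over a finite field of odd order, a unipotent matrix with Jordan block sizes d_1, …, d_t (sum n, all at least 1) is similar to an isometry of some quadratic form on F^n with non-degenerate polar form if and only if every even block size occurs an even number of times. -/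
theorem result {F : Type*} [Field F] [Fintype F] (h2 : (2 : F) ≠ 0) {n t : ℕ} (d : Fin t → ℕ) (hd : ∀ k, 1 ≤ d k) (hsum : ∑ k, d k = n) : (∃ Q : QuadraticForm F (Fin n → F), (QuadraticMap.polarBilin Q).Nondegenerate ∧ ∃ e : ((k : Fin t) × Fin (d k)) ≃ Fin n, ∃ A : ↥(Cfsg.isometryGroup F ⇑Q), IsConj (Matrix.reindex e e (Cfsg.jordanTypeMatrix d F)) ((A : Matrix.GeneralLinearGroup (Fin n) F) : Matrix (Fin n) (Fin n) F)) ↔ ∀ j : ℕ, Even j → 0 < j → Even (Finset.univ.filter (fun k : Fin t => d k = j)).card := by
  classical
  constructor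
  · rintro ⟨Q, hQ, e, A, hA⟩ j hj hj0
    have hT := hasType_of_isConj e hA
    have hA' : ∀ v, Q ((A.1.1).mulVec v) = Q v := fun v => A.2 v v
    have hS : ∀ x y, QuadraticMap.polarBilin Q x y = QuadraticMap.polarBilin Q y x := fun x y =>
      QuadraticMap.polar_comm _ x y
    rw [← count_types]
    refine even_count_even_of_symm (B := QuadraticMap.polarBilin Q)
      ⟨fun x y h => by rw [hS]; exact h, fun x hx => hQ.1 x hx, fun x y => ?_⟩
      (pow_eq_zero_of_hasType hT) hS h2 hT hj hj0
    show QuadraticMap.polar Q _ _ = QuadraticMap.polar Q x y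
    simp only [QuadraticMap.polar, Matrix.toLin'_apply, ← Matrix.mulVec_add, hA']
  · intro h
    obtain ⟨B, φ, hk, hsep, hp, hT⟩ := realizes_of_even (F := F) false (fun _ => h2) (Finset.univ.val.map d)
      (fun h0 => by
        obtain ⟨k, -, hk⟩ := Multiset.mem_map.1 h0
        have := hd k
        omega)
      (fun j hj hj0 => by
        rw [count_types]
        exact h j (Nat.not_odd_iff_even.1 (fun ho => by simpa using hj.1 ho)) hj0)
    obtain rfl : (Finset.univ.val.map d).sum = n := hsum
    let Q : QuadraticForm F (Fin (Finset.univ.val.map d).sum → F) := LinearMap.BilinMap.toQuadraticMap B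
    have hpol : ∀ x y, QuadraticMap.polarBilin Q x y = 2 * B x y := fun x y => by
      show QuadraticMap.polar Q x y = _
      simp only [QuadraticMap.polar, Q, LinearMap.BilinMap.toQuadraticMap_apply, map_add, LinearMap.add_apply]
      rw [hk y x]
      ring
    have hQ : (QuadraticMap.polarBilin Q).Nondegenerate := by
      refine ⟨fun x hx => hsep x fun y => ?_, fun y hy => hsep y fun x => ?_⟩
      · have h' := hx y
        rw [hpol] at h'
        exact (mul_eq_zero.1 h').resolve_left h2
      · have h' := hy x
        rw [hpol] at h'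
        rw [hk]
        exact (mul_eq_zero.1 h').resolve_left h2
    have hu : IsUnit φ := isUnit_phi (pow_eq_zero_of_hasType hT)
    let A : GL (Fin (Finset.univ.val.map d).sum) F :=
      Units.map (LinearMap.toMatrixAlgEquiv' (R := F) (n := Fin (Finset.univ.val.map d).sum)).toMulEquiv.toMonoidHom hu.unit
    have hA1 : A.1 = LinearMap.toMatrix' φ := rfl
    have hA : A ∈ Cfsg.isometryGroup F ⇑Q := by
      intro u v
      show Q (A.1.mulVec u) = Q u
      rw [hA1, LinearMap.toMatrix'_mulVec]
      exact hp u u
    obtain ⟨e, he⟩ := exists_isConj_of_hasType (n := Fin (Finset.univ.val.map d).sum) (A := A.1)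
      (by rw [Fintype.card_fin]; rfl) (by rw [hA1, Matrix.toLin'_toMatrix']; exact hT)
    exact ⟨Q, hQ, e, ⟨A, hA⟩, he⟩

end Cfsg.Agent.S2583
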