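import Cfsg.Statements.S2584
import Cfsg.Agent.MatModule.UnipotentFormBridge
import Cfsg.Agent.S2582
import Cfsg.Agent.S2585

set_option autoImplicit false
open Cfsg

namespace Cfsg.Agent.S2584

open Cfsg.Agent.UniForm in

/-- Which unipotent Jordan types occur in a finite orthogonal group in characteristic two: over a finite field of characteristic 2 and in even dimension 2m, a unipotent matrix with Jordan block sizes d_1, …, d_t (sum 2m, all at least 1) is similar to an isometry of some quadratic form on F^(2m) with non-degenerate polar form if and only if every odd block size occurs an even number of times (the same condition as for the symplectic group, which contains these orthogonal groups). -/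
theorem result {F : Type*} [Field F] [Fintype F] [CharP F 2] {m t : ℕ} (d : Fin t → ℕ) (hd : ∀ k, 1 ≤ d k) (hsum : ∑ k, d k = 2 * m) : (∃ Q : QuadraticForm F (Fin (2 * m) → F), (QuadraticMap.polarBilin Q).Nondegenerate ∧ ∃ e : ((k : Fin t) × Fin (d k)) ≃ Fin (2 * m), ∃ A : ↥(Cfsg.isometryGroup F ⇑Q), IsConj (Matrix.reindex e e (Cfsg.jordanTypeMatrix d F)) ((A : Matrix.GeneralLinearGroup (Fin (2 * m)) F) : Matrix (Fin (2 * m)) (Fin (2 * m)) F)) ↔ ∀ j : ℕ, Odd j → Even (Finset.univ.filter (fun k : Fin t => d k = j)).card := by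
  classical
  constructor
  · rintro ⟨Q, hQ, e, A, hA⟩ j hj
    have hT := hasType_of_isConj e hA
    have hA' : ∀ v, Q ((A.1.1).mulVec v) = Q v := fun v => A.2 v v
    have hS : ∀ x y, QuadraticMap.polarBilin Q x y = QuadraticMap.polarBilin Q y x := fun x y =>
      QuadraticMap.polar_comm _ x y
    have halt : (QuadraticMap.polarBilin Q).IsAlt := fun x => by
      show QuadraticMap.polar Q x x = 0
      rw [QuadraticMap.polar_self, two_nsmul, CharTwo.add_self_eq_zero]
    rw [← count_types]
    refine even_count_odd_of_alt (B := QuadraticMap.polarBilin Q)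
      ⟨fun x y h => by rw [hS]; exact h, fun x hx => hQ.1 x hx, fun x y => ?_⟩
      (pow_eq_zero_of_hasType hT) halt hT hj
    show QuadraticMap.polar Q _ _ = QuadraticMap.polar Q x y
    simp only [QuadraticMap.polar, Matrix.toLin'_apply, ← Matrix.mulVec_add, hA']
  · intro h
    obtain ⟨e, A, hA⟩ := (Cfsg.Agent.S2582.result (F := F) d hd hsum).2 h
    obtain ⟨Q, hQp, hQA⟩ := Cfsg.Agent.S2585.result A
    let g : Fin m ⊕ Fin m ≃ Fin (2 * m) := finSumFinEquiv.trans (finCongr (two_mul m).symm)
    let L : (Fin (2 * m) → F) ≃ₗ[F] (Fin m ⊕ Fin m → F) := LinearEquiv.funCongrLeft F F g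
    have hLA : ∀ v, L ((Matrix.reindex g g A.1).mulVec v) = A.1.mulVec (L v) := fun v => by
      funext i
      simp [L, Matrix.submatrix_mulVec_equiv, LinearMap.funLeft, Function.comp_def]
    have hQ : (QuadraticMap.polarBilin (Q.comp L.toLinearMap)).Nondegenerate := by
      have hp : ∀ x y, QuadraticMap.polarBilin (Q.comp L.toLinearMap) x y =
          Cfsg.Agent.Classical.sympB m F (L x) (L y) := fun x y => by
        rw [Cfsg.Agent.Classical.sympB_apply, ← hQp]
        show QuadraticMap.polar (Q.comp L.toLinearMap) x y = _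
        simp only [QuadraticMap.polar, QuadraticMap.comp_apply, LinearEquiv.coe_coe, map_add]
      refine ⟨fun x hx => L.map_eq_zero_iff.1 (Cfsg.Agent.Classical.sympB_nondeg.1 _ fun z => ?_),
        fun y hy => L.map_eq_zero_iff.1 (Cfsg.Agent.Classical.sympB_nondeg.2 _ fun z => ?_)⟩
      · obtain ⟨z, rfl⟩ := L.surjective z
        rw [← hp]; exact hx z
      · obtain ⟨z, rfl⟩ := L.surjective z
        rw [← hp]; exact hy z
    let U : (Matrix (Fin m ⊕ Fin m) (Fin m ⊕ Fin m) F)ˣ := ⟨A.1, (A⁻¹).1,
      congrArg Subtype.val (mul_inv_cancel A), congrArg Subtype.val (inv_mul_cancel A)⟩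
    let φ : Matrix (Fin m ⊕ Fin m) (Fin m ⊕ Fin m) F →* Matrix (Fin (2 * m)) (Fin (2 * m)) F :=
      (Matrix.reindexAlgEquiv F F g).toAlgHom.toRingHom.toMonoidHom
    let A' : GL (Fin (2 * m)) F := Units.map φ U
    have hA'1 : A'.1 = Matrix.reindex g g A.1 := rfl
    refine ⟨Q.comp L.toLinearMap, hQ, e.trans g, ⟨A', ?_⟩, ?_⟩
    · intro u v
      show Q.comp L.toLinearMap (A'.1.mulVec u) = Q.comp L.toLinearMap u
      rw [hA'1, QuadraticMap.comp_apply, QuadraticMap.comp_apply, LinearEquiv.coe_coe, hLA, hQA]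
    · have h2 := φ.map_isConj hA
      exact h2

end Cfsg.Agent.S2584
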