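import Cfsg.Statements.S2586
import Cfsg.Agent.MatModule.PolyModule

set_option autoImplicit false
open Cfsg Matrix

namespace Cfsg.Agent.S2586

/-- Over a finite field, every element of the symplectic group Sp_2m(F) is conjugate by an invertible matrix to its inverse. -/
theorem result {F : Type*} [Field F] [Finite F] {m : ℕ} (A : Matrix.symplecticGroup (Fin m) F) : IsConj (A : Matrix (Fin m ⊕ Fin m) (Fin m ⊕ Fin m) F) ((A⁻¹ : Matrix.symplecticGroup (Fin m) F) : Matrix (Fin m ⊕ Fin m) (Fin m ⊕ Fin m) F) := by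
  classical
  obtain ⟨B, hB, hadj⟩ := Cfsg.Agent.MatModule.exists_bilin (Matrix.toLin' (A : Matrix (Fin m ⊕ Fin m) (Fin m ⊕ Fin m) F))
  set M := (A : Matrix (Fin m ⊕ Fin m) (Fin m ⊕ Fin m) F) with hM
  set S := LinearMap.toMatrix₂' F B with hS
  have hBS : Matrix.toLinearMap₂' F S = B := Matrix.toLinearMap₂'_toMatrix' B
  have hsep : S.det ≠ 0 := by
    refine (LinearMap.separatingLeft_toLinearMap₂'_iff_det_ne_zero (M := S)).1 ?_
    rwa [hBS]
  have hcomp : Mᵀ * S = S * M := by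
    have h : B.compl₁₂ (Matrix.toLin' M) LinearMap.id = B.compl₁₂ LinearMap.id (Matrix.toLin' M) :=
      LinearMap.ext fun v => LinearMap.ext fun w => hadj v w
    have := congrArg (LinearMap.toMatrix₂' F) h
    simpa [LinearMap.toMatrix₂'_compl₁₂, LinearMap.toMatrix'_toLin', LinearMap.toMatrix'_id] using this
  have hJJ : Matrix.J (Fin m) F * (-Matrix.J (Fin m) F) = 1 := by
    rw [Matrix.mul_neg, Matrix.J_squared, neg_neg]
  have hu : IsUnit (-Matrix.J (Fin m) F * S).det := by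
    rw [Matrix.det_mul]
    refine IsUnit.mul ?_ (isUnit_iff_ne_zero.2 hsep)
    have := congrArg Matrix.det hJJ
    rw [Matrix.det_mul, Matrix.det_one, mul_comm] at this
    exact IsUnit.of_mul_eq_one _ this
  refine ⟨((Matrix.isUnit_iff_isUnit_det _).2 hu).unit, ?_⟩
  show (-Matrix.J (Fin m) F * S) * M = (↑A⁻¹ : Matrix (Fin m ⊕ Fin m) (Fin m ⊕ Fin m) F) * (-Matrix.J (Fin m) F * S)
  rw [SymplecticGroup.coe_inv]
  calc -Matrix.J (Fin m) F * S * M = -Matrix.J (Fin m) F * (Mᵀ * S) := by rw [hcomp, Matrix.mul_assoc]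
    _ = -Matrix.J (Fin m) F * Mᵀ * (Matrix.J (Fin m) F * -Matrix.J (Fin m) F) * S := by
        rw [hJJ, Matrix.mul_one, Matrix.mul_assoc]
    _ = -Matrix.J (Fin m) F * Mᵀ * Matrix.J (Fin m) F * (-Matrix.J (Fin m) F * S) := by
        simp only [Matrix.mul_assoc]

end Cfsg.Agent.S2586
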