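import Cfsg.Statements.S2588
import Cfsg.Agent.MatModule.InvariantHerm

set_option autoImplicit false
open Cfsg

namespace Cfsg.Agent.S2588

/-- An invertible matrix A over the field with q² elements is conjugate in GL_n(q²) to an element of the general unitary group GU_n(q) (isometries of the Hermitian form Σ u_i v_i^q) if and only if A is similar to the inverse transpose of its entrywise q-th power (A ~ A^(−qT), the image of A under the map sending a matrix to the inverse transpose of its entrywise q-th power — inverse transpose composed with the field automorphism — whose fixed points form GU_n(q)). -/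
theorem result {K : Type*} [Field K] [Fintype K] {q n : ℕ} (hK : Fintype.card K = q ^ 2) (A : GL (Fin n) K) : (∃ B : ↥(Cfsg.GU n K q), IsConj A (B : GL (Fin n) K)) ↔ IsConj (A : Matrix (Fin n) (Fin n) K) (((A : Matrix (Fin n) (Fin n) K).map (fun x : K => x ^ q)).transpose)⁻¹ := by
  classical
  obtain ⟨σ, hσq, hσ, -, -⟩ := Cfsg.Agent.Classical.exists_powHom hK
  have hmap : ((A : Matrix (Fin n) (Fin n) K).map (fun x : K => x ^ q)).transpose =
      Cfsg.Agent.UnitaryConj.adj σ A.1 := by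
    ext i j
    simp [Cfsg.Agent.UnitaryConj.adj, hσq]
  rw [hmap]
  have hAd : IsUnit (Cfsg.Agent.UnitaryConj.adj σ A.1).det := by
    rw [Cfsg.Agent.UnitaryConj.det_adj]
    exact ((Matrix.isUnit_iff_isUnit_det _).1 A.isUnit).map σ
  have hAu := (Matrix.isUnit_iff_isUnit_det _).2 hAd
  constructor
  · rintro ⟨B, hB⟩
    obtain ⟨R, hR⟩ := isConj_iff.1 hB
    have hB1 := (Cfsg.Agent.UnitaryConj.mem_GU_iff_adj hσq _).1 B.2
    have hX : IsUnit (Cfsg.Agent.UnitaryConj.adj σ R.1 * R.1) := by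
      refine (IsUnit.of_mul_eq_one (Cfsg.Agent.UnitaryConj.adj σ (R⁻¹ : GL (Fin n) K).1) ?_).mul R.isUnit
      rw [← Cfsg.Agent.UnitaryConj.adj_mul, Units.inv_mul, Cfsg.Agent.UnitaryConj.adj_one]
    refine ⟨hX.unit, ?_⟩
    have hRA : R.1 * A.1 = B.1.1 * R.1 := by
      rw [← Units.val_mul, ← Units.val_mul, ← hR, inv_mul_cancel_right]
    apply hAu.mul_left_cancel
    change Cfsg.Agent.UnitaryConj.adj σ A.1 * (Cfsg.Agent.UnitaryConj.adj σ R.1 * R.1 * A.1) =
      Cfsg.Agent.UnitaryConj.adj σ A.1 * ((Cfsg.Agent.UnitaryConj.adj σ A.1)⁻¹ *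
        (Cfsg.Agent.UnitaryConj.adj σ R.1 * R.1))
    rw [← mul_assoc _ _⁻¹, Matrix.mul_nonsing_inv _ hAd, one_mul, mul_assoc (Cfsg.Agent.UnitaryConj.adj σ R.1),
      hRA, ← mul_assoc, ← Cfsg.Agent.UnitaryConj.adj_mul, hRA, Cfsg.Agent.UnitaryConj.adj_mul, mul_assoc,
      ← mul_assoc _ _ R.1, hB1, one_mul]
  · rintro ⟨X, hX⟩
    obtain ⟨P, hP⟩ := Cfsg.Agent.UnitaryConj.exists_conj_mem_GU hσ hσq A X (by
      rw [mul_assoc, hX.eq, ← mul_assoc, Matrix.mul_nonsing_inv _ hAd, one_mul])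
    exact ⟨⟨_, hP⟩, isConj_iff.2 ⟨P, rfl⟩⟩

end Cfsg.Agent.S2588
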