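import Cfsg.Statements.S2590
import Cfsg.Agent.MatModule.OrthConj

set_option autoImplicit false
open Cfsg

namespace Cfsg.Agent.S2590

/-- Two semisimple elements of odd order of a finite orthogonal group (isometry group of a quadratic form on F^n with non-degenerate polar form, F finite of characteristic p; the elements have odd order prime to p) are conjugate in the orthogonal group if and only if they are conjugate in GL_n(F). -/
theorem result {F : Type*} [Field F] [Fintype F] {p : ℕ} [Fact p.Prime] [CharP F p] {n : ℕ} (Q : QuadraticForm F (Fin n → F)) (hQ : (QuadraticMap.polarBilin Q).Nondegenerate) (A B : ↥(Cfsg.isometryGroup F ⇑Q)) (hodd : Odd (orderOf A)) (hA : (orderOf A).Coprime p) : IsConj A B ↔ IsConj ((A : Matrix.GeneralLinearGroup (Fin n) F) : Matrix (Fin n) (Fin n) F) ((B : Matrix.GeneralLinearGroup (Fin n) F) : Matrix (Fin n) (Fin n) F) := by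
  classical
  refine ⟨fun h => ?_, fun h => ?_⟩
  · exact (Units.coeHom (Matrix (Fin n) (Fin n) F)).map_isConj ((Cfsg.isometryGroup F ⇑Q).subtype.map_isConj h)
  obtain ⟨P, hP⟩ := h
  have hmem : ∀ g : GL (Fin n) F, g ∈ Cfsg.isometryGroup F ⇑Q ↔ ∀ x, Q (Matrix.mulVec g.1 x) = Q x := by
    intro g
    exact ⟨fun hg x => hg x x, fun hg x _ => hg x⟩
  set a : Module.End F (Fin n → F) := Matrix.toLin' A.1.1 with ha
  have hpow : ∀ k : ℕ, a ^ k = Matrix.toLin' ((A ^ k : ↥(Cfsg.isometryGroup F ⇑Q)).1.1) := fun k => by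
    rw [ha, ← Matrix.toLin'_pow, SubmonoidClass.coe_pow, Units.val_pow_eq_pow_val]
  have hak : a ^ orderOf A = 1 := by
    rw [hpow, pow_orderOf_eq_one, OneMemClass.coe_one, Units.val_one, Matrix.toLin'_one]; rfl
  have hneg : ∀ x, a x = -x → a x = x := by
    intro x hx
    have hk : ∀ k : ℕ, (a ^ k) x = ((-1 : F) ^ k) • x := by
      intro k
      induction k with
      | zero => simp
      | succ k ih =>
          rw [pow_succ', Module.End.mul_apply, ih, map_smul, hx, smul_neg, pow_succ', neg_one_mul, neg_smul]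
    have h1 := hk (orderOf A)
    rw [hak, Module.End.one_apply, hodd.neg_one_pow, neg_one_smul] at h1
    rw [hx, ← h1]
  obtain ⟨q, hq, hqA⟩ : ∃ q : Polynomial F, Squarefree q ∧ Polynomial.aeval a q = 0 := by
    refine ⟨Polynomial.X ^ orderOf A - Polynomial.C 1,
      (Polynomial.separable_X_pow_sub_C (1 : F) ?_ one_ne_zero).squarefree, ?_⟩
    · rw [Ne, CharP.cast_eq_zero_iff F p]
      intro hd
      exact (Fact.out : p.Prime).ne_one (Nat.eq_one_of_dvd_coprimes hA hd dvd_rfl)
    · rw [map_sub, map_pow, Polynomial.aeval_X, Polynomial.aeval_C, map_one, hak, sub_self]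
  obtain ⟨U, hU, hUA⟩ := Cfsg.Agent.SympConj.exists_isometry_conj hQ (a := a)
    (b := Matrix.toLin' B.1.1) (fun x => (hmem A.1).1 A.2 x) (fun x => (hmem B.1).1 B.2 x) hq hqA hneg
    (Matrix.toLinearEquiv' P.1 ⟨↑P⁻¹, P.inv_mul, P.mul_inv⟩) (fun x => by
      change Matrix.mulVec P.1 (Matrix.mulVec A.1.1 x) = Matrix.mulVec B.1.1 (Matrix.mulVec P.1 x)
      rw [Matrix.mulVec_mulVec, Matrix.mulVec_mulVec, hP.eq])
  let M : GL (Fin n) F := ⟨LinearMap.toMatrix' U.toLinearMap, LinearMap.toMatrix' U.symm.toLinearMap,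
    by rw [← LinearMap.toMatrix'_comp]; simp, by rw [← LinearMap.toMatrix'_comp]; simp⟩
  have hM : ∀ x, Matrix.mulVec M.1 x = U x := fun x => LinearMap.toMatrix'_mulVec U.toLinearMap x
  refine isConj_iff.2 ⟨⟨M, (hmem M).2 fun x => by rw [hM]; exact hU x⟩, ?_⟩
  rw [mul_inv_eq_iff_eq_mul]
  refine Subtype.ext (Units.ext (Matrix.ext_of_mulVec_single fun i => ?_))
  simp only [Subgroup.coe_mul, Units.val_mul, ← Matrix.mulVec_mulVec, hM]
  exact hUA _

end Cfsg.Agent.S2590
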