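import Cfsg.Statements.S2591
import Cfsg.Agent.MatModule.RegUnipSp

set_option autoImplicit false
open Cfsg

namespace Cfsg.Agent.S2591

open Cfsg.Agent.RegUnip in

/-- Over a finite field of odd order and for m ≥ 1, the regular unipotent elements of Sp_2m(F) (u − 1 nilpotent of rank 2m − 1, a single Jordan block) form exactly two conjugacy classes of Sp_2m(F) (one class under the similarity group, which splits in two). -/
theorem result {F : Type*} [Field F] [Fintype F] {q : ℕ} (hF : Fintype.card F = q) (hq : Odd q) {m : ℕ} (hm : 1 ≤ m) : Nat.card {C : ConjClasses ↥(Matrix.symplecticGroup (Fin m) F) // ∃ u : Matrix.symplecticGroup (Fin m) F, ConjClasses.mk u = C ∧ ((u : Matrix (Fin m ⊕ Fin m) (Fin m ⊕ Fin m) F) - 1) ^ (2 * m) = 0 ∧ ((u : Matrix (Fin m ⊕ Fin m) (Fin m ⊕ Fin m) F) - 1).rank = 2 * m - 1} = 2 := by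
  classical
  have hrc : ringChar F ≠ 2 := by
    intro h20
    have := FiniteField.even_card_of_char_two h20
    rw [hF] at this
    exact Nat.not_even_iff_odd.2 hq (Nat.even_iff.2 this)
  have h2 : (2 : F) ≠ 0 := Ring.two_ne_zero hrc
  obtain ⟨ν, hν⟩ := FiniteField.exists_nonsquare (F := F) hrc
  have hν0 : ν ≠ 0 := fun h => hν (h ▸ IsSquare.zero)
  obtain ⟨φ₀, hφ₀⟩ := exists_skew (F := F) hm h2
  obtain ⟨u₀, hd₀, hr₀⟩ := exists_realization hm hφ₀ h2
  obtain ⟨u₁, hd₁, hr₁⟩ := exists_realization hm (isSkew_smul hφ₀ hν0) h2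
  have hne : ¬ IsConj u₀ u₁ := by
    intro h
    obtain ⟨y, hy0, hy⟩ := (isConj_iff_norm hm hd₀ hd₁).1 h
    have h1 : 1 - algebraMap F (UR F m) ν * (y * adjo F m y) = 0 := by
      by_contra h1
      obtain ⟨b, hb⟩ := hφ₀.2 _ h1
      apply hb
      rw [sub_mul, one_mul, map_sub, hy b, LinearMap.smul_apply, ← Algebra.smul_def, smul_mul_assoc, map_smul, sub_self]
    have h3 := congrArg (res F hm) h1
    rw [map_sub, map_one, map_mul, map_mul, res_adjo, AlgHom.commutes, Algebra.algebraMap_self_apply,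
      map_zero] at h3
    apply hν
    refine ⟨1 / res F hm y, ?_⟩
    field_simp
    linear_combination -h3
  refine Nat.card_eq_two_iff.2 ⟨⟨ConjClasses.mk u₀, u₀, rfl, hr₀⟩, ⟨ConjClasses.mk u₁, u₁, rfl, hr₁⟩,
    fun h => hne (ConjClasses.mk_eq_mk_iff_isConj.1 (congrArg Subtype.val h)), ?_⟩
  refine Set.eq_univ_of_forall ?_
  rintro ⟨C, u, rfl, hu⟩
  obtain ⟨φ, hd⟩ := exists_datum hm u hu
  obtain ⟨w, hw, hw0, hwz⟩ := exists_twist hφ₀ hd.1 hm
  rcases norm_dichotomy F hm h2 hν hw hw0 with ⟨y, hy, hy0⟩ | ⟨y, hy, hy0⟩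
  · refine Or.inl (Subtype.ext (ConjClasses.mk_eq_mk_iff_isConj.2 ((isConj_iff_norm hm hd hd₀).2 ⟨y, hy0, fun z => ?_⟩)))
    rw [hwz, hy]
  · refine Or.inr (Subtype.ext (ConjClasses.mk_eq_mk_iff_isConj.2 ((isConj_iff_norm hm hd hd₁).2 ⟨y, hy0, fun z => ?_⟩)))
    rw [hwz, ← hy, mul_assoc, ← Algebra.smul_def, map_smul, LinearMap.smul_apply]

end Cfsg.Agent.S2591
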