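import Cfsg.Statements.S2594
import Cfsg.Agent.Classical.SympGroup

set_option autoImplicit false
open Cfsg

namespace Cfsg.Agent.S2594

open Cfsg.Agent.Classical in

/-- Over a finite field with q elements, q even, an element t of Sp_2m(F) with rank(t − 1) = 1 (a symplectic transvection) has centraliser in Sp_2m(F) of order q^(2m−1) · |Sp_(2m−2)(q)| = q^(2m−1) · q^((m−1)²) · Π_(i=1)^(m−1) (q^(2i) − 1). -/
theorem result {F : Type*} [Field F] [Fintype F] [CharP F 2] {q : ℕ} (hF : Fintype.card F = q) {m : ℕ} (hm : 1 ≤ m) (t : Matrix.symplecticGroup (Fin m) F) (ht : ((t : Matrix (Fin m ⊕ Fin m) (Fin m ⊕ Fin m) F) - 1).rank = 1) : Nat.card ↥(Subgroup.centralizer ({t} : Set ↥(Matrix.symplecticGroup (Fin m) F))) = q ^ (2 * m - 1) * (q ^ ((m - 1) ^ 2) * ∏ i : Fin (m - 1), (q ^ (2 * ((i : ℕ) + 1)) - 1)) := by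
  classical
  set B := sympB m F with hB
  set T := spEquiv m F t with hT
  -- the image of `t - 1`
  set D : Module.End F (Fin m ⊕ Fin m → F) := Matrix.toLin' (t.1 - 1) with hD
  have hD1 : Module.finrank F (LinearMap.range D) = 1 := ht
  obtain ⟨⟨v, hv⟩, hv0, hspan⟩ := finrank_eq_one_iff'.1 hD1
  have hf : ∀ x, ∃ a : F, T.1 x = x + a • v := fun x => by
    obtain ⟨a, ha⟩ := hspan ⟨D x, LinearMap.mem_range_self D x⟩
    refine ⟨a, ?_⟩
    have ha' : a • v = D x := congrArg Subtype.val ha
    rw [ha', hD, Matrix.toLin'_apply, Matrix.sub_mulVec, Matrix.one_mulVec, hT, spEquiv_apply, add_sub_cancel]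
  choose f hf using hf
  have hvne : v ≠ 0 := fun h => hv0 (Subtype.ext h)
  have hA : B.IsAlt := sympB_isAlt
  obtain ⟨x₀, hx₀⟩ : ∃ x₀, B x₀ v = 1 := by
    by_contra hne
    refine hvne (sympB_nondeg.1 v fun y => ?_)
    by_contra hy
    have hy' : B y v ≠ 0 := by rw [Alt.neg' hA v y]; simpa using hy
    exact hne ⟨(B y v)⁻¹ • y, by simp [hy']⟩
  have hrel : ∀ x y, f x * B v y + f y * B x v = 0 := fun x y => by
    have h := T.2 x y
    rw [hf, hf] at h
    simp [hA v] at h
    linear_combination h - f x * f y * hA v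
  set c := f x₀ with hc
  have hfc : ∀ y, f y = c * B y v := fun y => by
    have h := hrel x₀ y
    rw [hx₀, Alt.neg' hA y v] at h
    linear_combination h
  have hc0 : c ≠ 0 := by
    intro h0
    obtain ⟨z, hz⟩ := hv
    have hfz : D z = f z • v := by
      rw [hD, Matrix.toLin'_apply, Matrix.sub_mulVec, Matrix.one_mulVec, ← spEquiv_apply, ← hT, hf,
        add_sub_cancel_left]
    rw [hz, hfc, h0, zero_mul, zero_smul] at hfz
    exact hvne hfz
  have hcomm : ∀ g : Alt.isoGroup B, g * T = T * g ↔ g.1 v = v := by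
    intro g
    constructor
    · intro h
      have h' : ∀ x, g.1 (T.1 x) = T.1 (g.1 x) := fun x => congrArg (fun k : Alt.isoGroup B => k.1 x) h
      have h0 := h' x₀
      rw [hf, hf, map_add, map_smul, add_left_cancel_iff, ← hc] at h0
      set a := c⁻¹ * f (g.1 x₀) with ha
      have hgv : g.1 v = a • v := by
        rw [ha, mul_smul, ← h0, smul_smul, inv_mul_cancel₀ hc0, one_smul]
      have h1 : a * a = 1 := by
        have h2 := g.2 x₀ v
        rw [hgv, map_smul, hx₀, smul_eq_mul, ← mul_right_inj' (mul_ne_zero hc0 hc0)] at h2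
        rw [hfc] at ha
        have h3 : c * B (g.1 x₀) v = c * a := by rw [ha, ← mul_assoc, mul_inv_cancel₀ hc0, one_mul]
        have h4 : c * c * (a * B (g.1 x₀) v) = c * c * (a * a) := by
          linear_combination (c * a) * h3
        exact mul_left_cancel₀ (mul_ne_zero hc0 hc0) (h4.symm.trans (h2.trans (mul_one _).symm) |>.trans (by ring))
      rw [hgv, show a = 1 by
        rcases mul_self_eq_one_iff.1 h1 with h | h
        · exact h
        · rw [h, CharTwo.neg_eq], one_smul]
    · intro h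
      refine Subtype.ext (LinearEquiv.ext fun x => ?_)
      change g.1 (T.1 x) = T.1 (g.1 x)
      rw [hf, hf, map_add, map_smul, h, hfc, hfc]
      have h2 := g.2 x v
      rw [h] at h2
      rw [h2]
  have hcard : Nat.card (Subgroup.centralizer ({t} : Set ↥(Matrix.symplecticGroup (Fin m) F))) =
      Nat.card (MulAction.stabilizer (Alt.isoGroup B) v) := by
    refine Nat.card_congr ((spEquiv m F).toEquiv.subtypeEquiv fun g => ?_)
    rw [Subgroup.mem_centralizer_singleton_iff, MulAction.mem_stabilizer_iff]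
    change g * t = t * g ↔ (spEquiv m F g).1 v = v
    rw [← hcomm, hT, ← map_mul, ← map_mul, (spEquiv m F).injective.eq_iff]
  have horb : MulAction.orbit (Alt.isoGroup B) v = {w | w ≠ 0} := by
    ext w
    constructor
    · rintro ⟨g, rfl⟩
      exact fun h => hvne (g.1.map_eq_zero_iff.1 h)
    · intro hw
      obtain ⟨g, hg, hgw⟩ := Alt.exists_map_vector hA (Alt.ndon_top sympB_nondeg) (u := v) (w := w)
        Submodule.mem_top Submodule.mem_top hvne hw
      exact ⟨⟨g, Alt.TG_le_isoGroup hA _ hg⟩, hgw⟩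
  have hkey := Nat.card_congr (MulAction.orbitProdStabilizerEquivGroup (Alt.isoGroup B) v)
  have horbc : Nat.card (MulAction.orbit (Alt.isoGroup B) v) = q ^ (2 * m) - 1 := by
    rw [horb, show Nat.card ({w : Fin m ⊕ Fin m → F | w ≠ 0}) = Nat.card {w : Fin m ⊕ Fin m → F // w ≠ 0} from rfl,
      Nat.card_eq_fintype_card, Fintype.card_subtype_compl, Fintype.card_subtype_eq, Fintype.card_pi,
      Finset.prod_const, Finset.card_univ, hF, Fintype.card_sum, Fintype.card_fin, two_mul]
  rw [Nat.card_prod, horbc, ← hcard, ← Nat.card_congr (spEquiv m F).toEquiv, card_symplecticGroup hF] at hkey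
  obtain ⟨k, rfl⟩ : ∃ k, m = k + 1 := ⟨m - 1, by omega⟩
  have hpos : 0 < q ^ (2 * (k + 1)) - 1 := by
    have : 2 ≤ q := hF ▸ Fintype.one_lt_card
    exact Nat.sub_pos_of_lt (Nat.one_lt_pow (by omega) (by omega))
  refine Nat.eq_of_mul_eq_mul_left hpos (hkey.trans ?_)
  rw [Finset.prod_range_succ, Nat.add_sub_cancel, Fin.prod_univ_eq_prod_range (fun i : ℕ => q ^ (2 * (i + 1)) - 1),
    show (k + 1) ^ 2 = (2 * (k + 1) - 1) + k ^ 2 by rw [show 2 * (k + 1) - 1 = 2 * k + 1 by omega]; ring, pow_add]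
  ring

end Cfsg.Agent.S2594
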