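import Cfsg.Statements.S2599
import Cfsg.Agent.Classical.QuadMat
-- import your own Cfsg.Agent.* helpers here

set_option autoImplicit false
open Cfsg

namespace Cfsg.Agent.S2599

/-- An irreducible invariant subspace of a semisimple isometry is non-degenerate or totally singular: let Q be a quadratic form on F^n (F finite of characteristic p) with non-degenerate polar form f, x an isometry of Q of order prime to p, and U a non-zero x-invariant subspace containing no x-invariant subspace other than 0 and U. Then U meets its f-orthogonal trivially, or Q vanishes on U, or p = 2, U is a line spanned by a non-singular vector and x fixes U pointwise. -/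
theorem result {F : Type*} [Field F] [Fintype F] {p : ℕ} [Fact p.Prime] [CharP F p] {n : ℕ} (Q : QuadraticForm F (Fin n → F)) (hQ : (QuadraticMap.polarBilin Q).Nondegenerate) (x : ↥(Cfsg.isometryGroup F ⇑Q)) (hx : (orderOf x).Coprime p) (U : Submodule F (Fin n → F)) (hU0 : U ≠ ⊥) (hUx : ∀ u ∈ U, ((x : Matrix.GeneralLinearGroup (Fin n) F) : Matrix (Fin n) (Fin n) F).mulVec u ∈ U) (hirr : ∀ W : Submodule F (Fin n → F), W ≤ U → (∀ w ∈ W, ((x : Matrix.GeneralLinearGroup (Fin n) F) : Matrix (Fin n) (Fin n) F).mulVec w ∈ W) → W = ⊥ ∨ W = U) : U ⊓ LinearMap.BilinForm.orthogonal (QuadraticMap.polarBilin Q) U = ⊥ ∨ (∀ u ∈ U, Q u = 0) ∨ (p = 2 ∧ Module.finrank F U = 1 ∧ (∃ u ∈ U, Q u ≠ 0) ∧ ∀ u ∈ U, ((x : Matrix.GeneralLinearGroup (Fin n) F) : Matrix (Fin n) (Fin n) F).mulVec u = u) := by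
  open Cfsg.Agent.Classical.Quad QuadraticMap in
    set M := ((x : Matrix.GeneralLinearGroup (Fin n) F) : Matrix (Fin n) (Fin n) F) with hM
    have hQx : ∀ v, Q (M.mulVec v) = Q v := mem_isometryGroup_iff.1 x.2
    have hinj : ∀ v w, M.mulVec v = M.mulVec w → v = w := fun v w h => (oEquiv Q x).1.injective h
    have hpol : ∀ v w, polar Q (M.mulVec v) (M.mulVec w) = polar Q v w := fun v w => by
      simp only [polar, ← Matrix.mulVec_add, hQx]
    have hsurjU : ∀ u ∈ U, ∃ u' ∈ U, M.mulVec u' = u := by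
      have hmap : U.map (Matrix.mulVecLin M) = U := by
        refine Submodule.eq_of_le_of_finrank_eq (by rintro _ ⟨u, hu, rfl⟩; exact hUx u hu) ?_
        exact (Submodule.equivMapOfInjective _ (fun v w h => hinj v w h) U).finrank_eq.symm
      intro u hu
      rw [← hmap] at hu
      exact hu
    rcases hirr (U ⊓ LinearMap.BilinForm.orthogonal (QuadraticMap.polarBilin Q) U) inf_le_left (fun w hw =>
        Submodule.mem_inf.2 ⟨hUx w (Submodule.mem_inf.1 hw).1, fun u hu => by
          obtain ⟨u', hu', rfl⟩ := hsurjU u hu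
          show polar Q (M.mulVec u') (M.mulVec w) = 0
          rw [hpol]
          exact (Submodule.mem_inf.1 hw).2 u' hu'⟩) with hh | hh
    · exact Or.inl hh
    right
    have hiso : ∀ a ∈ U, ∀ b ∈ U, polar Q a b = 0 := fun a ha b hb => by
      have hb' : b ∈ U ⊓ LinearMap.BilinForm.orthogonal (QuadraticMap.polarBilin Q) U := by rw [hh]; exact hb
      exact (Submodule.mem_inf.1 hb').2 a ha
    by_cases h2 : (2 : F) = 0
    swap
    · refine Or.inl fun u hu => ?_
      have := hiso u hu u hu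
      rw [polar_self'] at this
      exact (mul_eq_zero.1 this).resolve_left h2
    have : CharP F 2 := CharTwo.of_one_ne_zero_of_two_eq_zero one_ne_zero h2
    have hp : p = 2 := CharP.eq F ‹CharP F p› ‹CharP F 2›
    let K : Submodule F (Fin n → F) :=
      { carrier := {u | u ∈ U ∧ Q u = 0}
        add_mem' := fun {a b} ha hb => ⟨U.add_mem ha.1 hb.1, by
          rw [map_add', ha.2, hb.2, hiso a ha.1 b hb.1]; simp⟩
        zero_mem' := ⟨U.zero_mem, map_zero Q⟩
        smul_mem' := fun c u hu => ⟨U.smul_mem c hu.1, by rw [map_smul', hu.2, mul_zero]⟩ }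
    rcases hirr K (fun u hu => hu.1) (fun w hw => ⟨hUx w hw.1, by rw [hQx]; exact hw.2⟩) with hK | hK
    swap
    · exact Or.inl fun u hu => (hK.symm ▸ hu : u ∈ K).2
    right
    obtain ⟨u₀, hu₀, hu₀0⟩ := Submodule.exists_mem_ne_zero_of_ne_bot hU0
    have hQ0 : ∀ u ∈ U, Q u = 0 → u = 0 := fun u hu h => (Submodule.mem_bot F).1 (hK ▸ (⟨hu, h⟩ : u ∈ K))
    have hq₀ : Q u₀ ≠ 0 := fun h => hu₀0 (hQ0 u₀ hu₀ h)
    have hline : ∀ u ∈ U, ∀ t : F, t * t * Q u₀ = Q u → u = t • u₀ := fun u hu t ht => by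
      refine sub_eq_zero.1 (hQ0 _ (U.sub_mem hu (U.smul_mem t hu₀)) ?_)
      rw [sub_eq_add_neg, map_add', QuadraticMap.map_neg, map_smul', ht, polar_neg_right, polar_smul_right,
        hiso u hu u₀ hu₀]
      simp [CharTwo.add_self_eq_zero]
    refine ⟨hp, finrank_eq_one_iff'.2 ⟨⟨u₀, hu₀⟩, fun h => hu₀0 (congrArg Subtype.val h), fun u => ?_⟩,
      ⟨u₀, hu₀, hq₀⟩, fun u hu => ?_⟩
    · obtain ⟨t, ht⟩ := FiniteField.isSquare_of_char_two (ringChar.eq F 2) (Q u.1 / Q u₀)
      exact ⟨t, Subtype.ext (hline u.1 u.2 t (by rw [← ht, div_mul_cancel₀ _ hq₀])).symm⟩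
    · refine sub_eq_zero.1 (hQ0 _ (U.sub_mem (hUx u hu) hu) ?_)
      rw [sub_eq_add_neg, map_add', QuadraticMap.map_neg, hQx, polar_neg_right, hiso _ (hUx u hu) u hu]
      simp [CharTwo.add_self_eq_zero]

end Cfsg.Agent.S2599
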