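import Cfsg.Statements.S2601
import Cfsg.Agent.AutPSL.Structure

set_option autoImplicit false
open Cfsg

namespace Cfsg.Agent.S2601

/-- Structure of the outer automorphism group of PSL_n(q), n ≥ 3, q = p^f: it has a normal cyclic subgroup of order gcd(n, q − 1) (the diagonal automorphisms) whose quotient is the direct product of a cyclic group of order f (field automorphisms) and a group of order 2 (the inverse-transpose graph automorphism). -/
theorem result {F : Type*} [Field F] [Fintype F] {p f n : ℕ} [Fact p.Prime] (hf : 1 ≤ f) (hF : Fintype.card F = p ^ f) (hn : 3 ≤ n) : ∃ φ : Cfsg.Out (Matrix.ProjectiveSpecialLinearGroup (Fin n) F) →* Multiplicative (ZMod f × ZMod 2), Function.Surjective φ ∧ IsCyclic φ.ker ∧ Nat.card φ.ker = Nat.gcd n (p ^ f - 1) := by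
  haveI : CharP F p := AutPSL.charP_of_card hF
  obtain ⟨hcyc, hgal⟩ := AutPSL.card_gal (F := F) hf hF
  obtain ⟨φ, hs, hc, hk⟩ := AutPSL.exists_out_hom p (AutPSL.isComplementHom_three (F := F) p hn) (by omega)
  subst hgal
  let e : (F ≃+* F) × Multiplicative (ZMod 2) ≃* Multiplicative (ZMod (Nat.card (F ≃+* F)) × ZMod 2) :=
    ((zmodCyclicMulEquiv hcyc).symm.prodCongr (MulEquiv.refl _)).trans (MulEquiv.prodMultiplicative _ _).symm
  have hker : (e.toMonoidHom.comp φ).ker = φ.ker := by ext x; simp [MonoidHom.mem_ker]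
  refine ⟨e.toMonoidHom.comp φ, e.surjective.comp hs, ?_, ?_⟩
  · rw [hker]; exact hc
  · rw [hker, hk, hF]

end Cfsg.Agent.S2601
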