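import Cfsg.Statements.S2603
import Cfsg.Agent.AutPSU.Structure

set_option autoImplicit false
open Cfsg

namespace Cfsg.Agent.S2603

/-- Structure of the outer automorphism group of PSU_n(q), n ≥ 3, (n, q) ≠ (3, 2), q = p^f, realised over the field with q² elements: it has a normal cyclic subgroup of order gcd(n, q + 1) (diagonal automorphisms) with cyclic quotient of order 2f (generated by the Frobenius field automorphism of the field with q² elements, whose f-th power is the graph automorphism). -/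
theorem result {K : Type*} [Field K] [Fintype K] {p f q n : ℕ} [Fact p.Prime] (hf : 1 ≤ f) (hq : q = p ^ f) (hK : Fintype.card K = q ^ 2) (hn : 3 ≤ n) (h32 : ¬ (n = 3 ∧ q = 2)) : ∃ φ : Cfsg.Out (Cfsg.PSU n K q) →* Multiplicative (ZMod (2 * f)), Function.Surjective φ ∧ IsCyclic φ.ker ∧ Nat.card φ.ker = Nat.gcd n (q + 1) := by
  have hK2 : Fintype.card K = p ^ (2 * f) := by rw [hK, hq, ← pow_mul, mul_comm]
  haveI : CharP K p := AutPSL.charP_of_card hK2
  obtain ⟨σ, hu⟩ := AutPSU.exists_uctx hK
  obtain ⟨hcyc, hgal⟩ := AutPSL.card_gal (F := K) (f := 2 * f) (by omega) hK2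
  obtain ⟨φ, hs, hc, hk⟩ := AutPSU.exists_out_hom hu p hn h32
  generalize 2 * f = t at hgal ⊢
  subst hgal
  have hker : ((zmodCyclicMulEquiv hcyc).symm.toMonoidHom.comp φ).ker = φ.ker := by
    ext x; simp [MonoidHom.mem_ker]
  refine ⟨(zmodCyclicMulEquiv hcyc).symm.toMonoidHom.comp φ, (zmodCyclicMulEquiv hcyc).symm.surjective.comp hs, ?_, ?_⟩
  · rw [hker]; exact hc
  · rw [hker, hk]

end Cfsg.Agent.S2603
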