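import Cfsg.Statements.S2608
import Cfsg.Agent.AutPOmega.Triality.OddFour

set_option autoImplicit false
open Cfsg

namespace Cfsg.Agent.S2608

/-- Outer automorphism group of PΩ⁺_2m(q), q = p^f odd: for m = 4 it is S_4 × C_f (triality); for m ≥ 5 it is C_2 × C_2 × C_f when q ≡ 3 (mod 4) and m is odd, and D_8 × C_f otherwise. -/
theorem result {F : Type*} [Field F] [Fintype F] {p f m : ℕ} [Fact p.Prime] (hf : 1 ≤ f) (hF : Fintype.card F = p ^ f) (hp : p ≠ 2) (hm : 4 ≤ m) : if m = 4 then Nonempty (Cfsg.Out (Cfsg.POmega F (Cfsg.quadFormPlus m F)) ≃* Equiv.Perm (Fin 4) × Multiplicative (ZMod f)) else if p ^ f % 4 = 3 ∧ Odd m then Nonempty (Cfsg.Out (Cfsg.POmega F (Cfsg.quadFormPlus m F)) ≃* Multiplicative (ZMod 2 × ZMod 2 × ZMod f)) else Nonempty (Cfsg.Out (Cfsg.POmega F (Cfsg.quadFormPlus m F)) ≃* DihedralGroup 4 × Multiplicative (ZMod f)) := by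
  have hodd : Odd (Fintype.card F) := by rw [hF]; exact ((Fact.out : p.Prime).odd_of_ne_two hp).pow
  obtain ⟨hcyc, hgal⟩ := Agent.AutPSL.card_gal (F := F) hf hF
  subst hgal
  have eg := (zmodCyclicMulEquiv hcyc).symm
  split_ifs with h4 hA
  · subst h4
    obtain ⟨e⟩ := Agent.AutPOmega.Triality.out_odd_four (F := F) hodd
    exact ⟨e.trans (MulEquiv.prodCongr (MulEquiv.refl _) eg)⟩
  · obtain ⟨e⟩ := Agent.AutPOmega.Triality.out_odd_five (F := F) (m := m) hodd (by omega)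
    have hz : ¬ Fintype.card F ^ m % 4 = 1 :=
      (Agent.AutPOmega.case_iff_plus (by omega : 3 ≤ m) hodd).1 ⟨hA.2, by rw [hF]; exact hA.1⟩
    obtain ⟨e'⟩ := Agent.AutPOmega.Triality.range_quot_klein (by omega : 3 ≤ m) hodd hz
    exact ⟨e.trans ((MulEquiv.prodCongr e' eg).trans ((MulEquiv.prodMultiplicative _ _).symm.trans
      (AddEquiv.toMultiplicative AddEquiv.prodAssoc)))⟩
  · obtain ⟨e⟩ := Agent.AutPOmega.Triality.out_odd_five (F := F) (m := m) hodd (by omega)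
    have hz : Fintype.card F ^ m % 4 = 1 := by
      by_contra hz
      have h := (Agent.AutPOmega.case_iff_plus (by omega : 3 ≤ m) hodd).2 hz
      exact hA ⟨by rw [← hF]; exact h.2, h.1⟩
    obtain ⟨e'⟩ := Agent.AutPOmega.pgo_inn_plus (by omega : 3 ≤ m) hodd hz
    exact ⟨e.trans (MulEquiv.prodCongr e' eg)⟩

end Cfsg.Agent.S2608
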