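import Cfsg.Statements.S2609
import Cfsg.Agent.Classical.OrthChar
-- import your own Cfsg.Agent.* helpers here

set_option autoImplicit false
open Cfsg

namespace Cfsg.Agent.S2609

/-- Spinor norm criterion for Ω over a finite field of odd order: let Q be a quadratic form on F^n, n ≥ 2, with non-degenerate polar form, and let g be an isometry written as a product of reflections in non-singular vectors v_1, …, v_k. Then g lies in Ω (the commutator subgroup of the orthogonal group) if and only if k is even and Q(v_1)⋯Q(v_k) is a square; in particular, for g of determinant one, whether that product is a square does not depend on the chosen factorisation (it is the spinor norm of g). -/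
theorem result {F : Type*} [Field F] [Fintype F] (h2 : (2 : F) ≠ 0) {n : ℕ} (hn : 2 ≤ n) (Q : QuadraticForm F (Fin n → F)) (hQ : (QuadraticMap.polarBilin Q).Nondegenerate) (g : ↥(Cfsg.isometryGroup F ⇑Q)) (vs : List (Fin n → F)) (hvs : ∀ v ∈ vs, Q v ≠ 0) (hg : ((g : Matrix.GeneralLinearGroup (Fin n) F) : Matrix (Fin n) (Fin n) F) = (vs.map (fun v => Cfsg.reflectionMatrix ⇑Q v)).prod) : g ∈ Cfsg.Omega F ⇑Q ↔ (Even vs.length ∧ IsSquare (vs.map (fun v => Q v)).prod) := by
  open Cfsg.Agent.Classical.Quad QuadraticMap in
    have hex := hex_of_two h2 (Module.finrank F (Fin n → F))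
    have key : ∀ (l : List {v : Fin n → F // Q v ≠ 0}) (x : Fin n → F),
        (l.map fun i => rO i.2).prod.1 x =
          ((l.map fun i => i.1).map fun v => Cfsg.reflectionMatrix ⇑Q v).prod.mulVec x := by
      intro l
      induction l with
      | nil => intro x; simp [oG_one_apply]
      | cons a l ih =>
        intro x
        simp only [List.map_cons, List.prod_cons, oG_mul_apply, ← Matrix.mulVec_mulVec, ← ih]
        rw [reflectionMatrix_mulVec, rO_apply]
    let L : List {v : Fin n → F // Q v ≠ 0} := vs.pmap (fun v hv => ⟨v, hv⟩) hvs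
    have hL : (L.map fun i => i.1) = vs := by simp [L, List.map_pmap]
    have hlen : L.length = vs.length := by simp [L]
    have e : oEquiv Q g = (L.map fun i => rO i.2).prod := ext_oG fun x => by rw [oEquiv_apply, key, hL, hg]
    obtain ⟨c1, c2⟩ := chars_list hQ hex (fun i : {v : Fin n → F // Q v ≠ 0} => i.1) (fun i => i.2) L
    rw [mem_omega_iff, mem_commutator_chars hQ hex, e, c1, hlen,
      neg_one_pow_eq_one_iff_even (show (-1 : ℤˣ) ≠ 1 by decide)]
    have hp : (L.map fun i => Q i.1).prod = (vs.map fun v => Q v).prod := by
      rw [← hL, List.map_map]; rfl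
    refine and_congr_right fun hev => ?_
    rw [hp, hlen, hev.neg_one_pow, one_mul] at c2
    exact ⟨fun h => qs_eq_one.1 ((c2 h2).symm.trans (h h2)), fun h _ => (c2 h2).trans (qs_eq_one.2 h)⟩

end Cfsg.Agent.S2609
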