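import Cfsg.Statements.S2611
import Cfsg.Agent.Classical.OrthBlocks
-- import your own Cfsg.Agent.* helpers here

set_option autoImplicit false
open Cfsg

namespace Cfsg.Agent.S2611

/-- For the hyperbolic quadratic form Σ x_i y_i on F^(2m) (F finite, m ≥ 1, excluding m = 2 over the field of two elements) and an invertible m × m matrix A, the block-diagonal isometry diag(A, (A⁻¹)ᵀ), which stabilises the two maximal totally singular subspaces x = 0 and y = 0, lies in Ω⁺_2m(F) (the commutator subgroup of the orthogonal group) if and only if det A is a square in F. -/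
theorem result {F : Type*} [Field F] [Fintype F] {m : ℕ} (hm : 1 ≤ m) (h : Fintype.card F ≠ 2 ∨ m ≠ 2) (A : GL (Fin m) F) : (∃ g : ↥(Cfsg.isometryGroup F (Cfsg.quadFormPlus m F)), g ∈ Cfsg.Omega F (Cfsg.quadFormPlus m F) ∧ ((g : Matrix.GeneralLinearGroup (Fin m ⊕ Fin m) F) : Matrix (Fin m ⊕ Fin m) (Fin m ⊕ Fin m) F) = Matrix.fromBlocks (A : Matrix (Fin m) (Fin m) F) 0 0 ((A : Matrix (Fin m) (Fin m) F)⁻¹).transpose) ↔ IsSquare (A : Matrix (Fin m) (Fin m) F).det := by
  open Cfsg.Agent.Classical.Quad QuadraticMap in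
    rw [← coe_plusQ]
    have hex : Nat.card F ≠ 2 ∨ Module.finrank F (Fin m ⊕ Fin m → F) ≠ 4 := by
      rw [finrank_plus, Nat.card_eq_fintype_card]; omega
    have hdet : (A : Matrix (Fin m) (Fin m) F).det ≠ 0 := (Matrix.isUnits_det_units A).ne_zero
    obtain ⟨k, hk⟩ := exists_leviO (A : Matrix (Fin m) (Fin m) F) (A : Matrix (Fin m) (Fin m) F)⁻¹
      (Matrix.mul_nonsing_inv _ hdet.isUnit)
    obtain ⟨c1, c2⟩ := chars_levi hex hdet k hk
    rw [exists_omega_matrix_iff k _ hk, mem_commutator_chars nondeg_plusQ hex, and_iff_right c1]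
    by_cases h2 : (2 : F) = 0
    · exact iff_of_true (fun hh => absurd h2 hh) (qs_eq_one.1 (qs_eq_one_of_two_eq_zero h2 _))
    · exact ⟨fun hh => qs_eq_one.1 ((c2 h2).symm.trans (hh h2)), fun hh _ => (c2 h2).trans (qs_eq_one.2 hh)⟩

end Cfsg.Agent.S2611
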