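import Cfsg.Statements.S2612
import Cfsg.Agent.Classical.OrthBlocks
-- import your own Cfsg.Agent.* helpers here

set_option autoImplicit false
open Cfsg

namespace Cfsg.Agent.S2612

/-- For the hyperbolic quadratic form Σ x_i y_i on F^(2m) (F finite, m ≥ 1, excluding m = 2 over the field of two elements), Ω⁺_2m(F) (the commutator subgroup of the orthogonal group) contains an element interchanging the two complementary maximal totally singular subspaces {y = 0} and {x = 0} if and only if m is even (dimension divisible by 4). -/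
theorem result {F : Type*} [Field F] [Fintype F] {m : ℕ} (hm : 1 ≤ m) (h : Fintype.card F ≠ 2 ∨ m ≠ 2) : (∃ g : ↥(Cfsg.isometryGroup F (Cfsg.quadFormPlus m F)), g ∈ Cfsg.Omega F (Cfsg.quadFormPlus m F) ∧ (∀ v : Fin m ⊕ Fin m → F, (∀ i, v (Sum.inr i) = 0) → ∀ i, (((g : Matrix.GeneralLinearGroup (Fin m ⊕ Fin m) F) : Matrix (Fin m ⊕ Fin m) (Fin m ⊕ Fin m) F).mulVec v) (Sum.inl i) = 0) ∧ (∀ v : Fin m ⊕ Fin m → F, (∀ i, v (Sum.inl i) = 0) → ∀ i, (((g : Matrix.GeneralLinearGroup (Fin m ⊕ Fin m) F) : Matrix (Fin m ⊕ Fin m) (Fin m ⊕ Fin m) F).mulVec v) (Sum.inr i) = 0)) ↔ Even m := by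
  open Cfsg.Agent.Classical.Quad QuadraticMap in
    rw [← coe_plusQ]
    have hex : Nat.card F ≠ 2 ∨ Module.finrank F (Fin m ⊕ Fin m → F) ≠ 4 := by
      rw [finrank_plus, Nat.card_eq_fintype_card]; omega
    have sign : ∀ k : oG (plusQ F m), (∀ v ∈ plusU F m, ∀ i, k.1 v (Sum.inl i) = 0) →
        (dickson nondeg_plusQ hex k = 1 ↔ Even m) := fun k hk => by
      rw [← even_codim_iff nondeg_plusQ hex finrank_plus plusU_singular finrank_plusU k]
      have hbot : plusU F m ⊓ (plusU F m).map (k.1 : (Fin m ⊕ Fin m → F) →ₗ[F] (Fin m ⊕ Fin m → F)) = ⊥ := by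
        refine eq_bot_iff.2 ?_
        rintro x ⟨hx, y, hy, rfl⟩
        rw [Submodule.mem_bot]
        funext s
        rcases s with i | i
        · exact hk y hy i
        · exact mem_plusU.1 hx i
      rw [hbot, finrank_bot, Nat.sub_zero]
    constructor
    · rintro ⟨g, hg, h1, -⟩
      have hc := ((mem_commutator_chars nondeg_plusQ hex _).1 ((mem_omega_iff g).1 hg)).1
      exact (sign _ fun v hv i => h1 v (mem_plusU.1 hv) i).1 hc
    · intro hev
      obtain ⟨w, hw⟩ := exists_swapO (F := F) (m := m)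
      have hwd : dickson nondeg_plusQ hex w = 1 := (sign w fun v hv i => by
        rw [hw]; exact mem_plusU.1 hv i).2 hev
      obtain ⟨k, hkU, hkd, hks⟩ : ∃ k : oG (plusQ F m),
          ((∀ v, (∀ i, v (Sum.inr i) = 0) → ∀ i, k.1 v (Sum.inr i) = 0) ∧
            (∀ v, (∀ i, v (Sum.inl i) = 0) → ∀ i, k.1 v (Sum.inl i) = 0)) ∧
          dickson nondeg_plusQ hex k = 1 ∧ ((2 : F) ≠ 0 → spin (plusQ F m) (k * w) = 1) := by
        by_cases hs : (2 : F) ≠ 0 → spin (plusQ F m) w = 1
        · exact ⟨1, ⟨fun v hv => hv, fun v hv => hv⟩, map_one _, by simpa using hs⟩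
        · rw [Classical.not_imp] at hs
          obtain ⟨c, hc, hqc⟩ := exists_qs_neg hs.1
          have hd0 : ∀ i, (Function.update (fun _ : Fin m => (1 : F)) ⟨0, hm⟩ c) i ≠ 0 := fun i => by
            rw [Function.update_apply]; split_ifs
            · exact hc
            · exact one_ne_zero
          obtain ⟨k, kd, ks, kapp⟩ := exists_plus_scale hex _ hd0
          refine ⟨k, ⟨fun v hv i => ?_, fun v hv i => ?_⟩, kd, fun h2' => ?_⟩
          · rw [kapp, Matrix.fromBlocks_diagonal, Matrix.mulVec_diagonal, hv i, mul_zero]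
          · rw [kapp, Matrix.fromBlocks_diagonal, Matrix.mulVec_diagonal, hv i, mul_zero]
          · rw [map_mul, ks h2', (Int.units_eq_one_or _).resolve_left hs.2,
              Finset.prod_eq_single (⟨0, hm⟩ : Fin m) (fun j _ hj => by rw [Function.update_of_ne hj, qs_one])
                (fun hh => absurd (Finset.mem_univ _) hh), Function.update_self, hqc]
            rfl
      refine ⟨(oEquiv _).symm (k * w), ?_, fun v hv i => ?_, fun v hv i => ?_⟩
      · rw [mem_omega_iff, MulEquiv.apply_symm_apply, mem_commutator_chars nondeg_plusQ hex]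
        exact ⟨by rw [map_mul, hkd, hwd, one_mul], hks⟩
      · rw [← oEquiv_apply, MulEquiv.apply_symm_apply, oG_mul_apply]
        exact hkU.2 _ (fun j => by rw [hw]; exact hv j) i
      · rw [← oEquiv_apply, MulEquiv.apply_symm_apply, oG_mul_apply]
        exact hkU.1 _ (fun j => by rw [hw]; exact hv j) i

end Cfsg.Agent.S2612
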