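import Cfsg.Statements.S2613
import Cfsg.Agent.Classical.OrthDiag
-- import your own Cfsg.Agent.* helpers here

set_option autoImplicit false
open Cfsg

namespace Cfsg.Agent.S2613

/-- For the hyperbolic form Σ x_j y_j on F^(2m), F finite with q elements, q odd, and 1 ≤ i ≤ m: the involution negating the first i hyperbolic pairs (x_j, y_j ↦ −x_j, −y_j for j < i) and fixing the rest lies in Ω⁺_2m(q) (commutator subgroup of the orthogonal group) if and only if q^i ≡ 1 (mod 4); its (−1)-eigenspace is a hyperbolic 2i-space. -/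
theorem result {F : Type*} [Field F] [Fintype F] {q : ℕ} (hF : Fintype.card F = q) (hq : Odd q) {m : ℕ} (i : ℕ) (hi : 1 ≤ i) (him : i ≤ m) : (∃ g : ↥(Cfsg.isometryGroup F (Cfsg.quadFormPlus m F)), g ∈ Cfsg.Omega F (Cfsg.quadFormPlus m F) ∧ ((g : Matrix.GeneralLinearGroup (Fin m ⊕ Fin m) F) : Matrix (Fin m ⊕ Fin m) (Fin m ⊕ Fin m) F) = Matrix.diagonal (fun k : Fin m ⊕ Fin m => if (Sum.elim (fun j : Fin m => (j : ℕ)) (fun j : Fin m => (j : ℕ)) k) < i then (-1 : F) else 1)) ↔ q ^ i % 4 = 1 := by
  open Cfsg.Agent.Classical.Quad QuadraticMap in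
    have h2 : (2 : F) ≠ 0 := Ring.two_ne_zero fun h => by
      have h' := FiniteField.even_card_of_char_two h
      rw [hF] at h'
      obtain ⟨r, hr⟩ := hq
      omega
    rw [← coe_plusQ, diag_neg_pairs_iff nondeg_plusQ h2 (Sum.inl : Fin m → Fin m ⊕ Fin m) Sum.inr
      (fun j => plusQ_single _) (fun j => plusQ_single _)
      (fun j => by rw [(polar_single_plus j j).2.2, if_pos rfl])
      (fun j t h1 h2 => by
        rcases t with a | a
        · exact ⟨(polar_single_plus a j).1, by
            rw [(polar_single_plus a j).2.2, if_neg fun h => h1 (congrArg Sum.inl h)]⟩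
        · exact ⟨by rw [polar_comm, (polar_single_plus j a).2.2, if_neg fun h => h2 (congrArg Sum.inr h).symm],
            (polar_single_plus a j).2.1⟩)
      (fun a b hab => ⟨fun h => hab (Sum.inl_injective h), fun h => hab (Sum.inr_injective h)⟩)
      (fun a b => Sum.inl_ne_inr) _ (Finset.univ.filter fun j : Fin m => (j : ℕ) < i)
      (fun j hj => by simp_all) (fun t ht => by
        rcases t with a | a <;> refine if_neg fun h => ?_
        · exact (ht a (by simpa using h)).1 rfl
        · exact (ht a (by simpa using h)).2 rfl),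
      card_fin_lt him, pow_mod_four_iff hF hq]

end Cfsg.Agent.S2613
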