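import Cfsg.Statements.S2615
import Cfsg.Agent.Classical.OrthDiag
-- import your own Cfsg.Agent.* helpers here

set_option autoImplicit false
open Cfsg

namespace Cfsg.Agent.S2615

set_option maxHeartbeats 800000 in
/-- For an elliptic form Σ_(j<m−1) x_j y_j + (z₁² + a z₁z₂ + b z₂²) (anisotropic binary part) on F^(2m), F finite with q elements, q odd, and 1 ≤ i ≤ m − 1: the involution negating the first i hyperbolic pairs and fixing the rest lies in Ω⁻_2m(q) (commutator subgroup of the orthogonal group) if and only if q^i ≡ 1 (mod 4). -/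
theorem result {F : Type*} [Field F] [Fintype F] {q : ℕ} (hF : Fintype.card F = q) (hq : Odd q) {m : ℕ} (a b : F) (hab : ∀ z₁ z₂ : F, z₁ ^ 2 + a * z₁ * z₂ + b * z₂ ^ 2 = 0 → z₁ = 0 ∧ z₂ = 0) (i : ℕ) (hi : 1 ≤ i) (him : i + 1 ≤ m) : (∃ g : ↥(Cfsg.isometryGroup F (Cfsg.quadFormMinus (m - 1) F a b)), g ∈ Cfsg.Omega F (Cfsg.quadFormMinus (m - 1) F a b) ∧ ((g : Matrix.GeneralLinearGroup ((Fin (m - 1) ⊕ Fin (m - 1)) ⊕ Fin 2) F) : Matrix ((Fin (m - 1) ⊕ Fin (m - 1)) ⊕ Fin 2) ((Fin (m - 1) ⊕ Fin (m - 1)) ⊕ Fin 2) F) = Matrix.diagonal (fun k : (Fin (m - 1) ⊕ Fin (m - 1)) ⊕ Fin 2 => if (Sum.elim (Sum.elim (fun j : Fin (m - 1) => (j : ℕ)) (fun j : Fin (m - 1) => (j : ℕ))) (fun _ : Fin 2 => i) k) < i then (-1 : F) else 1)) ↔ q ^ i % 4 = 1 := by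
  open Cfsg.Agent.Classical.Quad QuadraticMap in
    have h2 : (2 : F) ≠ 0 := Ring.two_ne_zero fun h => by
      have h' := FiniteField.even_card_of_char_two h
      rw [hF] at h'
      obtain ⟨r, hr⟩ := hq
      omega
    let Q : QuadraticForm F ((Fin (m - 1) ⊕ Fin (m - 1)) ⊕ Fin 2 → F) :=
      (hyp (binForm a b) (m - 1)).comp (minusCoord (m - 1)).toLinearMap
    have hQe : ⇑Q = Cfsg.quadFormMinus (m - 1) F a b := funext fun x => by simp [Q, minusCoord_map]
    have hQ : (polarBilin Q).Nondegenerate :=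
      Iso.nondeg (Iso.symm ⟨minusCoord (m - 1), fun x => by simp [Q]⟩) (nondeg_hyp (nondeg_binForm hab) (m - 1))
    have hz : ∀ v, Q v = (∑ j, v (Sum.inl (Sum.inl j)) * v (Sum.inl (Sum.inr j))) +
        (v (Sum.inr 0) ^ 2 + a * v (Sum.inr 0) * v (Sum.inr 1) + b * v (Sum.inr 1) ^ 2) := fun v => congrFun hQe v
    have hp : ∀ v w, polar Q v w = (∑ j, (v (Sum.inl (Sum.inl j)) * w (Sum.inl (Sum.inr j)) +
        w (Sum.inl (Sum.inl j)) * v (Sum.inl (Sum.inr j)))) + polar (binForm a b) (v (Sum.inr 0), v (Sum.inr 1)) (w (Sum.inr 0), w (Sum.inr 1)) := fun v w => by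
      rw [show polar Q v w = polar (hyp (binForm a b) (m - 1)) (minusCoord (m - 1) v) (minusCoord (m - 1) w) by simp [polar, Q], polar_hyp]
      rfl
    rw [← hQe, diag_neg_pairs_iff hQ h2 (fun j : Fin (m - 1) => Sum.inl (Sum.inl j))
      (fun j => Sum.inl (Sum.inr j))
      (fun j => by simp [hz, Pi.single_apply]) (fun j => by simp [hz, Pi.single_apply])
      (fun j => by simp [-QuadraticMap.polar_self, hp, Pi.single_apply, polar_binForm])
      (fun j t h1 h2 => by
        rcases t with (u | u) | u <;> simp [-QuadraticMap.polar_self, hp, Pi.single_apply, polar_binForm] at * <;> simp_all [eq_comm])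
      (fun x y hxy => ⟨fun h => hxy (Sum.inl_injective (Sum.inl_injective h)),
        fun h => hxy (Sum.inr_injective (Sum.inl_injective h))⟩)
      (fun x y h => Sum.inl_ne_inr (Sum.inl_injective h)) _
      (Finset.univ.filter fun j : Fin (m - 1) => (j : ℕ) < i)
      (fun j hj => by simp only [Finset.mem_filter, Finset.mem_univ, true_and] at hj; exact ⟨if_pos hj, if_pos hj⟩) (fun t ht => by
        rcases t with (x | x) | u <;> refine if_neg fun h => ?_
        · exact (ht x (by simpa using h)).1 rfl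
        · exact (ht x (by simpa using h)).2 rfl
        · exact lt_irrefl i h),
      card_fin_lt (show i ≤ m - 1 by omega), pow_mod_four_iff hF hq]

end Cfsg.Agent.S2615
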