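import Cfsg.Statements.S2626
-- import your own Cfsg.Agent.* helpers here

set_option autoImplicit false
open Cfsg

namespace Cfsg.Agent.S2626

/-- Ω of an orthogonal direct sum contains the product of the Ω's: for quadratic forms Q₁ on F^k and Q₂ on F^l with non-degenerate polar forms (F finite) and Q = Q₁ ⊕ Q₂ on F^(k+l), if g₁ lies in Ω(Q₁) and g₂ in Ω(Q₂) (commutator subgroups of the orthogonal groups) then the block-diagonal isometry diag(g₁, g₂) lies in Ω(Q). -/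
theorem result {F : Type*} [Field F] [Fintype F] {k l : ℕ} (Q₁ : QuadraticForm F (Fin k → F)) (Q₂ : QuadraticForm F (Fin l → F)) (h₁ : (QuadraticMap.polarBilin Q₁).Nondegenerate) (h₂ : (QuadraticMap.polarBilin Q₂).Nondegenerate) (g₁ : ↥(Cfsg.isometryGroup F ⇑Q₁)) (g₂ : ↥(Cfsg.isometryGroup F ⇑Q₂)) (hg₁ : g₁ ∈ Cfsg.Omega F ⇑Q₁) (hg₂ : g₂ ∈ Cfsg.Omega F ⇑Q₂) : ∃ g : ↥(Cfsg.isometryGroup F (fun v : Fin k ⊕ Fin l → F => Q₁ (v ∘ Sum.inl) + Q₂ (v ∘ Sum.inr))), g ∈ Cfsg.Omega F (fun v : Fin k ⊕ Fin l → F => Q₁ (v ∘ Sum.inl) + Q₂ (v ∘ Sum.inr)) ∧ ((g : Matrix.GeneralLinearGroup (Fin k ⊕ Fin l) F) : Matrix (Fin k ⊕ Fin l) (Fin k ⊕ Fin l) F) = Matrix.fromBlocks ((g₁ : Matrix.GeneralLinearGroup (Fin k) F) : Matrix (Fin k) (Fin k) F) 0 0 ((g₂ : Matrix.GeneralLinearGroup (Fin l) F) : Matrix (Fin l) (Fin l) F) := by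
  classical
  let Q : (Fin k ⊕ Fin l → F) → F := fun v => Q₁ (v ∘ Sum.inl) + Q₂ (v ∘ Sum.inr)
  let f₁ : ↥(Cfsg.isometryGroup F ⇑Q₁) →* Matrix (Fin k) (Fin k) F :=
    (Units.coeHom _).comp (Cfsg.isometryGroup F ⇑Q₁).subtype
  let f₂ : ↥(Cfsg.isometryGroup F ⇑Q₂) →* Matrix (Fin l) (Fin l) F :=
    (Units.coeHom _).comp (Cfsg.isometryGroup F ⇑Q₂).subtype
  let M : ↥(Cfsg.isometryGroup F ⇑Q₁) × ↥(Cfsg.isometryGroup F ⇑Q₂) →* Matrix (Fin k ⊕ Fin l) (Fin k ⊕ Fin l) F :=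
    { toFun := fun g => Matrix.fromBlocks (f₁ g.1) 0 0 (f₂ g.2)
      map_one' := by simp [Matrix.fromBlocks_one]
      map_mul' := fun g h => by simp [Matrix.fromBlocks_multiply] }
  let U := M.toHomUnits
  have hmem : ∀ g, U g ∈ Cfsg.isometryGroup F Q := fun g u _ => by
    show Q ((Matrix.fromBlocks (f₁ g.1) 0 0 (f₂ g.2)).mulVec u) = Q u
    simp only [Q, Matrix.fromBlocks_mulVec, Matrix.zero_mulVec, add_zero, zero_add, Sum.elim_comp_inl,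
      Sum.elim_comp_inr]
    exact congrArg₂ (· + ·) (g.1.2 (u ∘ Sum.inl) 0) (g.2.2 (u ∘ Sum.inr) 0)
  let Φ : ↥(Cfsg.isometryGroup F ⇑Q₁) × ↥(Cfsg.isometryGroup F ⇑Q₂) →* ↥(Cfsg.isometryGroup F Q) :=
    U.codRestrict _ hmem
  have hΦ : ∀ g, g ∈ commutator (↥(Cfsg.isometryGroup F ⇑Q₁) × ↥(Cfsg.isometryGroup F ⇑Q₂)) →
      Φ g ∈ Cfsg.Omega F Q := fun g hg => by
    have hle : Subgroup.map Φ (commutator _) ≤ Cfsg.Omega F Q := by
      rw [commutator_def, Subgroup.map_commutator, Cfsg.Omega, commutator_def]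
      exact Subgroup.commutator_mono le_top le_top
    exact hle ⟨g, hg, rfl⟩
  have h1' : ((g₁, 1) : ↥(Cfsg.isometryGroup F ⇑Q₁) × ↥(Cfsg.isometryGroup F ⇑Q₂)) ∈ commutator _ := by
    have hle : Subgroup.map (MonoidHom.inl _ ↥(Cfsg.isometryGroup F ⇑Q₂)) (commutator ↥(Cfsg.isometryGroup F ⇑Q₁)) ≤
        commutator _ := by
      rw [commutator_def, Subgroup.map_commutator, commutator_def]
      exact Subgroup.commutator_mono le_top le_top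
    exact hle ⟨g₁, hg₁, rfl⟩
  have h2' : ((1, g₂) : ↥(Cfsg.isometryGroup F ⇑Q₁) × ↥(Cfsg.isometryGroup F ⇑Q₂)) ∈ commutator _ := by
    have hle : Subgroup.map (MonoidHom.inr ↥(Cfsg.isometryGroup F ⇑Q₁) _) (commutator ↥(Cfsg.isometryGroup F ⇑Q₂)) ≤
        commutator _ := by
      rw [commutator_def, Subgroup.map_commutator, commutator_def]
      exact Subgroup.commutator_mono le_top le_top
    exact hle ⟨g₂, hg₂, rfl⟩
  refine ⟨Φ (g₁, g₂), hΦ _ ?_, rfl⟩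
  have := mul_mem h1' h2'
  simpa using this

end Cfsg.Agent.S2626
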