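import Cfsg.Statements.S2627
import Cfsg.Agent.Classical.OrthBlocks
-- import your own Cfsg.Agent.* helpers here

set_option autoImplicit false
open Cfsg

namespace Cfsg.Agent.S2627

/-- For an orthogonal direct sum Q = Q₁ ⊕ Q₂ of quadratic forms with non-degenerate polar forms over a finite field, an isometry g₁ of Q₁ extended by the identity on the second summand lies in Ω(Q) (the commutator subgroup of the orthogonal group of Q) if and only if g₁ lies in Ω(Q₁). (Excluded: the field of two elements when the first summand or the whole space has dimension 4, where the commutator subgroup of O⁺₄(2) is smaller than the group usually called Ω.) -/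
theorem result {F : Type*} [Field F] [Fintype F] {k l : ℕ} (h : Fintype.card F ≠ 2 ∨ (k ≠ 4 ∧ k + l ≠ 4)) (Q₁ : QuadraticForm F (Fin k → F)) (Q₂ : QuadraticForm F (Fin l → F)) (h₁ : (QuadraticMap.polarBilin Q₁).Nondegenerate) (h₂ : (QuadraticMap.polarBilin Q₂).Nondegenerate) (g₁ : ↥(Cfsg.isometryGroup F ⇑Q₁)) : (∃ g : ↥(Cfsg.isometryGroup F (fun v : Fin k ⊕ Fin l → F => Q₁ (v ∘ Sum.inl) + Q₂ (v ∘ Sum.inr))), g ∈ Cfsg.Omega F (fun v : Fin k ⊕ Fin l → F => Q₁ (v ∘ Sum.inl) + Q₂ (v ∘ Sum.inr)) ∧ ((g : Matrix.GeneralLinearGroup (Fin k ⊕ Fin l) F) : Matrix (Fin k ⊕ Fin l) (Fin k ⊕ Fin l) F) = Matrix.fromBlocks ((g₁ : Matrix.GeneralLinearGroup (Fin k) F) : Matrix (Fin k) (Fin k) F) 0 0 1) ↔ g₁ ∈ Cfsg.Omega F ⇑Q₁ := by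
  open Cfsg.Agent.Classical.Quad QuadraticMap in
    show (∃ g : ↥(Cfsg.isometryGroup F ⇑(sumQ Q₁ Q₂)), g ∈ Cfsg.Omega F ⇑(sumQ Q₁ Q₂) ∧ _) ↔ _
    have hex1 : Nat.card F ≠ 2 ∨ Module.finrank F (Fin k → F) ≠ 4 := by
      rw [Module.finrank_fin_fun, Nat.card_eq_fintype_card]; tauto
    have hex : Nat.card F ≠ 2 ∨ Module.finrank F (Fin k ⊕ Fin l → F) ≠ 4 := by
      rw [Module.finrank_pi, Fintype.card_sum, Fintype.card_fin, Fintype.card_fin, Nat.card_eq_fintype_card]; tauto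
    let φ : oG Q₁ →* oG (sumQ Q₁ Q₂) := (blockO Q₁ Q₂).comp (MonoidHom.inl _ _)
    have hM : ∀ x, (φ (oEquiv Q₁ g₁)).1 x = (Matrix.fromBlocks
        ((g₁ : Matrix.GeneralLinearGroup (Fin k) F) : Matrix (Fin k) (Fin k) F) 0 0 1).mulVec x := fun x => by
      show (blockO Q₁ Q₂ (oEquiv Q₁ g₁, 1)).1 x = _
      rw [blockO_apply, Matrix.fromBlocks_mulVec, oEquiv_apply, oG_one_apply]
      simp
    have hn := nondeg_sumQ h₁ h₂
    rw [exists_omega_matrix_iff _ _ hM, mem_omega_iff, mem_commutator_chars hn hex, mem_commutator_chars h₁ hex1]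
    obtain ⟨e1, e2⟩ := chars_of_refl_hom h₁ hex1 hn hex φ (fun w hw => by
      obtain ⟨v, hv, e, e'⟩ := blockO_rO_left Q₁ Q₂ hw
      exact ⟨v, hv, e, e'⟩) (oEquiv Q₁ g₁)
    rw [e1]
    refine and_congr_right fun _ => ⟨fun hh h2 => ?_, fun hh h2 => ?_⟩
    · rw [← e2 h2]; exact hh h2
    · rw [e2 h2]; exact hh h2

end Cfsg.Agent.S2627
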