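import Cfsg.Statements.S2628
import Cfsg.Agent.Classical.OrthBlocks
-- import your own Cfsg.Agent.* helpers here

set_option autoImplicit false
open Cfsg

namespace Cfsg.Agent.S2628

/-- For the orthogonal direct sum Q ⊕ Q of two copies of a quadratic form Q with non-degenerate polar form on F^k (F finite), every isometry g of Q acting diagonally, diag(g, g), lies in Ω(Q ⊕ Q), the commutator subgroup of the orthogonal group of Q ⊕ Q. (Excluded: k = 2 over the field of two elements, where Q ⊕ Q is the hyperbolic 4-space whose orthogonal group's commutator subgroup is smaller than the group usually called Ω.) -/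
theorem result {F : Type*} [Field F] [Fintype F] {k : ℕ} (h : Fintype.card F ≠ 2 ∨ k ≠ 2) (Q : QuadraticForm F (Fin k → F)) (hQ : (QuadraticMap.polarBilin Q).Nondegenerate) (g : ↥(Cfsg.isometryGroup F ⇑Q)) : ∃ x : ↥(Cfsg.isometryGroup F (fun v : Fin k ⊕ Fin k → F => Q (v ∘ Sum.inl) + Q (v ∘ Sum.inr))), x ∈ Cfsg.Omega F (fun v : Fin k ⊕ Fin k → F => Q (v ∘ Sum.inl) + Q (v ∘ Sum.inr)) ∧ ((x : Matrix.GeneralLinearGroup (Fin k ⊕ Fin k) F) : Matrix (Fin k ⊕ Fin k) (Fin k ⊕ Fin k) F) = Matrix.fromBlocks ((g : Matrix.GeneralLinearGroup (Fin k) F) : Matrix (Fin k) (Fin k) F) 0 0 ((g : Matrix.GeneralLinearGroup (Fin k) F) : Matrix (Fin k) (Fin k) F) := by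
  open Cfsg.Agent.Classical.Quad QuadraticMap in
    show ∃ x : ↥(Cfsg.isometryGroup F ⇑(sumQ Q Q)), x ∈ Cfsg.Omega F ⇑(sumQ Q Q) ∧ _
    have hex : Nat.card F ≠ 2 ∨ Module.finrank F (Fin k ⊕ Fin k → F) ≠ 4 := by
      rw [Module.finrank_pi, Fintype.card_sum, Fintype.card_fin, Nat.card_eq_fintype_card]; omega
    have hn := nondeg_sumQ hQ hQ
    set a := oEquiv Q g
    refine (exists_omega_matrix_iff (blockO Q Q (a, a)) _ fun x => ?_).2 ?_
    · rw [blockO_apply, Matrix.fromBlocks_mulVec, oEquiv_apply, oEquiv_apply]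
      simp
    rw [mem_commutator_chars hn hex]
    constructor
    · show dsign (blockO Q Q (a, a)) = 1
      have e : Module.finrank F (fixSub (blockO Q Q (a, a))) = 2 * Module.finrank F (fixSub a) := by
        let f : fixSub (blockO Q Q (a, a)) ≃ₗ[F] fixSub a × fixSub a :=
          { toFun := fun x => (⟨x.1 ∘ Sum.inl, by
              have := congrArg (· ∘ Sum.inl) (mem_fixSub.1 x.2)
              simp only [blockO_apply, Sum.elim_comp_inl] at this
              exact mem_fixSub.2 this⟩, ⟨x.1 ∘ Sum.inr, by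
              have := congrArg (· ∘ Sum.inr) (mem_fixSub.1 x.2)
              simp only [blockO_apply, Sum.elim_comp_inr] at this
              exact mem_fixSub.2 this⟩)
            map_add' := fun x y => rfl
            map_smul' := fun c x => rfl
            invFun := fun p => ⟨Sum.elim p.1.1 p.2.1, mem_fixSub.2 (by
              rw [blockO_apply, Sum.elim_comp_inl, Sum.elim_comp_inr]
              show Sum.elim (a.1 p.1.1) (a.1 p.2.1) = _
              rw [mem_fixSub.1 p.1.2, mem_fixSub.1 p.2.2])⟩
            left_inv := fun x => Subtype.ext (Sum.elim_comp_inl_inr x.1)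
            right_inv := fun p => rfl }
        rw [f.finrank_eq, Module.finrank_prod, two_mul]
      rw [dsign, e, Module.finrank_pi, Fintype.card_sum, Fintype.card_fin]
      exact (show Even (k + k + 2 * Module.finrank F (fixSub a)) from
        ⟨k + Module.finrank F (fixSub a), by ring⟩).neg_one_pow
    · intro h2
      let φ₁ : oG Q →* oG (sumQ Q Q) := (blockO Q Q).comp (MonoidHom.inl _ _)
      let φ₂ : oG Q →* oG (sumQ Q Q) := (blockO Q Q).comp (MonoidHom.inr _ _)
      have hex1 := hex_of_two h2 (Module.finrank F (Fin k → F))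
      have e1 := (chars_of_refl_hom hQ hex1 hn hex φ₁ (fun w hw => by
        obtain ⟨v, hv, e, e'⟩ := blockO_rO_left Q Q hw
        exact ⟨v, hv, e, e'⟩) a).2 h2
      have e2 := (chars_of_refl_hom hQ hex1 hn hex φ₂ (fun w hw => by
        obtain ⟨v, hv, e, e'⟩ := blockO_rO_right Q Q hw
        exact ⟨v, hv, e, e'⟩) a).2 h2
      rw [show blockO Q Q (a, a) = φ₁ a * φ₂ a by
        show _ = blockO Q Q (a, 1) * blockO Q Q (1, a)
        rw [← map_mul, Prod.mk_mul_mk, mul_one, one_mul], map_mul, e1, e2, Int.units_mul_self]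

end Cfsg.Agent.S2628
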