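import Cfsg.Statements.S2631
import Cfsg.Agent.Classical.OrthBlocks
-- import your own Cfsg.Agent.* helpers here

set_option autoImplicit false
open Cfsg

namespace Cfsg.Agent.S2631

/-- For the hyperbolic form Σ x_i y_i on F^(2m) over a finite field (m ≥ 1, excluding m = 2 over the field of two elements), Ω (the commutator subgroup of the orthogonal group) acts transitively on each of the two classes of maximal totally singular subspaces: if U and W are m-dimensional totally singular subspaces with m − dim(U ∩ W) even, some element of Ω carries U to W. -/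
theorem result {F : Type*} [Field F] [Fintype F] {m : ℕ} (hm : 1 ≤ m) (h : Fintype.card F ≠ 2 ∨ m ≠ 2) (U W : Submodule F (Fin m ⊕ Fin m → F)) (hU : Module.finrank F U = m) (hW : Module.finrank F W = m) (hU0 : ∀ u ∈ U, Cfsg.quadFormPlus m F u = 0) (hW0 : ∀ w ∈ W, Cfsg.quadFormPlus m F w = 0) (he : Even (m - Module.finrank F ↥(U ⊓ W))) : ∃ g : ↥(Cfsg.isometryGroup F (Cfsg.quadFormPlus m F)), g ∈ Cfsg.Omega F (Cfsg.quadFormPlus m F) ∧ U.map (Matrix.mulVecLin ((g : Matrix.GeneralLinearGroup (Fin m ⊕ Fin m) F) : Matrix (Fin m ⊕ Fin m) (Fin m ⊕ Fin m) F)) = W := by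
  open Cfsg.Agent.Classical.Quad QuadraticMap in
    rw [← coe_plusQ] at hU0 hW0 ⊢
    have hex : Nat.card F ≠ 2 ∨ Module.finrank F (Fin m ⊕ Fin m → F) ≠ 4 := by
      rw [finrank_plus, Nat.card_eq_fintype_card]; omega
    obtain ⟨g, hg, hgU⟩ := witt (Q := plusQ F m) nondeg_plusQ U W (LinearEquiv.ofFinrankEq U W (hU.trans hW.symm))
      (fun x => by rw [hU0 x x.2, hW0 _ (Subtype.coe_prop _)])
    have hmap : U.map (g : (Fin m ⊕ Fin m → F) →ₗ[F] (Fin m ⊕ Fin m → F)) = W := by
      refine Submodule.eq_of_le_of_finrank_eq ?_ (by rw [LinearEquiv.finrank_map_eq, hU, hW])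
      rintro _ ⟨x, hx, rfl⟩
      show g x ∈ W
      rw [show g x = _ from hgU ⟨x, hx⟩]
      exact Subtype.coe_prop _
    have hd : dickson nondeg_plusQ hex ⟨g, hg⟩ = 1 :=
      (even_codim_iff nondeg_plusQ hex finrank_plus hU0 hU ⟨g, hg⟩).1 (by rwa [hmap])
    obtain ⟨k, hk, hkU⟩ := exists_commutator_map nondeg_plusQ hex (g := ⟨g, hg⟩) hmap (Or.inl hd) fun h2 => by
      obtain ⟨c, hc, hqc⟩ := exists_qs_neg h2
      obtain ⟨⟨e, heW⟩, he0⟩ : ∃ e : W, e ≠ 0 := by
        have : Nontrivial W := Module.nontrivial_of_finrank_pos (R := F) (by omega)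
        exact exists_ne 0
      have he0' : e ≠ 0 := fun h0 => he0 (Subtype.ext h0)
      obtain ⟨f, hf, hef⟩ := exists_hyp_pair (nondeg_plusQ (F := F) (m := m)) he0' (hW0 e heW)
      obtain ⟨b1, b2⟩ := chars_hypScale nondeg_plusQ hex (hW0 e heW) hf hef hc
      refine ⟨⟨hypScale (hW0 e heW) hf hef hc, hypScale_mem (hW0 e heW) hf hef hc⟩, ?_, b1, by rw [b2 h2, hqc]⟩
      refine Submodule.eq_of_le_of_finrank_eq ?_ (LinearEquiv.finrank_map_eq _ W)
      rintro _ ⟨x, hx, rfl⟩
      show hypScale (hW0 e heW) hf hef hc x ∈ W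
      rw [hypScale_apply, polar_eq_zero_of_singular hW0 hx heW, mul_zero, zero_smul, add_zero]
      exact W.add_mem hx (W.smul_mem _ heW)
    exact exists_omega_map_iff hk hkU

end Cfsg.Agent.S2631
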