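import Cfsg.Statements.S2632
import Cfsg.Agent.Classical.OrthBlocks
-- import your own Cfsg.Agent.* helpers here

set_option autoImplicit false
open Cfsg

namespace Cfsg.Agent.S2632

/-- Ω is transitive on non-degenerate subspaces of each isometry type: for a quadratic form Q on F^n, n ≥ 3, with non-degenerate polar form (F finite; excluding dimension 4 over the field of two elements), if U and W are subspaces on which the polar form is non-degenerate and there is a Q-preserving linear isomorphism U → W, then some element of Ω (the commutator subgroup of the orthogonal group) carries U to W. (In dimension 2 this fails: Ω can be {±1}, which fixes every line.) -/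
theorem result {F : Type*} [Field F] [Fintype F] {n : ℕ} (hn : 3 ≤ n) (h : Fintype.card F ≠ 2 ∨ n ≠ 4) (Q : QuadraticForm F (Fin n → F)) (hQ : (QuadraticMap.polarBilin Q).Nondegenerate) (U W : Submodule F (Fin n → F)) (hU : U ⊓ LinearMap.BilinForm.orthogonal (QuadraticMap.polarBilin Q) U = ⊥) (hW : W ⊓ LinearMap.BilinForm.orthogonal (QuadraticMap.polarBilin Q) W = ⊥) (e : U ≃ₗ[F] W) (he : ∀ u : U, Q (e u : Fin n → F) = Q (u : Fin n → F)) : ∃ g : ↥(Cfsg.isometryGroup F ⇑Q), g ∈ Cfsg.Omega F ⇑Q ∧ U.map (Matrix.mulVecLin ((g : Matrix.GeneralLinearGroup (Fin n) F) : Matrix (Fin n) (Fin n) F)) = W := by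
  open Cfsg.Agent.Classical.Quad QuadraticMap in
    have hex : Nat.card F ≠ 2 ∨ Module.finrank F (Fin n → F) ≠ 4 := by
      rw [Module.finrank_fin_fun, Nat.card_eq_fintype_card]; exact h
    obtain ⟨g, hg, hgU⟩ := witt hQ U W e he
    have hmap : U.map (g : (Fin n → F) →ₗ[F] (Fin n → F)) = W := by
      refine Submodule.eq_of_le_of_finrank_eq ?_ (by rw [LinearEquiv.finrank_map_eq, e.finrank_eq])
      rintro _ ⟨x, hx, rfl⟩
      show g x ∈ W
      rw [show g x = _ from hgU ⟨x, hx⟩]
      exact Subtype.coe_prop _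
    let B : LinearMap.BilinForm F (Fin n → F) := polarBilin Q
    let P : Submodule F (Fin n → F) := B.orthogonal W
    have hP : ∀ x, x ∈ P ↔ ∀ w ∈ W, polar Q w x = 0 := fun x => Iff.rfl
    have hdimP : Module.finrank F P + Module.finrank F W = n := by
      have hB : B.IsRefl := fun x y hxy => by
        show polar Q y x = 0
        rw [polar_comm]; exact hxy
      have h1 := LinearMap.BilinForm.finrank_orthogonal (B := B) hQ W
      have h2 := Submodule.finrank_le W
      rw [Module.finrank_fin_fun] at h1 h2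
      show Module.finrank F (B.orthogonal W) + _ = n
      omega
    obtain ⟨Z, hZ, hZd, hZnd⟩ : ∃ Z : Submodule F (Fin n → F), (∀ z ∈ Z, z ∈ W ∨ ∀ w ∈ W, polar Q w z = 0) ∧
        2 ≤ Module.finrank F Z ∧ (∀ z ∈ Z, (∀ z' ∈ Z, polar Q z z' = 0) → z = 0) := by
      have hWbot : ∀ z, z ∈ W → (∀ w ∈ W, polar Q w z = 0) → z = 0 := fun z h1 h2 =>
        (Submodule.mem_bot F).1 (hW ▸ Submodule.mem_inf.2 ⟨h1, fun w hw => h2 w hw⟩)
      by_cases h2W : 2 ≤ Module.finrank F W
      · exact ⟨W, fun z hz => Or.inl hz, h2W, fun z hz hh =>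
          hWbot z hz fun w hw => by rw [polar_comm]; exact hh w hw⟩
      · refine ⟨P, fun z hz => Or.inr ((hP z).1 hz), by omega, fun z hz hh => ?_⟩
        have hsup : W ⊔ P = ⊤ := by
          refine Submodule.eq_top_of_finrank_eq ?_
          have h1 := Submodule.finrank_sup_add_finrank_inf_eq W P
          rw [show W ⊓ P = ⊥ from hW, finrank_bot] at h1
          rw [Module.finrank_fin_fun]
          omega
        refine eq_zero_of_polar hQ fun y => ?_
        obtain ⟨w, hw, p, hp, rfl⟩ := Submodule.mem_sup.1 (hsup ▸ Submodule.mem_top (x := y))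
        rw [polar_add_right, polar_comm Q z w, (hP z).1 hz w hw, hh p hp, add_zero]
    let R : QuadraticForm F Z := Q.comp Z.subtype
    have hR : (polarBilin R).Nondegenerate := nondeg_of fun z hz =>
      Subtype.ext (hZnd z z.2 fun z' hz' => hz ⟨z', hz'⟩)
    obtain ⟨k, hk, hkU⟩ := exists_commutator_map hQ hex (g := ⟨g, hg⟩) hmap (Or.inr (by
        obtain ⟨v, hv⟩ := exists_aniso hR (by omega)
        have hv' : Q (v : Fin n → F) ≠ 0 := hv
        exact ⟨rO hv', map_rO_eq hv' (hZ _ v.2), dickson_rO hQ hex hv'⟩)) fun h2 => by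
      obtain ⟨c, hc, hqc⟩ := exists_qs_neg h2
      obtain ⟨v1, hv1⟩ := exists_value hR h2 hZd (one_ne_zero (α := F))
      obtain ⟨v2, hv2⟩ := exists_value hR h2 hZd hc
      have q1 : Q (v1 : Fin n → F) = 1 := hv1
      have q2 : Q (v2 : Fin n → F) = c := hv2
      have n1 : Q (v1 : Fin n → F) ≠ 0 := by rw [q1]; exact one_ne_zero
      have n2 : Q (v2 : Fin n → F) ≠ 0 := by rwa [q2]
      obtain ⟨d1, d2⟩ := exists_rO_prod hQ hex n1 n2
      refine ⟨rO n1 * rO n2, ?_, d1, by rw [d2 h2, q1, q2, one_mul, hqc]⟩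
      rw [show ((rO n1 * rO n2).1 : (Fin n → F) →ₗ[F] (Fin n → F)) =
          ((rO n1).1 : (Fin n → F) →ₗ[F] (Fin n → F)).comp ((rO n2).1 : (Fin n → F) →ₗ[F] (Fin n → F)) from rfl,
        Submodule.map_comp, map_rO_eq n2 (hZ _ v2.2), map_rO_eq n1 (hZ _ v1.2)]
    exact exists_omega_map_iff hk hkU

end Cfsg.Agent.S2632
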