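import Cfsg.Statements.S2633
import Cfsg.Agent.Classical.OrthBlocks
-- import your own Cfsg.Agent.* helpers here

set_option autoImplicit false
open Cfsg

namespace Cfsg.Agent.S2633

/-- Ω is transitive on totally singular subspaces of each dimension less than half the dimension: for a quadratic form Q on F^n with non-degenerate polar form (F finite; excluding dimension 4 over the field of two elements), if U and W are subspaces of the same dimension k with 2k < n on which Q vanishes, then some element of Ω (the commutator subgroup of the orthogonal group) carries U to W. -/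
theorem result {F : Type*} [Field F] [Fintype F] {n : ℕ} (h : Fintype.card F ≠ 2 ∨ n ≠ 4) (Q : QuadraticForm F (Fin n → F)) (hQ : (QuadraticMap.polarBilin Q).Nondegenerate) (U W : Submodule F (Fin n → F)) {k : ℕ} (hk : 2 * k < n) (hU : Module.finrank F U = k) (hW : Module.finrank F W = k) (hU0 : ∀ u ∈ U, Q u = 0) (hW0 : ∀ w ∈ W, Q w = 0) : ∃ g : ↥(Cfsg.isometryGroup F ⇑Q), g ∈ Cfsg.Omega F ⇑Q ∧ U.map (Matrix.mulVecLin ((g : Matrix.GeneralLinearGroup (Fin n) F) : Matrix (Fin n) (Fin n) F)) = W := by
  open Cfsg.Agent.Classical.Quad QuadraticMap in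
    have hex : Nat.card F ≠ 2 ∨ Module.finrank F (Fin n → F) ≠ 4 := by
      rw [Module.finrank_fin_fun, Nat.card_eq_fintype_card]; exact h
    by_cases hk0 : k = 0
    · subst hk0
      refine ⟨1, one_mem _, ?_⟩
      rw [Submodule.finrank_eq_zero.1 hU, Submodule.finrank_eq_zero.1 hW, Submodule.map_bot]
    obtain ⟨g, hg, hgU⟩ := witt hQ U W (LinearEquiv.ofFinrankEq U W (hU.trans hW.symm))
      (fun x => by rw [hU0 x x.2, hW0 _ (Subtype.coe_prop _)])
    have hmap : U.map (g : (Fin n → F) →ₗ[F] (Fin n → F)) = W := by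
      refine Submodule.eq_of_le_of_finrank_eq ?_ (by rw [LinearEquiv.finrank_map_eq, hU, hW])
      rintro _ ⟨x, hx, rfl⟩
      show g x ∈ W
      rw [show g x = _ from hgU ⟨x, hx⟩]
      exact Subtype.coe_prop _
    obtain ⟨v, hvW, hv⟩ : ∃ v, (∀ w ∈ W, polar Q w v = 0) ∧ Q v ≠ 0 := by
      by_contra hc
      push Not at hc
      let B : LinearMap.BilinForm F (Fin n → F) := polarBilin Q
      have hB : B.IsRefl := fun x y hxy => by
        show polar Q y x = 0
        rw [polar_comm]; exact hxy
      have h1 := LinearMap.BilinForm.finrank_orthogonal (B := B) hQ W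
      have h2 := two_mul_finrank_le hQ (W := B.orthogonal W) fun x hx => hc x hx
      rw [Module.finrank_fin_fun] at h1 h2
      omega
    obtain ⟨y, hy, hyU⟩ := exists_commutator_map hQ hex (g := ⟨g, hg⟩) hmap
      (Or.inr ⟨rO hv, map_rO_eq hv (Or.inr hvW), dickson_rO hQ hex hv⟩) fun h2 => by
      obtain ⟨c, hc, hqc⟩ := exists_qs_neg h2
      obtain ⟨⟨e, heW⟩, he0⟩ : ∃ e : W, e ≠ 0 := by
        have : Nontrivial W := Module.nontrivial_of_finrank_pos (R := F) (by omega)
        exact exists_ne 0
      have he0' : e ≠ 0 := fun h0 => he0 (Subtype.ext h0)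
      obtain ⟨f, hf, hef⟩ := exists_hyp_pair hQ he0' (hW0 e heW)
      obtain ⟨b1, b2⟩ := chars_hypScale hQ hex (hW0 e heW) hf hef hc
      refine ⟨⟨hypScale (hW0 e heW) hf hef hc, hypScale_mem (hW0 e heW) hf hef hc⟩, ?_, b1, by rw [b2 h2, hqc]⟩
      refine Submodule.eq_of_le_of_finrank_eq ?_ (LinearEquiv.finrank_map_eq _ W)
      rintro _ ⟨x, hx, rfl⟩
      show hypScale (hW0 e heW) hf hef hc x ∈ W
      rw [hypScale_apply, polar_eq_zero_of_singular hW0 hx heW, mul_zero, zero_smul, add_zero]
      exact W.add_mem hx (W.smul_mem _ heW)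
    exact exists_omega_map_iff hy hyU

end Cfsg.Agent.S2633
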