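import Cfsg.Statements.S2634
import Cfsg.Agent.Classical.OrthBlocks
-- import your own Cfsg.Agent.* helpers here

set_option autoImplicit false
open Cfsg

namespace Cfsg.Agent.S2634

/-- Over a finite field of characteristic two, Ω (the commutator subgroup of the orthogonal group of a quadratic form Q on F^n with non-degenerate polar form; excluding dimension 4 over the field of two elements) acts transitively on the non-singular 1-spaces: for u, v with Q(u) ≠ 0 and Q(v) ≠ 0 some element of Ω carries the line through u to the line through v. -/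
theorem result {F : Type*} [Field F] [Fintype F] [CharP F 2] {n : ℕ} (h : Fintype.card F ≠ 2 ∨ n ≠ 4) (Q : QuadraticForm F (Fin n → F)) (hQ : (QuadraticMap.polarBilin Q).Nondegenerate) (u v : Fin n → F) (hu : Q u ≠ 0) (hv : Q v ≠ 0) : ∃ g : ↥(Cfsg.isometryGroup F ⇑Q), g ∈ Cfsg.Omega F ⇑Q ∧ (F ∙ ((g : Matrix.GeneralLinearGroup (Fin n) F) : Matrix (Fin n) (Fin n) F).mulVec u) = F ∙ v := by
  open Cfsg.Agent.Classical.Quad QuadraticMap in
    have hex : Nat.card F ≠ 2 ∨ Module.finrank F (Fin n → F) ≠ 4 := by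
      rw [Module.finrank_fin_fun, Nat.card_eq_fintype_card]; exact h
    obtain ⟨t, ht⟩ := FiniteField.isSquare_of_char_two (ringChar.eq F 2) (Q u / Q v)
    have htv : Q (t • v) = Q u := by rw [map_smul', ← ht, div_mul_cancel₀ _ hv]
    have ht0 : t ≠ 0 := fun h0 => hu (by rw [← htv, h0, zero_smul, map_zero])
    have htv' : Q (t • v) ≠ 0 := by rwa [htv]
    obtain ⟨g, hg⟩ := exists_move hQ (u := u) (v := t • v) (fun h0 => hu (by rw [h0, map_zero]))
      (fun h0 => htv' (by rw [h0, map_zero])) htv.symm
    have hmap : (F ∙ u).map (g.1 : (Fin n → F) →ₗ[F] (Fin n → F)) = F ∙ v := by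
      rw [Submodule.map_span, Set.image_singleton]
      show F ∙ g.1 u = F ∙ v
      rw [hg, Submodule.span_singleton_smul_eq ht0.isUnit]
    obtain ⟨k, hk, hkU⟩ := exists_commutator_map hQ hex hmap
      (Or.inr ⟨rO hv, map_rO_eq hv (Or.inl (Submodule.mem_span_singleton_self v)), dickson_rO hQ hex hv⟩)
      (fun h2 => absurd CharTwo.two_eq_zero h2)
    obtain ⟨x, hx, hxU⟩ := exists_omega_map_iff hk hkU
    refine ⟨x, hx, ?_⟩
    rwa [Submodule.map_span, Set.image_singleton] at hxU

end Cfsg.Agent.S2634
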