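import Cfsg.Statements.S2635
import Cfsg.Agent.Classical.OrthBlocks
-- import your own Cfsg.Agent.* helpers here

set_option autoImplicit false
open Cfsg

namespace Cfsg.Agent.S2635

/-- Over a finite field of characteristic two, for a quadratic form Q on F^n with non-degenerate polar form, n ≥ 2, other than dimension 4 over the field of two elements, Ω (the commutator subgroup of the orthogonal group) is exactly the subgroup generated by the products of two reflections (orthogonal transvections) x ↦ x − Q(v)⁻¹ f(x, v) v, Q(v) ≠ 0: the products of an even number of reflections. -/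
theorem result {F : Type*} [Field F] [Fintype F] [CharP F 2] {n : ℕ} (hn : 2 ≤ n) (h : Fintype.card F ≠ 2 ∨ n ≠ 4) (Q : QuadraticForm F (Fin n → F)) (hQ : (QuadraticMap.polarBilin Q).Nondegenerate) : Cfsg.Omega F ⇑Q = Subgroup.closure {g : ↥(Cfsg.isometryGroup F ⇑Q) | ∃ u v : Fin n → F, Q u ≠ 0 ∧ Q v ≠ 0 ∧ ((g : Matrix.GeneralLinearGroup (Fin n) F) : Matrix (Fin n) (Fin n) F) = Cfsg.reflectionMatrix ⇑Q u * Cfsg.reflectionMatrix ⇑Q v} := by
  open Cfsg.Agent.Classical.Quad QuadraticMap in
    have hex : Nat.card F ≠ 2 ∨ Module.finrank F (Fin n → F) ≠ 4 := by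
      rw [Module.finrank_fin_fun, Nat.card_eq_fintype_card]; exact h
    have h2 : (2 : F) = 0 := CharTwo.two_eq_zero
    set C := Subgroup.closure {g : ↥(Cfsg.isometryGroup F ⇑Q) | ∃ u v : Fin n → F, Q u ≠ 0 ∧ Q v ≠ 0 ∧ ((g : Matrix.GeneralLinearGroup (Fin n) F) : Matrix (Fin n) (Fin n) F) = Cfsg.reflectionMatrix ⇑Q u * Cfsg.reflectionMatrix ⇑Q v} with hC
    refine le_antisymm (fun g hg => ?_) ((Subgroup.closure_le _).2 ?_)
    · have pair : ∀ (u v : Fin n → F) (hu : Q u ≠ 0) (hv : Q v ≠ 0),
          (oEquiv Q).symm (rO hu * rO hv) ∈ C := fun u v hu hv => by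
        refine Subgroup.subset_closure ⟨u, v, hu, hv, ?_⟩
        rw [map_mul, Subgroup.coe_mul, Units.val_mul,
          (matrix_eq_reflection_iff hu).2 ((oEquiv Q).apply_symm_apply _),
          (matrix_eq_reflection_iff hv).2 ((oEquiv Q).apply_symm_apply _)]
      have key : ∀ x : oG Q, (dickson hQ hex x = 1 → (oEquiv Q).symm x ∈ C) ∧
          (dickson hQ hex x = -1 → ∀ (v : Fin n → F) (hv : Q v ≠ 0), (oEquiv Q).symm (x * rO hv) ∈ C) := by
        intro x
        have hx : x ∈ Subgroup.closure (reflSet Q) := by rw [closure_reflSet hQ hex]; trivial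
        induction hx using Subgroup.closure_induction_right with
        | one => exact ⟨fun _ => by rw [map_one]; exact one_mem _, fun h => absurd ((map_one _).symm.trans h) (by decide)⟩
        | mul_right a _ y hy ih =>
          obtain ⟨w, hw, rfl⟩ := hy
          refine ⟨fun h => ?_, fun h v hv => ?_⟩
          · rw [map_mul, dickson_rO, mul_neg_one, neg_eq_iff_eq_neg] at h
            exact ih.2 h w hw
          · rw [map_mul, dickson_rO, mul_neg_one, neg_inj] at h
            rw [mul_assoc, map_mul]
            exact mul_mem (ih.1 h) (pair w v hw hv)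
        | mul_inv_cancel a _ y hy ih =>
          obtain ⟨w, hw, rfl⟩ := hy
          refine ⟨fun h => ?_, fun h v hv => ?_⟩
          · rw [rO_inv, map_mul, dickson_rO, mul_neg_one, neg_eq_iff_eq_neg] at h
            rw [rO_inv]
            exact ih.2 h w hw
          · rw [rO_inv, map_mul, dickson_rO, mul_neg_one, neg_inj] at h
            rw [rO_inv, mul_assoc, map_mul]
            exact mul_mem (ih.1 h) (pair w v hw hv)
      have := (key (oEquiv Q g)).1 ((mem_commutator_chars hQ hex _).1 ((mem_omega_iff g).1 hg)).1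
      rwa [MulEquiv.symm_apply_apply] at this
    · rintro g ⟨u, v, hu, hv, hg⟩
      rw [SetLike.mem_coe, mem_omega_iff, mem_commutator_chars hQ hex]
      have e : oEquiv Q g = rO hu * rO hv := ext_oG fun x => by
        rw [oEquiv_apply, hg, ← Matrix.mulVec_mulVec, reflectionMatrix_mulVec, reflectionMatrix_mulVec]
        rfl
      exact ⟨by rw [e, map_mul, dickson_rO, dickson_rO]; rfl, fun h => absurd h2 h⟩

end Cfsg.Agent.S2635
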