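import Cfsg.Statements.S2636
import Mathlib

set_option autoImplicit false
open Cfsg

namespace Cfsg.Agent.S2636

/-- Centraliser of a field automorphism in PGL_n: let F be the field with q = q₀^r elements, σ a field automorphism of F of prime order r (so its fixed field has q₀ elements) and n ≥ 1. The invertible matrices g whose entrywise image under σ is a scalar multiple of g — those whose coset modulo scalars is fixed by σ — number (q − 1)/(q₀ − 1) · |GL_n(q₀)|; equivalently the centraliser in PGL_n(q) of the induced automorphism has the order of PGL_n(q₀). -/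
theorem result {F : Type*} [Field F] [Fintype F] {q₀ r n : ℕ} (hr : r.Prime) (hn : 1 ≤ n) (hF : Fintype.card F = q₀ ^ r) (σ : F ≃+* F) (hσ : orderOf σ = r) : Nat.card {g : GL (Fin n) F // ∃ c : F, c ≠ 0 ∧ (g : Matrix (Fin n) (Fin n) F).map σ = c • (g : Matrix (Fin n) (Fin n) F)} = (q₀ ^ r - 1) / (q₀ - 1) * ∏ i : Fin n, (q₀ ^ n - q₀ ^ (i : ℕ)) := by
  classical
  let K : Subgroup (F ≃+* F) := Subgroup.zpowers σ
  let F₀ : Subfield F := FixedPoints.subfield ↥K F
  haveI : Finite (F ≃+* F) := Finite.of_injective (fun e => (e : F → F)) DFunLike.coe_injective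
  haveI : Fintype ↥K := Fintype.ofFinite _
  have hmem : ∀ x : F, σ x = x → x ∈ F₀ := by
    intro x hx m
    obtain ⟨l, hl⟩ := Subgroup.mem_zpowers_iff.1 m.2
    show (m : F ≃+* F) • x = x
    rw [← hl, ← MulAction.mem_stabilizer_iff]
    exact zpow_mem (show σ ∈ MulAction.stabilizer (F ≃+* F) x from hx) l
  have hfixed : ∀ x : F₀, σ x = x := fun x => x.2 ⟨σ, Subgroup.mem_zpowers σ⟩
  have hrank : Module.finrank F₀ F = r := by
    rw [show Module.finrank F₀ F = Fintype.card ↥K from FixedPoints.finrank_eq_card ↥K F,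
      ← Nat.card_eq_fintype_card, Nat.card_zpowers, hσ]
  haveI : Fintype F₀ := Fintype.ofFinite _
  have hq0 : Fintype.card F₀ = q₀ := by
    have h := Module.card_eq_pow_finrank (K := F₀) (V := F)
    rw [hrank, hF] at h
    exact (Nat.pow_left_injective hr.ne_zero h).symm
  have hq1 : 1 < q₀ := hq0 ▸ Fintype.one_lt_card
  haveI : Nonempty (Fin n) := ⟨⟨0, hn⟩⟩
  let ι := F₀.subtype
  let Φ : Fˣ × GL (Fin n) F₀ →* GL (Fin n) F :=
    { toFun := fun p => Units.map (algebraMap F (Matrix (Fin n) (Fin n) F)).toMonoidHom p.1 *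
        Units.map (ι.mapMatrix).toMonoidHom p.2
      map_one' := by simp
      map_mul' := fun a b => Units.ext (by
        simp only [Prod.fst_mul, Prod.snd_mul, map_mul, Units.val_mul, Units.coe_map,
          RingHom.toMonoidHom_eq_coe, MonoidHom.coe_coe]
        simp only [Algebra.algebraMap_eq_smul_one, Matrix.smul_mul, Matrix.one_mul, Matrix.mul_smul,
          smul_smul]) }
  have hΦ : ∀ p, ((Φ p : GL (Fin n) F) : Matrix (Fin n) (Fin n) F) =
      (p.1 : F) • (p.2 : Matrix (Fin n) (Fin n) F₀).map ι := fun p => by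
    show algebraMap F (Matrix (Fin n) (Fin n) F) (p.1 : F) * ι.mapMatrix (p.2 : Matrix (Fin n) (Fin n) F₀) = _
    rw [Algebra.algebraMap_eq_smul_one, Matrix.smul_mul, Matrix.one_mul]
    rfl
  have hset : ∀ g : GL (Fin n) F, g ∈ Φ.range ↔
      ∃ c : F, c ≠ 0 ∧ (g : Matrix (Fin n) (Fin n) F).map σ = c • (g : Matrix (Fin n) (Fin n) F) := by
    intro g
    constructor
    · rintro ⟨p, rfl⟩
      refine ⟨σ (p.1 : F) / p.1, div_ne_zero ((map_ne_zero σ).2 p.1.ne_zero) p.1.ne_zero, ?_⟩
      ext i j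
      rw [Matrix.map_apply, Matrix.smul_apply, hΦ, Matrix.smul_apply, Matrix.map_apply, smul_eq_mul,
        smul_eq_mul, map_mul, show σ (ι ((p.2 : Matrix (Fin n) (Fin n) F₀) i j)) =
          ι ((p.2 : Matrix (Fin n) (Fin n) F₀) i j) from hfixed _]
      field_simp [p.1.ne_zero]
    · rintro ⟨c, -, hg⟩
      obtain ⟨i, j, hu⟩ : ∃ i j, (g : Matrix (Fin n) (Fin n) F) i j ≠ 0 := by
        by_contra h
        push Not at h
        exact g.isUnit.ne_zero (Matrix.ext h)
      set u := (g : Matrix (Fin n) (Fin n) F) i j with hudef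
      have hc : σ u = c * u := congrFun (congrFun hg i) j
      have hent : ∀ a b, σ (u⁻¹ * (g : Matrix (Fin n) (Fin n) F) a b) =
          u⁻¹ * (g : Matrix (Fin n) (Fin n) F) a b := by
        intro a b
        have h1 : σ ((g : Matrix (Fin n) (Fin n) F) a b) = c * (g : Matrix (Fin n) (Fin n) F) a b :=
          congrFun (congrFun hg a) b
        have hc0 : c ≠ 0 := fun h0 => (map_ne_zero σ).2 hu (by rw [hc, h0, zero_mul])
        rw [map_mul, map_inv₀, h1, hc]
        field_simp
      let M : Matrix (Fin n) (Fin n) F₀ := Matrix.of fun a b => ⟨u⁻¹ * (g : Matrix (Fin n) (Fin n) F) a b, hmem _ (hent a b)⟩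
      have hMmap : M.map ι = u⁻¹ • (g : Matrix (Fin n) (Fin n) F) := rfl
      have hMdet : IsUnit M.det := by
        refine isUnit_iff_ne_zero.2 fun h0 => ?_
        have h1 : (ι.mapMatrix M).det = 0 := by rw [← RingHom.map_det, h0, map_zero]
        rw [RingHom.mapMatrix_apply, hMmap, Matrix.det_smul] at h1
        exact mul_ne_zero (pow_ne_zero _ (inv_ne_zero hu))
          ((Matrix.isUnit_iff_isUnit_det _).1 g.isUnit).ne_zero h1
      refine ⟨(Units.mk0 u hu, ((Matrix.isUnit_iff_isUnit_det M).2 hMdet).unit), Units.ext ?_⟩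
      rw [hΦ]
      show u • M.map ι = _
      rw [hMmap, smul_smul, mul_inv_cancel₀ hu, one_smul]
  rw [← Nat.card_congr (Equiv.subtypeEquivRight hset)]
  show Nat.card ↥Φ.range = _
  have hker : Nat.card Φ.ker = q₀ - 1 := by
    rw [← hq0, ← Fintype.card_units, ← Nat.card_eq_fintype_card]
    refine (Nat.card_congr (Equiv.ofBijective
      (fun v : F₀ˣ => (⟨(Units.map ι.toMonoidHom v,
        Units.map (algebraMap F₀ (Matrix (Fin n) (Fin n) F₀)).toMonoidHom v⁻¹), Units.ext (by
          rw [hΦ]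
          show (ι (v : F₀)) • (algebraMap F₀ (Matrix (Fin n) (Fin n) F₀) ((v⁻¹ : F₀ˣ) : F₀)).map ι = 1
          ext a b
          rw [Matrix.smul_apply, Matrix.map_apply, Algebra.algebraMap_eq_smul_one, Matrix.smul_apply,
            smul_eq_mul, smul_eq_mul, ← map_mul, Units.mul_inv_cancel_left, Matrix.one_apply,
            Matrix.one_apply]
          split_ifs <;> simp)⟩ : Φ.ker)) ⟨fun v w h => ?_, ?_⟩)).symm
    · have h1 := congrArg (fun k : Φ.ker => ((k.1.1 : Fˣ) : F)) h
      exact Units.ext (Subtype.ext h1)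
    · rintro ⟨⟨u, h⟩, hk⟩
      have hk' : (u : F) • (h : Matrix (Fin n) (Fin n) F₀).map ι = 1 := by
        rw [← hΦ (u, h), MonoidHom.mem_ker.1 hk]; rfl
      have hentry : ∀ a b, (u : F) * ι ((h : Matrix (Fin n) (Fin n) F₀) a b) =
          (1 : Matrix (Fin n) (Fin n) F) a b := fun a b => congrFun (congrFun hk' a) b
      set a0 : Fin n := ⟨0, hn⟩
      have h00 := hentry a0 a0
      rw [Matrix.one_apply_eq] at h00
      have hw : (h : Matrix (Fin n) (Fin n) F₀) a0 a0 ≠ 0 := fun h0 => by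
        rw [h0, map_zero, mul_zero] at h00; exact zero_ne_one h00
      have hu : (u : F) = ι (((h : Matrix (Fin n) (Fin n) F₀) a0 a0)⁻¹) := by
        rw [map_inv₀]; exact eq_inv_of_mul_eq_one_left h00
      refine ⟨Units.mk0 _ (inv_ne_zero hw), Subtype.ext (Prod.ext (Units.ext hu.symm) (Units.ext ?_))⟩
      show algebraMap F₀ (Matrix (Fin n) (Fin n) F₀) (((Units.mk0 _ (inv_ne_zero hw))⁻¹ : F₀ˣ) : F₀) = _
      rw [Units.val_inv_eq_inv_val, Units.val_mk0, inv_inv, Algebra.algebraMap_eq_smul_one]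
      ext a b
      have hab := hentry a b
      refine mul_left_cancel₀ u.ne_zero (Eq.trans ?_ hab.symm)
      show (u : F) * ι (((h : Matrix (Fin n) (Fin n) F₀) a0 a0) * (1 : Matrix (Fin n) (Fin n) F₀) a b) = _
      rw [map_mul, ← mul_assoc, h00, one_mul, Matrix.one_apply, Matrix.one_apply]
      split_ifs <;> simp
  have hmain := Φ.ker.card_mul_index
  rw [Subgroup.index_ker, hker, Nat.card_prod, Nat.card_eq_fintype_card (α := Fˣ), Fintype.card_units, hF,
    Matrix.card_GL_field, hq0] at hmain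
  have hd : q₀ - 1 ∣ q₀ ^ r - 1 := by simpa using Nat.sub_dvd_pow_sub_pow q₀ 1 r
  refine Nat.eq_of_mul_eq_mul_left (show 0 < q₀ - 1 by omega) (hmain.trans ?_)
  rw [← mul_assoc, Nat.mul_div_cancel' hd]

end Cfsg.Agent.S2636
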