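import Cfsg.Statements.S2637
import Cfsg.Agent.MatModule.SympFPFThree
import Cfsg.Agent.S0277

set_option autoImplicit false
open Cfsg

namespace Cfsg.Agent.S2637

open Polynomial Cfsg.Agent.SympFPFThree in

/-- Centraliser of a fixed-point-free element of order three in Sp_2m(q) when q ≡ 2 (mod 3): if x ∈ Sp_2m(F) (|F| = q, m ≥ 1) satisfies x³ = 1 and x − 1 is invertible, then its centraliser in Sp_2m(F) has the order of the unitary group GU_m(q), namely q^(m(m−1)/2) Π_(i=1)^m (q^i − (−1)^i) (x lies in the centre of a subgroup GU_m(q) of Sp_2m(q)). -/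
theorem result {F : Type*} [Field F] [Fintype F] {q : ℕ} (hF : Fintype.card F = q) (hq : q % 3 = 2) {m : ℕ} (hm : 1 ≤ m) (x : Matrix.symplecticGroup (Fin m) F) (hx3 : x ^ 3 = 1) (hfpf : IsUnit ((x : Matrix (Fin m ⊕ Fin m) (Fin m ⊕ Fin m) F) - 1)) : (Nat.card ↥(Subgroup.centralizer ({x} : Set ↥(Matrix.symplecticGroup (Fin m) F))) : ℤ) = (q : ℤ) ^ (m * (m - 1) / 2) * ∏ i : Fin m, ((q : ℤ) ^ ((i : ℕ) + 1) - (-1) ^ ((i : ℕ) + 1)) := by
  classical
  obtain ⟨p, hp⟩ := CharP.exists F
  obtain ⟨E, hpp, hE⟩ := FiniteField.card F p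
  haveI := Fact.mk hpp
  haveI : NeZero (2 : ℕ) := ⟨two_ne_zero⟩
  have hq2 : 2 ≤ q := hF ▸ Fintype.one_lt_card
  have h30 : (3 : F) ≠ 0 := by
    intro h
    have h3 : ((3 : ℕ) : F) = 0 := by exact_mod_cast h
    have h' := (CharP.cast_eq_zero_iff F p 3).1 h3
    rw [(Nat.prime_dvd_prime_iff_eq hpp Nat.prime_three).1 h', hF] at hE
    have := dvd_pow_self 3 (PNat.ne_zero E)
    rw [← hE] at this
    omega
  have hirr : Irreducible (X ^ 2 + X + 1 : F[X]) := by
    have hmon : (X ^ 2 + X + 1 : F[X]).Monic := by monicity!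
    have hdeg : (X ^ 2 + X + 1 : F[X]).natDegree = 2 := by compute_degree!
    rw [hmon.irreducible_iff_roots_eq_zero_of_degree_le_three (by omega) (by omega)]
    refine Multiset.eq_zero_of_forall_notMem fun a ha => ?_
    rw [mem_roots hmon.ne_zero, IsRoot, eval_add, eval_add, eval_pow, eval_X, eval_one] at ha
    have h3 : a ^ 3 = 1 := by linear_combination (a - 1) * ha
    have ha0 : a ≠ 0 := fun h => by simp [h] at ha
    have h4 : a ^ (q - 1) = 1 := hF ▸ FiniteField.pow_card_sub_one_eq_one a ha0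
    have h5 := pow_gcd_eq_one.2 ⟨h3, h4⟩
    rw [Nat.Coprime.gcd_eq_one (Nat.prime_three.coprime_iff_not_dvd.2 (by omega)), pow_one] at h5
    rw [h5] at ha
    exact h30 (by linear_combination ha)
  let K := FiniteField.Extension F p 2
  letI : Fintype K := Fintype.ofFinite K
  have hK : Fintype.card K = q ^ 2 := by
    rw [← Nat.card_eq_fintype_card, FiniteField.natCard_extension, Nat.card_eq_fintype_card, hF]
  haveI : Fact (Nat.Prime 3) := ⟨Nat.prime_three⟩
  have h3K : 3 ∣ Nat.card Kˣ := by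
    rw [Nat.card_units, Nat.card_eq_fintype_card, hK, ← Nat.div_add_mod q 3, hq]
    exact ⟨(q / 3) * (3 * (q / 3) + 4) + 1, by
      generalize q / 3 = k
      have : (3 * k + 2) ^ 2 = 3 * (k * (3 * k + 4) + 1) + 1 := by ring
      omega⟩
  obtain ⟨z, hz⟩ := exists_prime_orderOf_dvd_card' 3 h3K
  have hω : ((z : K)) ^ 2 + (z : K) + 1 = 0 := by
    have h1 : (z : K) ^ 3 = 1 := by rw [← Units.val_pow_eq_pow_val, ← hz, pow_orderOf_eq_one, Units.val_one]
    have h2 : (z : K) ≠ 1 := fun h => by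
      rw [Units.val_eq_one] at h
      rw [h, orderOf_one] at hz
      omega
    refine (mul_eq_zero.1 (?_ : ((z : K) - 1) * ((z : K) ^ 2 + (z : K) + 1) = 0)).resolve_left (sub_ne_zero.2 h2)
    linear_combination h1
  have hrel : x.1 * x.1 + x.1 + 1 = 0 := by
    refine hfpf.mul_left_cancel ?_
    rw [mul_zero]
    have h1 : x.1 ^ 3 = 1 := by rw [← SubmonoidClass.coe_pow, hx3]; rfl
    rw [pow_succ, pow_two] at h1
    simp only [sub_mul, mul_add, mul_one, one_mul, ← mul_assoc, h1]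
    abel
  rw [card_centralizer_eq_of_isConj (isConj_model hirr x hrel), card_centralizer_model hF hK (z : K) hω hq hirr,
    Cfsg.Agent.S0277.result hK m]
  push_cast
  rw [Fin.prod_univ_eq_prod_range (fun i : ℕ => (q : ℤ) ^ (i + 1) - (-1) ^ (i + 1))]
  congr 1
  refine Finset.prod_congr rfl fun i _ => ?_
  by_cases hi : Even i
  · rw [if_pos hi, Odd.neg_one_pow hi.add_one]; ring
  · rw [if_neg hi, Even.neg_one_pow (Nat.not_even_iff_odd.1 hi).add_one, Nat.cast_sub (Nat.one_le_pow _ _ (by omega))]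
    push_cast; ring

end Cfsg.Agent.S2637
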