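import Cfsg.Statements.S2638
import Mathlib

set_option autoImplicit false
open Cfsg

namespace Cfsg.Agent.S2638

variable {F V : Type*} [Field F] [Fintype F] [AddCommGroup V] [Module F V] [FiniteDimensional F V]

theorem eq_one_of_small {n r : ℕ} (hr : r.Prime) (hrq : ¬ r ∣ Fintype.card F)
    (hi : orderOf (Fintype.card F : ZMod r) = n) (hd : Module.finrank F V < n)
    (u : Module.End F V) (hu : u ^ r = 1) : u = 1 := by
  classical
  haveI := Fact.mk hr
  by_contra hne
  obtain ⟨v, hv⟩ : IsUnit u := IsUnit.of_pow_eq_one hu hr.ne_zero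
  subst hv
  have ho : orderOf v = r :=
    orderOf_eq_prime (Units.ext (by rw [Units.val_pow_eq_pow_val, hu, Units.val_one]))
      (fun h => hne (by rw [h, Units.val_one]))
  let b := Module.finBasis F V
  have hdvd : r ∣ Nat.card (GL (Fin (Module.finrank F V)) F) := by
    rw [← ho, ← MulEquiv.orderOf_eq (Units.mapEquiv (LinearMap.toMatrixAlgEquiv b).toMulEquiv) v]
    exact orderOf_dvd_natCard _
  rw [Matrix.card_GL_field] at hdvd
  obtain ⟨i, -, hidvd⟩ := (Prime.dvd_finsetProd_iff (Nat.prime_iff.1 hr) _).1 hdvd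
  set q := Fintype.card F
  rw [← ZMod.natCast_eq_zero_iff, Nat.cast_sub (Nat.pow_le_pow_right Fintype.card_pos i.2.le),
    Nat.cast_pow, Nat.cast_pow, sub_eq_zero] at hidvd
  have hq0 : (q : ZMod r) ≠ 0 := fun h => hrq ((ZMod.natCast_eq_zero_iff q r).1 h)
  have hsplit : (q : ZMod r) ^ Module.finrank F V = (q : ZMod r) ^ (i : ℕ) * (q : ZMod r) ^ (Module.finrank F V - i) := by
    rw [← pow_add, Nat.add_sub_cancel' i.2.le]
  rw [hsplit] at hidvd
  have h1 : (q : ZMod r) ^ (Module.finrank F V - i) = 1 :=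
    (mul_eq_left₀ (pow_ne_zero _ hq0)).1 hidvd
  have h2 := Nat.le_of_dvd (by omega) (hi ▸ orderOf_dvd_of_pow_eq_one h1)
  omega

theorem irreducible {n r : ℕ} (hr : r.Prime) (hrq : ¬ r ∣ Fintype.card F) (hrF : (r : F) ≠ 0)
    (hi : orderOf (Fintype.card F : ZMod r) = n) (hn : Module.finrank F V = n)
    (f : Module.End F V) (hf : f ^ r = 1) (hf1 : f ≠ 1) (W : Submodule F V) (hW : ∀ w ∈ W, f w ∈ W) :
    W = ⊥ ∨ W = ⊤ := by
  by_contra hcon
  push Not at hcon
  obtain ⟨hb, ht⟩ := hcon
  have hlt : Module.finrank F W < n := hn ▸ Submodule.finrank_lt ht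
  have hlt2 : Module.finrank F (V ⧸ W) < n := by
    have h0 := Submodule.finrank_quotient_add_finrank W
    have h1 : 0 < Module.finrank F W := Nat.pos_of_ne_zero (fun h => hb (Submodule.finrank_eq_zero.1 h))
    omega
  have hle : W ≤ W.comap f := fun w hw => hW w hw
  have h1 : f.restrict hW = 1 := eq_one_of_small hr hrq hi hlt _ (by
    rw [Module.End.pow_restrict]
    refine LinearMap.ext fun w => Subtype.ext ?_
    show (f ^ r) (w : V) = w
    rw [hf]
    rfl)
  have h2 : W.mapQ W f hle = 1 := eq_one_of_small hr hrq hi hlt2 _ (by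
    refine ((W.mapQ_pow hle r).symm).trans ?_
    refine LinearMap.ext fun w => ?_
    obtain ⟨w, rfl⟩ := Submodule.mkQ_surjective W w
    rw [Submodule.mkQ_apply, Submodule.mapQ_apply, hf]
    rfl)
  set N := f - 1 with hN
  have hNW : ∀ v, N v ∈ W := fun v => by
    have := LinearMap.congr_fun h2 (W.mkQ v)
    rw [Submodule.mkQ_apply, Submodule.mapQ_apply, Module.End.one_apply,
      Submodule.Quotient.eq] at this
    exact this
  have hN2 : N * N = 0 := LinearMap.ext fun v => by
    have := congrArg Subtype.val (LinearMap.congr_fun h1 ⟨N v, hNW v⟩)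
    show f (N v) - N v = 0
    exact sub_eq_zero.2 this
  have hpow : ∀ k : ℕ, f ^ k = 1 + (k : F) • N := by
    intro k
    induction k with
    | zero => simp
    | succ k ih =>
      rw [pow_succ, ih, show f = 1 + N by rw [hN]; abel, add_mul, one_mul, smul_mul_assoc,
        mul_add, mul_one, hN2, add_zero, Nat.cast_succ, add_smul, one_smul]
      abel
  have := hpow r
  rw [hf, left_eq_add, smul_eq_zero] at this
  exact hf1 (sub_eq_zero.1 (this.resolve_left hrF))

theorem centralizer_eq {f : Module.End F V}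
    (hirr : ∀ W : Submodule F V, (∀ w ∈ W, f w ∈ W) → W = ⊥ ∨ W = ⊤) {v : V} (hv : v ≠ 0) :
    (∀ y : Module.End F V, y * f = f * y → y ∈ Algebra.adjoin F {f}) ∧
      Function.Bijective (fun a : Algebra.adjoin F {f} => (a : Module.End F V) v) ∧
      IsDomain (Algebra.adjoin F {f}) := by
  classical
  have hker : ∀ y : Module.End F V, y * f = f * y → ∀ w, w ≠ 0 → y w = 0 → y = 0 := by
    intro y hy w hw hyw
    rcases hirr (LinearMap.ker y) (fun z hz => LinearMap.mem_ker.2 (by
      rw [← Module.End.mul_apply, hy, Module.End.mul_apply, LinearMap.mem_ker.1 hz, map_zero])) with h | h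
    · exact absurd ((Submodule.mem_bot F).1 (h ▸ LinearMap.mem_ker.2 hyw)) hw
    · exact LinearMap.ext fun z => LinearMap.mem_ker.1 (h ▸ Submodule.mem_top)
  have hcomm : ∀ a ∈ Algebra.adjoin F {f}, a * f = f * a := fun a ha => by
    obtain ⟨P, rfl⟩ := (Algebra.adjoin_singleton_eq_range_aeval F f) ▸ ha
    simpa using congrArg (Polynomial.aeval f) (mul_comm P Polynomial.X)
  let ev : Algebra.adjoin F {f} →ₗ[F] V :=
    (LinearMap.applyₗ v).comp (Algebra.adjoin F {f}).val.toLinearMap
  have hsurj : ∀ w : V, ∃ a ∈ Algebra.adjoin F {f}, a v = w := by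
    intro w
    rcases hirr (LinearMap.range ev) (by
      rintro _ ⟨a, rfl⟩
      exact ⟨⟨f * a, mul_mem (Algebra.self_mem_adjoin_singleton F f) a.2⟩, rfl⟩) with h | h
    · have : v ∈ LinearMap.range ev := ⟨1, rfl⟩
      rw [h, Submodule.mem_bot] at this
      exact absurd this hv
    · obtain ⟨a, ha⟩ := (h ▸ Submodule.mem_top : w ∈ LinearMap.range ev)
      exact ⟨a, a.2, ha⟩
  have hinj : ∀ a ∈ Algebra.adjoin F {f}, a v = 0 → a = 0 := fun a ha h => hker a (hcomm a ha) v hv h
  refine ⟨fun y hy => ?_, ⟨fun a b hab => ?_, fun w => ?_⟩, ?_⟩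
  · obtain ⟨a, ha, hav⟩ := hsurj (y v)
    have : y - a = 0 := hker (y - a) (by rw [sub_mul, mul_sub, hy, hcomm a ha]) v hv
      (by rw [LinearMap.sub_apply, hav, sub_self])
    rwa [sub_eq_zero.1 this]
  · refine sub_eq_zero.1 (Subtype.ext (hinj _ (a - b).2 ?_))
    show (a : Module.End F V) v - (b : Module.End F V) v = 0
    rw [sub_eq_zero]; exact hab
  · obtain ⟨a, ha, hav⟩ := hsurj w
    exact ⟨⟨a, ha⟩, hav⟩
  · haveI : NoZeroDivisors (Algebra.adjoin F {f}) := ⟨fun {a b} hab => by
      rcases eq_or_ne ((b : Module.End F V) v) 0 with hb | hb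
      · exact Or.inr (Subtype.ext (hinj b b.2 hb))
      · refine Or.inl (Subtype.ext (hker a (hcomm a a.2) _ hb ?_))
        show ((a * b : Algebra.adjoin F {f}) : Module.End F V) v = 0
        rw [hab]; rfl⟩
    haveI : Nontrivial (Algebra.adjoin F {f}) := ⟨⟨1, 0, fun h => hv (by
      have := congrArg (fun a : Algebra.adjoin F {f} => (a : Module.End F V) v) h
      simpa using this)⟩⟩
    exact NoZeroDivisors.to_isDomain _

/-- If an element x of GL_n(q), n ≥ 1, has prime order r and the multiplicative order of q modulo r is n (r is a primitive prime divisor of q^n − 1, so x acts irreducibly), then the centraliser of x in GL_n(q) is cyclic of order q^n − 1 (the multiplicative group of the field with q^n elements, a Singer cycle). -/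
theorem result {F : Type*} [Field F] [Fintype F] {p q : ℕ} [Fact p.Prime] [CharP F p] (hF : Fintype.card F = q) {n r : ℕ} (hn : 1 ≤ n) (hr : r.Prime) (hrp : r ≠ p) (hi : orderOf (q : ZMod r) = n) (x : GL (Fin n) F) (hx : orderOf x = r) : IsCyclic ↥(Subgroup.centralizer ({x} : Set (GL (Fin n) F))) ∧ Nat.card ↥(Subgroup.centralizer ({x} : Set (GL (Fin n) F))) = q ^ n - 1 := by
  classical
  haveI := Fact.mk hr
  subst hF
  set q := Fintype.card F
  obtain ⟨m, hm, hq⟩ := FiniteField.card F p
  have hrq : ¬ r ∣ q := fun h => hrp ((Nat.prime_dvd_prime_iff_eq hr (Fact.out : p.Prime)).1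
    (hr.dvd_of_dvd_pow (show r ∣ p ^ (m : ℕ) by rw [← hq]; exact h)))
  have hrF : (r : F) ≠ 0 := fun h => hrp
    (((Nat.prime_dvd_prime_iff_eq (Fact.out : p.Prime) hr).1 ((CharP.cast_eq_zero_iff F p r).1 h)).symm)
  let e : Matrix (Fin n) (Fin n) F ≃ₐ[F] Module.End F (Fin n → F) := Matrix.toLinAlgEquiv'
  set f := e (x : Matrix (Fin n) (Fin n) F)
  have hf : f ^ r = 1 := by
    rw [← map_pow, ← Units.val_pow_eq_pow_val, ← hx, pow_orderOf_eq_one, Units.val_one, map_one]
  have hf1 : f ≠ 1 := fun h => hr.ne_one (by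
    rw [← hx, orderOf_eq_one_iff]
    exact Units.ext (e.injective (by rw [Units.val_one, map_one]; exact h)))
  have hirr := irreducible hr hrq hrF hi (Module.finrank_fin_fun F) f hf hf1
  set v : Fin n → F := Pi.single ⟨0, hn⟩ 1
  have hv : v ≠ 0 := fun h => one_ne_zero (α := F) (by
    have := congrFun h ⟨0, hn⟩
    simp [v] at this)
  obtain ⟨hc, hbij, hdom⟩ := centralizer_eq hirr hv
  set D := Algebra.adjoin F {f}
  haveI := hdom
  letI : CommRing D := Algebra.adjoinCommRingOfComm F (fun a ha b hb => by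
    rw [Set.mem_singleton_iff.1 ha, Set.mem_singleton_iff.1 hb])
  haveI : Finite D := Finite.of_injective _ hbij.1
  have hDcard : Nat.card D = q ^ n := by
    rw [Nat.card_congr (Equiv.ofBijective _ hbij), Nat.card_fun, Nat.card_eq_fintype_card,
      Nat.card_eq_fintype_card, Fintype.card_fin]
  have hmemD : ∀ g : GL (Fin n) F, g ∈ Subgroup.centralizer ({x} : Set (GL (Fin n) F)) ↔
      e (g : Matrix (Fin n) (Fin n) F) ∈ D := by
    intro g
    rw [Subgroup.mem_centralizer_singleton_iff]
    constructor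
    · intro h
      exact hc _ (by rw [← map_mul, ← map_mul, ← Units.val_mul, h, Units.val_mul])
    · intro h
      refine Units.ext (e.injective ?_)
      rw [Units.val_mul, Units.val_mul, map_mul, map_mul]
      exact congrArg Subtype.val (mul_comm (⟨_, h⟩ : D) ⟨f, Algebra.self_mem_adjoin_singleton F f⟩)
  let φ : ↥(Subgroup.centralizer ({x} : Set (GL (Fin n) F))) →* Dˣ :=
    MonoidHom.toHomUnits
      { toFun := fun g => (⟨e (g.1 : Matrix (Fin n) (Fin n) F), (hmemD g.1).1 g.2⟩ : D)
        map_one' := Subtype.ext (map_one e)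
        map_mul' := fun a b => Subtype.ext (map_mul e _ _) }
  have hφ : Function.Bijective φ := by
    refine ⟨fun a b h => Subtype.ext (Units.ext (e.injective
      (congrArg Subtype.val (congrArg Units.val h)))), fun d => ?_⟩
    let g : GL (Fin n) F := ⟨e.symm ((d : D) : Module.End F (Fin n → F)),
      e.symm (((d⁻¹ : Dˣ) : D) : Module.End F (Fin n → F)),
      by rw [← map_mul, show ((d : D) : Module.End F (Fin n → F)) * (((d⁻¹ : Dˣ) : D) : Module.End F (Fin n → F)) = 1
          from congrArg Subtype.val d.mul_inv, map_one],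
      by rw [← map_mul, show (((d⁻¹ : Dˣ) : D) : Module.End F (Fin n → F)) * ((d : D) : Module.End F (Fin n → F)) = 1
          from congrArg Subtype.val d.inv_mul, map_one]⟩
    refine ⟨⟨g, (hmemD g).2 ?_⟩, Units.ext (Subtype.ext (e.apply_symm_apply _))⟩
    show e (e.symm _) ∈ D
    rw [AlgEquiv.apply_symm_apply]
    exact (d : D).2
  let E := MulEquiv.ofBijective φ hφ
  refine ⟨isCyclic_of_surjective E.symm.toMonoidHom E.symm.surjective, ?_⟩
  rw [Nat.card_congr E.toEquiv]
  have h1 : Nat.card Dˣ = Nat.card {a : D // a ≠ 0} := by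
    refine Nat.card_congr (Equiv.ofBijective (fun u : Dˣ => (⟨(u : D), u.ne_zero⟩ : {a : D // a ≠ 0}))
      ⟨fun a b h => Units.ext (congrArg Subtype.val h), fun a => ?_⟩)
    obtain ⟨c, hc⟩ := (Finite.isField_of_domain D).mul_inv_cancel a.2
    exact ⟨⟨a.1, c, hc, by rw [mul_comm]; exact hc⟩, rfl⟩
  haveI : Fintype D := Fintype.ofFinite _
  rw [h1, Nat.card_eq_fintype_card, Fintype.card_subtype_compl, Fintype.card_subtype_eq,
    ← Nat.card_eq_fintype_card, hDcard]

end Cfsg.Agent.S2638
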