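import Cfsg.Statements.S2642
import Cfsg.Agent.MatModule.UnitaryUnipotent

set_option autoImplicit false
open Cfsg

namespace Cfsg.Agent.S2642

open Cfsg.Agent.MatModule in

/-- Number of conjugacy classes of elements of order p in the general unitary group GU_n(q), q a power of p: every unipotent Jordan type occurs and the classes correspond to the partitions of n with all parts at most p other than the all-ones partition, exactly as in GL_n; so there are (number of partitions of n with parts ≤ p) − 1 classes. -/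
theorem result {K : Type*} [Field K] [Fintype K] {p q n : ℕ} [Fact p.Prime] [CharP K p] (hK : Fintype.card K = q ^ 2) : Nat.card {C : ConjClasses ↥(Cfsg.GU n K q) // ∃ g : ↥(Cfsg.GU n K q), ConjClasses.mk g = C ∧ orderOf g = p} = (Finset.univ.filter (fun μ : Nat.Partition n => ∀ a ∈ μ.parts, a ≤ p)).card - 1 := by
  classical
  obtain ⟨σ, hσq, hσ, -, -⟩ := Cfsg.Agent.Classical.exists_powHom hK
  have h0 : ∀ μ : Nat.Partition n, (0 : ℕ) ∉ μ.parts := fun μ h => (μ.parts_pos h).false
  choose g hgU hg using fun μ : Nat.Partition n =>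
    Cfsg.Agent.UnitaryConj.exists_GU_hasType (F := K) hσ hσq μ.parts (h0 μ) μ.parts_sum
  set one : Nat.Partition n := ⟨Multiset.replicate n 1,
    fun {i} hi => by rw [Multiset.eq_of_mem_replicate hi]; exact Nat.one_pos,
    by rw [Multiset.sum_replicate, smul_eq_mul, mul_one]⟩ with hone
  have hones : ∀ μ : Nat.Partition n, (∀ a ∈ μ.parts, a ≤ 1) → μ = one := by
    intro μ h
    have e : ∀ a ∈ μ.parts, a = 1 := fun a ha => le_antisymm (h a ha) (μ.parts_pos ha)
    have hr := Multiset.eq_replicate_card.2 e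
    have hs := μ.parts_sum
    rw [hr, Multiset.sum_replicate, smul_eq_mul, mul_one] at hs
    exact Nat.Partition.ext (by rw [hr, hs])
  set P := (Finset.univ.filter (fun μ : Nat.Partition n => ∀ a ∈ μ.parts, a ≤ p)).erase one with hP
  have hPcard : P.card = (Finset.univ.filter (fun μ : Nat.Partition n => ∀ a ∈ μ.parts, a ≤ p)).card - 1 := by
    refine Finset.card_erase_of_mem (Finset.mem_filter.2 ⟨Finset.mem_univ _, fun a ha => ?_⟩)
    rw [Multiset.eq_of_mem_replicate ha]
    exact (Fact.out : p.Prime).one_lt.le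
  rw [← hPcard, ← Fintype.card_coe, ← Nat.card_eq_fintype_card]
  have hord : ∀ μ : P, orderOf (⟨g μ, hgU μ⟩ : ↥(Cfsg.GU n K q)) = p := by
    rintro ⟨μ, hμ⟩
    rw [hP, Finset.mem_erase, Finset.mem_filter] at hμ
    rw [← Subgroup.orderOf_coe]
    refine orderOf_eq_prime ?_ fun h => hμ.1 (hones μ ?_)
    · have := (toLin'_pow_eq_one_iff (g μ) 1).2 ((sub_one_pow_eq_zero_iff (hg μ) _).2 (by rw [pow_one]; exact hμ.2.2))
      rwa [pow_one] at this
    · have h' := (toLin'_pow_eq_one_iff (p := p) (g μ) 0).1 (by rw [pow_zero, pow_one]; exact h)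
      rw [pow_zero] at h'
      exact (sub_one_pow_eq_zero_iff (hg μ) 1).1 h'
  symm
  refine Nat.card_eq_of_bijective (fun μ => ⟨ConjClasses.mk (⟨g μ, hgU μ⟩ : ↥(Cfsg.GU n K q)),
    ⟨g μ, hgU μ⟩, rfl, hord μ⟩) ⟨?_, ?_⟩
  · intro μ ν h
    obtain ⟨x, hx⟩ := isConj_iff.1 (ConjClasses.mk_eq_mk_iff_isConj.1 (congrArg Subtype.val h))
    exact Subtype.ext (Nat.Partition.ext
      (hasType_unique (hasType_of_conj (congrArg Subtype.val hx) (hg μ)) (hg ν) (h0 μ) (h0 ν)))
  · rintro ⟨C', y, rfl, hy⟩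
    rw [← Subgroup.orderOf_coe] at hy
    have hz := (toLin'_pow_eq_one_iff (p := p) (y : GL (Fin n) K) 1).1 (by rw [pow_one, ← hy, pow_orderOf_eq_one])
    obtain ⟨m, hm0, hm⟩ := exists_hasType _ hz
    have hsum := sum_eq_finrank hm
    rw [Module.finrank_fintype_fun_eq_card, Fintype.card_fin] at hsum
    set μ : Nat.Partition n := ⟨m, fun {i} hi => Nat.pos_of_ne_zero fun h => hm0 (h ▸ hi), hsum⟩ with hμ
    have hμP : μ ∈ P := by
      rw [hP, Finset.mem_erase, Finset.mem_filter]
      refine ⟨fun h => ?_, Finset.mem_univ _, fun a ha => ?_⟩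
      · have h1 : ∀ a ∈ m, a ≤ p ^ 0 := fun a ha => by
          have hparts : m = Multiset.replicate n 1 := congrArg Nat.Partition.parts h
          have : a ∈ Multiset.replicate n 1 := hparts ▸ ha
          rw [Multiset.eq_of_mem_replicate this, pow_zero]
        have := (toLin'_pow_eq_one_iff (p := p) (y : GL (Fin n) K) 0).2 ((sub_one_pow_eq_zero_iff hm _).2 h1)
        rw [pow_zero, pow_one] at this
        rw [this, orderOf_one] at hy
        exact (Fact.out : p.Prime).ne_one hy.symm
      · have := (sub_one_pow_eq_zero_iff hm _).1 hz a ha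
        rwa [pow_one] at this
    refine ⟨⟨μ, hμP⟩, Subtype.ext (ConjClasses.mk_eq_mk_iff_isConj.2 ?_)⟩
    obtain ⟨Q, hQ⟩ := exists_conj_gl_of_hasType (g μ) (y : GL (Fin n) K) (hg μ) hm
    obtain ⟨U, hU, hUA⟩ := Cfsg.Agent.UnitaryConj.exists_unitary_conj hσ hσq (hgU μ) y.2 hQ
    exact isConj_iff.2 ⟨⟨U, hU⟩, Subtype.ext hUA⟩

end Cfsg.Agent.S2642
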