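import Cfsg.Statements.S2643
import Cfsg.Agent.MatModule.UnitaryUnipotent
import Cfsg.Agent.S2578

set_option autoImplicit false
open Cfsg

namespace Cfsg.Agent.S2643

open Cfsg.Agent.MatModule Cfsg.Agent.Classical Cfsg.Agent.UnitaryConj in

/-- Regular unipotent classes of SU_n(q), n ≥ 2: the elements u of the special unitary group (isometries of Σ u_i v_i^q of determinant one over the field with q² elements) with (u − 1)^n = 0 and rank(u − 1) = n − 1 form exactly gcd(n, q + 1) conjugacy classes of SU_n(q). -/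
theorem result {K : Type*} [Field K] [Fintype K] {q n : ℕ} (hK : Fintype.card K = q ^ 2) (hn : 2 ≤ n) : Nat.card {C : ConjClasses ↥(Cfsg.SU n K q) // ∃ u : ↥(Cfsg.SU n K q), ConjClasses.mk u = C ∧ (((u : GL (Fin n) K) : Matrix (Fin n) (Fin n) K) - 1) ^ n = 0 ∧ (((u : GL (Fin n) K) : Matrix (Fin n) (Fin n) K) - 1).rank = n - 1} = Nat.gcd n (q + 1) := by
  classical
  obtain ⟨σ, hσq, hσ, hfix, -⟩ := exists_powHom hK
  obtain ⟨u₀, hu₀U, hu₀⟩ := exists_GU_hasType (F := K) hσ hσq {n}
    (by simp; omega) (Multiset.sum_singleton n)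
  set N := (Herm.normHom σ).ker with hN
  have hnorm : ∀ d : N, (d.1 : K) * σ (d.1 : K) = 1 := fun d => congrArg Units.val d.2
  set d0 : N → Fin n → Kˣ := fun d => Function.update (fun _ => 1) ⟨0, by omega⟩ d.1 with hd0
  set D : N → GL (Fin n) K := fun d => diagGL (d0 d) with hD
  have hDU : ∀ d, D d ∈ Cfsg.GU n K q := fun d => diag_mem hσq _ fun i => by
    rw [hd0]
    dsimp only
    by_cases hi : i = ⟨0, by omega⟩
    · subst hi; rw [Function.update_self]; exact hnorm d
    · rw [Function.update_of_ne hi]; simp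
  have hDdet : ∀ d : N, Matrix.GeneralLinearGroup.det (D d) = d.1 := by
    intro d
    refine Units.ext ?_
    show (diagGL (d0 d)).1.det = d.1
    rw [det_diagGL, ← Units.coe_prod, hd0]
    dsimp only
    rw [Finset.prod_update_of_mem (Finset.mem_univ _)]
    simp
  have hty : ∀ d, HasType (Matrix.toLin'
      ((D d * u₀ * (D d)⁻¹ : GL (Fin n) K) : Matrix (Fin n) (Fin n) K)) {n} :=
    fun d => hasType_of_conj rfl hu₀
  have hxU : ∀ d, D d * u₀ * (D d)⁻¹ ∈ Cfsg.GU n K q := fun d =>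
    mul_mem (mul_mem (hDU d) hu₀U) (inv_mem (hDU d))
  have hmemSU : ∀ s : Matrix.SpecialLinearGroup (Fin n) K,
      Matrix.SpecialLinearGroup.toGL s ∈ Cfsg.GU n K q → s ∈ Cfsg.SU n K q := fun s hs =>
    (mem_SU_iff hσq s).2 ((mem_GU_iff hσq _).1 hs)
  have hmemGU : ∀ s : ↥(Cfsg.SU n K q), Matrix.SpecialLinearGroup.toGL s.1 ∈ Cfsg.GU n K q := fun s =>
    (mem_GU_iff hσq _).2 ((mem_SU_iff hσq s.1).1 s.2)
  set x : N → ↥(Cfsg.SU n K q) := fun d =>
    ⟨⟨_, (Cfsg.Agent.S2578.spec_of_hasType _ (hty d)).2.2⟩,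
      hmemSU _ (by convert hxU d using 1; exact Units.ext rfl)⟩ with hx
  have hxGL : ∀ d, Matrix.SpecialLinearGroup.toGL (x d).1 = D d * u₀ * (D d)⁻¹ := fun d => Units.ext rfl
  set R := (powMonoidHom n : N →* N).range with hR
  have hiff : ∀ d d', IsConj (x d) (x d') → d⁻¹ * d' ∈ R := by
    intro d d' h
    obtain ⟨k, hk⟩ := isConj_iff.1 h
    have hk' := congrArg (fun s : ↥(Cfsg.SU n K q) => Matrix.SpecialLinearGroup.toGL s.1) hk
    simp only [Subgroup.coe_mul, Subgroup.coe_inv, map_mul, map_inv, hxGL] at hk'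
    set L := Matrix.SpecialLinearGroup.toGL k.1 with hL
    set c := (D d')⁻¹ * L * D d with hc
    have hcm : c * u₀ = u₀ * c := by
      rw [hc]
      calc (D d')⁻¹ * L * D d * u₀
          = (D d')⁻¹ * (L * (D d * u₀ * (D d)⁻¹) * L⁻¹) * (L * D d) := by group
        _ = (D d')⁻¹ * (D d' * u₀ * (D d')⁻¹) * (L * D d) := by rw [hk']
        _ = u₀ * ((D d')⁻¹ * L * D d) := by group
    obtain ⟨t, ht, hnil⟩ := Cfsg.Agent.S2578.exists_scalar_sub_nilpotent (by omega) u₀ c hu₀ hcm
    have hcU : c ∈ Cfsg.GU n K q := mul_mem (mul_mem (inv_mem (hDU d')) (hmemGU k)) (hDU d)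
    have hadj : adj σ c.1 * c.1 = 1 := (mem_GU_iff_adj hσq c).1 hcU
    have hadj' : c.1 * adj σ c.1 = 1 := mul_eq_one_comm.1 hadj
    have htN : t ∈ N := by
      rw [hN, MonoidHom.mem_ker]
      refine Units.ext ?_
      rw [Herm.normHom_coe, Units.val_one]
      set A := Matrix.scalar (Fin n) (t : K) - c.1 with hA
      set A' := Matrix.scalar (Fin n) (σ (t : K)) - adj σ c.1 with hA'
      have hadjS : ∀ a : K, adj σ (Matrix.scalar (Fin n) a) = Matrix.scalar (Fin n) (σ a) := fun a => by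
        ext i j
        by_cases h : i = j
        · subst h; simp [adj]
        · simp [adj, h, Ne.symm h]
      have hA'nil : IsNilpotent A' := by
        obtain ⟨k, hk⟩ := hnil
        refine ⟨k, ?_⟩
        have e : adj σ A = A' := by
          rw [hA, hA', ← hadjS]
          simp only [adj, Matrix.map_sub (⇑σ) (map_sub σ), Matrix.transpose_sub]
        have hp : ∀ (M : Matrix (Fin n) (Fin n) K) (k : ℕ), adj σ (M ^ k) = adj σ M ^ k := by
          intro M k
          induction k with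
          | zero => simp [adj_one]
          | succ k ih => rw [pow_succ, adj_mul, ih, pow_succ']
        rw [← e, ← hp, show A ^ k = 0 from hk, adj_zero]
      have hs : ∀ (a : K) (M : Matrix (Fin n) (Fin n) K), Commute (Matrix.scalar (Fin n) a) M :=
        fun a M => Matrix.scalar_commute a (fun r' => Commute.all _ r') M
      have hkey : Matrix.scalar (Fin n) ((t : K) * σ (t : K) - 1) =
          c.1 * A' + Matrix.scalar (Fin n) (σ (t : K)) * A := by
        rw [hA, hA', mul_sub, mul_sub, hadj', map_sub, map_mul, map_one,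
          (hs (σ (t : K)) c.1).eq, (hs (t : K) _).eq]
        abel
      have hcc : Commute c.1 (adj σ c.1) := hadj'.trans hadj.symm
      have hn2 : IsNilpotent (c.1 * A' + Matrix.scalar (Fin n) (σ (t : K)) * A) := by
        refine Commute.isNilpotent_add ?_ (Commute.isNilpotent_mul_left
          ((hs _ _).symm.sub_right hcc) hA'nil) (Commute.isNilpotent_mul_left (hs _ _) hnil)
        have h1 : Commute c.1 A := (hs _ _).symm.sub_right (Commute.refl _)
        have h2 : Commute A' A :=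
          ((hs _ A).sub_left (((hs _ _).symm.sub_right hcc.symm)))
        exact (((hs _ c.1).symm.mul_right h1).mul_left ((hs _ A').symm.mul_right h2))
      rw [← hkey] at hn2
      obtain ⟨k, hk⟩ := hn2
      rw [← map_pow] at hk
      have h0 := congrFun (congrFun hk ⟨0, by omega⟩) ⟨0, by omega⟩
      simp only [Matrix.scalar_apply, Matrix.diagonal_apply_eq, Matrix.zero_apply] at h0
      exact sub_eq_zero.1 (pow_eq_zero_iff'.1 h0).1
    rw [hc, map_mul, map_mul, map_inv, hDdet, hDdet,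
      show Matrix.GeneralLinearGroup.det L = 1 from Units.ext k.1.2, mul_one] at ht
    refine ⟨(⟨t, htN⟩ : N)⁻¹, Subtype.ext ?_⟩
    rw [powMonoidHom_apply, SubmonoidClass.coe_pow, Subgroup.coe_inv, Subgroup.coe_mul, Subgroup.coe_inv,
      inv_pow, ← ht, mul_inv_rev, inv_inv]
  have hconj : ∀ (u : ↥(Cfsg.SU n K q)) (g : GL (Fin n) K), g ∈ Cfsg.GU n K q →
      g * u₀ * g⁻¹ = Matrix.SpecialLinearGroup.toGL u.1 → ∀ d e : N,
      (e : Kˣ) = Matrix.GeneralLinearGroup.det g → d⁻¹ * e ∈ R → IsConj (x d) u := by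
    intro u g hgU hg d e he hd
    obtain ⟨t, ht⟩ := hd
    rw [powMonoidHom_apply] at ht
    set Z : GL (Fin n) K := diagGL (fun _ => ((t⁻¹ : N) : Kˣ)) with hZ
    have hZU : Z ∈ Cfsg.GU n K q := diag_mem hσq _ fun i => hnorm t⁻¹
    have hZc : Z * u₀ = u₀ * Z := by
      apply Units.ext
      rw [Units.val_mul, Units.val_mul, hZ, diagGL_coe]
      exact (Matrix.scalar_commute (((t⁻¹ : N) : Kˣ) : K) (fun r' => Commute.all _ r') u₀.1).eq
    have hZd : Matrix.GeneralLinearGroup.det Z = ((t ^ n : N) : Kˣ)⁻¹ := by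
      refine Units.ext ?_
      show Z.1.det = _
      rw [hZ, det_diagGL, Finset.prod_const, Finset.card_univ, Fintype.card_fin]
      simp
    set L := g * Z * (D d)⁻¹ with hL
    have hLd : Matrix.GeneralLinearGroup.det L = 1 := by
      rw [hL, map_mul, map_mul, map_inv, hDdet, hZd, ht, Subgroup.coe_mul, Subgroup.coe_inv, he,
        mul_inv_rev, inv_inv, ← mul_assoc, mul_inv_cancel, one_mul, mul_inv_cancel]
    have hLU : L ∈ Cfsg.GU n K q := mul_mem (mul_mem hgU hZU) (inv_mem (hDU d))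
    obtain ⟨k, hk⟩ : ∃ k : ↥(Cfsg.SU n K q), Matrix.SpecialLinearGroup.toGL k.1 = L :=
      ⟨⟨⟨_, congrArg Units.val hLd⟩, hmemSU _ (by convert hLU using 1; exact Units.ext rfl)⟩, Units.ext rfl⟩
    refine isConj_iff.2 ⟨k, ?_⟩
    rw [mul_inv_eq_iff_eq_mul]
    have hinj : Function.Injective (fun s : ↥(Cfsg.SU n K q) => Matrix.SpecialLinearGroup.toGL s.1) :=
      fun a b hab => Subtype.ext (Subtype.ext (congrArg Units.val hab))
    apply hinj
    simp only [Subgroup.coe_mul, map_mul, hk, hxGL, ← hg]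
    rw [hL]
    calc g * Z * (D d)⁻¹ * (D d * u₀ * (D d)⁻¹) = g * (Z * u₀) * (D d)⁻¹ := by group
      _ = g * (u₀ * Z) * (D d)⁻¹ := by rw [hZc]
      _ = g * u₀ * g⁻¹ * (g * Z * (D d)⁻¹) := by group
  rw [show Nat.gcd n (q + 1) = Nat.card (N ⧸ R) by
    rw [← Subgroup.index_eq_card, hR, IsCyclic.index_powMonoidHom_range, hN, Herm.card_ker_normHom hσ,
      hfix, Nat.gcd_comm]]
  symm
  refine Nat.card_eq_of_bijective (fun d => ⟨ConjClasses.mk (x d.out), x d.out, rfl,
    (Cfsg.Agent.S2578.spec_of_hasType _ (hty _)).1, (Cfsg.Agent.S2578.spec_of_hasType _ (hty _)).2.1⟩)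
    ⟨?_, ?_⟩
  · intro a b h
    have h' := hiff _ _ (ConjClasses.mk_eq_mk_iff_isConj.1 (congrArg Subtype.val h))
    rw [← QuotientGroup.eq, QuotientGroup.out_eq', QuotientGroup.out_eq'] at h'
    exact h'
  · rintro ⟨C', u, rfl, hz, hr⟩
    obtain ⟨P, hP⟩ := exists_conj_gl_of_hasType u₀ (Matrix.SpecialLinearGroup.toGL u.1) hu₀
      (Cfsg.Agent.S2578.hasType_of_rank (by omega) _ hz hr)
    obtain ⟨g, hgU, hg⟩ := exists_unitary_conj hσ hσq hu₀U (hmemGU u) hP
    have hgN : Matrix.GeneralLinearGroup.det g ∈ N := by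
      rw [hN, MonoidHom.mem_ker]
      exact Units.ext (det_norm_GU hσq hgU)
    refine ⟨((⟨_, hgN⟩ : N) : N ⧸ R), Subtype.ext ?_⟩
    refine ConjClasses.mk_eq_mk_iff_isConj.2 (hconj u g hgU hg _ ⟨_, hgN⟩ rfl ?_)
    rw [← QuotientGroup.eq, QuotientGroup.out_eq']

end Cfsg.Agent.S2643
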