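import Cfsg.Statements.S2645
import Cfsg.Agent.DualCount.Group
import Cfsg.Agent.MatModule.SympPoly
import Cfsg.Agent.S2389

set_option autoImplicit false
open Cfsg

namespace Cfsg.Agent.S2645

open Polynomial Cfsg.Agent.DualCount in

/-- Number of conjugacy classes of elements of odd prime order r, r different from the characteristic, in the symplectic group Sp_2m(q): let i be the multiplicative order of q modulo r and t = (r − 1)/i. If i is odd the eigenvalue orbits pair off (Λ ≠ Λ⁻¹) and the classes correspond to the non-zero (t/2)-tuples (a_j) with 2i Σ a_j ≤ 2m, giving C(⌊m/i⌋ + t/2, t/2) − 1 classes; if i is even (Λ = Λ⁻¹) they correspond to the non-zero t-tuples with i Σ a_j ≤ 2m, giving C(⌊2m/i⌋ + t, t) − 1 classes. -/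
theorem result {F : Type*} [Field F] [Fintype F] {p q : ℕ} [Fact p.Prime] [CharP F p] (hF : Fintype.card F = q) (m r i t : ℕ) (hr : r.Prime) (hr2 : r ≠ 2) (hrp : r ≠ p) (hi : i = orderOf (q : ZMod r)) (ht : t * i = r - 1) : Nat.card {C : ConjClasses ↥(Matrix.symplecticGroup (Fin m) F) // ∃ g : Matrix.symplecticGroup (Fin m) F, ConjClasses.mk g = C ∧ orderOf g = r} = if Odd i then Nat.choose (m / i + t / 2) (t / 2) - 1 else Nat.choose (2 * m / i + t) t - 1 := by
  classical
  haveI := Fact.mk hr
  have hpr : r.Coprime p := (Nat.coprime_primes hr Fact.out).2 hrp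
  have hq0 : (q : ZMod r) ≠ 0 := by
    obtain ⟨E, hpp, hE⟩ := FiniteField.card F p
    rw [← hF, hE, Nat.cast_pow]
    exact pow_ne_zero _ fun h => hrp ((Nat.prime_dvd_prime_iff_eq hr hpp).1 ((ZMod.natCast_eq_zero_iff _ _).1 h))
  have hi0 : 0 < i := by
    rw [hi]
    exact orderOf_pos_iff.2 (isOfFinOrder_iff_pow_eq_one.2 ⟨r - 1, by have := hr.two_le; omega,
      ZMod.pow_card_sub_one_eq_one hq0⟩)
  have hecast : ((r - 1 : ℕ) : ZMod r) = -1 := by
    rw [Nat.cast_sub hr.one_le, ZMod.natCast_self, Nat.cast_one, zero_sub]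
  obtain ⟨hfix, hfree⟩ := card_selfDual (F := F) (n := m + m) (i := i) hr hrp (by rw [hF, hi]) ht rdual
    (dual_rdual hr.pos) (by rw [hecast]; exact neg_ne_zero.2 one_ne_zero)
  set R := Matrix.reindexAlgEquiv F F (finSumFinEquiv : Fin m ⊕ Fin m ≃ Fin (m + m)) with hR
  set ι : ↥(Matrix.symplecticGroup (Fin m) F) →* GL (Fin (m + m)) F :=
    (Units.map R.toMulEquiv.toMonoidHom).comp
      (MonoidHom.toHomUnits (Matrix.symplecticGroup (Fin m) F).subtype) with hι
  have hιval : ∀ g, (ι g : Matrix (Fin (m + m)) (Fin (m + m)) F) = R g.1 := fun g => rfl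
  have hιinj : Function.Injective ι := fun a b h =>
    Subtype.ext (R.injective (congrArg Units.val h))
  have hιc : ∀ g, (ι g : Matrix (Fin (m + m)) (Fin (m + m)) F).charpoly = g.1.charpoly := fun g => by
    rw [hιval, hR, Matrix.reindexAlgEquiv_apply, Matrix.charpoly_reindex]
  have hmain : Nat.card {C : ConjClasses ↥(Matrix.symplecticGroup (Fin m) F) //
      ∃ g : Matrix.symplecticGroup (Fin m) F, ConjClasses.mk g = C ∧ orderOf g = r} =
      Nat.card {f : F[X] // f.Monic ∧ f.natDegree = m + m ∧ (∀ s, Irreducible s → s ∣ f → s ∣ X ^ r - 1) ∧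
        f ≠ (X - Polynomial.C 1) ^ (m + m) ∧ rdual f = f} := by
    have hpal : ∀ g : ↥(Matrix.symplecticGroup (Fin m) F), rdual g.1.charpoly = g.1.charpoly := by
      intro g
      have h0 : g.1.charpoly.coeff 0 = 1 := by
        have h := Matrix.det_eq_sign_charpoly_coeff g.1
        rw [Cfsg.Agent.SympConj.det_eq_one, Fintype.card_sum, Fintype.card_fin, ← two_mul, pow_mul,
          neg_one_sq, one_pow, one_mul] at h
        exact h.symm
      rw [rdual, h0, inv_one, map_one, one_mul]
      have hd : g.1.charpoly.natDegree = 2 * m := by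
        rw [Matrix.charpoly_natDegree_eq_dim, Fintype.card_sum, Fintype.card_fin, two_mul]
      refine Polynomial.ext fun j => ?_
      rw [coeff_reverse, hd]
      rcases le_or_gt j (2 * m) with hj | hj
      · rw [revAt_le hj]
        exact Cfsg.Agent.SympConj.coeff_charpoly_palindromic g hj
      · congr 1
        show revAtFun (2 * m) j = j
        rw [revAtFun, if_neg (by omega)]
    refine card_classes hr hrp ι hιinj rdual ?_ (fun g => by rw [hιc]; exact hpal g) ?_
    · intro g h hg hh hc
      rw [hιc, hιc] at hc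
      exact Cfsg.Agent.S2389.result p m g h (by rw [hg]; exact hpr) (by rw [hh]; exact hpr) hc
    · intro f hfm hfd h0 hff hfδ
      rcases Nat.eq_zero_or_pos m with rfl | hm
      · refine ⟨1, by rw [orderOf_one]; exact Nat.coprime_one_left p, ?_⟩
        rw [eq_one_of_monic_natDegree_zero hfm hfd, map_one, Units.val_one, Matrix.charpoly_one]
        simp
      obtain ⟨x, hx, hxf⟩ := Cfsg.Agent.S2387.exists_semisimple p f hfm hfd h0
      have hf0 : f.coeff 0 = 1 := by
        have hx1 : x ^ r = 1 := by
          rw [Cfsg.Agent.S2568.pow_eq_one_iff_factors x hx, hxf]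
          exact fun s hs => hff s (UniqueFactorizationMonoid.irreducible_of_normalized_factor _ hs)
            (UniqueFactorizationMonoid.dvd_of_mem_normalizedFactors hs)
        have hd : x.1.det = f.coeff 0 := by
          rw [Matrix.det_eq_sign_charpoly_coeff, hxf, Fintype.card_fin, ← two_mul, pow_mul, neg_one_sq,
            one_pow, one_mul]
        have hr1 : f.coeff 0 ^ r = 1 := by
          rw [← hd, ← Matrix.det_pow, ← Units.val_pow_eq_pow_val, hx1, Units.val_one, Matrix.det_one]
        have h2 : f.coeff 0 * f.coeff 0 = 1 := by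
          have h := congrArg (fun g : F[X] => g.coeff 0) hfδ
          simp only [rdual, mul_coeff_zero, coeff_C_zero, coeff_reverse, revAt_le (Nat.zero_le _),
            Nat.sub_zero, hfm.coeff_natDegree, mul_one] at h
          rw [← mul_inv_cancel₀ h0, h]
        obtain ⟨u, hu⟩ : Odd r := hr.odd_of_ne_two hr2
        rw [hu, pow_succ, pow_mul, sq, h2, one_pow, one_mul] at hr1
        exact hr1
      have hpalf : ∀ l ≤ 2 * m, f.coeff (2 * m - l) = f.coeff l := by
        intro l hl
        have h := congrArg (fun g : F[X] => g.coeff l) hfδ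
        simp only [rdual, hf0, inv_one, map_one, one_mul, coeff_reverse, hfd, ← two_mul,
          revAt_le hl] at h
        exact h
      obtain ⟨A, hA⟩ := Cfsg.Agent.SympConj.exists_charpoly hm f hfm (by rw [hfd, two_mul]) hpalf hf0
      have hord : 0 < orderOf A := orderOf_pos A
      refine ⟨A ^ (Fintype.card F ^ orderOf A), ?_, ?_⟩
      · obtain ⟨a, k, hk, hak⟩ := Nat.exists_eq_pow_mul_and_not_dvd hord.ne' p (Fact.out : p.Prime).ne_one
        obtain ⟨e, -, he⟩ := FiniteField.card F p
        have hdvd : orderOf (A ^ (Fintype.card F ^ orderOf A)) ∣ k := by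
          refine orderOf_dvd_of_pow_eq_one ?_
          rw [← pow_mul, ← orderOf_dvd_iff_pow_eq_one]
          conv_lhs => rw [hak]
          refine Nat.mul_dvd_mul_right ?_ k
          rw [he, ← pow_mul]
          refine pow_dvd_pow p ?_
          have hk0 : 0 < k := Nat.pos_of_ne_zero fun h => hk (h ▸ dvd_zero p)
          calc a ≤ p ^ a := (Nat.lt_pow_self (Fact.out : p.Prime).one_lt).le
            _ ≤ orderOf A := hak ▸ Nat.le_mul_of_pos_right _ hk0
            _ ≤ (e : ℕ) * orderOf A := Nat.le_mul_of_pos_left _ e.pos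
        exact (((Fact.out : p.Prime).coprime_iff_not_dvd.2 hk).symm).coprime_dvd_left hdvd
      · have e : ∀ k : ℕ, (A.1 ^ (Fintype.card F ^ k)).charpoly = A.1.charpoly := by
          intro k
          induction k with
          | zero => rw [pow_zero, pow_one]
          | succ k ih => rw [pow_succ, pow_mul, FiniteField.Matrix.charpoly_pow_card, ih]
        rw [hιc, SubmonoidClass.coe_pow, e, hA]
  rw [hmain]
  have hpowi : (q : ZMod r) ^ i = 1 := by rw [hi]; exact pow_orderOf_eq_one _
  have h2r : (1 : ZMod r) ≠ -1 := by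
    intro h
    have h2 : ((2 : ℕ) : ZMod r) = 0 := by push_cast; linear_combination h
    exact hr2 ((Nat.prime_dvd_prime_iff_eq hr Nat.prime_two).1 ((ZMod.natCast_eq_zero_iff _ _).1 h2))
  by_cases hodd : Odd i
  · rw [if_pos hodd, hfree]
    · congr 2
      rw [← two_mul, Nat.mul_div_mul_left m i two_pos]
    rintro ⟨j, hj⟩
    rw [hecast, hF] at hj
    have h6 : i ∣ 2 * j := by
      rw [hi]
      refine orderOf_dvd_of_pow_eq_one ?_
      rw [mul_comm, pow_mul, ← hj, neg_one_sq]
    have h7 := (Nat.coprime_two_right.2 hodd).dvd_of_dvd_mul_left h6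
    rw [hi] at h7
    exact h2r ((orderOf_dvd_iff_pow_eq_one.1 h7).symm.trans hj.symm)
  · rw [if_neg hodd, hfix ⟨i / 2, ?_⟩, ← two_mul]
    rw [hecast, hF]
    obtain ⟨u, hu⟩ := Nat.not_odd_iff_even.1 hodd
    have h2 : (q : ZMod r) ^ (i / 2) * (q : ZMod r) ^ (i / 2) = 1 := by
      rw [← pow_add, show i / 2 + i / 2 = i by omega, hpowi]
    refine ((mul_self_eq_one_iff.1 h2).resolve_left fun h => ?_).symm
    have := Nat.le_of_dvd (by omega) (hi ▸ orderOf_dvd_of_pow_eq_one h)
    omega

end Cfsg.Agent.S2645
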