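import Cfsg.Statements.S2646
import Cfsg.Agent.Classical.UnipotentUnitCentralizer
-- import your own Cfsg.Agent.* helpers here

set_option autoImplicit false
open Cfsg

namespace Cfsg.Agent.S2646

open Matrix Cfsg.Agent.S2581 Cfsg.Agent.Classical Cfsg.Agent.Classical.UnipotentUnit
  Cfsg.Agent.Classical.Herm Cfsg.Agent.UnitaryConj

variable {F : Type*} [Field F] [Fintype F] {σ : F →+* F} {t : ℕ} {d : Fin t → ℕ}

theorem card_GU_int {a q : ℕ} (hσ : IsInvol σ) (hσq : ∀ x, σ x = x ^ q)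
    (hq : Nat.card (fixField σ) = q) (hq1 : 1 ≤ q) :
    (Nat.card (Cfsg.GU a F q) : ℤ) =
      (q : ℤ) ^ (a * (a - 1) / 2) * ∏ j : Fin a, ((q : ℤ) ^ ((j : ℕ) + 1) - (-1) ^ ((j : ℕ) + 1)) := by
  rw [card_GU_formula hσ hσq hq, Finset.prod_range, Nat.cast_mul, Nat.cast_pow, Nat.cast_prod]
  congr 1
  refine Finset.prod_congr rfl fun j _ => ?_
  rcases Nat.even_or_odd (j : ℕ) with h | h
  · rw [if_pos h, h.add_one.neg_one_pow]
    push_cast
    ring
  · rw [if_neg (Nat.not_even_iff_odd.2 h), h.add_one.neg_one_pow, Nat.cast_sub (Nat.one_le_pow _ _ hq1)]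
    push_cast
    ring

/-- The isometries of a non-degenerate (skew-)Hermitian form form a copy of `GU`. -/
theorem card_form_iso {ι : Type*} [Fintype ι] [DecidableEq ι] {a q : ℕ} (ha : Fintype.card ι = a)
    (hσ : IsInvol σ) (hσq : ∀ x, σ x = x ^ q) (H : Matrix ι ι F) (w : ℕ)
    (hH : adjM σ H = (-1 : F) ^ w • H) (hdet : H.det ≠ 0) :
    Nat.card {A : Matrix ι ι F // adjM σ A * H * A = H} = Nat.card (Cfsg.GU a F q) := by
  obtain ⟨μ, hμ0, hμ⟩ : ∃ μ : F, μ ≠ 0 ∧ σ μ = (-1) ^ w * μ := by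
    rcases Nat.even_or_odd w with h | h
    · exact ⟨1, one_ne_zero, by rw [h.neg_one_pow, one_mul, map_one]⟩
    · obtain ⟨k, hk, hk'⟩ := exists_skew hσ
      exact ⟨k, hk, by rw [h.neg_one_pow, hk', neg_one_mul]⟩
  let e : ι ≃ Fin a := Fintype.equivFinOfCardEq ha
  let φ : Matrix ι ι F ≃ₐ[F] Matrix (Fin a) (Fin a) F := Matrix.reindexAlgEquiv F F e
  have hφadj : ∀ M, φ (adjM σ M) = adj σ (φ M) := fun M => rfl
  set H' := φ (μ • H) with hH'def
  have hH'herm : adj σ H' = H' := by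
    rw [hH'def, ← hφadj, adjM_smul, hH, hμ, smul_smul, mul_right_comm, ← mul_pow, neg_mul_neg,
      one_mul, one_pow, one_mul]
  have hH'u : IsUnit H' := by
    refine (((Matrix.isUnit_iff_isUnit_det _).2 ?_).map φ)
    rw [Matrix.det_smul, isUnit_iff_ne_zero]
    exact mul_ne_zero (pow_ne_zero _ hμ0) hdet
  obtain ⟨P, hP⟩ := exists_adj_mul_self hσ hH'herm hH'u
  set Pi : GL (Fin a) F := P⁻¹
  have hPi : adj σ Pi.1 * adj σ P.1 = 1 := by rw [← adj_mul, Units.mul_inv, adj_one]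
  have hiff : ∀ A : Matrix ι ι F, adjM σ A * H * A = H ↔ adj σ (P.1 * φ A * Pi.1) * (P.1 * φ A * Pi.1) = 1 := by
    intro A
    have e1 : adjM σ A * H * A = H ↔ adj σ (φ A) * H' * φ A = H' := by
      rw [hH'def, ← hφadj, ← map_mul, ← map_mul, φ.injective.eq_iff, mul_smul_comm, smul_mul_assoc]
      exact (smul_right_injective _ hμ0).eq_iff.symm
    rw [e1, adj_mul, adj_mul]
    constructor
    · intro h
      calc adj σ Pi.1 * (adj σ (φ A) * adj σ P.1) * (P.1 * φ A * Pi.1)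
          = adj σ Pi.1 * (adj σ (φ A) * (adj σ P.1 * P.1) * φ A) * Pi.1 := by simp [mul_assoc]
        _ = adj σ Pi.1 * (adj σ P.1 * P.1) * Pi.1 := by rw [hP, h]
        _ = 1 := by rw [← mul_assoc, hPi, one_mul, Units.mul_inv]
    · intro h
      have hPi' : adj σ P.1 * adj σ Pi.1 = 1 := by rw [← adj_mul, Units.inv_mul, adj_one]
      calc adj σ (φ A) * H' * φ A
          = adj σ P.1 * adj σ Pi.1 * (adj σ (φ A) * (adj σ P.1 * P.1) * φ A) * (Pi.1 * P.1) := by
            rw [hPi', Units.inv_mul, hP, one_mul, mul_one]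
        _ = adj σ P.1 * (adj σ Pi.1 * (adj σ (φ A) * adj σ P.1) * (P.1 * φ A * Pi.1)) * P.1 := by
            simp [mul_assoc]
        _ = H' := by rw [h, mul_one, hP]
  refine Nat.card_congr
    { toFun := fun A => ⟨⟨P.1 * φ A.1 * Pi.1, adj σ (P.1 * φ A.1 * Pi.1),
          mul_eq_one_comm.1 ((hiff _).1 A.2), (hiff _).1 A.2⟩, (mem_GU_iff_adj hσq _).2 ((hiff _).1 A.2)⟩
      invFun := fun g => ⟨φ.symm (Pi.1 * g.1.1 * P.1), (hiff _).2 (by
        rw [φ.apply_symm_apply]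
        simpa [mul_assoc, Pi] using (mem_GU_iff_adj hσq g.1).1 g.2)⟩
      left_inv := fun A => Subtype.ext (by simp [mul_assoc, Pi])
      right_inv := fun g => Subtype.ext (Units.ext (by simp [mul_assoc, Pi])) }

variable (D : Datum σ d)

/-- The strictly upper part of the commutant. -/
def rad : Submodule F (Matrix (Ix d) (Ix d) F) where
  carrier := {C | Commute C (nilPart d F) ∧ ∀ v, lblk D.hd C v = 0}
  zero_mem' := ⟨Commute.zero_left _, fun v => rfl⟩
  add_mem' := fun ha hb => ⟨ha.1.add_left hb.1, fun v => by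
    ext k l
    have h1 := congrFun (congrFun (ha.2 v) k) l
    have h2 := congrFun (congrFun (hb.2 v) k) l
    simp only [lblk, Matrix.submatrix_apply, Matrix.add_apply, Matrix.zero_apply] at h1 h2 ⊢
    rw [h1, h2, add_zero]⟩
  smul_mem' := fun c a ha => ⟨ha.1.smul_left c, fun v => by
    ext k l
    have h1 := congrFun (congrFun (ha.2 v) k) l
    simp only [lblk, Matrix.submatrix_apply, Matrix.smul_apply, Matrix.zero_apply] at h1 ⊢
    rw [h1, smul_zero]⟩

theorem rad_mul : ∀ a ∈ rad D, ∀ b ∈ rad D, a * b ∈ rad D := fun a ha b hb =>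
  ⟨ha.1.mul_left hb.1, fun v => by rw [lblk_mul D.hd ha.1 hb.1, ha.2, zero_mul]⟩

theorem rad_tau : ∀ a ∈ rad D, D.tau a ∈ rad D := fun a ha => ⟨D.commute_tau ha.1, fun v => by
  have hu : IsUnit (D.Hv v) := (Matrix.isUnit_iff_isUnit_det _).2 (isUnit_iff_ne_zero.2 (D.Hv_det v))
  refine hu.mul_left_cancel ?_
  rw [D.key ha.1, ha.2, mul_zero]
  simp [adjM]⟩

theorem isUnit_of_lblk_one {C : Matrix (Ix d) (Ix d) F} (hd : ∀ k, 1 ≤ d k)
    (hC : Commute C (nilPart d F)) (h : ∀ v, lblk hd C v = 1) : IsUnit C := by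
  rw [← ofPar_toPar hd hC.eq, isUnit_ofPar hd]
  intro v
  have e : blk (toPar hd C) hd v = 1 := by
    rw [← h v]
    ext k l
    rw [← congrFun (congrFun (congrFun (congrArg (lblk hd) (ofPar_toPar hd hC.eq)) v) k) l, lblk_ofPar]
    rfl
  rw [e, Matrix.det_one]
  exact one_ne_zero

theorem rad_nil : ∀ a ∈ rad D, IsNilpotent a := by
  intro a ha
  obtain ⟨x, y, hne, hxy⟩ := Finite.exists_ne_map_eq_of_infinite fun k : ℕ => a ^ (k + 1)
  wlog hlt : x < y generalizing x y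
  · exact this y x hne.symm hxy.symm (by omega)
  obtain ⟨s, rfl⟩ : ∃ s, y = x + 1 + s := ⟨y - x - 1, by omega⟩
  have hmem : a ^ (s + 1) ∈ rad D := by
    clear hxy hne hlt
    induction s with
    | zero => rwa [pow_one]
    | succ s ih => rw [pow_succ]; exact rad_mul D _ ih _ ha
  have hu : IsUnit (1 - a ^ (s + 1)) := by
    refine isUnit_of_lblk_one D.hd ((Commute.one_left _).sub_left hmem.1) fun v => ?_
    have h2 : lblk D.hd (a ^ (s + 1)) v = 0 := hmem.2 v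
    calc lblk D.hd (1 - a ^ (s + 1)) v
        = lblk D.hd (1 : Matrix (Ix d) (Ix d) F) v - lblk D.hd (a ^ (s + 1)) v := rfl
      _ = 1 := by rw [h2, lblk_one, sub_zero]
  refine ⟨x + 1, hu.mul_left_eq_zero.1 ?_⟩
  rw [mul_sub, mul_one, ← pow_add, show x + 1 + (s + 1) = x + 1 + s + 1 by omega, sub_eq_zero]
  exact hxy

theorem card_rad : Nat.card (rad D) =
    Fintype.card F ^ Fintype.card {r : Par d // ¬ Lead d r} := by
  classical
  rw [show Fintype.card F ^ Fintype.card {r : Par d // ¬ Lead d r} =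
    Nat.card ({r : Par d // ¬ Lead d r} → F) by rw [Nat.card_fun, Nat.card_eq_fintype_card, Nat.card_eq_fintype_card]]
  refine Nat.card_congr
    { toFun := fun a r => toPar D.hd a.1 r.1
      invFun := fun c => ⟨ofPar fun r => if h : Lead d r then 0 else c ⟨r, h⟩, ofPar_comm _, fun v => by
        ext k l
        rw [lblk_ofPar, dif_pos ⟨k.2.trans l.2.symm, rfl⟩]
        rfl⟩
      left_inv := fun a => Subtype.ext ?_
      right_inv := fun c => funext fun r => by simp [toPar_ofPar, r.2] }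
  obtain ⟨hc, hz⟩ : Commute a.1 (nilPart d F) ∧ ∀ v, lblk D.hd a.1 v = 0 := a.2
  refine Eq.trans ?_ (ofPar_toPar (F := F) D.hd hc.eq)
  dsimp only
  refine congrArg (ofPar (F := F)) (funext fun r => ?_)
  split_ifs with h
  · obtain ⟨⟨k, l⟩, i⟩ := r
    obtain ⟨h1, h2⟩ := h
    simp only at h1 h2
    have h3 := congrFun (congrFun (hz (d k)) ⟨k, rfl⟩) ⟨l, h1.symm⟩
    simp only [lblk, Matrix.submatrix_apply, Matrix.zero_apply] at h3
    rw [toPar]
    refine h3.symm.trans ?_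
    show _ = a.1 ⟨k, ⟨d k - min (d k) (d l) + i, by have := i.2; have := D.hd k; simp only at *; omega⟩⟩ ⟨l, ⟨0, D.hd l⟩⟩
    exact congrArg (fun x : Fin (d k) => a.1 ⟨k, x⟩ ⟨l, ⟨0, D.hd l⟩⟩) (Fin.ext (by simp only; omega))
  · rfl

/-- The unitary elements of the commutant. -/
theorem card_unit {q : ℕ} (hσ : IsInvol σ) (hσq : ∀ x, σ x = x ^ q)
    (hF : Fintype.card F = q ^ 2) :
    Nat.card {C : Matrix (Ix d) (Ix d) F // Commute C (nilPart d F) ∧ D.tau C * C = 1} =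
      q ^ Fintype.card {r : Par d // ¬ Lead d r} *
        ∏ v : Fin (Finset.univ.sup d + 1), Nat.card (Cfsg.GU (Fintype.card {k : Fin t // d k = (v : ℕ)}) F q) := by
  classical
  have hτ := D.isAnti
  obtain ⟨c, hc⟩ := exists_trace hσ (a := (1 : F)) (map_one σ)
  have hK := UnitKernel.card_normOne hτ (rad D) (rad_mul D) (rad_nil D) (rad_tau D) ⟨c, hc⟩ hσ.invol
    (exists_moved hσ)
  let K := {u : (Matrix (Ix d) (Ix d) F)ˣ //
    u ∈ UnitKernel.congUnits (rad D) (rad_mul D) ∧ D.tau u.1 * u.1 = 1}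
  change Nat.card K ^ 2 = _ at hK
  rw [card_rad, hF, ← pow_mul, mul_comm, pow_mul] at hK
  have hKc : Nat.card K = q ^ Fintype.card {r : Par d // ¬ Lead d r} :=
    Nat.pow_left_injective two_ne_zero hK
  let U := {C : Matrix (Ix d) (Ix d) F // Commute C (nilPart d F) ∧ D.tau C * C = 1}
  let V := (v : Fin (Finset.univ.sup d + 1)) →
    {A : Matrix {k : Fin t // d k = (v : ℕ)} {k : Fin t // d k = (v : ℕ)} F // adjM σ A * D.Hv v * A = D.Hv v}
  let Ψ : U → V := fun C v => ⟨lblk D.hd C.1 v, by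
    rw [← D.key C.2.1, mul_assoc, ← lblk_mul D.hd (D.commute_tau C.2.1) C.2.1, C.2.2, lblk_one, mul_one]⟩
  have hcong : ∀ u : (Matrix (Ix d) (Ix d) F)ˣ, u ∈ UnitKernel.congUnits (rad D) (rad_mul D) ↔
      Commute u.1 (nilPart d F) ∧ ∀ v, lblk D.hd u.1 v = 1 := by
    intro u
    rw [UnitKernel.mem_congUnits]
    constructor
    · rintro ⟨h1, h2⟩
      refine ⟨by simpa using h1.add_left (Commute.one_left _), fun v => ?_⟩
      have h3 : lblk D.hd u.1 v - lblk D.hd (1 : Matrix (Ix d) (Ix d) F) v = 0 := h2 v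
      rw [lblk_one, sub_eq_zero] at h3
      exact h3
    · rintro ⟨h1, h2⟩
      refine ⟨h1.sub_left (Commute.one_left _), fun v => ?_⟩
      show lblk D.hd u.1 v - lblk D.hd (1 : Matrix (Ix d) (Ix d) F) v = 0
      rw [h2, lblk_one, sub_self]
  have hsurj : ∀ A : V, ∃ C : U, Ψ C = A := by
    intro A
    set C₀ := liftLead D.hd fun v => (A v).1 with hC₀
    have hc₀ : Commute C₀ (nilPart d F) := ofPar_comm _
    have hs1 : ∀ v : Fin (Finset.univ.sup d + 1), lblk D.hd (D.tau C₀ * C₀) v = 1 := fun v => by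
      have hu : IsUnit (D.Hv v) := (Matrix.isUnit_iff_isUnit_det _).2 (isUnit_iff_ne_zero.2 (D.Hv_det v))
      refine hu.mul_left_cancel ?_
      rw [lblk_mul D.hd (D.commute_tau hc₀) hc₀, ← mul_assoc, D.key hc₀, lblk_liftLead, mul_one]
      exact (A v).2
    have hs : D.tau C₀ * C₀ - 1 ∈ rad D := by
      refine ⟨((D.commute_tau hc₀).mul_left hc₀).sub_left (Commute.one_left _), fun v => ?_⟩
      show lblk D.hd (D.tau C₀ * C₀) v - lblk D.hd (1 : Matrix (Ix d) (Ix d) F) v = 0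
      rw [lblk_one, sub_eq_zero]
      by_cases hv : v < Finset.univ.sup d + 1
      · exact hs1 ⟨v, hv⟩
      · have : IsEmpty {k : Fin t // d k = v} :=
          ⟨fun k => hv (Nat.lt_succ_of_le (k.2 ▸ Finset.le_sup (f := d) (Finset.mem_univ _)))⟩
        exact Subsingleton.elim _ _
    have hsym : D.tau (D.tau C₀ * C₀ - 1) = D.tau C₀ * C₀ - 1 := by
      rw [UnitKernel.map_sub hτ, hτ.mul, hτ.invol, UnitKernel.map_one hτ]
    obtain ⟨y, hy, hy'⟩ := UnitKernel.exists_norm hτ (rad D) (rad_mul D) (rad_nil D) (rad_tau D) ⟨c, hc⟩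
      hσ.invol hs hsym
    rw [add_sub_cancel] at hy'
    have hyi := (hcong _).1 ((UnitKernel.congUnits (rad D) (rad_mul D)).inv_mem hy)
    refine ⟨⟨C₀ * (y⁻¹ : (Matrix (Ix d) (Ix d) F)ˣ).1, hc₀.mul_left hyi.1, ?_⟩, ?_⟩
    · rw [hτ.mul, mul_assoc, ← mul_assoc (D.tau C₀), ← hy', mul_assoc, Units.mul_inv, mul_one,
        UnitKernel.map_inv hτ]
    · funext v
      refine Subtype.ext ?_
      show lblk D.hd _ v = _
      rw [lblk_mul D.hd hc₀ hyi.1, hyi.2, mul_one, lblk_liftLead]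
  choose sec hsec using hsurj
  let su : U → (Matrix (Ix d) (Ix d) F)ˣ := fun C => ⟨C.1, D.tau C.1, mul_eq_one_comm.1 C.2.2, C.2.2⟩
  have hsu : ∀ C : U, (su C)⁻¹.1 = D.tau C.1 := fun C => rfl
  have hmem : ∀ C : U, su C * (su (sec (Ψ C)))⁻¹ ∈ UnitKernel.congUnits (rad D) (rad_mul D) ∧
      D.tau (su C * (su (sec (Ψ C)))⁻¹).1 * (su C * (su (sec (Ψ C)))⁻¹).1 = 1 := by
    intro C
    set E := sec (Ψ C)
    have hE : ∀ v : Fin (Finset.univ.sup d + 1), lblk D.hd E.1 v = lblk D.hd C.1 v := fun v =>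
      congrArg (fun A : V => (A v).1) (hsec (Ψ C))
    refine ⟨(hcong _).2 ⟨C.2.1.mul_left (D.commute_tau E.2.1), fun v => ?_⟩, ?_⟩
    · by_cases hv : v < Finset.univ.sup d + 1
      · show lblk D.hd (C.1 * D.tau E.1) v = 1
        rw [lblk_mul D.hd C.2.1 (D.commute_tau E.2.1)]
        have h := congrArg (fun M => lblk D.hd M v) (mul_eq_one_comm.1 E.2.2 : E.1 * D.tau E.1 = 1)
        simp only [lblk_one, lblk_mul D.hd E.2.1 (D.commute_tau E.2.1)] at h
        rw [← hE ⟨v, hv⟩]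
        exact h
      · have : IsEmpty {k : Fin t // d k = v} :=
          ⟨fun k => hv (Nat.lt_succ_of_le (k.2 ▸ Finset.le_sup (f := d) (Finset.mem_univ _)))⟩
        exact Subsingleton.elim _ _
    · show D.tau (C.1 * D.tau E.1) * (C.1 * D.tau E.1) = 1
      rw [hτ.mul, hτ.invol, mul_assoc, ← mul_assoc (D.tau C.1), C.2.2, one_mul, mul_eq_one_comm.1 E.2.2]
  let e : U ≃ K × V :=
    { toFun := fun C => (⟨su C * (su (sec (Ψ C)))⁻¹, hmem C⟩, Ψ C)
      invFun := fun z => ⟨z.1.1.1 * (sec z.2).1,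
        ((hcong _).1 z.1.2.1).1.mul_left (sec z.2).2.1, by
          rw [hτ.mul, mul_assoc, ← mul_assoc (D.tau z.1.1.1), z.1.2.2, one_mul, (sec z.2).2.2]⟩
      left_inv := fun C => Subtype.ext (by
        show (su C * (su (sec (Ψ C)))⁻¹ * su (sec (Ψ C))).1 = (su C).1
        rw [inv_mul_cancel_right])
      right_inv := fun z => by
        have hΨ : Ψ ⟨z.1.1.1 * (sec z.2).1, ((hcong _).1 z.1.2.1).1.mul_left (sec z.2).2.1, by
            rw [hτ.mul, mul_assoc, ← mul_assoc (D.tau z.1.1.1), z.1.2.2, one_mul, (sec z.2).2.2]⟩ = z.2 := by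
          funext v
          refine Subtype.ext ?_
          show lblk D.hd _ v = _
          rw [lblk_mul D.hd ((hcong _).1 z.1.2.1).1 (sec z.2).2.1, ((hcong _).1 z.1.2.1).2, one_mul]
          exact congrArg (fun A : V => (A v).1) (hsec z.2)
        refine Prod.ext (Subtype.ext (Units.ext ?_)) hΨ
        show z.1.1.1 * (sec z.2).1 * D.tau (sec (Ψ _)).1 = z.1.1.1
        rw [hΨ, mul_assoc, mul_eq_one_comm.1 (sec z.2).2.2, mul_one] }
  show Nat.card U = _
  rw [Nat.card_congr e, Nat.card_prod, hKc, Nat.card_pi]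
  congr 1
  exact Finset.prod_congr rfl fun v _ => card_form_iso rfl hσ hσq _ _ (D.Hv_symm v) (D.Hv_det v)

/-- Order of the centraliser in the general unitary group GU_n(q) of a unipotent element of given Jordan type: if u ∈ GU_n(q) (isometries of Σ u_i v_i^q over the field with q² elements) is similar to the unipotent matrix with a_i Jordan blocks of size i (all sizes at least 1), then its centraliser in GU_n(q) has order q^γ · Π_i |GU_(a_i)(q)| with γ = 2 Σ_(i<j) i a_i a_j + Σ_i (i − 1) a_i², the same exponent as in GL_n(q), where |GU_a(q)| = q^(a(a−1)/2) Π_(k=1)^a (q^k − (−1)^k). -/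
theorem result {K : Type*} [Field K] [Fintype K] {q n t : ℕ} (hK : Fintype.card K = q ^ 2) (d : Fin t → ℕ) (hd : ∀ k, 1 ≤ d k) (e : ((k : Fin t) × Fin (d k)) ≃ Fin n) (u : ↥(Cfsg.GU n K q)) (hu : IsConj (Matrix.reindex e e (Cfsg.jordanTypeMatrix d K)) ((u : GL (Fin n) K) : Matrix (Fin n) (Fin n) K)) : (Nat.card ↥(Subgroup.centralizer ({u} : Set ↥(Cfsg.GU n K q))) : ℤ) = (q : ℤ) ^ (2 * (∑ i ∈ Finset.range (Finset.univ.sup d + 1), ∑ j ∈ Finset.range (Finset.univ.sup d + 1), if i < j then i * (Finset.univ.filter (fun k : Fin t => d k = i)).card * (Finset.univ.filter (fun k : Fin t => d k = j)).card else 0) + ∑ i ∈ Finset.range (Finset.univ.sup d + 1), (i - 1) * (Finset.univ.filter (fun k : Fin t => d k = i)).card ^ 2) * ∏ i ∈ Finset.range (Finset.univ.sup d + 1), ((q : ℤ) ^ ((Finset.univ.filter (fun k : Fin t => d k = i)).card * ((Finset.univ.filter (fun k : Fin t => d k = i)).card - 1) / 2) * ∏ j : Fin (Finset.univ.filter (fun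 k : Fin t => d k = i)).card, ((q : ℤ) ^ ((j : ℕ) + 1) - (-1) ^ ((j : ℕ) + 1))) := by
  classical
  obtain ⟨σ, hσq, hσ, hq, hq1⟩ := exists_powHom hK
  obtain ⟨P, hP⟩ := hu
  let φ : Matrix (Fin n) (Fin n) K ≃ₐ[K] Matrix (Ix d) (Ix d) K := Matrix.reindexAlgEquiv K K e.symm
  have hφadj : ∀ M, φ (adj σ M) = adjM σ (φ M) := fun M => rfl
  let φu : (Matrix (Fin n) (Fin n) K)ˣ →* (Matrix (Ix d) (Ix d) K)ˣ :=
    Units.map φ.toAlgHom.toRingHom.toMonoidHom
  set P' := φu P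
  set u' := φu u.1
  set H : (Matrix (Ix d) (Ix d) K)ˣ := φu ⟨adj σ P.1 * P.1, P⁻¹.1 * adj σ P⁻¹.1,
    by rw [mul_assoc, ← mul_assoc P.1, Units.mul_inv, one_mul, ← adj_mul, Units.inv_mul, adj_one],
    by rw [mul_assoc, ← mul_assoc (adj σ P⁻¹.1), ← adj_mul, Units.mul_inv, adj_one, one_mul,
      Units.inv_mul]⟩ with hHdef
  have hJ : φ (Matrix.reindex e e (Cfsg.jordanTypeMatrix d K)) = 1 + nilPart d K := by
    rw [← jordanTypeMatrix_eq]
    show Matrix.reindex e.symm e.symm (Matrix.reindex e e (Cfsg.jordanTypeMatrix d K)) = _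
    ext i j
    simp
  set J : (Matrix (Ix d) (Ix d) K)ˣ := P'⁻¹ * u' * P' with hJdef
  have hJv : J.1 = 1 + nilPart d K := by
    rw [← hJ]
    have h := congrArg φ hP.eq
    rw [map_mul, map_mul] at h
    show (P'⁻¹).1 * u'.1 * P'.1 = _
    rw [mul_assoc]
    refine (Units.inv_mul_eq_iff_eq_mul P').2 ?_
    exact h.symm
  have hHv : H.1 = adjM σ P'.1 * P'.1 := by
    show φ (adj σ P.1 * P.1) = _
    rw [map_mul, hφadj]
    rfl
  have huu : adjM σ u'.1 * u'.1 = 1 := by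
    show adjM σ (φ u.1.1) * φ u.1.1 = 1
    rw [← hφadj, ← map_mul, (mem_GU_iff_adj hσq _).1 u.2, map_one]
  let D : Datum σ d :=
    { hd := hd, invol := hσ.invol, H := H, Ju := J, Ju_eq := hJv
      herm := by rw [hHv, adjM_mul, adjM_adjM hσ.invol]
      inv := by
        have hPP : adjM σ P'⁻¹.1 * adjM σ P'.1 = 1 := by rw [← adjM_mul, Units.mul_inv, adjM_one]
        rw [hHv, hJdef, Units.val_mul, Units.val_mul, adjM_mul, adjM_mul]
        calc adjM σ P'.1 * (adjM σ u'.1 * adjM σ P'⁻¹.1) * (adjM σ P'.1 * P'.1) * (P'⁻¹.1 * u'.1 * P'.1)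
            = adjM σ P'.1 * adjM σ u'.1 * (adjM σ P'⁻¹.1 * adjM σ P'.1) * (P'.1 * P'⁻¹.1) * u'.1 * P'.1 := by
              simp only [mul_assoc]
          _ = adjM σ P'.1 * P'.1 := by
              rw [hPP, Units.mul_inv, mul_one, mul_one, mul_assoc (adjM σ P'.1), huu, mul_one] }
  let G := {C : Matrix (Ix d) (Ix d) K // Commute C (nilPart d K) ∧ D.tau C * C = 1}
  have hiff : ∀ g : Matrix (Fin n) (Fin n) K,
      (Commute g u.1.1 ↔ Commute (P'⁻¹.1 * φ g * P'.1) (nilPart d K)) ∧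
      (adj σ g * g = 1 ↔ D.tau (P'⁻¹.1 * φ g * P'.1) * (P'⁻¹.1 * φ g * P'.1) = 1) := by
    intro g
    constructor
    · rw [D.commute_Ju]
      show _ ↔ Commute _ (P'⁻¹.1 * u'.1 * P'.1)
      have e1 : P'⁻¹.1 * φ g * P'.1 * (P'⁻¹.1 * u'.1 * P'.1) = P'⁻¹.1 * φ (g * u.1.1) * P'.1 := by
        rw [map_mul]; simp [mul_assoc, u', φu]
      have e2 : P'⁻¹.1 * u'.1 * P'.1 * (P'⁻¹.1 * φ g * P'.1) = P'⁻¹.1 * φ (u.1.1 * g) * P'.1 := by
        rw [map_mul]; simp [mul_assoc, u', φu]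
      rw [Commute, SemiconjBy, Commute, SemiconjBy, e1, e2, Units.mul_left_inj, Units.mul_right_inj,
        φ.injective.eq_iff]
    · have hPP : adjM σ P'⁻¹.1 * adjM σ P'.1 = 1 := by rw [← adjM_mul, Units.mul_inv, adjM_one]
      have e1 : D.tau (P'⁻¹.1 * φ g * P'.1) * (P'⁻¹.1 * φ g * P'.1)
          = H⁻¹.1 * (adjM σ P'.1 * φ (adj σ g * g) * P'.1) := by
        show H⁻¹.1 * adjM σ (P'⁻¹.1 * φ g * P'.1) * H.1 * _ = _
        rw [hHv, adjM_mul, adjM_mul, map_mul, hφadj]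
        calc H⁻¹.1 * (adjM σ P'.1 * (adjM σ (φ g) * adjM σ P'⁻¹.1)) * (adjM σ P'.1 * P'.1) *
              (P'⁻¹.1 * φ g * P'.1)
            = H⁻¹.1 * (adjM σ P'.1 * adjM σ (φ g) * (adjM σ P'⁻¹.1 * adjM σ P'.1) * (P'.1 * P'⁻¹.1) *
                φ g * P'.1) := by simp only [mul_assoc]
          _ = H⁻¹.1 * (adjM σ P'.1 * (adjM σ (φ g) * φ g) * P'.1) := by
              rw [hPP, Units.mul_inv, mul_one, mul_one, mul_assoc (adjM σ P'.1)]
      rw [e1, Units.inv_mul_eq_iff_eq_mul, mul_one, hHv, Units.mul_left_inj]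
      have hu' : IsUnit (adjM σ P'.1) := IsUnit.of_mul_eq_one_right _ hPP
      constructor
      · intro h; rw [h, map_one, mul_one]
      · intro h
        refine φ.injective (hu'.mul_left_cancel ?_)
        rw [h, map_one, mul_one]
  let E : ↥(Subgroup.centralizer ({u} : Set ↥(Cfsg.GU n K q))) ≃ G :=
    { toFun := fun g => ⟨P'⁻¹.1 * φ g.1.1.1 * P'.1,
        (hiff _).1.1 (congrArg (fun x : ↥(Cfsg.GU n K q) => x.1.1)
          (Subgroup.mem_centralizer_singleton_iff.1 g.2)),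
        (hiff _).2.1 ((mem_GU_iff_adj hσq _).1 g.1.2)⟩
      invFun := fun C =>
        have hC : φ.symm (P'.1 * C.1 * P'⁻¹.1) = φ.symm (P'.1 * C.1 * P'⁻¹.1) := rfl
        have key : Commute (φ.symm (P'.1 * C.1 * P'⁻¹.1)) u.1.1 ∧
            adj σ (φ.symm (P'.1 * C.1 * P'⁻¹.1)) * φ.symm (P'.1 * C.1 * P'⁻¹.1) = 1 := by
          have e : P'⁻¹.1 * φ (φ.symm (P'.1 * C.1 * P'⁻¹.1)) * P'.1 = C.1 := by
            rw [φ.apply_symm_apply]; simp [mul_assoc]
          exact ⟨(hiff _).1.2 (e.symm ▸ C.2.1), (hiff _).2.2 (e.symm ▸ C.2.2)⟩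
        ⟨⟨⟨φ.symm (P'.1 * C.1 * P'⁻¹.1), adj σ (φ.symm (P'.1 * C.1 * P'⁻¹.1)),
          mul_eq_one_comm.1 key.2, key.2⟩, (mem_GU_iff_adj hσq _).2 key.2⟩,
          Subgroup.mem_centralizer_singleton_iff.2 (Subtype.ext (Units.ext key.1.eq))⟩
      left_inv := fun g => Subtype.ext (Subtype.ext (Units.ext (by simp [mul_assoc])))
      right_inv := fun C => Subtype.ext (by simp [mul_assoc]) }
  rw [Nat.card_congr E]
  show ((Nat.card {C : Matrix (Ix d) (Ix d) K // Commute C (nilPart d K) ∧ D.tau C * C = 1} : ℕ) : ℤ) = _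
  rw [card_unit D hσ hσq hK, exponent hd, Nat.cast_mul, Nat.cast_pow, Nat.cast_prod]
  congr 1
  rw [Finset.prod_range]
  refine Finset.prod_congr rfl fun v _ => ?_
  rw [Fintype.card_subtype]
  exact card_GU_int hσ hσq hq (le_of_lt hq1)

end Cfsg.Agent.S2646
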