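import Cfsg.Statements.S2653
import Cfsg.Agent.AltSec.Reduce

set_option autoImplicit false
open scoped MatrixGroups
open Cfsg

namespace Cfsg.Agent.S2653

/-- Alternating sections of finite linear groups. Let `F` be a finite field of characteristic `p` and `n` a natural number, and suppose some subgroup `H` of GL_n(F) has a normal subgroup `K` with `H ⧸ K` isomorphic to the alternating group of degree `r ≥ 9`. Then `n ≥ r - 2` when `p` divides `r`, and `n ≥ r - 1` otherwise (the smallest degree of a nontrivial projective representation of that alternating group in characteristic `p`). The same bound follows for every classical group with natural module of dimension `n` over `F`, since each is a section of a subgroup of GL_n(F). -/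
theorem result {F : Type*} [Field F] [Fintype F] (p : ℕ) [Fact p.Prime] [CharP F p]
    (n : ℕ) (r : ℕ) (H : Subgroup (GL (Fin n) F)) (K : Subgroup ↥H) [K.Normal]
    (h : Nonempty (↥H ⧸ K ≃* ↥(alternatingGroup (Fin r)))) (hr : 9 ≤ r) :
    r - 1 - (if p ∣ r then 1 else 0) ≤ n := by
  letI : Algebra (ZMod p) F := ZMod.algebra F p
  let k := AlgebraicClosure (ZMod p)
  haveI : CharP k p := charP_of_injective_algebraMap (algebraMap (ZMod p) k).injective p
  haveI : Algebra.IsAlgebraic (ZMod p) F := Algebra.IsAlgebraic.of_finite (ZMod p) F
  let ψ : F →ₐ[ZMod p] k := IsAlgClosed.lift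
  obtain ⟨e⟩ := h
  let f : ↥H →* Cfsg.Agent.AltSec.GV k (Fin n → k) :=
    (Matrix.GeneralLinearGroup.toLin.toMonoidHom.comp
      (Matrix.GeneralLinearGroup.map ψ.toRingHom)).comp H.subtype
  have hf : Function.Injective f :=
    (Matrix.GeneralLinearGroup.toLin (n := Fin n) (R := k)).injective.comp
      ((Units.map_injective (f := (ψ.toRingHom.mapMatrix (m := Fin n)).toMonoidHom)
        (Matrix.map_injective ψ.toRingHom.injective)).comp Subtype.val_injective)
  let φ : ↥H →* ↥(alternatingGroup (Fin r)) := e.toMonoidHom.comp (QuotientGroup.mk' K)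
  have hφ : Function.Surjective φ := e.surjective.comp (QuotientGroup.mk'_surjective K)
  have hker : f.ker ≤ φ.ker := by
    rw [(MonoidHom.ker_eq_bot_iff f).2 hf]; exact bot_le
  obtain ⟨h1, h2⟩ := Cfsg.Agent.AltSec.sec_apply (Cfsg.Agent.AltSec.sec_bound hr n) (k := k)
    (V := Fin n → k) (Module.finrank_fin_fun k) f φ hφ hker
  split_ifs with hp
  · omega
  · have := h2 (fun h0 => hp ((CharP.cast_eq_zero_iff k p r).1 h0))
    omega

end Cfsg.Agent.S2653
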