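import Cfsg.Statements.S2655
import Cfsg.Agent.AltSec.E7.Seven
import Cfsg.Agent.AltSec.E7.Five

set_option autoImplicit false
open scoped MatrixGroups
open Cfsg

namespace Cfsg.Agent.S2655

open Cfsg.Agent.AltSec

universe u v

/-- A surjection onto an alternating group restricts to one onto a smaller one. -/
theorem exists_restrict {G : Type u} [Group G] (H : Subgroup G) {m r : ℕ} (h : m ≤ r)
    (φ : ↥H →* ↥(alternatingGroup (Fin r))) (hφ : Function.Surjective φ) :
    ∃ (H' : Subgroup G) (ψ : ↥H' →* ↥(alternatingGroup (Fin m))), Function.Surjective ψ := by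
  classical
  set ι := TorusAlt.embAlt h
  set e := MonoidHom.ofInjective (TorusAlt.embAlt_injective h)
  set H' : Subgroup ↥H := ι.range.comap φ with hH'
  let ψ : ↥H' →* ↥(alternatingGroup (Fin m)) :=
    e.symm.toMonoidHom.comp ((φ.comp H'.subtype).codRestrict ι.range fun x => x.2)
  have hψ : Function.Surjective ψ := fun y => by
    obtain ⟨x, hx⟩ := hφ (ι y)
    refine ⟨⟨x, by rw [hH', Subgroup.mem_comap, hx]; exact ⟨y, rfl⟩⟩, ?_⟩
    refine e.injective (Subtype.ext ?_)
    simp only [ψ, MonoidHom.comp_apply, MulEquiv.coe_toMonoidHom, MulEquiv.apply_symm_apply]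
    exact hx
  exact ⟨H'.map H.subtype,
    ψ.comp (H'.equivMapOfInjective _ H.subtype_injective).symm.toMonoidHom,
    hψ.comp (MulEquiv.surjective _)⟩

/-- Alternating sections of the groups of type E₇. Let `F` be a finite field of characteristic `p` and let `G` be the Chevalley group of type E₇ over `F`. If some subgroup of `G` has a quotient isomorphic to the alternating group of degree `r`, then `r` is at most 13, or 14 in characteristic 7. (Only an upper bound is asserted.) -/
theorem result {F : Type*} [Field F] [Fintype F] (p : ℕ) [Fact p.Prime] [CharP F p]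
    (r : ℕ) (H : Subgroup ↥(Cfsg.Lie.chevE7.group F)) (K : Subgroup ↥H) [K.Normal]
    (h : Nonempty (↥H ⧸ K ≃* ↥(alternatingGroup (Fin r)))) :
    r ≤ 13 + (if p = 7 then 1 else 0) := by
  by_contra hlt
  obtain ⟨f⟩ := h
  have hsur : Function.Surjective (f.toMonoidHom.comp (QuotientGroup.mk' K)) :=
    f.surjective.comp (QuotientGroup.mk'_surjective K)
  by_cases hp : p = 7
  · rw [if_pos hp] at hlt
    obtain ⟨H', ψ, hψ⟩ := exists_restrict H (show 15 ≤ r by omega) _ hsur
    exact E7.Data5.no_alt15 p (by omega) H' ψ hψ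
  · rw [if_neg hp] at hlt
    obtain ⟨H', ψ, hψ⟩ := exists_restrict H (show 14 ≤ r by omega) _ hsur
    exact E7.Data7.no_alt14 p hp H' ψ hψ

end Cfsg.Agent.S2655
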