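import Cfsg.Statements.S2657
import Cfsg.Agent.AltSec.TorusAlt
import Cfsg.Agent.AltSec.TorusData

set_option autoImplicit false
open scoped MatrixGroups
open Cfsg

namespace Cfsg.Agent.S2657

open Cfsg.Agent.AltSec

/-- An 11-cycle. -/
def x11 : alternatingGroup (Fin 11) :=
  TorusAlt.mkAlt (fun i => ⟨((i : ℕ) + 1) % 11, Nat.mod_lt _ (by norm_num)⟩)
    (fun i => ⟨((i : ℕ) + 10) % 11, Nat.mod_lt _ (by norm_num)⟩) (by decide) (by decide)
    (by decide +kernel)

/-- An element cubing the 11-cycle. -/
def b11 : alternatingGroup (Fin 11) :=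
  TorusAlt.mkAlt (fun i => ⟨(3 * (i : ℕ)) % 11, Nat.mod_lt _ (by norm_num)⟩)
    (fun i => ⟨(4 * (i : ℕ)) % 11, Nat.mod_lt _ (by norm_num)⟩) (by decide) (by decide)
    (by decide +kernel)

/-- A permutation of cycle type `7 + 5`. -/
def x35 : alternatingGroup (Fin 12) :=
  TorusAlt.mkAlt
    (fun i => if (i : ℕ) < 5 then ⟨((i : ℕ) + 1) % 5, by omega⟩
      else ⟨5 + ((i : ℕ) - 5 + 1) % 7, by omega⟩)
    (fun i => if (i : ℕ) < 5 then ⟨((i : ℕ) + 4) % 5, by omega⟩
      else ⟨5 + ((i : ℕ) - 5 + 6) % 7, by omega⟩) (by decide) (by decide)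
    (by decide +kernel)

/-- An element raising it to the power 17. -/
def b35 : alternatingGroup (Fin 12) :=
  TorusAlt.mkAlt
    (fun i => if (i : ℕ) < 5 then ⟨(2 * (i : ℕ)) % 5, by omega⟩
      else ⟨5 + (3 * ((i : ℕ) - 5)) % 7, by omega⟩)
    (fun i => if (i : ℕ) < 5 then ⟨(3 * (i : ℕ)) % 5, by omega⟩
      else ⟨5 + (5 * ((i : ℕ) - 5)) % 7, by omega⟩) (by decide) (by decide)
    (by decide +kernel)

theorem orderOf_x11 : orderOf x11 = 11 := by
  haveI : Fact (Nat.Prime 11) := ⟨by norm_num⟩
  exact orderOf_eq_prime (by decide +kernel) (by decide +kernel)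

theorem orderOf_x35 : orderOf x35 = 5 * 7 := by
  have h : orderOf x35 ∣ 35 := orderOf_dvd_of_pow_eq_one (by decide +kernel)
  have h5 : ¬ orderOf x35 ∣ 5 := fun hd =>
    absurd (orderOf_dvd_iff_pow_eq_one.1 hd) (by decide +kernel)
  have h7 : ¬ orderOf x35 ∣ 7 := fun hd =>
    absurd (orderOf_dvd_iff_pow_eq_one.1 hd) (by decide +kernel)
  have hle : orderOf x35 ≤ 35 := Nat.le_of_dvd (by norm_num) h
  generalize orderOf x35 = n at h h5 h7 hle
  interval_cases n <;> omega

/-- Alternating sections of the groups of type F₄. Let `F` be a finite field of characteristic `p` and let `G` be the Chevalley group of type F₄ over `F`. If some subgroup of `G` has a quotient isomorphic to the alternating group of degree `r`, then `r` is at most 10, or 11 in characteristic 11. (Only an upper bound is asserted.) -/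
theorem result {F : Type*} [Field F] [Fintype F] (p : ℕ) [Fact p.Prime] [CharP F p]
    (r : ℕ) (H : Subgroup ↥(Cfsg.Lie.chevF4.group F)) (K : Subgroup ↥H) [K.Normal]
    (h : Nonempty (↥H ⧸ K ≃* ↥(alternatingGroup (Fin r)))) :
    r ≤ 10 + (if p = 11 then 1 else 0) := by
  by_contra hlt
  by_cases hp : p = 11
  · rw [if_pos hp] at hlt
    exact TorusAlt.false_of_two Chev.facts_chevF4 TorusData.f4 TorusData.f4_valid
      TorusData.f4_rowsOK p (j := 17) (show Nat.Prime 5 by norm_num) (show Nat.Prime 7 by norm_num)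
      (by norm_num) TorusData.f4_test_thirtyfive (by decide) (by subst hp; norm_num) (by norm_num)
      (show 12 ≤ r by omega) x35 b35 orderOf_x35
      (Nat.Coprime.coprime_dvd_right (orderOf_dvd_of_pow_eq_one (n := 12) (by decide +kernel))
        (by norm_num))
      (by decide +kernel) H K h
  · rw [if_neg hp] at hlt
    exact TorusAlt.false_of_prime Chev.facts_chevF4 TorusData.f4 TorusData.f4_valid
      TorusData.f4_rowsOK p (j := 3) (show Nat.Prime 11 by norm_num)
      TorusData.f4_test_eleven (by decide) hp (by norm_num)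
      (show 11 ≤ r by omega) x11 b11 orderOf_x11
      (Nat.Coprime.coprime_dvd_right (orderOf_dvd_of_pow_eq_one (n := 5) (by decide +kernel))
        (by norm_num))
      (by decide +kernel) H K h

end Cfsg.Agent.S2657
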