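import Cfsg.Statements.S2658
import Cfsg.Agent.AltSec.TorusData
import Cfsg.Agent.AltSec.G2Eight

set_option autoImplicit false
open scoped MatrixGroups
open Cfsg

namespace Cfsg.Agent.S2658

open Cfsg.Agent.AltSec

/-- A 5-cycle in seven points. -/
def x5 : alternatingGroup (Fin 7) :=
  TorusAlt.mkAlt
    (fun i => if (i : ℕ) < 5 then ⟨((i : ℕ) + 1) % 5, by omega⟩ else i)
    (fun i => if (i : ℕ) < 5 then ⟨((i : ℕ) + 4) % 5, by omega⟩ else i) (by decide) (by decide)
    (by decide +kernel)

/-- An element squaring the 5-cycle. -/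
def b5 : alternatingGroup (Fin 7) :=
  TorusAlt.mkAlt
    (fun i => if (i : ℕ) < 5 then ⟨(2 * (i : ℕ)) % 5, by omega⟩
      else ⟨5 + ((i : ℕ) - 5 + 1) % 2, by omega⟩)
    (fun i => if (i : ℕ) < 5 then ⟨(3 * (i : ℕ)) % 5, by omega⟩
      else ⟨5 + ((i : ℕ) - 5 + 1) % 2, by omega⟩) (by decide) (by decide)
    (by decide +kernel)

theorem orderOf_x5 : orderOf x5 = 5 := by
  haveI : Fact (Nat.Prime 5) := ⟨by norm_num⟩
  exact orderOf_eq_prime (by decide +kernel) (by decide +kernel)

/-- Alternating sections of the groups of type G₂. Let `F` be a finite field of characteristic `p` and let `G` be the Chevalley group of type G₂ over `F`. If some subgroup of `G` has a quotient isomorphic to the alternating group of degree `r`, then `r` is at most 6, or 7 in characteristic 5. (Only an upper bound is asserted.) -/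
theorem result {F : Type*} [Field F] [Fintype F] (p : ℕ) [Fact p.Prime] [CharP F p]
    (r : ℕ) (H : Subgroup ↥(Cfsg.Lie.chevG2.group F)) (K : Subgroup ↥H) [K.Normal]
    (h : Nonempty (↥H ⧸ K ≃* ↥(alternatingGroup (Fin r)))) :
    r ≤ 6 + (if p = 5 then 1 else 0) := by
  by_contra hlt
  by_cases hp : p = 5
  · rw [if_pos hp] at hlt
    subst hp
    obtain ⟨f⟩ := h
    have h8 : 8 ≤ r := by omega
    set φ : ↥H →* ↥(alternatingGroup (Fin r)) := f.toMonoidHom.comp (QuotientGroup.mk' K) with hφ
    have hsur : Function.Surjective φ := f.surjective.comp (QuotientGroup.mk'_surjective K)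
    set ι := TorusAlt.embAlt h8
    set e := MonoidHom.ofInjective (TorusAlt.embAlt_injective h8)
    set H' : Subgroup ↥H := ι.range.comap φ with hH'
    let ψ : ↥H' →* ↥(alternatingGroup (Fin 8)) :=
      e.symm.toMonoidHom.comp ((φ.comp H'.subtype).codRestrict ι.range fun x => x.2)
    have hψ : Function.Surjective ψ := fun a => by
      obtain ⟨x, hx⟩ := hsur (ι a)
      refine ⟨⟨x, by rw [hH', Subgroup.mem_comap, hx]; exact ⟨a, rfl⟩⟩, ?_⟩
      refine e.injective (Subtype.ext ?_)
      simp only [ψ, MonoidHom.comp_apply, MulEquiv.coe_toMonoidHom, MulEquiv.apply_symm_apply]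
      exact hx
    refine G2Eight.not_alt8 (H'.map H.subtype)
      (ψ.comp (H'.equivMapOfInjective _ H.subtype_injective).symm.toMonoidHom) ?_
    exact hψ.comp (MulEquiv.surjective _)
  · rw [if_neg hp] at hlt
    exact TorusAlt.false_of_prime Chev.facts_chevG2 TorusData.g2 TorusData.g2_valid
      TorusData.g2_rowsOK p (j := 2) (show Nat.Prime 5 by norm_num)
      TorusData.g2_test_five (by decide) hp (by norm_num)
      (show 7 ≤ r by omega) x5 b5 orderOf_x5
      (Nat.Coprime.coprime_dvd_right (orderOf_dvd_of_pow_eq_one (n := 4) (by decide +kernel))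
        (by norm_num))
      (by decide +kernel) H K h

end Cfsg.Agent.S2658
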