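import Cfsg.Statements.S2660
import Cfsg.Agent.AltSec.D4Eight

set_option autoImplicit false
open scoped MatrixGroups
open Cfsg

namespace Cfsg.Agent.S2660

open Cfsg.Agent.AltSec

/-- A 5-cycle in seven points. -/
def x5 : alternatingGroup (Fin 7) :=
  TorusAlt.mkAlt
    (fun i => if (i : ℕ) < 5 then ⟨((i : ℕ) + 1) % 5, by omega⟩ else i)
    (fun i => if (i : ℕ) < 5 then ⟨((i : ℕ) + 4) % 5, by omega⟩ else i) (by decide) (by decide)
    (by decide +kernel)

/-- An element squaring the 5-cycle. -/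
def b5 : alternatingGroup (Fin 7) :=
  TorusAlt.mkAlt
    (fun i => if (i : ℕ) < 5 then ⟨(2 * (i : ℕ)) % 5, by omega⟩
      else ⟨5 + ((i : ℕ) - 5 + 1) % 2, by omega⟩)
    (fun i => if (i : ℕ) < 5 then ⟨(3 * (i : ℕ)) % 5, by omega⟩
      else ⟨5 + ((i : ℕ) - 5 + 1) % 2, by omega⟩) (by decide) (by decide)
    (by decide +kernel)

theorem orderOf_x5 : orderOf x5 = 5 := by
  haveI : Fact (Nat.Prime 5) := ⟨by norm_num⟩
  exact orderOf_eq_prime (by decide +kernel) (by decide +kernel)

theorem units_five : ∀ r < 5, r ≠ 0 → ∃ e, e < 4 ∧ r = 2 ^ e % 5 := by decide +kernel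

theorem rval_zero_five : ∀ r : Fin 24, D4Twist.rval 5 ![0, 0, 0, 0] r = 0 := by decide +kernel

/-- Alternating sections of the triality-twisted groups ³D₄. Let `q = p^a` be a prime power and `K` a field with `q³` elements, and let `G` be the twisted group ³D₄(q) realised over `K`. If some subgroup of `G` has a quotient isomorphic to the alternating group of degree `r`, then `r` is at most 6, or 7 in characteristic 5. (Only an upper bound is asserted.) -/
theorem result {K : Type*} [Field K] [Fintype K] (p a : ℕ) [Fact p.Prime] [CharP K p]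
    (ha : 1 ≤ a) (hK : Fintype.card K = (p ^ a) ^ 3) (r : ℕ) (H : Subgroup ↥(Cfsg.Lie.twistedD4 K (p ^ a))) (N : Subgroup ↥H) [N.Normal]
    (h : Nonempty (↥H ⧸ N ≃* ↥(alternatingGroup (Fin r)))) :
    r ≤ 6 + (if p = 5 then 1 else 0) := by
  classical
  by_contra hlt
  obtain ⟨f⟩ := h
  set φ : ↥H →* ↥(alternatingGroup (Fin r)) := f.toMonoidHom.comp (QuotientGroup.mk' N) with hφ
  have hsur : Function.Surjective φ := f.surjective.comp (QuotientGroup.mk'_surjective N)
  by_cases hp : p = 5
  · rw [if_pos hp] at hlt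
    subst hp
    have h8 : 8 ≤ r := by omega
    set ι := TorusAlt.embAlt h8
    set e := MonoidHom.ofInjective (TorusAlt.embAlt_injective h8)
    set H' : Subgroup ↥H := ι.range.comap φ with hH'
    let ψ : ↥H' →* ↥(alternatingGroup (Fin 8)) :=
      e.symm.toMonoidHom.comp ((φ.comp H'.subtype).codRestrict ι.range fun x => x.2)
    have hψ : Function.Surjective ψ := fun y => by
      obtain ⟨x, hx⟩ := hsur (ι y)
      refine ⟨⟨x, by rw [hH', Subgroup.mem_comap, hx]; exact ⟨y, rfl⟩⟩, ?_⟩
      refine e.injective (Subtype.ext ?_)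
      simp only [ψ, MonoidHom.comp_apply, MulEquiv.coe_toMonoidHom, MulEquiv.apply_symm_apply]
      exact hx
    refine D4Eight.not_alt8 a ha hK (H'.map H.subtype)
      (ψ.comp (H'.equivMapOfInjective _ H.subtype_injective).symm.toMonoidHom) ?_
    exact hψ.comp (MulEquiv.surjective _)
  · rw [if_neg hp] at hlt
    have h7 : 7 ≤ r := by omega
    obtain ⟨s, b, hs, hbs⟩ := TorusLift.exists_lift_prime hsur (x := TorusAlt.embAlt h7 x5)
      (b₀ := TorusAlt.embAlt h7 b5) (j := 2) (show Nat.Prime 5 by norm_num)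
      (by rw [orderOf_injective _ (TorusAlt.embAlt_injective h7), orderOf_x5])
      (by rw [orderOf_injective _ (TorusAlt.embAlt_injective h7)]
          exact Nat.Coprime.coprime_dvd_right
            (orderOf_dvd_of_pow_eq_one (n := 4) (by decide +kernel)) (by norm_num))
      (by rw [← map_inv, ← map_mul, ← map_mul,
            show b5 * x5 * b5⁻¹ = x5 ^ 2 by decide +kernel, map_pow])
    obtain ⟨σ, ι, hσ, hι, hmem, hfix⟩ := D4Twist.exists_frob_fix p a ha hK
    haveI : CharP (AlgebraicClosure K) p :=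
      charP_of_injective_algebraMap (algebraMap K (AlgebraicClosure K)).injective p
    set τ := ι.comp H.subtype with hτ
    have h5k : ((5 : ℕ) : AlgebraicClosure K) ≠ 0 := fun h => hp
      ((Nat.prime_dvd_prime_iff_eq Fact.out (by norm_num)).1
        ((CharP.cast_eq_zero_iff (AlgebraicClosure K) p 5).1 h))
    obtain ⟨e, -, he⟩ := units_five (p ^ a % 5) (Nat.mod_lt _ (by norm_num)) fun h0 => hp
      ((Nat.prime_dvd_prime_iff_eq (by norm_num) Fact.out).1
        ((show Nat.Prime 5 by norm_num).dvd_of_dvd_pow (Nat.dvd_of_mod_eq_zero h0))).symm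
    obtain ⟨v, ζ, y, c, hv, hadm, hζ, hy, hc, hval⟩ := D4Twist.exists_point p (p ^ a) σ hσ
      (N := 5) (j := 2) (by norm_num) h5k (by decide) ⟨e, Or.inl he⟩ (hmem (H.subtype s))
      (hmem (H.subtype b))
      (by show τ s ^ 5 = 1; rw [← map_pow, ← hs, pow_orderOf_eq_one, map_one])
      (hfix (H.subtype s))
      (by show τ b * τ s * (τ b)⁻¹ = τ s ^ 2; rw [← map_inv, ← map_mul, ← map_mul, hbs, map_pow])
    obtain ⟨h0, h1, h2, h3⟩ := D4Twist.five_check ⟨v 0, hv 0⟩ ⟨v 1, hv 1⟩ ⟨v 2, hv 2⟩ ⟨v 3, hv 3⟩ (by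
      have : ![v 0, v 1, v 2, v 3] = v := by funext i; fin_cases i <;> rfl
      simpa [this] using hadm)
    have hv0 : v = ![0, 0, 0, 0] := by
      funext i
      fin_cases i
      exacts [congrArg Fin.val h0, congrArg Fin.val h1, congrArg Fin.val h2, congrArg Fin.val h3]
    have h := (Cfsg.Agent.Chev.torusHom_eq_one_iff c).2 fun w => by
      refine (hval w).trans ?_
      rw [hv0]
      exact (congrArg (ζ ^ ·) (rval_zero_five w)).trans (pow_zero _)
    rw [← hc, mul_inv_eq_one, mul_eq_left] at h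
    have hs1 : s = 1 := (hι.comp H.subtype_injective) (by
      show τ s = τ 1
      rw [map_one]; exact h)
    rw [hs1, orderOf_one] at hs
    norm_num at hs

end Cfsg.Agent.S2660
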