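import Cfsg.Statements.S2661
import Cfsg.Agent.AltSec.TorusAlt
import Cfsg.Agent.Chev.ReeF4.Stmts

set_option autoImplicit false
open scoped MatrixGroups
open Cfsg

namespace Cfsg.Agent.S2661

open Cfsg.Lie Cfsg.Agent.Chev Cfsg.Agent.AltSec

universe u

/-- A 7-cycle. -/
def x7 : alternatingGroup (Fin 7) :=
  TorusAlt.mkAlt (fun i => ⟨((i : ℕ) + 1) % 7, Nat.mod_lt _ (by norm_num)⟩)
    (fun i => ⟨((i : ℕ) + 6) % 7, Nat.mod_lt _ (by norm_num)⟩) (by decide) (by decide)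
    (by decide +kernel)

/-- An element squaring the 7-cycle. -/
def b7 : alternatingGroup (Fin 7) :=
  TorusAlt.mkAlt (fun i => ⟨(2 * (i : ℕ)) % 7, Nat.mod_lt _ (by norm_num)⟩)
    (fun i => ⟨(4 * (i : ℕ)) % 7, Nat.mod_lt _ (by norm_num)⟩) (by decide) (by decide)
    (by decide +kernel)

theorem orderOf_x7 : orderOf x7 = 7 := by
  haveI : Fact (Nat.Prime 7) := ⟨by norm_num⟩
  exact orderOf_eq_prime (by decide +kernel) (by decide +kernel)

/-- The exponent of a root at the torus element with exponents `i`, `j`. -/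
def rootExp (i j : ℕ) (r : ℕ) : ℕ :=
  ((((2 * i : ℕ) : ℤ) * chevF4.cartan 0 r + ((2 * j : ℕ) : ℤ) * chevF4.cartan 1 r +
    (j : ℤ) * chevF4.cartan 2 r + (i : ℤ) * chevF4.cartan 3 r) % 7).toNat

/-- No exponent pattern is invariant under doubling. -/
theorem rootExp_check : ∀ i : Fin 7, ∀ j : Fin 7, ((i : ℕ) ≠ 0 ∨ (j : ℕ) ≠ 0) →
    ∃ t : Fin 7, (List.range chevF4.nroots).countP (fun r => rootExp i j r == (t : ℕ)) ≠
      (List.range chevF4.nroots).countP (fun r => rootExp i j r == 2 * (t : ℕ) % 7) := by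
  decide +kernel

theorem countP_range_eq_card (n : ℕ) (p : ℕ → Bool) :
    (List.range n).countP p = (Finset.univ.filter fun i : Fin n => p (i : ℕ) = true).card := by
  rw [← TorusTest.countP_ofFn]
  congr 1
  exact List.ext_getElem (by simp) fun k h1 h2 => by simp

/-- A torus element of order 7 of `²F₄` is not conjugate to its square. -/
theorem torus_not_conj {K : Type u} [Field K] [CharP K 2] {m : ℕ} (hm2 : 2 ^ m % 7 = 2)
    {g b : GL chevF4.Idx K} (hg : g ∈ ReeF4.T1 K m) (hb : b ∈ chevF4.group K) (h7 : g ^ 7 = 1)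
    (hne : g ≠ 1) (hbg : b * g * b⁻¹ = g ^ 2) : False := by
  classical
  obtain ⟨⟨a₁, a₂⟩, rfl⟩ := hg
  have hp : ((a₁, a₂) : Kˣ × Kˣ) ^ 7 = 1 :=
    ReeF4.tor_injective (m := m) (by rw [map_pow, h7, map_one])
  have ha₁ : a₁ ^ 7 = 1 := congrArg Prod.fst hp
  have ha₂ : a₂ ^ 7 = 1 := congrArg Prod.snd hp
  obtain ⟨ζ, hζo⟩ : ∃ ζ : Kˣ, orderOf ζ = 7 := by
    haveI : Fact (Nat.Prime 7) := ⟨by norm_num⟩
    by_cases h1 : a₁ = 1
    · by_cases h2 : a₂ = 1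
      · subst h1 h2; exact absurd (map_one (ReeF4.tor (K := K) m)) hne
      · exact ⟨a₂, orderOf_eq_prime ha₂ h2⟩
    · exact ⟨a₁, orderOf_eq_prime ha₁ h1⟩
  have hζ : IsPrimitiveRoot ζ 7 := hζo ▸ IsPrimitiveRoot.orderOf ζ
  have hlog : ∀ a : Kˣ, a ^ 7 = 1 → ∃ i : Fin 7, ζ ^ (i : ℕ) = a := fun a ha => by
    have hζ' : IsPrimitiveRoot (ζ : K) 7 := IsPrimitiveRoot.coe_units_iff.2 hζ
    obtain ⟨i, hi, e⟩ := hζ'.eq_pow_of_pow_eq_one (ξ := (a : K))
      (by rw [← Units.val_pow_eq_pow_val, ha]; rfl)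
    exact ⟨⟨i, hi⟩, Units.ext (by rw [Units.val_pow_eq_pow_val, e])⟩
  obtain ⟨i, rfl⟩ := hlog a₁ ha₁
  obtain ⟨j, rfl⟩ := hlog a₂ ha₂
  have hij : (i : ℕ) ≠ 0 ∨ (j : ℕ) ≠ 0 := by
    by_contra hc
    push Not at hc
    refine hne ?_
    rw [show ((ζ ^ (i : ℕ), ζ ^ (j : ℕ)) : Kˣ × Kˣ) = 1 by rw [hc.1, hc.2, pow_zero]; rfl, map_one]
  set c : Fin chevF4.rank → Kˣ := ReeF4.tv (Units.map (ReeF4.th K m).toMonoidHom (ζ ^ (i : ℕ)))
    (Units.map (ReeF4.th K m).toMonoidHom (ζ ^ (j : ℕ))) (ζ ^ (j : ℕ)) (ζ ^ (i : ℕ)) with hc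
  have hbg' : b * (torusHom c : GL chevF4.Idx K) * b⁻¹ = torusHom c ^ 2 := hbg
  have hth : ∀ a : Kˣ, a ^ 7 = 1 → Units.map (ReeF4.th K m).toMonoidHom a = a ^ 2 := fun a ha => by
    apply Units.ext
    rw [Units.coe_map, Units.val_pow_eq_pow_val]
    show ReeF4.th K m (a : K) = _
    rw [ReeF4.th_apply, ← Units.val_pow_eq_pow_val, pow_eq_pow_mod _ ha, hm2,
      Units.val_pow_eq_pow_val]
  have hchi : ∀ r : Fin chevF4.nroots, chiU c (r : ℕ) = ζ ^ rootExp i j r := by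
    intro r
    have h7' : ∀ k : ℕ, (ζ ^ k) ^ 7 = 1 := fun k => by
      rw [← pow_mul, mul_comm, pow_mul, hζ.pow_eq_one, one_pow]
    have e : chiU c (r : ℕ) = ζ ^ ((((2 * (i : ℕ) : ℕ) : ℤ) * chevF4.cartan 0 r +
        ((2 * (j : ℕ) : ℕ) : ℤ) * chevF4.cartan 1 r + ((j : ℕ) : ℤ) * chevF4.cartan 2 r +
        ((i : ℕ) : ℤ) * chevF4.cartan 3 r)) := by
      show ∏ l : Fin 4, c l ^ chevF4.cartan l r = _
      rw [Fin.prod_univ_four, zpow_add, zpow_add, zpow_add, zpow_mul, zpow_mul, zpow_mul, zpow_mul,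
        zpow_natCast, zpow_natCast, zpow_natCast, zpow_natCast]
      rw [mul_comm 2 (i : ℕ), mul_comm 2 (j : ℕ), pow_mul, pow_mul, ← hth _ (h7' _),
        ← hth _ (h7' _)]
      rfl
    rw [e, rootExp, ← zpow_natCast, TorusTest.zpow_iff hζ]
    change (7 : ℤ) ∣ _
    rw [Int.toNat_of_nonneg (Int.emod_nonneg _ (by norm_num : (7 : ℤ) ≠ 0))]
    exact Int.dvd_self_sub_of_emod_eq rfl
  obtain ⟨-, -, -, -, -, w, -, hw⟩ := SS.exists_decomp facts_chevF4 (c₁ := c ^ 2) (c₂ := c)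
    (g := b) hb (by rw [map_pow, ← hbg']; group)
  obtain ⟨t, ht⟩ := rootExp_check i j hij
  refine ht ?_
  rw [countP_range_eq_card, countP_range_eq_card]
  simp only [beq_iff_eq]
  have key : ∀ (r : Fin chevF4.nroots) (s : ℕ), s < 7 →
      (rootExp i j r = s ↔ chiU c (r : ℕ) = ζ ^ s) := fun r s hs => by
    rw [hchi]
    refine ⟨fun e => by rw [e], fun e => hζ.pow_inj ?_ hs e⟩
    have h0 : (0 : ℤ) < 7 := by norm_num
    rw [rootExp]
    have h1 := Int.emod_lt_of_pos ((((2 * (i : ℕ) : ℕ) : ℤ) * chevF4.cartan 0 r +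
        ((2 * (j : ℕ) : ℕ) : ℤ) * chevF4.cartan 1 r + ((j : ℕ) : ℤ) * chevF4.cartan 2 r +
        ((i : ℕ) : ℤ) * chevF4.cartan 3 r)) h0
    exact (Int.toNat_lt' (by norm_num)).2 h1
  refine (Finset.card_equiv (pWord facts_chevF4 w) fun r => ?_).symm
  simp only [Finset.mem_filter, Finset.mem_univ, true_and]
  rw [key _ _ (Nat.mod_lt _ (by norm_num)), key _ _ t.2, ← pow_eq_pow_mod _ hζ.pow_eq_one, ← hw r,
    TorusTest.chiU_pow', mul_comm 2 (t : ℕ), pow_mul]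
  have hsq : ∀ z : Kˣ, z ^ 7 = 1 → (z ^ 2) ^ 4 = z := fun z hz => by
    rw [← pow_mul, show 2 * 4 = 7 + 1 from rfl, pow_succ, hz, one_mul]
  have hr7 : chiU c (pWord facts_chevF4 w r : ℕ) ^ 7 = 1 := by
    rw [hchi, ← pow_mul, mul_comm, pow_mul, hζ.pow_eq_one, one_pow]
  constructor
  · intro e
    rw [← hsq _ hr7, e, hsq _ (by rw [← pow_mul, mul_comm, pow_mul, hζ.pow_eq_one, one_pow])]
  · intro e; rw [e]

theorem seven_not_dvd {q : ℕ} (hq : q % 7 = 2 ∨ q % 7 = 4) :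
    ¬ 7 ∣ q ^ 12 * (q - 1) * (q ^ 3 + 1) * (q ^ 4 - 1) * (q ^ 6 + 1) := by
  have h4 : 1 ≤ q ^ 4 := Nat.one_le_pow _ _ (by omega)
  have hq1 : 1 ≤ q := by omega
  have key : ((q ^ 12 * (q - 1) * (q ^ 3 + 1) * (q ^ 4 - 1) * (q ^ 6 + 1) : ℕ) : ZMod 7) ≠ 0 := by
    push_cast [Nat.cast_sub h4, Nat.cast_sub hq1]
    have e : (q : ZMod 7) = ((q % 7 : ℕ) : ZMod 7) := (ZMod.natCast_mod q 7).symm
    rw [e]
    rcases hq with h | h <;> rw [h] <;> decide
  exact fun h => key ((ZMod.natCast_eq_zero_iff _ _).2 h)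

/-- Alternating sections of the large Ree groups ²F₄. Let `m ≥ 1`, let `K` be a field with `2^(2m+1)` elements and let `G` be the large Ree group ²F₄(2^(2m+1)) realised over `K`. If some subgroup of `G` has a quotient isomorphic to the alternating group of degree `r`, then `r ≤ 6`. (Only an upper bound is asserted.) -/
theorem result {K : Type*} [Field K] [Fintype K] {m : ℕ} (hm : 1 ≤ m)
    (hK : Fintype.card K = 2 ^ (2 * m + 1)) (r : ℕ) (H : Subgroup ↥(Cfsg.Lie.twistedF4 K (2 ^ m))) (N : Subgroup ↥H) [N.Normal]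
    (h : Nonempty (↥H ⧸ N ≃* ↥(alternatingGroup (Fin r)))) :
    r ≤ 6 := by
  classical
  haveI : CharP K 2 := ReeF4.charP_two hK
  by_contra hr
  obtain ⟨f⟩ := h
  have hφ : Function.Surjective (f.toMonoidHom.comp (QuotientGroup.mk' N)) :=
    f.surjective.comp (QuotientGroup.mk'_surjective N)
  have h7r : 7 ≤ r := by omega
  haveI : Finite ↥(twistedF4 K (2 ^ m)) := inferInstance
  obtain ⟨s, b, hs, hbs⟩ := TorusLift.exists_lift_prime hφ (x := TorusAlt.embAlt h7r x7)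
    (b₀ := TorusAlt.embAlt h7r b7) (show Nat.Prime 7 by norm_num)
    (by rw [orderOf_injective _ (TorusAlt.embAlt_injective h7r), orderOf_x7])
    (by rw [orderOf_injective _ (TorusAlt.embAlt_injective h7r)]
        exact Nat.Coprime.coprime_dvd_right (orderOf_dvd_of_pow_eq_one (n := 3) (by decide +kernel))
          (by norm_num))
    (show _ = TorusAlt.embAlt h7r x7 ^ 2 by
      rw [← map_inv, ← map_mul, ← map_mul, ← map_pow]
      exact congrArg _ (by decide +kernel))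
  set s' : ↥(twistedF4 K (2 ^ m)) := (s : ↥(twistedF4 K (2 ^ m))) with hs'
  have hs'o : orderOf s' = 7 := by rw [hs', Subgroup.orderOf_coe, hs]
  set q := 2 ^ (2 * m + 1) with hq
  have hcard := ReeF4.card_formula hK
  have hdvd : 7 ∣ Nat.card ↥(twistedF4 K (2 ^ m)) := hs'o ▸ orderOf_dvd_natCard s'
  -- the order is divisible by 7 only when `q ≡ 1 (mod 7)`
  have hm3 : 2 ^ m % 7 = 2 := by
    have e : ∀ k : ℕ, 2 ^ k % 7 = 2 ^ (k % 3) % 7 := fun k => by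
      conv_lhs => rw [← Nat.div_add_mod k 3, pow_add, pow_mul]
      rw [Nat.mul_mod, Nat.pow_mod]
      norm_num
    rw [e]
    have hm3 : m % 3 < 3 := Nat.mod_lt _ (by norm_num)
    have hq7 : q % 7 = 2 ^ ((2 * (m % 3) + 1) % 3) % 7 := by
      rw [hq, e]; congr 2; omega
    interval_cases hh : m % 3
    · exact absurd (hcard ▸ hdvd) (seven_not_dvd (Or.inl (by simpa using hq7)))
    · rfl
    · exact absurd (hcard ▸ hdvd) (seven_not_dvd (Or.inr (by simpa using hq7)))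
  have hq1 : q % 7 = 1 := by
    have e2 : q % 7 = (2 ^ m % 7) * (2 ^ m % 7) * 2 % 7 := by
      rw [hq, pow_succ, two_mul, pow_add, Nat.mul_mod, Nat.mul_mod (2 ^ m), Nat.mod_mul_mod]
    rw [e2, hm3]
  -- a Sylow subgroup in the torus
  haveI : Fact (Nat.Prime 7) := ⟨by norm_num⟩
  set T : Subgroup ↥(twistedF4 K (2 ^ m)) :=
    (ReeF4.T1 K m).subgroupOf (twistedF4 K (2 ^ m)) with hT
  have hle : ReeF4.T1 K m ≤ twistedF4 K (2 ^ m) := by
    rw [← ReeF4.fx_eq hK]; exact ReeF4.T1_le_fx (ReeF4.isTheta hK)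
  have hTcard : Nat.card ↥T = (q - 1) ^ 2 := by
    rw [hT, Nat.card_congr (Subgroup.subgroupOfEquivOfLe hle).toEquiv, ReeF4.card_T1, hK, hq]
  have hidx : ¬ 7 ∣ T.index := by
    intro hd
    have h1 := T.card_mul_index
    rw [hTcard, hcard, ← hq] at h1
    have h4 : q ^ 4 - 1 = (q - 1) * (1 + q + q ^ 2 + q ^ 3) := by
      obtain ⟨n, hn⟩ : ∃ n, q = n + 1 := ⟨q - 1, by omega⟩
      rw [hn, Nat.add_sub_cancel]
      refine (Nat.sub_eq_iff_eq_add (Nat.one_le_pow _ _ (Nat.succ_pos n))).2 ?_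
      show (n + 1) ^ 4 = _
      ring
    have h2 : T.index = q ^ 12 * (q ^ 3 + 1) * (1 + q + q ^ 2 + q ^ 3) * (q ^ 6 + 1) := by
      have hpos : 0 < (q - 1) ^ 2 := pow_pos (by
        have : 2 ≤ q := by rw [hq]; exact le_self_pow (by norm_num) (by omega)
        omega) 2
      refine Nat.eq_of_mul_eq_mul_left hpos ?_
      rw [h1, h4]
      ring
    rw [h2] at hd
    have key : ((q ^ 12 * (q ^ 3 + 1) * (1 + q + q ^ 2 + q ^ 3) * (q ^ 6 + 1) : ℕ) : ZMod 7) ≠ 0 := by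
      push_cast
      rw [show (q : ZMod 7) = 1 by rw [← ZMod.natCast_mod q 7, hq1, Nat.cast_one]]
      clear_value q
      decide +revert
    exact key ((ZMod.natCast_eq_zero_iff _ _).2 hd)
  obtain ⟨P, hP⟩ : ∃ P : Sylow 7 ↥(twistedF4 K (2 ^ m)), (P : Subgroup _) ≤ T := by
    let P₀ : Sylow 7 ↥T := default
    have hi : ¬ 7 ∣ ((P₀ : Subgroup ↥T).map T.subtype).index := by
      rw [Subgroup.index_map_subtype]
      exact fun hd => ((Fact.out : Nat.Prime 7).dvd_mul.1 hd).elim P₀.not_dvd_index hidx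
    exact ⟨(P₀.2.map T.subtype).toSylow hi, Subgroup.map_subtype_le _⟩
  have hzp : IsPGroup 7 ↥(Subgroup.zpowers s') :=
    IsPGroup.of_card (n := 1) (by rw [Nat.card_zpowers, hs'o, pow_one])
  obtain ⟨Q, hQ⟩ := hzp.exists_le_sylow
  obtain ⟨g, hg⟩ := MulAction.exists_smul_eq ↥(twistedF4 K (2 ^ m)) Q P
  have hmem : g * s' * g⁻¹ ∈ T := hP (by
    rw [← hg, Sylow.coe_subgroup_smul]
    exact Subgroup.smul_mem_pointwise_smul s' (MulAut.conj g) _ (hQ (Subgroup.mem_zpowers s')))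
  have hbs' : (b : ↥(twistedF4 K (2 ^ m))) * s' * (b : ↥(twistedF4 K (2 ^ m)))⁻¹ = s' ^ 2 :=
    congrArg Subtype.val hbs
  set t : GL chevF4.Idx K := ((g * s' * g⁻¹ : ↥(twistedF4 K (2 ^ m))) : GL chevF4.Idx K) with ht
  have hF4 : twistedF4 K (2 ^ m) ≤ chevF4.group K := by
    rw [← ReeF4.fx_eq hK]; exact fun x hx => ReeF4.fx_le_group (m := m) hx
  refine torus_not_conj hm3 (g := t) (b := ((g * (b : ↥(twistedF4 K (2 ^ m))) * g⁻¹ :
      ↥(twistedF4 K (2 ^ m))) : GL chevF4.Idx K)) hmem (hF4 (Subtype.coe_prop _)) ?_ ?_ ?_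
  · rw [ht, ← SubgroupClass.coe_pow, conj_pow, ← hs'o, pow_orderOf_eq_one]
    simp
  · intro e
    have e' : g * s' * g⁻¹ = 1 := Subtype.ext e
    rw [mul_inv_eq_one, mul_eq_left] at e'
    rw [e', orderOf_one] at hs'o
    exact absurd hs'o (by norm_num)
  · rw [ht, ← Subgroup.coe_inv, ← Subgroup.coe_mul, ← Subgroup.coe_mul, ← SubgroupClass.coe_pow,
      conj_pow, ← hbs']
    congr 1
    group

end Cfsg.Agent.S2661
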