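import Cfsg.Statements.S2669

set_option autoImplicit false
open Cfsg

namespace Cfsg.Agent.S2669

/-- Shintani descent preserves numbers of fixed points on coset spaces (abstract form). Let `σ` be an automorphism of a group `X` and `e ≥ 1`; write `G` for the fixed points of `σᵉ` and `H` for the fixed points of `σ`, and assume `G` is finite. Let `Y` be a `σ`-stable subgroup of `X` on which the maps `a ↦ a σ(a)⁻¹` and `a ↦ a σᵉ(a)⁻¹` are surjective (as for a closed connected `σ`-stable subgroup of an algebraic group). Let `g ∈ G`, let `a ∈ X` satisfy `g = a σ(a)⁻¹` and put `x = σᵉ(a)⁻¹ a` (the Shintani image, an element of `H`). The element `g σ` of the semidirect product acts on the cosets of `Y ∩ G` in `G` by `k (Y ∩ G) ↦ g σ(k) (Y ∩ G)`, fixing that coset exactly when `k⁻¹ g σ(k) ∈ Y`; and `x` fixes the coset `h (Y ∩ H)` of `H` exactly when `h⁻¹ x h ∈ Y`. Then the two numbers of fixed cosets agree;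 in cross-multiplied form, `#{k ∈ G : k⁻¹ g σ(k) ∈ Y} · |Y ∩ H| = #{h ∈ H : h⁻¹ x h ∈ Y} · |Y ∩ G|`. -/
theorem result {X : Type*} [Group X] (σ : MulAut X) (e : ℕ) (he : 1 ≤ e)
    [Finite ↥((MulEquiv.toMonoidHom (σ ^ e)).eqLocus (MonoidHom.id X))]
    (Y : Subgroup X) (hY : ∀ y : X, y ∈ Y ↔ σ y ∈ Y)
    (hYL : ∀ y ∈ Y, ∃ a ∈ Y, y = a * (σ a)⁻¹) (hYLe : ∀ y ∈ Y, ∃ a ∈ Y, y = a * ((σ ^ e) a)⁻¹)
    (g : X) (hg : g ∈ (MulEquiv.toMonoidHom (σ ^ e)).eqLocus (MonoidHom.id X)) (a : X) (ha : g = a * (σ a)⁻¹) :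
    Nat.card {k : ↥((MulEquiv.toMonoidHom (σ ^ e)).eqLocus (MonoidHom.id X)) // (k : X)⁻¹ * g * σ k ∈ Y} *
        Nat.card ↥(Y ⊓ (MulEquiv.toMonoidHom σ).eqLocus (MonoidHom.id X)) =
      Nat.card {h : ↥((MulEquiv.toMonoidHom σ).eqLocus (MonoidHom.id X)) // (h : X)⁻¹ * (((σ ^ e) a)⁻¹ * a) * h ∈ Y} *
        Nat.card ↥(Y ⊓ (MulEquiv.toMonoidHom (σ ^ e)).eqLocus (MonoidHom.id X)) := by
  classical
  set G := (MulEquiv.toMonoidHom (σ ^ e)).eqLocus (MonoidHom.id X) with hG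
  set H := (MulEquiv.toMonoidHom σ).eqLocus (MonoidHom.id X) with hH
  have hGmem : ∀ x : X, x ∈ G ↔ (σ ^ e) x = x := fun x => Iff.rfl
  have hHmem : ∀ x : X, x ∈ H ↔ σ x = x := fun x => Iff.rfl
  have hpow : ∀ n : ℕ, ∀ x : X, σ x = x → (σ ^ n) x = x := by
    intro n x hx
    induction n with
    | zero => simp
    | succ n ih => rw [pow_succ, MulAut.mul_apply, hx, ih]
  have hHG : H ≤ G := fun x hx => hpow e x hx
  haveI : Finite ↥H := Finite.of_injective _ (Subgroup.inclusion_injective hHG)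
  have hfib : ∀ (A K : Subgroup X), Finite ↥A → ∀ (P : A → Prop) (Q : A → X),
      (∀ k, P k → ∃ h ∈ K, Q k * h ∈ Y) →
      Nat.card {x : A × K // P x.1 ∧ Q x.1 * (x.2 : X) ∈ Y} = Nat.card {k : A // P k} * Nat.card ↥(Y ⊓ K) := by
    intro A K _ P Q hex
    choose h hK hY' using hex
    rw [← Nat.card_prod]
    refine (Nat.card_eq_of_bijective (fun y : {k : A // P k} × ↥(Y ⊓ K) =>
      (⟨(y.1.1, ⟨h y.1.1 y.1.2 * y.2.1, K.mul_mem (hK _ _) y.2.2.2⟩), y.1.2,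
        by
          show Q y.1.1 * (h y.1.1 y.1.2 * (y.2 : X)) ∈ Y
          rw [← mul_assoc]
          exact Y.mul_mem (hY' _ _) y.2.2.1⟩ :
        {x : A × K // P x.1 ∧ Q x.1 * (x.2 : X) ∈ Y})) ⟨?_, ?_⟩).symm
    · rintro ⟨⟨k, hk⟩, y⟩ ⟨⟨k', hk'⟩, y'⟩ heq
      simp only [Subtype.mk.injEq, Prod.mk.injEq] at heq
      obtain ⟨rfl, h2⟩ := heq
      exact Prod.ext rfl (Subtype.ext (mul_left_cancel h2))
    · rintro ⟨⟨k, z⟩, hk, hz⟩
      refine ⟨(⟨k, hk⟩, ⟨(h k hk)⁻¹ * z, ?_, K.mul_mem (K.inv_mem (hK k hk)) z.2⟩), ?_⟩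
      · have := Y.mul_mem (Y.inv_mem (hY' k hk)) hz
        simpa [mul_assoc] using this
      · exact Subtype.ext (Prod.ext rfl (Subtype.ext (mul_inv_cancel_left _ _)))
  -- the left side
  have hL : ∀ k : ↥G, (k : X)⁻¹ * g * σ k ∈ Y ↔ ∃ h ∈ H, (k : X)⁻¹ * a * h ∈ Y := by
    intro k
    have e1 : (k : X)⁻¹ * g * σ k = ((k : X)⁻¹ * a) * (σ ((k : X)⁻¹ * a))⁻¹ := by
      rw [map_mul, map_inv, mul_inv_rev, inv_inv, ha]
      group
    rw [e1]
    constructor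
    · intro h
      obtain ⟨b, hb, hbe⟩ := hYL _ h
      refine ⟨((k : X)⁻¹ * a)⁻¹ * b, ?_, ?_⟩
      · rw [hHmem, map_mul, map_inv, eq_comm, inv_mul_eq_iff_eq_mul, ← mul_assoc, hbe,
          inv_mul_cancel_right]
      · rw [mul_inv_cancel_left]
        exact hb
    · rintro ⟨h, hh, hy⟩
      have hs : σ h = h := hh
      have := Y.mul_mem hy (Y.inv_mem ((hY _).1 hy))
      rw [map_mul, hs] at this
      simpa [mul_assoc] using this
  -- the right side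
  have hR : ∀ h : ↥H, (h : X)⁻¹ * (((σ ^ e) a)⁻¹ * a) * h ∈ Y ↔ ∃ k ∈ G, k⁻¹ * a * (h : X) ∈ Y := by
    intro h
    have hs : (σ ^ e) (h : X) = h := hpow e _ h.2
    have hYpow : ∀ (n : ℕ) (y : X), y ∈ Y → (σ ^ n) y ∈ Y := by
      intro n
      induction n with
      | zero => exact fun y hy => by simpa using hy
      | succ n ih => exact fun y hy => by rw [pow_succ, MulAut.mul_apply]; exact ih _ ((hY y).1 hy)
    have e1 : (h : X)⁻¹ * (((σ ^ e) a)⁻¹ * a) * h = ((σ ^ e) (a * h))⁻¹ * (a * h) := by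
      rw [map_mul, hs, mul_inv_rev]
      group
    rw [e1]
    constructor
    · intro hw
      obtain ⟨c, hc, hce⟩ := hYLe _ (Y.inv_mem hw)
      refine ⟨a * h * c, ?_, ?_⟩
      · rw [hGmem, map_mul _ (a * (h : X))]
        rw [mul_inv_rev, inv_inv, eq_mul_inv_iff_mul_eq] at hce
        conv_rhs => rw [← hce]
        group
      · rw [mul_inv_rev]
        have : c⁻¹ * (a * (h : X))⁻¹ * a * (h : X) = c⁻¹ := by group
        rw [this]
        exact Y.inv_mem hc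
    · rintro ⟨k, hk, hy⟩
      have := Y.mul_mem (Y.inv_mem (hYpow e _ hy)) hy
      have hk' : (σ ^ e) k = k := hk
      rw [mul_assoc k⁻¹, map_mul, map_inv, hk'] at this
      simpa [mul_assoc] using this
  have key1 := hfib G H inferInstance (fun k => (k : X)⁻¹ * g * σ k ∈ Y) (fun k => (k : X)⁻¹ * a)
    (fun k hk => (hL k).1 hk)
  have key2 := hfib H G inferInstance (fun h => (h : X)⁻¹ * (((σ ^ e) a)⁻¹ * a) * h ∈ Y)
    (fun h => (h : X)⁻¹ * a⁻¹) (fun h hh => by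
      obtain ⟨k, hk, hy⟩ := (hR h).1 hh
      exact ⟨k, hk, by simpa [mul_assoc] using Y.inv_mem hy⟩)
  rw [← key1, ← key2]
  refine Nat.card_congr ((Equiv.prodComm G H).subtypeEquiv fun x => ?_)
  constructor
  · rintro ⟨-, h2⟩
    refine ⟨(hR x.2).2 ⟨x.1, x.1.2, h2⟩, ?_⟩
    simpa [mul_assoc] using Y.inv_mem h2
  · rintro ⟨-, h2⟩
    have h3 : (x.1 : X)⁻¹ * a * (x.2 : X) ∈ Y := by simpa [mul_assoc] using Y.inv_mem h2
    exact ⟨(hL x.1).2 ⟨x.2, x.2.2, h3⟩, h3⟩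

end Cfsg.Agent.S2669
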