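import Cfsg.Statements.S2671
import Cfsg.Agent.DualCount.Group
import Cfsg.Agent.MatModule.InvariantHerm

set_option autoImplicit false
open Cfsg

namespace Cfsg.Agent.S2671

open Polynomial Cfsg.Agent.DualCount Cfsg.Agent.Classical Cfsg.Agent.UnitaryConj in

/-- Number of conjugacy classes of elements of odd prime order r in the general unitary group GU_n(q), for r not dividing q(q + 1): let i be the multiplicative order of q modulo r, b = i if i is odd and b = i/2 if i is even, and s = (r − 1)/b. If i ≢ 2 (mod 4) the eigenvalue orbits pair off into dual pairs of totally isotropic blocks and there are C(⌊n/(2b)⌋ + s/2, s/2) − 1 classes; if i ≡ 2 (mod 4) each orbit gives a non-degenerate block of dimension i/2 and there are C(⌊2n/i⌋ + s, s) − 1 classes. -/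
theorem result {K : Type*} [Field K] [Fintype K] {p q n r i b s : ℕ} [Fact p.Prime] [CharP K p] (hK : Fintype.card K = q ^ 2) (hr : r.Prime) (hr2 : r ≠ 2) (hrp : r ≠ p) (hi : i = orderOf (q : ZMod r)) (hi2 : i ≠ 2) (hb : b = if Odd i then i else i / 2) (hs : s * b = r - 1) : Nat.card {C : ConjClasses ↥(Cfsg.GU n K q) // ∃ g : ↥(Cfsg.GU n K q), ConjClasses.mk g = C ∧ orderOf g = r} = if i % 4 = 2 then Nat.choose (2 * n / i + s) s - 1 else Nat.choose (n / (2 * b) + s / 2) (s / 2) - 1 := by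
  classical
  obtain ⟨σ, hσq, hσ, -, -⟩ := exists_powHom hK
  obtain ⟨E, hpp, hE⟩ := FiniteField.card K p
  obtain ⟨k, -, hk⟩ := (Nat.dvd_prime_pow hpp).1 (show q ∣ p ^ (E : ℕ) from ⟨q, by rw [← hE, hK, sq]⟩)
  haveI := Fact.mk hr
  have hq0 : (q : ZMod r) ≠ 0 := by
    rw [hk, Nat.cast_pow]
    exact pow_ne_zero _ fun h => hrp ((Nat.prime_dvd_prime_iff_eq hr hpp).1 ((ZMod.natCast_eq_zero_iff _ _).1 h))
  have hi0 : 0 < i := by
    rw [hi]
    exact orderOf_pos_iff.2 (isOfFinOrder_iff_pow_eq_one.2 ⟨r - 1, by have := hr.two_le; omega,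
      ZMod.pow_card_sub_one_eq_one hq0⟩)
  set δ := tdual σ with hδ
  have hD : Dual δ ((r - 1) * q) r := dual_tdual hr.pos hk σ hσq hσ.2
  have hecast : ((((r - 1) * q : ℕ)) : ZMod r) = -(q : ZMod r) := by
    rw [Nat.cast_mul, Nat.cast_sub hr.one_le, ZMod.natCast_self, Nat.cast_one, zero_sub, neg_one_mul]
  have hord : b = orderOf ((Fintype.card K : ℕ) : ZMod r) := by
    rw [hK, Nat.cast_pow, orderOf_pow' _ (by norm_num), ← hi, hb]
    rcases Nat.even_or_odd i with h | h
    · rw [if_neg (Nat.not_odd_iff_even.2 h), Nat.gcd_eq_right h.two_dvd]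
    · rw [if_pos h, show Nat.gcd i 2 = 1 from Nat.coprime_two_right.2 h, Nat.div_one]
  obtain ⟨hfix, hfree⟩ := card_selfDual (F := K) (n := n) hr hrp hord hs δ hD
    (by rw [hecast, neg_ne_zero]; exact hq0)
  have hmain : Nat.card {C : ConjClasses ↥(Cfsg.GU n K q) //
      ∃ g : ↥(Cfsg.GU n K q), ConjClasses.mk g = C ∧ orderOf g = r} =
      Nat.card {f : K[X] // f.Monic ∧ f.natDegree = n ∧ (∀ s, Irreducible s → s ∣ f → s ∣ X ^ r - 1) ∧
        f ≠ (X - Polynomial.C 1) ^ n ∧ δ f = f} := by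
    have hpr : r.Coprime p := (Nat.coprime_primes hr Fact.out).2 hrp
    have hadjc : ∀ M : Matrix (Fin n) (Fin n) K, (adj σ M).charpoly = M.charpoly.map σ := fun M => by
      rw [adj, Matrix.charpoly_transpose, Matrix.charpoly_map]
    refine card_classes hr hrp (Cfsg.GU n K q).subtype Subtype.val_injective δ ?_ ?_ ?_
    · intro g h hg hh hc
      obtain ⟨P, hP⟩ := Cfsg.Agent.MatModule.exists_conj_of_matrix_charpoly_eq (p := p) g.1 h.1
        (by rw [Subgroup.orderOf_coe, hg]; exact hpr) (by rw [Subgroup.orderOf_coe, hh]; exact hpr) hc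
      obtain ⟨U, hU, hUA⟩ := exists_unitary_conj hσ hσq g.2 h.2 hP
      exact isConj_iff.2 ⟨⟨U, hU⟩, Subtype.ext hUA⟩
    · intro g
      have h1 : adj σ g.1.1 * g.1.1 = 1 := (mem_GU_iff_adj hσq g.1).1 g.2
      have h2 : g.1.1⁻¹ = adj σ g.1.1 := Matrix.inv_eq_left_inv h1
      have h3 := charpoly_inv_eq g.1.1 g.1.isUnit
      rw [h2, hadjc] at h3
      change rdual (g.1.1.charpoly.map σ) = g.1.1.charpoly
      rw [h3, rdual_rdual (Matrix.charpoly_monic _)]
      intro h0
      exact (Matrix.isUnits_det_units g.1).ne_zero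
        (by rw [Matrix.det_eq_sign_charpoly_coeff, h0, mul_zero])
    · intro f hfm hfd h0 hff hfδ
      obtain ⟨x, hx, hxf⟩ := Cfsg.Agent.S2387.exists_semisimple p f hfm hfd h0
      let star' : GL (Fin n) K →* GL (Fin n) K :=
        { toFun := fun g => ⟨adj σ (g⁻¹ : GL (Fin n) K).1, adj σ g.1,
            by rw [← adj_mul, Units.mul_inv, adj_one], by rw [← adj_mul, Units.inv_mul, adj_one]⟩
          map_one' := Units.ext (by rw [Units.val_mk, inv_one, Units.val_one, adj_one])
          map_mul' := fun a b => Units.ext (by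
            change adj σ ((a * b)⁻¹ : GL (Fin n) K).1 =
              adj σ (a⁻¹ : GL (Fin n) K).1 * adj σ (b⁻¹ : GL (Fin n) K).1
            rw [_root_.mul_inv_rev, Units.val_mul, adj_mul]) }
      have hscp : (star' x).1.charpoly = f := by
        change (adj σ (x⁻¹ : GL (Fin n) K).1).charpoly = f
        have e : rdual f = f.map σ := by
          conv_lhs => rw [← hfδ]
          exact rdual_rdual (hfm.map σ) (by rwa [coeff_map, _root_.map_ne_zero])
        rw [hadjc, Matrix.coe_units_inv, charpoly_inv_eq x.1 x.isUnit, hxf, e, Polynomial.map_map,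
          show σ.comp σ = RingHom.id K from RingHom.ext hσ.2, Polynomial.map_id]
      obtain ⟨Q, hQ⟩ := Cfsg.Agent.MatModule.exists_conj_of_matrix_charpoly_eq (p := p) x (star' x) hx
        (hx.coprime_dvd_left (orderOf_map_dvd star' x)) (by rw [hxf, hscp])
      obtain ⟨P, hP⟩ := exists_conj_mem_GU hσ hσq x Q (by
        have h1 : Q.1 * x.1 = (star' x).1 * Q.1 := by
          rw [← Units.val_mul, ← Units.val_mul, ← hQ, inv_mul_cancel_right]
        rw [mul_assoc, h1, ← mul_assoc, show adj σ x.1 * (star' x).1 = 1 from (star' x).inv_mul, one_mul])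
      refine ⟨⟨_, hP⟩, ?_, ?_⟩
      · rw [← Subgroup.orderOf_coe]
        exact hx.coprime_dvd_left (orderOf_map_dvd (MulAut.conj P).toMonoidHom x)
      · change ((P * x * P⁻¹ : GL (Fin n) K).1).charpoly = f
        rw [Units.val_mul, Units.val_mul, Matrix.charpoly_mul_comm, ← mul_assoc, ← Units.val_mul,
          inv_mul_cancel, Units.val_one, one_mul, hxf]
  rw [hmain]
  have hpowi : (q : ZMod r) ^ i = 1 := by rw [hi]; exact pow_orderOf_eq_one _
  have h2r : (1 : ZMod r) ≠ -1 := by
    intro h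
    have h2 : ((2 : ℕ) : ZMod r) = 0 := by push_cast; linear_combination h
    exact hr2 ((Nat.prime_dvd_prime_iff_eq hr Nat.prime_two).1 ((ZMod.natCast_eq_zero_iff _ _).1 h2))
  by_cases h4 : i % 4 = 2
  · have heven : Even i := ⟨i / 2, by omega⟩
    have hhalf : (q : ZMod r) ^ (i / 2) = -1 := by
      have h2 : (q : ZMod r) ^ (i / 2) * (q : ZMod r) ^ (i / 2) = 1 := by
        rw [← pow_add, show i / 2 + i / 2 = i by omega, hpowi]
      refine (mul_self_eq_one_iff.1 h2).resolve_left fun h => ?_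
      have := Nat.le_of_dvd (by omega) (hi ▸ orderOf_dvd_of_pow_eq_one h)
      omega
    rw [if_pos h4, hfix ⟨(i / 2 + 1) / 2, by
      rw [hecast, hK, Nat.cast_pow, ← pow_mul, show 2 * ((i / 2 + 1) / 2) = i / 2 + 1 by omega, pow_succ,
        hhalf, neg_one_mul]⟩,
      hb, if_neg (Nat.not_odd_iff_even.2 heven)]
    congr 2
    have e1 : n / (i / 2) = (2 * n) / (2 * (i / 2)) := (Nat.mul_div_mul_left n (i / 2) two_pos).symm
    rw [e1, show 2 * (i / 2) = i by omega]
  · rw [if_neg h4, hfree]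
    rintro ⟨j, hj⟩
    rw [hecast, hK, Nat.cast_pow, ← pow_mul] at hj
    -- `q ^ (2 * j + (i - 1)) = -1`
    have h5 : (q : ZMod r) ^ (2 * j + (i - 1)) = -1 := by
      rw [pow_add, ← hj, neg_mul, ← pow_succ', Nat.sub_add_cancel hi0, hpowi]
    have h6 : i ∣ 2 * (2 * j + (i - 1)) := by
      rw [hi]
      refine orderOf_dvd_of_pow_eq_one ?_
      rw [← hi, mul_comm 2 (2 * j + (i - 1)), pow_mul, h5, neg_one_sq]
    have h7 : ¬ i ∣ 2 * j + (i - 1) := by
      intro h
      rw [hi] at h
      have h8 := orderOf_dvd_iff_pow_eq_one.1 h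
      rw [← hi, h5] at h8
      exact h2r h8.symm
    rcases Nat.even_or_odd i with ⟨u, hu⟩ | hodd
    · apply h4
      rw [hu, ← two_mul] at h6
      have h9 := Nat.dvd_of_mul_dvd_mul_left two_pos h6
      obtain ⟨c, hc⟩ := h9
      rcases Nat.even_or_odd u with ⟨v, hv⟩ | ⟨v, hv⟩
      · exfalso
        rw [hv] at hc
        have : (v + v) * c = 2 * (v * c) := by ring
        omega
      · omega
    · exact h7 ((Nat.coprime_two_right.2 hodd).dvd_of_dvd_mul_left h6)

end Cfsg.Agent.S2671
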