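import Cfsg.Statements.S2672
import Cfsg.Agent.MatModule.ProjPrimeClasses
import Cfsg.Agent.MatModule.UnitaryConj
import Cfsg.Agent.Classical.UnitarySmall

set_option autoImplicit false
open Cfsg

namespace Cfsg.Agent.S2672

open Matrix Cfsg.Agent.ProjPrime Cfsg.Agent.Classical Cfsg.Agent.UnitaryConj in

/-- Number of conjugacy classes of elements of odd prime order r in PGU_n(q) = GU_n(q)/scalars (n ≥ 3) when r divides q + 1: as in the linear case with q − 1 replaced by q + 1, the classes correspond to the rotation orbits on r-tuples of eigenvalue multiplicities summing to n with every entry < n, plus r − 1 further classes when r divides n; in all (C(n+r−1, r−1) − r − [r ∣ n])/r + r·[r ∣ n]. -/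
theorem result {K : Type*} [Field K] [Fintype K] {q n r : ℕ} (hK : Fintype.card K = q ^ 2) (hn : 3 ≤ n) (hr : r.Prime) (hr2 : r ≠ 2) (hrq : r ∣ q + 1) : Nat.card {C : ConjClasses (↥(Cfsg.GU n K q) ⧸ Subgroup.center ↥(Cfsg.GU n K q)) // ∃ g : ↥(Cfsg.GU n K q) ⧸ Subgroup.center ↥(Cfsg.GU n K q), ConjClasses.mk g = C ∧ orderOf g = r} = (Nat.choose (n + r - 1) (r - 1) - r - (if r ∣ n then 1 else 0)) / r + r * (if r ∣ n then 1 else 0) := by
  classical
  obtain ⟨σ, hσq, hσ, hfix, -⟩ := exists_powHom hK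
  have hq1 : 1 ≤ q := by
    rcases Nat.eq_zero_or_pos q with h | h
    · rw [h] at hK; simp at hK
    · exact h
  have hqq : q ^ 2 - 1 = (q + 1) * (q - 1) := by simpa using Nat.sq_sub_sq q 1
  set L := (powMonoidHom (q + 1) : Kˣ →* Kˣ).ker
  have hunits : Nat.card Kˣ = (q + 1) * (q - 1) := by
    rw [Nat.card_units, Nat.card_eq_fintype_card, hK, hqq]
  have hLcard : Nat.card L = q + 1 := by
    rw [IsCyclic.card_powMonoidHom_ker, hunits]
    exact Nat.gcd_eq_right (Dvd.intro _ rfl)
  have hnorm : ∀ c : Kˣ, c ∈ L ↔ σ (c : K) * c = 1 := fun c => by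
    rw [MonoidHom.mem_ker, powMonoidHom_apply, Units.ext_iff, Units.val_pow_eq_pow_val, hσq, ← pow_succ,
      Units.val_one]
  refine card_classes (by omega) hr (Cfsg.GU n K q).subtype Subtype.val_injective L ?_
    (by rw [hLcard]; exact hrq) ?_ ?_ ?_
  · intro c hc
    rw [MonoidHom.mem_ker, powMonoidHom_apply, ← pow_mul] at hc
    have h2 : c ^ ((q - 1) * (q + 1)) = 1 := by rw [mul_comm, ← hunits]; exact pow_card_eq_one'
    have hcop : Nat.gcd r (q - 1) = 1 := by
      refine (hr.coprime_iff_not_dvd).2 fun hd => hr2 ?_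
      have hq' := Nat.dvd_sub hrq hd
      rw [show q + 1 - (q - 1) = 2 by omega] at hq'
      exact (Nat.prime_dvd_prime_iff_eq hr Nat.prime_two).1 hq'
    rw [MonoidHom.mem_ker, powMonoidHom_apply]
    have h := pow_gcd_eq_one.2 ⟨hc, h2⟩
    rwa [Nat.gcd_mul_right, hcop, one_mul] at h
  · intro g
    constructor
    · intro hg
      obtain ⟨a, ha⟩ := center_GU_scalar hσ hσq hfix (by omega) hg
      have ha0 : a ≠ 0 := by
        intro h0
        haveI : NeZero n := ⟨by omega⟩
        exact g.1.isUnit.ne_zero (by rw [ha, h0, map_zero])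
      refine ⟨Units.mk0 a ha0, (hnorm _).2 ?_, ha⟩
      have h := (mem_GU_iff_adj hσq g.1).1 g.2
      rw [ha, show adj σ (Matrix.scalar (Fin n) a) = Matrix.scalar (Fin n) (σ a) from adj_scalar a, ← map_mul,
        ← map_one (Matrix.scalar (Fin n))] at h
      haveI : Nonempty (Fin n) := ⟨⟨0, by omega⟩⟩
      exact Matrix.scalar_inj.1 h
    · rintro ⟨c, -, hc⟩
      refine Subgroup.mem_center_iff.2 fun x => Subtype.ext (Units.ext ?_)
      change x.1.1 * g.1.1 = g.1.1 * x.1.1
      rw [show g.1.1 = _ from hc]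
      exact (Matrix.scalar_commute _ (fun r' => Commute.all _ r') x.1.1).eq.symm
  · intro w hw π
    refine ⟨⟨⟨mono w π, _, mono_mul_inv w π, mul_eq_one_comm.1 (mono_mul_inv w π)⟩,
      (mem_GU_iff_adj hσq _).2 ?_⟩, rfl⟩
    change adj σ (mono w π) * mono w π = 1
    ext a b
    rw [adj, Matrix.mul_apply, Finset.sum_eq_single (π.symm a)]
    · by_cases hab : a = b
      · subst hab
        simp [mono, (hnorm _).1 (hw _)]
      · simp [mono, hab]
    · intro i _ hi
      have : π i ≠ a := fun h => hi (by rw [← h, Equiv.symm_apply_apply])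
      simp [mono, this]
    · intro h
      exact absurd (Finset.mem_univ _) h
  · intro g h hc
    obtain ⟨P, hP⟩ := isConj_iff.1 hc
    obtain ⟨U, hU, hUA⟩ := exists_unitary_conj hσ hσq g.2 h.2 hP
    exact isConj_iff.2 ⟨⟨U, hU⟩, Subtype.ext hUA⟩

end Cfsg.Agent.S2672
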