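import Cfsg.Statements.S2673
import Cfsg.Agent.DualCount.OrthTypes

set_option autoImplicit false
open Cfsg

namespace Cfsg.Agent.S2673

open Polynomial Cfsg.Agent.DualCount Cfsg.Agent.Classical in

/-- Number of conjugacy classes of elements of odd prime order r ≠ p in the orthogonal group O_(2m+1)(q) of x_0² + Σ x_j y_j, q odd: with i the multiplicative order of q mod r and t = (r − 1)/i, there are C(⌊m/i⌋ + t/2, t/2) − 1 classes if i is odd (dual pairs of totally singular i-blocks) and C(⌊(2m+1)/i⌋ + t, t) − 1 if i is even (elliptic i-blocks). -/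
theorem result {F : Type*} [Field F] [Fintype F] {p q : ℕ} [Fact p.Prime] [CharP F p] (hF : Fintype.card F = q) (hq : Odd q) (m r i t : ℕ) (hr : r.Prime) (hr2 : r ≠ 2) (hrp : r ≠ p) (hi : i = orderOf (q : ZMod r)) (ht : t * i = r - 1) : Nat.card {C : ConjClasses ↥(Cfsg.isometryGroup F (Cfsg.quadFormOdd m F)) // ∃ g : ↥(Cfsg.isometryGroup F (Cfsg.quadFormOdd m F)), ConjClasses.mk g = C ∧ orderOf g = r} = if Odd i then Nat.choose (m / i + t / 2) (t / 2) - 1 else Nat.choose ((2 * m + 1) / i + t) t - 1 := by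
  classical
  obtain ⟨hi0, hq0, hOdd, hEven⟩ := card_rdual (F := F) hF hr hr2 hrp hi ht
  have h2 : (2 : F) ≠ 0 := by
    intro h
    have hd : p ∣ 2 := (CharP.cast_eq_zero_iff F p 2).1 (by simpa using h)
    have hp2 : p = 2 := (Nat.prime_dvd_prime_iff_eq Fact.out Nat.prime_two).1 hd
    obtain ⟨E, -, hE⟩ := FiniteField.card F p
    rw [hF, hp2] at hE
    rw [hE, Nat.odd_pow_iff (PNat.ne_zero E)] at hq
    exact absurd hq (by decide)
  set Q := (Quad.hyp (Quad.sqForm F) m).comp (Quad.oddCoord (F := F) m).toLinearMap with hQdef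
  have hiso : Quad.Iso (Quad.hyp (Quad.sqForm F) m) Q :=
    ⟨(Quad.oddCoord m).symm, fun x => by simp [hQdef]⟩
  rw [card_orth_classes (N := 1 + (m + m)) hr hr2 hrp (by simp) Q (Cfsg.quadFormOdd m F)
    (fun x => Quad.oddCoord_map m x) (hiso.nondeg (Quad.nondeg_hyp (Quad.nondeg_sqForm h2) m))
    (fun _ => True) (fun _ _ _ => trivial) ?_]
  · rw [Nat.card_congr (Equiv.subtypeEquivRight (q := fun f : F[X] => f.Monic ∧ f.natDegree = 1 + (m + m) ∧
      (∀ s, Irreducible s → s ∣ f → s ∣ X ^ r - 1) ∧ f ≠ (X - Polynomial.C 1) ^ (1 + (m + m)) ∧ rdual f = f)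
      fun f => by simp only [and_true])]
    by_cases hodd : Odd i
    · rw [if_pos hodd, (hOdd hodd).2, ← Nat.div_div_eq_div_mul, show (1 + (m + m)) / 2 = m by omega]
    · rw [if_neg hodd, (hEven hodd).2.2, show 1 + (m + m) = 2 * m + 1 by omega]
  · intro l a Ql hQl ha har hfix hl _
    refine Emb.trans ?_ (Emb.of_iso hiso)
    rcases block_cases hr hr2 (hF ▸ hq0) a Ql hQl ha har hfix with ⟨-, h⟩ | ⟨-, hl1, h⟩
    · exact (h.trans ((emb_zeroForm _).hyp l)).trans (emb_hyp_le _ (by omega))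
    · obtain ⟨ζ, hζ⟩ := Quad.exists_rootfree (F := F)
      refine ((h _ _ (Quad.rootfree_aniso hζ)).trans (emb_minus_odd _ _ _)).trans (emb_hyp_le _ (by omega))

end Cfsg.Agent.S2673
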