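import Cfsg.Statements.S2674
import Cfsg.Agent.DualCount.OrthTypes

set_option autoImplicit false
open Cfsg

namespace Cfsg.Agent.S2674

open Polynomial Cfsg.Agent.DualCount Cfsg.Agent.Classical in

/-- Number of conjugacy classes of elements of odd prime order r ≠ p in the orthogonal group O⁺_2m(q) of Σ x_j y_j (m ≥ 1): with i the multiplicative order of q mod r and t = (r − 1)/i — if i is odd, C(⌊m/i⌋ + t/2, t/2) − 1; if i is even, C(⌊2m/i⌋ + t, t) − 1 minus, when i divides 2m with odd quotient, the C(2m/i + t − 1, t − 1) tuples using the whole space (an odd number of elliptic i-blocks fills an elliptic, not a hyperbolic, space). -/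
theorem result {F : Type*} [Field F] [Fintype F] {p q : ℕ} [Fact p.Prime] [CharP F p] (hF : Fintype.card F = q) (m r i t : ℕ) (hm : 1 ≤ m) (hr : r.Prime) (hr2 : r ≠ 2) (hrp : r ≠ p) (hi : i = orderOf (q : ZMod r)) (ht : t * i = r - 1) : Nat.card {C : ConjClasses ↥(Cfsg.isometryGroup F (Cfsg.quadFormPlus m F)) // ∃ g : ↥(Cfsg.isometryGroup F (Cfsg.quadFormPlus m F)), ConjClasses.mk g = C ∧ orderOf g = r} = if Odd i then Nat.choose (m / i + t / 2) (t / 2) - 1 else Nat.choose (2 * m / i + t) t - 1 - (if i ∣ 2 * m ∧ Odd (2 * m / i) then Nat.choose (2 * m / i + t - 1) (t - 1) else 0) := by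
  classical
  obtain ⟨hi0, hq0, hOdd, hEven⟩ := card_rdual (F := F) hF hr hr2 hrp hi ht
  set Q := (Quad.hyp (Quad.zeroForm F) m).comp (Quad.plusCoord (F := F) m).toLinearMap with hQdef
  have hiso : Quad.Iso (Quad.hyp (Quad.zeroForm F) m) Q :=
    ⟨(Quad.plusCoord m).symm, fun x => by simp [hQdef]⟩
  obtain ⟨k, rfl⟩ := Nat.exists_eq_add_of_le' hm
  have hQ := hiso.nondeg (Quad.nondeg_hyp Quad.nondeg_zeroForm (k + 1))
  rw [card_orth_classes (N := (k + 1) + (k + 1)) hr hr2 hrp (by simp) Q (Cfsg.quadFormPlus (k + 1) F)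
    (fun x => Quad.plusCoord_map (k + 1) x) hQ
    (fun f => (q : ZMod r) ^ (k + 1) = 1 ∨ (X - Polynomial.C (1 : F)) ∣ f) ?_ ?_]
  rotate_left
  · intro b hb hbr
    by_contra hc
    push Not at hc
    refine hc.1 ?_
    have hfix : ∀ x, b x = x → x = 0 := fun x hx => by
      by_contra h
      exact hc.2 (dvd_iff_isRoot.2 (apply_eq_smul_imp_root b (by rw [one_smul]; exact hx) h))
    have := (pow_half_dim_eq hQ hr (hF ▸ hq0) (l := k)
      (by simp; ring) b hb hbr hfix).1 hiso
    rwa [hF] at this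
  · intro l a Ql hQl ha har hfix hl hP
    refine Emb.trans ?_ (Emb.of_iso hiso)
    rcases block_cases hr hr2 (hF ▸ hq0) a Ql hQl ha har hfix with ⟨-, h⟩ | ⟨hs, hl1, h⟩
    · exact h.trans (emb_hyp_le _ (by omega))
    · obtain ⟨ζ, hζ⟩ := Quad.exists_rootfree (F := F)
      refine ((h _ _ (Quad.rootfree_aniso hζ)).trans (emb_minus_plus _ _ _)).trans (emb_hyp_le _ ?_)
      by_contra hlk
      obtain rfl : l = k + 1 := by omega
      rw [show k + 1 + (k + 1) - 2 * (k + 1) = 0 by omega, pow_zero, one_mul] at hP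
      rcases hP with hP | hP
      · rw [hF, hP] at hs
        exact two_ne_zero_zmod hr hr2 hs
      · obtain ⟨x, hx⟩ := ((Module.End.hasEigenvalue_iff_isRoot_charpoly a 1).2
          (dvd_iff_isRoot.1 hP)).exists_hasEigenvector
        exact hx.2 (hfix x (by simpa using Module.End.mem_eigenspace_iff.1 hx.1))
  have htot : (q : ZMod r) ^ (k + 1) = 1 → Nat.card {f : F[X] // f.Monic ∧ f.natDegree = k + 1 + (k + 1) ∧
      (∀ s, Irreducible s → s ∣ f → s ∣ X ^ r - 1) ∧ f ≠ (X - Polynomial.C 1) ^ (k + 1 + (k + 1)) ∧ rdual f = f ∧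
      ((q : ZMod r) ^ (k + 1) = 1 ∨ (X - Polynomial.C (1 : F)) ∣ f)} = Nat.card {f : F[X] // f.Monic ∧
      f.natDegree = k + 1 + (k + 1) ∧ (∀ s, Irreducible s → s ∣ f → s ∣ X ^ r - 1) ∧
      f ≠ (X - Polynomial.C 1) ^ (k + 1 + (k + 1)) ∧ rdual f = f} := fun h =>
    Nat.card_congr (Equiv.subtypeEquivRight fun f => by simp only [h, true_or, and_true])
  have hpart : (q : ZMod r) ^ (k + 1) ≠ 1 → Nat.card {f : F[X] // f.Monic ∧ f.natDegree = k + 1 + (k + 1) ∧
      (∀ s, Irreducible s → s ∣ f → s ∣ X ^ r - 1) ∧ f ≠ (X - Polynomial.C 1) ^ (k + 1 + (k + 1)) ∧ rdual f = f ∧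
      ((q : ZMod r) ^ (k + 1) = 1 ∨ (X - Polynomial.C (1 : F)) ∣ f)} = Nat.card {f : F[X] // f.Monic ∧
      f.natDegree = 2 * k + 1 ∧ (∀ s, Irreducible s → s ∣ f → s ∣ X ^ r - 1) ∧
      f ≠ (X - Polynomial.C 1) ^ (2 * k + 1) ∧ rdual f = f} := fun h => by
    rw [Nat.card_congr (Equiv.subtypeEquivRight fun f => by simp only [h, false_or]; exact Iff.rfl),
      show k + 1 + (k + 1) = 2 * k + 1 + 1 by omega, card_with_factor rdual (dual_rdual hr.pos)]
  by_cases hc : (q : ZMod r) ^ (k + 1) = 1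
  · rw [htot hc]
    have hdvd : i ∣ k + 1 := hi ▸ orderOf_dvd_of_pow_eq_one hc
    by_cases hodd : Odd i
    · rw [if_pos hodd, (hOdd hodd).2, ← two_mul, Nat.mul_div_mul_left _ _ two_pos]
    · rw [if_neg hodd, (hEven hodd).2.2, ← two_mul]
      rw [if_neg, Nat.sub_zero]
      rintro ⟨-, ho⟩
      obtain ⟨c, hc'⟩ := hdvd
      rw [hc', ← mul_assoc, mul_comm 2 i, mul_assoc, Nat.mul_div_cancel_left _ hi0] at ho
      exact absurd ho (Nat.not_odd_iff_even.2 (even_two_mul c))
  · rw [hpart hc]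
    have hndvd : ¬ i ∣ k + 1 := fun h => hc (orderOf_dvd_iff_pow_eq_one.1 (hi ▸ h))
    by_cases hodd : Odd i
    · rw [if_pos hodd, (hOdd hodd).2, ← Nat.div_div_eq_div_mul, show (2 * k + 1) / 2 = k by omega,
        Nat.succ_div_of_not_dvd hndvd]
    · obtain ⟨ht1, -, hcount⟩ := hEven hodd
      rw [if_neg hodd, hcount]
      by_cases hd : i ∣ 2 * (k + 1)
      · obtain ⟨c, hc'⟩ := hd
        have hco : Odd c := by
          rcases Nat.even_or_odd c with ⟨w, hw⟩ | h
          · refine absurd ⟨w, ?_⟩ hndvd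
            rw [hw] at hc'
            have : i * (w + w) = 2 * (i * w) := by ring
            omega
          · exact h
        have hdiv : 2 * (k + 1) / i = c := by rw [hc', Nat.mul_div_cancel_left _ hi0]
        have hdiv' : (2 * k + 1) / i = c - 1 := by
          have hc1 : 1 ≤ c := hco.pos
          refine Nat.div_eq_of_lt_le ?_ ?_
          · have : (c - 1) * i + i = i * c := by
              rw [← Nat.succ_mul, Nat.succ_eq_add_one, Nat.sub_add_cancel hc1, mul_comm]
            omega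
          · rw [Nat.sub_add_cancel hc1, mul_comm c i]
            omega
        rw [hdiv, if_pos ⟨⟨c, hc'⟩, hco⟩, hdiv', choose_pascal hco.pos ht1]
        omega
      · rw [if_neg (fun h => hd h.1), Nat.sub_zero, show 2 * (k + 1) = 2 * k + 1 + 1 by omega,
          Nat.succ_div_of_not_dvd (show ¬ i ∣ 2 * k + 1 + 1 by rwa [show 2 * k + 1 + 1 = 2 * (k + 1) by omega])]

end Cfsg.Agent.S2674
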