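import Cfsg.Statements.S2675
import Cfsg.Agent.DualCount.OrthTypes

set_option autoImplicit false
open Cfsg

namespace Cfsg.Agent.S2675

open Polynomial Cfsg.Agent.DualCount Cfsg.Agent.Classical in

/-- Number of conjugacy classes of elements of odd prime order r ≠ p in the orthogonal group O⁻_2m(q) of an elliptic form Σ_(j<m−1) x_j y_j + z₁² + a z₁z₂ + c z₂² (binary part anisotropic, m ≥ 1): with i the multiplicative order of q mod r and t = (r − 1)/i — if i is odd, C(⌊m/i⌋ + t/2, t/2) − 1 minus, when i divides m, the C(m/i + t/2 − 1, t/2 − 1) tuples filling the whole space (dual pairs of totally singular blocks fill a hyperbolic space); if i is even, C(⌊2m/i⌋ + t, t) − 1 minus, when i divides 2m with even quotient, the C(2m/i + t − 1, t − 1) tuples filling the whole space with an even number of elliptic blocks. -/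
theorem result {F : Type*} [Field F] [Fintype F] {p q : ℕ} [Fact p.Prime] [CharP F p] (hF : Fintype.card F = q) (m r i t : ℕ) (hm : 1 ≤ m) (a c : F) (hac : ∀ z₁ z₂ : F, z₁ ^ 2 + a * z₁ * z₂ + c * z₂ ^ 2 = 0 → z₁ = 0 ∧ z₂ = 0) (hr : r.Prime) (hr2 : r ≠ 2) (hrp : r ≠ p) (hi : i = orderOf (q : ZMod r)) (ht : t * i = r - 1) : Nat.card {C : ConjClasses ↥(Cfsg.isometryGroup F (Cfsg.quadFormMinus (m - 1) F a c)) // ∃ g : ↥(Cfsg.isometryGroup F (Cfsg.quadFormMinus (m - 1) F a c)), ConjClasses.mk g = C ∧ orderOf g = r} = if Odd i then Nat.choose (m / i + t / 2) (t / 2) - 1 - (if i ∣ m then Nat.choose (m / i + t / 2 - 1) (t / 2 - 1) else 0) else Nat.choose (2 * m / i + t) t - 1 - (if i ∣ 2 * m ∧ Even (2 * m / i) then Nat.choose (2 * m / i + t - 1) (t - 1) else 0) := by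
  classical
  obtain ⟨hi0, hq0, hOdd, hEven⟩ := card_rdual (F := F) hF hr hr2 hrp hi ht
  obtain ⟨k, rfl⟩ := Nat.exists_eq_add_of_le' hm
  rw [Nat.add_sub_cancel]
  set Q := (Quad.hyp (Quad.binForm a c) k).comp (Quad.minusCoord (F := F) k).toLinearMap with hQdef
  have hiso : Quad.Iso (Quad.hyp (Quad.binForm a c) k) Q :=
    ⟨(Quad.minusCoord k).symm, fun x => by simp [hQdef]⟩
  have hQ := hiso.nondeg (Quad.nondeg_hyp (Quad.nondeg_binForm hac) k)
  rw [card_orth_classes (N := k + k + 2) hr hr2 hrp (by simp) Q (Cfsg.quadFormMinus k F a c)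
    (fun x => Quad.minusCoord_map a c k x) hQ
    (fun f => (q : ZMod r) ^ (k + 1) = -1 ∨ (X - Polynomial.C (1 : F)) ∣ f) ?_ ?_]
  rotate_left
  · intro b hb hbr
    by_contra hc
    push Not at hc
    refine hc.1 ?_
    have hfix : ∀ x, b x = x → x = 0 := fun x hx => by
      by_contra h
      exact hc.2 (dvd_iff_isRoot.2 (apply_eq_smul_imp_root b (by rw [one_smul]; exact hx) h))
    have := (pow_half_dim_eq hQ hr (hF ▸ hq0) (l := k)
      (by simp; ring) b hb hbr hfix).2 a c hac hiso
    rwa [hF] at this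
  · intro l A Ql hQl ha har hfix hl hP
    refine Emb.trans ?_ (Emb.of_iso hiso)
    rcases block_cases hr hr2 (hF ▸ hq0) A Ql hQl ha har hfix with ⟨hs, h⟩ | ⟨-, hl1, h⟩
    · refine (h.trans ((emb_zeroForm _).hyp l)).trans (emb_hyp_le _ ?_)
      by_contra hlk
      obtain rfl : l = k + 1 := by omega
      rw [show k + k + 2 - 2 * (k + 1) = 0 by omega, pow_zero, one_mul] at hP
      rcases hP with hP | hP
      · rw [hF, hP] at hs
        exact two_ne_zero_zmod hr hr2 hs.symm
      · obtain ⟨x, hx⟩ := ((Module.End.hasEigenvalue_iff_isRoot_charpoly A 1).2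
          (dvd_iff_isRoot.1 hP)).exists_hasEigenvector
        exact hx.2 (hfix x (by simpa using Module.End.mem_eigenspace_iff.1 hx.1))
    · exact (h a c hac).trans (emb_hyp_le _ (by omega))
  by_cases hc : (q : ZMod r) ^ (k + 1) = -1
  · rw [Nat.card_congr (Equiv.subtypeEquivRight (q := fun f : F[X] => f.Monic ∧ f.natDegree = k + k + 2 ∧
      (∀ s, Irreducible s → s ∣ f → s ∣ X ^ r - 1) ∧ f ≠ (X - Polynomial.C 1) ^ (k + k + 2) ∧ rdual f = f)
      fun f => by simp only [hc, true_or, and_true])]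
    have hsq : (q : ZMod r) ^ (2 * (k + 1)) = 1 := by rw [mul_comm, pow_mul, hc, neg_one_sq]
    have hd2 : i ∣ 2 * (k + 1) := hi ▸ orderOf_dvd_of_pow_eq_one hsq
    have hndvd : ¬ i ∣ k + 1 := fun h => two_ne_zero_zmod hr hr2
      ((orderOf_dvd_iff_pow_eq_one.1 (hi ▸ h)).symm.trans hc)
    have hodd : ¬ Odd i := fun h => hndvd ((Nat.coprime_two_right.2 h).dvd_of_dvd_mul_left hd2)
    rw [if_neg hodd, (hEven hodd).2.2, show k + k + 2 = 2 * (k + 1) by omega, if_neg, Nat.sub_zero]
    rintro ⟨-, w, hw⟩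
    obtain ⟨d, hd⟩ := hd2
    rw [hd, Nat.mul_div_cancel_left _ hi0] at hw
    refine hndvd ⟨w, ?_⟩
    rw [hw] at hd
    have : i * (w + w) = 2 * (i * w) := by ring
    omega
  · rw [Nat.card_congr (Equiv.subtypeEquivRight fun f => by simp only [hc, false_or]; exact Iff.rfl),
      show k + k + 2 = 2 * k + 1 + 1 by omega, card_with_factor rdual (dual_rdual hr.pos)]
    by_cases hodd : Odd i
    · obtain ⟨ht2, hcount⟩ := hOdd hodd
      rw [if_pos hodd, hcount, ← Nat.div_div_eq_div_mul, show (2 * k + 1) / 2 = k by omega]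
      by_cases hd : i ∣ k + 1
      · obtain ⟨d, hd'⟩ := hd
        have hd1 : 1 ≤ d := Nat.pos_of_ne_zero fun h => by simp [h] at hd'
        rw [if_pos ⟨d, hd'⟩]
        have e1 : (k + 1) / i = d := by rw [hd', Nat.mul_div_cancel_left _ hi0]
        have e2 : k / i = d - 1 := by
          have hs := Nat.succ_div_of_dvd (show i ∣ k + 1 from ⟨d, hd'⟩)
          omega
        rw [e1, e2, choose_pascal hd1 (by omega)]
        omega
      · rw [if_neg hd, Nat.sub_zero, Nat.succ_div_of_not_dvd hd]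
    · obtain ⟨ht1, hhalf, hcount⟩ := hEven hodd
      rw [if_neg hodd, hcount]
      by_cases hd : i ∣ 2 * (k + 1)
      · obtain ⟨d, hd'⟩ := hd
        have hd1 : 1 ≤ d := Nat.pos_of_ne_zero fun h => by simp [h] at hd'
        have he : Even d := by
          rcases Nat.even_or_odd d with h | h
          · exact h
          · exfalso
            refine hc ?_
            obtain ⟨u, hu⟩ := Nat.not_odd_iff_even.1 hodd
            have e : k + 1 = i / 2 * d := by
              rw [hu] at hd' ⊢
              rw [show (u + u) / 2 = u by omega]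
              have : (u + u) * d = 2 * (u * d) := by ring
              omega
            rw [e, pow_mul, hhalf, h.neg_one_pow]
        have e1 : 2 * (k + 1) / i = d := by rw [hd', Nat.mul_div_cancel_left _ hi0]
        have e2 : (2 * k + 1) / i = d - 1 := by
          have hs := Nat.succ_div_of_dvd (show i ∣ 2 * k + 1 + 1 from ⟨d, by omega⟩)
          rw [show 2 * k + 1 + 1 = 2 * (k + 1) by omega, e1] at hs
          omega
        rw [e1, if_pos ⟨⟨d, hd'⟩, he⟩, e2, choose_pascal hd1 ht1]
        omega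
      · rw [if_neg (fun h => hd h.1), Nat.sub_zero, show 2 * (k + 1) = 2 * k + 1 + 1 by omega,
          Nat.succ_div_of_not_dvd (show ¬ i ∣ 2 * k + 1 + 1 by rwa [show 2 * k + 1 + 1 = 2 * (k + 1) by omega])]

end Cfsg.Agent.S2675
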