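import Cfsg.Statements.S2676
import Cfsg.Agent.MatModule.SympUnipClasses

set_option autoImplicit false
open Classical
open Cfsg

namespace Cfsg.Agent.S2676

open Cfsg.Agent.FormClass Cfsg.Agent.MatModule in
theorem unipotent_count {F : Type*} [Field F] [Fintype F] {p : ℕ} [Fact p.Prime] [CharP F p] (hp : p ≠ 2) (m : ℕ) :
    Nat.card {C : ConjClasses ↥(Matrix.symplecticGroup (Fin m) F) //
      ∃ g : Matrix.symplecticGroup (Fin m) F, ConjClasses.mk g = C ∧ g ^ p = 1} =
    ∑ μ ∈ Finset.univ.filter (fun μ : Nat.Partition (2 * m) => (∀ a ∈ μ.parts, a ≤ p) ∧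
      ∀ j : ℕ, Odd j → Even (μ.parts.count j)), 2 ^ ((μ.parts.toFinset.filter (fun j : ℕ => Even j)).card) := by
  classical
  have h2 : (2 : F) ≠ 0 := Ring.two_ne_zero fun h => hp ((ringChar.eq F p).symm.trans h)
  set T := Finset.univ.filter (fun μ : Nat.Partition (2 * m) => (∀ a ∈ μ.parts, a ≤ p) ∧
      ∀ j : ℕ, Odd j → Even (μ.parts.count j)) with hTdef
  let ev : Nat.Partition (2 * m) → Finset ℕ := fun μ => μ.parts.toFinset.filter (fun j : ℕ => Even j)
  let Y := T.sigma fun μ => (ev μ).powerset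
  suffices h : Nat.card {C : ConjClasses ↥(Matrix.symplecticGroup (Fin m) F) //
      ∃ g : Matrix.symplecticGroup (Fin m) F, ConjClasses.mk g = C ∧ g ^ p = 1} = Nat.card {y // y ∈ Y} by
    rw [h, Nat.card_eq_fintype_card, Fintype.card_coe, Finset.card_sigma]
    exact Finset.sum_congr rfl fun μ _ => Finset.card_powerset _
  have hpow : ∀ g : Matrix.symplecticGroup (Fin m) F, g ^ p = 1 ↔ (Matrix.toLin' g.1 - 1) ^ p = 0 := by
    intro g
    rcases Nat.eq_zero_or_pos m with rfl | hm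
    · exact iff_of_true (Subsingleton.elim _ _) (Subsingleton.elim _ _)
    haveI : Nonempty (Fin m) := ⟨⟨0, hm⟩⟩
    haveI : CharP (Module.End F (Fin m ⊕ Fin m → F)) p :=
      charP_of_injective_algebraMap (FaithfulSMul.algebraMap_injective F _) p
    rw [sub_pow_char_of_commute _ (Commute.one_right _), one_pow, sub_eq_zero, ← Matrix.toLin'_pow,
      ← SubmonoidClass.coe_pow, Subtype.ext_iff, OneMemClass.coe_one, Module.End.one_eq_id, ← Matrix.toLin'_one]
    exact Matrix.toLin'.injective.eq_iff.symm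
  have hex : ∀ C : {C : ConjClasses ↥(Matrix.symplecticGroup (Fin m) F) //
      ∃ g : Matrix.symplecticGroup (Fin m) F, ConjClasses.mk g = C ∧ g ^ p = 1},
      ∃ y : {y // y ∈ Y}, ∃ g, ConjClasses.mk g = C.1 ∧ HasInv g y.1.1.parts y.1.2 := by
    rintro ⟨C, g, hg, hgp⟩
    have hd := (hpow g).1 hgp
    obtain ⟨μ, hμ0, hμ⟩ := exists_hasType _ hd
    have hsum : μ.sum = 2 * m := by rw [sum_eq_finrank hμ]; exact Cfsg.Agent.Classical.finrank_symp
    let P : Nat.Partition (2 * m) := ⟨μ, fun {i} hi => Nat.pos_of_ne_zero fun h => hμ0 (h ▸ hi), hsum⟩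
    let s : Finset ℕ := (ev P).filter fun e => DiscSq (Cfsg.Agent.Classical.sympB m F) (Matrix.toLin' g.1) e
    refine ⟨⟨⟨P, s⟩, Finset.mem_sigma.2 ⟨Finset.mem_filter.2 ⟨Finset.mem_univ _, (sub_one_pow_eq_zero_iff hμ p).1 hd,
      fun j hj => ?_⟩, Finset.mem_powerset.2 (Finset.filter_subset _ _)⟩⟩, g, hg, hμ0, hμ, fun e => ?_⟩
    · have hS := signed_symp g
      exact UniForm.even_count_odd_of_alt (ctx_of_signed (by ring : (-1 : F) * (-1) = 1) hS) hd
        Cfsg.Agent.Classical.sympB_isAlt hμ hj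
    · simp only [s, ev, P, Finset.mem_filter, Multiset.mem_toFinset]
      tauto
  choose f g hg hinv using hex
  refine Nat.card_eq_of_bijective f ⟨fun C D h => Subtype.ext ?_, fun y => ?_⟩
  · rw [← hg C, ← hg D]
    refine ConjClasses.mk_eq_mk_iff_isConj.2 (isConj_of_hasInv h2 (hinv C) ?_)
    rw [h]; exact hinv D
  · obtain ⟨⟨μ, s⟩, hy⟩ := y
    have hy' := Finset.mem_sigma.1 hy
    obtain ⟨hμp, hμo⟩ := (Finset.mem_filter.1 hy'.1).2
    have hs : ∀ e ∈ s, Even e ∧ e ∈ μ.parts := fun e he => by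
      have := Finset.mem_powerset.1 hy'.2 he
      simp only [ev, Finset.mem_filter, Multiset.mem_toFinset] at this
      exact ⟨this.2, this.1⟩
    obtain ⟨A, hA⟩ := exists_hasInv (F := F) h2 (fun h => lt_irrefl 0 (μ.parts_pos h)) μ.parts_sum hμo hs
    have hAp : A ^ p = 1 := (hpow A).2 ((sub_one_pow_eq_zero_iff hA.2.1 p).2 hμp)
    refine ⟨⟨ConjClasses.mk A, A, rfl, hAp⟩, ?_⟩
    have h' := hasInv_of_isConj (ConjClasses.mk_eq_mk_iff_isConj.1 (hg ⟨ConjClasses.mk A, A, rfl, hAp⟩))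
      (hinv ⟨ConjClasses.mk A, A, rfl, hAp⟩)
    obtain ⟨e1, e2⟩ := hasInv_unique h' hA
    refine Subtype.ext ?_
    generalize (f ⟨ConjClasses.mk A, A, rfl, hAp⟩).1 = z at e1 e2 ⊢
    obtain ⟨μ', s'⟩ := z
    obtain rfl : μ' = μ := Nat.Partition.ext e1
    subst e2
    rfl

/-- Number of conjugacy classes of elements of order p in Sp_2m(q), q a power of the odd prime p: the classes correspond to the signed partitions of 2m — partitions with all parts at most p in which every odd part has even multiplicity, each even part size that occurs carrying a sign — other than the all-ones partition; so the count is the sum over such partitions of 2^(number of distinct even parts), minus one. -/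
theorem result {F : Type*} [Field F] [Fintype F] {p : ℕ} [Fact p.Prime] [CharP F p] (hp : p ≠ 2) (m : ℕ) : Nat.card {C : ConjClasses ↥(Matrix.symplecticGroup (Fin m) F) // ∃ g : Matrix.symplecticGroup (Fin m) F, ConjClasses.mk g = C ∧ orderOf g = p} = (∑ μ ∈ Finset.univ.filter (fun μ : Nat.Partition (2 * m) => (∀ a ∈ μ.parts, a ≤ p) ∧ ∀ j : ℕ, Odd j → Even (μ.parts.count j)), 2 ^ ((μ.parts.toFinset.filter (fun j : ℕ => Even j)).card)) - 1 := by
  rw [← unipotent_count (F := F) hp m]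
  set G := ↥(Matrix.symplecticGroup (Fin m) F)
  set X : Set (ConjClasses G) := {C | ∃ g : G, ConjClasses.mk g = C ∧ g ^ p = 1}
  have hset : {C : ConjClasses G | ∃ g : G, ConjClasses.mk g = C ∧ orderOf g = p} = X \ {ConjClasses.mk 1} := by
    ext C
    constructor
    · rintro ⟨g, rfl, hg⟩
      obtain ⟨h1, h2⟩ := orderOf_eq_prime_iff.1 hg
      refine ⟨⟨g, rfl, h1⟩, fun h => h2 ?_⟩
      exact isConj_one_left.1 (ConjClasses.mk_eq_mk_iff_isConj.1 (Set.mem_singleton_iff.1 h))
    · rintro ⟨⟨g, rfl, h1⟩, h2⟩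
      exact ⟨g, rfl, orderOf_eq_prime_iff.2 ⟨h1, fun h => h2 (by rw [h]; rfl)⟩⟩
  change Nat.card {C : ConjClasses G | ∃ g : G, ConjClasses.mk g = C ∧ orderOf g = p} = Nat.card X - 1
  rw [Nat.card_coe_set_eq, Nat.card_coe_set_eq, hset]
  exact Set.ncard_diff_singleton_of_mem ⟨1, rfl, one_pow p⟩

end Cfsg.Agent.S2676
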