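import Cfsg.Statements.S2677
import Cfsg.Agent.AutPSU.FieldCount
import Cfsg.Agent.Classical.HermGroup

set_option autoImplicit false
open Cfsg

namespace Cfsg.Agent.S2677

/-- Centraliser of a field automorphism of odd prime order in PGU_n(q): let q = q₀^r with r an odd prime, K the field with q² elements and σ a field automorphism of K of order r (fixed field of order q₀²). The elements g of GU_n(q) whose entrywise image under σ is a scalar multiple of g — those whose coset modulo the q + 1 unitary scalars is fixed by σ — number (q + 1)/(q₀ + 1) · |GU_n(q₀)|; equivalently the centraliser in PGU_n(q) of the induced automorphism has the order of PGU_n(q₀). -/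
theorem result {K : Type*} [Field K] [Fintype K] {q₀ q r n : ℕ} (hr : r.Prime) (hr2 : r ≠ 2) (hn : 1 ≤ n) (hq : q = q₀ ^ r) (hK : Fintype.card K = q ^ 2) (σ : K ≃+* K) (hσ : orderOf σ = r) : (Nat.card {g : ↥(Cfsg.GU n K q) // ∃ c : K, c ≠ 0 ∧ ((g : GL (Fin n) K) : Matrix (Fin n) (Fin n) K).map σ = c • ((g : GL (Fin n) K) : Matrix (Fin n) (Fin n) K)} : ℤ) = ((q + 1) / (q₀ + 1) : ℕ) * ((q₀ : ℤ) ^ (n * (n - 1) / 2) * ∏ i : Fin n, ((q₀ : ℤ) ^ ((i : ℕ) + 1) - (-1) ^ ((i : ℕ) + 1))) := by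
  classical
  obtain ⟨p, hchar⟩ := CharP.exists K
  obtain ⟨e, hp, he⟩ := FiniteField.card K p
  haveI : Fact p.Prime := ⟨hp⟩
  obtain ⟨σK, hu⟩ := Cfsg.Agent.AutPSU.exists_uctx hK
  obtain ⟨f, -, hqf⟩ := (Nat.dvd_prime_pow hp).1 (show q ∣ p ^ (e : ℕ) by rw [← he, hK]; exact dvd_pow_self q two_ne_zero)
  obtain ⟨j, -, hq₀j⟩ := (Nat.dvd_prime_pow hp).1 (show q₀ ∣ p ^ f by rw [← hqf, hq]; exact dvd_pow_self q₀ hr.ne_zero)
  have hfj : f = j * r := by
    refine Nat.pow_right_injective hp.two_le ?_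
    show p ^ f = p ^ (j * r)
    rw [← hqf, hq, hq₀j, ← pow_mul]
  have hj : 1 ≤ j := by
    rcases Nat.eq_zero_or_pos j with h | h
    · have := hu.one_lt
      rw [hqf, hfj, h, zero_mul, pow_zero] at this
      omega
    · exact h
  have hf : 1 ≤ f := by rw [hfj]; exact Nat.mul_pos hj hr.pos
  have hodd : Odd r := hr.odd_of_ne_two hr2
  have hK2 : Fintype.card K = p ^ (2 * f) := by rw [hK, hqf, ← pow_mul, mul_comm]
  let F₀ := GaloisField p (2 * j)
  haveI : Fintype F₀ := Fintype.ofFinite F₀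
  have hF₀ : Fintype.card F₀ = p ^ (2 * j) := by
    rw [← Nat.card_eq_fintype_card]; exact GaloisField.card p _ (by omega)
  have hF₀q : Fintype.card F₀ = q₀ ^ 2 := by rw [hF₀, hq₀j, ← pow_mul, mul_comm]
  obtain ⟨σ₀, hu₀⟩ := Cfsg.Agent.AutPSU.exists_uctx hF₀q
  obtain ⟨i, hi⟩ := Cfsg.Agent.AutPSL.exists_fixed_embedding hK2 hσ (by rw [hfj]; exact Dvd.intro_left (2 * j) (by ring)) F₀
    (by rw [hF₀, hfj, ← mul_assoc, Nat.mul_div_cancel _ hr.pos])
  have hc : ∀ y, σK (i y) = i (σ₀ y) := fun y => by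
    obtain ⟨k, hk⟩ := hodd
    rw [hu.pow, ← map_pow, hu₀.pow]
    congr 1
    have e : q = Fintype.card F₀ ^ k * q₀ := by rw [hq, hF₀q, ← pow_mul, ← pow_succ, ← hk]
    rw [e, pow_mul, FiniteField.pow_card_pow]
  have key := Cfsg.Agent.AutPSU.card_twisted_fixed (n := n) hu hu₀ i hc hn hσ hi
  rw [Cfsg.Agent.Classical.card_GU_formula hu₀.toIsInvol hu₀.pow hu₀.card_fix] at key
  have hd : (q + 1) / (q₀ + 1) * (q₀ + 1) = q + 1 := Nat.div_mul_cancel (by
    have := hodd.nat_add_dvd_pow_add_pow q₀ 1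
    rwa [one_pow, ← hq] at this)
  rw [← hd, mul_right_comm] at key
  have key' := Nat.eq_of_mul_eq_mul_right (Nat.succ_pos _) key
  refine (congrArg (Nat.cast : ℕ → ℤ) key').trans ?_
  push_cast
  congr 2
  rw [Finset.prod_range]
  refine Finset.prod_congr rfl fun i _ => ?_
  by_cases h : Even (i : ℕ)
  · rw [if_pos h, pow_succ (-1 : ℤ), h.neg_one_pow]
    push_cast
    ring
  · rw [if_neg h, pow_succ (-1 : ℤ), (Nat.not_even_iff_odd.1 h).neg_one_pow, Nat.cast_sub (Nat.one_le_pow _ _ (by have := hu₀.one_lt; omega))]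
    push_cast
    ring

end Cfsg.Agent.S2677
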