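import Cfsg.Statements.S2680
import Cfsg.Agent.CharTwoInvol.Sp

set_option autoImplicit false
open Cfsg

namespace Cfsg.Agent.S2680

/-- Centraliser order of an involution t of Sp_2m(q), q even, with s = rank(t − 1) odd (type b_s): |C(t)| = q^(2ms − (3s² − s)/2) · |Sp_(s−1)(q)| · |Sp_(2m−2s)(q)|, where |Sp_2k(q)| = q^(k²) Π_(i=1)^k (q^(2i) − 1). -/
theorem result {F : Type*} [Field F] [Fintype F] [CharP F 2] {q : ℕ} (hF : Fintype.card F = q) {m s : ℕ} (t : Matrix.symplecticGroup (Fin m) F) (ht : t ^ 2 = 1) (hs : ((t : Matrix (Fin m ⊕ Fin m) (Fin m ⊕ Fin m) F) - 1).rank = s) (hodd : Odd s) : Nat.card ↥(Subgroup.centralizer ({t} : Set ↥(Matrix.symplecticGroup (Fin m) F))) = q ^ (2 * m * s - (3 * s ^ 2 - s) / 2) * ((q : ℕ) ^ (((s - 1) / 2) ^ 2) * ∏ i : Fin ((s - 1) / 2), (q ^ (2 * ((i : ℕ) + 1)) - 1)) * ((q : ℕ) ^ ((m - s) ^ 2) * ∏ i : Fin (m - s), (q ^ (2 * ((i : ℕ) + 1))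 - 1)) := by
  by_cases hna : ∃ v : Fin m ⊕ Fin m → F,
      Cfsg.sympForm m F v ((t : Matrix (Fin m ⊕ Fin m) (Fin m ⊕ Fin m) F).mulVec v) ≠ 0
  · obtain ⟨hle, -, h⟩ := Cfsg.Agent.CharTwoInvol.Sp.centralizer_one hF t ht hs hna
    obtain ⟨j, rfl⟩ := hodd
    rw [h, Cfsg.Agent.CharTwoInvol.card_matIso_one_odd hF j, show (2 * j + 1 - 1) / 2 = j by omega,
      Fin.prod_univ_eq_prod_range (fun i : ℕ => q ^ (2 * (i + 1)) - 1),
      Fin.prod_univ_eq_prod_range (fun i : ℕ => q ^ (2 * (i + 1)) - 1)]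
    congr 3
    obtain ⟨d, rfl⟩ : ∃ d, m = 2 * j + 1 + d := ⟨m - (2 * j + 1), by omega⟩
    have e1 : (2 * j + 1) * (2 * j + 1 + 1) / 2 = 2 * j * j + 3 * j + 1 := Nat.div_eq_of_eq_mul_left two_pos (by ring)
    have e2 : (3 * (2 * j + 1) ^ 2 - (2 * j + 1)) / 2 = 6 * j * j + 5 * j + 1 := by
      rw [show 3 * (2 * j + 1) ^ 2 = (6 * j * j + 5 * j + 1) * 2 + (2 * j + 1) by ring, Nat.add_sub_cancel,
        Nat.mul_div_cancel _ two_pos]
    rw [e1, e2, show 2 * j + 1 + d - (2 * j + 1) = d by omega]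
    refine (Nat.sub_eq_of_eq_add ?_).symm
    ring
  · push Not at hna
    obtain ⟨k, rfl, -, -⟩ := Cfsg.Agent.CharTwoInvol.Sp.centralizer_J hF t ht hs hna
    exact absurd hodd (by simp)

end Cfsg.Agent.S2680
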