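import Cfsg.Statements.S2681
import Cfsg.Agent.CharTwoInvol.Sp

set_option autoImplicit false
open Cfsg

namespace Cfsg.Agent.S2681

/-- Centraliser order of an involution t of Sp_2m(q), q even, with s = rank(t − 1) even and f(v, tv) = 0 for every v, f the symplectic form (type a_s): |C(t)| = q^(2ms − (3s² − s)/2) · |Sp_s(q)| · |Sp_(2m−2s)(q)|. -/
theorem result {F : Type*} [Field F] [Fintype F] [CharP F 2] {q : ℕ} (hF : Fintype.card F = q) {m s : ℕ} (t : Matrix.symplecticGroup (Fin m) F) (ht : t ^ 2 = 1) (ht1 : t ≠ 1) (hs : ((t : Matrix (Fin m ⊕ Fin m) (Fin m ⊕ Fin m) F) - 1).rank = s) (heven : Even s) (halt : ∀ v : Fin m ⊕ Fin m → F, Cfsg.sympForm m F v ((t : Matrix (Fin m ⊕ Fin m) (Fin m ⊕ Fin m) F).mulVec v) = 0) : Nat.card ↥(Subgroup.centralizer ({t} : Set ↥(Matrix.symplecticGroup (Fin m) F))) = q ^ (2 * m * s - (3 * s ^ 2 - s) / 2) * ((q : ℕ) ^ ((s / 2) ^ 2) * ∏ i : Fin (s / 2),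 (q ^ (2 * ((i : ℕ) + 1)) - 1)) * ((q : ℕ) ^ ((m - s) ^ 2) * ∏ i : Fin (m - s), (q ^ (2 * ((i : ℕ) + 1)) - 1)) := by
  obtain ⟨k, rfl, hle, h⟩ := Cfsg.Agent.CharTwoInvol.Sp.centralizer_J hF t ht hs halt
  rw [h, show 2 * k / 2 = k by omega,
    Fin.prod_univ_eq_prod_range (fun i : ℕ => q ^ (2 * (i + 1)) - 1),
    Fin.prod_univ_eq_prod_range (fun i : ℕ => q ^ (2 * (i + 1)) - 1)]
  congr 3
  obtain ⟨d, rfl⟩ : ∃ d, m = 2 * k + d := ⟨m - 2 * k, by omega⟩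
  have e1 : 2 * k * (2 * k + 1) / 2 = 2 * k * k + k := Nat.div_eq_of_eq_mul_left two_pos (by ring)
  have e2 : (3 * (2 * k) ^ 2 - 2 * k) / 2 = 6 * k * k - k := by
    rw [show 3 * (2 * k) ^ 2 = (6 * k * k) * 2 by ring, show 2 * k = k * 2 by ring, ← Nat.sub_mul,
      Nat.mul_div_cancel _ two_pos]
  rw [e1, e2, show 2 * k + d - 2 * k = d by omega]
  have hkk : k ≤ k * k := Nat.le_mul_self k
  have e3 : 2 * (2 * k + d) * (2 * k) = 8 * (k * k) + 4 * (k * d) := by ring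
  rw [e3, show 2 * k * k = 2 * (k * k) by ring, show 6 * k * k = 6 * (k * k) by ring,
    show 2 * (2 * k) * d = 4 * (k * d) by ring]
  omega

end Cfsg.Agent.S2681
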