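import Cfsg.Statements.S2682
import Cfsg.Agent.CharTwoInvol.Sp

set_option autoImplicit false
open Cfsg

namespace Cfsg.Agent.S2682

/-- Centraliser order of an involution t of Sp_2m(q), q even, with s = rank(t − 1) even and f(v, tv) ≠ 0 for some v, f the symplectic form (type c_s): |C(t)| = q^(2ms − (3s² − 3s)/2 − 1) · |Sp_(s−2)(q)| · |Sp_(2m−2s)(q)|. -/
theorem result {F : Type*} [Field F] [Fintype F] [CharP F 2] {q : ℕ} (hF : Fintype.card F = q) {m s : ℕ} (t : Matrix.symplecticGroup (Fin m) F) (ht : t ^ 2 = 1) (hs : ((t : Matrix (Fin m ⊕ Fin m) (Fin m ⊕ Fin m) F) - 1).rank = s) (heven : Even s) (hna : ∃ v : Fin m ⊕ Fin m → F, Cfsg.sympForm m F v ((t : Matrix (Fin m ⊕ Fin m) (Fin m ⊕ Fin m) F).mulVec v) ≠ 0) : Nat.card ↥(Subgroup.centralizer ({t} : Set ↥(Matrix.symplecticGroup (Fin m) F))) = q ^ (2 * m * s - (3 * s ^ 2 - 3 * s) / 2 - 1) * ((q : ℕ) ^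 (((s - 2) / 2) ^ 2) * ∏ i : Fin ((s - 2) / 2), (q ^ (2 * ((i : ℕ) + 1)) - 1)) * ((q : ℕ) ^ ((m - s) ^ 2) * ∏ i : Fin (m - s), (q ^ (2 * ((i : ℕ) + 1)) - 1)) := by
  obtain ⟨hle, hpos, h⟩ := Cfsg.Agent.CharTwoInvol.Sp.centralizer_one hF t ht hs hna
  obtain ⟨j, rfl⟩ := heven
  obtain ⟨k, rfl⟩ : ∃ k, j = k + 1 := ⟨j - 1, by omega⟩
  rw [show k + 1 + (k + 1) = 2 * k + 2 by ring] at h hle ⊢
  rw [h, Cfsg.Agent.CharTwoInvol.card_matIso_one_even hF k, show (2 * k + 2 - 2) / 2 = k by omega,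
    Fin.prod_univ_eq_prod_range (fun i : ℕ => q ^ (2 * (i + 1)) - 1),
    Fin.prod_univ_eq_prod_range (fun i : ℕ => q ^ (2 * (i + 1)) - 1), ← mul_assoc (q ^ _) (q ^ (2 * k + 1)), ← pow_add]
  congr 3
  obtain ⟨d, rfl⟩ : ∃ d, m = 2 * k + 2 + d := ⟨m - (2 * k + 2), by omega⟩
  have e1 : (2 * k + 2) * (2 * k + 2 + 1) / 2 = 2 * k * k + 5 * k + 3 := Nat.div_eq_of_eq_mul_left two_pos (by ring)
  have e2 : (3 * (2 * k + 2) ^ 2 - 3 * (2 * k + 2)) / 2 = 6 * k * k + 9 * k + 3 := by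
    rw [show 3 * (2 * k + 2) ^ 2 = (6 * k * k + 9 * k + 3) * 2 + 3 * (2 * k + 2) by ring, Nat.add_sub_cancel,
      Nat.mul_div_cancel _ two_pos]
  rw [e1, e2, show 2 * k + 2 + d - (2 * k + 2) = d by omega, Nat.sub_sub]
  refine (Nat.sub_eq_of_eq_add ?_).symm
  ring

end Cfsg.Agent.S2682
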