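import Cfsg.Statements.S2683
import Cfsg.Agent.CharTwoInvol.OrthStd

set_option autoImplicit false
open Cfsg

namespace Cfsg.Agent.S2683

/-- For the hyperbolic form Σ x_j y_j on F^(2m) over a finite field with q elements, q even (excluding m = 2 over the field of two elements), and an involution x of the orthogonal group with s = rank(x − 1) odd (type b_s; such x lie outside Ω): the elements of Ω (the commutator subgroup of the orthogonal group) commuting with x number q^(2m(s−1) − (3s² − 3s)/2) · |Sp_(s−1)(q)| · |Sp_(2m−2s)(q)|, where |Sp_2k(q)| = q^(k²) Π_(i=1)^k (q^(2i) − 1). -/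
theorem result {F : Type*} [Field F] [Fintype F] [CharP F 2] {q : ℕ} (hF : Fintype.card F = q) {m s : ℕ} (h : Fintype.card F ≠ 2 ∨ m ≠ 2) (x : ↥(Cfsg.isometryGroup F (Cfsg.quadFormPlus m F))) (hx : x ^ 2 = 1) (hs : (((x : Matrix.GeneralLinearGroup (Fin m ⊕ Fin m) F) : Matrix (Fin m ⊕ Fin m) (Fin m ⊕ Fin m) F) - 1).rank = s) (hodd : Odd s) : Nat.card {g : ↥(Cfsg.Omega F (Cfsg.quadFormPlus m F)) // (g : ↥(Cfsg.isometryGroup F (Cfsg.quadFormPlus m F))) * x = x * (g : ↥(Cfsg.isometryGroup F (Cfsg.quadFormPlus m F)))} = q ^ (2 * m * (s - 1) - (3 * s ^ 2 - 3 * s) / 2) * ((q : ℕ) ^ (((s - 1) / 2) ^ 2) * ∏ i : Fin ((s - 1) / 2), (q ^ (2 * ((i : ℕ) + 1)) - 1)) * ((q : ℕ) ^ ((m - s) ^ 2) * ∏ i : Fin (m - s), (q ^ (2 * ((i : ℕ) + 1)) - 1)) := by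
  revert x hx hs
  rw [← Cfsg.Agent.Classical.Quad.coe_plusQ]
  intro x hx hs
  by_cases hna : ∃ v, Cfsg.Agent.Classical.Quad.plusQ F m ((((x : Matrix.GeneralLinearGroup (Fin m ⊕ Fin m) F) :
      Matrix (Fin m ⊕ Fin m) (Fin m ⊕ Fin m) F) - 1).mulVec v) ≠ 0
  · obtain ⟨r, d, rfl, rfl, he⟩ := Cfsg.Agent.CharTwoInvol.Orth.plus_omega_comm_one hF h x hx hs hna
    obtain ⟨j, hj⟩ := hodd
    obtain rfl : r = 2 * j := by omega
    refine he.trans ?_
    rw [Cfsg.Agent.CharTwoInvol.card_matIso_one_odd hF j, show (2 * j + 1 - 1) / 2 = j by omega,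
      show 2 * j + d + 1 - (2 * j + 1) = d by omega,
      Fin.prod_univ_eq_prod_range (fun i : ℕ => q ^ (2 * (i + 1)) - 1),
      Fin.prod_univ_eq_prod_range (fun i : ℕ => q ^ (2 * (i + 1)) - 1)]
    congr 3
    have e1 : 2 * j * (2 * j - 1) / 2 + j = 2 * (j * j) := by
      rw [show 2 * j * (2 * j - 1) = (j * (2 * j - 1)) * 2 by ring, Nat.mul_div_cancel _ two_pos, Nat.mul_sub,
        mul_one, Nat.sub_add_cancel (by nlinarith [Nat.le_mul_self j])]
      ring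
    have e2 : (3 * (2 * j + 1) ^ 2 - 3 * (2 * j + 1)) / 2 = 6 * (j * j) + 3 * j := by
      rw [show 3 * (2 * j + 1) ^ 2 = (6 * (j * j) + 3 * j) * 2 + 3 * (2 * j + 1) by ring, Nat.add_sub_cancel,
        Nat.mul_div_cancel _ two_pos]
    rw [e2, show 2 * j + 1 - 1 = 2 * j by omega,
      show 2 * (2 * j + d + 1) * (2 * j) = 8 * (j * j) + 4 * (j * d) + 4 * j by ring,
      show 2 * j * (2 * d + 1) = 4 * (j * d) + 2 * j by ring]
    omega
  · push Not at hna
    obtain ⟨k, d, rfl, -, -⟩ := Cfsg.Agent.CharTwoInvol.Orth.plus_omega_comm_zero hF h x hx hs hna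
    exact absurd hodd (by simp)

end Cfsg.Agent.S2683
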