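import Cfsg.Statements.S2685
import Cfsg.Agent.CharTwoInvol.OrthStd

set_option autoImplicit false
open Cfsg

namespace Cfsg.Agent.S2685

/-- For the hyperbolic form Q = Σ x_j y_j on F^(2m) over a finite field with q elements, q even (excluding m = 2 over the field of two elements), and an involution x of the orthogonal group with s = rank(x − 1) even and Q not vanishing on the image of x − 1 (f(v, xv) ≠ 0 for some v, where f(u, w) = Q(u + w) − Q(u) − Q(w) is the bilinear form of Q; type c_s, which lies in Ω): its centraliser in Ω (the commutator subgroup of the orthogonal group) has order q^(2m(s−1) − (3s² − 5s)/2 − 1) · |Sp_(s−2)(q)| · |Sp_(2m−2s)(q)|. -/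
theorem result {F : Type*} [Field F] [Fintype F] [CharP F 2] {q : ℕ} (hF : Fintype.card F = q) {m s : ℕ} (h : Fintype.card F ≠ 2 ∨ m ≠ 2) (x : ↥(Cfsg.isometryGroup F (Cfsg.quadFormPlus m F))) (hx : x ^ 2 = 1) (hs : (((x : Matrix.GeneralLinearGroup (Fin m ⊕ Fin m) F) : Matrix (Fin m ⊕ Fin m) (Fin m ⊕ Fin m) F) - 1).rank = s) (heven : Even s) (hna : ∃ v : Fin m ⊕ Fin m → F, Cfsg.quadFormPlus m F ((((x : Matrix.GeneralLinearGroup (Fin m ⊕ Fin m) F) : Matrix (Fin m ⊕ Fin m) (Fin m ⊕ Fin m) F) - 1).mulVec v) ≠ 0) : Nat.card {g : ↥(Cfsg.Omega F (Cfsg.quadFormPlus m F)) // (g : ↥(Cfsg.isometryGroup F (Cfsg.quadFormPlus m F))) * x = x * (g : ↥(Cfsg.isometryGroup F (Cfsg.quadFormPlus m F)))} = q ^ (2 * m * (s - 1) - (3 * s ^ 2 - 5 * s) / 2 - 1) * ((q : ℕ) ^ (((s - 2) / 2) ^ 2) * ∏ i : Fin ((s - 2) / 2), (q ^ (2 * ((i : ℕ) + 1)) - 1)) * ((q : ℕ) ^ ((m - s) ^ 2) * ∏ i : Fin (m - s), (q ^ (2 * ((i : ℕ)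 + 1)) - 1)) := by
  revert x hx hs hna
  rw [← Cfsg.Agent.Classical.Quad.coe_plusQ]
  intro x hx hs hna
  obtain ⟨r, d, rfl, rfl, he⟩ := Cfsg.Agent.CharTwoInvol.Orth.plus_omega_comm_one hF h x hx hs hna
  obtain ⟨j, hj⟩ := heven
  obtain ⟨k, rfl⟩ : ∃ k, r = 2 * k + 1 := ⟨j - 1, by omega⟩
  refine he.trans ?_
  rw [show 2 * k + 1 + 1 = 2 * k + 2 by ring, Cfsg.Agent.CharTwoInvol.card_matIso_one_even hF k,
    show (2 * k + 2 - 2) / 2 = k by omega, show 2 * k + 1 + d + 1 - (2 * k + 2) = d by omega,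
    show 2 * k + 2 - 1 = 2 * k + 1 by omega,
    Fin.prod_univ_eq_prod_range (fun i : ℕ => q ^ (2 * (i + 1)) - 1),
    Fin.prod_univ_eq_prod_range (fun i : ℕ => q ^ (2 * (i + 1)) - 1), ← mul_assoc (q ^ _) (q ^ (2 * k + 1)), ← pow_add]
  congr 3
  have e1 : (2 * k + 1) * (2 * k + 1 - 1) / 2 = 2 * (k * k) + k := by
    rw [Nat.add_sub_cancel]
    exact Nat.div_eq_of_eq_mul_left two_pos (by ring)
  have e2 : (3 * (2 * k + 2) ^ 2 - 5 * (2 * k + 2)) / 2 = 6 * (k * k) + 7 * k + 1 := by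
    rw [show 3 * (2 * k + 2) ^ 2 = (6 * (k * k) + 7 * k + 1) * 2 + 5 * (2 * k + 2) by ring, Nat.add_sub_cancel,
      Nat.mul_div_cancel _ two_pos]
  rw [e1, e2, show 2 * (2 * k + 1 + d + 1) * (2 * k + 1) = 8 * (k * k) + 4 * (k * d) + 12 * k + 2 * d + 4 by ring,
    show (2 * k + 1) * (2 * d + 1) = 4 * (k * d) + 2 * k + 2 * d + 1 by ring]
  omega

end Cfsg.Agent.S2685
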