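import Cfsg.Statements.S2697
import Cfsg.Agent.AutPSL.Centralizers

set_option autoImplicit false
open Cfsg

namespace Cfsg.Agent.S2697

/-- Let T = PSL_n(F) be simple over a finite field (n ≥ 2; |F| ≥ 4 when n = 2) and let x be a field automorphism or a graph-field automorphism of T of prime order r. Then an element y of the coset Inndiag(T)·x (that is, y = δ x with δ in the inner-diagonal group, the image of PGL_n(F)) has order r if and only if y is conjugate to x by an element of Inndiag(T). -/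
theorem result {F : Type*} [Field F] [Fintype F] {p f : ℕ} [Fact p.Prime] (hF : Fintype.card F = p ^ f) (hf : 1 ≤ f) {n : ℕ} (hn : 2 ≤ n) (hs : n = 2 → 4 ≤ Fintype.card F) (x δ : MulAut (Matrix.ProjectiveSpecialLinearGroup (Fin n) F)) (hx : Cfsg.IsFieldAutClassPSL x ∨ Cfsg.IsGraphFieldAutClassPSL x) {r : ℕ} (hr : r.Prime) (hxr : orderOf x = r) (hδ : δ ∈ Cfsg.inndiagPSL n F) :
    orderOf (δ * x) = r ↔ Cfsg.IsConjUnder (Cfsg.inndiagPSL n F) x (δ * x) := by
  haveI : CharP F p := AutPSL.charP_of_card hF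
  haveI := AutPSL.inndiag_normal (F := F) p hn
  constructor
  · intro hy
    obtain ⟨α, σ, x0, hx0, hα, hform⟩ : ∃ α σ x0, σ ≠ (1 : F ≃+* F) ∧ α * x * α⁻¹ = x0 ∧
        (x0 = AutPSL.fieldA σ ∨ (3 ≤ n ∧ x0 = AutPSL.fieldA σ * AutPSL.iotaA)) := by
      rcases hx with ⟨α, σ, hσ, h⟩ | ⟨h3, α, φ, γ, σ, hσ, hφ, hγ, h⟩
      · exact ⟨α, σ, _, hσ, AutPSL.isStdField_iff.1 h, Or.inl rfl⟩
      · rw [AutPSL.isStdField_iff.1 hφ, AutPSL.isInverseTranspose_iff.1 hγ] at h
        exact ⟨α, σ, _, hσ, h, Or.inr ⟨h3, rfl⟩⟩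
    obtain ⟨h0, hh0, hxeq⟩ := AutPSL.conjUnder_of_conj hf hF hn hα hform
    have hx0r : orderOf x0 = r := by rw [← hα, AutPSL.orderOf_conj_eq, hxr]
    have hδ0 : h0⁻¹ * δ * h0 ∈ Cfsg.inndiagPSL n F := mul_mem (mul_mem (inv_mem hh0) hδ) hh0
    rw [AutPSL.inndiagPSL_eq] at hδ0
    obtain ⟨g, hg⟩ := hδ0
    have hy0 : δ * x = h0 * (AutPSL.conjA g * x0) * h0⁻¹ := by rw [hg, hxeq]; group
    have hord : orderOf (AutPSL.conjA g * x0) = r := by
      rw [← hy, hy0, AutPSL.orderOf_conj_eq]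
    have hpow : (AutPSL.conjA g * x0) ^ r = 1 := by rw [← hord]; exact pow_orderOf_eq_one _
    have key : Cfsg.IsConjUnder (Cfsg.inndiagPSL n F) x0 (AutPSL.conjA g * x0) := by
      rcases hform with rfl | ⟨h3, rfl⟩
      · exact AutPSL.coboundary_field p hn
          (by rw [← hx0r, orderOf_injective _ (AutPSL.fieldA_injective p hn)]) g hpow
      · obtain ⟨hr2, hσ2⟩ := AutPSL.graphField_order p h3 hx0 hr hx0r
        subst hr2
        exact AutPSL.coboundary_graph p h3 hσ2 g hpow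
    exact AutPSL.isConjUnder_trans (AutPSL.isConjUnder_symm ⟨h0, hh0, hxeq⟩)
      (AutPSL.isConjUnder_trans key ⟨h0, hh0, hy0⟩)
  · rintro ⟨h, -, e⟩
    rw [e, AutPSL.orderOf_conj_eq, hxr]

end Cfsg.Agent.S2697
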