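import Cfsg.Statements.S2698
import Cfsg.Agent.AutPSL.Centralizers

set_option autoImplicit false
open Cfsg

namespace Cfsg.Agent.S2698

/-- Let T = PSL_n(F) be simple over the field F with p^f elements (n ≥ 2; p^f ≥ 4 when n = 2), G = Inndiag(T) the image of PGL_n(F) in Aut(T), and x a field automorphism of T of prime order r. Then r divides f; the centralizer C_G(x) is isomorphic to PGL_n(F₀) for the subfield size |F₀| = p^(f/r); and the G-class of x is the union of exactly gcd(n, (p^f − 1)/(p^(f/r) − 1)) classes under conjugation by T (the inner automorphism group). -/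
theorem result {F : Type*} [Field F] [Fintype F] {p f : ℕ} [Fact p.Prime] (hF : Fintype.card F = p ^ f) (hf : 1 ≤ f) {n : ℕ} (hn : 2 ≤ n) (hs : n = 2 → 4 ≤ Fintype.card F) (x : MulAut (Matrix.ProjectiveSpecialLinearGroup (Fin n) F)) (hx : Cfsg.IsFieldAutClassPSL x) {r : ℕ} (hr : r.Prime) (hxr : orderOf x = r) (F₀ : Type*) [Field F₀] [Fintype F₀] (hF₀ : Fintype.card F₀ = p ^ (f / r)) :
    r ∣ f ∧ Nonempty (↥(Cfsg.inndiagPSL n F ⊓ Subgroup.centralizer {x}) ≃* Matrix.ProjGenLinGroup (Fin n) F₀) ∧ Cfsg.splitClassCount (Cfsg.inndiagPSL n F) (Cfsg.Inn (Matrix.ProjectiveSpecialLinearGroup (Fin n) F)) x = Nat.gcd n ((p ^ f - 1) / (p ^ (f / r) - 1)) := by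
  classical
  haveI : CharP F p := AutPSL.charP_of_card hF
  obtain ⟨α, σ, hσ, h⟩ := hx
  rw [AutPSL.isStdField_iff] at h
  have hσr : orderOf σ = r := by
    rw [← orderOf_injective _ (AutPSL.fieldA_injective (n := n) p hn), ← h, AutPSL.orderOf_conj_eq, hxr]
  obtain ⟨hcyc, hgal⟩ := AutPSL.card_gal (F := F) hf hF
  have hrf : r ∣ f := by rw [← hgal, ← hσr]; exact orderOf_dvd_natCard σ
  have hconj := AutPSL.conjUnder_of_conj hf hF hn h (σ := σ) (Or.inl rfl)
  obtain ⟨i, hi⟩ := AutPSL.exists_fixed_embedding hF hσr hrf F₀ hF₀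
  have hS := AutPSL.centralizer_field p hn hσr i hi
  refine ⟨hrf, ?_, ?_⟩
  · obtain ⟨e1⟩ := AutPSL.centralizer_inf_congr hconj
    obtain ⟨e2⟩ := AutPSL.centralizer_iso p hn (Matrix.GeneralLinearGroup.map (n := Fin n) i)
      (Subgroup.center (GL (Fin n) F₀)) (AutPSL.center_comap_map (by omega) i) hS
    exact ⟨e1.trans e2⟩
  · rw [AutPSL.splitClassCount_conj _ hconj, AutPSL.split_eq_det_index p hn _ _ hS,
      AutPSL.det_range_map (by omega) i]
    refine AutPSL.index_pow_sup n _ ?_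
    rw [AutPSL.card_range_units_map, hF₀, hF]
    refine Nat.div_mul_cancel ?_
    have hdvd := Subgroup.card_subgroup_dvd_card (Units.map (i : F₀ →* F)).range
    rwa [AutPSL.card_range_units_map, Classical.card_units_field, hF₀, hF] at hdvd

end Cfsg.Agent.S2698
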