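import Cfsg.Statements.S2699
import Cfsg.Agent.AutPSL.Graph

set_option autoImplicit false
open Cfsg
open scoped MatrixGroups

namespace Cfsg.Agent.S2699

open GraphForms

/-- Let T = PSL_n(F) over the field with p^f elements with n ≥ 3 odd, n = 2m + 1, and G = Inndiag(T) the image of PGL_n(F). Every involutory graph automorphism γ of T (an inner-diagonal automorphism followed by inverse-transpose, of order 2) has centralizer C_G(γ) isomorphic to the projective conformal orthogonal group of the form x₀² + Σ xᵢ yᵢ in dimension n (for q even this group is isomorphic to Sp_{n−1}(q)), and any two involutory graph automorphisms are G-conjugate. -/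
theorem result {F : Type*} [Field F] [Fintype F] {p f : ℕ} [Fact p.Prime] (hF : Fintype.card F = p ^ f) (hf : 1 ≤ f) {n : ℕ} (hn : 3 ≤ n) {m : ℕ} (hnm : n = 2 * m + 1) (γ γ' : MulAut (Matrix.ProjectiveSpecialLinearGroup (Fin n) F)) (hγ : Cfsg.IsGraphAutClassPSL γ) (hγ2 : orderOf γ = 2) (hγ' : Cfsg.IsGraphAutClassPSL γ') (hγ'2 : orderOf γ' = 2) :
    Nonempty (↥(Cfsg.inndiagPSL n F ⊓ Subgroup.centralizer {γ}) ≃* Cfsg.PGO F (Cfsg.quadFormOdd m F)) ∧ Cfsg.IsConjUnder (Cfsg.inndiagPSL n F) γ γ' := by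
  haveI : CharP F p := AutPSL.charP_of_card hF
  obtain ⟨g, rfl, hg⟩ := AutPSL.graph_cases p hγ hγ2
  obtain ⟨g', rfl, hg'⟩ := AutPSL.graph_cases p hγ' hγ'2
  have key : ∀ g : GL (Fin n) F, AutPSL.IsSignSymm g →
      (Nonempty (Cfsg.projQuot (simG (mval g⁻¹)) ≃* Cfsg.PGO F (Cfsg.quadFormOdd m F))) ∧
        ∀ g' : GL (Fin n) F, AutPSL.IsSignSymm g' → Sim (mval g⁻¹) (mval g'⁻¹) := by
    by_cases h2 : (2 : F) = 0
    · haveI : CharP F 2 := CharTwo.of_one_ne_zero_of_two_eq_zero one_ne_zero h2
      have hsym : ∀ g : GL (Fin n) F, AutPSL.IsSignSymm g → Sim (mval g⁻¹) (oddM2 F m) := fun g hg => by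
        have hd := Matrix.GeneralLinearGroup.det_ne_zero g⁻¹
        refine nonAlt_sim ?_ oddM2_symm hd oddM2_det (fun hA => ?_) oddM2_nonAlt (by simp; omega)
        · rcases AutPSL.signSymm_inv hg with h | h
          · exact h
          · rwa [neg_mat] at h
        · obtain ⟨k, hk, -⟩ := alt_sim hA hd
          rw [Fintype.card_fin] at hk
          omega
      exact fun g hg => ⟨((hsym g hg).projQuot_equiv.some.trans odd_char_two_sim.some).trans
        pgo_odd_char_two.some.symm |> Nonempty.intro, fun g' hg' => (hsym g hg).trans (hsym g' hg').symm⟩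
    · have hsym : ∀ g : GL (Fin n) F, AutPSL.IsSignSymm g → Sim (mval g⁻¹) (oddM F m) := fun g hg => by
        have hd := Matrix.GeneralLinearGroup.det_ne_zero g⁻¹
        refine sym_sim h2 ?_ (polMat_symm _) hd (polMat_det (nondeg_qOdd h2)) (by simp; omega)
          (Or.inl ⟨m, by simp; omega⟩)
        rcases AutPSL.signSymm_inv hg with h | h
        · exact h
        · obtain ⟨k, hk, -⟩ := alt_sim (skew_isAlt h2 h) hd
          rw [Fintype.card_fin] at hk
          omega
      exact fun g hg => ⟨⟨(hsym g hg).projQuot_equiv.some.trans (pgo_odd h2).some⟩,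
        fun g' hg' => (hsym g hg).trans (hsym g' hg').symm⟩
  exact ⟨⟨(AutPSL.graph_centralizer p (by omega) g).some.trans (key g hg).1.some⟩,
    (AutPSL.conjUnder_iff p (by omega) g g').2 ((key g hg).2 g' hg')⟩

end Cfsg.Agent.S2699
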