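import Cfsg.Statements.S2700
import Cfsg.Agent.AutPSL.Graph

set_option autoImplicit false
open Cfsg
open scoped MatrixGroups

namespace Cfsg.Agent.S2700

open GraphForms

/-- Let T = PSL_n(F) over a finite field of odd order with n = 2m ≥ 4 even, and G = Inndiag(T) the image of PGL_n(F). The involutory graph automorphisms of T fall into exactly three G-classes, with representatives γ₁, γ₂, γ₃ whose centralizers in G are isomorphic respectively to the projective conformal symplectic group PGSp_n(F), the projective conformal orthogonal group of the plus-type form Σ xᵢ yᵢ, and that of a minus-type form Σ xᵢ yᵢ + z₁² + a z₁ z₂ + b z₂² (anisotropic binary part) in dimension n. -/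
theorem result {F : Type*} [Field F] [Fintype F] (hodd : Odd (Fintype.card F)) {n m : ℕ} (hm : 2 ≤ m) (hnm : n = 2 * m) :
    ∃ (γ₁ γ₂ γ₃ : MulAut (Matrix.ProjectiveSpecialLinearGroup (Fin n) F)) (a b : F), (∀ z₁ z₂ : F, z₁ ^ 2 + a * z₁ * z₂ + b * z₂ ^ 2 = 0 → z₁ = 0 ∧ z₂ = 0) ∧ Cfsg.IsGraphAutClassPSL γ₁ ∧ orderOf γ₁ = 2 ∧ Cfsg.IsGraphAutClassPSL γ₂ ∧ orderOf γ₂ = 2 ∧ Cfsg.IsGraphAutClassPSL γ₃ ∧ orderOf γ₃ = 2 ∧ ¬ Cfsg.IsConjUnder (Cfsg.inndiagPSL n F) γ₁ γ₂ ∧ ¬ Cfsg.IsConjUnder (Cfsg.inndiagPSL n F) γ₁ γ₃ ∧ ¬ Cfsg.IsConjUnder (Cfsg.inndiagPSL n F) γ₂ γ₃ ∧ (∀ γ : MulAut (Matrix.ProjectiveSpecialLinearGroup (Fin n) F), Cfsg.IsGraphAutClassPSL γ → orderOf γ = 2 → Cfsg.IsConjUnder (Cfsg.inndiagPSL n F) γ₁ γ ∨ Cfsg.IsConjUnder (Cfsg.inndiagPSL n F) γ₂ γ ∨ Cfsg.IsConjUnder (Cfsg.inndiagPSL n F) γ₃ γ) ∧ Nonempty (↥(Cfsg.inndiagPSL n F ⊓ Subgroup.centralizer {γ₁}) ≃* Cfsg.PGSp m F) ∧ Nonempty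 (↥(Cfsg.inndiagPSL n F ⊓ Subgroup.centralizer {γ₂}) ≃* Cfsg.PGO F (Cfsg.quadFormPlus m F)) ∧ Nonempty (↥(Cfsg.inndiagPSL n F ⊓ Subgroup.centralizer {γ₃}) ≃* Cfsg.PGO F (Cfsg.quadFormMinus (m - 1) F a b)) := by
  obtain ⟨p, _⟩ := CharP.exists F
  haveI : Fact p.Prime := ⟨CharP.char_is_prime F p⟩
  have h2 := AutPOmega.two_ne_zero_of_odd hodd
  obtain ⟨ζ, hζ⟩ := Classical.Quad.exists_rootfree (F := F)
  have hab := Classical.Quad.rootfree_aniso hζ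
  have hn3 : 3 ≤ n := by omega
  obtain ⟨g₁, hs₁, e₁⟩ := AutPSL.exists_rep (n := n) (J_det_ne_zero (K := F) m) (by simp; omega)
    (Or.inr (J_transpose' m))
  obtain ⟨g₂, hs₂, e₂⟩ := AutPSL.exists_rep (n := n) (polMat_det (nondeg_qPlus (K := F) (m := m))) (by simp; omega)
    (Or.inl (polMat_symm _))
  obtain ⟨g₃, hs₃, e₃⟩ := AutPSL.exists_rep (n := n) (polMat_det (nondeg_qMinus (m := m - 1) hab)) (by simp; omega)
    (Or.inl (polMat_symm _))
  have i := fun g g' : GL (Fin n) F => AutPSL.conjUnder_iff p (by omega : 2 ≤ n) g g'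
  refine ⟨_, _, _, 1, ζ, hab, (AutPSL.graph_of_symm p hn3 hs₁).1, (AutPSL.graph_of_symm p hn3 hs₁).2,
    (AutPSL.graph_of_symm p hn3 hs₂).1, (AutPSL.graph_of_symm p hn3 hs₂).2,
    (AutPSL.graph_of_symm p hn3 hs₃).1, (AutPSL.graph_of_symm p hn3 hs₃).2, ?_, ?_, ?_, ?_, ?_, ?_, ?_⟩
  · rw [i]
    intro h
    haveI : Nonempty (Fin m ⊕ Fin m) := ⟨Sum.inl ⟨0, by omega⟩⟩
    exact (not_sim_J_sym h2 (polMat_symm _) (polMat_det nondeg_qPlus)).resolve_right (not_isEmpty_of_nonempty _)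
      (e₁.symm.trans (h.trans e₂))
  · rw [i]
    intro h
    haveI : Nonempty ((Fin (m - 1) ⊕ Fin (m - 1)) ⊕ Fin 2) := ⟨Sum.inr 0⟩
    exact (not_sim_J_sym h2 (polMat_symm _) (polMat_det (nondeg_qMinus hab))).resolve_right (not_isEmpty_of_nonempty _)
      (e₁.symm.trans (h.trans e₃))
  · rw [i]
    exact fun h => not_sim_plus_minus hodd (by omega) hab (e₂.symm.trans (h.trans e₃))
  · intro γ hγ ho
    obtain ⟨g, rfl, hg⟩ := AutPSL.graph_cases p hγ ho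
    rw [i, i, i]
    rcases even_three hodd (Matrix.GeneralLinearGroup.det_ne_zero g⁻¹) (AutPSL.signSymm_inv hg)
      (by omega : 1 ≤ m) (by rw [Fintype.card_fin]; exact hnm) hab with h | h | h
    · exact Or.inl (e₁.trans h.symm)
    · exact Or.inr (Or.inl (e₂.trans h.symm))
    · exact Or.inr (Or.inr (e₃.trans h.symm))
  · exact ⟨((AutPSL.graph_centralizer p (by omega) g₁).some.trans e₁.projQuot_equiv.some).trans pgsp_equiv.some⟩
  · exact ⟨((AutPSL.graph_centralizer p (by omega) g₂).some.trans e₂.projQuot_equiv.some).trans (pgo_plus h2).some⟩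
  · exact ⟨((AutPSL.graph_centralizer p (by omega) g₃).some.trans e₃.projQuot_equiv.some).trans
      (pgo_minus h2 1 ζ).some⟩

end Cfsg.Agent.S2700
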