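import Cfsg.Statements.S2701
import Cfsg.Agent.AutPSL.Graph

set_option autoImplicit false
open Cfsg
open scoped MatrixGroups

namespace Cfsg.Agent.S2701

open GraphForms

/-- Let T = PSL_n(F) over a finite field of characteristic 2 with n = 2m ≥ 4 even, and G = Inndiag(T) the image of PGL_n(F). The involutory graph automorphisms of T fall into exactly two G-classes, with representatives γ₁ and γ₃ whose centralizers in G are isomorphic respectively to the symplectic group Sp_n(F) and to the centralizer in Sp_n(F) of a symplectic transvection. -/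
theorem result {F : Type*} [Field F] [Fintype F] [CharP F 2] {n m : ℕ} (hm : 2 ≤ m) (hnm : n = 2 * m) :
    ∃ (γ₁ γ₃ : MulAut (Matrix.ProjectiveSpecialLinearGroup (Fin n) F)) (t : ↥(Matrix.symplecticGroup (Fin m) F)), Cfsg.IsTransvection (t : Matrix (Fin m ⊕ Fin m) (Fin m ⊕ Fin m) F) ∧ Cfsg.IsGraphAutClassPSL γ₁ ∧ orderOf γ₁ = 2 ∧ Cfsg.IsGraphAutClassPSL γ₃ ∧ orderOf γ₃ = 2 ∧ ¬ Cfsg.IsConjUnder (Cfsg.inndiagPSL n F) γ₁ γ₃ ∧ (∀ γ : MulAut (Matrix.ProjectiveSpecialLinearGroup (Fin n) F), Cfsg.IsGraphAutClassPSL γ → orderOf γ = 2 → Cfsg.IsConjUnder (Cfsg.inndiagPSL n F) γ₁ γ ∨ Cfsg.IsConjUnder (Cfsg.inndiagPSL n F) γ₃ γ) ∧ Nonempty (↥(Cfsg.inndiagPSL n F ⊓ Subgroup.centralizer {γ₁}) ≃* ↥(Matrix.symplecticGroup (Fin m) F)) ∧ Nonempty (↥(Cfsg.inndiagPSL n F ⊓ Subgroup.centralizer {γ₃}) ≃* ↥(Subgroup.centralizer ({t} : Set ↥(Matrix.symplecticGroup (Fin m) F)))) := by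
  haveI : Fact (Nat.Prime 2) := ⟨Nat.prime_two⟩
  have hm1 : 1 ≤ m := by omega
  obtain ⟨g₁, hs₁, e₁⟩ := AutPSL.exists_rep (n := n) (J_det_ne_zero (K := F) m) (by simp; omega)
    (Or.inr (J_transpose' m))
  obtain ⟨g₃, hs₃, e₃⟩ := AutPSL.exists_rep (n := n) (evenM2_det (K := F) hm1) (by simp; omega)
    (Or.inl (evenM2_symm hm1))
  have i := fun g g' : GL (Fin n) F => AutPSL.conjUnder_iff 2 (by omega : 2 ≤ n) g g'
  refine ⟨_, _, ⟨transv F m hm1, transv_mem hm1⟩, transv_isTransvection hm1,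
    (AutPSL.graph_of_symm 2 (by omega) hs₁).1, (AutPSL.graph_of_symm 2 (by omega) hs₁).2,
    (AutPSL.graph_of_symm 2 (by omega) hs₃).1, (AutPSL.graph_of_symm 2 (by omega) hs₃).2, ?_, ?_, ?_, ?_⟩
  · rw [i]
    exact fun h => evenM2_nonAlt hm1 ((e₁.symm.trans (h.trans e₃)).isAlt (J_isAlt m))
  · intro γ hγ ho
    obtain ⟨g, rfl, hg⟩ := AutPSL.graph_cases 2 hγ ho
    rw [i, i]
    have hd := Matrix.GeneralLinearGroup.det_ne_zero g⁻¹
    by_cases hA : IsAltMat (mval g⁻¹)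
    · obtain ⟨k, hk, h⟩ := alt_sim hA hd
      rw [Fintype.card_fin] at hk
      obtain rfl : k = m := by omega
      exact Or.inl (e₁.trans h.symm)
    · refine Or.inr (e₃.trans (nonAlt_sim ?_ (evenM2_symm hm1) hd (evenM2_det hm1) hA (evenM2_nonAlt hm1)
        (by simp; omega)).symm)
      rcases AutPSL.signSymm_inv hg with h | h
      · exact h
      · rwa [neg_mat] at h
  · exact ⟨((AutPSL.graph_centralizer 2 (by omega) g₁).some.trans e₁.projQuot_equiv.some).trans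
      (symp_char_two hm1).some⟩
  · exact ⟨((AutPSL.graph_centralizer 2 (by omega) g₃).some.trans e₃.projQuot_equiv.some).trans
      (even_char_two_sim hm1).some⟩

end Cfsg.Agent.S2701
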