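import Cfsg.Statements.S2702
import Cfsg.Agent.AutPSL.Graph

set_option autoImplicit false
open Cfsg
open scoped MatrixGroups

namespace Cfsg.Agent.S2702

open GraphForms

/-- Let T = PSL_n(F) over the field with q = p^f elements, n ≥ 3, G = Inndiag(T) the image of PGL_n(F), and γ an involutory graph automorphism of T. The G-class of γ is the union of exactly c T-classes, where: if n is even and q is odd, c = gcd(n/2, q − 1) when C_G(γ) is isomorphic to the projective conformal symplectic group PGSp_n(F) (symplectic type) and c = gcd(n, q − 1)/2 otherwise; and c = gcd(n, q − 1) when n is odd or q is even. -/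
theorem result {F : Type*} [Field F] [Fintype F] {p f : ℕ} [Fact p.Prime] (hF : Fintype.card F = p ^ f) (hf : 1 ≤ f) {n : ℕ} (hn : 3 ≤ n) (γ : MulAut (Matrix.ProjectiveSpecialLinearGroup (Fin n) F)) (hγ : Cfsg.IsGraphAutClassPSL γ) (hγ2 : orderOf γ = 2) :
    ((Even n ∧ Odd p ∧ Nonempty (↥(Cfsg.inndiagPSL n F ⊓ Subgroup.centralizer {γ}) ≃* Cfsg.PGSp (n / 2) F)) → Cfsg.splitClassCount (Cfsg.inndiagPSL n F) (Cfsg.Inn (Matrix.ProjectiveSpecialLinearGroup (Fin n) F)) γ = Nat.gcd (n / 2) (p ^ f - 1)) ∧ ((Even n ∧ Odd p ∧ ¬ Nonempty (↥(Cfsg.inndiagPSL n F ⊓ Subgroup.centralizer {γ}) ≃* Cfsg.PGSp (n / 2) F)) → Cfsg.splitClassCount (Cfsg.inndiagPSL n F) (Cfsg.Inn (Matrix.ProjectiveSpecialLinearGroup (Fin n) F)) γ = Nat.gcd n (p ^ f - 1) / 2) ∧ (¬ (Even n ∧ Odd p) → Cfsg.splitClassCount (Cfsg.inndiagPSL n F) (Cfsg.Inn (Matrix.ProjectiveSpecialLinearGroup (Fin n) F)) γ = Nat.gcd n (p ^ f - 1)) := by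
  haveI : CharP F p := AutPSL.charP_of_card hF
  obtain ⟨g, rfl, hg⟩ := AutPSL.graph_cases p hγ hγ2
  have hd := Matrix.GeneralLinearGroup.det_ne_zero g⁻¹
  have hcard : Nat.card Fˣ = p ^ f - 1 := AutPSL.card_units_eq p hF
  have hp2 : Odd p → (2 : F) ≠ 0 := fun ho => AutPOmega.two_ne_zero_of_odd (by rw [hF]; exact ho.pow)
  -- the two types in even dimension and odd characteristic
  have htype : Even n → Odd p →
      (Sim (mval g⁻¹) (Matrix.J (Fin (n / 2)) F) ∧
        Nonempty (↥(Cfsg.inndiagPSL n F ⊓ Subgroup.centralizer {(AutPSL.conjA g * AutPSL.iotaA)}) ≃*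
          Cfsg.PGSp (n / 2) F)) ∨
      ((mval g⁻¹).transpose = mval g⁻¹ ∧
        ¬ Nonempty (↥(Cfsg.inndiagPSL n F ⊓ Subgroup.centralizer {(AutPSL.conjA g * AutPSL.iotaA)}) ≃*
          Cfsg.PGSp (n / 2) F)) := by
    intro he ho
    obtain ⟨m, rfl⟩ := he
    rw [show (m + m) / 2 = m by omega]
    have hodd : Odd (Fintype.card F) := by rw [hF]; exact ho.pow
    obtain ⟨ζ, hζ⟩ := Classical.Quad.exists_rootfree (F := F)
    have hab := Classical.Quad.rootfree_aniso hζ
    have hC := (AutPSL.graph_centralizer p (by omega) g).some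
    have hne : ∀ {κ : Type} [Fintype κ] [DecidableEq κ] (M : Matrix κ κ F), M.transpose = M →
        Sim (mval g⁻¹) M → (mval g⁻¹).transpose = mval g⁻¹ := fun M hM h => by
      simpa using h.symm.transpose (ε := (1 : F)) (by rw [hM, one_smul])
    rcases even_three hodd hd (AutPSL.signSymm_inv hg) (m := m) (by omega)
      (by rw [Fintype.card_fin]; omega) hab with h | h | h
    · exact Or.inl ⟨h, ⟨(hC.trans h.projQuot_equiv.some).trans pgsp_equiv.some⟩⟩
    · refine Or.inr ⟨hne _ (polMat_symm _) h, fun ⟨e⟩ => (pgsp_ne_orth (m := m) hodd (by omega) hab).1 ?_⟩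
      exact Nat.card_congr (((pgsp_equiv.some.trans e.symm).trans hC).trans h.projQuot_equiv.some).toEquiv
    · refine Or.inr ⟨hne _ (polMat_symm _) h, fun ⟨e⟩ => (pgsp_ne_orth (m := m) hodd (by omega) hab).2 ?_⟩
      exact Nat.card_congr (((pgsp_equiv.some.trans e.symm).trans hC).trans h.projQuot_equiv.some).toEquiv
  refine ⟨fun ⟨he, ho, hiso⟩ => ?_, fun ⟨he, ho, hiso⟩ => ?_, fun h => ?_⟩
  · rcases htype he ho with ⟨h, -⟩ | ⟨-, h⟩
    · rw [AutPSL.split_symp p (by omega) h, hcard]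
    · exact absurd hiso h
  · rcases htype he ho with ⟨-, h⟩ | ⟨h, -⟩
    · exact absurd h hiso
    · rw [AutPSL.split_orth p (by omega) (hp2 ho) (m := n / 2) (by obtain ⟨m, rfl⟩ := he; omega) h, hcard]
  · rw [← hcard]
    rcases (Fact.out : p.Prime).eq_two_or_odd' with rfl | ho
    · refine AutPSL.split_small 2 (by omega) (fun k c _ => exists_sqrt (c : F)) (Or.inr ?_)
      exact CharTwo.neg_eq (1 : F)
    · have hno : Odd n := Nat.not_even_iff_odd.1 fun he => h ⟨he, ho⟩
      exact AutPSL.split_small p (by omega)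
        (fun k c hk => odd_mult_square hd (by rwa [Fintype.card_fin]) hk) (Or.inl hno)

end Cfsg.Agent.S2702
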