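import Cfsg.Statements.S2703
import Cfsg.Agent.AutPSL.Graph

set_option autoImplicit false
open Cfsg
open scoped MatrixGroups

namespace Cfsg.Agent.S2703

open GraphForms

/-- Let T = PSL_n(F) over the field with q elements, q odd, n = 2m ≥ 4 even, and ι the inverse-transpose automorphism. Its centralizer in G = Inndiag(T) (the image of PGL_n(F)) is isomorphic to the projective conformal orthogonal group of the plus-type form Σ xᵢ yᵢ in dimension n when n(q − 1)/4 is even, and to that of a minus-type form (Σ xᵢ yᵢ + z₁² + a z₁ z₂ + b z₂² with anisotropic binary part) when n(q − 1)/4 is odd. -/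
theorem result {F : Type*} [Field F] [Fintype F] (hodd : Odd (Fintype.card F)) {n m : ℕ} (hm : 2 ≤ m) (hnm : n = 2 * m) (ι : MulAut (Matrix.ProjectiveSpecialLinearGroup (Fin n) F)) (hι : Cfsg.IsInverseTransposeAutPSL ι) :
    (Even (n * (Fintype.card F - 1) / 4) → Nonempty (↥(Cfsg.inndiagPSL n F ⊓ Subgroup.centralizer {ι}) ≃* Cfsg.PGO F (Cfsg.quadFormPlus m F))) ∧ (¬ Even (n * (Fintype.card F - 1) / 4) → ∃ a b : F, (∀ z₁ z₂ : F, z₁ ^ 2 + a * z₁ * z₂ + b * z₂ ^ 2 = 0 → z₁ = 0 ∧ z₂ = 0) ∧ Nonempty (↥(Cfsg.inndiagPSL n F ⊓ Subgroup.centralizer {ι}) ≃* Cfsg.PGO F (Cfsg.quadFormMinus (m - 1) F a b))) := by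
  obtain ⟨p, _⟩ := CharP.exists F
  haveI : Fact p.Prime := ⟨CharP.char_is_prime F p⟩
  have h2 := AutPOmega.two_ne_zero_of_odd hodd
  obtain rfl := AutPSL.isInverseTranspose_iff.1 hι
  have hC : Nonempty (↥(Cfsg.inndiagPSL n F ⊓ Subgroup.centralizer {(AutPSL.iotaA : MulAut (AutPSL.PSLn n F))}) ≃*
      Cfsg.projQuot (simG (mval (1 : GL (Fin n) F)⁻¹))) := by
    have h := AutPSL.graph_centralizer p (by omega : 2 ≤ n) (1 : GL (Fin n) F)
    rwa [map_one, one_mul] at h
  have hd := Matrix.GeneralLinearGroup.det_ne_zero (1 : GL (Fin n) F)⁻¹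
  have hq : n * (Fintype.card F - 1) / 4 = m * (Fintype.card F - 1) / 2 := by
    rw [hnm, mul_assoc, show (4 : ℕ) = 2 * 2 from rfl, Nat.mul_div_mul_left _ _ two_pos]
  rw [hq]
  have hone : (mval (1 : GL (Fin n) F)⁻¹).det = 1 := by simp [mval]
  refine ⟨fun he => ?_, fun hne => ?_⟩
  · have h : Sim (mval (1 : GL (Fin n) F)⁻¹) (plusM F m) :=
      sym_sim h2 (by simp [mval]) (polMat_symm _) hd (polMat_det nondeg_qPlus) (by simp; omega)
        (Or.inr (by rw [hone, one_mul]; exact (disc_plusM rfl hodd).2 he))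
    exact ⟨(hC.some.trans h.projQuot_equiv.some).trans (pgo_plus h2).some⟩
  · obtain ⟨ζ, hζ⟩ := Classical.Quad.exists_rootfree (F := F)
    have hab := Classical.Quad.rootfree_aniso hζ
    have h : Sim (mval (1 : GL (Fin n) F)⁻¹) (minusM F (m - 1) 1 ζ) :=
      sym_sim h2 (by simp [mval]) (polMat_symm _) hd (polMat_det (nondeg_qMinus hab)) (by simp; omega)
        (Or.inr (by rw [hone, one_mul, disc_minusM rfl hodd hab, show m - 1 + 1 = m by omega]; exact hne))
    exact ⟨1, ζ, hab, ⟨(hC.some.trans h.projQuot_equiv.some).trans (pgo_minus h2 1 ζ).some⟩⟩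

end Cfsg.Agent.S2703
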