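import Cfsg.Statements.S2704
import Cfsg.Agent.AutPSL.Centralizers

set_option autoImplicit false
open Cfsg

namespace Cfsg.Agent.S2704

/-- Let T = PSL_n(F) over the field F with p^f elements, n ≥ 3, and G = Inndiag(T) the image of PGL_n(F). If x is an involutory graph-field automorphism of T then f is even; x is G-conjugate to every other involutory graph-field automorphism; C_G(x) is isomorphic to the projective general unitary group PGU_n(q₀) with q₀² = p^f, realised over F itself through the Hermitian form Σ uᵢ vᵢ^{q₀}; and the G-class of x is the union of exactly gcd(n, q₀ − 1) T-classes. -/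
theorem result {F : Type*} [Field F] [Fintype F] {p f : ℕ} [Fact p.Prime] (hF : Fintype.card F = p ^ f) (hf : 1 ≤ f) {n : ℕ} (hn : 3 ≤ n) (x : MulAut (Matrix.ProjectiveSpecialLinearGroup (Fin n) F)) (hx : Cfsg.IsGraphFieldAutClassPSL x) (hx2 : orderOf x = 2) :
    Even f ∧ (∀ y : MulAut (Matrix.ProjectiveSpecialLinearGroup (Fin n) F), Cfsg.IsGraphFieldAutClassPSL y → orderOf y = 2 → Cfsg.IsConjUnder (Cfsg.inndiagPSL n F) x y) ∧ Nonempty (↥(Cfsg.inndiagPSL n F ⊓ Subgroup.centralizer {x}) ≃* Cfsg.PGU n F (p ^ (f / 2))) ∧ Cfsg.splitClassCount (Cfsg.inndiagPSL n F) (Cfsg.Inn (Matrix.ProjectiveSpecialLinearGroup (Fin n) F)) x = Nat.gcd n (p ^ (f / 2) - 1) := by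
  classical
  haveI : CharP F p := AutPSL.charP_of_card hF
  obtain ⟨-, α, φ, γ, σ, hσne, hφ, hγ, h⟩ := hx
  rw [AutPSL.isStdField_iff.1 hφ, AutPSL.isInverseTranspose_iff.1 hγ] at h
  obtain ⟨-, hσ⟩ := AutPSL.graphField_order p hn hσne Nat.prime_two
    (by rw [← h, AutPSL.orderOf_conj_eq, hx2])
  obtain ⟨hev, hq⟩ := AutPSL.involution_eq_frobenius hf hF hσ
  have hconj := AutPSL.conjUnder_of_conj hf hF (by omega) h (σ := σ) (Or.inr ⟨hn, rfl⟩)
  have hS := AutPSL.centralizer_graphField hq (p := p) hn hσ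
  refine ⟨hev, ?_, ?_, ?_⟩
  · rintro y ⟨-, α', φ', γ', σ', hσne', hφ', hγ', h'⟩ hy2
    rw [AutPSL.isStdField_iff.1 hφ', AutPSL.isInverseTranspose_iff.1 hγ'] at h'
    obtain ⟨-, hσ'⟩ := AutPSL.graphField_order p hn hσne' Nat.prime_two
      (by rw [← h', AutPSL.orderOf_conj_eq, hy2])
    obtain ⟨hcyc, -⟩ := AutPSL.card_gal (F := F) hf hF
    haveI : Finite (F ≃+* F) := Finite.of_injective (fun σ : F ≃+* F => (σ : F → F)) DFunLike.coe_injective
    have hss : σ' = σ := AutPSL.eq_of_orderOf_two hσ' hσ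
    subst hss
    exact AutPSL.isConjUnder_trans (AutPSL.isConjUnder_symm hconj)
      (AutPSL.conjUnder_of_conj hf hF (by omega) h' (σ := σ') (Or.inr ⟨hn, rfl⟩))
  · obtain ⟨e1⟩ := AutPSL.centralizer_inf_congr hconj
    obtain ⟨e2⟩ := AutPSL.centralizer_iso p (by omega) (Cfsg.GU n F (p ^ (f / 2))).subtype
      ((Geo.scalars (Fin n) F).subgroupOf (Cfsg.GU n F (p ^ (f / 2))))
      (by rw [AutPSL.scalars_eq_center]; rfl) (by rw [Subgroup.range_subtype]; exact hS)
    exact ⟨e1.trans e2⟩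
  · have hσσ : ∀ x, σ (σ x) = x := fun x => by
      have := pow_orderOf_eq_one σ
      rw [hσ, pow_two] at this
      exact RingEquiv.congr_fun this x
    rw [AutPSL.splitClassCount_conj _ hconj, AutPSL.split_eq_det_index p (by omega) _ _ hS,
      AutPSL.det_GU hq hσσ (by omega)]
    refine AutPSL.index_pow_sup n _ ?_
    have hk : f / 2 + f / 2 = f := by obtain ⟨k, rfl⟩ := hev; omega
    have hm : Fintype.card F - 1 = (p ^ (f / 2) - 1) * (p ^ (f / 2) + 1) := by
      rw [hF]
      conv_lhs => rw [← hk, pow_add]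
      have h1 : 1 ≤ p ^ (f / 2) := Nat.one_le_pow _ _ (Fact.out : p.Prime).pos
      generalize p ^ (f / 2) = a at *
      obtain ⟨b, rfl⟩ := Nat.exists_eq_add_of_le h1
      rw [Nat.add_sub_cancel_left, show (1 + b) * (1 + b) = 1 + b * (1 + b + 1) by ring, Nat.add_sub_cancel_left]
    rw [IsCyclic.card_powMonoidHom_ker, Classical.card_units_field, hm,
      Nat.gcd_eq_right (Dvd.intro_left _ rfl)]

end Cfsg.Agent.S2704
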