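import Cfsg.Statements.S2705
import Cfsg.Agent.AutPSU.Field

set_option autoImplicit false
open Cfsg

namespace Cfsg.Agent.S2705

/-- Let T = PSU_n(q) be simple (n ≥ 3, (n, q) ≠ (3, 2), q = p^f), realised over the field F with q² elements, G = Inndiag(T) the image of PGU_n(q) in Aut(T), and x a field automorphism of T (conjugate to a standard field automorphism of odd order) of odd prime order r. Then r divides f; C_G(x) is isomorphic to PGU_n(q₀) with q₀ = p^(f/r), realised over a field F₀ with q₀² elements; and the G-class of x is the union of exactly gcd(n, (q + 1)/(q₀ + 1)) T-classes. -/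
theorem result {F : Type*} [Field F] [Fintype F] {p f q : ℕ} [Fact p.Prime] (hq : q = p ^ f) (hf : 1 ≤ f) (hF : Fintype.card F = q ^ 2) {n : ℕ} (hn : 3 ≤ n) (hs : ¬ (n = 3 ∧ q = 2)) (x : MulAut (Cfsg.PSU n F q)) (hx : Cfsg.IsFieldAutClassPSU x) {r : ℕ} (hr : r.Prime) (hro : Odd r) (hxr : orderOf x = r) (F₀ : Type*) [Field F₀] [Fintype F₀] (hF₀ : Fintype.card F₀ = p ^ (2 * (f / r))) :
    r ∣ f ∧ Nonempty (↥(Cfsg.inndiagPSU n F q ⊓ Subgroup.centralizer {x}) ≃* Cfsg.PGU n F₀ (p ^ (f / r))) ∧ Cfsg.splitClassCount (Cfsg.inndiagPSU n F q) (Cfsg.Inn (Cfsg.PSU n F q)) x = Nat.gcd n ((q + 1) / (p ^ (f / r) + 1)) := by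
  classical
  have hF2 : Fintype.card F = p ^ (2 * f) := by rw [hF, hq, ← pow_mul, mul_comm]
  haveI : CharP F p := AutPSL.charP_of_card hF2
  obtain ⟨σ, hu⟩ := AutPSU.exists_uctx hF
  have hcomm := AutPSL.gal_comm (F := F) (f := 2 * f) (by omega) hF2
  obtain ⟨α, φ, τ, -, -, hφ, h⟩ := hx
  rw [AutPSU.isFieldAutOf_iff] at hφ
  subst hφ
  have hτr : orderOf τ = r := by
    rw [← orderOf_injective _ (AutPSU.fieldA_injective hu (n := n) p hn), ← h, AutPSL.orderOf_conj_eq, hxr]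
  obtain ⟨-, hgal⟩ := AutPSL.card_gal (F := F) (f := 2 * f) (by omega) hF2
  have hr2f : r ∣ 2 * f := by rw [← hgal, ← hτr]; exact orderOf_dvd_natCard τ
  have hrf : r ∣ f := (hr.dvd_mul.1 hr2f).resolve_left fun h2 => by
    obtain ⟨k, hk⟩ := hro
    have := Nat.le_of_dvd (by norm_num) h2
    have := hr.two_le
    omega
  have hfr : f / r * r = f := Nat.div_mul_cancel hrf
  set q₀ := p ^ (f / r) with hq₀
  have hF₀q : Fintype.card F₀ = q₀ ^ 2 := by rw [hF₀, hq₀, ← pow_mul, mul_comm]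
  obtain ⟨σ₀, hu₀⟩ := AutPSU.exists_uctx hF₀q
  have hqr : q = q₀ ^ r := by rw [hq, hq₀, ← pow_mul, hfr]
  obtain ⟨i, hi⟩ := AutPSL.exists_fixed_embedding hF2 hτr hr2f F₀ (by rw [hF₀, Nat.mul_div_assoc 2 hrf])
  have hc : ∀ y, σ (i y) = i (σ₀ y) := fun y => by
    obtain ⟨k, hk⟩ := hro
    rw [hu.pow, ← map_pow, hu₀.pow]
    congr 1
    have e : q = Fintype.card F₀ ^ k * q₀ := by rw [hqr, hk, hF₀q, pow_succ, pow_mul]
    rw [e, pow_mul, FiniteField.pow_card_pow]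
  have hconj := AutPSU.conjUnder_of_conj hu p hn hs hcomm h
  refine ⟨hrf, ?_, ?_⟩
  · obtain ⟨e1⟩ := AutPSL.centralizer_inf_congr hconj
    obtain ⟨e2⟩ := AutPSU.centralizer_iso (n := n) hu hu₀ i hc p hn hτr hi
    exact ⟨e1.trans e2⟩
  · have hd : (q + 1) / (q₀ + 1) * (q₀ + 1) = q + 1 := Nat.div_mul_cancel (by
      have := hro.nat_add_dvd_pow_add_pow q₀ 1
      rwa [one_pow, ← hqr] at this)
    rw [AutPSL.splitClassCount_conj _ hconj, AutPSU.split_count hu hu₀ i hc p hn hτr hi hd]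

end Cfsg.Agent.S2705
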