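import Cfsg.Statements.S2706
import Cfsg.Agent.AutPSU.GraphSplit

set_option autoImplicit false
open Cfsg
open scoped MatrixGroups

namespace Cfsg.Agent.S2706

open GraphForms

/-- Let T = PSU_n(q) be simple with n = 2m + 1 ≥ 3 odd, realised over the field F with q² elements, and G = Inndiag(T) the image of PGU_n(q). Every involutory graph automorphism γ of T (an inner-diagonal automorphism times a standard field automorphism of even order, of order 2) has centralizer C_G(γ) isomorphic to the projective conformal orthogonal group of the form x₀² + Σ xᵢ yᵢ in dimension n over a field F₀ with q elements, and any two involutory graph automorphisms of T are G-conjugate. -/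
theorem result {F : Type*} [Field F] [Fintype F] {p f q : ℕ} [Fact p.Prime] (hq : q = p ^ f) (hf : 1 ≤ f) (hF : Fintype.card F = q ^ 2) {n : ℕ} (hn : 3 ≤ n) (hs : ¬ (n = 3 ∧ q = 2)) {m : ℕ} (hnm : n = 2 * m + 1) (F₀ : Type*) [Field F₀] [Fintype F₀] (hF₀ : Fintype.card F₀ = q) (γ γ' : MulAut (Cfsg.PSU n F q)) (hγ : Cfsg.IsGraphAutClassPSU γ) (hγ2 : orderOf γ = 2) (hγ' : Cfsg.IsGraphAutClassPSU γ') (hγ'2 : orderOf γ' = 2) :
    Nonempty (↥(Cfsg.inndiagPSU n F q ⊓ Subgroup.centralizer {γ}) ≃* Cfsg.PGO F₀ (Cfsg.quadFormOdd m F₀)) ∧ Cfsg.IsConjUnder (Cfsg.inndiagPSU n F q) γ γ' := by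
  haveI : CharP F p := AutPSL.charP_of_card (f := 2 * f) (by rw [hF, hq, ← pow_mul, mul_comm])
  obtain ⟨_, σ, σe, i, -, -, hu, hσe, hi⟩ := AutPSU.exists_setup hF (F₀ := F₀) hF₀
  obtain ⟨g, R, rfl, hs', hR⟩ := AutPSU.graph_cases hu hσe hi p hγ hγ2
  obtain ⟨g', R', rfl, hs'', hR'⟩ := AutPSU.graph_cases hu hσe hi p hγ' hγ'2
  obtain ⟨e₁, hsym⟩ : Nonempty (Cfsg.projQuot (simG R) ≃* Cfsg.PGO F₀ (Cfsg.quadFormOdd m F₀)) ∧ Sim R R' := by
    have hd := AutPSU.real_det_ne_zero hu hR
    have hd' := AutPSU.real_det_ne_zero hu hR'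
    by_cases h2 : (2 : F₀) = 0
    · haveI : CharP F₀ 2 := CharTwo.of_one_ne_zero_of_two_eq_zero one_ne_zero h2
      have hsym : ∀ R : Matrix (Fin n) (Fin n) F₀, R.det ≠ 0 → (R.transpose = R ∨ R.transpose = -R) →
          Sim R (oddM2 F₀ m) := fun R hd hs => by
        refine nonAlt_sim ?_ oddM2_symm hd oddM2_det (fun hA => ?_) oddM2_nonAlt (by simp; omega)
        · rcases hs with h | h
          · exact h
          · rwa [neg_mat] at h
        · obtain ⟨k, hk, -⟩ := alt_sim hA hd
          rw [Fintype.card_fin] at hk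
          omega
      exact ⟨⟨((hsym R hd hs').projQuot_equiv.some.trans odd_char_two_sim.some).trans pgo_odd_char_two.some.symm⟩,
        (hsym R hd hs').trans (hsym R' hd' hs'').symm⟩
    · have hsym : ∀ R : Matrix (Fin n) (Fin n) F₀, R.det ≠ 0 → (R.transpose = R ∨ R.transpose = -R) →
          Sim R (oddM F₀ m) := fun R hd hs => by
        refine sym_sim h2 ?_ (polMat_symm _) hd (polMat_det (nondeg_qOdd h2)) (by simp; omega)
          (Or.inl ⟨m, by simp; omega⟩)
        rcases hs with h | h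
        · exact h
        · obtain ⟨k, hk, -⟩ := alt_sim (skew_isAlt h2 h) hd
          rw [Fintype.card_fin] at hk
          omega
      exact ⟨⟨(hsym R hd hs').projQuot_equiv.some.trans (pgo_odd h2).some⟩,
        (hsym R hd hs').trans (hsym R' hd' hs'').symm⟩
  exact ⟨⟨(AutPSU.real_centralizer hu hσe hi p hn hR).some.trans e₁.some⟩,
    (AutPSU.conjUnder_iff hu hσe hi p hn hR hR').2 hsym⟩

end Cfsg.Agent.S2706
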