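import Cfsg.Statements.S2707
import Cfsg.Agent.AutPSU.GraphSplit

set_option autoImplicit false
open Cfsg
open scoped MatrixGroups

namespace Cfsg.Agent.S2707

open GraphForms

/-- Let T = PSU_n(q) with n = 2m ≥ 4 even and q odd, realised over the field F with q² elements, and G = Inndiag(T) the image of PGU_n(q). The involutory graph automorphisms of T fall into exactly three G-classes, with representatives whose centralizers in G are isomorphic respectively to the projective conformal symplectic group PGSp_n(F₀), the projective conformal orthogonal group of the plus-type form Σ xᵢ yᵢ, and that of a minus-type form Σ xᵢ yᵢ + z₁² + a z₁ z₂ + b z₂² (anisotropic binary part) in dimension n, all over a field F₀ with q elements. -/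
theorem result {F : Type*} [Field F] [Fintype F] {q : ℕ} (hodd : Odd q) (hF : Fintype.card F = q ^ 2) {n m : ℕ} (hm : 2 ≤ m) (hnm : n = 2 * m) (F₀ : Type*) [Field F₀] [Fintype F₀] (hF₀ : Fintype.card F₀ = q) :
    ∃ (γ₁ γ₂ γ₃ : MulAut (Cfsg.PSU n F q)) (a b : F₀), (∀ z₁ z₂ : F₀, z₁ ^ 2 + a * z₁ * z₂ + b * z₂ ^ 2 = 0 → z₁ = 0 ∧ z₂ = 0) ∧ Cfsg.IsGraphAutClassPSU γ₁ ∧ orderOf γ₁ = 2 ∧ Cfsg.IsGraphAutClassPSU γ₂ ∧ orderOf γ₂ = 2 ∧ Cfsg.IsGraphAutClassPSU γ₃ ∧ orderOf γ₃ = 2 ∧ ¬ Cfsg.IsConjUnder (Cfsg.inndiagPSU n F q) γ₁ γ₂ ∧ ¬ Cfsg.IsConjUnder (Cfsg.inndiagPSU n F q) γ₁ γ₃ ∧ ¬ Cfsg.IsConjUnder (Cfsg.inndiagPSU n F q) γ₂ γ₃ ∧ (∀ γ : MulAut (Cfsg.PSU n F q), Cfsg.IsGraphAutClassPSU γ → orderOf γ = 2 → Cfsg.IsConjUnder (Cfsg.inndiagPSU n F q) γ₁ γ ∨ Cfsg.IsConjUnder (Cfsg.inndiagPSU n F q) γ₂ γ ∨ Cfsg.IsConjUnder (Cfsg.inndiagPSU n F q) γ₃ γ) ∧ Nonempty (↥(Cfsg.inndiagPSU n F q ⊓ Subgroup.centralizer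 {γ₁}) ≃* Cfsg.PGSp m F₀) ∧ Nonempty (↥(Cfsg.inndiagPSU n F q ⊓ Subgroup.centralizer {γ₂}) ≃* Cfsg.PGO F₀ (Cfsg.quadFormPlus m F₀)) ∧ Nonempty (↥(Cfsg.inndiagPSU n F q ⊓ Subgroup.centralizer {γ₃}) ≃* Cfsg.PGO F₀ (Cfsg.quadFormMinus (m - 1) F₀ a b)) := by
  obtain ⟨p, σ, σe, i, hp, _, hu, hσe, hi⟩ := AutPSU.exists_setup hF (F₀ := F₀) hF₀
  haveI : Fact p.Prime := ⟨hp⟩
  have hodd₀ : Odd (Fintype.card F₀) := hF₀ ▸ hodd
  have h2 := AutPOmega.two_ne_zero_of_odd hodd₀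
  obtain ⟨ζ, hζ⟩ := Classical.Quad.exists_rootfree (F := F₀)
  have hab := Classical.Quad.rootfree_aniso hζ
  have hn : 3 ≤ n := by omega
  obtain ⟨g₁, R₁, r₁, e₁⟩ := AutPSU.exists_rep hu hσe hi (n := n) (J_det_ne_zero (K := F₀) m) (by simp; omega)
    (Or.inr (J_transpose' m))
  obtain ⟨g₂, R₂, r₂, e₂⟩ := AutPSU.exists_rep hu hσe hi (n := n) (polMat_det (nondeg_qPlus (K := F₀) (m := m)))
    (by simp; omega) (Or.inl (polMat_symm _))
  obtain ⟨g₃, R₃, r₃, e₃⟩ := AutPSU.exists_rep hu hσe hi (n := n) (polMat_det (nondeg_qMinus (m := m - 1) hab))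
    (by simp; omega) (Or.inl (polMat_symm _))
  refine ⟨_, _, _, 1, ζ, hab, (AutPSU.graph_of_real hu hσe hi p hn r₁).1, (AutPSU.graph_of_real hu hσe hi p hn r₁).2,
    (AutPSU.graph_of_real hu hσe hi p hn r₂).1, (AutPSU.graph_of_real hu hσe hi p hn r₂).2,
    (AutPSU.graph_of_real hu hσe hi p hn r₃).1, (AutPSU.graph_of_real hu hσe hi p hn r₃).2,
    ?_, ?_, ?_, ?_, ?_, ?_, ?_⟩
  · rw [AutPSU.conjUnder_iff hu hσe hi p hn r₁ r₂]
    intro h
    haveI : Nonempty (Fin m ⊕ Fin m) := ⟨Sum.inl ⟨0, by omega⟩⟩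
    exact (not_sim_J_sym h2 (polMat_symm _) (polMat_det nondeg_qPlus)).resolve_right (not_isEmpty_of_nonempty _)
      (e₁.symm.trans (h.trans e₂))
  · rw [AutPSU.conjUnder_iff hu hσe hi p hn r₁ r₃]
    intro h
    haveI : Nonempty ((Fin (m - 1) ⊕ Fin (m - 1)) ⊕ Fin 2) := ⟨Sum.inr 0⟩
    exact (not_sim_J_sym h2 (polMat_symm _) (polMat_det (nondeg_qMinus hab))).resolve_right (not_isEmpty_of_nonempty _)
      (e₁.symm.trans (h.trans e₃))
  · rw [AutPSU.conjUnder_iff hu hσe hi p hn r₂ r₃]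
    exact fun h => not_sim_plus_minus hodd₀ (by omega) hab (e₂.symm.trans (h.trans e₃))
  · intro γ hγ ho
    obtain ⟨g, R, rfl, hs, hR⟩ := AutPSU.graph_cases hu hσe hi p hγ ho
    rw [AutPSU.conjUnder_iff hu hσe hi p hn r₁ hR, AutPSU.conjUnder_iff hu hσe hi p hn r₂ hR,
      AutPSU.conjUnder_iff hu hσe hi p hn r₃ hR]
    rcases even_three hodd₀ (AutPSU.real_det_ne_zero hu hR) hs (by omega : 1 ≤ m)
      (by rw [Fintype.card_fin]; exact hnm) hab with h | h | h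
    · exact Or.inl (e₁.trans h.symm)
    · exact Or.inr (Or.inl (e₂.trans h.symm))
    · exact Or.inr (Or.inr (e₃.trans h.symm))
  · exact ⟨((AutPSU.real_centralizer hu hσe hi p hn r₁).some.trans e₁.projQuot_equiv.some).trans pgsp_equiv.some⟩
  · exact ⟨((AutPSU.real_centralizer hu hσe hi p hn r₂).some.trans e₂.projQuot_equiv.some).trans (pgo_plus h2).some⟩
  · exact ⟨((AutPSU.real_centralizer hu hσe hi p hn r₃).some.trans e₃.projQuot_equiv.some).trans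
      (pgo_minus h2 1 ζ).some⟩

end Cfsg.Agent.S2707
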