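import Cfsg.Statements.S2708
import Cfsg.Agent.AutPSU.GraphSplit

set_option autoImplicit false
open Cfsg
open scoped MatrixGroups

namespace Cfsg.Agent.S2708

open GraphForms

/-- Let T = PSU_n(q) with n = 2m ≥ 4 even and q even, realised over the field F (of characteristic 2) with q² elements, and G = Inndiag(T) the image of PGU_n(q). The involutory graph automorphisms of T fall into exactly two G-classes, with representatives whose centralizers in G are isomorphic respectively to the symplectic group Sp_n(F₀) and to the centralizer in Sp_n(F₀) of a symplectic transvection, F₀ a field with q elements. -/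
theorem result {F : Type*} [Field F] [Fintype F] [CharP F 2] {q : ℕ} (hF : Fintype.card F = q ^ 2) {n m : ℕ} (hm : 2 ≤ m) (hnm : n = 2 * m) (F₀ : Type*) [Field F₀] [Fintype F₀] (hF₀ : Fintype.card F₀ = q) :
    ∃ (γ₁ γ₃ : MulAut (Cfsg.PSU n F q)) (t : ↥(Matrix.symplecticGroup (Fin m) F₀)), Cfsg.IsTransvection (t : Matrix (Fin m ⊕ Fin m) (Fin m ⊕ Fin m) F₀) ∧ Cfsg.IsGraphAutClassPSU γ₁ ∧ orderOf γ₁ = 2 ∧ Cfsg.IsGraphAutClassPSU γ₃ ∧ orderOf γ₃ = 2 ∧ ¬ Cfsg.IsConjUnder (Cfsg.inndiagPSU n F q) γ₁ γ₃ ∧ (∀ γ : MulAut (Cfsg.PSU n F q), Cfsg.IsGraphAutClassPSU γ → orderOf γ = 2 → Cfsg.IsConjUnder (Cfsg.inndiagPSU n F q) γ₁ γ ∨ Cfsg.IsConjUnder (Cfsg.inndiagPSU n F q) γ₃ γ) ∧ Nonempty (↥(Cfsg.inndiagPSU n F q ⊓ Subgroup.centralizer {γ₁}) ≃* ↥(Matrix.symplecticGroup (Fin m) F₀)) ∧ Nonempty (↥(Cfsg.inndiagPSU n F q ⊓ Subgroup.centralizer {γ₃}) ≃* ↥(Subgroup.centralizer ({t} : Set ↥(Matrix.symplecticGroup (Fin m) F₀))))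 := by
  have hc2 : CharP F 2 := by assumption
  obtain ⟨p, σ, σe, i, hp, hcp, hu, hσe, hi⟩ := AutPSU.exists_setup hF (F₀ := F₀) hF₀
  obtain rfl : p = 2 := CharP.eq F hcp hc2
  haveI : Fact (Nat.Prime 2) := ⟨hp⟩
  haveI : CharP F₀ 2 := (RingHom.charP_iff i i.injective 2).2 inferInstance
  have hm1 : 1 ≤ m := by omega
  have hn : 3 ≤ n := by omega
  obtain ⟨g₁, R₁, r₁, e₁⟩ := AutPSU.exists_rep hu hσe hi (n := n) (J_det_ne_zero (K := F₀) m) (by simp; omega)
    (Or.inr (J_transpose' m))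
  obtain ⟨g₃, R₃, r₃, e₃⟩ := AutPSU.exists_rep hu hσe hi (n := n) (evenM2_det (K := F₀) hm1) (by simp; omega)
    (Or.inl (evenM2_symm hm1))
  refine ⟨_, _, ⟨transv F₀ m hm1, transv_mem hm1⟩, transv_isTransvection hm1,
    (AutPSU.graph_of_real hu hσe hi 2 hn r₁).1, (AutPSU.graph_of_real hu hσe hi 2 hn r₁).2,
    (AutPSU.graph_of_real hu hσe hi 2 hn r₃).1, (AutPSU.graph_of_real hu hσe hi 2 hn r₃).2, ?_, ?_, ?_, ?_⟩
  · rw [AutPSU.conjUnder_iff hu hσe hi 2 hn r₁ r₃]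
    exact fun h => evenM2_nonAlt hm1 ((e₁.symm.trans (h.trans e₃)).isAlt (J_isAlt m))
  · intro γ hγ ho
    obtain ⟨g, R, rfl, hs, hR⟩ := AutPSU.graph_cases hu hσe hi 2 hγ ho
    rw [AutPSU.conjUnder_iff hu hσe hi 2 hn r₁ hR, AutPSU.conjUnder_iff hu hσe hi 2 hn r₃ hR]
    have hd := AutPSU.real_det_ne_zero hu hR
    by_cases hA : IsAltMat R
    · obtain ⟨k, hk, h⟩ := alt_sim hA hd
      rw [Fintype.card_fin] at hk
      obtain rfl : k = m := by omega
      exact Or.inl (e₁.trans h.symm)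
    · refine Or.inr (e₃.trans (nonAlt_sim ?_ (evenM2_symm hm1) hd (evenM2_det hm1) hA (evenM2_nonAlt hm1)
        (by simp; omega)).symm)
      rcases hs with h | h
      · exact h
      · rwa [neg_mat] at h
  · exact ⟨((AutPSU.real_centralizer hu hσe hi 2 hn r₁).some.trans e₁.projQuot_equiv.some).trans
      (symp_char_two hm1).some⟩
  · exact ⟨((AutPSU.real_centralizer hu hσe hi 2 hn r₃).some.trans e₃.projQuot_equiv.some).trans
      (even_char_two_sim hm1).some⟩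

end Cfsg.Agent.S2708
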