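import Cfsg.Statements.S2709
import Cfsg.Agent.AutPSU.GraphSplit

set_option autoImplicit false
open Cfsg
open scoped MatrixGroups

namespace Cfsg.Agent.S2709

open GraphForms

/-- Let T = PSU_n(q) be simple (n ≥ 3, (n,q) ≠ (3,2), q = p^f), realised over the field F with q² elements, G = Inndiag(T) the image of PGU_n(q), and γ an involutory graph automorphism of T. The G-class of γ is the union of exactly c T-classes, where: if n is even and q is odd, c = gcd(n/2, q + 1) when C_G(γ) is isomorphic to PGSp_n(F₀) for a field F₀ with q elements (symplectic type) and c = gcd(n, q + 1)/2 otherwise; and c = gcd(n, q + 1) when n is odd or q is even. -/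
theorem result {F : Type*} [Field F] [Fintype F] {p f q : ℕ} [Fact p.Prime] (hq : q = p ^ f) (hf : 1 ≤ f) (hF : Fintype.card F = q ^ 2) {n : ℕ} (hn : 3 ≤ n) (hs : ¬ (n = 3 ∧ q = 2)) (F₀ : Type*) [Field F₀] [Fintype F₀] (hF₀ : Fintype.card F₀ = q) (γ : MulAut (Cfsg.PSU n F q)) (hγ : Cfsg.IsGraphAutClassPSU γ) (hγ2 : orderOf γ = 2) :
    ((Even n ∧ Odd q ∧ Nonempty (↥(Cfsg.inndiagPSU n F q ⊓ Subgroup.centralizer {γ}) ≃* Cfsg.PGSp (n / 2) F₀)) → Cfsg.splitClassCount (Cfsg.inndiagPSU n F q) (Cfsg.Inn (Cfsg.PSU n F q)) γ = Nat.gcd (n / 2) (q + 1)) ∧ ((Even n ∧ Odd q ∧ ¬ Nonempty (↥(Cfsg.inndiagPSU n F q ⊓ Subgroup.centralizer {γ}) ≃* Cfsg.PGSp (n / 2) F₀)) → Cfsg.splitClassCount (Cfsg.inndiagPSU n F q) (Cfsg.Inn (Cfsg.PSU n F q)) γ = Nat.gcd n (q + 1) / 2) ∧ (¬ (Even n ∧ Odd q) → Cfsg.splitClassCount (Cfsg.inndiagPSU n F q) (Cfsg.Inn (Cfsg.PSU n F q)) γ = Nat.gcd n (q + 1)) := by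
  haveI : CharP F p := AutPSL.charP_of_card (f := 2 * f) (by rw [hF, hq, ← pow_mul, mul_comm])
  obtain ⟨_, σ, σe, i, -, -, hu, hσe, hi⟩ := AutPSU.exists_setup hF (F₀ := F₀) hF₀
  obtain ⟨g, R, rfl, hsgn, hR⟩ := AutPSU.graph_cases hu hσe hi p hγ hγ2
  have hd := AutPSU.real_det_ne_zero hu hR
  have hC := (AutPSU.real_centralizer hu hσe hi p hn hR).some
  have htype : Even n → Odd q →
      (Sim R (Matrix.J (Fin (n / 2)) F₀) ∧
        Nonempty (↥(Cfsg.inndiagPSU n F q ⊓ Subgroup.centralizer {(AutPSU.conjA g * AutPSU.fieldA σe)}) ≃*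
          Cfsg.PGSp (n / 2) F₀)) ∨
      (R.transpose = R ∧
        ¬ Nonempty (↥(Cfsg.inndiagPSU n F q ⊓ Subgroup.centralizer {(AutPSU.conjA g * AutPSU.fieldA σe)}) ≃*
          Cfsg.PGSp (n / 2) F₀)) := by
    intro he ho
    obtain ⟨m, rfl⟩ := he
    rw [show (m + m) / 2 = m by omega]
    have hodd : Odd (Fintype.card F₀) := hF₀ ▸ ho
    obtain ⟨ζ, hζ⟩ := Classical.Quad.exists_rootfree (F := F₀)
    have hab := Classical.Quad.rootfree_aniso hζ
    have hne : ∀ {κ : Type} [Fintype κ] [DecidableEq κ] (M : Matrix κ κ F₀), M.transpose = M → Sim R M →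
        R.transpose = R := fun M hM h => by simpa using h.symm.transpose (ε := (1 : F₀)) (by rw [hM, one_smul])
    rcases even_three hodd hd hsgn (m := m) (by omega) (by rw [Fintype.card_fin]; omega) hab with h | h | h
    · exact Or.inl ⟨h, ⟨(hC.trans h.projQuot_equiv.some).trans pgsp_equiv.some⟩⟩
    · refine Or.inr ⟨hne _ (polMat_symm _) h, fun ⟨e⟩ => (pgsp_ne_orth (m := m) hodd (by omega) hab).1 ?_⟩
      exact Nat.card_congr (((pgsp_equiv.some.trans e.symm).trans hC).trans h.projQuot_equiv.some).toEquiv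
    · refine Or.inr ⟨hne _ (polMat_symm _) h, fun ⟨e⟩ => (pgsp_ne_orth (m := m) hodd (by omega) hab).2 ?_⟩
      exact Nat.card_congr (((pgsp_equiv.some.trans e.symm).trans hC).trans h.projQuot_equiv.some).toEquiv
  refine ⟨fun ⟨he, ho, hiso⟩ => ?_, fun ⟨he, ho, hiso⟩ => ?_, fun h => ?_⟩
  · rcases htype he ho with ⟨h, -⟩ | ⟨-, h⟩
    · rw [AutPSU.split_symp hu hσe hi p hn hR h]
    · exact absurd hiso h
  · rcases htype he ho with ⟨-, h⟩ | ⟨h, -⟩
    · exact absurd h hiso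
    · rw [AutPSU.split_orth hu hσe hi p hn hR (AutPOmega.two_ne_zero_of_odd (hF₀ ▸ ho)) (m := n / 2)
        (by obtain ⟨m, rfl⟩ := he; omega) h]
  · rcases Nat.even_or_odd q with hev | ho
    · have hp2 : p = 2 := by
        rw [hq, Nat.even_pow, (Fact.out : p.Prime).even_iff] at hev
        exact hev.1
      subst hp2
      haveI : CharP F₀ 2 := (RingHom.charP_iff i i.injective 2).2 inferInstance
      exact AutPSU.split_small hu hσe hi 2 hn hR (fun k c _ => exists_sqrt (c : F₀))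
        (Or.inr (CharTwo.neg_eq (1 : F₀)))
    · have hno : Odd n := Nat.not_even_iff_odd.1 fun he => h ⟨he, ho⟩
      exact AutPSU.split_small hu hσe hi p hn hR
        (fun k c hk => odd_mult_square hd (by rwa [Fintype.card_fin]) hk) (Or.inl hno)

end Cfsg.Agent.S2709
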