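import Cfsg.Statements.S2710
import Cfsg.Agent.AutPSU.GraphSplit

set_option autoImplicit false
open Cfsg
open scoped MatrixGroups

namespace Cfsg.Agent.S2710

open GraphForms

/-- Let T = PSU_n(q) with n ≥ 4 divisible by 4 (n = 2m) and q odd, realised over the field F with q² elements, G = Inndiag(T) the image of PGU_n(q), and φ the standard field automorphism of T attached to the q-th power map of F (it induces inverse-transpose on the unitary matrices and is a graph automorphism). Its centralizer in G is isomorphic to the projective conformal orthogonal group of the plus-type form Σ xᵢ yᵢ in dimension n over a field F₀ with q elements. (Dimensions n ≡ 2 (mod 4) are not covered.) -/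
theorem result {F : Type*} [Field F] [Fintype F] {q : ℕ} (hodd : Odd q) (hF : Fintype.card F = q ^ 2) {n m : ℕ} (hm : 2 ≤ m) (hnm : n = 2 * m) (h4 : 4 ∣ n) (F₀ : Type*) [Field F₀] [Fintype F₀] (hF₀ : Fintype.card F₀ = q) (σ : F ≃+* F) (hσ : ∀ a : F, σ a = a ^ q) (φ : MulAut (Cfsg.PSU n F q)) (hφ : Cfsg.IsFieldAutPSUOf σ φ) :
    Nonempty (↥(Cfsg.inndiagPSU n F q ⊓ Subgroup.centralizer {φ}) ≃* Cfsg.PGO F₀ (Cfsg.quadFormPlus m F₀)) := by
  obtain ⟨p, σ', σe, i, hp, _, hu, hσe, hi⟩ := AutPSU.exists_setup hF (F₀ := F₀) hF₀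
  haveI : Fact p.Prime := ⟨hp⟩
  have hn : 3 ≤ n := by omega
  have hodd₀ : Odd (Fintype.card F₀) := hF₀ ▸ hodd
  have h2 := AutPOmega.two_ne_zero_of_odd hodd₀
  rw [AutPSU.isFieldAutOf_iff] at hφ
  subst hφ
  obtain rfl : σ = σe := RingEquiv.ext fun x => by rw [hσ, hσe, hu.pow]
  have hR := AutPSU.isReal_one (n := n) hu hσe hi
  have hC := AutPSU.real_centralizer hu hσe hi p hn hR
  rw [map_one, one_mul] at hC
  have h : Sim (1 : Matrix (Fin n) (Fin n) F₀) (plusM F₀ m) :=
    sym_sim h2 (by simp) (polMat_symm _) (by simp) (polMat_det nondeg_qPlus) (by simp; omega) (Or.inr (by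
      rw [Matrix.det_one, one_mul, disc_plusM hF₀ hodd]
      obtain ⟨k, hk⟩ : 2 ∣ m := by omega
      obtain ⟨j, hj⟩ := hodd
      rw [hk, hj, show 2 * k * (2 * j + 1 - 1) / 2 = 2 * (k * j) by
        rw [Nat.add_sub_cancel, show 2 * k * (2 * j) = 2 * (2 * (k * j)) by ring, Nat.mul_div_cancel_left _ two_pos]]
      exact even_two_mul _))
  exact ⟨(hC.some.trans h.projQuot_equiv.some).trans (pgo_plus h2).some⟩

end Cfsg.Agent.S2710
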