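import Cfsg.Statements.S2711
import Cfsg.Agent.AutPSU.Field

set_option autoImplicit false
open Cfsg

namespace Cfsg.Agent.S2711

/-- Let T = PSU_n(q) be simple (n ≥ 3, (n,q) ≠ (3,2)), realised over the field F with q² elements, and let x be a field automorphism of T (conjugate to a standard field automorphism of odd order) of prime order r. Then an element y of the coset Inndiag(T)·x (y = δ x with δ in the image of PGU_n(q)) has order r if and only if y is conjugate to x by an element of Inndiag(T). (T has no graph-field automorphisms.) -/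
theorem result {F : Type*} [Field F] [Fintype F] {p f q : ℕ} [Fact p.Prime] (hq : q = p ^ f) (hf : 1 ≤ f) (hF : Fintype.card F = q ^ 2) {n : ℕ} (hn : 3 ≤ n) (hs : ¬ (n = 3 ∧ q = 2)) (x δ : MulAut (Cfsg.PSU n F q)) (hx : Cfsg.IsFieldAutClassPSU x) {r : ℕ} (hr : r.Prime) (hxr : orderOf x = r) (hδ : δ ∈ Cfsg.inndiagPSU n F q) :
    orderOf (δ * x) = r ↔ Cfsg.IsConjUnder (Cfsg.inndiagPSU n F q) x (δ * x) := by
  classical
  have hF2 : Fintype.card F = p ^ (2 * f) := by rw [hF, hq, ← pow_mul, mul_comm]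
  haveI : CharP F p := AutPSL.charP_of_card hF2
  obtain ⟨σ, hu⟩ := AutPSU.exists_uctx hF
  have hcomm := AutPSL.gal_comm (F := F) (f := 2 * f) (by omega) hF2
  haveI := AutPSU.inndiag_normal hu p hn hs
  constructor
  · intro hy
    obtain ⟨α, φ, τ, -, hodd, hφ, h⟩ := hx
    rw [AutPSU.isFieldAutOf_iff] at hφ
    subst hφ
    obtain ⟨h0, hh0, hxeq⟩ := AutPSU.conjUnder_of_conj hu p hn hs hcomm h
    have hτr : orderOf τ = r := by
      rw [← orderOf_injective _ (AutPSU.fieldA_injective hu (n := n) p hn), ← h, AutPSL.orderOf_conj_eq, hxr]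
    have hδ0 : h0⁻¹ * δ * h0 ∈ Cfsg.inndiagPSU n F q := mul_mem (mul_mem (inv_mem hh0) hδ) hh0
    rw [AutPSU.inndiagPSU_eq] at hδ0
    obtain ⟨g, hg⟩ := hδ0
    have hy0 : δ * x = h0 * (AutPSU.conjA g * AutPSU.fieldA τ) * h0⁻¹ := by rw [hg, hxeq]; group
    have hord : orderOf (AutPSU.conjA g * AutPSU.fieldA τ) = r := by
      rw [← hy, hy0, AutPSL.orderOf_conj_eq]
    have key := AutPSU.coboundary_field hu p hn hτr (hτr ▸ hodd) g (by rw [← hord]; exact pow_orderOf_eq_one _)
    exact AutPSL.isConjUnder_trans (AutPSL.isConjUnder_symm ⟨h0, hh0, hxeq⟩)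
      (AutPSL.isConjUnder_trans key ⟨h0, hh0, hy0⟩)
  · rintro ⟨h, -, e⟩
    rw [e, AutPSL.orderOf_conj_eq, hxr]

end Cfsg.Agent.S2711
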