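import Cfsg.Statements.S2712
import Cfsg.Agent.AutPSp.Field

set_option autoImplicit false
open Cfsg

namespace Cfsg.Agent.S2712

/-- Let T = PSp_{2m}(F) be simple over the field F with p^f elements (m ≥ 2, (2m, |F|) ≠ (4, 2)), G = Inndiag(T) the image of the projective conformal symplectic group PGSp_{2m}(F), and x a field automorphism of T of prime order r. Then r divides f; C_G(x) is isomorphic to PGSp_{2m}(F₀) for a field F₀ with p^(f/r) elements; and the G-class of x is the union of exactly gcd(gcd(2, p^f − 1), r) T-classes. -/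
theorem result {F : Type*} [Field F] [Fintype F] {p f : ℕ} [Fact p.Prime] (hF : Fintype.card F = p ^ f) (hf : 1 ≤ f) {m : ℕ} (hm : 2 ≤ m) (hs : m = 2 → 3 ≤ Fintype.card F) (x : MulAut (Cfsg.PSp m F)) (hx : Cfsg.IsFieldAutClassPSp x) {r : ℕ} (hr : r.Prime) (hxr : orderOf x = r) (F₀ : Type*) [Field F₀] [Fintype F₀] (hF₀ : Fintype.card F₀ = p ^ (f / r)) :
    r ∣ f ∧ Nonempty (↥(Cfsg.inndiagPSp m F ⊓ Subgroup.centralizer {x}) ≃* Cfsg.PGSp m F₀) ∧ Cfsg.splitClassCount (Cfsg.inndiagPSp m F) (Cfsg.Inn (Cfsg.PSp m F)) x = Nat.gcd (Nat.gcd 2 (p ^ f - 1)) r := by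
  classical
  haveI : CharP F p := AutPSL.charP_of_card hF
  have hcomm := AutPSL.gal_comm (F := F) hf hF
  obtain ⟨α, σ, hσ, h⟩ := hx
  rw [AutPSp.isStdField_iff] at h
  have hσr : orderOf σ = r := by
    rw [← orderOf_injective _ (AutPSp.fieldA_injective (m := m) p (by omega)), ← h, AutPSL.orderOf_conj_eq, hxr]
  obtain ⟨hcyc, hgal⟩ := AutPSL.card_gal (F := F) hf hF
  have hrf : r ∣ f := by rw [← hgal, ← hσr]; exact orderOf_dvd_natCard σ
  have hconj := AutPSp.conjUnder_of_conj p hm hcomm h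
  obtain ⟨i, hi⟩ := AutPSL.exists_fixed_embedding hF hσr hrf F₀ hF₀
  refine ⟨hrf, ?_, ?_⟩
  · obtain ⟨e1⟩ := AutPSL.centralizer_inf_congr hconj
    obtain ⟨e2⟩ := AutPSp.centralizer_iso (m := m) i p (by omega) hσr hi
    exact ⟨e1.trans e2⟩
  · have hfr : f / r * r = f := Nat.div_mul_cancel hrf
    set q := p ^ (f / r) with hq
    have hq2 : 2 ≤ q := by
      have : f / r ≠ 0 := fun h0 => by rw [h0, zero_mul] at hfr; omega
      exact le_trans (Fact.out : p.Prime).two_le (Nat.le_self_pow this p)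
    have hqr : q ^ r = p ^ f := by rw [hq, ← pow_mul, hfr]
    have hd : (∑ k ∈ Finset.range r, q ^ k) * (q - 1) = p ^ f - 1 := by rw [← hqr]; exact geom_sum_mul_of_one_le (by omega) r
    have hmod : ∀ n : ℕ, (q % 2 = 1 → (∑ k ∈ Finset.range n, q ^ k) % 2 = n % 2) ∧
        (q % 2 = 0 → 1 ≤ n → (∑ k ∈ Finset.range n, q ^ k) % 2 = 1) := fun n => by
      induction n with
      | zero => simp
      | succ n ih =>
        refine ⟨fun hq1 => ?_, fun hq0 _ => ?_⟩
        · rw [Finset.sum_range_succ, Nat.add_mod, ih.1 hq1, Nat.pow_mod, hq1, one_pow]; omega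
        · rw [Finset.sum_range_succ']
          simp only [pow_zero, pow_succ']
          rw [← Finset.mul_sum, Nat.add_mod, Nat.mul_mod, hq0]
          simp
    rw [AutPSL.splitClassCount_conj _ hconj, AutPSp.split_count (m := m) i p (by omega) hσr hi
      (d := ∑ k ∈ Finset.range r, q ^ k) (by rw [hF₀, hF]; exact hd), Nat.gcd_rec 2, Nat.gcd_rec (Nat.gcd 2 _)]
    rcases Nat.mod_two_eq_zero_or_one q with h0 | h1
    · have hp2 : (p ^ f - 1) % 2 = 1 := by
        have h3 : q ^ r % 2 = 0 := by rw [Nat.pow_mod, h0, zero_pow hr.ne_zero]; rfl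
        have : 1 ≤ q ^ r := Nat.one_le_pow _ _ (by omega)
        rw [← hqr]; omega
      rw [(hmod r).2 h0 hr.pos, Nat.gcd_rec 2 (p ^ f - 1), hp2]
      simp
    · have hp2 : (p ^ f - 1) % 2 = 0 := by
        have h3 : q ^ r % 2 = 1 := by simp [Nat.pow_mod, h1]
        rw [← hqr]; omega
      rw [(hmod r).1 h1, Nat.gcd_rec 2 (p ^ f - 1), hp2, Nat.gcd_zero_left]

end Cfsg.Agent.S2712
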