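import Cfsg.Statements.S2713
import Cfsg.Agent.AutPSp.Field

set_option autoImplicit false
open Cfsg

namespace Cfsg.Agent.S2713

/-- Let T = PSp_{2m}(F) be simple over a finite field (m ≥ 2, (2m, |F|) ≠ (4, 2)) and let x be a field automorphism of T of prime order r. Then an element y of the coset Inndiag(T)·x (y = δ x with δ in the image of the projective conformal symplectic group) has order r if and only if y is conjugate to x by an element of Inndiag(T). -/
theorem result {F : Type*} [Field F] [Fintype F] {m : ℕ} (hm : 2 ≤ m) (hs : m = 2 → 3 ≤ Fintype.card F) (x δ : MulAut (Cfsg.PSp m F)) (hx : Cfsg.IsFieldAutClassPSp x) {r : ℕ} (hr : r.Prime) (hxr : orderOf x = r) (hδ : δ ∈ Cfsg.inndiagPSp m F) :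
    orderOf (δ * x) = r ↔ Cfsg.IsConjUnder (Cfsg.inndiagPSp m F) x (δ * x) := by
  classical
  obtain ⟨p, hpc⟩ := CharP.exists F
  haveI : Fact p.Prime := ⟨CharP.char_is_prime F p⟩
  obtain ⟨f, -, hF⟩ := FiniteField.card F p
  have hcomm := AutPSL.gal_comm (F := F) f.pos hF
  haveI := AutPSp.inndiag_normal (F := F) p hm
  constructor
  · intro hy
    obtain ⟨α, σ, hσ, h⟩ := hx
    rw [AutPSp.isStdField_iff] at h
    obtain ⟨h0, hh0, hxeq⟩ := AutPSp.conjUnder_of_conj p hm hcomm h
    have hσr : orderOf σ = r := by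
      rw [← orderOf_injective _ (AutPSp.fieldA_injective (m := m) p (by omega)), ← h, AutPSL.orderOf_conj_eq, hxr]
    have hδ0 : h0⁻¹ * δ * h0 ∈ Cfsg.inndiagPSp m F := mul_mem (mul_mem (inv_mem hh0) hδ) hh0
    rw [AutPSp.inndiagPSp_eq] at hδ0
    obtain ⟨g, hg⟩ := hδ0
    have hy0 : δ * x = h0 * (AutPSp.conjA g * AutPSp.fieldA σ) * h0⁻¹ := by rw [hg, hxeq]; group
    have hord : orderOf (AutPSp.conjA g * AutPSp.fieldA σ) = r := by
      rw [← hy, hy0, AutPSL.orderOf_conj_eq]
    have key := AutPSp.coboundary_field p (by omega) hσr g (by rw [← hord]; exact pow_orderOf_eq_one _)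
    exact AutPSL.isConjUnder_trans (AutPSL.isConjUnder_symm ⟨h0, hh0, hxeq⟩)
      (AutPSL.isConjUnder_trans key ⟨h0, hh0, hy0⟩)
  · rintro ⟨h, -, e⟩
    rw [e, AutPSL.orderOf_conj_eq, hxr]

end Cfsg.Agent.S2713
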