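import Cfsg.Statements.S2718
import Cfsg.Agent.AutPOmega.PlusGraphSplit

set_option autoImplicit false
open Cfsg

namespace Cfsg.Agent.S2718

/-- Let T = PΩ⁺_{2m}(F) with m ≥ 4 and |F| = q odd, G = Inndiag(T), and γ an involutory graph automorphism of T induced by a similarity (one interchanging the two classes of maximal totally singular subspaces). Then the G-class of γ is either a single T-class or the union of exactly two T-classes, and it is the union of two unless m is odd and q ≡ 3 (mod 4). -/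
theorem result {F : Type*} [Field F] [Fintype F] (hodd : Odd (Fintype.card F)) {m : ℕ} (hm : 4 ≤ m) (γ : MulAut (Cfsg.POmega F (Cfsg.quadFormPlus m F))) (hγ : Cfsg.IsSimilarityGraphAutPOmegaPlus m γ) (hγ2 : orderOf γ = 2) :
    (Cfsg.splitClassCount (Cfsg.inndiagPOmegaPlus m F) (Cfsg.Inn (Cfsg.POmega F (Cfsg.quadFormPlus m F))) γ = 1 ∨ Cfsg.splitClassCount (Cfsg.inndiagPOmegaPlus m F) (Cfsg.Inn (Cfsg.POmega F (Cfsg.quadFormPlus m F))) γ = 2) ∧ (¬ (Odd m ∧ Fintype.card F % 4 = 3) → Cfsg.splitClassCount (Cfsg.inndiagPOmegaPlus m F) (Cfsg.Inn (Cfsg.POmega F (Cfsg.quadFormPlus m F))) γ = 2) := by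
  have hm3 : 3 ≤ m := by omega
  have hG : Cfsg.inndiagPOmegaPlus m F = AutPOmega.inndiagQ hm3 := AutPOmega.inndiag_plus_eq hm3
  rw [hG]
  obtain ⟨h1, h2⟩ := AutPOmega.split_count_plus hm3 hodd hγ
    ((pow_two γ).symm.trans (orderOf_dvd_iff_pow_eq_one.1 hγ2.dvd))
  exact ⟨h1, fun h => h2 (not_not.1 fun hB => h ((AutPOmega.case_iff_plus hm3 hodd).2 hB))⟩

end Cfsg.Agent.S2718
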