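import Cfsg.Statements.S2727
import Cfsg.Agent.AutPOmega.MinusPgo
-- import your own Cfsg.Agent.* helpers here

set_option autoImplicit false
open Cfsg

namespace Cfsg.Agent.S2727

open Cfsg.Agent.AutPOmega in
theorem key {F : Type*} [Field F] [Fintype F] (hodd : Odd (Fintype.card F)) {m : ℕ} (hm : 3 ≤ m) (a b : F)
    (hab : ∀ z₁ z₂ : F, z₁ ^ 2 + a * z₁ * z₂ + b * z₂ ^ 2 = 0 → z₁ = 0 ∧ z₂ = 0) :
    (Cfsg.Inn (Cfsg.POmega F ⇑(qMinus F m a b))).relIndex (Cfsg.psoAut F ⇑(qMinus F m a b)) =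
      if Fintype.card F ^ (m + 1) % 4 = 3 then 2 else 1 := by
  have hle : Cfsg.psoAut F ⇑(qMinus F m a b) ≤ (conjA (Q := qMinus F m a b)).range := by
    rw [pso_eq hm hab hodd]
    rintro _ ⟨s, -, rfl⟩
    exact ⟨_, rfl⟩
  have h4 : (Cfsg.psoAut F ⇑(qMinus F m a b)).relIndex (conjA (Q := qMinus F m a b)).range = 4 := by
    obtain ⟨φ, hs, hk⟩ := pgo_pso hm hab hodd
    rw [← pgoAut_eq]
    show ((Cfsg.psoAut F ⇑(qMinus F m a b)).subgroupOf _).index = 4
    rw [← hk, Subgroup.index_ker, MonoidHom.range_eq_top.2 hs, Subgroup.card_top]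
    simp [Nat.card_eq_fintype_card]
  have hinn : Cfsg.Inn (Cfsg.POmega F ⇑(qMinus F m a b)) ≤ Cfsg.psoAut F ⇑(qMinus F m a b) := by
    rw [pso_eq hm hab hodd, inn_eq]
    rintro _ ⟨_, ⟨s, rfl⟩, rfl⟩
    refine ⟨s.1, ?_, rfl⟩
    rw [SetLike.mem_coe, MonoidHom.mem_ker, MonoidHom.comp_apply, parM_iso]
    exact Abelianization.commutator_subset_ker _ ((Classical.Quad.mem_omega_iff s.1).1 s.2)
  have h := Subgroup.relIndex_mul_relIndex _ _ _ hinn hle
  have hP : (Cfsg.Inn (Cfsg.POmega F ⇑(qMinus F m a b))).relIndex (conjA (Q := qMinus F m a b)).range =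
      if Fintype.card F ^ (m + 1) % 4 = 3 then 8 else 4 := (card_quots hm hab hodd).1
  rw [h4, hP] at h
  split_ifs at h ⊢ <;> omega


/-- Let T = PΩ⁻_{2m+2}(F) with m ≥ 3 and |F| = q odd (form with anisotropic binary part). The image of the special orthogonal group in Aut(T) contains the inner automorphism group T with index 2 when m is even and q ≡ 3 (mod 4), and coincides with it otherwise (the index is 2 exactly when the discriminant of the form is a square). -/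
theorem result {F : Type*} [Field F] [Fintype F] (hodd : Odd (Fintype.card F)) {m : ℕ} (hm : 3 ≤ m) (a b : F) (hab : (∀ z₁ z₂ : F, z₁ ^ 2 + a * z₁ * z₂ + b * z₂ ^ 2 = 0 → z₁ = 0 ∧ z₂ = 0)) :
    ((Even m ∧ Fintype.card F % 4 = 3) → (Cfsg.Inn (Cfsg.POmega F (Cfsg.quadFormMinus m F a b))).relIndex (Cfsg.psoAut F (Cfsg.quadFormMinus m F a b)) = 2) ∧ (¬ (Even m ∧ Fintype.card F % 4 = 3) → (Cfsg.Inn (Cfsg.POmega F (Cfsg.quadFormMinus m F a b))).relIndex (Cfsg.psoAut F (Cfsg.quadFormMinus m F a b)) = 1) := by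
  have hk := key hodd hm a b hab
  refine ⟨fun h => ?_, fun h => ?_⟩
  · rw [if_pos ((Cfsg.Agent.AutPOmega.cond_iff hodd).1 h)] at hk; exact hk
  · rw [if_neg (mt (Cfsg.Agent.AutPOmega.cond_iff hodd).2 h)] at hk; exact hk

end Cfsg.Agent.S2727
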