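import Cfsg.Statements.S2738
import Cfsg.Agent.Classical.LinearBasic

set_option autoImplicit false
open Cfsg

namespace Cfsg.Agent.S2738

/-- The special linear group SL(3, 4) has centre of order 3 and does not split over it: no subgroup is a complement to the centre (so SL(3, 4) is a non-split central extension of PSL(3, 4) by a group of order 3). -/
theorem result (F : Type*) [Field F] [Fintype F] (hF : Fintype.card F = 4) : Nat.card ↥(Subgroup.center (Matrix.SpecialLinearGroup (Fin 3) F)) = 3 ∧ ¬ ∃ K : Subgroup (Matrix.SpecialLinearGroup (Fin 3) F), Subgroup.IsComplement' (Subgroup.center (Matrix.SpecialLinearGroup (Fin 3) F)) K := by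
  classical
  have hc : Nat.card ↥(Subgroup.center (Matrix.SpecialLinearGroup (Fin 3) F)) = 3 := by
    rw [Classical.card_center_sl, hF, Fintype.card_fin]; rfl
  refine ⟨hc, ?_⟩
  rintro ⟨K, hK⟩
  have hn : K.Normal := by
    refine ⟨fun k hk g => ?_⟩
    obtain ⟨⟨⟨z, hz⟩, ⟨l, hl⟩⟩, e⟩ := (hK.existsUnique g).exists
    have e' : z * l = g := e
    rw [← e', show z * l * k * (z * l)⁻¹ = z * (l * k * l⁻¹) * z⁻¹ by group]
    rw [← Subgroup.mem_center_iff.1 hz (l * k * l⁻¹), mul_assoc, mul_inv_cancel, mul_one]
    exact K.mul_mem (K.mul_mem hl hk) (K.inv_mem hl)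
  haveI := hn
  have hi : K.index = 3 := by rw [hK.index_eq_card, hc]
  haveI : Fact (Nat.Prime 3) := ⟨Nat.prime_three⟩
  haveI : IsCyclic (Matrix.SpecialLinearGroup (Fin 3) F ⧸ K) :=
    isCyclic_of_prime_card (p := 3) (by rw [← Subgroup.index_eq_card, hi])
  have hle : commutator (Matrix.SpecialLinearGroup (Fin 3) F) ≤ K := by
    rw [commutator_def, Subgroup.commutator_le]
    intro a _ b _
    apply (QuotientGroup.eq_one_iff _).1
    rw [← QuotientGroup.mk'_apply, map_commutatorElement, commutatorElement_eq_one_iff_commute]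
    exact (IsCyclic.commutative (α := Matrix.SpecialLinearGroup (Fin 3) F ⧸ K)).is_comm.comm _ _
  rw [Classical.commutator_sl_eq_top (Or.inl (by simp))] at hle
  rw [top_le_iff.1 hle, Subgroup.index_top] at hi
  omega

end Cfsg.Agent.S2738
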