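import Cfsg.Statements.S2739
import Cfsg.Agent.SL34.Basic

set_option autoImplicit false
open scoped Pointwise
open Cfsg

namespace Cfsg.Agent.S2739

/-- In the projective special linear group PSL(3, 4) all subgroups of order 3 are conjugate. -/
theorem result (F : Type*) [Field F] [Fintype F] (hF : Fintype.card F = 4) (X Y : Subgroup (Matrix.ProjectiveSpecialLinearGroup (Fin 3) F)) (hX : Nat.card ↥X = 3) (hY : Nat.card ↥Y = 3) : ∃ g : Matrix.ProjectiveSpecialLinearGroup (Fin 3) F, MulAut.conj g • X = Y := by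
  classical
  obtain ⟨w, hw, hw1⟩ := SL34.exists_omega hF
  let π := QuotientGroup.mk' (Subgroup.center (Matrix.SpecialLinearGroup (Fin 3) F))
  have key : ∀ Z : Subgroup (Matrix.ProjectiveSpecialLinearGroup (Fin 3) F), Nat.card ↥Z = 3 →
      ∃ g : Matrix.ProjectiveSpecialLinearGroup (Fin 3) F,
        MulAut.conj g • Subgroup.zpowers (π (SL34.diagW hF hw)) = Z := by
    intro Z hZ
    haveI : Fact (Nat.Prime 3) := ⟨Nat.prime_three⟩
    haveI : Nontrivial ↥Z := Finite.one_lt_card_iff_nontrivial.1 (by omega)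
    obtain ⟨z, hz⟩ := exists_ne (1 : ↥Z)
    have hz3 : z ^ 3 = 1 := by have := pow_card_eq_one' (x := z); rwa [hZ] at this
    have hzt : Subgroup.zpowers (z : Matrix.ProjectiveSpecialLinearGroup (Fin 3) F) = Z := by
      apply Subgroup.eq_of_le_of_card_ge (Subgroup.zpowers_le.2 z.2)
      rw [hZ, Nat.card_zpowers, Subgroup.orderOf_coe,
        orderOf_eq_prime hz3 hz]
    obtain ⟨x, hx⟩ := QuotientGroup.mk'_surjective (Subgroup.center (Matrix.SpecialLinearGroup (Fin 3) F))
      (z : Matrix.ProjectiveSpecialLinearGroup (Fin 3) F)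
    have h3 : x ^ 3 ∈ Subgroup.center _ := by
      apply (QuotientGroup.eq_one_iff _).1
      rw [← QuotientGroup.mk'_apply, map_pow, hx]
      exact_mod_cast hz3
    have hns : x ∉ Subgroup.center _ := fun h => hz (by
      apply Subtype.ext
      rw [← hx, QuotientGroup.mk'_apply]
      exact (QuotientGroup.eq_one_iff _).2 h)
    obtain ⟨P, hP⟩ := SL34.conj_diag hF hw hw1 x h3 hns
    refine ⟨π P, ?_⟩
    rw [← hzt, Subgroup.pointwise_smul_def]
    refine (MonoidHom.map_zpowers _ _).trans (congrArg Subgroup.zpowers ?_)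
    show π P * π (SL34.diagW hF hw) * (π P)⁻¹ = _
    rw [← map_mul, ← hP, map_mul, mul_inv_cancel_right]
    exact hx
  obtain ⟨a, ha⟩ := key X hX
  obtain ⟨b, hb⟩ := key Y hY
  exact ⟨b * a⁻¹, by rw [← ha, ← hb, ← mul_smul, ← map_mul, inv_mul_cancel_right]⟩

end Cfsg.Agent.S2739
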