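import Cfsg.Statements.S2751
import Cfsg.Agent.S2858
import Cfsg.Agent.S4Amalgam.GoldBound

set_option autoImplicit false
open Cfsg

namespace Cfsg.Agent.S2751

/-- Goldschmidt's bound for amalgams of index (3, 3): let M₁ and M₂ be finite subgroups of a group G such that M₁ ⊓ M₂ is a Sylow 2-subgroup of both M₁ and M₂, each quotient Mᵢ / O₂(Mᵢ) is isomorphic to the symmetric group of degree 3, and no nontrivial subgroup of M₁ ⊓ M₂ is normal in both M₁ and M₂. Then M₁ ⊓ M₂ has order at most 2^7. -/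
theorem result {G : Type*} [Group G] (M₁ M₂ : Subgroup G) [Finite M₁] [Finite M₂] (ha₁ : ∃ P : Sylow 2 M₁, (P : Subgroup M₁) = (M₁ ⊓ M₂).subgroupOf M₁) (ha₂ : ∃ P : Sylow 2 M₂, (P : Subgroup M₂) = (M₁ ⊓ M₂).subgroupOf M₂) (hb₁ : Nonempty (M₁ ⧸ Cfsg.pCore 2 M₁ ≃* Equiv.Perm (Fin 3))) (hb₂ : Nonempty (M₂ ⧸ Cfsg.pCore 2 M₂ ≃* Equiv.Perm (Fin 3))) (hc : ∀ N : Subgroup G, N ≤ M₁ ⊓ M₂ → (N.subgroupOf M₁).Normal → (N.subgroupOf M₂).Normal → N = ⊥) : Nat.card ↥(M₁ ⊓ M₂) ≤ 2 ^ 7 := by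
  obtain ⟨e₁⟩ := hb₁
  obtain ⟨e₂⟩ := hb₂
  have d1 := S2858.index_data M₁ (M₁ ⊓ M₂) inf_le_left ha₁ e₁
  have d2 := S2858.index_data M₂ (M₁ ⊓ M₂) inf_le_right ha₂ e₂
  set X : Subgroup G := M₁ ⊔ M₂ with hX
  let P : Bool → Subgroup X := fun i => (cond i M₁ M₂).subgroupOf X
  have hle : ∀ i, cond i M₁ M₂ ≤ X := fun i => by
    cases i
    · exact le_sup_right
    · exact le_sup_left
  have hmap : ∀ i, (P i).map X.subtype = cond i M₁ M₂ := fun i =>
    Subgroup.map_subgroupOf_eq_of_le (hle i)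
  have hfin : ∀ i, Finite (P i) := fun i => by
    have : Finite ↥(cond i M₁ M₂) := by cases i <;> assumption
    exact Finite.of_equiv _ (Subgroup.subgroupOfEquivOfLe (hle i)).symm.toEquiv
  have hgen : P true ⊔ P false = ⊤ := by
    show M₁.subgroupOf X ⊔ M₂.subgroupOf X = ⊤
    rw [← Subgroup.subgroupOf_sup (le_sup_left : M₁ ≤ X) (le_sup_right : M₂ ≤ X)]
    exact Subgroup.subgroupOf_self _
  have hinj : Function.Injective X.subtype := X.subtype_injective
  have hT : ∀ i, (P i ⊓ P (!i)).map X.subtype = M₁ ⊓ M₂ := fun i => by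
    rw [Subgroup.map_inf _ _ _ hinj, hmap, hmap]
    cases i
    · exact inf_comm _ _
    · rfl
  have hd : ∀ i, IsPGroup 2 ↥(P i ⊓ P (!i)) ∧ (P i ⊓ P (!i)).relIndex (P i) = 3 ∧
      (Cfsg.pCoreOf 2 (P i)).relIndex (P i ⊓ P (!i)) = 2 := fun i => by
    have hd' : IsPGroup 2 ↥(M₁ ⊓ M₂) ∧ (M₁ ⊓ M₂).relIndex (cond i M₁ M₂) = 3 ∧
        (Cfsg.pCoreOf 2 (cond i M₁ M₂)).relIndex (M₁ ⊓ M₂) = 2 := by
      cases i
      · exact d2
      · exact d1
    refine ⟨hd'.1.of_equiv ((MulEquiv.subgroupCongr (hT i).symm).trans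
      (Subgroup.equivMapOfInjective _ X.subtype hinj).symm), ?_, ?_⟩
    · rw [← Subgroup.relIndex_map_map_of_injective _ _ hinj, hT, hmap]
      exact hd'.2.1
    · rw [← Subgroup.relIndex_map_map_of_injective _ _ hinj, hT, ZNComp.pCoreOf_map hinj, hmap]
      exact hd'.2.2
  have hc' : ∀ N : Subgroup X, N ≤ P true ⊓ P false → P true ≤ Subgroup.normalizer (N : Set X) →
      P false ≤ Subgroup.normalizer (N : Set X) → N = ⊥ := fun N hN h1 h2 => by
    have hnor : ∀ i, P i ≤ Subgroup.normalizer (N : Set X) →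
        cond i M₁ M₂ ≤ Subgroup.normalizer (N.map X.subtype : Set G) := fun i h =>
      (hmap i).symm.le.trans ((Subgroup.map_mono h).trans (Subgroup.le_normalizer_map _))
    have h0 := hc (N.map X.subtype) ((Subgroup.map_mono hN).trans (hT true).le)
      (Subgroup.normal_subgroupOf_of_le_normalizer (hnor true h1))
      (Subgroup.normal_subgroupOf_of_le_normalizer (hnor false h2))
    exact (Subgroup.map_eq_bot_iff_of_injective _ hinj).1 h0
  have h := S4Amal.goldschmidt_bound P hgen hd hc'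
  rw [← hT true, Subgroup.card_map_of_injective hinj]
  exact h.trans_eq (by norm_num)

end Cfsg.Agent.S2751
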