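import Cfsg.Statements.S2756
import Cfsg.Agent.QdFree.Inversion
import Cfsg.Agent.Invol.BaerSuzuki

set_option autoImplicit false
open Cfsg
open Subgroup
open Cfsg.Agent

namespace Cfsg.Agent.S2756

/-- For a finite group G the following are equivalent: (a) G has a normal Sylow 2-subgroup; (b) for every odd prime q dividing the order of G and every Sylow q-subgroup T, the normalizer of Z(J(T)) has a normal Sylow 2-subgroup; (c) for every odd prime q and every Sylow q-subgroup T, no nonidentity element of T is inverted by an element of the normalizer of Z(J(T)). Here J(T) is the Thompson subgroup generated by the abelian subgroups of T of largest order. Stated as the two equivalences (a) ⇔ (b) and (a) ⇔ (c). -/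
theorem result {G : Type*} [Group G] [Finite G] : ((∀ P : Sylow 2 G, (P : Subgroup G).Normal) ↔ ∀ (q : ℕ) [Fact q.Prime], q ≠ 2 → q ∣ Nat.card G → ∀ T : Sylow q G, ∀ P : Sylow 2 ↥(Subgroup.normalizer (Cfsg.centerThompsonAOf (T : Subgroup G) : Set G)), (P : Subgroup ↥(Subgroup.normalizer (Cfsg.centerThompsonAOf (T : Subgroup G) : Set G))).Normal) ∧ ((∀ P : Sylow 2 G, (P : Subgroup G).Normal) ↔ ∀ (q : ℕ) [Fact q.Prime], q ≠ 2 → ∀ T : Sylow q G, ∀ x ∈ (T : Subgroup G), x ≠ 1 → ∀ g ∈ Subgroup.normalizer (Cfsg.centerThompsonAOf (T : Subgroup G) : Set G), g * x * g⁻¹ ≠ x⁻¹) := by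
  classical
  have ab : (∀ P : Sylow 2 G, (P : Subgroup G).Normal) → ∀ (N : Subgroup G) (P : Sylow 2 N),
      (P : Subgroup N).Normal := by
    intro h N P
    obtain ⟨P₀, hP₀⟩ := (P.2.map N.subtype).exists_le_sylow
    have hn := h P₀
    rw [(P.3 (P₀.2.comap_subtype (K := N)) (map_le_iff_le_comap.mp hP₀)).symm]
    exact Normal.comap hn _
  have bc : (∀ (q : ℕ) [Fact q.Prime], q ≠ 2 → q ∣ Nat.card G → ∀ T : Sylow q G,
      ∀ P : Sylow 2 ↥(normalizer (centerThompsonAOf (T : Subgroup G) : Set G)),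
        (P : Subgroup ↥(normalizer (centerThompsonAOf (T : Subgroup G) : Set G))).Normal) →
      ∀ (q : ℕ) [Fact q.Prime], q ≠ 2 → ∀ T : Sylow q G, ∀ x ∈ (T : Subgroup G), x ≠ 1 →
        ∀ g ∈ normalizer (centerThompsonAOf (T : Subgroup G) : Set G), g * x * g⁻¹ ≠ x⁻¹ := by
    intro h q _ h2 T x hx hx1 g hg e
    have hq : q ∣ Nat.card G := by
      refine (T.2.card_eq_or_dvd.resolve_left fun hc => hx1 ?_).trans (card_subgroup_dvd_card _)
      exact mem_bot.mp (card_eq_one.mp hc ▸ hx)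
    have hxN : x ∈ normalizer (centerThompsonAOf (T : Subgroup G) : Set G) := by
      rw [Fusion.centerThompsonAOf_eq_zInter]
      exact Fusion.mem_normalizer_zInter (le_normalizer hx)
    set N := normalizer (centerThompsonAOf (T : Subgroup G) : Set G)
    obtain ⟨k, e', hk⟩ := QdFree.exists_odd_pow_two_element (⟨g, hg⟩ : N)
    have hp2 : IsPGroup 2 (zpowers ((⟨g, hg⟩ : N) ^ (2 * k + 1))) := by
      obtain ⟨i, -, hi⟩ := (Nat.dvd_prime_pow Nat.prime_two).1 (orderOf_dvd_of_pow_eq_one hk)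
      exact IsPGroup.of_card (n := i) (by rw [Nat.card_zpowers, hi])
    obtain ⟨P, hP⟩ := hp2.exists_le_sylow
    have := h q h2 hq T P
    set t := (⟨g, hg⟩ : N) ^ (2 * k + 1)
    have ht : t ∈ (P : Subgroup N) := hP (mem_zpowers t)
    have hm : t * ((⟨x, hxN⟩ : N) * t⁻¹ * (⟨x, hxN⟩ : N)⁻¹) ∈ (P : Subgroup N) :=
      mul_mem ht (this.conj_mem _ (inv_mem ht) _)
    have hval : ((t * ((⟨x, hxN⟩ : N) * t⁻¹ * (⟨x, hxN⟩ : N)⁻¹) : N) : G) = (x * x)⁻¹ := by
      have := QdFree.pow_conj_inverts e k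
      simp only [Subgroup.coe_mul, InvMemClass.coe_inv, SubmonoidClass.coe_pow, t, mul_inv_rev]
      rw [← mul_assoc, ← mul_assoc, this]
    refine hx1 (QdFree.eq_one_of_mul_self h2 (T.2.to_le (zpowers_le.mpr hx)) ?_)
    have hdis := IsPGroup.disjoint_of_ne 2 q (Ne.symm h2) _ _ (P.2.map N.subtype) T.2
    rw [disjoint_iff_inf_le] at hdis
    have hq1 : (x * x)⁻¹ ∈ (T : Subgroup G) := inv_mem (mul_mem hx hx)
    exact inv_eq_one.mp (mem_bot.mp (hdis ⟨⟨_, hm, hval⟩, hq1⟩))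
  have ca : (∀ (q : ℕ) [Fact q.Prime], q ≠ 2 → ∀ T : Sylow q G, ∀ x ∈ (T : Subgroup G), x ≠ 1 →
      ∀ g ∈ normalizer (centerThompsonAOf (T : Subgroup G) : Set G), g * x * g⁻¹ ≠ x⁻¹) →
      ∀ P : Sylow 2 G, (P : Subgroup G).Normal := by
    intro h P
    by_contra hP
    set O := Cfsg.pCore 2 G
    have hne : ¬ (P : Subgroup G) ≤ O := fun hle => hP
      (le_antisymm (Core.pCore_le_sylow P) hle ▸ (inferInstance : O.Normal))
    set f := QuotientGroup.mk' O
    have hb : (P : Subgroup G).map f ≠ ⊥ := fun hb => hne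
      ((Subgroup.map_eq_bot_iff _).mp hb |>.trans (QuotientGroup.ker_mk' O).le)
    obtain ⟨⟨s, hs⟩, hs2⟩ := exists_prime_orderOf_dvd_card' 2
      ((P.2.map f).card_eq_or_dvd.resolve_left fun hc => hb (card_eq_one.mp hc))
    rw [← Subgroup.orderOf_coe] at hs2
    obtain ⟨g, u, hu1, hodd, hinv, -⟩ := Invol.exists_inverted_odd hs2 fun N hN hNp hsN => by
      have := hN
      have hle := (Core.le_pCore hNp).trans Core.pCore_quotient_eq_bot.le
      have h1 : s = 1 := mem_bot.mp (hle hsN)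
      simp [h1] at hs2
    obtain ⟨q, hq, hqd⟩ := Nat.exists_prime_and_dvd (fun h1 => hu1 (orderOf_eq_one_iff.mp h1))
    have := Fact.mk hq
    have h2 : q ≠ 2 := by
      rintro rfl
      exact Nat.not_even_iff_odd.mpr hodd (even_iff_two_dvd.mpr hqd)
    obtain ⟨m, hm⟩ := hqd
    have hbad : QdFree.InvertsIn q (⊤ : Subgroup (G ⧸ O)) := by
      have ho : orderOf (u ^ m) = q := by
        rw [orderOf_pow_of_dvd (fun hm0 => (orderOf_pos u).ne' (by rw [hm, hm0, mul_zero]))
          ⟨q, by rw [hm, mul_comm]⟩, hm, Nat.mul_div_cancel]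
        exact Nat.pos_of_ne_zero fun hm0 => (orderOf_pos u).ne' (by rw [hm, hm0, mul_zero])
      refine ⟨u ^ m, mem_top _, IsPGroup.of_card (n := 1) (by rw [Nat.card_zpowers, ho, pow_one]),
        fun h1 => hq.ne_one ?_, s, mem_top _, ?_⟩
      · rw [← ho, h1, orderOf_one]
      · rw [← conj_pow, hinv, inv_pow]
    obtain ⟨T⟩ : Nonempty (Sylow q G) := inferInstance
    obtain ⟨x, hx, hxp, hx1, g', hg', e⟩ := QdFree.invertsIn_normalizer_zInter h2 _ le_rfl
      ((hbad.comap h2 (f := f) (QuotientGroup.mk'_surjective O)).mono le_top) T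
    set N := normalizer (Fusion.zInter 0 (T : Subgroup G) : Set G) with hN
    have hTN : (T : Subgroup G) ≤ N := le_normalizer.trans fun _ hy => Fusion.mem_normalizer_zInter hy
    obtain ⟨R, hR⟩ := (hxp.comap_subtype (K := N)).exists_le_sylow
    obtain ⟨n, hn⟩ := MulAction.exists_smul_eq N R (T.subtype hTN)
    have hxT : (n : G) * x * (n : G)⁻¹ ∈ (T : Subgroup G) := by
      have h1 : n * ⟨x, hx⟩ * n⁻¹ ∈ ((T.subtype hTN : Sylow q N) : Subgroup N) := by
        rw [← hn]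
        exact ⟨⟨x, hx⟩, hR (mem_subgroupOf.mpr (mem_zpowers x)), rfl⟩
      exact mem_subgroupOf.mp h1
    refine h q h2 T _ hxT (fun h1 => hx1 (conj_eq_one_iff.mp h1)) ((n : G) * g' * (n : G)⁻¹) ?_ ?_
    · rw [Fusion.centerThompsonAOf_eq_zInter]
      exact mul_mem (mul_mem n.2 hg') (inv_mem n.2)
    · calc _ = (n : G) * (g' * x * g'⁻¹) * (n : G)⁻¹ := by group
        _ = _ := by rw [e]; group
  exact ⟨⟨fun h q _ _ _ T => ab h _, fun h => ca (bc h)⟩,
    ⟨fun h => bc fun q _ _ _ T => ab h _, ca⟩⟩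

end Cfsg.Agent.S2756
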