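import Cfsg.Statements.S2758
import Cfsg.Agent.QdFree.Involve
import Cfsg.Agent.S0206
import Mathlib

set_option autoImplicit false
open Cfsg

namespace Cfsg.Agent.S2758

variable {G : Type*} [Group G] [Finite G] {p : ℕ} [Fact p.Prime]

theorem inverted_of_acting (x : G) (P : Subgroup G) (hx : ∃ k : ℕ, orderOf x = 2 ^ k)
    (hP : IsPGroup p ↥P) (hn : x ∈ Subgroup.normalizer (P : Set G))
    (hc : x ∉ Subgroup.centralizer (P : Set G)) :
    ∃ x y : G, (∃ k : ℕ, orderOf x = 2 ^ k) ∧ (∃ k : ℕ, orderOf y = p ^ k) ∧ y ≠ 1 ∧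
      x * y * x⁻¹ = y⁻¹ := by
  obtain ⟨k, hk⟩ := hx
  induction k generalizing x with
  | zero =>
    rw [pow_zero, orderOf_eq_one_iff] at hk
    exact absurd (hk ▸ one_mem _) hc
  | succ k ih =>
    by_cases h2 : x * x ∈ Subgroup.centralizer (P : Set G)
    · obtain ⟨u, hu, hne⟩ : ∃ u ∈ P, x * u ≠ u * x := by
        by_contra h
        push Not at h
        exact hc (Subgroup.mem_centralizer_iff.2 fun u hu => (h u hu).symm)
      refine ⟨x, u⁻¹ * (x * u * x⁻¹), ⟨_, hk⟩, ?_, ?_, ?_⟩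
      · have hw : u⁻¹ * (x * u * x⁻¹) ∈ P :=
          mul_mem (inv_mem hu) ((Subgroup.mem_normalizer_iff.1 hn u).1 hu)
        obtain ⟨j, hj⟩ := IsPGroup.iff_orderOf.1 hP ⟨_, hw⟩
        exact ⟨j, by rwa [Subgroup.orderOf_mk] at hj⟩
      · intro h
        rw [inv_mul_eq_one] at h
        exact hne (mul_inv_eq_iff_eq_mul.1 h.symm)
      · have e := Subgroup.mem_centralizer_iff.1 h2 u hu
        calc x * (u⁻¹ * (x * u * x⁻¹)) * x⁻¹ = x * u⁻¹ * x⁻¹ * (x * x * u * (x * x)⁻¹) := by group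
          _ = x * u⁻¹ * x⁻¹ * u := by rw [← e]; group
          _ = _ := by group
    · refine ih (x * x) (mul_mem hn hn) h2 ?_
      rw [← pow_two, orderOf_pow_of_dvd two_ne_zero (hk ▸ dvd_pow_self 2 (Nat.succ_ne_zero k)), hk,
        pow_succ, Nat.mul_div_cancel _ two_pos]

theorem involves_of_inverted (hp : p ≠ 2) (x y : G) (hx : ∃ k : ℕ, orderOf x = 2 ^ k)
    (hy : ∃ k : ℕ, orderOf y = p ^ k) (hy1 : y ≠ 1) (hinv : x * y * x⁻¹ = y⁻¹) :
    Cfsg.Involves (DihedralGroup p) G := by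
  have hp' : p.Prime := Fact.out
  obtain ⟨k, hk⟩ := hy
  rcases k with - | k
  · exact absurd (orderOf_eq_one_iff.1 (by simpa using hk)) hy1
  set z := y ^ p ^ k with hz
  have hzo : orderOf z = p := by
    rw [hz, orderOf_pow_of_dvd (pow_ne_zero _ hp'.ne_zero) (hk ▸ pow_dvd_pow p k.le_succ), hk,
      pow_succ, Nat.mul_div_cancel_left _ (pow_pos hp'.pos k)]
  have hzinv : x * z * x⁻¹ = z⁻¹ := by rw [hz, ← conj_pow, hinv, inv_pow]
  set K := Subgroup.closure ({x, z} : Set G) with hK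
  have hxK : x ∈ K := Subgroup.subset_closure (by simp)
  have hzK : z ∈ K := Subgroup.subset_closure (by simp)
  set T := (Subgroup.zpowers (x * x)).subgroupOf K with hT
  have hcomm : ∀ g ∈ K, g * (x * x) = x * x * g := by
    intro g hg
    have hle : K ≤ Subgroup.centralizer {x * x} := (Subgroup.closure_le _).2 (by
      rintro w (rfl | rfl)
      · exact Subgroup.mem_centralizer_singleton_iff.2 (mul_assoc w w w).symm
      · refine Subgroup.mem_centralizer_singleton_iff.2 ?_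
        have e : x * x * z * (x * x)⁻¹ = z := by
          calc x * x * z * (x * x)⁻¹ = x * (x * z * x⁻¹) * x⁻¹ := by group
            _ = x * z⁻¹ * x⁻¹ := by rw [hzinv]
            _ = (x * z * x⁻¹)⁻¹ := by group
            _ = z := by rw [hzinv, inv_inv]
        exact (mul_inv_eq_iff_eq_mul.1 e).symm)
    exact Subgroup.mem_centralizer_singleton_iff.1 (hle hg)
  haveI : T.Normal := ⟨fun t ht g => by
    obtain ⟨i, hi⟩ := Subgroup.mem_zpowers_iff.1 (Subgroup.mem_subgroupOf.1 ht)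
    rw [hT, Subgroup.mem_subgroupOf]
    show (g : G) * t * (g : G)⁻¹ ∈ _
    rw [← hi, ((show Commute (g : G) (x * x) from hcomm g g.2).zpow_right i).eq, mul_inv_cancel_right]
    exact Subgroup.zpow_mem_zpowers _ _⟩
  let q := QuotientGroup.mk' T
  set a := q ⟨x, hxK⟩ with ha
  set b := q ⟨z, hzK⟩ with hb
  obtain ⟨j, hj⟩ := hx
  have hcop : ∀ w : G, w ∈ Subgroup.zpowers (x * x) → w ∈ Subgroup.zpowers z → w = 1 := fun w h1 h2 => by
    have e1 : orderOf w ∣ 2 ^ j := hj ▸ orderOf_dvd_of_mem_zpowers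
      (Subgroup.zpowers_le.2 (mul_mem (Subgroup.mem_zpowers x) (Subgroup.mem_zpowers x)) h1)
    have e2 : orderOf w ∣ p := hzo ▸ orderOf_dvd_of_mem_zpowers h2
    exact orderOf_eq_one_iff.1 (Nat.eq_one_of_dvd_coprimes
      (Nat.Coprime.pow_left j ((Nat.coprime_primes Nat.prime_two hp').2 (Ne.symm hp))) e1 e2)
  have hb1 : b ≠ 1 := fun h => by
    have h' := hcop z (Subgroup.mem_subgroupOf.1 ((QuotientGroup.eq_one_iff _).1 h)) (Subgroup.mem_zpowers z)
    rw [h', orderOf_one] at hzo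
    exact hp'.ne_one hzo.symm
  have hbo : orderOf b = p := by
    refine orderOf_eq_prime ?_ hb1
    rw [hb, ← map_pow, show (⟨z, hzK⟩ : K) ^ p = 1 from Subtype.ext (by
      rw [SubmonoidClass.coe_pow]; exact hzo ▸ pow_orderOf_eq_one z), map_one]
  have ha2 : a * a = 1 := by
    rw [ha, ← map_mul]
    exact (QuotientGroup.eq_one_iff _).2 (Subgroup.mem_subgroupOf.2 (Subgroup.mem_zpowers _))
  have hab : a * b * a⁻¹ = b⁻¹ := by
    rw [ha, hb, ← map_mul, ← map_inv, ← map_mul, ← map_inv]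
    exact congrArg q (Subtype.ext hzinv)
  have ha1 : a ≠ 1 := fun h => by
    rw [h, one_mul, inv_one, mul_one] at hab
    have : b ^ 2 = 1 := by rw [pow_two]; nth_rw 2 [hab]; exact mul_inv_cancel b
    have := Nat.le_of_dvd two_pos (hbo ▸ orderOf_dvd_of_pow_eq_one this)
    have := hp'.two_le
    omega
  have hab2 : a * b * (a * b) = 1 := by
    calc a * b * (a * b) = a * b * a⁻¹ * (a * a) * b := by group
      _ = 1 := by rw [hab, ha2, mul_one, inv_mul_cancel]
  have hab1 : a * b ≠ 1 := fun h => by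
    have : a = b⁻¹ := eq_inv_of_mul_eq_one_left h
    rw [this] at ha2
    have h2 : b ^ 2 = 1 := by rw [pow_two, ← inv_inj, mul_inv_rev, ha2, inv_one]
    have := Nat.le_of_dvd two_pos (hbo ▸ orderOf_dvd_of_pow_eq_one h2)
    have := hp'.two_le
    omega
  obtain ⟨e⟩ := Cfsg.Agent.S0206.result a (a * b)
    (orderOf_eq_prime (by rw [pow_two, ha2]) ha1) (orderOf_eq_prime (by rw [pow_two, hab2]) hab1)
    (fun h => hb1 (left_eq_mul.1 h))
  rw [← mul_assoc, ha2, one_mul, hbo] at e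
  exact QdFree.involves_of_sec (K := K)
    (QdFree.involves_mk (Subgroup.closure ({a, a * b} : Set (K ⧸ T))) e.toMonoidHom e.surjective)
    (f := q) (QuotientGroup.mk'_surjective T)

theorem acting_of_involves (hp : p ≠ 2) (h : Cfsg.Involves (DihedralGroup p) G) :
    ∃ (x : G) (P : Subgroup G), (∃ k : ℕ, orderOf x = 2 ^ k) ∧ IsPGroup p ↥P ∧
      x ∈ Subgroup.normalizer (P : Set G) ∧ x ∉ Subgroup.centralizer (P : Set G) := by
  have hp' : p.Prime := Fact.out
  obtain ⟨K, f, hf⟩ := QdFree.exists_surjective_of_involves h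
  set R := Subgroup.zpowers (DihedralGroup.r (1 : ZMod p)) with hR
  have hRc : Nat.card R = p := by rw [Nat.card_zpowers, DihedralGroup.orderOf_r_one]
  haveI : R.Normal := Subgroup.normal_of_index_eq_two (by
    have h' := R.card_mul_index
    rw [hRc, DihedralGroup.nat_card, mul_comm 2 p] at h'
    exact Nat.eq_of_mul_eq_mul_left hp'.pos h')
  set M := R.comap f
  let fM : M →* R := f.subgroupComap R
  have hfM : Function.Surjective fM := fun z => by
    obtain ⟨w, hw⟩ := hf z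
    exact ⟨⟨w, show f w ∈ R from hw ▸ z.2⟩, Subtype.ext hw⟩
  obtain ⟨P⟩ : Nonempty (Sylow p M) := inferInstance
  obtain ⟨u, huP, hu⟩ : ∃ u ∈ (P : Subgroup M), fM u ≠ 1 := by
    by_contra hne
    push Not at hne
    have hbot : ((P.mapSurjective hfM : Sylow p R) : Subgroup R) = ⊥ := by
      rw [Sylow.coe_mapSurjective, eq_bot_iff]
      rintro _ ⟨w, hw, rfl⟩
      exact hne w hw
    have := (P.mapSurjective hfM).card_eq_multiplicity
    rw [hbot, Subgroup.card_bot, hRc, hp'.factorization_self, pow_one] at this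
    exact hp'.ne_one this.symm
  set P' := (P : Subgroup M).map M.subtype
  obtain ⟨s, hs⟩ := hf (DihedralGroup.sr 0)
  have hs2 : s ∈ Subgroup.normalizer (P' : Set K) ⊔ M := Sylow.normalizer_sup_eq_top P ▸ Subgroup.mem_top s
  obtain ⟨n, hn, m, hm, rfl⟩ := Subgroup.mem_sup_of_normal_right.1 hs2
  obtain ⟨i, hi⟩ : ∃ i : ZMod p, f n = DihedralGroup.sr i := by
    cases hfn : f n with
    | sr i => exact ⟨i, rfl⟩
    | r i =>
      exfalso
      rw [map_mul, hfn] at hs
      obtain ⟨l, hl⟩ := Subgroup.mem_zpowers_iff.1 (show f m ∈ R from hm)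
      rw [← hl, DihedralGroup.r_one_zpow, DihedralGroup.r_mul_r] at hs
      simp at hs
  obtain ⟨a, c, hac, hc0, hao, hcn⟩ : ∃ a c : ℕ, orderOf n = 2 ^ a * c ∧ ¬ 2 ∣ c ∧ orderOf (n ^ c) = 2 ^ a ∧ Odd c := by
    obtain ⟨a, c, hc, he⟩ := Nat.exists_eq_pow_mul_and_not_dvd (orderOf_pos n).ne' 2 (by norm_num)
    refine ⟨a, c, he, hc, ?_, Nat.not_even_iff_odd.1 fun h => hc h.two_dvd⟩
    have hc0 : c ≠ 0 := fun h => hc (h ▸ dvd_zero 2)
    rw [orderOf_pow_of_dvd hc0 (he ▸ dvd_mul_left c _), he, Nat.mul_div_cancel _ (Nat.pos_of_ne_zero hc0)]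
  refine ⟨((n ^ c : K) : G), P'.map K.subtype, ⟨a, by rw [Subgroup.orderOf_coe]; exact hao⟩,
    (P.isPGroup'.map _).map _, ?_, ?_⟩
  · exact (Subgroup.le_normalizer_map K.subtype) ⟨n ^ c, pow_mem hn c, rfl⟩
  · intro hc'
    have e := Subgroup.mem_centralizer_iff.1 hc' ((u : K) : G) ⟨(u : K), ⟨u, huP, rfl⟩, rfl⟩
    have e' : (u : K) * n ^ c = n ^ c * (u : K) := Subtype.ext e
    have e'' := congrArg f e'
    obtain ⟨d, hd⟩ := hcn
    rw [map_mul, map_mul, map_pow, hd, pow_succ, pow_mul, hi, sq (DihedralGroup.sr i),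
      DihedralGroup.sr_mul_sr, sub_self] at e''
    obtain ⟨l, hl⟩ := Subgroup.mem_zpowers_iff.1 (fM u).2
    have hl' : f (u : K) = DihedralGroup.r (l : ZMod p) := by
      rw [← DihedralGroup.r_one_zpow, hl]; rfl
    rw [hl', show DihedralGroup.r (0 : ZMod p) = 1 from rfl, one_pow, one_mul,
      DihedralGroup.r_mul_sr, DihedralGroup.sr_mul_r, DihedralGroup.sr.injEq] at e''
    refine hu (Subtype.ext ?_)
    show f (u : K) = 1
    rw [hl']
    have h2 : (2 : ZMod p) * (l : ZMod p) = 0 := by linear_combination -e''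
    have h2ne : (2 : ZMod p) ≠ 0 := fun h0 => hp (((Nat.prime_dvd_prime_iff_eq hp' Nat.prime_two).1
      ((ZMod.natCast_eq_zero_iff 2 p).1 (by exact_mod_cast h0))))
    rw [(mul_eq_zero.1 h2).resolve_left h2ne]
    rfl

/-- For an odd prime p and a finite group G the following are equivalent: the dihedral group of order 2p is involved in G; some element of 2-power order normalizes but does not centralize some p-subgroup of G; some element of 2-power order inverts some nonidentity element of p-power order. -/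
theorem result {G : Type*} [Group G] [Finite G] {p : ℕ} [Fact p.Prime] (hp : p ≠ 2) : (Cfsg.Involves (DihedralGroup p) G ↔ ∃ (x : G) (P : Subgroup G), (∃ k : ℕ, orderOf x = 2 ^ k) ∧ IsPGroup p ↥P ∧ x ∈ Subgroup.normalizer (P : Set G) ∧ x ∉ Subgroup.centralizer (P : Set G)) ∧ (Cfsg.Involves (DihedralGroup p) G ↔ ∃ x y : G, (∃ k : ℕ, orderOf x = 2 ^ k) ∧ (∃ k : ℕ, orderOf y = p ^ k) ∧ y ≠ 1 ∧ x * y * x⁻¹ = y⁻¹) := by
  have h1 := @acting_of_involves G _ _ p _ hp
  have h2 : (∃ (x : G) (P : Subgroup G), (∃ k : ℕ, orderOf x = 2 ^ k) ∧ IsPGroup p ↥P ∧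
      x ∈ Subgroup.normalizer (P : Set G) ∧ x ∉ Subgroup.centralizer (P : Set G)) →
      ∃ x y : G, (∃ k : ℕ, orderOf x = 2 ^ k) ∧ (∃ k : ℕ, orderOf y = p ^ k) ∧ y ≠ 1 ∧
        x * y * x⁻¹ = y⁻¹ := fun ⟨x, P, a, b, c, d⟩ => inverted_of_acting x P a b c d
  have h3 : (∃ x y : G, (∃ k : ℕ, orderOf x = 2 ^ k) ∧ (∃ k : ℕ, orderOf y = p ^ k) ∧ y ≠ 1 ∧
      x * y * x⁻¹ = y⁻¹) → Cfsg.Involves (DihedralGroup p) G :=
    fun ⟨x, y, a, b, c, d⟩ => involves_of_inverted hp x y a b c d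
  exact ⟨⟨h1, fun h => h3 (h2 h)⟩, ⟨fun h => h2 (h1 h), h3⟩⟩

end Cfsg.Agent.S2758
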