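import Cfsg.Statements.S2759
import Cfsg.Agent.S4InvolveAux

set_option autoImplicit false
open Cfsg
open Subgroup
open Cfsg.Agent

namespace Cfsg.Agent.S2759

/-- For a finite group G, the symmetric group of degree 4 is involved in G if and only if there is a 2-subgroup T of G such that the symmetric group of degree 3 is involved in N(T)/C(T). -/
theorem result {G : Type*} [Group G] [Finite G] : Cfsg.Involves (Equiv.Perm (Fin 4)) G ↔ ∃ T : Subgroup G, IsPGroup 2 ↥T ∧ Cfsg.Involves (Equiv.Perm (Fin 3)) (↥(Subgroup.normalizer (T : Set G)) ⧸ (Subgroup.centralizer (T : Set G)).subgroupOf (Subgroup.normalizer (T : Set G))) := by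
  classical
  have h3 : Fact (Nat.Prime 2) := ⟨Nat.prime_two⟩
  constructor
  · intro h
    obtain ⟨K, f, hf⟩ := QdFree.exists_surjective_of_involves h
    -- the symmetric group of degree 3 as a quotient of `S₄`
    let V₄ := OrderType.fourGroup
    have hV₄ : V₄.Normal := ⟨fun n hn g => by
      obtain ⟨h1, h2⟩ := hn
      exact ⟨by rw [show g * n * g⁻¹ * (g * n * g⁻¹) = g * (n * n) * g⁻¹ by group, h1, mul_one, mul_inv_cancel],
        by rw [map_mul, map_mul, h2, mul_one, ← map_mul, mul_inv_cancel, map_one]⟩⟩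
    let ι : Equiv.Perm (Fin 3) →* Equiv.Perm (Fin 4) :=
      MonoidHom.mk' (fun σ => Equiv.Perm.decomposeFin.symm (0, σ)) (by decide +kernel)
    let ρ := (QuotientGroup.mk' V₄).comp ι
    have hρinj : Function.Injective ρ := by
      rw [injective_iff_map_eq_one]
      intro σ hσ
      have key : ∀ σ : Equiv.Perm (Fin 3),
          Equiv.Perm.decomposeFin.symm (0, σ) * Equiv.Perm.decomposeFin.symm (0, σ) =
            (1 : Equiv.Perm (Fin 4)) →
          Equiv.Perm.sign (Equiv.Perm.decomposeFin.symm (0, σ) : Equiv.Perm (Fin 4)) = 1 → σ = 1 := by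
        decide +kernel
      have h1 : ι σ ∈ V₄ := (QuotientGroup.eq_one_iff _).mp hσ
      exact key σ h1.1 h1.2
    have hV4card : Nat.card V₄ = 4 := by
      have e : V₄ ≃ {x : Equiv.Perm (Fin 4) // x * x = 1 ∧ Equiv.Perm.sign x = 1} :=
        Equiv.subtypeEquivRight fun x => Iff.rfl
      rw [Nat.card_congr e, Nat.card_eq_fintype_card, Fintype.card_subtype]
      decide +kernel
    have hρ : Function.Bijective ρ := by
      rw [Nat.bijective_iff_injective_and_card]
      refine ⟨hρinj, ?_⟩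
      have h1 := card_eq_card_quotient_mul_card_subgroup V₄
      rw [hV4card, Nat.card_perm, Nat.card_fin] at h1
      rw [Nat.card_perm, Nat.card_fin]
      have h24 : Nat.factorial 4 = 24 := rfl
      have h6 : Nat.factorial 3 = 6 := rfl
      omega
    let g : Equiv.Perm (Fin 4) →* Equiv.Perm (Fin 3) :=
      (MulEquiv.ofBijective ρ hρ).symm.toMonoidHom.comp (QuotientGroup.mk' V₄)
    have hg : Function.Surjective g :=
      (MulEquiv.ofBijective ρ hρ).symm.surjective.comp (QuotientGroup.mk'_surjective _)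
    have hgV : ∀ x ∈ V₄, g x = 1 := fun x hx => by
      show (MulEquiv.ofBijective ρ hρ).symm (QuotientGroup.mk' V₄ x) = 1
      rw [show QuotientGroup.mk' V₄ x = 1 from (QuotientGroup.eq_one_iff _).mpr hx, map_one]
    set N := V₄.comap f
    have hNn : N.Normal := hV₄.comap f
    obtain ⟨P⟩ : Nonempty (Sylow 2 N) := inferInstance
    set P' := (P : Subgroup N).map N.subtype with hP'
    have hfr := Sylow.normalizer_sup_eq_top P
    set T := P'.map K.subtype with hT
    refine ⟨T, (P.isPGroup'.map _).map _, ?_⟩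
    set NT := normalizer (T : Set G)
    set q := QuotientGroup.mk' ((centralizer (T : Set G)).subgroupOf NT)
    set Kn := (normalizer (P' : Set K)).map K.subtype
    have hKn : Kn ≤ NT := le_normalizer_map K.subtype
    let i : normalizer (P' : Set K) →* NT :=
      (inclusion hKn).comp ((normalizer (P' : Set K)).equivMapOfInjective K.subtype K.subtype_injective).toMonoidHom
    let q' := (q.comp i).rangeRestrict
    let fg : normalizer (P' : Set K) →* Equiv.Perm (Fin 3) := (g.comp f).comp (Subgroup.subtype _)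
    have hPV : P'.map f = V₄ := by
      have hsub : Function.Surjective (f.subgroupComap V₄) :=
        MonoidHom.subgroupComap_surjective_of_surjective f _ hf
      have htop : (⊤ : Subgroup V₄) = (P.mapSurjective hsub : Subgroup V₄) :=
        (P.mapSurjective hsub).is_maximal'
          ((IsPGroup.of_card (n := 2) (by rw [hV4card]; rfl)).of_equiv Subgroup.topEquiv.symm) le_top
      refine le_antisymm ?_ fun y hy => ?_
      · rintro _ ⟨_, ⟨x, _, rfl⟩, rfl⟩
        exact x.2
      · obtain ⟨x, hx, hxy⟩ := htop.le (mem_top (⟨y, hy⟩ : V₄))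
        exact ⟨x, ⟨x, hx, rfl⟩, congrArg Subtype.val hxy⟩
    have hker : q'.ker ≤ fg.ker := by
      intro x hx
      rw [MonoidHom.ker_rangeRestrict] at hx
      have h1 : ((x : K) : G) ∈ centralizer (T : Set G) := (QuotientGroup.eq_one_iff (N := (centralizer (T : Set G)).subgroupOf NT) (i x)).mp hx
      refine hgV _ ?_
      have key : ∀ σ : Equiv.Perm (Fin 4), (∀ v : Equiv.Perm (Fin 4),
          (v * v = 1 ∧ Equiv.Perm.sign v = 1) → v * σ = σ * v) → σ * σ = 1 ∧ Equiv.Perm.sign σ = 1 := by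
        decide +kernel
      refine key _ fun v hv => ?_
      obtain ⟨y, hy, rfl⟩ := hPV.ge (show v ∈ V₄ from hv)
      rw [← map_mul, ← map_mul]
      exact congrArg f (Subtype.ext (mem_centralizer_iff.mp h1 (y : G) (mem_map_of_mem _ hy)))
    have hfgsurj : Function.Surjective fg := by
      intro σ
      obtain ⟨s, hs⟩ := hg σ
      obtain ⟨x, hx⟩ := hf s
      obtain ⟨n, hn, m, hm, hnm⟩ := mem_sup_of_normal_right.mp
        (hfr ▸ mem_top x : x ∈ normalizer (P' : Set K) ⊔ N)
      refine ⟨⟨n, hn⟩, ?_⟩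
      show g (f n) = σ
      rw [← hs, ← hx, ← hnm, map_mul, map_mul, hgV (f m) hm, mul_one]
    let h := MonoidHom.liftOfSurjective q' (MonoidHom.rangeRestrict_surjective _) ⟨fg, hker⟩
    refine QdFree.involves_mk _ h fun σ => ?_
    obtain ⟨x, hx⟩ := hfgsurj σ
    exact ⟨q' x, (MonoidHom.liftOfRightInverse_comp_apply q' _ _ ⟨fg, hker⟩ x).trans hx⟩
  · rintro ⟨T, hT, h⟩
    obtain ⟨K, f, hf⟩ := QdFree.exists_surjective_of_involves h
    obtain ⟨z, t, ⟨j, ht⟩, hzo, ⟨k, hzk⟩, hinv, hfz⟩ := S4InvolveAux.exists_inverted f hf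
    -- a power of order three
    obtain ⟨i, z', hz1, hz3, hz'⟩ : ∃ i : ℕ, ∃ z' : K, z' ≠ 1 ∧ z' ^ 3 = 1 ∧ z' = z ^ 3 ^ i := by
      have hex : ∃ i, z ^ 3 ^ i = 1 := ⟨k, hzk⟩
      rcases e : Nat.find hex with _ | i
      · exfalso
        have := Nat.find_spec hex
        rw [e, pow_zero, pow_one] at this
        exact hfz (this ▸ map_one f)
      · exact ⟨i, _, Nat.find_min hex (by omega), by
          rw [← pow_mul, ← pow_succ, ← e]; exact Nat.find_spec hex, rfl⟩
    set NT := normalizer (T : Set G)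
    set q := QuotientGroup.mk' ((centralizer (T : Set G)).subgroupOf NT)
    obtain ⟨Z, hZ⟩ := QuotientGroup.mk'_surjective ((centralizer (T : Set G)).subgroupOf NT) (z' : _)
    obtain ⟨S, hS⟩ := QuotientGroup.mk'_surjective ((centralizer (T : Set G)).subgroupOf NT) (t : _)
    have hq : ∀ {x : NT}, q x = 1 → (x : G) ∈ centralizer (T : Set G) := fun hx =>
      (QuotientGroup.eq_one_iff (N := (centralizer (T : Set G)).subgroupOf NT) _).mp hx
    obtain ⟨a, m, hm, ham⟩ := Nat.exists_eq_pow_mul_and_not_dvd (orderOf_pos Z).ne' 2 (by norm_num)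
    have hZ3 : q Z ^ 3 = 1 := by rw [hZ]; exact congrArg Subtype.val hz3
    set Z₁ := Z ^ 2 ^ a with hZ₁
    have hZ₁3 : q Z₁ ^ 3 = 1 := by rw [hZ₁, map_pow, ← pow_mul, mul_comm, pow_mul, hZ3, one_pow]
    have hne : q Z₁ ≠ 1 := by
      rw [hZ₁, map_pow]
      intro h1
      have h2 : orderOf (q Z) ∣ 2 ^ a := orderOf_dvd_of_pow_eq_one h1
      have h4 : orderOf (q Z) = 3 := orderOf_eq_prime hZ3 (by
        rw [hZ]; exact fun h => hz1 (Subtype.ext h))
      rw [h4] at h2
      exact absurd (Nat.prime_three.dvd_of_dvd_pow h2) (by norm_num)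
    have hinv' : q S * q Z * (q S)⁻¹ = (q Z)⁻¹ := by
      rw [hS, hZ]
      refine congrArg Subtype.val (?_ : t * z' * t⁻¹ = z'⁻¹)
      rw [hz', ← conj_pow, hinv, inv_pow]
    refine S4InvolveAux.involves_s4_of_inverted hT (z := (Z₁ : G)) (t := (S : G)) Z₁.2 S.2 ?_
      (fun h => hne ((QuotientGroup.eq_one_iff _).mpr h)) (hq (x := Z₁ ^ 3) (by rw [map_pow, hZ₁3]))
      (hq (x := S * Z₁ * S⁻¹ * Z₁) ?_) (j := j) (hq (x := S ^ 2 ^ j) ?_)
    · rw [Subgroup.orderOf_coe, hZ₁, orderOf_pow_of_dvd (pow_ne_zero _ two_ne_zero) (ham ▸ dvd_mul_right _ _),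
        ham, Nat.mul_div_cancel_left _ (pow_pos two_pos a)]
      exact Nat.odd_iff.mpr (by omega)
    · rw [map_mul, map_mul, map_mul, map_inv, hZ₁, map_pow, ← conj_pow, hinv', inv_pow, inv_mul_cancel]
    · rw [map_pow, hS]; exact congrArg Subtype.val ht

end Cfsg.Agent.S2759
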