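import Cfsg.Statements.S2760
import Cfsg.Agent.LocalStructure.CharP
import Cfsg.Agent.Fusion.Residual

set_option autoImplicit false
open Cfsg

namespace Cfsg.Agent.S2760

open Subgroup

/-- Let G be a finite group with C_G(O₂(G)) ≤ O₂(G) and H a subgroup of G such that H is normal in G, or the subgroup O²(H) generated by the elements of H of odd order is normal in G. Then C_H(O₂(H)) ≤ O₂(H). -/
theorem result {G : Type*} [Group G] [Finite G] (hchar : Subgroup.centralizer (Cfsg.pCore 2 G : Set G) ≤ Cfsg.pCore 2 G) (H : Subgroup G) (hH : H.Normal ∨ ((Cfsg.pResidual 2 ↥H).map H.subtype).Normal) : Subgroup.centralizer (Cfsg.pCore 2 ↥H : Set ↥H) ≤ Cfsg.pCore 2 ↥H := by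
  have := Fact.mk Nat.prime_two
  refine LocalStructure.charP_iff.1 ?_
  rcases hH with hH | hH
  · exact LocalStructure.charP_of_subnormal (Subgroup.Normal.isSubnormal hH) hchar
  set K := (Cfsg.pResidual 2 ↥H).map H.subtype with hK
  have hKH : K ≤ H := map_subtype_le _
  have hKc : LocalStructure.CharP 2 K :=
    LocalStructure.charP_of_subnormal (Subgroup.Normal.isSubnormal hH) hchar
  have hsn : (K.subgroupOf H).IsSubnormal := (hH.comap H.subtype).isSubnormal
  have hle : Cfsg.pCoreOf 2 K ≤ Cfsg.pCoreOf 2 H := by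
    rw [LocalStructure.pCoreOf_eq_inf hKH hsn]; exact inf_le_right
  refine LocalStructure.le_pCoreOf_of_normal inf_le_left (Coprime.le_normalizer_inf le_normalizer
    (Coprime.le_normalizer_centralizer (LocalStructure.le_normalizer_pCoreOf H)))
    (LocalStructure.isPGroup_of_forall_coprime fun x hx hxc => ?_)
  have hxK : x ∈ K := Fusion.mem_pResidual_subgroup hx.1 hxc
  have hxO : x ∈ Cfsg.pCoreOf 2 K := hKc ⟨hxK, centralizer_le hle hx.2⟩
  exact Subgroup.mem_bot.mp
    (LocalStructure.coprime_mem_centralizer_of_isPGroup (LocalStructure.pCoreOf_isPGroup K) hxO hxc)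

end Cfsg.Agent.S2760
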