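import Cfsg.Statements.S2763
import Cfsg.Agent.QdFree.Control

set_option autoImplicit false
open Cfsg

namespace Cfsg.Agent.S2763

/-- In the group Qd(p) (p prime; the natural semidirect product of an elementary abelian group of order p² by SL₂(p)), the normalizer of every nontrivial characteristic subgroup of a Sylow p-subgroup S equals the normalizer of S, which is a proper subgroup; in particular no such characteristic subgroup is normal. -/
theorem result {p : ℕ} [Fact p.Prime] (S : Sylow p ↥(Cfsg.qd p)) (T : Subgroup ↥(S : Subgroup ↥(Cfsg.qd p))) (hT : T ≠ ⊥) (hTc : T.Characteristic) : Subgroup.normalizer ((T.map (S : Subgroup ↥(Cfsg.qd p)).subtype : Subgroup ↥(Cfsg.qd p)) : Set ↥(Cfsg.qd p)) = Subgroup.normalizer ((S : Subgroup ↥(Cfsg.qd p)) : Set ↥(Cfsg.qd p)) ∧ Subgroup.normalizer ((S : Subgroup ↥(Cfsg.qd p)) : Set ↥(Cfsg.qd p)) ≠ ⊤ := by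
  set e := (QdFree.qdEquiv p).symm
  set S' : Sylow p (QdFree.Affine (ZMod p)) := S.mapSurjective (f := e.toMonoidHom) e.surjective
  let f : ↥(S : Subgroup ↥(Cfsg.qd p)) ≃* ↥(S' : Subgroup (QdFree.Affine (ZMod p))) :=
    ((S : Subgroup ↥(Cfsg.qd p)).equivMapOfInjective e.toMonoidHom e.injective).trans
      (MulEquiv.subgroupCongr (Sylow.coe_mapSurjective (f := e.toMonoidHom) e.surjective S).symm)
  obtain ⟨h1, h2⟩ := QdFree.normalizer_eq_of_characteristic S' (T := T.map f.toMonoidHom)
    (fun h => hT ((Subgroup.map_eq_bot_iff_of_injective _ f.injective).mp h)) fun θ => by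
      conv_rhs => rw [← Subgroup.characteristic_iff_map_eq.mp hTc ((f.trans θ).trans f.symm)]
      rw [Subgroup.map_map, Subgroup.map_map]
      congr 1
      exact MonoidHom.ext fun t => (f.apply_symm_apply _).symm
  have hmap : (T.map f.toMonoidHom).map (S' : Subgroup (QdFree.Affine (ZMod p))).subtype =
      (T.map (S : Subgroup ↥(Cfsg.qd p)).subtype).map e.toMonoidHom := by
    rw [Subgroup.map_map, Subgroup.map_map]
    rfl
  have hn : ∀ H : Subgroup ↥(Cfsg.qd p), (Subgroup.normalizer (H : Set ↥(Cfsg.qd p))).map e.toMonoidHom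
      = Subgroup.normalizer (H.map e.toMonoidHom : Set (QdFree.Affine (ZMod p))) :=
    fun H => Subgroup.map_equiv_normalizer_eq H e
  rw [hmap, ← hn, show (S' : Subgroup (QdFree.Affine (ZMod p))) =
    (S : Subgroup ↥(Cfsg.qd p)).map e.toMonoidHom from Sylow.coe_mapSurjective _ _, ← hn] at h1
  refine ⟨Subgroup.map_injective e.injective h1, fun h => h2 ?_⟩
  rw [show (S' : Subgroup (QdFree.Affine (ZMod p))) =
    (S : Subgroup ↥(Cfsg.qd p)).map e.toMonoidHom from Sylow.coe_mapSurjective _ _, ← hn, h,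
    Subgroup.map_top_of_surjective _ e.surjective]

end Cfsg.Agent.S2763
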