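import Cfsg.Statements.S2766
import Cfsg.Agent.PushUp.QdMain

set_option autoImplicit false
open Cfsg

namespace Cfsg.Agent.S2766

/-- Let p ≥ 5 be prime and G a maximal p-local subgroup of a finite group H (G is the normalizer of a nontrivial p-subgroup and lies in no other such normalizer). Suppose C_G(O_p(G)) ≤ O_p(G), G/K ≅ PSL₂(p^n) for some normal K and n ≥ 1, a Sylow p-subgroup S of G lies in exactly one maximal subgroup of G, and N_H(S) is not contained in G. Then G = G₀ × E for subgroups G₀ ≅ Qd(p^n) (the natural semidirect product of the plane over the field with p^n elements by SL₂) and E an elementary abelian p-group. -/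
theorem result {H : Type*} [Group H] [Finite H] {p : ℕ} [Fact p.Prime] (hp : 5 ≤ p) (G : Subgroup H) (hloc : ∃ R : Subgroup H, IsPGroup p ↥R ∧ R ≠ ⊥ ∧ G = Subgroup.normalizer (R : Set H)) (hmax : ∀ R : Subgroup H, IsPGroup p ↥R → R ≠ ⊥ → G ≤ Subgroup.normalizer (R : Set H) → Subgroup.normalizer (R : Set H) = G) (S : Sylow p ↥G) (hE₁ : Subgroup.centralizer (Cfsg.pCore p ↥G : Set ↥G) ≤ Cfsg.pCore p ↥G) (hE₂ : ∃! M : Subgroup ↥G, IsCoatom M ∧ (S : Subgroup ↥G) ≤ M) (K : Subgroup ↥G) [K.Normal] (F : Type) [Field F] [Fintype F] (n : ℕ) (hn : 1 ≤ n) (hF : Fintype.card F = p ^ n) (hE₃ : Nonempty (↥G ⧸ K ≃* Matrix.ProjectiveSpecialLinearGroup (Fin 2) F)) (hN : ¬ Subgroup.normalizer (((S : Subgroup ↥G).map G.subtype : Subgroup H) : Set H) ≤ G) : ∃ G₀ E : Subgroup H, Cfsg.IsInternalDirectProduct G₀ E G ∧ Cfsg.IsElementaryAbelian p E ∧ Nonempty (↥G₀ ≃* ↥(Cfsg.qdOver F)) := by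
  haveI : CharP F p := charP_of_card_eq_prime_pow hF
  obtain ⟨M, h⟩ := PushRankOne.setup_of_iso S hE₁ hE₂ K F n hF hE₃
  obtain ⟨g, hg, hgG⟩ := SetLike.not_le_iff_exists.1 hN
  set SH := (S : Subgroup ↥G).map G.subtype with hSH
  have hSmem : ∀ y : ↥G, (y : H) ∈ SH ↔ y ∈ (S : Subgroup ↥G) := fun y =>
    ⟨fun ⟨z, hz, e⟩ => (Subtype.ext e : z = y) ▸ hz, fun hy => ⟨y, hy, rfl⟩⟩
  -- subgroups normalized by more than `G`
  have hkey : ∀ X : Subgroup ↥G, X.Normal → X ≤ (S : Subgroup ↥G) → X ≠ ⊥ →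
      Subgroup.normalizer ((X.map G.subtype : Subgroup H) : Set H) = G := by
    intro X hX hXS hXne
    refine hmax _ (((S.2.to_le hXS)).map _) ?_ ?_
    · exact fun e => hXne ((Subgroup.map_eq_bot_iff_of_injective X G.subtype_injective).1 e)
    · intro y hy
      refine Subgroup.mem_normalizer_iff.2 fun z => ⟨?_, fun hz => ?_⟩
      · rintro ⟨w, hw, rfl⟩
        exact ⟨⟨y, hy⟩ * w * ⟨y, hy⟩⁻¹, hX.conj_mem w hw _, rfl⟩
      · obtain ⟨w, hw, e⟩ := hz
        refine ⟨⟨y, hy⟩⁻¹ * w * ⟨y, hy⟩⁻¹⁻¹, hX.conj_mem w hw _, ?_⟩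
        show y⁻¹ * (G.subtype w) * y⁻¹⁻¹ = z
        rw [e]; group
  have hinv : ∀ (k : H), k ∈ Subgroup.normalizer (SH : Set H) → ∀ X : Subgroup ↥G, X.Normal →
      X ≤ (S : Subgroup ↥G) → X ≠ ⊥ → (∀ y ∈ X, k * (y : H) * k⁻¹ ∈ X.map G.subtype) → k ∈ G := by
    intro k _ X hX hXS hXne hk
    rw [← hkey X hX hXS hXne]
    have hle : (X.map G.subtype).map (MulAut.conj k).toMonoidHom ≤ X.map G.subtype := by
      rintro _ ⟨_, ⟨y, hy, rfl⟩, rfl⟩
      exact hk y hy
    have heq := Subgroup.eq_of_le_of_card_ge hle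
      (Subgroup.card_map_of_injective (MulAut.conj k).injective).ge
    refine Subgroup.mem_normalizer_iff.2 fun z => ?_
    conv_rhs => rw [← heq]
    refine ⟨fun hz => ⟨z, hz, rfl⟩, fun ⟨w, hw, e⟩ => ?_⟩
    have : w = z := (MulAut.conj k).injective e
    exact this ▸ hw
  have hgS : ∀ {y : H}, y ∈ SH → g * y * g⁻¹ ∈ SH := fun {y} hy =>
    (Subgroup.mem_normalizer_iff.1 hg y).1 hy
  have hgS' : ∀ {y : H}, y ∈ SH → g⁻¹ * y * g ∈ SH := fun {y} hy => by
    have := (Subgroup.mem_normalizer_iff.1 (inv_mem hg) y).1 hy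
    rwa [inv_inv] at this
  classical
  let f : ↥G → ↥G := fun y =>
    if hy : y ∈ (S : Subgroup ↥G) then ⟨g * y * g⁻¹, Subgroup.map_subtype_le _ (hgS ((hSmem y).2 hy))⟩ else 1
  let f' : ↥G → ↥G := fun y =>
    if hy : y ∈ (S : Subgroup ↥G) then ⟨g⁻¹ * y * g, Subgroup.map_subtype_le _ (hgS' ((hSmem y).2 hy))⟩ else 1
  have hf : ∀ y ∈ (S : Subgroup ↥G), ((f y : ↥G) : H) = g * y * g⁻¹ := fun y hy => by
    simp only [f, dif_pos hy]
  have hf' : ∀ y ∈ (S : Subgroup ↥G), ((f' y : ↥G) : H) = g⁻¹ * y * g := fun y hy => by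
    simp only [f', dif_pos hy]
  have hfS : ∀ y ∈ (S : Subgroup ↥G), f y ∈ (S : Subgroup ↥G) := fun y hy =>
    (hSmem _).1 (by rw [hf y hy]; exact hgS ((hSmem y).2 hy))
  have hf'S : ∀ y ∈ (S : Subgroup ↥G), f' y ∈ (S : Subgroup ↥G) := fun y hy =>
    (hSmem _).1 (by rw [hf' y hy]; exact hgS' ((hSmem y).2 hy))
  have hno : ∀ X : Subgroup ↥G, X.Normal → X ≤ (S : Subgroup ↥G) →
      (∀ y ∈ X, f y ∈ X) → X = ⊥ := by
    intro X hX hXS hXf
    by_contra hne
    exact hgG (hinv g hg X hX hXS hne fun y hy => ⟨f y, hXf y hy, hf y (hXS hy)⟩)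
  have hd : ∀ T : Subgroup ↥(S : Subgroup ↥G), T ≠ ⊥ → T.Characteristic →
      ¬ (T.map (S : Subgroup ↥G).subtype).Normal := by
    intro T hT hTc hTn
    refine hT ((Subgroup.map_eq_bot_iff_of_injective T (S : Subgroup ↥G).subtype_injective).1
      (hno _ hTn (Subgroup.map_subtype_le _) ?_))
    let δ : MulAut ↥(S : Subgroup ↥G) :=
      { toFun := fun y => ⟨f y, hfS y y.2⟩
        invFun := fun y => ⟨f' y, hf'S y y.2⟩
        left_inv := fun y => Subtype.ext (Subtype.ext (by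
          rw [hf' _ (hfS y y.2), hf _ y.2]; group))
        right_inv := fun y => Subtype.ext (Subtype.ext (by
          rw [hf _ (hf'S y y.2), hf' _ y.2]; group))
        map_mul' := fun y z => Subtype.ext (Subtype.ext (by
          simp only [Subgroup.coe_mul, hf _ (mul_mem y.2 z.2), hf _ y.2, hf _ z.2]
          group)) }
    rintro _ ⟨y, hy, rfl⟩
    exact ⟨δ y, Subgroup.characteristic_iff_map_le.1 hTc δ ⟨y, hy, rfl⟩, rfl⟩
  obtain ⟨V, c⟩ := PushUp.ctx_of_hd h hd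
  have hq := PushUp.card_sylow h.toSetup₀ F hE₃
  rw [hF] at hq
  obtain ⟨b, hb, L, hL⟩ := c.exists_crit
  have h2 := c.le_two hb hL
  rcases (show b = 0 ∨ b = 1 ∨ b = 2 by omega) with rfl | rfl | rfl
  · obtain ⟨hlen, v, hv, y, hy, hQ⟩ := hL
    obtain rfl := List.length_eq_zero_iff.1 hlen
    cases hy
    exact absurd (c.VQ hv) hQ
  swap
  · exact absurd (c.class_three hd hF hq hb hL).1 (by omega)
  obtain ⟨hcl, -, -, he, -⟩ := PushUp.Ctx.class_two c hd hF hq hb hL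
  have hexp : ∀ s ∈ (S : Subgroup ↥G), s ^ p = 1 := fun s hs => by
    have h1 := Monoid.pow_exponent_eq_one (⟨s, hs⟩ : ↥(S : Subgroup ↥G))
    rw [he (by omega)] at h1
    exact congrArg Subtype.val h1
  obtain ⟨ρ, ψ, W, L', L₁, d⟩ := c.exists_split (F := F) hp hF hq hb hL hexp
  obtain ⟨G0, E, ⟨-, -, hc, hdis, hsup⟩, hE, ⟨e⟩⟩ := PushUp.qd_conclusion d hp hcl hexp f f' hfS hf'S
    (fun y hy z hz => Subtype.ext (by
      rw [Subgroup.coe_mul, hf _ (mul_mem hy hz), hf _ hy, hf _ hz, Subgroup.coe_mul]; group))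
    (fun y hy => Subtype.ext (by rw [hf _ (hf'S y hy), hf' _ hy]; group))
    (fun y hy => Subtype.ext (by rw [hf' _ (hfS y hy), hf _ hy]; group))
    hno (fun X hX hXS hXne k hkS hkX => by
      have hkG : g * k * g⁻¹ ∈ G := by
        refine hinv _ ?_ X hX hXS hXne fun y hy => ?_
        · refine mul_mem (mul_mem hg ?_) (inv_mem hg)
          have hle : SH.map (MulAut.conj (k : H)).toMonoidHom ≤ SH := by
            rintro _ ⟨_, ⟨w, hw, rfl⟩, rfl⟩
            exact ⟨k * w * k⁻¹, hkS w hw, rfl⟩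
          have heq := Subgroup.eq_of_le_of_card_ge hle
            (Subgroup.card_map_of_injective (MulAut.conj (k : H)).injective).ge
          refine Subgroup.mem_normalizer_iff.2 fun z => ?_
          conv_rhs => rw [← heq]
          refine ⟨fun hz => ⟨z, hz, rfl⟩, fun ⟨w, hw, e⟩ => ?_⟩
          have : w = z := (MulAut.conj (k : H)).injective e
          exact this ▸ hw
        · have hyS := hXS hy
          have h1 := hkX (f' y) (hf'S y hyS) (by
            have : f (f' y) = y := Subtype.ext (by rw [hf _ (hf'S y hyS), hf' _ hyS]; group)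
            rw [this]; exact hy)
          refine ⟨_, h1, ?_⟩
          show ((f (k * f' y * k⁻¹) : ↥G) : H) = _
          rw [hf _ (hkS _ (hf'S y hyS))]
          push_cast
          rw [hf' _ hyS]
          group
      refine ⟨⟨g * k * g⁻¹, hkG⟩, fun s hs => Subtype.ext ?_⟩
      rw [hf _ (hkS s hs)]
      push_cast
      rw [hf _ hs]
      group)
  refine ⟨G0.map G.subtype, E.map G.subtype, ⟨Subgroup.map_subtype_le _, Subgroup.map_subtype_le _,
    ?_, ?_, ?_⟩, Agent.Thompson.ea_iff.2 ⟨?_, ?_⟩,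
    ⟨(Subgroup.equivMapOfInjective G0 G.subtype G.subtype_injective).symm.trans e⟩⟩
  · rintro _ ⟨a, ha, rfl⟩ _ ⟨b, hb', rfl⟩
    exact congrArg Subtype.val (hc a ha b hb')
  · rw [← Subgroup.map_inf_eq _ _ _ G.subtype_injective, hdis, Subgroup.map_bot]
  · rw [← Subgroup.map_sup, hsup, ← MonoidHom.range_eq_map, Subgroup.range_subtype]
  · rintro _ ⟨a, ha, rfl⟩
    refine Subgroup.mem_centralizer_iff.2 ?_
    rintro _ ⟨b, hb', rfl⟩
    exact congrArg Subtype.val
      (Subgroup.mem_centralizer_iff.1 ((Agent.Thompson.ea_iff.1 hE).1 ha) b hb')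
  · rintro _ ⟨a, ha, rfl⟩
    rw [← map_pow, (Agent.Thompson.ea_iff.1 hE).2 a ha, map_one]

end Cfsg.Agent.S2766
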