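import Cfsg.Statements.S2769
import Cfsg.Agent.PushRankOne.Main

set_option autoImplicit false
open Cfsg
open scoped commutatorElement

namespace Cfsg.Agent.S2769

/-- Let G be a finite group and p a prime with C_G(O_p(G)) ≤ O_p(G), S a Sylow p-subgroup lying in exactly one maximal subgroup of G, and G/K ≅ PSL₂(p^n) for some normal K and n ≥ 1. Let J(S) be generated by the abelian subgroups of S of largest order. If [Z(J(S)), S] ≠ 1, then either [Z(J(S)), S] ∩ Z(S) is normal in G or C_S(Z(J(S))) is normal in G. -/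
theorem result {G : Type*} [Group G] [Finite G] {p : ℕ} [Fact p.Prime] (S : Sylow p G) (hE₁ : Subgroup.centralizer (Cfsg.pCore p G : Set G) ≤ Cfsg.pCore p G) (hE₂ : ∃! M : Subgroup G, IsCoatom M ∧ (S : Subgroup G) ≤ M) (K : Subgroup G) [K.Normal] (F : Type) [Field F] [Fintype F] (n : ℕ) (hn : 1 ≤ n) (hF : Fintype.card F = p ^ n) (hE₃ : Nonempty (G ⧸ K ≃* Matrix.ProjectiveSpecialLinearGroup (Fin 2) F)) (h : ⁅(Cfsg.centerThompsonAOf (S : Subgroup G)), (S : Subgroup G)⁆ ≠ ⊥) : (⁅(Cfsg.centerThompsonAOf (S : Subgroup G)), (S : Subgroup G)⁆ ⊓ ((S : Subgroup G) ⊓ Subgroup.centralizer ((S : Subgroup G) : Set G))).Normal ∨ (((S : Subgroup G) ⊓ Subgroup.centralizer (Cfsg.centerThompsonAOf (S : Subgroup G) : Set G))).Normal := by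
  obtain ⟨M, h⟩ := PushRankOne.setup_of_iso S hE₁ hE₂ K F n hF hE₃
  have hcn : ∀ T : Subgroup G, T ≤ Subgroup.center G → T.Normal := fun T hT =>
    ⟨fun z hz g => by rw [Subgroup.mem_center_iff.1 (hT hz) g, mul_inv_cancel_right]; exact hz⟩
  by_cases hc : (S : Subgroup G) ⊓ Subgroup.centralizer ((S : Subgroup G) : Set G) ≤ Subgroup.center G
  · exact Or.inl (hcn _ (inf_le_right.trans hc))
  rcases PushRankOne.main h hc with hB | ⟨-, E, hE, hEc, hsplit⟩
  · exact Or.inr hB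
  refine Or.inl (hcn _ fun z hz => ?_)
  have hle : ⁅Cfsg.centerThompsonAOf (S : Subgroup G), (S : Subgroup G)⁆ ≤ E := by
    refine Subgroup.commutator_le.2 fun v hv s hs => ?_
    obtain ⟨w, hw, -, d, hd, rfl⟩ := hsplit v hv
    have e : ⁅w * d, s⁆ = w * (d * (s * d⁻¹ * s⁻¹)) * w⁻¹ := by
      have h1 : s * w⁻¹ * s⁻¹ = w⁻¹ := mul_inv_eq_iff_eq_mul.2
        (Subgroup.mem_centralizer_iff.1 (Subgroup.inv_mem _ hw.2) s hs)
      calc ⁅w * d, s⁆ = w * d * (s * d⁻¹ * s⁻¹) * (s * w⁻¹ * s⁻¹) := by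
            rw [commutatorElement_def]; group
        _ = _ := by rw [h1]; group
    rw [e]
    exact hE.conj_mem _ (mul_mem hd (hE.conj_mem _ (inv_mem hd) s)) w
  exact hEc z (hle hz.1) hz.2.2

end Cfsg.Agent.S2769
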