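import Cfsg.Statements.S2770
import Cfsg.Agent.PushRankOne.Main

set_option autoImplicit false
open Cfsg

namespace Cfsg.Agent.S2770

/-- Let G be a finite group and p a prime with C_G(O_p(G)) ≤ O_p(G), S a Sylow p-subgroup lying in exactly one maximal subgroup of G, and G/K ≅ PSL₂(p^n) for some normal K and n ≥ 1. If Z(S) is not elementary abelian, then either ℧¹(Z(S)) (the subgroup generated by the p-th powers of the elements of Z(S)) is normal in G or C_S(Z(J(S))) is normal in G, J(S) being generated by the abelian subgroups of S of largest order. -/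
theorem result {G : Type*} [Group G] [Finite G] {p : ℕ} [Fact p.Prime] (S : Sylow p G) (hE₁ : Subgroup.centralizer (Cfsg.pCore p G : Set G) ≤ Cfsg.pCore p G) (hE₂ : ∃! M : Subgroup G, IsCoatom M ∧ (S : Subgroup G) ≤ M) (K : Subgroup G) [K.Normal] (F : Type) [Field F] [Fintype F] (n : ℕ) (hn : 1 ≤ n) (hF : Fintype.card F = p ^ n) (hE₃ : Nonempty (G ⧸ K ≃* Matrix.ProjectiveSpecialLinearGroup (Fin 2) F)) (h : ¬ Cfsg.IsElementaryAbelian p ((S : Subgroup G) ⊓ Subgroup.centralizer ((S : Subgroup G) : Set G))) : (Cfsg.powerClosure p 1 ((S : Subgroup G) ⊓ Subgroup.centralizer ((S : Subgroup G) : Set G))).Normal ∨ (((S : Subgroup G) ⊓ Subgroup.centralizer (Cfsg.centerThompsonAOf (S : Subgroup G) : Set G))).Normal := by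
  obtain ⟨M, h⟩ := PushRankOne.setup_of_iso S hE₁ hE₂ K F n hF hE₃
  have hcn : ∀ T : Subgroup G, T ≤ Subgroup.center G → T.Normal := fun T hT =>
    ⟨fun z hz g => by rw [Subgroup.mem_center_iff.1 (hT hz) g, mul_inv_cancel_right]; exact hz⟩
  by_cases hc : (S : Subgroup G) ⊓ Subgroup.centralizer ((S : Subgroup G) : Set G) ≤ Subgroup.center G
  · refine Or.inl (hcn _ ((Subgroup.closure_le _).2 ?_))
    rintro _ ⟨y, hy, rfl⟩
    exact pow_mem (hc hy) _
  rcases PushRankOne.main h hc with hB | ⟨-, E, hE, hEc, hsplit⟩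
  · exact Or.inr hB
  refine Or.inl (hcn _ ((Subgroup.closure_le _).2 ?_))
  rintro _ ⟨y, hy, rfl⟩
  obtain ⟨w, hw, hwp, d, hd, rfl⟩ := hsplit y (PushRankOne.center_sylow_le_zj S hy)
  rw [pow_one]
  have hdC : d ∈ Subgroup.centralizer ((S : Subgroup G) : Set G) := by
    simpa using Subgroup.mul_mem _ (Subgroup.inv_mem _ hw.2) hy.2
  have hcomm : Commute w d := Subgroup.mem_centralizer_iff.1 hdC w hw.1
  rw [hcomm.mul_pow, hwp, one_mul]
  exact hEc _ (pow_mem hd _) (Subgroup.pow_mem _ hdC _)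

end Cfsg.Agent.S2770
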