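import Cfsg.Statements.S2772
import Cfsg.Agent.S2858

set_option autoImplicit false
open Cfsg

set_option linter.all false

namespace Cfsg.Agent.S2772

open Subgroup
open S4Amal (base cadj)
open SfFree (cj)

/-- The obvious map from the dihedral group of order six to `S₃`. -/
def d3Fun : DihedralGroup 3 → Equiv.Perm (Fin 3)
  | .r i => (finRotate 3) ^ i.val
  | .sr i => Equiv.swap 0 1 * (finRotate 3) ^ i.val

theorem d3_equiv : Nonempty (DihedralGroup 3 ≃* Equiv.Perm (Fin 3)) := by
  have hmul : ∀ a b : DihedralGroup 3, d3Fun (a * b) = d3Fun a * d3Fun b := by decide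
  have hinj : Function.Injective d3Fun := by unfold Function.Injective; decide
  refine ⟨MulEquiv.ofBijective (MonoidHom.mk' d3Fun hmul) ?_⟩
  exact (Nat.bijective_iff_injective_and_card d3Fun).2
    ⟨hinj, by rw [DihedralGroup.nat_card, Nat.card_perm, Nat.card_fin]; rfl⟩

theorem cj_core {H : Type*} [Group H] (x : H) (P : Subgroup H) :
    Cfsg.pCoreOf 2 (cj x P) = cj x (Cfsg.pCoreOf 2 P) :=
  (ZNComp.pCoreOf_map (MulAut.conj x).injective P).symm

theorem cj_quot {H : Type*} [Group H] (x : H) (P : Subgroup H) :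
    Nonempty ((↥(cj x P) ⧸ Cfsg.pCore 2 ↥(cj x P)) ≃* (↥P ⧸ Cfsg.pCore 2 ↥P)) :=
  ⟨(QuotientGroup.congr (Cfsg.pCore 2 ↥P) (Cfsg.pCore 2 ↥(cj x P))
    (P.equivMapOfInjective (MulAut.conj x).toMonoidHom (MulAut.conj x).injective)
    (Core.map_pCore _)).symm⟩

/-- Sims' Theorem in local form: let H be a finite non-abelian simple group and G a maximal subgroup of H with C_G(O₂(G)) ≤ O₂(G), such that N_H(S) is not contained in G for a Sylow 2-subgroup S of G and G/O₂(G) is dihedral of order 2q for a prime q. Then G is isomorphic to the symmetric group of degree 4 or to its direct product with a group of order 2. -/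
theorem result {H : Type*} [Group H] [Finite H] [IsSimpleGroup H] (hna : ¬ IsMulCommutative H) (G : Subgroup H) (hG : IsCoatom G) (hchar : Subgroup.centralizer (Cfsg.pCore 2 ↥G : Set ↥G) ≤ Cfsg.pCore 2 ↥G) (S : Sylow 2 ↥G) (hN : ¬ Subgroup.normalizer (((S : Subgroup ↥G).map G.subtype : Subgroup H) : Set H) ≤ G) (q : ℕ) (hq : q.Prime) (hD : Nonempty (↥G ⧸ Cfsg.pCore 2 ↥G ≃* DihedralGroup q)) : Nonempty (↥G ≃* Equiv.Perm (Fin 4)) ∨ Nonempty (↥G ≃* Equiv.Perm (Fin 4) × Multiplicative (ZMod 2)) := by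
  have h2f : Fact (Nat.Prime 2) := ⟨Nat.prime_two⟩
  obtain ⟨eD⟩ := hD
  have hcard : (Cfsg.pCore 2 ↥G).index = 2 * q := by
    rw [Subgroup.index_eq_card, Nat.card_congr eD.toEquiv, DihedralGroup.nat_card]
  have hnot2 : ¬ IsPGroup 2 ↥G := fun h => by
    rw [Core.pCore_eq_top h, index_top] at hcard
    have := hq.two_le
    omega
  have hle : Cfsg.pCore 2 ↥G ≤ (S : Subgroup ↥G) := Core.pCore_le_sylow S
  have hSne : (S : Subgroup ↥G).index ≠ 1 := fun e1 => hnot2 (by
    have := S.isPGroup'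
    rw [index_eq_one.1 e1] at this
    exact this.of_equiv topEquiv)
  have hSidx : (S : Subgroup ↥G).index = q ∧ q ≠ 2 := by
    have hd := index_dvd_of_le hle
    rw [hcard] at hd
    have hodd := S.not_dvd_index
    have hdq : (S : Subgroup ↥G).index ∣ q :=
      ((Nat.prime_two.coprime_iff_not_dvd.2 hodd).symm).dvd_of_dvd_mul_left hd
    rcases (Nat.dvd_prime hq).1 hdq with e | e
    · exact absurd e hSne
    · exact ⟨e, fun e2 => hodd (by rw [e, e2])⟩
  obtain ⟨hSq, hq2⟩ := hSidx
  set T : Subgroup H := (S : Subgroup ↥G).map G.subtype with hTdef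
  have hTG : T ≤ G := map_subtype_le _
  have hTp : IsPGroup 2 ↥T := S.isPGroup'.map _
  have hTS : T.subgroupOf G = (S : Subgroup ↥G) :=
    comap_map_eq_self_of_injective (subtype_injective _) _
  have hT3 : T.relIndex G = q := by rw [relIndex, hTS, hSq]
  obtain ⟨x, hx, hxG⟩ := SetLike.not_le_iff_exists.1 hN
  have hxT : cj x T = T := SfFree.cj_of_mem_normalizer hx
  have hsimple : ∀ N : Subgroup H, N.Normal → N ≤ G → N = ⊥ := fun N hN hNG =>
    (Normal.eq_bot_or_eq_top hN).resolve_right fun e => hG.1 (top_le_iff.1 (e ▸ hNG))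
  have hGne : G ≠ ⊥ := fun e => hnot2 (by
    subst e; exact IsPGroup.of_bot)
  have hne : cj x G ≠ G := fun e => by
    have hxN : x ∈ normalizer (G : Set H) := by
      rw [mem_normalizer_iff_map_conj_eq]; exact e
    rcases hG.le_iff.1 (le_normalizer : G ≤ normalizer (G : Set H)) with h0 | h0
    · exact hGne (hsimple G (normalizer_eq_top_iff.1 h0) le_rfl)
    · rw [h0] at hxN; exact hxG hxN
  have hTc : T ≤ cj x G := by
    rw [← hxT]; exact SfFree.cj_mono hTG
  have hnle : ¬ G ≤ cj x G := fun hle' => by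
    rcases hG.le_iff.1 hle' with h0 | h0
    · have h9 : G = ⊤ := by
        have h10 : G.map (MulAut.conj x).toMonoidHom = (⊤ : Subgroup H).map (MulAut.conj x).toMonoidHom := by
          rw [map_top_of_surjective _ (MulAut.conj x).surjective]; exact h0
        exact map_injective (MulAut.conj x).injective h10
      exact hG.1 h9
    · exact hne h0
  have hinf : G ⊓ cj x G = T := by
    have hTle : T ≤ G ⊓ cj x G := le_inf hTG hTc
    have h1 := relIndex_mul_relIndex _ _ _ hTle (inf_le_left : G ⊓ cj x G ≤ G)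
    rw [hT3] at h1
    rcases (Nat.dvd_prime hq).1 (Dvd.intro _ h1) with e | e
    · exact le_antisymm (relIndex_eq_one.1 e) hTle
    · rw [e] at h1
      exact absurd ((relIndex_eq_one.1 (Nat.eq_of_mul_eq_mul_left hq.pos
        (h1.trans (mul_one _).symm))).trans inf_le_right) hnle
  have hgen : G ⊔ cj x G = ⊤ := (hG.le_iff.1 le_sup_left).resolve_right fun e => by
    have h8 : cj x G ≤ G := (le_sup_right : cj x G ≤ G ⊔ cj x G).trans e.le
    have h9 : cj x G = G := eq_of_le_of_card_ge h8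
      (card_map_of_injective (MulAut.conj x).injective).symm.le
    exact hne h9
  set Z : Subgroup H := Cfsg.omegaCenterOf T with hZ
  have hxZ : cj x Z = Z := by
    rw [hZ]
    show Subgroup.map _ _ = _
    rw [ZNComp.omegaCenterOf_map (MulAut.conj x).injective]
    exact congrArg Cfsg.omegaCenterOf hxT
  have hQT : Cfsg.pCoreOf 2 G ≤ T := map_mono hle
  have htwo : (Cfsg.pCoreOf 2 G).relIndex T = 2 := by
    have h := relIndex_mul_relIndex _ _ _ hQT hTG
    rw [hT3, show (Cfsg.pCoreOf 2 G).relIndex G = 2 * q by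
      rw [relIndex, subgroupOf, Cfsg.pCoreOf, comap_map_eq_self_of_injective (subtype_injective _),
        hcard]] at h
    exact Nat.eq_of_mul_eq_mul_right hq.pos h
  have hTne : T ≠ ⊥ := fun e => by
    rw [e, relIndex_bot_right] at htwo; norm_num at htwo
  have hZle : Z ≤ T := (Thompson.omegaOne_le 2 _).trans inf_le_left
  have hZne : Z ≠ ⊥ := by
    obtain ⟨z, hz, hz1⟩ := (bot_or_exists_ne_one _).resolve_left
      (ZNComp.exists_fixed (A := T) (R := T) hTp hTp hTne le_normalizer)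
    intro e
    obtain ⟨n, hn⟩ := hTp ⟨z, hz.1⟩
    have hn' : z ^ 2 ^ n = 1 := congrArg Subtype.val hn
    have ho : orderOf z ∣ 2 ^ n := orderOf_dvd_of_pow_eq_one hn'
    obtain ⟨j, -, hj⟩ := (Nat.dvd_prime_pow Nat.prime_two).1 ho
    have hj0 : j ≠ 0 := fun e0 => hz1 (orderOf_eq_one_iff.1 (by rw [hj, e0, pow_zero]))
    have hy : z ^ 2 ^ (j - 1) ∈ Z := Thompson.mem_omegaOne
      (Subgroup.pow_mem _ hz _) (by
        rw [← pow_mul, ← pow_succ, Nat.sub_add_cancel (Nat.pos_of_ne_zero hj0), ← hj]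
        exact pow_orderOf_eq_one z)
    rw [e, Subgroup.mem_bot] at hy
    have h9 := orderOf_dvd_of_pow_eq_one hy
    rw [hj, Nat.pow_dvd_pow_iff_le_right (by norm_num)] at h9
    omega
  have hnc : ¬ G ≤ centralizer (Z : Set H) := fun hc => by
    have hGN : G ≤ normalizer (Z : Set H) := hc.trans (centralizer_le_normalizer _)
    rcases hG.le_iff.1 hGN with h0 | h0
    · exact hZne (hsimple Z (normalizer_eq_top_iff.1 h0) (hZle.trans hTG))
    · refine hxG (h0.le ?_)
      rw [mem_normalizer_iff_map_conj_eq]; exact hxZ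
  have hcharG : G ⊓ centralizer (Cfsg.pCoreOf 2 G : Set H) ≤ Cfsg.pCoreOf 2 G := by
    rintro y ⟨hy1, hy2⟩
    refine ⟨⟨y, hy1⟩, hchar (mem_centralizer_iff.2 fun z hz => Subtype.ext ?_), rfl⟩
    exact mem_centralizer_iff.1 hy2 _ ⟨z, hz, rfl⟩
  have hcharC : cj x G ⊓ centralizer (Cfsg.pCoreOf 2 (cj x G) : Set H) ≤
      Cfsg.pCoreOf 2 (cj x G) := by
    rw [cj_core]
    rintro y ⟨⟨y, hy, rfl⟩, hy2⟩
    refine ⟨y, hcharG ⟨hy, mem_centralizer_iff.2 fun z hz => ?_⟩, rfl⟩
    exact (MulAut.conj x).injective (by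
      rw [map_mul, map_mul]; exact mem_centralizer_iff.1 hy2 _ ⟨z, hz, rfl⟩)
  have hidx' : T.relIndex (cj x G) = q := by
    rw [← hxT]
    show (T.map _).relIndex (G.map _) = q
    rw [relIndex_map_map_of_injective _ _ (MulAut.conj x).injective, hT3]
  have hnc' : ¬ cj x G ≤ centralizer (Z : Set H) := fun hc => hnc fun g hg =>
    mem_centralizer_iff.2 fun z hz => (MulAut.conj x).injective (by
      rw [map_mul, map_mul]
      exact mem_centralizer_iff.1 (hc ⟨g, hg, rfl⟩) _ (hxZ.le ⟨z, hz, rfl⟩))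
  have htwo' : (Cfsg.pCoreOf 2 (cj x G)).relIndex T = 2 := by
    rw [cj_core, ← hxT]
    show ((Cfsg.pCoreOf 2 G).map _).relIndex (T.map _) = 2
    rw [relIndex_map_map_of_injective _ _ (MulAut.conj x).injective, htwo]
  let P : Bool → Subgroup H := fun i => cond i G (cj x G)
  have hPT : ∀ i, P i ⊓ P (!i) = T := fun i => by
    cases i
    · exact (inf_comm _ _).trans hinf
    · exact hinf
  have hPq : ∀ i, T.relIndex (P i) = q := fun i => by cases i <;> assumption
  have A0 := S4Amal.amal P hgen (fun i => by cases i <;> assumption)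
    (fun i => by rw [hPT i, hPq i]; exact ⟨hTp, hq, hq2⟩)
    (fun N hN hNT => hsimple N hN (hNT.trans inf_le_left))
    (fun i => by rw [hPT i]; cases i <;> assumption)
    (fun i => by rw [hPT i]; cases i <;> assumption)
  obtain ⟨u, w, huw, h3⟩ := A0.exists_three (base P true)
  obtain ⟨i, hi⟩ := S4Amal.relIndex_coset huw
  rw [hi, hPT, hPq] at h3
  subst h3
  obtain ⟨e3⟩ := d3_equiv
  obtain ⟨ec⟩ := cj_quot x G
  have key := S2858.result G (cj x G) hgen T hinf.symm
    (by rintro Q (rfl | rfl) <;> assumption)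
    (by
      rintro Q (rfl | rfl)
      · exact ⟨S, hTS.symm⟩
      · have hidx2 : ¬ 2 ∣ (T.subgroupOf (cj x G)).index := by
          show ¬ 2 ∣ T.relIndex (cj x G)
          rw [hidx']; norm_num
        exact ⟨(hTp.comap_subtype).toSylow hidx2, rfl⟩)
    (fun N hN hNT => hsimple N hN (hNT.trans hTG))
    (by
      rintro Q (rfl | rfl)
      · exact ⟨eD.trans e3⟩
      · exact ⟨ec.trans (eD.trans e3)⟩)
    (by rintro Q (rfl | rfl) <;> assumption)
  rcases key with ⟨k1, -⟩ | ⟨⟨k1⟩, -⟩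
  · exact Or.inl k1
  · exact Or.inr ⟨k1.trans MulEquiv.prodComm⟩

end Cfsg.Agent.S2772
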