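import Cfsg.Statements.S2774
import Cfsg.Agent.PushRed.Good
import Cfsg.Agent.Control.TransferStep

set_option autoImplicit false
open Cfsg

namespace Cfsg.Agent.S2774

open Subgroup

universe u

/-- A characteristic subgroup of a `p`-group extends to a functor. -/
theorem exists_functor {p : ℕ} [Fact p.Prime] {T : Type u} [Group T] (K : Subgroup T) (hK : K ≠ ⊥)
    (hKc : K.Characteristic) : ∃ W : ∀ (Q : Type u) [Group Q], Subgroup Q,
      Cfsg.IsCharPFunctor.{u} p W ∧ W T = K := by
  classical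
  let W : ∀ (Q : Type u) [Group Q], Subgroup Q := fun Q _ =>
    if h : Nonempty (T ≃* Q) then K.map h.some.toMonoidHom else center Q
  have hW : ∀ (Q : Type u) [Group Q] (e : T ≃* Q), W Q = K.map e.toMonoidHom := by
    intro Q _ e
    have h : Nonempty (T ≃* Q) := ⟨e⟩
    simp only [W, dif_pos h]
    have h1 := characteristic_iff_map_eq.1 hKc (h.some.trans e.symm)
    conv_rhs => rw [← h1]
    rw [Subgroup.map_map]
    congr 1
    ext x
    simp
  refine ⟨W, ⟨fun Q _ _ hQ hnt => ?_, fun Q R _ _ _ _ φ => ?_⟩, ?_⟩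
  · by_cases h : Nonempty (T ≃* Q)
    · obtain ⟨e⟩ := h
      rw [hW Q e, Ne, map_eq_bot_iff_of_injective _ e.injective]
      exact hK
    · simp only [W, dif_neg h]
      exact (nontrivial_iff_ne_bot _).1 hQ.center_nontrivial
  · by_cases h : Nonempty (T ≃* Q)
    · obtain ⟨e⟩ := h
      rw [hW Q e, hW R (e.trans φ), Subgroup.map_map]
      rfl
    · have h' : ¬ Nonempty (T ≃* R) := fun ⟨e⟩ => h ⟨e.trans φ.symm⟩
      simp only [W, dif_neg h, dif_neg h']
      ext x
      constructor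
      · rintro ⟨y, hy, rfl⟩
        exact mem_center_iff.2 fun z => φ.symm.injective (by simpa using mem_center_iff.1 hy (φ.symm z))
      · intro hx
        exact ⟨φ.symm x, mem_center_iff.2 fun z => φ.injective (by simpa using mem_center_iff.1 hx (φ z)),
          φ.apply_symm_apply x⟩
  · rw [hW T (MulEquiv.refl T)]
    exact K.map_id

theorem gTr_odd {p : ℕ} [Fact p.Prime] (hp : p ≠ 2) {G : Type u} [Group G] [Finite G] :
    Control.GTr {W | Cfsg.IsCharPFunctor.{u} p W} p G := by
  set F : Set (∀ (Q : Type u) [Group Q], Subgroup Q) := {W | Cfsg.IsCharPFunctor.{u} p W}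
  have hF : ∀ W ∈ F, Cfsg.IsCharPFunctor.{u} p W := fun W hW => hW
  refine Control.gTr_of_quotients hF (fun K' R' _ hc IH => ?_) Control.IsSec.refl
  obtain ⟨T⟩ := (inferInstance : Nonempty (Sylow p (↥K' ⧸ R'.subgroupOf K')))
  refine Control.famTr_iff.mpr ⟨_, Control.sylIn_top T, ?_⟩
  by_cases hn : ∃ K : Subgroup ↥(T : Subgroup (↥K' ⧸ R'.subgroupOf K')), K ≠ ⊥ ∧ K.Characteristic ∧
      (K.map (T : Subgroup (↥K' ⧸ R'.subgroupOf K')).subtype).Normal
  · obtain ⟨K, hK, hKc, hKn⟩ := hn
    obtain ⟨W, hW, hWT⟩ := exists_functor (p := p) K hK hKc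
    refine Control.trCtrl_of_normal hF (show W ∈ F from hW) T ?_
    show ((W _).map _).Normal
    rwa [hWT]
  push Not at hn
  by_cases hTb : (T : Subgroup (↥K' ⧸ R'.subgroupOf K')) = ⊥
  · intro x hx
    rw [mem_bot.1 (hTb.le hx.1)]
    exact one_mem _
  set Q := Cfsg.pCore p (↥K' ⧸ R'.subgroupOf K')
  haveI : Nontrivial ↥(T : Subgroup (↥K' ⧸ R'.subgroupOf K')) := (nontrivial_iff_ne_bot _).2 hTb
  have hcent := hn (center _) ((nontrivial_iff_ne_bot _).1 T.2.center_nontrivial) inferInstance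
  have hlt : Q < (T : Subgroup (↥K' ⧸ R'.subgroupOf K')) := by
    refine lt_of_le_of_ne (Core.pCore_le_sylow T) fun e => ?_
    have hTn : (T : Subgroup (↥K' ⧸ R'.subgroupOf K')).Normal := e ▸ Core.pCore_normal
    exact hcent inferInstance
  have hQ : Q ≠ ⊥ := fun h0 => hlt.ne (by
    refine le_antisymm hlt.le fun x _ => hc (mem_centralizer_iff.mpr fun y hy => ?_)
    rw [h0] at hy
    rw [mem_bot.mp hy, one_mul, mul_one])
  have hproper : ∃ H : Subgroup (↥K' ⧸ R'.subgroupOf K'), H ≠ ⊤ ∧ (T : Subgroup _) ≤ H := by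
    refine ⟨_, fun e => hlt.not_ge ?_, le_rfl⟩
    haveI : (T : Subgroup (↥K' ⧸ R'.subgroupOf K')).Normal := e.symm ▸ inferInstance
    exact Core.le_pCore T.2
  have hsub := fun (H : Subgroup (↥K' ⧸ R'.subgroupOf K')) (hH : H ≠ ⊤) hTH =>
    Control.trCtrl_subgroup hF T hTH (IH H (Control.isSec_subgroup H) (Core.card_lt_of_ne_top hH))
  refine Control.trCtrl_of_inf_commutator hF hlt hsub
    (IH _ (Control.isSec_of_surjective (QuotientGroup.mk'_surjective _)) (Core.card_quotient_lt hQ)) ?_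
  by_cases hR : normalizer ((Q ⊓ Control.tGen (Control.normSet (Control.iF F _) ⊤
      (T : Subgroup (↥K' ⧸ R'.subgroupOf K'))) (T : Subgroup _) : Subgroup _) : Set (↥K' ⧸ R'.subgroupOf K')) = ⊤
  · exact Control.inf_commutator_le_of_normal hlt hsub hproper hR
  have hM := Control.uniqueMaxOver_normalizer hsub hproper hR
  have hcfg : PushRed.Cfg p T _ :=
    { hp2 := hp, hC := hc, hlt := hlt
      hM := ⟨fun e => hM.ne_top e, fun L hL => by_contra fun hne =>
        hL.not_ge (hM.max L (hM.le.trans hL.le) hne)⟩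
      hSM := hM.le
      uniq := fun H hTH hH => hM.max H hTH hH
      hchar := hn }
  obtain ⟨b⟩ := PushRed.exists_bData hcfg
  obtain ⟨D⟩ := PushRed.exists_datum hcfg b
  obtain ⟨g, hg, hgQ⟩ := SetLike.not_le_iff_exists.1 b.BnQ
  exact Control.inf_commutator_le_of_good hlt hsub hproper hg.1 hgQ
    (PushRed.good_baumann hcfg b D hg)

end Cfsg.Agent.S2774

namespace Cfsg.Agent.S2774

/-- Let p be an odd prime and S a nontrivial Sylow p-subgroup of a finite group G. Then S ∩ G' is generated by the subgroups S ∩ (N_G(K))' as K ranges over the nontrivial characteristic subgroups of S (derived subgroups of the normalizers). -/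
theorem result {G : Type*} [Group G] [Finite G] {p : ℕ} [Fact p.Prime] (hp : p ≠ 2) (S : Sylow p G) (hS : (S : Subgroup G) ≠ ⊥) : (S : Subgroup G) ⊓ commutator G = ⨆ K : {K : Subgroup ↥(S : Subgroup G) // K ≠ ⊥ ∧ K.Characteristic}, (S : Subgroup G) ⊓ ⁅Subgroup.normalizer ((((K : Subgroup ↥(S : Subgroup G))).map (S : Subgroup G).subtype : Subgroup G) : Set G), Subgroup.normalizer ((((K : Subgroup ↥(S : Subgroup G))).map (S : Subgroup G).subtype : Subgroup G) : Set G)⁆ := by
  refine le_antisymm ?_ (iSup_le fun K => le_inf inf_le_left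
    (inf_le_right.trans ((Subgroup.commutator_mono le_top le_top).trans (_root_.commutator_def G).ge)))
  have hF : ∀ W ∈ {W | Cfsg.IsCharPFunctor p W}, Cfsg.IsCharPFunctor p W := fun W hW => hW
  have h := (Control.famTr_iff_forall (Control.isConjugacyFunctor_iF hF)
    (Control.sylIn_top S)).mp (gTr_odd hp (G := G))
  rw [Control.TrCtrl, ← _root_.commutator_def] at h
  refine h.trans (iSup₂_le ?_)
  rintro _ ⟨_, ⟨W, hW, rfl⟩, rfl⟩
  haveI : Nontrivial ↥(S : Subgroup G) := (Subgroup.nontrivial_iff_ne_bot _).2 hS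
  have hne := hW.1 ↥(S : Subgroup G) S.2 inferInstance
  have hch : (W ↥(S : Subgroup G)).Characteristic :=
    Subgroup.characteristic_iff_map_eq.2 fun φ => hW.2 _ _ S.2 φ
  refine le_iSup_of_le ⟨W ↥(S : Subgroup G), hne, hch⟩ ?_
  exact inf_le_inf_left _ (Subgroup.commutator_mono inf_le_right inf_le_right)

end Cfsg.Agent.S2774
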