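import Cfsg.Statements.S2779
import Cfsg.Agent.NatSL2.Setup

set_option autoImplicit false
open Cfsg

namespace Cfsg.Agent.S2779

/-- Let L act on the elementary abelian p-group V (inside a finite group, by conjugation, faithfully) as SL₂(F) on its natural module, F a field with p^n elements, and let S be a Sylow p-subgroup of L. Then [V, S, S] = 1; |V| = p^(2n) and |C_V(S)| = p^n; and for every nonidentity s ∈ S and every v ∈ V outside C_V(S): C_V(s) = C_V(S) = [V, S] = [V, s] = the subgroup generated by the commutators [v, t], t ∈ S. -/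
theorem result {G : Type*} [Group G] [Finite G] {p : ℕ} [Fact p.Prime] {F : Type*} [Field F] [Fintype F] (n : ℕ) (hF : Fintype.card F = p ^ n) (V L : Subgroup G) (hnat : Cfsg.IsNaturalSL2Module F V L) (hf : L ⊓ Subgroup.centralizer (V : Set G) = ⊥) (S : Sylow p ↥L) (T : Subgroup G) (hT : T = ((S : Subgroup ↥L).map L.subtype)) : ⁅⁅V, T⁆, T⁆ = ⊥ ∧ Nat.card V = p ^ (2 * n) ∧ Nat.card ↥(V ⊓ Subgroup.centralizer ((T : Subgroup G) : Set G)) = p ^ n ∧ ∀ s ∈ T, s ≠ 1 → (V ⊓ Subgroup.centralizer ({s} : Set G)) = (V ⊓ Subgroup.centralizer ((T : Subgroup G) : Set G)) ∧ ⁅V, T⁆ = (V ⊓ Subgroup.centralizer ((T : Subgroup G) : Set G)) ∧ ⁅V, Subgroup.zpowers s⁆ = (V ⊓ Subgroup.centralizer ((T : Subgroup G) : Set G)) ∧ ∀ v ∈ V, v ∉ Subgroup.centralizer (T : Set G) → Subgroup.closure {x : G | ∃ t ∈ T, x = v * t * v⁻¹ * t⁻¹} = (V ⊓ Subgroup.centralizer ((T : Subgroup G) : Set G)) := by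
  obtain ⟨D⟩ := Cfsg.Agent.NatSL2.exists_frame n hF V L hnat hf S T hT
  set W := V ⊓ Subgroup.centralizer ((T : Subgroup G) : Set G) with hW
  have hVT : ⁅V, T⁆ ≤ W := by
    rw [Subgroup.commutator_le]
    intro v hv s hs
    obtain ⟨t, rfl⟩ := D.exists_u hs
    refine D.mem_cent_iff.2 ⟨D.comm_mem (D.u t) ⟨v, hv⟩, ?_⟩
    show D.ψ ⟨_, D.comm_mem (D.u t) ⟨v, hv⟩⟩ 1 = 0
    rw [D.ψ_comm, D.ρ_u, D.act_root]
    simp
  have hcomm : ∀ (v : V) (t : F) (w : V), D.ψ w 1 = 0 → -(t * D.ψ v 1) = D.ψ w 0 →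
      (v : G) * D.u t * (v : G)⁻¹ * (D.u t : G)⁻¹ = w := by
    intro v t w h1 h0
    suffices h : (⟨_, D.comm_mem (D.u t) v⟩ : V) = w from congrArg Subtype.val h
    apply D.ψ.injective
    rw [D.ψ_comm, D.ρ_u, D.act_root]
    funext i
    fin_cases i
    · simp [← h0]
    · simp [h1]
  refine ⟨?_, ?_, ?_, fun s hs hs1 => ?_⟩
  · rw [Subgroup.commutator_eq_bot_iff_le_centralizer]
    exact hVT.trans inf_le_right
  · rw [Nat.card_congr D.ψ, Nat.card_fun, Nat.card_eq_fintype_card (α := F), hF, Nat.card_eq_fintype_card, Fintype.card_fin, ← pow_mul, mul_comm]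
  · let f : F → W := fun x => ⟨(D.ψ.symm ![x, 0] : V), D.mem_cent_iff.2 ⟨(D.ψ.symm ![x, 0]).2, by simp⟩⟩
    rw [← hF, ← Nat.card_eq_fintype_card]
    refine (Nat.card_congr (Equiv.ofBijective f ⟨fun x y h => ?_, fun ⟨w, hw⟩ => ?_⟩)).symm
    · have h' := D.ψ.symm.injective (Subtype.ext (congrArg (fun z : W => (z : G)) h))
      simpa using congrFun h' 0
    · obtain ⟨hv, h1⟩ := D.mem_cent_iff.1 hw
      refine ⟨D.ψ ⟨w, hv⟩ 0, Subtype.ext ?_⟩
      show ((D.ψ.symm ![D.ψ ⟨w, hv⟩ 0, 0] : V) : G) = w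
      rw [show (![D.ψ ⟨w, hv⟩ 0, 0] : Fin 2 → F) = D.ψ ⟨w, hv⟩ from by
        funext i; fin_cases i <;> simp [h1], Equiv.symm_apply_apply]
  obtain ⟨t, rfl⟩ := D.exists_u hs
  have ht : t ≠ 0 := by
    rintro rfl
    apply hs1
    have : D.u (0 : F) = 1 := D.ρ.injective (by rw [D.ρ_u, ofAdd_zero, map_one, map_one])
    rw [this]; rfl
  have hfix : ∀ v : V, (D.u t : G) * v = v * D.u t → D.ψ v 1 = 0 := by
    intro v h
    have h1 := (D.commute_iff (D.u t) v).1 h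
    rw [D.ρ_u, D.act_root] at h1
    simpa [ht] using congrFun h1 0
  have hge : W ≤ ⁅V, Subgroup.zpowers (D.u t : G)⁆ := by
    intro w hw
    obtain ⟨hv, h1⟩ := D.mem_cent_iff.1 hw
    have h := hcomm (D.ψ.symm ![0, -(D.ψ ⟨w, hv⟩ 0 / t)]) t ⟨w, hv⟩ h1 (by simp; field_simp)
    have hm := Subgroup.commutator_mem_commutator (D.ψ.symm ![0, -(D.ψ ⟨w, hv⟩ 0 / t)]).2
      (Subgroup.mem_zpowers (D.u t : G))
    rw [commutatorElement_def, h] at hm
    exact hm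
  have hzT : ⁅V, Subgroup.zpowers (D.u t : G)⁆ ≤ ⁅V, T⁆ :=
    Subgroup.commutator_mono le_rfl (Subgroup.zpowers_le.2 hs)
  refine ⟨le_antisymm ?_ ?_, le_antisymm hVT (hge.trans hzT), le_antisymm (hzT.trans hVT) hge, fun v hv hvc => ?_⟩
  · rintro v ⟨hv, hvc⟩
    exact D.mem_cent_iff.2 ⟨hv, hfix ⟨v, hv⟩ (Subgroup.mem_centralizer_iff.1 hvc _ rfl)⟩
  · exact inf_le_inf_left V (Subgroup.centralizer_le (Set.singleton_subset_iff.2 hs))
  refine le_antisymm ((Subgroup.closure_le _).2 ?_) ?_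
  · rintro x ⟨r, hr, rfl⟩
    exact hVT (Subgroup.commutator_mem_commutator hv hr)
  · intro w hw
    obtain ⟨hwV, h1⟩ := D.mem_cent_iff.1 hw
    have hy : D.ψ ⟨v, hv⟩ 1 ≠ 0 := fun h => hvc (D.mem_cent_iff.2 ⟨hv, h⟩).2
    refine Subgroup.subset_closure ⟨_, D.u_mem (-(D.ψ ⟨w, hwV⟩ 0 / D.ψ ⟨v, hv⟩ 1)), ?_⟩
    exact (hcomm ⟨v, hv⟩ _ ⟨w, hwV⟩ h1 (by field_simp)).symm

end Cfsg.Agent.S2779
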