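import Cfsg.Statements.S2780
import Cfsg.Agent.NatSL2.Setup

set_option autoImplicit false
open Cfsg

namespace Cfsg.Agent.S2780

/-- Let L act on the elementary abelian p-group V (inside a finite group, faithfully) as SL₂(F) on its natural module, F a field with p^n elements, S a Sylow p-subgroup of L. Then: for every g ∈ L not normalizing S, V is the internal direct product of C_V(S) and C_V(gSg⁻¹); every nonidentity element of L of order prime to p acts on V without nonidentity fixed points; and C_V(S) and V/C_V(S) are irreducible for N_L(S): the only N_L(S)-invariant subgroups of C_V(S) are 1 and C_V(S), and the only N_L(S)-invariant subgroups between C_V(S) and V are those two. -/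
theorem result {G : Type*} [Group G] [Finite G] {p : ℕ} [Fact p.Prime] {F : Type*} [Field F] [Fintype F] (n : ℕ) (hF : Fintype.card F = p ^ n) (V L : Subgroup G) (hnat : Cfsg.IsNaturalSL2Module F V L) (hf : L ⊓ Subgroup.centralizer (V : Set G) = ⊥) (S : Sylow p ↥L) (T : Subgroup G) (hT : T = ((S : Subgroup ↥L).map L.subtype)) : (∀ g ∈ L, g ∉ Subgroup.normalizer (T : Set G) → Cfsg.IsInternalDirectProduct (V ⊓ Subgroup.centralizer ((T : Subgroup G) : Set G)) (V ⊓ Subgroup.centralizer ((T.map (MulAut.conj g).toMonoidHom : Subgroup G) : Set G)) V) ∧ (∀ x ∈ L, x ≠ 1 → (orderOf x).Coprime p → (V ⊓ Subgroup.centralizer ({x} : Set G)) = ⊥) ∧ (∀ U : Subgroup G, U ≤ (V ⊓ Subgroup.centralizer ((T : Subgroup G) : Set G)) → L ⊓ Subgroup.normalizer (T : Set G) ≤ Subgroup.normalizer (U : Set G) → U = ⊥ ∨ U = (V ⊓ Subgroup.centralizer ((T : Subgroup G) : Set G))) ∧ (∀ U : Subgroup G, (V ⊓ Subgroup.centralizer ((T : Subgroup G) : Set G)) ≤ U →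 U ≤ V → L ⊓ Subgroup.normalizer (T : Set G) ≤ Subgroup.normalizer (U : Set G) → U = (V ⊓ Subgroup.centralizer ((T : Subgroup G) : Set G)) ∨ U = V) := by
  obtain ⟨D⟩ := Cfsg.Agent.NatSL2.exists_frame n hF V L hnat hf S T hT
  set W := V ⊓ Subgroup.centralizer ((T : Subgroup G) : Set G) with hW
  have hnorm : ∀ l : L, (D.ρ l : Matrix (Fin 2) (Fin 2) F) 1 0 = 0 →
      (l : G) ∈ L ⊓ Subgroup.normalizer (T : Set G) := by
    intro l hl
    refine Subgroup.mem_inf.2 ⟨l.2, Subgroup.mem_normalizer_fintype fun s hs => ?_⟩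
    obtain ⟨t, rfl⟩ := D.exists_u hs
    refine (D.memT (l * D.u t * l⁻¹)).2 ?_
    rw [map_mul, map_mul, map_inv, D.ρ_u, Cfsg.Agent.Classical.conj_rootHomSL_mem_of_upper hl]
    exact ⟨_, rfl⟩
  have htorus : ∀ a : F, a ≠ 0 → ∃ l : L, (l : G) ∈ L ⊓ Subgroup.normalizer (T : Set G) ∧
      (D.ρ l : Matrix (Fin 2) (Fin 2) F) = !![a, 0; 0, a⁻¹] := by
    intro a ha
    let d : Matrix.SpecialLinearGroup (Fin 2) F := ⟨!![a, 0; 0, a⁻¹], by simp [Matrix.det_fin_two, ha]⟩
    have hd : D.ρ (D.ρ.symm d) = d := D.ρ.apply_symm_apply d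
    exact ⟨D.ρ.symm d, hnorm _ (by rw [hd]; rfl), by rw [hd]⟩
  refine ⟨fun g hg hgn => ?_, fun x hx hx1 hco => ?_, fun U hUW hUn => ?_, fun U hWU hUV hUn => ?_⟩
  · let l : L := ⟨g, hg⟩
    set a := (D.ρ l : Matrix (Fin 2) (Fin 2) F) 0 0
    set c := (D.ρ l : Matrix (Fin 2) (Fin 2) F) 1 0 with hcdef
    have hc : c ≠ 0 := fun h => hgn (Subgroup.mem_inf.1 (hnorm l h)).2
    have hinvv : ∀ z : Fin 2 → F, (((D.ρ l)⁻¹ : Matrix.SpecialLinearGroup (Fin 2) F) :
        Matrix (Fin 2) (Fin 2) F).mulVec z 1 = -c * z 0 + a * z 1 := by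
      intro z
      rw [Matrix.SpecialLinearGroup.coe_inv, Matrix.adjugate_fin_two]
      simp [Matrix.mulVec, dotProduct, Fin.sum_univ_two, a, c]
    have hmem' : ∀ v : G, v ∈ V ⊓ Subgroup.centralizer ((T.map (MulAut.conj g).toMonoidHom : Subgroup G) : Set G) ↔
        ∃ hv : v ∈ V, -c * D.ψ ⟨v, hv⟩ 0 + a * D.ψ ⟨v, hv⟩ 1 = 0 := by
      intro v
      have hw : ∀ hv : v ∈ V, g⁻¹ * v * g ∈ V := fun hv => by
        simpa using D.conj_mem l⁻¹ ⟨v, hv⟩
      have key : ∀ hv : v ∈ V, D.ψ ⟨_, hw hv⟩ 1 = -c * D.ψ ⟨v, hv⟩ 0 + a * D.ψ ⟨v, hv⟩ 1 := by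
        intro hv
        rw [show (⟨_, hw hv⟩ : V) = ⟨_, D.conj_mem l⁻¹ ⟨v, hv⟩⟩ from Subtype.ext (by simp [l]), D.equivar,
          map_inv, hinvv]
      have hcent : v ∈ Subgroup.centralizer ((T.map (MulAut.conj g).toMonoidHom : Subgroup G) : Set G) ↔
          g⁻¹ * v * g ∈ Subgroup.centralizer (T : Set G) := by
        simp only [Subgroup.mem_centralizer_iff, Subgroup.coe_map, Set.forall_mem_image, SetLike.mem_coe,
          MulEquiv.coe_toMonoidHom, MulAut.conj_apply]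
        refine forall₂_congr fun s _ => ?_
        constructor <;> intro h
        · calc s * (g⁻¹ * v * g) = g⁻¹ * (g * s * g⁻¹ * v) * g := by group
            _ = g⁻¹ * (v * (g * s * g⁻¹)) * g := by rw [h]
            _ = _ := by group
        · calc g * s * g⁻¹ * v = g * (s * (g⁻¹ * v * g)) * g⁻¹ := by group
            _ = g * (g⁻¹ * v * g * s) * g⁻¹ := by rw [h]
            _ = _ := by group
      rw [Subgroup.mem_inf, hcent]
      constructor
      · rintro ⟨hv, h⟩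
        obtain ⟨_, h1⟩ := D.mem_cent_iff.1 ⟨hw hv, h⟩
        exact ⟨hv, (key hv).symm.trans h1⟩
      · rintro ⟨hv, h⟩
        exact ⟨hv, (D.mem_cent_iff.2 ⟨hw hv, (key hv).trans h⟩).2⟩
    refine ⟨inf_le_left, inf_le_left, fun v hv w hw => ?_, ?_, le_antisymm (sup_le inf_le_left inf_le_left) ?_⟩
    · exact congrArg Subtype.val (D.ψ.injective (a₁ := (⟨v, hv.1⟩ : V) * ⟨w, hw.1⟩) (a₂ := ⟨w, hw.1⟩ * ⟨v, hv.1⟩)
        (by rw [D.ψ_mul, D.ψ_mul, add_comm]))
    · rw [eq_bot_iff]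
      rintro v ⟨hv, hv'⟩
      obtain ⟨hvV, h1⟩ := D.mem_cent_iff.1 hv
      obtain ⟨_, h2⟩ := (hmem' v).1 hv'
      rw [h1, mul_zero, add_zero, mul_eq_zero, neg_eq_zero] at h2
      have h0 := h2.resolve_left hc
      have hz : (⟨v, hvV⟩ : V) = 1 := D.ψ.injective (by
        rw [D.ψ_one]; funext i; fin_cases i <;> simp [h0, h1])
      exact Subgroup.mem_bot.2 (congrArg Subtype.val hz)
    · intro v hv
      set z := D.ψ ⟨v, hv⟩ with hz
      have hsplit : (⟨v, hv⟩ : V) = D.ψ.symm ![z 0 - a * z 1 / c, 0] * D.ψ.symm ![a * z 1 / c, z 1] := by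
        apply D.ψ.injective
        rw [D.ψ_mul, Equiv.apply_symm_apply, Equiv.apply_symm_apply]
        funext i
        fin_cases i <;> simp [← hz]
      have := congrArg Subtype.val hsplit
      rw [show v = ((⟨v, hv⟩ : V) : G) from rfl, this, Subgroup.coe_mul]
      refine Subgroup.mul_mem_sup (D.mem_cent_iff.2 ⟨(D.ψ.symm _).2, by simp⟩) ((hmem' _).2 ⟨(D.ψ.symm _).2, ?_⟩)
      rw [Subtype.coe_eta, Equiv.apply_symm_apply]
      simp only [Matrix.cons_val_zero, Matrix.cons_val_one]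
      field_simp
      ring
  · rw [eq_bot_iff]
    rintro v ⟨hv, hvx⟩
    rw [Subgroup.mem_bot]
    by_contra hv1
    apply hx1
    let l : L := ⟨x, hx⟩
    have h := (D.commute_iff l ⟨v, hv⟩).1 (Subgroup.mem_centralizer_iff.1 hvx x rfl)
    set A := (D.ρ l : Matrix (Fin 2) (Fin 2) F) with hA
    have hne : D.ψ ⟨v, hv⟩ ≠ 0 := fun h0 => hv1 (by
      have := D.ψ.injective (h0.trans D.ψ_one.symm)
      exact congrArg Subtype.val this)
    have hdet : (A - 1).det = 0 :=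
      Matrix.exists_mulVec_eq_zero_iff.1 ⟨_, hne, by rw [Matrix.sub_mulVec, Matrix.one_mulVec, h, sub_self]⟩
    have hA1 : A 0 0 * A 1 1 - A 0 1 * A 1 0 = 1 := by rw [← Matrix.det_fin_two]; exact (D.ρ l).2
    rw [Matrix.det_fin_two] at hdet
    simp at hdet
    have hsq : (A - 1) ^ 2 = 0 := by
      rw [sq]
      ext i j
      fin_cases i <;> fin_cases j <;> simp [Matrix.mul_apply, Fin.sum_univ_two]
      · linear_combination (A 0 0 - 1) * hA1 - A 0 0 * hdet
      · linear_combination (-(A 0 1)) * hdet + A 0 1 * hA1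
      · linear_combination (-(A 1 0)) * hdet + A 1 0 * hA1
      · linear_combination (A 1 1 - 1) * hA1 - A 1 1 * hdet
    have : CharP F p := charP_of_card_eq_prime_pow hF
    have hp2 := (Fact.out : p.Prime).two_le
    have hAp : A ^ p = 1 := by
      have h0 : (A - 1) ^ p = 0 := by
        rw [show p = 2 + (p - 2) by omega, pow_add, hsq, zero_mul]
      rw [sub_pow_char_of_commute p (Commute.one_right A), one_pow, sub_eq_zero] at h0
      exact h0
    have hl : l ^ p = 1 := D.ρ.injective (by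
      rw [map_pow, map_one]
      exact Subtype.ext (by rw [Matrix.SpecialLinearGroup.coe_pow, ← hA, hAp]; rfl))
    have hxp : x ^ p = 1 := congrArg Subtype.val hl
    exact orderOf_eq_one_iff.1 (Nat.eq_one_of_dvd_coprimes hco dvd_rfl (orderOf_dvd_of_pow_eq_one hxp))
  · by_cases hU : U = ⊥
    · exact Or.inl hU
    refine Or.inr (le_antisymm hUW fun w hw => ?_)
    obtain ⟨u, huU, hu1⟩ := (Subgroup.bot_or_exists_ne_one U).resolve_left hU
    obtain ⟨huV, hu⟩ := D.mem_cent_iff.1 (hUW huU)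
    obtain ⟨hwV, hw1⟩ := D.mem_cent_iff.1 hw
    have hx0 : D.ψ ⟨u, huV⟩ 0 ≠ 0 := fun h0 => hu1 (by
      have hz : (⟨u, huV⟩ : V) = 1 := D.ψ.injective (by
        rw [D.ψ_one]; funext i; fin_cases i <;> simp [h0, hu])
      exact congrArg Subtype.val hz)
    by_cases hw0 : D.ψ ⟨w, hwV⟩ 0 = 0
    · have hz : (⟨w, hwV⟩ : V) = 1 := D.ψ.injective (by
        rw [D.ψ_one]; funext i; fin_cases i <;> simp [hw0, hw1])
      rw [show w = 1 from congrArg Subtype.val hz]
      exact U.one_mem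
    obtain ⟨l, hlN, hl⟩ := htorus (D.ψ ⟨w, hwV⟩ 0 / D.ψ ⟨u, huV⟩ 0) (div_ne_zero hw0 hx0)
    have hmem2 : (l : G) * u * (l : G)⁻¹ ∈ U := (Subgroup.mem_normalizer_iff.1 (hUn hlN) u).1 huU
    have he : (⟨_, D.conj_mem l ⟨u, huV⟩⟩ : V) = ⟨w, hwV⟩ := D.ψ.injective (by
      rw [D.equivar, hl]
      funext i
      fin_cases i <;> simp [Matrix.mulVec, dotProduct, Fin.sum_univ_two, hu, hw1, hx0])
    have hh : (l : G) * u * (l : G)⁻¹ = w := congrArg Subtype.val he
    rw [← hh]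
    exact hmem2
  · by_cases hU : U ≤ W
    · exact Or.inl (le_antisymm hU hWU)
    refine Or.inr (le_antisymm hUV fun v hv => ?_)
    obtain ⟨u, huU, huW⟩ := SetLike.not_le_iff_exists.1 hU
    have huV := hUV huU
    have hy : D.ψ ⟨u, huV⟩ 1 ≠ 0 := fun h => huW (D.mem_cent_iff.2 ⟨huV, h⟩)
    have hflat : ∀ w : V, D.ψ w 1 = 0 → (w : G) ∈ U := fun w h => hWU (D.mem_cent_iff.2 ⟨w.2, h⟩)
    set z := D.ψ ⟨v, hv⟩ with hz
    by_cases hy0 : z 1 = 0
    · exact hflat _ hy0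
    obtain ⟨l, hlN, hl⟩ := htorus (D.ψ ⟨u, huV⟩ 1 / z 1) (div_ne_zero hy hy0)
    set u' : V := ⟨_, D.conj_mem l ⟨u, huV⟩⟩ with hu'
    have hu'U : (u' : G) ∈ U := (Subgroup.mem_normalizer_iff.1 (hUn hlN) u).1 huU
    have hd : D.ψ (⟨v, hv⟩ * u'⁻¹) 1 = 0 := by
      rw [D.ψ_mul, D.ψ_inv, hu', D.equivar, hl, ← hz]
      simp [Matrix.mulVec, dotProduct, Fin.sum_univ_two]
      field_simp
      ring
    have := U.mul_mem (hflat _ hd) hu'U
    simpa using this

end Cfsg.Agent.S2780
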