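import Cfsg.Statements.S2781

set_option autoImplicit false
open Cfsg

namespace Cfsg.Agent.S2781

open scoped commutatorElement


/-- Let H act faithfully by conjugation on the elementary abelian p-subgroup V of a finite group, let O^p(H) be the subgroup of H generated by its elements of order prime to p, and T a Sylow p-subgroup of O^p(H). If V is generated by the H-conjugates of C_V(T) (V is the smallest H-invariant subgroup containing C_V(T)), then V = [V, O^p(H)]·C_V(O^p(H)). -/
theorem result {G : Type*} [Group G] [Finite G] {p : ℕ} [Fact p.Prime] (V H : Subgroup G) (hV : Cfsg.IsElementaryAbelian p V) (hHV : H ≤ Subgroup.normalizer (V : Set G)) (hf : H ⊓ Subgroup.centralizer (V : Set G) = ⊥) (R : Subgroup G) (hR : R = (Cfsg.pResidual p ↥H).map H.subtype) (S : Sylow p ↥R) (T : Subgroup G) (hT : T = ((S : Subgroup ↥R).map R.subtype)) (hgen : ∀ W : Subgroup G, H ≤ Subgroup.normalizer (W : Set G) → (V ⊓ Subgroup.centralizer ((T : Subgroup G) : Set G)) ≤ W → V ≤ W) : ⁅V, R⁆ ⊔ (V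 ⊓ Subgroup.centralizer ((R : Subgroup G) : Set G)) = V := by
  classical
  obtain ⟨hVc, hVp⟩ := hV
  have hRH : R ≤ H := by rw [hR]; exact Subgroup.map_subtype_le _
  have hRN : R ≤ Subgroup.normalizer (V : Set G) := hRH.trans hHV
  have hRnorm : H ≤ Subgroup.normalizer (R : Set G) := by
    haveI : (Cfsg.pResidual p ↥H).Normal := by
      refine ⟨fun x hx g => ?_⟩
      induction hx using Subgroup.closure_induction with
      | mem y hy =>
        refine Subgroup.subset_closure ?_
        show Nat.Coprime (orderOf (g * y * g⁻¹)) p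
        rw [show g * y * g⁻¹ = MulAut.conj g y from rfl, MulEquiv.orderOf_eq]
        exact hy
      | one => simp
      | mul a b _ _ ha hb => simpa [mul_assoc] using Subgroup.mul_mem _ ha hb
      | inv a _ ha => simpa [mul_assoc] using Subgroup.inv_mem _ ha
    intro h hh
    rw [Subgroup.mem_normalizer_iff]
    intro x
    rw [hR]
    constructor
    · rintro ⟨y, hy, rfl⟩
      exact ⟨⟨h, hh⟩ * y * ⟨h, hh⟩⁻¹, Subgroup.Normal.conj_mem inferInstance y hy _, rfl⟩
    · rintro ⟨y, hy, he⟩
      refine ⟨⟨h, hh⟩⁻¹ * y * ⟨h, hh⟩,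
        by simpa using Subgroup.Normal.conj_mem inferInstance y hy ⟨h, hh⟩⁻¹, ?_⟩
      show h⁻¹ * (y : G) * h = x
      have : (y : G) = h * x * h⁻¹ := he
      rw [this]; group
  have hcomm_le : ⁅V, R⁆ ≤ V := by
    rw [Subgroup.commutator_comm, Subgroup.commutator_le]
    intro r hr v hv
    exact V.mul_mem ((Subgroup.mem_normalizer_iff.mp (hRN hr) v).mp hv) (V.inv_mem hv)
  refine le_antisymm (sup_le hcomm_le inf_le_left) (hgen _ ?_ ?_)
  · intro h hh
    have hV' := hHV hh
    have hR' := hRnorm hh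
    rw [Subgroup.mem_normalizer_iff_map_conj_eq] at hV' hR'
    rw [Subgroup.mem_normalizer_iff_map_conj_eq, Subgroup.map_sup, Subgroup.map_commutator, hV', hR',
      Subgroup.map_inf _ _ _ (MulEquiv.injective _), hV']
    congr 2
    conv_rhs => rw [← hR']
    ext x
    simp only [Subgroup.mem_map, Subgroup.mem_centralizer_iff]
    constructor
    · rintro ⟨y, hy, rfl⟩ z hz
      obtain ⟨w, hw, rfl⟩ := Subgroup.mem_map.mp hz
      rw [← map_mul, ← map_mul, hy w hw]
    · intro hx
      refine ⟨(MulAut.conj h).symm x, fun w hw => ?_, MulEquiv.apply_symm_apply _ x⟩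
      apply (MulAut.conj h).injective
      rw [map_mul, map_mul, MulEquiv.apply_symm_apply]
      exact hx _ (Subgroup.mem_map.mpr ⟨w, hw, rfl⟩)
  intro v ⟨hv, hvT⟩
  have hvT' : ∀ t : ↥R, t ∈ (S : Subgroup ↥R) → (t : G) * v * (t : G)⁻¹ = v := by
    intro t ht
    have : (t : G) ∈ T := by rw [hT]; exact ⟨t, ht, rfl⟩
    have := Subgroup.mem_centralizer_iff.mp hvT _ this
    rw [this]; group
  letI : CommGroup V := { (inferInstance : Group V) with mul_comm := hVc.is_comm.comm }
  haveI : Fintype (↥R ⧸ (S : Subgroup ↥R)) := Fintype.ofFinite _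
  let cj : ↥R → V → V := fun r a =>
    ⟨(r : G) * a * (r : G)⁻¹, (Subgroup.mem_normalizer_iff.mp (hRN r.2) a).mp a.2⟩
  let f : ↥R ⧸ (S : Subgroup ↥R) → V := fun q => cj q.out ⟨v, hv⟩
  have hf : ∀ r : ↥R, f (r : ↥R ⧸ (S : Subgroup ↥R)) = cj r ⟨v, hv⟩ := by
    intro r
    obtain ⟨t, ht⟩ := QuotientGroup.mk_out_eq_mul (S : Subgroup ↥R) r
    apply Subtype.ext
    show ((QuotientGroup.mk r : ↥R ⧸ (S : Subgroup ↥R)).out : G) * v * _ = (r : G) * v * (r : G)⁻¹
    rw [ht, Subgroup.coe_mul, mul_inv_rev, ← mul_assoc, mul_assoc _ (((t : ↥R)) : G) v, mul_assoc _ ((((t : ↥R)) : G) * v),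
      hvT' t t.2]
  let Z : V := ∏ q, f q
  have hZfix : ∀ r : ↥R, cj r Z = Z := by
    intro r
    have hmul : ∀ a b, cj r (a * b) = cj r a * cj r b := by
      intro a b; apply Subtype.ext; simp [cj]
    let c : V →* V := MonoidHom.mk' (cj r) hmul
    show c (∏ q, f q) = ∏ q, f q
    rw [map_prod]
    have h1 : ∀ q, c (f q) = f (r • q) := by
      intro q
      induction q using QuotientGroup.induction_on with
      | _ s =>
        show cj r (f _) = f (QuotientGroup.mk (r * s))
        rw [hf, hf]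
        apply Subtype.ext
        simp [cj, mul_assoc]
    simp only [h1]
    exact Equiv.prod_comp (MulAction.toPerm r) f
  have hZC : (Z : G) ∈ Subgroup.centralizer (R : Set G) := by
    rw [Subgroup.mem_centralizer_iff]
    intro r hr
    have := congrArg Subtype.val (hZfix ⟨r, hr⟩)
    change r * (Z : G) * r⁻¹ = Z at this
    calc r * (Z : G) = r * Z * r⁻¹ * r := by group
      _ = _ := by rw [this]
  set W : Subgroup G := ⁅V, R⁆ ⊔ (V ⊓ Subgroup.centralizer (R : Set G)) with hW
  let Q : Subgroup V := W.subgroupOf V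
  have hZQ : Z ∈ Q := Subgroup.mem_sup_right ⟨Z.2, hZC⟩
  have hq : ∀ q, f q * (⟨v, hv⟩ : V)⁻¹ ∈ Q := by
    intro q
    refine Subgroup.mem_sup_left ?_
    rw [Subgroup.commutator_comm]
    exact Subgroup.commutator_mem_commutator q.out.2 hv
  have hn : (⟨v, hv⟩ : V) ^ (S : Subgroup ↥R).index ∈ Q := by
    have h1 : ∏ q, f q * (⟨v, hv⟩ : V)⁻¹ ∈ Q := prod_mem fun q _ => hq q
    rw [Finset.prod_mul_distrib, Finset.prod_const, inv_pow, Finset.card_univ,
      ← Nat.card_eq_fintype_card] at h1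
    have h2 := Q.mul_mem (Q.inv_mem h1) hZQ
    simpa [mul_inv_rev, mul_assoc, Subgroup.index, Z] using h2
  have hp : v ^ p = 1 := hVp v hv
  have hcop : Nat.Coprime (S : Subgroup ↥R).index p :=
    ((Nat.Prime.coprime_iff_not_dvd Fact.out).mpr S.not_dvd_index).symm
  have hn' : v ^ (S : Subgroup ↥R).index ∈ W := hn
  have key := Nat.gcd_eq_gcd_ab (S : Subgroup ↥R).index p
  rw [hcop.gcd_eq_one, Nat.cast_one] at key
  rw [← zpow_one v, key, zpow_add, zpow_mul, zpow_mul, zpow_natCast, zpow_natCast, hp, one_zpow,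
    mul_one]
  exact zpow_mem hn' _

end Cfsg.Agent.S2781
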