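import Cfsg.Statements.S2787
import Cfsg.Agent.QuadFree.NotInvolved
import Cfsg.Agent.QdFree.Linear

set_option autoImplicit false
open Cfsg

namespace Cfsg.Agent.S2787

open Subgroup
open scoped IsMulCommutative

/-- A faithful irreducible group of automorphisms of a `p`-group has trivial `p`-core. -/
theorem pCore_eq_bot {W : Type*} [Group W] [Finite W] {p : ℕ} [Fact p.Prime] (hW : IsPGroup p W)
    [Nontrivial W] {H : Type*} [Group H] [Finite H] (φ : H →* MulAut W) (hφ : Function.Injective φ)
    (hirr : ∀ U : Subgroup W, (∀ h, ∀ u ∈ U, φ h u ∈ U) → U = ⊥ ∨ U = ⊤) :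
    Cfsg.pCore p H = ⊥ := by
  set D := Cfsg.pCore p H with hD
  letI : MulAction ↥D W := MulAction.compHom W (φ.comp D.subtype)
  have hD' : IsPGroup p ↥D := Cfsg.Agent.Core.pCore_isPGroup
  let U : Subgroup W :=
    { carrier := {w | ∀ d ∈ D, φ d w = w}
      one_mem' := fun d _ => map_one _
      mul_mem' := fun ha hb d hd => by rw [map_mul, ha d hd, hb d hd]
      inv_mem' := fun ha d hd => by rw [map_inv, ha d hd] }
  rcases hirr U (fun h u hu d hd => by
      have h' := hu (h⁻¹ * d * h) (by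
        simpa using (inferInstance : D.Normal).conj_mem d hd h⁻¹)
      rw [map_mul, map_mul, map_inv, MulAut.mul_apply, MulAut.mul_apply] at h'
      have h'' := congrArg (φ h) h'
      rwa [MulAut.apply_inv_self] at h'') with h | h
  · exfalso
    have hmod := hD'.card_modEq_card_fixedPoints W
    have h1 : Nat.card ↥(MulAction.fixedPoints ↥D W) = 1 := by
      have e : MulAction.fixedPoints ↥D W = (U : Set W) := by
        ext w
        exact ⟨fun hw d hd => hw ⟨d, hd⟩, fun hw d => hw d d.2⟩
      rw [e, h, coe_bot]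
      simp
    obtain ⟨j, hj, hj'⟩ := hW.nontrivial_iff_card.1 ‹_›
    rw [h1, hj', Nat.ModEq, Nat.mod_eq_zero_of_dvd (dvd_pow_self p hj.ne'),
      Nat.one_mod_eq_one.2 (Fact.out : p.Prime).ne_one] at hmod
    exact zero_ne_one hmod
  · rw [eq_bot_iff]
    intro d hd
    refine mem_bot.2 (hφ ?_)
    rw [map_one]
    refine MulEquiv.ext fun w => ?_
    have : w ∈ U := h ▸ mem_top w
    exact this d hd

/-- Let p be a prime and let H act by conjugation on the elementary abelian p-subgroup V of a finite group, irreducibly (no H-invariant subgroups of V other than 1 and V) and nontrivially, and suppose H/C_H(V) is isomorphic to PSL₂(F) for a field F with p^n elements, p^n odd, or p = 3 and H/C_H(V) is isomorphic to a Ree group ²G₂(3^(2m+1)), m ≥ 1. Then no subgroup A of H acting nontrivially on V acts quadratically: [V, A, A] = 1 forces [V, A] = 1. -/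
theorem result {G : Type*} [Group G] [Finite G] {p : ℕ} [Fact p.Prime] (V H : Subgroup G) (hV : Cfsg.IsElementaryAbelian p V) (hHV : H ≤ Subgroup.normalizer (V : Set G)) (hirr : ∀ U : Subgroup G, U ≤ V → H ≤ Subgroup.normalizer (U : Set G) → U = ⊥ ∨ U = V) (hnt : ¬ H ≤ Subgroup.centralizer (V : Set G)) [hn : ((Subgroup.centralizer (V : Set G)).subgroupOf H).Normal] (hq : (∃ (F : Type) (_ : Field F) (_ : Fintype F) (n : ℕ), Fintype.card F = p ^ n ∧ Odd (Fintype.card F) ∧ Nonempty (↥H ⧸ (Subgroup.centralizer (V : Set G)).subgroupOf H ≃* Matrix.ProjectiveSpecialLinearGroup (Fin 2) F)) ∨ (p = 3 ∧ Cfsg.Lie.IsoRee (↥H ⧸ (Subgroup.centralizer (V : Set G)).subgroupOf H))) (A : Subgroup G) (hA : A ≤ H) (hquad : ⁅⁅V, A⁆, A⁆ = ⊥) : ⁅V, A⁆ = ⊥ := by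
  obtain ⟨hp2, hfree⟩ : p ≠ 2 ∧ ¬ Cfsg.Involves (Matrix.SpecialLinearGroup (Fin 2) (ZMod p))
      (↥H ⧸ (centralizer (V : Set G)).subgroupOf H) := by
    rcases hq with ⟨F, _, _, n, hc, hodd, ⟨e⟩⟩ | ⟨rfl, K, _, _, m, hm, hK, ⟨e⟩⟩
    · have hp2 : p ≠ 2 := by
        rintro rfl
        rw [hc] at hodd
        rcases Nat.eq_zero_or_pos n with rfl | hn0
        · exact absurd (Fintype.one_lt_card (α := F)) (by rw [hc, pow_zero]; omega)
        · exact absurd hodd (Nat.not_odd_iff_even.2 ((Nat.even_pow).2 ⟨even_two, hn0.ne'⟩))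
      exact ⟨hp2, fun h => Cfsg.Agent.QuadFree.not_involves_psl2 hp2 hodd
        (Cfsg.Agent.QdFree.involves_of_surjective h (f := e.symm.toMonoidHom) e.symm.surjective)⟩
    · have : CharP K 3 := by
        obtain ⟨j, hr, hj⟩ := FiniteField.card K (ringChar K)
        rw [hK] at hj
        have h1 : 3 ∣ ringChar K ^ (j : ℕ) := hj ▸ dvd_pow_self 3 (by omega)
        have h2 := (Nat.prime_dvd_prime_iff_eq Nat.prime_three hr).1 (Nat.prime_three.dvd_of_dvd_pow h1)
        exact h2 ▸ ringChar.charP K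
      exact ⟨by norm_num, fun h => Cfsg.Agent.QuadFree.not_involves_ree (by norm_num) hK
        (Cfsg.Agent.QdFree.involves_of_surjective h (f := e.symm.toMonoidHom) e.symm.surjective)⟩
  by_contra hne
  obtain ⟨a, haA, hac⟩ : ∃ a ∈ A, a ∉ centralizer (V : Set G) := by
    by_contra hcon
    push Not at hcon
    exact hne (commutator_eq_bot_iff_le_centralizer.2 (le_centralizer_iff.1 hcon))
  haveI : IsMulCommutative ↥V := hV.1
  have hexp := hV.2
  let φ₀ : ↥H →* MulAut ↥V := V.normalizerMonoidHom.comp (inclusion hHV)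
  have hker : φ₀.ker = (centralizer (V : Set G)).subgroupOf H := by
    ext h
    rw [MonoidHom.mem_ker, mem_subgroupOf]
    show inclusion hHV h ∈ V.normalizerMonoidHom.ker ↔ _
    rw [normalizerMonoidHom_ker]
    exact Iff.rfl
  let φ := QuotientGroup.lift ((centralizer (V : Set G)).subgroupOf H) φ₀ hker.ge
  have hφ : Function.Injective φ := by
    rw [← MonoidHom.ker_eq_bot_iff, eq_bot_iff]
    intro x hx
    obtain ⟨h, rfl⟩ := QuotientGroup.mk'_surjective _ x
    refine mem_bot.2 ((QuotientGroup.eq_one_iff _).2 ?_)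
    rw [← hker]
    exact hx
  haveI : Nontrivial ↥V := by
    rw [Subgroup.nontrivial_iff_ne_bot]
    rintro rfl
    exact hnt fun h _ => mem_centralizer_iff.2 fun z hz => by
      rw [show z = 1 from hz, one_mul, mul_one]
  have hW : IsPGroup p ↥V := fun v => ⟨1, by rw [pow_one]; exact Subtype.ext (hexp v v.2)⟩
  have hO := pCore_eq_bot hW φ hφ fun U hU => by
    have h' := hirr (U.map V.subtype) (map_subtype_le U) fun h hh => by
      rw [mem_normalizer_iff_map_conj_eq]
      refine eq_of_le_of_card_ge ?_ (le_of_eq ?_)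
      · rintro _ ⟨_, ⟨u, hu, rfl⟩, rfl⟩
        exact ⟨φ (QuotientGroup.mk ⟨h, hh⟩) u, hU _ u hu, rfl⟩
      · exact (card_map_of_injective (MulAut.conj h).injective).symm
    rcases h' with e | e
    · left; exact (map_eq_bot_iff_of_injective _ V.subtype_injective).1 e
    · right
      refine map_injective V.subtype_injective (e.trans ?_)
      rw [← MonoidHom.range_eq_map, range_subtype]
  refine hfree (Cfsg.Agent.QdFree.involves_sl2_of_action hp2
    (fun v => Subtype.ext (by simpa using hexp v v.2)) φ hφ hO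
    (x := QuotientGroup.mk ⟨a, hA haA⟩)
    (fun h => hac (mem_subgroupOf.1 ((QuotientGroup.eq_one_iff _).1 h))) fun v => Subtype.ext ?_)
  exact Cfsg.Agent.QdFree.conj_commutator_fixed (le_bot_iff.1 (le_trans
    (commutator_mono (commutator_mono le_rfl (zpowers_le.2 haA)) (zpowers_le.2 haA)) hquad.le)) v.2

end Cfsg.Agent.S2787
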