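import Cfsg.Statements.S2788
import Cfsg.Agent.LocalStructure.SL2ModuleBound

set_option autoImplicit false
open Cfsg

set_option linter.all false

namespace Cfsg.Agent.S2788

theorem charP_of_card {F : Type*} [Field F] [Fintype F] {p n : ℕ} [hp : Fact p.Prime]
    (hF : Fintype.card F = p ^ n) : CharP F p := by
  obtain ⟨m, hr, hm⟩ := FiniteField.card F (ringChar F)
  rw [hF] at hm
  have hn : n ≠ 0 := fun e => by
    rw [e, pow_zero] at hF
    exact absurd hF (Fintype.one_lt_card (α := F)).ne'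
  have h1 : p ∣ ringChar F ^ (m : ℕ) := hm ▸ dvd_pow_self p hn
  have h2 := (Nat.prime_dvd_prime_iff_eq hp.out hr).1 (hp.out.dvd_of_dvd_pow h1)
  exact h2 ▸ ringChar.charP F

/-- Let H act faithfully by conjugation on the elementary abelian p-subgroup V of a finite group with H ≅ SL₂(F), F a field with p^n elements, S a Sylow p-subgroup of H, and A ≤ S a subgroup of order at least 3 acting quadratically on V ([V, A, A] = 1). Then |V/C_V(a)| ≥ p^n for every nonidentity a ∈ A. -/
theorem result {G : Type*} [Group G] [Finite G] {p : ℕ} [Fact p.Prime] (V H : Subgroup G) (hV : Cfsg.IsElementaryAbelian p V) (hHV : H ≤ Subgroup.normalizer (V : Set G)) (hf : H ⊓ Subgroup.centralizer (V : Set G) = ⊥) {F : Type*} [Field F] [Fintype F] (n : ℕ) (hF : Fintype.card F = p ^ n) (hiso : Nonempty (↥H ≃* Matrix.SpecialLinearGroup (Fin 2) F)) (S : Sylow p ↥H) (T : Subgroup G) (hT : T = ((S : Subgroup ↥H).map H.subtype)) (A : Subgroup G) (hA : A ≤ T) (hA3 : 3 ≤ Nat.card A)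 (hquad : ⁅⁅V, A⁆, A⁆ = ⊥) : ∀ a ∈ A, a ≠ 1 → p ^ n ≤ ((V ⊓ Subgroup.centralizer ({a} : Set G))).relIndex V := by
  haveI := charP_of_card hF
  obtain ⟨e⟩ := hiso
  intro a ha ha1
  subst hT
  obtain ⟨b, hb, rfl⟩ := hA ha
  obtain ⟨k, hk⟩ := S.2 ⟨b, hb⟩
  have hk' : b ^ p ^ k = 1 := congrArg Subtype.val hk
  refine (Cfsg.Agent.LocalStructure.SL2ModuleBound.bounds hV hHV hf hF
    (Cfsg.Agent.SL2Class.proj.comp e.toMonoidHom)
    (Cfsg.Agent.SL2Class.proj_surjective.comp e.surjective) b k hk' fun h => ?_).2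
  have hek : (e b) ^ p ^ k = 1 := by rw [← map_pow, hk', map_one]
  have heb : e b ≠ 1 := fun h1 => ha1 (by rw [e.map_eq_one_iff.1 h1]; rfl)
  rcases Cfsg.Agent.SL2Class.mem_center_cases.1 (Cfsg.Agent.SL2Class.proj_eq_one.1 h) with h1 | h1
  · exact heb h1
  · by_cases h2 : (2 : F) = 0
    · exact heb (h1.trans (Subgroup.mem_bot.1 (Cfsg.Agent.SL2Class.center_eq_bot h2 ▸
        Cfsg.Agent.SL2Class.neg_one_mem_center)))
    · have hodd : Odd p := (Fact.out : p.Prime).odd_of_ne_two fun e => h2 (by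
        subst e; exact_mod_cast CharP.cast_eq_zero F 2)
      rw [show e b = -1 from h1, (hodd.pow).neg_one_pow] at hek
      exact Cfsg.Agent.SL2Class.neg_one_ne_one h2 hek

end Cfsg.Agent.S2788
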