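import Cfsg.Statements.S2791
import Cfsg.Agent.Fusion.Alperin
import Cfsg.Agent.LocalStructure.QuotientNormalizer
import Cfsg.Agent.LocalStructure.PResidual
import Cfsg.Agent.Coprime.Tools

set_option autoImplicit false
open Cfsg

set_option linter.all false

namespace Cfsg.Agent.S2791

open Subgroup
open scoped commutatorElement

variable {G : Type*} [Group G] [Finite G] {p : ℕ} [Fact p.Prime]

/-- The elements of `N(E)` centralizing `F` and `E / F`. -/
def chainStab (E F : Subgroup G) (hF : F ≤ E) : Subgroup G where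
  carrier := {x | x ∈ normalizer (E : Set G) ∧ (∀ f ∈ F, x * f * x⁻¹ = f) ∧ ∀ e ∈ E, x * e * x⁻¹ * e⁻¹ ∈ F}
  one_mem' := ⟨one_mem _, fun f _ => by simp, fun e _ => by simp⟩
  mul_mem' := by
    rintro a b ⟨ha, ha', ha''⟩ ⟨hb, hb', hb''⟩
    refine ⟨mul_mem ha hb, fun f hf => ?_, fun e he => ?_⟩
    · rw [show a * b * f * (a * b)⁻¹ = a * (b * f * b⁻¹) * a⁻¹ by group, hb' f hf, ha' f hf]
    · have h1 := ha' _ (hb'' e he)
      have h2 := F.mul_mem (hb'' e he) (ha'' e he)
      have e2 : a * b * e * (a * b)⁻¹ * e⁻¹ = a * (b * e * b⁻¹ * e⁻¹) * a⁻¹ * (a * e * a⁻¹ * e⁻¹) := by group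
      rw [e2, h1]
      exact h2
  inv_mem' := by
    rintro a ⟨ha, ha', ha''⟩
    refine ⟨inv_mem ha, fun f hf => ?_, fun e he => ?_⟩
    · conv_lhs => rw [← ha' f hf]
      group
    · have h1 := F.inv_mem (ha'' _ ((mem_normalizer_iff''.mp ha e).mp he))
      have e2 : (a * (a⁻¹ * e * a) * a⁻¹ * (a⁻¹ * e * a)⁻¹)⁻¹ = a⁻¹ * e * (a⁻¹)⁻¹ * e⁻¹ := by group
      rwa [e2] at h1

theorem mem_chainStab {E F : Subgroup G} {hF : F ≤ E} {x : G} :
    x ∈ chainStab E F hF ↔ x ∈ normalizer (E : Set G) ∧ (∀ f ∈ F, x * f * x⁻¹ = f) ∧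
      ∀ e ∈ E, x * e * x⁻¹ * e⁻¹ ∈ F := Iff.rfl

theorem le_normalizer_chainStab {E F : Subgroup G} (hF : F ≤ E)
    (hFn : normalizer (E : Set G) ≤ normalizer (F : Set G)) :
    normalizer (E : Set G) ≤ normalizer ((chainStab E F hF : Subgroup G) : Set G) := by
  have key : ∀ n ∈ normalizer (E : Set G), ∀ x ∈ chainStab E F hF, n * x * n⁻¹ ∈ chainStab E F hF := by
    rintro n hn x ⟨hx, hx', hx''⟩
    refine ⟨mul_mem (mul_mem hn hx) (inv_mem hn), fun f hf => ?_, fun e he => ?_⟩
    · have h1 := hx' _ ((mem_normalizer_iff''.mp (hFn hn) f).mp hf)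
      calc n * x * n⁻¹ * f * (n * x * n⁻¹)⁻¹ = n * (x * (n⁻¹ * f * n) * x⁻¹) * n⁻¹ := by group
        _ = f := by rw [h1]; group
    · have h1 := (mem_normalizer_iff.mp (hFn hn) _).mp (hx'' _ ((mem_normalizer_iff''.mp hn e).mp he))
      have e2 : n * (x * (n⁻¹ * e * n) * x⁻¹ * (n⁻¹ * e * n)⁻¹) * n⁻¹ = n * x * n⁻¹ * e * (n * x * n⁻¹)⁻¹ * e⁻¹ := by group
      rwa [e2] at h1
  intro n hn
  rw [mem_normalizer_iff]
  refine fun x => ⟨key n hn x, fun hx => ?_⟩
  have := key n⁻¹ (inv_mem hn) _ hx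
  simpa [mul_assoc] using this

/-- Let S be a Sylow p-subgroup of the finite group G and A an abelian subgroup of S that is strongly closed in S with respect to G. Then A controls strong fusion in G: for some Sylow p-subgroup T containing A, whenever a subset of T is conjugated into T by an element of G, the same elementwise conjugation is induced by an element of N_G(A). -/
theorem result {G : Type*} [Group G] [Finite G] {p : ℕ} [Fact p.Prime] (S : Sylow p G) (A : Subgroup G) (hA : IsMulCommutative ↥A) (hsc : Cfsg.IsStronglyClosed A (S : Subgroup G)) : Cfsg.ControlsStrongFusion p A := by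
  classical
  obtain ⟨hAP, hsc⟩ := hsc
  have hPA : (S : Subgroup G) ≤ Subgroup.normalizer (A : Set G) := by
    intro s hs
    rw [Subgroup.mem_normalizer_iff]
    intro x
    refine ⟨fun hx => hsc x hx s (mul_mem (mul_mem hs (hAP hx)) (inv_mem hs)), fun hx => ?_⟩
    have hxS : x ∈ (S : Subgroup G) := by
      have := mul_mem (mul_mem (inv_mem hs) (hAP hx)) hs
      simpa [mul_assoc] using this
    have := hsc _ hx s⁻¹ (by simpa [mul_assoc] using hxS)
    simpa [mul_assoc] using this
  -- agreeing elements of `N(A)` on large intersections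
  suffices main : ∀ k, ∀ D : Subgroup G, D ≤ (S : Subgroup G) → Nat.card G - Nat.card D = k → ∀ g : G,
      Fusion.conjSub g D ≤ (S : Subgroup G) →
      ∃ y ∈ Subgroup.normalizer (A : Set G), ∀ d ∈ D, y⁻¹ * d * y = g⁻¹ * d * g by
    refine ⟨S, hAP, fun X hX => ⟨hX, fun g hg => ?_⟩⟩
    have hle : Fusion.conjSub g⁻¹ (Subgroup.closure X) ≤ (S : Subgroup G) := by
      rw [Fusion.conjSub_le_iff, Subgroup.closure_le, inv_inv]
      intro a ha
      rw [SetLike.mem_coe, Fusion.mem_conjSub]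
      exact hg ⟨a, ha, rfl⟩
    obtain ⟨y, hy, he⟩ := main _ (Subgroup.closure X) ((Subgroup.closure_le _).mpr hX) rfl g⁻¹ hle
    refine ⟨y⁻¹, inv_mem hy, fun a ha => ?_⟩
    have := he a (Subgroup.subset_closure ha)
    rw [inv_inv] at this
    rw [inv_inv]
    exact this.symm
  intro k
  induction k using Nat.strong_induction_on with
  | h k IH =>
  intro D hD hk g hg
  have hsub : Fusion.conjSet g (D : Set G) ⊆ ((S : Subgroup G) : Set G) := by
    rw [← Fusion.coe_conjSub]; exact hg
  have hch := Fusion.alperinChain_of_subset S hD hsub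
  suffices gen : ∀ (B : Set G) (g : G), Fusion.AlperinChain S B g → ∀ D' : Subgroup G, (D' : Set G) = B →
      Nat.card D' = Nat.card D → ∃ y ∈ Subgroup.normalizer (A : Set G), ∀ d ∈ D', y⁻¹ * d * y = g⁻¹ * d * g from
    gen _ g hch D rfl rfl
  intro B g hB
  induction hB with
  | nil B => exact fun D' _ _ => ⟨1, one_mem _, fun d _ => rfl⟩
  | @cons B g x Q hBE hx hQ _ ih =>
    intro D' hD' hcard
    set E := (S : Subgroup G) ⊓ (Q : Subgroup G) with hE
    have hD'E : D' ≤ E := fun d hd => hBE (hD' ▸ hd)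
    obtain ⟨y₂, hy₂, he₂⟩ := ih (Fusion.conjSub x D') (by rw [Fusion.coe_conjSub, hD']) (by rw [Fusion.card_conjSub, hcard])
    suffices hone : ∃ y ∈ Subgroup.normalizer (A : Set G), ∀ d ∈ E, y⁻¹ * d * y = x⁻¹ * d * x by
      obtain ⟨y₁, hy₁, he₁⟩ := hone
      refine ⟨y₁ * y₂, mul_mem hy₁ hy₂, fun d hd => ?_⟩
      have h1 := he₁ d (hD'E hd)
      have h2 := he₂ (x⁻¹ * d * x) (Fusion.mem_conjSub.mpr (by simpa [mul_assoc] using hd))
      calc (y₁ * y₂)⁻¹ * d * (y₁ * y₂) = y₂⁻¹ * (y₁⁻¹ * d * y₁) * y₂ := by group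
        _ = g⁻¹ * (x⁻¹ * d * x) * g := by rw [h1, h2]
        _ = (x * g)⁻¹ * d * (x * g) := by group
    by_cases hAE : A ≤ E
    · refine ⟨x, Subgroup.mem_normalizer_iff.mpr fun a => ⟨fun ha => ?_, fun ha => ?_⟩, fun d _ => rfl⟩
      · exact hsc a ha x ((Subgroup.mem_normalizer_iff.mp hx a).mp (hAE ha)).1
      · have h1 : a ∈ E := (Subgroup.mem_normalizer_iff.mp hx a).mpr (hAE ha)
        have := hsc _ ha x⁻¹ (by rw [inv_inv, show x⁻¹ * (x * a * x⁻¹) * x = a by group]; exact h1.1)
        simpa [mul_assoc] using this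
    have hES : E ≤ (S : Subgroup G) := inf_le_left
    set F := A ⊓ E with hFdef
    have hFE : F ≤ E := inf_le_right
    have hNF : Subgroup.normalizer (E : Set G) ≤ Subgroup.normalizer (F : Set G) := by
      intro n hn
      rw [Subgroup.mem_normalizer_iff]
      intro a
      refine ⟨fun ha => ⟨hsc a ha.1 n ((Subgroup.mem_normalizer_iff.mp hn a).mp ha.2).1,
        (Subgroup.mem_normalizer_iff.mp hn a).mp ha.2⟩, fun ha => ?_⟩
      have h1 : a ∈ E := (Subgroup.mem_normalizer_iff.mp hn a).mpr ha.2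
      refine ⟨?_, h1⟩
      have := hsc _ ha.1 n⁻¹ (by rw [inv_inv, show n⁻¹ * (n * a * n⁻¹) * n = a by group]; exact h1.1)
      simpa [mul_assoc] using this
    set N := Subgroup.normalizer (E : Set G) with hN
    set K := chainStab E F hFE with hKdef
    have hKN : K ≤ N := fun k hk => hk.1
    have hNK : N ≤ Subgroup.normalizer (K : Set G) := le_normalizer_chainStab hFE hNF
    -- a Sylow subgroup of `K` containing `N_A(E)`
    set R := (S : Subgroup G) ⊓ K with hR
    have hRp : IsPGroup p R := S.isPGroup'.to_le inf_le_left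
    have hRi : ¬ p ∣ R.relIndex K := by
      have : (K.subgroupOf N).Normal := Subgroup.normal_subgroupOf_of_le_normalizer hNK
      have hi : ¬ p ∣ (((S : Subgroup G) ⊓ N).subgroupOf N).index := hQ.1
      have h1 := LocalStructure.not_dvd_relIndex_normal
        (((S.isPGroup'.to_le inf_le_left).comap_subtype (H := (S : Subgroup G) ⊓ N) (K := N)).toSylow hi) (K.subgroupOf N)
      have h2 : ¬ p ∣ (((S : Subgroup G) ⊓ N).subgroupOf N).relIndex (K.subgroupOf N) := h1
      rw [Subgroup.relIndex_subgroupOf hKN] at h2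
      rwa [← Subgroup.inf_relIndex_right, inf_assoc, inf_eq_right.mpr hKN] at h2
    have hAR : A ⊓ N ≤ R := by
      rintro a ⟨ha, han⟩
      refine ⟨hAP ha, han, fun f hf => ?_, fun e he => ⟨?_, ?_⟩⟩
      · have : a * f = f * a := congrArg Subtype.val (hA.is_comm.comm (⟨a, ha⟩ : A) ⟨f, hf.1⟩)
        rw [this, mul_inv_cancel_right]
      · have h1 : e * a⁻¹ * e⁻¹ ∈ A := (Subgroup.mem_normalizer_iff.mp (hPA (hES he)) _).mp (A.inv_mem ha)
        rw [show a * e * a⁻¹ * e⁻¹ = a * (e * a⁻¹ * e⁻¹) by group]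
        exact A.mul_mem ha h1
      · exact E.mul_mem ((Subgroup.mem_normalizer_iff.mp han e).mp he) (E.inv_mem he)
    -- the elements of `K` of order prime to `p` centralize `E`
    have hKres : LocalStructure.resOf p K ≤ Subgroup.centralizer (E : Set G) := by
      rw [LocalStructure.resOf_le_iff]
      rintro k ⟨hkN, hkF, hkE⟩ hkc
      refine LocalStructure.commute_of_double_commutator (S.isPGroup'.to_le hES) hkN hkc fun v hv => ?_
      have := hkF _ (hkE v hv)
      rw [commutatorElement_def]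
      show k * (k * v * k⁻¹ * v⁻¹) = (k * v * k⁻¹ * v⁻¹) * k
      calc k * (k * v * k⁻¹ * v⁻¹) = k * (k * v * k⁻¹ * v⁻¹) * k⁻¹ * k := by group
        _ = _ := by rw [this]
    obtain ⟨m, hm, hle⟩ := Fusion.exists_conjSub_le_of_not_dvd_relIndex inf_le_right hRp hRi
      (show Fusion.conjSub x R ≤ K by
        intro r hr
        rw [Fusion.mem_conjSub] at hr
        exact (Subgroup.mem_normalizer_iff.mp (hNK hx) r).mpr hr.2) (Fusion.isPGroup_conjSub hRp)
    have hxm : x * m ∈ Subgroup.normalizer (R : Set G) := by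
      refine Fusion.mem_normalizer_of_conjSub_eq ?_
      rw [← Fusion.conjSub_conjSub]
      exact Subgroup.eq_of_le_of_card_ge hle (by rw [Fusion.card_conjSub, Fusion.card_conjSub])
    obtain ⟨r, hr, c, hc, hrc⟩ : ∃ r ∈ R, ∃ c ∈ Subgroup.centralizer (E : Set G), r * c = m⁻¹ := by
      have h1 : K ≤ R ⊔ Subgroup.centralizer (E : Set G) := by
        intro k hk
        let P₀ : Sylow p K := (hRp.comap_subtype).toSylow hRi
        have h2 : (⟨k, hk⟩ : K) ∈ (P₀ : Subgroup K) ⊔ Cfsg.pResidual p K := by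
          rw [Fusion.sylow_sup_pResidual P₀]; trivial
        have h3 := Subgroup.mem_map_of_mem K.subtype h2
        rw [Subgroup.map_sup] at h3
        refine SetLike.le_def.mp (sup_le_sup ?_ hKres) h3
        show (R.subgroupOf K).map K.subtype ≤ R
        rw [Subgroup.subgroupOf_map_subtype]
        exact inf_le_left
      have hRn : R ≤ Subgroup.normalizer ((Subgroup.centralizer (E : Set G) : Subgroup G) : Set G) :=
        (inf_le_right.trans hKN).trans (Coprime.le_normalizer_centralizer le_rfl)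
      have h4 := h1 (K.inv_mem hm)
      rw [sup_comm] at h4
      obtain ⟨c, hc, r, hr, hcr⟩ := (Coprime.mem_sup_of_le_normalizer hRn).mp h4
      refine ⟨r, hr, r⁻¹ * c * r, ?_, by rw [← hcr]; group⟩
      exact (Subgroup.mem_normalizer_iff''.mp (hRn hr) c).mp hc
    set n := x * m * r with hn
    have hnR : n ∈ Subgroup.normalizer (R : Set G) := mul_mem hxm (Subgroup.le_normalizer hr)
    have hnN : n ∈ N := mul_mem (mul_mem hx (hKN hm)) (hKN hr.2)
    set R' := E ⊔ R with hR'
    have hR'S : R' ≤ (S : Subgroup G) := sup_le hES inf_le_left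
    have hlt : Nat.card E < Nat.card R' := by
      by_contra hge
      have heq : E = R' := Subgroup.eq_of_le_of_card_ge le_sup_left (not_lt.mp hge)
      have hlt0 : E < E ⊔ A := lt_of_le_of_ne le_sup_left fun e => hAE (e ▸ le_sup_right)
      have hgrow := Fusion.lt_inf_normalizer_of_isPGroup (S.isPGroup'.to_le (sup_le hES hAP)) hlt0
      obtain ⟨w, ⟨hw, hwN⟩, hwE⟩ := SetLike.exists_of_lt hgrow
      rw [sup_comm] at hw
      obtain ⟨a, ha, e, he, rfl⟩ := (Coprime.mem_sup_of_le_normalizer (hES.trans hPA)).mp hw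
      have haN : a ∈ N := by
        have := N.mul_mem hwN (N.inv_mem (Subgroup.le_normalizer he))
        rwa [mul_inv_cancel_right] at this
      refine hwE (E.mul_mem ?_ he)
      rw [heq]
      exact le_sup_right (a := E) (hAR ⟨ha, haN⟩)
    have hnR' : Fusion.conjSub n R' ≤ (S : Subgroup G) := by
      rw [Fusion.conjSub, hR', Subgroup.map_sup]
      show Fusion.conjSub n E ⊔ Fusion.conjSub n R ≤ _
      rw [Fusion.conjSub_eq_of_mem_normalizer hnN, Fusion.conjSub_eq_of_mem_normalizer hnR]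
      exact hR'S
    have hR'G : Nat.card R' ≤ Nat.card G := Subgroup.card_le_card_group R'
    have hDE : Nat.card D ≤ Nat.card E := hcard ▸ Subgroup.card_le_of_le hD'E
    obtain ⟨y, hy, he⟩ := IH (Nat.card G - Nat.card R') (by omega) R' hR'S rfl n hnR'
    refine ⟨y, hy, fun d hd => ?_⟩
    rw [he d (le_sup_left (b := R) hd)]
    have hxe : x = n * c := by rw [hn, mul_assoc (x * m), hrc, mul_inv_cancel_right]
    have hd' : n⁻¹ * d * n ∈ E := (Subgroup.mem_normalizer_iff''.mp hnN d).mp hd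
    rw [hxe, show (n * c)⁻¹ * d * (n * c) = c⁻¹ * ((n⁻¹ * d * n) * c) by group,
      Subgroup.mem_centralizer_iff.mp hc _ hd', inv_mul_cancel_left]

end Cfsg.Agent.S2791
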