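import Cfsg.Statements.S2794
import Cfsg.Agent.QdFree.Control

set_option autoImplicit false
open Cfsg

namespace Cfsg.Agent.S2794

/-- For an odd prime p and a finite group G, the group Qd(p) is not involved in G if and only if in every section K/R of G, for every Sylow p-subgroup S* of K/R, the centre of J(S*) (J generated by the abelian subgroups of largest order) controls strong fusion in K/R. -/
theorem result {G : Type*} [Group G] [Finite G] {p : ℕ} [Fact p.Prime] (hp : p ≠ 2) : ¬ Cfsg.Involves ↥(Cfsg.qd p) G ↔ ∀ (K R : Subgroup G) [hR : (R.subgroupOf K).Normal], ∀ T : Sylow p (K ⧸ R.subgroupOf K), Cfsg.ControlsStrongFusion p (Cfsg.centerThompsonAOf (T : Subgroup (K ⧸ R.subgroupOf K))) := by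
  simp only [Fusion.centerThompsonAOf_eq_zInter, ← QdFree.inducedFunctor_zj]
  constructor
  · intro hfree K R hR T
    refine QdFree.controlsStrongFusion_of_normal QdFree.isCharPFunctor_zj (fun K' R' _ hc T' => ?_) T
    rw [QdFree.inducedFunctor_zj]
    exact QdFree.normal_zInter_of_pStable hp (Or.inl rfl)
      (QdFree.isNormalizerPStable_section hp (QdFree.not_involves_section hfree K R) K' R') hc T'
  · intro h hinv
    obtain ⟨K, R, hn, ⟨e⟩⟩ := QdFree.exists_section_equiv hinv
    obtain ⟨T⟩ : Nonempty (Sylow p (↥K ⧸ R.subgroupOf K)) := inferInstance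
    exact QdFree.not_controlsStrongFusion_functor QdFree.isCharPFunctor_zj e T (h K R T)

end Cfsg.Agent.S2794
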