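import Cfsg.Statements.S2796
import Cfsg.Agent.S4Comp.Closed
import Cfsg.Agent.S2791

set_option autoImplicit false
universe u
open Cfsg

namespace Cfsg.Agent.S2796

open Subgroup Cfsg.Agent.S4Comp
open Cfsg.Agent.SfFree (jS le_jS)
open Cfsg.Agent.Control (SylIn)

theorem secHyp {G : Type u} [Group G] [Finite G]
    (hfree : ¬ Cfsg.Involves (Equiv.Perm (Fin 4)) G)
    (hsec : ∀ (K R : Subgroup G) [hR : (R.subgroupOf K).Normal],
      Subgroup.centralizer (Cfsg.pCore 2 (K ⧸ R.subgroupOf K) : Set (K ⧸ R.subgroupOf K)) ≤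
        Cfsg.pCore 2 (K ⧸ R.subgroupOf K) →
      Cfsg.IsCompositionKGroupWith Cfsg.IsSuzukiOrPSL2OddPowerThree (K ⧸ R.subgroupOf K)) : SecHyp G := by
  refine ⟨hfree, fun X _ _ K f hf hX => ?_⟩
  set R := f.ker.map K.subtype
  have hRk : R.subgroupOf K = f.ker := comap_map_eq_self_of_injective K.subtype_injective f.ker
  have hRn : (R.subgroupOf K).Normal := hRk ▸ inferInstance
  let e : K ⧸ R.subgroupOf K ≃* X :=
    (QuotientGroup.quotientMulEquivOfEq hRk).trans (QuotientGroup.quotientKerEquivOfSurjective f hf)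
  have hchar : Subgroup.centralizer (Cfsg.pCore 2 (K ⧸ R.subgroupOf K) : Set (K ⧸ R.subgroupOf K)) ≤
      Cfsg.pCore 2 (K ⧸ R.subgroupOf K) := by
    intro z hz
    have h1 : e z ∈ centralizer (Cfsg.pCore 2 X : Set X) := by
      refine mem_centralizer_iff.2 fun x hx => ?_
      have h2 := mem_centralizer_iff.1 hz (e.symm x)
        (Core.map_pCore_le_of_surjective (f := e.symm.toMonoidHom) e.symm.surjective (mem_map_of_mem _ hx))
      simpa using congrArg e h2
    simpa using Core.map_pCore_le_of_surjective (f := e.symm.toMonoidHom) e.symm.surjective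
      (mem_map_of_mem _ (hX h1))
  exact (show S3Free.CompK (K ⧸ R.subgroupOf K) from hsec K R hchar).of_surjective e.toMonoidHom e.surjective

/-- The conjugates of `Ω₁(Z(S))` under `N(J)` lie in `Ω₁(Z(Ĵ))`. -/
theorem conj_mem_wJ {G : Type u} [Group G] [Finite G] (h : SecHyp G) (S : Sylow 2 G) {z x : G}
    (hz : z ∈ Cfsg.omegaOne 2 ((S : Subgroup G) ⊓ centralizer ((S : Subgroup G) : Set G)))
    (hx : x ∈ normalizer (jS (S : Subgroup G) : Set G)) : x * z * x⁻¹ ∈ wJ (S : Subgroup G) := by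
  have := Fact.mk Nat.prime_two
  set J := jS (S : Subgroup G)
  set N := normalizer (J : Set G)
  set C := centralizer (J : Set G)
  set T0 := (S : Subgroup G) ⊓ C
  have hea : Cfsg.IsElementaryAbelian 2
      (Cfsg.omegaOne 2 ((S : Subgroup G) ⊓ centralizer ((S : Subgroup G) : Set G))) :=
    Thompson.omegaOne_ea (inf_le_right.trans (centralizer_le inf_le_left))
  have hzS := Thompson.omegaOne_le 2 _ hz
  have hzW : z ∈ wJ (S : Subgroup G) := Thompson.mem_omegaOne
    (mem_inf.2 ⟨center_le_jh _ hzS, centralizer_le (jh_le _) (mem_inf.1 hzS).2⟩) (hea.2 z hz)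
  have hSN : (S : Subgroup G) ≤ N := le_normalizer.trans le_normalizer_jS_of
  have hNC : N ≤ normalizer (C : Set G) := fun g hg => Control.mem_normalizer_of_cjSub_eq
    (by rw [Control.cjSub_centralizer, Control.cjSub_eq_of_mem hg])
  obtain ⟨c, hc, m, hm, rfl⟩ := frattini_in ((Control.sylIn_top S).mono hSN le_top) hNC hx
  set Y := N ⊓ normalizer (T0 : Set G)
  have hSY : (S : Subgroup G) ≤ Y := le_inf hSN ((le_inf le_normalizer (hSN.trans hNC)).trans
    inf_normalizer_le_normalizer_inf)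
  let SY : Sylow 2 Y := S.subtype hSY
  have hD : (J ⊔ T0).subgroupOf Y ≤ Cfsg.pCore 2 Y := by
    have hle : J ⊔ T0 ≤ S := sup_le (SfFree.jS_le _) inf_le_left
    have hnY : Y ≤ normalizer ((J ⊔ T0 : Subgroup G) : Set G) := fun g hg =>
      Control.mem_normalizer_of_cjSub_eq (by
        rw [Control.cjSub, Subgroup.map_sup]
        exact congrArg₂ _ (Control.cjSub_eq_of_mem (mem_inf.1 hg).1) (Control.cjSub_eq_of_mem (mem_inf.1 hg).2))
    have : ((J ⊔ T0).subgroupOf Y).Normal := normal_subgroupOf_of_le_normalizer hnY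
    exact Core.le_pCore ((S.2.to_le hle).comap_subtype (K := Y))
  have hT : (SY : Subgroup Y) ⊓ centralizer (Cfsg.pCore 2 Y : Set Y) ≤ Cfsg.pCore 2 Y := by
    intro y hy
    obtain ⟨hy1, hy2⟩ := mem_inf.1 hy
    refine hD (mem_subgroupOf.2 (mem_sup_right (mem_inf.2
      ⟨mem_subgroupOf.1 hy1, mem_centralizer_iff.2 fun j hj => ?_⟩)))
    exact congrArg Subtype.val (mem_centralizer_iff.1 hy2
      ⟨j, hSY (SfFree.jS_le _ hj)⟩ (hD (mem_subgroupOf.2 (mem_sup_left hj))))
  obtain ⟨d, hd, k, hk, e⟩ := (cent_fac (h.subgroup Y) SY hT).1 (⟨m, hm⟩ : Y)⁻¹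
  have hTe : (SY : Subgroup Y).map Y.subtype = (S : Subgroup G) := map_subgroupOf_eq_of_le hSY
  have hk' : (k : G) ∈ normalizer (jh (S : Subgroup G) : Set G) := by
    rw [← hTe, jh_map Y.subtype_injective]
    exact le_normalizer_map Y.subtype ⟨k, hk, rfl⟩
  have hd' : (d : G) ∈ centralizer (((S : Subgroup G) ⊓ centralizer ((S : Subgroup G) : Set G) : Subgroup G) : Set G) := by
    rw [← hTe, ← SfFree.map_inf_centralizer Y.subtype_injective]
    exact map_centralizer_le Y.subtype hd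
  have hm' : m = (k : G)⁻¹ * (d : G)⁻¹ := by
    have := congrArg Subtype.val e
    simp only [Subgroup.coe_inv, Subgroup.coe_mul] at this
    rw [← mul_inv_rev, ← this, inv_inv]
  have hW : k⁻¹.1 * z * (k⁻¹.1)⁻¹ ∈ wJ (S : Subgroup G) := by
    have hkW : ((k⁻¹ : Y) : G) ∈ normalizer (wJ (S : Subgroup G) : Set G) := by
      refine mem_normalizer_iff_map_conj_eq.2 ?_
      have hj : (jh (S : Subgroup G)).map (MulAut.conj ((k⁻¹ : Y) : G)).toMonoidHom = jh (S : Subgroup G) :=
        mem_normalizer_iff_map_conj_eq.1 (by rw [Subgroup.coe_inv]; exact inv_mem hk')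
      have hinj : Function.Injective (MulAut.conj ((k⁻¹ : Y) : G)).toMonoidHom := (MulAut.conj _).injective
      show (Cfsg.omegaOne 2 _).map (MulAut.conj ((k⁻¹ : Y) : G)).toMonoidHom = _
      rw [Thompson.omegaOne_map_of_injective hinj, SfFree.map_inf_centralizer hinj, hj]
      rfl
    exact (mem_normalizer_iff.1 hkW z).1 hzW
  have hcm : c * (k⁻¹.1 * z * (k⁻¹.1)⁻¹) * c⁻¹ = k⁻¹.1 * z * (k⁻¹.1)⁻¹ :=
    mul_inv_eq_iff_eq_mul.2 (mem_centralizer_iff.1 (mem_inf.1 hc).1 _ (wJ_le_jS _ hW)).symm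
  have hdz : (d : G)⁻¹ * z * (d : G) = z := by
    rw [mul_assoc, mem_centralizer_iff.1 hd' z hzS, inv_mul_cancel_left]
  rw [show c * m * z * (c * m)⁻¹ = c * (k⁻¹.1 * z * (k⁻¹.1)⁻¹) * c⁻¹ from ?_, hcm]
  · exact hW
  · rw [hm', Subgroup.coe_inv]
    calc c * ((k : G)⁻¹ * (d : G)⁻¹) * z * (c * ((k : G)⁻¹ * (d : G)⁻¹))⁻¹
        = c * ((k : G)⁻¹ * ((d : G)⁻¹ * z * (d : G)) * (k : G)⁻¹⁻¹) * c⁻¹ := by group
      _ = _ := by rw [hdz]

/-- Let G be a finite group in which the symmetric group of degree 4 is not involved, such that for every section K/R of G with C(O₂(K/R)) ≤ O₂(K/R) every non-abelian composition factor of K/R is a Suzuki group Sz(2^(2n+1)) or PSL₂ over a field with 3^(2n+1) elements. Let S be a Sylow 2-subgroup, J_e(S) the subgroup generated by its elementary abelian subgroups of largest order, and A the normal closure of Ω₁(Z(S)) in N_G(J_e(S)). Then A is an elementary abelian subgroup of S, strongly closed in S with respect to G, and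 A controls strong fusion in G. -/
theorem result {G : Type u} [Group G] [Finite G] (hfree : ¬ Cfsg.Involves (Equiv.Perm (Fin 4)) G) (hsec : ∀ (K R : Subgroup G) [hR : (R.subgroupOf K).Normal], Subgroup.centralizer (Cfsg.pCore 2 (K ⧸ R.subgroupOf K) : Set (K ⧸ R.subgroupOf K)) ≤ Cfsg.pCore 2 (K ⧸ R.subgroupOf K) → Cfsg.IsCompositionKGroupWith Cfsg.IsSuzukiOrPSL2OddPowerThree (K ⧸ R.subgroupOf K)) (S : Sylow 2 G) (N : Subgroup G) (hN : N = Subgroup.normalizer (Cfsg.thompsonSubgroupOf 2 (S : Subgroup G) : Set G)) (A : Subgroup G) (hA : A = (Subgroup.normalClosure (((Cfsg.omegaOne 2 ((S : Subgroup G) ⊓ Subgroup.centralizer ((S : Subgroup G) : Set G))).subgroupOf N : Subgroup ↥N) : Set ↥N)).map N.subtype) : A ≤ S ∧ Cfsg.IsElementaryAbelian 2 A ∧ Cfsg.IsStronglyClosed A (S : Subgroup G) ∧ Cfsg.ControlsStrongFusion 2 A := by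
  have h := secHyp hfree hsec
  set J := jS (S : Subgroup G) with hJ
  have hN' : N = normalizer (J : Set G) := by rw [hN, hJ, jS_eq_thompsonOf]
  subst hN'
  have hAW : A ≤ wJ (S : Subgroup G) := by
    rw [hA, map_le_iff_le_comap]
    refine (closure_le _).2 fun w hw => ?_
    obtain ⟨z, hz, hconj⟩ := Group.mem_conjugatesOfSet_iff.1 hw
    obtain ⟨x, rfl⟩ := isConj_iff.1 hconj
    exact conj_mem_wJ h S (mem_subgroupOf.1 hz) x.2
  have hAn : normalizer (J : Set G) ≤ normalizer (A : Set G) := fun x hx => by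
    refine QdFree.ZJControl.mem_normalizer_of_conj fun a ha => ?_
    rw [hA] at ha ⊢
    obtain ⟨w, hw, rfl⟩ := ha
    exact ⟨⟨x, hx⟩ * w * ⟨x, hx⟩⁻¹, normalClosure_normal.conj_mem w hw ⟨x, hx⟩, rfl⟩
  have hAS : A ≤ S := hAW.trans ((wJ_le_jS _).trans (SfFree.jS_le _))
  have hAe : Cfsg.IsElementaryAbelian 2 A := Thompson.ea_mono (wJ_ea _) hAW
  have hsc : Cfsg.IsStronglyClosed A (S : Subgroup G) := ⟨hAS, closed h S A hAW hAn⟩
  have := Fact.mk Nat.prime_two
  exact ⟨hAS, hAe, hsc, S2791.result S A hAe.1 hsc⟩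

end Cfsg.Agent.S2796
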