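import Cfsg.Statements.S2804
import Cfsg.Agent.LocalStructure.CharP
import Cfsg.Agent.LocalStructure.ThreeSubgroup


set_option autoImplicit false
open Cfsg

set_option linter.all false

namespace Cfsg.Agent.S2804

open scoped commutatorElement

/-- Let L be a finite group and p a prime with C_L(O_p(L)) ≤ O_p(L), V a p-reduced normal subgroup of L and K a subnormal subgroup of L. Then [V, O^p(K)] is contained in K and is a p-reduced normal subgroup of K, where O^p(K) is the subgroup of K generated by its elements of order prime to p. -/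
theorem result {L : Type*} [Group L] [Finite L] {p : ℕ} [Fact p.Prime] (hchar : Subgroup.centralizer (Cfsg.pCore p L : Set L) ≤ Cfsg.pCore p L) (V : Subgroup L) (hV : Cfsg.IsPReducedNormal p V) (K : Subgroup L) (hK : K.IsSubnormal) : ⁅V, (Cfsg.pResidual p ↥K).map K.subtype⁆ ≤ K ∧ Cfsg.IsPReducedNormal p ((⁅V, (Cfsg.pResidual p ↥K).map K.subtype⁆).subgroupOf K) := by
  haveI := hV.1
  have hVp : IsPGroup p V := Thompson.ea_isPGroup hV.2.1
  have hVsn : V.IsSubnormal := hV.1.isSubnormal
  set W : Subgroup L := ⁅V, LocalStructure.resOf p K⁆ with hW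
  have hWK : W ≤ K :=
    (LocalStructure.commutator_resOf_le hVsn hVp hK).trans (LocalStructure.resOf_le p K)
  have hKV : K ≤ Subgroup.normalizer (V : Set L) := le_top.trans (Subgroup.normalizer_eq_top (H := V)).ge
  refine ⟨hWK, (LocalStructure.reducedIn_iff hWK).mp ⟨hWK,
    LocalStructure.le_normalizer_commutator_of_le hKV
      (LocalStructure.le_normalizer_resOf p Subgroup.le_normalizer),
    Thompson.ea_mono hV.2.1 (Subgroup.le_normalizer_iff_commutator_le_left.mp
      ((LocalStructure.resOf_le p K).trans hKV)), fun N hNK hKN hg => ?_⟩⟩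
  have hNV : N ≤ Subgroup.centralizer (V : Set L) := by
    refine LocalStructure.le_centralizer_of_subnormal hV (Subgroup.IsSubnormal.trans hNK
      (Subgroup.Normal.isSubnormal (Subgroup.normal_subgroupOf_of_le_normalizer hKN)) hK) ?_
    intro g hgN hgc
    refine LocalStructure.commute_of_double_commutator hVp (hKV (hNK hgN)) hgc fun v hv => ?_
    have h1 : ⁅v, g⁆ ∈ W := Subgroup.commutator_mem_commutator hv (LocalStructure.mem_resOf (hNK hgN) hgc)
    rw [← commutatorElement_inv v g]
    exact (Commute.inv_right (show Commute g ⁅v, g⁆ from (Subgroup.mem_centralizer_iff.mp (hg g hgN hgc) _ h1).symm))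
  exact hNV.trans (Subgroup.centralizer_le (SetLike.coe_subset_coe.mpr
    (Subgroup.le_normalizer_iff_commutator_le_left.mp ((LocalStructure.resOf_le p K).trans hKV))))

end Cfsg.Agent.S2804
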