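import Cfsg.Statements.S2810
import Cfsg.Agent.LocalStructure.Series


set_option autoImplicit false
open Cfsg

set_option linter.all false

namespace Cfsg.Agent.S2810

/-- Let H be a finite group of characteristic p and L a subgroup of H centralizing every factor of some H-invariant chain 1 = A₀ ≤ A₁ ≤ … ≤ Aₙ = O_p(H) of normal subgroups (that is, [A_{i+1}, L] ≤ Aᵢ for each i). Then L ≤ O_p(H). -/
theorem result {H : Type*} [Group H] [Finite H] {p : ℕ} [Fact p.Prime] (hchar : Subgroup.centralizer (Cfsg.pCore p H : Set H) ≤ Cfsg.pCore p H) (L : Subgroup H) (n : ℕ) (A : Fin (n + 1) → Subgroup H) (h0 : A 0 = ⊥) (hn : A (Fin.last n) = Cfsg.pCore p H) (hmono : Monotone A) (hnorm : ∀ i, (A i).Normal) (hcent : ∀ i : Fin n, ⁅A i.succ, L⁆ ≤ A i.castSucc) : L ≤ Cfsg.pCore p H := by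
  classical
  let K : Fin n → Subgroup H := fun i =>
    letI := hnorm i.castSucc
    (Subgroup.centralizer (((A i.succ).map (QuotientGroup.mk' (A i.castSucc)) :
      Subgroup (H ⧸ A i.castSucc)) : Set (H ⧸ A i.castSucc))).comap (QuotientGroup.mk' (A i.castSucc))
  have hK : ∀ (i : Fin n) (M : Subgroup H), ⁅A i.succ, M⁆ ≤ A i.castSucc ↔ M ≤ K i := fun i M =>
    letI := hnorm i.castSucc
    LocalStructure.commutator_le_iff_le_comap_centralizer
  have hKn : ∀ i, (K i).Normal := fun i => by
    letI := hnorm i.castSucc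
    have : (A i.succ).Normal := hnorm i.succ
    have : ((A i.succ).map (QuotientGroup.mk' (A i.castSucc))).Normal :=
      Subgroup.Normal.map inferInstance _ (QuotientGroup.mk'_surjective _)
    exact Subgroup.Normal.comap inferInstance _
  set M : Subgroup H := Subgroup.normalClosure (L : Set H) with hM
  have hMK : ∀ i, M ≤ K i := fun i =>
    haveI := hKn i
    Subgroup.normalClosure_le_normal ((hK i L).mp (hcent i))
  have hiter : ∀ j ≤ n, Cfsg.iterCommutator (Cfsg.pCore p H) M j ≤ A ⟨n - j, by omega⟩ := by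
    intro j
    induction j with
    | zero =>
      intro _
      show Cfsg.pCore p H ≤ _
      rw [← hn]
      exact le_of_eq rfl
    | succ j ih =>
      intro hj
      let i : Fin n := ⟨n - (j + 1), by omega⟩
      have h1 : ⁅A i.succ, M⁆ ≤ A i.castSucc := (hK i M).mpr (hMK i)
      have h2 : (⟨n - j, by omega⟩ : Fin (n + 1)) = i.succ :=
        Fin.ext (by simp only [i, Fin.val_succ]; omega)
      calc Cfsg.iterCommutator (Cfsg.pCore p H) M (j + 1)
          = ⁅Cfsg.iterCommutator (Cfsg.pCore p H) M j, M⁆ := rfl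
        _ ≤ ⁅A i.succ, M⁆ := Subgroup.commutator_mono (h2 ▸ ih (by omega)) le_rfl
        _ ≤ _ := h1
  have hbot : Cfsg.iterCommutator (Cfsg.pCore p H) M n = ⊥ := by
    rw [eq_bot_iff, ← h0]
    exact (hiter n le_rfl).trans (le_of_eq (congrArg A (Fin.ext (by simp))))
  have : (Cfsg.pCore p H).Normal := inferInstance
  have hMp : IsPGroup p M :=
    LocalStructure.isPGroup_of_iterCommutator_eq_bot Core.pCore_isPGroup hchar
      (le_top.trans (Subgroup.normalizer_eq_top (H := Cfsg.pCore p H)).ge) hbot
  exact Subgroup.le_normalClosure.trans (Core.le_pCore hMp)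

end Cfsg.Agent.S2810
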