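import Cfsg.Statements.S2813
import Cfsg.Agent.LocalStructure.Series


set_option autoImplicit false
open Cfsg

set_option linter.all false

namespace Cfsg.Agent.S2813

open scoped commutatorElement

/-- Let K be a subgroup of the finite group H with O_p(K) = 1 and Y a p-subgroup of N_H(K) with [K, Y, Y] = 1. Then [K, Y] = 1. -/
theorem result {H : Type*} [Group H] [Finite H] {p : ℕ} [Fact p.Prime] (K : Subgroup H) (hO : Cfsg.pCore p ↥K = ⊥) (Y : Subgroup H) (hY : IsPGroup p ↥Y) (hYK : Y ≤ Subgroup.normalizer (K : Set H)) (hq : ⁅⁅K, Y⁆, Y⁆ = ⊥) : ⁅K, Y⁆ = ⊥ := by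
  classical
  set W : Subgroup H := ⁅K, Y⁆ with hW
  have hWK : W ≤ K := Coprime.commutator_le_of_le_normalizer hYK
  have hYC : Y ≤ Subgroup.centralizer (W : Set H) :=
    Subgroup.le_centralizer_iff.mp (Subgroup.commutator_eq_bot_iff_le_centralizer.mp hq)
  have hKN : K ≤ Subgroup.normalizer (W : Set H) :=
    le_sup_left.trans (Coprime.le_normalizer_commutator (K := K) (A := Y))
  have hWC : W ≤ Subgroup.centralizer (W : Set H) := by
    rw [hW, Subgroup.commutator_le]
    intro k hk y hy
    have hconj : k * y * k⁻¹ ∈ Subgroup.centralizer (W : Set H) := by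
      rw [Subgroup.mem_centralizer_iff]
      intro w hw
      have hw' : k⁻¹ * w * k ∈ W := by
        have := (Subgroup.mem_normalizer_iff.mp (hKN (K.inv_mem hk)) w).mp hw
        simpa using this
      have := Subgroup.mem_centralizer_iff.mp (hYC hy) _ hw'
      calc w * (k * y * k⁻¹) = k * ((k⁻¹ * w * k) * y) * k⁻¹ := by group
        _ = k * (y * (k⁻¹ * w * k)) * k⁻¹ := by rw [this]
        _ = k * y * k⁻¹ * w := by group
    rw [commutatorElement_def]
    exact Subgroup.mul_mem _ hconj (Subgroup.inv_mem _ (hYC hy))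
  have hgen : ∀ w ∈ W, ∃ j : ℕ, w ^ p ^ j = 1 := by
    intro w hw
    rw [hW, Subgroup.commutator_def] at hw
    induction hw using Subgroup.closure_induction with
    | mem c hc =>
      obtain ⟨k, hk, y, hy, rfl⟩ := hc
      obtain ⟨j, hj⟩ := hY ⟨y, hy⟩
      have hj' : y ^ p ^ j = 1 := by simpa [Subtype.ext_iff] using hj
      refine ⟨j, ?_⟩
      have hcomm : Commute ⁅k, y⁆ y :=
        Subgroup.mem_centralizer_iff.mp (hYC hy) _ (Subgroup.commutator_mem_commutator hk hy)
      have h1 : ∀ m : ℕ, ⁅k, y ^ m⁆ = ⁅k, y⁆ ^ m := by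
        intro m
        have h2 : k * y * k⁻¹ = ⁅k, y⁆ * y := by rw [commutatorElement_def]; group
        rw [commutatorElement_def k (y ^ m), ← conj_pow, h2, hcomm.mul_pow, mul_inv_cancel_right]
      rw [← h1, hj', commutatorElement_one_right]
    | one => exact ⟨0, one_pow _⟩
    | mul a b ha hb iha ihb =>
      obtain ⟨i, hi⟩ := iha
      obtain ⟨j, hj⟩ := ihb
      have ha' : a ∈ W := by rw [hW, Subgroup.commutator_def]; exact ha
      have hb' : b ∈ W := by rw [hW, Subgroup.commutator_def]; exact hb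
      have hab : Commute a b := (Subgroup.mem_centralizer_iff.mp (hWC ha') b hb').symm
      refine ⟨i + j, ?_⟩
      rw [hab.mul_pow, pow_add, pow_mul, hi, one_pow, one_mul, mul_comm, pow_mul, hj, one_pow]
    | inv a _ iha =>
      obtain ⟨i, hi⟩ := iha
      exact ⟨i, by rw [inv_pow, hi, inv_one]⟩
  have hWn : (W.subgroupOf K).Normal := Subgroup.normal_subgroupOf_of_le_normalizer hKN
  have hp : IsPGroup p (W.subgroupOf K) := by
    rintro ⟨⟨w, hwK⟩, hw⟩
    obtain ⟨j, hj⟩ := hgen w hw
    exact ⟨j, by ext; simpa using hj⟩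
  have h := (Core.le_pCore hp).trans hO.le
  rw [eq_bot_iff]
  intro w hw
  have := h (show (⟨w, hWK hw⟩ : K) ∈ W.subgroupOf K from hw)
  simpa [Subtype.ext_iff] using this

end Cfsg.Agent.S2813
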