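import Cfsg.Statements.S2814
import Cfsg.Agent.LocalStructure.PIrreducible
import Cfsg.Agent.LocalStructure.ThreeSubgroup
import Cfsg.Agent.S3937
import Cfsg.Agent.Layer.Subnormal
import Cfsg.Agent.Coprime.Tools

set_option autoImplicit false
open Cfsg

set_option linter.all false

namespace Cfsg.Agent.S2814

open scoped commutatorElement

/-- Let A be a subgroup of the finite group H and K the subnormal closure of A (intersection of the subnormal subgroups containing A). Then K is the normal closure of A inside K and N_H(A) ≤ N_H(K); K = A·O^p(K), O^p(K) being generated by the elements of K of order prime to p; and if A is a p-group, O^p(K) = [O^p(K), A]. -/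
theorem result {H : Type*} [Group H] [Finite H] {p : ℕ} [Fact p.Prime] (A : Subgroup H) (K : Subgroup H) (hK : K = Cfsg.subnormalClosure A) : (Subgroup.normalClosure ((A.subgroupOf K : Subgroup ↥K) : Set ↥K)).map K.subtype = K ∧ Subgroup.normalizer (A : Set H) ≤ Subgroup.normalizer (K : Set H) ∧ A ⊔ (Cfsg.pResidual p ↥K).map K.subtype = K ∧ (IsPGroup p ↥A → ⁅(Cfsg.pResidual p ↥K).map K.subtype, A⁆ = (Cfsg.pResidual p ↥K).map K.subtype) := by
  have hinf : ∀ s : Set (Subgroup H), (∀ S ∈ s, S.IsSubnormal) → (sInf s).IsSubnormal := by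
    intro s hs
    induction s, Set.toFinite s using Set.Finite.induction_on with
    | empty => rw [sInf_empty]; exact Subgroup.IsSubnormal.top
    | @insert a t _ _ ih =>
      rw [sInf_insert]
      have h1 := hs a (Set.mem_insert _ _)
      have h2 := ih fun S hS => hs S (Set.mem_insert_of_mem _ hS)
      refine Subgroup.IsSubnormal.trans inf_le_right ?_ h2
      rw [Subgroup.inf_subgroupOf_right]
      exact h1.comap _
  have hKsn : K.IsSubnormal := hK ▸ hinf _ fun S hS => hS.2
  have hAK : A ≤ K := hK ▸ le_sInf fun S hS => hS.1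
  have hmin : ∀ X : Subgroup H, A ≤ X → X.IsSubnormal → K ≤ X := fun X h1 h2 =>
    hK ▸ sInf_le ⟨h1, h2⟩
  have hminK : ∀ X : Subgroup ↥K, A.subgroupOf K ≤ X → X.IsSubnormal → X = ⊤ := by
    intro X h1 h2
    have h3 := hmin (X.map K.subtype) (fun a ha => ⟨⟨a, hAK ha⟩, h1 (Subgroup.mem_subgroupOf.mpr ha), rfl⟩)
      (h2.trans' hKsn)
    rw [eq_top_iff]
    rintro ⟨x, hx⟩ -
    obtain ⟨y, hy, hyx⟩ := h3 hx
    exact (Subtype.ext hyx : y = ⟨x, hx⟩) ▸ hy
  have hncl : Subgroup.normalClosure ((A.subgroupOf K : Subgroup ↥K) : Set ↥K) = ⊤ :=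
    hminK _ Subgroup.subset_normalClosure (Subgroup.Normal.isSubnormal inferInstance)
  set R : Subgroup ↥K := Cfsg.pResidual p ↥K with hR
  have hAR : A.subgroupOf K ⊔ R = ⊤ := by
    refine hminK _ le_sup_left ?_
    have : Group.IsNilpotent (↥K ⧸ R) := (Fusion.isPGroup_quotient_pResidual (G := ↥K) (p := p)).isNilpotent
    have h := (Cfsg.Agent.S3937.isSubnormal_of_nilpotent ((A.subgroupOf K).map (QuotientGroup.mk' R))).comap
      (QuotientGroup.mk' R)
    rwa [Subgroup.comap_map_eq, QuotientGroup.ker_mk'] at h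
  have hmapA : (A.subgroupOf K).map K.subtype = A := Subgroup.map_subgroupOf_eq_of_le hAK
  have hmaptop : (⊤ : Subgroup ↥K).map K.subtype = K := by
    rw [← MonoidHom.range_eq_map, Subgroup.range_subtype]
  refine ⟨by rw [hncl, hmaptop], ?_, ?_, fun hp => ?_⟩
  · intro g hg
    have key : ∀ g ∈ Subgroup.normalizer (A : Set H), K ≤ K.map (MulAut.conj g).toMonoidHom := by
      intro g hg
      refine hmin _ (fun a ha => ⟨g⁻¹ * a * g, hAK ?_, ?_⟩) (Layer.isSubnormal_map_conj hKsn g)
      · have := (Subgroup.mem_normalizer_iff.mp ((Subgroup.normalizer (A : Set H)).inv_mem hg) a).mp ha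
        simpa using this
      · show g * (g⁻¹ * a * g) * g⁻¹ = a
        group
    refine Layer.mem_normalizer_of_conj_mem fun x hx => ?_
    obtain ⟨y, hy, hyx⟩ := key g⁻¹ ((Subgroup.normalizer (A : Set H)).inv_mem hg) hx
    have hyx' : g⁻¹ * y * g⁻¹⁻¹ = x := hyx
    rw [← hyx']
    simpa [mul_assoc] using hy
  · conv_lhs => rw [← hmapA, ← Subgroup.map_sup, hAR, hmaptop]
  · set A' : Subgroup ↥K := A.subgroupOf K with hA'
    have hA'p : IsPGroup p A' := hp.comap_subtype
    have hn : ⁅R, A'⁆.Normal := by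
      rw [← Subgroup.normalizer_eq_top_iff, eq_top_iff, ← hAR, sup_comm]
      exact sup_le (le_sup_left.trans Coprime.le_normalizer_commutator)
        (le_sup_right.trans Coprime.le_normalizer_commutator)
    have hn2 : (⁅R, A'⁆ ⊔ A').Normal := by
      rw [← Subgroup.normalizer_eq_top_iff, eq_top_iff, ← hAR]
      refine sup_le (le_sup_right.trans Subgroup.le_normalizer) fun r hr => ?_
      refine Layer.mem_normalizer_of_conj_mem fun x hx => ?_
      suffices ⁅R, A'⁆ ⊔ A' ≤ (⁅R, A'⁆ ⊔ A').comap (MulAut.conj r).toMonoidHom from this hx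
      refine sup_le (fun z hz => Subgroup.mem_comap.mpr (Subgroup.mem_sup_left (hn.conj_mem z hz r)))
        fun y hy => ?_
      show r * y * r⁻¹ ∈ ⁅R, A'⁆ ⊔ A'
      rw [show r * y * r⁻¹ = ⁅r, y⁆ * y by simp only [commutatorElement_def]; group]
      exact mul_mem (Subgroup.mem_sup_left (Subgroup.commutator_mem_commutator hr hy)) (Subgroup.mem_sup_right hy)
    have htop : ⁅R, A'⁆ ⊔ A' = ⊤ := hminK _ le_sup_right (Subgroup.Normal.isSubnormal hn2)
    have hle : R ≤ ⁅R, A'⁆ := LocalStructure.pResidual_le_of_sup_eq_top hA'p htop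
    have heq : ⁅R, A'⁆ = R := le_antisymm (Subgroup.commutator_le_left R A') hle
    conv_rhs => rw [← heq, Subgroup.map_commutator, hmapA]

end Cfsg.Agent.S2814
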