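import Cfsg.Statements.S2817
import Cfsg.Agent.LocalStructure.FStarActionTop
import Cfsg.Agent.Core.Frattini

set_option autoImplicit false
open Cfsg

set_option linter.all false

namespace Cfsg.Agent.S2817

open scoped commutatorElement

/-- Let H be a finite group and p a prime with O_p(H) = 1, Q a p-subgroup of H, L = [F*(H), Q], and F the largest normal subgroup of F*(H) centralized by Q (a normal subgroup of F*(H) centralized by Q and containing every such). Then F = C_{F*(H)}(LQ); L = [L, Q]; L ∩ F ≤ Φ(L); every p-subgroup B of N_H(Q) with [L, B] ≤ F satisfies [L, B] = 1; and C_H(FL) has order prime to p. -/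
theorem result {H : Type*} [Group H] [Finite H] {p : ℕ} [Fact p.Prime] (hO : Cfsg.pCore p H = ⊥) (Q : Subgroup H) (hQ : IsPGroup p ↥Q) (L : Subgroup H) (hL : L = ⁅Cfsg.generalizedFittingSubgroup H, Q⁆) (F : Subgroup H) (hF : F ≤ Cfsg.generalizedFittingSubgroup H ∧ Cfsg.generalizedFittingSubgroup H ≤ Subgroup.normalizer (F : Set H) ∧ Q ≤ Subgroup.centralizer (F : Set H) ∧ ∀ N : Subgroup H, N ≤ Cfsg.generalizedFittingSubgroup H → Cfsg.generalizedFittingSubgroup H ≤ Subgroup.normalizer (N : Set H) → Q ≤ Subgroup.centralizer (N : Set H) → N ≤ F) : F = Cfsg.generalizedFittingSubgroup H ⊓ Subgroup.centralizer ((L ⊔ Q : Subgroup H) : Set H) ∧ ⁅L, Q⁆ = L ∧ L ⊓ F ≤ (frattini ↥L).map L.subtype ∧ (∀ B : Subgroup H, IsPGroup p ↥B → B ≤ Subgroup.normalizer (Q : Set H) → ⁅L, B⁆ ≤ F → ⁅L, B⁆ = ⊥) ∧ (Nat.card ↥(Subgroup.centralizer ((F ⊔ L : Subgroup H) : Set H))).Coprime p := by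
  obtain ⟨h1, h2, h3, h4, h5⟩ := LocalStructure.fstar_centralizer_props hO hQ hL hF
  refine ⟨h1, h2, fun z hz => ?_, h4, h5⟩
  have hzL : z ∈ L := (Subgroup.mem_inf.mp hz).1
  refine ⟨⟨z, hzL⟩, ?_, rfl⟩
  by_contra hne
  have hcen : ∀ w ∈ L, w * z = z * w := by
    intro w hw
    have hzF := (Subgroup.mem_inf.mp hz).2
    rw [h1] at hzF
    exact Subgroup.mem_centralizer_iff.mp (Subgroup.mem_inf.mp hzF).2 w ((le_sup_left : L ≤ L ⊔ Q) hw)
  have hder : (⟨z, hzL⟩ : L) ∈ commutator L := by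
    have h6 := h3 hz
    rw [← L.range_subtype, MonoidHom.range_eq_map, ← Subgroup.map_commutator, ← commutator_def] at h6
    obtain ⟨u, hu, huz⟩ := h6
    rwa [← show u = ⟨z, hzL⟩ from Subtype.ext huz]
  have hmem : (⟨z, hzL⟩ : L) ∈ commutator L ⊓ Subgroup.center L :=
    Subgroup.mem_inf.mpr ⟨hder, Subgroup.mem_center_iff.mpr fun w => Subtype.ext (hcen w w.2)⟩
  obtain ⟨M, hM, hMz⟩ := Core.exists_coatom_not_le (H := Subgroup.zpowers (⟨z, hzL⟩ : L))
    (fun h => hne (h (Subgroup.mem_zpowers _)))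
  obtain ⟨hd, hc⟩ := Subgroup.mem_inf.mp hmem
  have hMn : M.Normal := by
    rw [← Subgroup.normalizer_eq_top_iff]
    refine (hM.le_iff.mp Subgroup.le_normalizer).resolve_right fun e => hMz ?_
    rw [Subgroup.zpowers_le, ← e, Subgroup.mem_normalizer_iff]
    intro w
    rw [(Subgroup.mem_center_iff.mp hc w).symm, mul_inv_cancel_right]
  refine hMz (Subgroup.zpowers_le.mpr ?_)
  haveI := hMn
  have hcyc : ∀ x : L ⧸ M, x ∈ Subgroup.zpowers (QuotientGroup.mk' M ⟨z, hzL⟩) := by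
    have hsup : M ⊔ Subgroup.zpowers (⟨z, hzL⟩ : L) = ⊤ :=
      hM.2 _ (left_lt_sup.mpr hMz)
    intro x
    obtain ⟨w, rfl⟩ := QuotientGroup.mk'_surjective M x
    have := Subgroup.mem_map_of_mem (QuotientGroup.mk' M) (hsup.ge (Subgroup.mem_top w))
    rwa [Subgroup.map_sup, QuotientGroup.map_mk'_self, bot_sup_eq, MonoidHom.map_zpowers] at this
  have hcomm : commutator L ≤ M := by
    rw [commutator_def, Subgroup.commutator_le]
    intro a _ b _
    rw [← QuotientGroup.eq_one_iff]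
    show QuotientGroup.mk' M _ = 1
    rw [map_commutatorElement, commutatorElement_eq_one_iff_mul_comm]
    obtain ⟨i, hi⟩ := hcyc (QuotientGroup.mk' M a)
    obtain ⟨j, hj⟩ := hcyc (QuotientGroup.mk' M b)
    rw [← hi, ← hj, ← zpow_add, ← zpow_add, add_comm]
  exact hcomm hd

end Cfsg.Agent.S2817
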