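import Cfsg.Statements.S2818
import Cfsg.Agent.S0013
import Cfsg.Agent.LocalStructure.Series


set_option autoImplicit false
open Cfsg

set_option linter.all false

namespace Cfsg.Agent.S2818

open scoped commutatorElement

/-- Let P be a finite p-subgroup of a group G and H a subgroup of N_G(P) with [P, H] ≤ Ω₁(Z(P)) (the elements of order dividing p in the centre of P). Then H centralizes the Frattini subgroup of P. -/
theorem result {G : Type*} [Group G] [Finite G] {p : ℕ} [Fact p.Prime] (P : Subgroup G) (hP : IsPGroup p ↥P) (H : Subgroup G) (hH : H ≤ Subgroup.normalizer (P : Set G)) (h : ⁅P, H⁆ ≤ Cfsg.omegaOne p (P ⊓ Subgroup.centralizer (P : Set G))) : ⁅(frattini ↥P).map P.subtype, H⁆ = ⊥ := by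
  classical
  set Z : Subgroup G := P ⊓ Subgroup.centralizer (P : Set G) with hZ
  have hZp : ∀ c ∈ Cfsg.omegaOne p Z, c ∈ Z ∧ c ^ p = 1 := by
    intro c hc
    induction hc using Subgroup.closure_induction with
    | mem x hx => exact hx
    | one => exact ⟨Z.one_mem, one_pow _⟩
    | mul a b _ _ ha hb =>
      refine ⟨Z.mul_mem ha.1 hb.1, ?_⟩
      have hab : Commute a b :=
        (Subgroup.mem_centralizer_iff.mp (Subgroup.mem_inf.mp ha.1).2 b (Subgroup.mem_inf.mp hb.1).1).symm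
      rw [hab.mul_pow, ha.2, hb.2, one_mul]
    | inv a _ ha => exact ⟨Z.inv_mem ha.1, by rw [inv_pow, ha.2, inv_one]⟩
  have hconj : ∀ x ∈ P, ∀ t ∈ H, ∃ c, c ∈ P ∧ (∀ q ∈ P, Commute c q) ∧ c ^ p = 1 ∧
      t * x * t⁻¹ = c * x := by
    intro x hx t ht
    obtain ⟨h1, h2⟩ := hZp _ (h (Subgroup.commutator_mem_commutator hx ht))
    obtain ⟨h1P, h1C⟩ := Subgroup.mem_inf.mp h1
    refine ⟨⁅x, t⁆⁻¹, P.inv_mem h1P, fun q hq =>
      (Commute.inv_left (Subgroup.mem_centralizer_iff.mp h1C q hq).symm), ?_, ?_⟩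
    · rw [inv_pow, h2, inv_one]
    · rw [commutatorElement_def]; group
  -- the elements of `P` centralized by `H`
  let F : Subgroup P := (Subgroup.centralizer (H : Set G)).subgroupOf P
  have hpow : ∀ x : P, x ^ p ∈ F := by
    rintro ⟨x, hx⟩
    show x ^ p ∈ Subgroup.centralizer (H : Set G)
    rw [Subgroup.mem_centralizer_iff]
    intro t ht
    obtain ⟨c, hc, hcc, hcp, he⟩ := hconj x hx t ht
    have : t * x ^ p * t⁻¹ = x ^ p := by rw [← conj_pow, he, (hcc x hx).mul_pow, hcp, one_mul]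
    exact mul_inv_eq_iff_eq_mul.mp this
  have hcomm : commutator P ≤ F := by
    rw [commutator_def, Subgroup.commutator_le]
    rintro ⟨x, hx⟩ - ⟨y, hy⟩ -
    show ⁅x, y⁆ ∈ Subgroup.centralizer (H : Set G)
    rw [Subgroup.mem_centralizer_iff]
    intro t ht
    obtain ⟨c, hc, hcc, -, hex⟩ := hconj x hx t ht
    obtain ⟨d, hd, hdd, -, hey⟩ := hconj y hy t ht
    have e : t * ⁅x, y⁆ * t⁻¹ = ⁅t * x * t⁻¹, t * y * t⁻¹⁆ := by
      simp only [commutatorElement_def]; group
    have e2 : ⁅c * x, d * y⁆ = ⁅x, y⁆ := by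
      simp only [commutatorElement_def, mul_inv_rev]
      have c1 : c * x * (d * y) = c * d * (x * y) := by
        rw [mul_assoc, ← mul_assoc x d y, ← (hdd x hx).eq, mul_assoc d x y, ← mul_assoc]
      have c2 : d * y * (c * x) = c * d * (y * x) := by
        rw [mul_assoc, ← mul_assoc y c x, ← (hcc y hy).eq, mul_assoc c y x, ← mul_assoc, (hdd c hc).eq]
      calc c * x * (d * y) * (x⁻¹ * c⁻¹) * (y⁻¹ * d⁻¹)
          = c * x * (d * y) * (d * y * (c * x))⁻¹ := by group
        _ = c * d * (x * y * (y * x)⁻¹) * (c * d)⁻¹ := by rw [c1, c2]; group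
        _ = x * y * (y * x)⁻¹ * (c * d) * (c * d)⁻¹ := by
          rw [((hcc _ ?_).mul_left (hdd _ ?_)).eq]
          all_goals exact P.mul_mem (P.mul_mem hx hy) (P.inv_mem (P.mul_mem hy hx))
        _ = x * y * x⁻¹ * y⁻¹ := by group
    have : t * ⁅x, y⁆ * t⁻¹ = ⁅x, y⁆ := by rw [e, hex, hey, e2]
    exact mul_inv_eq_iff_eq_mul.mp this
  have hFn : F.Normal := ⟨fun f hf g => by
    have := F.mul_mem (hcomm (Subgroup.commutator_mem_commutator (Subgroup.mem_top g) (Subgroup.mem_top f))) hf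
    simpa [commutatorElement_def, mul_assoc] using this⟩
  have hΦ : frattini P ≤ F := S0013.result p hP F hcomm hpow
  rw [Subgroup.commutator_eq_bot_iff_le_centralizer]
  rintro _ ⟨x, hx, rfl⟩
  exact hΦ hx

end Cfsg.Agent.S2818
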