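import Cfsg.Statements.S2819
import Cfsg.Agent.LocalStructure.PResidual
import Cfsg.Agent.LocalStructure.OmegaAction
import Cfsg.Agent.Fusion.Critical
import Cfsg.Agent.Coprime.Tools

set_option autoImplicit false
open Cfsg

set_option linter.all false

namespace Cfsg.Agent.S2819

open scoped commutatorElement

/-- Let P be a finite p-subgroup of a group G, H a subgroup of N_G(P), and Y a subgroup of H centralizing the derived subgroup P' such that [P, Y] is elementary abelian. Then O^p(⟨Y^H⟩), the subgroup of the normal closure of Y in H generated by its elements of order prime to p, centralizes the Frattini subgroup of P. -/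
theorem result {G : Type*} [Group G] [Finite G] {p : ℕ} [Fact p.Prime] (P : Subgroup G) (hP : IsPGroup p ↥P) (H : Subgroup G) (hH : H ≤ Subgroup.normalizer (P : Set G)) (Y : Subgroup G) (hYH : Y ≤ H) (hYc : Y ≤ Subgroup.centralizer ((⁅P, P⁆ : Subgroup G) : Set G)) (hel : Cfsg.IsElementaryAbelian p ⁅P, Y⁆) (NY : Subgroup G) (hNY : NY = (Subgroup.normalClosure ((Y.subgroupOf H : Subgroup ↥H) : Set ↥H)).map H.subtype) : (Cfsg.pResidual p ↥NY).map NY.subtype ≤ Subgroup.centralizer (((frattini ↥P).map P.subtype : Subgroup G) : Set G) := by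
  set P' : Subgroup G := ⁅P, P⁆ with hP'
  set F : Subgroup G := (frattini ↥P).map P.subtype with hF
  have hcomm : (commutator ↥P).map P.subtype = P' := Subgroup.map_subtype_commutator P
  have hP'P : P' ≤ P := Subgroup.commutator_le_self P
  have hPP' : P ≤ Subgroup.normalizer (P' : Set G) := Subgroup.normalizer_commutator_ge_left P P
  have hHP' : H ≤ Subgroup.normalizer (P' : Set G) := by
    intro h hh
    refine Layer.mem_normalizer_of_conj_mem fun x hx => ?_
    suffices P' ≤ P'.comap (MulAut.conj h).toMonoidHom from this hx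
    rw [hP', Subgroup.commutator_le]
    intro a ha b hb
    show h * ⁅a, b⁆ * h⁻¹ ∈ P'
    rw [show h * ⁅a, b⁆ * h⁻¹ = ⁅h * a * h⁻¹, h * b * h⁻¹⁆ by simp only [commutatorElement_def]; group]
    exact Subgroup.commutator_mem_commutator ((Subgroup.mem_normalizer_iff.mp (hH hh) a).mp ha)
      ((Subgroup.mem_normalizer_iff.mp (hH hh) b).mp hb)
  have hHF : H ≤ Subgroup.normalizer (F : Set G) := LocalStructure.le_normalizer_map_characteristic hH _
  -- each element of `Y` moves `Φ(P)` inside `P'`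
  have hstep : ∀ y ∈ Y, ∀ v ∈ F, ⁅y, v⁆ ∈ P' := by
    intro y hy v hv
    obtain ⟨v, hv, rfl⟩ := hv
    have hyP : ∀ x ∈ P, ⁅y, x⁆ ∈ ⁅P, Y⁆ := fun x hx => by
      rw [← commutatorElement_inv x y]
      exact inv_mem (Subgroup.commutator_mem_commutator hx hy)
    let N : Subgroup ↥P :=
      { carrier := {x | ⁅y, (x : G)⁆ ∈ P'}
        mul_mem' := by
          intro a b ha hb
          show ⁅y, ((a : G) * b)⁆ ∈ P'
          rw [show ⁅y, (a : G) * b⁆ = ⁅y, (a : G)⁆ * ((a : G) * ⁅y, (b : G)⁆ * (a : G)⁻¹) by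
            simp only [commutatorElement_def]; group]
          exact P'.mul_mem ha ((Subgroup.mem_normalizer_iff.mp (hPP' a.2) _).mp hb)
        one_mem' := by
          show ⁅y, ((1 : ↥P) : G)⁆ ∈ P'
          rw [OneMemClass.coe_one, commutatorElement_one_right]; exact P'.one_mem
        inv_mem' := by
          intro a ha
          show ⁅y, ((a : G))⁻¹⁆ ∈ P'
          rw [show ⁅y, (a : G)⁻¹⁆ = (a : G)⁻¹ * (⁅y, (a : G)⁆⁻¹) * (a : G)⁻¹⁻¹ by
            simp only [commutatorElement_def]; group]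
          exact (Subgroup.mem_normalizer_iff.mp (hPP' (P.inv_mem a.2)) _).mp (inv_mem ha) }
    refine Fusion.frattini_le_of_elementary (p := p) N ?_ ?_ hv
    · intro x hx
      show ⁅y, (x : G)⁆ ∈ P'
      have hx' : (x : G) ∈ P' := hcomm ▸ ⟨x, hx, rfl⟩
      rw [commutatorElement_eq_one_iff_mul_comm.mpr (Subgroup.mem_centralizer_iff.mp (hYc hy) _ hx').symm]
      exact P'.one_mem
    · intro x
      show ⁅y, ((x ^ p : ↥P) : G)⁆ ∈ P'
      have hcP : ⁅y, (x : G)⁆ ∈ P := by
        have h1 : y * (x : G) * y⁻¹ ∈ P := (Subgroup.mem_normalizer_iff.mp (hH (hYH hy)) _).mp x.2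
        rw [commutatorElement_def]
        exact P.mul_mem h1 (P.inv_mem x.2)
      set c : ↥P := ⟨⁅y, (x : G)⁆, hcP⟩ with hc
      have hcp : c ^ p = 1 := Subtype.ext (by simpa [hc] using hel.2 _ (hyP x x.2))
      have hmem : (c * x) ^ p * (x ^ p)⁻¹ ∈ commutator ↥P := by
        rw [← QuotientGroup.eq_one_iff]
        show Abelianization.of ((c * x) ^ p * (x ^ p)⁻¹) = 1
        rw [map_mul, map_pow, map_mul, mul_pow, ← map_pow, ← map_pow, hcp, map_one, one_mul, map_inv,
          mul_inv_cancel]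
      rw [← hcomm]
      refine ⟨_, hmem, ?_⟩
      show ((((c * x) ^ p * (x ^ p)⁻¹ : ↥P)) : G) = ⁅y, ((x ^ p : ↥P) : G)⁆
      rw [Subgroup.coe_mul, Subgroup.coe_inv, Subgroup.coe_pow, Subgroup.coe_pow, Subgroup.coe_mul,
        show (c : G) * (x : G) = y * x * y⁻¹ by rw [hc]; simp only [commutatorElement_def]; group, conj_pow]
      simp only [commutatorElement_def]
  -- the stabilizer of the chain
  let M : Subgroup ↥H :=
    { carrier := {h | (h : G) ∈ Subgroup.centralizer (P' : Set G) ∧ ∀ v ∈ F, ⁅(h : G), v⁆ ∈ P'}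
      mul_mem' := by
        rintro a b ⟨ha, ha'⟩ ⟨hb, hb'⟩
        refine ⟨mul_mem ha hb, fun v hv => ?_⟩
        show ⁅(a : G) * b, v⁆ ∈ P'
        rw [show ⁅(a : G) * b, v⁆ = (a : G) * ⁅(b : G), v⁆ * (a : G)⁻¹ * ⁅(a : G), v⁆ by
          simp only [commutatorElement_def]; group]
        exact P'.mul_mem ((Subgroup.mem_normalizer_iff.mp (hHP' a.2) _).mp (hb' v hv)) (ha' v hv)
      one_mem' := ⟨one_mem _, fun v _ => by
        rw [OneMemClass.coe_one, commutatorElement_one_left]; exact P'.one_mem⟩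
      inv_mem' := by
        rintro a ⟨ha, ha'⟩
        refine ⟨inv_mem ha, fun v hv => ?_⟩
        show ⁅(a : G)⁻¹, v⁆ ∈ P'
        rw [show ⁅(a : G)⁻¹, v⁆ = (a : G)⁻¹ * (⁅(a : G), v⁆⁻¹) * (a : G)⁻¹⁻¹ by
          simp only [commutatorElement_def]; group]
        exact (Subgroup.mem_normalizer_iff.mp (hHP' (H.inv_mem a.2)) _).mp (inv_mem (ha' v hv)) }
  have hMn : M.Normal := by
    refine ⟨fun m hm h => ⟨?_, fun v hv => ?_⟩⟩
    · rw [Subgroup.mem_centralizer_iff]
      intro z hz
      have hz' : (h : G)⁻¹ * z * h ∈ P' := by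
        simpa using (Subgroup.mem_normalizer_iff.mp (hHP' (H.inv_mem h.2)) z).mp hz
      have h2 := Subgroup.mem_centralizer_iff.mp hm.1 _ hz'
      simp only [Subgroup.coe_mul, Subgroup.coe_inv]
      calc z * ((h : G) * m * (h : G)⁻¹) = (h : G) * ((h : G)⁻¹ * z * h * m) * (h : G)⁻¹ := by group
        _ = (h : G) * (m * ((h : G)⁻¹ * z * h)) * (h : G)⁻¹ := by rw [h2]
        _ = _ := by group
    · have hv' : (h : G)⁻¹ * v * h ∈ F := by
        simpa using (Subgroup.mem_normalizer_iff.mp (hHF (H.inv_mem h.2)) v).mp hv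
      show ⁅(h : G) * m * (h : G)⁻¹, v⁆ ∈ P'
      rw [show ⁅(h : G) * m * (h : G)⁻¹, v⁆ = (h : G) * ⁅(m : G), (h : G)⁻¹ * v * h⁆ * (h : G)⁻¹ by
        simp only [commutatorElement_def]; group]
      exact (Subgroup.mem_normalizer_iff.mp (hHP' h.2) _).mp (hm.2 _ hv')
  have hle : Subgroup.normalClosure ((Y.subgroupOf H : Subgroup ↥H) : Set ↥H) ≤ M :=
    Subgroup.normalClosure_le_normal (N := M) fun y hy => ⟨hYc hy, hstep _ hy⟩
  refine LocalStructure.resOf_le_iff.mpr fun g hg hgc => ?_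
  rw [hNY] at hg
  obtain ⟨h, hh, rfl⟩ := hg
  obtain ⟨h1, h2⟩ := hle hh
  refine LocalStructure.commute_of_double_commutator ((hP.to_subgroup _).map P.subtype) (hHF h.2) hgc
    fun v hv => (Subgroup.mem_centralizer_iff.mp h1 _ (h2 v hv)).symm

end Cfsg.Agent.S2819
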