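import Cfsg.Statements.S2821
import Cfsg.Agent.LocalStructure.YL


set_option autoImplicit false
open Cfsg

set_option linter.all false

namespace Cfsg.Agent.S2821

/-- Let H be a finite group, p a prime, T a Sylow p-subgroup and L a subgroup of characteristic p containing T; let Y_L be the largest p-reduced normal subgroup of L (the join of the normal elementary abelian p-subgroups V of L with O_p(L/C_L(V)) = 1). Then T₀ := C_T(Y_L) is a Sylow p-subgroup of C_H(Y_L); moreover O_p(L) ≤ T₀ ≤ C_L(Y_L) and Ω₁(Z(T)) ≤ Z_L ≤ Y_L ≤ Ω₁(Z(O_p(L))), where Z_L is generated by the Ω₁(Z(S)) over the Sylow p-subgroups S of L. -/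
theorem result {H : Type*} [Group H] [Finite H] {p : ℕ} [Fact p.Prime] (T : Sylow p H) (L : Subgroup H) (hTL : (T : Subgroup H) ≤ L) (hL : Subgroup.centralizer (Cfsg.pCore p ↥L : Set ↥L) ≤ Cfsg.pCore p ↥L) (T₀ : Subgroup H) (hT₀ : T₀ = (T : Subgroup H) ⊓ Subgroup.centralizer (((Cfsg.largestPReducedOf p L) : Subgroup H) : Set H)) : (∃ P : Sylow p ↥(Subgroup.centralizer (((Cfsg.largestPReducedOf p L) : Subgroup H) : Set H)), (P : Subgroup ↥(Subgroup.centralizer (((Cfsg.largestPReducedOf p L) : Subgroup H) : Set H))) = T₀.subgroupOf (Subgroup.centralizer (((Cfsg.largestPReducedOf p L) : Subgroup H) : Set H))) ∧ (Cfsg.pCoreOf p L) ≤ T₀ ∧ T₀ ≤ L ⊓ Subgroup.centralizer (((Cfsg.largestPReducedOf p L) : Subgroup H) : Set H) ∧ (Cfsg.omegaOne p ((T : Subgroup H) ⊓ Subgroup.centralizer (((T : Subgroup H) : Subgroup H) : Set H))) ≤ Cfsg.sylowCenterClosure p L ∧ Cfsg.sylowCenterClosure p L ≤ (Cfsg.largestPReducedOf p L) ∧ (Cfsg.largestPReducedOf p L) ≤ (Cfsg.omegaOne p ((Cfsg.pCoreOf p L)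 ⊓ Subgroup.centralizer (((Cfsg.pCoreOf p L) : Subgroup H) : Set H))) := by
  classical
  have hcp : LocalStructure.CharP p L := LocalStructure.charP_iff.mpr hL
  set Y : Subgroup H := Cfsg.largestPReducedOf p L with hY
  have hred := LocalStructure.reducedIn_largest (p := p) L
  set C : Subgroup H := Subgroup.centralizer (Y : Set H) with hC
  have hTC : (T : Subgroup H) ≤ Subgroup.normalizer (C : Set H) :=
    Coprime.le_normalizer_centralizer (hTL.trans hred.le_normalizer)
  have hidx : ¬ p ∣ (T₀.subgroupOf C).index := by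
    rw [hT₀]
    exact LocalStructure.not_dvd_relIndex_inf T hTC
  have hp0 : IsPGroup p (T₀.subgroupOf C) := by
    rw [hT₀]
    exact (T.isPGroup'.to_le inf_le_left).comap_of_injective C.subtype C.subtype_injective
  have hidxL : ¬ p ∣ (T : Subgroup H).relIndex L := LocalStructure.sylow_not_dvd_relIndex T hTL
  refine ⟨⟨hp0.toSylow hidx, rfl⟩, ?_, ?_, ?_, LocalStructure.sylowCenterClosure_le_largest hcp,
    LocalStructure.largestOf_le_omegaZ_pCoreOf L⟩
  · rw [hT₀]
    exact le_inf (LocalStructure.pCoreOf_le_sylow hTL T.isPGroup' hidxL)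
      (LocalStructure.pCoreOf_le_centralizer hred)
  · rw [hT₀]
    exact inf_le_inf_right _ hTL
  · exact LocalStructure.omegaZ_le_sylowCenterClosure hTL T.isPGroup' hidxL

end Cfsg.Agent.S2821
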