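import Cfsg.Statements.S2823
import Cfsg.Agent.LocalStructure.OmegaSubnormal
import Cfsg.Agent.LocalStructure.ThreeSubgroup


set_option autoImplicit false
open Cfsg

set_option linter.all false

namespace Cfsg.Agent.S2823

open scoped commutatorElement IsMulCommutative

/-- Let H be a finite group, p a prime, T a Sylow p-subgroup and L a subgroup of characteristic p containing T; let Z_L be the subgroup generated by the Ω₁(Z(S)) over the Sylow p-subgroups S of L and O^p(L) the subgroup generated by the elements of L of order prime to p. Then Z_L = Ω₁(Z(L))·[Z_L, O^p(L)] and [Z_L, L] = [Z_L, O^p(L)]. -/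
theorem result {H : Type*} [Group H] [Finite H] {p : ℕ} [Fact p.Prime] (T : Sylow p H) (L : Subgroup H) (hTL : (T : Subgroup H) ≤ L) (hL : Subgroup.centralizer (Cfsg.pCore p ↥L : Set ↥L) ≤ Cfsg.pCore p ↥L) : Cfsg.sylowCenterClosure p L = (Cfsg.omegaOne p (L ⊓ Subgroup.centralizer ((L : Subgroup H) : Set H))) ⊔ ⁅Cfsg.sylowCenterClosure p L, (Cfsg.pResidual p ↥L).map L.subtype⁆ ∧ ⁅Cfsg.sylowCenterClosure p L, L⁆ = ⁅Cfsg.sylowCenterClosure p L, (Cfsg.pResidual p ↥L).map L.subtype⁆ := by
  classical
  have hcp : LocalStructure.CharP p L := LocalStructure.charP_iff.mpr hL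
  set ZL : Subgroup H := Cfsg.sylowCenterClosure p L with hZL
  set R : Subgroup H := LocalStructure.resOf p L with hR
  set D : Subgroup H := ⁅ZL, R⁆ with hD
  set Om : Subgroup H := Cfsg.omegaOne p (L ⊓ Subgroup.centralizer (L : Set H)) with hOm
  set Z : Subgroup H := LocalStructure.omegaZ p (T : Subgroup H) with hZ
  have hn : ¬ p ∣ (T : Subgroup H).relIndex L := LocalStructure.sylow_not_dvd_relIndex T hTL
  have hred := LocalStructure.sylowCenterClosure_reducedIn hcp
  haveI : IsMulCommutative ZL := hred.ea.1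
  have hLR : L ≤ Subgroup.normalizer (R : Set H) := LocalStructure.le_normalizer_resOf p Subgroup.le_normalizer
  have hLD : L ≤ Subgroup.normalizer (D : Set H) :=
    LocalStructure.le_normalizer_commutator_of_le hred.le_normalizer hLR
  have hcover : L ≤ R ⊔ (T : Subgroup H) := LocalStructure.le_resOf_sup hTL T.isPGroup' hn
  have hRL : R ≤ L := LocalStructure.resOf_le p L
  have hZZL : Z ≤ ZL := LocalStructure.omegaZ_le_sylowCenterClosure hTL T.isPGroup' hn
  -- a subgroup normalized by `L` containing `Z` contains `Z_L`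
  have hgen : ∀ X : Subgroup H, L ≤ Subgroup.normalizer (X : Set H) → Z ≤ X → ZL ≤ X := by
    intro X hX hZX
    refine iSup_le fun S => ?_
    obtain ⟨h1, h2, h3⟩ := LocalStructure.sylow_map_facts S
    obtain ⟨l, hl, hle⟩ := Fusion.exists_conjSub_le_of_not_dvd_relIndex hTL T.isPGroup' hn h1 h2
    have he : (S : Subgroup L).map L.subtype ≤ (T : Subgroup H).map (MulAut.conj l).toMonoidHom := by
      intro s hs
      refine ⟨l⁻¹ * s * l, hle ?_, by simp [mul_assoc]⟩
      rw [Fusion.mem_conjSub]
      simpa [mul_assoc] using hs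
    intro x hx
    obtain ⟨hx1, hx2, hx3⟩ := LocalStructure.mem_omegaZ_iff.mp hx
    have heq : (S : Subgroup L).map L.subtype = (T : Subgroup H).map (MulAut.conj l).toMonoidHom := by
      refine Subgroup.eq_of_le_of_card_ge he (le_of_eq ?_)
      rw [Subgroup.card_map_of_injective (MulAut.conj l).injective,
        Subgroup.card_map_of_injective L.subtype_injective, Sylow.card_eq_multiplicity S]
      have e1 := Sylow.card_eq_multiplicity (T.subtype hTL)
      rw [← e1]
      exact (Nat.card_congr (Subgroup.subgroupOfEquivOfLe hTL).toEquiv).symm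
    rw [heq] at hx1 hx2
    obtain ⟨t, ht, rfl⟩ := hx1
    have htZ : t ∈ Z := by
      refine LocalStructure.mem_omegaZ_iff.mpr ⟨ht, Subgroup.mem_centralizer_iff.mpr fun s hs => ?_, ?_⟩
      · exact (MulAut.conj l).injective (by
          rw [map_mul, map_mul]
          exact Subgroup.mem_centralizer_iff.mp hx2 _ ⟨s, hs, rfl⟩)
      · exact (MulAut.conj l).injective (by rw [map_pow, map_one]; exact hx3)
    exact (Subgroup.mem_normalizer_iff.mp (hX hl) t).mp (hZX htZ)
  -- `[Z_L, L] ≤ [Z_L, O^p(L)]`
  have hZD : L ≤ Subgroup.normalizer ((Z ⊔ D : Subgroup H) : Set H) := by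
    refine hcover.trans (sup_le ?_ (Coprime.le_normalizer_sup (LocalStructure.le_normalizer_omegaZ Subgroup.le_normalizer) (hTL.trans hLD)))
    intro r hr
    refine Layer.mem_normalizer_of_conj_mem fun x hx => ?_
    suffices h : Z ⊔ D ≤ (Z ⊔ D).comap (MulAut.conj r).toMonoidHom from h hx
    refine sup_le (fun z hz => ?_) (fun d hd => Subgroup.mem_sup_right ((Subgroup.mem_normalizer_iff.mp (hLD (hRL hr)) d).mp hd))
    show r * z * r⁻¹ ∈ Z ⊔ D
    rw [show r * z * r⁻¹ = ⁅z, r⁆⁻¹ * z by rw [commutatorElement_def]; group]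
    exact Subgroup.mul_mem _ (Subgroup.mem_sup_right (D.inv_mem (Subgroup.commutator_mem_commutator (hZZL hz) hr)))
      (Subgroup.mem_sup_left hz)
  have hT : ⁅ZL, (T : Subgroup H)⁆ ≤ D := by
    refine (Subgroup.commutator_mono (hgen _ hZD le_sup_left) le_rfl).trans ?_
    refine LocalStructure.commutator_sup_le ((hZZL.trans (LocalStructure.sylowCenterClosure_le p L)).trans hLD)
      Subgroup.le_normalizer (hTL.trans hLD) ?_ (Subgroup.le_normalizer_iff_commutator_le_left.mp (hTL.trans hLD))
    rw [Subgroup.commutator_eq_bot_iff_le_centralizer.mpr (LocalStructure.omegaZ_le_centralizer _)]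
    exact bot_le
  have hcomm : ⁅ZL, L⁆ = D := by
    refine le_antisymm ?_ (Subgroup.commutator_mono le_rfl hRL)
    refine (Subgroup.commutator_mono le_rfl hcover).trans ?_
    rw [Subgroup.commutator_comm]
    refine LocalStructure.commutator_sup_le (hRL.trans hLD) (hTL.trans hLD)
      ((LocalStructure.sylowCenterClosure_le p L).trans hLD) ?_ ?_
    · rw [Subgroup.commutator_comm]
    · rw [Subgroup.commutator_comm]; exact hT
  have hDZ : D ≤ ZL := Subgroup.le_normalizer_iff_commutator_le_left.mp (hRL.trans hred.le_normalizer)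
  have hOmT : Om ≤ Z := by
    intro x hx
    obtain ⟨hxL, hxC⟩ := Subgroup.mem_inf.mp (Thompson.omegaOne_le _ _ hx)
    have hxp : x ^ p = 1 := (Thompson.omegaOne_centre_ea p L).2 x hx
    have h1 : Subgroup.zpowers x ≤ Cfsg.pCoreOf p L := by
      refine LocalStructure.le_pCoreOf_of_normal (Subgroup.zpowers_le.mpr hxL) ?_
        (Thompson.ea_isPGroup (Thompson.ea_zpowers hxp))
      refine le_trans ?_ (Subgroup.centralizer_le_normalizer _)
      rw [Subgroup.le_centralizer_iff]
      exact Subgroup.zpowers_le.mpr hxC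
    exact LocalStructure.mem_omegaZ_iff.mpr ⟨LocalStructure.pCoreOf_le_sylow hTL T.isPGroup' hn
      (h1 (Subgroup.mem_zpowers x)), Subgroup.centralizer_le (SetLike.coe_subset_coe.mpr hTL) hxC, hxp⟩
  refine ⟨le_antisymm ?_ (sup_le (hOmT.trans hZZL) hDZ), hcomm⟩
  refine hgen _ (Coprime.le_normalizer_sup ?_ hLD) ?_
  · refine le_trans ?_ (Subgroup.centralizer_le_normalizer _)
    rw [Subgroup.le_centralizer_iff]
    exact (Thompson.omegaOne_le _ _).trans inf_le_right
  intro v hv
  set w : ZL := ⟨v, hZZL hv⟩ with hw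
  have hfix : (w : H) ∈ Subgroup.centralizer ((T : Subgroup H) : Set H) :=
    LocalStructure.omegaZ_le_centralizer _ hv
  have hd := LocalStructure.avg_congr hred.le_normalizer D hfix (fun k => ⟨k, by simp, by
    show v * ((k : H) * v * (k : H)⁻¹)⁻¹ ∈ D
    rw [show v * ((k : H) * v * (k : H)⁻¹)⁻¹ = v * (k : H) * v⁻¹ * (k : H)⁻¹ by group,
      ← commutatorElement_def, ← hcomm]
    exact Subgroup.commutator_mem_commutator (hZZL hv) k.2⟩)
  have hm := LocalStructure.avg_mem_centralizer hred.le_normalizer hfix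
  set m := LocalStructure.avg ZL L (T : Subgroup H) hred.le_normalizer w with hmdef
  refine LocalStructure.mem_of_pow_relIndex_mem hn (hred.ea.2 _ (hZZL hv)) ?_
  have he : v ^ (T : Subgroup H).relIndex L =
      ((w ^ (T : Subgroup H).relIndex L / m : ZL) : H) * (m : H) := by
    rw [div_eq_mul_inv]
    simp [hw]
  rw [he]
  exact Subgroup.mul_mem _ (Subgroup.mem_sup_right hd) (Subgroup.mem_sup_left
    (Thompson.mem_omegaOne ⟨LocalStructure.sylowCenterClosure_le p L m.2, hm⟩ (hred.ea.2 _ m.2)))

end Cfsg.Agent.S2823
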