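import Cfsg.Statements.S2825
import Cfsg.Agent.LocalStructure.ReducedSubnormal

set_option autoImplicit false
open Cfsg

set_option linter.all false

namespace Cfsg.Agent.S2825

/-- Let L be a subnormal subgroup of the finite group H, p a prime, Y_H and Y_L the largest p-reduced normal subgroups. Then Y_H ∩ L = Y_H ∩ Y_L and this subgroup is a p-reduced normal subgroup of L; C_L(Y_L) = C_L(Y_H) = C_L(Y_H ∩ L); and if O^p(H) ≤ L, then [Y_L, L] = 1 if and only if [Y_H, H] = 1. -/
theorem result {H : Type*} [Group H] [Finite H] {p : ℕ} [Fact p.Prime] (L : Subgroup H) (hL : L.IsSubnormal) : Cfsg.largestPReduced p H ⊓ L = Cfsg.largestPReduced p H ⊓ (Cfsg.largestPReducedOf p L) ∧ Cfsg.IsPReducedNormal p ((Cfsg.largestPReduced p H ⊓ L).subgroupOf L) ∧ L ⊓ Subgroup.centralizer ((Cfsg.largestPReducedOf p L : Subgroup H) : Set H) = L ⊓ Subgroup.centralizer (Cfsg.largestPReduced p H : Set H) ∧ L ⊓ Subgroup.centralizer (Cfsg.largestPReduced p H : Set H) = L ⊓ Subgroup.centralizer ((Cfsg.largestPReduced p H ⊓ L :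 Subgroup H) : Set H) ∧ (Cfsg.pResidual p H ≤ L → (⁅(Cfsg.largestPReducedOf p L), L⁆ = ⊥ ↔ ⁅Cfsg.largestPReduced p H, (⊤ : Subgroup H)⁆ = ⊥)) := by
  set Y := Cfsg.largestPReduced p H with hY
  set YL := Cfsg.largestPReducedOf p L with hYL
  obtain ⟨hred, hC⟩ := LocalStructure.reducedIn_inf_of_subnormal (p := p) hL
  have h1 : Y ⊓ L ≤ YL := LocalStructure.le_largestOf hred
  have e1 : L ⊓ Subgroup.centralizer (YL : Set H) = L ⊓ Subgroup.centralizer (Y : Set H) :=
    le_antisymm (le_inf inf_le_left
      ((inf_le_inf_left _ (Subgroup.centralizer_le (SetLike.coe_subset_coe.mpr h1))).trans hC))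
      (le_inf inf_le_left (LocalStructure.centralizer_largest_le hL))
  refine ⟨le_antisymm (le_inf inf_le_left h1) (inf_le_inf_left _ (LocalStructure.largestOf_le p L)),
    (LocalStructure.reducedIn_iff inf_le_right).mp hred, e1,
    le_antisymm (inf_le_inf_left _ (Subgroup.centralizer_le (SetLike.coe_subset_coe.mpr inf_le_left)))
      (le_inf inf_le_left hC), fun hR => ?_⟩
  rw [Subgroup.commutator_eq_bot_iff_le_centralizer, Subgroup.commutator_eq_bot_iff_le_centralizer,
    Subgroup.le_centralizer_iff, Subgroup.le_centralizer_iff (H := Y)]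
  constructor
  · intro h
    have hLY : L ≤ Subgroup.centralizer (Y : Set H) := (e1.le.trans inf_le_right).trans' (le_inf le_rfl h)
    exact (LocalStructure.isPReducedNormal_iff.mp (LocalStructure.pReduced_largest (p := p) (G := H))).2.2 ⊤
      inferInstance fun g _ hgc => hLY (hR (Fusion.mem_pResidual_of_coprime hgc))
  · intro h
    exact (e1.ge.trans inf_le_right).trans' (le_inf le_rfl (le_top.trans h))

end Cfsg.Agent.S2825
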