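import Cfsg.Statements.S2826
import Cfsg.Agent.LocalStructure.OmegaSubnormal


set_option autoImplicit false
open Cfsg

set_option linter.all false

namespace Cfsg.Agent.S2826

open scoped commutatorElement IsMulCommutative

/-- Let H be a finite group of characteristic p, T a Sylow p-subgroup, and V a normal elementary abelian p-subgroup of H containing Ω₁(Z(T)). Then C_H(Ω₁(Z(T))) = C_H([V, O^p(H)] ∩ Ω₁(Z(T))), O^p(H) being generated by the elements of order prime to p. -/
theorem result {H : Type*} [Group H] [Finite H] {p : ℕ} [Fact p.Prime] (hH : Subgroup.centralizer (Cfsg.pCore p H : Set H) ≤ Cfsg.pCore p H) (T : Sylow p H) (V : Subgroup H) [V.Normal] (hV : Cfsg.IsElementaryAbelian p V) (hZV : (Cfsg.omegaOne p ((T : Subgroup H) ⊓ Subgroup.centralizer (((T : Subgroup H) : Subgroup H) : Set H))) ≤ V) : Subgroup.centralizer ((Cfsg.omegaOne p ((T : Subgroup H) ⊓ Subgroup.centralizer (((T : Subgroup H) : Subgroup H) : Set H))) : Set H) = Subgroup.centralizer (((⁅V, Cfsg.pResidual p H⁆ ⊓ (Cfsg.omegaOne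 p ((T : Subgroup H) ⊓ Subgroup.centralizer (((T : Subgroup H) : Subgroup H) : Set H)))) : Subgroup H) : Set H) := by
  refine le_antisymm (Subgroup.centralizer_le (SetLike.coe_subset_coe.mpr inf_le_right)) ?_
  set R : Subgroup H := Cfsg.pResidual p H with hR
  set D : Subgroup H := ⁅V, R⁆ with hD
  set Z : Subgroup H := LocalStructure.omegaZ p (T : Subgroup H) with hZ
  haveI : IsMulCommutative V := hV.1
  have hVT : V ≤ (T : Subgroup H) :=
    (Core.le_pCore (N := V) (Thompson.ea_isPGroup hV)).trans (Core.pCore_le_sylow T)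
  have hKW : (⊤ : Subgroup H) ≤ Subgroup.normalizer (V : Set H) := (Subgroup.normalizer_eq_top (H := V)).ge
  have hn : ¬ p ∣ (T : Subgroup H).relIndex ⊤ := by
    rw [Subgroup.relIndex_top_right]; exact T.not_dvd_index
  have hRn : R.Normal := by
    haveI := Fusion.pResidual_characteristic (G := H) (p := p)
    infer_instance
  intro x hx
  rw [Subgroup.mem_centralizer_iff]
  intro v hv
  suffices h : v ∈ Subgroup.centralizer ({x} : Set H) from (Subgroup.mem_centralizer_iff.mp h x rfl).symm
  set w : V := ⟨v, hZV hv⟩ with hw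
  have hfix : (w : H) ∈ Subgroup.centralizer ((T : Subgroup H) : Set H) :=
    LocalStructure.omegaZ_le_centralizer _ hv
  have hd := LocalStructure.avg_congr hKW D hfix (fun k => by
    have hk : (k : H) ∈ R ⊔ (T : Subgroup H) := by
      rw [sup_comm, Fusion.sylow_sup_pResidual T]; exact Subgroup.mem_top _
    obtain ⟨r, hr, t, ht, e⟩ := Subgroup.mem_sup_of_normal_left.mp hk
    refine ⟨⟨r, Subgroup.mem_top r⟩, ?_, ?_⟩
    · show (k : H)⁻¹ * r ∈ (T : Subgroup H)
      rw [← e, mul_inv_rev, inv_mul_cancel_right]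
      exact Subgroup.inv_mem _ ht
    · show v * (r * v * r⁻¹)⁻¹ ∈ D
      rw [show v * (r * v * r⁻¹)⁻¹ = v * r * v⁻¹ * r⁻¹ by group, ← commutatorElement_def]
      exact Subgroup.commutator_mem_commutator (hZV hv) hr)
  have hm := LocalStructure.avg_mem_centralizer hKW hfix
  set m := LocalStructure.avg V ⊤ (T : Subgroup H) hKW w with hmdef
  set d : V := w ^ (T : Subgroup H).relIndex ⊤ / m with hddef
  have hdZ : (d : H) ∈ Z := by
    refine LocalStructure.mem_omegaZ_iff.mpr ⟨hVT d.2, ?_, hV.2 _ d.2⟩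
    rw [hddef, div_eq_mul_inv]
    simp only [Subgroup.coe_mul, Subgroup.coe_inv, SubmonoidClass.coe_pow]
    exact mul_mem (pow_mem hfix _)
      (inv_mem (Subgroup.centralizer_le (SetLike.coe_subset_coe.mpr le_top) hm))
  have hdx : (d : H) ∈ Subgroup.centralizer ({x} : Set H) := by
    rw [Subgroup.mem_centralizer_iff]
    rintro _ rfl
    exact (Subgroup.mem_centralizer_iff.mp hx _ ⟨hd, hdZ⟩).symm
  refine LocalStructure.mem_of_pow_relIndex_mem hn (hV.2 _ (hZV hv)) ?_
  have he : v ^ (T : Subgroup H).relIndex ⊤ = (d : H) * (m : H) := by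
    rw [hddef, div_eq_mul_inv]
    simp [hw]
  rw [he]
  exact mul_mem hdx (Subgroup.centralizer_le (by simp) hm)

end Cfsg.Agent.S2826
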