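import Cfsg.Statements.S2827
import Cfsg.Agent.LocalStructure.PIrreducible
import Cfsg.Agent.Coprime.Basic
import Cfsg.Agent.LocalStructure.ThreeSubgroup
import Cfsg.Agent.Coprime.Tools

set_option autoImplicit false
open Cfsg

set_option linter.all false

namespace Cfsg.Agent.S2827

open scoped commutatorElement

/-- Let H be a finite p-irreducible group (not p-closed, and O^p(H) lies in every normal subgroup that is not p-closed) and T a Sylow p-subgroup. Then H is generated by the conjugates of T and H = H'·T; O^p(H) ≤ H'; and for every normal subgroup Y of T not contained in O_p(H), O^p(H) = [O^p(H), Y] and O^p(H) is contained in the normal closure of Y in H. -/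
theorem result {H : Type*} [Group H] [Finite H] {p : ℕ} [Fact p.Prime] (hH : Cfsg.IsPIrreducible p H) (T : Sylow p H) : Subgroup.normalClosure ((T : Subgroup H) : Set H) = ⊤ ∧ commutator H ⊔ (T : Subgroup H) = ⊤ ∧ Cfsg.pResidual p H ≤ commutator H ∧ ∀ Y : Subgroup H, Y ≤ (T : Subgroup H) → (T : Subgroup H) ≤ Subgroup.normalizer (Y : Set H) → ¬ Y ≤ Cfsg.pCore p H → ⁅Cfsg.pResidual p H, Y⁆ = Cfsg.pResidual p H ∧ Cfsg.pResidual p H ≤ Subgroup.normalClosure (Y : Set H) := by
  set R : Subgroup H := Cfsg.pResidual p H with hR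
  have hTR : (T : Subgroup H) ⊔ R = ⊤ := Fusion.sylow_sup_pResidual T
  have hnT : ¬ (T : Subgroup H) ≤ Cfsg.pCore p H := fun h => hH.1 fun P => by
    have hT : (T : Subgroup H) = Cfsg.pCore p H := le_antisymm h (Core.pCore_le_sylow T)
    have hn : (T : Subgroup H).Normal := hT ▸ inferInstance
    have := T.unique_of_normal hn
    rw [Subsingleton.elim P T]; exact hn
  have key : ∀ Y : Subgroup H, IsPGroup p Y → ¬ Y ≤ Cfsg.pCore p H →
      R ≤ Subgroup.normalClosure (Y : Set H) := by
    intro Y hYp hY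
    refine hH.2 _ inferInstance fun hc => hY fun y hy => ?_
    obtain ⟨k, hk⟩ := IsPGroup.iff_orderOf.mp hYp ⟨y, hy⟩
    rw [Subgroup.orderOf_mk] at hk
    exact LocalStructure.isPClosed_normal_iff.mp hc y (Subgroup.subset_normalClosure hy) ⟨k, hk⟩
  have hncl : Subgroup.normalClosure ((T : Subgroup H) : Set H) = ⊤ :=
    top_le_iff.mp (hTR.ge.trans (sup_le Subgroup.subset_normalClosure (key _ T.2 hnT)))
  have hcT : commutator H ⊔ (T : Subgroup H) = ⊤ := by
    have hn : (commutator H ⊔ (T : Subgroup H)).Normal := Subgroup.Normal.of_commutator_le _ le_sup_left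
    exact top_le_iff.mp (hncl ▸ Subgroup.normalClosure_le_normal (N := commutator H ⊔ (T : Subgroup H)) (fun x hx => Subgroup.mem_sup_right hx))
  refine ⟨hncl, hcT, LocalStructure.pResidual_le_of_sup_eq_top T.2 hcT, fun Y hYT hTY hY => ?_⟩
  have hRY := key Y (T.2.to_le hYT) hY
  refine ⟨le_antisymm (Subgroup.commutator_le_left R Y) ?_, hRY⟩
  have hn : ⁅R, Y⁆.Normal := by
    rw [← Subgroup.normalizer_eq_top_iff, eq_top_iff, ← hTR]
    exact sup_le (LocalStructure.le_normalizer_commutator_of_le Subgroup.le_normalizer_of_normal hTY)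
      (le_sup_left.trans Coprime.le_normalizer_commutator)
  have hn2 : (⁅R, Y⁆ ⊔ Y).Normal := by
    rw [← Subgroup.normalizer_eq_top_iff, eq_top_iff, ← hTR]
    refine sup_le (Coprime.le_normalizer_sup Subgroup.le_normalizer_of_normal hTY) fun r hr => ?_
    refine Layer.mem_normalizer_of_conj_mem fun x hx => ?_
    suffices ⁅R, Y⁆ ⊔ Y ≤ (⁅R, Y⁆ ⊔ Y).comap (MulAut.conj r).toMonoidHom from this hx
    refine sup_le (fun z hz => Subgroup.mem_comap.mpr (Subgroup.mem_sup_left (hn.conj_mem z hz r)))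
      fun y hy => ?_
    show r * y * r⁻¹ ∈ ⁅R, Y⁆ ⊔ Y
    rw [show r * y * r⁻¹ = ⁅r, y⁆ * y by simp only [commutatorElement_def]; group]
    exact mul_mem (Subgroup.mem_sup_left (Subgroup.commutator_mem_commutator hr hy)) (Subgroup.mem_sup_right hy)
  exact LocalStructure.pResidual_le_of_le_sup (T.2.to_le hYT)
    (hRY.trans (Subgroup.normalClosure_le_normal (N := ⁅R, Y⁆ ⊔ Y) (fun x hx => Subgroup.mem_sup_right hx)))

end Cfsg.Agent.S2827
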