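import Cfsg.Statements.S2828
import Cfsg.Agent.LocalStructure.PIrreducible

set_option autoImplicit false
open Cfsg

set_option linter.all false

namespace Cfsg.Agent.S2828

/-- Let H be a finite group, p a prime and D a normal p-subgroup of H. Then H is p-irreducible if and only if H/D is p-irreducible, and H is strongly p-irreducible if and only if H/D is strongly p-irreducible. -/
theorem result {H : Type*} [Group H] [Finite H] {p : ℕ} [Fact p.Prime] (D : Subgroup H) [D.Normal] (hD : IsPGroup p ↥D) : (Cfsg.IsPIrreducible p H ↔ Cfsg.IsPIrreducible p (H ⧸ D)) ∧ (Cfsg.IsStronglyPIrreducible p H ↔ Cfsg.IsStronglyPIrreducible p (H ⧸ D)) := by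
  set f := QuotientGroup.mk' D with hf
  have hsurj : Function.Surjective f := QuotientGroup.mk'_surjective D
  have hker : IsPGroup p f.ker := by rw [hf, QuotientGroup.ker_mk']; exact hD
  have hcore : (Cfsg.pCore p (H ⧸ D)).comap f = Cfsg.pCore p H := by
    refine le_antisymm (Core.le_pCore (hN := Subgroup.Normal.comap inferInstance f)
      (Core.pCore_isPGroup.comap_of_ker_isPGroup f hker)) ?_
    rw [← Subgroup.map_le_iff_le_comap]
    exact Core.map_pCore_le_of_surjective hsurj
  have hDle : D ≤ Cfsg.pCore p H := Core.le_pCore hD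
  -- `p`-closedness of preimages
  have hcl : ∀ (M : Subgroup (H ⧸ D)), M.Normal →
      (Cfsg.IsPClosed p M ↔ Cfsg.IsPClosed p (M.comap f)) := by
    intro M hM
    rw [LocalStructure.isPClosed_normal_iff, LocalStructure.isPClosed_normal_iff]
    constructor
    · intro h x hx ⟨k, hk⟩
      rw [← hcore]
      obtain ⟨j, -, hj⟩ := (Nat.dvd_prime_pow (Fact.out : p.Prime)).mp (hk ▸ orderOf_map_dvd f x)
      exact h (f x) hx ⟨j, hj⟩
    · intro h y hy ⟨k, hk⟩
      obtain ⟨x, rfl⟩ := hsurj y
      obtain ⟨a, haz, ha, hfa⟩ := LocalStructure.exists_pElement_preimage f hk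
      have := h a (Subgroup.mem_comap.mpr (hfa ▸ hy)) ha
      rw [← hcore, Subgroup.mem_comap, hfa] at this
      exact this
  have htop : ∀ {K : Type _} [Group K] [Finite K], Cfsg.IsPClosed p K ↔ Cfsg.IsPClosed p (⊤ : Subgroup K) := by
    intro K _ _
    rw [LocalStructure.isPClosed_iff, LocalStructure.isPClosed_normal_iff]
    exact ⟨fun h x _ => h x, fun h x => h x trivial⟩
  have hall : Cfsg.IsPClosed p H ↔ Cfsg.IsPClosed p (H ⧸ D) := by
    rw [htop (K := H), htop (K := H ⧸ D), hcl ⊤ inferInstance, Subgroup.comap_top]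
  have hres : (Cfsg.pResidual p H).map f = Cfsg.pResidual p (H ⧸ D) :=
    Fusion.map_pResidual_of_surjective f hsurj
  have hsupD : ∀ N : Subgroup H, (N.map f).comap f = N ⊔ D := fun N => by
    rw [Subgroup.comap_map_eq, hf, QuotientGroup.ker_mk']
  constructor
  · constructor
    · rintro ⟨h1, h2⟩
      refine ⟨fun h => h1 (hall.mpr h), fun M hM hnc => ?_⟩
      have := h2 (M.comap f) (Subgroup.Normal.comap hM f) fun h => hnc ((hcl M hM).mpr h)
      rw [← hres]
      exact Subgroup.map_le_iff_le_comap.mpr this
    · rintro ⟨h1, h2⟩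
      refine ⟨fun h => h1 (hall.mp h), fun N hN hnc => ?_⟩
      have := hN
      have hM : (N.map f).Normal := Subgroup.Normal.map hN f hsurj
      have hle := h2 _ hM fun h => hnc (LocalStructure.isPClosed_normal_iff.mpr fun x hx hk =>
        LocalStructure.isPClosed_normal_iff.mp ((hcl _ hM).mp h) x
          (Subgroup.le_comap_map f N hx) hk)
      rw [← hres, Subgroup.map_le_iff_le_comap, hsupD] at hle
      exact LocalStructure.pResidual_le_of_le_sup hD hle
  · constructor
    · rintro ⟨h1, h2⟩
      refine ⟨fun h => h1 (hall.mpr h), fun M hM hnc => ?_⟩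
      have := h2 (M.comap f) (Subgroup.Normal.comap hM f) fun h => hnc ?_
      · rw [← hres]; exact Subgroup.map_le_iff_le_comap.mpr this
      rw [← hcore, ← Subgroup.map_le_iff_le_comap, Subgroup.map_commutator,
        Subgroup.map_comap_eq_self_of_surjective hsurj, Subgroup.map_top_of_surjective f hsurj] at h
      exact h
    · rintro ⟨h1, h2⟩
      refine ⟨fun h => h1 (hall.mp h), fun N hN hnc => ?_⟩
      have := hN
      have hle := h2 _ (Subgroup.Normal.map hN f hsurj) fun h => hnc ?_
      · rw [← hres, Subgroup.map_le_iff_le_comap, hsupD] at hle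
        exact LocalStructure.pResidual_le_of_le_sup hD hle
      rw [← hcore, ← Subgroup.map_le_iff_le_comap, Subgroup.map_commutator,
        Subgroup.map_top_of_surjective f hsurj]
      exact h

end Cfsg.Agent.S2828
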