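import Cfsg.Statements.S2829
import Cfsg.Agent.LocalStructure.PIrreducible

set_option autoImplicit false
open Cfsg

set_option linter.all false

namespace Cfsg.Agent.S2829

/-- Every strongly p-irreducible finite group is p-irreducible. -/
theorem result {H : Type*} [Group H] [Finite H] {p : ℕ} [Fact p.Prime] (hH : Cfsg.IsStronglyPIrreducible p H) : Cfsg.IsPIrreducible p H := by
  refine ⟨hH.1, fun N hN hnc => hH.2 N hN fun h => hnc ?_⟩
  have := hN
  exact LocalStructure.isPClosed_of_commutator_le h

end Cfsg.Agent.S2829
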