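import Cfsg.Statements.S2830
import Cfsg.Agent.LocalStructure.PIrreducible

set_option autoImplicit false
open Cfsg

set_option linter.all false

namespace Cfsg.Agent.S2830

/-- Let H act by conjugation on the elementary abelian p-subgroup V of a finite group G (H ≤ N(V)), with H p-irreducible and O^p(H) not centralizing V. Then C_H(V) is p-closed and C_T(V) ≤ O_p(H) for every p-subgroup T of H. If in addition O_p(H) centralizes V, then C_T(V) = T ∩ O_p(H) for every p-subgroup T of H, and V is p-reduced for H: O_p(H/C_H(V)) = 1. -/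
theorem result {G : Type*} [Group G] [Finite G] {p : ℕ} [Fact p.Prime] (V H : Subgroup G) (hV : Cfsg.IsElementaryAbelian p V) (hHV : H ≤ Subgroup.normalizer (V : Set G)) (hH : Cfsg.IsPIrreducible p ↥H) (hnc : ¬ (Cfsg.pResidual p ↥H).map H.subtype ≤ Subgroup.centralizer (V : Set G)) [hn : ((Subgroup.centralizer (V : Set G)).subgroupOf H).Normal] : Cfsg.IsPClosed p ↥(H ⊓ Subgroup.centralizer (V : Set G)) ∧ (∀ T : Subgroup G, T ≤ H → IsPGroup p ↥T → T ⊓ Subgroup.centralizer (V : Set G) ≤ Cfsg.pCoreOf p H) ∧ (Cfsg.pCoreOf p H ≤ Subgroup.centralizer (V : Set G) → (∀ T : Subgroup G, T ≤ H → IsPGroup p ↥T → T ⊓ Subgroup.centralizer (V : Set G) = T ⊓ Cfsg.pCoreOf p H) ∧ Cfsg.pCore p (↥H ⧸ (Subgroup.centralizer (V : Set G)).subgroupOf H) = ⊥) := by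
  set C : Subgroup G := Subgroup.centralizer (V : Set G) with hC
  set N : Subgroup ↥H := C.subgroupOf H with hN
  have hnle : ¬ Cfsg.pResidual p ↥H ≤ N := fun h => hnc fun x hx => by
    obtain ⟨y, hy, rfl⟩ := hx; exact h hy
  have hcl : Cfsg.IsPClosed p N := by
    by_contra h; exact hnle (hH.2 N hn h)
  have hpc : ∀ y : ↥H, y ∈ N → (∃ k, orderOf y = p ^ k) → y ∈ Cfsg.pCore p ↥H :=
    LocalStructure.isPClosed_normal_iff.mp hcl
  have hT : ∀ T : Subgroup G, T ≤ H → IsPGroup p ↥T → T ⊓ C ≤ Cfsg.pCoreOf p H := by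
    intro T hTH hT x hx
    obtain ⟨k, hk⟩ := IsPGroup.iff_orderOf.mp hT ⟨x, hx.1⟩
    rw [Subgroup.orderOf_mk] at hk
    exact ⟨⟨x, hTH hx.1⟩, hpc _ hx.2 ⟨k, by rwa [Subgroup.orderOf_mk]⟩, rfl⟩
  refine ⟨?_, hT, fun hle => ⟨fun T hTH hTp => le_antisymm (le_inf inf_le_left (hT T hTH hTp))
    (le_inf inf_le_left (inf_le_right.trans hle)), ?_⟩⟩
  · rw [LocalStructure.isPClosed_subgroup_iff]
    rintro x hx ⟨k, hk⟩
    have hz : Subgroup.zpowers x ≤ H := Subgroup.zpowers_le.mpr hx.1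
    have hxO := hT _ hz (LocalStructure.isPGroup_zpowers_of_orderOf hk) ⟨Subgroup.mem_zpowers x, hx.2⟩
    refine LocalStructure.le_pCoreOf_of_normal (N := Cfsg.pCoreOf p H ⊓ C)
      (le_inf (inf_le_left.trans (LocalStructure.pCoreOf_le H)) inf_le_right)
      (Coprime.le_normalizer_inf (inf_le_left.trans (LocalStructure.le_normalizer_pCoreOf H))
        (inf_le_right.trans Subgroup.le_normalizer))
      ((LocalStructure.pCoreOf_isPGroup H).to_le inf_le_left) ⟨hxO, hx.2⟩
  · set f := QuotientGroup.mk' N with hf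
    have hsurj : Function.Surjective f := QuotientGroup.mk'_surjective N
    set P : Subgroup ↥H := (Cfsg.pCore p (↥H ⧸ N)).comap f with hP
    have hPn : P.Normal := Subgroup.Normal.comap inferInstance f
    have hNP : N ≤ P := fun x hx => by
      rw [hP, Subgroup.mem_comap, hf, QuotientGroup.mk'_apply, (QuotientGroup.eq_one_iff x).mpr hx]
      exact one_mem _
    have hPc : Cfsg.IsPClosed p P := by
      by_contra h
      refine hnle ((Subgroup.closure_le (K := N)).mpr fun g hg => ?_)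
      have hgP : g ∈ P := hH.2 P hPn h (Subgroup.subset_closure hg)
      obtain ⟨k, hk⟩ := IsPGroup.iff_orderOf.mp (Core.pCore_isPGroup (p := p) (G := ↥H ⧸ N)) ⟨f g, hgP⟩
      rw [← Subgroup.orderOf_coe] at hk
      have h1 : orderOf (f g) ∣ Nat.gcd (orderOf g) (p ^ k) :=
        Nat.dvd_gcd (orderOf_map_dvd f g) hk.dvd
      rw [Nat.Coprime.gcd_eq_one (Nat.Coprime.pow_right k hg), Nat.dvd_one, orderOf_eq_one_iff] at h1
      exact (QuotientGroup.eq_one_iff g).mp h1
    rw [eq_bot_iff]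
    intro y hy
    obtain ⟨x, rfl⟩ := hsurj y
    obtain ⟨k, hk⟩ := IsPGroup.iff_orderOf.mp (Core.pCore_isPGroup (p := p) (G := ↥H ⧸ N)) ⟨f x, hy⟩
    rw [← Subgroup.orderOf_coe] at hk
    obtain ⟨a, haz, ha, hfa⟩ := LocalStructure.exists_pElement_preimage f hk
    have haO := LocalStructure.isPClosed_normal_iff.mp hPc a
      (Subgroup.mem_comap.mpr (hfa ▸ hy)) ha
    have haN : a ∈ N := hle ⟨a, haO, rfl⟩
    rw [Subgroup.mem_bot, ← hfa]
    exact (QuotientGroup.eq_one_iff a).mpr haN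

end Cfsg.Agent.S2830
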