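import Cfsg.Statements.S2831
import Cfsg.Agent.LocalStructure.PIrreducible
import Cfsg.Agent.LocalStructure.QuotientNormalizer
import Cfsg.Agent.Coprime.Tools

set_option autoImplicit false
open Cfsg

set_option linter.all false

namespace Cfsg.Agent.S2831

/-- Let H be a finite group with Sylow p-subgroup T such that H is T-minimal (H is generated by the conjugates of T and T lies in exactly one maximal subgroup of H). Then H is p-irreducible: H is not p-closed and O^p(H) lies in every normal subgroup of H that is not p-closed. -/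
theorem result {H : Type*} [Group H] [Finite H] {p : ℕ} [Fact p.Prime] (T : Sylow p H) (hmin : Cfsg.IsMinimalOver (T : Subgroup H)) : Cfsg.IsPIrreducible p H := by
  obtain ⟨M, ⟨hM, hTM⟩, -⟩ := hmin.2
  refine ⟨fun hc => ?_, fun N hN hnc => ?_⟩
  · have := hc T
    exact LocalStructure.isMinimalOver_not_normal hmin hM hTM hTM le_rfl
  have := hN
  refine LocalStructure.pResidual_le_of_sup_eq_top T.2 ?_
  by_contra hne
  have hNTM : N ⊔ (T : Subgroup H) ≤ M :=
    LocalStructure.isMinimalOver_le hmin hM hTM le_sup_right hne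
  -- `T ∩ N` is a Sylow subgroup of `N`
  have hTp : IsPGroup p ((T : Subgroup H).comap N.subtype) := T.2.comap_of_injective _ N.subtype_injective
  let P : Sylow p N := hTp.toSylow (LocalStructure.not_dvd_relIndex_normal T N)
  have hP : (P : Subgroup N) = (T : Subgroup H).comap N.subtype := rfl
  have hF := Sylow.normalizer_sup_eq_top P
  rw [hP] at hF
  have hTN : ((T : Subgroup H).comap N.subtype).map N.subtype = (T : Subgroup H) ⊓ N := by
    rw [Subgroup.map_comap_eq, Subgroup.range_subtype, inf_comm]
  rw [hTN] at hF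
  have hTle : (T : Subgroup H) ≤ Subgroup.normalizer (((T : Subgroup H) ⊓ N : Subgroup H) : Set H) :=
    Coprime.le_normalizer_inf Subgroup.le_normalizer Subgroup.le_normalizer_of_normal
  have htop : Subgroup.normalizer (((T : Subgroup H) ⊓ N : Subgroup H) : Set H) = ⊤ := by
    by_contra hne'
    exact LocalStructure.eq_top_of_sup_le_coatom hM (le_sup_left.trans hNTM) hF
      (LocalStructure.isMinimalOver_le hmin hM hTM hTle hne')
  apply hnc
  rw [LocalStructure.isPClosed_normal_iff]
  rintro x hx ⟨k, hk⟩
  have hnn : ((T : Subgroup H) ⊓ N).Normal := Subgroup.normalizer_eq_top_iff.mp htop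
  have hPn : (P : Subgroup N).Normal := by
    rw [hP]
    have : ((T : Subgroup H).comap N.subtype) = ((T : Subgroup H) ⊓ N).subgroupOf N := by
      ext y; simp [Subgroup.mem_subgroupOf]
    rw [this]; exact Subgroup.Normal.subgroupOf hnn N
  have hxP : (⟨x, hx⟩ : N) ∈ (P : Subgroup N) := by
    have hp : IsPGroup p (Subgroup.zpowers (⟨x, hx⟩ : N)) :=
      LocalStructure.isPGroup_zpowers_of_orderOf (by rwa [Subgroup.orderOf_mk])
    obtain ⟨Q, hQ⟩ := hp.exists_le_sylow
    have := P.unique_of_normal hPn
    rw [Subsingleton.elim P Q]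
    exact hQ (Subgroup.mem_zpowers _)
  rw [hP] at hxP
  exact Core.le_pCore (hN := hnn) (T.2.to_le inf_le_left) ⟨hxP, hx⟩

end Cfsg.Agent.S2831
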