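import Cfsg.Statements.S2832
import Cfsg.Agent.LocalStructure.PIrreducible

set_option autoImplicit false
open Cfsg

set_option linter.all false

namespace Cfsg.Agent.S2832

/-- Let H be a finite group with Sylow p-subgroup T such that H is T-minimal (generated by the conjugates of T, with T in exactly one maximal subgroup), and let N be a normal subgroup of H. Then either H/N is a p-group or H/N is minimal over the image of T in the same sense. -/
theorem result {H : Type*} [Group H] [Finite H] {p : ℕ} [Fact p.Prime] (T : Sylow p H) (hmin : Cfsg.IsMinimalOver (T : Subgroup H)) (N : Subgroup H) [N.Normal] : IsPGroup p (H ⧸ N) ∨ Cfsg.IsMinimalOver ((T : Subgroup H).map (QuotientGroup.mk' N)) := by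
  obtain ⟨M, ⟨hM, hTM⟩, -⟩ := hmin.2
  by_cases h : (T : Subgroup H) ⊔ N = ⊤
  · refine Or.inl ((T.2.map (QuotientGroup.mk' N)).of_equiv ?_)
    refine (MulEquiv.subgroupCongr ?_).trans Subgroup.topEquiv
    rw [← Subgroup.map_top_of_surjective (QuotientGroup.mk' N) (QuotientGroup.mk'_surjective N), ← h,
      Subgroup.map_sup, QuotientGroup.map_mk'_self, sup_bot_eq]
  refine Or.inr ⟨?_, ?_⟩
  · rw [Subgroup.coe_map, ← Subgroup.map_normalClosure _ _ (QuotientGroup.mk'_surjective N), hmin.1,
      Subgroup.map_top_of_surjective _ (QuotientGroup.mk'_surjective N)]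
  have hNM : N ≤ M := le_sup_right.trans (LocalStructure.isMinimalOver_le hmin hM hTM le_sup_left h)
  have hcm : (M.map (QuotientGroup.mk' N)).comap (QuotientGroup.mk' N) = M := by
    rw [Subgroup.comap_map_eq, QuotientGroup.ker_mk']; exact sup_eq_left.mpr hNM
  refine ⟨M.map (QuotientGroup.mk' N), ⟨⟨fun e => ?_, fun X hX => ?_⟩, Subgroup.map_mono hTM⟩, ?_⟩
  · rw [e, Subgroup.comap_top] at hcm
    exact hM.1 hcm.symm
  · have hlt : M < X.comap (QuotientGroup.mk' N) := by
      rw [← hcm]
      exact (Subgroup.comap_lt_comap_of_surjective (QuotientGroup.mk'_surjective N)).mpr hX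
    rw [← Subgroup.map_comap_eq_self_of_surjective (QuotientGroup.mk'_surjective N) X, hM.2 _ hlt,
      Subgroup.map_top_of_surjective _ (QuotientGroup.mk'_surjective N)]
  · rintro X ⟨hX, hTX⟩
    have hle : X.comap (QuotientGroup.mk' N) ≤ M := LocalStructure.isMinimalOver_le hmin hM hTM
      (Subgroup.map_le_iff_le_comap.mp hTX) fun e => hX.1 (by
        rw [← Subgroup.map_comap_eq_self_of_surjective (QuotientGroup.mk'_surjective N) X, e,
          Subgroup.map_top_of_surjective _ (QuotientGroup.mk'_surjective N)])
    have hle' : X ≤ M.map (QuotientGroup.mk' N) := by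
      rw [← Subgroup.map_comap_eq_self_of_surjective (QuotientGroup.mk'_surjective N) X]
      exact Subgroup.map_mono hle
    refine (hle'.eq_or_lt.resolve_right fun hlt => ?_)
    have := hX.2 _ hlt
    rw [this, Subgroup.comap_top] at hcm
    exact hM.1 hcm.symm

end Cfsg.Agent.S2832
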