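import Cfsg.Statements.S2833
import Cfsg.Agent.LocalStructure.ThreeSubgroup
import Cfsg.Agent.Coprime.Basic
import Cfsg.Agent.Layer.Subnormal
import Cfsg.Agent.Coprime.Tools

set_option autoImplicit false
open Cfsg

set_option linter.all false

namespace Cfsg.Agent.S2833

open scoped commutatorElement

/-- Let V be a subgroup of a finite group G normalized by the subgroup L, let X ≤ L and g ∈ L with [V, X, X] = 1 and L generated by X and gXg⁻¹. Put W = [V, L]. Then W = [V, X]·[V, gXg⁻¹], C_W(X) = [V, X], and C_W(L) = [V, X] ∩ [V, gXg⁻¹]. -/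
theorem result {G : Type*} [Group G] [Finite G] (V L : Subgroup G) (hLV : L ≤ Subgroup.normalizer (V : Set G)) (X : Subgroup G) (hX : X ≤ L) (g : G) (hg : g ∈ L) (hq : ⁅⁅V, X⁆, X⁆ = ⊥) (hgen : X ⊔ X.map (MulAut.conj g).toMonoidHom = L) (W : Subgroup G) (hW : W = ⁅V, L⁆) : ⁅V, X⁆ ⊔ ⁅V, X.map (MulAut.conj g).toMonoidHom⁆ = W ∧ W ⊓ Subgroup.centralizer (X : Set G) = ⁅V, X⁆ ∧ W ⊓ Subgroup.centralizer (L : Set G) = ⁅V, X⁆ ⊓ ⁅V, X.map (MulAut.conj g).toMonoidHom⁆ := by
  set f := (MulAut.conj g).toMonoidHom with hf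
  set A : Subgroup G := ⁅V, X⁆ with hA
  set B : Subgroup G := ⁅V, X.map f⁆ with hB
  have hgV : g ∈ Subgroup.normalizer (V : Set G) := hLV hg
  have hVmap : V.map f = V := by
    refine le_antisymm ?_ fun x hx => ⟨g⁻¹ * x * g, ?_, ?_⟩
    · rintro _ ⟨x, hx, rfl⟩
      exact (Subgroup.mem_normalizer_iff.mp hgV x).mp hx
    · apply (Subgroup.mem_normalizer_iff.mp hgV _).mpr
      simpa [mul_assoc] using hx
    · show g * (g⁻¹ * x * g) * g⁻¹ = x
      group
  have hAB : A.map f = B := by rw [hA, hB, Subgroup.map_commutator, hVmap]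
  have hXgL : X.map f ≤ L := le_sup_right.trans hgen.le
  have hAV : A ≤ V := Subgroup.le_normalizer_iff_commutator_le_left.mp (hX.trans hLV)
  have hBV : B ≤ V := Subgroup.le_normalizer_iff_commutator_le_left.mp (hXgL.trans hLV)
  have hVA : V ⊔ X ≤ Subgroup.normalizer (A : Set G) := Coprime.le_normalizer_commutator
  have hVB : V ⊔ X.map f ≤ Subgroup.normalizer (B : Set G) := Coprime.le_normalizer_commutator
  have key : ∀ X₁ A₁ B₁ : Subgroup G, ⁅V, X₁⁆ ≤ A₁ → X₁ ≤ Subgroup.normalizer (A₁ : Set G) → B₁ ≤ V →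
      X₁ ≤ Subgroup.normalizer ((A₁ ⊔ B₁ : Subgroup G) : Set G) := by
    intro X₁ A₁ B₁ h1 h2 h3 x hx
    refine Layer.mem_normalizer_of_conj_mem fun y hy => ?_
    suffices A₁ ⊔ B₁ ≤ (A₁ ⊔ B₁).comap (MulAut.conj x).toMonoidHom from this hy
    refine sup_le (fun a ha => Subgroup.mem_comap.mpr (Subgroup.mem_sup_left
      ((Subgroup.mem_normalizer_iff.mp (h2 hx) a).mp ha))) fun b hb => ?_
    show x * b * x⁻¹ ∈ A₁ ⊔ B₁
    rw [show x * b * x⁻¹ = ⁅b, x⁆⁻¹ * b by simp only [commutatorElement_def]; group]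
    exact mul_mem (Subgroup.mem_sup_left (inv_mem (h1 (Subgroup.commutator_mem_commutator (h3 hb) hx))))
      (Subgroup.mem_sup_right hb)
  have hJW : A ⊔ B = W := by
    rw [hW]
    refine le_antisymm (sup_le (Subgroup.commutator_mono le_rfl hX) (Subgroup.commutator_mono le_rfl hXgL)) ?_
    have hLJ : L ≤ Subgroup.normalizer ((A ⊔ B : Subgroup G) : Set G) := by
      conv_lhs => rw [← hgen]
      refine sup_le (key X A B le_rfl (le_sup_right.trans hVA) hBV) ?_
      rw [sup_comm A B]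
      exact key (X.map f) B A le_rfl (le_sup_right.trans hVB) hAV
    conv_lhs => rw [← hgen]
    rw [Subgroup.commutator_comm]
    exact LocalStructure.commutator_sup_le (hX.trans hLJ) (hXgL.trans hLJ)
      (Coprime.le_normalizer_sup (le_sup_left.trans hVA) (le_sup_left.trans hVB))
      ((Subgroup.commutator_comm_le _ _).trans le_sup_left)
      ((Subgroup.commutator_comm_le _ _).trans le_sup_right)
  have hAX : A ≤ Subgroup.centralizer (X : Set G) := Subgroup.commutator_eq_bot_iff_le_centralizer.mp hq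
  have hBX : B ≤ Subgroup.centralizer ((X.map f : Subgroup G) : Set G) := by
    rw [← Subgroup.commutator_eq_bot_iff_le_centralizer, ← hAB, ← Subgroup.map_commutator, hq, Subgroup.map_bot]
  have hWX : W ⊓ Subgroup.centralizer (X : Set G) = A := by
    refine le_antisymm ?_ (le_inf (le_sup_left.trans hJW.le) hAX)
    rintro w ⟨hw, hwX⟩
    replace hw : w ∈ A ⊔ B := hJW.ge hw
    obtain ⟨a, ha, b, hb, rfl⟩ := (Coprime.mem_sup_of_le_normalizer (hBV.trans (le_sup_left.trans hVA))).mp hw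
    have hbX : b ∈ Subgroup.centralizer (X : Set G) := by
      have := mul_mem (inv_mem (hAX ha)) hwX
      simpa using this
    have hbL : L ≤ Subgroup.centralizer {b} := by
      conv_lhs => rw [← hgen]
      refine sup_le (fun x hx => ?_) (fun x hx => ?_) <;> rw [Subgroup.mem_centralizer_singleton_iff]
      · exact Subgroup.mem_centralizer_iff.mp hbX x hx
      · exact Subgroup.mem_centralizer_iff.mp (hBX hb) x hx
    obtain ⟨a', ha', hab⟩ := hAB.ge hb
    have hc := Subgroup.mem_centralizer_singleton_iff.mp (hbL hg)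
    have : a' = b := by
      have hab' : g * a' * g⁻¹ = b := hab
      calc a' = g⁻¹ * (g * a' * g⁻¹) * g := by group
        _ = g⁻¹ * (b * g) := by rw [hab']; group
        _ = g⁻¹ * (g * b) := by rw [hc]
        _ = b := by group
    exact mul_mem ha (this ▸ ha')
  refine ⟨hJW, hWX, le_antisymm ?_ ?_⟩
  · intro w hw
    have hwA : w ∈ A := hWX.le ⟨hw.1, Subgroup.centralizer_le (SetLike.coe_subset_coe.mpr hX) hw.2⟩
    refine ⟨hwA, hAB.le ⟨w, hwA, ?_⟩⟩
    show g * w * g⁻¹ = w
    rw [Subgroup.mem_centralizer_iff.mp hw.2 g hg, mul_assoc, mul_inv_cancel, mul_one]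
  · refine le_inf (inf_le_left.trans (le_sup_left.trans hJW.le)) ?_
    rw [Subgroup.le_centralizer_iff]
    conv_lhs => rw [← hgen]
    exact sup_le (Subgroup.le_centralizer_iff.mp (inf_le_left.trans hAX)) (Subgroup.le_centralizer_iff.mp (inf_le_right.trans hBX))

end Cfsg.Agent.S2833
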