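import Cfsg.Statements.S2835
import Cfsg.Agent.LocalStructure.PIrreducible
import Cfsg.Agent.Coprime.Tools

set_option autoImplicit false
open Cfsg

set_option linter.all false

namespace Cfsg.Agent.S2835

/-- Let L be a finite group, L₀ a maximal subgroup, T a Sylow p-subgroup of L₀ and Y ≤ T, and suppose L is Y-minimal (generated by the conjugates of Y, with Y in exactly one maximal subgroup, necessarily L₀). Then N_L(T) ≤ L₀, O_p(L) ≤ L₀ and T is a Sylow p-subgroup of L; N_L(L₀) = L₀; L = ⟨Y, gYg⁻¹⟩ for each g ∈ L outside L₀; and if Y is abelian then Y ∩ gYg⁻¹ = C_Y(L) for each such g. -/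
theorem result {L : Type*} [Group L] [Finite L] {p : ℕ} [Fact p.Prime] (L₀ : Subgroup L) (hL₀ : IsCoatom L₀) (T : Sylow p ↥L₀) (Y : Subgroup L) (hYT : Y ≤ (T : Subgroup ↥L₀).map L₀.subtype) (hmin : Cfsg.IsMinimalOver Y) : Subgroup.normalizer (((T : Subgroup ↥L₀).map L₀.subtype : Subgroup L) : Set L) ≤ L₀ ∧ Cfsg.pCore p L ≤ L₀ ∧ (∃ P : Sylow p L, (P : Subgroup L) = (T : Subgroup ↥L₀).map L₀.subtype) ∧ Subgroup.normalizer (L₀ : Set L) = L₀ ∧ (∀ g : L, g ∉ L₀ → Y ⊔ Y.map (MulAut.conj g).toMonoidHom = ⊤) ∧ (IsMulCommutative ↥Y → ∀ g : L, g ∉ L₀ → Y ⊓ Y.map (MulAut.conj g).toMonoidHom = Y ⊓ Subgroup.center L) := by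
  set T' : Subgroup L := (T : Subgroup ↥L₀).map L₀.subtype with hT'
  have hYL : Y ≤ L₀ := hYT.trans (Subgroup.map_subtype_le _)
  have hTp : IsPGroup p T' := T.2.map _
  have hN : Subgroup.normalizer (T' : Set L) ≤ L₀ := by
    refine LocalStructure.isMinimalOver_le hmin hL₀ hYL (hYT.trans Subgroup.le_normalizer) fun h => ?_
    have hn : T'.Normal := Subgroup.normalizer_eq_top_iff.mp h
    exact LocalStructure.isMinimalOver_not_normal hmin hL₀ hYL (Subgroup.map_subtype_le _) hYT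
  obtain ⟨P, hP⟩ := hTp.exists_le_sylow
  have hPT : (P : Subgroup L) = T' := by
    refine (hP.antisymm ?_).symm
    by_contra hne
    have := (P.2).isNilpotent
    have hlt : T'.subgroupOf P < ⊤ := lt_top_iff_ne_top.mpr fun e => hne (Subgroup.subgroupOf_eq_top.mp e)
    obtain ⟨x, hx, hxT⟩ := SetLike.exists_of_lt (Group.normalizerCondition_of_isNilpotent _ hlt)
    have hxN : (x : L) ∈ Subgroup.normalizer (T' : Set L) := by
      refine Subgroup.mem_normalizer_iff.mpr fun z => ?_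
      by_cases hz : z ∈ (P : Subgroup L)
      · exact (Subgroup.mem_normalizer_iff.mp hx ⟨z, hz⟩)
      · refine ⟨fun h => absurd (hP h) hz, fun h => absurd ?_ hz⟩
        have := (P : Subgroup L).mul_mem ((P : Subgroup L).mul_mem ((P : Subgroup L).inv_mem x.2) (hP h)) x.2
        simpa [mul_assoc] using this
    have hxL : (x : L) ∈ L₀ := hN hxN
    have hXp : IsPGroup p (((P : Subgroup L) ⊓ L₀).subgroupOf L₀) :=
      (P.2.to_le inf_le_left).comap_subtype
    have hle : (T : Subgroup ↥L₀) ≤ ((P : Subgroup L) ⊓ L₀).subgroupOf L₀ :=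
      fun y hy => ⟨hP ⟨y, hy, rfl⟩, y.2⟩
    have heq := T.3 hXp hle
    apply hxT
    have hmem : (⟨(x : L), hxL⟩ : ↥L₀) ∈ ((P : Subgroup L) ⊓ L₀).subgroupOf L₀ := ⟨x.2, hxL⟩
    rw [heq] at hmem
    exact ⟨⟨(x : L), hxL⟩, hmem, rfl⟩
  have hnorm : Subgroup.normalizer (L₀ : Set L) = L₀ := by
    refine le_antisymm (LocalStructure.isMinimalOver_le hmin hL₀ hYL
      (hYL.trans Subgroup.le_normalizer) fun h => ?_) Subgroup.le_normalizer
    have hn : L₀.Normal := Subgroup.normalizer_eq_top_iff.mp h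
    exact LocalStructure.isMinimalOver_not_normal hmin hL₀ hYL le_rfl hYL
  have hgen : ∀ g : L, g ∉ L₀ → Y ⊔ Y.map (MulAut.conj g).toMonoidHom = ⊤ := by
    intro g hg
    by_contra hne
    have hle := LocalStructure.isMinimalOver_le hmin hL₀ hYL le_sup_left hne
    -- `Y ≤ L₀^(g⁻¹)`
    have hY' : Y ≤ L₀.comap (MulAut.conj g).toMonoidHom :=
      Subgroup.map_le_iff_le_comap.mp (le_sup_right.trans hle)
    have hco : IsCoatom (L₀.comap (MulAut.conj g).toMonoidHom) := by
      have := ((MulAut.conj g).symm.mapSubgroup).isCoatom_iff L₀ |>.mpr hL₀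
      convert this using 1
      exact Subgroup.comap_equiv_eq_map_symm' _ _
    have heq := hmin.2.unique ⟨hco, hY'⟩ ⟨hL₀, hYL⟩
    apply hg
    rw [← hnorm, Subgroup.mem_normalizer_iff]
    intro x
    conv_lhs => rw [← heq]
    rfl
  refine ⟨hN, ?_, ⟨P, hPT⟩, hnorm, hgen, fun hc g hg => le_antisymm (le_inf inf_le_left ?_) ?_⟩
  · exact (Core.pCore_le_sylow P).trans (hPT.le.trans (Subgroup.map_subtype_le _))
  · intro x hx
    have htop : (⊤ : Subgroup L) ≤ Subgroup.centralizer {x} := by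
      rw [← hgen g hg]
      refine sup_le (fun y hy => ?_) (fun y hy => ?_) <;>
        rw [Subgroup.mem_centralizer_singleton_iff]
      · exact congrArg Subtype.val (hc.is_comm.comm ⟨y, hy⟩ ⟨x, hx.1⟩)
      · obtain ⟨a, ha, rfl⟩ := hy
        obtain ⟨b, hb, hbx⟩ := hx.2
        rw [← hbx, ← map_mul, ← map_mul]
        exact congrArg _ (congrArg Subtype.val (hc.is_comm.comm ⟨a, ha⟩ ⟨b, hb⟩))
    rw [Subgroup.mem_center_iff]
    intro y
    exact Subgroup.mem_centralizer_singleton_iff.mp (htop (Subgroup.mem_top y))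
  · rintro x ⟨hx, hxc⟩
    refine ⟨hx, ⟨x, hx, ?_⟩⟩
    show g * x * g⁻¹ = x
    rw [Subgroup.mem_center_iff.mp hxc g, mul_assoc, mul_inv_cancel, mul_one]

end Cfsg.Agent.S2835
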