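import Cfsg.Statements.S2836
import Cfsg.Agent.LocalStructure.PIrreducible
import Cfsg.Agent.LocalStructure.QuotientNormalizer
import Cfsg.Agent.Coprime.Tools
import Cfsg.Agent.S2835
import Cfsg.Agent.Core.Frattini

set_option autoImplicit false
open Cfsg

set_option linter.all false

namespace Cfsg.Agent.S2836

/-- Let L be a finite group, L₀ a maximal subgroup, T a Sylow p-subgroup of L₀, Y ≤ T, and suppose L is Y-minimal. Let D be the intersection of the conjugates of L₀ (the core of L₀). Then D contains O_p(L) and D/O_p(L) is the Frattini subgroup of L/O_p(L), so D is p-closed; and every normal subgroup N of L contained in L₀ is p-closed with N/O_p(N) a nilpotent group of order prime to p. -/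
theorem result {L : Type*} [Group L] [Finite L] {p : ℕ} [Fact p.Prime] (L₀ : Subgroup L) (hL₀ : IsCoatom L₀) (T : Sylow p ↥L₀) (Y : Subgroup L) (hYT : Y ≤ (T : Subgroup ↥L₀).map L₀.subtype) (hmin : Cfsg.IsMinimalOver Y) : (Cfsg.pCore p L ≤ L₀.normalCore ∧ (L₀.normalCore).map (QuotientGroup.mk' (Cfsg.pCore p L)) = frattini (L ⧸ Cfsg.pCore p L) ∧ Cfsg.IsPClosed p ↥(L₀.normalCore)) ∧ ∀ (N : Subgroup L) [N.Normal], N ≤ L₀ → Cfsg.IsPClosed p ↥N ∧ Group.IsNilpotent (↥N ⧸ Cfsg.pCore p ↥N) ∧ (Nat.card (↥N ⧸ Cfsg.pCore p ↥N)).Coprime p := by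
  obtain ⟨-, hO, ⟨P, hP⟩, -⟩ := Cfsg.Agent.S2835.result L₀ hL₀ T Y hYT hmin
  have hPL : (P : Subgroup L) ≤ L₀ := hP.le.trans (Subgroup.map_subtype_le _)
  have hYP : Y ≤ (P : Subgroup L) := hYT.trans hP.ge
  have hYL : Y ≤ L₀ := hYP.trans hPL
  set O : Subgroup L := Cfsg.pCore p L with hOdef
  set f := QuotientGroup.mk' O with hf
  have hsurj : Function.Surjective f := QuotientGroup.mk'_surjective O
  have hcm : ∀ X : Subgroup L, O ≤ X → (X.map f).comap f = X := fun X h => by
    rw [Subgroup.comap_map_eq, hf, QuotientGroup.ker_mk']; exact sup_eq_left.mpr h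
  -- main fact: a normal subgroup below `L₀` is `p`-closed
  have hclosed : ∀ N : Subgroup L, N.Normal → N ≤ L₀ →
      Cfsg.IsPClosed p N ∧ ¬ p ∣ Nat.card (N.map f) := by
    intro N hN hle
    have hTp : IsPGroup p ((P : Subgroup L).comap N.subtype) := P.2.comap_of_injective _ N.subtype_injective
    let S : Sylow p N := hTp.toSylow (LocalStructure.not_dvd_relIndex_normal P N)
    have hF := Sylow.normalizer_sup_eq_top S
    have hS : ((S : Subgroup N)).map N.subtype = (P : Subgroup L) ⊓ N := by
      show ((P : Subgroup L).comap N.subtype).map N.subtype = _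
      rw [Subgroup.map_comap_eq, Subgroup.range_subtype, inf_comm]
    rw [hS] at hF
    have hTle : Y ≤ Subgroup.normalizer (((P : Subgroup L) ⊓ N : Subgroup L) : Set L) :=
      hYP.trans (Coprime.le_normalizer_inf Subgroup.le_normalizer Subgroup.le_normalizer_of_normal)
    have htop : Subgroup.normalizer (((P : Subgroup L) ⊓ N : Subgroup L) : Set L) = ⊤ := by
      by_contra hne'
      exact LocalStructure.eq_top_of_sup_le_coatom hL₀ hle hF
        (LocalStructure.isMinimalOver_le hmin hL₀ hYL hTle hne')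
    have hnn : ((P : Subgroup L) ⊓ N).Normal := Subgroup.normalizer_eq_top_iff.mp htop
    have hPN : (P : Subgroup L) ⊓ N ≤ O := Core.le_pCore (hN := hnn) (P.2.to_le inf_le_left)
    refine ⟨LocalStructure.isPClosed_normal_iff.mpr fun x hx ⟨k, hk⟩ => ?_, ?_⟩
    · obtain ⟨Q, hQ⟩ := (LocalStructure.isPGroup_zpowers_of_orderOf hk).exists_le_sylow
      obtain ⟨g, rfl⟩ := MulAction.exists_smul_eq L P Q
      have hx' := hQ (Subgroup.mem_zpowers x)
      rw [Sylow.coe_subgroup_smul, Subgroup.mem_pointwise_smul_iff_inv_smul_mem, ← map_inv,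
        MulAut.smul_def, MulAut.conj_apply] at hx'
      have h1 := hPN ⟨hx', hN.conj_mem x hx g⁻¹⟩
      have h2 := (inferInstance : O.Normal).conj_mem _ h1 g
      simpa [mul_assoc] using h2
    · intro hdvd
      obtain ⟨y, hy⟩ := exists_prime_orderOf_dvd_card' p hdvd
      obtain ⟨y, x, hxN, rfl⟩ := y
      rw [← Subgroup.orderOf_coe] at hy
      obtain ⟨a, haz, ⟨j, hj⟩, hfa⟩ := LocalStructure.exists_pElement_preimage f (show orderOf (f x) = p ^ 1 by rw [pow_one]; exact hy)
      have haN : a ∈ N := Subgroup.zpowers_le.mpr hxN haz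
      obtain ⟨Q, hQ⟩ := (LocalStructure.isPGroup_zpowers_of_orderOf hj).exists_le_sylow
      obtain ⟨g, rfl⟩ := MulAction.exists_smul_eq L P Q
      have hx' := hQ (Subgroup.mem_zpowers a)
      rw [Sylow.coe_subgroup_smul, Subgroup.mem_pointwise_smul_iff_inv_smul_mem, ← map_inv,
        MulAut.smul_def, MulAut.conj_apply] at hx'
      have h1 := hPN ⟨hx', hN.conj_mem a haN g⁻¹⟩
      have h2 := (inferInstance : O.Normal).conj_mem _ h1 g
      have h3 : f a = 1 := (QuotientGroup.eq_one_iff a).mpr (by simpa [mul_assoc] using h2)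
      rw [hfa] at h3
      have hy' : orderOf (f x) = p := hy
      rw [h3, orderOf_one] at hy'
      exact (Fact.out : p.Prime).ne_one hy'.symm
  have hK : O ≤ L₀.normalCore := Subgroup.normal_le_normalCore.mpr hO
  refine ⟨⟨hK, le_antisymm ?_ ?_, (hclosed _ inferInstance L₀.normalCore_le).1⟩, fun N _ hle => ?_⟩
  · -- `K/O ≤ Φ`
    refine Core.le_frattini fun M hM => ?_
    by_contra hnle
    have hn : (L₀.normalCore.map f).Normal := Subgroup.Normal.map inferInstance f hsurj
    have htop : M ⊔ L₀.normalCore.map f = ⊤ := hM.2 _ (left_lt_sup.mpr hnle)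
    have hidx : ¬ p ∣ (M.comap f).index := by
      rw [Subgroup.index_comap_of_surjective _ hsurj, ← Subgroup.relIndex_top_right, ← htop,
        LocalStructure.relIndex_sup_normal]
      exact fun h => (hclosed _ inferInstance L₀.normalCore_le).2 (h.trans (Subgroup.relIndex_dvd_card _ _))
    -- `M` contains a Sylow subgroup
    obtain ⟨S⟩ := (inferInstance : Nonempty (Sylow p ↥(M.comap f)))
    obtain ⟨Q, hQ⟩ := (S.2.map (M.comap f).subtype).exists_le_sylow
    have hQeq : (Q : Subgroup L) ≤ M.comap f := by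
      have h := S.2.map (M.comap f).subtype
      have hnd : ¬ p ∣ ((S : Subgroup ↥(M.comap f)).map (M.comap f).subtype).index := by
        rw [Subgroup.index_map_subtype]
        exact (Fact.out : p.Prime).not_dvd_mul S.not_dvd_index hidx
      have := (h.toSylow hnd).3 Q.2 hQ
      rw [this]
      exact Subgroup.map_subtype_le _
    obtain ⟨g, rfl⟩ := MulAction.exists_smul_eq L P Q
    have hconj : Y ≤ (M.comap f).comap (MulAut.conj g).toMonoidHom := fun y hy => by
      apply hQeq
      rw [Sylow.coe_subgroup_smul]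
      exact Subgroup.smul_mem_pointwise_smul _ _ _ (hYP hy)
    have hco : IsCoatom ((M.comap f).comap (MulAut.conj g).toMonoidHom) := by
      have h1 : IsCoatom (M.comap f) := ⟨fun e => hM.1 (by
          rw [← Subgroup.map_comap_eq_self_of_surjective hsurj M, e,
            Subgroup.map_top_of_surjective f hsurj]),
        fun X hX => by
          have hOX : O ≤ X := le_trans (fun x hx => by
            rw [Subgroup.mem_comap, hf, QuotientGroup.mk'_apply, (QuotientGroup.eq_one_iff x).mpr hx]
            exact one_mem _) hX.le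
          rw [← hcm X hOX, hM.2 (X.map f) ?_, Subgroup.comap_top]
          rw [← Subgroup.map_comap_eq_self_of_surjective hsurj M]
          refine lt_of_le_of_ne (Subgroup.map_mono hX.le) fun e => hX.ne ?_
          have := congrArg (Subgroup.comap f) e
          rwa [hcm X hOX, Subgroup.map_comap_eq_self_of_surjective hsurj] at this⟩
      have := ((MulAut.conj g).symm.mapSubgroup).isCoatom_iff (M.comap f) |>.mpr h1
      convert this using 1
      exact Subgroup.comap_equiv_eq_map_symm' _ _
    have heq := hmin.2.unique ⟨hco, hconj⟩ ⟨hL₀, hYL⟩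
    apply hnle
    rw [← Subgroup.map_comap_eq_self_of_surjective hsurj M]
    refine Subgroup.map_mono fun x hx => ?_
    have h1 := L₀.normalCore_le ((inferInstance : L₀.normalCore.Normal).conj_mem x hx g⁻¹)
    rw [← heq] at h1
    simpa [mul_assoc] using h1
  · have hco : IsCoatom (L₀.map f) := by
      refine ⟨fun e => hL₀.1 (by rw [← hcm L₀ hO, e, Subgroup.comap_top]), fun X hX => ?_⟩
      rw [← Subgroup.map_comap_eq_self_of_surjective hsurj X, hL₀.2 (X.comap f) ?_,
        Subgroup.map_top_of_surjective f hsurj]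
      rw [← hcm L₀ hO]
      exact (Subgroup.comap_lt_comap_of_surjective hsurj).mpr hX
    have hle : frattini (L ⧸ O) ≤ L₀.map f := iInf₂_le _ hco
    rw [← Subgroup.map_comap_eq_self_of_surjective hsurj (frattini (L ⧸ O))]
    refine Subgroup.map_mono (Subgroup.normal_le_normalCore.mpr ?_)
    exact (Subgroup.comap_mono hle).trans (hcm L₀ hO).le
  -- nilpotency
  obtain ⟨hc, hnd⟩ := hclosed N inferInstance hle
  have hker : (f.comp N.subtype).ker = Cfsg.pCore p N := by
    have h := Core.map_pCore_normal (p := p) N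
    ext x
    rw [MonoidHom.mem_ker]
    show (x : L ⧸ O) = 1 ↔ _
    rw [QuotientGroup.eq_one_iff]
    constructor
    · intro hx
      have h2 : (x : L) ∈ (Cfsg.pCore p N).map N.subtype := h ▸ ⟨hx, x.2⟩
      obtain ⟨y, hy, hyx⟩ := h2
      exact (Subtype.ext hyx : y = x) ▸ hy
    · exact fun hx => (h.le ⟨x, hx, rfl⟩).1
  have hrange : (f.comp N.subtype).range = N.map f := by
    rw [MonoidHom.range_comp, Subgroup.range_subtype]
  let e : (↥N ⧸ Cfsg.pCore p ↥N) ≃* ↥(N.map f) :=
    ((QuotientGroup.quotientMulEquivOfEq hker.symm).trans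
      (QuotientGroup.quotientKerEquivRange _)).trans (MulEquiv.subgroupCongr hrange)
  refine ⟨hc, ?_, ?_⟩
  · suffices Group.IsNilpotent ↥(N.map f) from nilpotent_of_mulEquiv e.symm
    refine (Group.isNilpotent_of_finite_tfae.out 0 3 rfl rfl).mpr fun q hq S => ?_
    have hn : (N.map f).Normal := Subgroup.Normal.map inferInstance f hsurj
    have hF := Sylow.normalizer_sup_eq_top S
    set R : Subgroup (L ⧸ O) := Subgroup.normalizer (((S : Subgroup ↥(N.map f)).map (N.map f).subtype : Subgroup (L ⧸ O)) : Set (L ⧸ O)) with hR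
    suffices R = ⊤ by
      have h1 : ((S : Subgroup ↥(N.map f)).map (N.map f).subtype).Normal := Subgroup.normalizer_eq_top_iff.mp this
      have h2 := Subgroup.Normal.comap h1 (N.map f).subtype
      rwa [Subgroup.comap_map_eq_self_of_injective (N.map f).subtype_injective] at h2
    by_contra hne
    set Rc : Subgroup L := R.comap f with hRc
    have hidx : ¬ p ∣ Rc.index := by
      rw [hRc, Subgroup.index_comap_of_surjective _ hsurj, ← Subgroup.relIndex_top_right, ← hF,
        LocalStructure.relIndex_sup_normal]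
      exact fun h => hnd (h.trans (Subgroup.relIndex_dvd_card _ _))
    obtain ⟨S'⟩ := (inferInstance : Nonempty (Sylow p ↥Rc))
    obtain ⟨Q, hQ⟩ := (S'.2.map Rc.subtype).exists_le_sylow
    have hQeq : (Q : Subgroup L) ≤ Rc := by
      have h := S'.2.map Rc.subtype
      have hnd' : ¬ p ∣ ((S' : Subgroup ↥Rc).map Rc.subtype).index := by
        rw [Subgroup.index_map_subtype]
        exact (Fact.out : p.Prime).not_dvd_mul S'.not_dvd_index hidx
      have := (h.toSylow hnd').3 Q.2 hQ
      rw [this]
      exact Subgroup.map_subtype_le _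
    obtain ⟨g, rfl⟩ := MulAction.exists_smul_eq L P Q
    have hconj : Y ≤ Rc.comap (MulAut.conj g).toMonoidHom := fun y hy => by
      apply hQeq
      rw [Sylow.coe_subgroup_smul]
      exact Subgroup.smul_mem_pointwise_smul _ _ _ (hYP hy)
    have hne' : Rc.comap (MulAut.conj g).toMonoidHom ≠ ⊤ := fun e => hne (by
      have h1 : Rc = ⊤ := by
        rw [← Subgroup.map_comap_eq_self_of_surjective (f := (MulAut.conj g).toMonoidHom) (MulAut.conj g).surjective Rc, e]
        exact Subgroup.map_top_of_surjective _ (MulAut.conj g).surjective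
      rw [← Subgroup.map_comap_eq_self_of_surjective hsurj R, ← hRc, h1,
        Subgroup.map_top_of_surjective f hsurj])
    have hle' := LocalStructure.isMinimalOver_le hmin hL₀ hYL hconj hne'
    -- `R^g ⊔ N = ⊤`
    have hRN : Rc ⊔ N = ⊤ := by
      have : (Rc ⊔ N).map f = ⊤ := by
        rw [Subgroup.map_sup, hRc, Subgroup.map_comap_eq_self_of_surjective hsurj, hF]
      have h2 := congrArg (Subgroup.comap f) this
      rw [Subgroup.comap_top, hcm _ (le_trans (fun x hx => by
        rw [hRc, Subgroup.mem_comap, hf, QuotientGroup.mk'_apply, (QuotientGroup.eq_one_iff x).mpr hx]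
        exact one_mem _) le_sup_left)] at h2
      exact h2
    refine LocalStructure.eq_top_of_sup_le_coatom hL₀ hle ?_ hle'
    rw [eq_top_iff]
    intro x _
    have hx : (MulAut.conj g) x ∈ Rc ⊔ N := hRN ▸ Subgroup.mem_top _
    obtain ⟨r, hr, n, hn', hrn⟩ := Subgroup.mem_sup_of_normal_right.mp hx
    have : x = (g⁻¹ * r * g) * (g⁻¹ * n * g) := by
      rw [MulAut.conj_apply] at hrn
      calc x = g⁻¹ * (g * x * g⁻¹) * g := by group
        _ = _ := by rw [← hrn]; group
    rw [this]
    refine Subgroup.mul_mem_sup ?_ ?_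
    · show g * (g⁻¹ * r * g) * g⁻¹ ∈ Rc
      simpa [mul_assoc] using hr
    · have := (inferInstance : N.Normal).conj_mem n hn' g⁻¹
      simpa using this
  · rw [Nat.card_congr e.toEquiv]
    exact ((Nat.Prime.coprime_iff_not_dvd Fact.out).mpr hnd).symm

end Cfsg.Agent.S2836
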