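import Cfsg.Statements.S2837
import Cfsg.Agent.Core.PCore
import Cfsg.Agent.Core.Frattini
import Cfsg.Agent.Fusion.Critical
import Cfsg.Agent.Thompson.Basic

set_option autoImplicit false
open Cfsg

set_option linter.all false

namespace Cfsg.Agent.S2837

open Subgroup
open scoped commutatorElement Pointwise

/-- Let L be a finite group of characteristic p, L₀ a maximal subgroup, Y an elementary abelian p-subgroup of L₀ with L Y-minimal and O_p(L) ≤ N_L(Y). Put A = the normal closure of O_p(L) ∩ Y in L. Then for every g ∈ L outside L₀: Φ(A) = A' = [A ∩ Y, A] = [A ∩ Y, A ∩ gYg⁻¹] ≤ C_Y(L), and Y ∩ gYg⁻¹ = (A ∩ Y) ∩ (A ∩ gYg⁻¹) = C_Y(L) = C_A(L). -/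
theorem result {L : Type*} [Group L] [Finite L] {p : ℕ} [Fact p.Prime] (hchar : Subgroup.centralizer (Cfsg.pCore p L : Set L) ≤ Cfsg.pCore p L) (L₀ : Subgroup L) (hL₀ : IsCoatom L₀) (Y : Subgroup L) (hYL₀ : Y ≤ L₀) (hYel : Cfsg.IsElementaryAbelian p Y) (hmin : Cfsg.IsMinimalOver Y) (hOY : Cfsg.pCore p L ≤ Subgroup.normalizer (Y : Set L)) (A : Subgroup L) (hA : A = Subgroup.normalClosure (((Cfsg.pCore p L ⊓ Y : Subgroup L)) : Set L)) (g : L) (hg : g ∉ L₀) : (frattini ↥A).map A.subtype = ⁅A, A⁆ ∧ ⁅A, A⁆ = ⁅A ⊓ Y, A⁆ ∧ ⁅A ⊓ Y, A⁆ = ⁅A ⊓ Y, A ⊓ Y.map (MulAut.conj g).toMonoidHom⁆ ∧ ⁅A ⊓ Y, A⁆ ≤ Y ⊓ Subgroup.center L ∧ Y ⊓ Y.map (MulAut.conj g).toMonoidHom = Y ⊓ Subgroup.center L ∧ (A ⊓ Y) ⊓ (A ⊓ Y.map (MulAut.conj g).toMonoidHom) = Y ⊓ Subgroup.center L ∧ A ⊓ Subgroup.center L = Y ⊓ Subgroup.center L := by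
  obtain ⟨hgenY, M0, hM0, huniq⟩ := hmin
  obtain ⟨hYcomm, hYexp⟩ := Thompson.ea_iff.mp hYel
  set O := Cfsg.pCore p L with hO
  haveI hOn : O.Normal := Core.pCore_normal
  have hmax : ∀ X : Subgroup L, Y ≤ X → X ≠ ⊤ → X ≤ L₀ := by
    intro X hX hne
    obtain ⟨C, hC, hXC⟩ := (eq_top_or_exists_le_coatom X).resolve_left hne
    rw [huniq L₀ ⟨hL₀, hYL₀⟩, ← huniq C ⟨hC, hX.trans hXC⟩]
    exact hXC
  set Y' := Y.map (MulAut.conj g).toMonoidHom with hY'
  have mem' : ∀ x : L, x ∈ Y' ↔ g⁻¹ * x * g ∈ Y := by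
    intro x
    constructor
    · rintro ⟨y, hy, rfl⟩; simpa [mul_assoc] using hy
    · intro h; exact ⟨_, h, by simp [mul_assoc]⟩
  have hY'comm : ∀ a ∈ Y', ∀ b ∈ Y', a * b = b * a := by
    rintro _ ⟨a, ha, rfl⟩ _ ⟨b, hb, rfl⟩
    rw [← map_mul, ← map_mul, mem_centralizer_iff.mp (hYcomm hb) a ha]
  have hsup : Y ⊔ Y' = ⊤ := by
    by_contra hne
    have h1 : Y' ≤ L₀ := le_sup_right.trans (hmax _ le_sup_left hne)
    have h2 : Y ≤ L₀.comap (MulAut.conj g).toMonoidHom := fun y hy => h1 ⟨y, hy, rfl⟩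
    have h3 : L₀.comap (MulAut.conj g).toMonoidHom ≠ ⊤ := fun h => hL₀.1 (eq_top_iff.mpr fun x _ => by
      have := h.ge (mem_top (g⁻¹ * x * g))
      simpa [mul_assoc] using this)
    have h4 : L₀.comap (MulAut.conj g).toMonoidHom = L₀ := eq_of_le_of_card_ge (hmax _ h2 h3)
      (le_of_eq (Nat.card_congr ((MulAut.conj g).toEquiv.subtypeEquiv (p := fun x => x ∈ L₀.comap (MulAut.conj g).toMonoidHom) (q := fun x => x ∈ L₀) fun _ => Iff.rfl)).symm)
    have hgn : g ∈ normalizer (L₀ : Set L) := by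
      rw [mem_normalizer_iff]
      intro x
      conv_lhs => rw [← h4]
      rfl
    by_cases htop : normalizer (L₀ : Set L) = ⊤
    · haveI : L₀.Normal := normalizer_eq_top_iff.mp htop
      exact hL₀.1 (top_le_iff.mp (hgenY.ge.trans (normalClosure_le_normal hYL₀)))
    · exact hg ((hL₀.le_iff.mp le_normalizer).resolve_left htop ▸ hgn)
  have hcen : ∀ x : L, (∀ y ∈ Y, y * x = x * y) → (∀ y ∈ Y', y * x = x * y) → x ∈ center L := by
    intro x h1 h2
    have : Y ⊔ Y' ≤ centralizer {x} := sup_le (fun y hy => mem_centralizer_singleton_iff.mpr (h1 y hy))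
      (fun y hy => mem_centralizer_singleton_iff.mpr (h2 y hy))
    rw [hsup] at this
    exact mem_center_iff.mpr fun z => mem_centralizer_singleton_iff.mp (this (mem_top z))
  have hD' : ∀ x ∈ Y, x ∈ center L → x ∈ Y' := fun x hx hc => (mem' x).mpr (by
    rwa [mem_center_iff.mp hc g⁻¹, inv_mul_cancel_right])
  have hD'' : ∀ x ∈ Y', x ∈ center L → x ∈ Y := fun x hx hc => by
    have := (mem' x).mp hx
    rwa [mem_center_iff.mp hc g⁻¹, inv_mul_cancel_right] at this
  have hYY' : Y ⊓ Y' = Y ⊓ center L := by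
    refine le_antisymm (fun x hx => ⟨hx.1, hcen x (fun y hy => ?_) (fun y hy => ?_)⟩) (fun x hx => ⟨hx.1, hD' x hx.1 hx.2⟩)
    · exact mem_centralizer_iff.mp (hYcomm hx.1) y hy
    · exact hY'comm y hy x hx.2
  -- the normal subgroup `A`
  have hAO : A ≤ O := by rw [hA]; exact normalClosure_le_normal inf_le_left
  haveI hAn : A.Normal := by rw [hA]; exact normalClosure_normal
  have hWA : O ⊓ Y ≤ A := by rw [hA]; exact subset_normalClosure
  have hDA : Y ⊓ center L ≤ A := by
    refine le_trans (le_inf ?_ inf_le_left) hWA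
    haveI : (Y ⊓ center L).Normal :=
      ⟨fun x hx z => by rw [mem_center_iff.mp hx.2 z, mul_inv_cancel_right]; exact hx⟩
    exact Core.le_pCore fun x => ⟨1, Subtype.ext (by rw [pow_one]; exact hYexp _ x.2.1)⟩
  have hOY' : O ≤ normalizer (Y' : Set L) := by
    intro x hx
    rw [mem_normalizer_iff]
    intro u
    rw [mem', mem', mem_normalizer_iff.mp (hOY (hOn.conj_mem x hx g⁻¹)) (g⁻¹ * u * g), inv_inv]
    rw [show g⁻¹ * x * g * (g⁻¹ * u * g) * (g⁻¹ * x * g)⁻¹ = g⁻¹ * (x * u * x⁻¹) * g by group]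
  set W := A ⊓ Y with hW
  set W' := A ⊓ Y' with hW'
  have key : ∀ Z : Subgroup L, O ≤ normalizer (Z : Set L) → ∀ z ∈ Z, ∀ a ∈ A, ⁅z, a⁆ ∈ A ⊓ Z := by
    intro Z hZ z hz a ha
    refine ⟨?_, ?_⟩
    · rw [commutatorElement_def]
      exact mul_mem (hAn.conj_mem a ha z) (A.inv_mem ha)
    · rw [commutatorElement_def, mul_assoc z a, mul_assoc]
      exact mul_mem hz ((mem_normalizer_iff.mp (hZ (hAO ha)) _).mp (Z.inv_mem hz))
  have hAP : A ≤ W ⊔ W' := by
    set P := W ⊔ W' with hP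
    have step : ∀ Z : Subgroup L, O ≤ normalizer (Z : Set L) → A ⊓ Z ≤ P → Z ≤ normalizer (P : Set L) := by
      intro Z hZ hZP
      have k1 : ∀ z ∈ Z, ∀ x ∈ P, z * x * z⁻¹ ∈ P := by
        intro z hz x hx
        rw [show z * x * z⁻¹ = ⁅z, x⁆ * x by rw [commutatorElement_def]; group]
        exact mul_mem (hZP (key Z hZ z hz x ((sup_le inf_le_left inf_le_left : P ≤ A) hx))) hx
      intro z hz
      rw [mem_normalizer_iff]
      refine fun x => ⟨k1 z hz x, fun hx => ?_⟩
      have := k1 z⁻¹ (Z.inv_mem hz) _ hx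
      simpa [mul_assoc] using this
    have htop : normalizer (P : Set L) = ⊤ := by
      rw [eq_top_iff, ← hsup]
      exact sup_le (step Y hOY le_sup_left) (step Y' hOY' le_sup_right)
    haveI : P.Normal := normalizer_eq_top_iff.mp htop
    conv_lhs => rw [hA]
    exact normalClosure_le_normal fun x hx => mem_sup_left (⟨hWA hx, hx.2⟩ : x ∈ W)
  have hAeq : A = W ⊔ W' := le_antisymm hAP (sup_le inf_le_left inf_le_left)
  set N := ⁅W, W'⁆ with hN
  have hNle : N ≤ Y ⊓ center L := by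
    rw [← hYY', hN, commutator_le]
    intro w hw w' hw'
    refine ⟨(key Y hOY w hw.2 w' hw'.1).2, ?_⟩
    rw [← commutatorElement_inv]
    exact Y'.inv_mem (key Y' hOY' w' hw'.2 w hw.1).2
  haveI hNn : N.Normal :=
    ⟨fun x hx z => by rw [mem_center_iff.mp (hNle hx).2 z, mul_inv_cancel_right]; exact hx⟩
  have hAA : ⁅A, A⁆ ≤ N := by
    rw [commutator_le]
    set π := QuotientGroup.mk' N with hπ
    have hcm : ∀ u v : L, Commute (π u) (π v) ↔ ⁅u, v⁆ ∈ N := fun u v => by
      rw [← commutatorElement_eq_one_iff_commute, ← map_commutatorElement, QuotientGroup.mk'_apply, QuotientGroup.eq_one_iff]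
    have base : ∀ u ∈ A, (∀ v ∈ W, Commute (π v) (π u)) → (∀ v ∈ W', Commute (π v) (π u)) → ∀ v ∈ A, Commute (π v) (π u) := by
      intro u hu h1 h2 v hv
      have : W ⊔ W' ≤ (centralizer {π u}).comap π := sup_le
        (fun z hz => mem_centralizer_singleton_iff.mpr (h1 z hz).eq) (fun z hz => mem_centralizer_singleton_iff.mpr (h2 z hz).eq)
      exact mem_centralizer_singleton_iff.mp (this (hAP hv))
    have c11 : ∀ u ∈ W, ∀ v ∈ W, Commute (π u) (π v) := fun u hu v hv =>
      Commute.map (show Commute u v from (mem_centralizer_iff.mp (hYcomm hu.2) v hv.2).symm) π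
    have c22 : ∀ u ∈ W', ∀ v ∈ W', Commute (π u) (π v) := fun u hu v hv =>
      Commute.map (hY'comm u hu.2 v hv.2) π
    have c12 : ∀ u ∈ W, ∀ v ∈ W', Commute (π u) (π v) := fun u hu v hv =>
      (hcm u v).mpr (commutator_mem_commutator hu hv)
    have e1 : ∀ u ∈ W, ∀ v ∈ A, Commute (π v) (π u) := fun u hu =>
      base u hu.1 (fun v hv => c11 v hv u hu) (fun v hv => (c12 u hu v hv).symm)
    have e2 : ∀ u ∈ W', ∀ v ∈ A, Commute (π v) (π u) := fun u hu =>
      base u hu.1 (fun v hv => c12 v hv u hu) (fun v hv => c22 v hv u hu)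
    intro u hu v hv
    exact (hcm u v).mp (base v hv (fun z hz => (e1 z hz v hv).symm) (fun z hz => (e2 z hz v hv).symm) u hu)
  have hNWA : N ≤ ⁅W, A⁆ := commutator_mono le_rfl inf_le_left
  have hWAA : ⁅W, A⁆ ≤ ⁅A, A⁆ := commutator_mono inf_le_left le_rfl
  have hWW' : W' = A ⊓ Y' := rfl
  have e_W : A ⊓ Y = W := rfl
  refine ⟨?_, le_antisymm (hAA.trans hNWA) hWAA, le_antisymm (hWAA.trans hAA) hNWA, (hWAA.trans hAA).trans hNle, hYY', ?_, ?_⟩
  · refine le_antisymm ?_ ?_
    · have hp := (Fact.out : p.Prime)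
      haveI : (⁅A, A⁆.subgroupOf A).Normal := by
        have : ⁅A, A⁆.subgroupOf A = commutator A := by
          apply map_injective A.subtype_injective
          rw [commutator_def, map_commutator, subgroupOf_map_subtype, inf_eq_left.mpr (commutator_le_self A),
            ← MonoidHom.range_eq_map, range_subtype]
        rw [this]; infer_instance
      have hΦ : frattini A ≤ ⁅A, A⁆.subgroupOf A := by
        refine Fusion.frattini_le_of_elementary (p := p) _ ?_ ?_
        · rw [commutator_def, commutator_le]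
          exact fun u _ v _ => commutator_mem_commutator u.2 v.2
        · intro x
          set π := QuotientGroup.mk' (⁅A, A⁆.subgroupOf A) with hπ
          have hcomm : ∀ u v : A, Commute (π u) (π v) := fun u v => by
            rw [← commutatorElement_eq_one_iff_commute, ← map_commutatorElement, QuotientGroup.mk'_apply, QuotientGroup.eq_one_iff]
            exact commutator_mem_commutator u.2 v.2
          let K : Subgroup A :=
            { carrier := {u | u ^ p ∈ ⁅A, A⁆.subgroupOf A}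
              one_mem' := by simp
              mul_mem' := fun {u v} hu hv => by
                simp only [Set.mem_setOf_eq, ← QuotientGroup.eq_one_iff, ← QuotientGroup.mk'_apply] at hu hv ⊢
                rw [map_pow, map_mul, (hcomm u v).mul_pow, ← map_pow, ← map_pow, hu, hv, one_mul]
              inv_mem' := fun {u} hu => by
                simp only [Set.mem_setOf_eq, inv_pow, inv_mem_iff] at hu ⊢
                exact hu }
          have hWK : ∀ z, z ∈ A → z ^ p = 1 → z ∈ K.map A.subtype := fun z hz hzp =>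
            ⟨⟨z, hz⟩, by show _ ∈ ⁅A, A⁆.subgroupOf A; rw [show (⟨z, hz⟩ : A) ^ p = 1 from Subtype.ext hzp]; exact one_mem _, rfl⟩
          have hle : A ≤ K.map A.subtype := hAP.trans (sup_le (fun z hz => hWK z hz.1 (hYexp z hz.2))
            (fun z hz => hWK z hz.1 (by
              obtain ⟨y, hy, rfl⟩ := hz.2
              rw [← map_pow, hYexp y hy, map_one])))
          obtain ⟨u, hu, hux⟩ := hle x.2
          rw [show x = u from (Subtype.ext hux).symm]
          exact hu
      exact (map_mono hΦ).trans ((subgroupOf_map_subtype _ _).trans_le inf_le_left)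
    · have hp : IsPGroup p A := Core.pCore_isPGroup.to_le hAO
      haveI := hp.isNilpotent
      have h := map_mono (f := A.subtype) (Core.commutator_le_frattini (G := A))
      rwa [commutator_def, map_commutator, ← MonoidHom.range_eq_map, range_subtype] at h
  · exact le_antisymm ((le_inf (inf_le_left.trans inf_le_right) (inf_le_right.trans inf_le_right)).trans hYY'.le)
      (fun x hx => ⟨⟨hDA hx, hx.1⟩, hDA hx, hD' x hx.1 hx.2⟩)
  · refine le_antisymm ?_ (fun x hx => ⟨hDA hx, hx.2⟩)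
    rintro x ⟨hxA, hxc⟩
    refine ⟨?_, hxc⟩
    have hn : W' ≤ normalizer (W : Set L) := by
      intro z hz
      rw [mem_normalizer_iff]
      intro u
      refine and_congr ⟨fun hu => hAn.conj_mem u hu z, fun hu => ?_⟩ (mem_normalizer_iff.mp (hOY (hAO hz.1)) u)
      have := hAn.conj_mem _ hu z⁻¹
      simpa [mul_assoc] using this
    have hmem := hAP hxA
    rw [← SetLike.mem_coe, coe_mul_of_right_le_normalizer_left _ _ hn] at hmem
    obtain ⟨w, hw, w', hw', rfl⟩ := hmem
    refine mul_mem (mem_inf.mp hw).2 (hD'' w' (mem_inf.mp hw').2 (hcen w' (fun y hy => ?_) (fun y hy => hY'comm y hy w' (mem_inf.mp hw').2)))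
    have h1 := mem_centralizer_iff.mp (hYcomm (mem_inf.mp hw).2) y hy
    have h2 := mem_center_iff.mp hxc y
    calc y * w' = w⁻¹ * (w * y * w') := by group
      _ = w⁻¹ * (y * w * w') := by rw [h1]
      _ = w⁻¹ * (y * (w * w')) := by rw [mul_assoc]
      _ = w⁻¹ * ((w * w') * y) := by rw [h2]
      _ = w' * y := by group

end Cfsg.Agent.S2837
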