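import Cfsg.Statements.S2839
import Cfsg.Agent.LocalStructure.WeaklyClosed
import Cfsg.Agent.LocalStructure.PReduced


set_option autoImplicit false
open Cfsg

set_option linter.all false

namespace Cfsg.Agent.S2839

/-- Let Q be a nontrivial p-subgroup of the finite group H that is a weakly closed subgroup, K a subgroup containing Q and N a normal subgroup of H. Then Q is a weakly closed subgroup of K; every H-conjugate of Q contained in K is a K-conjugate of Q; N_K(Q) contains a Sylow p-subgroup of K; N = N_N(Q)·O^p(N); and QN/N is a weakly closed subgroup of H/N. -/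
theorem result {H : Type*} [Group H] [Finite H] {p : ℕ} [Fact p.Prime] (Q : Subgroup H) (hQp : IsPGroup p ↥Q) (hQ1 : Q ≠ ⊥) (hwc : Cfsg.IsWeaklyClosedSubgroup p Q) (K : Subgroup H) (hQK : Q ≤ K) (N' : Subgroup H) [N'.Normal] : Cfsg.IsWeaklyClosedSubgroup p (Q.subgroupOf K) ∧ (∀ g : H, ((Q : Subgroup H).map (MulAut.conj (g : H)).toMonoidHom) ≤ K → ∃ k ∈ K, ((Q : Subgroup H).map (MulAut.conj (g : H)).toMonoidHom) = ((Q : Subgroup H).map (MulAut.conj (k : H)).toMonoidHom)) ∧ Cfsg.IsParabolic p ((Subgroup.normalizer ((Q : Subgroup H) : Set H)).subgroupOf K) ∧ (N' ⊓ Subgroup.normalizer ((Q : Subgroup H) : Set H)) ⊔ (Cfsg.pResidual p ↥N').map N'.subtype = N' ∧ Cfsg.IsWeaklyClosedSubgroup p (Q.map (QuotientGroup.mk' N')) := by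
  classical
  obtain ⟨S, hS⟩ := (hQp.comap_of_injective K.subtype K.subtype_injective).exists_le_sylow
  set S' : Subgroup H := (S : Subgroup K).map K.subtype with hS'
  have hS'p : IsPGroup p S' := S.isPGroup'.map _
  have hQS : Q ≤ S' := fun x hx => ⟨⟨x, hQK hx⟩, hS hx, rfl⟩
  obtain ⟨T, hT⟩ := hQp.exists_le_sylow
  refine ⟨⟨S, hS, fun g hg => ?_⟩, fun g hg => LocalStructure.wc_exists_conj hQp hwc hQK hg, ?_, ?_, ?_⟩
  · apply Subgroup.map_injective K.subtype_injective
    have e : ((Q.subgroupOf K).map (MulAut.conj g).toMonoidHom).map K.subtype =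
        LocalStructure.cmap (g : H) ((Q.subgroupOf K).map K.subtype) := by
      rw [LocalStructure.cmap, Subgroup.map_map, Subgroup.map_map]
      congr 1
    rw [e, Subgroup.map_subgroupOf_eq_of_le hQK]
    refine LocalStructure.wc_eq hwc hS'p hQS ?_
    have := Subgroup.map_mono (f := K.subtype) hg
    rwa [e, Subgroup.map_subgroupOf_eq_of_le hQK] at this
  · exact ⟨S, fun x hx => LocalStructure.wc_le_normalizer hwc hS'p hQS ⟨x, hx, rfl⟩⟩
  · have hTN : (T : Subgroup H) ≤ Subgroup.normalizer (Q : Set H) :=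
      LocalStructure.wc_le_normalizer hwc T.isPGroup' hT
    refine le_antisymm (sup_le inf_le_left (Subgroup.map_subtype_le _)) ?_
    refine (LocalStructure.le_resOf_sup inf_le_right (T.isPGroup'.to_le inf_le_left)
      (LocalStructure.not_dvd_relIndex_inf T (le_top.trans (Subgroup.normalizer_eq_top (H := N')).ge))).trans ?_
    exact sup_le le_sup_right (le_trans (le_inf inf_le_right (inf_le_left.trans hTN)) le_sup_left)
  · refine ⟨T.mapSurjective (QuotientGroup.mk'_surjective N'), Subgroup.map_mono hT, fun gb hg => ?_⟩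
    obtain ⟨g, rfl⟩ := QuotientGroup.mk'_surjective N' gb
    have e : ∀ x : H, (Q.map (QuotientGroup.mk' N')).map (MulAut.conj (QuotientGroup.mk' N' x)).toMonoidHom =
        (LocalStructure.cmap x Q).map (QuotientGroup.mk' N') := by
      intro x
      rw [LocalStructure.cmap, Subgroup.map_map, Subgroup.map_map]
      congr 1
    rw [e] at hg ⊢
    have h1 : LocalStructure.cmap g Q ≤ (T : Subgroup H) ⊔ N' := by
      refine le_trans ?_ ((Subgroup.comap_map_eq _ _).le.trans (sup_le_sup_left (QuotientGroup.ker_mk' N').le _))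
      rw [← Subgroup.map_le_iff_le_comap]
      exact hg
    obtain ⟨k, hk, hke⟩ := LocalStructure.wc_exists_conj hQp hwc (hT.trans le_sup_left) h1
    obtain ⟨s, hs, n, hn, rfl⟩ := Subgroup.mem_sup_of_normal_right.mp hk
    have hsQ : LocalStructure.cmap s Q = Q :=
      LocalStructure.cmap_eq_iff.mpr (LocalStructure.wc_le_normalizer hwc T.isPGroup' hT hs)
    have hn1 : QuotientGroup.mk' N' (s * n) = QuotientGroup.mk' N' s := by
      rw [map_mul, (QuotientGroup.eq_one_iff n).mpr hn |> fun h : QuotientGroup.mk' N' n = 1 => h, mul_one]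
    rw [hke, ← e, hn1, e, hsQ]

end Cfsg.Agent.S2839
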