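import Cfsg.Statements.S2840
import Cfsg.Agent.LocalStructure.WeaklyClosed


set_option autoImplicit false
open Cfsg

set_option linter.all false

namespace Cfsg.Agent.S2840

/-- Let Q be a nontrivial p-subgroup of the finite group H that is a weakly closed subgroup and K a subgroup containing Q; let K° be the weak closure of Q in K (generated by the H-conjugates of Q inside K). Then K° is generated by the K-conjugates of Q, and K° is the subnormal closure of Q in K. -/
theorem result {H : Type*} [Group H] [Finite H] {p : ℕ} [Fact p.Prime] (Q : Subgroup H) (hQp : IsPGroup p ↥Q) (hQ1 : Q ≠ ⊥) (hwc : Cfsg.IsWeaklyClosedSubgroup p Q) (K : Subgroup H) (hQK : Q ≤ K) (Kc : Subgroup H) (hKc : Kc = Cfsg.weakClosure Q K) : Kc = ⨆ k : ↥K, ((Q : Subgroup H).map (MulAut.conj ((k : H) : H)).toMonoidHom) ∧ Kc = (Cfsg.subnormalClosure (Q.subgroupOf K)).map K.subtype := by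
  classical
  subst hKc
  set U : Subgroup H := ⨆ k : ↥K, LocalStructure.cmap (k : H) Q with hU
  have h1 : Cfsg.weakClosure Q K = U := by
    refine le_antisymm (iSup_le fun g => ?_) (iSup_le fun k => ?_)
    · obtain ⟨k, hk, hke⟩ := LocalStructure.wc_exists_conj hQp hwc hQK g.2
      exact hke.le.trans (le_iSup (fun k : K => LocalStructure.cmap (k : H) Q) ⟨k, hk⟩)
    · exact le_iSup_of_le ⟨(k : H), (LocalStructure.cmap_mono hQK).trans
        (LocalStructure.cmap_eq_self_of_mem k.2).le⟩ le_rfl
  refine ⟨h1, ?_⟩
  rw [h1]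
  have hUK : U ≤ K := iSup_le fun k => (LocalStructure.cmap_mono hQK).trans
    (LocalStructure.cmap_eq_self_of_mem k.2).le
  have hKU : K ≤ Subgroup.normalizer (U : Set H) := by
    intro a ha
    refine Layer.mem_normalizer_of_conj_mem fun x hx => ?_
    have h2 : LocalStructure.cmap a U ≤ U := by
      rw [hU, LocalStructure.cmap, Subgroup.map_iSup]
      refine iSup_le fun k => le_iSup_of_le (⟨a, ha⟩ * k : K) ?_
      exact (LocalStructure.cmap_mul a (k : H) Q).ge
    exact h2 ⟨x, hx, rfl⟩
  refine le_antisymm ?_ ?_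
  · -- every subnormal subgroup of `K` containing `Q` contains all conjugates
    have key : ∀ D : Subgroup K, D.IsSubnormal → Q.subgroupOf K ≤ D →
        ∀ k : K, LocalStructure.cmap (k : H) Q ≤ D.map K.subtype := by
      intro D hD
      induction hD with
      | top =>
        intro _ k
        rw [← MonoidHom.range_eq_map, Subgroup.range_subtype]
        exact (LocalStructure.cmap_mono hQK).trans (LocalStructure.cmap_eq_self_of_mem k.2).le
      | step A B hle hB hN ih =>
        intro hQA k
        have hQA' : Q ≤ A.map K.subtype := fun x hx => ⟨⟨x, hQK hx⟩, hQA hx, rfl⟩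
        obtain ⟨b, hb, hbe⟩ := LocalStructure.wc_exists_conj hQp hwc (hQA'.trans (Subgroup.map_mono hle))
          (ih (hQA.trans hle) k)
        rw [hbe]
        refine (LocalStructure.cmap_mono hQA').trans (le_of_eq ?_)
        refine LocalStructure.cmap_eq_iff.mpr ?_
        have h3 : B.map K.subtype ≤ Subgroup.normalizer ((A.map K.subtype : Subgroup H) : Set H) :=
          (Subgroup.map_mono ((Subgroup.normal_subgroupOf_iff_le_normalizer hle).mp hN)).trans
            (Subgroup.le_normalizer_map _)
        exact h3 hb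
    refine iSup_le fun k => ?_
    intro x hx
    have hxK : x ∈ K := hUK (le_iSup (fun k : K => LocalStructure.cmap (k : H) Q) k hx)
    refine ⟨⟨x, hxK⟩, ?_, rfl⟩
    refine Subgroup.mem_sInf.mpr fun D hD => ?_
    obtain ⟨y, hy, hyx⟩ := key D hD.2 hD.1 k hx
    rwa [← show y = ⟨x, hxK⟩ from Subtype.ext hyx]
  · rw [Subgroup.map_le_iff_le_comap]
    refine sInf_le ⟨fun x hx => ?_, Subgroup.Normal.isSubnormal (Subgroup.normal_subgroupOf_of_le_normalizer hKU)⟩
    exact le_iSup (fun k : K => LocalStructure.cmap (k : H) Q) 1 (by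
      rw [OneMemClass.coe_one, LocalStructure.cmap_one]; exact hx)

end Cfsg.Agent.S2840
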