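import Cfsg.Statements.S2841
import Cfsg.Agent.LocalStructure.WeaklyClosed


set_option autoImplicit false
open Cfsg

set_option linter.all false

namespace Cfsg.Agent.S2841

open scoped commutatorElement

/-- Let Q be a nontrivial p-subgroup of the finite group H that is a weakly closed subgroup and N a normal subgroup of H. Then N = N_N(Q)·[N, Q] and [N, Q] = (Q ∩ [N, Q])·[N, Q, Q]. -/
theorem result {H : Type*} [Group H] [Finite H] {p : ℕ} [Fact p.Prime] (Q : Subgroup H) (hQp : IsPGroup p ↥Q) (hQ1 : Q ≠ ⊥) (hwc : Cfsg.IsWeaklyClosedSubgroup p Q) (N' : Subgroup H) [N'.Normal] : (∀ n : H, n ∈ N' → ∃ a ∈ N' ⊓ Subgroup.normalizer ((Q : Subgroup H) : Set H), ∃ b ∈ ⁅N', Q⁆, n = a * b) ∧ (∀ c : H, c ∈ ⁅N', Q⁆ → ∃ a ∈ Q ⊓ ⁅N', Q⁆, ∃ b ∈ ⁅⁅N', Q⁆, Q⁆, c = a * b) := by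
  set M : Subgroup H := ⁅N', Q⁆ with hM
  have hMN : M ≤ N' := by
    rw [hM, Subgroup.commutator_comm]
    exact (Subgroup.commutator_le_right Q N')
  have hNM : N' ≤ Subgroup.normalizer (M : Set H) := Subgroup.normalizer_commutator_ge_left N' Q
  have hQM : Q ≤ Subgroup.normalizer (M : Set H) := Subgroup.normalizer_commutator_ge_right N' Q
  -- `N' = (N' ∩ N(Q)) [N', Q]`
  have h1 : ∀ n : H, n ∈ N' → ∃ a ∈ N' ⊓ Subgroup.normalizer (Q : Set H), ∃ b ∈ M, n = a * b := by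
    intro n hn
    have hX : LocalStructure.cmap n Q ≤ M ⊔ Q := by
      rintro _ ⟨q, hq, rfl⟩
      show n * q * n⁻¹ ∈ M ⊔ Q
      rw [show n * q * n⁻¹ = ⁅n, q⁆ * q by rw [commutatorElement_def]; group]
      exact Subgroup.mul_mem_sup (Subgroup.commutator_mem_commutator hn hq) hq
    obtain ⟨k, hk, hke⟩ := LocalStructure.wc_exists_conj hQp hwc le_sup_right hX
    obtain ⟨m, hm, q, hq, rfl⟩ := (Coprime.mem_sup_of_le_normalizer hQM).mp hk
    have h2 : LocalStructure.cmap (m⁻¹ * n) Q = Q := by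
      rw [LocalStructure.cmap_mul, hke, LocalStructure.cmap_mul, LocalStructure.cmap_inv_cmap,
        LocalStructure.cmap_eq_self_of_mem hq]
    refine ⟨m⁻¹ * n, ⟨N'.mul_mem (N'.inv_mem (hMN hm)) hn, LocalStructure.cmap_eq_iff.mp h2⟩,
      (m⁻¹ * n)⁻¹ * m * (m⁻¹ * n), ?_, by group⟩
    have := (Subgroup.mem_normalizer_iff.mp (hNM (N'.inv_mem (N'.mul_mem (N'.inv_mem (hMN hm)) hn))) m).mp hm
    simpa using this
  refine ⟨h1, fun c hc => ?_⟩
  set E : Subgroup H := ⁅M, Q⁆ with hE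
  have hQE : Q ≤ Subgroup.normalizer (E : Set H) := Subgroup.normalizer_commutator_ge_right M Q
  have hle : M ≤ E ⊔ (Q ⊓ M) := by
    conv_lhs => rw [hM]
    rw [Subgroup.commutator_le]
    intro n hn q hq
    obtain ⟨a, ha, b, hb, rfl⟩ := h1 n hn
    have haM : a ∈ Subgroup.normalizer (M : Set H) := hNM ha.1
    rw [show ⁅a * b, q⁆ = (a * ⁅b, q⁆ * a⁻¹) * ⁅a, q⁆ by simp only [commutatorElement_def]; group]
    refine Subgroup.mul_mem_sup ?_ ⟨?_, Subgroup.commutator_mem_commutator ha.1 hq⟩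
    · rw [show a * ⁅b, q⁆ * a⁻¹ = ⁅a * b * a⁻¹, a * q * a⁻¹⁆ by simp only [commutatorElement_def]; group]
      exact Subgroup.commutator_mem_commutator ((Subgroup.mem_normalizer_iff.mp haM b).mp hb)
        ((Subgroup.mem_normalizer_iff.mp ha.2 q).mp hq)
    · rw [commutatorElement_def]
      exact Q.mul_mem ((Subgroup.mem_normalizer_iff.mp ha.2 q).mp hq) (Q.inv_mem hq)
  obtain ⟨e, he, d, hd, rfl⟩ := (Coprime.mem_sup_of_le_normalizer (inf_le_left.trans hQE)).mp (hle hc)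
  refine ⟨d, hd, d⁻¹ * e * d, ?_, by group⟩
  have := (Subgroup.mem_normalizer_iff.mp (hQE (Q.inv_mem hd.1)) e).mp he
  simpa using this

end Cfsg.Agent.S2841
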