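import Cfsg.Statements.S2842
import Cfsg.Agent.LocalStructure.WeaklyClosedChar
import Cfsg.Agent.LocalStructure.OmegaAction

set_option autoImplicit false
open Cfsg

set_option linter.all false

namespace Cfsg.Agent.S2842

/-- Let Q be a nontrivial p-subgroup of the finite group H that is a weakly closed subgroup with C_H(Q) ≤ Q, and Q ≤ L ≤ H. Suppose H has characteristic p, or more generally that C_H(y) has characteristic p for some nonidentity y ∈ C_{O_p(L)}(Q). Then [Q, C_H(O_p(L))] ≤ Q ∩ O_p(L), C_H(O_p(L)) is a p-group, and L has characteristic p. -/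
theorem result {H : Type*} [Group H] [Finite H] {p : ℕ} [Fact p.Prime] (Q : Subgroup H) (hQp : IsPGroup p ↥Q) (hQ1 : Q ≠ ⊥) (hwc : Cfsg.IsWeaklyClosedSubgroup p Q) (hCQ : Subgroup.centralizer ((Q : Subgroup H) : Set H) ≤ Q) (L : Subgroup H) (hQL : Q ≤ L) (hyp : Subgroup.centralizer (Cfsg.pCore p H : Set H) ≤ Cfsg.pCore p H ∨ ∃ y : H, y ≠ 1 ∧ y ∈ (Cfsg.pCoreOf p L) ⊓ Subgroup.centralizer ((Q : Subgroup H) : Set H) ∧ Subgroup.centralizer (Cfsg.pCore p ↥(Subgroup.centralizer ({y} : Set H)) : Set ↥(Subgroup.centralizer ({y} : Set H))) ≤ Cfsg.pCore p ↥(Subgroup.centralizer ({y} : Set H))) : ⁅Q, Subgroup.centralizer (((Cfsg.pCoreOf p L) : Subgroup H) : Set H)⁆ ≤ Q ⊓ (Cfsg.pCoreOf p L) ∧ IsPGroup p ↥(Subgroup.centralizer (((Cfsg.pCoreOf p L) : Subgroup H) : Set H)) ∧ Subgroup.centralizer (Cfsg.pCore p ↥L : Set ↥L) ≤ Cfsg.pCore p ↥L := by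
  set P : Subgroup H := Cfsg.pCoreOf p L with hP
  set C : Subgroup H := Subgroup.centralizer (P : Set H) with hC
  suffices h : ∃ W : Subgroup H, IsPGroup p W ∧ Q ≤ Subgroup.normalizer (W : Set H) ∧
      C ≤ Subgroup.normalizer (W : Set H) ∧ C ⊓ Subgroup.centralizer (W : Set H) ≤ W ∧ W ⊓ L ≤ P by
    obtain ⟨W, h1, h2, h3, h4, h5⟩ := h
    obtain ⟨a, b, c⟩ := LocalStructure.wc_centralizer_pCoreOf hQp hwc hCQ hQL h1 h2 h3 h4 h5
    exact ⟨a, b, LocalStructure.charP_iff.mp c⟩
  rcases hyp with hH | ⟨y, -, ⟨hyP, hyQ⟩, hy⟩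
  · refine ⟨Cfsg.pCore p H, Core.pCore_isPGroup, Subgroup.le_normalizer_of_normal,
      Subgroup.le_normalizer_of_normal, inf_le_right.trans hH, ?_⟩
    exact LocalStructure.le_pCoreOf_of_normal inf_le_right
      (Coprime.le_normalizer_inf Subgroup.le_normalizer_of_normal Subgroup.le_normalizer)
      (Core.pCore_isPGroup.to_le inf_le_left)
  set Y : Subgroup H := Subgroup.centralizer ({y} : Set H) with hY
  set M : Subgroup H := Subgroup.normalizer (P : Set H) ⊓ Y with hM
  have hQY : Q ≤ Y := fun q hq =>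
    Subgroup.mem_centralizer_singleton_iff.mpr (Subgroup.mem_centralizer_iff.mp hyQ q hq)
  have hCY : C ≤ Y := fun c hc =>
    Subgroup.mem_centralizer_singleton_iff.mpr (Subgroup.mem_centralizer_iff.mp hc y hyP).symm
  have hQM : Q ≤ M := le_inf (hQL.trans (LocalStructure.le_normalizer_pCoreOf L)) hQY
  have hCM : C ≤ M := le_inf (Subgroup.centralizer_le_normalizer _) hCY
  have hPM : P ⊓ Y ≤ Cfsg.pCoreOf p M := by
    refine LocalStructure.le_pCoreOf_of_normal (le_inf (inf_le_left.trans Subgroup.le_normalizer) inf_le_right) ?_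
      ((LocalStructure.pCoreOf_isPGroup L).to_le inf_le_left)
    exact Coprime.le_normalizer_inf inf_le_left (inf_le_right.trans Subgroup.le_normalizer)
  have hyY : y ∈ Y := Subgroup.mem_centralizer_singleton_iff.mpr rfl
  have hCMY : Subgroup.centralizer (Cfsg.pCoreOf p M : Set H) ≤ Y := fun c hc =>
    Subgroup.mem_centralizer_singleton_iff.mpr
      (Subgroup.mem_centralizer_iff.mp hc y (hPM ⟨hyP, hyY⟩)).symm
  have hW0 : Y ⊓ Subgroup.centralizer (Cfsg.pCoreOf p Y : Set H) ≤ Cfsg.pCoreOf p Y :=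
    LocalStructure.charP_iff.mpr hy
  obtain ⟨-, -, hMchar⟩ := LocalStructure.wc_centralizer_pCoreOf hQp hwc hCQ hQM
    (LocalStructure.pCoreOf_isPGroup Y) (hQY.trans (LocalStructure.le_normalizer_pCoreOf Y))
    (hCMY.trans (LocalStructure.le_normalizer_pCoreOf Y))
    (fun x hx => hW0 ⟨hCMY hx.1, hx.2⟩)
    (LocalStructure.le_pCoreOf_of_normal inf_le_right
      (Coprime.le_normalizer_inf (inf_le_right.trans (LocalStructure.le_normalizer_pCoreOf Y))
        Subgroup.le_normalizer) ((LocalStructure.pCoreOf_isPGroup Y).to_le inf_le_left))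
  have hMC : M ≤ Subgroup.normalizer (C : Set H) := Coprime.le_normalizer_centralizer inf_le_left
  have hCc : LocalStructure.CharP p C := LocalStructure.charP_of_normal hCM hMC hMchar
  have hLN : L ≤ Subgroup.normalizer (P : Set H) := LocalStructure.le_normalizer_pCoreOf L
  have hLC : L ≤ Subgroup.normalizer (C : Set H) := Coprime.le_normalizer_centralizer hLN
  have hLW : L ≤ Subgroup.normalizer (Cfsg.pCoreOf p C : Set H) :=
    LocalStructure.le_normalizer_map_characteristic hLC _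
  refine ⟨Cfsg.pCoreOf p C, LocalStructure.pCoreOf_isPGroup C, hQL.trans hLW,
    LocalStructure.le_normalizer_pCoreOf C, hCc, ?_⟩
  exact LocalStructure.le_pCoreOf_of_normal inf_le_right
    (Coprime.le_normalizer_inf hLW Subgroup.le_normalizer)
    ((LocalStructure.pCoreOf_isPGroup C).to_le inf_le_left)

end Cfsg.Agent.S2842
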