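import Cfsg.Statements.S2843
import Cfsg.Agent.LocalStructure.Large
import Cfsg.Agent.LocalStructure.OmegaAction


set_option autoImplicit false
open Cfsg

set_option linter.all false

namespace Cfsg.Agent.S2843

open scoped commutatorElement

/-- Let Q be a nontrivial large p-subgroup of the finite group H, Q ≤ L ≤ H, and Y a nontrivial p-subgroup of H normalized by L. Let L° be the weak closure of Q in L (generated by the conjugates of Q inside L). Then L° equals the weak closure of Q in L·C_H(Y), and [L°, C_H(Y)] ≤ O_p(L°); in particular C_H(Y) normalizes L°. -/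
theorem result {H : Type*} [Group H] [Finite H] {p : ℕ} [Fact p.Prime] (Q : Subgroup H) (hQp : IsPGroup p ↥Q) (hQ1 : Q ≠ ⊥) (hL : Cfsg.IsLarge Q) (L : Subgroup H) (hQL : Q ≤ L) (Y : Subgroup H) (hYp : IsPGroup p ↥Y) (hY1 : Y ≠ ⊥) (hLY : L ≤ Subgroup.normalizer ((Y : Subgroup H) : Set H)) : Cfsg.weakClosure Q L = Cfsg.weakClosure Q (L ⊔ Subgroup.centralizer ((Y : Subgroup H) : Set H)) ∧ ⁅Cfsg.weakClosure Q L, Subgroup.centralizer ((Y : Subgroup H) : Set H)⁆ ≤ (Cfsg.pCoreOf p (Cfsg.weakClosure Q L)) ∧ Subgroup.centralizer ((Y : Subgroup H) : Set H) ≤ Subgroup.normalizer (((Cfsg.weakClosure Q L) : Subgroup H) : Set H) := by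
  classical
  have hwc := LocalStructure.large_wc hQp hQ1 hL
  set C : Subgroup H := Subgroup.centralizer (Y : Set H) with hC
  have hLC : L ≤ Subgroup.normalizer (C : Set H) := Coprime.le_normalizer_centralizer hLY
  set W : Subgroup H := Cfsg.weakClosure Q L with hW
  have hconj : ∀ g : H, LocalStructure.cmap g Q ≤ L →
      C ≤ Subgroup.normalizer ((LocalStructure.cmap g Q : Subgroup H) : Set H) := fun g hg =>
    LocalStructure.large_centralizer_le_normalizer (LocalStructure.isPGroup_cmap hQp g)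
      (LocalStructure.large_cmap hL g) hYp hY1 (hg.trans hLY)
  have hWL : W ≤ L := iSup_le fun g => g.2
  have hCW : C ≤ Subgroup.normalizer (W : Set H) := by
    intro c hc
    refine Layer.mem_normalizer_of_conj_mem fun x hx => ?_
    have h2 : LocalStructure.cmap c W ≤ W := by
      rw [hW, Cfsg.weakClosure, LocalStructure.cmap, Subgroup.map_iSup]
      refine iSup_le fun g => le_iSup_of_le g (le_of_eq ?_)
      exact LocalStructure.cmap_eq_iff.mpr (hconj g.1 g.2 hc)
    exact h2 ⟨x, hx, rfl⟩
  refine ⟨le_antisymm (iSup_le fun g => le_iSup_of_le ⟨g.1, g.2.trans le_sup_left⟩ le_rfl)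
    (iSup_le fun g => ?_), ?_, hCW⟩
  · obtain ⟨x, hx, hxe⟩ := LocalStructure.wc_exists_conj hQp hwc (hQL.trans le_sup_left) g.2
    obtain ⟨c, hc, l, hl, rfl⟩ := (Coprime.mem_sup_of_le_normalizer hLC).mp (sup_comm L C ▸ hx)
    have hl' : LocalStructure.cmap l Q ≤ L :=
      (LocalStructure.cmap_mono hQL).trans (LocalStructure.cmap_eq_self_of_mem hl).le
    refine le_iSup_of_le ⟨l, hl'⟩ ?_
    show LocalStructure.cmap (g : H) Q ≤ LocalStructure.cmap l Q
    rw [hxe, LocalStructure.cmap_mul, LocalStructure.cmap_eq_iff.mpr (hconj l hl' hc)]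
  · set O : Subgroup H := Cfsg.pCoreOf p W with hO
    have hWO : W ≤ Subgroup.normalizer (O : Set H) := LocalStructure.le_normalizer_pCoreOf W
    have hgen : ∀ g : H, LocalStructure.cmap g Q ≤ L → ⁅LocalStructure.cmap g Q, C⁆ ≤ O := by
      intro g hg
      have hgW : LocalStructure.cmap g Q ≤ W := le_iSup_of_le ⟨g, hg⟩ le_rfl
      set A := LocalStructure.cmap g Q with hA
      have h1 : ⁅A, C⁆ ≤ A ⊓ C := le_inf
        (Subgroup.le_normalizer_iff_commutator_le_left.mp (hconj g hg))
        (by rw [Subgroup.commutator_comm]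
            exact Subgroup.le_normalizer_iff_commutator_le_left.mp (hg.trans hLC))
      refine h1.trans (LocalStructure.le_pCoreOf (inf_le_left.trans hgW) ?_
        ((LocalStructure.isPGroup_cmap hQp g).to_le inf_le_left))
      refine Subgroup.IsSubnormal.trans (K := (W ⊓ C).subgroupOf W) (fun x hx => ⟨x.2, hx.2⟩) ?_
        (Subgroup.Normal.isSubnormal (Subgroup.normal_subgroupOf_of_le_normalizer
          (Coprime.le_normalizer_inf Subgroup.le_normalizer (hWL.trans hLC))))
      refine Subgroup.Normal.isSubnormal (Subgroup.normal_subgroupOf_of_le_normalizer fun x hx => ?_)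
      have hx' : (x : H) ∈ Subgroup.normalizer ((A ⊓ C : Subgroup H) : Set H) :=
        (Coprime.le_normalizer_inf (hconj g hg) Subgroup.le_normalizer : C ≤ _) hx.2
      rw [Subgroup.mem_normalizer_iff]
      intro y
      exact Subgroup.mem_normalizer_iff.mp hx' (y : H)
    rw [Subgroup.commutator_le]
    intro x hx c hc
    suffices h : x ∈ W ∧ ∀ c ∈ C, ⁅x, c⁆ ∈ O from h.2 c hc
    clear hc c
    rw [hW] at hx
    unfold Cfsg.weakClosure at hx
    induction hx using Subgroup.iSup_induction' with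
    | hp i y hy => exact ⟨(le_iSup_of_le (f := fun g : {g : H // LocalStructure.cmap g Q ≤ L} =>
        LocalStructure.cmap (g : H) Q) i le_rfl) hy, fun c hc =>
        hgen i.1 i.2 (Subgroup.commutator_mem_commutator hy hc)⟩
    | h1 => exact ⟨W.one_mem, fun c _ => by rw [commutatorElement_one_left]; exact O.one_mem⟩
    | hmul a b ha hb iha ihb =>
      refine ⟨W.mul_mem iha.1 ihb.1, fun c hc => ?_⟩
      rw [show ⁅a * b, c⁆ = a * ⁅b, c⁆ * a⁻¹ * ⁅a, c⁆ by simp only [commutatorElement_def]; group]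
      exact O.mul_mem ((Subgroup.mem_normalizer_iff.mp (hWO iha.1) _).mp (ihb.2 c hc)) (iha.2 c hc)

end Cfsg.Agent.S2843
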