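import Cfsg.Statements.S2844
import Cfsg.Agent.LocalStructure.Large


set_option autoImplicit false
open Cfsg

set_option linter.all false

namespace Cfsg.Agent.S2844

/-- Let Q be a nontrivial large p-subgroup of the finite group H and Q• = O_p(N_H(Q)). Then for every g ∈ H outside N_H(Q): C_H(Q) ∩ C_H(gQg⁻¹) = 1, C_H(Q•) ∩ C_H(gQ•g⁻¹) = 1, Z(Q) ∩ Z(gQg⁻¹) = 1 and Z(Q•) ∩ Z(gQ•g⁻¹) = 1; moreover N_H(Q) = N_H(Q•) and Q• is large in H. -/
theorem result {H : Type*} [Group H] [Finite H] {p : ℕ} [Fact p.Prime] (Q : Subgroup H) (hQp : IsPGroup p ↥Q) (hQ1 : Q ≠ ⊥) (hL : Cfsg.IsLarge Q) (Qb : Subgroup H) (hQb : Qb = Cfsg.largeBullet p Q) : (∀ g : H, g ∉ Subgroup.normalizer ((Q : Subgroup H) : Set H) → Subgroup.centralizer ((Q : Subgroup H) : Set H) ⊓ Subgroup.centralizer ((((Q : Subgroup H).map (MulAut.conj (g : H)).toMonoidHom) : Subgroup H) : Set H) = ⊥ ∧ Subgroup.centralizer ((Qb : Subgroup H) : Set H) ⊓ Subgroup.centralizer ((((Qb : Subgroup H).map (MulAut.conj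 (g : H)).toMonoidHom) : Subgroup H) : Set H) = ⊥ ∧ (Q ⊓ Subgroup.centralizer ((Q : Subgroup H) : Set H)) ⊓ (((Q : Subgroup H).map (MulAut.conj (g : H)).toMonoidHom) ⊓ Subgroup.centralizer ((((Q : Subgroup H).map (MulAut.conj (g : H)).toMonoidHom) : Subgroup H) : Set H)) = ⊥ ∧ (Qb ⊓ Subgroup.centralizer ((Qb : Subgroup H) : Set H)) ⊓ (((Qb : Subgroup H).map (MulAut.conj (g : H)).toMonoidHom) ⊓ Subgroup.centralizer ((((Qb : Subgroup H).map (MulAut.conj (g : H)).toMonoidHom) : Subgroup H) : Set H)) = ⊥) ∧ Subgroup.normalizer ((Q : Subgroup H) : Set H) = Subgroup.normalizer ((Qb : Subgroup H) : Set H) ∧ Cfsg.IsLarge Qb := by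
  classical
  have hwc := LocalStructure.large_wc hQp hQ1 hL
  set N : Subgroup H := Subgroup.normalizer (Q : Set H) with hN
  have hQQb : Q ≤ Qb := by
    rw [hQb]
    exact LocalStructure.le_pCoreOf_of_normal Subgroup.le_normalizer le_rfl hQp
  have hNN : N = Subgroup.normalizer (Qb : Set H) := by
    refine le_antisymm ?_ ?_
    · rw [hQb]; exact LocalStructure.le_normalizer_pCoreOf N
    · exact LocalStructure.wc_normalizer_le hwc (hQb ▸ LocalStructure.pCoreOf_isPGroup N) hQQb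
  have hCb : Subgroup.centralizer (Qb : Set H) ≤ Subgroup.centralizer (Q : Set H) :=
    Subgroup.centralizer_le (SetLike.coe_subset_coe.mpr hQQb)
  have key : ∀ g : H, g ∉ N → Subgroup.centralizer (Q : Set H) ⊓
      Subgroup.centralizer ((LocalStructure.cmap g Q : Subgroup H) : Set H) = ⊥ := by
    intro g hg
    by_contra hne
    apply hg
    refine LocalStructure.cmap_eq_iff.mp (LocalStructure.wc_eq_of_le_normalizer hQp hwc ?_)
    refine le_trans ?_ (hL.2 _ inf_le_left hne)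
    exact (Subgroup.le_centralizer_iff.mp inf_le_right).trans (Subgroup.centralizer_le_normalizer _)
  have hcb : ∀ g : H, Subgroup.centralizer ((LocalStructure.cmap g Qb : Subgroup H) : Set H) ≤
      Subgroup.centralizer ((LocalStructure.cmap g Q : Subgroup H) : Set H) := fun g =>
    Subgroup.centralizer_le (SetLike.coe_subset_coe.mpr (LocalStructure.cmap_mono hQQb))
  refine ⟨fun g hg => ⟨key g hg, ?_, ?_, ?_⟩, hNN, ?_, fun U hU hU1 => ?_⟩
  · exact le_bot_iff.mp ((inf_le_inf hCb (hcb g)).trans (key g hg).le)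
  · exact le_bot_iff.mp ((inf_le_inf inf_le_right inf_le_right).trans (key g hg).le)
  · exact le_bot_iff.mp ((inf_le_inf (inf_le_right.trans hCb) (inf_le_right.trans (hcb g))).trans (key g hg).le)
  · exact hCb.trans (hL.1.trans hQQb)
  · exact (hL.2 U (hU.trans hCb) hU1).trans hNN.le

end Cfsg.Agent.S2844
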