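import Cfsg.Statements.S2845
import Cfsg.Agent.LocalStructure.Large


set_option autoImplicit false
open Cfsg

set_option linter.all false

namespace Cfsg.Agent.S2845

/-- Let Q be a nontrivial large p-subgroup of the finite group H. Then for every subgroup L ≥ Q with O_p(L) ≠ 1, C_H(O_p(L)) is a p-group and L has characteristic p, and either the weak closure L° of Q in L equals Q or C_H(L°) = 1; for every subgroup R of H containing a Sylow p-subgroup of H with O_p(R) ≠ 1, C_H(O_p(R)) ≤ O_p(R); and H has parabolic characteristic p. -/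
theorem result {H : Type*} [Group H] [Finite H] {p : ℕ} [Fact p.Prime] (Q : Subgroup H) (hQp : IsPGroup p ↥Q) (hQ1 : Q ≠ ⊥) (hL : Cfsg.IsLarge Q) : (∀ L : Subgroup H, Q ≤ L → Cfsg.pCore p ↥L ≠ ⊥ → IsPGroup p ↥(Subgroup.centralizer (((Cfsg.pCoreOf p L) : Subgroup H) : Set H)) ∧ Subgroup.centralizer (Cfsg.pCore p ↥L : Set ↥L) ≤ Cfsg.pCore p ↥L ∧ (Cfsg.weakClosure Q L = Q ∨ Subgroup.centralizer (((Cfsg.weakClosure Q L) : Subgroup H) : Set H) = ⊥)) ∧ (∀ R : Subgroup H, Cfsg.IsParabolic p R → Cfsg.pCore p ↥R ≠ ⊥ → Subgroup.centralizer (((Cfsg.pCoreOf p R) : Subgroup H) : Set H) ≤ (Cfsg.pCoreOf p R)) ∧ Cfsg.IsOfParabolicCharacteristic p H := by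
  classical
  have hwc := LocalStructure.large_wc hQp hQ1 hL
  refine ⟨fun L hQL hne => ?_, fun R hR hne =>
    (LocalStructure.large_parabolic hQp hL hR (LocalStructure.pCoreOf_ne_bot_iff.mpr hne)).1,
    LocalStructure.large_parabolic_charP hQp hL⟩
  obtain ⟨h1, h2⟩ := LocalStructure.large_isPGroup_centralizer hQp hL hQL
    (LocalStructure.pCoreOf_ne_bot_iff.mpr hne)
  refine ⟨h1, LocalStructure.charP_iff.mp h2, ?_⟩
  by_cases hall : ∀ g : H, LocalStructure.cmap g Q ≤ L → LocalStructure.cmap g Q = Q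
  · left
    refine le_antisymm (iSup_le fun g => (hall g.1 g.2).le) ?_
    refine le_iSup_of_le ⟨1, ?_⟩ ?_
    · show LocalStructure.cmap (1 : H) Q ≤ L
      rw [LocalStructure.cmap_one]; exact hQL
    · show Q ≤ LocalStructure.cmap (1 : H) Q
      rw [LocalStructure.cmap_one]
  · right
    push_neg at hall
    obtain ⟨g, hgL, hgne⟩ := hall
    have hQW : Q ≤ Cfsg.weakClosure Q L := by
      refine le_iSup_of_le ⟨1, ?_⟩ ?_
      · show LocalStructure.cmap (1 : H) Q ≤ L
        rw [LocalStructure.cmap_one]; exact hQL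
      · show Q ≤ LocalStructure.cmap (1 : H) Q
        rw [LocalStructure.cmap_one]
    have hgW : LocalStructure.cmap g Q ≤ Cfsg.weakClosure Q L := le_iSup_of_le ⟨g, hgL⟩ le_rfl
    set U : Subgroup H := Subgroup.centralizer ((Cfsg.weakClosure Q L : Subgroup H) : Set H) with hU
    by_contra hU1
    refine hgne (LocalStructure.wc_eq_of_le_normalizer hQp hwc ?_)
    refine le_trans ?_ (hL.2 U (Subgroup.centralizer_le (SetLike.coe_subset_coe.mpr hQW)) hU1)
    refine le_trans ?_ (Subgroup.centralizer_le_normalizer _)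
    rw [Subgroup.le_centralizer_iff]
    exact Subgroup.centralizer_le (SetLike.coe_subset_coe.mpr hgW)

end Cfsg.Agent.S2845
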