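import Cfsg.Statements.S2846
import Cfsg.Agent.LocalStructure.FrakMExists
import Cfsg.Agent.S2843

set_option autoImplicit false
open Cfsg

set_option linter.all false

namespace Cfsg.Agent.S2846

/-- Let Q be a nontrivial large p-subgroup of the finite group H, S a Sylow p-subgroup containing Q, and L a subgroup containing S with O_p(L) ≠ 1 and C_H(O_p(L)) ≤ O_p(L). Then there are a subgroup M containing S having the basic property (M ∈ 𝔐_H, writing Y_X for the largest p-reduced normal subgroup of X and 𝓛_H for the set of subgroups X with O_p(X) ≠ 1 and C_H(O_p(X)) ≤ O_p(X): M ∈ 𝓛_H, M·C_H(Y_M) is the only maximal member of 𝓛_H containing M and its largest p-reduced normal subgroup is again Y_M, C_M(Y_M) is p-closed, and the image of C_M(Y_M) in M/O_p(M) lies in the Frattini subgroup of M/O_p(M)) and a subgroup L* with S ≤ L* ≤ M, O_p(L*) ≠ 1, C_H(O_p(L*)) ≤ O_p(L*), such that L·C_H(Y_L) = L*·C_H(Y_L), the weak closures of Q in L and in L* agree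 and lie in that of M, and Y_L = Y_{L*} ≤ Y_M. If moreover Q is not normal in L, then Q is normal in neither L* nor M. -/
theorem result {H : Type*} [Group H] [Finite H] {p : ℕ} [Fact p.Prime] (Q : Subgroup H) (hQp : IsPGroup p ↥Q) (hQ1 : Q ≠ ⊥) (hLg : Cfsg.IsLarge Q) (S : Sylow p H) (hQS : Q ≤ (S : Subgroup H)) (L : Subgroup H) (hSL : (S : Subgroup H) ≤ L) (hL : L ∈ Cfsg.charPSubgroups p H) : ∃ M Ls : Subgroup H, (S : Subgroup H) ≤ M ∧ Cfsg.IsInFrakM p M ∧ (S : Subgroup H) ≤ Ls ∧ Ls ≤ M ∧ Ls ∈ Cfsg.charPSubgroups p H ∧ L ⊔ Subgroup.centralizer (((Cfsg.largestPReducedOf p L) : Subgroup H) : Set H) = Ls ⊔ Subgroup.centralizer (((Cfsg.largestPReducedOf p L) : Subgroup H) : Set H) ∧ Cfsg.weakClosure Q L = Cfsg.weakClosure Q Ls ∧ Cfsg.weakClosure Q Ls ≤ Cfsg.weakClosure Q M ∧ (Cfsg.largestPReducedOf p L) = (Cfsg.largestPReducedOf p Ls) ∧ (Cfsg.largestPReducedOf p Ls) ≤ (Cfsg.largestPReducedOf p M) ∧ (¬ L ≤ Subgroup.normalizer ((Q : Subgroup H) : Set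 H) → ¬ Ls ≤ Subgroup.normalizer ((Q : Subgroup H) : Set H) ∧ ¬ M ≤ Subgroup.normalizer ((Q : Subgroup H) : Set H)) := by
  obtain ⟨M, Ls, hSM, hM, hSLs, hLsM, hLs, hY, hYM, hfac⟩ :=
    LocalStructure.exists_frakM (LocalStructure.large_parabolic_charP hQp hLg) S hSL hL
  set Y := Cfsg.largestPReducedOf p L with hYdef
  have hYp : IsPGroup p Y := Thompson.ea_isPGroup (LocalStructure.reducedIn_largest L).ea
  have hY1 : Y ≠ ⊥ := by
    intro e
    refine (LocalStructure.charPSubgroups_iff.mp hL).1 ?_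
    have hc := LocalStructure.charP_of_mem_charPSubgroups hL
    by_contra hne
    have hZ := LocalStructure.omegaZ_le_largestOf S hSL hc
    rw [← hYdef, e, le_bot_iff] at hZ
    have hT1 : (S : Subgroup H) ≠ ⊥ := fun e => hQ1 (le_bot_iff.mp (e ▸ hQS))
    have h1 := LocalStructure.inf_centralizer_ne_bot S.2 S.2 Subgroup.le_normalizer hT1
    set W : Subgroup H := (S : Subgroup H) ⊓ Subgroup.centralizer ((S : Subgroup H) : Set H) with hW
    haveI : Nontrivial W := (Subgroup.nontrivial_iff_ne_bot W).mpr h1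
    obtain ⟨n, hn0, hn⟩ := (IsPGroup.nontrivial_iff_card (S.2.to_le inf_le_left : IsPGroup p W)).mp inferInstance
    obtain ⟨⟨z, hz⟩, hzo⟩ := exists_prime_orderOf_dvd_card' (G := W) p (hn ▸ dvd_pow_self p hn0.ne')
    rw [← Subgroup.orderOf_coe] at hzo
    have hzo' : orderOf z = p := hzo
    have : z ∈ LocalStructure.omegaZ p (S : Subgroup H) :=
      LocalStructure.mem_omegaZ_iff.mpr ⟨hz.1, hz.2, hzo' ▸ pow_orderOf_eq_one z⟩
    rw [hZ, Subgroup.mem_bot] at this
    exact (Fact.out : p.Prime).ne_one (by rw [← hzo', this, orderOf_one])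
  have hLY : L ≤ Subgroup.normalizer (Y : Set H) := (LocalStructure.reducedIn_largest L).le_normalizer
  have hLsY : Ls ≤ Subgroup.normalizer (Y : Set H) := hY ▸ (LocalStructure.reducedIn_largest Ls).le_normalizer
  have e1 := (Cfsg.Agent.S2843.result Q hQp hQ1 hLg L (hQS.trans hSL) Y hYp hY1 hLY).1
  have e2 := (Cfsg.Agent.S2843.result Q hQp hQ1 hLg Ls (hQS.trans hSLs) Y hYp hY1 hLsY).1
  refine ⟨M, Ls, hSM, hM, hSLs, hLsM, hLs, hfac, by rw [e1, e2, hfac], ?_, hY, hY ▸ hYM, fun hn => ?_⟩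
  · exact iSup_le fun g => le_iSup_of_le (⟨g.1, g.2.trans hLsM⟩) le_rfl
  · have h1 : ¬ Ls ≤ Subgroup.normalizer (Q : Set H) := fun h => hn (le_sup_left.trans (hfac.le.trans
      (sup_le h (LocalStructure.large_centralizer_le_normalizer hQp hLg hYp hY1 ((hQS.trans hSL).trans hLY)))))
    exact ⟨h1, fun h => h1 (hLsM.trans h)⟩

end Cfsg.Agent.S2846
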