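import Cfsg.Statements.S2848
import Cfsg.Agent.LocalStructure.Asymmetric

set_option autoImplicit false
open Cfsg

set_option linter.all false

namespace Cfsg.Agent.S2848

/-- Standing hypotheses: G a finite group, S a Sylow p-subgroup, Q a nontrivial large p-subgroup of G contained in S (C_G(Q) ≤ Q and N_G(U) ≤ N_G(Q) for all nontrivial U ≤ C_G(Q)), and M a subgroup containing S with the basic property (M ∈ 𝔐_G(S)); Y_M denotes the largest p-reduced normal subgroup of M and M† = M·C_G(Y_M). Then O_p(M) is a weakly closed subgroup of M† (for p): it is the only M†-conjugate of itself inside some Sylow p-subgroup of M† containing it. -/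
theorem result {G : Type*} [Group G] [Finite G] {p : ℕ} [Fact p.Prime] (S : Sylow p G) (Q : Subgroup G) (hQp : IsPGroup p ↥Q) (hQ1 : Q ≠ ⊥) (hQS : Q ≤ (S : Subgroup G)) (hQ : Cfsg.IsLarge Q) (M : Subgroup G) (hSM : (S : Subgroup G) ≤ M) (hM : Cfsg.IsInFrakM p M) : Cfsg.IsWeaklyClosedSubgroup p (((Cfsg.pCoreOf p M)).subgroupOf (M ⊔ Subgroup.centralizer (((Cfsg.largestPReducedOf p M) : Subgroup G) : Set G))) := by
  set O := Cfsg.pCoreOf p M with hO
  set D := M ⊔ Subgroup.centralizer (((Cfsg.largestPReducedOf p M) : Subgroup G) : Set G) with hD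
  have hSd : (S : Subgroup G) ≤ D := hSM.trans le_sup_left
  refine ⟨S.subtype hSd, fun x hx => LocalStructure.frakM_pCoreOf_le S hSM hx, fun g hg => ?_⟩
  have hOD : O ≤ D := (LocalStructure.pCoreOf_le M).trans le_sup_left
  have hmap : (O.subgroupOf D).map (MulAut.conj g).toMonoidHom =
      (LocalStructure.cmap (g : G) O).subgroupOf D := by
    ext x
    rw [Subgroup.mem_subgroupOf]
    constructor
    · rintro ⟨y, hy, rfl⟩
      exact ⟨y, hy, rfl⟩
    · rintro ⟨y, hy, hyx⟩
      exact ⟨⟨y, hOD hy⟩, hy, Subtype.ext hyx⟩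
  rw [hmap] at hg ⊢
  rw [LocalStructure.frakM_conj_pCoreOf S hSM hM g.2 ?_]
  rintro _ ⟨y, hy, rfl⟩
  exact hg (show (⟨(g : G) * y * (g : G)⁻¹, D.mul_mem (D.mul_mem g.2 (hOD hy)) (D.inv_mem g.2)⟩ : D) ∈
    (LocalStructure.cmap (g : G) O).subgroupOf D from ⟨y, hy, rfl⟩)

end Cfsg.Agent.S2848
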