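import Cfsg.Statements.S2849
import Cfsg.Agent.LocalStructure.Asymmetric

set_option autoImplicit false
open Cfsg

set_option linter.all false

namespace Cfsg.Agent.S2849

/-- Standing hypotheses: G a finite group, S a Sylow p-subgroup, Q a nontrivial large p-subgroup of G contained in S (C_G(Q) ≤ Q and N_G(U) ≤ N_G(Q) for all nontrivial U ≤ C_G(Q)), and M a subgroup containing S with the basic property (M ∈ 𝔐_G(S)); Y_M denotes the largest p-reduced normal subgroup of M and M† = M·C_G(Y_M). Suppose Y_M is asymmetric in G. Then for every subgroup R with Y_M ≤ R ≤ M†, the normal closure of Y_M in N_G(R) is elementary abelian. -/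
theorem result {G : Type*} [Group G] [Finite G] {p : ℕ} [Fact p.Prime] (S : Sylow p G) (Q : Subgroup G) (hQp : IsPGroup p ↥Q) (hQ1 : Q ≠ ⊥) (hQS : Q ≤ (S : Subgroup G)) (hQ : Cfsg.IsLarge Q) (M : Subgroup G) (hSM : (S : Subgroup G) ≤ M) (hM : Cfsg.IsInFrakM p M) (hasym : ¬ Cfsg.IsSymmetricIn (Cfsg.largestPReducedOf p M)) (R : Subgroup G) (hYR : (Cfsg.largestPReducedOf p M) ≤ R) (hRM : R ≤ (M ⊔ Subgroup.centralizer (((Cfsg.largestPReducedOf p M) : Subgroup G) : Set G))) : Cfsg.IsElementaryAbelian p ((Subgroup.normalClosure ((((Cfsg.largestPReducedOf p M)).subgroupOf (Subgroup.normalizer ((R : Subgroup G) : Set G)) : Subgroup ↥(Subgroup.normalizer ((R : Subgroup G) : Set G))) : Set ↥(Subgroup.normalizer ((R : Subgroup G) : Set G)))).map (Subgroup.normalizer ((R : Subgroup G) : Set G)).subtype) := by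
  set Y := Cfsg.largestPReducedOf p M with hY
  set N := Subgroup.normalizer (R : Set G) with hN
  have hRY : R ≤ Subgroup.normalizer (Y : Set G) := hRM.trans (LocalStructure.dagger_le_normalizer_largest M)
  have hYN : Y ≤ N := hYR.trans Subgroup.le_normalizer
  have hea := (LocalStructure.reducedIn_largest (p := p) M).ea
  have hmap : ∀ h : ↥N, LocalStructure.cmap (h : G) Y ≤ R := fun h =>
    (LocalStructure.cmap_mono hYR).trans (LocalStructure.cmap_eq_iff.mpr h.2).le
  have hcomm : ∀ h : ↥N, LocalStructure.cmap (h : G) Y ≤ Subgroup.centralizer (Y : Set G) := by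
    intro h
    refine LocalStructure.asym_le_centralizer hasym ((hmap h).trans hRY) ?_
    rw [LocalStructure.normalizer_cmap]
    refine hYR.trans ?_
    conv_lhs => rw [← LocalStructure.cmap_eq_iff.mpr h.2]
    exact LocalStructure.cmap_mono hRY
  have hmap' : (Subgroup.normalClosure ((Y.subgroupOf N : Subgroup ↥N) : Set ↥N)).map N.subtype ≤
      ⨆ h : ↥N, LocalStructure.cmap (h : G) Y := by
    rw [Subgroup.map_le_iff_le_comap]
    rw [Subgroup.normalClosure, Subgroup.closure_le]
    intro x hx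
    rw [Group.mem_conjugatesOfSet_iff] at hx
    obtain ⟨a, ha, hax⟩ := hx
    obtain ⟨c, rfl⟩ := isConj_iff.mp hax
    exact Subgroup.mem_iSup_of_mem c ⟨(a : G), ha, rfl⟩
  refine Thompson.ea_mono ?_ hmap'
  have hpair : ∀ a b : ↥N, LocalStructure.cmap (a : G) Y ≤ Subgroup.centralizer (LocalStructure.cmap (b : G) Y : Set G) := by
    intro a b
    have h1 := LocalStructure.cmap_mono (g := (b : G)) (hcomm (b⁻¹ * a))
    rwa [← LocalStructure.centralizer_cmap, Subgroup.coe_mul, Subgroup.coe_inv, LocalStructure.cmap_mul,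
      LocalStructure.cmap_cmap_inv] at h1
  have hcom : ∀ x ∈ (⨆ h : ↥N, LocalStructure.cmap (h : G) Y),
      x ∈ Subgroup.centralizer ((⨆ h : ↥N, LocalStructure.cmap (h : G) Y : Subgroup G) : Set G) := by
    intro x hx
    refine (iSup_le (fun a => ?_) : (⨆ h : ↥N, LocalStructure.cmap (h : G) Y) ≤ _) hx
    rw [Subgroup.le_centralizer_iff]
    exact iSup_le fun b => hpair b a
  refine ⟨⟨⟨fun u v => Subtype.ext (Subgroup.mem_centralizer_iff.mp (hcom v v.2) u u.2)⟩⟩, fun x hx => ?_⟩
  induction hx using Subgroup.iSup_induction' with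
  | hp i y hy =>
    obtain ⟨z, hz, rfl⟩ := hy
    rw [← map_pow, hea.2 z hz, map_one]
  | h1 => exact one_pow p
  | hmul a b ha hb iha ihb =>
    have hc : Commute a b := (Subgroup.mem_centralizer_iff.mp (hcom b hb) a ha)
    rw [hc.mul_pow, iha, ihb, one_mul]

end Cfsg.Agent.S2849
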