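import Cfsg.Statements.S2850
import Cfsg.Agent.LocalStructure.Asymmetric

set_option autoImplicit false
open Cfsg

set_option linter.all false

namespace Cfsg.Agent.S2850

open scoped commutatorElement

/-- Standing hypotheses: G a finite group, S a Sylow p-subgroup, Q a nontrivial large p-subgroup of G contained in S (C_G(Q) ≤ Q and N_G(U) ≤ N_G(Q) for all nontrivial U ≤ C_G(Q)), and M a subgroup containing S with the basic property (M ∈ 𝔐_G(S)); Y_M denotes the largest p-reduced normal subgroup of M and M† = M·C_G(Y_M). Suppose Y_M is asymmetric in G. Then N_G(L) ≤ N_G(O_p(M)) ≤ M† for every p-subgroup L containing O_p(M); O_p(M) is a weakly closed subgroup of G; for every subgroup L containing O_p(M), L ∩ M† contains a Sylow p-subgroup of L; and two elements of Y_M conjugate in G are conjugate in M. -/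
theorem result {G : Type*} [Group G] [Finite G] {p : ℕ} [Fact p.Prime] (S : Sylow p G) (Q : Subgroup G) (hQp : IsPGroup p ↥Q) (hQ1 : Q ≠ ⊥) (hQS : Q ≤ (S : Subgroup G)) (hQ : Cfsg.IsLarge Q) (M : Subgroup G) (hSM : (S : Subgroup G) ≤ M) (hM : Cfsg.IsInFrakM p M) (hasym : ¬ Cfsg.IsSymmetricIn (Cfsg.largestPReducedOf p M)) : (∀ L : Subgroup G, IsPGroup p ↥L → (Cfsg.pCoreOf p M) ≤ L → Subgroup.normalizer ((L : Subgroup G) : Set G) ≤ Subgroup.normalizer (((Cfsg.pCoreOf p M) : Subgroup G) : Set G) ∧ Subgroup.normalizer (((Cfsg.pCoreOf p M) : Subgroup G) : Set G) ≤ (M ⊔ Subgroup.centralizer (((Cfsg.largestPReducedOf p M) : Subgroup G) : Set G))) ∧ Cfsg.IsWeaklyClosedSubgroup p (Cfsg.pCoreOf p M) ∧ (∀ L : Subgroup G, (Cfsg.pCoreOf p M) ≤ L → Cfsg.IsParabolic p ((L ⊓ (M ⊔ Subgroup.centralizer (((Cfsg.largestPReducedOf p M) : Subgroup G) : Set G))).subgroupOf L)) ∧ (∀ x ∈ (Cfsg.largestPReducedOf p M), ∀ g : G, g * x * g⁻¹ ∈ (Cfsg.largestPReducedOf p M) → ∃ m ∈ M, m * x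 * m⁻¹ = g * x * g⁻¹) := by
  set O := Cfsg.pCoreOf p M with hO
  set Y := Cfsg.largestPReducedOf p M with hY
  have hNd : Subgroup.normalizer (O : Set G) ≤ M ⊔ Subgroup.centralizer (Y : Set G) :=
    LocalStructure.normalizer_le_dagger hQp hQ S hSM hM (LocalStructure.pCoreOf_isPGroup M)
      (LocalStructure.charPSubgroups_iff.mp hM.1).1 (LocalStructure.le_normalizer_pCoreOf M)
  have hmain : ∀ L : Subgroup G, IsPGroup p L → O ≤ L →
      Subgroup.normalizer (L : Set G) ≤ Subgroup.normalizer (O : Set G) := fun L hL hOL =>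
    LocalStructure.asym_normalizer_le hQp hQ S hSM hM hasym hL hOL
      ((LocalStructure.asym_le_normalizer hQp hQ S hSM hM hasym hL hOL).trans hNd)
  have hwc : Cfsg.IsWeaklyClosedSubgroup p O :=
    LocalStructure.wc_of_normalizer_le (LocalStructure.pCoreOf_isPGroup M) fun R hR hOR => hmain R hR hOR
  refine ⟨fun L hL hOL => ⟨hmain L hL hOL, hNd⟩, hwc, fun L hOL => ?_, fun x hx g hgx => ?_⟩
  · obtain ⟨P, hP⟩ := ((LocalStructure.pCoreOf_isPGroup M).comap_of_injective L.subtype L.subtype_injective :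
      IsPGroup p (O.subgroupOf L)).exists_le_sylow
    refine ⟨P, fun y hy => ⟨y.2, hNd ?_⟩⟩
    exact LocalStructure.asym_le_normalizer hQp hQ S hSM hM hasym (P.2.map L.subtype)
      (fun o ho => ⟨⟨o, hOL ho⟩, hP (show (⟨o, hOL ho⟩ : L) ∈ O.subgroupOf L from ho), rfl⟩) ⟨y, hy, rfl⟩
  · set y := g * x * g⁻¹ with hy
    set C := Subgroup.centralizer ({y} : Set G) with hC
    have hOC : O ≤ C := fun o ho => Subgroup.mem_centralizer_singleton_iff.mpr
      (Subgroup.mem_centralizer_iff.mp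
        (LocalStructure.pCoreOf_le_centralizer (LocalStructure.reducedIn_largest M) ho) y hgx).symm
    have hgOC : LocalStructure.cmap g O ≤ C := by
      rintro _ ⟨o, ho, rfl⟩
      rw [Subgroup.mem_centralizer_singleton_iff]
      show g * o * g⁻¹ * y = y * (g * o * g⁻¹)
      have hc := Subgroup.mem_centralizer_iff.mp
        (LocalStructure.pCoreOf_le_centralizer (LocalStructure.reducedIn_largest M) ho) x hx
      calc g * o * g⁻¹ * y = g * (o * x) * g⁻¹ := by rw [hy]; group
        _ = g * (x * o) * g⁻¹ := by rw [hc]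
        _ = y * (g * o * g⁻¹) := by rw [hy]; group
    obtain ⟨c, hc, hce⟩ := LocalStructure.wc_exists_conj (LocalStructure.pCoreOf_isPGroup M) hwc hOC hgOC
    have hn : c⁻¹ * g ∈ Subgroup.normalizer (O : Set G) := LocalStructure.cmap_eq_iff.mp (by
      rw [LocalStructure.cmap_mul, hce, LocalStructure.cmap_inv_cmap])
    have hMC : M ≤ Subgroup.normalizer ((Subgroup.centralizer (Y : Set G) : Subgroup G) : Set G) :=
      le_sup_left.trans (LocalStructure.dagger_le_normalizer_centralizer M)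
    obtain ⟨c', hc', m, hm, e⟩ := (Coprime.mem_sup_of_le_normalizer hMC).mp
      (show c⁻¹ * g ∈ Subgroup.centralizer (Y : Set G) ⊔ M by rw [sup_comm]; exact hNd hn)
    refine ⟨m, hm, ?_⟩
    have hmx : m * x * m⁻¹ ∈ Y :=
      (Subgroup.mem_normalizer_iff.mp ((LocalStructure.reducedIn_largest (p := p) M).le_normalizer hm) x).mp hx
    have h1 : c' * (m * x * m⁻¹) * c'⁻¹ = m * x * m⁻¹ := by
      rw [← Subgroup.mem_centralizer_iff.mp hc' _ hmx, mul_assoc, mul_inv_cancel, mul_one]
    have hcy := Subgroup.mem_centralizer_singleton_iff.mp (C.inv_mem hc)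
    calc m * x * m⁻¹ = c' * (m * x * m⁻¹) * c'⁻¹ := h1.symm
      _ = (c' * m) * x * (c' * m)⁻¹ := by group
      _ = (c⁻¹ * g) * x * (c⁻¹ * g)⁻¹ := by rw [e]
      _ = c⁻¹ * y * c := by rw [hy]; group
      _ = y * c⁻¹ * c := by rw [hcy]
      _ = g * x * g⁻¹ := by rw [hy]; group

end Cfsg.Agent.S2850
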