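import Cfsg.Statements.S2851
import Cfsg.Agent.LocalStructure.Asymmetric
import Cfsg.Agent.Layer.FStar
import Cfsg.Agent.S2850

set_option autoImplicit false
open Cfsg

set_option linter.all false

namespace Cfsg.Agent.S2851

open scoped commutatorElement

/-- Standing hypotheses: G a finite group, S a Sylow p-subgroup, Q a nontrivial large p-subgroup of G contained in S, M a subgroup containing S with the basic property (M ∈ 𝔐_G(S)); Y_M the largest p-reduced normal subgroup of M and M† = M·C_G(Y_M). Let F be the preimage in M† of the generalized Fitting subgroup of M†/C_{M†}(Y_M). If Y_M is asymmetric in G and H is a subgroup of characteristic p containing F, then Y_M ≤ Y_H. -/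
theorem result {G : Type*} [Group G] [Finite G] {p : ℕ} [Fact p.Prime] (S : Sylow p G) (Q : Subgroup G) (hQp : IsPGroup p ↥Q) (hQ1 : Q ≠ ⊥) (hQS : Q ≤ (S : Subgroup G)) (hQ : Cfsg.IsLarge Q) (M : Subgroup G) (hSM : (S : Subgroup G) ≤ M) (hM : Cfsg.IsInFrakM p M) (hasym : ¬ Cfsg.IsSymmetricIn (Cfsg.largestPReducedOf p M)) [hn : ((Subgroup.centralizer (((Cfsg.largestPReducedOf p M) : Subgroup G) : Set G)).subgroupOf (M ⊔ Subgroup.centralizer (((Cfsg.largestPReducedOf p M) : Subgroup G) : Set G))).Normal] (F : Subgroup G) (hF : F = ((Cfsg.generalizedFittingSubgroup (↥(M ⊔ Subgroup.centralizer (((Cfsg.largestPReducedOf p M) : Subgroup G) : Set G)) ⧸ (Subgroup.centralizer (((Cfsg.largestPReducedOf p M) : Subgroup G) : Set G)).subgroupOf (M ⊔ Subgroup.centralizer (((Cfsg.largestPReducedOf p M) : Subgroup G) : Set G)))).comap (QuotientGroup.mk' ((Subgroup.centralizer (((Cfsg.largestPReducedOf p M) : Subgroup G) : Set G)).subgroupOf (M ⊔ Subgroup.centralizer (((Cfsg.largestPReducedOf p M) : Subgroup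 G) : Set G))))).map ((M ⊔ Subgroup.centralizer (((Cfsg.largestPReducedOf p M) : Subgroup G) : Set G))).subtype) (H : Subgroup G) (hFH : F ≤ H) (hH : Subgroup.centralizer (Cfsg.pCore p ↥H : Set ↥H) ≤ Cfsg.pCore p ↥H) : (Cfsg.largestPReducedOf p M) ≤ Cfsg.largestPReducedOf p H := by
  set Y := Cfsg.largestPReducedOf p M with hY
  set D := M ⊔ Subgroup.centralizer (Y : Set G) with hD
  set N : Subgroup ↥D := (Subgroup.centralizer (Y : Set G)).subgroupOf D with hN
  set f := QuotientGroup.mk' N with hf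
  have hsurj : Function.Surjective f := QuotientGroup.mk'_surjective N
  have hYD : LocalStructure.ReducedIn p D Y := by
    have h := LocalStructure.reducedIn_largest (p := p) D
    rwa [← hM.2.2.2.1] at h
  -- `O_p(D/C(Y)) = 1`
  have hcore : Cfsg.pCore p (↥D ⧸ N) = ⊥ := by
    set K : Subgroup ↥D := (Cfsg.pCore p (↥D ⧸ N)).comap f with hK
    have hKn : K.Normal := Subgroup.Normal.comap inferInstance f
    have h1 : K.map D.subtype ≤ Subgroup.centralizer (Y : Set G) := by
      refine hYD.reduced _ (Subgroup.map_subtype_le _) (LocalStructure.le_normalizer_map_of_normal D K) ?_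
      rintro _ ⟨g, hg, rfl⟩ hgc
      obtain ⟨k, hk⟩ := IsPGroup.iff_orderOf.mp (Core.pCore_isPGroup (p := p) (G := ↥D ⧸ N)) ⟨f g, hg⟩
      rw [← Subgroup.orderOf_coe] at hk
      have hk' : orderOf (f g) = p ^ k := hk
      have h2 : orderOf (f g) ∣ orderOf g := orderOf_map_dvd f g
      have h3 := Nat.eq_one_of_dvd_coprimes
        ((show (orderOf g).Coprime p by rwa [← orderOf_injective D.subtype D.subtype_injective g]).pow_right k)
        h2 hk'.dvd
      rw [orderOf_eq_one_iff] at h3
      exact (QuotientGroup.eq_one_iff g).mp h3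
    rw [eq_bot_iff]
    intro x hx
    obtain ⟨g, rfl⟩ := hsurj x
    exact (QuotientGroup.eq_one_iff g).mpr (h1 ⟨g, hx, rfl⟩)
  set FF := Cfsg.generalizedFittingSubgroup (↥D ⧸ N) with hFF
  have hzero : ∀ A : Subgroup (↥D ⧸ N), IsPGroup p A → FF ≤ Subgroup.normalizer (A : Set (↥D ⧸ N)) → A = ⊥ := by
    intro A hA hn
    haveI : FF.Normal := inferInstance
    have hAF : A ⊓ FF = ⊥ := by
      rw [eq_bot_iff, ← hcore]
      refine Layer.subnormal_le_pCore (Subgroup.IsSubnormal.trans inf_le_right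
        (Subgroup.Normal.isSubnormal (Subgroup.normal_subgroupOf_of_le_normalizer
          (Coprime.le_normalizer_inf hn Subgroup.le_normalizer))) (Subgroup.Normal.isSubnormal inferInstance))
        (hA.to_le inf_le_left)
    have h1 : ⁅A, FF⁆ ≤ A ⊓ FF := le_inf (Subgroup.le_normalizer_iff_commutator_le_left.mp hn)
      (Subgroup.commutator_le_right A FF)
    rw [hAF, le_bot_iff, Subgroup.commutator_eq_bot_iff_le_centralizer] at h1
    have h2 : A ≤ FF := h1.trans Layer.centralizer_generalizedFitting_le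
    rw [← hAF, inf_eq_left.mpr h2]
  have hFD : F ≤ D := hF ▸ Subgroup.map_subtype_le _
  have hmem : ∀ x : ↥D, (x : G) ∈ F ↔ f x ∈ FF := by
    intro x
    rw [hF]
    constructor
    · rintro ⟨y, hy, hyx⟩
      exact (Subtype.ext hyx : y = x) ▸ hy
    · exact fun h => ⟨x, h, rfl⟩
  have hCF : Subgroup.centralizer (Y : Set G) ≤ F := fun c hc =>
    (hmem ⟨c, Subgroup.mem_sup_right hc⟩).mpr (by
      rw [show f ⟨c, Subgroup.mem_sup_right hc⟩ = 1 from (QuotientGroup.eq_one_iff _).mpr hc]
      exact one_mem _)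
  -- a subgroup normalized by `F` acting as a `p`-group on `Y` centralizes `Y`
  have key : ∀ A : Subgroup G, A ≤ D → F ≤ Subgroup.normalizer (A : Set G) →
      (∀ g ∈ A, (orderOf g).Coprime p → g ∈ Subgroup.centralizer (Y : Set G)) →
      A ≤ Subgroup.centralizer (Y : Set G) := by
    intro A hAD hFA hg
    have h1 : IsPGroup p ((A.subgroupOf D).map f) := LocalStructure.isPGroup_map_of_coprime_mem N
      fun g hgA hgc => hg (g : G) hgA (by rwa [Subgroup.orderOf_coe])
    have h2 : FF ≤ Subgroup.normalizer (((A.subgroupOf D).map f : Subgroup (↥D ⧸ N)) : Set (↥D ⧸ N)) := by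
      intro x hx
      obtain ⟨y, rfl⟩ := hsurj x
      refine Subgroup.le_normalizer_map f ⟨y, ?_, rfl⟩
      have hy : (y : G) ∈ Subgroup.normalizer (A : Set G) := hFA ((hmem y).mpr hx)
      rw [SetLike.mem_coe, Subgroup.mem_normalizer_iff]
      intro z
      exact Subgroup.mem_normalizer_iff.mp hy (z : G)
    intro a ha
    have h3 : f ⟨a, hAD ha⟩ ∈ (A.subgroupOf D).map f := Subgroup.mem_map_of_mem f (show (⟨a, hAD ha⟩ : ↥D) ∈ A.subgroupOf D from ha)
    rw [hzero _ h1 h2, Subgroup.mem_bot] at h3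
    exact (QuotientGroup.eq_one_iff (⟨a, hAD ha⟩ : ↥D)).mp h3
  -- apply to `H`
  have hOM : Cfsg.pCoreOf p M ≤ H :=
    ((LocalStructure.pCoreOf_le_centralizer (LocalStructure.reducedIn_largest M)).trans hCF).trans hFH
  have hYH : Y ≤ H := (LocalStructure.reduced_le_pCoreOf (LocalStructure.reducedIn_largest M)).trans hOM
  obtain ⟨T, hT⟩ := ((Cfsg.Agent.S2850.result S Q hQp hQ1 hQS hQ M hSM hM hasym).2.2.1 H hOM)
  have hTD : (T : Subgroup ↥H).map H.subtype ≤ D := by
    rintro _ ⟨t, ht, rfl⟩; exact (hT ht).2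
  set P := Cfsg.pCoreOf p H with hP
  have hPT : P ≤ (T : Subgroup ↥H).map H.subtype := Subgroup.map_mono (Core.pCore_le_sylow T)
  have hPY : P ≤ Subgroup.centralizer (Y : Set G) := key P (hPT.trans hTD)
    (hFH.trans (LocalStructure.le_normalizer_pCoreOf H))
    fun g hg hgc => LocalStructure.coprime_mem_centralizer_of_isPGroup (LocalStructure.pCoreOf_isPGroup H) hg hgc
  have hHc : LocalStructure.CharP p H := LocalStructure.charP_iff.mpr hH
  have hYZ : Y ≤ LocalStructure.omegaZ p P := fun y hy =>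
    LocalStructure.mem_omegaZ_iff.mpr ⟨hHc ⟨hYH hy, Subgroup.le_centralizer_iff.mp hPY hy⟩,
      Subgroup.le_centralizer_iff.mp hPY hy, hYD.ea.2 y hy⟩
  set V : Subgroup G := ⨆ h : ↥H, LocalStructure.cmap (h : G) Y with hV
  have hHZ : H ≤ Subgroup.normalizer ((LocalStructure.omegaZ p P : Subgroup G) : Set G) :=
    LocalStructure.le_normalizer_omegaZ (LocalStructure.le_normalizer_pCoreOf H)
  have hVZ : V ≤ LocalStructure.omegaZ p P := iSup_le fun h =>
    (LocalStructure.cmap_mono hYZ).trans (LocalStructure.cmap_eq_iff.mpr (hHZ h.2)).le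
  have hYV : Y ≤ V := le_iSup_of_le (1 : ↥H) (by rw [OneMemClass.coe_one, LocalStructure.cmap_one])
  have hHV : H ≤ Subgroup.normalizer (V : Set G) := by
    intro d hd
    refine Layer.mem_normalizer_of_conj_mem fun x hx => ?_
    suffices h : LocalStructure.cmap d V ≤ V from h ⟨x, hx, rfl⟩
    rw [hV, LocalStructure.cmap, Subgroup.map_iSup]
    refine iSup_le fun e => le_iSup_of_le ⟨d * e, H.mul_mem hd e.2⟩ (le_of_eq ?_)
    exact (LocalStructure.cmap_mul d e Y).symm
  refine hYV.trans (LocalStructure.le_largestOf ⟨hVZ.trans ((LocalStructure.omegaZ_le P).trans (LocalStructure.pCoreOf_le H)),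
    hHV, Thompson.ea_mono (LocalStructure.omegaZ_ea P) hVZ, fun K hKH hHK hg => ?_⟩)
  have hgY : ∀ g ∈ K, (orderOf g).Coprime p → g ∈ Subgroup.centralizer (Y : Set G) := fun g h1 h2 =>
    Subgroup.centralizer_le (SetLike.coe_subset_coe.mpr hYV) (hg g h1 h2)
  have h1 : K ⊓ D ≤ Subgroup.centralizer (Y : Set G) := key _ inf_le_right
    (Coprime.le_normalizer_inf (hFH.trans hHK) (hFD.trans Subgroup.le_normalizer))
    fun g hg' hgc => hgY g hg'.1 hgc
  have hKY : K ≤ Subgroup.centralizer (Y : Set G) := by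
    refine (LocalStructure.le_resOf_sup (S := (T : Subgroup ↥H).map H.subtype ⊓ K) inf_le_right
      ((T.2.map H.subtype).to_le inf_le_left) ?_).trans (sup_le (LocalStructure.resOf_le_iff.mpr hgY)
        ((le_inf inf_le_right (inf_le_left.trans hTD)).trans h1))
    rw [Subgroup.inf_relIndex_right]
    haveI : (K.subgroupOf H).Normal := Subgroup.normal_subgroupOf_of_le_normalizer hHK
    have h2 := LocalStructure.not_dvd_relIndex_normal (p := p) T (K.subgroupOf H)
    rw [← Subgroup.map_subgroupOf_eq_of_le hKH, Subgroup.relIndex_map_map_of_injective _ _ H.subtype_injective]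
    exact h2
  rw [Subgroup.le_centralizer_iff]
  refine iSup_le fun h => ?_
  rw [Subgroup.le_centralizer_iff, LocalStructure.centralizer_cmap]
  exact (LocalStructure.cmap_eq_iff.mpr (hHK h.2)).ge.trans (LocalStructure.cmap_mono hKY)

end Cfsg.Agent.S2851
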