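import Cfsg.Statements.S2852
import Cfsg.Agent.LocalStructure.FrakH
import Cfsg.Agent.LocalStructure.LocalChar
import Cfsg.Agent.S2850

set_option autoImplicit false
open Cfsg

set_option linter.all false

namespace Cfsg.Agent.S2852

open scoped commutatorElement

/-- Standing hypotheses: G a finite group, S a Sylow p-subgroup, Q a nontrivial large p-subgroup of G contained in S, M a subgroup containing S with the basic property (M ∈ 𝔐_G(S)); Y_M the largest p-reduced normal subgroup of M. If Y_M is char-p-tall and asymmetric in G, then some subgroup H of G lies in ℌ_G(O_p(M)): H has characteristic p, O_p(M) ≤ H, Y_M ≰ O_p(H), and Y_M ≤ O_p(P) for every proper subgroup P of H containing O_p(M). -/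
theorem result {G : Type*} [Group G] [Finite G] {p : ℕ} [Fact p.Prime] (S : Sylow p G) (Q : Subgroup G) (hQp : IsPGroup p ↥Q) (hQ1 : Q ≠ ⊥) (hQS : Q ≤ (S : Subgroup G)) (hQ : Cfsg.IsLarge Q) (M : Subgroup G) (hSM : (S : Subgroup G) ≤ M) (hM : Cfsg.IsInFrakM p M) (htall : Cfsg.IsCharPTall p (Cfsg.largestPReducedOf p M)) (hasym : ¬ Cfsg.IsSymmetricIn (Cfsg.largestPReducedOf p M)) : ∃ H : Subgroup G, Cfsg.IsInFrakH p M H := by
  set Y := Cfsg.largestPReducedOf p M with hY
  set O := Cfsg.pCoreOf p M with hO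
  set C := Subgroup.centralizer (Y : Set G) with hC
  obtain ⟨T, L, hTL, hLc, hYL⟩ := htall
  have hOC : O ≤ C := LocalStructure.pCoreOf_le_centralizer (LocalStructure.reducedIn_largest M)
  have hCn : LocalStructure.dagger p M ≤ Subgroup.normalizer (C : Set G) :=
    LocalStructure.dagger_le_normalizer_centralizer M
  have hSC : (S : Subgroup G) ⊓ C = O := LocalStructure.frakM_sylow_inf_centralizer S hSM hM
  have hidx : ¬ p ∣ O.relIndex C := by
    rw [← hSC]
    exact LocalStructure.not_dvd_relIndex_inf S ((hSM.trans le_sup_left).trans hCn)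
  let O' : Sylow p ↥C := ((LocalStructure.pCoreOf_isPGroup M).comap_of_injective C.subtype C.subtype_injective).toSylow
    (show ¬ p ∣ (O.subgroupOf C).index from hidx)
  obtain ⟨c, hc⟩ := MulAction.exists_smul_eq ↥C T O'
  set L' := LocalStructure.cmap (c : G) L with hL'
  have hOL' : O ≤ L' := by
    intro o ho
    have h1 : (⟨o, hOC ho⟩ : ↥C) ∈ ((c • T : Sylow p ↥C) : Subgroup ↥C) := by rw [hc]; exact ho
    rw [Sylow.coe_subgroup_smul, Subgroup.mem_pointwise_smul_iff_inv_smul_mem, ← map_inv, MulAut.smul_def,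
      MulAut.conj_apply] at h1
    rw [hL', LocalStructure.mem_cmap]
    have h2 := hTL (Subgroup.mem_map_of_mem C.subtype h1)
    simpa using h2
  have hL'c : LocalStructure.CharP p L' := (LocalStructure.charP_cmap_iff _).mpr (LocalStructure.charP_iff.mpr hLc)
  have hYc : LocalStructure.cmap (c : G) Y = Y :=
    LocalStructure.cmap_eq_iff.mpr (Subgroup.centralizer_le_normalizer _ c.2)
  have hYO : Y ≤ O := LocalStructure.reduced_le_pCoreOf (LocalStructure.reducedIn_largest M)
  have hYL' : ¬ Y ≤ Cfsg.pCoreOf p L' := by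
    intro h
    refine hYL (fun y hy => ?_)
    have h1 : Cfsg.pCoreOf p L' ≤ LocalStructure.cmap (c : G) (Cfsg.pCoreOf p L) := by
      have h2 : LocalStructure.cmap (c : G)⁻¹ (Cfsg.pCoreOf p L') ≤ Cfsg.pCoreOf p L := by
        refine LocalStructure.le_pCoreOf_of_normal ?_ ?_ (LocalStructure.isPGroup_cmap (LocalStructure.pCoreOf_isPGroup L') _)
        · refine (LocalStructure.cmap_mono (LocalStructure.pCoreOf_le L')).trans ?_
          rw [hL', LocalStructure.cmap_inv_cmap]
        · rw [LocalStructure.normalizer_cmap]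
          refine le_trans ?_ (LocalStructure.cmap_mono (LocalStructure.le_normalizer_pCoreOf L'))
          rw [hL', LocalStructure.cmap_inv_cmap]
      have h3 := LocalStructure.cmap_mono (g := (c : G)) h2
      rwa [LocalStructure.cmap_cmap_inv] at h3
    have h2 := LocalStructure.cmap_mono (g := (c : G)⁻¹) (h.trans h1)
    rw [LocalStructure.cmap_inv_cmap] at h2
    rw [← hYc, LocalStructure.cmap_inv_cmap] at h2
    exact h2 hy
  -- minimal subgroup
  obtain ⟨H, ⟨hHL, hOH, hYH⟩, hHmin⟩ := (Set.toFinite {H : Subgroup G | H ≤ L' ∧ O ≤ H ∧ ¬ Y ≤ Cfsg.pCoreOf p H}).exists_minimal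
    ⟨L', le_rfl, hOL', hYL'⟩
  have hmin : ∀ P : Subgroup G, O ≤ P → P < H → Y ≤ Cfsg.pCoreOf p P := fun P hOP hlt => by
    by_contra hne
    exact hlt.not_ge (hHmin ⟨hlt.le.trans hHL, hOP, hne⟩ hlt.le)
  set U := Cfsg.pCoreOf p L' with hU
  set A := U ⊓ H with hA
  have hAO : A ≤ Cfsg.pCoreOf p H := LocalStructure.le_pCoreOf_of_normal inf_le_right
    (Coprime.le_normalizer_inf (hHL.trans (LocalStructure.le_normalizer_pCoreOf L')) Subgroup.le_normalizer)
    ((LocalStructure.pCoreOf_isPGroup L').to_le inf_le_left)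
  have hncl : LocalStructure.nclIn O H = H := by
    by_contra hne
    refine hYH ((hmin _ (LocalStructure.le_nclIn hOH) (lt_of_le_of_ne (LocalStructure.nclIn_le _ _) hne)).trans ?_)
    exact LocalStructure.le_pCoreOf_of_normal ((LocalStructure.pCoreOf_le _).trans (LocalStructure.nclIn_le _ _))
      (LocalStructure.le_normalizer_map_characteristic (LocalStructure.nclIn_normalizer _ _) _)
      (LocalStructure.pCoreOf_isPGroup _)
  have hUO : U ≤ Subgroup.normalizer (O : Set G) := le_sup_left.trans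
    (LocalStructure.asym_le_normalizer hQp hQ S hSM hM hasym
      ((LocalStructure.pCoreOf_isPGroup L').to_sup_of_normal_left' (LocalStructure.pCoreOf_isPGroup M)
        (hOL'.trans (LocalStructure.le_normalizer_pCoreOf L'))) le_sup_right)
  -- `[U, H] ≤ A`
  have hUH : ∀ h ∈ H, ∀ u ∈ U, ⁅h, u⁆ ∈ A := by
    have hHU : H ≤ Subgroup.normalizer (U : Set G) := hHL.trans (LocalStructure.le_normalizer_pCoreOf L')
    have hHA : H ≤ Subgroup.normalizer (A : Set G) := Coprime.le_normalizer_inf hHU Subgroup.le_normalizer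
    let E : Subgroup H :=
      { carrier := {h | ∀ u ∈ U, ⁅(h : G), u⁆ ∈ A}
        mul_mem' := by
          intro a b ha hb d hd
          show ⁅(a : G) * b, d⁆ ∈ A
          rw [show ⁅(a : G) * b, d⁆ = (a : G) * ⁅(b : G), d⁆ * (a : G)⁻¹ * ⁅(a : G), d⁆ by
            simp only [commutatorElement_def]; group]
          exact A.mul_mem ((Subgroup.mem_normalizer_iff.mp (hHA a.2) _).mp (hb d hd)) (ha d hd)
        one_mem' := fun d _ => by
          rw [OneMemClass.coe_one, commutatorElement_one_left]; exact A.one_mem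
        inv_mem' := by
          intro a ha d hd
          show ⁅(a : G)⁻¹, d⁆ ∈ A
          rw [show ⁅(a : G)⁻¹, d⁆ = (a : G)⁻¹ * (⁅(a : G), d⁆⁻¹) * (a : G)⁻¹⁻¹ by
            simp only [commutatorElement_def]; group]
          exact (Subgroup.mem_normalizer_iff.mp (hHA (H.inv_mem a.2)) _).mp (inv_mem (ha d hd)) }
    have hEn : E.Normal := by
      refine ⟨fun e he h d hd => ?_⟩
      have hd' : (h : G)⁻¹ * d * h ∈ U := by
        simpa using (Subgroup.mem_normalizer_iff.mp (hHU (H.inv_mem h.2)) d).mp hd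
      show ⁅(h : G) * e * (h : G)⁻¹, d⁆ ∈ A
      rw [show ⁅(h : G) * e * (h : G)⁻¹, d⁆ = (h : G) * ⁅(e : G), (h : G)⁻¹ * d * h⁆ * (h : G)⁻¹ by
        simp only [commutatorElement_def]; group]
      exact (Subgroup.mem_normalizer_iff.mp (hHA h.2) _).mp (he _ hd')
    have hle : LocalStructure.nclIn O H ≤ E.map H.subtype := by
      refine Subgroup.map_mono (Subgroup.normalClosure_le_normal (N := E) fun o ho u hu => ⟨?_, ?_⟩)
      · rw [commutatorElement_def]
        exact U.mul_mem ((Subgroup.mem_normalizer_iff.mp (hHU o.2) u).mp hu) (U.inv_mem hu)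
      · rw [show ⁅(o : G), u⁆ = (o : G) * (u * (o : G)⁻¹ * u⁻¹) by simp only [commutatorElement_def]; group]
        exact H.mul_mem o.2 (hOH ((Subgroup.mem_normalizer_iff.mp (hUO hu) _).mp (O.inv_mem ho)))
    intro h hh u hu
    obtain ⟨e, he, rfl⟩ := hle (hncl.ge hh)
    exact he u hu
  refine ⟨H, LocalStructure.charP_iff.mp (LocalStructure.charP_of_coprime fun x hx hxc hxO => ?_), hOH, hYH, hmin⟩
  have h1 : x ∈ Subgroup.centralizer (U : Set G) :=
    LocalStructure.commute_of_double_commutator (LocalStructure.pCoreOf_isPGroup L')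
      (LocalStructure.le_normalizer_pCoreOf L' (hHL hx)) hxc
      fun v hv => (Subgroup.mem_centralizer_iff.mp hxO _ (hAO (hUH x hx v hv))).symm
  exact Subgroup.mem_bot.mp (LocalStructure.coprime_mem_centralizer_of_isPGroup (LocalStructure.pCoreOf_isPGroup L')
    (hL'c ⟨hHL hx, h1⟩) hxc)

end Cfsg.Agent.S2852
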