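import Cfsg.Statements.S2853
import Cfsg.Agent.LocalStructure.FrakH
import Cfsg.Agent.LocalStructure.LocalChar
import Cfsg.Agent.S2850

set_option autoImplicit false
open Cfsg

set_option linter.all false

namespace Cfsg.Agent.S2853

/-- Standing hypotheses: G a finite group, S a Sylow p-subgroup, Q a nontrivial large p-subgroup of G contained in S, M a subgroup containing S with the basic property (M ∈ 𝔐_G(S)); Y_M the largest p-reduced normal subgroup of M and M† = M·C_G(Y_M). Suppose Y_M is char-p-tall and asymmetric in G and H ∈ ℌ_G(O_p(M)). Then every Sylow p-subgroup of H ∩ M† is a Sylow p-subgroup of H; O_p(H) normalizes O_p(M) and Y_M; O^p(H) = [O^p(H), Y_M] and H = O^p(H)·O_p(M); O^p(H)·Y_M is the normal closure of Y_M in H; and H is the normal closure of O_p(M) in H. Here O^p(H) is the subgroup generated by the elements of H of order prime to p. -/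
theorem result {G : Type*} [Group G] [Finite G] {p : ℕ} [Fact p.Prime] (S : Sylow p G) (Q : Subgroup G) (hQp : IsPGroup p ↥Q) (hQ1 : Q ≠ ⊥) (hQS : Q ≤ (S : Subgroup G)) (hQ : Cfsg.IsLarge Q) (M : Subgroup G) (hSM : (S : Subgroup G) ≤ M) (hM : Cfsg.IsInFrakM p M) (htall : Cfsg.IsCharPTall p (Cfsg.largestPReducedOf p M)) (hasym : ¬ Cfsg.IsSymmetricIn (Cfsg.largestPReducedOf p M)) (H : Subgroup G) (hH : Cfsg.IsInFrakH p M H) (R : Subgroup G) (hR : R = (Cfsg.pResidual p ↥H).map H.subtype) : (∀ T : Sylow p ↥(H ⊓ (M ⊔ Subgroup.centralizer (((Cfsg.largestPReducedOf p M) : Subgroup G) : Set G))), ∃ P : Sylow p ↥H, ((P : Subgroup ↥H).map H.subtype) = (T : Subgroup ↥(H ⊓ (M ⊔ Subgroup.centralizer (((Cfsg.largestPReducedOf p M) : Subgroup G) : Set G)))).map (H ⊓ (M ⊔ Subgroup.centralizer (((Cfsg.largestPReducedOf p M) : Subgroup G) : Set G))).subtype) ∧ Cfsg.pCoreOf p H ≤ Subgroup.normalizer (((Cfsg.pCoreOf p M) : Subgroup G) : Set G) ⊓ Subgroup.normalizer (((Cfsg.largestPReducedOf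 p M) : Subgroup G) : Set G) ∧ ⁅R, (Cfsg.largestPReducedOf p M)⁆ = R ∧ R ⊔ (Cfsg.pCoreOf p M) = H ∧ R ⊔ (Cfsg.largestPReducedOf p M) = (Subgroup.normalClosure ((((Cfsg.largestPReducedOf p M)).subgroupOf H : Subgroup ↥H) : Set ↥H)).map H.subtype ∧ (Subgroup.normalClosure ((((Cfsg.pCoreOf p M)).subgroupOf H : Subgroup ↥H) : Set ↥H)).map H.subtype = H := by
  obtain ⟨hRY, hRN⟩ := LocalStructure.frakH_commutator hH
  set O := Cfsg.pCoreOf p M with hO
  have hOH : O ≤ H := hH.2.1
  have hNd : Subgroup.normalizer (O : Set G) ≤ LocalStructure.dagger p M :=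
    LocalStructure.normalizer_le_dagger hQp hQ S hSM hM (LocalStructure.pCoreOf_isPGroup M)
      (LocalStructure.charPSubgroups_iff.mp hM.1).1 (LocalStructure.le_normalizer_pCoreOf M)
  have hU : Cfsg.pCoreOf p H ≤ Subgroup.normalizer (O : Set G) := le_sup_left.trans
    (LocalStructure.asym_le_normalizer hQp hQ S hSM hM hasym
      ((LocalStructure.pCoreOf_isPGroup H).to_sup_of_normal_left' (LocalStructure.pCoreOf_isPGroup M)
        (hOH.trans (LocalStructure.le_normalizer_pCoreOf H))) le_sup_right)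
  subst hR
  refine ⟨?_, le_inf hU ((hU.trans hNd).trans (LocalStructure.dagger_le_normalizer_largest M)),
    hRY, LocalStructure.frakH_sup_residual hH, hRN, LocalStructure.nclIn_pCore_eq hH⟩
  set D := H ⊓ (M ⊔ Subgroup.centralizer ((Cfsg.largestPReducedOf p M : Subgroup G) : Set G)) with hD
  intro T
  obtain ⟨P, hP⟩ := (Cfsg.Agent.S2850.result S Q hQp hQ1 hQS hQ M hSM hM hasym).2.2.1 H hOH
  have hidx : ¬ p ∣ D.relIndex H := by
    intro hd
    refine P.not_dvd_index (hd.trans ?_)
    rw [Subgroup.relIndex]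
    refine Subgroup.index_dvd_of_le fun y hy => ?_
    exact ⟨y.2, (hP hy).2⟩
  have hTp : IsPGroup p (((T : Subgroup ↥D).map D.subtype).subgroupOf H) := (T.2.map D.subtype).comap_subtype
  have hTH : ¬ p ∣ (((T : Subgroup ↥D).map D.subtype).subgroupOf H).index := by
    show ¬ p ∣ ((T : Subgroup ↥D).map D.subtype).relIndex H
    rw [← Subgroup.relIndex_mul_relIndex _ _ _ (Subgroup.map_subtype_le _) (inf_le_left : D ≤ H)]
    refine (Fact.out : p.Prime).not_dvd_mul ?_ hidx
    rw [Subgroup.relIndex, Subgroup.subgroupOf, Subgroup.comap_map_eq_self_of_injective D.subtype_injective]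
    exact T.not_dvd_index
  refine ⟨hTp.toSylow hTH, ?_⟩
  rw [IsPGroup.toSylow_coe, Subgroup.map_subgroupOf_eq_of_le ((Subgroup.map_subtype_le _).trans inf_le_left)]

end Cfsg.Agent.S2853
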