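import Cfsg.Statements.S2854
import Cfsg.Agent.LocalStructure.FrakH
import Cfsg.Agent.LocalStructure.LocalChar
import Cfsg.Agent.S2850

set_option autoImplicit false
open Cfsg

set_option linter.all false

namespace Cfsg.Agent.S2854

open scoped commutatorElement

/-- Standing hypotheses: G a finite group, S a Sylow p-subgroup, Q a nontrivial large p-subgroup of G contained in S, M a subgroup containing S with the basic property (M ∈ 𝔐_G(S)); Y_M the largest p-reduced normal subgroup of M and M† = M·C_G(Y_M). Suppose Y_M is asymmetric in G, H ∈ ℌ_G(O_p(M)), and H ≤ N_G(gQg⁻¹) for some g ∈ G. Then gQg⁻¹ ≤ O_p(H·gQg⁻¹) ≤ N_G(O_p(M)) ≤ N_G(Y_M) = M†; H is normal in H·gQg⁻¹ with O^p(H) = O^p(H·gQg⁻¹); and H·gQg⁻¹ is p-irreducible. -/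
theorem result {G : Type*} [Group G] [Finite G] {p : ℕ} [Fact p.Prime] (S : Sylow p G) (Q : Subgroup G) (hQp : IsPGroup p ↥Q) (hQ1 : Q ≠ ⊥) (hQS : Q ≤ (S : Subgroup G)) (hQ : Cfsg.IsLarge Q) (M : Subgroup G) (hSM : (S : Subgroup G) ≤ M) (hM : Cfsg.IsInFrakM p M) (hasym : ¬ Cfsg.IsSymmetricIn (Cfsg.largestPReducedOf p M)) (H : Subgroup G) (hH : Cfsg.IsInFrakH p M H) (g : G) (hHQ : H ≤ Subgroup.normalizer ((((Q : Subgroup G).map (MulAut.conj (g : G)).toMonoidHom) : Subgroup G) : Set G)) : ((Q : Subgroup G).map (MulAut.conj (g : G)).toMonoidHom) ≤ Cfsg.pCoreOf p (H ⊔ ((Q : Subgroup G).map (MulAut.conj (g : G)).toMonoidHom)) ∧ Cfsg.pCoreOf p (H ⊔ ((Q : Subgroup G).map (MulAut.conj (g : G)).toMonoidHom)) ≤ Subgroup.normalizer (((Cfsg.pCoreOf p M) : Subgroup G) : Set G) ∧ Subgroup.normalizer (((Cfsg.pCoreOf p M) : Subgroup G) : Set G) ≤ Subgroup.normalizer (((Cfsg.largestPReducedOf p M) : Subgroup G) : Set G) ∧ Subgroup.normalizer (((Cfsg.largestPReducedOf p M) :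 Subgroup G) : Set G) = (M ⊔ Subgroup.centralizer (((Cfsg.largestPReducedOf p M) : Subgroup G) : Set G)) ∧ (H.subgroupOf (H ⊔ ((Q : Subgroup G).map (MulAut.conj (g : G)).toMonoidHom))).Normal ∧ (Cfsg.pResidual p ↥H).map H.subtype = (Cfsg.pResidual p ↥(H ⊔ ((Q : Subgroup G).map (MulAut.conj (g : G)).toMonoidHom))).map (H ⊔ ((Q : Subgroup G).map (MulAut.conj (g : G)).toMonoidHom)).subtype ∧ Cfsg.IsPIrreducible p ↥(H ⊔ ((Q : Subgroup G).map (MulAut.conj (g : G)).toMonoidHom)) := by
  set Q' := (Q : Subgroup G).map (MulAut.conj (g : G)).toMonoidHom with hQ'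
  set K := H ⊔ Q' with hK
  set O := Cfsg.pCoreOf p M with hO
  set Y := Cfsg.largestPReducedOf p M with hY
  set U := Cfsg.pCoreOf p K with hU
  have hOH : O ≤ H := hH.2.1
  have hHK : H ≤ K := le_sup_left
  have hNd : ∀ I : Subgroup G, IsPGroup p I → I ≠ ⊥ → M ≤ Subgroup.normalizer (I : Set G) →
      Subgroup.normalizer (I : Set G) ≤ LocalStructure.dagger p M := fun I h1 h2 h3 =>
    LocalStructure.normalizer_le_dagger hQp hQ S hSM hM h1 h2 h3
  have hNO := hNd O (LocalStructure.pCoreOf_isPGroup M)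
      (LocalStructure.charPSubgroups_iff.mp hM.1).1 (LocalStructure.le_normalizer_pCoreOf M)
  have hQU : Q' ≤ U := LocalStructure.le_pCoreOf_of_normal le_sup_right
    (sup_le hHQ Subgroup.le_normalizer) (hQp.map _)
  have hUN : U ≤ Subgroup.normalizer (O : Set G) := le_sup_left.trans
    (LocalStructure.asym_le_normalizer hQp hQ S hSM hM hasym
      ((LocalStructure.pCoreOf_isPGroup K).to_sup_of_normal_left' (LocalStructure.pCoreOf_isPGroup M)
        ((hOH.trans hHK).trans (LocalStructure.le_normalizer_pCoreOf K))) le_sup_right)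
  have hQN : Q' ≤ Subgroup.normalizer (H : Set G) := by
    intro q hq
    refine Layer.mem_normalizer_of_conj_mem fun x hx => ?_
    suffices LocalStructure.nclIn O H ≤ H.comap (MulAut.conj q).toMonoidHom from
      this ((LocalStructure.nclIn_pCore_eq hH).ge hx)
    rw [Subgroup.map_le_iff_le_comap, Subgroup.normalClosure, Subgroup.closure_le]
    intro y hy
    rw [Group.mem_conjugatesOfSet_iff] at hy
    obtain ⟨o, ho, hoy⟩ := hy
    obtain ⟨h, rfl⟩ := isConj_iff.mp hoy
    show q * ((h : G) * o * (h : G)⁻¹) * q⁻¹ ∈ H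
    have hq' : (h : G)⁻¹ * q * h ∈ Q' := by
      simpa using (Subgroup.mem_normalizer_iff.mp (hHQ (H.inv_mem h.2)) q).mp hq
    have h1 := hOH ((Subgroup.mem_normalizer_iff.mp (hUN (hQU hq')) (o : G)).mp ho)
    have h2 := H.mul_mem (H.mul_mem h.2 h1) (H.inv_mem h.2)
    simpa [mul_assoc] using h2
  have hKH : K ≤ Subgroup.normalizer (H : Set G) := sup_le Subgroup.le_normalizer hQN
  haveI hHn : (H.subgroupOf K).Normal := Subgroup.normal_subgroupOf_of_le_normalizer hKH
  have hsup : H.subgroupOf K ⊔ Q'.subgroupOf K = ⊤ := by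
    rw [← Subgroup.subgroupOf_sup le_sup_left le_sup_right, Subgroup.subgroupOf_self]
  have hres : LocalStructure.resOf p H = LocalStructure.resOf p K := by
    refine le_antisymm (LocalStructure.resOf_mono p hHK) (LocalStructure.resOf_le_iff.mpr fun x hx hxc => ?_)
    refine LocalStructure.mem_resOf ?_ hxc
    exact LocalStructure.mem_of_coprime_of_mem_sup (N := H.subgroupOf K) (D := Q'.subgroupOf K)
      (hQp.map _).comap_subtype (hsup.ge (Subgroup.mem_top ⟨x, hx⟩)) (by rwa [Subgroup.orderOf_mk])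
  refine ⟨hQU, hUN, hNO.trans (LocalStructure.dagger_le_normalizer_largest M),
    le_antisymm (hNd Y (Thompson.ea_isPGroup (LocalStructure.reducedIn_largest M).ea)
      (LocalStructure.largestOf_ne_bot_of_frakM S hSM hM) (LocalStructure.reducedIn_largest M).le_normalizer)
      (LocalStructure.dagger_le_normalizer_largest M), hHn, hres, fun hc => hH.2.2.1 ?_, fun N hN hnc => ?_⟩
  · intro y hy
    have hyO := LocalStructure.reduced_le_pCoreOf (LocalStructure.reducedIn_largest M) hy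
    have hyK : y ∈ K := hHK (hOH hyO)
    obtain ⟨k, hk⟩ := IsPGroup.iff_orderOf.mp (Thompson.ea_isPGroup (LocalStructure.reducedIn_largest (p := p) M).ea) ⟨y, hy⟩
    rw [Subgroup.orderOf_mk] at hk
    have h1 := LocalStructure.isPClosed_iff.mp hc ⟨y, hyK⟩ ⟨k, by rw [Subgroup.orderOf_mk]; exact hk⟩
    exact (LocalStructure.le_pCoreOf_of_normal inf_le_right
      (Coprime.le_normalizer_inf (hHK.trans (LocalStructure.le_normalizer_pCoreOf K)) Subgroup.le_normalizer)
      ((LocalStructure.pCoreOf_isPGroup K).to_le inf_le_left)) ⟨⟨⟨y, hyK⟩, h1, rfl⟩, hOH hyO⟩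
  · haveI := hN
    set NU : Subgroup ↥K := N ⊔ Cfsg.pCore p ↥K with hNU
    set D : Subgroup G := NU.map K.subtype ⊓ H with hD
    have hHD : H ≤ Subgroup.normalizer (D : Set G) :=
      Coprime.le_normalizer_inf (hHK.trans (LocalStructure.le_normalizer_map_of_normal K NU)) Subgroup.le_normalizer
    by_contra hne
    have hR : ¬ LocalStructure.resOf p H ≤ D := by
      intro h
      refine hne (LocalStructure.pResidual_le_of_le_sup (D := Cfsg.pCore p ↥K) Core.pCore_isPGroup ?_)
      intro r hr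
      have h1 : (r : G) ∈ D := h (hres.ge ⟨r, hr, rfl⟩)
      obtain ⟨z, hz, hzr⟩ := h1.1
      exact (Subtype.ext hzr : z = r) ▸ hz
    apply hnc
    rw [LocalStructure.isPClosed_normal_iff]
    rintro x hx ⟨k, hk⟩
    set f := QuotientGroup.mk' (Cfsg.pCore p ↥K) with hf
    have hx' : x ∈ H.subgroupOf K ⊔ Q'.subgroupOf K := hsup.ge (Subgroup.mem_top x)
    obtain ⟨h, hh, q, hq, hhq⟩ := Subgroup.mem_sup_of_normal_left.mp hx'
    have hqU : q ∈ Cfsg.pCore p ↥K := by
      obtain ⟨u, hu, huq⟩ := hQU hq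
      exact (Subtype.ext huq : u = q) ▸ hu
    have hfh : f h = f x := by
      rw [← hhq, map_mul, show f q = 1 from (QuotientGroup.eq_one_iff q).mpr hqU, mul_one]
    obtain ⟨j, -, hj⟩ := (Nat.dvd_prime_pow (Fact.out : p.Prime)).mp (hk ▸ hfh ▸ orderOf_map_dvd f x)
    obtain ⟨a, haz, ⟨i, hi⟩, hfa⟩ := LocalStructure.exists_pElement_preimage f hj
    have hh2 : h ∈ NU := by
      have : h = x * q⁻¹ := by rw [← hhq]; group
      rw [this]
      exact mul_mem (Subgroup.mem_sup_left hx) (inv_mem (Subgroup.mem_sup_right hqU))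
    have haD : (a : G) ∈ D := by
      obtain ⟨n, rfl⟩ := Subgroup.mem_zpowers_iff.mp haz
      exact ⟨⟨_, NU.zpow_mem hh2 n, rfl⟩, (H.subgroupOf K).zpow_mem hh n⟩
    have h1 := LocalStructure.frakH_pClosed hH inf_le_right hHD hR (a : G) haD
      ⟨i, by rw [Subgroup.orderOf_coe]; exact hi⟩
    have h2 : Cfsg.pCoreOf p H ≤ U := LocalStructure.le_pCoreOf_of_normal
      ((LocalStructure.pCoreOf_le H).trans hHK) (LocalStructure.le_normalizer_map_characteristic hKH _)
      (LocalStructure.pCoreOf_isPGroup H)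
    obtain ⟨u, hu, hua⟩ := h2 h1
    have hau : a ∈ Cfsg.pCore p ↥K := (Subtype.ext hua : u = a) ▸ hu
    refine (QuotientGroup.eq_one_iff x).mp ?_
    show f x = 1
    rw [← hfh, ← hfa]
    exact (QuotientGroup.eq_one_iff a).mpr hau

end Cfsg.Agent.S2854
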