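import Cfsg.Statements.S2859
import Cfsg.Agent.LocalStructure.WeakClosureProduct

set_option autoImplicit false
open Cfsg

set_option linter.all false

namespace Cfsg.Agent.S2859

/-- Let Q be a nontrivial p-subgroup of the finite group H that is a weakly closed subgroup, H° the weak closure of Q in H (generated by the conjugates of Q) and H_∘ = O^p(H°). Suppose H₁, H₂ are normal subgroups of H° with H° = H₁H₂ and [H₁, H₂] ≤ N_H(Q), and put Kᵢ = O^p of the weak closure of Q in HᵢQ. Then for i = 1, 2: Kᵢ = [Kᵢ, Q] = [Kᵢ, Hᵢ] ≤ Hᵢ′ and Kᵢ is normal in H°; H_∘ = K₁K₂; and [K₁, K₂] ≤ O_p(H°). -/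
theorem result {G : Type*} [Group G] [Finite G] {p : ℕ} [Fact p.Prime] (Q : Subgroup G) (hQp : IsPGroup p ↥Q) (hQ1 : Q ≠ ⊥) (hwc : Cfsg.IsWeaklyClosedSubgroup p Q) (Hc : Subgroup G) (hHc : Hc = Cfsg.weakClosure Q ⊤) (H₁ H₂ : Subgroup G) (hn₁ : H₁ ≤ Hc ∧ Hc ≤ Subgroup.normalizer ((H₁ : Subgroup G) : Set G)) (hn₂ : H₂ ≤ Hc ∧ Hc ≤ Subgroup.normalizer ((H₂ : Subgroup G) : Set G)) (hprod : H₁ ⊔ H₂ = Hc) (hcomm : ⁅H₁, H₂⁆ ≤ Subgroup.normalizer ((Q : Subgroup G) : Set G)) (K₁ K₂ : Subgroup G) (hK₁ : K₁ = ((Cfsg.pResidual p ↥(Cfsg.weakClosure Q (H₁ ⊔ Q))).map ((Cfsg.weakClosure Q (H₁ ⊔ Q))).subtype)) (hK₂ : K₂ = ((Cfsg.pResidual p ↥(Cfsg.weakClosure Q (H₂ ⊔ Q))).map ((Cfsg.weakClosure Q (H₂ ⊔ Q))).subtype)) : (⁅K₁, Q⁆ = K₁ ∧ ⁅K₁, H₁⁆ = K₁ ∧ K₁ ≤ ⁅H₁, H₁⁆ ∧ Hc ≤ Subgroup.normalizer ((K₁ : Subgroup G) : Set G)) ∧ (⁅K₂, Q⁆ = K₂ ∧ ⁅K₂, H₂⁆ = K₂ ∧ K₂ ≤ ⁅H₂, H₂⁆ ∧ Hc ≤ Subgroup.normalizer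 ((K₂ : Subgroup G) : Set G)) ∧ K₁ ⊔ K₂ = ((Cfsg.pResidual p ↥Hc).map (Hc).subtype) ∧ ⁅K₁, K₂⁆ ≤ (Cfsg.pCoreOf p Hc) := by
  have hwcp : ∀ X : Subgroup G, Q ≤ X → LocalStructure.WProp Q X (Cfsg.weakClosure Q X) := fun X hX =>
    LocalStructure.wprop_weakClosure hQp hwc hX
  have hWT := hwcp ⊤ le_top
  rw [← hHc] at hWT
  have hQH : Q ≤ Hc := hWT.le
  have hX1 : H₁ ⊔ Q ≤ Hc := sup_le hn₁.1 hQH
  have hX2 : H₂ ⊔ Q ≤ Hc := sup_le hn₂.1 hQH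
  haveI : (H₁.subgroupOf Hc).Normal := Subgroup.normal_subgroupOf_of_le_normalizer hn₁.2
  haveI : (H₂.subgroupOf Hc).Normal := Subgroup.normal_subgroupOf_of_le_normalizer hn₂.2
  have hQ' : IsPGroup p (Q.subgroupOf Hc) := hQp.comap_of_injective Hc.subtype Hc.subtype_injective
  have hgen : ∀ M : Subgroup Hc, M.Normal → Q.subgroupOf Hc ≤ M → M = ⊤ := fun M hM hQM => by
    have h := hWT.minimal (M.map Hc.subtype) (fun q hq => ⟨⟨q, hQH hq⟩, hQM hq, rfl⟩)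
      (LocalStructure.le_normalizer_map_of_normal Hc M)
    refine eq_top_iff.mpr fun x _ => ?_
    obtain ⟨y, hy, hxy⟩ := h x.2
    exact Subtype.ext hxy ▸ hy
  have hprod' : H₁.subgroupOf Hc ⊔ H₂.subgroupOf Hc = ⊤ := by
    rw [← Subgroup.subgroupOf_sup hn₁.1 hn₂.1, hprod, Subgroup.subgroupOf_self]
  have hmapc : ∀ A B : Subgroup Hc, (⁅A, B⁆).map Hc.subtype = ⁅A.map Hc.subtype, B.map Hc.subtype⁆ :=
    fun A B => Subgroup.map_commutator A B _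
  have hback : ∀ A : Subgroup G, A ≤ Hc → (A.subgroupOf Hc).map Hc.subtype = A :=
    fun A hA => Subgroup.map_subgroupOf_eq_of_le hA
  have hcomm' : ⁅H₁.subgroupOf Hc, H₂.subgroupOf Hc⁆ ≤ Subgroup.normalizer ((Q.subgroupOf Hc : Subgroup Hc) : Set Hc) := by
    rw [← Subgroup.subgroupOf_normalizer_eq hQH]
    intro x hx
    refine hcomm ?_
    have := Subgroup.mem_map_of_mem Hc.subtype hx
    rwa [hmapc, hback _ hn₁.1, hback _ hn₂.1] at this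
  have hW1 := LocalStructure.WProp.subgroupOf (hwcp _ (le_sup_right : Q ≤ H₁ ⊔ Q)) hX1
  have hW2 := LocalStructure.WProp.subgroupOf (hwcp _ (le_sup_right : Q ≤ H₂ ⊔ Q)) hX2
  rw [Subgroup.subgroupOf_sup hn₁.1 hQH] at hW1
  rw [Subgroup.subgroupOf_sup hn₂.1 hQH] at hW2
  have hres : ∀ W : Subgroup G, W ≤ Hc →
      (LocalStructure.resOf p (W.subgroupOf Hc)).map Hc.subtype = LocalStructure.resOf p W :=
    fun W hW => LocalStructure.resOf_subgroupOf hW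
  have hle1 : Cfsg.weakClosure Q (H₁ ⊔ Q) ≤ Hc := (hwcp _ le_sup_right).leX.trans hX1
  have hle2 : Cfsg.weakClosure Q (H₂ ⊔ Q) ≤ Hc := (hwcp _ le_sup_right).leX.trans hX2
  have hfac : ∀ (A B W : Subgroup G), A ≤ Hc → W ≤ Hc → LocalStructure.WProp Q (A ⊔ Q) W →
      (⁅LocalStructure.resOf p (W.subgroupOf Hc), A.subgroupOf Hc⁆ = LocalStructure.resOf p (W.subgroupOf Hc) ∧
        LocalStructure.resOf p (W.subgroupOf Hc) ≤ ⁅A.subgroupOf Hc, A.subgroupOf Hc⁆ ∧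
        (⊤ : Subgroup Hc) ≤ Subgroup.normalizer ((LocalStructure.resOf p (W.subgroupOf Hc) : Subgroup Hc) : Set Hc) ∧
        LocalStructure.resOf p (W.subgroupOf Hc) ≤ A.subgroupOf Hc) →
      ⁅LocalStructure.resOf p W, Q⁆ = LocalStructure.resOf p W ∧
        ⁅LocalStructure.resOf p W, A⁆ = LocalStructure.resOf p W ∧ LocalStructure.resOf p W ≤ ⁅A, A⁆ ∧
        Hc ≤ Subgroup.normalizer ((LocalStructure.resOf p W : Subgroup G) : Set G) := by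
    rintro A B W hA hW hWp ⟨e1, e2, e3, -⟩
    refine ⟨hWp.commutator_eq hQp, ?_, ?_, ?_⟩
    · have := congrArg (Subgroup.map Hc.subtype) e1
      rwa [hmapc, hres W hW, hback A hA] at this
    · have := Subgroup.map_mono (f := Hc.subtype) e2
      rwa [hmapc, hres W hW, hback A hA] at this
    · haveI := Subgroup.normalizer_eq_top_iff.mp (top_le_iff.mp e3)
      rw [← hres W hW]
      exact LocalStructure.le_normalizer_map_of_normal Hc _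
  subst hK₁ hK₂
  refine ⟨hfac H₁ H₂ _ hn₁.1 hle1 (hwcp _ le_sup_right) (LocalStructure.weakClosure_factor hQ' hgen hprod' hcomm' hW1),
    hfac H₂ H₁ _ hn₂.1 hle2 (hwcp _ le_sup_right) (LocalStructure.weakClosure_factor hQ' hgen
      ((sup_comm _ _).trans hprod') ((Subgroup.commutator_comm _ _).le.trans hcomm') hW2), ?_⟩
  obtain ⟨e1, e2⟩ := LocalStructure.weakClosure_product hQ' hgen hprod' hcomm' hW1 hW2
  constructor
  · have := congrArg (Subgroup.map Hc.subtype) e1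
    rwa [Subgroup.map_sup, hres _ hle1, hres _ hle2] at this
  · have := Subgroup.map_mono (f := Hc.subtype) e2
    rwa [hmapc, hres _ hle1, hres _ hle2] at this

end Cfsg.Agent.S2859
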