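import Cfsg.Statements.S2860
import Cfsg.Agent.LocalStructure.QuasisimpleResidual
import Cfsg.Agent.LocalStructure.Large

set_option autoImplicit false
open Cfsg

set_option linter.all false

namespace Cfsg.Agent.S2860

/-- Let Q be a nontrivial large p-subgroup of the finite group H, U a nontrivial elementary abelian p-subgroup of H, and Q ≤ E ≤ N_H(U) with Q not normal in E. Suppose O_p(E/C_E(U)) = 1 and O^p(E)·C_E(U)/C_E(U) is quasisimple. Let E° be the weak closure of Q in E (generated by the conjugates of Q inside E) and E_∘ = O^p(E°). Then O^p(E)·C_E(U) = E_∘·C_E(U); E_∘ is perfect and equals O^p(E_∘); E_∘/C_{E_∘}(U) and E_∘/O_p(E_∘) are quasisimple; and E_∘ = [E_∘, Y] for every p-subgroup Y of E not centralizing U. -/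
theorem result {G : Type*} [Group G] [Finite G] {p : ℕ} [Fact p.Prime] (Q : Subgroup G) (hQp : IsPGroup p ↥Q) (hQ1 : Q ≠ ⊥) (hQ : Cfsg.IsLarge Q) (U : Subgroup G) (hU : Cfsg.IsElementaryAbelian p U) (hU1 : U ≠ ⊥) (E : Subgroup G) (hQE : Q ≤ E) (hEU : E ≤ Subgroup.normalizer ((U : Subgroup G) : Set G)) (hQn : ¬ E ≤ Subgroup.normalizer ((Q : Subgroup G) : Set G)) [hn : ((Subgroup.centralizer ((U : Subgroup G) : Set G)).subgroupOf E).Normal] (hred : Cfsg.pCore p (↥E ⧸ (Subgroup.centralizer ((U : Subgroup G) : Set G)).subgroupOf E) = ⊥) (hqs : Cfsg.IsQuasisimple ↥(((Cfsg.pResidual p ↥E) ⊔ (Subgroup.centralizer ((U : Subgroup G) : Set G)).subgroupOf E).map (QuotientGroup.mk' ((Subgroup.centralizer ((U : Subgroup G) : Set G)).subgroupOf E)))) (Er : Subgroup G) (hEr : Er = ((Cfsg.pResidual p ↥(Cfsg.weakClosure Q E)).map ((Cfsg.weakClosure Q E)).subtype)) [hn2 : ((Subgroup.centralizer ((U : Subgroup G) : Set G)).subgroupOf Er).Normal] : ((Cfsg.pResidual p ↥E).map (E).subtype)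 ⊔ (E ⊓ Subgroup.centralizer ((U : Subgroup G) : Set G)) = Er ⊔ (E ⊓ Subgroup.centralizer ((U : Subgroup G) : Set G)) ∧ ⁅Er, Er⁆ = Er ∧ ((Cfsg.pResidual p ↥Er).map (Er).subtype) = Er ∧ Cfsg.IsQuasisimple (↥Er ⧸ (Subgroup.centralizer ((U : Subgroup G) : Set G)).subgroupOf Er) ∧ Cfsg.IsQuasisimple (↥Er ⧸ Cfsg.pCore p ↥Er) ∧ ∀ Y : Subgroup G, Y ≤ E → IsPGroup p ↥Y → ¬ Y ≤ Subgroup.centralizer ((U : Subgroup G) : Set G) → ⁅Er, Y⁆ = Er := by
  have hUp : IsPGroup p U := Thompson.ea_isPGroup hU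
  set CU := Subgroup.centralizer ((U : Subgroup G) : Set G) with hCU
  have hCN : CU ≤ Subgroup.normalizer (Q : Set G) :=
    LocalStructure.large_centralizer_le_normalizer hQp hQ hUp hU1 (hQE.trans hEU)
  have hQC : ¬ Q ≤ CU := fun h =>
    hQn (hEU.trans (hQ.2 U (Subgroup.le_centralizer_iff.mp h) hU1))
  have hwp := LocalStructure.wprop_weakClosure hQp (LocalStructure.large_wc hQp hQ1 hQ) hQE
  set W := Cfsg.weakClosure Q E with hW
  haveI : (W.subgroupOf E).Normal := Subgroup.normal_subgroupOf_of_le_normalizer hwp.normal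
  have hwp' := LocalStructure.WProp.subgroupOf hwp (le_refl E)
  rw [Subgroup.subgroupOf_self] at hwp'
  set f := QuotientGroup.mk' (CU.subgroupOf E) with hf
  have hqs' : Cfsg.IsQuasisimple ↥(Cfsg.pResidual p (↥E ⧸ CU.subgroupOf E)) := by
    have e : ((Cfsg.pResidual p ↥E) ⊔ CU.subgroupOf E).map f = Cfsg.pResidual p (↥E ⧸ CU.subgroupOf E) := by
      rw [Subgroup.map_sup, hf, QuotientGroup.map_mk'_self, sup_bot_eq,
        Fusion.map_pResidual_of_surjective _ (QuotientGroup.mk'_surjective _)]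
    rwa [← e]
  obtain ⟨c1, c2, c3, c4, c5⟩ := LocalStructure.quasisimple_residual (p := p) (C := CU.subgroupOf E)
    (hQp.comap_of_injective E.subtype E.subtype_injective) hwp'
    (le_trans (Subgroup.comap_mono hCN) (Subgroup.subgroupOf_normalizer_eq hQE).le)
    (fun h => hQC fun q hq => h (show (⟨q, hQE hq⟩ : E) ∈ Q.subgroupOf E from hq)) hred hqs'
  set R := LocalStructure.resOf p (W.subgroupOf E) with hR
  have hmap : R.map E.subtype = Er := by rw [hEr]; exact LocalStructure.resOf_subgroupOf hwp.leX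
  set e : R ≃* Er := (Subgroup.equivMapOfInjective R E.subtype E.subtype_injective).trans
    (MulEquiv.subgroupCongr hmap) with he
  have hval : ∀ r : R, ((e r : Er) : G) = ((r : E) : G) := fun r => rfl
  refine ⟨?_, ?_, ?_, ?_, ?_, ?_⟩
  · have h := congrArg (Subgroup.map E.subtype) c1
    rwa [Subgroup.map_sup, Subgroup.map_sup, hmap, Subgroup.subgroupOf_map_subtype, inf_comm] at h
  · rw [← hmap, ← Subgroup.map_commutator, c2]
  · subst hEr
    exact LocalStructure.resOf_resOf p W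
  · refine Layer.isQuasisimple_congr (QuotientGroup.congr _ _ e ?_) c3
    ext x
    constructor
    · rintro ⟨r, hr, rfl⟩
      exact hr
    · intro hx
      obtain ⟨r, rfl⟩ := e.surjective x
      exact ⟨r, hx, rfl⟩
  · exact Layer.isQuasisimple_congr (QuotientGroup.congr _ _ e (Core.map_pCore e)) c4
  · intro Y hYE hYp hYC
    have h := congrArg (Subgroup.map E.subtype) (c5 (Y.subgroupOf E)
      (hYp.comap_of_injective E.subtype E.subtype_injective)
      (fun h => hYC fun y hy => h (show (⟨y, hYE hy⟩ : E) ∈ Y.subgroupOf E from hy)))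
    rwa [Subgroup.map_commutator, hmap, Subgroup.map_subgroupOf_eq_of_le hYE] at h

end Cfsg.Agent.S2860
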