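import Cfsg.Statements.S2861
import Cfsg.Agent.LocalStructure.FrakLIrreducible

set_option autoImplicit false
open Cfsg

set_option linter.all false

namespace Cfsg.Agent.S2861

/-- Standing hypotheses: G a finite group, S a Sylow p-subgroup, Q a nontrivial large p-subgroup of G contained in S, M a subgroup containing S with the basic property (M ∈ 𝔐_G(S)); Y_M the largest p-reduced normal subgroup of M and M† = M·C_G(Y_M). Let L ∈ 𝔏_G(Y_M) (L ∈ 𝔏_G(Y_M): Y_M ≤ L; O_p(L) is the normal closure in L of Y_M ∩ O_p(L) and normalizes Y_M; L is Y_M-minimal of characteristic p with N_L(Y_M) its unique maximal subgroup over Y_M; and L/O_p(L) ≅ SL₂(q) with q = |Y_M : Y_M ∩ O_p(L)|, or p = 2 and L/O_p(L) is a Suzuki group Sz(q) or dihedral of order 2r, r an odd prime) and A = O_p(L). Then Y_M·A/A is the unique nontrivial elementary abelian normal p-subgroup of N_L(Y_M)/A. -/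
theorem result {G : Type*} [Group G] [Finite G] {p : ℕ} [Fact p.Prime] (S : Sylow p G) (Q : Subgroup G) (hQp : IsPGroup p ↥Q) (hQ1 : Q ≠ ⊥) (hQS : Q ≤ (S : Subgroup G)) (hQ : Cfsg.IsLarge Q) (M : Subgroup G) (hSM : (S : Subgroup G) ≤ M) (hM : Cfsg.IsInFrakM p M) (L : Subgroup G) (hL : Cfsg.IsInFrakL p M L) (NL : Subgroup G) (hNL : NL = L ⊓ Subgroup.normalizer (((Cfsg.largestPReducedOf p M) : Subgroup G) : Set G)) [hn : (((Cfsg.pCoreOf p L)).subgroupOf NL).Normal] : let Ybar : Subgroup (↥NL ⧸ ((Cfsg.pCoreOf p L)).subgroupOf NL) := (((Cfsg.largestPReducedOf p M)).subgroupOf NL).map (QuotientGroup.mk' (((Cfsg.pCoreOf p L)).subgroupOf NL)); Ybar ≠ ⊥ ∧ Ybar.Normal ∧ Cfsg.IsElementaryAbelian p Ybar ∧ ∀ (V : Subgroup (↥NL ⧸ ((Cfsg.pCoreOf p L)).subgroupOf NL)), V.Normal → Cfsg.IsElementaryAbelian p V → V ≠ ⊥ → V = Ybar := by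
  intro Ybar
  obtain ⟨hne, huniq⟩ := LocalStructure.frakL_unique hL
  have hYL : Cfsg.largestPReducedOf p M ≤ L := hL.1
  set Y := Cfsg.largestPReducedOf p M with hY
  obtain ⟨hcomm, hexp⟩ := Thompson.ea_iff.mp (LocalStructure.reducedIn_largest (p := p) M).ea
  have hNLL : NL ≤ L := hNL.le.trans inf_le_left
  have hYNL : Y ≤ NL := (le_inf hYL Subgroup.le_normalizer).trans hNL.ge
  set N := (Cfsg.pCoreOf p L).subgroupOf NL with hN
  set π := QuotientGroup.mk' (Cfsg.pCore p L) with hπ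
  have hAsub : (Cfsg.pCoreOf p L).subgroupOf L = Cfsg.pCore p L :=
    Subgroup.comap_map_eq_self_of_injective L.subtype_injective _
  have hker : N = (π.comp (Subgroup.inclusion hNLL)).ker := by
    rw [← MonoidHom.comap_ker, QuotientGroup.ker_mk', ← hAsub]
    rfl
  set ψ : (↥NL ⧸ N) →* (↥L ⧸ Cfsg.pCore p L) :=
    QuotientGroup.lift N (π.comp (Subgroup.inclusion hNLL)) hker.le with hψ
  have hinj : Function.Injective ψ := (MonoidHom.ker_eq_bot_iff ψ).mp (by
    rw [hψ, QuotientGroup.ker_lift, ← hker, QuotientGroup.map_mk'_self])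
  have hcomp : ∀ W : Subgroup NL, (W.map (QuotientGroup.mk' N)).map ψ = (W.map (Subgroup.inclusion hNLL)).map π := by
    intro W
    rw [Subgroup.map_map, Subgroup.map_map]
    rfl
  have hYbar : Ybar.map ψ = (Y.subgroupOf L).map π := by
    rw [hcomp]
    congr 1
    ext x
    constructor
    · rintro ⟨y, hy, rfl⟩
      exact hy
    · exact fun hx => ⟨⟨x.1, hYNL hx⟩, hx, rfl⟩
  have hN0 : Subgroup.normalizer ((Y.subgroupOf L : Subgroup L) : Set L) = NL.subgroupOf L := by
    rw [← Subgroup.subgroupOf_normalizer_eq hYL, hNL, Subgroup.inf_subgroupOf_left]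
  have hrange : ψ.range = (Subgroup.normalizer ((Y.subgroupOf L : Subgroup L) : Set L)).map π := by
    rw [hN0, MonoidHom.range_eq_map, ← Subgroup.map_top_of_surjective _ (QuotientGroup.mk'_surjective N), hcomp]
    congr 1
    ext x
    constructor
    · rintro ⟨y, -, rfl⟩
      exact y.2
    · exact fun hx => ⟨⟨x.1, hx⟩, trivial, rfl⟩
  have hYn : Ybar.Normal := by
    refine Subgroup.Normal.map ?_ _ (QuotientGroup.mk'_surjective N)
    exact Subgroup.normal_subgroupOf_iff_le_normalizer hYNL |>.mpr (hNL.le.trans inf_le_right)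
  have hYne : Ybar ≠ ⊥ := by
    intro h
    rw [h, Subgroup.map_bot] at hYbar
    exact hne hYbar.symm
  have hYea : Cfsg.IsElementaryAbelian p Ybar := by
    refine Thompson.ea_iff.mpr ⟨?_, ?_⟩
    · rintro _ ⟨a, ha, rfl⟩ _ ⟨b, hb, rfl⟩
      rw [← map_mul, ← map_mul]
      exact congrArg _ (Subtype.ext (Subgroup.mem_centralizer_iff.mp (hcomm ha) _ hb))
    · rintro _ ⟨a, ha, rfl⟩
      rw [← map_pow, show a ^ p = 1 from Subtype.ext (hexp _ ha), map_one]
  refine ⟨hYne, hYn, hYea, fun V hV hVea hV1 => ?_⟩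
  have hexpV := (Thompson.ea_iff.mp hVea).2
  refine Subgroup.map_injective hinj (hYbar.symm ▸ huniq (V.map ψ) ?_ ?_ ?_ ?_ ?_)
  · exact (Subgroup.map_le_range ψ V).trans hrange.le
  · rw [← hrange, MonoidHom.range_eq_map]
    exact (Subgroup.map_mono (Subgroup.normalizer_eq_top_iff.mpr hV).ge).trans (Subgroup.le_normalizer_map ψ)
  · exact IsPGroup.map (fun v => ⟨1, Subtype.ext (by simpa using hexpV v.1 v.2)⟩) ψ
  · rintro _ ⟨v, hv, rfl⟩
    rw [← map_pow, hexpV v hv, map_one]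
  · exact fun h => hV1 ((Subgroup.map_eq_bot_iff_of_injective _ hinj).mp h)

end Cfsg.Agent.S2861
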