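import Cfsg.Statements.S2862
import Cfsg.Agent.LocalStructure.AsymLLemma
import Cfsg.Agent.S2850

set_option autoImplicit false
open Cfsg

namespace Cfsg.Agent.S2862

/-- Standing hypotheses: G a finite group, S a Sylow p-subgroup, Q a nontrivial large p-subgroup of G contained in S, M a subgroup containing S with the basic property (M ∈ 𝔐_G(S)); Y_M the largest p-reduced normal subgroup of M and M† = M·C_G(Y_M). Suppose Y_M is char-p-tall and asymmetric in G, H ∈ ℌ_G(O_p(M)), and L is minimal among the subgroups of H containing Y_M with Y_M ≰ O_p(L). Then H = ⟨L, O_p(M)⟩ = ⟨hY_Mh⁻¹, O_p(M)⟩ for every h ∈ L outside N_L(Y_M); L is Y_M-minimal and of characteristic p, with N_L(Y_M) the unique maximal subgroup of L containing Y_M; [V, O^p(L)] ≠ 1 for every noncentral chief factor V/W of H inside O_p(H) (that is, O^p(L) does not act trivially on V/W); and the normal closure of O_p(L) ∩ Y_M in L lies in O_p(H). -/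
theorem result {G : Type*} [Group G] [Finite G] {p : ℕ} [Fact p.Prime] (S : Sylow p G) (Q : Subgroup G) (hQp : IsPGroup p ↥Q) (hQ1 : Q ≠ ⊥) (hQS : Q ≤ (S : Subgroup G)) (hQ : Cfsg.IsLarge Q) (M : Subgroup G) (hSM : (S : Subgroup G) ≤ M) (hM : Cfsg.IsInFrakM p M) (htall : Cfsg.IsCharPTall p (Cfsg.largestPReducedOf p M)) (hasym : ¬ Cfsg.IsSymmetricIn (Cfsg.largestPReducedOf p M)) (H : Subgroup G) (hH : Cfsg.IsInFrakH p M H) (L : Subgroup G) (hLH : L ≤ H) (hYL : (Cfsg.largestPReducedOf p M) ≤ L) (hYO : ¬ (Cfsg.largestPReducedOf p M) ≤ (Cfsg.pCoreOf p L)) (hmin : ∀ L' : Subgroup G, L' ≤ L → (Cfsg.largestPReducedOf p M) ≤ L' → ¬ (Cfsg.largestPReducedOf p M) ≤ (Cfsg.pCoreOf p L') → L' = L) : (L ⊔ (Cfsg.pCoreOf p M) = H ∧ ∀ h ∈ L, h ∉ Subgroup.normalizer (((Cfsg.largestPReducedOf p M) : Subgroup G) : Set G) → (((Cfsg.largestPReducedOf p M) : Subgroup G).map (MulAut.conj (h : G)).toMonoidHom) ⊔ (Cfsg.pCoreOf p M) = H) ∧ (Cfsg.IsMinimalOver (((Cfsg.largestPReducedOf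 p M)).subgroupOf L) ∧ Subgroup.centralizer (Cfsg.pCore p ↥L : Set ↥L) ≤ Cfsg.pCore p ↥L ∧ L ⊓ Subgroup.normalizer (((Cfsg.largestPReducedOf p M) : Subgroup G) : Set G) < L ∧ ∀ X : Subgroup G, (Cfsg.largestPReducedOf p M) ≤ X → X < L → X ≤ L ⊓ Subgroup.normalizer (((Cfsg.largestPReducedOf p M) : Subgroup G) : Set G)) ∧ (∀ V W' : Subgroup G, V ≤ (Cfsg.pCoreOf p H) → H ≤ Subgroup.normalizer ((V : Subgroup G) : Set G) → H ≤ Subgroup.normalizer ((W' : Subgroup G) : Set G) → W' < V → (∀ Z' : Subgroup G, H ≤ Subgroup.normalizer ((Z' : Subgroup G) : Set G) → W' ≤ Z' → Z' ≤ V → Z' = W' ∨ Z' = V) → ¬ ⁅V, H⁆ ≤ W' → ¬ ⁅V, ((Cfsg.pResidual p ↥L).map (L).subtype)⁆ ≤ W') ∧ (Subgroup.normalClosure (((((Cfsg.pCoreOf p L) ⊓ (Cfsg.largestPReducedOf p M)).subgroupOf L : Subgroup ↥L)) : Set ↥L)).map L.subtype ≤ (Cfsg.pCoreOf p H) := by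
  set O := Cfsg.pCoreOf p M with hO
  set Y := Cfsg.largestPReducedOf p M with hY
  set U := Cfsg.pCoreOf p H with hU
  have hred := LocalStructure.reducedIn_largest (p := p) M
  have hOp : IsPGroup p O := LocalStructure.pCoreOf_isPGroup M
  have hUp : IsPGroup p U := LocalStructure.pCoreOf_isPGroup H
  have hOH : O ≤ H := hH.2.1
  have hNd : Subgroup.normalizer (O : Set G) ≤ LocalStructure.dagger p M :=
    LocalStructure.normalizer_le_dagger hQp hQ S hSM hM hOp
      (LocalStructure.charPSubgroups_iff.mp hM.1).1 (LocalStructure.le_normalizer_pCoreOf M)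
  have hUO : U ≤ Subgroup.normalizer (O : Set G) := le_sup_left.trans
    (LocalStructure.asym_le_normalizer hQp hQ S hSM hM hasym
      (hUp.to_sup_of_normal_left' hOp
        (hOH.trans (LocalStructure.le_normalizer_pCoreOf H))) le_sup_right)
  have C : LocalStructure.AsymL.Ctx p O Y U H :=
    { hOp := hOp
      hUp := hUp
      hYO := LocalStructure.reduced_le_pCoreOf hred
      hOH := hOH
      hOY := LocalStructure.pCoreOf_le_centralizer hred
      hUO := hUO
      hUY := (hUO.trans hNd).trans (LocalStructure.dagger_le_normalizer_largest M)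
      hUH := LocalStructure.pCoreOf_le H
      hHU := LocalStructure.le_normalizer_pCoreOf H
      hmax := fun N hN hHN hNp => LocalStructure.le_pCoreOf_of_normal hN hHN hNp
      hself := fun c hc hcp hcu => by
        have h1 : (⟨c, hc⟩ : H) ∈ Cfsg.pCore p H := by
          refine hH.1 (Subgroup.mem_centralizer_iff.mpr fun u hu => Subtype.ext ?_)
          exact (hcu u ⟨u, hu, rfl⟩).symm
        have hcU : c ∈ U := ⟨⟨c, hc⟩, h1, rfl⟩
        obtain ⟨k, hk⟩ := IsPGroup.iff_orderOf.mp hUp ⟨c, hcU⟩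
        rw [Subgroup.orderOf_mk] at hk
        rw [hk] at hcp
        rcases Nat.eq_zero_or_pos k with rfl | hk0
        · exact orderOf_eq_one_iff.mp (by simpa using hk)
        · rw [Nat.coprime_pow_left_iff hk0, Nat.coprime_self] at hcp
          exact absurd hcp (Fact.out : p.Prime).ne_one
      hNY := fun P hP hOP =>
        (((Cfsg.Agent.S2850.result S Q hQp hQ1 hQS hQ M hSM hM hasym).1 P hP hOP).1.trans hNd).trans
          (LocalStructure.dagger_le_normalizer_largest M)
      hasym := fun g h1 h2 => LocalStructure.asym_le_centralizer hasym h1 h2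
      hmin := hH.2.2.2 }
  have St : LocalStructure.AsymL.LSetup p Y H L := ⟨hLH, hYL, hYO, hmin⟩
  refine ⟨⟨LocalStructure.AsymL.sup_eq C St, fun h hh hhN => LocalStructure.AsymL.conj_sup_eq C St hh hhN⟩,
    ⟨LocalStructure.AsymL.minimalOver C St, LocalStructure.AsymL.charP_L C St,
      LocalStructure.AsymL.inf_normalizer_lt C St, fun X h1 h2 => LocalStructure.AsymL.le_unique_max C St h1 h2⟩,
    fun V W' h1 h2 h3 h4 h5 h6 => LocalStructure.AsymL.chief C St h1 h2 h3 h4 h5 h6, ?_⟩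
  exact LocalStructure.nclIn_le_of_normalized (LocalStructure.AsymL.inf_le_U C St)
    (hLH.trans (LocalStructure.le_normalizer_pCoreOf H))

end Cfsg.Agent.S2862
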