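import Cfsg.Statements.S2863
import Cfsg.Agent.LocalStructure.FrakLSetup

set_option autoImplicit false
open Cfsg

set_option linter.all false

namespace Cfsg.Agent.S2863

/-- Standing hypotheses: G a finite group, S a Sylow p-subgroup, Q a nontrivial large p-subgroup of G contained in S, M a subgroup containing S with the basic property (M ∈ 𝔐_G(S)); Y_M the largest p-reduced normal subgroup of M and M† = M·C_G(Y_M). Let L ∈ 𝔏_G(Y_M) (L ∈ 𝔏_G(Y_M): Y_M ≤ L; O_p(L) is the normal closure in L of Y_M ∩ O_p(L) and normalizes Y_M; L is Y_M-minimal of characteristic p with N_L(Y_M) its unique maximal subgroup over Y_M; and L/O_p(L) ≅ SL₂(q) with q = |Y_M : Y_M ∩ O_p(L)|, or p = 2 and L/O_p(L) is a Suzuki group Sz(q) or dihedral of order 2r, r an odd prime), A = O_p(L), and C = C_{Y_M}(L). Then every element h of L whose order is not a power of p acts without nontrivial fixed points on A/C: for a ∈ A, hah⁻¹a⁻¹ ∈ C implies a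 ∈ C. -/
theorem result {G : Type*} [Group G] [Finite G] {p : ℕ} [Fact p.Prime] (S : Sylow p G) (Q : Subgroup G) (hQp : IsPGroup p ↥Q) (hQ1 : Q ≠ ⊥) (hQS : Q ≤ (S : Subgroup G)) (hQ : Cfsg.IsLarge Q) (M : Subgroup G) (hSM : (S : Subgroup G) ≤ M) (hM : Cfsg.IsInFrakM p M) (L : Subgroup G) (hL : Cfsg.IsInFrakL p M L) (h : G) (hh : h ∈ L) (hnp : ¬ ∃ k : ℕ, orderOf h = p ^ k) : ∀ a ∈ (Cfsg.pCoreOf p L), h * a * h⁻¹ * a⁻¹ ∈ (Cfsg.largestPReducedOf p M) ⊓ Subgroup.centralizer ((L : Subgroup G) : Set G) → a ∈ (Cfsg.largestPReducedOf p M) ⊓ Subgroup.centralizer ((L : Subgroup G) : Set G) := by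
  intro a ha hc
  obtain ⟨hset, hfac⟩ := LocalStructure.frakL_setup hL
  obtain ⟨a0, ha0, rfl⟩ := ha
  set h0 : L := ⟨h, hh⟩ with hh0
  have hnp0 : ¬ ∃ k : ℕ, orderOf h0 = p ^ k := fun ⟨k, hk⟩ =>
    hnp ⟨k, by rw [← hk, ← Subgroup.orderOf_coe]⟩
  have key : ∀ x : L, (x : G) ∈ Subgroup.centralizer ((L : Subgroup G) : Set G) ↔ x ∈ Subgroup.center L := by
    intro x
    rw [Subgroup.mem_centralizer_iff, Subgroup.mem_center_iff]
    exact ⟨fun hx g => Subtype.ext (hx g g.2), fun hx g hg => congrArg Subtype.val (hx ⟨g, hg⟩)⟩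
  have hres := hset.mem_centralPart hfac hnp0 ha0
    ⟨(Subgroup.mem_inf.mp hc).1, (key (h0 * a0 * h0⁻¹ * a0⁻¹)).mp (Subgroup.mem_inf.mp hc).2⟩
  exact Subgroup.mem_inf.mpr ⟨(Subgroup.mem_inf.mp hres).1, (key a0).mpr (Subgroup.mem_inf.mp hres).2⟩

end Cfsg.Agent.S2863
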