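import Cfsg.Statements.S2864
import Cfsg.Agent.LocalStructure.FrakM
import Cfsg.Agent.LocalStructure.OmegaAction
import Cfsg.Agent.Core.Frattini


set_option autoImplicit false
open Cfsg

set_option linter.all false

namespace Cfsg.Agent.S2864

open scoped commutatorElement

/-- Standing hypotheses: G a finite group, S a Sylow p-subgroup, Q a nontrivial large p-subgroup of G contained in S, M a subgroup containing S with the basic property (M ∈ 𝔐_G(S)); Y_M the largest p-reduced normal subgroup of M and M† = M·C_G(Y_M). Let I be a nontrivial normal p-subgroup of M and Y ≤ O_p(M†); let L be a subgroup of G containing Y and A a normal p-subgroup of L with I ≤ A ≤ M. If [Y, A] ≤ [I, A], then Y ≤ O_p(L). -/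
theorem result {G : Type*} [Group G] [Finite G] {p : ℕ} [Fact p.Prime] (S : Sylow p G) (Q : Subgroup G) (hQp : IsPGroup p ↥Q) (hQ1 : Q ≠ ⊥) (hQS : Q ≤ (S : Subgroup G)) (hQ : Cfsg.IsLarge Q) (M : Subgroup G) (hSM : (S : Subgroup G) ≤ M) (hM : Cfsg.IsInFrakM p M) (I : Subgroup G) (hI1 : I ≠ ⊥) (hIp : IsPGroup p ↥I) (hIM : I ≤ M ∧ M ≤ Subgroup.normalizer ((I : Subgroup G) : Set G)) (Y : Subgroup G) (hY : Y ≤ (Cfsg.pCoreOf p (M ⊔ Subgroup.centralizer (((Cfsg.largestPReducedOf p M) : Subgroup G) : Set G)))) (L : Subgroup G) (hYL : Y ≤ L) (A : Subgroup G) (hAp : IsPGroup p ↥A) (hAL : A ≤ L ∧ L ≤ Subgroup.normalizer ((A : Subgroup G) : Set G)) (hIA : I ≤ A) (hAM : A ≤ M) (hc : ⁅Y, A⁆ ≤ ⁅I, A⁆) : Y ≤ (Cfsg.pCoreOf p L) := by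
  classical
  set Md : Subgroup G := LocalStructure.dagger p M with hMd
  set CA : Subgroup G := L ⊓ Subgroup.centralizer (A : Set G) with hCA
  set F : Subgroup G := (frattini A).map A.subtype with hF
  set O : Subgroup G := Cfsg.pCoreOf p L with hO
  have hYp : IsPGroup p Y := (LocalStructure.pCoreOf_isPGroup Md).to_le hY
  have hCAn : L ≤ Subgroup.normalizer (CA : Set G) :=
    Coprime.le_normalizer_inf Subgroup.le_normalizer (Coprime.le_normalizer_centralizer hAL.2)
  -- `C_L(A) ≤ M†`, so `[Y, C_L(A)] ≤ O_p(L)`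
  have hCM : CA ≤ Md := by
    refine le_trans ?_ (LocalStructure.normalizer_le_dagger hQp hQ S hSM hM hIp hI1 hIM.2)
    exact (inf_le_right.trans (Subgroup.centralizer_le (SetLike.coe_subset_coe.mpr hIA))).trans
      (Subgroup.centralizer_le_normalizer _)
  have hYC : ⁅Y, CA⁆ ≤ O := by
    have h1 : ⁅Y, CA⁆ ≤ CA ⊓ Cfsg.pCoreOf p Md := le_inf
      (by rw [Subgroup.commutator_comm]; exact Subgroup.le_normalizer_iff_commutator_le_left.mp (hYL.trans hCAn))
      ((Subgroup.commutator_mono hY le_rfl).trans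
        (Subgroup.le_normalizer_iff_commutator_le_left.mp (hCM.trans (LocalStructure.le_normalizer_pCoreOf Md))))
    refine h1.trans (LocalStructure.le_pCoreOf (inf_le_left.trans inf_le_left) ?_
      ((LocalStructure.pCoreOf_isPGroup Md).to_le inf_le_right))
    refine Subgroup.IsSubnormal.trans (K := CA.subgroupOf L) (fun x hx => hx.1) ?_
      (Subgroup.Normal.isSubnormal (Subgroup.normal_subgroupOf_of_le_normalizer hCAn))
    refine Subgroup.Normal.isSubnormal (Subgroup.normal_subgroupOf_of_le_normalizer fun x hx => ?_)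
    have hx' : (x : G) ∈ Subgroup.normalizer ((CA ⊓ Cfsg.pCoreOf p Md : Subgroup G) : Set G) :=
      (Coprime.le_normalizer_inf Subgroup.le_normalizer (hCM.trans (LocalStructure.le_normalizer_pCoreOf Md)) :
        CA ≤ _) hx
    rw [Subgroup.mem_normalizer_iff]
    intro y
    exact Subgroup.mem_normalizer_iff.mp hx' (y : G)
  -- the stabilizer of `A / Φ(A)`
  have hLF : L ≤ Subgroup.normalizer (F : Set G) := LocalStructure.le_normalizer_map_characteristic hAL.2 _
  let K : Subgroup G :=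
    { carrier := {x | x ∈ L ∧ ∀ a ∈ A, ⁅x, a⁆ ∈ F}
      mul_mem' := by
        rintro x y ⟨hx, hx'⟩ ⟨hy, hy'⟩
        refine ⟨L.mul_mem hx hy, fun a ha => ?_⟩
        rw [show ⁅x * y, a⁆ = x * ⁅y, a⁆ * x⁻¹ * ⁅x, a⁆ by simp only [commutatorElement_def]; group]
        exact F.mul_mem ((Subgroup.mem_normalizer_iff.mp (hLF hx) _).mp (hy' a ha)) (hx' a ha)
      one_mem' := ⟨L.one_mem, fun a _ => by rw [commutatorElement_one_left]; exact F.one_mem⟩
      inv_mem' := by
        rintro x ⟨hx, hx'⟩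
        refine ⟨L.inv_mem hx, fun a ha => ?_⟩
        rw [show ⁅x⁻¹, a⁆ = x⁻¹ * ⁅x, a⁆⁻¹ * x⁻¹⁻¹ by simp only [commutatorElement_def]; group]
        exact (Subgroup.mem_normalizer_iff.mp (hLF (L.inv_mem hx)) _).mp (F.inv_mem (hx' a ha)) }
  have hKL : K ≤ L := fun x hx => hx.1
  have hLK : L ≤ Subgroup.normalizer (K : Set G) := by
    intro l hl
    refine Layer.mem_normalizer_of_conj_mem fun x hx => ⟨L.mul_mem (L.mul_mem hl hx.1) (L.inv_mem hl), fun a ha => ?_⟩
    have ha' : l⁻¹ * a * l ∈ A := by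
      simpa using (Subgroup.mem_normalizer_iff.mp (hAL.2 (L.inv_mem hl)) a).mp ha
    rw [show ⁅l * x * l⁻¹, a⁆ = l * ⁅x, l⁻¹ * a * l⁆ * l⁻¹ by simp only [commutatorElement_def]; group]
    exact (Subgroup.mem_normalizer_iff.mp (hLF hl) _).mp (hx.2 _ ha')
  have hYK : Y ≤ K := fun y hy => ⟨hYL hy, fun a ha => by
    have h1 : ⁅y, a⁆ ∈ ⁅I, A⁆ := hc (Subgroup.commutator_mem_commutator hy ha)
    have h2 : ⁅A, A⁆ ≤ F := by
      have : Group.IsNilpotent A := hAp.isNilpotent
      have h3 := Subgroup.map_mono (f := A.subtype) (Core.commutator_le_frattini (G := A))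
      rw [commutator_def, Subgroup.map_commutator, ← MonoidHom.range_eq_map, Subgroup.range_subtype] at h3
      exact h3
    exact h2 (Subgroup.commutator_mono hIA le_rfl h1)⟩
  have hKC : ∀ g ∈ K, (orderOf g).Coprime p → g ∈ CA := by
    intro g hg hgc
    refine ⟨hg.1, Coprime.le_centralizer_of_trivial_mod_frattini (A := Subgroup.zpowers g) (K := A)
      (Subgroup.zpowers_le.mpr (hAL.2 hg.1)) ?_ ?_ (Subgroup.mem_zpowers g)⟩
    · obtain ⟨n, hn⟩ := IsPGroup.iff_card.mp (hAp.to_subgroup (frattini A))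
      rw [Nat.card_zpowers, hn]
      exact hgc.pow_right n
    · intro a ha k hk
      have h1 := ((Subgroup.zpowers_le.mpr hg : Subgroup.zpowers g ≤ K) ha).2 k hk
      rwa [commutatorElement_def] at h1
  -- pass to `L / O_p(L)`
  set f := QuotientGroup.mk' (Cfsg.pCore p L) with hf
  set Yb := (Y.subgroupOf L).map f with hYb
  set Cb := (CA.subgroupOf L).map f with hCb
  haveI : (CA.subgroupOf L).Normal := Subgroup.normal_subgroupOf_of_le_normalizer hCAn
  haveI : Cb.Normal := Subgroup.Normal.map inferInstance f (QuotientGroup.mk'_surjective _)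
  set Kb := (K.subgroupOf L).map f with hKb
  haveI : Kb.Normal := Subgroup.Normal.map (Subgroup.normal_subgroupOf_of_le_normalizer hLK) f
    (QuotientGroup.mk'_surjective _)
  set X := Subgroup.normalClosure (Yb : Set (L ⧸ Cfsg.pCore p L)) with hX
  have hXK : X ≤ Kb := Subgroup.normalClosure_le_normal (Subgroup.map_mono fun y hy => hYK hy)
  have hYbC : Yb ≤ Subgroup.centralizer (Cb : Set (L ⧸ Cfsg.pCore p L)) := by
    rw [← Subgroup.commutator_eq_bot_iff_le_centralizer, ← Subgroup.map_commutator,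
      Subgroup.map_eq_bot_iff, hf, QuotientGroup.ker_mk']
    intro z hz
    have h1 : (z : G) ∈ O := by
      apply hYC
      have h2 := Subgroup.mem_map_of_mem L.subtype hz
      rw [Subgroup.map_commutator, Subgroup.map_subgroupOf_eq_of_le hYL,
        Subgroup.map_subgroupOf_eq_of_le inf_le_left] at h2
      exact h2
    obtain ⟨w, hw, hwz⟩ := h1
    rwa [← show w = z from Subtype.ext hwz]
  have hXC : X ≤ Subgroup.centralizer (Cb : Set (L ⧸ Cfsg.pCore p L)) :=
    Subgroup.normalClosure_le_normal hYbC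
  have hXnil : Group.IsNilpotent X := by
    refine Group.of_quotient_center_nilpotent ?_
    refine (show IsPGroup p (X ⧸ Subgroup.center X) from ?_).isNilpotent
    intro xb
    obtain ⟨⟨x, hx⟩, rfl⟩ := QuotientGroup.mk_surjective xb
    obtain ⟨k, hk, hkx⟩ := hXK hx
    obtain ⟨j, hj⟩ := LocalStructure.exists_pow_mem_of_coprime_mem hKC (g := (k : G)) hk
    refine ⟨j, ?_⟩
    rw [← QuotientGroup.mk_pow, QuotientGroup.eq_one_iff, Subgroup.mem_center_iff]
    have h3 : x ^ p ^ j ∈ Cb := ⟨k ^ p ^ j, hj, by rw [map_pow, hkx]⟩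
    rintro ⟨w, hw⟩
    apply Subtype.ext
    exact (Subgroup.mem_centralizer_iff.mp (hXC hw) _ h3).symm
  have hcore : Cfsg.pCore p (L ⧸ Cfsg.pCore p L) = ⊥ := Core.pCore_quotient_eq_bot
  have hYb1 : Yb = ⊥ := by
    obtain ⟨P, hP⟩ := ((hYp.comap_of_injective L.subtype L.subtype_injective).map f).comap_of_injective X.subtype
      X.subtype_injective |>.exists_le_sylow
    have hPn : (P : Subgroup X).Normal := inferInstance
    haveI : (P : Subgroup X).Characteristic := Sylow.characteristic_of_normal P hPn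
    have h4 : (P : Subgroup X).map X.subtype ≤ Cfsg.pCore p (L ⧸ Cfsg.pCore p L) := by
      haveI : ((P : Subgroup X).map X.subtype).Normal := inferInstance
      exact Core.le_pCore (P.isPGroup'.map _)
    rw [hcore, le_bot_iff, Subgroup.map_eq_bot_iff_of_injective _ X.subtype_injective] at h4
    rw [eq_bot_iff]
    intro y hy
    have hyX : y ∈ X := Subgroup.subset_normalClosure hy
    have h5 := hP (show (⟨y, hyX⟩ : X) ∈ Yb.comap X.subtype from hy)
    rw [h4, Subgroup.mem_bot] at h5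
    exact Subgroup.mem_bot.mpr (congrArg Subtype.val h5)
  intro y hy
  have h6 : f ⟨y, hYL hy⟩ = 1 := Subgroup.mem_bot.mp (hYb1 ▸ ⟨⟨y, hYL hy⟩, hy, rfl⟩)
  exact ⟨⟨y, hYL hy⟩, (QuotientGroup.eq_one_iff _).mp h6, rfl⟩

end Cfsg.Agent.S2864
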