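import Cfsg.Statements.S2872
import Cfsg.Agent.Fusion.Residual
import Cfsg.Agent.Core.Frattini
import Mathlib.GroupTheory.Transfer

set_option autoImplicit false
open Cfsg
open scoped Pointwise

namespace Cfsg.Agent.S2872

/-- Let S be a Sylow 2-subgroup of the finite group G. Then G has a proper normal subgroup of 2-power index (O²(G) ≠ G), or Ω₁(Z(S)) is contained in the Frattini subgroup of S, or N_G(S) acts nontrivially on Ω₁(Z(S)) by conjugation. -/
theorem result {G : Type*} [Group G] [Finite G] (S : Sylow 2 G) : Cfsg.pResidual 2 G ≠ ⊤ ∨ Cfsg.omegaOne 2 ((S : Subgroup G) ⊓ Subgroup.centralizer ((S : Subgroup G) : Set G)) ≤ (frattini ↥(S : Subgroup G)).map (S : Subgroup G).subtype ∨ ∃ g ∈ Subgroup.normalizer ((S : Subgroup G) : Set G), ∃ z ∈ Cfsg.omegaOne 2 ((S : Subgroup G) ⊓ Subgroup.centralizer ((S : Subgroup G) : Set G)), g * z * g⁻¹ ≠ z := by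
  classical
  by_contra hcon
  push Not at hcon
  obtain ⟨hres, hΩ, hN⟩ := hcon
  -- an involution of Z(S) outside Φ(S)
  obtain ⟨z, ⟨hz, hz2⟩, hzΦ⟩ : ∃ z ∈ {x : G | x ∈ (S : Subgroup G) ⊓
      Subgroup.centralizer ((S : Subgroup G) : Set G) ∧ x ^ 2 = 1},
      z ∉ (frattini ↥(S : Subgroup G)).map (S : Subgroup G).subtype := by
    by_contra hne
    push Not at hne
    exact hΩ ((Subgroup.closure_le _).2 hne)
  obtain ⟨hzS, hzC⟩ := Subgroup.mem_inf.1 hz
  rw [Subgroup.mem_centralizer_iff] at hzC
  have hzΩ : z ∈ omegaOne 2 ((S : Subgroup G) ⊓ Subgroup.centralizer ((S : Subgroup G) : Set G)) :=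
    Subgroup.subset_closure ⟨hz, hz2⟩
  -- a maximal subgroup R of S missing z
  obtain ⟨R, hR, hzR⟩ : ∃ R : Subgroup (S : Subgroup G), IsCoatom R ∧ ⟨z, hzS⟩ ∉ R := by
    by_contra hne
    push Not at hne
    exact hzΦ ⟨⟨z, hzS⟩, Subgroup.mem_iInf.2 fun M => Subgroup.mem_iInf.2 (hne M), rfl⟩
  obtain ⟨hRn, hRi⟩ := Cfsg.Agent.Core.index_eq_of_isCoatom S.isPGroup' hR
  have hcard : Nat.card ((S : Subgroup G) ⧸ R) = 2 := by rw [← Subgroup.index_eq_card]; exact hRi
  haveI : IsCyclic ((S : Subgroup G) ⧸ R) := isCyclic_of_prime_card hcard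
  letI : CommGroup ((S : Subgroup G) ⧸ R) := IsCyclic.commGroup
  let φ : (S : Subgroup G) →* (S : Subgroup G) ⧸ R := QuotientGroup.mk' R
  set a := φ ⟨z, hzS⟩ with ha
  have ha1 : a ≠ 1 := fun h => hzR ((QuotientGroup.eq_one_iff _).1 h)
  have hA : ∀ b : (S : Subgroup G) ⧸ R, b = 1 ∨ b = a := by
    intro b
    by_contra hb
    push Not at hb
    haveI : Fintype ((S : Subgroup G) ⧸ R) := Fintype.ofFinite _
    have h3 : ({1, a, b} : Finset _).card ≤ Fintype.card ((S : Subgroup G) ⧸ R) :=
      Finset.card_le_univ _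
    rw [Finset.card_insert_of_notMem (by simp [ha1.symm, hb.1.symm]),
      Finset.card_insert_of_notMem (by simp [hb.2.symm]), Finset.card_singleton,
      ← Nat.card_eq_fintype_card, hcard] at h3
    omega
  -- the transfer kills z
  have hV1 : MonoidHom.transfer φ z = 1 := by
    have hle := Cfsg.Agent.Fusion.pResidual_le_ker (MonoidHom.transfer φ)
      (IsPGroup.of_card (n := 1) (by rw [hcard, pow_one]))
    rw [hres] at hle
    exact hle (Subgroup.mem_top z)
  -- the summands
  haveI : Fintype (G ⧸ (S : Subgroup G)) := Fintype.ofFinite _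
  let h : G ⧸ (S : Subgroup G) → (S : Subgroup G) ⧸ R := fun q =>
    if hq : q.out⁻¹ * z * q.out ∈ (S : Subgroup G) then φ ⟨_, hq⟩ else 1
  have hh : ∀ g : G, h (QuotientGroup.mk g) =
      if hg : g⁻¹ * z * g ∈ (S : Subgroup G) then φ ⟨_, hg⟩ else 1 := by
    intro g
    set q : G ⧸ (S : Subgroup G) := QuotientGroup.mk g with hq
    set s : (S : Subgroup G) := ⟨g⁻¹ * q.out, QuotientGroup.eq.1 (QuotientGroup.out_eq' q).symm⟩
    have e : q.out⁻¹ * z * q.out = (s : G)⁻¹ * (g⁻¹ * z * g) * s := by
      show _ = (g⁻¹ * q.out)⁻¹ * _ * (g⁻¹ * q.out)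
      group
    by_cases hg : g⁻¹ * z * g ∈ (S : Subgroup G)
    · have hm : q.out⁻¹ * z * q.out ∈ (S : Subgroup G) := by
        rw [e]; exact mul_mem (mul_mem (inv_mem s.2) hg) s.2
      simp only [h, dif_pos hm, dif_pos hg]
      have e' : (⟨_, hm⟩ : (S : Subgroup G)) = s⁻¹ * ⟨_, hg⟩ * s := Subtype.ext (by simpa using e)
      rw [e', map_mul, map_mul, map_inv, mul_comm (φ s)⁻¹ _, inv_mul_cancel_right]
    · have hm : ¬ q.out⁻¹ * z * q.out ∈ (S : Subgroup G) := by
        intro hm
        apply hg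
        have : g⁻¹ * z * g = (s : G) * (q.out⁻¹ * z * q.out) * (s : G)⁻¹ := by rw [e]; group
        rw [this]
        exact mul_mem (mul_mem s.2 hm) (inv_mem s.2)
      simp only [h, dif_neg hm, dif_neg hg]
  have hfix : ∀ q : G ⧸ (S : Subgroup G), h q ≠ 1 → z • q = q := by
    intro q hq
    induction q using QuotientGroup.induction_on with
    | H g =>
      rw [hh] at hq
      split at hq
      · rename_i hg
        refine (QuotientGroup.eq).2 ?_
        have := inv_mem hg
        simpa [mul_assoc] using this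
      · exact absurd rfl hq
  -- evaluate the transfer
  have hV : MonoidHom.transfer φ z = ∏ q, h q := by
    haveI : Fintype (Quotient (MulAction.orbitRel (Subgroup.zpowers z) (G ⧸ (S : Subgroup G)))) :=
      Fintype.ofFinite _
    rw [MonoidHom.transfer_eq_prod_quotient_orbitRel_zpowers_quot]
    have hterm : ∀ (q : G ⧸ (S : Subgroup G)) (hm), φ ⟨q.out⁻¹ *
        z ^ Function.minimalPeriod (z • ·) q * q.out, hm⟩ = h q := by
      intro q hm
      by_cases hf : z • q = q
      · have hp : Function.minimalPeriod (z • ·) q = 1 :=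
          Function.minimalPeriod_eq_one_iff_isFixedPt.2 hf
        have hm' : q.out⁻¹ * z * q.out ∈ (S : Subgroup G) := by simpa [hp] using hm
        simp only [h, dif_pos hm']
        congr 1
        exact Subtype.ext (by simp [hp])
      · have h1 : h q = 1 := by_contra fun hne => hf (hfix q hne)
        rw [h1, ← map_one φ]
        congr 1
        refine Subtype.ext ?_
        have hd : Function.minimalPeriod (z • ·) q ∣ 2 := by
          refine Function.IsPeriodicPt.minimalPeriod_dvd ?_
          show (z • ·)^[2] q = q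
          simp only [Function.iterate_succ, Function.iterate_zero, Function.comp_apply, id_eq]
          rw [← mul_smul, ← pow_two, hz2, one_smul]
        rcases (Nat.dvd_prime Nat.prime_two).1 hd with hp | hp
        · exact absurd (Function.minimalPeriod_eq_one_iff_isFixedPt.1 hp) hf
        · simp [hp, hz2]
    rw [Fintype.prod_congr _ _ fun q => hterm (Quotient.out q) _]
    refine Finset.prod_bij_ne_one (fun q _ _ => Quotient.out q) (fun _ _ _ => Finset.mem_univ _)
      (fun _ _ _ _ _ _ e => Quotient.out_inj.1 e) (fun b _ hb => ?_) (fun _ _ _ => rfl)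
    have hb' : z • b = b := hfix b hb
    have hout : Quotient.out (Quotient.mk (MulAction.orbitRel (Subgroup.zpowers z) _) b) = b := by
      obtain ⟨⟨w, hw⟩, hwb⟩ := Quotient.exact (Quotient.out_eq
        (Quotient.mk (MulAction.orbitRel (Subgroup.zpowers z) _) b))
      rw [← hwb]
      have hst : Subgroup.zpowers z ≤ MulAction.stabilizer G b := Subgroup.zpowers_le.2 hb'
      exact hst hw
    refine ⟨Quotient.mk _ b, Finset.mem_univ _, ?_, hout⟩
    rw [hout]; exact hb
  -- the set of summands equal to a is S-stable and contains all fixed points of S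
  let B : Finset (G ⧸ (S : Subgroup G)) := Finset.univ.filter fun q => h q ≠ 1
  have hprod : ∏ q, h q = a ^ B.card := by
    rw [← Finset.prod_filter_ne_one]
    exact Finset.prod_eq_pow_card fun q hq => ((hA _).resolve_left (Finset.mem_filter.1 hq).2)
  have hinv : ∀ (s : (S : Subgroup G)) q, h (s • q) = h q := by
    intro s q
    induction q using QuotientGroup.induction_on with
    | H g =>
      show h (QuotientGroup.mk ((s : G) * g)) = _
      rw [hh, hh]
      have e : ((s : G) * g)⁻¹ * z * ((s : G) * g) = g⁻¹ * z * g := by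
        rw [mul_inv_rev, mul_assoc g⁻¹, mul_assoc g⁻¹, ← mul_assoc ((s : G)⁻¹ * z), mul_assoc (s : G)⁻¹ z,
          ← hzC (s : G) s.2, inv_mul_cancel_left]
        group
      simp only [e]
  let Bs : SubMulAction (S : Subgroup G) (G ⧸ (S : Subgroup G)) :=
    { carrier := {q | h q ≠ 1}
      smul_mem' := fun s q (hq : h q ≠ 1) => show h (s • q) ≠ 1 by rwa [hinv] }
  have hfixB : ∀ q ∈ MulAction.fixedPoints (S : Subgroup G) (G ⧸ (S : Subgroup G)), h q ≠ 1 := by
    intro q hq
    induction q using QuotientGroup.induction_on with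
    | H g =>
      have hg : g ∈ Subgroup.normalizer ((S : Subgroup G) : Set G) := by
        exact Sylow.mem_fixedPoints_mul_left_cosets_iff_mem_normalizer.1 hq
      have hgz : g⁻¹ * z * g = z := by simpa using hN g⁻¹ (inv_mem hg) z hzΩ
      rw [hh, dif_pos (by rw [hgz]; exact hzS)]
      convert ha1
  have hodd : Odd B.card := by
    have h1 : Nat.card Bs ≡ Nat.card (MulAction.fixedPoints (S : Subgroup G) Bs) [MOD 2] :=
      S.isPGroup'.card_modEq_card_fixedPoints Bs
    have h2 : Nat.card (G ⧸ (S : Subgroup G)) ≡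
        Nat.card (MulAction.fixedPoints (S : Subgroup G) (G ⧸ (S : Subgroup G))) [MOD 2] :=
      S.isPGroup'.card_modEq_card_fixedPoints _
    have h3 : Nat.card (MulAction.fixedPoints (S : Subgroup G) Bs) =
        Nat.card (MulAction.fixedPoints (S : Subgroup G) (G ⧸ (S : Subgroup G))) := by
      refine Nat.card_congr ⟨fun q => ⟨q.1.1, fun s => congrArg Subtype.val (q.2 s)⟩,
        fun q => ⟨⟨q.1, hfixB q.1 q.2⟩, fun s => Subtype.ext (q.2 s)⟩, fun q => rfl, fun q => rfl⟩
    have h4 : Nat.card Bs = B.card := by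
      rw [show Nat.card Bs = Nat.card {q // h q ≠ 1} from rfl, Nat.card_eq_fintype_card,
        Fintype.card_subtype]
    have h5 : ¬ 2 ∣ Nat.card (G ⧸ (S : Subgroup G)) := by
      rw [← Subgroup.index_eq_card]; exact S.not_dvd_index
    rw [← h4, Nat.odd_iff]
    unfold Nat.ModEq at h1 h2
    omega
  rw [hV, hprod] at hV1
  have h2 : a ^ 2 = 1 := by
    have := pow_card_eq_one' (x := a)
    rwa [hcard] at this
  obtain ⟨k, hk⟩ := hodd
  rw [hk, pow_succ, pow_mul, h2, one_pow, one_mul] at hV1
  exact ha1 hV1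

end Cfsg.Agent.S2872
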