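import Cfsg.Statements.S2873
import Cfsg.Agent.FpfDihedral.Basic
import Mathlib

set_option autoImplicit false
open Cfsg

namespace Cfsg.Agent.S2873

theorem pcore_isPGroup {G : Type*} [Group G] [Finite G] {p : ℕ} [Fact p.Prime] :
    IsPGroup p (Cfsg.pCore p G) := by
  obtain ⟨P⟩ : Nonempty (Sylow p G) := inferInstance
  refine P.isPGroup'.to_le ?_
  refine sSup_le fun N hN => ?_
  obtain ⟨T, hT⟩ := hN.2.exists_le_sylow
  obtain ⟨g, hg⟩ := MulAction.exists_smul_eq G T P
  haveI := hN.1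
  intro x hx
  rw [← hg]
  refine ⟨g⁻¹ * x * g, hT ?_, ?_⟩
  · simpa using hN.1.conj_mem x hx g⁻¹
  · show g * (g⁻¹ * x * g) * g⁻¹ = x
    group

theorem reflection_of_orderOf_two {r : ℕ} [Fact r.Prime] (hr : r ≠ 2) {d : DihedralGroup r}
    (hd : orderOf d = 2) : ∃ i, d = DihedralGroup.sr i := by
  cases d with
  | sr i => exact ⟨i, rfl⟩
  | r i =>
    exfalso
    have h : (DihedralGroup.r i) ^ r = 1 := by
      rw [DihedralGroup.r_pow, mul_comm, ZMod.natCast_self, zero_mul]; rfl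
    have := (Nat.prime_dvd_prime_iff_eq Nat.prime_two (Fact.out : r.Prime)).1
      (hd ▸ orderOf_dvd_of_pow_eq_one h)
    exact hr this.symm

theorem rotation_of_odd {r : ℕ} {d : DihedralGroup r} (hd : ¬ 2 ∣ orderOf d) :
    ∃ i, d = DihedralGroup.r i := by
  cases d with
  | r i => exact ⟨i, rfl⟩
  | sr i => exact absurd (dvd_of_eq (DihedralGroup.orderOf_sr i).symm) hd

/-- Let G be a finite group and r an odd prime such that G ⧸ O₂(G) is dihedral of order 2r, and let R be a Sylow r-subgroup of G with C_{O₂(G)}(R) = 1. Then N_G(R) is dihedral of order 2r; for any involution a of N_G(R), every involution of G outside O₂(G) is conjugate to a; and |C_{O₂(G)}(a)|² = |O₂(G)|. -/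
theorem result {G : Type*} [Group G] [Finite G] {r : ℕ} [Fact r.Prime] (hr : r ≠ 2) [hN : (Cfsg.pCore 2 G).Normal] (hquot : Nonempty (G ⧸ Cfsg.pCore 2 G ≃* DihedralGroup r)) (R : Sylow r G) (hC : Cfsg.pCore 2 G ⊓ Subgroup.centralizer ((R : Subgroup G) : Set G) = ⊥) : Nonempty (↥(Subgroup.normalizer ((R : Subgroup G) : Set G)) ≃* DihedralGroup r) ∧ ∀ a : G, a ∈ Subgroup.normalizer ((R : Subgroup G) : Set G) → orderOf a = 2 → (∀ b : G, orderOf b = 2 → b ∉ Cfsg.pCore 2 G → ∃ g : G, g * a * g⁻¹ = b) ∧ Nat.card ↥(Cfsg.pCore 2 G ⊓ Subgroup.centralizer ({a} : Set G)) ^ 2 = Nat.card ↥(Cfsg.pCore 2 G) := by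
  classical
  have hr' : r.Prime := Fact.out
  haveI : Fact (Nat.Prime 2) := ⟨Nat.prime_two⟩
  obtain ⟨e0⟩ := hquot
  set O := Cfsg.pCore 2 G with hOdef
  have hO : IsPGroup 2 O := pcore_isPGroup
  let π : G →* DihedralGroup r := e0.toMonoidHom.comp (QuotientGroup.mk' O)
  have hπs : Function.Surjective π := e0.surjective.comp (QuotientGroup.mk'_surjective O)
  have hπker : ∀ g, π g = 1 ↔ g ∈ O := fun g => by
    rw [← QuotientGroup.eq_one_iff]
    exact MulEquiv.map_eq_one_iff e0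
  obtain ⟨k, hk⟩ := hO.exists_card_eq
  have hG : Nat.card G = 2 * r * 2 ^ k := by
    rw [Subgroup.card_eq_card_quotient_mul_card_subgroup O, Nat.card_congr e0.toEquiv,
      DihedralGroup.nat_card, hk]
  have hRc : Nat.card (R : Subgroup G) = r := by
    rw [R.card_eq_multiplicity, hG, Nat.factorization_mul (by simp [hr'.ne_zero]) (by simp),
      Nat.factorization_mul (by simp) hr'.ne_zero, Finsupp.add_apply, Finsupp.add_apply,
      hr'.factorization_self, Nat.prime_two.factorization, Nat.prime_two.factorization_pow]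
    simp [Ne.symm hr]
  set NR := Subgroup.normalizer ((R : Subgroup G) : Set G) with hNR
  have hcop : ∀ x, x ∈ (R : Subgroup G) → x ∈ O → x = 1 := fun x hx hxO => by
    refine orderOf_eq_one_iff.1 (Nat.eq_one_of_dvd_coprimes
      (Nat.Coprime.pow_right k ((Nat.coprime_primes hr' Nat.prime_two).2 hr)) ?_ (hk ▸ Subgroup.orderOf_dvd_natCard O hxO))
    exact hRc ▸ Subgroup.orderOf_dvd_natCard _ hx
  have hinf : ∀ x, x ∈ O → x ∈ NR → x = 1 := fun x hxO hxN => by
    rw [← Subgroup.mem_bot, ← hC]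
    refine Subgroup.mem_inf.2 ⟨hxO, Subgroup.mem_centralizer_iff.2 fun y hy => ?_⟩
    have h1 : x * y * x⁻¹ * y⁻¹ ∈ (R : Subgroup G) :=
      mul_mem ((Subgroup.mem_normalizer_iff.1 hxN y).1 hy) (inv_mem hy)
    have h2 : x * y * x⁻¹ * y⁻¹ ∈ O := by
      rw [mul_assoc, mul_assoc, ← mul_assoc y]
      exact mul_mem hxO (hN.conj_mem _ (inv_mem hxO) y)
    have := hcop _ h1 h2
    rw [mul_inv_eq_one, mul_inv_eq_iff_eq_mul] at this
    exact this.symm
  have hπR : ∀ x ∈ (R : Subgroup G), ∃ i, π x = DihedralGroup.r i := fun x hx => by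
    refine rotation_of_odd fun h2 => ?_
    have : 2 ∣ r := (h2.trans (orderOf_map_dvd π x)).trans (hRc ▸ Subgroup.orderOf_dvd_natCard _ hx)
    exact hr ((Nat.prime_dvd_prime_iff_eq Nat.prime_two hr').1 this).symm
  obtain ⟨z, hzR, hz1⟩ : ∃ z ∈ (R : Subgroup G), z ≠ 1 := (Subgroup.bot_or_exists_ne_one _).resolve_left
    fun h => by rw [h, Subgroup.card_bot] at hRc; exact hr'.ne_one hRc.symm
  obtain ⟨i₀, hi₀⟩ := hπR z hzR
  have hi₀0 : i₀ ≠ 0 := fun h => hz1 (hcop z hzR ((hπker z).1 (by rw [hi₀, h]; rfl)))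
  have hzr : orderOf z = r := by
    refine (Nat.dvd_prime hr').1 (hRc ▸ Subgroup.orderOf_dvd_natCard _ hzR) |>.resolve_left ?_
    exact fun h => hz1 (orderOf_eq_one_iff.1 h)
  have hzgen : (R : Subgroup G) = Subgroup.zpowers z :=
    (Subgroup.eq_of_le_of_card_ge (Subgroup.zpowers_le.2 hzR) (by rw [Nat.card_zpowers, hzr, hRc])).symm
  have hfrat : ∀ g : G, ∃ n ∈ NR, n⁻¹ * g ∈ O := by
    intro g
    let M : Subgroup G := (Subgroup.zpowers (DihedralGroup.r (1 : ZMod r))).comap π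
    haveI : (Subgroup.zpowers (DihedralGroup.r (1 : ZMod r))).Normal := Subgroup.normal_of_index_eq_two (by
      have h' := (Subgroup.zpowers (DihedralGroup.r (1 : ZMod r))).card_mul_index
      rw [Nat.card_zpowers, DihedralGroup.orderOf_r_one, DihedralGroup.nat_card, mul_comm 2 r] at h'
      exact Nat.eq_of_mul_eq_mul_left hr'.pos h')
    have hrot : ∀ i : ZMod r, DihedralGroup.r i ∈ Subgroup.zpowers (DihedralGroup.r (1 : ZMod r)) := fun i =>
      ⟨(i.val : ℤ), by
        show DihedralGroup.r 1 ^ (i.val : ℤ) = _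
        rw [zpow_natCast, DihedralGroup.r_one_pow, ZMod.natCast_zmod_val]⟩
    have hRM : (R : Subgroup G) ≤ M := fun x hx => by
      obtain ⟨i, hi⟩ := hπR x hx
      rw [Subgroup.mem_comap, hi]
      exact hrot i
    have htop := Sylow.normalizer_sup_eq_top (R.subtype hRM)
    rw [Sylow.coe_subtype, Subgroup.map_subgroupOf_eq_of_le hRM] at htop
    obtain ⟨n, hn, m, hm, rfl⟩ := Subgroup.mem_sup_of_normal_right.1 (htop ▸ Subgroup.mem_top g)
    obtain ⟨l, hl⟩ := Subgroup.mem_zpowers_iff.1 (show π m ∈ _ from hm)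
    refine ⟨n * z ^ (((l : ZMod r) * i₀⁻¹).val),
      mul_mem hn (pow_mem (Subgroup.le_normalizer hzR) _), ?_⟩
    rw [← hπker, map_mul, map_inv, map_mul π n m, map_mul π n, map_pow, hi₀, ← hl,
      DihedralGroup.r_one_zpow, DihedralGroup.r_pow, inv_mul_eq_one, mul_right_inj,
      ZMod.natCast_zmod_val, mul_comm (l : ZMod r), ← mul_assoc, mul_inv_cancel₀ hi₀0, one_mul]
  let θ : NR →* DihedralGroup r := π.comp NR.subtype
  have hθ : Function.Bijective θ := by
    refine ⟨(injective_iff_map_eq_one θ).2 fun x hx => Subtype.ext (hinf x ((hπker x).1 hx) x.2), fun d => ?_⟩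
    obtain ⟨g, rfl⟩ := hπs d
    obtain ⟨n, hn, hng⟩ := hfrat g
    refine ⟨⟨n, hn⟩, ?_⟩
    have := (hπker _).2 hng
    rw [map_mul, map_inv, inv_mul_eq_one] at this
    exact this
  refine ⟨⟨MulEquiv.ofBijective θ hθ⟩, fun a haN ha2 => ?_⟩
  have hπ2 : ∀ b : G, orderOf b = 2 → b ∉ O → ∃ i, π b = DihedralGroup.sr i := by
    intro b hb hbO
    refine reflection_of_orderOf_two hr ?_
    have h1 : orderOf (π b) ∣ 2 := hb ▸ orderOf_map_dvd π b
    exact ((Nat.dvd_prime Nat.prime_two).1 h1).resolve_left fun h =>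
      hbO ((hπker b).1 (orderOf_eq_one_iff.1 h))
  have haO : a ∉ O := fun h => by rw [hinf a h haN, orderOf_one] at ha2; omega
  obtain ⟨ia, hia⟩ := hπ2 a ha2 haO
  have haa : a * a = 1 := by rw [← pow_two, ← ha2, pow_orderOf_eq_one]
  have hainv : a * z * a⁻¹ = z⁻¹ := by
    have : θ (⟨a, haN⟩ * ⟨z, Subgroup.le_normalizer hzR⟩ * (⟨a, haN⟩ : NR)⁻¹) =
        θ (⟨z, Subgroup.le_normalizer hzR⟩ : NR)⁻¹ := by
      rw [map_mul, map_mul, map_inv, map_inv]
      show π a * π z * (π a)⁻¹ = (π z)⁻¹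
      rw [hia, hi₀, DihedralGroup.sr_mul_r, DihedralGroup.inv_sr, DihedralGroup.sr_mul_sr,
        DihedralGroup.inv_r]
      congr 1
      ring
    exact congrArg Subtype.val (hθ.1 this)
  let A : MulAut O := MulAut.conjNormal a
  let Z : MulAut O := MulAut.conjNormal z
  have hfix : ∀ u : O, Z (Z u) = u → u = 1 := by
    intro u hu
    have h1 : z * z * (u : G) * (z * z)⁻¹ = u := by
      have := congrArg (fun w : O => (w : G)) hu
      simp only [Z, MulAut.conjNormal_apply] at this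
      calc z * z * (u : G) * (z * z)⁻¹ = z * (z * (u : G) * z⁻¹) * z⁻¹ := by group
        _ = u := this
    refine Subtype.ext ?_
    rw [Subgroup.coe_one, ← Subgroup.mem_bot, ← hC]
    refine Subgroup.mem_inf.2 ⟨u.2, Subgroup.mem_centralizer_iff.2 fun y hy => ?_⟩
    have hy' : y ∈ Subgroup.zpowers (z * z) := by
      have e : Subgroup.zpowers (z * z) = Subgroup.zpowers z := by
        refine Subgroup.eq_of_le_of_card_ge (Subgroup.zpowers_le.2 (mul_mem (Subgroup.mem_zpowers z) (Subgroup.mem_zpowers z))) ?_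
        rw [Nat.card_zpowers, Nat.card_zpowers, ← pow_two, Nat.Coprime.orderOf_pow
          (by rw [hzr]; exact (Nat.coprime_primes hr' Nat.prime_two).2 hr)]
      rw [e, ← hzgen]; exact hy
    obtain ⟨l, rfl⟩ := Subgroup.mem_zpowers_iff.1 hy'
    exact ((show Commute (z * z) (u : G) from mul_inv_eq_iff_eq_mul.1 h1).zpow_left l).eq
  obtain ⟨hsq, hinvd⟩ := FpfDihedral.general (Nat.card O) O rfl hO A Z
    (fun u => Subtype.ext (by
      simp only [A, MulAut.conjNormal_apply]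
      calc a * (a * (u : G) * a⁻¹) * a⁻¹ = (a * a) * u * (a * a)⁻¹ := by group
        _ = u := by rw [haa]; simp))
    (fun u => by
      apply Z.injective
      rw [MulEquiv.apply_symm_apply]
      refine Subtype.ext ?_
      simp only [A, Z, MulAut.conjNormal_apply]
      calc z * (a * (z * (a * (u : G) * a⁻¹) * z⁻¹) * a⁻¹) * z⁻¹
          = z * ((a * z * a⁻¹) * (a * a) * u * (a * a)⁻¹ * (a * z * a⁻¹)⁻¹) * z⁻¹ := by group
        _ = u := by rw [hainv, haa]; group)
    hfix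
  have hA : ∀ u : O, A u = u ↔ (u : G) ∈ Subgroup.centralizer ({a} : Set G) := fun u => by
    rw [Subgroup.mem_centralizer_singleton_iff, Subtype.ext_iff]
    simp only [A, MulAut.conjNormal_apply]
    rw [mul_inv_eq_iff_eq_mul]
    exact eq_comm
  refine ⟨fun b hb hbO => ?_, ?_⟩
  · obtain ⟨ib, hib⟩ := hπ2 b hb hbO
    obtain ⟨g, hg⟩ := hπs (DihedralGroup.r ((ia - ib) * 2⁻¹))
    have h2 : (2 : ZMod r) ≠ 0 := fun h0 => hr ((Nat.prime_dvd_prime_iff_eq hr' Nat.prime_two).1
      ((ZMod.natCast_eq_zero_iff 2 r).1 (by exact_mod_cast h0)))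
    have hconj : π (g * a * g⁻¹) = π b := by
      rw [map_mul, map_mul, map_inv, hg, hia, hib, DihedralGroup.r_mul_sr, DihedralGroup.inv_r,
        DihedralGroup.sr_mul_r]
      congr 1
      field_simp
      ring
    have hu : a * (g⁻¹ * b * g) ∈ O := by
      have : π (g⁻¹ * b * g) = π a := by
        rw [map_mul, map_mul, ← hconj, ← map_mul, ← map_mul]
        congr 1
        group
      rw [← hπker, map_mul, this, ← map_mul, haa, map_one]
    have hbb : b * b = 1 := by rw [← pow_two, ← hb, pow_orderOf_eq_one]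
    obtain ⟨w, hw⟩ := hinvd ⟨_, hu⟩ (Subtype.ext (by
      simp only [A, MulAut.conjNormal_apply, InvMemClass.coe_inv]
      rw [eq_inv_iff_mul_eq_one]
      calc a * (a * (g⁻¹ * b * g)) * a⁻¹ * (a * (g⁻¹ * b * g))
          = (a * a) * (g⁻¹ * (b * b) * g) := by group
        _ = 1 := by rw [haa, hbb]; group))
    refine ⟨g * (a * (w : G)⁻¹), ?_⟩
    have hw' : a * (g⁻¹ * b * g) = (w : G)⁻¹ * (a * (w : G) * a⁻¹) := by
      have := congrArg Subtype.val hw
      simpa [A] using this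
    have hai : a⁻¹ = a := inv_eq_of_mul_eq_one_right haa
    calc g * (a * (w : G)⁻¹) * a * (g * (a * (w : G)⁻¹))⁻¹
        = g * (a * ((w : G)⁻¹ * (a * (w : G) * a⁻¹))) * g⁻¹ := by group
      _ = g * (a * (a * (g⁻¹ * b * g))) * g⁻¹ := by rw [hw']
      _ = g * ((a * a) * (g⁻¹ * b * g)) * g⁻¹ := by group
      _ = b := by rw [haa]; group
  · have hcong : Nat.card ↥(O ⊓ Subgroup.centralizer ({a} : Set G)) =
        Nat.card (A.toMonoidHom.eqLocus (MonoidHom.id O)) :=
      Nat.card_congr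
        { toFun := fun u => ⟨⟨u.1, u.2.1⟩, (hA ⟨u.1, u.2.1⟩).2 u.2.2⟩
          invFun := fun u => ⟨u.1.1, u.1.2, (hA u.1).1 u.2⟩
          left_inv := fun u => rfl
          right_inv := fun u => rfl }
    rw [hcong, hsq]

end Cfsg.Agent.S2873
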