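import Cfsg.Statements.S2874
import Mathlib

/-!
Up to conjugation an element of order `3` of `GL₂(ℤ/2ᵏ)` is `W = (0 -1; 1 -1)`; writing an
involution in the basis `1, W, T, W T` then leaves only the three conjugates of `1 + 2ᵏ⁻¹ T`
under `⟨W⟩` as possible partners of `W` in a copy of `A₄`.
-/

set_option autoImplicit false
open Cfsg

namespace Cfsg.Agent.S2874

open Matrix

/-- An element of `ℤ/2ᵏ` which is `1` mod `2` is a unit. -/
theorem isUnit_of_odd {k : ℕ} (hk : k ≠ 0) (r : ZMod (2 ^ k))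
    (h : ZMod.castHom (dvd_pow_self 2 hk) (ZMod 2) r = 1) : IsUnit r := by
  rw [← ZMod.natCast_zmod_val r] at h ⊢
  rw [map_natCast, ZMod.natCast_eq_one_iff_odd] at h
  exact ⟨ZMod.unitOfCoprime r.val ((Nat.coprime_two_right.2 h).pow_right k), rfl⟩

/-- `2ᵏ⁻¹` in `ℤ/2ᵏ`. -/
def half (k : ℕ) : ZMod (2 ^ k) := ((2 ^ (k - 1) : ℕ) : ZMod (2 ^ k))

theorem two_mul_half {k : ℕ} (hk : k ≠ 0) : 2 * half k = 0 := by
  have e : 2 * 2 ^ (k - 1) = 2 ^ k := by rw [← pow_succ']; congr 1; omega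
  have : ((2 * 2 ^ (k - 1) : ℕ) : ZMod (2 ^ k)) = 0 := by rw [e]; exact ZMod.natCast_self _
  simpa [half] using this

theorem half_sq {k : ℕ} (hk : 2 ≤ k) : half k * half k = 0 := by
  rw [half, ← Nat.cast_mul, ← pow_add, ZMod.natCast_eq_zero_iff]
  exact pow_dvd_pow 2 (by omega)

/-- Solutions of `2 z = 0` in `ℤ/2ᵏ`. -/
theorem eq_zero_or_half {k : ℕ} (hk : k ≠ 0) (z : ZMod (2 ^ k)) (h : 2 * z = 0) :
    z = 0 ∨ z = half k := by
  have e : 2 ^ k = 2 * 2 ^ (k - 1) := by rw [← pow_succ']; congr 1; omega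
  have h' : 2 ^ k ∣ 2 * z.val := by
    rw [← ZMod.natCast_eq_zero_iff, Nat.cast_mul, ZMod.natCast_zmod_val]
    exact_mod_cast h
  obtain ⟨m, hm⟩ := Nat.dvd_of_mul_dvd_mul_left two_pos ((dvd_of_eq e.symm).trans h')
  have hlt : z.val < 2 * 2 ^ (k - 1) := (ZMod.val_lt z).trans_eq e
  rw [hm] at hlt
  have hm2 : m < 2 := by
    by_contra hc
    have : 2 ^ (k - 1) * 2 ≤ 2 ^ (k - 1) * m := Nat.mul_le_mul_left _ (by omega)
    omega
  rcases (show m = 0 ∨ m = 1 by omega) with rfl | rfl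
  · exact Or.inl (by rw [← ZMod.natCast_zmod_val z, hm]; simp)
  · exact Or.inr (by rw [← ZMod.natCast_zmod_val z, hm, mul_one]; rfl)

theorem three_unit {k : ℕ} (hk : k ≠ 0) : ∃ i : ZMod (2 ^ k), 3 * i = 1 := by
  have h : IsUnit (3 : ZMod (2 ^ k)) := isUnit_of_odd hk _ (by rw [map_ofNat]; decide)
  exact ⟨_, h.mul_val_inv⟩

theorem mod_two_order_three : ∀ Y : Matrix (Fin 2) (Fin 2) (ZMod 2), Y * Y * Y = 1 → Y ≠ 1 →
    Y 1 0 = 1 ∧ (Y - 1).det = 1 := by
  decide

/-- Elements of order `3` are conjugate to `W`. -/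
theorem order_three_conj {k : ℕ} (hk : k ≠ 0) (X : Matrix (Fin 2) (Fin 2) (ZMod (2 ^ k)))
    (h3 : X * X * X = 1) (h1 : X ≠ 1) :
    ∃ g : GL (Fin 2) (ZMod (2 ^ k)),
      X * (g : Matrix (Fin 2) (Fin 2) (ZMod (2 ^ k))) =
        (g : Matrix (Fin 2) (Fin 2) (ZMod (2 ^ k))) * !![0, -1; 1, -1] := by
  set φ := ZMod.castHom (dvd_pow_self 2 hk) (ZMod 2) with hφ
  set Φ := φ.mapMatrix (m := Fin 2) with hΦ
  have hne : Φ X ≠ 1 := by
    intro hX
    apply h1
    have hD : (3 + 3 * (X - 1) + (X - 1) * (X - 1)) * (X - 1) = 0 := by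
      have : X * X * X - 1 = (3 + 3 * (X - 1) + (X - 1) * (X - 1)) * (X - 1) := by
        rw [show (3 : Matrix (Fin 2) (Fin 2) (ZMod (2 ^ k))) = 1 + 1 + 1 by norm_num]
        noncomm_ring
      rw [← this, h3, sub_self]
    have hu : IsUnit (3 + 3 * (X - 1) + (X - 1) * (X - 1)) := by
      rw [Matrix.isUnit_iff_isUnit_det]
      refine isUnit_of_odd hk _ ?_
      rw [← hφ, RingHom.map_det, ← hΦ, map_add, map_add, map_mul, map_mul, map_sub, map_ofNat,
        map_one, hX]
      decide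
    exact sub_eq_zero.1 (hu.mul_right_eq_zero.1 hD)
  obtain ⟨h10, hdet⟩ := mod_two_order_three (Φ X) (by rw [← map_mul, ← map_mul, h3, map_one]) hne
  have hu10 : IsUnit (X 1 0) := isUnit_of_odd hk _ h10
  have hu : IsUnit (X - 1) := by
    rw [Matrix.isUnit_iff_isUnit_det]
    refine isUnit_of_odd hk _ ?_
    rw [← hφ, RingHom.map_det, ← hΦ, map_sub, map_one]
    exact hdet
  have hq : X * X + X + 1 = 0 := by
    refine hu.mul_right_eq_zero.1 ?_
    have : (X - 1) * (X * X + X + 1) = X * X * X - 1 := by noncomm_ring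
    rw [this, h3, sub_self]
  have e00 : X 0 0 * X 0 0 + X 0 1 * X 1 0 + X 0 0 + 1 = 0 := by
    have := congr_fun (congr_fun hq 0) 0
    simpa [Matrix.mul_apply, Fin.sum_univ_two] using this
  have etr : X 0 0 + X 1 1 + 1 = 0 := by
    have := congr_fun (congr_fun hq 1) 0
    simp [Matrix.mul_apply, Fin.sum_univ_two] at this
    refine hu10.mul_right_eq_zero.1 ?_
    linear_combination this
  have hg : IsUnit (!![1, X 0 0; 0, X 1 0]) := by
    rw [Matrix.isUnit_iff_isUnit_det, Matrix.det_fin_two_of]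
    simpa using hu10
  refine ⟨hg.unit, ?_⟩
  rw [hg.unit_spec]
  conv_lhs => rw [Matrix.eta_fin_two X]
  rw [Matrix.mul_fin_two, Matrix.mul_fin_two]
  ext i j
  fin_cases i <;> fin_cases j <;> simp
  · linear_combination e00
  · linear_combination X 1 0 * etr

/-- The candidates for an involution completing `W` to a copy of `A₄`. -/
theorem partner {k : ℕ} (hk : 2 ≤ k) (V : Matrix (Fin 2) (Fin 2) (ZMod (2 ^ k)))
    (h2 : V * V = 1) (h1 : V ≠ 1)
    (hr : V * (!![0, -1; 1, -1] * V * !![-1, 1; -1, 0])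
      = !![-1, 1; -1, 0] * V * !![0, -1; 1, -1]) :
    V = !![1 + half k, half k; 0, 1 + half k] ∨ V = !![1 + half k, 0; half k, 1 + half k] ∨
      V = !![1, half k; half k, 1] := by
  have hk0 : k ≠ 0 := by omega
  obtain ⟨i, hi⟩ := three_unit hk0
  obtain ⟨x, y, z, w, rfl⟩ : ∃ x y z w : ZMod (2 ^ k),
      V = !![x + z, -y - z + w; y + w, x - y - z] := by
    refine ⟨V 0 0 - ((V 1 0 - i * (2 * V 1 0 - 2 * V 0 1 - V 0 0 + V 1 1))
        - i * (2 * V 1 0 - 2 * V 0 1 - V 0 0 + V 1 1) - V 0 1),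
      i * (2 * V 1 0 - 2 * V 0 1 - V 0 0 + V 1 1),
      (V 1 0 - i * (2 * V 1 0 - 2 * V 0 1 - V 0 0 + V 1 1))
        - i * (2 * V 1 0 - 2 * V 0 1 - V 0 0 + V 1 1) - V 0 1,
      V 1 0 - i * (2 * V 1 0 - 2 * V 0 1 - V 0 0 + V 1 1), ?_⟩
    conv_lhs => rw [Matrix.eta_fin_two V]
    ext a b
    fin_cases a <;> fin_cases b <;> simp
    all_goals first
      | ring1
      | linear_combination -(2 * V 1 0 - 2 * V 0 1 - V 0 0 + V 1 1) * hi
  simp only [Matrix.mul_fin_two, Matrix.one_fin_two] at h2 hr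
  have a00 := congr_fun (congr_fun h2 0) 0
  have a01 := congr_fun (congr_fun h2 0) 1
  have a10 := congr_fun (congr_fun h2 1) 0
  have a11 := congr_fun (congr_fun h2 1) 1
  have b00 := congr_fun (congr_fun hr 0) 0
  have b01 := congr_fun (congr_fun hr 0) 1
  have b10 := congr_fun (congr_fun hr 1) 0
  have b11 := congr_fun (congr_fun hr 1) 1
  simp at a00 a01 a10 a11 b00 b01 b10 b11
  -- scalar parts of `V² = 1` and of the relation
  have s1 : 2 * x * y - y * y = 0 := by
    linear_combination i * (2 * a10 - 2 * a01 - a00 + a11) - (2 * x * y - y * y) * hi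
  have s2 : x * x - y * y + (z * z - z * w + w * w) = 1 := by
    linear_combination i * (a00 + a10 - a01 + 2 * a11) -
      (x * x - y * y + (z * z - z * w + w * w) - 1) * hi
  have s3 : x * x - y * y = x := by
    linear_combination i * (b00 + b10 - b01 + 2 * b11) - (x * x - y * y - x) * hi
  have s4 : 2 * x * y - y * y + (z * z - z * w + w * w) = y := by
    linear_combination i * (2 * b10 - 2 * b01 - b00 + b11) -
      (2 * x * y - y * y + (z * z - z * w + w * w) - y) * hi
  have hxy : y = 1 - x := by linear_combination s2 - s3 - s4 + s1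
  subst hxy
  have hx : x = 1 := by linear_combination s3
  subst hx
  have hz : 2 * z = 0 := by linear_combination a00 - s2
  have hw : 2 * w = 0 := by linear_combination a10
  have hn : -half k = half k := by linear_combination -two_mul_half hk0
  rcases eq_zero_or_half hk0 z hz with rfl | rfl <;>
    rcases eq_zero_or_half hk0 w hw with rfl | rfl
  · exact absurd (by simp [Matrix.one_fin_two]) h1
  · right; right; simp
  · left; simp [sub_eq_add_neg, hn]
  · right; left
    ext a b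
    fin_cases a <;> fin_cases b <;> simp
    all_goals first | ring1 | linear_combination hn

/-- The standard copy of `A₄`. -/
theorem gen_eq {k : ℕ} (hk : 2 ≤ k) (V : GL (Fin 2) (ZMod (2 ^ k)))
    (W : GL (Fin 2) (ZMod (2 ^ k))) (hW : (W : Matrix (Fin 2) (Fin 2) (ZMod (2 ^ k))) = !![0, -1; 1, -1])
    (V₀ : GL (Fin 2) (ZMod (2 ^ k)))
    (hV₀ : (V₀ : Matrix (Fin 2) (Fin 2) (ZMod (2 ^ k))) = !![1 + half k, half k; 0, 1 + half k])
    (h2 : V * V = 1) (h1 : V ≠ 1) (hr : V * (W * V * W⁻¹) = W⁻¹ * V * W) :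
    Subgroup.closure {W, V} = Subgroup.closure {W, V₀} := by
  have hn : -half k = half k := by linear_combination -two_mul_half (show k ≠ 0 by omega)
  have hWi : ((W⁻¹ : GL (Fin 2) (ZMod (2 ^ k))) : Matrix (Fin 2) (Fin 2) (ZMod (2 ^ k)))
      = !![-1, 1; -1, 0] := by
    refine Units.inv_eq_of_mul_eq_one_right ?_
    rw [hW, Matrix.mul_fin_two, Matrix.one_fin_two]
    simp
  have hr' := congr_arg Units.val hr
  simp only [Units.val_mul, hW, hWi] at hr'
  have key : V = V₀ ∨ V = W * V₀ * W⁻¹ ∨ V = W⁻¹ * V₀ * W := by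
    rcases partner hk V (by rw [← Units.val_mul, h2, Units.val_one])
      (fun h => h1 (Units.ext h)) hr' with h | h | h
    · exact Or.inl (Units.ext (by rw [h, hV₀]))
    · refine Or.inr (Or.inl (Units.ext ?_))
      rw [h]
      simp [hW, hWi, hV₀]
      linear_combination -hn
    · refine Or.inr (Or.inr (Units.ext ?_))
      rw [h]
      simp [hW, hWi, hV₀]
      exact ⟨by linear_combination -hn,
        by linear_combination -two_mul_half (show k ≠ 0 by omega)⟩
  have mW : ∀ U, W ∈ Subgroup.closure ({W, U} : Set (GL (Fin 2) (ZMod (2 ^ k)))) :=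
    fun U => Subgroup.subset_closure (by simp)
  have mU : ∀ U, U ∈ Subgroup.closure ({W, U} : Set (GL (Fin 2) (ZMod (2 ^ k)))) :=
    fun U => Subgroup.subset_closure (by simp)
  refine le_antisymm ((Subgroup.closure_le _).2 ?_) ((Subgroup.closure_le _).2 ?_) <;>
    rintro t (rfl | rfl)
  · exact mW _
  · rcases key with h | h | h <;> rw [h]
    · exact mU _
    · exact mul_mem (mul_mem (mW _) (mU _)) (inv_mem (mW _))
    · exact mul_mem (mul_mem (inv_mem (mW _)) (mU _)) (mW _)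
  · exact mW _
  · rename' t => V₁
    rcases key with h | h | h
    · rw [← h]; exact mU _
    · rw [show V₁ = W⁻¹ * V * W by rw [h]; group]
      exact mul_mem (mul_mem (inv_mem (mW _)) (mU _)) (mW _)
    · rw [show V₁ = W * V * W⁻¹ by rw [h]; group]
      exact mul_mem (mul_mem (mW _) (mU _)) (inv_mem (mW _))

/-- A three-cycle. -/
def genA : ↥(alternatingGroup (Fin 4)) :=
  ⟨Equiv.swap (0 : Fin 4) 1 * Equiv.swap 1 2, Equiv.Perm.mem_alternatingGroup.2 (by decide)⟩

/-- A double transposition. -/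
def genB : ↥(alternatingGroup (Fin 4)) :=
  ⟨Equiv.swap (0 : Fin 4) 1 * Equiv.swap 2 3, Equiv.Perm.mem_alternatingGroup.2 (by decide)⟩

set_option maxHeartbeats 4000000 in
set_option maxRecDepth 100000 in
theorem alt_four_cover : ∀ g : ↥(alternatingGroup (Fin 4)),
    g ∈ [1, genA, genA * genA, genB, genA * genB, genA * genA * genB, genB * genA,
      genB * genA * genA, genA * genB * genA, genA * genA * genB * genA,
      genA * genB * genA * genA, genA * genA * genB * genA * genA] := by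
  decide

theorem alt_four_gen : ∃ a b : ↥(alternatingGroup (Fin 4)), a * a * a = 1 ∧ a ≠ 1 ∧ b * b = 1 ∧
    b ≠ 1 ∧ b * (a * b * a⁻¹) = a⁻¹ * b * a ∧ Subgroup.closure {a, b} = ⊤ := by
  refine ⟨genA, genB, by decide, by decide, by decide, by decide, by decide,
    eq_top_iff.2 fun g _ => ?_⟩
  have mA : genA ∈ Subgroup.closure {genA, genB} := Subgroup.subset_closure (Set.mem_insert _ _)
  have mB : genB ∈ Subgroup.closure {genA, genB} :=
    Subgroup.subset_closure (Set.mem_insert_of_mem _ rfl)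
  generalize hK : Subgroup.closure {genA, genB} = K at mA mB ⊢
  have hl : ∀ h ∈ [1, genA, genA * genA, genB, genA * genB, genA * genA * genB, genB * genA,
      genB * genA * genA, genA * genB * genA, genA * genA * genB * genA,
      genA * genB * genA * genA, genA * genA * genB * genA * genA], h ∈ K := by
    simp only [List.forall_mem_cons, List.not_mem_nil, IsEmpty.forall_iff, implies_true,
      one_mem, mA, mB, mul_mem, and_true, true_and]
    exact ⟨mul_mem (mul_mem (mul_mem mA mA) mB) mA, mul_mem (mul_mem (mul_mem mA mB) mA) mA,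
      mul_mem (mul_mem (mul_mem (mul_mem mA mA) mB) mA) mA⟩
  exact hl g (alt_four_cover g)

/-- Every copy of `A₄` is conjugate to the standard one. -/
theorem conj_std {k : ℕ} (hk : 2 ≤ k) (H : Subgroup (GL (Fin 2) (ZMod (2 ^ k))))
    (h : Nonempty (↥H ≃* ↥(alternatingGroup (Fin 4)))) (W V₀ : GL (Fin 2) (ZMod (2 ^ k)))
    (hW : (W : Matrix (Fin 2) (Fin 2) (ZMod (2 ^ k))) = !![0, -1; 1, -1])
    (hV₀ : (V₀ : Matrix (Fin 2) (Fin 2) (ZMod (2 ^ k))) = !![1 + half k, half k; 0, 1 + half k]) :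
    ∃ g : GL (Fin 2) (ZMod (2 ^ k)),
      H.map (MulAut.conj g⁻¹).toMonoidHom = Subgroup.closure {W, V₀} := by
  obtain ⟨e⟩ := h
  obtain ⟨a, b, ha3, ha1, hb2, hb1, hrel, hgen⟩ := alt_four_gen
  set f : ↥(alternatingGroup (Fin 4)) →* GL (Fin 2) (ZMod (2 ^ k)) :=
    H.subtype.comp e.symm.toMonoidHom with hf
  have finj : Function.Injective f :=
    H.subtype_injective.comp e.symm.injective
  have hrange : H = Subgroup.closure {f a, f b} := by
    rw [← Set.image_pair, ← MonoidHom.map_closure, hgen, ← MonoidHom.range_eq_map, hf,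
      MonoidHom.range_comp, MonoidHom.range_eq_top.2 e.symm.surjective,
      ← MonoidHom.range_eq_map, Subgroup.range_subtype]
  obtain ⟨g, hg⟩ := order_three_conj (show k ≠ 0 by omega) (f a : Matrix (Fin 2) (Fin 2) _)
    (by rw [← Units.val_mul, ← Units.val_mul, ← map_mul, ← map_mul, ha3, map_one, Units.val_one])
    (fun he => ha1 (finj ((Units.ext he).trans (map_one f).symm)))
  set χ := (MulAut.conj g⁻¹).toMonoidHom with hχ
  have hWe : χ (f a) = W := by
    apply Units.ext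
    simp only [hχ, MulEquiv.coe_toMonoidHom, MulAut.conj_apply, inv_inv, Units.val_mul]
    rw [mul_assoc, hg, ← mul_assoc, ← Units.val_mul, inv_mul_cancel, Units.val_one, one_mul, hW]
  refine ⟨g, ?_⟩
  rw [hrange, MonoidHom.map_closure, Set.image_pair, hWe]
  refine gen_eq hk _ W hW V₀ hV₀ ?_ ?_ ?_
  · rw [← map_mul, ← map_mul, hb2, map_one, map_one]
  · intro he
    exact hb1 (finj ((MulAut.conj g⁻¹).injective (he.trans (map_one χ).symm) |>.trans (map_one f).symm))
  · have hc := congr_arg (fun t => χ (f t)) hrel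
    simp only [map_mul, map_inv, hWe] at hc
    exact hc

theorem result (k : ℕ) (hk : 2 ≤ k) (H₁ H₂ : Subgroup (GL (Fin 2) (ZMod (2 ^ k)))) (h₁ : Nonempty (↥H₁ ≃* ↥(alternatingGroup (Fin 4)))) (h₂ : Nonempty (↥H₂ ≃* ↥(alternatingGroup (Fin 4)))) : ∃ g : GL (Fin 2) (ZMod (2 ^ k)), H₂ = H₁.map (MulAut.conj g).toMonoidHom := by
  have hWu : IsUnit (!![0, -1; 1, -1] : Matrix (Fin 2) (Fin 2) (ZMod (2 ^ k))) := by
    rw [Matrix.isUnit_iff_isUnit_det, Matrix.det_fin_two_of]; simp
  have hVu : IsUnit (!![1 + half k, half k; 0, 1 + half k] : Matrix (Fin 2) (Fin 2) (ZMod (2 ^ k))) := by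
    rw [Matrix.isUnit_iff_isUnit_det, Matrix.det_fin_two_of]
    have : (1 + half k) * (1 + half k) - half k * 0 = 1 := by
      linear_combination two_mul_half (show k ≠ 0 by omega) + half_sq hk
    rw [this]; exact isUnit_one
  obtain ⟨g₁, e₁⟩ := conj_std hk H₁ h₁ hWu.unit hVu.unit rfl rfl
  obtain ⟨g₂, e₂⟩ := conj_std hk H₂ h₂ hWu.unit hVu.unit rfl rfl
  refine ⟨g₂ * g₁⁻¹, Subgroup.map_injective (f := (MulAut.conj g₂⁻¹).toMonoidHom)
    (MulAut.conj g₂⁻¹).injective ?_⟩
  rw [e₂, ← e₁, Subgroup.map_map]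
  congr 1
  ext x
  simp [mul_assoc]

end Cfsg.Agent.S2874
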