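import Cfsg.Statements.S2880
import Cfsg.Agent.Fg24.ExtraTwo

set_option autoImplicit false
open Cfsg

namespace Cfsg.Agent.S2880

/-- Let E be an extraspecial 2-group of order 2^(2m+1) of plus type, that is, containing an elementary abelian subgroup of order 2^(m+1) (equivalently, a central product of m dihedral groups of order 8). Then E has exactly 2^(2m) − 2^m elements of order 4. -/
theorem result {E : Type*} [Group E] [Finite E] (m : ℕ) (hm : 1 ≤ m) (hE : Cfsg.IsExtraspecial 2 E) (hcard : Nat.card E = 2 ^ (2 * m + 1)) (hplus : ∃ A : Subgroup E, Cfsg.IsElementaryAbelian 2 A ∧ Nat.card A = 2 ^ (m + 1)) : Nat.card {x : E // orderOf x = 4} = 2 ^ (2 * m) - 2 ^ m := by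
  classical
  obtain ⟨k, c, ⟨e⟩⟩ := Fg24.ExtraTwo.exists_equiv_heis hE
  have hc := Nat.card_congr e.toEquiv
  rw [hcard, LargeExtra.Heis.card] at hc
  have hm' : m = k + 1 := by
    have := Nat.pow_right_injective le_rfl hc
    omega
  subst hm'
  obtain ⟨A, hA, hAc⟩ := hplus
  haveI := hA.1
  have hmap : Cfsg.IsElementaryAbelian 2 (A.map e.toMonoidHom) := by
    refine ⟨inferInstance, ?_⟩
    rintro _ ⟨a, ha, rfl⟩
    rw [← map_pow, hA.2 a ha, map_one]
  have hc0 : c = 0 := by
    rcases Fg24.ExtraTwo.two_cases c with h | h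
    · exact h
    · subst h
      have := LargeExtra.Heis.rank_minus.2 (show k + 1 + 1 ∈ _ from
        ⟨A.map e.toMonoidHom, hmap, by rw [Subgroup.card_map_of_injective e.injective, hAc]⟩)
      omega
  subst hc0
  have hsq : Nat.card {x : E // x ^ 2 = 1} = 2 ^ (2 * (k + 1)) + 2 ^ (k + 1) := by
    rw [← (Fg24.ExtraTwo.card_sq_eq_one k).1]
    refine Nat.card_congr (e.toEquiv.subtypeEquiv fun x => ?_)
    rw [MulEquiv.toEquiv_eq_coe, MulEquiv.coe_toEquiv, ← map_pow, MulEquiv.map_eq_one_iff]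
  haveI : Fact (Nat.Prime 2) := ⟨Nat.prime_two⟩
  have h4 : ∀ x : E, x ^ 4 = 1 := fun x => by
    rw [show 4 = 2 * 2 from rfl, pow_mul]
    exact Fusion.es_center_pow hE (Fusion.es_pow_mem_center hE x)
  have heq : ∀ x : E, orderOf x = 4 ↔ ¬ x ^ 2 = 1 := fun x =>
    ⟨fun h h2 => by have := Nat.le_of_dvd two_pos (h ▸ orderOf_dvd_of_pow_eq_one h2); omega,
      fun h2 => orderOf_eq_prime_pow (n := 1) (p := 2) h2 (h4 x)⟩
  haveI := Fintype.ofFinite E
  simp only [Nat.card_eq_fintype_card] at hsq hcard ⊢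
  rw [Fintype.card_congr (Equiv.subtypeEquivRight heq), Fintype.card_subtype_compl, hsq, hcard,
    pow_succ]
  omega

end Cfsg.Agent.S2880
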