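import Cfsg.Statements.S2881
import Cfsg.Agent.S2880

set_option autoImplicit false
open Cfsg

namespace Cfsg.Agent.S2881

/-- Let E be an extraspecial 2-group of order 2^(2m+1) of plus type (containing an elementary abelian subgroup of order 2^(m+1)), and let ω be an automorphism of E of order 5 whose fixed points are exactly the centre of E. Then m is divisible by 4. -/
theorem result {E : Type*} [Group E] [Finite E] (m : ℕ) (hm : 1 ≤ m) (hE : Cfsg.IsExtraspecial 2 E) (hcard : Nat.card E = 2 ^ (2 * m + 1)) (hplus : ∃ A : Subgroup E, Cfsg.IsElementaryAbelian 2 A ∧ Nat.card A = 2 ^ (m + 1)) (ω : E ≃* E) (hω : orderOf ω = 5) (hfix : ∀ x : E, ω x = x ↔ x ∈ Subgroup.center E) : 4 ∣ m := by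
  haveI : Fact (Nat.Prime 5) := ⟨by norm_num⟩
  let T : Subgroup (MulAut E) := Subgroup.zpowers ω
  letI act : MulAction T {x : E // orderOf x = 4} :=
    { smul := fun t x => ⟨(t : MulAut E) x.1, by
        rw [MulEquiv.orderOf_eq]; exact x.2⟩
      one_smul := fun x => rfl
      mul_smul := fun t s x => rfl }
  have hT : IsPGroup 5 T := IsPGroup.of_card (n := 1) (by
    rw [pow_one, Nat.card_zpowers]; exact hω)
  have h0 : Nat.card (MulAction.fixedPoints T {x : E // orderOf x = 4}) = 0 := by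
    haveI : IsEmpty (MulAction.fixedPoints T {x : E // orderOf x = 4}) := ⟨fun ⟨x, hx⟩ => by
      have h1 : ω x.1 = x.1 := congrArg Subtype.val (hx ⟨ω, Subgroup.mem_zpowers ω⟩)
      haveI : Fact (Nat.Prime 2) := ⟨Nat.prime_two⟩
      have h2 := orderOf_dvd_of_pow_eq_one (Fusion.es_center_pow hE ((hfix _).1 h1))
      rw [x.2] at h2
      omega⟩
    exact Nat.card_of_isEmpty
  have h := hT.card_modEq_card_fixedPoints {x : E // orderOf x = 4}
  rw [h0, Cfsg.Agent.S2880.result m hm hE hcard hplus, Nat.modEq_zero_iff_dvd,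
    show 2 ^ (2 * m) - 2 ^ m = 2 ^ m * (2 ^ m - 1) by
      rw [Nat.mul_sub, mul_one, two_mul, pow_add]] at h
  have h5 : 5 ∣ 2 ^ m - 1 := (Nat.Prime.dvd_mul (by norm_num)).1 h |>.resolve_left fun h' => by
    have := (Nat.prime_dvd_prime_iff_eq (by norm_num) Nat.prime_two).1
      ((by norm_num : Nat.Prime 5).dvd_of_dvd_pow h')
    omega
  have key : ∀ k r : ℕ, 2 ^ (4 * k + r) % 5 = 2 ^ r % 5 := by
    intro k r
    rw [pow_add, pow_mul, Nat.mul_mod, Nat.pow_mod]
    simp
  have h1 : 2 ^ m % 5 = 1 := by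
    have : 1 ≤ 2 ^ m := Nat.one_le_two_pow
    omega
  rw [← Nat.div_add_mod m 4, key] at h1
  have hlt := Nat.mod_lt m (show 4 > 0 by norm_num)
  refine Nat.dvd_of_mod_eq_zero ?_
  interval_cases (m % 4) <;> simp_all

end Cfsg.Agent.S2881
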