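import Cfsg.Statements.S2882
import Cfsg.Agent.Compute.Syl2Normalizer

set_option autoImplicit false
open Cfsg
open scoped Pointwise

namespace Cfsg.Agent.S2882

theorem padicValNat_eq_ten : padicValNat 2 244823040 = 10 := by
  have := Fact.mk Nat.prime_two
  rw [show (244823040 : ℕ) = 2 ^ 10 * 239085 by norm_num,
    padicValNat.mul (by norm_num) (by norm_num), padicValNat.prime_pow,
    padicValNat.eq_zero_of_not_dvd (by norm_num)]

/-- In the Mathieu group of degree 24 (realised as the automorphism group of the extended binary Golay code) every Sylow 2-subgroup is self-normalizing. -/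
theorem result (S : Sylow 2 ↥Cfsg.M24) : Subgroup.normalizer ((S : Subgroup ↥Cfsg.M24) : Set ↥Cfsg.M24) = (S : Subgroup ↥Cfsg.M24) := by
  classical
  have := Fact.mk Nat.prime_two
  refine le_antisymm (fun n hn => ?_) Subgroup.le_normalizer
  obtain ⟨h1, h2, hsz⟩ := Compute.syl2F_checks
  have hle : Compute.rep24.chainGroup Compute.syl2FChain ≤ Cfsg.M24 := by
    rw [Compute.Rep.chainGroup, Compute.Rep.span, Subgroup.closure_le]
    rintro _ ⟨t, ht, rfl⟩
    exact (Compute.mem_M24_of_check (List.all_eq_true.mp h2 t ht)).2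
  have hcard : Nat.card ↥(Compute.rep24.chainGroup Compute.syl2FChain) = 2 ^ 10 := by
    rw [Compute.Rep.card_chainGroup _ h1, hsz]
  obtain ⟨k, hk, hkP⟩ := Compute.exists_conj_sylow (p := 2) (v := 10) hle hcard (by decide) S.2
  -- the conjugate of `S` is the whole standard group
  have hS : Nat.card ↥(S : Subgroup ↥Cfsg.M24) = 2 ^ 10 := by
    rw [S.card_eq_multiplicity, Compute.card_m24,
      Nat.factorization_def _ Nat.prime_two]
    congr 1
    exact padicValNat_eq_ten
  have hsurj : ∀ c ∈ Compute.rep24.chainGroup Compute.syl2FChain,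
      ∃ a ∈ (S : Subgroup ↥Cfsg.M24), k * (a : Equiv.Perm Cfsg.GolayPt) * k⁻¹ = c := by
    intro c hc
    let f : ↥(S : Subgroup ↥Cfsg.M24) → ↥(Compute.rep24.chainGroup Compute.syl2FChain) :=
      fun a => ⟨k * ((a : ↥Cfsg.M24) : Equiv.Perm Cfsg.GolayPt) * k⁻¹, hkP a a.2⟩
    have hf : Function.Injective f := fun a b hab =>
      Subtype.ext (Subtype.ext (mul_left_cancel (mul_right_cancel (congrArg Subtype.val hab))))
    obtain ⟨a, ha⟩ := ((Nat.bijective_iff_injective_and_card f).mpr
      ⟨hf, hS.trans hcard.symm⟩).2 ⟨c, hc⟩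
    exact ⟨a, a.2, congrArg Subtype.val ha⟩
  have key := Compute.syl2F_self_normalizing (n := k * (n : Equiv.Perm Cfsg.GolayPt) * k⁻¹)
    (mul_mem (mul_mem hk n.2) (inv_mem hk)) (fun c hc => ?_) (fun c hc => ?_)
  · obtain ⟨a, ha, hak⟩ := hsurj _ key
    have : a = n := Subtype.ext (mul_left_cancel (mul_right_cancel hak))
    exact this ▸ ha
  · obtain ⟨a, ha, rfl⟩ := hsurj c hc
    have hm : n * a * n⁻¹ ∈ (S : Subgroup ↥Cfsg.M24) := (Subgroup.mem_normalizer_iff.mp hn a).mp ha
    convert hkP _ hm using 1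
    push_cast
    group
  · obtain ⟨a, ha, rfl⟩ := hsurj c hc
    have hm : n⁻¹ * a * n ∈ (S : Subgroup ↥Cfsg.M24) := by
      have := (Subgroup.mem_normalizer_iff.mp (inv_mem hn) a).mp ha
      rwa [inv_inv] at this
    convert hkP _ hm using 1
    push_cast
    group

end Cfsg.Agent.S2882
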