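import Cfsg.Statements.S2896
import Cfsg.Agent.LocalStructure.LocalChar
import Cfsg.Agent.Layer.Local

set_option autoImplicit false
open Cfsg

set_option linter.all false

namespace Cfsg.Agent.S2896

/-- Let p be a prime dividing the order of the finite group G, S a Sylow p-subgroup of G and X a subgroup of S. (i) If some nontrivial element z of the centre of X has F*(C_G(z)) = O_p(C_G(z)), then F*(N_G(X)) = O_p(N_G(X)). (ii) G has parabolic characteristic p if and only if F*(C_G(z)) = O_p(C_G(z)) for every nontrivial z ∈ Ω₁(Z(S)). (iii) If F*(C_G(z)) = O_p(C_G(z)) for every element z of S of order p, then G has local characteristic p. -/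
theorem result {G : Type*} [Group G] [Finite G] {p : ℕ} [Fact p.Prime] (hdiv : p ∣ Nat.card G) (S : Sylow p G) (X : Subgroup G) (hX : X ≤ (S : Subgroup G)) : (∀ z : G, z ≠ 1 → z ∈ X → (∀ x ∈ X, x * z = z * x) → Cfsg.generalizedFittingSubgroup ↥(Subgroup.centralizer ({z} : Set G)) = Cfsg.pCore p ↥(Subgroup.centralizer ({z} : Set G)) → Cfsg.generalizedFittingSubgroup ↥(Subgroup.normalizer (X : Set G)) = Cfsg.pCore p ↥(Subgroup.normalizer (X : Set G))) ∧ (Cfsg.IsOfParabolicCharacteristic p G ↔ ∀ z : G, z ≠ 1 → z ∈ Cfsg.omegaOne p ((S : Subgroup G) ⊓ Subgroup.centralizer ((S : Subgroup G) : Set G)) → Cfsg.generalizedFittingSubgroup ↥(Subgroup.centralizer ({z} : Set G)) = Cfsg.pCore p ↥(Subgroup.centralizer ({z} : Set G))) ∧ ((∀ z : G, z ∈ (S : Subgroup G) → orderOf z = p → Cfsg.generalizedFittingSubgroup ↥(Subgroup.centralizer ({z} : Set G)) = Cfsg.pCore p ↥(Subgroup.centralizer ({z} : Set G))) → Cfsg.IsOfLocalCharacteristic p G) := by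
  refine ⟨fun z hz1 hzX hzc hC => ?_, ⟨fun h z hz1 hz => ?_, fun h => ?_⟩, fun h => ?_⟩
  · rw [LocalStructure.gfs_eq_iff_charP] at hC ⊢
    exact (LocalStructure.charP_normalizer_of_centralizer_le hC (S.2.to_le hX)
      (fun x hx => Subgroup.mem_centralizer_singleton_iff.mpr (hzc x hx))
      (fun c hc => Subgroup.mem_centralizer_singleton_iff.mpr (Subgroup.mem_centralizer_iff.mp hc z hzX).symm)).1
  · exact LocalStructure.gfs_eq_iff_charP.mpr (LocalStructure.charP_centralizer_of_parabolicChar h S hz hz1)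
  · exact LocalStructure.parabolicChar_of_centralizers S fun z hz hz1 =>
      LocalStructure.gfs_eq_iff_charP.mp (h z hz1 hz)
  · refine ⟨hdiv, fun T hT hT1 => Layer.pCoreSelfCentral_normalizer_of_centralizers (fun t ht => ?_) hT hT1⟩
    obtain ⟨g, hg⟩ := LocalStructure.exists_cmap_le_sylow
      (IsPGroup.of_card (n := 1) (by rw [Nat.card_zpowers, ht, pow_one]) : IsPGroup p (Subgroup.zpowers t)) S
    have hmem : g * t * g⁻¹ ∈ (S : Subgroup G) := hg ⟨t, Subgroup.mem_zpowers t, rfl⟩
    have h1 := LocalStructure.gfs_eq_iff_charP.mp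
      (h _ hmem (by rw [LocalStructure.orderOf_conj]; exact ht))
    have h2 : Subgroup.centralizer ({g * t * g⁻¹} : Set G) =
        LocalStructure.cmap g (Subgroup.centralizer ({t} : Set G)) := by
      ext x
      rw [LocalStructure.mem_cmap, Subgroup.mem_centralizer_singleton_iff, Subgroup.mem_centralizer_singleton_iff]
      constructor
      · intro h
        calc g⁻¹ * x * g * t = g⁻¹ * (x * (g * t * g⁻¹)) * g := by group
          _ = g⁻¹ * ((g * t * g⁻¹) * x) * g := by rw [h]
          _ = t * (g⁻¹ * x * g) := by group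
      · intro h
        calc x * (g * t * g⁻¹) = g * (g⁻¹ * x * g * t) * g⁻¹ := by group
          _ = g * (t * (g⁻¹ * x * g)) * g⁻¹ := by rw [h]
          _ = g * t * g⁻¹ * x := by group
    rw [h2, LocalStructure.charP_cmap_iff] at h1
    exact LocalStructure.charP_iff_selfCentral.mp h1

end Cfsg.Agent.S2896
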