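import Cfsg.Statements.S2897
import Cfsg.Agent.LocalStructure.LocalChar
import Cfsg.Agent.LocalStructure.QuotientNormalizer
import Cfsg.Agent.Coprime.Tools

set_option autoImplicit false
open Cfsg

set_option linter.all false

namespace Cfsg.Agent.S2897

/-- Let p be a prime dividing the order of the finite group G, suppose G has parabolic characteristic p, let S be a Sylow p-subgroup of G and G₁ a normal subgroup of G. If Ω₁(Z(S ∩ G₁)) is nontrivial and contained in Ω₁(Z(S)), then G₁ has parabolic characteristic p. -/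
theorem result {G : Type*} [Group G] [Finite G] {p : ℕ} [Fact p.Prime] (hdiv : p ∣ Nat.card G) (hG : Cfsg.IsOfParabolicCharacteristic p G) (S : Sylow p G) (G₁ : Subgroup G) [G₁.Normal] (hne : Cfsg.omegaOne p (((S : Subgroup G) ⊓ G₁) ⊓ Subgroup.centralizer (((S : Subgroup G) ⊓ G₁ : Subgroup G) : Set G)) ≠ ⊥) (hle : Cfsg.omegaOne p (((S : Subgroup G) ⊓ G₁) ⊓ Subgroup.centralizer (((S : Subgroup G) ⊓ G₁ : Subgroup G) : Set G)) ≤ Cfsg.omegaOne p ((S : Subgroup G) ⊓ Subgroup.centralizer ((S : Subgroup G) : Set G))) : Cfsg.IsOfParabolicCharacteristic p ↥G₁ := by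
  let S₁ : Sylow p G₁ := ((S.2.comap_of_injective G₁.subtype G₁.subtype_injective)).toSylow
    (LocalStructure.not_dvd_relIndex_normal S G₁)
  refine LocalStructure.parabolicChar_of_centralizers S₁ fun z hz hz1 => ?_
  obtain ⟨hzS, hzC, hzp⟩ := LocalStructure.mem_omegaZ_iff.mp hz
  have hzS' : (z : G) ∈ (S : Subgroup G) := hzS
  have hz' : (z : G) ∈ LocalStructure.omegaZ p ((S : Subgroup G) ⊓ G₁) := by
    refine LocalStructure.mem_omegaZ_iff.mpr ⟨⟨hzS', z.2⟩, ?_, by rw [← Subgroup.coe_pow, hzp]; rfl⟩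
    rw [Subgroup.mem_centralizer_iff]
    intro y hy
    exact congrArg Subtype.val (Subgroup.mem_centralizer_iff.mp hzC ⟨y, hy.2⟩ hy.1)
  have h1 := LocalStructure.charP_centralizer_of_parabolicChar hG S (hle hz')
    (fun e => hz1 (Subtype.ext e))
  have h2 : LocalStructure.CharP p (G₁ ⊓ Subgroup.centralizer ({(z : G)} : Set G)) :=
    LocalStructure.charP_of_normal inf_le_right
      (Coprime.le_normalizer_inf Subgroup.le_normalizer_of_normal Subgroup.le_normalizer) h1
  refine (LocalStructure.charP_map_iff G₁.subtype G₁.subtype_injective).mp ?_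
  convert h2 using 1
  ext x
  constructor
  · rintro ⟨y, hy, rfl⟩
    exact ⟨y.2, Subgroup.mem_centralizer_singleton_iff.mpr
      (congrArg Subtype.val (Subgroup.mem_centralizer_singleton_iff.mp hy))⟩
  · rintro ⟨hx, hxc⟩
    exact ⟨⟨x, hx⟩, Subgroup.mem_centralizer_singleton_iff.mpr
      (Subtype.ext (Subgroup.mem_centralizer_singleton_iff.mp hxc)), rfl⟩

end Cfsg.Agent.S2897
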