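import Cfsg.Statements.S2906
import Cfsg.Agent.S2905
import Cfsg.Agent.Layer.Components
import Cfsg.Agent.Layer.Subnormal
import Cfsg.Agent.Core.PCore
import Cfsg.Agent.Core.Fitting
import Cfsg.Agent.Fusion.Residual
import Cfsg.Agent.Coprime.Basic
import Cfsg.Agent.Coprime.Generation
import Cfsg.Agent.LocalStructure.CharP
import Cfsg.Agent.CentLarge.Basic

set_option autoImplicit false
open Cfsg

set_option linter.all false

namespace Cfsg.Agent.S2906

open Subgroup
open scoped commutatorElement Pointwise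

theorem perfect_le_residual {P : Type*} [Group P] [Finite P] {p : ℕ} [Fact p.Prime] {K : Subgroup P}
    (hK : Cfsg.IsQuasisimple K) : K ≤ Cfsg.pResidual p P := by
  set R := Cfsg.pResidual p P
  set q := QuotientGroup.mk' R
  haveI : Group.IsNilpotent (P ⧸ R) := (Fusion.isPGroup_quotient_pResidual (G := P) (p := p)).isNilpotent
  by_contra hle
  haveI := hK.1
  haveI : Group.IsPerfect (K.map q) := Group.IsPerfect.ofSurjective (q.subgroupMap_surjective K)
  haveI : Nontrivial (K.map q) := (nontrivial_iff_ne_bot _).2 fun h => hle (by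
    rwa [Subgroup.map_eq_bot_iff, QuotientGroup.ker_mk'] at h)
  exact Group.IsPerfect.not_isSolvable (K.map q) inferInstance

theorem coe_sup_card {G : Type*} [Group G] [Finite G] {X Y : Subgroup G} (h : X ≤ normalizer (Y : Set G)) :
    Nat.card (X ⊔ Y : Subgroup G) * Nat.card (X ⊓ Y : Subgroup G) = Nat.card X * Nat.card Y := by
  rw [← CentLarge.card_mul_card_inf X Y, ← Subgroup.coe_mul_of_left_le_normalizer_right X Y h]
  rfl

theorem rmc {G : Type*} [Group G] {H K : Subgroup G} (h : H ≤ K) : H.relIndex K * Nat.card H = Nat.card K := by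
  rw [← relIndex_bot_left, ← relIndex_bot_left, mul_comm, relIndex_mul_relIndex ⊥ H K bot_le h]

theorem le_of_pgroup {G : Type*} [Group G] [Finite G] {p : ℕ} [Fact p.Prime] {T A E : Subgroup G}
    (hT : IsPGroup p T) (hTA : T ≤ normalizer (A : Set G)) (hAE : A ≤ E) (hTE : T ≤ E)
    (hidx : ¬ p ∣ A.relIndex E) : T ≤ A := by
  intro y hy
  have hle : A ⊔ T ≤ E := sup_le hAE hTE
  have h1 : ¬ p ∣ A.relIndex (A ⊔ T) :=
    fun h => hidx (h.trans (dvd_of_mul_right_eq _ (relIndex_mul_relIndex A (A ⊔ T) E le_sup_left hle)))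
  have h2 := coe_sup_card hTA
  rw [sup_comm, ← rmc (le_sup_left : A ≤ A ⊔ T), mul_comm (Nat.card T),
    mul_comm (A.relIndex _), mul_assoc] at h2
  have h3 := Nat.eq_of_mul_eq_mul_left Nat.card_pos h2
  obtain ⟨a, ha⟩ := IsPGroup.iff_card.1 hT
  have h4 : A.relIndex (A ⊔ T) = 1 := by
    have hd : A.relIndex (A ⊔ T) ∣ p ^ a := ha ▸ Dvd.intro _ h3
    exact Nat.eq_one_of_dvd_coprimes ((((Fact.out : p.Prime).coprime_iff_not_dvd).2 h1).symm.pow_right a) dvd_rfl hd
  exact relIndex_eq_one.1 h4 (mem_sup_right hy)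

/-- Let P be a finite p-minimal group with O_p(P) = 1, S a Sylow p-subgroup of P and K a component of P. Then O^p(P) = F*(P) = E(P) is generated by the S-conjugates of K, and the subgroup K·N_S(K) is again p-minimal. -/
theorem result {P : Type*} [Group P] [Finite P] {p : ℕ} [Fact p.Prime] (hP : Cfsg.IsPMinimal p P) (hOp : Cfsg.pCore p P = ⊥) (S : Sylow p P) (K : Subgroup P) (hK : Cfsg.IsComponent K) : Cfsg.pResidual p P = Cfsg.generalizedFittingSubgroup P ∧ Cfsg.generalizedFittingSubgroup P = Cfsg.layer P ∧ Cfsg.layer P = ⨆ s : ↥(S : Subgroup P), K.map (MulAut.conj (s : P)).toMonoidHom ∧ Cfsg.IsPMinimal p ↥(K ⊔ ((S : Subgroup P) ⊓ Subgroup.normalizer (K : Set P))) := by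
  classical
  have hp := (Fact.out : p.Prime)
  obtain ⟨hSn, M, ⟨hM, hSM⟩, huniq⟩ := hP S
  haveI : M.normalCore.Normal := M.normalCore_normal
  obtain ⟨hsub, -, hthree, -, hlt⟩ := S2905.result hP S M hM hSM
  set R := Cfsg.pResidual p P with hRdef
  set F := M.normalCore with hFdef
  have hFM : F ≤ M := M.normalCore_le
  have hle : ∀ X : Subgroup P, (S : Subgroup P) ≤ X → X ≠ ⊤ → X ≤ M := by
    intro X hX hne
    obtain ⟨C, hC, hXC⟩ := (eq_top_or_exists_le_coatom X).resolve_left hne
    rw [← huniq C ⟨hC, hX.trans hXC⟩]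
    exact hXC
  haveI : R.Characteristic := Fusion.pResidual_characteristic
  have hRS : (S : Subgroup P) ⊔ R = ⊤ :=
    Fusion.sylow_sup_eq_top_of_isPGroup_quotient S R Fusion.isPGroup_quotient_pResidual
  have hFmax : ∀ C : Subgroup P, C.Normal → C ≤ M → C ≤ F := fun C hC hCM => by
    haveI := hC; exact normal_le_normalCore.mpr hCM
  -- the core is nilpotent of order prime to `p`
  have hFS : F ⊓ (S : Subgroup P) = ⊥ := le_bot_iff.1 (hOp ▸ hsub F (inferInstance : F.Normal).isSubnormal hFM)
  have hFp : (Nat.card F).Coprime p := by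
    refine ((hp.coprime_iff_not_dvd).2 fun h => ?_).symm
    have h1 := LocalStructure.not_dvd_relIndex_subnormal S (inferInstance : F.Normal).isSubnormal
    rw [← inf_relIndex_left, inf_comm, inf_relIndex_right] at h1
    have h2 : (S : Subgroup P).relIndex F = Nat.card F := by
      rw [← inf_relIndex_right, inf_comm, hFS, relIndex_bot_left]
    exact LocalStructure.not_dvd_relIndex_subnormal S (inferInstance : F.Normal).isSubnormal (h2.symm ▸ h)
  have hScop : (Nat.card (S : Subgroup P)).Coprime (Nat.card F) := by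
    obtain ⟨a, ha⟩ := IsPGroup.iff_card.1 S.isPGroup'
    rw [ha]; exact hFp.symm.pow_left a
  have hSsol : Group.IsSolvable (S : Subgroup P) := by haveI := S.isPGroup'.isNilpotent; infer_instance
  have hFnil : Group.IsNilpotent F := by
    refine ((Group.isNilpotent_of_finite_tfae (G := F)).out 0 3).2 fun r hr Q => ?_
    haveI := hr
    obtain ⟨Q₀, hQ₀⟩ := Coprime.exists_invariant_sylow (A := (S : Subgroup P)) (K := F) (normalizer_eq_top (H := F) ▸ le_top)
      hScop (Or.inl hSsol) r
    have hn : normalizer (((Q₀ : Subgroup F).map F.subtype : Subgroup P) : Set P) = ⊤ := by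
      by_contra hne
      exact hM.1 (top_le_iff.mp ((Sylow.normalizer_sup_eq_top Q₀).ge.trans (sup_le (hle _ hQ₀ hne) hFM)))
    haveI := normalizer_eq_top_iff.1 hn
    have hQn : (Q₀ : Subgroup F).Normal := by
      have h1 : ((Q₀ : Subgroup F).map F.subtype).subgroupOf F = Q₀ := comap_map_eq_self_of_injective F.subtype_injective _
      rw [← h1]; infer_instance
    haveI := Sylow.unique_of_normal Q₀ hQn
    rwa [Subsingleton.elim Q Q₀]
  have hFsol : Group.IsSolvable F := by haveI := hFnil; infer_instance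
  have hKne : ∀ L : Subgroup P, Cfsg.IsComponent L → ¬ L ≤ F := fun L hL h => by
    haveI := hFsol
    exact Layer.qs_not_isSolvable hL.2 (Group.isSolvable_of_isSolvable_injective (inclusion_injective h))
  -- residual, layer and generalized Fitting subgroup
  have hER : Cfsg.layer P = R := by
    refine le_antisymm (sSup_le fun L hL => perfect_le_residual hL.2) ?_
    exact (hthree _ inferInstance).resolve_right fun h => hKne K hK ((Layer.component_le_layer hK).trans h)
  have hFit : fittingSubgroup P ≤ R := by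
    have hFF : fittingSubgroup P ≤ F := by
      haveI : (fittingSubgroup P).Normal := inferInstance
      refine (hthree _ inferInstance).resolve_left fun h => ?_
      haveI := Core.fittingSubgroup_isNilpotent (G := P)
      exact Layer.qs_not_isSolvable hK.2 (Group.isSolvable_of_isSolvable_injective
        (inclusion_injective ((perfect_le_residual hK.2).trans h)))
    refine hFF.trans fun y hy => ?_
    obtain ⟨k, hk⟩ := Fusion.isPGroup_quotient_pResidual (G := P) (p := p) (QuotientGroup.mk y)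
    have h1 : orderOf (QuotientGroup.mk y : P ⧸ R) ∣ p ^ k := orderOf_dvd_of_pow_eq_one hk
    have h2 : orderOf (QuotientGroup.mk y : P ⧸ R) ∣ Nat.card F :=
      (orderOf_map_dvd (QuotientGroup.mk' R) y).trans (Subgroup.orderOf_dvd_natCard _ hy)
    exact (QuotientGroup.eq_one_iff y).1 (orderOf_eq_one_iff.1 (Nat.eq_one_of_dvd_coprimes (hFp.symm.pow_left k) h1 h2))
  have hFst : Cfsg.generalizedFittingSubgroup P = R := by
    rw [Cfsg.generalizedFittingSubgroup, hER]
    exact sup_eq_left.2 hFit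
  -- the conjugates of `K` under `S`
  have hcomp : ∀ s : P, Cfsg.IsComponent (K.map (MulAut.conj s).toMonoidHom) := Layer.isComponent_map_conj hK
  have hconjmul : ∀ (a b : P) (X : Subgroup P), (X.map (MulAut.conj b).toMonoidHom).map (MulAut.conj a).toMonoidHom =
      X.map (MulAut.conj (a * b)).toMonoidHom := fun a b X => by
    rw [Subgroup.map_map, map_mul]; rfl
  have hSorb : ∀ (X : Subgroup P), (S : Subgroup P) ≤
      normalizer (((⨆ s : ↥(S : Subgroup P), X.map (MulAut.conj (s : P)).toMonoidHom) : Subgroup P) : Set P) := by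
    intro X a ha
    have hle' : ∀ b : ↥(S : Subgroup P), (⨆ s : ↥(S : Subgroup P), X.map (MulAut.conj (s : P)).toMonoidHom).map
        (MulAut.conj (b : P)).toMonoidHom ≤ ⨆ s : ↥(S : Subgroup P), X.map (MulAut.conj (s : P)).toMonoidHom := by
      intro b
      rw [Subgroup.map_iSup]
      refine iSup_le fun s => ?_
      rw [hconjmul]
      exact le_iSup (fun s : ↥(S : Subgroup P) => X.map (MulAut.conj (s : P)).toMonoidHom) (b * s)
    refine mem_normalizer_iff.2 fun y => ⟨fun hy => hle' ⟨a, ha⟩ ⟨y, hy, rfl⟩, fun hy => ?_⟩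
    have := hle' (⟨a, ha⟩⁻¹) ⟨_, hy, rfl⟩
    simpa [mul_assoc] using this
  have hL : Cfsg.layer P = ⨆ s : ↥(S : Subgroup P), K.map (MulAut.conj (s : P)).toMonoidHom := by
    set L := ⨆ s : ↥(S : Subgroup P), K.map (MulAut.conj (s : P)).toMonoidHom with hLd
    refine le_antisymm ?_ (iSup_le fun s => Layer.component_le_layer (hcomp s))
    have hLn : L.Normal := by
      refine normalizer_eq_top_iff.1 (top_le_iff.1 (hRS.ge.trans (sup_le (hSorb K) ?_)))
      rw [← hER]
      refine sSup_le fun C hC => le_trans ?_ (iInf_normalizer_le_normalizer_iSup _)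
      exact le_iInf fun s => Layer.component_le_normalizer_component hC (hcomp s)
    rw [hER]
    refine (hthree L hLn).resolve_right fun h => hKne K hK (le_trans ?_ h)
    refine le_iSup_of_le (⟨1, one_mem _⟩ : ↥(S : Subgroup P)) ?_
    exact fun y hy => ⟨y, hy, by simp⟩
  refine ⟨hFst.symm, by rw [hFst, hER], hL, ?_⟩
  -- the subgroup `H`
  set S₀ := (S : Subgroup P) ⊓ normalizer (K : Set P) with hS₀
  set H := K ⊔ S₀ with hH
  have hKH : K ≤ H := le_sup_left
  have hS₀H : S₀ ≤ H := le_sup_right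
  have hS₀K : S₀ ≤ normalizer (K : Set P) := inf_le_right
  have hSK : (S : Subgroup P) ⊓ K ≤ S₀ := inf_le_inf_left _ Subgroup.le_normalizer
  have hidxK : ¬ p ∣ ((S : Subgroup P) ⊓ K).relIndex K := by
    rw [inf_relIndex_right]; exact LocalStructure.not_dvd_relIndex_subnormal S hK.1
  have hidxH : ¬ p ∣ S₀.relIndex H := by
    have h1 := coe_sup_card hS₀K
    rw [sup_comm, ← hH, ← rmc hS₀H, ← rmc (inf_le_right : (S : Subgroup P) ⊓ K ≤ K),
      show S₀ ⊓ K = (S : Subgroup P) ⊓ K from le_antisymm (inf_le_inf_right _ inf_le_left) (le_inf hSK inf_le_right)] at h1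
    have h2 : S₀.relIndex H = ((S : Subgroup P) ⊓ K).relIndex K := by
      refine Nat.eq_of_mul_eq_mul_right (m := Nat.card S₀ * Nat.card ((S : Subgroup P) ⊓ K : Subgroup P))
        (Nat.mul_pos Nat.card_pos Nat.card_pos) ?_
      rw [← mul_assoc, h1]; ring
    rwa [h2]
  have hKp : ¬ K ≤ normalizer (((S : Subgroup P) ⊓ K : Subgroup P) : Set P) := by
    intro hn
    haveI : (((S : Subgroup P) ⊓ K).subgroupOf K).Normal := normal_subgroupOf_of_le_normalizer hn
    have hsn : ((S : Subgroup P) ⊓ K).IsSubnormal :=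
      Subgroup.IsSubnormal.step _ _ inf_le_right hK.1 inferInstance
    have hbot : (S : Subgroup P) ⊓ K = ⊥ :=
      le_bot_iff.1 (hOp ▸ Layer.subnormal_le_pCore hsn (S.isPGroup'.to_le inf_le_left))
    -- then the layer has order prime to `p`
    have hKc : (Nat.card K).Coprime p := by
      refine ((hp.coprime_iff_not_dvd).2 fun h => hidxK ?_).symm
      rw [hbot, relIndex_bot_left]; exact h
    have hKF := Layer.subnormal_le_pPrimeCore hK.1 hKc
    have hRc : (Nat.card R).Coprime p := by
      rw [← hER, hL]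
      refine Nat.Coprime.coprime_dvd_left (card_dvd_of_le (iSup_le fun s => ?_)) Core.coprime_card_pPrimeCore
      refine (Subgroup.map_mono hKF).trans_eq ?_
      exact Subgroup.Normal.map_conj_eq _ _
    have hSR : (Nat.card (S : Subgroup P)).Coprime (Nat.card R) := by
      obtain ⟨a, ha⟩ := IsPGroup.iff_card.1 S.isPGroup'
      rw [ha]; exact hRc.symm.pow_left a
    have hRM : ¬ R ≤ M := fun h => hM.1 (top_le_iff.mp (hRS.ge.trans (sup_le hSM h)))
    have hSn' : (S : Subgroup P) ≤ normalizer (R : Set P) := normalizer_eq_top (H := R) ▸ le_top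
    refine hRM ?_
    refine Coprime.le_of_forall_sylow_le fun r hr => ?_
    haveI := Fact.mk hr
    obtain ⟨Q, hQ⟩ := Coprime.exists_invariant_sylow hSn' hSR (Or.inl hSsol) r
    set Q' := (Q : Subgroup R).map R.subtype with hQ'
    refine ⟨Q, ?_⟩
    by_cases htop : (S : Subgroup P) ⊔ Q' = ⊤
    · exfalso
      have hcard := coe_sup_card hQ
      have hcard2 := coe_sup_card hSn'
      rw [htop] at hcard
      rw [hRS] at hcard2
      have hb : (S : Subgroup P) ⊓ R = ⊥ := inf_eq_bot_of_coprime hSR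
      have hb' : (S : Subgroup P) ⊓ Q' = ⊥ := le_bot_iff.1 ((inf_le_inf_left _ (map_subtype_le _)).trans hb.le)
      rw [hb'] at hcard
      rw [hb] at hcard2
      have heq : Nat.card Q' = Nat.card R := Nat.eq_of_mul_eq_mul_left Nat.card_pos (hcard.symm.trans hcard2)
      have hRQ : Q' = R := eq_of_le_of_card_ge (map_subtype_le _) heq.ge
      have hQp : IsPGroup r R := hRQ ▸ (Q.isPGroup'.map R.subtype)
      haveI := hQp.isNilpotent
      exact Layer.qs_not_isSolvable hK.2 (Group.isSolvable_of_isSolvable_injective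
        (inclusion_injective (perfect_le_residual (p := p) hK.2)))
    · exact le_sup_right.trans (hle _ le_sup_left htop)
  -- overgroups of `S₀` in `H`
  have hMK : ¬ K ≤ M := fun h => hM.1 (top_le_iff.mp (hRS.ge.trans (sup_le hSM (by
    rw [← hER, hL]
    refine iSup_le fun s => ?_
    rintro _ ⟨y, hy, rfl⟩
    exact mul_mem (mul_mem (hSM s.2) (h hy)) (inv_mem (hSM s.2))))))
  have hover : ∀ X : Subgroup P, S₀ ≤ X → X ≤ H → X ≠ H → X ≤ M := by
    intro X hX hXH hne
    set Y := X ⊓ K with hY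
    have hYX : X ≤ Y ⊔ S₀ := by
      intro y hy
      obtain ⟨a, ha, b, hb, rfl⟩ := (Set.mem_mul.1 (by rw [← Subgroup.coe_mul_of_right_le_normalizer_left K S₀ hS₀K]; exact hXH hy : y ∈ (K : Set P) * (S₀ : Set P)))
      refine mul_mem_sup ⟨?_, ha⟩ hb
      simpa using mul_mem hy (inv_mem (hX hb))
    have hYK : Y ≠ K := fun h => hne (le_antisymm hXH (sup_le (h ▸ inf_le_left) hX))
    set Ys := ⨆ s : ↥(S : Subgroup P), Y.map (MulAut.conj (s : P)).toMonoidHom with hYs
    suffices htop : Ys ⊔ (S : Subgroup P) ≠ ⊤ by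
      have h1 : Y ≤ Ys := le_iSup_of_le (⟨1, one_mem _⟩ : ↥(S : Subgroup P)) (by exact fun y hy => ⟨y, hy, by simp⟩)
      exact hYX.trans (sup_le ((h1.trans le_sup_left).trans (hle _ le_sup_right htop)) (inf_le_left.trans hSM))
    intro htop
    -- the other conjugates
    set L' := sSup {C : Subgroup P | Cfsg.IsComponent C ∧ C ≠ K} with hL'
    have hKL' : ⁅K, L'⁆ = ⊥ := Layer.commutator_sSup_eq_bot fun C hC => Layer.components_commute hK hC.1 (Ne.symm hC.2)
    have hKc : K ≤ centralizer (L' : Set P) := commutator_eq_bot_iff_le_centralizer.1 hKL'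
    have hLc : L' ≤ centralizer (K : Set P) := le_centralizer_iff.1 hKc
    have hE : R = K ⊔ L' := by
      rw [← hER]
      refine le_antisymm (sSup_le fun C hC => ?_) (sup_le (Layer.component_le_layer hK) (sSup_le fun C hC => Layer.component_le_layer hC.1))
      by_cases hCK : C = K
      · exact hCK ▸ le_sup_left
      · exact le_sup_of_le_right (le_sSup (show C ∈ {C : Subgroup P | Cfsg.IsComponent C ∧ C ≠ K} from ⟨hC, hCK⟩))
    have hYW : Ys ≤ Y ⊔ L' := by
      refine iSup_le fun s => ?_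
      by_cases hs : K.map (MulAut.conj (s : P)).toMonoidHom = K
      · refine le_sup_of_le_left (le_inf ?_ ((Subgroup.map_mono inf_le_right).trans hs.le))
        have hsN : (s : P) ∈ S₀ := ⟨s.2, mem_normalizer_iff.2 fun y => ⟨fun hy => hs.le ⟨y, hy, rfl⟩, fun hy => by
          obtain ⟨z, hz, hzy⟩ := hs.ge hy
          rwa [← mul_left_cancel (mul_right_cancel (show (s : P) * z * (s : P)⁻¹ = s * y * (s : P)⁻¹ from hzy))]⟩⟩
        rintro _ ⟨y, hy, rfl⟩
        exact mul_mem (mul_mem (hX hsN) hy.1) (inv_mem (hX hsN))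
      · exact le_sup_of_le_right ((Subgroup.map_mono inf_le_right).trans (le_sSup (show K.map (MulAut.conj (s : P)).toMonoidHom ∈ {C : Subgroup P | Cfsg.IsComponent C ∧ C ≠ K} from ⟨hcomp s, hs⟩)))
    have hYsR : Ys ≤ R := hYW.trans (hE.symm ▸ sup_le_sup_right inf_le_right _)
    set A := ((S : Subgroup P) ⊓ K) ⊔ L' with hA
    have hSKn : (S : Subgroup P) ⊓ K ≤ normalizer (L' : Set P) :=
      inf_le_right.trans (hKc.trans (centralizer_le_normalizer _))
    have hAidx : ¬ p ∣ A.relIndex R := by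
      have hAR : A ≤ R := hE.symm ▸ sup_le_sup_right inf_le_right _
      have e1 := coe_sup_card (hKc.trans (centralizer_le_normalizer _))
      have e2 := coe_sup_card hSKn
      rw [← hE, ← rmc hAR, ← rmc (inf_le_right : (S : Subgroup P) ⊓ K ≤ K),
        ← rmc (inf_le_inf_right L' (inf_le_right : (S : Subgroup P) ⊓ K ≤ K))] at e1
      rw [← hA] at e2
      have e3 : A.relIndex R * (((S : Subgroup P) ⊓ K ⊓ L').relIndex (K ⊓ L')) = ((S : Subgroup P) ⊓ K).relIndex K := by
        refine Nat.eq_of_mul_eq_mul_right (m := Nat.card A * Nat.card ((S : Subgroup P) ⊓ K ⊓ L' : Subgroup P))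
          (Nat.mul_pos Nat.card_pos Nat.card_pos) ?_
        calc _ = A.relIndex R * Nat.card A * (((S : Subgroup P) ⊓ K ⊓ L').relIndex (K ⊓ L') * Nat.card ((S : Subgroup P) ⊓ K ⊓ L' : Subgroup P)) := by ring
          _ = _ := by rw [e1, e2]; ring
      exact fun h => hidxK (e3 ▸ h.mul_right _)
    have hT : (S : Subgroup P) ⊓ R ≤ A := by
      refine le_of_pgroup (S.isPGroup'.to_le inf_le_left) ?_ (hE.symm ▸ sup_le_sup_right inf_le_right _) inf_le_right hAidx
      have h1 : (S : Subgroup P) ⊓ R ≤ normalizer (K : Set P) :=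
        inf_le_right.trans (hER ▸ Layer.layer_le_normalizer_component hK)
      intro y hy
      refine Subgroup.normalizer_inf_normalizer_le_normalizer_sup _ _ ⟨?_, ?_⟩
      · exact Subgroup.inf_normalizer_le_normalizer_inf ⟨Subgroup.le_normalizer hy.1, h1 hy⟩
      · have h2 : R ≤ normalizer (L' : Set P) := by
          rw [hE]
          exact sup_le (hKc.trans (centralizer_le_normalizer _)) Subgroup.le_normalizer
        exact h2 hy.2
    have hAW : A ≤ Y ⊔ L' := sup_le_sup_right (le_inf (hSK.trans hX) inf_le_right) _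
    have hW : R ≤ Y ⊔ L' := by
      intro y hy
      have hny : (S : Subgroup P) ≤ normalizer (Ys : Set P) := hSorb Y
      obtain ⟨a, ha, b, hb, rfl⟩ := Set.mem_mul.1
        (by rw [← Subgroup.coe_mul_of_right_le_normalizer_left Ys (S : Subgroup P) hny]; exact htop.ge (mem_top y) : y ∈ (Ys : Set P) * ((S : Subgroup P) : Set P))
      exact mul_mem (hYW ha) (hAW (hT ⟨hb, by simpa using mul_mem (inv_mem (hYsR ha)) hy⟩))
    refine hYK (le_antisymm inf_le_right ?_)
    rw [← Layer.qs_subgroup_perfect hK.2, commutator_le]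
    intro a ha b hb
    have key : ∀ c ∈ K, ∃ u ∈ Y, ∃ z ∈ centralizer (K : Set P), c = u * z := by
      intro c hc
      obtain ⟨u, hu, v, hv, rfl⟩ := Set.mem_mul.1 (by
        rw [← Subgroup.coe_mul_of_left_le_normalizer_right Y L' (inf_le_right.trans (hKc.trans (centralizer_le_normalizer _)))]
        exact hW (hE.symm ▸ mem_sup_left hc) : c ∈ (Y : Set P) * (L' : Set P))
      exact ⟨u, hu, v, hLc hv, rfl⟩
    obtain ⟨u, hu, z, hz, rfl⟩ := key a ha
    obtain ⟨u', hu', z', hz', rfl⟩ := key b hb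
    have hzK : z ∈ K := by simpa using mul_mem (inv_mem (show u ∈ K from hu.2)) ha
    have c1 : ∀ k ∈ K, k * z = z * k := fun k hk => mem_centralizer_iff.1 hz k hk
    have c2 : ∀ k ∈ K, k * z' = z' * k := fun k hk => mem_centralizer_iff.1 hz' k hk
    have hz'K : z' ∈ K := by simpa using mul_mem (inv_mem (show u' ∈ K from hu'.2)) hb
    have e : ⁅u * z, u' * z'⁆ = ⁅u, u'⁆ := by
      rw [commutatorElement_def, commutatorElement_def]
      calc u * z * (u' * z') * (u * z)⁻¹ * (u' * z')⁻¹
          = u * (z * (u' * z')) * z⁻¹ * u⁻¹ * z'⁻¹ * u'⁻¹ := by group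
        _ = u * ((u' * z') * z) * z⁻¹ * u⁻¹ * z'⁻¹ * u'⁻¹ := by rw [c1 _ (mul_mem hu'.2 hz'K)]
        _ = u * u' * (z' * u⁻¹) * z'⁻¹ * u'⁻¹ := by group
        _ = u * u' * (u⁻¹ * z') * z'⁻¹ * u'⁻¹ := by rw [c2 _ (inv_mem hu.2)]
        _ = _ := by group
    rw [e, commutatorElement_def]
    exact mul_mem (mul_mem (mul_mem hu hu') (inv_mem hu)) (inv_mem hu')
  -- conclusion
  intro T
  have hS₀p : IsPGroup p (S₀.subgroupOf H) :=
    IsPGroup.of_equiv (S.isPGroup'.to_le inf_le_left) (subgroupOfEquivOfLe hS₀H).symm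
  obtain ⟨g, hg⟩ := MulAction.exists_smul_eq ↥H (hS₀p.toSylow hidxH) T
  have hTeq : (T : Subgroup H) = (S₀.subgroupOf H).map (MulAut.conj g).toMonoidHom := by
    rw [← hg, Sylow.coe_subgroup_smul]; rfl
  have hnn : ¬ (S₀.subgroupOf H).Normal := fun hn => hKp fun k hk => by
    have h1 : H ≤ normalizer (S₀ : Set P) := (normal_subgroupOf_iff_le_normalizer hS₀H).1 hn
    have h2 := Subgroup.inf_normalizer_le_normalizer_inf (H := S₀) (K := K) ⟨h1 (hKH hk), Subgroup.le_normalizer hk⟩
    rwa [show S₀ ⊓ K = (S : Subgroup P) ⊓ K from le_antisymm (inf_le_inf_right _ inf_le_left) (le_inf hSK inf_le_right)] at h2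
  have hMH : M.subgroupOf H ≠ ⊤ := fun h => hMK (hKH.trans (subgroupOf_eq_top.1 h))
  have hS₀M : S₀.subgroupOf H ≤ M.subgroupOf H := comap_mono (inf_le_left.trans hSM)
  have hmax : ∀ X : Subgroup H, S₀.subgroupOf H ≤ X → X ≠ ⊤ → X ≤ M.subgroupOf H := by
    intro X hX hne
    have h1 : S₀ ≤ X.map H.subtype := by
      rw [← map_subgroupOf_eq_of_le hS₀H]; exact map_mono hX
    have h2 := hover _ h1 (map_subtype_le _) fun h => hne (by
      apply map_injective H.subtype_injective
      rw [h, ← MonoidHom.range_eq_map, range_subtype])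
    exact map_le_iff_le_comap.1 h2
  have hcoat : IsCoatom (M.subgroupOf H) :=
    ⟨hMH, fun X hX => by_contra fun hne => absurd (hmax X (hS₀M.trans hX.le) hne) hX.not_ge⟩
  let φ := MulAut.conj g
  refine ⟨fun hn => hnn ?_, (M.subgroupOf H).map φ.toMonoidHom, ⟨?_, ?_⟩, ?_⟩
  · have h1 : S₀.subgroupOf H = (T : Subgroup H).map φ.symm.toMonoidHom := by
      rw [hTeq, Subgroup.map_map]
      ext u; simp [φ]
    rw [h1]
    exact hn.map _ φ.symm.surjective
  · exact (OrderIso.isCoatom_iff φ.mapSubgroup _).2 hcoat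
  · rw [hTeq]; exact map_mono hS₀M
  · rintro X ⟨hX, hTX⟩
    have h1 : S₀.subgroupOf H ≤ φ.mapSubgroup.symm X := by
      rw [← φ.mapSubgroup.le_symm_apply.symm]
      rw [hTeq] at hTX
      exact hTX
    have h2 : IsCoatom (φ.mapSubgroup.symm X) := (OrderIso.isCoatom_iff φ.mapSubgroup.symm _).2 hX
    have h3 : φ.mapSubgroup.symm X = M.subgroupOf H := by
      rcases h2.le_iff.1 (hmax _ h1 h2.1) with e | e
      · exact absurd e hMH
      · exact e.symm
    rw [← h3]
    exact (φ.mapSubgroup.apply_symm_apply X).symm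

end Cfsg.Agent.S2906
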