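import Cfsg.Statements.S2907
import Cfsg.Agent.Fusion.Extraspecial

set_option autoImplicit false
open Cfsg

namespace Cfsg.Agent.S2907

open scoped commutatorElement

/-- Let X be a finite semi-extraspecial p-group and x an element of X outside the centre. Then the index of C_X(x) in X equals the order of Z(X), and the commutators [x, y], y ∈ X, form exactly the centre Z(X). -/
theorem result {X : Type*} [Group X] [Finite X] {p : ℕ} [Fact p.Prime] (hX : Cfsg.IsSemiExtraspecial p X) (x : X) (hx : x ∉ Subgroup.center X) : (Subgroup.centralizer ({x} : Set X)).index = Nat.card ↥(Subgroup.center X) ∧ {z : X | ∃ y : X, z = x * y * x⁻¹ * y⁻¹} = (Subgroup.center X : Set X) := by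
  obtain ⟨⟨hP, -, hcom⟩, hY⟩ := hX
  have hle : commutator X ≤ Subgroup.center X := hcom.le
  have hp : p.Prime := Fact.out
  let φ : X →* X := MonoidHom.mk' (fun y => ⁅x, y⁆) fun a b =>
    Fusion.commutatorElement_mul_right_of_le_center hle x a b
  have hset : {z : X | ∃ y : X, z = x * y * x⁻¹ * y⁻¹} = (φ.range : Set X) := by
    ext z
    exact ⟨fun ⟨y, hy⟩ => ⟨y, (commutatorElement_def x y).trans hy.symm⟩,
      fun ⟨y, hy⟩ => ⟨y, hy.symm.trans (commutatorElement_def x y)⟩⟩
  have hRZ : φ.range ≤ Subgroup.center X := by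
    rintro _ ⟨y, rfl⟩
    exact hle (Subgroup.commutator_mem_commutator (Subgroup.mem_top _) (Subgroup.mem_top _))
  have hR : φ.range = Subgroup.center X := by
    by_contra hne
    have hlt : φ.range.subgroupOf (Subgroup.center X) ≠ ⊤ := fun h =>
      hne (le_antisymm hRZ (Subgroup.subgroupOf_eq_top.1 h))
    obtain ⟨M, hM, hRM⟩ := (eq_top_or_exists_le_coatom (φ.range.subgroupOf (Subgroup.center X))).resolve_left hlt
    set Y := M.map (Subgroup.center X).subtype with hYdef
    have hYs : Y.subgroupOf (Subgroup.center X) = M := Subgroup.comap_map_eq_self_of_injective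
      (Subgroup.center X).subtype_injective M
    have hYle : Y ≤ Subgroup.center X := Subgroup.map_subtype_le M
    obtain ⟨hn, hE⟩ := hY Y hYle (by rw [hYs]; exact hM)
    haveI := hn
    have hxc : (x : X ⧸ Y) ∈ Subgroup.center (X ⧸ Y) := by
      refine Subgroup.mem_center_iff.2 fun w => ?_
      obtain ⟨y, rfl⟩ := QuotientGroup.mk'_surjective Y w
      refine (commutatorElement_eq_one_iff_mul_comm.1 ?_).symm
      show ⁅QuotientGroup.mk' Y x, QuotientGroup.mk' Y y⁆ = 1
      rw [← map_commutatorElement]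
      refine (QuotientGroup.eq_one_iff _).2 ?_
      exact ⟨⟨φ y, hRZ ⟨y, rfl⟩⟩, hRM (Subgroup.mem_subgroupOf.2 ⟨y, rfl⟩), rfl⟩
    have hmap : (Subgroup.center X).map (QuotientGroup.mk' Y) = Subgroup.center (X ⧸ Y) := by
      have hle' : (Subgroup.center X).map (QuotientGroup.mk' Y) ≤ Subgroup.center (X ⧸ Y) := by
        rintro _ ⟨c, hc, rfl⟩
        refine Subgroup.mem_center_iff.2 fun w => ?_
        obtain ⟨y, rfl⟩ := QuotientGroup.mk'_surjective Y w
        rw [← map_mul, ← map_mul, Subgroup.mem_center_iff.1 hc y]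
      refine Subgroup.eq_of_le_of_card_ge hle' ?_
      rw [hE.2]
      obtain ⟨k, hk⟩ := ((hP.to_quotient Y).to_subgroup
        ((Subgroup.center X).map (QuotientGroup.mk' Y))).exists_card_eq
      rcases k with - | k
      · exfalso
        rw [pow_zero, Subgroup.card_eq_one, Subgroup.map_eq_bot_iff, QuotientGroup.ker_mk'] at hk
        exact hM.1 (by rw [← hYs]; exact Subgroup.subgroupOf_eq_top.2 hk)
      · rw [hk]; exact Nat.le_self_pow (by omega) p
    obtain ⟨c, hc, hcx⟩ := hmap.ge hxc
    refine hx ?_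
    have h1 : c⁻¹ * x ∈ Y := QuotientGroup.eq.1 hcx
    simpa using mul_mem hc (hYle h1)
  refine ⟨?_, by rw [hset, hR]⟩
  have hker : φ.ker = Subgroup.centralizer {x} := by
    ext y
    rw [MonoidHom.mem_ker, Subgroup.mem_centralizer_iff]
    show ⁅x, y⁆ = 1 ↔ _
    rw [commutatorElement_eq_one_iff_mul_comm]
    exact ⟨fun h g hg => by rw [Set.mem_singleton_iff.1 hg]; exact h, fun h => h x rfl⟩
  rw [← hker, Subgroup.index_ker, hR]

end Cfsg.Agent.S2907
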