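import Cfsg.Statements.S2908
import Cfsg.Agent.LocalStructure.ThreeSubgroup
import Cfsg.Agent.LocalStructure.Series


set_option autoImplicit false
open Cfsg

set_option linter.all false

namespace Cfsg.Agent.S2908

/-- Let P be a p-subgroup of a finite group, normalized by a p-subgroup A and by a subgroup B of order prime to p that commutes elementwise with A. If [P, B] ≤ [P, A], then B centralizes P. -/
theorem result {G : Type*} [Group G] [Finite G] {p : ℕ} [Fact p.Prime] (P A B : Subgroup G) (hP : IsPGroup p ↥P) (hA : IsPGroup p ↥A) (hB : ¬ p ∣ Nat.card ↥B) (hnA : A ≤ Subgroup.normalizer (P : Set G)) (hnB : B ≤ Subgroup.normalizer (P : Set G)) (hAB : ⁅A, B⁆ = ⊥) (hcomm : ⁅P, B⁆ ≤ ⁅P, A⁆) : ⁅P, B⁆ = ⊥ := by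
  classical
  set X : Subgroup G := P ⊔ A with hX
  have hXp : IsPGroup p X := hP.to_sup_of_normal_left' hA hnA
  have hBA : B ≤ Subgroup.normalizer (A : Set G) :=
    (Subgroup.le_centralizer_iff.mp (Subgroup.commutator_eq_bot_iff_le_centralizer.mp hAB)).trans
      (Subgroup.centralizer_le_normalizer _)
  have hBX : B ≤ Subgroup.normalizer (X : Set G) := Coprime.le_normalizer_sup hnB hBA
  have hXP : X ≤ Subgroup.normalizer (P : Set G) := sup_le Subgroup.le_normalizer hnA
  set D := fun i => Cfsg.iterCommutator P X i with hD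
  have hDn : ∀ i, X ≤ Subgroup.normalizer (D i : Set G) ∧ B ≤ Subgroup.normalizer (D i : Set G) := by
    intro i
    induction i with
    | zero => exact ⟨hXP, hnB⟩
    | succ i ih => exact ⟨Subgroup.normalizer_commutator_ge_right _ _,
        LocalStructure.le_normalizer_commutator_of_le ih.2 hBX⟩
  have hDle : ∀ i, D (i + 1) ≤ D i := fun i => Coprime.commutator_le_of_le_normalizer (hDn i).1
  have hDP : ∀ i, D i ≤ P := by
    intro i
    induction i with
    | zero => exact le_rfl
    | succ i ih => exact (hDle i).trans ih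
  have hPX : P ≤ X := le_sup_left
  have hPA : ⁅P, A⁆ ≤ D 1 := Subgroup.commutator_mono le_rfl le_sup_right
  have hXB : ⁅X, B⁆ ≤ D 1 := by
    refine LocalStructure.commutator_sup_le (hPX.trans (hDn 1).1) (le_sup_right.trans (hDn 1).1)
      (hDn 1).2 (hcomm.trans hPA) ?_
    rw [hAB]; exact bot_le
  have key : ∀ i, ⁅D i, B⁆ ≤ D (i + 1) := by
    intro i
    induction i with
    | zero => exact hcomm.trans hPA
    | succ i ih =>
      show ⁅⁅D i, X⁆, B⁆ ≤ D (i + 2)
      refine LocalStructure.commutator_commutator_le_of_rotate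
        (((hDP i).trans hPX).trans (hDn _).1) (hDn _).1 (hDn _).2 ?_ ?_
      · refine (Subgroup.commutator_mono hXB le_rfl).trans ?_
        refine LocalStructure.commutator_commutator_le_of_rotate
          (hPX.trans (hDn _).1) (hDn _).1 (((hDP i).trans hPX).trans (hDn _).1) ?_ ?_
        · rw [Subgroup.commutator_comm X (D i)]
          exact Subgroup.commutator_mono le_rfl hPX
        · exact Subgroup.commutator_mono (Subgroup.commutator_mono le_rfl hPX) le_rfl
      · rw [Subgroup.commutator_comm B (D i)]
        exact Subgroup.commutator_mono ih le_rfl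
  obtain ⟨n, hn⟩ := (Subgroup.isNilpotent_iff_lowerCentralSeries (S := X)).mp hXp.isNilpotent
  have hle : ∀ i, D i ≤ X.lowerCentralSeries i := by
    intro i
    induction i with
    | zero => exact hPX
    | succ i ih =>
      rw [Subgroup.lowerCentralSeries_succ]
      exact Subgroup.commutator_mono ih le_rfl
  have hcop : (Nat.card B).Coprime (Nat.card P) := by
    obtain ⟨m, hm⟩ := IsPGroup.iff_card.mp hP
    rw [hm]
    exact (((Fact.out : p.Prime).coprime_iff_not_dvd.mpr hB).symm).pow_right m
  have hsolv : Group.IsSolvable P := by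
    have := hP.isNilpotent
    infer_instance
  have hW : ∀ i, ⁅P, B⁆ ≤ D i := by
    intro i
    induction i with
    | zero => exact Coprime.commutator_le_of_le_normalizer hnB
    | succ i ih =>
      rw [← Coprime.commutator_commutator_eq hnB hcop (Or.inr hsolv)]
      exact (Subgroup.commutator_mono ih le_rfl).trans (key i)
  rw [eq_bot_iff, ← hn]
  exact (hW n).trans (hle n)

end Cfsg.Agent.S2908
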