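import Cfsg.Statements.S2909
import Cfsg.Agent.Coprime.Generation
import Cfsg.Agent.Coprime.Elementary
import Cfsg.Agent.LocalStructure.ThreeSubgroup
import Cfsg.Agent.LocalStructure.WeaklyClosed

set_option autoImplicit false
open Cfsg

set_option linter.all false

namespace Cfsg.Agent.S2909

open Subgroup
open scoped commutatorElement

variable {G : Type*} [Group G] [Finite G] {p : ℕ} [Fact p.Prime]

theorem coprime_of_pgroup {Q E : Subgroup G} (hQ : (Nat.card Q).Coprime p) (hE : IsPGroup p E) :
    (Nat.card Q).Coprime (Nat.card E) := by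
  obtain ⟨n, hn⟩ := IsPGroup.iff_card.mp hE
  rw [hn]; exact hQ.pow_right n

/-- A `p'`-group commuting with `P₀` and moving `E` into `[E, P₀]` acts trivially. -/
theorem le_centralizer_of_commutator_le {E Q P₀ : Subgroup G} [hn : E.Normal] (hE : IsPGroup p E)
    (hP : IsPGroup p P₀) (hQ : (Nat.card Q).Coprime p) (hQP : Q ≤ centralizer (P₀ : Set G))
    (h : ⁅E, Q⁆ ≤ ⁅E, P₀⁆) : Q ≤ centralizer (E : Set G) := by
  have hN : ∀ A : Subgroup G, A ≤ normalizer (E : Set G) := fun A => by
    rw [normalizer_eq_top_iff.mpr hn]; exact le_top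
  set Z := ⁅E, Q⁆ with hZ
  suffices hZb : Z = ⊥ by
    rw [← commutator_eq_bot_iff_le_centralizer, Subgroup.commutator_comm]
    exact hZb
  by_contra hne
  have hP0n : P₀ ≤ normalizer (Q : Set G) :=
    (Subgroup.le_centralizer_iff.mp hQP).trans (Subgroup.centralizer_le_normalizer _)
  have hQP0 : Q ≤ normalizer (P₀ : Set G) := hQP.trans (Subgroup.centralizer_le_normalizer _)
  have hZE : Z ≤ E := Coprime.commutator_le_of_le_normalizer (hN Q)
  have hEZ : E ≤ normalizer (Z : Set G) := Subgroup.normalizer_commutator_ge_left E Q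
  have hQZ : Q ≤ normalizer (Z : Set G) := Subgroup.normalizer_commutator_ge_right E Q
  have hPZ : P₀ ≤ normalizer (Z : Set G) := LocalStructure.le_normalizer_commutator_of_le (hN P₀) hP0n
  have hPE : IsPGroup p (E ⊔ P₀ : Subgroup G) := hE.to_sup_of_normal_left' hP (hN P₀)
  have hlt := Coprime.commutator_lt_of_isPGroup hPE (hE.to_le hZE) (sup_le hEZ hPZ) hne
  set N := ⁅Z, E ⊔ P₀⁆ with hNdef
  have hQEP : Q ≤ normalizer ((E ⊔ P₀ : Subgroup G) : Set G) := fun q hq => by
    rw [← LocalStructure.cmap_eq_iff, LocalStructure.cmap, Subgroup.map_sup]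
    show LocalStructure.cmap q E ⊔ LocalStructure.cmap q P₀ = _
    rw [LocalStructure.cmap_eq_iff.mpr (hN Q hq), LocalStructure.cmap_eq_iff.mpr (hQP0 hq)]
  have h1 : E ≤ normalizer (N : Set G) :=
    LocalStructure.le_normalizer_commutator_of_le hEZ (le_sup_left.trans Subgroup.le_normalizer)
  have h2 : P₀ ≤ normalizer (N : Set G) :=
    LocalStructure.le_normalizer_commutator_of_le hPZ (le_sup_right.trans Subgroup.le_normalizer)
  have h3 : Q ≤ normalizer (N : Set G) := LocalStructure.le_normalizer_commutator_of_le hQZ hQEP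
  have key : ⁅⁅E, P₀⁆, Q⁆ ≤ N := by
    refine LocalStructure.commutator_commutator_le_of_rotate h1 h2 h3 ?_ ?_
    · rw [show ⁅P₀, Q⁆ = ⊥ by rw [Subgroup.commutator_comm]; exact commutator_eq_bot_iff_le_centralizer.mpr hQP,
        Subgroup.commutator_bot_left]
      exact bot_le
    · rw [Subgroup.commutator_comm Q E]
      exact commutator_mono le_rfl le_sup_right
  refine hlt.not_ge ?_
  calc Z = ⁅Z, Q⁆ := (Coprime.commutator_commutator_eq (hN Q) (coprime_of_pgroup hQ hE)
        (Or.inr (by have := hE.isNilpotent; infer_instance))).symm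
    _ ≤ ⁅⁅E, P₀⁆, Q⁆ := commutator_mono h le_rfl
    _ ≤ N := key

/-- Let p be a prime, E a normal p-subgroup of the finite group G, and U a non-cyclic elementary abelian p-subgroup of G such that either C_E(U) = C_E(u) for every nontrivial u ∈ U, or [E, U] = [E, ⟨u⟩] for every nontrivial u ∈ U. If R is a subgroup of order prime to p normalized by U, then [R, U] centralizes E. -/
theorem result {G : Type*} [Group G] [Finite G] {p : ℕ} [Fact p.Prime] (E : Subgroup G) [E.Normal] (hE : IsPGroup p ↥E) (U : Subgroup G) (hU : Cfsg.IsElementaryAbelian p U) (hnc : ¬ IsCyclic ↥U) (hcond : (∀ u ∈ U, u ≠ 1 → E ⊓ Subgroup.centralizer (U : Set G) = E ⊓ Subgroup.centralizer ({u} : Set G)) ∨ (∀ u ∈ U, u ≠ 1 → ⁅E, U⁆ = ⁅E, Subgroup.zpowers u⁆)) (R : Subgroup G) (hR : ¬ p ∣ Nat.card ↥R) (hRU : U ≤ Subgroup.normalizer (R : Set G)) : ⁅R, U⁆ ≤ Subgroup.centralizer (E : Set G) := by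
  have : IsMulCommutative ↥U := hU.1
  have hUp : IsPGroup p ↥U := Coprime.ea_isPGroup hU
  have hcop : (Nat.card R).Coprime p := ((Fact.out : p.Prime).coprime_iff_not_dvd.mpr hR).symm
  have hnE : ∀ A : Subgroup G, A ≤ Subgroup.normalizer (E : Set G) := fun A => by
    rw [Subgroup.normalizer_eq_top_iff.mpr (inferInstance : E.Normal)]; exact le_top
  set C := Subgroup.centralizer (E : Set G) with hC
  have : C.Normal := inferInstance
  have step : ∀ u ∈ U, u ≠ 1 → ⁅R ⊓ Subgroup.centralizer ({u} : Set G), U⁆ ≤ C := by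
    intro u hu hu1
    set R₁ := R ⊓ Subgroup.centralizer ({u} : Set G) with hR₁
    have hcu : Subgroup.centralizer ({u} : Set G) = Subgroup.centralizer ((Subgroup.zpowers u : Subgroup G) : Set G) := by
      rw [Subgroup.zpowers_eq_closure, Subgroup.centralizer_closure]
    have hUu : U ≤ Subgroup.centralizer ({u} : Set G) := Coprime.ea_le_centralizer_singleton hU hu
    have hUR : U ≤ Subgroup.normalizer (R₁ : Set G) := fun x hx =>
      LocalStructure.cmap_eq_iff.mp (by
        rw [LocalStructure.cmap, hR₁, Subgroup.map_inf _ _ _ (MulAut.conj x).injective]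
        show LocalStructure.cmap x R ⊓ LocalStructure.cmap x _ = _
        rw [LocalStructure.cmap_eq_iff.mpr (hRU hx), LocalStructure.cmap_eq_self_of_mem (hUu hx)])
    set Q := ⁅R₁, U⁆ with hQ
    have hQR : Q ≤ R₁ := Coprime.commutator_le_of_le_normalizer hUR
    have hQc : (Nat.card Q).Coprime p := hcop.coprime_dvd_left (Subgroup.card_dvd_of_le (hQR.trans inf_le_left))
    have hQP : Q ≤ Subgroup.centralizer ((Subgroup.zpowers u : Subgroup G) : Set G) := hcu ▸ hQR.trans inf_le_right
    rcases hcond with hcond | hcond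
    · set W := E ⊓ Subgroup.centralizer (U : Set G) with hW
      have hWu : W = E ⊓ Subgroup.centralizer ((Subgroup.zpowers u : Subgroup G) : Set G) := by
        rw [← hcu]; exact hcond u hu hu1
      have h1 : ⁅⁅U, W⁆, R₁⁆ = ⊥ := by
        rw [show ⁅U, W⁆ = ⊥ by
          rw [Subgroup.commutator_comm]; exact Subgroup.commutator_eq_bot_iff_le_centralizer.mpr inf_le_right,
          Subgroup.commutator_bot_left]
      have h2 : ⁅⁅W, R₁⁆, U⁆ = ⊥ := by
        have hR₁W : R₁ ≤ Subgroup.normalizer (W : Set G) := fun x hx =>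
          LocalStructure.cmap_eq_iff.mp (by
            rw [LocalStructure.cmap, hWu, Subgroup.map_inf _ _ _ (MulAut.conj x).injective]
            show LocalStructure.cmap x E ⊓ LocalStructure.cmap x _ = _
            rw [LocalStructure.cmap_eq_iff.mpr (hnE R₁ hx), LocalStructure.cmap_eq_self_of_mem (hcu ▸ hx.2)])
        exact eq_bot_iff.mpr ((Subgroup.commutator_mono (Coprime.commutator_le_of_le_normalizer hR₁W) le_rfl).trans
          (Subgroup.commutator_eq_bot_iff_le_centralizer.mpr inf_le_right).le)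
      have h3 : Q ≤ Subgroup.centralizer (W : Set G) :=
        Subgroup.commutator_eq_bot_iff_le_centralizer.mp (Subgroup.commutator_commutator_eq_bot_of_rotate h1 h2)
      refine Coprime.thompson_pxq (hUp.to_le (Subgroup.zpowers_le.mpr hu)) hQc hE
        (Subgroup.le_centralizer_iff.mp hQP) (hnE _) (hnE _) ?_
      rw [← hWu]
      exact Subgroup.le_centralizer_iff.mp h3
    · refine le_centralizer_of_commutator_le hE (hUp.to_le (Subgroup.zpowers_le.mpr hu)) hQc hQP ?_
      rw [← hcond u hu hu1, Subgroup.commutator_comm E Q]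
      have hR₁N : R₁ ≤ Subgroup.normalizer ((⁅E, U⁆ : Subgroup G) : Set G) := by
        intro x hx
        have hh := hcond u hu hu1
        rw [hh]
        exact LocalStructure.le_normalizer_commutator_of_le (hnE R₁)
          ((hcu ▸ inf_le_right : R₁ ≤ Subgroup.centralizer ((Subgroup.zpowers u : Subgroup G) : Set G)).trans
            (Subgroup.centralizer_le_normalizer _)) hx
      refine LocalStructure.commutator_commutator_le_of_rotate hR₁N
        (Subgroup.normalizer_commutator_ge_right E U) (Subgroup.normalizer_commutator_ge_left E U) ?_ ?_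
      · rw [Subgroup.commutator_comm U E]
        exact Coprime.commutator_le_of_le_normalizer hR₁N
      · exact Subgroup.commutator_mono (Coprime.commutator_le_of_le_normalizer (hnE R₁)) le_rfl
  rw [← Coprime.iSup_centralizer_eq hnc hRU (coprime_of_pgroup hcop hUp).symm, Subgroup.commutator_le]
  intro r hr x hx
  have hr' : (QuotientGroup.mk' C) r ∈ Subgroup.centralizer ((U.map (QuotientGroup.mk' C)) : Set (G ⧸ C)) := by
    suffices hle : (⨆ a ∈ {a : G | a ∈ U ∧ a ≠ 1}, R ⊓ Subgroup.centralizer ({a} : Set G)) ≤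
        (Subgroup.centralizer ((U.map (QuotientGroup.mk' C)) : Set (G ⧸ C))).comap (QuotientGroup.mk' C) from hle hr
    refine iSup₂_le fun u hu => Subgroup.map_le_iff_le_comap.mp (Subgroup.commutator_eq_bot_iff_le_centralizer.mp ?_)
    rw [← Subgroup.map_commutator, Subgroup.map_eq_bot_iff, QuotientGroup.ker_mk']
    exact step u hu.1 hu.2
  rw [← QuotientGroup.eq_one_iff]
  show (QuotientGroup.mk' C) ⁅r, x⁆ = 1
  rw [map_commutatorElement, commutatorElement_eq_one_iff_mul_comm]
  exact (Subgroup.mem_centralizer_iff.mp hr' _ ⟨x, hx, rfl⟩).symm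

end Cfsg.Agent.S2909
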