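import Cfsg.Statements.S2910
import Cfsg.Agent.Fusion.Control
import Cfsg.Agent.LocalStructure.OmegaAction

set_option autoImplicit false
open Cfsg

set_option linter.all false

namespace Cfsg.Agent.S2910

/-- Let p be an odd prime dividing the order of the finite group G and P a Sylow p-subgroup of G. If Ω₁(P) (generated by the elements of order dividing p) is contained in the centre of G, then G has a normal p-complement. In particular, if G is quasisimple then Ω₁(P) is not central in G. -/
theorem result {G : Type*} [Group G] [Finite G] {p : ℕ} [Fact p.Prime] (hp : p ≠ 2) (hdiv : p ∣ Nat.card G) (P : Sylow p G) (hZ : Cfsg.omegaOne p (P : Subgroup G) ≤ Subgroup.center G) : Cfsg.HasNormalPComplement p G ∧ ¬ Cfsg.IsQuasisimple G := by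
  have hc : Cfsg.HasNormalPComplement p G := by
    refine Fusion.hasNormalPComplement_of_frobenius_sylow P fun Q hQ g hg hgo => ?_
    have h := LocalStructure.le_centralizer_of_fixes_omega hp (A := Subgroup.zpowers g) (P.isPGroup'.to_le hQ)
      (Subgroup.zpowers_le.mpr hg) (by rw [Nat.card_zpowers]; exact hgo) fun v hv hvp a _ =>
        Subgroup.mem_center_iff.mp (hZ (Subgroup.subset_closure ⟨hQ hv, hvp⟩)) a
    exact h (Subgroup.mem_zpowers g)
  refine ⟨hc, fun hq => ?_⟩
  obtain ⟨N, hN, hcop, k, hk⟩ := Fusion.hasNormalPComplement_iff_exists.mp hc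
  have hQp : IsPGroup p (G ⧸ N) := IsPGroup.of_card (n := k) (by rw [← Subgroup.index_eq_card, hk])
  have hne : N ≠ ⊤ := fun e => by
    rw [e, Subgroup.card_top] at hcop
    exact ((Fact.out : p.Prime).coprime_iff_not_dvd.mp hcop.symm) hdiv
  have : Nontrivial (G ⧸ N) := QuotientGroup.nontrivial_iff.mpr hne
  have := hQp.isNilpotent
  have h1 : commutator (G ⧸ N) < ⊤ := Group.IsSolvable.commutator_lt_top_of_nontrivial (G ⧸ N)
  refine h1.ne ?_
  rw [commutator_def, ← Subgroup.map_top_of_surjective _ (QuotientGroup.mk'_surjective N), ← Subgroup.map_commutator,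
    ← commutator_def]
  exact congrArg _ hq.1.commutator_eq_top

end Cfsg.Agent.S2910
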