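import Cfsg.Statements.S2911
import Cfsg.Agent.TwoTransfer.Basic
import Cfsg.Agent.LocalStructure.FunctorFamily

set_option autoImplicit false
open Cfsg

set_option linter.all false

namespace Cfsg.Agent.S2911

abbrev D := Multiplicative (ZMod 2) × DihedralGroup 4

def zc : D := (1, DihedralGroup.r 2)
def cc : D := (Multiplicative.ofAdd 1, 1)

def chi (ε δ : ZMod 2) : D → ZMod 2 := fun x =>
  x.1.toAdd + (match x.2 with
    | DihedralGroup.r i => (i.val : ZMod 2) * ε
    | DihedralGroup.sr i => δ + (i.val : ZMod 2) * ε)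

theorem chi_mul : ∀ ε δ : ZMod 2, ∀ x y : D, chi ε δ (x * y) = chi ε δ x + chi ε δ y := by decide

theorem chi_one : ∀ ε δ : ZMod 2, chi ε δ 1 = 0 := by decide

def kerChi (ε δ : ZMod 2) : Subgroup D where
  carrier := {x | chi ε δ x = 0}
  one_mem' := chi_one ε δ
  mul_mem' := fun {a b} ha hb => by
    show chi ε δ (a * b) = 0
    rw [chi_mul, show chi ε δ a = 0 from ha, show chi ε δ b = 0 from hb, add_zero]
  inv_mem' := fun {a} ha => by
    show chi ε δ a⁻¹ = 0
    have h := chi_mul ε δ a a⁻¹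
    rw [mul_inv_cancel, show chi ε δ a = 0 from ha, zero_add] at h
    rw [← h, chi_one]

set_option synthInstance.maxSize 4000 in
theorem involution_cases : ∀ ε δ : ZMod 2, ∀ x : D, x * x = 1 → chi ε δ x = 0 →
    x = 1 ∨ x = zc ∨ (x = (Multiplicative.ofAdd δ, DihedralGroup.sr 0) ∨ x = (Multiplicative.ofAdd δ, DihedralGroup.sr 0) * zc) ∨
      (x = (Multiplicative.ofAdd (δ + ε), DihedralGroup.sr 1) ∨ x = (Multiplicative.ofAdd (δ + ε), DihedralGroup.sr 1) * zc) := by
  decide

theorem noncentral_cases : ∀ x : D, x * x = 1 → x = 1 ∨ x = zc ∨ x = cc ∨ x = cc * zc ∨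
    ∃ a : ZMod 2, (x = (Multiplicative.ofAdd a, DihedralGroup.sr 0) ∨ x = (Multiplicative.ofAdd a, DihedralGroup.sr 0) * zc) ∨
      (x = (Multiplicative.ofAdd a, DihedralGroup.sr 1) ∨ x = (Multiplicative.ofAdd a, DihedralGroup.sr 1) * zc) := by
  decide

theorem pair_conj : ∀ a : ZMod 2, ∀ i : ZMod 4, ∃ u : D, u * (Multiplicative.ofAdd a, DihedralGroup.sr i) * u⁻¹ =
    (Multiplicative.ofAdd a, DihedralGroup.sr i) * zc := by decide

theorem sq_cases : ∀ x : D, x * x = 1 ∨ x * x = zc := by decide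

theorem central : ∀ x : D, zc * x = x * zc ∧ cc * x = x * cc := by decide

theorem center_cases : ∀ x : D, (∀ y : D, x * y = y * x) → x = 1 ∨ x = zc ∨ x = cc ∨ x = cc * zc := by decide

variable {G : Type*} [Group G] [Finite G]

/-- A finite group whose Sylow 2-subgroups are isomorphic to the direct product of a group of order 2 and a dihedral group of order 8 has a subgroup of index two. -/
theorem result {G : Type*} [Group G] [Finite G] (S : Sylow 2 G) (hS : Nonempty (↥(S : Subgroup G) ≃* Multiplicative (ZMod 2) × DihedralGroup 4)) : ∃ H : Subgroup G, H.index = 2 := by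
  obtain ⟨e⟩ := hS
  by_contra hnone
  push Not at hnone
  set f : D →* G := (S : Subgroup G).subtype.comp e.symm.toMonoidHom with hf
  have hfS : ∀ x, f x ∈ (S : Subgroup G) := fun x => (e.symm x).2
  have hfi : Function.Injective f := (Subgroup.subtype_injective _).comp e.symm.injective
  have hfsurj : ∀ s ∈ (S : Subgroup G), ∃ x, f x = s := fun s hs => ⟨e ⟨s, hs⟩, by simp [hf]⟩
  have hfc : ∀ x : D, (∀ y, x * y = y * x) → f x ∈ Subgroup.centralizer ((S : Subgroup G) : Set G) := fun x hx => by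
    rw [Subgroup.mem_centralizer_iff]
    intro s hs
    obtain ⟨y, rfl⟩ := hfsurj s hs
    rw [← map_mul, ← map_mul, hx y]
  have hcc : ∀ y : D, (cc * zc) * y = y * (cc * zc) := fun y => by
    rw [mul_assoc, (central y).1, ← mul_assoc, (central y).2, mul_assoc]
  -- the normalizer fixes the central involutions
  have hNz : ∀ g ∈ Subgroup.normalizer ((S : Subgroup G) : Set G), g * f zc * g⁻¹ = f zc := by
    intro g hg
    obtain ⟨x, hx⟩ := hfsurj _ ((Subgroup.mem_normalizer_iff.mp hg _).mp (hfS (DihedralGroup.r 1 |> fun r => ((1 : Multiplicative (ZMod 2)), r))))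
    have hz : f zc = f ((1 : Multiplicative (ZMod 2)), DihedralGroup.r 1) * f ((1 : Multiplicative (ZMod 2)), DihedralGroup.r 1) := by
      rw [← map_mul]; congr 1
    have h1 : f (x * x) = g * f zc * g⁻¹ := by rw [map_mul, hx, hz]; group
    rcases sq_cases x with h | h
    · exfalso
      rw [h, map_one] at h1
      have : f zc = 1 := by
        have h2 := congrArg (fun w => g⁻¹ * w * g) h1.symm
        simpa [mul_assoc] using h2
      exact absurd (hfi (this.trans f.map_one.symm)) (by decide)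
    · rw [← h1, h]
  have hburn : ∀ x y : D, (∀ u, x * u = u * x) → (∀ u, y * u = u * y) → IsConj (f x) (f y) →
      ∃ n ∈ Subgroup.normalizer ((S : Subgroup G) : Set G), n * f x * n⁻¹ = f y := by
    intro x y hx hy h
    obtain ⟨g, hg⟩ := isConj_iff.mp h
    obtain ⟨n, hn, hn'⟩ := S.conj_eq_normalizer_conj_of_mem_centralizer (f x) g⁻¹ (hfc x hx)
      (by rw [inv_inv, hg]; exact hfc y hy)
    exact ⟨n⁻¹, inv_mem hn, by rw [inv_inv, ← hn', inv_inv, hg]⟩
  have n_c_z : ¬ IsConj (f cc) (f zc) := fun h => by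
    obtain ⟨n, hn, hn'⟩ := hburn cc zc (fun u => (central u).2) (fun u => (central u).1) h
    have e1 : f zc = f cc := mul_left_cancel (mul_right_cancel ((hNz n hn).trans hn'.symm))
    exact absurd (hfi e1) (by decide)
  have n_cz_z : ¬ IsConj (f (cc * zc)) (f zc) := fun h => by
    obtain ⟨n, hn, hn'⟩ := hburn (cc * zc) zc hcc (fun u => (central u).1) h
    have e1 : f zc = f (cc * zc) := mul_left_cancel (mul_right_cancel ((hNz n hn).trans hn'.symm))
    exact absurd (hfi e1) (by decide)
  have n_c_cz : ¬ IsConj (f cc) (f (cc * zc)) := fun h => by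
    obtain ⟨n, hn, hn'⟩ := hburn cc (cc * zc) (fun u => (central u).2) hcc h
    have hn2 : n * f (cc * zc) * n⁻¹ = f cc := by
      calc n * f (cc * zc) * n⁻¹ = (n * f cc * n⁻¹) * (n * f zc * n⁻¹) := by rw [map_mul]; group
        _ = f (cc * zc) * f zc := by rw [hn', hNz n hn]
        _ = f cc := by rw [← map_mul]; congr 1
    set N := Subgroup.normalizer ((S : Subgroup G) : Set G) with hN
    have : ((S : Subgroup G).subgroupOf N).Normal := Subgroup.normal_subgroupOf_of_le_normalizer le_rfl
    set m := ((S : Subgroup G).subgroupOf N).index with hm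
    have hodd : ¬ 2 ∣ m := fun h2 => S.not_dvd_index (h2.trans (Subgroup.relIndex_dvd_index_of_le Subgroup.le_normalizer))
    have hmem : n ^ m ∈ (S : Subgroup G) := Subgroup.pow_index_mem (H := (S : Subgroup G).subgroupOf N) ⟨n, hn⟩
    have hpow : ∀ k : ℕ, n ^ k * f cc * (n ^ k)⁻¹ = if Even k then f cc else f (cc * zc) := by
      intro k
      induction k with
      | zero => simp
      | succ k ih =>
        rw [pow_succ', show n * n ^ k * f cc * (n * n ^ k)⁻¹ = n * (n ^ k * f cc * (n ^ k)⁻¹) * n⁻¹ by group, ih]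
        by_cases hk : Even k
        · rw [if_pos hk, if_neg (by simp [Nat.even_add_one, hk]), hn']
        · rw [if_neg hk, if_pos (by simp [Nat.even_add_one, hk]), hn2]
    have h1 := hpow m
    rw [if_neg (fun he => hodd he.two_dvd),
      (Subgroup.mem_centralizer_iff.mp (hfc cc fun u => (central u).2) _ hmem), mul_inv_cancel_right] at h1
    exact absurd (hfi h1) (by decide)
  have hpair : ∀ (a : ZMod 2) (i : ZMod 4) (x : D),
      (x = (Multiplicative.ofAdd a, DihedralGroup.sr i) ∨ x = (Multiplicative.ofAdd a, DihedralGroup.sr i) * zc) →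
      IsConj (f (Multiplicative.ofAdd a, DihedralGroup.sr i)) (f x) := by
    rintro a i x (rfl | rfl)
    · exact IsConj.refl _
    · obtain ⟨u, hu⟩ := pair_conj a i
      exact isConj_iff.mpr ⟨f u, by rw [← map_inv, ← map_mul, ← map_mul, hu]⟩
  -- Thompson's transfer lemma
  have htr : ∀ v : D, v * v = 1 → (∀ u, v * u = u * v) → v ≠ 1 → ∀ ε δ : ZMod 2, chi ε δ v ≠ 0 →
      ∃ y : D, y * y = 1 ∧ y ≠ 1 ∧ chi ε δ y = 0 ∧ IsConj (f v) (f y) := by
    intro v hv _ hv1 ε δ hχ
    by_contra hno
    have hM : ((kerChi ε δ).map f).relIndex (S : Subgroup G) = 2 := by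
      have e0 : (S : Subgroup G) = (⊤ : Subgroup D).map f :=
        le_antisymm (fun s hs => by obtain ⟨x, hx⟩ := hfsurj s hs; exact ⟨x, Subgroup.mem_top _, hx⟩)
          (by rintro _ ⟨x, -, rfl⟩; exact hfS x)
      rw [e0, Subgroup.relIndex_map_map_of_injective _ _ hfi, Subgroup.relIndex_top_right]
      refine Subgroup.index_eq_two_iff.mpr ⟨v, fun b => ?_⟩
      have h2 : ∀ a : ZMod 2, a = 0 ∨ a = 1 := by decide
      have h3 : chi ε δ v = 1 := (h2 _).resolve_left hχ
      show Xor' (chi ε δ (b * v) = 0) (chi ε δ b = 0)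
      rw [chi_mul, h3]
      rcases h2 (chi ε δ b) with hb | hb <;> rw [hb] <;> simp [Xor']
      decide
    have hvsq : ∀ k : ℕ, 1 ≤ k → f v ^ (2 ^ k) = 1 := fun k hk => by
      obtain ⟨j, rfl⟩ : ∃ j, k = j + 1 := ⟨k - 1, by omega⟩
      rw [pow_succ', pow_mul, sq, ← map_mul, hv, map_one, one_pow]
    obtain ⟨N, -, hN2, -⟩ := TwoTransfer.exists_index_two S ((kerChi ε δ).map f) hM (f v) (hfS v)
      (fun k g hk _ => by rw [hvsq k hk, mul_one, inv_mul_cancel]; exact one_mem _)
      (fun g _ hgM => by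
        obtain ⟨y, hy, hyg⟩ := hgM
        refine hno ⟨y, ?_, ?_, hy, isConj_iff.mpr ⟨g⁻¹, by rw [inv_inv, hyg]⟩⟩
        · apply hfi
          rw [map_mul, hyg, map_one]
          calc g⁻¹ * f v * g * (g⁻¹ * f v * g) = g⁻¹ * (f v * f v) * g := by group
            _ = 1 := by rw [← map_mul, hv, map_one, mul_one, inv_mul_cancel]
        · rintro rfl
          rw [map_one] at hyg
          have h2 := congrArg (fun w => g * w * g⁻¹) hyg.symm
          exact hv1 (hfi (by simpa [mul_assoc] using h2)))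
    exact hnone N hN2
  let A : ZMod 2 → ZMod 4 → D → Prop := fun a i v => IsConj (f v) (f (Multiplicative.ofAdd a, DihedralGroup.sr i))
  have hchoice : ∀ v : D, v * v = 1 → (∀ u, v * u = u * v) → v ≠ 1 → ¬ IsConj (f v) (f zc) →
      (∀ ε δ : ZMod 2, chi ε δ v ≠ 0) → ∀ a b : ZMod 2, A a 0 v ∨ A b 1 v := by
    intro v hv hvc hv1 hvz hχ a b
    obtain ⟨y, hy, hy1, hy0, hconj⟩ := htr v hv hvc hv1 (b - a) a (hχ _ _)
    rcases involution_cases (b - a) a y hy hy0 with h | h | h | h
    · exact absurd h hy1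
    · exact absurd (h ▸ hconj) hvz
    · exact Or.inl (hconj.trans (hpair _ _ _ h).symm)
    · rw [show a + (b - a) = b by ring] at h
      exact Or.inr (hconj.trans (hpair _ _ _ h).symm)
  have hc := hchoice cc (by decide) (fun u => (central u).2) (by decide) n_c_z (by decide)
  have hd := hchoice (cc * zc) (by decide) hcc (by decide) n_cz_z (by decide)
  have excl : ∀ a i, A a i cc → A a i (cc * zc) → False := fun a i h h' => n_c_cz (h.trans h'.symm)
  -- every noncentral involution is conjugate to one of the two, and so `zc` is weakly closed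
  have hall : ∀ a : ZMod 2, ∀ i : ZMod 4, (i = 0 ∨ i = 1) → A a i cc ∨ A a i (cc * zc) := by
    rintro a i (rfl | rfl)
    · by_contra hn
      push Not at hn
      rcases hd a 0 with h | h
      · exact hn.2 h
      · exact excl 0 1 ((hc a 0).resolve_left hn.1) h
    · by_contra hn
      push Not at hn
      rcases hd 0 a with h | h
      · exact excl 0 0 ((hc 0 a).resolve_right hn.1) h
      · exact hn.2 h
  have hweak : ∀ x : D, x * x = 1 → IsConj (f zc) (f x) → x = zc := by
    intro x hx hconj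
    rcases noncentral_cases x hx with h | h | h | h | ⟨a, h⟩
    · subst h
      rw [map_one] at hconj
      exact absurd (hfi ((isConj_one_left.mp hconj).trans f.map_one.symm)) (by decide)
    · exact h
    · exact absurd (h ▸ hconj).symm n_c_z
    · exact absurd (h ▸ hconj).symm n_cz_z
    · exfalso
      rcases h with h | h
      · have := hconj.trans (hpair a 0 x h).symm
        rcases hall a 0 (Or.inl rfl) with k | k
        · exact n_c_z (k.trans this.symm)
        · exact n_cz_z (k.trans this.symm)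
      · have := hconj.trans (hpair a 1 x h).symm
        rcases hall a 1 (Or.inr rfl) with k | k
        · exact n_c_z (k.trans this.symm)
        · exact n_cz_z (k.trans this.symm)
  -- a noncentral conjugate of `cc` now gives a contradiction
  obtain ⟨a, i, hA⟩ : ∃ a i, A a i cc := by
    rcases hc 0 0 with h | h
    exacts [⟨_, _, h⟩, ⟨_, _, h⟩]
  set t : D := (Multiplicative.ofAdd a, DihedralGroup.sr i) with ht
  obtain ⟨g, hg⟩ := isConj_iff.mp hA.symm
  set Cc := Subgroup.centralizer ({f cc} : Set G) with hCc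
  have hSC : (S : Subgroup G) ≤ Cc := fun s hs =>
    Subgroup.mem_centralizer_singleton_iff.mpr (Subgroup.mem_centralizer_iff.mp (hfc cc fun u => (central u).2) s hs)
  set E := LocalStructure.cmap g ((S : Subgroup G) ⊓ Subgroup.centralizer ({f t} : Set G)) with hE
  have hEC : E ≤ Cc := by
    rintro _ ⟨s, hs, rfl⟩
    refine Subgroup.mem_centralizer_singleton_iff.mpr ?_
    have := Subgroup.mem_centralizer_singleton_iff.mp hs.2
    show g * s * g⁻¹ * f cc = f cc * (g * s * g⁻¹)
    rw [← hg]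
    calc g * s * g⁻¹ * (g * f t * g⁻¹) = g * (s * f t) * g⁻¹ := by group
      _ = g * (f t * s) * g⁻¹ := by rw [this]
      _ = g * f t * g⁻¹ * (g * s * g⁻¹) := by group
  obtain ⟨U, hU⟩ := (((S.isPGroup'.to_le inf_le_left).map _).of_equiv (Subgroup.subgroupOfEquivOfLe hEC).symm : IsPGroup 2 (E.subgroupOf Cc)).exists_le_sylow
  obtain ⟨k, hk⟩ := MulAction.exists_smul_eq Cc U (S.subtype hSC)
  have hES : ∀ s ∈ E, (k : G) * s * (k : G)⁻¹ ∈ (S : Subgroup G) := fun s hs => by
    have h1 : k * (⟨s, hEC hs⟩ : Cc) * k⁻¹ ∈ ((k • U : Sylow 2 Cc) : Subgroup Cc) := by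
      rw [Sylow.coe_subgroup_smul]
      exact Subgroup.smul_mem_pointwise_smul _ (MulAut.conj k) _ (hU hs)
    rw [hk, Sylow.coe_subtype] at h1
    exact h1
  have hmemE : ∀ u : D, u * t = t * u → ((k : G) * g) * f u * ((k : G) * g)⁻¹ ∈ (S : Subgroup G) := fun u hu => by
    have := hES (g * f u * g⁻¹) ⟨f u, ⟨hfS u, Subgroup.mem_centralizer_singleton_iff.mpr (by rw [← map_mul, ← map_mul, hu])⟩, rfl⟩
    simpa [mul_assoc] using this
  set h := (k : G) * g with hh
  have hct : h * f t * h⁻¹ = f cc := by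
    have := Subgroup.mem_centralizer_singleton_iff.mp k.2
    calc h * f t * h⁻¹ = (k : G) * (g * f t * g⁻¹) * (k : G)⁻¹ := by rw [hh]; group
      _ = f cc := by rw [hg, this, mul_inv_cancel_right]
  obtain ⟨y, hy⟩ := hfsurj _ (hmemE zc (central t).1)
  have hyz : y = zc := hweak y (by
    apply hfi
    rw [map_mul, hy, map_one]
    calc h * f zc * h⁻¹ * (h * f zc * h⁻¹) = h * (f zc * f zc) * h⁻¹ := by group
      _ = 1 := by rw [← map_mul, show zc * zc = 1 by decide, map_one, mul_one, mul_inv_cancel])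
    (isConj_iff.mpr ⟨h, hy.symm⟩)
  refine n_c_cz ?_
  obtain ⟨u, hu⟩ := pair_conj a i
  refine (hA.trans (isConj_iff.mpr ⟨f u, by rw [← map_inv, ← map_mul, ← map_mul, hu]⟩)).trans (isConj_iff.mpr ⟨h, ?_⟩)
  rw [map_mul, map_mul]
  calc h * (f t * f zc) * h⁻¹ = (h * f t * h⁻¹) * (h * f zc * h⁻¹) := by group
    _ = f cc * f zc := by rw [hct, ← hy, hyz]

end Cfsg.Agent.S2911
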