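import Cfsg.Statements.S2912
import Cfsg.Agent.Fusion.Extraspecial
import Cfsg.Agent.Coprime.Basic
import Cfsg.Agent.Thompson.Basic

set_option autoImplicit false
open Cfsg

set_option linter.all false

namespace Cfsg.Agent.S2912

open Subgroup
open scoped commutatorElement IsMulCommutative
open Cfsg.Agent

/-- Counting by linear independence of the operators of the central quotient. -/
theorem module_bound {X : Type*} [Group X] [Finite X] {p r : ℕ} [hp : Fact p.Prime] [hr : Fact r.Prime]
    (hpr : p ≠ r) (w : ℕ) (hX : Cfsg.IsExtraspecial p X) (hcard : Nat.card X = p ^ (2 * w + 1))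
    (n : ℕ) (hmin : ∀ k : ℕ, 1 ≤ k → p ∣ r ^ k - 1 → n ≤ k)
    {U : Type*} [AddCommGroup U] [Finite U] [Nontrivial U] (hU : ∀ u : U, r • u = 0)
    (ρ : X →* AddMonoid.End U) (hfpf : ∀ z ∈ center X, z ≠ 1 → ∀ u : U, ρ z u = u → u = 0)
    (hirr : ∀ W : AddSubgroup U, (∀ x, ∀ u ∈ W, ρ x u ∈ W) → W = ⊥ ∨ W = ⊤) :
    r ^ (n * p ^ w) ≤ Nat.card U := by
  classical
  set Rc : Subring (AddMonoid.End U) := Subring.closure (ρ '' (center X : Set X)) with hRc
  have hcommX : ∀ a ∈ Rc, ∀ x, a * ρ x = ρ x * a := by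
    intro a ha x
    induction ha using Subring.closure_induction with
    | mem a ha =>
      obtain ⟨c, hc, rfl⟩ := ha
      rw [← map_mul, ← map_mul, (Subgroup.mem_center_iff.1 hc x)]
    | zero => simp
    | one => simp
    | add a b _ _ ha hb => rw [add_mul, mul_add, ha, hb]
    | neg a _ ha => rw [neg_mul, mul_neg, ha]
    | mul a b _ _ ha hb => rw [mul_assoc, hb, ← mul_assoc, ha, mul_assoc]
  have hgen : ∀ a ∈ ρ '' (center X : Set X), ∀ b ∈ ρ '' (center X : Set X), a * b = b * a := by
    rintro _ ⟨a, ha, rfl⟩ _ ⟨b, hb, rfl⟩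
    rw [← map_mul, ← map_mul, Subgroup.mem_center_iff.1 hb a]
  letI hKring : CommRing Rc := Subring.closureCommRingOfComm hgen
  have hinj : ∀ a : Rc, a ≠ 0 → Function.Injective (a.1 : AddMonoid.End U) := by
    intro a ha
    let W : AddSubgroup U := AddMonoidHom.ker (a.1 : U →+ U)
    rcases hirr W (fun x u hu => by
      show (a.1 * ρ x) u = 0
      rw [hcommX a.1 a.2 x]
      show ρ x (a.1 u) = 0
      rw [show a.1 u = 0 from hu, map_zero]) with h | h
    · exact (AddMonoidHom.ker_eq_bot_iff (a.1 : U →+ U)).1 h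
    · exfalso
      refine ha (Subtype.ext (AddMonoidHom.ext fun u => ?_))
      exact (h.ge (AddSubgroup.mem_top u) : u ∈ W)
  haveI : Nontrivial Rc := ⟨⟨0, 1, fun h => by
    obtain ⟨u, hu⟩ := exists_ne (0 : U)
    exact hu (DFunLike.congr_fun (congrArg Subtype.val h) u).symm⟩⟩
  haveI : NoZeroDivisors Rc := ⟨fun {a b} hab => by
    by_contra hcon
    push Not at hcon
    obtain ⟨u, hu⟩ := exists_ne (0 : U)
    have h0 : a.1 (b.1 u) = 0 := DFunLike.congr_fun (congrArg Subtype.val hab) u
    exact hu (hinj b hcon.2 ((hinj a hcon.1 (h0.trans (map_zero a.1).symm)).trans (map_zero b.1).symm))⟩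
  haveI : IsDomain Rc := NoZeroDivisors.to_isDomain _
  haveI : Finite (AddMonoid.End U) := Finite.of_injective (fun f => (f : U → U)) DFunLike.coe_injective
  haveI : Fintype Rc := Fintype.ofFinite _
  letI : Field Rc := (Finite.isField_of_domain Rc).toField
  have hsmul : ∀ (a : Rc) (u : U), a • u = a.1 u := fun _ _ => rfl
  haveI : Fintype U := Fintype.ofFinite _
  haveI : Module.Finite Rc U := Module.Finite.of_finite
  -- the field
  have hr0 : (r : Rc) = 0 := by
    refine Subtype.ext (AddMonoidHom.ext fun u => ?_)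
    exact (Nat.cast_smul_eq_nsmul Rc r u).trans (hU u)
  haveI : CharP Rc r := by
    obtain ⟨q, hq⟩ := CharP.exists Rc
    haveI := hq
    rw [CharP.cast_eq_zero_iff Rc q, ] at hr0
    rcases (Nat.dvd_prime hr.out).1 hr0 with h | h
    · exact absurd h (CharP.char_ne_one Rc q)
    · exact h ▸ hq
  obtain ⟨k, hk1, hk⟩ := FiniteField.card Rc r
  let ζ : center X → Rc := fun c => ⟨ρ (c : X), Subring.subset_closure ⟨c, c.2, rfl⟩⟩
  have hζmul : ∀ a b : center X, ζ (a * b) = ζ a * ζ b := fun a b => Subtype.ext (map_mul ρ _ _)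
  have hζ1 : ∀ c : center X, c ≠ 1 → ζ c ≠ 1 := fun c hc h => by
    obtain ⟨u, hu⟩ := exists_ne (0 : U)
    exact hu (hfpf c c.2 (fun e => hc (Subtype.ext e)) u (DFunLike.congr_fun (congrArg Subtype.val h) u))
  obtain ⟨z, hz⟩ : ∃ z : center X, z ≠ 1 := by
    haveI : Nontrivial (center X) := Finite.one_lt_card_iff_nontrivial.1 (by rw [hX.2]; exact hp.out.one_lt)
    exact exists_ne 1
  let ζh : center X →* Rc := { toFun := ζ, map_one' := Subtype.ext (map_one ρ), map_mul' := hζmul }
  have hζp : ∀ c : center X, ζ c ^ p = 1 := fun c => by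
    show ζh c ^ p = 1
    rw [← map_pow, ← hX.2, pow_card_eq_one', map_one]
  have hpk : p ∣ r ^ (k : ℕ) - 1 := by
    have h0 : ζ z ≠ 0 := fun h => by
      have := hζp z; rw [h, zero_pow hp.out.ne_zero] at this; exact zero_ne_one this
    have ho : orderOf (ζ z) = p := orderOf_eq_prime (hζp z) (hζ1 z hz)
    rw [← ho, ← hk, orderOf_dvd_iff_pow_eq_one]
    exact FiniteField.pow_card_sub_one_eq_one (ζ z) h0
  have hnk : n ≤ k := hmin k k.2 hpk
  -- the operators
  let ev : X → Module.End Rc U := fun x =>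
    { toFun := fun u => ρ x u
      map_add' := map_add (ρ x)
      map_smul' := fun a u => by
        show (ρ x * a.1) u = (a.1 * ρ x) u
        rw [hcommX a.1 a.2 x] }
  haveI : Fintype (X ⧸ center X) := Fintype.ofFinite _
  haveI : Fintype X := Fintype.ofFinite _
  have hcm : ∀ f x : X, ⁅f, x⁆ ∈ center X := Fusion.es_commutator_mem hX
  let ω : X → X → Rc := fun f x => ζ ⟨⁅f, x⁆, hcm f x⟩
  have hle := Fusion.es_commutator_le hX
  have hωl : ∀ f g x, ω (f * g) x = ω f x * ω g x := fun f g x => by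
    simp only [ω]; rw [← hζmul]; congr 1; exact Subtype.ext (Fusion.commutatorElement_mul_left_of_le_center hle f g x)
  have hωr : ∀ f x y, ω f (x * y) = ω f x * ω f y := fun f x y => by
    simp only [ω]; rw [← hζmul]; congr 1; exact Subtype.ext (Fusion.commutatorElement_mul_right_of_le_center hle f x y)
  have hsum : ∀ x : X, x ∉ center X → ∑ f : X, ω f x = 0 := by
    intro x hx
    obtain ⟨g, hg⟩ : ∃ g, ⁅g, x⁆ ≠ 1 := by
      by_contra hcon
      push Not at hcon
      exact hx (Subgroup.mem_center_iff.2 fun g => commutatorElement_eq_one_iff_mul_comm.1 (hcon g))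
    have h1 : ω g x * ∑ f : X, ω f x = ∑ f : X, ω f x := by
      rw [Finset.mul_sum]
      exact Fintype.sum_equiv (Equiv.mulLeft g) _ _ fun f => (hωl g f x).symm
    have h2 : ω g x ≠ 1 := hζ1 _ fun h => hg (congrArg Subtype.val h)
    have h3 : (ω g x - 1) * ∑ f : X, ω f x = 0 := by rw [sub_mul, one_mul, h1, sub_self]
    exact (mul_eq_zero.1 h3).resolve_left (sub_ne_zero.2 h2)
  have hconj : ∀ f x : X, ev f * ev x = ω f x • (ev x * ev f) := fun f x => LinearMap.ext fun u => by
    show ρ f (ρ x u) = ρ ⁅f, x⁆ (ρ x (ρ f u))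
    show (ρ f * ρ x) u = (ρ ⁅f, x⁆ * (ρ x * ρ f)) u
    rw [← map_mul, ← map_mul, ← map_mul]
    congr 2
    rw [commutatorElement_def]; group
  have hevu : ∀ f, IsUnit (ev f) := fun f => ⟨⟨ev f, ev f⁻¹, LinearMap.ext fun u => by
    show (ρ f * ρ f⁻¹) u = u
    rw [← map_mul, mul_inv_cancel, map_one]; rfl, LinearMap.ext fun u => by
    show (ρ f⁻¹ * ρ f) u = u
    rw [← map_mul, inv_mul_cancel, map_one]; rfl⟩, rfl⟩
  have hcardne : (Nat.card X : Rc) ≠ 0 := by
    rw [Ne, CharP.cast_eq_zero_iff Rc r, hcard]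
    intro h
    exact hpr.symm ((Nat.prime_dvd_prime_iff_eq hr.out hp.out).1 (hr.out.dvd_of_dvd_pow h))
  let s : X ⧸ center X → X := Quotient.out
  have hs : ∀ q, (QuotientGroup.mk (s q) : X ⧸ center X) = q := QuotientGroup.out_eq'
  have hli : LinearIndependent Rc (fun q => ev (s q)) := by
    rw [Fintype.linearIndependent_iff]
    intro c hc u
    have h1 : ∀ f, ∑ q, (c q * ω f (s q)) • ev (s q) = 0 := fun f => by
      refine (hevu f).mul_left_injective ?_
      show (∑ q, (c q * ω f (s q)) • ev (s q)) * ev f = 0 * ev f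
      have h2 : ev f * ∑ q, c q • ev (s q) = 0 := by rw [hc, mul_zero]
      rw [zero_mul, ← h2, Finset.mul_sum, Finset.sum_mul]
      refine Finset.sum_congr rfl fun q _ => ?_
      rw [mul_smul_comm, hconj, smul_smul, smul_mul_assoc]
    have h3 : ∑ f : X, ω f (s u)⁻¹ • ∑ q, (c q * ω f (s q)) • ev (s q) = 0 := by simp [h1]
    simp only [Finset.smul_sum, smul_smul] at h3
    rw [Finset.sum_comm] at h3
    simp only [← Finset.sum_smul] at h3
    rw [Finset.sum_eq_single u] at h3
    · have h4 : ∀ f, ω f (s u)⁻¹ * (c u * ω f (s u)) = c u := fun f => by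
        rw [mul_left_comm, ← hωr, inv_mul_cancel]
        have : ω f 1 = 1 := by
          show ζ ⟨⁅f, (1 : X)⁆, _⟩ = 1
          rw [show (⟨⁅f, (1 : X)⁆, hcm f 1⟩ : center X) = 1 from Subtype.ext (commutatorElement_one_right f)]
          exact map_one ζh
        rw [this, mul_one]
      simp only [h4, Finset.sum_const, Finset.card_univ, nsmul_eq_mul] at h3
      rw [← Nat.card_eq_fintype_card] at h3
      refine (mul_eq_zero.1 ((smul_eq_zero.1 h3).resolve_right fun h => ?_)).resolve_left hcardne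
      obtain ⟨v, hv⟩ := exists_ne (0 : U)
      have h5 := (hevu (s u)).ne_zero
      exact h5 h
    · intro q _ hq
      have hx : (s u)⁻¹ * s q ∉ center X := fun h => hq (by
        have := (QuotientGroup.eq (s := center X) (a := s u) (b := s q)).2 h
        rw [hs, hs] at this; exact this.symm)
      have h4 : ∀ f, ω f (s u)⁻¹ * (c q * ω f (s q)) = c q * ω f ((s u)⁻¹ * s q) := fun f => by
        rw [hωr, mul_left_comm]
      simp only [h4, ← Finset.mul_sum, hsum _ hx, mul_zero, zero_smul]
    · simp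
  have hd := hli.fintype_card_le_finrank
  rw [Module.finrank_linearMap, ← Nat.card_eq_fintype_card] at hd
  have hq : Nat.card (X ⧸ center X) = (p ^ w) ^ 2 := by
    have := Subgroup.card_eq_card_quotient_mul_card_subgroup (center X)
    rw [hX.2, hcard, pow_succ] at this
    rw [← pow_mul, mul_comm w 2]
    exact (Nat.eq_of_mul_eq_mul_right hp.out.pos this).symm
  rw [hq, ← pow_two] at hd
  have hd' : p ^ w ≤ Module.finrank Rc U := (Nat.pow_le_pow_iff_left two_ne_zero).1 hd
  rw [Nat.card_eq_fintype_card, Module.card_eq_pow_finrank (K := Rc) (V := U), hk, ← pow_mul]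
  exact Nat.pow_le_pow_right hr.out.pos (Nat.mul_le_mul hnk hd')

/-- Let p and r be distinct primes, let E be an extraspecial subgroup of order p^(2w+1) of a finite group, and let A be an elementary abelian r-subgroup normalized by E on which E acts faithfully (C_E(A) = 1). If n ≥ 1 is least with p dividing rⁿ − 1 (the smallest dimension of a faithful representation of a group of order p over the field with r elements), then the order of A is at least r^(n·p^w). -/
theorem result {G : Type*} [Group G] [Finite G] {p r : ℕ} [Fact p.Prime] [hr : Fact r.Prime] (hpr : p ≠ r) (E A : Subgroup G) (w : ℕ) (hE : Cfsg.IsExtraspecial p ↥E) (hEcard : Nat.card ↥E = p ^ (2 * w + 1)) (hA : Cfsg.IsElementaryAbelian r A) (hnorm : E ≤ Subgroup.normalizer (A : Set G)) (hfaith : E ⊓ Subgroup.centralizer (A : Set G) = ⊥) (n : ℕ) (hn : 1 ≤ n) (hdiv : p ∣ r ^ n - 1) (hmin : ∀ k : ℕ, 1 ≤ k → p ∣ r ^ k - 1 → n ≤ k) : r ^ (n * p ^ w) ≤ Nat.card ↥A := by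
  classical
  have hp := (Fact.out : p.Prime)
  haveI : IsMulCommutative A := hA.1
  obtain ⟨z, hzc, hz1⟩ : ∃ z : E, z ∈ center E ∧ z ≠ 1 := by
    haveI : Nontrivial (center E) := Finite.one_lt_card_iff_nontrivial.1 (by rw [hE.2]; exact hp.one_lt)
    obtain ⟨z, hz⟩ := exists_ne (1 : center E)
    exact ⟨z, z.2, fun h => hz (Subtype.ext h)⟩
  set Z := zpowers (z : G) with hZ
  have hZn : Z ≤ normalizer (A : Set G) := zpowers_le.2 (hnorm z.2)
  set B := ⁅A, Z⁆ with hB
  have hBA : B ≤ A := Coprime.commutator_le_of_le_normalizer hZn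
  have hcopZ : (Nat.card Z).Coprime (Nat.card A) := by
    obtain ⟨a, ha⟩ := IsPGroup.iff_card.1 (Thompson.ea_isPGroup hA)
    rw [hZ, Nat.card_zpowers, orderOf_coe, orderOf_eq_prime (Fusion.es_center_pow hE hzc) hz1, ha]
    exact ((Nat.coprime_primes hp hr.out).2 hpr).pow_right a
  have hEB : ∀ e ∈ E, ∀ b ∈ B, e * b * e⁻¹ ∈ B := by
    intro e he b hb
    have h1 : B.map (MulAut.conj e).toMonoidHom ≤ B := by
      rw [hB, Subgroup.map_commutator]
      refine commutator_mono ?_ ?_
      · rintro _ ⟨a, ha, rfl⟩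
        exact (mem_normalizer_iff.1 (hnorm he) a).1 ha
      · rw [hZ, MonoidHom.map_zpowers, zpowers_le]
        have h2 : e * (z : G) = (z : G) * e := congrArg Subtype.val (Subgroup.mem_center_iff.1 hzc ⟨e, he⟩)
        show e * (z : G) * e⁻¹ ∈ zpowers (z : G)
        rw [h2, mul_inv_cancel_right]; exact mem_zpowers _
    exact h1 ⟨b, hb, rfl⟩
  have hBne : B ≠ ⊥ := fun h => hz1 (Subtype.ext (mem_bot.1 (hfaith ▸
    (⟨z.2, (le_centralizer_iff.1 (commutator_eq_bot_iff_le_centralizer.1 h)) (mem_zpowers _)⟩ :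
      (z : G) ∈ E ⊓ centralizer (A : Set G)))))
  obtain ⟨U, ⟨hUB, hUne, hUinv⟩, hUmin⟩ := Set.Finite.exists_minimal
    (Set.toFinite {U : Subgroup G | U ≤ B ∧ U ≠ ⊥ ∧ ∀ e ∈ E, ∀ b ∈ U, e * b * e⁻¹ ∈ U}) ⟨B, le_rfl, hBne, hEB⟩
  have hUA : U ≤ A := hUB.trans hBA
  haveI : IsMulCommutative U := (Thompson.ea_mono hA hUA).1
  haveI : Nontrivial U := (nontrivial_iff_ne_bot U).2 hUne
  have hEU : E ≤ normalizer (U : Set G) := fun e he => mem_normalizer_iff.2 fun b =>
    ⟨hUinv e he b, fun h => by simpa [mul_assoc] using hUinv e⁻¹ (inv_mem he) _ h⟩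
  let c : E →* MulAut U := (U.normalizerMonoidHom).comp (inclusion hEU)
  let ρ : E →* AddMonoid.End (Additive U) :=
    { toFun := fun g => (c g).toMonoidHom.toAdditive
      map_one' := AddMonoidHom.ext fun v => by
        show Additive.ofMul (c 1 (Additive.toMul v)) = v
        rw [map_one]; rfl
      map_mul' := fun g h => AddMonoidHom.ext fun v => by
        show Additive.ofMul (c (g * h) (Additive.toMul v)) = Additive.ofMul (c g (c h (Additive.toMul v)))
        rw [map_mul]; rfl }
  have hρ : ∀ (g : E) (v : Additive U), ((Additive.toMul (ρ g v) : U) : G) = (g : G) * ((Additive.toMul v : U) : G) * (g : G)⁻¹ :=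
    fun g v => rfl
  have hb := module_bound (U := Additive U) hpr w hE hEcard n hmin (fun u => by
      refine Additive.toMul.injective (Subtype.ext ?_)
      rw [toMul_nsmul, SubgroupClass.coe_pow, toMul_zero, Subgroup.coe_one]
      exact hA.2 _ (hUA (Additive.toMul u).2)) ρ (fun c' hc' hne u hu => by
      have h1 := congrArg (fun v : Additive U => ((Additive.toMul v : U) : G)) hu
      simp only [hρ] at h1
      have hc2 : zpowers c' = center E := Fusion.es_center_zpowers hE hc' hne
      obtain ⟨i, hi⟩ : z ∈ zpowers c' := hc2.symm ▸ hzc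
      have h2 : Commute (c' : G) ((Additive.toMul u : U) : G) := mul_inv_eq_iff_eq_mul.1 h1
      have h3 : ((Additive.toMul u : U) : G) ∈ (A ⊓ centralizer (Z : Set G)) ⊓ ⁅A, Z⁆ := by
        refine ⟨⟨hUA (Additive.toMul u).2, mem_centralizer_iff.2 fun y hy => ?_⟩, hUB (Additive.toMul u).2⟩
        obtain ⟨j, rfl⟩ := hy
        have : (z : G) = (c' : G) ^ i := by rw [← hi]; simp
        show (z : G) ^ j * _ = _
        rw [this]
        exact ((h2.zpow_left i).zpow_left j).eq
      rw [Coprime.centralizer_inf_commutator_eq_bot hZn hcopZ, mem_bot] at h3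
      exact Additive.toMul.injective (Subtype.ext h3)) (fun W hW => by
      let W' : Subgroup G := (AddSubgroup.toSubgroup' W).map U.subtype
      by_cases hWb : W = ⊥
      · exact Or.inl hWb
      refine Or.inr (eq_top_iff.2 fun m _ => ?_)
      have hle : U ≤ W' := hUmin ⟨(map_subtype_le _).trans hUB, fun h => hWb (eq_bot_iff.2 fun v hv => by
          have h1 : (((Additive.toMul v : U)) : G) ∈ W' := ⟨_, hv, rfl⟩
          rw [h, mem_bot] at h1
          exact congrArg Additive.ofMul (Subtype.ext h1 : Additive.toMul v = 1)), by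
          rintro e he _ ⟨v, hv, rfl⟩
          exact ⟨Additive.toMul (ρ ⟨e, he⟩ (Additive.ofMul v)), hW _ _ hv, hρ _ _⟩⟩ (map_subtype_le _)
      obtain ⟨v, hv, hvm⟩ := hle (Additive.toMul m).2
      have e2 : v = Additive.toMul m := Subtype.ext hvm
      rw [e2] at hv
      exact hv)
  exact hb.trans ((Nat.card_congr Additive.toMul).le.trans (card_le_of_le hUA))

end Cfsg.Agent.S2912
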