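import Cfsg.Statements.S2924
import Cfsg.Prelude.Def_Local
import Cfsg.Prelude.Def_Solvable
import Mathlib.GroupTheory.IsPerfect
import Mathlib.GroupTheory.Nilpotent
import Mathlib.GroupTheory.Sylow

/-!
Proof. For `y ∈ Y#` let `W y = O(C(y))`. Since `F*(C(z)) = O₂(C(z))` and by the A × B lemma, `z` fixes no
nonidentity element of `W y`, so `z` inverts `W y`, which is abelian. If `d ∈ W y` centralizes `x ∈ Y#` then
`d` centralizes `O(C(x))` (both are inverted by `z`) and `O₂(C(x))` (A × B), hence `d ∈ F(C(x))` as there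
are no components, so `d ∈ W x`. Now `W y` is generated by common eigenvectors of `Y` (fixed or inverted by
each element); two of them commute with a common `b ∈ Y#` as `|Y| ≥ 8`, so lie in the abelian group `W b`.
So all of them generate an abelian group of odd order.
-/

set_option autoImplicit false
set_option linter.all false
open Cfsg
open scoped Pointwise

namespace Cfsg.Agent.S2924

section General

variable {G : Type*} [Group G] [Finite G]

theorem le_normalizer_of_conj_mem {K R : Subgroup G} (h : ∀ k ∈ K, ∀ r ∈ R, k * r * k⁻¹ ∈ R) :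
    K ≤ Subgroup.normalizer (R : Set G) := by
  intro k hk
  rw [Subgroup.mem_normalizer_iff]
  intro r
  refine ⟨h k hk r, fun hr => ?_⟩
  have h1 := h k⁻¹ (inv_mem hk) _ hr
  simpa [mul_assoc] using h1

theorem conj_mem_sSup {S : Set (Subgroup G)} {k : G}
    (h : ∀ A ∈ S, ∀ a ∈ A, k * a * k⁻¹ ∈ sSup S) {r : G} (hr : r ∈ sSup S) :
    k * r * k⁻¹ ∈ sSup S := by
  have : sSup S ≤ (sSup S).comap (MulAut.conj k).toMonoidHom :=
    sSup_le fun A hA a ha => by simpa using h A hA a ha
  simpa using this hr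

theorem solvable_sup {A B : Subgroup G} (hA : Group.IsSolvable A) (hB : Group.IsSolvable B)
    (hn : B ≤ Subgroup.normalizer (A : Set G)) : Group.IsSolvable (A ⊔ B : Subgroup G) := by
  set H : Subgroup G := A ⊔ B with hH
  have hle : H ≤ Subgroup.normalizer (A : Set G) := sup_le Subgroup.le_normalizer hn
  haveI : (A.subgroupOf H).Normal := (Subgroup.normal_subgroupOf_iff_le_normalizer le_sup_left).2 hle
  refine (Group.isSolvable_iff_subgroup_quotient (A.subgroupOf H)).2
    ⟨solvable_of_solvable_injective (f := (Subgroup.subgroupOfEquivOfLe (le_sup_left : A ≤ H)).toMonoidHom)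
      (MulEquiv.injective _), ?_⟩
  let f : B →* H ⧸ A.subgroupOf H :=
    (QuotientGroup.mk' (A.subgroupOf H)).comp (Subgroup.inclusion le_sup_right)
  refine solvable_of_surjective (f := f) ?_
  intro q
  obtain ⟨⟨h, hh⟩, rfl⟩ := QuotientGroup.mk'_surjective _ q
  have hh' : h ∈ (A : Set G) * (B : Set G) := by
    rw [← Subgroup.coe_mul_of_right_le_normalizer_left A B hn]
    exact hh
  obtain ⟨a, ha, b, hb, rfl⟩ := hh'
  have hmem : b⁻¹ * a⁻¹ * b ∈ A := by
    have := (Subgroup.mem_normalizer_iff.1 (inv_mem (hn hb)) a⁻¹).1 (inv_mem ha)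
    simpa using this
  refine ⟨⟨b, hb⟩, (QuotientGroup.eq).2 ?_⟩
  show b⁻¹ * (a * b) ∈ A
  have := inv_mem hmem
  simpa [mul_assoc] using this

theorem solvable_sSup {H : Subgroup G} (S : Set (Subgroup G)) :
    (∀ A ∈ S, A ≤ H ∧ H ≤ Subgroup.normalizer (A : Set G) ∧ Group.IsSolvable A) →
      sSup S ≤ H ∧ H ≤ Subgroup.normalizer ((sSup S : Subgroup G) : Set G) ∧
        Group.IsSolvable (sSup S : Subgroup G) := by
  induction S, (Set.toFinite S) using Set.Finite.induction_on with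
  | empty =>
    intro _
    rw [sSup_empty]
    refine ⟨bot_le, ?_, inferInstance⟩
    exact le_normalizer_of_conj_mem fun k _ r hr => by simp_all
  | @insert A T _ _ ih =>
    intro hS
    obtain ⟨h1, h2, h3⟩ := ih fun B hB => hS B (Set.mem_insert_of_mem _ hB)
    obtain ⟨a1, a2, a3⟩ := hS A (Set.mem_insert _ _)
    rw [sSup_insert]
    refine ⟨sup_le a1 h1, ?_, solvable_sup a3 h3 (h1.trans a2)⟩
    refine le_normalizer_of_conj_mem fun k hk r hr => ?_
    have : A ⊔ sSup T ≤ (A ⊔ sSup T).comap (MulAut.conj k).toMonoidHom := by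
      refine sup_le (fun a ha => ?_) (fun a ha => ?_)
      · exact Subgroup.mem_sup_left ((Subgroup.mem_normalizer_iff.1 (a2 hk) a).1 ha)
      · exact Subgroup.mem_sup_right ((Subgroup.mem_normalizer_iff.1 (h2 hk) a).1 ha)
    simpa using this hr

theorem solvable_le_normal {K : Subgroup G} (hK : K.IsSubnormal) :
    ∀ R : Subgroup G, R ≤ K → K ≤ Subgroup.normalizer (R : Set G) → Group.IsSolvable R →
      ∃ S : Subgroup G, S.Normal ∧ Group.IsSolvable S ∧ R ≤ S := by
  induction hK with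
  | top =>
    intro R _ hn hs
    exact ⟨R, Subgroup.normalizer_eq_top_iff.1 (top_le_iff.1 hn), hs, le_rfl⟩
  | step H K hle _ hN ih =>
    intro R hRH hn hs
    have hKH : K ≤ Subgroup.normalizer (H : Set G) :=
      (Subgroup.normal_subgroupOf_iff_le_normalizer hle).1 hN
    let S : Set (Subgroup G) := Set.range fun k : K => R.map (MulAut.conj (k : G)).toMonoidHom
    obtain ⟨h1, h2, h3⟩ := solvable_sSup (H := H) S (by
      rintro A ⟨⟨k, hk⟩, rfl⟩
      refine ⟨?_, ?_, ?_⟩
      · rintro _ ⟨r, hr, rfl⟩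
        simpa using (Subgroup.mem_normalizer_iff.1 (hKH hk) r).1 (hRH hr)
      · refine le_normalizer_of_conj_mem ?_
        rintro h hh _ ⟨r, hr, rfl⟩
        have h' : k⁻¹ * h * k ∈ H := by
          simpa using (Subgroup.mem_normalizer_iff.1 (hKH (inv_mem hk)) h).1 hh
        refine ⟨(k⁻¹ * h * k) * r * (k⁻¹ * h * k)⁻¹, (Subgroup.mem_normalizer_iff.1 (hn h') r).1 hr, ?_⟩
        simp [mul_assoc]
      · exact solvable_of_surjective
          (f := (MulAut.conj (k : G)).toMonoidHom.subgroupMap R) (MonoidHom.subgroupMap_surjective _ _))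
    have hRS : R ≤ sSup S := by
      refine le_trans ?_ (le_sSup ⟨1, rfl⟩)
      intro r hr
      exact ⟨r, hr, by simp⟩
    obtain ⟨T, hT1, hT2, hT3⟩ := ih (sSup S) (h1.trans hle) (le_normalizer_of_conj_mem (by
      intro k hk r hr
      refine conj_mem_sSup ?_ hr
      rintro A ⟨⟨j, hj⟩, rfl⟩ _ ⟨a, ha, rfl⟩
      have hmem : R.map (MulAut.conj (k * j)).toMonoidHom ∈ S := ⟨⟨k * j, mul_mem hk hj⟩, rfl⟩
      refine le_sSup hmem ⟨a, ha, ?_⟩
      simp [mul_assoc])) h3
    exact ⟨T, hT1, hT2, hRS.trans hT3⟩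

/-- The largest perfect subgroup of `M`. -/
def perfRes (M : Subgroup G) : Subgroup G := sSup {H : Subgroup G | H ≤ M ∧ ⁅H, H⁆ = H}

theorem perfRes_le (M : Subgroup G) : perfRes M ≤ M := sSup_le fun _ h => h.1

theorem perfRes_perfect (M : Subgroup G) : ⁅perfRes M, perfRes M⁆ = perfRes M := by
  refine le_antisymm (Subgroup.commutator_le_self _) (sSup_le fun H hH => ?_)
  calc H = ⁅H, H⁆ := hH.2.symm
    _ ≤ _ := Subgroup.commutator_mono (le_sSup hH) (le_sSup hH)

theorem perfRes_normalized {M K : Subgroup G} (h : K ≤ Subgroup.normalizer (M : Set G)) :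
    K ≤ Subgroup.normalizer (perfRes M : Set G) := by
  refine le_normalizer_of_conj_mem fun k hk r hr => conj_mem_sSup ?_ hr
  intro A hA a ha
  have hmem : A.map (MulAut.conj k).toMonoidHom ∈ {H : Subgroup G | H ≤ M ∧ ⁅H, H⁆ = H} := by
    refine ⟨?_, ?_⟩
    · rintro _ ⟨b, hb, rfl⟩
      simpa using (Subgroup.mem_normalizer_iff.1 (h hk) b).1 (hA.1 hb)
    · rw [← Subgroup.map_commutator, hA.2]
  exact le_sSup hmem ⟨a, ha, by simp⟩

theorem solvable_of_perfRes_eq_bot {M : Subgroup G} (h : perfRes M = ⊥) : Group.IsSolvable M := by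
  rw [Group.isSolvable_iff_commutator_lt]
  intro H hH
  refine lt_of_le_of_ne (Subgroup.commutator_le_self _) fun heq => hH ?_
  have h1 : H.map M.subtype ≤ perfRes M :=
    le_sSup ⟨Subgroup.map_subtype_le _, by rw [← Subgroup.map_commutator, heq]⟩
  rw [h, le_bot_iff] at h1
  exact (Subgroup.map_eq_bot_iff_of_injective H M.subtype_injective).1 h1

theorem solvable_le_fitting {C : Subgroup G}
    (hC : C ≤ Subgroup.centralizer (fittingSubgroup G : Set G)) :
    ∀ S : Subgroup G, S.Normal → Group.IsSolvable S → S ≤ C → S ≤ fittingSubgroup G := by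
  intro S
  induction S using WellFoundedLT.induction with
  | ind S ih =>
    intro hN hs hSC
    haveI := hN
    rcases eq_or_ne S ⊥ with rfl | hne
    · exact bot_le
    haveI := hs
    have hlt : ⁅S, S⁆ < S := by
      refine lt_of_le_of_ne (Subgroup.commutator_le_self _) fun heq => hne ?_
      by_contra hne'
      haveI : Nontrivial S := (Subgroup.nontrivial_iff_ne_bot _).2 hne'
      haveI : Group.IsPerfect S := Subgroup.isPerfect_iff.2 heq
      exact (Group.IsPerfect.not_isSolvable S) hs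
    have hF : ⁅S, S⁆ ≤ fittingSubgroup G :=
      ih _ hlt (Subgroup.commutator_normal S S)
        (solvable_of_solvable_injective (f := Subgroup.inclusion hlt.le)
          (Subgroup.inclusion_injective _))
        (hlt.le.trans hSC)
    refine le_sSup ⟨hN, ?_⟩
    have hker : (Abelianization.of : S →* Abelianization S).ker ≤ Subgroup.center S := by
      rw [Abelianization.ker_of]
      intro c hc
      rw [Subgroup.mem_center_iff]
      intro s
      have hc' : (c : G) ∈ ⁅S, S⁆ := by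
        rw [← Subgroup.map_subtype_commutator]
        exact ⟨c, hc, rfl⟩
      exact Subtype.ext ((Subgroup.mem_centralizer_iff.1 (hC (hSC s.2)) _ (hF hc')).symm)
    haveI : Group.IsNilpotent (Abelianization S) := CommGroup.isNilpotent
    exact isNilpotent_of_ker_le_center _ hker

theorem centralizer_fitting_le (hl : layer G = ⊥) :
    Subgroup.centralizer (fittingSubgroup G : Set G) ≤ fittingSubgroup G := by
  set C := Subgroup.centralizer (fittingSubgroup G : Set G) with hCdef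
  haveI hFn : (fittingSubgroup G).Normal :=
    Subgroup.normalizer_eq_top_iff.1 (top_le_iff.1 (le_normalizer_of_conj_mem fun k _ r hr =>
      conj_mem_sSup (fun A hA a ha => le_sSup hA (hA.1.conj_mem a ha k)) hr))
  haveI hCn : C.Normal := Subgroup.normal_centralizer
  by_cases h : perfRes C = ⊥
  · exact solvable_le_fitting le_rfl C hCn (solvable_of_perfRes_eq_bot h) le_rfl
  exfalso
  let P : Set (Subgroup G) := {K | K.IsSubnormal ∧ ⁅K, K⁆ = K ∧ K ≠ ⊥ ∧ K ≤ C}
  have hP : perfRes C ∈ P := by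
    refine ⟨?_, perfRes_perfect C, h, perfRes_le C⟩
    refine Subgroup.Normal.isSubnormal (Subgroup.normalizer_eq_top_iff.1 (top_le_iff.1 ?_))
    exact perfRes_normalized (by rw [Subgroup.normalizer_eq_top_iff.2 hCn])
  obtain ⟨K, hKP, hKmin⟩ := Set.Finite.exists_minimal (Set.toFinite P) ⟨_, hP⟩
  obtain ⟨hKs, hKp, hK0, hKC⟩ := hKP
  haveI : Nontrivial K := (Subgroup.nontrivial_iff_ne_bot _).2 hK0
  haveI hKperf : Group.IsPerfect K := Subgroup.isPerfect_iff.2 hKp
  have key : ∀ R : Subgroup K, R.Normal → R ≠ ⊤ → R ≤ Subgroup.center K := by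
    intro R hR hRne
    have hRK : R.map K.subtype ≤ K := Subgroup.map_subtype_le _
    have hnR : K ≤ Subgroup.normalizer ((R.map K.subtype : Subgroup G) : Set G) := by
      refine le_normalizer_of_conj_mem ?_
      rintro k hk _ ⟨r, hr, rfl⟩
      exact ⟨⟨k, hk⟩ * r * ⟨k, hk⟩⁻¹, hR.conj_mem r hr _, rfl⟩
    have hsol : Group.IsSolvable (R.map K.subtype : Subgroup G) := by
      refine solvable_of_perfRes_eq_bot ?_
      by_contra hne
      have hle : perfRes (R.map K.subtype) ≤ K := (perfRes_le _).trans hRK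
      have hmem : perfRes (R.map K.subtype) ∈ P :=
        ⟨Subgroup.IsSubnormal.step _ K hle hKs
          ((Subgroup.normal_subgroupOf_iff_le_normalizer hle).2 (perfRes_normalized hnR)),
          perfRes_perfect _, hne, hle.trans hKC⟩
      have hKR : K ≤ R.map K.subtype := (hKmin hmem hle).trans (perfRes_le _)
      apply hRne
      rw [eq_top_iff]
      intro k _
      obtain ⟨r, hr, hrk⟩ := hKR k.2
      rwa [← Subtype.ext (show (r : G) = k from hrk)]
    obtain ⟨S, hS1, hS2, hS3⟩ := solvable_le_normal hKs _ hRK hnR hsol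
    haveI := hS1
    have hSF : S ⊓ C ≤ fittingSubgroup G := by
      haveI := hS2
      exact solvable_le_fitting le_rfl (S ⊓ C) inferInstance
        (solvable_of_solvable_injective (f := Subgroup.inclusion (inf_le_left : S ⊓ C ≤ S))
          (Subgroup.inclusion_injective _)) inf_le_right
    intro r hr
    rw [Subgroup.mem_center_iff]
    intro k
    have hrF : (r : G) ∈ fittingSubgroup G := hSF ⟨hS3 ⟨r, hr, rfl⟩, hKC r.2⟩
    exact Subtype.ext ((Subgroup.mem_centralizer_iff.1 (hKC k.2) _ hrF).symm)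
  have hc : Subgroup.center K ≠ ⊤ := by
    intro hc
    haveI : IsMulCommutative K := ⟨⟨fun a b =>
      (Subgroup.mem_center_iff.1 (hc ▸ Subgroup.mem_top b) a)⟩⟩
    exact not_subsingleton K Group.IsPerfect.subsingleton_of_isMulCommutative
  have hq : IsQuasisimple K := by
    refine ⟨hKperf, ?_⟩
    haveI : Nontrivial (K ⧸ Subgroup.center K) :=
      QuotientGroup.nontrivial_iff.2 hc
    refine ⟨fun N hN => ?_⟩
    rcases eq_or_ne (N.comap (QuotientGroup.mk' (Subgroup.center K))) ⊤ with htop | hne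
    · right
      rw [← Subgroup.map_comap_eq_self_of_surjective (QuotientGroup.mk'_surjective _) N, htop,
        Subgroup.map_top_of_surjective _ (QuotientGroup.mk'_surjective _)]
    · left
      rw [← Subgroup.map_comap_eq_self_of_surjective (QuotientGroup.mk'_surjective _) N,
        Subgroup.map_eq_bot_iff, QuotientGroup.ker_mk']
      exact key _ inferInstance hne
  have : K ≤ layer G := le_sSup (show IsComponent K from ⟨hKs, hq⟩)
  rw [hl, le_bot_iff] at this
  exact hK0 this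

theorem odd_sSup (S : Set (Subgroup G)) :
    (∀ N ∈ S, N.Normal ∧ Odd (Nat.card N)) → Odd (Nat.card (sSup S : Subgroup G)) := by
  induction S, (Set.toFinite S) using Set.Finite.induction_on with
  | empty =>
    intro _
    rw [sSup_empty, Subgroup.card_bot]
    exact odd_one
  | @insert N T _ _ ih =>
    intro h
    obtain ⟨hN, hNo⟩ := h N (Set.mem_insert _ _)
    haveI := hN
    rw [sSup_insert, ← Subgroup.relIndex_bot_left (N ⊔ sSup T),
      ← Subgroup.relIndex_mul_relIndex ⊥ N (N ⊔ sSup T) bot_le le_sup_left,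
      Subgroup.relIndex_bot_left, Subgroup.relIndex_sup_left]
    exact hNo.mul ((ih fun M hM => h M (Set.mem_insert_of_mem _ hM)).of_dvd_nat
      (Subgroup.relIndex_dvd_card _ _))

theorem oddCore_odd : Odd (Nat.card (oddCore G)) :=
  odd_sSup _ fun _ hN => ⟨hN.1, Nat.coprime_two_right.1 hN.2⟩

theorem oddCore_conj_mem {x : G} (hx : x ∈ oddCore G) (g : G) : g * x * g⁻¹ ∈ oddCore G :=
  conj_mem_sSup (fun _ hA a ha => le_sSup hA (hA.1.conj_mem a ha g)) hx

theorem pCore_conj_mem {x : G} (hx : x ∈ pCore 2 G) (g : G) : g * x * g⁻¹ ∈ pCore 2 G :=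
  conj_mem_sSup (fun _ hA a ha => le_sSup hA (hA.1.conj_mem a ha g)) hx

theorem pCore_isPGroup : IsPGroup 2 (pCore 2 G) := by
  haveI : Fact (Nat.Prime 2) := ⟨Nat.prime_two⟩
  obtain ⟨P⟩ := (inferInstance : Nonempty (Sylow 2 G))
  refine P.isPGroup'.to_le (sSup_le ?_)
  rintro N ⟨hN, hp⟩
  haveI := hN
  exact sup_eq_right.1 (P.is_maximal' (hp.to_sup_of_normal_left P.isPGroup') le_sup_right)

theorem fitting_le : fittingSubgroup G ≤ oddCore G ⊔ pCore 2 G := by
  refine sSup_le ?_
  rintro M ⟨hM, hnil⟩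
  haveI := hM
  have hsyl : ∀ (p : ℕ) (_ : Fact p.Prime) (P : Sylow p M), (P : Subgroup M).Normal :=
    ((Group.isNilpotent_of_finite_tfae (G := M)).out 0 3).1 hnil
  suffices h : (oddCore G ⊔ pCore 2 G).subgroupOf M = ⊤ by
    exact Subgroup.subgroupOf_eq_top.1 h
  refine Subgroup.eq_top_of_card_eq _ (Nat.dvd_antisymm (Subgroup.card_subgroup_dvd_card _) ?_)
  refine Nat.dvd_iff_prime_pow_dvd_dvd _ _ |>.2 ?_
  intro q k hq hdvd
  haveI := Fact.mk hq
  obtain ⟨P⟩ := (inferInstance : Nonempty (Sylow q M))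
  haveI := hsyl q inferInstance P
  haveI : (P : Subgroup M).Characteristic := P.characteristic_of_normal inferInstance
  have hPn : ((P : Subgroup M).map M.subtype).Normal := inferInstance
  have hPp : IsPGroup q ((P : Subgroup M).map M.subtype) := P.isPGroup'.map _
  have hle : (P : Subgroup M).map M.subtype ≤ oddCore G ⊔ pCore 2 G := by
    rcases eq_or_ne q 2 with rfl | hq2
    · exact le_trans (show _ ≤ pCore 2 G from le_sSup ⟨hPn, hPp⟩) le_sup_right
    · refine le_trans (show _ ≤ oddCore G from le_sSup ⟨hPn, ?_⟩) le_sup_left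
      obtain ⟨n, hn⟩ := IsPGroup.iff_card.1 hPp
      rw [hn]
      exact Nat.Coprime.pow_left _ ((Nat.coprime_primes hq Nat.prime_two).2 hq2)
  have h1 : q ^ k ∣ Nat.card (P : Subgroup M) := by
    rw [P.card_eq_multiplicity]
    exact pow_dvd_pow _ ((Nat.Prime.pow_dvd_iff_le_factorization hq Nat.card_pos.ne').1 hdvd)
  exact h1.trans (Subgroup.card_dvd_of_le (Subgroup.map_le_iff_le_comap.1 hle))

omit [Finite G] in
theorem eq_one_of_two_group_odd {Q : Subgroup G} (hQ : IsPGroup 2 Q) {u : G} (hu : u ∈ Q)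
    (ho : Odd (orderOf u)) : u = 1 := by
  obtain ⟨k, hk⟩ := hQ ⟨u, hu⟩
  have hk' : u ^ (2 ^ k) = 1 := congrArg Subtype.val hk
  obtain ⟨j, _, hj'⟩ := (Nat.dvd_prime_pow Nat.prime_two).1 (orderOf_dvd_of_pow_eq_one hk')
  rcases j with _ | j
  · exact orderOf_eq_one_iff.1 (by simpa using hj')
  · rw [hj'] at ho
    exact absurd ho (Nat.not_odd_iff_even.2 (Even.pow_of_ne_zero even_two (by simp)))

/-- The `A × B` lemma for an element `d` of odd order and a commuting involution `y`. -/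
theorem commute_of_fixed {Q : Subgroup G} (hQ : IsPGroup 2 Q) {d y : G} (hd : Odd (orderOf d))
    (hy : y * y = 1) (hdy : Commute d y) (hdQ : ∀ q ∈ Q, d * q * d⁻¹ ∈ Q)
    (hyQ : ∀ q ∈ Q, y * q * y⁻¹ ∈ Q) (hfix : ∀ q ∈ Q, Commute y q → Commute d q) :
    ∀ q ∈ Q, Commute d q := by
  haveI : Fact (Nat.Prime 2) := ⟨Nat.prime_two⟩
  have hyi : y⁻¹ = y := inv_eq_of_mul_eq_one_right hy
  by_contra hne
  push_neg at hne
  obtain ⟨q₀, hq₀, hq₀'⟩ := hne
  let Q₀ : Subgroup Q := (Subgroup.centralizer ({d} : Set G)).subgroupOf Q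
  have hQ₀ : ∀ q : Q, q ∈ Q₀ ↔ Commute d (q : G) := by
    intro q
    show (q : G) ∈ Subgroup.centralizer ({d} : Set G) ↔ _
    rw [Subgroup.mem_centralizer_singleton_iff]
    exact ⟨fun h => h.symm, fun h => h.symm⟩
  let φ : Q → Q := fun q => ⟨y * q * y⁻¹, hyQ q q.2⟩
  have hφ0 : ∀ q : Q, q ∈ Q₀ → φ q ∈ Q₀ := by
    intro q hq
    rw [hQ₀] at hq ⊢
    exact ((hdy.mul_right hq).mul_right hdy.inv_right)
  have hφm : ∀ a b : Q, (φ a)⁻¹ * φ b = φ (a⁻¹ * b) := by
    intro a b
    apply Subtype.ext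
    simp [φ, mul_assoc]
  let ψ : Q ⧸ Q₀ → Q ⧸ Q₀ := Quotient.map' φ (by
    intro a b hab
    rw [QuotientGroup.leftRel_apply] at hab ⊢
    rw [hφm]
    exact hφ0 _ hab)
  have hψ : ∀ a : Q, ψ (QuotientGroup.mk a) = QuotientGroup.mk (φ a) := fun a => rfl
  have hinv : Function.Involutive ψ := by
    intro a
    obtain ⟨a, rfl⟩ := QuotientGroup.mk_surjective a
    rw [hψ, hψ]
    congr 1
    apply Subtype.ext
    show y * (y * (a : G) * y⁻¹) * y⁻¹ = a
    calc y * (y * (a : G) * y⁻¹) * y⁻¹ = (y * y) * (a : G) * (y⁻¹ * y⁻¹) := by simp [mul_assoc]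
      _ = a := by rw [hyi, hy, one_mul, mul_one]
  haveI : Fintype (Q ⧸ Q₀) := Fintype.ofFinite _
  have hdvd : 2 ∣ Fintype.card (Q ⧸ Q₀) := by
    rw [← Nat.card_eq_fintype_card, ← Subgroup.index_eq_card]
    obtain ⟨k, hk⟩ := hQ.index Q₀
    rw [hk]
    refine dvd_pow_self 2 ?_
    rintro rfl
    rw [pow_zero] at hk
    have htop := Subgroup.index_eq_one.1 hk
    exact hq₀' ((hQ₀ ⟨q₀, hq₀⟩).1 (htop ▸ Subgroup.mem_top _))
  obtain ⟨b, hb, hbne⟩ := Equiv.Perm.exists_fixed_point_of_prime' (p := 2) (n := 1) hdvd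
    (σ := hinv.toPerm) (by
      ext a
      simp [pow_two, Equiv.Perm.mul_apply, hinv a])
    (a := QuotientGroup.mk (1 : Q)) (by
      rw [Function.Involutive.coe_toPerm, hψ]
      congr 1
      apply Subtype.ext
      simp [φ])
  obtain ⟨a, rfl⟩ := QuotientGroup.mk_surjective b
  have hb' : a⁻¹ * φ a ∈ Q₀ := QuotientGroup.eq.1 (hb.symm.trans (hψ a))
  have ha : ¬ Commute d (a : G) := fun h =>
    hbne (QuotientGroup.eq.2 (by simpa using Q₀.inv_mem ((hQ₀ a).2 h)))
  rw [hQ₀] at hb'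
  replace hb' : Commute d ((a : G)⁻¹ * (y * a * y⁻¹)) := hb'
  set q : G := (a : G)⁻¹ * (y * a * y⁻¹) with hq
  set u : G := d * a * d⁻¹ * (a : G)⁻¹ with hu
  have hyu : Commute y u := by
    have e1 : y * a * y⁻¹ = a * q := by rw [hq, mul_inv_cancel_left]
    have e2 : y * u * y⁻¹ = u := by
      have h1 : y * u * y⁻¹ = (y * d * y⁻¹) * (y * a * y⁻¹) * (y * d * y⁻¹)⁻¹ * (y * a * y⁻¹)⁻¹ := by
        simp [hu, mul_assoc]
      have h2 : y * d * y⁻¹ = d := by rw [← hdy.eq, mul_inv_cancel_right]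
      have h3 : q * d⁻¹ = d⁻¹ * q := hb'.inv_left.symm.eq
      rw [h1, h2, e1, hu]
      calc d * ((a : G) * q) * d⁻¹ * ((a : G) * q)⁻¹
          = d * (a : G) * (q * d⁻¹) * q⁻¹ * (a : G)⁻¹ := by simp [mul_assoc]
        _ = _ := by rw [h3]; simp [mul_assoc]
    exact mul_inv_eq_iff_eq_mul.1 e2
  have huQ : u ∈ Q := mul_mem (hdQ a a.2) (inv_mem a.2)
  have hdu : Commute d u := hfix u huQ hyu
  have hpow : ∀ k : ℕ, d ^ k * a * (d ^ k)⁻¹ = u ^ k * a := by
    intro k
    induction k with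
    | zero => simp
    | succ k ih =>
      calc d ^ (k + 1) * a * (d ^ (k + 1))⁻¹ = d * (d ^ k * a * (d ^ k)⁻¹) * d⁻¹ := by
            rw [pow_succ']; simp [mul_assoc]
        _ = (d * u ^ k) * (a * d⁻¹) := by rw [ih]; simp [mul_assoc]
        _ = (u ^ k * d) * (a * d⁻¹) := by rw [(hdu.pow_right k).eq]
        _ = u ^ (k + 1) * a := by
            rw [pow_succ, hu]; simp [mul_assoc]
  have h1 := hpow (orderOf d)
  rw [pow_orderOf_eq_one, one_mul, inv_one, mul_one, right_eq_mul] at h1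
  have h2 : u = 1 := eq_one_of_two_group_odd hQ huQ (hd.of_dvd_nat (orderOf_dvd_of_pow_eq_one h1))
  refine ha ?_
  rw [hu, mul_inv_eq_one, mul_inv_eq_iff_eq_mul] at h2
  exact h2

omit [Finite G] in
theorem inv_of_fixedPointFree {W : Subgroup G} [Finite W] {z : G} (hz : z * z = 1)
    (hn : ∀ w ∈ W, z * w * z⁻¹ ∈ W) (hfpf : ∀ w ∈ W, Commute z w → w = 1) :
    ∀ w ∈ W, z * w * z⁻¹ = w⁻¹ := by
  have hzi : z⁻¹ = z := inv_eq_of_mul_eq_one_right hz
  let f : W → W := fun w => ⟨(w : G)⁻¹ * (z * w * z⁻¹), mul_mem (inv_mem w.2) (hn w w.2)⟩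
  have hinj : Function.Injective f := by
    intro v w h
    have h' : (v : G)⁻¹ * (z * v * z⁻¹) = (w : G)⁻¹ * (z * w * z⁻¹) := congrArg Subtype.val h
    apply Subtype.ext
    refine mul_inv_eq_one.1 (hfpf _ (mul_mem v.2 (inv_mem w.2)) (mul_inv_eq_iff_eq_mul.1 ?_))
    calc z * ((v : G) * (w : G)⁻¹) * z⁻¹
        = (v : G) * ((v : G)⁻¹ * (z * v * z⁻¹)) * (z * w * z⁻¹)⁻¹ := by simp [mul_assoc]
      _ = _ := by rw [h']; simp [mul_assoc]
  intro u hu
  obtain ⟨w, hw⟩ := (Finite.injective_iff_surjective.1 hinj) ⟨u, hu⟩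
  have hw' : (w : G)⁻¹ * (z * w * z⁻¹) = u := congrArg Subtype.val hw
  subst hw'
  calc z * ((w : G)⁻¹ * (z * w * z⁻¹)) * z⁻¹
      = (z * (w : G)⁻¹ * z⁻¹) * ((z * z) * w * (z⁻¹ * z⁻¹)) := by simp [mul_assoc]
    _ = (z * (w : G)⁻¹ * z⁻¹) * w := by rw [hzi, hz, one_mul, mul_one]
    _ = _ := by simp [mul_assoc]

end General

variable {X : Type*} [Group X] [Finite X]

/-- The centralizer of the element `x`. -/
abbrev C (x : X) : Subgroup X := Subgroup.centralizer ({x} : Set X)

/-- `O(C_X(x))`. -/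
abbrev W (x : X) : Subgroup X := (oddCore ↥(C x)).map (C x).subtype

omit [Finite X] in
theorem mem_C {x g : X} : g ∈ C x ↔ Commute g x := Subgroup.mem_centralizer_singleton_iff

theorem W_le (x : X) : W x ≤ C x := Subgroup.map_subtype_le _

theorem W_odd {x w : X} (h : w ∈ W x) : Odd (orderOf w) := by
  obtain ⟨v, hv, rfl⟩ := h
  rw [orderOf_injective _ (C x).subtype_injective]
  exact oddCore_odd.of_dvd_nat (Subgroup.orderOf_dvd_natCard _ hv)

theorem W_conj {x w g : X} (h : w ∈ W x) (hg : Commute g x) : g * w * g⁻¹ ∈ W x := by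
  obtain ⟨v, hv, rfl⟩ := h
  exact ⟨⟨g, mem_C.2 hg⟩ * v * ⟨g, mem_C.2 hg⟩⁻¹, oddCore_conj_mem hv _, rfl⟩

theorem W_transport (y g : X) {w : X} (hw : w ∈ W y) : g * w * g⁻¹ ∈ W (g * y * g⁻¹) := by
  obtain ⟨v, hv, rfl⟩ := hw
  let e : C y →* C (g * y * g⁻¹) :=
    ((MulAut.conj g).toMonoidHom.comp (C y).subtype).codRestrict _ (fun c => by
      refine mem_C.2 ?_
      show g * (c : X) * g⁻¹ * (g * y * g⁻¹) = g * y * g⁻¹ * (g * (c : X) * g⁻¹)
      calc g * (c : X) * g⁻¹ * (g * y * g⁻¹) = g * ((c : X) * y) * g⁻¹ := by simp [mul_assoc]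
        _ = g * (y * (c : X)) * g⁻¹ := by rw [(mem_C.1 c.2).eq]
        _ = _ := by simp [mul_assoc])
  have hinj : Function.Injective e := fun a b h => by
    have h' : g * (a : X) * g⁻¹ = g * (b : X) * g⁻¹ := congrArg Subtype.val h
    exact Subtype.ext (by simpa using h')
  have hsurj : Function.Surjective e := by
    rintro ⟨c, hc⟩
    have hc' := mem_C.1 hc
    refine ⟨⟨g⁻¹ * c * g, mem_C.2 ?_⟩, Subtype.ext ?_⟩
    · show g⁻¹ * c * g * y = y * (g⁻¹ * c * g)
      calc g⁻¹ * c * g * y = g⁻¹ * (c * (g * y * g⁻¹)) * g := by simp [mul_assoc]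
        _ = g⁻¹ * (g * y * g⁻¹ * c) * g := by rw [hc'.eq]
        _ = _ := by simp [mul_assoc]
    · show g * (g⁻¹ * c * g) * g⁻¹ = c
      simp [mul_assoc]
  refine ⟨e v, ?_, rfl⟩
  have hle : oddCore ↥(C y) ≤ (oddCore ↥(C (g * y * g⁻¹))).comap e := by
    refine sSup_le fun N hN => Subgroup.map_le_iff_le_comap.1 (le_sSup ⟨hN.1.map e hsurj, ?_⟩)
    rw [Subgroup.card_map_of_injective hinj]
    exact hN.2
  exact hle hv

theorem result {X : Type*} [Group X] [Finite X] (Y : Subgroup X) (hY : Cfsg.IsElementaryAbelian 2 Y) (h8 : 8 ≤ Nat.card ↥Y) (hE : ∀ x ∈ Y, x ≠ 1 → Cfsg.layer ↥(Subgroup.centralizer ({x} : Set X)) = ⊥) (hz : ∃ z ∈ Y, z ≠ 1 ∧ Cfsg.generalizedFittingSubgroup ↥(Subgroup.centralizer ({z} : Set X)) = Cfsg.pCore 2 ↥(Subgroup.centralizer ({z} : Set X))) : Odd (Nat.card ↥(⨆ y : {y : X // y ∈ Y ∧ y ≠ 1}, (Cfsg.oddCore ↥(Subgroup.centralizer ({(y : X)} : Set X))).map (Subgroup.centralizer ({(y : X)} : Set X)).subtype)) ∧ Subgroup.normalizer (Y : Set X) ≤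 Subgroup.normalizer ((⨆ y : {y : X // y ∈ Y ∧ y ≠ 1}, (Cfsg.oddCore ↥(Subgroup.centralizer ({(y : X)} : Set X))).map (Subgroup.centralizer ({(y : X)} : Set X)).subtype : Subgroup X) : Set X) := by
  obtain ⟨z, hzY, hz1, hzF⟩ := hz
  haveI := hY.1
  have hcomm : ∀ a ∈ Y, ∀ b ∈ Y, Commute a b := fun a ha b hb =>
    congrArg Subtype.val (mul_comm' (⟨a, ha⟩ : Y) ⟨b, hb⟩)
  have hsq : ∀ a ∈ Y, a * a = 1 := fun a ha => by rw [← pow_two]; exact hY.2 a ha
  -- z fixes no nontrivial element of W y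
  have hfpf : ∀ y ∈ Y, ∀ w ∈ W y, Commute z w → w = 1 := by
    intro y hy w hw hzw
    have hwz : w ∈ C z := mem_C.2 hzw.symm
    have hyz : y ∈ C z := mem_C.2 (hcomm y hy z hzY)
    let d : C z := ⟨w, hwz⟩
    let y' : C z := ⟨y, hyz⟩
    have hdo : Odd (orderOf d) := by rw [Subgroup.orderOf_mk]; exact W_odd hw
    have hQ : IsPGroup 2 (pCore 2 ↥(C z)) := pCore_isPGroup
    have hdc : ∀ q ∈ pCore 2 ↥(C z), Commute d q := by
      refine commute_of_fixed hQ hdo (y := y') (Subtype.ext (hsq y hy))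
        (Subtype.ext (mem_C.1 (W_le y hw)).eq) (fun q hq => pCore_conj_mem hq d)
        (fun q hq => pCore_conj_mem hq y') ?_
      intro q hq hyq
      have h1 : d * q * d⁻¹ * q⁻¹ ∈ pCore 2 ↥(C z) := mul_mem (pCore_conj_mem hq d) (inv_mem hq)
      have h2 : w * (q : X) * w⁻¹ * (q : X)⁻¹ ∈ W y := by
        have h3 := mul_mem hw (W_conj (inv_mem hw) (g := (q : X))
          (congrArg Subtype.val hyq.eq.symm))
        simpa [mul_assoc] using h3
      have h4 : Odd (orderOf (d * q * d⁻¹ * q⁻¹)) := by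
        have := W_odd h2
        rwa [← orderOf_injective _ (C z).subtype_injective]
      exact mul_inv_eq_iff_eq_mul.1 (mul_inv_eq_one.1 (eq_one_of_two_group_odd hQ h1 h4))
    have hF : fittingSubgroup ↥(C z) ≤ pCore 2 ↥(C z) := by
      rw [← hzF]; exact le_sup_right
    have hdF : d ∈ pCore 2 ↥(C z) :=
      hF (centralizer_fitting_le (hE z hzY hz1)
        (Subgroup.mem_centralizer_iff.2 fun q hq => (hdc q (hF hq)).symm.eq))
    exact congrArg Subtype.val (eq_one_of_two_group_odd hQ hdF hdo)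
  -- z inverts W y
  have hinv : ∀ y ∈ Y, ∀ w ∈ W y, z * w * z⁻¹ = w⁻¹ := fun y hy =>
    inv_of_fixedPointFree (hsq z hzY) (fun w hw => W_conj hw (hcomm z hzY y hy)) (hfpf y hy)
  have hab : ∀ y ∈ Y, ∀ v ∈ W y, ∀ w ∈ W y, Commute v w := by
    intro y hy v hv w hw
    have h1 := hinv y hy (v * w) (mul_mem hv hw)
    have h2 : z * (v * w) * z⁻¹ = (z * v * z⁻¹) * (z * w * z⁻¹) := by simp [mul_assoc]
    rw [h2, hinv y hy v hv, hinv y hy w hw, ← mul_inv_rev, inv_inj] at h1
    exact h1.symm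
  -- balance
  have hbal : ∀ y ∈ Y, y ≠ 1 → ∀ x ∈ Y, x ≠ 1 → ∀ w ∈ W y, Commute w x → w ∈ W x := by
    intro y hy _ x hx hx1 w hw hwx
    let d : C x := ⟨w, mem_C.2 hwx⟩
    let y' : C x := ⟨y, mem_C.2 (hcomm y hy x hx)⟩
    have hdo : Odd (orderOf d) := by rw [Subgroup.orderOf_mk]; exact W_odd hw
    have hQ : IsPGroup 2 (pCore 2 ↥(C x)) := pCore_isPGroup
    have hdc : ∀ q ∈ pCore 2 ↥(C x), Commute d q := by
      refine commute_of_fixed hQ hdo (y := y') (Subtype.ext (hsq y hy))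
        (Subtype.ext (mem_C.1 (W_le y hw)).eq) (fun q hq => pCore_conj_mem hq d)
        (fun q hq => pCore_conj_mem hq y') ?_
      intro q hq hyq
      have h1 : d * q * d⁻¹ * q⁻¹ ∈ pCore 2 ↥(C x) := mul_mem (pCore_conj_mem hq d) (inv_mem hq)
      have h2 : w * (q : X) * w⁻¹ * (q : X)⁻¹ ∈ W y := by
        have h3 := mul_mem hw (W_conj (inv_mem hw) (g := (q : X))
          (congrArg Subtype.val hyq.eq.symm))
        simpa [mul_assoc] using h3
      have h4 : Odd (orderOf (d * q * d⁻¹ * q⁻¹)) := by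
        have := W_odd h2
        rwa [← orderOf_injective _ (C x).subtype_injective]
      exact mul_inv_eq_iff_eq_mul.1 (mul_inv_eq_one.1 (eq_one_of_two_group_odd hQ h1 h4))
    have hdo' : ∀ o ∈ oddCore ↥(C x), Commute d o := by
      intro o ho
      have hoW : (o : X) ∈ W x := ⟨o, ho, rfl⟩
      have hoW' : w * (o : X) * w⁻¹ ∈ W x := W_conj hoW hwx
      have e1 := hinv x hx _ hoW'
      have e2 : z * (w * (o : X) * w⁻¹) * z⁻¹ = w⁻¹ * (o : X)⁻¹ * w := by
        have : z * (w * (o : X) * w⁻¹) * z⁻¹ =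
            (z * w * z⁻¹) * (z * (o : X) * z⁻¹) * (z * w * z⁻¹)⁻¹ := by simp [mul_assoc]
        rw [this, hinv y hy w hw, hinv x hx _ hoW, inv_inv]
      rw [e2] at e1
      have e3 : Commute (w * w) (o : X)⁻¹ := by
        show w * w * (o : X)⁻¹ = (o : X)⁻¹ * (w * w)
        calc w * w * (o : X)⁻¹ = w * (w * (o : X) * w⁻¹)⁻¹ * w := by simp [mul_assoc]
          _ = w * (w⁻¹ * (o : X)⁻¹ * w) * w := by rw [← e1]
          _ = _ := by simp [mul_assoc]
      obtain ⟨j, hj⟩ := W_odd hw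
      have e4 : (w * w) ^ (j + 1) = w := by
        rw [← pow_two, ← pow_mul, show 2 * (j + 1) = (2 * j + 1) + 1 from by ring, pow_succ,
          ← hj, pow_orderOf_eq_one, one_mul]
      have e5 := (e3.inv_right.pow_left (j + 1))
      rw [e4, inv_inv] at e5
      exact Subtype.ext e5.eq
    have hFd : ∀ f ∈ fittingSubgroup ↥(C x), Commute d f := by
      intro f hf
      have hle : oddCore ↥(C x) ⊔ pCore 2 ↥(C x) ≤ Subgroup.centralizer ({d} : Set (C x)) :=
        sup_le (fun o ho => Subgroup.mem_centralizer_singleton_iff.2 (hdo' o ho).symm)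
          (fun q hq => Subgroup.mem_centralizer_singleton_iff.2 (hdc q hq).symm)
      exact (Subgroup.mem_centralizer_singleton_iff.1 (hle (fitting_le hf))).symm
    have hd : d ∈ oddCore ↥(C x) ⊔ pCore 2 ↥(C x) :=
      fitting_le (centralizer_fitting_le (hE x hx hx1)
        (Subgroup.mem_centralizer_iff.2 fun f hf => (hFd f hf).symm.eq))
    have hle : pCore 2 ↥(C x) ≤ Subgroup.normalizer (oddCore ↥(C x) : Set ↥(C x)) :=
      le_normalizer_of_conj_mem fun k _ r hr => oddCore_conj_mem hr k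
    rw [← SetLike.mem_coe, Subgroup.coe_mul_of_right_le_normalizer_left _ _ hle] at hd
    obtain ⟨o, ho, q, hq, hoq⟩ := hd
    have hq1 : q = o⁻¹ * d := by rw [← hoq]; simp
    have hqo : Odd (orderOf q) := by
      rw [hq1]
      refine Odd.of_dvd_nat ?_ (((hdo' o ho).symm.inv_left).orderOf_mul_dvd_mul_orderOf)
      rw [orderOf_inv]
      exact (oddCore_odd.of_dvd_nat (Subgroup.orderOf_dvd_natCard _ ho)).mul hdo
    have := eq_one_of_two_group_odd hQ hq hqo
    subst this
    exact ⟨o, ho, by simpa [d] using congrArg Subtype.val hoq⟩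
  -- common eigenvectors
  let eig : X → X → Prop := fun b u => b * u * b⁻¹ = u ∨ b * u * b⁻¹ = u⁻¹
  let E : Set X := {u | (∃ y ∈ Y, y ≠ 1 ∧ u ∈ W y) ∧ ∀ b ∈ Y, eig b u}
  have hgen : ∀ y ∈ Y, y ≠ 1 → W y ≤ Subgroup.closure E := by
    intro y hy hy1
    suffices hs : ∀ S : Set X, S ⊆ (Y : Set X) → ∀ w ∈ W y,
        w ∈ Subgroup.closure {u | u ∈ W y ∧ ∀ b ∈ S, eig b u} by
      intro w hw
      refine Subgroup.closure_mono ?_ (hs (Y : Set X) le_rfl w hw)
      rintro u ⟨h1, h2⟩
      exact ⟨⟨y, hy, hy1, h1⟩, h2⟩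
    intro S
    induction S, (Set.toFinite S) using Set.Finite.induction_on with
    | empty =>
      intro _ w hw
      exact Subgroup.subset_closure ⟨hw, fun b hb => absurd hb (Set.notMem_empty b)⟩
    | @insert c T _ _ ih =>
      intro hS w hw
      have hcY : c ∈ Y := hS (Set.mem_insert _ _)
      have hTY : T ⊆ (Y : Set X) := fun t ht => hS (Set.mem_insert_of_mem _ ht)
      refine (Subgroup.closure_le _).2 ?_ (ih hTY w hw)
      rintro u ⟨huW, huT⟩
      set n := (Nat.card ↥(W y) + 1) / 2 with hn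
      have hodd : Odd (Nat.card ↥(W y)) := by
        rw [Subgroup.card_map_of_injective (C y).subtype_injective]
        exact oddCore_odd
      have hsqrt : ∀ v ∈ W y, (v * v) ^ n = v := by
        intro v hv
        obtain ⟨j, hj⟩ := hodd
        have e : v ^ Nat.card ↥(W y) = 1 :=
          orderOf_dvd_iff_pow_eq_one.1 (Subgroup.orderOf_dvd_natCard _ hv)
        rw [← pow_two, ← pow_mul, show 2 * n = Nat.card ↥(W y) + 1 from by omega, pow_succ, e,
          one_mul]
      set v := c * u * c⁻¹ with hv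
      have hvW : v ∈ W y := W_conj huW (hcomm c hcY y hy)
      have hcv : c * v * c⁻¹ = u := by
        rw [hv]
        have hci : c⁻¹ = c := inv_eq_of_mul_eq_one_right (hsq c hcY)
        calc c * (c * u * c⁻¹) * c⁻¹ = (c * c) * u * (c⁻¹ * c⁻¹) := by simp [mul_assoc]
          _ = u := by rw [hci, hsq c hcY, one_mul, mul_one]
      have huv : Commute u v := hab y hy u huW v hvW
      have hpe : ∀ (b p : X) (m : ℕ), eig b p → eig b (p ^ m) := by
        intro b p m hp
        rcases hp with hp | hp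
        · left; rw [← conj_pow, hp]
        · right; rw [← conj_pow, hp, inv_pow]
      have hbv : ∀ b ∈ T, eig b v ∧ ((b * u * b⁻¹ = u → b * v * b⁻¹ = v) ∧
          (b * u * b⁻¹ = u⁻¹ → b * v * b⁻¹ = v⁻¹)) := by
        intro b hb
        have hbc := hcomm b (hTY hb) c hcY
        have hbv : b * v * b⁻¹ = c * (b * u * b⁻¹) * c⁻¹ := by
          calc b * v * b⁻¹ = (b * c) * u * (b * c)⁻¹ := by simp [hv, mul_assoc]
            _ = (c * b) * u * (c * b)⁻¹ := by rw [hbc.eq]
            _ = _ := by simp [mul_assoc]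
        have i1 : b * u * b⁻¹ = u → b * v * b⁻¹ = v := fun e => by rw [hbv, e]
        have i2 : b * u * b⁻¹ = u⁻¹ → b * v * b⁻¹ = v⁻¹ := fun e => by
          rw [hbv, e, hv]; simp [mul_assoc]
        exact ⟨(huT b hb).imp i1 i2, i1, i2⟩
      have heu : u = (u * v) ^ n * (u * v⁻¹) ^ n := by
        have hc : Commute (u * v) (u * v⁻¹) :=
          ((Commute.refl u).mul_right huv.inv_right).mul_left
            (huv.symm.mul_right (Commute.refl v).inv_right)
        rw [← hc.mul_pow]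
        have : u * v * (u * v⁻¹) = u * u := by
          rw [mul_assoc, ← mul_assoc v, ← huv.eq, mul_inv_cancel_right]
        rw [this, hsqrt u huW]
      rw [heu]
      refine mul_mem (Subgroup.subset_closure ⟨pow_mem (mul_mem huW hvW) n, ?_⟩)
        (Subgroup.subset_closure ⟨pow_mem (mul_mem huW (inv_mem hvW)) n, ?_⟩)
      · intro b hb
        refine hpe b _ n ?_
        rcases hb with rfl | hb
        · left
          calc b * (u * v) * b⁻¹ = (b * u * b⁻¹) * (b * v * b⁻¹) := by simp [mul_assoc]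
            _ = u * v := by rw [← hv, hcv]; exact huv.symm.eq
        · obtain ⟨-, i1, i2⟩ := hbv b hb
          have hm : b * (u * v) * b⁻¹ = (b * u * b⁻¹) * (b * v * b⁻¹) := by simp [mul_assoc]
          rcases huT b hb with e | e
          · left; rw [hm, e, i1 e]
          · right; rw [hm, e, i2 e, ← mul_inv_rev, huv.eq]
      · intro b hb
        refine hpe b _ n ?_
        rcases hb with rfl | hb
        · right
          calc b * (u * v⁻¹) * b⁻¹ = (b * u * b⁻¹) * (b * v * b⁻¹)⁻¹ := by simp [mul_assoc]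
            _ = (u * v⁻¹)⁻¹ := by rw [← hv, hcv]; simp
        · obtain ⟨-, i1, i2⟩ := hbv b hb
          have hm : b * (u * v⁻¹) * b⁻¹ = (b * u * b⁻¹) * (b * v * b⁻¹)⁻¹ := by simp [mul_assoc]
          rcases huT b hb with e | e
          · left; rw [hm, e, i1 e]
          · right; rw [hm, e, i2 e, inv_inv, mul_inv_rev, inv_inv, huv.inv_left.eq]
  have hEcomm : ∀ u ∈ E, ∀ v ∈ E, Commute u v := by
    classical
    rintro u ⟨⟨y, hy, hy1, hu⟩, hu'⟩ v ⟨⟨y', hy', hy'1, hv⟩, hv'⟩
    obtain ⟨b, hb, hb1, hbu, hbv⟩ : ∃ b ∈ Y, b ≠ 1 ∧ Commute b u ∧ Commute b v := by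
      by_contra hno
      push_neg at hno
      let f : Y → Bool × Bool := fun b => (decide (Commute (b : X) u), decide (Commute (b : X) v))
      have hf : Function.Injective f := by
        intro a a' haa
        simp only [f, Prod.mk.injEq, decide_eq_decide] at haa
        have key : ∀ t : X, (∀ b ∈ Y, eig b t) → (Commute (a : X) t ↔ Commute (a' : X) t) →
            Commute ((a : X) * a') t := by
          intro t ht hiff
          by_cases hc : Commute (a : X) t
          · exact hc.mul_left (hiff.1 hc)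
          · have hc' : ¬ Commute (a' : X) t := fun h => hc (hiff.2 h)
            have e1 := (ht a a.2).resolve_left fun e => hc (mul_inv_eq_iff_eq_mul.1 e)
            have e2 := (ht a' a'.2).resolve_left fun e => hc' (mul_inv_eq_iff_eq_mul.1 e)
            refine mul_inv_eq_iff_eq_mul.1 ?_
            calc (a : X) * a' * t * ((a : X) * a')⁻¹
                = (a : X) * ((a' : X) * t * (a' : X)⁻¹) * (a : X)⁻¹ := by simp [mul_assoc]
              _ = ((a : X) * t * (a : X)⁻¹)⁻¹ := by rw [e2]; simp [mul_assoc]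
              _ = t := by rw [e1, inv_inv]
        by_contra hne
        refine hno ((a : X) * a') (mul_mem a.2 a'.2) ?_ (key u hu' haa.1) (key v hv' haa.2)
        intro h1
        apply hne
        apply Subtype.ext
        rw [← inv_eq_of_mul_eq_one_right (hsq a a.2)]
        exact inv_eq_of_mul_eq_one_right h1
      have := Nat.card_le_card_of_injective f hf
      simp at this
      omega
    exact hab b hb u (hbal y hy hy1 b hb hb1 u hu hbu.symm) v
      (hbal y' hy' hy'1 b hb hb1 v hv hbv.symm)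
  refine ⟨?_, ?_⟩
  · set J := ⨆ y : {y : X // y ∈ Y ∧ y ≠ 1}, W (y : X)
    show Odd (Nat.card ↥J)
    have hJ : J ≤ Subgroup.closure E := iSup_le fun y => hgen _ y.2.1 y.2.2
    have hc : ∀ a ∈ Subgroup.closure E, ∀ b ∈ Subgroup.closure E, Commute a b := by
      haveI := Subgroup.isMulCommutative_closure (k := E) (fun a ha b hb => (hEcomm a ha b hb).eq)
      intro a ha b hb
      exact congrArg Subtype.val (mul_comm' (⟨a, ha⟩ : Subgroup.closure E) ⟨b, hb⟩)
    have hall : ∀ g ∈ Subgroup.closure E, Odd (orderOf g) := by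
      intro g hg
      induction hg using Subgroup.closure_induction with
      | mem u hu =>
        obtain ⟨⟨y, -, -, huW⟩, -⟩ := hu
        exact W_odd huW
      | one => rw [orderOf_one]; exact odd_one
      | mul a b ha hb iha ihb =>
        exact (iha.mul ihb).of_dvd_nat (hc a ha b hb).orderOf_mul_dvd_mul_orderOf
      | inv a _ iha => rwa [orderOf_inv]
    by_contra hev
    rw [Nat.not_odd_iff_even, even_iff_two_dvd] at hev
    haveI : Fact (Nat.Prime 2) := ⟨Nat.prime_two⟩
    obtain ⟨g, hg⟩ := exists_prime_orderOf_dvd_card' (G := ↥J) 2 hev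
    have := hall g (hJ g.2)
    rw [Subgroup.orderOf_coe, hg] at this
    exact absurd this (by decide)
  · refine le_normalizer_of_conj_mem fun g hg r hr => ?_
    refine conj_mem_sSup ?_ hr
    rintro A ⟨⟨y, hy, hy1⟩, rfl⟩ a ha
    have hy' : g * y * g⁻¹ ∈ Y := (Subgroup.mem_normalizer_iff.1 hg y).1 hy
    exact le_iSup (fun y : {y : X // y ∈ Y ∧ y ≠ 1} => W (y : X))
      ⟨g * y * g⁻¹, hy', by simpa using hy1⟩ (W_transport y g ha)

end Cfsg.Agent.S2924
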