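import Cfsg.Statements.S2925
import Cfsg.Agent.Layer.Components
import Cfsg.Agent.LocalStructure.CharP

set_option autoImplicit false
set_option linter.style.haveILetI false
open Cfsg

namespace Cfsg.Agent.S2925

/-- Let K be a component of the finite group X and T a Sylow 2-subgroup of X. If some abelian normal subgroup Y of T does not normalize K, then K ⧸ Z(K) has abelian Sylow 2-subgroups. -/
theorem result {X : Type*} [Group X] [Finite X] (K : Subgroup X) (hK : Cfsg.IsComponent K) (T : Sylow 2 X) (Y : Subgroup X) (hYT : Y ≤ (T : Subgroup X)) (hYn : (Y.subgroupOf (T : Subgroup X)).Normal) (hYab : IsMulCommutative ↥Y) (hnot : ¬ Y ≤ Subgroup.normalizer (K : Set X)) (P : Sylow 2 (↥K ⧸ Subgroup.center ↥K)) : IsMulCommutative ↥(P : Subgroup (↥K ⧸ Subgroup.center ↥K)) := by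
  classical
  haveI : Fact (Nat.Prime 2) := ⟨Nat.prime_two⟩
  obtain ⟨y, hy, hyK⟩ := SetLike.not_le_iff_exists.mp hnot
  set K' := K.map (MulAut.conj y).toMonoidHom with hK'
  have hne : K ≠ K' := fun h => hyK (Subgroup.mem_normalizer_iff_map_conj_eq.mpr h.symm)
  have hc := Cfsg.Agent.Layer.components_commute hK (Cfsg.Agent.Layer.isComponent_map_conj hK y) hne
  have hTK : IsPGroup 2 ↥((T : Subgroup X).subgroupOf K) := T.2.comap_subtype
  set P₀ := hTK.toSylow (show ¬ 2 ∣ ((T : Subgroup X).subgroupOf K).index from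
    Cfsg.Agent.LocalStructure.not_dvd_relIndex_subnormal T hK.1) with hP₀
  obtain ⟨Q, hQ⟩ := Sylow.mapSurjective_surjective (QuotientGroup.mk'_surjective (Subgroup.center ↥K)) 2 P
  obtain ⟨g, hg⟩ := MulAction.exists_smul_eq ↥K P₀ Q
  have key : ∀ r ∈ (T : Subgroup X).subgroupOf K, ∀ s ∈ (T : Subgroup X).subgroupOf K,
      QuotientGroup.mk' (Subgroup.center ↥K) (r * s) = QuotientGroup.mk' (Subgroup.center ↥K) (s * r) := by
    intro r hr s hs
    have hc' : ∀ z ∈ (T : Subgroup X), y * z * y⁻¹ * z⁻¹ ∈ Y := by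
      intro z hz
      have h1 : z * y⁻¹ * z⁻¹ ∈ Y :=
        hYn.conj_mem ⟨y⁻¹, hYT (Y.inv_mem hy)⟩ (Y.inv_mem hy) ⟨z, hz⟩
      rw [show y * z * y⁻¹ * z⁻¹ = y * (z * y⁻¹ * z⁻¹) by group]
      exact Y.mul_mem hy h1
    have hab := congrArg Subtype.val
      (hYab.is_comm.comm (⟨_, hc' _ hr⟩ : Y) ⟨_, hc' _ hs⟩)
    simp only [Subgroup.coe_mul] at hab
    set u := y * (r : X) * y⁻¹ with hu
    set v := y * (s : X) * y⁻¹ with hv
    have hu' : u ∈ K' := ⟨r, r.2, rfl⟩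
    have hv' : v ∈ K' := ⟨s, s.2, rfl⟩
    have cru : (r : X)⁻¹ * v = v * (r : X)⁻¹ :=
      Cfsg.Agent.Layer.commute_of_commutator_eq_bot hc (K.inv_mem r.2) hv'
    have csu : (s : X)⁻¹ * u = u * (s : X)⁻¹ :=
      Cfsg.Agent.Layer.commute_of_commutator_eq_bot hc (K.inv_mem s.2) hu'
    have h2 : (v * u)⁻¹ * (u * v) = (s : X)⁻¹ * (r : X)⁻¹ * s * r := by
      have e : u * v * ((r : X)⁻¹ * (s : X)⁻¹) = v * u * ((s : X)⁻¹ * (r : X)⁻¹) := by
        calc u * v * ((r : X)⁻¹ * (s : X)⁻¹) = u * (v * (r : X)⁻¹) * (s : X)⁻¹ := by group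
          _ = u * ((r : X)⁻¹ * v) * (s : X)⁻¹ := by rw [cru]
          _ = u * (r : X)⁻¹ * (v * (s : X)⁻¹) := by group
          _ = v * (s : X)⁻¹ * (u * (r : X)⁻¹) := hab
          _ = v * ((s : X)⁻¹ * u) * (r : X)⁻¹ := by group
          _ = v * (u * (s : X)⁻¹) * (r : X)⁻¹ := by rw [csu]
          _ = _ := by group
      calc (v * u)⁻¹ * (u * v) = (v * u)⁻¹ * (u * v * ((r : X)⁻¹ * (s : X)⁻¹)) * ((s : X) * r) := by group
        _ = (v * u)⁻¹ * (v * u * ((s : X)⁻¹ * (r : X)⁻¹)) * ((s : X) * r) := by rw [e]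
        _ = _ := by group
    refine QuotientGroup.eq.mpr (Subgroup.mem_center_iff.mpr fun k => Subtype.ext ?_)
    have hz : (((r * s)⁻¹ * (s * r) : ↥K) : X) ∈ K' := by
      rw [show (((r * s)⁻¹ * (s * r) : ↥K) : X) = (s : X)⁻¹ * (r : X)⁻¹ * s * r by push_cast; group, ← h2]
      exact K'.mul_mem (K'.inv_mem (K'.mul_mem hv' hu')) (K'.mul_mem hu' hv')
    exact Cfsg.Agent.Layer.commute_of_commutator_eq_bot hc k.2 hz
  refine ⟨⟨?_⟩⟩
  rintro ⟨a, ha⟩ ⟨b, hb⟩
  rw [← hQ, Sylow.coe_mapSurjective, ← hg, Sylow.coe_subgroup_smul] at ha hb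
  obtain ⟨_, ⟨r, hr, rfl⟩, rfl⟩ := ha
  obtain ⟨_, ⟨s, hs, rfl⟩, rfl⟩ := hb
  have hk := key r hr s hs
  rw [map_mul, map_mul] at hk
  apply Subtype.ext
  simp only [MulDistribMulAction.toMonoidEnd_apply, MulDistribMulAction.toMonoidHom_apply,
    MulAut.smul_def, MulAut.conj_apply, Subgroup.coe_mul, map_mul, map_inv]
  calc _ = QuotientGroup.mk' (Subgroup.center ↥K) g * (QuotientGroup.mk' (Subgroup.center ↥K) r *
        QuotientGroup.mk' (Subgroup.center ↥K) s) * (QuotientGroup.mk' (Subgroup.center ↥K) g)⁻¹ := by group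
    _ = _ := by rw [hk]; group

end Cfsg.Agent.S2925
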