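import Cfsg.Statements.S2929
import Cfsg.Agent.SymOdd.ThreeOver

set_option autoImplicit false
open Cfsg

namespace Cfsg.Agent.S2929

open Equiv Equiv.Perm Subgroup
open Cfsg.Agent.SymOdd
open scoped commutatorElement

theorem left_point {α : Type*} [DecidableEq α] [Fintype α] {a b c : α} (hab : a ≠ b) (hac : a ≠ c)
    (hbc : b ≠ c) {g : Perm α} (hg : Commute g (cyc a b c)) : ∃ i : ℕ, g a = (cyc a b c ^ i) a := by
  have hne : cyc a b c (g a) ≠ g a := by
    have h := congrArg (fun f : Perm α => f a) hg.eq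
    simp only [Perm.mul_apply, cyc_apply_left hab hac] at h
    rw [← h]
    exact fun e => hab (g.injective e).symm
  by_cases h1 : g a = a
  · exact ⟨0, by simpa using h1⟩
  by_cases h2 : g a = b
  · exact ⟨1, by rw [pow_one, cyc_apply_left hab hac, h2]⟩
  by_cases h3 : g a = c
  · exact ⟨2, by rw [sq, Perm.mul_apply, cyc_apply_left hab hac, cyc_apply_mid hac hbc, h3]⟩
  exact absurd (cyc_apply_of_ne h1 h2 h3) hne

theorem commutator_fix {α : Type*} [DecidableEq α] [Fintype α] {a b c : α} (hab : a ≠ b) (hac : a ≠ c)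
    (hbc : b ≠ c) {g h : Perm α} (hg : Commute g (cyc a b c)) (hh : Commute h (cyc a b c)) :
    ⁅g, h⁆ a = a := by
  obtain ⟨i, hi⟩ := left_point hab hac hbc hg
  obtain ⟨j, hj⟩ := left_point hab hac hbc hh
  obtain ⟨k, hk⟩ := left_point hab hac hbc (g := (h * g)⁻¹) (hh.mul_left hg).inv_left
  set σ := cyc a b c
  have comm : ∀ (f : Perm α) (n : ℕ) (x : α), Commute f σ → f ((σ ^ n) x) = (σ ^ n) (f x) :=
    fun f n x hf => congrArg (fun u : Perm α => u x) (hf.pow_right n).eq
  have e0 : g (h a) = h (g a) := by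
    rw [hj, comm g j a hg, hi, comm h i a hh, hj]
    rw [← Perm.mul_apply, ← pow_add, ← Perm.mul_apply (σ ^ i), ← pow_add, add_comm]
  rw [commutatorElement_def, show g * h * g⁻¹ * h⁻¹ = (g * h) * (h * g)⁻¹ by group, Perm.mul_apply, hk]
  rw [comm (g * h) k a (hg.mul_left hh), Perm.mul_apply, e0,
    ← comm h k (g a) hh, ← comm g k a hg, ← hk, ← Perm.mul_apply h g, ← Perm.mul_apply (h * g),
    mul_inv_cancel, Perm.one_apply]

/-- Let n ≥ 5 and let H be a subgroup of the symmetric group of degree n whose generalized Fitting subgroup F*(H) is quasisimple. If H contains a Sylow 3-subgroup of the symmetric group, then F*(H) is isomorphic to an alternating group of degree m for some m ∈ {n − 2, n − 1, n}. -/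
theorem result (n : ℕ) (hn : 5 ≤ n) (H : Subgroup (Equiv.Perm (Fin n))) (hF : Cfsg.IsQuasisimple ↥(Cfsg.generalizedFittingSubgroup ↥H)) (hS : ∃ P : Sylow 3 (Equiv.Perm (Fin n)), (P : Subgroup (Equiv.Perm (Fin n))) ≤ H) : ∃ m : ℕ, (m = n - 2 ∨ m = n - 1 ∨ m = n) ∧ Nonempty (↥(Cfsg.generalizedFittingSubgroup ↥H) ≃* ↥(alternatingGroup (Fin m))) := by
  classical
  obtain ⟨P, hP⟩ := hS
  set L := Cfsg.generalizedFittingSubgroup ↥H with hL
  let a := n / 3
  have ha1 : 1 ≤ a := by omega
  have hlt : ∀ i : Fin a, 3 * (i : ℕ) + 2 < n := fun i => by have := i.2; omega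
  let q : Fin a → Fin 3 → Fin n := fun i j => ⟨3 * i + j, by have := hlt i; have := j.2; omega⟩
  have hq : ∀ i i' j j', q i j = q i' j' → i = i' ∧ j = j' := fun i i' j j' e => by
    have := congrArg Fin.val e
    simp only [q] at this
    have := j.2
    have := j'.2
    exact ⟨Fin.ext (by omega), Fin.ext (by omega)⟩
  let β : Fin a → Perm (Fin n) := fun i => cyc (q i 0) (q i 1) (q i 2)
  have hd : ∀ i, q i 0 ≠ q i 1 ∧ q i 0 ≠ q i 2 ∧ q i 1 ≠ q i 2 := fun i =>
    ⟨fun e => absurd (hq _ _ _ _ e).2 (by decide), fun e => absurd (hq _ _ _ _ e).2 (by decide),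
      fun e => absurd (hq _ _ _ _ e).2 (by decide)⟩
  have hB : ∀ k, IsPGroup 3 ↥(closure (β '' {i | (i : ℕ) < k})) := by
    intro k
    induction k with
    | zero =>
      rw [show {i : Fin a | (i : ℕ) < 0} = ∅ by ext; simp, Set.image_empty, Subgroup.closure_empty]
      exact IsPGroup.of_bot
    | succ k ih =>
      by_cases hk : k < a
      · rw [show {i : Fin a | (i : ℕ) < k + 1} = (insert (⟨k, hk⟩ : Fin a) {i : Fin a | (i : ℕ) < k} : Set (Fin a)) by
          ext i; simp [Fin.ext_iff]; omega, Set.image_insert_eq, Set.insert_eq, Subgroup.closure_union,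
          ← zpowers_eq_closure]
        obtain ⟨h01, h02, h12⟩ := hd ⟨k, hk⟩
        refine IsPGroup.to_sup_of_normal_right' ?_ ih ?_
        · exact IsPGroup.of_card (n := 1) (by
            rw [Nat.card_zpowers, (cyc_isThreeCycle h01 h02 h12).orderOf, pow_one])
        · rw [zpowers_le]
          refine centralizer_le_normalizer _ ?_
          rw [centralizer_closure, mem_centralizer_iff]
          rintro _ ⟨i, hi, rfl⟩
          refine (Perm.Disjoint.commute (f := β i) fun x => ?_).eq
          have hne : ∀ j j', q i j ≠ q ⟨k, hk⟩ j' := fun j j' e =>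
            absurd (congrArg Fin.val (hq _ _ _ _ e).1) (Nat.ne_of_lt hi)
          by_cases h : ∃ j, x = q i j
          · obtain ⟨j, rfl⟩ := h
            exact Or.inr (cyc_apply_of_ne (hne j 0) (hne j 1) (hne j 2))
          · push Not at h
            exact Or.inl (cyc_apply_of_ne (h 0) (h 1) (h 2))
      · rw [show {i : Fin a | (i : ℕ) < k + 1} = {i : Fin a | (i : ℕ) < k} by
          ext i; simp; have := i.2; omega]
        exact ih
  haveI : Fact (Nat.Prime 3) := ⟨Nat.prime_three⟩
  obtain ⟨S, hS'⟩ := (hB a).exists_le_sylow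
  obtain ⟨g, rfl⟩ := MulAction.exists_smul_eq (Perm (Fin n)) P S
  let r : Fin a → Fin 3 → Fin n := fun i j => g⁻¹ (q i j)
  have hr : ∀ i i' j j', r i j = r i' j' → i = i' ∧ j = j' := fun i i' j j' e =>
    hq _ _ _ _ (g⁻¹.injective e)
  have hrd : ∀ i, r i 0 ≠ r i 1 ∧ r i 0 ≠ r i 2 ∧ r i 1 ≠ r i 2 := fun i =>
    ⟨fun e => (hd i).1 (g⁻¹.injective e), fun e => (hd i).2.1 (g⁻¹.injective e),
      fun e => (hd i).2.2 (g⁻¹.injective e)⟩
  have hrH : ∀ i, cyc (r i 0) (r i 1) (r i 2) ∈ H := by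
    intro i
    have h := hS' (subset_closure ⟨i, i.2, rfl⟩)
    rw [Sylow.smul_def, Sylow.pointwise_smul_def, Subgroup.mem_pointwise_smul_iff_inv_smul_mem,
      ← map_inv, MulAut.smul_def, MulAut.conj_apply, cyc_conj] at h
    exact hP h
  let T : Finset (Fin n) := Finset.univ.image fun ij : Fin a × Fin 3 => r ij.1 ij.2
  have hT : T.card = 3 * a := by
    rw [Finset.card_image_of_injective _ fun x y e => Prod.ext (hr _ _ _ _ e).1 (hr _ _ _ _ e).2]
    simp [mul_comm]
  have h3 : ∀ i, (Finset.card ({r i 0, r i 1, r i 2} : Finset (Fin n))) = 3 := fun i =>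
    Finset.card_eq_three.mpr ⟨_, _, _, (hrd i).1, (hrd i).2.1, (hrd i).2.2, rfl⟩
  by_cases hbig : ∃ Δ : Finset (Fin n), Full H Δ ∧ 3 ≤ Δ.card ∧
      (∀ Δ', Full H Δ' → Δ ⊆ Δ' → Δ' = Δ) ∧ 5 ≤ Δ.card ∧ L = (altOn Δ).subgroupOf H
  · obtain ⟨Δ, hΔ, hΔ3, hmax, hΔ5, hLe⟩ := hbig
    have hsub : T ⊆ Δ := by
      intro x hx
      simp only [T, Finset.mem_image, Finset.mem_univ, true_and, Prod.exists] at hx
      obtain ⟨i, j, rfl⟩ := hx
      obtain ⟨h01, h02, h12⟩ := hrd i
      rcases cyc_in_or_out hΔ hΔ3 hmax h01 h02 h12 (hrH i) with ⟨h0, h1, h2⟩ | ⟨h0, h1, h2⟩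
      · fin_cases j <;> assumption
      · exfalso
        have hc : (⟨_, hrH i⟩ : ↥H) ∈ L := Cfsg.Agent.Layer.centralizer_generalizedFitting_le
          (mem_centralizer_iff.mpr fun z hz => Subtype.ext
            (cyc_commute_altOn h0 h1 h2 (show (z : Perm (Fin n)) ∈ altOn Δ by
              change z ∈ L at hz; rwa [hLe] at hz)).eq.symm)
        rw [hLe] at hc
        have := altOn_fixes (mem_subgroupOf.mp hc) h0
        rw [cyc_apply_left h01 h02] at this
        exact h01 this.symm
    have hm1 := Finset.card_le_card hsub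
    have hm2 : Δ.card ≤ n := by simpa using Δ.card_le_univ
    refine ⟨Δ.card, by omega, ⟨?_⟩⟩
    let e₀ : {x // x ∈ Δ} ≃ Fin Δ.card := Δ.equivFin
    let eA : ↥(alternatingGroup {x // x ∈ Δ}) ≃* ↥(alternatingGroup (Fin Δ.card)) :=
      ((e₀.permCongrHom).subgroupMap (alternatingGroup {x // x ∈ Δ})).trans
        (MulEquiv.subgroupCongr (by
          ext σ
          constructor
          · rintro ⟨τ, hτ, rfl⟩
            rw [Equiv.Perm.mem_alternatingGroup] at *
            exact (Equiv.Perm.sign_permCongr e₀ τ).trans hτ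
          · intro hσ
            refine ⟨e₀.symm.permCongr σ, ?_, ?_⟩
            · rw [SetLike.mem_coe, Equiv.Perm.mem_alternatingGroup] at *
              exact (Equiv.Perm.sign_permCongr e₀.symm σ).trans hσ
            · ext x; simp))
    exact (MulEquiv.subgroupCongr hLe).trans ((subgroupOfEquivOfLe (altOn_le_of_full hΔ)).trans
      (((alternatingGroup {x // x ∈ Δ}).equivMapOfInjective _ Perm.ofSubtype_injective).symm.trans eA))
  exfalso
  have hcent : ∀ {x y z : Fin n}, x ≠ y → x ≠ z → y ≠ z → cyc x y z ∈ H →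
      ∀ l ∈ L, Commute (l : Perm (Fin n)) (cyc x y z) := by
    intro x y z hxy hxz hyz h l hl
    obtain ⟨Δ, hsub, hΔ, hmax⟩ := exists_max (full_triple hxy hxz hyz h)
    have hΔ3 : 3 ≤ Δ.card := by
      have := Finset.card_le_card hsub
      rwa [Finset.card_eq_three.mpr ⟨x, y, z, hxy, hxz, hyz, rfl⟩] at this
    rcases fstar_eq hF hΔ hΔ3 hmax with ⟨h5, e⟩ | hc
    · exact absurd ⟨Δ, hΔ, hΔ3, hmax, h5, e⟩ hbig
    · have hmem : (⟨_, h⟩ : ↥H) ∈ (altOn Δ).subgroupOf H :=
        cyc_mem_altOn (hsub (by simp)) (hsub (by simp)) (hsub (by simp)) hxy hxz hyz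
      exact congrArg Subtype.val (mem_centralizer_iff.mp (hc hmem) l hl)
  have hfix : ∀ l ∈ L, ∀ x ∈ T, (l : Perm (Fin n)) x = x := by
    intro l hl x hx
    rw [← Cfsg.Agent.Layer.qs_subgroup_perfect hF] at hl
    simp only [T, Finset.mem_image, Finset.mem_univ, true_and, Prod.exists] at hx
    obtain ⟨i, j, rfl⟩ := hx
    have key : ∀ u v w : Fin n, u ≠ v → u ≠ w → v ≠ w → cyc u v w ∈ H → (l : Perm (Fin n)) u = u := by
      intro u v w huv huw hvw hc
      let F : Subgroup ↥H :=
        { carrier := {f | (f : Perm (Fin n)) u = u}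
          one_mem' := rfl
          mul_mem' := fun {f f'} hf hf' => by
            show (f : Perm (Fin n)) ((f' : Perm (Fin n)) u) = u
            rw [show (f' : Perm (Fin n)) u = u from hf', show (f : Perm (Fin n)) u = u from hf]
          inv_mem' := fun {f} hf => by
            show ((f : Perm (Fin n))⁻¹) u = u
            rw [Perm.inv_eq_iff_eq]; exact (show (f : Perm (Fin n)) u = u from hf).symm }
      have hle : ⁅L, L⁆ ≤ F := commutator_le.mpr fun f hf f' hf' => by
        show ((⁅f, f'⁆ : ↥H) : Perm (Fin n)) u = u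
        simp only [commutatorElement_def, Subgroup.coe_mul, InvMemClass.coe_inv]
        rw [← commutatorElement_def]
        exact commutator_fix huv huw hvw (hcent huv huw hvw hc f hf) (hcent huv huw hvw hc f' hf')
      exact hle hl
    obtain ⟨h01, h02, h12⟩ := hrd i
    have hc1 : cyc (r i 1) (r i 2) (r i 0) ∈ H := by rw [cyc_rot h01 h02 h12]; exact hrH i
    have hc2 : cyc (r i 2) (r i 0) (r i 1) ∈ H := by rw [cyc_rot h12 h01.symm h02.symm]; exact hc1
    fin_cases j
    · exact key _ _ _ h01 h02 h12 (hrH i)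
    · exact key _ _ _ h12 h01.symm h02.symm hc1
    · exact key _ _ _ h02.symm h12.symm h01 hc2
  have hsq : ∀ l ∈ L, l * l = 1 := by
    intro l hl
    apply Subtype.ext
    have hsupp : (l : Perm (Fin n)).support ⊆ Finset.univ \ T := fun x hx => by
      rw [Finset.mem_sdiff]
      exact ⟨Finset.mem_univ x, fun hxT => mem_support.mp hx (hfix l hl x hxT)⟩
    have hcard : (l : Perm (Fin n)).support.card ≤ 2 := by
      refine (Finset.card_le_card hsupp).trans ?_
      rw [Finset.card_sdiff_of_subset (Finset.subset_univ _), hT, Finset.card_univ, Fintype.card_fin]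
      omega
    show (l : Perm (Fin n)) * l = 1
    rcases eq_or_ne (l : Perm (Fin n)) 1 with h | h
    · rw [h, one_mul]
    · obtain ⟨x, y, -, e⟩ := card_support_eq_two.mp
        (le_antisymm hcard (two_le_card_support_of_ne_one h))
      rw [e, swap_mul_self]
  refine Cfsg.Agent.Layer.qs_not_isSolvable hF (Group.isSolvable_of_comm fun x y => Subtype.ext ?_)
  have hinv : ∀ l ∈ L, l⁻¹ = l := fun l hl => inv_eq_of_mul_eq_one_left (hsq l hl)
  show (x : ↥H) * y = y * x
  conv_lhs => rw [← hinv _ (mul_mem x.2 y.2), mul_inv_rev, hinv _ x.2, hinv _ y.2]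

end Cfsg.Agent.S2929
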