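import Cfsg.Statements.S2928
import Cfsg.Agent.SymOdd.TwoDegree
-- import your own Cfsg.Agent.* helpers here

set_option autoImplicit false
open Cfsg

namespace Cfsg.Agent.S2928

open Equiv Equiv.Perm Subgroup
open Cfsg.Agent.SymOdd

variable {n : ℕ}

/-- The standard pairing. -/
def pair0 (n : ℕ) (i : Fin n) : Fin n :=
  if h : i.1 % 2 = 0 ∧ i.1 + 1 < n then ⟨i.1 + 1, h.2⟩
  else if i.1 % 2 = 1 then ⟨i.1 - 1, by omega⟩ else i

theorem pair0_val (i : Fin n) : (pair0 n i).1 =
    if i.1 % 2 = 0 ∧ i.1 + 1 < n then i.1 + 1 else if i.1 % 2 = 1 then i.1 - 1 else i.1 := by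
  unfold pair0
  split_ifs <;> rfl

theorem pair0_invol (i : Fin n) : pair0 n (pair0 n i) = i := by
  apply Fin.ext
  have := i.2
  rw [pair0_val, pair0_val]
  split_ifs <;> omega

/-- The standard pairing, as a permutation. -/
def pi0 (n : ℕ) : Perm (Fin n) := (Function.Involutive.toPerm _ (pair0_invol (n := n)))

theorem pi0_val (i : Fin n) : (pi0 n i).1 =
    if i.1 % 2 = 0 ∧ i.1 + 1 < n then i.1 + 1 else if i.1 % 2 = 1 then i.1 - 1 else i.1 := pair0_val i

theorem pi0_pairing : Pairing (pi0 n) := by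
  refine ⟨fun x => pair0_invol x, fun x y hx hy => Fin.ext ?_⟩
  have hx' := congrArg Fin.val hx
  have hy' := congrArg Fin.val hy
  rw [pi0_val] at hx' hy'
  have := x.2
  have := y.2
  split_ifs at hx' hy' <;> omega

theorem good_of {α : Type*} [DecidableEq α] [Fintype α] {H : Subgroup (Perm α)} {a b c d : α}
    (hab : a ≠ b) (hac : a ≠ c) (had : a ≠ d) (hbc : b ≠ c) (hbd : b ≠ d) (hcd : c ≠ d)
    (h1 : swap a b * swap c d ∈ H) (h2 : swap a c * swap b d ∈ H) : Good H {a, b, c, d} := by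
  have h3 : swap a d * swap b c ∈ H := by
    have e : swap a d * swap b c = (swap a b * swap c d) * (swap a c * swap b d) := by
      ext z
      simp only [Perm.mul_apply, swap_apply_def]
      grind
    exact e ▸ mul_mem h1 h2
  refine ⟨by simp [hab, hac, had, hbc, hbd, hcd], ?_⟩
  have c1 := (swap_commute hac had hbc hbd).eq
  have c2 := (swap_commute hab had hbc.symm hcd).eq
  have c3 := (swap_commute hab hac hbd.symm hcd.symm).eq
  simp only [Finset.mem_insert, Finset.mem_singleton]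
  intro x hx y hy z hz w hw
  rcases hx with rfl | rfl | rfl | rfl <;> rcases hy with rfl | rfl | rfl | rfl <;>
    rcases hz with rfl | rfl | rfl | rfl <;> rcases hw with rfl | rfl | rfl | rfl <;>
    intro k1 k2 k3 k4 k5 k6 <;>
    first
      | contradiction
      | simp_all [swap_comm]

theorem conj_good {α : Type*} [DecidableEq α] [Fintype α] {H : Subgroup (Perm α)} {X : Finset α}
    {E : Subgroup (Perm α)} (hX : Good E X) {g : Perm α} (hg : ∀ e ∈ E, g * e * g⁻¹ ∈ H) :
    Good H (X.map g.toEmbedding) := by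
  refine ⟨by rw [Finset.card_map, hX.1], ?_⟩
  simp only [Finset.mem_map]
  rintro _ ⟨a, ha, rfl⟩ _ ⟨b, hb, rfl⟩ _ ⟨c, hc, rfl⟩ _ ⟨d, hd, rfl⟩ h1 h2 h3 h4 h5 h6
  have := hg _ (hX.2 a ha b hb c hc d hd (fun e => h1 (e ▸ rfl)) (fun e => h2 (e ▸ rfl))
    (fun e => h3 (e ▸ rfl)) (fun e => h4 (e ▸ rfl)) (fun e => h5 (e ▸ rfl)) (fun e => h6 (e ▸ rfl)))
  have e : swap (g a) (g b) * swap (g c) (g d) = g * (swap a b * swap c d) * g⁻¹ := by
    rw [swap_apply_apply, swap_apply_apply]; group
  exact e ▸ this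


/-- Let n ≥ 8 and let H be a subgroup of the symmetric group of degree n whose generalized Fitting subgroup F*(H) is quasisimple. If H contains a Sylow 2-subgroup of the alternating group of degree n, then F*(H) is isomorphic to an alternating group of degree m for some m ∈ {n − 3, n − 2, n − 1, n}. -/
theorem result (n : ℕ) (hn : 8 ≤ n) (H : Subgroup (Equiv.Perm (Fin n))) (hF : Cfsg.IsQuasisimple ↥(Cfsg.generalizedFittingSubgroup ↥H)) (hS : ∃ P : Sylow 2 ↥(alternatingGroup (Fin n)), ((P : Subgroup ↥(alternatingGroup (Fin n))).map (alternatingGroup (Fin n)).subtype) ≤ H) : ∃ m : ℕ, (m = n - 3 ∨ m = n - 2 ∨ m = n - 1 ∨ m = n) ∧ Nonempty (↥(Cfsg.generalizedFittingSubgroup ↥H) ≃* ↥(alternatingGroup (Fin m))) := by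
  classical
  obtain ⟨P, hP⟩ := hS
  let p : ℕ → Fin n := fun k => if h : k < n then ⟨k, h⟩ else ⟨0, by omega⟩
  have hp : ∀ k, k < n → (p k).1 = k := fun k h => by simp [p, h]
  set α₁ : Perm (Fin n) := swap (p 0) (p 2) * swap (p 1) (p 3) with hα₁
  set β₁ : Perm (Fin n) := swap (p 4) (p 6) * swap (p 5) (p 7) with hβ₁
  have hne : ∀ i j, i < n → j < n → i ≠ j → p i ≠ p j := fun i j hi hj hij e =>
    hij (by rw [← hp i hi, ← hp j hj, e])
  have hπp : ∀ i, i + 1 < n → i % 2 = 0 → pi0 n (p i) = p (i + 1) ∧ pi0 n (p (i + 1)) = p i := by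
    intro i hi he
    have e1 : pi0 n (p i) = p (i + 1) := Fin.ext (by
      rw [pi0_val, hp i (by omega), hp (i + 1) hi, if_pos ⟨he, hi⟩])
    exact ⟨e1, by rw [← e1, pi0_pairing.inv]⟩
  have hsign : ∀ a b c d : Fin n, a ≠ b → c ≠ d → swap a b * swap c d ∈ alternatingGroup (Fin n) :=
    fun a b c d h h' => by rw [mem_alternatingGroup, map_mul, sign_swap h, sign_swap h']; rfl
  let E₁ : Subgroup (Perm (Fin n)) := pi0_pairing.pairFix ⊓ alternatingGroup (Fin n)
  have hαA : α₁ ∈ alternatingGroup (Fin n) :=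
    hsign _ _ _ _ (hne _ _ (by omega) (by omega) (by omega)) (hne _ _ (by omega) (by omega) (by omega))
  have hβA : β₁ ∈ alternatingGroup (Fin n) :=
    hsign _ _ _ _ (hne _ _ (by omega) (by omega) (by omega)) (hne _ _ (by omega) (by omega) (by omega))
  have hsq : ∀ g : Perm (Fin n), g * g = 1 → IsPGroup 2 ↥(zpowers g) := by
    intro g hg
    refine IsPGroup.of_card_dvd_pow (n := 1) ?_
    rw [Nat.card_zpowers, pow_one]
    exact orderOf_dvd_of_pow_eq_one (by rw [sq, hg])
  have hcomm : ∀ i, i + 3 < n → i % 4 = 0 →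
      ∀ z, (swap (p i) (p (i + 2)) * swap (p (i + 1)) (p (i + 3))) (pi0 n z) =
        pi0 n ((swap (p i) (p (i + 2)) * swap (p (i + 1)) (p (i + 3))) z) := by
    intro i hi h4 z
    obtain ⟨a1, a2⟩ := hπp i (by omega) (by omega)
    obtain ⟨b1, b2⟩ := hπp (i + 2) (by omega) (by omega)
    simp only [show i + 2 + 1 = i + 3 by omega] at b1 b2
    have := pi0_pairing.inv z
    simp only [Perm.mul_apply, swap_apply_def]
    grind
  have hinvol : ∀ i, i + 3 < n → (swap (p i) (p (i + 2)) * swap (p (i + 1)) (p (i + 3))) *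
      (swap (p i) (p (i + 2)) * swap (p (i + 1)) (p (i + 3))) = 1 := by
    intro i hi
    have := (swap_commute (hne i (i+1) (by omega) (by omega) (by omega))
      (hne i (i+3) (by omega) (by omega) (by omega)) (hne (i+2) (i+1) (by omega) (by omega) (by omega))
      (hne (i+2) (i+3) (by omega) (by omega) (by omega))).eq
    rw [mul_assoc, ← mul_assoc (swap (p (i + 1)) (p (i + 3))), ← this, mul_assoc, swap_mul_self,
      mul_one, swap_mul_self]
  have hE1 : IsPGroup 2 ↥E₁ := fun g => ⟨1, Subtype.ext (by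
    rw [pow_one, sq]; exact pi0_pairing.pairFix_sq g.2.1)⟩
  have hnormE : ∀ g : Perm (Fin n), g ∈ alternatingGroup (Fin n) → (∀ z, g (pi0 n z) = pi0 n (g z)) →
      g ∈ normalizer (E₁ : Set (Perm (Fin n))) := by
    intro g hg hgc
    have key : ∀ g : Perm (Fin n), g ∈ alternatingGroup (Fin n) → (∀ z, g (pi0 n z) = pi0 n (g z)) →
        ∀ e ∈ E₁, g * e * g⁻¹ ∈ E₁ := by
      intro g hg hgc e he
      refine ⟨fun z => ?_, (alternatingGroup (Fin n)).mul_mem ((alternatingGroup (Fin n)).mul_mem hg he.2) ((alternatingGroup (Fin n)).inv_mem hg)⟩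
      obtain ⟨w, rfl⟩ := g.surjective z
      simp only [Perm.mul_apply, Perm.coe_inv, Equiv.symm_apply_apply]
      rcases he.1 w with h | h <;> rw [h]
      · exact Or.inl rfl
      · exact Or.inr (hgc w)
    rw [mem_normalizer_iff]
    refine fun e => ⟨key g hg hgc e, fun he => ?_⟩
    have := key g⁻¹ (inv_mem hg) (fun z => g.injective (by simp [hgc])) _ he
    simpa [mul_assoc] using this
  have hE2 : IsPGroup 2 ↥(zpowers α₁ ⊔ E₁) := (hsq _ (hinvol 0 (by omega))).to_sup_of_normal_right' hE1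
    (zpowers_le.mpr (hnormE _ hαA (hcomm 0 (by omega) rfl)))
  have hE3 : IsPGroup 2 ↥(zpowers β₁ ⊔ (zpowers α₁ ⊔ E₁)) := by
    refine (hsq _ (hinvol 4 (by omega))).to_sup_of_normal_right' hE2 (zpowers_le.mpr ?_)
    refine normalizer_inf_normalizer_le_normalizer_sup (zpowers α₁) E₁
      (mem_inf.mpr ⟨centralizer_le_normalizer _ ?_, hnormE _ hβA (hcomm 4 (by omega) rfl)⟩)
    refine mem_centralizer_iff.mpr ?_
    rintro _ ⟨k, rfl⟩
    refine ((Commute.zpow_left ?_ k)).eq
    refine Perm.Disjoint.commute fun z => ?_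
    have n04 := hne 0 4 (by omega) (by omega) (by omega)
    have n05 := hne 0 5 (by omega) (by omega) (by omega)
    have n06 := hne 0 6 (by omega) (by omega) (by omega)
    have n07 := hne 0 7 (by omega) (by omega) (by omega)
    have n14 := hne 1 4 (by omega) (by omega) (by omega)
    have n15 := hne 1 5 (by omega) (by omega) (by omega)
    have n16 := hne 1 6 (by omega) (by omega) (by omega)
    have n17 := hne 1 7 (by omega) (by omega) (by omega)
    have n24 := hne 2 4 (by omega) (by omega) (by omega)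
    have n25 := hne 2 5 (by omega) (by omega) (by omega)
    have n26 := hne 2 6 (by omega) (by omega) (by omega)
    have n27 := hne 2 7 (by omega) (by omega) (by omega)
    have n34 := hne 3 4 (by omega) (by omega) (by omega)
    have n35 := hne 3 5 (by omega) (by omega) (by omega)
    have n36 := hne 3 6 (by omega) (by omega) (by omega)
    have n37 := hne 3 7 (by omega) (by omega) (by omega)
    simp only [hα₁, hβ₁, Perm.mul_apply, swap_apply_def]
    grind
  set E := zpowers β₁ ⊔ (zpowers α₁ ⊔ E₁)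
  have hEA : E ≤ alternatingGroup (Fin n) :=
    sup_le (zpowers_le.mpr hβA) (sup_le (zpowers_le.mpr hαA) inf_le_right)
  haveI : Fact (Nat.Prime 2) := ⟨Nat.prime_two⟩
  obtain ⟨S, hES⟩ := (hE3.comap_subtype (K := alternatingGroup (Fin n))).exists_le_sylow
  obtain ⟨g, hgS⟩ := MulAction.exists_smul_eq ↥(alternatingGroup (Fin n)) S P
  have hEH : ∀ e ∈ E, (g : Perm (Fin n)) * e * (g : Perm (Fin n))⁻¹ ∈ H := by
    intro e he
    have h1 : (⟨e, hEA he⟩ : ↥(alternatingGroup (Fin n))) ∈ (S : Subgroup _) := hES he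
    have h2 : g * ⟨e, hEA he⟩ * g⁻¹ ∈ (P : Subgroup ↥(alternatingGroup (Fin n))) := by
      rw [← hgS, Sylow.smul_def, Sylow.pointwise_smul_def]
      exact ⟨_, h1, rfl⟩
    exact hP ⟨_, h2, rfl⟩
  set π : Perm (Fin n) := (g : Perm (Fin n)) * pi0 n * (g : Perm (Fin n))⁻¹ with hπdef
  have hπval : ∀ z, π ((g : Perm (Fin n)) z) = (g : Perm (Fin n)) (pi0 n z) := fun z => by
    simp [hπdef]
  have hπ : Pairing π := by
    refine ⟨fun x => ?_, fun x y hx hy => ?_⟩
    · obtain ⟨x, rfl⟩ := (g : Perm (Fin n)).surjective x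
      rw [hπval, hπval, pi0_pairing.inv]
    · obtain ⟨x, rfl⟩ := (g : Perm (Fin n)).surjective x
      obtain ⟨y, rfl⟩ := (g : Perm (Fin n)).surjective y
      rw [hπval] at hx hy
      rw [pi0_pairing.fix x y ((g : Perm (Fin n)).injective hx) ((g : Perm (Fin n)).injective hy)]
  have hW0 : ∀ x y, pi0 n x ≠ x → pi0 n y ≠ y → pswap (pi0 n) x * pswap (pi0 n) y ∈ E :=
    fun x y hx hy => mem_sup_right (mem_sup_right
      ⟨mul_mem (pi0_pairing.pswap_mem x) (pi0_pairing.pswap_mem y), hsign _ _ _ _ hx.symm hy.symm⟩)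
  have hW : ∀ x y, π x ≠ x → π y ≠ y → y ≠ x → y ≠ π x → pswap π x * pswap π y ∈ H := by
    intro x y hx hy _ _
    obtain ⟨x, rfl⟩ := (g : Perm (Fin n)).surjective x
    obtain ⟨y, rfl⟩ := (g : Perm (Fin n)).surjective y
    rw [hπval] at hx hy
    have := hEH _ (hW0 x y (fun e => hx (by rw [e])) (fun e => hy (by rw [e])))
    simp only [pswap] at this ⊢
    rw [hπval, hπval, swap_apply_apply, swap_apply_apply]
    convert this using 1
    group
  by_cases h3 : HasThree H
  · obtain ⟨Δ, hΔn, hΔH, hLe⟩ := three_branch hπ hW (by simp; omega) h3 hF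
    have hm2 : Δ.card ≤ n := by simpa using Δ.card_le_univ
    rw [Fintype.card_fin] at hΔn
    refine ⟨Δ.card, by omega, ⟨?_⟩⟩
    let e₀ : {x // x ∈ Δ} ≃ Fin Δ.card := Δ.equivFin
    let eA : ↥(alternatingGroup {x // x ∈ Δ}) ≃* ↥(alternatingGroup (Fin Δ.card)) :=
      ((e₀.permCongrHom).subgroupMap (alternatingGroup {x // x ∈ Δ})).trans
        (MulEquiv.subgroupCongr (by
          ext σ
          constructor
          · rintro ⟨τ, hτ, rfl⟩
            rw [Equiv.Perm.mem_alternatingGroup] at *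
            exact (Equiv.Perm.sign_permCongr e₀ τ).trans hτ
          · intro hσ
            refine ⟨e₀.symm.permCongr σ, ?_, ?_⟩
            · rw [SetLike.mem_coe, Equiv.Perm.mem_alternatingGroup] at *
              exact (Equiv.Perm.sign_permCongr e₀.symm σ).trans hσ
            · ext x; simp))
    exact (MulEquiv.subgroupCongr hLe).trans ((subgroupOfEquivOfLe hΔH).trans
      (((alternatingGroup {x // x ∈ Δ}).equivMapOfInjective _ Perm.ofSubtype_injective).symm.trans eA))
  exfalso
  set L₀ := Cfsg.generalizedFittingSubgroup ↥H with hL₀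
  have hL₀n : L₀.Normal := inferInstance
  set L : Subgroup (Perm (Fin n)) := L₀.map H.subtype with hL
  have hqs : Cfsg.IsQuasisimple ↥L :=
    Cfsg.Agent.Layer.isQuasisimple_congr (L₀.equivMapOfInjective _ H.subtype_injective) hF
  have hnorm : ∀ h ∈ H, ∀ l ∈ L, h * l * h⁻¹ ∈ L := by
    rintro h hh _ ⟨l, hl, rfl⟩
    exact ⟨⟨h, hh⟩ * l * ⟨h, hh⟩⁻¹, hL₀n.conj_mem l hl _, rfl⟩
  have hle : ∀ K : Subgroup (Perm (Fin n)), K ≤ H → (∀ h ∈ H, ∀ k ∈ K, h * k * h⁻¹ ∈ K) →
      L ≤ K ∨ ∀ l ∈ L, ∀ k ∈ K, Commute l k := by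
    intro K hKH hKn
    haveI : (K.subgroupOf H).Normal := ⟨fun k hk h => hKn h h.2 k hk⟩
    rcases Cfsg.Agent.Layer.component_le_or_commute (L := L₀) ⟨hL₀n.isSubnormal, hF⟩
      (Normal.isSubnormal (inferInstance : (K.subgroupOf H).Normal)) with h | h
    · left
      rintro _ ⟨l, hl, rfl⟩
      exact h hl
    · right
      rintro _ ⟨l, hl, rfl⟩ k hk
      have h' := commutator_mem_commutator hl (show (⟨k, hKH hk⟩ : ↥H) ∈ K.subgroupOf H from hk)
      rw [h, mem_bot, commutatorElement_eq_one_iff_commute] at h'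
      exact h'.map H.subtype
  by_cases hbig : 10 ≤ n
  · exact hπ.no_three_false_large hW h3 hqs hnorm hle (by simpa using hbig)
  have hgood : ∀ i, (i = 0 ∨ i = 4) → Good H (({p i, p (i + 1), p (i + 2), p (i + 3)} : Finset (Fin n)).map
      (g : Perm (Fin n)).toEmbedding) := by
    intro i hi
    have m : ∀ j k, j ≤ 3 → k ≤ 3 → j ≠ k → p (i + j) ≠ p (i + k) := fun j k hj hk hjk =>
      hne _ _ (by omega) (by omega) (by omega)
    obtain ⟨a1, -⟩ := hπp i (by omega) (by omega)
    obtain ⟨b1, -⟩ := hπp (i + 2) (by omega) (by omega)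
    refine conj_good (good_of (m 0 1 (by omega) (by omega) (by omega)) (m 0 2 (by omega) (by omega) (by omega))
      (m 0 3 (by omega) (by omega) (by omega)) (m 1 2 (by omega) (by omega) (by omega))
      (m 1 3 (by omega) (by omega) (by omega)) (m 2 3 (by omega) (by omega) (by omega)) ?_ ?_) hEH
    · have h := hW0 (p i) (p (i + 2)) (by rw [a1]; exact (m 0 1 (by omega) (by omega) (by omega)).symm)
        (by rw [b1]; exact (m 2 3 (by omega) (by omega) (by omega)).symm)
      simpa only [pswap, a1, b1, Nat.add_zero, show i + 2 + 1 = i + 3 by omega] using h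
    · rcases hi with rfl | rfl
      · exact mem_sup_right (mem_sup_left (mem_zpowers α₁))
      · exact mem_sup_left (mem_zpowers β₁)
  refine hπ.no_three_false_small hW h3 hqs hnorm hle (by simp; omega) (map_subtype_le _)
    (hgood 0 (Or.inl rfl)) (hgood 4 (Or.inr rfl)) ?_ ?_ ?_
  · rw [Finset.disjoint_map, Finset.disjoint_left]
    intro z hz hz'
    simp only [Finset.mem_insert, Finset.mem_singleton] at hz hz'
    rcases hz with rfl | rfl | rfl | rfl <;> rcases hz' with h | h | h | h <;>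
      (have h' := congrArg Fin.val h; rw [hp _ (by omega), hp _ (by omega)] at h'; omega)
  · intro z
    obtain ⟨z, rfl⟩ := (g : Perm (Fin n)).surjective z
    rw [hπval, Finset.mem_union, Finset.mem_map_equiv, Finset.mem_map_equiv, Equiv.symm_apply_apply,
      (g : Perm (Fin n)).injective.ne_iff]
    simp only [Finset.mem_insert, Finset.mem_singleton, Fin.ext_iff]
    rw [ne_eq, Fin.ext_iff, pi0_val, hp _ (by omega), hp _ (by omega), hp _ (by omega), hp _ (by omega),
      hp _ (by omega), hp _ (by omega), hp _ (by omega), hp _ (by omega)]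
    have := z.2
    split_ifs <;> omega
  · have e : pi0 n = pswap (pi0 n) (p 0) * pswap (pi0 n) (p 2) * (pswap (pi0 n) (p 4) * pswap (pi0 n) (p 6)) := by
      have a1 : pi0 n (p 0) = p 1 := (hπp 0 (by omega) rfl).1
      have a3 : pi0 n (p 2) = p 3 := (hπp 2 (by omega) rfl).1
      have a5 : pi0 n (p 4) = p 5 := (hπp 4 (by omega) rfl).1
      have a7 : pi0 n (p 6) = p 7 := (hπp 6 (by omega) rfl).1
      simp only [pswap, a1, a3, a5, a7]
      ext z
      rw [pi0_val]
      have q0 : ((p 0).1 : ℕ) = 0 := hp 0 (by omega)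
      have q1 : ((p 1).1 : ℕ) = 1 := hp 1 (by omega)
      have q2 : ((p 2).1 : ℕ) = 2 := hp 2 (by omega)
      have q3 : ((p 3).1 : ℕ) = 3 := hp 3 (by omega)
      have q4 : ((p 4).1 : ℕ) = 4 := hp 4 (by omega)
      have q5 : ((p 5).1 : ℕ) = 5 := hp 5 (by omega)
      have q6 : ((p 6).1 : ℕ) = 6 := hp 6 (by omega)
      have q7 : ((p 7).1 : ℕ) = 7 := hp 7 (by omega)
      simp only [Perm.mul_apply, swap_apply_def, apply_ite Fin.val, Fin.ext_iff, q0, q1, q2, q3, q4, q5, q6, q7]
      have := z.2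
      generalize z.1 = k at this ⊢
      have hk9 : k < 9 := by omega
      interval_cases k <;> simp <;> omega
    have hnep : ∀ i, i + 1 < n → i % 2 = 0 → pi0 n (p i) ≠ p i := fun i hi he => by
      rw [(hπp i hi he).1]; exact (hne i (i + 1) (by omega) hi (by omega)).symm
    have := mul_mem (hW0 _ _ (hnep 0 (by omega) rfl) (hnep 2 (by omega) rfl))
      (hW0 _ _ (hnep 4 (by omega) rfl) (hnep 6 (by omega) rfl))
    rw [hπdef]
    rw [← e] at this
    exact hEH _ this

end Cfsg.Agent.S2928
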