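import Cfsg.Statements.S2930
import Cfsg.Agent.SymOdd.ThreeUnique
import Cfsg.Agent.S4231
import Cfsg.Agent.Fusion.Frattini

set_option autoImplicit false
open Cfsg

namespace Cfsg.Agent.S2930

/-- Let X be a finite 3-minimal group (a Sylow 3-subgroup is not normal and lies in a unique maximal subgroup) whose generalized Fitting subgroup is isomorphic to an alternating group of degree n ≥ 5. Then X = F*(X), and n = 6, n = 9, or n = 3ᵃ + 1 for some a ≥ 2. -/
theorem result {X : Type*} [Group X] [Finite X] (hX : Cfsg.IsPMinimal 3 X) (n : ℕ) (hn : 5 ≤ n) (hF : Nonempty (↥(Cfsg.generalizedFittingSubgroup X) ≃* ↥(alternatingGroup (Fin n)))) : Cfsg.generalizedFittingSubgroup X = ⊤ ∧ (n = 6 ∨ n = 9 ∨ ∃ a : ℕ, 2 ≤ a ∧ n = 3 ^ a + 1) := by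
  haveI : Fact (Nat.Prime 3) := ⟨Nat.prime_three⟩
  obtain ⟨e⟩ := hF
  set L := Cfsg.generalizedFittingSubgroup X with hL
  have hLn : L.Normal := inferInstance
  have hA4 : 4 ≤ Nat.card (Fin n) := by rw [Nat.card_fin]; omega
  have hker : (MulAut.conjNormal : X →* MulAut ↥L).ker = ⊥ := by
    rw [eq_bot_iff]
    intro x hx
    rw [MonoidHom.mem_ker] at hx
    have hfix : ∀ l : ↥L, x * l * x⁻¹ = l := fun l => by
      have := congrArg Subtype.val (DFunLike.congr_fun hx l)
      rwa [MulAut.conjNormal_apply, MulAut.one_apply] at this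
    have hxL : x ∈ L := Cfsg.Agent.Layer.centralizer_generalizedFitting_le
      (Subgroup.mem_centralizer_iff.mpr fun l hl => (mul_inv_eq_iff_eq_mul.mp (hfix ⟨l, hl⟩)).symm)
    have : e ⟨x, hxL⟩ ∈ Subgroup.center (alternatingGroup (Fin n)) := by
      rw [Subgroup.mem_center_iff]
      intro a
      obtain ⟨l, rfl⟩ := e.surjective a
      rw [← map_mul, ← map_mul]
      exact congrArg e (Subtype.ext (mul_inv_eq_iff_eq_mul.mp (hfix l)).symm)
    rw [alternatingGroup.center_eq_bot hA4, Subgroup.mem_bot] at this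
    exact Subgroup.mem_bot.mpr (congrArg Subtype.val (e.injective (this.trans (map_one e).symm)))
  have hidx : L.index ∣ 4 := by
    have h := (Subgroup.card_dvd_of_injective (MulAut.conjNormal : X →* MulAut ↥L)
      ((MonoidHom.ker_eq_bot_iff _).mp hker)).trans
      (Nat.card_congr (MulAut.congr e).toEquiv ▸ Cfsg.Agent.S4231.card_aut_dvd n hn)
    rw [← Nat.card_congr e.toEquiv, ← L.card_mul_index, mul_comm 4] at h
    exact Nat.dvd_of_mul_dvd_mul_left Nat.card_pos h
  obtain ⟨T⟩ : Nonempty (Sylow 3 X) := inferInstance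
  obtain ⟨hTn, M, ⟨hM, hTM⟩, hMu⟩ := hX T
  have hTL : (T : Subgroup X) ≤ L := by
    obtain ⟨j, hj⟩ := T.2.exists_card_eq
    have h1 : L.relIndex (T : Subgroup X) ∣ 3 ^ j := hj ▸ Subgroup.index_dvd_card _
    have h2 : L.relIndex (T : Subgroup X) ∣ 4 :=
      (Subgroup.relIndex_dvd_index_of_normal L (T : Subgroup X)).trans hidx
    exact Subgroup.relIndex_eq_one.mp (Nat.eq_one_of_dvd_coprimes
      (Nat.Coprime.pow_left j (by norm_num : Nat.Coprime 3 4)) h1 h2)
  have htop : L = ⊤ := by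
    by_contra hne
    obtain ⟨N, hN, hLN⟩ := (eq_top_or_exists_le_coatom L).resolve_left hne
    have hNM : N = M := hMu N ⟨hN, hTL.trans hLN⟩
    rcases eq_top_or_exists_le_coatom (Subgroup.normalizer ((T : Subgroup X) : Set X)) with h | ⟨N', hN', hle⟩
    · exact hTn (Subgroup.normalizer_eq_top_iff.mp h)
    · have hN'M : N' = M := hMu N' ⟨hN', Subgroup.le_normalizer.trans hle⟩
      refine hM.1 (top_le_iff.mp ?_)
      rw [← Cfsg.Agent.Fusion.normalizer_sylow_inf_sup_eq_top T L, inf_eq_left.mpr hTL]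
      exact sup_le (hN'M ▸ hle) (hNM ▸ hLN)
  refine ⟨htop, ?_⟩
  let ee : X ≃* alternatingGroup (Fin n) :=
    (Subgroup.topEquiv.symm.trans (MulEquiv.subgroupCongr htop.symm)).trans e
  refine Cfsg.Agent.SymOdd.unique_degree hn (T.mapSurjective (f := ee.toMonoidHom) ee.surjective) ?_
  refine ⟨ee.mapSubgroup M, ⟨(ee.mapSubgroup.isCoatom_iff M).2 hM, ee.mapSubgroup.monotone hTM⟩,
    fun N ⟨hN, hTN⟩ => ?_⟩
  have := hMu (ee.mapSubgroup.symm N) ⟨(ee.mapSubgroup.symm.isCoatom_iff N).2 hN, by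
    rw [← ee.mapSubgroup.le_iff_le, ee.mapSubgroup.apply_symm_apply]; exact hTN⟩
  rw [← this, ee.mapSubgroup.apply_symm_apply]

end Cfsg.Agent.S2930
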