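import Cfsg.Statements.S2931
import Cfsg.Agent.SylowIso.Models
import Cfsg.Agent.Classical.ExcU4Two
-- import your own Cfsg.Agent.* helpers here

set_option autoImplicit false
open Cfsg

namespace Cfsg.Agent.S2931

open Cfsg.Agent.SylowIso

theorem alt_psp (F : Type) [Field F] [Fintype F] (hF : Fintype.card F = 3)
    (P : Sylow 2 ↥(alternatingGroup (Fin 8))) (Q : Sylow 2 (Cfsg.PSp 2 F)) :
    Nonempty (↥(P : Subgroup ↥(alternatingGroup (Fin 8))) ≃* ↥(Q : Subgroup (Cfsg.PSp 2 F))) := by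
  classical
  let σ : ZMod 3 ≃+* F := ZMod.ringEquivOfPrime F Nat.prime_three hF
  let e := Cfsg.Agent.Classical.U42.spMap σ
  let Φ : Wr (QuaternionGroup 2) →* Cfsg.PSp 2 F :=
    (QuotientGroup.mk' _).comp (e.toMonoidHom.comp toSp)
  have inj : Function.Injective toSp :=
    (injective_iff_map_eq_one toSp).2 fun x hx => toSp_inj x (congrArg Subtype.val hx)
  have hker : ∀ x, Φ x = 1 ↔ x = 1 ∨ x = zQ := by
    intro x
    show QuotientGroup.mk' _ (e (toSp x)) = 1 ↔ _
    rw [QuotientGroup.mk'_apply, QuotientGroup.eq_one_iff, Subgroup.mem_center_iff]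
    constructor
    · intro h
      have hc : ∀ y, x * y = y * x := fun y => inj <| e.injective <| by
        rw [map_mul, map_mul, map_mul, map_mul]; exact (h _).symm
      exact center_wrQ x (hc _) (hc _) (hc _)
    · intro h g
      rcases h with rfl | rfl
      · simp
      · obtain ⟨g, rfl⟩ := e.surjective g
        rw [← map_mul, ← map_mul]
        refine congrArg e (Subtype.ext ?_)
        show g.1 * (toSp zQ).1 = (toSp zQ).1 * g.1
        rw [toSp_zQ]
        simp
  obtain ⟨i⟩ := range_equiv toAlt Φ fun x => by rw [toAlt_ker, hker]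
  have hk : Nat.card toAlt.ker = 2 := by
    have hs : (toAlt.ker : Set (Wr (QuaternionGroup 2))) = {1, zQ} := by
      ext x
      simpa using toAlt_ker x
    rw [← SetLike.coe_sort_coe, hs, Nat.card_coe_set_eq, Set.ncard_pair]
    decide +kernel
  have h64 : Nat.card toAlt.range = 2 ^ 6 := by
    have h := Subgroup.card_eq_card_quotient_mul_card_subgroup toAlt.ker
    rw [Nat.card_congr (QuotientGroup.quotientKerEquivRange toAlt).toEquiv, hk, card_wr,
      Nat.card_eq_fintype_card (α := QuaternionGroup 2), QuaternionGroup.card] at h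
    omega
  have hΦ : Nat.card Φ.range = 2 ^ 6 := by rw [← Nat.card_congr i.toEquiv, h64]
  have hA : Nat.card (alternatingGroup (Fin 8)) = 2 ^ 6 * 315 := by
    rw [nat_card_alternatingGroup, Nat.card_fin]
    decide
  have hP : Nat.card (Cfsg.PSp 2 F) = 2 ^ 6 * 405 := by
    have h := Subgroup.card_eq_card_quotient_mul_card_subgroup
      (Subgroup.center (Matrix.symplecticGroup (Fin 2) F))
    rw [Cfsg.Agent.Classical.card_symplecticGroup hF,
      Cfsg.Agent.Classical.card_center_symplectic (by norm_num), hF] at h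
    simp [Finset.prod_range_succ, -Nat.card_eq_fintype_card] at h
    have h' : Nat.card (Cfsg.PSp 2 F) * 2 = 51840 := h.symm
    omega
  obtain ⟨u⟩ := sylow_equiv_of_card toAlt.range h64 hA (by decide) P
  obtain ⟨w⟩ := sylow_equiv_of_card Φ.range hΦ hP (by decide) Q
  exact ⟨u.trans (i.trans w.symm)⟩

theorem toGL_mem (x : Wr (DihedralGroup 4)) (v : I6 → ZMod 2) :
    q6 ((toGL x : Matrix I6 I6 (ZMod 2)).mulVec v) = q6 v := by
  let Ok : Submonoid (Matrix I6 I6 (ZMod 2)) :=
    { carrier := {M | ∀ v, q6 (M.mulVec v) = q6 v}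
      one_mem' := fun v => by rw [Matrix.one_mulVec]
      mul_mem' := fun {A B} ha hb v => by rw [← Matrix.mulVec_mulVec, ha, hb] }
  have hR : oR ∈ Ok := fun v => (q6_gen v).1
  have hT : oT ∈ Ok := fun v => (q6_gen v).2.1
  have hS : oS ∈ Ok := fun v => (q6_gen v).2.2
  have hD : ∀ h, dMat h ∈ Ok := fun h => match h with
    | .r k => pow_mem hR _
    | .sr k => mul_mem hT (pow_mem hR _)
  suffices h : (toGL x : Matrix I6 I6 (ZMod 2)) ∈ Ok from h v
  rw [← SemidirectProduct.inl_left_mul_inr_right x, map_mul, Units.val_mul]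
  simp only [toGL, wrHom, SemidirectProduct.lift_inl, SemidirectProduct.lift_inr]
  refine mul_mem ?_ ?_
  · show dMat _ * (oS * dMat _ * oS) ∈ Ok
    exact mul_mem (hD _) (mul_mem (mul_mem hS (hD _)) hS)
  · by_cases h : x.right = 1
    · simp [swapHom, h, one_mem]
    · simpa [swapHom, h] using (show (oSu : Matrix I6 I6 (ZMod 2)) ∈ Ok from hS)

theorem sym_ominus (K : Type) [Field K] [Fintype K] (hK : Fintype.card K = 2) (a b : K)
    (hab : ∀ z₁ z₂ : K, z₁ ^ 2 + a * z₁ * z₂ + b * z₂ ^ 2 = 0 → z₁ = 0 ∧ z₂ = 0)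
    (P' : Sylow 2 (Equiv.Perm (Fin 8)))
    (Q' : Sylow 2 ↥(Cfsg.isometryGroup K (Cfsg.quadFormMinus 2 K a b))) :
    Nonempty (↥(P' : Subgroup (Equiv.Perm (Fin 8))) ≃*
      ↥(Q' : Subgroup ↥(Cfsg.isometryGroup K (Cfsg.quadFormMinus 2 K a b)))) := by
  classical
  let σ : ZMod 2 ≃+* K := ZMod.ringEquivOfPrime K Nat.prime_two hK
  have hab' : σ.symm a = 1 ∧ σ.symm b = 1 := by
    have key : ∀ u w : ZMod 2, (∀ z₁ z₂, z₁ ^ 2 + u * z₁ * z₂ + w * z₂ ^ 2 = 0 → z₁ = 0 ∧ z₂ = 0) →
        u = 1 ∧ w = 1 := by decide +kernel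
    refine key _ _ fun z₁ z₂ h => ?_
    have := hab (σ z₁) (σ z₂) (by simpa only [map_add, map_mul, map_pow, map_zero, σ.apply_symm_apply] using congrArg σ h)
    simpa using this
  have ha : a = 1 := by rw [← σ.apply_symm_apply a, hab'.1, map_one]
  have hb : b = 1 := by rw [← σ.apply_symm_apply b, hab'.2, map_one]
  let g : Wr (DihedralGroup 4) →* GL I6 K :=
    (Matrix.GeneralLinearGroup.map σ.toRingHom).comp toGL
  have hg : ∀ x, g x ∈ Cfsg.isometryGroup K (Cfsg.quadFormMinus 2 K a b) := by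
    intro x
    have e : ∀ (v : I6 → K), Cfsg.quadFormMinus 2 K a b
        ((g x : Matrix I6 I6 K).mulVec v) = Cfsg.quadFormMinus 2 K a b v := by
      intro v
      have hq : ∀ w : I6 → ZMod 2, Cfsg.quadFormMinus 2 K a b (σ ∘ w) = σ (q6 w) := fun w => by
        simp only [q6, Cfsg.quadFormMinus, ha, hb, map_add, map_mul, map_pow, map_sum, map_one, Function.comp_apply]
      obtain ⟨w, rfl⟩ : ∃ w, v = σ ∘ w := ⟨σ.symm ∘ v, funext fun i => (σ.apply_symm_apply _).symm⟩
      have hm : (g x : Matrix I6 I6 K).mulVec (σ ∘ w) = σ ∘ ((toGL x : Matrix I6 I6 (ZMod 2)).mulVec w) :=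
        funext fun i => (RingHom.map_mulVec σ.toRingHom _ w i).symm
      rw [hm, hq, hq, toGL_mem]
    exact fun u _ => e u
  let Ψ := g.codRestrict _ hg
  have inj : Function.Injective Ψ := (injective_iff_map_eq_one Ψ).2 fun x hx => by
    refine toGL_inj x ?_
    have h1 : (g x : Matrix I6 I6 K) = 1 := by
      rw [show g x = 1 from congrArg Subtype.val hx]; rfl
    ext i j
    have h2 := congrFun (congrFun h1 i) j
    apply σ.injective
    rw [show σ ((toGL x : Matrix I6 I6 (ZMod 2)) i j) = (g x : Matrix I6 I6 K) i j from rfl, h2]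
    by_cases hij : i = j <;> simp [hij, Matrix.one_apply]
  have inj' : Function.Injective toSym := (injective_iff_map_eq_one toSym).2 toSym_inj
  have h128 : Nat.card (Wr (DihedralGroup 4)) = 2 ^ 7 := by
    rw [card_wr, DihedralGroup.nat_card]
    norm_num
  have hA : Nat.card (Equiv.Perm (Fin 8)) = 2 ^ 7 * 315 := by
    rw [Nat.card_perm, Nat.card_fin]
    decide
  have hP : Nat.card ↥(Cfsg.isometryGroup K (Cfsg.quadFormMinus 2 K a b)) = 2 ^ 7 * 405 := by
    rw [Cfsg.Agent.Classical.Quad.card_isometryGroup_eq (Q := Cfsg.Agent.Classical.Quad.hyp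
      (Cfsg.Agent.Classical.Quad.binForm a b) 2) (Cfsg.Agent.Classical.Quad.minusCoord 2)
      (Cfsg.Agent.Classical.Quad.minusCoord_map a b 2),
      Cfsg.Agent.Classical.Quad.card_oG_minus hab hK 2]
    simp [Finset.prod_range_succ]
  obtain ⟨u⟩ := sylow_equiv_of_card toSym.range
    (by rw [← Nat.card_congr (MonoidHom.ofInjective inj').toEquiv, h128]) hA (by decide) P'
  obtain ⟨w⟩ := sylow_equiv_of_card Ψ.range
    (by rw [← Nat.card_congr (MonoidHom.ofInjective inj).toEquiv, h128]) hP (by decide) Q'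
  exact ⟨u.trans ((MonoidHom.ofInjective inj').symm.trans ((MonoidHom.ofInjective inj).trans w.symm))⟩

/-- The Sylow 2-subgroups of the alternating group of degree 8 and of PSp₄(3) are isomorphic, and so are the Sylow 2-subgroups of the symmetric group of degree 8 and of the full isometry group of a non-degenerate quadratic form of minus type in dimension 6 over the field with 2 elements. -/
theorem result (F : Type) [Field F] [Fintype F] (hF : Fintype.card F = 3) (K : Type) [Field K] [Fintype K] (hK : Fintype.card K = 2) (a b : K) (hab : ∀ z₁ z₂ : K, z₁ ^ 2 + a * z₁ * z₂ + b * z₂ ^ 2 = 0 → z₁ = 0 ∧ z₂ = 0) (P : Sylow 2 ↥(alternatingGroup (Fin 8))) (Q : Sylow 2 (Cfsg.PSp 2 F)) (P' : Sylow 2 (Equiv.Perm (Fin 8))) (Q' : Sylow 2 ↥(Cfsg.isometryGroup K (Cfsg.quadFormMinus 2 K a b))) : Nonempty (↥(P : Subgroup ↥(alternatingGroup (Fin 8))) ≃* ↥(Q : Subgroup (Cfsg.PSp 2 F))) ∧ Nonempty (↥(P' : Subgroup (Equiv.Perm (Fin 8))) ≃* ↥(Q' : Subgroup ↥(Cfsg.isometryGroup K (Cfsg.quadFormMinus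 2 K a b)))) := by
  exact ⟨alt_psp F hF P Q, sym_ominus K hK a b hab P' Q'⟩

end Cfsg.Agent.S2931
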