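import Cfsg.Statements.S2932
import Cfsg.Agent.NatOver.Main
-- import your own Cfsg.Agent.* helpers here

set_option autoImplicit false
open Cfsg

namespace Cfsg.Agent.S2932

/-- Let p be a prime. Inside a finite ambient group let V be an elementary abelian p-subgroup and G a subgroup normalizing V and acting faithfully on it (G ∩ C(V) = 1), and let L ≤ G act on V as SL₂(F) on its natural module, F a finite field of characteristic p, with L ≅ SL₂(F). If every Sylow p-subgroup of N_G(L) is a Sylow p-subgroup of G, then either L is normal in G, or F has 4 elements and G is isomorphic to the alternating group of degree 7. -/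
theorem result {X : Type*} [Group X] [Finite X] {p : ℕ} [Fact p.Prime] (F : Type) [Field F] [Fintype F] [CharP F p] (V G L : Subgroup X) (hV : Cfsg.IsElementaryAbelian p V) (hGV : G ≤ Subgroup.normalizer (V : Set X)) (hfaith : G ⊓ Subgroup.centralizer (V : Set X) = ⊥) (hLG : L ≤ G) (hnat : Cfsg.IsNaturalSL2Module F V L) (hLiso : Nonempty (↥L ≃* Matrix.SpecialLinearGroup (Fin 2) F)) (hSyl : ∀ S : Sylow p ↥(G ⊓ Subgroup.normalizer (L : Set X)), ∀ P : Sylow p ↥G, Nat.card S = Nat.card P) : (L.subgroupOf G).Normal ∨ (Fintype.card F = 4 ∧ Nonempty (↥G ≃* ↥(alternatingGroup (Fin 7)))) := by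
  classical
  obtain ⟨-, ρ, ψ, hsurj, hker, hact⟩ := hnat
  letI : CommGroup ↥V :=
    { (inferInstance : Group ↥V) with
      mul_comm := fun a b => Subtype.ext
        (Subgroup.mem_centralizer_iff.1 ((Cfsg.Agent.Thompson.ea_iff.1 hV).1 a.2) b b.2).symm }
  letI : MulDistribMulAction ↥G ↥V :=
    { smul := fun g v => ⟨g * v * (g : X)⁻¹, (Subgroup.mem_normalizer_iff.1 (hGV g.2) v).1 v.2⟩
      one_smul := fun v => Subtype.ext (by simp [HSMul.hSMul])
      mul_smul := fun g h v => Subtype.ext (by simp [HSMul.hSMul, mul_assoc])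
      smul_mul := fun g v w => Subtype.ext (by simp [HSMul.hSMul, mul_assoc])
      smul_one := fun g => Subtype.ext (by simp [HSMul.hSMul]) }
  letI : DistribMulAction ↥G (Additive ↥V) :=
    { smul := fun g v => Additive.ofMul (g • Additive.toMul v)
      one_smul := fun v => congrArg Additive.ofMul (one_smul ↥G _)
      mul_smul := fun g h v => congrArg Additive.ofMul (mul_smul g h _)
      smul_zero := fun g => congrArg Additive.ofMul (smul_one g)
      smul_add := fun g v w => congrArg Additive.ofMul (smul_mul' g _ _) }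
  haveI : FaithfulSMul ↥G (Additive ↥V) := ⟨fun {a b} h => by
    refine Subtype.ext (mul_inv_eq_one.1 (Subgroup.mem_bot.1 (hfaith.le
      (Subgroup.mem_inf.2 ⟨mul_mem a.2 (inv_mem b.2), Subgroup.mem_centralizer_iff.2 fun v hv => ?_⟩))))
    have e := congrArg (fun w : Additive ↥V => ((Additive.toMul w : ↥V) : X))
      (h (b⁻¹ • Additive.ofMul (⟨v, hv⟩ : ↥V)))
    have e' : (a : X) * ((b : X)⁻¹ * v * ((b : X)⁻¹)⁻¹) * (a : X)⁻¹ =
      (b : X) * ((b : X)⁻¹ * v * ((b : X)⁻¹)⁻¹) * (b : X)⁻¹ := e
    rw [inv_inv] at e'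
    calc v * ((a : X) * (b : X)⁻¹)
        = ((b : X) * ((b : X)⁻¹ * v * b) * (b : X)⁻¹) * ((a : X) * (b : X)⁻¹) := by group
      _ = _ := by rw [← e']; group⟩
  have hinj : Function.Injective ρ := by
    rw [← MonoidHom.ker_eq_bot_iff, hker, Subgroup.subgroupOf_eq_bot, disjoint_iff]
    exact le_bot_iff.1 ((le_inf (inf_le_right.trans hLG) inf_le_left).trans hfaith.le)
  let e : ↥L ≃* Matrix.SpecialLinearGroup (Fin 2) F := MulEquiv.ofBijective ρ ⟨hinj, hsurj⟩
  -- the Sylow subgroup in the normalizer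
  let N : Subgroup X := G ⊓ Subgroup.normalizer (L : Set X)
  let S0 : Sylow p ↥N := default
  let f : ↥N →* ↥G := Subgroup.inclusion inf_le_left
  have hc : Nat.card ((S0 : Subgroup ↥N).map f) = p ^ (Nat.card ↥G).factorization p := by
    rw [Subgroup.card_map_of_injective (Subgroup.inclusion_injective _)]
    exact (hSyl S0 default).trans (Sylow.card_eq_multiplicity _)
  let S : Sylow p ↥G := Sylow.ofCard _ hc
  have hSN : (S : Subgroup ↥G) ≤ Subgroup.normalizer ((L.subgroupOf G : Subgroup ↥G) : Set ↥G) := by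
    rintro _ ⟨n, -, rfl⟩
    exact Subgroup.mem_normalizer_iff.2 fun x => Subgroup.mem_normalizer_iff.1 n.2.2 (x : X)
  refine Cfsg.Agent.NatOver.main (H := ↥G) (M := Additive ↥V) (p := p) (L.subgroupOf G) ψ
    ((Subgroup.subgroupOfEquivOfLe hLG).trans e) (fun l v => ?_) S hSN
  obtain ⟨w, hw, hψ⟩ := hact (Subgroup.subgroupOfEquivOfLe hLG l) (Additive.toMul v)
  have he : (l : ↥G) • v = Additive.ofMul w := congrArg Additive.ofMul (Subtype.ext hw.symm)
  rw [he]
  exact hψ

end Cfsg.Agent.S2932
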