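import Cfsg.Statements.S2933
import Cfsg.Agent.SingerTwo.RankTwo

set_option autoImplicit false
open Cfsg

namespace Cfsg.Agent.S2933

/-- Let T be a 2-subgroup of a finite group G, V ≤ Z(T) a four-group, and t, ρ ∈ N_G(V) ∩ N_G(T) elements of order 2 and 3 with t commuting with ρ and with V. If [V, ρ] = V and C_T(t) = V, then T is elementary abelian of order 16, or homocyclic of rank 2 (ℤ/2ⁿ × ℤ/2ⁿ for some n ≥ 1), or isomorphic to a Sylow 2-subgroup of PSL₃(4) or of PSU₃(4). -/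
theorem result {G : Type*} [Group G] [Finite G] (T V : Subgroup G) (hT : IsPGroup 2 ↥T) (hVT : V ≤ T ⊓ Subgroup.centralizer (T : Set G)) (hV : Nat.card ↥V = 4 ∧ ∀ v ∈ V, v ^ 2 = 1) (t ρ : G) (ht : orderOf t = 2) (hρ : orderOf ρ = 3) (htn : t ∈ Subgroup.normalizer (V : Set G) ⊓ Subgroup.normalizer (T : Set G)) (hρn : ρ ∈ Subgroup.normalizer (V : Set G) ⊓ Subgroup.normalizer (T : Set G)) (htρ : t * ρ = ρ * t) (htV : t ∈ Subgroup.centralizer (V : Set G)) (hVρ : ⁅V, Subgroup.zpowers ρ⁆ = V) (hCt : T ⊓ Subgroup.centralizer ({t} : Set G) = V) : (Nat.card ↥T = 16 ∧ ∀ x ∈ T, x ^ 2 = 1) ∨ (∃ n : ℕ, 1 ≤ n ∧ Nonempty (↥T ≃* Multiplicative (ZMod (2 ^ n)) × Multiplicative (ZMod (2 ^ n)))) ∨ (∃ (F : Type) (_ : Field F) (_ : Fintype F), Fintype.card F = 4 ∧ ∀ P : Sylow 2 (Matrix.ProjectiveSpecialLinearGroup (Fin 3) F), Nonempty (↥T ≃* ↥(P : Subgroup (Matrix.ProjectiveSpecialLinearGroup (Fin 3) F)))) ∨ (∃ (F : Type) (_ : Field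 F) (_ : Fintype F), Fintype.card F = 16 ∧ ∀ P : Sylow 2 (Cfsg.PSU 3 F 4), Nonempty (↥T ≃* ↥(P : Subgroup (Cfsg.PSU 3 F 4)))) := by
  classical
  haveI : Fact (Nat.Prime 2) := ⟨Nat.prime_two⟩
  obtain ⟨ht1, ht2⟩ := orderOf_eq_prime_iff.1 ht
  have hρ3 : ρ ^ 3 = 1 := hρ ▸ pow_orderOf_eq_one ρ
  let α : MulAut ↥T := Subgroup.normalizerMonoidHom T ⟨t, htn.2⟩
  let r : MulAut ↥T := Subgroup.normalizerMonoidHom T ⟨ρ, hρn.2⟩
  have hα : ∀ x : ↥T, (α x : G) = t * x * t⁻¹ := fun x => rfl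
  have hr : ∀ x : ↥T, (r x : G) = ρ * x * ρ⁻¹ := fun x => rfl
  let C : Subgroup ↥T := V.subgroupOf T
  have hVT' : V ≤ T := hVT.trans inf_le_left
  have hC : ∀ x : ↥T, x ∈ C ↔ α x = x := fun x => by
    rw [Subtype.ext_iff, hα, mul_inv_eq_iff_eq_mul]
    constructor
    · intro hx
      exact (Subgroup.mem_centralizer_iff.1 htV _ hx).symm
    · intro e
      show (x : G) ∈ V
      rw [← hCt]
      exact ⟨x.2, Subgroup.mem_centralizer_singleton_iff.2 e.symm⟩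
  have hCcard : Nat.card C = 2 ^ 2 := by
    rw [Nat.card_congr (Subgroup.subgroupOfEquivOfLe hVT').toEquiv, hV.1]; norm_num
  have hrC : ∀ x ∈ C, r x ∈ C := fun x hx => by
    show (r x : G) ∈ V
    rw [hr]
    exact (Subgroup.mem_normalizer_iff.1 hρn.1 (x : G)).1 hx
  have hr3 : r ^ 3 = 1 := by
    rw [← map_pow, show (⟨ρ, hρn.2⟩ : Subgroup.normalizer (T : Set G)) ^ 3 = 1 from
      Subtype.ext hρ3, map_one]
  have hmove : ∃ v ∈ C, r v ≠ v := by
    by_contra hno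
    push Not at hno
    have hbot : ⁅V, Subgroup.zpowers ρ⁆ = ⊥ := by
      rw [Subgroup.commutator_eq_bot_iff_le_centralizer]
      intro v hv
      rw [Subgroup.mem_centralizer_iff]
      intro g hg
      have h1 : Commute ρ v := by
        show ρ * v = v * ρ
        rw [← mul_inv_eq_iff_eq_mul]
        exact congrArg Subtype.val (hno ⟨v, hVT' hv⟩ hv)
      obtain ⟨k, rfl⟩ := hg
      exact (h1.zpow_left k).eq
    rw [hVρ] at hbot
    rw [hbot] at hV
    simp at hV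
  obtain ⟨hmv, htr⟩ := SingerTwo.three_cycle C (by rw [hCcard]; norm_num) r hrC hr3 hmove
  obtain ⟨K, _, _, l, κ, hcK, h2, hS⟩ := SingerTwo.exists_sing hT (le_refl 2) α r C
    (fun x => Subtype.ext (by
      rw [hα, hα, mul_assoc t, mul_assoc t, mul_assoc t, ← mul_assoc t (_ * t⁻¹)]
      have hinv : t⁻¹ = t := inv_eq_of_mul_eq_one_left (by rw [← pow_two]; exact ht1)
      simp only [hinv, mul_assoc]
      rw [show t * t = 1 by rw [← pow_two]; exact ht1]
      simp [← mul_assoc, ← pow_two, ht1]))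
    (fun x => Subtype.ext (by
      rw [hα, hr, hr, hα]
      calc t * (ρ * x * ρ⁻¹) * t⁻¹ = (t * ρ) * x * (t * ρ)⁻¹ := by
            rw [mul_inv_rev]; simp only [mul_assoc]
        _ = (ρ * t) * x * (ρ * t)⁻¹ := by rw [htρ]
        _ = ρ * (t * x * t⁻¹) * ρ⁻¹ := by rw [mul_inv_rev]; simp only [mul_assoc]))
    (by norm_num; exact hr3) hC
    (fun x hx => Subtype.ext (by
      show (x : G) * x = 1
      rw [← pow_two]; exact hV.2 _ hx))
    hCcard (fun x y hx hy => htr x hx y hy)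
  by_cases hab : ∀ a b : ↥T, a * b = b * a
  · have hne : (⊤ : Subgroup ↥T) ≠ ⊥ := fun e => hS.C_ne_bot (le_bot_iff.1 (e ▸ le_top))
    rcases hS.abelian SingerTwo.inv_top hne (fun a _ b _ => hab a b) with ⟨hsq, hcard, -⟩ | ⟨hB, -⟩
    · left
      refine ⟨?_, fun x hx => ?_⟩
      · rw [Subgroup.card_top, Nat.card_eq_fintype_card (α := K), hcK] at hcard
        rw [hcard]; norm_num
      · rw [pow_two]
        exact congrArg Subtype.val (hsq ⟨x, hx⟩ (Subgroup.mem_top _))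
    · right; left
      refine SingerTwo.homocyclic hT hab r ?_ fun v hv hv1 => hmv v (hB v (Subgroup.mem_top _) hv) hv1
      rw [show (4 : ℕ) = Nat.card C by rw [hCcard]; norm_num]
      exact Nat.card_congr (Equiv.subtypeEquivRight fun v =>
        ⟨fun hv => hB v (Subgroup.mem_top _) hv, fun hv => hS.sq_C hv⟩)
  · rcases SingerTwo.classify (le_refl 2) hcK h2 hS hab with ⟨F, i1, i2, hF, h⟩ | ⟨F, i1, i2, hF, S, ⟨e⟩⟩
    · exact Or.inr (Or.inr (Or.inr ⟨F, i1, i2, hF.trans (by norm_num), h⟩))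
    · exact Or.inr (Or.inr (Or.inl ⟨F, i1, i2, hF.trans (by norm_num),
        fun P => ⟨e.trans (S.equiv P)⟩⟩))

end Cfsg.Agent.S2933
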