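import Cfsg.Statements.S2934
import Cfsg.Agent.Coprime.SmallFixed
import Cfsg.Agent.LargeExtra.SingularSubgroup

set_option autoImplicit false
open Cfsg

namespace Cfsg.Agent.S2934

open Subgroup SmallFixed

/-- Let p be an odd prime, W a finite 2-group and E a non-cyclic abelian p-subgroup of Aut(W) such that, for every nontrivial e ∈ E, the fixed points of e in W contain at most one involution. Then E has order 9, W is extraspecial of order 2⁵, 2⁷ or 2⁹, and the common fixed points of E in W form exactly the centre Z(W). -/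
theorem result {W : Type*} [Group W] [Finite W] (hW : IsPGroup 2 W) {p : ℕ} [Fact p.Prime] (hp : p ≠ 2) (E : Subgroup (MulAut W)) (hE : IsPGroup p ↥E) (hab : IsMulCommutative ↥E) (hnc : ¬ IsCyclic ↥E) (hfix : ∀ e ∈ E, e ≠ 1 → ∀ x y : W, orderOf x = 2 → orderOf y = 2 → e x = x → e y = y → x = y) : Nat.card ↥E = 9 ∧ Cfsg.IsExtraspecial 2 W ∧ (Nat.card W = 2 ^ 5 ∨ Nat.card W = 2 ^ 7 ∨ Nat.card W = 2 ^ 9) ∧ {x : W | ∀ e ∈ E, e x = x} = (Subgroup.center W : Set W) := by
  haveI : Finite ↥E := inferInstance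
  let Γ := W ⋊[E.subtype] ↥E
  haveI : Finite Γ := Finite.of_equiv _ SemidirectProduct.equivProd.symm
  let ι : W →* Γ := SemidirectProduct.inl
  let κ : ↥E →* Γ := SemidirectProduct.inr
  have hι : Function.Injective ι := SemidirectProduct.inl_injective
  have hκ : Function.Injective κ := SemidirectProduct.inr_injective
  let eW : W ≃* ↥ι.range := MonoidHom.ofInjective hι
  let eE : ↥E ≃* ↥κ.range := MonoidHom.ofInjective hκ
  have hact : ∀ (e : ↥E) (w : W), ι ((e : MulAut W) w) = κ e * ι w * (κ e)⁻¹ := fun e w => by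
    rw [← map_inv]
    exact SemidirectProduct.inl_aut e w
  have hfixiff : ∀ (e : ↥E) (w : W), Commute (ι w) (κ e) ↔ (e : MulAut W) w = w := fun e w => by
    rw [← hι.eq_iff (a := (e : MulAut W) w), hact, mul_inv_eq_iff_eq_mul]
    exact eq_comm
  have S : Setup p ι.range κ.range :=
    { prime := Fact.out
      odd := hp
      two := hW.of_equiv eW
      isPGroup := hE.of_equiv eE
      comm := by
        rintro _ ⟨a, rfl⟩ _ ⟨b, rfl⟩
        exact (show Commute a b from mul_comm' a b).map κ
      noncyclic := fun hc => hnc (eE.isCyclic.2 hc)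
      norm := by
        rintro _ ⟨a, rfl⟩
        refine mem_normalizer_fintype ?_
        rintro _ ⟨w, rfl⟩
        exact ⟨_, hact a w⟩
      faithful := by
        rintro _ ⟨a, rfl⟩ h
        rw [show a = 1 from Subtype.ext (MulEquiv.ext fun w =>
          (hfixiff a w).1 (h _ ⟨w, rfl⟩).symm), map_one]
      fix := by
        rintro _ ⟨e, rfl⟩ he _ ⟨x, rfl⟩ _ ⟨y, rfl⟩ hx hy hxe hye
        rw [orderOf_injective ι hι] at hx hy
        exact congrArg ι (hfix e e.2 (fun h => he (by rw [show e = 1 from Subtype.ext h, map_one])) x y hx hy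
          ((hfixiff e x).1 hxe) ((hfixiff e y).1 hye)) }
  obtain ⟨z, hz, hz2, hz1, hzW, hzA, huniq⟩ := S.exists_z
  have D : Setup.Data p ι.range κ.range z := ⟨S, hz, hz2, hz1, hzW, hzA, huniq⟩
  refine ⟨(Nat.card_congr eE.toEquiv).trans D.card_A.2, LargeExtra.extraspecial_congr eW.symm D.isExtraspecial,
    ?_, Set.ext fun x => ?_⟩
  · rw [Nat.card_congr eW.toEquiv]
    exact D.card_W
  have hc : ∀ x : W, x ∈ center W ↔ (ι x = 1 ∨ ι x = z) := by
    intro x
    constructor
    · intro hx
      refine D.mem_zpowers_z (D.center_le ⟨⟨x, rfl⟩, mem_centralizer_iff.2 ?_⟩)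
      rintro _ ⟨w, rfl⟩
      exact ((show Commute w x from mem_center_iff.1 hx w).map ι).eq
    · intro hx
      refine mem_center_iff.2 fun w => hι ?_
      rw [map_mul, map_mul]
      rcases hx with e | e <;> rw [e]
      · simp
      · exact (hzW _ ⟨w, rfl⟩).eq.symm
  rw [SetLike.mem_coe, hc]
  constructor
  · intro hx
    refine D.fixA ⟨x, rfl⟩ ?_
    rintro _ ⟨e, rfl⟩
    exact (hfixiff e x).2 (hx e e.2)
  · intro hx e he
    refine (hfixiff ⟨e, he⟩ x).1 ?_
    rcases hx with h | h <;> rw [h]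
    · exact Commute.one_left _
    · exact hzA _ ⟨⟨e, he⟩, rfl⟩

end Cfsg.Agent.S2934
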