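import Cfsg.Statements.S2937
import Cfsg.Agent.LocalStructure.FStarActionTop
import Cfsg.Agent.PMinLie.Linear
import Cfsg.Agent.PMinLie.Classical
import Cfsg.Agent.PMinLie.Twisted
import Cfsg.Agent.PMinLie.Tits
import Cfsg.Agent.PMinLie.AltSix
import Cfsg.Agent.PMinLie.UThree
import Cfsg.Agent.PMinLie.LTwoEight

set_option autoImplicit false
open Cfsg

namespace Cfsg.Agent.S2937

/-- Let X be a finite p-minimal group whose generalized Fitting subgroup K = F*(X) is a simple group of Lie type in characteristic p, and let U be a Sylow p-subgroup of K. Then N_X(U) is a maximal subgroup of X, and either K has Lie rank one (K ≅ PSL₂(pᵉ), PSU₃(pᵉ), a Suzuki group for p = 2, or a Ree group or PSL₂(8) for p = 3), or p = 2, K ≠ X and K is isomorphic to PSL₃(2ᵉ) or to PSp₄(2ᵉ) (e ≥ 2) or to the alternating group of degree 6. -/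
theorem result {X : Type*} [Group X] [Finite X] {p : ℕ} [Fact p.Prime] (hX : Cfsg.IsPMinimal p X) (hK : Cfsg.IsChevSimple p ↥(Cfsg.generalizedFittingSubgroup X)) (U : Sylow p ↥(Cfsg.generalizedFittingSubgroup X)) : IsCoatom (Subgroup.normalizer (((U : Subgroup ↥(Cfsg.generalizedFittingSubgroup X)).map (Cfsg.generalizedFittingSubgroup X).subtype : Subgroup X) : Set X)) ∧ (Cfsg.IsLieRankOneChar p ↥(Cfsg.generalizedFittingSubgroup X) ∨ (p = 2 ∧ Cfsg.generalizedFittingSubgroup X ≠ ⊤ ∧ ((∃ (F : Type) (_ : Field F) (_ : Fintype F) (_ : CharP F 2), Nonempty (↥(Cfsg.generalizedFittingSubgroup X) ≃* Matrix.ProjectiveSpecialLinearGroup (Fin 3) F)) ∨ (∃ (F : Type) (_ : Field F) (_ : Fintype F) (_ : CharP F 2), 4 ≤ Fintype.card F ∧ Nonempty (↥(Cfsg.generalizedFittingSubgroup X) ≃* Cfsg.PSp 2 F)) ∨ Nonempty (↥(Cfsg.generalizedFittingSubgroup X) ≃* ↥(alternatingGroup (Fin 6)))))) := by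
  have : (Cfsg.generalizedFittingSubgroup X).Normal := Cfsg.Agent.LocalStructure.genFitting_normal
  have solo : ∀ h : Cfsg.Agent.PMinLie.Solo p ↥(Cfsg.generalizedFittingSubgroup X),
      IsCoatom (Subgroup.normalizer (((U : Subgroup ↥(Cfsg.generalizedFittingSubgroup X)).map
        (Cfsg.generalizedFittingSubgroup X).subtype : Subgroup X) : Set X)) :=
    fun h => Cfsg.Agent.PMinLie.solo_coatom _ U hX (h U)
  have duo : ∀ h : Cfsg.Agent.PMinLie.Duo p ↥(Cfsg.generalizedFittingSubgroup X),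
      IsCoatom (Subgroup.normalizer (((U : Subgroup ↥(Cfsg.generalizedFittingSubgroup X)).map
        (Cfsg.generalizedFittingSubgroup X).subtype : Subgroup X) : Set X)) ∧
        Cfsg.generalizedFittingSubgroup X ≠ ⊤ ∧ p = 2 := fun h => by
    obtain ⟨R₁, R₂, hR⟩ := h U
    exact Cfsg.Agent.PMinLie.duo_coatom _ U hX hR
  have pair : ∀ {P : Prop}, Cfsg.Agent.PMinLie.Pair p ↥(Cfsg.generalizedFittingSubgroup X) → P := fun h => by
    obtain ⟨R₁, R₂, hR⟩ := h U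
    exact (Cfsg.Agent.PMinLie.pair_false _ U hX hR).elim
  rcases hK with hL | ⟨hp, hs⟩ | ⟨hp, F, _, _, hF, ⟨e⟩⟩
  · rcases hL with ⟨F, _, _, _, n, hn, h2, ⟨e⟩⟩ | ⟨F, _, _, _, m, hm, h, ⟨e⟩⟩ |
      ⟨F, _, _, _, n, q, hF, hn, h32, ⟨e⟩⟩ | ⟨F, _, _, _, m, hm, hodd, ⟨e⟩⟩ |
      ⟨F, _, _, _, m, hm, ⟨e⟩⟩ | ⟨F, _, _, _, m, a, b, hm, hab, ⟨e⟩⟩ | hE | hT | ⟨hp, hz⟩ |
      ⟨hp, h4⟩ | ⟨hp, hr⟩
    · rcases (by omega : n = 2 ∨ n = 3 ∨ 4 ≤ n) with rfl | rfl | h4
      · exact ⟨solo (PMinLie.solo_of_mulEquiv e.symm (PMinLie.solo_psl_two (h2 rfl))),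
          Or.inl (Or.inl ⟨F, inferInstance, inferInstance, inferInstance, h2 rfl, ⟨e⟩⟩)⟩
      · obtain ⟨hco, hne, rfl⟩ := duo (PMinLie.duo_of_mulEquiv e.symm PMinLie.duo_psl_three)
        exact ⟨hco, Or.inr ⟨rfl, hne, Or.inl ⟨F, inferInstance, inferInstance, inferInstance, ⟨e⟩⟩⟩⟩
      · exact pair (PMinLie.pair_of_mulEquiv e.symm (PMinLie.pair_psl h4))
    · rcases (by omega : m = 2 ∨ 3 ≤ m) with rfl | h3
      · obtain ⟨hco, hne, rfl⟩ := duo (PMinLie.duo_of_mulEquiv e.symm (PMinLie.duo_psp_two (h rfl)))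
        have heven := FiniteField.even_card_of_char_two (F := F) (ringChar.eq F 2)
        have h3 := h rfl
        exact ⟨hco, Or.inr ⟨rfl, hne, Or.inr (Or.inl ⟨F, inferInstance, inferInstance, inferInstance,
          by omega, ⟨e⟩⟩)⟩⟩
      · exact pair (PMinLie.pair_of_mulEquiv e.symm (PMinLie.pair_psp h3))
    · rcases (by omega : n = 3 ∨ 4 ≤ n) with rfl | h4
      · exact ⟨solo (PMinLie.solo_of_mulEquiv e.symm (PMinLie.solo_psu_three hF fun hq => h32 ⟨rfl, hq⟩)),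
          Or.inl (Or.inr (Or.inl ⟨F, inferInstance, inferInstance, inferInstance, q, hF,
            fun hq => h32 ⟨rfl, hq⟩, ⟨e⟩⟩))⟩
      · exact pair (PMinLie.pair_of_mulEquiv e.symm (PMinLie.pair_psu hF h4))
    · exact pair (PMinLie.pair_of_mulEquiv e.symm (PMinLie.pair_omega_odd hm hodd))
    · exact pair (PMinLie.pair_of_mulEquiv e.symm (PMinLie.pair_omega_plus hm))
    · exact pair (PMinLie.pair_of_mulEquiv e.symm (PMinLie.pair_omega_minus hm a b hab))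
    · exact pair (PMinLie.pair_exceptional hE)
    · exact pair (PMinLie.pair_twistedE6D4 hT)
    · subst hp
      exact ⟨solo (PMinLie.solo_isoSuzuki hz), Or.inl (Or.inr (Or.inr (Or.inl ⟨rfl, hz⟩)))⟩
    · subst hp
      exact pair (PMinLie.pair_iso2F4 h4)
    · subst hp
      exact ⟨solo (PMinLie.solo_isoRee hr), Or.inl (Or.inr (Or.inr (Or.inr ⟨rfl, Or.inl hr⟩)))⟩
  · subst hp
    rcases hs with h6 | ⟨F, _, _, hF, ⟨e⟩⟩ | ht
    · obtain ⟨hco, hne, -⟩ := duo (PMinLie.duo_of_mulEquiv h6.some.symm PMinLie.AltSix.duo_A6)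
      exact ⟨hco, Or.inr ⟨rfl, hne, Or.inr (Or.inr h6)⟩⟩
    · have σ : F ≃+* Agent.U33.F9 := FiniteField.ringEquivOfCardEq (by rw [hF, Agent.U33.F9.card_eq])
      obtain ⟨e'⟩ := Agent.Classical.U32.psu_congr (n := 3) (q := 3) σ
      exact pair (PMinLie.pair_of_mulEquiv (e.trans e').symm PMinLie.UThree.pair_U33)
    · exact pair (PMinLie.Tits.pair_isoTits ht)
  · subst hp
    exact ⟨solo (PMinLie.solo_of_mulEquiv e.symm (PMinLie.LTwoEight.solo_L28 hF)),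
      Or.inl (Or.inr (Or.inr (Or.inr ⟨rfl, Or.inr ⟨F, inferInstance, inferInstance, hF, ⟨e⟩⟩⟩)))⟩

end Cfsg.Agent.S2937
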