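import Cfsg.Statements.S2939
import Cfsg.Agent.LocalStructure.SylowChain

set_option autoImplicit false
open Cfsg

set_option linter.all false

namespace Cfsg.Agent.S2939

/-- Let p be a prime dividing the order of the finite group G and 𝓕 a family of subgroups of G closed under conjugation, with conjugates taken as X^g = g⁻¹Xg. Then 𝓕 controls Sylow p-intersections in G (any two distinct Sylow p-subgroups S and T with S ∩ T ≠ 1 are joined by a chain S = S₀, S₁, …, Sₙ = T of Sylow p-subgroups where, for each i, some member Xᵢ of 𝓕 meets both S_{i-1} and Sᵢ in Sylow p-subgroups of Xᵢ, satisfies S ∩ T ≤ Sᵢ ∩ Xᵢ, and contains an element xᵢ with Sᵢ^{xᵢ} = S_{i-1}) if and only if 𝓕 strongly controls p-fusion in G (whenever A is a subset of a Sylow p-subgroup S, A contains an element other than 1, and A^g ⊆ S, the element g factorises as g = y₁⋯yₙy with y ∈ N_G(S) and each yᵢ in a member Yᵢ of 𝓕 that meets S in a Sylow p-subgroup of Yᵢ, with A^{y₁⋯yᵢ} ⊆ S ∩ Yᵢ for each i). -/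
theorem result {G : Type*} [Group G] [Finite G] {p : ℕ} [Fact p.Prime] (hdiv : p ∣ Nat.card G) (𝓕 : Set (Subgroup G)) (h𝓕 : Cfsg.IsNormalSet 𝓕) : Cfsg.ControlsSylowIntersections p 𝓕 ↔ Cfsg.FamilyStronglyControlsFusion p 𝓕 := by
  classical
  have hcoe : ∀ (g : G) (S : Sylow p G), ((g • S : Sylow p G) : Subgroup G) = LocalStructure.cmap g (S : Subgroup G) := by
    intro g S
    rw [Sylow.coe_subgroup_smul]
    exact Coprime.conj_smul_eq_map g _
  constructor
  · intro hc S A g hA ⟨a, ha, ha1⟩ hAg
    set T : Sylow p G := g • S with hT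
    have hTc : (T : Subgroup G) = LocalStructure.cmap g (S : Subgroup G) := hcoe g S
    have hAT : ∀ a ∈ A, a ∈ (T : Subgroup G) := by
      intro a ha
      rw [hTc, LocalStructure.mem_cmap]
      exact hAg (LocalStructure.mem_conjRight.mpr (by simpa [mul_assoc] using ha))
    by_cases hST : S = T
    · refine ⟨0, fun i => i.elim0, fun i => i.elim0, g, ?_, fun i => i.elim0, by simp, fun i => i.elim0⟩
      rw [← LocalStructure.cmap_eq_iff, ← hTc, ← hST]
    have hD : (S : Subgroup G) ⊓ (T : Subgroup G) ≠ ⊥ := fun e =>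
      ha1 (Subgroup.mem_bot.mp (e ▸ ⟨hA ha, hAT a ha⟩))
    obtain ⟨n, c, X, x, h0, hl, hs⟩ := hc S T hST hD
    let z : ℕ → G := fun k => Nat.rec 1 (fun k r => if h : k < n then x ⟨k, h⟩ * r else r) k
    have hz : ∀ i : Fin n, z (i.val + 1) = x i * z i.val := fun i => by
      show (if h : i.val < n then _ else _) = _
      rw [dif_pos i.isLt]
    have htr : ∀ i : Fin (n + 1), LocalStructure.cmap (z i.val)⁻¹ (c i : Subgroup G) = (S : Subgroup G) := by
      intro i
      induction i using Fin.induction with
      | zero => rw [h0]; show LocalStructure.cmap (1 : G)⁻¹ _ = _; rw [inv_one, LocalStructure.cmap_one]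
      | succ j ih =>
        rw [Fin.val_succ, hz, mul_inv_rev, LocalStructure.cmap_mul, ← LocalStructure.subgroupConjRight_eq (x j),
          (hs j).2.2.2.1]
        exact ih
    let y : Fin n → G := fun i => (z i.val)⁻¹ * x i * z i.val
    have hpre : ∀ k, k ≤ n → ((List.ofFn y).take k).prod = z k := by
      intro k
      induction k with
      | zero => intro _; simp [z]
      | succ k ih =>
        intro hk
        rw [List.prod_take_succ _ _ (by simpa using hk), ih (Nat.le_of_succ_le hk), List.getElem_ofFn,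
          hz ⟨k, hk⟩]
        show z k * ((z k)⁻¹ * x ⟨k, hk⟩ * z k) = _
        group
    refine ⟨n, fun i => LocalStructure.cmap (z i.val)⁻¹ (X i), y, (z n)⁻¹ * g, ?_, fun i => ⟨?_, ?_⟩, ?_, fun i => ?_⟩
    · rw [← LocalStructure.cmap_eq_iff, LocalStructure.cmap_mul, ← hTc, ← hl]
      exact htr (Fin.last n)
    · have h1 := LocalStructure.sylowMembers_cmap h𝓕 (hs i).1 (z i.val)⁻¹
      have h2 := htr i.castSucc
      rw [Fin.val_castSucc] at h2
      rwa [h2] at h1
    · exact ⟨x i, (hs i).2.2.1, by show (z i.val)⁻¹ * x i * ((z i.val)⁻¹)⁻¹ = y i; simp [y]⟩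
    · rw [← List.take_length (l := List.ofFn y), List.length_ofFn, hpre n le_rfl, mul_inv_cancel_left]
    · rw [hpre _ i.isLt]
      intro w hw
      rw [LocalStructure.mem_conjRight] at hw
      have hmem : z (i.val + 1) * w * (z (i.val + 1))⁻¹ ∈ (c i.succ : Subgroup G) ⊓ X i :=
        (hs i).2.2.2.2 ⟨hA hw, hAT _ hw⟩
      refine ⟨?_, ?_⟩
      · have h2 := htr i.succ
        rw [Fin.val_succ] at h2
        show w ∈ (S : Subgroup G)
        rw [← h2, LocalStructure.mem_cmap, inv_inv]
        exact hmem.1
      · show w ∈ LocalStructure.cmap (z i.val)⁻¹ (X i)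
        rw [LocalStructure.mem_cmap, inv_inv]
        have h3 := (X i).mul_mem ((X i).mul_mem ((X i).inv_mem (hs i).2.2.1) hmem.2) (hs i).2.2.1
        rw [hz i] at h3
        simpa [mul_assoc] using h3
  · intro hc
    rw [LocalStructure.controls_iff]
    intro S T hne hD
    obtain ⟨g, rfl⟩ := MulAction.exists_smul_eq G S T
    set D := (S : Subgroup G) ⊓ ((g • S : Sylow p G) : Subgroup G) with hDdef
    obtain ⟨a, ha, ha1⟩ := (Subgroup.bot_or_exists_ne_one D).resolve_left hD
    obtain ⟨n, Y, y, y₀, hy₀, hY, hg, hA⟩ := hc S (D : Set G) g (fun w hw => hw.1) ⟨a, ha, ha1⟩ (by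
      intro w hw
      rw [LocalStructure.mem_conjRight] at hw
      have h1 : g * w * g⁻¹ ∈ LocalStructure.cmap g (S : Subgroup G) := hcoe g S ▸ (Subgroup.mem_inf.mp hw).2
      rw [LocalStructure.mem_cmap] at h1
      have h2 : w ∈ (S : Subgroup G) := by simpa [mul_assoc] using h1
      exact h2)
    let z : ℕ → G := fun k => ((List.ofFn y).take k).prod
    have hz : ∀ i : Fin n, z (i.val + 1) = z i.val * y i := fun i => by
      show ((List.ofFn y).take (i.val + 1)).prod = _
      rw [List.prod_take_succ _ _ (by simp), List.getElem_ofFn]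
    rw [LocalStructure.reflTransGen_iff_exists_chain]
    refine ⟨n, fun i => z i.val • S, ?_, ?_, fun i => ?_⟩
    · show ((List.ofFn y).take 0).prod • S = S
      simp
    · have hzn : z n = (List.ofFn y).prod := by
        show ((List.ofFn y).take n).prod = _
        rw [List.take_of_length_le (by simp)]
      show z n • S = g • S
      refine Sylow.ext ?_
      rw [hcoe, hcoe, hg, LocalStructure.cmap_mul, LocalStructure.cmap_eq_iff.mpr hy₀, hzn]
    · refine ⟨LocalStructure.cmap (z i.val) (Y i), z i.val * y i * (z i.val)⁻¹, ?_, ?_, ⟨y i, (hY i).2, rfl⟩, ?_, ?_⟩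
      · have := LocalStructure.sylowMembers_cmap h𝓕 (hY i).1 (z i.val)
        rwa [← hcoe] at this
      · have := LocalStructure.sylowMembers_cmap h𝓕 (hY i).1 (z (i.val + 1))
        rw [← hcoe] at this
        have e : LocalStructure.cmap (z (i.val + 1)) (Y i) = LocalStructure.cmap (z i.val) (Y i) := by
          rw [hz, LocalStructure.cmap_mul, LocalStructure.cmap_eq_self_of_mem (hY i).2]
        rwa [e] at this
      · show Cfsg.subgroupConjRight _ ((z (i.val + 1) • S : Sylow p G) : Subgroup G) = ((z i.val • S : Sylow p G) : Subgroup G)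
        rw [LocalStructure.subgroupConjRight_eq, hcoe, hcoe, ← LocalStructure.cmap_mul, hz]
        congr 1
        group
      · intro w hw
        have h1 := hA i (LocalStructure.mem_conjRight.mpr (show z (i.val + 1) * ((z (i.val + 1))⁻¹ * w * z (i.val + 1)) * (z (i.val + 1))⁻¹ ∈ (D : Set G) by simpa [mul_assoc] using hw))
        refine ⟨?_, ?_⟩
        · show w ∈ ((z (i.val + 1) • S : Sylow p G) : Subgroup G)
          rw [hcoe, LocalStructure.mem_cmap]
          exact h1.1
        · show w ∈ LocalStructure.cmap (z i.val) (Y i)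
          rw [LocalStructure.mem_cmap]
          have h3 := (Y i).mul_mem ((Y i).mul_mem (hY i).2 h1.2) ((Y i).inv_mem (hY i).2)
          rw [hz i] at h3
          simpa [mul_assoc] using h3

end Cfsg.Agent.S2939
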