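import Cfsg.Statements.S2940
import Cfsg.Agent.LocalStructure.FunctorFamily

set_option autoImplicit false
open Cfsg

set_option linter.all false

namespace Cfsg.Agent.S2940

/-- Let S be a Sylow p-subgroup of the finite group G and G₁, G₂ subgroups containing S with G = G₁G₂. Then for every g ∈ G there is a Sylow p-subgroup U of G with S ∩ S^g ≤ U ≤ G₁ ∩ G₂^g (conjugates taken as X^g = g⁻¹Xg). -/
theorem result {G : Type*} [Group G] [Finite G] {p : ℕ} [Fact p.Prime] (S : Sylow p G) (G₁ G₂ : Subgroup G) (h1 : (S : Subgroup G) ≤ G₁) (h2 : (S : Subgroup G) ≤ G₂) (hfact : ∀ g : G, ∃ g₁ ∈ G₁, ∃ g₂ ∈ G₂, g = g₁ * g₂) (g : G) : ∃ U : Sylow p G, (S : Subgroup G) ⊓ Cfsg.subgroupConjRight g (S : Subgroup G) ≤ (U : Subgroup G) ∧ (U : Subgroup G) ≤ G₁ ⊓ Cfsg.subgroupConjRight g G₂ := by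
  obtain ⟨a, ha, b, hb, hab⟩ := hfact g⁻¹
  have hG : Cfsg.subgroupConjRight g G₂ = LocalStructure.cmap a G₂ := by
    rw [LocalStructure.subgroupConjRight_eq, hab, LocalStructure.cmap_mul, LocalStructure.cmap_eq_self_of_mem hb]
  rw [hG]
  set M := G₁ ⊓ LocalStructure.cmap a G₂ with hM
  have hD : (S : Subgroup G) ⊓ Cfsg.subgroupConjRight g (S : Subgroup G) ≤ M :=
    le_inf (inf_le_left.trans h1) (inf_le_right.trans (hG ▸ Subgroup.map_mono h2))
  have hS : ((a • S : Sylow p G) : Subgroup G) ≤ M := by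
    rw [LocalStructure.sylow_coe_smul, hM, ← LocalStructure.cmap_eq_self_of_mem ha]
    refine le_inf (LocalStructure.cmap_mono h1) (LocalStructure.cmap_mono h2)
  obtain ⟨U₀, hU₀⟩ := ((S.isPGroup'.to_le inf_le_left).of_equiv (Subgroup.subgroupOfEquivOfLe hD).symm).exists_le_sylow
  obtain ⟨U, hU⟩ := LocalStructure.exists_sylow_coe_eq (a • S) hS U₀
  refine ⟨U, fun d hd => ?_, hU ▸ Subgroup.map_subtype_le _⟩
  rw [hU]
  exact ⟨⟨d, hD hd⟩, hU₀ hd, rfl⟩

end Cfsg.Agent.S2940
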