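import Cfsg.Statements.S2941
-- import your own Cfsg.Agent.* helpers here

set_option autoImplicit false
open Cfsg

namespace Cfsg.Agent.S2941

open Subgroup
open scoped Pointwise commutatorElement

/-- Let G be a finite group of characteristic 2 type in which every 2-local subgroup is solvable and the centralizer of Ω₁(Z(S)) lies in N_G(S) for every Sylow 2-subgroup S, and let T be a nontrivial 2-subgroup and K a J(T)-component (J the Thompson subgroup generated by the elementary abelian 2-subgroups of largest order). If a subgroup Q is normalized by ⟨K, J(T)⟩ and normalizes J(T), then Q normalizes K. -/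
theorem result {G : Type*} [Group G] [Finite G] (hL : Cfsg.IsCharacteristicTwoType G) (hN : ∀ N : Subgroup G, Cfsg.IsTwoLocal N → Group.IsSolvable ↥N)
    (hZ : ∀ S : Sylow 2 G, Subgroup.centralizer (Cfsg.omegaCenterOf (S : Subgroup G) : Set G) ≤ Subgroup.normalizer ((S : Subgroup G) : Set G)) (T : Subgroup G) (hT : IsPGroup 2 ↥T) (hT1 : T ≠ ⊥) (K : Subgroup G) (hK : Cfsg.IsJComponent T K)
    (Q : Subgroup G) (hQ1 : K ⊔ Cfsg.thompsonSubgroupOf 2 T ≤ Subgroup.normalizer (Q : Set G)) (hQ2 : Q ≤ Subgroup.normalizer (Cfsg.thompsonSubgroupOf 2 T : Set G)) :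
    Q ≤ Subgroup.normalizer (K : Set G) := by
  set J := thompsonSubgroupOf 2 T with hJ
  obtain ⟨hKodd, hKJ, -⟩ := hK
  have hJp : IsPGroup 2 J := hT.to_le (map_subtype_le _)
  have hKn : J ≤ normalizer (K : Set G) := by
    intro j hj
    have key : ∀ i ∈ J, ∀ k ∈ K, i * k * i⁻¹ ∈ K := by
      intro i hi k hk
      have h1 : ⁅k, i⁆ ∈ K := hKJ.le (commutator_mem_commutator hk hi)
      have e : i * k * i⁻¹ = k * ⁅k⁻¹, i⁆ := by group
      rw [e]
      exact mul_mem hk (hKJ.le (commutator_mem_commutator (inv_mem hk) hi))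
    rw [mem_normalizer_iff]
    refine fun k => ⟨key j hj k, fun h => ?_⟩
    have := key j⁻¹ (inv_mem hj) _ h
    simpa [mul_assoc] using this
  have hJconj : ∀ q ∈ Q, ∀ j ∈ J, q * j * q⁻¹ ∈ J := fun q hq j hj =>
    (mem_normalizer_iff.mp (hQ2 hq) j).mp hj
  have hconj : ∀ q ∈ Q, ∀ x ∈ K ⊔ J, q * x * q⁻¹ ∈ K ⊔ J := by
    intro q hq
    suffices h : K ⊔ J ≤ (K ⊔ J).comap (MulAut.conj q).toMonoidHom from fun x hx => h hx
    refine sup_le ?_ fun j hj => mem_sup_right (hJconj q hq j hj)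
    conv_lhs => rw [← hKJ]
    rw [commutator_le]
    intro k hk j hj
    change q * ⁅k, j⁆ * q⁻¹ ∈ K ⊔ J
    have hq' : k⁻¹ * q * k ∈ Q := by
      have := (mem_normalizer_iff.mp (hQ1 (mem_sup_left (inv_mem hk))) q).mp hq
      simpa using this
    have e : q * ⁅k, j⁆ * q⁻¹ =
        k * ((k⁻¹ * q * k) * j * (k⁻¹ * q * k)⁻¹) * k⁻¹ * (q * j⁻¹ * q⁻¹) := by group
    rw [e]
    exact mul_mem (mul_mem (mul_mem (mem_sup_left hk) (mem_sup_right (hJconj _ hq' j hj)))
      (inv_mem (mem_sup_left hk))) (mem_sup_right (hJconj q hq _ (inv_mem hj)))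
  -- an element of odd order of `K ⊔ J` lies in `K`
  have hodd : ∀ x ∈ K ⊔ J, Odd (orderOf x) → x ∈ K := by
    intro x hx hxo
    have hpow : ∃ n : ℕ, x ^ 2 ^ n ∈ K := by
      haveI : (K.subgroupOf (K ⊔ J)).Normal :=
        normal_subgroupOf_of_le_normalizer (sup_le Subgroup.le_normalizer hKn)
      have hp : IsPGroup 2 (↥(K ⊔ J) ⧸ K.subgroupOf (K ⊔ J)) := by
        refine (hJp.of_surjective ((QuotientGroup.mk' _).comp (inclusion le_sup_right)) ?_)
        intro y
        obtain ⟨⟨z, hz⟩, rfl⟩ := QuotientGroup.mk'_surjective _ y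
        obtain ⟨k, hk, j, hj, rfl⟩ : ∃ k ∈ K, ∃ j ∈ J, k * j = z := by
          have h : z ∈ ((K ⊔ J : Subgroup G) : Set G) := hz
          rw [coe_mul_of_right_le_normalizer_left K J hKn] at h
          exact h
        refine ⟨⟨j, hj⟩, ?_⟩
        change (QuotientGroup.mk _ : ↥(K ⊔ J) ⧸ K.subgroupOf (K ⊔ J)) = QuotientGroup.mk _
        rw [eq_comm, QuotientGroup.eq_iff_div_mem]
        rw [Subgroup.mem_subgroupOf]
        simpa [div_eq_mul_inv, mul_assoc] using hk
      obtain ⟨n, hn⟩ := hp (QuotientGroup.mk ⟨x, hx⟩)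
      exact ⟨n, by
        rw [← QuotientGroup.mk_pow, QuotientGroup.eq_one_iff, Subgroup.mem_subgroupOf] at hn
        simpa using hn⟩
    obtain ⟨n, hn⟩ := hpow
    have hcop : Nat.Coprime (orderOf x) (2 ^ n) :=
      (Nat.coprime_two_right.mpr hxo).pow_right n
    have h1 : zpowers (x ^ 2 ^ n) = zpowers x := by
      refine eq_of_le_of_card_ge (zpowers_le.mpr (pow_mem (mem_zpowers x) _)) ?_
      rw [Nat.card_zpowers, Nat.card_zpowers, hcop.orderOf_pow]
    exact (zpowers_le.mpr hn) (h1 ▸ mem_zpowers x)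
  have hQK : ∀ q ∈ Q, ∀ k ∈ K, q * k * q⁻¹ ∈ K := by
    intro q hq
    suffices h : K ≤ K.comap (MulAut.conj q).toMonoidHom from fun x hx => h hx
    conv_lhs => rw [← hKodd]
    rw [closure_le]
    rintro g ⟨hg, hgo⟩
    refine hodd _ (hconj q hq g (mem_sup_left hg)) ?_
    have : orderOf (MulAut.conj q g) = orderOf g := MulEquiv.orderOf_eq _ _
    exact this.symm ▸ hgo
  intro q hq
  rw [mem_normalizer_iff]
  refine fun k => ⟨hQK q hq k, fun h => ?_⟩
  have := hQK q⁻¹ (inv_mem hq) _ h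
  simpa [mul_assoc] using this

end Cfsg.Agent.S2941
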