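import Cfsg.Statements.S3755
import Cfsg.Agent.QdFree.SquareBound
import Cfsg.Agent.QdFree.Involve
import Cfsg.Agent.Core.PCore

set_option autoImplicit false
open Cfsg
open Subgroup
open Cfsg.Agent

namespace Cfsg.Agent.S3755

/-- Let M and V be subgroups of a finite group with V an elementary abelian 2-group, M normalizing V and acting faithfully on it (M ∩ C(V) = 1), and C_M(O_{2'}(M)) ≤ O_{2'}(M). If some elementary abelian 2-subgroup A of M satisfies |V : C_V(A)| < |A|², then M has a section isomorphic to the symmetric group of degree 3. -/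
theorem result {X : Type*} [Group X] [Finite X] (M V : Subgroup X) (hV : Cfsg.IsElementaryAbelian 2 V) (hMV : M ≤ Subgroup.normalizer (V : Set X)) (hfaith : M ⊓ Subgroup.centralizer (V : Set X) = ⊥) (hcon : Subgroup.centralizer (Cfsg.pPrimeCore 2 ↥M : Set ↥M) ≤ Cfsg.pPrimeCore 2 ↥M) (A : Subgroup X) (hAM : A ≤ M) (hA : Cfsg.IsElementaryAbelian 2 A) (hsmall : (V ⊓ Subgroup.centralizer (A : Set X)).relIndex V < Nat.card A ^ 2) : Cfsg.Involves (Equiv.Perm (Fin 3)) ↥M := by
  set K := (Cfsg.pPrimeCore 2 ↥M).map M.subtype with hKdef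
  have hKM : K ≤ M := map_subtype_le _
  have hK : (Nat.card K).Coprime 2 := by
    rw [hKdef, card_map_of_injective M.subtype_injective]; exact Core.coprime_card_pPrimeCore
  have hKf : K ⊓ centralizer (V : Set X) = ⊥ := eq_bot_iff.mpr fun x hx => hfaith.le ⟨hKM hx.1, hx.2⟩
  have hAK : A ≤ normalizer (K : Set X) := fun a ha => QdFree.ZJControl.mem_normalizer_of_conj fun x hx => by
    obtain ⟨y, hy, rfl⟩ := hx
    exact ⟨⟨a, hAM ha⟩ * y * ⟨a, hAM ha⟩⁻¹,
      (inferInstance : (Cfsg.pPrimeCore 2 ↥M).Normal).conj_mem y hy _, by simp⟩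
  have hAf : A ⊓ centralizer (K : Set X) = ⊥ := by
    refine eq_bot_iff.mpr fun a ha => mem_bot.mpr ?_
    have h1 : (⟨a, hAM ha.1⟩ : M) ∈ centralizer (Cfsg.pPrimeCore 2 ↥M : Set ↥M) :=
      mem_centralizer_iff.mpr fun y hy => Subtype.ext (mem_centralizer_iff.mp ha.2 (y : X) ⟨y, hy, rfl⟩)
    refine orderOf_eq_one_iff.mp (Nat.eq_one_of_dvd_coprimes hK ?_
      (orderOf_dvd_of_pow_eq_one (hA.2 a ha.1)))
    exact orderOf_dvd_natCard K (⟨⟨a, hAM ha.1⟩, hcon h1, rfl⟩ : a ∈ K)
  by_contra hno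
  have h := QdFree.SquareBound.card_sq_mul_le hV hK (hKM.trans hMV) hKf A hA (hAM.trans hMV) hAK hAf
    fun a ha q hq ho hinv => by
      have ha1 : a ≠ 1 := fun e => by
        rw [e, one_mul, inv_one, mul_one] at hinv
        have := orderOf_dvd_of_pow_eq_one (x := q) (n := 2) (by rw [pow_two]; exact eq_inv_iff_mul_eq_one.mp hinv)
        rw [ho] at this
        norm_num at this
      obtain ⟨H, f, hf⟩ := QdFree.SquareBound.involves_s3_of_inverted
        (a := (⟨a, hAM ha⟩ : M)) (q := (⟨q, hKM hq⟩ : M))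
        (Subtype.ext (by simpa [pow_two] using hA.2 a ha)) (fun e => ha1 (congrArg Subtype.val e))
        (by rw [← ho, Subgroup.orderOf_mk]) (Subtype.ext hinv)
      exact hno (QdFree.involves_mk H f hf)
  have e : Nat.card (V ⊓ centralizer (A : Set X) : Subgroup X) *
      (V ⊓ centralizer (A : Set X)).relIndex V = Nat.card V := Coprime.card_mul_relIndex_of_le inf_le_left
  rw [← e, mul_comm (Nat.card A ^ 2)] at h
  exact absurd (Nat.le_of_mul_le_mul_left h Nat.card_pos) (not_le.mpr hsmall)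

end Cfsg.Agent.S3755
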