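import Cfsg.Statements.S2945
import Cfsg.Agent.ZNComp.Pair
import Cfsg.Agent.ZNComp.Transfer

set_option autoImplicit false
open Cfsg

set_option linter.all false

namespace Cfsg.Agent.S2945

/-- Let G be a finite group of characteristic 2 type in which every 2-local subgroup is solvable and the centralizer of Ω₁(Z(S)) lies in N_G(S) for every Sylow 2-subgroup S, and let T be a nontrivial 2-subgroup (below, J is the Thompson subgroup generated by the elementary abelian 2-subgroups of largest order), L a subgroup in which T is a Sylow 2-subgroup with J(T) not contained in O₂(L) and C_G(O₂(L)) ≤ O₂(L), and K ≤ L a subgroup that is subnormal in ⟨K, J(T)⟩. If for some conjugate Tᵍ of T, K is a J(Tᵍ)-component with J(Tᵍ) the Thompson subgroup of every Sylow 2-subgroup of N_G(W_K) containing J(Tᵍ) (W_K = [Ω₁(Z(O₂(K))), K]), then K is a J(T)-component. -/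
theorem result {G : Type*} [Group G] [Finite G] (hL : Cfsg.IsCharacteristicTwoType G) (hN : ∀ N : Subgroup G, Cfsg.IsTwoLocal N → Group.IsSolvable ↥N)
    (hZ : ∀ S : Sylow 2 G, Subgroup.centralizer (Cfsg.omegaCenterOf (S : Subgroup G) : Set G) ≤ Subgroup.normalizer ((S : Subgroup G) : Set G)) (T : Subgroup G) (hT : IsPGroup 2 ↥T) (hT1 : T ≠ ⊥) (L : Subgroup G) (hLT : L ∈ Cfsg.jOvergroups T)
    (K : Subgroup G) (hKL : K ≤ L) (hKsn : (K.subgroupOf (K ⊔ Cfsg.thompsonSubgroupOf 2 T)).IsSubnormal)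
    (g : G) (hKg : K ∈ Cfsg.jComponentsZero (T.map (MulAut.conj g).toMonoidHom)) : Cfsg.IsJComponent T K := by
  have : Fact (Nat.Prime 2) := ⟨Nat.prime_two⟩
  set T' := T.map (MulAut.conj g).toMonoidHom with hT'def
  have hG : Cfsg.Agent.ZNComp.Hyp G := ⟨hL, hN, hZ⟩
  have hT' : IsPGroup 2 T' := hT.map _
  obtain ⟨hloc, S, hST, hS⟩ := Cfsg.Agent.ZNComp.setting_of_overgroup hG hLT
  have hK := hKg.1
  set J := Cfsg.thompsonSubgroupOf 2 T with hJ
  set X := K ⊔ J with hX
  have hKX : K ≤ X := le_sup_left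
  have hJL : J ≤ L := (Thompson.thompsonOf_le 2 T).trans hLT.1.1
  have hXL : X ≤ L := sup_le hKL hJL
  have hback : T'.map (MulAut.conj g⁻¹).toMonoidHom = T := by
    rw [hT'def]
    show SfFree.cj g⁻¹ (SfFree.cj g T) = T
    rw [SfFree.cj_cj, inv_mul_cancel, SfFree.cj_one]
  suffices hJW : J ≤ Subgroup.normalizer (Cfsg.wOf K : Set G) by
    have := Cfsg.Agent.ZNComp.isJComponent_conj hG hT' hKg g⁻¹ (by rw [hback]; exact hJW)
    rwa [hback] at this
  have hKm : (K.subgroupOf X).map X.subtype = K := by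
    rw [Subgroup.subgroupOf_map_subtype, inf_eq_left.2 hKX]
  have hWm : (Cfsg.wOf (K.subgroupOf X)).map X.subtype = Cfsg.wOf K := by
    rw [Cfsg.Agent.ZNComp.wOf_map X.subtype_injective, hKm]
  have hodd : Cfsg.Agent.ZNComp.OddGen (K.subgroupOf X) := by
    refine Subgroup.map_injective X.subtype_injective ?_
    rw [MonoidHom.map_closure, hKm]
    refine Eq.trans (congrArg Subgroup.closure (Set.ext fun x => ?_)) hK.1
    constructor
    · rintro ⟨k, ⟨hk, ho⟩, rfl⟩
      exact ⟨hk, by rwa [orderOf_injective X.subtype X.subtype_injective]⟩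
    · rintro ⟨hk, ho⟩
      exact ⟨⟨x, hKX hk⟩, ⟨hk, by rwa [← orderOf_injective X.subtype X.subtype_injective]⟩, rfl⟩
  have hp : Cfsg.Agent.ZNComp.Piece (K.subgroupOf X) := by
    refine ⟨hKsn, hodd, ?_, ?_, fun y hy => ?_⟩
    · rw [← Subgroup.relIndex_map_map_of_injective _ _ X.subtype_injective,
        Cfsg.Agent.ZNComp.pCoreOf_map X.subtype_injective, hKm]
      exact hK.2.2.1
    · rw [← Subgroup.card_map_of_injective X.subtype_injective, hWm]
      exact hK.2.2.2.2.1
    · have h1 := Subgroup.le_normalizer_map X.subtype ⟨y, hy, rfl⟩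
      rw [hWm, ← Cfsg.Agent.ZNComp.normalizer_eq hG hT' hKg] at h1
      rw [Subgroup.mem_normalizer_iff]
      intro z
      exact Subgroup.mem_normalizer_iff.1 h1 (z : G)
  have hXs : Group.IsSolvable X := by
    have := hloc.solv
    exact solvable_of_solvable_injective (Subgroup.inclusion_injective hXL)
  rw [hJ, Cfsg.Agent.ZNComp.thompson_eq_jS]
  refine iSup₂_le fun P hP => ?_
  have hPX : P ≤ X := (SfFree.le_jS hP).trans
    ((Cfsg.Agent.ZNComp.thompson_eq_jS T).ge.trans le_sup_right)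
  have hmax : P.subgroupOf X ∈ Cfsg.maxElementaryAbelianSubgroups 2 X := by
    refine (Thompson.maxEA_subgroup_iff hPX).2 ⟨hP.2.1, fun B hB hBe => ?_⟩
    obtain ⟨P', hP'⟩ := SfFree.exists_mem (S : Subgroup L)
    have h1 : Nat.card P' ≤ Nat.card P := by
      rw [← Subgroup.card_map_of_injective (K := P') L.subtype_injective]
      exact hP.2.2 _ ((Subgroup.map_mono hP'.1).trans hST.le) (Thompson.ea_map hP'.2.1 _)
    have hBL : B ≤ L := hB.trans hXL
    have h2 := (Cfsg.Agent.ZNComp.mem_max hP').2 (B.subgroupOf L)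
      ((Thompson.ea_map_iff L.subtype_injective).1 (by
        rwa [Subgroup.subgroupOf_map_subtype, inf_eq_left.2 hBL]))
    rw [Nat.card_congr (Subgroup.subgroupOfEquivOfLe hBL).toEquiv] at h2
    exact h2.trans h1
  intro p hp'
  have h1 := Subgroup.le_normalizer_map X.subtype
    ⟨⟨p, hPX hp'⟩, hp.le_normalizer_of_max hXs hmax hp', rfl⟩
  rwa [hWm] at h1

end Cfsg.Agent.S2945
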