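import Cfsg.Statements.S2947
import Cfsg.Agent.StrongEmb.Equiv
import Cfsg.Agent.S2899
import Cfsg.Agent.Core.PCore

set_option autoImplicit false
open Cfsg

namespace Cfsg.Agent.S2947

open Subgroup

/-- Let G be a finite group of characteristic 2 type in which every 2-local subgroup is solvable and the centralizer of Ω₁(Z(S)) lies in N_G(S) for every Sylow 2-subgroup S; suppose O₂(G) = 1, fix a Sylow 2-subgroup S and a 2-local subgroup M containing N_G(J(S)) (J the Thompson subgroup generated by the elementary abelian 2-subgroups of largest order). Then M is strongly embedded in G (a proper subgroup of even order whose intersection with each conjugate by an element outside M has odd order) if and only if no nontrivial 2-subgroup of M lies in a 2-local subgroup of G not contained in M. -/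
theorem result {G : Type*} [Group G] [Finite G] (hL : Cfsg.IsCharacteristicTwoType G) (hN : ∀ N : Subgroup G, Cfsg.IsTwoLocal N → Group.IsSolvable ↥N)
    (hZ : ∀ S : Sylow 2 G, Subgroup.centralizer (Cfsg.omegaCenterOf (S : Subgroup G) : Set G) ≤ Subgroup.normalizer ((S : Subgroup G) : Set G)) (hO : Cfsg.pCore 2 G = ⊥) (S : Sylow 2 G) (M : Subgroup G) (hM : Cfsg.IsTwoLocal M)
    (hMJ : Subgroup.normalizer (Cfsg.thompsonSubgroupOf 2 (S : Subgroup G) : Set G) ≤ M) :
    Cfsg.IsStronglyEmbedded M ↔ Cfsg.straddlingTwoSubgroups M = ∅ := by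
  have := Fact.mk Nat.prime_two
  obtain ⟨U₀, hU₀, hU₀1, hMU⟩ := hM
  have hMtop : M ≠ ⊤ := fun e => by
    haveI : U₀.Normal := normalizer_eq_top_iff.1 (hMU ▸ e)
    exact hU₀1 (le_bot_iff.1 (hO ▸ Core.le_pCore hU₀))
  have hU₀M : U₀ ≤ M := hMU ▸ le_normalizer
  have hdvd : 2 ∣ Nat.card M := by
    obtain ⟨k, hk⟩ := IsPGroup.iff_card.1 hU₀
    refine dvd_trans ?_ (card_dvd_of_le hU₀M)
    rw [hk]
    refine dvd_pow_self 2 fun h0 => hU₀1 ?_
    rw [h0, pow_zero] at hk
    exact card_eq_one.1 hk
  constructor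
  · rintro ⟨-, -, hse'⟩
    have hse : SylowGraph.SE 2 M := fun g hg hd =>
      (Nat.not_even_iff_odd.2 (hse' g hg)) (even_iff_two_dvd.2 hd)
    refine Set.eq_empty_iff_forall_notMem.2 ?_
    rintro T ⟨hT2, hT1', hTM, L, ⟨U, hU, hU1, rfl⟩, hTL, hLM⟩
    refine hLM ?_
    obtain ⟨T', hT'⟩ := (hT2.to_sup_of_normal_right' hU hTL).exists_le_sylow
    have hT'M : (T' : Subgroup G) ≤ M := SylowGraph.sylow_le_of_mem hse fun e =>
      hT1' (le_bot_iff.1 (e ▸ le_inf hTM (le_sup_left.trans hT')))
    exact SylowGraph.normalizer_le hse hU hU1 ((le_sup_right.trans hT').trans hT'M)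
  · intro hemp
    have hN' : ∀ A : Subgroup G, A ≤ M → IsPGroup 2 A → A ≠ ⊥ →
        normalizer (A : Set G) ≤ M := fun A hA hA2 hA1 => by
      by_contra hc
      have hmem : A ∈ Cfsg.straddlingTwoSubgroups M :=
        ⟨hA2, hA1, hA, normalizer (A : Set G), ⟨A, hA2, hA1, rfl⟩, le_normalizer, hc⟩
      rw [hemp] at hmem
      exact hmem
    obtain ⟨P⟩ : Nonempty (Sylow 2 M) := inferInstance
    have hP0 : (P : Subgroup M) ≠ ⊥ := P.ne_bot_of_dvd_card hdvd
    have hse := StrongEmb.se_of_isStronglyPEmbedded ((S2899.result M hMtop P).2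
      ⟨fun x hx hxo => by
        refine le_trans ?_ (hN' (zpowers x) (zpowers_le.2 (map_subtype_le _ hx))
          ((P.2.map _).to_le (zpowers_le.2 hx)) fun e => ?_)
        · refine le_trans ?_ (centralizer_le_normalizer _)
          rw [zpowers_eq_closure, centralizer_closure]
        · rw [zpowers_eq_bot] at e
          rw [e, orderOf_one] at hxo
          omega,
        hN' _ (map_subtype_le _) (P.2.map _)
          fun e => hP0 ((map_eq_bot_iff_of_injective _ M.subtype_injective).1 e)⟩)
    exact ⟨hMtop, even_iff_two_dvd.2 hdvd, fun g hg =>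
      Nat.not_even_iff_odd.1 fun he => hse g hg (even_iff_two_dvd.1 he)⟩

end Cfsg.Agent.S2947
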