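import Cfsg.Statements.S2955
import Cfsg.Agent.LocalStructure.FunctorFamily

set_option autoImplicit false
open Cfsg

set_option linter.all false

namespace Cfsg.Agent.S2955

/-- Let p be a prime dividing the order of the finite group G and 𝓕 a conjugation-closed family of subgroups that controls Sylow p-intersections in G. Suppose the Sylow p-subgroups of G are chain-connected: any two of them are joined by a chain of Sylow p-subgroups, consecutive ones distinct with nontrivial intersection, all containing the intersection of the two ends (equivalently, the graph on the Sylow p-subgroups whose edges are the distinct pairs meeting nontrivially is connected). Then for every Sylow p-subgroup S, G is generated by N_G(S) together with the members of 𝓕 that meet S in a Sylow p-subgroup of themselves. -/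
theorem result {G : Type*} [Group G] [Finite G] (p : ℕ) [Fact p.Prime] (hdiv : p ∣ Nat.card G)
    (𝓕 : Set (Subgroup G)) (h𝓕 : Cfsg.IsNormalSet 𝓕) (hc : Cfsg.ControlsSylowIntersections p 𝓕)
    (hconn : Cfsg.IsSylowChainConnected p G) (S : Sylow p G) :
    (⨆ X ∈ Cfsg.sylowMembers p 𝓕 (S : Subgroup G), X) ⊔ Subgroup.normalizer ((S : Subgroup G) : Set G) = ⊤ := by
  classical
  set H := (⨆ X ∈ Cfsg.sylowMembers p 𝓕 (S : Subgroup G), X) ⊔ Subgroup.normalizer ((S : Subgroup G) : Set G) with hH
  have hXH : ∀ X ∈ Cfsg.sylowMembers p 𝓕 (S : Subgroup G), X ≤ H := fun X hX =>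
    (le_iSup₂ (f := fun X (_ : X ∈ Cfsg.sylowMembers p 𝓕 (S : Subgroup G)) => X) X hX).trans le_sup_left
  have hstep : ∀ {D : Subgroup G} {A B : Sylow p G}, LocalStructure.Step p 𝓕 D A B →
      (∃ h ∈ H, A = h • S) → ∃ h ∈ H, B = h • S := by
    rintro D A B ⟨X, x, h1, -, h3, h4, -⟩ ⟨h, hh, rfl⟩
    rw [LocalStructure.sylow_coe_smul] at h1
    have h1' := LocalStructure.sylowMembers_cmap h𝓕 h1 h⁻¹
    rw [LocalStructure.cmap_inv_cmap] at h1'
    have hXle : X ≤ H := by
      rw [← LocalStructure.cmap_cmap_inv h X, ← LocalStructure.cmap_eq_self_of_mem hh]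
      exact LocalStructure.cmap_mono (hXH _ h1')
    refine ⟨x * h, H.mul_mem (hXle h3) hh, Sylow.ext ?_⟩
    rw [mul_smul, LocalStructure.sylow_coe_smul x, ← h4, LocalStructure.subgroupConjRight_eq,
      LocalStructure.cmap_cmap_inv]
  have hchain : ∀ {D : Subgroup G} {A B : Sylow p G}, Relation.ReflTransGen (LocalStructure.Step p 𝓕 D) A B →
      (∃ h ∈ H, A = h • S) → ∃ h ∈ H, B = h • S := by
    intro D A B hr hA
    induction hr with
    | refl => exact hA
    | tail _ hab ih => exact hstep hab ih
  have hall : ∀ T : Sylow p G, ∃ h ∈ H, T = h • S := by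
    intro T
    obtain ⟨n, c, h0, hl, -, hs⟩ := hconn S T
    suffices ∀ i : Fin (n + 1), ∃ h ∈ H, c i = h • S from hl ▸ this (Fin.last n)
    intro i
    induction i using Fin.induction with
    | zero => exact ⟨1, H.one_mem, by rw [h0, one_smul]⟩
    | succ j ih => exact hchain (LocalStructure.controls_iff.mp hc _ _ (hs j).1 (hs j).2) ih
  refine eq_top_iff.mpr fun g _ => ?_
  obtain ⟨h, hh, he⟩ := hall (g • S)
  have : h⁻¹ * g ∈ H := SetLike.le_def.mp le_sup_right (Sylow.smul_eq_iff_mem_normalizer.mp (show (h⁻¹ * g) • S = S by rw [mul_smul, he, inv_smul_smul]))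
  have := H.mul_mem hh this
  rwa [mul_inv_cancel_left] at this

end Cfsg.Agent.S2955
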