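import Cfsg.Statements.S2956
import Cfsg.Agent.LocalStructure.FunctorFamily
import Cfsg.Agent.Fusion.Alperin

set_option autoImplicit false
open Cfsg

set_option linter.all false

namespace Cfsg.Agent.S2956

open Subgroup

variable {G : Type*} [Group G] [Finite G] {p : ℕ} [Fact p.Prime]

/-- `R ⊓ M` is a Sylow subgroup of `M`. -/
def SylIn (M : Subgroup G) (R : Sylow p G) : Prop :=
  ∃ P : Sylow p M, (P : Subgroup M).map M.subtype = (R : Subgroup G) ⊓ M

theorem exists_sylIn {M A : Subgroup G} (hA : IsPGroup p A) (hAM : A ≤ M) :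
    ∃ R : Sylow p G, A ≤ (R : Subgroup G) ∧ SylIn M R := by
  obtain ⟨P, hP⟩ := (hA.of_equiv (subgroupOfEquivOfLe hAM).symm).exists_le_sylow
  obtain ⟨R, hR⟩ := (P.isPGroup'.map M.subtype).exists_le_sylow
  refine ⟨R, fun a ha => hR ⟨⟨a, hAM ha⟩, hP ha, rfl⟩, P, ?_⟩
  refine le_antisymm (le_inf hR (map_subtype_le _)) ?_
  rw [← subgroupOf_map_subtype (R : Subgroup G) M]
  refine Subgroup.map_mono ?_
  refine (P.is_maximal' (R.isPGroup'.comap_subtype) fun x hx => ?_).le
  exact hR ⟨x, hx, rfl⟩

theorem card_le_sylIn {M A : Subgroup G} (hA : IsPGroup p A) (hAM : A ≤ M) {R : Sylow p G} (hR : SylIn M R) :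
    Nat.card A ≤ Nat.card ↥((R : Subgroup G) ⊓ M) := by
  obtain ⟨P, hP⟩ := hR
  obtain ⟨Q, hQ⟩ := (hA.of_equiv (subgroupOfEquivOfLe hAM).symm).exists_le_sylow
  rw [← hP, card_map_of_injective M.subtype_injective, P.card_eq_multiplicity, ← Q.card_eq_multiplicity,
    ← Nat.card_congr (subgroupOfEquivOfLe hAM).toEquiv]
  exact card_le_of_le hQ

theorem exists_maximal_pLocal {M : Subgroup G} (hM : Cfsg.IsPLocal p M) :
    ∃ N : Subgroup G, M ≤ N ∧ Cfsg.IsMaximalPLocal p N := by
  obtain ⟨N, hMN, hN⟩ := Set.Finite.exists_le_maximal (Set.toFinite {N : Subgroup G | Cfsg.IsPLocal p N}) hM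
  exact ⟨N, hMN, hN.1, fun N' hN' hle => le_antisymm (hN.2 hN' hle) hle⟩

/-- Let p be a prime dividing the order of the finite group G, and f an assignment to every p-subgroup P of a set f(P) of subgroups of P, each normalized by N_G(P), compatible with conjugation, such that for P ≠ 1 the members of f(P) are nontrivial. Let 𝓕 be the family of the normalizers N_G(F) of the members F of f(S) over the Sylow p-subgroups S of G, and 𝓕' the family of the maximal p-local subgroups M of G that are singular for f (the corresponding family of normalizers inside M does not control Sylow p-intersections in M). Then 𝓕 ∪ 𝓕' controls Sylow p-intersections in G. -/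
theorem result {G : Type*} [Group G] [Finite G] (p : ℕ) [Fact p.Prime] (hdiv : p ∣ Nat.card G)
    (f : Subgroup G → Set (Subgroup G)) (hf : Cfsg.IsNormalizerFunctor p f)
    (hf1 : ∀ P : Subgroup G, IsPGroup p ↥P → P ≠ ⊥ → ∀ F ∈ f P, F ≠ ⊥)
    (𝓕 𝓕' : Set (Subgroup G)) (h𝓕 : 𝓕 = Cfsg.functorFamily p f ⊤)
    (h𝓕' : 𝓕' = {M | Cfsg.IsMaximalPLocal p M ∧ ¬ Cfsg.IsFunctorRegular p f M}) :
    Cfsg.ControlsSylowIntersections p (𝓕 ∪ 𝓕') := by
  classical
  subst h𝓕 h𝓕'
  refine LocalStructure.controls_iff.mpr ?_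
  generalize hFF : Cfsg.functorFamily p f ⊤ ∪ {M | Cfsg.IsMaximalPLocal p M ∧ ¬ Cfsg.IsFunctorRegular p f M} = FF
  suffices main : ∀ k, ∀ D : Subgroup G, D ≠ ⊥ → Nat.card G - Nat.card D = k → ∀ S T : Sylow p G,
      D ≤ (S : Subgroup G) → D ≤ (T : Subgroup G) → Relation.ReflTransGen (LocalStructure.Step p FF D) S T by
    intro S T _ hD
    exact main _ _ hD rfl S T inf_le_left inf_le_right
  intro k
  induction k using Nat.strong_induction_on with
  | h k IH =>
  intro D hD hk S T hDS hDT
  -- pairs of Sylow subgroups with larger intersection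
  have big : ∀ (E : Subgroup G) (A B : Sylow p G), D ≤ E → Nat.card D < Nat.card E → E ≤ (A : Subgroup G) →
      E ≤ (B : Subgroup G) → Relation.ReflTransGen (LocalStructure.Step p FF D) A B := by
    intro E A B hDE hlt hA hB
    have hE : E ≠ ⊥ := fun e => hD (eq_bot_iff.mpr (e ▸ hDE))
    have hEG : Nat.card E ≤ Nat.card G := Subgroup.card_le_card_group E
    exact LocalStructure.reflTransGen_step_mono (IH (Nat.card G - Nat.card E) (by omega) E hE rfl A B hA hB)
      subset_rfl hDE
  have hDp : IsPGroup p D := S.isPGroup'.to_le hDS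
  -- connection inside a `p`-local subgroup
  have local_ : ∀ (m : ℕ) (M : Subgroup G) (A B : Sylow p G), Cfsg.IsPLocal p M → SylIn M A → SylIn M B →
      D ≤ M → D ≤ (A : Subgroup G) → D ≤ (B : Subgroup G) → Nat.card D < Nat.card ↥((A : Subgroup G) ⊓ M) →
      Nat.card G - Nat.card ↥((A : Subgroup G) ⊓ M) = m →
      Relation.ReflTransGen (LocalStructure.Step p FF D) A B := by
    intro m
    induction m using Nat.strong_induction_on with
    | h m IHm =>
    intro M₀ A₀ B₀ hM₀ hA₀ hB₀ hDM₀ hDA₀ hDB₀ hcard₀ hm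
    obtain ⟨M, hM₀M, hM⟩ := exists_maximal_pLocal hM₀
    obtain ⟨A, hAle, hA⟩ := exists_sylIn (A₀.isPGroup'.to_le inf_le_left) ((inf_le_right : (A₀ : Subgroup G) ⊓ M₀ ≤ M₀).trans hM₀M)
    obtain ⟨B, hBle, hB⟩ := exists_sylIn (B₀.isPGroup'.to_le inf_le_left) ((inf_le_right : (B₀ : Subgroup G) ⊓ M₀ ≤ M₀).trans hM₀M)
    have hB₀card : Nat.card D < Nat.card ↥((B₀ : Subgroup G) ⊓ M₀) :=
      hcard₀.trans_le (card_le_sylIn (A₀.isPGroup'.to_le inf_le_left) inf_le_right hB₀)
    have hDA : D ≤ (A : Subgroup G) := (le_inf hDA₀ hDM₀).trans hAle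
    have hDB : D ≤ (B : Subgroup G) := (le_inf hDB₀ hDM₀).trans hBle
    have hDM : D ≤ M := hDM₀.trans hM₀M
    have hmono : Nat.card ↥((A₀ : Subgroup G) ⊓ M₀) ≤ Nat.card ↥((A : Subgroup G) ⊓ M) :=
      card_le_sylIn (A₀.isPGroup'.to_le inf_le_left) ((inf_le_right : (A₀ : Subgroup G) ⊓ M₀ ≤ M₀).trans hM₀M) hA
    have hcard : Nat.card D < Nat.card ↥((A : Subgroup G) ⊓ M) := hcard₀.trans_le hmono
    refine (big _ A₀ A (le_inf hDA₀ hDM₀) hcard₀ inf_le_left hAle).trans (.trans ?_
      (big _ B B₀ (le_inf hDB₀ hDM₀) hB₀card hBle inf_le_left))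
    by_cases hr : Cfsg.IsFunctorRegular p f M
    swap
    · -- a singular maximal local subgroup belongs to the family
      have hMF : M ∈ FF := hFF ▸ Or.inr ⟨hM, hr⟩
      obtain ⟨P, hP⟩ := hA
      obtain ⟨Q, hQ⟩ := hB
      obtain ⟨x, hx⟩ := MulAction.exists_smul_eq M P Q
      set B' : Sylow p G := (x : G) • A with hB'def
      have hB' : (B' : Subgroup G) ⊓ M = (B : Subgroup G) ⊓ M := by
        rw [hB'def, LocalStructure.sylow_coe_smul]
        calc LocalStructure.cmap (x : G) (A : Subgroup G) ⊓ M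
            = LocalStructure.cmap (x : G) (A : Subgroup G) ⊓ LocalStructure.cmap (x : G) M := by
              rw [LocalStructure.cmap_eq_self_of_mem x.2]
          _ = LocalStructure.cmap (x : G) ((A : Subgroup G) ⊓ M) := (LocalStructure.cmap_inf _ _ _).symm
          _ = LocalStructure.cmap (x : G) ((P : Subgroup M).map M.subtype) := by rw [hP]
          _ = (Q : Subgroup M).map M.subtype := by
              rw [← hx, LocalStructure.sylow_coe_smul, Subgroup.map_map]
              exact (Subgroup.map_map _ _ _).trans (by rfl)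
          _ = _ := hQ
      have hBcard : Nat.card D < Nat.card ↥((B : Subgroup G) ⊓ M) :=
        hcard.trans_le (card_le_sylIn (A.isPGroup'.to_le inf_le_left) inf_le_right ⟨Q, hQ⟩)
      refine Relation.ReflTransGen.trans (Relation.ReflTransGen.single ⟨M, (x : G), ⟨hMF, P, hP⟩, ⟨hMF, Q, ?_⟩, x.2, ?_, ?_⟩)
        (big _ B' B (le_inf hDB hDM) hBcard (hB' ▸ inf_le_left) inf_le_left)
      · rw [hQ, ← hB']
      · rw [LocalStructure.subgroupConjRight_eq, hB'def, LocalStructure.sylow_coe_smul, LocalStructure.cmap_inv_cmap]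
      · rw [hB']; exact le_inf hDB hDM
    -- a regular one
    obtain ⟨P, hP⟩ := hA
    obtain ⟨Q, hQ⟩ := hB
    have hDP : D ≤ (P : Subgroup M).map M.subtype := hP ▸ le_inf hDA hDM
    have hDQ : D ≤ (Q : Subgroup M).map M.subtype := hQ ▸ le_inf hDB hDM
    by_cases hPQ : P = Q
    · refine big _ A B (le_inf hDA hDM) hcard inf_le_left ?_
      rw [← hP, hPQ, hQ]
      exact inf_le_left
    have hmeet : (P : Subgroup M) ⊓ Q ≠ ⊥ := by
      intro e
      refine hD (eq_bot_iff.mpr ?_)
      rw [← Subgroup.map_bot M.subtype, ← e, Subgroup.map_inf _ _ _ M.subtype_injective]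
      exact le_inf hDP hDQ
    have hL : ∀ U : Sylow p M, ∃ L : Sylow p G, (U : Subgroup M).map M.subtype ≤ (L : Subgroup G) := fun U =>
      (U.isPGroup'.map M.subtype).exists_le_sylow
    choose L hLle using hL
    have hUcard : ∀ U : Sylow p M, Nat.card ↥((U : Subgroup M).map M.subtype) = Nat.card ↥((A : Subgroup G) ⊓ M) := fun U => by
      rw [← hP, Subgroup.card_map_of_injective M.subtype_injective, Subgroup.card_map_of_injective M.subtype_injective,
        U.card_eq_multiplicity, P.card_eq_multiplicity]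
    have hchain := LocalStructure.controls_iff.mp hr P Q hPQ hmeet
    have key : D ≤ (Q : Subgroup M).map M.subtype ∧
        Relation.ReflTransGen (LocalStructure.Step p FF D) (L P) (L Q) := by
      have hDE : ∀ d (hd : d ∈ D), (⟨d, hDM hd⟩ : M) ∈ (P : Subgroup M) ⊓ (Q : Subgroup M) := fun d hd => by
        refine ⟨?_, ?_⟩
        · obtain ⟨y, hy, hye⟩ := hDP hd
          rwa [show y = ⟨d, hDM hd⟩ from Subtype.ext hye] at hy
        · obtain ⟨y, hy, hye⟩ := hDQ hd
          rwa [show y = ⟨d, hDM hd⟩ from Subtype.ext hye] at hy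
      generalize (P : Subgroup M) ⊓ (Q : Subgroup M) = E at hchain hDE
      clear hQ hDQ hPQ hmeet
      generalize Q = Q' at hchain ⊢
      induction hchain with
      | refl => exact ⟨hDP, .refl⟩
      | @tail a b _ hab ih =>
        obtain ⟨hDa, hih⟩ := ih
        obtain ⟨X', x, h1, h2, h3, h4, h5⟩ := hab
        have hDb : D ≤ (b : Subgroup M).map M.subtype := by
          intro d hd
          exact ⟨⟨d, hDM hd⟩, (h5 (hDE d hd)).1, rfl⟩
        refine ⟨hDb, hih.trans ?_⟩
        obtain ⟨X, hX, rfl⟩ := h1.1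
        obtain ⟨P', F, hF, rfl⟩ := hX
        have hP'p : IsPGroup p ↥((P' : Subgroup M).map M.subtype) := P'.isPGroup'.map _
        have hNF : Subgroup.normalizer (((P' : Subgroup M).map M.subtype : Subgroup G) : Set G) ≤ Subgroup.normalizer (F : Set G) :=
          ((hf _ hP'p).1 F hF).2
        have hP'X : (P' : Subgroup M) ≤ (M ⊓ Subgroup.normalizer (F : Set G)).subgroupOf M := fun y hy =>
          ⟨y.2, hNF (Subgroup.le_normalizer ⟨y, hy, rfl⟩)⟩
        have haN : (a : Subgroup M).map M.subtype ≤ Subgroup.normalizer (F : Set G) := by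
          rintro _ ⟨y, hy, rfl⟩
          exact (LocalStructure.le_of_mem_sylowMembers a P' hP'X h1 hy).2
        have hbN : (b : Subgroup M).map M.subtype ≤ Subgroup.normalizer (F : Set G) := by
          rintro _ ⟨y, hy, rfl⟩
          exact (LocalStructure.le_of_mem_sylowMembers b P' hP'X h2 hy).2
        obtain ⟨R, hR⟩ := hP'p.exists_le_sylow
        rcases lt_or_eq_of_le hR with hlt | heq
        · -- the normalizer has a larger `p`-part
          have hgrow := Fusion.lt_inf_normalizer_of_isPGroup R.isPGroup' hlt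
          have hP'ne : (P' : Subgroup M).map M.subtype ≠ ⊥ := fun e => by
            have : Nat.card ↥((P' : Subgroup M).map M.subtype) = 1 := by rw [e]; exact Subgroup.card_bot
            rw [hUcard] at this
            have := Nat.card_pos (α := D)
            omega
          have hFle := ((hf _ hP'p).1 F hF).1
          have hloc : Cfsg.IsPLocal p (Subgroup.normalizer (F : Set G)) :=
            ⟨F, hP'p.to_le hFle, hf1 _ hP'p hP'ne F hF, rfl⟩
          obtain ⟨Ra, hRa, hRa'⟩ := exists_sylIn (a.isPGroup'.map M.subtype) haN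
          obtain ⟨Rb, hRb, hRb'⟩ := exists_sylIn (b.isPGroup'.map M.subtype) hbN
          have hsz : Nat.card ↥((A : Subgroup G) ⊓ M) < Nat.card ↥((Ra : Subgroup G) ⊓ Subgroup.normalizer (F : Set G)) := by
            rw [← hUcard P']
            refine lt_of_lt_of_le ?_ (card_le_sylIn (R.isPGroup'.to_le inf_le_left)
              ((inf_le_right : (R : Subgroup G) ⊓ _ ≤ _).trans hNF) hRa')
            by_contra hge
            exact hgrow.ne (Subgroup.eq_of_le_of_card_ge hgrow.le (not_lt.mp hge))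
          refine (big _ (L a) Ra hDa (by rw [hUcard]; exact hcard) (hLle a) hRa).trans (.trans ?_
            (big _ Rb (L b) hDb (by rw [hUcard]; exact hcard) hRb (hLle b)))
          have := Subgroup.card_le_card_group ((Ra : Subgroup G) ⊓ Subgroup.normalizer (F : Set G))
          exact IHm _ (by omega) _ Ra Rb hloc hRa' hRb' (hDa.trans haN) (hDa.trans hRa) (hDb.trans hRb)
            (hcard.trans hsz) rfl
        · -- a Sylow subgroup of the whole group
          have hsyl : ∀ U : Sylow p M, (L U : Subgroup G) = (U : Subgroup M).map M.subtype := fun U =>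
            (Subgroup.eq_of_le_of_card_ge (hLle U) (by
              rw [hUcard U, ← hUcard P', heq, (L U).card_eq_multiplicity, R.card_eq_multiplicity])).symm
          have hmem : Subgroup.normalizer (F : Set G) ∈ FF :=
            hFF ▸ Or.inl (LocalStructure.mem_functorFamily_top.mpr ⟨R, F, heq ▸ hF, rfl⟩)
          refine .single ⟨_, (x : G), LocalStructure.mem_sylowMembers_of_le hmem (L a) (hsyl a ▸ haN),
            LocalStructure.mem_sylowMembers_of_le hmem (L b) (hsyl b ▸ hbN), h3.2, ?_, ?_⟩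
          · rw [hsyl, hsyl, ← h4]
            unfold Cfsg.subgroupConjRight
            rw [Subgroup.map_map, Subgroup.map_map]
            rfl
          · rw [hsyl]
            exact le_inf hDb (hDb.trans hbN)
    refine (big _ A (L P) (hP ▸ le_inf hDA hDM) ?_ (hP ▸ inf_le_left) (hLle P)).trans (key.2.trans ?_)
    · rw [hUcard]; exact hcard
    · refine big _ (L Q) B (hQ ▸ le_inf hDB hDM) ?_ (hLle Q) (hQ ▸ inf_le_left)
      rw [hUcard]; exact hcard
  by_cases hST : S = T
  · rw [hST]
  by_cases hlt : D < (S : Subgroup G) ⊓ (T : Subgroup G)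
  · refine big _ S T hlt.le ?_ inf_le_left inf_le_right
    by_contra hge
    exact hlt.ne (Subgroup.eq_of_le_of_card_ge hlt.le (not_lt.mp hge))
  have hDeq : (S : Subgroup G) ⊓ (T : Subgroup G) = D :=
    (le_inf hDS hDT).eq_or_lt.elim Eq.symm fun h => absurd h hlt
  have hDS' : D < (S : Subgroup G) := lt_of_le_of_ne hDS fun e =>
    hST (Sylow.ext (S.is_maximal' T.isPGroup' (by rw [← e]; exact hDT)).symm)
  have hDT' : D < (T : Subgroup G) := lt_of_le_of_ne hDT fun e =>
    hST (Sylow.ext (T.is_maximal' S.isPGroup' (by rw [← e]; exact hDS)))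
  have hS2 := Fusion.lt_inf_normalizer_of_isPGroup S.isPGroup' hDS'
  have hT2 := Fusion.lt_inf_normalizer_of_isPGroup T.isPGroup' hDT'
  have hlts : ∀ {E : Subgroup G}, D < E → Nat.card D < Nat.card E := fun h => by
    by_contra hge
    exact h.ne (Subgroup.eq_of_le_of_card_ge h.le (not_lt.mp hge))
  obtain ⟨S₁, hS₁, hS₁'⟩ := exists_sylIn (M := Subgroup.normalizer (D : Set G))
    (S.isPGroup'.to_le (inf_le_left (b := Subgroup.normalizer (D : Set G)))) inf_le_right
  obtain ⟨T₁, hT₁, hT₁'⟩ := exists_sylIn (M := Subgroup.normalizer (D : Set G))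
    (T.isPGroup'.to_le (inf_le_left (b := Subgroup.normalizer (D : Set G)))) inf_le_right
  refine (big _ S S₁ hS2.le (hlts hS2) inf_le_left hS₁).trans (.trans ?_
    (big _ T₁ T hT2.le (hlts hT2) hT₁ inf_le_left))
  exact local_ _ _ S₁ T₁ ⟨D, hDp, hD, rfl⟩ hS₁' hT₁' Subgroup.le_normalizer (hS2.le.trans hS₁) (hT2.le.trans hT₁)
    ((hlts hS2).trans_le (Subgroup.card_le_of_le (le_inf hS₁ inf_le_right))) rfl

end Cfsg.Agent.S2956
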