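import Cfsg.Statements.S2957
import Cfsg.Agent.LocalStructure.FunctorFamily

set_option autoImplicit false
open Cfsg

set_option linter.all false

namespace Cfsg.Agent.S2957

/-- Let p be a prime dividing the order of the finite group G, f an equivariant assignment of a set of subgroups f(P) of P to every p-subgroup P, each normalized by N_G(P), and S a Sylow p-subgroup. If G = G₁G₂ for subgroups G₁, G₂ both containing S and both regular for f (in each Gᵢ, the family of normalizers in Gᵢ of the members of f(P), P a Sylow p-subgroup of Gᵢ, controls Sylow p-intersections), then G itself is regular for f. -/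
theorem result {G : Type*} [Group G] [Finite G] (p : ℕ) [Fact p.Prime] (hdiv : p ∣ Nat.card G)
    (f : Subgroup G → Set (Subgroup G)) (hf : Cfsg.IsNormalizerFunctor p f) (S : Sylow p G)
    (G₁ G₂ : Subgroup G) (h₁ : (S : Subgroup G) ≤ G₁) (h₂ : (S : Subgroup G) ≤ G₂)
    (hprod : ∀ g : G, ∃ g₁ ∈ G₁, ∃ g₂ ∈ G₂, g = g₁ * g₂)
    (hr₁ : Cfsg.IsFunctorRegular p f G₁) (hr₂ : Cfsg.IsFunctorRegular p f G₂) :
    Cfsg.IsFunctorRegular p f ⊤ := by
  classical
  have key : ∀ g : G, (S : Subgroup G) ⊓ ((g • S : Sylow p G) : Subgroup G) ≠ ⊥ →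
      Relation.ReflTransGen (LocalStructure.Step p (Cfsg.functorFamily p f ⊤)
        ((S : Subgroup G) ⊓ ((g • S : Sylow p G) : Subgroup G))) S (g • S) := by
    intro g hD
    obtain ⟨g₁, hg₁, g₂, hg₂, rfl⟩ := hprod g
    set D := (S : Subgroup G) ⊓ (((g₁ * g₂) • S : Sylow p G) : Subgroup G) with hDdef
    set D' := LocalStructure.cmap g₁⁻¹ D with hD'def
    have hD'ne : D' ≠ ⊥ := fun e =>
      hD ((Subgroup.map_eq_bot_iff_of_injective _ (MulAut.conj g₁⁻¹).injective).mp e)
    have h21 : ((g₂ • S : Sylow p G) : Subgroup G) ≤ G₂ := by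
      rw [LocalStructure.sylow_coe_smul, ← LocalStructure.cmap_eq_self_of_mem hg₂]
      exact LocalStructure.cmap_mono h₂
    have hD'T : D' ≤ ((g₂ • S : Sylow p G) : Subgroup G) := by
      rw [← inv_smul_smul g₁ (g₂ • S), LocalStructure.sylow_coe_smul g₁⁻¹, ← mul_smul]
      exact LocalStructure.cmap_mono inf_le_right
    have hD'G : D' ≤ G₁ ⊓ G₂ := by
      refine le_inf ?_ (hD'T.trans h21)
      rw [← LocalStructure.cmap_eq_self_of_mem (G₁.inv_mem hg₁)]
      exact LocalStructure.cmap_mono (inf_le_left.trans h₁)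
    have hp : IsPGroup p (D'.subgroupOf (G₁ ⊓ G₂)) :=
      ((g₂ • S : Sylow p G).isPGroup'.to_le hD'T).of_equiv (Subgroup.subgroupOfEquivOfLe hD'G).symm
    obtain ⟨U₀, hU₀⟩ := hp.exists_le_sylow
    obtain ⟨U, hU⟩ := LocalStructure.exists_sylow_coe_eq S (le_inf h₁ h₂) U₀
    have hUle : (U : Subgroup G) ≤ G₁ ⊓ G₂ := hU ▸ Subgroup.map_subtype_le _
    have hDU : D' ≤ (U : Subgroup G) := by
      intro d hd
      rw [hU]
      exact ⟨⟨d, hD'G hd⟩, hU₀ hd, rfl⟩
    have hg₁U : ((g₁ • U : Sylow p G) : Subgroup G) ≤ G₁ := by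
      rw [LocalStructure.sylow_coe_smul, ← LocalStructure.cmap_eq_self_of_mem hg₁]
      exact LocalStructure.cmap_mono (hUle.trans inf_le_left)
    have hDgU : D ≤ ((g₁ • U : Sylow p G) : Subgroup G) := by
      rw [LocalStructure.sylow_coe_smul, ← LocalStructure.cmap_cmap_inv g₁ D]
      exact LocalStructure.cmap_mono hDU
    refine (LocalStructure.chain_of_regular hf hr₁ S (g₁ • U) h₁ hg₁U hD inf_le_left hDgU).trans ?_
    have h2 := LocalStructure.chain_of_regular hf hr₂ U (g₂ • S) (hUle.trans inf_le_right) h21 hD'ne hDU hD'T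
    have h3 := LocalStructure.reflTransGen_step_conj (LocalStructure.functorFamily_top_isNormalSet hf) h2 g₁
    rw [hD'def, LocalStructure.cmap_cmap_inv, ← mul_smul] at h3
    exact h3
  refine LocalStructure.isFunctorRegular_top_of_chains fun A B hne hD => ?_
  obtain ⟨a, rfl⟩ := MulAction.exists_smul_eq G S A
  obtain ⟨b, hb⟩ := MulAction.exists_smul_eq G S B
  have hB : B = a • ((a⁻¹ * b) • S) := by rw [← mul_smul, mul_inv_cancel_left, hb]
  subst hB
  have e : ((a • S : Sylow p G) : Subgroup G) ⊓ ((a • ((a⁻¹ * b) • S) : Sylow p G) : Subgroup G) =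
      LocalStructure.cmap a ((S : Subgroup G) ⊓ (((a⁻¹ * b) • S : Sylow p G) : Subgroup G)) := by
    rw [LocalStructure.sylow_coe_smul, LocalStructure.sylow_coe_smul a, LocalStructure.cmap_inf]
  rw [e] at hD ⊢
  refine LocalStructure.reflTransGen_step_conj (LocalStructure.functorFamily_top_isNormalSet hf)
    (key _ fun h => hD (by rw [h]; exact Subgroup.map_bot _)) a

end Cfsg.Agent.S2957
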