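import Cfsg.Statements.S2958
-- import your own Cfsg.Agent.* helpers here

set_option autoImplicit false
open Cfsg

namespace Cfsg.Agent.S2958

/-- Let X, A, B be subgroups of a group G such that G is generated by the conjugates of X and every conjugate of X is contained in A or in B. Then A = G or B = G. -/
theorem result {G : Type*} [Group G] (X A B : Subgroup G) (hgen : (⨆ g : G, X.map (MulAut.conj g).toMonoidHom) = ⊤) (hcover : ∀ g : G, X.map (MulAut.conj g).toMonoidHom ≤ A ∨ X.map (MulAut.conj g).toMonoidHom ≤ B) : A = ⊤ ∨ B = ⊤ := by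
  classical
  set c : G → Subgroup G := fun g => X.map (MulAut.conj g).toMonoidHom with hc
  have hcc : ∀ a g : G, (c g).map (MulAut.conj a).toMonoidHom = c (a * g) := by
    intro a g
    simp only [hc, Subgroup.map_map]
    congr 1
    ext x; simp [mul_assoc]
  set U : Subgroup G := ⨆ g : {g : G // ¬ c g ≤ A}, c g.1 with hU
  have hUB : U ≤ B := iSup_le fun g => (hcover g.1).resolve_left g.2
  have hAU : ∀ a ∈ A, U.map (MulAut.conj a).toMonoidHom ≤ U := by
    intro a ha
    rw [hU, Subgroup.map_iSup]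
    refine iSup_le fun g => ?_
    rw [hcc]
    refine le_iSup_of_le ⟨a * g.1, fun h => g.2 ?_⟩ le_rfl
    intro x hx
    have hx' : a * x * a⁻¹ ∈ (c g.1).map (MulAut.conj a).toMonoidHom := ⟨x, hx, by simp⟩
    rw [hcc] at hx'
    have := h hx'
    simpa [mul_assoc] using A.mul_mem (A.mul_mem (A.inv_mem ha) this) ha
  have hsup : A ⊔ U = ⊤ := by
    rw [eq_top_iff, ← hgen]
    refine iSup_le fun g => ?_
    by_cases h : c g ≤ A
    · exact le_sup_of_le_left h
    · exact le_sup_of_le_right (le_iSup_of_le ⟨g, h⟩ le_rfl)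
  by_cases hA : ∀ g, c g ≤ A
  · left; rw [eq_top_iff, ← hgen]; exact iSup_le hA
  right
  push_neg at hA
  obtain ⟨g₀, hg₀⟩ := hA
  have hnorm : U.Normal := by
    rw [← Subgroup.normalizer_eq_top_iff, eq_top_iff, ← hsup]
    refine sup_le (fun a ha => ?_) Subgroup.le_normalizer
    rw [Subgroup.mem_normalizer_iff]
    intro x
    constructor
    · intro hx; exact hAU a ha ⟨x, hx, by simp⟩
    · intro hx
      have := hAU a⁻¹ (A.inv_mem ha) ⟨_, hx, rfl⟩
      simpa [mul_assoc] using this
  have hall : U = ⊤ := by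
    rw [eq_top_iff, ← hgen]
    refine iSup_le fun g => ?_
    rintro _ ⟨x, hx, rfl⟩
    have h0 : g₀ * x * g₀⁻¹ ∈ U :=
      (le_iSup (fun g : {g : G // ¬ c g ≤ A} => c g.1) ⟨g₀, hg₀⟩) ⟨x, hx, by simp⟩
    have := hnorm.conj_mem _ h0 (g * g₀⁻¹)
    simpa [mul_assoc] using this
  rw [eq_top_iff, ← hall]
  exact hUB

end Cfsg.Agent.S2958
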