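import Cfsg.Statements.S2959
import Cfsg.Agent.LocalStructure.LocalChar
import Cfsg.Agent.LocalStructure.WeaklyClosed

set_option autoImplicit false
open Cfsg

set_option linter.all false

namespace Cfsg.Agent.S2959

open scoped commutatorElement

/-- Let G be a finite group of characteristic p, that is C_G(O_p(G)) ≤ O_p(G), with p prime, and let L be a subgroup of G normalized by O_p(G). Then L has characteristic p: C_L(O_p(L)) ≤ O_p(L). -/
theorem result {G : Type*} [Group G] [Finite G] {p : ℕ} [Fact p.Prime] (hG : Subgroup.centralizer (Cfsg.pCore p G : Set G) ≤ Cfsg.pCore p G) (L : Subgroup G) (hL : Cfsg.pCore p G ≤ Subgroup.normalizer (L : Set G)) : Subgroup.centralizer (Cfsg.pCore p ↥L : Set ↥L) ≤ Cfsg.pCore p ↥L := by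
  set O := Cfsg.pCore p G with hO
  refine LocalStructure.charP_iff.mp (LocalStructure.charP_of_coprime fun x hx hxc hxO => ?_)
  have hA : O ⊓ L ≤ Cfsg.pCoreOf p L := LocalStructure.le_pCoreOf_of_normal inf_le_right
    (Coprime.le_normalizer_inf Subgroup.le_normalizer_of_normal Subgroup.le_normalizer)
    (Core.pCore_isPGroup.to_le inf_le_left)
  have h1 : x ∈ Subgroup.centralizer (O : Set G) := by
    refine LocalStructure.commute_of_double_commutator Core.pCore_isPGroup
      ((Subgroup.normalizer_eq_top (H := O)).ge (Subgroup.mem_top x)) hxc fun v hv => ?_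
    have hmem : ⁅x, v⁆ ∈ O ⊓ L := by
      refine ⟨?_, ?_⟩
      · rw [commutatorElement_def]
        exact O.mul_mem ((inferInstance : O.Normal).conj_mem v hv x) (O.inv_mem hv)
      · rw [show ⁅x, v⁆ = x * (v * x⁻¹ * v⁻¹) by simp only [commutatorElement_def]; group]
        exact L.mul_mem hx ((Subgroup.mem_normalizer_iff.mp (hL hv) _).mp (L.inv_mem hx))
    exact (Subgroup.mem_centralizer_iff.mp hxO _ (hA hmem)).symm
  exact Subgroup.mem_bot.mp (LocalStructure.coprime_mem_centralizer_of_isPGroup Core.pCore_isPGroup (hG h1) hxc)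

end Cfsg.Agent.S2959
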