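import Cfsg.Statements.S2960
import Cfsg.Agent.LocalStructure.LocalChar
import Cfsg.Agent.LocalStructure.WeaklyClosed

set_option autoImplicit false
open Cfsg

set_option linter.all false

namespace Cfsg.Agent.S2960

/-- Let G be a finite group of characteristic p (C_G(O_p(G)) ≤ O_p(G)), p prime, T a Sylow p-subgroup of G and Q a normal subgroup of T with C_T(Q) ≤ Q. Then C_G(Q) ≤ Q. -/
theorem result {G : Type*} [Group G] [Finite G] {p : ℕ} [Fact p.Prime] (hG : Subgroup.centralizer (Cfsg.pCore p G : Set G) ≤ Cfsg.pCore p G) (T : Sylow p G) (Q : Subgroup G) (hQT : Q ≤ (T : Subgroup G)) (hQn : (T : Subgroup G) ≤ Subgroup.normalizer (Q : Set G)) (hC : (T : Subgroup G) ⊓ Subgroup.centralizer (Q : Set G) ≤ Q) : Subgroup.centralizer (Q : Set G) ≤ Q := by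
  set C := Subgroup.centralizer (Q : Set G) with hCdef
  set O := Cfsg.pCore p G with hO
  have hTC : (T : Subgroup G) ≤ Subgroup.normalizer (C : Set G) := Coprime.le_normalizer_centralizer hQn
  have hCp : IsPGroup p C := by
    refine LocalStructure.isPGroup_of_forall_coprime fun x hx hxc => ?_
    have h1 : Subgroup.zpowers x ≤ Subgroup.centralizer (O : Set G) := by
      refine Coprime.thompson_pxq (T.2.to_le hQT) (by rwa [Nat.card_zpowers]) Core.pCore_isPGroup
        (Subgroup.le_centralizer_iff.mp (Subgroup.zpowers_le.mpr hx)) Subgroup.le_normalizer_of_normal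
        Subgroup.le_normalizer_of_normal ?_
      rw [Subgroup.le_centralizer_iff, Subgroup.zpowers_le]
      exact Subgroup.centralizer_le (SetLike.coe_subset_coe.mpr
        (fun o ho => hC ⟨Core.pCore_le_sylow T ho.1, ho.2⟩)) hx
    exact Subgroup.mem_bot.mp (LocalStructure.coprime_mem_centralizer_of_isPGroup Core.pCore_isPGroup
      (hG (h1 (Subgroup.mem_zpowers x))) hxc)
  have h2 := T.3 (T.2.to_sup_of_normal_right' hCp hTC) le_sup_left
  exact fun x hx => hC ⟨h2 ▸ Subgroup.mem_sup_right hx, hx⟩

end Cfsg.Agent.S2960
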