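import Cfsg.Statements.S2961
import Cfsg.Agent.LocalStructure.LocalChar
import Cfsg.Agent.LocalStructure.WeaklyClosed
import Cfsg.Agent.S2960

set_option autoImplicit false
open Cfsg

set_option linter.all false

namespace Cfsg.Agent.S2961

open scoped commutatorElement

/-- Let G be a finite group of characteristic p (C_G(O_p(G)) ≤ O_p(G)), p prime, T a Sylow p-subgroup of G and Q a normal subgroup of T with C_T(Q) ≤ Q. Then every subgroup L of G containing Q has characteristic p: C_L(O_p(L)) ≤ O_p(L). -/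
theorem result {G : Type*} [Group G] [Finite G] {p : ℕ} [Fact p.Prime] (hG : Subgroup.centralizer (Cfsg.pCore p G : Set G) ≤ Cfsg.pCore p G) (T : Sylow p G) (Q : Subgroup G) (hQT : Q ≤ (T : Subgroup G)) (hQn : (T : Subgroup G) ≤ Subgroup.normalizer (Q : Set G)) (hC : (T : Subgroup G) ⊓ Subgroup.centralizer (Q : Set G) ≤ Q) (L : Subgroup G) (hQL : Q ≤ L) : Subgroup.centralizer (Cfsg.pCore p ↥L : Set ↥L) ≤ Cfsg.pCore p ↥L := by
  have hCQ := Cfsg.Agent.S2960.result hG T Q hQT hQn hC
  set O := Cfsg.pCore p G with hO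
  set U := Cfsg.pCoreOf p L with hU
  set D := L ⊓ Subgroup.centralizer (U : Set G) with hD
  have hLD : L ≤ Subgroup.normalizer (D : Set G) := Coprime.le_normalizer_inf Subgroup.le_normalizer
    (Coprime.le_normalizer_centralizer (LocalStructure.le_normalizer_pCoreOf L))
  set Z : Subgroup G := ⁅Q, O⁆ with hZ
  have hON : O ≤ Subgroup.normalizer (Q : Set G) := (Core.pCore_le_sylow T).trans hQn
  have hZQ : Z ≤ Q ⊓ O := le_inf (Subgroup.le_normalizer_iff_commutator_le_left.mp hON)
    (Subgroup.le_normalizer_iff_commutator_le_right.mp Subgroup.le_normalizer_of_normal)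
  have hZU : Z ≤ U := hZQ.trans ((le_inf inf_le_right (inf_le_left.trans hQL) : Q ⊓ O ≤ O ⊓ L).trans
    (LocalStructure.le_pCoreOf_of_normal inf_le_right
      (Coprime.le_normalizer_inf Subgroup.le_normalizer_of_normal Subgroup.le_normalizer)
      (Core.pCore_isPGroup.to_le inf_le_left)))
  have hDZ : D ≤ Subgroup.centralizer (Z : Set G) :=
    inf_le_right.trans (Subgroup.centralizer_le (SetLike.coe_subset_coe.mpr hZU))
  set R : Subgroup G := ⁅D, Q⁆ with hR
  have hRD : R ≤ D := Subgroup.le_normalizer_iff_commutator_le_left.mp (hQL.trans hLD)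
  let E : Subgroup G :=
    { carrier := {h | h ∈ Subgroup.normalizer (Z : Set G) ∧ ∀ w ∈ O, ⁅h, w⁆ ∈ Z}
      mul_mem' := by
        rintro a b ⟨ha, ha''⟩ ⟨hb, hb''⟩
        refine ⟨mul_mem ha hb, fun w hw => ?_⟩
        rw [show ⁅a * b, w⁆ = a * ⁅b, w⁆ * a⁻¹ * ⁅a, w⁆ by simp only [commutatorElement_def]; group]
        exact Z.mul_mem ((Subgroup.mem_normalizer_iff.mp ha _).mp (hb'' w hw)) (ha'' w hw)
      one_mem' := ⟨one_mem _, fun w _ => by rw [commutatorElement_one_left]; exact Z.one_mem⟩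
      inv_mem' := by
        rintro a ⟨ha, ha''⟩
        refine ⟨inv_mem ha, fun w hw => ?_⟩
        rw [show ⁅a⁻¹, w⁆ = a⁻¹ * (⁅a, w⁆⁻¹) * a⁻¹⁻¹ by simp only [commutatorElement_def]; group]
        exact (Subgroup.mem_normalizer_iff.mp (inv_mem ha) _).mp (inv_mem (ha'' w hw)) }
  have hRE : R ≤ E := by
    rw [hR, Subgroup.commutator_le]
    intro d hd q hq
    have hdZ : d ∈ Subgroup.normalizer (Z : Set G) := Subgroup.centralizer_le_normalizer _ (hDZ hd)
    have hqZ : q ∈ Subgroup.normalizer (Z : Set G) := Subgroup.normalizer_commutator_ge_left Q O hq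
    have h1 : d * q * d⁻¹ ∈ E := by
      refine ⟨mul_mem (mul_mem hdZ hqZ) (inv_mem hdZ), fun w hw => ?_⟩
      have hw' : d⁻¹ * w * d ∈ O := by simpa using (inferInstance : O.Normal).conj_mem w hw d⁻¹
      have h3 : ⁅q, d⁻¹ * w * d⁆ ∈ Z := Subgroup.commutator_mem_commutator hq hw'
      rw [show ⁅d * q * d⁻¹, w⁆ = d * ⁅q, d⁻¹ * w * d⁆ * d⁻¹ by simp only [commutatorElement_def]; group]
      rw [← Subgroup.mem_centralizer_iff.mp (hDZ hd) _ h3, mul_assoc, mul_inv_cancel, mul_one]
      exact h3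
    have h2 : q ∈ E := ⟨hqZ, fun w hw => Subgroup.commutator_mem_commutator hq hw⟩
    rw [show ⁅d, q⁆ = d * q * d⁻¹ * q⁻¹ from rfl]
    exact E.mul_mem h1 (E.inv_mem h2)
  have hRp : IsPGroup p R := by
    refine LocalStructure.isPGroup_of_forall_coprime fun x hx hxc => ?_
    have h1 : x ∈ Subgroup.centralizer (O : Set G) :=
      LocalStructure.commute_of_double_commutator Core.pCore_isPGroup
        ((Subgroup.normalizer_eq_top (H := O)).ge (Subgroup.mem_top x)) hxc
        fun v hv => (Subgroup.mem_centralizer_iff.mp (hDZ (hRD hx)) _ ((hRE hx).2 v hv)).symm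
    exact Subgroup.mem_bot.mp (LocalStructure.coprime_mem_centralizer_of_isPGroup Core.pCore_isPGroup (hG h1) hxc)
  have hRU : R ≤ U := by
    refine LocalStructure.le_pCoreOf (hRD.trans inf_le_left) ?_ hRp
    refine Subgroup.IsSubnormal.trans (K := D.subgroupOf L) (fun x hx => hRD hx) ?_
      (Subgroup.Normal.isSubnormal (Subgroup.normal_subgroupOf_of_le_normalizer hLD))
    refine Subgroup.Normal.isSubnormal (Subgroup.normal_subgroupOf_of_le_normalizer fun x hx => ?_)
    have hx' : (x : G) ∈ Subgroup.normalizer (R : Set G) := Subgroup.normalizer_commutator_ge_left D Q hx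
    rw [Subgroup.mem_normalizer_iff]
    intro y
    exact Subgroup.mem_normalizer_iff.mp hx' (y : G)
  refine LocalStructure.charP_iff.mp (LocalStructure.charP_of_coprime fun x hx hxc hxU => ?_)
  have hxD : x ∈ D := ⟨hx, hxU⟩
  set W := U ⊔ Q with hW
  have hWp : IsPGroup p W := (LocalStructure.pCoreOf_isPGroup L).to_sup_of_normal_left' (T.2.to_le hQT)
    (hQL.trans (LocalStructure.le_normalizer_pCoreOf L))
  have hxW : x ∈ Subgroup.normalizer (W : Set G) := by
    refine Layer.mem_normalizer_of_conj_mem fun y hy => ?_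
    suffices W ≤ W.comap (MulAut.conj x).toMonoidHom from this hy
    refine sup_le (fun z hz => Subgroup.mem_comap.mpr (Subgroup.mem_sup_left
      ((Subgroup.mem_normalizer_iff.mp (LocalStructure.le_normalizer_pCoreOf L hx) z).mp hz))) fun q hq => ?_
    show x * q * x⁻¹ ∈ W
    rw [show x * q * x⁻¹ = ⁅x, q⁆ * q by simp only [commutatorElement_def]; group]
    exact Subgroup.mul_mem_sup (hRU (Subgroup.commutator_mem_commutator hxD hq)) hq
  have h4 : x ∈ Subgroup.centralizer (W : Set G) := by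
    refine LocalStructure.commute_of_double_commutator hWp hxW hxc fun v hv => ?_
    have hmem : ⁅x, v⁆ ∈ U := by
      obtain ⟨u, hu, q, hq, rfl⟩ := (Coprime.mem_sup_of_le_normalizer
        (hQL.trans (LocalStructure.le_normalizer_pCoreOf L))).mp hv
      rw [show ⁅x, u * q⁆ = ⁅x, u⁆ * (u * ⁅x, q⁆ * u⁻¹) by simp only [commutatorElement_def]; group,
        commutatorElement_eq_one_iff_mul_comm.mpr (Subgroup.mem_centralizer_iff.mp hxU u hu).symm, one_mul]
      exact U.mul_mem (U.mul_mem hu (hRU (Subgroup.commutator_mem_commutator hxD hq))) (U.inv_mem hu)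
    exact (Subgroup.mem_centralizer_iff.mp hxU _ hmem).symm
  exact Subgroup.mem_bot.mp (LocalStructure.coprime_mem_centralizer_of_isPGroup (T.2.to_le hQT)
    (hCQ (Subgroup.centralizer_le (SetLike.coe_subset_coe.mpr le_sup_right) h4)) hxc)

end Cfsg.Agent.S2961
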