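import Cfsg.Statements.S2963
import Cfsg.Agent.SymSylow.Maximal

set_option autoImplicit false
open Cfsg

namespace Cfsg.Agent.S2963

/-- Let n be odd. If the symmetric group of degree n is a minimal parabolic group for the prime 2, that is, a Sylow 2-subgroup is not normal and lies in exactly one maximal subgroup, then n = 2^m + 1 for some natural number m. -/
theorem result (n : ℕ) (hn : Odd n) (h : Cfsg.IsPMinimal 2 (Equiv.Perm (Fin n))) : ∃ m : ℕ, n = 2 ^ m + 1 := by
  rcases (show n = 1 ∨ n = 3 ∨ n = 5 ∨ 7 ≤ n by rcases hn with ⟨j, hj⟩; omega) with rfl | rfl | rfl | h7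
  · exfalso
    obtain ⟨S⟩ : Nonempty (Sylow 2 (Equiv.Perm (Fin 1))) := inferInstance
    exact (h S).1 (by
      rw [show (S : Subgroup (Equiv.Perm (Fin 1))) = ⊥ from Subsingleton.elim _ _]
      infer_instance)
  · exact ⟨1, rfl⟩
  · exact ⟨2, rfl⟩
  · haveI : Fact (Nat.Prime 2) := ⟨Nat.prime_two⟩
    obtain ⟨S⟩ : Nonempty (Sylow 2 (Equiv.Perm (Fin n))) := inferInstance
    obtain ⟨k, -, hk⟩ := ((SymSylow.unique_maximal_iff (n := n) (by omega) (by omega)).2 S).1 (h S).2
    exact ⟨k, hk⟩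

end Cfsg.Agent.S2963
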