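import Cfsg.Statements.S2968
import Cfsg.Agent.LocalStructure.Isolated


set_option autoImplicit false
open Cfsg

set_option linter.all false

namespace Cfsg.Agent.S2968

/-- Let G be a finite group, p a prime, P a Sylow p-subgroup of G and x ∈ P an element of p-power order which is isolated in G (the only conjugate of x commuting with x is x itself). Then x lies in the centre of P, and the subgroup generated by x is both strongly closed and weakly closed in P with respect to G. -/
theorem result {G : Type*} [Group G] [Finite G] {p : ℕ} [Fact p.Prime] (P : Sylow p G) (x : G) (hxP : x ∈ (P : Subgroup G)) (hx : ∃ k : ℕ, orderOf x = p ^ k) (hiso : Cfsg.IsIsolated x) : x ∈ (P : Subgroup G) ⊓ Subgroup.centralizer ((P : Subgroup G) : Set G) ∧ Cfsg.IsStronglyClosed (Subgroup.zpowers x) (P : Subgroup G) ∧ Cfsg.IsWeaklyClosed (Subgroup.zpowers x) (P : Subgroup G) := by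
  classical
  have hcen := LocalStructure.le_centralizer_of_isolated hiso P.isPGroup' hxP
  have hxC : x ∈ Subgroup.centralizer ((P : Subgroup G) : Set G) := by
    rw [Subgroup.mem_centralizer_iff]
    exact fun q hq => (Subgroup.mem_centralizer_iff.mp (hcen hq) x rfl).symm
  have hsc : ∀ y ∈ Subgroup.zpowers x, ∀ g : G, g * y * g⁻¹ ∈ (P : Subgroup G) →
      g * y * g⁻¹ = y := by
    intro y hy g hg
    obtain ⟨k, rfl⟩ := hy
    simp only at hg ⊢
    set z := g * x ^ k * g⁻¹ with hz
    set C : Subgroup G := Subgroup.centralizer ({z} : Set G) with hC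
    have hxz : Commute x z := (Subgroup.mem_centralizer_iff.mp (hcen hg) x rfl)
    have hxmem : x ∈ C := by
      rw [hC, Subgroup.mem_centralizer_iff]
      rintro _ rfl
      exact hxz.symm.eq
    have hgxmem : g * x * g⁻¹ ∈ C := by
      rw [hC, Subgroup.mem_centralizer_iff]
      rintro _ rfl
      have : Commute (x ^ k) x := (Commute.refl x).zpow_left k
      exact (this.map (MulAut.conj g).toMonoidHom).eq
    obtain ⟨S, -, hSp, hxS, c, hc, hcS⟩ := LocalStructure.exists_mem_conj (p := p) hxmem hgxmem hx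
      (by rw [LocalStructure.orderOf_conj_eq]; exact hx)
    have e : c * (g * x * g⁻¹) * c⁻¹ = (c * g) * x * (c * g)⁻¹ := by group
    rw [e] at hcS
    have h1 := LocalStructure.eq_of_mem_of_isolated hiso hSp hxS hcS
    have h2 : (c * g) * x ^ k * (c * g)⁻¹ = x ^ k := by rw [← conj_zpow, h1]
    have h3 : c * z * c⁻¹ = z :=
      mul_inv_eq_iff_eq_mul.mpr (Subgroup.mem_centralizer_iff.mp hc z rfl).symm
    calc z = c * z * c⁻¹ := h3.symm
      _ = (c * g) * x ^ k * (c * g)⁻¹ := by rw [hz]; group
      _ = x ^ k := h2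
  have hle : Subgroup.zpowers x ≤ (P : Subgroup G) := Subgroup.zpowers_le.mpr hxP
  refine ⟨⟨hxP, hxC⟩, ⟨hle, fun y hy g hg => (hsc y hy g hg).symm ▸ hy⟩, hle, fun g hg => ?_⟩
  have h1 : g * x * g⁻¹ = x :=
    hsc x (Subgroup.mem_zpowers x) g (hg ⟨x, Subgroup.mem_zpowers x, rfl⟩)
  rw [MonoidHom.map_zpowers]
  exact congrArg Subgroup.zpowers h1

end Cfsg.Agent.S2968
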