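import Cfsg.Statements.S2969
import Cfsg.Agent.LocalStructure.Isolated


set_option autoImplicit false
open Cfsg

set_option linter.all false

namespace Cfsg.Agent.S2969

/-- Let G be a finite group, p a prime and x ∈ G an element of p-power order which is isolated in G. If R is a p-subgroup of G containing x, then N_G(R) ≤ C_G(x); in particular x lies in the centre of R. Moreover, if x lies in a normal subgroup N of a subgroup H of G, then H = N·C_H(x). -/
theorem result {G : Type*} [Group G] [Finite G] {p : ℕ} [Fact p.Prime] (x : G) (hx : ∃ k : ℕ, orderOf x = p ^ k) (hiso : Cfsg.IsIsolated x) : (∀ R : Subgroup G, IsPGroup p ↥R → x ∈ R → Subgroup.normalizer (R : Set G) ≤ Subgroup.centralizer ({x} : Set G)) ∧ (∀ H N : Subgroup G, N ≤ H → H ≤ Subgroup.normalizer (N : Set G) → x ∈ N → N ⊔ (H ⊓ Subgroup.centralizer ({x} : Set G)) = H) := by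
  classical
  refine ⟨fun R hR hxR g hg => ?_, fun H N hNH hHN hxN => ?_⟩
  · exact LocalStructure.mem_centralizer_of_conj_eq (LocalStructure.eq_of_mem_of_isolated hiso hR hxR
      ((Subgroup.mem_normalizer_iff.mp hg x).mp hxR))
  · refine le_antisymm (sup_le hNH inf_le_left) fun h hh => ?_
    have hy : h * x * h⁻¹ ∈ N := (Subgroup.mem_normalizer_iff.mp (hHN hh) x).mp hxN
    obtain ⟨S, -, hSp, hxS, n, hn, hnS⟩ := LocalStructure.exists_mem_conj (p := p) hxN hy hx
      (by rw [LocalStructure.orderOf_conj_eq]; exact hx)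
    have e : n * (h * x * h⁻¹) * n⁻¹ = (n * h) * x * (n * h)⁻¹ := by group
    rw [e] at hnS
    have h1 := LocalStructure.mem_centralizer_of_conj_eq
      (LocalStructure.eq_of_mem_of_isolated hiso hSp hxS hnS)
    have h2 : n⁻¹ * (n * h) ∈ N ⊔ (H ⊓ Subgroup.centralizer ({x} : Set G)) :=
      Subgroup.mul_mem_sup (N.inv_mem hn) ⟨H.mul_mem (hNH hn) hh, h1⟩
    simpa using h2

end Cfsg.Agent.S2969
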