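import Cfsg.Statements.S2970
import Cfsg.Agent.LocalStructure.Isolated
import Cfsg.Agent.Fusion.Transfer
import Cfsg.Agent.Fusion.Residual
import Cfsg.Agent.Coprime.Basic


set_option autoImplicit false
open Cfsg

set_option linter.all false

namespace Cfsg.Agent.S2970

/-- Let G be a finite group, p a prime and x ∈ G an element of p-power order which is isolated in G. Then the image of x in any quotient G ⧸ N is isolated in G ⧸ N; and if x ≠ 1 and the Sylow p-subgroups of G are cyclic, then G has a normal p-complement. -/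
theorem result {G : Type*} [Group G] [Finite G] {p : ℕ} [Fact p.Prime] (x : G) (hx : ∃ k : ℕ, orderOf x = p ^ k) (hiso : Cfsg.IsIsolated x) : (∀ (N : Subgroup G) [N.Normal], Cfsg.IsIsolated (QuotientGroup.mk x : G ⧸ N)) ∧ (x ≠ 1 → (∀ P : Sylow p G, IsCyclic ↥(P : Subgroup G)) → Cfsg.HasNormalPComplement p G) := by
  classical
  refine ⟨fun N _ => LocalStructure.isolated_map hx hiso N, fun hx1 hcyc => ?_⟩
  obtain ⟨P⟩ : Nonempty (Sylow p G) := inferInstance
  haveI := hcyc P
  haveI : IsMulCommutative (P : Subgroup G) := ⟨⟨fun a b => by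
    obtain ⟨g, hg⟩ := IsCyclic.exists_generator (α := (P : Subgroup G))
    obtain ⟨i, rfl⟩ := hg a
    obtain ⟨j, rfl⟩ := hg b
    exact (((Commute.refl g).zpow_zpow i j)).eq⟩⟩
  -- a conjugate of `x` in `P`
  obtain ⟨S, hS⟩ := (LocalStructure.isPGroup_zpowers hx).exists_le_sylow
  obtain ⟨t, ht⟩ := MulAction.exists_smul_eq G S P
  set y := t * x * t⁻¹ with hy
  have hyP : y ∈ (P : Subgroup G) := by
    rw [← ht]
    exact ⟨x, hS (Subgroup.mem_zpowers x), by simp [hy]⟩
  have hyiso : Cfsg.IsIsolated y := LocalStructure.isolated_conj hiso t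
  obtain ⟨k, hk⟩ := hx
  have hyo : orderOf y = p ^ k := by rw [hy, LocalStructure.orderOf_conj_eq, hk]
  have hk0 : k ≠ 0 := by
    rintro rfl
    exact hx1 (orderOf_eq_one_iff.mp (by simpa using hk))
  refine Fusion.hasNormalPComplement_of_normalizer_le_centralizer (P := P) ?_
  intro g hg
  obtain ⟨a, b, hab, -, ha, hb, ⟨i, hai⟩, hbo⟩ := Fusion.exists_pPart_mul (p := p) g (isOfFinOrder_of_finite g)
  have haN : a ∈ Subgroup.normalizer ((P : Subgroup G) : Set G) := Subgroup.zpowers_le.mpr hg ha
  have hbN : b ∈ Subgroup.normalizer ((P : Subgroup G) : Set G) := Subgroup.zpowers_le.mpr hg hb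
  have haP : a ∈ (P : Subgroup G) := by
    obtain ⟨j, -, hj⟩ := (Nat.dvd_prime_pow (Fact.out : p.Prime)).mp hai
    have h := (LocalStructure.isPGroup_zpowers (p := p) ⟨j, hj⟩).inf_normalizer_sylow P
    exact ((h.le ⟨Subgroup.mem_zpowers a, haN⟩) : a ∈ Subgroup.zpowers a ⊓ (P : Subgroup G)).2
  have hbC : b ∈ Subgroup.centralizer ((P : Subgroup G) : Set G) := by
    refine (Coprime.le_centralizer_of_fixes_prime_order (A := Subgroup.zpowers b) (V := (P : Subgroup G))
      (Subgroup.zpowers_le.mpr hbN) ?_ ?_) (Subgroup.mem_zpowers b)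
    · obtain ⟨n, hn⟩ := IsPGroup.iff_card.mp P.isPGroup'
      rw [Nat.card_zpowers, hn]
      exact hbo.pow_right n
    · intro v hv hvp c hc
      have hfix : ∀ c ∈ Subgroup.zpowers b, c * y * c⁻¹ = y := fun c hc =>
        LocalStructure.eq_of_mem_of_isolated hyiso P.isPGroup' hyP
          ((Subgroup.mem_normalizer_iff.mp (Subgroup.zpowers_le.mpr hbN hc) y).mp hyP)
      -- `v` is a power of `y`
      have hvy : v ∈ Subgroup.zpowers y := by
        have hdiv : orderOf v ∣ orderOf y := by
          have h1 : orderOf (⟨v, hv⟩ : (P : Subgroup G)) ∣ Nat.card (P : Subgroup G) := orderOf_dvd_natCard _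
          obtain ⟨n, hn⟩ := IsPGroup.iff_card.mp P.isPGroup'
          rw [Subgroup.orderOf_mk, hn] at h1
          obtain ⟨j, -, hj⟩ := (Nat.dvd_prime_pow (Fact.out : p.Prime)).mp h1
          have hj1 : j = 1 := by
            rw [hj] at hvp
            exact Nat.Prime.eq_one_of_pow hvp
          rw [hj, hj1, hyo]
          exact pow_dvd_pow p (by omega)
        set n := orderOf y with hn
        have := Fintype.ofFinite (P : Subgroup G)
        have hsub : ((Subgroup.zpowers (⟨y, hyP⟩ : (P : Subgroup G))) : Set (P : Subgroup G)) ⊆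
            {w | w ^ n = 1} := by
          rintro _ ⟨j, rfl⟩
          apply Subtype.ext
          show ((y ^ j) ^ n : G) = 1
          rw [← zpow_natCast, ← zpow_mul, mul_comm, zpow_mul, zpow_natCast, hn, pow_orderOf_eq_one, one_zpow]
        have heq := Set.eq_of_subset_of_ncard_le hsub (by
          rw [← Nat.card_coe_set_eq ((Subgroup.zpowers (⟨y, hyP⟩ : (P : Subgroup G))) : Set (P : Subgroup G)),
            SetLike.coe_sort_coe, Nat.card_zpowers, Subgroup.orderOf_mk, ← hn,
            Set.ncard_eq_toFinset_card']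
          refine le_trans (le_of_eq ?_) (IsCyclic.card_pow_eq_one_le (α := (P : Subgroup G)) (orderOf_pos y))
          congr 1; ext; simp [hn])
        have hvm : (⟨v, hv⟩ : (P : Subgroup G)) ∈ {w | w ^ n = 1} := by
          apply Subtype.ext
          simpa using orderOf_dvd_iff_pow_eq_one.mp hdiv
        rw [← heq] at hvm
        obtain ⟨j, hj⟩ := hvm
        exact ⟨j, congrArg Subtype.val hj⟩
      obtain ⟨j, rfl⟩ := hvy
      show c * y ^ j = y ^ j * c
      have : c * y ^ j * c⁻¹ = y ^ j := by rw [← conj_zpow, hfix c hc]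
      exact mul_inv_eq_iff_eq_mul.mp this
  rw [hab]
  exact Subgroup.mul_mem _ (Subgroup.le_centralizer (P : Subgroup G) haP) hbC

end Cfsg.Agent.S2970
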