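import Cfsg.Statements.S2971
import Cfsg.Agent.LocalStructure.Isolated
import Cfsg.Agent.LocalStructure.OmegaAction
import Cfsg.Agent.Fusion.Frobenius
import Cfsg.Agent.Fusion.Residual
import Cfsg.Agent.Thompson.Basic
import Cfsg.Agent.Core.PCore


set_option autoImplicit false
open Cfsg

set_option linter.all false

namespace Cfsg.Agent.S2971

/-- Let G be a finite group and p an odd prime such that G has p-rank at most 1 (no elementary abelian subgroup of order p²). If x ∈ G is an isolated element of order p, then x is central modulo the largest normal subgroup of G of order prime to p. -/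
theorem result {G : Type*} [Group G] [Finite G] {p : ℕ} [Fact p.Prime] (hp : p ≠ 2) (hrk : Cfsg.PRankLE p 1 G) (x : G) (hx : orderOf x = p) (hiso : Cfsg.IsIsolated x) : Cfsg.InZStar p x := by
  classical
  have hxp : ∃ k : ℕ, orderOf x = p ^ k := ⟨1, by rw [hx, pow_one]⟩
  have hp' : p.Prime := Fact.out
  have huniq : ∀ u v : G, orderOf u = p → v ^ p = 1 → Commute u v → v ∈ Subgroup.zpowers u := by
    intro u v hu hv huv
    have hea := Thompson.ea_sup (Thompson.ea_zpowers (p := p) (x := u) (by rw [← hu, pow_orderOf_eq_one]))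
      (Thompson.ea_zpowers (p := p) hv) (by
        rw [Subgroup.zpowers_le, Subgroup.mem_centralizer_iff]
        rintro _ ⟨j, rfl⟩
        exact (huv.zpow_right j).eq.symm)
    have hc := hrk _ hea.1 hea.2
    rw [pow_one] at hc
    have heq : Subgroup.zpowers u = Subgroup.zpowers u ⊔ Subgroup.zpowers v :=
      Subgroup.eq_of_le_of_card_ge le_sup_left (by rw [Nat.card_zpowers, hu]; exact hc)
    rw [heq]
    exact Subgroup.mem_sup_right (Subgroup.mem_zpowers v)
  have hcomp : Cfsg.HasNormalPComplement p G := by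
    refine Fusion.hasNormalPComplement_of_frobenius fun Q hQ g hg hgo => ?_
    refine LocalStructure.le_centralizer_of_fixes_omega hp hQ (A := Subgroup.zpowers g)
      (Subgroup.zpowers_le.mpr hg) (by rw [Nat.card_zpowers]; exact hgo) ?_ (Subgroup.mem_zpowers g)
    intro v hv hvp c hc
    by_cases hv1 : v = 1
    · simp [hv1]
    obtain ⟨S, hS⟩ := hQ.exists_le_sylow
    obtain ⟨S₀, hS₀⟩ := (LocalStructure.isPGroup_zpowers hxp).exists_le_sylow
    obtain ⟨t, ht⟩ := MulAction.exists_smul_eq G S₀ S
    set y := t * x * t⁻¹ with hy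
    have hyS : y ∈ (S : Subgroup G) := by
      rw [← ht]
      exact ⟨x, hS₀ (Subgroup.mem_zpowers x), by simp [hy]⟩
    have hyiso : Cfsg.IsIsolated y := LocalStructure.isolated_conj hiso t
    have hyo : orderOf y = p := by rw [hy, LocalStructure.orderOf_conj_eq, hx]
    have hyv : Commute y v := Subgroup.mem_centralizer_iff.mp
      (LocalStructure.le_centralizer_of_isolated hyiso S.isPGroup' hyS (hS hv)) y rfl
    have hvo : orderOf v = p := orderOf_eq_prime hvp hv1
    have hyQ : y ∈ Q :=
      Subgroup.zpowers_le.mpr hv (huniq v y hvo (by rw [← hyo, pow_orderOf_eq_one]) hyv.symm)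
    have hcy : c * y * c⁻¹ = y := LocalStructure.eq_of_mem_of_isolated hyiso hQ hyQ
      ((Subgroup.mem_normalizer_iff.mp (Subgroup.zpowers_le.mpr hg hc) y).mp hyQ)
    obtain ⟨j, rfl⟩ := huniq y v hyo hvp hyv
    show c * y ^ j = y ^ j * c
    have : c * y ^ j * c⁻¹ = y ^ j := by rw [← conj_zpow, hcy]
    exact mul_inv_eq_iff_eq_mul.mp this
  intro g
  have hcp := Fusion.hasNormalPComplement_iff.mp hcomp
  have hle : Cfsg.pResidual p G ≤ Cfsg.pPrimeCore p G := Core.le_pPrimeCore hcp
  apply hle
  have h1 := LocalStructure.commute_of_isolated_of_isPGroup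
    (LocalStructure.isolated_map hxp hiso (Cfsg.pResidual p G))
    (Fusion.isPGroup_quotient_pResidual (G := G) (p := p)) (QuotientGroup.mk g)
  rw [← QuotientGroup.eq_one_iff]
  simp only [QuotientGroup.mk_mul, QuotientGroup.mk_inv]
  rw [← h1.eq]
  group

end Cfsg.Agent.S2971
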