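import Cfsg.Statements.S2972
import Cfsg.Agent.Core.PCore
import Cfsg.Agent.Fusion.Residual
import Cfsg.Agent.Fusion.Transfer
import Cfsg.Agent.LocalStructure.Isolated
import Cfsg.Agent.Coprime.Tools

set_option autoImplicit false
open Cfsg

set_option linter.all false

namespace Cfsg.Agent.S2972

open Subgroup
open scoped commutatorElement

theorem pPrime_trivial {G : Type*} [Group G] [Finite G] {p : ℕ} (hO : Cfsg.pPrimeCore p G = ⊥) (N : Subgroup G)
    [N.Normal] {X : Subgroup N} [X.Normal] (hX : (Nat.card X).Coprime p) : X = ⊥ := by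
  have h1 := map_mono (f := N.subtype) (Core.le_pPrimeCore (p := p) hX)
  rw [Core.map_pPrimeCore_normal, hO, bot_inf_eq, le_bot_iff,
    map_eq_bot_iff_of_injective _ N.subtype_injective] at h1
  exact h1

/-- Let G be a finite group, p a prime and x ∈ G an isolated element of order p (the only conjugate of x commuting with x is x) which is not central modulo the largest normal subgroup of order prime to p, while x is central modulo the largest normal subgroup of order prime to p in every proper subgroup containing x, and the image of x is so in every quotient of G by a nontrivial normal subgroup (a minimal counterexample to the Z*_p statement). Then the derived subgroup G' is a non-abelian simple group and G = G'⟨x⟩. -/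
theorem result {G : Type*} [Group G] [Finite G] {p : ℕ} [Fact p.Prime] (x : G) (hx : orderOf x = p) (hiso : Cfsg.IsIsolated x) (hnz : ¬ Cfsg.InZStar p x) (hmin : ∀ (H : Subgroup G) (hxH : x ∈ H), H ≠ ⊤ → Cfsg.InZStar p (⟨x, hxH⟩ : ↥H)) (hquot : ∀ (N : Subgroup G) [N.Normal], N ≠ ⊥ → Cfsg.InZStar p (QuotientGroup.mk x : G ⧸ N)) : IsSimpleGroup ↥(commutator G) ∧ ¬ IsMulCommutative ↥(commutator G) ∧ commutator G ⊔ Subgroup.zpowers x = ⊤ := by
  have hp := (Fact.out : p.Prime)
  have hxk : ∃ k : ℕ, orderOf x = p ^ k := ⟨1, by rw [pow_one]; exact hx⟩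
  have hxne : x ≠ 1 := fun e => hp.ne_one (by rw [← hx, e, orderOf_one])
  have hxnc : ¬ ∀ g : G, g * x * g⁻¹ = x := fun h => hnz fun g => by rw [h g, mul_inv_cancel]; exact one_mem _
  have hO : Cfsg.pPrimeCore p G = ⊥ := by
    by_contra hne
    refine hnz fun g => ?_
    have h := hquot _ hne (QuotientGroup.mk g)
    rw [Core.pPrimeCore_quotient_eq_bot, mem_bot, ← QuotientGroup.mk_inv, ← QuotientGroup.mk_inv,
      ← QuotientGroup.mk_mul, ← QuotientGroup.mk_mul, ← QuotientGroup.mk_mul, QuotientGroup.eq_one_iff] at h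
    exact h
  -- a proper subgroup containing `x` and a normal subgroup `N` forces `x` to centralize `N`
  have hcent : ∀ (N H : Subgroup G) [N.Normal], N ≤ H → x ∈ H → H ≠ ⊤ → ∀ n ∈ N, n * x = x * n := by
    intro N H _ hNH hxH hne n hn
    have hz := hmin H hxH hne ⟨n, hNH hn⟩
    haveI : (N.subgroupOf H).Normal := normal_subgroupOf
    set X := (Cfsg.pPrimeCore p H).map H.subtype ⊓ N with hX
    haveI : (X.subgroupOf N).Normal := by
      refine normal_subgroupOf_of_le_normalizer ?_
      exact Coprime.le_normalizer_inf (hNH.trans (fun h hh => (le_normalizer_map H.subtype) ⟨⟨h, hh⟩, (normalizer_eq_top (H := Cfsg.pPrimeCore p H)).ge (mem_top _), rfl⟩)) le_normalizer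
    have hbot := pPrime_trivial hO N (X := X.subgroupOf N) (by
      rw [Nat.card_congr (subgroupOfEquivOfLe inf_le_right).toEquiv]
      refine Nat.Coprime.coprime_dvd_left (card_dvd_of_le (inf_le_left : X ≤ _)) ?_
      rw [card_map_of_injective H.subtype_injective]
      exact Core.coprime_card_pPrimeCore)
    rw [subgroupOf_eq_bot, disjoint_iff] at hbot
    have hmem : n * x * n⁻¹ * x⁻¹ ∈ X := by
      refine ⟨⟨_, hz, rfl⟩, ?_⟩
      rw [mul_assoc n x, mul_assoc]
      exact mul_mem hn ((inferInstance : N.Normal).conj_mem _ (inv_mem hn) x)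
    have : X = ⊥ := by rwa [inf_eq_left.mpr (inf_le_right : X ≤ N)] at hbot
    rw [this, mem_bot, mul_inv_eq_one, mul_inv_eq_iff_eq_mul] at hmem
    exact hmem
  -- every nontrivial normal subgroup supplements `x`
  have hsupp : ∀ (N : Subgroup G) [N.Normal], N ≠ ⊥ → (∀ M : Subgroup G, M.Normal → M ≤ N → M = ⊥ ∨ M = N) →
      N ⊔ zpowers x = ⊤ := by
    intro N hN hne hNmin
    by_contra htop
    have hcom := hcent N _ le_sup_left (mem_sup_right (mem_zpowers x)) htop
    set C := centralizer (N : Set G) with hC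
    have hxC : x ∈ C := mem_centralizer_iff.mpr hcom
    by_cases hCt : C = ⊤
    · -- `N` is central
      have hNc : ∀ n ∈ N, ∀ g : G, n * g = g * n := fun n hn g =>
        (mem_centralizer_iff.mp (hCt.ge (mem_top g)) n hn)
      have hNp : IsPGroup p N := by
        by_contra hnp
        obtain ⟨m, hm⟩ : ∃ m ∈ N, ¬ ∃ k : ℕ, m ^ p ^ k = 1 := by
          by_contra hall
          push Not at hall
          exact hnp fun u => by
            obtain ⟨k, hk⟩ := hall u u.2
            exact ⟨k, Subtype.ext hk⟩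
        set w := m ^ p ^ ((orderOf m).factorization p) with hw
        have hwne : w ≠ 1 := fun e => hm.2 ⟨_, e⟩
        have hwo : (orderOf w).Coprime p := by
          rw [hw, orderOf_pow_of_dvd (pow_ne_zero _ hp.ne_zero) (Nat.ordProj_dvd _ _)]
          exact (Nat.coprime_ordCompl hp (orderOf_pos m).ne').symm
        haveI : (zpowers w).Normal := ⟨fun u hu g => by
          have : u ∈ N := (zpowers_le.mpr (pow_mem hm.1 _)) hu
          rw [← hNc u this g, mul_inv_cancel_right]; exact hu⟩
        have h1 := Core.le_pPrimeCore (p := p) (N := zpowers w) (by rwa [Nat.card_zpowers])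
        rw [hO, le_bot_iff, zpowers_eq_bot] at h1
        exact hwne h1
      set K := (Cfsg.pPrimeCore p (G ⧸ N)).comap (QuotientGroup.mk' N) with hK
      have hNK : N ≤ K := fun n hn => by
        rw [hK, mem_comap, QuotientGroup.mk'_apply, (QuotientGroup.eq_one_iff n).mpr hn]; exact one_mem _
      haveI : (N.subgroupOf K).Normal := normal_subgroupOf
      have hidx : ¬ p ∣ (N.subgroupOf K).index := by
        intro hd
        have hmapK : Nat.card (K.map (QuotientGroup.mk' N)) = (N.subgroupOf K).index := by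
          rw [← relIndex_ker, QuotientGroup.ker_mk']; rfl
        rw [← hmapK, hK, map_comap_eq_self_of_surjective (QuotientGroup.mk'_surjective N)] at hd
        exact Core.not_dvd_card_pPrimeCore hd
      set P : Sylow p K := (hNp.comap_of_injective K.subtype K.subtype_injective).toSylow hidx with hP
      have hcomp := Fusion.hasNormalPComplement_of_normalizer_le_centralizer P fun k _ =>
        mem_centralizer_iff.mpr fun u hu => Subtype.ext (hNc (u : G) hu k)
      have hcop := Fusion.hasNormalPComplement_iff.mp hcomp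
      haveI := Fusion.pResidual_characteristic (G := K) (p := p)
      haveI : K.Normal := by rw [hK]; infer_instance
      have hbot : Cfsg.pResidual p K = ⊥ := pPrime_trivial hO K hcop
      have hKN : K ≤ N := by
        intro k hk
        obtain ⟨j, hj⟩ := Fusion.isPGroup_quotient_pResidual (G := K) (p := p) (⟨k, hk⟩ : K)
        rw [← QuotientGroup.mk_pow, QuotientGroup.eq_one_iff, hbot, mem_bot] at hj
        have hN2 : QuotientGroup.mk' N k ∈ Cfsg.pPrimeCore p (G ⧸ N) := hk
        have h1 : orderOf (QuotientGroup.mk' N k) ∣ p ^ j := orderOf_dvd_of_pow_eq_one (by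
          rw [← map_pow, show k ^ p ^ j = 1 from congrArg Subtype.val hj, map_one])
        have h2 : orderOf (QuotientGroup.mk' N k) ∣ Nat.card (Cfsg.pPrimeCore p (G ⧸ N)) :=
          Subgroup.orderOf_dvd_natCard _ hN2
        have h3 := Nat.eq_one_of_dvd_coprimes (Core.coprime_card_pPrimeCore.pow_right j).symm h1 h2
        exact (QuotientGroup.eq_one_iff k).mp (orderOf_eq_one_iff.mp h3)
      refine hxnc fun g => hiso g ?_
      have hg : g * x * g⁻¹ * x⁻¹ ∈ N := hKN (by
        show QuotientGroup.mk' N _ ∈ Cfsg.pPrimeCore p (G ⧸ N)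
        rw [map_mul, map_mul, map_mul, map_inv, map_inv]
        exact hquot N hne (QuotientGroup.mk' N g))
      show x * (g * x * g⁻¹) = g * x * g⁻¹ * x
      calc x * (g * x * g⁻¹) = (x * (g * x * g⁻¹ * x⁻¹)) * x := by group
        _ = _ := by rw [← hNc _ hg x]; group
    · -- the centralizer is proper
      have hx' := hcent C C le_rfl hxC hCt
      refine hxnc fun g => hiso g ?_
      exact (hx' _ ((inferInstance : C.Normal).conj_mem x hxC g)).symm
  -- a minimal normal subgroup
  obtain ⟨N, hNmin⟩ : ∃ N : Subgroup G, Minimal (fun M : Subgroup G => M.Normal ∧ M ≠ ⊥) N := by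
    obtain ⟨N, hN, hmin'⟩ := Set.Finite.exists_minimal (Set.toFinite {M : Subgroup G | M.Normal ∧ M ≠ ⊥})
      ⟨⊤, inferInstance, fun e => hxne (mem_bot.mp (e ▸ mem_top x))⟩
    exact ⟨N, hN, hmin'⟩
  obtain ⟨⟨hNn, hNne⟩, hNle⟩ := hNmin
  haveI := hNn
  have hNcases : ∀ M : Subgroup G, M.Normal → M ≤ N → M = ⊥ ∨ M = N := fun M hM hMN =>
    or_iff_not_imp_left.mpr fun hne => le_antisymm hMN (hNle ⟨hM, hne⟩ hMN)
  have hNx : N ⊔ zpowers x = ⊤ := hsupp N hNne hNcases
  have hxN' : IsPGroup p (zpowers x) := LocalStructure.isPGroup_zpowers hxk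
  have hNna : ¬ IsMulCommutative N := by
    intro hab
    -- `O_{p'}` is trivial, so an abelian normal subgroup is a `p`-group
    have hNp : IsPGroup p N := by
      obtain ⟨P⟩ : Nonempty (Sylow p N) := inferInstance
      haveI hab' := hab
      have hcomp := Fusion.hasNormalPComplement_of_normalizer_le_centralizer P fun k _ =>
        mem_centralizer_iff.mpr fun u _ => hab'.is_comm.comm u k
      haveI := Fusion.pResidual_characteristic (G := N) (p := p)
      have hbot : Cfsg.pResidual p N = ⊥ := pPrime_trivial hO N (Fusion.hasNormalPComplement_iff.mp hcomp)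
      intro u
      obtain ⟨k, hk⟩ := Fusion.isPGroup_quotient_pResidual (G := N) (p := p) (u : N ⧸ Cfsg.pResidual p N)
      exact ⟨k, by rwa [← QuotientGroup.mk_pow, QuotientGroup.eq_one_iff, hbot, mem_bot] at hk⟩
    have hG : IsPGroup p G := by
      have h1 : IsPGroup p (N ⊔ zpowers x : Subgroup G) := hNp.to_sup_of_normal_left hxN'
      rw [hNx] at h1
      exact h1.of_equiv topEquiv
    exact hxnc fun g => by
      rw [← (LocalStructure.commute_of_isolated_of_isPGroup hiso hG g).eq, mul_inv_cancel_right]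
  have hcomm : commutator G = N := by
    have hle : commutator G ≤ N := by
      rw [_root_.commutator_def, commutator_le]
      intro a _ b _
      rw [← QuotientGroup.eq_one_iff]
      show QuotientGroup.mk' N _ = 1
      rw [map_commutatorElement, commutatorElement_eq_one_iff_mul_comm]
      have hcyc : ∀ c : G, ∃ i : ℤ, QuotientGroup.mk' N c = (QuotientGroup.mk' N x) ^ i := fun c => by
        have h := mem_map_of_mem (QuotientGroup.mk' N) (hNx.ge (mem_top c))
        rw [Subgroup.map_sup, QuotientGroup.map_mk'_self, bot_sup_eq, MonoidHom.map_zpowers] at h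
        obtain ⟨i, hi⟩ := mem_zpowers_iff.mp h
        exact ⟨i, hi.symm⟩
      obtain ⟨i, hi⟩ := hcyc a
      obtain ⟨j, hj⟩ := hcyc b
      rw [hi, hj, ← zpow_add, ← zpow_add, add_comm]
    refine (hNcases _ inferInstance hle).resolve_left fun e => hNna ?_
    refine le_centralizer_iff_isMulCommutative.mp ?_
    rw [← commutator_eq_bot_iff_le_centralizer, eq_bot_iff, ← e, _root_.commutator_def]
    exact commutator_mono le_top le_top
  rw [hcomm]
  refine ⟨?_, hNna, hNx⟩
  haveI : Nontrivial N := (nontrivial_iff_ne_bot N).mpr hNne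
  refine ⟨fun T hT => ?_⟩
  by_contra hcon
  push Not at hcon
  obtain ⟨T0, ⟨hT0n, hT0ne, hT0top⟩, hT0min⟩ := Set.Finite.exists_minimal
    (Set.toFinite {M : Subgroup N | M.Normal ∧ M ≠ ⊥ ∧ M ≠ ⊤}) ⟨T, hT, hcon.1, hcon.2⟩
  haveI := hT0n
  obtain ⟨t, ht⟩ : ∃ t : T0, orderOf t = p := by
    refine exists_prime_orderOf_dvd_card' p (not_not.mp fun hd => hT0ne ?_)
    exact pPrime_trivial hO N ((hp.coprime_iff_not_dvd.mpr hd).symm)
  let φ : N ≃* N := MulAut.conjNormal x
  have hφ : ∀ (u : N) (i : ℕ), (((φ ^ i) u : N) : G) = x ^ i * (u : G) * (x ^ i)⁻¹ := by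
    intro u i
    induction i with
    | zero => simp
    | succ i ih =>
      rw [pow_succ', MulAut.mul_apply, show ((φ ((φ ^ i) u) : N) : G) = x * ((φ ^ i) u : N) * x⁻¹ from rfl, ih, pow_succ']
      group
  have hinv : ∀ i : ℕ, ((T0.map (φ ^ i).toMonoidHom).Normal) ∧
      (T0.map (φ ^ i).toMonoidHom = T0 ∨ T0.map (φ ^ i).toMonoidHom ⊓ T0 = ⊥) := by
    intro i
    haveI hn : (T0.map (φ ^ i).toMonoidHom).Normal := hT0n.map _ (φ ^ i).surjective
    refine ⟨hn, ?_⟩
    by_cases hb : T0.map (φ ^ i).toMonoidHom ⊓ T0 = ⊥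
    · exact Or.inr hb
    refine Or.inl ?_
    have h1 := hT0min ⟨inferInstance, hb, fun e => hT0top (top_le_iff.mp (e.ge.trans inf_le_right))⟩ inf_le_right
    have h2 : T0 ≤ T0.map (φ ^ i).toMonoidHom := h1.trans inf_le_left
    exact (eq_of_le_of_card_ge h2 (card_map_of_injective (φ ^ i).injective).le).symm
  have hperiod : ∀ u : N, (φ ^ p) u = u := fun u => Subtype.ext (by
    rw [hφ, ← hx, pow_orderOf_eq_one, inv_one, one_mul, mul_one])
  have hnotfix : ∀ i : ℕ, ¬ p ∣ i → T0.map (φ ^ i).toMonoidHom ≠ T0 := by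
    intro i hi hfix
    obtain ⟨j, -, hj⟩ := Nat.exists_mul_mod_eq_one_of_coprime ((hp.coprime_iff_not_dvd.mpr hi).symm) hp.one_lt
    have hfixp : ∀ q : ℕ, ∀ u ∈ T0, ((φ ^ i) ^ q) u ∈ T0 := by
      intro q
      induction q with
      | zero => exact fun u hu => by simpa using hu
      | succ q ih => exact fun u hu => by rw [pow_succ', MulAut.mul_apply]; exact hfix.le ⟨_, ih u hu, rfl⟩
    have hφT : ∀ u ∈ T0, φ u ∈ T0 := by
      intro u hu
      have h1 := hfixp j u hu
      rw [← pow_mul, ← Nat.div_add_mod (i * j) p, hj, pow_add, pow_mul, pow_one, MulAut.mul_apply] at h1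
      have hpp : ∀ q : ℕ, ∀ v : N, ((φ ^ p) ^ q) v = v := fun q => by
        induction q with
        | zero => simp
        | succ q ih => intro v; rw [pow_succ, MulAut.mul_apply, hperiod, ih]
      rwa [hpp] at h1
    have hnormT : normalizer ((T0.map N.subtype : Subgroup G) : Set G) = ⊤ := by
      rw [eq_top_iff, ← hNx]
      refine sup_le (fun h hh => (le_normalizer_map N.subtype) ⟨⟨h, hh⟩, (normalizer_eq_top (H := T0)).ge (mem_top _), rfl⟩) (zpowers_le.mpr ?_)
      refine mem_normalizer_iff.mpr fun y => ⟨?_, ?_⟩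
      · rintro ⟨u, hu, rfl⟩
        exact ⟨φ u, hφT u hu, rfl⟩
      · intro hy
        obtain ⟨u, hu, huy⟩ := hy
        have : T0.map φ.toMonoidHom = T0 := eq_of_le_of_card_ge
          (map_le_iff_le_comap.mpr fun v hv => hφT v hv) (card_map_of_injective φ.injective).ge
        obtain ⟨v, hv, hvu⟩ := this.ge hu
        refine ⟨v, hv, ?_⟩
        have : x * (v : G) * x⁻¹ = x * y * x⁻¹ := (congrArg Subtype.val hvu).trans huy
        exact mul_left_cancel (mul_right_cancel this)
    haveI := normalizer_eq_top_iff.mp hnormT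
    rcases hNcases _ this (map_subtype_le T0) with h | h
    · exact hT0ne ((map_eq_bot_iff_of_injective _ N.subtype_injective).mp h)
    · refine hT0top (map_injective N.subtype_injective ?_)
      rw [h, ← MonoidHom.range_eq_map, range_subtype]
  -- the abelian `p`-group generated by the conjugates of `t`
  set S : Set G := Set.range fun i : ℕ => x ^ i * ((t : N) : G) * (x ^ i)⁻¹ with hS
  set A := closure S with hA
  have hone : ∀ i : ℕ, Commute ((φ ^ i) (t : N)) (t : N) := by
    intro i
    by_cases hd : p ∣ i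
    · obtain ⟨k, rfl⟩ := hd
      have : (φ ^ (p * k)) (t : N) = (t : N) := by
        rw [pow_mul]
        clear * - hperiod
        induction k with
        | zero => simp
        | succ k ih => rw [pow_succ, MulAut.mul_apply, hperiod, ih]
      rw [this]
    · obtain ⟨hn, hcases⟩ := hinv i
      rcases hcases with h | h
      · exact absurd h (hnotfix i hd)
      · haveI := hn
        exact commute_of_normal_of_disjoint _ _ hn hT0n (disjoint_iff.mpr h) _ _ (mem_map_of_mem _ t.2) t.2
  have hSc : ∀ a ∈ S, ∀ b ∈ S, Commute a b := by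
    rintro _ ⟨i, rfl⟩ _ ⟨j, rfl⟩
    wlog hij : j ≤ i generalizing i j
    · exact (this j i (le_of_not_ge hij)).symm
    obtain ⟨k, rfl⟩ := Nat.exists_eq_add_of_le hij
    show Commute (x ^ (j + k) * ((t : N) : G) * (x ^ (j + k))⁻¹) (x ^ j * ((t : N) : G) * (x ^ j)⁻¹)
    rw [← hφ, ← hφ, pow_add, MulAut.mul_apply]
    exact ((hone k).map ((φ ^ j : N ≃* N)).toMonoidHom).map N.subtype
  have hAc : A ≤ centralizer (A : Set G) := by
    rw [hA, closure_le]
    intro a ha
    rw [SetLike.mem_coe, mem_centralizer_iff]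
    intro b hb
    have : closure S ≤ centralizer {a} := by
      rw [closure_le]; exact fun c hc => mem_centralizer_singleton_iff.mpr (hSc c hc a ha).eq
    exact mem_centralizer_singleton_iff.mp (this hb)
  have htN : ((t : N) : G) ^ p = 1 := by
    have := pow_orderOf_eq_one t
    rw [ht] at this
    exact congrArg (fun u : T0 => ((u : N) : G)) this
  have hAp : IsPGroup p A := fun u => ⟨1, Subtype.ext (by
    rw [pow_one, SubmonoidClass.coe_pow, OneMemClass.coe_one]
    refine closure_induction (p := fun v _ => v ^ p = 1) ?_ (one_pow _) (fun a b ha hb h1 h2 => ?_)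
      (fun a _ h => by rw [inv_pow, h, inv_one]) u.2
    · rintro _ ⟨i, rfl⟩
      rw [conj_pow, htN, mul_one, mul_inv_cancel]
    · rw [(show Commute a b from mem_centralizer_iff.mp (hAc hb) a ha).mul_pow, h1, h2, one_mul])⟩
  have hAx : zpowers x ≤ normalizer (A : Set G) := by
    rw [zpowers_le]
    have hle : A ≤ A.comap (MulAut.conj x).toMonoidHom := by
      conv_lhs => rw [hA]
      rw [closure_le]
      rintro _ ⟨i, rfl⟩
      refine subset_closure ⟨i + 1, ?_⟩
      simp [pow_succ', mul_assoc]
    rw [mem_normalizer_iff]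
    intro y
    refine ⟨fun hy => hle hy, fun hy => ?_⟩
    have heq : A.map (MulAut.conj x).toMonoidHom = A :=
      eq_of_le_of_card_ge (map_le_iff_le_comap.mpr hle) (card_map_of_injective (MulAut.conj x).injective).ge
    obtain ⟨z, hz, hzy⟩ := heq.ge hy
    rwa [← mul_left_cancel (mul_right_cancel (show x * z * x⁻¹ = x * y * x⁻¹ from hzy))]
  have hAX : IsPGroup p (A ⊔ zpowers x : Subgroup G) := hAp.to_sup_of_normal_left' hxN' hAx
  have hfix : x * ((t : N) : G) * x⁻¹ = ((t : N) : G) := by
    have h0 : ((t : N) : G) ∈ A := subset_closure ⟨0, by simp⟩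
    have h1 := mem_centralizer_iff.mp (LocalStructure.le_centralizer_of_isolated hiso hAX (mem_sup_right (mem_zpowers x))
      (mem_sup_left h0)) x rfl
    rw [h1, mul_inv_cancel_right]
  have hmem : (t : N) ∈ T0.map (φ ^ 1).toMonoidHom := ⟨t, t.2, Subtype.ext (by
    show (((φ ^ 1) (t : N) : N) : G) = _
    rw [hφ, pow_one, hfix])⟩
  rcases (hinv 1).2 with h | h
  · exact hnotfix 1 hp.not_dvd_one h
  · have : (t : N) ∈ (⊥ : Subgroup N) := h ▸ mem_inf.mpr ⟨hmem, t.2⟩
    have h1 : t = 1 := Subtype.ext (mem_bot.mp this)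
    rw [h1, orderOf_one] at ht
    exact hp.ne_one ht.symm

end Cfsg.Agent.S2972
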