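import Cfsg.Statements.S2975
import Cfsg.Agent.LocalStructure.Isolated
import Cfsg.Agent.Core.PCore
import Cfsg.Agent.Coprime.Basic
import Cfsg.Agent.Coprime.Tools
import Cfsg.Agent.Coprime.PCoreTools
import Cfsg.Agent.Fusion.Alperin
import Cfsg.Agent.CentLarge.Basic

set_option autoImplicit false
open Cfsg

set_option linter.all false

namespace Cfsg.Agent.S2975

open Subgroup

/-- Let G be a finite group, p a prime and x ∈ G an isolated element of order p (the only conjugate of x commuting with x is x) which is not central modulo the largest normal subgroup of order prime to p, while x is central modulo the largest normal subgroup of order prime to p in every proper subgroup containing x, and the image of x is so in every quotient of G by a nontrivial normal subgroup (a minimal counterexample to the Z*_p statement). Then for every prime q, every q-subgroup of G that is normalized by x and maximal among the q-subgroups normalized by x is either trivial or a Sylow q-subgroup of G; and C_G(x)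 permutes the x-invariant Sylow q-subgroups of G transitively by conjugation. -/
theorem result {G : Type*} [Group G] [Finite G] {p : ℕ} [Fact p.Prime] (x : G) (hx : orderOf x = p) (hiso : Cfsg.IsIsolated x) (hnz : ¬ Cfsg.InZStar p x) (hmin : ∀ (H : Subgroup G) (hxH : x ∈ H), H ≠ ⊤ → Cfsg.InZStar p (⟨x, hxH⟩ : ↥H)) (hquot : ∀ (N : Subgroup G) [N.Normal], N ≠ ⊥ → Cfsg.InZStar p (QuotientGroup.mk x : G ⧸ N)) (q : ℕ) [Fact q.Prime] : (∀ Q : Subgroup G, IsPGroup q ↥Q → x ∈ Subgroup.normalizer (Q : Set G) → (∀ R : Subgroup G, IsPGroup q ↥R → x ∈ Subgroup.normalizer (R : Set G) → Q ≤ R → R = Q) → Q = ⊥ ∨ ∃ S : Sylow q G, (S : Subgroup G) = Q) ∧ (∀ S₁ S₂ : Sylow q G, x ∈ Subgroup.normalizer ((S₁ : Subgroup G) : Set G) → x ∈ Subgroup.normalizer ((S₂ : Subgroup G) : Set G) → ∃ c ∈ Subgroup.centralizer ({x} : Set G), (S₁ : Subgroup G).map (MulAut.conj c).toMonoidHom = (S₂ : Subgroup G)) := by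
  classical
  have hp := (Fact.out : p.Prime)
  have hxk : ∃ k : ℕ, orderOf x = p ^ k := ⟨1, by rw [pow_one]; exact hx⟩
  have hxp : IsPGroup p (zpowers x) := LocalStructure.isPGroup_zpowers hxk
  refine ⟨fun Q hQ hxQ hQmax => or_iff_not_imp_left.2 fun hQne => ?_, fun S₁ S₂ h₁ h₂ => ?_⟩
  · by_cases hqp : q = p
    · subst hqp
      have hxle : zpowers x ≤ normalizer (Q : Set G) := zpowers_le.2 hxQ
      have hQx : IsPGroup q (Q ⊔ zpowers x : Subgroup G) := hQ.to_sup_of_normal_left' hxp hxle
      have heq := hQmax _ hQx (Subgroup.le_normalizer (mem_sup_right (mem_zpowers x))) le_sup_left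
      have hxmem : x ∈ Q := heq ▸ mem_sup_right (mem_zpowers x)
      obtain ⟨R, hR⟩ := hQ.exists_le_sylow
      exact ⟨R, hQmax _ R.isPGroup' (Subgroup.le_normalizer (hR hxmem)) hR⟩
    have hO : Cfsg.pPrimeCore p G = ⊥ := by
      by_contra hne
      refine hnz fun g => ?_
      have h := hquot _ hne (QuotientGroup.mk g)
      rw [Core.pPrimeCore_quotient_eq_bot, mem_bot, ← QuotientGroup.mk_inv, ← QuotientGroup.mk_inv,
        ← QuotientGroup.mk_mul, ← QuotientGroup.mk_mul, ← QuotientGroup.mk_mul, QuotientGroup.eq_one_iff] at h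
      exact h
    set H := normalizer (Q : Set G) with hH
    have hHtop : H ≠ ⊤ := fun h => by
      haveI : Q.Normal := normalizer_eq_top_iff.1 h
      obtain ⟨k, hk⟩ := IsPGroup.iff_card.1 hQ
      have h1 := Core.le_pPrimeCore (p := p) (N := Q) (by
        rw [hk]; exact ((Nat.coprime_primes (Fact.out : q.Prime) hp).2 hqp).pow_left k)
      rw [hO, le_bot_iff] at h1
      exact hQne h1
    have hz := hmin H hxQ hHtop
    set O := (Cfsg.pPrimeCore p H).map H.subtype with hOdef
    have hcopH : (Nat.card O).Coprime p := by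
      rw [hOdef, card_map_of_injective H.subtype_injective]; exact Core.coprime_card_pPrimeCore
    -- a Sylow subgroup of the normalizer, taken modulo the core
    obtain ⟨T⟩ : Nonempty (Sylow q H) := inferInstance
    set T' := (T : Subgroup H).map H.subtype with hT'
    have hTH : T' ≤ H := map_subtype_le _
    have hOH : H ≤ normalizer (O : Set G) := fun h hh =>
      (le_normalizer_map H.subtype) ⟨⟨h, hh⟩, (normalizer_eq_top (H := Cfsg.pPrimeCore p H)).ge (mem_top _), rfl⟩
    set X := O ⊔ T' with hX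
    have hcomm : ∀ h ∈ H, h * x * h⁻¹ * x⁻¹ ∈ O := fun h hh => ⟨_, hz ⟨h, hh⟩, rfl⟩
    have hXH : X ≤ H := sup_le (map_subtype_le _) hTH
    have hxX : zpowers x ≤ normalizer (X : Set G) := by
      rw [zpowers_le]
      have hfwd : ∀ u ∈ X, x * u * x⁻¹ ∈ X := fun u hu => by
        have h1 := (mem_normalizer_iff.1 (hOH (hXH hu)) _).1 (hcomm u⁻¹ (inv_mem (hXH hu)))
        have h2 : u * (u⁻¹ * x * u⁻¹⁻¹ * x⁻¹) * u⁻¹ = x * u * x⁻¹ * u⁻¹ := by group
        rw [h2] at h1
        simpa using mul_mem (mem_sup_left h1 : x * u * x⁻¹ * u⁻¹ ∈ X) hu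
      refine mem_normalizer_iff.2 fun u => ⟨hfwd u, fun hu => ?_⟩
      have heq : X.map (MulAut.conj x).toMonoidHom = X := eq_of_le_of_card_ge
        (map_le_iff_le_comap.2 hfwd) (card_map_of_injective (MulAut.conj x).injective).ge
      obtain ⟨v, hv, hvu⟩ := heq.ge hu
      rwa [← mul_left_cancel (mul_right_cancel (show x * v * x⁻¹ = x * u * x⁻¹ from hvu))]
    obtain ⟨k, hk⟩ := IsPGroup.iff_card.1 (T.isPGroup'.map H.subtype)
    have hXcop : (Nat.card X).Coprime p := by
      have h2 : (Nat.card O * Nat.card T').Coprime p := hcopH.mul_left (by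
        rw [hT', hk]; exact ((Nat.coprime_primes (Fact.out : q.Prime) hp).2 hqp).pow_left k)
      exact h2.coprime_dvd_left (by rw [← CentLarge.card_mul_card_inf O T', ← Subgroup.coe_mul_of_right_le_normalizer_left O T' (hTH.trans hOH)]; exact dvd_mul_right _ _)
    have hcop : (Nat.card (zpowers x)).Coprime (Nat.card X) := by
      rw [Nat.card_zpowers, hx]; exact hXcop.symm
    have hQX : Q ≤ X := by
      haveI : (Q.subgroupOf H).Normal := normal_subgroupOf_of_le_normalizer le_rfl
      have hQH : Q ≤ H := Subgroup.le_normalizer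
      have h1 : Q.subgroupOf H ≤ (T : Subgroup H) :=
        (IsPGroup.of_equiv hQ (subgroupOfEquivOfLe hQH).symm).le_sylow_of_normal T
      have h2 := map_mono (f := H.subtype) h1
      rw [map_subgroupOf_eq_of_le hQH] at h2
      exact h2.trans le_sup_right
    obtain ⟨P, hQP, hPx⟩ := Coprime.exists_le_invariant_sylow hxX hcop
      (Or.inl (by haveI := hxp.isNilpotent; infer_instance)) hQX hQ (zpowers_le.2 hxQ)
    have hPQ := hQmax _ (P.isPGroup'.map X.subtype) (hPx (mem_zpowers x)) hQP
    -- so `Q` is a full Sylow subgroup of its normalizer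
    have hcard : Nat.card Q = Nat.card (T : Subgroup H) := by
      have h1 : Nat.card Q = Nat.card (P : Subgroup X) := by rw [← hPQ, card_map_of_injective X.subtype_injective]
      refine Nat.le_antisymm ?_ ?_
      · rw [← Nat.card_congr (subgroupOfEquivOfLe (Subgroup.le_normalizer : Q ≤ H)).toEquiv]
        obtain ⟨R, hR⟩ := (IsPGroup.of_equiv hQ (subgroupOfEquivOfLe (Subgroup.le_normalizer : Q ≤ H)).symm).exists_le_sylow
        exact (card_le_of_le hR).trans_eq (by rw [R.card_eq_multiplicity, T.card_eq_multiplicity])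
      · rw [h1]
        obtain ⟨R, hR⟩ := (IsPGroup.of_equiv (T.isPGroup'.map H.subtype)
          (subgroupOfEquivOfLe (le_sup_right : T' ≤ X)).symm).exists_le_sylow
        refine ((card_map_of_injective H.subtype_injective).symm.trans_le ?_)
        rw [← Nat.card_congr (subgroupOfEquivOfLe (le_sup_right : T' ≤ X)).toEquiv]
        exact (card_le_of_le hR).trans_eq (by rw [R.card_eq_multiplicity, P.card_eq_multiplicity])
    obtain ⟨R, hR⟩ := hQ.exists_le_sylow
    refine ⟨R, (eq_of_le_of_not_lt hR fun hlt => ?_).symm⟩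
    obtain ⟨u, hu, huQ⟩ := SetLike.exists_of_lt (Fusion.lt_inf_normalizer_of_isPGroup R.isPGroup' hlt)
    have h1 : Q < (R : Subgroup G) ⊓ H :=
      lt_of_le_of_ne (le_inf hR Subgroup.le_normalizer) fun e => huQ (e.symm ▸ hu)
    obtain ⟨R', hR'⟩ := (IsPGroup.of_equiv (R.isPGroup'.to_le (inf_le_left : (R : Subgroup G) ⊓ H ≤ R))
      (subgroupOfEquivOfLe (inf_le_right : (R : Subgroup G) ⊓ H ≤ H)).symm).exists_le_sylow
    have h2 := card_le_of_le hR'
    rw [Nat.card_congr (subgroupOfEquivOfLe (inf_le_right : (R : Subgroup G) ⊓ H ≤ H)).toEquiv,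
      R'.card_eq_multiplicity, ← T.card_eq_multiplicity, ← hcard] at h2
    exact absurd (eq_of_le_of_card_ge h1.le h2) h1.ne
  · obtain ⟨g, hg⟩ := MulAction.exists_smul_eq G S₁ S₂
    have hS : (S₁ : Subgroup G).map (MulAut.conj g).toMonoidHom = S₂ := by
      rw [← hg, Sylow.coe_subgroup_smul]
      exact (Coprime.conj_smul_eq_map g _).symm
    have hy : g⁻¹ * x * g ∈ normalizer ((S₁ : Subgroup G) : Set G) := by
      have h2' : x ∈ normalizer ((((S₁ : Subgroup G).map (MulAut.conj g).toMonoidHom : Subgroup G)) : Set G) := by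
        rw [hS]; exact h₂
      refine mem_normalizer_iff.2 fun u => ?_
      have := mem_normalizer_iff.1 h2' (g * u * g⁻¹)
      have e : ∀ w : G, g * w * g⁻¹ ∈ (S₁ : Subgroup G).map (MulAut.conj g).toMonoidHom ↔ w ∈ (S₁ : Subgroup G) :=
        fun w => ⟨fun ⟨v, hv, hvw⟩ => by
          rwa [← mul_left_cancel (mul_right_cancel (show g * v * g⁻¹ = g * w * g⁻¹ from hvw))], fun hw => ⟨w, hw, rfl⟩⟩
      rw [e, show x * (g * u * g⁻¹) * x⁻¹ = g * (g⁻¹ * x * g * u * (g⁻¹ * x * g)⁻¹) * g⁻¹ by group, e] at this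
      exact this
    obtain ⟨S, -, hSp, hxS, m, hm, hmS⟩ := LocalStructure.exists_mem_conj (p := p) h₁ hy hxk (by
      rw [show g⁻¹ * x * g = g⁻¹ * x * g⁻¹⁻¹ by rw [inv_inv], LocalStructure.orderOf_conj_eq]; exact hxk)
    rw [show m * (g⁻¹ * x * g) * m⁻¹ = (m * g⁻¹) * x * (m * g⁻¹)⁻¹ by group] at hmS
    have hc := LocalStructure.mem_centralizer_of_conj_eq (LocalStructure.eq_of_mem_of_isolated hiso hSp hxS hmS)
    refine ⟨g * m⁻¹, by simpa using inv_mem hc, ?_⟩
    rw [← hS, MulAut.conj.map_mul, MulEquiv.toMonoidHom, ]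
    ext u
    constructor
    · rintro ⟨v, hv, rfl⟩
      exact ⟨m⁻¹ * v * m, (mem_normalizer_iff''.1 hm v).1 hv, by simp [mul_assoc]⟩
    · rintro ⟨v, hv, rfl⟩
      exact ⟨m * v * m⁻¹, (mem_normalizer_iff.1 hm v).1 hv, by simp [mul_assoc]⟩

end Cfsg.Agent.S2975
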