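import Cfsg.Statements.S2981
-- import your own Cfsg.Agent.* helpers here
import Cfsg.Agent.FFStruct.LocalCStar

set_option autoImplicit false
open Cfsg

namespace Cfsg.Agent.S2981

/-- The local C**(G,T)-Theorem for minimal parabolic groups. Let G be a finite p-minimal group (a Sylow p-subgroup T is not normal and lies in exactly one maximal subgroup) of characteristic p (C_G(O_p(G)) ≤ O_p(G)), and suppose G ≠ C**(G,T), the subgroup generated by C_G(Ω₁(Z(T))) and N_G(J(T)) (J(T) generated by the elementary abelian p-subgroups of T of largest order). Put V = Ω₁(Z(O_p(G))) and C = C_G(V). Then there are subgroups E₁, …, E_r of G containing C such that: J(G)TC = G and the E_i C/C form an internal direct product equal to J(G)C/C; any two of the E_i are conjugate by an element of T; V = C_V(⟨E_i⟩)·∏[V, E_i] with [V, E_i, E_j] = 1 for i ≠ j; for some n ≥ 1, each E_i/C is isomorphic to SL₂(pⁿ), or p = 2 and to the symmetric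 group of degree 2ⁿ + 1; and E_i acts on [V, E_i]/C_{[V,E_i]}(E_i) as the natural two-dimensional SL₂(pⁿ)-module, respectively as the symmetric group of degree 2ⁿ+1 on its even-weight permutation module. -/
theorem result {G : Type*} [Group G] [Finite G] {p : ℕ} [Fact p.Prime] (hmin : Cfsg.IsPMinimal p G) (hG : Subgroup.centralizer (Cfsg.pCore p G : Set G) ≤ Cfsg.pCore p G) (T : Sylow p G) (hne : Cfsg.cStarStarOf p (T : Subgroup G) ≠ ⊤) : ∃ (r : ℕ) (E : Fin r → Subgroup G), (∀ i, Subgroup.centralizer (Cfsg.omegaOneCenter p (Cfsg.pCore p G) : Set G) ≤ E i) ∧ Cfsg.thompsonSubgroup p G ⊔ (T : Subgroup G) ⊔ Subgroup.centralizer (Cfsg.omegaOneCenter p (Cfsg.pCore p G) : Set G) = ⊤ ∧ (⨆ i, E i) = Cfsg.thompsonSubgroup p G ⊔ Subgroup.centralizer (Cfsg.omegaOneCenter p (Cfsg.pCore p G) : Set G) ∧ (∀ i j, i ≠ j → ⁅E i, E j⁆ ≤ Subgroup.centralizer (Cfsg.omegaOneCenter p (Cfsg.pCore p G) : Set G)) ∧ (∀ i, E i ⊓ (⨆ j ∈ {j |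 j ≠ i}, E j) ≤ Subgroup.centralizer (Cfsg.omegaOneCenter p (Cfsg.pCore p G) : Set G)) ∧ (∀ i j, ∃ t ∈ (T : Subgroup G), (E i).map (MulAut.conj t).toMonoidHom = E j) ∧ (Cfsg.omegaOneCenter p (Cfsg.pCore p G) ⊓ Subgroup.centralizer ((⨆ i, E i : Subgroup G) : Set G)) ⊔ (⨆ i, ⁅Cfsg.omegaOneCenter p (Cfsg.pCore p G), E i⁆) = Cfsg.omegaOneCenter p (Cfsg.pCore p G) ∧ (∀ i j, i ≠ j → ⁅⁅Cfsg.omegaOneCenter p (Cfsg.pCore p G), E i⁆, E j⁆ = ⊥) ∧ ∀ i, ∃ n : ℕ, 1 ≤ n ∧ ((∃ (F : Type) (_ : Field F) (_ : Fintype F), Fintype.card F = p ^ n ∧ (∃ _ : ((Subgroup.centralizer (Cfsg.omegaOneCenter p (Cfsg.pCore p G) : Set G)).subgroupOf (E i)).Normal, Nonempty (↥(E i) ⧸ (Subgroup.centralizer (Cfsg.omegaOneCenter p (Cfsg.pCore p G) : Set G)).subgroupOf (E i) ≃* Matrix.SpecialLinearGroup (Fin 2) F)) ∧ Cfsg.ActsAsSL2OnSection F ⊤ (E i) ⁅Cfsg.omegaOneCenter p (Cfsg.pCore p G), E i⁆ (⁅Cfsg.omegaOneCenter p (Cfsg.pCore p G), E i⁆ ⊓ Subgroup.centralizer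 ((E i : Subgroup G) : Set G))) ∨ (p = 2 ∧ (∃ _ : ((Subgroup.centralizer (Cfsg.omegaOneCenter p (Cfsg.pCore p G) : Set G)).subgroupOf (E i)).Normal, Nonempty (↥(E i) ⧸ (Subgroup.centralizer (Cfsg.omegaOneCenter p (Cfsg.pCore p G) : Set G)).subgroupOf (E i) ≃* Equiv.Perm (Fin (2 ^ n + 1)))) ∧ Cfsg.ActsAsOddPermModuleOnSection (2 ^ n + 1) ⊤ (E i) ⁅Cfsg.omegaOneCenter p (Cfsg.pCore p G), E i⁆ (⁅Cfsg.omegaOneCenter p (Cfsg.pCore p G), E i⁆ ⊓ Subgroup.centralizer ((E i : Subgroup G) : Set G)))) := by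
  classical
  set V := Cfsg.omegaOneCenter p (Cfsg.pCore p G) with hVdef
  set C := Subgroup.centralizer (V : Set G) with hCdef
  haveI : (Cfsg.pCore p G).Normal := Core.pCore_normal
  haveI : V.Normal := Baumann.omegaOneCenter_normal
  haveI : C.Normal := inferInstanceAs (Subgroup.centralizer (V : Set G)).Normal
  haveI : IsMulCommutative V := (Thompson.omegaOne_centre_ea p (Cfsg.pCore p G)).1
  let π := (QuotientGroup.mk' C).comp (⊤ : Subgroup G).subtype
  have hπ : Function.Surjective π := fun x => by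
    obtain ⟨g, rfl⟩ := QuotientGroup.mk'_surjective C x
    exact ⟨⟨g, Subgroup.mem_top g⟩, rfl⟩
  have hPV : (⊤ : Subgroup G) ≤ Subgroup.normalizer (V : Set G) := by
    rw [Subgroup.normalizer_eq_top_iff.2 ‹V.Normal›]
  have hk : ∀ e : ↥(⊤ : Subgroup G), π e = 1 ↔ (e : G) ∈ Subgroup.centralizer (V : Set G) := fun e =>
    QuotientGroup.eq_one_iff (e : G)
  letI := FFStruct.quotAct hPV hπ fun e => (hk e).1
  haveI := FFStruct.quotAct_faithful hPV hπ hk
  have hc := FFStruct.quotAct_isConj hPV hπ fun e => (hk e).1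
  obtain ⟨r, E, hE, hJ⟩ := FFStruct.local_cStarStar hmin hG T hne hVdef hCdef hc
  obtain ⟨hr, hCE, -, hcomm, hind, htop, htrans, hdec, hcross, hmod⟩ :=
    FFStruct.sys_translate hπ hc hE
  haveI : Nonempty (Fin r) := ⟨⟨0, hr⟩⟩
  have hl : ∀ X : Subgroup G, FFStruct.lift π (X.map (QuotientGroup.mk' C)) = X ⊔ C := by
    intro X
    ext g
    rw [FFStruct.mem_lift]
    have e : (X.map (QuotientGroup.mk' C)).comap (QuotientGroup.mk' C) = X ⊔ C := by
      rw [Subgroup.comap_map_eq, QuotientGroup.ker_mk']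
    rw [← e, Subgroup.mem_comap]
    exact ⟨fun ⟨_, h⟩ => h, fun h => ⟨Subgroup.mem_top g, h⟩⟩
  have hb : FFStruct.lift π ⊥ = C := by
    have h := hl ⊥
    rwa [Subgroup.map_bot, bot_sup_eq] at h
  rw [hb] at hCE hcomm hind hmod
  have hJ' : (⨆ i, FFStruct.lift π (E i)) = Cfsg.thompsonSubgroup p G ⊔ C := by
    rw [← FFStruct.lift_iSup π hπ, hJ, hl]
  rw [hl] at htop htrans
  refine ⟨r, fun i => FFStruct.lift π (E i), hCE, ?_, hJ', hcomm, hind, ?_, hdec, hcross, fun i => ?_⟩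
  · refine top_le_iff.1 (le_trans htop.ge ?_)
    rw [hJ']
    exact sup_le (sup_le (le_sup_left.trans le_sup_left) le_sup_right)
      (sup_le (le_sup_right.trans le_sup_left) le_sup_right)
  · intro i j
    obtain ⟨t, ht, e⟩ := htrans i j
    obtain ⟨t0, ht0, c, hcC, rfl⟩ := Subgroup.mem_sup_of_normal_right.1 ht
    refine ⟨t0, ht0, ?_⟩
    show FFStruct.cj t0 (FFStruct.lift π (E i)) = FFStruct.lift π (E j)
    rw [← e]
    show FFStruct.cj t0 _ = FFStruct.cj (t0 * c) _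
    rw [← FFStruct.cj_cj, FFStruct.cj_of_mem_normalizer (Subgroup.le_normalizer (hCE i hcC))]
  · obtain ⟨n, hn, ⟨F, i1, i2, hF, ⟨f, hf, hker⟩, hact⟩ | ⟨hp2, ⟨f, hf, hker⟩, hact⟩⟩ := hmod i
    · haveI hN : (C.subgroupOf (FFStruct.lift π (E i))).Normal := hker ▸ f.normal_ker
      exact ⟨n, hn, Or.inl ⟨F, i1, i2, hF, ⟨hN, ⟨(QuotientGroup.quotientMulEquivOfEq hker.symm).trans
        (QuotientGroup.quotientKerEquivOfSurjective f hf)⟩⟩, hact⟩⟩
    · haveI hN : (C.subgroupOf (FFStruct.lift π (E i))).Normal := hker ▸ f.normal_ker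
      exact ⟨n, hn, Or.inr ⟨hp2, ⟨hN, ⟨(QuotientGroup.quotientMulEquivOfEq hker.symm).trans
        (QuotientGroup.quotientKerEquivOfSurjective f hf)⟩⟩, hact⟩⟩

end Cfsg.Agent.S2981
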