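import Cfsg.Statements.S2998
import Cfsg.Agent.Fusion.Alperin
import Cfsg.Agent.Core.Basics


set_option autoImplicit false
open Cfsg

set_option linter.all false

namespace Cfsg.Agent.S2998

theorem relIndex_sup_normal {G : Type*} [Group G] [Finite G] (H N : Subgroup G) [N.Normal] :
    H.relIndex (H ⊔ N) = H.relIndex N := by
  have h1 : Nat.card H * H.relIndex (H ⊔ N) = Nat.card (H ⊔ N : Subgroup G) := by
    rw [← Subgroup.relIndex_bot_left, ← Subgroup.relIndex_bot_left,
      Subgroup.relIndex_mul_relIndex _ _ _ bot_le le_sup_left]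
  have h2 : Nat.card (H ⊓ N : Subgroup G) * (H ⊓ N).relIndex N = Nat.card N := by
    rw [← Subgroup.relIndex_bot_left, ← Subgroup.relIndex_bot_left,
      Subgroup.relIndex_mul_relIndex _ _ _ bot_le inf_le_right]
  rw [Subgroup.inf_relIndex_right] at h2
  have h3 := Core.card_sup_mul_card_inf H N
  rw [← h1, ← h2] at h3
  have hpos : 0 < Nat.card H * Nat.card (H ⊓ N : Subgroup G) := Nat.mul_pos Nat.card_pos Nat.card_pos
  exact Nat.eq_of_mul_eq_mul_left hpos (by linarith)

/-- Let G be a finite group, p a prime, P a Sylow p-subgroup of G and x ∈ P an element such that N_G(R) ≤ C_G(x) for every nontrivial subgroup R of P. Then P ≤ C_G(x); every G-conjugate of x lying in P equals x (so g ∈ C_G(x) whenever g x g⁻¹ ∈ P); and for every normal subgroup N of G, the image of x in G ⧸ N has the same property with respect to the image of P: the normalizer of every nontrivial subgroup of the image of P centralizes the image of x. -/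
theorem result {G : Type*} [Group G] [Finite G] {p : ℕ} [Fact p.Prime] (P : Sylow p G) (x : G) (hxP : x ∈ (P : Subgroup G)) (hlc : ∀ R : Subgroup G, R ≤ (P : Subgroup G) → R ≠ ⊥ → Subgroup.normalizer (R : Set G) ≤ Subgroup.centralizer ({x} : Set G)) : (P : Subgroup G) ≤ Subgroup.centralizer ({x} : Set G) ∧ (∀ g : G, g * x * g⁻¹ ∈ (P : Subgroup G) → g * x * g⁻¹ = x) ∧ ∀ (N : Subgroup G) [N.Normal], ∀ R : Subgroup (G ⧸ N), R ≤ (P : Subgroup G).map (QuotientGroup.mk' N) → R ≠ ⊥ → Subgroup.normalizer (R : Set (G ⧸ N)) ≤ Subgroup.centralizer ({(QuotientGroup.mk x : G ⧸ N)} : Set (G ⧸ N)) := by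
  classical
  by_cases hx1 : x = 1
  · subst hx1
    refine ⟨fun q _ => by simp [Subgroup.mem_centralizer_iff], fun g _ => by simp,
      fun N _ R _ _ q _ => by simp [Subgroup.mem_centralizer_iff]⟩
  have hP0 : (P : Subgroup G) ≠ ⊥ := fun e => hx1 (by rw [e, Subgroup.mem_bot] at hxP; exact hxP)
  set K : Subgroup G := Subgroup.centralizer ({x} : Set G) with hK
  have hPK : (P : Subgroup G) ≤ K := Subgroup.le_normalizer.trans (hlc _ le_rfl hP0)
  have part2 : ∀ g : G, g * x * g⁻¹ ∈ (P : Subgroup G) → g * x * g⁻¹ = x := by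
    intro g hg
    set z := g * x * g⁻¹ with hz
    have hz1 : z ≠ 1 := fun e => hx1 (conj_eq_one_iff.mp e)
    set C : Subgroup G := Subgroup.centralizer ({z} : Set G) with hC
    have hCK : C ≤ K := by
      refine le_trans ?_ (hlc (Subgroup.zpowers z) (Subgroup.zpowers_le.mpr hg)
        (by simpa using hz1))
      refine le_trans ?_ (Subgroup.centralizer_le_normalizer _)
      rw [hC, Subgroup.zpowers_eq_closure, Subgroup.centralizer_closure]
    have hmap : K.map (MulAut.conj g).toMonoidHom ≤ C := by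
      rintro _ ⟨c, hc, rfl⟩
      rw [hC, Subgroup.mem_centralizer_iff]
      rintro _ rfl
      have := Subgroup.mem_centralizer_iff.mp hc x rfl
      simp only [MulEquiv.coe_toMonoidHom, MulAut.conj_apply, hz]
      calc g * x * g⁻¹ * (g * c * g⁻¹) = g * (x * c) * g⁻¹ := by group
        _ = _ := by rw [this]; group
    have hgK : ∀ q ∈ (P : Subgroup G), g * q * g⁻¹ ∈ K :=
      fun q hq => hCK (hmap ⟨q, hPK hq, rfl⟩)
    obtain ⟨m, hm, hle⟩ := Fusion.exists_conjSub_le_of_not_dvd_relIndex (S := (P : Subgroup G)) (N := K)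
      (T := (P : Subgroup G).map (MulAut.conj g).toMonoidHom) hPK P.isPGroup'
      (fun h => P.not_dvd_index (h.trans (Subgroup.relIndex_mul_index hPK ▸ dvd_mul_right _ _)))
      (by rintro _ ⟨q, hq, rfl⟩; exact hgK q hq) (P.isPGroup'.map _)
    have hN : m⁻¹ * g ∈ Subgroup.normalizer ((P : Subgroup G) : Set G) := by
      refine Subgroup.mem_normalizer_fintype (S := ((P : Subgroup G) : Set G)) fun q hq => ?_
      have h1 : m⁻¹ * (g * q * g⁻¹) * m ∈ (P : Subgroup G) := by
        apply hle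
        rw [Fusion.mem_conjSub]
        exact ⟨q, hq, by simp [mul_assoc]⟩
      have h2 : m⁻¹ * g * q * (m⁻¹ * g)⁻¹ ∈ (P : Subgroup G) := by
        rw [show m⁻¹ * g * q * (m⁻¹ * g)⁻¹ = m⁻¹ * (g * q * g⁻¹) * m by group]
        exact h1
      exact h2
    have hg' : g ∈ K := by
      have := K.mul_mem hm (hlc _ le_rfl hP0 hN)
      simpa using this
    rw [hz]
    exact mul_inv_eq_iff_eq_mul.mpr (Subgroup.mem_centralizer_iff.mp hg' x rfl).symm
  refine ⟨hPK, part2, fun N _ R hR hR0 gb hgb => ?_⟩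
  obtain ⟨g, rfl⟩ := QuotientGroup.mk_surjective gb
  set M : Subgroup G := R.comap (QuotientGroup.mk' N) with hM
  set R0 : Subgroup G := (P : Subgroup G) ⊓ M with hR0d
  have hNM : N ≤ M := by
    intro n hn
    show QuotientGroup.mk' N n ∈ R
    rw [show QuotientGroup.mk' N n = 1 from (QuotientGroup.eq_one_iff n).mpr hn]
    exact R.one_mem
  have hMeq : M = R0 ⊔ N := by
    refine le_antisymm (fun m hm => ?_) (sup_le inf_le_right hNM)
    obtain ⟨q, hq, hqm⟩ := hR hm
    have h1 : q⁻¹ * m ∈ N := QuotientGroup.eq.mp hqm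
    have h2 : q ∈ M := by
      show QuotientGroup.mk' N q ∈ R
      rw [hqm]
      exact hm
    have h3 : q * (q⁻¹ * m) ∈ R0 ⊔ N := Subgroup.mul_mem_sup ⟨hq, h2⟩ h1
    simpa using h3
  have hR00 : R0 ≠ ⊥ := by
    intro e
    rw [e, bot_sup_eq] at hMeq
    refine hR0 (eq_bot_iff.mpr fun r hr => ?_)
    obtain ⟨r', rfl⟩ := QuotientGroup.mk'_surjective N r
    have : r' ∈ N := hMeq ▸ (show r' ∈ M from hr)
    exact (QuotientGroup.eq_one_iff r').mpr this
  have hidx : ¬ p ∣ R0.relIndex M := by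
    rw [hMeq, relIndex_sup_normal, hR0d, ← Subgroup.inf_relIndex_right, inf_assoc,
      inf_eq_right.mpr hNM, Subgroup.inf_relIndex_right, ← relIndex_sup_normal]
    exact fun h => P.not_dvd_index (h.trans
      (Subgroup.relIndex_mul_index (le_sup_left : (P : Subgroup G) ≤ (P : Subgroup G) ⊔ N) ▸ dvd_mul_right _ _))
  have hgM : ∀ r ∈ R0, g * r * g⁻¹ ∈ M := fun r hr => by
    have h1 := (Subgroup.mem_normalizer_iff.mp hgb (QuotientGroup.mk' N r)).mp hr.2
    show QuotientGroup.mk' N (g * r * g⁻¹) ∈ R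
    rw [map_mul, map_mul, map_inv]
    exact h1
  obtain ⟨m, hm, hle⟩ := Fusion.exists_conjSub_le_of_not_dvd_relIndex (S := R0) (N := M)
    (T := R0.map (MulAut.conj g).toMonoidHom) inf_le_right (P.isPGroup'.to_le inf_le_left) hidx
    (by rintro _ ⟨r, hr, rfl⟩; exact hgM r hr) ((P.isPGroup'.to_le inf_le_left).map _)
  have hN : m⁻¹ * g ∈ Subgroup.normalizer (R0 : Set G) := by
    refine Subgroup.mem_normalizer_fintype (S := (R0 : Set G)) fun q hq => ?_
    have h1 : m⁻¹ * (g * q * g⁻¹) * m ∈ R0 := by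
      apply hle
      rw [Fusion.mem_conjSub]
      exact ⟨q, hq, by simp [mul_assoc]⟩
    rw [show m⁻¹ * g * q * (m⁻¹ * g)⁻¹ = m⁻¹ * (g * q * g⁻¹) * m by group]
    exact h1
  set C : Subgroup (G ⧸ N) :=
    Subgroup.centralizer ({(QuotientGroup.mk x : G ⧸ N)} : Set (G ⧸ N)) with hC
  have hKC : ∀ c ∈ K, (QuotientGroup.mk c : G ⧸ N) ∈ C := by
    intro c hc
    rw [hC, Subgroup.mem_centralizer_iff]
    rintro _ rfl
    rw [← QuotientGroup.mk_mul, ← QuotientGroup.mk_mul, Subgroup.mem_centralizer_iff.mp hc x rfl]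
  have h4 : (QuotientGroup.mk m : G ⧸ N) ∈ C := by
    obtain ⟨q, hq, hqm⟩ := hR (show QuotientGroup.mk' N m ∈ R from hm)
    have h5 : (QuotientGroup.mk q : G ⧸ N) = QuotientGroup.mk m := hqm
    rw [← h5]
    exact hKC q (hPK hq)
  have h6 := C.mul_mem h4 (hKC _ (hlc R0 inf_le_left hR00 hN))
  rw [← QuotientGroup.mk_mul, mul_inv_cancel_left] at h6
  exact h6

end Cfsg.Agent.S2998
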