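import Cfsg.Statements.S2999
import Cfsg.Agent.PMinOff.Linear
import Cfsg.Agent.PMinOff.Group

set_option autoImplicit false
open Cfsg

namespace Cfsg.Agent.S2999

/-- Let p be a prime and let P and V be subgroups of a finite group with V elementary abelian, P normalizing V and acting faithfully on it (P ∩ C(V) = 1). Suppose P is p-minimal (a Sylow p-subgroup T of P is not normal and lies in a unique maximal subgroup M of P) and A ≤ T is an elementary abelian subgroup such that: |V/C_V(A)| ≤ |A| while |A₀|·|C_V(A₀)| < |A|·|C_V(A)| for every nontrivial proper subgroup A₀ of A; [C_V(T), P] ≠ 1; and P = ⟨A, xAx⁻¹⟩ for every x ∈ P outside M. Then, with q = |A|, there is a field F with q elements such that P ≅ SL₂(F), C_V(A) = [V, A]·C_V(P), and P acts on V/C_V(P) as SL₂(F) on its natural two-dimensional module. -/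
theorem result {G : Type*} [Group G] [Finite G] {p : ℕ} [Fact p.Prime] (V P : Subgroup G) (hV : Cfsg.IsElementaryAbelian p V) (hPV : P ≤ Subgroup.normalizer (V : Set G)) (hfaith : P ⊓ Subgroup.centralizer (V : Set G) = ⊥) (hmin : Cfsg.IsPMinimal p ↥P) (T : Sylow p ↥P) (M : Subgroup ↥P) (hM : IsCoatom M) (hTM : (T : Subgroup ↥P) ≤ M) (A : Subgroup G) (hAT : A ≤ ((T : Subgroup ↥P).map P.subtype)) (hAel : Cfsg.IsElementaryAbelian p A) (hi : Nat.card ↥V ≤ Nat.card ↥A * Nat.card ↥(V ⊓ Subgroup.centralizer ((A : Subgroup G) : Set G)) ∧ ∀ A₀ : Subgroup G, A₀ ≤ A → A₀ ≠ ⊥ → A₀ ≠ A → Nat.card ↥A₀ * Nat.card ↥(V ⊓ Subgroup.centralizer ((A₀ : Subgroup G) : Set G)) < Nat.card ↥A * Nat.card ↥(V ⊓ Subgroup.centralizer ((A : Subgroup G) : Set G))) (hii : ⁅(V ⊓ Subgroup.centralizer ((((T : Subgroup ↥P).map P.subtype) : Subgroup G) : Set G)), P⁆ ≠ ⊥) (hiii : ∀ x : ↥P, x ∉ M → A ⊔ A.map (MulAut.conj (x : G)).toMonoidHom = P) : ∃ (F : Type) (_ : Field F) (_ :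 Fintype F), Fintype.card F = Nat.card ↥A ∧ Nonempty (↥P ≃* Matrix.SpecialLinearGroup (Fin 2) F) ∧ (V ⊓ Subgroup.centralizer ((A : Subgroup G) : Set G)) = ⁅V, A⁆ ⊔ (V ⊓ Subgroup.centralizer ((P : Subgroup G) : Set G)) ∧ Cfsg.ActsAsSL2OnSection F ⊤ P V (V ⊓ Subgroup.centralizer ((P : Subgroup G) : Set G)) := by
  classical
  set Tg := (T : Subgroup ↥P).map P.subtype with hTg
  have hAP : A ≤ P := hAT.trans (Subgroup.map_subtype_le _)
  have hO : PMinOff.Off p V P A M :=
    { hV := hV, hPV := hPV, hfaith := hfaith, hA := hAP, hAel := hAel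
      hAM := fun a ha => by
        obtain ⟨t, ht, hte⟩ := hAT ha
        exact (Subtype.ext hte : t = a) ▸ hTM ht
      gen := hiii
      notMem := by
        by_contra hcon
        push Not at hcon
        exact hM.1 (eq_top_iff.mpr fun y _ => hcon y)
      bound := hi.1, strict := hi.2 }
  obtain ⟨x, hx, hcard, hU, hreg, hWeq, hker⟩ := hO.main hmin T hM hTM hAT hii
  letI : CommGroup ↥V :=
    { (inferInstance : Group ↥V) with mul_comm := fun a b => Subtype.ext (hO.comm a.2 b.2) }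
  let C : Subgroup ↥V := (PMinOff.Off.C₀ V P).subgroupOf V
  let mk : ↥V → Additive (↥V ⧸ C) := fun v => Additive.ofMul (QuotientGroup.mk v)
  have hmk : ∀ v w : ↥V, mk (v * w) = mk v + mk w := fun _ _ => rfl
  have hmk0 : ∀ v : ↥V, mk v = 0 ↔ (v : G) ∈ PMinOff.Off.C₀ V P := fun v => by
    show Additive.ofMul _ = (0 : Additive (↥V ⧸ C)) ↔ _
    rw [ofMul_eq_zero, QuotientGroup.eq_one_iff]
    rfl
  have hsurj : ∀ q : Additive (↥V ⧸ C), ∃ v, mk v = q := fun q => by
    obtain ⟨v, hv⟩ := QuotientGroup.mk_surjective (Additive.toMul q)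
    exact ⟨v, by show Additive.ofMul _ = q; rw [hv]; rfl⟩
  have heq : ∀ v w : ↥V, mk v = mk w → (v : G)⁻¹ * w ∈ PMinOff.Off.C₀ V P := fun v w e =>
    (QuotientGroup.eq (s := C)).mp (Additive.ofMul.injective e)
  have hexp : ∀ q : Additive (↥V ⧸ C), p • q = 0 := fun q => by
    obtain ⟨v, rfl⟩ := hsurj q
    show p • Additive.ofMul _ = (0 : Additive (↥V ⧸ C))
    rw [← ofMul_pow, ofMul_eq_zero, ← QuotientGroup.mk_pow]
    rw [show v ^ p = 1 from Subtype.ext ((Thompson.ea_iff.1 hV).2 v v.2)]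
    rfl
  let cv : ↥P → (↥V →* ↥V) := fun y =>
    { toFun := fun v => ⟨(y : G) * v * (y : G)⁻¹, hO.conj_mem y.2 v.2⟩
      map_one' := Subtype.ext (by simp)
      map_mul' := fun v w => Subtype.ext (by simp [mul_assoc]) }
  have hcvC : ∀ y : ↥P, C ≤ C.comap (cv y) := fun y v hv => by
    show (y : G) * v * (y : G)⁻¹ ∈ PMinOff.Off.C₀ V P
    rw [PMinOff.Off.C₀_fix y.2 (show (v : G) ∈ PMinOff.Off.C₀ V P from hv)]
    exact hv
  let f : ↥P → Additive (↥V ⧸ C) →+ Additive (↥V ⧸ C) :=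
    fun y => MonoidHom.toAdditive (QuotientGroup.map C C (cv y) (hcvC y))
  have hf : ∀ (y : ↥P) (v : ↥V), f y (mk v) = mk (cv y v) := fun _ _ => rfl
  have hdiff : ∀ (y : ↥P) (v : ↥V), f y (mk v) - mk v = mk (cv y v * v⁻¹) := fun y v => by
    rw [hf, hmk, sub_eq_add_neg]
    rfl
  let A' : Subgroup ↥P := A.subgroupOf P
  let Ws : AddSubgroup (Additive (↥V ⧸ C)) :=
    Subgroup.toAddSubgroup (((PMinOff.Off.W₀ V A).subgroupOf V).map (QuotientGroup.mk' C))
  have hWs : ∀ v : ↥V, mk v ∈ Ws ↔ (v : G) ∈ PMinOff.Off.W₀ V A := by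
    intro v
    constructor
    · rintro ⟨w, hw, e⟩
      have h1 := heq w v (congrArg Additive.ofMul e)
      simpa using mul_mem (show (w : G) ∈ PMinOff.Off.W₀ V A from hw) (hO.C₀_le h1)
    · exact fun h => ⟨v, h, rfl⟩
  have hcj : ∀ (y : ↥P) (v w : ↥V), mk v ∈ Ws → f y (mk v) = mk w →
      (w : G) ∈ Offender.cj (y : G) (PMinOff.Off.W₀ V A) := by
    intro y v w hv e
    rw [hf] at e
    have h2 : ((cv y v : ↥V) : G) ∈ Offender.cj (y : G) (PMinOff.Off.W₀ V A) := by
      rw [Offender.mem_cj]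
      simpa [cv, mul_assoc] using (hWs v).1 hv
    simpa using mul_mem h2 (hO.cj_C₀_le y (heq _ _ e))
  have hcardWs : Nat.card Ws = Nat.card A := by
    let g : ↥((PMinOff.Off.W₀ V A).subgroupOf V) →* (↥V ⧸ C) :=
      (QuotientGroup.mk' C).comp (Subgroup.subtype _)
    have hrange : g.range = ((PMinOff.Off.W₀ V A).subgroupOf V).map (QuotientGroup.mk' C) := by
      rw [MonoidHom.range_eq_map, ← Subgroup.map_map]
      congr 1
      exact (MonoidHom.range_eq_map _).symm.trans (Subgroup.range_subtype _)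
    have hk : g.ker = C.subgroupOf ((PMinOff.Off.W₀ V A).subgroupOf V) := by
      rw [← MonoidHom.comap_ker, QuotientGroup.ker_mk']
      rfl
    have h1 := Subgroup.card_eq_card_quotient_mul_card_subgroup g.ker
    rw [Nat.card_congr (QuotientGroup.quotientKerEquivRange g).toEquiv, hrange, hk,
      Nat.card_congr (Subgroup.subgroupOfEquivOfLe
        (show C ≤ (PMinOff.Off.W₀ V A).subgroupOf V from fun c hc => hO.C₀_le hc)).toEquiv,
      Nat.card_congr (Subgroup.subgroupOfEquivOfLe (inf_le_left : PMinOff.Off.W₀ V A ≤ V)).toEquiv,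
      Nat.card_congr (Subgroup.subgroupOfEquivOfLe (inf_le_left : PMinOff.Off.C₀ V P ≤ V)).toEquiv,
      hcard] at h1
    exact (Nat.eq_of_mul_eq_mul_right Nat.card_pos h1).symm
  have hgen : A' ⊔ A'.map (MulAut.conj x).toMonoidHom = ⊤ := by
    apply Subgroup.map_injective P.subtype_injective
    rw [Subgroup.map_sup, Subgroup.map_map,
      show P.subtype.comp (MulAut.conj x).toMonoidHom =
        (MulAut.conj (x : G)).toMonoidHom.comp P.subtype from MonoidHom.ext fun _ => rfl,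
      ← Subgroup.map_map, Subgroup.subgroupOf_map_subtype, inf_eq_left.2 hAP,
      ← MonoidHom.range_eq_map, Subgroup.range_subtype]
    exact hiii x hx
  obtain ⟨K, _, _, hK, ρ, μ, hρ⟩ := PMinOff.recognise_additive hexp f
    (fun q => by
      obtain ⟨v, rfl⟩ := hsurj q
      rw [hf]
      exact congrArg mk (Subtype.ext (by simp [cv])))
    (fun y z q => by
      obtain ⟨v, rfl⟩ := hsurj q
      rw [hf, hf, hf]
      exact congrArg mk (Subtype.ext (by simp [cv, mul_assoc])))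
    (fun y hy => hker y fun v hv => (hmk0 (cv y ⟨v, hv⟩ * ⟨v, hv⟩⁻¹)).1 (by
      rw [← hdiff, hy, sub_self]))
    A' M x Ws hgen (fun a ha => hO.hAM a ha) hx
    (fun e => hO.ne_bot (by
      rw [← inf_eq_left.2 hAP, ← Subgroup.subgroupOf_map_subtype,
        show A.subgroupOf P = ⊥ from e, Subgroup.map_bot]))
    (by
      intro a ha q hq
      obtain ⟨v, rfl⟩ := hsurj q
      rw [hf]
      refine congrArg mk (Subtype.ext ?_)
      exact mul_inv_eq_iff_eq_mul.2 (Subgroup.mem_centralizer_iff.1 ((hWs v).1 hq).2 _ ha))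
    (by
      intro a ha q
      obtain ⟨v, rfl⟩ := hsurj q
      rw [hdiff, hWs]
      exact hO.quad ha v.2)
    (by
      intro a ha ha1 q hq
      obtain ⟨v, rfl⟩ := hsurj q
      have h1 : mk (cv a v * v⁻¹) = 0 := by rw [← hdiff, hq, sub_self]
      exact (hWs v).2 (hreg a ha (fun e => ha1 (Subtype.ext e)) v v.2 ((hmk0 _).1 h1)))
    (hcardWs.trans (Nat.card_congr (Subgroup.subgroupOfEquivOfLe hAP).toEquiv).symm)
    (by
      intro q
      obtain ⟨v, rfl⟩ := hsurj q
      obtain ⟨w, hw, t, ht, e⟩ := PMinOff.exists_mul_of_mem_sup hO.hVc inf_le_left (hO.cj_le_V x)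
        (show (v : G) ∈ PMinOff.Off.W₀ V A ⊔ Offender.cj (x : G) (PMinOff.Off.W₀ V A) from
          hU.symm ▸ v.2)
      have ht' := Offender.mem_cj.1 ht
      refine ⟨mk ⟨w, hw.1⟩, (hWs _).2 hw, mk ⟨_, ht'.1⟩, (hWs _).2 ht', ?_⟩
      rw [hf, ← hmk]
      exact congrArg mk (Subtype.ext (by simp [cv, mul_assoc, e])))
    (by
      intro y hy q hq hq'
      obtain ⟨v, rfl⟩ := hsurj q
      obtain ⟨w, hw⟩ := hsurj (f y (mk v))
      rw [← hw] at hq' ⊢
      exact (hmk0 w).2 (hO.meet_one hy ⟨(hWs w).1 hq', hcj y v w hq hw.symm⟩))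
  have hcardA' : Nat.card A' = Nat.card A :=
    Nat.card_congr (Subgroup.subgroupOfEquivOfLe hAP).toEquiv
  let ψ : ↥V →* Multiplicative (Fin 2 → K) :=
    { toFun := fun v => Multiplicative.ofAdd (μ.symm (mk v))
      map_one' := by rw [show mk (1 : ↥V) = 0 from rfl, map_zero]; rfl
      map_mul' := fun v w => by rw [hmk, map_add]; rfl }
  refine ⟨K, inferInstance, inferInstance, hK.trans hcardA', ⟨ρ⟩, hWeq, hPV, inf_le_left,
    ρ.toMonoidHom, ψ, MonoidHom.range_eq_top.2 ρ.surjective, fun m => ?_, fun u => ?_, fun e u => ?_⟩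
  · obtain ⟨v, hv⟩ := hsurj (μ (Multiplicative.toAdd m))
    exact ⟨v, by show Multiplicative.ofAdd (μ.symm (mk v)) = m; rw [hv, μ.symm_apply_apply]; rfl⟩
  · show Multiplicative.ofAdd (μ.symm (mk u)) = 1 ↔ _
    rw [ofAdd_eq_one, AddEquiv.map_eq_zero_iff, hmk0]
  · refine ⟨cv e u, rfl, ?_⟩
    show μ.symm (mk (cv e u)) = Matrix.mulVec _ (μ.symm (mk u))
    rw [← hf, AddEquiv.symm_apply_eq]
    conv_lhs => rw [← μ.apply_symm_apply (mk u)]
    exact hρ e _

end Cfsg.Agent.S2999
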