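import Cfsg.Statements.S3000
-- import your own Cfsg.Agent.* helpers here
import Cfsg.Agent.FFStruct.Conj

set_option autoImplicit false
open Cfsg
open scoped IsMulCommutative

namespace Cfsg.Agent.S3000

/-- Let p be a prime and let P and V be subgroups of a finite group with V elementary abelian, P normalizing V and acting faithfully on it (P ∩ C(V) = 1). Suppose P is p-minimal (a Sylow p-subgroup T of P is not normal and lies in a unique maximal subgroup M of P), O_p(P) = 1, C_P(C_V(T)) ≤ M, and P has a best offender on V: a subgroup A not centralizing V, with A/C_A(V) elementary abelian, such that |B|·|C_V(B)| ≤ |A|·|C_V(A)| for every subgroup B of A. Then there are subgroups E₁, …, E_r of P (r ≥ 1), pairwise commuting and forming with T a product P = (E₁ × ⋯ × E_r)T (internal direct product of the E_i), any two of which are conjugate by an element of T, such that V = C_V(E₁⋯E_r)·∏[V, E_i] with [V,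 E_i, E_j] = 1 for i ≠ j, and for each i there is n ≥ 1 with either E_i ≅ SL₂(pⁿ) acting on [V, E_i]/C_{[V,E_i]}(E_i) as on its natural two-dimensional module, or p = 2 and E_i isomorphic to the symmetric group of degree 2ⁿ + 1 acting on [V, E_i]/C_{[V,E_i]}(E_i) as on its even-weight permutation module. -/
theorem result {G : Type*} [Group G] [Finite G] {p : ℕ} [Fact p.Prime] (V P : Subgroup G) (hV : Cfsg.IsElementaryAbelian p V) (hPV : P ≤ Subgroup.normalizer (V : Set G)) (hfaith : P ⊓ Subgroup.centralizer (V : Set G) = ⊥) (hmin : Cfsg.IsPMinimal p ↥P) (T : Sylow p ↥P) (M : Subgroup ↥P) (hM : IsCoatom M) (hTM : (T : Subgroup ↥P) ≤ M) (hOp : Cfsg.pCore p ↥P = ⊥) (hoff : ∃ A : Subgroup G, A ≤ P ∧ ¬ A ≤ Subgroup.centralizer (V : Set G) ∧ Cfsg.IsBestOffenderOn p V A) (hCT : P ⊓ Subgroup.centralizer ((V ⊓ Subgroup.centralizer ((((T : Subgroup ↥P).map P.subtype) : Subgroup G) : Set G)) : Set G) ≤ M.map P.subtype)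 : ∃ (r : ℕ) (E : Fin r → Subgroup G), 1 ≤ r ∧ (∀ i, E i ≤ P) ∧ (∀ i j, i ≠ j → ⁅E i, E j⁆ = ⊥) ∧ (∀ i, E i ⊓ (⨆ j ∈ {j | j ≠ i}, E j) = ⊥) ∧ (⨆ i, E i) ⊔ ((T : Subgroup ↥P).map P.subtype) = P ∧ (∀ i j, ∃ t ∈ ((T : Subgroup ↥P).map P.subtype), (E i).map (MulAut.conj t).toMonoidHom = E j) ∧ (V ⊓ Subgroup.centralizer (((⨆ i, E i) : Subgroup G) : Set G)) ⊔ (⨆ i, ⁅V, E i⁆) = V ∧ (∀ i j, i ≠ j → ⁅⁅V, E i⁆, E j⁆ = ⊥) ∧ ∀ i, ∃ n : ℕ, 1 ≤ n ∧ ((∃ (F : Type) (_ : Field F) (_ : Fintype F), Fintype.card F = p ^ n ∧ Nonempty (↥(E i) ≃* Matrix.SpecialLinearGroup (Fin 2) F) ∧ Cfsg.ActsAsSL2OnSection F ⊤ (E i) ⁅V, E i⁆ (⁅V, E i⁆ ⊓ Subgroup.centralizer ((E i : Subgroup G) : Set G))) ∨ (p = 2 ∧ Nonempty (↥(E i) ≃* Equiv.Perm (Fin (2 ^ n + 1))) ∧ Cfsg.ActsAsOddPermModuleOnSection (2 ^ n + 1) ⊤ (E i) ⁅V, E i⁆ (⁅V, E i⁆ ⊓ Subgroup.centralizer ((E i : Subgroup G) : Set G)))) := by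
  classical
  haveI : IsMulCommutative V := hV.1
  letI := FFStruct.conjAct' hPV
  haveI := FFStruct.conjAct'_faithful hPV hfaith
  have hc := FFStruct.conjAct'_isConj hPV
  have hπ : Function.Surjective (MonoidHom.id ↥P) := fun x => ⟨x, rfl⟩
  have hp : ∀ v : Additive ↥V, p • v = 0 := fun v =>
    Additive.toMul.injective (Subtype.ext ((Thompson.ea_iff.1 hV).2 _ (Additive.toMul v).2))
  have hA : FFStruct.Amb ↥P (Additive ↥V) p := by
    refine FFStruct.Amb.of_one hp hmin hOp T M hM hTM fun h hh => ?_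
    have h1 : (h : G) ∈ M.map P.subtype := by
      refine hCT ⟨h.2, Subgroup.mem_centralizer_iff.2 ?_⟩
      intro g hg
      obtain ⟨hgV, hgC⟩ := hg
      have h2 := hh (Additive.ofMul (⟨g, hgV⟩ : ↥V)) ((FFStruct.mem_fx_iff hπ hc).2 hgC)
      have h3 : (h : G) * g * (h : G)⁻¹ = g :=
        congrArg (fun w : Additive ↥V => ((Additive.toMul w : ↥V) : G)) h2
      exact (mul_inv_eq_iff_eq_mul.1 h3).symm
    obtain ⟨m, hm, e⟩ := h1
    rwa [show h = m from Subtype.ext e.symm]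
  obtain ⟨A, hAP, hAne, hbest⟩ := hoff
  obtain ⟨d1, d2, d3⟩ := FFStruct.offender_data hPV hfaith hAP hAne hbest
  obtain ⟨r, E, hE⟩ := hA.hasSys_of_offender T d1 d2 d3
  obtain ⟨hr, -, hEP, hcomm, hind, htop, htrans, hdec, hcross, hmod⟩ :=
    FFStruct.sys_translate hπ hc hE
  simp only [FFStruct.lift_id_bot] at hcomm hind hmod
  rw [FFStruct.lift_id] at htop htrans
  refine ⟨r, fun i => FFStruct.lift (MonoidHom.id ↥P) (E i), hr, hEP, fun i j hij => le_bot_iff.1 (hcomm i j hij), fun i => le_bot_iff.1 (hind i),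
    htop, htrans, hdec, hcross, fun i => ?_⟩
  obtain ⟨n, hn, ⟨F, i1, i2, hF, ⟨f, hf, hker⟩, hact⟩ | ⟨hp2, ⟨f, hf, hker⟩, hact⟩⟩ := hmod i
  · refine ⟨n, hn, Or.inl ⟨F, i1, i2, hF, ⟨MulEquiv.ofBijective f ⟨?_, hf⟩⟩, hact⟩⟩
    rw [← MonoidHom.ker_eq_bot_iff, hker, Subgroup.bot_subgroupOf]
  · refine ⟨n, hn, Or.inr ⟨hp2, ⟨MulEquiv.ofBijective f ⟨?_, hf⟩⟩, hact⟩⟩
    rw [← MonoidHom.ker_eq_bot_iff, hker, Subgroup.bot_subgroupOf]

end Cfsg.Agent.S3000
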