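import Cfsg.Statements.S3001
-- import your own Cfsg.Agent.* helpers here
import Cfsg.Agent.FFStruct.Conj
import Cfsg.Agent.FFStruct.Moved

set_option autoImplicit false
open Cfsg
open scoped IsMulCommutative

namespace Cfsg.Agent.S3001

/-- Let p be a prime and let P and V be subgroups of a finite group with V elementary abelian, P normalizing V and acting faithfully on it (P ∩ C(V) = 1). Suppose P is p-minimal (a Sylow p-subgroup is not normal and lies in a unique maximal subgroup), O_p(P) = 1, and P has a best offender on V (a subgroup A not centralizing V, with A/C_A(V) elementary abelian and |B|·|C_V(B)| ≤ |A|·|C_V(A)| for every B ≤ A). Then [C_V(T), P] ≠ 1 for every Sylow p-subgroup T of P. -/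
theorem result {G : Type*} [Group G] [Finite G] {p : ℕ} [Fact p.Prime] (V P : Subgroup G) (hV : Cfsg.IsElementaryAbelian p V) (hPV : P ≤ Subgroup.normalizer (V : Set G)) (hfaith : P ⊓ Subgroup.centralizer (V : Set G) = ⊥) (hmin : Cfsg.IsPMinimal p ↥P) (hOp : Cfsg.pCore p ↥P = ⊥) (hoff : ∃ A : Subgroup G, A ≤ P ∧ ¬ A ≤ Subgroup.centralizer (V : Set G) ∧ Cfsg.IsBestOffenderOn p V A) (T : Sylow p ↥P) : ⁅(V ⊓ Subgroup.centralizer ((((T : Subgroup ↥P).map P.subtype) : Subgroup G) : Set G)), P⁆ ≠ ⊥ := by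
  classical
  haveI : IsMulCommutative V := hV.1
  letI := FFStruct.conjAct' hPV
  haveI := FFStruct.conjAct'_faithful hPV hfaith
  have hc := FFStruct.conjAct'_isConj hPV
  have hπ : Function.Surjective (MonoidHom.id ↥P) := fun x => ⟨x, rfl⟩
  have hp : ∀ v : Additive ↥V, p • v = 0 := fun v =>
    Additive.toMul.injective (Subtype.ext ((Thompson.ea_iff.1 hV).2 _ (Additive.toMul v).2))
  obtain ⟨A, hAP, hAne, hbest⟩ := hoff
  obtain ⟨d1, d2, d3⟩ := FFStruct.offender_data hPV hfaith hAP hAne hbest
  obtain ⟨v, hv, e, he⟩ := FFStruct.exists_moved_fixed hp hmin hOp T d1 d2 d3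
  intro hbot
  apply he
  have h1 : ((Additive.toMul v : ↥V) : G) ∈
      V ⊓ Subgroup.centralizer ((((T : Subgroup ↥P).map P.subtype) : Subgroup G) : Set G) :=
    ⟨(Additive.toMul v).2, (FFStruct.mem_fx_iff hπ hc).1 hv⟩
  have h2 := Subgroup.mem_centralizer_iff.1
    (Subgroup.commutator_eq_bot_iff_le_centralizer.1 hbot h1) (e : G) e.2
  refine Additive.toMul.injective (Subtype.ext ((hc e v).trans ?_))
  rw [h2, mul_inv_cancel_right]

end Cfsg.Agent.S3001
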