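import Cfsg.Statements.S3003
import Mathlib
import Cfsg.Agent.Coprime.Generation

set_option autoImplicit false
open Cfsg

namespace Cfsg.Agent.S3003

open Subgroup
open scoped Pointwise

theorem key {G : Type*} [Group G] [Finite G] {p : ℕ} [Fact p.Prime] (Q : Subgroup G)
    (hQp : IsPGroup p ↥Q) (hlarge : Cfsg.IsLarge Q) (G₁ : Subgroup G) (hQG : Q ≤ G₁) (R : Subgroup G)
    (hR : (Nat.card ↥R).Coprime p) (hGR : G₁ ≤ normalizer (R : Set G)) {x g : G} (hx1 : x ≠ 1)
    (hg : g ∈ G₁) (hx : g * x * g⁻¹ ∈ Q ⊓ centralizer (Q : Set G)) :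
    R ⊓ centralizer {x} = ⊥ := by
  rw [Subgroup.eq_bot_iff_forall]
  intro r hr
  obtain ⟨hrR, hrx⟩ := Subgroup.mem_inf.1 hr
  obtain ⟨hzQ, hzC⟩ := Subgroup.mem_inf.1 hx
  have hQR : Q ⊓ R = ⊥ := by
    apply Subgroup.inf_eq_bot_of_coprime
    obtain ⟨k, hk⟩ := IsPGroup.iff_card.1 hQp
    rw [hk]
    exact hR.symm.pow_left k
  set s := g * r * g⁻¹ with hs
  have hsR : s ∈ R := ((Subgroup.mem_normalizer_iff.1 (hGR hg)) r).1 hrR
  set z := g * x * g⁻¹ with hz
  have hcom : s * z = z * s := by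
    have h := Subgroup.mem_centralizer_singleton_iff.1 hrx
    rw [hs, hz, show g * r * g⁻¹ * (g * x * g⁻¹) = g * (r * x) * g⁻¹ by group,
      show g * x * g⁻¹ * (g * r * g⁻¹) = g * (x * r) * g⁻¹ by group, h]
  have hz1 : zpowers z ≠ ⊥ := by
    rw [ne_eq, zpowers_eq_bot, hz, conj_eq_one_iff]
    exact hx1
  have hsN : s ∈ normalizer (Q : Set G) := by
    apply hlarge.2 _ (zpowers_le.2 hzC) hz1
    apply Subgroup.centralizer_le_normalizer
    rw [Subgroup.mem_centralizer_iff]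
    intro h hh
    obtain ⟨i, rfl⟩ := mem_zpowers_iff.1 hh
    exact ((show Commute s z from hcom).zpow_right i).eq.symm
  have hsC : s ∈ centralizer (Q : Set G) := by
    rw [Subgroup.mem_centralizer_iff]
    intro q hq
    have h1 : s * q * s⁻¹ * q⁻¹ ∈ Q :=
      mul_mem ((Subgroup.mem_normalizer_iff.1 hsN q).1 hq) (inv_mem hq)
    have h2 : s * (q * s⁻¹ * q⁻¹) ∈ R :=
      mul_mem hsR ((Subgroup.mem_normalizer_iff.1 (hGR (hQG hq)) s⁻¹).1 (inv_mem hsR))
    rw [← mul_assoc, ← mul_assoc] at h2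
    have h3 : s * q * s⁻¹ * q⁻¹ ∈ Q ⊓ R := Subgroup.mem_inf.2 ⟨h1, h2⟩
    rw [hQR, Subgroup.mem_bot, mul_inv_eq_one, mul_inv_eq_iff_eq_mul] at h3
    exact h3.symm
  have h4 : s ∈ Q ⊓ R := Subgroup.mem_inf.2 ⟨hlarge.1 hsC, hsR⟩
  rw [hQR, Subgroup.mem_bot, hs, conj_eq_one_iff] at h4
  exact h4


/-- Let G be a finite group, p a prime and Q a large p-subgroup of G: C_G(Q) ≤ Q and N_G(U) ≤ N_G(Q) for every nontrivial subgroup U of C_G(Q). Let Q ≤ G₁ ≤ G, let R be a subgroup of order prime to p normalized by G₁, and let U ≤ G₁ be a p-subgroup. If U contains a nontrivial element which is G₁-conjugate to an element of Z(Q), then C_R(U) = 1. In particular, if U is elementary abelian of order at least p² and every maximal subgroup of U contains a nontrivial element G₁-conjugate into Z(Q), then R = 1. -/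
theorem result {G : Type*} [Group G] [Finite G] {p : ℕ} [Fact p.Prime] (Q : Subgroup G) (hQp : IsPGroup p ↥Q) (hlarge : Cfsg.IsLarge Q) (G₁ : Subgroup G) (hQG : Q ≤ G₁) (R : Subgroup G) (hR : (Nat.card ↥R).Coprime p) (hGR : G₁ ≤ Subgroup.normalizer (R : Set G)) (U : Subgroup G) (hUG : U ≤ G₁) (hUp : IsPGroup p ↥U) : ((∃ x ∈ U, x ≠ 1 ∧ ∃ g ∈ G₁, g * x * g⁻¹ ∈ Q ⊓ Subgroup.centralizer (Q : Set G)) → R ⊓ Subgroup.centralizer (U : Set G) = ⊥) ∧ (Cfsg.IsElementaryAbelian p U → p ^ 2 ≤ Nat.card ↥U → (∀ U₀ : Subgroup G, U₀ ≤ U → IsCoatom (U₀.subgroupOf U) → ∃ x ∈ U₀, x ≠ 1 ∧ ∃ g ∈ G₁, g * x * g⁻¹ ∈ Q ⊓ Subgroup.centralizer (Q : Set G)) → R = ⊥) := by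
  refine ⟨fun ⟨x, hxU, hx1, g, hg, hx⟩ => ?_, fun hE hcard hmax => ?_⟩
  · refine le_bot_iff.1 (le_trans ?_ (key Q hQp hlarge G₁ hQG R hR hGR hx1 hg hx).le)
    exact inf_le_inf_left _ (Subgroup.centralizer_le (Set.singleton_subset_iff.2 hxU))
  · have := hE.1
    have hcop : (Nat.card U).Coprime (Nat.card R) := by
      obtain ⟨k, hk⟩ := IsPGroup.iff_card.1 hUp
      rw [hk]
      exact hR.symm.pow_left k
    rw [← le_bot_iff, ← Coprime.iSup_cocyclic_centralizer_eq (hUG.trans hGR) hcop]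
    refine iSup₂_le fun B hB => ?_
    obtain ⟨hBU, a, ha, hBa⟩ := hB
    obtain ⟨C, hCB, hC⟩ : ∃ C : Subgroup G, C ≤ B ∧ IsCoatom (C.subgroupOf U) ∧ C ≤ U := by
      by_cases hBt : B = U
      · subst hBt
        have : Nontrivial ↥B := Finite.one_lt_card_iff_nontrivial.1 (lt_of_lt_of_le
          (Nat.one_lt_pow two_ne_zero (Fact.out : p.Prime).one_lt) hcard)
        obtain ⟨C₀, hC₀⟩ : ∃ C₀ : Subgroup ↥B, IsCoatom C₀ :=
          (eq_top_or_exists_le_coatom (⊥ : Subgroup ↥B)).elim (fun h => absurd h bot_ne_top)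
            fun ⟨C₀, h, _⟩ => ⟨C₀, h⟩
        refine ⟨C₀.map B.subtype, Subgroup.map_subtype_le _, ?_, Subgroup.map_subtype_le _⟩
        rwa [Subgroup.subgroupOf, Subgroup.comap_map_eq_self_of_injective B.subtype_injective]
      · refine ⟨B, le_rfl, ⟨fun h => hBt (le_antisymm hBU (subgroupOf_eq_top.1 h)), ?_⟩, hBU⟩
        intro C hC
        obtain ⟨c, hcC, hcB⟩ := SetLike.exists_of_lt hC
        have hn : zpowers a ≤ normalizer (B : Set G) := by
          refine le_trans ?_ (Subgroup.centralizer_le_normalizer _)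
          rw [zpowers_le, Subgroup.mem_centralizer_iff]
          exact fun b hb => congrArg Subtype.val
            (IsMulCommutative.is_comm.comm (⟨b, hBU hb⟩ : U) ⟨a, ha⟩)
        have hcU : (c : G) ∈ (B : Set G) * (zpowers a : Set G) := by
          rw [← Subgroup.coe_mul_of_right_le_normalizer_left _ _ hn, SetLike.mem_coe, hBa]
          exact c.2
        obtain ⟨b, hb, w, hw, hbw⟩ := Set.mem_mul.1 hcU
        have hbC : (⟨b, hBU hb⟩ : U) ∈ C := hC.le hb
        have hwU : w ∈ U := (zpowers_le.2 ha) hw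
        have hwC : (⟨w, hwU⟩ : U) ∈ C := by
          have he : (⟨w, hwU⟩ : U) = (⟨b, hBU hb⟩ : U)⁻¹ * c := by
            ext; simp [← hbw]
          rw [he]; exact mul_mem (inv_mem hbC) hcC
        have hw1 : w ≠ 1 := by
          rintro rfl
          rw [mul_one] at hbw
          exact hcB (hbw ▸ hb : (c : G) ∈ B)
        have haC : (⟨a, ha⟩ : U) ∈ C := by
          obtain ⟨i, rfl⟩ := mem_zpowers_iff.1 hw
          have hpi : ¬ (p : ℤ) ∣ i := by
            rintro ⟨j, rfl⟩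
            exact hw1 (by rw [zpow_mul, zpow_natCast, hE.2 a ha, one_zpow])
          obtain ⟨u, v, huv⟩ : IsCoprime (p : ℤ) i :=
            (Nat.prime_iff_prime_int.1 Fact.out).coprime_iff_not_dvd.2 hpi
          have he : (⟨a, ha⟩ : U) = (⟨a ^ i, hwU⟩ : U) ^ v := by
            ext
            simp only [SubgroupClass.coe_zpow]
            rw [← zpow_mul]
            conv_lhs => rw [← zpow_one a, ← huv, zpow_add, mul_comm u, zpow_mul, zpow_natCast,
              hE.2 a ha, one_zpow, one_mul, mul_comm]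
          rw [he]; exact zpow_mem hwC v
        rw [eq_top_iff]
        intro d _
        have : U ≤ C.map U.subtype := by
          refine hBa.ge.trans ?_
          exact sup_le (fun x hx => ⟨⟨x, hBU hx⟩, hC.le hx, rfl⟩)
            (zpowers_le.2 ⟨⟨a, ha⟩, haC, rfl⟩)
        obtain ⟨d', hd', hdd⟩ := this d.2
        rwa [← Subtype.ext hdd]
    obtain ⟨x, hxC, hx1, g, hg, hx⟩ := hmax C hC.2 hC.1
    refine le_trans ?_ (key Q hQp hlarge G₁ hQG R hR hGR hx1 hg hx).le
    exact inf_le_inf_left _ (Subgroup.centralizer_le (Set.singleton_subset_iff.2 (hCB hxC)))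

end Cfsg.Agent.S3003
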