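import Cfsg.Statements.S3008
import Cfsg.Agent.CentLarge.Norm

set_option autoImplicit false
open Cfsg

namespace Cfsg.Agent.S3008

/-- Let P be a finite p-group, with J(P) generated by its abelian subgroups of largest order and J̃(P) = C_P(Z(J(P))); call R ≤ P centrally large if |R|·|Z(R)| is as large as possible, and let P_MCL be generated by the minimal centrally large subgroups. Then: for every centrally large Q, Q·J(P) ⊇ J̃(P); some minimal centrally large subgroup of P is normalized by both J(P) and P_MCL; if P = J(P) and d(P)² = |P|·|Z(P)|, where d(P) is the largest order of an abelian subgroup, then every minimal centrally large subgroup of P is abelian; and if every minimal centrally large subgroup is abelian then J̃(P) = J(P). -/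
theorem result {p : ℕ} [Fact p.Prime] (P : Type*) [Group P] [Finite P] (hP : IsPGroup p P) : (∀ Q : Subgroup P, Cfsg.IsCentrallyLarge Q → Subgroup.centralizer ((Cfsg.thompsonSubgroupA P ⊓ Subgroup.centralizer (Cfsg.thompsonSubgroupA P : Set P) : Subgroup P) : Set P) ≤ Q ⊔ Cfsg.thompsonSubgroupA P) ∧ (∃ Q : Subgroup P, Cfsg.IsMinimalCentrallyLarge Q ∧ Cfsg.thompsonSubgroupA P ≤ Subgroup.normalizer (Q : Set P) ∧ Cfsg.minimalCentrallyLargeJoin P ≤ Subgroup.normalizer (Q : Set P)) ∧ (Cfsg.thompsonSubgroupA P = ⊤ → (∀ A ∈ Cfsg.maxAbelianSubgroups P, Nat.card ↥A ^ 2 = Nat.card P * Nat.card ↥(Subgroup.center P)) → ∀ Q : Subgroup P, Cfsg.IsMinimalCentrallyLarge Q → IsMulCommutative ↥Q) ∧ ((∀ Q : Subgroup P, Cfsg.IsMinimalCentrallyLarge Q → IsMulCommutative ↥Q) → Subgroup.centralizer ((Cfsg.thompsonSubgroupA P ⊓ Subgroup.centralizer (Cfsg.thompsonSubgroupA P : Set P) : Subgroup P) : Set P) = Cfsg.thompsonSubgroupA P) := by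
  have hJ := Agent.CentLarge.exists_maxAbelian (G := P)
  obtain ⟨A₀, hA₀⟩ := hJ
  have hCJ : Subgroup.centralizer (Cfsg.thompsonSubgroupA P : Set P) ≤ Cfsg.thompsonSubgroupA P :=
    ((Subgroup.centralizer_le (SetLike.coe_subset_coe.2 (le_sSup hA₀ : A₀ ≤ Cfsg.thompsonSubgroupA P))).trans
      (Agent.CentLarge.centralizer_of_mem_maxAbelian hA₀).le).trans (le_sSup hA₀)
  refine ⟨fun Q hQ => ?_, Agent.CentLarge.exists_minimal_normalized hP, fun hJtop hd => ?_,
    fun hab => ?_⟩
  · exact Agent.CentLarge.centralizer_centerJ_le (Agent.CentLarge.sup_thompsonA hQ) le_sup_right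
  · -- `P` is centrally large, so each abelian subgroup of largest order is
    obtain ⟨R, hR⟩ := Agent.CentLarge.exists_isCentrallyLarge (G := P)
    have hT := Agent.CentLarge.sup_thompsonA hR
    rw [hJtop, sup_top_eq, Agent.CentLarge.isCentrallyLarge_iff] at hT
    have hAc := Agent.CentLarge.centralizer_of_mem_maxAbelian hA₀
    have hμ : Agent.CentLarge.IsMuMax A₀ := hT.1.of_le (le_of_eq (by
      rw [Agent.CentLarge.mu_top, Agent.CentLarge.mu, hAc, ← hd A₀ hA₀, sq]))
    have hmin : Cfsg.IsMinimalCentrallyLarge A₀ := by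
      refine ⟨(Agent.CentLarge.isCentrallyLarge_iff A₀).2 ⟨hμ, hAc.le⟩, fun R' hle hR' => ?_⟩
      exact le_antisymm hle ((hAc.ge.trans
        (Subgroup.centralizer_le (SetLike.coe_subset_coe.2 hle))).trans
          ((Agent.CentLarge.isCentrallyLarge_iff R').1 hR').2)
    exact fun Q hQ => ((Agent.CentLarge.minimal_iff_maxAbelian hmin hA₀.1 Q).1 hQ).1
  · obtain ⟨R, hR⟩ := Agent.CentLarge.exists_isCentrallyLarge (G := P)
    obtain ⟨Q, -, hQ⟩ := Agent.CentLarge.exists_isMinimalCentrallyLarge_le hR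
    have heq : Cfsg.thompsonSubgroupA P = Cfsg.minimalCentrallyLargeJoin P := by
      refine le_antisymm (sSup_le fun A hA => le_sSup ?_) (sSup_le fun A hA => le_sSup ?_)
      · exact (Agent.CentLarge.minimal_iff_maxAbelian hQ (hab Q hQ) A).2 hA
      · exact (Agent.CentLarge.minimal_iff_maxAbelian hQ (hab Q hQ) A).1 hA
    rw [inf_eq_right.2 hCJ]
    have hcl := Agent.CentLarge.isCentrallyLarge_minimalCentrallyLargeJoin (G := P)
    rw [← heq, Agent.CentLarge.isCentrallyLarge_iff] at hcl
    exact hcl.1.centralizer_max.2.symm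

end Cfsg.Agent.S3008
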