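import Cfsg.Statements.S3009
import Cfsg.Agent.LocalStructure.SL2QuadModule

set_option autoImplicit false
open Cfsg

set_option linter.all false

namespace Cfsg.Agent.S3009

open scoped commutatorElement

/-- Let p be a prime and let G and V be subgroups of a finite group with V elementary abelian and normalized by G, and G isomorphic to SL₂(F) for a finite field F with pⁿ elements. Suppose G acts irreducibly and nontrivially on V by conjugation (no G-invariant subgroups of V other than 1 and V, and [V, G] ≠ 1), and let S be a Sylow p-subgroup of G and V₀ = C_V(S). If [V, S, S] = 1 or |V| ≤ |V₀|², then G acts on V as SL₂(F) on its natural two-dimensional module; in particular |V| = |F|². -/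
theorem result {X : Type*} [Group X] [Finite X] {p : ℕ} [Fact p.Prime] (G V : Subgroup X) (hV : Cfsg.IsElementaryAbelian p V) (hGV : G ≤ Subgroup.normalizer (V : Set X)) (F : Type) [Field F] [Fintype F] (n : ℕ) (hF : Fintype.card F = p ^ n) (hG : Nonempty (↥G ≃* Matrix.SpecialLinearGroup (Fin 2) F)) (hirr : ∀ U : Subgroup X, U ≤ V → G ≤ Subgroup.normalizer (U : Set X) → U = ⊥ ∨ U = V) (hnt : ⁅V, G⁆ ≠ ⊥) (S : Sylow p ↥G) (hyp : ⁅⁅V, (S : Subgroup ↥G).map G.subtype⁆, (S : Subgroup ↥G).map G.subtype⁆ = ⊥ ∨ Nat.card ↥V ≤ Nat.card ↥(V ⊓ Subgroup.centralizer (((S : Subgroup ↥G).map G.subtype : Subgroup X) : Set X)) ^ 2) : Cfsg.ActsAsSL2OnSection F ⊤ G V ⊥ := by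
  classical
  obtain ⟨e⟩ := hG
  haveI : CharP F p := by
    obtain ⟨m, hr, hm⟩ := FiniteField.card F (ringChar F)
    rw [hF] at hm
    have hn : n ≠ 0 := fun h => by
      rw [h, pow_zero] at hF
      exact absurd hF (Fintype.one_lt_card (α := F)).ne'
    have h1 : p ∣ ringChar F ^ (m : ℕ) := hm ▸ dvd_pow_self p hn
    exact (Nat.prime_dvd_prime_iff_eq Fact.out hr).1 ((Fact.out : p.Prime).dvd_of_dvd_pow h1) ▸ ringChar.charP F
  haveI : IsMulCommutative V := hV.1
  letI : CommGroup V := { (inferInstance : Group V) with mul_comm := fun a b => IsMulCommutative.is_comm.comm a b }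
  let c : ↥G →* MulAut V := (V.normalizerMonoidHom).comp (Subgroup.inclusion hGV)
  have hc : ∀ (g : ↥G) (v : V), ((c g v : V) : X) = (g : X) * (v : X) * (g : X)⁻¹ := fun g v => rfl
  let ρ : Matrix.SpecialLinearGroup (Fin 2) F →* AddMonoid.End (Additive V) :=
    { toFun := fun g => (c (e.symm g)).toMonoidHom.toAdditive
      map_one' := AddMonoidHom.ext fun v => by
        show Additive.ofMul (c (e.symm 1) (Additive.toMul v)) = v
        rw [map_one, map_one]; rfl
      map_mul' := fun g h => AddMonoidHom.ext fun v => by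
        show Additive.ofMul (c (e.symm (g * h)) (Additive.toMul v)) = Additive.ofMul (c (e.symm g) (c (e.symm h) (Additive.toMul v)))
        rw [map_mul, map_mul]; rfl }
  have hρ : ∀ g (v : Additive V), ((Additive.toMul (ρ g v) : V) : X) =
      ((e.symm g : ↥G) : X) * ((Additive.toMul v : V) : X) * ((e.symm g : ↥G) : X)⁻¹ := fun g v => rfl
  have hinvU : ∀ U : AddSubgroup (Additive V), (∀ g, ∀ m ∈ U, ρ g m ∈ U) → U = ⊥ ∨ U = ⊤ := by
    intro U hU
    let U' : Subgroup X := (AddSubgroup.toSubgroup' U).map V.subtype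
    have hU' : G ≤ Subgroup.normalizer (U' : Set X) := by
      have key : ∀ g ∈ G, ∀ u ∈ U', g * u * g⁻¹ ∈ U' := by
        rintro g hg _ ⟨v, hv, rfl⟩
        refine ⟨Additive.toMul (ρ (e ⟨g, hg⟩) (Additive.ofMul v)), hU _ _ hv, ?_⟩
        show ((Additive.toMul (ρ (e ⟨g, hg⟩) (Additive.ofMul v)) : V) : X) = _
        rw [hρ, MulEquiv.symm_apply_apply]
        rfl
      intro g hg
      refine Subgroup.mem_normalizer_iff.2 fun u => ⟨key g hg u, fun h => ?_⟩
      have := key g⁻¹ (inv_mem hg) _ h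
      simpa [mul_assoc] using this
    rcases hirr U' (Subgroup.map_subtype_le _) hU' with h | h
    · refine Or.inl (eq_bot_iff.2 fun m hm => ?_)
      have : (((Additive.toMul m : V)) : X) ∈ U' := ⟨_, hm, rfl⟩
      rw [h, Subgroup.mem_bot] at this
      exact congrArg Additive.ofMul (Subtype.ext this : Additive.toMul m = 1)
    · refine Or.inr (eq_top_iff.2 fun m _ => ?_)
      obtain ⟨w, hw, hwe⟩ : (((Additive.toMul m : V)) : X) ∈ U' := by rw [h]; exact (Additive.toMul m).2
      have e2 : w = Additive.toMul m := Subtype.ext hwe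
      rw [e2] at hw
      exact hw
  have hnt' : ∃ g m, ρ g m ≠ m := by
    by_contra h
    push Not at h
    refine hnt (Subgroup.commutator_eq_bot_iff_le_centralizer.2 fun v hv => Subgroup.mem_centralizer_iff.2 fun g hg => ?_)
    have := congrArg (fun x : Additive V => ((Additive.toMul x : V) : X)) (h (e ⟨g, hg⟩) (Additive.ofMul ⟨v, hv⟩))
    simp only [hρ, MulEquiv.symm_apply_apply] at this
    exact eq_mul_of_mul_inv_eq this
  -- the upper transvections lie in a conjugate of the Sylow subgroup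
  obtain ⟨g₀, hg₀⟩ : ∃ g₀ : ↥G, ∀ t : F, g₀⁻¹ * e.symm (Cfsg.Agent.Chev.SL2Data.upper t) * g₀ ∈ (S : Subgroup ↥G) := by
    let U : Subgroup ↥G :=
      { carrier := Set.range fun t : F => e.symm (Cfsg.Agent.Chev.SL2Data.upper t)
        mul_mem' := by
          rintro _ _ ⟨s, rfl⟩ ⟨t, rfl⟩
          exact ⟨s + t, by simp only; rw [Cfsg.Agent.LocalStructure.SL2QuadModule.upper_add, map_mul]⟩
        one_mem' := ⟨0, by simp only; rw [Cfsg.Agent.LocalStructure.SL2QuadModule.upper_zero, map_one]⟩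
        inv_mem' := by
          rintro _ ⟨t, rfl⟩
          refine ⟨-t, eq_inv_of_mul_eq_one_left ?_⟩
          simp only
          rw [← map_mul, ← Cfsg.Agent.LocalStructure.SL2QuadModule.upper_add, neg_add_cancel,
            Cfsg.Agent.LocalStructure.SL2QuadModule.upper_zero, map_one] }
    have hUp : IsPGroup p U := by
      rintro ⟨_, t, rfl⟩
      refine ⟨1, Subtype.ext ?_⟩
      have : ∀ k : ℕ, e.symm (Cfsg.Agent.Chev.SL2Data.upper t) ^ k = e.symm (Cfsg.Agent.Chev.SL2Data.upper ((k : F) * t)) := by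
        intro k
        induction k with
        | zero => rw [pow_zero, Nat.cast_zero, zero_mul, Cfsg.Agent.LocalStructure.SL2QuadModule.upper_zero, map_one]
        | succ k ih => rw [pow_succ, ih, ← map_mul, ← Cfsg.Agent.LocalStructure.SL2QuadModule.upper_add]; push_cast; ring_nf
      rw [pow_one, SubgroupClass.coe_pow, this, CharP.cast_eq_zero, zero_mul,
        Cfsg.Agent.LocalStructure.SL2QuadModule.upper_zero, map_one]
      rfl
    obtain ⟨Q, hQ⟩ := hUp.exists_le_sylow
    obtain ⟨g, hg⟩ := MulAction.exists_smul_eq ↥G S Q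
    refine ⟨g, fun t => ?_⟩
    have := hQ (show e.symm (Cfsg.Agent.Chev.SL2Data.upper t) ∈ U from ⟨t, rfl⟩)
    rw [← hg] at this
    obtain ⟨s, hs, hse⟩ := this
    rw [← hse]
    show g⁻¹ * (g * s * g⁻¹) * g ∈ _
    rw [show g⁻¹ * (g * s * g⁻¹) * g = s by group]
    exact hs
  set T := (S : Subgroup ↥G).map G.subtype
  obtain ⟨Φ, hΦ⟩ := Cfsg.Agent.LocalStructure.SL2QuadModule.exists_natural (p := p) ρ (fun m => by
      refine Additive.toMul.injective (Subtype.ext ?_)
      rw [toMul_nsmul, SubgroupClass.coe_pow, toMul_zero, Subgroup.coe_one]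
      exact hV.2 _ (Additive.toMul m).2) hinvU hnt' (by
    rcases hyp with h | h
    · refine Or.inl fun t s m => ?_
      have mem : ∀ u : F, ((g₀⁻¹ * e.symm (Cfsg.Agent.Chev.SL2Data.upper u) * g₀ : ↥G) : X) ∈ T := fun u => ⟨_, hg₀ u, rfl⟩
      set a := ((g₀⁻¹ * e.symm (Cfsg.Agent.Chev.SL2Data.upper s) * g₀ : ↥G) : X) with ha
      set b := ((g₀⁻¹ * e.symm (Cfsg.Agent.Chev.SL2Data.upper t) * g₀ : ↥G) : X) with hb
      set v := (g₀ : X)⁻¹ * ((Additive.toMul m : V) : X) * (g₀ : X) with hv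
      have hvV : v ∈ V := (Subgroup.mem_normalizer_iff''.1 (hGV g₀.2) _).1 (Additive.toMul m).2
      have hcm : ∀ (x : X), x ∈ V → ∀ (y : X), y ∈ T → ⁅x, y⁆ ∈ ⁅V, T⁆ := fun x hx y hy => Subgroup.commutator_mem_commutator hx hy
      have h1 : b * ⁅v, a⁆⁻¹ * b⁻¹ = ⁅v, a⁆⁻¹ := by
        have h2 : ⁅⁅v, a⁆⁻¹, b⁆ ∈ (⊥ : Subgroup X) := h ▸ Subgroup.commutator_mem_commutator (inv_mem (hcm v hvV a (mem s))) (mem t)
        rw [Subgroup.mem_bot, commutatorElement_eq_one_iff_mul_comm] at h2
        rw [← h2, mul_inv_cancel_right]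
      refine Additive.toMul.injective (Subtype.ext ?_)
      rw [hρ, toMul_sub, Subgroup.coe_div, hρ, div_eq_mul_inv]
      have key : ∀ (k u : X), (g₀ : X) * k * (g₀ : X)⁻¹ = u → k = (g₀ : X)⁻¹ * u * g₀ := fun k u e => by rw [← e]; group
      have hs' : ((e.symm (Cfsg.Agent.Chev.SL2Data.upper s) : ↥G) : X) = (g₀ : X) * a * (g₀ : X)⁻¹ := by
        simp only [ha, Subgroup.coe_mul, InvMemClass.coe_inv]; group
      have ht' : ((e.symm (Cfsg.Agent.Chev.SL2Data.upper t) : ↥G) : X) = (g₀ : X) * b * (g₀ : X)⁻¹ := by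
        simp only [hb, Subgroup.coe_mul, InvMemClass.coe_inv]; group
      have hm : ((Additive.toMul m : V) : X) = (g₀ : X) * v * (g₀ : X)⁻¹ := by simp only [hv]; group
      simp only [hs', ht', hm]
      have e1 : (g₀ : X) * (b * ⁅v, a⁆⁻¹ * b⁻¹) * (g₀ : X)⁻¹ = (g₀ : X) * ⁅v, a⁆⁻¹ * (g₀ : X)⁻¹ := by rw [h1]
      simp only [commutatorElement_def, mul_inv_rev, inv_inv] at e1
      convert e1 using 1 <;> group
    · refine Or.inr (h.trans (Nat.pow_le_pow_left ?_ 2))
      refine Nat.card_le_card_of_injective (fun v => ⟨Additive.ofMul (c g₀ ⟨v.1, v.2.1⟩), fun t => ?_⟩) ?_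
      · refine Additive.toMul.injective (Subtype.ext ?_)
        rw [hρ, toMul_ofMul, hc]
        set a := ((g₀⁻¹ * e.symm (Cfsg.Agent.Chev.SL2Data.upper t) * g₀ : ↥G) : X) with ha
        have h1 : a * (v : X) = v * a := Subgroup.mem_centralizer_iff.1 v.2.2 a ⟨_, hg₀ t, rfl⟩
        have hs' : ((e.symm (Cfsg.Agent.Chev.SL2Data.upper t) : ↥G) : X) = (g₀ : X) * a * (g₀ : X)⁻¹ := by
          simp only [ha, Subgroup.coe_mul, InvMemClass.coe_inv]; group
        rw [hs']
        calc _ = (g₀ : X) * (a * v) * a⁻¹ * (g₀ : X)⁻¹ := by group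
          _ = _ := by rw [h1]; group
      · intro v w hvw
        have := (c g₀).injective (Additive.ofMul.injective (congrArg Subtype.val hvw))
        exact Subtype.ext (congrArg (fun z : V => (z : X)) this))
  refine ⟨hGV, bot_le, e.toMonoidHom,
    { toFun := fun v => Multiplicative.ofAdd (Φ (Additive.ofMul v))
      map_one' := by simp
      map_mul' := fun u v => by simp [map_add] }, MonoidHom.range_eq_top.2 e.surjective, fun w => ?_, fun u => ?_, fun g v => ?_⟩
  · exact ⟨Additive.toMul (Φ.symm (Multiplicative.toAdd w)), by simp⟩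
  · rw [Subgroup.mem_bot]
    simp
  · refine ⟨c g v, hc g v, ?_⟩
    have := hΦ (e g) (Additive.ofMul v)
    simp only [MonoidHom.coe_mk, OneHom.coe_mk, toAdd_ofAdd]
    refine Eq.trans ?_ this
    congr 1
    refine Additive.toMul.injective (Subtype.ext ?_)
    rw [hρ, MulEquiv.symm_apply_apply]
    exact hc g v

end Cfsg.Agent.S3009
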