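import Cfsg.Statements.S3011
import Cfsg.Agent.Invol.BaerSuzuki
import Cfsg.Agent.Core.PCore

set_option autoImplicit false
open Cfsg

namespace Cfsg.Agent.S3011

theorem eq_one_of_eq_inv {G : Type*} [Group G] {h : G} (hodd : Odd (orderOf h)) (e : h = h⁻¹) :
    h = 1 := by
  have h2 : orderOf h ∣ 2 := orderOf_dvd_of_pow_eq_one (by rw [pow_two]; nth_rewrite 2 [e]; simp)
  rcases (Nat.dvd_prime Nat.prime_two).mp h2 with h1 | h1
  · exact orderOf_eq_one_iff.mp h1
  · rw [h1] at hodd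
    exact absurd hodd (by decide)

/-- Let G be a finite group and V a nontrivial elementary abelian 2-subgroup of G of order at most 4 such that, whenever an element of V inverts an element h of G of odd order, some nontrivial element of V commutes with h. Then V meets O₂(G) nontrivially. (The case of order at most 4 has a short argument from the Baer–Suzuki theorem.) -/
theorem result {G : Type*} [Group G] [Finite G] (V : Subgroup G) (hV : Cfsg.IsElementaryAbelian 2 V) (hV1 : V ≠ ⊥) (hS : Cfsg.IsSidkiPair V) (h4 : Nat.card V ≤ 4) : V ⊓ Cfsg.pCore 2 G ≠ ⊥ := by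
  classical
  intro hbot
  have hsq : ∀ v ∈ V, v * v = 1 := fun v hv => by rw [← pow_two]; exact hV.2 v hv
  have hinv : ∀ v ∈ V, v⁻¹ = v := fun v hv => (eq_inv_of_mul_eq_one_left (hsq v hv)).symm
  have hcomm : ∀ v ∈ V, ∀ w ∈ V, v * w = w * v := fun v hv w hw =>
    congrArg Subtype.val (hV.1.is_comm.comm ⟨v, hv⟩ ⟨w, hw⟩)
  haveI : Fact (Nat.Prime 2) := ⟨Nat.prime_two⟩
  -- every nontrivial element inverts something, and another element centralises it
  have hex : ∀ v ∈ V, v ≠ 1 → ∃ h w : G, w ∈ V ∧ w ≠ 1 ∧ w ≠ v ∧ h ≠ 1 ∧ Odd (orderOf h) ∧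
      v * h * v⁻¹ = h⁻¹ ∧ w * h = h * w := by
    intro v hv hv1
    obtain ⟨-, h, hh1, hodd, hvh, -⟩ := Invol.exists_inverted_odd
      (orderOf_eq_prime (by rw [pow_two]; exact hsq v hv) hv1) fun N hN hNp hvN =>
        hv1 (Subgroup.mem_bot.mp (hbot ▸ ⟨hv, Core.le_pCore hNp hvN⟩))
    obtain ⟨w, hw, hw1, hwh⟩ := hS h v hv hodd hvh
    refine ⟨h, w, hw, hw1, ?_, hh1, hodd, hvh, hwh⟩
    rintro rfl
    rw [hwh, mul_inv_cancel_right] at hvh
    exact hh1 (eq_one_of_eq_inv hodd hvh)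
  obtain ⟨a, ha, ha1⟩ : ∃ a ∈ V, a ≠ 1 := by
    by_contra hcon
    exact hV1 ((Subgroup.eq_bot_iff_forall V).mpr fun x hx => by
      by_contra hx1
      exact hcon ⟨x, hx, hx1⟩)
  obtain ⟨h, b, hb, hb1, hba, hh1, hhodd, hah, hbh⟩ := hex a ha ha1
  obtain ⟨k, x, hx, hx1, hxb, hk1, hkodd, hbk, hxk⟩ := hex b hb hb1
  -- the four elements of `V`
  have habne : a * b ≠ 1 := fun e => hba (by
    rw [← hinv a ha]; exact eq_inv_of_mul_eq_one_right e)
  have hset : ∀ v ∈ V, v = 1 ∨ v = a ∨ v = b ∨ v = a * b := by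
    intro v hv
    by_contra hcon
    push Not at hcon
    obtain ⟨h1, h2, h3, h4'⟩ := hcon
    let s : Finset G := {v, 1, a, b, a * b}
    have hs : s.card = 5 := by
      have e1 : a * b ≠ a := fun e => hb1 (mul_eq_left.mp e)
      have e2 : a * b ≠ b := fun e => ha1 (mul_eq_right.mp e)
      simp [s, h1, h2, h3, h4', ha1.symm, hb1.symm, habne.symm, hba.symm, e1.symm, e2.symm]
    have hsV : (s : Set G) ⊆ (V : Set G) := by
      intro y hy
      simp [s] at hy
      rcases hy with rfl | rfl | rfl | rfl | rfl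
      · exact hv
      · exact one_mem V
      · exact ha
      · exact hb
      · exact mul_mem ha hb
    have := Set.ncard_le_ncard hsV (Set.toFinite _)
    rw [Set.ncard_coe_finset, hs, ← Nat.card_coe_set_eq] at this
    exact absurd (this.trans h4) (by decide)
  -- `x` inverts `h`, and `x`, `b` generate `V`
  have hxh : x * h * x⁻¹ = h⁻¹ := by
    rcases hset x hx with e | e | e | e
    · exact absurd e hx1
    · rw [e]; exact hah
    · exact absurd e hxb
    · rw [e, mul_inv_rev]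
      calc a * b * h * (b⁻¹ * a⁻¹) = a * (b * h) * b⁻¹ * a⁻¹ := by group
        _ = a * (h * b) * b⁻¹ * a⁻¹ := by rw [hbh]
        _ = a * h * a⁻¹ := by group
        _ = h⁻¹ := hah
  have hset' : ∀ v ∈ V, v ≠ 1 → v = x ∨ v = b ∨ v = x * b := by
    intro v hv hv1
    rcases hset x hx with e | e | e | e
    · exact absurd e hx1
    · rw [e]; exact (hset v hv).resolve_left hv1
    · exact absurd e hxb
    · have e2 : x * b = a := by rw [e, mul_assoc, hsq b hb, mul_one]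
      rw [e2, e]
      rcases (hset v hv).resolve_left hv1 with e' | e' | e'
      · exact Or.inr (Or.inr e')
      · exact Or.inr (Or.inl e')
      · exact Or.inl e'
  -- `k` commutes with `h`
  have hkh : Commute k h := by
    have hodd' : Odd (orderOf (k * h * k⁻¹)) := by
      rwa [show k * h * k⁻¹ = MulAut.conj k h from rfl, MulEquiv.orderOf_eq]
    have hxkinv : x * k⁻¹ * x⁻¹ = k⁻¹ := by
      calc x * k⁻¹ * x⁻¹ = (x * k * x⁻¹)⁻¹ := by group
        _ = k⁻¹ := by rw [hxk, mul_inv_cancel_right]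
    have hx' : x * (k * h * k⁻¹) * x⁻¹ = (k * h * k⁻¹)⁻¹ := by
      calc x * (k * h * k⁻¹) * x⁻¹ = (x * k * x⁻¹) * (x * h * x⁻¹) * (x * k⁻¹ * x⁻¹) := by group
        _ = k * h⁻¹ * k⁻¹ := by rw [hxk, mul_inv_cancel_right, hxh, hxkinv]
        _ = (k * h * k⁻¹)⁻¹ := by group
    have hbkinv : b * k⁻¹ * b⁻¹ = k := by
      calc b * k⁻¹ * b⁻¹ = (b * k * b⁻¹)⁻¹ := by group
        _ = k := by rw [hbk, inv_inv]
    have hb' : b * (k * h * k⁻¹) * b⁻¹ = k⁻¹ * h * k := by
      calc b * (k * h * k⁻¹) * b⁻¹ = (b * k * b⁻¹) * (b * h * b⁻¹) * (b * k⁻¹ * b⁻¹) := by group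
        _ = k⁻¹ * h * k := by rw [hbk, hbh, mul_inv_cancel_right, hbkinv]
    obtain ⟨w, hw, hw1, hwc⟩ := hS _ x hx hodd' hx'
    have hfix : w * (k * h * k⁻¹) * w⁻¹ = k * h * k⁻¹ := by rw [hwc, mul_inv_cancel_right]
    have h4k : Commute (k ^ 4) h := by
      have key : k ^ 2 * h * (k ^ 2)⁻¹ = h ∨ k ^ 2 * h * (k ^ 2)⁻¹ = h⁻¹ := by
        rcases hset' w hw hw1 with rfl | rfl | rfl
        · rw [hx'] at hfix
          exact absurd (eq_one_of_eq_inv hodd' hfix.symm)
            (fun e => hh1 (conj_eq_one_iff.mp e))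
        · rw [hb'] at hfix
          refine Or.inl ?_
          calc k ^ 2 * h * (k ^ 2)⁻¹ = k * (k * h * k⁻¹) * k⁻¹ := by simp [pow_two, mul_assoc]
            _ = k * (k⁻¹ * h * k) * k⁻¹ := by rw [← hfix]
            _ = h := by group
        · refine Or.inr ?_
          have h5 : x * (k⁻¹ * h * k) * x⁻¹ = k * h * k⁻¹ := by
            rw [← hb']
            exact Eq.trans (by group) hfix
          have h6 : k⁻¹ * h⁻¹ * k = k * h * k⁻¹ := by
            rw [← h5]
            calc k⁻¹ * h⁻¹ * k = (x * k⁻¹ * x⁻¹) * (x * h * x⁻¹) * (x * k * x⁻¹) := by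
                  rw [hxkinv, hxh, hxk, mul_inv_cancel_right]
              _ = x * (k⁻¹ * h * k) * x⁻¹ := by group
          calc k ^ 2 * h * (k ^ 2)⁻¹ = k * (k * h * k⁻¹) * k⁻¹ := by simp [pow_two, mul_assoc]
            _ = k * (k⁻¹ * h⁻¹ * k) * k⁻¹ := by rw [h6]
            _ = h⁻¹ := by group
      rcases key with e | e
      · have h2 : Commute (k ^ 2) h := mul_inv_eq_iff_eq_mul.mp e
        simpa [← pow_mul] using h2.pow_left 2
      · refine mul_inv_eq_iff_eq_mul.mp ?_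
        calc k ^ 4 * h * (k ^ 4)⁻¹ = k ^ 2 * (k ^ 2 * h * (k ^ 2)⁻¹) * (k ^ 2)⁻¹ := by group
          _ = k ^ 2 * h⁻¹ * (k ^ 2)⁻¹ := by rw [e]
          _ = (k ^ 2 * h * (k ^ 2)⁻¹)⁻¹ := by group
          _ = h := by rw [e, inv_inv]
    have hcop : Nat.Coprime 4 (orderOf k) := by
      rw [show (4 : ℕ) = 2 ^ 2 by norm_num]
      exact (Nat.coprime_two_left.mpr hkodd).pow_left 2
    obtain ⟨m, hm⟩ := exists_pow_eq_self_of_coprime hcop
    rw [← hm]
    exact h4k.pow_left m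
  -- the product
  have hodd : Odd (orderOf (h * k)) :=
    Odd.of_dvd_nat (hhodd.mul hkodd) (hkh.symm.orderOf_mul_dvd_mul_orderOf)
  have e1 : x * (h * k) * x⁻¹ = h⁻¹ * k := by
    calc x * (h * k) * x⁻¹ = (x * h * x⁻¹) * (x * k * x⁻¹) := by group
      _ = h⁻¹ * k := by rw [hxh, hxk, mul_inv_cancel_right]
  have e2 : b * (h * k) * b⁻¹ = h * k⁻¹ := by
    calc b * (h * k) * b⁻¹ = (b * h * b⁻¹) * (b * k * b⁻¹) := by group
      _ = h * k⁻¹ := by rw [hbk, hbh, mul_inv_cancel_right]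
  have e3 : x * b * (h * k) * (x * b)⁻¹ = (h * k)⁻¹ := by
    calc x * b * (h * k) * (x * b)⁻¹ = x * (b * (h * k) * b⁻¹) * x⁻¹ := by group
      _ = x * (h * k⁻¹) * x⁻¹ := by rw [e2]
      _ = (x * h * x⁻¹) * (x * k * x⁻¹)⁻¹ := by group
      _ = h⁻¹ * k⁻¹ := by rw [hxh, hxk, mul_inv_cancel_right]
      _ = (h * k)⁻¹ := by rw [mul_inv_rev]; exact (hkh.symm.inv_inv).eq
  obtain ⟨w, hw, hw1, hwc⟩ := hS _ _ (mul_mem hx hb) hodd e3
  have hfix : w * (h * k) * w⁻¹ = h * k := by rw [hwc, mul_inv_cancel_right]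
  rcases hset' w hw hw1 with rfl | rfl | rfl
  · rw [e1] at hfix
    exact hh1 (eq_one_of_eq_inv hhodd (mul_right_cancel hfix).symm)
  · rw [e2] at hfix
    exact hk1 (eq_one_of_eq_inv hkodd (mul_left_cancel hfix).symm)
  · rw [e3] at hfix
    have h1 : h * k = 1 := eq_one_of_eq_inv hodd hfix.symm
    rw [eq_inv_of_mul_eq_one_right h1] at hbk
    rw [inv_inv] at hbk
    have h2 : b * h⁻¹ * b⁻¹ = h⁻¹ := by
      calc b * h⁻¹ * b⁻¹ = (b * h * b⁻¹)⁻¹ := by group
        _ = h⁻¹ := by rw [hbh, mul_inv_cancel_right]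
    exact hh1 (eq_one_of_eq_inv hhodd (hbk.symm.trans h2))

end Cfsg.Agent.S3011
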