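import Cfsg.Statements.S3012
import Mathlib

set_option autoImplicit false
open Cfsg

namespace Cfsg.Agent.S3012

/-- Let G be a finite group, V a nontrivial elementary abelian 2-subgroup of G satisfying the Sidki pair condition (every odd-order element inverted by an element of V commutes with a nontrivial element of V), and K a normal subgroup of G with V ∩ K = 1. Then the image of V in G/K satisfies the Sidki pair condition in G/K. -/
theorem result {G : Type*} [Group G] [Finite G] (V K : Subgroup G) [K.Normal] (hV : Cfsg.IsElementaryAbelian 2 V) (hV1 : V ≠ ⊥) (hS : Cfsg.IsSidkiPair V) (hVK : V ⊓ K = ⊥) : Cfsg.IsSidkiPair (V.map (QuotientGroup.mk' K)) := by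
  intro hb vb hvb hodd hinv
  obtain ⟨v, hv, rfl⟩ := Subgroup.mem_map.1 hvb
  obtain ⟨h, rfl⟩ := QuotientGroup.mk_surjective hb
  have hv2 : v⁻¹ = v := by
    apply inv_eq_of_mul_eq_one_right
    rw [← sq]
    exact hV.2 v hv
  set c := h * v * h⁻¹ * v with hc
  have hcinv : v * c * v⁻¹ = c⁻¹ := by
    rw [hc]
    simp only [mul_inv_rev, inv_inv, hv2]
    simp only [mul_assoc, ← sq, hV.2 v hv, mul_one]
  have hci : (QuotientGroup.mk' K) c = (QuotientGroup.mk h : G ⧸ K) ^ 2 := by
    have h1 : (QuotientGroup.mk' K v) * (QuotientGroup.mk h : G ⧸ K)⁻¹ * (QuotientGroup.mk' K v)⁻¹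
        = (QuotientGroup.mk h : G ⧸ K) := by
      have := congrArg (·⁻¹) hinv
      simp only [mul_inv_rev, inv_inv] at this
      rw [← mul_assoc] at this
      exact this
    have h2 : (QuotientGroup.mk' K v) = (QuotientGroup.mk' K v)⁻¹ := by rw [← map_inv, hv2]
    rw [hc]
    simp only [map_mul, map_inv, QuotientGroup.mk'_apply] at h1 h2 ⊢
    rw [sq]
    conv_rhs => arg 2; rw [← h1]
    simp only [mul_assoc, ← h2]
  set a := (orderOf c).factorization 2 with ha
  have hco : Odd (orderOf (c ^ 2 ^ a)) := by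
    rw [orderOf_pow_of_dvd (by positivity) (Nat.ordProj_dvd _ _)]
    have := Nat.coprime_ordCompl Nat.prime_two (orderOf_pos c).ne'
    exact Nat.coprime_two_left.1 this
  have hcinv' : v * c ^ 2 ^ a * v⁻¹ = (c ^ 2 ^ a)⁻¹ := by
    rw [← conj_pow, hcinv, inv_pow]
  obtain ⟨w, hwV, hw1, hw⟩ := hS _ v hv hco hcinv'
  refine ⟨QuotientGroup.mk' K w, Subgroup.mem_map_of_mem _ hwV, fun h1 => hw1 ?_, ?_⟩
  · have : w ∈ V ⊓ K := Subgroup.mem_inf.2 ⟨hwV, (QuotientGroup.eq_one_iff w).1 h1⟩
    rwa [hVK, Subgroup.mem_bot] at this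
  · have hcomm : Commute (QuotientGroup.mk' K w) ((QuotientGroup.mk h : G ⧸ K) ^ (2 * 2 ^ a)) := by
      rw [pow_mul, ← hci, ← map_pow]
      exact (show Commute w (c ^ 2 ^ a) from hw).map _
    obtain ⟨m, hm⟩ := exists_pow_eq_self_of_coprime (x := (QuotientGroup.mk h : G ⧸ K))
      (n := 2 * 2 ^ a) (by
        have := Nat.coprime_two_left.2 hodd
        exact Nat.Coprime.mul_left this (this.pow_left a))
    have := hcomm.pow_right m
    rwa [hm] at this

end Cfsg.Agent.S3012
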