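import Cfsg.Statements.S3013
import Mathlib

set_option autoImplicit false
open Cfsg

namespace Cfsg.Agent.S3013

/-- Let G be a finite group and V a nontrivial elementary abelian 2-subgroup of G satisfying the Sidki pair condition. Let v ∈ V and let x be an element of odd order inverted by v, and put C = C_G(v) ∩ C_G(x), the centralizer of the dihedral subgroup generated by v and x. Then C ∩ V is nontrivial and satisfies the Sidki pair condition inside C: every odd-order element of C inverted by an element of C ∩ V commutes with a nontrivial element of C ∩ V. -/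
theorem result {G : Type*} [Group G] [Finite G] (V : Subgroup G) (hV : Cfsg.IsElementaryAbelian 2 V) (hV1 : V ≠ ⊥) (hS : Cfsg.IsSidkiPair V) (v x : G) (hv : v ∈ V) (hx : Odd (orderOf x)) (hinv : v * x * v⁻¹ = x⁻¹) (C : Subgroup G) (hC : C = Subgroup.centralizer ({v} : Set G) ⊓ Subgroup.centralizer ({x} : Set G)) : C ⊓ V ≠ ⊥ ∧ Cfsg.IsSidkiPair ((C ⊓ V).subgroupOf C) := by
  obtain ⟨w, hwV, hw1, hw⟩ := hS x v hv hx hinv
  have hcomm : ∀ a ∈ V, ∀ b ∈ V, a * b = b * a := fun a ha b hb =>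
    congrArg Subtype.val (hV.1.is_comm.comm (⟨a, ha⟩ : V) ⟨b, hb⟩)
  have hwC : ∀ w ∈ V, Commute w x → w ∈ C := fun w hwV hw => by
    rw [hC]
    exact Subgroup.mem_inf.2 ⟨Subgroup.mem_centralizer_singleton_iff.2 (hcomm w hwV v hv),
      Subgroup.mem_centralizer_singleton_iff.2 hw⟩
  refine ⟨fun hb => hw1 ?_, ?_⟩
  · have : w ∈ C ⊓ V := Subgroup.mem_inf.2 ⟨hwC w hwV hw, hwV⟩
    rwa [hb, Subgroup.mem_bot] at this
  rintro ⟨h, hhC⟩ ⟨u, huC⟩ hu hodd hiu
  rw [Subgroup.mem_subgroupOf] at hu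
  obtain ⟨-, huV⟩ := Subgroup.mem_inf.1 hu
  rw [Subgroup.orderOf_mk] at hodd
  replace hiu : u * h * u⁻¹ = h⁻¹ := congrArg Subtype.val hiu
  obtain ⟨hhv, hhx⟩ := Subgroup.mem_inf.1 (hC ▸ hhC)
  obtain ⟨huv, hux⟩ := Subgroup.mem_inf.1 (hC ▸ huC)
  replace hhv : h * v = v * h := Subgroup.mem_centralizer_singleton_iff.1 hhv
  replace hhx : Commute h x := Subgroup.mem_centralizer_singleton_iff.1 hhx
  replace hux : u * x = x * u := Subgroup.mem_centralizer_singleton_iff.1 hux
  have hvh : v * h * v⁻¹ = h := by rw [← hhv, mul_inv_cancel_right]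
  have hux' : u * x * u⁻¹ = x := by rw [hux, mul_inv_cancel_right]
  have hinvxh : (v * u) * (x * h) * (v * u)⁻¹ = (x * h)⁻¹ := by
    have : (v * u) * (x * h) * (v * u)⁻¹ = v * ((u * x * u⁻¹) * (u * h * u⁻¹)) * v⁻¹ := by group
    rw [this, hux', hiu, show v * (x * h⁻¹) * v⁻¹ = (v * x * v⁻¹) * (v * h * v⁻¹)⁻¹ by group,
      hinv, hvh, ← mul_inv_rev, hhx.eq]
  have hoddxh : Odd (orderOf (x * h)) :=
    Odd.of_dvd_nat (hx.mul hodd) (hhx.symm.orderOf_mul_dvd_lcm.trans (Nat.lcm_dvd_mul _ _))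
  obtain ⟨w', hw'V, hw'1, hw'⟩ := hS (x * h) (v * u) (mul_mem hv huV) hoddxh hinvxh
  have hw'' : Commute w' (x⁻¹ * h) := by
    have h1 := Commute.map (show Commute w' (x * h) from hw') (MulAut.conj v)
    simp only [MulAut.conj_apply] at h1
    rwa [show v * w' * v⁻¹ = w' by rw [hcomm v hv w' hw'V, mul_inv_cancel_right],
      show v * (x * h) * v⁻¹ = (v * x * v⁻¹) * (v * h * v⁻¹) by group, hinv, hvh] at h1
  have hh2 : Commute w' (h ^ 2) := by
    have h2 := (show Commute w' (x * h) from hw').mul_right hw''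
    have he : x * h * (x⁻¹ * h) = h ^ 2 := by
      have := hhx.inv_right.eq
      calc x * h * (x⁻¹ * h) = x * (h * x⁻¹) * h := by group
        _ = x * (x⁻¹ * h) * h := by rw [this]
        _ = h ^ 2 := by rw [sq]; group
    rwa [he] at h2
  have hwh : Commute w' h := by
    obtain ⟨m, hm⟩ := exists_pow_eq_self_of_coprime (x := h) (n := 2) (Nat.coprime_two_left.2 hodd)
    have := hh2.pow_right m
    rwa [hm] at this
  have hwx : Commute w' x := by
    have := (show Commute w' (x * h) from hw').mul_right hwh.inv_right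
    simpa using this
  refine ⟨⟨w', hwC w' hw'V hwx⟩, ?_, fun h1 => hw'1 (congrArg Subtype.val h1), Subtype.ext hwh.eq⟩
  rw [Subgroup.mem_subgroupOf]
  exact Subgroup.mem_inf.2 ⟨hwC w' hw'V hwx, hw'V⟩

end Cfsg.Agent.S3013
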