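import Cfsg.Statements.S3014
import Mathlib

set_option autoImplicit false
open Cfsg

namespace Cfsg.Agent.S3014

variable {G : Type*} [Group G] [Finite G]

open Subgroup in
theorem normal_in (H M : Subgroup G) (hHM : H ≤ M)
    (hcl : ∀ g : G, (H ⊔ H.map (MulAut.conj g).toMonoidHom) ⊓ M = H) {m : G} (hm : m ∈ M) {a : G}
    (ha : a ∈ H) : m * a * m⁻¹ ∈ H := by
  have h := (hcl m).le
  exact h (mem_inf.2 ⟨mem_sup_right ⟨a, ha, rfl⟩, M.mul_mem (M.mul_mem hm (hHM ha)) (M.inv_mem hm)⟩)

open Subgroup in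
/-- The transfer part. -/
theorem transfer_kernel (H M : Subgroup G) (hHM : H ≤ M)
    (hcl : ∀ g : G, (H ⊔ H.map (MulAut.conj g).toMonoidHom) ⊓ M = H)
    (hmaxH : IsCoatom (H.subgroupOf M))
    (hA : ∀ g : G, g ∉ M → ∀ m ∈ M, m ∉ H → g⁻¹ * m * g ∉ M) :
    ∃ K : Subgroup G, K.Normal ∧ H ≤ K ∧ commutator G ≤ K ∧ K ⊓ M ≤ H := by
  classical
  set N := H.subgroupOf M with hN
  have hNn : N.Normal := ⟨fun a ha b => normal_in H M hHM hcl b.2 ha⟩
  have : Nontrivial (M ⧸ N) := QuotientGroup.nontrivial_iff.2 hmaxH.1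
  have hgen : ∀ x : M ⧸ N, x ≠ 1 → zpowers x = ⊤ := by
    intro x hx
    have hle : N ≤ (zpowers x).comap (QuotientGroup.mk' N) := fun a ha => by
      rw [mem_comap, QuotientGroup.mk'_apply, (QuotientGroup.eq_one_iff a).2 ha]
      exact one_mem _
    rcases eq_or_lt_of_le hle with e | l
    · exfalso
      obtain ⟨b, rfl⟩ := QuotientGroup.mk'_surjective N x
      apply hx
      rw [QuotientGroup.mk'_apply, QuotientGroup.eq_one_iff]
      rw [e]
      exact mem_zpowers _
    · have := congrArg (Subgroup.map (QuotientGroup.mk' N)) (hmaxH.2 _ l)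
      rwa [map_comap_eq_self_of_surjective (QuotientGroup.mk'_surjective N),
        map_top_of_surjective _ (QuotientGroup.mk'_surjective N)] at this
  obtain ⟨q, hq, hqd⟩ := Nat.exists_prime_and_dvd (n := Nat.card (M ⧸ N))
    (Finite.one_lt_card (α := M ⧸ N)).ne'
  have := Fact.mk hq
  obtain ⟨x₀, hx₀⟩ := exists_prime_orderOf_dvd_card' q hqd
  have hx₀top := hgen x₀ (fun h => by rw [h, orderOf_one] at hx₀; exact hq.one_lt.ne hx₀)
  have hcard : Nat.card (M ⧸ N) = q := by
    rw [← hx₀, ← Nat.card_zpowers, hx₀top, card_top]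
  have hcomm : ∀ a b : M ⧸ N, a * b = b * a := by
    intro a b
    obtain ⟨i, rfl⟩ := mem_zpowers_iff.1 (hx₀top ▸ mem_top a : a ∈ zpowers x₀)
    obtain ⟨j, rfl⟩ := mem_zpowers_iff.1 (hx₀top ▸ mem_top b : b ∈ zpowers x₀)
    exact (Commute.zpow_zpow_self x₀ i j).eq
  let : CommGroup (M ⧸ N) := { (inferInstance : Group (M ⧸ N)) with mul_comm := hcomm }
  set φ : M →* M ⧸ N := QuotientGroup.mk' N with hφ
  set V := MonoidHom.transfer φ with hV
  have hfac : ∀ (a : G) (g : G), a ∈ H → ∀ (h : g⁻¹ * a * g ∈ M), φ ⟨g⁻¹ * a * g, h⟩ = 1 := by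
    intro a g ha h
    rw [hφ, QuotientGroup.mk'_apply, QuotientGroup.eq_one_iff, hN, mem_subgroupOf]
    refine (hcl g⁻¹).le (mem_inf.2 ⟨mem_sup_right ⟨a, ha, ?_⟩, h⟩)
    simp
  let : Fintype (Quotient (MulAction.orbitRel (zpowers (1 : G)) (G ⧸ M))) := Fintype.ofFinite _
  have hHker : H ≤ V.ker := by
    intro a ha
    let : Fintype (Quotient (MulAction.orbitRel (zpowers a) (G ⧸ M))) := Fintype.ofFinite _
    rw [MonoidHom.mem_ker, hV, MonoidHom.transfer_eq_prod_quotient_orbitRel_zpowers_quot]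
    exact Finset.prod_eq_one fun o _ => hfac _ _ (pow_mem ha _) _
  refine ⟨V.ker, inferInstance, hHker, Abelianization.commutator_subset_ker V, ?_⟩
  rintro x ⟨hxV, hxM⟩
  by_contra hxH
  -- the q-part of `x`
  obtain ⟨e, c, hc, hord⟩ := Nat.exists_eq_pow_mul_and_not_dvd (orderOf_pos x).ne' q hq.ne_one
  have hxq : ∀ y ∈ M, y ^ q ∈ H := by
    intro y hy
    have : (QuotientGroup.mk' N ⟨y, hy⟩) ^ q = 1 := by rw [← hcard]; exact pow_card_eq_one'
    rw [← map_pow, QuotientGroup.mk'_apply, QuotientGroup.eq_one_iff, hN, mem_subgroupOf] at this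
    exact this
  set y := x ^ c with hy
  have hyM : y ∈ M := pow_mem hxM c
  have hyH : y ∉ H := by
    intro h
    apply hxH
    have hcop : Nat.Coprime c q := (hq.coprime_iff_not_dvd.2 hc).symm
    have e1 : (1 : ℤ) = c * Nat.gcdA c q + q * Nat.gcdB c q := by
      rw [← Nat.gcd_eq_gcd_ab, hcop, Nat.cast_one]
    have : x = (x ^ c) ^ Nat.gcdA c q * (x ^ q) ^ Nat.gcdB c q := by
      rw [← zpow_natCast, ← zpow_natCast, ← zpow_mul, ← zpow_mul, ← zpow_add, ← e1, zpow_one]
    rw [this]
    exact mul_mem (zpow_mem h _) (zpow_mem (hxq x hxM) _)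
  have hyV : V y = 1 := by rw [hy, map_pow, MonoidHom.mem_ker.1 hxV, one_pow]
  have hyord : y ^ (q ^ e) = 1 := by rw [hy, ← pow_mul, mul_comm, ← hord, pow_orderOf_eq_one]
  let : Fintype (Quotient (MulAction.orbitRel (zpowers y) (G ⧸ M))) := Fintype.ofFinite _
  have hfix : y • ((1 : G) : G ⧸ M) = ((1 : G) : G ⧸ M) := by
    change ((y * 1 : G) : G ⧸ M) = _
    rw [QuotientGroup.eq, mul_one, mul_one]
    exact inv_mem hyM
  set o₀ : Quotient (MulAction.orbitRel (zpowers y) (G ⧸ M)) := Quotient.mk'' ((1 : G) : G ⧸ M) with ho₀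
  have hout : o₀.out = ((1 : G) : G ⧸ M) := by
    have h := Quotient.mk_out (s := MulAction.orbitRel (zpowers y) (G ⧸ M)) ((1 : G) : G ⧸ M)
    obtain ⟨⟨_, k, rfl⟩, hk⟩ := h
    have hst : y ∈ MulAction.stabilizer G ((1 : G) : G ⧸ M) := hfix
    exact hk.symm.trans (MulAction.mem_stabilizer_iff.1 (zpow_mem hst k))
  have hper : Function.minimalPeriod (y • ·) o₀.out = 1 :=
    Function.minimalPeriod_eq_one_iff_isFixedPt.2 (by rw [hout]; exact hfix)
  have hval : V y = φ ⟨y, hyM⟩ := by
    rw [hV, MonoidHom.transfer_eq_prod_quotient_orbitRel_zpowers_quot, Fintype.prod_eq_single o₀]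
    · set g := Quotient.out o₀.out with hg
      have hgM : g ∈ M := by
        have e : ((g : G) : G ⧸ M) = ((1 : G) : G ⧸ M) := (QuotientGroup.out_eq' o₀.out).trans hout
        rw [QuotientGroup.eq, mul_one] at e
        exact inv_mem_iff.1 e
      have hsub : ∀ (n : ℕ) (h : g⁻¹ * y ^ n * g ∈ M), n = 1 →
          φ ⟨g⁻¹ * y ^ n * g, h⟩ = φ ⟨y, hyM⟩ := by
        rintro n h rfl
        have e2 : (⟨g⁻¹ * y ^ 1 * g, h⟩ : M) = ⟨g, hgM⟩⁻¹ * ⟨y, hyM⟩ * ⟨g, hgM⟩ :=
          Subtype.ext (by simp)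
        rw [e2, map_mul, map_mul, map_inv, mul_comm, mul_inv_cancel_left]
      exact hsub _ _ hper
    · intro o ho
      obtain ⟨k, -, hk⟩ := (Nat.dvd_prime_pow hq).1
        (show Function.minimalPeriod (y • ·) o.out ∣ q ^ e from by
          apply Function.IsPeriodicPt.minimalPeriod_dvd
          simp [Function.IsPeriodicPt, Function.IsFixedPt, smul_iterate, hyord])
      rcases Nat.eq_zero_or_pos k with rfl | hk0
      · exfalso
        apply ho
        have hmem := QuotientGroup.out_conj_pow_minimalPeriod_mem M y o.out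
        rw [hk, pow_zero, pow_one] at hmem
        by_cases hg : Quotient.out o.out ∈ M
        · have : o.out = ((1 : G) : G ⧸ M) := by
            rw [← QuotientGroup.out_eq' o.out, QuotientGroup.eq, mul_one]
            exact inv_mem hg
          rw [ho₀, ← this]
          exact (Quotient.out_eq' o).symm
        · exact absurd hmem (hA _ hg y hyM hyH)
      · refine hfac _ _ ?_ _
        rw [hk, show k = (k - 1) + 1 by omega, pow_succ, pow_mul]
        exact hxq _ (pow_mem hyM _)
  apply hyH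
  rw [hval, hφ, QuotientGroup.mk'_apply, QuotientGroup.eq_one_iff, hN, mem_subgroupOf] at hyV
  exact hyV

open Subgroup in
/-- Either some `⟨H, H^g⟩` is normal, or the transfer into `M ⧸ H` is nontrivial on `M` and kills `H`. -/
theorem dichotomy (H M : Subgroup G) (hHM : H ≤ M)
    (hcl : ∀ g : G, (H ⊔ H.map (MulAut.conj g).toMonoidHom) ⊓ M = H)
    (hmaxH : IsCoatom (H.subgroupOf M)) (hmaxM : IsCoatom M) :
    (∃ g : G, g ∉ M ∧ (H ⊔ H.map (MulAut.conj g).toMonoidHom).Normal) ∨ H.Normal ∨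
    ∃ K : Subgroup G, K.Normal ∧ H ≤ K ∧ commutator G ≤ K ∧ K ⊓ M ≤ H := by
  by_cases hH : H.Normal
  · exact Or.inr (Or.inl hH)
  by_cases hA : ∃ g : G, g ∉ M ∧ ∃ m ∈ M, m ∉ H ∧ g⁻¹ * m * g ∈ M
  · obtain ⟨g, hg, m, hm, hmH, hgm⟩ := hA
    refine Or.inl ⟨g, hg, ?_⟩
    set T := H ⊔ H.map (MulAut.conj g).toMonoidHom with hT
    have hmN : m ∈ normalizer (T : Set G) := by
      have key : ∀ n : G, n ∈ M → g⁻¹ * n * g ∈ M → ∀ a ∈ T, n * a * n⁻¹ ∈ T := by
        intro n hn hn'
        suffices T ≤ T.comap (MulAut.conj n).toMonoidHom from fun a ha => this ha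
        refine sup_le ?_ ?_
        · intro a ha
          exact mem_sup_left (normal_in H M hHM hcl hn ha)
        · rintro _ ⟨a, ha, rfl⟩
          refine mem_sup_right ⟨g⁻¹ * n * g * a * (g⁻¹ * n * g)⁻¹, normal_in H M hHM hcl hn' ha, ?_⟩
          simp [mul_assoc]
      rw [mem_normalizer_iff]
      refine fun a => ⟨key m hm hgm a, fun h => ?_⟩
      have := key m⁻¹ (inv_mem hm) (by simpa [mul_assoc] using inv_mem hgm) _ h
      simpa [mul_assoc] using this
    have hMN : M ≤ normalizer (T : Set G) := by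
      have h1 : H ≤ normalizer (T : Set G) := le_trans le_sup_left le_normalizer
      have h2 : (H ⊔ zpowers m).subgroupOf M = ⊤ := hmaxH.2 _ (by
        refine lt_of_le_of_ne (fun a ha => mem_subgroupOf.2 (mem_sup_left ha)) fun e => ?_
        have : (⟨m, hm⟩ : M) ∈ H.subgroupOf M := by
          rw [e]; exact mem_subgroupOf.2 (mem_sup_right (mem_zpowers m))
        exact hmH (mem_subgroupOf.1 this))
      rw [subgroupOf_eq_top] at h2
      exact h2.trans (sup_le h1 (zpowers_le.2 hmN))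
    rcases eq_or_lt_of_le hMN with hEq | hLt
    · exfalso
      have hgH : H.map (MulAut.conj g).toMonoidHom ≤ H := by
        refine le_trans ?_ (hcl g).le
        refine le_inf le_sup_right ?_
        rw [hEq]
        exact le_trans le_sup_right le_normalizer
      have hgN : g ∈ normalizer (H : Set G) := by
        rw [mem_normalizer_iff]
        intro a
        refine ⟨fun ha => hgH ⟨a, ha, rfl⟩, fun ha => ?_⟩
        have e : H.map (MulAut.conj g).toMonoidHom = H :=
          eq_of_le_of_card_ge hgH (le_of_eq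
            (Nat.card_congr (H.equivMapOfInjective _ (MulAut.conj g).injective).toEquiv))
        rw [← e] at ha
        obtain ⟨b, hb, hbe⟩ := ha
        have : b = a := (MulAut.conj g).injective hbe
        exact this ▸ hb
      have hMH : M ≤ normalizer (H : Set G) := by
        intro x hx
        rw [mem_normalizer_iff]
        refine fun a => ⟨fun ha => normal_in H M hHM hcl hx ha, fun ha => ?_⟩
        have := normal_in H M hHM hcl (inv_mem hx) ha
        simpa [mul_assoc] using this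
      rcases eq_or_lt_of_le hMH with e | l
      · exact hg (e ▸ hgN)
      · exact hH (normalizer_eq_top_iff.1 (hmaxM.2 _ l))
    · exact normalizer_eq_top_iff.1 (hmaxM.2 _ hLt)
  · push Not at hA
    exact Or.inr (Or.inr (transfer_kernel H M hHM hcl hmaxH hA))

open Subgroup in
theorem inf_eq (H M : Subgroup G) (hHM : H ≤ M)
    (hcl : ∀ g : G, (H ⊔ H.map (MulAut.conj g).toMonoidHom) ⊓ M = H)
    (hmaxH : IsCoatom (H.subgroupOf M)) (hmaxM : IsCoatom M) :
    normalClosure (H : Set G) ⊓ M = H := by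
  refine le_antisymm ?_ (le_inf subset_normalClosure hHM)
  rcases dichotomy H M hHM hcl hmaxH hmaxM with ⟨g, -, hT⟩ | hH | ⟨K, hK, hHK, -, hKM⟩
  · exact (inf_le_inf_right M (normalClosure_le_normal (le_sup_left :
      H ≤ H ⊔ H.map (MulAut.conj g).toMonoidHom))).trans (hcl g).le
  · rw [normalClosure_eq_self]
    exact inf_le_left
  · exact (inf_le_inf_right M (normalClosure_le_normal hHK)).trans hKM

/-- Let G be a finite group and H ≤ M ≤ G subgroups such that for every g ∈ G the subgroup generated by H and g H g⁻¹ meets M exactly in H. If H is a maximal subgroup of M and M is a maximal subgroup of G, then the normal closure of H in G meets M exactly in H. -/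
theorem result {G : Type*} [Group G] [Finite G] (H M : Subgroup G) (hHM : H ≤ M) (hcl : ∀ g : G, (H ⊔ H.map (MulAut.conj g).toMonoidHom) ⊓ M = H) (hmaxH : IsCoatom (H.subgroupOf M)) (hmaxM : IsCoatom M) : Subgroup.normalClosure (H : Set G) ⊓ M = H := by
  exact inf_eq H M hHM hcl hmaxH hmaxM

end Cfsg.Agent.S3014
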