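import Cfsg.Statements.S3015
import Cfsg.Agent.S3014

set_option autoImplicit false
open Cfsg

namespace Cfsg.Agent.S3015

/-- Let G be a finite non-abelian simple group, M a maximal subgroup of G and H a normal subgroup of M of prime index in M. Then G is generated by H together with one of its conjugates. -/
theorem result {G : Type*} [Group G] [Finite G] [IsSimpleGroup G] (hG : ¬ IsMulCommutative G) (M H : Subgroup G) (hmaxM : IsCoatom M) (hHM : H ≤ M) (hHn : (H.subgroupOf M).Normal) (hidx : (H.relIndex M).Prime) : ∃ g : G, H ⊔ H.map (MulAut.conj g).toMonoidHom = ⊤ := by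
  classical
  by_contra hne
  push Not at hne
  set q := H.relIndex M with hq
  have := Fact.mk hidx
  have hMG : M ≠ ⊤ := hmaxM.1
  have hHnM : ∀ m ∈ M, ∀ a ∈ H, m * a * m⁻¹ ∈ H := fun m hm a ha => by
    have := hHn.conj_mem ⟨a, hHM ha⟩ (Subgroup.mem_subgroupOf.2 ha) ⟨m, hm⟩
    exact Subgroup.mem_subgroupOf.1 this
  have hnor : ∀ N : Subgroup G, N.Normal → N = ⊥ ∨ N = ⊤ := fun N hN =>
    IsSimpleGroup.eq_bot_or_eq_top_of_normal N hN
  have hMbot : M ≠ ⊥ := by
    rintro rfl
    rw [Subgroup.relIndex_bot_right] at hq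
    exact hidx.ne_one hq
  have hself : ∀ g : G, (∀ a ∈ M, g * a * g⁻¹ ∈ M) → g ∈ M := by
    intro g hg
    by_contra hgM
    have hgN : g ∈ Subgroup.normalizer (M : Set G) :=
      Subgroup.mem_normalizer_fintype hg
    have : Subgroup.normalizer (M : Set G) = ⊤ := hmaxM.2 _
      (lt_of_le_of_ne Subgroup.le_normalizer fun e => hgM (e ▸ hgN))
    rcases hnor M (Subgroup.normalizer_eq_top_iff.1 this) with h | h
    exacts [hMbot h, hMG h]
  have hmaxH : IsCoatom (H.subgroupOf M) := by
    refine ⟨fun h => hidx.ne_one (by rw [hq, Subgroup.relIndex, h, Subgroup.index_top]), ?_⟩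
    intro K hK
    have hd := Subgroup.relIndex_mul_index hK.le
    have hdd : K.index ∣ q := ⟨(H.subgroupOf M).relIndex K, by rw [mul_comm, hd]; rfl⟩
    rcases (Nat.dvd_prime hidx).1 hdd with h | h
    · exact Subgroup.index_eq_one.1 h
    · exfalso
      have : (H.subgroupOf M).relIndex K = 1 := by
        rw [h] at hd
        exact Nat.eq_of_mul_eq_mul_right hidx.pos (hd.trans (one_mul q).symm)
      exact hK.not_ge (Subgroup.relIndex_eq_one.1 this)
  have hH1 : H ≠ ⊥ := by
    rintro rfl
    obtain ⟨K, hK, -, hcomm, hKM⟩ := Cfsg.Agent.S3014.transfer_kernel (⊥ : Subgroup G) M bot_le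
      (fun g => by simp) hmaxH (by
        intro g hgM m hm hmH hgm
        have hprime : (Nat.card M).Prime := by
          have : (⊥ : Subgroup G).relIndex M = Nat.card M := Subgroup.relIndex_bot_left M
          rwa [← this]
        have hzp : Subgroup.zpowers m = M := by
          refine Subgroup.eq_of_le_of_card_ge (Subgroup.zpowers_le.2 hm) ?_
          rw [Nat.card_zpowers]
          have hd : orderOf m ∣ Nat.card M := by
            simpa using orderOf_dvd_natCard (⟨m, hm⟩ : M)
          rcases (Nat.dvd_prime hprime).1 hd with h | h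
          · exact absurd (Subgroup.mem_bot.2 (orderOf_eq_one_iff.1 h)) hmH
          · exact h.ge
        apply hgM
        have hg' := hself g⁻¹ fun a ha => by
          rw [← hzp] at ha
          obtain ⟨k, rfl⟩ := ha
          simp only
          rw [← conj_zpow, inv_inv]
          exact zpow_mem hgm k
        rwa [inv_mem_iff] at hg')
    rcases hnor K hK with h | h
    · have hc : commutator G = ⊥ := le_bot_iff.1 (h ▸ hcomm)
      refine hG ⟨⟨fun a b => ?_⟩⟩
      rw [commutator_def, Subgroup.commutator_eq_bot_iff_le_centralizer] at hc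
      exact (Subgroup.mem_centralizer_iff.1 (hc (Subgroup.mem_top a)) b (Subgroup.mem_top b)).symm
    · rw [h, top_inf_eq] at hKM
      exact hMbot (le_bot_iff.1 hKM)
  -- a conjugate of `H` inside `M` comes from an element of `M`
  have hbad : ∀ g : G, H.map (MulAut.conj g).toMonoidHom ≤ M → g ∈ M := by
    intro g hg
    by_contra hgM
    set X := M.map (MulAut.conj g⁻¹).toMonoidHom with hX
    have hHX : H ≤ X := by
      intro a ha
      exact ⟨g * a * g⁻¹, hg ⟨a, ha, rfl⟩, by simp [mul_assoc]⟩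
    have hcardX : Nat.card X = Nat.card M :=
      (Nat.card_congr (M.equivMapOfInjective _ (MulAut.conj g⁻¹).injective).toEquiv).symm
    have hidxX : H.relIndex X = q := by
      have e1 := Subgroup.card_mul_index (H.subgroupOf X)
      have e2 := Subgroup.card_mul_index (H.subgroupOf M)
      rw [Nat.card_congr (Subgroup.subgroupOfEquivOfLe hHX).toEquiv, hcardX] at e1
      rw [Nat.card_congr (Subgroup.subgroupOfEquivOfLe hHM).toEquiv] at e2
      exact Nat.eq_of_mul_eq_mul_left Nat.card_pos (e1.trans e2.symm)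
    -- `q`-elements of `H` stay in `H` under `X`
    have hqX : ∀ x ∈ X, ∀ a ∈ H, (∃ k, a ^ q ^ k = 1) → x * a * x⁻¹ ∈ H := by
      intro x hx a ha hk
      obtain ⟨k, hk⟩ := hk
      set a' : X := ⟨a, hHX ha⟩
      have hp : IsPGroup q (Subgroup.zpowers a') := by
        obtain ⟨j, -, hj⟩ := (Nat.dvd_prime_pow hidx).1
          (orderOf_dvd_of_pow_eq_one (show a' ^ q ^ k = 1 from Subtype.ext (by simp [a', hk])))
        exact IsPGroup.of_card (by rw [Nat.card_zpowers, hj])
      let HX := H.subgroupOf X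
      have hcardQ : Nat.card (X ⧸ HX) = q := hidxX
      have hmod := hp.card_modEq_card_fixedPoints (α := X ⧸ HX)
      rw [hcardQ] at hmod
      have hfix : ((1 : X) : X ⧸ HX) ∈ MulAction.fixedPoints (Subgroup.zpowers a') (X ⧸ HX) := by
        rintro ⟨_, n, rfl⟩
        change ((a' ^ n * 1 : X) : X ⧸ HX) = _
        rw [QuotientGroup.eq, mul_one, mul_one, Subgroup.mem_subgroupOf]
        simpa [a'] using inv_mem (zpow_mem ha n)
      have : Nonempty (MulAction.fixedPoints (Subgroup.zpowers a') (X ⧸ HX)) := ⟨⟨_, hfix⟩⟩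
      have hpos : 0 < Nat.card (MulAction.fixedPoints (Subgroup.zpowers a') (X ⧸ HX)) := Nat.card_pos
      have hdvd : q ∣ Nat.card (MulAction.fixedPoints (Subgroup.zpowers a') (X ⧸ HX)) :=
        Nat.modEq_zero_iff_dvd.1 (hmod.symm.trans (Nat.modEq_zero_iff_dvd.2 dvd_rfl))
      have hall : MulAction.fixedPoints (Subgroup.zpowers a') (X ⧸ HX) = Set.univ := by
        refine Set.eq_of_subset_of_ncard_le (Set.subset_univ _) ?_ (Set.toFinite _)
        rw [Set.ncard_univ, hcardQ, ← Nat.card_coe_set_eq]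
        exact Nat.le_of_dvd hpos hdvd
      have hxf : ((⟨x, hx⟩⁻¹ : X) : X ⧸ HX) ∈ MulAction.fixedPoints (Subgroup.zpowers a') (X ⧸ HX) := by
        rw [hall]; trivial
      have h1 := hxf ⟨a', Subgroup.mem_zpowers a'⟩
      change ((a' * (⟨x, hx⟩ : X)⁻¹ : X) : X ⧸ HX) = _ at h1
      rw [QuotientGroup.eq, Subgroup.mem_subgroupOf] at h1
      have h2 : x * a⁻¹ * x⁻¹ ∈ H := by simpa [a'] using h1
      simpa [mul_assoc] using inv_mem h2
    let R := Subgroup.closure {a | a ∈ H ∧ ∃ k, a ^ q ^ k = 1}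
    have hRH : R ≤ H := (Subgroup.closure_le _).2 fun a ha => ha.1
    have hRstab : ∀ x : G, (∀ a ∈ H, (∃ k, a ^ q ^ k = 1) → x * a * x⁻¹ ∈ H) →
        ∀ a ∈ R, x * a * x⁻¹ ∈ R := by
      intro x hx
      suffices R ≤ R.comap (MulAut.conj x).toMonoidHom from fun a ha => this ha
      refine (Subgroup.closure_le _).2 ?_
      rintro a ⟨ha, k, hk⟩
      refine Subgroup.subset_closure ⟨hx a ha ⟨k, hk⟩, k, ?_⟩
      show ((MulAut.conj x) a) ^ q ^ k = 1
      rw [← map_pow, hk, map_one]
    have hXM : M ⊔ X = ⊤ := by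
      refine hmaxM.2 _ (lt_of_le_of_ne le_sup_left fun e => hgM ?_)
      have hXle : X ≤ M := e ▸ le_sup_right
      have := inv_mem (hself g⁻¹ fun a ha => hXle ⟨a, ha, rfl⟩)
      rwa [inv_inv] at this
    have hRn : R.Normal := by
      refine ⟨fun a ha x => ?_⟩
      have hxtop : x ∈ M ⊔ X := hXM ▸ Subgroup.mem_top x
      have : M ⊔ X ≤ Subgroup.normalizer (R : Set G) := by
        refine sup_le (fun m hm => Subgroup.mem_normalizer_fintype ?_)
          fun m hm => Subgroup.mem_normalizer_fintype ?_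
        · exact hRstab m fun a ha _ => hHnM m hm a ha
        · exact hRstab m fun a ha hk => hqX m hm a ha hk
      exact (Subgroup.mem_normalizer_iff.1 (this hxtop) a).1 ha
    have hRbot : R = ⊥ := (hnor R hRn).resolve_right fun h => hMG (top_le_iff.1 (h ▸ hRH.trans hHM))
    have hqH : ¬ q ∣ Nat.card H := by
      intro h
      obtain ⟨a, ha⟩ := exists_prime_orderOf_dvd_card' q h
      have haR : (a : G) ∈ R := Subgroup.subset_closure ⟨a.2, 1, by
        rw [pow_one, ← ha, Subgroup.orderOf_coe a |>.symm]; exact pow_orderOf_eq_one _⟩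
      rw [hRbot, Subgroup.mem_bot] at haR
      rw [← Subgroup.orderOf_coe, haR, orderOf_one] at ha
      exact hidx.one_lt.ne ha
    have hle : H.map (MulAut.conj g).toMonoidHom ≤ H := by
      rintro _ ⟨a, ha, rfl⟩
      have hbM : g * a * g⁻¹ ∈ M := hg ⟨a, ha, rfl⟩
      set N := H.subgroupOf M
      have hb1 : (QuotientGroup.mk' N ⟨g * a * g⁻¹, hbM⟩) ^ Nat.card H = 1 := by
        rw [← map_pow]
        have hh : (⟨g * a * g⁻¹, hbM⟩ : M) ^ Nat.card H = 1 := by
          apply Subtype.ext
          show (MulAut.conj g a) ^ Nat.card H = 1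
          have e : a ^ Nat.card H = 1 := by
            exact congrArg Subtype.val (pow_card_eq_one' (G := H) (x := ⟨a, ha⟩))
          rw [← map_pow, e, map_one]
        rw [hh, map_one]
      have hb2 : (QuotientGroup.mk' N ⟨g * a * g⁻¹, hbM⟩) ^ q = 1 := by
        have : Nat.card (↥M ⧸ N) = q := rfl
        rw [← this]; exact pow_card_eq_one'
      have := pow_gcd_eq_one.2 ⟨hb1, hb2⟩
      rw [(hidx.coprime_iff_not_dvd.2 hqH).symm, pow_one, QuotientGroup.mk'_apply,
        QuotientGroup.eq_one_iff, Subgroup.mem_subgroupOf] at this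
      exact this
    have hgN : g ∈ Subgroup.normalizer (H : Set G) :=
      Subgroup.mem_normalizer_fintype fun a ha => hle ⟨a, ha, rfl⟩
    have hMN : M ≤ Subgroup.normalizer (H : Set G) := fun m hm =>
      Subgroup.mem_normalizer_fintype fun a ha => hHnM m hm a ha
    rcases eq_or_lt_of_le hMN with e | l
    · exact hgM (e ▸ hgN)
    · rcases hnor H (Subgroup.normalizer_eq_top_iff.1 (hmaxM.2 _ l)) with h | h
      · exact hH1 h
      · exact hMG (top_le_iff.1 (h ▸ hHM))
  have hcl : ∀ g : G, (H ⊔ H.map (MulAut.conj g).toMonoidHom) ⊓ M = H := by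
    intro g
    refine le_antisymm ?_ (le_inf le_sup_left hHM)
    have hle : H.subgroupOf M ≤ ((H ⊔ H.map (MulAut.conj g).toMonoidHom) ⊓ M).subgroupOf M :=
      fun a ha => Subgroup.mem_subgroupOf.2 (Subgroup.mem_inf.2 ⟨Subgroup.mem_sup_left ha, a.2⟩)
    rcases eq_or_lt_of_le hle with h | h
    · intro a ha
      have h' : (⟨a, (Subgroup.mem_inf.1 ha).2⟩ : M) ∈ H.subgroupOf M := by
        rw [h]; exact Subgroup.mem_subgroupOf.2 ha
      exact Subgroup.mem_subgroupOf.1 h'
    · exfalso
      have htop := hmaxH.2 _ h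
      rw [Subgroup.subgroupOf_eq_top] at htop
      have hMT : M ≤ H ⊔ H.map (MulAut.conj g).toMonoidHom := htop.trans inf_le_left
      rcases eq_or_lt_of_le hMT with hT | hT
      · have hgM : g ∈ M := hbad g (le_trans le_sup_right hT.ge)
        have : H ⊔ H.map (MulAut.conj g).toMonoidHom ≤ H := by
          refine sup_le le_rfl ?_
          rintro _ ⟨a, ha, rfl⟩
          exact hHnM g hgM a ha
        exact hmaxH.1 (Subgroup.subgroupOf_eq_top.2 (hMT.trans this))
      · exact hne g (hmaxM.2 _ hT)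
  have h1 := Cfsg.Agent.S3014.inf_eq H M hHM hcl hmaxH hmaxM
  rcases hnor _ (Subgroup.normalClosure_normal (s := (H : Set G))) with h | h
  · exact hH1 (le_bot_iff.1 (h ▸ Subgroup.subset_normalClosure))
  · rw [h, top_inf_eq] at h1
    exact hmaxH.1 (Subgroup.subgroupOf_eq_top.2 h1.le)

end Cfsg.Agent.S3015
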