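import Cfsg.Statements.S3020
import Mathlib
import Cfsg.Agent.Core.PCore

set_option autoImplicit false
open Cfsg

namespace Cfsg.Agent.S3020

theorem isSylow_of_normalizer_le {T : Type*} [Group T] [Finite T] {p : ℕ} [Fact p.Prime]
    {H : Subgroup T} (hHp : IsPGroup p H) (hN : Subgroup.normalizer (H : Set T) ≤ H) :
    ∃ P : Sylow p T, (P : Subgroup T) = H := by
  obtain ⟨P, hP⟩ := hHp.exists_le_sylow
  refine ⟨P, le_antisymm ?_ hP⟩
  by_contra hne
  have : Group.IsNilpotent (P : Subgroup T) := P.2.isNilpotent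
  have hlt : H.subgroupOf (P : Subgroup T) < ⊤ :=
    lt_top_iff_ne_top.2 fun h => hne (Subgroup.subgroupOf_eq_top.1 h)
  obtain ⟨t, ht, htH⟩ :=
    SetLike.exists_of_lt (Group.normalizerCondition_of_isNilpotent (H.subgroupOf (P : Subgroup T)) hlt)
  refine htH (Subgroup.mem_subgroupOf.2 (hN ?_))
  rw [Subgroup.mem_normalizer_iff] at ht ⊢
  intro x
  constructor
  · intro hx
    exact (ht ⟨x, hP hx⟩).1 hx
  · intro hx
    have hxP : x ∈ (P : Subgroup T) := by
      have := mul_mem (mul_mem (inv_mem t.2) (hP hx)) t.2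
      simp only [mul_assoc, inv_mul_cancel_left, inv_mul_cancel, mul_one] at this
      exact this
    exact (ht ⟨x, hxP⟩).2 hx


/-- Let G be a finite group, p a prime and H an abelian p-subgroup of G that is extremely closed (for every g, the subgroup generated by H and g H g⁻¹ meets N_G(H) exactly in H). Then for every g ∈ G, the subgroup T generated by H and g H g⁻¹ is the product of H with O_{p'}(T), and H meets O_{p'}(T) trivially; that is, O_{p'}(T) is a normal p-complement of H in T. -/
theorem result {G : Type*} [Group G] [Finite G] {p : ℕ} [Fact p.Prime] (H : Subgroup G) (hHp : IsPGroup p H) (hHab : IsMulCommutative H) (hcl : Cfsg.IsExtremelyClosed H) (g : G) (T : Subgroup G) (hT : T = H ⊔ H.map (MulAut.conj g).toMonoidHom) : H ⊔ (Cfsg.pPrimeCore p ↥T).map T.subtype = T ∧ H ⊓ (Cfsg.pPrimeCore p ↥T).map T.subtype = ⊥ := by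
  have hHT : H ≤ T := hT ▸ le_sup_left
  set H' := H.subgroupOf T with hH'
  have hp' : IsPGroup p H' := hHp.comap_subtype
  have hN : Subgroup.normalizer (H' : Set T) ≤ H' := by
    intro t ht
    rw [hH', Subgroup.mem_subgroupOf]
    have h1 : (t : G) ∈ T ⊓ Subgroup.normalizer (H : Set G) := by
      refine Subgroup.mem_inf.2 ⟨t.2, ?_⟩
      rw [Subgroup.mem_normalizer_iff] at ht ⊢
      intro x
      constructor
      · intro hx
        exact (ht ⟨x, hHT hx⟩).1 hx
      · intro hx
        have hxT : x ∈ T := by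
          have := mul_mem (mul_mem (inv_mem t.2) (hHT hx)) t.2
          simp only [mul_assoc, inv_mul_cancel_left, inv_mul_cancel, mul_one] at this
          exact this
        exact (ht ⟨x, hxT⟩).2 hx
    have h2 := (inf_le_inf_right (Subgroup.normalizer (H : Set G)) hT.le) h1
    rwa [hcl g] at h2
  obtain ⟨P, hP⟩ := isSylow_of_normalizer_le hp' hN
  have hPC : Subgroup.normalizer (P : Set T) ≤ Subgroup.centralizer (P : Set T) := by
    intro t ht
    rw [← P.coe_coe, hP] at ht
    rw [Subgroup.mem_centralizer_iff]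
    intro x hx
    rw [← P.coe_coe, hP] at hx
    apply Subtype.ext
    have := congrArg Subtype.val
      (hHab.is_comm.comm (⟨(x : G), hx⟩ : H) ⟨(t : G), hN ht⟩)
    exact this
  set K := (MonoidHom.transferSylow P hPC).ker with hK
  have hc : K.IsComplement' H' := hP ▸ MonoidHom.ker_transferSylow_isComplement' P hPC
  have hKle : K ≤ Cfsg.pPrimeCore p ↥T := by
    apply Core.le_pPrimeCore
    rw [← hc.index_eq_card, ← hP]
    exact ((Fact.out : p.Prime).coprime_iff_not_dvd.2 P.not_dvd_index).symm
  have hmap : H'.map T.subtype = H := by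
    rw [hH', Subgroup.subgroupOf_map_subtype, inf_of_le_left hHT]
  have hdis : H' ⊓ Cfsg.pPrimeCore p ↥T = ⊥ := by
    apply Subgroup.inf_eq_bot_of_coprime
    obtain ⟨k, hk⟩ := IsPGroup.iff_card.1 hp'
    rw [hk]
    exact (Core.coprime_card_pPrimeCore).symm.pow_left k
  constructor
  · nth_rw 1 [← hmap]
    rw [← Subgroup.map_sup, eq_top_iff.2 (hc.sup_eq_top.ge.trans
      (sup_le (hKle.trans le_sup_right) le_sup_left) : (⊤ : Subgroup T) ≤ H' ⊔ Cfsg.pPrimeCore p ↥T),
      ← MonoidHom.range_eq_map, Subgroup.range_subtype]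
  · nth_rw 1 [← hmap]
    rw [← Subgroup.map_inf_eq _ _ _ T.subtype_injective, hdis, Subgroup.map_bot]

end Cfsg.Agent.S3020
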