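import Cfsg.Statements.S3021
import Mathlib

set_option autoImplicit false
open Cfsg

namespace Cfsg.Agent.S3021

/-- Let G be a finite group, p a prime and H a p-subgroup of G that is extremely closed (for every g, the subgroup generated by H and g H g⁻¹ meets N_G(H) exactly in H). Then every p-subgroup Q of G containing H has N_G(Q) ≤ N_G(H); in particular every Sylow p-subgroup P of G containing H normalizes H, and H is strongly closed in P with respect to G. -/
theorem result {G : Type*} [Group G] [Finite G] {p : ℕ} [Fact p.Prime] (H : Subgroup G) (hHp : IsPGroup p H) (hcl : Cfsg.IsExtremelyClosed H) : (∀ Q : Subgroup G, IsPGroup p Q → H ≤ Q → Subgroup.normalizer (Q : Set G) ≤ Subgroup.normalizer (H : Set G)) ∧ ∀ P : Sylow p G, H ≤ (P : Subgroup G) → (P : Subgroup G) ≤ Subgroup.normalizer (H : Set G) ∧ Cfsg.IsStronglyClosed H (P : Subgroup G) := by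
  have key : ∀ g : G, H.map (MulAut.conj g).toMonoidHom ≤ Subgroup.normalizer (H : Set G) →
      g ∈ Subgroup.normalizer (H : Set G) := by
    intro g hg
    have hle : H.map (MulAut.conj g).toMonoidHom ≤ H := by
      have := le_inf (le_sup_right : _ ≤ H ⊔ H.map (MulAut.conj g).toMonoidHom) hg
      rwa [hcl g] at this
    have heq : H.map (MulAut.conj g).toMonoidHom = H :=
      Subgroup.eq_of_le_of_card_ge hle
        (Subgroup.card_map_of_injective (MulAut.conj g).injective).ge
    rw [Subgroup.mem_normalizer_iff]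
    intro x
    constructor
    · exact fun hx => hle ⟨x, hx, rfl⟩
    · intro hx
      rw [← heq] at hx
      obtain ⟨y, hy, hyx⟩ := hx
      rwa [← (MulAut.conj g).injective hyx]
  have hQ : ∀ Q : Subgroup G, IsPGroup p Q → H ≤ Q → Q ≤ Subgroup.normalizer (H : Set G) := by
    intro Q hQp hHQ
    by_contra hne
    have : Group.IsNilpotent Q := hQp.isNilpotent
    set K := (Q ⊓ Subgroup.normalizer (H : Set G)).subgroupOf Q with hK
    have hlt : K < ⊤ := lt_top_iff_ne_top.2 fun h =>
      hne ((Subgroup.subgroupOf_eq_top.1 h).trans inf_le_right)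
    obtain ⟨t, ht, htK⟩ :=
      SetLike.exists_of_lt (Group.normalizerCondition_of_isNilpotent K hlt)
    refine htK (Subgroup.mem_subgroupOf.2 (Subgroup.mem_inf.2 ⟨t.2, key _ ?_⟩))
    rintro _ ⟨y, hy, rfl⟩
    have hyK : (⟨y, hHQ hy⟩ : Q) ∈ K :=
      Subgroup.mem_subgroupOf.2 (Subgroup.mem_inf.2 ⟨hHQ hy, Subgroup.le_normalizer hy⟩)
    exact (Subgroup.mem_inf.1 (Subgroup.mem_subgroupOf.1
      ((Subgroup.mem_normalizer_iff.1 ht ⟨y, hHQ hy⟩).1 hyK))).2
  refine ⟨fun Q hQp hHQ g hg => key g ?_, fun P hHP => ⟨hQ _ P.2 hHP, hHP, ?_⟩⟩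
  · rintro _ ⟨y, hy, rfl⟩
    exact hQ Q hQp hHQ ((Subgroup.mem_normalizer_iff.1 hg y).1 (hHQ hy))
  · intro x hx g hgx
    have : g * x * g⁻¹ ∈ (H ⊔ H.map (MulAut.conj g).toMonoidHom) ⊓ Subgroup.normalizer (H : Set G) :=
      Subgroup.mem_inf.2 ⟨Subgroup.mem_sup_right ⟨x, hx, rfl⟩, hQ _ P.2 hHP hgx⟩
    rwa [hcl g] at this

end Cfsg.Agent.S3021
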