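import Cfsg.Statements.S3023
import Cfsg.Agent.LocalStructure.LocalChar
import Cfsg.Agent.LocalStructure.QuotientNormalizer
import Cfsg.Agent.LocalStructure.CharP

set_option linter.all false

set_option autoImplicit false
open Cfsg

namespace Cfsg.Agent.S3023

/-- Let p be a prime, G a finite group of parabolic characteristic p (every p-local subgroup containing a Sylow p-subgroup of G has characteristic p), S a Sylow p-subgroup of G and G₁ a subnormal subgroup of G. If the centre of S ∩ G₁ is nontrivial and contained in the centre of S, then G₁ has parabolic characteristic p. -/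
theorem result {G : Type*} [Group G] [Finite G] {p : ℕ} [Fact p.Prime] (hG : Cfsg.IsOfParabolicCharacteristic p G) (S : Sylow p G) (G₁ : Subgroup G) (hsn : G₁.IsSubnormal) (hne : ((S : Subgroup G) ⊓ G₁) ⊓ Subgroup.centralizer (((S : Subgroup G) ⊓ G₁ : Subgroup G) : Set G) ≠ ⊥) (hle : ((S : Subgroup G) ⊓ G₁) ⊓ Subgroup.centralizer (((S : Subgroup G) ⊓ G₁ : Subgroup G) : Set G) ≤ (S : Subgroup G) ⊓ Subgroup.centralizer ((S : Subgroup G) : Set G)) : Cfsg.IsOfParabolicCharacteristic p ↥G₁ := by
  let S₁ : Sylow p G₁ := ((S.2.comap_of_injective G₁.subtype G₁.subtype_injective)).toSylow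
    (LocalStructure.not_dvd_relIndex_subnormal S hsn)
  refine LocalStructure.parabolicChar_of_centralizers S₁ fun z hz hz1 => ?_
  obtain ⟨hzS, hzC, hzp⟩ := LocalStructure.mem_omegaZ_iff.mp hz
  have hzS' : (z : G) ∈ (S : Subgroup G) := hzS
  have hzc : (z : G) ∈ ((S : Subgroup G) ⊓ G₁) ⊓ Subgroup.centralizer (((S : Subgroup G) ⊓ G₁ : Subgroup G) : Set G) := by
    refine Subgroup.mem_inf.mpr ⟨⟨hzS', z.2⟩, ?_⟩
    rw [Subgroup.mem_centralizer_iff]
    intro y hy
    exact congrArg Subtype.val (Subgroup.mem_centralizer_iff.mp hzC ⟨y, hy.2⟩ hy.1)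
  have hzZ : (z : G) ∈ LocalStructure.omegaZ p (S : Subgroup G) :=
    LocalStructure.mem_omegaZ_iff.mpr ⟨(hle hzc).1, (hle hzc).2, by rw [← Subgroup.coe_pow, hzp]; rfl⟩
  have h1 := LocalStructure.charP_centralizer_of_parabolicChar hG S hzZ
    (fun e => hz1 (Subtype.ext e))
  set C := Subgroup.centralizer ({(z : G)} : Set G) with hC
  have h2 : LocalStructure.CharP p (G₁ ⊓ C) := by
    have h3 := LocalStructure.charP_of_subnormal (hsn.subgroupOf (K := C)) (LocalStructure.charP_iff.mp h1)
    have h4 := (LocalStructure.charP_map_iff C.subtype C.subtype_injective).mpr h3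
    rwa [Subgroup.subgroupOf_map_subtype] at h4
  refine (LocalStructure.charP_map_iff G₁.subtype G₁.subtype_injective).mp ?_
  convert h2 using 1
  ext x
  constructor
  · rintro ⟨y, hy, rfl⟩
    exact ⟨y.2, Subgroup.mem_centralizer_singleton_iff.mpr
      (congrArg Subtype.val (Subgroup.mem_centralizer_singleton_iff.mp hy))⟩
  · rintro ⟨hx, hxc⟩
    exact ⟨⟨x, hx⟩, Subgroup.mem_centralizer_singleton_iff.mpr
      (Subtype.ext (Subgroup.mem_centralizer_singleton_iff.mp hxc)), rfl⟩

end Cfsg.Agent.S3023
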