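import Cfsg.Statements.S3025
import Cfsg.Agent.Fusion.UniqueInvolution

set_option autoImplicit false
set_option linter.style.haveILetI false
open Cfsg

namespace Cfsg.Agent.S3025

/-- Let F be a finite group and H a nontrivial subgroup of F that is contained in every nontrivial subgroup of F which H normalizes. Then F has a nontrivial normal subgroup N contained in every nontrivial normal subgroup of F (a unique minimal normal subgroup), N is simple, and one of the following holds: C_F(N) = 1; or H = N has prime order p, C_F(N) is cyclic of order a power of p, and F/C_F(N) is cyclic of order dividing p − 1; or H = N has order 2, N is central in F, and F is a generalized quaternion group. -/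
theorem result {F : Type*} [Group F] [Finite F] (H : Subgroup F) (hH : H ≠ ⊥)
    (hmin : ∀ R : Subgroup F, R ≠ ⊥ → H ≤ Subgroup.normalizer (R : Set F) → H ≤ R) :
    ∃ N : Subgroup F, N.Normal ∧ N ≠ ⊥ ∧ (∀ M : Subgroup F, M.Normal → M ≠ ⊥ → N ≤ M) ∧ IsSimpleGroup ↥N ∧
      (Subgroup.centralizer (N : Set F) = ⊥ ∨
       (H = N ∧ (Nat.card N).Prime ∧ IsCyclic ↥(Subgroup.centralizer (N : Set F)) ∧
          (∃ k : ℕ, 1 ≤ k ∧ Nat.card ↥(Subgroup.centralizer (N : Set F)) = Nat.card N ^ k) ∧
          (∃ g : F, Subgroup.centralizer (N : Set F) ⊔ Subgroup.zpowers g = ⊤) ∧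
          (Subgroup.centralizer (N : Set F)).index ∣ Nat.card N - 1) ∨
       (H = N ∧ Nat.card N = 2 ∧ Subgroup.centralizer (N : Set F) = ⊤ ∧
          ∃ k : ℕ, 1 ≤ k ∧ Nonempty (F ≃* QuaternionGroup (2 ^ k)))) := by
  classical
  haveI : Nontrivial F := by
    obtain ⟨h, -, hne⟩ := (Subgroup.bot_or_exists_ne_one H).resolve_left hH
    exact ⟨h, 1, hne⟩
  have hnorm : ∀ M : Subgroup F, M.Normal → M ≠ ⊥ → H ≤ M := fun M hM hne =>
    hmin M hne (by rw [Subgroup.normalizer_eq_top_iff.mpr hM]; exact le_top)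
  obtain ⟨N, hN⟩ := exists_minimal_of_wellFoundedLT (fun M : Subgroup F => M.Normal ∧ M ≠ ⊥)
    ⟨⊤, inferInstance, top_ne_bot⟩
  haveI hNn : N.Normal := hN.prop.1
  have hNne : N ≠ ⊥ := hN.prop.2
  have hHN : H ≤ N := hnorm N hNn hNne
  have huniq : ∀ M : Subgroup F, M.Normal → M ≠ ⊥ → N ≤ M := by
    intro M hM hne
    haveI := hM
    have h1 : (N ⊓ M).Normal ∧ N ⊓ M ≠ ⊥ := ⟨inferInstance, fun h => hH
      (le_bot_iff.mp (h ▸ le_inf hHN (hnorm M hM hne)))⟩
    exact (hN.le_of_le h1 inf_le_left).trans inf_le_right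
  haveI : Nontrivial ↥N := (Subgroup.nontrivial_iff_ne_bot N).mpr hNne
  haveI hsimple : IsSimpleGroup ↥N := by
    refine ⟨fun T hT => ?_⟩
    rcases eq_or_ne T ⊥ with h | hTne
    · exact Or.inl h
    right
    set T' := T.map N.subtype with hT'
    have hT'N : T' ≤ N := Subgroup.map_subtype_le T
    have hNT : ∀ n ∈ N, ∀ t ∈ T', n * t * n⁻¹ ∈ T' := by
      rintro n hn _ ⟨t, ht, rfl⟩
      exact ⟨⟨n, hn⟩ * t * ⟨n, hn⟩⁻¹, hT.conj_mem t ht _, rfl⟩
    have hHcore : H ≤ T'.normalCore := by
      intro h hh b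
      have hne : T'.map (MulAut.conj b⁻¹).toMonoidHom ≠ ⊥ := by
        rw [ne_eq, Subgroup.map_eq_bot_iff_of_injective _ (MulAut.conj b⁻¹).injective,
          Subgroup.map_eq_bot_iff_of_injective _ N.subtype_injective]
        exact hTne
      have hle := hmin _ hne (by
        intro x hx
        rw [Subgroup.mem_normalizer_iff_map_conj_eq, Subgroup.map_map]
        refine Subgroup.eq_of_le_of_card_ge ?_ ?_
        · rintro _ ⟨t, ht, rfl⟩
          refine ⟨(b * x * b⁻¹) * t * (b * x * b⁻¹)⁻¹, hNT _ (hNn.conj_mem x (hHN hx) b) t ht, ?_⟩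
          simp only [MulEquiv.toMonoidHom_eq_coe, MonoidHom.coe_coe, MulAut.conj_apply,
            MonoidHom.coe_comp, Function.comp_apply]
          group
        · refine le_of_eq ?_
          refine (Subgroup.card_map_of_injective ?_).trans (Subgroup.card_map_of_injective ?_).symm
          · exact (MulAut.conj b⁻¹).injective
          · exact (MulAut.conj x).injective.comp (MulAut.conj b⁻¹).injective)
      obtain ⟨t, ht, rfl⟩ := hle hh
      simpa [mul_assoc] using ht
    have h2 : N ≤ T'.normalCore := huniq _ inferInstance fun h => hH (le_bot_iff.mp (h ▸ hHcore))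
    rw [eq_top_iff]
    intro x _
    obtain ⟨y, hy, hyx⟩ := Subgroup.normalCore_le T' (h2 x.2)
    rwa [← Subtype.ext hyx]
  refine ⟨N, hNn, hNne, huniq, hsimple, ?_⟩
  set C := Subgroup.centralizer (N : Set F) with hCdef
  haveI hCn : C.Normal := inferInstanceAs (Subgroup.centralizer (N : Set F)).Normal
  rcases eq_or_ne C ⊥ with hC | hC
  · exact Or.inl hC
  have hNC : N ≤ C := huniq C hCn hC
  have hcomm : ∀ a b : ↥N, a * b = b * a := fun a b =>
    Subtype.ext (Subgroup.mem_centralizer_iff.mp (hNC b.2) (a : F) a.2)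
  letI : CommGroup ↥N := { (inferInstance : Group ↥N) with mul_comm := hcomm }
  have hprime : (Nat.card ↥N).Prime := IsSimpleGroup.prime_card (α := ↥N)
  set p := Nat.card ↥N with hp
  haveI := Fact.mk hprime
  have hHeq : H = N := by
    refine Subgroup.eq_of_le_of_card_ge hHN ?_
    rcases (Nat.dvd_prime hprime).mp (Subgroup.card_dvd_of_le hHN) with h | h
    · exact absurd (Subgroup.eq_bot_of_card_eq H h) hH
    · exact h.ge
  have hsub : ∀ R : Subgroup F, R ≠ ⊥ → R ≤ C → N ≤ R := by
    intro R hR hRC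
    have h := hmin R hR (by
      rw [hHeq]
      exact (Subgroup.le_centralizer_iff.mp hRC).trans (Subgroup.centralizer_le_normalizer _))
    rwa [hHeq] at h
  have hCp : IsPGroup p ↥C := by
    rw [IsPGroup.iff_card]
    refine ⟨_, Nat.eq_prime_pow_of_unique_prime_dvd Nat.card_pos.ne' fun {d} hd hdd => ?_⟩
    haveI := Fact.mk hd
    obtain ⟨x, hx⟩ := exists_prime_orderOf_dvd_card' d hdd
    have hx' : orderOf (x : F) = d := (orderOf_injective C.subtype C.subtype_injective x).trans hx
    have h := hsub (Subgroup.zpowers (x : F))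
      (by rw [ne_eq, Subgroup.zpowers_eq_bot, ← orderOf_eq_one_iff, hx']; exact hd.ne_one)
      (by rw [Subgroup.zpowers_le]; exact x.2)
    have h2 := Subgroup.card_dvd_of_le h
    rw [Nat.card_zpowers, hx'] at h2
    exact ((Nat.prime_dvd_prime_iff_eq hprime hd).mp h2).symm
  obtain ⟨k, hk⟩ := IsPGroup.iff_card.mp hCp
  have hk1 : 1 ≤ k := by
    by_contra h
    rw [show k = 0 by omega, pow_zero] at hk
    exact hC (Subgroup.eq_bot_of_card_eq C hk)
  have hun : ∀ A B : Subgroup ↥C, Nat.card A = p → Nat.card B = p → A = B := by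
    have key : ∀ A : Subgroup ↥C, Nat.card A = p → A.map C.subtype = N := by
      intro A hA
      refine (Subgroup.eq_of_le_of_card_ge (hsub _ ?_ (Subgroup.map_subtype_le A)) ?_).symm
      · rw [ne_eq, Subgroup.map_eq_bot_iff_of_injective _ C.subtype_injective]
        rintro rfl
        rw [Subgroup.card_bot] at hA
        exact hprime.ne_one hA.symm
      · rw [Subgroup.card_map_of_injective C.subtype_injective, hA]
    exact fun A B hA hB => Subgroup.map_injective C.subtype_injective ((key A hA).trans (key B hB).symm)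
  set φ : F →* MulAut ↥N := MulAut.conjNormal with hφ
  have hker : φ.ker = C := by
    ext g
    rw [MonoidHom.mem_ker, hφ, hCdef, Subgroup.mem_centralizer_iff, MulEquiv.ext_iff]
    constructor
    · intro h n hn
      have h1 : g * n * g⁻¹ = n := by
        simpa [MulAut.conjNormal_apply] using congrArg Subtype.val (h ⟨n, hn⟩)
      exact (mul_inv_eq_iff_eq_mul.mp h1).symm
    · intro h n
      exact Subtype.ext (by simp [MulAut.conjNormal_apply, ← h n n.2])
  haveI : IsCyclic ↥N := isCyclic_of_prime_card rfl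
  have e : MulAut ↥N ≃* (ZMod p)ˣ := IsCyclic.mulAutMulEquiv ↥N
  haveI : IsCyclic (MulAut ↥N) := e.isCyclic.mpr inferInstance
  have hidx : C.index ∣ p - 1 := by
    rw [← hker, Subgroup.index_ker]
    refine (Subgroup.card_subgroup_dvd_card _).trans ?_
    rw [Nat.card_congr e.toEquiv, Nat.card_eq_fintype_card, ZMod.card_units]
  rcases Agent.Fusion.cyclic_or_quaternion_of_unique hCp hun with hcyc | ⟨hp2, hq⟩
  · refine Or.inr (Or.inl ⟨hHeq, hprime, hcyc, ⟨k, hk1, hk⟩, ?_, hidx⟩)
    obtain ⟨⟨_, g, rfl⟩, hg⟩ := IsCyclic.exists_generator (α := ↥φ.range)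
    refine ⟨g, eq_top_iff.mpr fun x _ => ?_⟩
    obtain ⟨i, hi⟩ := Subgroup.mem_zpowers_iff.mp (hg ⟨φ x, x, rfl⟩)
    have hi' : φ (g ^ i) = φ x := by
      rw [map_zpow]
      simpa using congrArg Subtype.val hi
    have hx : x * (g ^ i)⁻¹ ∈ C := by rw [← hker, MonoidHom.mem_ker, map_mul, map_inv, hi', mul_inv_cancel]
    have h := Subgroup.mul_mem_sup hx (Subgroup.zpow_mem (Subgroup.zpowers g) (Subgroup.mem_zpowers g) i)
    rwa [inv_mul_cancel_right] at h
  · have htop : C = ⊤ := by
      rw [← Subgroup.index_eq_one]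
      rw [hp2] at hidx
      exact Nat.dvd_one.mp hidx
    refine Or.inr (Or.inr ⟨hHeq, hp2, htop, ?_⟩)
    obtain ⟨m, hm, ⟨f⟩⟩ := hq
    exact ⟨m, hm, ⟨((Subgroup.topEquiv (G := F)).symm.trans (MulEquiv.subgroupCongr htop.symm)).trans f⟩⟩

end Cfsg.Agent.S3025
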