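import Cfsg.Statements.S3027
import Mathlib

set_option autoImplicit false
open Cfsg

namespace Cfsg.Agent.S3027

open Subgroup
open scoped commutatorElement

variable {G : Type*} [Group G]

theorem sup_eq_top_iff_map (D : Subgroup G) [D.Normal] (N : Subgroup G) :
    N ⊔ D = ⊤ ↔ N.map (QuotientGroup.mk' D) = ⊤ := by
  constructor
  · intro h
    have h2 := congrArg (Subgroup.map (QuotientGroup.mk' D)) h
    rw [Subgroup.map_sup, QuotientGroup.map_mk'_self, sup_bot_eq,
      Subgroup.map_top_of_surjective _ (QuotientGroup.mk'_surjective D)] at h2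
    exact h2
  · intro h
    have h2 := congrArg (Subgroup.comap (QuotientGroup.mk' D)) h
    rwa [Subgroup.comap_map_eq, QuotientGroup.ker_mk', Subgroup.comap_top] at h2

theorem commutator_supplement (D : Subgroup G) [D.Normal]
    (hperf : ⁅(⊤ : Subgroup G), (⊤ : Subgroup G)⁆ ⊔ D = ⊤) {M N : Subgroup G}
    (hM : M ⊔ D = ⊤) (hN : N ⊔ D = ⊤) : ⁅M, N⁆ ⊔ D = ⊤ := by
  rw [sup_eq_top_iff_map, Subgroup.map_commutator] at hperf ⊢
  rw [sup_eq_top_iff_map] at hM hN
  rw [hM, hN]
  rwa [Subgroup.map_top_of_surjective _ (QuotientGroup.mk'_surjective D)] at hperf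


/-- Let G be a finite group and D a normal subgroup of G such that G/D is perfect (that is, G = G′D). Then among the subnormal subgroups B of G with BD = G there is a least one, and it is normal in G. -/
theorem result {G : Type*} [Group G] [Finite G] (D : Subgroup G) [D.Normal] (hperf : ⁅(⊤ : Subgroup G), (⊤ : Subgroup G)⁆ ⊔ D = ⊤) :
    ∃ B : Subgroup G, B.Normal ∧ B ⊔ D = ⊤ ∧ ∀ B' : Subgroup G, B'.IsSubnormal → B' ⊔ D = ⊤ → B ≤ B' := by
  classical
  obtain ⟨B, hB⟩ := exists_minimal_of_wellFoundedLT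
    (fun N : Subgroup G => N.Normal ∧ N ⊔ D = ⊤) ⟨⊤, inferInstance, top_sup_eq D⟩
  obtain ⟨hBn, hBD⟩ := hB.prop
  have hBmin : ∀ M : Subgroup G, M.Normal ∧ M ⊔ D = ⊤ → M ≤ B → B ≤ M :=
    fun M hM hle => hB.le_of_le hM hle
  refine ⟨B, hBn, hBD, ?_⟩
  have key : ∀ M : Subgroup G, M ≤ B → B ≤ normalizer (M : Set G) → M ⊔ D = ⊤ → B ≤ M := by
    intro M hMB hMn hMD
    obtain ⟨M₀, hM₀M, hM₀⟩ := exists_minimal_le_of_wellFoundedLT
      (fun N : Subgroup G => N ≤ B ∧ B ≤ normalizer (N : Set G) ∧ N ⊔ D = ⊤) M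
      ⟨hMB, hMn, hMD⟩
    obtain ⟨h1, h2, h3⟩ := hM₀.prop
    have hconj : ∀ g : G, M₀ ≤ M₀.map (MulAut.conj g).toMonoidHom := by
      intro g
      set M₁ := M₀.map (MulAut.conj g).toMonoidHom with hM₁
      have hBg : B.map (MulAut.conj g).toMonoidHom = B := by
        refine le_antisymm ?_ fun b hb => ⟨g⁻¹ * b * g, ?_, ?_⟩
        · rintro _ ⟨b, hb, rfl⟩
          exact hBn.conj_mem b hb g
        · exact hBn.conj_mem' b hb g
        · simp [mul_assoc]
      have h1' : M₁ ≤ B := hBg ▸ Subgroup.map_mono h1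
      have h2' : B ≤ normalizer (M₁ : Set G) := by
        refine le_trans ?_ (Subgroup.le_normalizer_map _)
        exact (hBg.ge.trans (Subgroup.map_mono h2))
      have h3' : M₁ ⊔ D = ⊤ := by
        rw [sup_eq_top_iff_map] at h3 ⊢
        rw [eq_top_iff]
        intro q _
        obtain ⟨m, hm, hmq⟩ : (QuotientGroup.mk' D g)⁻¹ * q * QuotientGroup.mk' D g ∈
            M₀.map (QuotientGroup.mk' D) := h3 ▸ Subgroup.mem_top _
        refine ⟨g * m * g⁻¹, ⟨m, hm, rfl⟩, ?_⟩
        rw [map_mul, map_mul, map_inv, hmq]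
        group
      have h4 : (M₀ ⊓ M₁) ⊔ D = ⊤ := by
        rw [eq_top_iff, ← commutator_supplement D hperf h3 h3']
        refine sup_le_sup_right (le_inf ?_ ?_) _
        · rw [Subgroup.commutator_le]
          intro a ha b hb
          rw [commutatorElement_def, mul_assoc, mul_assoc]
          refine mul_mem ha ?_
          rw [← mul_assoc]
          exact ((Subgroup.mem_normalizer_iff.1 (h2 (h1' hb))) a⁻¹).1 (inv_mem ha)
        · rw [Subgroup.commutator_le]
          intro a ha b hb
          rw [commutatorElement_def]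
          exact mul_mem (((Subgroup.mem_normalizer_iff.1 (h2' (h1 ha))) b).1 hb) (inv_mem hb)
      exact (hM₀.le_of_le ⟨inf_le_left.trans h1, (le_inf h2 h2').trans
        Subgroup.inf_normalizer_le_normalizer_inf, h4⟩ inf_le_left).trans inf_le_right
    have hn : M₀.Normal := ⟨fun m hm g => by
      obtain ⟨m', hm', he⟩ := hconj g⁻¹ hm
      rw [← he]
      simpa [mul_assoc] using hm'⟩
    exact (hBmin M₀ ⟨hn, h3⟩ h1).trans hM₀M
  intro B' hB'
  induction hB' with
  | top => exact fun _ => le_top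
  | step H K hle hK hN ih =>
    intro hHD
    have hKD : K ⊔ D = ⊤ := eq_top_iff.2 (hHD ▸ sup_le_sup_right hle D)
    have hBK := ih hKD
    have hBN : B ≤ normalizer (H : Set G) :=
      hBK.trans ((Subgroup.normal_subgroupOf_iff_le_normalizer hle).1 hN)
    refine (key (B ⊓ H) inf_le_left ?_ ?_).trans inf_le_right
    · exact (le_inf Subgroup.le_normalizer hBN).trans
        Subgroup.inf_normalizer_le_normalizer_inf
    · rw [eq_top_iff, ← commutator_supplement D hperf hBD hHD]
      refine sup_le_sup_right (le_inf (Subgroup.commutator_le_left B H) ?_) _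
      rw [Subgroup.commutator_le]
      intro a ha b hb
      rw [commutatorElement_def]
      exact mul_mem (((Subgroup.mem_normalizer_iff.1 (hBN ha)) b).1 hb) (inv_mem hb)

end Cfsg.Agent.S3027
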