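import Cfsg.Statements.S3036
import Cfsg.Agent.CentLarge.Basic

set_option autoImplicit false
open Cfsg

namespace Cfsg.Agent.S3036

/-- Let G be a finite non-abelian simple group and A a proper nontrivial subgroup of G. Then |G| > |A| · |C_G(A)|. In particular |G| > |A|² for every nontrivial abelian subgroup A of G. -/
theorem result {G : Type*} [Group G] [Finite G] [IsSimpleGroup G] (hG : ¬ IsMulCommutative G) (A : Subgroup G) (hA1 : A ≠ ⊥) (hA2 : A ≠ ⊤) : Nat.card A * Nat.card ↥(Subgroup.centralizer (A : Set G)) < Nat.card G := by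
  open Cfsg.Agent.CentLarge in
  by_contra hlt
  rw [not_lt] at hlt
  have hz : Subgroup.center G = ⊥ := by
    refine (IsSimpleGroup.eq_bot_or_eq_top_of_normal _ inferInstance).resolve_right fun h => hG ?_
    exact ⟨⟨fun a b => Subgroup.mem_center_iff.1 (h ▸ Subgroup.mem_top b) a⟩⟩
  have htop : mu (⊤ : Subgroup G) = Nat.card G := by
    rw [mu_top, hz, Subgroup.card_bot, mul_one]
  obtain ⟨R₀, hR₀⟩ := exists_isMuMax (G := G)
  -- a greatest element of largest measure is normal
  obtain ⟨R, -, hR, hmax⟩ := (Set.toFinite {H : Subgroup G | IsMuMax H}).exists_le_maximal hR₀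
  have hRn : R.Normal := by
    refine ⟨fun a ha g => ?_⟩
    have h1 := hR.map (MulAut.conj g)
    have h2 : R ⊔ R.map (MulAut.conj g).toMonoidHom ≤ R := hmax (hR.sup_inf h1).1 le_sup_left
    exact h2 (Subgroup.mem_sup_right ⟨a, ha, rfl⟩)
  have hbot : mu (⊥ : Subgroup G) = Nat.card G := by
    have : Subgroup.centralizer ((⊥ : Subgroup G) : Set G) = ⊤ := by
      rw [eq_top_iff]; intro a _; simp [Subgroup.mem_centralizer_iff]
    unfold mu
    rw [this, Subgroup.card_bot, Subgroup.card_top, one_mul]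
  have hM : mu R = Nat.card G := by
    rcases IsSimpleGroup.eq_bot_or_eq_top_of_normal R hRn with rfl | rfl
    exacts [hbot, htop]
  have hA : IsMuMax A := hR.of_le (hM ▸ hlt)
  -- a maximal proper element of largest measure is normal
  obtain ⟨B, hAB, ⟨hB, hBtop⟩, hBmax⟩ := (Set.toFinite
    {H : Subgroup G | IsMuMax H ∧ H ≠ ⊤}).exists_le_maximal
      (show A ∈ {H : Subgroup G | IsMuMax H ∧ H ≠ ⊤} from ⟨hA, hA2⟩)
  have hBn : B.Normal := by
    refine ⟨fun a ha g => ?_⟩
    have h1 := hB.map (MulAut.conj g)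
    by_cases hj : B ⊔ B.map (MulAut.conj g).toMonoidHom = ⊤
    · have hset := (hB.sup_inf h1).2.2.1
      have hg : g⁻¹ ∈ ((B ⊔ B.map (MulAut.conj g).toMonoidHom : Subgroup G) : Set G) := by
        rw [hj]; trivial
      rw [hset] at hg
      obtain ⟨b, hb, _, ⟨c, hc, rfl⟩, he⟩ := hg
      have hbc : b * g * c = 1 := by
        have h' : b * (g * c * g⁻¹) = g⁻¹ := he
        calc b * g * c = b * (g * c * g⁻¹) * g := by group
          _ = 1 := by rw [h', inv_mul_cancel]
      have hgB : g ∈ B := by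
        have : g = b⁻¹ * c⁻¹ := by
          rw [mul_eq_one_iff_eq_inv] at hbc
          rw [← hbc, inv_mul_cancel_left]
        rw [this]
        exact mul_mem (inv_mem hb) (inv_mem hc)
      exact mul_mem (mul_mem hgB ha) (inv_mem hgB)
    · have h2 : B ⊔ B.map (MulAut.conj g).toMonoidHom ≤ B :=
        hBmax ⟨(hB.sup_inf h1).1, hj⟩ le_sup_left
      exact h2 (Subgroup.mem_sup_right ⟨a, ha, rfl⟩)
  rcases IsSimpleGroup.eq_bot_or_eq_top_of_normal B hBn with rfl | rfl
  · exact hA1 (le_bot_iff.1 hAB)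
  · exact hBtop rfl

end Cfsg.Agent.S3036
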