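import Cfsg.Statements.S3037
import Cfsg.Agent.CentLarge.Basic

set_option autoImplicit false
open Cfsg

namespace Cfsg.Agent.S3037

/-- Let V and G be subgroups of a finite group with V an elementary abelian p-group (p prime) on which G acts faithfully and irreducibly by conjugation: G normalizes V, G ∩ C(V) = 1, and the only subgroups of V normalized by G are 1 and V. If for some nontrivial subgroup A of G and some real α > 0 one has |V| ≤ |A|^α · |C_V(A)|, then |V| ≤ |G|^α. -/
theorem result {X : Type*} [Group X] [Finite X] {p : ℕ} [Fact p.Prime] (V G : Subgroup X) (hV : Cfsg.IsElementaryAbelian p V)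
    (hGV : G ≤ Subgroup.normalizer (V : Set X)) (hfaith : G ⊓ Subgroup.centralizer (V : Set X) = ⊥)
    (hirr : ∀ W : Subgroup X, W ≤ V → G ≤ Subgroup.normalizer (W : Set X) → W = ⊥ ∨ W = V)
    (A : Subgroup X) (hA : A ≤ G) (hA1 : A ≠ ⊥) (α : ℝ) (hα : 0 < α)
    (hbig : (Nat.card V : ℝ) ≤ (Nat.card A : ℝ) ^ α * (Nat.card ↥(V ⊓ Subgroup.centralizer (A : Set X)) : ℝ)) :
    (Nat.card V : ℝ) ≤ (Nat.card G : ℝ) ^ α := by
  classical
  let W : Subgroup X → Subgroup X := fun B => V ⊓ Subgroup.centralizer (B : Set X)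
  let w : Subgroup X → ℝ := fun B => (Nat.card B : ℝ) ^ α * (Nat.card (W B) : ℝ)
  obtain ⟨B₀, hB₀, hmax₀⟩ :=
    Set.exists_max_image {B : Subgroup X | B ≤ G} w (Set.toFinite _) ⟨⊥, show (⊥ : Subgroup X) ≤ G from bot_le⟩
  have hwbot : w ⊥ = (Nat.card V : ℝ) := by
    have : W ⊥ = V := by
      simp only [W, inf_eq_left]
      intro a _; simp [Subgroup.mem_centralizer_iff]
    simp only [w, this, Subgroup.card_bot, Nat.cast_one, Real.one_rpow, one_mul]
  have hVM : (Nat.card V : ℝ) ≤ w B₀ := hwbot ▸ hmax₀ ⊥ (show (⊥ : Subgroup X) ≤ G from bot_le)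
  let S : Set (Subgroup X) := {B | B ≤ G ∧ w B₀ ≤ w B}
  have hex : ∃ B ∈ S, B ≠ ⊥ := by
    by_cases h : B₀ = ⊥
    · refine ⟨A, ⟨hA, ?_⟩, hA1⟩
      rw [h, hwbot]
      exact hbig
    · exact ⟨B₀, ⟨hB₀, le_rfl⟩, h⟩
  obtain ⟨B₁, hB₁, hB₁ne⟩ := hex
  obtain ⟨B, hB1B, hBS, hBmax⟩ := (Set.toFinite S).exists_le_maximal hB₁
  have hwpos : ∀ T : Subgroup X, 0 < w T := fun T =>
    mul_pos (Real.rpow_pos_of_pos (Nat.cast_pos.2 Nat.card_pos) α) (Nat.cast_pos.2 Nat.card_pos)
  have hsup : ∀ T, T ∈ S → B ⊔ T ∈ S := by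
    intro T hT
    refine ⟨sup_le hBS.1 hT.1, ?_⟩
    have hinf : w (B ⊓ T) ≤ w B₀ := hmax₀ _ (inf_le_left.trans hBS.1)
    have hsupW : W (B ⊔ T) = W B ⊓ W T := by
      show V ⊓ _ = (V ⊓ _) ⊓ (V ⊓ _)
      rw [Cfsg.Agent.CentLarge.centralizer_sup, inf_inf_distrib_left]
    have hinfW : W B ≤ W (B ⊓ T) ∧ W T ≤ W (B ⊓ T) :=
      ⟨inf_le_inf_left V (Subgroup.centralizer_le inf_le_left),
       inf_le_inf_left V (Subgroup.centralizer_le inf_le_right)⟩
    have h1 := Cfsg.Agent.CentLarge.card_mul_le_of_le (le_sup_left : B ≤ B ⊔ T) le_sup_right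
    have h2 := Cfsg.Agent.CentLarge.card_mul_le_of_le hinfW.1 hinfW.2
    rw [← hsupW] at h2
    have h1' : (Nat.card B : ℝ) ^ α * (Nat.card T : ℝ) ^ α ≤
        (Nat.card ↥(B ⊔ T) : ℝ) ^ α * (Nat.card ↥(B ⊓ T) : ℝ) ^ α := by
      rw [← Real.mul_rpow (by positivity) (by positivity), ← Real.mul_rpow (by positivity) (by positivity)]
      exact Real.rpow_le_rpow (by positivity) (by exact_mod_cast h1) hα.le
    have h2' : (Nat.card (W B) : ℝ) * (Nat.card (W T) : ℝ) ≤
        (Nat.card ↥(W (B ⊓ T)) : ℝ) * (Nat.card ↥(W (B ⊔ T)) : ℝ) := by exact_mod_cast h2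
    have hkey : w B * w T ≤ w (B ⊔ T) * w (B ⊓ T) := by
      have := mul_le_mul h1' h2' (by positivity) (by positivity)
      calc w B * w T = (Nat.card B : ℝ) ^ α * (Nat.card T : ℝ) ^ α *
            ((Nat.card (W B) : ℝ) * (Nat.card (W T) : ℝ)) := by simp only [w]; ring
        _ ≤ _ := this
        _ = w (B ⊔ T) * w (B ⊓ T) := by simp only [w]; ring
    have h0 := hwpos B₀
    by_contra hcon
    rw [not_le] at hcon
    have : w (B ⊔ T) * w (B ⊓ T) < w B₀ * w B₀ :=
      lt_of_lt_of_le (mul_lt_mul_of_pos_right hcon (hwpos _)) (mul_le_mul_of_nonneg_left hinf h0.le)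
    have := mul_le_mul hBS.2 hT.2 h0.le (hwpos B).le
    linarith
  -- `B` is normalised by `G`
  have hconj : ∀ g ∈ G, B.map (MulAut.conj g).toMonoidHom ≤ B := by
    intro g hg
    have hT : B.map (MulAut.conj g).toMonoidHom ∈ S := by
      refine ⟨?_, ?_⟩
      · rintro _ ⟨b, hb, rfl⟩
        exact mul_mem (mul_mem hg (hBS.1 hb)) (inv_mem hg)
      · refine hBS.2.trans_eq ?_
        have hW : W (B.map (MulAut.conj g).toMonoidHom) = (W B).map (MulAut.conj g).toMonoidHom := by
          have hV' : V.map (MulAut.conj g).toMonoidHom = V := by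
            ext v
            rw [Subgroup.mem_map_equiv]
            simpa [MulAut.conj_symm_apply, mul_assoc] using
              (Subgroup.mem_normalizer_iff''.1 (hGV hg) v).symm
          rw [show (W B).map (MulAut.conj g).toMonoidHom = _ from
            Subgroup.map_inf _ _ _ (MulAut.conj g).injective, hV']
          simp only [W]
          rw [Cfsg.Agent.CentLarge.centralizer_map]
        simp only [w, hW]
        rw [← Nat.card_congr (B.equivMapOfInjective _ (MulAut.conj g).injective).toEquiv,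
          ← Nat.card_congr ((W B).equivMapOfInjective _ (MulAut.conj g).injective).toEquiv]
    exact le_trans le_sup_right (hBmax (hsup _ hT) le_sup_left)
  have hinv : G ≤ Subgroup.normalizer (W B : Set X) := by
    have hone : ∀ g ∈ G, ∀ h ∈ W B, g * h * g⁻¹ ∈ W B := by
      intro g hg h hh
      refine Subgroup.mem_inf.2 ⟨(Subgroup.mem_normalizer_iff.1 (hGV hg) h).1 hh.1, ?_⟩
      rw [Subgroup.mem_centralizer_iff]
      intro b hb
      have hb' : g⁻¹ * b * g ∈ B := by
        have := hconj g⁻¹ (inv_mem hg) ⟨b, hb, rfl⟩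
        simpa using this
      have := Subgroup.mem_centralizer_iff.1 hh.2 _ hb'
      calc b * (g * h * g⁻¹) = g * (g⁻¹ * b * g * h) * g⁻¹ := by group
        _ = g * (h * (g⁻¹ * b * g)) * g⁻¹ := by rw [this]
        _ = g * h * g⁻¹ * b := by group
    intro g hg
    rw [Subgroup.mem_normalizer_iff]
    refine fun h => ⟨hone g hg h, fun hh => ?_⟩
    simpa [mul_assoc] using hone g⁻¹ (inv_mem hg) _ hh
  rcases hirr (W B) inf_le_left hinv with h | h
  · refine hVM.trans (hBS.2.trans ?_)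
    simp only [w, h, Subgroup.card_bot, Nat.cast_one, mul_one]
    exact Real.rpow_le_rpow (by positivity) (by exact_mod_cast Subgroup.card_le_of_le hBS.1) hα.le
  · exfalso
    apply hB₁ne
    rw [eq_bot_iff, ← hfaith]
    refine le_inf hB₁.1 (hB1B.trans ?_)
    exact Subgroup.le_centralizer_iff.1 (h ▸ inf_le_right)

end Cfsg.Agent.S3037
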