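import Cfsg.Statements.S3038
import Cfsg.Agent.IsolatedRankTwo.Main
import Cfsg.Agent.IsolatedRankTwo.Components

set_option autoImplicit false
open Cfsg

namespace Cfsg.Agent.S3038

/-- Let G be a finite group and p an odd prime with O_{p'}(G) = 1. Suppose that G has p-rank at most 2 and that some element x of order p is isolated in G and not central. Then F*(G) is a non-abelian simple group, and for every Sylow p-subgroup P of F*(G), either no conjugate of x lies in P and P is cyclic, or some conjugate of x lies in P and either P is extraspecial of order p³ and exponent p, or p = 3 and P has order 3^{2k+1} for some k ≥ 2 and is of maximal class (nilpotency class 2k). Since O_{p'}(G) = 1, such an x is not central modulo O_{p'}(G): the hypotheses describe a counterexample to the Z*_p statement in p-rank at most 2, and the conclusion records the structure it would have. -/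
theorem result {G : Type*} [Group G] [Finite G] {p : ℕ} [Fact p.Prime] (hp : p ≠ 2) (hcore : Cfsg.pPrimeCore p G = ⊥)
    (hrank : Cfsg.PRankLE p 2 G) (x : G) (hx : orderOf x = p) (hiso : Cfsg.IsIsolated x) (hnc : x ∉ Subgroup.center G) :
    IsSimpleGroup ↥(Cfsg.generalizedFittingSubgroup G) ∧ ¬ IsMulCommutative ↥(Cfsg.generalizedFittingSubgroup G) ∧
    ∀ P : Sylow p ↥(Cfsg.generalizedFittingSubgroup G),
      ((∀ g : G, g * x * g⁻¹ ∉ ((P : Subgroup ↥(Cfsg.generalizedFittingSubgroup G)).map (Cfsg.generalizedFittingSubgroup G).subtype)) ∧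
          IsCyclic ↥(P : Subgroup ↥(Cfsg.generalizedFittingSubgroup G))) ∨
      ((∃ g : G, g * x * g⁻¹ ∈ ((P : Subgroup ↥(Cfsg.generalizedFittingSubgroup G)).map (Cfsg.generalizedFittingSubgroup G).subtype)) ∧
        ((Cfsg.IsExtraspecial p ↥(P : Subgroup ↥(Cfsg.generalizedFittingSubgroup G)) ∧
            Nat.card (P : Subgroup ↥(Cfsg.generalizedFittingSubgroup G)) = p ^ 3 ∧
            ∀ y ∈ (P : Subgroup ↥(Cfsg.generalizedFittingSubgroup G)), y ^ p = 1) ∨
         (p = 3 ∧ ∃ k : ℕ, 2 ≤ k ∧ Nat.card (P : Subgroup ↥(Cfsg.generalizedFittingSubgroup G)) = 3 ^ (2 * k + 1) ∧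
            ∃ _ : Group.IsNilpotent ↥(P : Subgroup ↥(Cfsg.generalizedFittingSubgroup G)),
              Group.nilpotencyClass ↥(P : Subgroup ↥(Cfsg.generalizedFittingSubgroup G)) = 2 * k))) := by
  classical
  obtain ⟨K, hK, hFK, hKC⟩ :=
    Cfsg.Agent.IsolatedRankTwo.exists_unique_component hp hcore hrank hx hiso hnc
  set F := Cfsg.generalizedFittingSubgroup G with hF
  have hFn : F.Normal := by
    rw [hF, Cfsg.generalizedFittingSubgroup]
    infer_instance
  haveI := hFn
  have hqs : Cfsg.IsQuasisimple ↥F := by rw [hFK]; exact hK.2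
  have hcen : Subgroup.center ↥F = ⊥ := by
    apply Subgroup.map_injective F.subtype_injective
    rw [Cfsg.Agent.Layer.map_center_eq_inf, Subgroup.map_bot, hFK]
    exact hKC
  haveI := Cfsg.Agent.Layer.qs_nontrivial hqs
  have hne : ¬ IsMulCommutative ↥F := fun h => Cfsg.Agent.Layer.qs_center_ne_top hqs
    (eq_top_iff.mpr fun a _ => Subgroup.mem_center_iff.mpr fun b => h.is_comm.comm b a)
  refine ⟨⟨fun N hN => (Cfsg.Agent.Layer.qs_normal_cases hqs hN).symm.imp_left
    fun h => le_bot_iff.mp (hcen ▸ h)⟩, hne, fun P => ?_⟩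
  have hperf : _root_.commutator ↥F = ⊤ := hqs.1.commutator_eq_top
  have hP' : IsPGroup p ((P : Subgroup ↥F).map F.subtype) := P.2.map _
  by_cases hconj : ∃ g : G, g * x * g⁻¹ ∈ (P : Subgroup ↥F).map F.subtype
  · refine Or.inr ⟨hconj, ?_⟩
    obtain ⟨g, hg⟩ := hconj
    obtain ⟨x', hx'P, hx'e⟩ := hg
    have hiso' := Cfsg.Agent.LocalStructure.isolated_conj hiso g
    have C : Cfsg.Agent.IsolatedRankTwo.Ctx p P x' :=
      { perf := hperf
        hp2 := hp
        ord := by
          rw [← Subgroup.orderOf_coe]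
          show orderOf (F.subtype x') = p
          rw [hx'e, Cfsg.Agent.LocalStructure.orderOf_conj_eq, hx]
        mem := hx'P
        iso := fun h hh => Subtype.ext (by
          have h1 := Cfsg.Agent.LocalStructure.eq_of_mem_of_isolated hiso' hP'
            ⟨x', hx'P, hx'e⟩ (g := (h : G)) ⟨h * x' * h⁻¹, hh, by rw [← hx'e]; rfl⟩
          rw [← hx'e] at h1
          exact h1)
        rank := Cfsg.Agent.RankTwo.pRankLE_subgroup hrank F }
    exact C.structure_sylow
  · push Not at hconj
    refine Or.inl ⟨hconj, ?_⟩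
    have hxF : x ∉ F := by
      intro hxF
      obtain ⟨S, hS⟩ := (IsPGroup.of_card (p := p) (G := Subgroup.zpowers (⟨x, hxF⟩ : ↥F)) (n := 1)
        (by rw [Nat.card_zpowers, Subgroup.orderOf_mk, hx, pow_one])).exists_le_sylow
      obtain ⟨y, hy⟩ := MulAction.exists_smul_eq ↥F S P
      refine hconj (y : G) ⟨y * ⟨x, hxF⟩ * y⁻¹, ?_, by simp⟩
      rw [← hy]
      exact ⟨_, hS (Subgroup.mem_zpowers _), rfl⟩
    -- a conjugate of `x` centralizing `P`
    obtain ⟨T, hT⟩ := hP'.exists_le_sylow
    obtain ⟨S, hS⟩ := (Cfsg.Agent.LocalStructure.isPGroup_zpowers (p := p) (x := x)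
      ⟨1, by rw [hx, pow_one]⟩).exists_le_sylow
    obtain ⟨y, hy⟩ := MulAction.exists_smul_eq G S T
    set x' := y * x * y⁻¹ with hx'
    have hx'T : x' ∈ (T : Subgroup G) := by
      rw [← hy]; exact ⟨x, hS (Subgroup.mem_zpowers x), rfl⟩
    have hiso' := Cfsg.Agent.LocalStructure.isolated_conj hiso y
    have hx'c : ∀ s ∈ (T : Subgroup G), Commute s x' := fun s hs =>
      (Subgroup.mem_centralizer_iff.mp
        (Cfsg.Agent.LocalStructure.le_centralizer_of_isolated hiso' T.2 hx'T hs) x' rfl).symm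
    have hx'F : x' ∉ F := fun h => hxF (by
      have := hFn.conj_mem _ h y⁻¹
      simpa [hx', mul_assoc] using this)
    have hx'p : x' ^ p = 1 := by
      rw [hx', conj_pow, ← hx, pow_orderOf_eq_one, mul_one, mul_inv_cancel]
    have hmemT : ∀ a : ↥F, a ∈ (P : Subgroup ↥F) → (a : G) ∈ (T : Subgroup G) :=
      fun a ha => hT ⟨a, ha, rfl⟩
    rcases subsingleton_or_nontrivial ↥(P : Subgroup ↥F) with hs | hs
    · exact isCyclic_of_subsingleton
    haveI := P.2.center_nontrivial
    obtain ⟨a, ha⟩ := exists_prime_orderOf_dvd_card' (G := Subgroup.center ↥(P : Subgroup ↥F)) p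
      (((P.2.to_subgroup _).card_eq_or_dvd).resolve_left Finite.one_lt_card.ne')
    set a' : G := (((a : ↥(P : Subgroup ↥F)) : ↥F) : G) with ha'
    have hao : orderOf (a : ↥(P : Subgroup ↥F)) = p := by rw [Subgroup.orderOf_coe, ha]
    have ha'o : orderOf a' = p := by rw [ha', Subgroup.orderOf_coe, Subgroup.orderOf_coe, hao]
    have ha'p : a' ^ p = 1 := by rw [← ha'o, pow_orderOf_eq_one]
    have ha'1 : a' ≠ 1 := fun h => (Fact.out : p.Prime).one_lt.ne (by rw [← ha'o, h, orderOf_one])
    haveI : IsCyclic ↥(⊤ : Subgroup ↥(P : Subgroup ↥F)) := by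
      refine Cfsg.Agent.RankTwo.isCyclic_of_omega_small hp (P.2.to_subgroup ⊤)
        (Z := Subgroup.zpowers (a : ↥(P : Subgroup ↥F))) (by rw [Nat.card_zpowers, hao]) fun b _ hb => ?_
      have hcab : Commute a' ((b : ↥F) : G) :=
        (congrArg (fun w : ↥(P : Subgroup ↥F) => ((w : ↥F) : G)) (Subgroup.mem_center_iff.mp a.2 b)).symm
      have hxa : x' ∉ Subgroup.zpowers a' := fun h =>
        hx'F (Subgroup.zpowers_le.mpr (a : ↥(P : Subgroup ↥F)).1.2 h)
      obtain ⟨i, j, hij⟩ := Cfsg.Agent.IsolatedRankTwo.exists_eq_zpow_mul hrank ha'p hx'p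
        (by simpa using congrArg (fun w : ↥(P : Subgroup ↥F) => ((w : ↥F) : G)) hb) ha'1 hxa
        (hx'c a' (hmemT _ (a : ↥(P : Subgroup ↥F)).2)) hcab (hx'c _ (hmemT _ b.2)).symm
      have hj : x' ^ j = 1 := by
        by_contra hj
        have hxj : x' ^ j ∈ F := by
          rw [show x' ^ j = (a' ^ i)⁻¹ * ((b : ↥F) : G) by rw [hij, inv_mul_cancel_left]]
          exact mul_mem (inv_mem (zpow_mem (a : ↥(P : Subgroup ↥F)).1.2 i)) (b : ↥F).2
        have hpj : ¬ (p : ℤ) ∣ j := by
          rintro ⟨t, rfl⟩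
          exact hj (by rw [zpow_mul, zpow_natCast, hx'p, one_zpow])
        exact hx'F (Cfsg.Agent.RankTwo.mem_of_zpow_mem (j := 1) (by rwa [pow_one]) hpj hxj)
      rw [hj, mul_one] at hij
      exact ⟨i, Subtype.ext (Subtype.ext (by simpa using hij.symm))⟩
    exact isCyclic_of_surjective Subgroup.topEquiv.toMonoidHom Subgroup.topEquiv.surjective

end Cfsg.Agent.S3038
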