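import Cfsg.Statements.S3047
-- import your own Cfsg.Agent.* helpers here
import Cfsg.Agent.RankOneCentre.Models
import Cfsg.Agent.Core.PCore
import Cfsg.Agent.Fusion.Residual

set_option autoImplicit false
open Cfsg

namespace Cfsg.Agent.S3047

/-- Let p ≥ 5 be a prime, G a finite group all of whose composition factors are known simple groups, S a Sylow p-subgroup and P a p-minimal subgroup of G containing S such that O^p(P/O_p(P)) is isomorphic to SL₂(pᵃ), PSL₂(pᵃ), SU₃(pᵃ) or PSU₃(pᵃ) for some a ≥ 1. Let L be the subgroup generated by N_G(S) and the p-minimal subgroups of G containing S other than P. Then either O^p(P) is normal in G, or every p-element of the centre of L lies in O_p(P). -/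
theorem result {G : Type*} [Group G] [Finite G] {p : ℕ} [Fact p.Prime] (hp : 5 ≤ p) (hK : Cfsg.IsCompositionKGroup G)
    (S : Sylow p G) (P : Subgroup G) (hSP : (S : Subgroup G) ≤ P) (hPmin : Cfsg.IsPMinimal p ↥P) [hn : (Cfsg.pCore p ↥P).Normal]
    (hrk1 : ∃ (F : Type) (_ : Field F) (_ : Fintype F) (a : ℕ), 1 ≤ a ∧
      ((Fintype.card F = p ^ a ∧ (Nonempty (↥(Cfsg.pResidual p (↥P ⧸ Cfsg.pCore p ↥P)) ≃* Matrix.SpecialLinearGroup (Fin 2) F) ∨
                                  Nonempty (↥(Cfsg.pResidual p (↥P ⧸ Cfsg.pCore p ↥P)) ≃* Matrix.ProjectiveSpecialLinearGroup (Fin 2) F))) ∨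
       (Fintype.card F = p ^ (2 * a) ∧ (Nonempty (↥(Cfsg.pResidual p (↥P ⧸ Cfsg.pCore p ↥P)) ≃* ↥(Cfsg.SU 3 F (p ^ a))) ∨
                                        Nonempty (↥(Cfsg.pResidual p (↥P ⧸ Cfsg.pCore p ↥P)) ≃* Cfsg.PSU 3 F (p ^ a))))))
    (L : Subgroup G)
    (hL : L = Subgroup.normalizer ((S : Subgroup G) : Set G) ⊔ ⨆ P' : {P' : Subgroup G // (S : Subgroup G) ≤ P' ∧ Cfsg.IsPMinimal p ↥P' ∧ P' ≠ P}, (P' : Subgroup G)) :
    ((Cfsg.pResidual p ↥P).map P.subtype).Normal ∨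
    ∀ z ∈ L ⊓ Subgroup.centralizer (L : Set G), (∃ k : ℕ, orderOf z = p ^ k) → z ∈ (Cfsg.pCore p ↥P).map P.subtype := by
  right
  classical
  rintro z ⟨hzL, hzC⟩ ⟨k, hk⟩
  have hpf : Fact p.Prime := inferInstance
  have hNL : Subgroup.normalizer ((S : Subgroup G) : Set G) ≤ L := hL ▸ le_sup_left
  have hSL : (S : Subgroup G) ≤ L := Subgroup.le_normalizer.trans hNL
  have hzcS : z ∈ Subgroup.centralizer ((S : Subgroup G) : Set G) := Subgroup.centralizer_le hSL hzC
  have hzS : z ∈ (S : Subgroup G) := by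
    have hzp : IsPGroup p (Subgroup.zpowers z) := IsPGroup.of_card (n := k) (by rw [Nat.card_zpowers, hk])
    have hsup : IsPGroup p (Subgroup.zpowers z ⊔ S : Subgroup G) :=
      hzp.to_sup_of_normal_right' S.2 (Subgroup.zpowers_le.2 (Subgroup.centralizer_le_normalizer _ hzcS))
    exact (S.is_maximal' hsup le_sup_right).le (Subgroup.mem_sup_left (Subgroup.mem_zpowers z))
  set SP : Sylow p ↥P := S.subtype hSP with hSPdef
  set K := Cfsg.pCore p ↥P with hK'
  have hKS : K ≤ (SP : Subgroup ↥P) := Cfsg.Agent.Core.pCore_le_sylow SP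
  set π := QuotientGroup.mk' K with hπ
  set T : Sylow p (↥P ⧸ K) := SP.mapSurjective (QuotientGroup.mk'_surjective K) with hT
  have hTeq : (T : Subgroup (↥P ⧸ K)) = (SP : Subgroup ↥P).map π := rfl
  set E₀ := Cfsg.pResidual p (↥P ⧸ K) with hE₀
  haveI hEn : E₀.Normal := inferInstance
  have hTE : (T : Subgroup (↥P ⧸ K)) ⊔ E₀ = ⊤ :=
    Cfsg.Agent.PushRed.le_of_sylow_of_coprime T.not_dvd_index le_sup_left fun y hy =>
      Subgroup.mem_sup_right (Subgroup.subset_closure (((Nat.Prime.coprime_iff_not_dvd hpf.out).2 hy).symm))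
  obtain ⟨F, _, _, a, ha, hmodel⟩ := hrk1
  obtain ⟨b₀⟩ : Nonempty (Cfsg.Agent.RankOneCentre.Borel p ↥E₀) := by
    have hiso : ∀ {E' : Type} [Group E'] [Finite E'], Nonempty (↥E₀ ≃* E') →
        Nonempty (Cfsg.Agent.RankOneCentre.Borel p E') → Nonempty (Cfsg.Agent.RankOneCentre.Borel p ↥E₀) := by
      rintro E' _ _ ⟨e⟩ ⟨b⟩
      have hker : e.symm.toMonoidHom.ker = ⊥ := (MonoidHom.ker_eq_bot_iff _).2 e.symm.injective
      exact ⟨b.map e.symm.toMonoidHom e.symm.surjective (by rw [hker]; exact bot_le)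
        (by rw [hker, Subgroup.card_bot]; exact hpf.out.not_dvd_one)⟩
    rcases hmodel with ⟨hF, hh⟩ | ⟨hF, hh⟩
    · haveI : CharP F p := charP_of_card_eq_prime_pow hF
      rcases hh with hh | hh
      · exact hiso hh (Cfsg.Agent.RankOneCentre.borel_sl2 hp)
      · exact hiso hh (Cfsg.Agent.RankOneCentre.borel_psl2 hp)
    · haveI : CharP F p := charP_of_card_eq_prime_pow hF
      obtain ⟨σ, hu⟩ := Cfsg.Agent.AutPSU.exists_uctx (q := p ^ a) (F := F) (by rw [hF, ← pow_mul, mul_comm])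
      rcases hh with hh | hh
      · exact hiso hh (Cfsg.Agent.RankOneCentre.borel_su3 hu hp ha rfl)
      · exact hiso hh (Cfsg.Agent.RankOneCentre.borel_psu3 hu hp ha rfl)
  set T₀ := (T : Subgroup (↥P ⧸ K)).subgroupOf E₀ with hT₀
  have hT₀p : IsPGroup p T₀ := T.2.comap_of_injective E₀.subtype E₀.subtype_injective
  have hT₀i : ¬ p ∣ T₀.index := by
    have h1 := Cfsg.Agent.Core.card_sup_mul_card_inf (T : Subgroup (↥P ⧸ K)) E₀
    rw [hTE, Subgroup.card_top, ← (T : Subgroup (↥P ⧸ K)).card_mul_index, ← T₀.card_mul_index] at h1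
    have h2 : Nat.card T₀ = Nat.card ↥((T : Subgroup (↥P ⧸ K)) ⊓ E₀) := by
      rw [hT₀, ← Subgroup.inf_subgroupOf_right,
        Nat.card_congr (Subgroup.subgroupOfEquivOfLe (inf_le_right (a := (T : Subgroup (↥P ⧸ K))))).toEquiv]
    have h3 : (T : Subgroup (↥P ⧸ K)).index = T₀.index := by
      rw [h2] at h1
      refine Nat.eq_of_mul_eq_mul_left (Nat.mul_pos (Nat.card_pos (α := (T : Subgroup (↥P ⧸ K))))
        (Nat.card_pos (α := ↥((T : Subgroup (↥P ⧸ K)) ⊓ E₀)))) ?_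
      linear_combination h1
    rw [← h3]
    exact T.not_dvd_index
  obtain ⟨g, hg⟩ := MulAction.exists_smul_eq ↥E₀ (b₀.hU.toSylow b₀.idx) (hT₀p.toSylow hT₀i)
  have hgker : (MulAut.conj g).toMonoidHom.ker = ⊥ :=
    (MonoidHom.ker_eq_bot_iff _).2 (MulAut.conj g).injective
  let b := b₀.map (MulAut.conj g).toMonoidHom (MulAut.conj g).surjective (by rw [hgker]; exact bot_le)
    (by rw [hgker, Subgroup.card_bot]; exact hpf.out.not_dvd_one)
  have hbU : b.U = T₀ := congrArg (fun R : Sylow p ↥E₀ => (R : Subgroup ↥E₀)) hg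
  have hzP : (⟨z, hSP hzS⟩ : ↥P) ∈ (SP : Subgroup ↥P) := hzS
  have h := Cfsg.Agent.RankOneCentre.eq_one_of_central Cfsg.Agent.Core.pCore_quotient_eq_bot T hTE b hbU
    (z := π ⟨z, hSP hzS⟩) ⟨_, hzP, rfl⟩ (Subgroup.mem_centralizer_iff.2 (by
      rintro _ ⟨s, hs, rfl⟩
      rw [← map_mul, ← map_mul]
      exact congrArg π (Subtype.ext (Subgroup.mem_centralizer_iff.1 hzcS _ hs)))) (by
    intro y hy _
    obtain ⟨x, rfl⟩ := QuotientGroup.mk'_surjective K y
    have hxN : (x : G) ∈ Subgroup.normalizer ((S : Subgroup G) : Set G) := by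
      refine Cfsg.Agent.FFStruct.mem_normalizer_of_cj (Subgroup.eq_of_le_of_card_ge ?_
        (Cfsg.Agent.FFStruct.card_cj _ _).ge)
      rintro _ ⟨s, hs, rfl⟩
      have hsP : (⟨s, hSP hs⟩ : ↥P) ∈ (SP : Subgroup ↥P) := hs
      have h1 : π (x * ⟨s, hSP hs⟩ * x⁻¹) ∈ (SP : Subgroup ↥P).map π := by
        rw [map_mul, map_mul, map_inv]
        exact (Subgroup.mem_normalizer_iff.1 hy _).1 ⟨_, hsP, rfl⟩
      have h2 : x * ⟨s, hSP hs⟩ * x⁻¹ ∈ ((SP : Subgroup ↥P).map π).comap π := h1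
      rw [Subgroup.comap_map_eq, hπ, QuotientGroup.ker_mk', sup_eq_left.2 hKS] at h2
      exact h2
    have h3 : (x : G) * z = z * (x : G) := Subgroup.mem_centralizer_iff.1 hzC _ (hNL hxN)
    rw [← map_inv, ← map_mul, ← map_mul]
    refine congrArg π (Subtype.ext ?_)
    show (x : G) * z * (x : G)⁻¹ = z
    rw [h3, mul_inv_cancel_right])
  exact ⟨⟨z, hSP hzS⟩, (QuotientGroup.eq_one_iff _).1 h, rfl⟩

end Cfsg.Agent.S3047
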