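import Cfsg.Statements.S3048
import Cfsg.Agent.S3012
import Cfsg.Agent.Invol.BaerSuzuki
import Cfsg.Agent.Core.PCore
import Cfsg.Agent.Layer.FStar
-- import your own Cfsg.Agent.* helpers here

set_option autoImplicit false
set_option linter.unusedSectionVars false
set_option linter.style.haveILetI false
universe u
open Cfsg

namespace Cfsg.Agent.S3048

open Subgroup
open scoped commutatorElement Pointwise

universe v'

variable {G : Type v'} [Group G] [Finite G]

theorem le_norm {N : Subgroup G} (hN : N.Normal) (H : Subgroup G) : H ≤ normalizer (N : Set G) := by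
  rw [normalizer_eq_top_iff.mpr hN]
  exact le_top

theorem le_normalizer_of_forward {M X : Subgroup G} (h : ∀ x ∈ X, ∀ m ∈ M, x * m * x⁻¹ ∈ M) :
    X ≤ normalizer (M : Set G) := by
  intro x hx
  rw [mem_normalizer_iff]
  intro m
  refine ⟨h x hx m, fun hm => ?_⟩
  have h1 := h x⁻¹ (inv_mem hx) _ hm
  rwa [show x⁻¹ * (x * m * x⁻¹) * x⁻¹⁻¹ = m by group] at h1

theorem fact_two : Fact (Nat.Prime 2) := ⟨Nat.prime_two⟩

theorem eq_one_of_eq_inv {h : G} (hodd : Odd (orderOf h)) (e : h = h⁻¹) : h = 1 := by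
  have h2 : h ^ 2 = 1 := by rw [pow_two]; nth_rewrite 2 [e]; simp
  obtain ⟨m, hm⟩ := exists_pow_eq_self_of_coprime (x := h) (n := 2) (Nat.coprime_two_left.2 hodd)
  rw [← hm, h2, one_pow]

theorem commute_of_sq {w h : G} (hodd : Odd (orderOf h)) (hc : Commute w (h ^ 2)) : Commute w h := by
  obtain ⟨m, hm⟩ := exists_pow_eq_self_of_coprime (x := h) (n := 2) (Nat.coprime_two_left.2 hodd)
  rw [← hm]; exact hc.pow_right m

theorem mem_of_sq {M : Subgroup G} {h : G} (hodd : Odd (orderOf h)) (hc : h ^ 2 ∈ M) : h ∈ M := by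
  obtain ⟨m, hm⟩ := exists_pow_eq_self_of_coprime (x := h) (n := 2) (Nat.coprime_two_left.2 hodd)
  rw [← hm]; exact pow_mem hc m

/-- squares of elements of `N ⊔ U` lie in `N` when `U` has exponent two and normalises `N` -/
theorem sq_mem {N U : Subgroup G} (hUN : U ≤ normalizer (N : Set G)) (hU : ∀ u ∈ U, u ^ 2 = 1)
    {k : G} (hk : k ∈ N ⊔ U) : k ^ 2 ∈ N := by
  rw [← SetLike.mem_coe, coe_mul_of_right_le_normalizer_left _ _ hUN, Set.mem_mul] at hk
  obtain ⟨a, ha, u, hu, rfl⟩ := hk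
  have h1 : (a * u) ^ 2 = a * (u * a * u⁻¹) * u ^ 2 := by simp [pow_two, mul_assoc]
  rw [h1, hU u hu, mul_one]
  exact mul_mem ha ((mem_normalizer_iff.mp (hUN hu) a).mp ha)

/-- the 2-core of a subgroup centralises the normalised subgroups with trivial 2-core -/
theorem core_centralizes {K S : Subgroup G} (hSK : S ≤ K) (hKS : K ≤ normalizer (S : Set G))
    (hS : ∀ T : Subgroup G, T ≤ S → S ≤ normalizer (T : Set G) → IsPGroup 2 T → T = ⊥)
    {x y : G} (hx : x ∈ (pCore 2 K).map K.subtype) (hy : y ∈ S) : Commute x y := by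
  haveI := fact_two
  set Q := (pCore 2 K).map K.subtype with hQ
  have hQK : Q ≤ K := map_subtype_le _
  have hKQ : K ≤ normalizer (Q : Set G) := by
    intro k hk
    rw [mem_normalizer_iff]
    intro q
    constructor
    · rintro ⟨r, hr, rfl⟩
      exact ⟨⟨k, hk⟩ * r * ⟨k, hk⟩⁻¹, Core.pCore_normal.conj_mem _ hr _, rfl⟩
    · rintro ⟨r, hr, e⟩
      exact ⟨⟨k, hk⟩⁻¹ * r * ⟨k, hk⟩, Core.pCore_normal.conj_mem' _ hr _, by
        show k⁻¹ * (r : G) * k = q
        have e' : (r : G) = k * q * k⁻¹ := e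
        rw [e']; group⟩
  have hbot : Q ⊓ S = ⊥ := by
    refine hS _ inf_le_right (fun s hs => ?_) ((Core.pCore_isPGroup.map _).to_le inf_le_left)
    rw [mem_normalizer_iff]
    intro q
    rw [mem_inf, mem_inf, mem_normalizer_iff.mp (hKQ (hSK hs)) q,
      mem_normalizer_iff.mp (le_normalizer hs) q]
  refine commutatorElement_eq_one_iff_mul_comm.mp (mem_bot.mp (hbot ▸ mem_inf.mpr ⟨?_, ?_⟩))
  · rw [commutatorElement_def, mul_assoc x y, mul_assoc x]
    exact mul_mem hx ((mem_normalizer_iff.mp (hKQ (hSK hy)) x⁻¹).mp (inv_mem hx))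
  · rw [commutatorElement_def]
    exact mul_mem ((mem_normalizer_iff.mp (hKS (hQK hx)) y).mp hy) (inv_mem hy)

theorem main (V : Subgroup G) (hV : Cfsg.IsElementaryAbelian 2 V) (hV1 : V ≠ ⊥)
    (hS : Cfsg.IsSidkiPair V) (hVO : V ⊓ Cfsg.pCore 2 G = ⊥)
    (hminG : ∀ (H : Type v') [Group H] [Finite H] (W : Subgroup H), Nat.card H < Nat.card G →
      Cfsg.IsElementaryAbelian 2 W → W ≠ ⊥ → Cfsg.IsSidkiPair W → W ⊓ Cfsg.pCore 2 H ≠ ⊥)
    (hminV : ∀ W : Subgroup G, Nat.card W < Nat.card V → Cfsg.IsElementaryAbelian 2 W → W ≠ ⊥ →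
      Cfsg.IsSidkiPair W → W ⊓ Cfsg.pCore 2 G ≠ ⊥) :
    IsSimpleGroup ↥(Cfsg.generalizedFittingSubgroup G) ∧
      ¬ IsMulCommutative ↥(Cfsg.generalizedFittingSubgroup G) ∧
      V ⊔ Cfsg.generalizedFittingSubgroup G = ⊤ := by
  classical
  haveI := fact_two
  have hsq : ∀ v ∈ V, v ^ 2 = 1 := hV.2
  have hinvV : ∀ v ∈ V, v⁻¹ = v := fun v hv =>
    inv_eq_of_mul_eq_one_right (by rw [← pow_two]; exact hsq v hv)
  have hcomm : ∀ a ∈ V, ∀ b ∈ V, Commute a b := fun a ha b hb =>
    congrArg Subtype.val (hV.1.is_comm.comm (⟨a, ha⟩ : V) ⟨b, hb⟩)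
  have hElem : ∀ U : Subgroup G, U ≤ V → Cfsg.IsElementaryAbelian 2 U := fun U hU =>
    ⟨⟨⟨fun a b => Subtype.ext (hcomm _ (hU a.2) _ (hU b.2)).eq⟩⟩, fun a ha => hsq a (hU ha)⟩
  -- induction in proper subgroups
  have meets : ∀ K U : Subgroup G, U ≤ K → U ≤ V → U ≠ ⊥ → K ≠ ⊤ →
      (∀ h ∈ K, ∀ v ∈ U, Odd (orderOf h) → v * h * v⁻¹ = h⁻¹ → ∃ w ∈ U, w ≠ 1 ∧ w * h = h * w) →
      ∃ u ∈ U, u ≠ 1 ∧ u ∈ (pCore 2 K).map K.subtype := by
    intro K U hUK hUV hU1 hK hsid
    have hlt : Nat.card K < Nat.card G := lt_of_le_of_ne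
      (Nat.le_of_dvd Nat.card_pos (card_subgroup_dvd_card K)) fun e => hK (eq_top_of_card_eq K e)
    have hel : Cfsg.IsElementaryAbelian 2 (U.subgroupOf K) := by
      refine ⟨⟨⟨fun a b => Subtype.ext (Subtype.ext ?_)⟩⟩, fun a ha => Subtype.ext ?_⟩
      · exact (hcomm _ (hUV a.2) _ (hUV b.2)).eq
      · exact hsq _ (hUV ha)
    have hne : U.subgroupOf K ≠ ⊥ := by
      intro e
      refine hU1 ((eq_bot_iff_forall _).mpr fun x hx => ?_)
      have h0 : (⟨x, hUK hx⟩ : K) = 1 := by rw [← mem_bot, ← e]; exact hx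
      exact congrArg Subtype.val h0
    have hsid' : Cfsg.IsSidkiPair (U.subgroupOf K) := by
      intro h v hv hodd hinv
      obtain ⟨w, hw, hw1, hwh⟩ := hsid h h.2 v hv (by rwa [Subgroup.orderOf_coe])
        (congrArg Subtype.val hinv)
      exact ⟨⟨w, hUK hw⟩, hw, fun e => hw1 (congrArg Subtype.val e), Subtype.ext hwh⟩
    obtain ⟨⟨x, hx⟩, hx1⟩ := ne_bot_iff_exists_ne_one.mp (hminG ↥K _ hlt hel hne hsid')
    exact ⟨x, hx.1, fun e => hx1 (Subtype.ext (Subtype.ext e)), ⟨x, hx.2, rfl⟩⟩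
  have hSV : ∀ K : Subgroup G, ∀ h ∈ K, ∀ v ∈ V, Odd (orderOf h) → v * h * v⁻¹ = h⁻¹ →
      ∃ w ∈ V, w ≠ 1 ∧ w * h = h * w := fun K h _ v hv ho hi => hS h v hv ho hi
  -- the 2-core is trivial
  have hO : pCore 2 G = ⊥ := by
    by_contra hne
    haveI : (pCore 2 G).Normal := Core.pCore_normal
    have hlt : Nat.card (G ⧸ pCore 2 G) < Nat.card G := by
      rw [← index_eq_card, ← (pCore 2 G).card_mul_index]
      exact lt_mul_of_one_lt_left (Nat.pos_of_ne_zero index_ne_zero_of_finite)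
        (one_lt_card_iff_ne_bot _ |>.mpr hne)
    have hel : Cfsg.IsElementaryAbelian 2 (V.map (QuotientGroup.mk' (pCore 2 G))) := by
      refine ⟨⟨⟨?_⟩⟩, ?_⟩
      · rintro ⟨_, a, ha, rfl⟩ ⟨_, b, hb, rfl⟩
        exact Subtype.ext ((hcomm a ha b hb).map (QuotientGroup.mk' (pCore 2 G))).eq
      · rintro _ ⟨a, ha, rfl⟩
        rw [← map_pow, hsq a ha, map_one]
    have hne' : V.map (QuotientGroup.mk' (pCore 2 G)) ≠ ⊥ := by
      rw [Ne, Subgroup.map_eq_bot_iff, QuotientGroup.ker_mk']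
      exact fun hle => hV1 (by rw [← hVO, inf_eq_left.mpr hle])
    have := hminG _ _ hlt hel hne' (S3012.result V (pCore 2 G) hV hV1 hS hVO)
    rw [Core.pCore_quotient_eq_bot, inf_bot_eq] at this
    exact this rfl
  have hnop : ∀ T : Subgroup G, T.Normal → IsPGroup 2 T → T = ⊥ := fun T hT hTp =>
    le_bot_iff.mp (hO ▸ Core.le_pCore hTp)
  -- normal subgroups have trivial 2-core
  have hnop' : ∀ N : Subgroup G, N.Normal → ∀ T : Subgroup G, T ≤ N → N ≤ normalizer (T : Set G) →
      IsPGroup 2 T → T = ⊥ := by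
    intro N hN T hTN hNT hTp
    have hn := normal_subgroupOf_of_le_normalizer hNT
    have h2 : T.IsSubnormal := map_subgroupOf_eq_of_le hTN ▸ hn.isSubnormal.trans' hN.isSubnormal
    exact le_bot_iff.mp (hO ▸ Layer.subnormal_le_pCore h2 hTp)
  have hVZ : ∀ u ∈ V, u ∈ center G → u = 1 := by
    intro u hu huc
    have hn : (zpowers u).Normal := ⟨fun a ha g => by
      rw [mem_center_iff.mp ((zpowers_le.mpr huc) ha) g, mul_inv_cancel_right]; exact ha⟩
    have hp : IsPGroup 2 (zpowers u) := IsPGroup.iff_card.mpr (by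
      rw [Nat.card_zpowers]
      obtain ⟨k, -, hk⟩ := (Nat.dvd_prime_pow Nat.prime_two).mp
        (show orderOf u ∣ 2 ^ 1 by simpa using orderOf_dvd_of_pow_eq_one (hsq u hu))
      exact ⟨k, hk⟩)
    exact zpowers_eq_bot.mp (hnop _ hn hp)
  -- a normal subgroup not supplemented by `V` is centralised by `V`
  have key : ∀ N : Subgroup G, N.Normal → N ⊔ V ≠ ⊤ → V ≤ centralizer (N : Set G) := by
    intro N hN hNV
    set C := centralizer (N : Set G) with hC
    haveI : C.Normal := by rw [hC]; infer_instance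
    have hW1 : V ⊓ C ≠ ⊥ := by
      obtain ⟨u, hu, hu1, huc⟩ := meets (N ⊔ V) V le_sup_right le_rfl hV1 hNV (hSV _)
      intro e
      refine hu1 (mem_bot.mp (e ▸ mem_inf.mpr ⟨hu, mem_centralizer_iff.mpr fun y hy => ?_⟩))
      exact (core_centralizes le_sup_left (le_norm hN _) (hnop' N hN) huc hy).eq.symm
    have hWS : Cfsg.IsSidkiPair (V ⊓ C) := by
      intro h w hw hodd hinv
      have hhC : h ∈ C := by
        refine mem_of_sq hodd ?_
        have h1 : w * (h * w⁻¹ * h⁻¹) ∈ C := mul_mem hw.2 (Normal.conj_mem inferInstance _ (inv_mem hw.2) h)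
        rw [show w * (h * w⁻¹ * h⁻¹) = (w * h * w⁻¹) * h⁻¹ by group, hinv,
          show h⁻¹ * h⁻¹ = (h ^ 2)⁻¹ by group] at h1
        simpa using inv_mem h1
      set U := V ⊓ centralizer ({h} : Set G) with hU
      have hU1 : U ≠ ⊥ := by
        obtain ⟨z, hz, hz1, hzh⟩ := hS h w hw.1 hodd hinv
        exact fun e => hz1 (mem_bot.mp (e ▸ mem_inf.mpr ⟨hz, mem_centralizer_singleton_iff.mpr hzh⟩))
      by_contra hcon
      push Not at hcon
      obtain ⟨u, hu, hu1, huc⟩ := meets (N ⊔ U) U le_sup_right inf_le_left hU1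
        (fun e => hNV (top_le_iff.mp (e ▸ sup_le_sup_left inf_le_left N))) (by
        intro y hy v hv hyodd hvy
        have hyN : y ∈ N := mem_of_sq hyodd
          (sq_mem (U := U) (le_norm hN _) (fun u hu => hsq u hu.1) hy)
        have hhy : Commute h y := (mem_centralizer_iff.mp hhC y hyN).symm
        have hvh : v * h * v⁻¹ = h := by
          rw [mem_centralizer_singleton_iff.mp hv.2, mul_inv_cancel_right]
        have hwy : w * y * w⁻¹ = y := by
          rw [← mem_centralizer_iff.mp hw.2 y hyN, mul_inv_cancel_right]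
        have hinv2 : (w * v) * (h * y) * (w * v)⁻¹ = (h * y)⁻¹ := by
          rw [show (w * v) * (h * y) * (w * v)⁻¹ =
              w * ((v * h * v⁻¹) * (v * y * v⁻¹)) * w⁻¹ by group, hvh, hvy,
            show w * (h * y⁻¹) * w⁻¹ = (w * h * w⁻¹) * (w * y * w⁻¹)⁻¹ by group, hinv, hwy,
            mul_inv_rev]
          exact (hhy.inv_inv).eq
        obtain ⟨z, hz, hz1, hzhy⟩ := hS (h * y) (w * v) (mul_mem hw.1 hv.1)
          (Odd.of_dvd_nat (hodd.mul hyodd) hhy.orderOf_mul_dvd_mul_orderOf) hinv2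
        have hz2 : Commute z (h⁻¹ * y) := by
          have h1 := Commute.map (show Commute z (h * y) from hzhy) (MulAut.conj w)
          simp only [MulAut.conj_apply] at h1
          rwa [show w * z * w⁻¹ = z by rw [(hcomm w hw.1 z hz).eq, mul_inv_cancel_right],
            show w * (h * y) * w⁻¹ = (w * h * w⁻¹) * (w * y * w⁻¹) by group, hinv, hwy] at h1
        have hzy : Commute z y := by
          refine commute_of_sq hyodd ?_
          have h3 := (show Commute z (h * y) from hzhy).mul_right hz2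
          have e : h * y * (h⁻¹ * y) = y ^ 2 := by
            rw [hhy.eq, mul_assoc, mul_inv_cancel_left, pow_two]
          rwa [e] at h3
        have hzh : Commute z h := by
          have h4 := (show Commute z (h * y) from hzhy).mul_right hzy.inv_right
          rwa [mul_inv_cancel_right] at h4
        exact ⟨z, mem_inf.mpr ⟨hz, mem_centralizer_singleton_iff.mpr hzh.eq⟩, hz1, hzy.eq⟩)
      refine hcon u (mem_inf.mpr ⟨hu.1, mem_centralizer_iff.mpr fun y hy => ?_⟩) hu1
        (mem_centralizer_singleton_iff.mp hu.2)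
      exact (core_centralizes le_sup_left (le_norm hN _) (hnop' N hN) huc hy).eq.symm
    have hWV : V ⊓ C = V := by
      refine eq_of_le_of_card_ge inf_le_left ?_
      by_contra hlt
      refine hminV (V ⊓ C) (not_le.mp hlt) (hElem _ inf_le_left) hW1 hWS ?_
      rw [hO, inf_bot_eq]
    exact hWV ▸ inf_le_right
  have hcen : center G = ⊥ := by
    by_contra hZ
    have hlt : Nat.card (G ⧸ center G) < Nat.card G := by
      rw [← index_eq_card, ← (center G).card_mul_index]
      exact lt_mul_of_one_lt_left (Nat.pos_of_ne_zero index_ne_zero_of_finite)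
        (one_lt_card_iff_ne_bot _ |>.mpr hZ)
    set f := QuotientGroup.mk' (center G) with hf
    have hVZ' : V ⊓ center G = ⊥ := (eq_bot_iff_forall _).mpr fun u hu => hVZ u hu.1 hu.2
    have hel : Cfsg.IsElementaryAbelian 2 (V.map f) := by
      refine ⟨⟨⟨?_⟩⟩, ?_⟩
      · rintro ⟨_, a, ha, rfl⟩ ⟨_, b, hb, rfl⟩
        exact Subtype.ext ((hcomm a ha b hb).map f).eq
      · rintro _ ⟨a, ha, rfl⟩
        rw [← map_pow, hsq a ha, map_one]
    have hne' : V.map f ≠ ⊥ := by
      rw [Ne, Subgroup.map_eq_bot_iff, hf, QuotientGroup.ker_mk']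
      exact fun hle => hV1 (by rw [← hVZ', inf_eq_left.mpr hle])
    have hmeet := hminG _ _ hlt hel hne' (S3012.result V (center G) hV hV1 hS hVZ')
    obtain ⟨⟨_, hq⟩, hq1⟩ := ne_bot_iff_exists_ne_one.mp hmeet
    obtain ⟨⟨v, hv, rfl⟩, hvc⟩ := mem_inf.mp hq
    have hv1 : v ≠ 1 := fun e => hq1 (Subtype.ext (by simp [e]))
    obtain ⟨g, h, hh1, hodd, hvh, hmem⟩ := Invol.exists_inverted_odd
      (orderOf_eq_prime (hsq v hv) hv1) fun T hT hTp hvT => hv1 (mem_bot.mp (hnop T hT hTp ▸ hvT))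
    have hfh : f h ∈ pCore 2 (G ⧸ center G) := by
      obtain ⟨j, hj⟩ := mem_zpowers_iff.mp hmem
      rw [← hj, map_zpow, map_mul, map_mul, map_mul, map_inv]
      exact zpow_mem (mul_mem hvc (Core.pCore_normal.conj_mem _ hvc _)) j
    obtain ⟨k, hk⟩ := Core.pCore_isPGroup (p := 2) (⟨f h, hfh⟩ : pCore 2 (G ⧸ center G))
    have hk' : h ^ 2 ^ k ∈ center G := by
      rw [← QuotientGroup.eq_one_iff]
      exact congrArg Subtype.val hk
    obtain ⟨m, hm⟩ := exists_pow_eq_self_of_coprime (x := h) (n := 2 ^ k)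
      ((Nat.coprime_two_left.2 hodd).pow_left k)
    have hhc : h ∈ center G := hm ▸ pow_mem hk' m
    refine hh1 (eq_one_of_eq_inv hodd ?_)
    rwa [mem_center_iff.mp hhc v, mul_inv_cancel_right] at hvh
  -- `V` supplements every nontrivial normal subgroup
  have htop : ∀ N : Subgroup G, N.Normal → N ≠ ⊥ → N ⊔ V = ⊤ := by
    intro N hN hN1
    by_contra hNV
    have hVC := key N hN hNV
    by_cases hC : centralizer (N : Set G) = ⊤
    · exact hN1 (le_bot_iff.mp (hcen ▸ fun x hx => mem_center_iff.mpr fun g =>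
        (mem_centralizer_iff.mp (hC ▸ mem_top g) x hx).symm))
    · obtain ⟨u, -, hu1, huc⟩ := meets _ V hVC le_rfl hV1 hC (hSV _)
      haveI : (centralizer (N : Set G)).Normal := inferInstance
      exact hu1 (mem_bot.mp (hnop ((pCore 2 ↥(centralizer (N : Set G))).map (centralizer (N : Set G)).subtype)
        inferInstance (Core.pCore_isPGroup.map _) ▸ huc))
  have hcentral : ∀ N : Subgroup G, N ⊔ V = ⊤ → ∀ u ∈ V, (∀ y ∈ N, Commute y u) → u = 1 := by
    intro N hNV u hu hc
    refine hVZ u hu (mem_center_iff.mpr fun g => ?_)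
    have hle : N ⊔ V ≤ centralizer ({u} : Set G) := sup_le
      (fun y hy => mem_centralizer_singleton_iff.mpr (hc y hy))
      (fun y hy => mem_centralizer_singleton_iff.mpr (hcomm y hy u hu))
    exact mem_centralizer_singleton_iff.mp (hle (hNV ▸ mem_top g))
  haveI : Nontrivial G := by
    by_contra hc
    rw [not_nontrivial_iff_subsingleton] at hc
    exact hV1 ((eq_bot_iff_forall _).mpr fun x _ => Subsingleton.elim _ _)
  obtain ⟨N, -, hN⟩ := (Set.toFinite {M : Subgroup G | M.Normal ∧ M ≠ ⊥}).exists_le_minimal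
    (a := (⊤ : Subgroup G)) ⟨inferInstance, top_ne_bot⟩
  haveI hNn : N.Normal := hN.prop.1
  have hN1 : N ≠ ⊥ := hN.prop.2
  have hNmin : ∀ M : Subgroup G, M.Normal → M ≤ N → M ≠ ⊥ → M = N := fun M h1 h2 h3 =>
    le_antisymm h2 (hN.le_of_le ⟨h1, h3⟩ h2)
  have hNV : N ⊔ V = ⊤ := htop N hNn hN1
  have hnormal : ∀ M : Subgroup G, N ≤ normalizer (M : Set G) → V ≤ normalizer (M : Set G) → M.Normal :=
    fun M h1 h2 => normalizer_eq_top_iff.mp (top_le_iff.mp (hNV ▸ sup_le h1 h2))
  have hNna : ¬ IsMulCommutative N := by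
    intro hab
    have hNc : ∀ a ∈ N, ∀ b ∈ N, Commute a b := fun a ha b hb =>
      congrArg Subtype.val (hab.is_comm.comm (⟨a, ha⟩ : N) ⟨b, hb⟩)
    have hfix : ∀ v ∈ V, v ≠ 1 → ∀ y ∈ N, Commute v y → y = 1 := by
      intro v hv hv1 y hy hvy
      have hCn : (N ⊓ centralizer ({v} : Set G)).Normal := by
        refine hnormal _ (fun n hn => ?_) fun n hn => ?_
        · rw [mem_normalizer_iff]
          intro x
          constructor
          · intro hx
            rwa [(hNc n hn x hx.1).eq, mul_inv_cancel_right]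
          · intro hx
            have hxN : x ∈ N := by simpa [mul_assoc] using hNn.conj_mem' _ hx.1 n
            rwa [(hNc n hn x hxN).eq, mul_inv_cancel_right] at hx
        · rw [mem_normalizer_iff]
          intro x
          have e : n * v * n⁻¹ = v := by rw [(hcomm n hn v hv).eq, mul_inv_cancel_right]
          simp only [mem_inf, mem_centralizer_singleton_iff]
          refine and_congr ⟨fun h => hNn.conj_mem _ h n,
            fun h => by simpa [mul_assoc] using hNn.conj_mem' _ h n⟩ ?_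
          constructor
          · intro h
            exact e ▸ ((show Commute x v from h).map (MulAut.conj n)).eq
          · intro h
            have h' := (show Commute (n * x * n⁻¹) v from h).map (MulAut.conj n⁻¹)
            simp only [MulAut.conj_apply, inv_inv] at h'
            rw [show n⁻¹ * v * n = v by rw [mul_assoc, (hcomm v hv n hn).eq, inv_mul_cancel_left]] at h'
            simpa [mul_assoc] using h'.eq
      by_contra hy1
      have hCN := hNmin _ hCn inf_le_left fun e => hy1 (mem_bot.mp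
        (e ▸ mem_inf.mpr ⟨hy, mem_centralizer_singleton_iff.mpr hvy.eq.symm⟩))
      exact hv1 (hcentral N hNV v hv fun z hz =>
        mem_centralizer_singleton_iff.mp (hCN.ge hz).2)
    obtain ⟨⟨v, hv⟩, hv1⟩ := ne_bot_iff_exists_ne_one.mp hV1
    replace hv1 : v ≠ 1 := fun e => hv1 (Subtype.ext e)
    have hinv : ∀ y ∈ N, v * y * v⁻¹ = y⁻¹ := by
      intro y hy
      have hy' : v * y * v⁻¹ ∈ N := hNn.conj_mem _ hy v
      refine eq_inv_of_mul_eq_one_right (hfix v hv hv1 _ (mul_mem hy hy') ?_)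
      have hvv : v * (v * y * v⁻¹) * v⁻¹ = y := by
        rw [show v * (v * y * v⁻¹) * v⁻¹ = (v * v) * y * (v * v)⁻¹ by group, ← pow_two, hsq v hv]; group
      refine mul_inv_eq_iff_eq_mul.mp ?_
      rw [show v * (y * (v * y * v⁻¹)) * v⁻¹ = (v * y * v⁻¹) * (v * (v * y * v⁻¹) * v⁻¹) by group, hvv]
      exact (hNc _ hy' _ hy).eq
    obtain ⟨⟨y, hy⟩, hy1⟩ := ne_bot_iff_exists_ne_one.mp hN1
    replace hy1 : y ≠ 1 := fun e => hy1 (Subtype.ext e)
    by_cases hodd : Odd (orderOf y)
    · obtain ⟨w, hw, hw1, hwy⟩ := hS y v hv hodd (hinv y hy)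
      exact hy1 (hfix w hw hw1 y hy hwy)
    · rw [Nat.not_odd_iff_even] at hodd
      set t := y ^ (orderOf y / 2) with ht
      have ht2 : orderOf t = 2 := by
        rw [ht, orderOf_pow_of_dvd (Nat.div_ne_zero_iff.mpr ⟨two_ne_zero, Nat.le_of_dvd (orderOf_pos y) hodd.two_dvd⟩)
          (Nat.div_dvd_of_dvd hodd.two_dvd), Nat.div_div_self hodd.two_dvd (orderOf_pos y).ne']
      have htN : t ∈ N := pow_mem hy _
      have ht' : t⁻¹ = t := inv_eq_of_mul_eq_one_right (by rw [← pow_two, ← ht2, pow_orderOf_eq_one])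
      have := hfix v hv hv1 t htN (mul_inv_eq_iff_eq_mul.mp ((hinv t htN).trans ht'))
      rw [this, orderOf_one] at ht2
      exact absurd ht2 (by norm_num)
  -- `N` is simple
  have hsimple : ∀ S : Subgroup G, S ≤ N → N ≤ normalizer (S : Set G) → S ≠ ⊥ →
      (∀ T : Subgroup G, T ≤ S → N ≤ normalizer (T : Set G) → T ≠ ⊥ → T = S) → S = N := by
    intro S hSN hNS hS1 hSmin
    by_contra hne
    let cj : G → Subgroup G := fun w => S.map (MulAut.conj w).toMonoidHom
    have hmem : ∀ w x, x ∈ cj w ↔ w⁻¹ * x * w ∈ S := by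
      intro w x
      simp only [cj, mem_map_equiv, MulAut.conj_symm_apply]
    have hcjN : ∀ w, N ≤ normalizer (cj w : Set G) := by
      intro w n hn
      rw [mem_normalizer_iff]
      intro x
      rw [hmem, hmem, mem_normalizer_iff.mp (hNS (hNn.conj_mem' n hn w)) (w⁻¹ * x * w)]
      rw [show w⁻¹ * n * w * (w⁻¹ * x * w) * (w⁻¹ * n * w)⁻¹ = w⁻¹ * (n * x * n⁻¹) * w by group]
    have hcjle : ∀ w, cj w ≤ N := fun w x hx => by
      have h1 := hNn.conj_mem _ (hSN ((hmem w x).mp hx)) w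
      rwa [show w * (w⁻¹ * x * w) * w⁻¹ = x by group] at h1
    have hdisj : ∀ w, cj w ≠ S → cj w ⊓ S = ⊥ := by
      intro w hw
      by_contra h
      have h1 := hSmin _ inf_le_right (fun n hn => ?_) h
      · refine hw (eq_of_le_of_card_ge (inf_eq_right.mp h1) (le_of_eq ?_)).symm
        exact card_map_of_injective (MulEquiv.injective _)
      · rw [mem_normalizer_iff]
        intro x
        rw [mem_inf, mem_inf, mem_normalizer_iff.mp (hcjN w hn) x, mem_normalizer_iff.mp (hNS hn) x]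
    have hcjcomm : ∀ w, cj w ≠ S → ∀ a ∈ cj w, ∀ b ∈ S, Commute a b := by
      intro w hw a ha b hb
      refine commutatorElement_eq_one_iff_mul_comm.mp (mem_bot.mp (hdisj w hw ▸ mem_inf.mpr ⟨?_, ?_⟩))
      · rw [commutatorElement_def, mul_assoc a b, mul_assoc a]
        exact mul_mem ha ((mem_normalizer_iff.mp (hcjN w (hSN hb)) a⁻¹).mp (inv_mem ha))
      · rw [commutatorElement_def]
        exact mul_mem ((mem_normalizer_iff.mp (hNS (hcjle w ha)) b).mp hb) (inv_mem hb)
    have hnorm : ∀ w, cj w = S → w ∈ normalizer (S : Set G) := by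
      intro w hw
      rw [mem_normalizer_iff]
      intro x
      conv_rhs => rw [← hw]
      rw [hmem, show w⁻¹ * (w * x * w⁻¹) * w = x by group]
    obtain ⟨v, hv, hvS⟩ : ∃ v ∈ V, cj v ≠ S := by
      by_contra hcon
      push Not at hcon
      exact hne (hNmin S (hnormal S hNS fun w hw => hnorm w (hcon w hw)) hSN hS1)
    have hclos : normalClosure (S : Set G) = N := hNmin _ inferInstance
      (normalClosure_le_normal hSN) fun e => hS1 (le_bot_iff.mp (e ▸ subset_normalClosure))
    have hconj : ∀ a ∈ Group.conjugatesOfSet (S : Set G), ∃ w ∈ V, a ∈ cj w := by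
      intro a ha
      obtain ⟨s, hs, hsa⟩ := Group.mem_conjugatesOfSet_iff.mp ha
      obtain ⟨g, rfl⟩ := isConj_iff.mp hsa
      have hg : g ∈ ((V ⊔ N : Subgroup G) : Set G) := by rw [sup_comm, hNV]; trivial
      rw [mul_normal, Set.mem_mul] at hg
      obtain ⟨w, hw, n, hn, rfl⟩ := hg
      refine ⟨w, hw, (hmem _ _).mpr ?_⟩
      rw [show w⁻¹ * (w * n * s * (w * n)⁻¹) * w = n * s * n⁻¹ by group]
      exact (mem_normalizer_iff.mp (hNS hn) s).mp hs
    have hSna : ∃ a ∈ S, ∃ b ∈ S, a * b ≠ b * a := by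
      by_contra hcon
      push Not at hcon
      refine hNna ?_
      rw [← hclos]
      refine isMulCommutative_closure fun a ha b hb => ?_
      obtain ⟨w, hw, haw⟩ := hconj a ha
      obtain ⟨x, hx, hbx⟩ := hconj b hb
      rw [hmem] at haw hbx
      have key2 : Commute (w⁻¹ * a * w) (w⁻¹ * b * w) := by
        by_cases he : cj (w⁻¹ * x) = S
        · refine hcon _ haw _ ?_
          rw [← he, hmem]
          rwa [show (w⁻¹ * x)⁻¹ * (w⁻¹ * b * w) * (w⁻¹ * x) = x⁻¹ * b * x by group]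
        · refine (hcjcomm _ he _ ?_ _ haw).symm
          rw [hmem]
          rwa [show (w⁻¹ * x)⁻¹ * (w⁻¹ * b * w) * (w⁻¹ * x) = x⁻¹ * b * x by group]
      have := key2.map (MulAut.conj w)
      simpa [mul_assoc] using this.eq
    have hZS : ∀ a ∈ S, (∀ b ∈ S, Commute a b) → a = 1 := by
      intro a ha hc
      by_contra ha1
      have h1 := hSmin (S ⊓ centralizer (S : Set G)) inf_le_left (fun n hn => ?_) fun e => ha1
        (mem_bot.mp (e ▸ mem_inf.mpr ⟨ha, mem_centralizer_iff.mpr fun b hb => (hc b hb).eq.symm⟩))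
      · obtain ⟨b, hb, c, hc', hbc⟩ := hSna
        exact hbc ((mem_centralizer_iff.mp (h1.ge hb).2 c hc').symm)
      · refine le_normalizer_of_forward (M := S ⊓ centralizer (S : Set G)) (X := N) (fun n hn x hx => ?_) hn
        refine mem_inf.mpr ⟨(mem_normalizer_iff.mp (hNS hn) x).mp hx.1, mem_centralizer_iff.mpr fun b hb => ?_⟩
        have hb' : n⁻¹ * b * n ∈ S := (mem_normalizer_iff''.mp (hNS hn) b).mp hb
        have h2 : Commute (n⁻¹ * b * n) x := mem_centralizer_iff.mp hx.2 _ hb'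
        have h3 := h2.map (MulAut.conj n)
        simpa [mul_assoc] using h3.eq
    have hScore : ∀ T : Subgroup G, T ≤ S → S ≤ normalizer (T : Set G) → IsPGroup 2 T → T = ⊥ := by
      intro T hTS hST hTp
      haveI hTn := normal_subgroupOf_of_le_normalizer hST
      haveI hSn := normal_subgroupOf_of_le_normalizer hNS
      have h1 : S.IsSubnormal := map_subgroupOf_eq_of_le hSN ▸ hSn.isSubnormal.trans' hNn.isSubnormal
      have h2 : T.IsSubnormal := map_subgroupOf_eq_of_le hTS ▸ hTn.isSubnormal.trans' h1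
      exact le_bot_iff.mp (hO ▸ Layer.subnormal_le_pCore h2 hTp)
    obtain ⟨s, hsS, hs1, hsodd⟩ : ∃ s ∈ S, s ≠ 1 ∧ Odd (orderOf s) := by
      by_contra hcon
      push Not at hcon
      refine hS1 (hScore S le_rfl le_normalizer (IsPGroup.iff_orderOf.mpr fun x => ?_))
      set a := (orderOf (x : G)).factorization 2
      refine ⟨a, ?_⟩
      have h1 : orderOf ((x : G) ^ 2 ^ a) = orderOf (x : G) / 2 ^ a :=
        orderOf_pow_of_dvd (by positivity) (Nat.ordProj_dvd _ _)
      by_cases h2 : (x : G) ^ 2 ^ a = 1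
      · rw [← Subgroup.orderOf_coe]
        exact Nat.dvd_antisymm (orderOf_dvd_of_pow_eq_one h2) (Nat.ordProj_dvd _ _)
      · exfalso
        refine hcon _ (pow_mem x.2 _) h2 ?_
        rw [h1]
        exact Nat.coprime_two_left.1 (Nat.coprime_ordCompl Nat.prime_two (orderOf_pos _).ne')
    set V0 := V ⊓ normalizer (S : Set G) with hV0
    have hb : v * s⁻¹ * v⁻¹ ∈ cj v := by
      rw [hmem, show v⁻¹ * (v * s⁻¹ * v⁻¹) * v = s⁻¹ by group]; exact inv_mem hsS
    have hsb : Commute (v * s⁻¹ * v⁻¹) s := hcjcomm v hvS _ hb _ hsS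
    have hV01 : V0 ≠ ⊥ := by
      set x := s * (v * s⁻¹ * v⁻¹) with hx
      have hvx : v * x * v⁻¹ = x⁻¹ := by
        rw [hx, show v * (s * (v * s⁻¹ * v⁻¹)) * v⁻¹ = v * s * v⁻¹ * (v ^ 2 * s⁻¹ * (v ^ 2)⁻¹) by group,
          hsq v hv]
        group
      have hxodd : Odd (orderOf x) := by
        refine Odd.of_dvd_nat (hsodd.mul ?_) hsb.symm.orderOf_mul_dvd_mul_orderOf
        rwa [show v * s⁻¹ * v⁻¹ = MulAut.conj v s⁻¹ from rfl, MulEquiv.orderOf_eq, orderOf_inv]
      obtain ⟨w, hw, hw1, hwx⟩ := hS x v hv hxodd hvx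
      have hw' : cj w = S ∨ cj w = cj v := by
        by_contra hcon
        push Not at hcon
        obtain ⟨c, hc, hcs⟩ : ∃ c ∈ S, ¬ Commute s c := by
          by_contra h
          push Not at h
          exact hs1 (hZS s hsS h)
        have h1 : w * c * w⁻¹ ∈ cj w := by
          rw [hmem, show w⁻¹ * (w * c * w⁻¹) * w = c by group]; exact hc
        have h2 : Commute (w * c * w⁻¹) (v * s⁻¹ * v⁻¹) := by
          have hne' : cj (v⁻¹ * w) ≠ S := fun e => hcon.2 (by
            ext z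
            rw [hmem v, ← e, hmem, hmem]
            rw [show (v⁻¹ * w)⁻¹ * (v⁻¹ * z * v) * (v⁻¹ * w) = w⁻¹ * z * w by group])
          have h3 : Commute (v⁻¹ * (w * c * w⁻¹) * v) s⁻¹ := by
            refine hcjcomm _ hne' _ ?_ _ (inv_mem hsS)
            rw [hmem, show (v⁻¹ * w)⁻¹ * (v⁻¹ * (w * c * w⁻¹) * v) * (v⁻¹ * w) = c by group]
            exact hc
          have h4 := h3.map (MulAut.conj v)
          simpa [mul_assoc] using h4
        have h5 : Commute (w * c * w⁻¹) x := (hcjcomm w hcon.1 _ h1 _ hsS).mul_right h2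
        have h6 : Commute c x := by
          have h7 : w * x * w⁻¹ = x := by rw [hwx, mul_inv_cancel_right]
          rw [← h7] at h5
          have h8 := h5.map (MulAut.conj w⁻¹)
          simpa [mul_assoc] using h8
        refine hcs ?_
        have h9 := h6.mul_right ((hcjcomm v hvS _ hb _ hc).symm.inv_right)
        rw [hx, mul_inv_cancel_right] at h9
        exact h9.symm
      intro e
      rcases hw' with hw' | hw'
      · exact hw1 (mem_bot.mp (e ▸ mem_inf.mpr ⟨hw, hnorm w hw'⟩))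
      · have h1 : v⁻¹ * w = 1 := mem_bot.mp (e ▸ mem_inf.mpr ⟨mul_mem (inv_mem hv) hw, hnorm _ (by
          ext z
          rw [hmem, show (v⁻¹ * w)⁻¹ * z * (v⁻¹ * w) = w⁻¹ * (v * z * v⁻¹) * w by group, ← hmem w, hw', hmem,
            show v⁻¹ * (v * z * v⁻¹) * v = z by group])⟩)
        rw [inv_mul_eq_one] at h1
        rw [← h1] at hwx
        rw [hwx, mul_inv_cancel_right] at hvx
        have hx1 : x = 1 := eq_one_of_eq_inv hxodd hvx
        refine hs1 (mem_bot.mp (hdisj v hvS ▸ mem_inf.mpr ⟨?_, hsS⟩))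
        rw [eq_inv_of_mul_eq_one_left hx1]
        exact inv_mem hb
    have hKn : S ⊔ V0 ≤ normalizer (S : Set G) := sup_le le_normalizer inf_le_right
    have hK : S ⊔ V0 ≠ ⊤ := fun e =>
      hne (hNmin S (normalizer_eq_top_iff.mp (top_le_iff.mp (e ▸ hKn))) hSN hS1)
    obtain ⟨u, hu, hu1, huc⟩ := meets (S ⊔ V0) V0 le_sup_right inf_le_left hV01 hK (by
      intro y hy w hw hodd hwy
      have hyS : y ∈ S := mem_of_sq hodd (sq_mem inf_le_right (fun u hu => hsq u hu.1) hy)
      by_cases hy1 : y = 1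
      · obtain ⟨⟨z, hz⟩, hz1⟩ := ne_bot_iff_exists_ne_one.mp hV01
        exact ⟨z, hz, fun e => hz1 (Subtype.ext e), by simp [hy1]⟩
      obtain ⟨z, hz, hz1, hzy⟩ := hS y w hw.1 hodd hwy
      refine ⟨z, mem_inf.mpr ⟨hz, hnorm z ?_⟩, hz1, hzy⟩
      by_contra hzS
      refine hy1 (mem_bot.mp (hdisj z hzS ▸ mem_inf.mpr ⟨?_, hyS⟩))
      rwa [hmem, mul_assoc, ← hzy, inv_mul_cancel_left])
    refine hu1 (hcentral N hNV u hu.1 fun y hy => ?_)
    have hle : N ≤ centralizer ({u} : Set G) := by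
      rw [← hclos, normalClosure, closure_le]
      intro a ha
      obtain ⟨w, hw, haw⟩ := hconj a ha
      rw [hmem] at haw
      have h1 := (core_centralizes le_sup_left hKn hScore huc haw).map (MulAut.conj w)
      simp only [MulAut.conj_apply] at h1
      rw [(hcomm w hw u hu.1).eq, mul_inv_cancel_right] at h1
      refine mem_centralizer_singleton_iff.mpr ?_
      simpa [mul_assoc] using h1.eq.symm
    exact mem_centralizer_singleton_iff.mp (hle hy)
  haveI : Nontrivial N := nontrivial_iff_ne_bot _ |>.mpr hN1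
  haveI hNs : IsSimpleGroup N := by
    refine ⟨fun M hM => ?_⟩
    by_contra hcon
    push Not at hcon
    have hM' : N ≤ normalizer (M.map N.subtype : Set G) := by
      have h := le_normalizer_map (H := M) N.subtype
      rwa [normalizer_eq_top_iff.mpr hM, ← MonoidHom.range_eq_map, range_subtype] at h
    obtain ⟨S, hSM, hSm⟩ := (Set.toFinite {T : Subgroup G | T ≤ N ∧ N ≤ normalizer (T : Set G) ∧ T ≠ ⊥}).exists_le_minimal
      (a := M.map N.subtype) ⟨map_subtype_le _, hM',
        fun e => hcon.1 ((map_eq_bot_iff_of_injective _ N.subtype_injective).mp e)⟩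
    have hSN := hsimple S hSm.prop.1 hSm.prop.2.1 hSm.prop.2.2 fun T h1 h2 h3 =>
      le_antisymm h1 (hSm.le_of_le ⟨h1.trans hSm.prop.1, h2, h3⟩ h1)
    refine hcon.2 (eq_top_iff.mpr fun x _ => ?_)
    obtain ⟨y, hy, e⟩ := hSM (hSN.symm ▸ x.2 : (x : G) ∈ S)
    exact (Subtype.ext e : y = x) ▸ hy
  have hperf : Group.IsPerfect N := by
    refine Group.isPerfect_def.mpr ((hNs.eq_bot_or_eq_top_of_normal _ inferInstance).resolve_left fun h => ?_)
    refine hNna ⟨⟨fun a b => ?_⟩⟩
    exact commutatorElement_eq_one_iff_mul_comm.mp (mem_bot.mp (h ▸ by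
      rw [_root_.commutator_def]; exact commutator_mem_commutator (mem_top a) (mem_top b)))
  have hZN : ∀ a : N, a ∈ center N → a = 1 := by
    intro a ha
    rcases hNs.eq_bot_or_eq_top_of_normal (center N) inferInstance with h | h
    · exact mem_bot.mp (h ▸ ha)
    · exact absurd ⟨⟨fun b c => mem_center_iff.mp (h ▸ mem_top c) b⟩⟩ hNna
  have hCN : centralizer (N : Set G) = ⊥ := by
    by_contra hne
    have hC := htop _ inferInstance hne
    refine hNna ?_
    have hsq2 : ∀ n : N, n * n = 1 := fun n => hZN _ (mem_center_iff.mpr fun b => Subtype.ext ?_)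
    · exact ⟨⟨fun a b => by
        have hi : ∀ c : N, c⁻¹ = c := fun c => inv_eq_of_mul_eq_one_right (hsq2 c)
        rw [← hi (a * b), mul_inv_rev, hi, hi]⟩⟩
    · have h1 := sq_mem (le_norm (N := centralizer (N : Set G)) inferInstance _) hsq (k := (n : G))
        (N := centralizer (N : Set G)) (hC ▸ mem_top _)
      rw [pow_two] at h1
      exact mem_centralizer_iff.mp h1 b b.2
  have hNcomp : Cfsg.IsComponent N := ⟨hNn.isSubnormal,
    Layer.isQuasisimple_of_normal_cases hperf fun M hM =>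
      (hNs.eq_bot_or_eq_top_of_normal M hM).symm.imp id fun h => h.le.trans bot_le⟩
  have hF : Cfsg.generalizedFittingSubgroup G = N := by
    refine le_antisymm (sup_le (sSup_le fun K hK => ?_) ?_)
      ((Layer.component_le_layer hNcomp).trans Layer.layer_le_generalizedFitting)
    · by_contra hle
      have hKC : K ≤ centralizer (N : Set G) := commutator_eq_bot_iff_le_centralizer.mp
        (Layer.components_commute hK hNcomp fun e => hle e.le)
      exact Layer.qs_subgroup_ne_bot hK.2 (le_bot_iff.mp (hCN ▸ hKC))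
    · haveI := Core.fittingSubgroup_normal (G := G)
      have hd : Cfsg.fittingSubgroup G ⊓ N = ⊥ := by
        by_contra h
        have hle : N ≤ Cfsg.fittingSubgroup G := inf_eq_right.mp (hNmin _ inferInstance inf_le_right h)
        haveI := Core.isNilpotent_mono Core.fittingSubgroup_isNilpotent hle
        exact Layer.qs_not_isSolvable hNcomp.2 inferInstance
      have hle : Cfsg.fittingSubgroup G ≤ centralizer (N : Set G) :=
        commutator_eq_bot_iff_le_centralizer.mp (le_bot_iff.mp (hd ▸ commutator_le_inf _ _))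
      exact hle.trans (hCN ▸ bot_le)
  rw [hF]
  exact ⟨hNs, hNna, sup_comm V N ▸ hNV⟩

/-- Minimal counterexample reduction for the Sidki pair problem. Let G be a finite group and V a nontrivial elementary abelian 2-subgroup satisfying the Sidki pair condition with V ∩ O₂(G) = 1. Suppose that for every finite group H of smaller order, every nontrivial elementary abelian 2-subgroup W of H satisfying the Sidki pair condition meets O₂(H) nontrivially, and that the same holds in G for every such subgroup W of order smaller than that of V. Then the generalized Fitting subgroup F*(G) is a non-abelian simple group and G = V F*(G). -/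
theorem result {G : Type u} [Group G] [Finite G] (V : Subgroup G) (hV : Cfsg.IsElementaryAbelian 2 V) (hV1 : V ≠ ⊥) (hS : Cfsg.IsSidkiPair V) (hVO : V ⊓ Cfsg.pCore 2 G = ⊥) (hminG : ∀ (H : Type u) [Group H] [Finite H] (W : Subgroup H), Nat.card H < Nat.card G → Cfsg.IsElementaryAbelian 2 W → W ≠ ⊥ → Cfsg.IsSidkiPair W → W ⊓ Cfsg.pCore 2 H ≠ ⊥) (hminV : ∀ W : Subgroup G, Nat.card W < Nat.card V → Cfsg.IsElementaryAbelian 2 W → W ≠ ⊥ → Cfsg.IsSidkiPair W → W ⊓ Cfsg.pCore 2 G ≠ ⊥) : IsSimpleGroup ↥(Cfsg.generalizedFittingSubgroup G) ∧ ¬ IsMulCommutative ↥(Cfsg.generalizedFittingSubgroup G) ∧ V ⊔ Cfsg.generalizedFittingSubgroup G = ⊤ := by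
  exact main V hV hV1 hS hVO hminG hminV

end Cfsg.Agent.S3048
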