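import Cfsg.Statements.S3049
import Cfsg.Agent.Layer.SylowJoin
import Cfsg.Agent.Layer.PComponent
import Cfsg.Agent.Fusion.Control
import Cfsg.Agent.LocalStructure.OmegaAction

set_option autoImplicit false
set_option linter.style.haveILetI false
open Cfsg

namespace Cfsg.Agent.S3049

open Subgroup in
/-- An isolated element is central in every `p`-subgroup containing it. -/
theorem commute_of_mem_pGroup {G : Type*} [Group G] [Finite G] {p : ℕ} [Fact p.Prime] {x : G}
    (hiso : Cfsg.IsIsolated x) {P : Subgroup G} (hP : IsPGroup p P) (hxP : x ∈ P) :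
    ∀ y ∈ P, y * x = x * y := by
  set C := (centralizer ({x} : Set G)).subgroupOf P with hC
  haveI : Group.IsNilpotent ↥P := hP.isNilpotent
  have htop : C = ⊤ := by
    refine normalizerCondition_iff_only_full_group_self_normalizing.mp
      (normalizerCondition_of_isNilpotent (G := ↥P)) C (le_antisymm ?_ le_normalizer)
    intro g hg
    have hxC : (⟨x, hxP⟩ : ↥P) ∈ C := mem_centralizer_singleton_iff.mpr rfl
    have h1 : (g * ⟨x, hxP⟩ * g⁻¹ : ↥P) ∈ C := (mem_normalizer_iff.mp hg _).mp hxC
    have h2 : ((g : G) * x * (g : G)⁻¹) * x = x * ((g : G) * x * (g : G)⁻¹) :=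
      mem_centralizer_singleton_iff.mp h1
    have h3 := hiso (g : G) h2.symm
    exact mem_centralizer_singleton_iff.mpr (mul_inv_eq_iff_eq_mul.mp h3)
  intro y hy
  have h : (⟨y, hy⟩ : ↥P) ∈ C := htop ▸ mem_top _
  exact mem_centralizer_singleton_iff.mp h

open Subgroup in
/-- With `p`-rank at most 2, a component centralised by a suitable element of order `p` has all its
elements of order `p` fusion-free, hence is `p`-nilpotent: impossible. -/
theorem component_false {G : Type*} [Group G] [Finite G] {p : ℕ} [hp : Fact p.Prime] (hp2 : p ≠ 2)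
    (hcore : Cfsg.pPrimeCore p G = ⊥) (hrank : Cfsg.PRankLE p 2 G) {x : G} (hx : orderOf x = p)
    (hiso : Cfsg.IsIsolated x) {L : Subgroup G} (hL : Cfsg.IsComponent L) {z : G}
    (hzp : orderOf z = p) (hzx : z * x = x * z) (hzL : ∀ l ∈ L, l * z = z * l)
    (hxz : x ∉ zpowers z) : False := by
  classical
  obtain ⟨S, hS⟩ := (IsPGroup.of_card (n := 1) (p := p) (by rw [Nat.card_zpowers, hx, pow_one]) :
    IsPGroup p (zpowers x)).exists_le_sylow
  have hxS : x ∈ (S : Subgroup G) := hS (mem_zpowers x)
  obtain ⟨Q, hQ⟩ := Agent.S0542.result p L hL.1 S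
  have hQx : ∀ a ∈ (Q : Subgroup ↥L), (a : G) * x = x * a := by
    intro a ha
    rw [hQ] at ha
    exact commute_of_mem_pGroup hiso S.isPGroup' hxS _ ha
  set E := zpowers x ⊔ zpowers z with hE
  have hxn : zpowers x ≤ normalizer (zpowers z : Set G) := by
    refine le_trans ?_ (centralizer_le_normalizer _)
    rw [zpowers_le]
    refine mem_centralizer_iff.mpr ?_
    rintro _ ⟨i, rfl⟩
    exact (Commute.zpow_left (hzx : Commute z x) i).eq
  have hEmem : ∀ e ∈ E, ∃ i j : ℕ, e = x ^ i * z ^ j := by
    intro e he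
    have he' : e ∈ (E : Set G) := he
    rw [hE, coe_mul_of_left_le_normalizer_right _ _ hxn] at he'
    obtain ⟨u, hu, v, hv, rfl⟩ := he'
    obtain ⟨i, hi⟩ := mem_powers_iff_mem_zpowers.mpr hu
    obtain ⟨j, hj⟩ := mem_powers_iff_mem_zpowers.mpr hv
    exact ⟨i, j, by rw [← hi, ← hj]⟩
  have hpow : ∀ u : G, orderOf u = p → u ^ p = 1 := fun u hu => hu ▸ pow_orderOf_eq_one u
  -- the rank bound
  have hspan : ∀ a : G, a ^ p = 1 → a * x = x * a → a * z = z * a → a ∈ E := by
    intro a ha hax haz
    set A := closure ({x, z, a} : Set G) with hA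
    haveI hAc : IsMulCommutative ↥A := by
      refine isMulCommutative_closure ?_
      intro u hu v hv
      rcases hu with rfl | rfl | rfl <;> rcases hv with rfl | rfl | rfl <;>
        first | rfl | exact hzx | exact hzx.symm | exact hax | exact hax.symm | exact haz | exact haz.symm
    have hexp : ∀ u ∈ A, u ^ p = 1 := by
      intro u hu
      induction hu using closure_induction with
      | mem w hw => rcases hw with rfl | rfl | rfl <;> [exact hpow _ hx; exact hpow _ hzp; exact ha]
      | one => exact one_pow p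
      | mul v w hv hw h1 h2 =>
        have hc : Commute v w := congrArg Subtype.val (hAc.is_comm.comm ⟨v, hv⟩ ⟨w, hw⟩)
        rw [hc.mul_pow, h1, h2, mul_one]
      | inv v _ h1 => rw [inv_pow, h1, inv_one]
    have hEA : E ≤ A := sup_le (zpowers_le.mpr (subset_closure (Or.inl rfl)))
      (zpowers_le.mpr (subset_closure (Or.inr (Or.inl rfl))))
    have hAp : IsPGroup p A := fun u => ⟨1, Subtype.ext (by simpa using hexp u u.2)⟩
    obtain ⟨k, hk⟩ := IsPGroup.iff_card.mp (hAp.to_le hEA)
    have hzE : zpowers z < E := lt_of_le_not_ge le_sup_right fun h => hxz (h (le_sup_left (a := zpowers x) (mem_zpowers x)))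
    have hk2 : 2 ≤ k := by
      by_contra hlt
      have h1 : Nat.card (zpowers z) = p := by rw [Nat.card_zpowers, hzp]
      have h2 : Nat.card E ≤ Nat.card (zpowers z) := by
        rw [h1, hk]
        exact (Nat.pow_le_pow_right hp.out.pos (by omega : k ≤ 1)).trans (pow_one p).le
      exact hzE.ne (eq_of_le_of_card_ge hzE.le h2)
    have heq : E = A := eq_of_le_of_card_ge hEA
      ((hrank A hAc hexp).trans ((Nat.pow_le_pow_right hp.out.pos hk2).trans hk.ge))
    rw [heq]
    exact subset_closure (Or.inr (Or.inr rfl))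
  -- elements of order p of Q are fusion-free in L
  have hfix : ∀ a ∈ (Q : Subgroup ↥L), a ^ p = 1 → ∀ l : ↥L, l * a * l⁻¹ ∈ (Q : Subgroup ↥L) →
      l * a * l⁻¹ = a := by
    intro a ha hap l hl
    have hcl : ∀ b ∈ (Q : Subgroup ↥L), b ^ p = 1 → (b : G) ∈ E := fun b hb hbp =>
      hspan b (by simpa using congrArg Subtype.val hbp) (hQx b hb) (hzL b b.2)
    obtain ⟨i, j, hij⟩ := hEmem _ (hcl a ha hap)
    obtain ⟨i', j', hij'⟩ := hEmem _ (hcl _ hl (by rw [conj_pow, hap, mul_one, mul_inv_cancel]))
    set g : G := (l : G) with hg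
    have hgz : Commute g (z ^ j) := Commute.pow_right (hzL g l.2) j
    have hla : ((l * a * l⁻¹ : ↥L) : G) = (g * x * g⁻¹) ^ i * z ^ j := by
      rw [conj_pow]
      show g * (a : G) * g⁻¹ = _
      rw [hij]
      calc g * (x ^ i * z ^ j) * g⁻¹ = g * x ^ i * (z ^ j * g⁻¹) := by group
        _ = g * x ^ i * (g⁻¹ * z ^ j) := by rw [(hgz.inv_left).eq]
        _ = _ := by group
    apply Subtype.ext
    rw [hla, hij]
    by_cases hi : p ∣ i
    · obtain ⟨c, rfl⟩ := hi
      rw [pow_mul, pow_mul, conj_pow, hpow x hx]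
      simp
    have hcop : Nat.Coprime i (orderOf (g * x * g⁻¹)) := by
      rw [show orderOf (g * x * g⁻¹) = p from by
        rw [← hx]; exact (MulAut.conj g).orderOf_eq x]
      exact (hp.out.coprime_iff_not_dvd.mpr hi).symm
    obtain ⟨m, hm⟩ := exists_pow_eq_self_of_coprime hcop
    have hxE : (g * x * g⁻¹) ^ i = x ^ i' * z ^ j' * (z ^ j)⁻¹ := by
      rw [← hij', hla, mul_inv_cancel_right]
    have hcomm : Commute x ((g * x * g⁻¹) ^ i) := by
      rw [hxE]
      have h1 : Commute x z := (hzx : Commute z x).symm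
      exact (((Commute.refl x).pow_right i').mul_right (h1.pow_right j')).mul_right (h1.pow_right j).inv_right
    have := hiso g (hm ▸ hcomm.pow_right m)
    rw [this]
  -- hence L is p-nilpotent
  have hnc : Cfsg.HasNormalPComplement p ↥L := by
    refine Agent.Fusion.hasNormalPComplement_of_frobenius_sylow Q fun U hUQ g hgU hgo => ?_
    refine (Agent.LocalStructure.le_centralizer_of_fixes_omega hp2 (Q.isPGroup'.to_le hUQ)
      (zpowers_le.mpr hgU) (by rwa [Nat.card_zpowers]) ?_) (mem_zpowers g)
    intro v hv hvp a ha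
    obtain ⟨k, rfl⟩ := ha
    have h1 := hfix v (hUQ hv) hvp g (hUQ ((mem_normalizer_iff.mp hgU v).mp hv))
    exact (Commute.zpow_left (mul_inv_eq_iff_eq_mul.mp h1 : Commute g v) k).eq
  obtain ⟨T, K, hKn, hKT⟩ := hnc
  have hTdvd := Agent.Layer.dvd_card_component hcore hL
  rcases Agent.Layer.qs_normal_cases hL.2 hKn with h | h
  · subst h
    have h1 : (T : Subgroup ↥L) = ⊥ := by simpa using hKT.disjoint
    have h2 := T.dvd_card_of_dvd_card hTdvd
    rw [h1, Subgroup.card_bot] at h2
    exact hp.out.not_dvd_one h2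
  · have hTn : Group.IsSolvable ↥(T : Subgroup ↥L) := Agent.Layer.isSolvable_of_isPGroup T.isPGroup'
    haveI := hKn
    haveI : Group.IsSolvable ↥(center ↥L) :=
      Group.isSolvable_of_comm fun a b => Subtype.ext (mem_center_iff.mp b.2 (a : ↥L))
    haveI : Group.IsSolvable ↥K :=
      Group.isSolvable_of_isSolvable_injective (Subgroup.inclusion_injective h)
    haveI : Group.IsSolvable (↥L ⧸ K) :=
      Group.isSolvable_of_surjective (f := (QuotientGroup.mk' K).comp (T : Subgroup ↥L).subtype)
        (fun y => by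
          obtain ⟨w, rfl⟩ := QuotientGroup.mk'_surjective K y
          obtain ⟨k, hk, t, ht, rfl⟩ := Subgroup.mem_sup_of_normal_left.mp (hKT.sup_eq_top ▸ mem_top w)
          refine ⟨⟨t, ht⟩, ?_⟩
          rw [MonoidHom.comp_apply, map_mul]
          rw [show QuotientGroup.mk' K k = 1 from (QuotientGroup.eq_one_iff k).mpr hk, one_mul]
          rfl)
    exact Agent.Layer.qs_not_isSolvable hL.2
      (Group.isSolvable_of_ker_le_range K.subtype (QuotientGroup.mk' K)
        (by rw [QuotientGroup.ker_mk', Subgroup.range_subtype]))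

/-- Let G be a finite group and p an odd prime with O_{p'}(G) = 1. Suppose that G has p-rank at most 2 (no elementary abelian subgroup of order p³) and that some element x of order p is isolated in G (no G-conjugate of x other than x commutes with x) and not central. Then the generalized Fitting subgroup F*(G) is a non-abelian simple group. Since O_{p'}(G) = 1, such an x is not central modulo O_{p'}(G): the hypotheses describe a counterexample to the Z*_p statement in p-rank at most 2. -/
theorem result {G : Type*} [Group G] [Finite G] {p : ℕ} [Fact p.Prime] (hp : p ≠ 2) (hcore : Cfsg.pPrimeCore p G = ⊥)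
    (hrank : Cfsg.PRankLE p 2 G) (x : G) (hx : orderOf x = p) (hiso : Cfsg.IsIsolated x) (hnc : x ∉ Subgroup.center G) :
    IsSimpleGroup ↥(Cfsg.generalizedFittingSubgroup G) ∧ ¬ IsMulCommutative ↥(Cfsg.generalizedFittingSubgroup G) := by
  classical
  have hp1 : p ≠ 1 := (Fact.out : p.Prime).ne_one
  obtain ⟨S, hS⟩ := (IsPGroup.of_card (n := 1) (p := p) (by rw [Nat.card_zpowers, hx, pow_one]) :
    IsPGroup p (Subgroup.zpowers x)).exists_le_sylow
  have hxS : x ∈ (S : Subgroup G) := hS (Subgroup.mem_zpowers x)
  set O := Cfsg.pCore p G with hO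
  have hOn : O.Normal := by rw [hO]; infer_instance
  have hxO : x ∉ O := fun h => hnc (Subgroup.mem_center_iff.mpr fun g => by
    have h1 : g * x * g⁻¹ ∈ O := hOn.conj_mem x h g
    have h2 := commute_of_mem_pGroup hiso Agent.Core.pCore_isPGroup h (g * x * g⁻¹) h1
    exact mul_inv_eq_iff_eq_mul.mp (hiso g h2.symm))
  have hFO := Agent.Layer.fitting_eq_pCore_of_pPrimeCore_eq_bot (p := p) hcore
  obtain ⟨L, hL⟩ : ∃ L : Subgroup G, Cfsg.IsComponent L := by
    by_contra h
    push Not at h
    refine hxO ((Agent.Layer.pCoreSelfCentral_iff_layer hcore).mpr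
      (Agent.Layer.layer_eq_bot_iff.mpr h) (Subgroup.mem_centralizer_iff.mpr fun y hy => ?_))
    exact commute_of_mem_pGroup hiso S.isPGroup' hxS y (Agent.Core.pCore_le_sylow S hy)
  -- `O_p(G) = 1`
  have hObot : O = ⊥ := by
    by_contra hne
    obtain ⟨v, hv, hv1⟩ := (Subgroup.bot_or_exists_ne_one O).resolve_left hne
    have hdvd : p ∣ Nat.card ↥O := by
      obtain ⟨k, hk⟩ := IsPGroup.iff_card.mp (Agent.Core.pCore_isPGroup (p := p) (G := G))
      rw [hk]
      refine dvd_pow_self p fun hk0 => hne (Subgroup.eq_bot_of_card_eq _ ?_)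
      rw [hk, hk0, pow_zero]
    obtain ⟨w, hw⟩ := exists_prime_orderOf_dvd_card' p hdvd
    have hwG : orderOf (w : G) = p := (orderOf_injective O.subtype O.subtype_injective w).trans hw
    refine component_false hp hcore hrank hx hiso hL hwG ?_ ?_ ?_
    · exact commute_of_mem_pGroup hiso S.isPGroup' hxS _ (Agent.Core.pCore_le_sylow S w.2)
    · intro l hl
      exact Agent.Layer.commute_of_commutator_eq_bot
        (Agent.Layer.component_commute_solvable hL
          (Agent.Layer.isSolvable_of_isPGroup Agent.Core.pCore_isPGroup)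
          Subgroup.le_normalizer_of_normal) hl w.2
    · exact fun h => hxO ((Subgroup.zpowers_le.mpr w.2) h)
  rw [← hO, hObot] at hFO
  have hcent : ∀ M : Subgroup G, Cfsg.IsComponent M → (Subgroup.center ↥M).map M.subtype = ⊥ := by
    intro M hM
    refine le_bot_iff.mp (le_of_le_of_eq (Agent.Layer.subnormal_solvable_le_fitting ?_ ?_ ?_) hFO)
    · exact (Subgroup.Normal.isSubnormal (inferInstance : (Subgroup.center ↥M).Normal)).trans' hM.1
    · haveI : Group.IsSolvable ↥(Subgroup.center ↥M) :=
        Group.isSolvable_of_comm fun a b => Subtype.ext (Subgroup.mem_center_iff.mp b.2 (a : ↥M))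
      exact Group.isSolvable_of_surjective (f := ((Subgroup.center ↥M).equivMapOfInjective M.subtype
        M.subtype_injective).toMonoidHom) (MulEquiv.surjective _)
    · rw [hFO]
      intro y _
      rw [Subgroup.mem_centralizer_iff]
      rintro a ha
      rw [Subgroup.mem_bot.mp ha, one_mul, mul_one]
  -- uniqueness of the component
  have huniq : ∀ K : Subgroup G, Cfsg.IsComponent K → K = L := by
    intro K hK
    by_contra hne
    have key : ∀ M M' : Subgroup G, Cfsg.IsComponent M → Cfsg.IsComponent M' → M ≠ M' → x ∈ M' := by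
      intro M M' hM hM' hMM'
      by_contra hxM'
      obtain ⟨Q, hQ⟩ := Agent.S0542.result p M' hM'.1 S
      have hdvd := Q.dvd_card_of_dvd_card (Agent.Layer.dvd_card_component hcore hM')
      obtain ⟨w, hw⟩ := exists_prime_orderOf_dvd_card' p hdvd
      have hwG : orderOf ((w : ↥M') : G) = p := by
        exact ((orderOf_injective M'.subtype M'.subtype_injective _).trans
          (orderOf_injective (Q : Subgroup ↥M').subtype (Subgroup.subtype_injective _) w)).trans hw
      refine component_false hp hcore hrank hx hiso hM hwG ?_ ?_ ?_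
      · have hwS : ((w : ↥M') : G) ∈ (S : Subgroup G) := by
          have : (w : ↥M') ∈ (S : Subgroup G).subgroupOf M' := (SetLike.ext_iff.mp hQ _).mp w.2
          exact this
        exact commute_of_mem_pGroup hiso S.isPGroup' hxS _ hwS
      · intro l hl
        exact Agent.Layer.commute_of_commutator_eq_bot
          (Agent.Layer.components_commute hM hM' hMM') hl (w : ↥M').2
      · exact fun h => hxM' ((Subgroup.zpowers_le.mpr (w : ↥M').2) h)
    have hx1 := key L K hL hK (Ne.symm hne)
    have hx2 := key K L hK hL hne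
    have hxc : x ∈ (Subgroup.center ↥L).map L.subtype := ⟨⟨x, hx2⟩, Subgroup.mem_center_iff.mpr
      fun y => Subtype.ext (Agent.Layer.commute_of_commutator_eq_bot
        (Agent.Layer.components_commute hL hK (Ne.symm hne)) y.2 hx1), rfl⟩
    rw [hcent L hL, Subgroup.mem_bot] at hxc
    rw [hxc, orderOf_one] at hx
    exact hp1 hx.symm
  have hFstar : Cfsg.generalizedFittingSubgroup G = L := by
    show Cfsg.layer G ⊔ Cfsg.fittingSubgroup G = L
    rw [hFO, sup_bot_eq]
    exact le_antisymm (sSup_le fun K hK => (huniq K hK).le) (Agent.Layer.component_le_layer hL)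
  rw [hFstar]
  have hc : Subgroup.center ↥L = ⊥ :=
    (Subgroup.map_eq_bot_iff_of_injective _ L.subtype_injective).mp (hcent L hL)
  constructor
  · haveI := hL.2.2
    exact ((QuotientGroup.quotientMulEquivOfEq hc).trans QuotientGroup.quotientBot).symm.isSimpleGroup
  · intro hab
    exact Agent.Layer.qs_subgroup_not_abelian hL.2
      (Subgroup.commutator_eq_bot_iff_le_centralizer.mpr
        (Subgroup.le_centralizer_iff_isMulCommutative.mpr hab))

end Cfsg.Agent.S3049
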