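import Cfsg.Statements.S3054
import Cfsg.Agent.Extraspecial3.RadicalBound

set_option autoImplicit false
open Cfsg

namespace Cfsg.Agent.S3054

theorem order_cube {p : ℕ} [Fact p.Prime] {l : ZMod p} (hl : orderOf l = p - 1) :
    orderOf (l ^ 3) = p - 1 ∨ (3 ∣ p - 1 ∧ orderOf (l ^ 3) = (p - 1) / 3) := by
  rw [orderOf_pow' l three_ne_zero, hl]
  rcases (Nat.dvd_prime Nat.prime_three).1 (Nat.gcd_dvd_right (p - 1) 3) with h | h
  · left; rw [h, Nat.div_one]
  · right; exact ⟨h ▸ Nat.gcd_dvd_left (p - 1) 3, by rw [h]⟩

/-- Let p be an odd prime and G a finite group with a Sylow p-subgroup P that is extraspecial of order p³ and exponent p. Suppose P contains three distinct subgroups A of order p² (each is elementary abelian of rank 2) such that every automorphism of A of order p is induced by conjugation by an element of G; equivalently the automorphism group induced on A by its normalizer contains the special linear group of A. Then p ≤ 13. -/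
theorem result {G : Type*} [Group G] [Finite G]
    {p : ℕ} [Fact p.Prime] (hp : p ≠ 2) (P : Sylow p G) (hE : Cfsg.IsExtraspecial p ↥P)
    (hcard : Nat.card P = p ^ 3) (hexp : Monoid.exponent ↥P = p)
    (A : Fin 3 → Subgroup G) (hA : Function.Injective A) (hAP : ∀ i, A i ≤ (P : Subgroup G))
    (hAcard : ∀ i, Nat.card ↥(A i) = p ^ 2)
    (hSL : ∀ i, ∀ φ : MulAut ↥(A i), orderOf φ = p → ∃ g : G, ∀ a : ↥(A i), (φ a : G) = g * (a : G) * g⁻¹) :
    p ≤ 13 := by
  by_contra hp13
  have h17 : 17 ≤ p := by
    by_contra h
    have hpr := (Fact.out : Nat.Prime p)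
    interval_cases p <;> norm_num at hpr
  obtain ⟨l, hl0, hl⟩ := RadicalBound.exists_primitive p
  have hm : 6 ≤ orderOf (l ^ 3) := by
    rcases order_cube hl with h | ⟨h3, h⟩ <;> omega
  have := (RadicalBound.card_radical P hE hcard hexp A hA hAP hAcard hSL l hl0 (m := 6) hm).2 le_rfl
  simp at this

end Cfsg.Agent.S3054
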