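import Cfsg.Statements.S3055
import Cfsg.Agent.Extraspecial3.RadicalBound

set_option autoImplicit false
open Cfsg

namespace Cfsg.Agent.S3055

section

variable {p : ℕ} [Fact p.Prime]

theorem order_cube {l : ZMod p} (hl : orderOf l = p - 1) :
    orderOf (l ^ 3) = p - 1 ∨ (3 ∣ p - 1 ∧ orderOf (l ^ 3) = (p - 1) / 3) := by
  rw [orderOf_pow' l three_ne_zero, hl]
  rcases (Nat.dvd_prime Nat.prime_three).1 (Nat.gcd_dvd_right (p - 1) 3) with h | h
  · left; rw [h, Nat.div_one]
  · right; exact ⟨h ▸ Nat.gcd_dvd_left (p - 1) 3, by rw [h]⟩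

/-- In a group of order `p²` and exponent `p` the automorphisms of order dividing `p` fixing a
given non-identity element form a cyclic group. -/
theorem eq_pow_of_fixed {M : Type*} [Group M] [Finite M] (hM : Nat.card M = p ^ 2)
    (hc : ∀ a b : M, a * b = b * a) (he : ∀ a : M, a ^ p = 1) {a : M} (ha : a ≠ 1) (φ ψ : MulAut M)
    (hφa : φ a = a) (hψa : ψ a = a) (hφp : φ ^ p = 1) (hψp : ψ ^ p = 1) (hψ : ψ ≠ 1) :
    ∃ t : ℕ, φ = ψ ^ t := by
  obtain ⟨b, hb⟩ : ∃ b : M, b ∉ Subgroup.zpowers a := by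
    by_contra h
    push Not at h
    have := (Subgroup.eq_top_iff' _).2 h
    have h2 : Nat.card (Subgroup.zpowers a) = p ^ 2 := by rw [this, Subgroup.card_top, hM]
    rw [Nat.card_zpowers, orderOf_eq_prime (he a) ha] at h2
    exact (Nat.pow_lt_pow_right (Fact.out : p.Prime).one_lt (by norm_num : 1 < 2)).ne ((pow_one p).trans h2)
  obtain ⟨f, hf⟩ := RadicalBound.exists_coords hM hc he a b ha hb
  have key : ∀ χ : MulAut M, χ a = a → χ ^ p = 1 → ∃ i : ZMod p, ∀ w,
      χ (f (Multiplicative.ofAdd w)) = f (Multiplicative.ofAdd ![w 0 + i * w 1, w 1]) := by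
    intro χ hχa hχp
    obtain ⟨v, hv⟩ := f.surjective (χ b)
    obtain ⟨v, rfl⟩ := Multiplicative.ofAdd.surjective v
    have gen : ∀ w, χ (f (Multiplicative.ofAdd w)) = f (Multiplicative.ofAdd ![w 0 + v 0 * w 1, v 1 * w 1]) := by
      intro w
      rw [hf, map_mul, map_pow, map_pow, hχa, ← hv, hf, hf]
      simp only [Matrix.cons_val_zero, Matrix.cons_val_one]
      rw [Commute.mul_pow (hc _ _), RadicalBound.pow_val_mul (he a), RadicalBound.pow_val_mul (he b),
        RadicalBound.pow_val_add (he a), mul_assoc]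
    have hit : ∀ n : ℕ, ∀ w, ∃ u, (χ ^ n) (f (Multiplicative.ofAdd w)) = f (Multiplicative.ofAdd u) ∧
        u 1 = v 1 ^ n * w 1 := by
      intro n
      induction n with
      | zero => exact fun w => ⟨w, by simp, by simp⟩
      | succ n ih =>
        intro w
        obtain ⟨u, hu, hu1⟩ := ih w
        refine ⟨![u 0 + v 0 * u 1, v 1 * u 1], by rw [pow_succ', MulAut.mul_apply, hu, gen], ?_⟩
        simp [hu1, pow_succ]; ring
    obtain ⟨u, hu, hu1⟩ := hit p ![0, 1]
    rw [hχp, MulAut.one_apply] at hu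
    have h1 := Multiplicative.ofAdd.injective (f.injective hu)
    rw [← h1, ZMod.pow_card] at hu1
    simp at hu1
    exact ⟨v 0, fun w => by rw [gen, ← hu1, one_mul]⟩
  obtain ⟨i, hi⟩ := key φ hφa hφp
  obtain ⟨j, hj⟩ := key ψ hψa hψp
  have hj0 : j ≠ 0 := by
    rintro rfl
    apply hψ
    refine MulEquiv.ext fun x => ?_
    obtain ⟨w, rfl⟩ := f.surjective x
    obtain ⟨w, rfl⟩ := Multiplicative.ofAdd.surjective w
    rw [hj, MulAut.one_apply]
    congr 2
    funext k; fin_cases k <;> simp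
  have hpow : ∀ (t : ℕ) w, (ψ ^ t) (f (Multiplicative.ofAdd w)) = f (Multiplicative.ofAdd ![w 0 + t * j * w 1, w 1]) := by
    intro t
    induction t with
    | zero =>
      intro w
      rw [pow_zero, MulAut.one_apply]
      congr 2
      funext k; fin_cases k <;> simp
    | succ t ih =>
      intro w
      rw [pow_succ', MulAut.mul_apply, ih, hj]
      congr 2
      funext k; fin_cases k <;> simp <;> ring
  refine ⟨(i * j⁻¹).val, MulEquiv.ext fun x => ?_⟩
  obtain ⟨w, rfl⟩ := f.surjective x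
  obtain ⟨w, rfl⟩ := Multiplicative.ofAdd.surjective w
  rw [hi, hpow, ZMod.natCast_zmod_val, inv_mul_cancel_right₀ hj0]

variable {G : Type*} [Group G] [Finite G]

/-- Subgroups of order `p²` have all their automorphisms of order `p` induced. -/
theorem induced (P : Sylow p G) (hE : Cfsg.IsExtraspecial p P) (hcard : Nat.card P = p ^ 3)
    (hexp : Monoid.exponent P = p)
    (hconj : ∀ x y : P, x ≠ 1 → y ≠ 1 → ∃ g : G, g * (x : G) * g⁻¹ = (y : G))
    (A : Subgroup G) (hAP : A ≤ P) (hA : Nat.card A = p ^ 2) (φ : MulAut A) (hφ : orderOf φ = p) :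
    ∃ g : G, ∀ x : A, (φ x : G) = g * (x : G) * g⁻¹ := by
  obtain ⟨z, hzP, hz1, hpow, hcen, hmax, hcom⟩ := RadicalBound.exists_data P hE hexp
  have hzA := RadicalBound.mem_of_card_sq P hcard hzP hpow hcen hmax hAP hA
  have hp := (Fact.out : p.Prime)
  -- a fixed point
  obtain ⟨a, ha1, hfa⟩ : ∃ a : A, a ≠ 1 ∧ φ a = a := by
    have hfix : (1 : A) ∈ MulAction.fixedPoints (Subgroup.zpowers φ) A := fun q => by
      show (q : MulAut A) • (1 : A) = 1
      rw [MulAut.smul_def, map_one]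
    obtain ⟨a, ha, hne⟩ := (IsPGroup.of_card (p := p) (n := 1)
      (by rw [Nat.card_zpowers, hφ, pow_one]) : IsPGroup p (Subgroup.zpowers φ)).exists_fixed_point_of_prime_dvd_card_of_fixed_point
      A (hA ▸ dvd_pow_self p two_ne_zero) hfix
    exact ⟨a, fun h => hne h.symm, ha ⟨φ, Subgroup.mem_zpowers φ⟩⟩
  obtain ⟨h, hh⟩ := hconj ⟨z, hzP⟩ ⟨a, hAP a.2⟩ (fun e => hz1 (congrArg Subtype.val e))
    (fun e => by have e' := congrArg Subtype.val e; exact ha1 (Subtype.ext e'))
  change h * z * h⁻¹ = (a : G) at hh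
  -- move A into P by an element carrying z to a
  obtain ⟨C, hC⟩ : ∃ C, C = Subgroup.centralizer ({z} : Set G) := ⟨_, rfl⟩
  have hCmem : ∀ g, g ∈ C ↔ z * g = g * z := fun g => by
    rw [hC, Subgroup.mem_centralizer_iff]; simp
  have hPC : (P : Subgroup G) ≤ C := fun v hv => (hCmem v).2 (hcen v hv).symm
  obtain ⟨B, hB⟩ : ∃ B, B = A.map (MulAut.conj h⁻¹).toMonoidHom := ⟨_, rfl⟩
  have hBC : B ≤ C := by
    rw [hB]
    rintro _ ⟨w, hw, rfl⟩
    haveI := IsPGroup.isMulCommutative_of_card_eq_prime_sq hA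
    have hc : (a : G) * w = w * a := congrArg Subtype.val (this.is_comm.comm a ⟨w, hw⟩)
    refine (hCmem _).2 ?_
    simp only [MulEquiv.toMonoidHom_eq_coe, MonoidHom.coe_coe, MulAut.conj_apply, inv_inv]
    calc z * (h⁻¹ * w * h) = h⁻¹ * ((h * z * h⁻¹) * w) * h := by group
      _ = h⁻¹ * (w * (h * z * h⁻¹)) * h := by rw [hh, hc]
      _ = _ := by group
  have hBp : IsPGroup p B := hB ▸ ((IsPGroup.of_card hA).map _)
  obtain ⟨Q, hQ⟩ := (hBp.of_equiv (Subgroup.subgroupOfEquivOfLe hBC).symm).exists_le_sylow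
  obtain ⟨c, hc⟩ := MulAction.exists_smul_eq C (P.subtype hPC) Q
  have hk : ∀ w ∈ A, ((h * c)⁻¹ * w * (h * c) : G) ∈ (P : Subgroup G) := by
    intro w hw
    have hwB : h⁻¹ * w * h ∈ B := by
      rw [hB]; exact ⟨w, hw, by simp⟩
    have h1 : (⟨h⁻¹ * w * h, hBC hwB⟩ : C) ∈ (Q : Subgroup C) := hQ (by exact hwB)
    rw [← hc, Sylow.coe_subgroup_smul, Subgroup.mem_smul_pointwise_iff_exists] at h1
    obtain ⟨v, hv, hv'⟩ := h1
    have hv2 : (c : G) * v * (c : G)⁻¹ = h⁻¹ * w * h := congrArg Subtype.val hv'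
    have e : (h * c)⁻¹ * w * (h * c) = (v : G) := by
      calc (h * c)⁻¹ * w * (h * c) = (c : G)⁻¹ * (h⁻¹ * w * h) * c := by group
        _ = v := by rw [← hv2]; group
    rw [e]; exact hv
  obtain ⟨k, hkdef⟩ : ∃ k, k = h * (c : G) := ⟨_, rfl⟩
  rw [← hkdef] at hk
  have hkz : k * z * k⁻¹ = (a : G) := by
    have hc2 : (c : G) * z = z * c := ((hCmem c).1 c.2).symm
    rw [hkdef]
    calc h * c * z * (h * c)⁻¹ = h * ((c : G) * z) * (c : G)⁻¹ * h⁻¹ := by group
      _ = h * z * h⁻¹ := by rw [hc2]; group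
      _ = _ := hh
  -- an element of P acting non-trivially
  obtain ⟨A', hA'⟩ : ∃ A', A' = A.map (MulAut.conj k⁻¹).toMonoidHom := ⟨_, rfl⟩
  have hA'mem : ∀ w, w ∈ A' ↔ k * w * k⁻¹ ∈ A := by
    intro w
    rw [hA']
    constructor
    · rintro ⟨v, hv, rfl⟩
      simpa [show k * (k⁻¹ * v * k) * k⁻¹ = v by group] using hv
    · exact fun hw => ⟨_, hw, by simp only [MulEquiv.toMonoidHom_eq_coe, MonoidHom.coe_coe, MulAut.conj_apply, inv_inv]; group⟩
  have hA'P : A' ≤ P := fun w hw => by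
    have := hk _ ((hA'mem w).1 hw)
    rwa [show k⁻¹ * (k * w * k⁻¹) * k = w by group] at this
  have hzA' : z ∈ A' := (hA'mem z).2 (hkz ▸ a.2)
  have hA'c : Nat.card A' = p ^ 2 := by
    rw [hA', Nat.card_congr (A.equivMapOfInjective _ (MulAut.conj k⁻¹).injective).toEquiv.symm, hA]
  obtain ⟨r, hr, w₀, hw₀, hne⟩ : ∃ r ∈ (P : Subgroup G), ∃ w ∈ A', r * w ≠ w * r := by
    by_contra hall
    push Not at hall
    have hle : A' ≤ Subgroup.zpowers z := fun w hw => hmax w (hA'P hw) fun r hr => (hall r hr w hw).symm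
    have h2 := Subgroup.card_le_of_le hle
    rw [hA'c, Nat.card_zpowers, orderOf_eq_prime (hpow z hzP) hz1] at h2
    exact absurd ((pow_one p).symm ▸ h2) (not_le.2 (Nat.pow_lt_pow_right hp.one_lt (by norm_num : 1 < 2)))
  have hrA : ∀ w ∈ A', r * w * r⁻¹ ∈ A' := by
    intro w hw
    obtain ⟨t, ht⟩ := hcom r hr w (hA'P hw)
    have ht' : z ^ t = r * w * r⁻¹ * w⁻¹ := ht
    rw [show r * w * r⁻¹ = r * w * r⁻¹ * w⁻¹ * w by group, ← ht']
    exact mul_mem (Subgroup.zpow_mem _ hzA' t) hw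
  obtain ⟨g₀, hg₀⟩ : ∃ g₀, g₀ = k * r * k⁻¹ := ⟨_, rfl⟩
  have hg₀A : ∀ w ∈ A, g₀ * w * g₀⁻¹ ∈ A := by
    intro w hw
    have := (hA'mem _).1 (hrA (k⁻¹ * w * k) ((hA'mem _).2 (by rwa [show k * (k⁻¹ * w * k) * k⁻¹ = w by group])))
    rwa [show g₀ * w * g₀⁻¹ = k * (r * (k⁻¹ * w * k) * r⁻¹) * k⁻¹ by rw [hg₀]; group]
  have hg₀N : g₀ ∈ Subgroup.normalizer (A : Set G) := by
    have hinj : Set.InjOn (fun w => g₀ * w * g₀⁻¹) (A : Set G) := fun _ _ _ _ e => by simpa using e
    have himg : (fun w => g₀ * w * g₀⁻¹) '' (A : Set G) = (A : Set G) :=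
      Set.eq_of_subset_of_ncard_le (by rintro _ ⟨w, hw, rfl⟩; exact hg₀A w hw)
        (by rw [Set.ncard_image_of_injOn hinj]) (Set.toFinite _)
    rw [Subgroup.mem_normalizer_iff]
    intro w
    refine ⟨hg₀A w, fun hw => ?_⟩
    obtain ⟨v, hv, hv'⟩ := himg.symm.subset hw
    have : v = w := by simpa using hv'
    exact this ▸ hv
  obtain ⟨ψ, hψ⟩ : ∃ ψ, ψ = Subgroup.normalizerMonoidHom A ⟨g₀, hg₀N⟩ := ⟨_, rfl⟩
  have hψap : ∀ w : A, (ψ w : G) = g₀ * w * g₀⁻¹ := fun w => by rw [hψ]; rfl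
  haveI := IsPGroup.isMulCommutative_of_card_eq_prime_sq hA
  obtain ⟨t, ht⟩ := eq_pow_of_fixed hA (fun x y => this.is_comm.comm x y) (fun x => Subtype.ext (hpow x (hAP x.2)))
    ha1 φ ψ hfa
    (Subtype.ext (by
      rw [hψap, ← hkz, hg₀]
      calc k * r * k⁻¹ * (k * z * k⁻¹) * (k * r * k⁻¹)⁻¹ = k * (r * z) * r⁻¹ * k⁻¹ := by group
        _ = _ := by rw [hcen r hr]; group))
    (hφ ▸ pow_orderOf_eq_one φ)
    (by
      rw [hψ, ← map_pow, show (⟨g₀, hg₀N⟩ : Subgroup.normalizer (A : Set G)) ^ p = 1 from Subtype.ext (by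
        show g₀ ^ p = 1
        rw [hg₀, conj_pow, hpow r hr, mul_one, mul_inv_cancel]), map_one])
    (by
      intro e
      apply hne
      have h1 := hψap ⟨k * w₀ * k⁻¹, (hA'mem w₀).1 hw₀⟩
      rw [e, MulAut.one_apply] at h1
      change k * w₀ * k⁻¹ = g₀ * (k * w₀ * k⁻¹) * g₀⁻¹ at h1
      rw [hg₀] at h1
      have h2 : k * (r * w₀ * r⁻¹) * k⁻¹ = k * w₀ * k⁻¹ := by rw [h1]; group
      exact mul_inv_eq_iff_eq_mul.1 (mul_left_cancel (mul_right_cancel h2)))
  refine ⟨g₀ ^ t, fun x => ?_⟩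
  rw [ht, hψ, ← map_pow]
  rfl

/-- An extraspecial group of order `p³` and exponent `p` has `p + 1` subgroups of order `p²`. -/
theorem exists_family (P : Sylow p G) (hE : Cfsg.IsExtraspecial p P) (hcard : Nat.card P = p ^ 3)
    (hexp : Monoid.exponent P = p) :
    ∃ A : Option (ZMod p) → Subgroup G, Function.Injective A ∧ ∀ i, A i ≤ P ∧ Nat.card (A i) = p ^ 2 := by
  obtain ⟨z, hzP, hz1, hpow, hcen, hmax, -⟩ := RadicalBound.exists_data P hE hexp
  have hp := (Fact.out : p.Prime)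
  have hzo : orderOf z = p := orderOf_eq_prime (hpow z hzP) hz1
  obtain ⟨x, hx, y, hy, hxy⟩ : ∃ x ∈ (P : Subgroup G), ∃ y ∈ (P : Subgroup G), x * y ≠ y * x := by
    by_contra hall
    push Not at hall
    have hle : (P : Subgroup G) ≤ Subgroup.zpowers z := fun v hv => hmax v hv fun w hw => hall v hv w hw
    have h2 := Subgroup.card_le_of_le hle
    rw [hcard, Nat.card_zpowers, hzo] at h2
    exact absurd ((pow_one p).symm ▸ h2) (not_le.2 (Nat.pow_lt_pow_right hp.one_lt (by norm_num : 1 < 3)))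
  have hcomm : ∀ w ∈ (P : Subgroup G), ∀ u ∈ Subgroup.closure ({z, w} : Set G), ∀ v ∈ Subgroup.closure ({z, w} : Set G),
      u * v = v * u := by
    intro w hw
    haveI : IsMulCommutative (Subgroup.closure ({z, w} : Set G)) := Subgroup.isMulCommutative_closure (by
      have c1 := (hcen w hw).symm
      rintro u (rfl | rfl) v (rfl | rfl)
      all_goals first | rfl | exact c1 | exact c1.symm)
    exact fun u hu v hv => congrArg Subtype.val
      (IsMulCommutative.is_comm.comm (⟨u, hu⟩ : Subgroup.closure ({z, w} : Set G)) ⟨v, hv⟩)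
  have hpair : ∀ w ∈ (P : Subgroup G), w ∉ Subgroup.zpowers z →
      Subgroup.closure ({z, w} : Set G) ≤ P ∧ Nat.card (Subgroup.closure ({z, w} : Set G)) = p ^ 2 := by
    intro w hw hwz
    have hle : Subgroup.closure ({z, w} : Set G) ≤ P :=
      (Subgroup.closure_le _).2 (Set.insert_subset hzP (Set.singleton_subset_iff.2 hw))
    refine ⟨hle, ?_⟩
    obtain ⟨j, hj, hj'⟩ := (Nat.dvd_prime_pow hp).1 (hcard ▸ Subgroup.card_dvd_of_le hle)
    have h3 : j ≠ 3 := fun e => by
      have he := Subgroup.eq_of_le_of_card_ge hle (by rw [hj', e]; exact hcard.le)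
      exact hxy (hcomm w hw x (he ▸ hx) y (he ▸ hy))
    have h2 : 2 ≤ j := by
      by_contra hlt
      have hzle : Subgroup.zpowers z ≤ Subgroup.closure ({z, w} : Set G) :=
        Subgroup.zpowers_le.2 (Subgroup.subset_closure (Set.mem_insert _ _))
      have := Subgroup.eq_of_le_of_card_ge hzle (by
        rw [hj', Nat.card_zpowers, hzo]
        exact (Nat.pow_le_pow_right hp.pos (by omega : j ≤ 1)).trans (pow_one p).le)
      exact hwz (this ▸ Subgroup.subset_closure (Set.mem_insert_of_mem _ rfl))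
    rw [hj', show j = 2 by omega]
  have hnz : ∀ w, (x * w ≠ w * x ∨ y * w ≠ w * y) → w ∉ Subgroup.zpowers z := by
    rintro w h ⟨t, rfl⟩
    rcases h with h | h
    · exact h (Commute.zpow_right (hcen x hx) t).eq
    · exact h (Commute.zpow_right (hcen y hy) t).eq
  let g : Option (ZMod p) → G := fun i => i.elim y fun c => x * y ^ c.val
  have hgP : ∀ i, g i ∈ (P : Subgroup G) := by
    rintro (_ | c)
    exacts [hy, mul_mem hx (pow_mem hy _)]
  have hgz : ∀ i, g i ∉ Subgroup.zpowers z := by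
    rintro (_ | c)
    · exact hnz _ (Or.inl hxy)
    · refine hnz _ (Or.inr fun e => hxy ?_)
      have e' : y * x * y ^ c.val = x * y * y ^ c.val := by
        calc y * x * y ^ c.val = y * (x * y ^ c.val) := mul_assoc _ _ _
          _ = x * y ^ c.val * y := e
          _ = x * (y ^ c.val * y) := mul_assoc _ _ _
          _ = x * (y * y ^ c.val) := by rw [(Commute.self_pow y c.val).eq]
          _ = _ := (mul_assoc _ _ _).symm
      exact (mul_right_cancel e').symm
  refine ⟨fun i => Subgroup.closure {z, g i}, ?_, fun i => hpair _ (hgP i) (hgz i)⟩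
  intro i j hij
  by_contra hne
  have hcm : g i * g j = g j * g i :=
    hcomm _ (hgP i) _ (Subgroup.subset_closure (Set.mem_insert_of_mem _ rfl)) _
      (by rw [show Subgroup.closure ({z, g i} : Set G) = Subgroup.closure ({z, g j} : Set G) from hij]; exact Subgroup.subset_closure (Set.mem_insert_of_mem _ rfl))
  have hy' : ∀ c : ZMod p, Commute y (x * y ^ c.val) → False := by
    intro c hc
    apply hxy
    have hy2 : Commute y (x * y ^ c.val * (y ^ c.val)⁻¹) := hc.mul_right ((Commute.self_pow y c.val).inv_right)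
    rw [mul_inv_cancel_right] at hy2
    exact hy2.eq.symm
  rcases i with _ | c <;> rcases j with _ | c'
  · exact hne rfl
  · exact hy' c' hcm
  · exact hy' c hcm.symm
  · have hd : c - c' ≠ 0 := fun e => hne (congrArg some (sub_eq_zero.1 e))
    have hs : y ^ c.val = y ^ c'.val * y ^ (c - c').val := by
      rw [← RadicalBound.pow_val_add (hpow y hy), add_sub_cancel]
    have hs' : y ^ (c - c').val * y ^ c'.val = y ^ c'.val * y ^ (c - c').val := (Commute.pow_pow_self y _ _).eq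
    change x * y ^ c.val * (x * y ^ c'.val) = x * y ^ c'.val * (x * y ^ c.val) at hcm
    rw [hs] at hcm
    have h1 : y ^ (c - c').val * x = x * y ^ (c - c').val := by
      have h2 : x * y ^ c'.val * (y ^ (c - c').val * x) * y ^ c'.val = x * y ^ c'.val * (x * y ^ (c - c').val) * y ^ c'.val := by
        calc x * y ^ c'.val * (y ^ (c - c').val * x) * y ^ c'.val
            = x * (y ^ c'.val * y ^ (c - c').val) * (x * y ^ c'.val) := by group
          _ = x * y ^ c'.val * (x * (y ^ c'.val * y ^ (c - c').val)) := hcm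
          _ = _ := by rw [← hs']; group
      exact mul_left_cancel (mul_right_cancel h2)
    have h3 := (show Commute (y ^ (c - c').val) x from h1).pow_left (c - c')⁻¹.val
    rw [RadicalBound.pow_val_mul (hpow y hy), mul_inv_cancel₀ hd, ZMod.val_one, pow_one] at h3
    exact hxy h3.eq.symm

end

/-- Let p be an odd prime and G a finite group with a Sylow p-subgroup P that is extraspecial of order p³ and exponent p. If all nonidentity elements of P are conjugate in G, then p ≤ 7. -/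
theorem result {G : Type*} [Group G] [Finite G]
    {p : ℕ} [Fact p.Prime] (hp : p ≠ 2) (P : Sylow p G) (hE : Cfsg.IsExtraspecial p ↥P)
    (hcard : Nat.card P = p ^ 3) (hexp : Monoid.exponent ↥P = p)
    (hconj : ∀ x y : ↥P, x ≠ 1 → y ≠ 1 → ∃ g : G, g * (x : G) * g⁻¹ = (y : G)) :
    p ≤ 7 := by
  by_contra hp7
  have h11 : 11 ≤ p := by
    by_contra h
    have hpr := (Fact.out : Nat.Prime p)
    interval_cases p <;> norm_num at hpr
  obtain ⟨l, hl0, hl⟩ := RadicalBound.exists_primitive p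
  obtain ⟨A, hA, hA'⟩ := exists_family P hE hcard hexp
  have key := fun (m : ℕ) (hm : m ≤ orderOf (l ^ 3)) => RadicalBound.card_radical P hE hcard hexp A hA
    (fun i => (hA' i).1) (fun i => (hA' i).2)
    (fun i => induced P hE hcard hexp hconj (A i) (hA' i).1 (hA' i).2) l hl0 (m := m) hm
  simp only [Fintype.card_option, ZMod.card] at key
  rcases (show p = 13 ∨ p ≠ 13 by omega) with rfl | h13
  · have := (key 4 (by rcases order_cube hl with h | ⟨-, h⟩ <;> omega)).1 le_rfl
    omega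
  · have hpr := (Fact.out : Nat.Prime p)
    have hm : 6 ≤ orderOf (l ^ 3) := by
      rcases order_cube hl with h | ⟨h3, h⟩
      · omega
      · have : p ≠ 16 := fun e => absurd (e ▸ hpr) (by norm_num)
        omega
    have := (key 6 hm).2 le_rfl
    omega

end Cfsg.Agent.S3055
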