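import Cfsg.Statements.S3057
import Cfsg.Agent.SylowGraph.Basic
import Cfsg.Agent.Fusion.UniqueInvolution
import Cfsg.Agent.Layer.PConstraint
import Cfsg.Agent.Coprime.Generation

set_option autoImplicit false
open Cfsg

namespace Cfsg.Agent.S3057

open Subgroup in
theorem unique_of_rank_one {G : Type*} [Group G] [Finite G] {p : ℕ} [Fact p.Prime] (P : Sylow p G)
    (hP : IsCyclic ↥P ∨ (p = 2 ∧ ∃ n : ℕ, Nonempty (↥P ≃* QuaternionGroup (2 ^ n)))) :
    ∀ x y : ↥P, orderOf x = p → orderOf y = p → y ∈ zpowers x := by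
  intro x y hx hy
  rcases hP with hc | ⟨rfl, n, ⟨e⟩⟩
  · obtain ⟨r, hr⟩ := Cfsg.Agent.Fusion.mem_zpowers_of_orderOf_dvd (A := (P : Subgroup G)) hc y.2 x.2
      (by rw [orderOf_coe, orderOf_coe, hx, hy])
    exact mem_zpowers_iff.2 ⟨r, Subtype.ext (by simpa using hr)⟩
  · -- a generalised quaternion group has one involution
    haveI : NeZero (2 ^ n) := ⟨pow_ne_zero _ two_ne_zero⟩
    have key : ∀ g : QuaternionGroup (2 ^ n), g ^ 2 = 1 → g ≠ 1 →
        g = QuaternionGroup.a ((2 ^ n : ℕ) : ZMod (2 * 2 ^ n)) := by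
      intro g h1 h2
      cases g with
      | a i =>
        rw [pow_two, QuaternionGroup.a_mul_a, QuaternionGroup.one_def] at h1
        have h3 : ((i.val + i.val : ℕ) : ZMod (2 * 2 ^ n)) = 0 := by
          rw [Nat.cast_add, ZMod.natCast_zmod_val]
          exact QuaternionGroup.a.inj h1
        rw [ZMod.natCast_eq_zero_iff] at h3
        have hlt := ZMod.val_lt i
        have hne : i.val ≠ 0 := fun h0 => h2 (by
          rw [(ZMod.val_eq_zero i).1 h0, QuaternionGroup.one_def])
        obtain ⟨c, hc⟩ := h3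
        have hc1 : c = 1 := by
          rcases c with _ | _ | c
          · rw [mul_zero] at hc; omega
          · rfl
          · exfalso; nlinarith
        subst hc1
        have hi : i.val = 2 ^ n := by omega
        conv_lhs => rw [← ZMod.natCast_zmod_val i, hi]
      | xa i =>
        rw [pow_two, QuaternionGroup.xa_mul_xa, QuaternionGroup.one_def] at h1
        have h3 : ((2 ^ n : ℕ) : ZMod (2 * 2 ^ n)) = 0 := by
          simpa using QuaternionGroup.a.inj h1
        rw [ZMod.natCast_eq_zero_iff] at h3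
        have := Nat.le_of_dvd (by positivity) h3
        have : 0 < 2 ^ n := by positivity
        omega
    have hx' : orderOf (e x) = 2 := by rw [MulEquiv.orderOf_eq, hx]
    have hy' : orderOf (e y) = 2 := by rw [MulEquiv.orderOf_eq, hy]
    have h1 := key (e x) (orderOf_dvd_iff_pow_eq_one.1 hx'.dvd) (fun h => by simp [h] at hx')
    have h2 := key (e y) (orderOf_dvd_iff_pow_eq_one.1 hy'.dvd) (fun h => by simp [h] at hy')
    rw [e.injective (h2.trans h1.symm)]
    exact mem_zpowers x

open Subgroup in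
theorem backward {G : Type*} [Group G] [Finite G] {p : ℕ} [Fact p.Prime] (hdiv : p ∣ Nat.card G)
    (P : Sylow p G) (hO : Cfsg.pCore p G = ⊥)
    (hP : IsCyclic ↥P ∨ (p = 2 ∧ ∃ n : ℕ, Nonempty (↥P ≃* QuaternionGroup (2 ^ n)))) :
    ∃ H : Subgroup G, H ≠ ⊤ ∧ p ∣ Nat.card H ∧ Cfsg.Agent.SylowGraph.SE p H := by
  obtain ⟨z, hz⟩ := exists_prime_orderOf_dvd_card' p (P.dvd_card_of_dvd_card hdiv)
  set Z := zpowers (z : G) with hZ
  have hzo : orderOf (z : G) = p := by rw [orderOf_coe, hz]
  refine ⟨normalizer (Z : Set G), ?_, ?_, ?_⟩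
  · intro h
    haveI : Z.Normal := normalizer_eq_top_iff.1 h
    have hle := Cfsg.Agent.Core.le_pCore (p := p) (N := Z)
      (IsPGroup.of_card (n := 1) (by rw [hZ, Nat.card_zpowers, hzo, pow_one]))
    rw [hO, le_bot_iff, hZ, zpowers_eq_bot] at hle
    rw [hle, orderOf_one] at hzo
    exact (Fact.out : p.Prime).ne_one hzo.symm
  · refine dvd_trans ?_ (card_dvd_of_le (le_normalizer : Z ≤ _))
    rw [hZ, Nat.card_zpowers, hzo]
  · intro g hg hd
    obtain ⟨⟨x, hxH⟩, hx⟩ := exists_prime_orderOf_dvd_card' p hd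
    rw [Subgroup.orderOf_mk] at hx
    obtain ⟨hx1, hx2⟩ := mem_inf.1 hxH
    -- an element of order `p` of `N(Z)` lies in `Z`
    have key : ∀ y : G, orderOf y = p → y ∈ normalizer (Z : Set G) → zpowers y = Z := by
      intro y hy hyN
      have hPN : (P : Subgroup G) ≤ normalizer (Z : Set G) := by
        intro s hs
        refine mem_normalizer_iff.2 fun w => ?_
        have hc : ∀ s ∈ (P : Subgroup G), ∀ w ∈ Z, s * w * s⁻¹ ∈ Z := by
          intro s hs w hw
          obtain ⟨i, rfl⟩ := mem_zpowers_iff.1 hw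
          rw [← conj_zpow]
          refine Z.zpow_mem ?_ i
          have hmem := unique_of_rank_one P hP z (⟨s, hs⟩ * z * ⟨s, hs⟩⁻¹) hz (by
            exact (MulEquiv.orderOf_eq (MulAut.conj (⟨s, hs⟩ : ↥P)) z).trans hz)
          obtain ⟨j, hj⟩ := mem_zpowers_iff.1 hmem
          exact mem_zpowers_iff.2 ⟨j, congrArg Subtype.val hj⟩
        refine ⟨hc s hs w, fun hw => ?_⟩
        have := hc s⁻¹ (inv_mem hs) _ hw
        simpa [mul_assoc] using this
      obtain ⟨P', hP'⟩ : ∃ P' : Sylow p (normalizer (Z : Set G)),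
          (P' : Subgroup (normalizer (Z : Set G))) = (P : Subgroup G).subgroupOf (normalizer (Z : Set G)) := ⟨P.subtype hPN, Sylow.coe_subtype P hPN⟩
      have hyp : IsPGroup p (zpowers (⟨y, hyN⟩ : normalizer (Z : Set G))) :=
        IsPGroup.of_card (n := 1) (by rw [Nat.card_zpowers, Subgroup.orderOf_mk, hy, pow_one])
      obtain ⟨S, hS⟩ := hyp.exists_le_sylow
      obtain ⟨c, hc⟩ := MulAction.exists_smul_eq (normalizer (Z : Set G)) P' S
      have hmem := hS (mem_zpowers _)
      rw [← hc, Sylow.coe_subgroup_smul, mem_pointwise_smul_iff_inv_smul_mem, hP'] at hmem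
      have h1 : (c : G)⁻¹ * y * c ∈ (P : Subgroup G) := by
        simpa [mem_subgroupOf, MulAut.smul_def] using hmem
      have hyo : orderOf ((c : G)⁻¹ * y * c) = p := by
        rw [← hy]; simpa using MulEquiv.orderOf_eq (MulAut.conj (c : G)⁻¹) y
      obtain ⟨j, hj⟩ := mem_zpowers_iff.1 (unique_of_rank_one P hP z ⟨_, h1⟩ hz
        (by rw [← orderOf_coe]; exact hyo))
      have h2 : (c : G)⁻¹ * y * c ∈ Z := mem_zpowers_iff.2 ⟨j, congrArg Subtype.val hj⟩
      have h3 : y ∈ Z := by
        have := (mem_normalizer_iff.1 c.2 _).1 h2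
        simpa [mul_assoc] using this
      refine eq_of_le_of_card_ge (zpowers_le.2 h3) ?_
      rw [hZ, Nat.card_zpowers, Nat.card_zpowers, hy, hzo]
    obtain ⟨w, hw, hwx⟩ := hx2
    have hwo : orderOf w = p := by
      rw [← hx, ← hwx]; exact (MulEquiv.orderOf_eq (MulAut.conj g) w).symm
    have e1 := key x hx hx1
    have e2 := key w hwo hw
    apply hg
    refine mem_normalizer_iff.2 fun v => ?_
    have e3 : Z.map (MulAut.conj g).toMonoidHom = Z := by
      conv_lhs => rw [← e2]
      rw [MonoidHom.map_zpowers, hwx, e1]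
    constructor
    · intro hv
      rw [← e3]
      exact ⟨v, hv, rfl⟩
    · intro hv
      rw [← e3] at hv
      obtain ⟨u, hu, huv⟩ := hv
      exact mul_left_cancel (mul_right_cancel (show g * u * g⁻¹ = g * v * g⁻¹ from huv)) ▸ hu

open Subgroup in
theorem forward {G : Type*} [Group G] [Finite G] {p : ℕ} [hp : Fact p.Prime]
    (hsol : Cfsg.IsPSolvable p G) (P : Sylow p G) (hdiv : p ∣ Nat.card G) {H : Subgroup G}
    (hH : H ≠ ⊤) (hpH : p ∣ Nat.card H) (hse : Cfsg.Agent.SylowGraph.SE p H) :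
    Cfsg.pCore p G = ⊥ ∧ (IsCyclic ↥P ∨ (p = 2 ∧ ∃ n : ℕ, Nonempty (↥P ≃* QuaternionGroup (2 ^ n)))) := by
  obtain ⟨T, hTH, hT⟩ := Cfsg.Agent.SylowGraph.exists_sylow_le hpH hse
  have hO : Cfsg.pCore p G = ⊥ := by
    by_contra hne
    refine Cfsg.Agent.SylowGraph.not_le_of_normal hH hse ?_
      ((Cfsg.Agent.Core.pCore_le_sylow T).trans hTH)
    obtain ⟨k, hk⟩ := IsPGroup.iff_card.1 (Cfsg.Agent.Core.pCore_isPGroup (p := p) (G := G))
    rw [hk]
    refine dvd_pow_self p fun h0 => hne ?_
    rw [h0, pow_zero] at hk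
    exact card_eq_one.1 hk
  refine ⟨hO, ?_⟩
  -- the `p'`-core is not in `H`
  set N := Cfsg.pPrimeCore p G with hN
  have hNH : ¬ N ≤ H := by
    intro hle
    set f := QuotientGroup.mk' N with hf
    have hsurj : Function.Surjective f := QuotientGroup.mk'_surjective N
    obtain ⟨n, K, hK0, hKn, -, hKnorm, hstep⟩ :=
      Cfsg.Agent.Layer.isPSolvable_of_surjective hsol hsurj
    have hdq : p ∣ Nat.card (G ⧸ N) := by
      have h := N.card_mul_index
      rw [index_eq_card] at h
      exact ((Fact.out : p.Prime).dvd_mul.1 (h.symm ▸ hdiv)).resolve_left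
        (Cfsg.Agent.Core.not_dvd_card_pPrimeCore (p := p) (G := G))
    by_cases hall : ∀ i, K i = ⊥
    · rw [hall] at hKn
      haveI : Subsingleton (G ⧸ N) := subsingleton_iff.1 (subsingleton_of_bot_eq_top hKn)
      rw [Nat.card_unique] at hdq
      exact (Fact.out : p.Prime).ne_one (Nat.dvd_one.1 hdq)
    push Not at hall
    obtain ⟨i0, hi0, hmin0⟩ := (wellFounded_lt (α := Fin (n + 1))).has_min {i | K i ≠ ⊥} hall
    have hmin : ∀ j, j < i0 → K j = ⊥ := fun j hj => by_contra fun h => hmin0 j h hj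
    obtain ⟨i, rfl⟩ : ∃ i : Fin n, i.succ = i0 := ⟨i0.pred (fun h => hi0 (h ▸ hK0)), Fin.succ_pred _ _⟩
    have hprev : K i.castSucc = ⊥ := hmin _ (Fin.castSucc_lt_succ)
    haveI := hKnorm i.succ
    set M := (K i.succ).comap f with hM
    haveI : M.Normal := (hKnorm i.succ).comap f
    rcases hstep i with ⟨m, hm⟩ | hcop
    · rw [hprev, relIndex_bot_left] at hm
      have hMle : M ≤ H := by
        intro x hx
        obtain ⟨S, hS⟩ : ∃ S : Sylow p (G ⧸ N), (S : Subgroup (G ⧸ N)) = (T : Subgroup G).map f :=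
          ⟨T.mapSurjective hsurj, rfl⟩
        have h1 : f x ∈ (T : Subgroup G).map f := hS ▸ (IsPGroup.of_card hm).le_sylow_of_normal S hx
        obtain ⟨t, ht, htx⟩ := h1
        have h2 : t⁻¹ * x ∈ N := QuotientGroup.eq.1 htx
        simpa using H.mul_mem (hTH ht) (hle h2)
      refine Cfsg.Agent.SylowGraph.not_le_of_normal hH hse ?_ hMle
      refine dvd_trans ?_ (card_map_dvd (H := M) f)
      rw [hM, map_comap_eq_self_of_surjective hsurj, hm]
      refine dvd_pow_self p fun h0 => hi0 ?_
      rw [h0, pow_zero] at hm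
      exact card_eq_one.1 hm
    · rw [hprev, relIndex_bot_left] at hcop
      refine hi0 ?_
      have hMcop : (Nat.card M).Coprime p := by
        have h := (N.subgroupOf M).card_mul_index
        have h2 : Nat.card (N.subgroupOf M) = Nat.card N := Nat.card_congr
          (subgroupOfEquivOfLe (fun x hx => by
            rw [hM, mem_comap, hf, QuotientGroup.mk'_apply, (QuotientGroup.eq_one_iff x).2 hx]
            exact one_mem _)).toEquiv
        rw [← h, h2]
        refine Nat.Coprime.mul_left ?_ ?_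
        · exact ((Fact.out : p.Prime).coprime_iff_not_dvd.2
            (Cfsg.Agent.Core.not_dvd_card_pPrimeCore (p := p) (G := G))).symm
        · change (N.relIndex M).Coprime p
          have hN0 : N = (⊥ : Subgroup (G ⧸ N)).comap f := by
            rw [MonoidHom.comap_bot, hf, QuotientGroup.ker_mk']
          rw [hN0, hM, relIndex_comap, map_comap_eq_self_of_surjective hsurj, relIndex_bot_left]
          exact hcop
      have hle2 : M ≤ N := Cfsg.Agent.Core.le_pPrimeCore hMcop
      rw [← map_comap_eq_self_of_surjective hsurj (K i.succ), eq_bot_iff]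
      exact (map_mono hle2).trans (QuotientGroup.map_mk'_self N).le
  -- rank one
  obtain ⟨g, hg⟩ := MulAction.exists_smul_eq G T P
  have huniq : ∀ A B : Subgroup ↥(T : Subgroup G), Nat.card A = p → Nat.card B = p → A = B := by
    by_contra hcon
    push Not at hcon
    obtain ⟨A, B, hA, hB, hAB⟩ := hcon
    haveI : Nontrivial ↥(T : Subgroup G) := nontrivial_iff_ne_bot (T : Subgroup G) |>.2 hT
    haveI := T.2.center_nontrivial
    obtain ⟨⟨c, hc⟩, hco⟩ := exists_prime_orderOf_dvd_card' p
      ((T.2.to_subgroup (center ↥(T : Subgroup G))).card_eq_or_dvd.resolve_left Finite.one_lt_card.ne')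
    rw [Subgroup.orderOf_mk] at hco
    obtain ⟨d, hd, hdc⟩ : ∃ d : ↥(T : Subgroup G), orderOf d = p ∧ d ∉ zpowers c := by
      have hcc : Nat.card (zpowers c) = p := by rw [Nat.card_zpowers, hco]
      have : ∃ C : Subgroup ↥(T : Subgroup G), Nat.card C = p ∧ C ≠ zpowers c := by
        rcases eq_or_ne A (zpowers c) with h | h
        · exact ⟨B, hB, fun hb => hAB (h.trans hb.symm)⟩
        · exact ⟨A, hA, h⟩
      obtain ⟨C, hC, hCne⟩ := this
      obtain ⟨⟨d, hdC⟩, hd⟩ := exists_prime_orderOf_dvd_card' (G := C) p (by rw [hC])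
      rw [Subgroup.orderOf_mk] at hd
      refine ⟨d, hd, fun hdc => hCne ?_⟩
      have e1 : zpowers d = C := eq_of_le_of_card_ge (zpowers_le.2 hdC)
        (by rw [Nat.card_zpowers, hd, hC])
      have e2 : zpowers d = zpowers c := eq_of_le_of_card_ge (zpowers_le.2 hdc)
        (by rw [Nat.card_zpowers, Nat.card_zpowers, hd, hco])
      exact e1.symm.trans e2
    have hcp : (c : G) ^ p = 1 :=
      orderOf_dvd_iff_pow_eq_one.1 ((orderOf_coe c).trans hco).dvd
    have hdp : (d : G) ^ p = 1 := orderOf_dvd_iff_pow_eq_one.1 ((orderOf_coe d).trans hd).dvd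
    have hcd : Commute (c : G) (d : G) := (congrArg Subtype.val (mem_center_iff.1 hc d)).symm
    have hAp : IsPGroup p (closure {(c : G), (d : G)} : Subgroup G) :=
      T.2.to_le ((closure_le _).2 (by
        rintro v (rfl | rfl)
        · exact c.2
        · exact d.2))
    refine hNH (Cfsg.Agent.Coprime.le_of_centralizers_le hcd
      (le_normalizer_of_normal (H := N) (mem_top _))
      (le_normalizer_of_normal (H := N) (mem_top _))
      (Fact.out : p.Prime) ?_ ?_ ?_ ?_ ?_ fun k => ?_)
    · rw [hcp]; exact one_mem _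
    · rw [hdp]; exact one_mem _
    · exact (Fact.out : p.Prime).coprime_iff_not_dvd.2
        (Cfsg.Agent.Core.not_dvd_card_pPrimeCore (p := p) (G := G))
    · obtain ⟨k, hk⟩ := IsPGroup.iff_card.1 hAp
      rw [hk]
      exact ((Fact.out : p.Prime).coprime_iff_not_dvd.2
        (Cfsg.Agent.Core.not_dvd_card_pPrimeCore (p := p) (G := G))).pow_left k
    · exact inf_le_right.trans (Cfsg.Agent.SylowGraph.centralizer_le hse
        (by rw [orderOf_coe, hco]) (hTH c.2))
    · refine inf_le_right.trans (Cfsg.Agent.SylowGraph.centralizer_le hse ?_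
        (H.mul_mem (H.pow_mem (hTH c.2) k) (hTH d.2)))
      refine orderOf_eq_prime ?_ fun h1 => hdc ?_
      · rw [(hcd.pow_left k).mul_pow, ← pow_mul, mul_comm, pow_mul,
          hcp, one_pow, one_mul,
          hdp]
      · have : d = (c ^ k)⁻¹ := Subtype.ext (by
          push_cast; exact eq_inv_of_mul_eq_one_right h1)
        rw [this]
        exact inv_mem (pow_mem (mem_zpowers c) k)
  rcases Cfsg.Agent.Fusion.cyclic_or_quaternion_of_unique T.2 huniq with hc | ⟨h2, n, -, ⟨e⟩⟩
  · haveI := hc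
    exact Or.inl (isCyclic_of_surjective _ ((T.equiv P).surjective))
  · exact Or.inr ⟨h2, n, ⟨(T.equiv P).symm.trans e⟩⟩


/-- Let p be a prime and G a finite p-solvable group of order divisible by p, with Sylow p-subgroup P. Then the Sylow p-subgroups of G fail to be chain-connected through nontrivial intersections (equivalently, G has a strongly p-embedded subgroup) if and only if O_p(G) = 1 and P is cyclic or, for p = 2, generalized quaternion. -/
theorem result {G : Type*} [Group G] [Finite G]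
    (p : ℕ) [Fact p.Prime] (hdiv : p ∣ Nat.card G) (hsol : Cfsg.IsPSolvable p G) (P : Sylow p G) :
    ¬ Cfsg.IsSylowChainConnected p G ↔
      Cfsg.pCore p G = ⊥ ∧ (IsCyclic ↥P ∨ (p = 2 ∧ ∃ n : ℕ, Nonempty (↥P ≃* QuaternionGroup (2 ^ n)))) := by
  constructor
  · intro h
    obtain ⟨H, hH, hpH, hse⟩ := Cfsg.Agent.SylowGraph.exists_se_of_not_connected h
    exact forward hsol P hdiv hH hpH hse
  · rintro ⟨hO, hP⟩
    obtain ⟨H, hH, hpH, hse⟩ := backward hdiv P hO hP
    exact Cfsg.Agent.SylowGraph.not_connected_of_se hH hpH hse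

end Cfsg.Agent.S3057
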