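import Cfsg.Statements.S3058
import Cfsg.Agent.SylowGraph.Basic
import Cfsg.Agent.Coprime.Generation

set_option autoImplicit false
open Cfsg

namespace Cfsg.Agent.S3058

/-- Let p be a prime and G a finite group whose Sylow p-subgroups are not chain-connected through nontrivial intersections (so G has a strongly p-embedded subgroup). If N and M are normal subgroups of G whose orders are both divisible by p, then the order of N ∩ M is divisible by p. Consequently, among the normal subgroups of G whose order is divisible by p there is a smallest one (the intersection of all of them). -/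
theorem result {G : Type*} [Group G] [Finite G]
    (p : ℕ) [Fact p.Prime] (hG : ¬ Cfsg.IsSylowChainConnected p G)
    (N M : Subgroup G) [N.Normal] [M.Normal] (hN : p ∣ Nat.card N) (hM : p ∣ Nat.card M) :
    p ∣ Nat.card ↥(N ⊓ M) := by
  classical
  obtain ⟨H, hH, hpH, hse⟩ := SylowGraph.exists_se_of_not_connected hG
  by_contra hK
  obtain ⟨S, hSH, -⟩ := SylowGraph.exists_sylow_le hpH hse
  obtain ⟨x, hxN, hxo, hxS⟩ := SylowGraph.exists_mem_sylow hN S
  obtain ⟨y, hyM, hyo, hyS⟩ := SylowGraph.exists_mem_sylow hM S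
  have hpr : p.Prime := Fact.out
  obtain ⟨m, hm⟩ := IsPGroup.iff_card.1 S.2
  have hKS : ∀ z ∈ N, z ∈ M → z ∈ (S : Subgroup G) → z = 1 := by
    intro z h1 h2 h3
    have hd : orderOf z ∣ p ^ m := by
      rw [← hm, ← Subgroup.orderOf_mk z h3]
      exact orderOf_dvd_natCard _
    have hd' : orderOf z ∣ Nat.card ↥(N ⊓ M) := by
      rw [← Subgroup.orderOf_mk z (Subgroup.mem_inf.2 ⟨h1, h2⟩)]
      exact orderOf_dvd_natCard _
    have := Nat.eq_one_of_dvd_coprimes (((hpr.coprime_iff_not_dvd).2 hK).pow_left m) hd hd'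
    exact orderOf_eq_one_iff.1 this
  have hxy : Commute x y := by
    rw [commute_iff_eq, ← commutatorElement_eq_one_iff_mul_comm, commutatorElement_def]
    refine hKS _ ?_ ?_ ?_
    · have h1 := Subgroup.Normal.conj_mem (inferInstance : N.Normal) x⁻¹ (inv_mem hxN) y
      have := mul_mem hxN h1
      simpa [mul_assoc] using this
    · exact mul_mem (Subgroup.Normal.conj_mem inferInstance y hyM x) (inv_mem hyM)
    · exact mul_mem (mul_mem (mul_mem hxS hyS) (inv_mem hxS)) (inv_mem hyS)
  have hle : N ⊓ M ≤ H := by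
    have hpow : ∀ z : G, orderOf z = p → z ^ p ∈ Subgroup.centralizer ((N ⊓ M : Subgroup G) : Set G) :=
      fun z hz => by rw [← hz, pow_orderOf_eq_one]; exact one_mem _
    have hnor : ∀ z : G, z ∈ Subgroup.normalizer ((N ⊓ M : Subgroup G) : Set G) := fun z => by
      rw [Subgroup.normalizer_eq_top]; trivial
    refine Coprime.le_of_centralizers_le hxy (hnor x) (hnor y) hpr (hpow x hxo) (hpow y hyo)
      ((hpr.coprime_iff_not_dvd).2 hK) ?_ ?_ ?_
    · have hcS : Subgroup.closure {x, y} ≤ (S : Subgroup G) := by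
        rw [Subgroup.closure_le]
        rintro z (rfl | rfl) <;> assumption
      exact Nat.Coprime.coprime_dvd_left (hm ▸ Subgroup.card_dvd_of_le hcS)
        (((hpr.coprime_iff_not_dvd).2 hK).pow_left m)
    · exact inf_le_right.trans (SylowGraph.centralizer_le hse hxo (hSH hxS))
    · intro k
      refine inf_le_right.trans (SylowGraph.centralizer_le hse ?_
        (mul_mem (pow_mem (hSH hxS) k) (hSH hyS)))
      refine orderOf_eq_prime ?_ ?_
      · rw [(hxy.pow_left k).mul_pow, ← pow_mul, mul_comm, pow_mul, ← hxo, pow_orderOf_eq_one,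
          one_pow, one_mul, hxo, ← hyo, pow_orderOf_eq_one]
      · intro h1
        have hy : y ∈ N := by
          rw [eq_inv_of_mul_eq_one_right h1]
          exact inv_mem (pow_mem hxN k)
        have := hKS y hy hyM hyS
        rw [this, orderOf_one] at hyo
        exact hpr.ne_one hyo.symm
  refine SylowGraph.not_le_of_normal hH hse hN fun n hn => ?_
  by_contra hnH
  refine hse n hnH ?_
  have hc : n * y * n⁻¹ * y⁻¹ ∈ H := by
    refine hle (Subgroup.mem_inf.2 ⟨?_, ?_⟩)
    · have h1 := Subgroup.Normal.conj_mem (inferInstance : N.Normal) n⁻¹ (inv_mem hn) y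
      have := mul_mem hn h1
      simpa [mul_assoc] using this
    · exact mul_mem (Subgroup.Normal.conj_mem inferInstance y hyM n) (inv_mem hyM)
  have hyn : n * y * n⁻¹ ∈ H ⊓ H.map (MulAut.conj n).toMonoidHom :=
    Subgroup.mem_inf.2 ⟨by simpa using mul_mem hc (hSH hyS), y, hSH hyS, rfl⟩
  have hdn : p ∣ orderOf (⟨_, hyn⟩ : ↥(H ⊓ H.map (MulAut.conj n).toMonoidHom)) := by
    rw [Subgroup.orderOf_mk, ← hyo]
    exact (MulEquiv.orderOf_eq (MulAut.conj n) y).symm.dvd
  exact hdn.trans (orderOf_dvd_natCard _)

end Cfsg.Agent.S3058
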