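import Cfsg.Statements.S3059
import Cfsg.Agent.SylowGraph.Basic

set_option autoImplicit false
open Cfsg

namespace Cfsg.Agent.S3059

/-- Let p be a prime and H a strongly p-embedded subgroup of the finite group G in the classical sense: H is proper, p divides the order of H, and H ∩ gHg⁻¹ has order prime to p for every g outside H. Then for every normal subgroup N of G of order divisible by p, G = H · O^p(N), where O^p(N) is the subgroup generated by the elements of N of order prime to p. -/
theorem result {G : Type*} [Group G] [Finite G]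
    (p : ℕ) [Fact p.Prime] (H : Subgroup G) (hH : H ≠ ⊤) (hpH : p ∣ Nat.card H)
    (hse : ∀ g : G, g ∉ H → ¬ p ∣ Nat.card ↥(H ⊓ H.map (MulAut.conj g).toMonoidHom))
    (N : Subgroup G) [N.Normal] (hN : p ∣ Nat.card N) :
    H ⊔ Subgroup.closure {g : G | g ∈ N ∧ (orderOf g).Coprime p} = ⊤ := by
  classical
  set K := Subgroup.closure {g : G | g ∈ N ∧ (orderOf g).Coprime p} with hK
  have hKN : K ≤ N := (Subgroup.closure_le _).2 fun g hg => hg.1
  have hKn : K.Normal := by
    refine ⟨fun x hx g => ?_⟩
    have : K.map (MulAut.conj g).toMonoidHom ≤ K := by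
      rw [hK, MonoidHom.map_closure, Subgroup.closure_le]
      rintro _ ⟨y, ⟨hy1, hy2⟩, rfl⟩
      refine Subgroup.subset_closure ⟨Subgroup.Normal.conj_mem inferInstance y hy1 g, ?_⟩
      change (orderOf (MulAut.conj g y)).Coprime p
      rw [MulEquiv.orderOf_eq (MulAut.conj g)]
      exact hy2
    exact this ⟨x, hx, rfl⟩
  obtain ⟨S, hSH, -⟩ := SylowGraph.exists_sylow_le hpH hse
  let Q : Sylow p N := default
  obtain ⟨T, hT⟩ := (Q.2.map N.subtype).exists_le_sylow
  obtain ⟨g, rfl⟩ := MulAction.exists_smul_eq G S T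
  set Q' : Sylow p N := (MulAut.conjNormal g⁻¹ : MulAut N) • Q with hQ'
  set P : Subgroup G := (Q' : Subgroup N).map N.subtype with hP
  have hPS : P ≤ (S : Subgroup G) := by
    rintro _ ⟨y, hy, rfl⟩
    rw [hQ', SetLike.mem_coe, Sylow.pointwise_smul_def,
      Subgroup.mem_pointwise_smul_iff_inv_smul_mem] at hy
    have := SylowGraph.mem_smul.1 (hT (Subgroup.mem_map_of_mem N.subtype hy))
    change _ ∈ (S : Subgroup G) at this
    simpa [MulAut.smul_def, ← map_inv, mul_assoc] using this
  have hPne : P ≠ ⊥ := by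
    rw [hP, ne_eq, Subgroup.map_eq_bot_iff_of_injective _ N.subtype_injective]
    exact Q'.ne_bot_of_dvd_card hN
  have hnorm : Subgroup.normalizer (P : Set G) ≤ H :=
    SylowGraph.normalizer_le hse (Q'.2.map N.subtype) hPne (hPS.trans hSH)
  have hfrat := Sylow.normalizer_sup_eq_top Q'
  have hNle : N ≤ H ⊔ K := by
    set M := K.subgroupOf N ⊔ (Q' : Subgroup N) with hM
    have hq : IsPGroup p (N ⧸ K.subgroupOf N) := by
      intro q
      obtain ⟨n, rfl⟩ := QuotientGroup.mk_surjective q
      refine ⟨(orderOf n).factorization p, ?_⟩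
      rw [← QuotientGroup.mk_pow, QuotientGroup.eq_one_iff, Subgroup.mem_subgroupOf]
      refine Subgroup.subset_closure ⟨SetLike.coe_mem _, ?_⟩
      rw [Subgroup.orderOf_coe, orderOf_pow_of_dvd (pow_ne_zero _ (Fact.out : p.Prime).ne_zero)
        (Nat.ordProj_dvd _ _)]
      exact (Nat.coprime_ordCompl (Fact.out) (orderOf_pos n).ne').symm
    obtain ⟨k, hk⟩ := IsPGroup.iff_card.1 hq
    have h1 : M.index ∣ p ^ k := by
      rw [← hk, ← Subgroup.index_eq_card]
      exact Subgroup.index_dvd_of_le le_sup_left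
    have h2 : ¬ p ∣ M.index := fun h =>
      Q'.not_dvd_index (h.trans (Subgroup.index_dvd_of_le le_sup_right))
    obtain ⟨i, -, hi⟩ := (Nat.dvd_prime_pow Fact.out).1 h1
    have hi0 : i = 0 := by
      by_contra h0
      exact h2 (hi ▸ dvd_pow_self p h0)
    rw [hi0, pow_zero, Subgroup.index_eq_one] at hi
    have := congrArg (Subgroup.map N.subtype) hi
    rw [hM, Subgroup.map_sup, Subgroup.subgroupOf_map_subtype, inf_of_le_left hKN,
      ← MonoidHom.range_eq_map, Subgroup.range_subtype] at this
    refine this.ge.trans (sup_le le_sup_right (le_trans ?_ le_sup_left))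
    exact hPS.trans hSH
  exact eq_top_iff.2 (hfrat ▸ sup_le (hnorm.trans le_sup_left) hNle)

end Cfsg.Agent.S3059
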