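import Cfsg.Statements.S3061
import Mathlib

set_option autoImplicit false
open Cfsg

namespace Cfsg.Agent.S3061

open Subgroup
open scoped commutatorElement

theorem class_two {S : Type*} [Group S] (A : Subgroup S) (x : S)
    (hab : ∀ a ∈ A, ∀ b ∈ A, a * b = b * a)
    (h : ∀ a ∈ A, ⁅a, x⁆ ∈ centralizer ((A ⊔ zpowers x : Subgroup S) : Set S)) :
    ⁅⁅A ⊔ zpowers x, A ⊔ zpowers x⁆, A ⊔ zpowers x⁆ = ⊥ := by
  set H := A ⊔ zpowers x with hH
  set C := centralizer (H : Set S) with hC
  rw [commutator_eq_bot_iff_le_centralizer, commutator_le]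
  have hgen : H = closure ((A : Set S) ∪ {x}) := by
    rw [Subgroup.closure_union, Subgroup.closure_eq, ← zpowers_eq_closure]
  have hfix : ∀ c ∈ C, ∀ g ∈ H, g * c * g⁻¹ = c := fun c hc g hg => by
    rw [mem_centralizer_iff.1 hc g hg, mul_inv_cancel_right]
  -- elements `g` whose commutators with all of `H` are central
  have hright : ∀ g ∈ H, (∀ t ∈ (A : Set S) ∪ {x}, ⁅g, t⁆ ∈ C) → ∀ k ∈ H, ⁅g, k⁆ ∈ C := by
    intro g hg hg' k hk
    rw [hgen] at hk
    induction hk using Subgroup.closure_induction with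
    | mem t ht => exact hg' t ht
    | one => simp
    | mul k l hk hl ihk ihl =>
      rw [← hgen] at hk
      have e : ⁅g, k * l⁆ = ⁅g, k⁆ * (k * ⁅g, l⁆ * k⁻¹) := by
        simp only [commutatorElement_def]; group
      rw [e, hfix _ ihl k hk]
      exact mul_mem ihk ihl
    | inv k hk ihk =>
      rw [← hgen] at hk
      have e : ⁅g, k⁻¹⁆ = k⁻¹ * ⁅g, k⁆⁻¹ * k⁻¹⁻¹ := by
        simp only [commutatorElement_def]; group
      rw [e, hfix _ (inv_mem ihk) _ (inv_mem hk)]
      exact inv_mem ihk
  have hbase : ∀ s ∈ (A : Set S) ∪ {x}, ∀ t ∈ (A : Set S) ∪ {x}, ⁅s, t⁆ ∈ C := by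
    rintro s (hs | hs) t (ht | ht)
    · rw [commutatorElement_eq_one_iff_mul_comm.2 (hab s hs t ht)]; exact one_mem _
    · rw [Set.mem_singleton_iff.1 ht]; exact h s hs
    · rw [Set.mem_singleton_iff.1 hs, ← commutatorElement_inv]; exact inv_mem (h t ht)
    · rw [Set.mem_singleton_iff.1 hs, Set.mem_singleton_iff.1 ht, commutatorElement_self]
      exact one_mem _
  have hgenle : ∀ t ∈ (A : Set S) ∪ {x}, t ∈ H := fun t ht => hgen ▸ Subgroup.subset_closure ht
  intro g hg k hk
  refine hright g hg (fun t ht => ?_) k hk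
  rw [← commutatorElement_inv]
  exact inv_mem (hright t (hgenle t ht) (hbase t ht) g hg)


/-- Let S be a finite p-group. Then D*(S) itself belongs to the family that generates it: D*(S) is abelian, and every x ∈ S with ⟨D*(S), x⟩ of class at most two centralizes D*(S). Hence D*(S) is the unique maximal member of that family. -/
theorem result {S : Type*} [Group S] [Finite S] {p : ℕ} [Fact p.Prime] (hS : IsPGroup p S) :
    Cfsg.dStar S ∈ Cfsg.dStarFamily S := by
  classical
  have : Group.IsNilpotent S := hS.isNilpotent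
  set D := Cfsg.dStar S with hD
  have hle : ∀ A ∈ Cfsg.dStarFamily S, A ≤ D := fun A hA => le_sSup hA
  have key : ∀ n : ℕ, ∀ y ∈ D, y ∈ Subgroup.upperCentralSeries S n → ∀ d ∈ D, d * y = y * d := by
    intro n
    induction n with
    | zero =>
      intro y _ hy d _
      rw [Subgroup.upperCentralSeries_zero, Subgroup.mem_bot] at hy
      simp [hy]
    | succ n ih =>
      intro y hy hyn
      have hcen : D ≤ Subgroup.centralizer ({y} : Set S) := by
        refine sSup_le fun A hA d hd => ?_
        rw [Subgroup.mem_centralizer_singleton_iff]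
        have hAc : ∀ a ∈ A, ∀ b ∈ A, a * b = b * a := fun a ha b hb =>
          congrArg Subtype.val (hA.1.is_comm.comm (⟨a, ha⟩ : A) ⟨b, hb⟩)
        refine hA.2 y (class_two A y hAc fun a ha => ?_) d hd
        have h1 : ⁅a, y⁆ ∈ D := by
          rw [commutatorElement_def]
          exact mul_mem (mul_mem (mul_mem (hle A hA ha) hy) (inv_mem (hle A hA ha))) (inv_mem hy)
        have h2 : ⁅a, y⁆ ∈ Subgroup.upperCentralSeries S n := by
          rw [← commutatorElement_inv]
          exact inv_mem (Subgroup.mem_upperCentralSeries_succ_iff.1 hyn a)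
        rw [Subgroup.mem_centralizer_iff]
        intro g hg
        exact ih _ h1 h2 g ((sup_le (hle A hA) (Subgroup.zpowers_le.2 hy)) hg)
      intro d hd
      exact Subgroup.mem_centralizer_singleton_iff.1 (hcen hd)
  have hcomm : ∀ a ∈ D, ∀ b ∈ D, a * b = b * a := fun a ha b hb =>
    key _ b hb (by rw [Subgroup.upperCentralSeries_nilpotencyClass]; trivial) a ha
  refine ⟨⟨⟨fun a b => Subtype.ext (hcomm a a.2 b b.2)⟩⟩, fun x hx a ha => ?_⟩
  have : D ≤ Subgroup.centralizer ({x} : Set S) := by
    refine sSup_le fun A hA d hd => ?_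
    rw [Subgroup.mem_centralizer_singleton_iff]
    refine hA.2 x ?_ d hd
    rw [eq_bot_iff, ← hx]
    have h1 : A ⊔ Subgroup.zpowers x ≤ D ⊔ Subgroup.zpowers x := sup_le_sup_right (hle A hA) _
    exact Subgroup.commutator_mono (Subgroup.commutator_mono h1 h1) h1
  exact Subgroup.mem_centralizer_singleton_iff.1 (this ha)

end Cfsg.Agent.S3061
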