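import Cfsg.Statements.S3060
import Cfsg.Agent.S3061
import Cfsg.Agent.Core.PCore
import Cfsg.Agent.Fusion.PGroup
import Cfsg.Agent.QdFree.ZJControl

set_option autoImplicit false
open Cfsg
open Subgroup
open Cfsg.Agent
open scoped commutatorElement

namespace Cfsg.Agent.S3060

/-- The D*-Theorem. For a finite p-group S let D*(S) be the subgroup generated by the abelian subgroups A of S such that every x ∈ S with ⟨A, x⟩ of nilpotency class at most two centralizes A. Let p be an odd prime and H a finite p-stable group with Sylow p-subgroup S. Here H is p-stable in the following sense: the largest normal p-subgroup O_p(H) contains its centralizer in H, and for every normal p-subgroup P of H, every element acting quadratically on P has image in O_p(H/C_H(P)). Then D*(S) is a normal subgroup of H. -/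
theorem result {G : Type*} [Group G] [Finite G] {p : ℕ} [Fact p.Prime] (hp : p ≠ 2)
    (hc : Subgroup.centralizer (Cfsg.pCore p G : Set G) ≤ Cfsg.pCore p G)
    (hst : ∀ (P : Subgroup G) [P.Normal], IsPGroup p P → Cfsg.IsPStableOn p P) (S : Sylow p G) :
    (Cfsg.dStarOf (S : Subgroup G)).Normal := by
  classical
  set T := Cfsg.pCore p G with hT
  set S' := (S : Subgroup G) with hS'
  set D := Cfsg.dStarOf S' with hD
  have hTp : IsPGroup p T := Core.pCore_isPGroup
  have hTS : T ≤ S' := Core.pCore_le_sylow S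
  have hDS : D ≤ S' := map_subtype_le _
  have hfam := S3061.result (S := ↥S') S.2
  have hDab : ∀ a ∈ D, ∀ b ∈ D, Commute a b := by
    rintro _ ⟨a, ha, rfl⟩ _ ⟨b, hb, rfl⟩
    exact congrArg S'.subtype (congrArg Subtype.val (hfam.1.is_comm.comm (⟨a, ha⟩ : Cfsg.dStar ↥S') ⟨b, hb⟩))
  -- the defining property, in `G`
  have key : ∀ y ∈ S', (∀ a ∈ D, Commute ⁅a, y⁆ y ∧ ∀ b ∈ D, Commute ⁅a, y⁆ b) →
      ∀ a ∈ D, Commute a y := by
    intro y hy h a ha
    obtain ⟨a, ha', rfl⟩ := ha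
    refine congrArg S'.subtype (hfam.2 ⟨y, hy⟩ (S3061.class_two _ _ (fun u hu v hv => ?_) fun u hu => ?_) a ha')
    · exact Subtype.ext (hDab _ ⟨u, hu, rfl⟩ _ ⟨v, hv, rfl⟩).eq
    · obtain ⟨h1, h2⟩ := h _ (mem_map_of_mem S'.subtype hu)
      have hle : Cfsg.dStar ↥S' ⊔ zpowers ⟨y, hy⟩ ≤ centralizer {⁅u, (⟨y, hy⟩ : ↥S')⁆} := by
        refine sup_le (fun v hv => mem_centralizer_singleton_iff.mpr (Subtype.ext ?_)) (zpowers_le.mpr ?_)
        · exact (h2 _ (mem_map_of_mem S'.subtype hv)).eq.symm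
        · exact mem_centralizer_singleton_iff.mpr (Subtype.ext h1.eq.symm)
      exact mem_centralizer_iff.mpr fun v hv => mem_centralizer_singleton_iff.mp (hle hv)
  -- `p`-stability in the form used below
  have hstab : ∀ (P : Subgroup G) [P.Normal], P ≤ T → ∀ a ∈ S',
      ⁅⁅P, zpowers a⁆, zpowers a⁆ = ⊥ → ∃ M : Subgroup G, M.Normal ∧ a ∈ M ∧
        ∀ m ∈ M, ∃ s ∈ S', s ∈ M ∧ ∀ w ∈ P, m * w * m⁻¹ = s * w * s⁻¹ := by
    intro P _ hP a ha hq
    have := QdFree.ZJControl.centralizer_normal P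
    set C := centralizer (P : Set G)
    set M := (Cfsg.pCore p (G ⧸ C)).comap (QuotientGroup.mk' C)
    have hMn : M.Normal := (inferInstance : (Cfsg.pCore p (G ⧸ C)).Normal).comap _
    refine ⟨M, hMn, hst P (hTp.to_le hP) a hq, fun m hm => ?_⟩
    obtain ⟨s, hs, hse⟩ := Core.pCore_le_sylow
      (S.mapSurjective (QuotientGroup.mk'_surjective C)) hm
    have hc : s⁻¹ * m ∈ C := QuotientGroup.eq.mp hse
    refine ⟨s, hs, mem_comap.mpr (by rw [hse]; exact hm), fun w hw => ?_⟩
    calc m * w * m⁻¹ = s * ((s⁻¹ * m) * w) * m⁻¹ := by group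
      _ = s * (w * (s⁻¹ * m)) * m⁻¹ := by rw [mem_centralizer_iff.mp hc w hw]
      _ = _ := by group
  -- the largest normal subgroup of `G` inside `T` centralized by `D`
  obtain ⟨E, ⟨hEn, hET, hED⟩, hmax⟩ := (Set.toFinite {E : Subgroup G | E.Normal ∧ E ≤ T ∧
      ∀ a ∈ D, ∀ e ∈ E, Commute a e}).exists_maximal ⟨⊥, inferInstance, bot_le, fun a _ e he => by
        rw [mem_bot.mp he]; exact Commute.one_right a⟩
  have := hEn
  have := QdFree.ZJControl.centralizer_normal E
  set C := centralizer (E : Set G)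
  let q := QuotientGroup.mk' E
  have hq : Function.Surjective q := QuotientGroup.mk'_surjective E
  have hCT : C ⊓ T ≤ E := by
    by_contra hne
    set Tb := T.map q
    have hTbn : Tb.Normal := (inferInstance : T.Normal).map q hq
    set K := (C ⊓ T).map q
    have hKn : K.Normal := (inferInstance : (C ⊓ T).Normal).map q hq
    have hKne : K ≠ ⊥ := fun h => hne ((Subgroup.map_eq_bot_iff _ (f := q)).mp h |>.trans (QuotientGroup.ker_mk' E).le)
    have hcn := QdFree.ZJControl.centralizer_normal Tb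
    set X1 := (K ⊓ centralizer (Tb : Set (G ⧸ E))).comap q
    have hX1n : X1.Normal := (inferInstance : (K ⊓ centralizer (Tb : Set (G ⧸ E))).Normal).comap q
    have hEle : ∀ H : Subgroup (G ⧸ E), E ≤ H.comap q := fun H e he => by
      show q e ∈ H
      rw [show q e = 1 from (QuotientGroup.eq_one_iff e).mpr he]; exact one_mem _
    have hcenter : ∀ {Q : Subgroup (G ⧸ E)}, IsPGroup p Q → ∀ {N : Subgroup (G ⧸ E)}, N.Normal → N ≤ Q →
        N ≠ ⊥ → ∃ x ∈ N, x ≠ 1 ∧ x ∈ centralizer (Q : Set (G ⧸ E)) := by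
      intro Q hQ N hN hNQ hNne
      have := hN.subgroupOf Q
      have h := Fusion.pGroup_inf_center_ne_bot hQ (N.subgroupOf Q) fun h =>
        hNne (eq_bot_iff.mpr fun x hx => mem_bot.mpr
          (congrArg Subtype.val (mem_bot.mp (h.le (show (⟨x, hNQ hx⟩ : Q) ∈ N.subgroupOf Q from hx)))))
      obtain ⟨x, ⟨hxN, hxc⟩, hx1⟩ := ((bot_or_exists_ne_one _).resolve_left h)
      exact ⟨(x : G ⧸ E), hxN, fun hh => hx1 (Subtype.ext hh), mem_centralizer_iff.mpr fun y hy =>
        congrArg Subtype.val (mem_center_iff.mp hxc ⟨y, hy⟩)⟩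
    have hEX1 : E < X1 := by
      refine lt_of_le_of_ne (hEle _) fun e => ?_
      obtain ⟨x, hx, hx1, hxc⟩ := hcenter (hTp.map q) hKn (map_mono inf_le_right) hKne
      obtain ⟨x, rfl⟩ := hq x
      exact hx1 ((QuotientGroup.eq_one_iff x).mpr (e.ge ⟨hx, hxc⟩))
    obtain ⟨X, ⟨hXn, hEX, hXX1⟩, hmin⟩ := (Set.toFinite {X : Subgroup G | X.Normal ∧ E < X ∧ X ≤ X1}).exists_minimal
      ⟨X1, hX1n, hEX1, le_rfl⟩
    have := hXn
    have hXT : X ≤ T := by
      intro x hx
      obtain ⟨t, ht, hte⟩ := (hXX1 hx).1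
      have := mul_mem ht.2 (hET (QuotientGroup.eq.mp hte))
      rwa [mul_inv_cancel_left] at this
    have hXtt : ∀ x ∈ X, ∀ t ∈ T, ⁅x, t⁆ ∈ E := fun x hx t ht => (QuotientGroup.eq_one_iff _).mp (by
      show q ⁅x, t⁆ = 1
      rw [map_commutatorElement, commutatorElement_eq_one_iff_mul_comm]
      exact (mem_centralizer_iff.mp (hXX1 hx).2 _ (mem_map_of_mem q ht)).symm)
    -- what `D` fixes commutes with what it moves
    let Fix : G → Prop := fun y => ∀ a ∈ D, Commute a y
    let Perp : G → Prop := fun y => ∀ c ∈ X, Fix c → Commute y c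
    have hperp : ∀ x ∈ X, ∀ a ∈ D, Perp ⁅x, a⁆ := by
      intro x hx a ha c hc hfix
      have h1 : Commute a ⁅x⁻¹, c⁆ := hED a ha _ (hXtt _ (inv_mem hx) c (hXT hc))
      have h3 : ⁅a * x⁻¹ * a⁻¹, c⁆ = ⁅x⁻¹, c⁆ := by
        calc ⁅a * x⁻¹ * a⁻¹, c⁆ = ⁅a * x⁻¹ * a⁻¹, a * c * a⁻¹⁆ := by rw [(hfix a ha).eq, mul_inv_cancel_right]
          _ = a * ⁅x⁻¹, c⁆ * a⁻¹ := by simp only [commutatorElement_def]; group
          _ = _ := by rw [h1.eq, mul_inv_cancel_right]
      refine commutatorElement_eq_one_iff_commute.mp ?_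
      have h4 : ⁅a * x⁻¹ * a⁻¹, c⁆ = x⁻¹ * ⁅⁅x, a⁆, c⁆ * x * ⁅x⁻¹, c⁆ := by
        simp only [commutatorElement_def]; group
      rw [h4, mul_eq_right] at h3
      calc ⁅⁅x, a⁆, c⁆ = x * (x⁻¹ * ⁅⁅x, a⁆, c⁆ * x) * x⁻¹ := by group
        _ = 1 := by rw [h3]; group
    have hcomX : ∀ x ∈ X, ∀ a ∈ D, ⁅x, a⁆ ∈ X := fun x hx a _ => by
      rw [commutatorElement_def, show x * a * x⁻¹ * a⁻¹ = x * (a * x⁻¹ * a⁻¹) by group]
      exact mul_mem hx (hXn.conj_mem _ (inv_mem hx) a)
    have hperp_step : ∀ y ∈ X, Perp y → ∀ a ∈ D, Perp ⁅y, a⁆ := by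
      intro y hy h a ha c hc hfix
      have h1 : Commute (a * y⁻¹ * a⁻¹) c := by
        have := (h c hc hfix).inv_left.map (MulAut.conj a).toMonoidHom
        simpa [(hfix a ha).eq] using this
      rw [commutatorElement_def, show y * a * y⁻¹ * a⁻¹ = y * (a * y⁻¹ * a⁻¹) by group]
      exact (h c hc hfix).mul_left h1
    have : Group.IsNilpotent ↥S' := S.2.isNilpotent
    have hfixPerp : ∀ n : ℕ, ∀ y : ↥S', y ∈ Subgroup.upperCentralSeries ↥S' n → (y : G) ∈ X → Perp y → Fix y := by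
      intro n
      induction n with
      | zero =>
        intro y hy _ _ a _
        rw [Subgroup.upperCentralSeries_zero, mem_bot] at hy
        rw [hy]; exact Commute.one_right a
      | succ n ih =>
        intro y hy hyX hyP a ha
        refine key y y.2 (fun b hb => ?_) a ha
        have hfix : Fix ⁅(y : G), b⁆ := ih ⁅y, (⟨b, hDS hb⟩ : ↥S')⁆
          (Subgroup.mem_upperCentralSeries_succ_iff.mp hy (⟨b, hDS hb⟩ : ↥S')) (hcomX _ hyX b hb) (hperp_step _ hyX hyP b hb)
        rw [← commutatorElement_inv]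
        exact ⟨((hyP _ (hcomX _ hyX b hb) hfix).symm).inv_left, fun d hd => (hfix d hd).symm.inv_left⟩
    have hmoved : ∀ x ∈ X, ∀ a ∈ D, Fix ⁅x, a⁆ := fun x hx a ha => by
      obtain ⟨n, hn⟩ := Group.IsNilpotent.nilpotent ↥S'
      exact hfixPerp n ⟨_, hTS (hXT (hcomX x hx a ha))⟩ (hn ▸ mem_top _) (hcomX x hx a ha) (hperp x hx a ha)
    -- hence `D` is trivial on the factor
    have hfactor : ∀ x ∈ X, ∀ a ∈ D, ⁅x, a⁆ ∈ E := by
      intro x hx a ha
      have hquad : ⁅⁅X, zpowers a⁆, zpowers a⁆ = ⊥ := by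
        refine commutator_eq_bot_iff_le_centralizer.mpr (commutator_le.mpr fun y hy b hb => ?_)
        exact mem_centralizer_iff.mpr fun d hd =>
          (hmoved y hy b ((zpowers_le.mpr ha) hb) d ((zpowers_le.mpr ha) hd)).eq
      obtain ⟨M, hMn, haM, hM⟩ := hstab X hXT a (hDS ha) hquad
      set Mb := M.map q
      have hMbn : Mb.Normal := hMn.map q hq
      have := QdFree.ZJControl.centralizer_normal Mb
      have hXb : (X.map q).Normal := hXn.map q hq
      set K' := (X.map q ⊓ centralizer (Mb : Set (G ⧸ E))).comap q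
      have hK'n : K'.Normal := (inferInstance : (X.map q ⊓ centralizer (Mb : Set (G ⧸ E))).Normal).comap q
      have hK'X : K' ≤ X := fun y hy => by
        obtain ⟨z, hz, hze⟩ := hy.1
        have := mul_mem hz (hEX.le (QuotientGroup.eq.mp hze))
        rwa [mul_inv_cancel_left] at this
      have hEK' : E < K' := by
        refine lt_of_le_of_ne (hEle _) fun e => ?_
        obtain ⟨y, hy, hy1, hyc⟩ := hcenter (S.2.map q) hXb (map_mono (hXT.trans hTS)) fun h =>
          hEX.not_ge ((Subgroup.map_eq_bot_iff _ (f := q)).mp h |>.trans (QuotientGroup.ker_mk' E).le)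
        obtain ⟨y, rfl⟩ := hq y
        refine hy1 ((QuotientGroup.eq_one_iff y).mpr (e.ge ⟨hy, mem_centralizer_iff.mpr ?_⟩))
        rintro _ ⟨m, hm, rfl⟩
        obtain ⟨s, hs, -, hse⟩ := hM m hm
        have hyX : y ∈ X := by
          obtain ⟨z, hz, hze⟩ := hy
          have := mul_mem hz (hEX.le (QuotientGroup.eq.mp hze))
          rwa [mul_inv_cancel_left] at this
        refine mul_inv_eq_iff_eq_mul.mp ?_
        rw [← map_inv, ← map_mul, ← map_mul, hse y hyX, map_mul, map_mul, map_inv]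
        exact mul_inv_eq_iff_eq_mul.mpr (mem_centralizer_iff.mp hyc _ (mem_map_of_mem q hs))
      have hxK : x ∈ K' := hmin ⟨hK'n, hEK', hK'X.trans hXX1⟩ hK'X hx
      refine (QuotientGroup.eq_one_iff _).mp ?_
      show q ⁅x, a⁆ = 1
      rw [map_commutatorElement, commutatorElement_eq_one_iff_mul_comm]
      exact (mem_centralizer_iff.mp hxK.2 _ (mem_map_of_mem q haM)).symm
    refine hEX.not_ge (hmax ⟨hXn, hXT, fun a ha x hx => ?_⟩ hEX.le)
    obtain ⟨c, ⟨hcC, hcT⟩, hce⟩ := (hXX1 hx).1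
    have he : c⁻¹ * x ∈ E := QuotientGroup.eq.mp hce
    have hcX : c ∈ X := by
      have := mul_mem hx (inv_mem (hEX.le he))
      rwa [mul_inv_rev, inv_inv, mul_inv_cancel_left] at this
    have hc : Commute a c := by
      refine key c (hTS hcT) (fun b hb => ?_) a ha
      have h1 := hfactor c hcX b hb
      rw [← commutatorElement_inv]
      exact ⟨Commute.inv_left (mem_centralizer_iff.mp hcC _ h1), fun d hd => ((hED d hd _ h1).symm).inv_left⟩
    have := hc.mul_right (hED a ha _ he)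
    rwa [mul_inv_cancel_left] at this
  -- so `D` lies in the abelian normal subgroup `E ⊓ C(E)`
  have hCp : IsPGroup p C := by
    intro c
    obtain ⟨a, b, hab, hcab, -, hbz, ⟨k, hk⟩, hbc⟩ := Fusion.exists_pPart_mul (p := p) (c : G) (isOfFinOrder_of_finite _)
    have hbC : b ∈ C := (zpowers_le.mpr c.2) hbz
    have hbT : b ∈ centralizer (T : Set G) := by
      refine mem_centralizer_iff.mpr fun t ht => ?_
      refine (QdFree.ZJControl.commute_of_stable (Q := E ⊓ C) (hTp.to_le (inf_le_left.trans hET)) hbc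
        (mem_centralizer_iff.mpr fun e he => mem_centralizer_iff.mp hbC e he.1) ?_).eq.symm
      have h1 : b * t * b⁻¹ * t⁻¹ ∈ C ⊓ T := by
        refine mem_inf.mpr ⟨?_, mul_mem ((inferInstance : T.Normal).conj_mem t ht b) (inv_mem ht)⟩
        rw [show b * t * b⁻¹ * t⁻¹ = b * (t * b⁻¹ * t⁻¹) by group]
        exact mul_mem hbC ((inferInstance : C.Normal).conj_mem _ (inv_mem hbC) t)
      exact ⟨hCT h1, h1.1⟩
    have hb1 : b = 1 := by
      obtain ⟨j, hj⟩ := hTp ⟨b, hc hbT⟩
      exact orderOf_eq_one_iff.mp (Nat.eq_one_of_dvd_coprimes (hbc.pow_right j) dvd_rfl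
        (orderOf_dvd_of_pow_eq_one (congrArg Subtype.val hj)))
    refine ⟨k, Subtype.ext ?_⟩
    show (c : G) ^ p ^ k = 1
    rw [hab, hb1, mul_one]
    exact orderOf_dvd_iff_pow_eq_one.mp hk
  have hDC : D ≤ C := fun a ha => mem_centralizer_iff.mpr fun e he => (hED a ha e he).eq.symm
  have hDE : D ≤ C ⊓ E := fun a ha =>
    ⟨hDC ha, hCT ⟨hDC ha, Core.le_pCore hCp (hDC ha)⟩⟩
  -- the normal closure of `D` is in the family
  set W := normalClosure (D : Set G)
  have hWE : W ≤ C ⊓ E := normalClosure_le_normal hDE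
  have hWab : ∀ u ∈ W, ∀ v ∈ W, Commute u v := fun u hu v hv =>
    (mem_centralizer_iff.mp (hWE hu).1 v (hWE hv).2).symm
  have hWS : W ≤ S' := hWE.trans (inf_le_right.trans (hET.trans hTS))
  have hWfam : W.subgroupOf S' ∈ Cfsg.dStarFamily ↥S' := by
    refine ⟨⟨⟨fun u v => Subtype.ext (Subtype.ext (hWab _ u.2 _ v.2).eq)⟩⟩, fun x hx a ha => ?_⟩
    have hxq : ∀ u ∈ W, Commute (⁅u, (x : G)⁆) (x : G) := by
      intro u hu
      set H := W.subgroupOf S' ⊔ zpowers x
      have hh := commutator_eq_bot_iff_le_centralizer.mp hx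
      have hu' : (⟨u, hWS hu⟩ : ↥S') ∈ H := mem_sup_left (show (⟨u, hWS hu⟩ : ↥S') ∈ W.subgroupOf S' from hu)
      have hx' : x ∈ H := mem_sup_right (mem_zpowers x)
      exact (congrArg Subtype.val (mem_centralizer_iff.mp (hh (commutator_mem_commutator hu' hx')) x hx')).symm
    have hquad : ⁅⁅W, zpowers (x : G)⁆, zpowers (x : G)⁆ = ⊥ := by
      refine commutator_eq_bot_iff_le_centralizer.mpr (commutator_le.mpr fun u hu y hy => ?_)
      have hfix : Commute ⁅u, y⁆ (x : G) := by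
        have hn : ⁅u, (x : G)⁆ ∈ W := by
          rw [commutatorElement_def, show u * (x : G) * u⁻¹ * (x : G)⁻¹ = u * ((x : G) * u⁻¹ * (x : G)⁻¹) by group]
          exact mul_mem hu (normalClosure_normal.conj_mem _ (inv_mem hu) _)
        obtain ⟨i, rfl⟩ := hy
        have step : ∀ (i : ℤ), ∃ w, Commute w (x : G) ∧ ⁅u, (x : G) ^ i⁆ = w := by
          intro i
          induction i using Int.induction_on with
          | zero => exact ⟨1, Commute.one_left _, by simp⟩
          | succ m ih =>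
            obtain ⟨w, hw, hwe⟩ := ih
            refine ⟨w * ⁅u, (x : G)⁆, hw.mul_left (hxq u hu), ?_⟩
            rw [← hwe, zpow_add_one]
            calc ⁅u, (x : G) ^ (m : ℤ) * (x : G)⁆
                = ⁅u, (x : G) ^ (m : ℤ)⁆ * ((x : G) ^ (m : ℤ) * ⁅u, (x : G)⁆ * ((x : G) ^ (m : ℤ))⁻¹) := by
                  simp only [commutatorElement_def]; group
              _ = _ := by rw [((hxq u hu).zpow_right (m : ℤ)).eq.symm, mul_inv_cancel_right]
          | pred m ih =>
            obtain ⟨w, hw, hwe⟩ := ih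
            refine ⟨w * ⁅u, (x : G)⁆⁻¹, hw.mul_left (hxq u hu).inv_left, ?_⟩
            rw [← hwe, zpow_sub_one]
            calc ⁅u, (x : G) ^ (-(m : ℤ)) * (x : G)⁻¹⁆
                = ⁅u, (x : G) ^ (-(m : ℤ))⁆ * ((x : G) ^ (-(m : ℤ) - 1) * ⁅u, (x : G)⁆⁻¹ * ((x : G) ^ (-(m : ℤ) - 1))⁻¹) := by
                  simp only [commutatorElement_def]; group
              _ = _ := by rw [((hxq u hu).inv_left.zpow_right (-(m : ℤ) - 1)).eq.symm, mul_inv_cancel_right]
        obtain ⟨w, hw, hwe⟩ := step i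
        exact hwe ▸ hw
      obtain hfix := hfix
      refine mem_centralizer_iff.mpr fun z hz => ?_
      obtain ⟨j, rfl⟩ := hz
      exact (hfix.zpow_right j).eq.symm
    have hWT : W ≤ T := hWE.trans (inf_le_right.trans hET)
    obtain ⟨M, hMn, hxM, hM⟩ := hstab W hWT x x.2 hquad
    have hall : W ≤ centralizer {(x : G)} := by
      refine (closure_le _).mpr fun u hu => ?_
      obtain ⟨d, hd, hconj⟩ := Group.mem_conjugatesOfSet_iff.mp hu
      obtain ⟨g, rfl⟩ := isConj_iff.mp hconj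
      refine mem_centralizer_singleton_iff.mpr ?_
      obtain ⟨s, hs, -, hse⟩ := hM (g⁻¹ * (x : G) * g) (by simpa using hMn.conj_mem _ hxM g⁻¹)
      have hdW : ∀ b ∈ D, b ∈ W := fun b hb => subset_normalClosure hb
      have hsd : Commute d s := by
        refine key s hs (fun b hb => ⟨?_, fun b' hb' => ?_⟩) d hd
        · have hb' : g * b * g⁻¹ ∈ W := normalClosure_normal.conj_mem b (hdW b hb) g
          have h1 := hxq _ hb'
          have hbs : ⁅b, s⁆ = g⁻¹ * ⁅g * b * g⁻¹, (x : G)⁆ * g := by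
            rw [commutatorElement_def, show b * s * b⁻¹ * s⁻¹ = b * (s * b⁻¹ * s⁻¹) by group,
              ← hse b⁻¹ (inv_mem (hdW b hb))]
            simp only [commutatorElement_def]; group
          have hw : g⁻¹ * ⁅g * b * g⁻¹, (x : G)⁆ * g ∈ W := by
            rw [← hbs, commutatorElement_def, show b * s * b⁻¹ * s⁻¹ = b * (s * b⁻¹ * s⁻¹) by group]
            exact mul_mem (hdW b hb) (normalClosure_normal.conj_mem _ (inv_mem (hdW b hb)) s)
          rw [hbs]
          refine (mul_inv_eq_iff_eq_mul.mp ?_).symm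
          rw [← hse _ hw]
          calc g⁻¹ * (x : G) * g * (g⁻¹ * ⁅g * b * g⁻¹, (x : G)⁆ * g) * (g⁻¹ * (x : G) * g)⁻¹
              = g⁻¹ * ((x : G) * ⁅g * b * g⁻¹, (x : G)⁆ * (x : G)⁻¹) * g := by group
            _ = _ := by rw [← h1.eq, mul_inv_cancel_right]
        · refine hWab _ ?_ _ (hdW b' hb')
          rw [commutatorElement_def, show b * s * b⁻¹ * s⁻¹ = b * (s * b⁻¹ * s⁻¹) by group]
          exact mul_mem (hdW b hb) (normalClosure_normal.conj_mem _ (inv_mem (hdW b hb)) s)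
      have h2 := hse d (hdW d hd)
      rw [← hsd.eq, mul_inv_cancel_right] at h2
      calc g * d * g⁻¹ * (x : G) = g * d * (g⁻¹ * (x : G) * g) * g⁻¹ := by group
        _ = g * (d * (g⁻¹ * (x : G) * g)) * g⁻¹ := by group
        _ = g * ((g⁻¹ * (x : G) * g) * d) * g⁻¹ := by rw [← mul_inv_eq_iff_eq_mul.mp h2]
        _ = _ := by group
    exact Subtype.ext (mem_centralizer_singleton_iff.mp (hall ha))
  have hWD : W ≤ D := fun w hw => ⟨⟨w, hWS hw⟩, le_sSup (α := Subgroup ↥S') hWfam hw, rfl⟩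
  show D.Normal
  rw [show D = W from le_antisymm subset_normalClosure hWD]
  exact normalClosure_normal

end Cfsg.Agent.S3060
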