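import Cfsg.Statements.S3062
import Cfsg.Agent.S3061

set_option autoImplicit false
open Cfsg

namespace Cfsg.Agent.S3062

open Subgroup
open scoped commutatorElement

variable {S : Type*} [Group S]

theorem dStar_normal : (Cfsg.dStar S).Normal := by
  refine ⟨fun d hd g => ?_⟩
  have h : (Cfsg.dStar S).map (MulAut.conj g).toMonoidHom ≤ Cfsg.dStar S := by
    rw [map_le_iff_le_comap]
    refine sSup_le fun A hA => ?_
    rw [← map_le_iff_le_comap]
    refine le_sSup ⟨?_, fun x hx a ha => ?_⟩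
    · refine ⟨⟨fun u v => ?_⟩⟩
      obtain ⟨_, u, hu, rfl⟩ := u
      obtain ⟨_, v, hv, rfl⟩ := v
      apply Subtype.ext
      have h := congrArg Subtype.val (hA.1.is_comm.comm (⟨u, hu⟩ : A) ⟨v, hv⟩)
      simp only [Subgroup.coe_mul] at h
      simp only [Subgroup.coe_mul, MulEquiv.coe_toMonoidHom, ← map_mul, h]
    · obtain ⟨a, ha', rfl⟩ := ha
      obtain ⟨y, rfl⟩ := (MulAut.conj g).surjective x
      refine (map_mul (MulAut.conj g) a y).symm.trans (Eq.trans ?_ (map_mul (MulAut.conj g) y a))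
      congr 1
      refine hA.2 y ?_ a ha'
      apply map_injective (f := (MulAut.conj g).toMonoidHom) (MulAut.conj g).injective
      rw [map_commutator, map_commutator, Subgroup.map_sup, MonoidHom.map_zpowers, Subgroup.map_bot]
      exact hx
  exact h ⟨d, hd, rfl⟩

theorem isMulCommutative_sup {A B : Subgroup S} (hA : ∀ a ∈ A, ∀ b ∈ A, a * b = b * a)
    (hB : ∀ a ∈ B, ∀ b ∈ B, a * b = b * a) (hAB : ∀ a ∈ A, ∀ b ∈ B, a * b = b * a) :
    IsMulCommutative ↥(A ⊔ B) := by
  have h : A ⊔ B ≤ centralizer ((A ⊔ B : Subgroup S) : Set S) := by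
    refine sup_le ?_ ?_
    · refine le_centralizer_iff.2 (sup_le ?_ ?_)
      · exact fun x hx => mem_centralizer_iff.2 fun y hy => hA y hy x hx
      · exact fun x hx => mem_centralizer_iff.2 fun y hy => hAB y hy x hx
    · refine le_centralizer_iff.2 (sup_le ?_ ?_)
      · exact fun x hx => mem_centralizer_iff.2 fun y hy => (hAB x hx y hy).symm
      · exact fun x hx => mem_centralizer_iff.2 fun y hy => hB y hy x hx
  exact ⟨⟨fun u v => Subtype.ext (mem_centralizer_iff.1 (h v.2) u u.2)⟩⟩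

theorem exists_maxAbelian [Finite S] : ∃ A : Subgroup S, A ∈ Cfsg.maxAbelianSubgroups S := by
  obtain ⟨A, hA, hmax⟩ := (Set.toFinite {A : Subgroup S | IsMulCommutative A}).exists_maximalFor
    (fun A : Subgroup S => Nat.card A) _ ⟨⊥, show IsMulCommutative (⊥ : Subgroup S) from inferInstance⟩
  exact ⟨A, hA, fun B hB => le_of_not_gt fun h => (hmax hB h.le).not_gt h⟩

theorem le_of_centralizes [Finite S] {A D : Subgroup S} (hA : A ∈ Cfsg.maxAbelianSubgroups S)
    (h : ∀ d ∈ D, ∀ x ∈ A, d * x = x * d) (hD : ∀ a ∈ D, ∀ b ∈ D, a * b = b * a) : D ≤ A := by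
  have hsup := isMulCommutative_sup
    (fun a ha b hb => congrArg Subtype.val (hA.1.is_comm.comm (⟨a, ha⟩ : A) ⟨b, hb⟩)) hD
    fun a ha d hd => (h d hd a ha).symm
  have := eq_of_le_of_card_ge (le_sup_left : A ≤ A ⊔ D) (hA.2 _ hsup)
  exact this ▸ le_sup_right

/-- Thompson replacement for a normal abelian subgroup. -/
theorem exists_replacement [Finite S] {p : ℕ} [Fact p.Prime] (hS : IsPGroup p S) {D A : Subgroup S}
    [hDn : D.Normal] (hD : ∀ a ∈ D, ∀ b ∈ D, a * b = b * a) (hA : A ∈ Cfsg.maxAbelianSubgroups S)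
    (hnorm : ¬ D ≤ normalizer (A : Set S)) :
    ∃ A' : Subgroup S, A' ∈ Cfsg.maxAbelianSubgroups S ∧ A ⊓ D < A' ⊓ D ∧
      A' ≤ normalizer (A : Set S) := by
  classical
  have : Group.IsNilpotent S := hS.isNilpotent
  have hAc : ∀ a ∈ A, ∀ b ∈ A, a * b = b * a := fun a ha b hb =>
    congrArg Subtype.val (hA.1.is_comm.comm (⟨a, ha⟩ : A) ⟨b, hb⟩)
  have hex : ∃ n, ∃ b ∈ D, b ∉ normalizer (A : Set S) ∧ b ∈ Subgroup.upperCentralSeries S n := by
    obtain ⟨b, hb, hb'⟩ := SetLike.not_le_iff_exists.1 hnorm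
    exact ⟨_, b, hb, hb', by rw [Subgroup.upperCentralSeries_nilpotencyClass]; trivial⟩
  obtain ⟨b, hbD, hbN, hbn⟩ := Nat.find_spec hex
  have hc : ∀ a : S, ⁅b, a⁆ ∈ D ∧ ⁅b, a⁆ ∈ normalizer (A : Set S) := by
    intro a
    have h1 : ⁅b, a⁆ ∈ D := by
      rw [commutatorElement_def, show b * a * b⁻¹ * a⁻¹ = b * (a * b⁻¹ * a⁻¹) by group]
      exact mul_mem hbD (hDn.conj_mem _ (inv_mem hbD) a)
    refine ⟨h1, ?_⟩
    by_contra hne
    rcases Nat.eq_zero_or_pos (Nat.find hex) with h0 | hpos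
    · rw [h0, Subgroup.upperCentralSeries_zero, mem_bot] at hbn
      exact hbN (hbn ▸ one_mem _)
    · obtain ⟨m, hm⟩ := Nat.exists_eq_add_of_le hpos
      rw [show Nat.find hex = m + 1 by omega] at hbn
      exact Nat.find_min hex (show m < Nat.find hex by omega)
        ⟨_, h1, hne, Subgroup.mem_upperCentralSeries_succ_iff.1 hbn a⟩
  set I := A ⊓ A.map (MulAut.conj b).toMonoidHom with hI
  set X := closure ((fun a => ⁅b, a⁆) '' (A : Set S)) with hX
  have hXD : X ≤ D := (closure_le _).2 (by rintro _ ⟨a, -, rfl⟩; exact (hc a).1)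
  have hXN : X ≤ normalizer (A : Set S) := (closure_le _).2 (by rintro _ ⟨a, -, rfl⟩; exact (hc a).2)
  have hIA : ∀ i ∈ I, ∀ a ∈ A, i * a = a * i := fun i hi a ha => hAc i hi.1 a ha
  have hIX : ∀ i ∈ I, ∀ x ∈ X, i * x = x * i := by
    intro i hi
    have : X ≤ centralizer ({i} : Set S) := by
      rw [hX, closure_le]
      rintro _ ⟨a, ha, rfl⟩
      have h1 : b * a * b⁻¹ ∈ centralizer ({i} : Set S) := by
        obtain ⟨w, hw, hwi⟩ := hi.2
        rw [mem_centralizer_singleton_iff, ← hwi]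
        simp only [MulEquiv.coe_toMonoidHom, MulAut.conj_apply]
        calc b * a * b⁻¹ * (b * w * b⁻¹) = b * (a * w) * b⁻¹ := by group
          _ = b * (w * a) * b⁻¹ := by rw [hAc a ha w hw]
          _ = _ := by group
      show ⁅b, a⁆ ∈ centralizer ({i} : Set S)
      rw [commutatorElement_def]
      exact mul_mem h1 (inv_mem (mem_centralizer_singleton_iff.2 (hIA i hi a ha).symm))
    exact fun x hx => (mem_centralizer_singleton_iff.1 (this hx)).symm
  have hcomm := isMulCommutative_sup (A := I) (B := X) (fun u hu v hv => hAc u hu.1 v hv.1)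
    (fun u hu v hv => hD u (hXD hu) v (hXD hv)) hIX
  -- the order of the new subgroup
  have hcard : Nat.card A ≤ Nat.card ↥(I ⊔ X) := by
    have hIA' : I ≤ A := inf_le_left
    have hIX' : I ≤ I ⊔ X := le_sup_left
    let f : A ⧸ I.subgroupOf A → ↥(I ⊔ X) ⧸ I.subgroupOf (I ⊔ X) := fun q =>
      QuotientGroup.mk ⟨⁅b, (q.out : S)⁆,
        mem_sup_right (subset_closure ⟨_, q.out.2, rfl⟩)⟩
    have hf : Function.Injective f := by
      intro q r hqr
      rw [← QuotientGroup.out_eq' q, ← QuotientGroup.out_eq' r, QuotientGroup.eq]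
      have hi := QuotientGroup.eq.1 hqr
      rw [mem_subgroupOf] at hi ⊢
      simp only [Subgroup.coe_mul, InvMemClass.coe_inv] at hi ⊢
      set a := (q.out : S)
      set a' := (r.out : S)
      have ha : a ∈ A := q.out.2
      have ha' : a' ∈ A := r.out.2
      set i := ⁅b, a⁆⁻¹ * ⁅b, a'⁆ with hidef
      have hkey : b * (a⁻¹ * a') * b⁻¹ = a⁻¹ * i * a' := by
        rw [hidef, commutatorElement_def, commutatorElement_def]
        group
      have hmem : a⁻¹ * i * a' ∈ I :=
        Subgroup.mem_inf.2 ⟨A.mul_mem (A.mul_mem (A.inv_mem ha) hi.1) ha', ⟨a⁻¹ * a', A.mul_mem (A.inv_mem ha) ha', hkey⟩⟩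
      have : a⁻¹ * a' = i⁻¹ * (a⁻¹ * i * a') := by
        rw [← hIA i hi a⁻¹ (inv_mem ha)]
        group
      rw [this]
      exact I.mul_mem (I.inv_mem hi) hmem
    have h1 := (I.subgroupOf A).card_mul_index
    have h2 := (I.subgroupOf (I ⊔ X)).card_mul_index
    rw [Nat.card_congr (subgroupOfEquivOfLe hIA').toEquiv] at h1
    rw [Nat.card_congr (subgroupOfEquivOfLe hIX').toEquiv] at h2
    rw [← h1, ← h2]
    exact Nat.mul_le_mul le_rfl (Nat.card_le_card_of_injective f hf)
  refine ⟨I ⊔ X, ⟨hcomm, fun B hB => (hA.2 B hB).trans hcard⟩, ?_, sup_le (inf_le_left.trans le_normalizer) hXN⟩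
  refine lt_of_le_not_ge (fun a ha => ⟨mem_sup_left ⟨ha.1, a, ha.1, ?_⟩, ha.2⟩) fun hle => hbN ?_
  · simp only [MulEquiv.coe_toMonoidHom, MulAut.conj_apply]
    rw [hD b hbD a ha.2, mul_inv_cancel_right]
  · have hmap : A.map (MulAut.conj b).toMonoidHom ≤ A := by
      rintro _ ⟨a, ha, rfl⟩
      have h := (hle (show ⁅b, a⁆ ∈ (I ⊔ X) ⊓ D from
        ⟨mem_sup_right (subset_closure ⟨a, ha, rfl⟩), (hc a).1⟩)).1
      have h' := A.mul_mem h ha
      rw [commutatorElement_def, inv_mul_cancel_right] at h'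
      exact h'
    exact mem_normalizer_iff_map_conj_eq.2 (eq_of_le_of_card_ge hmap
      (le_of_eq (card_map_of_injective (MulAut.conj b).injective).symm))


/-- Let S be a finite p-group, J(S) the subgroup generated by the abelian subgroups of S of largest order and Z(J(S)) its centre. Then Z(S) ≤ D*(S) ≤ Z(J(S)), and every maximal normal abelian subgroup of S contains D*(S). -/
theorem result {S : Type*} [Group S] [Finite S] {p : ℕ} [Fact p.Prime]
    (hS : IsPGroup p S) :
    Subgroup.center S ≤ Cfsg.dStar S ∧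
    Cfsg.dStar S ≤ Cfsg.thompsonSubgroupA S ⊓ Subgroup.centralizer (Cfsg.thompsonSubgroupA S : Set S) ∧
    ∀ A : Subgroup S, A.Normal → IsMulCommutative A →
      (∀ B : Subgroup S, B.Normal → IsMulCommutative B → A ≤ B → B = A) → Cfsg.dStar S ≤ A := by
  classical
  have hDfam := S3061.result hS
  have hDab : ∀ d ∈ Cfsg.dStar S, ∀ e ∈ Cfsg.dStar S, d * e = e * d := fun d hd e he =>
    congrArg Subtype.val (hDfam.1.is_comm.comm (⟨d, hd⟩ : Cfsg.dStar S) ⟨e, he⟩)
  have hDn : (Cfsg.dStar S).Normal := dStar_normal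
  have hcomm : ∀ A : Subgroup S, IsMulCommutative A → Cfsg.dStar S ≤ normalizer (A : Set S) →
      ∀ x ∈ A, ∀ d ∈ Cfsg.dStar S, d * x = x * d := by
    intro A hA hnorm x hx d hd
    refine hDfam.2 x (S3061.class_two _ x hDab fun e he => ?_) d hd
    have h1 : ⁅e, x⁆ ∈ Cfsg.dStar S := by
      rw [commutatorElement_def, show e * x * e⁻¹ * x⁻¹ = e * (x * e⁻¹ * x⁻¹) by group]
      exact mul_mem he (hDn.conj_mem _ (inv_mem he) x)
    have h2 : ⁅e, x⁆ ∈ A := by
      rw [commutatorElement_def]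
      exact mul_mem ((mem_normalizer_iff.1 (hnorm he) x).1 hx) (inv_mem hx)
    have hle : Cfsg.dStar S ⊔ zpowers x ≤ centralizer ({⁅e, x⁆} : Set S) := sup_le
      (fun f hf => mem_centralizer_singleton_iff.2 (hDab f hf _ h1))
      (zpowers_le.2 (mem_centralizer_singleton_iff.2
        (congrArg Subtype.val (hA.is_comm.comm (⟨x, hx⟩ : A) ⟨_, h2⟩))))
    exact mem_centralizer_iff.2 fun g hg => mem_centralizer_singleton_iff.1 (hle hg)
  refine ⟨?_, ?_, ?_⟩
  · refine le_sSup ⟨⟨⟨fun a b => Subtype.ext (mem_center_iff.1 b.2 a)⟩⟩, fun x _ a ha => ?_⟩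
    exact (mem_center_iff.1 ha x).symm
  · have key : ∀ n : ℕ, ∀ A : Subgroup S, A ∈ Cfsg.maxAbelianSubgroups S →
        Nat.card (Cfsg.dStar S) ≤ n + Nat.card ↥(A ⊓ Cfsg.dStar S) → Cfsg.dStar S ≤ A := by
      intro n
      induction n using Nat.strong_induction_on with
      | _ n ih =>
      intro A hA hn
      by_cases hnorm : Cfsg.dStar S ≤ normalizer (A : Set S)
      · refine le_of_centralizes hA (fun d hd x hx => ?_) hDab
        exact hcomm A hA.1 hnorm x hx d hd
      · exfalso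
        obtain ⟨A', hA', hlt, hle⟩ := exists_replacement hS hDab hA hnorm
        have hcard : Nat.card ↥(A ⊓ Cfsg.dStar S) < Nat.card ↥(A' ⊓ Cfsg.dStar S) :=
          lt_of_not_ge fun h => hlt.ne (eq_of_le_of_card_ge hlt.le h)
        have hub := Subgroup.card_le_of_le (inf_le_right : A' ⊓ Cfsg.dStar S ≤ Cfsg.dStar S)
        exact hnorm ((ih (n - 1) (by omega) A' hA' (by omega)).trans hle)
    refine le_inf ?_ fun d hd => mem_centralizer_iff.2 fun j hj => ?_
    · obtain ⟨A, hA⟩ := exists_maxAbelian (S := S)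
      exact (key _ A hA (Nat.le_add_right _ _)).trans (le_sSup hA)
    · have hJ : Cfsg.thompsonSubgroupA S ≤ centralizer ({d} : Set S) := sSup_le fun A hA a ha =>
        mem_centralizer_singleton_iff.2
          (congrArg Subtype.val (hA.1.is_comm.comm (⟨a, ha⟩ : A) ⟨d, key _ A hA (Nat.le_add_right _ _) hd⟩))
      exact mem_centralizer_singleton_iff.1 (hJ hj)
  · intro A hAn hA hmax
    have hcen := hcomm A hA (by rw [normalizer_eq_top]; exact le_top)
    have hab : IsMulCommutative ↥(A ⊔ Cfsg.dStar S) := isMulCommutative_sup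
      (fun a ha b hb => congrArg Subtype.val (hA.is_comm.comm (⟨a, ha⟩ : A) ⟨b, hb⟩)) hDab
      fun a ha d hd => (hcen a ha d hd).symm
    rw [← hmax (A ⊔ Cfsg.dStar S) inferInstance hab le_sup_left]
    exact le_sup_right

end Cfsg.Agent.S3062
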