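import Cfsg.Statements.S3063
import Cfsg.Agent.CentLarge.MaxAbelian

set_option autoImplicit false
set_option maxHeartbeats 800000
open Cfsg
open Subgroup Cfsg.Agent.CentLarge
open scoped Pointwise commutatorElement

namespace Cfsg.Agent.S3063

/-- A weak replacement Theorem for metabelian p-groups: let S be a finite p-group whose derived subgroup is abelian and A an abelian subgroup of S of largest possible order. Then the normal closure of A in S contains an abelian subgroup B of the same order as A that is normal in S. -/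
theorem result {S : Type*} [Group S] [Finite S] {p : ℕ} [Fact p.Prime]
    (hS : IsPGroup p S) (hmeta : IsMulCommutative ↥(commutator S))
    (A : Subgroup S) (hA : A ∈ Cfsg.maxAbelianSubgroups S) :
    ∃ B ∈ Cfsg.maxAbelianSubgroups S, B.Normal ∧ B ≤ Subgroup.normalClosure (A : Set S) := by
  have : Group.IsNilpotent S := hS.isNilpotent
  set M := commutator S with hM
  set N₀ := Subgroup.normalClosure (A : Set S) with hN₀
  obtain ⟨B, ⟨hB, hBN⟩, hmax⟩ := Set.exists_max_image
    {B : Subgroup S | B ∈ Cfsg.maxAbelianSubgroups S ∧ B ≤ N₀} (fun B => Nat.card ↥(B ⊓ M))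
    (Set.toFinite _) ⟨A, hA, Subgroup.subset_normalClosure⟩
  refine ⟨B, hB, ?_, hBN⟩
  by_contra hnn
  set N := normalizer (B : Set S) with hN
  have hNtop : N < ⊤ := lt_top_iff_ne_top.2 fun h => hnn (normalizer_eq_top_iff.1 h)
  obtain ⟨x, hxN, hx⟩ := SetLike.exists_of_lt
    (Group.normalizerCondition_of_isNilpotent N hNtop)
  set B' := B.map (MulAut.conj x).toMonoidHom with hB'
  have hcard : Nat.card B' = Nat.card B := card_map_of_injective (MulAut.conj x).injective
  have hB'N₀ : B' ≤ N₀ := by
    rintro _ ⟨b, hb, rfl⟩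
    exact Subgroup.Normal.conj_mem inferInstance b (hBN hb) x
  have hB'N : B' ≤ N := by
    rintro _ ⟨b, hb, rfl⟩
    exact (mem_normalizer_iff.1 hxN b).1 (le_normalizer hb)
  have hne : ¬ B ≤ B' := by
    intro h
    have he : B = B' := eq_of_le_of_card_ge h hcard.le
    refine hx (mem_normalizer_iff.2 fun b => ?_)
    show b ∈ B ↔ x * b * x⁻¹ ∈ B
    conv_rhs => rw [he, hB', Subgroup.mem_map_equiv]
    simp [mul_assoc]
  set H := B ⊔ B' with hH
  set C := B ⊓ B' with hC
  set K := H ⊓ M with hK
  have hBc := isMulCommutative_iff_le_centralizer.1 hB.1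
  have hB'c : B' ≤ centralizer (B' : Set S) := by
    rintro _ ⟨b, hb, rfl⟩
    rw [mem_centralizer_iff]
    rintro _ ⟨c, hc, rfl⟩
    rw [← map_mul, ← map_mul, mem_centralizer_iff.1 (hBc hb) c hc]
  have hBK : B ≤ normalizer (K : Set S) := by
    intro b hb
    refine mem_normalizer_iff.2 fun k => ?_
    have hbH : b ∈ H := mem_sup_left hb
    constructor
    · rintro ⟨h1, h2⟩
      exact mem_inf.mpr ⟨mul_mem (mul_mem hbH h1) (inv_mem hbH),
        Subgroup.Normal.conj_mem inferInstance k h2 b⟩
    · rintro ⟨h1, h2⟩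
      have h1' := mul_mem (mul_mem (inv_mem hbH) h1) hbH
      have h2' := Subgroup.Normal.conj_mem (inferInstance : M.Normal) _ h2 b⁻¹
      simp only [inv_inv] at h2'
      have e : b⁻¹ * (b * k * b⁻¹) * b = k := by group
      rw [e] at h1' h2'
      exact mem_inf.mpr ⟨h1', h2'⟩
  have hHK : H = B ⊔ K := by
    refine le_antisymm (sup_le le_sup_left ?_) (sup_le le_sup_left inf_le_left)
    rintro _ ⟨b, hb, rfl⟩
    have hm : (MulAut.conj x).toMonoidHom b = b * (b⁻¹ * (x * b * x⁻¹)) := by simp
    rw [hm]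
    refine mul_mem_sup hb (mem_inf.mpr ⟨mul_mem (inv_mem (mem_sup_left hb)) (mem_sup_right ⟨b, hb, by simp⟩), ?_⟩)
    have := commutator_mem_commutator (mem_top b⁻¹) (mem_top x)
    rw [← _root_.commutator_def] at this
    simpa [commutatorElement_def, mul_assoc] using this
  have hBH : B ≤ H := hH ▸ le_sup_left
  have hBK' : B ⊓ K = B ⊓ M := by rw [hK, ← inf_assoc, inf_eq_left.2 hBH]
  have hCK : C ⊓ K = C ⊓ M := by
    rw [hK, ← inf_assoc, inf_eq_left.2 ((inf_le_left : C ≤ B).trans hBH)]
  have f1 : Nat.card ↥(B ⊔ K) * Nat.card ↥(B ⊓ M) = Nat.card B * Nat.card K := by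
    have h := card_mul_card_inf B K
    rw [← coe_mul_of_left_le_normalizer_right _ _ hBK, SetLike.coe_sort_coe] at h
    rwa [hBK'] at h
  have f2 : Nat.card H * Nat.card C = Nat.card B * Nat.card B := by
    have h := card_mul_card_inf B B'
    rw [← coe_mul_of_right_le_normalizer_left _ _ hB'N, SetLike.coe_sort_coe, hcard] at h
    exact h
  rw [← hHK] at f1
  set E := C ⊔ K with hE
  have hCH : C ≤ centralizer (H : Set S) := by
    rw [hH, centralizer_sup]
    exact le_inf (inf_le_left.trans hBc) (inf_le_right.trans hB'c)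
  have hEab : IsMulCommutative ↥E := isMulCommutative_sup
    (hCH.trans (centralizer_le (SetLike.coe_subset_coe.2 (inf_le_left.trans le_sup_left))))
    ((inf_le_right.trans (isMulCommutative_iff_le_centralizer.1 hmeta)).trans
      (centralizer_le (SetLike.coe_subset_coe.2 inf_le_right)))
    (hCH.trans (centralizer_le (SetLike.coe_subset_coe.2 inf_le_left)))
  have f3 : Nat.card C * Nat.card K ≤ Nat.card E * Nat.card ↥(C ⊓ M) := by
    have h := card_mul_le_of_le (L := E) (le_sup_left : C ≤ E) (le_sup_right : K ≤ E)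
    rwa [hCK] at h
  have f4 : Nat.card ↥(C ⊓ M) ≤ Nat.card ↥(B ⊓ M) :=
    card_le_of_le (inf_le_inf_right _ inf_le_left)
  have f5 : Nat.card C < Nat.card B := by
    refine lt_of_le_of_ne (card_le_of_le inf_le_left) fun h => hne ?_
    exact (eq_of_le_of_card_ge (inf_le_left : C ≤ B) h.ge).ge.trans inf_le_right
  set d := Nat.card B with hd
  set m := Nat.card ↥(B ⊓ M) with hm
  set c := Nat.card C
  set k := Nat.card K
  set e := Nat.card E
  have hd0 : 0 < d := Nat.card_pos
  have hm0 : 0 < m := Nat.card_pos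
  have hc0 : 0 < c := Nat.card_pos
  have fck : c * k = d * m := by
    refine Nat.eq_of_mul_eq_mul_left hd0 ?_
    calc d * (c * k) = c * (d * k) := by ring
      _ = c * (Nat.card H * m) := by rw [f1]
      _ = Nat.card H * c * m := by ring
      _ = d * d * m := by rw [f2]
      _ = d * (d * m) := by ring
  have hde : d ≤ e := Nat.le_of_mul_le_mul_right
    ((fck.ge.trans f3).trans (Nat.mul_le_mul_left e f4)) hm0
  have hEmem : E ∈ Cfsg.maxAbelianSubgroups S ∧ E ≤ N₀ :=
    ⟨⟨hEab, fun T hT => (hB.2 T hT).trans hde⟩,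
      sup_le (inf_le_left.trans hBN) (inf_le_left.trans (sup_le hBN hB'N₀))⟩
  have hkm : k ≤ m :=
    (card_le_of_le (le_inf le_sup_right inf_le_right : K ≤ E ⊓ M)).trans (hmax E hEmem)
  have hlt : c * k < d * m :=
    lt_of_le_of_lt (Nat.mul_le_mul_left c hkm) (Nat.mul_lt_mul_of_pos_right f5 hm0)
  omega

end Cfsg.Agent.S3063
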