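import Cfsg.Statements.S3064
import Mathlib
import Cfsg.Agent.Char.Frobenius

/-!
A minimal counterexample has trivial centre, so the centralizer of the element is malnormal;
its Frobenius kernel is a normal p'-subgroup, hence centralized.
-/

set_option autoImplicit false
open Cfsg

namespace Cfsg.Agent.S3064

open Cfsg.Agent

universe u

/-- A `p`-element that is the only conjugate of itself in each `p`-subgroup containing it. -/
def Isolated (p : ℕ) {G : Type u} [Group G] (x : G) : Prop :=
  (∃ k : ℕ, orderOf x = p ^ k) ∧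
    ∀ T : Subgroup G, IsPGroup p T → x ∈ T → ∀ g : G, g⁻¹ * x * g ∈ T → g⁻¹ * x * g = x

/-- It centralizes the `p'`-subgroups it normalizes. -/
def CentralizesPrime (p : ℕ) {G : Type u} [Group G] (x : G) : Prop :=
  ∀ H : Subgroup G, (Nat.card H).Coprime p → (∀ h ∈ H, x * h * x⁻¹ ∈ H) → ∀ h ∈ H, x * h = h * x

variable {p : ℕ} [hp : Fact p.Prime]

/-- A `p`-element normalizing a Sylow subgroup of a subgroup containing it lies in it. -/
theorem mem_sylow_of_normalizes {G : Type u} [Group G] [Finite G] {A : Subgroup G} (T : Sylow p A)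
    {y : A} (hy : ∃ k : ℕ, orderOf y = p ^ k)
    (hn : y ∈ Subgroup.normalizer ((T : Subgroup A) : Set A)) : y ∈ (T : Subgroup A) := by
  obtain ⟨k, hk⟩ := hy
  have hP : IsPGroup p (Subgroup.zpowers y) := IsPGroup.of_card (n := k)
    (by rw [Nat.card_zpowers, hk])
  have h := hP.inf_normalizer_sylow T
  have hm : y ∈ Subgroup.zpowers y ⊓ Subgroup.normalizer (T : Set A) :=
    ⟨Subgroup.mem_zpowers y, hn⟩
  rw [h] at hm
  exact hm.2

/-- In `A = T Z` with `Z` central, a conjugate of `x` in `A` is `x`. -/
theorem eq_of_mem_extension {G : Type u} [Group G] [Finite G] {x : G} (hI : Isolated p x)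
    {A Z : Subgroup G} (hZ : Z ≤ Subgroup.center G) (T : Sylow p A)
    (hx : x ∈ (T : Subgroup A).map A.subtype)
    (hA : ∀ a : A, ∃ t ∈ (T : Subgroup A), (t : G)⁻¹ * a ∈ Z) {g : G}
    (hg : g⁻¹ * x * g ∈ A) : g⁻¹ * x * g = x := by
  refine hI.2 _ (T.isPGroup'.map A.subtype) hx g ⟨⟨_, hg⟩, ?_, rfl⟩
  obtain ⟨k, hk⟩ := hI.1
  refine mem_sylow_of_normalizes T ⟨k, ?_⟩ ?_
  · rw [← Subgroup.orderOf_coe]
    show orderOf (g⁻¹ * x * g) = p ^ k
    rw [← hk]
    simpa using orderOf_injective (MulAut.conj g⁻¹).toMonoidHom (MulAut.conj g⁻¹).injective x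
  · obtain ⟨t, ht, htz⟩ := hA ⟨_, hg⟩
    have hz := hZ htz
    rw [show (⟨_, hg⟩ : A) = t * (t⁻¹ * ⟨_, hg⟩) by group]
    refine mul_mem (Subgroup.le_normalizer ht) (Subgroup.mem_normalizer_iff.2 fun a => ?_)
    have hc : (t⁻¹ * ⟨_, hg⟩ : A) * a * (t⁻¹ * ⟨_, hg⟩ : A)⁻¹ = a := by
      apply Subtype.ext
      push_cast
      rw [← Subgroup.mem_center_iff.1 hz (a : G), mul_inv_cancel_right]
    rw [hc]

/-- The induction. -/
theorem central_aux : ∀ (n : ℕ) (G : Type u) [Group G] [Finite G], Nat.card G ≤ n →
    ∀ x : G, Isolated p x → CentralizesPrime p x → x ∈ Subgroup.center G := by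
  intro n
  induction n using Nat.strong_induction_on with
  | _ n ih =>
    intro G _ _ hn x hI hC
    classical
    by_cases hcen : x ∈ Subgroup.center G
    · exact hcen
    exfalso
    by_cases hu : ∃ u : G, u ∈ Subgroup.center G ∧ (orderOf u).Prime
    · -- a central subgroup of prime order
      obtain ⟨u, huc, hur⟩ := hu
      let Z : Subgroup G := Subgroup.zpowers u
      have hZc : Z ≤ Subgroup.center G := Subgroup.zpowers_le.2 huc
      have hZn : Z.Normal := ⟨fun z hz g => by
        rw [Subgroup.mem_center_iff.1 (hZc hz) g, mul_inv_cancel_right]; exact hz⟩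
      have hcard : Nat.card (G ⧸ Z) < Nat.card G := by
        have h1 : Nat.card G = Nat.card (G ⧸ Z) * Nat.card Z :=
          Subgroup.card_eq_card_quotient_mul_card_subgroup Z
        rw [h1]
        exact lt_mul_of_one_lt_right Nat.card_pos (by rw [Nat.card_zpowers]; exact hur.one_lt)
      have hIq : Isolated p (x : G ⧸ Z) := by
        obtain ⟨k, hk⟩ := hI.1
        refine ⟨?_, fun T hT hxT g hg => ?_⟩
        · obtain ⟨j, -, hj⟩ := (Nat.dvd_prime_pow hp.out).1
            (hk ▸ orderOf_map_dvd (QuotientGroup.mk' Z) x : orderOf (x : G ⧸ Z) ∣ p ^ k)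
          exact ⟨j, hj⟩
        obtain ⟨g, rfl⟩ := QuotientGroup.mk_surjective g
        let A : Subgroup G := T.comap (QuotientGroup.mk' Z)
        have hxA : x ∈ A := hxT
        have hxp : IsPGroup p (Subgroup.zpowers (⟨x, hxA⟩ : A)) := IsPGroup.of_card (n := k)
          (by rw [Nat.card_zpowers, Subgroup.orderOf_mk, hk])
        obtain ⟨S, hS⟩ := hxp.exists_le_sylow
        have hxS : x ∈ (S : Subgroup A).map A.subtype :=
          ⟨⟨x, hxA⟩, hS (Subgroup.mem_zpowers _), rfl⟩
        let f : A →* T := ((QuotientGroup.mk' Z).comp A.subtype).codRestrict T fun a => a.2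
        have hf : Function.Surjective f := by
          rintro ⟨q, hq⟩
          obtain ⟨a, rfl⟩ := QuotientGroup.mk_surjective q
          exact ⟨⟨a, hq⟩, rfl⟩
        have himg : (S : Subgroup A).map f = ⊤ := by
          have h2 := (Sylow.mapSurjective hf S).isPGroup'
          rw [Sylow.coe_mapSurjective] at h2
          have h3 : (S.mapSurjective hf : Subgroup T) = ⊤ :=
            ((Sylow.mapSurjective hf S).is_maximal'
              (hT.to_subgroup ⊤) le_top).symm
          rwa [Sylow.coe_mapSurjective] at h3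
        have hA : ∀ a : A, ∃ t ∈ (S : Subgroup A), (t : G)⁻¹ * a ∈ Z := by
          intro a
          obtain ⟨t, ht, hta⟩ : f a ∈ (S : Subgroup A).map f := by rw [himg]; trivial
          exact ⟨t, ht, QuotientGroup.eq.1 (congrArg Subtype.val hta)⟩
        have hgA : g⁻¹ * x * g ∈ A := by simpa [A] using hg
        have := eq_of_mem_extension hI hZc S hxS hA hgA
        rw [← QuotientGroup.mk_inv, ← QuotientGroup.mk_mul, ← QuotientGroup.mk_mul, this]
      have hCq : CentralizesPrime p (x : G ⧸ Z) := by
        intro H hH hnorm h hh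
        obtain ⟨h, rfl⟩ := QuotientGroup.mk_surjective h
        let A : Subgroup G := H.comap (QuotientGroup.mk' Z)
        have hnA : ∀ a ∈ A, x * a * x⁻¹ ∈ A := fun a ha => by
          simpa [A] using hnorm _ (show ((a : G) : G ⧸ Z) ∈ H from ha)
        have hZA : Z ≤ A := fun z hz => by
          show ((z : G) : G ⧸ Z) ∈ H
          rw [(QuotientGroup.eq_one_iff z).2 hz]
          exact one_mem H
        have hcardA : Nat.card A = Nat.card H * Nat.card Z := by
          rw [← Subgroup.card_mul_index (Z.subgroupOf A),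
            Nat.card_congr (Subgroup.subgroupOfEquivOfLe hZA).toEquiv, mul_comm]
          congr 1
          let f : A →* H := ((QuotientGroup.mk' Z).comp A.subtype).codRestrict H fun a => a.2
          have hf : Function.Surjective f := by
            rintro ⟨q, hq⟩
            obtain ⟨a, rfl⟩ := QuotientGroup.mk_surjective q
            exact ⟨⟨a, hq⟩, rfl⟩
          have hker : f.ker = Z.subgroupOf A := by
            ext a
            rw [MonoidHom.mem_ker, Subgroup.mem_subgroupOf, Subtype.ext_iff]
            exact QuotientGroup.eq_one_iff _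
          rw [← hker, Subgroup.index_ker, MonoidHom.range_eq_top.2 hf, Subgroup.card_top]
        refine congrArg (QuotientGroup.mk' Z) (?_ : x * h = h * x)
        by_cases hr : orderOf u = p
        · -- split off the central Sylow subgroup
          let Z' : Subgroup A := Z.subgroupOf A
          have hZ'n : Z'.Normal := hZn.subgroupOf A
          have hZ' : Nat.card Z' = p := by
            rw [Nat.card_congr (Subgroup.subgroupOfEquivOfLe hZA).toEquiv, Nat.card_zpowers, hr]
          have hidx : Z'.index = Nat.card H := by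
            have := Subgroup.card_mul_index Z'
            rw [hZ', hcardA, Nat.card_zpowers, hr, mul_comm p] at this
            exact Nat.eq_of_mul_eq_mul_right hp.out.pos this
          obtain ⟨K, hK⟩ := Subgroup.exists_right_complement'_of_coprime
            (N := Z') (by rw [hZ', hidx]; exact hH.symm)
          have hKc : Nat.card K = Nat.card H := by
            rw [← hidx, hK.symm.index_eq_card]
          have hprod : ∀ a : A, ∃ z ∈ Z', ∃ c ∈ K, z * c = a := fun a => by
            obtain ⟨⟨z, c⟩, e⟩ := hK.2 a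
            exact ⟨z, z.2, c, c.2, e⟩
          have hKn : K.Normal := ⟨fun c hc a => by
            obtain ⟨z, hz, d, hd, rfl⟩ := hprod a
            have hz' : ∀ b : A, z * b = b * z := fun b =>
              Subtype.ext (Subgroup.mem_center_iff.1 (hZc hz) (b : G)).symm
            rw [show z * d * c * (z * d)⁻¹ = z * (d * c * d⁻¹) * z⁻¹ by group, hz',
              mul_inv_cancel_right]
            exact K.mul_mem (K.mul_mem hd hc) (K.inv_mem hd)⟩
          have hmem : ∀ a : A, orderOf a ∣ Nat.card H → a ∈ K := by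
            intro a ha
            have h1 : orderOf (a : A ⧸ K) ∣ Nat.card (A ⧸ K) := orderOf_dvd_natCard _
            have h2 : orderOf (a : A ⧸ K) ∣ Nat.card H :=
              (orderOf_map_dvd (QuotientGroup.mk' K) a).trans ha
            have h3 : Nat.card (A ⧸ K) = p := by
              have := Subgroup.card_eq_card_quotient_mul_card_subgroup K
              rw [hcardA, hKc, Nat.card_zpowers, hr, mul_comm] at this
              exact (Nat.eq_of_mul_eq_mul_right Nat.card_pos this).symm
            rw [h3] at h1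
            have h4 := Nat.eq_one_of_dvd_coprimes hH h2 h1
            exact (QuotientGroup.eq_one_iff a).1 (orderOf_eq_one_iff.1 h4)
          have hKx : ∀ c ∈ K.map A.subtype, x * c * x⁻¹ ∈ K.map A.subtype := by
            rintro _ ⟨c, hc, rfl⟩
            refine ⟨⟨x * c * x⁻¹, hnA _ c.2⟩, hmem _ ?_, rfl⟩
            rw [← hKc, Subgroup.orderOf_mk]
            have e := orderOf_injective (MulAut.conj x).toMonoidHom (MulAut.conj x).injective (c : G)
            simp only [MulEquiv.coe_toMonoidHom, MulAut.conj_apply] at e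
            rw [e, Subgroup.orderOf_coe]
            exact Subgroup.orderOf_dvd_natCard K hc
          obtain ⟨z, hz, c, hc, e⟩ := hprod ⟨h, hh⟩
          have e' : (z : G) * (c : G) = h := congrArg Subtype.val e
          have hxc := hC _ (by
            rw [Subgroup.card_map_of_injective Subtype.val_injective, hKc]; exact hH) hKx c
            ⟨c, hc, rfl⟩
          have hzc : (z : G) ∈ Subgroup.center G := hZc hz
          rw [← e', ← mul_assoc, Subgroup.mem_center_iff.1 hzc x, mul_assoc, hxc, mul_assoc]
        · refine hC A ?_ hnA h hh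
          rw [hcardA, Nat.card_zpowers]
          exact Nat.Coprime.mul_left hH ((Nat.coprime_primes hur hp.out).2 hr)
      have hq := ih _ (hcard.trans_le hn) (G ⧸ Z) le_rfl (x : G ⧸ Z) hIq hCq
      refine hcen (Subgroup.mem_center_iff.2 fun g => ?_)
      let A : Subgroup G := Subgroup.zpowers x ⊔ Z
      have hxA : x ∈ A := Subgroup.mem_sup_left (Subgroup.mem_zpowers x)
      obtain ⟨k, hk⟩ := hI.1
      have hxp : IsPGroup p (Subgroup.zpowers (⟨x, hxA⟩ : A)) := IsPGroup.of_card (n := k)
        (by rw [Nat.card_zpowers, Subgroup.orderOf_mk, hk])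
      obtain ⟨S, hS⟩ := hxp.exists_le_sylow
      have hgA : g⁻¹ * x * g ∈ A := by
        have h1 : ((g⁻¹ * x * g : G) : G ⧸ Z) = (x : G ⧸ Z) := by
          rw [QuotientGroup.mk_mul, QuotientGroup.mk_mul, QuotientGroup.mk_inv, mul_assoc,
            ← Subgroup.mem_center_iff.1 hq (g : G ⧸ Z), inv_mul_cancel_left]
        have h2 := QuotientGroup.eq.1 h1.symm
        rw [show g⁻¹ * x * g = x * (x⁻¹ * (g⁻¹ * x * g)) by group]
        exact mul_mem hxA (Subgroup.mem_sup_right h2)
      have hA : ∀ a : A, ∃ t ∈ (S : Subgroup A), (t : G)⁻¹ * a ∈ Z := by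
        intro a
        obtain ⟨b, hb, z, hz, e⟩ := Subgroup.mem_sup_of_normal_right.1 a.2
        refine ⟨⟨b, Subgroup.mem_sup_left hb⟩, hS ?_, ?_⟩
        · obtain ⟨i, rfl⟩ := Subgroup.mem_zpowers_iff.1 hb
          exact ⟨i, Subtype.ext (by simp)⟩
        · rw [← e]; simpa using hz
      have e := eq_of_mem_extension hI hZc S ⟨⟨x, hxA⟩, hS (Subgroup.mem_zpowers _), rfl⟩ hA hgA
      calc g * x = g * (g⁻¹ * x * g) := by rw [e]
        _ = x * g := by group
    · -- the centralizer is malnormal
      push Not at hu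
      obtain ⟨k, hk⟩ := hI.1
      let C := Subgroup.centralizer ({x} : Set G)
      have hmal : ∀ g : G, g ∉ C → ∀ h ∈ C, g * h * g⁻¹ ∈ C → h = 1 := by
        intro g hg h hh hgh
        by_contra h1
        refine hg ?_
        obtain ⟨r, hr, hrd⟩ := Nat.exists_prime_and_dvd (fun e => h1 (orderOf_eq_one_iff.1 e))
        obtain ⟨u, hud⟩ : ∃ u, u = h ^ (orderOf h / r) := ⟨_, rfl⟩
        have huo : orderOf u = r := by
          rw [hud]; exact orderOf_pow_orderOf_div (orderOf_pos h).ne' hrd
        have huc : u ∉ Subgroup.center G := fun e => hu u e (huo ▸ hr)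
        let H := Subgroup.centralizer ({u} : Set G)
        have hHlt : Nat.card H < Nat.card G := by
          refine lt_of_le_of_ne (Subgroup.card_le_card_group H) fun e => huc ?_
          have := Subgroup.eq_top_of_card_eq H e
          refine Subgroup.mem_center_iff.2 fun w => ?_
          exact Subgroup.mem_centralizer_singleton_iff.1
            (show w ∈ H by rw [this]; exact Subgroup.mem_top w)
        have hxh : Commute x h := (Subgroup.mem_centralizer_singleton_iff.1 hh).symm
        have hxu : x ∈ H := by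
          rw [Subgroup.mem_centralizer_singleton_iff, hud]
          exact (hxh.pow_right _).eq
        have hyu : g⁻¹ * x * g ∈ H := by
          rw [Subgroup.mem_centralizer_singleton_iff, hud]
          refine (Commute.pow_right ?_ _).eq
          have e : x * (g * h * g⁻¹) = g * h * g⁻¹ * x :=
            (Subgroup.mem_centralizer_singleton_iff.1 hgh).symm
          show g⁻¹ * x * g * h = h * (g⁻¹ * x * g)
          calc g⁻¹ * x * g * h = g⁻¹ * (x * (g * h * g⁻¹)) * g := by group
            _ = h * (g⁻¹ * x * g) := by rw [e]; group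
        have hIH : Isolated p (⟨x, hxu⟩ : H) := by
          refine ⟨⟨k, by rw [Subgroup.orderOf_mk, hk]⟩, fun T hT hxT w hw => ?_⟩
          exact Subtype.ext (hI.2 (T.map H.subtype) (hT.map H.subtype) ⟨_, hxT, rfl⟩ (w : G)
            ⟨_, hw, rfl⟩)
        have hCH : CentralizesPrime p (⟨x, hxu⟩ : H) := by
          intro K hK hn' c hc
          refine Subtype.ext (hC (K.map H.subtype)
            (by rwa [Subgroup.card_map_of_injective Subtype.val_injective]) ?_ (c : G) ⟨c, hc, rfl⟩)
          rintro _ ⟨d, hd, rfl⟩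
          exact ⟨_, hn' d hd, rfl⟩
        have hcz := ih _ (hHlt.trans_le hn) H le_rfl ⟨x, hxu⟩ hIH hCH
        have hxy : Commute x (g⁻¹ * x * g) :=
          (congrArg Subtype.val (Subgroup.mem_center_iff.1 hcz ⟨_, hyu⟩)).symm
        have hxP : IsPGroup p (Subgroup.zpowers x) :=
          IsPGroup.of_card (n := k) (by rw [Nat.card_zpowers, hk])
        have hyP : IsPGroup p (Subgroup.zpowers (g⁻¹ * x * g)) := by
          refine IsPGroup.of_card (n := k) ?_
          rw [Nat.card_zpowers, ← hk]
          simpa using orderOf_injective (MulAut.conj g⁻¹).toMonoidHom (MulAut.conj g⁻¹).injective x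
        have hTP : IsPGroup p (Subgroup.zpowers x ⊔ Subgroup.zpowers (g⁻¹ * x * g) : Subgroup G) :=
          hxP.to_sup_of_normal_right' hyP (fun w hw => by
            obtain ⟨i, rfl⟩ := Subgroup.mem_zpowers_iff.1 hw
            refine Subgroup.mem_normalizer_iff.2 fun a => ?_
            constructor
            · intro ha
              obtain ⟨j, rfl⟩ := Subgroup.mem_zpowers_iff.1 ha
              rw [(hxy.zpow_zpow i j).eq, mul_inv_cancel_right]
              exact zpow_mem (Subgroup.mem_zpowers _) j
            · intro ha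
              obtain ⟨j, hj⟩ := Subgroup.mem_zpowers_iff.1 ha
              have : a = (g⁻¹ * x * g) ^ j := by
                rw [show a = (x ^ i)⁻¹ * (x ^ i * a * (x ^ i)⁻¹) * x ^ i by group, ← hj, mul_assoc,
                  ← (hxy.zpow_zpow i j).eq, inv_mul_cancel_left]
              rw [this]
              exact zpow_mem (Subgroup.mem_zpowers _) j)
        have e := hI.2 _ hTP (Subgroup.mem_sup_left (Subgroup.mem_zpowers x)) g
          (Subgroup.mem_sup_right (Subgroup.mem_zpowers _))
        rw [Subgroup.mem_centralizer_singleton_iff]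
        calc g * x = g * (g⁻¹ * x * g) := by rw [e]
          _ = x * g := by group
      obtain ⟨N, hN, hcomp, -⟩ := Char.frobenius_kernel C hmal
      obtain ⟨S, hS⟩ := (IsPGroup.of_card (n := k)
        (by rw [Nat.card_zpowers, hk]) : IsPGroup p (Subgroup.zpowers x)).exists_le_sylow
      have hSC : (S : Subgroup G) ≤ C := by
        intro s hs
        have hxS : x ∈ (S : Subgroup G) := hS (Subgroup.mem_zpowers x)
        have e := hI.2 S S.isPGroup' hxS s (mul_mem (mul_mem (inv_mem hs) hxS) hs)
        rw [Subgroup.mem_centralizer_singleton_iff]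
        calc s * x = s * (s⁻¹ * x * s) := by rw [e]
          _ = x * s := by group
      have hcop : (Nat.card N).Coprime p := by
        rw [← hcomp.index_eq_card, Nat.coprime_comm, hp.out.coprime_iff_not_dvd]
        exact fun h => S.not_dvd_index' Subgroup.index_ne_zero_of_finite
          (h.trans (Subgroup.index_dvd_of_le hSC))
      have hNC : N ≤ C := fun a ha => Subgroup.mem_centralizer_singleton_iff.2
        (hC N hcop (fun b hb => hN.conj_mem b hb x) a ha).symm
      refine hcen (Subgroup.mem_center_iff.2 fun g => ?_)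
      obtain ⟨⟨a, c⟩, rfl⟩ := hcomp.2 g
      exact Subgroup.mem_centralizer_singleton_iff.1 (mul_mem (hNC a.2) c.2)

/-- Let S be a Sylow p-subgroup of the finite group G and x an element of S such that (i) x is the only G-conjugate of x lying in S, and (ii) x centralizes every subgroup of order prime to p that it normalizes. Then x lies in the centre of G. -/
theorem result {G : Type*} [Group G] [Finite G] {p : ℕ} [Fact p.Prime]
    (S : Sylow p G) (x : G) (hx : x ∈ S)
    (hU : ∀ g : G, g⁻¹ * x * g ∈ S → g⁻¹ * x * g = x)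
    (hb : ∀ H : Subgroup G, (Nat.card H).Coprime p → (∀ h ∈ H, x * h * x⁻¹ ∈ H) → ∀ h ∈ H, x * h = h * x) :
    x ∈ Subgroup.center G := by
  obtain ⟨k, hk⟩ := IsPGroup.iff_orderOf.1 S.isPGroup' ⟨x, hx⟩
  rw [Subgroup.orderOf_mk] at hk
  refine central_aux (p := p) (Nat.card G) G le_rfl x ⟨⟨k, hk⟩, fun T hT hxT g hg => ?_⟩ hb
  obtain ⟨S', hS'⟩ := hT.exists_le_sylow
  obtain ⟨c, hc⟩ := MulAction.exists_smul_eq G S S'
  have hmem : ∀ a ∈ (S' : Subgroup G), c⁻¹ * a * c ∈ (S : Subgroup G) := by
    intro a ha
    rw [← hc, Sylow.smul_def, Sylow.pointwise_smul_def,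
      Subgroup.mem_pointwise_smul_iff_inv_smul_mem] at ha
    simpa [MulAut.smul_def, mul_assoc] using ha
  have h1 := hU c (hmem x (hS' hxT))
  have h2 := hU (g * c) (show (g * c)⁻¹ * x * (g * c) ∈ (S : Subgroup G) by
    rw [show (g * c)⁻¹ * x * (g * c) = c⁻¹ * (g⁻¹ * x * g) * c by group]
    exact hmem _ (hS' hg))
  have h3 : g⁻¹ * x * g = c * x * c⁻¹ := by
    calc g⁻¹ * x * g = c * ((g * c)⁻¹ * x * (g * c)) * c⁻¹ := by group
      _ = c * x * c⁻¹ := by rw [h2]
  rw [h3]
  calc c * x * c⁻¹ = c * (c⁻¹ * x * c) * c⁻¹ := by rw [h1]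
    _ = x := by group

end Cfsg.Agent.S3064
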