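import Cfsg.Statements.S3067
import Cfsg.Agent.Invol.FixedCentralizer
import Cfsg.Agent.Invol.ZStar

set_option autoImplicit false
open Cfsg

namespace Cfsg.Agent.S3067

/-- Let G be a finite non-abelian simple group, τ an involution of G, and α a nontrivial automorphism of G whose order is coprime to the order of G. Then α moves some element of the centralizer of τ: α does not fix C_G(τ) elementwise. -/
theorem result {G : Type*} [Group G] [Finite G] [IsSimpleGroup G]
    (hG : ¬ IsMulCommutative G) (τ : G) (hτ : orderOf τ = 2) (α : MulAut G) (hα : α ≠ 1)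
    (hcop : (orderOf α).Coprime (Nat.card G)) :
    ∃ c ∈ Subgroup.centralizer ({τ} : Set G), α c ≠ c := by
  classical
  by_contra hcon
  push Not at hcon
  set o := orderOf α with ho
  have ho1 : o ≠ 1 := fun h => hα (orderOf_eq_one_iff.1 h)
  set r := o.minFac
  haveI hr : Fact r.Prime := ⟨Nat.minFac_prime ho1⟩
  set β := α ^ (o / r) with hβdef
  have hro : r ∣ o := Nat.minFac_dvd o
  have hβ : β ^ r = 1 := by
    rw [hβdef, ← pow_mul, Nat.div_mul_cancel hro, ho, pow_orderOf_eq_one]
  have hopos : 0 < o := orderOf_pos α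
  have hβ1 : β ≠ 1 := fun h => by
    have h1 := Nat.le_of_dvd (Nat.div_pos (Nat.minFac_le hopos) hr.out.pos)
      (orderOf_dvd_of_pow_eq_one h)
    have h2 := Nat.div_lt_self hopos hr.out.one_lt
    exact absurd (h1.trans_lt (ho ▸ h2)) (lt_irrefl _)
  have hnd : ¬ r ∣ Nat.card G := fun h =>
    hr.out.ne_one (Nat.eq_one_of_dvd_coprimes hcop hro h)
  have hfixC : ∀ c ∈ Subgroup.centralizer ({τ} : Set G), β c = c := by
    intro c hc
    have key : ∀ n : ℕ, (α ^ n) c = c := by
      intro n
      induction n with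
      | zero => simp
      | succ n ih => rw [pow_succ', MulAut.mul_apply, ih, hcon c hc]
    exact key _
  open Cfsg.Agent.Invol.FixedCentralizer in
  have hτF : τ ∈ fix β := tau_mem_fix hβ hnd hτ hfixC
  have hcore : (Cfsg.Agent.Invol.FixedCentralizer.fix β).normalCore = ⊥ := by
    rcases IsSimpleGroup.eq_bot_or_eq_top_of_normal
      (Cfsg.Agent.Invol.FixedCentralizer.fix β).normalCore inferInstance with h | h
    · exact h
    · refine absurd (MulEquiv.ext fun x => ?_) hβ1
      exact Subgroup.normalCore_le (Cfsg.Agent.Invol.FixedCentralizer.fix β)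
        (h ▸ Subgroup.mem_top x)
  have hτ2 : τ * τ = 1 := by
    have h := pow_orderOf_eq_one τ
    rwa [hτ, pow_two] at h
  have hiso : Cfsg.IsIsolatedInvolution τ := by
    refine ⟨hτ, fun g hg => ?_⟩
    have hF : g * τ * g⁻¹ ∈ Cfsg.Agent.Invol.FixedCentralizer.fix β :=
      hfixC _ (Subgroup.mem_centralizer_singleton_iff.2 hg.eq.symm)
    have h := Cfsg.Agent.Invol.FixedCentralizer.mul_mem_normalCore hβ hnd hτ hfixC (g₁ := 1)
      (g₂ := g) (by simpa using hτF) hF
    rw [hcore, Subgroup.mem_bot, one_mul, inv_one, mul_one] at h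
    rw [← inv_eq_of_mul_eq_one_right h]
    exact inv_eq_of_mul_eq_one_right hτ2
  have hz := Cfsg.Agent.Invol.zstar hiso
  rcases IsSimpleGroup.eq_bot_or_eq_top_of_normal (Cfsg.oddCore G) inferInstance with h | h
  · have hcen : τ ∈ Subgroup.center G := by
      refine Subgroup.mem_center_iff.2 fun g => ?_
      have h1 := hz g
      rw [h, Subgroup.mem_bot, mul_inv_eq_one, mul_inv_eq_iff_eq_mul] at h1
      exact h1.symm
    have htop : Subgroup.center G = ⊤ := by
      refine (IsSimpleGroup.eq_bot_or_eq_top_of_normal _ inferInstance).resolve_left fun hb => ?_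
      rw [hb, Subgroup.mem_bot] at hcen
      rw [hcen, orderOf_one] at hτ
      omega
    exact hG ⟨⟨fun a b =>
      Subgroup.mem_center_iff.1 (htop ▸ Subgroup.mem_top b : b ∈ Subgroup.center G) a⟩⟩
  · have h1 : ¬ 2 ∣ Nat.card ↥(Cfsg.oddCore G) := Cfsg.Agent.Core.not_dvd_card_pPrimeCore (p := 2) (G := G)
    rw [h, Subgroup.card_top, ← hτ] at h1
    exact h1 (orderOf_dvd_natCard τ)

end Cfsg.Agent.S3067
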