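import Cfsg.Statements.S3070
import Cfsg.Agent.ThompsonFive.Normal
import Cfsg.Agent.Fusion.Transfer

set_option autoImplicit false
open Cfsg
open Cfsg.Agent
open scoped commutatorElement

namespace Cfsg.Agent.S3070

/-- Let p ≥ 5 be a prime, S a Sylow p-subgroup of the finite group G and J(S) the subgroup generated by the abelian subgroups of S of largest order. Then G has a normal p-complement if and only if N_G(J(S))/C_G(J(S)) is a p-group (every element of N_G(J(S)) of order prime to p centralizes J(S)). -/
theorem result {G : Type*} [Group G] [Finite G] {p : ℕ} [Fact p.Prime]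
    (hp : 5 ≤ p) (S : Sylow p G) :
    Cfsg.HasNormalPComplement p G ↔
      ∀ g ∈ Subgroup.normalizer (Cfsg.thompsonSubgroupAOf (S : Subgroup G) : Set G), (orderOf g).Coprime p →
        g ∈ Subgroup.centralizer (Cfsg.thompsonSubgroupAOf (S : Subgroup G) : Set G) := by
  classical
  set J := Cfsg.thompsonSubgroupAOf (S : Subgroup G) with hJ
  have hJS : J ≤ (S : Subgroup G) := FusSys.thompsonSubgroupAOf_le _
  constructor
  · intro h g hg hord
    have hR := Fusion.coprime_card_pResidual_of_hasNormalPComplement h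
    have hgR : g ∈ Cfsg.pResidual p G := Fusion.mem_pResidual_of_coprime hord
    refine Subgroup.mem_centralizer_iff.mpr fun j hj => ?_
    have h1 : ⁅g, j⁆ ∈ J :=
      mul_mem ((Subgroup.mem_normalizer_iff.mp hg j).mp hj) (inv_mem hj)
    have h2 : ⁅g, j⁆ ∈ Cfsg.pResidual p G := by
      rw [show ⁅g, j⁆ = g * (j * g⁻¹ * j⁻¹) by rw [commutatorElement_def]; group]
      exact mul_mem hgR ((inferInstance : (Cfsg.pResidual p G).Normal).conj_mem _ (inv_mem hgR) j)
    have h3 : ⁅g, j⁆ ∈ (S : Subgroup G) ⊓ Cfsg.pResidual p G := Subgroup.mem_inf.mpr ⟨hJS h1, h2⟩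
    rw [Layer.inf_eq_bot_of_isPGroup S.2 hR, Subgroup.mem_bot] at h3
    exact (commutatorElement_eq_one_iff_mul_comm.mp h3).symm
  · intro h
    set N := Subgroup.normalizer (J : Set G) with hN
    set C := Subgroup.centralizer (J : Set G) with hC
    have hSN : (S : Subgroup G) ≤ N := fun s hs =>
      FusSys.mem_normalizer_thompsonSubgroupAOf (Subgroup.le_normalizer hs)
    have hSC : ∀ x ∈ (S : Subgroup G), x ∈ C → x ∈ J := by
      intro x hxS hxC
      obtain ⟨A, hA⟩ := Fusion.exists_abMax 0 (S : Subgroup G)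
      have hAJ : A ≤ J := by rw [hJ, Fusion.thompsonSubgroupAOf_eq]; exact le_sSup (a := A) hA
      exact hAJ (Fusion.mem_of_commute hA hxS (pow_zero x) fun a ha =>
        Subgroup.mem_centralizer_iff.mp hxC a (hAJ ha))
    have hCn : Cfsg.HasNormalPComplement p C := by
      obtain ⟨P⟩ := (inferInstance : Nonempty (Sylow p C))
      have hCN : C ≤ N := Subgroup.centralizer_le_normalizer _
      have hPJ : (P : Subgroup C).map C.subtype ≤ J := by
        have hP' : IsPGroup p (((P : Subgroup C).map C.subtype).subgroupOf N) :=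
          (P.2.map C.subtype).comap_subtype
        obtain ⟨T, hT⟩ := hP'.exists_le_sylow
        obtain ⟨n, hn⟩ := MulAction.exists_smul_eq N T (S.subtype hSN)
        intro x hx
        obtain ⟨c, hc, hcx⟩ := hx
        have hxC : x ∈ C := hcx ▸ c.2
        have hxN : x ∈ N := hCN hxC
        have h1 : n * ⟨x, hxN⟩ * n⁻¹ ∈ ((S.subtype hSN : Sylow p N) : Subgroup N) := by
          rw [← hn, Sylow.coe_subgroup_smul]
          exact Subgroup.smul_mem_pointwise_smul _ (MulAut.conj n) _
            (hT (show (⟨x, hxN⟩ : N) ∈ ((P : Subgroup C).map C.subtype).subgroupOf N from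
              ⟨c, hc, hcx⟩))
        rw [Sylow.coe_subtype, Subgroup.mem_subgroupOf] at h1
        change (n : G) * x * (n : G)⁻¹ ∈ (S : Subgroup G) at h1
        have h2 : (n : G) * x * (n : G)⁻¹ ∈ C := by
          refine Subgroup.mem_centralizer_iff.mpr fun j hj => ?_
          have h3 := Subgroup.mem_centralizer_iff.mp hxC _
            ((Subgroup.mem_normalizer_iff.mp (inv_mem n.2) j).mp hj)
          calc j * ((n : G) * x * (n : G)⁻¹)
              = (n : G) * (((n : G)⁻¹ * j * ((n : G)⁻¹)⁻¹) * x) * (n : G)⁻¹ := by group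
            _ = (n : G) * (x * ((n : G)⁻¹ * j * ((n : G)⁻¹)⁻¹)) * (n : G)⁻¹ := by rw [h3]
            _ = (n : G) * x * (n : G)⁻¹ * j := by group
        exact (Subgroup.mem_normalizer_iff.mp n.2 x).mpr (hSC _ h1 h2)
      refine Fusion.hasNormalPComplement_of_normalizer_le_centralizer P fun c _ => ?_
      exact Subgroup.mem_centralizer_iff.mpr fun u hu => Subtype.ext
        (Subgroup.mem_centralizer_iff.mp c.2 _ (hPJ ⟨u, hu, rfl⟩))
    refine ThompsonFive.hasNormalPComplement_of_thompson hp S (Fusion.hasNormalPComplement_iff.mpr ?_)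
    have hle : (Cfsg.pResidual p N).map N.subtype ≤ (Cfsg.pResidual p C).map C.subtype := by
      rw [Cfsg.pResidual, MonoidHom.map_closure, Subgroup.closure_le]
      rintro _ ⟨g, hg, rfl⟩
      have hord : (orderOf (g : G)).Coprime p := by rw [Subgroup.orderOf_coe]; exact hg
      exact Subgroup.mem_map.mpr ⟨⟨g, h g g.2 hord⟩,
        Fusion.mem_pResidual_of_coprime (by rwa [Subgroup.orderOf_mk]), rfl⟩
    have h1 := Subgroup.card_dvd_of_le hle
    rw [Subgroup.card_map_of_injective N.subtype_injective,
      Subgroup.card_map_of_injective C.subtype_injective] at h1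
    exact Nat.Coprime.coprime_dvd_left h1 (Fusion.coprime_card_pResidual_of_hasNormalPComplement hCn)

end Cfsg.Agent.S3070
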