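import Cfsg.Statements.S3071
import Cfsg.Agent.Fusion.SectionFree
import Cfsg.Agent.QdFree.Involve

set_option autoImplicit false
open Cfsg

namespace Cfsg.Agent.S3071

/-- Let p be an odd prime and S a Sylow p-subgroup of the finite group G such that, for every subgroup P with Z(S) ≤ P ≤ S, the normalizer N_G(P) has no section isomorphic to SL₂(p). Let J(S) be the subgroup generated by the abelian subgroups of S of largest order. Then two elements of S are conjugate in G if and only if they are conjugate in N_G(Z(J(S))). -/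
theorem result {G : Type*} [Group G] [Finite G] {p : ℕ} [Fact p.Prime]
    (hp : p ≠ 2) (S : Sylow p G)
    (hfree : ∀ P : Subgroup G, (S : Subgroup G) ⊓ Subgroup.centralizer ((S : Subgroup G) : Set G) ≤ P → P ≤ S →
      ¬ ∃ (H K : Subgroup G) (hK : (K.subgroupOf H).Normal), H ≤ Subgroup.normalizer (P : Set G) ∧
        Nonempty ((H ⧸ K.subgroupOf H) ≃* Matrix.SpecialLinearGroup (Fin 2) (ZMod p))) :
    ∀ x ∈ S, ∀ y ∈ S, (∃ g : G, g * x * g⁻¹ = y) ↔
      ∃ n ∈ Subgroup.normalizer (Cfsg.centerThompsonAOf (S : Subgroup G) : Set G), n * x * n⁻¹ = y := by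
  intro x hx y hy
  constructor
  · rintro ⟨g, hg⟩
    have hfree' : ∀ P : Subgroup G, (S : Subgroup G) ⊓ Subgroup.centralizer ((S : Subgroup G) : Set G) ≤ P →
        P ≤ (S : Subgroup G) →
        ¬ Cfsg.Involves (Matrix.SpecialLinearGroup (Fin 2) (ZMod p)) ↥(Subgroup.normalizer (P : Set G)) := by
      intro P h1 h2 hi
      obtain ⟨L, f, hL, hf⟩ := QdFree.exists_le_of_sec (G := G) hi
        (K := Subgroup.normalizer (P : Set G)) (f := MonoidHom.id _) Function.surjective_id
      have hR : (f.ker.map L.subtype).subgroupOf L = f.ker :=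
        Subgroup.comap_map_eq_self_of_injective L.subtype_injective _
      have : ((f.ker.map L.subtype).subgroupOf L).Normal := by rw [hR]; infer_instance
      exact hfree P h1 h2 ⟨L, f.ker.map L.subtype, this, hL,
        ⟨(QuotientGroup.quotientMulEquivOfEq hR).trans
          (QuotientGroup.quotientKerEquivOfSurjective f hf)⟩⟩
    obtain ⟨n, hn, hne⟩ := (Fusion.controlsStrongFusion_zInter_of_free hp S hfree' {x}
      (Set.singleton_subset_iff.mpr hx)).2 g (by
        rintro _ ⟨a, rfl, rfl⟩
        show g * a * g⁻¹ ∈ (S : Subgroup G)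
        rw [hg]; exact hy)
    refine ⟨n, ?_, (hne x rfl).symm.trans hg⟩
    rwa [Fusion.centerThompsonAOf_eq_zInter]
  · rintro ⟨n, _, hn⟩
    exact ⟨n, hn⟩

end Cfsg.Agent.S3071
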