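import Cfsg.Statements.S3074
import Mathlib
import Cfsg.Agent.Core.Frattini
import Cfsg.Agent.UniTri.Basic

set_option autoImplicit false
open Cfsg

namespace Cfsg.Agent.S3074

open Subgroup

theorem coatom_of_prime_index {G : Type*} [Group G] [Finite G] {K : Subgroup G} {p : ℕ}
    (hp : p.Prime) (h : K.index = p) : IsCoatom K := by
  refine ⟨fun ht => hp.ne_one (by rw [← h, ht, Subgroup.index_top]), fun M hM => ?_⟩
  rcases (Nat.dvd_prime hp).1 (h ▸ Subgroup.index_dvd_of_le hM.le) with h1 | h1
  · exact Subgroup.index_eq_one.1 h1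
  · refine absurd (Subgroup.eq_of_le_of_card_ge hM.le ?_) hM.ne
    have h2 := K.card_mul_index
    rw [h, ← M.card_mul_index, h1] at h2
    exact (Nat.eq_of_mul_eq_mul_right hp.pos h2).ge

theorem heis {P : Type*} [Group P] [Finite P] {p : ℕ} [Fact p.Prime] (hp2 : p ≠ 2)
    (f : P ≃ ZMod p × ZMod p × ZMod p)
    (hf : ∀ x y : P, f (x * y) =
      ((f x).1 + (f y).1, (f x).2.1 + (f y).2.1 + (f x).1 * (f y).2.2, (f x).2.2 + (f y).2.2)) :
    Cfsg.IsExtraspecial p P ∧ Nat.card P = p ^ 3 ∧ Monoid.exponent P = p := by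
  have hp : p.Prime := Fact.out
  have hcard : Nat.card P = p ^ 3 := by
    rw [Nat.card_congr f, Nat.card_prod, Nat.card_prod, Nat.card_zmod]; ring
  have hP : IsPGroup p P := IsPGroup.of_card hcard
  have hone : f 1 = (0, 0, 0) := by
    have h := hf 1 1
    rw [mul_one] at h
    have h1 : (f 1).1 = 0 := left_eq_add.1 (congrArg Prod.fst h)
    have h3 : (f 1).2.2 = 0 := left_eq_add.1 (congrArg (fun v => v.2.2) h)
    have h2 : (f 1).2.1 = 0 := by
      have := congrArg (fun v => v.2.1) h
      simp only [h1, zero_mul, add_zero] at this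
      exact left_eq_add.1 this
    exact Prod.ext h1 (Prod.ext h2 h3)
  let α : P →* Multiplicative (ZMod p) :=
    MonoidHom.mk' (fun x => Multiplicative.ofAdd (f x).1) fun x y => by
      simp [hf]
  let γ : P →* Multiplicative (ZMod p) :=
    MonoidHom.mk' (fun x => Multiplicative.ofAdd (f x).2.2) fun x y => by
      simp [hf]
  have hcen : Subgroup.center P = α.ker ⊓ γ.ker := by
    ext z
    rw [Subgroup.mem_center_iff, Subgroup.mem_inf, MonoidHom.mem_ker, MonoidHom.mem_ker]
    simp only [α, γ, MonoidHom.mk'_apply, ofAdd_eq_one]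
    constructor
    · intro h
      have h1 := congrArg (fun v => v.2.1) ((hf _ _).symm.trans
        ((congrArg f (h (f.symm (1, 0, 0)))).trans (hf _ _)))
      have h2 := congrArg (fun v => v.2.1) ((hf _ _).symm.trans
        ((congrArg f (h (f.symm (0, 0, 1)))).trans (hf _ _)))
      simp only [Equiv.apply_symm_apply, zero_mul, mul_zero, one_mul, mul_one, add_zero, zero_add] at h1 h2
      exact ⟨(left_eq_add.1 h2), (add_eq_left.1 h1)⟩
    · rintro ⟨h1, h3⟩ g
      apply f.injective
      rw [hf, hf, h1, h3]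
      simp [add_comm]
  have hcc : Nat.card (Subgroup.center P) = p := by
    rw [← Nat.card_zmod p]
    refine Nat.card_congr
      { toFun := fun z => (f z).2.1
        invFun := fun b => ⟨f.symm (0, b, 0), by rw [hcen]; simp [α, γ]⟩
        left_inv := fun z => ?_
        right_inv := fun b => by simp }
    have hz := hcen.le z.2
    simp only [Subgroup.mem_inf, MonoidHom.mem_ker, α, γ, MonoidHom.mk'_apply, ofAdd_eq_one] at hz
    apply Subtype.ext
    change f.symm (0, (f z).2.1, 0) = (z : P)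
    rw [Equiv.symm_apply_eq, ← Prod.eta (f (z : P)), ← Prod.eta (f (z : P)).2, hz.1, hz.2]
  have hcomm : commutator P = Subgroup.center P := by
    refine le_antisymm ?_ ?_
    · rw [hcen]
      exact le_inf (Abelianization.commutator_subset_ker α) (Abelianization.commutator_subset_ker γ)
    · intro z hz
      rw [hcen] at hz
      simp only [Subgroup.mem_inf, MonoidHom.mem_ker, α, γ, MonoidHom.mk'_apply, ofAdd_eq_one] at hz
      set x := f.symm ((f z).2.1, 0, 0)
      set y := f.symm (0, 0, 1)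
      have h1 : x * y = z * (y * x) := by
        apply f.injective
        rw [hf, hf z, hf y]
        simp [x, y, hz.1, hz.2]
      have h2 : z = x * y * x⁻¹ * y⁻¹ := by
        rw [h1]; group
      rw [h2]
      exact Subgroup.commutator_mem_commutator (Subgroup.mem_top x) (Subgroup.mem_top y)
  have hker : ∀ φ : P →* Multiplicative (ZMod p), Function.Surjective φ → IsCoatom φ.ker := by
    intro φ hφ
    apply coatom_of_prime_index hp
    rw [Subgroup.index_ker, MonoidHom.range_eq_top.2 hφ, Subgroup.card_top]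
    exact Nat.card_zmod p
  have hfrat : frattini P = Subgroup.center P := by
    have : Group.IsNilpotent P := hP.isNilpotent
    refine le_antisymm ?_ (hcomm ▸ Core.commutator_le_frattini)
    rw [hcen]
    refine le_inf (frattini_le_coatom (hker α fun a => ⟨f.symm (a.toAdd, 0, 0), by simp [α]⟩))
      (frattini_le_coatom (hker γ fun a => ⟨f.symm (0, 0, a.toAdd), by simp [γ]⟩))
  refine ⟨⟨⟨hP, hfrat, hcomm⟩, hcc⟩, hcard, ?_⟩
  have hpow : ∀ (x : P) (k : ℕ), f (x ^ k) =
      ((k : ZMod p) * (f x).1, (k : ZMod p) * (f x).2.1 + (k.choose 2 : ZMod p) * ((f x).1 * (f x).2.2),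
        (k : ZMod p) * (f x).2.2) := by
    intro x k
    induction k with
    | zero => simp [hone]
    | succ k ih =>
      rw [pow_succ, hf, ih, Nat.choose_succ_succ', Nat.choose_one_right]
      push_cast
      refine Prod.ext (by simp only; ring) (Prod.ext (by simp only; ring) (by simp only; ring))
  have hexp : Monoid.exponent P ∣ p := by
    apply Monoid.exponent_dvd_of_forall_pow_eq_one
    intro x
    apply f.injective
    have h2 : ((p.choose 2 : ℕ) : ZMod p) = 0 := by
      rw [ZMod.natCast_eq_zero_iff]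
      exact hp.dvd_choose_self two_ne_zero (lt_of_le_of_ne hp.two_le (Ne.symm hp2))
    rw [hpow, hone, ZMod.natCast_self, h2]
    simp
  rcases (Nat.dvd_prime hp).1 hexp with h | h
  · exfalso
    have := Monoid.exp_eq_one_iff.1 h
    rw [Nat.card_of_subsingleton (1 : P)] at hcard
    exact absurd hcard.symm (Nat.one_lt_pow three_ne_zero hp.one_lt).ne'
  · exact h

/-- The coordinates of an upper unitriangular matrix. -/
noncomputable def coords (p : ℕ) [Fact p.Prime] :
    ↥(UniTri.unitri 3 (ZMod p)) ≃ ZMod p × ZMod p × ZMod p where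
  toFun A := ((A.1 : Matrix (Fin 3) (Fin 3) (ZMod p)) 0 1,
    (A.1 : Matrix (Fin 3) (Fin 3) (ZMod p)) 0 2, (A.1 : Matrix (Fin 3) (Fin 3) (ZMod p)) 1 2)
  invFun v := ⟨⟨!![1, v.1, v.2.1; 0, 1, v.2.2; 0, 0, 1], by simp [Matrix.det_fin_three]⟩,
    UniTri.mem_unitri.2 (by simp [Fin.forall_fin_succ])⟩
  left_inv A := by
    obtain ⟨h0, h1⟩ := UniTri.mem_unitri.1 A.2
    have a10 := h0 1 0 (by decide)
    have a20 := h0 2 0 (by decide)
    have a21 := h0 2 1 (by decide)
    have a00 := h1 0
    have a11 := h1 1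
    have a22 := h1 2
    refine Subtype.ext (Matrix.SpecialLinearGroup.ext _ _ fun i j => ?_)
    fin_cases i <;> fin_cases j <;>
      first
      | exact a00.symm
      | exact a11.symm
      | exact a22.symm
      | exact a10.symm
      | exact a20.symm
      | exact a21.symm
      | rfl
  right_inv _ := rfl

theorem coords_mul {p : ℕ} [Fact p.Prime] (A B : ↥(UniTri.unitri 3 (ZMod p))) :
    coords p (A * B) = ((coords p A).1 + (coords p B).1,
      (coords p A).2.1 + (coords p B).2.1 + (coords p A).1 * (coords p B).2.2,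
      (coords p A).2.2 + (coords p B).2.2) := by
  obtain ⟨ha, ha1⟩ := UniTri.mem_unitri.1 A.2
  obtain ⟨hb, hb1⟩ := UniTri.mem_unitri.1 B.2
  have key : ∀ i j, ((A * B).1 : Matrix (Fin 3) (Fin 3) (ZMod p)) i j =
      ∑ k, (A.1 : Matrix (Fin 3) (Fin 3) (ZMod p)) i k * (B.1 : Matrix (Fin 3) (Fin 3) (ZMod p)) k j :=
    fun i j => rfl
  have c0 : ∀ C : ↥(UniTri.unitri 3 (ZMod p)), coords p C = ((C.1 : Matrix (Fin 3) (Fin 3) (ZMod p)) 0 1,
    (C.1 : Matrix (Fin 3) (Fin 3) (ZMod p)) 0 2, (C.1 : Matrix (Fin 3) (Fin 3) (ZMod p)) 1 2) :=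
    fun C => rfl
  simp only [c0, key, Fin.sum_univ_three, ha 1 0 (by decide), hb 1 0 (by decide),
    hb 2 1 (by decide), ha1 0, ha1 1, hb1 1, hb1 2, one_mul, mul_one, mul_zero, zero_mul, add_zero,
    zero_add]
  refine Prod.ext ?_ (Prod.ext ?_ ?_) <;> simp only <;> ring

theorem unitri_mem_qd {p : ℕ} [Fact p.Prime] :
    UniTri.unitri 3 (ZMod p) ≤ Cfsg.qd p := by
  intro A hA
  rw [UniTri.mem_unitri] at hA
  exact Subgroup.subset_closure ⟨hA.1 2 0 (by decide), hA.1 2 1 (by decide), hA.2 2⟩


/-- Let p be an odd prime. A Sylow p-subgroup of Qd(p), the split extension of an elementary abelian group of order p² by SL₂(p) acting naturally, is extraspecial of order p³ and exponent p. -/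
theorem result (p : ℕ) [Fact p.Prime] (hp : p ≠ 2) (P : Sylow p ↥(Cfsg.qd p)) :
    Cfsg.IsExtraspecial p ↥P ∧ Nat.card P = p ^ 3 ∧ Monoid.exponent ↥P = p := by
  classical
  obtain ⟨Q, hQ⟩ := UniTri.exists_sylow (n := 3) (K := ZMod p) p
  set U := UniTri.unitri 3 (ZMod p) with hU
  have hUq : (Q : Subgroup _) ≤ Cfsg.qd p := hQ ▸ unitri_mem_qd
  let e : ↥(P : Subgroup ↥(Cfsg.qd p)) ≃* ↥U :=
    ((Sylow.equiv P (Q.subtype hUq)).trans (Subgroup.subgroupOfEquivOfLe hUq)).trans
      (MulEquiv.subgroupCongr hQ)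
  refine heis hp ((e.toEquiv).trans (coords p)) fun x y => ?_
  simp only [Equiv.trans_apply, MulEquiv.toEquiv_eq_coe, EquivLike.coe_coe, map_mul]
  exact coords_mul (e x) (e y)

end Cfsg.Agent.S3074
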