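import Cfsg.Statements.S3075
import Mathlib

set_option autoImplicit false
open Cfsg

namespace Cfsg.Agent.S3075

theorem commutator_fixes {N : Type*} [Group N] {C : Subgroup N} [C.Normal] (hC : IsCyclic C)
    (u w : N) {c : N} (hc : c ∈ C) : (u * w * u⁻¹ * w⁻¹) * c = c * (u * w * u⁻¹ * w⁻¹) := by
  obtain ⟨⟨g, hg⟩, hgen⟩ := hC.exists_generator
  have hpow : ∀ d ∈ C, ∃ i : ℤ, g ^ i = d := fun d hd => by
    obtain ⟨i, hi⟩ := Subgroup.mem_zpowers_iff.1 (hgen ⟨d, hd⟩)
    exact ⟨i, congrArg Subtype.val hi⟩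
  have hrule : ∀ v : N, ∃ i : ℤ, ∀ d ∈ C, v * d * v⁻¹ = d ^ i := fun v => by
    obtain ⟨i, hi⟩ := hpow _ (Subgroup.Normal.conj_mem inferInstance g hg v)
    refine ⟨i, fun d hd => ?_⟩
    obtain ⟨k, rfl⟩ := hpow d hd
    rw [← conj_zpow, ← hi, ← zpow_mul, ← zpow_mul, mul_comm]
  obtain ⟨i, hi⟩ := hrule u
  obtain ⟨k, hk⟩ := hrule w
  have hmem : ∀ (v : N), ∀ d ∈ C, v * d * v⁻¹ ∈ C := fun v d hd =>
    Subgroup.Normal.conj_mem inferInstance d hd v
  have h1 : ∀ d ∈ C, u * (w * d * w⁻¹) * u⁻¹ = w * (u * d * u⁻¹) * w⁻¹ := fun d hd => by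
    rw [hi _ (hmem w d hd), hk _ (hmem u d hd), hi d hd, hk d hd, ← zpow_mul, ← zpow_mul, mul_comm]
  have h2 := h1 (u⁻¹ * (w⁻¹ * c * w) * u) (by
    have := hmem u⁻¹ _ (hmem w⁻¹ c hc)
    simpa [mul_assoc] using this)
  have e : w * (u * (u⁻¹ * (w⁻¹ * c * w) * u) * u⁻¹) * w⁻¹ = c := by group
  rw [e] at h2
  have e2 : u * (w * (u⁻¹ * (w⁻¹ * c * w) * u) * w⁻¹) * u⁻¹ =
      (u * w * u⁻¹ * w⁻¹) * c * (u * w * u⁻¹ * w⁻¹)⁻¹ := by group
  rw [e2, mul_inv_eq_iff_eq_mul] at h2
  exact h2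

theorem exists_anticommuting (F : Type*) [Field F] [Finite F] :
    ∃ a b : Matrix.SpecialLinearGroup (Fin 2) F, a * b * a⁻¹ * b⁻¹ = -1 := by
  have : Fintype F := Fintype.ofFinite F
  obtain ⟨s, r, hsr⟩ : ∃ s r : F, s ^ 2 + r ^ 2 = -1 := by
    obtain ⟨q, hq⟩ := CharP.exists F
    have : Fact q.Prime := ⟨(CharP.char_is_prime_or_zero F q).resolve_right
      (CharP.char_ne_zero_of_finite F q)⟩
    obtain ⟨a, b, hab⟩ := CharP.sq_add_sq F q (-1)
    exact ⟨a, b, by simpa using hab⟩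
  refine ⟨⟨!![0, 1; -1, 0], by simp [Matrix.det_fin_two]⟩, ⟨!![s, r; r, -s], by
    simp [Matrix.det_fin_two]; linear_combination -hsr⟩, ?_⟩
  set a : Matrix.SpecialLinearGroup (Fin 2) F := ⟨!![0, 1; -1, 0], by simp [Matrix.det_fin_two]⟩
  set b : Matrix.SpecialLinearGroup (Fin 2) F := ⟨!![s, r; r, -s], by
    simp [Matrix.det_fin_two]; linear_combination -hsr⟩
  have h : a * b = -1 * b * a := by
    rw [neg_one_mul, neg_mul]
    apply Subtype.ext
    rw [Matrix.SpecialLinearGroup.coe_neg, Matrix.SpecialLinearGroup.coe_mul,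
      Matrix.SpecialLinearGroup.coe_mul]
    ext i j
    fin_cases i <;> fin_cases j <;> simp [a, b, Matrix.mul_apply, Fin.sum_univ_two]
  rw [h]
  group


/-- Let p be an odd prime and N a finite group with a normal elementary abelian subgroup A of order p² that is its own centralizer in N, such that N/A is isomorphic to SL₂(p) (over any field F with p elements). Then N splits over A: some subgroup U of N satisfies A ∩ U = 1 and AU = N. -/
theorem result {N : Type*} [Group N] [Finite N] {p : ℕ} [Fact p.Prime] (hp : p ≠ 2)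
    (A : Subgroup N) [A.Normal] (hAcomm : IsMulCommutative A) (hAcard : Nat.card A = p ^ 2) (hAexp : Monoid.exponent ↥A = p)
    (hAself : Subgroup.centralizer (A : Set N) = A)
    {F : Type*} [Field F] [Fintype F] (hF : Fintype.card F = p) (e : N ⧸ A ≃* Matrix.SpecialLinearGroup (Fin 2) F) :
    ∃ U : Subgroup N, A ⊓ U = ⊥ ∧ A ⊔ U = ⊤ := by
  classical
  obtain ⟨a₀, b₀, hab⟩ := exists_anticommuting F
  obtain ⟨u, hu⟩ := QuotientGroup.mk_surjective (e.symm a₀)
  obtain ⟨w, hw⟩ := QuotientGroup.mk_surjective (e.symm b₀)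
  set t := u * w * u⁻¹ * w⁻¹ with ht
  have het : e (QuotientGroup.mk t) = -1 := by
    rw [ht, QuotientGroup.mk_mul, QuotientGroup.mk_mul, QuotientGroup.mk_mul, QuotientGroup.mk_inv,
      QuotientGroup.mk_inv, hu, hw]
    simp only [map_mul, map_inv, MulEquiv.apply_symm_apply]
    exact hab
  have hne : (-1 : Matrix.SpecialLinearGroup (Fin 2) F) ≠ 1 := by
    intro h
    have h1 := congrArg (fun M : Matrix.SpecialLinearGroup (Fin 2) F =>
      (M : Matrix (Fin 2) (Fin 2) F) 0 0) h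
    simp at h1
    have h2 : (2 : F) = 0 := by linear_combination -h1
    have hc : ((Fintype.card F : ℕ) : F) = 0 := Nat.cast_card_eq_zero F
    rw [hF] at hc
    obtain ⟨r, hr⟩ := (Fact.out : p.Prime).odd_of_ne_two hp
    rw [hr] at hc
    push_cast at hc
    rw [h2, zero_mul, zero_add] at hc
    exact one_ne_zero hc
  have htA : t ∉ A := fun h => hne (by
    rw [← het, (QuotientGroup.eq_one_iff t).2 h, map_one])
  have ht2 : t * t ∈ A := by
    rw [← QuotientGroup.eq_one_iff, QuotientGroup.mk_mul, ← e.map_eq_one_iff, map_mul, het]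
    simp
  have hAcom : ∀ a ∈ A, ∀ b ∈ A, a * b = b * a := fun a ha b hb =>
    congrArg Subtype.val (hAcomm.is_comm.comm (⟨a, ha⟩ : A) ⟨b, hb⟩)
  have hpA : ∀ a ∈ A, a ^ p = 1 := fun a ha => by
    have := Monoid.pow_exponent_eq_one (⟨a, ha⟩ : A)
    rw [hAexp] at this
    exact congrArg Subtype.val this
  have hodd2 : ∀ a ∈ A, a * a = 1 → a = 1 := by
    intro a ha h
    obtain ⟨r, hr⟩ := (Fact.out : p.Prime).odd_of_ne_two hp
    have := hpA a ha
    rwa [hr, pow_succ, pow_mul, sq, h, one_pow, one_mul] at this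
  have htc : ∀ n : N, ∃ a ∈ A, n * t * n⁻¹ = t * a := fun n => by
    refine ⟨t⁻¹ * (n * t * n⁻¹), ?_, (mul_inv_cancel_left _ _).symm⟩
    rw [← QuotientGroup.eq, eq_comm]
    apply e.injective
    rw [QuotientGroup.mk_mul, QuotientGroup.mk_mul, QuotientGroup.mk_inv, map_mul, map_mul, het]
    simp
  set L := A ⊓ Subgroup.centralizer ({t} : Set N) with hL
  have hLn : L.Normal := ⟨fun l hl n => by
    obtain ⟨hlA, hlt⟩ := Subgroup.mem_inf.1 hl
    rw [Subgroup.mem_centralizer_singleton_iff] at hlt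
    have h1 : n * l * n⁻¹ ∈ A := Subgroup.Normal.conj_mem inferInstance l hlA n
    refine Subgroup.mem_inf.2 ⟨h1, Subgroup.mem_centralizer_singleton_iff.2 ?_⟩
    obtain ⟨a, ha, hna⟩ := htc n⁻¹
    rw [inv_inv] at hna
    have h3 : Commute (t * a) l := (show Commute t l from hlt.symm).mul_left (hAcom a ha l hlA)
    rw [← hna] at h3
    have h4 := h3.symm.map (MulAut.conj n)
    simp only [MulAut.conj_apply] at h4
    rw [show n * (n⁻¹ * t * n) * n⁻¹ = t by group] at h4
    exact h4.eq⟩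
  have hLbot : L = ⊥ := by
    by_contra hL1
    have hLdvd : Nat.card L ∣ p ^ 2 := hAcard ▸ Subgroup.card_dvd_of_le inf_le_left
    obtain ⟨i, hi, hLc⟩ := (Nat.dvd_prime_pow Fact.out).1 hLdvd
    have hLA : ¬ A ≤ L := fun h => htA (hAself.le (Subgroup.mem_centralizer_iff.2 fun a ha =>
      Subgroup.mem_centralizer_singleton_iff.1 (h ha).2))
    obtain rfl : i = 1 := by
      rcases (show i = 0 ∨ i = 1 ∨ i = 2 by omega) with rfl | rfl | rfl
      · rw [pow_zero, Subgroup.card_eq_one] at hLc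
        exact absurd hLc hL1
      · rfl
      · exact absurd (Subgroup.eq_of_le_of_card_ge inf_le_left (by rw [hLc, hAcard])).ge hLA
    rw [pow_one] at hLc
    have hLcyc : IsCyclic L := isCyclic_of_prime_card hLc
    set B := A.map (QuotientGroup.mk' L) with hB
    have hBn : B.Normal := Subgroup.Normal.map inferInstance _ (QuotientGroup.mk'_surjective L)
    have hBcard : Nat.card B = p := by
      have h1 := Subgroup.card_eq_card_quotient_mul_card_subgroup
        ((QuotientGroup.mk' L).subgroupMap A).ker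
      rw [Nat.card_congr (QuotientGroup.quotientKerEquivOfSurjective _
        (MonoidHom.subgroupMap_surjective _ A)).toEquiv] at h1
      have h2 : Nat.card ((QuotientGroup.mk' L).subgroupMap A).ker = Nat.card L := by
        refine Nat.card_congr
          { toFun := fun a => ⟨(a.1 : N), (QuotientGroup.eq_one_iff _).1
              (congrArg Subtype.val a.2)⟩
            invFun := fun l => ⟨⟨l.1, (Subgroup.mem_inf.1 l.2).1⟩,
              Subtype.ext ((QuotientGroup.eq_one_iff _).2 l.2)⟩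
            left_inv := fun a => rfl
            right_inv := fun l => rfl }
      rw [h2, hLc, hAcard, sq] at h1
      exact (Nat.eq_of_mul_eq_mul_right (Fact.out : p.Prime).pos h1).symm
    have hBcyc : IsCyclic B := isCyclic_of_prime_card hBcard
    refine htA (hAself.le (Subgroup.mem_centralizer_iff.2 fun a ha => ?_))
    have h1 := commutator_fixes hBcyc (QuotientGroup.mk' L u) (QuotientGroup.mk' L w)
      (Subgroup.mem_map_of_mem _ ha)
    rw [← map_inv, ← map_inv, ← map_mul, ← map_mul, ← map_mul, ← ht, ← map_mul, ← map_mul] at h1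
    have hl : (a * t)⁻¹ * (t * a) ∈ L := QuotientGroup.eq.1 h1.symm
    obtain ⟨hlA, hlt⟩ := Subgroup.mem_inf.1 hl
    set l := (a * t)⁻¹ * (t * a) with hldef
    have hlt' : Commute t l := (Subgroup.mem_centralizer_singleton_iff.1 hlt).symm
    have hta : t * a = a * t * l := (mul_inv_cancel_left _ _).symm
    have ht2a : Commute (t * t) a := hAcom _ ht2 a ha
    have h5 : t * t * a = a * (t * t) * (l * l) := by
      calc t * t * a = t * (t * a) := mul_assoc _ _ _
        _ = t * (a * t * l) := by rw [← hta]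
        _ = (t * a) * t * l := by simp only [mul_assoc]
        _ = (a * t * l) * t * l := by rw [← hta]
        _ = a * t * (l * t) * l := by simp only [mul_assoc]
        _ = a * (t * t) * (l * l) := by rw [← hlt'.eq]; group
    rw [← ht2a.eq, left_eq_mul] at h5
    rw [hta, hodd2 l hlA h5, mul_one]
  have hinj : ∀ a ∈ A, t * a = a * t → a = 1 := fun a ha h => by
    have : a ∈ L := Subgroup.mem_inf.2 ⟨ha, Subgroup.mem_centralizer_singleton_iff.2 h.symm⟩
    rwa [hLbot, Subgroup.mem_bot] at this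
  refine ⟨Subgroup.centralizer ({t} : Set N), hLbot, eq_top_iff.2 fun n _ => ?_⟩
  let f : A → A := fun b => ⟨t⁻¹ * (b : N) * t * (b : N)⁻¹,
    mul_mem (by simpa using Subgroup.Normal.conj_mem (inferInstance : A.Normal) (b : N) b.2 t⁻¹)
      (inv_mem b.2)⟩
  have hfinj : Function.Injective f := by
    intro b c hbc
    have h1 : t⁻¹ * (b : N) * t * (b : N)⁻¹ = t⁻¹ * (c : N) * t * (c : N)⁻¹ :=
      congrArg Subtype.val hbc
    have h3 : (b : N) * t * (b : N)⁻¹ = (c : N) * t * (c : N)⁻¹ := by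
      simpa [mul_assoc] using h1
    have h2 : t * ((c : N)⁻¹ * b) = (c : N)⁻¹ * (b : N) * t := by
      calc t * ((c : N)⁻¹ * b) = (c : N)⁻¹ * ((c : N) * t * (c : N)⁻¹) * b := by group
        _ = (c : N)⁻¹ * ((b : N) * t * (b : N)⁻¹) * b := by rw [h3]
        _ = (c : N)⁻¹ * (b : N) * t := by group
    exact Subtype.ext (inv_mul_eq_one.1 (hinj _ (mul_mem (inv_mem c.2) b.2) h2)).symm
  obtain ⟨a, ha, hna⟩ := htc n
  obtain ⟨b, hb⟩ := (Finite.injective_iff_surjective.1 hfinj) ⟨a, ha⟩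
  have hb' : t⁻¹ * (b : N) * t * (b : N)⁻¹ = a := congrArg Subtype.val hb
  rw [← mul_inv_cancel_left (b : N) n]
  refine mul_mem (Subgroup.mem_sup_left b.2) (Subgroup.mem_sup_right ?_)
  rw [Subgroup.mem_centralizer_singleton_iff]
  have h3 : (b : N) * t * (b : N)⁻¹ = n * t * n⁻¹ := by
    rw [hna, ← hb']; group
  calc (b : N)⁻¹ * n * t = (b : N)⁻¹ * (n * t * n⁻¹) * n := by group
    _ = (b : N)⁻¹ * ((b : N) * t * (b : N)⁻¹) * n := by rw [h3]
    _ = t * ((b : N)⁻¹ * n) := by group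

end Cfsg.Agent.S3075
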