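import Cfsg.Statements.S3076
import Mathlib
import Cfsg.Agent.Core.PCore
import Cfsg.Agent.Core.Basics

set_option autoImplicit false
open Cfsg

namespace Cfsg.Agent.S3076

open Subgroup

theorem abstract_form {N : Type*} [Group N] [Finite N] {p : ℕ} [Fact p.Prime] (H C : Subgroup N)
    [H.Normal] [C.Normal] (hHp : IsPGroup p H) (hC : C = centralizer (H : Set N))
    (P₀ : Sylow p N) (hHP : H ≤ (P₀ : Subgroup N)) :
    (H ≤ (Cfsg.pCore p (N ⧸ C)).comap (QuotientGroup.mk' C) ∧
      ¬ p ∣ H.relIndex ((Cfsg.pCore p (N ⧸ C)).comap (QuotientGroup.mk' C))) ↔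
    ((P₀ : Subgroup N) ⊓ C ≤ H ∧ Cfsg.pPrimePCore p N = H ⊔ C) := by
  classical
  set Np := (Cfsg.pCore p (N ⧸ C)).comap (QuotientGroup.mk' C) with hNp
  set K' := Cfsg.pPrimeCore p N with hK'
  have : K'.Normal := Core.pPrimeCore_normal
  have hsC := QuotientGroup.mk'_surjective C
  have hsK := QuotientGroup.mk'_surjective K'
  have hCNp : C ≤ Np := fun c hc => by
    rw [hNp, mem_comap, QuotientGroup.mk'_apply, (QuotientGroup.eq_one_iff c).2 hc]
    exact one_mem _
  have hHNp : H ≤ Np := by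
    rw [hNp, ← map_le_iff_le_comap]
    have := (inferInstance : H.Normal).map _ hsC
    exact Core.le_pCore (hHp.map _)
  have hK'C : K' ≤ C := by
    rw [hC, le_centralizer_iff]
    intro h hh
    rw [mem_centralizer_iff]
    intro k hk
    refine ((Core.commute_of_coprime (H := H) (K := K') ?_ hh hk)).eq.symm
    obtain ⟨i, hi⟩ := IsPGroup.iff_card.1 hHp
    rw [hi]
    exact (Core.coprime_card_pPrimeCore (G := N)).symm.pow_left i
  set M := Cfsg.pPrimePCore p N with hM
  have hMN : M.Normal := (Core.pCore_normal).comap _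
  have hMNp : M ≤ Np := by
    rw [hNp, ← map_le_iff_le_comap]
    have := hMN.map _ hsC
    refine Core.le_pCore fun q => ?_
    obtain ⟨q, m, hm, rfl⟩ := q
    have hm' : QuotientGroup.mk' K' m ∈ Cfsg.pCore p (N ⧸ K') := hm
    obtain ⟨i, hi⟩ := Core.pCore_isPGroup (p := p) (G := N ⧸ K') ⟨_, hm'⟩
    have hi' : QuotientGroup.mk' K' (m ^ p ^ i) = 1 := by
      rw [map_pow]; exact congrArg Subtype.val hi
    refine ⟨i, Subtype.ext ?_⟩
    rw [Subgroup.coe_pow, Subgroup.coe_one]
    change (QuotientGroup.mk' C m) ^ p ^ i = 1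
    rw [← map_pow]
    exact (QuotientGroup.eq_one_iff _).2 (hK'C ((QuotientGroup.eq_one_iff _).1 hi'))
  have hHM : H ≤ M := by
    rw [hM, Cfsg.pPrimePCore, ← map_le_iff_le_comap]
    have := (inferInstance : H.Normal).map _ hsK
    exact Core.le_pCore (hHp.map _)
  have hSylC : ¬ p ∣ ((P₀ : Subgroup N) ⊓ C).relIndex C := by
    rw [inf_relIndex_right]
    intro h
    refine P₀.not_dvd_index ?_
    refine h.trans ?_
    rw [← Subgroup.relIndex_top_right]
    have h2 : (P₀ : Subgroup N).relIndex C = (P₀ : Subgroup N).relIndex ((P₀ : Subgroup N) ⊔ C) := by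
      have hs := Core.card_sup_mul_card_inf (P₀ : Subgroup N) C
      have h3 := Subgroup.relIndex_mul_relIndex ⊥ (P₀ : Subgroup N) ((P₀ : Subgroup N) ⊔ C) bot_le le_sup_left
      have h4 := Subgroup.relIndex_mul_relIndex ⊥ ((P₀ : Subgroup N) ⊓ C) C bot_le inf_le_right
      simp only [Subgroup.relIndex_bot_left, Subgroup.inf_relIndex_right] at h3 h4
      rw [← h3, ← h4] at hs
      refine (Nat.eq_of_mul_eq_mul_left (n := Nat.card (P₀ : Subgroup N) *
        Nat.card ↥((P₀ : Subgroup N) ⊓ C)) (Nat.mul_pos Nat.card_pos Nat.card_pos) ?_).symm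
      linear_combination hs
    rw [h2, ← Subgroup.relIndex_mul_relIndex _ _ ⊤ le_sup_left le_top]
    exact dvd_mul_right _ _
  constructor
  · rintro ⟨-, hidx⟩
    have h1 : (P₀ : Subgroup N) ⊓ C ≤ H := by
      set X := H ⊔ ((P₀ : Subgroup N) ⊓ C)
      have hX : X ≤ Np := sup_le hHNp (inf_le_right.trans hCNp)
      have hXp : IsPGroup p X := P₀.2.to_le (sup_le hHP inf_le_left)
      obtain ⟨i, hi⟩ := hXp.index (H.subgroupOf X)
      have hi' : H.relIndex X = p ^ i := hi
      have hd : H.relIndex X ∣ H.relIndex Np := Dvd.intro _ (relIndex_mul_relIndex _ _ _ le_sup_left hX)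
      have hi0 : i = 0 := by
        by_contra h0
        exact hidx (((hi' ▸ dvd_pow_self p h0) : p ∣ H.relIndex X).trans hd)
      rw [hi0, pow_zero, relIndex_eq_one] at hi'
      exact le_sup_right.trans hi'
    refine ⟨h1, ?_⟩
    have hHC : H ⊔ C = Np := by
      refine le_antisymm (sup_le hHNp hCNp) (relIndex_eq_one.1 ?_)
      obtain ⟨i, hi⟩ := IsPGroup.iff_card.1 (Core.pCore_isPGroup (p := p) (G := N ⧸ C))
      have hd1 : (H ⊔ C).relIndex Np ∣ p ^ i := by
        refine (Subgroup.relIndex_dvd_of_le_left Np (le_sup_right : C ≤ H ⊔ C)).trans ?_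
        rw [← hi, ← relIndex_bot_left]
        have := relIndex_comap (⊥ : Subgroup (N ⧸ C)) (QuotientGroup.mk' C) Np
        rw [MonoidHom.comap_bot, QuotientGroup.ker_mk', hNp, map_comap_eq_self_of_surjective hsC] at this
        rw [hNp, this]
      have hd2 : (H ⊔ C).relIndex Np ∣ H.relIndex Np := Subgroup.relIndex_dvd_of_le_left Np le_sup_left
      exact Nat.eq_one_of_dvd_coprimes
        ((((Fact.out : p.Prime).coprime_iff_not_dvd).2 hidx).pow_left i) hd1 hd2
    refine le_antisymm (hMNp.trans hHC.ge) (sup_le hHM ?_)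
    -- `C` has a normal `p`-complement
    set Z := ((P₀ : Subgroup N) ⊓ C).subgroupOf C with hZ
    have hZp : IsPGroup p Z := (P₀.2.to_le inf_le_left).comap_subtype
    let S : Sylow p C := hZp.toSylow hSylC
    have hS : (S : Subgroup C) = Z := IsPGroup.toSylow_coe _ _
    have hSC : normalizer (S : Set C) ≤ centralizer (S : Set C) := by
      intro c _
      rw [← S.coe_coe, hS, mem_centralizer_iff]
      intro z hz
      apply Subtype.ext
      have hzH : (z : N) ∈ H := h1 hz
      exact mem_centralizer_iff.1 (hC.le c.2) _ hzH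
    have hc := MonoidHom.ker_transferSylow_isComplement' S hSC
    set K := (MonoidHom.transferSylow S hSC).ker
    have hKle : K ≤ Cfsg.pPrimeCore p C := by
      refine Core.le_pPrimeCore ?_
      rw [← hc.index_eq_card]
      exact ((Fact.out : p.Prime).coprime_iff_not_dvd.2 S.not_dvd_index).symm
    have hKK : K.map C.subtype ≤ K' :=
      (map_mono hKle).trans ((Core.map_pPrimeCore_normal C).le.trans inf_le_left)
    have htop : K ⊔ (S : Subgroup C) = ⊤ := hc.sup_eq_top
    have := congrArg (map C.subtype) htop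
    rw [Subgroup.map_sup, hS, hZ, subgroupOf_map_subtype, ← MonoidHom.range_eq_map, range_subtype] at this
    refine this.ge.trans (sup_le (hKK.trans ?_) (inf_le_left.trans (h1.trans hHM)))
    intro k hk
    rw [hM, Cfsg.pPrimePCore, mem_comap, QuotientGroup.mk'_apply, (QuotientGroup.eq_one_iff k).2 hk]
    exact one_mem _
  · rintro ⟨h1, h2⟩
    have hCM : C ≤ M := h2 ▸ le_sup_right
    have hNM : Np ≤ M := by
      rw [hM, Cfsg.pPrimePCore, ← map_le_iff_le_comap]
      have : Np.Normal := (Core.pCore_normal).comap _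
      have := this.map _ hsK
      refine Core.le_pCore fun q => ?_
      obtain ⟨q, m, hm, rfl⟩ := q
      have hm' : QuotientGroup.mk' C m ∈ Cfsg.pCore p (N ⧸ C) := hm
      obtain ⟨i, hi⟩ := Core.pCore_isPGroup (p := p) (G := N ⧸ C) ⟨_, hm'⟩
      have hi' : m ^ p ^ i ∈ C := by
        refine (QuotientGroup.eq_one_iff _).1 ?_
        rw [QuotientGroup.mk_pow]; exact congrArg Subtype.val hi
      have hj' : QuotientGroup.mk' K' (m ^ p ^ i) ∈ Cfsg.pCore p (N ⧸ K') := hCM hi'
      obtain ⟨j, hj⟩ := Core.pCore_isPGroup (p := p) (G := N ⧸ K') ⟨_, hj'⟩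
      refine ⟨i + j, Subtype.ext ?_⟩
      rw [Subgroup.coe_pow, Subgroup.coe_one, pow_add, pow_mul]
      change ((QuotientGroup.mk' K' m) ^ p ^ i) ^ p ^ j = 1
      rw [← map_pow]
      exact congrArg Subtype.val hj
    have hNeq : Np = H ⊔ C := (le_antisymm hNM hMNp).trans h2
    refine ⟨hHNp, ?_⟩
    rw [hNeq, sup_comm, Subgroup.relIndex_sup_right]
    intro h
    exact hSylC (h.trans (Subgroup.relIndex_dvd_of_le_left C h1))


/-- Let P be a Sylow p-subgroup of the finite group G and H ≤ P a subgroup with N_P(H) a Sylow p-subgroup of N_G(H). Let N be the preimage in N_G(H) of O_p(N_G(H)/C_G(H)). Then H is a Sylow p-subgroup of N if and only if C_P(H) ≤ H and O_{p',p}(N_G(H)) = H·C_G(H). -/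
theorem result {G : Type*} [Group G] [Finite G] {p : ℕ} [Fact p.Prime]
    (P : Sylow p G) (H : Subgroup G) (hHP : H ≤ (P : Subgroup G))
    (hSyl : ¬ p ∣ ((P : Subgroup G) ⊓ Subgroup.normalizer (H : Set G)).relIndex (Subgroup.normalizer (H : Set G)))
    [hC : ((Subgroup.centralizer (H : Set G)).subgroupOf (Subgroup.normalizer (H : Set G))).Normal] :
    (H ≤ ((Cfsg.pCore p (↥(Subgroup.normalizer (H : Set G)) ⧸
              (Subgroup.centralizer (H : Set G)).subgroupOf (Subgroup.normalizer (H : Set G)))).comap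
            (QuotientGroup.mk' _)).map (Subgroup.normalizer (H : Set G)).subtype ∧
      ¬ p ∣ H.relIndex (((Cfsg.pCore p (↥(Subgroup.normalizer (H : Set G)) ⧸
              (Subgroup.centralizer (H : Set G)).subgroupOf (Subgroup.normalizer (H : Set G)))).comap
            (QuotientGroup.mk' _)).map (Subgroup.normalizer (H : Set G)).subtype)) ↔
    ((P : Subgroup G) ⊓ Subgroup.centralizer (H : Set G) ≤ H ∧
      (Cfsg.pPrimePCore p ↥(Subgroup.normalizer (H : Set G))).map (Subgroup.normalizer (H : Set G)).subtype =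
        H ⊔ Subgroup.centralizer (H : Set G)) := by
  classical
  set N := Subgroup.normalizer (H : Set G) with hN
  have hHN : H ≤ N := Subgroup.le_normalizer
  have : (H.subgroupOf N).Normal := Subgroup.normal_in_normalizer
  have hCN : Subgroup.centralizer (H : Set G) ≤ N := Subgroup.centralizer_le_normalizer _
  have hCeq : (Subgroup.centralizer (H : Set G)).subgroupOf N =
      Subgroup.centralizer ((H.subgroupOf N : Subgroup N) : Set N) := by
    ext c
    rw [Subgroup.mem_subgroupOf, Subgroup.mem_centralizer_iff, Subgroup.mem_centralizer_iff]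
    exact ⟨fun h x hx => Subtype.ext (h _ hx),
      fun h x hx => congrArg Subtype.val (h ⟨x, hHN hx⟩ hx)⟩
  have hP0 : IsPGroup p ↥(((P : Subgroup G) ⊓ N).subgroupOf N) := (P.2.to_le inf_le_left).comap_subtype
  let P₀ : Sylow p N := hP0.toSylow hSyl
  have hP₀ : (P₀ : Subgroup N) = ((P : Subgroup G) ⊓ N).subgroupOf N := IsPGroup.toSylow_coe _ _
  have key := abstract_form (H.subgroupOf N) ((Subgroup.centralizer (H : Set G)).subgroupOf N)
    (P.2.to_le hHP).comap_subtype hCeq P₀ (hP₀ ▸ fun x hx => Subgroup.mem_inf.2 ⟨hHP hx, x.2⟩)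
  set Np := (Cfsg.pCore p (↥N ⧸ (Subgroup.centralizer (H : Set G)).subgroupOf N)).comap
    (QuotientGroup.mk' ((Subgroup.centralizer (H : Set G)).subgroupOf N)) with hNp
  have e1 : H ≤ Np.map N.subtype ↔ H.subgroupOf N ≤ Np := by
    constructor
    · intro h x hx
      obtain ⟨y, hy, hyx⟩ := h hx
      exact Subtype.ext hyx ▸ hy
    · exact fun h x hx => ⟨⟨x, hHN hx⟩, h hx, rfl⟩
  have e2 : H.relIndex (Np.map N.subtype) = (H.subgroupOf N).relIndex Np :=
    (Subgroup.relIndex_comap H N.subtype Np).symm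
  rw [e1, e2, key, hP₀]
  refine and_congr ?_ ?_
  · constructor
    · intro h x hx
      obtain ⟨h1, h2⟩ := Subgroup.mem_inf.1 hx
      exact h (Subgroup.mem_inf.2 ⟨(show (⟨x, hCN h2⟩ : N) ∈ _ from
        Subgroup.mem_inf.2 ⟨h1, hCN h2⟩), (show (⟨x, hCN h2⟩ : N) ∈ _ from h2)⟩)
    · intro h x hx
      obtain ⟨h1, h2⟩ := Subgroup.mem_inf.1 hx
      exact h (Subgroup.mem_inf.2 ⟨(Subgroup.mem_inf.1 h1).1, h2⟩)
  · have e3 : (H.subgroupOf N ⊔ (Subgroup.centralizer (H : Set G)).subgroupOf N).map N.subtype =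
        H ⊔ Subgroup.centralizer (H : Set G) := by
      rw [Subgroup.map_sup, Subgroup.subgroupOf_map_subtype, Subgroup.subgroupOf_map_subtype,
        inf_of_le_left hHN, inf_of_le_left hCN]
    constructor
    · intro h; rw [h, e3]
    · intro h
      exact Subgroup.map_injective N.subtype_injective (h.trans e3.symm)

end Cfsg.Agent.S3076
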