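import Cfsg.Statements.S3078
import Cfsg.Agent.Fusion.AbMax

set_option autoImplicit false
open Cfsg

namespace Cfsg.Agent.S3078

open Subgroup

open scoped commutatorElement

/-- The rank part of the replacement. -/
theorem card_omega_le {G : Type*} [Group G] [Finite G] {p : ℕ} [Fact p.Prime] (hp : p ≠ 2) {A B : Subgroup G}
    {b : G} (hS : Fusion.Replacement.Setup p A B b) :
    Nat.card (Cfsg.omegaOne p A) ≤ Nat.card (Cfsg.omegaOne p (Fusion.Replacement.star A b)) := by
  set T := Fusion.Replacement.star A b with hT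
  have hTc := Fusion.Replacement.star_comm hS
  let Kill : ∀ H : Subgroup G, IsMulCommutative H → Subgroup G := fun H hH =>
    { carrier := {x | x ∈ H ∧ x ^ p = 1}
      one_mem' := ⟨one_mem H, one_pow p⟩
      mul_mem' := fun {x y} hx hy => ⟨mul_mem hx.1 hy.1, by
        rw [(Fusion.commute_of_isMulCommutative hH hx.1 hy.1).mul_pow, hx.2, hy.2, one_mul]⟩
      inv_mem' := fun {x} hx => ⟨inv_mem hx.1, by rw [inv_pow, hx.2, inv_one]⟩ }
  have hom : ∀ (H : Subgroup G) (hH : IsMulCommutative H), Cfsg.omegaOne p H = Kill H hH := fun H hH =>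
    le_antisymm ((Subgroup.closure_le _).mpr fun x hx => hx) fun x hx => Subgroup.subset_closure hx
  rw [hom A hS.comm, hom T hTc]
  set D := A ⊓ A.map (MulAut.conj b⁻¹).toMonoidHom with hD
  set A₁ := Kill A hS.comm
  set T₁ := Kill T hTc
  have hDT : D ≤ T := le_sup_left
  set D₁ := T₁ ⊓ D
  have hn : (D₁.subgroupOf T₁).Normal := ⟨fun x hx g => by
    have hc : Commute g x := Subtype.ext (Fusion.commute_of_isMulCommutative hTc g.2.1 x.2.1)
    rw [hc.eq, mul_inv_cancel_right]
    exact hx⟩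
  have hu : ∀ a ∈ A₁, ⁅b⁻¹, a⁆ ∈ T₁ := fun a ha => by
    refine ⟨Fusion.Replacement.u_mem_star ha.1, ?_⟩
    set y := b⁻¹ * a * b with hy
    have h2 : ⁅b⁻¹, a⁆ = y * a⁻¹ := by rw [hy, commutatorElement_def, inv_inv]
    have hc : ⁅a⁻¹, y⁆ ∈ D := by
      have h := Fusion.Replacement.commutator_A_u_mem hS (Subgroup.inv_mem _ ha.1) ha.1
      have : ⁅a⁻¹, ⁅b⁻¹, a⁆⁆ = ⁅a⁻¹, y⁆ := by
        rw [h2]; simp only [commutatorElement_def]; group
      rwa [this] at h
    have hca : Commute ⁅a⁻¹, y⁆ a⁻¹ :=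
      Fusion.commute_of_isMulCommutative hS.comm hc.1 (inv_mem ha.1)
    have hcy : Commute ⁅a⁻¹, y⁆ y := by
      obtain ⟨c, hc', hce⟩ := hc.2
      rw [← hce, show y = (MulAut.conj b⁻¹).toMonoidHom a by
        show y = b⁻¹ * a * b⁻¹⁻¹
        rw [inv_inv, hy]]
      exact (Fusion.commute_of_isMulCommutative hS.comm hc' ha.1).map _
    have hcp : ⁅a⁻¹, y⁆ ^ p = 1 := by
      have key : ∀ n : ℕ, ⁅a⁻¹ ^ n, y⁆ = ⁅a⁻¹, y⁆ ^ n := by
        intro n
        induction n with
        | zero => simp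
        | succ n ih =>
          rw [pow_succ', show ⁅a⁻¹ * a⁻¹ ^ n, y⁆ = a⁻¹ * ⁅a⁻¹ ^ n, y⁆ * a⁻¹⁻¹ * ⁅a⁻¹, y⁆ by
            simp only [commutatorElement_def]; group, ih, ← ((hca.pow_left n)).eq,
            mul_inv_cancel_right, pow_succ]
      rw [← key, inv_pow, ha.2, inv_one, commutatorElement_one_left]
    have hyp : y ^ p = 1 := by
      have h1 : (b⁻¹ * a * b) ^ p = b⁻¹ * a ^ p * b := by
        simpa using map_pow (MulAut.conj b⁻¹) a p |>.symm
      rw [hy, h1, ha.2, mul_one, inv_mul_cancel]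
    obtain ⟨k, hk⟩ : p ∣ p.choose 2 := Nat.Prime.dvd_choose_self (Fact.out : p.Prime) two_ne_zero
      (lt_of_le_of_ne (Fact.out : p.Prime).two_le (Ne.symm hp))
    rw [h2, Fusion.mul_pow_of_commute_commutator hcy hca p, hk, pow_mul, hcp, one_pow, mul_one,
      inv_pow, ha.2, inv_one, mul_one, hyp]
  let π := QuotientGroup.mk' (D₁.subgroupOf T₁)
  let φ : A₁ →* T₁ ⧸ D₁.subgroupOf T₁ :=
    MonoidHom.mk' (fun a => π ⟨⁅b⁻¹, (a : G)⁆, hu a a.2⟩) fun a a' => by
      rw [← map_mul]
      refine QuotientGroup.eq.mpr ?_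
      rw [mem_subgroupOf]
      exact ⟨Subgroup.mul_mem T₁ (T₁.inv_mem (hu _ (mul_mem a.2 a'.2))) (T₁.mul_mem (hu a a.2) (hu a' a'.2)),
        Fusion.Replacement.u_mul_mem hS a.2.1 a'.2.1⟩
  have hker : φ.ker ≤ D.subgroupOf A₁ := fun a ha => by
    have h := (QuotientGroup.eq_one_iff _).mp (MonoidHom.mem_ker.mp ha)
    exact Fusion.Replacement.mem_D_of_u_mem hS a.2.1 h.2
  have h1 : Nat.card φ.ker ≤ Nat.card (D₁.subgroupOf T₁) := by
    refine Nat.card_le_card_of_injective
      (fun a => (⟨⟨((a : A₁) : G), ⟨hDT (hker a.2), (a : A₁).2.2⟩⟩,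
        ⟨⟨hDT (hker a.2), (a : A₁).2.2⟩, hker a.2⟩⟩ : D₁.subgroupOf T₁)) ?_
    intro a a' h
    exact Subtype.ext (Subtype.ext (congrArg (fun z : D₁.subgroupOf T₁ => ((z : T₁) : G)) h))
  have h2 : Nat.card φ.range ≤ Nat.card (T₁ ⧸ D₁.subgroupOf T₁) :=
    Nat.card_le_card_of_injective _ Subtype.val_injective
  rw [← φ.ker.index_mul_card, Subgroup.index_ker, (D₁.subgroupOf T₁).card_eq_card_quotient_mul_card_subgroup]
  exact Nat.mul_le_mul h2 h1

/-- The replacement in a group in which `B` is normal. -/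
theorem replace_normal {G : Type*} [Group G] [Finite G] {p : ℕ} [Fact p.Prime] (hp : p ≠ 2)
    (hG : IsPGroup p G) (A B : Subgroup G) [B.Normal] (hA : IsMulCommutative A) (hBA : ⁅B, B⁆ ≤ A)
    (hBnA : ¬ B ≤ Subgroup.normalizer (A : Set G)) :
    ∃ T : Subgroup G, IsMulCommutative T ∧ Nat.card T = Nat.card A ∧ A ⊓ B < T ⊓ B ∧
      T ≤ Subgroup.normalizer (A : Set G) ∧ T ≤ Subgroup.normalClosure (A : Set G) ∧
      Monoid.exponent T ∣ Monoid.exponent A ∧
      Nat.card (Cfsg.omegaOne p A) ≤ Nat.card (Cfsg.omegaOne p T) := by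
  obtain ⟨b, hb, hbN, hbA⟩ := S0649.result hG B (fun h => absurd h hp) A hA hBA hBnA
  have hS : Fusion.Replacement.Setup p A B b :=
    ⟨hG.to_subgroup B, hA, by rw [normalizer_eq_top]; exact le_top, hBA, fun h => absurd h hp,
      hb, hbN, hbA⟩
  refine ⟨_, Fusion.Replacement.star_comm hS, Fusion.Replacement.card_star hS,
    Fusion.Replacement.inf_lt_star_inf hS, Fusion.Replacement.star_le_normalizer hS,
    Fusion.Replacement.star_le (inf_le_left.trans Subgroup.subset_normalClosure) (fun a ha => ?_),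
    ?_, card_omega_le hp hS⟩
  · rw [commutatorElement_def, inv_inv]
    have h := (inferInstance : (Subgroup.normalClosure (A : Set G)).Normal).conj_mem a
      (Subgroup.subset_normalClosure ha) b⁻¹
    rw [inv_inv] at h
    exact mul_mem h (inv_mem (Subgroup.subset_normalClosure ha))
  · refine Monoid.exponent_dvd_of_forall_pow_eq_one fun x => Subtype.ext ?_
    refine Fusion.Replacement.pow_eq_one_of_mem_star hS (Or.inr ?_)
      (fun a ha => congrArg Subtype.val (Monoid.pow_exponent_eq_one (⟨a, ha⟩ : A))) x.2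
    obtain ⟨n, hn⟩ := IsPGroup.iff_card.mp (hG.to_subgroup A)
    obtain ⟨k, -, hk⟩ := (Nat.dvd_prime_pow Fact.out).mp
      (hn ▸ Group.exponent_dvd_nat_card : Monoid.exponent A ∣ p ^ n)
    rw [hk]
    exact ((Fact.out : p.Prime).odd_of_ne_two hp).pow

/-- A replacement Theorem for abelian subgroups of p-groups, p odd. Let G be a finite p-group with p odd, A an abelian subgroup of G, and B a subgroup of nilpotency class at most 2 with [B, B] ≤ A, such that A normalizes B but B does not normalize A. Then there is an abelian subgroup A* of G of the same order as A with A ∩ B strictly contained in A* ∩ B, A* contained in N_G(A) and in the normal closure of A, the exponent of A* dividing the exponent of A, and with the subgroup generated by the elements of order dividing p in A of order at most that of the corresponding subgroup of A* (the rank of A is at most the rank of A*). -/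
theorem result {G : Type*} [Group G] [Finite G] {p : ℕ} [Fact p.Prime] (hp : p ≠ 2) (hG : IsPGroup p G) (A B : Subgroup G) (hA : IsMulCommutative A) (hB2 : ⁅⁅B, B⁆, B⁆ = ⊥) (hBA : ⁅B, B⁆ ≤ A) (hAB : A ≤ Subgroup.normalizer (B : Set G)) (hBnA : ¬ B ≤ Subgroup.normalizer (A : Set G)) : ∃ Astar : Subgroup G, IsMulCommutative Astar ∧ Nat.card Astar = Nat.card A ∧ A ⊓ B < Astar ⊓ B ∧ Astar ≤ Subgroup.normalizer (A : Set G) ∧ Astar ≤ Subgroup.normalClosure (A : Set G) ∧ Monoid.exponent Astar ∣ Monoid.exponent A ∧ Nat.card (Cfsg.omegaOne p A) ≤ Nat.card (Cfsg.omegaOne p Astar) := by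
  set K := A ⊔ B
  have hBn : (B.subgroupOf K).Normal := normal_subgroupOf_iff_le_normalizer le_sup_right |>.mpr
    (sup_le hAB Subgroup.le_normalizer)
  have eA : (A.subgroupOf K).map K.subtype = A := map_subgroupOf_eq_of_le le_sup_left
  have eB : (B.subgroupOf K).map K.subtype = B := map_subgroupOf_eq_of_le le_sup_right
  have hA' : IsMulCommutative (A.subgroupOf K) := Fusion.isMulCommutative_of_forall fun x hx y hy =>
    Subtype.ext (Fusion.commute_of_isMulCommutative hA hx hy)
  have hBA' : ⁅B.subgroupOf K, B.subgroupOf K⁆ ≤ A.subgroupOf K :=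
    (map_le_map_iff_of_injective K.subtype_injective).mp (by rwa [map_commutator, eA, eB])
  have hn : ¬ B.subgroupOf K ≤ Subgroup.normalizer ((A.subgroupOf K : Subgroup K) : Set K) := fun h => by
    refine hBnA ?_
    rw [← eB]
    refine (map_mono h).trans ((le_normalizer_map _).trans (le_of_eq ?_))
    rw [eA]
  obtain ⟨T, hTc, hTcard, hlt, hTN, hTcl, hTexp, hTom⟩ :=
    replace_normal hp (hG.to_subgroup K) _ _ hA' hBA' hn
  have hom : ∀ H : Subgroup K, Nat.card (Cfsg.omegaOne p (H.map K.subtype)) = Nat.card (Cfsg.omegaOne p H) := by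
    intro H
    rw [← card_map_of_injective (K := Cfsg.omegaOne p H) K.subtype_injective]
    suffices e : Cfsg.omegaOne p (H.map K.subtype) = (Cfsg.omegaOne p H).map K.subtype by rw [e]
    rw [Cfsg.omegaOne, Cfsg.omegaOne, MonoidHom.map_closure]
    congr 1
    ext y
    constructor
    · rintro ⟨⟨x, hx, rfl⟩, hxp⟩
      exact ⟨x, ⟨hx, Subtype.ext (by simpa using hxp)⟩, rfl⟩
    · rintro ⟨x, ⟨hx, hxp⟩, rfl⟩
      exact ⟨mem_map_of_mem _ hx, by rw [← map_pow, hxp, map_one]⟩
  refine ⟨T.map K.subtype, ?_, ?_, ?_, ?_, ?_, ?_, ?_⟩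
  · exact Fusion.isMulCommutative_of_forall fun _ hx _ hy => by
      obtain ⟨x, hx, rfl⟩ := hx
      obtain ⟨y, hy, rfl⟩ := hy
      exact (Fusion.commute_of_isMulCommutative hTc hx hy).map _
  · rw [card_map_of_injective K.subtype_injective, hTcard, ← card_map_of_injective K.subtype_injective, eA]
  · rw [← eA, ← eB, ← map_inf _ _ _ K.subtype_injective, ← map_inf _ _ _ K.subtype_injective]
    exact (map_lt_map_iff_of_injective K.subtype_injective).mpr hlt
  · conv_rhs => rw [← eA]
    exact (map_mono hTN).trans (le_normalizer_map _)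
  · refine map_le_iff_le_comap.mpr (hTcl.trans ?_)
    exact normalClosure_le_normal fun x hx => Subgroup.subset_normalClosure hx
  · refine (Monoid.exponent_eq_of_mulEquiv (T.equivMapOfInjective _ K.subtype_injective).symm).dvd.trans
      (hTexp.trans ?_)
    exact (Monoid.exponent_eq_of_mulEquiv (Subgroup.subgroupOfEquivOfLe (le_sup_left : A ≤ K))).dvd
  · conv_lhs => rw [← eA]
    rw [hom, hom]
    exact hTom

end Cfsg.Agent.S3078
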