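import Cfsg.Statements.S3084
import Mathlib
import Cfsg.Agent.LargeExtra.OutExtra
import Cfsg.Agent.LargeExtra.SingularSubgroup
import Cfsg.Agent.Classical.QuadBasis

set_option autoImplicit false
open Cfsg

namespace Cfsg.Agent.S3084

open Cfsg.Agent.LargeExtra QuadraticMap Module
open scoped Matrix

variable {m : ℕ}

/-- The sign character with values in `F₃`. -/
def sg (x : ZMod 2) : ZMod 3 := if x = 0 then 1 else -1

theorem sg_add : ∀ x y : ZMod 2, sg (x + y) = sg x * sg y := by decide
theorem sg_sq : ∀ x : ZMod 2, sg x * sg x = 1 := by decide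
theorem sg_zero : sg 0 = 1 := rfl
theorem sg_inj : ∀ x y : ZMod 2, sg x = sg y → x = y := by decide
theorem sg_unit (x : ZMod 2) : IsUnit (sg x) := IsUnit.of_mul_eq_one _ (sg_sq x)

/-- The space of the representation. -/
def Sp (m : ℕ) := (Fin (m + 1) → ZMod 2) → ZMod 3

instance : AddCommGroup (Sp m) := inferInstanceAs (AddCommGroup ((Fin (m + 1) → ZMod 2) → ZMod 3))

instance : Module (ZMod 3) (Sp m) :=
  inferInstanceAs (Module (ZMod 3) ((Fin (m + 1) → ZMod 2) → ZMod 3))

instance : Finite (Sp m) := inferInstanceAs (Finite ((Fin (m + 1) → ZMod 2) → ZMod 3))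

theorem sp_ext {f g : Sp m} (h : ∀ t, f t = g t) : f = g := funext h

theorem smul_coord (c : ZMod 3) (f : Sp m) (t : Fin (m + 1) → ZMod 2) : (c • f) t = c * f t := rfl

theorem add_coord (f g : Sp m) (t : Fin (m + 1) → ZMod 2) : (f + g) t = f t + g t := rfl

theorem zero_coord (t : Fin (m + 1) → ZMod 2) : (0 : Sp m) t = 0 := rfl

theorem sum_coord {ι : Type*} (s : Finset ι) (f : ι → Sp m) (t : Fin (m + 1) → ZMod 2) :
    (∑ i ∈ s, f i) t = ∑ i ∈ s, f i t :=
  Finset.sum_apply t s (fun i => (f i : (Fin (m + 1) → ZMod 2) → ZMod 3))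

theorem add_self' (t : Fin (m + 1) → ZMod 2) : t + t = 0 := funext fun i => CharTwo.add_self_eq_zero _

/-- The basis vector at `t`. -/
def delta (t : Fin (m + 1) → ZMod 2) : Sp m :=
  (Pi.single t 1 : (Fin (m + 1) → ZMod 2) → ZMod 3)

theorem delta_same (t : Fin (m + 1) → ZMod 2) : delta t t = 1 :=
  Pi.single_eq_same (M := fun _ : Fin (m + 1) → ZMod 2 => ZMod 3) t 1

theorem delta_ne {t s : Fin (m + 1) → ZMod 2} (h : s ≠ t) : delta t s = 0 :=
  Pi.single_eq_of_ne (M := fun _ : Fin (m + 1) → ZMod 2 => ZMod 3) h 1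

theorem expand (f : Sp m) : f = ∑ t, f t • delta t := by
  refine sp_ext fun s => ?_
  rw [sum_coord, Finset.sum_eq_single s]
  · rw [smul_coord, delta_same, mul_one]
  · intro t _ ht
    rw [smul_coord, delta_ne (Ne.symm ht), mul_zero]
  · simp

/-- The operator attached to a vector. -/
def op (u : HV m) : Module.End (ZMod 3) (Sp m) where
  toFun f t := sg (u.1 ⬝ᵥ (t + u.2)) * f (t + u.2)
  map_add' f g := sp_ext fun t => mul_add _ _ _
  map_smul' c f := sp_ext fun t => mul_left_comm _ _ _

theorem op_apply (u : HV m) (f : Sp m) (t : Fin (m + 1) → ZMod 2) :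
    op u f t = sg (u.1 ⬝ᵥ (t + u.2)) * f (t + u.2) := rfl

theorem op_zero : op (0 : HV m) = 1 :=
  LinearMap.ext fun f => sp_ext fun t => by
    rw [op_apply, Module.End.one_apply]; simp [sg_zero]

theorem op_mul (u v : HV m) : op u * op v = sg (hbeta 0 u v) • op (u + v) := by
  refine LinearMap.ext fun f => sp_ext fun t => ?_
  rw [Module.End.mul_apply, LinearMap.smul_apply, smul_coord, op_apply, op_apply, op_apply,
    Prod.fst_add, Prod.snd_add, add_assoc t, ← mul_assoc, ← mul_assoc, ← sg_add, ← sg_add]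
  congr 2
  simp only [hbeta, zero_mul, add_zero, add_dotProduct, dotProduct_add]
  linear_combination -(CharTwo.add_self_eq_zero (u.1 ⬝ᵥ v.2))

theorem op_sq (u : HV m) : op u * op u = sg (hbeta 0 u u) • 1 := by
  rw [op_mul, Heis.dbl, op_zero]

theorem isUnit_op (u : HV m) : IsUnit (op u) := by
  have h : ∀ v : HV m, op v * (sg (hbeta 0 v v) • op v) = 1 ∧ (sg (hbeta 0 v v) • op v) * op v = 1 :=
    fun v => by
      rw [mul_smul_comm, smul_mul_assoc, op_sq, smul_smul, sg_sq, one_smul]
      exact ⟨rfl, rfl⟩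
  exact ⟨⟨op u, _, (h u).1, (h u).2⟩, rfl⟩

theorem op_delta (u : HV m) (t : Fin (m + 1) → ZMod 2) :
    op u (delta t) = sg (u.1 ⬝ᵥ t) • delta (t + u.2) := by
  refine sp_ext fun s => ?_
  rw [op_apply, smul_coord]
  by_cases h : s = t + u.2
  · subst h
    rw [add_assoc, add_self', add_zero, delta_same, delta_same]
  · have : s + u.2 ≠ t := fun e => h (by rw [← e, add_assoc, add_self', add_zero])
    rw [delta_ne h, delta_ne this, mul_zero, mul_zero]

theorem smul_one_inj {c d : ZMod 3}
    (h : c • (1 : Module.End (ZMod 3) (Sp m)) = d • 1) : c = d := by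
  have := congrArg (fun F : Module.End (ZMod 3) (Sp m) => F (delta 0) 0) h
  simpa [smul_coord, delta_same] using this

theorem op_eq_scalar {u : HV m} {c : ZMod 3} (h : op u = c • (1 : Module.End (ZMod 3) (Sp m))) :
    u = 0 := by
  have hd : ∀ t, sg (u.1 ⬝ᵥ t) • delta (t + u.2) = c • delta t := fun t => by
    rw [← op_delta, h]; rfl
  have h2 : u.2 = 0 := by
    by_contra hne
    have := congrArg (fun f : Sp m => f (0 + u.2)) (hd 0)
    simp only [smul_coord, delta_same, delta_ne (show (0 : Fin (m + 1) → ZMod 2) + u.2 ≠ 0 by simpa using hne),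
      mul_one, mul_zero] at this
    exact (sg_unit _).ne_zero this
  have hc : ∀ t, sg (u.1 ⬝ᵥ t) = c := fun t => by
    have := congrArg (fun f : Sp m => f t) (hd t)
    simpa [smul_coord, h2, delta_same] using this
  refine Prod.ext (funext fun i => sg_inj _ _ ?_) h2
  rw [Prod.fst_zero, Pi.zero_apply, sg_zero]
  have := (hc (Pi.single i 1)).trans (hc 0).symm
  simpa [sg_zero] using this

/-- The representation of the extraspecial group. -/
def repHom : Heis m 0 →* Module.End (ZMod 3) (Sp m) where
  toFun x := sg x.s • op x.v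
  map_one' := by
    show sg (0 : ZMod 2) • op (0 : HV m) = 1
    rw [op_zero, sg_zero, one_smul]
  map_mul' x y := by
    rw [smul_mul_smul_comm, op_mul, smul_smul, ← sg_add, ← sg_add, Heis.mul_def]

/-- The representation into units. -/
def rep : Heis m 0 →* (Module.End (ZMod 3) (Sp m))ˣ := repHom.toHomUnits

theorem rep_val (x : Heis m 0) :
    (rep x : Module.End (ZMod 3) (Sp m)) = sg x.s • op x.v := rfl

theorem rep_injective : Function.Injective (rep (m := m)) := by
  refine (injective_iff_map_eq_one _).2 fun x hx => ?_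
  have h : sg x.s • op x.v = 1 := by rw [← rep_val, hx, Units.val_one]
  have h' : op x.v = sg x.s • (1 : Module.End (ZMod 3) (Sp m)) := by
    rw [← h, smul_smul, sg_sq, one_smul]
  have hv := op_eq_scalar h'
  rw [hv, op_zero] at h
  refine Heis.ext hv (sg_inj _ _ (smul_one_inj (m := m) ?_))
  rw [h]
  show 1 = sg 0 • (1 : Module.End (ZMod 3) (Sp m))
  rw [sg_zero, one_smul]

/-- An operator commuting with every `op u` is scalar. -/
theorem eq_smul_one (T : Module.End (ZMod 3) (Sp m)) (h : ∀ u, T * op u = op u * T) :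
    ∃ c : ZMod 3, T = c • (1 : Module.End (ZMod 3) (Sp m)) := by
  set f := T (delta 0) with hf
  have hT : ∀ u : HV m, T (op u (delta 0)) = op u f := fun u => by
    rw [hf, ← Module.End.mul_apply, h, Module.End.mul_apply]
  have hf0 : ∀ t : Fin (m + 1) → ZMod 2, t ≠ 0 → f t = 0 := by
    intro t ht
    obtain ⟨i, hi⟩ := Function.ne_iff.1 ht
    have hi1 : t i = 1 := (show ∀ a : ZMod 2, a ≠ 0 → a = 1 by decide) _ hi
    have h1 := congrArg (fun g : Sp m => g t) (hT (Pi.single i 1, 0))
    simp only [op_delta, dotProduct_zero, sg_zero, one_smul, add_zero, op_apply, ← hf,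
      single_dotProduct, one_mul, hi1] at h1
    exact (show ∀ a : ZMod 3, a = sg 1 * a → a = 0 by decide) _ h1
  refine ⟨f 0, LinearMap.ext fun g => ?_⟩
  have hd : ∀ t, T (delta t) = f 0 • delta t := fun t => by
    have e := hT (0, t)
    rw [op_delta] at e
    simp only [zero_dotProduct, sg_zero, one_smul, zero_add] at e
    rw [e]
    refine sp_ext fun s => ?_
    rw [op_apply, smul_coord]
    simp only [zero_dotProduct, sg_zero, one_mul]
    by_cases hs : s = t
    · subst hs; rw [add_self', delta_same, mul_one]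
    · rw [hf0 _ (fun e' => hs (by rw [← add_zero s, ← add_self' t, ← add_assoc, e', zero_add])),
        delta_ne hs, mul_zero]
  rw [expand g, map_sum, map_sum]
  refine Finset.sum_congr rfl fun t _ => ?_
  rw [map_smul, hd, LinearMap.smul_apply, Module.End.one_apply, smul_comm]

/-- `T` induces `g` on the operators. -/
def Induces (g : HV m →ₗ[ZMod 2] HV m) (T : Module.End (ZMod 3) (Sp m)) : Prop :=
  ∀ u, ∃ σ : ZMod 2, T * op u = sg σ • (op (g u) * T)

theorem induces_one : Induces (m := m) 1 1 := fun u => ⟨0, by simp [sg_zero]⟩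

theorem induces_mul {g h : HV m →ₗ[ZMod 2] HV m} {S T : Module.End (ZMod 3) (Sp m)}
    (hS : Induces g S) (hT : Induces h T) : Induces (g * h) (S * T) := fun u => by
  obtain ⟨τ, hτ⟩ := hT u
  obtain ⟨σ, hσ⟩ := hS (h u)
  refine ⟨τ + σ, ?_⟩
  rw [mul_assoc, hτ, mul_smul_comm, ← mul_assoc, hσ, smul_mul_assoc, smul_smul, ← sg_add,
    mul_assoc]
  rfl

theorem induces_unique {g h : HV m →ₗ[ZMod 2] HV m} {T : (Module.End (ZMod 3) (Sp m))ˣ}
    (hg : Induces g (T : Module.End (ZMod 3) (Sp m))) (hh : Induces h (T : Module.End (ZMod 3) (Sp m))) :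
    g = h := by
  refine LinearMap.ext fun u => ?_
  obtain ⟨σ, hσ⟩ := hg u
  obtain ⟨τ, hτ⟩ := hh u
  rw [hσ, ← smul_mul_assoc, ← smul_mul_assoc] at hτ
  have e := congrArg (fun F => F * op (h u)) (T.isUnit.mul_right_cancel hτ)
  simp only [smul_mul_assoc, op_mul, Heis.dbl, op_zero, smul_smul] at e
  have e2 := congrArg (fun F => (sg σ * sg (hbeta 0 (g u) (h u))) • F) e
  simp only [smul_smul] at e2
  rw [show sg σ * sg (hbeta 0 (g u) (h u)) * (sg σ * sg (hbeta 0 (g u) (h u))) = 1 by
    rw [← sg_add, sg_sq], one_smul] at e2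
  have h0 := op_eq_scalar e2
  rw [← add_zero (g u), ← Heis.dbl (h u), ← add_assoc, h0, zero_add]

theorem induces_rep (x : Heis m 0) : Induces 1 (rep x : Module.End (ZMod 3) (Sp m)) := fun u => by
  refine ⟨hbeta 0 x.v u + hbeta 0 u x.v, ?_⟩
  rw [rep_val, Module.End.one_apply, smul_mul_assoc, mul_smul_comm, smul_comm]
  congr 1
  rw [op_mul, op_mul, add_comm u, smul_smul, ← sg_add, add_assoc, CharTwo.add_self_eq_zero,
    add_zero]

theorem mem_range_of_induces (T : (Module.End (ZMod 3) (Sp m))ˣ)
    (h : Induces 1 (T : Module.End (ZMod 3) (Sp m))) : T ∈ (rep (m := m)).range := by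
  choose σ hσ using h
  simp only [Module.End.one_apply] at hσ
  have hadd : ∀ u v, σ (u + v) = σ u + σ v := by
    intro u v
    have e : (T : Module.End (ZMod 3) (Sp m)) * (op u * op v) =
        sg (σ u + σ v) • ((op u * op v) * T) := by
      rw [← mul_assoc, hσ, smul_mul_assoc, mul_assoc, hσ, mul_smul_comm, smul_smul, ← sg_add,
        mul_assoc]
    rw [op_mul, mul_smul_comm, hσ, smul_mul_assoc, smul_smul, smul_smul, mul_comm (sg (σ u + σ v))]
      at e
    have hu := ((isUnit_op (u + v)).mul T.isUnit)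
    obtain ⟨w, hw⟩ := hu
    rw [← hw] at e
    have e2 := congrArg (fun F => F * ((w⁻¹ : (Module.End (ZMod 3) (Sp m))ˣ) : Module.End (ZMod 3) (Sp m))) e
    simp only [smul_mul_assoc, Units.mul_inv] at e2
    exact sg_inj _ _ ((sg_unit _).mul_left_cancel (smul_one_inj (m := m) e2))
  let φ : HV m →+ ZMod 2 := AddMonoidHom.mk' σ hadd
  let w : HV m := (fun i => φ (0, Pi.single i 1), fun i => φ (Pi.single i 1, 0))
  have hw : ∀ u : HV m, σ u = hB w u := by
    intro u
    let ψ : HV m →+ ZMod 2 := AddMonoidHom.mk' (fun u => hB w u) fun a b => by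
      rw [hB_comm, hB_add_left, hB_comm a, hB_comm b]
    have : φ.toZModLinearMap 2 = ψ.toZModLinearMap 2 := by
      refine LinearMap.prod_ext (LinearMap.pi_ext' fun i => LinearMap.ext_ring ?_)
        (LinearMap.pi_ext' fun i => LinearMap.ext_ring ?_)
      · show φ (Pi.single i 1, 0) = hB w (Pi.single i 1, 0)
        simp [hB, w]
      · show φ (0, Pi.single i 1) = hB w (0, Pi.single i 1)
        simp [hB, w]
    exact congrArg (fun F => F u) this
  have hcomm : ∀ u, ((T : Module.End (ZMod 3) (Sp m)) * op w) * op u =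
      op u * ((T : Module.End (ZMod 3) (Sp m)) * op w) := by
    intro u
    have e : op w * op u = sg (hB w u) • (op u * op w) := by
      rw [op_mul, op_mul, add_comm u, smul_smul, ← sg_add, ← hbeta_symm_add 0, add_assoc,
        CharTwo.add_self_eq_zero, add_zero]
    rw [mul_assoc, e, mul_smul_comm, ← mul_assoc, hσ, hw, smul_mul_assoc, smul_smul, sg_sq,
      one_smul, mul_assoc]
  obtain ⟨c, hc⟩ := eq_smul_one _ hcomm
  have hTw : (T : Module.End (ZMod 3) (Sp m)) = (c * sg (hbeta 0 w w)) • op w := by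
    have := congrArg (fun F => sg (hbeta 0 w w) • (F * op w)) hc
    simp only [mul_assoc, op_sq, mul_smul_comm, mul_one, smul_smul, sg_sq, one_smul,
      smul_mul_assoc, one_mul] at this
    rw [this, mul_comm]
  have hs : ∀ d : ZMod 3, d = 0 ∨ ∃ s, d = sg s := by decide
  rcases hs (c * sg (hbeta 0 w w)) with h0 | ⟨s, hs⟩
  · rw [h0, zero_smul] at hTw
    have h1 : (1 : Module.End (ZMod 3) (Sp m)) = (0 : ZMod 3) • 1 := by
      rw [zero_smul, ← T.mul_inv, hTw, zero_mul]
    exact absurd (smul_one_inj (m := m) (c := 1) (d := 0) (by rwa [one_smul])) (by decide)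
  · exact ⟨⟨w, s⟩, Units.ext (by rw [rep_val, hTw, hs])⟩

/-- Every isometry is induced. -/
theorem exists_induces (g : HV m →ₗ[ZMod 2] HV m) (hg : Function.Injective g)
    (hq : ∀ u, hbeta 0 (g u) (g u) = hbeta 0 u u) :
    ∃ T : (Module.End (ZMod 3) (Sp m))ˣ, Induces g (T : Module.End (ZMod 3) (Sp m)) := by
  let D : LinearMap.BilinMap (ZMod 2) (HV m) (ZMod 2) := LinearMap.mk₂ (ZMod 2)
    (fun x y => hbeta 0 (g x) (g y) + hbeta 0 x y)
    (fun a b y => by simp only [map_add, hbeta_add_left]; ring)
    (fun r a y => by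
      rcases (show ∀ r : ZMod 2, r = 0 ∨ r = 1 by decide) r with rfl | rfl <;>
        simp [Heis.hbeta_zero_left])
    (fun x a b => by simp only [map_add, hbeta_add_right]; ring)
    (fun r x a => by
      rcases (show ∀ r : ZMod 2, r = 0 ∨ r = 1 by decide) r with rfl | rfl <;>
        simp [Heis.hbeta_zero_right])
  have hdiag : ∀ x, D x x = 0 := fun x => by
    show hbeta 0 _ _ + hbeta 0 _ _ = 0
    rw [hq]; exact CharTwo.add_self_eq_zero _
  let bb := Module.finBasis (ZMod 2) (HV m)
  obtain ⟨μ, hμ0, hμ⟩ : ∃ μ : HV m → ZMod 2, μ 0 = 0 ∧ ∀ x y, μ (x + y) = μ x + μ y + D x y := by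
    let U : LinearMap.BilinMap (ZMod 2) (HV m) (ZMod 2) :=
      ∑ i, ∑ j, if i < j then (bb.coord i).smulRight ((D (bb i) (bb j)) • bb.coord j) else 0
    refine ⟨fun x => U x x, by simp, fun x y => ?_⟩
    have hsymm : ∀ a b, D a b = D b a := fun a b => by
      have := hdiag (a + b)
      simp only [map_add, LinearMap.add_apply, hdiag, zero_add, add_zero] at this
      exact (show ∀ p q : ZMod 2, p + q = 0 → q = p by decide) _ _ this
    have key : ∀ k l, U (bb k) (bb l) = if k < l then D (bb k) (bb l) else 0 := by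
      intro k l
      simp only [U, LinearMap.coe_sum, Finset.sum_apply]
      rw [Finset.sum_eq_single k, Finset.sum_eq_single l]
      · split_ifs <;> simp
      · intro b _ hb
        split_ifs <;> simp [Module.Basis.coord_apply, Finsupp.single_apply, hb, Ne.symm hb]
      · simp
      · intro a _ ha
        refine Finset.sum_eq_zero fun b _ => ?_
        split_ifs <;> simp [Module.Basis.coord_apply, Finsupp.single_apply, ha, Ne.symm ha]
      · simp
    have hU : U + U.flip = D := by
      refine bb.ext fun k => bb.ext fun l => ?_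
      simp only [LinearMap.add_apply, LinearMap.flip_apply, key]
      rcases lt_trichotomy k l with h | h | h
      · simp [h, h.not_gt]
      · subst h; simp [hdiag]
      · simp [h, h.not_gt, hsymm (bb k)]
    rw [← hU]
    simp only [map_add, LinearMap.add_apply, LinearMap.flip_apply]
    ring
  let R' : HV m → Module.End (ZMod 3) (Sp m) := fun u => sg (μ u) • op (g u)
  have hR : ∀ u v, R' u * R' v = sg (hbeta 0 u v) • R' (u + v) := by
    intro u v
    simp only [R', smul_mul_smul_comm, op_mul, smul_smul, map_add, ← sg_add, hμ]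
    congr 2
    show _ = _ + (_ + (hbeta 0 (g u) (g v) + hbeta 0 u v))
    linear_combination -(CharTwo.add_self_eq_zero (hbeta 0 u v))
  set E : Module.End (ZMod 3) (Sp m) := ∑ a : Fin (m + 1) → ZMod 2, R' (a, 0) with hE
  have hRE : ∀ a, R' (a, 0) * E = E := by
    intro a
    rw [hE, Finset.mul_sum]
    refine Fintype.sum_equiv (Equiv.addLeft a) _ _ fun b => ?_
    rw [hR, show hbeta 0 ((a, 0) : HV m) (b, 0) = 0 by simp [hbeta], sg_zero, one_smul]
    simp
  have hE0 : E ≠ 0 := by
    intro h0
    let tr : Module.End (ZMod 3) (Sp m) →+ ZMod 3 :=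
      AddMonoidHom.mk' (fun F => ∑ t, F (delta t) t) fun F G => by
        simp [add_coord, Finset.sum_add_distrib]
    have hscal : ∀ (c : ZMod 3) (F : Module.End (ZMod 3) (Sp m)), tr (c • F) = c * tr F := by
      intro c F
      show ∑ t, (c • F) (delta t) t = c * ∑ t, F (delta t) t
      rw [Finset.mul_sum]
      rfl
    have htr : ∀ u : HV m, u ≠ 0 → tr (op u) = 0 := by
      intro u hu
      show ∑ t, op u (delta t) t = 0
      simp only [op_delta, smul_coord]
      by_cases h2 : u.2 = 0
      · simp only [h2, add_zero, delta_same, mul_one]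
        obtain ⟨i, hi⟩ := Function.ne_iff.1 (fun e => hu (Prod.ext e h2) : u.1 ≠ 0)
        have hi1 : u.1 i = 1 := (show ∀ a : ZMod 2, a ≠ 0 → a = 1 by decide) _ hi
        have e := Equiv.sum_comp (Equiv.addRight (Pi.single i 1 : Fin (m + 1) → ZMod 2))
          (fun t => sg (u.1 ⬝ᵥ t))
        simp only [Equiv.coe_addRight, dotProduct_add, dotProduct_single, mul_one, hi1, sg_add,
          ← Finset.sum_mul] at e
        exact (show ∀ S : ZMod 3, S * sg 1 = S → S = 0 by decide) _ e
      · refine Finset.sum_eq_zero fun t _ => ?_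
        rw [delta_ne (fun e => h2 (by simpa using e.symm)), mul_zero]
    have h1 := congrArg tr h0
    rw [hE, map_sum, map_zero, Finset.sum_eq_single (0 : Fin (m + 1) → ZMod 2)] at h1
    · simp only [R', hscal, Prod.mk_zero_zero, map_zero, hμ0, sg_zero, one_mul, op_zero] at h1
      change ∑ t : Fin (m + 1) → ZMod 2, delta t t = 0 at h1
      simp only [delta_same, Finset.sum_const, Finset.card_univ, Fintype.card_fun, ZMod.card,
        Fintype.card_fin, nsmul_eq_mul, mul_one, Nat.cast_pow, Nat.cast_ofNat] at h1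
      exact pow_ne_zero _ (by decide : (2 : ZMod 3) ≠ 0) h1
    · intro a _ ha
      show tr (sg _ • op _) = 0
      rw [hscal, htr _ (fun e => ha (congrArg Prod.fst (hg (e.trans g.map_zero.symm)))), mul_zero]
    · simp
  obtain ⟨f₀, hf₀⟩ : ∃ f₀, E f₀ ≠ 0 := by
    by_contra hc
    push Not at hc
    exact hE0 (LinearMap.ext hc)
  set v₀ := E f₀ with hv₀
  have hfix : ∀ a, R' (a, 0) v₀ = v₀ := fun a => by
    rw [hv₀, ← Module.End.mul_apply, hRE]
  let T : Module.End (ZMod 3) (Sp m) :=
    { toFun := fun f => ∑ t, f t • R' (0, t) v₀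
      map_add' := fun f h => by simp [add_coord, add_smul, Finset.sum_add_distrib]
      map_smul' := fun c f => by simp [smul_coord, Finset.smul_sum, smul_smul] }
  have hTd : ∀ t, T (delta t) = R' (0, t) v₀ := fun t => by
    show ∑ s, delta t s • R' (0, s) v₀ = _
    rw [Finset.sum_eq_single t]
    · rw [delta_same, one_smul]
    · intro s _ hs; rw [delta_ne hs, zero_smul]
    · simp
  have hint : ∀ u, T * op u = R' u * T := by
    intro u
    refine LinearMap.ext fun f => ?_
    rw [expand f, map_sum, map_sum]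
    refine Finset.sum_congr rfl fun t _ => ?_
    rw [map_smul, map_smul]
    congr 1
    rw [Module.End.mul_apply, Module.End.mul_apply, op_delta, map_smul, hTd, hTd]
    have e1 : R' u * R' (0, t) = sg (u.1 ⬝ᵥ t) • (R' (0, t + u.2) * R' (u.1, 0)) := by
      rw [hR, hR, show hbeta 0 ((0, t + u.2) : HV m) (u.1, 0) = 0 by simp [hbeta],
        sg_zero, one_smul, show hbeta 0 u (0, t) = u.1 ⬝ᵥ t by simp [hbeta]]
      congr 2
      refine Prod.ext ?_ ?_ <;> simp [add_comm]
    rw [← Module.End.mul_apply (R' u) (R' (0, t)) v₀, e1]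
    show _ = sg (u.1 ⬝ᵥ t) • R' (0, t + u.2) (R' (u.1, 0) v₀)
    rw [hfix]
  have hTi : Function.Injective T := by
    refine (injective_iff_map_eq_zero T).2 fun f hf => sp_ext fun t₀ => ?_
    rw [zero_coord]
    by_contra hne
    have hker : ∀ u, T (op u f) = 0 := fun u => by
      rw [← Module.End.mul_apply, hint, Module.End.mul_apply, hf, map_zero]
    have hproj : ∑ a : Fin (m + 1) → ZMod 2, sg (a ⬝ᵥ t₀) • op ((a, 0) : HV m) f =
        (((2 : ZMod 3) ^ (m + 1)) * f t₀) • delta t₀ := by
      refine sp_ext fun s => ?_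
      simp only [sum_coord, smul_coord, op_apply, add_zero, ← mul_assoc, ← sg_add, ← dotProduct_add]
      by_cases hs : s = t₀
      · subst hs
        simp only [add_self', dotProduct_zero, sg_zero, one_mul, delta_same, mul_one,
          Finset.sum_const, Finset.card_univ, Fintype.card_fun, ZMod.card, Fintype.card_fin,
          nsmul_eq_mul, Nat.cast_pow, Nat.cast_ofNat]
      · rw [delta_ne hs, mul_zero, ← Finset.sum_mul]
        obtain ⟨i, hi⟩ := Function.ne_iff.1 (fun e => hs (by
          rw [← add_zero s, ← e, ← add_assoc, add_comm s t₀, add_assoc, add_self', add_zero]) : t₀ + s ≠ 0)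
        have hi1 : (t₀ + s) i = 1 := (show ∀ a : ZMod 2, a ≠ 0 → a = 1 by decide) _ hi
        have e := Equiv.sum_comp (Equiv.addRight (Pi.single i 1 : Fin (m + 1) → ZMod 2))
          (fun a => sg (a ⬝ᵥ (t₀ + s)))
        simp only [Equiv.coe_addRight, add_dotProduct, single_dotProduct, one_mul, hi1, sg_add,
          ← Finset.sum_mul] at e
        rw [(show ∀ S : ZMod 3, S * sg 1 = S → S = 0 by decide) _ e, zero_mul]
    have h1 := congrArg T hproj
    simp only [map_sum, map_smul, hker, smul_zero, Finset.sum_const_zero, hTd] at h1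
    have hc : (2 : ZMod 3) ^ (m + 1) * f t₀ ≠ 0 :=
      mul_ne_zero (pow_ne_zero _ (by decide)) hne
    have h2 : R' (0, t₀) v₀ = 0 := (smul_eq_zero_iff_right hc).1 h1.symm
    obtain ⟨w, hw⟩ := isUnit_op (g (0, t₀))
    have h3 : op (g ((0, t₀) : HV m)) v₀ = 0 := by
      have := congrArg (fun x => sg (μ (0, t₀)) • x) h2
      simpa [R', smul_smul, sg_sq] using this
    apply hf₀
    have h4 := congrArg ((w⁻¹ : (Module.End (ZMod 3) (Sp m))ˣ) : Module.End (ZMod 3) (Sp m)) h3
    rwa [map_zero, ← hw, ← Module.End.mul_apply, Units.inv_mul, Module.End.one_apply] at h4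
  have hTu : IsUnit T := (Module.End.isUnit_iff T).2 ⟨hTi, Finite.injective_iff_surjective.1 hTi⟩
  exact ⟨hTu.unit, fun u => ⟨μ u, by rw [hTu.unit_spec, hint, smul_mul_assoc]⟩⟩

/-- Let K be a group acting faithfully and linearly on a finite-dimensional vector space U of dimension 2n ≥ 2 over the field with two elements, preserving a quadratic form q whose polar bilinear form is non-degenerate and which vanishes on some n-dimensional subspace (a non-singular form of plus type). Then there is a finite group R with a normal extraspecial 2-subgroup Q of order 2^(2n+1), an isomorphism of R/Q with K, and a surjective homomorphism χ from Q onto (the additive group of) U with kernel the centre of Q, such that χ carries conjugation by any r in R to the action of the image of r in K, and an element a of Q squares to the identity exactly when q vanishes at χ(a). -/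
theorem result {K : Type*} [Group K] {U : Type*} [AddCommGroup U] [Module (ZMod 2) U] [Module.Finite (ZMod 2) U] (n : ℕ) (hn1 : 1 ≤ n) (hn : Module.finrank (ZMod 2) U = 2 * n) (ρ : Representation (ZMod 2) K U) (hρ : Function.Injective ρ) (q : QuadraticForm (ZMod 2) U) (hq : ∀ (k : K) (u : U), q (ρ k u) = q u) (hnd : (QuadraticMap.polarBilin q).Nondegenerate) (hplus : ∃ W : Submodule (ZMod 2) U, Module.finrank (ZMod 2) ↥W = n ∧ ∀ w ∈ W, q w = 0) : ∃ (R : Type) (_ : Group R) (_ : Finite R) (Q : Subgroup R) (hN : Q.Normal) (e : R ⧸ Q ≃* K) (χ : ↥Q →* Multiplicative U), Cfsg.IsExtraspecial 2 ↥Q ∧ Nat.card ↥Q = 2 ^ (2 * n + 1) ∧ Function.Surjective χ ∧ χ.ker = Subgroup.center ↥Q ∧ (∀ (r : R) (a : ↥Q), χ ⟨r * a * r⁻¹, hN.conj_mem (a : R) a.2 r⟩ = Multiplicative.ofAdd (ρ (e (r : R ⧸ Q)) (Multiplicative.toAdd (χ a)))) ∧ ∀ a : ↥Q, a * a = 1 ↔ q (Multiplicative.toAdd (χ a)) = 0 := by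
  obtain ⟨m, rfl⟩ : ∃ m, n = m + 1 := ⟨n - 1, by omega⟩
  obtain ⟨W, hW, hW0⟩ := hplus
  haveI := FiniteDimensional.of_finrank_eq_succ (show Module.finrank (ZMod 2) U = (2 * m + 1) + 1 by omega)
  obtain ⟨e, he⟩ : ∃ e : U ≃ₗ[ZMod 2] HV m, ∀ u, q u = hbeta 0 (e u) (e u) := by
    rcases Classical.Quad.even_cases hnd hn with ⟨ε, hε⟩ | ⟨-, h⟩
    · let π₀ : (HV m × (Fin 0 → ZMod 2)) ≃ₗ[ZMod 2] HV m :=
        { toFun := Prod.fst
          map_add' := fun _ _ => rfl
          map_smul' := fun _ _ => rfl
          invFun := fun v => (v, 0)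
          left_inv := fun v => Prod.ext rfl (Subsingleton.elim _ _)
          right_inv := fun _ => rfl }
      refine ⟨ε.symm.trans π₀, fun u => ?_⟩
      conv_lhs => rw [← ε.apply_symm_apply u, hε, Classical.Quad.hyp_apply]
      simp [Classical.Quad.zeroForm, hbeta, dotProduct, π₀]
    · exfalso
      obtain ⟨ζ, hζ⟩ := Classical.Quad.exists_rootfree (F := ZMod 2)
      have han := Classical.Quad.rootfree_aniso hζ
      obtain ⟨ε, hε⟩ := h _ _ han
      have hle := Classical.Quad.aniso_index (Classical.Quad.nondeg_binForm han)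
        (fun _ h => by_contra fun hz => Classical.Quad.binForm_ne_zero han hz h) _
        (W.map ε.symm.toLinearMap) (by
          rintro _ ⟨x, hx, rfl⟩
          rw [LinearEquiv.coe_coe, ← hε, ε.apply_symm_apply]
          exact hW0 x hx)
      rw [LinearEquiv.finrank_map_eq, hW] at hle
      omega
  let κ : K →* Module.End (ZMod 2) (HV m) :=
    { toFun := fun k => e.toLinearMap ∘ₗ (ρ k) ∘ₗ e.symm.toLinearMap
      map_one' := LinearMap.ext fun x => by simp [map_one]
      map_mul' := fun a b => LinearMap.ext fun x => by simp [map_mul] }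
  have hκi : Function.Injective κ := fun a b h => hρ (LinearMap.ext fun u => e.injective (by
    have := congrArg (fun F => F (e u)) h
    simpa [κ] using this))
  have hκu : ∀ k, Function.Injective (κ k) := fun k x y h => by
    have := congrArg (κ k⁻¹) h
    rwa [← Module.End.mul_apply, ← Module.End.mul_apply, ← map_mul, inv_mul_cancel, map_one,
      Module.End.one_apply, Module.End.one_apply] at this
  have hκq : ∀ k x, hbeta 0 (κ k x) (κ k x) = hbeta 0 x x := fun k x => by
    have h1 := he (ρ k (e.symm x))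
    rw [hq, he, e.apply_symm_apply] at h1
    exact h1.symm
  haveI : Finite (Module.End (ZMod 3) (Sp m)) := Finite.of_injective _ DFunLike.coe_injective
  haveI : Finite (Module.End (ZMod 3) (Sp m))ˣ := Finite.of_injective _ Units.val_injective
  let R : Subgroup (Module.End (ZMod 3) (Sp m))ˣ :=
    { carrier := {T | ∃ k : K, Induces (κ k) (T : Module.End (ZMod 3) (Sp m))}
      one_mem' := ⟨1, by rw [map_one]; exact induces_one⟩
      mul_mem' := fun ⟨a, ha⟩ ⟨b, hb⟩ => ⟨a * b, by rw [map_mul]; exact induces_mul ha hb⟩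
      inv_mem' := fun {T} ⟨a, ha⟩ => by
        obtain ⟨S, hS⟩ := exists_induces (κ a⁻¹) (hκu _) (hκq _)
        have h1 := induces_mul ha hS
        rw [← map_mul, mul_inv_cancel, map_one, ← Units.val_mul] at h1
        obtain ⟨x, hx⟩ := mem_range_of_induces _ h1
        refine ⟨a⁻¹, ?_⟩
        have : T⁻¹ = S * (rep x)⁻¹ := by rw [hx]; group
        rw [this, ← map_inv, Units.val_mul, ← mul_one (κ a⁻¹)]
        exact induces_mul hS (induces_rep _) }
  choose sec hsec using fun r : R => (r.2 : ∃ k : K, Induces (κ k) ((r : (Module.End (ZMod 3) (Sp m))ˣ) : Module.End (ZMod 3) (Sp m)))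
  let π : R →* K := MonoidHom.mk' sec fun a b => hκi (induces_unique (hsec (a * b)) (by
    rw [map_mul]; exact induces_mul (hsec a) (hsec b)))
  have hπs : Function.Surjective π := fun k => by
    obtain ⟨T, hT⟩ := exists_induces (κ k) (hκu _) (hκq _)
    exact ⟨⟨T, k, hT⟩, hκi (induces_unique (hsec _) hT)⟩
  let j : Heis m 0 →* R := rep.codRestrict R fun x => ⟨1, by rw [map_one]; exact induces_rep x⟩
  have hji : Function.Injective j := fun a b h => rep_injective (congrArg Subtype.val h)
  have hker : π.ker = j.range := by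
    ext r
    constructor
    · intro hr
      have h := hsec r
      rw [show sec r = 1 from hr, map_one] at h
      obtain ⟨x, hx⟩ := mem_range_of_induces _ h
      exact ⟨x, Subtype.ext hx⟩
    · rintro ⟨x, rfl⟩
      exact hκi (induces_unique (hsec (j x)) (by rw [map_one]; exact induces_rep x))
  haveI hN : j.range.Normal := hker ▸ π.normal_ker
  let η : Heis m 0 ≃* j.range := MonoidHom.ofInjective hji
  let vh : Heis m 0 →* Multiplicative U :=
    MonoidHom.mk' (fun x => Multiplicative.ofAdd (e.symm x.v)) fun x y => by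
      rw [← ofAdd_add, ← map_add]; rfl
  let χ : j.range →* Multiplicative U := vh.comp η.symm.toMonoidHom
  have hχ : ∀ x, χ (η x) = Multiplicative.ofAdd (e.symm x.v) := fun x => by
    show vh (η.symm (η x)) = _
    rw [η.symm_apply_apply]
    rfl
  refine ⟨R, inferInstance, inferInstance, j.range, hN,
    (QuotientGroup.quotientMulEquivOfEq hker.symm).trans
      (QuotientGroup.quotientKerEquivOfSurjective π hπs), χ,
    LargeExtra.extraspecial_congr η Heis.extraspecial, ?_, ?_, ?_, ?_, ?_⟩
  · rw [← Nat.card_congr η.toEquiv, Heis.card]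
  · intro u
    refine ⟨η ⟨e (Multiplicative.toAdd u), 0⟩, ?_⟩
    rw [hχ]
    simp
  · ext y
    obtain ⟨x, rfl⟩ := η.surjective y
    rw [MonoidHom.mem_ker, hχ, Subgroup.mem_center_iff]
    constructor
    · intro h g
      obtain ⟨y, rfl⟩ := η.surjective g
      have hv : x.v = 0 := by
        have h' := congrArg (fun a => e (Multiplicative.toAdd a)) h
        simpa using h'
      rw [← map_mul, ← map_mul, (Heis.comm_iff y x).2 (by rw [hv]; simp [hB])]
    · intro h
      have hv : x.v = 0 := hB_nondeg fun w => by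
        have := h (η ⟨w, 0⟩)
        rw [← map_mul, ← map_mul] at this
        rw [hB_comm]
        exact (Heis.comm_iff _ _).1 (η.injective this)
      rw [hv, map_zero]; rfl
  · intro r a
    obtain ⟨x, rfl⟩ := η.surjective a
    obtain ⟨y, hy⟩ := η.surjective ⟨r * (η x : R) * r⁻¹, hN.conj_mem _ (η x).2 r⟩
    rw [← hy, hχ, hχ, toAdd_ofAdd, ← e.symm_apply_apply (ρ _ _)]
    congr 2
    -- compare the operators
    have hy' : (rep y : Module.End (ZMod 3) (Sp m)) * (r.1 : Module.End (ZMod 3) (Sp m)) =
        (r.1 : Module.End (ZMod 3) (Sp m)) * rep x := by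
      have h1 := congrArg (fun z : j.range => (z : R)) hy
      have h2 : (j y : R) * r = r * j x := by
        rw [show (j y : R) = _ from h1]
        group
        rfl
      exact congrArg (fun z : R => (z.1 : Module.End (ZMod 3) (Sp m))) h2
    obtain ⟨σ, hσ⟩ := hsec r x.v
    rw [rep_val, rep_val, smul_mul_assoc, mul_smul_comm, hσ, smul_smul, ← smul_mul_assoc,
      ← smul_mul_assoc] at hy'
    have h3 := congrArg (fun F => F * op (κ (sec r) x.v)) (r.1.isUnit.mul_right_cancel hy')
    simp only [smul_mul_assoc, op_mul, Heis.dbl, op_zero, smul_smul] at h3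
    have e2 := congrArg (fun F => (sg y.s * sg (hbeta 0 y.v (κ (sec r) x.v))) • F) h3
    simp only [smul_smul] at e2
    rw [show sg y.s * sg (hbeta 0 y.v (κ (sec r) x.v)) * (sg y.s * sg (hbeta 0 y.v (κ (sec r) x.v))) = 1
      by rw [← sg_add, sg_sq], one_smul] at e2
    have h0 := op_eq_scalar e2
    rw [← add_zero y.v, ← Heis.dbl (κ (sec r) x.v), ← add_assoc, h0, zero_add]
    rfl
  · intro a
    obtain ⟨x, rfl⟩ := η.surjective a
    rw [hχ, toAdd_ofAdd, he, e.apply_symm_apply, ← map_mul, EmbeddingLike.map_eq_one_iff,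
      Heis.sq_eq, Heis.one_def, Heis.ext_iff]
    simp

end Cfsg.Agent.S3084
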