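import Cfsg.Statements.S3085
import Cfsg.Agent.Fusion.Extraspecial

set_option autoImplicit false
open Cfsg

namespace Cfsg.Agent.S3085

open scoped commutatorElement

variable {Q : Type*} [Group Q]

/-- A bit power. -/
def pw (g : Q) (b : Bool) : Q := if b then g else 1

@[simp] theorem pw_true (g : Q) : pw g true = g := rfl
@[simp] theorem pw_false (g : Q) : pw g false = 1 := rfl

open Classical in
/-- Whether two elements fail to commute. -/
noncomputable def nc (u x : Q) : Bool := decide (u * x ≠ x * u)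

theorem mul_mid_cancel {g : Q} (hg : g * g = 1) (x : Q) : g * (g * x) = x := by
  rw [← mul_assoc, hg, one_mul]

/-- The data: a central involution containing all commutators. -/
structure Ctx (z : Q) : Prop where
  sq : z * z = 1
  ne : z ≠ 1
  central : ∀ x : Q, z * x = x * z
  comm : ∀ x y : Q, x * y = y * x ∨ x * y = y * x * z

variable {z : Q} (h : Ctx z)

theorem nc_eq_false {u x : Q} : nc u x = false ↔ u * x = x * u := by
  classical
  simp [nc]

include h in
theorem swap (u x : Q) : u * x = x * u * pw z (nc u x) := by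
  classical
  rcases h.comm u x with e | e
  · rw [nc_eq_false.2 e, pw_false, mul_one, e]
  · have hne : u * x ≠ x * u := fun e' => h.ne (by rw [e'] at e; exact mul_eq_left.1 e.symm)
    rw [show nc u x = true by simp [nc, hne], pw_true, ← e]

include h in
theorem pw_zz (a b : Bool) : pw z a * pw z b = pw z (a ^^ b) := by
  cases a <;> cases b <;> simp [h.sq]

include h in
theorem pw_z_inj {a b : Bool} (e : pw z a = pw z b) : a = b := by
  cases a <;> cases b <;> simp_all [h.ne, Ne.symm h.ne]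

include h in
theorem pw_z_central (a : Bool) (x : Q) : pw z a * x = x * pw z a := by
  cases a <;> simp [h.central x]

include h in
theorem nc_mul (u x y : Q) : nc u (x * y) = (nc u x ^^ nc u y) := by
  apply pw_z_inj h
  apply mul_left_cancel (a := x * y * u)
  rw [← swap h]
  calc u * (x * y) = (u * x) * y := (mul_assoc _ _ _).symm
    _ = x * u * (pw z (nc u x) * y) := by rw [swap h u x, mul_assoc]
    _ = x * u * (y * pw z (nc u x)) := by rw [pw_z_central h]
    _ = x * (u * y) * pw z (nc u x) := by simp only [mul_assoc]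
    _ = x * (y * u * pw z (nc u y)) * pw z (nc u x) := by rw [swap h u y]
    _ = x * y * u * (pw z (nc u y) * pw z (nc u x)) := by simp only [mul_assoc]
    _ = x * y * u * pw z (nc u x ^^ nc u y) := by rw [pw_zz h, Bool.xor_comm]

theorem nc_comm (u x : Q) : nc u x = nc x u := by
  classical
  simp [nc, eq_comm]

theorem nc_self (u : Q) : nc u u = false := nc_eq_false.2 rfl

theorem nc_one (u : Q) : nc u 1 = false := nc_eq_false.2 (by simp)

include h in
theorem nc_z (u : Q) : nc u z = false := nc_eq_false.2 (h.central u).symm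

include h in
theorem nc_pw (u g : Q) (b : Bool) : nc u (pw g b) = (b && nc u g) := by
  cases b <;> simp [nc_one]

include h in
theorem pw_swap (g y : Q) (a : Bool) : pw g a * y = y * pw g a * pw z (a && nc g y) := by
  cases a
  · simp
  · simpa using swap h g y

theorem pw_pw {g : Q} (hg : g * g = 1) (a b : Bool) : pw g a * pw g b = pw g (a ^^ b) := by
  cases a <;> cases b <;> simp [hg]

/-- The transvection attached to an element of order four. -/
noncomputable def tau {u : Q} (hu : u * u = z) : Q →* Q :=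
  MonoidHom.mk' (fun x => x * pw u (nc u x)) fun x y => by
    rw [nc_mul h]
    have e1 : x * pw u (nc u x) * (y * pw u (nc u y))
        = x * y * (pw u (nc u x) * pw u (nc u y) * pw z (nc u x && nc u y)) := by
      calc x * pw u (nc u x) * (y * pw u (nc u y)) = x * (pw u (nc u x) * y) * pw u (nc u y) := by
            simp only [mul_assoc]
        _ = x * (y * pw u (nc u x) * pw z (nc u x && nc u y)) * pw u (nc u y) := by rw [pw_swap h u y]
        _ = x * y * pw u (nc u x) * (pw z (nc u x && nc u y) * pw u (nc u y)) := by simp only [mul_assoc]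
        _ = _ := by rw [pw_z_central h]; simp only [mul_assoc]
    show x * y * pw u (nc u x ^^ nc u y) = x * pw u (nc u x) * (y * pw u (nc u y))
    rw [e1]
    cases nc u x <;> cases nc u y <;> simp [hu, h.sq]

/-- The Siegel transformation attached to two commuting involutions. -/
noncomputable def sig {r s : Q} (hr : r * r = 1) (hs : s * s = 1) (hrs : r * s = s * r) : Q →* Q :=
  MonoidHom.mk' (fun x => x * (pw r (nc s x) * pw s (nc r x) * pw z (nc s x && nc r x))) fun x y => by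
    show x * y * (pw r (nc s (x * y)) * pw s (nc r (x * y)) * pw z (nc s (x * y) && nc r (x * y))) = _
    rw [nc_mul h, nc_mul h]
    set a := nc s x
    set b := nc r x
    set c := nc s y with hc
    set d := nc r y with hd
    have e1 : pw s b * y = y * pw s b * pw z (b && c) := pw_swap h s y b
    have e2 : pw r a * y = y * pw r a * pw z (a && d) := pw_swap h r y a
    have e3 : pw s b * pw r c = pw r c * pw s b := by cases b <;> cases c <;> simp [hrs]
    symm
    calc x * (pw r a * pw s b * pw z (a && b)) * (y * (pw r c * pw s d * pw z (c && d)))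
        = x * (pw r a * pw s b) * (pw z (a && b) * y) * (pw r c * pw s d * pw z (c && d)) := by
          simp only [mul_assoc]
      _ = x * pw r a * (pw s b * y) * (pw z (a && b) * (pw r c * pw s d)) * pw z (c && d) := by
          rw [pw_z_central h (a && b) y]; simp only [mul_assoc]
      _ = x * (pw r a * y) * pw s b * (pw z (b && c) * (pw r c * pw s d)) * (pw z (a && b) * pw z (c && d)) := by
          rw [e1, pw_z_central h (a && b) (pw r c * pw s d)]; simp only [mul_assoc]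
      _ = x * y * pw r a * (pw z (a && d) * (pw s b * pw r c * pw s d)) *
            (pw z (b && c) * pw z (a && b) * pw z (c && d)) := by
          rw [e2, pw_z_central h (b && c) (pw r c * pw s d)]; simp only [mul_assoc]
      _ = x * y * ((pw r a * pw r c) * (pw s b * pw s d)) *
            (pw z (a && d) * pw z (b && c) * pw z (a && b) * pw z (c && d)) := by
          rw [pw_z_central h (a && d), e3]; simp only [mul_assoc]
      _ = _ := by
          rw [pw_pw hr, pw_pw hs, pw_zz h, pw_zz h, pw_zz h]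
          simp only [mul_assoc]
          congr 5
          cases a <;> cases b <;> cases c <;> cases d <;> rfl

include h in
theorem tau_apply {u : Q} (hu : u * u = z) (x : Q) : tau h hu x = x * pw u (nc u x) := rfl

include h in
theorem sig_apply {r s : Q} (hr : r * r = 1) (hs : s * s = 1) (hrs : r * s = s * r) (x : Q) :
    sig h hr hs hrs x = x * (pw r (nc s x) * pw s (nc r x) * pw z (nc s x && nc r x)) := rfl

variable [Finite Q]

theorem tau_bijective {u : Q} (hu : u * u = z) : Function.Bijective (tau h hu) := by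
  have hi : Function.Injective (tau h hu) := by
    refine (injective_iff_map_eq_one _).2 fun x hx => ?_
    rw [tau_apply] at hx
    have hx' : x = (pw u (nc u x))⁻¹ := eq_inv_of_mul_eq_one_left hx
    have h0 : nc u x = false := by
      rw [nc_eq_false, hx']
      cases nc u x <;> simp
    rw [h0] at hx
    simpa using hx
  exact Finite.injective_iff_bijective.1 hi

theorem sig_bijective {r s : Q} (hr : r * r = 1) (hs : s * s = 1) (hrs : r * s = s * r) :
    Function.Bijective (sig h hr hs hrs) := by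
  have hi : Function.Injective (sig h hr hs hrs) := by
    refine (injective_iff_map_eq_one _).2 fun x hx => ?_
    rw [sig_apply] at hx
    set g := pw r (nc s x) * pw s (nc r x) * pw z (nc s x && nc r x) with hg
    have hxg : x * g = 1 := hx
    have key : ∀ w : Q, nc w g = false → nc w x = false := by
      intro w hw
      have := nc_mul h w x g
      rw [hxg, nc_one, hw] at this
      simpa using this.symm
    have hsr : nc r s = false := nc_eq_false.2 hrs
    have hrs' : nc s r = false := nc_eq_false.2 hrs.symm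
    have h1 : nc s x = false := key s (by simp [hg, nc_mul h, nc_pw h, nc_self, hrs', nc_z h])
    have h2 : nc r x = false := key r (by simp [hg, nc_mul h, nc_pw h, nc_self, hsr, nc_z h])
    rw [hg, h1, h2] at hxg
    simpa using hxg
  exact Finite.injective_iff_bijective.1 hi

omit [Finite Q] in
include h in
/-- The automorphisms in a complement of the inner automorphisms. -/
theorem exists_lift {L : Subgroup (MulAut Q)} (hL : (Cfsg.Inn Q).IsComplement' L) (f : MulAut Q) :
    ∃ φ ∈ L, ∀ x, ∃ k, φ x = f x * pw z k := by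
  obtain ⟨⟨⟨c, hc⟩, φ⟩, hφ⟩ := (hL.2 f)
  obtain ⟨e, rfl⟩ := hc
  refine ⟨φ, φ.2, fun x => ⟨nc e ((φ : MulAut Q) x), ?_⟩⟩
  have hfx : f x = e * (φ : MulAut Q) x * e⁻¹ := by rw [← hφ]; rfl
  rw [hfx, swap h e]
  have := pw_z_central h (nc e ((φ : MulAut Q) x)) e⁻¹
  rw [mul_assoc _ (pw z _), this, ← mul_assoc, mul_inv_cancel_right, mul_assoc, pw_zz h, Bool.xor_self,
    pw_false, mul_one]

include h in
/-- Two elements of a complement agreeing modulo the centre are equal. -/
theorem eq_of_agree (hQ : Cfsg.IsExtraspecial 2 Q) (hzc : ∀ w ∈ Subgroup.center Q, w = 1 ∨ w = z)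
    {L : Subgroup (MulAut Q)} (hL : (Cfsg.Inn Q).IsComplement' L) {f g : MulAut Q} (hf : f ∈ L)
    (hg : g ∈ L) (hag : ∀ x, ∃ k, f x = g x * pw z k) : f = g := by
  have hzZ : z ∈ Subgroup.center Q := Subgroup.mem_center_iff.2 fun x => (h.central x).symm
  have hfz : ∀ k : MulAut Q, k z = z := fun k => by
    rcases hzc (k z) (Subgroup.mem_center_iff.2 fun x => by
      obtain ⟨y, rfl⟩ := k.surjective x
      rw [← map_mul, ← map_mul, Subgroup.mem_center_iff.1 hzZ y]) with e | e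
    · exact absurd (k.injective (e.trans (map_one k).symm)) h.ne
    · exact e
  set m := g⁻¹ * f with hm
  have hmx : ∀ x, ∃ k, m x = x * pw z k := fun x => by
    obtain ⟨k, hk⟩ := hag x
    refine ⟨k, ?_⟩
    show g⁻¹ (f x) = _
    rw [hk, map_mul]
    congr 1
    · exact g.symm_apply_apply x
    · cases k
      · simp
      · exact hfz g⁻¹
  let d : Q →* Q := MonoidHom.mk' (fun x => x⁻¹ * m x) fun x y => by
    obtain ⟨k, hk⟩ := hmx x
    obtain ⟨l, hl⟩ := hmx y
    rw [map_mul, hk, hl, inv_mul_cancel_left, inv_mul_cancel_left]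
    calc (x * y)⁻¹ * (x * pw z k * (y * pw z l)) = (x * y)⁻¹ * (x * (pw z k * y) * pw z l) := by
          simp only [mul_assoc]
      _ = (x * y)⁻¹ * (x * (y * pw z k) * pw z l) := by rw [pw_z_central h]
      _ = pw z k * pw z l := by group
  have hdc : ∀ x, d x ∈ Subgroup.center Q := fun x => by
    obtain ⟨k, hk⟩ := hmx x
    show x⁻¹ * m x ∈ _
    rw [hk, inv_mul_cancel_left]
    cases k
    · simp
    · exact hzZ
  have hdZ : ∀ w ∈ Subgroup.center Q, d w = 1 := fun w hw => by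
    show w⁻¹ * m w = 1
    rcases hzc w hw with rfl | rfl
    · simp
    · rw [hfz m, inv_mul_cancel]
  obtain ⟨e, -, he⟩ := Fusion.es_hom_eq_commutator hQ d hdc hdZ ⊤ le_top Fusion.es_top_nondeg
  have hconj : m = MulAut.conj e := by
    apply MulEquiv.ext
    intro x
    have h1 : x⁻¹ * m x = ⁅e, x⁆ := he x (Subgroup.mem_top x)
    have h2 : ⁅e, x⁆ ∈ Subgroup.center Q := by rw [← h1]; exact hdc x
    calc m x = x * ⁅e, x⁆ := by rw [← h1, mul_inv_cancel_left]
      _ = ⁅e, x⁆ * x := Subgroup.mem_center_iff.1 h2 x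
      _ = e * x * e⁻¹ := by rw [commutatorElement_def, inv_mul_cancel_right]
  have hmL : m ∈ L := L.mul_mem (L.inv_mem hg) hf
  have h1 : m ∈ Cfsg.Inn Q ⊓ L := Subgroup.mem_inf.2 ⟨⟨e, hconj.symm⟩, hmL⟩
  rw [hL.disjoint.eq_bot, Subgroup.mem_bot, inv_mul_eq_one] at h1
  exact h1.symm

omit [Finite Q] in
/-- Agreement modulo the centre, on a subgroup. -/
theorem agree_mul {f g : MulAut Q} {x y : Q} (hx : ∃ k, f x = g x * pw z k) (hy : ∃ k, f y = g y * pw z k)
    (h : Ctx z) : ∃ k, f (x * y) = g (x * y) * pw z k := by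
  obtain ⟨k, hk⟩ := hx
  obtain ⟨l, hl⟩ := hy
  refine ⟨k ^^ l, ?_⟩
  rw [map_mul, map_mul, hk, hl, ← pw_zz h, mul_assoc (g x), ← mul_assoc (pw z k), pw_z_central h k (g y)]
  simp only [mul_assoc]

/-- The hyperbolic configuration. -/
structure Conf (z a₁ b₁ a₂ b₂ a₃ b₃ : Q) : Prop where
  qa₁ : a₁ * a₁ = 1
  qb₁ : b₁ * b₁ = 1
  qa₂ : a₂ * a₂ = 1
  qb₂ : b₂ * b₂ = 1
  qa₃ : a₃ * a₃ = 1
  qb₃ : b₃ * b₃ = 1
  n1 : nc a₁ b₁ = true
  n2 : nc a₂ b₂ = true
  n3 : nc a₃ b₃ = true
  a12 : nc a₁ a₂ = false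
  a13 : nc a₁ a₃ = false
  a23 : nc a₂ a₃ = false
  b12 : nc b₁ b₂ = false
  b13 : nc b₁ b₃ = false
  b23 : nc b₂ b₃ = false
  m12 : nc a₁ b₂ = false
  m13 : nc a₁ b₃ = false
  m21 : nc a₂ b₁ = false
  m23 : nc a₂ b₃ = false
  m31 : nc a₃ b₁ = false
  m32 : nc a₃ b₂ = false

theorem main (h : Ctx z) (hQ : Cfsg.IsExtraspecial 2 Q) (hzc : ∀ w ∈ Subgroup.center Q, w = 1 ∨ w = z)
    {a₁ b₁ a₂ b₂ a₃ b₃ : Q} (c : Conf z a₁ b₁ a₂ b₂ a₃ b₃) {L : Subgroup (MulAut Q)}
    (hL : (Cfsg.Inn Q).IsComplement' L) : False := by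
  obtain ⟨qa₁, qb₁, qa₂, qb₂, qa₃, qb₃, n1, n2, n3, a12, a13, a23, b12, b13, b23, m12, m13, m21, m23, m31, m32⟩ := c
  set u := a₁ * b₁ with hu
  have hba : b₁ * a₁ = a₁ * b₁ * z := by
    have := swap h b₁ a₁
    rwa [nc_comm, n1, pw_true] at this
  have hzz := h.sq
  have huu : u * u = z := by
    calc a₁ * b₁ * (a₁ * b₁) = a₁ * (b₁ * a₁) * b₁ := by simp only [mul_assoc]
      _ = a₁ * (a₁ * b₁ * z) * b₁ := by rw [hba]
      _ = (a₁ * a₁) * b₁ * (z * b₁) := by simp only [mul_assoc]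
      _ = b₁ * b₁ * z := by rw [qa₁, h.central b₁, one_mul, mul_assoc]
      _ = z := by rw [qb₁, one_mul]
  have hab : a₁ * b₂ = b₂ * a₁ := nc_eq_false.1 m12
  have hcb : a₃ * b₂ = b₂ * a₃ := nc_eq_false.1 m32
  let W : MulAut Q := MulEquiv.ofBijective (tau h huu) (tau_bijective h huu)
  let P : MulAut Q := MulEquiv.ofBijective (sig h qa₁ qb₂ hab) (sig_bijective h qa₁ qb₂ hab)
  let R : MulAut Q := MulEquiv.ofBijective (sig h qa₃ qb₂ hcb) (sig_bijective h qa₃ qb₂ hcb)
  have hW : ∀ x, W x = x * pw u (nc u x) := fun x => rfl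
  have hP : ∀ x, P x = x * (pw a₁ (nc b₂ x) * pw b₂ (nc a₁ x) * pw z (nc b₂ x && nc a₁ x)) := fun x => rfl
  have hR : ∀ x, R x = x * (pw a₃ (nc b₂ x) * pw b₂ (nc a₃ x) * pw z (nc b₂ x && nc a₃ x)) := fun x => rfl
  have hz : ∀ f : MulAut Q, f z = z := fun f => by
    rcases hzc (f z) (Subgroup.mem_center_iff.2 fun x => by
      obtain ⟨y, rfl⟩ := f.surjective x
      rw [← map_mul, ← map_mul, h.central y]) with e | e
    · exact absurd (f.injective (e.trans (map_one f).symm)) h.ne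
    · exact e
  have hfp : ∀ (f : MulAut Q) (k : Bool), f (pw z k) = pw z k := fun f k => by cases k <;> simp [hz]
  have nu : ∀ x, nc u x = (nc a₁ x ^^ nc b₁ x) := fun x => by
    rw [nc_comm, hu, nc_mul h, nc_comm x a₁, nc_comm x b₁]
  have vW : W a₁ = b₁ ∧ W b₁ = a₁ * z ∧ W a₂ = a₂ ∧ W b₂ = b₂ ∧ W a₃ = a₃ ∧ W b₃ = b₃ := by
    refine ⟨?_, ?_, ?_, ?_, ?_, ?_⟩ <;> rw [hW, nu]
    · simp [nc_self, nc_comm b₁ a₁, n1, hu, ← mul_assoc, qa₁]
    · simp only [nc_self, n1, Bool.xor_false, pw_true, hu]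
      rw [← mul_assoc, hba, mul_assoc (a₁ * b₁), h.central b₁, ← mul_assoc, mul_assoc a₁, qb₁, mul_one]
    · simp [a12, nc_comm b₁ a₂, m21]
    · simp [m12, b12]
    · simp [a13, nc_comm b₁ a₃, m31]
    · simp [m13, b13]
  obtain ⟨Wa₁, Wb₁, Wa₂, Wb₂, Wa₃, Wb₃⟩ := vW
  have Pa₁ : P a₁ = a₁ := by simp [hP, nc_self, nc_comm b₂ a₁, m12]
  have Pb₁ : P b₁ = b₁ * b₂ := by simp [hP, nc_comm b₂ b₁, b12, n1]
  have Pa₂ : P a₂ = a₂ * a₁ := by simp [hP, nc_comm b₂ a₂, n2, a12]
  have Pb₂ : P b₂ = b₂ := by simp [hP, nc_self, m12]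
  have Ra₁ : R a₁ = a₁ := by simp [hR, nc_comm b₂ a₁, m12, nc_comm a₃ a₁, a13]
  have Ra₂ : R a₂ = a₂ * a₃ := by simp [hR, nc_comm b₂ a₂, n2, nc_comm a₃ a₂, a23]
  have Rb₃ : R b₃ = b₃ * b₂ := by simp [hR, b23, n3]
  have Rb₂ : R b₂ = b₂ := by simp [hR, nc_self, m32]
  obtain ⟨w, hwL, hwx⟩ := exists_lift h hL W
  obtain ⟨p, hpL, hpx⟩ := exists_lift h hL P
  obtain ⟨q, hqL, hqx⟩ := exists_lift h hL R
  -- agreement of lifts
  have comp : ∀ {f f' g g' : MulAut Q}, (∀ x, ∃ k, f x = f' x * pw z k) → (∀ x, ∃ k, g x = g' x * pw z k) →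
      ∀ x, ∃ k, (f * g) x = (f' * g') x * pw z k := by
    intro f f' g g' hf hg x
    obtain ⟨k, hk⟩ := hg x
    obtain ⟨l, hl⟩ := hf (g' x)
    refine ⟨l ^^ k, ?_⟩
    show f (g x) = f' (g' x) * _
    rw [hk, map_mul, hfp, hl, mul_assoc, pw_zz h]
  have agree : ∀ {f f' g g' : MulAut Q}, f ∈ L → g ∈ L → (∀ x, ∃ k, f x = f' x * pw z k) →
      (∀ x, ∃ k, g x = g' x * pw z k) → (∀ x, ∃ k, f' x = g' x * pw z k) → f = g := by
    intro f f' g g' hfL hgL hf hg hfg
    refine eq_of_agree h hQ hzc hL hfL hgL fun x => ?_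
    obtain ⟨k, hk⟩ := hf x
    obtain ⟨l, hl⟩ := hg x
    obtain ⟨m, hm⟩ := hfg x
    exact ⟨m ^^ k ^^ l, by rw [hk, hm, hl, mul_assoc, pw_zz h, mul_assoc, pw_zz h]; congr 1; cases m <;> cases k <;> cases l <;> rfl⟩
  -- first relation
  have rel1 : w * w = 1 := by
    refine agree (g' := 1) (L.mul_mem hwL hwL) L.one_mem (comp hwx hwx) (fun x => ⟨false, by simp⟩) fun x => ?_
    refine ⟨nc u x, ?_⟩
    show W (W x) = x * _
    rw [hW (W x), hW x, nc_mul h, nc_pw h, nc_self, Bool.and_false, Bool.xor_false]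
    cases nc u x <;> simp [mul_assoc, huu]
  -- second relation
  have rel2 : q * w = w * q := by
    refine agree (L.mul_mem hqL hwL) (L.mul_mem hwL hqL) (comp hqx hwx) (comp hwx hqx) fun x => ?_
    have fix : ∀ y, nc u y = false → nc b₂ y = false → nc a₃ y = false →
        ∃ k, (R * W) y = (W * R) y * pw z k := by
      intro y h1 h2 h3
      have e1 : W y = y := by simp [hW, h1]
      have e2 : R y = y := by simp [hR, h2, h3]
      exact ⟨false, by show R (W y) = W (R y) * _; simp [e1, e2]⟩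
    have g1 : ∃ k, (R * W) a₁ = (W * R) a₁ * pw z k := by
      refine ⟨false, ?_⟩
      show R (W a₁) = W (R a₁) * _
      rw [Wa₁, Ra₁, Wa₁, pw_false, mul_one, hR]
      simp [nc_comm b₂ b₁, b12, m31]
    have g2 : ∃ k, (R * W) a₂ = (W * R) a₂ * pw z k := by
      refine ⟨false, ?_⟩
      show R (W a₂) = W (R a₂) * _
      rw [Wa₂, Ra₂, map_mul, Wa₂, Wa₃, pw_false, mul_one]
    have g3 : ∃ k, (R * W) b₃ = (W * R) b₃ * pw z k := by
      refine ⟨false, ?_⟩
      show R (W b₃) = W (R b₃) * _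
      rw [Wb₃, Rb₃, map_mul, Wb₃, Wb₂, pw_false, mul_one]
    set y := x * (pw a₁ (nc u x) * pw a₂ (nc b₂ x) * pw b₃ (nc a₃ x)) with hy
    have hy1 : nc u y = false := by
      simp [hy, nc_mul h, nc_pw h, nu, nc_self, nc_comm b₁ a₁, n1, a12, nc_comm b₁ a₂, m21, m13, b13]
    have hy2 : nc b₂ y = false := by
      simp [hy, nc_mul h, nc_pw h, nc_comm b₂ a₁, m12, nc_comm b₂ a₂, n2, b23]
    have hy3 : nc a₃ y = false := by
      simp [hy, nc_mul h, nc_pw h, nc_comm a₃ a₁, a13, nc_comm a₃ a₂, a23, n3]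
    have hpw : ∀ g b, (∃ k, (R * W) g = (W * R) g * pw z k) → ∃ k, (R * W) (pw g b) = (W * R) (pw g b) * pw z k := by
      intro g b hg
      cases b
      · exact ⟨false, by simp⟩
      · exact hg
    have hx : x = y * (pw b₃ (nc a₃ x) * pw a₂ (nc b₂ x) * pw a₁ (nc u x)) := by
      rw [hy]
      cases nc a₃ x <;> cases nc b₂ x <;> cases nc u x <;>
        simp [mul_assoc, qa₁, qa₂, qb₃, mul_mid_cancel qa₂, mul_mid_cancel qb₃, mul_mid_cancel qa₁]
    rw [hx]
    exact agree_mul (fix y hy1 hy2 hy3) (agree_mul (agree_mul (hpw _ _ g3) (hpw _ _ g2) h) (hpw _ _ g1) h) h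
  -- third relation
  have rel3 : (p * w) * (p * w) = (w * p) * (w * p) := by
    refine agree (L.mul_mem (L.mul_mem hpL hwL) (L.mul_mem hpL hwL))
      (L.mul_mem (L.mul_mem hwL hpL) (L.mul_mem hwL hpL))
      (comp (comp hpx hwx) (comp hpx hwx)) (comp (comp hwx hpx) (comp hwx hpx)) fun x => ?_
    have fix : ∀ y, nc u y = false → nc b₂ y = false → nc a₁ y = false →
        ∃ k, ((P * W) * (P * W)) y = ((W * P) * (W * P)) y * pw z k := by
      intro y h1 h2 h3
      have e1 : W y = y := by simp [hW, h1]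
      have e2 : P y = y := by simp [hP, h2, h3]
      exact ⟨false, by show P (W (P (W y))) = W (P (W (P y))) * _; simp [e1, e2]⟩
    have g1 : ∃ k, ((P * W) * (P * W)) a₁ = ((W * P) * (W * P)) a₁ * pw z k := by
      refine ⟨false, ?_⟩
      show P (W (P (W a₁))) = W (P (W (P a₁))) * _
      simp [Wa₁, Pa₁, Pb₁, Wb₁, Wb₂, Pb₂, hz]
    have g2 : ∃ k, ((P * W) * (P * W)) b₁ = ((W * P) * (W * P)) b₁ * pw z k := by
      refine ⟨false, ?_⟩
      show P (W (P (W b₁))) = W (P (W (P b₁))) * _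
      simp [Wa₁, Pa₁, Pb₁, Wb₁, Wb₂, Pb₂, hz, mul_assoc, qb₂, h.central]
    have g3 : ∃ k, ((P * W) * (P * W)) a₂ = ((W * P) * (W * P)) a₂ * pw z k := by
      refine ⟨false, ?_⟩
      show P (W (P (W a₂))) = W (P (W (P a₂))) * _
      simp only [Wa₂, Pa₂, map_mul, Wa₁, Pb₁, Wb₁, Wb₂, pw_false, mul_one]
      rw [show a₂ * b₁ * (a₁ * z * b₂) = a₂ * (b₁ * a₁) * (z * b₂) by simp only [mul_assoc], hba]
      simp only [mul_assoc, mul_mid_cancel hzz]
    set y := x * (pw a₂ (nc b₂ x) * pw u (nc a₁ x) * pw a₁ (nc u x)) with hy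
    have hua : nc a₁ u = true := by rw [hu, nc_mul h, nc_self, n1]; rfl
    have hub : nc b₂ u = false := by rw [hu, nc_mul h, nc_comm b₂ a₁, m12, nc_comm b₂ b₁, b12]; rfl
    have hua' : nc u a₁ = true := by rw [nc_comm, hua]
    have hu2 : nc u a₂ = false := by rw [nu, a12, nc_comm b₁ a₂, m21]; rfl
    have hy1 : nc u y = false := by simp [hy, nc_mul h, nc_pw h, nc_self, hua', hu2]
    have hy2 : nc b₂ y = false := by simp [hy, nc_mul h, nc_pw h, hub, nc_comm b₂ a₂, n2, nc_comm b₂ a₁, m12]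
    have hy3 : nc a₁ y = false := by simp [hy, nc_mul h, nc_pw h, nc_self, hua, a12]
    have hpw : ∀ g b, (∃ k, ((P * W) * (P * W)) g = ((W * P) * (W * P)) g * pw z k) →
        ∃ k, ((P * W) * (P * W)) (pw g b) = ((W * P) * (W * P)) (pw g b) * pw z k := by
      intro g b hg
      cases b
      · exact ⟨false, by simp⟩
      · exact hg
    have hui : ∀ b, pw u b * pw (b₁ * a₁) b = 1 := fun b => by
      cases b <;> simp [hu, mul_assoc, qa₁, mul_mid_cancel qb₁]
    have hx : x = y * (pw a₁ (nc u x) * pw (b₁ * a₁) (nc a₁ x) * pw a₂ (nc b₂ x)) := by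
      rw [hy]
      calc x = x * (pw a₂ (nc b₂ x) * (pw u (nc a₁ x) * (pw a₁ (nc u x) * pw a₁ (nc u x)) *
            pw (b₁ * a₁) (nc a₁ x)) * pw a₂ (nc b₂ x)) := by
            rw [pw_pw qa₁, Bool.xor_self, pw_false, mul_one, hui, mul_one, pw_pw qa₂, Bool.xor_self, pw_false, mul_one]
        _ = _ := by simp only [mul_assoc]
    rw [hx]
    exact agree_mul (fix y hy1 hy2 hy3)
      (agree_mul (agree_mul (hpw _ _ g1) (hpw _ _ (agree_mul g2 g1 h)) h) (hpw _ _ g3) h) h
  -- evaluation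
  obtain ⟨k₁, hk₁⟩ := hwx a₁
  obtain ⟨k₄, hk₄⟩ := hwx b₁
  obtain ⟨l₂, hl₂⟩ := hwx a₂
  obtain ⟨l₅, hl₅⟩ := hwx b₂
  obtain ⟨l₆, hl₆⟩ := hwx b₃
  obtain ⟨μ, hμ⟩ := hpx a₂
  obtain ⟨m₁, hm₁⟩ := hpx b₁
  obtain ⟨m₀, hm₀⟩ := hpx a₁
  obtain ⟨ν, hν⟩ := hqx b₃
  rw [Wa₁] at hk₁
  rw [Wb₁] at hk₄
  rw [Wa₂] at hl₂
  rw [Wb₂] at hl₅
  rw [Wb₃] at hl₆
  rw [Pa₂] at hμ
  rw [Pb₁] at hm₁
  rw [Pa₁] at hm₀
  rw [Rb₃] at hν
  have hright : ∀ (k : Bool) (x y : Q), x * pw z k * y = x * y * pw z k := fun k x y => by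
    rw [mul_assoc, pw_z_central h, ← mul_assoc]
  have hright_a₁ : ∀ (k : Bool) (x : Q), x * pw z k * a₁ = x * a₁ * pw z k := fun k x => hright k x a₁
  have hright_b₁ : ∀ (k : Bool) (x : Q), x * pw z k * b₁ = x * b₁ * pw z k := fun k x => hright k x b₁
  have hright_a₂ : ∀ (k : Bool) (x : Q), x * pw z k * a₂ = x * a₂ * pw z k := fun k x => hright k x a₂
  have hright_b₂ : ∀ (k : Bool) (x : Q), x * pw z k * b₂ = x * b₂ * pw z k := fun k x => hright k x b₂
  have hright_b₃ : ∀ (k : Bool) (x : Q), x * pw z k * b₃ = x * b₃ * pw z k := fun k x => hright k x b₃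
  have hbnd : ∀ k l : Bool, ∀ x : Q, x * pw z k * pw z l = x * pw z (k ^^ l) := fun k l x => by
    rw [mul_assoc, pw_zz h]
  have e5 : l₅ = false := by
    have e := DFunLike.congr_fun rel2 b₃
    have e' : q (w b₃) = w (q b₃) := e
    simp only [hl₆, hν, map_mul, hfp, hl₅, ← mul_assoc, hright_a₁, hright_b₁, hright_a₂, hright_b₂, hright_b₃, hbnd] at e'
    have := pw_z_inj h (mul_left_cancel e')
    revert this
    cases l₅ <;> cases ν <;> cases l₆ <;> decide
  subst e5
  have e1 : (true ^^ k₁ ^^ k₄) = false := by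
    have e := DFunLike.congr_fun rel1 a₁
    have e' : w (w a₁) = a₁ := e
    simp only [hk₁, map_mul, hfp, hk₄, ← mul_assoc, hright_a₁, hright_b₁, hright_a₂, hright_b₂, hright_b₃, hbnd] at e'
    have e'' : a₁ * (pw z true * pw z (k₄ ^^ k₁)) = a₁ := by
      rw [pw_true, ← mul_assoc]; exact e'
    rw [mul_eq_left, pw_zz h] at e''
    have := pw_z_inj h (e''.trans (pw_false z).symm)
    revert this
    cases k₁ <;> cases k₄ <;> decide
  have e3 : p (w (p (w a₂))) = w (p (w (p a₂))) := DFunLike.congr_fun rel3 a₂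
  have eba : b₁ * a₁ = a₁ * b₁ * pw z true := by rw [pw_true]; exact hba
  have eW : w b₁ = a₁ * pw z (true ^^ k₄) := by rw [hk₄, ← pw_zz h, pw_true, mul_assoc]
  simp only [hl₂, hμ, map_mul, hfp, hk₁, hm₁, eW, hm₀, hl₅, pw_false, mul_one, ← mul_assoc, hright_a₁, hright_b₁, hright_a₂, hright_b₂, hright_b₃, hbnd] at e3
  rw [show a₂ * b₁ * a₁ * b₂ = a₂ * a₁ * b₁ * b₂ * pw z true by
    rw [mul_assoc a₂, eba, ← mul_assoc, hright, ← mul_assoc]] at e3
  simp only [hbnd] at e3
  have := pw_z_inj h (mul_left_cancel e3)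
  revert this e1
  cases k₁ <;> cases k₄ <;> cases μ <;> cases m₁ <;> cases l₂ <;> decide

include h in
theorem nc_mul_left (u x y : Q) : nc (x * y) u = (nc x u ^^ nc y u) := by
  rw [nc_comm, nc_mul h, nc_comm u x, nc_comm u y]

include h in
theorem nc_pw_left (u g : Q) (b : Bool) : nc (pw g b) u = (b && nc g u) := by
  rw [nc_comm, nc_pw h, nc_comm u g]

include h in
/-- The hyperbolic configuration exists. -/
theorem exists_conf (hQ : Cfsg.IsExtraspecial 2 Q) (hzc : ∀ w ∈ Subgroup.center Q, w = 1 ∨ w = z)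
    (Es : Subgroup Q) (hE : Cfsg.IsElementaryAbelian 2 Es) (h16 : 16 ≤ Nat.card Es) :
    ∃ a₁ b₁ a₂ b₂ a₃ b₃ : Q, Conf z a₁ b₁ a₂ b₂ a₃ b₃ := by
  classical
  obtain ⟨⟨hEc⟩, hE2⟩ := hE
  have hsq : ∀ a ∈ Es, a * a = 1 := fun a ha => by rw [← pow_two]; exact hE2 a ha
  have hcomm : ∀ a ∈ Es, ∀ b ∈ Es, nc a b = false := fun a ha b hb => nc_eq_false.2
    (congrArg Subtype.val (hEc.comm (⟨a, ha⟩ : Es) ⟨b, hb⟩))
  have hnc : ∀ g : Q, g ≠ 1 → g ≠ z → ∃ x, nc g x = true := fun g h1 h2 => by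
    by_contra hno
    push Not at hno
    rcases hzc g (Subgroup.mem_center_iff.2 fun x =>
      (nc_eq_false.1 (by simpa using hno x)).symm) with e | e
    exacts [h1 e, h2 e]
  have hpick : ∀ F : Finset Q, F.card ≤ 8 → ∃ a ∈ Es, a ∉ F := fun F hF => by
    by_contra hno
    push Not at hno
    have hs : (Es : Set Q) ⊆ (F : Set Q) := fun a ha => hno a ha
    have h' := Set.ncard_le_ncard hs (Set.toFinite _)
    rw [Set.ncard_coe_finset, ← Nat.card_coe_set_eq] at h'
    change Nat.card Es ≤ F.card at h'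
    omega
  obtain ⟨a₁, ha₁, h1⟩ := hpick {1, z} ((Finset.card_insert_le _ _).trans (by simp))
  obtain ⟨a₂, ha₂, h2⟩ := hpick ((Finset.univ : Finset (Bool × Bool)).image fun p => pw a₁ p.1 * pw z p.2)
    (Finset.card_image_le.trans (by simp))
  obtain ⟨a₃, ha₃, h3⟩ := hpick ((Finset.univ : Finset (Bool × Bool × Bool)).image
      fun p => pw a₁ p.1 * pw a₂ p.2.1 * pw z p.2.2) (Finset.card_image_le.trans (by simp))
  simp only [Finset.mem_insert, Finset.mem_singleton] at h1
  simp only [Finset.mem_image, Finset.mem_univ, true_and, Prod.exists, not_exists] at h2 h3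
  have qa₁ := hsq a₁ ha₁
  have qa₂ := hsq a₂ ha₂
  have qa₃ := hsq a₃ ha₃
  have hw : ∀ i j k : Bool, (i || j || k) = true →
      ∃ x, ((i && nc a₁ x) ^^ (j && nc a₂ x) ^^ (k && nc a₃ x)) = true := by
    intro i j k hijk
    set g := pw a₁ i * pw a₂ j * pw a₃ k with hg
    have hgne : ∀ c : Bool, g ≠ pw z c := by
      intro c e
      cases k
      · cases j
        · cases i
          · simp at hijk
          · cases c <;> simp [hg] at e <;> simp [e] at h1
        · apply h2 i c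
          have e' : pw a₁ i * a₂ = pw z c := by simpa [hg] using e
          rw [← e']
          cases i <;> simp [mul_mid_cancel qa₁]
      · apply h3 i j c
        rw [hg, pw_true] at e
        have hc : pw a₁ i * pw a₂ j * (pw a₁ i * pw a₂ j) = 1 := by
          have hcm : a₁ * a₂ = a₂ * a₁ := nc_eq_false.1 (hcomm _ ha₁ _ ha₂)
          cases i <;> cases j <;> simp [qa₁, qa₂]
          rw [mul_assoc, ← mul_assoc a₂ a₁, ← hcm, mul_assoc a₁ a₂ a₂, qa₂, mul_one, qa₁]
        rw [← e, ← mul_assoc, hc, one_mul]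
    obtain ⟨x, hx⟩ := hnc g (hgne false) (hgne true)
    refine ⟨x, ?_⟩
    rw [nc_comm, hg, nc_mul h, nc_mul h, nc_pw h, nc_pw h, nc_pw h, nc_comm x a₁, nc_comm x a₂, nc_comm x a₃] at hx
    exact hx
  have two : ∀ a c : Q, (∃ x, nc a x = true) → (∃ x, (nc a x ^^ nc c x) = true) →
      ∃ x, nc a x = true ∧ nc c x = false := by
    rintro a c ⟨y₁, e₁⟩ ⟨y₂, e₂⟩
    by_cases hc : nc c y₁ = false
    · exact ⟨y₁, e₁, hc⟩
    · rw [Bool.not_eq_false] at hc
      cases ha : nc a y₂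
      · refine ⟨y₁ * y₂, by rw [nc_mul h, e₁, ha]; rfl, ?_⟩
        rw [ha] at e₂
        rw [nc_mul h, hc]
        revert e₂
        cases nc c y₂ <;> simp
      · refine ⟨y₂, ha, ?_⟩
        rw [ha] at e₂
        revert e₂
        cases nc c y₂ <;> simp
  have three : ∀ a c d : Q, (∃ x, nc a x = true) → (∃ x, (nc a x ^^ nc c x) = true) →
      (∃ x, (nc a x ^^ nc d x) = true) → (∃ x, (nc a x ^^ nc c x ^^ nc d x) = true) →
      ∃ x, nc a x = true ∧ nc c x = false ∧ nc d x = false := by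
    intro a c d ea eac ead eacd
    obtain ⟨y₁, f₁, f₂⟩ := two a c ea eac
    obtain ⟨y₂, g₁, g₂⟩ := two a d ea ead
    obtain ⟨y, hy⟩ := eacd
    by_cases hd : nc d y₁ = false
    · exact ⟨y₁, f₁, f₂, hd⟩
    by_cases hc : nc c y₂ = false
    · exact ⟨y₂, g₁, hc, g₂⟩
    rw [Bool.not_eq_false] at hd hc
    cases ha : nc a y <;> cases hc' : nc c y <;> cases hd' : nc d y <;>
      simp [ha, hc', hd'] at hy
    · exact ⟨y * y₁, by simp [nc_mul h, ha, f₁, hc', hd', f₂, hd]⟩
    · exact ⟨y * y₂, by simp [nc_mul h, ha, g₁, hc', hd', g₂, hc]⟩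
    · exact ⟨y, ha, hc', hd'⟩
    · exact ⟨y * (y₁ * y₂), by simp [nc_mul h, ha, f₁, g₁, hc', hd', f₂, g₂, hc, hd]⟩
  have wit : ∀ i j k : Bool, (i || j || k) = true → ∀ f : Q → Bool,
      (∀ x, ((i && nc a₁ x) ^^ (j && nc a₂ x) ^^ (k && nc a₃ x)) = f x) → ∃ x, f x = true := by
    intro i j k hh f hf
    obtain ⟨x, hx⟩ := hw i j k hh
    exact ⟨x, (hf x) ▸ hx⟩
  have all3 := wit true true true rfl
  obtain ⟨c₁, u11, u12, u13⟩ := three a₁ a₂ a₃ (wit true false false rfl _ fun x => by simp)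
    (wit true true false rfl _ fun x => by simp) (wit true false true rfl _ fun x => by simp)
    (wit true true true rfl _ fun x => by simp)
  obtain ⟨c₂, u22, u21, u23⟩ := three a₂ a₁ a₃ (wit false true false rfl _ fun x => by simp)
    (wit true true false rfl _ fun x => by simp [Bool.xor_comm]) (wit false true true rfl _ fun x => by simp)
    (wit true true true rfl _ fun x => by simp [Bool.xor_comm, Bool.xor_left_comm])
  obtain ⟨c₃, u33, u31, u32⟩ := three a₃ a₁ a₂ (wit false false true rfl _ fun x => by simp)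
    (wit true false true rfl _ fun x => by simp [Bool.xor_comm]) (wit false true true rfl _ fun x => by simp [Bool.xor_comm])
    (wit true true true rfl _ fun x => by simp [Bool.xor_comm, Bool.xor_left_comm])
  set d₂ := c₂ * pw a₁ (nc c₁ c₂) with hd₂
  set d₃ := c₃ * pw a₁ (nc c₁ c₃) * pw a₂ (nc d₂ c₃) with hd₃
  have k12 := hcomm _ ha₁ _ ha₂
  have k13 := hcomm _ ha₁ _ ha₃
  have k23 := hcomm _ ha₂ _ ha₃
  have c11 : nc c₁ a₁ = true := by rw [nc_comm, u11]
  have c12 : nc c₁ a₂ = false := by rw [nc_comm, u12]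
  have p21 : nc a₁ d₂ = false := by simp [hd₂, nc_mul h, nc_pw h, nc_self, u21]
  have p22 : nc a₂ d₂ = true := by simp [hd₂, nc_mul h, nc_pw h, u22, nc_comm a₂ a₁, k12]
  have p23 : nc a₃ d₂ = false := by simp [hd₂, nc_mul h, nc_pw h, u23, nc_comm a₃ a₁, k13]
  have p31 : nc a₁ d₃ = false := by simp [hd₃, nc_mul h, nc_pw h, nc_self, u31, k12]
  have p32 : nc a₂ d₃ = false := by simp [hd₃, nc_mul h, nc_pw h, nc_self, u32, nc_comm a₂ a₁, k12]
  have p33 : nc a₃ d₃ = true := by simp [hd₃, nc_mul h, nc_pw h, u33, nc_comm a₃ a₁, k13, nc_comm a₃ a₂, k23]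
  have q12 : nc c₁ d₂ = false := by simp [hd₂, nc_mul h, nc_pw h, c11]
  have q13 : nc c₁ d₃ = false := by simp [hd₃, nc_mul h, nc_pw h, c11, c12]
  have q23 : nc d₂ d₃ = false := by
    simp [hd₃, nc_mul h, nc_pw h, nc_comm d₂ a₁, p21, nc_comm d₂ a₂, p22]
  have hfix : ∀ a b : Q, a * a = 1 → nc a b = true → ∀ k : Bool, (k = decide (b * b ≠ 1)) →
      b * pw a k * (b * pw a k) = 1 := by
    intro a b ha hab k hk
    have hbb : b * b = 1 ∨ b * b = z := hzc _ (by rw [← pow_two]; exact Fusion.es_pow_mem_center hQ b)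
    rcases hbb with e | e
    · simp [hk, e]
    · have hba : a * b = b * a * z := by
        have := swap h a b
        rwa [hab, pw_true] at this
      rw [show k = true by simp [hk, e, h.ne], pw_true]
      calc b * a * (b * a) = b * (a * b) * a := by simp only [mul_assoc]
        _ = b * (b * a * z) * a := by rw [hba]
        _ = (b * b) * a * (z * a) := by simp only [mul_assoc]
        _ = z * a * (a * z) := by rw [e, h.central a]
        _ = 1 := by rw [mul_assoc, mul_mid_cancel ha, h.sq]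
  refine ⟨a₁, c₁ * pw a₁ (decide (c₁ * c₁ ≠ 1)), a₂, d₂ * pw a₂ (decide (d₂ * d₂ ≠ 1)),
    a₃, d₃ * pw a₃ (decide (d₃ * d₃ ≠ 1)), qa₁, hfix _ _ qa₁ u11 _ rfl, qa₂, hfix _ _ qa₂ p22 _ rfl,
    qa₃, hfix _ _ qa₃ p33 _ rfl, ?_, ?_, ?_, k12, k13, k23, ?_, ?_, ?_, ?_, ?_, ?_, ?_, ?_, ?_⟩
  · simp [nc_mul h, nc_pw h, nc_self, u11]
  · simp [nc_mul h, nc_pw h, nc_self, p22]
  · simp [nc_mul h, nc_pw h, nc_self, p33]
  · simp [nc_mul h, nc_pw h, nc_mul_left h, nc_pw_left h, q12, p21, k12, c12]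
  · simp [nc_mul h, nc_pw h, nc_mul_left h, nc_pw_left h, q13, p31, k13, nc_comm c₁ a₃, u13]
  · simp [nc_mul h, nc_pw h, nc_mul_left h, nc_pw_left h, q23, p32, k23, nc_comm d₂ a₃, p23]
  · simp [nc_mul h, nc_pw h, p21, k12]
  · simp [nc_mul h, nc_pw h, p31, k13]
  · simp [nc_mul h, nc_pw h, u12, nc_comm a₂ a₁, k12]
  · simp [nc_mul h, nc_pw h, p32, k23]
  · simp [nc_mul h, nc_pw h, u13, nc_comm a₃ a₁, k13]
  · simp [nc_mul h, nc_pw h, p23, nc_comm a₃ a₂, k23]


/-- Let Q be an extraspecial 2-group of order 2^(2n+1) with n ≥ 3 that is of plus type (it contains an elementary abelian subgroup of order 2^(n+1)). Then the group of inner automorphisms of Q has no complement in the full automorphism group of Q: the extension of the inner automorphism group (elementary abelian of order 2^(2n)) by the outer automorphism group (the orthogonal group of plus type) does not split. -/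
theorem result {Q : Type*} [Group Q] [Finite Q] (n : ℕ) (hn : 3 ≤ n) (hQ : Cfsg.IsExtraspecial 2 Q) (hcard : Nat.card Q = 2 ^ (2 * n + 1)) (hplus : ∃ E : Subgroup Q, Cfsg.IsElementaryAbelian 2 E ∧ Nat.card ↥E = 2 ^ (n + 1)) (L : Subgroup (MulAut Q)) : ¬ (Cfsg.Inn Q).IsComplement' L := by
  intro hL
  have : Fact (Nat.Prime 2) := ⟨Nat.prime_two⟩
  obtain ⟨zc, hz1, huniq⟩ := (Nat.card_eq_two_iff' (1 : Subgroup.center Q)).1 hQ.2
  have hzc : ∀ w ∈ Subgroup.center Q, w = 1 ∨ w = (zc : Q) := fun w hw => by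
    by_cases hw1 : (⟨w, hw⟩ : Subgroup.center Q) = 1
    · exact Or.inl (congrArg Subtype.val hw1)
    · exact Or.inr (congrArg Subtype.val (huniq _ hw1))
  have hne : (zc : Q) ≠ 1 := fun e => hz1 (Subtype.ext e)
  have h : Ctx (zc : Q) := by
    refine ⟨?_, hne, fun x => (Subgroup.mem_center_iff.1 zc.2 x).symm, fun x y => ?_⟩
    · rw [← pow_two]; exact Fusion.es_center_pow hQ zc.2
    · have e0 : x * y = ⁅x, y⁆ * (y * x) := by rw [commutatorElement_def]; group
      rcases hzc _ (Fusion.es_commutator_mem hQ x y) with e | e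
      · exact Or.inl (by rw [e0, e, one_mul])
      · exact Or.inr (by rw [e0, e, Subgroup.mem_center_iff.1 zc.2 (y * x)])
  obtain ⟨Es, hEs, hEcard⟩ := hplus
  obtain ⟨a₁, b₁, a₂, b₂, a₃, b₃, c⟩ := exists_conf h hQ hzc Es hEs (by
    rw [hEcard]
    calc 16 = 2 ^ 4 := by norm_num
      _ ≤ 2 ^ (n + 1) := Nat.pow_le_pow_right two_pos (by omega))
  exact main h hQ hzc c hL

end Cfsg.Agent.S3085
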