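import Cfsg.Statements.S3086
import Cfsg.Agent.PGV.Main

set_option autoImplicit false
open Cfsg

namespace Cfsg.Agent.S3086

/-- The P(G,V)-theorem. Let p be a prime, G a finite group acting faithfully and linearly on a finite vector space V over the field with p elements, and A a nontrivial elementary abelian p-subgroup of G such that |A|·|C_V(A)| ≥ |B|·|C_V(B)| for every subgroup B of A. Then A normalizes every component (subnormal quasisimple subgroup) of G. -/
theorem result {G V : Type*} [Group G] [Finite G] [AddCommGroup V] [Finite V] (p : ℕ) [Fact p.Prime] [Module (ZMod p) V]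
    (ρ : Representation (ZMod p) G V) (hρ : Function.Injective ρ)
    (A : Subgroup G) (hA : A ≠ ⊥) (hAel : Cfsg.IsElementaryAbelian p A)
    (hP : ∀ B : Subgroup G, B ≤ A →
      Nat.card ↥B * Nat.card {v : V // ∀ b ∈ B, ρ b v = v} ≤ Nat.card ↥A * Nat.card {v : V // ∀ a ∈ A, ρ a v = v}) :
    ∀ K : Subgroup G, Cfsg.IsComponent K → A ≤ Subgroup.normalizer (K : Set G) := by
  classical
  intro K hK a ha
  haveI : Finite (AddMonoid.End V) :=
    Finite.of_injective (fun f : AddMonoid.End V => (f : V → V)) DFunLike.coe_injective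
  haveI : Finite (AddMonoid.End V)ˣ := Finite.of_injective _ Units.val_injective
  let φ : G →* (AddMonoid.End V)ˣ := MonoidHom.toHomUnits
    { toFun := fun g => (ρ g).toAddMonoidHom
      map_one' := by rw [map_one]; rfl
      map_mul' := fun g h => by rw [map_mul]; rfl }
  have hφ : Function.Injective φ := fun g h e => hρ (LinearMap.ext fun v =>
    DFunLike.congr_fun (congrArg Units.val e) v)
  have hp : ∀ v : V, p • v = 0 := fun v => by
    rw [← Nat.cast_smul_eq_nsmul (ZMod p), ZMod.natCast_self, zero_smul]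
  have hcard : ∀ B : Subgroup G, Nat.card (PGV.fix V (B.map φ)) =
      Nat.card {v : V // ∀ b ∈ B, ρ b v = v} := by
    intro B
    refine Nat.card_congr (Equiv.subtypeEquivRight fun v => ?_)
    refine ⟨fun h b hb => h _ ⟨b, hb, rfl⟩, ?_⟩
    rintro h _ ⟨b, hb, rfl⟩
    exact h b hb
  haveI := hAel.1
  have hBest : PGV.Best V (A.map φ) := by
    intro B hB
    obtain ⟨B', hB', rfl⟩ : ∃ B' ≤ A, B'.map φ = B :=
      ⟨B.comap φ, fun x hx => by
        obtain ⟨y, hy, e⟩ := hB hx
        rwa [← hφ e], by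
        rw [Subgroup.map_comap_eq, inf_eq_right.mpr (hB.trans (Subgroup.map_le_range φ A))]⟩
    rw [Subgroup.card_map_of_injective hφ, Subgroup.card_map_of_injective hφ, hcard, hcard]
    exact hP B' hB'
  have h := PGV.pgv _ V le_rfl p hp (A.map φ) (K.map φ)
    (by
      rintro _ ⟨x, hx, rfl⟩ _ ⟨y, hy, rfl⟩
      have hxy : Commute x y := congrArg Subtype.val
        (mul_comm' (⟨x, hx⟩ : A) ⟨y, hy⟩)
      exact hxy.map φ)
    (by
      rintro _ ⟨x, hx, rfl⟩
      rw [← map_pow, hAel.2 x hx, map_one])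
    hBest (Layer.isQuasisimple_congr (Subgroup.equivMapOfInjective K φ hφ) hK.2)
    (by
      rintro _ ⟨x, -, rfl⟩
      by_cases e : K.map (MulAut.conj x).toMonoidHom = K
      · left
        rintro _ ⟨k, hk, rfl⟩
        refine ⟨x * k * x⁻¹, e.le ⟨k, hk, rfl⟩, ?_⟩
        simp
      · right
        rintro _ ⟨k, hk, rfl⟩ _ ⟨l, hl, rfl⟩
        rw [← map_inv, ← map_mul, ← map_mul]
        refine Commute.map ?_ φ
        exact Layer.commute_of_commutator_eq_bot
          (Layer.components_commute (Layer.isComponent_map_conj hK x) hK e) ⟨k, hk, rfl⟩ hl)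
  rw [Subgroup.mem_normalizer_iff]
  have hn : ∀ g ∈ A, ∀ k ∈ K, g * k * g⁻¹ ∈ K := by
    intro g hg k hk
    obtain ⟨m, hm, e⟩ := h _ ⟨g, hg, rfl⟩ _ ⟨k, hk, rfl⟩
    rw [← map_inv, ← map_mul, ← map_mul] at e
    exact hφ e ▸ hm
  refine fun k => ⟨hn a ha k, fun hk => ?_⟩
  simpa [mul_assoc] using hn a⁻¹ (inv_mem ha) _ hk

end Cfsg.Agent.S3086
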