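import Cfsg.Statements.S3087
import Mathlib

set_option autoImplicit false
open Cfsg

namespace Cfsg.Agent.S3087

/-- Let p be a prime, G a finite group acting linearly on a finite vector space V over the field with p elements, W a G-invariant subspace, and A a subgroup of G with |A|·|C_V(A)| ≥ |B|·|C_V(B)| for every subgroup B of A. Then |A|·|C_W(A)| ≥ |B|·|C_W(B)| for every subgroup B of A that contains C_A(W); that is, the image of A in the group induced on W satisfies the same maximality condition. -/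
theorem result {G V : Type*} [Group G] [Finite G] [AddCommGroup V] [Finite V] (p : ℕ) [Fact p.Prime] [Module (ZMod p) V]
    (ρ : Representation (ZMod p) G V) (W : Submodule (ZMod p) V) (hW : ∀ g : G, ∀ w ∈ W, ρ g w ∈ W)
    (A : Subgroup G)
    (hP : ∀ B : Subgroup G, B ≤ A →
      Nat.card ↥B * Nat.card {v : V // ∀ b ∈ B, ρ b v = v} ≤ Nat.card ↥A * Nat.card {v : V // ∀ a ∈ A, ρ a v = v})
    (B : Subgroup G) (hBA : B ≤ A) (hCB : ∀ a ∈ A, (∀ w ∈ W, ρ a w = w) → a ∈ B) :
    Nat.card ↥B * Nat.card {w : W // ∀ b ∈ B, ρ b w = w} ≤ Nat.card ↥A * Nat.card {w : W // ∀ a ∈ A, ρ a w = w} := by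
  classical
  let CV : Subgroup G → AddSubgroup V := fun H =>
    { carrier := {v | ∀ b ∈ H, ρ b v = v}
      zero_mem' := fun b _ => map_zero _
      add_mem' := fun {u w} hu hw b hb => by rw [map_add, hu b hb, hw b hb]
      neg_mem' := fun {u} hu b hb => by rw [map_neg, hu b hb] }
  let CW : Subgroup G → AddSubgroup V := fun H => CV H ⊓ W.toAddSubgroup
  have hV : ∀ H, Nat.card {v : V // ∀ b ∈ H, ρ b v = v} = Nat.card (CV H) := fun H => rfl
  have hWc : ∀ H, Nat.card {w : W // ∀ b ∈ H, ρ b w = w} = Nat.card (CW H) := fun H =>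
    Nat.card_congr
      { toFun := fun w => ⟨(w.1 : V), w.2, w.1.2⟩
        invFun := fun v => ⟨⟨v.1, v.2.2⟩, v.2.1⟩
        left_inv := fun w => rfl
        right_inv := fun v => rfl }
  rw [hWc, hWc]
  have key := hP B hBA
  rw [hV, hV] at key
  have hAB : CV A ≤ CV B := fun v hv b hb => hv b (hBA hb)
  let f : (CV A).prod (CW B) →+ V :=
    { toFun := fun u => u.1.1 + u.1.2
      map_zero' := by simp
      map_add' := fun u w => by simp only [AddSubgroup.coe_add, Prod.fst_add, Prod.snd_add]; abel }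
  have hrange : f.range ≤ CV B := by
    rintro _ ⟨⟨⟨a, w⟩, ha, hw⟩, rfl⟩
    exact (CV B).add_mem (hAB ha) hw.1
  have hker : Nat.card f.ker ≤ Nat.card (CW A) := by
    refine Nat.card_le_card_of_injective (fun u => ⟨u.1.1.2, ?_, u.1.2.2.2⟩) ?_
    · have h1 : u.1.1.2 = -u.1.1.1 :=
        eq_neg_of_add_eq_zero_right (AddMonoidHom.mem_ker.1 u.2)
      rw [h1]
      exact (CV A).neg_mem u.1.2.1
    · rintro ⟨⟨⟨a, w⟩, _⟩, hu⟩ ⟨⟨⟨a', w'⟩, _⟩, hu'⟩ heq
      replace heq : w = w' := congrArg Subtype.val heq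
      subst heq
      have : a + w = a' + w := (AddMonoidHom.mem_ker.1 hu).trans (AddMonoidHom.mem_ker.1 hu').symm
      simp [add_right_cancel this]
  have hcount : Nat.card (CV A) * Nat.card (CW B) ≤ Nat.card (CW A) * Nat.card (CV B) := by
    have h1 := AddSubgroup.card_eq_card_quotient_mul_card_addSubgroup f.ker
    rw [Nat.card_congr (QuotientAddGroup.quotientKerEquivRange f).toEquiv,
      Nat.card_congr ((CV A).prodEquiv (CW B)).toEquiv, Nat.card_prod] at h1
    rw [h1, mul_comm]
    exact Nat.mul_le_mul hker (AddSubgroup.card_le_of_le hrange)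
  refine Nat.le_of_mul_le_mul_left (c := Nat.card (CV A)) ?_ Nat.card_pos
  calc Nat.card (CV A) * (Nat.card B * Nat.card (CW B))
      = Nat.card B * (Nat.card (CV A) * Nat.card (CW B)) := by ring
    _ ≤ Nat.card B * (Nat.card (CW A) * Nat.card (CV B)) := Nat.mul_le_mul_left _ hcount
    _ = (Nat.card B * Nat.card (CV B)) * Nat.card (CW A) := by ring
    _ ≤ (Nat.card A * Nat.card (CV A)) * Nat.card (CW A) := Nat.mul_le_mul_right _ key
    _ = Nat.card (CV A) * (Nat.card A * Nat.card (CW A)) := by ring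

end Cfsg.Agent.S3087
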