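import Mathlib
import Cfsg.Statements.S3103
import Cfsg.Agent.Classical.LinearBasic
import Cfsg.Agent.Classical.AltEight
import Cfsg.Agent.FGS.AutFrattini
import Cfsg.Agent.PConstr.Local
import Cfsg.Agent.Core.PCore

set_option autoImplicit false
open Cfsg

namespace Cfsg.Agent.S3103
open Subgroup Matrix

/-- A group of order dividing sixteen and exponent two has automorphism group inside `A₈`. -/
theorem exists_embed {Q : Type*} [CommGroup Q] [Finite Q] (hexp : ∀ x : Q, x ^ 2 = 1) (hcard : Nat.card Q ∣ 16) :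
    ∃ f : MulAut Q →* ↥(alternatingGroup (Fin 8)), Function.Injective f := by
  haveI : Fact (Nat.Prime 2) := ⟨Nat.prime_two⟩
  obtain ⟨c, hc⟩ := hcard
  obtain ⟨a, -, ha⟩ := (Nat.dvd_prime_pow Nat.prime_two).1 (show c ∣ 2 ^ 4 from ⟨Nat.card Q, by rw [mul_comm]; exact hc⟩)
  let M := Multiplicative (Fin a → ZMod 2)
  let W := Q × M
  have hW : Nat.card W = 16 := by
    simp only [W, M, Nat.card_prod, Nat.card_congr Multiplicative.toAdd, Nat.card_fun, Nat.card_zmod, Nat.card_fin]
    rw [hc, ha]
  have hWexp : ∀ w : W, w ^ 2 = 1 := fun w => Prod.ext (hexp _) (by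
    apply Multiplicative.toAdd.injective
    funext i
    show 2 • (Multiplicative.toAdd w.2 i) = 0
    rw [nsmul_eq_mul, show ((2 : ℕ) : ZMod 2) = 0 from rfl, zero_mul])
  letI : Module (ZMod 2) (Additive W) :=
    AddCommGroup.zmodModule (fun x => by
      apply Additive.toMul.injective
      rw [toMul_nsmul, hWexp, toMul_zero])
  haveI : Finite (Additive W) := (inferInstance : Finite W)
  haveI : Module.Finite (ZMod 2) (Additive W) := Module.Finite.of_finite
  have hfin : Module.finrank (ZMod 2) (Additive W) = 4 := by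
    have h := Module.natCard_eq_pow_finrank (K := ZMod 2) (V := Additive W)
    rw [Nat.card_zmod, Nat.card_congr (Additive.toMul (α := W)), hW] at h
    exact Nat.pow_right_injective le_rfl (h.symm.trans (by norm_num : (16 : ℕ) = 2 ^ 4))
  let b := Module.finBasisOfFinrankEq (ZMod 2) (Additive W) hfin
  let lin : MulAut Q → (Additive W →ₗ[ZMod 2] Additive W) := fun φ =>
    (MonoidHom.toAdditive ((φ.prodCongr (MulEquiv.refl M)).toMonoidHom)).toZModLinearMap 2
  let toM : MulAut Q →* Matrix (Fin 4) (Fin 4) (ZMod 2) :=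
    { toFun := fun φ => LinearMap.toMatrix b b (lin φ)
      map_one' := by
        rw [show lin 1 = LinearMap.id from LinearMap.ext fun w => rfl]
        exact LinearMap.toMatrix_id b
      map_mul' := fun φ ψ => by
        rw [← LinearMap.toMatrix_comp]
        rfl }
  have hinj : Function.Injective toM := fun φ ψ h => by
    have h' : lin φ = lin ψ := (LinearMap.toMatrix b b).injective h
    ext x
    exact congrArg (fun y : Additive W => (Additive.toMul y).1) (LinearMap.congr_fun h' (Additive.ofMul (x, 1)))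
  let toG : MulAut Q →* GL (Fin 4) (ZMod 2) := toM.toHomUnits
  have hdet : ∀ φ, (toM φ).det = 1 := by
    intro φ
    have h1 : IsUnit (toM φ).det := (Matrix.isUnit_iff_isUnit_det _).1 (toG φ).isUnit
    generalize (toM φ).det = d at h1
    fin_cases d
    · exact absurd h1 not_isUnit_zero
    · rfl
  let toS : MulAut Q →* SpecialLinearGroup (Fin 4) (ZMod 2) :=
    { toFun := fun φ => ⟨toM φ, hdet φ⟩
      map_one' := Subtype.ext (map_one toM)
      map_mul' := fun φ ψ => Subtype.ext (map_mul toM φ ψ) }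
  have hZ : Subgroup.center (SpecialLinearGroup (Fin 4) (ZMod 2)) = ⊥ := by
    refine Subgroup.card_eq_one.1 ?_
    rw [Classical.card_center_sl, ZMod.card, Fintype.card_fin]; rfl
  obtain ⟨e⟩ := Classical.L34.psl_four_two (F := ZMod 2) (ZMod.card 2)
  refine ⟨e.toMonoidHom.comp ((QuotientGroup.mk' _).comp toS), ?_⟩
  refine e.injective.comp (Function.Injective.comp (g := QuotientGroup.mk' _) ?_ fun φ ψ h => hinj (congrArg Subtype.val h))
  rw [← MonoidHom.ker_eq_bot_iff, QuotientGroup.ker_mk', hZ]


/-- Let X be a finite 2-constrained group with no nontrivial normal subgroup of odd order such that O₂(X) has sectional 2-rank at most 4. Then X/O₂(X) is isomorphic to a subgroup of the alternating group of degree 8. -/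
theorem result {X : Type*} [Group X] [Finite X] (hc : Cfsg.IsPConstrained 2 X) (hO : Cfsg.oddCore X = ⊥)
    (h4 : Cfsg.SectionalPRankLE 2 4 ↥(Cfsg.pCore 2 X)) :
    ∃ f : X ⧸ Cfsg.pCore 2 X →* ↥(alternatingGroup (Fin 8)), Function.Injective f := by
  haveI : Fact (Nat.Prime 2) := ⟨Nat.prime_two⟩
  have hsc : Subgroup.centralizer (Cfsg.pCore 2 X : Set X) ≤ Cfsg.pCore 2 X :=
    Cfsg.Agent.PConstr.pCoreSelfCentral_iff.2 ⟨hc, hO⟩
  set E := Cfsg.pCore 2 X with hE
  have hEp : IsPGroup 2 E := Cfsg.Agent.Core.pCore_isPGroup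
  obtain ⟨n, hn⟩ := IsPGroup.iff_card.1 hEp
  obtain ⟨r, -, hr⟩ := (Nat.dvd_prime_pow Nat.prime_two).1 (hn ▸ Subgroup.index_dvd_card (frattini E))
  obtain ⟨hcomm, hexp⟩ := Cfsg.Agent.FGS.frattini_quotient_props hn
  letI : CommGroup (E ⧸ frattini E) := { (inferInstance : Group (E ⧸ frattini E)) with mul_comm := hcomm }
  -- order of the Frattini quotient
  have hQ : Nat.card (E ⧸ frattini E) ∣ 16 := by
    have h := h4 ⊤ ((frattini E).subgroupOf ⊤)
    let e : ↥(⊤ : Subgroup E) ⧸ (frattini E).subgroupOf ⊤ ≃* E ⧸ frattini E :=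
      QuotientGroup.congr _ _ Subgroup.topEquiv (by
        ext x
        simp [Subgroup.mem_map, Subgroup.mem_subgroupOf])
    have h' := h ⊤ ⟨⟨fun a b => Subtype.ext (e.injective (by simp only [Subgroup.coe_mul, map_mul]; exact hcomm _ _))⟩⟩
      (fun a _ => e.injective (by rw [map_pow, hexp, map_one]))
    rw [Subgroup.card_top, Nat.card_congr e.toEquiv, ← Subgroup.index_eq_card, hr] at h'
    rw [← Subgroup.index_eq_card, hr]
    exact (show (16 : ℕ) = 2 ^ 4 by norm_num) ▸ pow_dvd_pow 2 ((Nat.pow_le_pow_iff_right (by norm_num)).1 h')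
  obtain ⟨f, hf⟩ := exists_embed hexp hQ
  -- the action
  let act : X →* MulAut (E ⧸ frattini E) :=
    { toFun := fun x => QuotientGroup.congr _ _ (MulAut.conjNormal x : MulAut E)
        (Subgroup.characteristic_iff_map_eq.1 inferInstance _)
      map_one' := by
        ext q
        obtain ⟨e, rfl⟩ := QuotientGroup.mk_surjective q
        simp
      map_mul' := fun x y => by
        ext q
        obtain ⟨e, rfl⟩ := QuotientGroup.mk_surjective q
        show (QuotientGroup.mk ((MulAut.conjNormal (x * y) : MulAut E) e) : E ⧸ frattini E) =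
          QuotientGroup.mk ((MulAut.conjNormal x : MulAut E) ((MulAut.conjNormal y : MulAut E) e))
        rw [map_mul]
        rfl }
  have hker_iff : ∀ x : X, x ∈ act.ker ↔ ∀ e : E, (MulAut.conjNormal x : MulAut E) e * e⁻¹ ∈ frattini E := by
    intro x
    rw [MonoidHom.mem_ker]
    constructor
    · intro h e
      have h1 : (QuotientGroup.mk ((MulAut.conjNormal x : MulAut E) e) : E ⧸ frattini E) = QuotientGroup.mk e :=
        congrArg (fun φ : MulAut (E ⧸ frattini E) => φ (QuotientGroup.mk e)) h
      rw [← QuotientGroup.eq_one_iff, QuotientGroup.mk_mul, QuotientGroup.mk_inv, h1, mul_inv_cancel]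
    · intro h
      ext q
      obtain ⟨e, rfl⟩ := QuotientGroup.mk_surjective q
      show (QuotientGroup.mk ((MulAut.conjNormal x : MulAut E) e) : E ⧸ frattini E) = QuotientGroup.mk e
      have h1 := (QuotientGroup.eq_one_iff _).2 (h e)
      rwa [QuotientGroup.mk_mul, QuotientGroup.mk_inv, mul_inv_eq_one] at h1
  have hker : act.ker = E := by
    refine le_antisymm ?_ fun x hx => (hker_iff x).2 fun e => ?_
    · refine Cfsg.Agent.Core.le_pCore (p := 2) (N := act.ker) ?_
      let c : act.ker →* MulAut E := (MulAut.conjNormal).comp act.ker.subtype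
      have hrange := Cfsg.Agent.FGS.card_dvd_of_trivial_on_frattini_quotient hn hr c.range (by
        rintro _ ⟨x, rfl⟩ e
        exact (hker_iff x).1 x.2 e)
      obtain ⟨i, -, hi⟩ := (Nat.dvd_prime_pow Nat.prime_two).1 hrange
      have hkerle : c.ker.map act.ker.subtype ≤ E := by
        rintro _ ⟨x, hx, rfl⟩
        refine hsc (Subgroup.mem_centralizer_iff.2 fun e he => ?_)
        have h1 : (MulAut.conjNormal (x : X) : MulAut E) ⟨e, he⟩ = ⟨e, he⟩ := by
          rw [show MulAut.conjNormal (x : X) = 1 from MonoidHom.mem_ker.1 hx]; rfl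
        have h2 := congrArg Subtype.val h1
        rw [MulAut.conjNormal_apply] at h2
        exact (mul_inv_eq_iff_eq_mul.1 h2).symm
      have hcp : IsPGroup 2 c.ker := (hEp.to_le hkerle).of_equiv
        (Subgroup.equivMapOfInjective _ _ act.ker.subtype_injective).symm
      obtain ⟨j, hj⟩ := IsPGroup.iff_card.1 hcp
      refine IsPGroup.of_card (n := j + i) ?_
      rw [c.ker.card_eq_card_quotient_mul_card_subgroup, hj,
        Nat.card_congr (QuotientGroup.quotientKerEquivRange c).toEquiv, hi, pow_add, mul_comm]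
    · have h1 : (MulAut.conjNormal x : MulAut E) e = ⟨x, hx⟩ * e * ⟨x, hx⟩⁻¹ := Subtype.ext (by simp)
      rw [h1, ← QuotientGroup.eq_one_iff]
      simp only [QuotientGroup.mk_mul, QuotientGroup.mk_inv]
      rw [mul_comm _ (e : E ⧸ frattini E)]
      simp
  refine ⟨f.comp (QuotientGroup.lift E act hker.ge), hf.comp ?_⟩
  rw [← MonoidHom.ker_eq_bot_iff, QuotientGroup.ker_lift, hker, QuotientGroup.map_mk'_self]

end Cfsg.Agent.S3103
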