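import Cfsg.Statements.S3106
import Cfsg.Agent.SecFour.Main

set_option autoImplicit false
open Cfsg

namespace Cfsg.Agent.S3106

/-- Let X be a finite nonsolvable 2-constrained group with no nontrivial normal subgroup of odd order and of sectional 2-rank at most 4, and suppose X/O₂(X) contains a subgroup isomorphic to the alternating group of degree 5. Then O₂(X) is elementary abelian of order 16, or O₂(X) is a central product of a quaternion group of order 8 and a dihedral group of order 8 (it has order 32 and is generated by two elementwise-commuting subgroups, one quaternion of order 8 and one dihedral of order 8, meeting in the centre). -/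
theorem result {X : Type*} [Group X] [Finite X] (hns : ¬ Group.IsSolvable X) (hc : Cfsg.IsPConstrained 2 X) (hO : Cfsg.oddCore X = ⊥)
    (h4 : Cfsg.SectionalPRankLE 2 4 X)
    (hQ : ∃ A : Subgroup (X ⧸ Cfsg.pCore 2 X), Nonempty (↥A ≃* ↥(alternatingGroup (Fin 5)))) :
    (Cfsg.IsElementaryAbelian 2 (Cfsg.pCore 2 X) ∧ Nat.card ↥(Cfsg.pCore 2 X) = 16) ∨
      (Nat.card ↥(Cfsg.pCore 2 X) = 32 ∧ ∃ A B : Subgroup ↥(Cfsg.pCore 2 X),
        Nonempty (↥A ≃* QuaternionGroup 2) ∧ Nonempty (↥B ≃* DihedralGroup 4) ∧ (∀ a ∈ A, ∀ b ∈ B, a * b = b * a) ∧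
          A ⊔ B = ⊤ ∧ A ⊓ B = Subgroup.center ↥(Cfsg.pCore 2 X)) := by
  obtain ⟨A, ⟨e⟩⟩ := hQ
  haveI : Fact (Nat.Prime 2) := ⟨Nat.prime_two⟩
  haveI : Fact (Nat.Prime 5) := ⟨by norm_num⟩
  haveI : IsSimpleGroup ↥(alternatingGroup (Fin 5)) := alternatingGroup.isSimpleGroup (by simp)
  haveI : Nontrivial ↥A := e.toEquiv.nontrivial
  haveI : IsSimpleGroup ↥A := IsSimpleGroup.isSimpleGroup_of_surjective e.symm.toMonoidHom e.symm.surjective
  have hsc : Subgroup.centralizer (Cfsg.pCore 2 X : Set X) ≤ Cfsg.pCore 2 X :=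
    Cfsg.Agent.PConstr.pCoreSelfCentral_iff.2 ⟨hc, hO⟩
  have hQ2 : IsPGroup 2 ↥(Cfsg.pCore 2 X) := Cfsg.Agent.Core.pCore_isPGroup
  set Y := A.comap (QuotientGroup.mk' (Cfsg.pCore 2 X)) with hY
  have hQY : Cfsg.pCore 2 X ≤ Y := fun q hq => Subgroup.mem_comap.2 (by
    rw [QuotientGroup.mk'_apply, (QuotientGroup.eq_one_iff q).2 hq]; exact A.one_mem)
  let π₀ : ↥Y →* ↥A := ((QuotientGroup.mk' (Cfsg.pCore 2 X)).comp Y.subtype).codRestrict A fun y => y.2
  have hπ₀ : Function.Surjective π₀ := by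
    rintro ⟨a, ha⟩
    obtain ⟨x, rfl⟩ := QuotientGroup.mk'_surjective _ a
    exact ⟨⟨x, ha⟩, rfl⟩
  let π : ↥Y →* ↥(alternatingGroup (Fin 5)) := e.toMonoidHom.comp π₀
  have hπ : Function.Surjective π := e.surjective.comp hπ₀
  set Q := (Cfsg.pCore 2 X).subgroupOf Y with hQdef
  have hker : π.ker = Q := by
    ext y
    rw [MonoidHom.mem_ker, hQdef, Subgroup.mem_subgroupOf, ← QuotientGroup.eq_one_iff]
    show e (π₀ y) = 1 ↔ _
    rw [EmbeddingLike.map_eq_one_iff, Subtype.ext_iff]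
    rfl
  have hQp : IsPGroup 2 ↥Q := hQ2.of_equiv (Subgroup.subgroupOfEquivOfLe hQY).symm
  obtain ⟨N, hN⟩ := hQp.exists_card_eq
  have hmem : ∀ y : ↥Y, y ∈ Q ↔ π y = 1 := fun y => by rw [← hker, MonoidHom.mem_ker]
  -- lifting elements of odd order
  have hlift : ∀ (n k : ℕ) (a : ↥(alternatingGroup (Fin 5))), a ^ n = 1 → 2 ∣ k → k ≡ 1 [MOD n] →
      ∃ y : ↥Y, y ^ n = 1 ∧ π y = a := by
    intro n k a ha hk hm
    obtain ⟨y, rfl⟩ := hπ a
    refine ⟨y ^ (k ^ N), ?_, ?_⟩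
    · have h1 : y ^ n ∈ Q := (hmem _).2 (by rw [map_pow, ha])
      have h2 : (⟨y ^ n, h1⟩ : ↥Q) ^ (2 ^ N) = 1 := by rw [← hN]; exact pow_card_eq_one'
      have h3 : (y ^ n) ^ (2 ^ N) = 1 := congrArg Subtype.val h2
      obtain ⟨j, hj⟩ := pow_dvd_pow_of_dvd hk N
      rw [← pow_mul, mul_comm, pow_mul, hj, pow_mul, h3, one_pow]
    · rw [map_pow]
      conv_rhs => rw [← pow_one (π y)]
      exact pow_eq_pow_iff_modEq.2 (by simpa using (Nat.ModEq.pow N hm).of_dvd (orderOf_dvd_of_pow_eq_one ha))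
  obtain ⟨a5, a3, a2, ha5, ha3, ha2, ha25, hn5, hn3, hn2⟩ :
      ∃ a b c : ↥(alternatingGroup (Fin 5)), a ^ 5 = 1 ∧ b ^ 3 = 1 ∧ c * c = 1 ∧ c * a * c⁻¹ = a⁻¹ ∧
        a ≠ 1 ∧ b ≠ 1 ∧ c ≠ 1 :=
    ⟨⟨Equiv.swap 0 1 * Equiv.swap 1 2 * Equiv.swap 2 3 * Equiv.swap 3 4, by
        rw [Equiv.Perm.mem_alternatingGroup]; decide⟩,
      ⟨Equiv.swap 0 1 * Equiv.swap 1 2, by rw [Equiv.Perm.mem_alternatingGroup]; decide⟩,
      ⟨Equiv.swap 1 4 * Equiv.swap 2 3, by rw [Equiv.Perm.mem_alternatingGroup]; decide⟩,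
      by decide, by decide, by decide, by decide, by decide, by decide, by decide⟩
  obtain ⟨f, hf5, hπf⟩ := hlift 5 16 a5 ha5 (by norm_num) (by decide)
  obtain ⟨g, hg3, hπg⟩ := hlift 3 4 a3 ha3 (by norm_num) (by decide)
  obtain ⟨t₁, hπt⟩ := hπ a2
  -- make the involution invert `f`
  obtain ⟨f₁, hf₁5, hπf₁, hf₁⟩ : ∃ y : ↥Y, y ^ 5 = 1 ∧ π y = a5⁻¹ ∧ y = t₁ * f * t₁⁻¹ :=
    ⟨_, by rw [conj_pow, hf5, mul_one, mul_inv_cancel], by rw [map_mul, map_mul, map_inv, hπt, hπf, ha25], rfl⟩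
  let φ : Equiv.Perm ↥Q :=
    { toFun := fun x => ⟨f⁻¹ * (x : ↥Y) * f₁⁻¹, (hmem _).2 (by
        rw [map_mul, map_mul, map_inv, map_inv, hπf, hπf₁, (hmem _).1 x.2]; group)⟩
      invFun := fun x => ⟨f * (x : ↥Y) * f₁, (hmem _).2 (by
        rw [map_mul, map_mul, hπf, hπf₁, (hmem _).1 x.2]; group)⟩
      left_inv := fun x => Subtype.ext (by simp [mul_assoc])
      right_inv := fun x => Subtype.ext (by simp [mul_assoc]) }
  have hφ : ∀ (i : ℕ) (x : ↥Q), ((φ ^ i) x : ↥Y) = (f⁻¹) ^ i * (x : ↥Y) * (f₁⁻¹) ^ i := by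
    intro i
    induction i with
    | zero => simp
    | succ i ih =>
      intro x
      rw [pow_succ', Equiv.Perm.mul_apply]
      show f⁻¹ * ((φ ^ i) x : ↥Y) * f₁⁻¹ = _
      rw [ih x, pow_succ' f⁻¹ i, pow_succ f₁⁻¹ i]
      simp [mul_assoc]
  have hφ5 : φ ^ 5 ^ 1 = 1 := by
    refine Equiv.ext fun x => Subtype.ext ?_
    rw [pow_one, hφ, inv_pow, inv_pow, hf5, hf₁5]
    simp
  classical
  letI := Fintype.ofFinite ↥Q
  obtain ⟨q, hq⟩ := Equiv.Perm.exists_fixed_point_of_prime (p := 5) (n := 1) (by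
    rw [← Nat.card_eq_fintype_card, hN]
    exact fun h => absurd (Nat.prime_five.dvd_of_dvd_pow h) (by norm_num)) hφ5
  have hq' : f⁻¹ * (q : ↥Y) * f₁⁻¹ = q := congrArg Subtype.val hq
  haveI : Q.Normal := hker ▸ π.normal_ker
  have E : Cfsg.Agent.SecFour.Ext ↥Y Q f ((q : ↥Y) * t₁) g := by
    refine ⟨hQp, fun M hM hle => ?_, hf5, hg3, fun h => hn5 (hπf ▸ (hmem _).1 h),
      fun h => hn3 (hπg ▸ (hmem _).1 h), fun h => hn2 ?_, (hmem _).2 ?_, ?_, ?_⟩
    · rcases (hM.map π hπ).eq_bot_or_eq_top with h | h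
      · left
        refine le_antisymm (fun y hy => (hmem y).2 (Subgroup.mem_bot.1 (h ▸ ⟨y, hy, rfl⟩))) hle
      · right
        rw [← Subgroup.comap_map_eq_self (hker.trans_le hle), h, Subgroup.comap_top]
    · have := (hmem _).1 h
      rwa [map_mul, (hmem _).1 q.2, one_mul, hπt] at this
    · rw [map_mul, map_mul, (hmem _).1 q.2, one_mul, hπt, ha2]
    · rw [show (q : ↥Y) * t₁ * f * ((q : ↥Y) * t₁)⁻¹ = (q : ↥Y) * (t₁ * f * t₁⁻¹) * (q : ↥Y)⁻¹ by group, ← hf₁]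
      calc (q : ↥Y) * f₁ * (q : ↥Y)⁻¹ = f⁻¹ * (q : ↥Y) * f₁⁻¹ * f₁ * (q : ↥Y)⁻¹ := by rw [hq']
        _ = f⁻¹ := by group
    · intro H M _ A' hA' hA2
      let e' := H.equivMapOfInjective Y.subtype Y.subtype_injective
      have hn : (M.map e'.toMonoidHom).Normal := Subgroup.Normal.map ‹_› _ e'.surjective
      let qe := QuotientGroup.congr M (M.map e'.toMonoidHom) e' rfl
      have := h4 (H.map Y.subtype) (M.map e'.toMonoidHom) (A'.map qe.toMonoidHom) inferInstance (by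
        rintro _ ⟨a, ha, rfl⟩; rw [← map_pow, hA2 a ha, map_one])
      rwa [Subgroup.card_map_of_injective (show Function.Injective qe.toMonoidHom from qe.injective)] at this
  have hself : Subgroup.centralizer (Q : Set ↥Y) ≤ Q := by
    intro y hy
    refine Subgroup.mem_subgroupOf.2 (hsc (Subgroup.mem_centralizer_iff.2 fun x hx => ?_))
    exact congrArg Subtype.val (Subgroup.mem_centralizer_iff.1 hy ⟨x, hQY hx⟩ (Subgroup.mem_subgroupOf.2 hx))
  let ε : ↥Q ≃* ↥(Cfsg.pCore 2 X) := Subgroup.subgroupOfEquivOfLe hQY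
  rcases E.structure' hself with ⟨h16, hexp⟩ | ⟨Z, hZn, hZQ, hZ, h32, hsq, h12, hcz⟩
  · left
    have hexp' : ∀ a ∈ Cfsg.pCore 2 X, a * a = 1 := fun a ha => by
      have h := congrArg Subtype.val (hexp ⟨a, hQY ha⟩ (Subgroup.mem_subgroupOf.2 ha))
      simpa using h
    refine ⟨⟨⟨⟨fun a b => Subtype.ext ?_⟩⟩, fun a ha => by rw [pow_two]; exact hexp' a ha⟩,
      by rw [← Nat.card_congr ε.toEquiv]; exact h16⟩
    have i1 : ((a : X) * b)⁻¹ = a * b := inv_eq_of_mul_eq_one_right (hexp' _ (mul_mem a.2 b.2))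
    rw [mul_inv_rev, inv_eq_of_mul_eq_one_right (hexp' _ a.2), inv_eq_of_mul_eq_one_right (hexp' _ b.2)] at i1
    exact i1.symm
  · right
    refine ⟨by rw [← Nat.card_congr ε.toEquiv]; exact h32, ?_⟩
    obtain ⟨⟨z, hzZ⟩, hzne, hzu⟩ := (Nat.card_eq_two_iff' (1 : ↥Z)).1 hZ
    have hz1 : z ≠ 1 := fun e => hzne (Subtype.ext e)
    let ζ : ↥(Cfsg.pCore 2 X) := ε ⟨z, hZQ hzZ⟩
    have hmemZ : ∀ r : ↥Q, (r : ↥Y) ∈ Z → ε r = 1 ∨ ε r = ζ := fun r hr => by
      rcases Cfsg.Agent.SecFour.mem_of_card_two hZ hzZ hz1 hr with h | h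
      · exact Or.inl (by rw [show r = 1 from Subtype.ext h, map_one])
      · exact Or.inr (congrArg ε (Subtype.ext h))
    have hcount : Nat.card {x : ↥(Cfsg.pCore 2 X) // x * x = 1} = 12 := by
      rw [← h12]
      refine (Nat.card_congr ((?_ : {x : ↥Y // x ∈ Q ∧ x * x = 1} ≃ {x : ↥Q // x * x = 1}).trans
        (ε.toEquiv.subtypeEquiv fun x => ?_))).symm
      · exact
          { toFun := fun x => ⟨⟨x.1, x.2.1⟩, Subtype.ext x.2.2⟩
            invFun := fun x => ⟨x.1.1, x.1.2, congrArg Subtype.val x.2⟩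
            left_inv := fun x => rfl
            right_inv := fun x => rfl }
      · show x * x = 1 ↔ ε x * ε x = 1
        rw [← map_mul, EmbeddingLike.map_eq_one_iff]
    haveI : Finite ↥Y := inferInstance
    obtain ⟨C, B, hC, hB, hcm, htop, hinf⟩ := Cfsg.Agent.SecFour.central_product
      (R := ↥(Cfsg.pCore 2 X)) (by rw [← Nat.card_congr ε.toEquiv]; exact h32) ζ
      (fun h => hz1 (congrArg Subtype.val (ε.map_eq_one_iff.1 h)))
      (fun x => by
        obtain ⟨r, rfl⟩ := ε.surjective x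
        rw [← map_mul, ← map_mul]
        refine congrArg ε (Subtype.ext ?_)
        haveI : Z.Normal := by assumption
        exact (Subgroup.mem_center_iff.1 (Cfsg.Agent.SecFour.central_of_card_two hZ hzZ) r).symm)
      (fun x => by
        obtain ⟨r, rfl⟩ := ε.surjective x
        rw [← map_mul]
        exact hmemZ (r * r) (hsq r r.2))
      (fun x hx => by
        obtain ⟨r, rfl⟩ := ε.surjective x
        refine hmemZ r (hcz r r.2 fun y hy => ?_)
        have := hx (ε ⟨y, hy⟩)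
        rw [← map_mul, ← map_mul] at this
        exact congrArg Subtype.val (ε.injective this))
      hcount
    exact ⟨C, B, hC, hB, hcm, htop, hinf⟩

end Cfsg.Agent.S3106
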