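import Cfsg.Statements.S3104
import Cfsg.Agent.S3103
import Cfsg.Agent.S2553
import Cfsg.Agent.SubA8.Main
import Cfsg.Agent.SubA8.OddNormal
import Cfsg.Agent.SecFour.NoSix
-- import your own Cfsg.Agent.* helpers here

set_option autoImplicit false
open Cfsg

namespace Cfsg.Agent.S3104

open Cfsg.Agent

/-- a solvable group with a non-trivial normal solvable subgroup has a non-trivial normal abelian one -/
theorem exists_abelian {G : Type*} [Group G] {M : Subgroup G} (hM : M.Normal) (hs : Group.IsSolvable M)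
    (hne : M ≠ ⊥) : ∃ A : Subgroup G, A.Normal ∧ IsMulCommutative A ∧ A ≠ ⊥ := by
  classical
  have hex : ∃ k, derivedSeries M k = ⊥ := hs.solvable
  obtain ⟨k, hk, hkne⟩ : ∃ k, derivedSeries M (k + 1) = ⊥ ∧ derivedSeries M k ≠ ⊥ := by
    rcases h0 : Nat.find hex with _ | k
    · have hk := Nat.find_spec hex
      rw [h0, derivedSeries_zero] at hk
      exact absurd ((Subgroup.eq_bot_iff_forall _).mpr fun x hx => by
        have := (Subgroup.eq_bot_iff_forall _).mp hk ⟨x, hx⟩ trivial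
        exact congrArg Subtype.val this) hne
    · exact ⟨k, h0 ▸ Nat.find_spec hex, fun h => Nat.find_min hex (by omega : k < Nat.find hex) h⟩
  have : (derivedSeries M k).Characteristic := inferInstance
  refine ⟨(derivedSeries M k).map M.subtype, inferInstance, ⟨⟨fun a b => ?_⟩⟩, ?_⟩
  · obtain ⟨a', ha', ha⟩ := Subgroup.mem_map.mp a.2
    obtain ⟨b', hb', hb⟩ := Subgroup.mem_map.mp b.2
    rw [derivedSeries_succ, Subgroup.commutator_eq_bot_iff_le_centralizer] at hk
    have := Subgroup.mem_centralizer_iff.mp (hk ha') b' hb'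
    apply Subtype.ext
    show (a : G) * b = b * a
    rw [← ha, ← hb]
    simpa using (congrArg Subtype.val this).symm
  · rw [Ne, Subgroup.map_eq_bot_iff_of_injective _ M.subtype_injective]
    exact hkne

/-- a non-solvable subgroup of `A₈` with a non-trivial solvable normal subgroup and trivial 2-core -/
theorem not_radFree {H : Subgroup (Equiv.Perm (Fin 8))} (hA : H ≤ alternatingGroup (Fin 8))
    (hns : ¬ Group.IsSolvable H) (h2 : Cfsg.pCore 2 H = ⊥) (hr : ¬ SubA8.RadFree H) :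
    Nat.card (Cfsg.pCore 3 H) = 3 ∧ (Nonempty (H ⧸ Cfsg.pCore 3 H ≃* alternatingGroup (Fin 5)) ∨
      Nonempty (H ⧸ Cfsg.pCore 3 H ≃* Equiv.Perm (Fin 5))) := by
  haveI : Fact (Nat.Prime 2) := ⟨Nat.prime_two⟩
  haveI : Fact (Nat.Prime 3) := ⟨Nat.prime_three⟩
  obtain ⟨M, hM, hs, hne⟩ : ∃ M : Subgroup H, M.Normal ∧ Group.IsSolvable M ∧ M ≠ ⊥ := by
    simp only [SubA8.RadFree, not_forall] at hr
    obtain ⟨M, hM, hs, hne⟩ := hr
    exact ⟨M, hM, hs, hne⟩
  obtain ⟨A, hAn, hAc, hA0⟩ := exists_abelian hM hs hne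
  have hodd : Odd (Nat.card A) := by
    rw [← Nat.not_even_iff_odd, even_iff_two_dvd]
    intro h
    obtain ⟨P⟩ := (inferInstance : Nonempty (Sylow 2 A))
    have hPn : (P : Subgroup A).Normal := ⟨fun x hx g => by
      rw [hAc.1.comm g x, mul_inv_cancel_right]; exact hx⟩
    have : (P : Subgroup A).Characteristic := P.characteristic_of_normal hPn
    have hle := Core.le_pCore (p := 2) (N := (P : Subgroup A).map A.subtype) (P.2.map _)
    rw [h2, le_bot_iff, Subgroup.map_eq_bot_iff_of_injective _ A.subtype_injective] at hle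
    exact P.ne_bot_of_dvd_card h hle
  have hA3 := (SubA8.abelian_normal hA hns hAc hA0 hodd).1
  have hO : A ≤ Cfsg.pCore 3 H := Core.le_pCore (IsPGroup.of_card (n := 1) (by rw [hA3, pow_one]))
  have hO0 : Cfsg.pCore 3 H ≠ ⊥ := fun e => hA0 (le_bot_iff.1 (e ▸ hO))
  obtain ⟨k, hk⟩ := IsPGroup.iff_card.1 (Core.pCore_isPGroup (p := 3) (G := H))
  have hk2 : k ≤ 2 := by
    by_contra hlt
    have h27 : 3 ^ 3 ∣ 20160 := (pow_dvd_pow 3 (by omega : 3 ≤ k)).trans
      (hk ▸ ((Cfsg.pCore 3 H).card_subgroup_dvd_card.trans (SubA8.card_dvd hA)))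
    norm_num at h27
  have hOc : IsMulCommutative (Cfsg.pCore 3 H) := by
    rcases eq_or_ne k 2 with rfl | hk'
    · exact ⟨⟨fun a b => IsPGroup.commutative_of_card_eq_prime_sq hk a b⟩⟩
    · refine ⟨⟨fun a b => ?_⟩⟩
      rcases (show k = 0 ∨ k = 1 by omega) with rfl | rfl
      · haveI := (Nat.card_eq_one_iff_unique.1 (hk.trans (pow_zero 3))).1
        exact Subsingleton.elim _ _
      · haveI := isCyclic_of_prime_card (hk.trans (pow_one 3))
        letI := IsCyclic.commGroup (α := ↥(Cfsg.pCore 3 H))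
        exact mul_comm a b
  refine SubA8.abelian_normal hA hns hOc hO0 ?_
  rw [hk]
  exact Odd.pow (by decide)

/-- Let X be a finite nonsolvable 2-constrained group with no nontrivial normal subgroup of odd order such that O₂(X) has sectional 2-rank at most 4, and write Q for X/O₂(X). Then Q is isomorphic to the projective special linear group of dimension 3 over the field with 2 elements, to an alternating group of degree n with 5 ≤ n ≤ 8, to a symmetric group of degree n with 5 ≤ n ≤ 7, or else O₃(Q) has order 3 and Q/O₃(Q) is isomorphic to the alternating or the symmetric group of degree 5 (so Q is the direct product of a group of order 3 with the alternating group of degree 5, or an extension of that direct product by a group of order 2). If moreover X itself has sectional 2-rank at most 4, then Q is not isomorphic to the symmetric group of degree 6 or 7 nor to the alternating group of degree 8. -/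
theorem result {X : Type*} [Group X] [Finite X] (hns : ¬ Group.IsSolvable X) (hc : Cfsg.IsPConstrained 2 X) (hO : Cfsg.oddCore X = ⊥)
    (h4 : Cfsg.SectionalPRankLE 2 4 ↥(Cfsg.pCore 2 X)) :
    ((∃ (F : Type) (_ : Field F) (_ : Fintype F), Fintype.card F = 2 ∧
          Nonempty (X ⧸ Cfsg.pCore 2 X ≃* Matrix.ProjectiveSpecialLinearGroup (Fin 3) F)) ∨
        (∃ n : ℕ, 5 ≤ n ∧ n ≤ 8 ∧ Nonempty (X ⧸ Cfsg.pCore 2 X ≃* ↥(alternatingGroup (Fin n)))) ∨
        (∃ n : ℕ, 5 ≤ n ∧ n ≤ 7 ∧ Nonempty (X ⧸ Cfsg.pCore 2 X ≃* Equiv.Perm (Fin n))) ∨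
        (Nat.card ↥(Cfsg.pCore 3 (X ⧸ Cfsg.pCore 2 X)) = 3 ∧
          (Nonempty ((X ⧸ Cfsg.pCore 2 X) ⧸ Cfsg.pCore 3 (X ⧸ Cfsg.pCore 2 X) ≃* ↥(alternatingGroup (Fin 5))) ∨
            Nonempty ((X ⧸ Cfsg.pCore 2 X) ⧸ Cfsg.pCore 3 (X ⧸ Cfsg.pCore 2 X) ≃* Equiv.Perm (Fin 5))))) ∧
      (Cfsg.SectionalPRankLE 2 4 X →
        ¬ (Nonempty (X ⧸ Cfsg.pCore 2 X ≃* Equiv.Perm (Fin 6)) ∨ Nonempty (X ⧸ Cfsg.pCore 2 X ≃* Equiv.Perm (Fin 7)) ∨
            Nonempty (X ⧸ Cfsg.pCore 2 X ≃* ↥(alternatingGroup (Fin 8))))) := by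
  haveI : Fact (Nat.Prime 2) := ⟨Nat.prime_two⟩
  obtain ⟨f, hf⟩ := S3103.result hc hO h4
  let f' : X ⧸ Cfsg.pCore 2 X →* Equiv.Perm (Fin 8) := (alternatingGroup (Fin 8)).subtype.comp f
  have hf' : Function.Injective f' := (alternatingGroup (Fin 8)).subtype_injective.comp hf
  let eQ : X ⧸ Cfsg.pCore 2 X ≃* f'.range := MonoidHom.ofInjective hf'
  have hA : f'.range ≤ alternatingGroup (Fin 8) := by
    rintro _ ⟨q, rfl⟩
    exact (f q).2
  have hnsQ : ¬ Group.IsSolvable (X ⧸ Cfsg.pCore 2 X) := by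
    intro h
    obtain ⟨n, hn⟩ := IsPGroup.iff_card.1 (Core.pCore_isPGroup (p := 2) (G := X))
    haveI : Group.IsSolvable (Cfsg.pCore 2 X) := SubA8.solvable_two_primes 2 2 Nat.prime_two Nat.prime_two
      (a := n) (b := 0) (by rw [hn, pow_zero, mul_one])
    exact hns (Group.isSolvable_of_ker_le_range (Cfsg.pCore 2 X).subtype (QuotientGroup.mk' (Cfsg.pCore 2 X)) (by rw [QuotientGroup.ker_mk', Subgroup.range_subtype]))
  have hnsH : ¬ Group.IsSolvable f'.range := fun h =>
    hnsQ (Group.isSolvable_of_isSolvable_injective (f := eQ.toMonoidHom) eQ.injective)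
  have h2H : Cfsg.pCore 2 f'.range = ⊥ := by
    rw [← Core.map_pCore eQ, Core.pCore_quotient_eq_bot, Subgroup.map_bot]
  refine ⟨?_, fun hX h => ?_⟩
  · by_cases hr : SubA8.RadFree f'.range
    · obtain ⟨e4⟩ := S2553.gl_to_psl (n := 4)
      obtain ⟨e8⟩ := Classical.L34.psl_four_two (F := ZMod 2) (by simp)
      let j : f'.range →* GL (Fin 4) (ZMod 2) :=
        (e4.trans e8).symm.toMonoidHom.comp (Subgroup.inclusion hA)
      have hj : Function.Injective j := (e4.trans e8).symm.injective.comp (Subgroup.inclusion_injective hA)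
      have hne : f'.range ≠ ⊥ := fun e => hnsH (by rw [e]; exact SubA8.isSolvable_comm fun a b => Subsingleton.elim _ _)
      rcases SubA8.classify hA hr hne j hj with ⟨n, h5, h8, ⟨i⟩⟩ | ⟨⟨i⟩⟩ | ⟨⟨i⟩⟩ | ⟨⟨i⟩⟩
      · exact Or.inr (Or.inl ⟨n, h5, h8, ⟨eQ.trans i⟩⟩)
      · exact Or.inr (Or.inr (Or.inl ⟨5, le_rfl, by norm_num, ⟨eQ.trans i⟩⟩))
      · exact Or.inr (Or.inr (Or.inl ⟨6, by norm_num, by norm_num, ⟨eQ.trans i⟩⟩))
      · obtain ⟨e7⟩ := Classical.Small.psl_seven_three (F := ZMod 7) (K := ZMod 2) (by simp) (by simp)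
        exact Or.inl ⟨ZMod 2, inferInstance, inferInstance, ZMod.card 2, ⟨(eQ.trans i).trans e7⟩⟩
    · obtain ⟨h3, h5⟩ := not_radFree hA hnsH h2H hr
      have hm := Core.map_pCore (p := 3) eQ
      refine Or.inr (Or.inr (Or.inr ⟨?_, ?_⟩))
      · have h3' := h3
        rw [← hm, Subgroup.card_map_of_injective (f := eQ.toMonoidHom) eQ.injective] at h3'
        exact h3'
      · exact h5.imp (fun ⟨i⟩ => ⟨(QuotientGroup.congr _ _ eQ hm).trans i⟩)
          fun ⟨i⟩ => ⟨(QuotientGroup.congr _ _ eQ hm).trans i⟩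
  · obtain ⟨φ, hφ⟩ : ∃ φ : Equiv.Perm (Fin 6) →* X ⧸ Cfsg.pCore 2 X, Function.Injective φ := by
      rcases h with ⟨⟨i⟩⟩ | ⟨⟨i⟩⟩ | ⟨⟨i⟩⟩
      · exact ⟨i.symm.toMonoidHom, i.symm.injective⟩
      · exact ⟨i.symm.toMonoidHom.comp (Equiv.Perm.viaEmbeddingHom Fin.castSuccEmb),
          i.symm.injective.comp (Equiv.Perm.viaEmbeddingHom_injective _)⟩
      · let sg : Equiv.Perm (Fin 6) →* ↥(alternatingGroup (Fin 8)) :=
          { toFun := fun g => ⟨((Equiv.Perm.sumCongr g (if Equiv.Perm.sign g = 1 then 1 else Equiv.swap 0 1 : Equiv.Perm (Fin 2))) : Equiv.Perm (Fin 6 ⊕ Fin 2)) |> finSumFinEquiv.permCongr, by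
              rw [Equiv.Perm.mem_alternatingGroup, Equiv.Perm.sign_permCongr, Equiv.Perm.sign_sumCongr]
              rcases Int.units_eq_one_or (Equiv.Perm.sign g) with h | h <;> simp [h, Equiv.Perm.sign_swap]⟩
            map_one' := Subtype.ext (Equiv.ext fun x => by simp)
            map_mul' := fun g g' => Subtype.ext (by
              show finSumFinEquiv.permCongr _ = finSumFinEquiv.permCongr _ * finSumFinEquiv.permCongr _
              rw [← Equiv.permCongr_mul, Equiv.Perm.sumCongr_mul]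
              rcases Int.units_eq_one_or (Equiv.Perm.sign g) with h | h <;>
                rcases Int.units_eq_one_or (Equiv.Perm.sign g') with h' | h' <;> simp [h, h']) }
        refine ⟨i.symm.toMonoidHom.comp sg, i.symm.injective.comp fun g g' e => ?_⟩
        have e' := finSumFinEquiv.permCongr.injective (congrArg Subtype.val e)
        exact congrArg Prod.fst (Equiv.Perm.sumCongrHom_injective (a₁ := (g, _)) (a₂ := (g', _)) e')
    exact SecFour.no_six hns hc hO hX φ hφ

end Cfsg.Agent.S3104
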