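import Cfsg.Statements.S3105
import Cfsg.Agent.LinRad.Main
import Cfsg.Agent.PConstr.Local
import Cfsg.Agent.S0243
import Cfsg.Agent.S0249
-- import your own Cfsg.Agent.* helpers here

set_option autoImplicit false
open Cfsg

namespace Cfsg.Agent.S3105

/-- Let X be a finite nonsolvable 2-constrained group with no nontrivial normal subgroup of odd order and of sectional 2-rank at most 4, and suppose X/O₂(X) is isomorphic to the projective special linear group of dimension 3 over the field with 2 elements. Then O₂(X) is elementary abelian of order 8 or 16, or is isomorphic to the direct product of a cyclic group of order 4 and an elementary abelian group of order 8. -/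
theorem result {X : Type*} [Group X] [Finite X] (hns : ¬ Group.IsSolvable X) (hc : Cfsg.IsPConstrained 2 X) (hO : Cfsg.oddCore X = ⊥)
    (h4 : Cfsg.SectionalPRankLE 2 4 X) {F : Type*} [Field F] [Fintype F] (hF : Fintype.card F = 2)
    (hQ : Nonempty (X ⧸ Cfsg.pCore 2 X ≃* Matrix.ProjectiveSpecialLinearGroup (Fin 3) F)) :
    (Cfsg.IsElementaryAbelian 2 (Cfsg.pCore 2 X) ∧ (Nat.card ↥(Cfsg.pCore 2 X) = 8 ∨ Nat.card ↥(Cfsg.pCore 2 X) = 16)) ∨
      Nonempty (↥(Cfsg.pCore 2 X) ≃* Multiplicative (ZMod 4) × (Fin 3 → Multiplicative (ZMod 2))) := by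
  haveI : Fact (Nat.Prime 2) := ⟨Nat.prime_two⟩
  have hsc : Subgroup.centralizer (Cfsg.pCore 2 X : Set X) ≤ Cfsg.pCore 2 X :=
    Cfsg.Agent.PConstr.pCoreSelfCentral_iff.2 ⟨hc, hO⟩
  set Q := Cfsg.pCore 2 X with hQdef
  have hQ2 : IsPGroup 2 ↥Q := Cfsg.Agent.Core.pCore_isPGroup
  obtain ⟨e⟩ := hQ
  have hcard : Nat.card (Matrix.ProjectiveSpecialLinearGroup (Fin 3) F) = 168 := by
    have h := S0243.result hF 3 (by norm_num)
    simp only [Fin.prod_univ_three, Fin.val_zero, Fin.val_one, Fin.val_two] at h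
    norm_num at h
    exact h
  haveI := S0249.result (F := F) 3 le_rfl
  haveI : Nontrivial (X ⧸ Q) := e.toEquiv.nontrivial
  haveI : IsSimpleGroup (X ⧸ Q) := IsSimpleGroup.isSimpleGroup_of_surjective e.symm.toMonoidHom e.symm.surjective
  have S : LinRad.Setup X Q := by
    refine ⟨hQ2, h4, by rw [Subgroup.index_eq_card, Nat.card_congr e.toEquiv, hcard], fun N hN hQN => ?_,
      fun c _ hcQ => ?_⟩
    · rcases (inferInstance : IsSimpleGroup (X ⧸ Q)).eq_bot_or_eq_top_of_normal _
        (hN.map (QuotientGroup.mk' Q) (QuotientGroup.mk'_surjective Q)) with h | h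
      · left
        refine le_antisymm (fun x hx => (QuotientGroup.eq_one_iff x).1 ?_) hQN
        exact Subgroup.mem_bot.1 (h ▸ Subgroup.mem_map_of_mem (QuotientGroup.mk' Q) hx)
      · right
        refine eq_top_iff.2 fun x _ => LinRad.mem_map_mk hQN (h ▸ Subgroup.mem_top _)
    · by_contra! hh
      exact hcQ (hsc (Subgroup.mem_centralizer_iff.2 fun q hq => (hh q hq).symm))
  rcases LinRad.Setup.good (Nat.card X) X Q rfl S with ⟨hexp, hor⟩ | ⟨h32, hab, hP⟩
  · left
    refine ⟨⟨⟨⟨fun a b => Subtype.ext (LinRad.comm_of_sq hexp _ a.2 _ b.2)⟩⟩, fun a ha => ?_⟩, hor⟩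
    rw [pow_two]; exact hexp a ha
  · exact Or.inr (LinRad.good_iso h32 hab hP)

end Cfsg.Agent.S3105
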