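import Cfsg.Statements.S3113
import Cfsg.Agent.DihProd.Main
import Cfsg.Agent.ProdFusion.Direct

set_option autoImplicit false
open Cfsg

namespace Cfsg.Agent.S3113

/-- Let G be a finite group with no nontrivial normal subgroup of odd order, no proper normal subgroup of odd index and no normal subgroup of index 2, whose Sylow 2-subgroup S is non-abelian and is the internal direct product of two dihedral subgroups (each of order at least 4). Then G is the internal direct product of two normal subgroups G₁ and G₂, and for a suitable such factorization of S into dihedral subgroups S₁ × S₂ the factor Sᵢ is a Sylow 2-subgroup of Gᵢ for i = 1, 2. -/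
theorem result {G : Type*} [Group G] [Finite G] (hO : Cfsg.oddCore G = ⊥) (hidx : ∀ N : Subgroup G, N.Normal → Odd N.index → N = ⊤)
    (h2 : ∀ N : Subgroup G, N.Normal → N.index ≠ 2)
    (S : Sylow 2 G) (hS : ¬ IsMulCommutative ↥(S : Subgroup G))
    (D₁ D₂ : Subgroup G) (hD : Cfsg.IsInternalDirectProduct D₁ D₂ (S : Subgroup G))
    (hD₁ : ∃ m : ℕ, 2 ≤ m ∧ Nonempty (↥D₁ ≃* DihedralGroup m)) (hD₂ : ∃ m : ℕ, 2 ≤ m ∧ Nonempty (↥D₂ ≃* DihedralGroup m)) :
    ∃ G₁ G₂ : Subgroup G, G₁.Normal ∧ G₂.Normal ∧ Cfsg.IsInternalDirectProduct G₁ G₂ ⊤ ∧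
      ∃ S₁ S₂ : Subgroup G, Cfsg.IsInternalDirectProduct S₁ S₂ (S : Subgroup G) ∧
        (∃ m : ℕ, 2 ≤ m ∧ Nonempty (↥S₁ ≃* DihedralGroup m)) ∧ (∃ m : ℕ, 2 ≤ m ∧ Nonempty (↥S₂ ≃* DihedralGroup m)) ∧
        S₁ ≤ G₁ ∧ S₂ ≤ G₂ ∧ ¬ (2 ∣ (S₁.subgroupOf G₁).index) ∧ ¬ (2 ∣ (S₂.subgroupOf G₂).index) := by
  obtain ⟨S₁, S₂, hprod, hS₁, hS₂, hcl₁, hcl₂⟩ := DihProd.product_fusion h2 hS hD hD₁ hD₂
  obtain ⟨h1, h2', hc, hd, hsup⟩ := hprod
  have hset : ProdFusion.Setting S S₁ S₂ := ⟨hcl₁, hcl₂, hc, hd⟩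
  have hsup' : S₂ ⊔ S₁ = (S : Subgroup G) := by rw [sup_comm]; exact hsup
  set N₁ := Subgroup.normalClosure (S₁ : Set G) with hN₁
  set N₂ := Subgroup.normalClosure (S₂ : Set G) with hN₂
  have htop : N₁ ⊔ N₂ = ⊤ := by
    refine hidx _ inferInstance ?_
    refine Nat.not_even_iff_odd.1 fun he => ?_
    haveI : Fact (Nat.Prime 2) := ⟨Nat.prime_two⟩
    have hle : (S : Subgroup G) ≤ N₁ ⊔ N₂ := hsup ▸ sup_le_sup Subgroup.le_normalClosure
      Subgroup.le_normalClosure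
    exact S.not_dvd_index ((even_iff_two_dvd.1 he).trans (Subgroup.index_dvd_of_le hle))
  refine ⟨N₁, N₂, inferInstance, inferInstance,
    ⟨le_top, le_top, fun a ha b hb => hset.closures_commute hO ha hb,
      hset.closures_disjoint hO hsup, htop⟩,
    S₁, S₂, ⟨h1, h2', hc, hd, hsup⟩, hS₁, hS₂,
    Subgroup.le_normalClosure, Subgroup.le_normalClosure, ?_, ?_⟩
  · exact fun hdvd => (Nat.not_even_iff_odd.2 (hset.sylow_odd hO hsup)) (even_iff_two_dvd.2 hdvd)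
  · exact fun hdvd => (Nat.not_even_iff_odd.2 (hset.symm.sylow_odd hO hsup'))
      (even_iff_two_dvd.2 hdvd)

end Cfsg.Agent.S3113
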