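import Cfsg.Statements.S3122
import Cfsg.Agent.Co3TwoM12.Main

set_option autoImplicit false
open Cfsg

namespace Cfsg.Agent.S3122

/-- Let G be a non-abelian finite simple group containing an involution t whose centralizer is isomorphic to the direct product of a group of order 2 and the Mathieu group of degree 12. Then G is isomorphic to the third Conway group. -/
theorem result {G : Type*} [Group G] [Finite G] [IsSimpleGroup G] (hG : ¬ IsMulCommutative G)
    (t : G) (ht : orderOf t = 2)
    (hC : Nonempty (↥(Subgroup.centralizer ({t} : Set G)) ≃* Multiplicative (ZMod 2) × ↥Cfsg.Spor.M12)) :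
    Cfsg.Spor.IsoCo3 G := by
  exact Co3TwoM12.iso_co3 t ht hC (by rw [Co3TwoM12.pResidual_simple hG]; trivial)

end Cfsg.Agent.S3122
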