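import Cfsg.Statements.S3149
import Cfsg.Agent.S1754
import Cfsg.Agent.Invol.ZStar
import Cfsg.Agent.StdRu.Cover
import Cfsg.Agent.StdRu.Fusion
-- import your own Cfsg.Agent.* helpers here

set_option autoImplicit false
open Cfsg

namespace Cfsg.Agent.S3149

/-- Let G be a finite group with no nontrivial normal subgroup of odd order and A a standard subgroup of G which is a double cover of the Rudvalis group (the centre of A has order 2 and A modulo its centre is isomorphic to the Rudvalis group). If the centralizer of A in G has cyclic Sylow 2-subgroups, then A is normal in G. -/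
theorem result {G : Type*} [Group G] [Finite G] (hO : Cfsg.oddCore G = ⊥) (A : Subgroup G) (hA : Cfsg.IsStandardSubgroup A)
    (hZ : Nat.card ↥(Subgroup.center ↥A) = 2) (hAX : Cfsg.Spor.IsoRu (↥A ⧸ Subgroup.center ↥A))
    (hR : ∀ R : Sylow 2 ↥(Subgroup.centralizer (A : Set G)), IsCyclic ↥(R : Subgroup ↥(Subgroup.centralizer (A : Set G)))) : A.Normal := by
  classical
  have : Fact (Nat.Prime 2) := ⟨Nat.prime_two⟩
  obtain ⟨e⟩ := StdRu.iso_cover hA.1 hZ hAX
  let φ : StdRu.Mg →* G := A.subtype.comp e.toMonoidHom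
  have hinj : Function.Injective φ := A.subtype_injective.comp e.injective
  have hrange : φ.range = A := by
    rw [MonoidHom.range_comp, MonoidHom.range_eq_top.2 e.surjective, ← MonoidHom.range_eq_map,
      Subgroup.range_subtype]
  have hcen : ∀ x ∈ Subgroup.center StdRu.Mg, x = 1 ∨ x = StdRu.zc := by
    have h2 : Nat.card ↥(Subgroup.center StdRu.Mg) = 2 :=
      (Nat.card_congr (Subgroup.centerCongr e).toEquiv).trans hZ
    intro x hx
    by_contra hne
    rw [not_or] at hne
    obtain ⟨p, q, hpq, hu⟩ := Nat.card_eq_two_iff.1 h2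
    have h1 : ∀ y : ↥(Subgroup.center StdRu.Mg), y = p ∨ y = q := fun y => by
      have := (Set.ext_iff.1 hu y).2 (Set.mem_univ _)
      simpa using this
    rcases h1 ⟨x, hx⟩ with a | a <;> rcases h1 ⟨StdRu.zc, StdRu.zc_center⟩ with b | b <;>
      rcases h1 1 with c | c
    all_goals first
      | exact hne.2 (congrArg Subtype.val (a.trans b.symm))
      | exact hne.1 (congrArg Subtype.val (a.trans c.symm))
      | exact StdRu.zc_ne (congrArg Subtype.val (b.trans c.symm))
  have hzK : φ StdRu.zc ∈ Subgroup.centralizer (A : Set G) := by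
    refine Subgroup.mem_centralizer_iff.2 fun a ha => ?_
    obtain ⟨m, rfl⟩ : a ∈ φ.range := hrange.symm ▸ ha
    rw [← map_mul, ← map_mul, StdRu.zc_comm]
  have hz2 : orderOf (φ StdRu.zc) = 2 :=
    orderOf_eq_prime (by rw [pow_two, ← map_mul, StdRu.zc_sq, map_one])
      ((map_ne_one_iff _ hinj).2 StdRu.zc_ne)
  have hNA : ∀ h : G, h * φ StdRu.zc = φ StdRu.zc * h → h ∈ Subgroup.normalizer (A : Set G) :=
    fun h hh => (Cfsg.Agent.S1754.result A hA _ hz2 hzK).1
      (Subgroup.mem_centralizer_singleton_iff.2 hh)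
  have hsplit : ∀ h : G, h * φ StdRu.zc = φ StdRu.zc * h →
      ∃ m : StdRu.Mg, ∃ k ∈ Subgroup.centralizer (φ.range : Set G), h = φ m * k := by
    intro h hh
    have hn := Subgroup.mem_normalizer_iff.1 (hNA h hh)
    have hin : ∀ m, ∃ n, φ n = h * φ m * h⁻¹ := fun m => by
      have : h * φ m * h⁻¹ ∈ φ.range := by
        rw [hrange]; exact (hn _).1 (hrange ▸ ⟨m, rfl⟩)
      exact this
    choose f hf using hin
    have hfmul : ∀ m n, f (m * n) = f m * f n := fun m n => hinj (by
      rw [hf, map_mul, map_mul, hf, hf]; group)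
    let α₀ : StdRu.Mg →* StdRu.Mg := MonoidHom.mk' f hfmul
    have hαinj : Function.Injective α₀ := fun m n e' => hinj (by
      have h' := congrArg φ (show f m = f n from e')
      rw [hf, hf] at h'
      exact mul_left_cancel (mul_right_cancel h'))
    obtain ⟨g, hg⟩ := StdRu.aut_inner
      (MulEquiv.ofBijective α₀ ⟨hαinj, Finite.injective_iff_surjective.1 hαinj⟩)
    refine ⟨g, (φ g)⁻¹ * h, Subgroup.mem_centralizer_iff.2 ?_, (mul_inv_cancel_left _ _).symm⟩
    rintro _ ⟨m, rfl⟩
    have h1 : h * φ m * h⁻¹ = φ g * φ m * (φ g)⁻¹ := by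
      rw [← hf m, ← map_inv, ← map_mul, ← map_mul]
      exact congrArg φ (DFunLike.congr_fun hg m)
    calc φ m * ((φ g)⁻¹ * h) = (φ g)⁻¹ * (φ g * φ m * (φ g)⁻¹) * h := by group
      _ = _ := by rw [← h1]; group
  set K := Subgroup.centralizer (A : Set G) with hK
  have huniq : ∀ k ∈ K, k * k = 1 → k = 1 ∨ k = φ StdRu.zc := by
    intro k hk hk2
    have hzc : ∀ j : ↥K, j * (⟨_, hzK⟩ : ↥K) = ⟨_, hzK⟩ * j := fun j => by
      refine Subtype.ext ?_
      have : φ StdRu.zc ∈ A := hrange ▸ ⟨_, rfl⟩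
      exact (Subgroup.mem_centralizer_iff.1 j.2 _ this).symm
    by_cases hk1 : k = 1
    · exact Or.inl hk1
    have h2 : ∀ j : ↥K, (j : G) * (j : G) = 1 → IsPGroup 2 ↥(Subgroup.zpowers j) := fun j hj =>
      StdRu.two_group_zpowers (n := 1) (by rw [pow_one, pow_two]; exact Subtype.ext hj)
    obtain ⟨Q, hQ⟩ := (h2 ⟨k, hk⟩ hk2).exists_le_sylow
    obtain ⟨Q', hQ'⟩ := (h2 ⟨_, hzK⟩ (by
      show φ StdRu.zc * φ StdRu.zc = 1
      rw [← map_mul, StdRu.zc_sq, map_one])).exists_le_sylow
    obtain ⟨c, hc⟩ := MulAction.exists_smul_eq ↥K Q' Q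
    have hzQ : (⟨_, hzK⟩ : ↥K) ∈ (Q : Subgroup ↥K) := by
      rw [← hc, Sylow.coe_subgroup_smul]
      have hm := Subgroup.smul_mem_pointwise_smul _ (MulAut.conj c) _ (hQ' (Subgroup.mem_zpowers _))
      have e' : (MulAut.conj c) • (⟨_, hzK⟩ : ↥K) = ⟨_, hzK⟩ := by
        show c * (⟨_, hzK⟩ : ↥K) * c⁻¹ = _
        rw [hzc, mul_inv_cancel_right]
      rwa [e'] at hm
    have : IsCyclic ↥(Q : Subgroup ↥K) := hR Q
    have : Fintype ↥(Q : Subgroup ↥K) := Fintype.ofFinite _
    right
    by_contra hne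
    have hle := IsCyclic.card_pow_eq_one_le (α := ↥(Q : Subgroup ↥K)) (n := 2) (by norm_num)
    let a : ↥(Q : Subgroup ↥K) := ⟨⟨k, hk⟩, hQ (Subgroup.mem_zpowers _)⟩
    let b : ↥(Q : Subgroup ↥K) := ⟨⟨_, hzK⟩, hzQ⟩
    have hsub : ({1, a, b} : Finset ↥(Q : Subgroup ↥K)) ⊆ Finset.univ.filter fun x => x ^ 2 = 1 := by
      intro x hx
      simp only [Finset.mem_insert, Finset.mem_singleton] at hx
      rw [Finset.mem_filter]
      refine ⟨Finset.mem_univ _, ?_⟩
      rcases hx with rfl | rfl | rfl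
      · exact one_pow 2
      · rw [pow_two]; exact Subtype.ext (Subtype.ext hk2)
      · rw [pow_two]; exact Subtype.ext (Subtype.ext (by
          show φ StdRu.zc * φ StdRu.zc = 1
          rw [← map_mul, StdRu.zc_sq, map_one]))
    have hcard : ({1, a, b} : Finset ↥(Q : Subgroup ↥K)).card = 3 := by
      refine Finset.card_eq_three.2 ⟨1, a, b, ?_, ?_, ?_, rfl⟩
      · exact fun h => hk1 (congrArg (fun x : ↥(Q : Subgroup ↥K) => ((x : ↥K) : G)) h).symm
      · exact fun h => (map_ne_one_iff _ hinj).2 StdRu.zc_ne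
          (congrArg (fun x : ↥(Q : Subgroup ↥K) => ((x : ↥K) : G)) h).symm
      · exact fun h => hne (congrArg (fun x : ↥(Q : Subgroup ↥K) => ((x : ↥K) : G)) h)
    have := (Finset.card_le_card hsub).trans hle
    omega
  let B : StdRu.Base G :=
    { φ := φ
      inj := hinj
      split := hsplit
      center := hcen
      uniq := fun k hk => huniq k (by rw [hK, ← hrange]; exact hk) }
  have hBK : B.K = K := by
    show Subgroup.centralizer (φ.range : Set G) = _
    rw [hK, hrange]
  have hcyc : IsCyclic ↥(B.R : Subgroup ↥B.K) := by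
    have key : ∀ L : Subgroup G, L = K → ∀ P : Sylow 2 ↥L, IsCyclic ↥(P : Subgroup ↥L) := by
      rintro L rfl P; exact hR P
    exact key _ hBK B.R
  have hiso := B.isolated hcyc
  have hzc : ∀ g : G, φ StdRu.zc * g * (φ StdRu.zc)⁻¹ * g⁻¹ = 1 := fun g => by
    have := Cfsg.Agent.Invol.zstar hiso g
    rwa [hO, Subgroup.mem_bot] at this
  refine Subgroup.normalizer_eq_top_iff.1 ((Subgroup.eq_top_iff' _).2 fun g => hNA g ?_)
  have := hzc g
  rw [mul_inv_eq_one, mul_inv_eq_iff_eq_mul] at this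
  exact this.symm

end Cfsg.Agent.S3149
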