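import Cfsg.Statements.S3153
import Cfsg.Agent.S1754
import Cfsg.Agent.Coprime.Generation
import Cfsg.Agent.Layer.Intrinsic
import Cfsg.Agent.Core.Solvable

set_option autoImplicit false
open Cfsg

namespace Cfsg.Agent.S3153

open Subgroup
open scoped commutatorElement

/-- Two commuting involutory operators with the same fixed points on a group of odd order: their
product centralises it. -/
theorem le_centralizer_mul {X : Type*} [Group X] [Finite X] {O : Subgroup X} {a b : X}
    (hO : Odd (Nat.card O)) (ha : a * a = 1) (hb : b * b = 1) (hab : a * b = b * a)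
    (haO : a ∈ normalizer (O : Set X)) (hbO : b ∈ normalizer (O : Set X))
    (h : O ⊓ centralizer ({a} : Set X) = O ⊓ centralizer ({b} : Set X)) :
    O ≤ centralizer ({a * b} : Set X) := by
  set V := closure ({a, b} : Set X) with hV
  haveI : IsMulCommutative V := isMulCommutative_closure (by
    rintro x (rfl | rfl) y (rfl | rfl)
    exacts [rfl, hab, hab.symm, rfl])
  have hpow : ∀ u : X, u * u = 1 → ∀ i : ℤ, u ^ i = 1 ∨ u ^ i = u := by
    intro u hu i
    have h2 : u ^ (2 : ℤ) = 1 := by rw [zpow_ofNat, pow_two, hu]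
    rcases Int.even_or_odd i with ⟨m, rfl⟩ | ⟨m, rfl⟩
    · left; rw [← two_mul, zpow_mul, h2, one_zpow]
    · right; rw [zpow_add, zpow_mul, h2, one_zpow, one_mul, zpow_one]
  have hmem : ∀ v ∈ V, v = 1 ∨ v = a ∨ v = b ∨ v = a * b := by
    intro v hv
    have hle : V ≤ zpowers a ⊔ zpowers b := (closure_le _).mpr (by
      rintro x (rfl | rfl)
      exacts [mem_sup_left (mem_zpowers _), mem_sup_right (mem_zpowers _)])
    have hn : zpowers a ≤ normalizer (zpowers b : Set X) := by
      refine le_trans (zpowers_le.mpr ?_) (centralizer_le_normalizer _)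
      refine mem_centralizer_iff.mpr fun y hy => ?_
      obtain ⟨i, rfl⟩ := mem_zpowers_iff.mp hy
      exact ((show Commute a b from hab).zpow_right i).eq.symm
    have hv' := hle hv
    rw [← SetLike.mem_coe, coe_mul_of_left_le_normalizer_right _ _ hn] at hv'
    obtain ⟨y, hy, z, hz, rfl⟩ := hv'
    obtain ⟨i, rfl⟩ := mem_zpowers_iff.mp hy
    obtain ⟨j, rfl⟩ := mem_zpowers_iff.mp hz
    rcases hpow a ha i with e | e <;> rcases hpow b hb j with e' | e' <;> simp [e, e']
  have hVN : V ≤ normalizer (O : Set X) := (closure_le _).mpr (by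
    rintro x (rfl | rfl) <;> assumption)
  have hsq : ∀ v ∈ V, v ^ 2 = 1 := by
    intro v hv
    rw [pow_two]
    rcases hmem v hv with rfl | rfl | rfl | rfl
    exacts [one_mul 1, ha, hb, by rw [mul_assoc, ← mul_assoc b a b, ← hab, mul_assoc a b b, hb, mul_one, ha]]
  have hcop : (Nat.card V).Coprime (Nat.card O) := by
    obtain ⟨n, hn⟩ := IsPGroup.iff_card.mp
      (show IsPGroup 2 V from fun v => ⟨1, Subtype.ext (by simpa using hsq v v.2)⟩)
    rw [hn]
    exact (Nat.coprime_two_left.mpr hO).pow_left n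
  rw [← Coprime.iSup_cocyclic_centralizer_eq hVN hcop]
  refine iSup₂_le fun B hB => ?_
  obtain ⟨hBV, v, hv, hBv⟩ := hB
  have haV : a ∈ V := subset_closure (by simp)
  have hbV : b ∈ V := subset_closure (by simp)
  by_cases hB1 : B = ⊥
  · -- `V` is cyclic, so `a`, `b` are in `{1, v}`
    rw [hB1, bot_sup_eq] at hBv
    have key : ∀ x ∈ V, x = 1 ∨ x = v := by
      intro x hx
      rw [← hBv, mem_zpowers_iff] at hx
      obtain ⟨k, rfl⟩ := hx
      have h2 : v ^ (2 : ℤ) = 1 := by exact_mod_cast hsq v hv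
      rcases Int.even_or_odd k with ⟨m, rfl⟩ | ⟨m, rfl⟩
      · left; rw [← two_mul, zpow_mul, h2, one_zpow]
      · right; rw [zpow_add, zpow_mul, h2, one_zpow, one_mul, zpow_one]
    intro x hx
    refine mem_centralizer_singleton_iff.mpr ?_
    have hv' : v * v = 1 := pow_two v ▸ hsq v hv
    have comm : ∀ y : X, y ∈ ({a, b} : Set X) → O ⊓ centralizer ({y} : Set X) = O →
        y * x = x * y := fun y _ hy => by
      have := (hy.symm ▸ hx.1 : x ∈ O ⊓ centralizer ({y} : Set X)).2
      exact (mem_centralizer_singleton_iff.mp this).symm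
    rcases key a haV with ha1 | hav <;> rcases key b hbV with hb1 | hbv
    · simp [ha1, hb1]
    · have hfix : O ⊓ centralizer ({b} : Set X) = O := by
        rw [← h, ha1, inf_eq_left]
        exact fun y _ => mem_centralizer_singleton_iff.mpr (by simp)
      rw [ha1, one_mul]
      exact (comm b (by simp) hfix).symm
    · have hfix : O ⊓ centralizer ({a} : Set X) = O := by
        rw [h, hb1, inf_eq_left]
        exact fun y _ => mem_centralizer_singleton_iff.mpr (by simp)
      rw [hb1, mul_one]
      exact (comm a (by simp) hfix).symm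
    · simp [hav, hbv, hv']
  · obtain ⟨z', hz'⟩ := Subgroup.ne_bot_iff_exists_ne_one.mp hB1
    obtain ⟨z, hz, hz1⟩ : ∃ z : X, z ∈ B ∧ z ≠ 1 := ⟨z', z'.2, fun e => hz' (Subtype.ext e)⟩
    intro x hx
    have hxz : x ∈ O ⊓ centralizer ({z} : Set X) :=
      ⟨hx.1, centralizer_le (Set.singleton_subset_iff.mpr hz) hx.2⟩
    rcases hmem z (hBV hz) with rfl | rfl | rfl | rfl
    · exact absurd rfl hz1
    · have h2 := mem_centralizer_singleton_iff.mp hxz.2
      have h3 := mem_centralizer_singleton_iff.mp (h ▸ hxz : x ∈ O ⊓ centralizer ({b} : Set X)).2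
      exact mem_centralizer_singleton_iff.mpr (by rw [← mul_assoc, h2, mul_assoc, h3, ← mul_assoc])
    · have h2 := mem_centralizer_singleton_iff.mp hxz.2
      have h3 := mem_centralizer_singleton_iff.mp (h.symm ▸ hxz : x ∈ O ⊓ centralizer ({a} : Set X)).2
      exact mem_centralizer_singleton_iff.mpr (by rw [← mul_assoc, h3, mul_assoc, h2, ← mul_assoc])
    · exact hxz.2


/-- Let X be a finite group and P a standard subgroup of X whose centralizer has 2-rank at most 1 and whose centre has odd order. Let S be a Sylow 2-subgroup of N_X(P) and t an involution of S centralizing P. Suppose some element g of X normalizes S, does not lie in S, has its square in S, and conjugates t into P·C_X(P). Then P commutes elementwise with the largest normal odd-order subgroup O(X) of X; consequently every t-invariant 2-component of X containing P is quasisimple. -/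
theorem result {X : Type*} [Group X] [Finite X] (P : Subgroup X) (hP : Cfsg.IsStandardSubgroup P)
    (hr : Cfsg.PRankLE 2 1 ↥(Subgroup.centralizer (P : Set X))) (hZ : Odd (Nat.card ↥(Subgroup.center ↥P)))
    (S : Sylow 2 ↥(Subgroup.normalizer (P : Set X))) (t : X) (ht : orderOf t = 2) (htS : t ∈ (S : Subgroup ↥(Subgroup.normalizer (P : Set X))).map (Subgroup.normalizer (P : Set X)).subtype)
    (htP : t ∈ Subgroup.centralizer (P : Set X))
    (g : X) (hgN : ∀ s ∈ (S : Subgroup ↥(Subgroup.normalizer (P : Set X))).map (Subgroup.normalizer (P : Set X)).subtype, g * s * g⁻¹ ∈ (S : Subgroup ↥(Subgroup.normalizer (P : Set X))).map (Subgroup.normalizer (P : Set X)).subtype)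
    (hgS : g ∉ (S : Subgroup ↥(Subgroup.normalizer (P : Set X))).map (Subgroup.normalizer (P : Set X)).subtype) (hg2 : g ^ 2 ∈ (S : Subgroup ↥(Subgroup.normalizer (P : Set X))).map (Subgroup.normalizer (P : Set X)).subtype)
    (hgt : g * t * g⁻¹ ∈ P ⊔ Subgroup.centralizer (P : Set X)) :
    ⁅P, Cfsg.oddCore X⁆ = ⊥ ∧
      ∀ L : Subgroup X, Cfsg.IsPComponent 2 L → P ≤ L → (∀ l ∈ L, t * l * t⁻¹ ∈ L) → Cfsg.IsQuasisimple ↥L := by
  classical
  have hq := hP.1
  set C := centralizer (P : Set X) with hC
  set S' := (S : Subgroup (normalizer (P : Set X))).map (normalizer (P : Set X)).subtype with hS'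
  set O := oddCore X with hOdef
  haveI hOn : O.Normal := sSup_normal _ fun _ h => h.1
  have hOodd : Odd (Nat.card O) := Nat.coprime_two_right.mp Core.coprime_card_pPrimeCore
  have hS2 : IsPGroup 2 S' := S.isPGroup'.map _
  have hS'N : S' ≤ (normalizer (P : Set X)) := map_subtype_le _
  have hCN : C ≤ (normalizer (P : Set X)) := centralizer_le_normalizer _
  have hNC : (normalizer (P : Set X)) ≤ normalizer (C : Set X) := by rw [hP.2.2.2]
  have htt : t * t = 1 := by rw [← pow_two, ← ht, pow_orderOf_eq_one]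
  have ht1 : t ≠ 1 := fun e => by rw [e, orderOf_one] at ht; exact absurd ht (by norm_num)
  -- rank one
  have hrank : ∀ u ∈ C, u * u = 1 → u * t = t * u → u = 1 ∨ u = t := by
    intro u huC hu hut
    by_contra hcon
    push Not at hcon
    set A := closure ({⟨t, htP⟩, ⟨u, huC⟩} : Set C) with hA
    have hA' : IsMulCommutative A := isMulCommutative_closure (by
      rintro x (rfl | rfl) y (rfl | rfl)
      exacts [rfl, Subtype.ext hut.symm, Subtype.ext hut, rfl])
    have hexp : ∀ x ∈ A, x ^ 2 = 1 := by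
      intro x hx
      induction hx using closure_induction with
      | mem x hx =>
        rcases hx with rfl | rfl
        · exact Subtype.ext (by simpa [pow_two] using htt)
        · exact Subtype.ext (by simpa [pow_two] using hu)
      | one => simp
      | mul x y hx hy hx2 hy2 =>
        have hc : Commute x y := congrArg Subtype.val (hA'.is_comm.comm ⟨x, hx⟩ ⟨y, hy⟩)
        rw [hc.mul_pow, hx2, hy2, one_mul]
      | inv x _ hx2 => rw [inv_pow, hx2, inv_one]
    have h3 : 3 ≤ Nat.card A := by
      set s3 : Finset C := {1, ⟨t, htP⟩, ⟨u, huC⟩} with hs3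
      have hc3 : s3.card = 3 := Finset.card_eq_three.mpr ⟨_, _, _,
        fun e => ht1 (congrArg Subtype.val e).symm, fun e => hcon.1 (congrArg Subtype.val e).symm,
        fun e => hcon.2 (congrArg Subtype.val e).symm, hs3⟩
      calc 3 = Nat.card s3 := by rw [Nat.card_eq_fintype_card, Fintype.card_coe, hc3]
        _ ≤ _ := Nat.card_le_card_of_injective (fun z => (⟨(z : C), by
            have := z.2
            simp only [hs3, Finset.mem_insert, Finset.mem_singleton] at this
            rcases this with h | h | h <;> rw [h]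
            exacts [one_mem _, subset_closure (by simp), subset_closure (by simp)]⟩ : A))
            fun x y h => Subtype.ext (congrArg (fun w : A => (w : C)) h)
    have := hr A hA' hexp
    omega
  -- `t` is central in `S`
  have htc : ∀ s ∈ S', s * t = t * s := by
    obtain ⟨z, hz, hz1, hzc⟩ : ∃ z ∈ C ⊓ S', z ≠ 1 ∧ z * z = 1 ∧ ∀ s ∈ S', s * z = z * s := by
      haveI : Nontrivial ↥((C ⊓ S').subgroupOf S') := by
        refine ⟨⟨⟨t, htS⟩, ⟨htP, htS⟩⟩, 1, fun e => ht1 ?_⟩
        exact congrArg (fun z : ↥((C ⊓ S').subgroupOf S') => ((z : S') : X)) e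
      haveI : ((C ⊓ S').subgroupOf S').Normal :=
        (normal_subgroupOf_iff_le_normalizer inf_le_right).mpr
          (Layer.le_normalizer_inf (hS'N.trans hNC) le_normalizer)
      haveI : Nontrivial ↥((C ⊓ S').subgroupOf S' ⊓ center S') := (nontrivial_iff_ne_bot _).mpr
        fun e => by
          haveI : Group.IsNilpotent S' := hS2.isNilpotent
          exact Core.inf_center_ne_bot
            ((nontrivial_iff_ne_bot _).mp ‹Nontrivial ↥((C ⊓ S').subgroupOf S')›) e
      obtain ⟨z, hz⟩ := exists_prime_orderOf_dvd_card' (G := ↥((C ⊓ S').subgroupOf S' ⊓ center S')) 2 (by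
        obtain ⟨m, hm⟩ := IsPGroup.iff_card.mp (hS2.to_subgroup ((C ⊓ S').subgroupOf S' ⊓ center S'))
        rw [hm]
        refine dvd_pow_self 2 fun h0 => ?_
        rw [h0, pow_zero] at hm
        exact absurd hm (Finite.one_lt_card).ne')
      refine ⟨((z : S') : X), z.2.1, fun e => ?_, ?_, fun s hs => ?_⟩
      · have : z = 1 := Subtype.ext (Subtype.ext e)
        rw [this, orderOf_one] at hz
        exact absurd hz (by norm_num)
      · have := pow_orderOf_eq_one z
        rw [hz, pow_two] at this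
        exact congrArg (fun w : ↥((C ⊓ S').subgroupOf S' ⊓ center S') => ((w : S') : X)) this
      · exact congrArg Subtype.val (mem_center_iff.mp z.2.2 ⟨s, hs⟩)
    obtain rfl : z = t :=
      (hrank z hz.1 hzc.1 ((hzc.2 t htS).symm)).resolve_left hz1
    exact hzc.2
  have hPt : ∀ q ∈ P, t * q = q * t := fun q hq => (mem_centralizer_iff.mp htP q hq).symm
  -- `t' = g t g⁻¹`
  set t' := g * t * g⁻¹ with ht'
  have ht'S : t' ∈ S' := hgN t htS
  have htt' : t' * t' = 1 := by rw [ht']; calc g * t * g⁻¹ * (g * t * g⁻¹) = g * (t * t) * g⁻¹ := by group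
                                      _ = 1 := by rw [htt, mul_one, mul_inv_cancel]
  have hne : t' ≠ t := by
    intro e
    have hgC : g ∈ centralizer ({t} : Set X) := mem_centralizer_singleton_iff.mpr (by
      rw [ht', mul_inv_eq_iff_eq_mul] at e; exact e)
    have hgN' : g ∈ (normalizer (P : Set X)) := (S1754.result P hP t ht htP).1 hgC
    have hgS' : g ∈ normalizer (S' : Set X) := Layer.mem_normalizer_of_conj_mem hgN
    obtain ⟨k, hk⟩ := hS2 ⟨g ^ 2, hg2⟩
    have hg2' : IsPGroup 2 (zpowers g) := by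
      rintro ⟨x, hx⟩
      obtain ⟨i, rfl⟩ := mem_zpowers_iff.mp hx
      refine ⟨k + 1, Subtype.ext ?_⟩
      have h2 : (g ^ 2) ^ 2 ^ k = 1 := congrArg Subtype.val hk
      show (g ^ i) ^ 2 ^ (k + 1) = 1
      rw [← zpow_natCast, ← zpow_mul, mul_comm, zpow_mul, zpow_natCast, pow_succ', pow_mul, h2, one_zpow]
    have hT : IsPGroup 2 ↥(zpowers g ⊔ S') := hg2'.to_sup_of_normal_right' hS2 (zpowers_le.mpr hgS')
    have hTN : zpowers g ⊔ S' ≤ (normalizer (P : Set X)) := sup_le (zpowers_le.mpr hgN') hS'N
    have hTS := S.is_maximal' (hT.of_equiv (subgroupOfEquivOfLe hTN).symm) (fun x hx => by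
      show (x : X) ∈ zpowers g ⊔ S'
      exact mem_sup_right ⟨x, hx, rfl⟩)
    apply hgS
    refine ⟨⟨g, hgN'⟩, ?_, rfl⟩
    rw [← hTS]
    exact mem_sup_left (mem_zpowers g)
  -- decompose `t' = p c`
  have hZodd : Odd (Nat.card ↥((center P).map P.subtype)) := by
    rwa [Nat.card_congr ((center P).equivMapOfInjective _ P.subtype_injective).toEquiv.symm]
  obtain ⟨p, c, hpP, hcC, hpc, hp2, hc2⟩ : ∃ p c : X, p ∈ P ∧ c ∈ C ∧ p * c = t' ∧ p * p = 1 ∧ c * c = 1 := by
    rw [← SetLike.mem_coe, coe_mul_of_left_le_normalizer_right _ _ (Subgroup.le_normalizer.trans hNC)] at hgt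
    obtain ⟨p, hp, c, hc, hpc⟩ := hgt
    replace hpc : p * c = t' := hpc
    have hpc' : p * c = c * p := mem_centralizer_iff.mp hc p hp
    have hpc2 : p * p = (c * c)⁻¹ := eq_inv_of_mul_eq_one_left (by
      calc p * p * (c * c) = p * (p * c) * c := by group
        _ = p * (c * p) * c := by rw [hpc']
        _ = (p * c) * (p * c) := by group
        _ = 1 := by rw [hpc, htt'])
    have hzC : p * p ∈ C := hpc2 ▸ C.inv_mem (C.mul_mem hc hc)
    set Z := (center P).map P.subtype with hZdef
    have hzZ : p * p ∈ Z := ⟨⟨p * p, P.mul_mem hp hp⟩, mem_center_iff.mpr fun y =>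
      Subtype.ext (mem_centralizer_iff.mp hzC y y.2), rfl⟩
    obtain ⟨m, hm⟩ := hZodd
    set r := (p * p) ^ (m + 1) with hrdef
    have hrZ : r ∈ Z := pow_mem hzZ _
    have hrr : r * r = p * p := by
      have : (p * p) ^ (2 * m + 1) = 1 := by
        rw [← hm]
        exact congrArg Subtype.val (pow_card_eq_one' (x := (⟨p * p, hzZ⟩ : Z)))
      rw [hrdef, ← pow_add, show m + 1 + (m + 1) = (2 * m + 1) + 1 by omega, pow_succ, this, one_mul]
    have hrp : r * p = p * r := ((Commute.refl p).mul_left (Commute.refl p)).pow_left _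
    obtain ⟨r', hr', hr'e⟩ := hrZ
    have hrC : r ∈ C := mem_centralizer_iff.mpr fun y hy => by
      rw [← hr'e]; exact congrArg Subtype.val (mem_center_iff.mp hr' ⟨y, hy⟩)
    have hrP : r ∈ P := hr'e ▸ r'.2
    refine ⟨p * r⁻¹, r * c, P.mul_mem hp (P.inv_mem hrP), C.mul_mem hrC hc, ?_, ?_, ?_⟩
    · rw [mul_assoc, inv_mul_cancel_left, hpc]
    · calc p * r⁻¹ * (p * r⁻¹) = p * (r⁻¹ * p) * r⁻¹ := by group
        _ = p * (p * r⁻¹) * r⁻¹ := by rw [(show Commute r p from hrp).inv_left.eq]
        _ = (p * p) * (r * r)⁻¹ := by group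
        _ = 1 := by rw [hrr, mul_inv_cancel]
    · have hcr : c * r = r * c := (mem_centralizer_iff.mp hc r hrP).symm
      calc r * c * (r * c) = r * (c * r) * c := by group
        _ = r * (r * c) * c := by rw [hcr]
        _ = r * r * (c * c) := by group
        _ = 1 := by rw [hrr, hpc2, inv_mul_cancel]
  have hct : c * t = t * c := by
    have h1 := htc t' ht'S
    rw [← hpc, mul_assoc, ← mul_assoc t p c, hPt p hpP, mul_assoc p t c] at h1
    exact mul_left_cancel h1
  have hc := hrank c hcC hc2 hct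
  have hp1 : p ≠ 1 := by
    intro e
    rw [e, one_mul] at hpc
    rcases hc with h | h
    · exact ht1 (conj_eq_one_iff.mp (hpc ▸ h : t' = 1))
    · exact hne (hpc ▸ h)
  have hperf : ⁅P, P⁆ = P := Layer.qs_subgroup_perfect hq
  -- `C_O(t)` centralises `P`
  set K := O ⊓ centralizer ({t} : Set X) with hK
  have hKN : K ≤ (normalizer (P : Set X)) := inf_le_right.trans (S1754.result P hP t ht htP).1
  have hPK : P ≤ normalizer (K : Set X) := Layer.le_normalizer_inf
    (by rw [normalizer_eq_top]; exact le_top)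
    (le_normalizer.trans' fun q hq => mem_centralizer_singleton_iff.mpr (hPt q hq).symm)
  have hKP : ⁅P, K⁆ = ⊥ := by
    have h1 : ⁅P, K⁆ ≤ K ⊓ P := le_inf (le_normalizer_iff_commutator_le_right.mp hPK)
      (le_normalizer_iff_commutator_le_left.mp hKN)
    haveI : ((K ⊓ P).subgroupOf P).Normal :=
      (normal_subgroupOf_iff_le_normalizer inf_le_right).mpr (Layer.le_normalizer_inf hPK le_normalizer)
    have h2 : ⁅K ⊓ P, P⁆ = ⊥ := by
      rcases Layer.qs_normal_cases hq (this : ((K ⊓ P).subgroupOf P).Normal) with h | h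
      · exfalso
        have hPO : P ≤ O := fun x hx =>
          (show (⟨x, hx⟩ : P) ∈ (K ⊓ P).subgroupOf P from h ▸ mem_top _).1.1
        have hord : orderOf p = 2 := orderOf_eq_prime (by rw [pow_two, hp2]) hp1
        have := Subgroup.orderOf_dvd_natCard O (hPO hpP)
        rw [hord] at this
        exact Nat.not_even_iff_odd.mpr hOodd (even_iff_two_dvd.mpr this)
      · refine commutator_eq_bot_iff_le_centralizer.mpr fun x hx => mem_centralizer_iff.mpr fun y hy => ?_
        exact congrArg Subtype.val (mem_center_iff.mp (h (show (⟨x, hx.2⟩ : P) ∈ _ from hx)) ⟨y, hy⟩)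
    have h3 : ⁅⁅P, K⁆, P⁆ = ⊥ := le_bot_iff.mp ((commutator_mono h1 le_rfl).trans h2.le)
    have h4 : ⁅⁅P, P⁆, K⁆ = ⊥ :=
      commutator_commutator_eq_bot_of_rotate h3 (by rwa [Subgroup.commutator_comm K P])
    rwa [hperf] at h4
  have hKp : K ≤ O ⊓ centralizer ({p} : Set X) := fun x hx => ⟨hx.1, mem_centralizer_singleton_iff.mpr
    (Layer.commute_of_commutator_eq_bot hKP hpP hx).symm⟩
  -- the fixed points of `t'`
  have hcard : Nat.card ↥(O ⊓ centralizer ({t'} : Set X)) = Nat.card K := by
    rw [← Layer.card_map_conj K g, hK, Subgroup.map_inf _ _ _ (MulAut.conj g).injective,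
      Layer.map_conj_eq_of_normal]
    congr 2
    ext x
    rw [mem_inf, mem_inf, Layer.mem_map_conj, mem_centralizer_singleton_iff, mem_centralizer_singleton_iff, ht']
    refine and_congr_right fun _ => ?_
    constructor <;> intro h
    · calc g⁻¹ * x * g * t = g⁻¹ * (x * (g * t * g⁻¹)) * g := by group
        _ = g⁻¹ * (g * t * g⁻¹ * x) * g := by rw [h]
        _ = t * (g⁻¹ * x * g) := by group
    · calc x * (g * t * g⁻¹) = g * (g⁻¹ * x * g * t) * g⁻¹ := by group
        _ = g * (t * (g⁻¹ * x * g)) * g⁻¹ := by rw [h]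
        _ = g * t * g⁻¹ * x := by group
  have hsame : O ⊓ centralizer ({t'} : Set X) = K := by
    refine (eq_of_le_of_card_ge ?_ hcard.le).symm
    intro x hx
    refine ⟨hx.1, mem_centralizer_singleton_iff.mpr ?_⟩
    have hxp := mem_centralizer_singleton_iff.mp (hKp hx).2
    have hxt := mem_centralizer_singleton_iff.mp hx.2
    rw [← hpc]
    rcases hc with rfl | rfl
    · simpa using hxp
    · rw [← mul_assoc, hxp, mul_assoc, hxt, mul_assoc]
  have hON : ∀ u : X, u ∈ normalizer (O : Set X) := fun u => by rw [normalizer_eq_top]; exact mem_top u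
  have hOw : ∃ w : X, O ≤ centralizer ({w} : Set X) ∧ ∀ q ∈ P, ⁅w, q⁆ = ⁅p, q⁆ := by
    rcases hc with hc' | hc' <;> rw [hc'] at hpc
    · rw [mul_one] at hpc
      refine ⟨t * p, le_centralizer_mul hOodd htt hp2 (hPt p hpP) (hON _) (hON _)
        (hpc ▸ hsame.symm : K = O ⊓ centralizer ({p} : Set X)), fun q hq => ?_⟩
      have h1 : t * (p * q * p⁻¹) = (p * q * p⁻¹) * t := hPt _ (P.mul_mem (P.mul_mem hpP hq) (P.inv_mem hpP))
      rw [commutatorElement_def, commutatorElement_def]
      calc t * p * q * (t * p)⁻¹ * q⁻¹ = (t * (p * q * p⁻¹)) * t⁻¹ * q⁻¹ := by group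
        _ = p * q * p⁻¹ * q⁻¹ := by rw [h1]; group
    · refine ⟨p, ?_, fun q _ => rfl⟩
      have h1 : t * t' = t' * t := (htc t' ht'S).symm
      have h2 := le_centralizer_mul hOodd htt htt' h1 (hON _) (hON _) hsame.symm
      have e : t * t' = p := by rw [← hpc, ← mul_assoc, hPt p hpP, mul_assoc, htt, mul_one]
      rwa [e] at h2
  obtain ⟨w, hw, hwq⟩ := hOw
  have hcomm : ⁅P, O⁆ = ⊥ := by
    haveI : (centralizer (O : Set X)).Normal := inferInstance
    rw [commutator_eq_bot_iff_le_centralizer]
    rcases Layer.qs_normal_cases hq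
        (inferInstance : ((centralizer (O : Set X)).subgroupOf P).Normal) with h | h
    · exact subgroupOf_eq_top.mp h
    · exfalso
      have hw' : w ∈ centralizer (O : Set X) := mem_centralizer_iff.mpr fun y hy =>
        mem_centralizer_singleton_iff.mp (hw hy)
      have hcen : ∀ q ∈ P, ∀ y ∈ P, y * ⁅p, q⁆ = ⁅p, q⁆ * y := by
        intro q hq y hy
        have hmem : ⁅p, q⁆ ∈ P := P.mul_mem (P.mul_mem (P.mul_mem hpP hq) (P.inv_mem hpP)) (P.inv_mem hq)
        have hmem' : ⁅p, q⁆ ∈ centralizer (O : Set X) := by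
          rw [← hwq q hq, commutatorElement_def, mul_assoc w q, mul_assoc w (q * w⁻¹)]
          exact mul_mem hw' (Subgroup.Normal.conj_mem inferInstance _ (inv_mem hw') q)
        exact congrArg Subtype.val (mem_center_iff.mp (h (show (⟨_, hmem⟩ : P) ∈ _ from hmem')) ⟨y, hy⟩)
      have h1 : ⁅zpowers p, P⁆ ≤ centralizer (P : Set X) := by
        have hgen : zpowers p ≤ normalizer (P : Set X) := (zpowers_le.mpr hpP).trans le_normalizer
        refine commutator_le.mpr fun x hx q hq => ?_
        obtain ⟨i, rfl⟩ := mem_zpowers_iff.mp hx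
        have h2 : p ^ (2 : ℤ) = 1 := by rw [zpow_ofNat, pow_two, hp2]
        rcases Int.even_or_odd i with ⟨m, rfl⟩ | ⟨m, rfl⟩
        · rw [← two_mul, zpow_mul, h2, one_zpow, commutatorElement_one_left]
          exact one_mem _
        · rw [zpow_add, zpow_mul, h2, one_zpow, one_mul, zpow_one]
          exact mem_centralizer_iff.mpr fun y hy => hcen q hq y hy
      have h2 : ⁅⁅zpowers p, P⁆, P⁆ = ⊥ := commutator_eq_bot_iff_le_centralizer.mpr h1
      have h3 : ⁅⁅P, P⁆, zpowers p⁆ = ⊥ :=
        commutator_commutator_eq_bot_of_rotate (by rwa [Subgroup.commutator_comm P (zpowers p)]) h2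
      rw [hperf] at h3
      have hpz : p ∈ (center P).map P.subtype := ⟨⟨p, hpP⟩, mem_center_iff.mpr fun y => Subtype.ext
        (Layer.commute_of_commutator_eq_bot h3 y.2 (mem_zpowers p)), rfl⟩
      have := Subgroup.orderOf_dvd_natCard _ hpz
      rw [orderOf_eq_prime (by rw [pow_two, hp2] : p ^ 2 = 1) hp1] at this
      exact Nat.not_even_iff_odd.mpr hZodd (even_iff_two_dvd.mpr this)
  refine ⟨hcomm, fun L hL hPL _ => ?_⟩
  have hLc := (Layer.isPComponent_iff_intrinsic.mp hL).2
  have hLO : L ≤ centralizer (O : Set X) := by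
    set f := QuotientGroup.mk' (pPrimeCore 2 X) with hf
    haveI : (centralizer (O : Set X)).Normal := inferInstance
    set M := L ⊓ centralizer (O : Set X) with hM
    have hMn : ((M.map f).subgroupOf (L.map f)).Normal := by
      refine (normal_subgroupOf_iff_le_normalizer (map_mono inf_le_left)).mpr ?_
      refine (map_mono ?_).trans (le_normalizer_map f)
      exact Layer.le_normalizer_inf le_normalizer (by rw [normalizer_eq_top]; exact le_top)
    have hPM : P ≤ M := le_inf hPL (commutator_eq_bot_iff_le_centralizer.mp hcomm)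
    rcases Layer.qs_normal_cases hL.2.1.2 hMn with h | h
    · have hmap : M.map f = L.map f := le_antisymm (map_mono inf_le_left) (subgroupOf_eq_top.mp h)
      exact (hL.2.2 M (hL.1.inf (Subgroup.Normal.isSubnormal inferInstance)) inf_le_left hmap).symm.le.trans
        inf_le_right
    · exfalso
      have hab : ⁅P.map f, P.map f⁆ = ⊥ := commutator_eq_bot_iff_le_centralizer.mpr fun x hx =>
        mem_centralizer_iff.mpr fun y hy => congrArg Subtype.val (mem_center_iff.mp
          (h (show (⟨x, map_mono hPL hx⟩ : L.map f) ∈ _ from map_mono hPM hx)) ⟨y, map_mono hPL hy⟩)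
      rw [← map_commutator, hperf, Subgroup.map_eq_bot_iff, hf, QuotientGroup.ker_mk'] at hab
      have hord : orderOf p = 2 := orderOf_eq_prime (by rw [pow_two, hp2]) hp1
      have := Subgroup.orderOf_dvd_natCard O (hab hpP)
      rw [hord] at this
      exact Nat.not_even_iff_odd.mpr hOodd (even_iff_two_dvd.mpr this)
  refine Layer.isQuasisimple_of_commutator_eq_bot hLc (commutator_eq_bot_iff_le_centralizer.mpr ?_)
  refine hLO.trans (centralizer_le ?_)
  rw [Layer.map_pPrimeCore_eq_inf hL.1]
  exact fun x hx => by first | exact hx.2 | exact hx.1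

end Cfsg.Agent.S3153
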