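import Cfsg.Statements.S3154
import Cfsg.Agent.Core.Gaschutz
import Cfsg.Agent.PSLThreeFour.Elementary
-- import your own Cfsg.Agent.* helpers here

set_option autoImplicit false
open Cfsg

namespace Cfsg.Agent.S3154

open Cfsg.Agent.PSLThreeFour

/-- lifting of one elementary subgroup -/
theorem lift_facts {X : Type*} [Group X] [Finite X] {F : Type*} [Field F] [Fintype F]
    (g : X →* Matrix.ProjectiveSpecialLinearGroup (Fin 3) F) (hg : Function.Surjective g)
    (hkc : g.ker ≤ Subgroup.center X) (hk2 : ∀ z ∈ g.ker, z ^ 2 = 1)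
    (H : Subgroup X) (hkH : g.ker ≤ H) (hgood : Good (H.map g))
    (hcard : Nat.card ↥(H.map g) = 16) (h2 : ∀ x ∈ H.map g, x ^ 2 = 1)
    (hab : ∀ x ∈ H.map g, ∀ y ∈ H.map g, Commute x y) :
    Cfsg.IsElementaryAbelian 2 H := by
  classical
  obtain ⟨-, -, htr⟩ := hgood
  have hmemH : ∀ x, g x ∈ H.map g → x ∈ H := by
    intro x hx
    have : x ∈ (H.map g).comap g := hx
    rwa [Subgroup.comap_map_eq_self hkH] at this
  have hZ : ∀ z, g z = 1 → z * z = 1 ∧ ∀ y, Commute z y := fun z hz =>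
    ⟨by rw [← pow_two]; exact hk2 z hz, fun y => (Subgroup.mem_center_iff.1 (hkc hz) y).symm⟩
  have hsqmem : ∀ x ∈ H, g (x * x) = 1 := fun x hx => by
    rw [map_mul, ← pow_two]; exact h2 _ ⟨x, hx, rfl⟩
  -- constant square
  have hconst : ∀ x ∈ H, ∀ y ∈ H, g x ≠ 1 → g y ≠ 1 → x * x = y * y := by
    intro x hx y hy hx1 hy1
    obtain ⟨n, -, hn⟩ := htr _ ⟨x, hx, rfl⟩ _ ⟨y, hy, rfl⟩ hx1 hy1
    obtain ⟨m, rfl⟩ := hg n
    set z := y⁻¹ * (m * x * m⁻¹)
    have hz : g z = 1 := by rw [map_mul, map_inv, map_mul, map_mul, map_inv, hn, inv_mul_cancel]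
    have he : m * x * m⁻¹ = y * z := (mul_inv_cancel_left y _).symm
    obtain ⟨hzz, hzc⟩ := hZ z hz
    have h1 : (m * x * m⁻¹) * (m * x * m⁻¹) = x * x := by
      calc (m * x * m⁻¹) * (m * x * m⁻¹) = m * (x * x) * m⁻¹ := by group
        _ = (x * x) * m * m⁻¹ := by rw [((hZ _ (hsqmem x hx)).2 m).eq]
        _ = x * x := mul_inv_cancel_right _ _
    rw [← h1, he, show y * z * (y * z) = y * (z * y) * z by group, (hzc y).eq,
      show y * (y * z) * z = y * y * (z * z) by group, hzz, mul_one]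
  -- three independent elements
  obtain ⟨x, hx, hx1⟩ : ∃ x ∈ H, g x ≠ 1 := by
    by_contra h
    push Not at h
    have : H.map g = ⊥ := (Subgroup.eq_bot_iff_forall _).2 (by rintro _ ⟨x, hx, rfl⟩; exact h x hx)
    rw [this] at hcard
    simp at hcard
  set e := x * x with he
  have hee : e * e = 1 ∧ ∀ y, Commute e y := hZ _ (hsqmem x hx)
  have hsq : ∀ y ∈ H, g y ≠ 1 → y * y = e := fun y hy hy1 => hconst y hy x hx hy1 hx1
  -- commutators of independent elements are `e`
  let c : X → X → X := fun u v => u * v * u⁻¹ * v⁻¹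
  have hgab : ∀ u ∈ H, ∀ v ∈ H, g (c u v) = 1 := fun u hu v hv => by
    simp only [c, map_mul, map_inv]
    rw [(hab _ ⟨u, hu, rfl⟩ _ ⟨v, hv, rfl⟩).eq]
    group
  have hcomm : ∀ u ∈ H, ∀ v ∈ H, g u ≠ 1 → g v ≠ 1 → g u ≠ g v → c u v = e := by
    intro u hu v hv hu1 hv1 huv
    have huv1 : g (u * v) ≠ 1 := fun h => huv (by
      rw [map_mul, mul_eq_one_iff_eq_inv] at h
      rw [h, inv_eq_of_mul_eq_one_left]
      rw [← pow_two]; exact h2 _ ⟨v, hv, rfl⟩)
    have hu' : u⁻¹ = u * e := by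
      rw [inv_eq_iff_mul_eq_one, ← mul_assoc, hsq u hu hu1, hee.1]
    have hv' : v⁻¹ = v * e := by
      rw [inv_eq_iff_mul_eq_one, ← mul_assoc, hsq v hv hv1, hee.1]
    show u * v * u⁻¹ * v⁻¹ = e
    calc u * v * u⁻¹ * v⁻¹ = u * v * (u * e) * (v * e) := by rw [hu', hv']
      _ = u * v * u * (e * v) * e := by group
      _ = (u * v) * (u * v) * (e * e) := by rw [(hee.2 v).eq]; group
      _ = e := by rw [hsq _ (mul_mem hu hv) huv1, hee.1, mul_one]
  -- bilinearity
  have hbil : ∀ u ∈ H, ∀ v ∈ H, ∀ w ∈ H, c u (v * w) = c u v * c u w := by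
    intro u hu v hv w hw
    have hz := (hZ _ (hgab u hu w hw)).2 v⁻¹
    calc c u (v * w) = (u * v * u⁻¹) * (c u w * v⁻¹) := by simp only [c]; group
      _ = (u * v * u⁻¹) * (v⁻¹ * c u w) := by rw [hz.eq]
      _ = c u v * c u w := by simp only [c]; group
  -- find `y` and `w`
  haveI : Fintype ↥(H.map g) := Fintype.ofFinite _
  have hbig : ∀ s : Finset (Matrix.ProjectiveSpecialLinearGroup (Fin 3) F), s.card ≤ 4 → ∃ u ∈ H, g u ∉ s := by
    intro s hs
    by_contra h
    push Not at h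
    have hsub : (H.map g : Set (Matrix.ProjectiveSpecialLinearGroup (Fin 3) F)) ⊆ s := by
      rintro _ ⟨u, hu, rfl⟩; exact h u hu
    have := Set.ncard_le_ncard hsub s.finite_toSet
    rw [← Nat.card_coe_set_eq, Set.ncard_coe_finset] at this
    change Nat.card ↥(H.map g) ≤ _ at this
    omega
  obtain ⟨y, hy, hy'⟩ := hbig {1, g x} (Finset.card_le_two.trans (by norm_num))
  simp only [Finset.mem_insert, Finset.mem_singleton, not_or] at hy'
  obtain ⟨w, hw, hw'⟩ := hbig {1, g x, g y, g x * g y} Finset.card_le_four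
  simp only [Finset.mem_insert, Finset.mem_singleton, not_or] at hw'
  have hgsq : ∀ u ∈ H, g u * g u = 1 := fun u hu => by rw [← map_mul]; exact hsqmem u hu
  have hyw1 : g (y * w) ≠ 1 := fun h => hw'.2.2.1 (by
    rw [map_mul] at h
    calc g w = g y * g y * g w := by rw [hgsq y hy, one_mul]
      _ = g y := by rw [mul_assoc, h, mul_one])
  have hxyw : g x ≠ g (y * w) := fun h => hw'.2.2.2 (by
    rw [(hab _ ⟨x, hx, rfl⟩ _ ⟨y, hy, rfl⟩).eq, h, map_mul, ← mul_assoc, hgsq y hy, one_mul])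
  have he1 : e = 1 := by
    have h := hbil x hx y hy w hw
    rw [hcomm x hx y hy hx1 hy'.1 (Ne.symm hy'.2), hcomm x hx w hw hx1 hw'.1 (Ne.symm hw'.2.1),
      hcomm x hx (y * w) (mul_mem hy hw) hx1 hyw1 hxyw, hee.1] at h
    exact h
  have hexp : ∀ u ∈ H, u * u = 1 := by
    intro u hu
    by_cases h : g u = 1
    · exact (hZ u h).1
    · rw [hsq u hu h, he1]
  refine ⟨?_, fun a ha => by rw [pow_two]; exact hexp a ha⟩
  refine ⟨⟨fun a b => Subtype.ext ?_⟩⟩
  show (a : X) * b = b * a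
  have h1 := hexp _ (mul_mem a.2 b.2)
  rw [mul_eq_one_iff_eq_inv, mul_inv_rev, inv_eq_of_mul_eq_one_left (hexp _ a.2),
    inv_eq_of_mul_eq_one_left (hexp _ b.2)] at h1
  exact h1

/-- complement in the normalizer -/
theorem exists_compl {X : Type*} [Group X] [Finite X] {F : Type*} [Field F] [Fintype F]
    (g : X →* Matrix.ProjectiveSpecialLinearGroup (Fin 3) F) (hg : Function.Surjective g)
    (T : Sylow 2 X) (H K : Subgroup X) (hkH : g.ker ≤ H) (hHT : H ≤ T) (hKT : K ≤ T)
    (hHK : H ⊔ K = (T : Subgroup X))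
    (hgood : Good (H.map g)) (hT0 : (T : Subgroup X).map g ≤ T0)
    (hH : Cfsg.IsElementaryAbelian 2 H) (hK : Cfsg.IsElementaryAbelian 2 K) :
    ∃ C : Subgroup X, C ≤ Subgroup.normalizer (H : Set X) ∧ C ⊓ H = ⊥ ∧ H ⊔ C = Subgroup.normalizer (H : Set X) ∧
      Nonempty (↥C ≃* Matrix.ProjectiveSpecialLinearGroup (Fin 2) F) := by
  classical
  obtain ⟨hT, ⟨φ, hφs, hφk⟩, -⟩ := hgood
  set N := Subgroup.normalizer (H : Set X) with hN
  have hNg : N = (Subgroup.normalizer ((H.map g : Subgroup _) : Set (Matrix.ProjectiveSpecialLinearGroup (Fin 3) F))).comap g := by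
    rw [Subgroup.comap_normalizer_eq_of_surjective (H.map g) hg, Subgroup.comap_map_eq_self hkH]
  have hTN : (T : Subgroup X) ≤ N := by
    rw [hNg, ← Subgroup.map_le_iff_le_comap]
    exact hT0.trans hT
  have hHN : H ≤ N := Subgroup.le_normalizer
  haveI : (H.subgroupOf N).Normal := by rw [hN]; infer_instance
  haveI : IsMulCommutative ↥(H.subgroupOf N) := by
    haveI := hH.1
    exact ⟨⟨fun a b => Subtype.ext (Subtype.ext
      (congrArg Subtype.val (hH.1.is_comm.comm ⟨((a : ↥N) : X), a.2⟩ ⟨((b : ↥N) : X), b.2⟩) :))⟩⟩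
  -- a complement in `T`
  obtain ⟨A, ⟨hAK, hAD⟩, hAmax⟩ := Set.Finite.exists_maximal
    (Set.toFinite {A : Subgroup X | A ≤ K ∧ A ⊓ H = ⊥}) ⟨⊥, bot_le, bot_inf_eq _⟩
  have hsup : K ≤ A ⊔ H := by
    intro k hk
    by_contra hkn
    have hKc : ∀ a ∈ K, ∀ b ∈ K, a * b = b * a := fun a ha b hb =>
      congrArg Subtype.val (hK.1.is_comm.comm ⟨a, ha⟩ ⟨b, hb⟩)
    have hk2 : k * k = 1 := by rw [← pow_two]; exact hK.2 k hk
    let A' : Subgroup X :=
      { carrier := {z | z ∈ A ∨ z * k ∈ A}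
        one_mem' := Or.inl (one_mem A)
        mul_mem' := by
          rintro a b (ha | ha) (hb | hb)
          · exact Or.inl (mul_mem ha hb)
          · exact Or.inr (by rw [mul_assoc]; exact mul_mem ha hb)
          · refine Or.inr ?_
            rw [mul_assoc, hKc b (hAK hb) k hk, ← mul_assoc]
            exact mul_mem ha hb
          · refine Or.inl ?_
            have hbK : b ∈ K := by
              have := mul_mem (hAK hb) hk
              rwa [mul_assoc, hk2, mul_one] at this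
            have h1 : a * k * (b * k) = a * b := by
              calc a * k * (b * k) = a * (k * b) * k := by group
                _ = a * b * (k * k) := by rw [hKc k hk b hbK]; group
                _ = a * b := by rw [hk2, mul_one]
            rw [← h1]
            exact mul_mem ha hb
        inv_mem' := by
          rintro a (ha | ha)
          · exact Or.inl (inv_mem ha)
          · refine Or.inr ?_
            have haK : a ∈ K := by
              have := mul_mem (hAK ha) hk
              rwa [mul_assoc, hk2, mul_one] at this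
            have : (a * k)⁻¹ = a⁻¹ * k := by
              rw [mul_inv_rev, inv_eq_of_mul_eq_one_left hk2, hKc k hk _ (inv_mem haK)]
            rw [← this]
            exact inv_mem ha }
    have hAA : A ≤ A' := fun a ha => Or.inl ha
    have hA'K : A' ≤ K := by
      rintro a (ha | ha)
      · exact hAK ha
      · have := mul_mem (hAK ha) hk
        rwa [mul_assoc, hk2, mul_one] at this
    have hA'D : A' ⊓ H = ⊥ := by
      rw [Subgroup.eq_bot_iff_forall]
      rintro a ⟨ha | ha, haH⟩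
      · exact (Subgroup.eq_bot_iff_forall _).1 hAD a ⟨ha, haH⟩
      · refine (hkn ?_).elim
        have : k = a⁻¹ * (a * k) := (inv_mul_cancel_left a k).symm
        rw [this]
        exact mul_mem (inv_mem (Subgroup.mem_sup_right haH)) (Subgroup.mem_sup_left ha)
    have := hAmax ⟨hA'K, hA'D⟩ hAA
    exact hkn (Subgroup.mem_sup_left (this (Or.inr (by rw [hk2]; exact one_mem A))))
  have hHA : H ⊔ A = (T : Subgroup X) := by
    refine le_antisymm (sup_le hHT (hAK.trans hKT)) ?_
    rw [← hHK]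
    exact sup_le le_sup_left (by rw [sup_comm]; exact hsup)
  have hcop : (Nat.card ↥(H.subgroupOf N)).Coprime ((T : Subgroup X).subgroupOf N).index := by
    haveI : Fact (Nat.Prime 2) := ⟨Nat.prime_two⟩
    have h2 : IsPGroup 2 ↥(H.subgroupOf N) :=
      (T.isPGroup'.to_le hHT).of_equiv (Subgroup.subgroupOfEquivOfLe hHN).symm
    obtain ⟨k, hk⟩ := IsPGroup.iff_card.1 h2
    rw [hk]
    refine Nat.Coprime.pow_left _ (Nat.prime_two.coprime_iff_not_dvd.2 fun hd => ?_)
    exact T.not_dvd_index (hd.trans (Subgroup.relIndex_dvd_index_of_le hTN))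
  obtain ⟨C', hC'⟩ := Core.gaschutz_exists (K := H.subgroupOf N) (U := (T : Subgroup X).subgroupOf N)
    (Subgroup.comap_mono hHT) hcop (A := A.subgroupOf N)
    (Subgroup.comap_mono (hAK.trans hKT))
    (by rw [Subgroup.subgroupOf, Subgroup.subgroupOf, ← Subgroup.comap_inf, hAD, MonoidHom.comap_bot, Subgroup.ker_subtype])
    (by rw [← Subgroup.subgroupOf_sup hHN ((hAK.trans hKT).trans hTN), hHA])
  set C := C'.map N.subtype with hC
  have hCN : C ≤ N := Subgroup.map_subtype_le _
  have hinf : C ⊓ H = ⊥ := by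
    have h := congrArg (Subgroup.map N.subtype) hC'.disjoint.symm.eq_bot
    rw [Subgroup.map_inf _ _ _ N.subtype_injective, Subgroup.map_subgroupOf_eq_of_le hHN, Subgroup.map_bot] at h
    exact h
  have hsupC : H ⊔ C = N := by
    have h := congrArg (Subgroup.map N.subtype) hC'.sup_eq_top
    rw [Subgroup.map_sup, Subgroup.map_subgroupOf_eq_of_le hHN, ← MonoidHom.range_eq_map, Subgroup.range_subtype] at h
    exact h
  refine ⟨C, hCN, hinf, hsupC, ?_⟩
  -- the isomorphism
  let gN : ↥N →* ↥(Subgroup.normalizer ((H.map g : Subgroup _) : Set (Matrix.ProjectiveSpecialLinearGroup (Fin 3) F))) :=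
    (g.comp N.subtype).codRestrict _ (fun x => by
      have := hNg.le x.2
      exact this)
  have hgNs : Function.Surjective gN := by
    rintro ⟨y, hy⟩
    obtain ⟨x, rfl⟩ := hg y
    exact ⟨⟨x, by rw [hNg]; exact hy⟩, rfl⟩
  let ψ : ↥C →* Matrix.ProjectiveSpecialLinearGroup (Fin 2) F := (φ.comp gN).comp (Subgroup.inclusion hCN)
  have hker : ∀ x : ↥N, φ (gN x) = 1 ↔ (x : X) ∈ H := by
    intro x
    rw [← MonoidHom.mem_ker, hφk, Subgroup.mem_subgroupOf]
    constructor
    · intro h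
      have : (x : X) ∈ (H.map g).comap g := h
      rwa [Subgroup.comap_map_eq_self hkH] at this
    · intro h; exact ⟨x, h, rfl⟩
  refine ⟨MulEquiv.ofBijective ψ ⟨?_, ?_⟩⟩
  · rw [← MonoidHom.ker_eq_bot_iff, Subgroup.eq_bot_iff_forall]
    intro x hx
    have h1 : (x : X) ∈ H := (hker (Subgroup.inclusion hCN x)).1 hx
    exact Subtype.ext ((Subgroup.eq_bot_iff_forall _).1 hinf _ ⟨x.2, h1⟩)
  · intro q
    obtain ⟨y, rfl⟩ := hφs q
    obtain ⟨n, rfl⟩ := hgNs y
    have hn : n ∈ H.subgroupOf N ⊔ C' := by rw [hC'.sup_eq_top]; exact Subgroup.mem_top n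
    obtain ⟨a, ha, c, hc, rfl⟩ := Subgroup.mem_sup_of_normal_left.1 hn
    refine ⟨⟨(c : X), ⟨c, hc, rfl⟩⟩, ?_⟩
    show φ (gN c) = φ (gN (a * c))
    rw [map_mul, map_mul, (hker a).2 ha, one_mul]


/-- Let X be a finite quasisimple group whose centre is an elementary abelian 2-group and whose central quotient is isomorphic to the projective special linear group of dimension 3 over the field with 4 elements. Let T be a Sylow 2-subgroup of X and H ≠ K subgroups of T containing the centre Z(X) whose images in X/Z(X) are elementary abelian of order 16 (the two such subgroups of a Sylow 2-subgroup of the quotient). Then H and K are elementary abelian, H ∩ K is the centre of the subgroup they generate, and each of N_X(H), N_X(K) is a split extension of H, respectively K, by the projective special linear group of dimension 2 over the field with 4 elements (there is a complement isomorphic to that group). -/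
theorem result {X : Type*} [Group X] [Finite X] (hq : Cfsg.IsQuasisimple X) (hZ : Cfsg.IsElementaryAbelian 2 (Subgroup.center X))
    {F : Type*} [Field F] [Fintype F] (hF : Fintype.card F = 4) (hXL : Nonempty ((X ⧸ Subgroup.center X) ≃* Matrix.ProjectiveSpecialLinearGroup (Fin 3) F))
    (T : Sylow 2 X) (H K : Subgroup X) (hHK : H ≠ K) (hHT : H ≤ T) (hKT : K ≤ T) (hZH : Subgroup.center X ≤ H) (hZK : Subgroup.center X ≤ K)
    (hH : Cfsg.IsElementaryAbelian 2 (H.map (QuotientGroup.mk' (Subgroup.center X))) ∧ Nat.card ↥(H.map (QuotientGroup.mk' (Subgroup.center X))) = 16)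
    (hK : Cfsg.IsElementaryAbelian 2 (K.map (QuotientGroup.mk' (Subgroup.center X))) ∧ Nat.card ↥(K.map (QuotientGroup.mk' (Subgroup.center X))) = 16) :
    Cfsg.IsElementaryAbelian 2 H ∧ Cfsg.IsElementaryAbelian 2 K ∧
      H ⊓ K = (Subgroup.center ↥(H ⊔ K)).map (H ⊔ K).subtype ∧
      (∃ C : Subgroup X, C ≤ Subgroup.normalizer (H : Set X) ∧ C ⊓ H = ⊥ ∧ H ⊔ C = Subgroup.normalizer (H : Set X) ∧
        Nonempty (↥C ≃* Matrix.ProjectiveSpecialLinearGroup (Fin 2) F)) ∧
      (∃ C : Subgroup X, C ≤ Subgroup.normalizer (K : Set X) ∧ C ⊓ K = ⊥ ∧ K ⊔ C = Subgroup.normalizer (K : Set X) ∧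
        Nonempty (↥C ≃* Matrix.ProjectiveSpecialLinearGroup (Fin 2) F)) := by
  classical
  haveI : Fact (Nat.Prime 2) := ⟨Nat.prime_two⟩
  obtain ⟨e⟩ := hXL
  set Z := Subgroup.center X
  obtain ⟨hT0c, hΓc⟩ := card_T0_eq (F := F) hF
  set f : X →* Matrix.ProjectiveSpecialLinearGroup (Fin 3) F := e.toMonoidHom.comp (QuotientGroup.mk' Z) with hf
  have hfs : Function.Surjective f := e.surjective.comp (QuotientGroup.mk'_surjective Z)
  -- move the image of `T` to the unitriangular group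
  have hT0p : IsPGroup 2 ↥(T0 : Subgroup (Matrix.ProjectiveSpecialLinearGroup (Fin 3) F)) :=
    IsPGroup.of_card (n := 6) (by rw [hT0c]; norm_num)
  obtain ⟨S₀, hS₀⟩ := hT0p.exists_le_sylow
  have hS₀eq : (S₀ : Subgroup (Matrix.ProjectiveSpecialLinearGroup (Fin 3) F)) = T0 := by
    refine (Subgroup.eq_of_le_of_card_ge hS₀ ?_).symm
    rw [hT0c, Sylow.card_eq_multiplicity, hΓc]
    have : (20160 : ℕ).factorization 2 = 6 := by
      rw [Nat.factorization_def _ Nat.prime_two, show (20160 : ℕ) = 2 ^ 6 * 315 by norm_num,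
        padicValNat.mul (by norm_num) (by norm_num), padicValNat.prime_pow,
        padicValNat.eq_zero_of_not_dvd (by norm_num)]
    rw [this]
    norm_num
  obtain ⟨c, hc⟩ := MulAction.exists_smul_eq (Matrix.ProjectiveSpecialLinearGroup (Fin 3) F) (T.mapSurjective hfs) S₀
  set g : X →* Matrix.ProjectiveSpecialLinearGroup (Fin 3) F := (MulAut.conj c).toMonoidHom.comp f with hgd
  have hgs : Function.Surjective g := (MulAut.conj c).surjective.comp hfs
  have hgk : g.ker = Z := by
    ext x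
    rw [MonoidHom.mem_ker, hgd, hf]
    simp only [MonoidHom.comp_apply, MulEquiv.coe_toMonoidHom, MulEquiv.map_eq_one_iff, QuotientGroup.mk'_apply,
      QuotientGroup.eq_one_iff]
  have hTg : (T : Subgroup X).map g = T0 := by
    rw [hgd, ← Subgroup.map_map, ← hS₀eq, ← hc, Sylow.coe_subgroup_smul, Subgroup.pointwise_smul_def,
      Sylow.coe_mapSurjective]
    rfl
  have hkc : g.ker ≤ Subgroup.center X := hgk.le
  have hk2 : ∀ z ∈ g.ker, z ^ 2 = 1 := fun z hz => hZ.2 z (hgk ▸ hz)
  -- transfer the hypotheses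
  have key : ∀ L : Subgroup X, Cfsg.IsElementaryAbelian 2 (L.map (QuotientGroup.mk' Z)) →
      Nat.card ↥(L.map (QuotientGroup.mk' Z)) = 16 → Z ≤ L → L ≤ T →
      (L.map g = U1 ∨ L.map g = U2) ∧ Nat.card ↥(L.map g) = 16 ∧
        (∀ x ∈ L.map g, x ^ 2 = 1) ∧ ∀ x ∈ L.map g, ∀ y ∈ L.map g, Commute x y := by
    intro L hLe hLc hZL hLT
    set j : (X ⧸ Z) ≃* Matrix.ProjectiveSpecialLinearGroup (Fin 3) F := e.trans (MulAut.conj c) with hj
    have hmap : L.map g = (L.map (QuotientGroup.mk' Z)).map j.toMonoidHom := by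
      rw [Subgroup.map_map]; rfl
    have hc16 : Nat.card ↥(L.map g) = 16 := by
      rw [hmap, Nat.card_congr (Subgroup.equivMapOfInjective _ j.toMonoidHom j.injective).toEquiv.symm, hLc]
    have h2 : ∀ x ∈ L.map g, x ^ 2 = 1 := by
      rw [hmap]
      rintro _ ⟨x, hx, rfl⟩
      rw [← map_pow, hLe.2 x hx, map_one]
    have hab : ∀ x ∈ L.map g, ∀ y ∈ L.map g, Commute x y := by
      rw [hmap]
      rintro _ ⟨x, hx, rfl⟩ _ ⟨y, hy, rfl⟩
      show _ * _ = _ * _
      rw [← map_mul, ← map_mul, show x * y = y * x from congrArg Subtype.val (hLe.1.is_comm.comm ⟨x, hx⟩ ⟨y, hy⟩)]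
    refine ⟨?_, hc16, h2, hab⟩
    rcases elementary_le (hTg ▸ Subgroup.map_mono hLT) h2 with h | h
    · exact Or.inl (Subgroup.eq_of_le_of_card_ge h (by rw [hc16, card_U1, Nat.card_eq_fintype_card, hF]; norm_num))
    · exact Or.inr (Subgroup.eq_of_le_of_card_ge h (by rw [hc16, card_U2, Nat.card_eq_fintype_card, hF]; norm_num))
  obtain ⟨hHU, hH16, hH2, hHab⟩ := key H hH.1 hH.2 hZH hHT
  obtain ⟨hKU, hK16, hK2, hKab⟩ := key K hK.1 hK.2 hZK hKT
  have hne : H.map g ≠ K.map g := fun h => hHK (by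
    have := congrArg (Subgroup.comap g) h
    rwa [Subgroup.comap_map_eq_self (hgk.le.trans hZH), Subgroup.comap_map_eq_self (hgk.le.trans hZK)] at this)
  have hgood : ∀ W, (W = U1 ∨ W = U2) → Good (F := F) W := by
    rintro W (rfl | rfl)
    · exact good_U1 hF
    · exact good_U2 hF
  have hHe := lift_facts g hgs hkc hk2 H (hgk.le.trans hZH) (hgood _ hHU) hH16 hH2 hHab
  have hKe := lift_facts g hgs hkc hk2 K (hgk.le.trans hZK) (hgood _ hKU) hK16 hK2 hKab
  have hpair : (H.map g = U1 ∧ K.map g = U2) ∨ (H.map g = U2 ∧ K.map g = U1) := by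
    rcases hHU with h | h <;> rcases hKU with k | k
    · exact absurd (h.trans k.symm) hne
    · exact Or.inl ⟨h, k⟩
    · exact Or.inr ⟨h, k⟩
    · exact absurd (h.trans k.symm) hne
  have hHKT : H ⊔ K = (T : Subgroup X) := by
    refine le_antisymm (sup_le hHT hKT) ?_
    have hT0le : (T0 : Subgroup (Matrix.ProjectiveSpecialLinearGroup (Fin 3) F)) ≤ (H ⊔ K).map g := by
      rintro x ⟨a, b, d, rfl⟩
      have e1 : pr (tt a b d) = pr (tt a 0 (d - a * b)) * pr (tt 0 b 0) := by
        rw [← map_mul, tt_mul]; congr 1; apply tt_congr <;> ring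
      rw [Subgroup.map_sup, e1]
      rcases hpair with ⟨h, k⟩ | ⟨h, k⟩ <;> rw [h, k]
      · exact mul_mem (Subgroup.mem_sup_right ⟨a, _, rfl⟩) (Subgroup.mem_sup_left ⟨b, 0, rfl⟩)
      · exact mul_mem (Subgroup.mem_sup_left ⟨a, _, rfl⟩) (Subgroup.mem_sup_right ⟨b, 0, rfl⟩)
    intro x hx
    have : x ∈ ((H ⊔ K).map g).comap g := hT0le (hTg ▸ Subgroup.mem_map_of_mem g hx)
    rwa [Subgroup.comap_map_eq_self ((hgk.le.trans hZH).trans le_sup_left)] at this
  refine ⟨hHe, hKe, ?_, ?_, ?_⟩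
  · apply le_antisymm
    · rintro x ⟨hxH, hxK⟩
      refine ⟨⟨x, Subgroup.mem_sup_left hxH⟩, ?_, rfl⟩
      have hcen : H ⊔ K ≤ Subgroup.centralizer ({x} : Set X) := sup_le
        (fun y hy => Subgroup.mem_centralizer_singleton_iff.2
          (congrArg Subtype.val (hHe.1.is_comm.comm ⟨y, hy⟩ ⟨x, hxH⟩)))
        (fun y hy => Subgroup.mem_centralizer_singleton_iff.2
          (congrArg Subtype.val (hKe.1.is_comm.comm ⟨y, hy⟩ ⟨x, hxK⟩)))
      exact Subgroup.mem_center_iff.2 fun y =>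
        Subtype.ext (Subgroup.mem_centralizer_singleton_iff.1 (hcen y.2))
    · rintro _ ⟨z, hz, rfl⟩
      have hzc : ∀ y ∈ (H ⊔ K : Subgroup X), Commute (g z) (g y) := fun y hy => by
        show _ * _ = _ * _
        rw [← map_mul, ← map_mul]
        exact congrArg g (congrArg Subtype.val (Subgroup.mem_center_iff.1 hz ⟨y, hy⟩)).symm
      have hH' : ∀ u ∈ H.map g, Commute (g z) u := by
        rintro _ ⟨y, hy, rfl⟩; exact hzc y (Subgroup.mem_sup_left hy)
      have hK' : ∀ u ∈ K.map g, Commute (g z) u := by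
        rintro _ ⟨y, hy, rfl⟩; exact hzc y (Subgroup.mem_sup_right hy)
      have hzT : g z ∈ (T0 : Subgroup (Matrix.ProjectiveSpecialLinearGroup (Fin 3) F)) :=
        hTg ▸ Subgroup.mem_map_of_mem g (hHKT ▸ z.2)
      have h12 : g z ∈ H.map g ∧ g z ∈ K.map g := by
        rcases hpair with ⟨h, k⟩ | ⟨h, k⟩ <;> rw [h] at hH' <;> rw [k] at hK' <;> rw [h, k]
        · exact mem_inf_of_commute hzT hH' hK'
        · exact (mem_inf_of_commute hzT hK' hH').symm
      constructor
      · have : (z : X) ∈ (H.map g).comap g := h12.1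
        rwa [Subgroup.comap_map_eq_self (hgk.le.trans hZH)] at this
      · have : (z : X) ∈ (K.map g).comap g := h12.2
        rwa [Subgroup.comap_map_eq_self (hgk.le.trans hZK)] at this
  · exact exists_compl g hgs T H K (hgk.le.trans hZH) hHT hKT hHKT (hgood _ hHU) hTg.le hHe hKe
  · exact exists_compl g hgs T K H (hgk.le.trans hZK) hKT hHT (by rw [sup_comm]; exact hHKT) (hgood _ hKU) hTg.le hKe hHe

end Cfsg.Agent.S3154
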