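import Cfsg.Statements.S3155
import Mathlib

set_option autoImplicit false
open Cfsg

namespace Cfsg.Agent.S3155

/-- Let B be the direct product of three cyclic groups of order 4. Then the automorphism of B inverting every element is not the square of any automorphism of B. -/
theorem result {B : Type*} [CommGroup B] [Finite B] (hB : Nonempty (B ≃* Multiplicative (ZMod 4 × ZMod 4 × ZMod 4)))
    (τ : B ≃* B) : τ.trans τ ≠ MulEquiv.inv B := by
  obtain ⟨e⟩ := hB
  intro h
  let j : (ZMod 4 × ZMod 4 × ZMod 4) ≃+ (Fin 3 → ZMod 4) :=
    { toFun := fun u => ![u.1, u.2.1, u.2.2]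
      invFun := fun v => (v 0, v 1, v 2)
      left_inv := fun u => rfl
      right_inv := fun v => by ext i; fin_cases i <;> rfl
      map_add' := fun u w => by ext i; fin_cases i <;> rfl }
  let f : (Fin 3 → ZMod 4) →+ (Fin 3 → ZMod 4) :=
    { toFun := fun v => j (Multiplicative.toAdd (e (τ (e.symm (Multiplicative.ofAdd (j.symm v))))))
      map_zero' := by simp
      map_add' := fun u w => by simp }
  have hf : ∀ v, f (f v) = -v := by
    intro v
    have := fun b => DFunLike.congr_fun h b
    simp only [MulEquiv.trans_apply, MulEquiv.inv_apply] at this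
    simp [f, this]
  set L := f.toZModLinearMap 4 with hL
  have hLL : LinearMap.toMatrix' L * LinearMap.toMatrix' L = (-1 : Matrix (Fin 3) (Fin 3) (ZMod 4)) := by
    rw [← LinearMap.toMatrix'_comp, show L ∘ₗ L = -LinearMap.id from ?_, map_neg,
      LinearMap.toMatrix'_id]
    apply LinearMap.ext
    intro v
    simp [hL, hf]
  have := congrArg Matrix.det hLL
  rw [Matrix.det_mul, Matrix.det_neg, Matrix.det_one, Fintype.card_fin] at this
  revert this
  generalize (LinearMap.toMatrix' L).det = d
  revert d
  decide

end Cfsg.Agent.S3155
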