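import Cfsg.Statements.S3315
import Cfsg.Agent.PSU3Sylow.Heis
import Cfsg.Agent.S0279
import Mathlib

set_option autoImplicit false
open Cfsg
open Cfsg.Agent

namespace Cfsg.Agent.S3315

open PSU3Sylow Classical.Herm AutPSU

variable {F : Type*} [Field F] [Finite F] [CharP F 2] {σ : F →+* F} {q : ℕ}

/-- An additive involution compatible with the norm and fixing one preserves the norm. -/
theorem norm_eq_of_fix_one (hu : UCtx σ q) (A B : F → F) (hA : ∀ v w, A (v + w) = A v + A w)
    (hA2 : ∀ v, A (A v) = v) (hA1 : A 1 = 1)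
    (hB : ∀ c d, σ c = c → σ d = d → B (c + d) = B c + B d)
    (hAB : ∀ v, B (σ v * v) = σ (A v) * A v) (v : F) : σ (A v) * A v = σ v * v := by
  classical
  haveI := Fintype.ofFinite F
  have two : (2 : F) = 0 := CharTwo.two_eq_zero
  have hA0 : A 0 = 0 := by simpa using hA 0 0
  have hfixN : ∀ x : F, σ (σ x * x) = σ x * x := fun x => by rw [map_mul, hu.invol, mul_comm]
  have hfixT : ∀ x : F, σ (x + σ x) = x + σ x := fun x => by rw [map_add, hu.invol, add_comm]
  have hB1 : B 1 = 1 := by simpa [hA1] using hAB 1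
  -- polarization
  have hpol : ∀ x y, B (σ x * y + σ (σ x * y)) = σ (A x) * A y + σ (σ (A x) * A y) := by
    intro x y
    have h := hAB (x + y)
    rw [hA] at h
    simp only [map_add, map_mul, hu.invol] at h ⊢
    rw [show (σ x + σ y) * (x + y) = (σ x * x + σ y * y) + (σ x * y + x * σ y) by ring,
      hB _ _ (by rw [map_add, hfixN, hfixN])
        (by rw [map_add, map_mul, map_mul, hu.invol, hu.invol]; ring),
      hB _ _ (hfixN x) (hfixN y), hAB, hAB] at h
    linear_combination h
  have hT : ∀ y, B (y + σ y) = A y + σ (A y) := fun y => by simpa [hA1] using hpol 1 y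
  -- the fixed field is invariant
  have hAfix : ∀ a, σ a = a → σ (A a) = A a := by
    intro a ha
    have h := hT a
    rw [ha, CharTwo.add_self_eq_zero] at h
    have hB0 : B 0 = 0 := by simpa [hA0] using hAB 0
    rw [hB0] at h
    linear_combination -h - A a * two
  have hmul : ∀ a b, σ a = a → σ b = b → B (a * b) = A a * B b := by
    intro a b ha hb
    obtain ⟨y, hy⟩ := exists_trace hu.toIsInvol hb
    have h := hpol a y
    rw [ha, map_mul, ha, hAfix a ha, map_mul, hAfix a ha, ← mul_add, hy, ← mul_add, ← hT, hy] at h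
    exact h
  have hBA : ∀ a, σ a = a → B a = A a := fun a ha => by
    simpa [hB1] using hmul a 1 ha (map_one σ)
  have hAmul : ∀ a b, σ a = a → σ b = b → A (a * b) = A a * A b := fun a b ha hb => by
    rw [← hBA _ (by rw [map_mul, ha, hb]), hmul a b ha hb, hBA b hb]
  -- it suffices that the fixed field is fixed pointwise
  suffices hid : ∀ a, σ a = a → A a = a by
    rw [← hAB, hBA _ (hfixN v), hid _ (hfixN v)]
  by_contra hne
  push Not at hne
  obtain ⟨d, hdσ, hd⟩ := hne
  -- a normalized element moved by the induced automorphism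
  have hδ : d + A d ≠ 0 := fun h => hd (CharTwo.add_eq_zero.mp h).symm
  obtain ⟨e, heσ, he⟩ : ∃ e, σ e = e ∧ A e = e + 1 := by
    have hdA : σ (d + A d) = d + A d := by rw [map_add, hdσ, hAfix d hdσ]
    have hAδ : A (d + A d) = d + A d := by rw [hA, hA2, add_comm]
    have heσ : σ (d / (d + A d)) = d / (d + A d) := by rw [map_div₀, hdσ, hdA]
    refine ⟨d / (d + A d), heσ, ?_⟩
    have h := hAmul (d / (d + A d)) (d + A d) heσ hdA
    rw [div_mul_cancel₀ _ hδ, hAδ] at h
    rw [← mul_left_inj' hδ, ← h, add_mul, div_mul_cancel₀ _ hδ, one_mul]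
    linear_combination -d * two
  obtain ⟨w, hw⟩ := exists_trace hu.toIsInvol (map_one σ)
  set t := A w + w with ht
  have htσ : σ t = t := by
    have h := hT w
    rw [hw, hB1] at h
    rw [ht, map_add]
    linear_combination -h + hw + (-A w - w) * two + two
  have htA : A t = t := by rw [ht, hA, hA2, add_comm]
  set c := σ w * w with hc
  have hcA : A c = c + t + t * t := by
    have hw' : A w = w + t := by rw [ht]; linear_combination -w * two
    rw [← hBA c (hfixN w), hc, hAB, hw', map_add, htσ]
    linear_combination t * hw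
  set r := t * e with hr
  have hrσ : σ r = r := by rw [hr, map_mul, htσ, heσ]
  have hrA : A r = r + t := by rw [hr, hAmul t e htσ heσ, htA, he]; ring
  set m := c + r + r * r with hm
  have hcσ : σ c = c := hfixN w
  have hmσ : σ m = m := by rw [hm, map_add, map_add, map_mul σ r r, hrσ, hcσ]
  have hmA : A m = m := by
    rw [hm, hA, hA, hAmul r r hrσ hrσ, hrA, hcA]
    linear_combination (t + t * t + r * t) * two
  -- every fixed element is of the form `y * y + y`
  let D : Finset F := Finset.univ.filter fun y => σ y = y ∧ (A y = y ∨ A y = y + 1)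
  let K : Finset F := Finset.univ.filter fun y => σ y = y ∧ A y = y
  have himg : D.image (fun y => y * y + y) = K := by
    refine Finset.eq_of_subset_of_card_le ?_ ?_
    · intro z hz
      obtain ⟨y, hy, rfl⟩ := Finset.mem_image.mp hz
      obtain ⟨hyσ, hy'⟩ := (Finset.mem_filter.mp hy).2
      refine Finset.mem_filter.mpr ⟨Finset.mem_univ _, by rw [map_add, map_mul, hyσ], ?_⟩
      rw [hA, hAmul y y hyσ hyσ]
      rcases hy' with hy' | hy' <;> rw [hy']
      linear_combination (y + 1) * two
    · have h1 : 2 * K.card ≤ D.card := by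
        have hd1 : Disjoint K (K.image (· + e)) := by
          rw [Finset.disjoint_left]
          intro y hy hy'
          obtain ⟨z, hz, rfl⟩ := Finset.mem_image.mp hy'
          have hy2 := (Finset.mem_filter.mp hy).2.2
          rw [hA, (Finset.mem_filter.mp hz).2.2, he] at hy2
          exact one_ne_zero (by linear_combination hy2)
        have hsub : K ∪ K.image (· + e) ⊆ D := by
          intro y hy
          rcases Finset.mem_union.mp hy with hy | hy
          · exact Finset.mem_filter.mpr ⟨Finset.mem_univ _, (Finset.mem_filter.mp hy).2.1,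
              Or.inl (Finset.mem_filter.mp hy).2.2⟩
          · obtain ⟨z, hz, rfl⟩ := Finset.mem_image.mp hy
            obtain ⟨hzσ, hzA⟩ := (Finset.mem_filter.mp hz).2
            refine Finset.mem_filter.mpr ⟨Finset.mem_univ _, by rw [map_add, hzσ, heσ], Or.inr ?_⟩
            rw [hA, hzA, he, add_assoc]
        have h := Finset.card_le_card hsub
        rw [Finset.card_union_of_disjoint hd1,
          Finset.card_image_of_injective _ (add_left_injective e)] at h
        omega
      have h2 : D.card ≤ 2 * (D.image fun y => y * y + y).card := by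
        refine Finset.card_le_mul_card_image D 2 fun z hz => ?_
        obtain ⟨y, -, rfl⟩ := Finset.mem_image.mp hz
        refine le_trans (Finset.card_le_card (t := ({y, y + 1} : Finset F)) ?_) Finset.card_le_two
        intro x hx
        have hx' := (Finset.mem_filter.mp hx).2
        have hx'' : (x - y) * (x - (y + 1)) = 0 := by
          linear_combination hx' + (y - x - x * y + y * y) * two
        rcases mul_eq_zero.mp hx'' with h | h
        · exact Finset.mem_insert.mpr (Or.inl (sub_eq_zero.mp h))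
        · exact Finset.mem_insert.mpr (Or.inr (Finset.mem_singleton.mpr (sub_eq_zero.mp h)))
      omega
  have hmK : m ∈ K := Finset.mem_filter.mpr ⟨Finset.mem_univ _, hmσ, hmA⟩
  rw [← himg] at hmK
  obtain ⟨y, hy, hym⟩ := Finset.mem_image.mp hmK
  have hyσ := (Finset.mem_filter.mp hy).2.1
  -- the element of trace one would lie in the fixed field
  have hroot : (w + (r + y)) * (w + (r + y) + 1) = 0 := by
    have hc' : c = w + w * w := by
      rw [hc]; linear_combination w * hw - w * w * two
    linear_combination hym + hm - hc' + (c + r + r * r + w * r + w * y + r * y) * two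
  have hwσ : σ w = w := by
    rcases mul_eq_zero.mp hroot with h | h
    · rw [show w = r + y by linear_combination h - (r + y) * two, map_add, hrσ, hyσ]
    · rw [show w = r + y + 1 by linear_combination h - (r + y + 1) * two, map_add, map_add, hrσ,
        hyσ, map_one]
  rw [hwσ, CharTwo.add_self_eq_zero] at hw
  exact zero_ne_one hw

/-- An automorphism of the group of pairs whose square is inner fixes the centre. -/
theorem fix_center (hu : UCtx σ q) (θ : MulAut (Heis hu)) (s : Heis hu)
    (hθ : ∀ a, θ (θ a) = s * a * s⁻¹) : ∀ z ∈ Subgroup.center (Heis hu), θ z = z := by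
  classical
  haveI := Fintype.ofFinite F
  have two : (2 : F) = 0 := CharTwo.two_eq_zero
  choose l hl using fun v : F => Heis.exists_lift (hu := hu) v
  have hθc : ∀ z, z ∈ Subgroup.center (Heis hu) → θ z ∈ Subgroup.center (Heis hu) := by
    intro z hz
    rw [Subgroup.mem_center_iff] at hz ⊢
    intro g
    have h := congrArg θ (hz (θ.symm g))
    simpa using h
  have hwd : ∀ a b : Heis hu, a.x = b.x → (θ a).x = (θ b).x := by
    intro a b hab
    have hc : a⁻¹ * b ∈ Subgroup.center (Heis hu) := by
      rw [Heis.mem_center_iff_x, Heis.mul_x, Heis.inv_x, hab, CharTwo.add_self_eq_zero]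
    have h := (Heis.mem_center_iff_x _).mp (hθc _ hc)
    rw [map_mul, map_inv, Heis.mul_x, Heis.inv_x] at h
    exact CharTwo.add_eq_zero.mp h
  let A : F → F := fun v => (θ (l v)).x
  have hAa : ∀ a : Heis hu, A a.x = (θ a).x := fun a => hwd _ _ (hl _)
  have hA : ∀ v w, A (v + w) = A v + A w := by
    intro v w
    have h := hAa (l v * l w)
    rw [Heis.mul_x, hl, hl, map_mul, Heis.mul_x] at h
    exact h
  have hA2 : ∀ v, A (A v) = v := by
    intro v
    show A (θ (l v)).x = v
    rw [hAa, hθ, Heis.mul_x, Heis.mul_x, Heis.inv_x, hl]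
    linear_combination s.x * two
  let B : F → F := fun c => if h : σ c = c then (θ (Heis.zc c h)).d else 0
  have hAB : ∀ v, B (σ v * v) = σ (A v) * A v := by
    intro v
    have hf : σ (σ v * v) = σ v * v := by rw [map_mul, hu.invol, mul_comm]
    show (if h : σ (σ v * v) = σ v * v then (θ (Heis.zc (σ v * v) h)).d else 0) = _
    rw [dif_pos hf]
    have h2 : Heis.zc (σ v * v) hf = l v * l v := by
      rw [Heis.mul_self]
      exact Heis.ext rfl (by simp [Heis.zc, hl])
    rw [h2, map_mul, Heis.mul_self]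
    rfl
  have hB : ∀ c d, σ c = c → σ d = d → B (c + d) = B c + B d := by
    intro c d hc hd
    have hcd : σ (c + d) = c + d := by rw [map_add, hc, hd]
    show dite _ _ _ = dite _ _ _ + dite _ _ _
    rw [dif_pos hcd, dif_pos hc, dif_pos hd]
    have h : Heis.zc (hu := hu) (c + d) hcd = Heis.zc c hc * Heis.zc d hd :=
      Heis.ext (by simp [Heis.zc]) (by simp [Heis.zc])
    have hx : (θ (Heis.zc (hu := hu) c hc)).x = 0 :=
      (Heis.mem_center_iff_x _).mp (hθc _ ((Heis.mem_center_iff_x _).mpr rfl))
    rw [h, map_mul, Heis.mul_d, hx, map_zero, zero_mul, add_zero]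
  -- a fixed nonzero vector
  obtain ⟨u, hu0, huA⟩ : ∃ u, u ≠ 0 ∧ A u = u := by
    by_cases h : A 1 = 1
    · exact ⟨1, one_ne_zero, h⟩
    · refine ⟨1 + A 1, fun h0 => h (CharTwo.add_eq_zero.mp h0).symm, ?_⟩
      rw [hA, hA2, add_comm]
  have hσu : σ u ≠ 0 := fun h => hu0 (by rw [← hu.invol u, h, map_zero])
  have hN : σ u * u ≠ 0 := mul_ne_zero hσu hu0
  have hNf : σ (σ u * u) = σ u * u := by rw [map_mul, hu.invol, mul_comm]
  have key := norm_eq_of_fix_one hu (fun v => A (v * u) / u)
    (fun c => B (c * (σ u * u)) / (σ u * u))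
    (fun v w => by simp only [add_mul, hA, add_div])
    (fun v => by simp only [div_mul_cancel₀ _ hu0, hA2, mul_div_assoc, div_self hu0, mul_one])
    (by simp [huA, hu0])
    (fun c d hc hd => by
      simp only [add_mul]
      rw [hB _ _ (by rw [map_mul, hc, hNf]) (by rw [map_mul, hd, hNf]), add_div])
    (fun v => by
      simp only [map_div₀]
      rw [show σ v * v * (σ u * u) = σ (v * u) * (v * u) by rw [map_mul]; ring, hAB,
        div_mul_div_comm])
  have hnorm : ∀ v, σ (A v) * A v = σ v * v := by
    intro v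
    have h := key (v / u)
    simp only [div_mul_cancel₀ _ hu0, map_div₀, div_mul_div_comm] at h
    exact (div_left_inj' hN).mp h
  intro z hz
  have hzx := (Heis.mem_center_iff_x z).mp hz
  obtain ⟨g, hg⟩ := (PerfectRing.bijective_frobenius (R := F) (p := 2)).surjective z.d
  simp only [frobenius_def, sq] at hg
  have hgσ : σ g = g := by
    apply (PerfectRing.bijective_frobenius (R := F) (p := 2)).injective
    simp only [frobenius_def, sq]
    rw [← map_mul, hg, Heis.sigma_of_x_zero z hzx]
  have hzg : z = l g * l g := by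
    rw [Heis.mul_self]
    exact Heis.ext hzx (by show z.d = σ (l g).x * (l g).x; rw [hl, hgσ, hg])
  rw [hzg, map_mul, Heis.mul_self, Heis.mul_self]
  exact Heis.ext rfl (by show σ (A g) * A g = σ (l g).x * (l g).x; rw [hl]; exact hnorm g)

/-- Let S be a Sylow 2-subgroup of SU₃(2ⁿ), n ≥ 2 (realised over the field with 4ⁿ elements). If a finite 2-group R contains a subgroup S' of index 2 isomorphic to S, then the centre of S' is contained in the centre of R. -/
theorem result {R : Type*} [Group R] [Finite R]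
    (hR : IsPGroup 2 R) (n : ℕ) (hn : 2 ≤ n) {F : Type*} [Field F] [Fintype F] (hF : Fintype.card F = 4 ^ n)
    (P : Sylow 2 ↥(Cfsg.SU 3 F (2 ^ n))) (S' : Subgroup R) (hS : Nonempty (↥S' ≃* ↥(P : Subgroup ↥(Cfsg.SU 3 F (2 ^ n)))))
    (hidx : S'.index = 2) :
    (Subgroup.center ↥S').map S'.subtype ≤ Subgroup.center R := by
  classical
  have hF' : Fintype.card F = (2 ^ n) ^ 2 := by rw [hF, ← pow_mul, mul_comm, pow_mul]; norm_num
  haveI : CharP F 2 := PSU3Sylow.charTwo (k := n * 2) (hF'.trans (pow_mul 2 n 2).symm)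
  haveI : Fact (Nat.Prime 2) := ⟨Nat.prime_two⟩
  obtain ⟨σ, hu⟩ := AutPSU.exists_uctx hF'
  -- the Sylow subgroup maps isomorphically to the projective group
  let Z := Subgroup.center ↥(Cfsg.SU 3 F (2 ^ n))
  let π := QuotientGroup.mk' Z
  let Q := P.mapSurjective (QuotientGroup.mk'_surjective Z)
  obtain ⟨e⟩ := PSU3Sylow.exists_equiv hu (by omega) rfl Q
  have hinj : Function.Injective (π.comp (P : Subgroup ↥(Cfsg.SU 3 F (2 ^ n))).subtype) := by
    rw [injective_iff_map_eq_one]
    intro x hx
    have hxZ : (x : ↥(Cfsg.SU 3 F (2 ^ n))) ∈ Z := (QuotientGroup.eq_one_iff _).mp hx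
    obtain ⟨k, hk⟩ := P.isPGroup' x
    have hk' : (x : ↥(Cfsg.SU 3 F (2 ^ n))) ^ (2 ^ k) = 1 := by
      rw [← Subgroup.coe_pow, hk, Subgroup.coe_one]
    have h1 : orderOf (x : ↥(Cfsg.SU 3 F (2 ^ n))) ∣ 2 ^ k := orderOf_dvd_of_pow_eq_one hk'
    have h2 : orderOf (x : ↥(Cfsg.SU 3 F (2 ^ n))) ∣ 3 := by
      have hd : orderOf (⟨_, hxZ⟩ : Z) ∣ Nat.card Z := orderOf_dvd_natCard _
      rw [S0279.result hF' 3 le_rfl, ← Subgroup.orderOf_coe] at hd
      exact hd.trans (Nat.gcd_dvd_left _ _)
    have h3 : orderOf (x : ↥(Cfsg.SU 3 F (2 ^ n))) ∣ 1 := by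
      have := Nat.dvd_gcd h1 h2
      rwa [Nat.Coprime.gcd_eq_one (Nat.Coprime.pow_left k (by norm_num))] at this
    exact Subtype.ext (orderOf_eq_one_iff.mp (Nat.dvd_one.mp h3))
  have hrange : (π.comp (P : Subgroup ↥(Cfsg.SU 3 F (2 ^ n))).subtype).range = (Q : Subgroup _) := by
    rw [MonoidHom.range_comp, Subgroup.range_subtype]; rfl
  obtain ⟨ε⟩ := hS
  let E : ↥S' ≃* Heis hu :=
    ε.trans ((MonoidHom.ofInjective hinj).trans ((MulEquiv.subgroupCongr hrange).trans e))
  haveI : S'.Normal := Subgroup.normal_of_index_eq_two hidx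
  rintro _ ⟨z, hz, rfl⟩
  rw [Subgroup.mem_center_iff]
  intro g
  by_cases hg : g ∈ S'
  · exact congrArg Subtype.val ((Subgroup.mem_center_iff.mp hz) ⟨g, hg⟩)
  have hg2 : g * g ∈ S' := (Subgroup.mul_mem_iff_of_index_two hidx).mpr Iff.rfl
  let κ : MulAut ↥S' := MulAut.conjNormal g
  let θ : MulAut (Heis hu) := MulAut.congr E κ
  have hθ : ∀ a, θ (θ a) = E ⟨g * g, hg2⟩ * a * (E ⟨g * g, hg2⟩)⁻¹ := by
    intro a
    obtain ⟨b, rfl⟩ := E.surjective a
    show E (κ (E.symm (E (κ (E.symm (E b)))))) = _
    rw [MulEquiv.symm_apply_apply, MulEquiv.symm_apply_apply, ← map_inv, ← map_mul, ← map_mul]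
    congr 1
    apply Subtype.ext
    simp [κ, mul_assoc]
  have hEz : E z ∈ Subgroup.center (Heis hu) := by
    rw [Subgroup.mem_center_iff]
    intro a
    obtain ⟨b, rfl⟩ := E.surjective a
    rw [← map_mul, ← map_mul, (Subgroup.mem_center_iff.mp hz) b]
  have h := fix_center hu θ _ hθ _ hEz
  have h' : κ z = z := by
    apply E.injective
    rw [← h]
    show E (κ z) = E (κ (E.symm (E z)))
    rw [MulEquiv.symm_apply_apply]
  have h'' := congrArg Subtype.val h'
  simp only [κ, MulAut.conjNormal_apply] at h''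
  exact mul_inv_eq_iff_eq_mul.mp h''

end Cfsg.Agent.S3315
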