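import Cfsg.Statements.S3156
import Cfsg.Agent.PSU3Sylow.Heis
import Cfsg.Agent.S3315
import Mathlib

set_option autoImplicit false
open Cfsg
open Cfsg.Agent

namespace Cfsg.Agent.S3156

open PSU3Sylow Classical.Herm AutPSU

variable {F : Type*} [Field F] [Finite F] [CharP F 2] {σ : F →+* F} {q : ℕ}

/-- Additive norm-preserving maps are similitudes. -/
theorem isometry_cases (hu : UCtx σ q) (A : F → F) (hA : ∀ v w, A (v + w) = A v + A w)
    (hN : ∀ v, σ (A v) * A v = σ v * v) :
    ∃ u, σ u * u = 1 ∧ ((∀ v, A v = u * v) ∨ ∀ v, A v = u * σ v) := by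
  have two : (2 : F) = 0 := CharTwo.two_eq_zero
  have hu1 : σ (A 1) * A 1 = 1 := by rw [hN 1, map_one, one_mul]
  refine ⟨A 1, hu1, ?_⟩
  have key : ∀ y, A y = A 1 * y ∨ A y = A 1 * σ y := by
    intro y
    -- normalise the value at one
    set z := σ (A 1) * A y with hz
    have hzy : A y = A 1 * z := by rw [hz, ← mul_assoc, mul_comm (A 1), hu1, one_mul]
    have hNz : σ z * z = σ y * y := by
      rw [hz, map_mul, hu.invol, ← hN y]
      linear_combination (σ (A y) * A y) * hu1
    have hTz : z + σ z = y + σ y := by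
      have h := hN (1 + y)
      rw [hA, hzy] at h
      simp only [map_add, map_mul, map_one] at h
      linear_combination h - (1 + z + σ z + σ z * z) * hu1 - hNz
    have hroot : (z - y) * (z - σ y) = 0 := by linear_combination z * hTz - hNz
    rcases mul_eq_zero.mp hroot with h | h
    · exact Or.inl (by rw [hzy, sub_eq_zero.mp h])
    · exact Or.inr (by rw [hzy, sub_eq_zero.mp h])
  by_contra hne
  push Not at hne
  obtain ⟨⟨a, ha⟩, b, hb⟩ := hne
  have ha' := (key a).resolve_left ha
  have hb' := (key b).resolve_right hb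
  rcases key (a + b) with h | h
  · exact ha (by rw [hA, hb'] at h; linear_combination h)
  · exact hb (by rw [hA, ha', map_add] at h; linear_combination h)

/-- For `q = 4` an automorphism of order dividing three fixing the centre is trivial. -/
theorem eq_one_of_pow_three (hu : UCtx σ q) (hq : q = 4) (θ : MulAut (Heis hu))
    (h3 : ∀ a, θ (θ (θ a)) = a) (hfix : ∀ z ∈ Subgroup.center (Heis hu), θ z = z) : θ = 1 := by
  classical
  have two : (2 : F) = 0 := CharTwo.two_eq_zero
  choose l hl using fun v : F => Heis.exists_lift (hu := hu) v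
  have hwd : ∀ a b : Heis hu, a.x = b.x → (θ a).x = (θ b).x := by
    intro a b hab
    have hc : a⁻¹ * b ∈ Subgroup.center (Heis hu) := by
      rw [Heis.mem_center_iff_x, Heis.mul_x, Heis.inv_x, hab, CharTwo.add_self_eq_zero]
    have h := (Heis.mem_center_iff_x _).mp hc
    rw [← hfix _ hc, map_mul, map_inv, Heis.mul_x, Heis.inv_x] at h
    exact CharTwo.add_eq_zero.mp h
  let A : F → F := fun v => (θ (l v)).x
  have hAa : ∀ a : Heis hu, A a.x = (θ a).x := fun a => hwd _ _ (hl _)
  have hA : ∀ v w, A (v + w) = A v + A w := by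
    intro v w
    have h := hAa (l v * l w)
    rw [Heis.mul_x, hl, hl, map_mul, Heis.mul_x] at h
    exact h
  have hA3 : ∀ v, A (A (A v)) = v := by
    intro v
    show A (A (A v)) = v
    rw [← hl v, hAa (l v), hAa (θ (l v)), hAa (θ (θ (l v))), h3]
  have hN : ∀ v, σ (A v) * A v = σ v * v := by
    intro v
    have h := congrArg Heis.d (hfix _ (Heis.mul_self_mem_center (l v)))
    rw [map_mul, Heis.mul_self, Heis.mul_self] at h
    show σ (θ (l v)).x * (θ (l v)).x = σ v * v
    simpa [Heis.zc, hl] using h
  obtain ⟨u, hu1, hcase⟩ := isometry_cases hu A hA hN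
  have hid : ∀ v, A v = v := by
    rcases hcase with h | h
    · have hu3 : u ^ 3 = 1 := by
        have h1 := hA3 1
        rw [h, h, h] at h1
        linear_combination h1
      have hu5 : u ^ 5 = 1 := by
        rw [hu.pow, hq] at hu1
        linear_combination hu1
      have hu' : u = 1 := by linear_combination (u ^ 3 + 1) * hu3 - u * hu5
      intro v
      rw [h, hu', one_mul]
    · intro v
      have h2 : A (A v) = v := by
        rw [h, h, map_mul, hu.invol, ← mul_assoc, mul_comm u, hu1, one_mul]
      have := hA3 v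
      rwa [h2] at this
  refine MulEquiv.ext fun a => ?_
  have hx : (θ a).x = a.x := by rw [← hAa, hid]
  have hc : a⁻¹ * θ a ∈ Subgroup.center (Heis hu) := by
    rw [Heis.mem_center_iff_x, Heis.mul_x, Heis.inv_x, hx, CharTwo.add_self_eq_zero]
  set z := a⁻¹ * θ a with hz
  have hθa : θ a = a * z := by rw [hz, mul_inv_cancel_left]
  have hz2 : z * z = 1 := (Heis.mul_self_eq_one_iff z).mpr ((Heis.mem_center_iff_x z).mp hc)
  have h := h3 a
  rw [hθa, map_mul, hθa, hfix z hc, map_mul, map_mul, hθa, hfix z hc, mul_assoc a z z, hz2,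
    mul_one] at h
  rw [MulAut.one_apply, hθa]
  exact h

/-- If a finite group T is isomorphic to a Sylow 2-subgroup of the projective special unitary group of dimension 3 with parameter 4 (realised over the field with 16 elements), then no subgroup of the automorphism group of T is isomorphic to the symmetric group of degree 3. -/
theorem result {T : Type*} [Group T] [Finite T] (hT : (∃ (F : Type) (_ : Field F) (_ : Fintype F), Fintype.card F = 16 ∧ ∃ S : Sylow 2 (Cfsg.PSU 3 F 4), Nonempty (T ≃* ↥(S : Subgroup (Cfsg.PSU 3 F 4))))) (H : Subgroup (MulAut T)) : ¬ Nonempty (↥H ≃* Equiv.Perm (Fin 3)) := by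
  obtain ⟨F, _, _, hF, S, ⟨ε⟩⟩ := hT
  haveI : CharP F 2 := PSU3Sylow.charTwo (k := 4) (hF.trans (by norm_num))
  obtain ⟨σ, hu⟩ := AutPSU.exists_uctx (q := 4) (hF.trans (by norm_num))
  obtain ⟨e'⟩ := PSU3Sylow.exists_equiv hu (m := 2) (by omega) (by norm_num) S
  let E : T ≃* Heis hu := ε.trans e'
  rintro ⟨f⟩
  let Φ : Equiv.Perm (Fin 3) →* MulAut (Heis hu) :=
    (MulAut.congr E).toMonoidHom.comp (H.subtype.comp f.symm.toMonoidHom)
  have hΦ : Function.Injective Φ :=
    (MulAut.congr E).injective.comp (Subtype.val_injective.comp f.symm.injective)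
  have hfix : ∀ τ : Equiv.Perm (Fin 3), τ * τ = 1 → ∀ z ∈ Subgroup.center (Heis hu), Φ τ z = z :=
    fun τ hτ => S3315.fix_center hu (Φ τ) 1 fun a => by
      rw [← MulAut.mul_apply, ← map_mul, hτ, map_one, MulAut.one_apply]
      group
  let s : Equiv.Perm (Fin 3) := Equiv.swap 0 1
  let t : Equiv.Perm (Fin 3) := Equiv.swap 1 2
  have h3 : (s * t) * ((s * t) * (s * t)) = 1 := by decide
  have hne : s * t ≠ 1 := by decide
  have hone := eq_one_of_pow_three hu rfl (Φ (s * t))
    (fun a => by rw [← MulAut.mul_apply, ← MulAut.mul_apply, ← map_mul, ← map_mul, mul_assoc, h3,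
      map_one, MulAut.one_apply])
    (fun z hz => by
      rw [map_mul, MulAut.mul_apply, hfix t (Equiv.swap_mul_self _ _) z hz,
        hfix s (Equiv.swap_mul_self _ _) z hz])
  exact hne (hΦ (hone.trans Φ.map_one.symm))

end Cfsg.Agent.S3156
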