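import Cfsg.Statements.S3157
import Cfsg.Agent.FPF64.Main

set_option autoImplicit false
open Cfsg

namespace Cfsg.Agent.S3157

/-- Let T be a non-abelian group of order 64 admitting automorphisms ρ of order 3 and x of order 2 with x ρ x⁻¹ = ρ⁻¹ (so they generate a symmetric group of degree 3), where ρ fixes only the identity. Then T is isomorphic to a Sylow 2-subgroup of the projective special linear group of dimension 3 over the field with 4 elements, and the subgroup of fixed points of x is dihedral of order 8 or quaternion of order 8. -/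
theorem result {T : Type*} [Group T] [Finite T] (hT : Nat.card T = 64) (hna : ¬ IsMulCommutative T) (ρ x : MulAut T) (hρ : orderOf ρ = 3) (hx : orderOf x = 2)
    (hxr : x * ρ * x⁻¹ = ρ⁻¹) (hfp : ∀ y : T, ρ y = y → y = 1) (C : Subgroup T) (hC : ∀ y : T, y ∈ C ↔ x y = y) :
    (∃ (F : Type) (_ : Field F) (_ : Fintype F), Fintype.card F = 4 ∧
        ∃ S : Sylow 2 (Matrix.ProjectiveSpecialLinearGroup (Fin 3) F), Nonempty (T ≃* ↥(S : Subgroup (Matrix.ProjectiveSpecialLinearGroup (Fin 3) F)))) ∧
      (Nonempty (↥C ≃* DihedralGroup 4) ∨ Nonempty (↥C ≃* QuaternionGroup 2)) := by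
  obtain ⟨⟨u, u', v, v', f, f', hr, hb⟩, hCC⟩ :=
    FPF64.structure_thm hT hna ρ x hρ hx hxr hfp C hC
  refine ⟨?_, hCC⟩
  obtain ⟨F, fi, hF⟩ : ∃ (F : Type) (_ : Field F), Nat.card F = 4 :=
    ⟨GaloisField 2 2, inferInstance, by rw [GaloisField.card 2 2 (by norm_num)]; norm_num⟩
  haveI : Finite F := Nat.finite_of_card_ne_zero (by rw [hF]; norm_num)
  haveI : Fintype F := Fintype.ofFinite F
  rw [Nat.card_eq_fintype_card] at hF
  obtain ⟨S, a, a', b, b', c, c', hr', hb'⟩ := FPF64.exists_model F hF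
  exact ⟨F, fi, inferInstance, hF, S, FPF64.nonempty_mulEquiv hr hr' hb hb'⟩

end Cfsg.Agent.S3157
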