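import Cfsg.Statements.S3158
import Mathlib
import Cfsg.Agent.Fusion.PGroup

set_option autoImplicit false
open Cfsg

namespace Cfsg.Agent.S3158

open Subgroup

/-- Let U be a group of order q² with q = 2^n ≥ 2, and y an automorphism of U of order q − 1 all of whose nontrivial powers fix only the identity. Let V be a proper normal y-invariant subgroup of U such that V and U/V are elementary abelian 2-groups and there is an isomorphism from V to U/V commuting with the actions of y. Then U is abelian. -/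
theorem result {U : Type*} [Group U] [Finite U] (n : ℕ) (hn : 1 ≤ n) (hU : Nat.card U = (2 ^ n) ^ 2)
    (y : MulAut U) (hy : orderOf y = 2 ^ n - 1) (hfp : ∀ k : ℕ, y ^ k ≠ 1 → ∀ u : U, (y ^ k) u = u → u = 1)
    (V : Subgroup U) [V.Normal] (hV : V ≠ ⊤) (hyV : ∀ v ∈ V, y v ∈ V)
    (hVe : ∀ v ∈ V, v ^ 2 = 1) (hQe : ∀ u : U, u ^ 2 ∈ V) (hQc : ∀ u w : U, u * w * u⁻¹ * w⁻¹ ∈ V)
    (φ : ↥V ≃* U ⧸ V) (hφ : ∀ (v : ↥V) (u : U), (QuotientGroup.mk u : U ⧸ V) = φ v → φ ⟨y v, hyV v v.2⟩ = QuotientGroup.mk (y u)) :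
    IsMulCommutative U := by
  classical
  have hcard : Nat.card V = 2 ^ n := by
    have h1 := Subgroup.card_eq_card_quotient_mul_card_subgroup V
    rw [← Nat.card_congr φ.toEquiv, hU, sq] at h1
    exact Nat.mul_self_inj.1 h1.symm
  -- powers of `y` on `V` and on `U ⧸ V`
  have hyk : ∀ (k : ℕ), ∀ v ∈ V, (y ^ k) v ∈ V := by
    intro k
    induction k with
    | zero => intro v hv; simpa using hv
    | succ k ih =>
      intro v hv
      rw [pow_succ', MulAut.mul_apply]
      exact hyV _ (ih v hv)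
  have hφk : ∀ (k : ℕ) (v : V) (u : U), (QuotientGroup.mk u : U ⧸ V) = φ v →
      φ ⟨(y ^ k) v, hyk k v v.2⟩ = QuotientGroup.mk ((y ^ k) u) := by
    intro k
    induction k with
    | zero =>
      intro v u h
      simp [h]
    | succ k ih =>
      intro v u h
      simpa [pow_succ'] using hφ _ _ (ih v u h).symm
  -- transitivity
  have htrans : ∀ v ∈ V, v ≠ 1 → ∀ w ∈ V, w ≠ 1 → ∃ k : ℕ, (y ^ k) v = w := by
    intro v hv hv1 w hw hw1
    let f : Fin (orderOf y) → {x : V // x ≠ 1} := fun k => ⟨⟨(y ^ (k : ℕ)) v, hyk _ v hv⟩, by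
      simp [Subtype.ext_iff, hv1]⟩
    have hinj : Function.Injective f := by
      intro a b hab
      simp only [f, Subtype.mk.injEq] at hab
      apply Fin.ext
      apply pow_injOn_Iio_orderOf a.2 b.2
      rcases le_total (a : ℕ) b with h | h
      · obtain ⟨d, hd⟩ := Nat.exists_eq_add_of_le h
        rw [hd, pow_add, MulAut.mul_apply, EmbeddingLike.apply_eq_iff_eq] at hab
        have : y ^ d = 1 := by
          by_contra hne
          exact hv1 (hfp d hne v hab.symm)
        simp only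
        rw [hd, pow_add, this, mul_one]
      · obtain ⟨d, hd⟩ := Nat.exists_eq_add_of_le h
        rw [hd, pow_add, MulAut.mul_apply, EmbeddingLike.apply_eq_iff_eq] at hab
        have : y ^ d = 1 := by
          by_contra hne
          exact hv1 (hfp d hne v hab)
        simp only
        rw [hd, pow_add, this, mul_one]
    have hc : Nat.card {x : V // x ≠ 1} = Nat.card (Fin (orderOf y)) := by
      haveI : Fintype V := Fintype.ofFinite _
      rw [Nat.card_fin, hy, Nat.card_eq_fintype_card, Fintype.card_subtype_compl,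
        Fintype.card_subtype_eq, ← Nat.card_eq_fintype_card, hcard]
    obtain ⟨k, hk⟩ := (hinj.bijective_of_nat_card_le hc.le).2 ⟨⟨w, hw⟩, by simpa using hw1⟩
    exact ⟨k, congrArg (fun x : {x : V // x ≠ 1} => ((x : V) : U)) hk⟩
  -- `V` is central
  have hpg : IsPGroup 2 U := IsPGroup.of_card (n := n * 2) (by rw [hU, ← pow_mul])
  have hVne : V ≠ ⊥ := by
    intro h
    rw [h, Subgroup.card_bot] at hcard
    have := Nat.one_lt_pow (by omega : n ≠ 0) one_lt_two
    omega
  have hcen : ∀ v ∈ V, ∀ u : U, u * v = v * u := by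
    have : Fact (Nat.Prime 2) := ⟨Nat.prime_two⟩
    intro v hv u
    obtain rfl | hv1 := eq_or_ne v 1
    · simp
    have hne : V ⊓ center U ≠ ⊥ := Fusion.pGroup_inf_center_ne_bot hpg V hVne
    obtain ⟨⟨z, hz⟩, hz1⟩ := Subgroup.ne_bot_iff_exists_ne_one.1 hne
    replace hz1 : z ≠ 1 := by simpa using hz1
    obtain ⟨hzV, hzZ⟩ := Subgroup.mem_inf.1 hz
    obtain ⟨k, hk⟩ := htrans z hzV hz1 v hv hv1
    have := congrArg (y ^ k) ((Subgroup.mem_center_iff.1 hzZ) ((y ^ k)⁻¹ u))
    simpa [hk] using this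
  -- squares are constant on cosets
  have hsq : ∀ u u' : U, (QuotientGroup.mk u : U ⧸ V) = QuotientGroup.mk u' → u ^ 2 = u' ^ 2 := by
    intro u u' h
    have hd : u⁻¹ * u' ∈ V := QuotientGroup.eq.1 h
    have hu : u' = u * (u⁻¹ * u') := (mul_inv_cancel_left _ _).symm
    rw [hu, (show Commute u (u⁻¹ * u') from hcen _ hd u).mul_pow, hVe _ hd, mul_one]
  obtain ⟨v₀, hv₀⟩ := Subgroup.ne_bot_iff_exists_ne_one.1 hVne
  obtain ⟨u₀, hu₀⟩ := QuotientGroup.mk_surjective (φ v₀)
  -- squaring is multiplicative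
  have hmul : ∀ u w : U, (u * w) ^ 2 = u ^ 2 * w ^ 2 := by
    have hval : ∀ u : U, u ∉ V → ∃ k : ℕ, (φ.symm (QuotientGroup.mk u) : U) = (y ^ k) v₀ ∧
        u ^ 2 = (y ^ k) (u₀ ^ 2) := by
      intro u hu
      have h1 : (φ.symm (QuotientGroup.mk u) : U) ≠ 1 := by
        simp [hu]
      obtain ⟨k, hk⟩ := htrans v₀ v₀.2 (by simpa using hv₀) _ (φ.symm (QuotientGroup.mk u)).2 h1
      refine ⟨k, hk.symm, ?_⟩
      rw [map_pow]
      apply hsq
      rw [← hφk k v₀ u₀ hu₀]
      conv_lhs => rw [← φ.apply_symm_apply (QuotientGroup.mk u)]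
      congr 1
      exact Subtype.ext hk.symm
    obtain h0 | h0 := eq_or_ne (u₀ ^ 2) 1
    · have : ∀ u : U, u ^ 2 = 1 := by
        intro u
        by_cases hu : u ∈ V
        · exact hVe u hu
        · obtain ⟨k, -, hk⟩ := hval u hu
          rw [hk, h0, map_one]
      simp [this]
    · obtain ⟨j, hj⟩ := htrans v₀ v₀.2 (by simpa using hv₀) _ (hQe u₀) h0
      have hall : ∀ u : U, u ^ 2 = (y ^ j) (φ.symm (QuotientGroup.mk u) : U) := by
        intro u
        by_cases hu : u ∈ V
        · rw [hVe u hu, (QuotientGroup.eq_one_iff u).2 hu]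
          simp
        · obtain ⟨k, hk1, hk2⟩ := hval u hu
          rw [hk2, hk1, ← hj, ← MulAut.mul_apply, ← MulAut.mul_apply, ← pow_add, ← pow_add,
            add_comm]
      intro u w
      rw [hall, hall u, hall w, QuotientGroup.mk_mul, map_mul, Subgroup.coe_mul, map_mul]
  refine ⟨⟨fun u w => ?_⟩⟩
  have h := hmul u w
  simp only [sq, mul_assoc, mul_right_inj] at h
  rw [← mul_assoc, ← mul_assoc, mul_left_inj] at h
  exact h.symm

end Cfsg.Agent.S3158
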