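import Cfsg.Statements.S3161
import Cfsg.Agent.SingerTwo.Start

set_option autoImplicit false
open Cfsg

namespace Cfsg.Agent.S3161

/-- Let Q be a non-abelian finite 2-group admitting commuting automorphisms α of order 2 and ρ of order 2^n − 1, where n ≥ 2, such that the fixed points of α form an elementary abelian subgroup of order 2^n on whose nonidentity elements the group generated by ρ acts transitively. Then Q is isomorphic to a Sylow 2-subgroup of the projective special unitary group of dimension 3 with parameter 2^n (realised over the field with 4^n elements) or of the projective special linear group of dimension 3 over the field with 2^n elements. -/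
theorem result {Q : Type*} [Group Q] [Finite Q] (hQ : IsPGroup 2 Q) (hna : ¬ IsMulCommutative Q) (n : ℕ) (hn : 2 ≤ n)
    (α ρ : MulAut Q) (hα : orderOf α = 2) (hρ : orderOf ρ = 2 ^ n - 1) (hc : Commute α ρ)
    (C : Subgroup Q) (hC : ∀ x : Q, x ∈ C ↔ α x = x) (hCE : Cfsg.IsElementaryAbelian 2 C ∧ Nat.card ↥C = 2 ^ n)
    (htr : ∀ x y : Q, x ∈ C → y ∈ C → x ≠ 1 → y ≠ 1 → ∃ k : ℕ, (ρ ^ k) x = y) :
    (∃ (F : Type) (_ : Field F) (_ : Fintype F), Fintype.card F = 4 ^ n ∧
        ∃ S : Sylow 2 (Cfsg.PSU 3 F (2 ^ n)), Nonempty (Q ≃* ↥(S : Subgroup (Cfsg.PSU 3 F (2 ^ n))))) ∨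
      (∃ (F : Type) (_ : Field F) (_ : Fintype F), Fintype.card F = 2 ^ n ∧
        ∃ S : Sylow 2 (Matrix.ProjectiveSpecialLinearGroup (Fin 3) F), Nonempty (Q ≃* ↥(S : Subgroup (Matrix.ProjectiveSpecialLinearGroup (Fin 3) F)))) := by
  haveI : Finite Q := inferInstance
  have hα2 : ∀ x, α (α x) = x := fun x => by
    have h := pow_orderOf_eq_one α
    rw [hα, pow_two] at h
    exact DFunLike.congr_fun h x
  obtain ⟨K, _, _, l, κ, hcK, h2, hS⟩ := SingerTwo.exists_sing hQ hn α ρ C hα2
    (fun x => DFunLike.congr_fun hc.eq x) (by rw [← hρ]; exact pow_orderOf_eq_one ρ) hC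
    (fun x hx => by
      rw [← pow_two]
      exact hCE.1.2 x hx) hCE.2 htr
  have hnab : ¬ ∀ a b : Q, a * b = b * a := fun h => hna ⟨⟨h⟩⟩
  rcases SingerTwo.classify hn hcK h2 hS hnab with ⟨F, i1, i2, hF, h⟩ | h
  · exact Or.inl ⟨F, i1, i2, by rw [hF, show (4 : ℕ) = 2 ^ 2 from rfl, ← pow_mul, ← pow_mul,
      mul_comm], Classical.arbitrary _, h _⟩
  · exact Or.inr h

end Cfsg.Agent.S3161
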