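import Cfsg.Statements.S3162
import Cfsg.Agent.PSU3Sylow.Heis
import Cfsg.Agent.Core.PCore
import Cfsg.Agent.S3156
import Cfsg.Agent.S0279
import Mathlib

set_option autoImplicit false
open Cfsg
open Cfsg.Agent

namespace Cfsg.Agent.S3162

open PSU3Sylow Classical.Herm AutPSU

variable {F : Type*} [Field F] [Fintype F] [CharP F 2] {σ : F →+* F} {q : ℕ}

theorem natCard_addMonoidHom {V W : Type*} [AddCommGroup V] [AddCommGroup W] [Finite V] [Finite W]
    [Module (ZMod 2) V] [Module (ZMod 2) W] :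
    Nat.card (V →+ W) = 2 ^ (Module.finrank (ZMod 2) V * Module.finrank (ZMod 2) W) := by
  haveI : Fact (Nat.Prime 2) := ⟨Nat.prime_two⟩
  rw [Nat.card_congr (AddMonoidHom.toZModLinearMapEquiv 2).toEquiv,
    Module.natCard_eq_pow_finrank (K := ZMod 2), Nat.card_zmod, Module.finrank_linearMap]

theorem finrank_eq_of_card {W : Type*} [AddCommGroup W] [Finite W] [Module (ZMod 2) W] {k : ℕ}
    (h : Nat.card W = 2 ^ k) : Module.finrank (ZMod 2) W = k := by
  haveI : Fact (Nat.Prime 2) := ⟨Nat.prime_two⟩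
  rw [Module.natCard_eq_pow_finrank (K := ZMod 2), Nat.card_zmod] at h
  exact Nat.pow_right_injective le_rfl h

/-- Classification of the additive maps multiplying the norm by a map of the fixed field. -/
theorem similitude_cases (hu : UCtx σ q) {n : ℕ} (hn : 0 < n) (hq : q = 2 ^ n) (A B : F → F)
    (hA : ∀ v w, A (v + w) = A v + A w) (hinj : Function.Injective A)
    (hB : ∀ c d, σ c = c → σ d = d → B (c + d) = B c + B d)
    (hAB : ∀ v, B (σ v * v) = σ (A v) * A v) :
    ∃ w : F, w ≠ 0 ∧ ∃ j < 2 * n, ∀ v, A v = w * v ^ 2 ^ j := by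
  classical
  haveI : Fact (Nat.Prime 2) := ⟨Nat.prime_two⟩
  have two : (2 : F) = 0 := CharTwo.two_eq_zero
  have hA0 : A 0 = 0 := by simpa using hA 0 0
  set u := A 1 with hu'
  have hu0 : u ≠ 0 := fun h => one_ne_zero (hinj (h.trans hA0.symm))
  have hσu : σ u ≠ 0 := fun h => hu0 (by rw [← hu.invol u, h, map_zero])
  have hN : σ u * u ≠ 0 := mul_ne_zero hσu hu0
  -- normalise
  let A' : F → F := fun v => A v / u
  let B' : F → F := fun c => B c / (σ u * u)
  have hA' : ∀ v w, A' (v + w) = A' v + A' w := fun v w => by simp only [A', hA, add_div]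
  have hA'1 : A' 1 = 1 := div_self hu0
  have hA'0 : A' 0 = 0 := by simp [A', hA0]
  have hB' : ∀ c d, σ c = c → σ d = d → B' (c + d) = B' c + B' d := fun c d hc hd => by
    simp only [B', hB c d hc hd, add_div]
  have hAB' : ∀ v, B' (σ v * v) = σ (A' v) * A' v := fun v => by
    simp only [A', B', hAB, map_div₀, div_mul_div_comm]
  have hfixN : ∀ x : F, σ (σ x * x) = σ x * x := fun x => by rw [map_mul, hu.invol, mul_comm]
  have hB'1 : B' 1 = 1 := by simpa [hA'1] using hAB' 1
  have hpol : ∀ x y, B' (σ x * y + σ (σ x * y)) = σ (A' x) * A' y + σ (σ (A' x) * A' y) := by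
    intro x y
    have h := hAB' (x + y)
    rw [hA'] at h
    simp only [map_add, map_mul, hu.invol] at h ⊢
    rw [show (σ x + σ y) * (x + y) = (σ x * x + σ y * y) + (σ x * y + x * σ y) by ring,
      hB' _ _ (by rw [map_add, hfixN, hfixN])
        (by rw [map_add, map_mul, map_mul, hu.invol, hu.invol]; ring),
      hB' _ _ (hfixN x) (hfixN y), hAB', hAB'] at h
    linear_combination h
  have hT : ∀ y, B' (y + σ y) = A' y + σ (A' y) := fun y => by simpa [hA'1] using hpol 1 y
  have hAfix : ∀ a, σ a = a → σ (A' a) = A' a := by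
    intro a ha
    have h := hT a
    rw [ha, CharTwo.add_self_eq_zero] at h
    have hB0 : B' 0 = 0 := by simpa [hA'0] using hAB' 0
    rw [hB0] at h
    linear_combination -h - A' a * two
  have hmul : ∀ a b, σ a = a → σ b = b → B' (a * b) = A' a * B' b := by
    intro a b ha hb
    obtain ⟨y, hy⟩ := exists_trace hu.toIsInvol hb
    have h := hpol a y
    rw [ha, map_mul, ha, hAfix a ha, map_mul, hAfix a ha, ← mul_add, hy, ← mul_add, ← hT, hy] at h
    exact h
  have hBA : ∀ a, σ a = a → B' a = A' a := fun a ha => by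
    simpa [hB'1] using hmul a 1 ha (map_one σ)
  -- the induced endomorphism of the fixed field is a power of the Frobenius
  let φ : fixField σ →+* fixField σ :=
    { toFun := fun a => ⟨A' a, hAfix a a.2⟩
      map_zero' := Subtype.ext hA'0
      map_one' := Subtype.ext hA'1
      map_add' := fun a b => Subtype.ext (hA' a b)
      map_mul' := fun a b => Subtype.ext (by
        show A' ((a : F) * b) = A' a * A' b
        rw [← hBA _ (by rw [map_mul, a.2, b.2]; rfl), hmul (a : F) b a.2 b.2, hBA (b : F) b.2]) }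
  haveI : CharP (fixField σ) 2 :=
    (algebraMap (fixField σ) F).charP (algebraMap (fixField σ) F).injective 2
  letI : Algebra (ZMod 2) (fixField σ) := ZMod.algebra _ 2
  let φA : fixField σ →ₐ[ZMod 2] fixField σ :=
    { φ with
      commutes' := fun r => RingHom.congr_fun
        (RingHom.ext_zmod (φ.comp (algebraMap (ZMod 2) _)) (algebraMap (ZMod 2) _)) r }
  obtain ⟨⟨k, hk'⟩, hk⟩ := (FiniteField.bijective_frobeniusAlgHom_pow (ZMod 2) (fixField σ)).2 φA
  have hkn : k < n := by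
    have h : Module.finrank (ZMod 2) (fixField σ) = n :=
      finrank_eq_of_card (hu.card_fix.trans hq)
    omega
  have hBk : ∀ a, σ a = a → B' a = a ^ 2 ^ k := by
    intro a ha
    have h := congrArg Subtype.val (DFunLike.congr_fun hk ⟨a, ha⟩)
    simp only [AlgHom.coe_pow, FiniteField.coe_frobeniusAlgHom, pow_iterate, ZMod.card] at h
    rw [hBA a ha]
    exact h.symm
  -- undo the Frobenius
  have hcardF : Fintype.card F = 2 ^ (2 * n) := by
    rw [← Nat.card_eq_fintype_card, card_eq_fix_sq hu.toIsInvol, hu.card_fix, hq, ← pow_mul,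
      mul_comm]
  have hfull : ∀ x : F, x ^ 2 ^ (2 * n) = x := fun x => by rw [← hcardF, FiniteField.pow_card]
  have hback : ∀ x : F, (x ^ 2 ^ (2 * n - k)) ^ 2 ^ k = x := fun x => by
    rw [← pow_mul, ← pow_add, Nat.sub_add_cancel (by omega), hfull]
  have hback' : ∀ x : F, (x ^ 2 ^ k) ^ 2 ^ (2 * n - k) = x := fun x => by
    rw [← pow_mul, ← pow_add, Nat.add_sub_cancel' (by omega), hfull]
  obtain ⟨w, hw, hcase⟩ := S3156.isometry_cases hu (fun v => A' v ^ 2 ^ (2 * n - k))
    (fun v w => by simp only [hA', add_pow_char_pow])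
    (fun v => by
      simp only [map_pow]
      rw [← mul_pow, ← hAB', hBk _ (hfixN v), hback'])
  have hw0 : w ≠ 0 := fun h => by simp [h] at hw
  rcases hcase with h | h
  · refine ⟨u * w ^ 2 ^ k, mul_ne_zero hu0 (pow_ne_zero _ hw0), k, by omega, fun v => ?_⟩
    have h' : A' v = w ^ 2 ^ k * v ^ 2 ^ k := by rw [← mul_pow, ← h, hback]
    rw [mul_assoc, ← h']
    exact (mul_div_cancel₀ _ hu0).symm
  · refine ⟨u * w ^ 2 ^ k, mul_ne_zero hu0 (pow_ne_zero _ hw0), n + k, by omega, fun v => ?_⟩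
    have h' : A' v = w ^ 2 ^ k * v ^ 2 ^ (n + k) := by
      rw [pow_add, pow_mul, ← mul_pow, ← hq, ← hu.pow, ← h, hback]
    rw [mul_assoc, ← h']
    exact (mul_div_cancel₀ _ hu0).symm

section Heis

variable (hu : UCtx σ q)

/-- The map induced on the quotient by the centre. -/
noncomputable def ind (θ : MulAut (Heis hu)) (v : F) : F := (θ (Classical.choose (Heis.exists_lift v))).x

variable {hu}

theorem lift_x (v : F) : (Classical.choose (Heis.exists_lift (hu := hu) v)).x = v :=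
  Classical.choose_spec (Heis.exists_lift v)

theorem map_mem_center (θ : MulAut (Heis hu)) {z : Heis hu} (hz : z ∈ Subgroup.center (Heis hu)) :
    θ z ∈ Subgroup.center (Heis hu) := by
  rw [Subgroup.mem_center_iff] at hz ⊢
  intro g
  have h := congrArg θ (hz (θ.symm g))
  simpa using h

theorem ind_apply (θ : MulAut (Heis hu)) (a : Heis hu) : ind hu θ a.x = (θ a).x := by
  set b := Classical.choose (Heis.exists_lift (hu := hu) a.x)
  have hc : b⁻¹ * a ∈ Subgroup.center (Heis hu) := by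
    rw [Heis.mem_center_iff_x, Heis.mul_x, Heis.inv_x, lift_x, CharTwo.add_self_eq_zero]
  have h := (Heis.mem_center_iff_x _).mp (map_mem_center θ hc)
  rw [map_mul, map_inv, Heis.mul_x, Heis.inv_x] at h
  exact CharTwo.add_eq_zero.mp h

theorem ind_add (θ : MulAut (Heis hu)) (v w : F) : ind hu θ (v + w) = ind hu θ v + ind hu θ w := by
  obtain ⟨a, rfl⟩ := Heis.exists_lift (hu := hu) v
  obtain ⟨b, rfl⟩ := Heis.exists_lift (hu := hu) w
  rw [← Heis.mul_x, ind_apply, ind_apply, ind_apply, map_mul, Heis.mul_x]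

theorem ind_mul (θ η : MulAut (Heis hu)) (v : F) : ind hu (θ * η) v = ind hu θ (ind hu η v) := by
  obtain ⟨a, rfl⟩ := Heis.exists_lift (hu := hu) v
  rw [ind_apply, ind_apply, ind_apply, MulAut.mul_apply]

theorem ind_one (v : F) : ind hu 1 v = v := lift_x v

/-- The action on the quotient by the centre, as a homomorphism. -/
noncomputable def indHom : MulAut (Heis hu) →* Equiv.Perm F where
  toFun θ :=
    { toFun := ind hu θ
      invFun := ind hu θ⁻¹
      left_inv := fun v => by rw [← ind_mul, inv_mul_cancel, ind_one]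
      right_inv := fun v => by rw [← ind_mul, mul_inv_cancel, ind_one] }
  map_one' := Equiv.ext fun v => ind_one v
  map_mul' θ η := Equiv.ext fun v => ind_mul θ η v

theorem mem_ker {θ : MulAut (Heis hu)} :
    θ ∈ (indHom (hu := hu)).ker ↔ ∀ a : Heis hu, (θ a).x = a.x := by
  rw [MonoidHom.mem_ker]
  constructor
  · intro h a
    rw [← ind_apply]
    exact Equiv.ext_iff.mp h a.x
  · intro h
    refine Equiv.ext fun v => ?_
    obtain ⟨a, rfl⟩ := Heis.exists_lift (hu := hu) v
    exact (ind_apply θ a).trans (h a)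

theorem exists_sqrt_center {z : Heis hu} (hz : z ∈ Subgroup.center (Heis hu)) :
    ∃ a : Heis hu, a * a = z := by
  have hzx := (Heis.mem_center_iff_x z).mp hz
  obtain ⟨g, hg⟩ := (PerfectRing.bijective_frobenius (R := F) (p := 2)).surjective z.d
  simp only [frobenius_def, sq] at hg
  have hgσ : σ g = g := by
    apply (PerfectRing.bijective_frobenius (R := F) (p := 2)).injective
    simp only [frobenius_def, sq]
    rw [← map_mul, hg, Heis.sigma_of_x_zero z hzx]
  obtain ⟨a, ha⟩ := Heis.exists_lift (hu := hu) g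
  refine ⟨a, ?_⟩
  rw [Heis.mul_self]
  exact Heis.ext hzx.symm (by show σ a.x * a.x = z.d; rw [ha, hgσ, hg])

theorem ker_fix_center {θ : MulAut (Heis hu)} (hθ : θ ∈ (indHom (hu := hu)).ker) {z : Heis hu}
    (hz : z ∈ Subgroup.center (Heis hu)) : θ z = z := by
  obtain ⟨a, rfl⟩ := exists_sqrt_center hz
  rw [map_mul, Heis.mul_self, Heis.mul_self]
  exact Heis.ext rfl (by show σ (θ a).x * (θ a).x = σ a.x * a.x; rw [mem_ker.mp hθ a])

theorem ker_shift {θ : MulAut (Heis hu)} (hθ : θ ∈ (indHom (hu := hu)).ker) (a : Heis hu) :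
    a⁻¹ * θ a ∈ Subgroup.center (Heis hu) := by
  rw [Heis.mem_center_iff_x, Heis.mul_x, Heis.inv_x, mem_ker.mp hθ a, CharTwo.add_self_eq_zero]

/-- The automorphism given by an additive map into the fixed field. -/
def shear (f : F →+ fixField σ) : MulAut (Heis hu) where
  toFun a := a * Heis.zc (hu := hu) (f a.x : F) (Heis.fixed (f a.x))
  invFun a := a * Heis.zc (hu := hu) (f a.x : F) (Heis.fixed (f a.x))
  left_inv a := by
    refine Heis.ext (by simp [Heis.zc]) ?_
    simp [Heis.zc, add_assoc, CharTwo.add_self_eq_zero]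
  right_inv a := by
    refine Heis.ext (by simp [Heis.zc]) ?_
    simp [Heis.zc, add_assoc, CharTwo.add_self_eq_zero]
  map_mul' a b := by
    refine Heis.ext (by simp [Heis.zc]) ?_
    simp [Heis.zc, map_add]
    ring

theorem card_ker {n : ℕ} (hq : q = 2 ^ n) :
    Nat.card (indHom (hu := hu)).ker = 2 ^ (2 * n ^ 2) := by
  classical
  haveI : CharP (fixField σ) 2 :=
    (algebraMap (fixField σ) F).charP (algebraMap (fixField σ) F).injective 2
  letI : Algebra (ZMod 2) (fixField σ) := ZMod.algebra _ 2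
  letI : Algebra (ZMod 2) F := ZMod.algebra _ 2
  have hmem : ∀ f : F →+ fixField σ, shear (hu := hu) f ∈ (indHom (hu := hu)).ker := fun f =>
    mem_ker.mpr fun a => by simp [shear, Heis.zc]
  let g : (F →+ fixField σ) → (indHom (hu := hu)).ker := fun f => ⟨shear f, hmem f⟩
  have hg : Function.Bijective g := by
    constructor
    · intro f f' h
      refine AddMonoidHom.ext fun v => ?_
      obtain ⟨a, rfl⟩ := Heis.exists_lift (hu := hu) v
      have h2 := congrArg Heis.d (DFunLike.congr_fun (congrArg Subtype.val h) a)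
      simp [g, shear, Heis.zc] at h2
      exact h2
    · rintro ⟨θ, hθ⟩
      have hz : ∀ a : Heis hu, σ (a⁻¹ * θ a).d = (a⁻¹ * θ a).d := fun a =>
        Heis.sigma_of_x_zero _ ((Heis.mem_center_iff_x _).mp (ker_shift hθ a))
      have hcong : ∀ a b : Heis hu, a.x = b.x → a⁻¹ * θ a = b⁻¹ * θ b := by
        intro a b hab
        have hc : a⁻¹ * b ∈ Subgroup.center (Heis hu) := by
          rw [Heis.mem_center_iff_x, Heis.mul_x, Heis.inv_x, hab, CharTwo.add_self_eq_zero]
        have h := ker_fix_center hθ hc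
        rw [map_mul, map_inv, inv_mul_eq_iff_eq_mul] at h
        have h2 := Subgroup.mem_center_iff.mp (ker_shift hθ a) (a⁻¹ * b)
        rw [h]
        calc a⁻¹ * θ a = (a⁻¹ * b)⁻¹ * ((a⁻¹ * b) * (a⁻¹ * θ a)) := by group
          _ = (a⁻¹ * b)⁻¹ * ((a⁻¹ * θ a) * (a⁻¹ * b)) := by rw [h2]
          _ = b⁻¹ * (θ a * (a⁻¹ * b)) := by group
      choose l hl using fun v : F => Heis.exists_lift (hu := hu) v
      let f : F → fixField σ := fun v => ⟨((l v)⁻¹ * θ (l v)).d, hz (l v)⟩
      have hf : ∀ a : Heis hu, (f a.x : F) = (a⁻¹ * θ a).d := fun a =>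
        congrArg Heis.d (hcong _ _ (hl _))
      refine ⟨AddMonoidHom.mk' f fun v w => Subtype.ext ?_, Subtype.ext (MulEquiv.ext fun a => ?_)⟩
      · have h1 : (l v * l w).x = v + w := by rw [Heis.mul_x, hl, hl]
        rw [← h1, hf, Subfield.coe_add]
        show _ = ((l v)⁻¹ * θ (l v)).d + ((l w)⁻¹ * θ (l w)).d
        have h2 : (l v * l w)⁻¹ * θ (l v * l w) = ((l v)⁻¹ * θ (l v)) * ((l w)⁻¹ * θ (l w)) := by
          rw [map_mul, ← mul_assoc ((l v)⁻¹ * θ (l v)),
            ← (Subgroup.mem_center_iff.mp (ker_shift hθ (l v))) (l w)⁻¹]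
          group
        rw [h2, Heis.mul_d, (Heis.mem_center_iff_x _).mp (ker_shift hθ (l v)), map_zero, zero_mul,
          add_zero]
      · show a * Heis.zc (f a.x : F) _ = θ a
        have h : Heis.zc (hu := hu) (f a.x : F) (f a.x).2 = a⁻¹ * θ a :=
          Heis.ext ((Heis.mem_center_iff_x _).mp (ker_shift hθ a)).symm (hf a)
        rw [h, mul_inv_cancel_left]
  rw [← Nat.card_congr (Equiv.ofBijective g hg), natCard_addMonoidHom,
    finrank_eq_of_card (hu.card_fix.trans hq),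
    finrank_eq_of_card (k := 2 * n) (by rw [card_eq_fix_sq hu.toIsInvol, hu.card_fix, hq,
      ← pow_mul, mul_comm])]
  congr 1
  ring

theorem ker_elementary : Cfsg.IsElementaryAbelian 2 (indHom (hu := hu)).ker := by
  refine ⟨⟨⟨fun θ η => Subtype.ext (MulEquiv.ext fun a => ?_)⟩⟩, fun θ hθ => MulEquiv.ext fun a => ?_⟩
  · show (θ : MulAut (Heis hu)) ((η : MulAut (Heis hu)) a) =
      (η : MulAut (Heis hu)) ((θ : MulAut (Heis hu)) a)
    obtain ⟨θ, hθ⟩ := θ
    obtain ⟨η, hη⟩ := η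
    show θ (η a) = η (θ a)
    calc θ (η a) = θ (a * (a⁻¹ * η a)) := by rw [mul_inv_cancel_left]
      _ = a * ((a⁻¹ * θ a) * (a⁻¹ * η a)) := by
        rw [map_mul, ker_fix_center hθ (ker_shift hη a), ← mul_assoc a, mul_inv_cancel_left]
      _ = a * ((a⁻¹ * η a) * (a⁻¹ * θ a)) := by
        rw [Subgroup.mem_center_iff.mp (ker_shift hη a) (a⁻¹ * θ a)]
      _ = η (a * (a⁻¹ * θ a)) := by
        rw [map_mul, ker_fix_center hη (ker_shift hθ a), ← mul_assoc a, mul_inv_cancel_left]
      _ = η (θ a) := by rw [mul_inv_cancel_left]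
  · rw [sq, MulAut.mul_apply, MulAut.one_apply]
    have h1 : θ a = a * (a⁻¹ * θ a) := (mul_inv_cancel_left _ _).symm
    have h2 : (a⁻¹ * θ a) * (a⁻¹ * θ a) = 1 :=
      (Heis.mul_self_eq_one_iff _).mpr ((Heis.mem_center_iff_x _).mp (ker_shift hθ a))
    rw [h1, map_mul, ker_fix_center hθ (ker_shift hθ a)]
    nth_rw 1 [h1]
    rw [mul_assoc, h2, mul_one]

theorem exists_aut (c : F) (hc : c ≠ 0) (j : ℕ) :
    ∃ θ : MulAut (Heis hu), ∀ v, ind hu θ v = c * v ^ 2 ^ j := by
  have hcN : σ c * c ≠ 0 := mul_ne_zero (fun h => hc (by rw [← hu.invol c, h, map_zero])) hc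
  let f : Heis hu → Heis hu := fun a => ⟨c * a.x ^ 2 ^ j, σ c * c * a.d ^ 2 ^ j, by
    have h : (a.d + σ a.d) ^ 2 ^ j = (a.x * σ a.x) ^ 2 ^ j := by rw [a.cond]
    rw [add_pow_char_pow, mul_pow] at h
    simp only [map_mul, map_pow, hu.invol]
    linear_combination (σ c * c) * h⟩
  have hf : ∀ a b, f (a * b) = f a * f b := by
    intro a b
    refine Heis.ext ?_ ?_
    · show c * (a.x + b.x) ^ 2 ^ j = c * a.x ^ 2 ^ j + c * b.x ^ 2 ^ j
      rw [add_pow_char_pow, mul_add]
    · show σ c * c * (a.d + b.d + σ a.x * b.x) ^ 2 ^ j =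
        σ c * c * a.d ^ 2 ^ j + σ c * c * b.d ^ 2 ^ j + σ (c * a.x ^ 2 ^ j) * (c * b.x ^ 2 ^ j)
      rw [add_pow_char_pow, add_pow_char_pow, mul_pow, map_mul, map_pow]
      ring
  have hfr : Function.Injective fun x : F => x ^ 2 ^ j := by
    intro x y h
    exact iterateFrobenius_inj F 2 j (by simpa [iterateFrobenius_def] using h)
  haveI : Finite (Heis hu) := Nat.finite_of_card_ne_zero (by
    rw [Heis.card_eq]; exact pow_ne_zero _ (by have := hu.one_lt; omega))
  have hinj : Function.Injective f := fun a b h => Heis.ext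
    (hfr (mul_left_cancel₀ hc (congrArg Heis.x h))) (hfr (mul_left_cancel₀ hcN (congrArg Heis.d h)))
  refine ⟨MulEquiv.ofBijective (MonoidHom.mk' f hf) ⟨hinj, Finite.surjective_of_injective hinj⟩,
    fun v => ?_⟩
  obtain ⟨a, rfl⟩ := Heis.exists_lift (hu := hu) v
  rw [ind_apply]
  rfl

theorem exists_form {n : ℕ} (hn : 0 < n) (hq : q = 2 ^ n) (θ : MulAut (Heis hu)) :
    ∃ w : F, w ≠ 0 ∧ ∃ j < 2 * n, ∀ v, ind hu θ v = w * v ^ 2 ^ j := by
  classical
  refine similitude_cases hu hn hq (ind hu θ)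
    (fun c => if h : σ c = c then (θ (Heis.zc c h)).d else 0) (ind_add θ)
    (fun a b h => (indHom (hu := hu) θ).injective h) (fun c d hc hd => ?_) (fun v => ?_)
  · have hcd : σ (c + d) = c + d := by rw [map_add, hc, hd]
    rw [dif_pos hcd, dif_pos hc, dif_pos hd]
    have h : Heis.zc (hu := hu) (c + d) hcd = Heis.zc c hc * Heis.zc d hd :=
      Heis.ext (by simp [Heis.zc]) (by simp [Heis.zc])
    have hx : (θ (Heis.zc (hu := hu) c hc)).x = 0 :=
      (Heis.mem_center_iff_x _).mp (map_mem_center θ ((Heis.mem_center_iff_x _).mpr rfl))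
    rw [h, map_mul, Heis.mul_d, hx, map_zero, zero_mul, add_zero]
  · have hf : σ (σ v * v) = σ v * v := by rw [map_mul, hu.invol, mul_comm]
    rw [dif_pos hf]
    obtain ⟨a, rfl⟩ := Heis.exists_lift (hu := hu) v
    have h2 : Heis.zc (σ a.x * a.x) hf = a * a := by
      rw [Heis.mul_self]
    rw [h2, map_mul, Heis.mul_self, ind_apply]
    rfl

include hu in
theorem form_unique {n : ℕ} (hq : q = 2 ^ n) {c c' : F} (hc : c ≠ 0) {i j : ℕ}
    (hi : i < 2 * n) (hj : j < 2 * n) (h : ∀ v : F, c * v ^ 2 ^ i = c' * v ^ 2 ^ j) :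
    c = c' ∧ i = j := by
  have h1 : c = c' := by simpa using h 1
  subst h1
  refine ⟨rfl, ?_⟩
  obtain ⟨g, hg⟩ := IsCyclic.exists_ofOrder_eq_natCard (α := Fˣ)
  have hcard : Nat.card F = 2 ^ (2 * n) := by
    rw [card_eq_fix_sq hu.toIsInvol, hu.card_fix, hq, ← pow_mul, mul_comm]
  have hlt : ∀ k, k < 2 * n → 2 ^ k < orderOf g ∨ n = 0 := by
    intro k hk
    rcases Nat.eq_zero_or_pos n with h0 | h0
    · exact Or.inr h0
    left
    rw [hg, Nat.card_units, hcard]
    have h2 : 2 ^ k * 2 ≤ 2 ^ (2 * n) := by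
      rw [← pow_succ]; exact Nat.pow_le_pow_right two_pos hk
    have h3 : 2 ^ 2 ≤ 2 ^ (2 * n) := Nat.pow_le_pow_right two_pos (by omega)
    omega
  have hv := mul_left_cancel₀ hc (h g)
  have hv' : g ^ 2 ^ i = g ^ 2 ^ j := Units.ext (by simpa using hv)
  exact Nat.pow_right_injective le_rfl
    (pow_injOn_Iio_orderOf ((hlt i hi).resolve_right (by omega))
      ((hlt j hj).resolve_right (by omega)) hv')

theorem card_range {n : ℕ} (hn : 0 < n) (hq : q = 2 ^ n) :
    Nat.card (indHom (hu := hu)).range = 2 * n * ((2 ^ n) ^ 2 - 1) := by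
  choose θ hθ using fun p : Fˣ × Fin (2 * n) => exists_aut (hu := hu) (p.1 : F) p.1.ne_zero p.2
  let g : Fˣ × Fin (2 * n) → (indHom (hu := hu)).range := fun p => ⟨_, θ p, rfl⟩
  have hg : Function.Bijective g := by
    constructor
    · rintro ⟨c, i⟩ ⟨c', j⟩ h
      have h' := form_unique (hu := hu) hq c.ne_zero i.2 j.2 fun v => by
        rw [← hθ (c, i), ← hθ (c', j)]
        exact Equiv.ext_iff.mp (congrArg Subtype.val h) v
      exact Prod.ext (Units.ext h'.1) (Fin.ext h'.2)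
    · rintro ⟨_, η, rfl⟩
      obtain ⟨w, hw, j, hj, hform⟩ := exists_form hn hq η
      exact ⟨(Units.mk0 w hw, ⟨j, hj⟩), Subtype.ext (Equiv.ext fun v =>
        (hθ (Units.mk0 w hw, ⟨j, hj⟩) v).trans (hform v).symm)⟩
  rw [← Nat.card_congr (Equiv.ofBijective g hg), Nat.card_prod, Nat.card_fin, Nat.card_units,
    card_eq_fix_sq hu.toIsInvol, hu.card_fix, hq, mul_comm]

theorem pCore_eq {n : ℕ} (hn : 0 < n) (hq : q = 2 ^ n) :
    Cfsg.pCore 2 (MulAut (Heis hu)) = (indHom (hu := hu)).ker := by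
  refine le_antisymm ?_ (Core.le_pCore (IsPGroup.of_card (card_ker hq)))
  intro θ hθ
  obtain ⟨u, hu0, j, hj, hform⟩ := exists_form hn hq θ
  haveI : Fact (Nat.Prime 2) := ⟨Nat.prime_two⟩
  have hfr : ∀ (m : ℕ) (x : F), x ^ 2 ^ m = 1 → x = 1 := fun m x h =>
    iterateFrobenius_inj F 2 m (by simpa [iterateFrobenius_def] using h)
  -- a multiplication of two-power order is trivial
  have hscal : ∀ η ∈ Cfsg.pCore 2 (MulAut (Heis hu)), ∀ d : F,
      (∀ v, ind hu η v = d * v) → d = 1 := by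
    intro η hη d hd
    obtain ⟨m, hm⟩ := Core.pCore_isPGroup (p := 2) ⟨η, hη⟩
    have hm' : η ^ 2 ^ m = 1 := congrArg Subtype.val hm
    have hpow : ∀ (k : ℕ) (v : F), ind hu (η ^ k) v = d ^ k * v := by
      intro k
      induction k with
      | zero => intro v; rw [pow_zero, pow_zero, one_mul, ind_one]
      | succ k ih => intro v; rw [pow_succ, ind_mul, hd, ih, pow_succ, mul_assoc]
    have h := hpow (2 ^ m) 1
    rw [hm', ind_one, mul_one] at h
    exact hfr m d h.symm
  have hj0 : ∀ c : F, c ≠ 0 → c ^ 2 ^ j = c := by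
    intro c hc
    obtain ⟨κ, hκ⟩ := exists_aut (hu := hu) c hc 0
    have hκ' : ∀ v, ind hu κ v = c * v := fun v => by simpa using hκ v
    have hκi : ∀ v, ind hu κ⁻¹ v = c⁻¹ * v := by
      intro v
      have h : ind hu κ (ind hu κ⁻¹ v) = v := by rw [← ind_mul, mul_inv_cancel, ind_one]
      rw [hκ'] at h
      field_simp
      linear_combination h
    have hθi : ∀ v, u * (ind hu θ⁻¹ v) ^ 2 ^ j = v := fun v => by
      rw [← hform, ← ind_mul, mul_inv_cancel, ind_one]
    have hmem : θ * κ * θ⁻¹ * κ⁻¹ ∈ Cfsg.pCore 2 (MulAut (Heis hu)) := by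
      have h1 := Core.pCore_normal.conj_mem θ⁻¹ (inv_mem hθ) κ
      simpa [mul_assoc] using mul_mem hθ h1
    have h := hscal _ hmem (c ^ 2 ^ j * c⁻¹) fun v => by
      rw [ind_mul, ind_mul, ind_mul, hκi, hform, hκ', mul_pow]
      linear_combination (c ^ 2 ^ j) * hθi (c⁻¹ * v)
    field_simp at h
    exact h
  have hj' : 0 = j := (form_unique (hu := hu) hq one_ne_zero (i := 0) (c' := 1) (by omega) hj
    fun v : F => by
      rcases eq_or_ne v 0 with rfl | hv
      · simp [zero_pow (Nat.two_pow_pos j).ne']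
      · simp [hj0 v hv]).2
  have hu1 : u = 1 := hscal θ hθ u fun v => by rw [hform, ← hj']; simp
  rw [mem_ker]
  intro a
  rw [← ind_apply, hform, hu1, ← hj']
  simp

theorem heis_result {n : ℕ} (hn : 0 < n) (hq : q = 2 ^ n) :
    Cfsg.IsElementaryAbelian 2 (Cfsg.pCore 2 (MulAut (Heis hu))) ∧
      Nat.card ↥(Cfsg.pCore 2 (MulAut (Heis hu))) = 2 ^ (2 * n ^ 2) ∧
      Nat.card (MulAut (Heis hu)) = 2 ^ (2 * n ^ 2) * (2 * n * ((2 ^ n) ^ 2 - 1)) := by
  refine ⟨by rw [pCore_eq hn hq]; exact ker_elementary, by rw [pCore_eq hn hq]; exact card_ker hq,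
    ?_⟩
  rw [(indHom (hu := hu)).ker.card_eq_card_quotient_mul_card_subgroup, card_ker hq,
    Nat.card_congr (QuotientGroup.quotientKerEquivRange _).toEquiv, card_range hn hq, mul_comm]

end Heis

/-- Let S be a Sylow 2-subgroup of the special unitary group of dimension 3 with parameter q = 2^n (n ≥ 2; realised over the field with q² elements). Then the largest normal 2-subgroup of the automorphism group of S is elementary abelian of order 2^(2n²), and the automorphism group has order 2^(2n²) · 2n(q² − 1). -/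
theorem result {S : Type*} [Group S] [Finite S] (n : ℕ) (hn : 2 ≤ n) {F : Type*} [Field F] [Fintype F] (hF : Fintype.card F = 4 ^ n)
    (P : Sylow 2 ↥(Cfsg.SU 3 F (2 ^ n))) (hS : Nonempty (S ≃* ↥(P : Subgroup ↥(Cfsg.SU 3 F (2 ^ n))))) :
    Cfsg.IsElementaryAbelian 2 (Cfsg.pCore 2 (MulAut S)) ∧ Nat.card ↥(Cfsg.pCore 2 (MulAut S)) = 2 ^ (2 * n ^ 2) ∧
      Nat.card (MulAut S) = 2 ^ (2 * n ^ 2) * (2 * n * ((2 ^ n) ^ 2 - 1)) := by
  classical
  have hF' : Fintype.card F = (2 ^ n) ^ 2 := by rw [hF, ← pow_mul, mul_comm, pow_mul]; norm_num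
  haveI : CharP F 2 := PSU3Sylow.charTwo (k := n * 2) (hF'.trans (pow_mul 2 n 2).symm)
  haveI : Fact (Nat.Prime 2) := ⟨Nat.prime_two⟩
  obtain ⟨σ, hu⟩ := AutPSU.exists_uctx hF'
  let Z := Subgroup.center ↥(Cfsg.SU 3 F (2 ^ n))
  let π := QuotientGroup.mk' Z
  let Q := P.mapSurjective (QuotientGroup.mk'_surjective Z)
  obtain ⟨e⟩ := PSU3Sylow.exists_equiv hu (by omega) rfl Q
  have hinj : Function.Injective (π.comp (P : Subgroup ↥(Cfsg.SU 3 F (2 ^ n))).subtype) := by
    rw [injective_iff_map_eq_one]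
    intro x hx
    have hxZ : (x : ↥(Cfsg.SU 3 F (2 ^ n))) ∈ Z := (QuotientGroup.eq_one_iff _).mp hx
    obtain ⟨k, hk⟩ := P.isPGroup' x
    have hk' : (x : ↥(Cfsg.SU 3 F (2 ^ n))) ^ (2 ^ k) = 1 := by
      rw [← Subgroup.coe_pow, hk, Subgroup.coe_one]
    have h1 : orderOf (x : ↥(Cfsg.SU 3 F (2 ^ n))) ∣ 2 ^ k := orderOf_dvd_of_pow_eq_one hk'
    have h2 : orderOf (x : ↥(Cfsg.SU 3 F (2 ^ n))) ∣ 3 := by
      have hd : orderOf (⟨_, hxZ⟩ : Z) ∣ Nat.card Z := orderOf_dvd_natCard _
      rw [S0279.result hF' 3 le_rfl, ← Subgroup.orderOf_coe] at hd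
      exact hd.trans (Nat.gcd_dvd_left _ _)
    have h3 : orderOf (x : ↥(Cfsg.SU 3 F (2 ^ n))) ∣ 1 := by
      have := Nat.dvd_gcd h1 h2
      rwa [Nat.Coprime.gcd_eq_one (Nat.Coprime.pow_left k (by norm_num))] at this
    exact Subtype.ext (orderOf_eq_one_iff.mp (Nat.dvd_one.mp h3))
  have hrange : (π.comp (P : Subgroup ↥(Cfsg.SU 3 F (2 ^ n))).subtype).range = (Q : Subgroup _) := by
    rw [MonoidHom.range_comp, Subgroup.range_subtype]; rfl
  obtain ⟨ε⟩ := hS
  let E : S ≃* Heis hu :=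
    ε.trans ((MonoidHom.ofInjective hinj).trans ((MulEquiv.subgroupCongr hrange).trans e))
  let Φ := MulAut.congr E
  obtain ⟨⟨h1, h1'⟩, h2, h3⟩ := heis_result (hu := hu) (n := n) (by omega) rfl
  have hmap := Core.map_pCore (p := 2) Φ
  have hmem : ∀ a ∈ Cfsg.pCore 2 (MulAut S), Φ a ∈ Cfsg.pCore 2 (MulAut (Heis hu)) :=
    fun a ha => hmap ▸ Subgroup.mem_map_of_mem _ ha
  refine ⟨⟨⟨⟨fun a b => Subtype.ext (Φ.injective ?_)⟩⟩, fun a ha => Φ.injective ?_⟩, ?_,
    (Nat.card_congr Φ.toEquiv).trans h3⟩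
  · simp only [Subgroup.coe_mul, map_mul]
    exact congrArg Subtype.val (h1.is_comm.comm ⟨_, hmem a a.2⟩ ⟨_, hmem b b.2⟩)
  · rw [map_pow, map_one]
    exact h1' _ (hmem a ha)
  · rw [← h2, ← hmap]
    exact Nat.card_congr (Subgroup.equivMapOfInjective _ Φ.toMonoidHom Φ.injective).toEquiv

end Cfsg.Agent.S3162
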