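import Cfsg.Statements.S3163
import Mathlib
import Cfsg.Agent.CentLarge.Basic

set_option autoImplicit false
open Cfsg

namespace Cfsg.Agent.S3163

open scoped Pointwise

/-- Let S be a non-abelian finite 2-group which is the product S = AB of two elementary abelian subgroups A and B, and suppose that the centralizer in S of every element of A outside B is exactly A. Then the centralizer of every element of B outside A is exactly B; A and B are maximal elementary abelian subgroups of S and the only ones; the centre of S is A ∩ B; and every element of S outside A ∪ B has centralizer of order at most min(|A|, |B|). -/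
theorem result {S : Type*} [Group S] [Finite S] (hS : IsPGroup 2 S) (hna : ¬ IsMulCommutative S) (A B : Subgroup S)
    (hA : Cfsg.IsElementaryAbelian 2 A) (hB : Cfsg.IsElementaryAbelian 2 B) (hAB : ∀ s : S, ∃ a ∈ A, ∃ b ∈ B, s = a * b)
    (hC : ∀ a ∈ A, a ∉ B → Subgroup.centralizer ({a} : Set S) = A) :
    (∀ b ∈ B, b ∉ A → Subgroup.centralizer ({b} : Set S) = B) ∧
      (∀ E : Subgroup S, Cfsg.IsElementaryAbelian 2 E → (∀ E' : Subgroup S, Cfsg.IsElementaryAbelian 2 E' → E ≤ E' → E' = E) → E = A ∨ E = B) ∧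
      (∀ E' : Subgroup S, Cfsg.IsElementaryAbelian 2 E' → A ≤ E' → E' = A) ∧ (∀ E' : Subgroup S, Cfsg.IsElementaryAbelian 2 E' → B ≤ E' → E' = B) ∧
      Subgroup.center S = A ⊓ B ∧
      (∀ x : S, x ∉ A → x ∉ B → Nat.card ↥(Subgroup.centralizer ({x} : Set S)) ≤ min (Nat.card ↥A) (Nat.card ↥B)) := by
  classical
  have hab : ∀ a ∈ A, ∀ a' ∈ A, a * a' = a' * a := fun a ha a' ha' =>
    congrArg Subtype.val (hA.1.is_comm.comm (⟨a, ha⟩ : A) ⟨a', ha'⟩)
  have hbb : ∀ a ∈ B, ∀ a' ∈ B, a * a' = a' * a := fun a ha a' ha' =>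
    congrArg Subtype.val (hB.1.is_comm.comm (⟨a, ha⟩ : B) ⟨a', ha'⟩)
  have hnAB : ¬ A ≤ B := fun h => hna ⟨⟨fun s t => by
    obtain ⟨a, ha, b, hb, rfl⟩ := hAB s
    obtain ⟨a', ha', b', hb', rfl⟩ := hAB t
    exact hbb _ (mul_mem (h ha) hb) _ (mul_mem (h ha') hb')⟩⟩
  have hnBA : ¬ B ≤ A := fun h => hna ⟨⟨fun s t => by
    obtain ⟨a, ha, b, hb, rfl⟩ := hAB s
    obtain ⟨a', ha', b', hb', rfl⟩ := hAB t
    exact hab _ (mul_mem ha (h hb)) _ (mul_mem ha' (h hb'))⟩⟩
  have hcA : ∀ a ∈ A, a ∉ B → ∀ s, s * a = a * s → s ∈ A := fun a ha haB s hs => by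
    rw [← hC a ha haB]
    exact Subgroup.mem_centralizer_singleton_iff.2 hs
  have hcB : ∀ b ∈ B, b ∉ A → ∀ s, s * b = b * s → s ∈ B := fun b hb hbA s hs => by
    obtain ⟨a, ha, c, hc, rfl⟩ := hAB s
    refine mul_mem ?_ hc
    by_contra haB
    refine hbA (hcA a ha haB b ?_)
    have h1 : a * b * c = b * a * c := by
      rw [mul_assoc a b c, hbb b hb c hc, ← mul_assoc, hs, mul_assoc b a c]
    exact (mul_right_cancel h1).symm
  have hinv : ∀ x : S, x ^ 2 = 1 → x ∈ A ∨ x ∈ B := fun x hx => by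
    obtain ⟨a, ha, b, hb, rfl⟩ := hAB x
    by_cases haB : a ∈ B
    · exact Or.inr (mul_mem haB hb)
    · refine Or.inl (mul_mem ha (hcA a ha haB b ?_))
      have ha2 : a⁻¹ = a := inv_eq_of_mul_eq_one_right (by rw [← sq]; exact hA.2 a ha)
      have hb2 : b⁻¹ = b := inv_eq_of_mul_eq_one_right (by rw [← sq]; exact hB.2 b hb)
      rw [sq] at hx
      have := eq_inv_of_mul_eq_one_right hx
      rw [mul_inv_rev, ha2, hb2] at this
      exact this.symm
  have hsub : ∀ E : Subgroup S, Cfsg.IsElementaryAbelian 2 E → E ≤ A ∨ E ≤ B := fun E hE => by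
    by_contra h
    rw [not_or, SetLike.le_def, SetLike.le_def] at h
    simp only [not_forall] at h
    obtain ⟨⟨u, hu, huA⟩, ⟨w, hw, hwB⟩⟩ := h
    have huB := (hinv u (hE.2 u hu)).resolve_left huA
    have hwA := (hinv w (hE.2 w hw)).resolve_right hwB
    rcases hinv (u * w) (hE.2 _ (mul_mem hu hw)) with h | h
    · exact huA ((Subgroup.mul_mem_cancel_right A hwA).1 h)
    · exact hwB ((Subgroup.mul_mem_cancel_left B huB).1 h)
  have hcard : ∀ (P Q : Subgroup S), (∀ s : S, s ∈ (P : Set S) * (Q : Set S)) →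
      ∀ C : Subgroup S, C ⊓ P ≤ P ⊓ Q → Nat.card C ≤ Nat.card Q := by
    intro P Q hPQ C hCP
    have h1 := CentLarge.card_mul_le_of_le (le_top : C ≤ ⊤) (le_top : P ≤ ⊤)
    have h2 := CentLarge.card_mul_card_inf P Q
    have h3 : ((P : Set S) * (Q : Set S)) = Set.univ := Set.eq_univ_of_forall hPQ
    rw [h3] at h2
    have h4 : Nat.card ↥(Set.univ : Set S) = Nat.card (⊤ : Subgroup S) := by
      rw [Nat.card_univ, Subgroup.card_top]
    rw [h4] at h2
    have h5 : Nat.card ↥(C ⊓ P) ≤ Nat.card ↥(P ⊓ Q) := Subgroup.card_le_of_le hCP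
    refine Nat.le_of_mul_le_mul_right (c := Nat.card P) ?_ Nat.card_pos
    calc Nat.card C * Nat.card P ≤ Nat.card (⊤ : Subgroup S) * Nat.card ↥(C ⊓ P) := h1
      _ ≤ Nat.card (⊤ : Subgroup S) * Nat.card ↥(P ⊓ Q) := Nat.mul_le_mul_left _ h5
      _ = Nat.card Q * Nat.card P := by rw [h2, mul_comm]
  refine ⟨fun b hb hbA => le_antisymm (fun s hs => hcB b hb hbA s
      (Subgroup.mem_centralizer_singleton_iff.1 hs))
      (fun s hs => Subgroup.mem_centralizer_singleton_iff.2 (hbb s hs b hb)),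
    fun E hE hmax => (hsub E hE).imp (fun h => (hmax A hA h).symm) (fun h => (hmax B hB h).symm),
    fun E hE h => (hsub E hE).elim (fun h' => le_antisymm h' h) (fun h' => absurd (h.trans h') hnAB),
    fun E hE h => (hsub E hE).elim (fun h' => absurd (h.trans h') hnBA) (fun h' => le_antisymm h' h),
    ?_, fun x hxA hxB => ?_⟩
  · ext z
    rw [Subgroup.mem_center_iff, Subgroup.mem_inf]
    constructor
    · intro hz
      obtain ⟨a, ha, haB⟩ := SetLike.not_le_iff_exists.1 hnAB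
      obtain ⟨b, hb, hbA⟩ := SetLike.not_le_iff_exists.1 hnBA
      exact ⟨hcA a ha haB z (hz a).symm, hcB b hb hbA z (hz b).symm⟩
    · rintro ⟨hzA, hzB⟩ s
      obtain ⟨a, ha, b, hb, rfl⟩ := hAB s
      rw [mul_assoc, hbb b hb z hzB, ← mul_assoc, hab a ha z hzA, mul_assoc]
  · obtain ⟨a, ha, b, hb, rfl⟩ := hAB x
    have haB : a ∉ B := fun h => hxB (mul_mem h hb)
    have hbA : b ∉ A := fun h => hxA (mul_mem ha h)
    refine le_min (hcard B A (fun s => ?_) _ ?_) (hcard A B (fun s => ?_) _ ?_)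
    · obtain ⟨a', ha', b', hb', h⟩ := hAB s⁻¹
      exact ⟨b'⁻¹, inv_mem hb', a'⁻¹, inv_mem ha', by simp [← mul_inv_rev, ← h]⟩
    · intro c hc
      obtain ⟨hcC, hcB'⟩ := Subgroup.mem_inf.1 hc
      refine Subgroup.mem_inf.2 ⟨hcB', hcA a ha haB c ?_⟩
      have h1 := Subgroup.mem_centralizer_singleton_iff.1 hcC
      rw [mul_assoc a b c, hbb b hb c hcB', ← mul_assoc c a b, ← mul_assoc a c b] at h1
      exact mul_right_cancel h1
    · obtain ⟨a', ha', b', hb', rfl⟩ := hAB s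
      exact ⟨a', ha', b', hb', rfl⟩
    · intro c hc
      obtain ⟨hcC, hcA'⟩ := Subgroup.mem_inf.1 hc
      refine Subgroup.mem_inf.2 ⟨hcA', hcB b hb hbA c ?_⟩
      have h1 := Subgroup.mem_centralizer_singleton_iff.1 hcC
      rw [mul_assoc a b c, ← mul_assoc c a b, hab c hcA' a ha, mul_assoc a c b] at h1
      exact mul_left_cancel h1

end Cfsg.Agent.S3163
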