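import Cfsg.Statements.S3164
import Cfsg.Agent.S1754
import Cfsg.Agent.S3153
import Cfsg.Agent.Layer.LBalanceTwo
import Cfsg.Agent.Layer.FStar
import Cfsg.Agent.Layer.Intrinsic
-- import your own Cfsg.Agent.* helpers here

set_option autoImplicit false
open Cfsg

namespace Cfsg.Agent.S3164

open Subgroup
open scoped commutatorElement

/-- Let A be a standard subgroup of a finite group G whose centralizer has cyclic Sylow 2-subgroups, t an involution centralizing A, and X the normal closure of A in G. If X has a t-invariant 2-subgroup R with [R, t] nontrivial and contained in A, then X is semisimple (X equals its own layer, a central product of quasisimple groups) and the centre of X has odd order. -/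
theorem result {G : Type*} [Group G] [Finite G] (A : Subgroup G) (hA : Cfsg.IsStandardSubgroup A)
    (hcyc : ∀ R : Sylow 2 ↥(Subgroup.centralizer (A : Set G)), IsCyclic ↥(R : Subgroup ↥(Subgroup.centralizer (A : Set G)))) (t : G) (ht : orderOf t = 2) (htA : t ∈ Subgroup.centralizer (A : Set G))
    (R : Subgroup G) (hR2 : IsPGroup 2 ↥R) (hRX : R ≤ Subgroup.normalClosure (A : Set G)) (hRt : ∀ r ∈ R, t * r * t⁻¹ ∈ R)
    (hc1 : ⁅R, Subgroup.zpowers t⁆ ≠ ⊥) (hc2 : ⁅R, Subgroup.zpowers t⁆ ≤ A) :
    Cfsg.layer ↥(Subgroup.normalClosure (A : Set G)) = ⊤ ∧ Odd (Nat.card ↥(Subgroup.center ↥(Subgroup.normalClosure (A : Set G)))) := by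
  classical
  haveI : Fact (Nat.Prime 2) := ⟨Nat.prime_two⟩
  have hq := hA.1
  have hperf : ⁅A, A⁆ = A := Layer.qs_subgroup_perfect hq
  set C := centralizer (A : Set G) with hC
  set X := normalClosure (A : Set G) with hX
  have hAX : A ≤ X := le_normalClosure
  haveI hXn : X.Normal := normalClosure_normal
  have htt : t * t = 1 := by rw [← pow_two, ← ht, pow_orderOf_eq_one]
  have ht1 : t ≠ 1 := fun e => by rw [e, orderOf_one] at ht; exact absurd ht (by norm_num)
  have hti : t⁻¹ = t := inv_eq_of_mul_eq_one_right htt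
  have hrank : ∀ u ∈ C, u * u = 1 → u * t = t * u → u = 1 ∨ u = t := by
    intro u huC hu hut
    by_contra hcon
    push Not at hcon
    set u' : C := ⟨u, huC⟩ with hu'
    set t' : C := ⟨t, htA⟩ with ht'
    have hinv : ∀ x : C, x * x = 1 → IsPGroup 2 (zpowers x) := by
      rintro x hx ⟨y, hy⟩
      obtain ⟨i, rfl⟩ := mem_zpowers_iff.mp hy
      refine ⟨1, Subtype.ext ?_⟩
      show (x ^ i) ^ (2 ^ 1) = 1
      rw [pow_one, ← zpow_natCast, ← zpow_mul, mul_comm, zpow_mul, zpow_natCast, pow_two, hx, one_zpow]
    have hn : zpowers u' ≤ normalizer (zpowers t' : Set C) := by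
      refine le_trans (zpowers_le.mpr ?_) (centralizer_le_normalizer _)
      refine mem_centralizer_iff.mpr fun y hy => ?_
      obtain ⟨i, rfl⟩ := mem_zpowers_iff.mp hy
      exact ((show Commute u' t' from Subtype.ext hut).zpow_right i).eq.symm
    have hP : IsPGroup 2 ↥(zpowers u' ⊔ zpowers t') :=
      (hinv u' (Subtype.ext hu)).to_sup_of_normal_right' (hinv t' (Subtype.ext htt)) hn
    obtain ⟨P, hPle⟩ := hP.exists_le_sylow
    haveI : IsCyclic ↥(P : Subgroup C) := hcyc P
    haveI := Fintype.ofFinite ↥(P : Subgroup C)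
    have hle := IsCyclic.card_pow_eq_one_le (α := ↥(P : Subgroup C)) (n := 2) two_pos
    have hc3 : ({1, ⟨t', hPle (mem_sup_right (mem_zpowers _))⟩,
        ⟨u', hPle (mem_sup_left (mem_zpowers _))⟩} : Finset ↥(P : Subgroup C)).card = 3 :=
      Finset.card_eq_three.mpr ⟨_, _, _,
        fun e => ht1 (congrArg (fun z : ↥(P : Subgroup C) => ((z : C) : G)) e).symm,
        fun e => hcon.1 (congrArg (fun z : ↥(P : Subgroup C) => ((z : C) : G)) e).symm,
        fun e => hcon.2 (congrArg (fun z : ↥(P : Subgroup C) => ((z : C) : G)) e).symm, rfl⟩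
    have : 3 ≤ _ := hc3.symm.le.trans ((Finset.card_le_card (fun z hz => by
      simp only [Finset.mem_insert, Finset.mem_singleton] at hz
      rw [Finset.mem_filter]
      refine ⟨Finset.mem_univ _, ?_⟩
      rcases hz with rfl | rfl | rfl
      · exact one_pow _
      · exact Subtype.ext (Subtype.ext (by simpa [pow_two] using htt))
      · exact Subtype.ext (Subtype.ext (by simpa [pow_two] using hu)))).trans hle)
    omega
  obtain ⟨r, hrR, hr⟩ : ∃ r ∈ R, r * t * r⁻¹ * t⁻¹ ≠ 1 := by
    by_contra h
    push Not at h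
    refine hc1 (le_bot_iff.mp (commutator_le.mpr fun r hr q hq => ?_))
    obtain ⟨i, rfl⟩ := mem_zpowers_iff.mp hq
    have : Commute r t := by
      have h' := h r hr
      rw [mul_inv_eq_one, mul_inv_eq_iff_eq_mul] at h'
      exact h'
    rw [mem_bot, commutatorElement_eq_one_iff_commute]
    exact this.zpow_right i
  set a := r * t * r⁻¹ * t⁻¹ with ha
  have haA : a ∈ A := hc2 (by
    rw [ha, ← commutatorElement_def]
    exact commutator_mem_commutator hrR (mem_zpowers t))
  have hta : t * a = a * t := (mem_centralizer_iff.mp htA a haA).symm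
  have hat : a * t = r * t * r⁻¹ := by rw [ha, inv_mul_cancel_right]
  have haa : a * a = 1 := by
    calc a * a = (a * t) * (a * t) := by
          rw [mul_assoc a t, ← mul_assoc t a t, hta, mul_assoc a t t, htt, mul_one]
      _ = r * (t * t) * r⁻¹ := by rw [hat]; group
      _ = 1 := by rw [htt, mul_one, mul_inv_cancel]
  have haC : a ∉ C := fun h => by
    rcases hrank a h haa hta.symm with e | e
    · exact hr e
    · rw [e, htt] at hat
      exact ht1 (conj_eq_one_iff.mp hat.symm)
  have haord : orderOf a = 2 := orderOf_eq_prime (by rw [pow_two, haa]) hr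
  set O := oddCore G with hOdef
  haveI hOn : O.Normal := sSup_normal _ fun _ h => h.1
  have hOodd : Odd (Nat.card O) := Nat.coprime_two_right.mp Core.coprime_card_pPrimeCore
  have hAcent : A ≤ centralizer ({t} : Set G) := fun x hx =>
    mem_centralizer_singleton_iff.mpr (mem_centralizer_iff.mp htA x hx)
  set K := O ⊓ centralizer ({t} : Set G) with hK
  have hKN : K ≤ normalizer (A : Set G) := inf_le_right.trans (S1754.result A hA t ht htA).1
  have hAK : A ≤ normalizer (K : Set G) := Layer.le_normalizer_inf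
    (by rw [normalizer_eq_top]; exact le_top) (hAcent.trans le_normalizer)
  have hKA : ⁅A, K⁆ = ⊥ := by
    have h1 : ⁅A, K⁆ ≤ K ⊓ A := le_inf (le_normalizer_iff_commutator_le_right.mp hAK)
      (le_normalizer_iff_commutator_le_left.mp hKN)
    haveI : ((K ⊓ A).subgroupOf A).Normal :=
      (normal_subgroupOf_iff_le_normalizer inf_le_right).mpr (Layer.le_normalizer_inf hAK le_normalizer)
    have h2 : ⁅K ⊓ A, A⁆ = ⊥ := by
      rcases Layer.qs_normal_cases hq (this : ((K ⊓ A).subgroupOf A).Normal) with h | h
      · exfalso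
        have haO : a ∈ O := (show (⟨a, haA⟩ : A) ∈ (K ⊓ A).subgroupOf A from h ▸ mem_top _).1.1
        have := Subgroup.orderOf_dvd_natCard O haO
        rw [haord] at this
        exact Nat.not_even_iff_odd.mpr hOodd (even_iff_two_dvd.mpr this)
      · refine commutator_eq_bot_iff_le_centralizer.mpr fun x hx => mem_centralizer_iff.mpr fun y hy => ?_
        exact congrArg Subtype.val (mem_center_iff.mp (h (show (⟨x, hx.2⟩ : A) ∈ _ from hx)) ⟨y, hy⟩)
    have h3 : ⁅⁅A, K⁆, A⁆ = ⊥ := le_bot_iff.mp ((commutator_mono h1 le_rfl).trans h2.le)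
    have h4 : ⁅⁅A, A⁆, K⁆ = ⊥ :=
      commutator_commutator_eq_bot_of_rotate h3 (by rwa [Subgroup.commutator_comm K A])
    rwa [hperf] at h4
  have hsame : O ⊓ centralizer ({a * t} : Set G) = K := by
    have hcard : Nat.card ↥(O ⊓ centralizer ({a * t} : Set G)) = Nat.card K := by
      rw [← Layer.card_map_conj K r, hK, Subgroup.map_inf _ _ _ (MulAut.conj r).injective,
        Layer.map_conj_eq_of_normal]
      congr 2
      ext x
      rw [mem_inf, mem_inf, Layer.mem_map_conj, mem_centralizer_singleton_iff,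
        mem_centralizer_singleton_iff, hat]
      refine and_congr_right fun _ => ?_
      constructor <;> intro h
      · calc r⁻¹ * x * r * t = r⁻¹ * (x * (r * t * r⁻¹)) * r := by group
          _ = r⁻¹ * (r * t * r⁻¹ * x) * r := by rw [h]
          _ = t * (r⁻¹ * x * r) := by group
      · calc x * (r * t * r⁻¹) = r * (r⁻¹ * x * r * t) * r⁻¹ := by group
          _ = r * (t * (r⁻¹ * x * r)) * r⁻¹ := by rw [h]
          _ = r * t * r⁻¹ * x := by group
    refine (eq_of_le_of_card_ge ?_ hcard.le).symm
    intro x hx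
    refine ⟨hx.1, mem_centralizer_singleton_iff.mpr ?_⟩
    have hxa : a * x = x * a := Layer.commute_of_commutator_eq_bot hKA haA hx
    calc x * (a * t) = x * a * t := (mul_assoc _ _ _).symm
      _ = a * x * t := by rw [hxa]
      _ = a * (x * t) := mul_assoc _ _ _
      _ = a * (t * x) := by rw [mem_centralizer_singleton_iff.mp hx.2]
      _ = a * t * x := (mul_assoc _ _ _).symm
  have hON : ∀ u : G, u ∈ normalizer (O : Set G) := fun u => by rw [normalizer_eq_top]; exact mem_top u
  have haO : O ≤ centralizer ({a} : Set G) := by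
    have h := S3153.le_centralizer_mul hOodd
      (show (a * t) * (a * t) = 1 by
        rw [mul_assoc a t, ← mul_assoc t a t, hta, mul_assoc a t t, htt, mul_one, haa])
      htt (show (a * t) * t = t * (a * t) by rw [← mul_assoc t, hta])
      (hON _) (hON _) hsame
    rwa [mul_assoc, htt, mul_one] at h
  have hAO : A ≤ centralizer (O : Set G) := by
    haveI : (centralizer (O : Set G)).Normal := inferInstance
    rcases Layer.qs_normal_cases hq
        (inferInstance : ((centralizer (O : Set G)).subgroupOf A).Normal) with h | h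
    · exact subgroupOf_eq_top.mp h
    · refine absurd ?_ haC
      have hmem : (⟨a, haA⟩ : A) ∈ (centralizer (O : Set G)).subgroupOf A :=
        mem_centralizer_iff.mpr fun y hy => mem_centralizer_singleton_iff.mp (haO hy)
      exact mem_centralizer_iff.mpr fun y hy =>
        congrArg Subtype.val (mem_center_iff.mp (h hmem) ⟨y, hy⟩)
  have hXO : X ≤ centralizer (O : Set G) :=
    normalClosure_le_normal hAO
  set f := QuotientGroup.mk' (pPrimeCore 2 G) with hf
  have hAL : A ≤ pLayer 2 G := by
    have hcl : centralizer ((zpowers t : Subgroup G) : Set G) = centralizer ({t} : Set G) := by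
      rw [zpowers_eq_closure, centralizer_closure]
    have hT : IsPGroup 2 (zpowers t) := IsPGroup.of_card (n := 1) (by rw [Nat.card_zpowers, ht, pow_one])
    refine le_trans ?_ (Layer.pLayer_centralizer_le_two hT)
    rw [hcl]
    have hcomp := (S1754.result A hA t ht htA).2
    have hpc := Layer.isPComponent_component (p := 2) hcomp fun hle => by
      have hmem : (⟨a, hAcent haA⟩ : ↥(centralizer ({t} : Set G))) ∈
          pPrimeCore 2 ↥(centralizer ({t} : Set G)) := hle haA
      have h2 := Subgroup.orderOf_dvd_natCard _ hmem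
      rw [← Subgroup.orderOf_coe, show ((⟨a, hAcent haA⟩ : ↥(centralizer ({t} : Set G))) : G) = a from rfl,
        haord] at h2
      exact Nat.not_even_iff_odd.mpr (Nat.coprime_two_right.mp Core.coprime_card_pPrimeCore)
        (even_iff_two_dvd.mpr h2)
    have := map_mono (f := (centralizer ({t} : Set G)).subtype) (Layer.pComponent_le_pLayer hpc)
    rwa [map_subgroupOf_eq_of_le hAcent] at this
  haveI hLn : (layer (G ⧸ pPrimeCore 2 G)).Normal :=
    Layer.normal_sSup_of_conj fun L hL g => Layer.isComponent_map_conj hL g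
  have hXL : X.map f ≤ layer (G ⧸ pPrimeCore 2 G) := by
    rw [map_le_iff_le_comap]
    refine normalClosure_le_normal ?_
    exact (map_le_iff_le_comap.mp ((map_mono hAL).trans Layer.map_pLayer.le))
  have hXp : ⁅X, X⁆ = X := by
    refine le_antisymm (commutator_le_self X) (normalClosure_le_normal ?_)
    exact hperf.symm.le.trans (commutator_mono hAX hAX)
  haveI : (X.map f).Normal := hXn.map f (QuotientGroup.mk'_surjective _)
  have hXE : X.map f ≤ (layer G).map f := by
    set s₁ := {L : Subgroup (G ⧸ pPrimeCore 2 G) | IsComponent L ∧ L ≤ X.map f} with hs₁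
    have hsplit := Layer.eq_components_sup_fitting (hXL.trans Layer.layer_le_generalizedFitting)
      (Subgroup.Normal.isSubnormal (inferInstance : (X.map f).Normal))
    have hs1le : sSup s₁ ≤ layer (G ⧸ pPrimeCore 2 G) := sSup_le fun L hL => Layer.component_le_layer hL.1
    have h1 : X.map f ≤ sSup s₁ := by
      refine Layer.perfect_le_of_le_sup (by rw [← map_commutator, hXp]) ?_ ?_ hsplit.le
      · exact inf_le_left.trans (Layer.fitting_le_centralizer_layer.trans (centralizer_le hs1le))
      · exact inf_le_left.trans (Layer.fitting_le_centralizer_layer.trans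
          (centralizer_le (inf_le_right.trans hXL)))
    refine h1.trans (sSup_le fun L hL => ?_)
    have hK2 := Layer.isPComponent_pComponentOver (p := 2) hL.1
    have hKmap := Layer.map_pComponentOver (p := 2) hL.1
    set K₁ := Layer.pComponentOver 2 L with hK₁
    have hKc := (Layer.isPComponent_iff_intrinsic.mp hK2).2
    have hKX : K₁ ≤ X := by
      refine Layer.pCompGroup_le_of_le_sup (O := O) hKc (Nat.coprime_two_right.mpr hOodd) ?_
      have : K₁.map f ≤ X.map f := hKmap.le.trans hL.2
      rw [map_le_iff_le_comap, comap_map_eq, hf, QuotientGroup.ker_mk'] at this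
      exact this
    have hKq : IsQuasisimple ↥K₁ := by
      refine Layer.isQuasisimple_of_commutator_eq_bot hKc (commutator_eq_bot_iff_le_centralizer.mpr ?_)
      refine (hKX.trans hXO).trans (centralizer_le ?_)
      rw [Layer.map_pPrimeCore_eq_inf hK2.1]
      exact fun x hx => by first | exact hx.2 | exact hx.1
    rw [← hKmap]
    exact map_mono (Layer.component_le_layer ⟨hK2.1, hKq⟩)
  haveI hEn : (layer G).Normal :=
    Layer.normal_sSup_of_conj fun L hL g => Layer.isComponent_map_conj hL g
  have hXE' : X ≤ layer G := by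
    rw [map_le_iff_le_comap, comap_map_eq, hf, QuotientGroup.ker_mk'] at hXE
    set g := QuotientGroup.mk' (layer G) with hg
    have h1 : X.map g ≤ O.map g := by
      refine (map_mono hXE).trans ?_
      rw [Subgroup.map_sup, hg, QuotientGroup.map_mk'_self, bot_sup_eq]
    have h2 : ⁅X.map g, X.map g⁆ = ⊥ := le_bot_iff.mp (by
      refine (commutator_mono le_rfl h1).trans ?_
      rw [← map_commutator, commutator_eq_bot_iff_le_centralizer.mpr hXO, Subgroup.map_bot])
    rw [← map_commutator, hXp, Subgroup.map_eq_bot_iff, hg, QuotientGroup.ker_mk'] at h2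
    exact h2
  constructor
  · haveI : Group.IsPerfect ↥X := Subgroup.isPerfect_iff.mpr hXp
    refine top_le_iff.mp (Layer.perfect_le_layer Group.IsPerfect.commutator_eq_top ?_)
    refine fun x _ => (Subgroup.mem_map_iff_mem X.subtype_injective).mp ?_
    rw [Layer.map_generalizedFitting_normal X]
    exact ⟨Layer.layer_le_generalizedFitting (hXE' x.2), x.2⟩
  · by_contra hodd
    obtain ⟨z, hz⟩ := exists_prime_orderOf_dvd_card' (G := ↥(center ↥X)) 2
      (even_iff_two_dvd.mp (Nat.not_odd_iff_even.mp hodd))
    set Z := (center ↥X).map X.subtype with hZdef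
    haveI : Z.Normal := inferInstance
    have hZC : ∀ w ∈ Z, ∀ x ∈ X, x * w = w * x := by
      rintro w ⟨w', hw', rfl⟩ x hx
      exact congrArg Subtype.val (mem_center_iff.mp hw' ⟨x, hx⟩)
    set z₀ : G := ((z : X) : G) with hz₀
    have hz0 : z₀ ∈ Z := ⟨(z : X), z.2, rfl⟩
    have hzord : orderOf z₀ = 2 := by rw [hz₀, Subgroup.orderOf_coe, Subgroup.orderOf_coe, hz]
    have hzz : z₀ * z₀ = 1 := by rw [← pow_two, ← hzord, pow_orderOf_eq_one]
    set z₁ := t * z₀ * t⁻¹ with hz₁
    have hz1 : z₁ ∈ Z := Subgroup.Normal.conj_mem inferInstance _ hz0 t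
    have hz1z : z₁ * z₀ = z₀ * z₁ := by
      obtain ⟨w', hw', e⟩ := hz0
      obtain ⟨w'', hw'', e'⟩ := hz1
      rw [← e, ← e']
      exact congrArg Subtype.val (mem_center_iff.mp hw' w'')
    have hz11 : z₁ * z₁ = 1 := by
      calc t * z₀ * t⁻¹ * (t * z₀ * t⁻¹) = t * (z₀ * z₀) * t⁻¹ := by group
        _ = 1 := by rw [hzz, mul_one, mul_inv_cancel]
    have hconj : t * z₁ * t⁻¹ = z₀ := by
      rw [hz₁, hti]
      calc t * (t * z₀ * t) * t = (t * t) * z₀ * (t * t) := by group
        _ = z₀ := by rw [htt, one_mul, mul_one]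
    obtain ⟨w, hwZ, hw1, hww, hwt⟩ : ∃ w ∈ Z, w ≠ 1 ∧ w * w = 1 ∧ w * t = t * w := by
      by_cases h : z₁ = z₀
      · exact ⟨z₀, hz0, fun e => by rw [e, orderOf_one] at hzord; exact absurd hzord (by norm_num), hzz,
          (mul_inv_eq_iff_eq_mul.mp h).symm⟩
      · refine ⟨z₁ * z₀, mul_mem hz1 hz0, fun e => h ?_, ?_, ?_⟩
        · rw [eq_inv_of_mul_eq_one_left e, inv_eq_of_mul_eq_one_right hzz]
        · rw [mul_assoc, ← mul_assoc z₀ z₁ z₀, ← hz1z, mul_assoc z₁ z₀ z₀, hzz, mul_one, hz11]
        · have : t * (z₁ * z₀) * t⁻¹ = z₁ * z₀ := by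
            calc t * (z₁ * z₀) * t⁻¹ = (t * z₁ * t⁻¹) * (t * z₀ * t⁻¹) := by group
              _ = z₀ * z₁ := by rw [hconj, ← hz₁]
              _ = z₁ * z₀ := hz1z.symm
          exact (mul_inv_eq_iff_eq_mul.mp this).symm
    have hwC : w ∈ C := mem_centralizer_iff.mpr fun x hx => hZC w hwZ x (hAX hx)
    obtain rfl := (hrank w hwC hww hwt).resolve_left hw1
    apply hr
    have := hZC w hwZ r (hRX hrR)
    rw [ha, this]
    group


end Cfsg.Agent.S3164
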