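import Cfsg.Statements.S3166
import Mathlib

set_option autoImplicit false
open Cfsg

namespace Cfsg.Agent.S3166

/-- Let q = 2^n with n ≥ 1. If q⁴ − q³ + q² − q + 1 is a power p^m of a prime p, then m = 1: the value is never a prime power with exponent greater than 1. -/
theorem result (n p m : ℕ) (hn : 1 ≤ n) (hp : p.Prime) (h : (2 ^ n) ^ 4 - (2 ^ n) ^ 3 + (2 ^ n) ^ 2 - 2 ^ n + 1 = p ^ m) : m = 1 := by
  set x := 2 ^ n with hx
  have hx2 : 2 ≤ x := by
    rw [hx]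
    calc 2 = 2 ^ 1 := rfl
      _ ≤ 2 ^ n := Nat.pow_le_pow_right two_pos hn
  have hb1 : x ^ 3 ≤ x ^ 4 := Nat.pow_le_pow_right (by omega) (by omega)
  have hb2 : x ≤ x ^ 2 := Nat.le_self_pow two_ne_zero _
  have hz : ((p : ℤ) ^ m) = (x : ℤ) ^ 4 - (x : ℤ) ^ 3 + (x : ℤ) ^ 2 - x + 1 := by
    have : ((p ^ m : ℕ) : ℤ) = ((x ^ 4 - x ^ 3 + x ^ 2 - x + 1 : ℕ) : ℤ) := by rw [h]
    rw [Nat.cast_add, Nat.cast_sub (le_trans hb2 (Nat.le_add_left _ _)), Nat.cast_add,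
      Nat.cast_sub hb1] at this
    push_cast at this
    exact this
  have hxz : (2 : ℤ) ≤ x := by exact_mod_cast hx2
  rcases Nat.even_or_odd m with ⟨k, rfl⟩ | hm
  · exfalso
    set a : ℤ := 2 * (p : ℤ) ^ k with ha
    have h4 : a ^ 2 = 4 * ((x : ℤ) ^ 4 - (x : ℤ) ^ 3 + (x : ℤ) ^ 2 - x + 1) := by
      rw [← hz, ha]; ring
    have ha0 : 0 ≤ a := by positivity
    have hl : 2 * (x : ℤ) ^ 2 - x < a := by
      refine lt_of_pow_lt_pow_left₀ 2 ha0 ?_
      nlinarith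
    have hu : a < 2 * (x : ℤ) ^ 2 - x + 1 := by
      refine lt_of_pow_lt_pow_left₀ 2 (by nlinarith) ?_
      nlinarith
    omega
  obtain ⟨j, rfl⟩ := hm
  have hpodd : Odd p := by
    refine hp.odd_of_ne_two ?_
    rintro rfl
    have he : (2 : ℤ) ∣ 1 := by
      have h1 : (2 : ℤ) ∣ ((2 : ℕ) : ℤ) ^ (2 * j + 1) := by
        push_cast; exact dvd_pow_self 2 (by omega)
      rw [hz] at h1
      have h2 : (2 : ℤ) ∣ (x : ℤ) := by
        rw [hx]; push_cast; exact dvd_pow_self 2 (by omega)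
      have h3 : (2 : ℤ) ∣ (x : ℤ) ^ 4 - (x : ℤ) ^ 3 + (x : ℤ) ^ 2 - x :=
        dvd_sub (dvd_add (dvd_sub (dvd_pow h2 (by omega)) (dvd_pow h2 (by omega)))
          (dvd_pow h2 (by omega))) h2
      simpa using dvd_sub h1 h3
    omega
  have hdvd : (x : ℤ) ∣ (p : ℤ) - 1 := by
    set S := ∑ i ∈ Finset.range (2 * j + 1), (p : ℤ) ^ i with hS
    have hSo : Odd S := by
      have hpo : Odd (p : ℤ) := (Int.odd_coe_nat p).2 hpodd
      have : ∀ r : ℕ, Odd (∑ i ∈ Finset.range (2 * r + 1), (p : ℤ) ^ i) := by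
        intro r
        induction r with
        | zero => simp
        | succ r ih =>
          rw [show 2 * (r + 1) + 1 = 2 * r + 1 + 1 + 1 by ring, Finset.sum_range_succ _ (2 * r + 1 + 1),
            Finset.sum_range_succ _ (2 * r + 1), add_assoc]
          exact ih.add_even (hpo.pow.add_odd hpo.pow)
      exact this j
    have h1 : (x : ℤ) ∣ S * ((p : ℤ) - 1) := by
      rw [hS, geom_sum_mul, hz]
      exact ⟨(x : ℤ) ^ 3 - (x : ℤ) ^ 2 + x - 1, by ring⟩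
    refine IsCoprime.dvd_of_dvd_mul_left ?_ h1
    rw [hx]
    push_cast
    apply IsCoprime.pow_left
    obtain ⟨i, hi⟩ := hSo
    exact ⟨-i, 1, by rw [hi]; ring⟩
  obtain ⟨k, hk⟩ := hdvd
  have hk1 : 1 ≤ k := by
    have : (2 : ℤ) ≤ p := by exact_mod_cast hp.two_le
    nlinarith
  obtain hj | hj | hj : j = 0 ∨ j = 1 ∨ 2 ≤ j := by omega
  · omega
  · exfalso
    subst hj
    have hp' : (p : ℤ) = 1 + x * k := by linarith
    rw [hp'] at hz
    have hfac : (x : ℤ) * (3 * k + 1) = (x : ℤ) ^ 2 * (x ^ 2 - x + 1 - 3 * k ^ 2 - x * k ^ 3) := by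
      linear_combination hz
    have hfac' : 3 * k + 1 = (x : ℤ) * (x ^ 2 - x + 1 - 3 * k ^ 2 - x * k ^ 3) :=
      mul_left_cancel₀ (by omega : (x : ℤ) ≠ 0) (by linear_combination hfac)
    have hle : (x : ℤ) ≤ 3 * k + 1 := Int.le_of_dvd (by omega) ⟨_, hfac'⟩
    have hlt : k ^ 3 < (x : ℤ) := by
      by_contra hge
      push Not at hge
      nlinarith [mul_le_mul_of_nonneg_left hge (by positivity : (0 : ℤ) ≤ (x : ℤ) ^ 3)]
    have hk2 : k = 1 := by nlinarith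
    subst hk2
    have hx4 : (x : ℤ) ≤ 4 := by omega
    interval_cases hxx : (x : ℤ) <;> simp_all
  · exfalso
    have h5 : (x : ℤ) + 1 ≤ p := by nlinarith
    have h6 : ((x : ℤ) + 1) ^ 5 ≤ (p : ℤ) ^ (2 * j + 1) :=
      le_trans (pow_le_pow_left₀ (by positivity) h5 5) (pow_le_pow_right₀ (by omega) (by omega))
    rw [hz] at h6
    nlinarith [pow_pos (show (0 : ℤ) < x by omega) 4, pow_pos (show (0 : ℤ) < x by omega) 3]

end Cfsg.Agent.S3166
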