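import Cfsg.Statements.S3175
import Cfsg.Agent.RudvalisType.Aut

set_option autoImplicit false
open Cfsg

namespace Cfsg.Agent.S3175

open Subgroup

theorem complement_of_trivial {G : Type*} [Group G] [Finite G] (T : Sylow 2 G)
    (haut : ∀ (α : ↥(T : Subgroup G) ≃* ↥(T : Subgroup G)) (q : ℕ), Odd q → (⇑α)^[q] = id →
      ∀ t, α t = t) :
    Cfsg.HasNormalPComplement 2 ↥(Subgroup.normalizer ((T : Subgroup G) : Set G)) := by
  classical
  set N := Subgroup.normalizer ((T : Subgroup G) : Set G) with hN
  let P : Sylow 2 N := T.subtype le_normalizer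
  have hPc : (P : Subgroup N) = (T : Subgroup G).subgroupOf N := rfl
  have hPn : (P : Subgroup N).Normal := by rw [hPc]; exact normal_in_normalizer
  obtain ⟨K, hK⟩ := exists_right_complement'_of_coprime (P.card_coprime_index)
  refine ⟨P, K, ?_, hK.symm⟩
  have hodd : ∀ k ∈ K, Odd (orderOf k) := by
    intro k hk
    have h1 : orderOf k ∣ Nat.card K := by
      rw [← orderOf_mk k hk]; exact orderOf_dvd_natCard _
    have h2 : ¬ 2 ∣ Nat.card K := by
      rw [← hK.symm.index_eq_card]; exact P.not_dvd_index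
    exact (Nat.not_even_iff_odd.mp fun e => h2 (e.two_dvd.trans h1))
  have hcomm : ∀ k ∈ K, ∀ p ∈ (P : Subgroup N), k * p = p * k := by
    intro k hk p hp
    let e : ↥(P : Subgroup N) ≃* ↥(T : Subgroup G) := subgroupOfEquivOfLe le_normalizer
    let c : ↥(P : Subgroup N) ≃* ↥(P : Subgroup N) := MulAut.conjNormal k
    let α := (e.symm.trans c).trans e
    have hiter : ∀ (i : ℕ) (t : ↥(T : Subgroup G)),
        (((⇑α)^[i] t : ↥(T : Subgroup G)) : G) = (k : G) ^ i * (t : G) * ((k : G) ^ i)⁻¹ := by
      intro i t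
      induction i with
      | zero => simp
      | succ i ih =>
        rw [Function.iterate_succ_apply', pow_succ']
        show (k : G) * (((⇑α)^[i] t : ↥(T : Subgroup G)) : G) * (k : G)⁻¹ = _
        rw [ih]
        simp [mul_assoc]
    have hα : (⇑α)^[orderOf k] = id := by
      funext t
      refine Subtype.ext ?_
      rw [hiter, show (k : G) ^ orderOf k = 1 by rw [← coe_pow, pow_orderOf_eq_one, coe_one]]
      simp
    have := congrArg Subtype.val (haut α _ (hodd k hk) hα ⟨(p : G), hp⟩)
    have h1 : (k : G) * (p : G) * (k : G)⁻¹ = p := this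
    exact Subtype.ext (mul_inv_eq_iff_eq_mul.mp h1)
  refine ⟨fun n hn g => ?_⟩
  obtain ⟨⟨⟨p, hp⟩, ⟨k, hk⟩⟩, rfl⟩ := hK.surjective g
  have hm : k * n * k⁻¹ ∈ K := mul_mem (mul_mem hk hn) (inv_mem hk)
  show p * k * n * (p * k)⁻¹ ∈ K
  rw [show p * k * n * (p * k)⁻¹ = p * (k * n * k⁻¹) * p⁻¹ by group,
    ← hcomm _ hm p hp, mul_inv_cancel_right]
  exact hm

/-- Let G be a finite group whose Sylow 2-subgroup T has order at least 2^14 and whose upper central series has fourth term of order 16; let W be the centralizer in T of the third term, and suppose the Frattini subgroup of W has order at most 8 and lies in every subgroup of W of index at most 16. Then the normalizer of T in G has a normal 2-complement, and W is weakly closed in T with respect to G. -/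
theorem result {G : Type*} [Group G] [Finite G]
    (T : Sylow 2 G) (ha : 2 ^ 14 ≤ Nat.card ↥(T : Subgroup G))
    (hb : Nat.card ↥(Subgroup.upperCentralSeries ↥(T : Subgroup G) 4) = 16)
    (W : Subgroup ↥(T : Subgroup G))
    (hW : W = Subgroup.centralizer ((Subgroup.upperCentralSeries ↥(T : Subgroup G) 3 : Subgroup ↥(T : Subgroup G)) : Set ↥(T : Subgroup G)))
    (hc : Nat.card ↥(frattini ↥W) ≤ 8)
    (hd : ∀ U : Subgroup ↥W, U.index ≤ 16 → frattini ↥W ≤ U) :
    Cfsg.HasNormalPComplement 2 ↥(Subgroup.normalizer ((T : Subgroup G) : Set G)) ∧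
      Cfsg.IsWeaklyClosed (W.map (T : Subgroup G).subtype) (T : Subgroup G) := by
  have h : RudvalisType.Hyp ↥(T : Subgroup G) W := ⟨T.isPGroup', ha, hb, hW, hc, hd⟩
  refine ⟨complement_of_trivial T fun α q hq hα t => h.fixed_of_odd α hq hα t,
    map_subtype_le _, fun g hg => ?_⟩
  set V := W.map (T : Subgroup G).subtype
  set V' := V.map (MulAut.conj g).toMonoidHom with hV'
  let e : W ≃* ↥(V'.subgroupOf (T : Subgroup G)) :=
    ((W.equivMapOfInjective _ (T : Subgroup G).subtype_injective).trans
      (V.equivMapOfInjective _ (MulAut.conj g).injective)).trans (subgroupOfEquivOfLe hg).symm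
  rw [← map_subgroupOf_eq_of_le hg, h.eq_of_equiv e]

end Cfsg.Agent.S3175
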