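import Cfsg.Statements.S3178
import Cfsg.Agent.MaxClass.SmallAut
import Cfsg.Agent.MaxClass.CyclicNormal
import Cfsg.Agent.Fusion.Control
import Cfsg.Agent.Fusion.Critical

set_option autoImplicit false
open Cfsg

namespace Cfsg.Agent.S3178

open scoped commutatorElement in
theorem sq_le {G : Type*} [Group G] [Finite G] (hG : IsPGroup 2 G) (M : Subgroup G) (h : ∀ x : G, x * x ∈ M) :
    frattini G ≤ M := by
  have : Fact (Nat.Prime 2) := ⟨Nat.prime_two⟩
  have hn : M.Normal := ⟨fun v hv x => by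
    have e : x * v * x⁻¹ = (x * v) * (x * v) * v⁻¹ * (x * x)⁻¹ := by group
    rw [e]
    exact mul_mem (mul_mem (h _) (inv_mem hv)) (inv_mem (h x))⟩
  refine Fusion.frattini_le_of_elementary (p := 2) M ?_ fun x => by rw [pow_two]; exact h x
  rw [_root_.commutator_def, Subgroup.commutator_le]
  intro x _ y _
  rw [show ⁅x, y⁆ = (x * x) * ((x⁻¹ * y) * (x⁻¹ * y)) * (y * y)⁻¹ by rw [commutatorElement_def]; group]
  exact mul_mem (mul_mem (h x) (h _)) (inv_mem (h y))

/-- Groups with a modular Sylow 2-subgroup have a normal 2-complement. Let S, of order 2^(n+1) with n ≥ 3, be a Sylow 2-subgroup of a finite group G, and suppose S contains an element a of order 2^n and an involution b with b a b⁻¹ = a^(2^(n-1) + 1); so S is the non-abelian 2-group with a cyclic subgroup of index 2 that is neither dihedral, semidihedral nor generalized quaternion. Then G has a normal 2-complement. -/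
theorem result {G : Type*} [Group G] [Finite G]
    (S : Sylow 2 G) (n : ℕ) (hn : 3 ≤ n) (hS : Nat.card ↥(S : Subgroup G) = 2 ^ (n + 1))
    (a b : G) (ha : a ∈ (S : Subgroup G)) (hb : b ∈ (S : Subgroup G))
    (hao : orderOf a = 2 ^ n) (hbo : orderOf b = 2) (hrel : b * a * b⁻¹ = a ^ (2 ^ (n - 1) + 1)) :
    Cfsg.HasNormalPComplement 2 G := by
  have : Fact (Nat.Prime 2) := ⟨Nat.prime_two⟩
  set r : ℤ := 2 ^ (n - 1) + 1 with hrdef
  have hr : b * a * b⁻¹ = a ^ r := by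
    rw [hrel, ← zpow_natCast, hrdef]; push_cast; rfl
  have hb2 : b * b = 1 := by rw [← pow_two, ← hbo, pow_orderOf_eq_one]
  have hbA : b ∉ Subgroup.zpowers a := by
    intro h
    obtain ⟨i, rfl⟩ := Subgroup.mem_zpowers_iff.1 h
    rw [show a ^ i * a * (a ^ i)⁻¹ = a ^ (1 : ℤ) by group, MaxClass.zpow_eq_iff hao, hrdef,
      show (2 : ℤ) ^ (n - 1) + 1 - 1 = 2 ^ (n - 1) by ring] at hr
    have := Int.le_of_dvd (by positivity) hr
    have := pow_lt_pow_right₀ (show (1 : ℤ) < 2 by norm_num) (show n - 1 < n by omega)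
    omega
  have hAS : Subgroup.zpowers a ≤ (S : Subgroup G) := Subgroup.zpowers_le.2 ha
  have hrelA : ((Subgroup.zpowers a).subgroupOf (S : Subgroup G)).index = 2 := by
    have h := ((Subgroup.zpowers a).subgroupOf (S : Subgroup G)).card_mul_index
    rw [Nat.card_congr (Subgroup.subgroupOfEquivOfLe hAS).toEquiv, Nat.card_zpowers, hao, hS, pow_succ] at h
    exact Nat.eq_of_mul_eq_mul_left (Nat.two_pow_pos n) h
  have hdec : ∀ s ∈ (S : Subgroup G), ∃ (j : ℤ) (k : ℕ), s = a ^ j * b ^ k := by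
    intro s hs
    by_cases hsA : s ∈ Subgroup.zpowers a
    · obtain ⟨j, rfl⟩ := Subgroup.mem_zpowers_iff.1 hsA
      exact ⟨j, 0, by simp⟩
    · have hm : (⟨s, hs⟩ : (S : Subgroup G)) * ⟨b, hb⟩ ∈ (Subgroup.zpowers a).subgroupOf (S : Subgroup G) :=
        (Subgroup.mul_mem_iff_of_index_two hrelA).2 (iff_of_false hsA hbA)
      obtain ⟨j, hj⟩ := Subgroup.mem_zpowers_iff.1 hm
      exact ⟨j, 1, by rw [hj, pow_one]; show s = s * b * b; rw [mul_assoc, hb2, mul_one]⟩
  have hrk : ∀ k : ℕ, ∃ c : ℤ, r ^ k = 1 + 2 ^ (n - 1) * c := by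
    intro k
    induction k with
    | zero => exact ⟨0, by simp⟩
    | succ k ih =>
      obtain ⟨c, hc⟩ := ih
      exact ⟨c + (1 + 2 ^ (n - 1) * c), by rw [pow_succ, hc, hrdef]; ring⟩
  have hiff : ∀ (t : ℕ), 1 ≤ t → ∀ (j : ℤ) (k : ℕ),
      ((a ^ j * b ^ k) ^ 2 ^ t = 1 ↔ (2 : ℤ) ^ (n - t) ∣ j) := by
    intro t ht j k
    obtain ⟨c, hc⟩ := hrk k
    obtain ⟨t, rfl⟩ : ∃ u, t = u + 1 := ⟨t - 1, by omega⟩
    have hk : b ^ k * a * (b ^ k)⁻¹ = a ^ (r ^ k) := by
      clear hc c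
      induction k with
      | zero => simp
      | succ k ih =>
        rw [pow_succ b, show b ^ k * b * a * (b ^ k * b)⁻¹ = b ^ k * (b * a * b⁻¹) * (b ^ k)⁻¹ by group, hr,
          MaxClass.conj_zpow_of_eq ih, pow_succ]
    have hsq : (a ^ j * b ^ k) ^ 2 = a ^ (j * (1 + r ^ k)) := by
      rw [MaxClass.mul_pow_eq hk j 2, ← pow_mul b, mul_comm k 2, pow_mul, pow_two b, hb2, one_pow, mul_one]
      simp [Finset.sum_range_succ]
    rw [pow_succ', pow_mul, hsq, ← zpow_natCast, ← zpow_mul, ← zpow_zero a, MaxClass.zpow_eq_iff hao, zero_sub,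
      dvd_neg, hc]
    obtain ⟨m, rfl⟩ : ∃ m, n = m + 3 := ⟨n - 3, by omega⟩
    rw [show m + 3 - 1 = m + 2 from rfl]
    push_cast
    rw [show j * (1 + (1 + 2 ^ (m + 2) * c)) * (2 : ℤ) ^ t = j * 2 ^ (t + 1) * (1 + 2 ^ (m + 1) * c) by ring]
    have hcop : IsCoprime ((2 : ℤ) ^ (m + 3)) (1 + 2 ^ (m + 1) * c) := IsCoprime.pow_left ⟨-(2 ^ m * c), 1, by ring⟩
    have hNeq : m + 3 - (t + 1) = m + 2 - t := by omega
    simp only [hNeq] at *
    refine ⟨fun h => ?_, fun h => ?_⟩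
    · have h' := hcop.dvd_of_dvd_mul_right h
      rcases Nat.lt_or_ge (m + 2) t with hlt | hge
      · rw [show m + 2 - t = 0 by omega, pow_zero]; exact one_dvd j
      · rw [show (2 : ℤ) ^ (m + 3) = 2 ^ (m + 2 - t) * 2 ^ (t + 1) by rw [← pow_add]; congr 1; omega] at h'
        exact (mul_dvd_mul_iff_right (pow_ne_zero _ two_ne_zero)).1 h'
    · refine dvd_mul_of_dvd_left ((pow_dvd_pow 2 (show m + 3 ≤ m + 2 - t + (t + 1) by omega)).trans ?_) _
      rw [pow_add]
      exact mul_dvd_mul h dvd_rfl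
  have hbk : ∀ (k : ℕ) (l : ℤ), b ^ k * a ^ l = a ^ (r ^ k * l) * b ^ k := MaxClass.pow_mul_zpow_eq hr
  let K : (t : ℕ) → 1 ≤ t → Subgroup G := fun t ht =>
    { carrier := {s | ∃ (j : ℤ) (k : ℕ), s = a ^ j * b ^ k ∧ (2 : ℤ) ^ (n - t) ∣ j}
      one_mem' := ⟨0, 0, by simp, dvd_zero _⟩
      mul_mem' := by
        rintro _ _ ⟨j, k, rfl, hj⟩ ⟨l, m, rfl, hl⟩
        exact ⟨j + r ^ k * l, k + m, by
          rw [zpow_add, pow_add, mul_assoc, ← mul_assoc (b ^ k), hbk]; group, dvd_add hj (dvd_mul_of_dvd_right hl _)⟩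
      inv_mem' := by
        rintro _ ⟨j, k, rfl, hj⟩
        have hbinv : (b ^ k)⁻¹ = b ^ k := inv_eq_of_mul_eq_one_right (by
          rw [← pow_add, ← two_mul, pow_mul, pow_two, hb2, one_pow])
        exact ⟨r ^ k * -j, k, by rw [mul_inv_rev, hbinv, ← zpow_neg, hbk], dvd_mul_of_dvd_right (dvd_neg.2 hj) _⟩ }
  have hKS : ∀ t ht, K t ht ≤ (S : Subgroup G) := by
    rintro t ht _ ⟨j, k, rfl, -⟩
    exact mul_mem (zpow_mem ha j) (pow_mem hb k)
  have hKmem : ∀ t ht, ∀ s ∈ (S : Subgroup G), (s ∈ K t ht ↔ s ^ 2 ^ t = 1) := by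
    intro t ht s hs
    constructor
    · rintro ⟨j, k, rfl, hj⟩; exact (hiff t ht j k).2 hj
    · intro h
      obtain ⟨j, k, rfl⟩ := hdec s hs
      exact ⟨j, k, rfl, (hiff t ht j k).1 h⟩
  have hS2 : IsPGroup 2 (S : Subgroup G) := S.2
  have hidx : Nat.card (S : Subgroup G) ∣ 2 * orderOf a := by rw [hS, hao, pow_succ']
  have main : ∀ Q : Subgroup G, Q ≤ (S : Subgroup G) → (∃ q ∈ Q, q * q ≠ 1) →
      ∀ g ∈ Subgroup.normalizer (Q : Set G), (orderOf g).Coprime 2 → g ∈ Subgroup.centralizer (Q : Set G) := by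
    intro Q hQ ⟨q₀, hq₀, hq₀2⟩ g hg hcop
    classical
    have hex : ∃ e, ∀ q ∈ Q, q ^ 2 ^ e = 1 := ⟨n + 1, fun q hq => by
      rw [← hS, ← orderOf_dvd_iff_pow_eq_one, ← Subgroup.orderOf_mk q (hQ hq)]
      exact _root_.orderOf_dvd_natCard _⟩
    have he2 : 2 ≤ Nat.find hex := by
      by_contra hlt
      have h := Nat.find_spec hex q₀ hq₀
      rcases (by omega : Nat.find hex = 0 ∨ Nat.find hex = 1) with e | e <;> rw [e] at h
      · rw [pow_zero, pow_one] at h; rw [h, one_mul] at hq₀2; exact hq₀2 rfl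
      · rw [pow_one, pow_two] at h; exact hq₀2 h
    obtain ⟨e, he⟩ : ∃ e, Nat.find hex = e + 1 := ⟨Nat.find hex - 1, by omega⟩
    have hall := Nat.find_spec hex
    rw [he] at hall
    have hnot := Nat.find_min hex (show e < Nat.find hex by omega)
    push Not at hnot
    obtain ⟨q₁, hq₁, hq₁e⟩ := hnot
    have he1 : 1 ≤ e := by omega
    set M := (K e he1).subgroupOf Q with hM
    have hMmem : ∀ v : Q, v ∈ M ↔ (v : G) ^ 2 ^ e = 1 := fun v => hKmem e he1 _ (hQ v.2)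
    refine MaxClass.centralize_of_invariant Q (hS2.to_le hQ)
      (MaxClass.frattini_index_dvd_four _ hS2 a ha hidx Q hQ) hg hcop M (Or.inl ?_) ?_ ?_
    · refine Subgroup.index_eq_two_iff.2 ⟨⟨q₁, hq₁⟩, fun v => ?_⟩
      have hq₁M : (⟨q₁, hq₁⟩ : Q) ∉ M := fun h => hq₁e ((hMmem _).1 h)
      by_cases hv : v ∈ M
      · exact Or.inr ⟨hv, fun h => hq₁M ((Subgroup.mul_mem_cancel_left _ hv).1 h)⟩
      · refine Or.inl ⟨(hMmem _).2 ?_, hv⟩
        obtain ⟨j, k, hjk, hj⟩ := (hKmem (e + 1) (by omega) _ (hQ v.2)).2 (hall _ v.2)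
        obtain ⟨l, m, hlm, hl⟩ := (hKmem (e + 1) (by omega) _ (hQ hq₁)).2 (hall _ hq₁)
        show ((v : G) * q₁) ^ 2 ^ e = 1
        rw [hMmem] at hv
        rw [hjk, hiff e he1] at hv
        rw [hlm, ne_eq, hiff e he1] at hq₁e
        rw [hjk, hlm, show a ^ j * b ^ k * (a ^ l * b ^ m) = a ^ (j + r ^ k * l) * b ^ (k + m) by
          rw [zpow_add, pow_add, mul_assoc, ← mul_assoc (b ^ k), hbk]; group, hiff e he1]
        obtain ⟨x, rfl⟩ := hj
        obtain ⟨y, rfl⟩ := hl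
        have hlt : e < n := by
          by_contra hh
          exact hv (by rw [show n - e = 0 by omega, pow_zero]; exact one_dvd _)
        rw [show n - e = (n - (e + 1)) + 1 by omega, pow_succ] at hv hq₁e ⊢
        rw [mul_dvd_mul_iff_left (by positivity)] at hv hq₁e
        obtain ⟨c, hc⟩ := hrk k
        rw [hc, show (2 : ℤ) ^ (n - (e + 1)) * x + (1 + 2 ^ (n - 1) * c) * (2 ^ (n - (e + 1)) * y) =
          2 ^ (n - (e + 1)) * (x + y + 2 ^ (n - 1) * (c * y)) by ring]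
        refine mul_dvd_mul_left _ (dvd_add ?_ (dvd_mul_of_dvd_left (dvd_pow_self 2 (by omega)) _))
        omega
    · refine sq_le (hS2.to_le hQ) M fun v => (hMmem _).2 ?_
      show ((v : G) * v) ^ 2 ^ e = 1
      rw [← pow_two, ← pow_mul, ← pow_succ']
      exact hall _ v.2
    · intro v hv
      rw [hMmem] at hv ⊢
      rw [MaxClass.conj_aut_spec, conj_pow, hv, mul_one, mul_inv_cancel]
  refine Fusion.hasNormalPComplement_of_frobenius_sylow S fun Q hQ g hg hcop => ?_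
  by_cases hexp : ∃ q ∈ Q, q * q ≠ 1
  · exact main Q hQ hexp g hg hcop
  push Not at hexp
  set E := K 1 le_rfl with hE
  have hQE : Q ≤ E := fun q hq => (hKmem 1 le_rfl q (hQ hq)).2 (by rw [pow_one, pow_two]; exact hexp q hq)
  set z : G := a ^ ((2 : ℤ) ^ (n - 1)) with hz
  have hz1 : z ≠ 1 := fun h => by
    rw [hz, ← zpow_zero a, MaxClass.zpow_eq_iff hao, zero_sub, dvd_neg] at h
    have := Int.le_of_dvd (by positivity) h
    have := pow_lt_pow_right₀ (show (1 : ℤ) < 2 by norm_num) (show n - 1 < n by omega)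
    omega
  have hz2 : z * z = 1 := by
    rw [hz, ← zpow_add, ← zpow_zero a, MaxClass.zpow_eq_iff hao, zero_sub, dvd_neg, ← two_mul, ← pow_succ',
      show n - 1 + 1 = n by omega]
  have hEset : ∀ v, v ∈ E → v = 1 ∨ v = z ∨ v = b ∨ v = z * b := by
    rintro v ⟨j, k, rfl, x, rfl⟩
    rw [zpow_mul, ← hz]
    have hzx : z ^ x = 1 ∨ z ^ x = z := by
      rcases Int.even_or_odd x with ⟨y, rfl⟩ | ⟨y, rfl⟩
      · left; rw [← two_mul, zpow_mul, zpow_ofNat, pow_two, hz2, one_zpow]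
      · right; rw [zpow_add, zpow_mul, zpow_ofNat, pow_two, hz2, one_zpow, one_mul, zpow_one]
    have hbk : b ^ k = 1 ∨ b ^ k = b := by
      rcases Nat.even_or_odd k with ⟨y, rfl⟩ | ⟨y, rfl⟩
      · left; rw [← two_mul, pow_mul, pow_two, hb2, one_pow]
      · right; rw [pow_add, pow_mul, pow_two, hb2, one_pow, one_mul, pow_one]
    rcases hzx with e1 | e1 <;> rcases hbk with e2 | e2 <;> rw [e1, e2] <;> simp
  have hbE : b ∈ E := ⟨0, 1, by simp, dvd_zero _⟩
  have hzE : z ∈ E := ⟨2 ^ (n - 1), 0, by simp [hz], dvd_rfl⟩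
  have hEcard : Nat.card E = 4 := by
    have hcoe : (E : Set G) = {1, z, b, z * b} := by
      ext v
      refine ⟨fun h => by simpa using hEset v h, ?_⟩
      rintro (rfl | rfl | rfl | rfl)
      exacts [one_mem E, hzE, hbE, mul_mem hzE hbE]
    show Nat.card (E : Set G) = 4
    have hzb : z ≠ b := fun h => hbA (h ▸ zpow_mem (Subgroup.mem_zpowers a) _)
    have hb1 : b ≠ 1 := fun h => hbA (h ▸ one_mem _)
    have hzb1 : z * b ≠ 1 := fun h => hzb (by
      rw [mul_eq_one_iff_eq_inv.1 h, inv_eq_of_mul_eq_one_right hb2])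
    rw [Nat.card_coe_set_eq, hcoe, Set.ncard_insert_of_notMem (by simp [hz1.symm, hb1.symm, hzb1.symm]),
      Set.ncard_insert_of_notMem (by simp [hzb, hb1]),
      Set.ncard_pair (by simp [hz1])]
  rcases (Nat.dvd_prime_pow Nat.prime_two).1 (show Nat.card Q ∣ 2 ^ 2 by
    rw [show (2 : ℕ) ^ 2 = Nat.card E by rw [hEcard]; norm_num]; exact Subgroup.card_dvd_of_le hQE) with ⟨u, hu, huQ⟩
  rcases Nat.lt_or_ge u 2 with hu1 | hu2
  · refine MaxClass.centralize_of_invariant Q (hS2.to_le hQ)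
      (MaxClass.frattini_index_dvd_four _ hS2 a ha hidx Q hQ) hg hcop ⊤ (Or.inr ?_) le_top fun _ _ => Subgroup.mem_top _
    exact (Subgroup.index_dvd_card _).trans (huQ ▸ (pow_dvd_pow 2 (show u ≤ 1 by omega)).trans (pow_one 2).dvd)
  obtain rfl : Q = E := Subgroup.eq_of_le_of_card_ge hQE (by
    rw [hEcard, huQ]; exact Nat.pow_le_pow_right two_pos hu2)
  set T := K (n - 1) (by omega) with hT
  have hTC : T ≤ Subgroup.centralizer (E : Set G) := by
    intro s hs
    refine Subgroup.mem_centralizer_iff.2 fun v hv => ?_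
    obtain ⟨j, k, rfl, x, rfl⟩ := hs
    have haz : Commute z a := (Commute.refl a).zpow_left _
    have hbz : Commute b z := by
      refine mul_inv_eq_iff_eq_mul.1 ?_
      rw [hz, MaxClass.conj_zpow_of_eq hr, MaxClass.zpow_eq_iff hao, hrdef]
      obtain ⟨m, rfl⟩ : ∃ m, n = m + 3 := ⟨n - 3, by omega⟩
      exact ⟨-(2 ^ (m + 1)), by rw [show m + 3 - 1 = m + 2 from rfl]; ring⟩
    have hba2 : Commute b (a ^ (2 : ℤ)) := by
      refine mul_inv_eq_iff_eq_mul.1 ?_
      rw [MaxClass.conj_zpow_of_eq hr, MaxClass.zpow_eq_iff hao, hrdef]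
      refine ⟨-1, ?_⟩
      nth_rw 2 [show n = n - 1 + 1 by omega]
      rw [pow_succ]; ring
    have h1 : ∀ w ∈ ({z, b} : Set G), Commute w (a ^ ((2 : ℤ) ^ (n - (n - 1)) * x) * b ^ k) := by
      rw [show n - (n - 1) = 1 by omega, pow_one, zpow_mul]
      rintro w (rfl | rfl)
      · exact ((haz.zpow_right 2).zpow_right x).mul_right (hbz.symm.pow_right k)
      · exact (hba2.zpow_right x).mul_right ((Commute.refl w).pow_right k)
    rcases hEset v hv with rfl | rfl | rfl | rfl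
    · simp
    · exact h1 _ (by simp)
    · exact h1 _ (by simp)
    · exact ((h1 z (by simp)).mul_left (h1 b (by simp))).eq
  set C := Subgroup.centralizer (E : Set G) with hC
  have hTcard : 2 ^ n ≤ Nat.card T := by
    have hle : Subgroup.zpowers (a ^ (2 : ℤ)) < T := by
      refine lt_of_le_of_ne (Subgroup.zpowers_le.2 ⟨2, 0, by simp, by rw [show n - (n - 1) = 1 by omega, pow_one]⟩) fun e => ?_
      have hbT : b ∈ T := ⟨0, 1, by simp, dvd_zero _⟩
      rw [← e] at hbT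
      exact hbA ((Subgroup.zpowers_le.2 (zpow_mem (Subgroup.mem_zpowers a) 2) : Subgroup.zpowers (a ^ (2 : ℤ)) ≤ _) hbT)
    have hcA : Nat.card (Subgroup.zpowers (a ^ (2 : ℤ))) = 2 ^ (n - 1) := by
      rw [Nat.card_zpowers, zpow_ofNat, orderOf_pow' a two_ne_zero, hao,
        Nat.gcd_eq_right (dvd_pow_self 2 (by omega)), show 2 ^ n = 2 ^ (n - 1) * 2 by rw [← pow_succ]; congr 1; omega,
        Nat.mul_div_cancel _ two_pos]
    obtain ⟨v, hv⟩ := IsPGroup.iff_card.1 (hS2.to_le (hKS (n - 1) (by omega)) : IsPGroup 2 T)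
    rw [hv]
    refine Nat.pow_le_pow_right two_pos ?_
    by_contra hlt
    exact hle.ne (Subgroup.eq_of_le_of_card_ge hle.le (by rw [hv, hcA]; exact Nat.pow_le_pow_right two_pos (by omega)))
  have hmax : ∀ R : Subgroup G, R ≤ C → IsPGroup 2 R → Nat.card R ≤ 2 ^ n := by
    intro R hRC hR
    have hRE : IsPGroup 2 (R ⊔ E : Subgroup G) := hR.to_sup_of_normal_right' (hS2.to_le (hKS 1 le_rfl))
      (hRC.trans (Subgroup.centralizer_le_normalizer _))
    obtain ⟨U, hU⟩ := hRE.exists_le_sylow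
    obtain ⟨c, hc⟩ := MulAction.exists_smul_eq G U S
    have hcmap : ∀ w ∈ (R ⊔ E : Subgroup G), c * w * c⁻¹ ∈ (S : Subgroup G) := fun w hw => by
      rw [← hc, Sylow.coe_subgroup_smul]
      exact ⟨w, hU hw, rfl⟩
    set E' := E.map (MulAut.conj c).toMonoidHom with hE'
    have hEE : E' = E := by
      refine Subgroup.eq_of_le_of_card_ge ?_ (by rw [hE', Subgroup.card_map_of_injective (MulAut.conj c).injective])
      rintro _ ⟨w, hw, rfl⟩
      refine (hKmem 1 le_rfl _ (hcmap w (le_sup_right (a := R) hw))).2 ?_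
      show (c * w * c⁻¹) ^ 2 ^ 1 = 1
      rw [conj_pow, pow_one, pow_two, hexp w hw, mul_one, mul_inv_cancel]
    set R' := R.map (MulAut.conj c).toMonoidHom with hR'
    have hR'S : R' ≤ (S : Subgroup G) := by
      rintro _ ⟨w, hw, rfl⟩; exact hcmap w (le_sup_left (b := E) hw)
    have haR : a ∉ R' := by
      rintro ⟨w, hw, hwa⟩
      have hbz : b ∈ E' := hEE.symm ▸ hbE
      obtain ⟨v, hv, hvb⟩ := hbz
      have h1 : Commute w v := (Subgroup.mem_centralizer_iff.1 (hRC hw) v hv).symm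
      have h2 : Commute a b := by rw [← hwa, ← hvb]; exact h1.map (MulAut.conj c).toMonoidHom
      have h3 : a ^ r = a ^ (1 : ℤ) := by rw [← hr, ← h2.eq, mul_inv_cancel_right, zpow_one]
      rw [MaxClass.zpow_eq_iff hao, hrdef, show (1 : ℤ) - (2 ^ (n - 1) + 1) = -(2 ^ (n - 1)) by ring, dvd_neg] at h3
      have := Int.le_of_dvd (by positivity) h3
      have := pow_lt_pow_right₀ (show (1 : ℤ) < 2 by norm_num) (show n - 1 < n by omega)
      omega
    have hlt : R' < (S : Subgroup G) := lt_of_le_of_ne hR'S fun e => haR (e ▸ ha)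
    rw [← Subgroup.card_map_of_injective (f := (MulAut.conj c).toMonoidHom) (MulAut.conj c).injective, ← hR']
    obtain ⟨v, hv⟩ := IsPGroup.iff_card.1 (hS2.to_le hR'S)
    rw [hv]
    refine Nat.pow_le_pow_right two_pos ?_
    by_contra hh
    exact hlt.ne (Subgroup.eq_of_le_of_card_ge hlt.le (by rw [hv, hS]; exact Nat.pow_le_pow_right two_pos (by omega)))
  let T₁ : Sylow 2 C :=
    { toSubgroup := T.subgroupOf C
      isPGroup' := (hS2.to_le (hKS (n - 1) (by omega)) : IsPGroup 2 T).of_equiv (Subgroup.subgroupOfEquivOfLe hTC).symm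
      is_maximal' := fun {R} hR hle => by
        refine (Subgroup.eq_of_le_of_card_ge hle ?_).symm
        rw [Nat.card_congr (Subgroup.subgroupOfEquivOfLe hTC).toEquiv]
        have h1 := hmax (R.map C.subtype) (Subgroup.map_subtype_le R) (hR.map _)
        rw [Subgroup.card_map_of_injective C.subtype_injective] at h1
        exact h1.trans hTcard }
  have hgC : ∀ v ∈ C, g * v * g⁻¹ ∈ C := fun v hv => Subgroup.mem_centralizer_iff.2 fun w hw => by
    have hw' : g⁻¹ * w * g ∈ (E : Set G) := by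
      have := (Subgroup.mem_normalizer_iff.1 hg (g⁻¹ * w * g)).2 (by
        rw [show g * (g⁻¹ * w * g) * g⁻¹ = w by group]; exact hw)
      exact this
    have h1 := Subgroup.mem_centralizer_iff.1 hv _ hw'
    calc w * (g * v * g⁻¹) = g * (g⁻¹ * w * g * v) * g⁻¹ := by group
      _ = g * (v * (g⁻¹ * w * g)) * g⁻¹ := by rw [h1]
      _ = g * v * g⁻¹ * w := by group
  let φ : T →* C := MonoidHom.mk' (fun v => ⟨g * v * g⁻¹, hgC _ (hTC v.2)⟩) (fun u v => Subtype.ext (by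
    show g * (u * v : G) * g⁻¹ = g * u * g⁻¹ * (g * v * g⁻¹); group))
  have hφ : IsPGroup 2 φ.range :=
    (hS2.to_le (hKS (n - 1) (by omega)) : IsPGroup 2 T).of_surjective φ.rangeRestrict φ.rangeRestrict_surjective
  obtain ⟨T₂, hT₂⟩ := hφ.exists_le_sylow
  obtain ⟨c, hc⟩ := MulAction.exists_smul_eq C T₂ T₁
  set h := (c : G) * g with hh
  have hhN : h ∈ Subgroup.normalizer (T : Set G) := by
    have hle : ∀ v ∈ T, h * v * h⁻¹ ∈ T := fun v hv => by
      have hm : φ ⟨v, hv⟩ ∈ (T₂ : Subgroup C) := hT₂ ⟨_, rfl⟩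
      have hm2 : c * φ ⟨v, hv⟩ * c⁻¹ ∈ (T₁ : Subgroup C) := by
        rw [← hc, Sylow.coe_subgroup_smul]; exact ⟨_, hm, rfl⟩
      have hm3 : ((c * φ ⟨v, hv⟩ * c⁻¹ : C) : G) ∈ T := hm2
      have e : ((c * φ ⟨v, hv⟩ * c⁻¹ : C) : G) = h * v * h⁻¹ := by
        show (c : G) * (g * v * g⁻¹) * (c : G)⁻¹ = _
        rw [hh]; group
      rwa [e] at hm3
    refine Subgroup.mem_normalizer_iff.2 fun v => ⟨hle v, fun hv => ?_⟩
    obtain ⟨⟨u, hu⟩, hu'⟩ := ((Finite.injective_iff_surjective (f := fun u : T => (⟨h * u * h⁻¹, hle _ u.2⟩ : T))).1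
      fun u w e => Subtype.ext (mul_left_cancel (mul_right_cancel (congrArg Subtype.val e)))) ⟨_, hv⟩
    have hu'' : h * u * h⁻¹ = h * v * h⁻¹ := congrArg Subtype.val hu'
    exact (mul_left_cancel (mul_right_cancel hu'') : u = v) ▸ hu
  obtain ⟨x, m, hm, hord⟩ := Nat.exists_eq_two_pow_mul_odd (orderOf_pos h).ne'
  have hh' : h ^ 2 ^ x ∈ Subgroup.centralizer (T : Set G) := by
    refine main T (hKS (n - 1) (by omega)) ⟨a ^ (2 : ℤ), ⟨2, 0, by simp, by rw [show n - (n - 1) = 1 by omega, pow_one]⟩, ?_⟩ _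
      ((Subgroup.normalizer _).pow_mem hhN _) ?_
    · intro e
      rw [← zpow_add, ← zpow_zero a, MaxClass.zpow_eq_iff hao, zero_sub, dvd_neg] at e
      have := Int.le_of_dvd (by norm_num) e
      have := pow_le_pow_right₀ (show (1 : ℤ) ≤ 2 by norm_num) hn
      omega
    · rw [orderOf_pow' h (by positivity), hord, Nat.gcd_eq_right (dvd_mul_right _ _),
        Nat.mul_div_cancel_left _ (Nat.two_pow_pos x), Nat.coprime_two_right]
      exact hm
  have hcE : (c : G) ∈ Subgroup.normalizer (E : Set G) := Subgroup.centralizer_le_normalizer _ c.2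
  have hhE : h ∈ Subgroup.normalizer (E : Set G) := (Subgroup.normalizer _).mul_mem hcE hg
  set π := E.normalizerMonoidHom
  have hker : ∀ (w : G) (hw : w ∈ Subgroup.normalizer (E : Set G)), w ∈ C → π ⟨w, hw⟩ = 1 := fun w hw hwC => by
    apply MulEquiv.ext
    intro v
    refine Subtype.ext ((MaxClass.conj_aut_spec E hw v).trans ?_)
    show w * v * w⁻¹ = (v : G)
    rw [← Subgroup.mem_centralizer_iff.1 hwC v v.2, mul_inv_cancel_right]
  have e1 : π ⟨h, hhE⟩ = π ⟨g, hg⟩ := by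
    have : (⟨h, hhE⟩ : Subgroup.normalizer (E : Set G)) = ⟨c, hcE⟩ * ⟨g, hg⟩ := rfl
    rw [this, map_mul, hker _ hcE c.2, one_mul]
  have hET : E ≤ T := by
    rintro v ⟨j, k, rfl, hj⟩
    exact ⟨j, k, rfl, (pow_dvd_pow 2 (show n - (n - 1) ≤ n - 1 by omega)).trans hj⟩
  have e2 : π ⟨g, hg⟩ ^ 2 ^ x = 1 := by
    rw [← e1, ← map_pow]
    exact hker _ _ (Subgroup.centralizer_le (show (E : Set G) ⊆ T from hET) hh')
  refine MaxClass.mem_centralizer_of_aut_eq_one E hg (orderOf_eq_one_iff.1 ?_)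
  exact Nat.eq_one_of_dvd_coprimes ((hcop.coprime_dvd_left (MaxClass.orderOf_aut_dvd E hg)).pow_right x) dvd_rfl
    (orderOf_dvd_iff_pow_eq_one.2 e2)

end Cfsg.Agent.S3178
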