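import Cfsg.Statements.S3179
import Cfsg.Agent.Classical.A5InPSL
import Cfsg.Agent.Suzuki.Basic
import Cfsg.Agent.Suzuki.Tori2
import Cfsg.Agent.S0280

set_option autoImplicit false
open Cfsg

namespace Cfsg.Agent.S3179

open Matrix

theorem card_gl5 : Nat.card (GL (Fin 5) (ZMod 2)) = 9999360 := by
  rw [Matrix.card_GL_field]; simp [Fin.prod_univ_five]

/-- The matrix with two blocks of order three. -/
def blockA : GL (Fin 5) (ZMod 2) :=
  ⟨!![0, 1, 0, 0, 0; 1, 1, 0, 0, 0; 0, 0, 1, 0, 0; 0, 0, 0, 1, 0; 0, 0, 0, 0, 1],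
    !![1, 1, 0, 0, 0; 1, 0, 0, 0, 0; 0, 0, 1, 0, 0; 0, 0, 0, 1, 0; 0, 0, 0, 0, 1],
    by decide +kernel, by decide +kernel⟩

/-- The second block. -/
def blockB : GL (Fin 5) (ZMod 2) :=
  ⟨!![1, 0, 0, 0, 0; 0, 1, 0, 0, 0; 0, 0, 0, 1, 0; 0, 0, 1, 1, 0; 0, 0, 0, 0, 1],
    !![1, 0, 0, 0, 0; 0, 1, 0, 0, 0; 0, 0, 1, 1, 0; 0, 0, 1, 0, 0; 0, 0, 0, 0, 1],
    by decide +kernel, by decide +kernel⟩

theorem block_facts :
    (∀ i j i' j' : Fin 3, blockA ^ (i + i').val * blockB ^ (j + j').val =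
      blockA ^ i.val * blockB ^ j.val * (blockA ^ i'.val * blockB ^ j'.val)) ∧
    (∀ i j i' j' : Fin 3, blockA ^ i.val * blockB ^ j.val = blockA ^ i'.val * blockB ^ j'.val →
      i = i' ∧ j = j') := by
  constructor <;> decide +kernel

theorem pow_three_of_three_element (x : GL (Fin 5) (ZMod 2)) {k : ℕ} (hk : x ^ 3 ^ k = 1) :
    x ^ 3 = 1 := by
  haveI : Fact (Nat.Prime 3) := ⟨Nat.prime_three⟩
  obtain ⟨hmul, hinj⟩ := block_facts
  let f : Multiplicative (Fin 3 × Fin 3) →* GL (Fin 5) (ZMod 2) :=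
    MonoidHom.mk' (fun v => blockA ^ (Multiplicative.toAdd v).1.val * blockB ^ (Multiplicative.toAdd v).2.val)
      fun v w => hmul (Multiplicative.toAdd v).1 (Multiplicative.toAdd v).2
        (Multiplicative.toAdd w).1 (Multiplicative.toAdd w).2
  have hf : Function.Injective f := fun v w h => by
    obtain ⟨h1, h2⟩ := hinj _ _ _ _ h
    exact Multiplicative.toAdd.injective (Prod.ext h1 h2)
  have hR : Nat.card f.range = 9 := by
    rw [← Nat.card_congr (MonoidHom.ofInjective hf).toEquiv]; simp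
  obtain ⟨S, hS⟩ := (IsPGroup.of_card (p := 3) (n := 2) (by rw [hR]; norm_num) :
    IsPGroup 3 f.range).exists_le_sylow
  have hSc : Nat.card (S : Subgroup (GL (Fin 5) (ZMod 2))) = 9 := by
    rw [S.card_eq_multiplicity, card_gl5]
    have : (9999360 : ℕ).factorization 3 = 2 := by
      have e : (9999360 : ℕ) = 3 ^ 2 * 1111040 := by norm_num
      rw [e, Nat.factorization_mul (by norm_num) (by norm_num),
        Nat.Prime.factorization_pow Nat.prime_three]
      simp [Nat.factorization_eq_zero_of_not_dvd (by norm_num : ¬ 3 ∣ 1111040)]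
    rw [this]; norm_num
  have hSeq : f.range = (S : Subgroup (GL (Fin 5) (ZMod 2))) :=
    Subgroup.eq_of_le_of_card_ge hS (by rw [hSc, hR])
  have hexp : ∀ y ∈ (S : Subgroup (GL (Fin 5) (ZMod 2))), y ^ 3 = 1 := by
    intro y hy
    rw [← hSeq] at hy
    obtain ⟨v, rfl⟩ := hy
    have hv : ∀ v : Fin 3 × Fin 3, v + v + v = 0 := by decide
    rw [← map_pow, ← map_one f]
    refine congrArg f (Multiplicative.toAdd.injective ?_)
    have e3 : (3 : ℕ) • Multiplicative.toAdd v =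
        Multiplicative.toAdd v + Multiplicative.toAdd v + Multiplicative.toAdd v :=
      (succ_nsmul _ 2).trans (by rw [two_nsmul])
    rw [toAdd_pow, toAdd_one, e3]
    exact hv _
  have hx : IsPGroup 3 (Subgroup.zpowers x) := by
    obtain ⟨j, -, hj⟩ := (Nat.dvd_prime_pow Nat.prime_three).1 (orderOf_dvd_of_pow_eq_one hk)
    exact IsPGroup.of_card (n := j) (by rw [Nat.card_zpowers, hj])
  obtain ⟨T, hT⟩ := hx.exists_le_sylow
  obtain ⟨g, hg⟩ := MulAction.exists_smul_eq (GL (Fin 5) (ZMod 2)) S T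
  have hxT := hT (Subgroup.mem_zpowers x)
  rw [← hg, Sylow.coe_subgroup_smul, Subgroup.mem_smul_pointwise_iff_exists] at hxT
  obtain ⟨y, hy, rfl⟩ := hxT
  rw [MulAut.smul_def, ← map_pow, hexp y hy, map_one]

theorem no_nine {H : Subgroup (GL (Fin 5) (ZMod 2))} {K : Subgroup ↥H} [K.Normal] (x : ↥H ⧸ K)
    (h9 : x ^ 9 = 1) : x ^ 3 = 1 := by
  obtain ⟨y, rfl⟩ := QuotientGroup.mk_surjective x
  obtain ⟨a, m, hm, he⟩ := Nat.exists_eq_pow_mul_and_not_dvd (orderOf_pos y).ne' 3 (by norm_num)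
  have h1 : (((y ^ m : ↥H)) : GL (Fin 5) (ZMod 2)) ^ 3 ^ a = 1 := by
    rw [← Subgroup.coe_pow, ← pow_mul, mul_comm, ← he, pow_orderOf_eq_one]; rfl
  have h2 : (y ^ m) ^ 3 = 1 := Subtype.ext (by
    rw [Subgroup.coe_pow]; exact pow_three_of_three_element _ h1)
  have h3 : (y : ↥H ⧸ K) ^ (m * 3) = 1 := by
    rw [← QuotientGroup.mk_pow, pow_mul, h2]; rfl
  have h4 := pow_gcd_eq_one.mpr ⟨h3, h9⟩
  have h5 : Nat.gcd (m * 3) 9 = 3 := by
    have hc : Nat.Coprime m 3 := ((Nat.Prime.coprime_iff_not_dvd Nat.prime_three).2 hm).symm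
    rw [show (9 : ℕ) = 3 * 3 by norm_num, Nat.gcd_mul_right, hc.gcd_eq_one, one_mul]
  rwa [h5] at h4

theorem psl_eight {F : Type} [Field F] [Fintype F] (hF : Fintype.card F = 8) :
    ∃ x : ProjectiveSpecialLinearGroup (Fin 2) F, x ^ 9 = 1 ∧ x ^ 3 ≠ 1 := by
  classical
  haveI : Fact (Nat.Prime 2) := ⟨Nat.prime_two⟩
  haveI : CharP F 2 := charP_of_card_eq_prime_pow (p := 2) (f := 3) (by rw [hF]; norm_num)
  obtain ⟨b, hb0, hb1⟩ : ∃ b : F, b ≠ 0 ∧ b ≠ 1 := by
    by_contra! h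
    have := Finset.card_le_card (s := (Finset.univ : Finset F)) (t := {0, 1}) fun x _ => by
      by_cases hx : x = 0
      · simp [hx]
      · simp [h x hx]
    rw [Finset.card_univ, hF] at this
    have := this.trans Finset.card_le_two
    omega
  have h2 : (2 : F) = 0 := CharTwo.two_eq_zero
  have hb7 : b ^ 7 = 1 := by
    have h := FiniteField.pow_card_sub_one_eq_one b hb0
    rwa [hF] at h
  have hprod : (b ^ 3 + b + 1) * (b ^ 3 + b ^ 2 + 1) = 0 := by
    have hne : b - 1 ≠ 0 := sub_ne_zero.2 hb1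
    apply mul_left_cancel₀ hne
    rw [mul_zero]
    linear_combination hb7 + (b ^ 4 - b ^ 3) * h2
  obtain ⟨a, ha⟩ : ∃ a : F, a ^ 3 + a + 1 = 0 := by
    rcases mul_eq_zero.1 hprod with h | h
    · exact ⟨b, h⟩
    · exact ⟨b + 1, by linear_combination h + (b ^ 2 + 2 * b + 1) * h2⟩
  let M : Matrix.SpecialLinearGroup (Fin 2) F :=
    ⟨!![a, 1; 1, 0], by rw [det_fin_two_of]; linear_combination (-(1 : F)) * h2⟩
  have hM3 : ((M ^ 3 : Matrix.SpecialLinearGroup (Fin 2) F) : Matrix (Fin 2) (Fin 2) F) =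
      !![a ^ 3, a ^ 2 + 1; a ^ 2 + 1, a] := by
    rw [Matrix.SpecialLinearGroup.coe_pow]
    show !![a, 1; 1, 0] ^ 3 = _
    rw [pow_succ, pow_two, Matrix.mul_fin_two, Matrix.mul_fin_two]
    ext i j
    fin_cases i <;> fin_cases j <;> simp <;>
      first | ring1 | linear_combination a * h2 | linear_combination (0 : F) * h2
  have hM9 : M ^ 9 = 1 := by
    have e : M ^ 9 = (M ^ 3) * (M ^ 3) * (M ^ 3) := by group
    apply Subtype.ext
    rw [e, Matrix.SpecialLinearGroup.coe_mul, Matrix.SpecialLinearGroup.coe_mul, hM3, Matrix.SpecialLinearGroup.coe_one,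
      Matrix.mul_fin_two, Matrix.mul_fin_two, Matrix.one_fin_two]
    ext i j
    fin_cases i <;> fin_cases j <;> simp
    · linear_combination ((1 : F) + a ^ 3 + a ^ 4 + a ^ 6) * ha + (-1 + a ^ 3 - a ^ 4 + 2 * a ^ 5 - a ^ 6) * h2
    · linear_combination ((1 : F) + a + a ^ 2 + a ^ 5) * ha + (-a + a ^ 2 - a ^ 3 + 2 * a ^ 4 - a ^ 5 + a ^ 6) * h2
    · linear_combination ((1 : F) + a + a ^ 2 + a ^ 5) * ha + (-a + a ^ 2 - a ^ 3 + 2 * a ^ 4 - a ^ 5 + a ^ 6) * h2
    · linear_combination ((1 : F) + a + a ^ 2 + a ^ 4) * ha + (-1 - a ^ 2 + 2 * a ^ 3 - a ^ 4 + a ^ 5) * h2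
  refine ⟨QuotientGroup.mk' _ M, by rw [← map_pow, hM9, map_one], fun h => ?_⟩
  rw [← map_pow, QuotientGroup.mk'_apply, QuotientGroup.eq_one_iff,
    Matrix.SpecialLinearGroup.mem_center_iff] at h
  obtain ⟨r, -, hr⟩ := h
  have h01 := congrFun (congrFun hr 0) 1
  rw [hM3] at h01
  simp at h01
  -- `a ^ 2 + 1 = 0` forces `a = 1`
  have ha1 : (a + 1) ^ 2 = 0 := by linear_combination (-(1 : F)) * h01 + a * h2
  have : a = 1 := by
    have h' := pow_eq_zero_iff (n := 2) (by norm_num) |>.1 ha1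
    linear_combination h' - h2
  rw [this] at ha
  exact one_ne_zero (by linear_combination ha - h2 : (1 : F) = 0)

theorem sz_card {F : Type} [Field F] [Fintype F] {m : ℕ} (hm : 1 ≤ m) (hF : Fintype.card F = 2 ^ (2 * m + 1)) :
    Nat.card ↥(Cfsg.Lie.Sz F (2 ^ (m + 1))) =
      (2 ^ (2 * m + 1)) ^ 2 * (2 ^ (2 * m + 1) - 1) * ((2 ^ (2 * m + 1)) ^ 2 + 1) := by
  obtain ⟨e⟩ := Suzuki.nonempty_equiv (F := F) hm hF
  first
    | rw [Nat.card_congr e.toEquiv, Suzuki.card_sz hm hF, Nat.card_eq_fintype_card, hF]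
    | rw [← Nat.card_congr e.toEquiv, Suzuki.card_sz hm hF, Nat.card_eq_fintype_card, hF]

/-- Let X be a section of the general linear group GL(5, 2), that is, a quotient of a subgroup of it. If X is isomorphic to PSL(2, 2^n) for some n ≥ 2, to a Suzuki group over the field with 2^(2m+1) elements for some m ≥ 1, or to PSU(3, 2^n) for some n ≥ 2, then X is isomorphic to PSL(2, 4). -/
theorem result {H : Subgroup (GL (Fin 5) (ZMod 2))}
    {K : Subgroup ↥H} [K.Normal]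
    (hX : (∃ (n : ℕ) (F : Type) (_ : Field F) (_ : Fintype F), 2 ≤ n ∧ Fintype.card F = 2 ^ n ∧
        Nonempty (↥H ⧸ K ≃* Matrix.ProjectiveSpecialLinearGroup (Fin 2) F)) ∨
      (∃ (m : ℕ) (F : Type) (_ : Field F) (_ : Fintype F), 1 ≤ m ∧ Fintype.card F = 2 ^ (2 * m + 1) ∧
        Nonempty (↥H ⧸ K ≃* ↥(Cfsg.Lie.Sz F (2 ^ (m + 1))))) ∨
      (∃ (n : ℕ) (F : Type) (_ : Field F) (_ : Fintype F), 2 ≤ n ∧ Fintype.card F = 4 ^ n ∧
        Nonempty (↥H ⧸ K ≃* Cfsg.PSU 3 F (2 ^ n)))) :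
    ∃ (F : Type) (_ : Field F) (_ : Fintype F), Fintype.card F = 4 ∧
      Nonempty (↥H ⧸ K ≃* Matrix.ProjectiveSpecialLinearGroup (Fin 2) F) := by
  classical
  have hdvd : Nat.card (↥H ⧸ K) ∣ 9999360 := by
    rw [← card_gl5]
    exact (Subgroup.card_quotient_dvd_card K).trans H.card_subgroup_dvd_card
  rcases hX with ⟨n, F, _, _, hn, hF, ⟨e⟩⟩ | ⟨m, F, _, _, hm, hF, ⟨e⟩⟩ | ⟨n, F, _, _, hn, hF, ⟨e⟩⟩
  · rw [Nat.card_congr e.toEquiv] at hdvd
    have hc := Cfsg.Agent.Classical.A5InPSL.card_psl (F := F)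
    have hg : Nat.gcd 2 (Fintype.card F - 1) = 1 := by
      rw [hF]
      refine (Nat.coprime_two_left.2 ?_)
      obtain ⟨k, rfl⟩ : ∃ k, n = k + 1 := ⟨n - 1, by omega⟩
      have := Nat.two_pow_pos k
      rw [pow_succ]
      exact ⟨2 ^ k - 1, by omega⟩
    rw [hg, one_mul, hF] at hc
    rw [hc] at hdvd
    have hle : n ≤ 10 := by
      by_contra h
      have h11 : 2 ^ 11 ∣ 9999360 := (pow_dvd_pow 2 (by omega : 11 ≤ n)).trans (dvd_of_mul_right_dvd hdvd)
      norm_num at h11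
    interval_cases n <;> norm_num at hdvd
    · exact ⟨F, _, _, by simpa using hF, ⟨e⟩⟩
    · exfalso
      obtain ⟨x, h9, h3⟩ := psl_eight (F := F) (by simpa using hF)
      apply h3
      apply e.symm.injective
      rw [map_one, map_pow]
      exact no_nine _ (by rw [← map_pow, h9, map_one])
  · exfalso
    rw [Nat.card_congr e.toEquiv, sz_card hm hF] at hdvd
    have hle : m ≤ 2 := by
      by_contra h
      have h11 : 2 ^ 11 ∣ 9999360 := by
        refine (pow_dvd_pow 2 (show 11 ≤ (2 * m + 1) * 2 by omega)).trans ?_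
        rw [pow_mul]
        exact dvd_of_mul_right_dvd (dvd_of_mul_right_dvd hdvd)
      norm_num at h11
    interval_cases m <;> norm_num at hdvd
  · exfalso
    rw [Nat.card_congr e.toEquiv] at hdvd
    have hq : Fintype.card F = (2 ^ n) ^ 2 := by rw [hF, ← pow_mul, mul_comm, pow_mul]; norm_num
    have hc := Cfsg.Agent.S0280.result (F := F) hq 3 (by norm_num)
    have hle : n ≤ 3 := by
      by_contra h
      have h1 : Nat.gcd 3 (2 ^ n + 1) * ((2 ^ n + 1) * Nat.card (Cfsg.PSU 3 F (2 ^ n))) ∣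
          3 * (2 ^ n + 1) * 9999360 := by
        rw [mul_assoc 3]
        exact Nat.mul_dvd_mul (Nat.gcd_dvd_left _ _) (Nat.mul_dvd_mul_left _ hdvd)
      rw [hc] at h1
      have h2 : 2 ^ 12 ∣ 3 * (2 ^ n + 1) * 9999360 := by
        refine (dvd_trans ?_ (dvd_mul_right _ _)).trans h1
        rw [← pow_mul]
        exact pow_dvd_pow 2 (by norm_num; omega)
      have h3 : Nat.Coprime (2 ^ 12) (3 * (2 ^ n + 1)) := by
        refine Nat.Coprime.pow_left _ (Nat.coprime_two_left.2 ?_)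
        refine Odd.mul (by decide) (Even.add_one ?_)
        exact Nat.even_pow.2 ⟨even_two, by omega⟩
      have h4 := h3.dvd_of_dvd_mul_left h2
      norm_num at h4
    interval_cases n
    · have h2 : Nat.card (Cfsg.PSU 3 F (2 ^ 2)) = 62400 := by
        norm_num [Finset.prod_range_succ, Nat.even_iff] at hc ⊢
        omega
      rw [h2] at hdvd; norm_num at hdvd
    · have h2 : Nat.card (Cfsg.PSU 3 F (2 ^ 3)) = 5515776 := by
        norm_num [Finset.prod_range_succ, Nat.even_iff] at hc ⊢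
        omega
      rw [h2] at hdvd; norm_num at hdvd

end Cfsg.Agent.S3179
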