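import Cfsg.Statements.S3180
import Mathlib

set_option autoImplicit false
open Cfsg

namespace Cfsg.Agent.S3180

/-- Let P be a Sylow p-subgroup of a finite group J and P₁ a subgroup of P that is weakly closed in P with respect to J. If J acts on a set and two points, each fixed by every element of P₁, lie in one J-orbit, then they lie in one orbit of the normalizer of P₁ in J. -/
theorem result {J : Type*} [Group J] [Finite J]
    {p : ℕ} [Fact p.Prime] (P : Sylow p J) (P₁ : Subgroup J) (hW : Cfsg.IsWeaklyClosed P₁ (P : Subgroup J))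
    {Ω : Type*} [MulAction J Ω] (x y : Ω) (hx : ∀ g ∈ P₁, g • x = x) (hy : ∀ g ∈ P₁, g • y = y)
    (hc : ∃ g : J, g • x = y) :
    ∃ g ∈ Subgroup.normalizer (P₁ : Set J), g • x = y := by
  classical
  obtain ⟨g, hg⟩ := hc
  set St := MulAction.stabilizer J y with hSt
  have h1 : P₁ ≤ St := fun a ha => hy a ha
  set Q := P₁.map (MulAut.conj g).toMonoidHom with hQ
  have h2 : Q ≤ St := by
    rintro _ ⟨a, ha, rfl⟩
    rw [hSt, MulAction.mem_stabilizer_iff, ← hg]
    change (g * a * g⁻¹) • g • x = g • x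
    rw [smul_smul, inv_mul_cancel_right, mul_smul, hx a ha]
  have hp1 : IsPGroup p P₁ := P.2.to_le hW.1
  obtain ⟨R, hR⟩ := (hp1.comap_subtype (K := St)).exists_le_sylow
  obtain ⟨R', hR'⟩ := ((hp1.map (MulAut.conj g).toMonoidHom).comap_subtype (K := St)).exists_le_sylow
  obtain ⟨s, hs⟩ := MulAction.exists_smul_eq St R' R
  obtain ⟨P', hP'⟩ := (R.2.map St.subtype).exists_le_sylow
  obtain ⟨k, rfl⟩ := MulAction.exists_smul_eq J P P'
  have hmem : ∀ a ∈ ((R : Subgroup St).map St.subtype), k⁻¹ * a * k ∈ (P : Subgroup J) := by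
    intro a ha
    have := hP' ha
    rw [Sylow.coe_subgroup_smul, Subgroup.mem_pointwise_smul_iff_inv_smul_mem] at this
    simpa [MulAut.smul_def] using this
  have hsQ : ∀ a ∈ Q, (s : J) * a * (s : J)⁻¹ ∈ (R : Subgroup St).map St.subtype := by
    intro a ha
    refine ⟨s * ⟨a, h2 ha⟩ * s⁻¹, ?_, rfl⟩
    rw [← hs, SetLike.mem_coe, Sylow.coe_subgroup_smul,
      Subgroup.mem_pointwise_smul_iff_inv_smul_mem]
    have := hR' (show (⟨a, h2 ha⟩ : St) ∈ Q.subgroupOf St from ha)
    simpa [MulAut.smul_def, mul_assoc] using this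
  have e1 : P₁.map (MulAut.conj k⁻¹).toMonoidHom = P₁ := by
    apply hW.2
    rintro _ ⟨a, ha, rfl⟩
    simpa using hmem a ⟨⟨a, h1 ha⟩, hR ha, rfl⟩
  have e2 : P₁.map (MulAut.conj (k⁻¹ * (s : J) * g)).toMonoidHom = P₁ := by
    apply hW.2
    rintro _ ⟨a, ha, rfl⟩
    have := hmem _ (hsQ (g * a * g⁻¹) ⟨a, ha, rfl⟩)
    simpa [mul_assoc] using this
  have en : ∀ u : J, P₁.map (MulAut.conj u).toMonoidHom = P₁ → u ∈ Subgroup.normalizer (P₁ : Set J) := by
    intro u hu
    rw [Subgroup.mem_normalizer_iff]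
    intro a
    constructor
    · exact fun ha => hu.le ⟨a, ha, rfl⟩
    · intro ha
      obtain ⟨b, hb, hba⟩ := hu.ge ha
      rwa [← (MulAut.conj u).injective hba]
  refine ⟨(s : J) * g, ?_, ?_⟩
  · have := mul_mem (inv_mem (en _ e1)) (en _ e2)
    simpa [mul_assoc] using this
  · rw [mul_smul, hg]
    exact s.2

end Cfsg.Agent.S3180
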