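import Cfsg.Statements.S3183
import Mathlib

set_option autoImplicit false
open Cfsg

namespace Cfsg.Agent.S3183

theorem sylow_center {G : Type*} [Group G] (S : Sylow 2 G) (x : G) :
    x ∈ (Subgroup.center ↥(S : Subgroup G)).map (S : Subgroup G).subtype ↔
      x ∈ (S : Subgroup G) ∧ ∀ s ∈ (S : Subgroup G), s * x = x * s := by
  constructor
  · rintro ⟨z, hz, rfl⟩
    exact ⟨z.2, fun s hs => congrArg Subtype.val (Subgroup.mem_center_iff.1 hz ⟨s, hs⟩)⟩
  · rintro ⟨hx, h⟩
    exact ⟨⟨x, hx⟩, Subgroup.mem_center_iff.2 fun s => Subtype.ext (h s s.2), rfl⟩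


/-- Let G be a finite group in which the intersection of any two distinct Sylow 2-subgroups is contained in the centre of some Sylow 2-subgroup, and let S be a Sylow 2-subgroup. Then for every x in S the centralizer of x in S is a Sylow 2-subgroup of the centralizer of x in G (no 2-subgroup centralizing x is larger), and for every other Sylow 2-subgroup T the intersection S ∩ T lies in both the centre of S and the centre of T. -/
theorem result {G : Type*} [Group G] [Finite G]
    (hCI : ∀ S T : Sylow 2 G, S ≠ T → ∃ U : Sylow 2 G,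
      (S : Subgroup G) ⊓ (T : Subgroup G) ≤ (Subgroup.center ↥(U : Subgroup G)).map (U : Subgroup G).subtype)
    (S : Sylow 2 G) :
    (∀ x ∈ (S : Subgroup G), ∀ P : Subgroup G, IsPGroup 2 ↥P → P ≤ Subgroup.centralizer ({x} : Set G) →
        Nat.card ↥P ≤ Nat.card ↥((S : Subgroup G) ⊓ Subgroup.centralizer ({x} : Set G))) ∧
    (∀ T : Sylow 2 G, T ≠ S →
        (S : Subgroup G) ⊓ (T : Subgroup G) ≤
          (Subgroup.center ↥(S : Subgroup G)).map (S : Subgroup G).subtype ⊓
            (Subgroup.center ↥(T : Subgroup G)).map (T : Subgroup G).subtype) := by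
  classical
  have : Fact (Nat.Prime 2) := ⟨Nat.prime_two⟩
  have main : ∀ S T : Sylow 2 G, T ≠ S →
      (S : Subgroup G) ⊓ (T : Subgroup G) ≤
        (Subgroup.center ↥(S : Subgroup G)).map (S : Subgroup G).subtype := by
    intro S T hne
    obtain ⟨D, hTD, hD⟩ := exists_maximal_ge_of_wellFoundedGT
      (fun D : Subgroup G => ∃ T : Sylow 2 G, T ≠ S ∧ D = (S : Subgroup G) ⊓ (T : Subgroup G))
      _ ⟨T, hne, rfl⟩
    refine hTD.trans ?_
    obtain ⟨T', hne', hDT⟩ := hD.prop
    obtain ⟨U, hU⟩ := hCI S T' (Ne.symm hne')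
    have hDlt : ¬ (S : Subgroup G) ≤ D := by
      intro h
      rw [hDT] at h
      exact hne' (Sylow.ext (S.3 T'.2 (h.trans inf_le_right))).symm.symm
    set K := (S : Subgroup G) ⊓ Subgroup.normalizer (D : Set G) with hK
    have hDS : D ≤ (S : Subgroup G) := hDT ▸ inf_le_left
    have hKD : ¬ K ≤ D := by
      intro h
      have : Group.IsNilpotent (S : Subgroup G) := S.2.isNilpotent
      obtain ⟨t, ht, htD⟩ := SetLike.exists_of_lt (Group.normalizerCondition_of_isNilpotent
        (D.subgroupOf (S : Subgroup G))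
        (lt_top_iff_ne_top.2 fun h => hDlt (Subgroup.subgroupOf_eq_top.1 h)))
      refine htD (Subgroup.mem_subgroupOf.2 (h (Subgroup.mem_inf.2 ⟨t.2, ?_⟩)))
      rw [Subgroup.mem_normalizer_iff] at ht ⊢
      intro x
      constructor
      · intro hx
        exact (ht ⟨x, hDS hx⟩).1 hx
      · intro hx
        have hxS : x ∈ (S : Subgroup G) := by
          have := mul_mem (mul_mem (inv_mem t.2) (hDS hx)) t.2
          simp only [mul_assoc, inv_mul_cancel_left, inv_mul_cancel, mul_one] at this
          exact this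
        exact (ht ⟨x, hxS⟩).2 hx
    set N := Subgroup.normalizer (D : Set G) with hN
    have hUN : (U : Subgroup G) ≤ N := by
      refine le_trans ?_ (Subgroup.centralizer_le_normalizer _)
      intro u hu
      rw [Subgroup.mem_centralizer_iff]
      intro d hd
      exact (((sylow_center U d).1 (hU (hDT ▸ hd))).2 u hu).symm
    have hK2 : IsPGroup 2 K := S.2.to_le inf_le_left
    obtain ⟨Q, hQ⟩ := (hK2.comap_subtype (K := N)).exists_le_sylow
    obtain ⟨k, hk⟩ := MulAction.exists_smul_eq N (U.subtype hUN) Q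
    set V : Sylow 2 G := (k : G) • U with hV
    have hKV : K ≤ (V : Subgroup G) := by
      intro a ha
      have h1 : (⟨a, (Subgroup.mem_inf.1 ha).2⟩ : N) ∈ (Q : Subgroup N) := hQ ha
      rw [← hk, Sylow.coe_subgroup_smul, Subgroup.mem_pointwise_smul_iff_inv_smul_mem,
        Sylow.coe_subtype, Subgroup.mem_subgroupOf] at h1
      rw [hV, Sylow.coe_subgroup_smul, Subgroup.mem_pointwise_smul_iff_inv_smul_mem]
      simpa [MulAut.smul_def] using h1
    by_cases hVS : V = S
    · intro d hd
      rw [sylow_center]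
      refine ⟨hDS hd, fun s hs => ?_⟩
      have h2 : (k : G)⁻¹ * d * k ∈ D := by
        have := (Subgroup.mem_normalizer_iff''.1 k.2 d).1 hd
        exact this
      obtain ⟨-, h3⟩ := (sylow_center U _).1 (hU (hDT ▸ h2))
      have hs' : s ∈ (V : Subgroup G) := hVS ▸ hs
      rw [hV, Sylow.coe_subgroup_smul, Subgroup.mem_pointwise_smul_iff_inv_smul_mem] at hs'
      simp only [MulAut.smul_def, MulAut.conj_inv_apply] at hs'
      have h4 := congrArg (fun a => (k : G) * a * (k : G)⁻¹) (h3 _ hs')
      simpa [mul_assoc] using h4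
    · exfalso
      have hDV : D ≤ (S : Subgroup G) ⊓ (V : Subgroup G) :=
        le_inf hDS ((le_inf hDS Subgroup.le_normalizer).trans hKV)
      exact hKD ((le_inf inf_le_left hKV).trans (hD.le_of_ge ⟨V, hVS, rfl⟩ hDV))
  refine ⟨fun x hx P hP hPC => ?_, fun T hne => le_inf (main S T hne) ?_⟩
  · by_cases hxZ : x ∈ (Subgroup.center ↥(S : Subgroup G)).map (S : Subgroup G).subtype
    · obtain ⟨T, hT⟩ := hP.exists_le_sylow
      have hSC : (S : Subgroup G) ≤ Subgroup.centralizer ({x} : Set G) := fun s hs =>
        Subgroup.mem_centralizer_singleton_iff.2 (((sylow_center S x).1 hxZ).2 s hs)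
      rw [inf_of_le_left hSC, Nat.card_congr (Sylow.equiv S T).toEquiv]
      exact Subgroup.card_le_of_le hT
    · obtain ⟨k, hk⟩ := IsPGroup.iff_orderOf.1 S.2 ⟨x, hx⟩
      rw [Subgroup.orderOf_mk] at hk
      have hz : IsPGroup 2 (Subgroup.zpowers x) :=
        IsPGroup.of_card (n := k) (by rw [Nat.card_zpowers, hk])
      have hPN : P ≤ Subgroup.normalizer (Subgroup.zpowers x : Set G) := by
        refine le_trans ?_ (Subgroup.centralizer_le_normalizer _)
        intro a ha
        rw [Subgroup.mem_centralizer_iff]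
        intro h hh
        obtain ⟨i, rfl⟩ := Subgroup.mem_zpowers_iff.1 hh
        exact ((show Commute a x from
          Subgroup.mem_centralizer_singleton_iff.1 (hPC ha)).zpow_right i).eq.symm
      obtain ⟨T, hT⟩ := (hP.to_sup_of_normal_right' hz hPN).exists_le_sylow
      have hTS : T = S := by
        by_contra hne
        exact hxZ (main S T hne (Subgroup.mem_inf.2
          ⟨hx, hT (Subgroup.mem_sup_right (Subgroup.mem_zpowers x))⟩))
      subst hTS
      exact Subgroup.card_le_of_le (le_inf (le_sup_left.trans hT) hPC)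
  · exact inf_comm (S : Subgroup G) (T : Subgroup G) ▸ main T S hne.symm

end Cfsg.Agent.S3183
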