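import Cfsg.Statements.S3184
import Cfsg.Agent.Invol.ZStar
import Cfsg.Agent.Invol.SylowConj

set_option autoImplicit false
open Cfsg

namespace Cfsg.Agent.S3184

open Cfsg.Agent in
theorem commute_all {G : Type*} [Group G] [Finite G]
    (hCI : ∀ S T : Sylow 2 G, S ≠ T → ∃ U : Sylow 2 G,
      (S : Subgroup G) ⊓ (T : Subgroup G) ≤ (Subgroup.center ↥(U : Subgroup G)).map (U : Subgroup G).subtype)
    (S : Sylow 2 G) {c : G} (hcS : c ∈ S) (T : Sylow 2 G)
    (hT : ∀ t ∈ T, Commute c t) : ∀ s ∈ S, Commute c s := by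
  set S0 := (S : Subgroup G) ⊓ Subgroup.centralizer ({c} : Set G) with hS0
  by_contra hne
  push Not at hne
  obtain ⟨s, hs, hns⟩ := hne
  have hlt : S0 < S := lt_of_le_of_ne inf_le_left fun e => hns (by
    have : s ∈ S0 := e ▸ hs
    exact (Subgroup.mem_centralizer_singleton_iff.1 this.2).symm)
  have hTC : (T : Subgroup G) ≤ Subgroup.centralizer ({c} : Set G) := fun t ht =>
    Subgroup.mem_centralizer_singleton_iff.2 (hT t ht).eq.symm
  -- a Sylow subgroup inside the centraliser over `S0`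
  obtain ⟨V', hV'⟩ := ((S.2.to_le (show S0 ≤ S from inf_le_left)).comap_subtype :
    IsPGroup 2 (S0.subgroupOf (Subgroup.centralizer ({c} : Set G)))).exists_le_sylow
  have hcard : Nat.card (T : Subgroup G) ≤ Nat.card ((V' : Subgroup _).map
      (Subgroup.centralizer ({c} : Set G)).subtype) := by
    rw [Subgroup.card_map_of_injective (Subgroup.subtype_injective _)]
    exact (Nat.card_congr ((Subgroup.subgroupOfEquivOfLe hTC).symm.toEquiv.trans
      (Sylow.equiv (T.subtype hTC) V').toEquiv)).le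
  obtain ⟨V, hV⟩ := (V'.2.map (Subgroup.centralizer ({c} : Set G)).subtype).exists_le_sylow
  have hVeq : (V' : Subgroup _).map (Subgroup.centralizer ({c} : Set G)).subtype = V :=
    Subgroup.eq_of_le_of_card_ge hV ((Nat.card_congr (Sylow.equiv V T).toEquiv).trans_le hcard)
  have hVC : (V : Subgroup G) ≤ Subgroup.centralizer ({c} : Set G) := hVeq ▸ Subgroup.map_subtype_le _
  have hSne : S ≠ V := fun e => hns (Subgroup.mem_centralizer_singleton_iff.1 (hVC (e ▸ hs))).symm
  obtain ⟨U, hU⟩ := hCI S V hSne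
  have hS0V : S0 ≤ V := fun x hx => hVeq ▸ ⟨⟨x, hx.2⟩, hV' hx, rfl⟩
  have hUC : ∀ u ∈ U, ∀ x ∈ S0, Commute u x := fun u hu x hx => by
    obtain ⟨x', hx', rfl⟩ := hU (show x ∈ (S : Subgroup G) ⊓ V from ⟨hx.1, hS0V hx⟩)
    exact congrArg Subtype.val (Subgroup.mem_center_iff.1 hx' ⟨u, hu⟩)
  -- normalisers grow
  haveI : Group.IsNilpotent (S : Subgroup G) := S.2.isNilpotent
  have hgrow := Group.normalizerCondition_of_isNilpotent (S0.subgroupOf (S : Subgroup G))
    (lt_of_le_of_ne le_top fun e => hlt.not_ge (Subgroup.subgroupOf_eq_top.1 e))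
  obtain ⟨r, hr, hr0⟩ := SetLike.exists_of_lt hgrow
  have hrN : (r : G) ∈ Subgroup.normalizer (S0 : Set G) := by
    rw [Subgroup.mem_normalizer_iff] at hr ⊢
    intro w
    constructor
    · intro hw
      exact (hr ⟨w, hw.1⟩).1 hw
    · intro hw
      have hwS : w ∈ (S : Subgroup G) := by
        have := mul_mem (mul_mem (inv_mem r.2) hw.1) r.2
        simpa [mul_assoc] using this
      exact (hr ⟨w, hwS⟩).2 hw
  set N := Subgroup.normalizer (S0 : Set G) with hN
  have hUN : (U : Subgroup G) ≤ Subgroup.centralizer (S0 : Set G) := fun u hu =>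
    Subgroup.mem_centralizer_iff.2 fun x hx => (hUC u hu x hx).eq.symm
  have hcN : Subgroup.centralizer (S0 : Set G) ≤ N := Subgroup.centralizer_le_normalizer _
  haveI : ((Subgroup.centralizer (S0 : Set G)).subgroupOf N).Normal := inferInstance
  have hUN' : (U : Subgroup G) ≤ N := hUN.trans hcN
  obtain ⟨d, hd⟩ := Cfsg.Agent.Invol.exists_conj_mem_of_isPGroup (U.subtype hUN')
    (x := (⟨r, hrN⟩ : N)) (by
      obtain ⟨j, hj⟩ := IsPGroup.iff_orderOf.1 S.2 r
      exact ⟨j, by rw [Subgroup.orderOf_mk, Subgroup.orderOf_coe, hj]⟩)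
  have h1 : (d * (⟨r, hrN⟩ : N) * d⁻¹) ∈ (Subgroup.centralizer (S0 : Set G)).subgroupOf N := hUN hd
  have h2 := Subgroup.Normal.conj_mem inferInstance _ h1 d⁻¹
  rw [inv_inv, ← mul_assoc, ← mul_assoc, inv_mul_cancel, one_mul, inv_mul_cancel_right] at h2
  have hcS0 : c ∈ S0 := ⟨hcS, Subgroup.mem_centralizer_singleton_iff.2 rfl⟩
  exact hr0 ⟨r.2, Subgroup.mem_centralizer_singleton_iff.2
    (Subgroup.mem_centralizer_iff.1 h2 c hcS0).symm⟩

/-- Let G be a finite group in which the intersection of any two distinct Sylow 2-subgroups is contained in the centre of some Sylow 2-subgroup, and let S be a Sylow 2-subgroup. If C is a nontrivial cyclic characteristic subgroup of S, then the involution of C is central modulo the largest normal subgroup of odd order of G: each of its conjugates has the same image in G/O(G). -/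
theorem result {G : Type*} [Group G] [Finite G]
    (hCI : ∀ S T : Sylow 2 G, S ≠ T → ∃ U : Sylow 2 G,
      (S : Subgroup G) ⊓ (T : Subgroup G) ≤ (Subgroup.center ↥(U : Subgroup G)).map (U : Subgroup G).subtype)
    (S : Sylow 2 G) (C : Subgroup ↥(S : Subgroup G)) (hC : C ≠ ⊥) (hCc : IsCyclic ↥C) (hCh : C.Characteristic)
    (c : ↥(S : Subgroup G)) (hc : c ∈ C) (hc2 : orderOf c = 2) :
    ∀ g : G, (QuotientGroup.mk (s := Cfsg.oddCore G) (g * (c : G) * g⁻¹)) =
      QuotientGroup.mk (s := Cfsg.oddCore G) (c : G) := by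
  intro g
  set z : G := (c : G) with hzdef
  have hz2 : orderOf z = 2 := by rw [hzdef, Subgroup.orderOf_coe, hc2]
  haveI : C.Normal := inferInstance
  have huniqC : ∀ u ∈ C, orderOf u = 2 → u = c := fun u hu h2 => by
    obtain ⟨w, hw⟩ := hCc.exists_generator
    have hC' : C = Subgroup.zpowers (w : ↥(S : Subgroup G)) := le_antisymm
      (fun v hv => by
        obtain ⟨i, hi⟩ := Subgroup.mem_zpowers_iff.1 (hw ⟨v, hv⟩)
        exact Subgroup.mem_zpowers_iff.2 ⟨i, congrArg Subtype.val hi⟩)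
      (Subgroup.zpowers_le.2 w.2)
    obtain ⟨-, e1⟩ := Cfsg.Agent.Invol.eq_half_pow_of_mem_zpowers h2 (hC' ▸ hu)
    obtain ⟨-, e2⟩ := Cfsg.Agent.Invol.eq_half_pow_of_mem_zpowers hc2 (hC' ▸ hc)
    exact e1.trans e2.symm
  have hzS : ∀ s ∈ S, Commute z s := fun s hs => by
    have h1 := huniqC _ (Subgroup.Normal.conj_mem inferInstance c hc ⟨s, hs⟩)
      ((Cfsg.Agent.Invol.orderOf_conj (⟨s, hs⟩ : ↥(S : Subgroup G)) c).trans hc2)
    exact (congrArg Subtype.val (mul_inv_eq_iff_eq_mul.1 h1)).symm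
  have hiso : Cfsg.IsIsolatedInvolution z := by
    refine Cfsg.Agent.Invol.isolated_of_sylow S hz2 fun h hm => ?_
    have hall := commute_all hCI S hm (h • S) (fun t ht => by
      rw [← SetLike.mem_coe, ← Sylow.coe_coe] at ht
      change t ∈ ((h • S : Sylow 2 G) : Subgroup G) at ht
      rw [Sylow.coe_subgroup_smul] at ht
      obtain ⟨s, hs, rfl⟩ := ht
      exact (Commute.conj_iff h).2 (hzS s hs))
    obtain ⟨n, hn, he⟩ := Sylow.conj_eq_normalizer_conj_of_mem_centralizer S z h⁻¹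
      (Subgroup.mem_centralizer_iff.2 fun s hs => (hzS s hs).eq.symm)
      (by rw [inv_inv]; exact Subgroup.mem_centralizer_iff.2 fun s hs => (hall s hs).eq.symm)
    rw [inv_inv] at he
    let φ : ↥(S : Subgroup G) ≃* ↥(S : Subgroup G) :=
      Subgroup.normalizerMonoidHom (S : Subgroup G) ⟨n⁻¹, inv_mem hn⟩
    have hφ : φ c ∈ C := by
      have := Subgroup.characteristic_iff_le_comap.1 hCh φ hc
      simpa using this
    have h1 := congrArg Subtype.val (huniqC _ hφ ((MulEquiv.orderOf_eq φ c).trans hc2))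
    rw [he]
    have : ((φ c : ↥(S : Subgroup G)) : G) = n⁻¹ * z * n⁻¹⁻¹ := rfl
    rw [this, inv_inv] at h1
    exact h1
  have hm := Cfsg.Agent.Invol.zstar_mem_center hiso
  rw [QuotientGroup.mk_mul, QuotientGroup.mk_mul, Subgroup.mem_center_iff.1 hm, QuotientGroup.mk_inv,
    mul_inv_cancel_right]

end Cfsg.Agent.S3184
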