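import Cfsg.Statements.S3190
import Mathlib
import Cfsg.Agent.Coprime.Basic
import Cfsg.Agent.Fusion.PGroup

set_option autoImplicit false
open Cfsg

namespace Cfsg.Agent.S3190

/-- Let p be an odd prime and, inside a finite group, let P be a p-subgroup normalized by a Klein four-group T. Let R be a subgroup of P, normal in P and normalized by T, such that P is the product of R with the centralizer of T in P. If T centralizes the centre of P, then T centralizes the centre of R. -/
theorem result {X : Type*} [Group X] [Finite X]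
    {p : ℕ} (hp : p.Prime) (hodd : Odd p) (P T R : Subgroup X) (hP : IsPGroup p ↥P) (hT : IsKleinFour ↥T)
    (hTP : T ≤ Subgroup.normalizer (P : Set X)) (hRP : R ≤ P) (hRn : (R.subgroupOf P).Normal)
    (hTR : T ≤ Subgroup.normalizer (R : Set X)) (hfac : R ⊔ (P ⊓ Subgroup.centralizer (T : Set X)) = P)
    (hZ : T ≤ Subgroup.centralizer (((Subgroup.center ↥P).map P.subtype : Subgroup X) : Set X)) :
    T ≤ Subgroup.centralizer (((Subgroup.center ↥R).map R.subtype : Subgroup X) : Set X) := by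
  classical
  have := Fact.mk hp
  set Z := (Subgroup.center ↥R).map R.subtype with hZdef
  have hZ' : ∀ z ∈ Z, z ∈ R ∧ ∀ r ∈ R, r * z = z * r := by
    rintro _ ⟨z, hz, rfl⟩
    exact ⟨z.2, fun r hr => congrArg Subtype.val (Subgroup.mem_center_iff.1 hz ⟨r, hr⟩)⟩
  have : IsMulCommutative Z := ⟨⟨fun a b => Subtype.ext (((hZ' b b.2).2 a (hZ' a a.2).1))⟩⟩
  have hnorm : ∀ g ∈ Subgroup.normalizer (R : Set X), g ∈ Subgroup.normalizer (Z : Set X) := by
    have h1 : ∀ g ∈ Subgroup.normalizer (R : Set X), ∀ z ∈ Z, g * z * g⁻¹ ∈ Z := by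
      intro g hg z hz
      obtain ⟨hzR, hzc⟩ := hZ' z hz
      refine ⟨⟨g * z * g⁻¹, (Subgroup.mem_normalizer_iff.1 hg z).1 hzR⟩,
        Subgroup.mem_center_iff.2 fun r => Subtype.ext ?_, rfl⟩
      have h2 := hzc _ ((Subgroup.mem_normalizer_iff''.1 hg r).1 r.2)
      have h3 := congrArg (fun a => g * a * g⁻¹) h2
      simpa [mul_assoc] using h3
    intro g hg
    rw [Subgroup.mem_normalizer_iff]
    refine fun z => ⟨h1 g hg z, fun hz => ?_⟩
    have := h1 g⁻¹ (inv_mem hg) _ hz
    simpa [mul_assoc] using this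
  have hTZ : T ≤ Subgroup.normalizer (Z : Set X) := hTR.trans hnorm
  have hZp : IsPGroup p Z := hP.to_le (Subgroup.map_subtype_le _ |>.trans hRP)
  have hcop : (Nat.card T).Coprime (Nat.card Z) := by
    obtain ⟨k, hk⟩ := IsPGroup.iff_card.1 hZp
    rw [hT.card_four, hk]
    exact ((Nat.coprime_two_left.2 hodd).pow 2 k : Nat.Coprime (2 ^ 2) (p ^ k))
  obtain ⟨hbot, hsup⟩ := Coprime.abelian_decomposition hTZ hcop
  suffices hW : ⁅Z, T⁆ = ⊥ by
    rwa [Subgroup.commutator_eq_bot_iff_le_centralizer, Subgroup.le_centralizer_iff] at hW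
  set W := ⁅Z, T⁆ with hWdef
  have hWZ : W ≤ Z := Coprime.commutator_le_of_le_normalizer hTZ
  have hWP : W ≤ P := hWZ.trans ((Subgroup.map_subtype_le _).trans hRP)
  have hWn : P ≤ Subgroup.normalizer (W : Set X) := by
    refine hfac.ge.trans (sup_le ?_ ?_)
    · refine le_trans ?_ (Subgroup.centralizer_le_normalizer _)
      intro r hr
      rw [Subgroup.mem_centralizer_iff]
      intro w hw
      exact ((hZ' w (hWZ hw)).2 r hr).symm
    · intro c hc
      obtain ⟨hcP, hcT⟩ := Subgroup.mem_inf.1 hc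
      have hcR : c ∈ Subgroup.normalizer (R : Set X) :=
        (Subgroup.normal_subgroupOf_iff_le_normalizer hRP).1 hRn hcP
      have hmap : W.map (MulAut.conj c).toMonoidHom = W := by
        rw [hWdef, Subgroup.map_commutator]
        congr 1
        · exact Subgroup.mem_normalizer_iff_map_conj_eq.1 (hnorm c hcR)
        · apply Subgroup.mem_normalizer_iff_map_conj_eq.1
          exact Subgroup.centralizer_le_normalizer _ hcT
      exact Subgroup.mem_normalizer_iff_map_conj_eq.2 hmap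
  by_contra hne
  have hWn' : (W.subgroupOf P).Normal := (Subgroup.normal_subgroupOf_iff_le_normalizer hWP).2 hWn
  have hne' : W.subgroupOf P ≠ ⊥ := fun h => hne (le_bot_iff.1 fun w hw => by
    have : (⟨w, hWP hw⟩ : P) ∈ W.subgroupOf P := hw
    rw [h, Subgroup.mem_bot] at this
    exact Subgroup.mem_bot.2 (congrArg Subtype.val this))
  have hZ1 := Fusion.pGroup_inf_center_ne_bot hP (W.subgroupOf P) hne'
  obtain ⟨⟨z, hz⟩, hz1⟩ := Subgroup.ne_bot_iff_exists_ne_one.1 hZ1
  obtain ⟨hzW, hzC⟩ := Subgroup.mem_inf.1 hz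
  rw [Subgroup.mem_subgroupOf] at hzW
  have hzT : (z : X) ∈ Subgroup.centralizer (T : Set X) :=
    Subgroup.mem_centralizer_iff.2 fun t ht =>
      (Subgroup.mem_centralizer_iff.1 (hZ ht) (z : X) ⟨z, hzC, rfl⟩).symm
  have : (z : X) ∈ (Z ⊓ Subgroup.centralizer (T : Set X)) ⊓ ⁅Z, T⁆ :=
    Subgroup.mem_inf.2 ⟨Subgroup.mem_inf.2 ⟨hWZ hzW, hzT⟩, hzW⟩
  rw [hbot, Subgroup.mem_bot] at this
  exact hz1 (Subtype.ext (Subtype.ext this))

end Cfsg.Agent.S3190
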