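import Cfsg.Statements.S3192
import Cfsg.Agent.ItoRankThree.Main
import Cfsg.Agent.Classical.LinearBasic
import Cfsg.Agent.S2507

set_option autoImplicit false
open Cfsg

namespace Cfsg.Agent.S3192

open Cfsg.Agent.ItoRankThree Cfsg.Agent.CoprimeClass

universe u

theorem set_eq {G : Type u} [Group G] (hG : NS G) :
    {m : ℕ | ∃ x : G, x ∉ Subgroup.center G ∧ m = (Subgroup.centralizer ({x} : Set G)).index} =
      {n : ℕ | ∃ x : G, x ≠ 1 ∧ n = sz x} := by
  simp only [hG.center, Subgroup.mem_bot]

theorem sz_equiv {G : Type u} {P : Type*} [Group G] [Finite G] [Group P] (e : G ≃* P) (x : G) :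
    sz (e x) = sz x := by
  have h : cz (e x) = (cz x).comap e.symm.toMonoidHom := by
    ext z
    rw [Subgroup.mem_comap, mem_cz, mem_cz]
    constructor
    · intro h
      have := congrArg e.symm h
      simpa using this
    · intro h
      have := congrArg e h
      simpa using this
  show (cz (e x)).index = _
  rw [h, Subgroup.index_comap_of_surjective _ e.symm.surjective]

theorem converse {G : Type u} [Group G] [Finite G] (h : IsPSLTwo G) :
    NS G ∧ Set.ncard {n : ℕ | ∃ x : G, x ≠ 1 ∧ n = sz x} = 3 := by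
  obtain ⟨m, F, iF, iFi, hm, hF, ⟨e⟩⟩ := h
  classical
  set q := Fintype.card F with hq
  have h4 : 4 ≤ q := by
    rw [hF]
    exact le_trans (by norm_num) (Nat.pow_le_pow_right (by norm_num) hm)
  have h2 : 2 ∣ q := by
    rw [hF]
    exact dvd_pow_self 2 (by omega)
  have hsimple : IsSimpleGroup (Matrix.ProjectiveSpecialLinearGroup (Fin 2) F) := by
    refine Cfsg.Agent.Classical.isSimpleGroup_psl (Or.inr ⟨by simp, ?_⟩)
    by_contra hno
    push Not at hno
    have hsub : (Finset.univ : Finset F) ⊆ {0, 1, -1} := fun x _ => by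
      rcases eq_or_ne x 0 with rfl | hx
      · simp
      · rcases sq_eq_one_iff.1 (hno x hx) with rfl | rfl <;> simp
    have hcard := (Finset.card_le_card hsub).trans Finset.card_le_three
    rw [Finset.card_univ] at hcard
    omega
  have hsizes := S2507.result (F := F) h2 h4
  have hG : ∀ x : G, sz (e x) = sz x := sz_equiv e
  have hrange : Set.range (fun x : G => sz x) =
      ({1, q * (q - 1), q ^ 2 - 1, q * (q + 1)} : Set ℕ) := by
    rw [← hsizes]
    ext n
    constructor
    · rintro ⟨x, rfl⟩
      exact ⟨e x, hG x⟩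
    · rintro ⟨y, rfl⟩
      refine ⟨e.symm y, ?_⟩
      show sz (e.symm y) = sz y
      rw [← hG, e.apply_symm_apply]
  have e1 : q * (q - 1) + q = q * q := by
    obtain ⟨r, hr⟩ : ∃ r, q = r + 1 := ⟨q - 1, by omega⟩
    rw [hr, Nat.add_sub_cancel]
    ring
  have e2 : q ^ 2 = q * q := sq q
  have e3 : q * (q + 1) = q * q + q := by ring
  have e4 : 4 * q ≤ q * q := Nat.mul_le_mul_right q h4
  have hns : NS G := by
    haveI : Nontrivial G := e.symm.injective.nontrivial
    refine ⟨IsSimpleGroup.isSimpleGroup_of_surjective e.symm.toMonoidHom e.symm.surjective, fun hc => ?_⟩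
    obtain ⟨x, hx⟩ := hrange.symm.le (show q * (q + 1) ∈ _ from Or.inr (Or.inr (Or.inr rfl)))
    have : sz x = 1 := Subgroup.index_eq_one.2 ((Subgroup.eq_top_iff' _).2 fun z =>
      mem_cz.2 (hc.is_comm.comm z x))
    change sz x = _ at hx
    omega
  refine ⟨hns, ?_⟩
  have hset : {n : ℕ | ∃ x : G, x ≠ 1 ∧ n = sz x} =
      ({q * (q - 1), q ^ 2 - 1, q * (q + 1)} : Set ℕ) := by
    ext n
    constructor
    · rintro ⟨x, hx, rfl⟩
      exact (hrange.le ⟨x, rfl⟩).resolve_left (hns.one_lt_sz hx).ne'
    · intro hn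
      obtain ⟨x, hx⟩ := hrange.symm.le (Or.inr hn)
      refine ⟨x, fun e0 => ?_, hx.symm⟩
      change sz x = n at hx
      rw [e0, ItoRankThree.sz_one] at hx
      subst hx
      simp only [Set.mem_insert_iff, Set.mem_singleton_iff] at hn
      rcases hn with h | h | h <;> omega
  rw [hset, Set.ncard_eq_three]
  exact ⟨_, _, _, by omega, by omega, by omega, rfl⟩

/-- Simple groups of conjugate type rank three. For a finite group G consider the set of indices of the centralizers of the non-central elements of G. Then G is a non-abelian simple group for which this set has exactly three members if and only if G is isomorphic to PSL(2, 2^m) for some m ≥ 2. -/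
theorem result (G : Type*) [Group G] [Finite G] :
    (IsSimpleGroup G ∧ ¬ IsMulCommutative G ∧
        Set.ncard {m : ℕ | ∃ x : G, x ∉ Subgroup.center G ∧ m = (Subgroup.centralizer ({x} : Set G)).index} = 3) ↔
      ∃ (m : ℕ) (F : Type) (_ : Field F) (_ : Fintype F), 2 ≤ m ∧ Fintype.card F = 2 ^ m ∧
        Nonempty (G ≃* Matrix.ProjectiveSpecialLinearGroup (Fin 2) F) := by
  constructor
  · rintro ⟨hs, hna, h3⟩
    have hG : NS G := ⟨hs, hna⟩
    rw [set_eq hG] at h3
    exact isPSLTwo_of_three hG h3
  · intro h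
    obtain ⟨hG, h3⟩ := converse h
    refine ⟨hG.simple, hG.na, ?_⟩
    rw [set_eq hG]
    exact h3

end Cfsg.Agent.S3192
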