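import Cfsg.Statements.S3195
import Cfsg.Agent.Invol.BaerSuzuki
import Cfsg.Agent.Core.PCore

set_option autoImplicit false
open Cfsg

namespace Cfsg.Agent.S3195

open Subgroup

variable {G : Type*} [Group G]

theorem eq_one_of_odd {y : G} (hy : Odd (orderOf y)) (h : y * y = 1) : y = 1 := by
  have hd : orderOf y ∣ 2 := orderOf_dvd_of_pow_eq_one (by rw [pow_two, h])
  rcases (Nat.dvd_prime Nat.prime_two).1 hd with e | e
  · exact orderOf_eq_one_iff.1 e
  · rw [e] at hy; exact absurd hy (by decide)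

theorem fix_of_sq {r b : G} (hr : Odd (orderOf r)) (h : b * (r⁻¹ * r⁻¹) * b⁻¹ = r⁻¹ * r⁻¹) :
    b * r * b⁻¹ = r := by
  obtain ⟨k, hk⟩ := hr
  have he : r = ((r⁻¹ * r⁻¹) ^ (k + 1))⁻¹ := by
    rw [← mul_inv_rev, inv_pow, inv_inv, ← pow_two, ← pow_mul,
      show 2 * (k + 1) = orderOf r + 1 by omega, pow_succ, pow_orderOf_eq_one, one_mul]
  rw [he, show b * ((r⁻¹ * r⁻¹) ^ (k + 1))⁻¹ * b⁻¹ = (b * (r⁻¹ * r⁻¹) ^ (k + 1) * b⁻¹)⁻¹ by group,
    ← conj_pow, h]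

theorem orderOf_zpow_dvd' (x : G) (k : ℤ) : orderOf (x ^ k) ∣ orderOf x :=
  orderOf_dvd_of_pow_eq_one (by
    rw [← zpow_natCast, ← zpow_mul, mul_comm, zpow_mul, zpow_natCast, pow_orderOf_eq_one, one_zpow])

theorem odd_not_inverting {r t : G} (hr : Odd (orderOf r)) (h : r * t * r⁻¹ = t⁻¹) : t * t = 1 := by
  have hk : ∀ k : ℕ, r ^ (2 * k) * t * (r ^ (2 * k))⁻¹ = t := by
    intro k
    induction k with
    | zero => simp
    | succ k ih =>
      rw [show 2 * (k + 1) = 1 + (1 + 2 * k) by omega, pow_add, pow_add, pow_one,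
        show r * (r * r ^ (2 * k)) * t * (r * (r * r ^ (2 * k)))⁻¹
          = r * (r * (r ^ (2 * k) * t * (r ^ (2 * k))⁻¹) * r⁻¹) * r⁻¹ by group, ih, h,
        show r * t⁻¹ * r⁻¹ = (r * t * r⁻¹)⁻¹ by group, h, inv_inv]
  obtain ⟨k, hk'⟩ := hr
  have h1 := hk (k + 1)
  rw [show 2 * (k + 1) = orderOf r + 1 by omega, pow_succ, pow_orderOf_eq_one, one_mul, h] at h1
  rw [← inv_eq_iff_mul_eq_one]
  exact h1


/-- Let A be a Klein four-subgroup of a finite group G. If every G-conjugate of every involution of A commutes with some involution of A (its centralizer meets A nontrivially), then A meets the largest normal 2-subgroup O₂(G) nontrivially. -/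
theorem result {G : Type*} [Group G] [Finite G]
    (A : Subgroup G) (hA : IsKleinFour ↥A)
    (h : ∀ a ∈ A, a ≠ 1 → ∀ g : G, A ⊓ Subgroup.centralizer ({g * a * g⁻¹} : Set G) ≠ ⊥) :
    A ⊓ Cfsg.pCore 2 G ≠ ⊥ := by
  classical
  intro hA2
  have hord : ∀ a ∈ A, a ≠ 1 → orderOf a = 2 := fun a ha h1 => by
    refine orderOf_eq_prime ?_ h1
    have h := Monoid.pow_exponent_eq_one (⟨a, ha⟩ : A)
    rw [hA.exponent_two] at h
    exact congrArg Subtype.val h
  have hcomm : ∀ a ∈ A, ∀ b ∈ A, a * b = b * a := fun a ha b hb =>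
    congrArg Subtype.val ((IsKleinFour.isMulCommutative (G := A)).is_comm.comm ⟨a, ha⟩ ⟨b, hb⟩)
  have hinv : ∀ a ∈ A, a⁻¹ = a := fun a ha => by
    by_cases h1 : a = 1
    · simp [h1]
    · rw [inv_eq_iff_mul_eq_one, ← pow_two]; exact hord a ha h1 ▸ pow_orderOf_eq_one a
  -- an odd element inverted by each involution
  have hodd : ∀ a ∈ A, a ≠ 1 → ∃ r : G, r ≠ 1 ∧ Odd (orderOf r) ∧ a * r * a⁻¹ = r⁻¹ := by
    intro a ha h1
    obtain ⟨g, r, hr, hro, hra, -⟩ := Invol.exists_inverted_odd (hord a ha h1) fun N hN hNp haN => by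
      have h2 : a ∈ A ⊓ Cfsg.pCore 2 G := Subgroup.mem_inf.2 ⟨ha, Core.le_pCore hNp haN⟩
      rw [hA2, mem_bot] at h2
      exact h1 h2
    exact ⟨r, hr, hro, hra⟩
  have hconj : ∀ a ∈ A, a ≠ 1 → ∀ g : G, ∃ c ∈ A, c ≠ 1 ∧ c * (g * a * g⁻¹) = (g * a * g⁻¹) * c := by
    intro a ha h1 g
    by_contra hno
    push Not at hno
    refine h a ha h1 g ((eq_bot_iff_forall _).2 fun c hc => ?_)
    by_contra hc1
    exact hno c hc.1 hc1 (mem_centralizer_singleton_iff.1 hc.2)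
  -- the other involution centralizes
  have hcen : ∀ a ∈ A, a ≠ 1 → ∀ r : G, r ≠ 1 → Odd (orderOf r) → a * r * a⁻¹ = r⁻¹ →
      ∃ b ∈ A, b ≠ 1 ∧ b ≠ a ∧ b * r * b⁻¹ = r := by
    intro a ha h1 r hr hro hra
    obtain ⟨b, hb, hb1, hbc⟩ := hconj a ha h1 r
    have ha' := hinv a ha
    have hmul : a * (r * a * r⁻¹) = r⁻¹ * r⁻¹ := by
      calc a * (r * a * r⁻¹) = (a * r * a) * r⁻¹ := by group
        _ = (a * r * a⁻¹) * r⁻¹ := by rw [ha']
        _ = r⁻¹ * r⁻¹ := by rw [hra]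
    refine ⟨b, hb, hb1, fun hba => ?_, ?_⟩
    · rw [hba] at hbc
      have h5 : r * a * r⁻¹ * a = r * r := by
        calc r * a * r⁻¹ * a = r * (a * r⁻¹ * a) := by group
          _ = r * (a * r⁻¹ * a⁻¹) := by rw [ha']
          _ = r * (a * r * a⁻¹)⁻¹ := by group
          _ = r * r := by rw [hra, inv_inv]
      rw [hmul, h5] at hbc
      refine hr (eq_one_of_odd hro (eq_one_of_odd (y := r * r) ?_ ?_))
      · rw [← pow_two]; exact hro.of_dvd_nat (orderOf_pow_dvd 2)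
      · calc r * r * (r * r) = (r⁻¹ * r⁻¹) * (r * r) := by rw [← hbc]
          _ = 1 := by group
    · have hb' : b * (r⁻¹ * r⁻¹) * b⁻¹ = r⁻¹ * r⁻¹ := by
        rw [← hmul, ← mul_assoc, hcomm b hb a ha, mul_assoc a b, hbc,
          ← mul_assoc, mul_inv_cancel_right]
      exact fix_of_sq hro hb'
  -- `x` inverts `r` and centralizes `t`; `y` the other way round
  obtain ⟨a, ha, ha1⟩ : ∃ a ∈ A, a ≠ 1 := by
    by_contra hno
    push Not at hno
    have h4 := hA.card_four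
    rw [Subgroup.card_eq_one.2 ((eq_bot_iff_forall A).2 hno)] at h4
    omega
  obtain ⟨r, hr, hro, hra⟩ := hodd a ha ha1
  obtain ⟨y, hy, hy1, hya, hyr⟩ := hcen a ha ha1 r hr hro hra
  obtain ⟨t, ht, hto, hty⟩ := hodd y hy hy1
  obtain ⟨x, hx, hx1, hxy, hxt⟩ := hcen y hy hy1 t ht hto hty
  have hfour : ∀ c ∈ A, c ≠ 1 → c = a ∨ c = y ∨ c = a * y := by
    intro c hc hc1
    by_contra hno
    push Not at hno
    have hs : ({1, a, y, a * y, c} : Set G) ⊆ A := by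
      rintro g (rfl | rfl | rfl | rfl | rfl)
      exacts [one_mem _, ha, hy, mul_mem ha hy, hc]
    have h5 := Set.ncard_le_ncard hs (Set.toFinite _)
    have hay1 : a * y ≠ 1 := fun e => hya (by rw [mul_eq_one_iff_inv_eq, hinv a ha] at e; exact e.symm)
    have e5 : ({1, a, y, a * y, c} : Set G).ncard = 5 := by
      rw [Set.ncard_insert_of_notMem (by simp [Ne.symm ha1, Ne.symm hy1, Ne.symm hay1, Ne.symm hc1]),
        Set.ncard_insert_of_notMem (by simp [Ne.symm hya, Ne.symm hno.1, hy1]),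
        Set.ncard_insert_of_notMem (by simp [Ne.symm hno.2.1, ha1]),
        Set.ncard_insert_of_notMem (by simp [Ne.symm hno.2.2]), Set.ncard_singleton]
    rw [e5, ← Nat.card_coe_set_eq] at h5
    have h6 : Nat.card A = 4 := hA.card_four
    change 5 ≤ Nat.card A at h5
    omega
  have hxr : x * r * x⁻¹ = r⁻¹ := by
    rcases hfour x hx hx1 with e | e | e
    · rw [e]; exact hra
    · exact absurd e hxy
    · rw [e, mul_inv_rev, show a * y * r * (y⁻¹ * a⁻¹) = a * (y * r * y⁻¹) * a⁻¹ by group, hyr]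
      exact hra
  have hxy' : x * y = y * x := hcomm x hx y hy
  set c := x * y with hc
  have hcA : c ∈ A := mul_mem hx hy
  have hc1 : c ≠ 1 := fun e => hxy (by rw [hc, mul_eq_one_iff_eq_inv, hinv y hy] at e; exact e)
  have hfourc : ∀ e ∈ A, e ≠ 1 → e = x ∨ e = y ∨ e = c := by
    intro e he he1
    rcases hfour x hx hx1 with hxe | hxe | hxe
    · rcases hfour e he he1 with h' | h' | h'
      · exact Or.inl (h'.trans hxe.symm)
      · exact Or.inr (Or.inl h')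
      · exact Or.inr (Or.inr (by rw [h', hc, hxe]))
    · exact absurd hxe hxy
    · rcases hfour e he he1 with h' | h' | h'
      · exact Or.inr (Or.inr (by rw [h', hc, hxe, mul_assoc, ← pow_two, ← hord y hy hy1, pow_orderOf_eq_one, mul_one]))
      · exact Or.inr (Or.inl h')
      · exact Or.inl (h'.trans hxe.symm)
  have hcr : c * r * c⁻¹ = r⁻¹ := by
    rw [hc, mul_inv_rev, show x * y * r * (y⁻¹ * x⁻¹) = x * (y * r * y⁻¹) * x⁻¹ by group, hyr, hxr]
  have hct : c * t * c⁻¹ = t⁻¹ := by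
    rw [hxy', mul_inv_rev, show y * x * t * (x⁻¹ * y⁻¹) = y * (x * t * x⁻¹) * y⁻¹ by group, hxt, hty]
  -- the key relation
  have key : ∀ i j : ℤ, r ^ i ≠ 1 → t ^ j ≠ 1 → t ^ (2 * j) * r ^ (2 * i) = r ^ (-(2 * i)) * t ^ (-(2 * j)) := by
    intro i j hi hj
    have cr : ∀ k : ℤ, c * r ^ k * c⁻¹ = r ^ (-k) := fun k => by rw [← conj_zpow, hcr, inv_zpow']
    have ct : ∀ k : ℤ, c * t ^ k * c⁻¹ = t ^ (-k) := fun k => by rw [← conj_zpow, hct, inv_zpow']
    have xr : ∀ k : ℤ, x * r ^ k * x⁻¹ = r ^ (-k) := fun k => by rw [← conj_zpow, hxr, inv_zpow']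
    have xt : ∀ k : ℤ, x * t ^ k * x⁻¹ = t ^ k := fun k => by rw [← conj_zpow, hxt]
    have yr : ∀ k : ℤ, y * r ^ k * y⁻¹ = r ^ k := fun k => by rw [← conj_zpow, hyr]
    have yt : ∀ k : ℤ, y * t ^ k * y⁻¹ = t ^ (-k) := fun k => by rw [← conj_zpow, hty, inv_zpow']
    have hoddr : ∀ k : ℤ, Odd (orderOf (r ^ k)) := fun k => hro.of_dvd_nat (orderOf_zpow_dvd' _ k)
    have hoddt : ∀ k : ℤ, Odd (orderOf (t ^ k)) := fun k => hto.of_dvd_nat (orderOf_zpow_dvd' _ k)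
    obtain ⟨e, he, he1, hev⟩ := hconj c hcA hc1 (t ^ j * r ^ i)
    set m := t ^ j * r ^ (2 * i) * t ^ j with hm
    have hv : t ^ j * r ^ i * c * (t ^ j * r ^ i)⁻¹ = m * c := by
      calc t ^ j * r ^ i * c * (t ^ j * r ^ i)⁻¹
          = t ^ j * r ^ i * (c * r ^ (-i) * c⁻¹) * (c * t ^ (-j) * c⁻¹) * c := by group
        _ = m * c := by rw [cr, ct, neg_neg, neg_neg, hm]; group
    rw [hv] at hev
    have hcc : ∀ f ∈ A, f * c * f⁻¹ = c := fun f hf => by rw [hcomm f hf c hcA, mul_inv_cancel_right]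
    have hmfix : e * m * e⁻¹ = m := by
      have h1 : e * (m * c) * e⁻¹ = m * c := by rw [hev, mul_inv_cancel_right]
      rw [show e * (m * c) * e⁻¹ = (e * m * e⁻¹) * (e * c * e⁻¹) by group, hcc e he] at h1
      exact mul_right_cancel h1
    rw [hm, show e * (t ^ j * r ^ (2 * i) * t ^ j) * e⁻¹
      = (e * t ^ j * e⁻¹) * (e * r ^ (2 * i) * e⁻¹) * (e * t ^ j * e⁻¹) by group] at hmfix
    rcases hfourc e he he1 with rfl | rfl | rfl
    · rw [xt, xr] at hmfix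
      have h2 : r ^ (-(2 * i)) = r ^ (2 * i) := mul_left_cancel (mul_right_cancel hmfix)
      refine absurd (eq_one_of_odd (hoddr i) (eq_one_of_odd (y := r ^ i * r ^ i) ?_ ?_)) hi
      · rw [← zpow_add]; exact hoddr _
      · calc r ^ i * r ^ i * (r ^ i * r ^ i) = r ^ (2 * i) * r ^ (2 * i) := by rw [two_mul, zpow_add]
          _ = r ^ (-(2 * i)) * r ^ (2 * i) := by rw [h2]
          _ = 1 := by group
    · rw [yt, yr] at hmfix
      have hcnj : r ^ (2 * i) * t ^ (2 * j) * (r ^ (2 * i))⁻¹ = (t ^ (2 * j))⁻¹ := by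
        calc r ^ (2 * i) * t ^ (2 * j) * (r ^ (2 * i))⁻¹
            = t ^ (-j) * (t ^ j * r ^ (2 * i) * t ^ j) * t ^ j * (r ^ (2 * i))⁻¹ := by group
          _ = t ^ (-j) * (t ^ (-j) * r ^ (2 * i) * t ^ (-j)) * t ^ j * (r ^ (2 * i))⁻¹ := by rw [hmfix]
          _ = (t ^ (2 * j))⁻¹ := by group
      have h3 := odd_not_inverting (hoddr (2 * i)) hcnj
      refine absurd (eq_one_of_odd (hoddt j) (eq_one_of_odd (y := t ^ j * t ^ j) ?_ ?_)) hj
      · rw [← zpow_add]; exact hoddt _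
      · rw [← zpow_add, ← two_mul]; exact h3
    · rw [ct, cr] at hmfix
      calc t ^ (2 * j) * r ^ (2 * i) = t ^ j * (t ^ j * r ^ (2 * i) * t ^ j) * t ^ (-j) := by group
        _ = t ^ j * (t ^ (-j) * r ^ (-(2 * i)) * t ^ (-j)) * t ^ (-j) := by rw [hmfix]
        _ = r ^ (-(2 * i)) * t ^ (-(2 * j)) := by group
  have ht2 : t ^ (2 : ℤ) ≠ 1 := fun e => ht (eq_one_of_odd hto (by rw [← e, zpow_two]))
  have e1 := key 1 1 (by simpa using hr) (by simpa using ht)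
  have e2 := key (-1) 1 (by simpa using hr) (by simpa using ht)
  have e3 := key 1 2 (by simpa using hr) ht2
  refine hr (eq_one_of_odd hro (eq_one_of_odd (y := r * r) ?_ ?_))
  · rw [← pow_two]; exact hro.of_dvd_nat (orderOf_pow_dvd 2)
  · have e4 : t ^ (2 * (2 : ℤ)) * r ^ (2 * (1 : ℤ)) = r ^ (2 * (1 : ℤ)) * t ^ (-(2 * (2 : ℤ))) := by
      calc t ^ (2 * (2 : ℤ)) * r ^ (2 * (1 : ℤ))
          = t ^ (2 * (1 : ℤ)) * (t ^ (2 * (1 : ℤ)) * r ^ (2 * (1 : ℤ))) := by group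
        _ = t ^ (2 * (1 : ℤ)) * (r ^ (-(2 * (1 : ℤ))) * t ^ (-(2 * (1 : ℤ)))) := by rw [e1]
        _ = (t ^ (2 * (1 : ℤ)) * r ^ (2 * (-1 : ℤ))) * t ^ (-(2 * (1 : ℤ))) := by group
        _ = (r ^ (-(2 * (-1 : ℤ))) * t ^ (-(2 * (1 : ℤ)))) * t ^ (-(2 * (1 : ℤ))) := by rw [e2]
        _ = _ := by group
    rw [e3] at e4
    have e5 := mul_right_cancel e4
    calc r * r * (r * r) = r ^ (2 * (1 : ℤ)) * r ^ (2 * (1 : ℤ)) := by rw [mul_one, zpow_two]
      _ = r ^ (-(2 * (1 : ℤ))) * r ^ (2 * (1 : ℤ)) := by rw [e5]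
      _ = 1 := by group

end Cfsg.Agent.S3195
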