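import Cfsg.Statements.S3196
import Cfsg.Agent.Core.PCore
import Cfsg.Agent.Coprime.Tools

set_option autoImplicit false
open Cfsg

namespace Cfsg.Agent.S3196

open Subgroup

variable {G : Type*} [Group G] [Finite G] {p : ℕ}

/-- Two subgroups commute elementwise. -/
def Comm (X Y : Subgroup G) : Prop := ∀ x ∈ X, ∀ y ∈ Y, x * y = y * x

omit [Finite G] in
theorem Comm.symm {X Y : Subgroup G} (h : Comm X Y) : Comm Y X := fun y hy x hx => (h x hx y hy).symm

omit [Finite G] in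
theorem Comm.sup {X Y W : Subgroup G} (hX : Comm X W) (hY : Comm Y W) : Comm (X ⊔ Y) W := by
  have h : X ⊔ Y ≤ centralizer (W : Set G) :=
    sup_le (fun x hx => mem_centralizer_iff.2 fun w hw => (hX x hx w hw).symm)
      (fun y hy => mem_centralizer_iff.2 fun w hw => (hY y hy w hw).symm)
  exact fun x hx w hw => (mem_centralizer_iff.1 (h hx) w hw).symm

omit [Finite G] in
theorem Comm.mono {X Y W : Subgroup G} (h : Comm X W) (hle : Y ≤ X) : Comm Y W :=
  fun y hy w hw => h y (hle hy) w hw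

variable (hp : p.Prime) (K : Set (Subgroup G)) (hK : ∀ X ∈ K, Nat.card ↥X = p)

include hp hK in
theorem comm_self {X : Subgroup G} (hX : X ∈ K) : Comm X X := by
  have := Fact.mk hp
  have := isCyclic_of_prime_card (α := X) (hK X hX)
  intro x hx y hy
  exact congrArg Subtype.val ((IsCyclic.commGroup (α := X)).mul_comm ⟨x, hx⟩ ⟨y, hy⟩)

include hp hK in
theorem eq_of_le {X Y : Subgroup G} (hX : X ∈ K) (hY : Y ∈ K) (h : X ≤ Y) : X = Y :=
  eq_of_le_of_card_ge h (by rw [hK X hX, hK Y hY])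

include hp hK in
theorem inf_eq_bot {X Y : Subgroup G} (hX : X ∈ K) (hY : Y ∈ K) (hne : X ≠ Y) : X ⊓ Y = ⊥ := by
  rcases (Nat.dvd_prime hp).1 (hK X hX ▸ card_dvd_of_le (inf_le_left : X ⊓ Y ≤ X)) with e | e
  · exact card_eq_one.1 e
  · refine absurd (eq_of_le hp K hK hX hY (le_trans ?_ (inf_le_right : X ⊓ Y ≤ Y))) hne
    exact (eq_of_le_of_card_ge (inf_le_left : X ⊓ Y ≤ X) (by rw [e, hK X hX])).ge

include hp hK in
theorem card_line {X Y : Subgroup G} (hX : X ∈ K) (hY : Y ∈ K) (hne : X ≠ Y) (hXY : Comm X Y) :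
    Nat.card ↥(X ⊔ Y) = p * p := by
  have h := Coprime.card_sup_eq_mul (N := X) (A := Y) (fun y hy => centralizer_le_normalizer _
    (mem_centralizer_iff.2 fun x hx => hXY x hx y hy)) (inf_eq_bot hp K hK hX hY hne)
  rw [h, hK X hX, hK Y hY]

include hp hK in
theorem line_eq {X Y A B : Subgroup G} (hX : X ∈ K) (hY : Y ∈ K) (hne : X ≠ Y) (hXY : Comm X Y)
    (hA : A ∈ K) (hB : B ∈ K) (hAB : A ≠ B) (hAl : A ≤ X ⊔ Y) (hBl : B ≤ X ⊔ Y) : A ⊔ B = X ⊔ Y := by
  have hcomm : Comm (X ⊔ Y) (X ⊔ Y) := by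
    have hx : Comm (X ⊔ Y) X := (comm_self hp K hK hX).sup hXY.symm
    have hy : Comm (X ⊔ Y) Y := hXY.sup (comm_self hp K hK hY)
    exact (hx.symm.sup hy.symm)
  refine eq_of_le_of_card_ge (sup_le hAl hBl) ?_
  rw [card_line hp K hK hX hY hne hXY,
    card_line hp K hK hA hB hAB ((hcomm.mono hAl).symm.mono hBl).symm]

variable (ha : ∀ X ∈ K, ∀ Y ∈ K, X ≠ Y → (∀ x ∈ X, ∀ y ∈ Y, x * y = y * x) →
      ∀ Z : Subgroup G, Z ≤ X ⊔ Y → Nat.card ↥Z = p → Z ∈ K)
    (hb : ∀ X ∈ K, ∀ Y ∈ K, X ≠ Y → (∀ x ∈ X, ∀ y ∈ Y, x * y = y * x) →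
      ∀ W ∈ K, (X ⊔ Y) ⊓ Subgroup.centralizer (W : Set G) ≠ ⊥)

include hp hK ha hb in
theorem proj {X Y : Subgroup G} (hX : X ∈ K) (hY : Y ∈ K) (hne : X ≠ Y) (hXY : Comm X Y)
    {W : Subgroup G} (hW : W ∈ K) : ∃ Z ∈ K, Z ≤ X ⊔ Y ∧ Comm Z W := by
  have hcard := card_line hp K hK hX hY hne hXY
  have hdvd := card_dvd_of_le (inf_le_left : (X ⊔ Y) ⊓ centralizer (W : Set G) ≤ X ⊔ Y)
  rw [hcard, ← pow_two, Nat.dvd_prime_pow hp] at hdvd
  obtain ⟨j, -, hj⟩ := hdvd
  have hj0 : j ≠ 0 := fun e => hb X hX Y hY hne hXY W hW (card_eq_one.1 (by rw [hj, e, pow_zero]))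
  have := Fact.mk hp
  obtain ⟨c, hc⟩ := exists_prime_orderOf_dvd_card' p (hj ▸ dvd_pow_self p hj0)
  refine ⟨zpowers (c : G), ?_, zpowers_le.2 c.2.1, fun z hz w hw => ?_⟩
  · exact ha X hX Y hY hne hXY _ (zpowers_le.2 c.2.1) (by rw [Nat.card_zpowers, orderOf_coe, hc])
  · exact (mem_centralizer_iff.1 (zpowers_le.2 c.2.2 hz) w hw).symm

include hp hK in
theorem comm_of_two {X Y A B W : Subgroup G} (hX : X ∈ K) (hY : Y ∈ K) (hne : X ≠ Y) (hXY : Comm X Y)
    (hA : A ∈ K) (hB : B ∈ K) (hAB : A ≠ B) (hAl : A ≤ X ⊔ Y) (hBl : B ≤ X ⊔ Y)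
    (hAW : Comm A W) (hBW : Comm B W) : Comm (X ⊔ Y) W :=
  line_eq hp K hK hX hY hne hXY hA hB hAB hAl hBl ▸ hAW.sup hBW

include hp hK ha hb in
/-- A point whose perp contains the common perp of two non-commuting points of its perp is central. -/
theorem central_of_perp {U X W : Subgroup G} (hU : U ∈ K) (hX : X ∈ K) (hW : W ∈ K) (hXW : ¬ Comm X W)
    (hUX : Comm U X) (hUW : Comm U W)
    (hperp : ∀ S ∈ K, Comm S X → Comm S W → Comm U S) : ∀ S ∈ K, Comm U S := by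
  have hUX' : U ≠ X := fun e => hXW (e ▸ hUW)
  have hUW' : U ≠ W := fun e => hXW (e ▸ hUX).symm
  -- the perps of `X` and `W` lie in the perp of `U`
  have side : ∀ P Q : Subgroup G, P ∈ K → Q ∈ K → ¬ Comm P Q → Comm U P →
      (∀ S ∈ K, Comm S P → Comm S Q → Comm U S) → ∀ S ∈ K, Comm S P → Comm U S := by
    intro P Q hP hQ hPQ hUP hperp S hS hSP
    by_cases hSP' : S = P
    · exact hSP' ▸ hUP
    obtain ⟨T, hT, hTl, hTQ⟩ := proj hp K hK ha hb hP hS (Ne.symm hSP') hSP.symm hQ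
    have hTP : Comm T P := ((comm_self hp K hK hP).sup hSP).mono hTl
    have hne : P ≠ T := fun e => hPQ (e ▸ hTQ)
    exact ((comm_of_two hp K hK hP hS (Ne.symm hSP') hSP.symm hP hT hne le_sup_left hTl hUP.symm
      (hperp T hT hTP hTQ).symm).mono (Y := S) le_sup_right).symm
  have hXs := side X W hX hW hXW hUX hperp
  have hWs := side W X hW hX (fun h => hXW h.symm) hUW (fun S hS h1 h2 => hperp S hS h2 h1)
  intro S hS
  obtain ⟨M, hM, hMl, hMS⟩ := proj hp K hK ha hb hU hX hUX' hUX hS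
  by_cases hMU : M = U
  · exact hMU ▸ hMS
  have hUM : Comm U M := ((comm_self hp K hK hU).sup hUX.symm).mono hMl |>.symm
  have hXM : Comm X M := ((hUX).sup (comm_self hp K hK hX)).mono hMl |>.symm
  by_cases hSM : S = M
  · exact hSM ▸ hUM
  have key : ∀ N ∈ K, N ≤ S ⊔ M → N ≠ M → Comm U N → Comm U S := by
    intro N hN hNl hNM hUN
    exact ((comm_of_two hp K hK hS hM hSM hMS.symm hN hM hNM hNl le_sup_right hUN.symm hUM.symm).mono
      (Y := S) le_sup_left).symm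
  obtain ⟨N, hN, hNl, hNW⟩ := proj hp K hK ha hb hS hM hSM hMS.symm hW
  by_cases hNM : N = M
  · exfalso
    apply hXW
    exact ((comm_of_two hp K hK hU hX hUX' hUX hU hM (Ne.symm hMU) le_sup_left hMl hUW (hNM ▸ hNW)).mono
      (Y := X) le_sup_right)
  · exact key N hN hNl hNM (hWs N hN hNW)

include hp hK ha hb in
theorem exists_central (hKc : ∀ X ∈ K, ∀ g : G, X.map (MulAut.conj g).toMonoidHom ∈ K)
    (hex : ∃ X ∈ K, ∃ Y ∈ K, X ≠ Y ∧ ∀ x ∈ X, ∀ y ∈ Y, x * y = y * x) :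
    ∃ V ∈ K, ∀ W ∈ K, ∀ v ∈ V, ∀ w ∈ W, v * w = w * v := by
  obtain ⟨X₀, hX₀, P, hP, hne₀, hc₀⟩ := hex
  by_cases hall : ∀ W ∈ K, Comm P W
  · exact ⟨P, hP, hall⟩
  push Not at hall
  obtain ⟨W, hW, hPW⟩ := hall
  obtain ⟨R, hR, hRl, hRW⟩ := proj hp K hK ha hb hX₀ hP hne₀ hc₀ hW
  have hPR : P ≠ R := fun e => hPW (e ▸ hRW)
  have hcPR : Comm P R :=
    (((Comm.symm hc₀).symm).sup (comm_self hp K hK hP)).mono hRl |>.symm
  have hne : ∀ Z ∈ K, ∃ z, z ∈ Z ∧ z ≠ 1 := fun Z hZ => by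
    by_contra hno
    push Not at hno
    exact hp.ne_one (by rw [← hK Z hZ, (eq_bot_iff_forall Z).2 hno, card_bot])
  have hgen : ∀ Z ∈ K, ∀ z ∈ Z, z ≠ 1 → zpowers z = Z := fun Z hZ z hz h1 =>
    eq_of_le_of_card_ge (zpowers_le.2 hz) (by
      have hd : orderOf z ∣ p := hK Z hZ ▸ (orderOf_mk z hz ▸ orderOf_dvd_natCard (⟨z, hz⟩ : Z))
      rcases (Nat.dvd_prime hp).1 hd with e | e
      · exact absurd (orderOf_eq_one_iff.1 e) h1
      · rw [Nat.card_zpowers, e, hK Z hZ])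
  obtain ⟨x, hx, hx1⟩ := hne P hP
  obtain ⟨r, hr, hr1⟩ := hne R hR
  set y := x * r with hy
  have hy1 : y ≠ 1 := fun e => hPR (by
    rw [← hgen P hP x hx hx1, ← hgen R hR r hr hr1, show x = r⁻¹ from mul_eq_one_iff_eq_inv.1 e, zpowers_inv])
  have hcomm' : Comm (P ⊔ R) (P ⊔ R) :=
    ((comm_self hp K hK hP).sup hcPR.symm).symm.sup (hcPR.sup (comm_self hp K hK hR)).symm
  have hyl : zpowers y ≤ P ⊔ R := zpowers_le.2 (mul_mem (mem_sup_left hx) (mem_sup_right hr))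
  have hyK : zpowers y ∈ K := by
    refine ha P hP R hR hPR hcPR _ hyl ?_
    have hpp : ∀ Z ∈ K, ∀ z ∈ Z, z ^ p = 1 := fun Z hZ z hz => by
      rw [← hK Z hZ]; exact congrArg Subtype.val (pow_card_eq_one' (x := (⟨z, hz⟩ : Z)))
    have hyp : y ^ p = 1 := by
      rw [hy, Commute.mul_pow (hcPR x hx r hr), hpp P hP x hx, hpp R hR r hr, one_mul]
    rw [Nat.card_zpowers]
    rcases (Nat.dvd_prime hp).1 (orderOf_dvd_of_pow_eq_one hyp) with e | e
    · exact absurd (orderOf_eq_one_iff.1 e) hy1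
    · exact e
  set W' := W.map (MulAut.conj x).toMonoidHom with hW'
  have hW'K : W' ∈ K := hKc W hW x
  have hnW : W ≠ W' := by
    intro e
    apply hPW
    have hxN : x ∈ normalizer (W : Set G) := mem_normalizer_iff_map_conj_eq.2 e.symm
    have hPn : P ≤ normalizer (W : Set G) := hgen P hP x hx hx1 ▸ zpowers_le.2 hxN
    have := Fact.mk hp
    have hd : W ⊓ P = ⊥ := inf_eq_bot hp K hK hW hP fun e' => hPW (e' ▸ comm_self hp K hK hW)
    have hcard := Coprime.card_sup_eq_mul hPn hd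
    rw [hK W hW, hK P hP, ← pow_two] at hcard
    intro u hu w hw
    exact congrArg Subtype.val (IsPGroup.commutative_of_card_eq_prime_sq hcard
      (⟨u, mem_sup_right hu⟩ : ↥(W ⊔ P)) ⟨w, mem_sup_left hw⟩)
  have hW'eq : ∀ w ∈ W, x * w * x⁻¹ = y * w * y⁻¹ := fun w hw => by
    rw [hy, show x * r * w * (x * r)⁻¹ = x * (r * w * r⁻¹) * x⁻¹ by group, hRW r hr w hw, mul_inv_cancel_right]
  have hSconj : ∀ S : Subgroup G, ∀ g : G, (∀ s ∈ S, s * g = g * s) → Comm S W →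
      ∀ w ∈ W, ∀ s ∈ S, s * (g * w * g⁻¹) = (g * w * g⁻¹) * s := by
    intro S g hg hSW w hw s hs
    exact ((Commute.mul_right (Commute.mul_right (hg s hs) (hSW s hs w hw))
      (Commute.inv_right (hg s hs)))).eq
  have hSW' : ∀ S : Subgroup G, Comm S P → Comm S W → Comm S W' := by
    rintro S hSP hSW s hs _ ⟨w, hw, rfl⟩
    exact hSconj S x (fun s hs => hSP s hs x hx) hSW w hw s hs
  by_cases hWW' : Comm W W'
  · obtain ⟨U, hU, hUl, hUP⟩ := proj hp K hK ha hb hW hW'K hnW hWW' hP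
    refine ⟨U, hU, central_of_perp hp K hK ha hb hU hP hW hPW hUP ?_ fun S hS hSP hSW => ?_⟩
    · exact (((comm_self hp K hK hW).sup hWW'.symm).mono hUl)
    · exact (((hSW.symm).sup (hSW' S hSP hSW).symm).mono hUl)
  · refine ⟨R, hR, central_of_perp hp K hK ha hb hR hP hW hPW hcPR.symm hRW fun S hS hSP hSW => ?_⟩
    have hSne : S ≠ W := fun e => hPW (e ▸ hSP).symm
    obtain ⟨T, hT, hTl, hTy⟩ := proj hp K hK ha hb hS hW hSne hSW hyK
    have hTW : Comm T W := ((hSW).sup (comm_self hp K hK hW)).mono hTl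
    have hTW' : Comm T W' := by
      rintro t ht _ ⟨w, hw, rfl⟩
      show t * (x * w * x⁻¹) = (x * w * x⁻¹) * t
      rw [hW'eq w hw]
      exact hSconj T y (fun t ht => hTy t ht y (mem_zpowers y)) hTW w hw t ht
    by_cases hST : S = T
    · subst hST
      intro r' hr' s hs
      have hsr : s * r = r * s := by
        have h1 : Commute s y := hTy s hs y (mem_zpowers y)
        have h2 : Commute s x := hSP s hs x hx
        have h3 := (h2.inv_right).mul_right h1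
        rwa [hy, inv_mul_cancel_left] at h3
      have hle : R ≤ centralizer ({s} : Set G) :=
        hgen R hR r hr hr1 ▸ zpowers_le.2 (mem_centralizer_singleton_iff.2 hsr.symm)
      exact mem_centralizer_singleton_iff.1 (hle hr')
    · exfalso
      exact hWW' ((comm_of_two hp K hK hS hW hSne hSW hS hT hST le_sup_left hTl (hSW' S hSP hSW) hTW').mono
        (Y := W) le_sup_right)


/-- Let p be a prime and K a set of subgroups of order p of a finite group G, closed under conjugation, such that at least two distinct members of K commute elementwise, and whenever two distinct members X, Y of K commute: every subgroup of order p of the group XY they generate belongs to K, and every member W of K has centralizer meeting XY nontrivially. Then some member V of K commutes elementwise with every member of K and lies in O_p(G); in particular G is not simple. -/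
theorem result {G : Type*} [Group G] [Finite G]
    {p : ℕ} (hp : p.Prime) (K : Set (Subgroup G)) (hK : ∀ X ∈ K, Nat.card ↥X = p)
    (hKc : ∀ X ∈ K, ∀ g : G, X.map (MulAut.conj g).toMonoidHom ∈ K)
    (hex : ∃ X ∈ K, ∃ Y ∈ K, X ≠ Y ∧ ∀ x ∈ X, ∀ y ∈ Y, x * y = y * x)
    (ha : ∀ X ∈ K, ∀ Y ∈ K, X ≠ Y → (∀ x ∈ X, ∀ y ∈ Y, x * y = y * x) →
      ∀ Z : Subgroup G, Z ≤ X ⊔ Y → Nat.card ↥Z = p → Z ∈ K)
    (hb : ∀ X ∈ K, ∀ Y ∈ K, X ≠ Y → (∀ x ∈ X, ∀ y ∈ Y, x * y = y * x) →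
      ∀ W ∈ K, (X ⊔ Y) ⊓ Subgroup.centralizer (W : Set G) ≠ ⊥) :
    (∃ V ∈ K, (∀ W ∈ K, ∀ v ∈ V, ∀ w ∈ W, v * w = w * v) ∧ V ≤ Cfsg.pCore p G) ∧ ¬ IsSimpleGroup G := by
  classical
  have := Fact.mk hp
  obtain ⟨V, hV, hVc⟩ := exists_central hp K hK ha hb hKc hex
  have hVp : V ≤ Cfsg.pCore p G := by
    set N := normalClosure (V : Set G) with hN
    have hNK : ∀ g : G, V.map (MulAut.conj g).toMonoidHom ∈ K := hKc V hV
    have hcomm : ∀ a ∈ Group.conjugatesOfSet (V : Set G), ∀ b ∈ Group.conjugatesOfSet (V : Set G),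
        a * b = b * a := by
      intro a ha' b hb'
      obtain ⟨v, hv, hva⟩ := Group.mem_conjugatesOfSet_iff.1 ha'
      obtain ⟨u, hu, hub⟩ := Group.mem_conjugatesOfSet_iff.1 hb'
      obtain ⟨g, rfl⟩ := isConj_iff.1 hva
      obtain ⟨k, rfl⟩ := isConj_iff.1 hub
      have h1 : ((g⁻¹ * k) * u * (g⁻¹ * k)⁻¹) ∈ V.map (MulAut.conj (g⁻¹ * k)).toMonoidHom := ⟨u, hu, rfl⟩
      have h2 := hVc _ (hNK (g⁻¹ * k)) v hv _ h1
      calc g * v * g⁻¹ * (k * u * k⁻¹) = g * (v * ((g⁻¹ * k) * u * (g⁻¹ * k)⁻¹)) * g⁻¹ := by group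
        _ = g * (((g⁻¹ * k) * u * (g⁻¹ * k)⁻¹) * v) * g⁻¹ := by rw [h2]
        _ = k * u * k⁻¹ * (g * v * g⁻¹) := by group
    have hpow : ∀ x ∈ N, x ^ p = 1 ∧ ∀ y ∈ N, x * y = y * x := by
      have hNc : ∀ x ∈ N, ∀ y ∈ N, x * y = y * x := by
        have h1 : N ≤ centralizer (Group.conjugatesOfSet (V : Set G)) := by
          rw [hN, normalClosure, closure_le]
          exact fun a ha' => mem_centralizer_iff.2 fun b hb' => hcomm b hb' a ha'
        have h2 : N ≤ centralizer (N : Set G) := by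
          conv_rhs => rw [hN, normalClosure, centralizer_closure]
          exact h1
        exact fun x hx y hy => mem_centralizer_iff.1 (h2 hy) x hx
      intro x hx
      refine ⟨?_, hNc x hx⟩
      induction hx using closure_induction with
      | mem a ha' =>
        obtain ⟨v, hv, hva⟩ := Group.mem_conjugatesOfSet_iff.1 ha'
        obtain ⟨g, rfl⟩ := isConj_iff.1 hva
        rw [conj_pow, ← hK V hV, show v ^ Nat.card V = 1 from congrArg Subtype.val (pow_card_eq_one' (x := (⟨v, hv⟩ : V))),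
          mul_one, mul_inv_cancel]
      | one => exact one_pow p
      | mul a b ha' hb' iha ihb => rw [Commute.mul_pow (hNc a ha' b hb'), iha, ihb, one_mul]
      | inv a _ iha => rw [inv_pow, iha, inv_one]
    refine (le_normalClosure (H := V)).trans (Core.le_pCore fun x => ⟨1, Subtype.ext ?_⟩)
    rw [pow_one]
    exact (hpow x x.2).1
  refine ⟨⟨V, hV, hVc, hVp⟩, fun hs => ?_⟩
  obtain ⟨X, hX, Y, hY, hXY, -⟩ := hex
  have hbot : ∀ Z ∈ K, Z ≠ ⊥ := fun Z hZ e => hp.ne_one (by rw [← hK Z hZ, e, card_bot])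
  have htop : Cfsg.pCore p G = ⊤ := (hs.eq_bot_or_eq_top_of_normal _ inferInstance).resolve_left
    fun e => hbot V hV (le_bot_iff.1 (e ▸ hVp))
  have hG : IsPGroup p G := ((Core.pCore_isPGroup (p := p) (G := G)).of_equiv
    ((MulEquiv.subgroupCongr htop).trans Subgroup.topEquiv))
  have : Nontrivial G := hs.toNontrivial
  have hZ := hG.center_nontrivial
  have hcen : center G = ⊤ := (hs.eq_bot_or_eq_top_of_normal _ inferInstance).resolve_left
    ((Subgroup.nontrivial_iff_ne_bot _).1 hZ)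
  have hnorm : ∀ Z : Subgroup G, Z.Normal := fun Z => ⟨fun z hz g => by
    rw [mem_center_iff.1 (hcen ▸ mem_top z) g, mul_inv_cancel_right]; exact hz⟩
  exact hXY (((hs.eq_bot_or_eq_top_of_normal X (hnorm X)).resolve_left (hbot X hX)).trans
    ((hs.eq_bot_or_eq_top_of_normal Y (hnorm Y)).resolve_left (hbot Y hY)).symm)

end Cfsg.Agent.S3196
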