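import Cfsg.Statements.S3199
import Cfsg.Agent.SylJ2.Final
import Cfsg.Agent.SylJ2.Bridge
import Cfsg.Agent.SylJ2.JSide

set_option autoImplicit false
open Cfsg

namespace Cfsg.Agent.S3199

/-- Let G be a finite group with no normal subgroup of index 2 whose Sylow 2-subgroups are isomorphic to those of the Hall–Janko group J₂, and let z be an involution central in a Sylow 2-subgroup of G. Then the centralizer of z modulo its largest normal subgroup of odd order is isomorphic to the centralizer of a 2-central involution in J₂ or to the centralizer of a 2-central involution in the third Janko group J₃. -/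
theorem result {G : Type*} [Group G] [Finite G]
    (S : Sylow 2 G) (P : Sylow 2 Cfsg.Spor.J2) (hS : Nonempty (↥(S : Subgroup G) ≃* ↥(P : Subgroup Cfsg.Spor.J2)))
    (h2 : ∀ H : Subgroup G, H.Normal → H.index ≠ 2)
    (z : G) (hz : orderOf z = 2) (hzS : z ∈ (S : Subgroup G)) (hzc : ∀ s ∈ (S : Subgroup G), s * z = z * s) :
    (∃ (z' : Cfsg.Spor.J2) (Q : Sylow 2 Cfsg.Spor.J2), orderOf z' = 2 ∧ z' ∈ (Q : Subgroup Cfsg.Spor.J2) ∧
        (∀ s ∈ (Q : Subgroup Cfsg.Spor.J2), s * z' = z' * s) ∧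
        Nonempty ((↥(Subgroup.centralizer ({z} : Set G)) ⧸ Cfsg.oddCore ↥(Subgroup.centralizer ({z} : Set G))) ≃*
          ↥(Subgroup.centralizer ({z'} : Set Cfsg.Spor.J2)))) ∨
      (∃ (F : Type) (_ : Field F) (_ : Fintype F) (ω : F), Fintype.card F = 4 ∧ ω ^ 2 + ω + 1 = 0 ∧
        ∃ (z' : Cfsg.Spor.J3 F ω) (Q : Sylow 2 (Cfsg.Spor.J3 F ω)), orderOf z' = 2 ∧ z' ∈ (Q : Subgroup (Cfsg.Spor.J3 F ω)) ∧
          (∀ s ∈ (Q : Subgroup (Cfsg.Spor.J3 F ω)), s * z' = z' * s) ∧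
          Nonempty ((↥(Subgroup.centralizer ({z} : Set G)) ⧸ Cfsg.oddCore ↥(Subgroup.centralizer ({z} : Set G))) ≃*
            ↥(Subgroup.centralizer ({z'} : Set (Cfsg.Spor.J3 F ω))))) := by
  haveI : Fact (Nat.Prime 2) := ⟨Nat.prime_two⟩
  left
  obtain ⟨z', Q, h1, h3, h4, ⟨eC⟩⟩ := SylJ2.exists_centralizer
  refine ⟨z', Q, h1, h3, h4, ?_⟩
  obtain ⟨e⟩ := hS
  obtain ⟨eP⟩ := SylJ2.sylow_equiv P
  let L : SylJ2.Syl G := SylJ2.Syl.ofEquiv S (eP.trans e.symm)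
  obtain rfl : z = L.z := (L.central hzS fun s hs => (hzc s hs).symm).resolve_left fun h => by
    rw [h, orderOf_one] at hz
    exact absurd hz (by norm_num)
  set C := Subgroup.centralizer ({L.z} : Set G) with hC
  have hSC : (L.S : Subgroup G) ≤ C := fun s hs =>
    Subgroup.mem_centralizer_singleton_iff.2 (L.z_comm hs).symm
  let f := QuotientGroup.mk' (Cfsg.oddCore ↥C)
  let LC := L.restrict hSC
  have hinj : ∀ s ∈ (LC.S : Subgroup ↥C), f s = 1 → s = 1 := by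
    intro s hs hfs
    rw [QuotientGroup.mk'_apply, QuotientGroup.eq_one_iff] at hfs
    obtain ⟨k, hk⟩ := IsPGroup.iff_orderOf.1 LC.S.2 ⟨s, hs⟩
    rw [Subgroup.orderOf_mk] at hk
    exact orderOf_eq_one_iff.1 (Nat.eq_one_of_dvd_coprimes
      ((Nat.prime_two.coprime_iff_not_dvd.2 Core.not_dvd_card_pPrimeCore).pow_left k) hk.dvd
      (Subgroup.orderOf_dvd_natCard _ hfs))
  let LK := LC.map f (QuotientGroup.mk'_surjective _) hinj
  have hφ : ∀ c, ∀ hc : c < 128, LK.φ c = f ⟨L.φ c, hSC (L.mem hc)⟩ := fun c hc => by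
    show f (if h : c < 128 then ⟨L.φ c, hSC (L.mem h)⟩ else 1) = _
    rw [dif_pos hc]
  have hKz : LK.z = f ⟨L.z, hSC L.z_mem⟩ := hφ 16 (by norm_num)
  have hKq : LK.q = f ⟨L.q, hSC L.q_mem⟩ := hφ 15 (by norm_num)
  have hcent : ∀ g, g * LK.z = LK.z * g := fun g => by
    obtain ⟨g, rfl⟩ := QuotientGroup.mk'_surjective _ g
    rw [hKz, ← map_mul, ← map_mul]
    congr 1
    exact Subtype.ext (Subgroup.mem_centralizer_singleton_iff.1 g.2)
  have hm : ∃ g, g * LK.q * g⁻¹ ∈ (LK.S : Subgroup _) ∧ ¬ LK.QC (g * LK.q * g⁻¹) := by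
    obtain ⟨g, hgz, hgS, hgQ⟩ := L.moves h2
    set gc : ↥C := ⟨g, Subgroup.mem_centralizer_singleton_iff.2 hgz⟩
    set x : ↥C := gc * ⟨L.q, hSC L.q_mem⟩ * gc⁻¹ with hx
    have hxv : (x : G) = g * L.q * g⁻¹ := rfl
    have hxS : x ∈ (LC.S : Subgroup ↥C) := Subgroup.mem_subgroupOf.2 (hxv ▸ hgS)
    have e : f gc * LK.q * (f gc)⁻¹ = f x := by rw [hKq, hx, map_mul, map_mul, map_inv]
    refine ⟨f gc, ?_, ?_⟩
    · rw [e]
      exact ⟨x, hxS, rfl⟩
    · rw [e]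
      have key : ∀ y : G, ∀ hy : y ∈ (L.S : Subgroup G), f x = f ⟨y, hSC hy⟩ → (x : G) = y := fun y hy h => by
        have h1 := hinj (x * (⟨y, hSC hy⟩ : ↥C)⁻¹)
          (mul_mem hxS (inv_mem (Subgroup.mem_subgroupOf.2 hy)))
          (by rw [map_mul, map_inv, h, mul_inv_cancel])
        exact congrArg Subtype.val (mul_inv_eq_one.1 h1)
      rintro (h | h)
      · exact hgQ (Or.inl (key _ L.q_mem (h.trans hKq)))
      · refine hgQ (Or.inr (key _ (mul_mem L.z_mem L.q_mem) (h.trans ?_)))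
        rw [hKz, hKq, ← map_mul]
        rfl
  obtain ⟨eW⟩ := LK.equiv_W hcent Core.pPrimeCore_quotient_eq_bot hm
  exact ⟨eW.trans eC.symm⟩

end Cfsg.Agent.S3199
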