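import Cfsg.Statements.S3200
import Cfsg.Agent.Char.Integral
import Cfsg.Agent.Core.Hall
import Cfsg.Agent.Coprime.Hall

set_option autoImplicit false
open Cfsg

namespace Cfsg.Agent.S3200

open Subgroup
open scoped Pointwise

/-- An abelian subgroup of odd order whose index is a power of two. -/
def Good (H : Type*) [Group H] : Prop :=
  ∃ D : Subgroup H, IsMulCommutative D ∧ (Nat.card D).Coprime 2 ∧ ∃ k : ℕ, D.index = 2 ^ k

theorem good_of_sylow {H : Type*} [Group H] [Finite H] (S : Sylow 2 H) (C : Subgroup H)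
    (hC : IsMulCommutative ↥C) (hSC : Subgroup.IsComplement' (S : Subgroup H) C) : Good H := by
  obtain ⟨k, hk⟩ := IsPGroup.iff_card.1 S.2
  refine ⟨C, hC, ?_, k, ?_⟩
  · rw [← hSC.symm.index_eq_card]
    exact (Nat.prime_two.coprime_iff_not_dvd.2 S.not_dvd_index).symm
  · rw [hSC.index_eq_card, hk]

theorem sylow_of_good {H : Type*} [Group H] [Finite H] (h : Good H) :
    ∃ (P : Sylow 2 H) (D : Subgroup H), IsMulCommutative ↥D ∧ Subgroup.IsComplement' (P : Subgroup H) D := by
  obtain ⟨D, hD, hodd, k, hk⟩ := h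
  let P : Sylow 2 H := default
  obtain ⟨j, hj⟩ := IsPGroup.iff_card.1 P.2
  have hcop : (Nat.card P).Coprime (Nat.card D) := by rw [hj]; exact hodd.symm.pow_left j
  refine ⟨P, D, hD, isComplement'_of_coprime ?_ hcop⟩
  have h1 : Nat.card (P : Subgroup H) * Nat.card D ∣ Nat.card H :=
    hcop.mul_dvd_of_dvd_of_dvd (card_subgroup_dvd_card _) (card_subgroup_dvd_card _)
  refine Nat.dvd_antisymm h1 ?_
  rw [← D.card_mul_index, hk, mul_comm (Nat.card (P : Subgroup H))]
  refine Nat.mul_dvd_mul_left _ ?_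
  refine (Nat.Coprime.pow_left k (Nat.prime_two.coprime_iff_not_dvd.2 P.not_dvd_index)).dvd_of_dvd_mul_right ?_
  rw [(P : Subgroup H).card_mul_index, ← hk]
  exact D.index_dvd_card

theorem good_quotient {H : Type*} [Group H] [Finite H] (h : Good H) (N : Subgroup H) [N.Normal] :
    Good (H ⧸ N) := by
  obtain ⟨D, hD, hodd, k, hk⟩ := h
  refine ⟨D.map (QuotientGroup.mk' N), ?_, hodd.coprime_dvd_left (card_map_dvd _ _), ?_⟩
  · refine ⟨⟨fun u v => ?_⟩⟩
    obtain ⟨_, u, hu, rfl⟩ := u
    obtain ⟨_, v, hv, rfl⟩ := v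
    apply Subtype.ext
    simp only [Subgroup.coe_mul, ← map_mul]
    exact congrArg _ (congrArg Subtype.val (hD.is_comm.comm (⟨u, hu⟩ : D) ⟨v, hv⟩))
  · have h1 : (D.map (QuotientGroup.mk' N)).index ∣ D.index :=
      index_map_dvd D (QuotientGroup.mk'_surjective N)
    rw [hk, Nat.dvd_prime_pow Nat.prime_two] at h1
    obtain ⟨j, -, hj⟩ := h1
    exact ⟨j, hj⟩

theorem good_normal {H : Type*} [Group H] [Finite H] (h : Good H) (N : Subgroup H) [N.Normal] : Good ↥N := by
  obtain ⟨D, hD, hodd, k, hk⟩ := h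
  refine ⟨D.subgroupOf N, ?_, ?_, ?_⟩
  · refine ⟨⟨fun u v => Subtype.ext (Subtype.ext ?_)⟩⟩
    exact congrArg (fun w : D => (w : H))
      (hD.is_comm.comm (⟨_, mem_subgroupOf.1 u.2⟩ : D) ⟨_, mem_subgroupOf.1 v.2⟩)
  · refine hodd.coprime_dvd_left ?_
    rw [← card_map_of_injective N.subtype_injective, subgroupOf_map_subtype]
    exact card_dvd_of_le inf_le_left
  · have h1 : D.relIndex N ∣ D.index := by
      have e1 := Coprime.card_mul_relIndex_of_le (inf_le_right : D ⊓ N ≤ N)
      have e2 := Coprime.card_mul_relIndex_of_le (le_sup_left : D ≤ D ⊔ N)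
      have e3 := Core.card_sup_mul_card_inf D N
      rw [inf_relIndex_right] at e1
      have e4 : D.relIndex N = D.relIndex (D ⊔ N) := by
        apply Nat.eq_of_mul_eq_mul_left (Nat.mul_pos (Nat.card_pos (α := D)) (Nat.card_pos (α := ↥(D ⊓ N))))
        rw [mul_assoc, e1, ← e3, ← e2]
        ring
      rw [e4]
      exact relIndex_dvd_index_of_le le_sup_left
    rw [hk, Nat.dvd_prime_pow Nat.prime_two] at h1
    obtain ⟨j, -, hj⟩ := h1
    exact ⟨j, hj⟩

theorem isSolvable_of_good.{v} : ∀ (m : ℕ) (H : Type v) [Group H] [Finite H], Nat.card H = m → Good H →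
    Group.IsSolvable H := by
  intro m
  induction m using Nat.strong_induction_on with
  | _ m ih =>
  intro H _ _ hm hH
  rcases subsingleton_or_nontrivial H with hs | hs
  · infer_instance
  by_cases hsimple : IsSimpleGroup H
  · obtain ⟨D, hD, hodd, k, hk⟩ := hH
    by_cases hbot : D = ⊥
    · rw [hbot, index_bot] at hk
      have := Fact.mk Nat.prime_two
      have : Group.IsNilpotent H := (IsPGroup.of_card (p := 2) hk).isNilpotent
      infer_instance
    · obtain ⟨g, hgD, hg⟩ := D.ne_bot_iff_exists_ne_one.1 hbot |> fun ⟨g, hg⟩ =>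
        (⟨g.1, g.2, fun e => hg (Subtype.ext e)⟩ : ∃ g : H, g ∈ D ∧ g ≠ 1)
      have hle : D ≤ centralizer ({g} : Set H) := fun d hd => mem_centralizer_singleton_iff.2
        (congrArg Subtype.val (hD.is_comm.comm (⟨d, hd⟩ : D) ⟨g, hgD⟩))
      have h1 := index_dvd_of_le hle
      rw [hk, Nat.dvd_prime_pow Nat.prime_two] at h1
      obtain ⟨j, -, hj⟩ := h1
      have := Fact.mk (Char.prime_card_of_class_prime_pow 2 j Nat.prime_two g hg hj)
      have := isCyclic_of_prime_card (α := H) rfl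
      infer_instance
  · obtain ⟨N, hN, hNb, hNt⟩ : ∃ N : Subgroup H, N.Normal ∧ N ≠ ⊥ ∧ N ≠ ⊤ := by
      by_contra hno
      push Not at hno
      exact hsimple ⟨fun N hN => or_iff_not_imp_left.2 (hno N hN)⟩
    have : Group.IsSolvable N := ih (Nat.card N) (hm ▸ lt_of_le_of_ne (card_le_card_group N)
      (fun e => hNt ((card_eq_iff_eq_top N).1 e))) N rfl (good_normal hH N)
    have : Group.IsSolvable (H ⧸ N) := by
      refine ih (Nat.card (H ⧸ N)) ?_ (H ⧸ N) rfl (good_quotient hH N)
      rw [← hm, ← N.index_eq_card, ← N.card_mul_index]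
      exact lt_mul_left (Nat.pos_of_ne_zero index_ne_zero_of_finite) ((one_lt_card_iff_ne_bot N).2 hNb)
    exact Group.isSolvable_of_ker_le_range N.subtype (QuotientGroup.mk' N)
      (by rw [QuotientGroup.ker_mk', range_subtype])

theorem exists_split {H : Type*} [Group H] [Finite H] :
    ∃ a b : ℕ, Nat.card H = b * 2 ^ a ∧ b.Coprime 2 := by
  obtain ⟨P⟩ : Nonempty (Sylow 2 H) := inferInstance
  obtain ⟨j, hj⟩ := IsPGroup.iff_card.1 P.2
  exact ⟨j, (P : Subgroup H).index, by rw [mul_comm, ← hj, (P : Subgroup H).card_mul_index],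
    (Nat.prime_two.coprime_iff_not_dvd.2 P.not_dvd_index).symm⟩

theorem good_subgroup {H : Type*} [Group H] [Finite H] (hsol : Group.IsSolvable H) (h : Good H)
    (L : Subgroup H) : Good ↥L := by
  have : Fact (Nat.Prime 2) := ⟨Nat.prime_two⟩
  obtain ⟨D, hD, hodd, k, hk⟩ := h
  obtain ⟨a, b, hab, hb⟩ := exists_split (H := L)
  obtain ⟨X, hX⟩ := Core.exists_hall (G := L) hab (hb.pow_right a)
  have hmap : Nat.card (X.map L.subtype) = b := by rw [card_map_of_injective L.subtype_injective, hX]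
  obtain ⟨g, hg⟩ := Core.exists_le_conj_hall (G := H) (m := Nat.card D) (n := 2 ^ k)
    (by rw [← hk, D.card_mul_index]) (hodd.pow_right k) (H := D) rfl (K := X.map L.subtype)
    (by rw [hmap]; exact hb.pow_right k)
  refine ⟨X, ⟨⟨fun u v => ?_⟩⟩, hX ▸ hb, a, ?_⟩
  · obtain ⟨d, hd, hdu⟩ := hg ⟨_, u.2, rfl⟩
    obtain ⟨e, he, hev⟩ := hg ⟨_, v.2, rfl⟩
    have hde : d * e = e * d := congrArg Subtype.val (hD.is_comm.comm (⟨d, hd⟩ : D) ⟨e, he⟩)
    apply Subtype.ext; apply Subtype.ext
    simp only [Subgroup.coe_mul]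
    calc ((u : L) : H) * ((v : L) : H) = (MulAut.conj g) d * (MulAut.conj g) e := by
          rw [show (MulAut.conj g) d = ((u : L) : H) from hdu, show (MulAut.conj g) e = ((v : L) : H) from hev]
      _ = (MulAut.conj g) e * (MulAut.conj g) d := by rw [← map_mul, ← map_mul, hde]
      _ = _ := by rw [show (MulAut.conj g) d = ((u : L) : H) from hdu, show (MulAut.conj g) e = ((v : L) : H) from hev]
  · have h2 := X.card_mul_index
    rw [hX, hab] at h2
    exact Nat.eq_of_mul_eq_mul_left (Nat.pos_of_ne_zero fun e => by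
      rw [e] at hb; exact absurd hb (by decide)) h2


/-- Let H be a finite group in which a Sylow 2-subgroup has an abelian complement (an abelian subgroup meeting it trivially whose product with it is all of H). Then H is solvable, and every subgroup and every quotient group of H again has a Sylow 2-subgroup with an abelian complement. -/
theorem result {H : Type*} [Group H] [Finite H]
    (S : Sylow 2 H) (C : Subgroup H) (hC : IsMulCommutative ↥C) (hSC : Subgroup.IsComplement' (S : Subgroup H) C) :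
    Group.IsSolvable H ∧
    (∀ L : Subgroup H, ∃ (P : Sylow 2 ↥L) (D : Subgroup ↥L), IsMulCommutative ↥D ∧ Subgroup.IsComplement' (P : Subgroup ↥L) D) ∧
    (∀ (N : Subgroup H) [N.Normal], ∃ (P : Sylow 2 (H ⧸ N)) (D : Subgroup (H ⧸ N)),
      IsMulCommutative ↥D ∧ Subgroup.IsComplement' (P : Subgroup (H ⧸ N)) D) := by
  have hG := good_of_sylow S C hC hSC
  have hsol : Group.IsSolvable H := isSolvable_of_good _ H rfl hG
  refine ⟨hsol, fun L => sylow_of_good (good_subgroup hsol hG L), fun N _ => sylow_of_good (good_quotient hG N)⟩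

end Cfsg.Agent.S3200
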