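import Mathlib
import Cfsg.Statements.S3201
import Cfsg.Agent.QuatCenter.Basic

set_option autoImplicit false
open Cfsg

namespace Cfsg.Agent.S3201

/-- Let S be a finite 2-group whose centre Z(S) has n ≥ 2 distinct maximal subgroups C₁, …, Cₙ with trivial intersection such that each quotient S/Cᵢ is a non-abelian group with exactly one involution (a generalized quaternion group). Then S is the internal direct product of an elementary abelian subgroup and a non-abelian subgroup with exactly one involution. -/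
theorem result {S : Type*} [Group S] [Finite S]
    (hS : IsPGroup 2 S) (n : ℕ) (hn : 2 ≤ n) (C : Fin n → Subgroup ↥(Subgroup.center S))
    (hCmax : ∀ i, IsCoatom (C i)) (hCinj : Function.Injective C) (hCint : ⨅ i, C i = ⊥)
    (hCq : ∀ i, ∃ (_ : ((C i).map (Subgroup.center S).subtype).Normal),
      ¬ IsMulCommutative (S ⧸ (C i).map (Subgroup.center S).subtype) ∧
      ∃! x : S ⧸ (C i).map (Subgroup.center S).subtype, orderOf x = 2) :
    ∃ E Q : Subgroup S, Cfsg.IsInternalDirectProduct E Q ⊤ ∧ Cfsg.IsElementaryAbelian 2 E ∧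
      ¬ IsMulCommutative ↥Q ∧ ∃! x : ↥Q, orderOf x = 2 := by
  choose hN hna hu using hCq
  haveI := hN
  obtain ⟨Q, hQ1, hQ2⟩ := Cfsg.Agent.QuatCenter.exists_complement hS C ⟨0, by omega⟩ hCmax hCint
    (fun i => ⟨hna i, hu i⟩)
  set D := (C ⟨0, by omega⟩).map (Subgroup.center S).subtype with hD
  have hDZ : D ≤ Subgroup.center S := Subgroup.map_subtype_le _
  have hbij : Function.Bijective ((QuotientGroup.mk' D).comp Q.subtype) := by
    refine ⟨(injective_iff_map_eq_one _).2 fun x hx => ?_, fun p => ?_⟩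
    · have : (x : S) ∈ Q ⊓ D := ⟨x.2, (QuotientGroup.eq_one_iff _).1 hx⟩
      rw [hQ1, Subgroup.mem_bot] at this
      exact Subtype.ext this
    · obtain ⟨g, rfl⟩ := QuotientGroup.mk_surjective p
      have hg : g ∈ D ⊔ Q := hQ2 ▸ Subgroup.mem_top g
      obtain ⟨d, hd, q, hq', rfl⟩ := Subgroup.mem_sup_of_normal_left.1 hg
      refine ⟨⟨q, hq'⟩, ?_⟩
      show (QuotientGroup.mk' D) q = (QuotientGroup.mk' D) (d * q)
      rw [map_mul, show (QuotientGroup.mk' D) d = 1 from (QuotientGroup.eq_one_iff d).2 hd, one_mul]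
  let e : ↥Q ≃* S ⧸ D := MulEquiv.ofBijective _ hbij
  refine ⟨D, Q, ⟨le_top, le_top, fun a ha b _ => ((Subgroup.mem_center_iff.1 (hDZ ha)) b).symm, ?_, hQ2⟩,
    ⟨⟨⟨fun a b => Subtype.ext ((Subgroup.mem_center_iff.1 (hDZ b.2)) a.1)⟩⟩, ?_⟩, fun hc => hna ⟨0, by omega⟩ ?_, ?_⟩
  · rw [inf_comm]; exact hQ1
  · rintro _ ⟨z, -, rfl⟩
    have : z ^ 2 = 1 := by
      rw [← Subgroup.mem_bot, ← hCint, Subgroup.mem_iInf]
      exact fun i => Subgroup.sq_mem_of_index_two (Cfsg.Agent.QuatCenter.index_two hS (C i) (hCmax i)) z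
    rw [← map_pow, this, map_one]
  · exact ⟨⟨fun p q => e.symm.injective (by rw [map_mul, map_mul]; exact hc.is_comm.comm _ _)⟩⟩
  · obtain ⟨u, hu1, hu2⟩ := hu ⟨0, by omega⟩
    exact ⟨e.symm u, (MulEquiv.orderOf_eq e.symm u).trans hu1,
      fun y hy => e.injective ((hu2 _ ((MulEquiv.orderOf_eq e y).trans hy)).trans (e.apply_symm_apply u).symm)⟩

end Cfsg.Agent.S3201
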