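import Cfsg.Statements.S3203
import Mathlib

set_option autoImplicit false
open Cfsg

namespace Cfsg.Agent.S3203

open Subgroup

open scoped Pointwise

variable {G : Type*} [Group G] [Finite G]

theorem ea_map_conj {p : ℕ} (g : G) {E : Subgroup G} (hE : Cfsg.IsElementaryAbelian p E) :
    Cfsg.IsElementaryAbelian p (E.map (MulAut.conj g).toMonoidHom) := by
  have := hE.1
  refine ⟨inferInstance, ?_⟩
  rintro _ ⟨e, he, rfl⟩
  rw [← map_pow, hE.2 e he, map_one]

theorem map_conj_conj (g h : G) (E : Subgroup G) :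
    (E.map (MulAut.conj g).toMonoidHom).map (MulAut.conj h).toMonoidHom =
      E.map (MulAut.conj (h * g)).toMonoidHom := by
  rw [Subgroup.map_map]
  congr 1
  ext x
  simp [mul_assoc]

/-- A conjugate inside `S` of a maximal elementary abelian subgroup of `S` normalized by `S` is again maximal. -/
theorem conj_max {p : ℕ} [Fact p.Prime] (S : Sylow p G) {A' : Subgroup G} (hn : (S : Subgroup G) ≤ normalizer (A' : Set G))
    (hmax : ∀ E ≤ (S : Subgroup G), Cfsg.IsElementaryAbelian p E → A' ≤ E → E = A') (g : G)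
    {E : Subgroup G} (hES : E ≤ (S : Subgroup G)) (hE : Cfsg.IsElementaryAbelian p E)
    (hgE : A'.map (MulAut.conj g).toMonoidHom ≤ E) : A'.map (MulAut.conj g).toMonoidHom = E := by
  set E₁ := E.map (MulAut.conj g⁻¹).toMonoidHom with hE₁
  have hE1 := ea_map_conj g⁻¹ hE
  have hAE : A' ≤ E₁ := by
    intro a ha
    exact ⟨g * a * g⁻¹, hgE ⟨a, ha, rfl⟩, by simp [mul_assoc]⟩
  have hEN : E₁ ≤ normalizer (A' : Set G) := by
    refine le_trans ?_ (Subgroup.centralizer_le_normalizer _)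
    intro e he
    rw [Subgroup.mem_centralizer_iff]
    intro a ha
    exact congrArg Subtype.val (hE1.1.is_comm.comm (⟨a, hAE ha⟩ : E₁) ⟨e, he⟩)
  have hp1 : IsPGroup p E₁ := (S.2.to_le hES).map _
  obtain ⟨R, hR⟩ := (hp1.comap_subtype (K := normalizer (A' : Set G))).exists_le_sylow
  obtain ⟨k, hk⟩ := MulAction.exists_smul_eq (normalizer (A' : Set G)) R (S.subtype hn)
  have hle : E₁.map (MulAut.conj (k : G)).toMonoidHom ≤ (S : Subgroup G) := by
    rintro _ ⟨e, he, rfl⟩
    have h1 : k * ⟨e, hEN he⟩ * k⁻¹ ∈ (S.subtype hn : Subgroup (normalizer (A' : Set G))) := by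
      rw [← hk, Sylow.coe_subgroup_smul, Subgroup.mem_pointwise_smul_iff_inv_smul_mem]
      have := hR (show (⟨e, hEN he⟩ : normalizer (A' : Set G)) ∈ E₁.subgroupOf _ from he)
      simpa [MulAut.smul_def, mul_assoc] using this
    rw [Sylow.coe_subtype, Subgroup.mem_subgroupOf] at h1
    exact h1
  have hfix : A'.map (MulAut.conj (k : G)).toMonoidHom = A' :=
    Subgroup.mem_normalizer_iff_map_conj_eq.1 k.2
  have h2 := hmax _ hle (ea_map_conj _ hE1) (by
    refine hfix.ge.trans ?_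
    exact Subgroup.map_mono hAE)
  refine le_antisymm hgE ?_
  refine le_of_eq ?_
  have h3 : E₁ = A' := by
    apply Subgroup.map_injective (f := (MulAut.conj (k : G)).toMonoidHom) (MulAut.conj (k : G)).injective
    exact h2.trans hfix.symm
  rw [← h3, hE₁, map_conj_conj, mul_inv_cancel, map_one]
  exact (Subgroup.map_id E).symm

theorem not_swap {p : ℕ} [Fact p.Prime] (S : Sylow p G) {X Y : Subgroup G}
    (hX : (S : Subgroup G) ≤ normalizer (X : Set G)) (hY : (S : Subgroup G) ≤ normalizer (Y : Set G))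
    (hp : p = 2) (hne : X ≠ Y)
    (hperm : ∀ h ∈ normalizer ((S : Subgroup G) : Set G),
      (X.map (MulAut.conj h).toMonoidHom = X ∨ X.map (MulAut.conj h).toMonoidHom = Y) ∧
      (Y.map (MulAut.conj h).toMonoidHom = X ∨ Y.map (MulAut.conj h).toMonoidHom = Y))
    (g : G) (hg : X.map (MulAut.conj g).toMonoidHom = Y) : False := by
  have hgS : ((g • S : Sylow p G) : Subgroup G) ≤ normalizer (Y : Set G) := by
    rw [← hg, Sylow.coe_subgroup_smul]
    intro s hs
    rw [Subgroup.mem_pointwise_smul_iff_inv_smul_mem] at hs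
    apply Subgroup.le_normalizer_map (MulAut.conj g).toMonoidHom
    exact ⟨g⁻¹ * s * g, hX (by simpa [MulAut.smul_def] using hs), by simp [mul_assoc]⟩
  obtain ⟨n, hn⟩ := MulAction.exists_smul_eq (normalizer (Y : Set G)) ((g • S).subtype hgS) (S.subtype hY)
  rw [Sylow.smul_subtype] at hn
  have hn' := Sylow.subtype_injective hn
  change (n : G) • g • S = S at hn'
  rw [smul_smul, Sylow.smul_eq_iff_mem_normalizer] at hn'
  set h := (n : G) * g with hh
  have hXY : X.map (MulAut.conj h).toMonoidHom = Y := by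
    rw [hh, ← map_conj_conj, hg]
    exact Subgroup.mem_normalizer_iff_map_conj_eq.1 n.2
  set a := (orderOf h).factorization p
  have hpa : h ^ (orderOf h / p ^ a) ∈ (S : Subgroup G) := by
    have hN : h ^ (orderOf h / p ^ a) ∈ normalizer ((S : Subgroup G) : Set G) := pow_mem hn' _
    have hpg : IsPGroup p (zpowers (h ^ (orderOf h / p ^ a))) := by
      refine IsPGroup.of_card (n := a) ?_
      rw [Nat.card_zpowers, orderOf_pow_of_dvd (Nat.div_ne_zero_iff_of_dvd (Nat.ordProj_dvd _ _) |>.2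
        ⟨(orderOf_pos h).ne', pow_ne_zero _ (Fact.out : p.Prime).ne_zero⟩)
        (Nat.div_dvd_of_dvd (Nat.ordProj_dvd _ _)),
        Nat.div_div_self (Nat.ordProj_dvd _ _) (orderOf_pos h).ne']
    have hsup := hpg.to_sup_of_normal_right' S.2 (zpowers_le.2 hN)
    have := S.3 hsup le_sup_right
    exact this ▸ Subgroup.mem_sup_left (mem_zpowers _)
  have hodd : Odd (orderOf h / p ^ a) := by
    subst hp
    exact Nat.coprime_two_left.1 (Nat.coprime_ordCompl Nat.prime_two (orderOf_pos h).ne')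
  have hYX : Y.map (MulAut.conj h).toMonoidHom = X := by
    refine (hperm h hn').2.resolve_right fun hYY => hne ?_
    exact Subgroup.map_injective (f := (MulAut.conj h).toMonoidHom) (MulAut.conj h).injective
      (hXY.trans hYY.symm)
  have hpow : ∀ i : ℕ, X.map (MulAut.conj (h ^ (2 * i + 1))).toMonoidHom = Y := by
    intro i
    induction i with
    | zero => rwa [pow_one]
    | succ i ih =>
      rw [show 2 * (i + 1) + 1 = 1 + (1 + (2 * i + 1)) by ring, pow_add, pow_add, pow_one,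
        ← map_conj_conj (h * h ^ (2 * i + 1)) h, ← map_conj_conj (h ^ (2 * i + 1)) h, ih, hYX, hXY]
  obtain ⟨i, hi⟩ := hodd
  rw [hi] at hpa
  exact hne (((Subgroup.mem_normalizer_iff_map_conj_eq.1 (hX hpa)).symm.trans (hpow i)))


/-- Let S be a Sylow 2-subgroup of a finite group G having exactly two subgroups A ≠ B that are maximal among its elementary abelian subgroups, with S = AB. Then A and B are each weakly closed in S with respect to G, and the normalizer of S normalizes both A and B. -/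
theorem result {G : Type*} [Group G] [Finite G] (S : Sylow 2 G)
    (A B : Subgroup ↥(S : Subgroup G)) (hAB : A ≠ B)
    (hA : Cfsg.IsElementaryAbelian 2 A ∧ ∀ C : Subgroup ↥(S : Subgroup G), Cfsg.IsElementaryAbelian 2 C → A ≤ C → C = A)
    (hB : Cfsg.IsElementaryAbelian 2 B ∧ ∀ C : Subgroup ↥(S : Subgroup G), Cfsg.IsElementaryAbelian 2 C → B ≤ C → C = B)
    (honly : ∀ C : Subgroup ↥(S : Subgroup G), Cfsg.IsElementaryAbelian 2 C →
      (∀ D : Subgroup ↥(S : Subgroup G), Cfsg.IsElementaryAbelian 2 D → C ≤ D → D = C) → C = A ∨ C = B)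
    (hprod : ∀ s : ↥(S : Subgroup G), ∃ a ∈ A, ∃ b ∈ B, a * b = s)
    (A' B' : Subgroup G) (hA' : A' = A.map (S : Subgroup G).subtype) (hB' : B' = B.map (S : Subgroup G).subtype) :
    Cfsg.IsWeaklyClosed A' (S : Subgroup G) ∧ Cfsg.IsWeaklyClosed B' (S : Subgroup G) ∧
      Subgroup.normalizer ((S : Subgroup G) : Set G) ≤ Subgroup.normalizer (A' : Set G) ⊓ Subgroup.normalizer (B' : Set G) := by
  classical
  have : Fact (Nat.Prime 2) := ⟨Nat.prime_two⟩
  subst hA' hB'
  set A' := A.map (S : Subgroup G).subtype with hA'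
  set B' := B.map (S : Subgroup G).subtype with hB'
  have hAS : A' ≤ (S : Subgroup G) := Subgroup.map_subtype_le _
  have hBS : B' ≤ (S : Subgroup G) := Subgroup.map_subtype_le _
  have hinj := (S : Subgroup G).subtype_injective
  have hmax' : ∀ (X : Subgroup ↥(S : Subgroup G)),
      (∀ C : Subgroup ↥(S : Subgroup G), Cfsg.IsElementaryAbelian 2 C → X ≤ C → C = X) →
      ∀ E ≤ (S : Subgroup G), Cfsg.IsElementaryAbelian 2 E →
        X.map (S : Subgroup G).subtype ≤ E → E = X.map (S : Subgroup G).subtype := by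
    intro X hX E hES hE hle
    have hE' : Cfsg.IsElementaryAbelian 2 (E.subgroupOf (S : Subgroup G)) := by
      refine ⟨⟨⟨fun a b => Subtype.ext (Subtype.ext ?_)⟩⟩, fun a ha => Subtype.ext (hE.2 _ ha)⟩
      simpa using congrArg Subtype.val (hE.1.is_comm.comm (⟨_, a.2⟩ : E) ⟨_, b.2⟩)
    have h1 := hX _ hE' (fun x hx => hle ⟨x, hx, rfl⟩)
    rw [← h1, Subgroup.subgroupOf_map_subtype, inf_of_le_left hES]
  have hmapea : ∀ (X : Subgroup ↥(S : Subgroup G)), Cfsg.IsElementaryAbelian 2 X →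
      Cfsg.IsElementaryAbelian 2 (X.map (S : Subgroup G).subtype) := by
    intro X hX
    have := hX.1
    refine ⟨inferInstance, ?_⟩
    rintro _ ⟨e, he, rfl⟩
    rw [← map_pow, hX.2 e he, map_one]
  have hAe := hmapea A hA.1
  have hBe := hmapea B hB.1
  have hmaxA := hmax' A hA.2
  have hmaxB := hmax' B hB.2
  have honly' : ∀ E ≤ (S : Subgroup G), Cfsg.IsElementaryAbelian 2 E →
      (∀ F ≤ (S : Subgroup G), Cfsg.IsElementaryAbelian 2 F → E ≤ F → F = E) → E = A' ∨ E = B' := by
    intro E hES hE hm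
    have hE' : Cfsg.IsElementaryAbelian 2 (E.subgroupOf (S : Subgroup G)) := by
      refine ⟨⟨⟨fun a b => Subtype.ext (Subtype.ext ?_)⟩⟩, fun a ha => Subtype.ext (hE.2 _ ha)⟩
      simpa using congrArg Subtype.val (hE.1.is_comm.comm (⟨_, a.2⟩ : E) ⟨_, b.2⟩)
    refine (honly _ hE' fun D hD hle => ?_).imp (fun h => ?_) (fun h => ?_)
    · apply Subgroup.map_injective hinj
      rw [Subgroup.subgroupOf_map_subtype, inf_of_le_left hES]
      refine hm _ (Subgroup.map_subtype_le _) (hmapea D hD) ?_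
      have := Subgroup.map_mono (f := (S : Subgroup G).subtype) hle
      rwa [Subgroup.subgroupOf_map_subtype, inf_of_le_left hES] at this
    · rw [hA', ← h, Subgroup.subgroupOf_map_subtype, inf_of_le_left hES]
    · rw [hB', ← h, Subgroup.subgroupOf_map_subtype, inf_of_le_left hES]
  -- `A'` and `B'` are normal in `S`
  have hnorm : ∀ (X Y : Subgroup G), X ≤ (S : Subgroup G) → Cfsg.IsElementaryAbelian 2 X →
      (∀ E ≤ (S : Subgroup G), Cfsg.IsElementaryAbelian 2 E → X ≤ E → E = X) → X ≠ Y →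
      (∀ s ∈ (S : Subgroup G), ∃ a ∈ X, ∃ b ∈ Y, a * b = s) →
      (∀ E ≤ (S : Subgroup G), Cfsg.IsElementaryAbelian 2 E →
        (∀ F ≤ (S : Subgroup G), Cfsg.IsElementaryAbelian 2 F → E ≤ F → F = E) → E = X ∨ E = Y) →
      (S : Subgroup G) ≤ normalizer (X : Set G) := by
    intro X Y hXS hXe hXm hne hpr hon s hs
    apply Subgroup.mem_normalizer_iff_map_conj_eq.2
    have hsS : ∀ Z ≤ (S : Subgroup G), ∀ t ∈ (S : Subgroup G),
        Z.map (MulAut.conj t).toMonoidHom ≤ (S : Subgroup G) := by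
      rintro Z hZ t ht _ ⟨z, hz, rfl⟩
      exact mul_mem (mul_mem ht (hZ hz)) (inv_mem ht)
    refine (hon _ (hsS X hXS s hs) (ea_map_conj s hXe) fun F hFS hF hle => ?_).resolve_right
      fun hY => hne ?_
    · have h1 := hXm _ (hsS F hFS s⁻¹ (inv_mem hs)) (ea_map_conj s⁻¹ hF) (fun x hx =>
        ⟨s * x * s⁻¹, hle ⟨x, hx, rfl⟩, by simp [mul_assoc]⟩)
      rw [← h1, map_conj_conj, mul_inv_cancel, map_one]
      exact (Subgroup.map_id F).symm
    · obtain ⟨a, ha, b, hb, hab⟩ := hpr s⁻¹ (inv_mem hs)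
      rw [← hY] at hb
      obtain ⟨c, hc, rfl⟩ := hb
      have hs2 : s = a⁻¹ * c⁻¹ := by
        have h2 : a * (s * c * s⁻¹) = s⁻¹ := hab
        have h3 : a * s * c = 1 := by
          rw [show a * s * c = a * (s * c * s⁻¹) * s by group, h2, inv_mul_cancel]
        rw [show s = a⁻¹ * (a * s * c) * c⁻¹ by group, h3, mul_one]
      refine Eq.trans ?_ hY
      exact (Subgroup.mem_normalizer_iff_map_conj_eq.1
        (Subgroup.le_normalizer (hs2 ▸ mul_mem (inv_mem ha) (inv_mem hc)))).symm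
  have hne' : A' ≠ B' := fun h => hAB (Subgroup.map_injective hinj h)
  have hnA := hnorm A' B' hAS hAe hmaxA hne' (fun s hs => by
    obtain ⟨a, ha, b, hb, hab⟩ := hprod ⟨s, hs⟩
    exact ⟨a, ⟨a, ha, rfl⟩, b, ⟨b, hb, rfl⟩, congrArg Subtype.val hab⟩) honly'
  have hnB := hnorm B' A' hBS hBe hmaxB hne'.symm (fun s hs => by
    obtain ⟨a, ha, b, hb, hab⟩ := hprod ⟨s⁻¹, inv_mem hs⟩
    exact ⟨(b : G)⁻¹, inv_mem ⟨b, hb, rfl⟩, (a : G)⁻¹, inv_mem ⟨a, ha, rfl⟩, by
      rw [← mul_inv_rev]
      exact inv_eq_iff_eq_inv.2 (congrArg Subtype.val hab)⟩) fun E h1 h2 h3 => (honly' E h1 h2 h3).symm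
  have hcases : ∀ (X : Subgroup G), (X = A' ∨ X = B') → ∀ g : G,
      X.map (MulAut.conj g).toMonoidHom ≤ (S : Subgroup G) →
      X.map (MulAut.conj g).toMonoidHom = A' ∨ X.map (MulAut.conj g).toMonoidHom = B' := by
    intro X hX g hle
    rcases hX with rfl | rfl
    · exact honly' _ hle (ea_map_conj g hAe) fun F hF hFe hl => (conj_max S hnA hmaxA g hF hFe hl).symm
    · exact honly' _ hle (ea_map_conj g hBe) fun F hF hFe hl => (conj_max S hnB hmaxB g hF hFe hl).symm
  have hperm : ∀ h ∈ normalizer ((S : Subgroup G) : Set G), ∀ X : Subgroup G, (X = A' ∨ X = B') →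
      X.map (MulAut.conj h).toMonoidHom = A' ∨ X.map (MulAut.conj h).toMonoidHom = B' := by
    intro h hh X hX
    refine hcases X hX h ?_
    refine (Subgroup.map_mono (?_ : X ≤ (S : Subgroup G))).trans
      (Subgroup.mem_normalizer_iff_map_conj_eq.1 hh).le
    rcases hX with rfl | rfl <;> assumption
  have hwA : ∀ g : G, A'.map (MulAut.conj g).toMonoidHom ≤ (S : Subgroup G) →
      A'.map (MulAut.conj g).toMonoidHom = A' := fun g hg =>
    (hcases A' (Or.inl rfl) g hg).resolve_right fun h => not_swap S hnA hnB rfl hne'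
      (fun k hk => ⟨hperm k hk A' (Or.inl rfl), hperm k hk B' (Or.inr rfl)⟩) g h
  have hwB : ∀ g : G, B'.map (MulAut.conj g).toMonoidHom ≤ (S : Subgroup G) →
      B'.map (MulAut.conj g).toMonoidHom = B' := fun g hg =>
    (hcases B' (Or.inr rfl) g hg).resolve_left fun h => not_swap S hnB hnA rfl hne'.symm
      (fun k hk => ⟨(hperm k hk B' (Or.inr rfl)).symm, (hperm k hk A' (Or.inl rfl)).symm⟩) g h
  refine ⟨⟨hAS, hwA⟩, ⟨hBS, hwB⟩, fun h hh => Subgroup.mem_inf.2 ⟨?_, ?_⟩⟩
  · exact Subgroup.mem_normalizer_iff_map_conj_eq.2 (hwA h ((Subgroup.map_mono hAS).trans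
      (Subgroup.mem_normalizer_iff_map_conj_eq.1 hh).le))
  · exact Subgroup.mem_normalizer_iff_map_conj_eq.2 (hwB h ((Subgroup.map_mono hBS).trans
      (Subgroup.mem_normalizer_iff_map_conj_eq.1 hh).le))

end Cfsg.Agent.S3203
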