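import Cfsg.Statements.S3206
import Cfsg.Agent.JankoRee.Main

set_option autoImplicit false
open Cfsg

namespace Cfsg.Agent.S3206

/-- Let G be a non-abelian finite simple group with abelian Sylow 2-subgroups, and let t be an involution of G whose centralizer is a maximal subgroup of G and is the direct product of the subgroup generated by t with a subgroup E having a normal subgroup isomorphic to PSL(2, q), q odd and greater than 3, with trivial centralizer in E. Then every finite perfect group having a central 2-subgroup with quotient isomorphic to G has that central subgroup trivial (G has no nontrivial perfect central extension by a 2-group), and every automorphism of G of 2-power order that fixes every element of some Sylow 2-subgroup of G is inner. -/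
theorem result {G : Type*} [Group G] [Finite G] [IsSimpleGroup G]
    (hG : ¬ IsMulCommutative G) (hab : ∀ S : Sylow 2 G, IsMulCommutative ↥(S : Subgroup G))
    (t : G) (ht : orderOf t = 2) (hmax : IsCoatom (Subgroup.centralizer ({t} : Set G)))
    (E : Subgroup G) (hE : Cfsg.IsInternalDirectProduct (Subgroup.zpowers t) E (Subgroup.centralizer ({t} : Set G)))
    {F : Type*} [Field F] [Fintype F] (hFo : Odd (Fintype.card F)) (hF3 : 3 < Fintype.card F)
    (N : Subgroup ↥E) [N.Normal] (hN : Nonempty (↥N ≃* Matrix.ProjectiveSpecialLinearGroup (Fin 2) F))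
    (hNc : Subgroup.centralizer (N : Set ↥E) = ⊥) :
    (∀ (L : Type) (_ : Group L) (_ : Finite L) (Z : Subgroup L) (_ : Z.Normal), commutator L = ⊤ → Z ≤ Subgroup.center L →
        IsPGroup 2 ↥Z → Nonempty (L ⧸ Z ≃* G) → Z = ⊥) ∧
    (∀ (φ : G ≃* G) (k : ℕ), φ ^ (2 ^ k) = 1 → (∃ S : Sylow 2 G, ∀ s ∈ (S : Subgroup G), φ s = s) →
        ∃ g : G, ∀ x : G, φ x = g * x * g⁻¹) := by
  obtain ⟨e⟩ := hN
  have habel : ∀ Q : Subgroup G, IsPGroup 2 Q → ∀ a ∈ Q, ∀ b ∈ Q, a * b = b * a := fun Q hQ a ha b hb => by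
    obtain ⟨T, hT⟩ := hQ.exists_le_sylow
    exact congrArg Subtype.val ((hab T).is_comm.comm ⟨a, hT ha⟩ ⟨b, hT hb⟩)
  let c : Cfsg.Agent.JankoRee.Cfg G F :=
    { t := t, ht := ht, E := E, hd := hE,
      j := E.subtype.comp (N.subtype.comp e.symm.toMonoidHom),
      jinj := fun x y h => e.symm.injective (Subtype.ext (Subtype.ext h)),
      jE := fun p => ((e.symm p : N) : E).2,
      jnorm := fun x hx p => ⟨e ⟨⟨x, hx⟩ * ((e.symm p : N) : E) * ⟨x, hx⟩⁻¹,
        (inferInstance : N.Normal).conj_mem _ (e.symm p).2 _⟩, by simp⟩,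
      jcent := fun x hx h => by
        have hm : (⟨x, hx⟩ : E) ∈ Subgroup.centralizer (N : Set E) := Subgroup.mem_centralizer_iff.2 fun n hn => by
          have := h (e ⟨n, hn⟩)
          simp only [MonoidHom.coe_comp, Function.comp_apply, MulEquiv.coe_toMonoidHom, MulEquiv.symm_apply_apply,
            Subgroup.coe_subtype] at this
          exact Subtype.ext this.symm
        rw [hNc, Subgroup.mem_bot] at hm
        exact congrArg Subtype.val hm,
      hFo := hFo, hF3 := hF3, hab := habel }
  obtain ⟨d⟩ := c.exists_data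
  haveI : Fact (Nat.Prime 2) := ⟨Nat.prime_two⟩
  refine ⟨fun L _ _ Z _ hperf hZ hZ2 ⟨f⟩ => ?_, fun φ k hφ ⟨S', hS'⟩ => ?_⟩
  · let π : L →* G := f.toMonoidHom.comp (QuotientGroup.mk' Z)
    have hsurj : Function.Surjective π := f.surjective.comp (QuotientGroup.mk'_surjective Z)
    have hker : π.ker = Z := by
      ext x
      simp [π, MonoidHom.mem_ker]
    have hcomm := d.multiplier hG π hsurj (hker ▸ hZ)
    refine (Subgroup.eq_bot_iff_forall _).2 fun z hz => ?_
    obtain ⟨m, hm⟩ := hZ2 ⟨z, hz⟩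
    have h1 : z ^ 2 ^ m = 1 := congrArg Subtype.val hm
    have h2 := Cfsg.Agent.SylMult.pow_index_eq_one π hsurj (hker ▸ hZ) hcomm (hker ▸ hz)
      (hperf ▸ Subgroup.mem_top z)
    have hg := pow_gcd_eq_one.mpr ⟨h1, h2⟩
    rw [Nat.Coprime.gcd_eq_one ((Nat.prime_two.coprime_iff_not_dvd.2 d.S.not_dvd_index).pow_left m),
      pow_one] at hg
    exact hg
  · obtain ⟨g, hg⟩ := MulAction.exists_smul_eq G d.S S'
    set γ : MulAut G := (MulAut.conj g)⁻¹ * (φ : MulAut G) * MulAut.conj g with hγdef
    have hγ : ∀ x, γ x = g⁻¹ * φ (g * x * g⁻¹) * g := fun x => by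
      rw [hγdef, MulAut.mul_apply, MulAut.mul_apply, ← map_inv, MulAut.conj_apply, MulAut.conj_apply, inv_inv]
    have hγk : γ ^ 2 ^ k = 1 := by
      have := conj_pow (i := 2 ^ k) (a := (MulAut.conj g)⁻¹) (b := (φ : MulAut G))
      rw [inv_inv] at this
      rw [hγdef, this, show (φ : MulAut G) ^ 2 ^ k = 1 from hφ]
      group
    obtain ⟨a, ha⟩ := d.automorphism hG hmax hγk fun x hx => by
      have hx' : g * x * g⁻¹ ∈ (S' : Subgroup G) := by
        rw [← hg, Sylow.coe_subgroup_smul, Subgroup.mem_smul_pointwise_iff_exists]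
        exact ⟨x, hx, rfl⟩
      rw [hγ, hS' _ hx']; group
    refine ⟨g * a * g⁻¹, fun x => ?_⟩
    have := ha (g⁻¹ * x * g)
    rw [hγ, show g * (g⁻¹ * x * g) * g⁻¹ = x by group] at this
    calc φ x = g * (g⁻¹ * φ x * g) * g⁻¹ := by group
      _ = g * a * g⁻¹ * x * (g * a * g⁻¹)⁻¹ := by rw [this]; group

end Cfsg.Agent.S3206
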