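import Cfsg.Statements.S3208
import Mathlib

set_option autoImplicit false
open Cfsg

namespace Cfsg.Agent.S3208

/-- Let j be an involution of a finite group G, H a subgroup of G, and T a Sylow 2-subgroup of H ∩ C_G(j) containing j such that ⟨j⟩ is a characteristic subgroup of T. Then T is a Sylow 2-subgroup of H. -/
theorem result {G : Type*} [Group G] [Finite G]
    (j : G) (hj : orderOf j = 2) (H T : Subgroup G) (hT : T ≤ H ⊓ Subgroup.centralizer ({j} : Set G)) (h2 : IsPGroup 2 ↥T)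
    (hSyl : ¬ 2 ∣ T.relIndex (H ⊓ Subgroup.centralizer ({j} : Set G))) (hjT : j ∈ T)
    (hchar : ((Subgroup.zpowers j).subgroupOf T).Characteristic) :
    ¬ 2 ∣ T.relIndex H := by
  intro hdvd
  have : Fact (Nat.Prime 2) := ⟨Nat.prime_two⟩
  have hTH : T ≤ H := hT.trans inf_le_left
  have hp : IsPGroup 2 (T.subgroupOf H) := h2.comap_subtype
  obtain ⟨R, hR⟩ := hp.exists_le_sylow
  set R' := (R : Subgroup H).map H.subtype with hR'
  have hTR : T ≤ R' := by
    rw [hR']
    exact fun a ha => ⟨⟨a, hTH ha⟩, hR ha, rfl⟩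
  have hne : ¬ R' ≤ T := by
    intro hle
    have : (R : Subgroup H) = T.subgroupOf H :=
      le_antisymm (fun a ha => Subgroup.mem_subgroupOf.2 (hle ⟨a, ha, rfl⟩)) hR
    exact R.not_dvd_index (this ▸ hdvd)
  have hRp : IsPGroup 2 R' := R.2.map _
  have : Group.IsNilpotent R' := hRp.isNilpotent
  obtain ⟨t, ht, htT⟩ := SetLike.exists_of_lt (Group.normalizerCondition_of_isNilpotent
    (T.subgroupOf R') (lt_top_iff_ne_top.2 fun h => hne (Subgroup.subgroupOf_eq_top.1 h)))
  rw [Subgroup.mem_subgroupOf] at htT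
  have htN : (t : G) ∈ Subgroup.normalizer (T : Set G) := by
    rw [Subgroup.mem_normalizer_iff] at ht ⊢
    intro x
    constructor
    · intro hx
      exact (ht ⟨x, hTR hx⟩).1 hx
    · intro hx
      have hxR : x ∈ R' := by
        have := mul_mem (mul_mem (inv_mem t.2) (hTR hx)) t.2
        simp only [mul_assoc, inv_mul_cancel_left, inv_mul_cancel, mul_one] at this
        exact this
      exact (ht ⟨x, hxR⟩).2 hx
  have hcom : (t : G) ∈ Subgroup.centralizer ({j} : Set G) := by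
    rw [Subgroup.mem_centralizer_singleton_iff]
    have hfix := hchar.fixed (T.normalizerMonoidHom ⟨t, htN⟩)
    have hj' : (⟨j, hjT⟩ : T) ∈ (Subgroup.zpowers j).subgroupOf T :=
      Subgroup.mem_subgroupOf.2 (Subgroup.mem_zpowers j)
    rw [← hfix, Subgroup.mem_comap, Subgroup.mem_subgroupOf] at hj'
    change (t : G) * j * (t : G)⁻¹ ∈ Subgroup.zpowers j at hj'
    obtain ⟨i, hi⟩ := Subgroup.mem_zpowers_iff.1 hj'
    rcases Int.even_or_odd i with ⟨r, hr⟩ | ⟨r, hr⟩
    · exfalso
      rw [hr, ← two_mul, zpow_mul, zpow_two, ← sq, ← hj, pow_orderOf_eq_one, one_zpow] at hi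
      rw [eq_comm, conj_eq_one_iff] at hi
      rw [hi, orderOf_one] at hj
      omega
    · rw [hr, zpow_add, zpow_mul, zpow_two, ← sq, ← hj, pow_orderOf_eq_one, one_zpow, one_mul,
        zpow_one, eq_mul_inv_iff_mul_eq] at hi
      exact hi.symm
  set X := T ⊔ Subgroup.zpowers (t : G) with hX
  have hXR : X ≤ R' := sup_le hTR (Subgroup.zpowers_le.2 t.2)
  have hXC : X ≤ H ⊓ Subgroup.centralizer ({j} : Set G) := sup_le hT (Subgroup.zpowers_le.2
    (Subgroup.mem_inf.2 ⟨Subgroup.map_subtype_le _ t.2, hcom⟩))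
  apply hSyl
  rw [← Subgroup.relIndex_mul_relIndex T X _ le_sup_left hXC]
  refine Dvd.dvd.mul_right ?_ _
  have h1 : T.relIndex X ≠ 1 := by
    rw [ne_eq, Subgroup.relIndex_eq_one]
    exact fun h => htT (h (Subgroup.mem_sup_right (Subgroup.mem_zpowers _)))
  obtain ⟨k, hk⟩ := (hRp.to_le hXR).index (T.subgroupOf X)
  change 2 ∣ (T.subgroupOf X).index
  rw [hk]
  refine dvd_pow_self 2 fun h0 => h1 ?_
  rw [h0, pow_zero] at hk
  exact hk

end Cfsg.Agent.S3208
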