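import Mathlib
import Cfsg.Statements.S3209
import Cfsg.Agent.S5317

set_option autoImplicit false
open Cfsg

namespace Cfsg.Agent.S3209
open Matrix Cfsg.Agent.S5317

theorem neg_one_ne_one {F : Type*} [Field F] (h2 : (2 : F) ≠ 0) :
    (-1 : SpecialLinearGroup (Fin 2) F) ≠ 1 := fun h => by
  have h1 := congrArg (fun A : SpecialLinearGroup (Fin 2) F => (A : Matrix (Fin 2) (Fin 2) F) 0 0) h
  simp at h1
  exact h2 (by linear_combination -h1)

theorem two_ne {F : Type*} [Field F] [Fintype F] (hF : Odd (Fintype.card F)) : (2 : F) ≠ 0 := by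
  intro h
  exact two_ne_zero' (Nat.odd_iff.1 hF) h

theorem sq_of_trace {F : Type*} [Field F] {g : SpecialLinearGroup (Fin 2) F}
    (hd : (g : Matrix (Fin 2) (Fin 2) F) 1 1 = -(g : Matrix (Fin 2) (Fin 2) F) 0 0) :
    g * g = -1 := by
  have hdet : (g : Matrix (Fin 2) (Fin 2) F).det = 1 := g.2
  rw [det_fin_two, hd] at hdet
  apply Subtype.ext
  ext a b
  fin_cases a <;> fin_cases b <;> simp [Matrix.mul_apply, Fin.sum_univ_two, hd] <;>
    first
      | ring1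
      | linear_combination -hdet

theorem sl_sq {F : Type*} [Field F] [Fintype F] (hF : Odd (Fintype.card F))
    (g : SpecialLinearGroup (Fin 2) F) :
    (g * g = 1 → g = 1 ∨ g = -1) ∧ (g * g = -1 → ∃ P, P * jMat F * P⁻¹ = g) := by
  have h2 := two_ne hF
  have key : ∀ x : SpecialLinearGroup (Fin 2) F, proj x * proj x = 1 → x ≠ 1 → x ≠ -1 →
      (x : Matrix (Fin 2) (Fin 2) F) 1 1 = -(x : Matrix (Fin 2) (Fin 2) F) 0 0 := by
    intro x hx h1 h1'
    refine trace_zero_of_invol hx fun h => ?_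
    rw [← map_one (proj (F := F)), proj_eq_iff] at h
    rcases h with h | h
    · exact h1 (Subtype.ext h)
    · exact h1' (Subtype.ext (by simpa using h))
  constructor
  · intro hg
    by_contra hne
    push Not at hne
    have h1 := sq_of_trace (key g (by rw [← map_mul, hg, map_one]) hne.1 hne.2)
    rw [hg] at h1
    exact neg_one_ne_one h2 h1.symm
  · intro hg
    have h1 : g ≠ 1 := fun h => neg_one_ne_one h2 (by rw [h, one_mul] at hg; exact hg.symm)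
    have h1' : g ≠ -1 := fun h => neg_one_ne_one h2 (by rw [h] at hg; simpa using hg.symm)
    have hp : proj g * proj g = 1 := by
      rw [← map_mul, hg, ← map_one (proj (F := F)), proj_eq_iff]
      right
      simp
    obtain ⟨P, hP⟩ := conj_trace_zero (Nat.odd_iff.1 hF) g (key g hp h1 h1')
    exact ⟨P, by rw [hP, mul_inv_cancel_right]⟩

/-- What is needed about one factor. -/
theorem factor {G : Type*} [Group G] {F : Type*} [Field F] [Fintype F] (hF : Odd (Fintype.card F))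
    (L : Subgroup G) (e : ↥L ≃* SpecialLinearGroup (Fin 2) F) (j : G) (hj : orderOf j = 2)
    (hjL : j ∈ L) :
    (∀ a ∈ L, a * a = 1 → a = 1 ∨ a = j) ∧
      ∃ q ∈ L, q * q = j ∧ ∀ a ∈ L, a * a = j → ∃ g ∈ L, g * q * g⁻¹ = a := by
  have hj1 : j ≠ 1 := fun h => by rw [h, orderOf_one] at hj; omega
  have hjj : j * j = 1 := by rw [← pow_two, ← hj]; exact pow_orderOf_eq_one j
  have hej : e ⟨j, hjL⟩ = -1 := by
    refine ((sl_sq hF _).1 ?_).resolve_left fun h => hj1 ?_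
    · rw [← map_mul, ← map_one e]
      exact congrArg e (Subtype.ext hjj)
    · exact congrArg Subtype.val (e.injective (h.trans (map_one e).symm))
  have hjac : jMat F * jMat F = -1 := sq_of_trace (by simp [coe_jMat])
  have hval : ∀ x : SpecialLinearGroup (Fin 2) F, x = -1 → (e.symm x : G) = j := fun x hx => by
    rw [hx, ← hej, e.symm_apply_apply]
  refine ⟨fun a ha haa => ?_, ⟨(e.symm (jMat F) : G), (e.symm _).2, ?_, fun a ha haa => ?_⟩⟩
  · rcases (sl_sq hF (e ⟨a, ha⟩)).1 (by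
      rw [← map_mul, ← map_one e]; exact congrArg e (Subtype.ext haa)) with h | h
    · exact Or.inl (congrArg Subtype.val (e.injective (h.trans (map_one e).symm)))
    · exact Or.inr (congrArg Subtype.val (e.injective (h.trans hej.symm)))
  · rw [← Subgroup.coe_mul, ← map_mul]
    exact hval _ hjac
  · obtain ⟨P, hP⟩ := (sl_sq hF (e ⟨a, ha⟩)).2 (by
      rw [← map_mul, ← hej]; exact congrArg e (Subtype.ext haa))
    refine ⟨(e.symm P : G), (e.symm P).2, ?_⟩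
    have := congrArg (fun z => ((e.symm z : L) : G)) hP
    simpa using this


/-- Let L₁ ≅ SL₂(q₁) and L₂ ≅ SL₂(q₂), q₁ and q₂ odd, be elementwise-commuting subgroups of a finite group meeting in ⟨j⟩ for an involution j. Then L₁L₂ has exactly two conjugacy classes of involutions: the central involution j, and one further class (there is an involution x ≠ j in L₁L₂, and every involution of L₁L₂ other than j is conjugate to x by an element of L₁L₂). -/
theorem result {G : Type*} [Group G] [Finite G]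
    {F₁ : Type*} [Field F₁] [Fintype F₁] {F₂ : Type*} [Field F₂] [Fintype F₂]
    (hF₁ : Odd (Fintype.card F₁)) (hF₂ : Odd (Fintype.card F₂)) (L₁ L₂ : Subgroup G)
    (e₁ : ↥L₁ ≃* Matrix.SpecialLinearGroup (Fin 2) F₁) (e₂ : ↥L₂ ≃* Matrix.SpecialLinearGroup (Fin 2) F₂)
    (hc : ∀ x ∈ L₁, ∀ y ∈ L₂, x * y = y * x) (j : G) (hj : orderOf j = 2) (hm : L₁ ⊓ L₂ = Subgroup.zpowers j) :
    ∃ x ∈ L₁ ⊔ L₂, orderOf x = 2 ∧ x ≠ j ∧
      ∀ y ∈ L₁ ⊔ L₂, orderOf y = 2 → y = j ∨ ∃ g ∈ L₁ ⊔ L₂, g * x * g⁻¹ = y := by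
  have hj1 : j ≠ 1 := fun h => by rw [h, orderOf_one] at hj; omega
  have hjj : j * j = 1 := by rw [← pow_two, ← hj]; exact pow_orderOf_eq_one j
  have hjm : j ∈ L₁ ⊓ L₂ := hm.symm ▸ Subgroup.mem_zpowers j
  obtain ⟨u₁, q₁, hq₁, hq₁j, hc₁⟩ := factor hF₁ L₁ e₁ j hj hjm.1
  obtain ⟨u₂, q₂, hq₂, hq₂j, hc₂⟩ := factor hF₂ L₂ e₂ j hj hjm.2
  have hmem : ∀ g : G, g ∈ L₁ ⊓ L₂ → g = 1 ∨ g = j := by
    intro g hg
    rw [hm, Subgroup.mem_zpowers_iff] at hg
    obtain ⟨i, rfl⟩ := hg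
    rcases Int.even_or_odd i with ⟨k, rfl⟩ | ⟨k, rfl⟩
    · left; rw [← two_mul, _root_.zpow_mul, _root_.zpow_two, hjj, _root_.one_zpow]
    · right; rw [_root_.zpow_add, _root_.zpow_mul, _root_.zpow_two, hjj, _root_.one_zpow, one_mul, _root_.zpow_one]
  have hne : q₁ * q₂ ≠ 1 ∧ q₁ * q₂ ≠ j := by
    have key : ∀ c : G, c ∈ L₁ ⊓ L₂ → q₁ * q₂ ≠ c := by
      intro c hc' h
      have h1 : q₂ = q₁⁻¹ * c := by rw [← h, inv_mul_cancel_left]
      have h2 : q₂ ∈ L₁ ⊓ L₂ := ⟨h1 ▸ L₁.mul_mem (L₁.inv_mem hq₁) hc'.1, hq₂⟩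
      rcases hmem _ h2 with h3 | h3 <;> rw [h3] at hq₂j
      · exact hj1 (by rw [← hq₂j, one_mul])
      · exact hj1 (hq₂j.symm.trans hjj)
    exact ⟨key 1 (one_mem _), key j hjm⟩
  have hq2 : q₁ * q₂ * (q₁ * q₂) = 1 := by
    rw [(show Commute q₁ q₂ from hc _ hq₁ _ hq₂).symm.mul_mul_mul_comm, hq₁j, hq₂j, hjj]
  refine ⟨q₁ * q₂, mul_mem (Subgroup.mem_sup_left hq₁) (Subgroup.mem_sup_right hq₂), ?_, hne.2, ?_⟩
  · exact orderOf_eq_prime (by rw [pow_two]; exact hq2) hne.1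
  intro y hy hy2
  obtain ⟨a, ha, b, hb, rfl⟩ : ∃ a ∈ L₁, ∃ b ∈ L₂, a * b = y := by
    have hle : L₁ ≤ Subgroup.normalizer (L₂ : Set G) := fun x hx => by
      rw [Subgroup.mem_normalizer_iff]
      intro z
      refine ⟨fun hz => by rw [hc x hx z hz, mul_inv_cancel_right]; exact hz, fun hz => ?_⟩
      have h1 := hc x⁻¹ (L₁.inv_mem hx) _ hz
      have h2 : z = x * z * x⁻¹ := by
        have h3 : x⁻¹ * (x * z * x⁻¹) * x = x * z * x⁻¹ := by rw [h1, inv_mul_cancel_right]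
        rw [← h3]; simp [mul_assoc]
      rw [h2]; exact hz
    have h := Subgroup.coe_mul_of_left_le_normalizer_right L₁ L₂ hle
    have h1 : y ∈ ((L₁ ⊔ L₂ : Subgroup G) : Set G) := hy
    rw [h] at h1
    obtain ⟨a, ha, b, hb, e⟩ := Set.mem_mul.1 h1
    exact ⟨a, ha, b, hb, e⟩
  have hyy : a * b * (a * b) = 1 := by rw [← pow_two, ← hy2]; exact pow_orderOf_eq_one _
  rw [(show Commute a b from hc _ ha _ hb).symm.mul_mul_mul_comm] at hyy
  have haa : a * a ∈ L₁ ⊓ L₂ :=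
    ⟨L₁.mul_mem ha ha, by rw [eq_inv_of_mul_eq_one_left hyy]; exact L₂.inv_mem (L₂.mul_mem hb hb)⟩
  rcases hmem _ haa with h | h
  · left
    rw [h, one_mul] at hyy
    have hne1 : a * b ≠ 1 := fun e => by rw [e, orderOf_one] at hy2; omega
    rcases u₁ a ha h with rfl | rfl <;> rcases u₂ b hb hyy with rfl | rfl
    · exact absurd (one_mul 1) hne1
    · exact one_mul _
    · exact mul_one _
    · exact absurd hjj hne1
  · right
    have hbb : b * b = j := by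
      rw [h] at hyy
      exact mul_left_cancel (hyy.trans hjj.symm)
    obtain ⟨g₁, hg₁, rfl⟩ := hc₁ a ha h
    obtain ⟨g₂, hg₂, rfl⟩ := hc₂ b hb hbb
    refine ⟨g₁ * g₂, mul_mem (Subgroup.mem_sup_left hg₁) (Subgroup.mem_sup_right hg₂), ?_⟩
    have c1 : Commute g₁⁻¹ g₂ := hc _ (L₁.inv_mem hg₁) _ hg₂
    have c2 : Commute q₁ g₂ := hc _ hq₁ _ hg₂
    have c3 : Commute g₁⁻¹ q₂ := hc _ (L₁.inv_mem hg₁) _ hq₂
    calc g₁ * g₂ * (q₁ * q₂) * (g₁ * g₂)⁻¹
        = g₁ * ((g₂ * q₁) * q₂ * g₂⁻¹) * g₁⁻¹ := by simp [mul_assoc]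
      _ = g₁ * q₁ * ((g₂ * q₂ * g₂⁻¹) * g₁⁻¹) := by rw [← c2.eq]; simp [mul_assoc]
      _ = g₁ * q₁ * (g₁⁻¹ * (g₂ * q₂ * g₂⁻¹)) := by
        rw [(show Commute g₁⁻¹ (g₂ * q₂ * g₂⁻¹) from hc _ (L₁.inv_mem hg₁) _
          (L₂.mul_mem (L₂.mul_mem hg₂ hq₂) (L₂.inv_mem hg₂))).eq]
      _ = g₁ * q₁ * g₁⁻¹ * (g₂ * q₂ * g₂⁻¹) := by simp [mul_assoc]

end Cfsg.Agent.S3209
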