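import Cfsg.Statements.S3211
import Cfsg.Agent.TwoSL2.Swap

set_option autoImplicit false
set_option linter.style.haveILetI false
open Cfsg

namespace Cfsg.Agent.S3211

open scoped Pointwise

/-- Let G be a finite group with subgroups L₁ ≅ SL₂(q₁) and L₂ ≅ SL₂(q₂), q₁ and q₂ odd prime powers, which commute elementwise and meet in ⟨j⟩ for an involution j, and suppose L₁L₂ has index 2 in C_G(j). If some n ∈ C_G(j) with n² = j interchanges L₁ and L₂ under conjugation (so that C_G(j) = L₁L₂⟨n⟩), then G = C_G(j)O(G). -/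
theorem result {G : Type*} [Group G] [Finite G]
    {F₁ : Type*} [Field F₁] [Fintype F₁] {F₂ : Type*} [Field F₂] [Fintype F₂]
    (hF₁ : Odd (Fintype.card F₁)) (hF₂ : Odd (Fintype.card F₂)) (L₁ L₂ : Subgroup G)
    (e₁ : ↥L₁ ≃* Matrix.SpecialLinearGroup (Fin 2) F₁) (e₂ : ↥L₂ ≃* Matrix.SpecialLinearGroup (Fin 2) F₂)
    (hc : ∀ x ∈ L₁, ∀ y ∈ L₂, x * y = y * x) (j : G) (hj : orderOf j = 2) (hm : L₁ ⊓ L₂ = Subgroup.zpowers j)
    (hle : L₁ ⊔ L₂ ≤ Subgroup.centralizer ({j} : Set G)) (hi : (L₁ ⊔ L₂).relIndex (Subgroup.centralizer ({j} : Set G)) = 2) (n : G) (hn : n ∈ Subgroup.centralizer ({j} : Set G))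
    (hn2 : n ^ 2 = j) (hswap : L₁.map (MulAut.conj n).toMonoidHom = L₂) :
    Subgroup.centralizer ({j} : Set G) ⊔ Cfsg.oddCore G = ⊤ := by
  classical
  set C := Subgroup.centralizer ({j} : Set G) with hC
  have h2₁ : (2 : F₁) ≠ 0 := fun h => by
    haveI : CharP F₁ 2 := CharTwo.of_one_ne_zero_of_two_eq_zero one_ne_zero h
    have := FiniteField.even_card_of_char_two (ringChar.eq F₁ 2)
    rw [Nat.odd_iff] at hF₁; omega
  have h2₂ : (2 : F₂) ≠ 0 := fun h => by
    haveI : CharP F₂ 2 := CharTwo.of_one_ne_zero_of_two_eq_zero one_ne_zero h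
    have := FiniteField.even_card_of_char_two (ringChar.eq F₂ 2)
    rw [Nat.odd_iff] at hF₂; omega
  have hj12 : j ∈ L₁ ⊓ L₂ := by rw [hm]; exact Subgroup.mem_zpowers j
  have hjj : j * j = 1 := by rw [← pow_two, ← hj, pow_orderOf_eq_one]
  have hjne : j ≠ 1 := fun e => by rw [e, orderOf_one] at hj; exact absurd hj (by norm_num)
  have hc1 : ∀ x ∈ L₁, x * j = j * x := fun x hx =>
    Subgroup.mem_centralizer_singleton_iff.1 (hle (Subgroup.mem_sup_left hx))
  have hc2 : ∀ x ∈ L₂, x * j = j * x := fun x hx =>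
    Subgroup.mem_centralizer_singleton_iff.1 (hle (Subgroup.mem_sup_right hx))
  have hs1 : ∀ x ∈ L₁, n * x * n⁻¹ ∈ L₂ := fun x hx => by
    rw [← hswap]; exact ⟨x, hx, by simp⟩
  have hnn : n * n = j := by rw [← pow_two]; exact hn2
  have hinter : ∀ x, x ∈ L₁ → x ∈ L₂ → x = 1 ∨ x = j := by
    intro x h1 h2
    have : x ∈ Subgroup.zpowers j := by rw [← hm]; exact ⟨h1, h2⟩
    obtain ⟨k, rfl⟩ := Subgroup.mem_zpowers_iff.1 this
    rw [← zpow_mod_orderOf, hj]
    rcases Int.emod_two_eq_zero_or_one k with e | e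
    · left; push_cast; rw [e, zpow_zero]
    · right; push_cast; rw [e, zpow_one]
  have hnorm1 : ∀ m ∈ L₁ ⊔ L₂, ∀ x ∈ L₁, m * x * m⁻¹ ∈ L₁ := by
    have hle1 : L₁ ⊔ L₂ ≤ Subgroup.normalizer (L₁ : Set G) := by
      refine sup_le Subgroup.le_normalizer fun z hz => ?_
      rw [Subgroup.mem_normalizer_iff]
      intro x
      refine ⟨fun hx => ?_, fun hx => ?_⟩
      · rw [← hc x hx z hz, mul_inv_cancel_right]; exact hx
      · have := hc _ hx z hz
        have e : x = z * x * z⁻¹ := by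
          calc x = z⁻¹ * (z * x * z⁻¹ * z) := by group
            _ = z⁻¹ * (z * (z * x * z⁻¹)) := by rw [this]
            _ = z * x * z⁻¹ := by group
        rw [e]; exact hx
    exact fun m hm x hx => (Subgroup.mem_normalizer_iff.1 (hle1 hm) x).1 hx
  have hsup : ∀ c ∈ L₁ ⊔ L₂, ∃ x ∈ L₁, ∃ z ∈ L₂, c = x * z := by
    intro c hcm
    have hle2 : L₂ ≤ Subgroup.normalizer (L₁ : Set G) := fun z hz => by
      rw [Subgroup.mem_normalizer_iff]
      refine fun x => ⟨fun hx => hnorm1 z (Subgroup.mem_sup_right hz) x hx, fun hx => ?_⟩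
      have := hnorm1 z⁻¹ (Subgroup.mem_sup_right (inv_mem hz)) _ hx
      simpa [mul_assoc] using this
    have : c ∈ ((L₁ : Set G) * (L₂ : Set G) : Set G) := by
      rw [← Subgroup.coe_mul_of_right_le_normalizer_left L₁ L₂ hle2]
      exact hcm
    obtain ⟨x, hx, z, hz, rfl⟩ := this
    exact ⟨x, hx, z, hz, rfl⟩
  have hnM : n ∉ L₁ ⊔ L₂ := by
    intro h
    have hS1 := Agent.TwoSL2.half_of_equiv e₁ h2₁ hj12.1 hj
    have heq : L₁ ≤ L₂ := fun x hx => by
      have h3 : n⁻¹ * x * n ∈ L₁ := by simpa using hnorm1 n⁻¹ (inv_mem h) x hx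
      have := hs1 _ h3
      simpa [mul_assoc] using this
    -- then `L₁` would have order two
    obtain ⟨a, ha⟩ : ∃ a : Matrix.SpecialLinearGroup (Fin 2) F₁, a * a ≠ 1 :=
      ⟨⟨!![1, 1; 0, 1], by simp [Matrix.det_fin_two]⟩, fun h => h2₁ (by
        have := congrArg (fun A : Matrix.SpecialLinearGroup (Fin 2) F₁ => A.1 0 1) h
        change (((!![1, 1; 0, 1] : Matrix (Fin 2) (Fin 2) F₁) * (!![1, 1; 0, 1] : Matrix (Fin 2) (Fin 2) F₁) : Matrix (Fin 2) (Fin 2) F₁) 0 1) =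
          (1 : Matrix (Fin 2) (Fin 2) F₁) 0 1 at this
        simpa [Matrix.mul_apply, Fin.sum_univ_two, one_add_one_eq_two] using this)⟩
    apply ha
    have h1 : (e₁.symm a : G) * (e₁.symm a : G) = 1 := by
      rcases hinter _ (e₁.symm a).2 (heq (e₁.symm a).2) with e | e <;> rw [e]
      · exact one_mul 1
      · exact hjj
    have := congrArg e₁ (show e₁.symm a * e₁.symm a = 1 from Subtype.ext h1)
    simpa using this
  have hcent : ∀ c : G, c * j = j * c → (∃ x ∈ L₁, ∃ z ∈ L₂, c = x * z) ∨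
      ∃ x ∈ L₁, ∃ z ∈ L₂, c = n * (x * z) := by
    intro c hcj
    have hcC : c ∈ C := Subgroup.mem_centralizer_singleton_iff.2 hcj
    obtain ⟨a, ha⟩ := Subgroup.index_eq_two_iff.1 hi
    have hcases : c ∈ L₁ ⊔ L₂ ∨ n⁻¹ * c ∈ L₁ ⊔ L₂ := by
      by_cases hcM : c ∈ L₁ ⊔ L₂
      · exact Or.inl hcM
      right
      have h := (Subgroup.mul_mem_iff_of_index_two (H := (L₁ ⊔ L₂).subgroupOf C) hi
        (a := (⟨n, hn⟩ : C)⁻¹) (b := ⟨c, hcC⟩))
      rw [inv_mem_iff, Subgroup.mem_subgroupOf, Subgroup.mem_subgroupOf] at h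
      exact h.2 (iff_of_false hnM hcM)
    rcases hcases with h | h
    · exact Or.inl (hsup c h)
    · obtain ⟨x, hx, z, hz, e⟩ := hsup _ h
      exact Or.inr ⟨x, hx, z, hz, by rw [← e, mul_inv_cancel_left]⟩
  have S : Agent.TwoSL2.Swap L₁ L₂ j n :=
    { h1 := Agent.TwoSL2.half_of_equiv e₁ h2₁ hj12.1 hj
      h2 := Agent.TwoSL2.half_of_equiv e₂ h2₂ hj12.2 hj
      jne := hjne
      jj := hjj
      comm := hc
      inter := hinter
      jm1 := hj12.1
      jm2 := hj12.2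
      nn := hnn
      swap := hs1
      cent := hcent
      central1 := hc1
      central2 := hc2
      swapback := fun x hx => by
        rw [← hswap] at hx
        obtain ⟨w, hw, rfl⟩ := hx
        simp only [MulEquiv.coe_toMonoidHom, MulAut.conj_apply]
        rw [show n * (n * w * n⁻¹) * n⁻¹ = (n * n) * w * (n * n)⁻¹ by group, hnn, ← hc1 w hw,
          mul_inv_cancel_right]
        exact hw }
  rw [eq_top_iff]
  intro g _
  set v := g * j * g⁻¹ with hv
  have hd : j * v ∈ Cfsg.oddCore G := by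
    have h := Agent.Invol.zstar S.isolated g
    rw [S.jinv] at h
    rw [hv, show j * (g * j * g⁻¹) = j * g * j * g⁻¹ by group]
    exact h
  have hd' : v * j ∈ Cfsg.oddCore G := by
    have := inv_mem hd
    rwa [mul_inv_rev, S.jinv, show v⁻¹ = g * j⁻¹ * g⁻¹ by rw [hv]; group, S.jinv, ← hv] at this
  set d := v * j with hdd
  have hodd : Odd (orderOf d) :=
    Odd.of_dvd_nat ((Nat.coprime_two_right).1 (Core.coprime_card_pPrimeCore (p := 2) (G := G)))
      (Subgroup.orderOf_dvd_natCard _ hd')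
  obtain ⟨r, hr⟩ := hodd
  set o := d ^ (r + 1) with ho
  have hoo : o * o = d := by
    rw [ho, ← pow_add, show r + 1 + (r + 1) = orderOf d + 1 by omega, pow_succ, pow_orderOf_eq_one,
      one_mul]
  have hinv : j * d * j⁻¹ = d⁻¹ := by
    rw [hdd, mul_inv_rev, S.jinv, show v⁻¹ = g * j⁻¹ * g⁻¹ by rw [hv]; group, S.jinv, ← hv,
      mul_assoc, mul_assoc v j j, hjj, mul_one]
  have hjo : j * o * j⁻¹ = o⁻¹ := by rw [ho, ← conj_pow, hinv, inv_pow]
  have hov : o * j * o⁻¹ = v := by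
    rw [mul_assoc, show j * o⁻¹ = o * j by rw [← hjo, S.jinv, ← mul_assoc, ← mul_assoc, hjj, one_mul], ← mul_assoc, hoo, hdd, mul_assoc, hjj,
      mul_one]
  have hgc : o⁻¹ * g ∈ C := by
    refine Subgroup.mem_centralizer_singleton_iff.2 ?_
    calc o⁻¹ * g * j = o⁻¹ * v * g := by rw [hv]; group
      _ = o⁻¹ * (o * j * o⁻¹) * g := by rw [hov]
      _ = j * (o⁻¹ * g) := by group
  have := Subgroup.mul_mem_sup (S := Cfsg.oddCore G) (T := C) (pow_mem hd' (r + 1)) hgc
  rw [← ho, mul_inv_cancel_left, sup_comm] at this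
  exact this

end Cfsg.Agent.S3211
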