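import Mathlib
import Cfsg.Statements.S3213
-- import your own Cfsg.Agent.* helpers here

set_option autoImplicit false
open Cfsg

namespace Cfsg.Agent.S3213

set_option synthInstance.maxSize 4000 in
theorem exists_five_mixed : ∀ x : Matrix.SpecialLinearGroup (Fin 2) (ZMod 5), x ^ 3 = 1 → x ≠ 1 →
    ∃ g : Matrix.SpecialLinearGroup (Fin 2) (ZMod 5),
      (x * (g * x * g⁻¹)) ^ 5 = 1 ∧ x * (g * x * g⁻¹) ≠ 1 ∨
        ((x * (g * x * g⁻¹)) ^ 2) ^ 5 = 1 ∧ (x * (g * x * g⁻¹)) ^ 2 ≠ 1 := by
  decide +kernel

theorem exists_five_transfer {K : Type*} [Field K] [Fintype K] (hK : Fintype.card K = 5)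
    (x : Matrix.SpecialLinearGroup (Fin 2) K) (hx : orderOf x = 3) :
    ∃ g y : Matrix.SpecialLinearGroup (Fin 2) K,
      y ∈ Subgroup.zpowers (x * (g * x * g⁻¹)) ∧ orderOf y = 5 := by
  have := Fact.mk (by norm_num : (5 : ℕ).Prime)
  have : CharP K 5 := by
    obtain ⟨p, hp⟩ := CharP.exists K
    obtain ⟨n, hpp, hn⟩ := FiniteField.card K p
    rw [hK] at hn
    have : p ∣ 5 := hn ▸ dvd_pow_self p n.ne_zero
    rcases (Nat.dvd_prime (by norm_num : (5 : ℕ).Prime)).1 this with h | h
    · exact absurd h hpp.ne_one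
    · exact h ▸ hp
  let e : ZMod 5 ≃+* K := ZMod.ringEquiv K hK
  let f : Matrix.SpecialLinearGroup (Fin 2) (ZMod 5) →* Matrix.SpecialLinearGroup (Fin 2) K :=
    Matrix.SpecialLinearGroup.map e.toRingHom
  have hbij : Function.Bijective f := by
    constructor
    · intro a b h
      apply Subtype.ext
      have h1 := congrArg Subtype.val h
      ext i j
      exact e.injective (congrFun (congrFun h1 i) j)
    · intro z
      refine ⟨Matrix.SpecialLinearGroup.map e.symm.toRingHom z, Subtype.ext ?_⟩
      ext i j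
      exact e.apply_symm_apply _
  obtain ⟨x0, rfl⟩ := hbij.2 x
  have h1 : orderOf x0 = 3 := (orderOf_injective f hbij.1 x0).symm.trans hx
  obtain ⟨g, hg⟩ := exists_five_mixed x0 (h1 ▸ pow_orderOf_eq_one x0) (fun h => by simp [h] at h1)
  rcases hg with ⟨ha, hb⟩ | ⟨ha, hb⟩
  · refine ⟨f g, f (x0 * (g * x0 * g⁻¹)), ?_, ?_⟩
    · rw [← map_inv, ← map_mul, ← map_mul, ← map_mul]
      exact Subgroup.mem_zpowers _
    · rw [orderOf_injective f hbij.1, orderOf_eq_prime ha hb]
  · refine ⟨f g, f ((x0 * (g * x0 * g⁻¹)) ^ 2), ?_, ?_⟩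
    · rw [← map_inv, ← map_mul, ← map_mul, ← map_mul, map_pow]
      exact pow_mem (Subgroup.mem_zpowers _) 2
    · rw [orderOf_injective f hbij.1, orderOf_eq_prime ha hb]

theorem no_fixed_of_order_five {F : Type*} [Field F] [Fintype F] (hF : Fintype.card F = 3)
    {ι : Type*} [Fintype ι] [DecidableEq ι] (hι : Fintype.card ι = 4) (y : Matrix ι ι F)
    (h5 : y ^ 5 = 1) (h1 : y ≠ 1) (v : ι → F) (hv : y.mulVec v = v) : v = 0 := by
  classical
  by_contra hv0
  have hinv : ∀ w, (y ^ 4).mulVec (y.mulVec w) = w := fun w => by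
    rw [Matrix.mulVec_mulVec, ← pow_succ, h5, Matrix.one_mulVec]
  have hinv' : ∀ w, y.mulVec ((y ^ 4).mulVec w) = w := fun w => by
    rw [Matrix.mulVec_mulVec, ← pow_succ', h5, Matrix.one_mulVec]
  let σ : Equiv.Perm (ι → F) :=
    { toFun := y.mulVec, invFun := (y ^ 4).mulVec, left_inv := hinv, right_inv := hinv' }
  have hpow : ∀ (n : ℕ) w, (σ ^ n) w = (y ^ n).mulVec w := fun n => by
    induction n with
    | zero => intro w; simp
    | succ n ih =>
      intro w
      rw [pow_succ, Equiv.Perm.mul_apply, ih, pow_succ, ← Matrix.mulVec_mulVec]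
      rfl
  let K : Submodule F (ι → F) := LinearMap.ker (Matrix.toLin' y - LinearMap.id)
  have hmem : ∀ w, w ∈ K ↔ y.mulVec w = w := fun w => by
    simp [K, LinearMap.mem_ker, sub_eq_zero]
  have hσ5 : σ ^ 5 ^ 1 = 1 := Equiv.ext fun w => by
    rw [pow_one, hpow, h5, Matrix.one_mulVec, Equiv.Perm.one_apply]
  have := Fact.mk (by norm_num : (5 : ℕ).Prime)
  have hfix : Fintype.card (Function.fixedPoints σ) ≡ Fintype.card (ι → F) [MOD 5] :=
    by
      refine Eq.trans ?_ (Equiv.Perm.card_compl_support_modEq hσ5)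
      congr 1
      rw [← Fintype.card_coe]
      exact Fintype.card_congr (Equiv.subtypeEquivRight fun w => by
        simp [Function.mem_fixedPoints, Function.IsFixedPt])
  have hK : Fintype.card (Function.fixedPoints σ) = 3 ^ Module.finrank F K := by
    rw [← hF, ← Module.card_eq_pow_finrank (K := F) (V := K)]
    exact Fintype.card_congr (Equiv.subtypeEquivRight fun w => (hmem w).symm)
  rw [hK, Fintype.card_fun, hF, hι] at hfix
  have hle : Module.finrank F K ≤ 4 := (Submodule.finrank_le K).trans_eq (by rw [Module.finrank_fintype_fun_eq_card, hι])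
  have hpos : 0 < Module.finrank F K := by
    rw [Module.finrank_pos_iff_exists_ne_zero]
    exact ⟨⟨v, (hmem v).2 hv⟩, fun h => hv0 (congrArg Subtype.val h)⟩
  interval_cases hk : Module.finrank F K
  all_goals first | (exfalso; revert hfix; decide) | skip
  refine h1 (Matrix.toLin'.injective (LinearMap.ext fun w => ?_))
  have htop : K = ⊤ := Submodule.eq_top_of_finrank_eq (by rw [hk, Module.finrank_fintype_fun_eq_card, hι])
  have : w ∈ K := htop ▸ Submodule.mem_top
  simpa using (hmem w).1 this

theorem fixed_space {F : Type*} [Field F] [Fintype F] (hF : Fintype.card F = 3)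
    {K : Type*} [Field K] [Fintype K] (hK : Fintype.card K = 5)
    (φ : Matrix.SpecialLinearGroup (Fin 2) K →* ↥(Matrix.symplecticGroup (Fin 2) F))
    (hφ : Function.Injective φ) (x : Matrix.SpecialLinearGroup (Fin 2) K) (hx : orderOf x = 3) :
    Module.finrank F ↥(LinearMap.ker (Matrix.toLin' ((φ x : Matrix (Fin 2 ⊕ Fin 2) (Fin 2 ⊕ Fin 2) F)) - LinearMap.id)) = 2 ∧
      ∀ v w : Fin 2 ⊕ Fin 2 → F, (φ x : Matrix (Fin 2 ⊕ Fin 2) (Fin 2 ⊕ Fin 2) F).mulVec v = v →
        (φ x : Matrix (Fin 2 ⊕ Fin 2) (Fin 2 ⊕ Fin 2) F).mulVec w = w →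
          dotProduct v ((Matrix.J (Fin 2) F).mulVec w) = 0 := by
  classical
  have hch : (3 : F) = 0 := by
    have := FiniteField.cast_card_eq_zero F
    rw [hF] at this
    exact_mod_cast this
  let ι := Fin 2 ⊕ Fin 2
  have hfr : Module.finrank F (ι → F) = 4 := by
    rw [Module.finrank_fintype_fun_eq_card]; rfl
  let val : Matrix.SpecialLinearGroup (Fin 2) K →* Matrix ι ι F :=
    (Matrix.symplecticGroup (Fin 2) F).subtype.comp φ
  have hval : Function.Injective val := Subtype.val_injective.comp hφ
  let B : (ι → F) → (ι → F) → F := fun v w => dotProduct v ((Matrix.J (Fin 2) F).mulVec w)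
  set X : Matrix ι ι F := val x with hX
  have hX3 : X * (X * X) = 1 := by
    have := congrArg val (hx ▸ pow_orderOf_eq_one x : x ^ 3 = 1)
    rwa [pow_succ', pow_two, map_mul, map_mul, map_one] at this
  have hBadd : ∀ a b c, B (a + b) c = B a c + B b c := fun a b c => add_dotProduct _ _ _
  have hBsub : ∀ a b c, B (a - b) c = B a c - B b c := fun a b c => sub_dotProduct _ _ _
  have hBsub' : ∀ a b c, B a (b - c) = B a b - B a c := fun a b c => by
    simp only [B, Matrix.mulVec_sub, dotProduct_sub]
  have hBskew : ∀ a b, B a b = - B b a := fun a b => by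
    simp only [B]
    rw [dotProduct_comm, ← Matrix.vecMul_transpose, Matrix.J_transpose, ← Matrix.dotProduct_mulVec,
      Matrix.neg_mulVec, dotProduct_neg]
  have hinvB : ∀ a b, B (X.mulVec a) (X.mulVec b) = B a b := fun a b => by
    have h := SymplecticGroup.mem_iff'.1 (φ x).2
    simp only [B]
    rw [Matrix.mulVec_mulVec, Matrix.dotProduct_mulVec, ← Matrix.vecMul_transpose, Matrix.vecMul_vecMul,
      ← Matrix.dotProduct_mulVec, ← Matrix.mul_assoc]
    exact congrArg (fun M => dotProduct a (Matrix.mulVec M b)) h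
  have hnd : ∀ a, (∀ b, B a b = 0) → a = 0 := fun a ha => by
    have hJ : IsUnit (Matrix.J (Fin 2) F) := by
      rw [Matrix.isUnit_iff_isUnit_det]
      exact Matrix.isUnit_det_J _ _
    obtain ⟨J', hJ'⟩ := hJ.exists_right_inv
    funext i
    have := ha (J'.mulVec (Pi.single i 1))
    simp only [B, Matrix.mulVec_mulVec, hJ', Matrix.one_mulVec] at this
    simpa using this
  let L : (ι → F) →ₗ[F] (ι → F) := Matrix.toLin' X - LinearMap.id
  have hL : ∀ a, L a = X.mulVec a - a := fun a => by simp [L]
  have hfix : ∀ a, X.mulVec a = a ↔ a ∈ LinearMap.ker L := fun a => by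
    rw [LinearMap.mem_ker, hL, sub_eq_zero]
  have hX3' : ∀ a, X.mulVec (X.mulVec (X.mulVec a)) = a := fun a => by
    rw [Matrix.mulVec_mulVec, Matrix.mulVec_mulVec, mul_assoc, hX3, Matrix.one_mulVec]
  have hL3 : ∀ a, L (L (L a)) = 0 := fun a => by
    simp only [hL, Matrix.mulVec_sub, hX3']
    funext i
    simp only [Pi.sub_apply, Pi.zero_apply]
    linear_combination (X.mulVec a i - X.mulVec (X.mulVec a) i) * hch
  have hLB : ∀ a b, B (L a) b = B a (X.mulVec (X.mulVec b) - b) := fun a b => by
    rw [hL, hBsub, hBsub']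
    conv_lhs => rw [← hX3' b]
    rw [hinvB, hX3' b]
  have hLB2 : ∀ a b, B (L (L a)) b = B a (L (L b)) := fun a b => by
    rw [hLB, hLB]
    congr 1
    have h0 := hL3 b
    simp only [hL, Matrix.mulVec_sub, hX3'] at h0 ⊢
    funext i
    simp only [Pi.sub_apply]
    linear_combination (X.mulVec b i - X.mulVec (X.mulVec b) i) * hch
  have halt : ∀ u, B (L (L u)) u = 0 := fun u => by
    have h1 := hLB2 u u
    rw [hBskew u] at h1
    have h2 : (2 : F) ≠ 0 := fun h => one_ne_zero (α := F) (by linear_combination hch - h)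
    exact (mul_eq_zero.1 (show (2 : F) * B (L (L u)) u = 0 by linear_combination h1)).resolve_left h2
  -- the square of `X - 1` vanishes
  have hL2 : ∀ a, L (L a) = 0 := by
    by_contra hcon
    push Not at hcon
    obtain ⟨u, hu⟩ := hcon
    obtain ⟨w, hw⟩ : ∃ w, B (L (L u)) w ≠ 0 := by
      by_contra h
      push Not at h
      exact hu (hnd _ h)
    let R2 := LinearMap.range (L ∘ₗ L)
    have h2 : 2 ≤ Module.finrank F R2 := by
      have hli : LinearIndependent F ![(⟨L (L u), u, rfl⟩ : R2), ⟨L (L w), w, rfl⟩] := by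
        refine (LinearIndependent.pair_iff' (fun e => hu (congrArg Subtype.val e))).2 fun c e => hw ?_
        have e' : c • L (L u) = L (L w) := congrArg Subtype.val e
        rw [hLB2, ← e', show B u (c • L (L u)) = c * B u (L (L u)) by
          simp [B, Matrix.mulVec_smul], hBskew, halt, neg_zero, mul_zero]
      simpa using hli.fintype_card_le_finrank
    have hker : R2 ≤ LinearMap.ker L := by
      rintro _ ⟨a, rfl⟩
      exact hL3 a
    let L1 : LinearMap.range L →ₗ[F] (ι → F) := L ∘ₗ (LinearMap.range L).subtype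
    have hr1 := LinearMap.finrank_range_add_finrank_ker L1
    have hr0 := LinearMap.finrank_range_add_finrank_ker L
    have hrange : LinearMap.range L1 = R2 := by
      rw [LinearMap.range_comp, Submodule.range_subtype, ← LinearMap.range_comp]
    have hk1 : Module.finrank F R2 ≤ Module.finrank F (LinearMap.ker L1) := by
      let j : R2 →ₗ[F] LinearMap.ker L1 := LinearMap.codRestrict _
        (LinearMap.codRestrict (LinearMap.range L) R2.subtype (fun r => by
          obtain ⟨a, ha⟩ := r.2
          exact ⟨L a, ha⟩)) (fun r => by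
          rw [LinearMap.mem_ker]
          exact hker r.2)
      refine LinearMap.finrank_le_finrank_of_injective (f := j) fun a b h => ?_
      exact Subtype.ext (congrArg (fun z : LinearMap.ker L1 => ((z : LinearMap.range L) : ι → F)) h)
    have hk2 := Submodule.finrank_mono hker
    rw [hrange] at hr1
    rw [hfr] at hr0
    omega
  have hrk : LinearMap.range L ≤ LinearMap.ker L := by
    rintro _ ⟨a, rfl⟩
    exact hL2 a
  have hr0 := LinearMap.finrank_range_add_finrank_ker L
  have hmono := Submodule.finrank_mono hrk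
  rw [hfr] at hr0
  -- a second conjugate element
  obtain ⟨g, y, hy, hy5⟩ := exists_five_transfer hK x hx
  have hg : ∀ a, (val g).mulVec ((val g⁻¹).mulVec a) = a := fun a => by
    rw [Matrix.mulVec_mulVec, ← map_mul, mul_inv_cancel, map_one, Matrix.one_mulVec]
  have hg' : ∀ a, (val g⁻¹).mulVec ((val g).mulVec a) = a := fun a => by
    rw [Matrix.mulVec_mulVec, ← map_mul, inv_mul_cancel, map_one, Matrix.one_mulVec]
  have hdis : Disjoint (LinearMap.ker L) ((LinearMap.ker L).map (Matrix.toLin' (val g))) := by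
    rw [Submodule.disjoint_def]
    rintro a ha ⟨b, hb, hba⟩
    rw [SetLike.mem_coe] at hb
    rw [Matrix.toLin'_apply] at hba
    have hb' := (hfix b).2 hb
    have h1 : (val (g * x * g⁻¹)).mulVec a = a := by
      rw [map_mul, map_mul, ← Matrix.mulVec_mulVec, ← Matrix.mulVec_mulVec, ← hba, hg', ← hX, hb']
    let S : Subgroup (Matrix.SpecialLinearGroup (Fin 2) K) :=
      { carrier := {z | (val z).mulVec a = a}
        one_mem' := by simp
        mul_mem' := fun {c d} hc hd => by
          simp only [Set.mem_ofPred_eq] at *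
          rw [map_mul, ← Matrix.mulVec_mulVec, hd, hc]
        inv_mem' := fun {c} hc => by
          simp only [Set.mem_ofPred_eq] at *
          conv_lhs => rw [← hc]
          rw [Matrix.mulVec_mulVec, ← map_mul, inv_mul_cancel, map_one, Matrix.one_mulVec] }
    have hxS : x ∈ S := (hfix a).2 ha
    have hyS : y ∈ S := Subgroup.zpowers_le.2 (S.mul_mem hxS h1) hy
    refine no_fixed_of_order_five hF (by rfl) (val y) ?_ ?_ a hyS
    · rw [← map_pow, ← hy5, pow_orderOf_eq_one, map_one]
    · intro h
      have : y = 1 := hval (h.trans (map_one val).symm)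
      rw [this, orderOf_one] at hy5
      omega
  have hdim : Module.finrank F ((LinearMap.ker L).map (Matrix.toLin' (val g))) =
      Module.finrank F (LinearMap.ker L) := by
    refine (Submodule.equivMapOfInjective _ ?_ _).finrank_eq.symm
    intro a b h
    rw [Matrix.toLin'_apply, Matrix.toLin'_apply] at h
    rw [← hg' a, h, hg' b]
  have hle := Submodule.finrank_add_finrank_le_of_disjoint hdis
  rw [hdim, hfr] at hle
  have hk : Module.finrank F (LinearMap.ker L) = 2 := by omega
  refine ⟨hk, fun v w hv hw => ?_⟩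
  have heq : LinearMap.range L = LinearMap.ker L :=
    Submodule.eq_of_le_of_finrank_eq hrk (by omega)
  have hv' : v ∈ LinearMap.range L := heq ▸ (hfix v).1 hv
  obtain ⟨a, rfl⟩ := hv'
  show B (L a) w = 0
  rw [hLB, show X.mulVec w = w from hw, show X.mulVec w = w from hw, sub_self]
  simp [B]

/-- Let F be the field with 3 elements and K the field with 5 elements. For every injective homomorphism φ from SL₂(K) into the symplectic group Sp₄(F) (4 × 4 matrices g with g J gᵀ = J for the standard alternating matrix J) and every element x of order 3 of SL₂(K), the vectors of F⁴ fixed by φ(x) form a 2-dimensional subspace that is totally isotropic for the alternating form defined by J. -/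
theorem result {F : Type*} [Field F] [Fintype F] (hF : Fintype.card F = 3)
    {K : Type*} [Field K] [Fintype K] (hK : Fintype.card K = 5)
    (φ : Matrix.SpecialLinearGroup (Fin 2) K →* ↥(Matrix.symplecticGroup (Fin 2) F)) (hφ : Function.Injective φ)
    (x : Matrix.SpecialLinearGroup (Fin 2) K) (hx : orderOf x = 3) :
    Module.finrank F ↥(LinearMap.ker (Matrix.toLin' ((φ x : Matrix (Fin 2 ⊕ Fin 2) (Fin 2 ⊕ Fin 2) F)) - LinearMap.id)) = 2 ∧
      ∀ v w : Fin 2 ⊕ Fin 2 → F, (φ x : Matrix (Fin 2 ⊕ Fin 2) (Fin 2 ⊕ Fin 2) F).mulVec v = v →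
        (φ x : Matrix (Fin 2 ⊕ Fin 2) (Fin 2 ⊕ Fin 2) F).mulVec w = w →
          dotProduct v ((Matrix.J (Fin 2) F).mulVec w) = 0 := by
  exact fixed_space hF hK φ hφ x hx

end Cfsg.Agent.S3213
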