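import Cfsg.Statements.S3216
import Cfsg.Agent.TimesPSL.Chain
import Cfsg.Agent.TimesPSL.Dih
import Cfsg.Agent.TimesPSL.ElemSylow
import Cfsg.Agent.TimesPSL.Setup
import Cfsg.Agent.TimesPSL.Terminal3

set_option autoImplicit false
open Cfsg
open scoped Pointwise

namespace Cfsg.Agent.S3216

/-- Let G be a finite non-abelian simple group and t an involution of G; write C = C_G(t) and C̄ = C/O(C). If the subgroup of C̄ generated by its 2-elements (the smallest normal subgroup of C̄ of odd index) is isomorphic to Z₂ × PSL₂(q) for some prime power q > 3, then the Sylow 2-subgroups of G are elementary abelian of order 8. -/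
theorem result {G : Type*} [Group G] [Finite G] [IsSimpleGroup G]
    (hG : ¬ IsMulCommutative G) (t : G) (ht : orderOf t = 2) {F : Type*} [Field F] [Fintype F] (hF : 3 < Fintype.card F)
    (hL : Nonempty (↥(Subgroup.closure {x : (↥(Subgroup.centralizer ({t} : Set G)) ⧸ Cfsg.oddCore ↥(Subgroup.centralizer ({t} : Set G))) | ∃ k : ℕ, orderOf x = 2 ^ k}) ≃*
      (Multiplicative (ZMod 2) × Matrix.ProjectiveSpecialLinearGroup (Fin 2) F))) (S : Sylow 2 G) :
    Nat.card ↥(S : Subgroup G) = 8 ∧ ∀ x ∈ (S : Subgroup G), x ^ 2 = 1 := by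
  haveI : Fact (Nat.Prime 2) := ⟨Nat.prime_two⟩
  rcases Cfsg.Agent.TimesPSL.setup t ht hF hL with ⟨B, -, ⟨D⟩⟩ | ⟨B, K, _, -, ⟨X⟩⟩
  · exact (D.false_of_simple hG).elim
  obtain ⟨S₀, hTS⟩ := B.T2.exists_le_sylow
  by_cases hne : (S₀ : Subgroup G) = B.T
  · have hcard := X.card_of_sylow hG S₀ hne
    obtain ⟨g, hg⟩ := MulAction.exists_smul_eq G S S₀
    have hmap : ∀ x ∈ (S : Subgroup G), g * x * g⁻¹ ∈ B.T := fun x hx => by
      rw [← hne, ← hg]
      exact Subgroup.smul_mem_pointwise_smul x (MulAut.conj g) _ hx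
    refine ⟨?_, fun x hx => ?_⟩
    · rw [Sylow.card_eq_multiplicity, ← Sylow.card_eq_multiplicity S₀, hne, X.card_T, hcard]
    · have h := X.T_sq (hmap x hx)
      rw [show g * x * g⁻¹ * (g * x * g⁻¹) = g * (x * x) * g⁻¹ by group, mul_inv_eq_one, mul_eq_left] at h
      rw [pow_two, h]
  · obtain ⟨hinv, hE, -⟩ := X.bigger S₀ hTS hne
    obtain ⟨L⟩ := Cfsg.Agent.TimesPSL.exists_level hinv
    exact (Cfsg.Agent.TimesPSL.no_level hG hE (fun L htr hno => L.no_translations hG hE htr hno) L).elim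

end Cfsg.Agent.S3216
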