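import Cfsg.Statements.S3222
import Cfsg.Agent.SymSixRecog.Cases
import Cfsg.Agent.S3035

set_option autoImplicit false
open Cfsg
open Cfsg.Agent

namespace Cfsg.Agent.S3222

/-- Let G be a finite group of even order such that (1) some involution t lying in the centre of a Sylow 2-subgroup of G has C_G(t) ≅ Z₂ × S₄, and (2) every Sylow 2-subgroup S of G satisfies C_G(S′) = S, where S′ is the derived subgroup of S. Then G = C_G(t) if G is solvable, and G ≅ S₆ otherwise. -/
theorem result {G : Type*} [Group G] [Finite G] (hev : Even (Nat.card G))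
    (t : G) (ht : orderOf t = 2) (T : Sylow 2 G) (htT : t ∈ (T : Subgroup G)) (htc : ∀ s ∈ (T : Subgroup G), s * t = t * s)
    (e : ↥(Subgroup.centralizer ({t} : Set G)) ≃* (Multiplicative (ZMod 2) × Equiv.Perm (Fin 4)))
    (h2 : ∀ S : Sylow 2 G, Subgroup.centralizer ((⁅(S : Subgroup G), (S : Subgroup G)⁆ : Subgroup G) : Set G) = (S : Subgroup G)) :
    (Group.IsSolvable G → Subgroup.centralizer ({t} : Set G) = ⊤) ∧
      (¬ Group.IsSolvable G → Nonempty (G ≃* Equiv.Perm (Fin 6))) := by
  classical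
  let H : SymSixRecog.Hyp t T :=
    { ht := ht, htT := htT, e := e, h2 := h2 T
      hTC := fun s hs => Subgroup.mem_centralizer_singleton_iff.2 (htc s hs) }
  obtain ⟨z, ⟨D⟩⟩ := SymSixRecog.exists_data H
  refine ⟨fun h => @SymSixRecog.Data.solvable_case _ _ _ _ _ _ h D, fun hns => ?_⟩
  obtain ⟨M, hMn, hM2, hzM, htM⟩ := D.exists_index_two
  have hc := D.centralizer_eq_bot M hM2 hzM hns
  have hz : orderOf (⟨z, hzM⟩ : M) = 2 := by
    rw [Subgroup.orderOf_mk]; exact SymSixRecog.orderOf_two D.z_sq D.z_ne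
  rcases S3035.result (⟨z, hzM⟩ : M) hz (D.centralizer_dihedral M hM2 hzM htM) with h | h | h | h | h
  · exfalso
    rw [D.oddCore_sub_eq_bot M, sup_bot_eq] at h
    obtain ⟨e8⟩ := D.centralizer_dihedral M hM2 hzM htM
    have h8 : Nat.card M = 8 := by
      rw [← Nat.card_congr (Subgroup.topEquiv (G := M)).toEquiv, ← h, Nat.card_congr e8.toEquiv,
        DihedralGroup.nat_card]
    have hG := M.card_mul_index
    rw [hM2, h8] at hG
    have h48 : 48 ∣ Nat.card G := D.toHyp.card_C ▸ Subgroup.card_subgroup_dvd_card _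
    rw [← hG] at h48
    norm_num at h48
  · exact h.elim fun φ => (SymSixRecog.not_aut_inner (by simp) φ hc htM).elim
  · exact h.elim fun φ => (SymSixRecog.not_aut_inner (by simp) φ hc htM).elim
  · exfalso
    obtain ⟨φ⟩ := h
    have hcen : Subgroup.center (Matrix.SpecialLinearGroup (Fin 3) (ZMod 2)) = ⊥ := by
      refine (Subgroup.eq_bot_iff_forall _).2 fun c hc => ?_
      obtain ⟨x, hx, hc'⟩ := Matrix.SpecialLinearGroup.mem_center_iff.1 hc
      have key : ∀ y : ZMod 2, y ^ 3 = 1 → y = 1 := by decide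
      rw [Fintype.card_fin] at hx
      rw [key x hx, map_one] at hc'
      exact Subtype.ext hc'.symm
    have hsimp := Classical.isSimpleGroup_psl (ι := Fin 3) (F := ZMod 2) (Or.inl (by simp))
    let q : Matrix.ProjectiveSpecialLinearGroup (Fin 3) (ZMod 2) ≃* M :=
      ((QuotientGroup.quotientMulEquivOfEq hcen).trans QuotientGroup.quotientBot).trans φ.symm
    have : IsSimpleGroup M := MulEquiv.isSimpleGroup q.symm
    have hcard : Nat.card M = 168 := by
      rw [← Nat.card_congr q.toEquiv]
      have h1 := Classical.card_psl_mul (ι := Fin 3) (F := ZMod 2)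
      have h2 := Classical.card_sl_mul (F := ZMod 2) (ZMod.card 2) 3 (by norm_num)
      rw [Fintype.card_fin, ZMod.card, show Nat.gcd 3 (2 - 1) = 1 from rfl, one_mul] at h1
      rw [show (∏ i : Fin 3, (2 ^ 3 - 2 ^ (i : ℕ))) = 168 from by decide, show 2 - 1 = 1 from rfl, one_mul] at h2
      omega
    exact D.no_168 M hM2 htM hcard hc
  · obtain ⟨φ⟩ := h
    exact D.case_alt_six M hM2 htM φ hc

end Cfsg.Agent.S3222
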