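import Cfsg.Statements.S3225
import Cfsg.Agent.TwoTransfer.Basic

set_option autoImplicit false
open Cfsg

namespace Cfsg.Agent.S3225

/-- Let G be a finite group of even order with no subgroup of index 2, S a Sylow 2-subgroup of G and M a subgroup of index 2 in S such that, for some n ≥ 1, every element of S outside M has order greater than 2^(n−1). Then every element of S of order 2ⁿ is conjugate in G to an element of M. -/
theorem result {G : Type*} [Group G] [Finite G] (hev : Even (Nat.card G))
    (hG : ∀ H : Subgroup G, H.index ≠ 2) (S : Sylow 2 G) (M : Subgroup G) (hMS : M ≤ (S : Subgroup G)) (hM : M.relIndex (S : Subgroup G) = 2)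
    (n : ℕ) (hn : 1 ≤ n) (hord : ∀ y ∈ (S : Subgroup G), y ∉ M → 2 ^ (n - 1) < orderOf y)
    (x : G) (hx : x ∈ (S : Subgroup G)) (hxn : orderOf x = 2 ^ n) :
    ∃ g : G, g * x * g⁻¹ ∈ M := by
  by_contra hne
  simp only [not_exists] at hne
  obtain ⟨N, -, hN, -⟩ := TwoTransfer.exists_index_two S M hM x hx (by
    intro k g hk hmem
    by_contra hnot
    have h1 := hord _ hmem hnot
    have h2 : orderOf (g⁻¹ * x ^ 2 ^ k * g) = orderOf (x ^ 2 ^ k) := by
      have := MulEquiv.orderOf_eq (MulAut.conj g⁻¹) (x ^ 2 ^ k)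
      simpa using this
    rw [h2] at h1
    have h3 : orderOf (x ^ 2 ^ k) ∣ 2 ^ (n - 1) := by
      apply orderOf_dvd_of_pow_eq_one
      rw [← pow_mul, ← pow_add, ← orderOf_dvd_iff_pow_eq_one, hxn]
      exact pow_dvd_pow 2 (by omega)
    have := Nat.le_of_dvd (by positivity) h3
    omega) (by
    intro g _ hmem
    apply hne g⁻¹
    simpa using hmem)
  exact hG N hN

end Cfsg.Agent.S3225
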