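import Cfsg.Statements.S3244
import Mathlib
import Cfsg.Agent.Layer.PConstraint
import Cfsg.Agent.Invol.Pair
import Cfsg.Agent.Invol.Count
import Cfsg.Agent.Invol.KleinSylow
import Cfsg.Agent.Fusion.Alperin

set_option autoImplicit false
open Cfsg

namespace Cfsg.Agent.S3244

open Subgroup

section Aux


variable {G : Type*} [Group G]

theorem mem_cent {a x : G} : x ∈ centralizer ({a} : Set G) ↔ x * a = a * x :=
  Subgroup.mem_centralizer_singleton_iff

theorem inv_self {a : G} (ha : orderOf a = 2) : a⁻¹ = a := by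
  rw [inv_eq_iff_mul_eq_one, ← pow_two]
  exact ha ▸ pow_orderOf_eq_one a

theorem orderOf_cj (g a : G) : orderOf (g * a * g⁻¹) = orderOf a :=
  (MulAut.conj g).orderOf_eq a

theorem orderTwo {a : G} (h2 : a * a = 1) (h1 : a ≠ 1) : orderOf a = 2 :=
  orderOf_eq_prime (by rw [pow_two, h2]) h1

theorem normalizer_zpowers_eq {a : G} (ha : orderOf a = 2) :
    normalizer (zpowers a : Set G) = centralizer ({a} : Set G) := by
  have : Finite (zpowers a) :=
    Nat.finite_of_card_ne_zero (by rw [Nat.card_zpowers, ha]; decide)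
  refine le_antisymm (fun x hx => ?_) ?_
  · rw [mem_cent]
    have h1 : x * a * x⁻¹ ∈ zpowers a := (mem_normalizer_iff.1 hx a).1 (mem_zpowers a)
    obtain ⟨k, hk⟩ := mem_zpowers_iff.1 h1
    rcases Int.even_or_odd' k with ⟨m, rfl | rfl⟩
    · rw [zpow_mul, show a ^ (2 : ℤ) = 1 by rw [zpow_two, ← pow_two]; exact ha ▸ pow_orderOf_eq_one a,
        one_zpow, eq_comm, conj_eq_one_iff] at hk
      rw [hk, orderOf_one] at ha
      omega
    · rw [zpow_add, zpow_mul, show a ^ (2 : ℤ) = 1 by rw [zpow_two, ← pow_two]; exact ha ▸ pow_orderOf_eq_one a,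
        one_zpow, one_mul, zpow_one, eq_comm, mul_inv_eq_iff_eq_mul] at hk
      exact hk
  · rw [← centralizer_closure, ← zpowers_eq_closure]
    exact centralizer_le_normalizer _

theorem isPGroup_zpowers {a : G} (ha : orderOf a = 2) : IsPGroup 2 (zpowers a) :=
  IsPGroup.of_card (n := 1) (by rw [Nat.card_zpowers, ha, pow_one])

theorem isTwoLocal_centralizer {a : G} (ha : orderOf a = 2) :
    Cfsg.IsTwoLocal (centralizer ({a} : Set G)) :=
  ⟨zpowers a, isPGroup_zpowers ha,
    fun h => by rw [zpowers_eq_bot] at h; rw [h, orderOf_one] at ha; omega,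
    (normalizer_zpowers_eq ha).symm⟩

/-- The odd core of the centralizer, as a subgroup of the whole group. -/
def theta (a : G) : Subgroup G :=
  (Cfsg.pPrimeCore 2 ↥(centralizer ({a} : Set G))).map (centralizer ({a} : Set G)).subtype

theorem theta_le (a : G) : theta a ≤ centralizer ({a} : Set G) := map_subtype_le _

theorem theta_conj {a c x : G} (hc : c ∈ centralizer ({a} : Set G)) (hx : x ∈ theta a) :
    c * x * c⁻¹ ∈ theta a := by
  obtain ⟨y, hy, rfl⟩ := hx
  exact ⟨⟨c, hc⟩ * y * ⟨c, hc⟩⁻¹, Core.pPrimeCore_normal.conj_mem y hy _, rfl⟩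

theorem theta_coprime [Finite G] (a : G) : (Nat.card (theta a)).Coprime 2 := by
  rw [theta, card_map_of_injective (centralizer ({a} : Set G)).subtype_injective]
  exact Core.coprime_card_pPrimeCore

theorem theta_odd [Finite G] {a x : G} (hx : x ∈ theta a) : Odd (orderOf x) :=
  Nat.coprime_two_right.1 ((theta_coprime a).coprime_dvd_left
    (orderOf_mk x hx ▸ orderOf_dvd_natCard (⟨x, hx⟩ : theta a)))

/-- A normal odd order subgroup of the centralizer lies in its odd core. -/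
theorem le_theta [Finite G] {a : G} {L : Subgroup G} (hL : L ≤ centralizer ({a} : Set G))
    (hn : centralizer ({a} : Set G) ≤ normalizer (L : Set G)) (hc : (Nat.card L).Coprime 2) :
    L ≤ theta a := by
  have : (L.subgroupOf (centralizer ({a} : Set G))).Normal :=
    (normal_subgroupOf_iff_le_normalizer hL).2 hn
  have h := Core.le_pPrimeCore (p := 2) (N := L.subgroupOf (centralizer ({a} : Set G)))
    (by rwa [Nat.card_congr (subgroupOfEquivOfLe hL).toEquiv])
  intro x hx
  exact ⟨⟨x, hL hx⟩, h (mem_subgroupOf.2 hx), rfl⟩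

theorem theta_conj_le [Finite G] (a g : G) :
    (theta a).map (MulAut.conj g).toMonoidHom ≤ theta (g * a * g⁻¹) := by
  refine le_theta ?_ ?_ ?_
  · rintro _ ⟨x, hx, rfl⟩
    have h := mem_cent.1 (theta_le a hx)
    rw [mem_cent]
    calc g * x * g⁻¹ * (g * a * g⁻¹) = g * (x * a) * g⁻¹ := by group
      _ = g * (a * x) * g⁻¹ := by rw [h]
      _ = g * a * g⁻¹ * (g * x * g⁻¹) := by group
  · refine Subgroup.le_normalizer_iff.mpr ?_
    rintro c hc _ ⟨x, hx, rfl⟩
    have hc' : g⁻¹ * c * g ∈ centralizer ({a} : Set G) := by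
      rw [mem_cent]
      calc g⁻¹ * c * g * a = g⁻¹ * (c * (g * a * g⁻¹)) * g := by group
        _ = g⁻¹ * (g * a * g⁻¹ * c) * g := by rw [mem_cent.1 hc]
        _ = a * (g⁻¹ * c * g) := by group
    refine ⟨_, theta_conj hc' hx, ?_⟩
    simp only [MulEquiv.coe_toMonoidHom, MulAut.conj_apply]
    group
  · rw [card_map_of_injective (MulAut.conj g).injective]
    exact theta_coprime a

variable [Finite G]

/-- Balance. -/
theorem mem_theta_of_commute {a b : G} (ha : orderOf a = 2) (hab : a * b = b * a)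
    (hcon : Cfsg.IsPConstrained 2 ↥(centralizer ({b} : Set G))) {x : G} (hx : x ∈ theta a)
    (hxb : x * b = b * x) : x ∈ theta b := by
  set M := centralizer ({b} : Set G) with hM
  have haM : a ∈ M := mem_cent.2 hab
  set P : Subgroup ↥M := zpowers ⟨a, haM⟩ with hP
  have hPp : IsPGroup 2 P := isPGroup_zpowers (by rwa [← orderOf_coe])
  have hle := Layer.pPrimeCore_centralizer_le hcon hPp
  set C := centralizer (P : Set ↥M) with hC
  have hmem : ∀ c : C, ((c : M) : G) ∈ centralizer ({a} : Set G) := by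
    intro c
    have h := mem_centralizer_iff.1 c.2 ⟨a, haM⟩ (mem_zpowers _)
    rw [mem_cent]
    exact (congrArg Subtype.val h).symm
  set ψ : C →* ↥(centralizer ({a} : Set G)) := ((M.subtype.comp C.subtype).codRestrict _ hmem) with hψ
  have hψi : Function.Injective ψ := fun u v h => by
    apply Subtype.ext; apply Subtype.ext
    exact congrArg (fun w : ↥(centralizer ({a} : Set G)) => (w : G)) h
  set N := (Cfsg.pPrimeCore 2 ↥(centralizer ({a} : Set G))).comap ψ with hN
  have : N.Normal := Core.pPrimeCore_normal.comap ψ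
  have hNc : (Nat.card N).Coprime 2 := by
    refine Nat.Coprime.coprime_dvd_left ?_ (Core.coprime_card_pPrimeCore (p := 2)
      (G := ↥(centralizer ({a} : Set G))))
    rw [← card_map_of_injective hψi]
    exact card_dvd_of_le (map_comap_le _ _)
  have hxM : x ∈ M := mem_cent.2 hxb
  have hxC : (⟨x, hxM⟩ : M) ∈ C := by
    rw [hC, hP, zpowers_eq_closure, centralizer_closure, mem_centralizer_singleton_iff]
    exact Subtype.ext (mem_cent.1 (theta_le a hx))
  have hxN : (⟨⟨x, hxM⟩, hxC⟩ : C) ∈ N := by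
    obtain ⟨y, hy, hyx⟩ := hx
    rw [hN, mem_comap]
    rwa [show ψ ⟨⟨x, hxM⟩, hxC⟩ = y from Subtype.ext hyx.symm]
  have h2 : (⟨x, hxM⟩ : M) ∈ Cfsg.pPrimeCore 2 M := hle ⟨_, Core.le_pPrimeCore hNc hxN, rfl⟩
  exact ⟨⟨x, hxM⟩, h2, rfl⟩

/-- An involution acting without fixed points on a finite subgroup inverts it. -/
theorem inverts {z : G} (hz : orderOf z = 2) (K : Subgroup G) (hK : ∀ x ∈ K, z * x * z⁻¹ ∈ K)
    (hfix : ∀ x ∈ K, x * z = z * x → x = 1) {x : G} (hx : x ∈ K) : z * x * z⁻¹ = x⁻¹ := by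
  let f : K → K := fun y => ⟨(y : G)⁻¹ * (z * y * z⁻¹), mul_mem (inv_mem y.2) (hK _ y.2)⟩
  have hf : Function.Injective f := fun u v h => by
    have h' : (u : G)⁻¹ * (z * u * z⁻¹) = (v : G)⁻¹ * (z * v * z⁻¹) := congrArg Subtype.val h
    have hfx : (v : G) * (u : G)⁻¹ = 1 := by
      refine hfix _ (mul_mem v.2 (inv_mem u.2)) ?_
      calc (v : G) * (u : G)⁻¹ * z
          = (v : G) * ((u : G)⁻¹ * (z * u * z⁻¹)) * (z * (u : G)⁻¹) := by group
        _ = (v : G) * ((v : G)⁻¹ * (z * v * z⁻¹)) * (z * (u : G)⁻¹) := by rw [h']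
        _ = z * ((v : G) * (u : G)⁻¹) := by group
    exact Subtype.ext (mul_inv_eq_one.1 hfx).symm
  obtain ⟨y, hy⟩ := (Finite.injective_iff_surjective.1 hf) ⟨x, hx⟩
  have hxy : (y : G)⁻¹ * (z * y * z⁻¹) = x := congrArg Subtype.val hy
  rw [← hxy]
  have hzi := inv_self hz
  calc z * ((y : G)⁻¹ * (z * y * z⁻¹)) * z⁻¹
      = z * (y : G)⁻¹ * z * y * (z⁻¹ * z⁻¹) := by group
    _ = z * (y : G)⁻¹ * z⁻¹ * y * (z * z⁻¹) := by rw [hzi]
    _ = ((y : G)⁻¹ * (z * y * z⁻¹))⁻¹ := by group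

theorem mem_of_sq_mem {H : Subgroup G} {x : G} (hx : Odd (orderOf x)) (h : x * x ∈ H) : x ∈ H := by
  obtain ⟨m, hm⟩ := hx
  have : x = (x * x) ^ (m + 1) := by
    rw [← pow_two, ← pow_mul, show 2 * (m + 1) = orderOf x + 1 by omega, pow_succ,
      pow_orderOf_eq_one, one_mul]
  rw [this]
  exact pow_mem h _

section Setup

variable (S : Sylow 2 G)
    (hcon : ∀ T : Subgroup G, IsPGroup 2 ↥T → T ≠ ⊥ → Cfsg.IsPConstrained 2 ↥(Subgroup.normalizer (T : Set G)))
    (hinv : ∀ X : Subgroup G, Odd (Nat.card ↥X) → (S : Subgroup G) ≤ Subgroup.normalizer (X : Set G) → X = ⊥)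

include hcon in
omit [Finite G] in
theorem con_centralizer {b : G} (hb : orderOf b = 2) :
    Cfsg.IsPConstrained 2 ↥(centralizer ({b} : Set G)) := by
  have h := hcon (zpowers b) (isPGroup_zpowers hb)
    (fun h => by rw [zpowers_eq_bot] at h; rw [h, orderOf_one] at hb; omega)
  rwa [normalizer_zpowers_eq hb] at h

include hinv in
theorem theta_central {z : G} (hzS : ∀ s ∈ S, s * z = z * s) : theta z = ⊥ :=
  hinv _ (Nat.coprime_two_right.1 (theta_coprime z)) (Subgroup.le_normalizer_iff.mpr fun s hs _ hx =>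
    theta_conj (mem_cent.2 (hzS s hs)) hx)

include hcon hinv in
/-- All odd cores of involution centralizers are trivial. -/
theorem theta_eq_bot (A : Subgroup G) (hA : Cfsg.IsSCN (S : Subgroup G) A) (hA3 : ¬ Cfsg.PRankLE 2 2 ↥A)
    {z : G} (hz : orderOf z = 2) (hzS : z ∈ S) (hzc : ∀ s ∈ S, s * z = z * s) :
    (∀ a : G, orderOf a = 2 → theta a = ⊥) ∧
      ∃ u ∈ S, orderOf u = 2 ∧ u ≠ z := by
  classical
  obtain ⟨hAS, hSA, hSC⟩ := hA
  have hAab : ∀ u ∈ A, ∀ v ∈ A, u * v = v * u := fun u hu v hv => by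
    have hv' : v ∈ (S : Subgroup G) ⊓ centralizer (A : Set G) := hSC.symm ▸ hv
    exact mem_centralizer_iff.1 hv'.2 u hu
  let E : Subgroup G :=
    { carrier := {x | x ∈ A ∧ x * x = 1}
      one_mem' := ⟨one_mem A, one_mul 1⟩
      mul_mem' := fun {u v} hu hv => ⟨mul_mem hu.1 hv.1, by
        rw [mul_assoc, ← mul_assoc v, hAab v hv.1 u hu.1, mul_assoc u v v, hv.2, mul_one, hu.2]⟩
      inv_mem' := fun {u} hu => ⟨inv_mem hu.1, by rw [← mul_inv_rev, hu.2, inv_one]⟩ }
  have hEmem : ∀ {x}, x ∈ E ↔ x ∈ A ∧ x * x = 1 := Iff.rfl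
  have hES : ∀ x ∈ E, x ∈ S := fun x hx => hAS hx.1
  have hEinv : ∀ x ∈ E, x⁻¹ = x := fun x hx => inv_eq_of_mul_eq_one_left hx.2
  have hEo : ∀ x ∈ E, x ≠ 1 → orderOf x = 2 := fun x hx h1 => orderTwo hx.2 h1
  have hE8 : 8 ≤ Nat.card E := by
    simp only [Cfsg.PRankLE, not_forall, not_le] at hA3
    obtain ⟨B, hBc, hB2, hBcard⟩ := hA3
    have hBp : IsPGroup 2 B := fun b => ⟨1, Subtype.ext (by simpa using hB2 b b.2)⟩
    obtain ⟨k, hk⟩ := IsPGroup.iff_card.1 hBp
    have hk3 : 2 ^ 3 ≤ Nat.card B := by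
      rw [hk] at hBcard ⊢
      exact Nat.pow_le_pow_right two_pos ((Nat.pow_lt_pow_iff_right (by omega)).1 hBcard)
    have hle : B.map A.subtype ≤ E := by
      rintro _ ⟨b, hb, rfl⟩
      exact ⟨b.2, by rw [← pow_two]; exact congrArg Subtype.val (hB2 b hb)⟩
    have h := Subgroup.card_le_of_le hle
    rw [card_map_of_injective A.subtype_injective] at h
    omega
  have hzA : z ∈ A := hSC ▸ Subgroup.mem_inf.2 ⟨hzS, mem_centralizer_iff.2 fun u hu => hzc u (hAS hu)⟩
  have hzE : z ∈ E := ⟨hzA, by rw [← pow_two]; exact hz ▸ pow_orderOf_eq_one z⟩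
  have hz1 : z ≠ 1 := fun h => by rw [h, orderOf_one] at hz; omega
  obtain ⟨u₀, hu₀, hu₀1, hu₀z⟩ : ∃ u ∈ E, u ≠ 1 ∧ u ≠ z := by
    by_contra hno
    push Not at hno
    have hs : (E : Set G) ⊆ {1, z} := fun u hu => by
      by_cases h : u = 1
      · exact Or.inl h
      · exact Or.inr (hno u hu h)
    have h2 := Set.ncard_le_ncard hs (Set.toFinite _)
    rw [← Nat.card_coe_set_eq] at h2
    have h3 : ({1, z} : Set G).ncard ≤ 2 := (Set.ncard_insert_le _ _).trans (by rw [Set.ncard_singleton])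
    have : Nat.card E ≤ 2 := h2.trans h3
    omega
  have hzth : theta z = ⊥ := theta_central S hinv hzc
  have hinvz : ∀ a : G, orderOf a = 2 → z * a = a * z → ∀ x ∈ theta a, z * x * z⁻¹ = x⁻¹ := by
    intro a ha hza x hx
    refine inverts hz (theta a) (fun y hy => theta_conj (mem_cent.2 hza) hy) (fun y hy hyz => ?_) hx
    have h := mem_theta_of_commute ha hza.symm (con_centralizer hcon hz) hy hyz
    rwa [hzth, mem_bot] at h
  have hab : ∀ a : G, orderOf a = 2 → z * a = a * z → ∀ x ∈ theta a, ∀ y ∈ theta a, x * y = y * x := by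
    intro a ha hza x hx y hy
    have h := hinvz a ha hza _ (mul_mem hx hy)
    have e : z * (x * y) * z⁻¹ = (z * x * z⁻¹) * (z * y * z⁻¹) := by group
    rw [e, hinvz a ha hza x hx, hinvz a ha hza y hy, ← mul_inv_rev] at h
    exact (inv_injective h).symm
  -- elements fixed by a subgroup of index at most two of `E`
  let T : Set G := {x | ∃ a ∈ E, a ≠ 1 ∧ x ∈ theta a ∧
    2 * Nat.card ↥(E ⊓ centralizer ({x} : Set G)) ≥ Nat.card E}
  have hgen : ∀ a ∈ E, a ≠ 1 → ∀ n : ℕ, ∀ x ∈ theta a,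
      Nat.card E ≤ n + Nat.card ↥(E ⊓ centralizer ({x} : Set G)) → x ∈ closure T := by
    intro a haE ha1 n
    induction n using Nat.strong_induction_on with
    | _ n ih =>
    intro x hx hn
    have haz : z * a = a * z := hAab z hzA a haE.1
    have hab' := hab a (hEo a haE ha1) haz
    set B := E ⊓ centralizer ({x} : Set G) with hB
    by_cases hbig : 2 * Nat.card B ≥ Nat.card E
    · exact subset_closure ⟨a, haE, ha1, hx, hbig⟩
    obtain ⟨u, huE, hu, v, hvE, hv, huv⟩ : ∃ u ∈ E, u ∉ B ∧ ∃ v ∈ E, v ∉ B ∧ u * v ∉ B := by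
      obtain ⟨u, huE, hu⟩ : ∃ u ∈ E, u ∉ B := by
        by_contra hno
        push Not at hno
        have := Subgroup.card_le_of_le (show E ≤ B from hno)
        omega
      refine ⟨u, huE, hu, ?_⟩
      by_contra hno
      push Not at hno
      apply hbig
      have hs : (E : Set G) ⊆ (B : Set G) ∪ (fun w => u * w) '' (B : Set G) := by
        intro w hw
        by_cases hwB : w ∈ B
        · exact Or.inl hwB
        · exact Or.inr ⟨u * w, hno w hw hwB, show u * (u * w) = w by rw [← mul_assoc, huE.2, one_mul]⟩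
      have h2 := Set.ncard_le_ncard hs (Set.toFinite _)
      have h3 := (Set.ncard_union_le (B : Set G) ((fun w => u * w) '' (B : Set G))).trans
        (Nat.add_le_add_left (Set.ncard_image_le (f := fun w => u * w) (Set.toFinite (B : Set G))) (B : Set G).ncard)
      have := h2.trans h3
      rw [← Nat.card_coe_set_eq, ← Nat.card_coe_set_eq] at this
      change Nat.card E ≤ Nat.card B + Nat.card B at this
      omega
    have hcE : ∀ w ∈ E, ∀ y ∈ theta a, w * y * w⁻¹ ∈ theta a := fun w hw y hy =>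
      theta_conj (mem_cent.2 (hAab w hw.1 a haE.1)) hy
    have hodd : ∀ y ∈ theta a, Odd (orderOf y) := fun y hy => theta_odd hy
    have hfixconj : ∀ b ∈ B, ∀ w ∈ E, ∀ y : G, y * b = b * y → (w * y * w⁻¹) * b = b * (w * y * w⁻¹) := by
      intro b hb w hw y hy
      have hbw : b * w = w * b := hAab b hb.1.1 w hw.1
      have hwb : w⁻¹ * b = b * w⁻¹ := by rw [hEinv w hw, hbw]
      calc w * y * w⁻¹ * b = w * (y * b) * w⁻¹ := by rw [mul_assoc _ w⁻¹, hwb]; group
        _ = w * (b * y) * w⁻¹ := by rw [hy]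
        _ = (w * b) * y * w⁻¹ := by group
        _ = b * (w * y * w⁻¹) := by rw [← hbw]; group
    have hxB : ∀ b ∈ B, x * b = b * x := fun b hb => (mem_cent.1 hb.2).symm
    -- elements fixed by a larger subgroup
    have step : ∀ y ∈ theta a, (∀ b ∈ B, y * b = b * y) → ∀ w ∈ E, w ∉ B → y * w = w * y →
        y ∈ closure T := by
      intro y hy hyB w hw hwB hyw
      have hlt : B < E ⊓ centralizer ({y} : Set G) := by
        refine lt_of_le_of_ne (fun b hb => ⟨hb.1, mem_cent.2 (hyB b hb).symm⟩) fun h => hwB ?_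
        rw [h]
        exact ⟨hw, mem_cent.2 hyw.symm⟩
      have hcard : Nat.card B < Nat.card ↥(E ⊓ centralizer ({y} : Set G)) :=
        lt_of_not_ge fun h => hlt.ne (eq_of_le_of_card_ge hlt.le h)
      refine ih (n - 1) (by have := Subgroup.card_le_of_le (inf_le_left : B ≤ E); omega) y hy ?_
      omega
    have hsplit : ∀ y ∈ theta a, ∀ w ∈ E, (y * (w * y * w⁻¹)) * w = w * (y * (w * y * w⁻¹)) ∧
        (y * (w * y * w⁻¹)) * (y * (w * y * w⁻¹)⁻¹) = y * y ∧
        w * (y * (w * y * w⁻¹)⁻¹) * w⁻¹ = (y * (w * y * w⁻¹)⁻¹)⁻¹ := by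
      intro y hy w hw
      set y' := w * y * w⁻¹ with hy'
      have hy'mem := hcE w hw y hy
      have hc : y * y' = y' * y := hab' y hy y' hy'mem
      have hww : w * w = 1 := hw.2
      have hwi := hEinv w hw
      have hback : w * y' * w⁻¹ = y := by
        rw [hy', hwi, ← mul_assoc, ← mul_assoc, hww, one_mul, mul_assoc, hww, mul_one]
      refine ⟨?_, ?_, ?_⟩
      · have : w * (y * y') * w⁻¹ = y * y' := by
          rw [show w * (y * y') * w⁻¹ = (w * y * w⁻¹) * (w * y' * w⁻¹) by group, hback, ← hy', hc]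
        exact (mul_inv_eq_iff_eq_mul.1 this).symm
      · rw [hc, mul_assoc, ← mul_assoc y, ← mul_assoc y']
        rw [show y' * (y * y) * y'⁻¹ = y * y from by
          rw [mul_inv_eq_iff_eq_mul, ← mul_assoc, ← hc, mul_assoc, ← hc, ← mul_assoc]]
      · rw [show w * (y * y'⁻¹) * w⁻¹ = (w * y * w⁻¹) * (w * y' * w⁻¹)⁻¹ by group, hback, ← hy']
        group
    obtain ⟨h1, h2, h3⟩ := hsplit x hx u huE
    set y₁ := x * (u * x * u⁻¹) with hy₁
    set y₂ := x * (u * x * u⁻¹)⁻¹ with hy₂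
    have hy₁m : y₁ ∈ theta a := mul_mem hx (hcE u huE x hx)
    have hy₂m : y₂ ∈ theta a := mul_mem hx (inv_mem (hcE u huE x hx))
    have hy₁B : ∀ b ∈ B, y₁ * b = b * y₁ := fun b hb =>
      (Commute.mul_left (hxB b hb) (hfixconj b hb u huE x (hxB b hb))).eq
    have hy₂B : ∀ b ∈ B, y₂ * b = b * y₂ := fun b hb =>
      (Commute.mul_left (hxB b hb) (Commute.inv_left (hfixconj b hb u huE x (hxB b hb)))).eq
    have hy₂cl : y₂ ∈ closure T := by
      obtain ⟨k1, k2, k3⟩ := hsplit y₂ hy₂m v hvE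
      set w₁ := y₂ * (v * y₂ * v⁻¹) with hw₁
      set w₂ := y₂ * (v * y₂ * v⁻¹)⁻¹ with hw₂
      refine mem_of_sq_mem (hodd _ hy₂m) ?_
      rw [← k2]
      refine mul_mem (step w₁ (mul_mem hy₂m (hcE v hvE _ hy₂m)) (fun b hb => ?_) v hvE hv k1)
        (step w₂ (mul_mem hy₂m (inv_mem (hcE v hvE _ hy₂m))) (fun b hb => ?_) (u * v) (mul_mem huE hvE) huv ?_)
      · exact (Commute.mul_left (hy₂B b hb) (hfixconj b hb v hvE y₂ (hy₂B b hb))).eq
      · exact (Commute.mul_left (hy₂B b hb) (Commute.inv_left (hfixconj b hb v hvE y₂ (hy₂B b hb)))).eq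
      · have hu2 : u * w₂ * u⁻¹ = w₂⁻¹ := by
          have huv' : u * v = v * u := hAab u huE.1 v hvE.1
          have huv2 : v⁻¹ * u⁻¹ = u⁻¹ * v⁻¹ := by rw [← mul_inv_rev, huv', mul_inv_rev]
          have huy : u * y₂ * u⁻¹ = y₂⁻¹ := h3
          have hc : Commute y₂ (v * y₂ * v⁻¹) := hab' _ hy₂m _ (hcE v hvE _ hy₂m)
          rw [hw₂]
          calc u * (y₂ * (v * y₂ * v⁻¹)⁻¹) * u⁻¹
              = (u * y₂ * u⁻¹) * ((u * v) * y₂ * (u * v)⁻¹)⁻¹ := by group
            _ = (u * y₂ * u⁻¹) * (v * (u * y₂ * u⁻¹) * v⁻¹)⁻¹ := by rw [huv']; group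
            _ = y₂⁻¹ * (v * y₂ * v⁻¹) := by rw [huy]; group
            _ = (v * y₂ * v⁻¹) * y₂⁻¹ := hc.inv_left.eq
            _ = (y₂ * (v * y₂ * v⁻¹)⁻¹)⁻¹ := by group
        have : (u * v) * w₂ * (u * v)⁻¹ = w₂ := by
          rw [show (u * v) * w₂ * (u * v)⁻¹ = u * (v * w₂ * v⁻¹) * u⁻¹ by group, k3,
            show u * w₂⁻¹ * u⁻¹ = (u * w₂ * u⁻¹)⁻¹ by group, hu2, inv_inv]
        exact (mul_inv_eq_iff_eq_mul.1 this).symm
    refine mem_of_sq_mem (hodd x hx) ?_
    rw [← h2]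
    exact mul_mem (step y₁ hy₁m hy₁B u huE hu h1) hy₂cl
  have hTcomm : ∀ x ∈ T, ∀ y ∈ T, x * y = y * x := by
    rintro x ⟨a, haE, ha1, hxa, hxE⟩ y ⟨b, hbE, hb1, hyb, hyE⟩
    obtain ⟨c, hc, hc1⟩ : ∃ c, c ∈ (E ⊓ centralizer ({x} : Set G)) ⊓ (E ⊓ centralizer ({y} : Set G)) ∧ c ≠ 1 := by
      by_contra hno
      push Not at hno
      have hdisj : (E ⊓ centralizer ({x} : Set G)) ⊓ (E ⊓ centralizer ({y} : Set G)) = ⊥ :=
        (eq_bot_iff_forall _).2 hno
      set B := E ⊓ centralizer ({x} : Set G) with hB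
      set D := E ⊓ centralizer ({y} : Set G) with hD
      have hinj : Function.Injective (fun p : B × D => (⟨(p.1 : G) * p.2,
          mul_mem p.1.2.1 p.2.2.1⟩ : E)) := by
        rintro ⟨p1, p2⟩ ⟨q1, q2⟩ h
        have h' : (p1 : G) * p2 = q1 * q2 := congrArg Subtype.val h
        have hm : (q1 : G)⁻¹ * p1 ∈ B ⊓ D := by
          refine Subgroup.mem_inf.2 ⟨B.mul_mem (B.inv_mem q1.2) p1.2, ?_⟩
          rw [show (q1 : G)⁻¹ * p1 = q2 * (p2 : G)⁻¹ by
            rw [eq_mul_inv_iff_mul_eq, mul_assoc, h', inv_mul_cancel_left]]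
          exact D.mul_mem q2.2 (D.inv_mem p2.2)
        rw [hdisj, mem_bot, inv_mul_eq_one] at hm
        obtain rfl : q1 = p1 := Subtype.ext hm
        exact Prod.ext rfl (Subtype.ext (mul_left_cancel h'))
      have hcard := Nat.card_le_card_of_injective _ hinj
      rw [Nat.card_prod] at hcard
      nlinarith
    obtain ⟨⟨hcE, hcx⟩, -, hcy⟩ := hc
    have hca : ∀ w ∈ E, w * c = c * w := fun w hw => hAab w hw.1 c hcE.1
    have hx' := mem_theta_of_commute (hEo a haE ha1) (hca a haE) (con_centralizer hcon (hEo c hcE hc1))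
      hxa (mem_cent.1 hcx).symm
    have hy' := mem_theta_of_commute (hEo b hbE hb1) (hca b hbE) (con_centralizer hcon (hEo c hcE hc1))
      hyb (mem_cent.1 hcy).symm
    exact hab c (hEo c hcE hc1) (hAab z hzA c hcE.1) x hx' y hy'
  let U : Set G := {x | ∃ a ∈ E, a ≠ 1 ∧ x ∈ theta a}
  have hUT : U ⊆ closure T := fun x ⟨a, haE, ha1, hx⟩ =>
    hgen a haE ha1 (Nat.card E) x hx (Nat.le_add_right _ _)
  have hclc : ∀ x ∈ closure T, ∀ y ∈ closure T, x * y = y * x := by
    have h1 : closure T ≤ centralizer T := (closure_le _).2 fun x hx =>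
      mem_centralizer_iff.2 fun y hy => hTcomm y hy x hx
    have h2 : closure T ≤ centralizer (closure T : Set G) := by
      rw [centralizer_closure]; exact h1
    exact fun x hx y hy => mem_centralizer_iff.1 (h2 hy) x hx
  have hWodd : ∀ x ∈ closure U, Odd (orderOf x) := by
    intro x hx
    induction hx using closure_induction with
    | mem x hx => obtain ⟨a, -, -, h⟩ := hx; exact theta_odd h
    | one => rw [orderOf_one]; exact odd_one
    | mul x y hx hy ihx ihy =>
      have hle : closure U ≤ closure T := (closure_le _).2 hUT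
      exact (ihx.mul ihy).of_dvd_nat
        ((Commute.orderOf_mul_dvd_mul_orderOf (hclc x (hle hx) y (hle hy))))
    | inv x _ ih => rwa [orderOf_inv]
  have hW : closure U = ⊥ := by
    refine hinv _ (Nat.odd_iff.2 (Nat.two_dvd_ne_zero.1 fun h2 => ?_)) ?_
    · obtain ⟨w, hw⟩ := exists_prime_orderOf_dvd_card' 2 h2
      have := hWodd w w.2
      rw [orderOf_coe, hw] at this
      exact Nat.not_odd_iff_even.2 even_two this
    · intro s hs
      have hs' : ∀ s ∈ S, ∀ x ∈ closure U, s * x * s⁻¹ ∈ closure U := by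
        intro s hs x hx
        have : closure U ≤ (closure U).comap (MulAut.conj s).toMonoidHom := by
          rw [closure_le]
          rintro y ⟨a, haE, ha1, hy⟩
          refine subset_closure ⟨s * a * s⁻¹, ⟨(mem_normalizer_iff.1 (hSA hs) a).1 haE.1, ?_⟩, ?_,
            theta_conj_le a s ⟨y, hy, rfl⟩⟩
          · rw [show s * a * s⁻¹ * (s * a * s⁻¹) = s * (a * a) * s⁻¹ by group, haE.2, mul_one,
              mul_inv_cancel]
          · exact fun h => ha1 (conj_eq_one_iff.1 h)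
        exact this hx
      exact (Subgroup.le_normalizer_iff.mpr hs') hs
  have hEth : ∀ a ∈ E, a ≠ 1 → theta a = ⊥ := fun a haE ha1 =>
    (eq_bot_iff_forall _).2 fun x hx => mem_bot.1 (hW ▸ subset_closure ⟨a, haE, ha1, hx⟩)
  refine ⟨fun a ha => ?_, u₀, hES _ hu₀, hEo _ hu₀ hu₀1, hu₀z⟩
  obtain ⟨g, hg⟩ := Invol.exists_sylow_conj_mem S ha
  suffices h : theta (g * a * g⁻¹) = ⊥ by
    have h' := theta_conj_le a g
    rw [h, le_bot_iff, map_eq_bot_iff_of_injective _ (MulAut.conj g).injective] at h'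
    exact h'
  set y := g * a * g⁻¹ with hy
  have hy2 : orderOf y = 2 := (orderOf_cj g a).trans ha
  obtain ⟨u, huE, hu1, huz, huy⟩ : ∃ u ∈ E, u ≠ 1 ∧ u ≠ z ∧ y * u = u * y := by
    set C := E ⊓ centralizer ({y} : Set G) with hC
    by_contra hno
    push Not at hno
    have hCs : (C : Set G) ⊆ {1, z} := fun u hu => by
      by_cases h : u = 1
      · exact Or.inl h
      · refine Or.inr ?_
        by_contra hne
        exact hno u hu.1 h hne (mem_cent.1 hu.2).symm
    have h2 := Set.ncard_le_ncard hCs (Set.toFinite _)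
    rw [← Nat.card_coe_set_eq] at h2
    have hC2 : Nat.card C ≤ 2 :=
      h2.trans ((Set.ncard_insert_le _ _).trans (by rw [Set.ncard_singleton]))
    have hyy : y * y = 1 := by rw [← pow_two]; exact hy2 ▸ pow_orderOf_eq_one y
    have hyi := inv_self hy2
    have hyE : ∀ w ∈ E, y * w * y⁻¹ ∈ E := fun w hw =>
      ⟨(mem_normalizer_iff.1 (hSA hg) w).1 hw.1, by
        rw [show y * w * y⁻¹ * (y * w * y⁻¹) = y * (w * w) * y⁻¹ by group, hw.2, mul_one, mul_inv_cancel]⟩
    let f : E →* G :=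
      { toFun := fun w => (w : G) * (y * w * y⁻¹)
        map_one' := by simp
        map_mul' := fun v w => by
          have hc := hAab _ (hyE v v.2).1 w w.2.1
          simp only [Subgroup.coe_mul]
          calc (v : G) * w * (y * (v * w) * y⁻¹)
              = (v : G) * ((w : G) * (y * v * y⁻¹)) * (y * w * y⁻¹) := by group
            _ = (v : G) * ((y * v * y⁻¹) * w) * (y * w * y⁻¹) := by rw [hc]
            _ = _ := by group }
    have hker : f.ker.map E.subtype ≤ C := by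
      rintro _ ⟨w, hw, rfl⟩
      refine ⟨w.2, mem_cent.2 ?_⟩
      have h : (w : G) * (y * w * y⁻¹) = 1 := hw
      rw [mul_eq_one_iff_eq_inv', hEinv _ w.2, mul_inv_eq_iff_eq_mul] at h
      exact h.symm
    have hrange : f.range ≤ C := by
      rintro _ ⟨w, rfl⟩
      refine ⟨mul_mem w.2 (hyE w w.2), mem_cent.2 ?_⟩
      change (w : G) * (y * w * y⁻¹) * y = y * ((w : G) * (y * w * y⁻¹))
      have hc := hAab _ (hyE w w.2).1 w w.2.1
      rw [show (w : G) * (y * w * y⁻¹) * y = w * y * w by group, ← hc,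
        show y * (y * w * y⁻¹ * w) = (y * y) * w * y⁻¹ * w by group, hyy, one_mul, hyi]
    have h3 := f.ker.card_mul_index
    rw [Subgroup.index_ker, ← card_map_of_injective E.subtype_injective] at h3
    have h4 := Nat.mul_le_mul (Subgroup.card_le_of_le hker) (Subgroup.card_le_of_le hrange)
    rw [h3] at h4
    have := Nat.mul_le_mul hC2 hC2
    omega
  refine (eq_bot_iff_forall _).2 fun x hx => ?_
  have hyz : y * z = z * y := hzc y hg
  have hxz := hinvz y hy2 hyz.symm x hx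
  have hxu : u * x * u⁻¹ = x⁻¹ := inverts (hEo u huE hu1) (theta y)
    (fun w hw => theta_conj (mem_cent.2 huy.symm) hw) (fun w hw hwu => by
      have h := mem_theta_of_commute hy2 huy (con_centralizer hcon (hEo u huE hu1)) hw hwu
      rwa [hEth u huE hu1, mem_bot] at h) hx
  have hzu : z * u ∈ E := mul_mem hzE huE
  have hzu1 : z * u ≠ 1 := fun h => huz (by rw [mul_eq_one_iff_inv_eq, hEinv z hzE] at h; exact h.symm)
  have hfx : z * u * x * (z * u)⁻¹ = x := by
    rw [show z * u * x * (z * u)⁻¹ = z * (u * x * u⁻¹) * z⁻¹ by group, hxu,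
      show z * x⁻¹ * z⁻¹ = (z * x * z⁻¹)⁻¹ by group, hxz, inv_inv]
  have h := mem_theta_of_commute hy2 (b := z * u)
    (by rw [← mul_assoc, hyz, mul_assoc, huy, mul_assoc])
    (con_centralizer hcon (hEo _ hzu hzu1)) hx ((mul_inv_eq_iff_eq_mul.1 hfx).symm)
  rwa [hEth _ hzu hzu1, mem_bot] at h

include hcon in
theorem selfCentral_local (hth : ∀ a : G, orderOf a = 2 → theta a = ⊥) {T : Subgroup G}
    (hT : IsPGroup 2 T) (hT1 : T ≠ ⊥) :
    Layer.PCoreSelfCentral 2 ↥(normalizer (T : Set G)) := by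
  set M := normalizer (T : Set G) with hM
  have : Nontrivial T := (Subgroup.nontrivial_iff_ne_bot T).2 hT1
  have := hT.center_nontrivial
  obtain ⟨k, hk⟩ := IsPGroup.iff_card.1 (hT.to_subgroup (center T))
  have hk0 : k ≠ 0 := fun h => by
    rw [h, pow_zero] at hk
    exact (Finite.one_lt_card (α := center T)).ne' hk
  obtain ⟨t, ht⟩ := exists_prime_orderOf_dvd_card' 2 (hk ▸ dvd_pow_self 2 hk0)
  set t' : G := ((t : T) : G) with ht'
  have ht2 : orderOf t' = 2 := by rw [ht', orderOf_coe, orderOf_coe, ht]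
  have hTt : ∀ u ∈ T, u * t' = t' * u := fun u hu =>
    congrArg Subtype.val (mem_center_iff.1 t.2 ⟨u, hu⟩)
  set L := (Cfsg.pPrimeCore 2 ↥M).map M.subtype with hL
  have hLC : L ≤ centralizer (T : Set G) := Layer.pPrimeCore_normalizer_le_centralizer hT
  set C := centralizer ({t'} : Set G) with hC
  have hTC : T ≤ C := fun u hu => mem_cent.2 (hTt u hu)
  set P := T.subgroupOf C with hP
  have hPp : IsPGroup 2 P := hT.comap_of_injective _ C.subtype_injective
  have hle := Layer.pPrimeCore_centralizer_le (con_centralizer hcon ht2) hPp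
  have hLbot : L = ⊥ := by
    refine (eq_bot_iff_forall _).2 fun x hx => ?_
    have hxC : x ∈ C := mem_cent.2 (mem_centralizer_iff.1 (hLC hx) t' (t : T).2).symm
    set D := centralizer (P : Set C) with hD
    have hDle : ∀ d : D, ((d : C) : G) ∈ M := fun d => by
      refine centralizer_le_normalizer _ (mem_centralizer_iff.2 fun u hu => ?_)
      exact congrArg Subtype.val (mem_centralizer_iff.1 d.2 ⟨u, hTC hu⟩ (mem_subgroupOf.2 hu))
    set ψ : D →* M := (C.subtype.comp D.subtype).codRestrict _ hDle with hψ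
    have hψi : Function.Injective ψ := fun u v h => by
      apply Subtype.ext; apply Subtype.ext
      exact congrArg (fun w : M => (w : G)) h
    set N := (Cfsg.pPrimeCore 2 ↥M).comap ψ with hN
    have : N.Normal := Core.pPrimeCore_normal.comap ψ
    have hNc : (Nat.card N).Coprime 2 := by
      refine Nat.Coprime.coprime_dvd_left ?_ (Core.coprime_card_pPrimeCore (p := 2) (G := ↥M))
      rw [← card_map_of_injective hψi]
      exact card_dvd_of_le (map_comap_le _ _)
    have hxD : (⟨x, hxC⟩ : C) ∈ D := mem_centralizer_iff.2 fun u hu =>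
      Subtype.ext (mem_centralizer_iff.1 (hLC hx) u (mem_subgroupOf.1 hu))
    have hxN : (⟨⟨x, hxC⟩, hxD⟩ : D) ∈ N := by
      obtain ⟨w, hw, hwx⟩ := hx
      rw [hN, mem_comap]
      rwa [show ψ ⟨⟨x, hxC⟩, hxD⟩ = w from Subtype.ext hwx.symm]
    have h2 : x ∈ theta t' := ⟨⟨x, hxC⟩, hle ⟨_, Core.le_pPrimeCore hNc hxN, rfl⟩, rfl⟩
    rwa [hth t' ht2, mem_bot] at h2
  have hO : Cfsg.pPrimeCore 2 ↥M = ⊥ := by
    rw [hL, map_eq_bot_iff_of_injective _ M.subtype_injective] at hLbot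
    exact hLbot
  have h := Layer.isPConstrained_iff_selfCentral.1 (hcon T hT hT1)
  exact Layer.pCoreSelfCentral_congr
    ((QuotientGroup.quotientMulEquivOfEq hO).trans QuotientGroup.quotientBot) h

end Setup

omit [Finite G] in
theorem isMaximalTwoLocal_conj {y : G} (g : G) (h : Cfsg.IsMaximalTwoLocal (centralizer ({y} : Set G)))
    (hy : orderOf y = 2) : Cfsg.IsMaximalTwoLocal (centralizer ({g * y * g⁻¹} : Set G)) := by
  refine ⟨isTwoLocal_centralizer ((orderOf_cj g y).trans hy), ?_⟩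
  rintro N ⟨T, hT, hT1, rfl⟩ hle
  have hmap : ∀ w : G, (centralizer ({w} : Set G)).map (MulAut.conj g⁻¹).toMonoidHom =
      centralizer ({g⁻¹ * w * g} : Set G) := by
    intro w
    ext x
    rw [mem_map_equiv, mem_cent, mem_cent]
    simp only [MulAut.conj_symm_apply, inv_inv]
    constructor
    · intro h
      calc x * (g⁻¹ * w * g) = g⁻¹ * ((g * x * g⁻¹) * w) * g := by group
        _ = g⁻¹ * (w * (g * x * g⁻¹)) * g := by rw [h]
        _ = g⁻¹ * w * g * x := by group
    · intro h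
      calc g * x * g⁻¹ * w = g * (x * (g⁻¹ * w * g)) * g⁻¹ := by group
        _ = g * (g⁻¹ * w * g * x) * g⁻¹ := by rw [h]
        _ = w * (g * x * g⁻¹) := by group
  have h2 := h.2 ((normalizer (T : Set G)).map (MulAut.conj g⁻¹).toMonoidHom)
    ⟨T.map (MulAut.conj g⁻¹).toMonoidHom, hT.map _,
      fun he => hT1 ((map_eq_bot_iff_of_injective _ (MulAut.conj g⁻¹).injective).1 he),
      map_equiv_normalizer_eq _ _⟩
    (by
      have := map_mono (f := (MulAut.conj g⁻¹).toMonoidHom) hle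
      rwa [hmap, show g⁻¹ * (g * y * g⁻¹) * g = y by group] at this)
  apply map_injective (f := (MulAut.conj g⁻¹).toMonoidHom) (MulAut.conj g⁻¹).injective
  rw [h2, hmap, show g⁻¹ * (g * y * g⁻¹) * g = y by group]

theorem exists_central {u y : G} (hu : orderOf u = 2) (hy : orderOf y = 2)
    (he : Even (orderOf (u * y))) :
    ∃ i : G, orderOf i = 2 ∧ i * u = u * i ∧ i * y = y * i := by
  obtain ⟨m, hm⟩ := he
  have hpos := orderOf_pos (u * y)
  have hu' := inv_self hu
  have hy' := inv_self hy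
  have hi : ((u * y) ^ m)⁻¹ = (u * y) ^ m := by
    rw [inv_eq_iff_mul_eq_one, ← pow_add, ← hm, pow_orderOf_eq_one]
  refine ⟨(u * y) ^ m, ?_, ?_, ?_⟩
  · refine orderOf_eq_prime ?_ (pow_ne_one_of_lt_orderOf (by omega) (by omega))
    rw [← pow_mul, show m * 2 = orderOf (u * y) by omega, pow_orderOf_eq_one]
  · have h : u * (u * y) ^ m * u⁻¹ = (u * y) ^ m := by
      rw [← conj_pow, show u * (u * y) * u⁻¹ = (u * y)⁻¹ by
        rw [mul_inv_rev, hy', hu', ← mul_assoc u u, show u * u = 1 by rw [← pow_two]; exact hu ▸ pow_orderOf_eq_one u, one_mul],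
        inv_pow, hi]
    exact (mul_inv_eq_iff_eq_mul.1 h).symm
  · have h : y * (u * y) ^ m * y⁻¹ = (u * y) ^ m := by
      rw [← conj_pow, show y * (u * y) * y⁻¹ = (u * y)⁻¹ by
        rw [mul_inv_rev, hy', hu', mul_assoc, mul_assoc, show y * y = 1 by rw [← pow_two]; exact hy ▸ pow_orderOf_eq_one y, mul_one],
        inv_pow, hi]
    exact (mul_inv_eq_iff_eq_mul.1 h).symm

end Aux


/-- Say that a finite group G is of characteristic 2 type in the early sense when a Sylow 2-subgroup S of G has a self-centralizing normal subgroup of rank at least 3, S normalizes no nontrivial subgroup of odd order, and every 2-local subgroup of G is 2-constrained. If G is a non-abelian simple group of characteristic 2 type in this sense, then for some maximal 2-local subgroup M of G the centre of O₂(M) is not cyclic. -/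
theorem result {G : Type*} [Group G] [Finite G] [IsSimpleGroup G]
    (hG : ¬ IsMulCommutative G) (S : Sylow 2 G) (A : Subgroup G) (hA : Cfsg.IsSCN (S : Subgroup G) A) (hA3 : ¬ Cfsg.PRankLE 2 2 ↥A)
    (hinv : ∀ X : Subgroup G, Odd (Nat.card ↥X) → (S : Subgroup G) ≤ Subgroup.normalizer (X : Set G) → X = ⊥)
    (hcon : ∀ T : Subgroup G, IsPGroup 2 ↥T → T ≠ ⊥ → Cfsg.IsPConstrained 2 ↥(Subgroup.normalizer (T : Set G))) :
    ∃ M : Subgroup G, Cfsg.IsMaximalTwoLocal M ∧ ¬ IsCyclic ↥(Subgroup.center ↥(Cfsg.pCore 2 ↥M)) := by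
  classical
  by_contra hno
  push Not at hno
  -- a central involution of `S`
  have hS1 : (S : Subgroup G) ≠ ⊥ := fun h => hA3 fun B _ _ => by
    have h1 := B.card_le_card_group
    have h2 : Nat.card A = 1 := card_eq_one.2 (le_bot_iff.1 (h ▸ hA.1))
    omega
  have hnt : Nontrivial (S : Subgroup G) := (Subgroup.nontrivial_iff_ne_bot _).2 hS1
  have := S.2.center_nontrivial
  obtain ⟨k, hk⟩ := IsPGroup.iff_card.1 (S.2.to_subgroup (center (S : Subgroup G)))
  obtain ⟨t, ht⟩ := exists_prime_orderOf_dvd_card' 2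
    (hk ▸ dvd_pow_self 2 (fun h => (Finite.one_lt_card (α := center (S : Subgroup G))).ne'
      (by rw [hk, h, pow_zero])))
  obtain ⟨hth, u₀, hu₀S, hu₀, hu₀ne⟩ := theta_eq_bot S hcon hinv A hA hA3
    (z := ((t : (S : Subgroup G)) : G)) (by rw [orderOf_coe, orderOf_coe, ht]) (t : (S : Subgroup G)).2
    (fun s hs => congrArg Subtype.val (mem_center_iff.1 t.2 ⟨s, hs⟩))
  set z₀ := ((t : (S : Subgroup G)) : G) with hz₀
  -- the centre of `O₂(M)` gives a unique involution
  let X : G → Prop := fun y => orderOf y = 2 ∧ Cfsg.IsMaximalTwoLocal (centralizer ({y} : Set G))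
  have hsc : ∀ M : Subgroup G, Cfsg.IsTwoLocal M → Layer.PCoreSelfCentral 2 ↥M := by
    rintro M ⟨T, hT, hT1, rfl⟩
    exact selfCentral_local hcon hth hT hT1
  have hlocal : ∀ T : Subgroup G, IsPGroup 2 T → T ≠ ⊥ →
      ∃ y, X y ∧ normalizer (T : Set G) ≤ centralizer ({y} : Set G) := by
    intro T hT hT1
    obtain ⟨M, hTM, hMmax⟩ := (Set.toFinite {M : Subgroup G | Cfsg.IsTwoLocal M}).exists_le_maximal
      (show normalizer (T : Set G) ∈ {M : Subgroup G | Cfsg.IsTwoLocal M} from ⟨T, hT, hT1, rfl⟩)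
    have hM : Cfsg.IsMaximalTwoLocal M := ⟨hMmax.1, fun N hN h => le_antisymm (hMmax.2 hN h) h⟩
    obtain ⟨R, hR, hR1, hMR⟩ := hM.1
    subst hMR
    set M := normalizer (R : Set G) with hMdef
    set Q := Cfsg.pCore 2 ↥M with hQ
    have hQp : IsPGroup 2 Q := Core.pCore_isPGroup
    have hQ1 : Q ≠ ⊥ := fun h => hR1 (le_bot_iff.1 (by
      have h' := Layer.le_pCore_normalizer hR
      rwa [← hQ, h, Subgroup.map_bot] at h'))
    have : Nontrivial Q := (Subgroup.nontrivial_iff_ne_bot Q).2 hQ1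
    have := hQp.center_nontrivial
    obtain ⟨k, hk⟩ := IsPGroup.iff_card.1 (hQp.to_subgroup (center Q))
    obtain ⟨c, hc⟩ := exists_prime_orderOf_dvd_card' 2
      (hk ▸ dvd_pow_self 2 (fun h => (Finite.one_lt_card (α := center Q)).ne' (by rw [hk, h, pow_zero])))
    have : IsCyclic (center Q) := hno M hM
    set y : M := ((c : Q) : M) with hy
    have hy2 : orderOf (y : G) = 2 := by rw [orderOf_coe, hy, orderOf_coe, orderOf_coe, hc]
    have hMy : M ≤ centralizer ({(y : G)} : Set G) := by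
      intro g hg
      have hgQ : (⟨g, hg⟩ : M) * y * (⟨g, hg⟩ : M)⁻¹ ∈ Q :=
        Core.pCore_normal.conj_mem y (c : Q).2 _
      have hgc : (⟨_, hgQ⟩ : Q) ∈ center Q := mem_center_iff.2 fun w => by
        have hw : (⟨g, hg⟩ : M)⁻¹ * (w : M) * ⟨g, hg⟩ ∈ Q := by
          simpa using Core.pCore_normal.conj_mem (w : M) w.2 (⟨g, hg⟩ : M)⁻¹
        have h := congrArg Subtype.val (mem_center_iff.1 c.2 ⟨_, hw⟩)
        apply Subtype.ext
        simp only [Subgroup.coe_mul] at h ⊢
        rw [← hy] at h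
        calc (w : M) * (⟨g, hg⟩ * y * (⟨g, hg⟩ : M)⁻¹)
            = ⟨g, hg⟩ * ((⟨g, hg⟩ : M)⁻¹ * w * ⟨g, hg⟩ * y) * (⟨g, hg⟩ : M)⁻¹ := by group
          _ = ⟨g, hg⟩ * (y * ((⟨g, hg⟩ : M)⁻¹ * w * ⟨g, hg⟩)) * (⟨g, hg⟩ : M)⁻¹ := by rw [h]
          _ = _ := by group
      have heq : (⟨_, hgQ⟩ : Q) = (c : Q) := by
        refine Invol.eq_of_isCyclic_of_orderOf_two (hno M hM) ?_ (by rw [orderOf_coe, hc]) hgc c.2
        rw [← orderOf_coe]
        exact (orderOf_cj (⟨g, hg⟩ : M) y).trans (by rw [hy, orderOf_coe, orderOf_coe, hc])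
      have h' : g * (y : G) * g⁻¹ = y :=
        congrArg (fun w : Q => ((w : M) : G)) heq
      exact mem_cent.2 (mul_inv_eq_iff_eq_mul.1 h')
    have heqM : centralizer ({(y : G)} : Set G) = M := hM.2 _ (isTwoLocal_centralizer hy2) hMy
    exact ⟨y, ⟨hy2, heqM.symm ▸ hM⟩, hTM.trans heqM.symm.le⟩
  have huniq : ∀ y, X y → ∀ P : Subgroup G, IsPGroup 2 P → P ≤ centralizer ({y} : Set G) →
      (∀ R : Subgroup G, IsPGroup 2 R → R ≤ centralizer ({y} : Set G) → P ≤ R → R = P) →
      ∀ w ∈ P, orderOf w = 2 → (∀ v ∈ P, v * w = w * v) → w = y := by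
    rintro y ⟨hy2, hM⟩ P hP hPC hPmax w hwP hw hwc
    set M := centralizer ({y} : Set G) with hMdef
    set Q := Cfsg.pCore 2 ↥M with hQ
    have hs := hsc M hM.1
    have hQP : Q.map M.subtype ≤ P := by
      have hn : P ≤ normalizer (Q.map M.subtype : Set G) := by
        refine le_trans ?_ (le_normalizer_map M.subtype)
        rw [Subgroup.normalizer_eq_top, ← MonoidHom.range_eq_map, range_subtype]
        exact hPC
      have h1 := hPmax (P ⊔ Q.map M.subtype) (hP.to_sup_of_normal_right'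
        (Core.pCore_isPGroup.map _) hn) (sup_le hPC (map_subtype_le _)) le_sup_left
      exact h1 ▸ le_sup_right
    have hwM : w ∈ M := hPC hwP
    have hwQ : (⟨w, hwM⟩ : M) ∈ Q := hs (mem_centralizer_iff.2 fun v hv =>
      Subtype.ext (hwc v (hQP ⟨v, hv, rfl⟩)))
    have hyM : y ∈ M := mem_cent.2 rfl
    have hyQ : (⟨y, hyM⟩ : M) ∈ Q := hs (mem_centralizer_iff.2 fun v _ =>
      Subtype.ext (mem_cent.1 v.2))
    have : IsCyclic (center Q) := hno M hM
    have hwz : (⟨_, hwQ⟩ : Q) ∈ center Q := mem_center_iff.2 fun v =>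
      Subtype.ext (Subtype.ext (hwc _ (hQP ⟨v, v.2, rfl⟩)))
    have hyz : (⟨_, hyQ⟩ : Q) ∈ center Q := mem_center_iff.2 fun v =>
      Subtype.ext (Subtype.ext (mem_cent.1 (v : M).2))
    have h : (⟨_, hwQ⟩ : Q) = ⟨_, hyQ⟩ := Invol.eq_of_isCyclic_of_orderOf_two (hno M hM)
      (by rw [← orderOf_coe, ← orderOf_coe]; exact hw)
      (by rw [← orderOf_coe, ← orderOf_coe]; exact hy2) hwz hyz
    exact congrArg (fun v : Q => ((v : M) : G)) h
  have hadd : ∀ (T : Subgroup G) (x : G), IsPGroup 2 T → orderOf x = 2 → (∀ v ∈ T, v * x = x * v) →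
      IsPGroup 2 ↥(T ⊔ zpowers x) := by
    intro T x hT hx hc
    refine hT.to_sup_of_normal_left' (isPGroup_zpowers hx) ?_
    rw [zpowers_le]
    exact centralizer_le_normalizer _ (mem_centralizer_iff.2 hc)
  -- no two members of `X` commute
  have hX : ∀ y w, X y → X w → y * w = w * y → y = w := by
    intro y₀ w₀ hy₀ hw₀ hc₀
    by_contra hne₀
    let Good : Subgroup G → Prop := fun T => IsPGroup 2 T ∧ ∃ y w, X y ∧ X w ∧ y ≠ w ∧ y ∈ T ∧ w ∈ T ∧
      (∀ v ∈ T, v * y = y * v) ∧ ∀ v ∈ T, v * w = w * v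
    have h0 : Good (zpowers y₀ ⊔ zpowers w₀) := by
      have hcy : ∀ v ∈ zpowers y₀ ⊔ zpowers w₀, v * y₀ = y₀ * v := fun v hv => mem_cent.1
        ((sup_le (zpowers_le.2 (mem_cent.2 rfl)) (zpowers_le.2 (mem_cent.2 hc₀.symm)) :
          zpowers y₀ ⊔ zpowers w₀ ≤ centralizer ({y₀} : Set G)) hv)
      have hcw : ∀ v ∈ zpowers y₀ ⊔ zpowers w₀, v * w₀ = w₀ * v := fun v hv => mem_cent.1
        ((sup_le (zpowers_le.2 (mem_cent.2 hc₀)) (zpowers_le.2 (mem_cent.2 rfl)) :
          zpowers y₀ ⊔ zpowers w₀ ≤ centralizer ({w₀} : Set G)) hv)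
      exact ⟨hadd _ _ (isPGroup_zpowers hy₀.1) hw₀.1 (fun v hv => hcw v (Subgroup.mem_sup_left hv)), y₀, w₀, hy₀, hw₀,
        hne₀, Subgroup.mem_sup_left (mem_zpowers _), Subgroup.mem_sup_right (mem_zpowers _), hcy, hcw⟩
    obtain ⟨T, -, hTmax⟩ := (Set.toFinite {T | Good T}).exists_le_maximal h0
    obtain ⟨hT, y, w, hy, hw, hne, hyT, hwT, hcy, hcw⟩ := hTmax.1
    have hT1 : T ≠ ⊥ := fun h => by
      rw [h, mem_bot] at hyT
      exact absurd hy.1 (by rw [hyT, orderOf_one]; omega)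
    obtain ⟨x, hx, hNx⟩ := hlocal T hT hT1
    have hxc : ∀ v ∈ T, v * x = x * v := fun v hv => mem_cent.1 (hNx (le_normalizer hv))
    have hxT : x ∈ T := by
      have hgood : Good (T ⊔ zpowers x) := by
        refine ⟨hadd T x hT hx.1 hxc, y, w, hy, hw, hne, Subgroup.mem_sup_left hyT, Subgroup.mem_sup_left hwT, ?_, ?_⟩
        · exact fun v hv => mem_cent.1 ((sup_le (fun u hu => mem_cent.2 (hcy u hu))
            (zpowers_le.2 (mem_cent.2 (hxc y hyT).symm)) : T ⊔ zpowers x ≤ centralizer ({y} : Set G)) hv)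
        · exact fun v hv => mem_cent.1 ((sup_le (fun u hu => mem_cent.2 (hcw u hu))
            (zpowers_le.2 (mem_cent.2 (hxc w hwT).symm)) : T ⊔ zpowers x ≤ centralizer ({w} : Set G)) hv)
      exact hTmax.2 hgood le_sup_left (Subgroup.mem_sup_right (mem_zpowers x))
    have key : ∀ a b, X a → X b → a ≠ b → a ∈ T → b ∈ T → (∀ v ∈ T, v * a = a * v) →
        (∀ v ∈ T, v * b = b * v) → a ≠ x → False := by
      intro a b ha hb hab haT hbT hca hcb hax
      have hTa : T ≤ centralizer ({a} : Set G) := fun v hv => mem_cent.2 (hca v hv)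
      by_cases hfull : ∀ R : Subgroup G, IsPGroup 2 R → R ≤ centralizer ({a} : Set G) → T ≤ R → R = T
      · exact hab (huniq a ha T hT hTa hfull b hbT hb.1 hcb).symm
      push Not at hfull
      obtain ⟨R, hR, hRa, hTR, hne'⟩ := hfull
      have hlt := Fusion.lt_inf_normalizer_of_isPGroup hR (lt_of_le_of_ne hTR (Ne.symm hne'))
      refine hlt.ne' (le_antisymm (hTmax.2 ⟨hR.to_le inf_le_left, a, x, ha, hx, hax, hlt.le haT, hlt.le hxT,
        fun v hv => mem_cent.1 (hRa hv.1), fun v hv => mem_cent.1 (hNx hv.2)⟩ hlt.le) hlt.le)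
    by_cases hyx : y = x
    · exact key w y hw hy hne.symm hwT hyT hcw hcy (fun h => hne (hyx.trans h.symm))
    · exact key y w hy hw hne hyT hwT hcy hcw hyx
  -- the element z
  obtain ⟨z, hzX, hNS⟩ := hlocal (S : Subgroup G) S.2 hS1
  have hzc : ∀ s ∈ S, s * z = z * s := fun s hs => mem_cent.1 (hNS (le_normalizer hs))
  set H := centralizer ({z} : Set G) with hH
  have hCu : ∀ u ∈ S, orderOf u = 2 → centralizer ({u} : Set G) ≤ H := by
    intro u hu hu2
    obtain ⟨x, hx, hle⟩ := hlocal (zpowers u) (isPGroup_zpowers hu2)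
      (fun h => by rw [zpowers_eq_bot] at h; rw [h, orderOf_one] at hu2; omega)
    rw [normalizer_zpowers_eq hu2] at hle
    have hzx : z * x = x * z := mem_cent.1 (hle (mem_cent.2 (hzc u hu).symm))
    rwa [← hX z x hzX hx hzx] at hle
  have hSH : (S : Subgroup G) ≤ H := fun s hs => mem_cent.2 (hzc s hs)
  have hCH : ∀ u ∈ H, orderOf u = 2 → centralizer ({u} : Set G) ≤ H := by
    intro u hu hu2
    obtain ⟨h, hh⟩ := Invol.exists_sylow_conj_mem (S.subtype hSH) (t := (⟨u, hu⟩ : H))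
      (by rw [← orderOf_coe]; exact hu2)
    have hmem : (h : G) * u * (h : G)⁻¹ ∈ S := hh
    intro c hc
    have hc' : (h : G) * c * (h : G)⁻¹ ∈ centralizer ({(h : G) * u * (h : G)⁻¹} : Set G) := by
      rw [mem_cent]
      calc (h : G) * c * (h : G)⁻¹ * ((h : G) * u * (h : G)⁻¹) = h * (c * u) * (h : G)⁻¹ := by group
        _ = h * (u * c) * (h : G)⁻¹ := by rw [mem_cent.1 hc]
        _ = _ := by group
    have := hCu _ hmem ((orderOf_cj _ u).trans hu2) hc'
    have := H.mul_mem (H.mul_mem (H.inv_mem h.2) this) h.2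
    simpa [mul_assoc] using this
  obtain ⟨g, hg⟩ : ∃ g : G, g * z * g⁻¹ ∉ H := by
    by_contra hall
    push Not at hall
    have hzcen : z ∈ center G := mem_center_iff.2 fun g => by
      have hc := (mem_cent.1 (hall g)).symm
      have heq := hX z (g * z * g⁻¹) hzX
        ⟨(orderOf_cj g z).trans hzX.1, isMaximalTwoLocal_conj g hzX.2 hzX.1⟩ hc
      exact mul_inv_eq_iff_eq_mul.1 heq.symm
    rcases Subgroup.Normal.eq_bot_or_eq_top (H := center G) inferInstance with hb | ht'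
    · rw [hb, mem_bot] at hzcen
      exact absurd hzX.1 (by rw [hzcen, orderOf_one]; omega)
    · exact hG ⟨⟨fun u v => (mem_center_iff.1 (ht' ▸ mem_top v) u)⟩⟩
  set y := g * z * g⁻¹ with hy
  have hy2 : orderOf y = 2 := (orderOf_cj g z).trans hzX.1
  have hall : ∀ u ∈ S, orderOf u = 2 → u = z := by
    intro u hu hu2
    rcases Nat.even_or_odd (orderOf (u * y)) with he | ho
    · exfalso
      obtain ⟨i, hi2, hiu, hiy⟩ := exists_central hu2 hy2 he
      have hiH : i ∈ H := hCH u (hSH hu) hu2 (mem_cent.2 hiu)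
      exact hg (hCH i hiH hi2 (mem_cent.2 hiy.symm))
    · obtain ⟨c, hc⟩ := isConj_iff.1 (Invol.isConj_of_odd hu2 hy2 ho).symm
      have hconjz : c * g * z * (c * g)⁻¹ = u := by
        rw [← hc, hy]
        group
      refine hX u z ⟨hu2, ?_⟩ hzX (hzc u hu)
      rw [← hconjz]
      exact isMaximalTwoLocal_conj _ hzX.2 hzX.1
  have hz₀z : z₀ = z := hall z₀ (t : (S : Subgroup G)).2 (by rw [hz₀, orderOf_coe, orderOf_coe, ht])
  exact hu₀ne ((hall u₀ hu₀S hu₀).trans hz₀z.symm)

end Cfsg.Agent.S3244
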