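import Cfsg.Statements.S3246
import Cfsg.Agent.PConstr.Local
import Cfsg.Agent.CharTwo.Local
import Cfsg.Prelude.Def_Amalgam
import Cfsg.Agent.LocalStructure.PResidual
import Cfsg.Agent.Fusion.PGroup
import Cfsg.Agent.Thompson.Basic

set_option autoImplicit false
open Cfsg

namespace Cfsg.Agent.S3246

open Subgroup
open scoped commutatorElement

universe u

/-- An odd subgroup acted on fixed-point-freely by an involution is inverted by it. -/
theorem inverted_of_fpf {G : Type u} [Group G] [Finite G] {X : Subgroup G} {u : G} (hu : u * u = 1)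
    (hn : u ∈ normalizer (X : Set G)) (h : ∀ x ∈ X, u * x * u = x → x = 1) :
    ∀ x ∈ X, u * x * u = x⁻¹ := by
  have hui : u⁻¹ = u := inv_eq_of_mul_eq_one_right hu
  have hc : ∀ x ∈ X, u * x * u ∈ X := fun x hx => by
    have := (mem_normalizer_iff.1 hn x).1 hx
    rwa [hui] at this
  let f : X → X := fun x => ⟨(x : G)⁻¹ * (u * x * u), mul_mem (inv_mem x.2) (hc x x.2)⟩
  have hf : Function.Injective f := by
    intro a b hab
    have h1 : (a : G)⁻¹ * (u * a * u) = (b : G)⁻¹ * (u * b * u) := congrArg Subtype.val hab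
    have h2 : u * ((a : G) * (b : G)⁻¹) * u = (a : G) * (b : G)⁻¹ := by
      have hinv : u * (b : G)⁻¹ * u = (u * b * u)⁻¹ := by rw [mul_inv_rev, mul_inv_rev, hui, mul_assoc]
      calc u * ((a : G) * (b : G)⁻¹) * u = (u * a * u) * (u * (b : G)⁻¹ * u) := by
            rw [show (u * a * u) * (u * (b : G)⁻¹ * u) = u * a * (u * u) * (b : G)⁻¹ * u by group, hu]
            group
        _ = (a : G) * ((a : G)⁻¹ * (u * a * u)) * (u * b * u)⁻¹ := by rw [hinv, mul_inv_cancel_left]
        _ = _ := by rw [h1]; group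
    exact Subtype.ext (mul_inv_eq_one.1 (h _ (mul_mem a.2 (inv_mem b.2)) h2))
  intro y hy
  obtain ⟨⟨x, hx⟩, hxy⟩ := Finite.surjective_of_injective hf ⟨y, hy⟩
  obtain rfl : x⁻¹ * (u * x * u) = y := congrArg Subtype.val hxy
  rw [mul_inv_rev, inv_inv, mul_inv_rev, mul_inv_rev, hui]
  calc u * (x⁻¹ * (u * x * u)) * u = u * x⁻¹ * u * x * (u * u) := by group
    _ = _ := by rw [hu, mul_one]; simp only [mul_assoc]

/-- A subgroup of odd order normalised by a 2-group covering half of `O₂` of a centraliser of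
characteristic 2 meets that centraliser trivially. -/
theorem eq_one_of_half {G : Type u} [Group G] [Finite G] {C : Subgroup G}
    (hC : Cfsg.Agent.Layer.PCoreSelfCentral 2 ↥C) {X T : Subgroup G} (hX : Odd (Nat.card X))
    (hT : IsPGroup 2 T) (hTC : T ≤ C) (hTX : T ≤ normalizer (X : Set G))
    (hidx : ∀ v ∈ Cfsg.pCoreOf 2 C, ∀ w ∈ Cfsg.pCoreOf 2 C, v ∉ T → w ∉ T → v * w⁻¹ ∈ T)
    {x : G} (hx : x ∈ X) (hxC : x ∈ C) : x = 1 := by
  haveI := Fact.mk Nat.prime_two
  set Q := Cfsg.pCoreOf 2 C with hQ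
  have hQn : C ≤ normalizer (Q : Set G) := by
    rintro c hc
    rw [mem_normalizer_iff]
    intro y
    constructor
    · rintro ⟨y', hy', rfl⟩
      exact ⟨⟨c, hc⟩ * y' * ⟨c, hc⟩⁻¹, Cfsg.Agent.Core.pCore_normal.conj_mem y' hy' _, rfl⟩
    · rintro ⟨y', hy', hy''⟩
      refine ⟨⟨c, hc⟩⁻¹ * y' * (⟨c, hc⟩⁻¹)⁻¹, Cfsg.Agent.Core.pCore_normal.conj_mem y' hy' _, ?_⟩
      simp only [coe_subtype, coe_mul, InvMemClass.coe_inv] at hy'' ⊢
      rw [hy'']
      group
  have hQp : IsPGroup 2 Q := Cfsg.Agent.Core.pCore_isPGroup.map _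
  have hxo : (orderOf x).Coprime 2 := by
    rw [← Subgroup.orderOf_mk x hx]
    exact hX.coprime_two_right.coprime_dvd_left (orderOf_dvd_natCard _)
  have hfix : ∀ q ∈ Q, q ∈ T → x * q = q * x := by
    intro q hq hqT
    have h1 : q * x * q⁻¹ * x⁻¹ ∈ X :=
      mul_mem ((mem_normalizer_iff.1 (hTX hqT) x).1 hx) (inv_mem hx)
    have h2 : q * x * q⁻¹ * x⁻¹ ∈ Q := by
      rw [show q * x * q⁻¹ * x⁻¹ = q * (x * q⁻¹ * x⁻¹) by group]
      exact mul_mem hq ((mem_normalizer_iff.1 (hQn hxC) _).1 (inv_mem hq))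
    have hbot : X ⊓ Q = ⊥ := Subgroup.inf_eq_bot_of_coprime (by
      obtain ⟨k, hk⟩ := IsPGroup.iff_card.1 hQp
      rw [hk]; exact hX.coprime_two_right.pow_right k)
    have h3 : q * x * q⁻¹ * x⁻¹ ∈ (⊥ : Subgroup G) := hbot ▸ ⟨h1, h2⟩
    rw [mem_bot, mul_inv_eq_one, mul_inv_eq_iff_eq_mul] at h3
    exact h3.symm
  have hcent : x ∈ centralizer (Q : Set G) :=
    LocalStructure.commute_of_double_commutator hQp (hQn hxC) hxo fun v hv => by
      have hv' : x * v * x⁻¹ ∈ Q := (mem_normalizer_iff.1 (hQn hxC) v).1 hv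
      have hd : x * v * x⁻¹ * v⁻¹ ∈ Q := mul_mem hv' (inv_mem hv)
      refine (show x * ⁅x, v⁆ = ⁅x, v⁆ * x from ?_)
      rw [commutatorElement_def]
      refine hfix _ hd ?_
      by_cases hvT : v ∈ T
      · rw [hfix v hv hvT, mul_inv_cancel_right, mul_inv_cancel]; exact one_mem _
      · refine hidx _ hv' v hv (fun h => hvT ?_) hvT
        have h2 := hfix _ hv' h
        rw [show x * (x * v * x⁻¹) = x * (x * v * x⁻¹) from rfl] at h2
        have h3 : x * v * x⁻¹ = v := mul_left_cancel (a := x) (by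
          rw [h2]; group)
        rwa [h3] at h
  have hxQ : x ∈ Q := by
    refine ⟨⟨x, hxC⟩, hC ?_, rfl⟩
    exact mem_centralizer_iff.2 fun q hq =>
      Subtype.ext (mem_centralizer_iff.1 hcent (q : G) ⟨q, hq, rfl⟩)
  obtain ⟨k, hk⟩ := IsPGroup.iff_orderOf.1 hQp ⟨x, hxQ⟩
  rw [Subgroup.orderOf_mk] at hk
  rw [hk] at hxo
  rcases k.eq_zero_or_pos with rfl | hk0
  · exact orderOf_eq_one_iff.1 (by rw [hk, pow_zero])
  · exact absurd ((Nat.coprime_pow_left_iff hk0 2 2).1 hxo) (by norm_num)

/-- Let G be a finite group whose Sylow 2-subgroup S has a self-centralizing normal subgroup of rank at least 3. Suppose that either every maximal 2-local subgroup of G is 2-constrained with no nontrivial normal subgroup of odd order, or the centralizer of every involution of G is 2-constrained with no nontrivial normal subgroup of odd order. Then S normalizes no nontrivial subgroup of G of odd order and every 2-local subgroup of G is 2-constrained. -/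
theorem result {G : Type*} [Group G] [Finite G]
    (S : Sylow 2 G) (A : Subgroup G) (hA : Cfsg.IsSCN (S : Subgroup G) A) (hA3 : ¬ Cfsg.PRankLE 2 2 ↥A)
    (h : (∀ M : Subgroup G, Cfsg.IsMaximalTwoLocal M → Cfsg.IsPConstrained 2 ↥M ∧ Cfsg.oddCore ↥M = ⊥) ∨
      (∀ t : G, orderOf t = 2 → Cfsg.IsPConstrained 2 ↥(Subgroup.centralizer ({t} : Set G)) ∧
        Cfsg.oddCore ↥(Subgroup.centralizer ({t} : Set G)) = ⊥)) :
    (∀ X : Subgroup G, Odd (Nat.card ↥X) → (S : Subgroup G) ≤ Subgroup.normalizer (X : Set G) → X = ⊥) ∧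
      (∀ T : Subgroup G, IsPGroup 2 ↥T → T ≠ ⊥ → Cfsg.IsPConstrained 2 ↥(Subgroup.normalizer (T : Set G))) := by
  haveI := Fact.mk Nat.prime_two
  -- normalisers of 2-subgroups have characteristic 2
  have hloc : ∀ T : Subgroup G, IsPGroup 2 T → T ≠ ⊥ →
      Layer.PCoreSelfCentral 2 ↥(normalizer (T : Set G)) := by
    intro T hT hT1
    rcases h with h | h
    · obtain ⟨M, hle, hM, hmax⟩ := Finite.exists_le_maximal
        (p := fun M : Subgroup G => IsTwoLocal M) (a := normalizer (T : Set G)) ⟨T, hT, hT1, rfl⟩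
      exact CharTwo.pCoreSelfCentral_normalizer_of_le
        (PConstr.pCoreSelfCentral_iff.2 (h M ⟨hM, fun N hN hle' => le_antisymm (hmax hN hle') hle'⟩))
        hT (le_normalizer.trans hle) ((centralizer_le_normalizer _).trans hle)
    · exact Layer.pCoreSelfCentral_normalizer_of_centralizers
        (fun t ht => PConstr.pCoreSelfCentral_iff.2 (h t ht)) hT hT1
  refine ⟨fun X hX hSX => ?_, fun T hT hT1 => (PConstr.pCoreSelfCentral_iff.1 (hloc T hT hT1)).1⟩
  -- a normal four-group of `S` inside `A`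
  obtain ⟨hAS, hSA, hAc⟩ := hA
  have hAab : A ≤ centralizer (A : Set G) := by
    intro a ha
    rw [← hAc] at ha
    exact ha.2
  set W := Cfsg.omegaOne 2 A with hW
  have hWea : Cfsg.IsElementaryAbelian 2 W := Thompson.omegaOne_ea hAab
  have hWS : W ≤ (S : Subgroup G) := (Thompson.omegaOne_le 2 A).trans hAS
  have hSW : (S : Subgroup G) ≤ normalizer (W : Set G) := by
    intro s hs
    have key : ∀ s ∈ (S : Subgroup G), ∀ y ∈ W, s * y * s⁻¹ ∈ W := by
      intro s hs
      suffices W ≤ W.comap (MulAut.conj s).toMonoidHom from fun y hy => this hy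
      refine (closure_le _).2 ?_
      rintro y ⟨hy, hy2⟩
      refine Thompson.mem_omegaOne ((mem_normalizer_iff.1 (hSA hs) y).1 hy) ?_
      show (s * y * s⁻¹) ^ 2 = 1
      rw [conj_pow, hy2, mul_one, mul_inv_cancel]
    rw [mem_normalizer_iff]
    refine fun y => ⟨key s hs y, fun hy => ?_⟩
    have := key s⁻¹ (inv_mem hs) _ hy
    simpa [mul_assoc] using this
  haveI : (W.subgroupOf S).Normal := (normal_subgroupOf_iff_le_normalizer hWS).2 hSW
  have hW4 : 2 ^ 2 ≤ Nat.card (W.subgroupOf (S : Subgroup G)) := by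
    rw [Nat.card_congr (subgroupOfEquivOfLe hWS).toEquiv]
    simp only [PRankLE, not_forall, not_le] at hA3
    obtain ⟨E, hEc, hE2, hEcard⟩ := hA3
    refine hEcard.le.trans ?_
    rw [← card_map_of_injective A.subtype_injective]
    refine Subgroup.card_le_of_le ?_
    rintro _ ⟨e, he, rfl⟩
    exact Thompson.mem_omegaOne e.2 (by simpa using congrArg Subtype.val (hE2 e he))
  obtain ⟨U₀, hU₀n, hU₀W, hU₀c⟩ := Fusion.exists_normal_le_card_eq S.2 (W.subgroupOf S) hW4
  set U := U₀.map (S : Subgroup G).subtype with hU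
  have hUS : U ≤ (S : Subgroup G) := map_subtype_le _
  have hUea : Cfsg.IsElementaryAbelian 2 U := Thompson.ea_mono hWea (by
    rintro _ ⟨u, hu, rfl⟩
    exact hU₀W hu)
  have hUcard : Nat.card U = 4 := by
    rw [hU, card_map_of_injective (S : Subgroup G).subtype_injective, hU₀c]
    norm_num
  -- centralisers of its involutions meet `X` trivially
  have hfpf : ∀ u ∈ U, u ≠ 1 → ∀ x ∈ X, u * x * u = x → x = 1 := by
    intro u hu hu1 x hx hxu
    have huu : u * u = 1 := by rw [← sq]; exact hUea.2 u hu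
    have huo : orderOf u = 2 := orderOf_eq_prime (hUea.2 u hu) hu1
    set C := centralizer ({u} : Set G) with hCdef
    have hC : Layer.PCoreSelfCentral 2 ↥C := by
      have hnz : normalizer ((zpowers u : Subgroup G) : Set G) = C := by
        refine le_antisymm (fun g hg => ?_) ?_
        · obtain ⟨j, hj⟩ := mem_zpowers_iff.1 ((mem_normalizer_iff.1 hg u).1 (mem_zpowers u))
          rcases Int.even_or_odd' j with ⟨i, rfl | rfl⟩
          · rw [zpow_mul, zpow_two, huu, one_zpow, eq_comm, conj_eq_one_iff] at hj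
            exact absurd hj hu1
          · rw [zpow_add_one, zpow_mul, zpow_two, huu, one_zpow, one_mul] at hj
            exact mem_centralizer_singleton_iff.2 (mul_inv_eq_iff_eq_mul.1 hj.symm)
        · refine le_trans (le_of_eq ?_) (centralizer_le_normalizer _)
          rw [hCdef, zpowers_eq_closure, centralizer_closure]
      have := hloc (zpowers u) (IsPGroup.of_card (n := 1) (by rw [Nat.card_zpowers, huo, pow_one]))
        (by rw [ne_eq, zpowers_eq_bot]; exact hu1)
      rwa [hnz] at this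
    have hxC : x ∈ C := by
      refine mem_centralizer_singleton_iff.2 ?_
      calc x * u = u * x * u * u := by rw [hxu]
        _ = u * x := by rw [mul_assoc, huu, mul_one]
    set T := (S : Subgroup G) ⊓ C with hTdef
    refine eq_one_of_half hC hX (S.2.to_le inf_le_left) inf_le_right (inf_le_left.trans hSX) ?_ hx hxC
    intro v hv w hw hvT hwT
    -- compare with a Sylow subgroup of `C` over `T`
    obtain ⟨P, hTP⟩ := ((S.2.to_le (inf_le_left : T ≤ S)).comap_of_injective C.subtype
      C.subtype_injective).exists_le_sylow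
    obtain ⟨P', hP'⟩ := (P.2.map C.subtype).exists_le_sylow
    set Pm := (P : Subgroup C).map C.subtype with hPm
    have hQP : Cfsg.pCoreOf 2 C ≤ Pm := map_mono (Core.pCore_le_sylow P)
    have hTPm : T ≤ Pm := fun t ht => ⟨⟨t, ht.2⟩, hTP (show (⟨t, ht.2⟩ : C) ∈ T.comap C.subtype from ht), rfl⟩
    have hcardP : Nat.card Pm ≤ Nat.card (S : Subgroup G) := by
      refine (Subgroup.card_le_of_le hP').trans (le_of_eq ?_)
      rw [Sylow.card_eq_multiplicity P', Sylow.card_eq_multiplicity S]
    have hST : Nat.card (S : Subgroup G) ≤ 2 * Nat.card T := by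
      -- the orbit of `u` under `S` lies in `U \ {1}` and has 2-power length
      have hidx : T.relIndex S ≤ 2 := by
        let φ : ↥(S : Subgroup G) → U := fun s => ⟨(s : G) * u * (s : G)⁻¹, by
          obtain ⟨u', hu', rfl⟩ := hu
          exact ⟨s * u' * s⁻¹, hU₀n.conj_mem u' hu' s, rfl⟩⟩
        let g : ↥(S : Subgroup G) ⧸ T.subgroupOf S → {y : U // y ≠ 1} :=
          Quotient.lift (fun s => ⟨φ s, fun e => hu1 (by
            have : (s : G) * u * (s : G)⁻¹ = 1 := congrArg Subtype.val e
            rwa [conj_eq_one_iff] at this)⟩) fun a b hab => by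
              have hab' : (a : G)⁻¹ * (b : G) ∈ C := (QuotientGroup.leftRel_apply.1 hab).2
              have := mem_centralizer_singleton_iff.1 hab'
              refine Subtype.ext (Subtype.ext ?_)
              show (a : G) * u * (a : G)⁻¹ = (b : G) * u * (b : G)⁻¹
              calc (a : G) * u * (a : G)⁻¹ = a * (u * ((a : G)⁻¹ * b)) * (b : G)⁻¹ := by group
                _ = _ := by rw [← this]; group
        have hg : Function.Injective g := by
          intro a b
          refine Quotient.inductionOn₂ a b fun a b hab => Quotient.sound ?_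
          have h' : (a : G) * u * (a : G)⁻¹ = (b : G) * u * (b : G)⁻¹ :=
            congrArg (fun z : {y : U // y ≠ 1} => ((z : U) : G)) hab
          refine QuotientGroup.leftRel_apply.2 ⟨(S : Subgroup G).mul_mem ((S : Subgroup G).inv_mem a.2) b.2, ?_⟩
          refine mem_centralizer_singleton_iff.2 ?_
          show (a : G)⁻¹ * b * u = u * ((a : G)⁻¹ * b)
          calc (a : G)⁻¹ * b * u = (a : G)⁻¹ * ((b : G) * u * (b : G)⁻¹) * b := by group
            _ = _ := by rw [← h']; group
        have hle : T.relIndex S ≤ 3 := by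
          refine (Nat.card_le_card_of_injective g hg).trans (le_of_eq ?_)
          classical
          haveI := Fintype.ofFinite U
          rw [Nat.card_eq_fintype_card] at hUcard ⊢
          rw [Fintype.card_subtype_compl, Fintype.card_subtype_eq, hUcard]
        obtain ⟨k, hk⟩ := S.2.index (T.subgroupOf (S : Subgroup G))
        rw [relIndex] at hle ⊢
        rw [hk] at hle ⊢
        rcases k with _ | _ | k
        · norm_num
        · norm_num
        · exfalso
          have h4 : 2 ^ 2 ≤ 2 ^ (k + 1 + 1) := Nat.pow_le_pow_right (by norm_num) (by omega)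
          omega
      rw [← Subgroup.card_mul_index (T.subgroupOf S), Nat.card_congr (subgroupOfEquivOfLe inf_le_left).toEquiv,
        mul_comm]
      exact Nat.mul_le_mul_right _ hidx
    -- hence `T` has index at most two in `Pm`
    have hrel : (T.subgroupOf Pm).index ≤ 2 := by
      refine Nat.le_of_mul_le_mul_left ?_ (Nat.card_pos (α := T))
      rw [← Nat.card_congr (subgroupOfEquivOfLe hTPm).toEquiv, Subgroup.card_mul_index,
        Nat.card_congr (subgroupOfEquivOfLe hTPm).toEquiv, mul_comm]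
      exact hcardP.trans hST
    have h0 : (T.subgroupOf Pm).index ≠ 0 := index_ne_zero_of_finite
    have hne1 : (T.subgroupOf Pm).index ≠ 1 := fun e =>
      hvT ((subgroupOf_eq_top.1 (index_eq_one.1 e)) (hQP hv))
    have h2 : (T.subgroupOf Pm).index = 2 := by omega
    have := (mul_mem_iff_of_index_two h2 (a := ⟨v, hQP hv⟩) (b := ⟨w⁻¹, inv_mem (hQP hw)⟩)).2
      (iff_of_false (fun h => hvT h) (fun h => hwT (inv_mem_iff.1 (show w⁻¹ ∈ T from h))))
    exact this
  -- so the four-group inverts `X`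
  rw [eq_bot_iff]
  intro x hx
  obtain ⟨⟨a, ha⟩, ha1⟩ : ∃ a : U, a ≠ 1 := by
    haveI : Nontrivial U := Finite.one_lt_card_iff_nontrivial.1 (by rw [hUcard]; norm_num)
    exact exists_ne 1
  obtain ⟨b, hb, hbn⟩ : ∃ b ∈ U, b ∉ zpowers a := by
    by_contra hcon
    push Not at hcon
    have h1 := Subgroup.card_le_of_le (show U ≤ zpowers a from hcon)
    rw [hUcard, Nat.card_zpowers, orderOf_eq_prime (hUea.2 a ha) fun e => ha1 (Subtype.ext e)] at h1
    omega
  have ha1' : a ≠ 1 := fun e => ha1 (Subtype.ext e)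
  have hb1 : b ≠ 1 := fun e => hbn (e ▸ one_mem _)
  have hab1 : a * b ≠ 1 := fun e => hbn (by
    rw [show b = a⁻¹ from eq_inv_of_mul_eq_one_right e]
    exact inv_mem (mem_zpowers a))
  have hinv : ∀ u ∈ U, u ≠ 1 → ∀ y ∈ X, u * y * u = y⁻¹ := fun u hu hu1 =>
    inverted_of_fpf (by rw [← sq]; exact hUea.2 u hu) (hSX (hUS hu)) (hfpf u hu hu1)
  have hab : a * b = b * a := congrArg Subtype.val (hUea.1.is_comm.comm (⟨a, ha⟩ : U) ⟨b, hb⟩)
  have h1 := hinv _ (mul_mem ha hb) hab1 x hx
  have h2 : a * b * x * (a * b) = x := by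
    calc a * b * x * (a * b) = a * b * x * (b * a) := by rw [hab]
      _ = a * (b * x * b) * a := by group
      _ = x := by rw [hinv b hb hb1 x hx, hinv a ha ha1' _ (inv_mem hx), inv_inv]
  exact mem_bot.2 (hfpf _ (mul_mem ha hb) hab1 x hx h2)

end Cfsg.Agent.S3246
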