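import Cfsg.Statements.S3247
import Cfsg.Agent.PConstr.Local

set_option autoImplicit false
open Cfsg

namespace Cfsg.Agent.S3247

open Subgroup

/-- Let G be a finite group and p a prime; here a p-local subgroup means the normalizer of a nontrivial p-subgroup, other than G itself. If every p-local subgroup of G that is maximal among p-local subgroups is p-constrained, or if the centralizer of every element of order p of G is p-constrained, then every p-local subgroup of G is p-constrained. -/
theorem result {G : Type*} [Group G] [Finite G] (p : ℕ) [hp : Fact p.Prime]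
    (h : (∀ M : Subgroup G, (∃ T : Subgroup G, IsPGroup p ↥T ∧ T ≠ ⊥ ∧ M = Subgroup.normalizer (T : Set G)) → M ≠ ⊤ →
        (∀ M' : Subgroup G, (∃ T' : Subgroup G, IsPGroup p ↥T' ∧ T' ≠ ⊥ ∧ M' = Subgroup.normalizer (T' : Set G)) → M' ≠ ⊤ → M ≤ M' → M = M') →
        Cfsg.IsPConstrained p ↥M) ∨
      (∀ x : G, orderOf x = p → Cfsg.IsPConstrained p ↥(Subgroup.centralizer ({x} : Set G))))
    (T : Subgroup G) (hT : IsPGroup p ↥T) (hT1 : T ≠ ⊥) (hTG : Subgroup.normalizer (T : Set G) ≠ ⊤) :
    Cfsg.IsPConstrained p ↥(Subgroup.normalizer (T : Set G)) := by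
  rcases h with h | h
  · obtain ⟨M, hle, ⟨⟨T₀, hT₀, hT₀1, hMe⟩, hMtop⟩, hmax⟩ := Finite.exists_le_maximal
      (p := fun M : Subgroup G => (∃ T' : Subgroup G, IsPGroup p ↥T' ∧ T' ≠ ⊥ ∧
        M = normalizer (T' : Set G)) ∧ M ≠ ⊤)
      (a := normalizer (T : Set G)) ⟨⟨T, hT, hT1, rfl⟩, hTG⟩
    refine PConstr.isPConstrained_normalizer_of_le (h M ⟨T₀, hT₀, hT₀1, hMe⟩ hMtop ?_) hT
      (le_normalizer.trans hle) ((centralizer_le_normalizer _).trans hle)
    exact fun M' hM' hM't hle' => le_antisymm hle' (hmax ⟨hM', hM't⟩ hle')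
  · haveI : Nontrivial ↥T := (nontrivial_iff_ne_bot T).mpr hT1
    haveI := hT.center_nontrivial
    obtain ⟨z, hz⟩ := exists_prime_orderOf_dvd_card' p
      ((hT.to_subgroup (center ↥T)).card_eq_or_dvd.resolve_left Finite.one_lt_card.ne')
    rw [← Subgroup.orderOf_coe, ← Subgroup.orderOf_coe] at hz
    refine PConstr.isPConstrained_normalizer_of_le (h _ hz) hT (fun t ht => ?_) (centralizer_le ?_)
    · exact mem_centralizer_singleton_iff.2 (congrArg Subtype.val (mem_center_iff.1 z.2 ⟨t, ht⟩))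
    · exact Set.singleton_subset_iff.2 z.1.2

end Cfsg.Agent.S3247
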