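import Cfsg.Statements.S3257
import Cfsg.Agent.PairOdd.Frobenius
import Cfsg.Agent.S0205

set_option autoImplicit false
open Cfsg

namespace Cfsg.Agent.S3257

open Subgroup PairOdd
open scoped Pointwise commutatorElement

universe u v

variable {G : Type u} [Group G] [Finite G] {F : Type v} [Group F]

/-- Commuting images transfer along an equivalence of pairs. -/
theorem commute_of_equiv {S T : Subgroup G} (e : S ≃* F) (e' : T ≃* F)
    (hS : ∀ x ∈ S, ∀ y ∈ S, x * y = y * x) : ∀ x ∈ T, ∀ y ∈ T, x * y = y * x := by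
  intro x hx y hy
  let f := e'.trans e.symm
  refine congrArg Subtype.val (f.injective (a₁ := ⟨x, hx⟩ * ⟨y, hy⟩) (a₂ := ⟨y, hy⟩ * ⟨x, hx⟩) ?_)
  rw [map_mul, map_mul]
  exact Subtype.ext (hS _ (f ⟨x, hx⟩).2 _ (f ⟨y, hy⟩).2)

/-- An abelian derived subgroup transfers along an equivalence. -/
theorem ab_of_equiv {S T : Subgroup G} (f : S ≃* T) (hS : Ab S) : Ab T := by
  have h1 : Ab (⊤ : Subgroup S) := Ab.of_map (f := S.subtype) (fun x _ hx => S.subtype_injective hx)
    (by rwa [← MonoidHom.range_eq_map, range_subtype])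
  have h2 := h1.map (f := T.subtype.comp f.toMonoidHom)
  rwa [← map_map, map_top_of_surjective _ f.surjective, ← MonoidHom.range_eq_map, range_subtype] at h2

/-- Let p be an odd prime and G a finite non-abelian group generated by a G-invariant set D of subgroups of order p such that any two distinct members of D generate a subgroup isomorphic to one fixed group of odd order. Then G/Z(G) is a Frobenius group of odd order. -/
theorem result {G : Type*} [Group G] [Finite G] (hG : ¬ IsMulCommutative G)
    (p : ℕ) (hp : p.Prime) (hp2 : p ≠ 2) (D : Set (Subgroup G)) (hDp : ∀ A ∈ D, Nat.card ↥A = p)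
    (hDinv : ∀ A ∈ D, ∀ g : G, A.map (MulAut.conj g).toMonoidHom ∈ D) (hDgen : sSup D = ⊤)
    {F : Type*} [Group F] [Finite F] (hF : Odd (Nat.card F)) (hpair : ∀ A ∈ D, ∀ B ∈ D, A ≠ B → Nonempty (↥(A ⊔ B) ≃* F)) :
    Odd (Nat.card (G ⧸ Subgroup.center G)) ∧ ∃ H : Subgroup (G ⧸ Subgroup.center G), Cfsg.IsFrobeniusComplement H := by
  have hFT : FTCons.OddSolvable := fun _ _ _ h => S0205.result h
  have hcyc : ∀ A ∈ D, IsMulCommutative A := fun A hA => by
    have := Fact.mk hp
    have := isCyclic_of_prime_card (hDp A hA)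
    infer_instance
  obtain ⟨A, hA, B, hB, hne, hnc⟩ : ∃ A ∈ D, ∃ B ∈ D, A ≠ B ∧ ¬ B ≤ centralizer (A : Set G) := by
    by_contra hall
    push Not at hall
    refine hG ⟨⟨fun x y => ?_⟩⟩
    have htop : ∀ C ∈ D, (⊤ : Subgroup G) ≤ centralizer (C : Set G) := fun C hC => by
      rw [← hDgen]
      refine sSup_le fun E hE => ?_
      by_cases e : C = E
      · rw [← e]; exact le_centralizer_iff_isMulCommutative.2 (hcyc C hC)
      · exact hall C hC E hE e
    have hc : (⊤ : Subgroup G) ≤ center G := by
      conv_lhs => rw [← hDgen]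
      exact sSup_le fun C hC c hc => mem_center_iff.2 fun g =>
        (mem_centralizer_iff.1 (htop C hC (mem_top g)) c hc).symm
    exact mem_center_iff.1 (hc (mem_top y)) x
  have hcard : ∀ C ∈ D, ∀ E ∈ D, C ≠ E → Nat.card (C ⊔ E : Subgroup G) = Nat.card F :=
    fun C hC E hE h => Nat.card_congr (hpair C hC E hE h).some.toEquiv
  have hP : Pre p D :=
    { pp := hp
      p2 := hp2
      card := hDp
      inv := fun C hC g => by rw [Coprime.conj_smul_eq_map]; exact hDinv C hC g
      nc := fun C hC E hE h hc => hnc fun b hb => mem_centralizer_iff.2 fun a ha => by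
        have hcl : C ⊔ E ≤ centralizer ((C ⊔ E : Subgroup G) : Set G) := by
          refine sup_le (le_centralizer_iff.1 (sup_le ?_ hc)) (le_centralizer_iff.1 (sup_le ?_ ?_))
          · exact le_centralizer_iff_isMulCommutative.2 (hcyc C hC)
          · exact le_centralizer_iff.1 hc
          · exact le_centralizer_iff_isMulCommutative.2 (hcyc E hE)
        exact commute_of_equiv (hpair C hC E hE h).some (hpair A hA B hB hne).some
          (fun x hx y hy => (mem_centralizer_iff.1 (hcl hy) x hx)) a (mem_sup_left ha) b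
          (mem_sup_right hb)
      odd := fun C hC E hE h => by rw [hcard C hC E hE h]; exact hF
      same := fun C hC E hE C' hC' E' hE' h h' => by rw [hcard C hC E hE h, hcard C' hC' E' hE' h'] }
  obtain ⟨q, e, hq, hqp, hq2, he, hline⟩ := hP.exists_line hFT hA hB hne
  have hS : Sys p q D :=
    { toPre := hP
      qq := hq
      qp := hqp
      q2 := hq2
      line := fun C hC E hE h => ⟨e, he, by rw [hP.same C hC E hE A hA B hB h hne, hline]⟩
      ab := fun C hC E hE C' hC' E' hE' h h' hab =>
        ab_of_equiv ((hpair C hC E hE h).some.trans (hpair C' hC' E' hE' h').some.symm) hab }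
  exact frobenius hFT hS hDgen hA hB hne

end Cfsg.Agent.S3257
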