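import Cfsg.Statements.S3261
import Cfsg.Agent.S3035
import Cfsg.Agent.Core.PCore
import Cfsg.Agent.Classical.SmallPSL

set_option autoImplicit false
open Cfsg

namespace Cfsg.Agent.S3261

section Prep

open Equiv

/-- the double transposition `(0 1)(2 3)` -/
def cz : Equiv.Perm (Fin 6) := Equiv.swap 0 1 * Equiv.swap 2 3

def rr : Equiv.Perm (Fin 6) := Equiv.swap 0 2 * Equiv.swap 1 2 * Equiv.swap 1 3 * Equiv.swap 4 5

def ss : Equiv.Perm (Fin 6) := Equiv.swap 0 1 * Equiv.swap 4 5

def dmap : DihedralGroup 4 → Equiv.Perm (Fin 6)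
  | .r i => rr ^ i.val
  | .sr i => ss * rr ^ i.val

theorem dmap_mul : ∀ a b : DihedralGroup 4, dmap (a * b) = dmap a * dmap b := by decide
theorem dmap_even : ∀ a : DihedralGroup 4, Equiv.Perm.sign (dmap a) = 1 := by decide
theorem dmap_inj : ∀ a b : DihedralGroup 4, dmap a = dmap b → a = b := by decide
theorem dmap_cz : ∀ a : DihedralGroup 4, dmap a * cz = cz * dmap a := by decide
theorem card_cz : (Finset.univ.filter (fun σ : Equiv.Perm (Fin 6) =>
    Equiv.Perm.sign σ = 1 ∧ σ * cz = cz * σ)).card = 8 := by decide +kernel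
theorem cz_mem : cz ∈ alternatingGroup (Fin 6) := Equiv.Perm.mem_alternatingGroup.2 (by decide)

theorem centralizer_cz : Nonempty (DihedralGroup 4 ≃*
    ↥(Subgroup.centralizer ({⟨cz, cz_mem⟩} : Set ↥(alternatingGroup (Fin 6))))) := by
  classical
  let f : DihedralGroup 4 →* ↥(Subgroup.centralizer ({⟨cz, cz_mem⟩} : Set ↥(alternatingGroup (Fin 6)))) :=
    MonoidHom.mk' (fun a => ⟨⟨dmap a, Equiv.Perm.mem_alternatingGroup.2 (dmap_even a)⟩,
      Subgroup.mem_centralizer_singleton_iff.2 (Subtype.ext (dmap_cz a))⟩)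
      (fun a b => Subtype.ext (Subtype.ext (dmap_mul a b)))
  have hinj : Function.Injective f := fun a b h =>
    dmap_inj a b (congrArg (fun x => ((x.1 : ↥(alternatingGroup (Fin 6))) : Equiv.Perm (Fin 6))) h)
  have hle : Nat.card ↥(Subgroup.centralizer ({⟨cz, cz_mem⟩} : Set ↥(alternatingGroup (Fin 6)))) ≤ 8 := by
    rw [← card_cz, ← Nat.card_eq_finsetCard]
    refine Nat.card_le_card_of_injective
      (fun x => ⟨((x.1 : ↥(alternatingGroup (Fin 6))) : Equiv.Perm (Fin 6)), ?_⟩) ?_
    · rw [Finset.mem_filter]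
      exact ⟨Finset.mem_univ _, Equiv.Perm.mem_alternatingGroup.1 x.1.2,
        congrArg Subtype.val (Subgroup.mem_centralizer_singleton_iff.1 x.2)⟩
    · intro x y h
      exact Subtype.ext (Subtype.ext (congrArg Subtype.val h :))
  exact ⟨MulEquiv.ofBijective f (hinj.bijective_of_nat_card_le (by rw [DihedralGroup.nat_card]; exact hle))⟩

theorem centralizer_double (αt : ↥(alternatingGroup (Fin 6))) (hαt : orderOf αt = 2)
    (hsupp : (αt : Equiv.Perm (Fin 6)).support.card = 4) :
    Nonempty (↥(Subgroup.centralizer ({αt} : Set ↥(alternatingGroup (Fin 6)))) ≃* DihedralGroup 4) := by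
  classical
  have hct : ∀ σ : Equiv.Perm (Fin 6), orderOf σ = 2 → σ.support.card = 4 →
      σ.cycleType = Multiset.replicate 2 2 := by
    intro σ h1 h2
    obtain ⟨n, hn⟩ := Equiv.Perm.cycleType_prime_order (h1.symm ▸ Nat.prime_two)
    rw [h1] at hn
    have hs := Equiv.Perm.sum_cycleType σ
    rw [hn, Multiset.sum_replicate, smul_eq_mul, h2] at hs
    rw [hn, show n + 1 = 2 by omega]
  obtain ⟨π, hπ⟩ := isConj_iff.1 (Equiv.Perm.isConj_iff_cycleType_eq.2 ((hct _ (by
    rw [Subgroup.orderOf_coe]; exact hαt) hsupp).trans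
    (hct cz (orderOf_eq_prime (by decide) (by decide)) (by decide)).symm))
  obtain ⟨e₀⟩ := centralizer_cz
  let φ : ↥(alternatingGroup (Fin 6)) ≃* ↥(alternatingGroup (Fin 6)) := MulAut.conjNormal π
  have hφ : φ αt = ⟨cz, cz_mem⟩ := Subtype.ext (by
    show ((MulAut.conjNormal π αt : ↥(alternatingGroup (Fin 6))) : Equiv.Perm (Fin 6)) = cz
    rw [MulAut.conjNormal_apply]; exact hπ)
  have hmap : (Subgroup.centralizer ({αt} : Set ↥(alternatingGroup (Fin 6)))).map φ.toMonoidHom =
      Subgroup.centralizer ({⟨cz, cz_mem⟩} : Set ↥(alternatingGroup (Fin 6))) := by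
    ext x
    rw [Subgroup.mem_map_equiv, Subgroup.mem_centralizer_singleton_iff,
      Subgroup.mem_centralizer_singleton_iff, ← φ.injective.eq_iff, map_mul, map_mul,
      MulEquiv.apply_symm_apply, hφ]
  exact ⟨((φ.subgroupMap _).trans (MulEquiv.subgroupCongr hmap)).trans e₀.symm⟩

theorem index_two_of_two_group {G : Type*} [Group G] [Finite G] (C N : Subgroup G) [N.Normal]
    (h : C ⊔ N = ⊤) (hC : IsPGroup 2 C) (hN : N ≠ ⊤) : ∃ H : Subgroup G, H.index = 2 := by
  classical
  have : Fact (Nat.Prime 2) := ⟨Nat.prime_two⟩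
  let f : C →* G ⧸ N := (QuotientGroup.mk' N).comp C.subtype
  have hf : Function.Surjective f := by
    rw [← MonoidHom.range_eq_top, MonoidHom.range_comp, Subgroup.range_subtype,
      ← Subgroup.map_top_of_surjective _ (QuotientGroup.mk'_surjective N), ← h, Subgroup.map_sup,
      (Subgroup.map_eq_bot_iff N).2 (by rw [QuotientGroup.ker_mk']), sup_bot_eq]
  obtain ⟨m, hm⟩ := IsPGroup.iff_card.1 (hC.of_surjective f hf)
  cases m with
  | zero =>
    exact absurd (QuotientGroup.subgroup_eq_top_of_subsingleton N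
      ((Nat.card_eq_one_iff_unique.1 hm).1)) hN
  | succ m =>
    obtain ⟨H, hH⟩ := Sylow.exists_subgroup_card_pow_prime 2 (G := G ⧸ N) (n := m)
      (by rw [hm]; exact pow_dvd_pow 2 (Nat.le_succ m))
    refine ⟨H.comap (QuotientGroup.mk' N), ?_⟩
    rw [Subgroup.index_comap_of_surjective _ (QuotientGroup.mk'_surjective N)]
    have h1 := H.card_mul_index
    rw [hm, hH, pow_succ] at h1
    exact Nat.eq_of_mul_eq_mul_left (by positivity) h1

end Prep

/-- Let α̃ be an involution of the alternating group A₆ that is a product of two disjoint transpositions (it lies in the centre of a Sylow 2-subgroup of A₆; its centralizer is dihedral of order 8). Let G be a finite group that has no subgroup of index 2 and contains an involution α, central in some Sylow 2-subgroup of G, with C_G(α) ≅ C_{A₆}(α̃). Then G is isomorphic to A₆ or to PSL₂(7). -/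
theorem result {G : Type*} [Group G] [Finite G]
    (hG : ∀ H : Subgroup G, H.index ≠ 2)
    (αt : ↥(alternatingGroup (Fin 6))) (hαt : orderOf αt = 2) (hsupp : (αt : Equiv.Perm (Fin 6)).support.card = 4)
    (α : G) (hα : orderOf α = 2) (S : Sylow 2 G) (hαS : α ∈ (S : Subgroup G)) (hαc : ∀ s ∈ (S : Subgroup G), s * α = α * s)
    (e : ↥(Subgroup.centralizer ({α} : Set G)) ≃* ↥(Subgroup.centralizer ({αt} : Set ↥(alternatingGroup (Fin 6))))) :
    Nonempty (G ≃* ↥(alternatingGroup (Fin 6))) ∨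
      (∃ (F : Type) (_ : Field F) (_ : Fintype F), Fintype.card F = 7 ∧ Nonempty (G ≃* Matrix.ProjectiveSpecialLinearGroup (Fin 2) F)) := by
  classical
  obtain ⟨e₁⟩ := centralizer_double αt hαt hsupp
  have hsym : ∀ n : ℕ, 2 ≤ n → (G ≃* Equiv.Perm (Fin n)) → False := by
    intro n hn φ
    have : Nontrivial (Fin n) := Fin.nontrivial_iff_two_le.2 hn
    refine hG ((alternatingGroup (Fin n)).comap φ.toMonoidHom) ?_
    rw [Subgroup.index_comap_of_surjective _ φ.surjective]
    exact alternatingGroup.index_eq_two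
  rcases S3035.result α hα ⟨e.trans e₁⟩ with h | h | h | h | h
  · exfalso
    have hC : IsPGroup 2 (Subgroup.centralizer ({α} : Set G)) :=
      IsPGroup.of_card (n := 3) (by rw [Nat.card_congr (e.trans e₁).toEquiv, DihedralGroup.nat_card]; rfl)
    have h2f : Fact (Nat.Prime 2) := ⟨Nat.prime_two⟩
    have hne : Cfsg.oddCore G ≠ ⊤ := fun hh => by
      have h2 : orderOf α ∣ Nat.card ↥(Cfsg.oddCore G) := by
        have h3 := orderOf_dvd_natCard (⟨α, hh ▸ Subgroup.mem_top α⟩ : ↥(Cfsg.oddCore G))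
        rwa [Subgroup.orderOf_mk] at h3
      rw [hα] at h2
      exact Core.not_dvd_card_pPrimeCore (p := 2) h2
    obtain ⟨H, hH⟩ := index_two_of_two_group _ _ h hC hne
    exact hG H hH
  · exact h.elim fun φ => (hsym 4 (by norm_num) φ).elim
  · exact h.elim fun φ => (hsym 5 (by norm_num) φ).elim
  · right
    have : Fact (Nat.Prime 7) := ⟨by norm_num⟩
    obtain ⟨φ⟩ := h
    obtain ⟨e₂⟩ := Classical.Small.psl_seven_three (F := ZMod 7) (K := ZMod 2) (ZMod.card 7) (ZMod.card 2)
    have hcen : Subgroup.center (Matrix.SpecialLinearGroup (Fin 3) (ZMod 2)) = ⊥ := by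
      refine (Subgroup.eq_bot_iff_forall _).2 fun c hc => ?_
      obtain ⟨x, hx, hc'⟩ := Matrix.SpecialLinearGroup.mem_center_iff.1 hc
      have key : ∀ y : ZMod 2, y ^ 3 = 1 → y = 1 := by decide
      rw [Fintype.card_fin] at hx
      rw [key x hx, map_one] at hc'
      exact Subtype.ext hc'.symm
    exact ⟨ZMod 7, inferInstance, inferInstance, ZMod.card 7,
      ⟨φ.trans ((e₂.trans ((QuotientGroup.quotientMulEquivOfEq hcen).trans QuotientGroup.quotientBot)).symm)⟩⟩
  · exact Or.inl h

end Cfsg.Agent.S3261
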