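import Cfsg.Statements.S3266
import Mathlib
import Cfsg.Agent.InvGraphPSL.Main

set_option autoImplicit false
open Cfsg

namespace Cfsg.Agent.S3266

/-- Let F be a finite field with at least 4 elements and let X be a conjugacy class of involutions of PSL(2, F). The graph on X joining two distinct involutions whose product has odd order is connected and has diameter exactly 2. -/
theorem result {F : Type*} [Field F] [Fintype F] (hF : 4 ≤ Fintype.card F)
    (t : Matrix.ProjectiveSpecialLinearGroup (Fin 2) F) (ht : orderOf t = 2) :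
    (SimpleGraph.fromRel fun x y : {x : Matrix.ProjectiveSpecialLinearGroup (Fin 2) F // IsConj t x} =>
        Odd (orderOf (x.1 * y.1))).Connected ∧
      (SimpleGraph.fromRel fun x y : {x : Matrix.ProjectiveSpecialLinearGroup (Fin 2) F // IsConj t x} =>
        Odd (orderOf (x.1 * y.1))).diam = 2 := by
  classical
  set X := {x : Matrix.ProjectiveSpecialLinearGroup (Fin 2) F // IsConj t x}
  set Γ := SimpleGraph.fromRel fun x y : X => Odd (orderOf (x.1 * y.1)) with hΓ
  have hX : ∀ x : X, orderOf x.1 = 2 := fun x => by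
    obtain ⟨g, hg⟩ := isConj_iff.1 x.2
    rw [← hg]
    exact ((MulAut.conj g).orderOf_eq t).trans ht
  have hmem : ∀ z, orderOf z = 2 → IsConj t z := fun z hz => by
    obtain ⟨A, hA, hAn, rfl⟩ := Cfsg.Agent.InvGraphPSL.exists_lift t ht
    obtain ⟨B, hB, hBn, rfl⟩ := Cfsg.Agent.InvGraphPSL.exists_lift z hz
    exact Cfsg.Agent.InvGraphPSL.isConj_proj hA hAn hB hBn
  have hsym : ∀ a b : X, Odd (orderOf (a.1 * b.1)) ↔ Odd (orderOf (b.1 * a.1)) := fun a b => by
    have hsq : ∀ x : X, (x.1)⁻¹ = x.1 := fun x => inv_eq_of_mul_eq_one_right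
      (by rw [← sq]; exact orderOf_dvd_iff_pow_eq_one.1 (dvd_of_eq (hX x)))
    rw [← orderOf_inv, _root_.mul_inv_rev, hsq, hsq]
  have hadj : ∀ a b : X, a ≠ b → Odd (orderOf (a.1 * b.1)) → Γ.Adj a b := fun a b hne h => by
    rw [hΓ, SimpleGraph.fromRel_adj]; exact ⟨hne, Or.inl h⟩
  have hwalk : ∀ a b : X, ∃ w : Γ.Walk a b, w.length ≤ 2 := by
    intro a b
    rcases eq_or_ne a b with rfl | hne
    · exact ⟨SimpleGraph.Walk.nil, by simp⟩
    rcases Cfsg.Agent.InvGraphPSL.step hF a.1 b.1 (hX a) (hX b) with h | ⟨z, hz, h1, h2, h3, h4⟩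
    · exact ⟨(hadj a b hne h).toWalk, by simp⟩
    · have e1 : Γ.Adj a ⟨z, hmem z hz⟩ := hadj _ _ (fun e => h1 (congrArg Subtype.val e)) h3
      have e2 : Γ.Adj ⟨z, hmem z hz⟩ b := hadj _ _ (fun e => h2 (congrArg Subtype.val e)) h4
      exact ⟨SimpleGraph.Walk.cons e1 e2.toWalk, by simp⟩
  have : Nonempty X := ⟨⟨t, IsConj.refl t⟩⟩
  refine ⟨⟨fun a b => (hwalk a b).elim fun w _ => ⟨w⟩⟩, ?_⟩
  obtain ⟨A, B, hA, hAn, hB, hBn, hne, hnadj⟩ := Cfsg.Agent.InvGraphPSL.exists_nonadjacent (F := F) hF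
  set a : X := ⟨_, hmem _ (Cfsg.Agent.InvGraphPSL.orderOf_proj hA hAn)⟩
  set b : X := ⟨_, hmem _ (Cfsg.Agent.InvGraphPSL.orderOf_proj hB hBn)⟩
  have hab : a ≠ b := fun e => hne (congrArg Subtype.val e)
  have hna : ¬ Γ.Adj a b := by
    rw [hΓ, SimpleGraph.fromRel_adj]
    rintro ⟨-, h | h⟩
    · exact hnadj h
    · exact hnadj ((hsym b a).1 h)
  have hle : Γ.ediam ≤ 2 := SimpleGraph.ediam_le_of_edist_le fun u v => by
    obtain ⟨w, hw⟩ := hwalk u v
    exact (SimpleGraph.edist_le w).trans (by exact_mod_cast hw)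
  have hge : 2 ≤ Γ.ediam := by
    refine le_trans ?_ (SimpleGraph.edist_le_ediam (u := a) (v := b))
    by_contra hlt
    have h01 : Γ.edist a b = 0 ∨ Γ.edist a b = 1 := by
      revert hlt
      cases h : Γ.edist a b using ENat.recTopCoe with
      | top => simp
      | coe k =>
        intro hk
        have hk' : ¬ 2 ≤ k := fun h => hk (by exact_mod_cast h)
        rcases (show k = 0 ∨ k = 1 by omega) with rfl | rfl
        · exact Or.inl rfl
        · exact Or.inr rfl
    rcases h01 with h | h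
    · exact hab (SimpleGraph.edist_eq_zero_iff.1 h)
    · exact hna (SimpleGraph.edist_eq_one_iff_adj.1 h)
  show Γ.diam = 2
  rw [SimpleGraph.diam, le_antisymm hle hge]
  rfl

end Cfsg.Agent.S3266
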