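import Cfsg.Statements.S3269
import Cfsg.Agent.Invol.ZStar
import Cfsg.Agent.QuatDirect.Basic

set_option autoImplicit false
open Cfsg

namespace Cfsg.Agent.S3269

theorem quaternion_noncomm (n : ℕ) (hn : 1 ≤ n) :
    ∃ q₁ q₂ : QuaternionGroup (2 ^ n), q₁ * q₂ ≠ q₂ * q₁ := by
  refine ⟨QuaternionGroup.a 1, QuaternionGroup.xa 0, fun h => ?_⟩
  rw [QuaternionGroup.a_mul_xa, QuaternionGroup.xa_mul_a, QuaternionGroup.xa.injEq] at h
  have h2 : ((2 : ℕ) : ZMod (2 * 2 ^ n)) = 0 := by
    push_cast
    linear_combination -h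
  rw [ZMod.natCast_eq_zero_iff] at h2
  have := Nat.le_of_dvd two_pos h2
  have : 2 ≤ 2 ^ n := Nat.le_self_pow (by omega) 2
  omega


/-- Let G be a finite group whose Sylow 2-subgroup S is an internal direct product Q × R with Q generalized quaternion (of order at least 8) and R a subgroup all of whose involutions are central in R. Then G is not simple. In particular no finite simple group has a Sylow 2-subgroup that is a direct product of one or more generalized quaternion groups. -/
theorem result {G : Type*} [Group G] [Finite G]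
    (S : Sylow 2 G) (Q R : Subgroup G) (hQR : Cfsg.IsInternalDirectProduct Q R (S : Subgroup G))
    (n : ℕ) (hn : 1 ≤ n) (eQ : ↥Q ≃* QuaternionGroup (2 ^ n))
    (hR : ∀ r ∈ R, orderOf r = 2 → ∀ s ∈ R, r * s = s * r) :
    ¬ IsSimpleGroup G := by
  intro hs
  obtain ⟨u, hu, huS, hfix⟩ := QuatDirect.exists_isolated S Q R hQR n hn eQ hR
  have hiso : Cfsg.IsIsolatedInvolution u := Invol.isolated_of_sylow S hu hfix
  have h2G : 2 ∣ Nat.card G := hu ▸ orderOf_dvd_natCard u
  have : (Cfsg.oddCore G).Normal := inferInstance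
  rcases hs.eq_bot_or_eq_top_of_normal (Cfsg.oddCore G) inferInstance with hO | hO
  · have hcen : u ∈ Subgroup.center G := Subgroup.mem_center_iff.2 fun g => by
      have h3 := Invol.zstar hiso g
      rw [hO, Subgroup.mem_bot, mul_inv_eq_one] at h3
      exact (mul_inv_eq_iff_eq_mul.1 h3).symm
    have hu1 : u ≠ 1 := fun h => by simp [h] at hu
    rcases hs.eq_bot_or_eq_top_of_normal (Subgroup.center G) inferInstance with hZ | hZ
    · rw [hZ, Subgroup.mem_bot] at hcen; exact hu1 hcen
    · obtain ⟨q₁, q₂, hq⟩ : ∃ q₁ q₂ : QuaternionGroup (2 ^ n), q₁ * q₂ ≠ q₂ * q₁ :=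
        quaternion_noncomm n hn
      apply hq
      apply eQ.symm.injective
      apply Subtype.ext
      simp only [map_mul, Subgroup.coe_mul]
      exact Subgroup.mem_center_iff.1 (hZ ▸ Subgroup.mem_top _) _
  · have hodd := Core.not_dvd_card_pPrimeCore (p := 2) (G := G)
    rw [show Cfsg.pPrimeCore 2 G = ⊤ from hO, Subgroup.card_top] at hodd
    exact hodd h2G

end Cfsg.Agent.S3269
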