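import Cfsg.Statements.S3276
import Mathlib
import Cfsg.Agent.TwoTransfer.Basic

set_option autoImplicit false
open Cfsg

namespace Cfsg.Agent.S3276

/-- Let x and y be commuting, non-conjugate involutions of a finite group G, and suppose that for every involution u commuting with x, each conjugate of y that commutes with u also commutes with y. Then the normal closure of y is a proper, normal, elementary abelian 2-subgroup of G; and if y is the only involution of that normal closure commuting with x, it has order at most 4. -/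
theorem result {G : Type*} [Group G] [Finite G] (x y : G) (hx : orderOf x = 2) (hy : orderOf y = 2)
    (hxy : Commute x y) (hnc : ¬ IsConj x y)
    (hstar : ∀ u : G, orderOf u = 2 → Commute u x → ∀ g : G, Commute (g * y * g⁻¹) u → Commute (g * y * g⁻¹) y) :
    Subgroup.normalClosure ({y} : Set G) ≠ ⊤ ∧ Cfsg.IsElementaryAbelian 2 (Subgroup.normalClosure ({y} : Set G)) ∧
      ((∀ u ∈ Subgroup.normalClosure ({y} : Set G), orderOf u = 2 → Commute u x → u = y) →
        Nat.card ↥(Subgroup.normalClosure ({y} : Set G)) ≤ 4) := by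
  classical
  have hconjy : ∀ g : G, Commute (g * y * g⁻¹) y := by
    intro g
    have hy' : orderOf (g * y * g⁻¹) = 2 := by
      rw [← hy]; exact MulEquiv.orderOf_eq (MulAut.conj g) y
    have hn' : ¬ IsConj x (g * y * g⁻¹) := fun h =>
      hnc (h.trans (isConj_iff.2 ⟨g⁻¹, by group⟩))
    obtain ⟨m, -, -, hu2, hux, huy, -⟩ := TwoTransfer.exists_commuting_involution hx hy' hn'
    exact hstar _ hu2 hux g huy.symm
  have hall : ∀ a ∈ Group.conjugatesOfSet ({y} : Set G), ∀ b ∈ Group.conjugatesOfSet ({y} : Set G),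
      a * b = b * a := by
    intro a ha b hb
    simp only [Group.mem_conjugatesOfSet_iff, Set.mem_singleton_iff, exists_eq_left,
      isConj_iff] at ha hb
    obtain ⟨g, rfl⟩ := ha
    obtain ⟨k, rfl⟩ := hb
    have h1 := (hconjy (k⁻¹ * g)).map (MulAut.conj k)
    simp only [MulAut.conj_apply] at h1
    have e1 : k * (k⁻¹ * g * y * (k⁻¹ * g)⁻¹) * k⁻¹ = g * y * g⁻¹ := by group
    rw [e1] at h1
    exact h1.eq
  set N := Subgroup.normalClosure ({y} : Set G) with hN
  have hab : IsMulCommutative N := Subgroup.isMulCommutative_closure hall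
  have hsq : ∀ a ∈ N, a ^ 2 = 1 := by
    intro a ha
    induction ha using Subgroup.closure_induction with
    | mem b hb =>
      simp only [Group.mem_conjugatesOfSet_iff, Set.mem_singleton_iff, exists_eq_left,
        isConj_iff] at hb
      obtain ⟨g, rfl⟩ := hb
      rw [conj_pow, ← hy, pow_orderOf_eq_one]
      group
    | one => exact one_pow _
    | mul b c hb hc ihb ihc =>
      rw [(show Commute b c from congrArg Subtype.val (hab.is_comm.comm (⟨b, hb⟩ : N) ⟨c, hc⟩)).mul_pow,
        ihb, ihc, one_mul]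
    | inv b hb ihb => rw [inv_pow, ihb, inv_one]
  refine ⟨?_, ⟨hab, hsq⟩, ?_⟩
  · intro htop
    have hcomm : ∀ a b : G, a * b = b * a := fun a b => congrArg Subtype.val
      (hab.is_comm.comm (⟨a, htop ▸ Subgroup.mem_top a⟩ : N) ⟨b, htop ▸ Subgroup.mem_top b⟩)
    have hle : N ≤ Subgroup.zpowers y := by
      rw [hN, Subgroup.normalClosure, Subgroup.closure_le]
      intro b hb
      simp only [Group.mem_conjugatesOfSet_iff, Set.mem_singleton_iff, exists_eq_left,
        isConj_iff] at hb
      obtain ⟨g, rfl⟩ := hb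
      rw [hcomm g y, mul_inv_cancel_right]
      exact Subgroup.mem_zpowers y
    have hxy' : x ∈ Subgroup.zpowers y := hle (htop ▸ Subgroup.mem_top x)
    obtain ⟨i, hi⟩ := Subgroup.mem_zpowers_iff.1 hxy'
    rw [← hi] at hx
    have : orderOf (y ^ i) = 2 := hx
    rcases Int.even_or_odd i with ⟨r, rfl⟩ | ⟨r, rfl⟩
    · rw [← two_mul, zpow_mul, zpow_two, ← sq, ← hy, pow_orderOf_eq_one, one_zpow, orderOf_one] at this
      omega
    · apply hnc
      rw [← hi, zpow_add, zpow_mul, zpow_two, ← sq, ← hy, pow_orderOf_eq_one, one_zpow, one_mul,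
        zpow_one]
  intro huniq
  have hx2 : x⁻¹ = x := by
    apply inv_eq_of_mul_eq_one_right
    rw [← sq, ← hx, pow_orderOf_eq_one]
  have hNn : ∀ a ∈ N, x * a * x⁻¹ ∈ N := fun a ha =>
    (Subgroup.normalClosure_normal).conj_mem a ha x
  let d : N →* N :=
    { toFun := fun a => a * ⟨x * a * x⁻¹, hNn a a.2⟩
      map_one' := by ext; simp
      map_mul' := fun a b => by
        have e : (⟨x * (a * b : N) * x⁻¹, hNn _ (a * b).2⟩ : N) =
            ⟨x * a * x⁻¹, hNn a a.2⟩ * ⟨x * b * x⁻¹, hNn b b.2⟩ := by ext; simp [mul_assoc]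
        rw [e]
        set c : N := ⟨x * a * x⁻¹, hNn a a.2⟩
        set d' : N := ⟨x * b * x⁻¹, hNn b b.2⟩
        rw [mul_assoc a b, ← mul_assoc b, hab.is_comm.comm b c, mul_assoc c, ← mul_assoc a] }
  have hinvN : ∀ a ∈ N, a⁻¹ = a := fun a ha =>
    inv_eq_of_mul_eq_one_right (by rw [← sq]; exact hsq a ha)
  set C : Subgroup N := (Subgroup.centralizer ({x} : Set G)).subgroupOf N with hC
  have hCcard : Nat.card C ≤ 2 := by
    have h1 : ∀ c : C, (c : G) = 1 ∨ (c : G) = y := by
      intro c
      by_cases h0 : (c : G) = 1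
      · exact Or.inl h0
      · exact Or.inr (huniq _ (c : N).2 (orderOf_eq_prime (hsq _ (c : N).2) h0)
          (Subgroup.mem_centralizer_singleton_iff.1 c.2))
    refine le_of_le_of_eq (Nat.card_le_card_of_injective (fun c : C => decide ((c : G) = 1)) ?_)
      (Nat.card_eq_fintype_card.trans Fintype.card_bool)
    intro a b hab'
    simp only [decide_eq_decide] at hab'
    rcases h1 a with ha | ha <;> rcases h1 b with hb | hb
    · exact Subtype.ext (Subtype.ext (ha.trans hb.symm))
    · exact Subtype.ext (Subtype.ext (ha.trans (hab'.1 ha).symm))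
    · exact Subtype.ext (Subtype.ext ((hab'.2 hb).trans hb.symm))
    · exact Subtype.ext (Subtype.ext (ha.trans hb.symm))
  have hker : d.ker ≤ C := by
    intro a ha
    rw [hC, Subgroup.mem_subgroupOf, Subgroup.mem_centralizer_singleton_iff]
    have h1 : (a : G) * (x * a * x⁻¹) = 1 := congrArg Subtype.val ha
    have h2 : x * a * x⁻¹ = a := (eq_inv_of_mul_eq_one_right h1).trans (hinvN _ a.2)
    exact (mul_inv_eq_iff_eq_mul.1 h2).symm
  have hrange : d.range ≤ C := by
    rintro _ ⟨a, rfl⟩
    rw [hC, Subgroup.mem_subgroupOf, Subgroup.mem_centralizer_singleton_iff]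
    change (a : G) * (x * a * x⁻¹) * x = x * ((a : G) * (x * a * x⁻¹))
    have h2 : (a : G) * (x * a * x⁻¹) = x * a * x⁻¹ * a :=
      congrArg Subtype.val (hab.is_comm.comm a ⟨_, hNn a a.2⟩)
    conv_lhs => rw [h2]
    rw [hx2]
    simp only [mul_assoc]
  rw [Subgroup.card_eq_card_quotient_mul_card_subgroup d.ker,
    Nat.card_congr (QuotientGroup.quotientKerEquivRange d).toEquiv]
  calc Nat.card d.range * Nat.card d.ker ≤ 2 * 2 :=
        Nat.mul_le_mul ((Subgroup.card_le_of_le hrange).trans hCcard)
          ((Subgroup.card_le_of_le hker).trans hCcard)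
    _ = 4 := rfl

end Cfsg.Agent.S3276
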