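import Cfsg.Statements.S3278
import Cfsg.Agent.Fg24.InvolD8.KleinOrder
import Cfsg.Agent.MaxClass.Class
import Cfsg.Agent.TwoTransfer.Basic
import Cfsg.Agent.Fusion.Transfer
import Cfsg.Agent.Fusion.Residual
import Cfsg.Agent.Classical.SmallSimple

set_option autoImplicit false
open Cfsg

namespace Cfsg.Agent.S3278

open Subgroup MulAction

section Prep

theorem no_solution {g x₁ x₂ x₃ : ℕ} {e₁ e₂ e₃ : ℤ} (hg : 15 < g) (hdvd : 3 ∣ g)
    (hmod : g / 3 % 4 = 1) (o1 : Odd x₁) (o2 : Odd x₂) (o3 : Odd x₃)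
    (he1 : e₁ = 1 ∨ e₁ = -1) (he2 : e₂ = 1 ∨ e₂ = -1) (he3 : e₃ = 1 ∨ e₃ = -1)
    (hrel : (1 : ℤ) + e₁ * x₁ + e₂ * x₂ + e₃ * x₃ = 0)
    (heq : (g : ℤ) * (((x₁ : ℤ) + e₁) * ((x₂ : ℤ) + e₂) * ((x₃ : ℤ) + e₃)) = 8 * x₁ * x₂ * x₃) :
    False := by
  have p1 : (0 : ℤ) < x₁ := by exact_mod_cast o1.pos
  have p2 : (0 : ℤ) < x₂ := by exact_mod_cast o2.pos
  have p3 : (0 : ℤ) < x₃ := by exact_mod_cast o3.pos
  have hDZ : ((x₁ : ℤ) + e₁) * ((x₂ : ℤ) + e₂) * ((x₃ : ℤ) + e₃) ≠ 0 := by
    intro h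
    rw [h, mul_zero] at heq
    have : (0 : ℤ) < 8 * x₁ * x₂ * x₃ := by positivity
    linarith
  obtain ⟨⟨n1, n2⟩, n3⟩ := (show ((x₁ : ℤ) + e₁ ≠ 0 ∧ (x₂ : ℤ) + e₂ ≠ 0) ∧ (x₃ : ℤ) + e₃ ≠ 0 from
    ⟨mul_ne_zero_iff.1 (mul_ne_zero_iff.1 hDZ).1, (mul_ne_zero_iff.1 hDZ).2⟩)
  have hfac : ∀ (x : ℕ) (e : ℤ), Odd x → (e = 1 ∨ e = -1) → (x : ℤ) + e ≠ 0 →
      2 * (x : ℤ) ≤ 3 * (x + e) ∧ (2 * (x : ℤ) = 3 * (x + e) → x = 3 ∧ e = -1) := by
    intro x e hx he h0
    obtain ⟨i, rfl⟩ := hx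
    rcases he with rfl | rfl <;> refine ⟨?_, fun hh => ⟨?_, ?_⟩⟩ <;> push_cast at * <;> omega
  obtain ⟨f1, q1⟩ := hfac x₁ e₁ o1 he1 n1
  obtain ⟨f2, q2⟩ := hfac x₂ e₂ o2 he2 n2
  obtain ⟨f3, q3⟩ := hfac x₃ e₃ o3 he3 n3
  have h12 : (2 * (x₁ : ℤ)) * (2 * x₂) ≤ (3 * ((x₁ : ℤ) + e₁)) * (3 * (x₂ + e₂)) :=
    mul_le_mul f1 f2 (by positivity) (by linarith)
  have hnn : (0 : ℤ) < (3 * ((x₁ : ℤ) + e₁)) * (3 * (x₂ + e₂)) :=
    mul_pos (by linarith) (by linarith)
  have h1 : (2 * (x₁ : ℤ)) * (2 * x₂) * (2 * x₃) ≤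
      (3 * ((x₁ : ℤ) + e₁)) * (3 * (x₂ + e₂)) * (3 * (x₃ + e₃)) :=
    mul_le_mul h12 f3 (by positivity) hnn.le
  have h3 : (g : ℤ) * ((3 * ((x₁ : ℤ) + e₁)) * (3 * (x₂ + e₂)) * (3 * (x₃ + e₃))) =
      27 * (8 * x₁ * x₂ * x₃) := by linear_combination 27 * heq
  have h4 : (0 : ℤ) < x₁ * x₂ * x₃ := by positivity
  have hgle : (g : ℤ) ≤ 27 := by
    have h2 := mul_le_mul_of_nonneg_left h1 (Int.natCast_nonneg g)
    nlinarith
  have hgle' : g ≤ 27 := by exact_mod_cast hgle
  have hg27 : g = 27 := by omega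
  subst hg27
  push_cast at h3
  have e0 : (3 * ((x₁ : ℤ) + e₁)) * (3 * (x₂ + e₂)) * (3 * (x₃ + e₃)) =
      (2 * (x₁ : ℤ)) * (2 * x₂) * (2 * x₃) := by linarith
  have b3 : 2 * (x₃ : ℤ) = 3 * (x₃ + e₃) := by
    nlinarith [mul_le_mul_of_nonneg_right h12 (show (0 : ℤ) ≤ 2 * x₃ by positivity)]
  have b12 : (2 * (x₁ : ℤ)) * (2 * x₂) = (3 * ((x₁ : ℤ) + e₁)) * (3 * (x₂ + e₂)) := by
    rw [← b3] at e0
    exact mul_right_cancel₀ (by positivity) e0.symm
  have b2 : 2 * (x₂ : ℤ) = 3 * (x₂ + e₂) := by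
    nlinarith [mul_le_mul_of_nonneg_right f1 (show (0 : ℤ) ≤ 2 * x₂ by positivity)]
  have b1 : 2 * (x₁ : ℤ) = 3 * (x₁ + e₁) := by
    rw [← b2] at b12
    exact mul_right_cancel₀ (by positivity) b12
  obtain ⟨rfl, rfl⟩ := q1 b1
  obtain ⟨rfl, rfl⟩ := q2 b2
  obtain ⟨rfl, rfl⟩ := q3 b3
  norm_num at hrel

/-- The order formula when the involution centralizers centralize a four-group Sylow subgroup. -/
theorem exists_degrees {K : Type*} [Group K] [Finite K] (g₀ : ℕ) (hg₀ : Odd g₀)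
    (hG : Nat.card K = 4 * g₀) (hnc : ¬ ∃ N : Subgroup K, N.Normal ∧ Nat.card N = g₀)
    (P : Sylow 2 K) (J : K) (hJ : J ∈ (P : Subgroup K)) (hJ2 : orderOf J = 2)
    (hC : Subgroup.centralizer ({J} : Set K) = Subgroup.centralizer ((P : Subgroup K) : Set K))
    (g : ℕ) (hg : Nat.card K = g * Nat.card (Subgroup.centralizer ({J} : Set K))) :
    ∃ (x₁ x₂ x₃ : ℕ) (e₁ e₂ e₃ : ℤ), Odd x₁ ∧ Odd x₂ ∧ Odd x₃ ∧
      (e₁ = 1 ∨ e₁ = -1) ∧ (e₂ = 1 ∨ e₂ = -1) ∧ (e₃ = 1 ∨ e₃ = -1) ∧
      (1 : ℤ) + e₁ * x₁ + e₂ * x₂ + e₃ * x₃ = 0 ∧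
      (g : ℤ) * (((x₁ : ℤ) + e₁) * ((x₂ : ℤ) + e₂) * ((x₃ : ℤ) + e₃)) = 8 * x₁ * x₂ * x₃ := by
  classical
  cases nonempty_fintype K
  obtain ⟨M, hM⟩ := Agent.Blocks.exists_isPModular 2 Nat.prime_two
  obtain ⟨a, ha, hsum⟩ := Agent.Char.klein_section M hM g₀ hg₀ hG hnc P J hJ hJ2
  let B : Finset (IrrCharacter K) := Finset.univ.filter fun χ => χ ∈ Cfsg.principalBlock M K
  have hB : ∀ χ, χ ∈ B ↔ χ ∈ Cfsg.principalBlock M K := fun χ => by simp [B]
  rw [← Finset.sum_filter] at hsum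
  change ∑ χ ∈ B, a χ ^ 2 = 4 at hsum
  have htriv : Agent.Blocks.triv K ∈ B := (hB _).2 (Agent.Blocks.triv_mem_principalBlock hM)
  have ha1 : a (Agent.Blocks.triv K) = 1 := by
    have h : (1 : ℂ) = a (Agent.Blocks.triv K) := (ha _ ((hB _).1 htriv)).2
    exact_mod_cast h.symm
  rw [← Finset.add_sum_erase _ _ htriv, ha1] at hsum
  have hsq : ∀ χ ∈ B.erase (Agent.Blocks.triv K), a χ ^ 2 = 1 := by
    intro χ hχ
    have h0 := (ha χ ((hB χ).1 (Finset.mem_of_mem_erase hχ))).1
    have hle := Finset.single_le_sum (f := fun ψ => a ψ ^ 2) (fun ψ _ => sq_nonneg _) hχ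
    have h2 : a χ ^ 2 ≤ 3 := by linarith
    have h3 : -1 ≤ a χ := by nlinarith
    have h4 : a χ ≤ 1 := by nlinarith
    rcases (by omega : a χ = 1 ∨ a χ = -1) with h | h <;> rw [h] <;> norm_num
  have hcard : (B.erase (Agent.Blocks.triv K)).card = 3 := by
    rw [Finset.sum_congr rfl hsq, Finset.sum_const, nsmul_eq_mul, mul_one] at hsum
    omega
  obtain ⟨χ₁, χ₂, χ₃, h12, h13, h23, he⟩ := Finset.card_eq_three.1 hcard
  have hm : ∀ χ, (χ = χ₁ ∨ χ = χ₂ ∨ χ = χ₃) ↔ χ ∈ B.erase (Agent.Blocks.triv K) := fun χ => by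
    rw [he]; simp
  have hne : ∀ χ, χ ∈ B.erase (Agent.Blocks.triv K) → (χ : K → ℂ) ≠ (fun _ => 1) := fun χ hχ h =>
    Finset.ne_of_mem_erase hχ (Subtype.ext h)
  have m1 := (hm χ₁).1 (Or.inl rfl)
  have m2 := (hm χ₂).1 (Or.inr (Or.inl rfl))
  have m3 := (hm χ₃).1 (Or.inr (Or.inr rfl))
  have hset : Cfsg.principalBlock M K =
      {χ : IrrCharacter K | (χ : K → ℂ) = (fun _ => 1) ∨ χ = χ₁ ∨ χ = χ₂ ∨ χ = χ₃} := by
    ext χ
    rw [← hB]
    show χ ∈ B ↔ _ ∨ _
    constructor
    · intro hχ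
      by_cases h : χ = Agent.Blocks.triv K
      · exact Or.inl (by rw [h]; rfl)
      · exact Or.inr ((hm χ).2 (Finset.mem_erase.2 ⟨h, hχ⟩))
    · rintro (h | h)
      · rwa [show χ = Agent.Blocks.triv K from Subtype.ext h]
      · exact Finset.mem_of_mem_erase ((hm χ).1 h)
  have hv : ∀ χ ∈ B.erase (Agent.Blocks.triv K), (a χ = 1 ∨ a χ = -1) ∧ (χ : K → ℂ) J = a χ :=
    fun χ hχ =>
    ⟨sq_eq_one_iff.1 (hsq χ hχ), (ha χ ((hB χ).1 (Finset.mem_of_mem_erase hχ))).2⟩
  have hdist := And.intro (hne χ₁ m1) (And.intro (hne χ₂ m2) (And.intro (hne χ₃ m3)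
    (And.intro h12 (And.intro h13 h23))))
  have heps := And.intro (hv χ₁ m1).1 (And.intro (hv χ₂ m2).1 (hv χ₃ m3).1)
  have hval := And.intro (hv χ₁ m1).2 (And.intro (hv χ₂ m2).2 (hv χ₃ m3).2)
  obtain ⟨k, x₁, x₂, x₃, -, ⟨d1, d2, d3⟩, ⟨o1, o2, o3⟩, -, hrel, -, -, -⟩ :=
    Agent.Char.klein_data M hM g₀ hg₀ hG hnc P J hJ hJ2 χ₁ χ₂ χ₃ _ _ _ hset hdist heps hval
  have hord := Agent.S4479.result M hM g₀ hg₀ hG hnc P J hJ hJ2 χ₁ χ₂ χ₃ _ _ _ hset hdist heps hval
  rw [Agent.Blocks.charDegree_eq d1, Agent.Blocks.charDegree_eq d2, Agent.Blocks.charDegree_eq d3,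
    ← hC, hg] at hord
  push_cast at hord
  set e₁ := a χ₁
  set e₂ := a χ₂
  set e₃ := a χ₃
  set c := Nat.card (Subgroup.centralizer ({J} : Set K))
  have hc0 : (c : ℚ) ≠ 0 := Nat.cast_ne_zero.2 Nat.card_pos.ne'
  have hg0 : (0 : ℚ) < g := by
    have : 0 < g := by
      rcases Nat.eq_zero_or_pos g with h | h
      · rw [h, zero_mul] at hg
        exact absurd hg Nat.card_pos.ne'
      · exact h
    exact_mod_cast this
  have hD : ((x₁ : ℚ) + e₁) * ((x₂ : ℚ) + e₂) * ((x₃ : ℚ) + e₃) ≠ 0 := by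
    intro h
    rw [h, div_zero, mul_zero, zero_mul, zero_div] at hord
    exact mul_ne_zero hg0.ne' hc0 hord
  refine ⟨x₁, x₂, x₃, e₁, e₂, e₃, o1, o2, o3, heps.1, heps.2.1, heps.2.2, hrel, ?_⟩
  have : (g : ℚ) * (((x₁ : ℚ) + e₁) * ((x₂ : ℚ) + e₂) * ((x₃ : ℚ) + e₃)) = 8 * x₁ * x₂ * x₃ := by
    generalize ((x₁ : ℚ) + e₁) * ((x₂ : ℚ) + e₂) * ((x₃ : ℚ) + e₃) = D at hord hD ⊢
    field_simp at hord
    linear_combination hord
  exact_mod_cast this

end Prep

/-- Let G be a finite simple group with an involution x such that a Sylow 2-subgroup of C_G(x) is a Klein four-group which is normal in C_G(x). Then G is isomorphic to the alternating group of degree 5 (that is, to PSL(2, 5)). -/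
theorem result {G : Type*} [Group G] [Finite G] [IsSimpleGroup G] (x : G) (hx : orderOf x = 2)
    (S₀ : Subgroup G) (hle : S₀ ≤ Subgroup.centralizer ({x} : Set G)) (hK : IsKleinFour ↥S₀)
    (hodd : ¬ 2 ∣ S₀.relIndex (Subgroup.centralizer ({x} : Set G))) (hn : (S₀.subgroupOf (Subgroup.centralizer ({x} : Set G))).Normal) :
    Nonempty (G ≃* ↥(alternatingGroup (Fin 5))) := by
  classical
  have : Fact (Nat.Prime 2) := ⟨Nat.prime_two⟩
  set C := Subgroup.centralizer ({x} : Set G) with hCdef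
  have hmC : ∀ c, c ∈ C ↔ c * x = x * c := fun c => mem_centralizer_singleton_iff
  have hx2 : x * x = 1 := by rw [← pow_two, ← hx]; exact pow_orderOf_eq_one x
  have hx1 : x ≠ 1 := fun h => by simp [h] at hx
  have hS04 : Nat.card S₀ = 4 := hK.card_four
  have hS0sq : ∀ s ∈ S₀, s * s = 1 := fun s hs =>
    congrArg Subtype.val (hK.mul_self (⟨s, hs⟩ : S₀))
  -- a 2-element of `C` lies in `S₀`
  have htwo : ∀ c ∈ C, ∀ j : ℕ, c ^ 2 ^ j = 1 → c ∈ S₀ := by
    intro c hc j hj
    haveI := hn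
    have h1 := (S₀.subgroupOf C).pow_index_mem ⟨c, hc⟩
    rw [mem_subgroupOf] at h1
    change c ^ S₀.relIndex C ∈ S₀ at h1
    have hcop : (2 ^ j).Coprime (S₀.relIndex C) :=
      Nat.Coprime.pow_left _ ((Nat.prime_two.coprime_iff_not_dvd).mpr hodd)
    have h2 : c = c ^ ((2 ^ j : ℕ) * Nat.gcdA (2 ^ j) (S₀.relIndex C) +
        (S₀.relIndex C : ℤ) * Nat.gcdB (2 ^ j) (S₀.relIndex C)) := by
      rw [← Nat.gcd_eq_gcd_ab, hcop.gcd_eq_one, Nat.cast_one, zpow_one]
    rw [h2, zpow_add, zpow_mul, zpow_natCast, hj, one_zpow, one_mul, zpow_mul, zpow_natCast]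
    exact S₀.zpow_mem h1 _
  have hxS0 : x ∈ S₀ := htwo x ((hmC x).mpr rfl) 1 (by rw [pow_one, pow_two]; exact hx2)
  have hS0p : IsPGroup 2 S₀ := IsPGroup.of_card (n := 2) (by rw [hS04]; norm_num)
  obtain ⟨S, hS0S⟩ := hS0p.exists_le_sylow
  have hxS : x ∈ (S : Subgroup G) := hS0S hxS0
  have hsq2 : ∀ s ∈ (S : Subgroup G), s * x = x * s → s ∈ S₀ := by
    intro s hs hsx
    obtain ⟨j, hj⟩ := S.2 ⟨s, hs⟩
    exact htwo s ((hmC s).mpr hsx) j (by simpa using congrArg Subtype.val hj)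
  have hG4 : 4 ∣ Nat.card G := hS04 ▸ card_subgroup_dvd_card S₀
  have hnoIdx : ∀ N : Subgroup G, N.Normal → ∀ j, N.index = 2 ^ j → 0 < j → Nat.card N % 2 = 1 ∨
      N ≠ ⊥ → False := by
    intro N hN j hj hj0 hN2
    rcases hN.eq_bot_or_eq_top with h | h
    · rcases hN2 with h' | h'
      · rw [h, index_bot] at hj
        -- a group of prime power order has non-trivial centre
        have hp : IsPGroup 2 G := IsPGroup.of_card hj
        have hnt : Nontrivial G := by
          rw [← Finite.one_lt_card_iff_nontrivial, hj]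
          exact Nat.one_lt_two_pow hj0.ne'
        have hcn := hp.center_nontrivial
        rcases (inferInstance : (Subgroup.center G).Normal).eq_bot_or_eq_top with hb | hb
        · exact (nontrivial_iff_ne_bot _).mp hcn hb
        · have hcomm : ∀ a b : G, a * b = b * a := fun a b =>
            (mem_center_iff.mp (hb ▸ mem_top a : a ∈ Subgroup.center G) b).symm
          have hS0n : S₀.Normal := ⟨fun s hs g => by
            rw [hcomm g s, mul_inv_cancel_right]; exact hs⟩
          have hxn : (zpowers x).Normal := ⟨fun s hs g => by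
            rw [hcomm g s, mul_inv_cancel_right]; exact hs⟩
          rcases hxn.eq_bot_or_eq_top with hb' | hb'
          · exact hx1 (by simpa [hb'] using mem_zpowers x)
          · have := congrArg (fun H : Subgroup G => Nat.card H) hb'
            simp only [Nat.card_zpowers, hx, card_top] at this
            omega
      · exact h' h
    · rw [h, index_top] at hj
      have := Nat.one_lt_two_pow hj0.ne'
      omega
  set C' := Subgroup.centralizer ({(⟨x, hxS⟩ : (S : Subgroup G))} : Set (S : Subgroup G))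
  have hC'map : C'.map (S : Subgroup G).subtype = S₀ := by
    ext c
    constructor
    · rintro ⟨c', hc', rfl⟩
      exact hsq2 _ c'.2 (congrArg Subtype.val (mem_centralizer_singleton_iff.mp hc'))
    · intro hc
      exact ⟨⟨c, hS0S hc⟩, mem_centralizer_singleton_iff.mpr (Subtype.ext ((hmC c).mp (hle hc))),
        rfl⟩
  have hC'4 : Nat.card C' = 4 := by
    rw [← card_map_of_injective (S : Subgroup G).subtype_injective, hC'map, hS04]
  have hS4 : Nat.card (S : Subgroup G) = 4 := by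
    by_contra hS4
    obtain ⟨m, a, -, u, hm, hScard, ha, hai, -, -, -⟩ :=
      ((Agent.MaxClass.mc_of_centralizer S.2 _ hC'4).resolve_left hS4).data
    set M := (zpowers a).map (S : Subgroup G).subtype with hMdef
    have hMi : M.relIndex (S : Subgroup G) = 2 := by
      rw [relIndex, subgroupOf, hMdef,
        comap_map_eq_self_of_injective (Subgroup.subtype_injective _), hai]
    obtain ⟨N, hNn, hN2, -⟩ := Agent.TwoTransfer.exists_index_two S M hMi x hxS
      (fun j g hj _ => by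
        obtain ⟨i, rfl⟩ : ∃ i, j = i + 1 := ⟨j - 1, by omega⟩
        have : x ^ 2 ^ (i + 1) = 1 := by
          rw [pow_succ', pow_mul, pow_two, hx2, one_pow]
        rw [this, mul_one, inv_mul_cancel]
        exact M.one_mem)
      (fun g _ hgM => by
        obtain ⟨y, hy, hyx⟩ := hgM
        obtain ⟨i, rfl⟩ := hy
        have hga : g * (a : G) * g⁻¹ ∈ S₀ := by
          refine htwo _ ((hmC _).mpr ?_) m ?_
          · have h1 : (a : G) * (g⁻¹ * x * g) = (g⁻¹ * x * g) * a := by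
              rw [← hyx]
              exact congrArg Subtype.val (Commute.self_zpow a i).eq
            calc g * (a : G) * g⁻¹ * x = g * ((a : G) * (g⁻¹ * x * g)) * g⁻¹ := by group
              _ = g * ((g⁻¹ * x * g) * a) * g⁻¹ := by rw [h1]
              _ = x * (g * (a : G) * g⁻¹) := by group
          · rw [conj_pow, conj_eq_one_iff, ← ha]
            exact congrArg Subtype.val (pow_orderOf_eq_one a)
        have h2 := hS0sq _ hga
        rw [← pow_two, conj_pow, conj_eq_one_iff] at h2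
        have h3 : a ^ 2 = 1 := Subtype.ext h2
        have h4 := Nat.le_of_dvd (by norm_num) (orderOf_dvd_of_pow_eq_one h3)
        rw [ha] at h4
        have : 2 ^ 2 ≤ 2 ^ m := Nat.pow_le_pow_right (by norm_num) hm
        omega)
    refine hnoIdx N hNn 1 (by rw [hN2, pow_one]) one_pos (Or.inr fun e => ?_)
    rw [e, index_bot] at hN2
    omega
  have hSS0 : S₀ = (S : Subgroup G) := eq_of_le_of_card_ge hS0S (by rw [hS4, hS04])
  set g₀ := (S : Subgroup G).index
  have hgodd : Odd g₀ := Nat.odd_iff.mpr (by have := S.not_dvd_index; omega)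
  have hGc : Nat.card G = 4 * g₀ := by rw [← (S : Subgroup G).card_mul_index, hS4]
  have hnc' : ¬ ∃ N : Subgroup G, N.Normal ∧ Nat.card N = g₀ := by
    rintro ⟨N, hN, hcard⟩
    have h1 := N.card_mul_index
    rw [hcard, hGc, mul_comm 4] at h1
    exact hnoIdx N hN 2 (Nat.eq_of_mul_eq_mul_left hgodd.pos h1) two_pos
      (Or.inl (by rw [hcard]; exact Nat.odd_iff.mp hgodd))
  set N := Subgroup.normalizer ((S : Subgroup G) : Set G) with hNdef
  set CS := Subgroup.centralizer ((S : Subgroup G) : Set G) with hCSdef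
  have hScomm : ∀ a ∈ (S : Subgroup G), ∀ b ∈ (S : Subgroup G), a * b = b * a := fun a ha b hb =>
    Agent.Char.sylow_four_comm hGc hgodd S ha hb
  have hCSN : CS ≤ N := centralizer_le_normalizer _
  have hSCS : (S : Subgroup G) ≤ CS := fun a ha => mem_centralizer_iff.mpr fun b hb =>
    hScomm b hb a ha
  have hCNodd : Odd (CS.relIndex N) := hgodd.of_dvd_nat
    ((relIndex_dvd_index_of_le hCSN).trans (index_dvd_of_le hSCS))
  have hCN : C ≤ N := by
    intro c hc
    rw [hNdef, mem_normalizer_iff]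
    intro s
    rw [← hSS0]
    have hcS : ∀ d ∈ C, ∀ r ∈ S₀, d * r * d⁻¹ ∈ S₀ := fun d hd r hr => by
      haveI := hn
      have := (inferInstance : (S₀.subgroupOf C).Normal).conj_mem
        ⟨r, hle hr⟩ (mem_subgroupOf.mpr hr) ⟨d, hd⟩
      rw [mem_subgroupOf] at this
      exact this
    refine ⟨hcS c hc s, fun h => ?_⟩
    have := hcS c⁻¹ (C.inv_mem hc) _ h
    rwa [show c⁻¹ * (c * s * c⁻¹) * c⁻¹⁻¹ = s by group] at this
  have hnormC : (CS.subgroupOf N).Normal := by
    refine ⟨fun c hc g => ?_⟩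
    rw [mem_subgroupOf, hCSdef, mem_centralizer_iff] at hc ⊢
    intro y hy
    have hy' : (g : G)⁻¹ * y * g ∈ (S : Subgroup G) :=
      ((mem_normalizer_iff''.mp g.2) y).mp hy
    have := hc _ hy'
    push_cast
    calc y * ((g : G) * c * (g : G)⁻¹) = g * (((g : G)⁻¹ * y * g) * c) * (g : G)⁻¹ := by group
      _ = g * (c * ((g : G)⁻¹ * y * g)) * (g : G)⁻¹ := by rw [this]
      _ = (g : G) * c * (g : G)⁻¹ * y := by group
  -- `C(x)` centralizes `S`
  have hCxS : C = CS := by
    refine le_antisymm (fun c hc => mem_centralizer_iff.mpr fun s hs => ?_) fun c hc =>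
      (hmC c).mpr (mem_centralizer_iff.mp hc x hxS).symm
    by_contra hne'
    have hsx : s * x = x * s := hScomm s hs x hxS
    have hcN := hCN hc
    have hcx : c * x * c⁻¹ = x := by rw [(hmC c).mp hc, mul_inv_cancel_right]
    have hcs : c * s * c⁻¹ = x * s := by
      have h1 : c * s * c⁻¹ ∈ (S : Subgroup G) := (mem_normalizer_iff.mp hcN s).mp hs
      by_contra h2
      -- the five elements `1, x, s, x s, c s c⁻¹` of `S` would be distinct
      have hs1 : s ≠ 1 := fun h => hne' (by rw [h, one_mul, mul_one])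
      have hsx' : s ≠ x := fun h => hne' (by rw [h]; exact ((hmC c).mp hc).symm)
      have hconj : ∀ u, c * s * c⁻¹ = c * u * c⁻¹ → s = u := fun u h => by
        simpa using h
      have ha1 : c * s * c⁻¹ ≠ 1 := fun h => hs1 (conj_eq_one_iff.mp h)
      have hax : c * s * c⁻¹ ≠ x := fun h => hsx' (hconj x (h.trans hcx.symm))
      have has : c * s * c⁻¹ ≠ s := fun h => hne' (by
        calc s * c = c * s * c⁻¹ * c := by rw [h]
          _ = c * s := by group)
      have e1 : (1 : G) ≠ x * s := fun h => hsx' (by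
        rw [eq_inv_of_mul_eq_one_right h.symm, inv_eq_of_mul_eq_one_left hx2])
      have e2 : x ≠ x * s := fun h => hs1 (mul_eq_left.mp h.symm)
      have e3 : s ≠ x * s := fun h => hx1 (mul_eq_right.mp h.symm)
      letI : Fintype ((S : Subgroup G) : Set G) := Fintype.ofFinite _
      have hsub : ({c * s * c⁻¹, 1, x, s, x * s} : Finset G) ⊆
          ((S : Subgroup G) : Set G).toFinset := by
        intro d hd
        simp only [Finset.mem_insert, Finset.mem_singleton] at hd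
        rw [Set.mem_toFinset]
        rcases hd with rfl | rfl | rfl | rfl | rfl
        · exact h1
        · exact (S : Subgroup G).one_mem
        · exact hxS
        · exact hs
        · exact (S : Subgroup G).mul_mem hxS hs
      have h5 : ({c * s * c⁻¹, 1, x, s, x * s} : Finset G).card = 5 := by
        rw [Finset.card_insert_of_notMem (by simp [ha1, hax, has, h2]),
          Finset.card_insert_of_notMem (by simp [hx1.symm, hs1.symm, e1]),
          Finset.card_insert_of_notMem (by simp [hsx'.symm, e2]),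
          Finset.card_insert_of_notMem (by simp [e3]), Finset.card_singleton]
      have h6 := Finset.card_le_card hsub
      rw [h5, ← Set.ncard_eq_toFinset_card', ← Nat.card_coe_set_eq] at h6
      change 5 ≤ Nat.card (S : Subgroup G) at h6
      omega
    -- so an odd power of `c` moves `s` as well
    have hpow : ∀ j : ℕ, c ^ (2 * j + 1) * s * (c ^ (2 * j + 1))⁻¹ = x * s := by
      intro j
      induction j with
      | zero => simpa using hcs
      | succ j ih =>
        calc c ^ (2 * (j + 1) + 1) * s * (c ^ (2 * (j + 1) + 1))⁻¹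
            = c * (c * (c ^ (2 * j + 1) * s * (c ^ (2 * j + 1))⁻¹) * c⁻¹) * c⁻¹ := by
              rw [show 2 * (j + 1) + 1 = (2 * j + 1) + 1 + 1 by ring, pow_succ', pow_succ']; group
          _ = c * ((c * x * c⁻¹) * (c * s * c⁻¹)) * c⁻¹ := by rw [ih]; group
          _ = c * (x * (x * s)) * c⁻¹ := by rw [hcx, hcs]
          _ = x * s := by rw [← mul_assoc x x, hx2, one_mul, hcs]
    obtain ⟨j, hj⟩ := hCNodd
    haveI := hnormC
    have h1 := (CS.subgroupOf N).pow_index_mem ⟨c, hcN⟩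
    rw [mem_subgroupOf] at h1
    change c ^ CS.relIndex N ∈ CS at h1
    rw [hj, hCSdef, mem_centralizer_iff] at h1
    have h2 := hpow j
    rw [← h1 s hs, mul_inv_cancel_right] at h2
    exact hx1 (mul_eq_right.mp h2.symm)
  -- `N(S)` permutes the involutions of `S` transitively
  have hNne : N ≠ CS := fun e => by
    obtain ⟨M, hMn, hMc, k, hk⟩ := Agent.Fusion.hasNormalPComplement_iff_exists.mp
      (Agent.Fusion.hasNormalPComplement_of_normalizer_le_centralizer S e.le)
    rcases Nat.eq_zero_or_pos k with rfl | hk0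
    · have h1 := M.card_mul_index
      rw [hk, pow_zero, mul_one, hGc] at h1
      rw [h1] at hMc
      exact absurd (hMc.coprime_dvd_left (dvd_mul_of_dvd_left (by norm_num : 2 ∣ 4) g₀))
        (by norm_num)
    · exact hnoIdx M hMn k hk hk0 (Or.inl (Nat.odd_iff.mp (Nat.coprime_two_right.mp hMc)))
  have hrel3 : CS.relIndex N = 3 := by
    let f : N ⧸ CS.subgroupOf N → {t : G // t ∈ (S : Subgroup G) ∧ t ≠ 1} :=
      Quotient.lift (fun c : N => ⟨(c : G) * x * (c : G)⁻¹, (mem_normalizer_iff.mp c.2 x).mp hxS,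
        fun e => hx1 (conj_eq_one_iff.mp e)⟩) fun c d hcd => by
        have h1 : c⁻¹ * d ∈ CS.subgroupOf N := QuotientGroup.leftRel_apply.mp hcd
        rw [mem_subgroupOf] at h1
        have h2 : x * ((c : G)⁻¹ * d) = ((c : G)⁻¹ * d) * x := mem_centralizer_iff.mp h1 x hxS
        refine Subtype.ext ?_
        show (c : G) * x * (c : G)⁻¹ = d * x * (d : G)⁻¹
        calc (c : G) * x * (c : G)⁻¹ = c * (x * ((c : G)⁻¹ * d)) * (d : G)⁻¹ := by group
          _ = c * (((c : G)⁻¹ * d) * x) * (d : G)⁻¹ := by rw [h2]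
          _ = _ := by group
    have hf : Function.Injective f := by
      intro p q
      induction p using QuotientGroup.induction_on with | _ c => ?_
      induction q using QuotientGroup.induction_on with | _ d => ?_
      intro e
      have e' : (c : G) * x * (c : G)⁻¹ = d * x * (d : G)⁻¹ := congrArg Subtype.val e
      rw [QuotientGroup.eq, mem_subgroupOf]
      refine hCxS.le ((hmC _).mpr ?_)
      show (c : G)⁻¹ * d * x = x * ((c : G)⁻¹ * d)
      calc (c : G)⁻¹ * d * x = (c : G)⁻¹ * (d * x * (d : G)⁻¹) * d := by group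
        _ = (c : G)⁻¹ * (c * x * (c : G)⁻¹) * d := by rw [e']
        _ = x * ((c : G)⁻¹ * d) := by group
    have h3 : Nat.card {t : G // t ∈ (S : Subgroup G) ∧ t ≠ 1} = 3 := by
      letI : Fintype (S : Subgroup G) := Fintype.ofFinite _
      have e : {t : G // t ∈ (S : Subgroup G) ∧ t ≠ 1} ≃ {t : (S : Subgroup G) // t ≠ 1} :=
        { toFun := fun t => ⟨⟨t.1, t.2.1⟩, fun e => t.2.2 (congrArg Subtype.val e)⟩
          invFun := fun t => ⟨t.1, t.1.2, fun e => t.2 (Subtype.ext e)⟩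
          left_inv := fun t => rfl
          right_inv := fun t => rfl }
      rw [Nat.card_congr e, Nat.card_eq_fintype_card, Fintype.card_subtype_compl,
        Fintype.card_subtype_eq, ← Nat.card_eq_fintype_card, hS4]
    have h1 := Nat.card_le_card_of_injective f hf
    rw [h3, ← index_eq_card] at h1
    have h2 : CS.relIndex N ≠ 1 := fun e => hNne (le_antisymm (relIndex_eq_one.mp e) hCSN)
    obtain ⟨j, hj⟩ := hCNodd
    change CS.relIndex N ≤ 3 at h1
    omega
  have hNcard : Nat.card N = 3 * Nat.card CS := by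
    rw [← hrel3, mul_comm, relIndex, ← Nat.card_congr (subgroupOfEquivOfLe hCSN).toEquiv,
      card_mul_index]
  set n := Nat.card (Sylow 2 G) with hndef
  have hGn : Nat.card G = n * (3 * Nat.card CS) := by
    rw [← hNcard, hndef, S.card_eq_index_normalizer, mul_comm]
    exact (card_mul_index N).symm
  -- `S` moves every other Sylow subgroup freely
  have hmod : 4 ∣ n - 1 := by
    have hall : ∀ t ∈ (S : Subgroup G), t ≠ 1 → ∀ d, d * t = t * d → d ∈ CS := by
      intro t ht ht1 d hd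
      obtain ⟨c, hc, hcx⟩ : ∃ c ∈ N, c * x * c⁻¹ = t := by
        by_contra hno
        push Not at hno
        -- the orbit of `x` would miss `t`
        let f : N ⧸ CS.subgroupOf N → {u : G // (u ∈ (S : Subgroup G) ∧ u ≠ 1) ∧ u ≠ t} :=
          fun q => ⟨(q.out : G) * x * (q.out : G)⁻¹, ⟨(mem_normalizer_iff.mp q.out.2 x).mp hxS,
            fun e => hx1 (conj_eq_one_iff.mp e)⟩, hno _ q.out.2⟩
        have hf : Function.Injective f := by
          intro p q e
          have e' : (p.out : G) * x * (p.out : G)⁻¹ = q.out * x * (q.out : G)⁻¹ :=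
            congrArg Subtype.val e
          rw [← p.out_eq', ← q.out_eq', QuotientGroup.eq, mem_subgroupOf]
          refine hCxS.le ((hmC _).mpr ?_)
          show (p.out : G)⁻¹ * q.out * x = x * ((p.out : G)⁻¹ * q.out)
          calc (p.out : G)⁻¹ * q.out * x
              = (p.out : G)⁻¹ * (q.out * x * (q.out : G)⁻¹) * q.out := by group
            _ = (p.out : G)⁻¹ * (p.out * x * (p.out : G)⁻¹) * q.out := by rw [e']
            _ = x * ((p.out : G)⁻¹ * q.out) := by group
        have h1 := Nat.card_le_card_of_injective f hf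
        rw [← index_eq_card] at h1
        change CS.relIndex N ≤ _ at h1
        rw [hrel3] at h1
        have hsub : Set.ncard {u : G | (u ∈ (S : Subgroup G) ∧ u ≠ 1) ∧ u ≠ t} + 2 ≤ 4 := by
          have e : Set.ncard ({u : G | (u ∈ (S : Subgroup G) ∧ u ≠ 1) ∧ u ≠ t} ∪ {1, t}) ≤ 4 := by
            refine (Set.ncard_le_ncard (t := ((S : Subgroup G) : Set G)) ?_ (Set.toFinite _)).trans
              ?_
            · rintro u (⟨⟨hu, -⟩, -⟩ | rfl | rfl)
              · exact hu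
              · exact (S : Subgroup G).one_mem
              · exact ht
            · rw [← Nat.card_coe_set_eq]; exact hS4.le
          rwa [Set.ncard_union_eq ?_ (Set.toFinite _) (Set.toFinite _), Set.ncard_pair ht1.symm] at e
          rw [Set.disjoint_left]
          rintro u ⟨⟨-, hu1⟩, hu2⟩ (rfl | rfl)
          · exact hu1 rfl
          · exact hu2 rfl
        have h4 : Nat.card {u : G // (u ∈ (S : Subgroup G) ∧ u ≠ 1) ∧ u ≠ t} =
            Set.ncard {u : G | (u ∈ (S : Subgroup G) ∧ u ≠ 1) ∧ u ≠ t} := Nat.card_coe_set_eq _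
        omega
      have h1 : c⁻¹ * d * c ∈ CS := by
        rw [← hCxS]
        refine (hmC _).mpr ?_
        calc c⁻¹ * d * c * x = c⁻¹ * (d * (c * x * c⁻¹)) * c := by group
          _ = c⁻¹ * ((c * x * c⁻¹) * d) * c := by rw [hcx, hd]
          _ = x * (c⁻¹ * d * c) := by group
      have h2 := hnormC.conj_mem ⟨_, hCSN h1⟩ (mem_subgroupOf.mpr h1) ⟨c, hc⟩
      rw [mem_subgroupOf] at h2
      simpa [mul_assoc] using h2
    have hfree : ∀ t ∈ (S : Subgroup G), t ≠ 1 → ∀ Q : Sylow 2 G, t • Q = Q → Q = S := by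
      intro t ht ht1 Q hQ
      have hp : IsPGroup 2 (zpowers t) := (S.2.to_le (zpowers_le.mpr ht))
      have h1 := IsPGroup.inf_normalizer_sylow hp Q
      have htQ : t ∈ (Q : Subgroup G) :=
        (h1.le (⟨mem_zpowers t, Sylow.smul_eq_iff_mem_normalizer.mp hQ⟩ :
          t ∈ zpowers t ⊓ Subgroup.normalizer ((Q : Subgroup G) : Set G))).2
      have hQle : (Q : Subgroup G) ≤ CS := fun q hq => hall t ht ht1 q (by
        have := Agent.Char.sylow_four_comm hGc hgodd Q hq htQ
        exact this)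
      refine (Sylow.ext ?_).symm
      refine (S.is_maximal' (IsPGroup.to_sup_of_normal_right' Q.2 S.2
        ((hQle.trans hCSN))) le_sup_right) ▸ ?_
      exact (Q.is_maximal' (IsPGroup.to_sup_of_normal_right' Q.2 S.2
        ((hQle.trans hCSN))) le_sup_left)
    letI : MulAction (S : Subgroup G) {Q : Sylow 2 G // Q ≠ S} :=
      { smul := fun s Q => ⟨(s : G) • Q.1, fun e => Q.2 (MulAction.injective (s : G) (e.trans
          (Sylow.smul_eq_iff_mem_normalizer.mpr (le_normalizer s.2)).symm))⟩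
        one_smul := fun Q => Subtype.ext (one_smul G Q.1)
        mul_smul := fun a b Q => Subtype.ext (mul_smul (a : G) b Q.1) }
    have hdiv : 4 ∣ Nat.card {Q : Sylow 2 G // Q ≠ S} := by
      letI : Fintype (Quotient (orbitRel (S : Subgroup G) {Q : Sylow 2 G // Q ≠ S})) :=
        Fintype.ofFinite _
      rw [Nat.card_congr (MulAction.selfEquivSigmaOrbits (S : Subgroup G) _), Nat.card_sigma]
      refine Finset.dvd_sum fun o _ => ?_
      have hstab : stabilizer (S : Subgroup G) o.out = ⊥ := (eq_bot_iff_forall _).mpr fun s hs => by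
        by_contra h1
        exact o.out.2 (hfree s s.2 (fun e => h1 (Subtype.ext e)) _ (congrArg Subtype.val hs))
      rw [Nat.card_congr (MulAction.orbitEquivQuotientStabilizer (S : Subgroup G) o.out), hstab,
        ← index_eq_card, index_bot, hS4]
    letI := Fintype.ofFinite (Sylow 2 G)
    have e : Nat.card {Q : Sylow 2 G // Q ≠ S} = n - 1 := by
      rw [hndef, Nat.card_eq_fintype_card, Fintype.card_subtype_compl, Fintype.card_subtype_eq,
        ← Nat.card_eq_fintype_card]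
    rwa [e] at hdiv
  have hn1 : n ≠ 1 := fun e => by
    have hNtop : N = ⊤ := index_eq_one.mp (by rw [← e, hndef]; exact S.card_eq_index_normalizer.symm)
    have hSn := normalizer_eq_top_iff.mp hNtop
    rcases hSn.eq_bot_or_eq_top with h | h
    · rw [h, card_bot] at hS4; omega
    · refine hnoIdx ⊥ inferInstance 2 ?_ two_pos (Or.inl (by rw [card_bot]))
      rw [index_bot, ← card_top (G := G), ← h, hS4]; norm_num
  have hn0 : 0 < n := by rw [hndef]; exact Nat.card_pos
  have hGJ : Nat.card G = (3 * n) * Nat.card (Subgroup.centralizer ({x} : Set G)) := by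
    change _ = 3 * n * Nat.card C
    rw [hCxS, hGn]; ring
  obtain ⟨x₁, x₂, x₃, e₁, e₂, e₃, o1, o2, o3, he1, he2, he3, hrel, heq⟩ :=
    exists_degrees g₀ hgodd hGc hnc' S x hxS hx hCxS (3 * n) hGJ
  by_cases hn5 : n = 5
  · -- the action on five Sylow subgroups
    have hker : (MulAction.toPermHom G (Sylow 2 G)).ker = ⊥ := by
      refine (MonoidHom.normal_ker _).eq_bot_or_eq_top.resolve_right fun h => hn1 ?_
      rw [hndef]
      refine Nat.card_eq_one_iff_unique.mpr ⟨⟨fun P Q => ?_⟩, ⟨S⟩⟩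
      obtain ⟨g, rfl⟩ := MulAction.exists_smul_eq G P Q
      have hg : g ∈ (MulAction.toPermHom G (Sylow 2 G)).ker := by rw [h]; exact mem_top g
      exact (Equiv.ext_iff.mp (MonoidHom.mem_ker.mp hg) P).symm
    have hdvd : Nat.card G ∣ 120 := by
      have h1 := card_subgroup_dvd_card (MulAction.toPermHom G (Sylow 2 G)).range
      rw [Nat.card_perm, ← hndef, hn5] at h1
      rw [Nat.card_congr (MonoidHom.ofInjective
        ((MonoidHom.ker_eq_bot_iff _).mp hker)).toEquiv]
      simpa [Nat.factorial] using h1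
    refine Agent.Classical.Small.simple_sixty ?_
    have h4 : 4 ∣ Nat.card CS := hS4 ▸ card_dvd_of_le hSCS
    obtain ⟨k, hk⟩ := h4
    rw [hGn, hn5, hk] at hdvd ⊢
    have hk2 : k ∣ 2 := by
      obtain ⟨m, hm⟩ := hdvd
      exact ⟨m, by linarith⟩
    have hkodd : Odd k := hgodd.of_dvd_nat ⟨15, by
      have : 4 * g₀ = 4 * (k * 15) := by rw [← hGc, hGn, hn5, hk]; ring
      omega⟩
    rcases (Nat.dvd_prime Nat.prime_two).mp hk2 with rfl | rfl
    · norm_num
    · obtain ⟨i, hi⟩ := hkodd; omega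
  exfalso
  exact no_solution (g := 3 * n) (by omega) (dvd_mul_right 3 n)
    (by rw [Nat.mul_div_cancel_left _ (by norm_num : 0 < 3)]; omega) o1 o2 o3 he1 he2 he3 hrel
    (by exact_mod_cast heq)

end Cfsg.Agent.S3278
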