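import Cfsg.Statements.S3279
import Cfsg.Agent.TwoTransfer.Basic

set_option autoImplicit false
open Cfsg

namespace Cfsg.Agent.S3279

section Aux
open Cfsg.Agent.TwoTransfer

variable {G : Type*} [Group G]

/-- The involutions commuting with `w`. -/
def invol (w : G) : Set G := {a | orderOf a = 2 ∧ Commute a w}

theorem orderOf_conj' (g a : G) : orderOf (g * a * g⁻¹) = orderOf a :=
  orderOf_injective (MulAut.conj g).toMonoidHom (MulAut.conj g).injective a

theorem commute_conj {a b : G} (g : G) (h : Commute a b) :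
    Commute (g * a * g⁻¹) (g * b * g⁻¹) :=
  h.map (MulAut.conj g).toMonoidHom

theorem ne_one_of_orderOf {a : G} (h : orderOf a = 2) : a ≠ 1 := fun h' => by simp [h'] at h

theorem mul_self_of_orderOf {a : G} (h : orderOf a = 2) : a * a = 1 := by
  rw [← sq, ← h]; exact pow_orderOf_eq_one a

theorem orderOf_isConj {a b : G} (ha : orderOf a = 2) (h : IsConj a b) : orderOf b = 2 := by
  obtain ⟨g, rfl⟩ := isConj_iff.1 h
  rw [orderOf_conj', ha]

theorem invol_conj (g w : G) : invol (g * w * g⁻¹) = (fun a => g * a * g⁻¹) '' invol w := by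
  ext a
  constructor
  · rintro ⟨ha, hc⟩
    refine ⟨g⁻¹ * a * g, ⟨?_, ?_⟩, by group⟩
    · have := orderOf_conj' g⁻¹ a
      rw [inv_inv] at this
      rw [this, ha]
    · have := commute_conj g⁻¹ hc
      simpa [mul_assoc] using this
  · rintro ⟨b, ⟨hb, hc⟩, rfl⟩
    exact ⟨by rw [orderOf_conj', hb], commute_conj g hc⟩

/-- No nontrivial element commutes with a whole conjugacy class of a nontrivial element. -/
theorem class_commute_absurd [IsSimpleGroup G] (hz : Subgroup.center G = ⊥) {a b : G} (ha : a ≠ 1)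
    (hb : b ≠ 1) (h : ∀ y, IsConj a y → Commute y b) : False := by
  apply hb
  have hle : Subgroup.normalClosure ({a} : Set G) ≤ Subgroup.centralizer {b} := by
    rw [Subgroup.normalClosure, Subgroup.closure_le]
    intro y hy
    rw [Group.mem_conjugatesOfSet_iff] at hy
    obtain ⟨c, rfl, hy⟩ := hy
    rw [SetLike.mem_coe, Subgroup.mem_centralizer_singleton_iff]
    exact (h y hy).eq
  have htop : Subgroup.normalClosure ({a} : Set G) = ⊤ := by
    refine (IsSimpleGroup.eq_bot_or_eq_top_of_normal _ Subgroup.normalClosure_normal).resolve_left ?_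
    intro h'
    exact ha (Subgroup.mem_bot.1 (h' ▸ Subgroup.subset_normalClosure (Set.mem_singleton a)))
  have : b ∈ Subgroup.center G := by
    rw [Subgroup.mem_center_iff]
    intro g
    exact Subgroup.mem_centralizer_singleton_iff.1 (hle (htop ▸ Subgroup.mem_top g))
  rw [hz] at this
  exact Subgroup.mem_bot.1 this

theorem exists_central_involution [Finite G] (S : Sylow 2 G) {x : G} (hx : x ≠ 1) (hxS : x ∈ S) :
    ∃ z ∈ S, orderOf z = 2 ∧ ∀ s ∈ S, Commute z s := by
  have : Fact (Nat.Prime 2) := ⟨Nat.prime_two⟩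
  have : Nontrivial (S : Subgroup G) := ⟨⟨⟨x, hxS⟩, 1, fun h => hx (congrArg Subtype.val h)⟩⟩
  have := S.2.center_nontrivial
  obtain ⟨n, hn⟩ := IsPGroup.iff_card.1 (S.2.to_subgroup (Subgroup.center (S : Subgroup G)))
  have h1 : 1 < Nat.card (Subgroup.center (S : Subgroup G)) := Finite.one_lt_card
  obtain ⟨z, hz⟩ := exists_prime_orderOf_dvd_card' (G := Subgroup.center (S : Subgroup G)) 2 (by
      rw [hn] at h1 ⊢
      exact dvd_pow_self 2 (by rintro rfl; simp at h1))
  refine ⟨_, (z : (S : Subgroup G)).2, by rw [Subgroup.orderOf_coe, Subgroup.orderOf_coe, hz], ?_⟩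
  intro s hs
  exact (congrArg Subtype.val (Subgroup.mem_center_iff.1 z.2 ⟨s, hs⟩)).symm

theorem no_index_two [IsSimpleGroup G] (hz : Subgroup.center G = ⊥) (N : Subgroup G) (hN : N.Normal) :
    N.index ≠ 2 := by
  intro h
  rcases IsSimpleGroup.eq_bot_or_eq_top_of_normal N hN with rfl | rfl
  · rw [Subgroup.index_bot] at h
    have : Fact (Nat.Prime 2) := ⟨Nat.prime_two⟩
    have : IsCyclic G := isCyclic_of_prime_card (p := 2) h
    obtain ⟨g, hg⟩ := exists_ne (1 : G)
    have mul_comm' : ∀ a b : G, a * b = b * a := fun a b => by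
      obtain ⟨c, hc⟩ := IsCyclic.exists_generator (α := G)
      obtain ⟨i, rfl⟩ := Subgroup.mem_zpowers_iff.1 (hc a)
      obtain ⟨j, rfl⟩ := Subgroup.mem_zpowers_iff.1 (hc b)
      exact (Commute.zpow_zpow_self c i j).eq
    have hx' : g ∈ Subgroup.center G :=
      Subgroup.mem_center_iff.2 fun a => mul_comm' a g
    rw [hz] at hx'
    exact hg (Subgroup.mem_bot.1 hx')
  · simp at h

variable [Finite G] {x : G} (hx : orderOf x = 2)
  (hsmall : ∀ w, IsConj x w → (invol w).ncard ≤ 3)

section Pair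

variable {u : G} (hu : orderOf u = 2) (hux : Commute u x) (hune : u ≠ x)

include hx hu hux hune in
theorem orderOf_mul_pair : orderOf (x * u) = 2 := by
  have : Fact (Nat.Prime 2) := ⟨Nat.prime_two⟩
  refine orderOf_eq_prime ?_ ?_
  · rw [sq, mul_assoc, ← mul_assoc u, hux.eq, mul_assoc x u, mul_self_of_orderOf hu, mul_one,
      mul_self_of_orderOf hx]
  · intro h
    exact hune ((eq_inv_of_mul_eq_one_right h).trans
      (inv_eq_of_mul_eq_one_right (mul_self_of_orderOf hx)))

include hu in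
theorem mul_pair_ne_left : x * u ≠ x := by simp [ne_one_of_orderOf hu]

include hx in
theorem mul_pair_ne_right : x * u ≠ u := by simp [ne_one_of_orderOf hx]

include hx hsmall hu hux hune in
/-- The three involutions commuting with a conjugate of `x`. -/
theorem eq_of_commute {w a : G} (hw : IsConj x w) (h1 : Commute x w) (h2 : Commute u w)
    (ha : orderOf a = 2) (haw : Commute a w) : a = x ∨ a = u ∨ a = x * u := by
  by_contra hcon
  push Not at hcon
  have hsub : ({a, x, u, x * u} : Set G) ⊆ invol w := by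
    rintro b (rfl | rfl | rfl | rfl)
    · exact ⟨ha, haw⟩
    · exact ⟨hx, h1⟩
    · exact ⟨hu, h2⟩
    · exact ⟨orderOf_mul_pair hx hu hux hune, h1.mul_left h2⟩
  have hc4 : ({a, x, u, x * u} : Set G).ncard = 4 := by
    rw [Set.ncard_insert_of_notMem (by simp [hcon.1, hcon.2.1, hcon.2.2]),
      Set.ncard_insert_of_notMem (by simp [hune.symm, (mul_pair_ne_left (x := x) hu).symm]),
      Set.ncard_insert_of_notMem (by simpa using (mul_pair_ne_right (u := u) hx).symm),
      Set.ncard_singleton]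
  have := Set.ncard_le_ncard hsub (Set.toFinite _)
  have := hsmall w hw
  omega

include hx hsmall hu hux hune in
theorem outer {y : G} (hy : orderOf y = 2) (hn : ¬ IsConj x y) :
    Commute y u ∨ Commute y (x * u) := by
  obtain ⟨m, -, -, hw2, hwx, hwy, hwne, -⟩ := exists_commuting_involution hx hy hn
  rcases eq_of_commute hx hsmall hu hux hune (IsConj.refl x) (Commute.refl x) hux hw2 hwx
    with h | h | h
  · exact absurd h hwne
  · rw [h] at hwy; exact Or.inl hwy.symm
  · rw [h] at hwy; exact Or.inr hwy.symm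

include hx hsmall hu hux hune in
theorem isConj_mul_of_isConj [IsSimpleGroup G] (hz : Subgroup.center G = ⊥) (h : IsConj x u) :
    IsConj x (x * u) := by
  have hxu := orderOf_mul_pair hx hu hux hune
  by_contra hn
  refine class_commute_absurd hz (ne_one_of_orderOf hxu) (ne_one_of_orderOf hxu)
    (a := x * u) (b := x * u) ?_
  intro y hy
  have hny : ¬ IsConj x y := fun h' => hn (h'.trans hy.symm)
  rcases outer hx hsmall hu hux hune (orderOf_isConj hxu hy) hny with h' | h'
  · rcases eq_of_commute hx hsmall hu hux hune h hux.symm (Commute.refl u) (orderOf_isConj hxu hy) h'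
      with rfl | rfl | rfl
    · exact absurd (IsConj.refl _) hny
    · exact absurd h hny
    · exact Commute.refl _
  · exact h'

include hx hsmall hu hux hune in
theorem three_classes_absurd [IsSimpleGroup G] (hz : Subgroup.center G = ⊥) (h1 : ¬ IsConj x u)
    (h2 : ¬ IsConj x (x * u)) (h3 : ¬ IsConj u (x * u)) : False := by
  have hxu := orderOf_mul_pair hx hu hux hune
  refine class_commute_absurd hz (ne_one_of_orderOf hu) (ne_one_of_orderOf hxu)
    (a := u) (b := x * u) ?_
  intro y hy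
  have hny : ¬ IsConj x y := fun h' => h1 (h'.trans hy.symm)
  obtain ⟨m, -, -, hw2, hwx, hwy, hwne, -, hev, hod⟩ :=
    exists_commuting_involution hx (orderOf_isConj hu hy) hny
  rcases eq_of_commute hx hsmall hu hux hune (IsConj.refl x) (Commute.refl x) hux hw2 hwx
    with h | h | h
  · exact absurd h hwne
  · rw [h] at hev hod
    rcases Classical.em (Even m) with he | he
    · exact absurd (hev he) h2
    · exact absurd (hy.trans (hod he)) h3
  · rw [h] at hwy; exact hwy.symm

variable (S : Sylow 2 G) (hxS : x ∈ S) (huS : u ∈ S) (hxc : ∀ s ∈ S, Commute x s)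

include hx hsmall hu hux hune hxS hxc in
theorem swapped_central_absurd (hc : ∀ s ∈ S, Commute u s) (h1 : ¬ IsConj x u)
    (h2 : ¬ IsConj x (x * u)) (h3 : IsConj u (x * u)) : False := by
  have : Fact (Nat.Prime 2) := ⟨Nat.prime_two⟩
  obtain ⟨g, hg⟩ := isConj_iff.1 h3
  obtain ⟨n, hnN, hn⟩ : ∃ n ∈ Subgroup.normalizer ((S : Subgroup G) : Set G),
      n * u * n⁻¹ = x * u := by
    have hc1 : u ∈ Subgroup.centralizer ((S : Subgroup G) : Set G) :=
      Subgroup.mem_centralizer_iff.2 fun s hs => (hc s hs).eq.symm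
    have hc2 : x * u ∈ Subgroup.centralizer ((S : Subgroup G) : Set G) :=
      Subgroup.mem_centralizer_iff.2 fun s hs => ((hxc s hs).mul_left (hc s hs)).eq.symm
    obtain ⟨n, hnN, hn⟩ := S.conj_eq_normalizer_conj_of_mem_centralizer u g⁻¹ hc1
      (by rwa [inv_inv, hg])
    refine ⟨n⁻¹, inv_mem hnN, ?_⟩
    rw [inv_inv] at hn ⊢
    rw [← hn, hg]
  have hnx : n * x * n⁻¹ = x := by
    have hmem : n * x * n⁻¹ ∈ S := (Subgroup.mem_normalizer_iff.1 hnN x).1 hxS
    rcases eq_of_commute hx hsmall hu hux hune (IsConj.refl x) (Commute.refl x) hux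
      (by rw [orderOf_conj', hx]) (hxc _ hmem).symm with h | h | h
    · exact h
    · exact absurd (isConj_iff.2 ⟨n, h⟩) h1
    · exact absurd (isConj_iff.2 ⟨n, h⟩) h2
  have hn2 : Commute (n ^ 2) u := by
    refine mul_inv_eq_iff_eq_mul.1 ?_
    calc n ^ 2 * u * (n ^ 2)⁻¹ = n * (n * u * n⁻¹) * n⁻¹ := by simp [sq, mul_assoc]
      _ = n * x * n⁻¹ * (n * u * n⁻¹) := by
        conv_lhs => rw [hn]
        rw [conj_mul]
      _ = u := by rw [hnx, hn, ← mul_assoc, mul_self_of_orderOf hx, one_mul]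
  obtain ⟨e, m, hm, hord⟩ :=
    Nat.exists_eq_pow_mul_and_not_dvd (orderOf_pos n).ne' 2 (by norm_num)
  obtain ⟨k, hk⟩ : Odd m := Nat.not_even_iff_odd.1 fun h => hm h.two_dvd
  have hsS : n ^ m ∈ S := by
    have hp : IsPGroup 2 (Subgroup.zpowers (n ^ m)) := by
      have hd : orderOf (n ^ m) ∣ 2 ^ e :=
        orderOf_dvd_of_pow_eq_one (by rw [← pow_mul, mul_comm, ← hord, pow_orderOf_eq_one])
      obtain ⟨j, -, hj⟩ := (Nat.dvd_prime_pow Nat.prime_two).1 hd
      exact IsPGroup.of_card (by rw [Nat.card_zpowers, hj])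
    have h'' : n ^ m ∈ Subgroup.zpowers (n ^ m) ⊓
        Subgroup.normalizer ((S : Subgroup G) : Set G) :=
      ⟨Subgroup.mem_zpowers _, pow_mem hnN m⟩
    have e3 := hp.inf_normalizer_sylow S
    exact (e3.le h'').2
  have e2 : n ^ m * u * (n ^ m)⁻¹ = x * u := by
    rw [hk, pow_succ', pow_mul]
    calc n * (n ^ 2) ^ k * u * (n * (n ^ 2) ^ k)⁻¹
        = n * ((n ^ 2) ^ k * u * ((n ^ 2) ^ k)⁻¹) * n⁻¹ := by group
      _ = x * u := by rw [(hn2.pow_left k).eq, mul_inv_cancel_right, hn]
  rw [← (hc _ hsS).eq, mul_inv_cancel_right] at e2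
  exact mul_pair_ne_right hx e2.symm

include hx hsmall hu hux hune huS hxc in
theorem swapped_noncentral_absurd [IsSimpleGroup G] (hz : Subgroup.center G = ⊥) {s₀ : G}
    (hs₀ : s₀ ∈ S) (hs₀u : ¬ Commute u s₀) (h1 : ¬ IsConj x u) (h2 : ¬ IsConj x (x * u)) :
    False := by
  have hset := fun {a : G} (ha : orderOf a = 2) (hax : Commute a x) =>
    eq_of_commute hx hsmall hu hux hune (IsConj.refl x) (Commute.refl x) hux ha hax
  let M : Subgroup G := Subgroup.centralizer ({u} : Set G) ⊓ S
  have hmem : ∀ c, c ∈ M ↔ Commute u c ∧ c ∈ S := fun c => by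
    simp only [M, Subgroup.mem_inf, Subgroup.mem_centralizer_singleton_iff]
    exact ⟨fun h => ⟨h.1.symm, h.2⟩, fun h => ⟨h.1.eq.symm, h.2⟩⟩
  have hmove : ∀ s ∈ S, ¬ Commute u s → s * u * s⁻¹ = x * u := by
    intro s hs hsu
    have hmem : s * u * s⁻¹ ∈ S := mul_mem (mul_mem hs huS) (inv_mem hs)
    rcases hset (by rw [orderOf_conj', hu]) (hxc _ hmem).symm with h | h | h
    · exact absurd (isConj_iff.2 ⟨s, h⟩).symm h1
    · exact absurd (mul_inv_eq_iff_eq_mul.1 h).symm hsu
    · exact h
  have hcancel : ∀ s ∈ S, Commute (x * u) s → Commute u s := by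
    intro s hs h
    have := ((hxc s hs).inv_left).mul_left h
    rwa [inv_mul_cancel_left] at this
  have hM : M.relIndex S = 2 := by
    rw [Subgroup.relIndex_eq_two_iff]
    refine ⟨s₀, hs₀, fun b hb => ?_⟩
    by_cases hbu : Commute u b
    · refine Or.inr ⟨(hmem b).2 ⟨hbu, hb⟩, fun h => hs₀u ?_⟩
      have h' : Commute u (b⁻¹ * (b * s₀)) := hbu.inv_right.mul_right ((hmem _).1 h).1
      rwa [inv_mul_cancel_left] at h'
    · refine Or.inl ⟨(hmem _).2 ⟨?_, mul_mem hb hs₀⟩, fun h => hbu ((hmem b).1 h).1⟩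
      have hbx : b * x * b⁻¹ = x := by rw [← (hxc b hb).eq, mul_inv_cancel_right]
      refine Commute.symm (mul_inv_eq_iff_eq_mul.1 ?_)
      calc b * s₀ * u * (b * s₀)⁻¹ = b * (s₀ * u * s₀⁻¹) * b⁻¹ := by group
        _ = b * x * b⁻¹ * (b * u * b⁻¹) := by rw [hmove s₀ hs₀ hs₀u]; group
        _ = u := by rw [hbx, hmove b hb hbu, ← mul_assoc, mul_self_of_orderOf hx, one_mul]
  obtain ⟨s, ⟨hsS, hsu⟩, hmin⟩ :=
    Set.exists_min_image {a | a ∈ (S : Subgroup G) ∧ ¬ Commute u a} (fun a => orderOf a)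
      (Set.toFinite _) ⟨s₀, hs₀, hs₀u⟩
  obtain ⟨e, he⟩ := IsPGroup.iff_orderOf.1 S.2 ⟨s, hsS⟩
  rw [Subgroup.orderOf_mk] at he
  have he0 : e ≠ 0 := by
    rintro rfl
    rw [pow_zero, orderOf_eq_one_iff] at he
    exact hsu (by rw [he]; exact Commute.one_right _)
  have ht2 : orderOf (s ^ (2 ^ (e - 1))) = 2 := by
    rw [orderOf_pow' _ (by positivity), he, Nat.gcd_eq_right (pow_dvd_pow 2 (Nat.sub_le e 1)),
      Nat.pow_div (Nat.sub_le e 1) two_pos, show e - (e - 1) = 1 by omega, pow_one]
  have htx : s ^ (2 ^ (e - 1)) = x := by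
    have htc : Commute (s ^ (2 ^ (e - 1))) s := Commute.pow_self s _
    rcases hset ht2 (hxc _ (pow_mem hsS _)).symm with h | h | h
    · exact h
    · rw [h] at htc; exact absurd htc hsu
    · rw [h] at htc; exact absurd (hcancel s hsS htc) hsu
  have hge : ∀ g : G, g⁻¹ * s * g ∈ S → g⁻¹ * s * g ∉ M := by
    intro g hgS hgM
    have hgx : g⁻¹ * x * g = x := by
      have hmem : g⁻¹ * x * g ∈ S := by
        rw [← htx]
        have e3 := conj_pow (a := g⁻¹) (b := s) (i := 2 ^ (e - 1))
        rw [inv_inv] at e3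
        rw [← e3]
        exact pow_mem hgS _
      have ho : orderOf (g⁻¹ * x * g) = 2 := by
        have := orderOf_conj' g⁻¹ x
        rw [inv_inv] at this
        rw [this, hx]
      rcases hset ho (hxc _ hmem).symm with h | h | h
      · exact h
      · exact absurd (isConj_iff.2 ⟨g⁻¹, by rw [inv_inv, h]⟩) h1
      · exact absurd (isConj_iff.2 ⟨g⁻¹, by rw [inv_inv, h]⟩) h2
    have hgx' : g * x * g⁻¹ = x := by
      conv_lhs => rw [← hgx]
      group
    have hgu : Commute s (g * u * g⁻¹) := by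
      have h' := commute_conj g ((hmem _).1 hgM).1.symm
      simpa [mul_assoc] using h'
    have hcx : Commute (g * u * g⁻¹) x := by
      have := commute_conj g hux
      rwa [hgx'] at this
    rcases hset (by rw [orderOf_conj', hu]) hcx with h | h | h
    · exact h1 (isConj_iff.2 ⟨g, h⟩).symm
    · rw [h] at hgu; exact hsu hgu.symm
    · rw [h] at hgu; exact hsu (hcancel s hsS hgu.symm)
  obtain ⟨N, hN, hN2, -⟩ := exists_index_two S M hM s hsS (by
    intro k g hk hgS
    rw [hmem]
    refine ⟨?_, hgS⟩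
    by_contra hnu
    have hle := hmin _ ⟨hgS, hnu⟩
    have ho : orderOf (g⁻¹ * s ^ 2 ^ k * g) = orderOf (s ^ 2 ^ k) := by
      have := orderOf_conj' g⁻¹ (s ^ 2 ^ k)
      rwa [inv_inv] at this
    simp only [ho] at hle
    rw [orderOf_pow' _ (by positivity), he] at hle
    have hg : 2 ≤ Nat.gcd (2 ^ e) (2 ^ k) :=
      Nat.le_of_dvd (Nat.gcd_pos_of_pos_right _ (by positivity))
        (Nat.dvd_gcd (dvd_pow_self 2 he0) (dvd_pow_self 2 (by omega)))
    have := Nat.div_lt_self (n := 2 ^ e) (by positivity)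
      (show 1 < Nat.gcd (2 ^ e) (2 ^ k) by omega)
    omega) hge
  exact no_index_two hz N hN hN2

end Pair

include hx hsmall in
theorem one_class_of_central [IsSimpleGroup G] (hz : Subgroup.center G = ⊥) (S : Sylow 2 G)
    (hxS : x ∈ S) {u : G} (hu : orderOf u = 2) (hux : Commute u x) (hune : u ≠ x) (huS : u ∈ S)
    (hxc : ∀ s ∈ S, Commute x s) : ∀ v : G, orderOf v = 2 → IsConj x v := by
  have hxu := orderOf_mul_pair hx hu hux hune
  have hcxu : Commute (x * u) x := (Commute.refl x).mul_left hux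
  have hcuu : Commute (x * u) u := hux.symm.mul_left (Commute.refl u)
  have key : IsConj x u ∧ IsConj x (x * u) := by
    by_contra hn
    have h1 : ¬ IsConj x u := fun h =>
      hn ⟨h, isConj_mul_of_isConj hx hsmall hu hux hune hz h⟩
    have h2 : ¬ IsConj x (x * u) := by
      intro h
      apply h1
      have := isConj_mul_of_isConj hx hsmall hxu hcxu (mul_pair_ne_left hu) hz h
      rwa [← mul_assoc, mul_self_of_orderOf hx, one_mul] at this
    by_cases h3 : IsConj u (x * u)
    · by_cases hc : ∀ s ∈ S, Commute u s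
      · exact swapped_central_absurd hx hsmall hu hux hune S hxS hxc hc h1 h2 h3
      · push Not at hc
        obtain ⟨s₀, hs₀, hs₀u⟩ := hc
        exact swapped_noncentral_absurd hx hsmall hu hux hune S huS hxc hz hs₀ hs₀u h1 h2
    · exact three_classes_absurd hx hsmall hu hux hune hz h1 h2 h3
  intro v hv
  by_contra hn
  rcases outer hx hsmall hu hux hune hv hn with h | h
  · rcases eq_of_commute hx hsmall hu hux hune key.1 hux.symm (Commute.refl _) hv h with rfl | rfl | rfl
    exacts [hn (IsConj.refl _), hn key.1, hn key.2]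
  · rcases eq_of_commute hx hsmall hu hux hune key.2 hcxu.symm hcuu.symm hv h with rfl | rfl | rfl
    exacts [hn (IsConj.refl _), hn key.1, hn key.2]

include hx hsmall in
theorem of_noncentral [IsSimpleGroup G] (hz : Subgroup.center G = ⊥) (S : Sylow 2 G)
    (hxS : x ∈ S) (hxc : ¬ ∀ s ∈ S, Commute x s) :
    (∃ S : Sylow 2 G, (S : Subgroup G) ≤ Subgroup.centralizer ({x} : Set G)) ∧
      ∀ v : G, orderOf v = 2 → IsConj x v := by
  have : Fact (Nat.Prime 2) := ⟨Nat.prime_two⟩
  obtain ⟨z, -, hz2, hzc⟩ := exists_central_involution S (ne_one_of_orderOf hx) hxS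
  have hzx : z ≠ x := fun h => hxc (h ▸ hzc)
  have hux : Commute z x := hzc x hxS
  obtain ⟨s, hsS, hsx, hsc⟩ : ∃ s ∈ S, s * x * s⁻¹ ≠ x ∧ Commute (s * x * s⁻¹) x := by
    let R : Subgroup (S : Subgroup G) :=
      Subgroup.centralizer ({⟨x, hxS⟩} : Set (S : Subgroup G))
    have hRlt : R < ⊤ := by
      refine lt_top_iff_ne_top.2 fun h => hxc fun s hs => ?_
      have := Subgroup.mem_centralizer_singleton_iff.1
        (show (⟨s, hs⟩ : (S : Subgroup G)) ∈ R from h ▸ Subgroup.mem_top _)
      exact (congrArg Subtype.val this).symm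
    have := S.2.isNilpotent
    obtain ⟨⟨s, hs⟩, hsN, hsR⟩ := SetLike.exists_of_lt (normalizerCondition_of_isNilpotent R hRlt)
    refine ⟨s, hs, fun h => hsR ?_, ?_⟩
    · rw [Subgroup.mem_centralizer_singleton_iff]
      exact Subtype.ext (mul_inv_eq_iff_eq_mul.1 h)
    · have hxR : (⟨x, hxS⟩ : (S : Subgroup G)) ∈ R :=
        Subgroup.mem_centralizer_singleton_iff.2 rfl
      exact congrArg Subtype.val (Subgroup.mem_centralizer_singleton_iff.1
        ((Subgroup.mem_normalizer_iff.1 hsN _).1 hxR))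
  have hsz : s * z * s⁻¹ = z := by rw [← (hzc s hsS).eq, mul_inv_cancel_right]
  have hsx' : s * x * s⁻¹ = x * z := by
    rcases eq_of_commute hx hsmall hz2 hux hzx (IsConj.refl x) (Commute.refl x) hux
      (by rw [orderOf_conj', hx]) hsc with h | h | h
    · exact absurd h hsx
    · exfalso
      apply hzx
      rw [← hsz] at h
      simpa using h.symm
    · exact h
  have hxz : IsConj x (x * z) := isConj_iff.2 ⟨s, hsx'⟩
  have hout : ∀ y, orderOf y = 2 → ¬ IsConj x y → Commute y z := by
    intro y hy hn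
    rcases outer hx hsmall hz2 hux hzx hy hn with h | h
    · exact h
    · rcases eq_of_commute hx hsmall hz2 hux hzx hxz ((Commute.refl x).mul_right hux.symm)
        (hux.mul_right (Commute.refl z)) hy h with rfl | rfl | rfl
      · exact absurd (IsConj.refl _) hn
      · exact Commute.refl _
      · exact absurd hxz hn
  have hall : ∀ v : G, orderOf v = 2 → IsConj x v := by
    intro v hv
    by_contra hn
    refine class_commute_absurd hz (ne_one_of_orderOf hv) (ne_one_of_orderOf hz2)
      (a := v) (b := z) ?_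
    exact fun y hy => hout y (orderOf_isConj hv hy) fun h => hn (h.trans hy.symm)
  refine ⟨?_, hall⟩
  obtain ⟨g, hg⟩ := isConj_iff.1 (hall z hz2)
  refine ⟨g⁻¹ • S, fun a ha => ?_⟩
  obtain ⟨b, hb, rfl⟩ := ha
  rw [Subgroup.mem_centralizer_singleton_iff]
  have := commute_conj g⁻¹ (hzc b hb)
  rw [← hg] at this
  simpa [mul_assoc] using this.eq.symm

theorem main_nonabelian [IsSimpleGroup G] (hz : Subgroup.center G = ⊥) (x : G)
    (hx : orderOf x = 2) (h3 : (invol x).ncard ≤ 3) :
    (∃ S : Sylow 2 G, (S : Subgroup G) ≤ Subgroup.centralizer ({x} : Set G)) ∧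
      ∀ v : G, orderOf v = 2 → IsConj x v := by
  have : Fact (Nat.Prime 2) := ⟨Nat.prime_two⟩
  have hsmall : ∀ w, IsConj x w → (invol w).ncard ≤ 3 := by
    intro w hw
    obtain ⟨g, rfl⟩ := isConj_iff.1 hw
    rw [invol_conj]
    exact (Set.ncard_image_le (Set.toFinite _)).trans h3
  have hzp : ∀ a : G, orderOf a = 2 → IsPGroup 2 (Subgroup.zpowers a) := fun a ha =>
    IsPGroup.of_card (n := 1) (by rw [Nat.card_zpowers, ha, pow_one])
  by_cases hone : ∀ a ∈ invol x, a = x
  · refine ⟨?_, fun v hv => ?_⟩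
    · obtain ⟨S, hS⟩ := (hzp x hx).exists_le_sylow
      have hxS : x ∈ S := hS (Subgroup.mem_zpowers x)
      obtain ⟨z, -, hz2, hzc⟩ := exists_central_involution S (ne_one_of_orderOf hx) hxS
      obtain rfl := hone z ⟨hz2, hzc x hxS⟩
      exact ⟨S, fun s hs => Subgroup.mem_centralizer_singleton_iff.2 (hzc s hs).eq.symm⟩
    · by_contra hn
      obtain ⟨m, -, -, hw2, hwx, -, hwne, -⟩ := exists_commuting_involution hx hv hn
      exact hwne (hone _ ⟨hw2, hwx⟩)
  push Not at hone
  obtain ⟨u, ⟨hu, hux⟩, hune⟩ := hone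
  have hVp : IsPGroup 2 (Subgroup.zpowers x ⊔ Subgroup.zpowers u : Subgroup G) := by
    refine (hzp x hx).to_sup_of_normal_left' (hzp u hu) ?_
    refine le_trans ?_ (Subgroup.centralizer_le_normalizer _)
    rw [Subgroup.zpowers_le, Subgroup.mem_centralizer_iff]
    rintro h ⟨k, rfl⟩
    exact (hux.zpow_right k).eq.symm
  obtain ⟨S, hS⟩ := hVp.exists_le_sylow
  have hxS : x ∈ S := hS (Subgroup.mem_sup_left (Subgroup.mem_zpowers x))
  have huS : u ∈ S := hS (Subgroup.mem_sup_right (Subgroup.mem_zpowers u))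
  by_cases hxc : ∀ s ∈ S, Commute x s
  · exact ⟨⟨S, fun s hs => Subgroup.mem_centralizer_singleton_iff.2 (hxc s hs).eq.symm⟩,
      one_class_of_central hx hsmall hz S hxS hu hux hune huS hxc⟩
  · exact of_noncentral hx hsmall hz S hxS hxc

end Aux

/-- Let G be a finite simple group and x an involution of G whose centralizer contains at most three involutions. Then C_G(x) contains a Sylow 2-subgroup of G, and all involutions of G are conjugate. -/
theorem result {G : Type*} [Group G] [Finite G] [IsSimpleGroup G] (x : G) (hx : orderOf x = 2)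
    (h3 : Nat.card {u : ↥(Subgroup.centralizer ({x} : Set G)) // orderOf u = 2} ≤ 3) :
    (∃ S : Sylow 2 G, (S : Subgroup G) ≤ Subgroup.centralizer ({x} : Set G)) ∧
      ∀ u v : G, orderOf u = 2 → orderOf v = 2 → IsConj u v := by
  have hset : (invol x).ncard ≤ 3 := by
    refine le_of_eq_of_le ?_ h3
    rw [← Nat.card_coe_set_eq]
    refine Nat.card_congr
      ⟨fun a => ⟨⟨a.1, Subgroup.mem_centralizer_singleton_iff.2 a.2.2.eq⟩, ?_⟩,
        fun a => ⟨a.1.1, ?_, ?_⟩, fun a => rfl, fun a => rfl⟩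
    · rw [Subgroup.orderOf_mk]; exact a.2.1
    · rw [Subgroup.orderOf_coe]; exact a.2
    · exact Subgroup.mem_centralizer_singleton_iff.1 a.1.2
  by_cases hz : Subgroup.center G = ⊥
  · obtain ⟨h1, h2⟩ := main_nonabelian hz x hx hset
    exact ⟨h1, fun u v hu hv => (h2 u hu).symm.trans (h2 v hv)⟩
  · have htop := (IsSimpleGroup.eq_bot_or_eq_top_of_normal (Subgroup.center G) inferInstance).resolve_left hz
    have hcomm : ∀ a b : G, a * b = b * a := fun a b =>
      (Subgroup.mem_center_iff.1 (htop ▸ Subgroup.mem_top b) a)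
    refine ⟨⟨default, fun a _ => Subgroup.mem_centralizer_singleton_iff.2 (hcomm a x)⟩, ?_⟩
    intro u v hu hv
    have key : ∀ w : G, orderOf w = 2 → Subgroup.zpowers w = ⊤ := by
      intro w hw
      have : (Subgroup.zpowers w).Normal := ⟨fun a ha b => by rwa [hcomm b a, mul_inv_cancel_right]⟩
      refine (IsSimpleGroup.eq_bot_or_eq_top_of_normal _ this).resolve_left ?_
      intro h
      exact ne_one_of_orderOf hw (Subgroup.zpowers_eq_bot.1 h)
    have hmem : u ∈ Subgroup.zpowers v := key v hv ▸ Subgroup.mem_top u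
    obtain ⟨k, rfl⟩ := Subgroup.mem_zpowers_iff.1 hmem
    rw [← zpow_mod_orderOf, hv] at hu ⊢
    rcases Int.emod_two_eq_zero_or_one k with h | h
    · simp [h] at hu
    · simp [h, isConj_iff]
      exact ⟨1, by simp⟩

end Cfsg.Agent.S3279
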