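import Cfsg.Statements.S3280
import Cfsg.Agent.SmallCent.Main
import Cfsg.Agent.SmallCent.Reduce
import Cfsg.Agent.S3278
import Cfsg.Agent.S3331

set_option autoImplicit false
open Cfsg

namespace Cfsg.Agent.S3280

open Subgroup

/-- The case of a self-centralizing element of order four. -/
theorem order_four {G : Type*} [Group G] [Finite G] [IsSimpleGroup G]
    (hab : ∃ a b : G, a * b ≠ b * a) {w : G} (hw : orderOf w = 4)
    (hC : Nat.card (centralizer ({w} : Set G)) = 4) :
    Nonempty (G ≃* ↥(alternatingGroup (Fin 6))) ∨ Nonempty (G ≃* ↥(alternatingGroup (Fin 7))) ∨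
      ∃ (F : Type) (_ : Field F) (_ : Fintype F), Fintype.card F = 7 ∧
        Nonempty (G ≃* Matrix.ProjectiveSpecialLinearGroup (Fin 2) F) := by
  obtain ⟨S, ι, c⟩ := SmallCent.exists_cfg hab hw hC
  exact c.classification hab

/-- A non-cyclic finite simple group containing an element whose centralizer has order at most 4 is isomorphic to the alternating group of degree 5, 6 or 7, or to PSL(2, 7). -/
theorem result {G : Type*} [Group G] [Finite G] [IsSimpleGroup G] (hG : ¬ IsCyclic G)
    (w : G) (hw : Nat.card ↥(Subgroup.centralizer ({w} : Set G)) ≤ 4) :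
    Nonempty (G ≃* ↥(alternatingGroup (Fin 5))) ∨ Nonempty (G ≃* ↥(alternatingGroup (Fin 6))) ∨
      Nonempty (G ≃* ↥(alternatingGroup (Fin 7))) ∨
      (∃ (F : Type) (_ : Field F) (_ : Fintype F), Fintype.card F = 7 ∧ Nonempty (G ≃* Matrix.ProjectiveSpecialLinearGroup (Fin 2) F)) := by
  classical
  have hab : ∃ a b : G, a * b ≠ b * a := by
    by_contra! hc
    let : CommGroup G := { (inferInstance : Group G) with mul_comm := hc }
    exact hG IsSimpleGroup.isCyclic
  set C := centralizer ({w} : Set G) with hC
  have hwC : w ∈ C := mem_centralizer_singleton_iff.2 rfl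
  have hpos : 0 < Nat.card C := Nat.card_pos
  have hdvd : orderOf w ∣ Nat.card C := by
    have h1 := orderOf_dvd_natCard (⟨w, hwC⟩ : C)
    rwa [orderOf_mk] at h1
  have hw1 : w ≠ 1 := by
    rintro rfl
    have htop : C = ⊤ := eq_top_iff.2 fun g _ => mem_centralizer_singleton_iff.2 (by simp)
    rw [htop, card_top] at hw
    have hne : Nontrivial G := inferInstance
    have h1 : 1 < Nat.card G := Finite.one_lt_card
    have h4 : Nat.card G = 2 ∨ Nat.card G = 3 ∨ Nat.card G = 4 := by omega
    rcases h4 with h4 | h4 | h4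
    · exact hG (isCyclic_of_prime_card (p := 2) (hp := ⟨Nat.prime_two⟩) h4)
    · exact hG (isCyclic_of_prime_card (p := 3) (hp := ⟨Nat.prime_three⟩) h4)
    · have := Fact.mk Nat.prime_two
      obtain ⟨a, b, hab⟩ := hab
      exact hab (IsPGroup.commutative_of_card_eq_prime_sq (p := 2) (by rw [h4]; norm_num) a b)
  have ho : orderOf w ≠ 1 := fun e => hw1 (orderOf_eq_one_iff.1 e)
  have hle := Nat.le_of_dvd hpos hdvd
  have hwpos := orderOf_pos w
  rcases (show Nat.card C = 2 ∨ Nat.card C = 3 ∨ Nat.card C = 4 by omega) with h | h | h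
  · -- a self-centralizing involution
    exfalso
    have hw2 : orderOf w = 2 := by omega
    have := Fact.mk Nat.prime_two
    have h2 : 2 ∣ Nat.card G := hw2 ▸ orderOf_dvd_natCard w
    obtain ⟨S, hS⟩ := (IsPGroup.of_card (p := 2) (n := 1)
      (show Nat.card (zpowers w) = 2 ^ 1 by rw [Nat.card_zpowers, hw2, pow_one])).exists_le_sylow
    have hzC : zpowers w = C := eq_of_le_of_card_ge (zpowers_le.2 hwC)
      (by rw [h, Nat.card_zpowers, hw2])
    have hne : Nontrivial (S : Subgroup G) :=
      ⟨⟨w, hS (mem_zpowers w)⟩, 1, fun e => hw1 (congrArg Subtype.val e)⟩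
    obtain ⟨⟨⟨u, huS⟩, hu⟩, hu1⟩ := @exists_ne _ S.2.center_nontrivial
      (1 : center (S : Subgroup G))
    have hcomm : ∀ v ∈ (S : Subgroup G), v * u = u * v := fun v hv =>
      congrArg Subtype.val (mem_center_iff.1 hu ⟨v, hv⟩)
    have huC : u ∈ zpowers w := hzC ▸ mem_centralizer_singleton_iff.2
      (hcomm w (hS (mem_zpowers w))).symm
    obtain ⟨i, hi⟩ := mem_zpowers_iff.1 huC
    have huw : u = w := by
      rcases Int.even_or_odd i with ⟨j, rfl⟩ | ⟨j, rfl⟩
      · exfalso
        refine hu1 (Subtype.ext (Subtype.ext ?_))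
        show u = 1
        rw [← hi, ← two_mul, zpow_mul, show (2 : ℤ) = ((2 : ℕ) : ℤ) from rfl, zpow_natCast, ← hw2,
          pow_orderOf_eq_one, one_zpow]
      · rw [← hi, zpow_add_one, zpow_mul, show (2 : ℤ) = ((2 : ℕ) : ℤ) from rfl, zpow_natCast, ← hw2,
          pow_orderOf_eq_one, one_zpow, one_mul]
    have hSw : (S : Subgroup G) = zpowers w := le_antisymm (fun v hv => hzC ▸
      mem_centralizer_singleton_iff.2 (huw ▸ hcomm v hv)) hS
    refine SmallCent.not_cyclic_sylow_two hab h2 S ?_
    rw [hSw]
    infer_instance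
  · -- a self-centralizing element of order three
    have hw3 : orderOf w = 3 := by
      rcases (Nat.dvd_prime Nat.prime_three).1 (h ▸ hdvd) with e | e
      · exact absurd e ho
      · exact e
    have hX : centralizer (zpowers w : Set G) = zpowers w := by
      rw [zpowers_eq_closure, centralizer_closure, ← zpowers_eq_closure]
      exact (eq_of_le_of_card_ge (zpowers_le.2 hwC) (by rw [h, Nat.card_zpowers, hw3])).symm
    rcases S3331.result (zpowers w) (by rw [Nat.card_zpowers, hw3]) hX with
      ⟨N, hN, hNnil, -, hq⟩ | ⟨N, hN, hNc, -, ⟨e⟩⟩ | ⟨e⟩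
    · exfalso
      rcases IsSimpleGroup.eq_bot_or_eq_top_of_normal N hN with rfl | rfl
      · rcases hq with hq | ⟨⟨e⟩⟩
        · refine hG (isCyclic_of_prime_card (p := 3) (hp := ⟨Nat.prime_three⟩) ?_)
          rw [← hq]
          exact Nat.card_congr (QuotientGroup.quotientBot (G := G)).toEquiv.symm
        · have e' := QuotientGroup.quotientBot.symm.trans e
          have := IsSimpleGroup.eq_bot_or_eq_top_of_normal
            ((Equiv.Perm.sign.comp e'.toMonoidHom).ker) inferInstance
          rcases this with hk | hk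
          · have hinj := (MonoidHom.ker_eq_bot_iff _).1 hk
            have := Nat.card_le_card_of_injective _ hinj
            rw [Nat.card_congr e'.toEquiv, Nat.card_eq_fintype_card, Fintype.card_perm,
              Fintype.card_fin, Nat.card_eq_fintype_card] at this
            simp [Nat.factorial] at this
          · have h1 : Equiv.Perm.sign.comp e'.toMonoidHom = 1 := MonoidHom.ker_eq_top_iff.1 hk
            have h2 := DFunLike.congr_fun h1 (e'.symm (Equiv.swap 0 1))
            simp at h2
      · rcases hq with hq | ⟨⟨e⟩⟩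
        · rw [← index_eq_card, index_top] at hq; omega
        · have := Nat.card_congr e.toEquiv
          rw [← index_eq_card, index_top, Nat.card_eq_fintype_card, Fintype.card_perm,
            Fintype.card_fin] at this
          simp [Nat.factorial] at this
    · left
      rcases IsSimpleGroup.eq_bot_or_eq_top_of_normal N hN with rfl | rfl
      · exact ⟨QuotientGroup.quotientBot.symm.trans e⟩
      · exfalso
        obtain ⟨a, b, hab⟩ := hab
        exact hab (congrArg Subtype.val (hNc.is_comm.comm ⟨a, mem_top a⟩ ⟨b, mem_top b⟩))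
    · exact Or.inr (Or.inr (Or.inr ⟨ZMod 7, ZMod.instField 7, inferInstance, ZMod.card 7, e⟩))
  rcases (show orderOf w = 2 ∨ orderOf w = 4 by
      rw [h] at hdvd hle
      have : orderOf w ≠ 3 := fun e => by rw [e] at hdvd; omega
      omega) with hw2 | hw4
  · by_cases hsq : ∀ v ∈ C, v * v = 1
    · left
      have hK : IsKleinFour C := by
        refine ⟨h, ?_⟩
        have : Nontrivial C := Finite.one_lt_card_iff_nontrivial.1 (by omega)
        refine (Monoid.exponent_eq_prime_iff Nat.prime_two).2 fun g hg => orderOf_eq_prime ?_ hg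
        exact Subtype.ext (by rw [SubmonoidClass.coe_pow, pow_two]; exact hsq _ g.2)
      refine S3278.result w hw2 C le_rfl hK ?_ ?_
      · rw [relIndex_self]; norm_num
      · rw [subgroupOf_self]; infer_instance
    · push Not at hsq
      obtain ⟨v, hv, hv2⟩ := hsq
      have hv4 : orderOf v = 4 := by
        have h1 : orderOf v ∣ 4 := by
          have := orderOf_dvd_natCard (⟨v, hv⟩ : C)
          rwa [orderOf_mk, h] at this
        have h2 : ¬ orderOf v ∣ 2 := fun e => hv2 (by
          rw [← pow_two]; exact orderOf_dvd_iff_pow_eq_one.1 e)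
        obtain ⟨i, hi, e⟩ := (Nat.dvd_prime_pow Nat.prime_two).1 (show orderOf v ∣ 2 ^ 2 from h1)
        rw [e] at h2 ⊢
        interval_cases i <;> first | (norm_num at h2; done) | norm_num
      have hle' : centralizer ({v} : Set G) ≤ C := by
        intro x hx
        have hz : zpowers v = C := eq_of_le_of_card_ge (zpowers_le.2 hv)
          (by rw [h, Nat.card_zpowers, hv4])
        obtain ⟨i, hi⟩ := mem_zpowers_iff.1 (hz ▸ hwC : w ∈ zpowers v)
        refine mem_centralizer_singleton_iff.2 ?_
        rw [← hi]
        exact ((show Commute x v from mem_centralizer_singleton_iff.1 hx).zpow_right i).eq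
      have hvC : Nat.card (centralizer ({v} : Set G)) = 4 := by
        refine le_antisymm ((card_le_of_le hle').trans h.le) ?_
        rw [← hv4, ← Nat.card_zpowers]
        exact card_le_of_le (zpowers_le.2 (mem_centralizer_singleton_iff.2 rfl))
      exact Or.inr (order_four hab hv4 hvC)
  · exact Or.inr (order_four hab hw4 h)

end Cfsg.Agent.S3280
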