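import Cfsg.Statements.S3286
import Cfsg.Agent.M12Cent.Order
import Cfsg.Agent.M12Cent.Host
import Cfsg.Agent.Fg24.M12.Ident
import Cfsg.Agent.Compute.MathieuActions

set_option autoImplicit false
open Cfsg

namespace Cfsg.Agent.S3286

/-- Let G be a non-abelian finite simple group containing an involution whose centralizer is isomorphic to the centralizer, in the Mathieu group M₁₂, of an involution lying in the centre of a Sylow 2-subgroup of M₁₂. Then G is isomorphic to M₁₂. -/
theorem result {G : Type*} [Group G] [Finite G] [IsSimpleGroup G] (hG : ¬ IsMulCommutative G)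
    (u : ↥Cfsg.Spor.M12) (hu : Cfsg.IsTwoCentralInvolution u)
    (t : G) (ht : orderOf t = 2) (e : ↥(Subgroup.centralizer ({t} : Set G)) ≃* ↥(Subgroup.centralizer ({u} : Set ↥Cfsg.Spor.M12))) :
    Cfsg.Spor.IsoM12 G := by
  obtain ⟨e', -⟩ := M12Cent.exists_model hu
  let f : M12Cent.M ≃* ↥(Subgroup.centralizer ({t} : Set G)) := e'.trans e.symm
  let t' : ↥(Subgroup.centralizer ({t} : Set G)) :=
    ⟨t, Subgroup.mem_centralizer_singleton_iff.2 rfl⟩
  have hz : f M12Cent.M.zM = t' := by
    have hc : f.symm t' = 1 ∨ f.symm t' = M12Cent.M.zM := by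
      refine M12Cent.M.center_eq _ fun y => f.injective ?_
      rw [map_mul, map_mul, MulEquiv.apply_symm_apply]
      exact Subtype.ext (Subgroup.mem_centralizer_singleton_iff.1 (f y).2).symm
    rcases hc with h | h
    · exfalso
      have h1 : t' = 1 := by rw [← f.apply_symm_apply t', h, map_one]
      have h2 : t = 1 := congrArg Subtype.val h1
      rw [h2, orderOf_one] at ht
      omega
    · rw [← h, MulEquiv.apply_symm_apply]
  have E : M12Cent.Emb t :=
    ⟨(Subgroup.centralizer ({t} : Set G)).subtype.comp f.toMonoidHom,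
      fun a b h => f.injective (Subtype.ext h),
      by rw [MonoidHom.range_comp, MonoidHom.range_eq_top.2 f.surjective, ← MonoidHom.range_eq_map,
        Subgroup.range_subtype],
      congrArg Subtype.val hz⟩
  have hcard := E.card_eq hG
  haveI := Cfsg.Agent.Compute.isSimpleGroup_m12
  haveI := M12Cent.finite_m12
  letI := Fintype.ofFinite G
  letI := Fintype.ofFinite Cfsg.Spor.M12
  exact Fg24.M12.unique_95040 (K := Cfsg.Spor.M12) hcard Cfsg.Agent.Compute.card_m12

end Cfsg.Agent.S3286
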