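import Cfsg.Statements.S3294
import Cfsg.Agent.Invol.QuatD
import Cfsg.Agent.Core.Fitting
import Cfsg.Agent.Core.PCore
import Cfsg.Agent.Invol.ZStar

set_option autoImplicit false
open Cfsg

namespace Cfsg.Agent.S3294

open Subgroup Cfsg.Agent.Invol

/-- A finite solvable group whose Sylow 2-subgroups are generalized quaternion of order at least 32 has a normal 2-complement. -/
theorem result {G : Type*} [Group G] [Finite G] (hsol : Group.IsSolvable G) (T : Sylow 2 G) (n : ℕ) (hn : 3 ≤ n) (hT : Nonempty ((T : Subgroup G) ≃* QuaternionGroup (2 ^ n))) : Cfsg.HasNormalPComplement 2 G := by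
  have : Fact (Nat.Prime 2) := ⟨Nat.prime_two⟩
  obtain ⟨e0⟩ := hT
  have hO2 : ¬ 2 ∣ Nat.card (Cfsg.pPrimeCore 2 G) := Cfsg.Agent.Core.not_dvd_card_pPrimeCore
  have hcop : (Nat.card (Cfsg.pPrimeCore 2 G)).Coprime 2 :=
    ((Nat.Prime.coprime_iff_not_dvd Nat.prime_two).2 hO2).symm
  refine Cfsg.Agent.Fusion.hasNormalPComplement_of_quotient (Cfsg.pPrimeCore 2 G) hcop ?_
  apply Cfsg.Agent.Fusion.hasNormalPComplement_of_isPGroup
  set O := Cfsg.pPrimeCore 2 G with hOdef
  set π := QuotientGroup.mk' O with hπ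
  let P : Sylow 2 (G ⧸ O) := T.mapSurjective (QuotientGroup.mk'_surjective O)
  have hinj : Function.Injective (π.subgroupMap (T : Subgroup G)) := by
    rw [injective_iff_map_eq_one]
    intro x hx
    have hxO : (x : G) ∈ O := (QuotientGroup.eq_one_iff _).1 (congrArg Subtype.val hx)
    obtain ⟨j, hj⟩ := IsPGroup.iff_orderOf.1 T.2 x
    have hd : orderOf x ∣ Nat.card O := by rw [← Subgroup.orderOf_coe]; exact Subgroup.orderOf_dvd_natCard O hxO
    rcases Nat.eq_zero_or_pos j with rfl | hpos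
    · rwa [pow_zero, orderOf_eq_one_iff] at hj
    · exact absurd ((dvd_pow_self 2 hpos.ne').trans (hj ▸ hd)) hO2
  let e : (P : Subgroup (G ⧸ O)) ≃* QuaternionGroup (2 ^ n) :=
    (MulEquiv.ofBijective _ ⟨hinj, π.subgroupMap_surjective _⟩).symm.trans e0
  obtain ⟨hu, hnc⟩ := quaternion_uniq P
    (by have := Nat.pow_le_pow_right two_pos (show 1 ≤ n by omega); simpa using this) e
  obtain ⟨a, k, h⟩ := exists_qData P hu hnc
  have : NeZero (2 ^ n) := ⟨by positivity⟩
  have hk : 4 ≤ k := by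
    have hc := h.card
    rw [Nat.card_congr e.toEquiv, Nat.card_eq_fintype_card, QuaternionGroup.card,
      ← pow_succ', show (4 : ℕ) = 2 ^ 2 by norm_num, ← pow_add] at hc
    have := Nat.pow_right_injective le_rfl hc
    omega
  have hOq : Cfsg.oddCore (G ⧸ O) = ⊥ := Cfsg.Agent.Core.pPrimeCore_quotient_eq_bot
  set F := Cfsg.pCore 2 (G ⧸ O) with hF
  have hsol' : Group.IsSolvable (G ⧸ O) := by
    have := hsol
    exact Group.isSolvable_of_surjective (QuotientGroup.mk'_surjective O)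
  have hFcent : centralizer (F : Set (G ⧸ O)) ≤ F := by
    have h1 := Cfsg.Agent.Core.centralizer_fittingSubgroup_le (G := G ⧸ O)
    have h2 : Cfsg.fittingSubgroup (G ⧸ O) = F := by
      refine le_antisymm ?_ (Cfsg.Agent.Core.pCore_le_fittingSubgroup 2)
      rw [Cfsg.Agent.Core.fittingSubgroup_eq_iSup_pCore]
      refine iSup_le fun q => ?_
      have := Fact.mk q.2
      rcases eq_or_ne (q : ℕ) 2 with hq | hq
      · rw [hq]
      · obtain ⟨j, hj⟩ := IsPGroup.iff_card.1 (Cfsg.Agent.Core.pCore_isPGroup (p := (q : ℕ)) (G := G ⧸ O))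
        have hodd : Odd (Nat.card (Cfsg.pCore (q : ℕ) (G ⧸ O))) := by
          rw [hj]; exact (q.2.odd_of_ne_two hq).pow
        rw [eq_bot_of_odd hOq (Cfsg.pCore (q : ℕ) (G ⧸ O)) (Nat.two_dvd_ne_zero.2 (Nat.odd_iff.1 hodd))]
        exact bot_le
    rwa [h2] at h1
  have hFp : IsPGroup 2 F := Cfsg.Agent.Core.pCore_isPGroup
  have hFP : F ≤ (P : Subgroup (G ⧸ O)) := hFp.le_sylow_of_normal P
  have hDD : zpowers (a ^ 2) ≤ zpowers a := zpowers_le.2 (pow_mem (mem_zpowers a) 2)
  have odd_trivial : ∀ q : G ⧸ O, ¬ 2 ∣ orderOf q → q = 1 := by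
    intro q hq
    have hqn : ∀ x ∈ F, q * x * q⁻¹ ∈ F := fun x hx =>
      (inferInstance : (Cfsg.pCore 2 (G ⧸ O)).Normal).conj_mem x hx q
    have hqN : ∀ U : Subgroup (G ⧸ O), (∀ x ∈ U, q * x * q⁻¹ ∈ U) → q ∈ normalizer (U : Set (G ⧸ O)) := by
      intro U hU
      refine mem_normalizer_iff_map_conj_eq.2
        (eq_of_le_of_card_ge ?_ (Nat.card_congr (equivMapOfInjective _ (MulAut.conj q).toMonoidHom
          (MulAut.conj q).injective).toEquiv).le)
      rintro _ ⟨x, hx, rfl⟩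
      exact hU x hx
    suffices hc : q ∈ centralizer (F : Set (G ⧸ O)) by
      obtain ⟨j, hj⟩ := IsPGroup.iff_orderOf.1 hFp ⟨q, hFcent hc⟩
      rw [Subgroup.orderOf_mk] at hj
      rcases Nat.eq_zero_or_pos j with rfl | hpos
      · exact orderOf_eq_one_iff.1 (hj.trans (pow_zero 2))
      · exact absurd ((dvd_pow_self 2 hpos.ne').trans hj.symm.dvd) hq
    by_cases hFA : F ≤ zpowers a
    · have : IsCyclic F := isCyclic_of_injective (Subgroup.inclusion hFA) (Subgroup.inclusion_injective hFA)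
      exact Cfsg.Agent.HSub.centralizes_cyclic (p := 2) (good_two hq) hFp inferInstance (hqN F hqn)
    obtain ⟨x, hxF, hxa⟩ := SetLike.not_le_iff_exists.1 hFA
    have ha2F : a ^ 2 ∈ F := by
      have h1 := F.mul_mem hxF ((inferInstance : (Cfsg.pCore 2 (G ⧸ O)).Normal).conj_mem x⁻¹ (inv_mem hxF) a)
      rw [show x * (a * x⁻¹ * a⁻¹) = x * a * x⁻¹ * a⁻¹ by group,
        h.inverts (hFP hxF) hxa (mem_zpowers a), ← mul_inv_rev, ← pow_two] at h1
      exact inv_mem_iff.1 h1
    set u := q * a ^ 2 * q⁻¹ with hu'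
    have huo : orderOf u = 2 ^ (k - 1) := (Cfsg.Agent.Invol.orderOf_conj q _).trans h.orderOf_sq
    have huA : u ∈ zpowers a := by
      by_contra hcon
      have h1 := (h.out u (hFP (hqn _ ha2F)) hcon).2
      have h2 : u ^ 4 = 1 := by
        rw [show (4 : ℕ) = 2 * 2 from rfl, pow_mul, pow_two u, h1, ← pow_mul, ← pow_succ,
          show k - 1 + 1 = k by omega, ← h.order, pow_orderOf_eq_one]
      have h3 := Nat.le_of_dvd (by norm_num) (orderOf_dvd_of_pow_eq_one h2)
      have : 2 ^ 3 ≤ 2 ^ (k - 1) := Nat.pow_le_pow_right two_pos (by omega)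
      omega
    have huD : u ∈ zpowers (a ^ 2) := by rw [h.mem_D_iff huA, ← huo, pow_orderOf_eq_one]
    have hqD : q ∈ normalizer (zpowers (a ^ 2) : Set (G ⧸ O)) := by
      refine hqN _ fun v hv => ?_
      obtain ⟨i, rfl⟩ := mem_zpowers_iff.1 hv
      rw [← conj_zpow]
      exact zpow_mem huD i
    have hqfix : ∀ v ∈ zpowers (a ^ 2), v * q = q * v :=
      mem_centralizer_iff.1 (Cfsg.Agent.HSub.centralizes_cyclic (p := 2) (good_two hq)
        (IsPGroup.of_card (n := k - 1) (by rw [Nat.card_zpowers, h.orderOf_sq])) inferInstance hqD)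
    have hqa : q * a ^ 2 * q⁻¹ = a ^ 2 := by rw [← hqfix _ (mem_zpowers _), mul_inv_cancel_right]
    set B := F ⊓ zpowers a with hB
    have hqB : ∀ b ∈ B, q * b * q⁻¹ ∈ B := by
      intro b hb
      refine ⟨hqn b hb.1, ?_⟩
      refine h.mem_A_of_commute (by omega) (hFP (hqn b hb.1)) ?_
      obtain ⟨i, rfl⟩ := mem_zpowers_iff.1 hb.2
      conv_lhs => rw [← hqa]
      conv_rhs => rw [← hqa]
      group
    have hBc : IsCyclic B := isCyclic_of_injective (Subgroup.inclusion (inf_le_right : B ≤ zpowers a))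
      (Subgroup.inclusion_injective _)
    have hqBc : ∀ b ∈ B, b * q = q * b :=
      mem_centralizer_iff.1 (Cfsg.Agent.HSub.centralizes_cyclic (p := 2) (good_two hq)
        (hFp.to_le inf_le_left) hBc (hqN B hqB))
    -- the displacement of an outer element is centralised by `q`
    have houter : ∀ y ∈ F, y ∉ zpowers a → q * y = y * q := by
      intro y hy hya
      set y' := q * y * q⁻¹ with hy'
      have hy'a : y' ∉ zpowers a := by
        intro hcon
        obtain ⟨i, hi⟩ := mem_zpowers_iff.1 hcon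
        apply hya
        refine h.mem_A_of_commute (by omega) (hFP hy) ?_
        have hc : y' * a ^ 2 = a ^ 2 * y' := by rw [← hi]; group
        rw [← hqa, hy'] at hc
        calc y * a ^ 2 = q⁻¹ * (q * y * q⁻¹ * (q * a ^ 2 * q⁻¹)) * q := by group
          _ = q⁻¹ * (q * a ^ 2 * q⁻¹ * (q * y * q⁻¹)) * q := by rw [hc]
          _ = a ^ 2 * y := by group
      set α := y⁻¹ * y' with hα
      have hαB : α ∈ B := ⟨F.mul_mem (F.inv_mem hy) (hqn y hy),
        h.mul_mem_of_out ((P : Subgroup (G ⧸ O)).inv_mem (hFP hy)) (hFP (hqn y hy))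
          (fun e' => hya (inv_mem_iff.1 e')) hy'a⟩
      have hiter : ∀ j : ℕ, q ^ j * y * (q ^ j)⁻¹ = y * α ^ j := by
        intro j
        induction j with
        | zero => simp
        | succ j ih =>
          have hc := hqBc _ (pow_mem hαB j)
          calc q ^ (j + 1) * y * (q ^ (j + 1))⁻¹ = q * (q ^ j * y * (q ^ j)⁻¹) * q⁻¹ := by
                rw [pow_succ' q j]; group
            _ = q * y * q⁻¹ * (q * α ^ j * q⁻¹) := by rw [ih]; group
            _ = y * α * α ^ j := by rw [← hc, mul_inv_cancel_right, hα, hy']; group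
            _ = y * α ^ (j + 1) := by rw [mul_assoc, ← pow_succ']
      have h1 := hiter (orderOf q)
      rw [pow_orderOf_eq_one, one_mul, inv_one, mul_one, left_eq_mul] at h1
      have hd1 := orderOf_dvd_of_pow_eq_one h1
      obtain ⟨j, hj⟩ := IsPGroup.iff_orderOf.1 hFp ⟨α, hαB.1⟩
      rw [Subgroup.orderOf_mk] at hj
      rcases Nat.eq_zero_or_pos j with rfl | hpos
      · have hα1 : α = 1 := orderOf_eq_one_iff.1 (hj.trans (pow_zero 2))
        have h2 := hiter 1
        rw [pow_one, pow_one, hα1, mul_one] at h2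
        exact mul_inv_eq_iff_eq_mul.1 h2
      · exact absurd (((dvd_pow_self 2 hpos.ne').trans hj.symm.dvd).trans hd1) hq
    refine mem_centralizer_iff.2 fun y hy => ?_
    by_cases hya : y ∈ zpowers a
    · exact hqBc y ⟨hy, hya⟩
    · exact (houter y hy hya).symm
  intro g
  obtain ⟨j, d, hd, hjd⟩ : ∃ j d : ℕ, ¬ 2 ∣ d ∧ orderOf g = 2 ^ j * d :=
    ⟨_, _, Nat.not_dvd_ordCompl Nat.prime_two (orderOf_pos g).ne', (Nat.ordProj_mul_ordCompl_eq_self _ 2).symm⟩
  refine ⟨j, odd_trivial _ fun h2 => hd (h2.trans ?_)⟩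
  refine orderOf_dvd_of_pow_eq_one ?_
  rw [← pow_mul, ← hjd, pow_orderOf_eq_one]

end Cfsg.Agent.S3294
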