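import Cfsg.Statements.S3298
import Cfsg.Agent.A12Type.Final

set_option autoImplicit false
open Cfsg

namespace Cfsg.Agent.S3298

/-- Let G be a finite group with an involution α lying in the centre of some Sylow 2-subgroup of G, whose centralizer C_G(α) is isomorphic to the centralizer in the alternating group of degree 12 of a fixed-point-free involution (a product of six disjoint transpositions). Then G is isomorphic to the alternating group of degree 12 or 13, or to the symplectic group Sp₆(2), or G = O(G)·C_G(α) with O(G), the largest normal subgroup of odd order, abelian. -/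
theorem result {G : Type*} [Group G] [Finite G] (α : G) (hα : orderOf α = 2) (S : Sylow 2 G)
    (hαS : α ∈ (S : Subgroup G) ⊓ Subgroup.centralizer ((S : Subgroup G) : Set G))
    (hC : Nonempty (↥(Subgroup.centralizer ({α} : Set G)) ≃*
      ↥(alternatingGroup (Fin 12) ⊓ Subgroup.centralizer ({(Equiv.swap (0 : Fin 12) 1 * Equiv.swap (2 : Fin 12) 3 * Equiv.swap (4 : Fin 12) 5 * Equiv.swap (6 : Fin 12) 7 * Equiv.swap (8 : Fin 12) 9 * Equiv.swap (10 : Fin 12) 11)} : Set (Equiv.Perm (Fin 12))))))
    : Nonempty (G ≃* ↥(alternatingGroup (Fin 12))) ∨ Nonempty (G ≃* ↥(alternatingGroup (Fin 13))) ∨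
      (∃ (F : Type) (_ : Field F) (_ : Fintype F), Fintype.card F = 2 ∧ Nonempty (G ≃* Cfsg.PSp 3 F)) ∨
      (Cfsg.oddCore G ⊔ Subgroup.centralizer ({α} : Set G) = ⊤ ∧ IsMulCommutative ↥(Cfsg.oddCore G)) := by
  exact A12Type.main α hα S hαS hC

end Cfsg.Agent.S3298
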