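import Cfsg.Statements.S3299
import Cfsg.Agent.Fusion.Extraspecial
import Cfsg.Agent.Fusion.TransferParity
import Cfsg.Agent.Fusion.Residual

set_option autoImplicit false
open Cfsg

namespace Cfsg.Agent.S3299

open Subgroup
open scoped commutatorElement

theorem exists_index_two_hom {H : Type*} [Group H] (K : Subgroup H) (hK : K.index = 2) :
    ∃ φ : H →* Multiplicative (ZMod 2), ∀ h, φ h = 1 ↔ h ∈ K := by
  classical
  refine ⟨MonoidHom.mk' (fun h => if h ∈ K then 1 else Multiplicative.ofAdd (1 : ZMod 2)) ?_,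
    fun h => ?_⟩
  · intro a b
    have := mul_mem_iff_of_index_two hK (a := a) (b := b)
    by_cases ha : a ∈ K <;> by_cases hb : b ∈ K <;> simp [ha, hb, this] <;> decide
  · by_cases hh : h ∈ K <;> simp [hh]

/-- Let G be a finite group with no nontrivial 2-group quotient (O^2(G) = G), z an involution of G with H = C_G(z), and suppose E = O_2(H) is extraspecial with C_G(E) ≤ E and of order 2^(2n+1) with n ≥ 2. Then E is contained in every normal subgroup of H of index 2. -/
theorem result {G : Type*} [Group G] [Finite G] (hres : Cfsg.pResidual 2 G = ⊤) (z : G) (hz : orderOf z = 2)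
    (E : Subgroup G) (hE : E = (Cfsg.pCore 2 ↥(Subgroup.centralizer ({z} : Set G))).map (Subgroup.centralizer ({z} : Set G)).subtype)
    (hext : Cfsg.IsExtraspecial 2 ↥E) (hcent : Subgroup.centralizer (E : Set G) ≤ E) (n : ℕ) (hn : 2 ≤ n) (hcard : Nat.card ↥E = 2 ^ (2 * n + 1))
    (K : Subgroup G) (hKH : K ≤ Subgroup.centralizer ({z} : Set G))
    (hKn : ∀ h ∈ Subgroup.centralizer ({z} : Set G), K.map (MulAut.conj h).toMonoidHom = K)
    (hKi : K.relIndex (Subgroup.centralizer ({z} : Set G)) = 2) : E ≤ K := by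
  classical
  set H := Subgroup.centralizer ({z} : Set G) with hHdef
  have hmemH : ∀ g : G, g ∈ H ↔ g * z = z * g := fun g => mem_centralizer_singleton_iff
  have hz1 : z ≠ 1 := fun h => by simp [h] at hz
  have hz2 : z * z = 1 := by rw [← pow_two, ← hz]; exact pow_orderOf_eq_one z
  have hEH : E ≤ H := by rw [hE]; exact map_subtype_le _
  have hEn : ∀ h ∈ H, ∀ e ∈ E, h * e * h⁻¹ ∈ E := by
    intro h hh e he
    rw [hE] at he ⊢
    obtain ⟨e', he', rfl⟩ := he
    exact ⟨⟨h, hh⟩ * e' * ⟨h, hh⟩⁻¹,
      (inferInstance : (Cfsg.pCore 2 H).Normal).conj_mem e' he' ⟨h, hh⟩, rfl⟩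
  have hzE : z ∈ E := hcent (mem_centralizer_iff.mpr fun e he => (hmemH e).mp (hEH he))
  have hzZ : (⟨z, hzE⟩ : E) ∈ center E :=
    mem_center_iff.mpr fun e => Subtype.ext ((hmemH e).mp (hEH e.2))
  have hZ : ∀ e : E, e ∈ center E → (e : G) = 1 ∨ (e : G) = z := by
    intro e he
    rw [← Fusion.es_center_zpowers hext hzZ (fun h => hz1 (congrArg Subtype.val h))] at he
    obtain ⟨i, rfl⟩ := he
    rcases Int.emod_two_eq_zero_or_one i with h | h <;> simp only [SubgroupClass.coe_zpow]
    · left; rw [← zpow_mod_orderOf, hz]; simp [h]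
    · right; rw [← zpow_mod_orderOf, hz]; simp [h]
  have hsq : ∀ e ∈ E, e * e = 1 ∨ e * e = z := fun e he => by
    have := hZ _ (Fusion.es_pow_mem_center hext ⟨e, he⟩)
    simpa [pow_two] using this
  have hcz : ∀ a ∈ E, ∀ b ∈ E, a * b * a⁻¹ * b⁻¹ = 1 ∨ a * b * a⁻¹ * b⁻¹ = z := fun a ha b hb => by
    have := hZ _ (Fusion.es_commutator_mem hext ⟨a, ha⟩ ⟨b, hb⟩)
    simpa [commutatorElement_def] using this
  have hanti : ∀ a ∈ E, ∀ b ∈ E, a * b ≠ b * a → a * b = z * (b * a) := fun a ha b hb h => by
    rcases hcz a ha b hb with h' | h'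
    · exact absurd (by rw [← mul_inv_eq_one, mul_inv_rev, ← mul_assoc, h']) h
    · rw [← h']; group
  have hzc : ∀ a ∈ E, a * z = z * a := fun a ha => (hmemH a).mp (hEH ha)
  have hcen : ∀ w ∈ E, (∀ e ∈ E, e * w = w * e) → w = 1 ∨ w = z := fun w hw h =>
    hZ ⟨w, hw⟩ (mem_center_iff.mpr fun e => Subtype.ext (h e e.2))
  -- products of elements anticommuting with a fixed element
  have hprod : ∀ y ∈ E, ∀ a ∈ E, ∀ b ∈ E, a * y ≠ y * a → b * y ≠ y * b →
      (a * b) * y = y * (a * b) := by
    intro y hy a ha b hb h1 h2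
    calc a * b * y = a * (z * (y * b)) := by rw [mul_assoc, hanti b hb y hy h2]
      _ = (a * z) * y * b := by group
      _ = z * (a * y) * b := by rw [hzc a ha]; group
      _ = z * (z * (y * a)) * b := by rw [hanti a ha y hy h1]
      _ = (z * z) * (y * (a * b)) := by group
      _ = y * (a * b) := by rw [hz2, one_mul]
  -- the centralizer of a non-central element is not abelian
  have hnab : ∀ y ∈ E, y ≠ 1 → y ≠ z → ∃ a ∈ E, ∃ b ∈ E, a * y = y * a ∧ b * y = y * b ∧
      a * b ≠ b * a := by
    intro y hy hy1 hyz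
    by_contra hne
    push Not at hne
    obtain ⟨h, hh, hhy⟩ : ∃ h ∈ E, h * y ≠ y * h := by
      by_contra hc
      push Not at hc
      rcases hcen y hy hc with h | h <;> contradiction
    set A := E ⊓ centralizer ({y} : Set G) with hA
    have hAm : ∀ a, a ∈ A ↔ a ∈ E ∧ a * y = y * a := fun a => by
      rw [hA, mem_inf, mem_centralizer_singleton_iff]
    have hcase : ∀ e ∈ E, e ∈ A ∨ e * h ∈ A := by
      intro e he
      by_cases hc : e * y = y * e
      · exact Or.inl ((hAm e).mpr ⟨he, hc⟩)
      · exact Or.inr ((hAm _).mpr ⟨E.mul_mem he hh, hprod y hy e he h hh hc hhy⟩)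
    -- an element of `A` commuting with `h` is central
    have hker : ∀ a ∈ A, a * h = h * a → a = 1 ∨ a = z := by
      intro a ha hah
      obtain ⟨haE, hay⟩ := (hAm a).mp ha
      refine hcen a haE fun e he => ?_
      rcases hcase e he with h1 | h1
      · obtain ⟨h1E, h1y⟩ := (hAm e).mp h1
        exact hne e h1E a haE h1y hay
      · obtain ⟨h1E, h1y⟩ := (hAm _).mp h1
        have h2 := hne (e * h) h1E a haE h1y hay
        calc e * a = (e * h) * (h⁻¹ * a) := by group
          _ = (e * h) * (a * h⁻¹) := by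
            congr 1; rw [eq_mul_inv_iff_mul_eq, mul_assoc, hah, inv_mul_cancel_left]
          _ = a * (e * h) * h⁻¹ := by rw [← mul_assoc, h2]
          _ = a * e := by group
    have hA4 : Nat.card A ≤ 4 := by
      have hsub : (A : Set G) ⊆ ({1, z} : Set G) ∪ {a | a ∈ A ∧ a * h ≠ h * a} := by
        intro a ha
        by_cases hc : a * h = h * a
        · exact Or.inl (hker a ha hc)
        · exact Or.inr ⟨ha, hc⟩
      have hsmall : {a | a ∈ A ∧ a * h ≠ h * a}.ncard ≤ 2 := by
        rcases Set.eq_empty_or_nonempty {a | a ∈ A ∧ a * h ≠ h * a} with h0 | ⟨a0, ha0, hh0⟩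
        · rw [h0, Set.ncard_empty]; omega
        · refine (Set.ncard_le_ncard (t := {a0⁻¹ * 1, a0⁻¹ * z}) ?_ (Set.toFinite _)).trans
            ((Set.ncard_insert_le _ _).trans (by rw [Set.ncard_singleton]))
          rintro a ⟨ha, hha⟩
          obtain ⟨haE, -⟩ := (hAm a).mp ha
          obtain ⟨ha0E, -⟩ := (hAm a0).mp ha0
          rcases hker (a0 * a) (A.mul_mem ha0 ha) (hprod h hh a0 ha0E a haE hh0 hha) with e | e
          · exact Or.inl (by rw [← e, inv_mul_cancel_left])
          · exact Or.inr (by rw [Set.mem_singleton_iff, ← e, inv_mul_cancel_left])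
      have h1 := Set.ncard_le_ncard hsub (Set.toFinite _)
      have h2 := Set.ncard_union_le ({1, z} : Set G) {a | a ∈ A ∧ a * h ≠ h * a}
      have h3 := Set.ncard_insert_le (1 : G) {z}
      rw [Set.ncard_singleton] at h3
      have h4 : Nat.card A = (A : Set G).ncard := Nat.card_coe_set_eq _
      omega
    have hE8 : Nat.card E ≤ 2 * Nat.card A := by
      have hsub : (E : Set G) ⊆ (A : Set G) ∪ (fun a => a * h⁻¹) '' (A : Set G) := by
        intro e he
        rcases hcase e he with h1 | h1
        · exact Or.inl h1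
        · exact Or.inr ⟨e * h, h1, by group⟩
      have h1 := (Set.ncard_le_ncard hsub (Set.toFinite _)).trans (Set.ncard_union_le _ _)
      have h2 := Set.ncard_image_le (f := fun a : G => a * h⁻¹) (Set.toFinite (A : Set G))
      have h4 : Nat.card A = (A : Set G).ncard := Nat.card_coe_set_eq _
      have h5 : Nat.card E = (E : Set G).ncard := Nat.card_coe_set_eq _
      omega
    have : 2 ^ 5 ≤ Nat.card E := hcard ▸ Nat.pow_le_pow_right (by norm_num) (by omega)
    omega
  -- suppose `E` is not contained in `K`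
  by_contra hEK
  obtain ⟨φ, hφ⟩ := exists_index_two_hom (K.subgroupOf H) hKi
  have hK2 : ∀ a b : G, a ∈ H → b ∈ H → (a * b ∈ K ↔ (a ∈ K ↔ b ∈ K)) := fun a b ha hb =>
    mul_mem_iff_of_index_two (H := K.subgroupOf H) hKi (a := ⟨a, ha⟩) (b := ⟨b, hb⟩)
  have hKc : ∀ a ∈ H, ∀ b ∈ H, a * b * a⁻¹ * b⁻¹ ∈ K := by
    intro a ha b hb
    have h1 : φ (⟨a, ha⟩ * ⟨b, hb⟩ * ⟨a, ha⟩⁻¹ * ⟨b, hb⟩⁻¹) = 1 := by
      rw [map_mul, map_mul, map_mul, map_inv, map_inv, mul_right_comm (φ _) (φ _) (φ _)⁻¹,
        mul_inv_cancel, one_mul, mul_inv_cancel]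
    have := (hφ _).mp h1
    rw [mem_subgroupOf] at this
    simpa using this
  have hzK : z ∈ K := by
    obtain ⟨e, he, heK⟩ := SetLike.not_le_iff_exists.mp hEK
    have he1 : e ≠ 1 := fun h => heK (h ▸ K.one_mem)
    by_contra hzK
    by_cases hezz : e = z
    · obtain ⟨y, hy, hy1, hyz⟩ : ∃ y ∈ E, y ≠ 1 ∧ y ≠ z := by
        by_contra hc
        push Not at hc
        have hsub : (E : Set G) ⊆ {1, z} := fun y hy => by
          by_cases h : y = 1
          · exact Or.inl h
          · exact Or.inr (hc y hy h)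
        have h1 := Set.ncard_le_ncard hsub (Set.toFinite _)
        have h3 := Set.ncard_insert_le (1 : G) {z}
        rw [Set.ncard_singleton] at h3
        have h5 : Nat.card E = (E : Set G).ncard := Nat.card_coe_set_eq _
        have : 2 ^ 5 ≤ Nat.card E := hcard ▸ Nat.pow_le_pow_right (by norm_num) (by omega)
        omega
      obtain ⟨a, ha, b, hb, -, -, hab⟩ := hnab y hy hy1 hyz
      exact hzK (by
        have := hKc a (hEH ha) b (hEH hb)
        rwa [hanti a ha b hb hab, show z * (b * a) * a⁻¹ * b⁻¹ = z by group] at this)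
    · obtain ⟨a, ha, b, hb, -, -, hab⟩ := hnab e he he1 hezz
      exact hzK (by
        have := hKc a (hEH ha) b (hEH hb)
        rwa [hanti a ha b hb hab, show z * (b * a) * a⁻¹ * b⁻¹ = z by group] at this)
  -- an involution of `E` outside `K`
  obtain ⟨x, hxE, hxK, hx2⟩ : ∃ x ∈ E, x ∉ K ∧ x * x = 1 := by
    obtain ⟨e, he, heK⟩ := SetLike.not_le_iff_exists.mp hEK
    rcases hsq e he with h | h
    · exact ⟨e, he, heK, h⟩
    · have he1 : e ≠ 1 := fun hh => heK (hh ▸ K.one_mem)
      have hez : e ≠ z := fun hh => heK (hh ▸ hzK)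
      obtain ⟨a, ha, b, hb, hae, hbe, hab⟩ := hnab e he he1 hez
      have hfix : ∀ c ∈ E, c * e = e * c → ∃ c' ∈ E, c' ∈ K ∧ c' * e = e * c' ∧
          (c' = c ∨ c' = c * e) := by
        intro c hc hce
        by_cases hcK : c ∈ K
        · exact ⟨c, hc, hcK, hce, Or.inl rfl⟩
        · refine ⟨c * e, E.mul_mem hc he, (hK2 c e (hEH hc) (hEH he)).mpr ?_, ?_, Or.inr rfl⟩
          · exact iff_of_false hcK heK
          · rw [← mul_assoc, ← hce]
      obtain ⟨a', ha', haK, hae', haa⟩ := hfix a ha hae
      obtain ⟨b', hb', hbK, hbe', hbb⟩ := hfix b hb hbe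
      have hab' : a' * b' ≠ b' * a' := by
        intro hc
        have hcomm : Commute a' b' := hc
        have he' : Commute a' e ∧ Commute b' e := ⟨hae', hbe'⟩
        rcases haa with rfl | rfl <;> rcases hbb with rfl | rfl
        · exact hab hc
        · have := hcomm.mul_right (he'.1.inv_right)
          exact hab (by simpa [mul_assoc] using this.eq)
        · have := hcomm.mul_left (he'.2.symm.inv_left)
          exact hab (by simpa [mul_assoc] using this.eq)
        · have h1 : Commute (a * e) b := by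
            simpa [mul_assoc] using hcomm.mul_right (he'.1.inv_right)
          have h2 : Commute e b := (show Commute b e from hbe).symm
          exact hab (by simpa [mul_assoc] using (h1.mul_left h2.inv_left).eq)
      obtain ⟨f, hf, hfK, hfe, hff⟩ : ∃ f ∈ E, f ∈ K ∧ f * e = e * f ∧ f * f = z := by
        rcases hsq a' ha' with h1 | h1
        · rcases hsq b' hb' with h2 | h2
          · refine ⟨a' * b', E.mul_mem ha' hb', K.mul_mem haK hbK, ?_, ?_⟩
            · exact ((show Commute a' e from hae').mul_left (show Commute b' e from hbe')).eq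
            · rcases hsq _ (E.mul_mem ha' hb') with h3 | h3
              · refine absurd ?_ hab'
                calc a' * b' = (a' * b')⁻¹ := eq_inv_of_mul_eq_one_left h3
                  _ = b' * a' := by
                    rw [mul_inv_rev, inv_eq_of_mul_eq_one_left h1, inv_eq_of_mul_eq_one_left h2]
              · exact h3
          · exact ⟨b', hb', hbK, hbe', h2⟩
        · exact ⟨a', ha', haK, hae', h1⟩
      refine ⟨e * f, E.mul_mem he hf, fun hc => heK ?_, ?_⟩
      · have := (hK2 e f (hEH he) (hEH hf)).mp hc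
        exact this.mpr hfK
      · calc e * f * (e * f) = e * (f * e) * f := by group
          _ = (e * e) * (f * f) := by rw [hfe]; group
          _ = 1 := by rw [h, hff, hz2]
  have hx1 : x ≠ 1 := fun h => hxK (h ▸ K.one_mem)
  have hxz : x ≠ z := fun h => hxK (h ▸ hzK)
  set T := E ⊓ centralizer ({x} : Set G) with hT
  have hTm : ∀ a, a ∈ T ↔ a ∈ E ∧ a * x = x * a := fun a => by
    rw [hT, mem_inf, mem_centralizer_singleton_iff]
  obtain ⟨h, hh, hhx⟩ : ∃ h ∈ E, h * x ≠ x * h := by
    by_contra hc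
    push Not at hc
    rcases hcen x hxE hc with h | h <;> contradiction
  have hxh : x * h = z * (h * x) := hanti x hxE h hh (Ne.symm hhx)
  have hcase : ∀ e ∈ E, e ∈ T ∨ e * h ∈ T := by
    intro e he
    by_cases hc : e * x = x * e
    · exact Or.inl ((hTm e).mpr ⟨he, hc⟩)
    · exact Or.inr ((hTm _).mpr ⟨E.mul_mem he hh, hprod x hxE e he h hh hc hhx⟩)
  have hgen : ∀ w, (∀ t ∈ T, t * w = w * t) → w * h = h * w → ∀ e ∈ E, e * w = w * e := by
    intro w hw hwh e he
    rcases hcase e he with h1 | h1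
    · exact hw e h1
    · calc e * w = (e * h) * (h⁻¹ * w) := by group
        _ = (e * h) * (w * h⁻¹) := by
          congr 1; rw [eq_mul_inv_iff_mul_eq, mul_assoc, hwh, inv_mul_cancel_left]
        _ = w * (e * h) * h⁻¹ := by rw [← mul_assoc, hw _ h1]
        _ = w * e := by group
  -- the centralizer of `T`
  have hxT : x ∈ T := (hTm x).mpr ⟨hxE, rfl⟩
  have hzT : z ∈ T := (hTm z).mpr ⟨hzE, (hzc x hxE).symm⟩
  have hCET : ∀ w ∈ E, (∀ t ∈ T, t * w = w * t) → w = 1 ∨ w = z ∨ w = x ∨ w = x * z := by
    intro w hw hwT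
    by_cases hwh : w * h = h * w
    · rcases hcen w hw (hgen w hwT hwh) with h' | h' <;> simp [h']
    · have h1 : (x * w) * h = h * (x * w) := hprod h hh x hxE w hw (Ne.symm hhx) hwh
      have h2 : ∀ t ∈ T, t * (x * w) = (x * w) * t := fun t ht => by
        rw [← mul_assoc, ((hTm t).mp ht).2, mul_assoc, hwT t ht, mul_assoc]
      rcases hcen (x * w) (E.mul_mem hxE hw) (hgen _ h2 h1) with e | e
      · right; right; left
        rw [eq_inv_of_mul_eq_one_right e, inv_eq_of_mul_eq_one_left hx2]
      · right; right; right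
        rw [← e, ← mul_assoc, hx2, one_mul]
  have hCT : ∀ c : G, (∀ t ∈ T, t * c = c * t) → c = 1 ∨ c = z ∨ c = x ∨ c = x * z := by
    intro c hc
    have hcH : c ∈ H := (hmemH c).mpr (hc z hzT).symm
    have hcinv : ∀ t ∈ T, c * t * c⁻¹ = t := fun t ht => by
      rw [← hc t ht, mul_inv_cancel_right]
    have hw : c * h * c⁻¹ * h⁻¹ ∈ E := E.mul_mem (hEn c hcH h hh) (E.inv_mem hh)
    set w := c * h * c⁻¹ * h⁻¹ with hwdef
    have hwT : ∀ t ∈ T, t * w = w * t := by
      intro t ht
      obtain ⟨htE, -⟩ := (hTm t).mp ht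
      have hzh : c * z * c⁻¹ = z := hcinv z hzT
      by_cases hth : t * h = h * t
      · have hch : Commute t (c * h * c⁻¹) := by
          show t * _ = _ * t
          conv_lhs => rw [← hcinv t ht]
          conv_rhs => rw [← hcinv t ht]
          calc c * t * c⁻¹ * (c * h * c⁻¹) = c * (t * h) * c⁻¹ := by group
            _ = c * (h * t) * c⁻¹ := by rw [hth]
            _ = c * h * c⁻¹ * (c * t * c⁻¹) := by group
        exact (hch.mul_right (show Commute t h from hth).inv_right).eq
      · have h1 : t * (c * h * c⁻¹) = z * ((c * h * c⁻¹) * t) := by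
          conv_lhs => rw [← hcinv t ht]
          conv_rhs => rw [← hcinv t ht, ← hzh]
          calc c * t * c⁻¹ * (c * h * c⁻¹) = c * (t * h) * c⁻¹ := by group
            _ = c * (z * (h * t)) * c⁻¹ := by rw [hanti t htE h hh hth]
            _ = c * z * c⁻¹ * (c * h * c⁻¹ * (c * t * c⁻¹)) := by group
        have h2 : t * h⁻¹ = z * (h⁻¹ * t) := by
          rcases hcz t htE h⁻¹ (E.inv_mem hh) with e | e
          · refine absurd ?_ hth
            have e' : Commute t h⁻¹ := by
              show t * h⁻¹ = h⁻¹ * t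
              rw [← mul_inv_eq_one, mul_inv_rev, inv_inv, ← mul_assoc]
              simpa using e
            simpa using e'.inv_right.eq
          · rw [← e]; group
        calc t * w = (t * (c * h * c⁻¹)) * h⁻¹ := by rw [hwdef]; group
          _ = z * ((c * h * c⁻¹) * (t * h⁻¹)) := by rw [h1]; group
          _ = z * ((c * h * c⁻¹) * (z * (h⁻¹ * t))) := by rw [h2]
          _ = z * ((c * h * c⁻¹ * z) * (h⁻¹ * t)) := by group
          _ = z * ((z * (c * h * c⁻¹)) * (h⁻¹ * t)) := by rw [hzc _ (hEn c hcH h hh)]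
          _ = (z * z) * (w * t) := by rw [hwdef]; group
          _ = w * t := by rw [hz2, one_mul]
    have hwh : c * h * c⁻¹ = w * h := by rw [hwdef]; group
    have hsq' : (w * h) * (w * h) = h * h := by
      rw [← hwh, show c * h * c⁻¹ * (c * h * c⁻¹) = c * (h * h) * c⁻¹ by group]
      rcases hsq h hh with e | e
      · rw [e]; group
      · rw [e]; exact hcinv z hzT
    have hxzh : ∀ u, u = x ∨ u = x * z → u * h * (u * h) = z * (h * h) := by
      rintro u (rfl | rfl)
      · calc u * h * (u * h) = z * ((h * u) * (u * h)) := by rw [hxh]; group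
          _ = z * (h * (u * u) * h) := by group
          _ = z * (h * h) := by rw [hx2, mul_one]
      · calc x * z * h * (x * z * h) = x * (z * h) * (x * (z * h)) := by group
          _ = x * (h * z) * (x * (z * h)) := by rw [hzc h hh]
          _ = x * h * (z * (x * z) * h) := by group
          _ = x * h * (z * (z * x) * h) := by rw [hzc x hxE]
          _ = x * h * ((z * z) * x * h) := by group
          _ = x * h * (x * h) := by rw [hz2, one_mul]
          _ = z * ((h * x) * (x * h)) := by rw [hxh]; group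
          _ = z * (h * (x * x) * h) := by group
          _ = z * (h * h) := by rw [hx2, mul_one]
    have hw01 : w = 1 ∨ w = z := by
      rcases hCET w hw hwT with e | e | e | e
      · exact Or.inl e
      · exact Or.inr e
      all_goals
        exfalso
        have := hxzh w (by simp [e])
        rw [hsq'] at this
        exact hz1 (mul_eq_right.mp this.symm)
    have hCE : ∀ c' : G, (∀ t ∈ T, t * c' = c' * t) → c' * h = h * c' → c' = 1 ∨ c' = z :=
      fun c' h1 h2 => hcen c' (hcent (mem_centralizer_iff.mpr fun e he => hgen c' h1 h2 e he))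
        (hgen c' h1 h2)
    rcases hw01 with e | e
    · rcases hCE c hc (by
        calc c * h = c * h * c⁻¹ * c := by group
          _ = h * c := by rw [hwh, e, one_mul]) with e' | e' <;> simp [e']
    · have h1 : ∀ t ∈ T, t * (c * x) = (c * x) * t := fun t ht => by
        rw [← mul_assoc, hc t ht, mul_assoc, ((hTm t).mp ht).2, mul_assoc]
      have h2 : (c * x) * h = h * (c * x) := by
        calc c * x * h = (c * z * c⁻¹) * ((c * h * c⁻¹) * (c * x)) := by
              rw [mul_assoc c x h, hxh]; group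
          _ = z * ((z * h) * (c * x)) := by rw [hcinv z hzT, hwh, e]
          _ = (z * z) * (h * (c * x)) := by group
          _ = h * (c * x) := by rw [hz2, one_mul]
      rcases hCE _ h1 h2 with e' | e'
      · right; right; left
        rw [eq_inv_of_mul_eq_one_left e', inv_eq_of_mul_eq_one_left hx2]
      · right; right; right
        have h3 : c = z * x := by rw [← e', mul_assoc, hx2, mul_one]
        rw [h3, hzc x hxE]
  -- the transfer
  have hTH : T ≤ H := inf_le_left.trans hEH
  have hT2 : IsPGroup 2 T := hext.1.1.to_le inf_le_left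
  have hne : MonoidHom.transfer φ x ≠ 1 := by
    refine Fusion.transfer_two_ne_one_of_unique_fixed φ hx2 T hT2 (fun t ht => ((hTm t).mp ht).2)
      hxT hTH (fun hc => hxK ?_) fun g hg hgx => ?_
    · have := (hφ _).mp hc
      rwa [mem_subgroupOf] at this
    · have hgT : ∀ t ∈ T, t * (g * z * g⁻¹) = (g * z * g⁻¹) * t := fun t ht => by
        calc t * (g * z * g⁻¹) = g * ((g⁻¹ * t * g) * z) * g⁻¹ := by group
          _ = g * (z * (g⁻¹ * t * g)) * g⁻¹ := by rw [(hmemH _).mp (hg t ht)]
          _ = g * z * g⁻¹ * t := by group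
      have hback : ∀ {u : G}, g * z * g⁻¹ = u → g⁻¹ * u * g = z := by
        intro u hu; rw [← hu]; group
      have hφz : ∀ hzH : z ∈ H, φ ⟨z, hzH⟩ = 1 := fun hzH =>
        (hφ _).mpr (mem_subgroupOf.mpr hzK)
      rcases hCT _ hgT with e | e | e | e
      · exact absurd (by simpa using hback e : (1 : G) = z) (Ne.symm hz1)
      · rw [hmemH]
        calc g * z = g * z * g⁻¹ * g := by group
          _ = z * g := by rw [e]
      · exfalso
        have e1 : (⟨g⁻¹ * x * g, hg x hxT⟩ : H) = ⟨z, hEH hzE⟩ := Subtype.ext (hback e)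
        rw [e1] at hgx
        exact hgx (hφz _)
      · exfalso
        have hgz : φ ⟨g⁻¹ * z * g, hg z hzT⟩ = 1 := by
          obtain ⟨a, ha, b, hb, hax, hbx, hab⟩ := hnab x hxE hx1 hxz
          have haT := hg a ((hTm a).mpr ⟨ha, hax⟩)
          have hbT := hg b ((hTm b).mpr ⟨hb, hbx⟩)
          have e1 : (⟨g⁻¹ * z * g, hg z hzT⟩ : H) =
              ⟨_, haT⟩ * ⟨_, hbT⟩ * (⟨_, haT⟩ : H)⁻¹ * (⟨_, hbT⟩ : H)⁻¹ := by
            refine Subtype.ext ?_
            show g⁻¹ * z * g = g⁻¹ * a * g * (g⁻¹ * b * g) * (g⁻¹ * a * g)⁻¹ * (g⁻¹ * b * g)⁻¹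
            calc g⁻¹ * z * g = g⁻¹ * (z * (b * a) * a⁻¹ * b⁻¹) * g := by group
              _ = g⁻¹ * (a * b * a⁻¹ * b⁻¹) * g := by rw [← hanti a ha b hb hab]
              _ = _ := by group
          rw [e1, map_mul, map_mul, map_mul, map_inv, map_inv,
            mul_right_comm (φ _) (φ _) (φ _)⁻¹, mul_inv_cancel, one_mul, mul_inv_cancel]
        have e2 : (⟨g⁻¹ * x * g, hg x hxT⟩ : H) =
            ⟨z, hEH hzE⟩ * (⟨g⁻¹ * z * g, hg z hzT⟩ : H)⁻¹ := by
          refine Subtype.ext ?_
          show g⁻¹ * x * g = z * (g⁻¹ * z * g)⁻¹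
          conv_rhs => lhs; rw [← hback e]
          group
        rw [e2, map_mul, map_inv, hgz, hφz] at hgx
        exact hgx (by group)
  refine hne ?_
  have : Fact (Nat.Prime 2) := ⟨Nat.prime_two⟩
  have hker : Cfsg.pResidual 2 G ≤ (MonoidHom.transfer φ).ker :=
    Fusion.pResidual_le_ker _ (IsPGroup.of_card (n := 1) (by simp))
  rw [hres] at hker
  exact MonoidHom.mem_ker.mp (hker (mem_top x))

end Cfsg.Agent.S3299
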