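import Cfsg.Statements.S3301
import Cfsg.Agent.Extra2.Key

set_option autoImplicit false
open Cfsg

namespace Cfsg.Agent.S3301

/-- In a commutative group with a two-element of order at least four, some two-element of order
at least four is not an involution times a square. -/
theorem exists_bad {A : Type*} [CommGroup A] [Finite A] {q : A} (hq : ∃ k, orderOf q = 2 ^ k)
    (hq2 : q ^ 2 ≠ 1) :
    ∃ r : A, (∃ k, orderOf r = 2 ^ k) ∧ ¬ ∃ w a : A, w * w = 1 ∧ r = w * a ^ 2 := by
  classical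
  have := Fintype.ofFinite A
  obtain ⟨r, hr, hmax⟩ := Finset.exists_max_image
    (Finset.univ.filter fun a : A => ∃ k, orderOf a = 2 ^ k) orderOf
    ⟨q, Finset.mem_filter.mpr ⟨Finset.mem_univ _, hq⟩⟩
  obtain ⟨-, k, hk⟩ := Finset.mem_filter.mp hr
  have hk2 : 2 ≤ k := by
    obtain ⟨j, hj⟩ := hq
    have h1 := hmax q (Finset.mem_filter.mpr ⟨Finset.mem_univ _, j, hj⟩)
    rw [hj, hk] at h1
    have h2 := Nat.pow_le_pow_iff_right (by norm_num : 1 < 2) |>.mp h1
    by_contra hlt
    exact hq2 (orderOf_dvd_iff_pow_eq_one.mp (hj ▸ pow_dvd_pow 2 (by omega : j ≤ 1)))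
  refine ⟨r, ⟨k, hk⟩, ?_⟩
  rintro ⟨w, a, hw, hra⟩
  obtain ⟨m, rfl⟩ : ∃ m, k = m + 2 := ⟨k - 2, by omega⟩
  have h1 : r ^ 2 ^ (m + 1) = a ^ 2 ^ (m + 2) := by
    rw [hra, mul_pow, ← pow_mul, pow_succ' 2 (m + 1), pow_succ' 2 m, pow_mul w, pow_two w, hw,
      one_pow, one_mul]
  have h2 : r ^ 2 ^ (m + 1) ≠ 1 := fun h => by
    have := orderOf_dvd_of_pow_eq_one h
    rw [hk, Nat.pow_dvd_pow_iff_le_right (by norm_num)] at this
    omega
  have : Fact (Nat.Prime 2) := ⟨Nat.prime_two⟩
  obtain ⟨b, c, hbc, -, -, -, ⟨i, hi⟩, hc⟩ :=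
    Fusion.exists_pPart_mul (p := 2) a (isOfFinOrder_of_finite a)
  obtain ⟨j, -, hj⟩ := (Nat.dvd_prime_pow Nat.prime_two).mp hi
  have hb : b ^ 2 ^ (m + 2) = 1 := by
    have h3 := hmax b (Finset.mem_filter.mpr ⟨Finset.mem_univ _, j, hj⟩)
    rw [hj, hk] at h3
    exact orderOf_dvd_iff_pow_eq_one.mp (hj ▸ pow_dvd_pow 2
      (Nat.pow_le_pow_iff_right (by norm_num : 1 < 2) |>.mp h3))
  rw [hbc, mul_pow, hb, one_mul] at h1
  have h4 : orderOf (r ^ 2 ^ (m + 1)) ∣ 2 ^ (m + 2) :=
    (orderOf_pow_dvd _).trans hk.dvd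
  have h5 : orderOf (r ^ 2 ^ (m + 1)) ∣ orderOf c := h1 ▸ orderOf_pow_dvd _
  have h6 := Nat.dvd_gcd h5 h4
  rw [Nat.Coprime.gcd_eq_one (Nat.Coprime.pow_right _ hc), Nat.dvd_one, orderOf_eq_one_iff] at h6
  exact h2 h6

/-- Let G be a finite group with no nontrivial 2-group quotient (O^2(G) = G), z an involution of G with H = C_G(z), and suppose E = O_2(H) is extraspecial with C_G(E) ≤ E. Then the Sylow 2-subgroups of H/[H, H] are elementary abelian: every element of 2-power order of the abelianization of H has order at most 2. -/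
theorem result {G : Type*} [Group G] [Finite G] (hres : Cfsg.pResidual 2 G = ⊤) (z : G) (hz : orderOf z = 2)
    (E : Subgroup G) (hE : E = (Cfsg.pCore 2 ↥(Subgroup.centralizer ({z} : Set G))).map (Subgroup.centralizer ({z} : Set G)).subtype)
    (hext : Cfsg.IsExtraspecial 2 ↥E) (hcent : Subgroup.centralizer (E : Set G) ≤ E) :
    ∀ q : Abelianization ↥(Subgroup.centralizer ({z} : Set G)), (∃ k : ℕ, orderOf q = 2 ^ k) → q ^ 2 = 1 := by
  classical
  intro q hq
  by_contra hq2
  have d := Extra2.data_of_pCore z hz E hE hext hcent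
  obtain ⟨r, ⟨k, hk⟩, hr⟩ := exists_bad hq hq2
  -- the subgroup of involutions times squares
  let V : Subgroup (Abelianization (Subgroup.centralizer ({z} : Set G))) :=
    { carrier := {x | ∃ w a, w * w = 1 ∧ x = w * a ^ 2}
      one_mem' := ⟨1, 1, by simp, by simp⟩
      mul_mem' := by
        rintro _ _ ⟨w, a, hw, rfl⟩ ⟨w', a', hw', rfl⟩
        exact ⟨w * w', a * a', by rw [mul_mul_mul_comm, hw, hw', one_mul],
          by rw [mul_pow, mul_mul_mul_comm]⟩
      inv_mem' := by
        rintro _ ⟨w, a, hw, rfl⟩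
        exact ⟨w⁻¹, a⁻¹, by rw [← mul_inv, hw, inv_one], by rw [mul_inv, inv_pow]⟩ }
  have hA : ∀ x : Abelianization (Subgroup.centralizer ({z} : Set G)) ⧸ V, x * x = 1 := by
    intro x
    obtain ⟨y, rfl⟩ := QuotientGroup.mk_surjective x
    rw [← QuotientGroup.mk_mul, QuotientGroup.eq_one_iff]
    exact ⟨1, y, one_mul 1, by rw [one_mul, pow_two]⟩
  set lam : Subgroup.centralizer ({z} : Set G) →*
      Abelianization (Subgroup.centralizer ({z} : Set G)) := Abelianization.of with hlam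
  set φ := (QuotientGroup.mk' V).comp lam with hφ
  -- squares killed by `lam` give elements killed by `φ`
  have hkill : ∀ x, lam (x * x) = 1 → φ x = 1 := by
    intro x hx
    rw [hφ, MonoidHom.comp_apply, QuotientGroup.mk'_apply, QuotientGroup.eq_one_iff]
    exact ⟨lam x, 1, by rw [← map_mul, hx], by rw [one_pow, mul_one]⟩
  have hw2 : ∀ g : G, g * z * g⁻¹ * (g * z * g⁻¹) = 1 := fun g => by
    rw [show g * z * g⁻¹ * (g * z * g⁻¹) = g * (z * z) * g⁻¹ by group, d.z2]
    group
  have htwo : ∀ h, (∃ j, orderOf h = 2 ^ j) → φ h = 1 := by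
    intro h hh
    refine d.char_eq_one hres hA φ ?_ ?_ h hh
    · intro g hwz hwH e he hcov x hx hxw hxg
      set w := g * z * g⁻¹ with hwdef
      have hwE : w ∈ E :=
        d.mem_of_index_two (Subgroup.mem_centralizer_singleton_iff.mpr hwH) (hw2 g) he hcov
      apply hkill
      have hconj : ∀ x : G, x * w = w * x →
          g⁻¹ * x * g ∈ Subgroup.centralizer ({z} : Set G) := fun x hx => by
        rw [Subgroup.mem_centralizer_singleton_iff]
        calc g⁻¹ * x * g * z = g⁻¹ * (x * w) * g := by rw [hwdef]; group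
          _ = g⁻¹ * (w * x) * g := by rw [hx]
          _ = z * (g⁻¹ * x * g) := by rw [hwdef]; group
      by_cases hab : ∀ a ∈ E, ∀ b ∈ E, a * w = w * a → b * w = w * b → a * b = b * a
      · have hew : e * w ≠ w * e := by
          intro h
          have hall : ∀ y ∈ E, y * w = w * y := fun y hy => by
            rcases hcov y hy with h' | h'
            · exact h'
            · simpa [mul_assoc] using ((show Commute e w from h).mul_left h').eq
          rcases d.central hwE hall with h' | h'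
          · exact d.z1 (conj_eq_one_iff.mp h')
          · exact hwz h'
        have hxx := d.sq_of_abelian hwE (hw2 g) he hew hcov hab hx hxw
        have : (⟨_, hxg⟩ * ⟨_, hxg⟩ : Subgroup.centralizer ({z} : Set G)) = 1 := Subtype.ext (by
          show g⁻¹ * x * g * (g⁻¹ * x * g) = 1
          rw [show g⁻¹ * x * g * (g⁻¹ * x * g) = g⁻¹ * (x * x) * g by group, hxx]
          group)
        rw [this, map_one]
      · push Not at hab
        obtain ⟨a, ha, b, hb, haw, hbw, hne⟩ := hab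
        have hzz : ∀ hzg : g⁻¹ * z * g ∈ Subgroup.centralizer ({z} : Set G),
            lam ⟨_, hzg⟩ = 1 := by
          intro hzg
          have heq : (⟨_, hzg⟩ : Subgroup.centralizer ({z} : Set G)) =
              ⟨_, hconj a haw⟩ * ⟨_, hconj b hbw⟩ * (⟨_, hconj a haw⟩)⁻¹ *
                (⟨_, hconj b hbw⟩)⁻¹ := by
            refine Subtype.ext ?_
            show g⁻¹ * z * g = g⁻¹ * a * g * (g⁻¹ * b * g) * (g⁻¹ * a * g)⁻¹ * (g⁻¹ * b * g)⁻¹
            calc g⁻¹ * z * g = g⁻¹ * ((z * (b * a)) * (a⁻¹ * b⁻¹)) * g := by group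
              _ = g⁻¹ * ((a * b) * (a⁻¹ * b⁻¹)) * g := by rw [← d.anti ha hb hne]
              _ = _ := by group
          rw [heq, map_mul, map_mul, map_mul, map_inv, map_inv,
            mul_right_comm (lam _) (lam _) (lam _)⁻¹, mul_inv_cancel, one_mul, mul_inv_cancel]
        have heq : ((⟨_, hxg⟩ * ⟨_, hxg⟩ : Subgroup.centralizer ({z} : Set G)) : G) =
            g⁻¹ * (x * x) * g := by
          show g⁻¹ * x * g * (g⁻¹ * x * g) = _
          group
        rcases d.sq hx with h' | h' <;> rw [h'] at heq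
        · have : (⟨_, hxg⟩ * ⟨_, hxg⟩ : Subgroup.centralizer ({z} : Set G)) = 1 :=
            Subtype.ext (heq.trans (by simp))
          rw [this, map_one]
        · have hzg : g⁻¹ * z * g ∈ Subgroup.centralizer ({z} : Set G) := hconj z hwH.symm
          rw [show (⟨_, hxg⟩ * ⟨_, hxg⟩ : Subgroup.centralizer ({z} : Set G)) = ⟨_, hzg⟩ from
            Subtype.ext heq]
          exact hzz hzg
    · intro g _ _ _ _ _ _ _ hzg
      apply hkill
      rw [show (⟨_, hzg⟩ * ⟨_, hzg⟩ : Subgroup.centralizer ({z} : Set G)) = 1 from Subtype.ext (by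
        show g⁻¹ * z * g * (g⁻¹ * z * g) = 1
        rw [show g⁻¹ * z * g * (g⁻¹ * z * g) = g⁻¹ * (z * z) * g by group, d.z2]
        group), map_one]
  obtain ⟨h, hh⟩ : ∃ h, lam h = r := QuotientGroup.mk'_surjective _ r
  have : Fact (Nat.Prime 2) := ⟨Nat.prime_two⟩
  obtain ⟨a, b, hab, -, -, -, ⟨i, hi⟩, hb⟩ :=
    Fusion.exists_pPart_mul (p := 2) h (isOfFinOrder_of_finite h)
  obtain ⟨j, -, hj⟩ := (Nat.dvd_prime_pow Nat.prime_two).mp hi
  have h1 : φ h = 1 := by
    rw [hab, map_mul, htwo a ⟨j, hj⟩, one_mul, ← orderOf_eq_one_iff]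
    have h2 : orderOf (φ b) ∣ 2 :=
      orderOf_dvd_of_pow_eq_one (by rw [pow_two, hA])
    exact Nat.dvd_one.mp (hb ▸ Nat.dvd_gcd (orderOf_map_dvd φ b) h2)
  rw [hφ, MonoidHom.comp_apply, hh, QuotientGroup.mk'_apply, QuotientGroup.eq_one_iff] at h1
  exact hr h1

end Cfsg.Agent.S3301
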