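import Cfsg.Statements.S3309
import Mathlib
import Cfsg.Agent.TwoTransfer.Basic

set_option autoImplicit false
open Cfsg

namespace Cfsg.Agent.S3309

open Subgroup

/-- The model group. -/
abbrev W : Type := Multiplicative (ZMod 2) × DihedralGroup 4

/-- The central involution outside the derived subgroup. -/
def c : W := (Multiplicative.ofAdd 1, 1)

/-- The central involution in the derived subgroup. -/
def z : W := (1, DihedralGroup.r 2)

/-- The three coordinates modulo the derived subgroup. -/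
def cr : W → ZMod 2 × ZMod 2 × ZMod 2
  | (a, .r i) => (a.toAdd, (i.val : ZMod 2), 0)
  | (a, .sr i) => (a.toAdd, (i.val : ZMod 2), 1)

theorem cr_mul : ∀ x y : W, cr (x * y) = cr x + cr y := by decide

/-- The homomorphism with kernel a maximal subgroup. -/
def chi (u v w : ZMod 2) : W →* Multiplicative (ZMod 2) :=
  MonoidHom.mk' (fun x => Multiplicative.ofAdd
    (u * (cr x).1 + v * (cr x).2.1 + w * (cr x).2.2)) fun x y => by
      rw [← ofAdd_add, cr_mul]
      congr 1
      simp only [Prod.fst_add, Prod.snd_add]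
      ring

/-- Noncentral involutions up to conjugacy: `s`, `sr`, `cs`, `csr`. -/
def reps : List W :=
  [(1, .sr 0), (1, .sr 1), (Multiplicative.ofAdd 1, .sr 0), (Multiplicative.ofAdd 1, .sr 1)]

theorem involution_cases : ∀ x : W, x * x = 1 → x ≠ 1 →
    x = c ∨ x = z ∨ x = c * z ∨ ∃ r ∈ reps, ∃ w : W, w * r * w⁻¹ = x := by decide

theorem noncentral_mul_z : ∀ y : W, y * y = 1 → y ≠ 1 → y ≠ c → y ≠ z → y ≠ c * z →
    ∃ w : W, w * y * w⁻¹ = y * z := by decide

theorem center_cases : ∀ x : W, (∀ w : W, w * x = x * w) → x = 1 ∨ x = c ∨ x = z ∨ x = c * z := by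
  decide

theorem sq_cases : ∀ w : W, w * w = 1 ∨ w * w = z := by decide

theorem fixes_z (φ : W ≃* W) : φ z = z := by
  have hzr : z = (1, DihedralGroup.r 1) * (1, DihedralGroup.r 1) := by decide
  have hz1 : z ≠ 1 := by decide
  rcases sq_cases (φ (1, DihedralGroup.r 1)) with h | h
  · rw [← map_mul, ← hzr] at h
    exact absurd ((map_eq_one_iff φ φ.injective).1 h) hz1
  · rw [← map_mul, ← hzr] at h
    exact h

variable {G : Type*} [Group G] [Finite G]

theorem exists_conj_kernel [IsSimpleGroup G] (hG : ¬ IsMulCommutative G) (S : Sylow 2 G) (ι : W →* G)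
    (hι : Function.Injective ι) (hS : ι.range = (S : Subgroup G)) (χ : W →* Multiplicative (ZMod 2))
    (hχ : ∃ a, χ a ≠ 1) (x : W) (hx : χ x ≠ 1) (hx2 : x * x = 1) (hx1 : x ≠ 1) :
    ∃ y : W, χ y = 1 ∧ y * y = 1 ∧ y ≠ 1 ∧ IsConj (ι x) (ι y) := by
  by_contra hne
  simp only [not_exists, not_and] at hne
  have hker : χ.ker.index = 2 := by
    rw [Subgroup.index_ker]
    have : χ.range = ⊤ := by
      obtain ⟨a, ha⟩ := hχ
      rw [eq_top_iff]
      rintro b -
      have key : ∀ u b : Multiplicative (ZMod 2), u ≠ 1 → b = 1 ∨ b = u := by decide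
      rcases key _ b ha with rfl | rfl
      · exact one_mem _
      · exact ⟨a, rfl⟩
    rw [this, Subgroup.card_top]
    simp
  have hM : (χ.ker.map ι).relIndex (S : Subgroup G) = 2 := by
    rw [← hS, MonoidHom.range_eq_map, Subgroup.relIndex_map_map_of_injective _ _ hι,
      Subgroup.relIndex_top_right, hker]
  have hxG : ι x * ι x = 1 := by rw [← map_mul, hx2, map_one]
  obtain ⟨N, hN, hN2, -⟩ := TwoTransfer.exists_index_two S (χ.ker.map ι) hM (ι x)
    (show ι x ∈ (S : Subgroup G) from hS ▸ ⟨x, rfl⟩)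
    (fun k g hk _ => by
      obtain ⟨j, rfl⟩ := Nat.exists_eq_add_of_le hk
      rw [pow_add, pow_one, pow_mul, sq, hxG, one_pow, mul_one, inv_mul_cancel]
      exact one_mem _)
    (fun g _ => by
      rintro ⟨y, hy, hyx⟩
      have hy2 : y * y = 1 := by
        apply hι
        rw [map_mul, hyx, map_one]
        calc g⁻¹ * ι x * g * (g⁻¹ * ι x * g) = g⁻¹ * (ι x * ι x) * g := by group
          _ = 1 := by rw [hxG, mul_one, inv_mul_cancel]
      have hy1 : y ≠ 1 := by
        rintro rfl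
        rw [map_one] at hyx
        apply hx1
        apply hι
        rw [map_one, show ι x = g * (g⁻¹ * ι x * g) * g⁻¹ by group, ← hyx, mul_one, mul_inv_cancel]
      exact hne y hy hy2 hy1 (isConj_iff.2 ⟨g⁻¹, by rw [inv_inv, hyx]⟩))
  rcases hN.eq_bot_or_eq_top with rfl | rfl
  · rw [Subgroup.index_bot] at hN2
    have hcy : IsCyclic G := isCyclic_of_prime_card hN2
    exact hG (IsCyclic.isMulCommutative)
  · rw [Subgroup.index_top] at hN2
    omega

theorem central_not_conj (S : Sylow 2 G) (ι : W →* G) (hι : Function.Injective ι)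
    (hS : ι.range = (S : Subgroup G)) (a b : W) (ha : ∀ w : W, w * a = a * w)
    (hb : ∀ w : W, w * b = b * w) (h : IsConj (ι a) (ι b)) (ha0 : a = c ∨ a = z ∨ a = c * z) :
    a = b := by
  have hcen : ∀ x : W, (∀ w : W, w * x = x * w) → ι x ∈ centralizer ((S : Subgroup G) : Set G) := by
    intro x hx
    rw [mem_centralizer_iff]
    intro s hs
    obtain ⟨w, rfl⟩ := hS.ge hs
    rw [← map_mul, hx, map_mul]
  obtain ⟨g, hg⟩ := isConj_iff.1 h
  obtain ⟨n, hn, hne⟩ := S.conj_eq_normalizer_conj_of_mem_centralizer (ι a) g⁻¹ (hcen a ha)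
    (by rw [inv_inv, hg]; exact hcen b hb)
  rw [inv_inv, hg] at hne
  let e : W ≃* (S : Subgroup G) :=
    (MonoidHom.ofInjective hι).trans (MulEquiv.subgroupCongr hS)
  let φ : W ≃* W :=
    (e.trans ((S : Subgroup G).normalizerMonoidHom ⟨n⁻¹, inv_mem hn⟩)).trans e.symm
  have hφ : ∀ x : W, ι (φ x) = n⁻¹ * ι x * n := by
    intro x
    have h1 : (e (φ x) : G) = n⁻¹ * (e x : G) * (n⁻¹)⁻¹ := by
      simp only [φ, MulEquiv.trans_apply, MulEquiv.apply_symm_apply]
      rfl
    rw [inv_inv] at h1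
    exact h1
  have hab : φ a = b := hι (by rw [hφ, hne])
  rw [← hab]
  have hz := fixes_z φ
  -- `φ` fixes `c`, as it would otherwise swap `c` and `c * z` under an odd power of `n`
  have hc : φ c = c := by
    have hcc : ∀ w : W, w * c = c * w := by decide
    rcases center_cases (φ c) (fun w => by
        rw [← φ.apply_symm_apply w, ← map_mul, hcc, map_mul]) with h1 | h1 | h1 | h1
    · exact absurd ((map_eq_one_iff φ φ.injective).1 h1) (by decide)
    · exact h1
    · exact absurd (φ.injective (h1.trans hz.symm)) (by decide)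
    · exfalso
      have hcz : φ (c * z) = c := by
        rw [map_mul, h1, hz]; decide
      have hpow : ∀ i : ℕ, (n ^ (2 * i + 1))⁻¹ * ι c * n ^ (2 * i + 1) = ι (c * z) := by
        intro i
        induction i with
        | zero => rw [pow_one, ← hφ, h1]
        | succ i ih =>
          rw [show 2 * (i + 1) + 1 = 2 * i + 1 + 1 + 1 by ring, pow_succ, pow_succ, mul_inv_rev,
            mul_inv_rev,
            show n⁻¹ * (n⁻¹ * (n ^ (2 * i + 1))⁻¹) * ι c * (n ^ (2 * i + 1) * n * n) =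
              n⁻¹ * (n⁻¹ * ((n ^ (2 * i + 1))⁻¹ * ι c * n ^ (2 * i + 1)) * n) * n by group,
            ih, ← hφ, hcz, ← hφ, h1]
      set t := (orderOf n).factorization 2
      have hpg : IsPGroup 2 (zpowers (n ^ (orderOf n / 2 ^ t))) := by
        refine IsPGroup.of_card (n := t) ?_
        rw [Nat.card_zpowers, orderOf_pow_of_dvd (Nat.div_ne_zero_iff_of_dvd (Nat.ordProj_dvd _ _) |>.2
          ⟨(orderOf_pos n).ne', pow_ne_zero _ two_ne_zero⟩)
          (Nat.div_dvd_of_dvd (Nat.ordProj_dvd _ _)),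
          Nat.div_div_self (Nat.ordProj_dvd _ _) (orderOf_pos n).ne']
      have hmem : n ^ (orderOf n / 2 ^ t) ∈ (S : Subgroup G) := by
        have hsup := hpg.to_sup_of_normal_right' S.2 (zpowers_le.2 (pow_mem hn _))
        exact (S.3 hsup le_sup_right) ▸ Subgroup.mem_sup_left (mem_zpowers _)
      obtain ⟨i, hi⟩ : Odd (orderOf n / 2 ^ t) :=
        Nat.coprime_two_left.1 (Nat.coprime_ordCompl Nat.prime_two (orderOf_pos n).ne')
      have h2 := hpow i
      rw [← hi, mul_assoc, ← mem_centralizer_iff.1 (hcen c hcc) _ hmem, inv_mul_cancel_left] at h2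
      exact absurd (hι h2) (by decide)
  rcases ha0 with rfl | rfl | rfl
  · exact hc.symm
  · exact hz.symm
  · rw [map_mul, hc, hz]

theorem no_z (A B Z : W → Prop) (r₁ r₂ r₃ r₄ : W)
    (hAB : ∀ r, A r → ¬ B r) (hAZ : ∀ r, A r → ¬ Z r) (hBZ : ∀ r, B r → ¬ Z r)
    (a1 : A r₁ ∨ A r₂) (a2 : A r₁ ∨ A r₄) (a3 : A r₃ ∨ A r₄) (a4 : A r₃ ∨ A r₂)
    (b1 : B r₁ ∨ B r₂) (b2 : B r₁ ∨ B r₄) (b3 : B r₃ ∨ B r₄) (b4 : B r₃ ∨ B r₂) :
    ∀ r ∈ [r₁, r₂, r₃, r₄], ¬ Z r := by
  have key : ∀ P : W → Prop, (P r₁ ∨ P r₂) → (P r₁ ∨ P r₄) → (P r₃ ∨ P r₄) → (P r₃ ∨ P r₂) →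
      (P r₁ ∧ P r₃) ∨ (P r₂ ∧ P r₄) := by
    intro P h1 h2 h3 h4
    rcases h1 with h1 | h1
    · rcases h3 with h3 | h3
      · exact Or.inl ⟨h1, h3⟩
      · rcases h4 with h4 | h4
        exacts [Or.inl ⟨h1, h4⟩, Or.inr ⟨h4, h3⟩]
    · rcases h3 with h3 | h3
      · rcases h2 with h2 | h2
        exacts [Or.inl ⟨h2, h3⟩, Or.inr ⟨h1, h2⟩]
      · exact Or.inr ⟨h1, h3⟩
  rcases key A a1 a2 a3 a4 with ⟨h1, h3⟩ | ⟨h2, h4⟩ <;>
    rcases key B b1 b2 b3 b4 with ⟨k1, k3⟩ | ⟨k2, k4⟩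
  · exact absurd k1 (hAB _ h1)
  · simp only [List.mem_cons, List.not_mem_nil, or_false, forall_eq_or_imp, forall_eq]
    exact ⟨hAZ _ h1, hBZ _ k2, hAZ _ h3, hBZ _ k4⟩
  · simp only [List.mem_cons, List.not_mem_nil, or_false, forall_eq_or_imp, forall_eq]
    exact ⟨hBZ _ k1, hAZ _ h2, hBZ _ k3, hAZ _ h4⟩
  · exact absurd k2 (hAB _ h2)

theorem main [IsSimpleGroup G] (hG : ¬ IsMulCommutative G) (S : Sylow 2 G) (ι : W →* G)
    (hι : Function.Injective ι) (hS : ι.range = (S : Subgroup G)) : False := by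
  have hcC : ∀ w : W, w * c = c * w := by decide
  have hzC : ∀ w : W, w * z = z * w := by decide
  have hczC : ∀ w : W, w * (c * z) = c * z * w := by decide
  have hne1 : ¬ IsConj (ι c) (ι z) := fun h =>
    absurd (central_not_conj S ι hι hS c z hcC hzC h (Or.inl rfl)) (by decide)
  have hne2 : ¬ IsConj (ι c) (ι (c * z)) := fun h =>
    absurd (central_not_conj S ι hι hS c (c * z) hcC hczC h (Or.inl rfl)) (by decide)
  have hne3 : ¬ IsConj (ι (c * z)) (ι z) := fun h =>
    absurd (central_not_conj S ι hι hS (c * z) z hczC hzC h (Or.inr (Or.inr rfl))) (by decide)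
  have hW : ∀ x w : W, IsConj (ι x) (ι (w * x * w⁻¹)) := fun x w =>
    isConj_iff.2 ⟨ι w, by rw [map_mul, map_mul, map_inv]⟩
  -- fusion of `c` and `c * z` into each of the four dihedral maximal subgroups
  have hfus : ∀ (v w : ZMod 2) (a : W), (a = c ∨ a = c * z) →
      ∃ r ∈ reps, chi 1 v w r = 1 ∧ IsConj (ι a) (ι r) := by
    intro v w a ha
    have hχa : chi 1 v w a ≠ 1 := by
      rcases ha with rfl | rfl <;> revert v w <;> decide
    obtain ⟨y, hy, hy2, hy1, hconj⟩ := exists_conj_kernel hG S ι hι hS (chi 1 v w) ⟨a, hχa⟩ a hχa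
      (by rcases ha with rfl | rfl <;> decide) (by rcases ha with rfl | rfl <;> decide)
    have hyc : y ≠ c ∧ y ≠ c * z := by
      constructor <;> rintro rfl <;> revert hy <;> clear * - v w <;> revert v w <;> decide
    rcases involution_cases y hy2 hy1 with rfl | rfl | rfl | ⟨r, hr, u, rfl⟩
    · exact absurd rfl hyc.1
    · rcases ha with rfl | rfl
      · exact absurd hconj hne1
      · exact absurd hconj hne3
    · exact absurd rfl hyc.2
    · refine ⟨r, hr, ?_, hconj.trans (hW r u).symm⟩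
      simpa using hy
  set A : W → Prop := fun r => IsConj (ι c) (ι r)
  set B : W → Prop := fun r => IsConj (ι (c * z)) (ι r)
  set Z : W → Prop := fun r => IsConj (ι z) (ι r)
  have hpair : ∀ (a : W), (a = c ∨ a = c * z) → ∀ (v w : ZMod 2) (p q : W),
      (∀ r ∈ reps, chi 1 v w r = 1 → r = p ∨ r = q) → IsConj (ι a) (ι p) ∨ IsConj (ι a) (ι q) := by
    intro a ha v w p q hpq
    obtain ⟨r, hr, hχ, hconj⟩ := hfus v w a ha
    rcases hpq r hr hχ with rfl | rfl
    exacts [Or.inl hconj, Or.inr hconj]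
  have hnz : ∀ r ∈ reps, ¬ Z r :=
    no_z A B Z _ _ _ _ (fun r h1 h2 => hne2 (h1.trans h2.symm)) (fun r h1 h2 => hne1 (h1.trans h2.symm))
      (fun r h1 h2 => hne3 (h1.trans h2.symm))
      (hpair c (Or.inl rfl) 0 0 _ _ (by decide)) (hpair c (Or.inl rfl) 1 0 _ _ (by decide))
      (hpair c (Or.inl rfl) 0 1 _ _ (by decide)) (hpair c (Or.inl rfl) 1 1 _ _ (by decide))
      (hpair _ (Or.inr rfl) 0 0 _ _ (by decide)) (hpair _ (Or.inr rfl) 1 0 _ _ (by decide))
      (hpair _ (Or.inr rfl) 0 1 _ _ (by decide)) (hpair _ (Or.inr rfl) 1 1 _ _ (by decide))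
  -- `z` is isolated
  have hiso : ∀ u : W, IsConj (ι z) (ι u) → u = z := by
    intro u hu
    have hu2 : u * u = 1 := by
      obtain ⟨g, hg⟩ := isConj_iff.1 hu
      apply hι
      rw [map_mul, ← hg, map_one]
      have : ι z * ι z = 1 := by rw [← map_mul, show z * z = 1 by decide, map_one]
      calc g * ι z * g⁻¹ * (g * ι z * g⁻¹) = g * (ι z * ι z) * g⁻¹ := by group
        _ = 1 := by rw [this, mul_one, mul_inv_cancel]
    have hu1 : u ≠ 1 := by
      rintro rfl
      rw [map_one] at hu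
      have := isConj_one_left.1 hu
      exact absurd ((map_eq_one_iff ι hι).1 this) (by decide)
    rcases involution_cases u hu2 hu1 with rfl | rfl | rfl | ⟨r, hr, w, rfl⟩
    · exact absurd hu.symm hne1
    · rfl
    · exact absurd hu.symm hne3
    · exact absurd (hu.trans (hW r w).symm) (hnz r hr)
  obtain ⟨x, hx, -, hconj⟩ := hfus 0 0 c (Or.inl rfl)
  -- move `x` to `c` with its centralizer in `S` going into `S`
  obtain ⟨g₀, hg₀⟩ := isConj_iff.1 hconj.symm
  set E := ((centralizer ({x} : Set W)).map ι).map (MulAut.conj g₀).toMonoidHom with hE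
  set C := centralizer ({ι c} : Set G) with hC
  have hSC : (S : Subgroup G) ≤ C := by
    intro s hs
    obtain ⟨w, rfl⟩ := hS.ge hs
    rw [hC, mem_centralizer_singleton_iff, ← map_mul, hcC, map_mul]
  have hEC : E ≤ C := by
    rintro _ ⟨_, ⟨w, hw, rfl⟩, rfl⟩
    rw [hC, mem_centralizer_singleton_iff]
    change g₀ * ι w * g₀⁻¹ * ι c = ι c * (g₀ * ι w * g₀⁻¹)
    rw [← hg₀]
    have : ι w * ι x = ι x * ι w := by
      rw [← map_mul, mem_centralizer_singleton_iff.1 hw, map_mul]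
    calc g₀ * ι w * g₀⁻¹ * (g₀ * ι x * g₀⁻¹) = g₀ * (ι w * ι x) * g₀⁻¹ := by group
      _ = g₀ * ι x * g₀⁻¹ * (g₀ * ι w * g₀⁻¹) := by rw [this]; group
  have hEp : IsPGroup 2 E := by
    refine IsPGroup.map (S.2.to_le ?_) _
    rintro _ ⟨w, -, rfl⟩
    exact hS.le ⟨w, rfl⟩
  obtain ⟨R, hR⟩ := (hEp.comap_subtype (K := C)).exists_le_sylow
  obtain ⟨k, hk⟩ := MulAction.exists_smul_eq C R (S.subtype hSC)
  set g := (k : G) * g₀ with hg
  have hgx : g * ι x * g⁻¹ = ι c := by
    rw [hg, show (k : G) * g₀ * ι x * ((k : G) * g₀)⁻¹ = (k : G) * (g₀ * ι x * g₀⁻¹) * (k : G)⁻¹ by group,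
      hg₀, ← (mem_centralizer_singleton_iff.1 k.2).symm, mul_inv_cancel_right]
  have hinto : ∀ w : W, w * x = x * w → ∃ f : W, ι f = g * ι w * g⁻¹ := by
    intro w hw
    have h1 : g₀ * ι w * g₀⁻¹ ∈ E :=
      ⟨ι w, ⟨w, mem_centralizer_singleton_iff.2 hw, rfl⟩, rfl⟩
    have h2 : k * ⟨_, hEC h1⟩ * k⁻¹ ∈ (S.subtype hSC : Subgroup C) := by
      rw [← hk, Sylow.coe_subgroup_smul, Subgroup.mem_pointwise_smul_iff_inv_smul_mem]
      have := hR (show (⟨_, hEC h1⟩ : C) ∈ E.subgroupOf C from h1)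
      simpa [MulAut.smul_def, mul_assoc] using this
    rw [Sylow.coe_subtype, Subgroup.mem_subgroupOf] at h2
    obtain ⟨f, hf⟩ := hS.ge h2
    exact ⟨f, hf.trans (by rw [hg]; simp [mul_assoc])⟩
  obtain ⟨y, hy⟩ := hinto c (hcC x).symm
  obtain ⟨zz, hzz⟩ := hinto z (hzC x).symm
  have hzz' : zz = z := hiso zz (isConj_iff.2 ⟨g, hzz.symm⟩)
  subst hzz'
  have hyconj : IsConj (ι c) (ι y) := isConj_iff.2 ⟨g, hy.symm⟩
  have hy1 : y ≠ c := by
    rintro rfl
    have h1 : g * ι c * g⁻¹ = g * ι x * g⁻¹ := hy.symm.trans hgx.symm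
    have : c = x := hι (mul_left_cancel (mul_right_cancel h1))
    subst this
    revert hx; decide
  have hy2 : y * y = 1 := by
    apply hι
    rw [map_mul, hy, map_one]
    have : ι c * ι c = 1 := by rw [← map_mul, show c * c = 1 by decide, map_one]
    calc g * ι c * g⁻¹ * (g * ι c * g⁻¹) = g * (ι c * ι c) * g⁻¹ := by group
      _ = 1 := by rw [this, mul_one, mul_inv_cancel]
  have hy3 : y ≠ 1 := by
    rintro rfl
    rw [map_one] at hy
    exact absurd ((map_eq_one_iff ι hι).1 (conj_eq_one_iff.1 hy.symm)) (by decide)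
  obtain ⟨w, hw⟩ := noncentral_mul_z y hy2 hy3 hy1
    (fun h => hne1 (h ▸ hyconj)) (fun h => hne2 (h ▸ hyconj))
  apply hne2
  refine hyconj.trans ((hW y w).trans ?_)
  rw [hw, map_mul, hy, hzz]
  refine (isConj_iff.2 ⟨g, ?_⟩ : IsConj (ι (c * z)) _).symm
  rw [map_mul]
  group


/-- A finite group whose Sylow 2-subgroups are isomorphic to the direct product of a group of order 2 and the dihedral group of order 8 is not a non-abelian simple group. -/
theorem result {G : Type*} [Group G] [Finite G] (S : Sylow 2 G) (hS : Nonempty (↥(S : Subgroup G) ≃* Multiplicative (ZMod 2) × DihedralGroup 4))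
    [IsSimpleGroup G] (hG : ¬ IsMulCommutative G) : False := by
  obtain ⟨e⟩ := hS
  refine main hG S ((S : Subgroup G).subtype.comp e.symm.toMonoidHom)
    ((Subgroup.subtype_injective _).comp e.symm.injective) ?_
  rw [MonoidHom.range_comp, MonoidHom.range_eq_top.2 e.symm.surjective, ← MonoidHom.range_eq_map,
    Subgroup.range_subtype]

end Cfsg.Agent.S3309
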