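import Cfsg.Statements.S3313
import Cfsg.Agent.S0213
import Cfsg.Agent.Invol.Count
import Cfsg.Agent.Layer.FStar
import Cfsg.Agent.Core.Frattini
import Cfsg.Agent.LocalStructure.FStarActionTop
-- import your own Cfsg.Agent.* helpers here

set_option autoImplicit false
open Cfsg
open scoped commutatorElement

namespace Cfsg.Agent.S3313

/-- In `A₅` every involution commutes with exactly three involutions. -/
theorem a5_commuting : ∀ b : alternatingGroup (Fin 5), b ≠ 1 → b * b = 1 →
    (Finset.univ.filter fun u : alternatingGroup (Fin 5) => u ≠ 1 ∧ u * u = 1 ∧ u * b = b * u).card = 3 := by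
  decide +kernel

theorem a5_invol : (Finset.univ.filter fun u : alternatingGroup (Fin 5) => u ≠ 1 ∧ u * u = 1).card = 15 := by
  decide +kernel

theorem a5_pairs : ∀ b : alternatingGroup (Fin 5), b ≠ 1 → b * b = 1 →
    (Finset.univ.filter fun u : alternatingGroup (Fin 5) => u * u = 1 ∧ (b * u) ^ 15 = 1).card = 13 := by
  decide +kernel

/-- Facts about an extraspecial group `Q` of order 32 with centre `⟨z⟩` and without fixed points
of an element of order five outside the centre. -/
theorem q_facts {Q : Type*} [Group Q] [Finite Q] (z : Q) (hz : z ≠ 1) (hcard : Nat.card Q = 32)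
    (hcen : ∀ x : Q, (∀ y : Q, Commute x y) → x = 1 ∨ x = z) (hzc : ∀ y : Q, Commute z y)
    (hsq : ∀ x : Q, x * x = 1 ∨ x * x = z) (hcomm : ∀ x y : Q, x * y = y * x ∨ x * y = y * x * z)
    (α : MulAut Q) (hα5 : orderOf α ∣ 5) (hαfix : ∀ x : Q, α x = x → x = 1 ∨ x = z) (hαz : α z = z)
    (hone : ∃ u : Q, u * u = 1 ∧ u ≠ 1 ∧ u ≠ z) :
    Nat.card {u : Q // u * u = 1 ∧ u ≠ 1 ∧ u ≠ z} = 10 ∧
      ∀ u w : Q, u * u = 1 → u ≠ 1 → u ≠ z → w * w = 1 → w ≠ 1 → w ≠ z → Commute u w →
        w = u ∨ w = u * z := by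
  classical
  cases nonempty_fintype Q
  have hzz : z * z = 1 := by
    rcases hsq z with h | h
    · exact h
    · exact absurd (mul_eq_left.mp h) hz
  -- commutator as a homomorphism
  have hcl : ∀ u x y : Q, (x * u = u * x * z) → (y * u = u * y * z) → (x * y) * u = u * (x * y) := by
    intro u x y hx hy
    calc x * y * u = x * (y * u) := mul_assoc _ _ _
      _ = x * u * (y * z) := by rw [hy]; group
      _ = u * x * z * (y * z) := by rw [hx]
      _ = u * (x * y) * (z * z) := by
        rw [show u * x * z * (y * z) = u * x * (z * y) * z by group, (hzc y).eq]; group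
      _ = u * (x * y) := by rw [hzz, mul_one]
  have hnc : ∀ u : Q, u ≠ 1 → u ≠ z → ∃ x : Q, x * u = u * x * z := by
    intro u hu hu'
    by_contra hno
    push Not at hno
    rcases hcen u (fun y => ((hcomm y u).resolve_right (hno y)).symm) with h | h
    · exact hu h
    · exact hu' h
  have hxz : ∀ x u : Q, x * u = u * x * z → ¬ Commute x u := fun x u h hc => hz (mul_eq_left.mp (h.symm.trans hc))
  have hcent16 : ∀ u : Q, u ≠ 1 → u ≠ z → Nat.card ↥(Subgroup.centralizer ({u} : Set Q)) = 16 := by
    intro u hu hu'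
    obtain ⟨x₀, hx₀⟩ := hnc u hu hu'
    have hidx : (Subgroup.centralizer ({u} : Set Q)).index = 2 := by
      rw [Subgroup.index_eq_two_iff]
      refine ⟨x₀, fun b => ?_⟩
      simp only [Subgroup.mem_centralizer_singleton_iff]
      rcases hcomm b u with hb | hb
      · refine Or.inr ⟨hb, fun h => hxz x₀ u hx₀ ?_⟩
        have h' : b * (x₀ * u) = b * (u * x₀) := by
          rw [← mul_assoc, h, ← mul_assoc, ← hb, mul_assoc]
        exact mul_left_cancel h'
      · exact Or.inl ⟨hcl u b x₀ hb hx₀, hxz b u hb⟩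
    have := (Subgroup.centralizer ({u} : Set Q)).card_mul_index
    rw [hidx, hcard] at this
    omega
  have hneg : ∀ x e : Q, e * e = 1 → x * e = e * x * z → (x * e) * (x * e) = x * x * z := by
    intro x e he hxe
    have hex : e * x = x * e * z := by rw [hxe, mul_assoc, hzz, mul_one]
    calc x * e * (x * e) = x * (e * x) * e := by group
      _ = x * x * e * (z * e) := by rw [hex]; group
      _ = x * x * (e * e) * z := by rw [(hzc e).eq]; group
      _ = x * x * z := by rw [he, mul_one]
  have hpos : ∀ x e : Q, e * e = 1 → x * e = e * x → (x * e) * (x * e) = x * x := by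
    intro x e he hxe
    calc x * e * (x * e) = x * (e * x) * e := by group
      _ = x * x * (e * e) := by rw [← hxe]; group
      _ = x * x := by rw [he, mul_one]
  -- elements of square one
  set n := Nat.card {q : Q // q * q = 1} with hn
  have hsplit : n = 2 + Nat.card {u : Q // u * u = 1 ∧ u ≠ 1 ∧ u ≠ z} := by
    rw [hn, Nat.card_eq_fintype_card, Nat.card_eq_fintype_card, Fintype.card_subtype, Fintype.card_subtype]
    have h2 : ({1, z} : Finset Q) ⊆ Finset.univ.filter (fun q : Q => q * q = 1) := by
      intro q hq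
      simp only [Finset.mem_insert, Finset.mem_singleton] at hq
      rcases hq with rfl | rfl <;> simp [hzz]
    rw [← Finset.card_sdiff_add_card_eq_card h2, Finset.card_pair (Ne.symm hz), add_comm]
    congr 2
    ext q
    simp
  set m := Nat.card {u : Q // u * u = 1 ∧ u ≠ 1 ∧ u ≠ z} with hm
  have hmpos : 0 < m := by
    obtain ⟨u, hu⟩ := hone
    haveI : Nonempty {u : Q // u * u = 1 ∧ u ≠ 1 ∧ u ≠ z} := ⟨⟨u, hu⟩⟩
    exact Nat.card_pos
  -- divisibility by five
  have h5 : 5 ∣ m := by
    haveI : Fact (Nat.Prime 5) := ⟨by norm_num⟩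
    have hαu : ∀ u : {u : Q // u * u = 1 ∧ u ≠ 1 ∧ u ≠ z}, α u.1 * α u.1 = 1 ∧ α u.1 ≠ 1 ∧ α u.1 ≠ z :=
      fun u => ⟨by rw [← map_mul, u.2.1, map_one], fun h => u.2.2.1 (α.injective (by rw [h, map_one])),
        fun h => u.2.2.2 (α.injective (by rw [h, hαz]))⟩
    let σ : Equiv.Perm {u : Q // u * u = 1 ∧ u ≠ 1 ∧ u ≠ z} :=
      α.toEquiv.subtypeEquiv (fun u => by
        constructor
        · intro h; exact hαu ⟨u, h⟩
        · intro h
          change α u * α u = 1 ∧ α u ≠ 1 ∧ α u ≠ z at h
          refine ⟨α.injective (by rw [map_mul, h.1, map_one]), fun e => h.2.1 (by rw [e, map_one]),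
            fun e => h.2.2 (by rw [e, hαz])⟩)
    have hα : α ^ 5 = 1 := orderOf_dvd_iff_pow_eq_one.mp hα5
    have hσ : σ ^ 5 = 1 := by
      ext u
      have hk : ∀ k : ℕ, ((σ ^ k) u).1 = (α ^ k) u.1 := by
        intro k
        induction k with
        | zero => rfl
        | succ k ih => rw [pow_succ', pow_succ', Equiv.Perm.mul_apply, MulAut.mul_apply, ← ih]; rfl
      rw [hk, hα]; rfl
    by_contra hnd
    rw [Nat.card_eq_fintype_card] at hm
    obtain ⟨u, hu⟩ := Equiv.Perm.exists_fixed_point_of_prime (n := 1) (by rwa [← hm]) (σ := σ) (by simpa using hσ)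
    have hu' : α u.1 = u.1 := congrArg Subtype.val hu
    rcases hαfix u.1 hu' with h | h
    · exact u.2.2.1 h
    · exact u.2.2.2 h
  -- no elementary abelian subgroup of order eight
  have hne8 : ∀ u w : Q, u * u = 1 → u ≠ 1 → u ≠ z → w * w = 1 → w ≠ 1 → w ≠ z → Commute u w →
      w = u ∨ w = u * z := by
    intro u w hu hu1 huz hw hw1 hwz huw
    by_contra hne
    push Not at hne
    have huw1 : u * w ≠ 1 := fun h => hne.1 (by
      calc w = u * (u * w) := by rw [← mul_assoc, hu, one_mul]
        _ = u := by rw [h, mul_one])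
    have huwz : u * w ≠ z := fun h => hne.2 (by
      calc w = u * (u * w) := by rw [← mul_assoc, hu, one_mul]
        _ = u * z := by rw [h])
    let E : Finset Q := {1, z, u, u * z, w, w * z, u * w, u * w * z}
    have hzne : ∀ q : Q, q * z ≠ q := fun q h => hz (mul_eq_left.mp h)
    have hcancel : ∀ q r : Q, q * z = r * z ↔ q = r := fun q r => mul_left_inj z
    have hzr : ∀ q r : Q, q = r * z ↔ q * z = r := fun q r => by
      constructor
      · rintro rfl; rw [mul_assoc, hzz, mul_one]
      · rintro rfl; rw [mul_assoc, hzz, mul_one]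
    have huwne : u * w ≠ u ∧ u * w ≠ w ∧ u * w ≠ u * z ∧ u * w ≠ w * z := by
      refine ⟨fun h => hw1 (mul_eq_left.mp h), fun h => hu1 (mul_eq_right.mp h),
        fun h => hwz (mul_left_cancel h), fun h => huz ?_⟩
      rw [huw.eq] at h
      exact mul_left_cancel h
    have hzu : u * z ≠ 1 := fun h => huz (by rw [← one_mul z]; exact ((hzr u 1).mpr h))
    have hzw : w * z ≠ 1 := fun h => hwz (by rw [← one_mul z]; exact ((hzr w 1).mpr h))
    have hzuw : u * w * z ≠ 1 := fun h => huwz (by rw [← one_mul z]; exact ((hzr _ 1).mpr h))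
    have hcardE : E.card = 8 := by
      have e1 : u * z ≠ z := fun h => hu1 (mul_eq_right.mp h)
      have e2 : w * z ≠ z := fun h => hw1 (mul_eq_right.mp h)
      have e3 : u * w * z ≠ z := fun h => huw1 (mul_eq_right.mp h)
      have e4 : u ≠ w * z := fun h => hne.2 ((hzr u w).mp h).symm
      have e5 : u * z ≠ w * z := fun h => hne.1 ((hcancel u w).mp h).symm
      have e6 : u ≠ u * w * z := fun h => huwne.2.2.1 ((hzr u (u * w)).mp h).symm
      have e7 : u * z ≠ u * w * z := fun h => huwne.1 ((hcancel _ _).mp h).symm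
      have e8 : w ≠ u * w * z := fun h => huwne.2.2.2 ((hzr w (u * w)).mp h).symm
      have e9 : w * z ≠ u * w * z := fun h => huwne.2.1 ((hcancel _ _).mp h).symm
      simp only [E]
      rw [Finset.card_insert_of_notMem, Finset.card_insert_of_notMem, Finset.card_insert_of_notMem,
        Finset.card_insert_of_notMem, Finset.card_insert_of_notMem, Finset.card_insert_of_notMem,
        Finset.card_insert_of_notMem, Finset.card_singleton]
      all_goals simp only [Finset.mem_insert, Finset.mem_singleton, not_or]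
      all_goals grind
    have hEc : ∀ e ∈ E, e * e = 1 ∧ Commute u e ∧ Commute w e := by
      intro e he
      have s1 : ∀ q : Q, q * q = 1 → q * z * (q * z) = 1 := fun q hq => by
        rw [show q * z * (q * z) = q * (z * q) * z by group, (hzc q).eq,
          show q * (q * z) * z = (q * q) * (z * z) by group, hq, hzz, one_mul]
      have cz : ∀ q r : Q, Commute q r → Commute q (r * z) := fun q r h => h.mul_right (hzc q).symm
      have huw2 : u * w * (u * w) = 1 := by
        rw [show u * w * (u * w) = u * (w * u) * w by group, ← huw.eq,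
          show u * (u * w) * w = (u * u) * (w * w) by group, hu, hw, one_mul]
      simp only [E, Finset.mem_insert, Finset.mem_singleton] at he
      rcases he with rfl | rfl | rfl | rfl | rfl | rfl | rfl | rfl
      · exact ⟨one_mul 1, Commute.one_right _, Commute.one_right _⟩
      · exact ⟨hzz, (hzc u).symm, (hzc w).symm⟩
      · exact ⟨hu, Commute.refl _, huw.symm⟩
      · exact ⟨s1 _ hu, cz _ _ (Commute.refl _), cz _ _ huw.symm⟩
      · exact ⟨hw, huw, Commute.refl _⟩
      · exact ⟨s1 _ hw, cz _ _ huw, cz _ _ (Commute.refl _)⟩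
      · exact ⟨huw2, (Commute.refl u).mul_right huw, huw.symm.mul_right (Commute.refl w)⟩
      · exact ⟨s1 _ huw2, cz _ _ ((Commute.refl u).mul_right huw),
          cz _ _ (huw.symm.mul_right (Commute.refl w))⟩
    have hEu : u ∈ E := by simp [E]
    have hEw : w ∈ E := by simp [E]
    -- an element centralizing `u` and `w` lies in `E`
    let D : Subgroup Q := Subgroup.centralizer ({u} : Set Q) ⊓ Subgroup.centralizer ({w} : Set Q)
    have hED : (E : Set Q) ⊆ (D : Set Q) := fun e he => by
      simp only [D, Subgroup.coe_inf, Set.mem_inter_iff, SetLike.mem_coe, Subgroup.mem_centralizer_singleton_iff]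
      exact ⟨(hEc e he).2.1.symm.eq, (hEc e he).2.2.symm.eq⟩
    have hD16 : Nat.card ↥D ∣ 16 := hcent16 u hu1 huz ▸ Subgroup.card_dvd_of_le inf_le_left
    have hDlt : Nat.card ↥D < 16 := by
      by_contra hge
      have h16 := Nat.le_of_dvd (by norm_num) hD16
      have e1 : D = Subgroup.centralizer ({u} : Set Q) :=
        Subgroup.eq_of_le_of_card_ge inf_le_left (by rw [hcent16 u hu1 huz]; omega)
      have e2 : D = Subgroup.centralizer ({w} : Set Q) :=
        Subgroup.eq_of_le_of_card_ge inf_le_right (by rw [hcent16 w hw1 hwz]; omega)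
      suffices hcy : ∀ y, Commute (u * w) y by
        rcases hcen (u * w) hcy with h | h
        · exact huw1 h
        · exact huwz h
      intro y
      rcases hcomm y u with hy | hy
      · have hyD : y ∈ Subgroup.centralizer ({w} : Set Q) := by
          rw [← e2, e1, Subgroup.mem_centralizer_singleton_iff]; exact hy
        rw [Subgroup.mem_centralizer_singleton_iff] at hyD
        exact (Commute.mul_left (Commute.symm hy) (Commute.symm hyD))
      · have hy' : y * w = w * y * z := (hcomm y w).resolve_left fun h => hxz y u hy (by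
          have : y ∈ Subgroup.centralizer ({u} : Set Q) := by
            rw [← e1, e2, Subgroup.mem_centralizer_singleton_iff]; exact h
          exact Subgroup.mem_centralizer_singleton_iff.mp this)
        show u * w * y = y * (u * w)
        have hwy : w * y = y * w * z := by rw [hy', mul_assoc, hzz, mul_one]
        have huy : u * y = y * u * z := by rw [hy, mul_assoc, hzz, mul_one]
        rw [mul_assoc u w y, hwy, show u * (y * w * z) = u * y * (w * z) by group, huy,
          show y * u * z * (w * z) = y * u * (z * w) * z by group, (hzc w).eq,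
          show y * u * (w * z) * z = y * (u * w) * (z * z) by group, hzz, mul_one]
    have hD8 : Nat.card ↥D ≤ 8 := by
      have hmem : Nat.card ↥D ∈ Nat.divisors 16 := Nat.mem_divisors.mpr ⟨hD16, by norm_num⟩
      revert hmem hDlt
      generalize Nat.card ↥D = d
      intro h1 h2
      fin_cases h2 <;> omega
    have hDE : (D : Set Q) = E := by
      refine (Set.eq_of_subset_of_ncard_le hED ?_ (Set.toFinite _)).symm
      rw [Set.ncard_coe_finset, hcardE, ← Nat.card_coe_set_eq]
      exact hD8
    -- counting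
    let P : Finset Q := Finset.univ.filter fun q => q * q = 1
    have hPn : P.card = n := by rw [hn, Nat.card_eq_fintype_card, Fintype.card_subtype]
    have hper : ∀ x : Q, (E.filter fun e => x * e * (x * e) = 1).card = if x ∈ E then 8 else 4 := by
      intro x
      by_cases hx : x ∈ E
      · rw [if_pos hx, Finset.filter_true_of_mem, hcardE]
        intro e he
        have hxe : Commute x e := by
          simp only [E, Finset.mem_insert, Finset.mem_singleton] at he
          have := hEc x hx
          rcases he with rfl | rfl | rfl | rfl | rfl | rfl | rfl | rfl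
          · exact Commute.one_right _
          · exact (hzc x).symm
          · exact this.2.1.symm
          · exact this.2.1.symm.mul_right (hzc x).symm
          · exact this.2.2.symm
          · exact this.2.2.symm.mul_right (hzc x).symm
          · exact this.2.1.symm.mul_right this.2.2.symm
          · exact (this.2.1.symm.mul_right this.2.2.symm).mul_right (hzc x).symm
        rw [hpos x e (hEc e he).1 hxe.eq]
        exact (hEc x hx).1
      · rw [if_neg hx]
        have hxD : ¬ (Commute x u ∧ Commute x w) := fun h => hx (by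
          have : x ∈ (D : Set Q) := by
            simp only [D, Subgroup.coe_inf, Set.mem_inter_iff, SetLike.mem_coe, Subgroup.mem_centralizer_singleton_iff]
            exact ⟨h.1.eq, h.2.eq⟩
          rwa [hDE] at this)
        obtain ⟨a, ha, hxa⟩ : ∃ a ∈ E, x * a = a * x * z := by
          by_cases h : Commute x u
          · exact ⟨w, hEw, (hcomm x w).resolve_left fun h' => hxD ⟨h, h'⟩⟩
          · exact ⟨u, hEu, (hcomm x u).resolve_left h⟩
        have haE : ∀ e ∈ E, e * a ∈ E := by
          intro e he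
          have : e * a ∈ (D : Set Q) := D.mul_mem (hED he) (hED ha)
          rwa [hDE] at this
        have hflip : ∀ e ∈ E, (x * e * (x * e) = 1 ↔ ¬ x * (e * a) * (x * (e * a)) = 1) := by
          intro e he
          have haa := (hEc a ha).1
          have hea : Commute e a := by
            have h3 := hEc e he
            simp only [E, Finset.mem_insert, Finset.mem_singleton] at ha
            rcases ha with rfl | rfl | rfl | rfl | rfl | rfl | rfl | rfl
            · exact Commute.one_right _
            · exact (hzc e).symm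
            · exact h3.2.1.symm
            · exact h3.2.1.symm.mul_right (hzc e).symm
            · exact h3.2.2.symm
            · exact h3.2.2.symm.mul_right (hzc e).symm
            · exact h3.2.1.symm.mul_right h3.2.2.symm
            · exact (h3.2.1.symm.mul_right h3.2.2.symm).mul_right (hzc e).symm
          have hneg' : x * (e * a) * (x * (e * a)) = x * e * (x * e) * z := by
            rw [← mul_assoc x e a]
            refine hneg (x * e) a haa ?_
            rw [mul_assoc x e a, hea.eq, ← mul_assoc x a e, hxa]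
            rw [show a * x * z * e = a * x * (z * e) by group, (hzc e).eq]
            group
          rw [hneg']
          rcases hsq (x * e) with h | h <;> rw [h]
          · simp [hz]
          · simp [hz, hzz]
        have hbij : (E.filter fun e => x * e * (x * e) = 1).card =
            (E.filter fun e => ¬ x * e * (x * e) = 1).card := by
          refine Finset.card_bij' (fun e _ => e * a) (fun e _ => e * a) ?_ ?_ ?_ ?_
          · intro e he
            rw [Finset.mem_filter] at he ⊢
            exact ⟨haE e he.1, (hflip e he.1).mp he.2⟩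
          · intro e he
            rw [Finset.mem_filter] at he ⊢
            refine ⟨haE e he.1, (hflip _ (haE e he.1)).mpr ?_⟩
            rw [show e * a * a = e by rw [mul_assoc, (hEc a ha).1, mul_one]]; exact he.2
          · intro e _
            show e * a * a = e
            rw [mul_assoc, (hEc a ha).1, mul_one]
          · intro e _
            show e * a * a = e
            rw [mul_assoc, (hEc a ha).1, mul_one]
        have := Finset.card_filter_add_card_filter_not (s := E) (fun e => x * e * (x * e) = 1)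
        omega
    have hdouble : ∑ x : Q, (E.filter fun e => x * e * (x * e) = 1).card = 8 * n := by
      simp only [Finset.card_filter]
      rw [Finset.sum_comm, ← hPn, ← hcardE, ← smul_eq_mul, ← Finset.sum_const]
      refine Finset.sum_congr rfl fun e _ => ?_
      rw [show P.card = (Finset.univ.filter fun q : Q => q * q = 1).card from rfl, Finset.card_filter]
      exact Equiv.sum_comp (Equiv.mulRight e) (fun q => if q * q = 1 then 1 else 0)
    rw [Finset.sum_congr rfl (fun x _ => hper x)] at hdouble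
    have hsum : ∑ x : Q, (if x ∈ E then 8 else 4) = 160 := by
      rw [Finset.sum_ite, Finset.sum_const, Finset.sum_const]
      have h1 : (Finset.univ.filter fun x : Q => x ∈ E).card = 8 := by simp [hcardE]
      have h2 := Finset.card_filter_add_card_filter_not (s := (Finset.univ : Finset Q)) (fun x => x ∈ E)
      rw [Finset.card_univ, ← Nat.card_eq_fintype_card, hcard, h1] at h2
      simp only [smul_eq_mul]
      omega
    rw [hsum, hsplit] at hdouble
    omega
  refine ⟨?_, hne8⟩
  -- an upper bound
  obtain ⟨u, hu, hu1, huz⟩ := hone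
  have hle : m ≤ 18 := by
    rw [hm, Nat.card_eq_fintype_card, Fintype.card_subtype]
    refine (Finset.card_le_card (t := ({u, u * z} : Finset Q) ∪
      (Finset.univ.filter fun q : Q => ¬ q ∈ Subgroup.centralizer ({u} : Set Q))) ?_).trans
      ((Finset.card_union_le _ _).trans ?_)
    · intro q hq
      simp only [Finset.mem_filter, Finset.mem_univ, true_and] at hq
      simp only [Finset.mem_union, Finset.mem_insert, Finset.mem_singleton, Finset.mem_filter,
        Finset.mem_univ, true_and, Subgroup.mem_centralizer_singleton_iff]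
      by_cases hc : q * u = u * q
      · exact Or.inl (hne8 u q hu hu1 huz hq.1 hq.2.1 hq.2.2 (Commute.symm hc))
      · exact Or.inr hc
    · have h1 : ({u, u * z} : Finset Q).card ≤ 2 := Finset.card_le_two
      have h2 := Finset.card_filter_add_card_filter_not (s := (Finset.univ : Finset Q))
        (fun q => q ∈ Subgroup.centralizer ({u} : Set Q))
      have h3 : (Finset.univ.filter fun q : Q => q ∈ Subgroup.centralizer ({u} : Set Q)).card = 16 := by
        rw [← Fintype.card_subtype, ← Nat.card_eq_fintype_card]; exact hcent16 u hu1 huz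
      rw [Finset.card_univ, ← Nat.card_eq_fintype_card, hcard, h3] at h2
      omega
  -- the number of elements of square one is divisible by four
  have h4 : m ≠ 5 ∧ m ≠ 15 := by
    have heven : 2 ∣ m := by
      let σ : Equiv.Perm {u : Q // u * u = 1 ∧ u ≠ 1 ∧ u ≠ z} :=
        (Equiv.mulRight z).subtypeEquiv (fun q => by
          have s1 : q * q = 1 ↔ q * z * (q * z) = 1 := by
            rw [show q * z * (q * z) = q * (z * q) * z by group, (hzc q).eq,
              show q * (q * z) * z = (q * q) * (z * z) by group, hzz, mul_one]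
          simp only [Equiv.coe_mulRight, ne_eq, ← s1]
          constructor
          · intro h
            exact ⟨h.1, fun e => h.2.2 (by
              rw [← one_mul z, ← e, mul_assoc, hzz, mul_one]), fun e => h.2.1 (mul_eq_right.mp e)⟩
          · intro h
            exact ⟨h.1, fun e => h.2.2 (by rw [e, one_mul]), fun e => h.2.1 (by rw [e, hzz])⟩)
      haveI : Fact (Nat.Prime 2) := ⟨Nat.prime_two⟩
      have hσ : σ ^ 2 = 1 := by
        ext v
        show v.1 * z * z = v.1
        rw [mul_assoc, hzz, mul_one]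
      by_contra hnd
      rw [Nat.card_eq_fintype_card] at hm
      obtain ⟨v, hv⟩ := Equiv.Perm.exists_fixed_point_of_prime (n := 1) (by rwa [← hm]) (σ := σ) (by simpa using hσ)
      have hv' : v.1 * z = v.1 := congrArg Subtype.val hv
      exact hz (mul_eq_left.mp hv')
    omega
  omega


set_option maxHeartbeats 1600000 in
/-- The order of a simple group with the involution pattern of the Hall–Janko group. Let G be a non-abelian finite simple group with exactly two conjugacy classes of involutions, represented by z and t, such that: F*(C_G(z)) is an extraspecial 2-group; Q = O₂(C_G(z)) has order 32 and C_G(z) is the semidirect product of Q by a subgroup isomorphic to A₅; every involution of Q is conjugate to z and every other involution of C_G(z) is conjugate to t; C_G(t) is an internal direct product V × B with V a four-group containing t and B ≅ A₅; every involution of B is conjugate to z and every other involution of C_G(t) is conjugate to t. Then |G| = 604800. -/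
theorem result {G : Type*} [Group G] [Finite G]
    [IsSimpleGroup G] (hna : ¬ IsMulCommutative G) (z t : G) (hz : orderOf z = 2) (ht : orderOf t = 2)
    (hzt : ¬ IsConj z t) (hcl : ∀ x : G, orderOf x = 2 → IsConj x z ∨ IsConj x t)
    (hex : Cfsg.IsExtraspecial 2 ↥(Cfsg.generalizedFittingSubgroup ↥(Subgroup.centralizer ({z} : Set G))))
    (hQ : Nat.card ↥(Cfsg.pCore 2 ↥(Subgroup.centralizer ({z} : Set G))) = 32)
    (K : Subgroup G) (hK : Nonempty (↥K ≃* alternatingGroup (Fin 5)))
    (hKC : K ⊔ (Cfsg.pCore 2 ↥(Subgroup.centralizer ({z} : Set G))).map (Subgroup.centralizer ({z} : Set G)).subtype = Subgroup.centralizer ({z} : Set G))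
    (hKQ : K ⊓ (Cfsg.pCore 2 ↥(Subgroup.centralizer ({z} : Set G))).map (Subgroup.centralizer ({z} : Set G)).subtype = ⊥)
    (hQz : ∀ x ∈ (Cfsg.pCore 2 ↥(Subgroup.centralizer ({z} : Set G))).map (Subgroup.centralizer ({z} : Set G)).subtype, orderOf x = 2 → IsConj x z)
    (hCz : ∀ x ∈ Subgroup.centralizer ({z} : Set G), orderOf x = 2 →
      x ∉ (Cfsg.pCore 2 ↥(Subgroup.centralizer ({z} : Set G))).map (Subgroup.centralizer ({z} : Set G)).subtype → IsConj x t)
    (V B : Subgroup G) (hVB : Cfsg.IsInternalDirectProduct V B (Subgroup.centralizer ({t} : Set G)))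
    (hV : Nat.card ↥V = 4) (hV2 : ∀ v ∈ V, v ^ 2 = 1) (htV : t ∈ V) (hB : Nonempty (↥B ≃* alternatingGroup (Fin 5)))
    (hBz : ∀ x ∈ B, orderOf x = 2 → IsConj x z)
    (hCt : ∀ x ∈ Subgroup.centralizer ({t} : Set G), orderOf x = 2 → x ∉ B → IsConj x t) :
    Nat.card G = 604800 := by
  classical
  set C := Subgroup.centralizer ({z} : Set G) with hC
  set Q := Cfsg.pCore 2 ↥C with hQdef
  set Qg := Q.map C.subtype with hQg
  haveI : Fact (Nat.Prime 2) := ⟨Nat.prime_two⟩
  have hzC : z ∈ C := Subgroup.mem_centralizer_singleton_iff.mpr rfl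
  have hz1 : z ≠ 1 := fun h => by rw [h, orderOf_one] at hz; omega
  have hzz : z * z = 1 := by rw [← pow_two, ← hz]; exact pow_orderOf_eq_one z
  have hcK : Nat.card ↥K = 60 := by
    obtain ⟨e⟩ := hK
    rw [Nat.card_congr e.toEquiv, Nat.card_eq_fintype_card]; rfl
  have hQgC : Qg ≤ C := Subgroup.map_subtype_le Q
  have hcQg : Nat.card ↥Qg = 32 := by
    rw [hQg, Nat.card_congr (Q.equivMapOfInjective _ C.subtype_injective).toEquiv.symm]; exact hQ
  haveI hQn : Q.Normal := by
    exact Cfsg.Agent.Core.pCore_normal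
  have hKC : K ≤ C := hKC ▸ le_sup_left
  have hKsup : K.subgroupOf C ⊔ Q = ⊤ := by
    apply Subgroup.map_injective C.subtype_injective
    rw [Subgroup.map_sup, Subgroup.map_subgroupOf_eq_of_le hKC, ← MonoidHom.range_eq_map,
      Subgroup.range_subtype]
    assumption
  have hKinf : K.subgroupOf C ⊓ Q = ⊥ := by
    apply Subgroup.map_injective C.subtype_injective
    rw [Subgroup.map_inf _ _ _ C.subtype_injective, Subgroup.map_subgroupOf_eq_of_le hKC, Subgroup.map_bot]
    exact hKQ
  have hcC : Nat.card ↥C = 1920 := by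
    have h := (Subgroup.isComplement'_of_disjoint_and_mul_eq_univ (disjoint_iff.mpr hKinf) (by
      rw [← Subgroup.mul_normal, hKsup, Subgroup.coe_top])).card_mul
    rw [Nat.card_congr (Subgroup.subgroupOfEquivOfLe hKC).toEquiv, hcK, hQ] at h
    omega
  -- the generalized Fitting subgroup
  have hQ2 : IsPGroup 2 ↥Q := IsPGroup.of_card (n := 5) (by rw [hQ]; norm_num)
  have hFQ : Cfsg.generalizedFittingSubgroup ↥C = Q := by
    apply le_antisymm
    · exact le_sSup ⟨inferInstance, hex.1.1⟩
    · haveI : Group.IsNilpotent ↥Q := hQ2.isNilpotent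
      have hs : Group.IsSolvable ↥Q := inferInstance
      have hcen : Q ≤ Subgroup.centralizer (Cfsg.fittingSubgroup ↥C : Set ↥C) ⊔ Q := le_sup_right
      exact (le_sSup ⟨hQn, inferInstance⟩ : Q ≤ Cfsg.fittingSubgroup ↥C).trans
        Cfsg.Agent.Layer.fitting_le_generalizedFitting
  rw [hFQ] at hex
  have hself : Subgroup.centralizer (Q : Set ↥C) ≤ Q := by
    have h := Cfsg.Agent.Layer.centralizer_generalizedFitting_le (G := ↥C)
    rwa [hFQ] at h
  obtain ⟨⟨-, hfrat, hcom⟩, hcen2⟩ := hex
  set zc : ↥C := ⟨z, hzC⟩ with hzc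
  have hzcc : ∀ y : ↥C, Commute zc y := fun y =>
    Subtype.ext (Subgroup.mem_centralizer_singleton_iff.mp y.2).symm
  have hzcQ : zc ∈ Q := hself (Subgroup.mem_centralizer_iff.mpr fun y _ => (hzcc y).eq.symm)
  set zq : ↥Q := ⟨zc, hzcQ⟩ with hzq
  have hzq1 : zq ≠ 1 := fun h => hz1 (congrArg (fun x : ↥Q => ((x : ↥C) : G)) h)
  have hzqc : ∀ y : ↥Q, Commute zq y := fun y => Subtype.ext (hzcc y).eq
  have hcenQ : ∀ x : ↥Q, x ∈ Subgroup.center ↥Q → x = 1 ∨ x = zq := by
    intro x hx
    by_contra hne
    push Not at hne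
    have h3 : ({1, zq, x} : Finset ↥Q).card = 3 := by
      rw [Finset.card_insert_of_notMem (by simp [Ne.symm hzq1, Ne.symm hne.1]),
        Finset.card_pair (Ne.symm hne.2)]
    have hsub : ((({1, zq, x} : Finset ↥Q)) : Set ↥Q) ⊆ (Subgroup.center ↥Q : Set ↥Q) := by
      intro y hy
      simp only [Finset.coe_insert, Finset.coe_singleton, Set.mem_insert_iff, Set.mem_singleton_iff] at hy
      rcases hy with rfl | rfl | rfl
      · exact one_mem _
      · exact Subgroup.mem_center_iff.mpr fun g => (hzqc g).eq.symm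
      · exact hx
    have := Set.ncard_le_ncard hsub (Set.toFinite _)
    rw [Set.ncard_coe_finset, h3, ← Nat.card_coe_set_eq] at this
    have h2 : Nat.card ↥(Subgroup.center ↥Q) = 2 := hcen2
    rw [show Nat.card ↑(Subgroup.center ↥Q : Set ↥Q) = 2 from h2] at this
    omega
  have hsqQ : ∀ x : ↥Q, x * x = 1 ∨ x * x = zq := fun x => by
    apply hcenQ
    rw [← hfrat, ← pow_two]
    exact Cfsg.Agent.Core.pow_mem_frattini hQ2 x
  have hzqq : zq * zq = 1 := Subtype.ext (Subtype.ext hzz)
  have hcommQ : ∀ x y : ↥Q, x * y = y * x ∨ x * y = y * x * zq := by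
    intro x y
    rcases hcenQ ⁅x, y⁆ (by rw [← hcom]; exact Subgroup.commutator_mem_commutator trivial trivial) with h | h
    · exact Or.inl (commutatorElement_eq_one_iff_mul_comm.mp h)
    · right
      calc x * y = ⁅x, y⁆ * (y * x) := by rw [commutatorElement_def]; group
        _ = y * x * zq := by rw [h, (hzqc _).eq]
  -- an element of order five
  haveI : Fact (Nat.Prime 5) := ⟨by norm_num⟩
  obtain ⟨a₀, ha₀⟩ := exists_prime_orderOf_dvd_card' (G := ↥K) 5 (by rw [hcK]; norm_num)
  set a : ↥C := ⟨a₀, hKC a₀.2⟩ with ha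
  have hao : orderOf a = 5 := by
    rw [← orderOf_injective C.subtype C.subtype_injective a]
    rw [show C.subtype a = (a₀ : G) from rfl, Subgroup.orderOf_coe, ha₀]
  set α : MulAut ↥Q := MulAut.conjNormal a with hα
  have hα5 : orderOf α ∣ 5 := hao ▸ orderOf_map_dvd MulAut.conjNormal a
  have hαapp : ∀ x : ↥Q, ((α x : ↥Q) : ↥C) = a * x * a⁻¹ := fun x => MulAut.conjNormal_apply a x
  have hαz : α zq = zq := Subtype.ext (by
    rw [hαapp]
    show a * zc * a⁻¹ = zc
    rw [(hzcc a).eq.symm, mul_assoc, mul_inv_cancel, mul_one])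
  have hanQ : a ∉ Q := fun h => by
    have h5 := orderOf_dvd_natCard (⟨a, h⟩ : ↥Q)
    rw [← Subgroup.orderOf_coe, hQ, show ((⟨a, h⟩ : ↥Q) : ↥C) = a from rfl, hao] at h5
    norm_num at h5
  have hαmod : ∀ y : ↥Q, (α y = y ∨ α y = y * zq) → α y = y := by
    intro y hy
    rcases hy with hy | hy
    · exact hy
    exfalso
    have hk : ∀ k : ℕ, (α ^ k) y = y * zq ^ k := by
      intro k
      induction k with
      | zero => simp
      | succ k ih => rw [pow_succ', MulAut.mul_apply, ih, map_mul, map_pow, hαz, hy, pow_succ', mul_assoc]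
    have h5 := hk 5
    rw [orderOf_dvd_iff_pow_eq_one.mp hα5, MulAut.one_apply] at h5
    have : zq ^ 5 = zq := by
      rw [show zq ^ 5 = zq ^ 2 * zq ^ 2 * zq by rw [← pow_add, ← pow_succ], pow_two, hzqq, one_mul, one_mul]
    rw [this] at h5
    exact hzq1 (mul_eq_left.mp h5.symm)
  have hαne : α ≠ 1 := by
    intro h1
    apply hanQ
    apply hself
    refine Subgroup.mem_centralizer_iff.mpr fun y hy => ?_
    have := hαapp ⟨y, hy⟩
    rw [h1, MulAut.one_apply] at this
    change y = a * y * a⁻¹ at this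
    exact (eq_mul_inv_iff_mul_eq.mp this)
  have hαfix : ∀ x : ↥Q, α x = x → x = 1 ∨ x = zq := by
    -- the fixed points have order `2` or `32`
    haveI : Fintype ↥Q := Fintype.ofFinite _
    let F : Subgroup ↥Q := α.toMonoidHom.eqLocus (MonoidHom.id _)
    have hmem : ∀ x, x ∈ F ↔ α x = x := fun x => Iff.rfl
    have hmod : Nat.card ↥Q ≡ Nat.card ↥F [MOD 5] := by
      let f : Function.End ↥Q := fun x => α x
      have hk : ∀ (k : ℕ) (x : ↥Q), (f ^ k) x = (α ^ k) x := by
        intro k
        induction k with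
        | zero => intro x; rfl
        | succ k ih =>
          intro x
          rw [pow_succ, pow_succ, MulAut.mul_apply, ← ih]
          rfl
      have hσ : f ^ 5 ^ 1 = 1 := by
        refine funext fun x => ?_
        rw [pow_one, hk, orderOf_dvd_iff_pow_eq_one.mp hα5]; rfl
      have h := Equiv.Perm.card_fixedPoints_modEq hσ
      have hset : Fintype.card f.fixedPoints = Nat.card ↥F := by
        rw [← Nat.card_eq_fintype_card]
        exact Nat.card_congr (Equiv.subtypeEquivRight fun x => Iff.rfl)
      rw [hset, ← Nat.card_eq_fintype_card] at h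
      exact h
    have hFdvd : Nat.card ↥F ∣ 32 := hQ ▸ Subgroup.card_subgroup_dvd_card F
    rw [hQ] at hmod
    have hF : Nat.card ↥F = 2 ∨ Nat.card ↥F = 32 := by
      have hmem : Nat.card ↥F ∈ Nat.divisors 32 := Nat.mem_divisors.mpr ⟨hFdvd, by norm_num⟩
      revert hmem hmod
      generalize Nat.card ↥F = d
      intro h1 h2
      rw [Nat.ModEq] at h1
      fin_cases h2 <;> omega
    rcases hF with h | h
    · intro x hx
      by_contra hne
      push Not at hne
      have hsub : ((({1, zq, x} : Finset ↥Q)) : Set ↥Q) ⊆ (F : Set ↥Q) := by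
        intro y hy
        simp only [Finset.coe_insert, Finset.coe_singleton, Set.mem_insert_iff, Set.mem_singleton_iff] at hy
        rcases hy with rfl | rfl | rfl
        · exact one_mem F
        · exact hαz
        · exact hx
      have := Set.ncard_le_ncard hsub (Set.toFinite _)
      rw [Set.ncard_coe_finset, Finset.card_insert_of_notMem (by simp [Ne.symm hzq1, Ne.symm hne.1]),
        Finset.card_pair (Ne.symm hne.2), ← Nat.card_coe_set_eq] at this
      rw [show Nat.card ↑(F : Set ↥Q) = 2 from h] at this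
      omega
    · exfalso
      apply hαne
      have hFt : F = ⊤ := Subgroup.eq_top_of_card_eq F (by rw [h, hQ])
      ext1 x
      exact (hmem x).mp (hFt ▸ Subgroup.mem_top x)
  -- classes
  have hord : ∀ {x : G}, IsConj z x → orderOf x = 2 := fun {x} h => by
    obtain ⟨c, rfl⟩ := isConj_iff.mp h
    rw [← MulAut.conj_apply, MulEquiv.orderOf_eq, hz]
  have hordt : ∀ {x : G}, IsConj t x → orderOf x = 2 := fun {x} h => by
    obtain ⟨c, rfl⟩ := isConj_iff.mp h
    rw [← MulAut.conj_apply, MulEquiv.orderOf_eq, ht]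
  have hexcl : ∀ {x : G}, IsConj z x → ¬ IsConj t x := fun h h' => hzt (h.trans h'.symm)
  have htwo : ∀ {x : G}, x ≠ 1 → x * x = 1 → orderOf x = 2 := fun {x} h1 h2 =>
    orderOf_eq_prime (by rw [pow_two]; exact h2) h1
  have hsq : ∀ {x : G}, orderOf x = 2 → x * x = 1 ∧ x ≠ 1 := fun {x} h =>
    ⟨by rw [← pow_two, ← h]; exact pow_orderOf_eq_one x, fun e => by rw [e, orderOf_one] at h; omega⟩
  -- the centralizer of `t`
  set T := Subgroup.centralizer ({t} : Set G) with hT
  obtain ⟨hVT, hBT, hVBc, hVBi, hVBs⟩ := hVB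
  obtain ⟨eB⟩ := hB
  have hB60 : Nat.card ↥B = 60 := by
    rw [Nat.card_congr eB.toEquiv, Nat.card_eq_fintype_card]; rfl
  have hdecomp : ∀ x ∈ T, ∃ v ∈ V, ∃ b ∈ B, v * b = x := by
    intro x hx
    rw [← hVBs] at hx
    have hn : B ≤ Subgroup.normalizer (V : Set G) := by
      refine le_trans ?_ (Subgroup.centralizer_le_normalizer _)
      exact fun b hb => Subgroup.mem_centralizer_iff.mpr fun v hv => hVBc v hv b hb
    rw [← SetLike.mem_coe, Subgroup.coe_mul_of_right_le_normalizer_left V B hn] at hx
    exact hx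
  have huniq : ∀ v ∈ V, ∀ b ∈ B, v * b = 1 → v = 1 ∧ b = 1 := by
    intro v hv b hb h
    have hbV : b ∈ V := by rw [eq_inv_of_mul_eq_one_right h]; exact inv_mem hv
    have hb1 : b = 1 := (Subgroup.eq_bot_iff_forall _).mp hVBi b ⟨hbV, hb⟩
    exact ⟨by rw [← h, hb1, mul_one], hb1⟩
  have hcT : Nat.card ↥T = 240 := by
    let f : ↥V × ↥B → ↥T := fun p => ⟨p.1.1 * p.2.1, mul_mem (hVT p.1.2) (hBT p.2.2)⟩
    have hf : Function.Bijective f := by
      refine ⟨fun p q h => ?_, fun x => ?_⟩
      · have h' : p.1.1 * p.2.1 = q.1.1 * q.2.1 := congrArg Subtype.val h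
        have h1 : q.1.1⁻¹ * p.1.1 * (p.2.1 * q.2.1⁻¹) = 1 := by
          rw [show q.1.1⁻¹ * p.1.1 * (p.2.1 * q.2.1⁻¹) = q.1.1⁻¹ * (p.1.1 * p.2.1) * q.2.1⁻¹ by group, h']
          group
        obtain ⟨e1, e2⟩ := huniq _ (mul_mem (inv_mem q.1.2) p.1.2) _ (mul_mem p.2.2 (inv_mem q.2.2)) h1
        exact Prod.ext (Subtype.ext (inv_mul_eq_one.mp e1).symm) (Subtype.ext (mul_inv_eq_one.mp e2))
      · obtain ⟨v, hv, b, hb, h⟩ := hdecomp x x.2
        exact ⟨(⟨v, hv⟩, ⟨b, hb⟩), Subtype.ext h⟩
    rw [← Nat.card_congr (Equiv.ofBijective f hf), Nat.card_prod, hV, hB60]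
  -- members of the classes in the two centralizers
  have hzT : ∀ x ∈ T, (IsConj z x ↔ x ∈ B ∧ x ≠ 1 ∧ x * x = 1) := by
    intro x hx
    constructor
    · intro h
      refine ⟨?_, (hsq (hord h)).2, (hsq (hord h)).1⟩
      by_contra hxB
      exact hexcl h (hCt x hx (hord h) hxB).symm
    · rintro ⟨hxB, h1, h2⟩
      exact (hBz x hxB (htwo h1 h2)).symm
  have hzC' : ∀ x ∈ C, IsConj z x → x ∈ Qg := by
    intro x hx h
    by_contra hxQ
    exact hexcl h (hCz x hx (hord h) hxQ).symm
  have htC : ∀ x ∈ C, IsConj t x → x ∉ Qg := fun x hx h hxQ => hexcl (hQz x hxQ (hordt h)).symm h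
  -- transfer `A₅` counts to `B`
  have hone : ∀ x : ↥B, (x : G) = 1 ↔ eB x = 1 := fun x => by
    rw [MulEquiv.map_eq_one_iff, ← OneMemClass.coe_one B]; exact Subtype.coe_inj
  have hBcard : ∀ (pr : G → Prop) (pr' : alternatingGroup (Fin 5) → Prop) [DecidablePred pr'],
      (∀ b : ↥B, pr b ↔ pr' (eB b)) →
      Nat.card {x : G // x ∈ B ∧ pr x} = (Finset.univ.filter pr').card := by
    intro pr pr' _ hpr
    rw [← Fintype.card_subtype, ← Nat.card_eq_fintype_card]
    exact Nat.card_congr ((Equiv.subtypeSubtypeEquivSubtypeInter (fun x : G => x ∈ B) pr).symm.trans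
      (eB.toEquiv.subtypeEquiv hpr))
  have hzB15 : Nat.card {x : G // IsConj z x ∧ Commute x t} = 15 := by
    rw [← a5_invol, ← hBcard (fun x => x ≠ 1 ∧ x * x = 1) (fun u => u ≠ 1 ∧ u * u = 1) (fun b => by
      simp only [ne_eq, hone b, ← Subgroup.coe_mul, hone (b * b), map_mul])]
    refine Nat.card_congr (Equiv.subtypeEquivRight fun x => ?_)
    constructor
    · rintro ⟨h, hc⟩
      exact (hzT x (Subgroup.mem_centralizer_singleton_iff.mpr hc)).mp h
    · rintro ⟨hxB, h⟩
      exact ⟨(hzT x (hBT hxB)).mpr ⟨hxB, h⟩, Subgroup.mem_centralizer_singleton_iff.mp (hBT hxB)⟩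
  -- number of conjugates of `t` commuting with `z`
  have hcz := Cfsg.Agent.Invol.card_isConj_mul_card_centralizer z
  have hct := Cfsg.Agent.Invol.card_isConj_mul_card_centralizer t
  rw [← hC, hcC] at hcz
  rw [← hT, hcT] at hct
  have hN : Nat.card {v : G // IsConj t v ∧ Commute v z} = 120 := by
    let S := {p : G × G // IsConj z p.1 ∧ IsConj t p.2 ∧ Commute p.1 p.2}
    have hswap : ∀ (x : G) (g : G) (P : G → Prop), (∀ y, P y ↔ P (g * y * g⁻¹)) →
        Nat.card {y : G // P y ∧ Commute y (g * x * g⁻¹)} = Nat.card {y : G // P y ∧ Commute y x} := by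
      intro x g P hP
      refine (Nat.card_congr ((MulAut.conj g).toEquiv.subtypeEquiv fun y => ?_)).symm
      simp only [MulEquiv.toEquiv_eq_coe, EquivLike.coe_coe, MulAut.conj_apply]
      rw [← hP, Commute.conj_iff]
    have hinv : ∀ (c g y : G), IsConj c y ↔ IsConj c (g * y * g⁻¹) := fun c g y =>
      ⟨fun h => h.trans (isConj_iff.mpr ⟨g, rfl⟩), fun h => h.trans (isConj_iff.mpr ⟨g, rfl⟩).symm⟩
    have e1 : S ≃ Σ u : {u : G // IsConj z u}, {v : G // IsConj t v ∧ Commute v u.1} :=
      { toFun := fun p => ⟨⟨p.1.1, p.2.1⟩, ⟨p.1.2, p.2.2.1, p.2.2.2.symm⟩⟩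
        invFun := fun s => ⟨(s.1.1, s.2.1), s.1.2, s.2.2.1, s.2.2.2.symm⟩
        left_inv := fun p => rfl
        right_inv := fun s => rfl }
    have e2 : S ≃ Σ v : {v : G // IsConj t v}, {u : G // IsConj z u ∧ Commute u v.1} :=
      { toFun := fun p => ⟨⟨p.1.2, p.2.2.1⟩, ⟨p.1.1, p.2.1, p.2.2.2⟩⟩
        invFun := fun s => ⟨(s.2.1, s.1.1), s.2.2.1, s.1.2, s.2.2.2⟩
        left_inv := fun p => rfl
        right_inv := fun s => rfl }
    haveI : Fintype {u : G // IsConj z u} := Fintype.ofFinite _
    haveI : Fintype {v : G // IsConj t v} := Fintype.ofFinite _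
    have c1 : Nat.card S = Nat.card {u : G // IsConj z u} * Nat.card {v : G // IsConj t v ∧ Commute v z} := by
      rw [Nat.card_congr e1, Nat.card_sigma, Finset.sum_congr rfl (fun u _ => ?_), Finset.sum_const,
        Finset.card_univ, smul_eq_mul, ← Nat.card_eq_fintype_card]
      obtain ⟨c, hc⟩ := isConj_iff.mp u.2
      rw [← hc]
      exact hswap z c _ (hinv t c)
    have c2 : Nat.card S = Nat.card {v : G // IsConj t v} * 15 := by
      rw [Nat.card_congr e2, Nat.card_sigma, Finset.sum_congr rfl (fun v _ => ?_), Finset.sum_const,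
        Finset.card_univ, smul_eq_mul, ← Nat.card_eq_fintype_card]
      obtain ⟨c, hc⟩ := isConj_iff.mp v.2
      rw [← hc, hswap t c _ (hinv z c), hzB15]
    have hG : 0 < Nat.card G := Nat.card_pos
    have hzpos : 0 < Nat.card {u : G // IsConj z u} := by
      rcases Nat.eq_zero_or_pos (Nat.card {u : G // IsConj z u}) with h | h
      · rw [h] at hcz; omega
      · exact h
    rw [c1] at c2
    refine Nat.eq_of_mul_eq_mul_left hzpos ?_
    nlinarith
  -- exactly three conjugates of `z` commute with `z` and with a given conjugate of `t` commuting with `z`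
  have hthree : ∀ v : G, IsConj t v → Commute v z →
      Nat.card {u : G // IsConj z u ∧ Commute u z ∧ Commute u v} = 3 := by
    intro v hv hvz
    obtain ⟨g, hg⟩ := isConj_iff.mp hv.symm
    set b := g * z * g⁻¹ with hb
    have hbT : b ∈ T := by
      rw [hT, Subgroup.mem_centralizer_singleton_iff, hb, ← hg]
      exact ((Commute.conj_iff g).mpr hvz.symm).eq
    have hbz : IsConj z b := isConj_iff.mpr ⟨g, rfl⟩
    obtain ⟨hbB, hb1, hb2⟩ := (hzT b hbT).mp hbz
    rw [← a5_commuting (eB ⟨b, hbB⟩) (fun h => hb1 (congrArg Subtype.val (eB.injective (h.trans (map_one eB).symm))))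
      (by rw [← map_mul, show (⟨b, hbB⟩ : ↥B) * ⟨b, hbB⟩ = 1 from Subtype.ext hb2, map_one]),
      ← hBcard (fun x => x ≠ 1 ∧ x * x = 1 ∧ x * b = b * x)
        (fun u => u ≠ 1 ∧ u * u = 1 ∧ u * eB ⟨b, hbB⟩ = eB ⟨b, hbB⟩ * u) (fun x => by
        simp only [ne_eq, hone x, ← Subgroup.coe_mul, hone (x * x), map_mul]
        rw [show ((x : G) * b = b * x) ↔ eB x * eB ⟨b, hbB⟩ = eB ⟨b, hbB⟩ * eB x from by
          rw [← map_mul, ← map_mul, eB.injective.eq_iff, Subtype.ext_iff]; rfl])]
    refine Nat.card_congr ((MulAut.conj g).toEquiv.subtypeEquiv fun u => ?_)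
    simp only [MulEquiv.toEquiv_eq_coe, EquivLike.coe_coe, MulAut.conj_apply]
    constructor
    · rintro ⟨h1, h2, h3⟩
      have hx : g * u * g⁻¹ ∈ T := by
        rw [hT, Subgroup.mem_centralizer_singleton_iff, ← hg]
        exact ((Commute.conj_iff g).mpr h3).eq
      obtain ⟨p1, p2, p3⟩ := (hzT _ hx).mp (h1.trans (isConj_iff.mpr ⟨g, rfl⟩))
      exact ⟨p1, p2, p3, ((Commute.conj_iff g).mpr h2).eq⟩
    · rintro ⟨p1, p2, p3, p4⟩
      have hx := hBT p1
      have h1 := ((hzT _ hx).mpr ⟨p1, p2, p3⟩)
      rw [hT, Subgroup.mem_centralizer_singleton_iff, ← hg] at hx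
      exact ⟨h1.trans (isConj_iff.mpr ⟨g, rfl⟩).symm, (Commute.conj_iff g).mp p4, (Commute.conj_iff g).mp hx⟩
  -- the noncentral involutions of `Q`
  obtain ⟨v₀, hv₀⟩ : ∃ v : G, IsConj t v ∧ Commute v z := by
    have : Nonempty {v : G // IsConj t v ∧ Commute v z} := (Nat.card_pos_iff.mp (by rw [hN]; norm_num)).1
    obtain ⟨⟨v, hv⟩⟩ := this
    exact ⟨v, hv⟩
  have hlift : ∀ {u : G}, u ∈ Qg → ∃ q : ↥Q, ((q : ↥C) : G) = u := by
    rintro u ⟨c, hc, rfl⟩
    exact ⟨⟨c, hc⟩, rfl⟩
  have hqclass : ∀ q : ↥Q, q * q = 1 → q ≠ 1 → IsConj z ((q : ↥C) : G) := by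
    intro q h1 h2
    refine (hQz _ ⟨(q : ↥C), q.2, rfl⟩ (htwo (fun h => h2 (Subtype.ext (Subtype.ext h))) ?_)).symm
    exact congrArg (fun x : ↥Q => ((x : ↥C) : G)) h1
  obtain ⟨u₁, hu₁⟩ : ∃ u : G, (IsConj z u ∧ Commute u z ∧ Commute u v₀) ∧ u ≠ z := by
    by_contra hno
    push Not at hno
    have : Subsingleton {u : G // IsConj z u ∧ Commute u z ∧ Commute u v₀} :=
      ⟨fun x y => Subtype.ext ((hno x.1 x.2).trans (hno y.1 y.2).symm)⟩
    have h1 := Finite.card_le_one_iff_subsingleton.mpr this
    rw [hthree v₀ hv₀.1 hv₀.2] at h1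
    omega
  have hu₁Q : u₁ ∈ Qg := hzC' u₁ (Subgroup.mem_centralizer_singleton_iff.mpr hu₁.1.2.1) hu₁.1.1
  obtain ⟨q₁, hq₁⟩ := hlift hu₁Q
  obtain ⟨h10, hne8⟩ := q_facts zq hzq1 hQ
    (fun x hx => hcenQ x (Subgroup.mem_center_iff.mpr fun y => (hx y).eq.symm)) hzqc hsqQ hcommQ α hα5 hαfix hαz
    ⟨q₁, Subtype.ext (Subtype.ext (by show _ = (1 : G); rw [Subgroup.coe_mul, Subgroup.coe_mul, hq₁]; exact (hsq (hord hu₁.1.1)).1)),
      fun h => (hsq (hord hu₁.1.1)).2 (by rw [← hq₁, h]; rfl), fun h => hu₁.2 (by rw [← hq₁, h])⟩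
  have h11 : Nat.card {u : G // IsConj z u ∧ Commute u z} = 11 := by
    have hb : Nat.card {u : G // IsConj z u ∧ Commute u z} = Nat.card {q : ↥Q // q * q = 1 ∧ q ≠ 1} := by
      let f : {q : ↥Q // q * q = 1 ∧ q ≠ 1} → {u : G // IsConj z u ∧ Commute u z} := fun q =>
        ⟨((q.1 : ↥C) : G), hqclass q.1 q.2.1 q.2.2, Subgroup.mem_centralizer_singleton_iff.mp (q.1 : ↥C).2⟩
      refine (Nat.card_congr (Equiv.ofBijective f ⟨fun p q h => ?_, fun u => ?_⟩)).symm
      · exact Subtype.ext (Subtype.ext (Subtype.ext (congrArg Subtype.val h :)))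
      · obtain ⟨q, hq⟩ := hlift (hzC' u.1 (Subgroup.mem_centralizer_singleton_iff.mpr u.2.2) u.2.1)
        refine ⟨⟨q, ?_, ?_⟩, Subtype.ext hq⟩
        · exact Subtype.ext (Subtype.ext (by
            show _ = (1 : G); rw [Subgroup.coe_mul, Subgroup.coe_mul, hq]; exact (hsq (hord u.2.1)).1))
        · exact fun h => (hsq (hord u.2.1)).2 (by rw [← hq, h]; rfl)
    haveI : Fintype ↥Q := Fintype.ofFinite _
    rw [hb, Nat.card_eq_fintype_card, Fintype.card_subtype]
    rw [Nat.card_eq_fintype_card, Fintype.card_subtype] at h10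
    have : (Finset.univ.filter fun q : ↥Q => q * q = 1 ∧ q ≠ 1) =
        insert zq (Finset.univ.filter fun q : ↥Q => q * q = 1 ∧ q ≠ 1 ∧ q ≠ zq) := by
      ext q
      by_cases h : q = zq
      · subst h; simp [hzqq, hzq1]
      · simp [h]
    rw [this, Finset.card_insert_of_notMem (by simp), h10]
  -- the order formula
  have hform := Cfsg.Agent.S0213.result z t hz ht hzt (fun x hx => (hcl x hx).imp IsConj.symm IsConj.symm)
  rw [← hC, ← hT, hcC, hcT] at hform
  have hdih : ∀ {x u v : G}, orderOf u = 2 → orderOf v = 2 → orderOf x = 2 → x ∈ Subgroup.zpowers (u * v) →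
      Commute u x ∧ Commute v x := by
    intro x u v hu hv hx hmem
    obtain ⟨k, rfl⟩ := Subgroup.mem_zpowers_iff.mp hmem
    have hinv : ∀ c : G, c * (u * v) * c⁻¹ = (u * v)⁻¹ → Commute c ((u * v) ^ k) := by
      intro c hc
      have h1 : c * (u * v) ^ k * c⁻¹ = ((u * v) ^ k)⁻¹ := by rw [← conj_zpow, hc, inv_zpow]
      have h2 : ((u * v) ^ k)⁻¹ = (u * v) ^ k := inv_eq_of_mul_eq_one_left (hsq hx).1
      rw [h2] at h1
      exact mul_inv_eq_iff_eq_mul.mp h1
    constructor
    · refine hinv u ?_
      rw [mul_inv_rev, inv_eq_of_mul_eq_one_left (hsq hu).1, inv_eq_of_mul_eq_one_left (hsq hv).1,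
        ← mul_assoc, (hsq hu).1, one_mul]
    · refine hinv v ?_
      rw [mul_inv_rev, inv_eq_of_mul_eq_one_left (hsq hu).1, inv_eq_of_mul_eq_one_left (hsq hv).1,
        show v * (u * v) * v = v * u * (v * v) by group, (hsq hv).1, mul_one]
  -- pairs belonging to `t`
  have hat : Nat.card {p : G × G // IsConj z p.1 ∧ IsConj t p.2 ∧ t ∈ Subgroup.zpowers (p.1 * p.2)} = 195 := by
    have key : ∀ b ∈ B, b ≠ 1 → b * b = 1 → ∀ v : G,
        (IsConj t v ∧ t ∈ Subgroup.zpowers (b * v)) ↔ ∃ c ∈ B, c * c = 1 ∧ (b * c) ^ 15 = 1 ∧ v = t * c := by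
      intro b hb hb1 hb2 v
      have htb : ∀ c ∈ B, Commute t c := fun c hc => hVBc t htV c hc
      constructor
      · rintro ⟨hv, hmem⟩
        have hvT : v ∈ T := Subgroup.mem_centralizer_singleton_iff.mpr
          (hdih (htwo hb1 hb2) (hordt hv) ht hmem).2
        obtain ⟨w, hw, c, hc, rfl⟩ := hdecomp v hvT
        obtain ⟨k, hk⟩ := Subgroup.mem_zpowers_iff.mp hmem
        have hwb : Commute w b := hVBc w hw b hb
        rw [← mul_assoc b w c, ← hwb.eq, mul_assoc w b c,
          (Commute.mul_right hwb (hVBc w hw c hc : Commute w c)).mul_zpow] at hk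
        have h2 : t⁻¹ * w ^ k * (b * c) ^ k = 1 := by rw [mul_assoc, hk, inv_mul_cancel]
        obtain ⟨e1, e2⟩ := huniq _ (mul_mem (inv_mem htV) (zpow_mem hw k)) _ (zpow_mem (mul_mem hb hc) k) h2
        have e1' : w ^ k = t := (inv_mul_eq_one.mp e1).symm
        have hwsq : w * w = 1 := by rw [← pow_two]; exact hV2 w hw
        have hkodd : Odd k := by
          rw [← Int.not_even_iff_odd]
          rintro ⟨j, rfl⟩
          rw [← two_mul, zpow_mul, zpow_two, hwsq, one_zpow] at e1'
          exact (hsq ht).2 e1'.symm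
        have hwt : w = t := by
          obtain ⟨j, rfl⟩ := hkodd
          rw [zpow_add_one, zpow_mul, zpow_two, hwsq, one_zpow, one_mul] at e1'
          exact e1'
        subst hwt
        have hcc : c * c = 1 := by
          have hvv := (hsq (hordt hv)).1
          rwa [show w * c * (w * c) = w * (c * w) * c by group, ← (htb c hc).eq,
            show w * (w * c) * c = w * w * (c * c) by group, (hsq ht).1, one_mul] at hvv
        refine ⟨c, hc, hcc, ?_, rfl⟩
        have hod : Odd (orderOf (b * c)) := by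
          have hdvd : (orderOf (b * c) : ℤ) ∣ k := orderOf_dvd_iff_zpow_eq_one.mpr e2
          rw [← Nat.not_even_iff_odd]
          intro hev
          apply Int.not_even_iff_odd.mpr hkodd
          exact (even_iff_two_dvd.mpr (dvd_trans (Int.natCast_dvd_natCast.mpr (even_iff_two_dvd.mp hev)) hdvd))
        have hd60 : orderOf (b * c) ∣ 60 := by
          rw [← hB60]
          exact (Subgroup.orderOf_coe (⟨b * c, mul_mem hb hc⟩ : ↥B)) ▸ orderOf_dvd_natCard _
        refine orderOf_dvd_iff_pow_eq_one.mp ?_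
        refine Nat.Coprime.dvd_of_dvd_mul_left (k := orderOf (b * c)) (m := 4) ?_ ?_
        · simpa using (Nat.coprime_two_right.mpr hod).pow_right 2
        · simpa using hd60
      · rintro ⟨c, hc, hcc, h15, rfl⟩
        have hv2 : t * c * (t * c) = 1 := by
          rw [show t * c * (t * c) = t * (c * t) * c by group, ← (htb c hc).eq,
            show t * (t * c) * c = t * t * (c * c) by group, (hsq ht).1, one_mul, hcc]
        have hnB : t * c ∉ B := fun h => by
          have : t ∈ B := by simpa using mul_mem h (inv_mem hc)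
          exact (hsq ht).2 ((Subgroup.eq_bot_iff_forall _).mp hVBi t ⟨htV, this⟩)
        have hv1 : t * c ≠ 1 := fun h => hnB (h ▸ one_mem B)
        refine ⟨(hCt _ (mul_mem (hVT htV) (hBT hc)) (htwo hv1 hv2) hnB).symm, ?_⟩
        refine Subgroup.mem_zpowers_iff.mpr ⟨15, ?_⟩
        rw [← mul_assoc b t c, ← (htb b hb).eq, mul_assoc t b c,
          show (15 : ℤ) = ((15 : ℕ) : ℤ) from rfl, zpow_natCast,
          ((htb b hb).mul_right (htb c hc)).mul_pow, h15, mul_one]
        have : t ^ 2 = 1 := by rw [pow_two]; exact (hsq ht).1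
        rw [show (15 : ℕ) = 2 * 7 + 1 by norm_num, pow_succ, pow_mul, this, one_pow, one_mul]
    let A := {u : G // IsConj z u ∧ Commute u t}
    let e : {p : G × G // IsConj z p.1 ∧ IsConj t p.2 ∧ t ∈ Subgroup.zpowers (p.1 * p.2)} ≃
        Σ u : A, {v : G // IsConj t v ∧ t ∈ Subgroup.zpowers (u.1 * v)} :=
      { toFun := fun p => ⟨⟨p.1.1, p.2.1, (hdih (hord p.2.1) (hordt p.2.2.1) ht p.2.2.2).1⟩,
          ⟨p.1.2, p.2.2⟩⟩
        invFun := fun s => ⟨(s.1.1, s.2.1), s.1.2.1, s.2.2⟩
        left_inv := fun p => rfl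
        right_inv := fun s => rfl }
    haveI : Fintype A := Fintype.ofFinite _
    rw [Nat.card_congr e, Nat.card_sigma, Finset.sum_congr rfl (fun u _ => ?_), Finset.sum_const,
      Finset.card_univ, smul_eq_mul, ← Nat.card_eq_fintype_card, hzB15]
    · exact (rfl : 15 * 13 = 195)
    obtain ⟨hub, hu1, hu2⟩ := (hzT u.1 (Subgroup.mem_centralizer_singleton_iff.mpr u.2.2)).mp u.2.1
    rw [← a5_pairs (eB ⟨u.1, hub⟩) (fun h => hu1 (congrArg Subtype.val (eB.injective (h.trans (map_one eB).symm))))
      (by rw [← map_mul, show (⟨u.1, hub⟩ : ↥B) * ⟨u.1, hub⟩ = 1 from Subtype.ext hu2, map_one]),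
      ← hBcard (fun c => c * c = 1 ∧ (u.1 * c) ^ 15 = 1)
        (fun w => w * w = 1 ∧ (eB ⟨u.1, hub⟩ * w) ^ 15 = 1) (fun c => by
        simp only [← Subgroup.coe_mul, hone (c * c), map_mul]
        rw [show (u.1 * (c : G)) ^ 15 = ((((⟨u.1, hub⟩ : ↥B) * c) ^ 15 : ↥B) : G) from rfl, hone, map_pow, map_mul])]
    refine Nat.card_congr ((Equiv.mulLeft t).symm.subtypeEquiv fun v => ?_)
    rw [key u.1 hub hu1 hu2 v]
    simp only [Equiv.mulLeft_symm_apply]
    constructor
    · rintro ⟨c, hc, h1, h2, rfl⟩
      rw [inv_mul_cancel_left]; exact ⟨hc, h1, h2⟩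
    · rintro ⟨hc, h1, h2⟩
      exact ⟨_, hc, h1, h2, (mul_inv_cancel_left t v).symm⟩
  -- pairs belonging to `z`
  have haz : Nat.card {p : G × G // IsConj z p.1 ∧ IsConj t p.2 ∧ z ∈ Subgroup.zpowers (p.1 * p.2)} = 960 := by
    have key : ∀ u v : G, IsConj t v → Commute v z →
        ((IsConj z u ∧ z ∈ Subgroup.zpowers (u * v)) ↔ (IsConj z u ∧ Commute u z ∧ ¬ Commute u v)) := by
      intro u v hv hvz
      constructor
      · rintro ⟨hu, hmem⟩
        have huz := (hdih (hord hu) (hordt hv) hz hmem).1
        refine ⟨hu, huz, fun hc => ?_⟩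
        have h2 : (u * v) * (u * v) = 1 := by
          rw [show u * v * (u * v) = u * (v * u) * v by group, ← hc.eq,
            show u * (u * v) * v = u * u * (v * v) by group, (hsq (hord hu)).1, (hsq (hordt hv)).1, one_mul]
        obtain ⟨k, hk⟩ := Subgroup.mem_zpowers_iff.mp hmem
        rcases Int.even_or_odd k with ⟨j, rfl⟩ | ⟨j, rfl⟩
        · rw [← two_mul, zpow_mul, zpow_two, h2, one_zpow] at hk
          exact hz1 hk.symm
        · rw [zpow_add_one, zpow_mul, zpow_two, h2, one_zpow, one_mul] at hk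
          have hvC : v ∈ C := Subgroup.mem_centralizer_singleton_iff.mpr hvz
          have huC : u ∈ C := Subgroup.mem_centralizer_singleton_iff.mpr huz
          apply htC v hvC hv
          have : v = u * z := by rw [← hk, ← mul_assoc, (hsq (hord hu)).1, one_mul]
          rw [this]
          exact mul_mem (hzC' u huC hu) ⟨zc, hzcQ, rfl⟩
      · rintro ⟨hu, huz, hnc⟩
        refine ⟨hu, ?_⟩
        have hvv := (hsq (hordt hv)).1
        have huz' : u ≠ z := fun h => hnc (h ▸ hvz.symm)
        set u' := v * u * v with hu'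
        have hu'c : IsConj z u' := hu.trans (isConj_iff.mpr ⟨v, by
          rw [hu', inv_eq_of_mul_eq_one_left hvv]⟩)
        have hu'z : Commute u' z := ((hvz.mul_left huz).mul_left hvz)
        obtain ⟨q, hq⟩ := hlift (hzC' u (Subgroup.mem_centralizer_singleton_iff.mpr huz) hu)
        obtain ⟨q', hq'⟩ := hlift (hzC' u' (Subgroup.mem_centralizer_singleton_iff.mpr hu'z) hu'c)
        have hqq : ∀ {q : ↥Q} {u : G}, ((q : ↥C) : G) = u → IsConj z u → u ≠ z →
            q * q = 1 ∧ q ≠ 1 ∧ q ≠ zq := by
          intro q u hq hu hne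
          refine ⟨Subtype.ext (Subtype.ext ?_), fun h => (hsq (hord hu)).2 (by rw [← hq, h]; rfl),
            fun h => hne (by rw [← hq, h])⟩
          show _ = (1 : G)
          rw [Subgroup.coe_mul, Subgroup.coe_mul, hq]; exact (hsq (hord hu)).1
        have hu'ne : u' ≠ z := fun h => huz' (by
          have h' : v * u' * v = u := by
            rw [hu', show v * (v * u * v) * v = v * v * u * (v * v) by group, hvv, one_mul, mul_one]
          rw [h, hvz.eq, mul_assoc, hvv, mul_one] at h'
          exact h'.symm)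
        obtain ⟨a1, a2, a3⟩ := hqq hq hu huz'
        obtain ⟨b1, b2, b3⟩ := hqq hq' hu'c hu'ne
        have hsq2 : (u * v) * (u * v) = u * u' := by rw [hu']; group
        rcases hcommQ q q' with hc | hc
        · rcases hne8 q q' a1 a2 a3 b1 b2 b3 hc with h | h
          · exfalso
            apply hnc
            have : u' = u := by rw [← hq', h, hq]
            show u * v = v * u
            calc u * v = u' * v := by rw [this]
              _ = v * u := by rw [hu', mul_assoc, hvv, mul_one]
          · have : u * u' = z := by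
              rw [← hq', h, Subgroup.coe_mul, Subgroup.coe_mul, hq, ← mul_assoc, (hsq (hord hu)).1, one_mul]
            rw [← this, ← hsq2]
            exact mul_mem (Subgroup.mem_zpowers _) (Subgroup.mem_zpowers _)
        · have hc' : u * u' = u' * u * z := by
            rw [← hq, ← hq']; exact congrArg (fun x : ↥Q => ((x : ↥C) : G)) hc
          have h4 : u * u' * (u * u') = z := by
            calc u * u' * (u * u') = u * u' * (u' * u * z) := by conv_lhs => arg 2; rw [hc']
              _ = u * (u' * u') * u * z := by group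
              _ = z := by rw [(hsq (hord hu'c)).1, mul_one, (hsq (hord hu)).1, one_mul]
          rw [← h4, ← hsq2]
          exact mul_mem (mul_mem (Subgroup.mem_zpowers _) (Subgroup.mem_zpowers _))
            (mul_mem (Subgroup.mem_zpowers _) (Subgroup.mem_zpowers _))
    let A := {v : G // IsConj t v ∧ Commute v z}
    let e : {p : G × G // IsConj z p.1 ∧ IsConj t p.2 ∧ z ∈ Subgroup.zpowers (p.1 * p.2)} ≃
        Σ v : A, {u : G // IsConj z u ∧ z ∈ Subgroup.zpowers (u * v.1)} :=
      { toFun := fun p => ⟨⟨p.1.2, p.2.2.1, (hdih (hord p.2.1) (hordt p.2.2.1) hz p.2.2.2).2⟩,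
          ⟨p.1.1, p.2.1, p.2.2.2⟩⟩
        invFun := fun s => ⟨(s.2.1, s.1.1), s.2.2.1, s.1.2.1, s.2.2.2⟩
        left_inv := fun p => rfl
        right_inv := fun s => rfl }
    haveI : Fintype A := Fintype.ofFinite _
    rw [Nat.card_congr e, Nat.card_sigma, Finset.sum_congr rfl (fun v _ => ?_), Finset.sum_const,
      Finset.card_univ, smul_eq_mul, ← Nat.card_eq_fintype_card, hN]
    · exact (rfl : 120 * 8 = 960)
    haveI : Fintype G := Fintype.ofFinite _
    rw [Nat.card_congr (Equiv.subtypeEquivRight fun u => key u v.1 v.2.1 v.2.2),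
      Nat.card_eq_fintype_card, Fintype.card_subtype]
    have h3 := hthree v.1 v.2.1 v.2.2
    rw [Nat.card_eq_fintype_card, Fintype.card_subtype] at h3
    have h11' := h11
    rw [Nat.card_eq_fintype_card, Fintype.card_subtype] at h11'
    have hs := Finset.card_filter_add_card_filter_not
      (s := Finset.univ.filter fun u : G => IsConj z u ∧ Commute u z) (fun u => Commute u v.1)
    simp only [Finset.filter_filter, and_assoc] at hs
    omega
  rw [haz, hat] at hform
  omega

end Cfsg.Agent.S3313
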