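import Cfsg.Statements.S3317
import Cfsg.Agent.J4Local.FromHyp
import Cfsg.Agent.J4Local.Recognition

set_option autoImplicit false
open Cfsg

namespace Cfsg.Agent.S3317

/-- Let G be a finite group of characteristic 2 type with an element x of order 3 whose centralizer is the perfect sixfold cover of M₂₂ (perfect, cyclic centre of order 6, central quotient isomorphic to M₂₂). Suppose G is not 3-normal: the centre of some Sylow 3-subgroup S has a conjugate lying in S other than itself. Then G is of Janko-four type: some involution z has centralizer H whose largest normal 2-subgroup E is extraspecial of order 2^13 containing its centralizer in H, with a normal subgroup N ≥ E of H, N/E of order 3, H/N the automorphism group of M₂₂, and a subgroup P ≤ N of order 3 with C_E(P) = ⟨z⟩, N_H(P) ≠ C_H(P) and P ≤ C_H(P)′. -/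
theorem result {G : Type*} [Group G] [Finite G] (h2 : Cfsg.IsCharacteristicTwoType G) (x : G) (hx : orderOf x = 3) (hperf : ⁅(⊤ : Subgroup ↥(Subgroup.centralizer ({x} : Set G))), (⊤ : Subgroup ↥(Subgroup.centralizer ({x} : Set G)))⁆ = ⊤) (hZ : IsCyclic ↥(Subgroup.center ↥(Subgroup.centralizer ({x} : Set G)))) (hZc : Nat.card ↥(Subgroup.center ↥(Subgroup.centralizer ({x} : Set G))) = 6) (e : ↥(Subgroup.centralizer ({x} : Set G)) ⧸ Subgroup.center ↥(Subgroup.centralizer ({x} : Set G)) ≃* ↥Cfsg.Spor.M22) (S : Sylow 3 G) (g : G) (hng : ((Subgroup.center ↥(S : Subgroup G)).map (S : Subgroup G).subtype).map (MulAut.conj g).toMonoidHom ≤ (S : Subgroup G)) (hne : ((Subgroup.center ↥(S : Subgroup G)).map (S : Subgroup G).subtype).map (MulAut.conj g).toMonoidHom ≠ ((Subgroup.center ↥(S : Subgroup G)).map (S : Subgroup G).subtype)) :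
    Cfsg.IsOfJankoFourType G := by
  obtain ⟨t, π, hc⟩ := J4Local.exists_cover x hx hperf hZ hZc e S g hng hne
  have hch : J4Local.CharTwo t := by
    intro y hy hye
    have hN : Subgroup.normalizer ((Subgroup.zpowers t : Subgroup G) : Set G) = J4Local.Cent t := by
      refine le_antisymm (fun n hn => ?_) fun n hn => ?_
      · have hm := (Subgroup.mem_normalizer_iff.1 hn t).1 (Subgroup.mem_zpowers t)
        rcases J4Local.zpowers_t hc hm with h1 | h1
        · exact absurd (conj_eq_one_iff.1 h1) (J4Local.t_ne hc)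
        · exact J4Local.mem_Cent.2 (mul_inv_eq_iff_eq_mul.1 h1)
      · exact J4Local.H_le_norm_t hc hn
    have h : Cfsg.IsOfCharacteristicTwo ↥(J4Local.Cent t) := hN ▸ h2.2 (Subgroup.zpowers t)
      (IsPGroup.of_card (n := 1) (by rw [Nat.card_zpowers, hc.ot, pow_one]))
      (fun hb => J4Local.t_ne hc (Subgroup.zpowers_eq_bot.1 hb))
    refine ⟨⟨y, hy⟩, h (Subgroup.mem_centralizer_iff.2 fun d hd => Subtype.ext ?_), rfl⟩
    exact (hye d.1 ⟨d, hd, rfl⟩).symm
  exact ⟨t, Subgroup.zpowers x, J4Local.jankoFour hc hch⟩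

end Cfsg.Agent.S3317
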