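import Cfsg.Statements.S3322
import Cfsg.Agent.DGroupPSL.RankTwo
import Cfsg.Agent.DGroupPSL.Final

set_option autoImplicit false
open Cfsg

namespace Cfsg.Agent.S3322

/-- Call a group a D-group when it has a proper subgroup outside of which every element x satisfies x² = 1 (for instance a dihedral group, or an elementary abelian 2-group). Let G be a finite group with a subgroup H that is a D-group (witnessed by a proper subgroup A of H) of order divisible by 4, such that H = C_G(j) for every involution j in the centre of H. If G is not solvable, then G has a normal subgroup N whose order is odd or twice an odd number with G/N isomorphic to PSL(2, q) or PGL(2, q) for some prime power q > 3 (q may be even). -/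
theorem result
    {G : Type*} [Group G] [Finite G] (H A : Subgroup G) (hAH : A < H) (hD : ∀ x ∈ H, x ∉ A → x ^ 2 = 1)
    (h4 : 4 ∣ Nat.card ↥H)
    (hC : ∀ j ∈ H, orderOf j = 2 → (∀ h ∈ H, h * j = j * h) → Subgroup.centralizer ({j} : Set G) = H)
    (hns : ¬ Group.IsSolvable G) :
    ∃ (N : Subgroup G) (_ : N.Normal), (Odd (Nat.card ↥N) ∨ ∃ m : ℕ, Odd m ∧ Nat.card ↥N = 2 * m) ∧
      ∃ (F : Type) (_ : Field F) (_ : Fintype F), 3 < Fintype.card F ∧
        (Nonempty (G ⧸ N ≃* Matrix.ProjectiveSpecialLinearGroup (Fin 2) F) ∨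
          Nonempty (G ⧸ N ≃* Matrix.ProjGenLinGroup (Fin 2) F)) := by
  classical
  by_cases hel : ∀ x ∈ H, x * x = 1
  · refine DGroupPSL.elementary_case H hel h4 (fun j hj hj1 => hC j hj
      (orderOf_eq_prime (by rw [pow_two]; exact hel j hj) hj1) fun h hh => ?_) hns
    have hi : ∀ y ∈ H, y⁻¹ = y := fun y hy => inv_eq_of_mul_eq_one_right (hel y hy)
    have h1 := hi _ (H.mul_mem hh hj)
    rw [mul_inv_rev, hi h hh, hi j hj] at h1
    exact h1.symm
  push Not at hel
  obtain ⟨hsq, hinv, hcomm, hidx, hne, hx, j, hjA, hj⟩ := DGroupPSL.dgroup_facts H A hAH hD h4 hel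
  have hC' : ∀ i ∈ A, orderOf i = 2 → Subgroup.centralizer ({i} : Set G) = H := by
    intro i hi hi2
    refine hC i (hAH.le hi) hi2 fun h hh => ?_
    by_cases hA : h ∈ A
    · exact (hcomm h hA i hi).eq
    · have h1 := hinv h hh hA i hi
      have h2 : i⁻¹ = i := inv_eq_of_mul_eq_one_right
        (by rw [← pow_two]; exact orderOf_dvd_iff_pow_eq_one.1 hi2.dvd)
      rw [h2] at h1
      exact mul_inv_eq_iff_eq_mul.1 h1
  by_cases htwo : ∃ i ∈ A, ∃ j ∈ A, orderOf i = 2 ∧ orderOf j = 2 ∧ i ≠ j
  · exact DGroupPSL.rank_two_case H A hAH.le hcomm hidx hx hsq hinv hne htwo hC' hns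
  push Not at htwo
  exact DGroupPSL.rank_one_case H A hsq hcomm hidx j hjA hj
    (fun i hi hi2 => htwo i hi j hjA hi2 hj) (hC' j hjA hj) hns

end Cfsg.Agent.S3322
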