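import Cfsg.Statements.S3324
import Cfsg.Agent.PSp4Local.Local

set_option autoImplicit false
open Cfsg

namespace Cfsg.Agent.S3324

/-- Let p be an odd prime and q = pⁿ with q ≡ 3 (mod 4), and let C₀ be the centralizer in PSp(4, q) of an element x of order p lying in the centre of a Sylow p-subgroup. Let G be a finite group with an element α of order p such that C_G(α) ≅ C₀, such that C_G(z) = C_G(α) for every nontrivial z in the centre of C_G(α), and in which not all elements of order p that are central in some Sylow p-subgroup are conjugate. Let P be a Sylow p-subgroup of G contained in C_G(α) (P has order q⁴) and M an elementary abelian subgroup of P of order q³. If N_G(M) does not have a normal Sylow p-subgroup, then M has a complement J in N_G(M) with J isomorphic to PGL(2, q) × C, C cyclic of order (q − 1)/2. -/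
theorem result
    {G : Type*} [Group G] [Finite G] {F : Type*} [Field F] [Fintype F] (p n : ℕ) [Fact p.Prime] (hp : p ≠ 2)
    (hn : 1 ≤ n) (hq4 : p ^ n % 4 = 3) (hF : Fintype.card F = p ^ n)
    (x : Cfsg.PSp 2 F) (hx : orderOf x = p) (Px : Sylow p (Cfsg.PSp 2 F)) (hxP : x ∈ (Px : Subgroup (Cfsg.PSp 2 F)))
    (hxc : ∀ y ∈ (Px : Subgroup (Cfsg.PSp 2 F)), y * x = x * y)
    (α : G) (hα : orderOf α = p)
    (e : ↥(Subgroup.centralizer ({α} : Set G)) ≃* ↥(Subgroup.centralizer ({x} : Set (Cfsg.PSp 2 F))))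
    (hb : ∀ z ∈ Subgroup.centralizer ({α} : Set G), z ≠ 1 → (∀ c ∈ Subgroup.centralizer ({α} : Set G), c * z = z * c) →
      Subgroup.centralizer ({z} : Set G) = Subgroup.centralizer ({α} : Set G))
    (hc : ∃ (u v : G) (Pu Pv : Sylow p G), orderOf u = p ∧ orderOf v = p ∧
      u ∈ (Pu : Subgroup G) ∧ (∀ y ∈ (Pu : Subgroup G), y * u = u * y) ∧
      v ∈ (Pv : Subgroup G) ∧ (∀ y ∈ (Pv : Subgroup G), y * v = v * y) ∧ ∀ g : G, g * u * g⁻¹ ≠ v)
    (P : Sylow p G) (hP : (P : Subgroup G) ≤ Subgroup.centralizer ({α} : Set G))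
    (M : Subgroup G) (hMP : M ≤ P) (hMc : IsMulCommutative ↥M) (hMe : ∀ m ∈ M, m ^ p = 1) (hMcard : Nat.card ↥M = p ^ (3 * n))
    (hnc : ∃ Q R : Sylow p ↥(Subgroup.normalizer (M : Set G)), Q ≠ R) :
    ∃ J : Subgroup G, J ≤ Subgroup.normalizer (M : Set G) ∧ M ⊔ J = Subgroup.normalizer (M : Set G) ∧ M ⊓ J = ⊥ ∧
      Nonempty (↥J ≃* (Matrix.ProjGenLinGroup (Fin 2) F × Multiplicative (ZMod ((p ^ n - 1) / 2)))) := by
  have h4 : Fintype.card F % 4 = 3 := hF ▸ hq4
  obtain ⟨e0⟩ := PSp4Local.exists_model hn hF hp (PSp4Local.two_ne h4) x hx Px hxP hxc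
  set C := Subgroup.centralizer ({α} : Set G)
  let e1 : PSp4Local.St F ≃* C := e0.trans e.symm
  let S0 : Sylow p (PSp4Local.Sp4 F) := Sylow.ofCard _ (PSp4Local.sylow_card hn hF hp)
  let S1 : Sylow p (PSp4Local.St F) := S0.subtype (Subgroup.map_subtype_le _)
  let S2 : Sylow p C := S1.mapSurjective (f := e1.toMonoidHom) e1.surjective
  obtain ⟨c, hc'⟩ := MulAction.exists_smul_eq C S2 (P.subtype hP)
  let κ : PSp4Local.St F →* G :=
    C.subtype.comp ((MulAut.conj c).toMonoidHom.comp e1.toMonoidHom)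
  have hS1 : (S1 : Subgroup (PSp4Local.St F)) = PSp4Local.U4 F :=
    Subgroup.comap_map_eq_self_of_injective (PSp4Local.St F).subtype_injective _
  have himg : (PSp4Local.U4 F).map κ = (P : Subgroup G) := by
    have h := congrArg (fun Q : Sylow p C => (Q : Subgroup C).map C.subtype) hc'
    simp only [Sylow.coe_subgroup_smul, Sylow.coe_subtype,
      Subgroup.map_subgroupOf_eq_of_le hP] at h
    rw [← h, show κ = C.subtype.comp ((MulAut.conj c).toMonoidHom.comp e1.toMonoidHom) from rfl,
      ← Subgroup.map_map, ← Subgroup.map_map]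
    congr 1
    rw [← hS1]
    rfl
  have hrange : κ.range = C := by
    ext g
    constructor
    · rintro ⟨t, rfl⟩
      exact ((MulAut.conj c) (e1 t)).2
    · intro hg
      refine ⟨e1.symm ((MulAut.conj c).symm ⟨g, hg⟩), ?_⟩
      show ((MulAut.conj c) (e1 (e1.symm ((MulAut.conj c).symm ⟨g, hg⟩)))).1 = g
      rw [MulEquiv.apply_symm_apply, MulEquiv.apply_symm_apply]
  have L : PSp4Local.Loc n κ α P M :=
    { hp2 := hp
      hn := hn
      card := hF
      mod4 := h4
      inj := C.subtype_injective.comp ((MulAut.conj c).injective.comp e1.injective)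
      range := hrange
      img := himg
      le := hMP
      comm := fun a ha b hb' => congrArg Subtype.val (hMc.is_comm.comm ⟨a, ha⟩ ⟨b, hb'⟩)
      cardM := hMcard
      hb := hb
      hc := hc
      hnc := hnc }
  exact L.exists_complement

end Cfsg.Agent.S3324
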