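import Cfsg.Statements.S3330
import Cfsg.Agent.S8ThreeLocal.ExcFinish

set_option autoImplicit false
open Cfsg

namespace Cfsg.Agent.S3330

open Cfsg.Agent.S8ThreeLocal

theorem dihedral_squares : ∀ a b : DihedralGroup 4 × Multiplicative (ZMod 2), a * a ≠ 1 → b * b ≠ 1 → a * a = b * b := by
  decide

/-- The squares outside `D` in its normaliser agree modulo `D`. -/
theorem sq_of_quotient {G : Type*} [Group G] (D : Subgroup G) (E : Subgroup G)
    (e : Subgroup.normalizer (D : Set G) ⧸ D.subgroupOf (Subgroup.normalizer (D : Set G)) ≃* DihedralGroup 4 × Multiplicative (ZMod 2))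
    (k : G) (hk : ∀ x, x ∈ D ↔ k * x * k⁻¹ ∈ E) (a b : G) (ha : a ∈ Subgroup.normalizer (E : Set G))
    (hb : b ∈ Subgroup.normalizer (E : Set G)) (ha2 : a * a ∉ E) (hb2 : b * b ∉ E) : (a * a)⁻¹ * (b * b) ∈ E := by
  have hn : ∀ x, x ∈ Subgroup.normalizer (E : Set G) → k⁻¹ * x * k ∈ Subgroup.normalizer (D : Set G) := by
    intro x hx
    rw [Subgroup.mem_normalizer_iff] at hx ⊢
    intro y
    rw [hk y, hk, hx, show k * (k⁻¹ * x * k * y * (k⁻¹ * x * k)⁻¹) * k⁻¹ = x * (k * y * k⁻¹) * x⁻¹ by group]
  let π := (e.toMonoidHom.comp (QuotientGroup.mk' (D.subgroupOf (Subgroup.normalizer (D : Set G)))))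
  have hπ : ∀ x : Subgroup.normalizer (D : Set G), π x = 1 ↔ k * (x : G) * k⁻¹ ∈ E := by
    intro x
    rw [← hk]
    simp [π, Subgroup.mem_subgroupOf]
  let A : Subgroup.normalizer (D : Set G) := ⟨_, hn a ha⟩
  let B : Subgroup.normalizer (D : Set G) := ⟨_, hn b hb⟩
  have hA : π A * π A ≠ 1 := fun h1 => ha2 (by
    rw [← map_mul, hπ] at h1
    rwa [show k * ((A * A : Subgroup.normalizer (D : Set G)) : G) * k⁻¹ = a * a by simp [A, mul_assoc]] at h1)
  have hB : π B * π B ≠ 1 := fun h1 => hb2 (by
    rw [← map_mul, hπ] at h1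
    rwa [show k * ((B * B : Subgroup.normalizer (D : Set G)) : G) * k⁻¹ = b * b by simp [B, mul_assoc]] at h1)
  have h2 : π ((A * A)⁻¹ * (B * B)) = 1 := by
    rw [map_mul, map_inv, map_mul, map_mul, dihedral_squares _ _ hA hB, inv_mul_cancel]
  rw [hπ] at h2
  rwa [show k * (((A * A)⁻¹ * (B * B) : Subgroup.normalizer (D : Set G)) : G) * k⁻¹ = (a * a)⁻¹ * (b * b) by
    simp [A, B, mul_assoc]] at h2

/-- A 3-local characterization of the symmetric group of degree 8, with one exceptional configuration. Let G be a finite group whose Sylow 3-subgroup D is elementary abelian of order 9, generated by y and z, and suppose: (i) C_G(D) has order 18, N_G(D)/D is isomorphic to the direct product of a dihedral group of order 8 and a group of order 2, and N_G(D)/C_G(D) is dihedral of order 8; (ii) D is normal in C_G(y), C_G(y) has order 36 with every square lying in D, D is normal in N_G(⟨y⟩), and N_G(⟨y⟩) has order 72 with every square lying in D; (iii) C_G(z) is isomorphic to the direct product of a cyclic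 group of order 3 and Sym(5), and N_G(⟨z⟩) is isomorphic to Sym(3) × Sym(5). Then either G is isomorphic to the symmetric group of degree 8, or the generalized Fitting subgroup of G is a minimal normal subgroup isomorphic to Alt(5) × Alt(5) of index 4 with every square of G lying in it. -/
theorem result {G : Type*} [Group G] [Finite G]
    (P : Sylow 3 G) (D : Subgroup G) (hDP : D = P) (y z : G) (hgen : Subgroup.closure {y, z} = D)
    (hcomm : IsMulCommutative D) (hcard : Nat.card D = 9) (hexp : ∀ a ∈ D, a ^ 3 = 1)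
    (hC : Nat.card (Subgroup.centralizer (D : Set G)) = 18)
    (eN : Subgroup.normalizer (D : Set G) ⧸ D.subgroupOf (Subgroup.normalizer (D : Set G)) ≃* DihedralGroup 4 × Multiplicative (ZMod 2))
    [hcn : ((Subgroup.centralizer (D : Set G)).subgroupOf (Subgroup.normalizer (D : Set G))).Normal]
    (eNC : Subgroup.normalizer (D : Set G) ⧸ (Subgroup.centralizer (D : Set G)).subgroupOf (Subgroup.normalizer (D : Set G)) ≃* DihedralGroup 4)
    (hyn : (D.subgroupOf (Subgroup.centralizer ({y} : Set G))).Normal)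
    (hycard : Nat.card (Subgroup.centralizer ({y} : Set G)) = 36)
    (hysq : ∀ g ∈ Subgroup.centralizer ({y} : Set G), g ^ 2 ∈ D)
    (Ny : Subgroup G) (hNy : Ny = Subgroup.normalizer (Subgroup.zpowers y : Set G))
    (hyNn : (D.subgroupOf Ny).Normal) (hyNcard : Nat.card Ny = 72) (hyNsq : ∀ g ∈ Ny, g ^ 2 ∈ D)
    (eC : Subgroup.centralizer ({z} : Set G) ≃* Multiplicative (ZMod 3) × Equiv.Perm (Fin 5))
    (eL : Subgroup.normalizer (Subgroup.zpowers z : Set G) ≃* Equiv.Perm (Fin 3) × Equiv.Perm (Fin 5)) :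
    Nonempty (G ≃* Equiv.Perm (Fin 8)) ∨
      ∃ N : Subgroup G, N.Normal ∧ Cfsg.generalizedFittingSubgroup G = N ∧
        Nonempty (N ≃* alternatingGroup (Fin 5) × alternatingGroup (Fin 5)) ∧
        (∀ K : Subgroup G, K.Normal → K ≤ N → K = ⊥ ∨ K = N) ∧
        N.index = 4 ∧ ∀ g : G, g ^ 2 ∈ N := by
  have hNcard : Nat.card (Subgroup.normalizer (D : Set G) ⧸ D.subgroupOf (Subgroup.normalizer (D : Set G))) = 16 := by
    rw [Nat.card_congr eN.toEquiv, Nat.card_prod, DihedralGroup.nat_card, Nat.card_congr Multiplicative.toAdd,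
      Nat.card_zmod]
  have hzcard : Nat.card (Subgroup.centralizer ({z} : Set G)) = 360 := by
    rw [Nat.card_congr eC.toEquiv, Nat.card_prod, Nat.card_congr Multiplicative.toAdd, Nat.card_zmod, Nat.card_perm,
      Nat.card_fin]
    rfl
  obtain ⟨h⟩ := exists_hyp P D hDP y z hgen hcomm hcard hexp hC hNcard eNC hyn hycard hysq hzcard eL
  rcases h.i_t with hs | hse
  · right
    have hs' : h.i * h.t * h.i = h.s := hs
    obtain ⟨k, hk⟩ := h.conj_D D hcard
    have hmap : D.map (MulAut.conj k).toMonoidHom = h.D := by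
      refine Subgroup.eq_of_le_of_card_ge ?_ ?_
      · rintro _ ⟨x, hx, rfl⟩; exact hk x hx
      · rw [h.card_D, Subgroup.card_map_of_injective (MulAut.conj k).injective, hcard]
    have X : Exc h := ⟨hs', h.s_comm hs', fun a ha b hb => sq_of_quotient D h.D eN k (fun x => ⟨hk x, fun hx => by
      rw [← hmap] at hx
      obtain ⟨x', hx', e⟩ := hx
      exact (MulAut.conj k).injective e ▸ hx'⟩) a b ha hb⟩
    exact X.conclusion
  · left
    have hse' : h.i * h.t * h.i = h.s * h.e := hse.trans (map_mul h.psi sP eP)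
    obtain ⟨S⟩ := h.se_split hse'
    exact S.nonempty_iso hse'

end Cfsg.Agent.S3330
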