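import Cfsg.Statements.S3333
import Cfsg.Agent.ThreeTINine.Wreath

set_option autoImplicit false
open Cfsg
open Cfsg.Agent

namespace Cfsg.Agent.S3333

/-- Let G be a finite group with a Sylow 3-subgroup S of order 9 that is its own centralizer, with N_G(S)/S dihedral of order 8, and such that C_G(x) ≤ N_G(S) for every non-identity x in S. Then S is normal in G or G is isomorphic to the symmetric group of degree 6. -/
theorem result {G : Type*} [Group G] [Finite G]
    (P : Sylow 3 G) (S : Subgroup G) (hSP : S = P) (hcard : Nat.card S = 9)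
    (hC : Subgroup.centralizer (S : Set G) = S)
    (eN : Subgroup.normalizer (S : Set G) ⧸ S.subgroupOf (Subgroup.normalizer (S : Set G)) ≃* DihedralGroup 4)
    (hcent : ∀ x ∈ S, x ≠ 1 → Subgroup.centralizer ({x} : Set G) ≤ Subgroup.normalizer (S : Set G)) :
    S.Normal ∨ Nonempty (G ≃* Equiv.Perm (Fin 6)) := by
  classical
  haveI : Fact (Nat.Prime 3) := ⟨Nat.prime_three⟩
  haveI : Fact (Nat.Prime 2) := ⟨Nat.prime_two⟩
  subst hSP
  set N := Subgroup.normalizer ((P : Subgroup G) : Set G) with hN
  set S0 := (P : Subgroup G).subgroupOf N with hS0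
  haveI hn : S0.Normal := (Subgroup.normal_subgroupOf_iff_le_normalizer Subgroup.le_normalizer).2 le_rfl
  have hab : IsMulCommutative (P : Subgroup G) :=
    IsPGroup.isMulCommutative_of_card_eq_prime_sq (p := 3) (by rw [hcard]; norm_num)
  have hcomm : ∀ x ∈ (P : Subgroup G), ∀ y ∈ (P : Subgroup G), x * y = y * x :=
    fun x hx y hy => congrArg Subtype.val (hab.is_comm.comm ⟨x, hx⟩ ⟨y, hy⟩)
  have hexp : ∀ m ∈ (P : Subgroup G), m ^ 3 = 1 := by
    intro m hm
    by_contra hne
    have hd : orderOf m ∣ 3 ^ 2 := by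
      have := orderOf_dvd_natCard (G := (P : Subgroup G)) ⟨m, hm⟩
      rw [hcard] at this
      rwa [Subgroup.orderOf_mk] at this
    obtain ⟨i, hi, e⟩ := (Nat.dvd_prime_pow Nat.prime_three).1 hd
    have hi2 : i = 2 := by
      by_contra hi'
      refine hne (orderOf_dvd_iff_pow_eq_one.1 ?_)
      rw [e]
      exact (pow_dvd_pow 3 (show i ≤ 1 by omega)).trans (by norm_num)
    have hgen : Subgroup.zpowers m = P := Subgroup.eq_of_le_of_card_ge (Subgroup.zpowers_le.2 hm)
      (by rw [hcard, Nat.card_zpowers, e, hi2]; norm_num)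
    have hconj : ∀ g ∈ N, ∃ i : ℤ, g * m * g⁻¹ = m ^ i := fun g hg => by
      have := (Subgroup.mem_normalizer_iff.1 hg m).1 hm
      rw [← hgen] at this
      obtain ⟨i, hi⟩ := Subgroup.mem_zpowers_iff.1 this
      exact ⟨i, hi.symm⟩
    have key : ∀ a b : ↥N ⧸ S0, a * b = b * a := by
      intro a b
      obtain ⟨g, rfl⟩ := QuotientGroup.mk_surjective a
      obtain ⟨k, rfl⟩ := QuotientGroup.mk_surjective b
      rw [← QuotientGroup.mk_mul, ← QuotientGroup.mk_mul, QuotientGroup.eq, Subgroup.mem_subgroupOf,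
        ← SetLike.mem_coe]
      show (((g * k)⁻¹ * (k * g) : ↥N) : G) ∈ (P : Subgroup G)
      rw [← hC]
      refine Subgroup.mem_centralizer_iff.2 fun y hy => ?_
      rw [SetLike.mem_coe, ← hgen] at hy
      obtain ⟨j, rfl⟩ := Subgroup.mem_zpowers_iff.1 hy
      have hc : Commute (((g * k)⁻¹ * (k * g) : ↥N) : G) m := by
        obtain ⟨i, hi⟩ := hconj g g.2
        obtain ⟨l, hl⟩ := hconj k k.2
        have hgk : ((g : G) * k) * m * ((g : G) * k)⁻¹ = m ^ (i * l) := by
          calc ((g : G) * k) * m * ((g : G) * k)⁻¹ = (g : G) * ((k : G) * m * (k : G)⁻¹) * (g : G)⁻¹ := by group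
            _ = MulAut.conj (g : G) (m ^ l) := by rw [hl]; rfl
            _ = m ^ (i * l) := by rw [map_zpow, MulAut.conj_apply, hi, ← zpow_mul]
        have hkg : ((k : G) * g) * m * ((k : G) * g)⁻¹ = m ^ (i * l) := by
          calc ((k : G) * g) * m * ((k : G) * g)⁻¹ = (k : G) * ((g : G) * m * (g : G)⁻¹) * (k : G)⁻¹ := by group
            _ = MulAut.conj (k : G) (m ^ i) := by rw [hi]; rfl
            _ = m ^ (i * l) := by rw [map_zpow, MulAut.conj_apply, hl, ← zpow_mul, mul_comm]
        show ((g : G) * k)⁻¹ * ((k : G) * g) * m = m * (((g : G) * k)⁻¹ * ((k : G) * g))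
        calc ((g : G) * k)⁻¹ * ((k : G) * g) * m
            = ((g : G) * k)⁻¹ * (((k : G) * g) * m * ((k : G) * g)⁻¹) * ((k : G) * g) := by group
          _ = ((g : G) * k)⁻¹ * (((g : G) * k) * m * ((g : G) * k)⁻¹) * ((k : G) * g) := by rw [hkg, hgk]
          _ = m * (((g : G) * k)⁻¹ * ((k : G) * g)) := by group
      exact ((hc.zpow_right j).eq).symm
    have : ∀ a b : DihedralGroup 4, a * b = b * a := fun a b => eN.symm.injective (by
      rw [map_mul, map_mul]; exact key _ _)
    exact absurd (this (DihedralGroup.sr 0) (DihedralGroup.sr 1)) (by decide)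
  have hN72 : Nat.card N = 72 := by
    have h1 := S0.card_mul_index
    rw [Nat.card_congr (Subgroup.subgroupOfEquivOfLe Subgroup.le_normalizer).toEquiv, hcard,
      Subgroup.index_eq_card, Nat.card_congr eN.toEquiv, DihedralGroup.nat_card] at h1
    exact h1.symm
  obtain ⟨S2⟩ : Nonempty (Sylow 2 ↥N) := inferInstance
  have hS2 : Nat.card (S2 : Subgroup ↥N) = 8 := by
    rw [S2.card_eq_multiplicity, hN72, show (72 : ℕ) = 2 ^ 3 * 9 by norm_num,
      Nat.factorization_mul (by norm_num) (by norm_num), Finsupp.add_apply,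
      Nat.prime_two.factorization_pow, Finsupp.single_eq_same,
      Nat.factorization_eq_zero_of_not_dvd (by norm_num : ¬ 2 ∣ 9)]
    norm_num
  let f : (S2 : Subgroup ↥N) →* DihedralGroup 4 :=
    eN.toMonoidHom.comp ((QuotientGroup.mk' S0).comp (S2 : Subgroup ↥N).subtype)
  have hf : Function.Injective f := by
    rw [injective_iff_map_eq_one]
    intro x hx
    have hx' : (x : ↥N) ∈ S0 := (QuotientGroup.eq_one_iff _).1 (eN.map_eq_one_iff.1 hx)
    have h3 : x ^ 3 = 1 := Subtype.ext (Subtype.ext (hexp _ hx'))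
    have h8 : x ^ 8 = 1 := hS2 ▸ pow_card_eq_one'
    calc x = x ^ 9 * (x ^ 8)⁻¹ := by group
      _ = 1 := by rw [h8, show 9 = 3 * 3 from rfl, pow_mul, h3]; group
  let e : (S2 : Subgroup ↥N) ≃* DihedralGroup 4 := MulEquiv.ofBijective f
    (hf.bijective_of_nat_card_le (by rw [hS2, DihedralGroup.nat_card]))
  let ι : DihedralGroup 4 →* G := (N.subtype.comp (S2 : Subgroup ↥N).subtype).comp e.symm.toMonoidHom
  have hι : Function.Injective ι :=
    (N.subtype_injective.comp (S2 : Subgroup ↥N).subtype_injective).comp e.symm.injective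
  have gens : ThreeWreath.Gens P (ι (DihedralGroup.sr 0)) (ι (DihedralGroup.sr 1)) :=
    { comm := hcomm
      cube := hexp
      card := hcard
      cent := hC
      loc := hcent
      card_N := hN72
      tN := (e.symm (DihedralGroup.sr 0) : ↥N).2
      wN := (e.symm (DihedralGroup.sr 1) : ↥N).2
      t_sq := by rw [← map_mul]; exact (congrArg ι (by decide)).trans ι.map_one
      w_sq := by rw [← map_mul]; exact (congrArg ι (by decide)).trans ι.map_one
      four := by simp only [← map_mul]; exact (congrArg ι (by decide)).trans ι.map_one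
      two := by
        simp only [← map_mul]
        exact fun h => absurd (hι (h.trans ι.map_one.symm)) (by decide) }
  rcases ThreeTINine.Wreath.main gens with h | h
  · exact Or.inl (Subgroup.normalizer_eq_top_iff.1 h)
  · exact Or.inr h

end Cfsg.Agent.S3333
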