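import Cfsg.Statements.S3339
import Cfsg.Agent.A9ThreeLocal.Final
import Cfsg.Agent.A9ThreeLocal.Model
import Cfsg.Agent.A9ThreeLocal.LocalTop

set_option autoImplicit false
set_option synthInstance.maxSize 4000
set_option synthInstance.maxHeartbeats 400000
open Cfsg

namespace Cfsg.Agent.S3339

theorem line_classes : ∀ m : ThreeFullWreath.M, m.right = 1 → m ≠ 1 →
    ThreeFullWreath.cls m = ThreeFullWreath.cls A9ThreeLocal.e1M ∨
    ThreeFullWreath.cls m = ThreeFullWreath.cls A9ThreeLocal.uM ∨
    ThreeFullWreath.cls m = ThreeFullWreath.cls A9ThreeLocal.aM := by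
  decide +kernel


/-- A 3-local characterization of the alternating group of degree 9. Let G be a finite group and J ≤ G an elementary abelian subgroup of order 27 whose normalizer H = N_G(J) is isomorphic to the normalizer, in the alternating group of degree 9, of the subgroup generated by three disjoint 3-cycles. If O_{3'}(C_G(x)) = 1 for every element x of order 3 in H, then either G = H or G is isomorphic to the alternating group of degree 9. -/
theorem result {G : Type*} [Group G] [Finite G]
    (J : Subgroup G) (hJcomm : IsMulCommutative J) (hJexp : ∀ a ∈ J, a ^ 3 = 1) (hJcard : Nat.card J = 27)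
    (H : Subgroup G) (hH : H = Subgroup.normalizer (J : Set G))
    (J₀ : Subgroup (Equiv.Perm (Fin 9)))
    (hJ₀ : J₀ = Subgroup.closure {Equiv.swap (0 : Fin 9) 1 * Equiv.swap 1 2, Equiv.swap (3 : Fin 9) 4 * Equiv.swap 4 5, Equiv.swap (6 : Fin 9) 7 * Equiv.swap 7 8})
    (eH : H ≃* ↥(alternatingGroup (Fin 9) ⊓ Subgroup.normalizer (J₀ : Set (Equiv.Perm (Fin 9)))))
    (hcores : ∀ x ∈ H, orderOf x = 3 → Cfsg.pPrimeCore 3 (Subgroup.centralizer ({x} : Set G)) = ⊥) :
    H = ⊤ ∨ Nonempty (G ≃* alternatingGroup (Fin 9)) := by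
  classical
  subst hH
  set H := Subgroup.normalizer (J : Set G) with hHdef
  obtain ⟨eM⟩ : Nonempty (ThreeFullWreath.M ≃* H) := ⟨((MonoidHom.ofInjective ThreeFullWreath.perm_injective).trans
      (MulEquiv.subgroupCongr (A9ThreeLocal.perm_range_normalizer J₀ hJ₀))).trans eH.symm⟩
  let φ : ThreeFullWreath.M →* G := H.subtype.comp eM.toMonoidHom
  have hinj : Function.Injective φ := H.subtype_injective.comp eM.injective
  have hJle : J ≤ H := Subgroup.le_normalizer
  have hrange : ∀ g : G, g ∈ φ.range ↔ g ∈ H := fun g =>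
    ⟨by rintro ⟨m, rfl⟩; exact (eM m).2, fun hg => ⟨eM.symm ⟨g, hg⟩, by simp [φ]⟩⟩
  -- the elementary subgroup consists of the translations
  haveI : Fact (Nat.Prime 3) := ⟨Nat.prime_three⟩
  have hsub : J.subgroupOf H ≤ Cfsg.pCore 3 H := by
    refine le_sSup ⟨Subgroup.normal_in_normalizer, ?_⟩
    exact IsPGroup.of_card (n := 3) (by
      rw [Nat.card_congr (Subgroup.subgroupOfEquivOfLe hJle).toEquiv, hJcard]; norm_num)
  have hmem : ∀ m : ThreeFullWreath.M, φ m ∈ J ↔ m.right = 1 := by
    have hA : ∀ x : J, (eM.symm ⟨x, hJle x.2⟩).right = 1 := fun x =>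
      (ThreeFullWreath.mem_pCore eM _).1 (hsub (Subgroup.mem_subgroupOf.2 x.2))
    let f : J → {m : ThreeFullWreath.M // m.right = 1} := fun x => ⟨_, hA x⟩
    have hf : Function.Injective f := fun x y e => by
      have := eM.symm.injective (congrArg Subtype.val e)
      exact Subtype.ext (congrArg Subtype.val this :)
    have hbij := hf.bijective_of_nat_card_le (by
      rw [hJcard, Nat.card_eq_fintype_card, Fintype.card_subtype, A9ThreeLocal.J_count])
    intro m
    refine ⟨fun hm => ?_, fun hm => ?_⟩
    · have := hA ⟨φ m, hm⟩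
      rwa [show (⟨φ m, hJle hm⟩ : H) = eM m from rfl, eM.symm_apply_apply] at this
    · obtain ⟨x, hx⟩ := hbij.2 ⟨m, hm⟩
      have e' : eM.symm ⟨x, hJle x.2⟩ = m := congrArg Subtype.val hx
      have e : (x : G) = φ m := congrArg Subtype.val
        (show (⟨x, hJle x.2⟩ : H) = eM m by rw [← e', eM.apply_symm_apply])
      exact e ▸ x.2
  let hh : A9ThreeLocal.Hyp G :=
    { φ := φ
      inj := hinj
      norm := fun g hg => (hrange g).2 (Subgroup.mem_normalizer_fintype fun x hx => by
        obtain ⟨m, rfl⟩ := (hrange x).2 (hJle hx)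
        obtain ⟨m', hm', e⟩ := hg m ((hmem m).1 hx)
        exact e ▸ (hmem m').2 hm')
      core := fun m hm hm1 K hK hKn hK3 => by
        set C := Subgroup.centralizer ({φ m} : Set G)
        have hn : (K.subgroupOf C).Normal := ⟨fun k hk x =>
          Subgroup.mem_subgroupOf.2 (hKn x x.2 k (Subgroup.mem_subgroupOf.1 hk))⟩
        have hle : K.subgroupOf C ≤ Cfsg.pPrimeCore 3 C := le_sSup ⟨hn, by
          rw [Nat.card_congr (Subgroup.subgroupOfEquivOfLe hK).toEquiv]
          exact (Nat.prime_three.coprime_iff_not_dvd.2 hK3).symm⟩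
        have ho : orderOf (φ m) = 3 := orderOf_eq_prime (by rw [← map_pow, A9ThreeLocal.trans_cube m hm, map_one])
          fun e => hm1 (hinj (e.trans (map_one _).symm))
        rw [hcores (φ m) ((hrange _).1 ⟨m, rfl⟩) ho, le_bot_iff, Subgroup.subgroupOf_eq_bot] at hle
        exact eq_bot_iff.2 fun k hk => (disjoint_iff_inf_le.1 hle) ⟨hk, hK hk⟩ }
  have hφ : hh.φ.range = H := by
    ext g; exact hrange g
  rcases hh.centre_big with hc | ⟨⟨B⟩⟩
  · left
    have hloc : A9ThreeLocal.AllLocal hh.φ :=
      { inj := hh.inj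
        loc := fun m hm hm1 => by
          have key : ∀ x : ThreeFullWreath.M, Subgroup.centralizer ({hh.φ x} : Set G) ≤ hh.φ.range →
              ThreeFullWreath.cls m = ThreeFullWreath.cls x →
              Subgroup.centralizer ({hh.φ m} : Set G) ≤ hh.φ.range := fun x hx e => by
            obtain ⟨k, hk⟩ := isConj_iff.1 (ThreeFullWreath.isConj_iff_cls.2 e.symm)
            rw [← hk, map_mul, map_mul, map_inv, A9ThreeLocal.centralizer_conj]
            rintro _ ⟨y, hy, rfl⟩
            obtain ⟨n, rfl⟩ := hx hy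
            exact ⟨k * n * k⁻¹, by simp⟩
          rcases line_classes m hm hm1 with e | e | e
          · exact key _ hc e
          · exact key _ hh.cent_u e
          · refine key _ ?_ e
            rw [hh.cent_a]; exact hh.S_le_range
        ctrl := fun x m m' hm hm' e => hh.ctrl hm hm' e }
    rw [← hφ]
    exact hloc.range_eq_top
  · exact Or.inr B.nonempty_iso

end Cfsg.Agent.S3339
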