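import Cfsg.Statements.S3347
import Cfsg.Agent.InvertedSylow.Main

set_option autoImplicit false
open Cfsg

namespace Cfsg.Agent.S3347

/-- Let G be a finite group, p an odd prime, and P an abelian, non-cyclic Sylow p-subgroup of G with [N_G(P) : C_G(P)] = 2. Then either O^p(G) is a proper subgroup of G, or G has p-length 1 (G = O_{p',p,p'}(G)). -/
theorem result {G : Type*} [Group G] [Finite G]
    (p : ℕ) [Fact p.Prime] (hp : p ≠ 2) (P : Sylow p G) (hab : IsMulCommutative (P : Subgroup G)) (hnc : ¬ IsCyclic (P : Subgroup G))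
    (hidx : ((Subgroup.centralizer ((P : Subgroup G) : Set G)).subgroupOf (Subgroup.normalizer ((P : Subgroup G) : Set G))).index = 2) :
    Cfsg.pResidual p G ≠ ⊤ ∨ Cfsg.PLengthLE p 1 G := by
  classical
  set N := Subgroup.normalizer ((P : Subgroup G) : Set G) with hNdef
  set C := Subgroup.centralizer ((P : Subgroup G) : Set G) with hCdef
  have hcomm : ∀ a ∈ (P : Subgroup G), ∀ b ∈ (P : Subgroup G), a * b = b * a := fun a ha b hb =>
    congrArg Subtype.val (hab.is_comm.comm (⟨a, ha⟩ : (P : Subgroup G)) ⟨b, hb⟩)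
  obtain ⟨n, hnC⟩ : ∃ n : N, n ∉ C.subgroupOf N := by
    by_contra! hall
    rw [show C.subgroupOf N = ⊤ from eq_top_iff.2 fun m _ => hall m, Subgroup.index_top] at hidx
    omega
  have hfix : ∀ m : N, m ∈ C.subgroupOf N →
      ∀ x ∈ (P : Subgroup G), (m : G) * x * (m : G)⁻¹ = x := fun m hm =>
    InvertedSylow.mem_centralizer_iff_fix.1 (Subgroup.mem_subgroupOf.1 hm)
  have hn2 : ∀ x ∈ (P : Subgroup G), (n : G) * ((n : G) * x * (n : G)⁻¹) * (n : G)⁻¹ = x := by
    intro x hx
    have := hfix _ (Subgroup.mul_self_mem_of_index_two hidx n) x hx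
    rw [Subgroup.coe_mul] at this
    exact Eq.trans (by group) this
  have hgen : ∀ m ∈ N, (∀ x ∈ (P : Subgroup G), m * x * m⁻¹ = x) ∨
      (∀ x ∈ (P : Subgroup G), m * x * m⁻¹ = (n : G) * x * (n : G)⁻¹) := by
    intro m hm
    by_cases hmC : (⟨m, hm⟩ : N) ∈ C.subgroupOf N
    · exact Or.inl (hfix _ hmC)
    · refine Or.inr fun x hx => ?_
      have hk : n⁻¹ * ⟨m, hm⟩ ∈ C.subgroupOf N := by
        rw [Subgroup.mul_mem_iff_of_index_two hidx, inv_mem_iff]
        exact iff_of_false hnC hmC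
      have := hfix _ hk x hx
      rw [Subgroup.coe_mul, Subgroup.coe_inv] at this
      calc m * x * m⁻¹ = (n : G) * (((n : G)⁻¹ * m) * x * ((n : G)⁻¹ * m)⁻¹) * (n : G)⁻¹ := by group
        _ = (n : G) * x * (n : G)⁻¹ := by rw [this]
  by_cases hinv : ∀ x ∈ (P : Subgroup G), (n : G) * x * (n : G)⁻¹ = x⁻¹
  · right
    refine InvertedSylow.pLengthLE_one hp ⟨hab, hnc, fun m hm => ?_, n, n.2, hinv⟩
    rcases hgen m hm with h | h
    · exact Or.inl h
    · exact Or.inr fun x hx => (h x hx).trans (hinv x hx)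
  · push Not at hinv
    obtain ⟨x, hx, hni⟩ := hinv
    exact Or.inl (InvertedSylow.pResidual_ne_top P hab n.2 hn2 hgen hx hni)

end Cfsg.Agent.S3347
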