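import Cfsg.Statements.S3349


set_option autoImplicit false
open Cfsg

namespace Cfsg.Agent.S3349

/-- Let Q be a finite extraspecial p-group and α an automorphism of Q fixing every element of some maximal abelian subgroup of Q. Then the order of α is a power of p. -/
theorem result {Q : Type*} [Group Q] [Finite Q]
    (p : ℕ) [Fact p.Prime] (hQ : Cfsg.IsExtraspecial p Q) (α : MulAut Q)
    (A : Subgroup Q) (hA : IsMulCommutative A) (hmax : ∀ B : Subgroup Q, A ≤ B → IsMulCommutative B → B = A)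
    (hfix : ∀ a ∈ A, α a = a) :
    ∃ k : ℕ, orderOf α = p ^ k := by
  obtain ⟨⟨hp, -, hcomm⟩, -⟩ := hQ
  have hA' : ∀ a ∈ A, ∀ b ∈ A, a * b = b * a := fun a ha b hb =>
    congrArg Subtype.val (hA.is_comm.comm (⟨a, ha⟩ : A) ⟨b, hb⟩)
  have hmem : ∀ x : Q, (∀ a ∈ A, x * a = a * x) → x ∈ A := by
    intro x hx
    have hB : Subgroup.closure ((A : Set Q) ∪ {x}) = A := by
      refine hmax _ (fun a ha => Subgroup.subset_closure (Or.inl ha)) ?_
      refine Subgroup.isMulCommutative_closure ?_
      rintro a (ha | rfl) b (hb | rfl)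
      · exact hA' a ha b hb
      · exact (hx a ha).symm
      · exact hx b hb
      · rfl
    exact hB ▸ Subgroup.subset_closure (Or.inr rfl)
  have hZ : Subgroup.center Q ≤ A := fun z hz =>
    hmem z fun a _ => (Subgroup.mem_center_iff.mp hz a).symm
  have hq : ∀ q : Q, q⁻¹ * α q ∈ A := by
    intro q
    refine hmem _ fun a ha => ?_
    have hc : q * a * q⁻¹ * a⁻¹ ∈ Subgroup.center Q := by
      rw [← hcomm]
      exact Subgroup.commutator_mem_commutator (Subgroup.mem_top q) (Subgroup.mem_top a)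
    have h1 : α (q * a * q⁻¹) = q * a * q⁻¹ := hfix _ (by
      have := mul_mem (hZ hc) ha
      simpa using this)
    rw [map_mul, map_mul, map_inv, hfix a ha] at h1
    calc q⁻¹ * α q * a = q⁻¹ * (α q * a * (α q)⁻¹) * α q := by group
      _ = q⁻¹ * (q * a * q⁻¹) * α q := by rw [h1]
      _ = a * (q⁻¹ * α q) := by group
  have hpow : ∀ (n : ℕ) (q : Q), (α ^ n) q = q * (q⁻¹ * α q) ^ n := by
    intro n
    induction n with
    | zero => simp
    | succ n ih =>
      intro q
      rw [pow_succ' α n, MulAut.mul_apply, ih, map_mul, map_pow, hfix _ (hq q), pow_succ', ← mul_assoc,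
        mul_inv_cancel_left]
  obtain ⟨n, hn⟩ := IsPGroup.iff_card.mp hp
  have h1 : α ^ (p ^ n) = 1 := by
    refine MulEquiv.ext fun q => ?_
    rw [hpow, ← hn, pow_card_eq_one', mul_one]
    rfl
  obtain ⟨k, -, hk⟩ := (Nat.dvd_prime_pow Fact.out).mp (orderOf_dvd_of_pow_eq_one h1)
  exact ⟨k, hk⟩

end Cfsg.Agent.S3349
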