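import Cfsg.Statements.S3356
import Mathlib
import Cfsg.Agent.HalfTrans.Regular

set_option autoImplicit false
open Cfsg

namespace Cfsg.Agent.S3356

/-- Let G be a finite 3/2-transitive permutation group: G acts faithfully and transitively on a finite set, the point stabilizers are non-trivial, and for each point a all orbits of G_a on the remaining points have the same size. Suppose G has a regular normal subgroup N and G is not a Frobenius group (some two-point stabilizer is non-trivial). Then N is an elementary abelian p-group for some prime p, and every non-trivial normal subgroup of G contains N (so N is the unique minimal normal subgroup). -/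
theorem result {G Ω : Type*} [Group G] [Finite G]
    [MulAction G Ω] [FaithfulSMul G Ω] [Finite Ω] (htrans : MulAction.IsPretransitive G Ω)
    (hne : ∀ a : Ω, MulAction.stabilizer G a ≠ ⊥)
    (hhalf : ∀ a b c : Ω, b ≠ a → c ≠ a →
      Nat.card (MulAction.orbit (MulAction.stabilizer G a) b) = Nat.card (MulAction.orbit (MulAction.stabilizer G a) c))
    (N : Subgroup G) [hN : N.Normal] (hNt : MulAction.IsPretransitive N Ω) (hNr : ∀ a : Ω, MulAction.stabilizer N a = ⊥)
    (hnotF : ∃ a b : Ω, a ≠ b ∧ MulAction.stabilizer G a ⊓ MulAction.stabilizer G b ≠ ⊥) :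
    (∃ p : ℕ, p.Prime ∧ IsMulCommutative N ∧ ∀ x ∈ N, x ^ p = 1) ∧
    (∀ M : Subgroup G, M.Normal → M ≠ ⊥ → N ≤ M) := by
  obtain ⟨a, a', haa, hS⟩ := hnotF
  classical
  have hsurj : ∀ b : Ω, ∃ n ∈ N, n • a = b := fun b => by
    obtain ⟨n, hn⟩ := hNt.exists_smul_eq a b
    exact ⟨n, n.2, hn⟩
  have hinj : ∀ n ∈ N, n • a = a → n = 1 := fun n hn h => by
    have : (⟨n, hn⟩ : N) ∈ MulAction.stabilizer N a := h
    rw [hNr a, Subgroup.mem_bot] at this
    exact congrArg Subtype.val this
  set K := MulAction.stabilizer G a with hK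
  -- fixing `x • a` is commuting with `x`
  have hstab : ∀ x ∈ N, (MulAction.stabilizer K (x • a)).map K.subtype = K ⊓ Subgroup.centralizer {x} := by
    intro x hx
    ext g
    rw [Subgroup.mem_inf, Subgroup.mem_centralizer_singleton_iff]
    constructor
    · rintro ⟨u, hu, rfl⟩
      refine ⟨u.2, ?_⟩
      have hu' : (u : G) • x • a = x • a := hu
      have h1 : x⁻¹ * ((u : G) * x * (u : G)⁻¹) = 1 := by
        refine hinj _ (mul_mem (inv_mem hx) (hN.conj_mem x hx u)) ?_
        have hu'' : (u : G)⁻¹ • a = a := inv_smul_eq_iff.2 (MulAction.mem_stabilizer_iff.1 u.2).symm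
        rw [mul_smul, mul_smul, mul_smul, hu'', hu', inv_smul_smul]
      have h2 := inv_mul_eq_one.1 h1
      show (u : G) * x = x * u
      calc (u : G) * x = (u : G) * x * (u : G)⁻¹ * u := by group
        _ = x * u := by rw [← h2]
    · rintro ⟨hg, hgx⟩
      refine ⟨⟨g, hg⟩, ?_, rfl⟩
      show g • x • a = x • a
      rw [← mul_smul, hgx, mul_smul, MulAction.mem_stabilizer_iff.1 hg]
  have hcard : ∀ b : Ω, b ≠ a → Nat.card (MulAction.stabilizer K b) = Nat.card (MulAction.stabilizer K a') := by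
    intro b hb
    have h1 := (MulAction.stabilizer K b).card_mul_index
    have h2 := (MulAction.stabilizer K a').card_mul_index
    rw [MulAction.index_stabilizer, ← Nat.card_coe_set_eq] at h1 h2
    rw [hhalf a b a' hb haa.symm] at h1
    have : Nonempty (MulAction.orbit K a') := ⟨⟨a', MulAction.mem_orbit_self _⟩⟩
    exact Nat.eq_of_mul_eq_mul_right Nat.card_pos (h1.trans h2.symm)
  have hne1 : ∀ x ∈ N, x ≠ 1 → x • a ≠ a := fun x hx hx1 h => hx1 (hinj x hx h)
  obtain ⟨x₀, hx₀, hx₀a⟩ := hsurj a'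
  let D : Cfsg.Agent.HalfTrans.HalfData G :=
    { N := N
      K := K
      s := Nat.card (MulAction.stabilizer K a')
      normN := fun g x hx => hN.conj_mem x hx g
      const := fun x hx hx1 => by
        rw [← hstab x hx, Subgroup.card_map_of_injective K.subtype_injective]
        exact hcard _ (hne1 x hx hx1)
      faith := fun g hg h => FaithfulSMul.eq_of_smul_eq_smul (α := Ω) fun b => by
        obtain ⟨n, hn, rfl⟩ := hsurj b
        rw [one_smul, ← mul_smul, h n hn, mul_smul, MulAction.mem_stabilizer_iff.1 hg]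
      nontriv := ⟨x₀, hx₀, fun h => haa (by rw [← hx₀a, h, one_smul]), fun hbot => hS (by
        rw [eq_bot_iff]
        intro g hg
        rw [← hbot, ← hstab x₀ hx₀, hx₀a]
        exact ⟨⟨g, hg.1⟩, hg.2, rfl⟩)⟩ }
  obtain ⟨p, hp, hab, hpow⟩ := D.result
  refine ⟨⟨p, hp, hab, hpow⟩, fun M hM hMne => ?_⟩
  by_cases hMN : M ⊓ N = ⊥
  · exfalso
    obtain ⟨m, hm, hm1⟩ := (Subgroup.bot_or_exists_ne_one M).resolve_left hMne
    obtain ⟨n, hn, hna⟩ := hsurj (m • a)
    have hcomm : ∀ u ∈ M, ∀ v ∈ N, u * v = v * u := fun u hu v hv =>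
      Subgroup.commute_of_normal_of_disjoint M N hM hN (disjoint_iff.2 hMN) u v hu hv
    have hgK : n⁻¹ * m ∈ K := by
      rw [hK, MulAction.mem_stabilizer_iff, mul_smul, ← hna, inv_smul_smul]
    have hg1 : n⁻¹ * m = 1 := D.faith _ hgK fun v hv => by
      have hv2 : n⁻¹ * v = v * n⁻¹ := congrArg Subtype.val (hab.is_comm.comm ⟨n⁻¹, inv_mem hn⟩ ⟨v, hv⟩)
      rw [mul_assoc, hcomm m hm v hv, ← mul_assoc, hv2, mul_assoc]
    have hmn : m ∈ M ⊓ N := ⟨hm, inv_mul_eq_one.1 hg1 ▸ hn⟩
    rw [hMN, Subgroup.mem_bot] at hmn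
    exact hm1 hmn
  · have heq : M ⊓ N = N := D.irreducible (M ⊓ N) inf_le_right
      (fun g _ x hx => ⟨hM.conj_mem x hx.1 g, hN.conj_mem x hx.2 g⟩) hMN
    exact heq ▸ inf_le_left

end Cfsg.Agent.S3356
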