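import Cfsg.Statements.S3357
import Cfsg.Agent.FPF25.Basics
-- import your own Cfsg.Agent.* helpers here

set_option autoImplicit false
open Cfsg

namespace Cfsg.Agent.S3357

/-- Let G be a finite group that occurs as a Frobenius complement. Then G has a faithful irreducible representation over an algebraic closure of the rationals in which no non-identity element of G has 1 as an eigenvalue: there are n ≥ 1 and an injective homomorphism ρ from G to GL(n) over that field, with no invariant subspace other than 0 and the whole space, such that for g ≠ 1 the only vector fixed by ρ(g) is 0. -/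
theorem result {G : Type*} [Group G] [Finite G]
    (hFC : ∃ (L : Type) (_ : Group L) (_ : Finite L) (H : Subgroup L), Cfsg.IsFrobeniusComplement H ∧ Nonempty (G ≃* H)) :
    ∃ (n : ℕ) (ρ : G →* GL (Fin n) (AlgebraicClosure ℚ)), 0 < n ∧ Function.Injective ρ ∧
      (∀ W : Submodule (AlgebraicClosure ℚ) (Fin n → AlgebraicClosure ℚ),
        (∀ g : G, ∀ w ∈ W, ((ρ g : GL (Fin n) (AlgebraicClosure ℚ)) : Matrix (Fin n) (Fin n) (AlgebraicClosure ℚ)).mulVec w ∈ W) → W = ⊥ ∨ W = ⊤) ∧
      ∀ g : G, g ≠ 1 → ∀ v : Fin n → AlgebraicClosure ℚ,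
        ((ρ g : GL (Fin n) (AlgebraicClosure ℚ)) : Matrix (Fin n) (Fin n) (AlgebraicClosure ℚ)).mulVec v = v → v = 0 := by
  classical
  obtain ⟨L, _, _, H, hH, ⟨e⟩⟩ := hFC
  have h : FPF25.HasFPF G := (FPF25.hasFPF_of_isFrobeniusComplement hH).of_mulEquiv e
  obtain ⟨f0, hf0⟩ := FPF25.exists_ne_zero_rat h
  have hne : ∃ f : FPF25.cyc G (AlgebraicClosure ℚ), f ≠ 0 := by
    refine ⟨⟨fun x => algebraMap ℚ (AlgebraicClosure ℚ) (f0.1 x), fun x g hg => ?_⟩, fun e' => hf0 (Subtype.ext (funext fun x => ?_))⟩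
    · rw [← map_sum, f0.2 x g hg, map_zero]
    · exact (algebraMap ℚ (AlgebraicClosure ℚ)).injective ((congrFun (congrArg Subtype.val e') x).trans (map_zero _).symm)
  let S : Set (Submodule (AlgebraicClosure ℚ) (FPF25.cyc G (AlgebraicClosure ℚ))) :=
    {W | W ≠ ⊥ ∧ ∀ g, ∀ w ∈ W, FPF25.trans G (AlgebraicClosure ℚ) g w ∈ W}
  obtain ⟨W, ⟨hW0, hWinv⟩, hmin⟩ := (wellFounded_lt (α := Submodule (AlgebraicClosure ℚ) (FPF25.cyc G (AlgebraicClosure ℚ)))).has_min S
    ⟨⊤, fun e' => by
      obtain ⟨f, hf⟩ := hne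
      exact hf ((Submodule.eq_bot_iff _).mp e' f trivial), fun _ _ _ => trivial⟩
  have : Module.Finite (AlgebraicClosure ℚ) (FPF25.cyc G (AlgebraicClosure ℚ)) := inferInstance
  have : Nontrivial W := Submodule.nontrivial_iff_ne_bot.mpr hW0
  have : Module.Free (AlgebraicClosure ℚ) W := Module.Free.of_divisionRing (AlgebraicClosure ℚ) W
  let n := Module.finrank (AlgebraicClosure ℚ) W
  let b : Module.Basis (Fin n) (AlgebraicClosure ℚ) W := Module.finBasis (AlgebraicClosure ℚ) W
  let σ : G →* Module.End (AlgebraicClosure ℚ) W :=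
    { toFun := fun g => (FPF25.trans G (AlgebraicClosure ℚ) g).restrict (hWinv g)
      map_one' := LinearMap.ext fun w => Subtype.ext (by
        show FPF25.trans G (AlgebraicClosure ℚ) 1 w.1 = w.1
        rw [map_one]; rfl)
      map_mul' := fun a c => LinearMap.ext fun w => Subtype.ext (by
        show FPF25.trans G (AlgebraicClosure ℚ) (a * c) w.1 = FPF25.trans G (AlgebraicClosure ℚ) a (FPF25.trans G (AlgebraicClosure ℚ) c w.1)
        rw [map_mul]; rfl) }
  let ρ := ((LinearMap.toMatrixAlgEquiv b).toAlgHom.toMonoidHom.comp σ).toHomUnits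
  have key : ∀ g (w : W), ((ρ g : GL (Fin n) (AlgebraicClosure ℚ)) : Matrix (Fin n) (Fin n) (AlgebraicClosure ℚ)).mulVec (b.equivFun w) =
      b.equivFun (σ g w) := fun g w => by
    rw [Module.Basis.equivFun_apply, Module.Basis.equivFun_apply]
    exact LinearMap.toMatrix_mulVec_repr b b (σ g) w
  have hfree : ∀ g : G, g ≠ 1 → ∀ v : Fin n → (AlgebraicClosure ℚ),
      ((ρ g : GL (Fin n) (AlgebraicClosure ℚ)) : Matrix (Fin n) (Fin n) (AlgebraicClosure ℚ)).mulVec v = v → v = 0 := fun g hg v hv => by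
    obtain ⟨w, rfl⟩ := b.equivFun.surjective v
    rw [key] at hv
    have h1 : FPF25.trans G (AlgebraicClosure ℚ) g w.1 = w.1 := congrArg Subtype.val (b.equivFun.injective hv)
    rw [show w = 0 from Subtype.ext (FPF25.trans_free g w.1 hg h1), map_zero]
  refine ⟨n, ρ, (Module.finrank_pos (R := AlgebraicClosure ℚ) (M := W)), fun g g' hgg => ?_, fun U hU => ?_, hfree⟩
  · by_contra hne'
    obtain ⟨w, hw⟩ := exists_ne (0 : W)
    refine hw (b.equivFun.map_eq_zero_iff.mp (hfree (g⁻¹ * g') (fun e' => hne' (inv_mul_eq_one.mp e')) _ ?_))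
    rw [map_mul, map_inv, hgg, inv_mul_cancel, Units.val_one, Matrix.one_mulVec]
  · let U' : Submodule (AlgebraicClosure ℚ) (FPF25.cyc G (AlgebraicClosure ℚ)) := (U.comap b.equivFun.toLinearMap).map W.subtype
    by_cases hU' : U' = ⊥
    · refine Or.inl ((Submodule.eq_bot_iff _).mpr fun v hv => ?_)
      obtain ⟨w, rfl⟩ := b.equivFun.surjective v
      have h1 : (w : FPF25.cyc G (AlgebraicClosure ℚ)) ∈ U' := ⟨w, hv, rfl⟩
      rw [hU', Submodule.mem_bot] at h1
      rw [show w = 0 from Subtype.ext h1, map_zero]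
    · have hle : U' ≤ W := Submodule.map_subtype_le _ _
      have hmem : U' ∈ S := ⟨hU', fun g w hw => by
        obtain ⟨w, hw', rfl⟩ := hw
        exact ⟨σ g w, (show b.equivFun (σ g w) ∈ U by rw [← key g w]; exact hU g _ hw'), rfl⟩⟩
      have heq : U' = W := hle.eq_of_not_lt (hmin U' hmem)
      refine Or.inr (Submodule.eq_top_iff'.mpr fun v => ?_)
      obtain ⟨w, rfl⟩ := b.equivFun.surjective v
      have h1 : (w : FPF25.cyc G (AlgebraicClosure ℚ)) ∈ U' := heq.symm ▸ w.2
      obtain ⟨w', hw', e'⟩ := h1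
      exact (Subtype.ext e' : w' = w) ▸ hw'

end Cfsg.Agent.S3357
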