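import Cfsg.Statements.S3358
import Cfsg.Agent.FPF25.ComplementQuotient
import Cfsg.Agent.FPF25.ZPresentation
-- import your own Cfsg.Agent.* helpers here

set_option autoImplicit false
open Cfsg

namespace Cfsg.Agent.S3358

/-- Structure of solvable Frobenius complements. Let G be a finite solvable group that occurs as a Frobenius complement. Then G has a normal subgroup G₀ such that G/G₀ is isomorphic to a subgroup of Sym(4) (G₀ is the kernel of a homomorphism to Sym(4)), all Sylow subgroups of G₀ are cyclic, and G₀ has a presentation ⟨x, y | x^n = 1, y^m = 1, x⁻¹ y x = y^r⟩ with n, m ≥ 1, gcd(r − 1, m) = gcd(n, m) = 1 and r^(n/n′) ≡ 1 (mod m), where n′ is the product of the distinct primes dividing n. -/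
theorem result {G : Type*} [Group G] [Finite G] (hsol : Group.IsSolvable G)
    (hFC : ∃ (L : Type) (_ : Group L) (_ : Finite L) (H : Subgroup L), Cfsg.IsFrobeniusComplement H ∧ Nonempty (G ≃* H)) :
    ∃ G₀ : Subgroup G, G₀.Normal ∧
      (∃ f : G →* Equiv.Perm (Fin 4), f.ker = G₀) ∧
      (∀ (p : ℕ) [Fact p.Prime] (P : Sylow p G₀), IsCyclic P) ∧
      ∃ n m r : ℕ, 0 < n ∧ 0 < m ∧ Nat.Coprime (r - 1) m ∧ Nat.Coprime n m ∧ 1 ≤ r ∧
        r ^ (n / ∏ p ∈ n.primeFactors, p) % m = 1 % m ∧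
        Nonempty (G₀ ≃* PresentedGroup
          ({FreeGroup.of (0 : Fin 2) ^ n, FreeGroup.of (1 : Fin 2) ^ m,
            (FreeGroup.of (0 : Fin 2))⁻¹ * FreeGroup.of 1 * FreeGroup.of 0 * (FreeGroup.of (1 : Fin 2) ^ r)⁻¹} :
            Set (FreeGroup (Fin 2)))) := by
  classical
  obtain ⟨L, _, _, H, hH, ⟨e⟩⟩ := hFC
  have h : FPF25.HasFPF G := (FPF25.hasFPF_of_isFrobeniusComplement hH).of_mulEquiv e
  have : Fact (Nat.Prime 2) := ⟨Nat.prime_two⟩
  obtain ⟨N, hNn, hNz, hN⟩ : ∃ N : Subgroup G, N.Normal ∧ IsZGroup N ∧ FPF25.IsSmallKer N := by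
    obtain ⟨P⟩ := (inferInstance : Nonempty (Sylow 2 G))
    rcases h.cyclic_or_quaternion P.isPGroup' with hc | ⟨-, k, hk, ⟨eP⟩⟩
    · refine ⟨⊤, inferInstance, h.isZGroup_of_two _ fun Q hQ => ?_, Or.inl rfl⟩
      obtain ⟨P', hP'⟩ := (hQ.map (⊤ : Subgroup G).subtype).exists_le_sylow
      have : IsCyclic P' := isCyclic_of_surjective (Sylow.equiv P P').toMonoidHom (Sylow.equiv P P').surjective
      have : IsCyclic (Q.map (⊤ : Subgroup G).subtype) := Subgroup.isCyclic_of_le hP'
      let ι := Q.equivMapOfInjective _ (⊤ : Subgroup G).subtype_injective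
      exact isCyclic_of_surjective ι.symm.toMonoidHom ι.symm.surjective
    · by_cases hc : Cfsg.HasNormalPComplement 2 G
      · exact h.smallKer_of_normalPComplement hc P hk eP
      · exact h.smallKer_of_solvable hc
  refine ⟨N, hNn, ?_, fun p _ P => inferInstance, ?_⟩
  · let e4 : DihedralGroup 2 ≃ Fin 4 := Finite.equivFinOfCardEq (by rw [DihedralGroup.nat_card])
    let c : DihedralGroup 2 →* Equiv.Perm (Fin 4) :=
      e4.permCongrHom.toMonoidHom.comp (MulAction.toPermHom (DihedralGroup 2) (DihedralGroup 2))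
    have hc : Function.Injective c := e4.permCongrHom.injective.comp MulAction.toPerm_injective
    rcases hN with rfl | ⟨f, hf, rfl⟩ | ⟨f, hf, rfl⟩ | ⟨f, hf, rfl⟩ | ⟨f, hf, rfl⟩ | ⟨f, hf, rfl⟩
    · exact ⟨1, MonoidHom.ker_one⟩
    · exact ⟨c.comp f, MonoidHom.ker_comp_of_injective _ _ hc⟩
    · exact ⟨(alternatingGroup (Fin 4)).subtype.comp f,
        MonoidHom.ker_comp_of_injective _ _ (Subgroup.subtype_injective _)⟩
    · exact ⟨f, rfl⟩
    · exfalso
      have : Group.IsSolvable (alternatingGroup (Fin 5)) := Group.isSolvable_of_surjective hf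
      exact Equiv.Perm.fin_5_not_solvable (Group.isSolvable_of_ker_le_range (alternatingGroup (Fin 5)).subtype
        (Equiv.Perm.sign : Equiv.Perm (Fin 5) →* ℤˣ) (by rw [Subgroup.range_subtype]; exact le_rfl))
    · exfalso
      have : Group.IsSolvable (Equiv.Perm (Fin 5)) := Group.isSolvable_of_surjective hf
      exact Equiv.Perm.fin_5_not_solvable this
  · obtain ⟨n, m, r, h1, h2, h3, h4, h5, h6, h7⟩ := (h.subgroup N).exists_presentation
    exact ⟨n, m, r, h1, h2, h3, h4, h5, h6, h7⟩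

end Cfsg.Agent.S3358
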