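import Cfsg.Statements.S3362
import Cfsg.Agent.Compute.Basic

set_option autoImplicit false
open Cfsg

namespace Cfsg.Agent.S3362

open Cfsg.Agent.Compute

private def nib (c i : ℕ) : ℕ := c / 16 ^ i % 16

private noncomputable def pack (f : ℕ → ℕ) (n : ℕ) : ℕ :=
  Nat.rec (motive := fun _ => ℕ) 0 (fun k r => r + f k * 16 ^ k) n

private lemma pack_lt {f : ℕ → ℕ} : ∀ n, (∀ i < n, f i < 16) → pack f n < 16 ^ n
  | 0, _ => by simp [pack]
  | n + 1, h => by
    have h1 := pack_lt n (fun i hi => h i (by omega))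
    have h2 := h n (by omega)
    show pack f n + f n * 16 ^ n < 16 ^ (n + 1)
    rw [pow_succ]
    nlinarith

private lemma nib_pack {f : ℕ → ℕ} : ∀ n, (∀ i < n, f i < 16) → ∀ i < n, nib (pack f n) i = f i
  | 0, _, i, hi => by omega
  | n + 1, h, i, hi => by
    have h1 := pack_lt n (fun j hj => h j (by omega))
    show (pack f n + f n * 16 ^ n) / 16 ^ i % 16 = f i
    rcases Nat.lt_succ_iff_lt_or_eq.mp hi with hlt | rfl
    · obtain ⟨d, rfl⟩ : ∃ d, n = i + 1 + d := ⟨n - (i + 1), by omega⟩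
      have e : f (i + 1 + d) * 16 ^ (i + 1 + d) = (f (i + 1 + d) * 16 ^ d * 16) * 16 ^ i := by ring
      rw [e, Nat.add_mul_div_right _ _ (pow_pos (by norm_num) i), Nat.add_mul_mod_self_right]
      exact nib_pack _ (fun j hj => h j (by omega)) i hlt
    · rw [Nat.add_mul_div_right _ _ (pow_pos (by norm_num) i), Nat.div_eq_of_lt h1, Nat.zero_add,
        Nat.mod_eq_of_lt (h i (by omega))]

private def Ok (c : ℕ) : Prop :=
  (∀ i < 12, nib c i < 12) ∧ ∀ i < 12, ∀ j < 12, nib c i = nib c j → i = j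

private noncomputable def okb (c : ℕ) : Bool :=
  allBelow 12 fun i => Nat.blt (nib c i) 12 &&
    allBelow 12 fun j => !Nat.beq (nib c i) (nib c j) || Nat.beq i j

private lemma okb_sound (c : ℕ) (h : okb c = true) : Ok c := by
  simp only [okb, allBelow_eq_true, Bool.and_eq_true, Nat.blt_eq, Bool.or_eq_true, Nat.beq_eq] at h
  refine ⟨fun i hi => (h i hi).1, fun i hi j hj e => ?_⟩
  rcases (h i hi).2 j hj with h' | h'
  · simp [e] at h'
  · exact h'

private noncomputable def mulC (g h : ℕ) : ℕ := pack (fun i => nib g (nib h i)) 12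

private lemma nib_mulC (g h : ℕ) {i : ℕ} (hi : i < 12) : nib (mulC g h) i = nib g (nib h i) :=
  nib_pack 12 (fun _ _ => Nat.mod_lt _ (by norm_num)) i hi

private lemma ok_mulC {g h : ℕ} (hg : Ok g) (hh : Ok h) : Ok (mulC g h) := by
  refine ⟨fun i hi => ?_, fun i hi j hj e => ?_⟩
  · rw [nib_mulC _ _ hi]; exact hg.1 _ (hh.1 i hi)
  · rw [nib_mulC _ _ hi, nib_mulC _ _ hj] at e
    exact hh.2 i hi j hj (hg.2 _ (hh.1 i hi) _ (hh.1 j hj) e)

private noncomputable def den (c : ℕ) : Equiv.Perm (Fin 12) :=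
  open Classical in
  if h : Ok c then
    Equiv.ofBijective (fun i : Fin 12 => (⟨nib c i, h.1 i i.2⟩ : Fin 12))
      (Finite.injective_iff_bijective.mp fun a b e =>
        Fin.ext (h.2 a a.2 b b.2 (congrArg Fin.val e)))
  else 1

private lemma den_apply {c : ℕ} (h : Ok c) (i : Fin 12) : (den c i).val = nib c i := by
  rw [den, dif_pos h]; rfl

private lemma ok_one : Ok 0xba9876543210 := okb_sound _ (by decide +kernel)

private lemma den_mulC {g h : ℕ} (hg : Ok g) (hh : Ok h) : den (mulC g h) = den g * den h := by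
  ext i
  rw [den_apply (ok_mulC hg hh), nib_mulC _ _ i.2, Equiv.Perm.mul_apply, den_apply hg, den_apply hh]

private lemma den_eq {c : ℕ} {σ : Equiv.Perm (Fin 12)} (hc : okb c = true)
    (h : ∀ i : Fin 12, (σ i).val = nib c i) : den c = σ := by
  ext i
  rw [den_apply (okb_sound c hc), h i]

private noncomputable def rep12 : Rep (Equiv.Perm (Fin 12)) (Fin 12) where
  n := 12
  one := 0xba9876543210
  mul := mulC
  act := nib
  okb := okb
  Ok := Ok
  den := den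
  pt i := ⟨i % 12, Nat.mod_lt _ (by norm_num)⟩
  okb_sound := okb_sound
  ok_one := ok_one
  den_one := den_eq (by decide +kernel) (by decide +kernel)
  ok_mul _ _ := ok_mulC
  den_mul _ _ := den_mulC
  pt_inj i j hi hj e := by
    have := congrArg Fin.val e
    simp only at this
    rwa [Nat.mod_eq_of_lt hi, Nat.mod_eq_of_lt hj] at this
  act_lt g i hg hi := hg.1 i hi
  act_spec g i hg hi := by
    apply Fin.ext
    show (den g ⟨i % 12, _⟩).val = nib g i % 12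
    rw [den_apply hg, Nat.mod_eq_of_lt (hg.1 i hi)]
    simp [Nat.mod_eq_of_lt hi]

private def lv0 : Level :=
  ⟨2, 12, fun i => nib 0xa89b75643012 i,
    (.node ⟨0xba9876543210, 0xba9876543210, 0, 0⟩ (.node ⟨0x687a9b543120, 0x687a9b543120, 0, 7⟩ (.node ⟨0xb9867a540321, 0xb6a978542103, 2, 5⟩ (.node ⟨0x349ab5680721, 0x7894256ab103, 4, 1⟩ .nil .nil) (.node ⟨0x45ab93760821, 0x897254ab6103, 6, 1⟩ .nil .nil)) (.node ⟨0x53b9a4870621, 0x978542b6a103, 3, 1⟩ (.node ⟨0x865347ba0921, 0x542b6a978103, 5, 1⟩ .nil .nil) .nil)) (.node ⟨0x9ba768543021, 0xa9b687543102, 1, 6⟩ (.node ⟨0x9a678b350421, 0x6ab789425103, 3, 0⟩ (.node ⟨0x75b649380a21, 0x9264b8a75103, 4, 4⟩ .nil .nil) .nil) (.node ⟨0xab7869430521, 0xab6897254103, 4, 0⟩ (.node ⟨0x83975a460b21, 0x269b8475a103, 5, 4⟩ .nil .nil) .nil))),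
    [0x9ba687354210, 0x543ba9876210, 0xa74b85963210, 0x49865ab73210, 0x95746b8a3210, 0x98ba67540213, 0x876ba9543201, 0x687a9b543120]⟩

private def lv1 : Level :=
  ⟨1, 11, fun i => nib 0x978a64532f01 i,
    (.node ⟨0xba9876543210, 0xba9876543210, 0, 0⟩ (.node ⟨0x876ba9543201, 0x876ba9543201, 0, 6⟩ (.node ⟨0xb78a69350241, 0xb869a7415203, 2, 0⟩ (.node ⟨0x9645b73802a1, 0x71b46a895203, 3, 4⟩ .nil .nil) .nil) (.node ⟨0x986b7a430251, 0x86ba79154203, 3, 0⟩ (.node ⟨0xa753984602b1, 0x1b76a4958203, 4, 4⟩ .nil .nil) .nil)) (.node ⟨0xa6798b540231, 0x6b879a541203, 1, 5⟩ (.node ⟨0x49a3b5870261, 0x79a5416b8203, 2, 1⟩ (.node ⟨0x734658ba0291, 0x5416b879a203, 4, 1⟩ .nil .nil) .nil) (.node ⟨0x5ab493680271, 0x9a7415b86203, 3, 1⟩ (.node ⟨0x3b95a4760281, 0xa7915486b203, 5, 1⟩ .nil .nil) .nil))),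
    [0x9ba687354210, 0x543ba9876210, 0xa74b85963210, 0x49865ab73210, 0x95746b8a3210, 0x98ba67540213, 0x876ba9543201]⟩

private def lv2 : Level :=
  ⟨0, 10, fun i => nib 0x867953421ff0 i,
    (.node ⟨0xba9876543210, 0xba9876543210, 0, 0⟩ (.node ⟨0x98ba67540213, 0x98ba67540213, 0, 5⟩ (.node ⟨0x3b549a870216, 0xa6754098b213, 1, 1⟩ (.node ⟨0x658734ba0219, 0x54098ba67213, 3, 1⟩ .nil .nil) .nil) (.node ⟨0x4935ab680217, 0x67a4058b9213, 2, 1⟩ (.node ⟨0x5a43b9760218, 0x7a6054b98213, 4, 1⟩ .nil .nil) .nil)) (.node ⟨0xa69b78350214, 0x8b967a405213, 1, 0⟩ (.node ⟨0xb7a986430215, 0xb987a6054213, 2, 0⟩ (.node ⟨0x398a7546021b, 0x8a97465b213, 3, 4⟩ .nil .nil) .nil) (.node ⟨0x5b796438021a, 0xa08497b65213, 2, 4⟩ .nil .nil))),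
    [0x9ba687354210, 0x543ba9876210, 0xa74b85963210, 0x49865ab73210, 0x95746b8a3210, 0x98ba67540213]⟩

private def lv3 : Level :=
  ⟨3, 9, fun i => nib 0x756842310fff i,
    (.node ⟨0xba9876543210, 0xba9876543210, 0, 0⟩ (.node ⟨0x9ba687354210, 0xa9b768435210, 0, 0⟩ (.node ⟨0xa9b768435210, 0x9ba687354210, 1, 0⟩ (.node ⟨0x8a395746b210, 0x3a8b64759210, 2, 4⟩ .nil .nil) .nil) (.node ⟨0x795b4638a210, 0x83a4b6975210, 1, 4⟩ .nil .nil)) (.node ⟨0x543ba9876210, 0x876543ba9210, 0, 1⟩ (.node ⟨0x3549ba687210, 0x768435a9b210, 1, 1⟩ (.node ⟨0x435a9b768210, 0x6873549ba210, 3, 1⟩ .nil .nil) .nil) (.node ⟨0x876543ba9210, 0x543ba9876210, 2, 1⟩ .nil .nil))),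
    [0x9ba687354210, 0x543ba9876210, 0xa74b85963210, 0x49865ab73210, 0x95746b8a3210]⟩

private def lv4 : Level :=
  ⟨4, 8, fun i => nib 0x53762140ffff i,
    (.node ⟨0xba9876543210, 0xba9876543210, 0, 0⟩ (.node ⟨0xa74b85963210, 0x8b57a4693210, 0, 0⟩ (.node ⟨0x95746b8a3210, 0x64b597a83210, 0, 2⟩ (.node ⟨0x8b57a4693210, 0xa74b85963210, 3, 1⟩ .nil .nil) .nil) (.node ⟨0x56a9487b3210, 0x49865ab73210, 1, 2⟩ .nil .nil)) (.node ⟨0x49865ab73210, 0x56a9487b3210, 0, 1⟩ (.node ⟨0x786ab9453210, 0x786ab9453210, 1, 0⟩ .nil .nil) (.node ⟨0x64b597a83210, 0x95746b8a3210, 2, 0⟩ .nil .nil))),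
    [0xa74b85963210, 0x49865ab73210, 0x95746b8a3210]⟩

private lemma chain_check : rep12.checkChain [lv0, lv1, lv2, lv3, lv4] = true := by decide +kernel


/-- An explicit construction of the Mathieu groups of degrees 11 and 12. On the points 0, …, 11 let s = (3 4 5)(6 7 8)(9 10 11), t = (3 6 9)(4 7 10)(5 8 11), u = (4 6 5 9)(7 8 11 10), v = (4 7 5 11)(6 10 9 8), w = (4 10 5 8)(6 11 9 7), x₁ = (0 3)(6 7)(8 10)(9 11), x₂ = (0 1)(6 9)(7 10)(8 11), x₃ = (1 2)(6 11)(7 9)(8 10) (each written as a product of transpositions). Then the group M₁₂ generated by all eight permutations is sharply 5-transitive on the 12 points and has order 95040, and the group M₁₁ generated by the first seven has order 7920 and is the stabilizer of the point 2 in M₁₂. -/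
theorem result
    (s t u v w x₁ x₂ x₃ : Equiv.Perm (Fin 12))
    (hs : s = Equiv.swap (3 : Fin 12) 5 * Equiv.swap (3 : Fin 12) 4 * Equiv.swap (6 : Fin 12) 8 * Equiv.swap (6 : Fin 12) 7 * Equiv.swap (9 : Fin 12) 11 * Equiv.swap (9 : Fin 12) 10) (ht : t = Equiv.swap (3 : Fin 12) 9 * Equiv.swap (3 : Fin 12) 6 * Equiv.swap (4 : Fin 12) 10 * Equiv.swap (4 : Fin 12) 7 * Equiv.swap (5 : Fin 12) 11 * Equiv.swap (5 : Fin 12) 8)
    (hu : u = Equiv.swap (4 : Fin 12) 9 * Equiv.swap (4 : Fin 12) 5 * Equiv.swap (4 : Fin 12) 6 * Equiv.swap (7 : Fin 12) 10 * Equiv.swap (7 : Fin 12) 11 * Equiv.swap (7 : Fin 12) 8) (hv : v = Equiv.swap (4 : Fin 12) 11 * Equiv.swap (4 : Fin 12) 5 * Equiv.swap (4 : Fin 12) 7 * Equiv.swap (6 : Fin 12) 8 * Equiv.swap (6 : Fin 12) 9 * Equiv.swap (6 : Fin 12) 10) (hw : w = Equiv.swap (4 : Fin 12) 8 * Equiv.swap (4 : Fin 12) 5 * Equiv.swap (4 : Fin 12) 10 * Equiv.swap (6 : Fin 12) 7 * Equiv.swap (6 : Fin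 12) 9 * Equiv.swap (6 : Fin 12) 11)
    (hx₁ : x₁ = Equiv.swap (0 : Fin 12) 3 * Equiv.swap (6 : Fin 12) 7 * Equiv.swap (8 : Fin 12) 10 * Equiv.swap (9 : Fin 12) 11) (hx₂ : x₂ = Equiv.swap (0 : Fin 12) 1 * Equiv.swap (6 : Fin 12) 9 * Equiv.swap (7 : Fin 12) 10 * Equiv.swap (8 : Fin 12) 11)
    (hx₃ : x₃ = Equiv.swap (1 : Fin 12) 2 * Equiv.swap (6 : Fin 12) 11 * Equiv.swap (7 : Fin 12) 9 * Equiv.swap (8 : Fin 12) 10)
    (M₁₂ M₁₁ : Subgroup (Equiv.Perm (Fin 12))) (hM₁₂ : M₁₂ = Subgroup.closure {s, t, u, v, w, x₁, x₂, x₃})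
    (hM₁₁ : M₁₁ = Subgroup.closure {s, t, u, v, w, x₁, x₂}) :
    MulAction.IsMultiplyPretransitive M₁₂ (Fin 12) 5 ∧ (∀ y : Fin 5 ↪ Fin 12, MulAction.stabilizer M₁₂ y = ⊥) ∧
    Nat.card M₁₂ = 95040 ∧ Nat.card M₁₁ = 7920 ∧
    M₁₁ = M₁₂ ⊓ MulAction.stabilizer (Equiv.Perm (Fin 12)) (2 : Fin 12) := by
  have ds : den 0x9ba687354210 = s := den_eq (by decide +kernel) (by rw [hs]; decide +kernel)
  have dt : den 0x543ba9876210 = t := den_eq (by decide +kernel) (by rw [ht]; decide +kernel)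
  have du : den 0xa74b85963210 = u := den_eq (by decide +kernel) (by rw [hu]; decide +kernel)
  have dv : den 0x49865ab73210 = v := den_eq (by decide +kernel) (by rw [hv]; decide +kernel)
  have dw : den 0x95746b8a3210 = w := den_eq (by decide +kernel) (by rw [hw]; decide +kernel)
  have d1 : den 0x98ba67540213 = x₁ := den_eq (by decide +kernel) (by rw [hx₁]; decide +kernel)
  have d2 : den 0x876ba9543201 = x₂ := den_eq (by decide +kernel) (by rw [hx₂]; decide +kernel)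
  have d3 : den 0x687a9b543120 = x₃ := den_eq (by decide +kernel) (by rw [hx₃]; decide +kernel)
  have h0 : rep12.chainGroup [lv0, lv1, lv2, lv3, lv4] = M₁₂ := by
    rw [hM₁₂]
    show Subgroup.closure (den '' {g | g ∈ ([0x9ba687354210, 0x543ba9876210, 0xa74b85963210,
      0x49865ab73210, 0x95746b8a3210, 0x98ba67540213, 0x876ba9543201, 0x687a9b543120] : List ℕ)}) = _
    congr 1
    rw [← ds, ← dt, ← du, ← dv, ← dw, ← d1, ← d2, ← d3]
    ext σ
    simp [eq_comm]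
  have h1 : rep12.chainGroup [lv1, lv2, lv3, lv4] = M₁₁ := by
    rw [hM₁₁]
    show Subgroup.closure (den '' {g | g ∈ ([0x9ba687354210, 0x543ba9876210, 0xa74b85963210,
      0x49865ab73210, 0x95746b8a3210, 0x98ba67540213, 0x876ba9543201] : List ℕ)}) = _
    congr 1
    rw [← ds, ← dt, ← du, ← dv, ← dw, ← d1, ← d2]
    ext σ
    simp [eq_comm]
  have c0 := chain_check
  have c1 : rep12.checkChain [lv1, lv2, lv3, lv4] = true := by decide +kernel
  have c2 : rep12.checkChain [lv2, lv3, lv4] = true := by decide +kernel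
  have c3 : rep12.checkChain [lv3, lv4] = true := by decide +kernel
  have c4 : rep12.checkChain [lv4] = true := by decide +kernel
  have hc12 : Nat.card M₁₂ = 95040 := by
    rw [← h0, Rep.card_chainGroup _ c0]; decide +kernel
  have hc11 : Nat.card M₁₁ = 7920 := by
    rw [← h1, Rep.card_chainGroup _ c1]; decide +kernel
  have st : ∀ L Ls, rep12.checkChain (L :: Ls) = true → ∀ g ∈ rep12.chainGroup (L :: Ls),
      g (rep12.pt L.base) = rep12.pt L.base → g ∈ rep12.chainGroup Ls := fun L Ls h g hg hf =>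
    (Rep.stabilizer_base (R := rep12) h).le ⟨hg, hf⟩
  let y₀ : Fin 5 ↪ Fin 12 := ⟨![2, 1, 0, 3, 4], by decide⟩
  have hy₀ : MulAction.stabilizer M₁₂ y₀ = ⊥ := by
    rw [eq_bot_iff]
    rintro ⟨g, hg⟩ hfix
    have hf : ∀ i, g (y₀ i) = y₀ i := fun i =>
      DFunLike.congr_fun (MulAction.mem_stabilizer_iff.mp hfix) i
    rw [← h0] at hg
    have g1 := st _ _ c0 g hg (hf 0)
    have g2 := st _ _ c1 g g1 (hf 1)
    have g3 := st _ _ c2 g g2 (hf 2)
    have g4 := st _ _ c3 g g3 (hf 3)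
    have g5 := st _ _ c4 g g4 (hf 4)
    rw [Subgroup.mem_bot]
    apply Subtype.ext
    simpa [Rep.chainGroup, Rep.span, topGens] using g5
  have hemb : Nat.card (Fin 5 ↪ Fin 12) = 95040 := by
    rw [Nat.card_eq_fintype_card, Fintype.card_embedding_eq]
    simp [Nat.descFactorial]
  have horb : MulAction.orbit M₁₂ y₀ = Set.univ := by
    have h := Nat.card_congr (MulAction.orbitProdStabilizerEquivGroup M₁₂ y₀)
    rw [Nat.card_prod, hy₀, hc12] at h
    have h' : Nat.card (MulAction.orbit M₁₂ y₀) = Nat.card (Fin 5 ↪ Fin 12) := by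
      rw [Subgroup.card_bot, mul_one] at h
      rw [hemb]
      exact h
    exact Set.eq_of_subset_of_ncard_le (Set.subset_univ _)
      (by rw [Set.ncard_univ, ← h', Nat.card_coe_set_eq])
  have hmem : ∀ y : Fin 5 ↪ Fin 12, ∃ g : M₁₂, g • y₀ = y := fun y => by
    have : y ∈ MulAction.orbit M₁₂ y₀ := by rw [horb]; trivial
    exact this
  refine ⟨⟨fun a b => ?_⟩, fun y => ?_, hc12, hc11, ?_⟩
  · obtain ⟨g, rfl⟩ := hmem a
    obtain ⟨k, rfl⟩ := hmem b
    refine ⟨k * g⁻¹, ?_⟩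
    ext i
    show _ = _
    simp [Subgroup.smul_def, Equiv.Perm.smul_def]
  · obtain ⟨g, rfl⟩ := hmem y
    rw [eq_bot_iff]
    intro h hh
    have hk : g⁻¹ * h * g ∈ MulAction.stabilizer M₁₂ y₀ := by
      rw [MulAction.mem_stabilizer_iff] at hh ⊢
      ext i
      have := DFunLike.congr_fun hh i
      simp [Subgroup.smul_def, Equiv.Perm.smul_def] at this ⊢
      simp [this]
    rw [hy₀, Subgroup.mem_bot, mul_assoc, inv_mul_eq_one] at hk
    rw [Subgroup.mem_bot]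
    simpa using hk.symm
  · rw [← h0, ← h1]
    exact (Rep.stabilizer_base (R := rep12) c0).symm

end Cfsg.Agent.S3362
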