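import Cfsg.Statements.S3365
import Cfsg.Agent.FixFour.OddStab
import Cfsg.Agent.FixFour.CaseTwo

set_option autoImplicit false
open Cfsg

namespace Cfsg.Agent.S3365

/-- Finite simple groups acting with fixity 4. Let G be a finite non-abelian simple group acting faithfully and transitively on a finite set so that every non-identity element fixes at most 4 points and some non-identity element fixes exactly 4 (fixity 4). Let P be a Sylow 3-subgroup, S a Sylow 2-subgroup, f the largest number of fixed points of an involution of G, and a a point. Then one of the following holds: (1) f ≥ 1 and G has a strongly embedded subgroup; (2) 1 ≤ f ≤ 3 and S is dihedral or semidihedral; (3) f = 4 and G has sectional 2-rank at most 4; (4) the point stabilizer G_a has odd order divisible by 3 and either G has a strongly 3-embedded subgroup (a proper subgroup H of order divisible by 3 such that H ∩ gHg⁻¹ has order prime to 3 for every element g outside H), or |P| = 3 and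 a Sylow 2-subgroup of N_G(P) has order at most 4, or P is elementary abelian of order 9, or P is extraspecial of order 27 and exponent 3, or P is isomorphic to a Sylow 3-subgroup of Sym(9) (the wreath product C₃ ≀ C₃); (5) G_a has order prime to 6. -/
theorem result {G Ω : Type*} [Group G] [Finite G] [IsSimpleGroup G] (hna : ¬ IsMulCommutative G)
    [MulAction G Ω] [FaithfulSMul G Ω] [Finite Ω] (htrans : MulAction.IsPretransitive G Ω)
    (hfix : ∀ g : G, g ≠ 1 → Nat.card (MulAction.fixedBy Ω g) ≤ 4)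
    (hfix4 : ∃ g : G, g ≠ 1 ∧ Nat.card (MulAction.fixedBy Ω g) = 4)
    (P : Sylow 3 G) (S : Sylow 2 G) (f : ℕ)
    (hf : ∀ g : G, orderOf g = 2 → Nat.card (MulAction.fixedBy Ω g) ≤ f)
    (hf' : ∃ g : G, orderOf g = 2 ∧ Nat.card (MulAction.fixedBy Ω g) = f) (a : Ω) :
    (1 ≤ f ∧ ∃ H : Subgroup G, Cfsg.IsStronglyEmbedded H) ∨
    (1 ≤ f ∧ f ≤ 3 ∧ ((∃ n : ℕ, Nonempty ((S : Subgroup G) ≃* DihedralGroup n)) ∨ Cfsg.IsQuasiDihedral (S : Subgroup G))) ∨
    (f = 4 ∧ Cfsg.SectionalPRankLE 2 4 G) ∨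
    (Odd (Nat.card (MulAction.stabilizer G a)) ∧ 3 ∣ Nat.card (MulAction.stabilizer G a) ∧
      ((∃ H : Subgroup G, H ≠ ⊤ ∧ 3 ∣ Nat.card H ∧ ∀ g : G, g ∉ H → ¬ 3 ∣ Nat.card ↥(H ⊓ H.map (MulAut.conj g).toMonoidHom)) ∨
       (Nat.card P = 3 ∧ ∀ T : Sylow 2 (Subgroup.normalizer ((P : Subgroup G) : Set G)), Nat.card T ≤ 4) ∨
       (Nat.card P = 9 ∧ ∀ x ∈ (P : Subgroup G), x ^ 3 = 1) ∨
       (Nat.card P = 27 ∧ Cfsg.IsExtraspecial 3 (P : Subgroup G) ∧ ∀ x ∈ (P : Subgroup G), x ^ 3 = 1) ∨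
       (∃ T : Sylow 3 (Equiv.Perm (Fin 9)), Nonempty ((P : Subgroup G) ≃* (T : Subgroup (Equiv.Perm (Fin 9))))))) ∨
    (Nat.card (MulAction.stabilizer G a)).Coprime 6 := by
  obtain ⟨g₀, hg₀, hg4⟩ := hfix4
  have h5 : 5 ≤ Nat.card Ω := by
    have h4 : 4 ≤ Nat.card Ω := hg4 ▸ Nat.card_le_card_of_injective _ Subtype.val_injective
    by_contra hc
    refine hg₀ (FaithfulSMul.eq_of_smul_eq_smul fun b : Ω => ?_)
    have he : MulAction.fixedBy Ω g₀ = Set.univ := Set.eq_of_subset_of_ncard_le (Set.subset_univ _)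
      (by rw [Set.ncard_univ, ← Nat.card_coe_set_eq, hg4]; omega) (Set.toFinite _)
    rw [one_smul]
    exact (he ▸ Set.mem_univ b : b ∈ MulAction.fixedBy Ω g₀)
  have h : Cfsg.Agent.FixFour.Ctx G Ω := ⟨inferInstance, hna, htrans, hfix, h5⟩
  have h24 : (6 : ℕ) = 2 * 3 := rfl
  by_cases h2 : 2 ∣ Nat.card (MulAction.stabilizer G a)
  · have : Fact (Nat.Prime 2) := ⟨Nat.prime_two⟩
    obtain ⟨u, hu⟩ := exists_prime_orderOf_dvd_card' 2 h2
    have hu2 : orderOf (u : G) = 2 := by rw [Subgroup.orderOf_coe, hu]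
    have hpos : 0 < Nat.card (MulAction.fixedBy Ω (u : G)) :=
      Nat.card_pos_iff.2 ⟨⟨a, u.2⟩, inferInstance⟩
    have h1 : 1 ≤ f := Nat.lt_of_lt_of_le hpos (hf _ hu2)
    by_cases h3 : f ≤ 3
    · rcases Cfsg.Agent.FixFour.small_case h f hf hf' h1 h3 S with hH | hS
      · exact Or.inl ⟨h1, hH⟩
      · exact Or.inr (Or.inl ⟨h1, h3, hS⟩)
    · obtain ⟨t, ht, htf⟩ := hf'
      have h4 := hfix t (fun e => by rw [e, orderOf_one] at ht; omega)
      have hf4 : f = 4 := by omega
      rcases Cfsg.Agent.FixFour.four_case h ht (htf.trans hf4) with hH | hR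
      · exact Or.inl ⟨h1, hH⟩
      · exact Or.inr (Or.inr (Or.inl ⟨hf4, hR⟩))
  · have hodd : Odd (Nat.card (MulAction.stabilizer G a)) :=
      Nat.not_even_iff_odd.1 fun e => h2 (even_iff_two_dvd.1 e)
    by_cases h3 : 3 ∣ Nat.card (MulAction.stabilizer G a)
    · refine Or.inr (Or.inr (Or.inr (Or.inl ⟨hodd, h3, ?_⟩)))
      rcases Cfsg.Agent.FixFour.odd_case h a hodd h3 P with hH | hP
      · exact Or.inl hH
      · exact Or.inr (Or.inr (Or.inl hP))
    · refine Or.inr (Or.inr (Or.inr (Or.inr ?_)))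
      rw [h24, Nat.coprime_mul_iff_right]
      exact ⟨((Nat.Prime.coprime_iff_not_dvd Nat.prime_two).2 h2).symm,
        ((Nat.Prime.coprime_iff_not_dvd Nat.prime_three).2 h3).symm⟩

end Cfsg.Agent.S3365
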