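import Cfsg.Statements.S3370
import Cfsg.Agent.Fusion.UniqueInvolution

set_option autoImplicit false
open Cfsg

namespace Cfsg.Agent.S3370

private lemma mersenne_exponent {p n a : ℕ} (hp : p.Prime) (h : 2 ^ n - 1 = p ^ a) (ha : a ≠ 0) : a = 1 := by
  have h1 : p ^ a + 1 = 2 ^ n := by
    have := Nat.one_le_two_pow (n := n)
    omega
  have hp2 : p ≠ 2 := by
    rintro rfl
    rcases n with _ | n
    · simp at h1
    · have := dvd_pow_self 2 ha
      rw [pow_succ] at h1
      omega
  have hpodd : Odd p := hp.odd_of_ne_two hp2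
  by_contra ha1
  rcases Nat.even_or_odd a with ⟨c, rfl⟩ | ⟨c, rfl⟩
  · -- a even: a square plus one is not divisible by four
    obtain ⟨d, hd⟩ := hpodd.pow (n := c)
    have hn : 2 ≤ n := by
      by_contra hn
      have h3 : 2 ^ n ≤ 2 ^ 1 := Nat.pow_le_pow_right (by norm_num) (by omega)
      have h4 : 3 ^ 1 ≤ p ^ (c + c) :=
        (Nat.pow_le_pow_left (show 3 ≤ p by have := hp.two_le; omega) 1).trans (Nat.pow_le_pow_right hp.pos (by omega))
      omega
    obtain ⟨k, rfl⟩ : ∃ k, n = k + 2 := ⟨n - 2, by omega⟩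
    rw [pow_add, hd] at h1
    have : 2 ^ (k + 2) = 4 * 2 ^ k := by ring
    rw [this] at h1
    have h5 : (2 * d + 1) * (2 * d + 1) + 1 = 4 * (d * d + d) + 2 := by ring
    omega
  · obtain ⟨k, hk⟩ : ∃ k, p + 1 = 2 ^ k := by
      have hd : p + 1 ∣ 2 ^ n := by
        rw [← h1]
        simpa using Odd.nat_add_dvd_pow_add_pow p 1 (show Odd (2 * c + 1) from ⟨c, rfl⟩)
      obtain ⟨k, -, hk⟩ := (Nat.dvd_prime_pow Nat.prime_two).mp hd
      exact ⟨k, hk⟩
    obtain ⟨e, he⟩ := hpodd
    have hp2sq : p ^ 2 ≡ 1 [MOD 2 ^ (k + 1)] := by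
      refine ((Nat.modEq_iff_dvd' (Nat.one_le_pow 2 p hp.pos)).mpr ⟨e, ?_⟩).symm
      rw [pow_succ 2 k, ← hk, he]
      have : (2 * e + 1) ^ 2 = (2 * e + 1 + 1) * 2 * e + 1 := by ring
      omega
    have h2 : p ^ (2 * c + 1) + 1 ≡ 2 ^ k [MOD 2 ^ (k + 1)] := by
      rw [← hk, pow_succ p, pow_mul]
      refine Nat.ModEq.add_right 1 ?_
      simpa using (hp2sq.pow c).mul_right p
    rw [h1] at h2
    have hkn : k < n := by
      refine (Nat.pow_lt_pow_iff_right (show 1 < 2 by norm_num)).mp ?_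
      rw [← h1, ← hk]
      have : p ^ 1 < p ^ (2 * c + 1) := Nat.pow_lt_pow_right hp.one_lt (by omega)
      rw [pow_one] at this
      omega
    have h3 : 2 ^ n % 2 ^ (k + 1) = 0 := Nat.mod_eq_zero_of_dvd (pow_dvd_pow 2 (by omega))
    have h4 : 2 ^ k % 2 ^ (k + 1) = 2 ^ k := Nat.mod_eq_of_lt (Nat.pow_lt_pow_right (by norm_num) (by omega))
    have h6 : 0 < 2 ^ k := Nat.two_pow_pos k
    rw [Nat.ModEq, h3, h4] at h2
    omega

private lemma fermat_case {q n a : ℕ} (hq : q.Prime) (hq2 : q ≠ 2) (hn : 2 ≤ n) (h : q ^ n - 1 = 2 ^ a) :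
    q = 3 ∧ n = 2 := by
  have hqodd : Odd q := hq.odd_of_ne_two hq2
  rcases Nat.even_or_odd n with ⟨c, rfl⟩ | hnodd
  · set x := q ^ c with hx
    have hx3 : 3 ≤ x := by
      have h1 : q ^ 1 ≤ q ^ c := Nat.pow_le_pow_right hq.pos (by omega)
      have := hq.two_le
      rw [pow_one] at h1
      omega
    have hmul : (x - 1) * (x + 1) = 2 ^ a := by
      rw [← h, pow_add, ← hx]
      obtain ⟨y, hy⟩ : ∃ y, x = y + 1 := ⟨x - 1, by omega⟩
      have : (y + 1) * (y + 1) = y * (y + 1 + 1) + 1 := by ring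
      rw [hy, Nat.add_sub_cancel]; omega
    obtain ⟨i, -, hi⟩ := (Nat.dvd_prime_pow Nat.prime_two).mp ⟨x + 1, hmul.symm⟩
    obtain ⟨j, -, hj⟩ := (Nat.dvd_prime_pow Nat.prime_two).mp ⟨x - 1, by rw [← hmul, mul_comm]⟩
    have hi1 : i = 1 := by
      by_contra hne
      have hi0 : i ≠ 0 := by rintro rfl; omega
      have hji : i < j := (Nat.pow_lt_pow_iff_right (show 1 < 2 by norm_num)).mp (by omega)
      obtain ⟨u, hu⟩ : 2 ^ 2 ∣ 2 ^ i := pow_dvd_pow 2 (show 2 ≤ i by omega)
      obtain ⟨v, hv⟩ : 2 ^ 2 ∣ 2 ^ j := pow_dvd_pow 2 (show 2 ≤ j by omega)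
      omega
    subst hi1
    have hx' : q ^ c = 3 := by rw [← hx]; omega
    have hc : c = 1 := by
      by_contra hc
      have h9 : q ^ 2 ≤ q ^ c := Nat.pow_le_pow_right hq.pos (by omega)
      have : 2 ^ 2 ≤ q ^ 2 := Nat.pow_le_pow_left hq.two_le 2
      omega
    subst hc
    rw [pow_one] at hx'
    exact ⟨hx', rfl⟩
  · exfalso
    set S := ∑ i ∈ Finset.range n, q ^ i with hS
    have hSodd : Odd S := by
      rw [hS, Finset.odd_sum_iff_odd_card_odd, Finset.filter_true_of_mem (fun i _ => hqodd.pow), Finset.card_range]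
      exact hnodd
    have hSd : S ∣ 2 ^ a := ⟨q - 1, by rw [← h, ← geom_sum_mul_of_one_le hq.one_lt.le n]⟩
    obtain ⟨i, -, hi⟩ := (Nat.dvd_prime_pow Nat.prime_two).mp hSd
    rcases Nat.eq_zero_or_pos i with rfl | hi0
    · have h2 : ∑ i ∈ Finset.range 2, q ^ i ≤ S :=
        Finset.sum_le_sum_of_subset (by intro i; simp; omega)
      rw [Finset.sum_range_succ, Finset.sum_range_one, pow_zero, pow_one] at h2
      have := hq.two_le
      omega
    · obtain ⟨u, hu⟩ := hSodd
      have : 2 ∣ 2 ^ i := dvd_pow_self 2 hi0.ne'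
      omega

set_option maxHeartbeats 1000000 in
private lemma syl_gl23 (S : Sylow 2 (GL (Fin 2) (ZMod 3))) : Cfsg.IsQuasiDihedral (S : Subgroup (GL (Fin 2) (ZMod 3))) := by
  classical
  let x : GL (Fin 2) (ZMod 3) := ⟨!![1, 1; 1, 0], !![0, 1; 1, 2], by decide, by decide⟩
  let y : GL (Fin 2) (ZMod 3) := ⟨!![1, 0; 2, 2], !![1, 0; 2, 2], by decide, by decide⟩
  have hx8 : x ^ 8 = 1 := by decide +kernel
  have hx4 : x ^ 4 ≠ 1 := by decide +kernel
  have hy2 : y ^ 2 = 1 := by decide +kernel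
  have hy1 : y ≠ 1 := by decide +kernel
  have hyx : y * x * y⁻¹ = x ^ 3 := by decide +kernel
  let f : Fin 8 × Fin 2 → GL (Fin 2) (ZMod 3) := fun ij => x ^ (ij.1 : ℕ) * y ^ (ij.2 : ℕ)
  have hinj : Function.Injective f := by decide +kernel
  have hmul : ∀ a b, ∃ c, f c = f a * f b := by decide +kernel
  have hinv : ∀ a, ∃ c, f c = (f a)⁻¹ := by decide +kernel
  let K : Subgroup (GL (Fin 2) (ZMod 3)) :=
    { carrier := Set.range f
      one_mem' := ⟨(0, 0), by simp [f]⟩
      mul_mem' := by rintro _ _ ⟨a, rfl⟩ ⟨b, rfl⟩; exact hmul a b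
      inv_mem' := by rintro _ ⟨a, rfl⟩; exact hinv a }
  have hKc : Nat.card K = 2 ^ 4 := by
    show Nat.card (Set.range f) = _
    rw [Nat.card_range_of_injective hinj]; simp
  obtain ⟨T, hT⟩ := (IsPGroup.of_card (n := 4) hKc).exists_le_sylow
  have hGL : Nat.card (GL (Fin 2) (ZMod 3)) = 2 ^ 4 * 3 := by
    rw [Matrix.card_GL_field, Fin.prod_univ_two, ZMod.card]; norm_num
  haveI : Fact (Nat.Prime 2) := ⟨Nat.prime_two⟩
  have hTc : Nat.card (T : Subgroup (GL (Fin 2) (ZMod 3))) = 2 ^ 4 := by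
    rw [T.card_eq_multiplicity, hGL]
    rw [Nat.factorization_mul (by norm_num) (by norm_num), Finsupp.add_apply, Nat.prime_two.factorization_pow,
      Finsupp.single_eq_same, Nat.factorization_eq_zero_of_not_dvd (by norm_num : ¬ 2 ∣ 3)]
  have hKT : K = T := Subgroup.eq_of_le_of_card_ge hT (by rw [hKc, hTc])
  obtain ⟨g, hg⟩ := MulAction.exists_smul_eq (GL (Fin 2) (ZMod 3)) T S
  let e : K ≃* (S : Subgroup (GL (Fin 2) (ZMod 3))) :=
    (MulEquiv.subgroupCongr hKT).trans ((Subgroup.equivSMul (MulAut.conj g) _).trans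
      (MulEquiv.subgroupCongr (by rw [← hg]; rfl)))
  have hxK : x ∈ K := ⟨(1, 0), by simp [f]⟩
  have hyK : y ∈ K := ⟨(0, 1), by simp [f]⟩
  refine ⟨3, le_rfl, by rw [← Nat.card_congr e.toEquiv, hKc], e ⟨x, hxK⟩, e ⟨y, hyK⟩, ?_, ?_, ?_⟩
  · rw [MulEquiv.orderOf_eq, Subgroup.orderOf_mk]
    exact orderOf_eq_prime_pow (p := 2) (n := 2) (by norm_num; exact hx4) (by norm_num; exact hx8)
  · rw [MulEquiv.orderOf_eq, Subgroup.orderOf_mk]
    exact orderOf_eq_prime hy2 hy1
  · rw [← map_inv, ← map_mul, ← map_mul, ← map_pow]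
    exact congrArg e (Subtype.ext (by norm_num; exact hyx))


/-- Let q be a prime, V a non-trivial finite vector space over the field with q elements, and G a non-trivial finite p-group (p prime) acting faithfully and linearly on V and transitively on the non-zero vectors. Then either q = 2 and G has prime order p = |V| − 1; or p = 2, V has q elements with q = 2^m + 1 and G is cyclic of order 2^m; or p = 2, q = 3, V has 9 elements and G is cyclic of order 8, quaternion of order 8, or semidihedral of order 16. -/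
theorem result (q : ℕ) [Fact q.Prime] {V : Type*} [AddCommGroup V] [Module (ZMod q) V] [Finite V] [Nontrivial V]
    {G : Type*} [Group G] [Finite G] [Nontrivial G] (p : ℕ) [Fact p.Prime] (hG : IsPGroup p G)
    (ρ : G →* (V ≃ₗ[ZMod q] V)) (hρ : Function.Injective ρ)
    (htrans : ∀ v w : V, v ≠ 0 → w ≠ 0 → ∃ g : G, ρ g v = w) :
    (q = 2 ∧ p = Nat.card V - 1 ∧ Nat.card G = p) ∨
    (p = 2 ∧ Nat.card V = q ∧ (∃ m : ℕ, q = 2 ^ m + 1 ∧ Nat.card G = 2 ^ m) ∧ IsCyclic G) ∨
    (p = 2 ∧ q = 3 ∧ Nat.card V = 9 ∧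
      ((IsCyclic G ∧ Nat.card G = 8) ∨ Nonempty (G ≃* QuaternionGroup 2) ∨ (Cfsg.IsQuasiDihedral G ∧ Nat.card G = 16))) := by
  classical
  letI act : MulAction G V :=
    { smul := fun g v => ρ g v
      one_smul := fun v => by show ρ 1 v = v; rw [map_one]; rfl
      mul_smul := fun g h v => by show ρ (g * h) v = ρ g (ρ h v); rw [map_mul]; rfl }
  have hact : ∀ (g : G) (v : V), g • v = ρ g v := fun _ _ => rfl
  obtain ⟨v₀, hv₀⟩ := exists_ne (0 : V)
  have horb : MulAction.orbit G v₀ = {w : V | w ≠ 0} := by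
    ext w
    constructor
    · rintro ⟨g, rfl⟩ h
      exact hv₀ ((ρ g).map_eq_zero_iff.mp h)
    · intro hw
      obtain ⟨g, hg⟩ := htrans v₀ w hv₀ hw
      exact ⟨g, hg⟩
  have hfaith : ∀ g : G, (∀ v, g • v = v) → g = 1 := fun g h =>
    hρ (by rw [map_one]; exact LinearEquiv.ext h)
  set n := Module.finrank (ZMod q) V with hn
  have hVc : Nat.card V = q ^ n := by rw [Module.natCard_eq_pow_finrank (K := ZMod q), Nat.card_zmod]
  have hidx : (MulAction.stabilizer G v₀).index = q ^ n - 1 := by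
    rw [MulAction.index_stabilizer, horb, ← hVc, show {w : V | w ≠ 0} = ({0} : Set V)ᶜ from rfl,
      Set.ncard_compl, Set.ncard_singleton]
  obtain ⟨A, hA⟩ := IsPGroup.iff_card.mp hG
  obtain ⟨a, -, ha⟩ := (Nat.dvd_prime_pow (Fact.out : p.Prime)).mp
    (show q ^ n - 1 ∣ p ^ A by rw [← hidx, ← hA]; exact Subgroup.index_dvd_card _)
  have hn0 : n ≠ 0 := by
    intro h
    have := Finite.one_lt_card (α := V)
    rw [hVc, h, pow_zero] at this
    omega
  have hone : n = 1 → ∀ g : G, g • v₀ = v₀ → g = 1 := by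
    intro hn1 g hg
    refine hfaith g fun v => ?_
    obtain ⟨c, rfl⟩ := exists_smul_eq_of_finrank_eq_one (hn ▸ hn1) hv₀ v
    rw [hact, map_smul, ← hact, hg]
  have hqp := (Fact.out : q.Prime)
  by_cases hq2 : q = 2
  · subst hq2
    left
    have ha0 : a ≠ 0 := by
      rintro rfl
      rw [pow_zero] at ha
      have hn1 : n = 1 := by
        by_contra h
        have : 2 ^ 2 ≤ 2 ^ n := Nat.pow_le_pow_right (by norm_num) (by omega)
        omega
      obtain ⟨g, hg⟩ := exists_ne (1 : G)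
      refine hg (hone hn1 g ?_)
      have hcard : (MulAction.orbit G v₀).ncard = 1 := by
        rw [← MulAction.index_stabilizer, hidx, ha]
      obtain ⟨w, hw⟩ := Set.ncard_eq_one.mp hcard
      have h1 : g • v₀ ∈ MulAction.orbit G v₀ := MulAction.mem_orbit _ g
      have h2 : v₀ ∈ MulAction.orbit G v₀ := MulAction.mem_orbit_self _
      rw [hw, Set.mem_singleton_iff] at h1 h2
      rw [h1, h2]
    have ha1 := mersenne_exponent Fact.out ha ha0
    rw [ha1, pow_one] at ha
    refine ⟨rfl, by rw [hVc]; omega, ?_⟩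
    have hAne : A ≠ 0 := by
      rintro rfl
      have := Finite.one_lt_card (α := G)
      rw [hA, pow_zero] at this; omega
    haveI hnorm : (MulAction.stabilizer G v₀).Normal := by
      refine Subgroup.normal_of_index_eq_minFac_card ?_
      rw [hidx, ha, hA, Nat.pow_minFac hAne, (Fact.out : p.Prime).minFac_eq]
    have hstab : MulAction.stabilizer G v₀ = ⊥ := by
      rw [eq_bot_iff]
      intro g hg
      rw [Subgroup.mem_bot]
      refine hfaith g fun v => ?_
      rcases eq_or_ne v 0 with rfl | hv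
      · rw [hact, map_zero]
      · obtain ⟨h, rfl⟩ : v ∈ MulAction.orbit G v₀ := by rw [horb]; exact hv
        show g • (h • v₀) = h • v₀
        have h2 : h⁻¹ * g * h⁻¹⁻¹ ∈ MulAction.stabilizer G v₀ := hnorm.conj_mem g hg h⁻¹
        rw [inv_inv, MulAction.mem_stabilizer_iff, mul_smul, mul_smul, inv_smul_eq_iff] at h2
        exact h2
    have := (MulAction.stabilizer G v₀).card_mul_index
    rw [hidx, hstab, Subgroup.card_bot, one_mul, ha] at this
    exact this.symm
  right
  have hqodd : Odd q := hqp.odd_of_ne_two hq2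
  have hp2 : p = 2 := by
    have he : Even (q ^ n - 1) := by
      obtain ⟨d, hd⟩ := hqodd.pow (n := n)
      exact ⟨d, by omega⟩
    rw [ha] at he
    exact ((Fact.out : p.Prime).even_iff).mp ((Nat.even_pow.mp he).1)
  subst hp2
  rcases eq_or_ne n 1 with hn1 | hn1
  · left
    have hstab : MulAction.stabilizer G v₀ = ⊥ := by
      rw [eq_bot_iff]; exact fun g hg => Subgroup.mem_bot.mpr (hone hn1 g hg)
    have hGc : Nat.card G = q - 1 := by
      have := (MulAction.stabilizer G v₀).card_mul_index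
      rw [hidx, hstab, Subgroup.card_bot, one_mul, hn1, pow_one] at this
      exact this.symm
    rw [hn1, pow_one] at ha
    refine ⟨rfl, by rw [hVc, hn1, pow_one], ⟨a, ?_, by rw [hGc, ha]⟩, ?_⟩
    · have := hqp.two_le; omega
    · let f : G →* ZMod q := (LinearMap.det).comp ((LinearEquiv.automorphismGroup.toLinearMapMonoidHom).comp ρ)
      refine isCyclic_of_subgroup_isDomain f ?_
      intro g h hgh
      obtain ⟨c, hc⟩ : ∃ c, (h⁻¹ * g) • v₀ = c • v₀ := ⟨_, (exists_smul_eq_of_finrank_eq_one (hn ▸ hn1) hv₀ ((h⁻¹ * g) • v₀)).choose_spec.symm⟩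
      have hall : (ρ (h⁻¹ * g)).toLinearMap = c • LinearMap.id := by
        ext v
        obtain ⟨d, rfl⟩ := exists_smul_eq_of_finrank_eq_one (hn ▸ hn1) hv₀ v
        show ρ (h⁻¹ * g) (d • v₀) = c • d • v₀
        rw [map_smul, ← hact, hc, smul_comm]
      have hf : f (h⁻¹ * g) = c := by
        show LinearMap.det (ρ (h⁻¹ * g)).toLinearMap = c
        rw [hall, LinearMap.det_smul, LinearMap.det_id, ← hn, hn1, pow_one, mul_one]
      have hc1 : c = 1 := by
        rw [← hf, map_mul, hgh, ← map_mul, inv_mul_cancel, map_one]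
      rw [hc1, one_smul] at hc
      exact (inv_mul_eq_one.mp (hone hn1 _ hc)).symm
  · right
    obtain ⟨hq3, hn2⟩ := fermat_case hqp hq2 (by omega) ha
    subst hq3
    refine ⟨rfl, rfl, by rw [hVc, hn2]; norm_num, ?_⟩
    let b : Module.Basis (Fin 2) (ZMod 3) V := (Module.finBasisOfFinrankEq (ZMod 3) V (hn ▸ hn2))
    let ψ : G →* GL (Fin 2) (ZMod 3) :=
      (Units.map (LinearMap.toMatrixAlgEquiv b).toRingEquiv.toRingHom.toMonoidHom).comp
        ((LinearMap.GeneralLinearGroup.generalLinearEquiv (ZMod 3) V).symm.toMonoidHom.comp ρ)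
    have hψ : Function.Injective ψ := by
      intro g h e
      apply hρ
      apply (LinearMap.GeneralLinearGroup.generalLinearEquiv (ZMod 3) V).symm.injective
      apply Units.ext
      exact (LinearMap.toMatrixAlgEquiv b).injective (congrArg Units.val e)
    have hGL : Nat.card (GL (Fin 2) (ZMod 3)) = 48 := by
      rw [Matrix.card_GL_field, Fin.prod_univ_two, ZMod.card]; norm_num
    have hd : Nat.card G ∣ 48 := hGL ▸ Subgroup.card_dvd_of_injective ψ hψ
    have h8 : 8 ∣ Nat.card G := by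
      have := Subgroup.index_dvd_card (MulAction.stabilizer G v₀)
      rw [hidx, hn2] at this
      simpa using this
    rw [hA] at hd h8
    have hA' : A = 3 ∨ A = 4 := by
      have h1 : 2 ^ 3 ≤ 2 ^ A := Nat.le_of_dvd (pow_pos (by norm_num) _) h8
      have h3 : 3 ≤ A := (Nat.pow_le_pow_iff_right (by norm_num)).mp h1
      have h2 : A ≤ 5 := by
        by_contra h
        have := Nat.le_of_dvd (by norm_num) hd
        have : 2 ^ 6 ≤ 2 ^ A := Nat.pow_le_pow_right (by norm_num) (by omega)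
        omega
      interval_cases A <;> first | omega | (norm_num at hd)
    rcases hA' with h | h
    · subst h
      have hstab : MulAction.stabilizer G v₀ = ⊥ := by
        apply Subgroup.eq_bot_of_card_eq
        have := (MulAction.stabilizer G v₀).card_mul_index
        rw [hidx, hA, hn2] at this
        norm_num at this ⊢
        omega
      have hfree : ∀ g : G, g ≠ 1 → ∀ v : V, v ≠ 0 → g • v ≠ v := by
        intro g hg v hv hgv
        obtain ⟨k, rfl⟩ : v ∈ MulAction.orbit G v₀ := by rw [horb]; exact hv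
        have hgv' : g • (k • v₀) = k • v₀ := hgv
        have h2 : k⁻¹ * g * k ∈ MulAction.stabilizer G v₀ := by
          rw [MulAction.mem_stabilizer_iff, mul_smul, mul_smul, hgv', inv_smul_smul]
        rw [hstab, Subgroup.mem_bot] at h2
        apply hg
        calc g = k * (k⁻¹ * g * k) * k⁻¹ := by group
          _ = 1 := by rw [h2]; group
      have hneg : ∀ g : G, orderOf g = 2 → ∀ v : V, ρ g v = -v := by
        intro g hg v
        have hg1 : g ≠ 1 := fun h => by rw [h, orderOf_one] at hg; omega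
        by_contra hne
        have hne' : ρ g v + v ≠ 0 := fun h => hne (eq_neg_of_add_eq_zero_left h)
        refine hfree g hg1 _ hne' ?_
        show ρ g (ρ g v + v) = ρ g v + v
        have : g * g = 1 := by rw [← pow_two, ← hg, pow_orderOf_eq_one]
        rw [map_add, ← hact g (ρ g v), ← hact g v, smul_smul, this, one_smul, add_comm]
      rcases Cfsg.Agent.Fusion.cyclic_or_quaternion hG (fun u v hu hv =>
          hρ (LinearEquiv.ext fun w => by rw [hneg u hu, hneg v hv])) with hc | ⟨k, hk, ⟨e⟩⟩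
      · exact Or.inl ⟨hc, by rw [hA]; norm_num⟩
      · right; left
        have hke := Nat.card_congr e.toEquiv
        haveI : NeZero (2 ^ k) := ⟨(pow_pos (by norm_num) k).ne'⟩
        rw [hA, Nat.card_eq_fintype_card (α := QuaternionGroup (2 ^ k)), QuaternionGroup.card] at hke
        have h4 : 2 ^ k = 2 ^ 1 := by norm_num at hke ⊢; omega
        have : k = 1 := Nat.pow_right_injective le_rfl h4
        subst this
        exact ⟨e⟩
    · subst h
      right; right
      refine ⟨?_, by rw [hA]; norm_num⟩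
      have hR : IsPGroup 2 ψ.range := hG.of_surjective ψ.rangeRestrict ψ.rangeRestrict_surjective
      obtain ⟨S, hS⟩ := hR.exists_le_sylow
      have hSc : Nat.card (S : Subgroup (GL (Fin 2) (ZMod 3))) ≤ 16 := by
        obtain ⟨j, hj⟩ := IsPGroup.iff_card.mp S.isPGroup'
        have hd' := Subgroup.card_subgroup_dvd_card (S : Subgroup (GL (Fin 2) (ZMod 3)))
        rw [hGL, hj] at hd'
        have hj5 : j ≤ 5 := by
          by_contra hh
          have := Nat.le_of_dvd (by norm_num) hd'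
          have : 2 ^ 6 ≤ 2 ^ j := Nat.pow_le_pow_right (by norm_num) (by omega)
          omega
        rw [hj]
        interval_cases j <;> first | omega | (norm_num at hd')
      have hRS : ψ.range = S := Subgroup.eq_of_le_of_card_ge hS (by
        rw [← Nat.card_congr (MonoidHom.ofInjective hψ).toEquiv, hA]; exact hSc)
      let e : (S : Subgroup (GL (Fin 2) (ZMod 3))) ≃* G :=
        (MulEquiv.subgroupCongr hRS.symm).trans (MonoidHom.ofInjective hψ).symm
      obtain ⟨k, hk, hkc, x, y, hx, hy, hxy⟩ := syl_gl23 S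
      refine ⟨k, hk, by rw [← Nat.card_congr e.toEquiv, hkc], e x, e y, by rw [MulEquiv.orderOf_eq, hx],
        by rw [MulEquiv.orderOf_eq, hy], ?_⟩
      rw [← map_inv, ← map_mul, ← map_mul, ← map_pow, hxy]

end Cfsg.Agent.S3370
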