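import Cfsg.Statements.S3374
import Cfsg.Agent.FPF25.Sl25Eleven
import Cfsg.Agent.FPF25.Sl25
import Cfsg.Agent.FrobExamples.Basic
-- import your own Cfsg.Agent.* helpers here

set_option autoImplicit false
open Cfsg

namespace Cfsg.Agent.S3374

/-- SL(2,5) occurs as a Frobenius complement: there is a finite group L with a subgroup H isomorphic to SL(2,5) which is a non-trivial proper subgroup meeting each conjugate gHg⁻¹ with g outside H trivially. -/
theorem result :
    ∃ (L : Type) (_ : Group L) (_ : Finite L) (H : Subgroup L),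
      Cfsg.IsFrobeniusComplement H ∧ Nonempty (H ≃* Matrix.SpecialLinearGroup (Fin 2) (ZMod 5)) := by
  classical
  have : Fact (Nat.Prime 11) := ⟨by norm_num⟩
  let ρ := FPF25.Icos.elevenHom.toHomUnits
  let φ : Matrix.SpecialLinearGroup (Fin 2) (ZMod 5) →* MulAut (Multiplicative (Fin 2 → ZMod 11)) :=
    { toFun := fun g => AddEquiv.toMultiplicative
        { toFun := fun v => (ρ g : Matrix (Fin 2) (Fin 2) (ZMod 11)).mulVec v
          invFun := fun v => (ρ g⁻¹ : Matrix (Fin 2) (Fin 2) (ZMod 11)).mulVec v
          left_inv := fun v => by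
            beta_reduce
            rw [Matrix.mulVec_mulVec, ← Units.val_mul, ← map_mul, inv_mul_cancel, map_one, Units.val_one,
              Matrix.one_mulVec]
          right_inv := fun v => by
            beta_reduce
            rw [Matrix.mulVec_mulVec, ← Units.val_mul, ← map_mul, mul_inv_cancel, map_one, Units.val_one,
              Matrix.one_mulVec]
          map_add' := Matrix.mulVec_add _ }
      map_one' := MulEquiv.ext fun v => Multiplicative.toAdd.injective (by
        show (ρ 1 : Matrix (Fin 2) (Fin 2) (ZMod 11)).mulVec (Multiplicative.toAdd v) = Multiplicative.toAdd v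
        rw [map_one, Units.val_one, Matrix.one_mulVec])
      map_mul' := fun a b => MulEquiv.ext fun v => Multiplicative.toAdd.injective (by
        show (ρ (a * b) : Matrix (Fin 2) (Fin 2) (ZMod 11)).mulVec (Multiplicative.toAdd v) =
          (ρ a : Matrix (Fin 2) (Fin 2) (ZMod 11)).mulVec
            ((ρ b : Matrix (Fin 2) (Fin 2) (ZMod 11)).mulVec (Multiplicative.toAdd v))
        rw [map_mul, Units.val_mul, Matrix.mulVec_mulVec]) }
  have : Nontrivial (Matrix.SpecialLinearGroup (Fin 2) (ZMod 5)) :=
    Finite.one_lt_card_iff_nontrivial.mp (by rw [FPF25.card_sl25]; norm_num)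
  obtain ⟨L, i1, i2, C, hC, ⟨e⟩⟩ := FrobExamples.exists_frobenius_of_action φ fun g hg v hv =>
    Multiplicative.toAdd.injective (FPF25.Icos.elevenHom_free hg (congrArg Multiplicative.toAdd hv))
  exact ⟨L, i1, i2, C, hC, ⟨e.symm⟩⟩

end Cfsg.Agent.S3374
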