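import Cfsg.Statements.S3375


set_option autoImplicit false
open Cfsg

namespace Cfsg.Agent.S3375

/-- Let γ be an automorphism of order 2 of a finite group H. (i) If γ fixes only the identity, then H is abelian and γ inverts every element. (ii) If γ has exactly two fixed points and H has a subgroup of index 2, then H has a γ-invariant abelian subgroup of index 2 on which γ acts by inversion. -/
theorem result {H : Type*} [Group H] [Finite H] (γ : MulAut H) (hγ : orderOf γ = 2) :
    ((∀ h : H, γ h = h → h = 1) → (∀ a b : H, a * b = b * a) ∧ ∀ h : H, γ h = h⁻¹) ∧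
    ((Nat.card {h : H // γ h = h} = 2 ∧ ∃ M : Subgroup H, M.index = 2) →
      ∃ A : Subgroup H, A.index = 2 ∧ IsMulCommutative A ∧ (∀ a ∈ A, γ a ∈ A) ∧ ∀ a ∈ A, γ a = a⁻¹) := by
  have hinv : Function.Involutive γ := fun x => by
    have h : (γ ^ 2) x = x := by rw [← hγ, pow_orderOf_eq_one]; rfl
    rwa [pow_two, MulAut.mul_apply] at h
  refine ⟨fun hfix => ?_, fun ⟨h2, M, hM⟩ => ?_⟩
  · have hf : MonoidHom.FixedPointFree (⇑γ) := hfix
    exact ⟨fun a b => hf.commute_all_of_involutive (φ := γ.toMonoidHom) hinv a b,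
      fun x => congrFun (hf.coe_eq_inv_of_involutive (φ := γ.toMonoidHom) hinv) x⟩
  · classical
    obtain ⟨A, hA1, hAinv⟩ : ∃ A : Subgroup H, A.index = 2 ∧ ∀ x, x ∈ A ↔ γ x ∈ A := by
      by_cases hMi : ∀ x, x ∈ M ↔ γ x ∈ M
      · exact ⟨M, hM, hMi⟩
      simp only [not_forall] at hMi
      obtain ⟨a, ha⟩ := hMi
      refine ⟨{ carrier := {x | x ∈ M ↔ γ x ∈ M}
                one_mem' := by simp [one_mem]
                mul_mem' := fun {x y} hx hy => by
                  simp only [Set.mem_setOf_eq, map_mul, Subgroup.mul_mem_iff_of_index_two hM] at *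
                  tauto
                inv_mem' := fun {x} hx => by simpa [inv_mem_iff] using hx },
        Subgroup.index_eq_two_iff.mpr ⟨a, fun b => ?_⟩, fun x => ?_⟩
      · show Xor (b * a ∈ M ↔ γ (b * a) ∈ M) (b ∈ M ↔ γ b ∈ M)
        rw [map_mul, Subgroup.mul_mem_iff_of_index_two hM, Subgroup.mul_mem_iff_of_index_two hM]
        unfold Xor
        tauto
      · show (x ∈ M ↔ γ x ∈ M) ↔ (γ x ∈ M ↔ γ (γ x) ∈ M)
        rw [hinv x]; tauto
    have : Fintype H := Fintype.ofFinite H
    set I : Finset H := Finset.univ.image fun h => h⁻¹ * γ h with hI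
    have hcount : Fintype.card H ≤ 2 * I.card := by
      refine Finset.card_le_mul_card_image (Finset.univ : Finset H) 2 fun y hy => ?_
      obtain ⟨k, -, rfl⟩ := Finset.mem_image.mp hy
      refine (Finset.card_le_card_of_injOn (fun x => x * k⁻¹)
        (t := Finset.univ.filter fun x => γ x = x) ?_ ?_).trans ?_
      · intro x hx
        simp only [Finset.coe_filter, Finset.mem_filter, Finset.mem_univ, true_and, Set.mem_setOf_eq] at hx ⊢
        have h3 : γ x = x * (k⁻¹ * γ k) := by rw [← hx]; group
        rw [map_mul, map_inv, h3]; group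
      · intro x _ y _ h; exact mul_right_cancel h
      · rw [← Fintype.card_subtype, ← Nat.card_eq_fintype_card, h2]
    have hsub : (I : Set H) ⊆ A := by
      intro y hy
      obtain ⟨k, -, rfl⟩ := Finset.mem_image.mp hy
      rw [SetLike.mem_coe, Subgroup.mul_mem_iff_of_index_two hA1, inv_mem_iff]
      exact hAinv k
    have hcard : Nat.card A * 2 = Fintype.card H := by
      rw [← hA1, Subgroup.card_mul_index, Nat.card_eq_fintype_card]
    have hAI : (I : Set H) = A := Set.eq_of_subset_of_ncard_le hsub (by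
      rw [Set.ncard_coe_finset]
      change (A : Set H).ncard ≤ _
      rw [← Nat.card_coe_set_eq]
      change Nat.card A ≤ _
      omega)
    have hall : ∀ a ∈ A, γ a = a⁻¹ := by
      intro a ha
      rw [← SetLike.mem_coe, ← hAI, Finset.mem_coe, hI, Finset.mem_image] at ha
      obtain ⟨k, -, rfl⟩ := ha
      rw [map_mul, map_inv, hinv k]; group
    refine ⟨A, hA1, ⟨⟨fun a b => Subtype.ext ?_⟩⟩, fun a ha => (hAinv a).mp ha, hall⟩
    have h := hall _ (mul_mem a.2 b.2)
    rw [map_mul, hall _ a.2, hall _ b.2, ← mul_inv_rev, inv_inj] at h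
    exact h.symm

end Cfsg.Agent.S3375
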