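import Cfsg.Statements.S3376
import Mathlib
import Cfsg.Agent.Order162.Iso

set_option autoImplicit false
open Cfsg

namespace Cfsg.Agent.S3376

open scoped Pointwise

/-- Let G be a group of order 162 = 3⁴·2 with Sylow 3-subgroup S and Sylow 2-subgroup T, having an elementary abelian normal subgroup J of order 27, such that Z = Z(S) has order 3, Z centralizes T, and C_S(T) ≠ S. Then G is isomorphic to the centralizer in Sym(9) of a product of three disjoint 3-cycles. -/
theorem result {G : Type*} [Group G] [Finite G] (hG : Nat.card G = 162)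
    (S : Sylow 3 G) (T : Sylow 2 G) (J : Subgroup G) [hJn : J.Normal] (hJcomm : IsMulCommutative J)
    (hJexp : ∀ a ∈ J, a ^ 3 = 1) (hJcard : Nat.card J = 27)
    (Z : Subgroup G) (hZ : Z = (S : Subgroup G) ⊓ Subgroup.centralizer ((S : Subgroup G) : Set G)) (hZcard : Nat.card Z = 3)
    (hZT : Z ≤ Subgroup.centralizer ((T : Subgroup G) : Set G))
    (hST : (S : Subgroup G) ⊓ Subgroup.centralizer ((T : Subgroup G) : Set G) ≠ S) :
    Nonempty (G ≃* Subgroup.centralizer ({Equiv.swap (0 : Fin 9) 1 * Equiv.swap 1 2 * Equiv.swap 3 4 * Equiv.swap 4 5 * Equiv.swap 6 7 * Equiv.swap 7 8} : Set (Equiv.Perm (Fin 9)))) := by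
  classical
  have : Fact (Nat.Prime 2) := ⟨Nat.prime_two⟩
  have : Fact (Nat.Prime 3) := ⟨Nat.prime_three⟩
  have hfac : Nat.card G = 3 ^ 4 * 2 ^ 1 := by rw [hG]; rfl
  have hScard : Nat.card S = 81 := by
    rw [S.card_eq_multiplicity, hfac, Nat.factorization_mul (by norm_num) (by norm_num), Finsupp.add_apply,
      Nat.prime_three.factorization_pow, Nat.prime_two.factorization_pow, Finsupp.single_eq_same,
      Finsupp.single_eq_of_ne (by norm_num)]
    rfl
  have hTcard : Nat.card T = 2 := by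
    rw [T.card_eq_multiplicity, hfac, Nat.factorization_mul (by norm_num) (by norm_num), Finsupp.add_apply,
      Nat.prime_three.factorization_pow, Nat.prime_two.factorization_pow, Finsupp.single_eq_same,
      Finsupp.single_eq_of_ne (by norm_num)]
    rfl
  have hSn : (S : Subgroup G).Normal := Subgroup.normal_of_index_eq_two (by
    have := (S : Subgroup G).card_mul_index
    rw [hScard, hG] at this; omega)
  have hdec : (S : Subgroup G).IsComplement' T :=
    Subgroup.isComplement'_of_coprime (by rw [hScard, hTcard, hG]) (by rw [hScard, hTcard]; norm_num)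
  obtain ⟨⟨t, htT⟩, htord⟩ := exists_prime_orderOf_dvd_card' (G := T) 2 (by rw [hTcard])
  rw [Subgroup.orderOf_mk] at htord
  have hTz : (T : Subgroup G) = Subgroup.zpowers t := (Subgroup.eq_of_le_of_card_ge (Subgroup.zpowers_le.2 htT)
    (by rw [Nat.card_zpowers, htord, hTcard])).symm
  have ht2 : t * t = 1 := by rw [← sq, ← htord, pow_orderOf_eq_one]
  have htS : t ∉ (S : Subgroup G) := fun h => by
    have := Subgroup.disjoint_def.1 hdec.disjoint h htT
    rw [this, orderOf_one] at htord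
    omega
  have hJS : J ≤ (S : Subgroup G) := by
    obtain ⟨Q, hQ⟩ := (IsPGroup.of_card (p := 3) (n := 3) (by rw [hJcard]; rfl) : IsPGroup 3 J).exists_le_sylow
    have : Subsingleton (Sylow 3 G) := (Sylow.unique_of_normal S hSn).instSubsingleton
    rwa [Subsingleton.elim Q S] at hQ
  have hJc : ∀ a ∈ J, ∀ b ∈ J, a * b = b * a := fun a ha b hb =>
    congrArg Subtype.val (hJcomm.is_comm.comm ⟨a, ha⟩ ⟨b, hb⟩)
  have hZmem : ∀ {y}, y ∈ Z ↔ y ∈ (S : Subgroup G) ∧ ∀ s ∈ (S : Subgroup G), s * y = y * s := fun {y} => by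
    rw [hZ]; exact Iff.rfl
  obtain ⟨⟨z, hzZ⟩, hzord⟩ := exists_prime_orderOf_dvd_card' (G := Z) 3 (by rw [hZcard])
  rw [Subgroup.orderOf_mk] at hzord
  have hZz : Z = Subgroup.zpowers z := (Subgroup.eq_of_le_of_card_ge (Subgroup.zpowers_le.2 hzZ)
    (by rw [Nat.card_zpowers, hzord, hZcard])).symm
  have hzt : t * z = z * t := Subgroup.mem_centralizer_iff.1 (hZT hzZ) t htT
  have hzc : ∀ g, g * z = z * g := by
    intro g
    obtain ⟨⟨⟨s, hs⟩, ⟨u, hu⟩⟩, rfl⟩ := hdec.2 g
    show s * u * z = z * (s * u)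
    rw [mul_assoc, Subgroup.mem_centralizer_iff.1 (hZT hzZ) u hu, ← mul_assoc,
      (hZmem.1 hzZ).2 s hs, mul_assoc]
  -- a nontrivial normal subgroup inside `S` contains `z`
  have hnz : ∀ M : Subgroup G, M.Normal → M ≤ (S : Subgroup G) → M ≠ ⊥ → z ∈ M := by
    intro M hMn hMS hne
    obtain ⟨m, hm, hm1, hcen⟩ := Cfsg.Agent.Order162.exists_central (p := 3) (S : Subgroup G) M S.isPGroup'
      (S.isPGroup'.to_le hMS) hMn hne
    have : Subgroup.zpowers m = Z := Subgroup.eq_of_le_of_card_ge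
      (Subgroup.zpowers_le.2 (hZmem.2 ⟨hMS hm, hcen⟩)) (by
        rw [hZcard]
        have h1 : 1 < Nat.card (Subgroup.zpowers m) := Finite.one_lt_card_iff_nontrivial.2
          ((Subgroup.nontrivial_iff_ne_bot _).2 (by simpa using hm1))
        have h2 := Subgroup.card_dvd_of_le (Subgroup.zpowers_le.2 (hZmem.2 ⟨hMS hm, hcen⟩) : Subgroup.zpowers m ≤ Z)
        rw [hZcard] at h2
        rcases (Nat.dvd_prime Nat.prime_three).1 h2 with h | h <;> omega)
    exact Subgroup.zpowers_le.2 hm (this ▸ hzZ)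
  have hzJ : z ∈ J := hnz J hJn hJS (fun h => by rw [h, Subgroup.card_bot] at hJcard; omega)
  -- a hyperplane of `J` through the inverted part avoiding `z`
  let I : Subgroup G :=
    { carrier := {j | j ∈ J ∧ t * j * t = j⁻¹}
      one_mem' := ⟨one_mem J, by rw [mul_one, ht2, inv_one]⟩
      mul_mem' := fun {a b} ha hb => ⟨mul_mem ha.1 hb.1, by
        rw [show t * (a * b) * t = t * a * (t * t) * b * t by rw [ht2, mul_one]; group,
          show t * a * (t * t) * b * t = (t * a * t) * (t * b * t) by group, ha.2, hb.2, ← mul_inv_rev,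
          hJc b hb.1 a ha.1]⟩
      inv_mem' := fun {a} ha => ⟨inv_mem ha.1, by
        rw [inv_inv, ← inv_inj, mul_inv_rev, mul_inv_rev, inv_inv,
          show t⁻¹ = t from inv_eq_of_mul_eq_one_right ht2, ← mul_assoc, ha.2]⟩ }
  have hzI : z ∉ I := fun h => by
    have h2 : z = z⁻¹ := by
      calc z = t * t * z := by rw [ht2, one_mul]
        _ = t * (z * t) := by rw [← hzt]; group
        _ = z⁻¹ := by rw [← mul_assoc]; exact h.2
    have : orderOf z ∣ 2 := orderOf_dvd_of_pow_eq_one (by rw [sq]; nth_rw 1 [h2]; exact inv_mul_cancel z)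
    rw [hzord] at this
    omega
  obtain ⟨W, ⟨hIW, hWJ, hzW⟩, hmax⟩ := Set.Finite.exists_maximal
    (Set.toFinite {W : Subgroup G | I ≤ W ∧ W ≤ J ∧ z ∉ W}) ⟨I, le_rfl, fun j hj => hj.1, hzI⟩
  have hWn : ∀ w ∈ W, t * w * t⁻¹ ∈ W := by
    intro w hw
    have hI : w⁻¹ * (t * w * t⁻¹) ∈ I := by
      refine ⟨mul_mem (inv_mem (hWJ hw)) (hJn.conj_mem w (hWJ hw) t), ?_⟩
      rw [show t⁻¹ = t from inv_eq_of_mul_eq_one_right ht2,
        show t * (w⁻¹ * (t * w * t)) * t = (t * w⁻¹ * t) * w * (t * t) by group, ht2, mul_one,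
        show (w⁻¹ * (t * w * t))⁻¹ = t⁻¹ * w⁻¹ * t⁻¹ * w by group,
        show t⁻¹ = t from inv_eq_of_mul_eq_one_right ht2]
    rw [show t * w * t⁻¹ = w * (w⁻¹ * (t * w * t⁻¹)) by group]
    exact mul_mem hw (hIW hI)
  have hJW : ∀ j ∈ J, ∃ w ∈ W, ∃ i : ℤ, j = w * z ^ i := by
    intro j hj
    by_cases hjW : j ∈ W
    · exact ⟨j, hjW, 0, by rw [zpow_zero, mul_one]⟩
    have hle : W ⊔ Subgroup.zpowers j ≤ J := sup_le hWJ (Subgroup.zpowers_le.2 hj)
    have hzin : z ∈ W ⊔ Subgroup.zpowers j := by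
      by_contra hzn
      exact hjW (hmax ⟨hIW.trans le_sup_left, hle, hzn⟩ le_sup_left (Subgroup.mem_sup_right (Subgroup.mem_zpowers j)))
    have : z ∈ ((W : Set G) * (Subgroup.zpowers j : Set G)) := by
      rw [← Subgroup.coe_mul_of_right_le_normalizer_left _ _ (Subgroup.zpowers_le.2 ((Subgroup.mem_normalizer_iff).2 fun w => by
        constructor
        · intro hw; rwa [hJc j hj w (hWJ hw), mul_inv_cancel_right]
        · intro hw
          have hwJ : w ∈ J := by simpa [mul_assoc] using hJn.conj_mem _ (hWJ hw) j⁻¹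
          rwa [hJc j hj w hwJ, mul_inv_cancel_right] at hw))]
      exact hzin
    obtain ⟨w, hw, y, hy, hwy⟩ := this
    obtain ⟨i, rfl⟩ := Subgroup.mem_zpowers_iff.1 hy
    have hwy' : w * j ^ i = z := hwy
    have hj3 : j ^ (3 : ℤ) = 1 := by exact_mod_cast hJexp j hj
    have hz3 : z ^ (3 : ℤ) = 1 := by exact_mod_cast hJexp z hzJ
    have hwc : Commute w⁻¹ z := hJc _ (inv_mem (hWJ hw)) z hzJ
    have hji : j ^ i = w⁻¹ * z := by rw [← hwy', inv_mul_cancel_left]
    rcases (show i % 3 = 0 ∨ i % 3 = 1 ∨ i % 3 = 2 by omega) with h | h | h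
    · exfalso
      refine hzW ?_
      rw [← hwy', ← Int.emod_add_mul_ediv i 3, h, zero_add, zpow_mul, hj3, one_zpow, mul_one]
      exact hw
    · refine ⟨w⁻¹, inv_mem hw, 1, ?_⟩
      rw [zpow_one, ← hji, ← Int.emod_add_mul_ediv i 3, h, zpow_add, zpow_mul, hj3, one_zpow, mul_one, zpow_one]
    · refine ⟨(w⁻¹) ^ (2 : ℤ), zpow_mem (inv_mem hw) 2, 2, ?_⟩
      rw [← hwc.mul_zpow, ← hji, ← zpow_mul, ← Int.emod_add_mul_ediv i 3, h,
        show (2 + 3 * (i / 3)) * 2 = 1 + 3 * (1 + 2 * (i / 3)) by ring, zpow_add, zpow_mul, hj3, one_zpow, mul_one, zpow_one]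
  have hWcard : Nat.card W = 9 := by
    let f : W × Z → J := fun q => ⟨(q.1 : G) * q.2, mul_mem (hWJ q.1.2) (hnz J hJn hJS (fun h => by
      rw [h, Subgroup.card_bot] at hJcard; omega) |> fun h => by
        obtain ⟨i, hi⟩ := Subgroup.mem_zpowers_iff.1 (hZz ▸ q.2.2 : (q.2 : G) ∈ Subgroup.zpowers z)
        exact hi ▸ zpow_mem h i)⟩
    have hf : Function.Bijective f := by
      refine ⟨fun q r h => ?_, fun j => ?_⟩
      · have h' : (q.1 : G) * q.2 = r.1 * r.2 := congrArg Subtype.val h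
        have h2 : (r.1 : G)⁻¹ * q.1 = r.2 * (q.2 : G)⁻¹ := by
          calc (r.1 : G)⁻¹ * q.1 = (r.1 : G)⁻¹ * (q.1 * q.2) * (q.2 : G)⁻¹ := by group
            _ = _ := by rw [h']; group
        have h3 : (r.2 : G) * (q.2 : G)⁻¹ = 1 := by
          by_contra hne
          refine hzW ?_
          have hmem : (r.2 : G) * (q.2 : G)⁻¹ ∈ Z := mul_mem r.2.2 (inv_mem q.2.2)
          have heq : Subgroup.zpowers ((r.2 : G) * (q.2 : G)⁻¹) = Z := Subgroup.eq_of_le_of_card_ge
            (Subgroup.zpowers_le.2 hmem) (by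
              have h1 : 1 < Nat.card (Subgroup.zpowers ((r.2 : G) * (q.2 : G)⁻¹)) :=
                Finite.one_lt_card_iff_nontrivial.2 ((Subgroup.nontrivial_iff_ne_bot _).2 (by simpa using hne))
              have h2 := Subgroup.card_dvd_of_le (Subgroup.zpowers_le.2 hmem :
                Subgroup.zpowers ((r.2 : G) * (q.2 : G)⁻¹) ≤ Z)
              rw [hZcard] at h2 ⊢
              rcases (Nat.dvd_prime Nat.prime_three).1 h2 with h | h <;> omega)
          exact (Subgroup.zpowers_le.2 (h2 ▸ mul_mem (inv_mem r.1.2) q.1.2)) (heq.symm ▸ hzZ)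
        refine Prod.ext (Subtype.ext ?_) (Subtype.ext (mul_inv_eq_one.1 h3).symm)
        exact (inv_mul_eq_one.1 (h2.trans h3)).symm
      · obtain ⟨w, hw, i, hi⟩ := hJW j j.2
        exact ⟨(⟨w, hw⟩, ⟨z ^ i, zpow_mem hzZ i⟩), Subtype.ext hi.symm⟩
    have := Nat.card_congr (Equiv.ofBijective f hf)
    rw [Nat.card_prod, hZcard, hJcard] at this
    omega
  have hTN : (T : Subgroup G) ≤ Subgroup.normalizer (W : Set G) := by
    rw [hTz, Subgroup.zpowers_le, Subgroup.mem_normalizer_iff]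
    intro w
    refine ⟨hWn w, fun hw => ?_⟩
    have := hWn _ hw
    rwa [show t * (t * w * t⁻¹) * t⁻¹ = t * t * w * (t * t)⁻¹ by group, ht2, one_mul, inv_one, mul_one] at this
  set L := W ⊔ (T : Subgroup G) with hLdef
  have hLmem : ∀ g ∈ L, ∃ w ∈ W, ∃ u ∈ (T : Subgroup G), g = w * u := by
    intro g hg
    have : g ∈ ((W : Set G) * ((T : Subgroup G) : Set G)) := by
      rw [← Subgroup.coe_mul_of_right_le_normalizer_left _ _ hTN]; exact hg
    obtain ⟨w, hw, u, hu, rfl⟩ := this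
    exact ⟨w, hw, u, hu, rfl⟩
  have hdisj : ∀ w ∈ W, ∀ u ∈ (T : Subgroup G), w * u ∈ (S : Subgroup G) → u = 1 := fun w hw u hu h =>
    Subgroup.disjoint_def.1 hdec.disjoint
      (by simpa using mul_mem (inv_mem (hJS (hWJ hw))) h) hu
  have hLcard : Nat.card L = 18 := by
    let f : W × T → L := fun q => ⟨(q.1 : G) * q.2, mul_mem (Subgroup.mem_sup_left q.1.2) (Subgroup.mem_sup_right q.2.2)⟩
    have hf : Function.Bijective f := by
      refine ⟨fun q r h => ?_, fun g => ?_⟩
      · have h' : (q.1 : G) * q.2 = r.1 * r.2 := congrArg Subtype.val h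
        have h2 : (r.2 : G) * (q.2 : G)⁻¹ = (r.1 : G)⁻¹ * q.1 := by
          calc (r.2 : G) * (q.2 : G)⁻¹ = (r.1 : G)⁻¹ * (r.1 * r.2) * (q.2 : G)⁻¹ := by group
            _ = _ := by rw [← h']; group
        have h3 := Subgroup.disjoint_def.1 hdec.disjoint
          (h2 ▸ mul_mem (inv_mem (hJS (hWJ r.1.2))) (hJS (hWJ q.1.2))) (mul_mem r.2.2 (inv_mem q.2.2))
        exact Prod.ext (Subtype.ext (inv_mul_eq_one.1 (h2.symm.trans h3)).symm)
          (Subtype.ext (mul_inv_eq_one.1 h3).symm)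
      · obtain ⟨w, hw, u, hu, hg⟩ := hLmem g g.2
        exact ⟨(⟨w, hw⟩, ⟨u, hu⟩), Subtype.ext hg.symm⟩
    have := Nat.card_congr (Equiv.ofBijective f hf)
    rw [Nat.card_prod, hWcard, hTcard] at this
    omega
  have hzL : z ∉ L := fun h => by
    obtain ⟨w, hw, u, hu, hg⟩ := hLmem z h
    have hu1 := hdisj w hw u hu (hg ▸ hJS hzJ)
    rw [hu1, mul_one] at hg
    exact hzW (hg ▸ hw)
  have hcore : L.normalCore = ⊥ := by
    by_contra hne
    by_cases hS' : L.normalCore ⊓ (S : Subgroup G) = ⊥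
    · obtain ⟨n, hn, hn1⟩ := (Subgroup.bot_or_exists_ne_one _).resolve_left hne
      have hcS : ∀ s ∈ (S : Subgroup G), s * n = n * s := fun s hs =>
        Subgroup.commute_of_normal_of_disjoint _ _ hSn (Subgroup.normalCore_normal L)
          (disjoint_iff.2 (inf_comm _ _ |>.trans hS')) s n hs hn
      obtain ⟨w, hw, u, hu, hg⟩ := hLmem n (Subgroup.normalCore_le L hn)
      have hu1 : u ≠ 1 := fun h => by
        have : n ∈ L.normalCore ⊓ (S : Subgroup G) := ⟨hn, by rw [hg, h, mul_one]; exact hJS (hWJ hw)⟩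
        rw [hS', Subgroup.mem_bot] at this
        exact hn1 this
      have hut : u = t := by
        have h2 := Nat.card_eq_two_iff' (⟨1, one_mem _⟩ : T) |>.1 hTcard
        have e := h2.unique (y₁ := ⟨u, hu⟩) (y₂ := ⟨t, htT⟩) (fun h => hu1 (congrArg Subtype.val h))
          (fun h => htS (by rw [show t = 1 from congrArg Subtype.val h]; exact one_mem _))
        exact congrArg Subtype.val e
      have hw1 : w = 1 := by
        have hwc : w * t = t * w := by
          have h := hcS w (hJS (hWJ hw))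
          rw [hg, hut] at h
          calc w * t = w⁻¹ * (w * (w * t)) := by group
            _ = t * w := by rw [h]; group
        have hn3 : n ^ 3 = t := by
          rw [hg, hut, (show Commute w t from hwc).mul_pow, hJexp w (hWJ hw), one_mul, _root_.pow_succ, sq,
            ht2, one_mul]
        have hmem : n⁻¹ * n ^ 3 ∈ L.normalCore ⊓ (S : Subgroup G) := by
          refine Subgroup.mem_inf.2 ⟨mul_mem (inv_mem hn) (pow_mem hn 3), ?_⟩
          rw [hn3, hg, hut, hwc, mul_inv_rev, mul_assoc, inv_mul_cancel, mul_one]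
          exact inv_mem (hJS (hWJ hw))
        rw [hS', Subgroup.mem_bot, hn3, hg, hut, hwc, mul_inv_rev, mul_assoc, inv_mul_cancel, mul_one,
          inv_eq_one] at hmem
        exact hmem
      rw [hw1, one_mul, hut] at hg
      refine hST (inf_eq_left.2 fun s hs => ?_)
      rw [Subgroup.mem_centralizer_iff, hTz]
      intro v hv
      obtain ⟨i, rfl⟩ := Subgroup.mem_zpowers_iff.1 hv
      exact ((show Commute s t from hg ▸ hcS s hs).zpow_right i).symm
    · exact hzL (Subgroup.normalCore_le L (Subgroup.mem_inf.1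
        (hnz _ (Subgroup.normal_inf_normal _ _) inf_le_right hS')).1)
  exact Cfsg.Agent.Order162.iso_of_core_free hG L hLcard hcore z hzord hzc hzL _ (by decide)

end Cfsg.Agent.S3376
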