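import Cfsg.Statements.S3379
-- import your own Cfsg.Agent.* helpers here

set_option autoImplicit false
open Cfsg

namespace Cfsg.Agent.S3379

/-- Let G be a finite group all of whose Sylow subgroups are cyclic. Then G is generated by two elements x and y of coprime orders n and m with x⁻¹yx = y^r, where gcd(r − 1, m) = 1 and r^n ≡ 1 (mod m). -/
theorem result {G : Type*} [Group G] [Finite G]
    (hZ : ∀ (p : ℕ) [Fact p.Prime] (P : Sylow p G), IsCyclic (P : Subgroup G)) :
    ∃ (x y : G) (n m r : ℕ), Subgroup.closure {x, y} = ⊤ ∧ orderOf x = n ∧ orderOf y = m ∧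
      x⁻¹ * y * x = y ^ r ∧ Nat.Coprime (r - 1) m ∧ Nat.Coprime n m ∧ 1 ≤ r ∧ r ^ n % m = 1 % m := by
  classical
  have : IsZGroup G := ⟨fun p hp P => by have := Fact.mk hp; exact hZ p P⟩
  have hco := IsZGroup.coprime_commutator_index G
  obtain ⟨H, hH⟩ := Subgroup.exists_right_complement'_of_coprime hco
  have : IsCyclic (commutator G) := IsZGroup.isCyclic_commutator G
  have h1 : Abelianization G ≃* H := hH.symm.QuotientMulEquiv
  have hHc : IsCyclic H := isCyclic_of_surjective _ h1.surjective
  obtain ⟨⟨y, hy⟩, hygen⟩ := IsCyclic.exists_generator (α := commutator G)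
  obtain ⟨⟨x, hx⟩, hxgen⟩ := IsCyclic.exists_generator (α := H)
  have hY : Subgroup.zpowers y = commutator G := by
    refine le_antisymm (Subgroup.zpowers_le.mpr hy) fun z hz => ?_
    obtain ⟨k, hk⟩ := Subgroup.mem_zpowers_iff.mp (hygen ⟨z, hz⟩)
    exact ⟨k, by simpa using congrArg Subtype.val hk⟩
  have hX : Subgroup.zpowers x = H := by
    refine le_antisymm (Subgroup.zpowers_le.mpr hx) fun z hz => ?_
    obtain ⟨k, hk⟩ := Subgroup.mem_zpowers_iff.mp (hxgen ⟨z, hz⟩)
    exact ⟨k, by simpa using congrArg Subtype.val hk⟩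
  have hm : orderOf y = Nat.card (commutator G) := by rw [← Nat.card_zpowers, hY]
  have hn : orderOf x = (commutator G).index := by
    rw [← Nat.card_zpowers, hX, hH.symm.index_eq_card]
  have hgen : Subgroup.closure ({x, y} : Set G) = ⊤ := by
    rw [Set.insert_eq, Subgroup.closure_union, ← Subgroup.zpowers_eq_closure, ← Subgroup.zpowers_eq_closure,
      hX, hY, sup_comm]
    exact hH.sup_eq_top
  have hconj : x⁻¹ * y * x ∈ Subgroup.zpowers y := by
    rw [hY]
    have : (commutator G).Normal := inferInstance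
    simpa using this.conj_mem y hy x⁻¹
  obtain ⟨s, hs⟩ : ∃ s : ℕ, y ^ s = x⁻¹ * y * x := by
    rw [← mem_powers_iff_mem_zpowers] at hconj
    exact hconj
  set m := orderOf y with hmdef
  have hm0 : 0 < m := orderOf_pos y
  obtain ⟨r, hr1, hr⟩ : ∃ r, 1 ≤ r ∧ y ^ r = x⁻¹ * y * x := by
    refine ⟨s + m, by omega, ?_⟩
    rw [pow_add, pow_orderOf_eq_one, mul_one, hs]
  refine ⟨x, y, orderOf x, m, r, hgen, rfl, rfl, hr.symm, ?_, ?_, hr1, ?_⟩
  · set K := Subgroup.zpowers (y ^ (r - 1)) with hK
    have hKY : K ≤ commutator G := hY ▸ Subgroup.zpowers_le.mpr (pow_mem (Subgroup.mem_zpowers y) _)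
    have hKn : K.Normal := by
      refine ⟨fun z hz g => ?_⟩
      have key : ∀ g : G, g * y * g⁻¹ ∈ Subgroup.zpowers y → g * y ^ (r - 1) * g⁻¹ ∈ K := by
        intro g hg
        obtain ⟨k, hk⟩ := Subgroup.mem_zpowers_iff.mp hg
        refine ⟨k, ?_⟩
        change (y ^ (r - 1)) ^ k = _
        rw [← conj_pow, ← hk, ← zpow_natCast, ← zpow_natCast, ← zpow_mul, ← zpow_mul, mul_comm]
      obtain ⟨k, rfl⟩ := Subgroup.mem_zpowers_iff.mp hz
      rw [← conj_zpow]
      refine zpow_mem (key g ?_) k
      rw [hY]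
      exact (inferInstance : (commutator G).Normal).conj_mem y hy g
    have hq : commutator G ≤ K := by
      have hxy : (QuotientGroup.mk' K x) * QuotientGroup.mk' K y = QuotientGroup.mk' K y * QuotientGroup.mk' K x := by
        rw [← map_mul, ← map_mul]
        apply QuotientGroup.eq.mpr
        refine ⟨1, ?_⟩
        change (y ^ (r - 1)) ^ (1 : ℤ) = (x * y)⁻¹ * (y * x)
        have e : y ^ r = y * y ^ (r - 1) := by rw [← pow_succ']; congr 1; omega
        rw [zpow_one, mul_inv_rev, mul_assoc, ← mul_assoc x⁻¹ y, ← hr, e, ← mul_assoc, inv_mul_cancel, one_mul]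
      have hall : ∀ g : G, ∀ z, (z = x ∨ z = y) →
          Commute (QuotientGroup.mk' K z) (QuotientGroup.mk' K g) := by
        intro g z hz
        have hg : g ∈ (Subgroup.centralizer {QuotientGroup.mk' K z}).comap (QuotientGroup.mk' K) := by
          refine (Subgroup.closure_le _).mpr ?_ (hgen ▸ Subgroup.mem_top g)
          rintro w (rfl | rfl) <;> rcases hz with rfl | rfl <;>
            simp only [SetLike.mem_coe, Subgroup.mem_comap, Subgroup.mem_centralizer_singleton_iff]
          exacts [hxy, hxy.symm]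
        exact (Subgroup.mem_centralizer_singleton_iff.mp hg).symm
      have hcomm : ∀ g h : G, Commute (QuotientGroup.mk' K g) (QuotientGroup.mk' K h) := by
        intro g h
        have hh : h ∈ (Subgroup.centralizer {QuotientGroup.mk' K g}).comap (QuotientGroup.mk' K) := by
          refine (Subgroup.closure_le _).mpr ?_ (hgen ▸ Subgroup.mem_top h)
          rintro w hw
          simp only [SetLike.mem_coe, Subgroup.mem_comap, Subgroup.mem_centralizer_singleton_iff]
          exact (hall g w hw).eq
        exact (Subgroup.mem_centralizer_singleton_iff.mp hh).symm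
      rw [commutator_def, Subgroup.commutator_le]
      intro g _ h _
      rw [← QuotientGroup.eq_one_iff, ← QuotientGroup.mk'_apply, map_commutatorElement, commutatorElement_eq_one_iff_commute]
      exact hcomm g h
    have hord : orderOf (y ^ (r - 1)) = m := by
      rw [← Nat.card_zpowers, ← hK, le_antisymm hKY hq, hm]
    rw [orderOf_pow] at hord
    have := Nat.div_eq_self.mp hord
    rcases this with h | h
    · omega
    · exact Nat.coprime_comm.mp h
  · rw [hn, hm]; exact hco.symm
  · have e : ∀ j, (x⁻¹) ^ j * y * ((x⁻¹) ^ j)⁻¹ = y ^ (r ^ j) := by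
      intro j
      induction j with
      | zero => simp
      | succ j ih =>
        rw [pow_succ', mul_inv_rev, inv_inv, show x⁻¹ * x⁻¹ ^ j * y * ((x⁻¹ ^ j)⁻¹ * x) =
          x⁻¹ * (x⁻¹ ^ j * y * (x⁻¹ ^ j)⁻¹) * x⁻¹⁻¹ by rw [inv_inv]; group, ih, ← conj_pow, inv_inv,
          ← hr, ← pow_mul, ← pow_succ']
    have h1 := e (orderOf x)
    simp only [inv_pow, pow_orderOf_eq_one, inv_one, one_mul, mul_one] at h1
    exact (pow_eq_pow_iff_modEq (n := r ^ orderOf x) (m := 1)).mp (by rw [← h1, pow_one])

end Cfsg.Agent.S3379
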