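import Cfsg.Statements.S3381
-- import your own Cfsg.Agent.* helpers here

set_option autoImplicit false
open Cfsg

namespace Cfsg.Agent.S3381

/-- Let G be a finite group acting faithfully and linearly on a non-trivial finite vector space V over the field with q elements (q prime) so that every non-zero vector has a stabilizer of order 2, and suppose G has a central involution. Then V has q^(2r) elements for some r and G contains exactly q^r + 1 non-central involutions. -/
theorem result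
    (q : ℕ) [Fact q.Prime] {V : Type*} [AddCommGroup V] [Module (ZMod q) V] [Finite V] [Nontrivial V]
    {G : Type*} [Group G] [Finite G] (ρ : G →* (V ≃ₗ[ZMod q] V)) (hρ : Function.Injective ρ)
    (hstab : ∀ v : V, v ≠ 0 → Nat.card {g : G // ρ g v = v} = 2)
    (z : G) (hz : orderOf z = 2) (hzc : z ∈ Subgroup.center G) :
    ∃ r : ℕ, Nat.card V = q ^ (2 * r) ∧
      Nat.card {g : G // orderOf g = 2 ∧ g ∉ Subgroup.center G} = q ^ r + 1 := by
  classical
  let Fix : G → Submodule (ZMod q) V := fun g => LinearMap.eqLocus (ρ g : V →ₗ[ZMod q] V) LinearMap.id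
  have memFix : ∀ g v, v ∈ Fix g ↔ ρ g v = v := fun g v => Iff.rfl
  have huniq : ∀ v, v ≠ 0 → ∀ a b : G, a ≠ 1 → b ≠ 1 → ρ a v = v → ρ b v = v → a = b := by
    intro v hv a b ha hb hav hbv
    by_contra hab
    have := Fintype.ofFinite {g : G // ρ g v = v}
    have h3 : 2 < Nat.card {g : G // ρ g v = v} := by
      rw [Nat.card_eq_fintype_card]
      refine Fintype.two_lt_card_iff.mpr ⟨⟨1, by simp⟩, ⟨a, hav⟩, ⟨b, hbv⟩, ?_, ?_, ?_⟩ <;>
        simp [Ne.symm ha, Ne.symm hb, hab]
    rw [hstab v hv] at h3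
    omega
  have hex : ∀ v, v ≠ 0 → ∃ a : G, a ≠ 1 ∧ ρ a v = v ∧ orderOf a = 2 := by
    intro v hv
    have := Fintype.ofFinite {g : G // ρ g v = v}
    have h2 : 1 < Fintype.card {g : G // ρ g v = v} := by
      rw [← Nat.card_eq_fintype_card, hstab v hv]; norm_num
    obtain ⟨⟨a, ha⟩, hne⟩ := Fintype.exists_ne_of_one_lt_card h2 ⟨1, by simp⟩
    have ha1 : a ≠ 1 := fun h => hne (Subtype.ext h)
    refine ⟨a, ha1, ha, orderOf_eq_prime ?_ ha1⟩
    by_contra h2
    have h3 : ρ (a ^ 2) v = v := by rw [pow_two, map_mul, LinearEquiv.mul_apply, ha, ha]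
    have h4 := huniq v hv (a ^ 2) a h2 ha1 h3 ha
    rw [pow_two] at h4
    exact ha1 (mul_eq_left.mp h4)
  have hzz : ∀ v, ρ z (ρ z v) = v := fun v => by
    rw [← LinearEquiv.mul_apply, ← map_mul, ← pow_two, ← hz, pow_orderOf_eq_one, map_one]; rfl
  have hz1 : z ≠ 1 := fun h => by rw [h, orderOf_one] at hz; omega
  have hzc' : ∀ g v, ρ g (ρ z v) = ρ z (ρ g v) := fun g v => by
    rw [← LinearEquiv.mul_apply, ← map_mul, Subgroup.mem_center_iff.mp hzc g, map_mul]; rfl
  have hFz : ∀ v, ρ z v = v → v = 0 := by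
    intro u hu
    by_contra hu0
    obtain ⟨v, hv⟩ : ∃ v, ρ z v ≠ v := by
      by_contra hall
      push Not at hall
      exact hz1 (hρ (LinearEquiv.ext fun v => (hall v).trans (by rw [map_one]; rfl)))
    have hv0 : v ≠ 0 := fun h => hv (by rw [h, map_zero])
    obtain ⟨s, hs1, hsv, -⟩ := hex v hv0
    have hsz : s ≠ z := fun h => hv (h ▸ hsv)
    set w := ρ z v + v with hw
    by_cases hw0 : w = 0
    · -- `v` is inverted: move to `u + v`
      have hzv : ρ z v = -v := eq_neg_of_add_eq_zero_left hw0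
      have huv : u + v ≠ 0 := fun h => by
        have hu' : u = -v := eq_neg_of_add_eq_zero_left h
        rw [hu', map_neg, hzv, neg_neg] at hu
        exact hv (hzv.trans hu.symm)
      obtain ⟨t, ht1, htv, -⟩ := hex _ huv
      have e1 : ρ t u + ρ t v = u + v := by rw [← map_add]; exact htv
      have e2 : ρ t u - ρ t v = u - v := by
        have := congrArg (ρ z) e1
        rw [map_add, ← hzc' t u, ← hzc' t v, hu, hzv, map_neg, map_add, hu, hzv] at this
        rw [sub_eq_add_neg, sub_eq_add_neg]; exact this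
      have e3 : (2 : ℕ) • ρ t u = (2 : ℕ) • u := by
        rw [two_nsmul, two_nsmul]
        calc ρ t u + ρ t u = (ρ t u + ρ t v) + (ρ t u - ρ t v) := by abel
          _ = _ := by rw [e1, e2]; abel
      have hq2 : q ≠ 2 := by
        intro h2
        subst h2
        have : v + v = 0 := by rw [← two_nsmul, ← Nat.cast_smul_eq_nsmul (ZMod 2), ZMod.natCast_self, zero_smul]
        exact hv (hzv.trans (neg_eq_of_add_eq_zero_left this))
      have e4 : ρ t u = u := by
        have h2 : ((2 : ℕ) : ZMod q) ≠ 0 := fun h => hq2 ((Nat.prime_dvd_prime_iff_eq Fact.out Nat.prime_two).mp ((ZMod.natCast_eq_zero_iff _ _).mp h))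
        rw [← Nat.cast_smul_eq_nsmul (ZMod q), ← Nat.cast_smul_eq_nsmul (ZMod q)] at e3
        exact smul_right_injective V h2 e3
      have htz : t = z := huniq u hu0 t z ht1 hz1 e4 hu
      rw [htz, hu, hzv] at e1
      exact hv (hzv.trans (add_left_cancel e1))
    · have hzw : ρ z w = w := by rw [hw, map_add, hzz, add_comm]
      have hsw : ρ s w = w := by rw [hw, map_add, hzc', hsv]
      exact hsz (huniq w hw0 s z hs1 hz1 hsw hzw)
  have hneg : ∀ v, ρ z v = -v := fun v => eq_neg_of_add_eq_zero_left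
    (hFz _ (by rw [map_add, hzz, add_comm]))
  have hsq1 : ∀ g : G, orderOf g = 2 → g * g = 1 := fun g hg => by
    have := pow_orderOf_eq_one g
    rwa [hg, pow_two] at this
  let S := {g : G // orderOf g = 2 ∧ g ∉ Subgroup.center G}
  have hne1 : ∀ g : G, orderOf g = 2 → g ≠ 1 := fun g hg h => by rw [h, orderOf_one] at hg; omega
  have hmemS : ∀ v, v ≠ 0 → ∀ a, a ≠ 1 → ρ a v = v → orderOf a = 2 ∧ a ∉ Subgroup.center G := by
    intro v hv a ha hav
    obtain ⟨b, hb, hbv, hb2⟩ := hex v hv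
    obtain rfl := huniq v hv a b ha hb hav hbv
    refine ⟨hb2, fun hc => ?_⟩
    obtain ⟨w, hw⟩ : ∃ w, ρ a w ≠ w := by
      by_contra hall
      push Not at hall
      exact ha (hρ (LinearEquiv.ext fun x => (hall x).trans (by rw [map_one]; rfl)))
    obtain ⟨c, hc1, hcw, -⟩ := hex w (fun h => hw (by rw [h, map_zero]))
    have hca : c ≠ a := fun h => hw (h ▸ hcw)
    have hcc : ∀ x, ρ c (ρ a x) = ρ a (ρ c x) := fun x => by
      rw [← LinearEquiv.mul_apply, ← map_mul, Subgroup.mem_center_iff.mp hc c, map_mul]; rfl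
    have haa : ρ a (ρ a w) = w := by
      rw [← LinearEquiv.mul_apply, ← map_mul, ← pow_two, ← hb2, pow_orderOf_eq_one, map_one]; rfl
    by_cases h0 : ρ a w + w = 0
    · -- `a` and `z` agree on `w`
      have e := eq_neg_of_add_eq_zero_left h0
      have hw0 : w ≠ 0 := fun h => hw (by rw [h, map_zero])
      have hza : ρ (z * a) w = w := by rw [map_mul, LinearEquiv.mul_apply, e, hneg, neg_neg]
      have hza1 : z * a ≠ 1 := fun h => hv (by
        have h1 : ρ (z * a) v = v := by rw [h, map_one]; rfl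
        rw [map_mul, LinearEquiv.mul_apply, hav] at h1
        exact hFz v h1)
      have hcz : c = z * a := huniq w hw0 c (z * a) hc1 hza1 hcw hza
      have hvw : v + w ≠ 0 := fun h => hw (by
        have := eq_neg_of_add_eq_zero_right h
        rw [this, map_neg, hav])
      obtain ⟨d, hd1, hdv, -⟩ := hex _ hvw
      have hdc : ρ d (ρ a (v + w)) = ρ a (v + w) := by
        rw [← LinearEquiv.mul_apply, ← map_mul, Subgroup.mem_center_iff.mp hc d, map_mul, LinearEquiv.mul_apply, hdv]
      rw [map_add, hav, e, map_add, map_neg] at hdc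
      rw [map_add] at hdv
      have e3 : (2 : ℕ) • ρ d v = (2 : ℕ) • v := by
        rw [two_nsmul, two_nsmul]
        calc ρ d v + ρ d v = (ρ d v + ρ d w) + (ρ d v + -ρ d w) := by abel
          _ = _ := by rw [hdv, hdc]; abel
      have h2 : ((2 : ℕ) : ZMod q) ≠ 0 := by
        intro h
        refine hv (hFz v ?_)
        have : v + v = 0 := by rw [← two_nsmul, ← Nat.cast_smul_eq_nsmul (ZMod q), h, zero_smul]
        rw [hneg, neg_eq_of_add_eq_zero_left this]
      rw [← Nat.cast_smul_eq_nsmul (ZMod q), ← Nat.cast_smul_eq_nsmul (ZMod q)] at e3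
      have e4 := smul_right_injective V h2 e3
      have hda : d = a := huniq v hv d a hd1 ha e4 hav
      rw [hda, hav] at hdv
      exact hw (add_left_cancel hdv)
    · refine hca (huniq _ h0 c a hc1 ha ?_ ?_)
      · rw [map_add, hcc, hcw]
      · rw [map_add, haa, add_comm]
  have hfixS : ∀ t : S, ∃ v, v ≠ 0 ∧ ρ (t : G) v = v := by
    intro t
    by_contra hcon
    push Not at hcon
    refine t.2.2 ?_
    have : (t : G) = z := hρ (LinearEquiv.ext fun v => by
      rw [hneg]
      apply eq_neg_of_add_eq_zero_left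
      by_contra h
      refine hcon _ h ?_
      rw [map_add, ← LinearEquiv.mul_apply, ← map_mul, hsq1 _ t.2.1, map_one, add_comm]
      rfl)
    exact this ▸ hzc
  have hsq : ∀ t : S, ∀ x, ρ (t : G) (ρ (t : G) x) = x := fun t x => by
    rw [← LinearEquiv.mul_apply, ← map_mul, hsq1 _ t.2.1, map_one]; rfl
  have hdisj : ∀ a b : G, a ≠ 1 → b ≠ 1 → a ≠ b → Disjoint (Fix a) (Fix b) := by
    intro a b ha hb hab
    rw [Submodule.disjoint_def]
    intro x hxa hxb
    by_contra hx
    exact hab (huniq x hx a b ha hb hxa hxb)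
  have hq2 : ((2 : ℕ) : ZMod q) ≠ 0 := by
    intro h
    obtain ⟨v, hv⟩ := exists_ne (0 : V)
    refine hv (hFz v ?_)
    have : v + v = 0 := by rw [← two_nsmul, ← Nat.cast_smul_eq_nsmul (ZMod q), h, zero_smul]
    rw [hneg, neg_eq_of_add_eq_zero_left this]
  have hcompl : ∀ t : S, Fix (t : G) ⊔ Fix (z * t) = ⊤ := by
    intro t
    rw [eq_top_iff]
    intro x _
    have hh : x = ((2 : ℕ) : ZMod q)⁻¹ • (x + ρ (t : G) x) + ((2 : ℕ) : ZMod q)⁻¹ • (x - ρ (t : G) x) := by
      rw [← smul_add, show x + ρ (t : G) x + (x - ρ (t : G) x) = (2 : ℕ) • x by rw [two_nsmul]; abel,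
        ← Nat.cast_smul_eq_nsmul (ZMod q), smul_smul, inv_mul_cancel₀ hq2, one_smul]
    rw [hh]
    refine Submodule.add_mem_sup (Submodule.smul_mem _ _ ?_) (Submodule.smul_mem _ _ ?_)
    · rw [memFix, map_add, hsq, add_comm]
    · rw [memFix, map_mul, LinearEquiv.mul_apply, map_sub, hsq, hneg, neg_sub]
  let d : G → ℕ := fun g => Module.finrank (ZMod q) (Fix g)
  set n := Module.finrank (ZMod q) V with hn
  have hle : ∀ a b : G, a ≠ 1 → b ≠ 1 → a ≠ b → d a + d b ≤ n := fun a b ha hb hab =>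
    Submodule.finrank_add_finrank_le_of_disjoint (hdisj a b ha hb hab)
  have hzt : ∀ t : S, (z * t : G) ≠ 1 ∧ (z * t : G) ≠ (t : G) ∧ (z * t : G) ∉ Subgroup.center G := fun t =>
    ⟨fun h => t.2.2 (by rw [eq_inv_of_mul_eq_one_right h]; exact inv_mem hzc),
      fun h => hz1 (mul_eq_right.mp h),
      fun h => t.2.2 (by simpa using mul_mem (inv_mem hzc) h)⟩
  have heq : ∀ t : S, d t + d (z * t) = n := fun t => by
    have h := Submodule.finrank_sup_add_finrank_inf_eq (Fix (t : G)) (Fix (z * t))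
    rw [hcompl t, (hdisj _ _ (hne1 _ t.2.1) (hzt t).1 (hzt t).2.1.symm).eq_bot, finrank_top, finrank_bot, add_zero] at h
    exact h.symm
  obtain ⟨v₀, hv₀⟩ := exists_ne (0 : V)
  obtain ⟨a₀, ha₀, ha₀v, -⟩ := hex v₀ hv₀
  let t₀ : S := ⟨a₀, hmemS v₀ hv₀ a₀ ha₀ ha₀v⟩
  obtain ⟨u, hu0, hu⟩ := hfixS t₀
  have hw : ∃ w, w ≠ 0 ∧ ρ (z * a₀) w = w := by
    have hmem : orderOf (z * a₀) = 2 := orderOf_eq_prime
      (by
        have hc : Commute z a₀ := (Subgroup.mem_center_iff.mp hzc a₀).symm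
        rw [hc.mul_pow, pow_two, pow_two, hsq1 z hz, hsq1 a₀ t₀.2.1, one_mul]) (hzt t₀).1
    exact hfixS ⟨_, hmem, (hzt t₀).2.2⟩
  obtain ⟨w, hw0, hw⟩ := hw
  have huw : u + w ≠ 0 := fun h => (hzt t₀).2.1 (huniq u hu0 _ _ (hzt t₀).1 ha₀ (by
    have := eq_neg_of_add_eq_zero_left h
    rw [this, map_neg, hw]) hu)
  obtain ⟨b₀, hb₀, hb₀v, -⟩ := hex _ huw
  let s₀ : S := ⟨b₀, hmemS _ huw b₀ hb₀ hb₀v⟩
  have hst : b₀ ≠ a₀ := fun h => by
    rw [h, map_add, hu] at hb₀v
    exact (hzt t₀).2.1 (huniq w hw0 _ _ (hzt t₀).1 ha₀ hw (add_left_cancel hb₀v))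
  have hszt : b₀ ≠ z * a₀ := fun h => by
    rw [h, map_add, hw] at hb₀v
    exact (hzt t₀).2.1 (huniq u hu0 _ _ (hzt t₀).1 ha₀ (add_right_cancel hb₀v) hu)
  have key : ∀ t s : S, (s : G) ≠ t → (s : G) ≠ z * t → d s = d t ∧ d t + d t = n := by
    intro t s h1 h2
    have a1 := hle s t (hne1 _ s.2.1) (hne1 _ t.2.1) h1
    have a2 := hle s (z * t) (hne1 _ s.2.1) (hzt t).1 h2
    have h2' : (z : G) * s ≠ t := fun h => h2 (by
      rw [← h, ← mul_assoc, hsq1 z hz, one_mul])
    have a3 := hle (z * s) t (hzt s).1 (hne1 _ t.2.1) h2'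
    have a4 := hle (z * s) (z * t) (hzt s).1 (hzt t).1 (fun h => h1 (mul_left_cancel h))
    have := heq t; have := heq s
    omega
  obtain ⟨k1, k2⟩ := key t₀ s₀ hst hszt
  set r := d a₀ with hr
  have hall : ∀ t : S, d t = r := by
    intro t
    have k2' : d b₀ + d b₀ = n := by simp only [t₀, s₀] at k1 k2; omega
    by_cases h1 : (t : G) = a₀
    · rw [h1]
    by_cases h2 : (t : G) = z * a₀
    · have := heq t₀
      simp only [t₀] at this
      rw [h2]; omega
    · exact (key t₀ t h1 h2).1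
  refine ⟨r, ?_, ?_⟩
  · rw [Module.natCard_eq_pow_finrank (K := ZMod q), Nat.card_zmod, ← hn]
    congr 1; omega
  · have := Fintype.ofFinite V
    have := Fintype.ofFinite S
    let e : {v : V // v ≠ 0} ≃ Σ t : S, {v : Fix (t : G) // v ≠ 0} :=
      Equiv.ofBijective
        (fun v => ⟨⟨(hex v.1 v.2).choose, hmemS v.1 v.2 _ (hex v.1 v.2).choose_spec.1 (hex v.1 v.2).choose_spec.2.1⟩,
          ⟨⟨v.1, (hex v.1 v.2).choose_spec.2.1⟩, fun h => v.2 (congrArg Subtype.val h)⟩⟩)
        ⟨fun v v' h => Subtype.ext (congrArg (fun p : Σ t : S, {v : Fix (t : G) // v ≠ 0} => (p.2.1 : V)) h),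
          fun ⟨t, ⟨v, hv⟩, hv0⟩ => by
            have h0 : v ≠ 0 := fun h => hv0 (Subtype.ext h)
            refine ⟨⟨v, h0⟩, ?_⟩
            have ht : (⟨(hex v h0).choose, hmemS v h0 _ (hex v h0).choose_spec.1 (hex v h0).choose_spec.2.1⟩ : S) = t :=
              Subtype.ext (huniq v h0 _ _ (hex v h0).choose_spec.1 (hne1 _ t.2.1) (hex v h0).choose_spec.2.1 hv)
            subst ht
            rfl⟩
    have hcard := Fintype.card_congr e
    have h1 : ∀ t : S, Fintype.card {v : Fix (t : G) // v ≠ 0} = q ^ r - 1 := fun t => by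
      rw [Fintype.card_subtype_compl, Fintype.card_subtype_eq, ← Nat.card_eq_fintype_card,
        Module.natCard_eq_pow_finrank (K := ZMod q), Nat.card_zmod, ← hall t]
    rw [Fintype.card_sigma, Fintype.card_subtype_compl, Fintype.card_subtype_eq] at hcard
    simp only [h1, Finset.sum_const, Finset.card_univ, smul_eq_mul] at hcard
    rw [← Nat.card_eq_fintype_card, Module.natCard_eq_pow_finrank (K := ZMod q), Nat.card_zmod,
      ← Nat.card_eq_fintype_card (α := S), ← hn] at hcard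
    change Nat.card S = _
    have hn2 : n = r + r := by omega
    rw [hn2, pow_add] at hcard
    have hr0 : r ≠ 0 := fun h => hu0 (by
      have : Fix a₀ = ⊥ := Submodule.finrank_eq_zero.mp h
      have hm : u ∈ Fix a₀ := hu
      rwa [this, Submodule.mem_bot] at hm)
    have hX : 1 < q ^ r := Nat.one_lt_pow hr0 (Fact.out : q.Prime).one_lt
    have h3 : q ^ r * q ^ r - 1 = (q ^ r + 1) * (q ^ r - 1) := by
      simpa using Nat.mul_self_sub_mul_self_eq (q ^ r) 1
    rw [h3] at hcard
    exact (Nat.eq_of_mul_eq_mul_right (by omega) hcard).symm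

end Cfsg.Agent.S3381
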