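import Cfsg.Statements.S3382

set_option autoImplicit false
open Cfsg

namespace Cfsg.Agent.S3382

variable {A : Type*} [Group A]

private lemma powers_fix (φ : MulAut A) {p : ℕ} (hp : φ ^ p = 1) {x e : A} (h : φ x = e * x)
    (he : φ e = e) {n : ℕ} (hn : e ^ (2 ^ n) = 1) (hodd : Odd p) : φ x = x := by
  have key : ∀ k : ℕ, (φ ^ k) x = e ^ k * x := by
    intro k
    induction k with
    | zero => simp
    | succ k ih =>
      rw [pow_succ', MulAut.mul_apply, ih, map_mul, map_pow, h, he, pow_succ, mul_assoc]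
  have h1 := key p
  rw [hp, MulAut.one_apply, right_eq_mul] at h1
  have h2 : orderOf e ∣ 1 := by
    have hc : Nat.gcd p (2 ^ n) = 1 :=
      (Nat.Coprime.pow_right n (Nat.coprime_two_right.mpr hodd))
    rw [← hc]
    exact Nat.dvd_gcd (orderOf_dvd_of_pow_eq_one h1) (orderOf_dvd_of_pow_eq_one hn)
  rw [h, orderOf_eq_one_iff.mp (Nat.dvd_one.mp h2), one_mul]

private lemma sq_fix (φ : MulAut A) {p : ℕ} (hp : φ ^ p = 1) (hodd : Odd p) {x : A}
    (h : φ (φ x) = x) : φ x = x := by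
  obtain ⟨k, rfl⟩ := hodd
  have h2 : (φ ^ 2) x = x := by rw [pow_two, MulAut.mul_apply]; exact h
  have hk : ((φ ^ 2) ^ k) x = x := by
    induction k with
    | zero => simp
    | succ k ih =>
      have : ∀ j : ℕ, ((φ ^ 2) ^ j) x = x := by
        intro j
        induction j with
        | zero => simp
        | succ j ihj => rw [pow_succ, MulAut.mul_apply, h2, ihj]
      exact this _
  have h1 : (φ ^ (2 * k + 1)) x = φ x := by
    rw [pow_succ', MulAut.mul_apply, pow_mul, hk]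
  rw [hp, MulAut.one_apply] at h1
  exact h1.symm

private lemma big_case [Finite A] (φ : MulAut A) {p m : ℕ} (hp : φ ^ p = 1) (hodd : Odd p)
    (hm : 3 ≤ m) (δ ε w : A) (hδ : orderOf δ = 2 ^ m) (hε : ε ^ 2 = 1) (hc : Commute δ ε)
    (hεn : ε ∉ Subgroup.zpowers δ)
    (hgen : ∀ x : A, (∃ k : ℕ, x = δ ^ k ∨ x = δ ^ k * ε) ∨ x ^ 4 = 1)
    (hgen' : ∀ x : A, ∃ d : A, (∃ k : ℕ, d = δ ^ k ∨ d = δ ^ k * ε) ∧ (x = d ∨ x = d * w))
    (hcomm : ∀ x : A, Commute x (δ ^ 2) → ∃ k : ℕ, x = δ ^ k ∨ x = δ ^ k * ε) : φ = 1 := by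
  have h4 : δ ^ 4 ≠ 1 := by
    intro h
    have := Nat.le_of_dvd (by norm_num) (orderOf_dvd_of_pow_eq_one h)
    rw [hδ] at this
    have : 2 ^ 3 ≤ 2 ^ m := Nat.pow_le_pow_right (by norm_num) hm
    omega
  obtain ⟨j, hj⟩ : ∃ j : ℕ, φ δ = δ ^ j ∨ φ δ = δ ^ j * ε := by
    rcases hgen (φ δ) with h | h
    · exact h
    · rw [← map_pow, ← map_one φ] at h
      exact absurd (φ.injective h) h4
  have hsq : φ (δ ^ 2) = (δ ^ 2) ^ j := by
    rw [map_pow, ← pow_mul]
    rcases hj with h | h <;> rw [h]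
    · rw [← pow_mul, mul_comm]
    · rw [(hc.pow_left j).mul_pow, hε, mul_one, ← pow_mul, mul_comm]
  have hiter : ∀ k : ℕ, (φ ^ k) (δ ^ 2) = (δ ^ 2) ^ (j ^ k) := by
    intro k
    induction k with
    | zero => simp
    | succ k ih => rw [pow_succ' φ k, MulAut.mul_apply, ih, map_pow φ, hsq, ← pow_mul (δ ^ 2), pow_succ' j k]
  have ho2 : orderOf (δ ^ 2) = 2 ^ (m - 1) := by
    rw [orderOf_pow, hδ, Nat.gcd_eq_right (dvd_pow_self 2 (by omega))]
    obtain ⟨l, rfl⟩ : ∃ l, m = l + 1 := ⟨m - 1, by omega⟩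
    simp [pow_succ]
  have hfix2 : φ (δ ^ 2) = δ ^ 2 := by
    have h1 := hiter p
    rw [hp, MulAut.one_apply] at h1
    have h2 : j ^ p ≡ 1 [MOD 2 ^ (m - 1)] := by
      rw [← ho2, ← pow_eq_pow_iff_modEq, pow_one]; exact h1.symm
    have hm1 : (2 ^ (m - 1) : ℕ) ≠ 0 := by positivity
    haveI : NeZero (2 ^ (m - 1) : ℕ) := ⟨hm1⟩
    have h3 : ((j : ZMod (2 ^ (m - 1)))) ^ p = 1 := by
      have := (ZMod.natCast_eq_natCast_iff _ _ _).mpr h2
      simpa using this
    obtain ⟨u, hu⟩ : IsUnit (j : ZMod (2 ^ (m - 1))) :=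
      IsUnit.of_pow_eq_one h3 (Nat.pos_iff_ne_zero.mp hodd.pos)
    have hup : u ^ p = 1 := by ext; rw [Units.val_pow_eq_pow_val, hu, h3]; rfl
    have hu2 : u ^ Nat.totient (2 ^ (m - 1)) = 1 := ZMod.pow_totient u
    rw [Nat.totient_prime_pow Nat.prime_two (by omega)] at hu2
    have hu1 : orderOf u ∣ 1 := by
      have hc : Nat.gcd p (2 ^ (m - 1 - 1) * (2 - 1)) = 1 := by
        simpa using Nat.Coprime.pow_right (m - 1 - 1) (Nat.coprime_two_right.mpr hodd)
      have hd := Nat.dvd_gcd (orderOf_dvd_of_pow_eq_one hup) (orderOf_dvd_of_pow_eq_one hu2)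
      rwa [hc] at hd
    rw [hsq]
    nth_rw 2 [← pow_one (δ ^ 2)]
    rw [pow_eq_pow_iff_modEq, ho2, ← ZMod.natCast_eq_natCast_iff, ← hu,
      orderOf_eq_one_iff.mp (Nat.dvd_one.mp hu1)]
    simp
  set z := δ ^ 2 ^ (m - 1) with hz
  have hzfix : φ z = z := by
    have e : z = (δ ^ 2) ^ 2 ^ (m - 2) := by
      rw [hz, ← pow_mul, ← pow_succ']
      congr 2
      omega
    rw [e, map_pow, hfix2]
  have hroot : ∀ k : ℕ, (δ ^ k) ^ 2 = 1 → δ ^ k = 1 ∨ δ ^ k = z := by
    intro k hk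
    rw [← pow_mul] at hk
    have h2 := orderOf_dvd_of_pow_eq_one hk
    rw [hδ] at h2
    obtain ⟨l, rfl⟩ : ∃ l, m = l + 1 := ⟨m - 1, by omega⟩
    rw [pow_succ] at h2
    obtain ⟨c, rfl⟩ := Nat.dvd_of_mul_dvd_mul_right (by norm_num) h2
    rcases Nat.even_or_odd c with ⟨d, rfl⟩ | ⟨d, rfl⟩
    · left
      rw [← orderOf_dvd_iff_pow_eq_one, hδ, pow_succ]
      exact ⟨d, by ring⟩
    · right
      rw [hz, pow_eq_pow_iff_modEq, hδ, Nat.add_sub_cancel]
      have e : 2 ^ l * (2 * d + 1) = 2 ^ l + 2 ^ (l + 1) * d := by ring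
      rw [e, Nat.ModEq, Nat.add_mul_mod_self_left]
  have hmem2 : ∀ x : A, (∃ k : ℕ, x = δ ^ k ∨ x = δ ^ k * ε) → Commute x δ := by
    rintro x ⟨k, rfl | rfl⟩
    · exact (Commute.refl δ).pow_left k
    · exact ((Commute.refl δ).pow_left k).mul_left hc.symm
  have hD : ∀ x : A, (∃ k : ℕ, x = δ ^ k ∨ x = δ ^ k * ε) → ∃ k : ℕ, φ x = δ ^ k ∨ φ x = δ ^ k * ε := by
    intro x hx
    refine hcomm _ ?_
    have h := ((hmem2 x hx).pow_right 2).map φ
    rwa [hfix2] at h
  have hinv : ∀ x : A, (∃ k : ℕ, x = δ ^ k ∨ x = δ ^ k * ε) → x ^ 2 = 1 →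
      x = 1 ∨ x = z ∨ x = ε ∨ x = z * ε := by
    rintro x ⟨k, rfl | rfl⟩ hx
    · rcases hroot k hx with h | h <;> rw [h] <;> simp
    · rw [(hc.pow_left k).mul_pow, hε, mul_one] at hx
      rcases hroot k hx with h | h <;> rw [h] <;> simp
  have hεD : ∃ k : ℕ, ε = δ ^ k ∨ ε = δ ^ k * ε := ⟨0, Or.inr (by simp)⟩
  have hεfix : φ ε = ε := by
    have hz1 : z ∈ Subgroup.zpowers δ := Subgroup.pow_mem _ (Subgroup.mem_zpowers δ) _
    rcases hinv _ (hD ε hεD) (by rw [← map_pow, hε, map_one]) with h | h | h | h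
    · rw [map_eq_one_iff φ φ.injective] at h
      exact absurd (h ▸ Subgroup.one_mem _) hεn
    · have h' : φ ε = φ z := by rw [h, hzfix]
      exact absurd (φ.injective h' ▸ hz1) hεn
    · exact h
    · refine sq_fix φ hp hodd ?_
      rw [h, map_mul, hzfix, h, ← mul_assoc]
      have hzz : z * z = 1 := by
        rw [hz, ← pow_add, ← orderOf_dvd_iff_pow_eq_one, hδ, ← two_mul, ← pow_succ']
        exact pow_dvd_pow 2 (by omega)
      rw [hzz, one_mul]
  have hδfix : φ δ = δ := by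
    obtain ⟨k, hk⟩ := hD δ ⟨1, Or.inl (by simp)⟩
    have hcd : Commute (φ δ) δ⁻¹ := (hmem2 _ ⟨k, hk⟩).inv_right
    set e := φ δ * δ⁻¹ with he
    have he2 : e ^ 2 = 1 := by
      rw [he, hcd.mul_pow, ← map_pow, hfix2, inv_pow, mul_inv_cancel]
    have heD : ∃ i : ℕ, e = δ ^ i ∨ e = δ ^ i * ε := by
      refine hcomm _ ?_
      exact ((hmem2 _ ⟨k, hk⟩).mul_left (Commute.refl δ).inv_left).pow_right 2
    have hefix : φ e = e := by
      rcases hinv e heD he2 with h | h | h | h <;> simp only [h, map_one, map_mul, hzfix, hεfix]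
    exact powers_fix φ hp (x := δ) (e := e) (by rw [he, inv_mul_cancel_right]) hefix
      (n := 1) (by simpa using he2) hodd
  have hDfix : ∀ x : A, (∃ k : ℕ, x = δ ^ k ∨ x = δ ^ k * ε) → φ x = x := by
    rintro x ⟨k, rfl | rfl⟩ <;> simp [hδfix, hεfix]
  have hord : ∀ x : A, (∃ k : ℕ, x = δ ^ k ∨ x = δ ^ k * ε) → x ^ 2 ^ m = 1 := by
    rintro x ⟨k, rfl | rfl⟩
    · rw [← pow_mul, mul_comm, pow_mul, ← hδ, pow_orderOf_eq_one, one_pow]
    · rw [(hc.pow_left k).mul_pow, ← pow_mul, mul_comm, pow_mul, ← hδ, pow_orderOf_eq_one, one_pow, one_mul, hδ,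
        show (2 : ℕ) ^ m = 2 * 2 ^ (m - 1) from by rw [← pow_succ']; congr 1; omega, pow_mul, hε, one_pow]
  have hwfix : φ w = w := by
    obtain ⟨d, hd, h | h⟩ := hgen' (φ w)
    · have : φ (φ w) = φ w := by rw [h]; exact hDfix d hd
      exact φ.injective this
    · exact powers_fix φ hp h (hDfix d hd) (hord d hd) hodd
  ext x
  obtain ⟨d, hd, h | h⟩ := hgen' x
  · rw [h, MulAut.one_apply, hDfix d hd]
  · rw [h, MulAut.one_apply, map_mul, hDfix d hd, hwfix]

private lemma small_case (φ : MulAut A) {p : ℕ} (hp : φ ^ p = 1) (hodd : Odd p) (u ε : A)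
    (hu : u ^ 4 = 1) (hsq : ∀ x : A, x ^ 2 ≠ 1 → x = u ∨ x = u⁻¹) (hu2 : u ^ 2 ≠ 1)
    (hεn : ε ∉ Subgroup.zpowers u)
    (hgen : ∀ x : A, ∃ c ∈ Subgroup.zpowers u, x = c ∨ x = c * ε) : φ = 1 := by
  have hu' : φ u = u := by
    refine sq_fix φ hp hodd ?_
    have h : φ u ^ 2 ≠ 1 := by
      rw [← map_pow, ← map_one φ]
      exact fun h => hu2 (φ.injective h)
    rcases hsq _ h with h1 | h1 <;> simp [h1]
  have hC : ∀ c ∈ Subgroup.zpowers u, φ c = c := by
    rintro c ⟨k, rfl⟩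
    simp [hu']
  have hε : φ ε = ε := by
    obtain ⟨c, hc, h | h⟩ := hgen (φ ε)
    · have h' := φ.injective (h.trans (hC c hc).symm)
      exact absurd (h' ▸ hc) hεn
    · refine powers_fix φ hp h (hC c hc) (n := 2) ?_ hodd
      obtain ⟨k, rfl⟩ := hc
      show (u ^ k) ^ (2 ^ 2) = 1
      rw [← zpow_natCast, ← zpow_mul, mul_comm, zpow_mul, zpow_natCast]
      simp [show (2 ^ 2 : ℕ) = 4 from rfl, hu]
  ext x
  obtain ⟨c, hc, h | h⟩ := hgen x <;> simp [h, hC c hc, hε]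


/-- Let q = 2^m + 1 be a prime other than 5. Then the automorphism group of the group of linear maps of F_q² of the forms (x, y) ↦ (a x, ± a⁻¹ y) and (x, y) ↦ (± a⁻¹ y, a x) with a ≠ 0 is itself a 2-group. -/
theorem result (q m : ℕ) [Fact q.Prime] (hq : q = 2 ^ m + 1) (hq5 : q ≠ 5)
    (T : Subgroup ((Fin 2 → ZMod q) ≃ₗ[ZMod q] (Fin 2 → ZMod q)))
    (hT : ∀ f, f ∈ T ↔ ∃ a s : ZMod q, a ≠ 0 ∧ (s = 1 ∨ s = -1) ∧
      ((∀ v, f v = ![a * v 0, s * a⁻¹ * v 1]) ∨ (∀ v, f v = ![s * a⁻¹ * v 1, a * v 0]))) :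
    IsPGroup 2 (MulAut T) := by
  classical
  haveI : Finite ((Fin 2 → ZMod q) ≃ₗ[ZMod q] (Fin 2 → ZMod q)) :=
    Finite.of_injective (fun f => (f : (Fin 2 → ZMod q) → (Fin 2 → ZMod q))) DFunLike.coe_injective
  haveI : Finite T := Subtype.finite
  haveI : Finite (MulAut T) := Finite.of_injective (fun f => (f : T → T)) DFunLike.coe_injective
  have hqp := Fact.out (p := q.Prime)
  obtain ⟨g, hg⟩ := IsCyclic.exists_generator (α := (ZMod q)ˣ)
  have hgo : orderOf g = 2 ^ m := by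
    rw [orderOf_eq_card_of_forall_mem_zpowers hg, Nat.card_eq_fintype_card, ZMod.card_units, hq]
    simp
  let dg : (ZMod q)ˣ → (ZMod q)ˣ → ((Fin 2 → ZMod q) ≃ₗ[ZMod q] (Fin 2 → ZMod q)) := fun a b =>
    LinearEquiv.piCongrRight fun i => LinearEquiv.smulOfUnit (if i = 0 then a else b)
  let sw : (Fin 2 → ZMod q) ≃ₗ[ZMod q] (Fin 2 → ZMod q) :=
    LinearEquiv.funCongrLeft (ZMod q) (ZMod q) (Equiv.swap (0 : Fin 2) 1)
  have dg_apply : ∀ a b v, dg a b v = ![(a : ZMod q) * v 0, (b : ZMod q) * v 1] := by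
    intro a b v
    ext i
    fin_cases i <;> simp [dg, Units.smul_def, LinearEquiv.smulOfUnit]
  have sw_apply : ∀ v, sw v = ![v 1, v 0] := by
    intro v
    ext i
    fin_cases i <;> simp [sw, LinearEquiv.funCongrLeft, LinearMap.funLeft]
  have dg_mul : ∀ a b a' b', dg a b * dg a' b' = dg (a * a') (b * b') := by
    intro a b a' b'
    apply LinearEquiv.ext
    intro v
    rw [LinearEquiv.mul_apply, dg_apply, dg_apply, dg_apply]
    simp [mul_assoc]
  have sw_dg : ∀ a b, sw * dg a b = dg b a * sw := by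
    intro a b
    apply LinearEquiv.ext
    intro v
    rw [LinearEquiv.mul_apply, LinearEquiv.mul_apply, dg_apply, dg_apply, sw_apply, sw_apply]
    simp
  have sw_sq : sw * sw = 1 := by
    apply LinearEquiv.ext
    intro v
    rw [LinearEquiv.mul_apply, sw_apply, sw_apply]
    ext i
    fin_cases i <;> simp
  have dg_one : dg 1 1 = 1 := by
    apply LinearEquiv.ext
    intro v
    rw [dg_apply]
    ext i
    fin_cases i <;> simp
  have dg_pow : ∀ a b (k : ℕ), dg a b ^ k = dg (a ^ k) (b ^ k) := by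
    intro a b k
    induction k with
    | zero => simp [dg_one]
    | succ k ih => rw [pow_succ, ih, dg_mul, pow_succ, pow_succ]
  have dg_inj : ∀ a b a' b', dg a b = dg a' b' → a = a' ∧ b = b' := by
    intro a b a' b' h
    have h0 := congrFun (DFunLike.congr_fun h ![1, 1]) 0
    have h1 := congrFun (DFunLike.congr_fun h ![1, 1]) 1
    rw [dg_apply, dg_apply] at h0 h1
    simp at h0 h1
    exact ⟨Units.ext h0, Units.ext h1⟩
  have hdT : ∀ (a t : (ZMod q)ˣ), (t = 1 ∨ t = -1) → dg a (t * a⁻¹) ∈ T := by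
    intro a t ht
    refine (hT _).2 ⟨a, t, a.ne_zero, ?_, Or.inl fun v => ?_⟩
    · rcases ht with rfl | rfl <;> simp
    · rw [dg_apply, Units.val_mul, Units.val_inv_eq_inv_val]
  have hswT : sw ∈ T := by
    refine (hT _).2 ⟨1, 1, one_ne_zero, Or.inl rfl, Or.inr fun v => ?_⟩
    rw [sw_apply]; simp
  have hform : ∀ f ∈ T, ∃ a t : (ZMod q)ˣ, (t = 1 ∨ t = -1) ∧ (f = dg a (t * a⁻¹) ∨ f = dg a (t * a⁻¹) * sw) := by
    intro f hf
    obtain ⟨a, t, ha, ht, h | h⟩ := (hT f).1 hf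
    · rcases ht with rfl | rfl
      · refine ⟨Units.mk0 a ha, 1, Or.inl rfl, Or.inl (LinearEquiv.ext fun v => ?_)⟩
        rw [h v, dg_apply]; simp
      · refine ⟨Units.mk0 a ha, -1, Or.inr rfl, Or.inl (LinearEquiv.ext fun v => ?_)⟩
        rw [h v, dg_apply]; simp
    · rcases ht with rfl | rfl
      · refine ⟨(Units.mk0 a ha)⁻¹, 1, Or.inl rfl, Or.inr (LinearEquiv.ext fun v => ?_)⟩
        rw [h v, LinearEquiv.mul_apply, sw_apply, dg_apply]; simp
      · refine ⟨-(Units.mk0 a ha)⁻¹, -1, Or.inr rfl, Or.inr (LinearEquiv.ext fun v => ?_)⟩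
        rw [h v, LinearEquiv.mul_apply, sw_apply, dg_apply]; simp
  rcases Nat.eq_zero_or_pos m with rfl | hm0
  · have hq2 : q = 2 := by simpa using hq
    have hone : ∀ a : (ZMod q)ˣ, a = 1 := by
      intro a
      have h1 : Fintype.card (ZMod q)ˣ ≤ 1 := by rw [ZMod.card_units]; omega
      exact Fintype.card_le_one_iff.mp h1 a 1
    have htwo : ∀ f : T, f = 1 ∨ (f : _) = sw := by
      intro f
      obtain ⟨a, t, -, h | h⟩ := hform f f.2
      · left; apply Subtype.ext; rw [h, hone a, hone (t * 1⁻¹), dg_one]; rfl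
      · right; rw [h, hone a, hone (t * 1⁻¹), dg_one, one_mul]
    intro φ
    refine ⟨0, ?_⟩
    rw [pow_zero, pow_one]
    ext f : 1
    rcases htwo f with h | h
    · rw [h, map_one, map_one]
    · rcases htwo (φ f) with h' | h'
      · rw [map_eq_one_iff φ φ.injective] at h'
        rw [h', map_one, map_one]
      · exact (Subtype.ext (h'.trans h.symm))
  have hneg : ((-1 : (ZMod q)ˣ)) ≠ 1 := by
    intro h
    have h1 : ((-1 : ZMod q)) = 1 := by simpa using congrArg Units.val h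
    haveI : Fact (2 < q) := ⟨by rw [hq]; have : 2 ^ 1 ≤ 2 ^ m := Nat.pow_le_pow_right (by norm_num) (by omega); omega⟩
    exact ZMod.neg_one_ne_one h1
  let δ : T := ⟨dg g g⁻¹, by simpa using hdT g 1 (Or.inl rfl)⟩
  let ε : T := ⟨dg 1 (-1), by simpa using hdT 1 (-1) (Or.inr rfl)⟩
  let w : T := ⟨sw, hswT⟩
  have hε2 : ε ^ 2 = 1 := by
    apply Subtype.ext; simp [ε, dg_pow, dg_one]
  have hδpow : ∀ k : ℕ, ((δ ^ k : T) : _) = dg (g ^ k) (g ^ k)⁻¹ := by
    intro k; simp [δ, dg_pow, inv_pow]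
  have hδo : orderOf δ = 2 ^ m := by
    rw [← hgo]
    apply orderOf_eq_orderOf_iff.mpr
    intro k
    constructor
    · intro h
      have h' := congrArg Subtype.val h
      rw [hδpow, OneMemClass.coe_one, ← dg_one] at h'
      exact (dg_inj _ _ _ _ h').1
    · intro h
      apply Subtype.ext
      rw [hδpow, h, inv_one, dg_one]; rfl
  have hc : Commute δ ε := by
    apply Subtype.ext
    show dg _ _ * dg _ _ = dg _ _ * dg _ _
    rw [dg_mul, dg_mul, mul_comm g, mul_comm g⁻¹]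
  have hεn : ε ∉ Subgroup.zpowers δ := by
    rw [← mem_powers_iff_mem_zpowers]
    rintro ⟨k, hk⟩
    have h' := congrArg Subtype.val hk
    simp only at h'
    rw [hδpow] at h'
    obtain ⟨h1, h2⟩ := dg_inj _ _ _ _ h'
    rw [h1, inv_one] at h2
    exact hneg h2.symm
  have hgen' : ∀ x : T, ∃ d : T, (∃ k : ℕ, d = δ ^ k ∨ d = δ ^ k * ε) ∧ (x = d ∨ x = d * w) := by
    rintro ⟨f, hf⟩
    obtain ⟨a, t, ht, hft⟩ := hform f hf
    refine ⟨⟨dg a (t * a⁻¹), hdT a t ht⟩, ?_, ?_⟩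
    · obtain ⟨k, hk⟩ := mem_powers_iff_mem_zpowers.mpr (hg a)
      simp only at hk
      rcases ht with rfl | rfl
      · refine ⟨k, Or.inl (Subtype.ext ?_)⟩
        simp [hδpow, hk]
      · refine ⟨k, Or.inr (Subtype.ext ?_)⟩
        rw [Subgroup.coe_mul, hδpow, hk]
        simp [ε, dg_mul]
    · rcases hft with h | h
      · exact Or.inl (Subtype.ext h)
      · exact Or.inr (Subtype.ext h)
  have hdiag : ∀ d : T, (∃ k : ℕ, d = δ ^ k ∨ d = δ ^ k * ε) → ∃ a b, (d : _) = dg a b ∧ (a * b = 1 ∨ a * b = -1) := by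
    rintro d ⟨k, rfl | rfl⟩
    · exact ⟨g ^ k, (g ^ k)⁻¹, hδpow k, Or.inl (mul_inv_cancel _)⟩
    · refine ⟨g ^ k, -(g ^ k)⁻¹, ?_, Or.inr ?_⟩
      · rw [Subgroup.coe_mul, hδpow]; simp [ε, dg_mul]
      · simp
  refine IsPGroup.of_card (n := Nat.log 2 (Nat.card (MulAut T))) ?_
  by_contra hne
  obtain ⟨p, hpp, hpd, hp2⟩ : ∃ p, p.Prime ∧ p ∣ Nat.card (MulAut T) ∧ p ≠ 2 := by
    by_contra h
    push Not at h
    have h2 := Nat.eq_prime_pow_of_unique_prime_dvd (p := 2) Nat.card_pos.ne' (fun {d} hd hdd => h d hd hdd)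
    apply hne
    rw [h2]
    congr 1
    rw [Nat.log_pow (by norm_num)]
  haveI := Fact.mk hpp
  haveI : Fintype (MulAut T) := Fintype.ofFinite _
  obtain ⟨φ, hφ⟩ := exists_prime_orderOf_dvd_card' (G := MulAut T) p hpd
  have hφp : φ ^ p = 1 := by rw [← hφ]; exact pow_orderOf_eq_one φ
  have hodd : Odd p := hpp.odd_of_ne_two hp2
  suffices φ = 1 by
    rw [this, orderOf_one] at hφ
    exact hpp.one_lt.ne hφ
  by_cases hm3 : 3 ≤ m
  · refine big_case φ hφp hodd hm3 δ ε w hδo hε2 hc hεn ?_ hgen' ?_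
    · intro x
      obtain ⟨d, hd, rfl | rfl⟩ := hgen' x
      · exact Or.inl hd
      · right
        obtain ⟨a, b, hab, h1⟩ := hdiag d hd
        apply Subtype.ext
        have h2 : ((d * w : T) : _) ^ 2 = dg (a * b) (a * b) := by
          rw [Subgroup.coe_mul, hab, pow_two]
          show dg a b * sw * (dg a b * sw) = _
          rw [mul_assoc, ← mul_assoc sw, sw_dg, mul_assoc, sw_sq, mul_one, dg_mul, mul_comm b a]
        rw [SubmonoidClass.coe_pow, show (4 : ℕ) = 2 * 2 from rfl, pow_mul, h2, dg_pow]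
        rcases h1 with h1 | h1 <;> simp [h1, dg_one]
    · intro x hx
      obtain ⟨d, hd, rfl | rfl⟩ := hgen' x
      · exact hd
      · exfalso
        obtain ⟨a, b, hab, -⟩ := hdiag d hd
        have h := congrArg Subtype.val hx.eq
        simp only [Subgroup.coe_mul, hab, hδpow] at h
        change dg a b * sw * dg (g ^ 2) (g ^ 2)⁻¹ = dg (g ^ 2) (g ^ 2)⁻¹ * (dg a b * sw) at h
        rw [mul_assoc, sw_dg, ← mul_assoc, ← mul_assoc, dg_mul, dg_mul] at h
        have h' := (dg_inj _ _ _ _ (mul_right_cancel h)).1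
        rw [mul_comm (g ^ 2) a, mul_right_inj, inv_eq_iff_mul_eq_one, ← pow_add] at h'
        have := Nat.le_of_dvd (by norm_num) (orderOf_dvd_of_pow_eq_one h')
        rw [hgo] at this
        have : 2 ^ 3 ≤ 2 ^ m := Nat.pow_le_pow_right (by norm_num) hm3
        omega
  · have hm1 : m = 1 := by
      have hm2 : m ≠ 2 := by rintro rfl; exact hq5 hq
      omega
    subst hm1
    have hg1 : ∀ a : (ZMod q)ˣ, a * a = 1 := by
      intro a
      have h : a ^ (q - 1) = 1 := ZMod.units_pow_card_sub_one_eq_one q a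
      have e : q - 1 = 2 := by omega
      rw [e] at h
      simpa [pow_two] using h
    have hg' : g = -1 := by
      have h2 : Fintype.card (ZMod q)ˣ = 2 := by rw [ZMod.card_units, hq]; rfl
      by_contra hgne
      have hg1' : g ≠ 1 := by
        intro h; rw [h, orderOf_one] at hgo; norm_num at hgo
      have h3 : ({1, -1, g} : Finset (ZMod q)ˣ).card = 3 := Finset.card_eq_three.mpr ⟨1, -1, g, hneg.symm, hg1'.symm, Ne.symm hgne, rfl⟩
      have := Finset.card_le_univ ({1, -1, g} : Finset (ZMod q)ˣ)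
      omega
    have hu_coe : ((ε * w : T) : _) = dg 1 (-1) * sw := rfl
    have hu2 : ((ε * w : T) : _) ^ 2 = dg (-1) (-1) := by
      rw [hu_coe, pow_two, mul_assoc, ← mul_assoc sw, sw_dg, mul_assoc, sw_sq, mul_one, dg_mul]
      simp
    refine small_case φ hφp hodd (ε * w) ε ?_ ?_ ?_ ?_ ?_
    · apply Subtype.ext
      rw [SubmonoidClass.coe_pow, show (4 : ℕ) = 2 * 2 from rfl, pow_mul, hu2, dg_pow]
      simp [dg_one]
    · intro x hx
      obtain ⟨d, hd, h | rfl⟩ := hgen' x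
      · exfalso
        subst h
        obtain ⟨a, b, hab, -⟩ := hdiag x hd
        apply hx
        apply Subtype.ext
        rw [SubmonoidClass.coe_pow, hab, dg_pow, pow_two, pow_two, hg1, hg1, dg_one]; rfl
      · obtain ⟨a, b, hab, -⟩ := hdiag d hd
        have hsqx : ((d * w : T) : _) ^ 2 = dg (a * b) (a * b) := by
          rw [Subgroup.coe_mul, hab, pow_two]
          show dg a b * sw * (dg a b * sw) = _
          rw [mul_assoc, ← mul_assoc sw, sw_dg, mul_assoc, sw_sq, mul_one, dg_mul, mul_comm b a]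
        have hab1 : a * b ≠ 1 := by
          intro h
          apply hx
          apply Subtype.ext
          rw [SubmonoidClass.coe_pow, hsqx, h, dg_one]; rfl
        have hval : ∀ a : (ZMod q)ˣ, a = 1 ∨ a = -1 := by
          intro a
          obtain ⟨k, hk⟩ := mem_powers_iff_mem_zpowers.mpr (hg a)
          rw [← hk, hg']
          exact neg_one_pow_eq_or (ZMod q)ˣ k
        rcases hval a with rfl | rfl <;> rcases hval b with rfl | rfl
        · simp at hab1
        · left; apply Subtype.ext; rw [Subgroup.coe_mul, hab]; rfl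
        · right
          rw [eq_inv_iff_mul_eq_one]
          apply Subtype.ext
          rw [Subgroup.coe_mul, Subgroup.coe_mul, hab, hu_coe]
          show dg (-1) 1 * sw * (dg 1 (-1) * sw) = _
          rw [mul_assoc, ← mul_assoc sw, sw_dg, mul_assoc, sw_sq, mul_one, dg_mul]
          simp [dg_one]
        · simp at hab1
    · intro h
      have h' := congrArg Subtype.val h
      rw [SubmonoidClass.coe_pow, hu2, OneMemClass.coe_one, ← dg_one] at h'
      exact hneg (dg_inj _ _ _ _ h').1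
    · have hu3 : ∀ k : ℕ, ((ε * w) ^ (2 * k) : T).1 = dg ((-1) ^ k) ((-1) ^ k) := by
        intro k; rw [SubmonoidClass.coe_pow, pow_mul, hu2, dg_pow]
      rw [← mem_powers_iff_mem_zpowers]
      rintro ⟨k, hk⟩
      have h' := congrArg Subtype.val hk
      simp only at h'
      obtain ⟨i, rfl | rfl⟩ := Nat.even_or_odd' k
      · rw [hu3] at h'
        obtain ⟨h1, h2⟩ := dg_inj _ _ _ _ h'
        rw [h1] at h2
        exact hneg h2.symm
      · rw [pow_succ, Subgroup.coe_mul, hu3, hu_coe, ← mul_assoc, dg_mul] at h'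
        have h6 := DFunLike.congr_fun h' ![1, 0]
        rw [LinearEquiv.mul_apply, sw_apply, dg_apply, dg_apply] at h6
        simpa using congrFun h6 0
    · intro x
      have hεε : ∀ y : T, y * ε * ε = y := fun y => by rw [mul_assoc, ← pow_two, hε2, mul_one]
      have hδu : δ = (ε * w) ^ 2 := by
        apply Subtype.ext
        rw [SubmonoidClass.coe_pow, hu2]
        simp [δ, hg']
      have hC : ∀ k : ℕ, δ ^ k ∈ Subgroup.zpowers (ε * w) := fun k => by
        rw [hδu, ← pow_mul]; exact Subgroup.pow_mem _ (Subgroup.mem_zpowers _) _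
      have hw : ε * w * ε = δ * w := by
        apply Subtype.ext
        show dg 1 (-1) * sw * dg 1 (-1) = dg g g⁻¹ * sw
        rw [mul_assoc, sw_dg, ← mul_assoc, dg_mul, hg']
        simp
      obtain ⟨d, ⟨k, rfl | rfl⟩, rfl | rfl⟩ := hgen' x
      · exact ⟨_, hC k, Or.inl rfl⟩
      · refine ⟨δ ^ k * δ * (ε * w), ?_, Or.inr ?_⟩
        · exact mul_mem (mul_mem (hC k) (by simpa using hC 1)) (Subgroup.mem_zpowers _)
        · have hδδ : δ * δ = 1 := by
            rw [← pow_two, ← orderOf_dvd_iff_pow_eq_one, hδo]; norm_num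
          rw [mul_assoc, mul_assoc, mul_assoc, ← mul_assoc ε w ε, hw, ← mul_assoc δ δ w, hδδ, one_mul]
      · exact ⟨_, hC k, Or.inr rfl⟩
      · exact ⟨δ ^ k * (ε * w), mul_mem (hC k) (Subgroup.mem_zpowers _), Or.inl (by rw [mul_assoc])⟩

end Cfsg.Agent.S3382
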