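import Cfsg.Statements.S3383


set_option autoImplicit false
open Cfsg
open scoped Pointwise

namespace Cfsg.Agent.S3383

/-- Let H be a Frobenius complement in a finite group L and K the Frobenius kernel (as a subgroup). Then K is characteristic in L, and every normal subgroup of L either contains K or is contained in K. -/
theorem result {L : Type*} [Group L] [Finite L]
    (H : Subgroup L) (hH : Cfsg.IsFrobeniusComplement H)
    (K : Subgroup L) (hK : (K : Set L) = Cfsg.frobeniusKernel H) :
    K.Characteristic ∧ ∀ N : Subgroup L, N.Normal → K ≤ N ∨ N ≤ K := by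
  obtain ⟨hH1, hH2, hH3⟩ := hH
  have hmemK : ∀ x, x ∈ K ↔ x ∈ Cfsg.frobeniusKernel H := fun x => by rw [← hK]; rfl
  have hKn : K.Normal := by
    refine ⟨fun n hn g => (hmemK _).mpr ?_⟩
    rcases (hmemK n).mp hn with rfl | h
    · exact Or.inl (by simp)
    · refine Or.inr fun k hk => h (g⁻¹ * k) ?_
      rw [Subgroup.mem_smul_pointwise_iff_exists] at hk ⊢
      obtain ⟨y, hy, hyk⟩ := hk
      refine ⟨y, hy, ?_⟩
      simp only [MulAut.smul_def, MulAut.conj_apply] at hyk ⊢
      calc g⁻¹ * k * y * (g⁻¹ * k)⁻¹ = g⁻¹ * (k * y * k⁻¹) * g := by group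
        _ = n := by rw [hyk]; group
  have hcomp : ∀ N : Subgroup L, N.Normal → K ≤ N ∨ N ≤ K := by
    intro N hN
    by_cases hNH : ∃ h ∈ H, h ∈ N ∧ h ≠ 1
    · left
      obtain ⟨h, hh, hhN, hh1⟩ := hNH
      have hf : ∀ k : K, (k : L) * h * (k : L)⁻¹ * h⁻¹ ∈ K ⊓ N := fun k => by
        refine Subgroup.mem_inf.mpr ⟨?_, mul_mem (hN.conj_mem h hhN k) (inv_mem hhN)⟩
        have h2 : (k : L) * h * (k : L)⁻¹ * h⁻¹ = k * (h * (k : L)⁻¹ * h⁻¹) := by group
        rw [h2]
        exact mul_mem k.2 (hKn.conj_mem _ (inv_mem k.2) h)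
      have hinj : Function.Injective (fun k : K => (⟨_, hf k⟩ : ↥(K ⊓ N))) := by
        intro k₁ k₂ he
        have he' : (k₁ : L) * h * (k₁ : L)⁻¹ = k₂ * h * (k₂ : L)⁻¹ :=
          mul_right_cancel (congrArg Subtype.val he)
        set u : L := (k₂ : L)⁻¹ * k₁ with hu
        have hu2 : u * h * u⁻¹ = h := by
          calc u * h * u⁻¹ = (k₂ : L)⁻¹ * ((k₁ : L) * h * (k₁ : L)⁻¹) * k₂ := by rw [hu]; group
            _ = h := by rw [he']; group
        have huH : u ∈ H := by
          by_contra huH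
          have h2 : h ∈ H ⊓ (MulAut.conj u • H) :=
            ⟨hh, Subgroup.mem_smul_pointwise_iff_exists _ _ _ |>.mpr ⟨h, hh, hu2⟩⟩
          rw [hH3 u huH, Subgroup.mem_bot] at h2
          exact hh1 h2
        have hu1 : u = 1 := by
          rcases (hmemK u).mp (mul_mem (inv_mem k₂.2) k₁.2) with h3 | h3
          · exact h3
          · exact absurd ((Subgroup.mem_smul_pointwise_iff_exists _ _ _).mpr ⟨u, huH, by simp⟩) (h3 1)
        exact Subtype.ext (inv_mul_eq_one.mp hu1).symm
      exact (Subgroup.eq_of_le_of_card_ge inf_le_left (Nat.card_le_card_of_injective _ hinj)).ge.trans inf_le_right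
    · right
      intro x hx
      refine (hmemK x).mpr (or_iff_not_imp_left.mpr fun hx1 g hg => ?_)
      rw [Subgroup.mem_smul_pointwise_iff_exists] at hg
      obtain ⟨y, hy, rfl⟩ := hg
      simp only [MulAut.smul_def, MulAut.conj_apply] at hx hx1
      refine hNH ⟨y, hy, by simpa [mul_assoc] using hN.conj_mem _ hx g⁻¹, ?_⟩
      rintro rfl
      simp at hx1
  refine ⟨Subgroup.characteristic_iff_map_eq.mpr fun α => ?_, hcomp⟩
  have hn : (K.map α.toMonoidHom).Normal := hKn.map _ α.surjective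
  have hc : Nat.card (K.map α.toMonoidHom) = Nat.card K := Subgroup.card_map_of_injective α.injective
  rcases hcomp _ hn with h | h
  · exact (Subgroup.eq_of_le_of_card_ge h hc.le).symm
  · exact Subgroup.eq_of_le_of_card_ge h hc.ge

end Cfsg.Agent.S3383
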