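import Cfsg.Statements.S3389
import Mathlib

set_option autoImplicit false
open Cfsg

namespace Cfsg.Agent.S3389

/-- Let G be a finite group acting faithfully and transitively on a finite set Ω with fixity k ≥ 1: every non-identity element fixes at most k points and some non-identity element fixes exactly k points. Then |Z(G)| divides k; if k = 2 then |G| is even; and for every prime p > k dividing |G| and every point α, either p does not divide |G_α| or G_α contains a Sylow p-subgroup of G. -/
theorem result {G : Type*} [Group G] [Finite G] {Ω : Type*} [Fintype Ω] [MulAction G Ω] [FaithfulSMul G Ω]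
    (htr : MulAction.IsPretransitive G Ω) (k : ℕ) (hk : 1 ≤ k)
    (hfix : ∀ g : G, g ≠ 1 → Nat.card (MulAction.fixedBy Ω g) ≤ k) (hex : ∃ g : G, g ≠ 1 ∧ Nat.card (MulAction.fixedBy Ω g) = k) :
    Nat.card (Subgroup.center G) ∣ k ∧ (k = 2 → 2 ∣ Nat.card G) ∧
      ∀ (p : ℕ), p.Prime → k < p → p ∣ Nat.card G → ∀ α : Ω,
        ¬ p ∣ Nat.card (MulAction.stabilizer G α) ∨ ¬ p ∣ (MulAction.stabilizer G α).index := by
  classical
  haveI : Fintype G := Fintype.ofFinite G
  obtain ⟨g₀, hg₀, hk₀⟩ := hex
  have hne : Nonempty Ω := by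
    obtain ⟨⟨a, -⟩⟩ := (Nat.card_pos_iff.1 (hk₀ ▸ hk : 0 < Nat.card (MulAction.fixedBy Ω g₀))).1
    exact ⟨a⟩
  refine ⟨?_, fun hk2 => ?_, fun p hp hkp hpG α => ?_⟩
  · let act : MulAction (Subgroup.center G) (MulAction.fixedBy Ω g₀) :=
      { smul := fun z a => ⟨(z : G) • (a : Ω), by
          show g₀ • ((z : G) • (a : Ω)) = (z : G) • (a : Ω)
          rw [smul_smul, Subgroup.mem_center_iff.1 z.2 g₀, ← smul_smul]
          exact congrArg _ a.2⟩
        one_smul := fun a => Subtype.ext (one_smul G (a : Ω))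
        mul_smul := fun z w a => Subtype.ext (mul_smul (z : G) w (a : Ω)) }
    letI := act
    have hfree : ∀ a : MulAction.fixedBy Ω g₀, MulAction.stabilizer (Subgroup.center G) a = ⊥ := by
      intro a
      rw [eq_bot_iff]
      intro z hz
      rw [Subgroup.mem_bot]
      refine Subtype.ext (FaithfulSMul.eq_of_smul_eq_smul (α := Ω) fun b => ?_)
      obtain ⟨c, rfl⟩ := htr.exists_smul_eq (a : Ω) b
      rw [smul_smul, ← Subgroup.mem_center_iff.1 z.2 c, ← smul_smul]
      show c • (z : G) • (a : Ω) = (1 : G) • c • (a : Ω)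
      rw [one_smul]
      exact congrArg _ (congrArg Subtype.val hz)
    have e := Nat.card_congr (MulAction.selfEquivSigmaOrbitsQuotientStabilizer (Subgroup.center G)
      (MulAction.fixedBy Ω g₀))
    haveI : Fintype (MulAction.orbitRel.Quotient (Subgroup.center G) (MulAction.fixedBy Ω g₀)) :=
      Fintype.ofFinite _
    rw [Nat.card_sigma, hk₀] at e
    rw [e]
    refine Finset.dvd_sum fun q _ => ?_
    rw [hfree, ← Subgroup.index_eq_card, Subgroup.index_bot]
  · subst hk2
    by_contra hodd
    obtain ⟨a, b, hab, hFix⟩ := Nat.card_eq_two_iff.1 hk₀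
    set H : Subgroup G := MulAction.stabilizer G (a : Ω) ⊓ MulAction.stabilizer G (b : Ω) with hH
    have hg₀H : g₀ ∈ H := ⟨a.2, b.2⟩
    have habΩ : (a : Ω) ≠ b := fun h => hab (Subtype.ext h)
    have hfix2 : ∀ h ∈ H, h ≠ 1 → ∀ c : Ω, h • c = c → c = a ∨ c = b := by
      intro h hh h1 c hc
      by_contra hno
      push Not at hno
      have h3 : ({(a : Ω), (b : Ω), c} : Finset Ω).card = 3 :=
        Finset.card_eq_three.2 ⟨_, _, _, habΩ, hno.1.symm, hno.2.symm, rfl⟩
      have hle : ({(a : Ω), (b : Ω), c} : Finset Ω).card ≤ Nat.card (MulAction.fixedBy Ω h) := by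
        rw [Nat.card_eq_fintype_card, ← Set.toFinset_card]
        refine Finset.card_le_card fun x hx => ?_
        simp only [Finset.mem_insert, Finset.mem_singleton] at hx
        rw [Set.mem_toFinset]
        rcases hx with rfl | rfl | rfl
        exacts [hh.1, hh.2, hc]
      have := hfix h h1
      omega
    -- conjugates of `H` outside `H` meet it trivially
    have hmal : ∀ g : G, ∀ h ∈ H, h ≠ 1 → g * h * g⁻¹ ∈ H → g ∈ H := by
      intro g h hh h1 hgh
      have h1' : g * h * g⁻¹ ≠ 1 := fun e => h1 (conj_eq_one_iff.1 e)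
      have hmap : ∀ c : Ω, h • c = c → g • c = a ∨ g • c = b := fun c hc =>
        hfix2 _ hgh h1' _ (by rw [smul_smul, inv_mul_cancel_right, ← smul_smul, hc])
      have h2 : g * g ∈ H := by
        rcases hmap a hh.1 with e1 | e1 <;> rcases hmap b hh.2 with e2 | e2
        · exact absurd (MulAction.injective g (e1.trans e2.symm)) habΩ
        · exact ⟨by show (g * g) • (a : Ω) = a; rw [← smul_smul, e1, e1],
            by show (g * g) • (b : Ω) = b; rw [← smul_smul, e2, e2]⟩
        · exact ⟨by show (g * g) • (a : Ω) = a; rw [← smul_smul, e1, e2],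
            by show (g * g) • (b : Ω) = b; rw [← smul_smul, e2, e1]⟩
        · exact absurd (MulAction.injective g (e1.trans e2.symm)) habΩ
      obtain ⟨m, hm⟩ : Odd (orderOf g) := Odd.of_dvd_nat
        (Nat.not_even_iff_odd.1 fun he => hodd (even_iff_two_dvd.1 he)) (orderOf_dvd_natCard g)
      have e : g = (g * g) ^ (m + 1) := by
        rw [← pow_two, ← pow_mul, show 2 * (m + 1) = orderOf g + 1 by omega, pow_succ,
          pow_orderOf_eq_one, one_mul]
      rw [e]; exact pow_mem h2 _
    set T : Finset G := Finset.univ.filter fun g => g ≠ 1 ∧ 2 ≤ Nat.card (MulAction.fixedBy Ω g)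
    have hT : H.index * (Nat.card H - 1) ≤ T.card := by
      let f : (G ⧸ H) × {h : H // h ≠ 1} → T := fun s => ⟨s.1.out * (s.2.1 : G) * s.1.out⁻¹, by
        have h1 : (s.2.1 : G) ≠ 1 := fun e => s.2.2 (Subtype.ext e)
        refine Finset.mem_filter.2 ⟨Finset.mem_univ _, fun e => h1 (conj_eq_one_iff.1 e), ?_⟩
        have hne2 : s.1.out • (a : Ω) ≠ s.1.out • (b : Ω) := fun e => habΩ (MulAction.injective _ e)
        rw [← Finset.card_pair hne2, Nat.card_eq_fintype_card, ← Set.toFinset_card]
        refine Finset.card_le_card fun x hx => ?_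
        simp only [Finset.mem_insert, Finset.mem_singleton] at hx
        rw [Set.mem_toFinset, MulAction.mem_fixedBy]
        rcases hx with rfl | rfl
        · rw [smul_smul, inv_mul_cancel_right, ← smul_smul, (s.2.1.2).1]
        · rw [smul_smul, inv_mul_cancel_right, ← smul_smul, (s.2.1.2).2]⟩
      have hinj : Function.Injective f := by
        rintro ⟨q, ⟨h, hh⟩⟩ ⟨q', ⟨h', hh'⟩⟩ e
        have e' : q.out * (h : G) * q.out⁻¹ = q'.out * (h' : G) * q'.out⁻¹ := congrArg Subtype.val e
        have hq : q'.out⁻¹ * q.out ∈ H := by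
          refine hmal _ h h.2 (fun e1 => hh (Subtype.ext e1)) ?_
          have e2 : q'.out⁻¹ * q.out * (h : G) * (q'.out⁻¹ * q.out)⁻¹ = (h' : G) := by
            calc q'.out⁻¹ * q.out * (h : G) * (q'.out⁻¹ * q.out)⁻¹
                = q'.out⁻¹ * (q.out * (h : G) * q.out⁻¹) * q'.out := by group
              _ = (h' : G) := by rw [e']; group
          rw [e2]; exact h'.2
        have hqq : q' = q := by
          rw [← QuotientGroup.out_eq' q, ← QuotientGroup.out_eq' q']
          exact QuotientGroup.eq.2 hq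
        subst hqq
        have : (h : G) = h' := mul_left_cancel (mul_right_cancel e')
        exact Prod.ext rfl (Subtype.ext (Subtype.ext this))
      have := Nat.card_le_card_of_injective f hinj
      have hc : Nat.card {h : H // h ≠ 1} = Nat.card H - 1 := by
        rw [Nat.card_eq_fintype_card, Fintype.card_subtype_compl, Fintype.card_subtype_eq,
          Nat.card_eq_fintype_card]
      rw [Nat.card_prod, hc, ← Subgroup.index_eq_card, Nat.card_eq_finsetCard] at this
      exact this
    have hsum : ∑ g : G, Nat.card (MulAction.fixedBy Ω g) = Fintype.card G := by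
      haveI := htr
      haveI : Subsingleton (MulAction.orbitRel.Quotient G Ω) :=
        (MulAction.pretransitive_iff_subsingleton_quotient G Ω).1 inferInstance
      haveI : Nonempty (MulAction.orbitRel.Quotient G Ω) := ⟨Quotient.mk'' hne.some⟩
      haveI : Unique (MulAction.orbitRel.Quotient G Ω) :=
        uniqueOfSubsingleton (Quotient.mk'' hne.some)
      simp only [Nat.card_eq_fintype_card]
      rw [MulAction.sum_card_fixedBy_eq_card_orbits_mul_card_group G Ω, Fintype.card_unique, one_mul]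
    have hlow : Fintype.card Ω + 2 * T.card ≤ ∑ g : G, Nat.card (MulAction.fixedBy Ω g) := by
      have h1T : (1 : G) ∉ T := by simp [T]
      refine le_trans ?_ (Finset.sum_le_sum_of_subset (Finset.subset_univ (insert 1 T)))
      rw [Finset.sum_insert h1T]
      refine Nat.add_le_add (le_of_eq ?_) ?_
      · rw [MulAction.fixedBy_one_eq_univ, Nat.card_coe_set_eq, Set.ncard_univ,
          Nat.card_eq_fintype_card]
      · rw [mul_comm, ← smul_eq_mul]
        exact Finset.card_nsmul_le_sum T _ 2 fun g hg => (Finset.mem_filter.1 hg).2.2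
    have hH2 : 2 ≤ Nat.card H := by
      refine Finite.one_lt_card_iff_nontrivial.2 ⟨⟨⟨g₀, hg₀H⟩, 1, fun e => hg₀ (congrArg Subtype.val e)⟩⟩
    have hGc := H.card_mul_index
    rw [Nat.card_eq_fintype_card (α := G)] at hGc
    have hΩ : 0 < Fintype.card Ω := Fintype.card_pos
    obtain ⟨j, hj⟩ : ∃ j, Nat.card H = j + 2 := ⟨Nat.card H - 2, by omega⟩
    rw [hj, show j + 2 - 1 = j + 1 by omega] at hT
    rw [hj] at hGc
    nlinarith
  · haveI := Fact.mk hp
    set S := MulAction.stabilizer G α with hS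
    by_contra hcon
    push Not at hcon
    obtain ⟨hp1, hp2⟩ := hcon
    obtain ⟨P₀⟩ : Nonempty (Sylow p S) := inferInstance
    set Q₀ := (P₀ : Subgroup S).map S.subtype with hQ₀
    have hQ₀p : IsPGroup p Q₀ := P₀.2.map _
    obtain ⟨P, hP⟩ := hQ₀p.exists_le_sylow
    have hQ₀S : Q₀ ≤ S := Subgroup.map_subtype_le _
    have hmax : ∀ x : G, x ∈ (P : Subgroup G) → x ∈ S → x ∈ Q₀ := by
      intro x hxP hxS
      have h := P₀.3 (P.2.comap_subtype (K := S)) (fun y hy => hP ⟨y, hy, rfl⟩)
      have hm : (⟨x, hxS⟩ : S) ∈ (P₀ : Subgroup S) := h ▸ hxP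
      exact ⟨_, hm, rfl⟩
    obtain ⟨q, hq, hq1⟩ : ∃ q ∈ Q₀, q ≠ (1 : G) := by
      obtain ⟨q, hq⟩ := (P₀ : Subgroup S).ne_bot_iff_exists_ne_one.1 (P₀.ne_bot_of_dvd_card hp1)
      exact ⟨((q : S) : G), ⟨q, q.2, rfl⟩, fun e => hq (Subtype.ext (Subtype.ext e))⟩
    have hlt : Q₀.subgroupOf (P : Subgroup G) < ⊤ := by
      rw [lt_top_iff_ne_top, Ne, Subgroup.subgroupOf_eq_top]
      intro hle
      exact P.not_dvd_index (hp2.trans (Subgroup.index_dvd_of_le (hle.trans hQ₀S)))
    haveI : Group.IsNilpotent (P : Subgroup G) := P.2.isNilpotent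
    obtain ⟨y, hy, hyQ⟩ := SetLike.exists_of_lt (Group.normalizerCondition_of_isNilpotent _ hlt)
    refine hyQ (hmax y y.2 ?_)
    -- y permutes the fixed points of Q₀
    set F : Set Ω := {c | ∀ x ∈ Q₀, x • c = c}
    have hyF : ∀ c ∈ F, ∀ z ∈ Subgroup.zpowers (y : (P : Subgroup G)), (z : G) • c ∈ F := by
      intro c hc z hz x hx
      have hzN : z ∈ Subgroup.normalizer (Q₀.subgroupOf (P : Subgroup G) : Set (P : Subgroup G)) :=
        Subgroup.zpowers_le.2 hy hz
      have h2 := (Subgroup.mem_normalizer_iff.1 (inv_mem hzN) ⟨x, hP hx⟩).1 hx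
      have h3 : (z : G)⁻¹ * x * (z : G) ∈ Q₀ := by simpa [Subgroup.mem_subgroupOf] using h2
      calc x • (z : G) • c = (z : G) • ((z : G)⁻¹ * x * (z : G)) • c := by
            rw [smul_smul, smul_smul]; group
        _ = (z : G) • c := by rw [hc _ h3]
    have horb : MulAction.orbit (Subgroup.zpowers (y : (P : Subgroup G))) α ⊆ MulAction.fixedBy Ω q := by
      rintro _ ⟨z, rfl⟩
      exact hyF α (fun x hx => hQ₀S hx) z z.2 q hq
    obtain ⟨n, hn⟩ := (P.2.to_subgroup (Subgroup.zpowers (y : (P : Subgroup G)))).card_orbit α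
    have hle : p ^ n ≤ k := hn ▸ (Nat.card_mono (Set.toFinite _) horb).trans (hfix q hq1)
    have hn0 : n = 0 := by
      by_contra h
      exact absurd ((Nat.le_self_pow h p).trans hle) (by omega)
    rw [hn0, pow_zero] at hn
    haveI := (Nat.card_eq_one_iff_unique.1 hn).1
    exact congrArg Subtype.val (Subsingleton.elim
      (⟨_, ⟨⟨y, Subgroup.mem_zpowers _⟩, rfl⟩⟩ : MulAction.orbit (Subgroup.zpowers (y : (P : Subgroup G))) α)
      ⟨α, MulAction.mem_orbit_self α⟩)

end Cfsg.Agent.S3389
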