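import Cfsg.Statements.S3390
import Cfsg.Agent.MaxClass.Class
import Cfsg.Agent.Core.Solvable
import Cfsg.Agent.S0218
import Mathlib.GroupTheory.Perm.Cycle.Type
import Mathlib.GroupTheory.GroupAction.Quotient
-- import your own Cfsg.Agent.* helpers here

set_option autoImplicit false
open Cfsg

namespace Cfsg.Agent.S3390

open Equiv MulAction

section Helpers

/-- The sign of a permutation all of whose nontrivial cycles have the same even length. -/
theorem sign_of_uniform {X : Type*} [Fintype X] [DecidableEq X] (σ : Perm X) (o : ℕ) (ho : Even o)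
    (hord : orderOf σ ∣ o) (hfree : ∀ x : X, σ x ≠ x → ∀ n : ℕ, (σ ^ n) x = x → o ∣ n) :
    ∃ c : ℕ, σ.support.card = c * o ∧ Equiv.Perm.sign σ = (-1) ^ c := by
  have hsum : σ.cycleType.sum = σ.cycleType.card * o := by
    suffices h : ∀ n ∈ σ.cycleType, n = o by
      conv_lhs => rw [Multiset.eq_replicate_card.2 h]
      rw [Multiset.sum_replicate, smul_eq_mul]
    intro n hn
    refine Nat.dvd_antisymm ((Perm.dvd_of_mem_cycleType hn).trans hord) ?_
    rw [Perm.cycleType_def, Multiset.mem_map] at hn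
    obtain ⟨c, hc, rfl⟩ := hn
    rw [Finset.mem_val, Perm.mem_cycleFactorsFinset_iff] at hc
    obtain ⟨hcyc, hceq⟩ := hc
    obtain ⟨x, hx⟩ := hcyc.nonempty_support
    show o ∣ c.support.card
    rw [← hcyc.orderOf]
    refine hfree x (by rw [← hceq x hx]; exact Perm.mem_support.1 hx) _ ?_
    have hpow : ∀ k : ℕ, (c ^ k) x = (σ ^ k) x := by
      intro k
      induction k with
      | zero => rfl
      | succ k ih =>
        rw [pow_succ', pow_succ', Perm.mul_apply, Perm.mul_apply, ← ih]
        exact hceq _ (Perm.pow_apply_mem_support.2 hx)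
    rw [← hpow, pow_orderOf_eq_one, Perm.one_apply]
  refine ⟨σ.cycleType.card, by rw [← Perm.sum_cycleType]; exact hsum, ?_⟩
  rw [Perm.sign_of_cycleType, hsum, pow_add, (Even.mul_left ho _).neg_one_pow, one_mul]

/-- A 2-group with an involution with centraliser of order four and a second or noncentral involution. -/
theorem dihedral_or_qd {T : Type*} [Group T] [Finite T] (hT : IsPGroup 2 T) {x z : T}
    (hx : x ≠ 1) (hx2 : x * x = 1) (hz : z ≠ 1) (hz2 : z * z = 1) (hzx : z ≠ x)
    (hC : Nat.card ↥(Subgroup.centralizer ({x} : Set T)) = 4) :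
    (∃ n : ℕ, Nonempty (T ≃* DihedralGroup n)) ∨ Cfsg.IsQuasiDihedral T := by
  rcases MaxClass.mc_of_centralizer hT x hC with h4 | ⟨k, e⟩ | ⟨k, hc, a, b, ha, hb, he⟩ | ⟨k, ⟨e⟩⟩
  · left
    refine ⟨2, MaxClass.nonempty_mulEquiv_dihedral 2 (orderOf_eq_prime (p := 2) (by rwa [pow_two]) hx) hz2
      ?_ ?_ ?_⟩
    · have htop : Subgroup.centralizer ({x} : Set T) = ⊤ := Subgroup.eq_top_of_card_eq _ (hC.trans h4.symm)
      have : z * x = x * z := Subgroup.mem_centralizer_singleton_iff.1 (htop ▸ Subgroup.mem_top z)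
      rw [this, mul_inv_cancel_right]
      exact (inv_eq_of_mul_eq_one_right hx2).symm
    · intro hmem
      obtain ⟨i, hi⟩ := Subgroup.mem_zpowers_iff.1 hmem
      rcases Int.even_or_odd i with ⟨j, rfl⟩ | ⟨j, rfl⟩
      · refine hz (hi.symm.trans ?_)
        rw [← two_mul, zpow_mul, zpow_two, hx2, one_zpow]
      · refine hzx (hi.symm.trans ?_)
        rw [zpow_add, zpow_mul, zpow_two, hx2, one_zpow, one_mul, zpow_one]
    · intro w
      have hidx : (Subgroup.zpowers x).index = 2 := by
        have h := (Subgroup.zpowers x).card_mul_index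
        rw [Nat.card_zpowers, orderOf_eq_prime (p := 2) (by rwa [pow_two]) hx, h4] at h
        omega
      have hmem : z ∉ Subgroup.zpowers x := by
        intro hmem
        obtain ⟨i, hi⟩ := Subgroup.mem_zpowers_iff.1 hmem
        rcases Int.even_or_odd i with ⟨j, rfl⟩ | ⟨j, rfl⟩
        · refine hz (hi.symm.trans ?_)
          rw [← two_mul, zpow_mul, zpow_two, hx2, one_zpow]
        · refine hzx (hi.symm.trans ?_)
          rw [zpow_add, zpow_mul, zpow_two, hx2, one_zpow, one_mul, zpow_one]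
      by_cases hw : w ∈ Subgroup.zpowers x
      · exact Or.inl hw
      · refine Or.inr ((Subgroup.mul_mem_iff_of_index_two hidx).2 ?_)
        simp [hmem, hw]
  · exact Or.inl ⟨_, e⟩
  · exact Or.inr (MaxClass.isQuasiDihedral_of_data hc ha hb he)
  · exfalso
    refine hzx (e.injective ?_)
    -- the generalised quaternion groups have a single involution
    have h1 := (Nat.card_eq_one_iff_unique.1 (Cfsg.Agent.S0218.result k)).1
    have hord : ∀ t : T, t ≠ 1 → t * t = 1 → orderOf (e t) = 2 := fun t ht ht2 => by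
      rw [MulEquiv.orderOf_eq]
      exact orderOf_eq_prime (by rwa [pow_two]) ht
    exact congrArg Subtype.val (h1.allEq ⟨e z, hord z hz hz2⟩ ⟨e x, hord x hx hx2⟩)

end Helpers


section Frobenius

variable {G : Type*} [Group G] [Finite G] {Ω : Type*} [Fintype Ω] [MulAction G Ω] [FaithfulSMul G Ω]

/-- The index-two subgroup and its Frobenius complement when all but one orbit are regular. -/
theorem exists_frobenius [MulAction.IsPretransitive G Ω]
    (hfix : ∀ g : G, g ≠ 1 → Nat.card (MulAction.fixedBy Ω g) ≤ 2) (α β : Ω) (hαβ : α ≠ β)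
    (T D : Subgroup G) (hD : D = T ⊓ MulAction.stabilizer G α) (hDβ : ∀ x ∈ D, x • β = β)
    (hDfix : ∀ x ∈ D, x ≠ 1 → ∀ c : Ω, x • c = c → c = α ∨ c = β)
    (hout : ∀ x ∈ T, x ∉ D → x • α = β ∧ x • β = α)
    (hfree : ∀ y ∈ T, y ∉ D → ∀ ω : Ω, y • ω ≠ ω)
    (hrel : D.relIndex T = 2) (hcardS : Nat.card ↥T = 2 * Nat.card ↥D) (hD1 : 2 ≤ Nat.card ↥D)
    (S : Sylow 2 G) (hS : (S : Subgroup G) = T) :
    ∃ N : Subgroup G, N.Normal ∧ (N.index = 2 ∨ N.index = Nat.card T) ∧
      (∃ H : Subgroup ↥N, Cfsg.IsFrobeniusComplement H) := by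
  classical
  letI := Fintype.ofFinite G
  have hDT : D ≤ T := by rw [hD]; exact inf_le_left
  have hDα : ∀ x ∈ D, x • α = α := fun x hx => by rw [hD] at hx; exact hx.2
  have hp2 : IsPGroup 2 ↥T := hS ▸ S.2
  -- the regular part
  have hfree' : ∀ x ∈ T, ∀ w : Ω, w ≠ α → w ≠ β → x • w = w → x = 1 := by
    intro x hx w hwa hwb hxw
    by_contra hx1
    by_cases hxD : x ∈ D
    · rcases hDfix x hxD hx1 w hxw with e | e
      · exact hwa e
      · exact hwb e
    · exact hfree x hx hxD w hxw
  have hΩ : ∃ k, Fintype.card Ω = 2 + k * Nat.card ↥T := by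
    let R : SubMulAction ↥T Ω :=
      { carrier := {w | w ≠ α ∧ w ≠ β}
        smul_mem' := by
          rintro ⟨x, hx⟩ w ⟨ha, hb⟩
          show x • w ≠ α ∧ x • w ≠ β
          by_cases hxD : x ∈ D
          · exact ⟨fun e => ha (smul_left_cancel x (e.trans (hDα x hxD).symm)),
              fun e => hb (smul_left_cancel x (e.trans (hDβ x hxD).symm))⟩
          · exact ⟨fun e => hb (smul_left_cancel x (e.trans (hout x hx hxD).2.symm)),
              fun e => ha (smul_left_cancel x (e.trans (hout x hx hxD).1.symm))⟩ }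
    have hR : Nat.card ↥T ∣ Nat.card R := by
      have hst : ∀ w : R, MulAction.stabilizer ↥T w = ⊥ := fun w => by
        rw [Subgroup.eq_bot_iff_forall]
        intro x hx
        exact Subtype.ext (hfree' x x.2 w.1 w.2.1 w.2.2 (congrArg Subtype.val hx))
      have e := Nat.card_congr (MulAction.selfEquivSigmaOrbits ↥T R)
      rw [Nat.card_sigma] at e
      rw [e]
      refine Finset.dvd_sum fun q _ => ?_
      rw [Nat.card_congr (MulAction.orbitEquivQuotientStabilizer ↥T _), ← Subgroup.index_eq_card,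
        hst, Subgroup.index_bot]
    obtain ⟨k, hk⟩ := hR
    refine ⟨k, ?_⟩
    have h2 : Nat.card R + 2 = Fintype.card Ω := by
      have hR' : Nat.card R = (Finset.univ \ ({α, β} : Finset Ω)).card := by
        rw [← Nat.card_eq_finsetCard]
        exact Nat.card_congr (Equiv.subtypeEquivRight fun w => by
          simp [Finset.mem_sdiff]; rfl)
      rw [hR', Finset.card_sdiff_of_subset (Finset.subset_univ _), Finset.card_pair hαβ, Finset.card_univ]
      have : ({α, β} : Finset Ω).card ≤ Fintype.card Ω := Finset.card_le_univ _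
      rw [Finset.card_pair hαβ] at this
      omega
    rw [← h2, hk]; ring
  obtain ⟨k, hk⟩ := hΩ
  -- signs of the permutations induced by elements of `T`
  have hsign : ∀ x ∈ T, x ≠ 1 → Equiv.Perm.sign (MulAction.toPermHom G Ω x) =
      if x ∈ D then (-1 : ℤˣ) ^ ((k * Nat.card ↥T) / orderOf x)
      else -((-1 : ℤˣ) ^ ((k * Nat.card ↥T) / orderOf x)) := by
    intro x hx hx1
    have he : Even (orderOf x) := by
      obtain ⟨j, hj⟩ := IsPGroup.iff_orderOf.1 hp2 ⟨x, hx⟩
      rw [Subgroup.orderOf_mk] at hj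
      rw [hj]
      refine (Nat.even_pow.2 ⟨even_two, fun e => hx1 (orderOf_eq_one_iff.1 (by rw [hj, e, pow_zero]))⟩)
    set σ : Equiv.Perm Ω := MulAction.toPermHom G Ω x with hσ
    set τ : Equiv.Perm Ω := if x ∈ D then σ else Equiv.swap α β * σ with hτ
    have hσv : ∀ w, σ w = x • w := fun w => rfl
    have hτoff : ∀ w, w ≠ α → w ≠ β → τ w = x • w := by
      intro w ha hb
      rw [hτ]
      split_ifs with hxD
      · rfl
      · rw [Equiv.Perm.mul_apply, hσv, Equiv.swap_apply_of_ne_of_ne]
        · exact fun e => hb (smul_left_cancel x (e.trans (hout x hx hxD).2.symm))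
        · exact fun e => ha (smul_left_cancel x (e.trans (hout x hx hxD).1.symm))
    have hτon : τ α = α ∧ τ β = β := by
      rw [hτ]
      split_ifs with hxD
      · exact ⟨hDα x hxD, hDβ x hxD⟩
      · rw [Equiv.Perm.mul_apply, Equiv.Perm.mul_apply, hσv, hσv, (hout x hx hxD).1, (hout x hx hxD).2,
          Equiv.swap_apply_right, Equiv.swap_apply_left]
        exact ⟨rfl, rfl⟩
    have hxon : ∀ w, w ≠ α → w ≠ β → ∀ n : ℕ, (τ ^ n) w = x ^ n • w ∧ (τ ^ n) w ≠ α ∧ (τ ^ n) w ≠ β := by
      intro w ha hb n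
      induction n with
      | zero => exact ⟨by rw [pow_zero, pow_zero, one_smul]; rfl, ha, hb⟩
      | succ n ih =>
        obtain ⟨e, ea, eb⟩ := ih
        have h1 : (τ ^ (n + 1)) w = τ ((τ ^ n) w) := by rw [pow_succ', Equiv.Perm.mul_apply]
        refine ⟨?_, fun h => ?_, fun h => ?_⟩
        · rw [h1, hτoff _ ea eb, e, ← mul_smul, ← pow_succ']
        · exact ea (τ.injective (h1.symm.trans (h.trans hτon.1.symm)))
        · exact eb (τ.injective (h1.symm.trans (h.trans hτon.2.symm)))
    have hord : orderOf τ ∣ orderOf x := orderOf_dvd_of_pow_eq_one (Equiv.ext fun w => by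
      by_cases ha : w = α
      · subst ha; exact Function.IsFixedPt.perm_pow hτon.1 _
      by_cases hb : w = β
      · subst hb; exact Function.IsFixedPt.perm_pow hτon.2 _
      rw [(hxon w ha hb _).1, pow_orderOf_eq_one, one_smul]; rfl)
    have hsupp : τ.support = Finset.univ \ {α, β} := by
      ext w
      simp only [Equiv.Perm.mem_support, Finset.mem_sdiff, Finset.mem_univ, true_and, Finset.mem_insert,
        Finset.mem_singleton, not_or]
      constructor
      · intro h; exact ⟨fun e => h (e ▸ hτon.1), fun e => h (e ▸ hτon.2)⟩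
      · rintro ⟨ha, hb⟩ h
        rw [hτoff w ha hb] at h
        exact hx1 (hfree' x hx w ha hb h)
    obtain ⟨c, hc, hs⟩ := sign_of_uniform τ (orderOf x) he hord fun w hw n hn => by
      have hw' : w ∈ τ.support := Equiv.Perm.mem_support.2 hw
      rw [hsupp] at hw'
      simp only [Finset.mem_sdiff, Finset.mem_univ, true_and, Finset.mem_insert, Finset.mem_singleton,
        not_or] at hw'
      rw [(hxon w hw'.1 hw'.2 n).1] at hn
      exact orderOf_dvd_of_pow_eq_one (hfree' _ (pow_mem hx n) w hw'.1 hw'.2 hn)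
    rw [hsupp, Finset.card_sdiff_of_subset (Finset.subset_univ _), Finset.card_pair hαβ,
      Finset.card_univ, hk, Nat.add_sub_cancel_left] at hc
    have hcc : c = (k * Nat.card ↥T) / orderOf x := by
      rw [hc, Nat.mul_div_cancel _ (orderOf_pos x)]
    rw [← hcc, ← hs, hτ]
    split_ifs with hxD
    · rfl
    · rw [map_mul, Equiv.Perm.sign_swap hαβ, neg_mul, one_mul, neg_neg]
  -- a homomorphism to `ℤˣ` separating `T` from `D`
  obtain ⟨y, hyT, hyD⟩ : ∃ y ∈ T, y ∉ D := by
    by_contra! hall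
    rw [le_antisymm hDT hall, Subgroup.relIndex_self] at hrel
    omega
  obtain ⟨ε, hεy, hεD⟩ : ∃ ε : G →* ℤˣ, ε y = -1 ∧ ∀ d ∈ D, ε d = 1 := by
    by_cases hgen : orderOf y = Nat.card ↥T
    · -- cyclic: the regular representation
      have hy1 : 1 < orderOf y := by rw [hgen]; omega
      obtain ⟨j, hj⟩ := IsPGroup.iff_orderOf.1 hp2 ⟨y, hyT⟩
      rw [Subgroup.orderOf_mk] at hj
      have he : Even (orderOf y) := by
        rw [hj]; exact Nat.even_pow.2 ⟨even_two, fun e => by rw [hj, e, pow_zero] at hy1; omega⟩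
      let ε : G →* ℤˣ := Equiv.Perm.sign.comp (MulAction.toPermHom G G)
      have hpt : ∀ (n : ℕ) (w : G), ((MulAction.toPermHom G G y) ^ n) w = y ^ n * w := fun n w => by
        rw [← map_pow]; rfl
      have hy : ε y = -1 := by
        obtain ⟨c, hc, hs⟩ := sign_of_uniform (MulAction.toPermHom G G y) (orderOf y) he
          (orderOf_map_dvd _ y) fun w _ n hn => by
            rw [hpt] at hn
            exact orderOf_dvd_of_pow_eq_one (mul_eq_right.1 hn)
        have hsupp : (MulAction.toPermHom G G y).support = Finset.univ := by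
          ext w
          simp only [Equiv.Perm.mem_support, Finset.mem_univ, iff_true]
          intro h
          have h' := mul_eq_right.1 (show y * w = w from h)
          rw [h', orderOf_one] at hy1
          omega
        rw [hsupp, Finset.card_univ, ← Nat.card_eq_fintype_card, hgen] at hc
        show Equiv.Perm.sign (MulAction.toPermHom G G y) = -1
        rw [hs]
        refine Odd.neg_one_pow (Nat.not_even_iff_odd.1 fun ⟨c', hc'⟩ => ?_)
        refine Sylow.not_dvd_index S ⟨c', ?_⟩
        rw [hS]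
        have h1 := T.card_mul_index
        rw [hc, hc', mul_comm (Nat.card ↥T)] at h1
        have h2 := Nat.eq_of_mul_eq_mul_right Nat.card_pos h1
        omega
      have hzp : T = Subgroup.zpowers y := (Subgroup.eq_of_le_of_card_ge (Subgroup.zpowers_le.2 hyT)
        (by rw [Nat.card_zpowers, hgen])).symm
      refine ⟨ε, hy, fun d hd => ?_⟩
      have hdT : d ∈ Subgroup.zpowers y := hzp ▸ hDT hd
      obtain ⟨i, rfl⟩ := Subgroup.mem_zpowers_iff.1 hdT
      rcases Int.even_or_odd i with ⟨m, rfl⟩ | ⟨m, rfl⟩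
      · rw [map_zpow, hy, zpow_add, ← mul_zpow, neg_mul_neg, one_mul, one_zpow]
      · exfalso
        have hy2 : y * y ∈ D := by
          have := (hout y hyT hyD)
          rw [hD]
          exact ⟨mul_mem hyT hyT, by show (y * y) • α = α; rw [mul_smul, this.1, this.2]⟩
        refine hyD ?_
        have : y = ((y * y) ^ m)⁻¹ * y ^ (2 * m + 1) := by
          rw [← pow_two, ← zpow_natCast, ← zpow_mul]; group
        rw [this]
        exact mul_mem (inv_mem (zpow_mem hy2 m)) hd
    · -- noncyclic: the permutation character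
      have hev : ∀ x ∈ T, x ≠ 1 → orderOf x ≠ Nat.card ↥T →
          (-1 : ℤˣ) ^ ((k * Nat.card ↥T) / orderOf x) = 1 := by
        intro x hx hx1 hne
        obtain ⟨t, ht⟩ := hp2.exists_card_eq
        obtain ⟨j, hj, hj'⟩ := (Nat.dvd_prime_pow Nat.prime_two).1
          (show orderOf x ∣ 2 ^ t by rw [← ht, ← Subgroup.orderOf_mk x hx]; exact orderOf_dvd_natCard _)
        refine Even.neg_one_pow ?_
        rw [hj', ht, Nat.mul_div_assoc _ (pow_dvd_pow 2 hj), Nat.pow_div hj two_pos]
        refine Even.mul_left (Nat.even_pow.2 ⟨even_two, fun e => hne ?_⟩) _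
        rw [hj', ht, show t = j by omega]
      refine ⟨Equiv.Perm.sign.comp (MulAction.toPermHom G Ω), ?_, fun d hd => ?_⟩
      · show Equiv.Perm.sign (MulAction.toPermHom G Ω y) = -1
        have hy1 : y ≠ 1 := fun e => hyD (e ▸ one_mem D)
        rw [hsign y hyT hy1, if_neg hyD, hev y hyT hy1 hgen]
      · show Equiv.Perm.sign (MulAction.toPermHom G Ω d) = 1
        by_cases hd1 : d = 1
        · rw [hd1, map_one, map_one]
        rw [hsign d (hDT hd) hd1, if_pos hd, hev d (hDT hd) hd1]
        intro e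
        have h1 : orderOf d ≤ Nat.card ↥D := by
          rw [← Subgroup.orderOf_mk d hd]; exact Nat.le_of_dvd Nat.card_pos (orderOf_dvd_natCard _)
        omega
  set N := ε.ker with hN
  have hNidx : N.index = 2 := by
    have h := Subgroup.index_ker ε
    rw [hN, h]
    have hrng : ε.range = ⊤ := by
      rw [eq_top_iff]
      intro u _
      rcases Int.units_eq_one_or u with rfl | rfl
      · exact one_mem _
      · exact ⟨y, hεy⟩
    rw [hrng, Subgroup.card_top, Nat.card_eq_fintype_card]
    rfl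
  refine ⟨N, inferInstance, Or.inl hNidx, ?_⟩
  -- the point stabiliser lies in `N`
  set A := MulAction.stabilizer G α with hA
  have hAidx : A.index = Fintype.card Ω := by
    rw [hA, MulAction.index_stabilizer_of_transitive, Nat.card_eq_fintype_card]
  obtain ⟨t, ht⟩ := hp2.exists_card_eq
  have ht2 : 2 ≤ t := by
    by_contra hlt
    have := Nat.pow_le_pow_right (show 2 > 0 by norm_num) (show t ≤ 1 by omega)
    omega
  have h4 : 4 ∣ Nat.card ↥T := by rw [ht]; exact pow_dvd_pow 2 ht2
  have hAN : A ≤ N := by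
    intro a ha
    rw [hN, MonoidHom.mem_ker]
    rcases Int.units_eq_one_or (ε a) with h | h
    · exact h
    exfalso
    have hDA : D ≤ A := by rw [hD]; exact inf_le_right
    have hDN : D ≤ A ⊓ N := le_inf hDA fun d hd => hεD d hd
    have h2 : (A ⊓ N).relIndex A = 2 := by
      rw [inf_comm, Subgroup.inf_relIndex_right]
      refine Subgroup.index_eq_two_iff.2 ⟨⟨a, ha⟩, fun b => ?_⟩
      rcases Int.units_eq_one_or (ε b) with hb | hb <;> simp [Xor, hN, Subgroup.mem_subgroupOf, h, hb]
    have hdvd : 2 * Nat.card ↥D ∣ Nat.card ↥A := by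
      have h3 := ((A ⊓ N).subgroupOf A).card_mul_index
      rw [Nat.card_congr (Subgroup.subgroupOfEquivOfLe (inf_le_left : A ⊓ N ≤ A)).toEquiv] at h3
      rw [← h3, show ((A ⊓ N).subgroupOf A).index = 2 from h2, mul_comm]
      exact Nat.mul_dvd_mul_right (Subgroup.card_dvd_of_le hDN) 2
    refine Sylow.not_dvd_index S ?_
    rw [hS]
    obtain ⟨v, hv⟩ := hdvd
    obtain ⟨u, hu⟩ := h4
    have h5 := A.card_mul_index
    have h6 := T.card_mul_index
    rw [hAidx, hk, hv, ← hcardS] at h5
    rw [← h6] at h5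
    refine ⟨v * (1 + 2 * (k * u)), Nat.eq_of_mul_eq_mul_left (Nat.card_pos (α := ↥T)) ?_⟩
    rw [← h5, hu]; ring
  have hNA : ∀ x : G, x ∈ N → x • α ≠ β := by
    intro x hx e
    have h1 : y⁻¹ * x ∈ A := by
      rw [hA, MulAction.mem_stabilizer_iff, mul_smul, e, inv_smul_eq_iff, (hout y hyT hyD).1]
    have h2 := MonoidHom.mem_ker.1 (hAN h1)
    rw [map_mul, map_inv, MonoidHom.mem_ker.1 hx, hεy] at h2
    exact absurd h2 (by decide)
  refine ⟨A.subgroupOf N, fun e => ?_, fun e => ?_, fun g hg => ?_⟩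
  · have := Finite.one_lt_card_iff_nontrivial.1 hD1
    obtain ⟨d, hd1⟩ := exists_ne (1 : ↥D)
    refine hd1 (Subtype.ext ?_)
    have hdA : (d : G) ∈ A := by rw [hA]; exact hDα _ d.2
    have hmem : (⟨d, hAN hdA⟩ : ↥N) ∈ A.subgroupOf N := Subgroup.mem_subgroupOf.2 hdA
    rw [e, Subgroup.mem_bot] at hmem
    exact congrArg (fun z : ↥N => (z : G)) hmem
  · have hle : N ≤ A := Subgroup.subgroupOf_eq_top.1 e
    have h := Subgroup.index_dvd_of_le hle
    rw [hAidx, hNidx] at h
    have h2 := Nat.le_of_dvd two_pos h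
    -- two points only, so `G` acts through a group of order two
    have hcard2 : Fintype.card Ω = 2 := by omega
    have huniv : ∀ w : Ω, w = α ∨ w = β := fun w => by
      have h3 : ({α, β} : Finset Ω) = Finset.univ :=
        Finset.eq_univ_of_card _ (by rw [Finset.card_pair hαβ, hcard2])
      have hw := Finset.mem_univ w
      rw [← h3] at hw
      simpa using hw
    have := Finite.one_lt_card_iff_nontrivial.1 hD1
    obtain ⟨d, hd1⟩ := exists_ne (1 : ↥D)
    refine hd1 (Subtype.ext (eq_of_smul_eq_smul (α := Ω) fun w => ?_))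
    rw [OneMemClass.coe_one, one_smul]
    rcases huniv w with rfl | rfl
    · exact hDα _ d.2
    · exact hDβ _ d.2
  · rw [Subgroup.eq_bot_iff_forall]
    rintro u ⟨hu1, hu2⟩
    by_contra hu
    have hgα : (g : G) • α ≠ α := fun h => hg (Subgroup.mem_subgroupOf.2 h)
    have hx1 : (u : G) • α = α := hu1
    have hx2 : (u : G) • ((g : G) • α) = (g : G) • α := by
      obtain ⟨v, hv, hveq⟩ := hu2
      have hvα : (v : G) • α = α := hv
      rw [← hveq]
      show ((g * v * g⁻¹ : ↥N) : G) • ((g : G) • α) = _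
      rw [Subgroup.coe_mul, Subgroup.coe_mul, Subgroup.coe_inv, ← mul_smul, inv_mul_cancel_right,
        mul_smul, hvα]
    -- an element of prime order fixing both points
    obtain ⟨p, hp, hpd⟩ := Nat.exists_prime_and_dvd (show orderOf u ≠ 1 from
      fun h => hu (orderOf_eq_one_iff.1 h))
    haveI := Fact.mk hp
    set x : ↥N := u ^ (orderOf u / p) with hx
    have hxo : orderOf x = p := orderOf_pow_orderOf_div (orderOf_pos u).ne' hpd
    have hfixpow : ∀ (w : Ω), (u : G) • w = w → (x : G) • w = w := fun w hw => by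
      rw [hx, Subgroup.coe_pow]
      exact MulAction.mem_stabilizer_iff.1 (pow_mem (MulAction.mem_stabilizer_iff.2 hw) _)
    have hxα := hfixpow _ hx1
    have hxg := hfixpow _ hx2
    have hxne : (x : G) ≠ 1 := fun h => by
      rw [show x = 1 from Subtype.ext h, orderOf_one] at hxo
      exact hp.ne_one hxo.symm
    have hfixset : ∀ w : Ω, (x : G) • w = w → w = α ∨ w = (g : G) • α := fun w hw => by
      by_contra! hne
      have hsub : ({α, (g : G) • α, w} : Finset Ω) ⊆ (MulAction.fixedBy Ω (x : G)).toFinset := by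
        intro z hz
        simp only [Finset.mem_insert, Finset.mem_singleton] at hz
        rw [Set.mem_toFinset, MulAction.mem_fixedBy]
        rcases hz with rfl | rfl | rfl <;> assumption
      have h3 := Finset.card_le_card hsub
      rw [← Set.ncard_eq_toFinset_card', ← Nat.card_coe_set_eq,
        Finset.card_insert_of_notMem (by simp [Ne.symm hgα, Ne.symm hne.1]),
        Finset.card_pair (Ne.symm hne.2)] at h3
      have := hfix _ hxne
      omega
    let X := Subgroup.zpowers x
    have hX : IsPGroup p ↥X := IsPGroup.of_card (n := 1) (by rw [Nat.card_zpowers, hxo, pow_one])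
    have hrelA : (A.subgroupOf N).index * 2 = Fintype.card Ω := by
      rw [← hNidx, ← hAidx, ← Subgroup.relIndex_mul_index hAN]; rfl
    have horb : ∀ w : Ω, Nat.card (MulAction.orbit ↥N w) = (MulAction.stabilizer ↥N w).index := fun w => by
      rw [Nat.card_congr (MulAction.orbitEquivQuotientStabilizer ↥N w), Subgroup.index_eq_card]
    have hcα : Nat.card (MulAction.orbit ↥N α) * 2 = Fintype.card Ω := by
      rw [horb, ← hrelA]; rfl
    have hcβ : Nat.card (MulAction.orbit ↥N β) = Nat.card (MulAction.orbit ↥N α) := by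
      refine Nat.card_congr ?_
      refine Equiv.subtypeEquiv (MulAction.toPerm y⁻¹) fun w => ?_
      constructor
      · rintro ⟨n, rfl⟩
        refine ⟨⟨y⁻¹ * n * y, by simpa using (inferInstance : N.Normal).conj_mem n n.2 y⁻¹⟩, ?_⟩
        show (y⁻¹ * (n : G) * y) • α = y⁻¹ • ((n : G) • β)
        rw [mul_smul, mul_smul, (hout y hyT hyD).1]
      · rintro ⟨n, hn⟩
        refine ⟨⟨y * n * y⁻¹, (inferInstance : N.Normal).conj_mem n n.2 y⟩, ?_⟩
        show (y * (n : G) * y⁻¹) • β = w
        have hn' : (n : G) • α = y⁻¹ • w := hn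
        rw [mul_smul, mul_smul, inv_smul_eq_iff.2 (hout y hyT hyD).1.symm, hn', smul_inv_smul]
    have hfix2' : Nat.card (MulAction.fixedPoints ↥X (MulAction.orbit ↥N α)) = 2 := by
      refine Nat.card_eq_two_iff.2 ⟨⟨⟨α, MulAction.mem_orbit_self α⟩, ?_⟩,
        ⟨⟨(g : G) • α, MulAction.mem_orbit α g⟩, ?_⟩, fun e => hgα ?_, ?_⟩
      · rintro ⟨m, hm⟩
        obtain ⟨i, rfl⟩ := Subgroup.mem_zpowers_iff.1 hm
        refine Subtype.ext ?_
        show ((x ^ i : ↥N) : G) • α = α
        rw [Subgroup.coe_zpow]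
        exact MulAction.mem_stabilizer_iff.1 (zpow_mem (MulAction.mem_stabilizer_iff.2 hxα) i)
      · rintro ⟨m, hm⟩
        obtain ⟨i, rfl⟩ := Subgroup.mem_zpowers_iff.1 hm
        refine Subtype.ext ?_
        show ((x ^ i : ↥N) : G) • ((g : G) • α) = (g : G) • α
        rw [Subgroup.coe_zpow]
        exact MulAction.mem_stabilizer_iff.1 (zpow_mem (MulAction.mem_stabilizer_iff.2 hxg) i)
      · exact (congrArg (fun z => ((z.1 : MulAction.orbit ↥N α) : Ω)) e).symm
      · refine Set.eq_univ_of_forall fun w => ?_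
        have hw := congrArg Subtype.val (w.2 ⟨x, Subgroup.mem_zpowers x⟩)
        rcases hfixset _ hw with e | e
        · exact Or.inl (Subtype.ext (Subtype.ext e))
        · exact Or.inr (Subtype.ext (Subtype.ext e))
    have hfix0 : Nat.card (MulAction.fixedPoints ↥X (MulAction.orbit ↥N β)) = 0 := by
      rw [Nat.card_eq_zero]
      refine Or.inl ⟨fun w => ?_⟩
      have hw := congrArg Subtype.val (w.2 ⟨x, Subgroup.mem_zpowers x⟩)
      obtain ⟨n, hn⟩ := w.1.2
      have hn' : (n : G) • β = (w.1 : Ω) := hn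
      rcases hfixset _ hw with e | e
      · refine hNA _ (inv_mem n.2) ?_
        rw [inv_smul_eq_iff, hn', e]
      · refine hNA _ (mul_mem (inv_mem n.2) g.2) ?_
        rw [mul_smul, inv_smul_eq_iff, hn', e]
    have m1 := hX.card_modEq_card_fixedPoints (MulAction.orbit ↥N α)
    have m2 := hX.card_modEq_card_fixedPoints (MulAction.orbit ↥N β)
    rw [hfix2'] at m1
    rw [hfix0, hcβ] at m2
    have h02 : 2 ≡ 0 [MOD p] := m1.symm.trans m2
    have hp2' : p = 2 := (Nat.prime_dvd_prime_iff_eq hp Nat.prime_two).1 (Nat.modEq_zero_iff_dvd.1 h02)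
    subst hp2'
    have h2d := Nat.modEq_zero_iff_dvd.1 m2
    obtain ⟨u', hu'⟩ := h4
    rw [hk, hu', show k * (4 * u') = 4 * (k * u') by ring] at hcα
    omega

end Frobenius

/-- Let G be a finite group acting faithfully and transitively on a finite set Ω with fixity 2 (every non-identity element fixes at most two points, and some fixes exactly two). Let α ∈ Ω and S a Sylow 2-subgroup of G. Then one of the following holds: the stabilizer S_α of α in S is trivial; S is dihedral or semidihedral and either |S_α| = 2 or |S : S_α| = 2; |S| ≥ 4, S has exactly one orbit of size 2 on Ω, every other S-orbit is regular, and G has a normal subgroup of index 2 or of index |S| which is a Frobenius group; or S ≤ G_α. -/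
theorem result {G : Type*} [Group G] [Finite G] {Ω : Type*} [Fintype Ω] [MulAction G Ω] [FaithfulSMul G Ω] (htr : MulAction.IsPretransitive G Ω)
    (hfix : ∀ g : G, g ≠ 1 → Nat.card (MulAction.fixedBy Ω g) ≤ 2) (hex : ∃ g : G, g ≠ 1 ∧ Nat.card (MulAction.fixedBy Ω g) = 2) (α : Ω) (S : Sylow 2 G) :
    (S : Subgroup G) ⊓ MulAction.stabilizer G α = ⊥ ∨
    (((∃ n : ℕ, Nonempty (↥(S : Subgroup G) ≃* DihedralGroup n)) ∨ Cfsg.IsQuasiDihedral ↥(S : Subgroup G)) ∧
       (Nat.card ↥((S : Subgroup G) ⊓ MulAction.stabilizer G α) = 2 ∨ ((S : Subgroup G) ⊓ MulAction.stabilizer G α).relIndex (S : Subgroup G) = 2)) ∨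
    (4 ≤ Nat.card (S : Subgroup G) ∧
       (∃ ω : Ω, Nat.card (MulAction.orbit ↥(S : Subgroup G) ω) = 2 ∧
          ∀ ω' : Ω, ω' ∉ MulAction.orbit ↥(S : Subgroup G) ω → Nat.card (MulAction.orbit ↥(S : Subgroup G) ω') = Nat.card (S : Subgroup G)) ∧
       ∃ N : Subgroup G, N.Normal ∧ (N.index = 2 ∨ N.index = Nat.card (S : Subgroup G)) ∧ (∃ H : Subgroup ↥N, Cfsg.IsFrobeniusComplement H)) ∨
    (S : Subgroup G) ≤ MulAction.stabilizer G α := by
  classical
  set T : Subgroup G := (S : Subgroup G) with hTdef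
  set D : Subgroup G := T ⊓ MulAction.stabilizer G α with hDdef
  by_cases hD : D = ⊥
  · exact Or.inl hD
  by_cases hST : T ≤ MulAction.stabilizer G α
  · exact Or.inr (Or.inr (Or.inr hST))
  have memD : ∀ {x : G}, x ∈ D ↔ x ∈ T ∧ x • α = α := fun {x} => Iff.rfl
  have hp2 : IsPGroup 2 ↥T := S.2
  -- an element of `S` outside `D` normalising `D`
  obtain ⟨g, hgT, hgD, hgN⟩ : ∃ g : G, g ∈ T ∧ g ∉ D ∧ ∀ x ∈ D, g⁻¹ * x * g ∈ D := by
    have hne : D.subgroupOf T < ⊤ := lt_top_iff_ne_top.2 fun h =>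
      hST ((Subgroup.subgroupOf_eq_top.1 h).trans inf_le_right)
    have hlt := hp2.isNilpotent
    obtain ⟨n, hn, hnD⟩ := SetLike.exists_of_lt
      (Group.normalizerCondition_of_isNilpotent _ hne)
    refine ⟨n, n.2, fun h => hnD (Subgroup.mem_subgroupOf.2 h), fun x hx => ?_⟩
    have := (Subgroup.mem_normalizer_iff.1 (inv_mem hn) ⟨x, (memD.1 hx).1⟩).1 (Subgroup.mem_subgroupOf.2 hx)
    simpa [Subgroup.mem_subgroupOf] using this
  set β := g • α with hβ
  have hαβ : β ≠ α := fun h => hgD (memD.2 ⟨hgT, h⟩)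
  have hfix2 : ∀ {x : G}, x ≠ 1 → ∀ {a b : Ω}, x • a = a → x • b = b → a ≠ b →
      ∀ c : Ω, x • c = c → c = a ∨ c = b := by
    intro x hx a b ha hb hab c hc
    by_contra! hne
    have h3 : ({a, b, c} : Finset Ω).card = 3 := by
      rw [Finset.card_insert_of_notMem, Finset.card_pair]
      · exact fun h => hne.2 h.symm
      · simp only [Finset.mem_insert, Finset.mem_singleton, not_or]
        exact ⟨hab, fun h => hne.1 h.symm⟩
    have hsub : ({a, b, c} : Finset Ω) ⊆ (MulAction.fixedBy Ω x).toFinset := by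
      intro w hw
      simp only [Finset.mem_insert, Finset.mem_singleton] at hw
      rw [Set.mem_toFinset, MulAction.mem_fixedBy]
      rcases hw with rfl | rfl | rfl <;> assumption
    have h4 := Finset.card_le_card hsub
    rw [← Set.ncard_eq_toFinset_card', ← Nat.card_coe_set_eq] at h4
    have := hfix x hx
    omega
  have hDβ : ∀ x ∈ D, x • β = β := fun x hx => by
    have h := (memD.1 (hgN x hx)).2
    rw [mul_smul, mul_smul, inv_smul_eq_iff] at h
    exact h
  obtain ⟨d₀, hd₀, hd₀1⟩ := (Subgroup.ne_bot_iff_exists_ne_one.1 hD).elim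
    fun x h => (⟨x.1, x.2, fun e => h (Subtype.ext e)⟩ : ∃ d ∈ D, d ≠ 1)
  have hDfix : ∀ x ∈ D, x ≠ 1 → ∀ c : Ω, x • c = c → c = α ∨ c = β := fun x hx hx1 c hc =>
    hfix2 hx1 (memD.1 hx).2 (hDβ x hx) hαβ.symm c hc
  -- an involution of `D` which commutes with `g`-free arguments
  have hcomm_fix : ∀ {x c : G}, c * x = x * c → x • α = α → x • (c • α) = c • α := by
    intro x c hc hx
    rw [← mul_smul, ← hc, mul_smul, hx]
  by_cases hB : ∃ h ∈ T, h • α ≠ α ∧ h • α ≠ β
  · -- `S` moves the pair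
    obtain ⟨h₀, hh₀, hh₀α, hh₀β⟩ := hB
    refine Or.inr (Or.inl ?_)
    have hntT : Nontrivial ↥T := ⟨⟨⟨d₀, (memD.1 hd₀).1⟩, 1, fun e => hd₀1 (congrArg Subtype.val e)⟩⟩
    obtain ⟨z, hz⟩ : ∃ z : ↥T, z ∈ Subgroup.center ↥T ∧ orderOf z = 2 := by
      have := hp2.center_nontrivial
      obtain ⟨z, hz⟩ := exists_prime_orderOf_dvd_card' 2 (G := ↥(Subgroup.center ↥T))
        ((hp2.to_subgroup _).card_eq_or_dvd.resolve_left (Finite.one_lt_card.ne'))
      exact ⟨z.1, z.2, by rw [Subgroup.orderOf_coe]; exact hz⟩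
    have hz2 : z * z = 1 := by rw [← pow_two, ← hz.2]; exact pow_orderOf_eq_one z
    have hzc : ∀ x ∈ T, (z : G) * x = x * z := fun x hx =>
      congrArg Subtype.val (Subgroup.mem_center_iff.1 hz.1 ⟨x, hx⟩).symm
    have hz1 : (z : G) ≠ 1 := fun e => by
      have : orderOf z = 1 := orderOf_eq_one_iff.2 (Subtype.ext e)
      omega
    have hzD : (z : G) ∉ D := by
      intro hzD
      rcases hDfix _ hzD hz1 _ (hcomm_fix (hzc h₀ hh₀).symm (memD.1 hzD).2) with e | e
      · exact hh₀α e
      · exact hh₀β e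
    have hzα : (z : G) • α = β := by
      rcases hDfix d₀ hd₀ hd₀1 _ (hcomm_fix (hzc d₀ (memD.1 hd₀).1) (memD.1 hd₀).2) with e | e
      · exact absurd (memD.2 ⟨z.2, e⟩) hzD
      · exact e
    -- the stabiliser in `S` of the pair
    have hM2 : ∀ x ∈ T, x • α = β → x • β = α := by
      intro x hx hxα
      have hxz : (z : G) * x ∈ D := memD.2 ⟨mul_mem z.2 hx, by
        rw [mul_smul, hxα, ← hzα, ← mul_smul, show (z : G) * z = 1 from congrArg Subtype.val hz2, one_smul]⟩
      have h1 := hDβ _ hxz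
      rw [mul_smul, ← eq_inv_smul_iff] at h1
      rw [h1, show (z : G)⁻¹ = z from inv_eq_of_mul_eq_one_right (congrArg Subtype.val hz2), ← hzα,
        ← mul_smul, show (z : G) * z = 1 from congrArg Subtype.val hz2, one_smul]
    let M : Subgroup G :=
      { carrier := {x | x ∈ T ∧ (x • α = α ∨ x • α = β)}
        one_mem' := ⟨one_mem _, Or.inl (one_smul _ _)⟩
        mul_mem' := by
          rintro a b ⟨ha, ha'⟩ ⟨hb, hb'⟩
          refine ⟨mul_mem ha hb, ?_⟩
          rcases hb' with hb' | hb'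
          · rw [mul_smul, hb']; exact ha'
          · rw [mul_smul, hb']
            rcases ha' with ha' | ha'
            · exact Or.inr (hDβ a (memD.2 ⟨ha, ha'⟩))
            · exact Or.inl (hM2 a ha ha')
        inv_mem' := by
          rintro a ⟨ha, ha'⟩
          refine ⟨inv_mem ha, ?_⟩
          rcases ha' with ha' | ha'
          · exact Or.inl (inv_smul_eq_iff.2 ha'.symm)
          · exact Or.inr (inv_smul_eq_iff.2 (hM2 a ha ha').symm) }
    -- an element normalising `M` outside `M`
    obtain ⟨h, hhT, hhM, hhN⟩ : ∃ h : G, h ∈ T ∧ h ∉ M ∧ ∀ x ∈ M, h * x * h⁻¹ ∈ M := by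
      have hne : M.subgroupOf T < ⊤ := lt_top_iff_ne_top.2 fun e =>
        (Subgroup.subgroupOf_eq_top.1 e hh₀).2.elim hh₀α hh₀β
      have hlt := hp2.isNilpotent
      obtain ⟨n, hn, hnM⟩ := SetLike.exists_of_lt (Group.normalizerCondition_of_isNilpotent _ hne)
      refine ⟨n, n.2, fun e => hnM (Subgroup.mem_subgroupOf.2 e), fun x hx => ?_⟩
      have := (Subgroup.mem_normalizer_iff.1 hn ⟨x, hx.1⟩).1 (Subgroup.mem_subgroupOf.2 hx)
      simpa [Subgroup.mem_subgroupOf] using this
    have hhα : h • α ≠ α := fun e => hhM ⟨hhT, Or.inl e⟩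
    have hhβ : h • α ≠ β := fun e => hhM ⟨hhT, Or.inr e⟩
    have hconj : ∀ x ∈ D, h * x * h⁻¹ ∈ D → x = 1 := fun x hx hx' => by
      by_contra hx1
      have h1 : (h * x * h⁻¹) • (h • α) = h • α := by
        rw [← mul_smul, inv_mul_cancel_right, mul_smul, (memD.1 hx).2]
      rcases hDfix _ hx' (fun e => hx1 (conj_eq_one_iff.1 e)) _ h1 with e | e
      · exact hhα e
      · exact hhβ e
    have hswap : ∀ x ∈ D, x ≠ 1 → (h * x * h⁻¹) • α = β := fun x hx hx1 => by
      rcases (hhN x ⟨(memD.1 hx).1, Or.inl (memD.1 hx).2⟩).2 with e | e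
      · exact absurd (hconj x hx (memD.2 ⟨(hhN x ⟨(memD.1 hx).1, Or.inl (memD.1 hx).2⟩).1, e⟩)) hx1
      · exact e
    have hDone : ∀ x ∈ D, x ≠ 1 → x = d₀ := fun x hx hx1 => by
      refine inv_mul_eq_one.1 (hconj _ (mul_mem (inv_mem hx) hd₀) ?_)
      have hmem := hhN (x⁻¹ * d₀) ⟨(memD.1 (mul_mem (inv_mem hx) hd₀)).1,
        Or.inl (memD.1 (mul_mem (inv_mem hx) hd₀)).2⟩
      refine memD.2 ⟨hmem.1, ?_⟩
      rw [show h * (x⁻¹ * d₀) * h⁻¹ = (h * x * h⁻¹)⁻¹ * (h * d₀ * h⁻¹) by group, mul_smul,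
        hswap d₀ hd₀ hd₀1, inv_smul_eq_iff, hswap x hx hx1]
    have hD2 : Nat.card ↥D = 2 := by
      rw [Nat.card_eq_two_iff' (1 : ↥D)]
      exact ⟨⟨d₀, hd₀⟩, fun e => hd₀1 (congrArg Subtype.val e),
        fun y hy => Subtype.ext (hDone y y.2 fun e => hy (Subtype.ext e))⟩
    have hd₀2 : d₀ * d₀ = 1 := by
      by_contra e
      exact hd₀1 (mul_eq_left.1 (hDone _ (mul_mem hd₀ hd₀) e))
    refine ⟨?_, Or.inl hD2⟩
    let d : ↥T := ⟨d₀, (memD.1 hd₀).1⟩
    refine dihedral_or_qd hp2 (x := d) (z := z) (fun e => hd₀1 (congrArg Subtype.val e))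
      (Subtype.ext hd₀2) (fun e => hz1 (congrArg Subtype.val e)) hz2
      (fun e => hzD ((congrArg Subtype.val e).symm ▸ hd₀)) ?_
    let f : ↥(Subgroup.centralizer ({d} : Set ↥T)) → Bool × Bool := fun c =>
      (decide ((c : ↥T) = 1 ∨ (c : ↥T) = d), decide ((c : ↥T) = 1 ∨ (c : ↥T) = z))
    have hcases : ∀ c : ↥T, c * d = d * c → c = 1 ∨ c = d ∨ c = z ∨ c = z * d := by
      intro c hc
      rcases hDfix d₀ hd₀ hd₀1 _ (hcomm_fix (congrArg Subtype.val hc) (memD.1 hd₀).2) with e | e
      · by_cases hc1 : (c : G) = 1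
        · exact Or.inl (Subtype.ext hc1)
        · exact Or.inr (Or.inl (Subtype.ext (hDone _ (memD.2 ⟨c.2, e⟩) hc1)))
      · have hzc' : (z : G) * c ∈ D := memD.2 ⟨mul_mem z.2 c.2, by
          rw [mul_smul, e, ← hzα, ← mul_smul, show (z : G) * z = 1 from congrArg Subtype.val hz2, one_smul]⟩
        by_cases hc1 : (z : G) * c = 1
        · exact Or.inr (Or.inr (Or.inl (mul_left_cancel (a := z) ((Subtype.ext hc1 : z * c = 1).trans hz2.symm))))
        · refine Or.inr (Or.inr (Or.inr ?_))
          have : z * c = d := Subtype.ext (hDone _ hzc' hc1)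
          rw [← this, ← mul_assoc, hz2, one_mul]
    have hle : Nat.card ↥(Subgroup.centralizer ({d} : Set ↥T)) ≤ 4 := by
      have hsub : ((Subgroup.centralizer ({d} : Set ↥T) : Subgroup ↥T) : Set ↥T) ⊆
          ↑({1, d, z, z * d} : Finset ↥T) := by
        intro c hc
        have := hcases c (Subgroup.mem_centralizer_singleton_iff.1 hc)
        simpa using this
      have h1 := Set.ncard_le_ncard hsub (Finset.finite_toSet _)
      rw [Set.ncard_coe_finset] at h1
      rw [← SetLike.coe_sort_coe, Nat.card_coe_set_eq]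
      exact h1.trans ((Finset.card_insert_le _ _).trans (Nat.succ_le_succ ((Finset.card_insert_le _ _).trans
        (Nat.succ_le_succ ((Finset.card_insert_le _ _).trans (Nat.succ_le_succ (le_of_eq (Finset.card_singleton _))))))))
    have h3 : ({1, d, z} : Set ↥T) ⊆ (Subgroup.centralizer ({d} : Set ↥T) : Subgroup ↥T) := by
      intro c hc
      simp only [Set.mem_insert_iff, Set.mem_singleton_iff] at hc
      rw [SetLike.mem_coe, Subgroup.mem_centralizer_singleton_iff]
      rcases hc with rfl | rfl | rfl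
      · rw [one_mul, mul_one]
      · rfl
      · exact Subtype.ext (hzc _ d.2)
    have h3' : ({1, d, z} : Set ↥T).ncard = 3 := by
      rw [Set.ncard_insert_of_notMem ?_ (Set.toFinite _), Set.ncard_pair]
      · exact fun e => hzD ((congrArg Subtype.val e) ▸ hd₀)
      · simp only [Set.mem_insert_iff, Set.mem_singleton_iff, not_or]
        exact ⟨fun e => hd₀1 (congrArg Subtype.val e).symm, fun e => hz1 (congrArg Subtype.val e).symm⟩
    have h4 := Set.ncard_le_ncard h3 (Set.toFinite _)
    rw [h3', ← Nat.card_coe_set_eq, SetLike.coe_sort_coe] at h4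
    obtain ⟨n, hn⟩ := (hp2.to_subgroup (Subgroup.centralizer ({d} : Set ↥T))).exists_card_eq
    rw [hn] at h4 hle ⊢
    have hn2 : 2 ≤ n := by
      by_contra hlt
      have := Nat.pow_le_pow_right (show 2 > 0 by norm_num) (show n ≤ 1 by omega)
      omega
    have := Nat.pow_le_pow_right (show 2 > 0 by norm_num) hn2
    omega
  -- `S` fixes the pair
  push Not at hB
  have hpair : ∀ x ∈ T, x • α = α ∨ x • α = β := fun x hx => by
    by_cases e : x • α = α
    · exact Or.inl e
    · exact Or.inr (hB x hx e)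
  have hrel : D.relIndex T = 2 := by
    refine Subgroup.index_eq_two_iff.2 ⟨⟨g, hgT⟩, fun b => ?_⟩
    rcases hpair b b.2 with e | e
    · refine Or.inr ⟨Subgroup.mem_subgroupOf.2 (memD.2 ⟨b.2, e⟩), fun h => ?_⟩
      have := (memD.1 (Subgroup.mem_subgroupOf.1 h)).2
      rcases hpair (b * g⁻¹ * g⁻¹) (mul_mem (mul_mem b.2 (inv_mem hgT)) (inv_mem hgT)) with _ | _
      all_goals
        have hmem : g ∈ D := by
          have h1 : (b : G) * g ∈ D := Subgroup.mem_subgroupOf.1 h
          simpa using mul_mem (inv_mem (memD.2 ⟨b.2, e⟩ : (b : G) ∈ D)) h1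
        exact hgD hmem
    · by_cases hbg : (b : G) * g ∈ D
      · exact Or.inl ⟨Subgroup.mem_subgroupOf.2 hbg, fun h =>
          hαβ (e.symm.trans (memD.1 (Subgroup.mem_subgroupOf.1 h)).2)⟩
      · exfalso
        refine hbg (memD.2 ⟨mul_mem b.2 hgT, ?_⟩)
        rw [mul_smul, ← hβ]
        rcases hpair (b * g) (mul_mem b.2 hgT) with e' | e'
        · rwa [mul_smul, ← hβ] at e'
        · rw [mul_smul, ← hβ] at e'
          exact absurd (smul_left_cancel _ (e'.trans e.symm)) hαβ
  have hout : ∀ x ∈ T, x ∉ D → x • α = β ∧ x • β = α := by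
    intro x hx hxD
    have hxα : x • α = β := (hpair x hx).resolve_left fun e => hxD (memD.2 ⟨hx, e⟩)
    refine ⟨hxα, ?_⟩
    have hgα : g⁻¹ * x ∈ D := memD.2 ⟨mul_mem (inv_mem hgT) hx, by rw [mul_smul, hxα, inv_smul_eq_iff]⟩
    have hgg : g • β = α := by
      rcases hpair (g * g) (mul_mem hgT hgT) with e | e
      · rwa [mul_smul] at e
      · exfalso
        rw [mul_smul, ← hβ] at e
        exact hαβ (smul_left_cancel g (e.trans hβ))
    have h1 := hDβ _ hgα
    rw [mul_smul, inv_smul_eq_iff] at h1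
    rw [h1, hgg]
  have hcardS : Nat.card ↥T = 2 * Nat.card ↥D := by
    have h := (D.subgroupOf T).card_mul_index
    rw [Nat.card_congr (Subgroup.subgroupOfEquivOfLe (inf_le_left : D ≤ T)).toEquiv] at h
    rw [← h, mul_comm]
    exact congrArg (· * _) hrel
  have hD1 : 2 ≤ Nat.card ↥D :=
    Finite.one_lt_card_iff_nontrivial.2 ⟨⟨⟨d₀, hd₀⟩, 1, fun e => hd₀1 (congrArg Subtype.val e)⟩⟩
  by_cases hfree : ∃ y ∈ T, y ∉ D ∧ ∃ ω : Ω, y • ω = ω
  · -- an involution outside `D` with fixed points
    obtain ⟨y, hyT, hyD, ω, hω⟩ := hfree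
    refine Or.inr (Or.inl ⟨?_, Or.inr hrel⟩)
    have hωα : ω ≠ α := fun e => hyD (memD.2 ⟨hyT, e ▸ hω⟩)
    have hωβ : ω ≠ β := fun e => hαβ (by
      have h := hω
      rw [e, (hout y hyT hyD).2] at h
      exact h.symm)
    have hDfree : ∀ x ∈ D, x • ω = ω → x = 1 := fun x hx hxω => by
      by_contra hx1
      rcases hDfix x hx hx1 ω hxω with e | e
      · exact hωα e
      · exact hωβ e
    have hsame : ∀ a ∈ T, a • ω = ω → a ∉ D → a = y := fun a ha haω haD => by
      refine (inv_mul_eq_one.1 (hDfree _ (memD.2 ⟨mul_mem (inv_mem ha) hyT, ?_⟩) ?_))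
      · rw [mul_smul, (hout y hyT hyD).1, inv_smul_eq_iff, (hout a ha haD).1]
      · rw [mul_smul, hω, inv_smul_eq_iff, haω]
    have hy1 : y ≠ 1 := fun e => hyD (e ▸ one_mem _)
    have hy2 : y * y = 1 := by
      refine hDfree _ (memD.2 ⟨mul_mem hyT hyT, ?_⟩) (by rw [mul_smul, hω, hω])
      rw [mul_smul, (hout y hyT hyD).1, (hout y hyT hyD).2]
    obtain ⟨z, hzC, hzD, hz1, hz2⟩ : ∃ z : ↥T, z ∈ Subgroup.center ↥T ∧ (z : G) ∈ D ∧ z ≠ 1 ∧ z * z = 1 := by
      have := hp2.isNilpotent
      have hN : (D.subgroupOf T).Normal := Subgroup.normal_of_index_eq_two hrel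
      have hne : D.subgroupOf T ≠ ⊥ := fun e => hd₀1 (by
        have h1 : (⟨d₀, (memD.1 hd₀).1⟩ : ↥T) ∈ D.subgroupOf T := Subgroup.mem_subgroupOf.2 hd₀
        rw [e, Subgroup.mem_bot] at h1
        exact congrArg Subtype.val h1)
      have hZ : Subgroup.center ↥T ⊓ D.subgroupOf T ≠ ⊥ := by
        rw [inf_comm]; exact Core.inf_center_ne_bot hne
      have hdiv : 2 ∣ Nat.card ↥(Subgroup.center ↥T ⊓ D.subgroupOf T) := by
        refine (hp2.to_subgroup _).card_eq_or_dvd.resolve_left fun e => hZ (Subgroup.card_eq_one.1 e)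
      obtain ⟨z, hz⟩ := exists_prime_orderOf_dvd_card' 2 hdiv
      refine ⟨z.1, z.2.1, Subgroup.mem_subgroupOf.1 z.2.2, fun e => ?_, ?_⟩
      · have h1 : z = 1 := Subtype.ext e
        rw [h1, orderOf_one] at hz
        omega
      · have := pow_orderOf_eq_one z
        rw [hz, pow_two] at this
        exact congrArg Subtype.val this
    let y' : ↥T := ⟨y, hyT⟩
    refine dihedral_or_qd hp2 (x := y') (z := z) (fun e => hy1 (congrArg Subtype.val e))
      (Subtype.ext hy2) hz1 hz2 (fun e => hyD (by rw [show y = (z : G) from (congrArg Subtype.val e).symm]; exact hzD)) ?_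
    have hzy : (z : G) * y = y * z := congrArg Subtype.val (Subgroup.mem_center_iff.1 hzC y').symm
    have hzωne : (z : G) • ω ≠ ω := fun e => hz1 (Subtype.ext (hDfree _ hzD e))
    have hzω : y • ((z : G) • ω) = (z : G) • ω := by rw [← mul_smul, ← hzy, mul_smul, hω]
    have hcases : ∀ c : ↥T, c * y' = y' * c → c = 1 ∨ c = y' ∨ c = z ∨ c = z * y' := by
      intro c hc
      have hcω : y • ((c : G) • ω) = (c : G) • ω := by
        rw [← mul_smul, show y * (c : G) = (c : G) * y from (congrArg Subtype.val hc).symm, mul_smul, hω]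
      have key : ∀ e : ↥T, (e : G) • ω = ω → e = 1 ∨ e = y' := fun e he => by
        by_cases heD : (e : G) ∈ D
        · exact Or.inl (Subtype.ext (hDfree _ heD he))
        · exact Or.inr (Subtype.ext (hsame _ e.2 he heD))
      rcases hfix2 hy1 hω hzω hzωne.symm _ hcω with e | e
      · rcases key c e with h | h
        · exact Or.inl h
        · exact Or.inr (Or.inl h)
      · rcases key (z * c) (by
          show ((z : G) * c) • ω = ω
          rw [mul_smul, e, ← mul_smul, show (z : G) * z = 1 from congrArg Subtype.val hz2, one_smul]) with h | h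
        · exact Or.inr (Or.inr (Or.inl (mul_left_cancel (a := z) (h.trans hz2.symm))))
        · exact Or.inr (Or.inr (Or.inr (by rw [← h, ← mul_assoc, hz2, one_mul])))
    have hle : Nat.card ↥(Subgroup.centralizer ({y'} : Set ↥T)) ≤ 4 := by
      have hsub : ((Subgroup.centralizer ({y'} : Set ↥T) : Subgroup ↥T) : Set ↥T) ⊆
          ↑({1, y', z, z * y'} : Finset ↥T) := by
        intro c hc
        have := hcases c (Subgroup.mem_centralizer_singleton_iff.1 hc)
        simpa using this
      have h1 := Set.ncard_le_ncard hsub (Finset.finite_toSet _)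
      rw [Set.ncard_coe_finset] at h1
      rw [← SetLike.coe_sort_coe, Nat.card_coe_set_eq]
      exact h1.trans ((Finset.card_insert_le _ _).trans (Nat.succ_le_succ ((Finset.card_insert_le _ _).trans
        (Nat.succ_le_succ ((Finset.card_insert_le _ _).trans (Nat.succ_le_succ (le_of_eq (Finset.card_singleton _))))))))
    have h3 : ({1, y', z} : Set ↥T) ⊆ (Subgroup.centralizer ({y'} : Set ↥T) : Subgroup ↥T) := by
      intro c hc
      simp only [Set.mem_insert_iff, Set.mem_singleton_iff] at hc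
      rw [SetLike.mem_coe, Subgroup.mem_centralizer_singleton_iff]
      rcases hc with rfl | rfl | rfl
      · rw [one_mul, mul_one]
      · rfl
      · exact Subtype.ext hzy
    have h3' : ({1, y', z} : Set ↥T).ncard = 3 := by
      rw [Set.ncard_insert_of_notMem ?_ (Set.toFinite _), Set.ncard_pair]
      · exact fun e => hyD (by rw [show y = (z : G) from congrArg Subtype.val e]; exact hzD)
      · simp only [Set.mem_insert_iff, Set.mem_singleton_iff, not_or]
        exact ⟨fun e => hy1 (congrArg Subtype.val e).symm, fun e => hz1 e.symm⟩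
    have h4 := Set.ncard_le_ncard h3 (Set.toFinite _)
    rw [h3', ← Nat.card_coe_set_eq, SetLike.coe_sort_coe] at h4
    obtain ⟨n, hn⟩ := (hp2.to_subgroup (Subgroup.centralizer ({y'} : Set ↥T))).exists_card_eq
    rw [hn] at h4 hle ⊢
    have hn2 : 2 ≤ n := by
      by_contra hlt
      have := Nat.pow_le_pow_right (show 2 > 0 by norm_num) (show n ≤ 1 by omega)
      omega
    have := Nat.pow_le_pow_right (show 2 > 0 by norm_num) hn2
    omega
  -- one short orbit, all others regular
  push Not at hfree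
  refine Or.inr (Or.inr (Or.inl ⟨by omega, ?_, ?_⟩))
  · refine ⟨α, ?_, fun w hw => ?_⟩
    · rw [Nat.card_congr (MulAction.orbitEquivQuotientStabilizer ↥T α), ← Subgroup.index_eq_card]
      have : MulAction.stabilizer ↥T α = D.subgroupOf T := by
        ext x
        simp only [MulAction.mem_stabilizer_iff, Subgroup.mem_subgroupOf]
        exact ⟨fun h => memD.2 ⟨x.2, h⟩, fun h => (memD.1 h).2⟩
      rw [this]; exact hrel
    · rw [Nat.card_congr (MulAction.orbitEquivQuotientStabilizer ↥T w), ← Subgroup.index_eq_card]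
      have : MulAction.stabilizer ↥T w = ⊥ := by
        rw [Subgroup.eq_bot_iff_forall]
        intro x hx
        have hxw : (x : G) • w = w := hx
        by_cases hxD : (x : G) ∈ D
        · by_contra hx1
          rcases hDfix _ hxD (fun e => hx1 (Subtype.ext e)) w hxw with e | e
          · exact hw (by rw [e]; exact MulAction.mem_orbit_self α)
          · exact hw (by rw [e]; exact MulAction.mem_orbit α (⟨g, hgT⟩ : ↥T))
        · exact absurd hxw (hfree _ x.2 hxD w)
      rw [this, Subgroup.index_bot]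
  · exact exists_frobenius hfix α β hαβ.symm T D rfl (fun x hx => hDβ x hx) hDfix hout hfree hrel hcardS
      hD1 S rfl

end Cfsg.Agent.S3390
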