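import Cfsg.Statements.S3391
import Cfsg.Agent.Suzuki.Fixity
-- import your own Cfsg.Agent.* helpers here

set_option autoImplicit false
open Cfsg
open Cfsg.Agent

namespace Cfsg.Agent.S3391

/-- Let q = 2^{2m+1} ≥ 8 and let G be isomorphic to the Suzuki group Sz(q). If G acts faithfully and transitively on a finite set Ω with fixity 2 (every non-identity element fixes at most two points, and some fixes exactly two), then either |Ω| = q² + 1 and the action is 2-transitive, or |Ω| = q²(q² + 1) and the point stabilizers have order q − 1. -/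
theorem result {G : Type*} [Group G] [Finite G] (F : Type) [Field F] [Fintype F] (m : ℕ) (hm : 1 ≤ m) (hF : Fintype.card F = 2 ^ (2 * m + 1))
    (e : G ≃* ↥(Cfsg.Lie.Sz F (2 ^ (m + 1)))) {Ω : Type*} [Fintype Ω] [MulAction G Ω] [FaithfulSMul G Ω] (htr : MulAction.IsPretransitive G Ω)
    (hfix : ∀ g : G, g ≠ 1 → Nat.card (MulAction.fixedBy Ω g) ≤ 2) (hex : ∃ g : G, g ≠ 1 ∧ Nat.card (MulAction.fixedBy Ω g) = 2) :
    (Fintype.card Ω = Fintype.card F ^ 2 + 1 ∧ MulAction.IsMultiplyPretransitive G Ω 2) ∨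
    (Fintype.card Ω = Fintype.card F ^ 2 * (Fintype.card F ^ 2 + 1) ∧ ∀ α : Ω, Nat.card (MulAction.stabilizer G α) = Fintype.card F - 1) := by
  obtain ⟨e0⟩ := Suzuki.nonempty_equiv (F := F) hm hF
  let ψ : ↥(Cfsg.Sz F m) ≃* G := e0.trans e.symm
  letI : MulAction ↥(Cfsg.Sz F m) Ω := MulAction.compHom Ω ψ.toMonoidHom
  have hsmul : ∀ (g : ↥(Cfsg.Sz F m)) (x : Ω), g • x = ψ g • x := fun _ _ => rfl
  have hfb : ∀ g : ↥(Cfsg.Sz F m), MulAction.fixedBy Ω g = MulAction.fixedBy Ω (ψ g) := fun _ => rfl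
  have hpt : MulAction.IsPretransitive ↥(Cfsg.Sz F m) Ω := ⟨fun x y => by
    obtain ⟨g, hg⟩ := htr.exists_smul_eq x y
    exact ⟨ψ.symm g, by rw [hsmul, ψ.apply_symm_apply, hg]⟩⟩
  have hfix' : ∀ g : ↥(Cfsg.Sz F m), g ≠ 1 → Nat.card (MulAction.fixedBy Ω g) ≤ 2 := fun g hg => by
    rw [hfb]
    exact hfix _ (fun h => hg (ψ.map_eq_one_iff.mp h))
  obtain ⟨g, hg1, hg2⟩ := hex
  rcases Suzuki.fixity_two hm hF hfix' ⟨ψ.symm g, fun h => hg1 (ψ.symm.map_eq_one_iff.mp h),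
    by rw [hfb, ψ.apply_symm_apply]; exact hg2⟩ with ⟨h1, h2⟩ | ⟨h1, h2⟩
  · refine Or.inl ⟨h1, MulAction.is_two_pretransitive_iff.mpr fun {a b c d} hab hcd => ?_⟩
    obtain ⟨k, hk1, hk2⟩ := MulAction.is_two_pretransitive_iff.mp h2 hab hcd
    exact ⟨ψ k, hk1, hk2⟩
  · refine Or.inr ⟨h1, fun α => ?_⟩
    rw [← h2 α]
    exact (Nat.card_congr (ψ.toEquiv.subtypeEquiv fun g => Iff.rfl)).symm

end Cfsg.Agent.S3391
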