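import Cfsg.Statements.S3401
import Cfsg.Agent.Fg24.TwoModFour.Swap

set_option autoImplicit false
open Cfsg

namespace Cfsg.Agent.S3401

open MulAction Cfsg.Agent.Fg24.TwoModFour

/-- In a group where normal subgroups acting nontrivially are transitive and none of them is regular
of degree `2 (mod 4)`, the centralizer of a nontrivial normal subgroup is trivial. -/
theorem centralizer_eq_bot {X Ω : Type*} [Group X] [Finite X] [Fintype Ω] [MulAction X Ω]
    [FaithfulSMul X Ω] (hn : Fintype.card Ω % 4 = 2) (h2 : 2 < Fintype.card Ω)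
    (htr : ∀ K : Subgroup X, K.Normal → (∃ k ∈ K, ∃ w : Ω, k • w ≠ w) → IsPretransitive K Ω)
    (N : Subgroup X) [N.Normal] (hN : N ≠ ⊥) : Subgroup.centralizer (N : Set X) = ⊥ := by
  have hnt : ∀ K : Subgroup X, K ≠ ⊥ → ∃ k ∈ K, ∃ w : Ω, k • w ≠ w := by
    intro K hK
    by_contra h
    push_neg at h
    exact hK ((Subgroup.eq_bot_iff_forall _).2 fun k hk =>
      eq_of_smul_eq_smul (α := Ω) fun w => by rw [h k hk w, one_smul])
  by_contra hC
  have hNt := htr N inferInstance (hnt N hN)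
  have hCt := htr _ inferInstance (hnt _ hC)
  refine no_regular N hn h2 htr hNt fun g hg w hgw => ?_
  refine eq_of_smul_eq_smul (α := Ω) fun v => ?_
  obtain ⟨c, hc⟩ := hCt.exists_smul_eq w v
  have hcg : (c : X) * g = g * c := (Subgroup.mem_centralizer_iff.1 c.2 g hg).symm
  have hc' : (c : X) • w = v := hc
  rw [one_smul, ← hc', ← mul_smul, ← hcg, mul_smul, hgw]

/-- Let G be a doubly transitive permutation group on a finite set Ω with |Ω| ≡ 2 mod 4 and |Ω| > 2. Then G has a unique minimal normal subgroup M (a nontrivial normal subgroup contained in every nontrivial normal subgroup); M is simple and doubly transitive on Ω, and its centralizer in G is trivial (so G embeds in Aut(M)). -/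
theorem result {G : Type*} [Group G] [Finite G] {Ω : Type*} [Fintype Ω] [MulAction G Ω] [FaithfulSMul G Ω]
    (h2 : MulAction.IsMultiplyPretransitive G Ω 2) (hn : Fintype.card Ω % 4 = 2) (hn2 : 2 < Fintype.card Ω) :
    ∃ M : Subgroup G, M.Normal ∧ M ≠ ⊥ ∧ (∀ N : Subgroup G, N.Normal → N ≠ ⊥ → M ≤ N) ∧
      IsSimpleGroup ↥M ∧ MulAction.IsMultiplyPretransitive ↥M Ω 2 ∧ Subgroup.centralizer (M : Set G) = ⊥ := by
  classical
  have hprim := isPreprimitive_of_is_two_pretransitive h2
  have htr : ∀ K : Subgroup G, K.Normal → (∃ k ∈ K, ∃ w : Ω, k • w ≠ w) → IsPretransitive K Ω := by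
    rintro K hK ⟨k, hk, w, hw⟩
    exact IsQuasiPreprimitive.isPretransitive_of_normal fun h =>
      hw ((Set.eq_univ_iff_forall.1 h w) ⟨k, hk⟩)
  have hG : (⊤ : Subgroup G) ≠ ⊥ := by
    intro h
    obtain ⟨a, b, hab⟩ := Fintype.exists_pair_of_one_lt_card (show 1 < Fintype.card Ω by omega)
    obtain ⟨g, hg⟩ := hprim.toIsPretransitive.exists_smul_eq a b
    have hg1 : g = 1 := Subgroup.mem_bot.1 (h ▸ Subgroup.mem_top g)
    rw [hg1, one_smul] at hg
    exact hab hg
  obtain ⟨M, ⟨hMn, hMb⟩, hmin⟩ := Set.exists_min_image {N : Subgroup G | N.Normal ∧ N ≠ ⊥}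
    (fun N => Nat.card N) (Set.toFinite _) ⟨⊤, inferInstance, hG⟩
  have hminle : ∀ N : Subgroup G, N.Normal → N ≠ ⊥ → N ≤ M → N = M := fun N h1 h2 h3 =>
    Subgroup.eq_of_le_of_card_ge h3 (hmin N ⟨h1, h2⟩)
  have hC := centralizer_eq_bot hn hn2 htr M hMb
  obtain ⟨m₀, hm₀, hm₀1⟩ := (Subgroup.bot_or_exists_ne_one M).resolve_left hMb
  obtain ⟨w₀, hw₀⟩ : ∃ w : Ω, m₀ • w ≠ w := by
    by_contra h
    push_neg at h
    exact hm₀1 (eq_of_smul_eq_smul (α := Ω) fun w => by rw [h w, one_smul])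
  have hMt : IsPretransitive M Ω := htr M hMn ⟨m₀, hm₀, w₀, hw₀⟩
  have hM2 := two_transitive_of_normal h2 hn M hMt
  refine ⟨M, hMn, hMb, fun N hNn hNb => ?_, ?_, hM2, hC⟩
  · by_cases hi : N ⊓ M = ⊥
    · refine absurd ?_ hNb
      rw [eq_bot_iff, ← hC]
      intro x hx
      rw [Subgroup.mem_centralizer_iff]
      intro y hy
      exact (Subgroup.commute_of_normal_of_disjoint N M hNn hMn (disjoint_iff.2 hi) x y hx hy).symm
    · have := hminle (N ⊓ M) (Subgroup.normal_inf_normal N M) hi inf_le_right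
      exact this ▸ inf_le_left
  · have hMprim := isPreprimitive_of_is_two_pretransitive hM2
    have htrM : ∀ K : Subgroup M, K.Normal → (∃ k ∈ K, ∃ w : Ω, k • w ≠ w) → IsPretransitive K Ω := by
      rintro K hK ⟨k, hk, w, hw⟩
      exact IsQuasiPreprimitive.isPretransitive_of_normal fun h =>
        hw ((Set.eq_univ_iff_forall.1 h w) ⟨k, hk⟩)
    haveI : Nontrivial M := M.nontrivial_iff_ne_bot.2 hMb
    -- a least nontrivial normal subgroup of `M`
    obtain ⟨N₀, ⟨hN₀n, hN₀b⟩, hmin₀⟩ := Set.exists_min_image {N : Subgroup M | N.Normal ∧ N ≠ ⊥}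
      (fun N => Nat.card N) (Set.toFinite _) ⟨⊤, inferInstance, top_ne_bot⟩
    have hle₀ : ∀ N : Subgroup M, N.Normal → N ≠ ⊥ → N₀ ≤ N := by
      intro N hNn hNb
      by_cases hi : N₀ ⊓ N = ⊥
      · refine absurd ?_ hN₀b
        rw [eq_bot_iff, ← centralizer_eq_bot hn hn2 htrM N hNb]
        intro x hx
        rw [Subgroup.mem_centralizer_iff]
        intro y hy
        exact (Subgroup.commute_of_normal_of_disjoint N₀ N hN₀n hNn (disjoint_iff.2 hi) x y hx hy).symm
      · have := Subgroup.eq_of_le_of_card_ge (inf_le_left : N₀ ⊓ N ≤ N₀)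
          (hmin₀ _ ⟨Subgroup.normal_inf_normal N₀ N, hi⟩)
        exact this ▸ inf_le_right
    have hN₀M : N₀.map M.subtype = M := by
      refine hminle _ ⟨fun x hx g => ?_⟩ ?_ (Subgroup.map_subtype_le _)
      · obtain ⟨y, hy, rfl⟩ := hx
        let φ : M ≃* M := MulAut.conjNormal g
        have hφn : (N₀.map φ.toMonoidHom).Normal := hN₀n.map _ φ.surjective
        have hφb : N₀.map φ.toMonoidHom ≠ ⊥ := fun h =>
          hN₀b ((Subgroup.map_eq_bot_iff_of_injective _ φ.injective).1 h)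
        have heq : N₀ = N₀.map φ.toMonoidHom := by
          refine Subgroup.eq_of_le_of_card_ge (hle₀ _ hφn hφb) ?_
          rw [Subgroup.card_map_of_injective (f := φ.toMonoidHom) φ.injective]
        refine ⟨φ y, ?_, MulAut.conjNormal_apply g y⟩
        rw [SetLike.mem_coe, heq]
        exact ⟨y, hy, rfl⟩
      · exact fun h => hN₀b ((Subgroup.map_eq_bot_iff_of_injective _ M.subtype_injective).1 h)
    have hN₀top : N₀ = ⊤ := by
      rw [eq_top_iff]
      intro x _
      have : (x : G) ∈ N₀.map M.subtype := by rw [hN₀M]; exact x.2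
      obtain ⟨y, hy, hyx⟩ := this
      rwa [Subtype.ext hyx] at hy
    exact ⟨fun N hNn => (em (N = ⊥)).imp id fun h => top_le_iff.1 (hN₀top ▸ hle₀ N hNn h)⟩

end Cfsg.Agent.S3401
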