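import Cfsg.Statements.S3412
import Cfsg.Agent.L33Graph.Main

set_option autoImplicit false
open Cfsg

namespace Cfsg.Agent.S3412

/-- Let H be a finite group whose commuting graph (vertices the non-identity elements, two joined when they commute) is isomorphic to that of PSL_3(3): there is a bijection between the non-identity elements of H and of PSL_3(3) under which two elements commute exactly when their images do. Then H ≅ PSL_3(3). -/
theorem result {H : Type*} [Group H] [Finite H]
    (f : {h : H // h ≠ 1} ≃ {g : Matrix.ProjectiveSpecialLinearGroup (Fin 3) (ZMod 3) // g ≠ 1})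
    (hf : ∀ x y : {h : H // h ≠ 1}, (x : H) * y = y * x ↔ ((f x) : Matrix.ProjectiveSpecialLinearGroup (Fin 3) (ZMod 3)) * (f y) = (f y) * (f x)) :
    Nonempty (H ≃* Matrix.ProjectiveSpecialLinearGroup (Fin 3) (ZMod 3)) := by
  
  classical
  let g : H ≃ Cfsg.Agent.L33Graph.L33 :=
    (Equiv.optionSubtypeNe (1 : H)).symm.trans
      ((Equiv.optionCongr f).trans (Equiv.optionSubtypeNe 1))
  have g1 : g 1 = 1 := by simp [g]
  refine Cfsg.Agent.L33Graph.main g g1 fun x y => ?_
  by_cases hx : x = 1
  · subst hx; simp [g1]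
  by_cases hy : y = 1
  · subst hy; simp [g1]
  have gx : ∀ (z : H) (hz : z ≠ 1), g z = f ⟨z, hz⟩ := fun z hz => by
    simp [g, Equiv.optionSubtypeNe_symm_of_ne hz]
  rw [gx x hx, gx y hy, commute_iff_eq, commute_iff_eq]
  exact (hf ⟨x, hx⟩ ⟨y, hy⟩).symm

end Cfsg.Agent.S3412
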