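import Cfsg.Statements.S3413
import Cfsg.Agent.Fg24.M11.Nse
import Cfsg.Agent.Compute.Mathieu

set_option autoImplicit false
open Cfsg

namespace Cfsg.Agent.S3413

/-- A commutation-preserving bijection does not decrease centralizers. -/
theorem centralizer_le {A B : Type*} [Group A] [Group B] [Finite B]
    (f : {a : A // a ≠ 1} ≃ {b : B // b ≠ 1})
    (hf : ∀ x y : {a : A // a ≠ 1}, (x : A) * y = y * x → (f x : B) * f y = f y * f x)
    (x : {a : A // a ≠ 1}) :
    Nat.card (Subgroup.centralizer ({(x : A)} : Set A)) ≤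
      Nat.card (Subgroup.centralizer ({(f x : B)} : Set B)) := by
  classical
  let F : Subgroup.centralizer ({(x : A)} : Set A) → Subgroup.centralizer ({(f x : B)} : Set B) :=
    fun y => if h : (y : A) = 1 then 1 else ⟨f ⟨y, h⟩, Subgroup.mem_centralizer_singleton_iff.2
      (hf x ⟨y, h⟩ (Subgroup.mem_centralizer_singleton_iff.1 y.2).symm).symm⟩
  refine Nat.card_le_card_of_injective F ?_
  intro a b h
  simp only [F] at h
  split_ifs at h with ha hb hb
  · exact Subtype.ext (ha.trans hb.symm)
  · exact absurd (congrArg Subtype.val h).symm (f ⟨b, hb⟩).2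
  · exact absurd (congrArg Subtype.val h) (f ⟨a, ha⟩).2
  · have h' : f ⟨a, ha⟩ = f ⟨b, hb⟩ := Subtype.ext (congrArg Subtype.val h :)
    exact Subtype.ext (congrArg (Subtype.val : {a : A // a ≠ 1} → A) (f.injective h') :)

/-- Let H be a finite group whose commuting graph (vertices the non-identity elements, two joined when they commute) is isomorphic to that of the Mathieu group M_11: there is a bijection between the non-identity elements of H and of M_11 under which two elements commute exactly when their images do. Then H ≅ M_11. -/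
theorem result {H : Type*} [Group H] [Finite H]
    (f : {h : H // h ≠ 1} ≃ {g : ↥Cfsg.Spor.M11 // g ≠ 1})
    (hf : ∀ x y : {h : H // h ≠ 1}, (x : H) * y = y * x ↔ ((f x) : ↥Cfsg.Spor.M11) * (f y) = (f y) * (f x)) :
    Nonempty (H ≃* ↥Cfsg.Spor.M11) := by
  classical
  haveI := Cfsg.Agent.Compute.isSimpleGroup_m11
  have hM : Nat.card Cfsg.Spor.M11 = 7920 := Cfsg.Agent.Compute.card_m11
  haveI : Finite Cfsg.Spor.M11 := Nat.finite_of_card_ne_zero (by rw [hM]; norm_num)
  letI := Fintype.ofFinite Cfsg.Spor.M11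
  letI := Fintype.ofFinite H
  haveI h11 : Fact (Nat.Prime 11) := ⟨by norm_num⟩
  have hH : Nat.card H = 7920 := by
    rw [← hM, ← Nat.card_congr (Equiv.optionSubtypeNe (1 : H)),
      ← Nat.card_congr (Equiv.optionSubtypeNe (1 : Cfsg.Spor.M11)), Finite.card_option,
      Finite.card_option, Nat.card_congr f]
  have hC : ∀ x : {h : H // h ≠ 1}, Nat.card (Subgroup.centralizer ({(x : H)} : Set H)) =
      Nat.card (Subgroup.centralizer ({(f x : Cfsg.Spor.M11)} : Set Cfsg.Spor.M11)) := fun x => by
    refine le_antisymm (centralizer_le f (fun a b => (hf a b).1) x) ?_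
    have := centralizer_le f.symm (fun a b h => (hf _ _).2 (by simpa using h)) (f x)
    rwa [Equiv.symm_apply_apply] at this
  let S := {x : {h : H // h ≠ 1} // Nat.card (Subgroup.centralizer ({(x : H)} : Set H)) = 11}
  let T := {x : {g : Cfsg.Spor.M11 // g ≠ 1} //
    Nat.card (Subgroup.centralizer ({(x : Cfsg.Spor.M11)} : Set Cfsg.Spor.M11)) = 11}
  have hST : Nat.card S = Nat.card T :=
    Nat.card_congr (Equiv.subtypeEquiv f fun x => by rw [hC])
  have hT : 1440 ≤ Nat.card T := by
    rw [← (Fg24.M11.counts hM).1]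
    let F : {g : Cfsg.Spor.M11 // orderOf g = 11} → T := fun g =>
      ⟨⟨g.1, fun h => by have := g.2; rw [h, orderOf_one] at this; omega⟩,
        (Fg24.M11.prime_data hM (Or.inr rfl) g.2).1⟩
    exact Nat.card_le_card_of_injective F fun a b h =>
      Subtype.ext (congrArg (fun t : T => (t.1.1 : Cfsg.Spor.M11)) h)
  have hSo : ∀ x : S, orderOf (x.1.1 : H) = 11 := fun x => by
    have h := Subgroup.orderOf_dvd_natCard _
      (Subgroup.mem_centralizer_singleton_iff.2 rfl :
        (x.1.1 : H) ∈ Subgroup.centralizer ({(x.1.1 : H)} : Set H))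
    rw [x.2] at h
    exact ((Nat.dvd_prime (Fact.out : Nat.Prime 11)).1 h).resolve_left fun h1 =>
      x.1.2 (orderOf_eq_one_iff.1 h1)
  let F : S → {h : H // orderOf h = 11} := fun x => ⟨x.1.1, hSo x⟩
  have hF : Function.Injective F := fun a b h =>
    Subtype.ext (Subtype.ext (congrArg Subtype.val h :))
  have hle := Nat.card_le_card_of_injective F hF
  obtain ⟨g, hg⟩ := exists_prime_orderOf_dvd_card' (G := H) 11 (by rw [hH]; norm_num)
  have hN := Fg24.M11.card_normalizer_zpowers hH (Or.inr rfl) hg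
  have h11N : 11 ∣ Nat.card
      (Subgroup.normalizer ((Subgroup.zpowers g : Subgroup H) : Set H)) := by
    conv_lhs => rw [← hg]
    exact Subgroup.orderOf_dvd_natCard _ (Subgroup.le_normalizer (Subgroup.mem_zpowers g))
  have hmod : Nat.card (Sylow 11 H) % 11 = 1 := by rw [card_sylow_modEq_one 11 H]
  have hcnt := Fg24.M11.count_prime hH (p := 11) (Or.inr rfl)
  have hlist : ∀ n ∈ Nat.divisors 720, n % 11 = 1 → 144 ≤ n → n = 144 := by decide +kernel
  have hdvd : Nat.card (Sylow 11 H) ∣ 720 := by
    obtain ⟨k, hk⟩ := h11N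
    rw [hk] at hN
    rw [mul_left_comm] at hN
    exact ⟨k, by omega⟩
  have h144 : Nat.card (Sylow 11 H) = 144 :=
    hlist _ (Nat.mem_divisors.2 ⟨hdvd, by norm_num⟩) hmod (by omega)
  have hbij : Function.Bijective F := (Nat.bijective_iff_injective_and_card F).2 ⟨hF, by omega⟩
  haveI : IsSimpleGroup H := Fg24.M11.simple_of_eleven hH h144 fun a ha => by
    obtain ⟨x, hx⟩ := hbij.2 ⟨a, ha⟩
    have := x.2
    rwa [show x.1.1 = a from congrArg Subtype.val hx] at this
  exact Fg24.M11.unique_7920 hH hM

end Cfsg.Agent.S3413
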