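import Cfsg.Statements.S3419
import Cfsg.Agent.AltTwoPrimes.Primes
import Cfsg.Agent.Core.Hall

set_option autoImplicit false
open Cfsg

namespace Cfsg.Agent.S3419

theorem factor_one {n p : ℕ} (hp : p.Prime) (hp3 : 3 ≤ p) (h1 : p ≤ n) (h2 : n < 2 * p) :
    n.factorial.factorization p = 1 := by
  rw [Nat.factorization_factorial hp (b := 2) (Nat.log_lt_of_lt_pow (by omega) (by nlinarith))]
  rw [show Finset.Ico 1 2 = {1} from rfl, Finset.sum_singleton, pow_one]
  exact Nat.div_eq_of_lt_le (by omega) (by omega)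

/-- A group of order `p ^ a * q`, `a ≤ 2`, without divisibility coincidences has an element of order `p * q`. -/
theorem exists_pq {H : Type*} [Group H] [Finite H] {p q a : ℕ} (hp : p.Prime) (hq : q.Prime)
    (hpq : p < q) (ha : 0 < a) (hcard : Nat.card H = p ^ a * q) (hqp : ¬ q % p = 1)
    (hpp : ∀ i, 0 < i → i ≤ a → p ^ i % q ≠ 1) : ∃ x : H, orderOf x = p * q := by
  have := Fact.mk hp
  have := Fact.mk hq
  have hne : p ≠ q := hpq.ne
  have hcop : (p ^ a).Coprime q := Nat.Coprime.pow_left _ ((Nat.coprime_primes hp hq).2 hne)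
  obtain ⟨P⟩ : Nonempty (Sylow p H) := inferInstance
  obtain ⟨Q⟩ : Nonempty (Sylow q H) := inferInstance
  have hPcard : Nat.card (P : Subgroup H) = p ^ a := by
    rw [P.card_eq_multiplicity, hcard, Nat.factorization_mul_apply_of_coprime hcop,
      hp.factorization_pow, hq.factorization]
    simp [hne.symm]
  have hQcard : Nat.card (Q : Subgroup H) = q := by
    rw [Q.card_eq_multiplicity, hcard, Nat.factorization_mul_apply_of_coprime hcop,
      hp.factorization_pow, hq.factorization]
    simp [hne]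
  have hPidx : (P : Subgroup H).index = q := by
    have := (P : Subgroup H).card_mul_index
    rw [hPcard, hcard] at this
    exact Nat.eq_of_mul_eq_mul_left (pow_pos hp.pos a) this
  have hQidx : (Q : Subgroup H).index = p ^ a := by
    have := (Q : Subgroup H).card_mul_index
    rw [hQcard, hcard, Nat.mul_comm (p ^ a)] at this
    exact Nat.eq_of_mul_eq_mul_left hq.pos this
  have hP1 : Nat.card (Sylow p H) = 1 := by
    have h := P.card_dvd_index
    rw [hPidx] at h
    refine (hq.eq_one_or_self_of_dvd _ h).resolve_right fun e => hqp ?_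
    have := card_sylow_modEq_one p H
    rw [e] at this
    rw [this, Nat.mod_eq_of_lt hp.one_lt]
  have hQ1 : Nat.card (Sylow q H) = 1 := by
    have h := Q.card_dvd_index
    rw [hQidx] at h
    obtain ⟨i, hi, hie⟩ := (Nat.dvd_prime_pow hp).1 h
    rcases Nat.eq_zero_or_pos i with h0 | h0
    · rw [hie, h0, pow_zero]
    · exfalso
      refine hpp i h0 hi ?_
      have := card_sylow_modEq_one q H
      rw [hie] at this
      rw [this, Nat.mod_eq_of_lt hq.one_lt]
  have hPn : (P : Subgroup H).Normal := by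
    have := (Nat.card_eq_one_iff_unique.1 hP1).1
    exact P.normal_of_subsingleton
  have hQn : (Q : Subgroup H).Normal := by
    have := (Nat.card_eq_one_iff_unique.1 hQ1).1
    exact Q.normal_of_subsingleton
  obtain ⟨x, hx⟩ := exists_prime_orderOf_dvd_card' (G := (P : Subgroup H)) p
    (by rw [hPcard]; exact dvd_pow_self p ha.ne')
  obtain ⟨y, hy⟩ := exists_prime_orderOf_dvd_card' (G := (Q : Subgroup H)) q (by rw [hQcard])
  have hdisj : Disjoint (P : Subgroup H) Q :=
    Subgroup.disjoint_of_coprime_natCard (by rw [hPcard, hQcard]; exact hcop)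
  have hc : Commute (x : H) y :=
    Subgroup.commute_of_normal_of_disjoint _ _ hPn hQn hdisj _ _ x.2 y.2
  refine ⟨x * y, ?_⟩
  rw [← Subgroup.orderOf_coe] at hx hy
  rw [hc.orderOf_mul_eq_mul_orderOf_of_coprime (by rw [hx, hy]; exact (Nat.coprime_primes hp hq).2 hne), hx, hy]

theorem no_pq {n p q : ℕ} (hp : p.Prime) (hq : q.Prime) (hne : p ≠ q) (hsum : n < p + q)
    (σ : Equiv.Perm (Fin n)) : orderOf σ ≠ p * q := by
  intro h
  have hdvd : ∀ r : ℕ, r.Prime → r ∣ orderOf σ → ∃ c ∈ σ.cycleType, r ∣ c := by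
    intro r hr hd
    rw [← Equiv.Perm.lcm_cycleType] at hd
    revert hd
    induction σ.cycleType using Multiset.induction with
    | empty => simp [hr.ne_one]
    | cons a s ih =>
      intro hd
      rw [Multiset.lcm_cons] at hd
      rcases (hr.dvd_mul).1 (hd.trans (lcm_dvd (dvd_mul_right a s.lcm) (dvd_mul_left s.lcm a))) with h' | h'
      · exact ⟨a, Multiset.mem_cons_self _ _, h'⟩
      · obtain ⟨c, hc, hrc⟩ := ih h'
        exact ⟨c, Multiset.mem_cons_of_mem hc, hrc⟩
  obtain ⟨c, hc, hpc⟩ := hdvd p hp (h ▸ dvd_mul_right p q)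
  obtain ⟨d, hd, hqd⟩ := hdvd q hq (h ▸ dvd_mul_left q p)
  have hsumle : σ.cycleType.sum ≤ n := by
    rw [Equiv.Perm.sum_cycleType]
    exact σ.support.card_le_univ.trans (by simp)
  have hcpos := Equiv.Perm.two_le_of_mem_cycleType hc
  have hdpos := Equiv.Perm.two_le_of_mem_cycleType hd
  by_cases hcd : c = d
  · subst hcd
    have h1 : p * q ∣ c := Nat.Coprime.mul_dvd_of_dvd_of_dvd ((Nat.coprime_primes hp hq).2 hne) hpc hqd
    have h2 := Nat.le_of_dvd (by omega) h1
    have h3 := Multiset.single_le_sum (fun x _ => Nat.zero_le x) c hc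
    have := hp.two_le
    have := hq.two_le
    nlinarith
  · obtain ⟨s, hs⟩ := Multiset.exists_cons_of_mem hc
    rw [hs, Multiset.sum_cons] at hsumle
    have hd' : d ∈ s := (Multiset.mem_cons.1 (hs ▸ hd)).resolve_left (Ne.symm hcd)
    have h3 := Multiset.single_le_sum (fun x _ => Nat.zero_le x) d hd'
    have := Nat.le_of_dvd (by omega) hpc
    have := Nat.le_of_dvd (by omega) hqd
    omega

theorem choose_primes (n : ℕ) (hn : 5 ≤ n) : ∃ p q a : ℕ, p.Prime ∧ q.Prime ∧ 3 ≤ p ∧ p < q ∧ q ≤ n ∧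
    n < p + q ∧ n < 2 * q ∧ q < 2 * p ∧ n.factorial.factorization p = a ∧ 0 < a ∧
    ∀ i, 0 < i → i ≤ a → p ^ i % q ≠ 1 := by
  by_cases h6 : n = 6
  · subst h6
    refine ⟨3, 5, 2, by norm_num, by norm_num, by omega, by omega, by omega, by omega, by omega, by omega, ?_, by omega, ?_⟩
    · rw [Nat.factorization_factorial Nat.prime_three (b := 2) (Nat.log_lt_of_lt_pow (by omega) (by norm_num))]
      rfl
    · intro i h1 h2; interval_cases i <;> decide
  by_cases h10 : n = 10
  · subst h10
    refine ⟨5, 7, 2, by norm_num, by norm_num, by omega, by omega, by omega, by omega, by omega, by omega, ?_, by omega, ?_⟩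
    · rw [Nat.factorization_factorial Nat.prime_five (b := 2) (Nat.log_lt_of_lt_pow (by omega) (by norm_num))]
      rfl
    · intro i h1 h2; interval_cases i <;> decide
  have mk : ∀ p q : ℕ, p.Prime → q.Prime → 3 ≤ p → p < q → q ≤ n → n < 2 * p →
      ∃ p q a : ℕ, p.Prime ∧ q.Prime ∧ 3 ≤ p ∧ p < q ∧ q ≤ n ∧
      n < p + q ∧ n < 2 * q ∧ q < 2 * p ∧ n.factorial.factorization p = a ∧ 0 < a ∧
      ∀ i, 0 < i → i ≤ a → p ^ i % q ≠ 1 := fun p q hp hq h3 hlt hle hn2 =>
    ⟨p, q, 1, hp, hq, h3, hlt, hle, by omega, by omega, by omega, factor_one hp h3 (by omega) hn2, one_pos,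
      fun i h1 h2 => by
        obtain rfl : i = 1 := by omega
        rw [pow_one, Nat.mod_eq_of_lt hlt]; omega⟩
  by_cases a5 : n = 5
  · exact mk 3 5 (by norm_num) (by norm_num) (by omega) (by omega) (by omega) (by omega)
  by_cases a7 : n < 10
  · exact mk 5 7 (by norm_num) (by norm_num) (by omega) (by omega) (by omega) (by omega)
  by_cases a11 : n < 14
  · exact mk 7 11 (by norm_num) (by norm_num) (by omega) (by omega) (by omega) (by omega)
  by_cases a14 : n < 18
  · exact mk 11 13 (by norm_num) (by norm_num) (by omega) (by omega) (by omega) (by omega)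
  obtain ⟨p, q, hp, hq, h1, h2, h3⟩ := AltTwoPrimes.exists_three_primes (n / 2) (by omega)
  exact mk p q hp hq (by omega) (by omega) (by omega) (by omega)

theorem result {G : Type*} [Group G] [Finite G] (n : ℕ) (hn : 5 ≤ n)
    (hcard : Nat.card G = Nat.card ↥(alternatingGroup (Fin n)))
    (hspec : Set.range (orderOf : G → ℕ) = Set.range (orderOf : ↥(alternatingGroup (Fin n)) → ℕ)) :
    ¬ Group.IsSolvable G := by
  intro hsol
  obtain ⟨p, q, a, hp, hq, hp3, hpq, hqn, hsum, hn2q, hq2p, ha, ha0, hmod⟩ := choose_primes n hn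
  have hnt : Nontrivial (Fin n) := Fin.nontrivial_iff_two_le.2 (by omega)
  have h2 : 2 * Nat.card G = n.factorial := by
    rw [hcard, two_mul_nat_card_alternatingGroup, Nat.card_perm, Nat.card_fin]
  have hG0 : Nat.card G ≠ 0 := Nat.card_pos.ne'
  have hfac : ∀ r, r.Prime → 3 ≤ r → (Nat.card G).factorization r = n.factorial.factorization r := by
    intro r hr hr3
    rw [← h2, Nat.factorization_mul two_ne_zero hG0, Nat.prime_two.factorization]
    simp [show 2 ≠ r by omega]
  have hq1 : n.factorial.factorization q = 1 := factor_one hq (by omega) hqn hn2q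
  have hdvd : p ^ a * q ∣ Nat.card G := by
    refine Nat.Coprime.mul_dvd_of_dvd_of_dvd (Nat.Coprime.pow_left _ ((Nat.coprime_primes hp hq).2 hpq.ne)) ?_ ?_
    · rw [← ha, ← hfac p hp hp3]; exact Nat.ordProj_dvd _ _
    · have := Nat.ordProj_dvd (Nat.card G) q
      rwa [hfac q hq (by omega), hq1, pow_one] at this
  obtain ⟨m, hm⟩ := hdvd
  have hm0 : m ≠ 0 := by rintro rfl; exact hG0 (hm.trans (Nat.mul_zero _))
  have hpm : ¬ p ∣ m := fun hd => by
    have h1 : p ^ (a + 1) ∣ Nat.card G := by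
      rw [hm, pow_succ, Nat.mul_assoc]
      exact Nat.mul_dvd_mul_left _ (hd.mul_left q)
    have := (hp.pow_dvd_iff_le_factorization hG0).1 h1
    rw [hfac p hp hp3, ha] at this
    omega
  have hqm : ¬ q ∣ m := fun hd => by
    have h1 : q ^ 2 ∣ Nat.card G := by
      rw [hm, pow_two, Nat.mul_assoc]
      exact Dvd.dvd.mul_left (Nat.mul_dvd_mul_left _ hd) _
    have := (hq.pow_dvd_iff_le_factorization hG0).1 h1
    rw [hfac q hq (by omega), hq1] at this
    omega
  obtain ⟨H, hH⟩ := Cfsg.Agent.Core.exists_hall hm (Nat.Coprime.mul_left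
    (Nat.Coprime.pow_left _ ((hp.coprime_iff_not_dvd).2 hpm)) ((hq.coprime_iff_not_dvd).2 hqm))
  obtain ⟨x, hx⟩ := exists_pq hp hq hpq ha0 hH (fun e => by
    have h' : q % p = q - p := by
      rw [Nat.mod_eq_sub_mod hpq.le, Nat.mod_eq_of_lt (by omega)]
    rcases hp.eq_two_or_odd with h | h <;> rcases hq.eq_two_or_odd with h'' | h'' <;> omega) hmod
  have hmem : p * q ∈ Set.range (orderOf : G → ℕ) := ⟨x, by rw [Subgroup.orderOf_coe]; exact hx⟩
  rw [hspec] at hmem
  obtain ⟨σ, hσ⟩ := hmem
  exact no_pq hp hq hpq.ne hsum (σ : Equiv.Perm (Fin n)) (by rw [Subgroup.orderOf_coe]; exact hσ)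

end Cfsg.Agent.S3419
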