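import Cfsg.Statements.S3420
import Cfsg.Agent.S3419
import Cfsg.Agent.Core.Basics

set_option autoImplicit false
open Cfsg

namespace Cfsg.Agent.S3420

open Subgroup

theorem prime_of_comm {Q : Type*} [inst : Group Q] [Finite Q] [IsSimpleGroup Q]
    (h : ∀ a b : Q, a * b = b * a) : (Nat.card Q).Prime :=
  let _ : CommGroup Q := { inst with mul_comm := h }
  IsSimpleGroup.prime_card (α := Q)

theorem result {G : Type*} [Group G] [Finite G] (n : ℕ) (hn : 11 ≤ n)
    (hcard : Nat.card G = Nat.card ↥(alternatingGroup (Fin n)))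
    (hspec : Set.range (orderOf : G → ℕ) = Set.range (orderOf : ↥(alternatingGroup (Fin n)) → ℕ)) :
    ∃ (N H : Subgroup G) (_ : N.Normal), H.Normal ∧ N < H ∧
      IsSimpleGroup (↥H ⧸ N.subgroupOf H) ∧ ¬ IsMulCommutative (↥H ⧸ N.subgroupOf H) ∧
      ∀ p : ℕ, p.Prime → n < 2 * p → p ≤ n → p ∣ Nat.card (↥H ⧸ N.subgroupOf H) := by
  classical
  have hnt : Nontrivial (Fin n) := Fin.nontrivial_iff_two_le.2 (by omega)
  have h2 : 2 * Nat.card G = n.factorial := by
    rw [hcard, two_mul_nat_card_alternatingGroup, Nat.card_perm, Nat.card_fin]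
  have hG0 : Nat.card G ≠ 0 := Nat.card_pos.ne'
  have hone : ∀ p, p.Prime → n < 2 * p → p ≤ n → p ∣ Nat.card G ∧ ¬ p ^ 2 ∣ Nat.card G := by
    intro p hp h1 h3
    have hf : (Nat.card G).factorization p = 1 := by
      have h := S3419.factor_one hp (by omega) h3 h1
      rw [← h2, Nat.factorization_mul two_ne_zero hG0, Nat.prime_two.factorization] at h
      simpa [show 2 ≠ p by omega] using h
    refine ⟨?_, fun h => ?_⟩
    · simpa [hf] using Nat.ordProj_dvd (Nat.card G) p
    · have := (hp.pow_dvd_iff_le_factorization hG0).1 h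
      omega
  have hnopq : ∀ p q, p.Prime → q.Prime → p ≠ q → n < 2 * p → n < 2 * q → ∀ x : G, orderOf x ≠ p * q := by
    intro p q hp hq hne h1 h3 x hx
    have hmem : p * q ∈ Set.range (orderOf : G → ℕ) := ⟨x, hx⟩
    rw [hspec] at hmem
    obtain ⟨σ, hσ⟩ := hmem
    exact S3419.no_pq hp hq hne (by omega) (σ : Equiv.Perm (Fin n)) (by rw [Subgroup.orderOf_coe]; exact hσ)
  obtain ⟨p₀, q₀, hp₀, hq₀, hpq₀, hp1, hq1, hpn, hqn⟩ : ∃ p q, p.Prime ∧ q.Prime ∧ p ≠ q ∧ n < 2 * p ∧
      n < 2 * q ∧ p ≤ n ∧ q ≤ n := by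
    by_cases a14 : n < 14
    · exact ⟨7, 11, by norm_num, by norm_num, by omega, by omega, by omega, by omega, by omega⟩
    by_cases a18 : n < 18
    · exact ⟨11, 13, by norm_num, by norm_num, by omega, by omega, by omega, by omega, by omega⟩
    obtain ⟨p, q, hp, hq, h1, h3, h4⟩ := AltTwoPrimes.exists_three_primes (n / 2) (by omega)
    exact ⟨p, q, hp, hq, by omega, by omega, by omega, by omega, by omega⟩
  let Good : Subgroup G → Prop := fun K => ∀ p, p.Prime → n < 2 * p → p ≤ n → ¬ p ∣ Nat.card K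
  obtain ⟨N, ⟨hNn, hNgood⟩, hNmax⟩ := Set.Finite.exists_maximal
    (Set.toFinite {K : Subgroup G | K.Normal ∧ Good K})
    ⟨⊥, inferInstance, fun p hp _ _ h => hp.not_dvd_one (by rwa [card_bot] at h)⟩
  have hNtop : N ≠ ⊤ := fun h => hNgood p₀ hp₀ hp1 hpn (by rw [h, card_top]; exact (hone p₀ hp₀ hp1 hpn).1)
  obtain ⟨H, ⟨hHn, hNH⟩, hHmin⟩ := Set.Finite.exists_minimal
    (Set.toFinite {K : Subgroup G | K.Normal ∧ N < K}) ⟨⊤, inferInstance, lt_top_iff_ne_top.2 hNtop⟩
  have hchief : ∀ K : Subgroup G, K.Normal → N ≤ K → K ≤ H → K = N ∨ K = H := by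
    intro K hK h1 h3
    rcases eq_or_lt_of_le h1 with h | h
    · exact Or.inl h.symm
    · exact Or.inr (le_antisymm h3 (hHmin ⟨hK, h⟩ h3))
  -- all large primes divide `H`
  have hall : ∀ q, q.Prime → n < 2 * q → q ≤ n → q ∣ Nat.card H := by
    obtain ⟨p, hp, hp2, hpn', hpH⟩ : ∃ p, p.Prime ∧ n < 2 * p ∧ p ≤ n ∧ p ∣ Nat.card H := by
      by_contra! hcon
      exact hNH.not_ge (hNmax ⟨hHn, fun p hp h1 h3 => hcon p hp h1 h3⟩ hNH.le)
    intro q hq hq2 hqn'
    by_contra hqH
    have hne : p ≠ q := fun h => hqH (h ▸ hpH)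
    have := Fact.mk hp
    have := Fact.mk hq
    obtain ⟨P⟩ : Nonempty (Sylow p H) := inferInstance
    have hsup := P.normalizer_sup_eq_top
    set P' : Subgroup G := (P : Subgroup H).map H.subtype with hP'
    have hPcard : Nat.card P' = p := by
      rw [hP', card_map_of_injective H.subtype_injective, P.card_eq_multiplicity]
      have h1 : (Nat.card H).factorization p = 1 := by
        have h0 := hp.factorization_pos_of_dvd Nat.card_pos.ne' hpH
        have hle : (Nat.card H).factorization p ≤ 1 := by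
          by_contra! hc
          exact (hone p hp hp2 hpn').2 (((hp.pow_dvd_iff_le_factorization Nat.card_pos.ne').2 hc).trans
            (card_subgroup_dvd_card H))
        omega
      rw [h1, pow_one]
    set K : Subgroup G := normalizer (P' : Set G) with hK
    have hqK : q ∣ Nat.card K := by
      have hqi : q ∣ H.index := by
        have h := (hone q hq hq2 hqn').1
        rw [← H.card_mul_index] at h
        exact (hq.dvd_mul.1 h).resolve_left hqH
      refine hqi.trans ?_
      rw [index_eq_card]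
      refine card_dvd_of_surjective ((QuotientGroup.mk' H).comp K.subtype) fun y => ?_
      obtain ⟨g, rfl⟩ := QuotientGroup.mk'_surjective H y
      obtain ⟨a, ha, b, hb, rfl⟩ := mem_sup_of_normal_right.1 (hsup ▸ mem_top g : g ∈ K ⊔ H)
      refine ⟨⟨a, ha⟩, ?_⟩
      simp [(QuotientGroup.eq_one_iff b).2 hb]
    obtain ⟨y, hy⟩ := exists_prime_orderOf_dvd_card' (G := K) q hqK
    obtain ⟨x, hx⟩ := exists_prime_orderOf_dvd_card' (G := P') p (by rw [hPcard])
    have hcyc : IsCyclic P' := isCyclic_of_prime_card hPcard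
    let φ : K →* MulAut P' := P'.normalizerMonoidHom
    have hφ : φ y = 1 := by
      rw [← orderOf_eq_one_iff]
      have h1 : orderOf (φ y) ∣ q := hy ▸ orderOf_map_dvd φ y
      refine (hq.eq_one_or_self_of_dvd _ h1).resolve_right fun h => ?_
      have h3 : q ∣ Nat.card (MulAut P') := h ▸ orderOf_dvd_natCard _
      rw [Nat.card_congr (IsCyclic.mulAutMulEquiv P').toEquiv, Nat.card_eq_fintype_card,
        ZMod.card_units_eq_totient, hPcard, Nat.totient_prime hp] at h3
      have := hp.two_le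
      have hle := Nat.le_of_dvd (by omega) h3
      obtain ⟨k, hk⟩ := h3
      rcases Nat.lt_or_ge k 2 with hk2 | hk2
      · interval_cases k
        · omega
        · rcases hp.eq_two_or_odd with h | h <;> rcases hq.eq_two_or_odd with h' | h' <;> omega
      · have := Nat.mul_le_mul_left q hk2
        omega
    have hc : Commute (y : G) (x : G) := by
      have h := congrArg Subtype.val (DFunLike.congr_fun hφ x)
      exact mul_inv_eq_iff_eq_mul.1 h
    rw [← Subgroup.orderOf_coe] at hx hy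
    refine hnopq q p hq hp hne.symm hq2 hp2 ((y : G) * x) ?_
    rw [hc.orderOf_mul_eq_mul_orderOf_of_coprime
      (by rw [hx, hy]; exact (Nat.coprime_primes hq hp).2 hne.symm), hx, hy]
  have hdvdQ : ∀ K : Subgroup G, N ≤ K → ∀ p, p.Prime → n < 2 * p → p ≤ n →
      (p ∣ Nat.card K ↔ p ∣ Nat.card (K ⧸ N.subgroupOf K)) := by
    intro K hK p hp h1 h3
    rw [card_eq_card_quotient_mul_card_subgroup (N.subgroupOf K),
      Nat.card_congr (subgroupOfEquivOfLe hK).toEquiv, hp.dvd_mul]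
    exact or_iff_left (hNgood p hp h1 h3)
  have hdiv : ∀ p : ℕ, p.Prime → n < 2 * p → p ≤ n → p ∣ Nat.card (↥H ⧸ N.subgroupOf H) :=
    fun p hp h1 h3 => (hdvdQ H hNH.le p hp h1 h3).1 (hall p hp h1 h3)
  -- no normal subgroup of `H` strictly between
  have hsimple : ∀ L : Subgroup G, N < L → L ≤ H → (∀ h ∈ H, ∀ x ∈ L, h * x * h⁻¹ ∈ L) → L = H := by
    intro L hNL hLH hLn
    obtain ⟨M, ⟨hNM, hMH, hMn, hML⟩, hMmin⟩ := Set.Finite.exists_minimal
      (Set.toFinite {K : Subgroup G | N < K ∧ K ≤ H ∧ (∀ h ∈ H, ∀ x ∈ K, h * x * h⁻¹ ∈ K) ∧ K ≤ L})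
      ⟨L, hNL, hLH, hLn, le_rfl⟩
    suffices M = H from le_antisymm hLH (this ▸ hML)
    let f : G → Subgroup G := fun g => M.map (MulAut.conj g).toMonoidHom
    have hfN : ∀ g, N ≤ f g := fun g x hx => ⟨g⁻¹ * x * g, hNM.le (by simpa using hNn.conj_mem x hx g⁻¹),
      by simp [mul_assoc]⟩
    have hfH : ∀ g, f g ≤ H := by
      rintro g _ ⟨x, hx, rfl⟩
      exact hHn.conj_mem x (hMH hx) g
    have hfn : ∀ g, ∀ h ∈ H, ∀ x ∈ f g, h * x * h⁻¹ ∈ f g := by
      rintro g h hh _ ⟨x, hx, rfl⟩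
      exact ⟨(g⁻¹ * h * g) * x * (g⁻¹ * h * g)⁻¹,
        hMn _ (by simpa using hHn.conj_mem h hh g⁻¹) x hx, by simp [mul_assoc]⟩
    have hfc : ∀ g, Nat.card (f g) = Nat.card M := fun g => card_map_of_injective (MulAut.conj g).injective
    have hNor : ∀ K : Subgroup G, K ≤ H → (∀ h ∈ H, ∀ x ∈ K, h * x * h⁻¹ ∈ K) → (K.subgroupOf H).Normal :=
      fun K hK hKn => ⟨fun x hx h => hKn h h.2 x hx⟩
    have hsupcard : ∀ A B : Subgroup G, A ≤ H → B ≤ H → (∀ h ∈ H, ∀ x ∈ A, h * x * h⁻¹ ∈ A) →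
        Nat.card (A ⊔ B : Subgroup G) * Nat.card (A ⊓ B : Subgroup G) = Nat.card A * Nat.card B := by
      intro A B hA hB hAn
      have := hNor A hA hAn
      have h := Agent.Core.card_sup_mul_card_inf (B.subgroupOf H) (A.subgroupOf H)
      rw [sup_comm, inf_comm, Nat.mul_comm (Nat.card (B.subgroupOf H)), ← subgroupOf_sup hA hB,
        show A.subgroupOf H ⊓ B.subgroupOf H = (A ⊓ B).subgroupOf H from (comap_inf A B H.subtype).symm] at h
      rwa [Nat.card_congr (subgroupOfEquivOfLe (sup_le hA hB)).toEquiv,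
        Nat.card_congr (subgroupOfEquivOfLe (inf_le_left.trans hA)).toEquiv,
        Nat.card_congr (subgroupOfEquivOfLe hA).toEquiv, Nat.card_congr (subgroupOfEquivOfLe hB).toEquiv] at h
    have hpM : p₀ ∣ Nat.card M := by
      by_contra hpM
      have key : ∀ s : Finset G, s.sup f ≤ H ∧ (∀ h ∈ H, ∀ x ∈ s.sup f, h * x * h⁻¹ ∈ s.sup f) ∧
          ¬ p₀ ∣ Nat.card (s.sup f : Subgroup G) := by
        intro s
        induction s using Finset.induction with
        | empty =>
          refine ⟨by simp, fun h _ x hx => ?_, by simp [hp₀.ne_one]⟩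
          simp only [Finset.sup_empty, mem_bot] at hx ⊢
          simp [hx]
        | @insert g s _ ih =>
          obtain ⟨ih1, ih2, ih3⟩ := ih
          rw [Finset.sup_insert]
          refine ⟨sup_le (hfH g) ih1, fun h hh x hx => ?_, fun hd => ?_⟩
          · have hle : (f g ⊔ s.sup f).map (MulAut.conj h).toMonoidHom ≤ f g ⊔ s.sup f := by
              rw [Subgroup.map_sup]
              refine sup_le_sup ?_ ?_
              · rintro _ ⟨v, hv, rfl⟩; exact hfn g h hh v hv
              · rintro _ ⟨v, hv, rfl⟩; exact ih2 h hh v hv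
            exact hle ⟨x, hx, rfl⟩
          · have h := hsupcard (f g) (s.sup f) (hfH g) ih1 (hfn g)
            have hd' : p₀ ∣ Nat.card (f g) * Nat.card (s.sup f : Subgroup G) := h ▸ hd.mul_right _
            rw [hfc] at hd'
            rcases hp₀.dvd_mul.1 hd' with h' | h'
            · exact hpM h'
            · exact ih3 h'
      have := Fintype.ofFinite G
      obtain ⟨k1, k2, k3⟩ := key Finset.univ
      have hS : (Finset.univ.sup f).Normal := ⟨fun x hx g => by
        have hle : (Finset.univ.sup f).map (MulAut.conj g).toMonoidHom ≤ Finset.univ.sup f := by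
          rw [map_le_iff_le_comap]
          refine Finset.sup_le fun a _ => ?_
          rw [← map_le_iff_le_comap]
          refine le_trans (le_of_eq ?_) (Finset.le_sup (f := f) (Finset.mem_univ (g * a)))
          rw [map_map]; congr 1; ext v; simp [mul_assoc]
        exact hle ⟨x, hx, rfl⟩⟩
      have hM0 : M ≤ f 1 := fun x hx => ⟨x, hx, by simp⟩
      have hM1 : M ≤ Finset.univ.sup f := hM0.trans
        (Finset.le_sup (f := f) (Finset.mem_univ (1 : G)))
      rcases hchief _ hS (hNM.le.trans hM1) k1 with h | h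
      · exact hNM.not_ge (h ▸ hM1)
      · rw [h] at k3; exact k3 (hall p₀ hp₀ hp1 hpn)
    by_contra hMne
    obtain ⟨g, hg⟩ : ∃ g, f g ≠ M := by
      by_contra! hcon
      have hMnor : M.Normal := ⟨fun x hx g => (hcon g).le ⟨x, hx, rfl⟩⟩
      exact (hchief M hMnor hNM.le hMH).elim (fun h => hNM.ne h.symm) hMne
    have hinf : M ⊓ f g = N := by
      refine le_antisymm ?_ (le_inf hNM.le (hfN g))
      by_contra hlt
      have h1 : M ≤ M ⊓ f g := hMmin ⟨lt_of_le_not_ge (le_inf hNM.le (hfN g)) hlt, inf_le_left.trans hMH,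
        fun h hh x hx => ⟨hMn h hh x hx.1, hfn g h hh x hx.2⟩, inf_le_left.trans hML⟩ inf_le_left
      exact hg (eq_of_le_of_card_ge (h1.trans inf_le_right) (hfc g).le).symm
    have h := hsupcard M (f g) hMH (hfH g) hMn
    rw [hinf, hfc] at h
    refine (hone p₀ hp₀ hp1 hpn).2 (dvd_trans ?_ (card_subgroup_dvd_card (M ⊔ f g)))
    refine (Nat.Coprime.pow_left 2 ((hp₀.coprime_iff_not_dvd).2 (hNgood p₀ hp₀ hp1 hpn))).dvd_of_dvd_mul_right ?_
    rw [h, pow_two]
    exact Nat.mul_dvd_mul hpM hpM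
  have hQn : (N.subgroupOf H).Normal := inferInstance
  have hntQ : Nontrivial (↥H ⧸ N.subgroupOf H) := by
    rw [← Finite.one_lt_card_iff_nontrivial]
    exact hp₀.one_lt.trans_le (Nat.le_of_dvd Nat.card_pos (hdiv p₀ hp₀ hp1 hpn))
  have hsimp : IsSimpleGroup (↥H ⧸ N.subgroupOf H) := by
    refine ⟨fun Q hQ => ?_⟩
    set L := (Q.comap (QuotientGroup.mk' (N.subgroupOf H))).map H.subtype with hL
    have hmem : ∀ x : H, (x : G) ∈ L ↔ (x : ↥H ⧸ N.subgroupOf H) ∈ Q := fun x => by
      rw [hL]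
      exact Subgroup.mem_map_iff_mem H.subtype_injective (K := Q.comap (QuotientGroup.mk' (N.subgroupOf H))) (x := x)
    have hNL : N ≤ L := fun x hx => by
      refine (hmem ⟨x, hNH.le hx⟩).2 ?_
      rw [(QuotientGroup.eq_one_iff (N := N.subgroupOf H) (⟨x, hNH.le hx⟩ : H)).2 hx]
      exact one_mem Q
    rcases eq_or_lt_of_le hNL with h | h
    · left
      rw [eq_bot_iff]
      intro y hy
      obtain ⟨x, rfl⟩ := QuotientGroup.mk'_surjective _ y
      exact mem_bot.2 ((QuotientGroup.eq_one_iff x).2 (mem_subgroupOf.2 (h ▸ (hmem x).2 hy)))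
    · right
      have hLH := hsimple L h (map_subtype_le _) (by
        intro a ha x hx
        obtain ⟨x', hx', rfl⟩ := hx
        exact (hmem (⟨a, ha⟩ * x' * ⟨a, ha⟩⁻¹)).2 (by simpa using hQ.conj_mem _ hx' (⟨a, ha⟩ : H)))
      rw [eq_top_iff]
      intro y _
      obtain ⟨x, rfl⟩ := QuotientGroup.mk'_surjective _ y
      exact (hmem x).1 (by rw [hLH]; exact x.2)
  refine ⟨N, H, hNn, hHn, hNH, hsimp, ?_, hdiv⟩
  intro hcomm
  have hprime : (Nat.card (↥H ⧸ N.subgroupOf H)).Prime := prime_of_comm hcomm.is_comm.comm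
  have e1 := (Nat.prime_dvd_prime_iff_eq hp₀ hprime).1 (hdiv p₀ hp₀ hp1 hpn)
  have e2 := (Nat.prime_dvd_prime_iff_eq hq₀ hprime).1 (hdiv q₀ hq₀ hq1 hqn)
  exact hpq₀ (e1.trans e2.symm)

end Cfsg.Agent.S3420
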