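import Cfsg.Statements.S3421
import Cfsg.Agent.S2475
import Cfsg.Agent.RecogLin.Identify

set_option autoImplicit false
open Cfsg

namespace Cfsg.Agent.S3421

/-- Let F be a finite field with more than 3 elements. A finite group G is isomorphic to PSL(2, F) if and only if G has the same set of element orders and the same order as PSL(2, F). -/
theorem result {G : Type*} [Group G] [Finite G] {F : Type*} [Field F] [Fintype F] (hF : 3 < Fintype.card F) :
    Nonempty (G ≃* Matrix.ProjectiveSpecialLinearGroup (Fin 2) F) ↔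
      (Set.range (orderOf : G → ℕ) = Set.range (orderOf : Matrix.ProjectiveSpecialLinearGroup (Fin 2) F → ℕ) ∧
        Nat.card G = Nat.card (Matrix.ProjectiveSpecialLinearGroup (Fin 2) F)) := by
  classical
  obtain ⟨p, hp⟩ := CharP.exists F
  haveI hpf : Fact p.Prime := ⟨CharP.char_is_prime F p⟩
  obtain ⟨f, hpp, hf⟩ := FiniteField.card F p
  have hspec := S2475.result (F := F) p (by omega)
  constructor
  · rintro ⟨e⟩
    refine ⟨?_, Nat.card_congr e.toEquiv⟩
    ext m
    constructor
    · rintro ⟨g, rfl⟩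
      exact ⟨e g, e.orderOf_eq g⟩
    · rintro ⟨g, rfl⟩
      exact ⟨e.symm g, e.symm.orderOf_eq g⟩
  · rintro ⟨hord, hcard⟩
    rw [hspec] at hord
    refine RecogLin.Spec.nonempty_mulEquiv (p := p) (q := Fintype.card F)
      (d := Nat.gcd 2 (Fintype.card F - 1))
      ⟨hpp, ⟨f, f.pos, hf⟩, rfl, by omega, ?_, fun g => ?_, fun m hm => ?_⟩ rfl
    · rw [hcard, ← SL2Class.card_sl (F := F)]
      simpa using Classical.card_psl_mul (ι := Fin 2) (F := F)
    · exact (Set.ext_iff.1 hord (orderOf g)).1 ⟨g, rfl⟩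
    · exact (Set.ext_iff.1 hord m).2 (Or.inr hm)

end Cfsg.Agent.S3421
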