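import Cfsg.Statements.S3427
import Cfsg.Agent.U33Rec.ChevModel
import Cfsg.Agent.U33Rec.Recognise

set_option autoImplicit false
open Cfsg

namespace Cfsg.Agent.S3427

open Cfsg.Agent U33Rec Subgroup in
/-- The Chevalley group over the field with two elements on 63 points. -/
theorem exists_equiv_W {F : Type*} [Field F] [Fintype F] (hF : Fintype.card F = 2) :
    Nonempty (↥(Cfsg.Lie.chevG2.group F) ≃* W) ∧ Nat.card W = 12096 := by
  haveI : CharP F 2 := charP_of_card_eq_prime hF
  haveI : Finite ↥(Cfsg.Lie.chevG2.group F) := Subtype.finite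
  let f : G2Two.E →+* F := ZMod.castHom (dvd_refl 2) F
  have h1 := Chev.g2_card_group F
  have h2 := Chev.g2_card_group G2Two.E
  simp [hF, Fin.prod_univ_two, ZMod.card] at h1 h2
  have hb : Function.Bijective (Chev.groupMap Chev.facts_chevG2 Chev.facts_chevG2 f) :=
    (Nat.bijective_iff_injective_and_card _).2
      ⟨Chev.groupMap_injective _ _ f, h2.trans h1.symm⟩
  let e : ↥(Cfsg.Lie.chevG2.group G2Two.E) ≃* W :=
    (MonoidHom.ofInjective G2Two.act_injective).trans (MulEquiv.subgroupCongr G2Two.act_range)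
  exact ⟨⟨(MulEquiv.ofBijective _ hb).symm.trans e⟩, by rw [← Nat.card_congr e.toEquiv, h2]⟩

/-- Let F be the field with 2 elements and let M be the Chevalley group of type G₂ over F (a non-simple group of order 12096 whose derived subgroup, of index 2, is isomorphic to PSU(3, 3)). A finite group G is isomorphic to M if and only if G has the same set of element orders and the same order as M. -/
theorem result {G : Type*} [Group G] [Finite G] {F : Type*} [Field F] [Fintype F] (hF : Fintype.card F = 2) :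
    Nonempty (G ≃* ↥(Cfsg.Lie.chevG2.group F)) ↔
      (Set.range (orderOf : G → ℕ) = Set.range (orderOf : ↥(Cfsg.Lie.chevG2.group F) → ℕ) ∧ Nat.card G = Nat.card ↥(Cfsg.Lie.chevG2.group F)) := by
  obtain ⟨⟨e⟩, hW⟩ := exists_equiv_W hF
  open Cfsg.Agent.U33Rec in
  have hrange : Set.range (orderOf : ↥(Cfsg.Lie.chevG2.group F) → ℕ) =
      Set.range (orderOf : W → ℕ) := by
    ext n
    constructor
    · rintro ⟨x, rfl⟩; exact ⟨e x, MulEquiv.orderOf_eq e x⟩
    · rintro ⟨x, rfl⟩; exact ⟨e.symm x, MulEquiv.orderOf_eq e.symm x⟩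
  constructor
  · rintro ⟨f⟩
    refine ⟨?_, Nat.card_congr f.toEquiv⟩
    ext n
    constructor
    · rintro ⟨x, rfl⟩; exact ⟨f x, MulEquiv.orderOf_eq f x⟩
    · rintro ⟨x, rfl⟩; exact ⟨f.symm x, MulEquiv.orderOf_eq f.symm x⟩
  · rintro ⟨hs, hc⟩
    rw [hrange] at hs
    have hG : Nat.card G = 12096 := hc.trans ((Nat.card_congr e.toEquiv).trans hW)
    have key : ∀ n, n = 9 ∨ n = 14 ∨ n = 21 → ∀ x : Agent.U33Rec.W, orderOf x ≠ n := by
      rintro n (rfl | hn) x hx
      · exact Agent.U33Rec.orderOf_ne_nine hW x hx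
      · obtain ⟨k, hk, rfl⟩ : ∃ k, (k = 2 ∨ k = 3) ∧ n = k * 7 := by
          rcases hn with rfl | rfl
          · exact ⟨2, Or.inl rfl, rfl⟩
          · exact ⟨3, Or.inr rfl, rfl⟩
        have h7 : orderOf (x ^ k) = 7 := by
          rw [orderOf_pow, hx]
          rcases hk with rfl | rfl <;> rfl
        have hd := Subgroup.orderOf_dvd_natCard (Subgroup.centralizer ({x ^ k} : Set Agent.U33Rec.W))
          (Subgroup.mem_centralizer_singleton_iff.2 ((Commute.refl x).pow_right k).eq)
        rw [Agent.U33Rec.card_centralizer_W hW h7, hx] at hd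
        rcases hk with rfl | rfl <;> norm_num at hd
    have hne : ∀ n, n = 9 ∨ n = 14 ∨ n = 21 → ∀ x : G, orderOf x ≠ n := fun n hn x hx => by
      obtain ⟨w, hw⟩ : n ∈ Set.range (orderOf : Agent.U33Rec.W → ℕ) := hs ▸ ⟨x, hx⟩
      exact key n hn w hw
    obtain ⟨e₁⟩ := Agent.U33Rec.nonempty_equiv_of_card hG
      (fun z hz => Agent.U33Rec.card_centralizer_of_orders hG.dvd (hne 14 (by norm_num))
        (hne 21 (by norm_num)) hz) (hne 9 (by norm_num))
    obtain ⟨e₂⟩ := Agent.U33Rec.nonempty_equiv_of_card hW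
      (fun z hz => Agent.U33Rec.card_centralizer_W hW hz) (key 9 (by norm_num))
    exact ⟨e₁.trans (e.trans e₂).symm⟩

end Cfsg.Agent.S3427
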