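import Cfsg.Statements.S4422
import Mathlib


set_option autoImplicit false
open Cfsg

namespace Cfsg.Agent.S4422

/-- Primitive divisors of `q^e - 1` are congruent to 1 modulo `e`. Let `q ≥ 2` and `e ≥ 1` be natural numbers and let `m` be a divisor of `q^e - 1` that is coprime to `q^i - 1` for every `1 ≤ i < e` (so `m` divides the primitive part of `q^e - 1`, the largest such divisor). Then `m ≡ 1 (mod e)`. -/
theorem result (q e m : ℕ) (hq : 2 ≤ q) (he : 1 ≤ e)
    (hm : m ∣ q ^ e - 1) (hcop : ∀ i : ℕ, 1 ≤ i → i < e → Nat.Coprime m (q ^ i - 1)) :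
    m % e = 1 % e := by
  have hmd : m ∣ q ^ e - 1 := hm
  have hpos : 0 < q ^ e - 1 := by
    have : 1 < q ^ e := Nat.one_lt_pow (by omega) (by omega)
    omega
  have hm0 : m ≠ 0 := fun h => by rw [h] at hmd; exact hpos.ne' (zero_dvd_iff.mp hmd)
  have key : ∀ r : ℕ, r.Prime → r ∣ m → r % e = 1 % e := by
    intro r hr hrm
    have := Fact.mk hr
    have hq0 : (q : ZMod r) ≠ 0 := by
      intro h0
      have hdq : r ∣ q := (ZMod.natCast_eq_zero_iff q r).mp h0
      have h1 : r ∣ q ^ e := dvd_pow hdq (by omega)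
      have h2 := Nat.dvd_sub h1 (hrm.trans hmd)
      rw [Nat.sub_sub_self (Nat.one_le_pow _ _ (by omega))] at h2
      exact hr.one_lt.ne' (Nat.dvd_one.mp h2)
    have hcast : ∀ i, r ∣ q ^ i - 1 ↔ (q : ZMod r) ^ i = 1 := by
      intro i
      rw [← ZMod.natCast_eq_zero_iff, Nat.cast_sub (Nat.one_le_pow _ _ (by omega)), Nat.cast_pow,
        Nat.cast_one, sub_eq_zero]
    have ho : orderOf (q : ZMod r) = e := by
      rw [orderOf_eq_iff (by omega)]
      refine ⟨(hcast e).mp (hrm.trans hmd), fun i hie hi h1 => ?_⟩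
      exact hr.one_lt.ne' (Nat.dvd_one.mp (hcop i hi hie ▸ Nat.dvd_gcd hrm ((hcast i).mpr h1)))
    have hdvd : e ∣ r - 1 := ho ▸ ZMod.orderOf_dvd_card_sub_one hq0
    exact ((Nat.modEq_iff_dvd' hr.one_le).mpr hdvd).symm
  rw [← Nat.prod_primeFactorsList hm0, List.prod_nat_mod]
  have : ∀ l : List ℕ, (∀ r ∈ l, r % e = 1 % e) → (l.map (· % e)).prod % e = 1 % e := by
    intro l hl
    induction l with
    | nil => rfl
    | cons a l ih =>
      rw [List.map_cons, List.prod_cons, Nat.mul_mod, Nat.mod_mod, hl a (List.mem_cons_self ..),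
        ih (fun r hr => hl r (List.mem_cons_of_mem _ hr)), ← Nat.mul_mod, one_mul]
  exact this _ fun r hr => key r (Nat.prime_of_mem_primeFactorsList hr) (Nat.dvd_of_mem_primeFactorsList hr)

end Cfsg.Agent.S4422
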