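import Cfsg.Statements.S3430
import Cfsg.Agent.LargePrimitive.Main
import Cfsg.Agent.S4422

set_option autoImplicit false
open Cfsg
open Cfsg.Agent

namespace Cfsg.Agent.S3430

theorem of_primitive {q n m : ℕ} (hq : 2 ≤ q) (hn : 2 ≤ n)
    (hm : LargePrimitive.IsPrimitiveDiv q n m) (hbig : n + 1 < m) :
    ∃ p : ℕ, p.Prime ∧ p ∣ q ^ n - 1 ∧ (∀ i : ℕ, 1 ≤ i → i < n → ¬ p ∣ q ^ i - 1) ∧
      (n + 1 < p ∨ p ^ 2 ∣ q ^ n - 1) := by
  by_contra hc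
  push Not at hc
  have hall : ∀ p : ℕ, p.Prime → p ∣ m → p = n + 1 ∧ ¬ p ^ 2 ∣ m := by
    intro p hp hpm
    have hprim : ∀ i : ℕ, 1 ≤ i → i < n → ¬ p ∣ q ^ i - 1 := fun i h1 h2 h =>
      hp.not_dvd_one ((hm.2 i h1 h2) ▸ Nat.dvd_gcd hpm h)
    obtain ⟨hle, hsq⟩ := hc p hp (hpm.trans hm.1) hprim
    have hmod := S4422.result q n p hq (by omega) (hpm.trans hm.1)
      (fun i h1 h2 => (hp.coprime_iff_not_dvd).mpr (hprim i h1 h2))
    rw [Nat.mod_eq_of_lt (by omega : 1 < n)] at hmod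
    refine ⟨?_, fun h => hsq (h.trans hm.1)⟩
    have h2 := hp.two_le
    rcases Nat.lt_or_ge p n with h | h
    · rw [Nat.mod_eq_of_lt h] at hmod; omega
    · rcases eq_or_lt_of_le h with h' | h'
      · rw [← h', Nat.mod_self] at hmod; omega
      · omega
  have hp := Nat.eq_prime_pow_of_unique_prime_dvd (p := n + 1) (by omega : m ≠ 0)
    (fun {r} hr hrm => (hall r hr hrm).1)
  rcases Nat.lt_or_ge m.primeFactorsList.length 2 with hl | hl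
  · have : m ≤ (n + 1) ^ 1 := hp.le.trans (Nat.pow_le_pow_right (by omega) (by omega))
    rw [pow_one] at this
    omega
  · obtain ⟨r, hr, hrm⟩ := Nat.exists_prime_and_dvd (show m ≠ 1 by omega)
    exact (hall r hr hrm).2 ((hall r hr hrm).1 ▸ hp ▸ pow_dvd_pow (n + 1) hl)

theorem degree_two {q : ℕ} (hq : 2 ≤ q) (h1 : ¬ ∃ s t : ℕ, t ≤ 1 ∧ q + 1 = 2 ^ s * 3 ^ t) :
    ∃ p : ℕ, p.Prime ∧ p ∣ q ^ 2 - 1 ∧ (∀ i : ℕ, 1 ≤ i → i < 2 → ¬ p ∣ q ^ i - 1) ∧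
      (2 + 1 < p ∨ p ^ 2 ∣ q ^ 2 - 1) := by
  have e : q ^ 2 - 1 = (q + 1) * (q - 1) := by rw [← Nat.sq_sub_sq, one_pow]
  have hprim : ∀ p : ℕ, p.Prime → p ≠ 2 → p ∣ q + 1 → ∀ i : ℕ, 1 ≤ i → i < 2 → ¬ p ∣ q ^ i - 1 := by
    intro p hp hp2 hd i h1 h2 h
    obtain rfl : i = 1 := by omega
    rw [pow_one] at h
    have h3 := Nat.dvd_sub hd h
    rw [show q + 1 - (q - 1) = 2 by omega] at h3
    exact hp2 ((Nat.prime_dvd_prime_iff_eq hp Nat.prime_two).mp h3)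
  by_cases h5 : ∃ p : ℕ, p.Prime ∧ 3 < p ∧ p ∣ q + 1
  · obtain ⟨p, hp, hp3, hd⟩ := h5
    exact ⟨p, hp, e ▸ hd.mul_right _, hprim p hp (by omega) hd, Or.inl hp3⟩
  by_cases h9 : 9 ∣ q + 1
  · exact ⟨3, Nat.prime_three, e ▸ ((show 3 ∣ 9 by norm_num).trans h9).mul_right _,
      hprim 3 Nat.prime_three (by norm_num) ((show 3 ∣ 9 by norm_num).trans h9),
      Or.inr (e ▸ h9.mul_right _)⟩
  exfalso
  push Not at h5
  have h23 : ∀ {d : ℕ}, d.Prime → d ∣ q + 1 → d = 2 ∨ d = 3 := fun {d} hd hdq => by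
    have := hd.two_le
    have := h5 d hd
    rcases Nat.lt_or_ge 3 d with h | h
    · exact absurd hdq (this h)
    · omega
  refine h1 ?_
  by_cases h3 : 3 ∣ q + 1
  · obtain ⟨c, hc⟩ := h3
    have hc2 := Nat.eq_prime_pow_of_unique_prime_dvd (p := 2) (n := c) (by omega)
      (fun {d} hd hdc => by
        rcases h23 hd (hc ▸ hdc.mul_left 3) with h | h
        · exact h
        · subst h; exact absurd (hc ▸ Nat.mul_dvd_mul_left 3 hdc) h9)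
    exact ⟨c.primeFactorsList.length, 1, le_rfl, by rw [← hc2, hc, pow_one, mul_comm]⟩
  · have hc2 := Nat.eq_prime_pow_of_unique_prime_dvd (p := 2) (n := q + 1) (by omega)
      (fun {d} hd hdc => by
        rcases h23 hd hdc with h | h
        · exact h
        · exact absurd (h ▸ hdc) h3)
    exact ⟨(q + 1).primeFactorsList.length, 0, by omega, by rw [pow_zero, mul_one]; exact hc2⟩


/-- Let q, n ≥ 2 be integers. Unless (n = 2 and q + 1 = 2^s·3^t for some s ≥ 0 and t ≤ 1), or (q = 2 and n ∈ {4, 6, 10, 12, 18}), or (q = 3 and n ∈ {4, 6}), or (q, n) = (5, 6), there is a prime p dividing q^n − 1 but no q^i − 1 with 1 ≤ i < n (a primitive prime divisor), such that p > n + 1 or p² divides q^n − 1. -/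
theorem result (q n : ℕ) (hq : 2 ≤ q) (hn : 2 ≤ n)
    (h1 : ¬ (n = 2 ∧ ∃ s t : ℕ, t ≤ 1 ∧ q + 1 = 2 ^ s * 3 ^ t))
    (h2 : ¬ (q = 2 ∧ (n = 4 ∨ n = 6 ∨ n = 10 ∨ n = 12 ∨ n = 18)))
    (h3 : ¬ (q = 3 ∧ (n = 4 ∨ n = 6))) (h4 : ¬ (q = 5 ∧ n = 6)) :
    ∃ p : ℕ, p.Prime ∧ p ∣ q ^ n - 1 ∧ (∀ i : ℕ, 1 ≤ i → i < n → ¬ p ∣ q ^ i - 1) ∧ (n + 1 < p ∨ p ^ 2 ∣ q ^ n - 1) := by
  rcases eq_or_lt_of_le hn with h | hn3
  · subst h
    exact degree_two hq fun h => h1 ⟨rfl, h⟩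
  by_cases hex : (q, n) ∈ LargePrimitive.exceptions
  · simp only [LargePrimitive.exceptions, List.mem_cons, List.not_mem_nil, or_false,
      Prod.mk.injEq] at hex
    have key : ∀ p : ℕ, p.Prime → p ∣ q ^ n - 1 → n + 1 < p →
        ((List.range (n - 1)).all fun i => (q ^ (i + 1) - 1) % p != 0) = true →
        ∃ p : ℕ, p.Prime ∧ p ∣ q ^ n - 1 ∧ (∀ i : ℕ, 1 ≤ i → i < n → ¬ p ∣ q ^ i - 1) ∧
          (n + 1 < p ∨ p ^ 2 ∣ q ^ n - 1) := by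
      intro p hp hd hlt hall
      refine ⟨p, hp, hd, fun i hi1 hin h => ?_, Or.inl hlt⟩
      have := List.all_eq_true.mp hall (i - 1) (List.mem_range.mpr (by omega))
      rw [Nat.sub_add_cancel hi1, Nat.mod_eq_zero_of_dvd h] at this
      simp at this
    rcases hex with ⟨rfl, rfl⟩ | ⟨rfl, rfl⟩ | ⟨rfl, rfl⟩ | ⟨rfl, rfl⟩ | ⟨rfl, rfl⟩ | ⟨rfl, rfl⟩ |
      ⟨rfl, rfl⟩ | ⟨rfl, rfl⟩ | ⟨rfl, rfl⟩ | ⟨rfl, rfl⟩ | ⟨rfl, rfl⟩ | ⟨rfl, rfl⟩ | ⟨rfl, rfl⟩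
    any_goals (norm_num at h2; done)
    any_goals (norm_num at h3; done)
    any_goals (norm_num at h4; done)
    · exact key 7 (by norm_num) (by norm_num) (by norm_num) (by decide)
    · exact key 17 (by norm_num) (by norm_num) (by norm_num) (by decide)
    · exact key 41 (by norm_num) (by norm_num) (by norm_num) (by decide)
    · exact key 7 (by norm_num) (by norm_num) (by norm_num) (by decide)
    · exact key 13 (by norm_num) (by norm_num) (by norm_num) (by decide)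
  obtain ⟨m, hm, hbig⟩ := LargePrimitive.exists_large hq (by omega) hex
  exact of_primitive hq hn hm (by omega)

end Cfsg.Agent.S3430
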