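import Cfsg.Statements.S3433
import Cfsg.Agent.SpecFive.Main

set_option autoImplicit false
open Cfsg

namespace Cfsg.Agent.S3433

/-- A finite group whose set of element orders is exactly {1, 2, 3, 4, 5} is isomorphic to the alternating group of degree 6, or has a normal elementary abelian 2-subgroup with quotient isomorphic to the alternating group of degree 5. -/
theorem result {G : Type*} [Group G] [Finite G] (h : Set.range (orderOf : G → ℕ) = {k : ℕ | 1 ≤ k ∧ k ≤ 5}) :
    Nonempty (G ≃* ↥(alternatingGroup (Fin 6))) ∨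
      ∃ (N : Subgroup G) (_ : N.Normal), Cfsg.IsElementaryAbelian 2 N ∧ Nonempty (G ⧸ N ≃* ↥(alternatingGroup (Fin 5))) := by
  have hO : SpecFive.Ord G := fun g => (h.subset ⟨g, rfl⟩).2
  have hr : ∀ k, 1 ≤ k → k ≤ 5 → ∃ g : G, orderOf g = k := fun k h1 h2 => h.superset ⟨h1, h2⟩
  obtain ⟨x4, hx4⟩ := hr 4 (by norm_num) (by norm_num)
  obtain ⟨y5, hy5⟩ := hr 5 (by norm_num) (by norm_num)
  obtain ⟨z3, hz3⟩ := hr 3 (by norm_num) (by norm_num)
  exact SpecFive.concl hO hx4 hy5 (hz3 ▸ orderOf_dvd_natCard z3)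

end Cfsg.Agent.S3433
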