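import Cfsg.Statements.S3448


set_option autoImplicit false
open Cfsg

namespace Cfsg.Agent.S3448

theorem a5_pow : ∀ x : alternatingGroup (Fin 5), x ^ 2 = 1 ∨ x ^ 3 = 1 ∨ x ^ 5 = 1 := by decide +kernel

theorem a5_orders (x : alternatingGroup (Fin 5)) : orderOf x ∈ ({1, 2, 3, 5} : Finset ℕ) := by
  have hpos := orderOf_pos x
  rcases a5_pow x with h | h | h
  · rcases (Nat.dvd_prime Nat.prime_two).mp (orderOf_dvd_of_pow_eq_one h) with e | e <;> simp [e]
  · rcases (Nat.dvd_prime Nat.prime_three).mp (orderOf_dvd_of_pow_eq_one h) with e | e <;> simp [e]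
  · rcases (Nat.dvd_prime Nat.prime_five).mp (orderOf_dvd_of_pow_eq_one h) with e | e <;> simp [e]

theorem a5_exists : ∀ n ∈ ({1, 2, 3, 5} : Finset ℕ), ∃ x : alternatingGroup (Fin 5), orderOf x = n := by
  have key : ∀ n ∈ ({1, 2, 3, 5} : Finset ℕ), ∃ x : alternatingGroup (Fin 5),
      x ^ n = 1 ∧ ∀ m ∈ Finset.Ico 1 n, x ^ m ≠ 1 := by decide +kernel
  intro n hn
  obtain ⟨x, h1, h2⟩ := key n hn
  refine ⟨x, (orderOf_eq_iff ?_).mpr ⟨h1, fun m hm hm0 => h2 m (Finset.mem_Ico.mpr ⟨hm0, hm⟩)⟩⟩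
  rcases Nat.eq_zero_or_pos n with rfl | h
  · simp at hn
  · exact h

/-- The set of element orders of the direct product of two copies of the alternating group of degree 5 is {1, 2, 3, 5, 6, 10, 15}. (It is shared by the direct product of two Frobenius groups of orders 50 and 75, so this direct product is not determined by its element orders.) -/
theorem result : Set.range (orderOf : alternatingGroup (Fin 5) × alternatingGroup (Fin 5) → ℕ) = {1, 2, 3, 5, 6, 10, 15} := by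
  ext n
  constructor
  · rintro ⟨⟨x, y⟩, rfl⟩
    rw [Prod.orderOf_mk]
    have key : ∀ a ∈ ({1, 2, 3, 5} : Finset ℕ), ∀ b ∈ ({1, 2, 3, 5} : Finset ℕ),
        Nat.lcm a b ∈ ({1, 2, 3, 5, 6, 10, 15} : Finset ℕ) := by decide +kernel
    simpa using key _ (a5_orders x) _ (a5_orders y)
  · intro hn
    have key : ∀ n ∈ ({1, 2, 3, 5, 6, 10, 15} : Finset ℕ), ∃ a ∈ ({1, 2, 3, 5} : Finset ℕ),
        ∃ b ∈ ({1, 2, 3, 5} : Finset ℕ), Nat.lcm a b = n := by decide +kernel
    obtain ⟨a, ha, b, hb, e⟩ := key n (by simpa using hn)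
    obtain ⟨x, hx⟩ := a5_exists a ha
    obtain ⟨y, hy⟩ := a5_exists b hb
    exact ⟨(x, y), by rw [Prod.orderOf_mk, hx, hy, e]⟩

end Cfsg.Agent.S3448
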