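import Cfsg.Statements.S3449


set_option autoImplicit false
open Cfsg

namespace Cfsg.Agent.S3449

theorem a5_pow : ∀ x : alternatingGroup (Fin 5), x ^ 2 = 1 ∨ x ^ 3 = 1 ∨ x ^ 5 = 1 := by decide +kernel

theorem a5_orders (x : alternatingGroup (Fin 5)) : orderOf x ∈ ({1, 2, 3, 5} : Finset ℕ) := by
  have hpos := orderOf_pos x
  rcases a5_pow x with h | h | h
  · rcases (Nat.dvd_prime Nat.prime_two).mp (orderOf_dvd_of_pow_eq_one h) with e | e <;> simp [e]
  · rcases (Nat.dvd_prime Nat.prime_three).mp (orderOf_dvd_of_pow_eq_one h) with e | e <;> simp [e]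
  · rcases (Nat.dvd_prime Nat.prime_five).mp (orderOf_dvd_of_pow_eq_one h) with e | e <;> simp [e]

theorem a5_exists : ∀ n ∈ ({1, 2, 3, 5} : Finset ℕ), ∃ x : alternatingGroup (Fin 5), orderOf x = n := by
  have key : ∀ n ∈ ({1, 2, 3, 5} : Finset ℕ), ∃ x : alternatingGroup (Fin 5),
      x ^ n = 1 ∧ ∀ m ∈ Finset.Ico 1 n, x ^ m ≠ 1 := by decide +kernel
  intro n hn
  obtain ⟨x, h1, h2⟩ := key n hn
  refine ⟨x, (orderOf_eq_iff ?_).mpr ⟨h1, fun m hm hm0 => h2 m (Finset.mem_Ico.mpr ⟨hm0, hm⟩)⟩⟩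
  rcases Nat.eq_zero_or_pos n with rfl | h
  · simp at hn
  · exact h

/-- The direct product of three copies of the alternating group of degree 5 has exactly the same set of element orders as the cyclic group of order 30, namely the divisors of 30; in particular a direct power of a non-abelian simple group need not be determined by its element orders. -/
theorem result : Set.range (orderOf : alternatingGroup (Fin 5) × alternatingGroup (Fin 5) × alternatingGroup (Fin 5) → ℕ) =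
      Set.range (orderOf : Multiplicative (ZMod 30) → ℕ) := by
  ext n
  have hr : n ∈ Set.range (orderOf : Multiplicative (ZMod 30) → ℕ) ↔ n ∈ Nat.divisors 30 := by
    constructor
    · rintro ⟨x, rfl⟩
      refine Nat.mem_divisors.mpr ⟨?_, by norm_num⟩
      have := orderOf_dvd_natCard x
      rwa [Nat.card_eq_fintype_card, Fintype.card_multiplicative, ZMod.card] at this
    · intro h
      obtain ⟨hd, -⟩ := Nat.mem_divisors.mp h
      refine ⟨Multiplicative.ofAdd ((30 / n : ℕ) : ZMod 30), ?_⟩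
      obtain ⟨c, hc⟩ := hd
      obtain ⟨hn0, hc0⟩ := mul_ne_zero_iff.mp (show n * c ≠ 0 by omega)
      rw [orderOf_ofAdd_eq_addOrderOf, ZMod.addOrderOf_coe _ (by norm_num), hc, Nat.mul_div_cancel_left _ (Nat.pos_of_ne_zero hn0),
        Nat.gcd_mul_left_left, Nat.mul_div_cancel _ (Nat.pos_of_ne_zero hc0)]
  rw [hr]
  constructor
  · rintro ⟨⟨x, y, z⟩, rfl⟩
    rw [Prod.orderOf_mk, Prod.orderOf_mk]
    have key : ∀ a ∈ ({1, 2, 3, 5} : Finset ℕ), ∀ b ∈ ({1, 2, 3, 5} : Finset ℕ), ∀ c ∈ ({1, 2, 3, 5} : Finset ℕ),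
        Nat.lcm a (Nat.lcm b c) ∈ Nat.divisors 30 := by decide +kernel
    exact key _ (a5_orders x) _ (a5_orders y) _ (a5_orders z)
  · intro hn
    have key : ∀ n ∈ Nat.divisors 30, ∃ a ∈ ({1, 2, 3, 5} : Finset ℕ), ∃ b ∈ ({1, 2, 3, 5} : Finset ℕ),
        ∃ c ∈ ({1, 2, 3, 5} : Finset ℕ), Nat.lcm a (Nat.lcm b c) = n := by decide +kernel
    obtain ⟨a, ha, b, hb, c, hc, e⟩ := key n hn
    obtain ⟨x, hx⟩ := a5_exists a ha
    obtain ⟨y, hy⟩ := a5_exists b hb
    obtain ⟨z, hz⟩ := a5_exists c hc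
    exact ⟨(x, y, z), by rw [Prod.orderOf_mk, Prod.orderOf_mk, hx, hy, hz, e]⟩

end Cfsg.Agent.S3449
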