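import Cfsg.Statements.S3452
import Cfsg.Agent.Fg24.IsoPGL.Spectrum
import Cfsg.Agent.Fg24.IsoPGL.Psl
import Cfsg.Agent.Fg24.IsoPGL.Small

set_option autoImplicit false
open Cfsg

namespace Cfsg.Agent.S3452

/-- For F a finite field whose number of elements is a prime or equals 9, the group PGL(2,F) = GL(2,F)/Z(GL(2,F)) is not determined by its set of element orders: for every bound N there is a finite group of order greater than N with exactly the same set of element orders as PGL(2,F). -/
theorem result {F : Type*} [Field F] [Fintype F] (hF : (Fintype.card F).Prime ∨ Fintype.card F = 9) (N : ℕ) :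
    ∃ (H : Type) (_ : Group H) (_ : Fintype H), N < Fintype.card H ∧
      Set.range (orderOf : H → ℕ) = Set.range (orderOf : Matrix.GeneralLinearGroup (Fin 2) F ⧸ Subgroup.center (Matrix.GeneralLinearGroup (Fin 2) F) → ℕ) := by
  classical
  rcases hF with hp | h9
  · set p := Fintype.card F with hpdef
    haveI := Fact.mk hp
    haveI : CharP F p := charP_of_card_eq_prime hpdef.symm
    rcases hp.eq_two_or_odd with h2 | hodd
    · obtain ⟨H, i1, i2, hN, heq⟩ := Fg24.IsoPGL.exists_large_two N
      refine ⟨H, i1, i2, hN, heq.trans ?_⟩
      ext n
      constructor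
      · intro hn
        rcases hn with rfl | rfl | rfl
        · exact ⟨1, orderOf_one⟩
        · exact h2 ▸ Fg24.IsoPGL.exists_order_char (F := F) p
        · obtain ⟨x, hx⟩ := Fg24.IsoPGL.exists_order_add_one (F := F) p
          exact ⟨x, by rw [hx, ← hpdef, h2]⟩
      · rintro ⟨x, rfl⟩
        obtain ⟨g, rfl⟩ := QuotientGroup.mk_surjective x
        have h20 : (2 : F) = 0 := by
          have := CharP.cast_eq_zero F p
          rw [h2] at this
          exact_mod_cast this
        have hsmall : ∀ c : F, c = 0 ∨ c = 1 := fun c => by
          by_contra hc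
          push Not at hc
          have : ({0, 1, c} : Finset F).card ≤ 2 := (Finset.card_le_univ _).trans (by rw [← hpdef, h2])
          rw [Finset.card_eq_three.2 ⟨0, 1, c, zero_ne_one, hc.1.symm, hc.2.symm, rfl⟩] at this
          omega
        set M : Matrix (Fin 2) (Fin 2) F := (g : Matrix (Fin 2) (Fin 2) F) with hM
        have hd : M.det = 1 := (hsmall M.det).resolve_left (Matrix.GeneralLinearGroup.det_ne_zero g)
        have hCH : M * M = (M 0 0 + M 1 1) • M + 1 := by
          rw [Matrix.det_fin_two] at hd
          have hd' : M 0 0 * M 1 1 - M 0 1 * M 1 0 = 1 := hd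
          ext i j
          fin_cases i <;> fin_cases j <;> simp [Matrix.mul_apply, Fin.sum_univ_two] <;>
            first
              | linear_combination (-1 : F) * hd' + (M 0 1 * M 1 0 - M 0 0 * M 1 1) * h20
              | linear_combination (0 : F) * hd'
              | linear_combination (-1 : F) * hd'
              | linear_combination -hd' - h20
              | linear_combination -hd' + h20
              | linear_combination hd' - h20
              | linear_combination hd' + h20
              | linear_combination h20
              | linear_combination -h20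
        rcases hsmall (M 0 0 + M 1 1) with ht | ht
        · have h : orderOf (QuotientGroup.mk g : Matrix.GeneralLinearGroup (Fin 2) F ⧸
              Subgroup.center (Matrix.GeneralLinearGroup (Fin 2) F)) ∣ 2 := by
            rw [Fg24.IsoPGL.orderOf_pgl_dvd_iff]
            exact ⟨1, by rw [← hM, pow_two, hCH, ht, zero_smul, zero_add, map_one]⟩
          rcases (Nat.dvd_prime Nat.prime_two).1 h with e | e <;> simp [e]
        · have h : orderOf (QuotientGroup.mk g : Matrix.GeneralLinearGroup (Fin 2) F ⧸
              Subgroup.center (Matrix.GeneralLinearGroup (Fin 2) F)) ∣ 3 := by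
            rw [Fg24.IsoPGL.orderOf_pgl_dvd_iff]
            refine ⟨1, ?_⟩
            rw [← hM, pow_succ, pow_two, hCH, ht, one_smul, add_mul, one_mul, hCH, ht, one_smul, map_one]
            ext i j
            simp only [Matrix.add_apply]
            linear_combination (M i j) * h20
          rcases (Nat.dvd_prime Nat.prime_three).1 h with e | e <;> simp [e]
    · have h2F : (2 : F) ≠ 0 := fun e => by
        have h := Nat.le_of_dvd two_pos ((CharP.cast_eq_zero_iff F p 2).1 (by exact_mod_cast e))
        have := hp.two_le
        have hp2 : p = 2 := by omega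
        omega
      rw [Fg24.IsoPGL.range_orderOf p h2F]
      by_cases h5 : 5 ≤ p
      · -- move the field to ZMod p
        haveI : CharP (ZMod p) p := ZMod.charP p
        obtain ⟨H, i1, i2, hN, heq⟩ := Fg24.IsoPGL.exists_large_psl (F := ZMod p) p (ZMod.card p) h5 N
        exact ⟨H, i1, i2, hN, heq⟩
      · have h3 : p = 3 := by
          have := hp.two_le
          rcases (show p = 2 ∨ p = 3 ∨ p = 4 by omega) with h | h | h <;> omega
        obtain ⟨H, i1, i2, hN, heq⟩ := Fg24.IsoPGL.exists_large_three N
        refine ⟨H, i1, i2, hN, heq.trans ?_⟩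
        rw [← hpdef, h3]
        ext n
        simp only [Set.mem_insert_iff, Set.mem_singleton_iff, Set.mem_setOf_eq]
        constructor
        · rintro (rfl | rfl | rfl | rfl) <;> norm_num
        · rintro (h | h | h)
          · have := Nat.le_of_dvd (by norm_num) h
            have hn0 : n ≠ 0 := fun e => by subst e; norm_num at h
            interval_cases n <;> simp_all
          · have := Nat.le_of_dvd (by norm_num) h
            have hn0 : n ≠ 0 := fun e => by subst e; norm_num at h
            interval_cases n <;> simp_all
          · omega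
  · haveI : Fact (Nat.Prime 3) := ⟨Nat.prime_three⟩
    haveI : CharP F 3 := by
      obtain ⟨p, hp⟩ := CharP.exists F
      haveI := hp
      obtain ⟨n, hpp, hn⟩ := FiniteField.card F p
      rw [h9] at hn
      have hd : p ∣ 3 ^ 2 := ⟨p ^ ((n : ℕ) - 1), by
        rw [show (3 : ℕ) ^ 2 = 9 by norm_num, hn, ← pow_succ', Nat.sub_add_cancel n.pos]⟩
      have := (Nat.prime_dvd_prime_iff_eq hpp Nat.prime_three).1 (hpp.dvd_of_dvd_pow hd)
      exact this ▸ hp
    have h2F : (2 : F) ≠ 0 := fun e => by
      have h : (3 : ℕ) ∣ 2 := (CharP.cast_eq_zero_iff F 3 2).1 (by exact_mod_cast e)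
      omega
    obtain ⟨H, i1, i2, hN, heq⟩ := Fg24.IsoPGL.exists_large_nine N
    refine ⟨H, i1, i2, hN, heq.trans ?_⟩
    rw [Fg24.IsoPGL.range_orderOf 3 h2F, h9]
    ext n
    simp only [Set.mem_insert_iff, Set.mem_singleton_iff, Set.mem_setOf_eq]
    constructor
    · rintro (rfl | rfl | rfl | rfl | rfl | rfl | rfl) <;> norm_num
    · rintro (h | h | h)
      · have := Nat.le_of_dvd (by norm_num) h
        interval_cases n <;> simp_all
      · have := Nat.le_of_dvd (by norm_num) h
        interval_cases n <;> simp_all
      · omega

end Cfsg.Agent.S3452
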