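import Cfsg.Statements.S3487
import Cfsg.Agent.D4Nat.Crit
import Cfsg.Agent.D4Nat.Eight
import Mathlib.GroupTheory.SemidirectProduct

/-!
Extensions of powers of the eight dimensional module by `³D₄(2)` have the same element orders.
-/

set_option autoImplicit false
open Cfsg

namespace Cfsg.Agent.S3487

open Cfsg.Lie Cfsg.Agent.D4Nat
open scoped Matrix MatrixGroups

universe u

variable {K : Type u} [Field K] [Fintype K] [CharP K 2]

/-- The module: a power of the eight dimensional one. -/
abbrev W (K : Type u) (N : ℕ) : Type u := Multiplicative (Fin N → I8 → K)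

/-- The action on the module. -/
noncomputable def act8 (hK : Fintype.card K = 8) (N : ℕ) :
    ↥(twistedD4 K 2) →* MulAut (W K N) :=
  MonoidHom.mk'
    (fun g =>
      { toFun := fun v => Multiplicative.ofAdd fun j =>
          (rep (⟨g.1, group_le K hK g.2⟩ : ↥(chevD4.group K)) : Matrix I8 I8 K) *ᵥ v.toAdd j
        invFun := fun v => Multiplicative.ofAdd fun j =>
          (((rep (⟨g.1, group_le K hK g.2⟩ : ↥(chevD4.group K)))⁻¹ : GL I8 K) : Matrix I8 I8 K) *ᵥ
            v.toAdd j
        left_inv := fun v => by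
          simp [Matrix.mulVec_mulVec]
        right_inv := fun v => by
          simp [Matrix.mulVec_mulVec]
        map_mul' := fun v w => by
          refine Multiplicative.toAdd.injective (funext fun j => ?_)
          simp [Matrix.mulVec_add] })
    fun g h => by
      refine MulEquiv.ext fun v => Multiplicative.toAdd.injective (funext fun j => ?_)
      show (rep (Subgroup.inclusion (group_le K hK) (g * h)) : Matrix I8 I8 K) *ᵥ v.toAdd j =
        (rep (Subgroup.inclusion (group_le K hK) g) : Matrix I8 I8 K) *ᵥ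
          ((rep (Subgroup.inclusion (group_le K hK) h) : Matrix I8 I8 K) *ᵥ v.toAdd j)
      rw [map_mul, map_mul, Units.val_mul, Matrix.mulVec_mulVec]

theorem orderOf_cases (hK : Fintype.card K = 8) (N : ℕ)
    (z : W K N ⋊[act8 hK N] ↥(twistedD4 K 2)) :
    orderOf z = orderOf z.right ∨
      (orderOf z = 2 * orderOf z.right ∧ orderOf z.right ∈ [1, 2, 3, 4, 6, 7, 14]) := by
  classical
  set n := orderOf z.right with hn
  set M : Matrix I8 I8 K :=
    (rep (⟨z.right.1, group_le K hK z.right.2⟩ : ↥(chevD4.group K)) : Matrix I8 I8 K) with hM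
  have hr : ∀ i : ℕ, (z ^ i).right = z.right ^ i := fun i =>
    map_pow SemidirectProduct.rightHom z i
  have hpow : ∀ (i : ℕ) (j : Fin N),
      Multiplicative.toAdd (z ^ i).left j = (∑ l ∈ Finset.range i, M ^ l) *ᵥ z.left.toAdd j := by
    intro i j
    induction i with
    | zero => simp
    | succ i ih =>
      rw [pow_succ', SemidirectProduct.mul_left, Finset.sum_range_succ', pow_zero, Matrix.add_mulVec,
        Matrix.one_mulVec, add_comm ((∑ l ∈ Finset.range i, M ^ (l + 1)) *ᵥ z.left.toAdd j),
        toAdd_mul, Pi.add_apply]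
      congr 1
      show M *ᵥ Multiplicative.toAdd (z ^ i).left j = _
      rw [ih, Matrix.mulVec_mulVec, Finset.mul_sum]
      simp only [pow_succ']
  have hdvd : n ∣ orderOf z := orderOf_map_dvd SemidirectProduct.rightHom z
  have h2 : orderOf z ∣ n * 2 := by
    refine orderOf_dvd_of_pow_eq_one (SemidirectProduct.ext ?_ ?_)
    · refine Multiplicative.toAdd.injective (funext fun j => ?_)
      rw [hpow, Finset.range_eq_Ico, mul_two, ← Finset.sum_Ico_consecutive _ (Nat.zero_le n) (by omega)]
      rw [Finset.sum_Ico_eq_sum_range (m := n), Nat.add_sub_cancel]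
      have hMn : M ^ n = 1 := by
        rw [hM, ← Units.val_pow_eq_pow_val, ← map_pow]
        have : (⟨z.right.1, group_le K hK z.right.2⟩ : ↥(chevD4.group K)) ^ n = 1 :=
          Subtype.ext (by
            rw [Subgroup.coe_pow]
            show (z.right.1) ^ n = 1
            rw [← Subgroup.coe_pow, hn, pow_orderOf_eq_one, Subgroup.coe_one])
        rw [this, map_one, Units.val_one]
      simp only [pow_add, hMn, one_mul, ← Finset.range_eq_Ico]
      rw [CharTwo.add_self_eq_zero, Matrix.zero_mulVec]
      rfl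
    · rw [hr, SemidirectProduct.one_right, pow_mul, hn, pow_orderOf_eq_one, one_pow]
  obtain ⟨q, hq⟩ := hdvd
  have hn0 : 0 < n := orderOf_pos z.right
  rw [hq] at h2
  rcases (Nat.dvd_prime Nat.prime_two).1 (Nat.dvd_of_mul_dvd_mul_left hn0 h2) with rfl | rfl
  · exact Or.inl (by rw [hq, mul_one])
  · rcases criterion hK z.right with h | h
    · left
      refine Nat.dvd_antisymm (orderOf_dvd_of_pow_eq_one (SemidirectProduct.ext ?_ ?_)) ⟨2, hq⟩
      · refine Multiplicative.toAdd.injective (funext fun j => ?_)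
        rw [hpow, h, Matrix.zero_mulVec]
        rfl
      · rw [hr, pow_orderOf_eq_one, SemidirectProduct.one_right]
    · exact Or.inr ⟨by rw [hq, mul_comm], h⟩

theorem exists_double (hK : Fintype.card K = 8) {n : ℕ} (hn : n ∈ [1, 2, 3, 4, 6, 7, 14]) :
    ∃ g : ↥(twistedD4 K 2), orderOf g = 2 * n := by
  obtain ⟨b, hb, d, hd0, hd, e⟩ : ∃ b ∈ [8, 12, 28], ∃ d, 0 < d ∧ d ∣ b ∧ b / d = 2 * n := by
    simp only [List.mem_cons, List.not_mem_nil, or_false] at hn
    rcases hn with rfl | rfl | rfl | rfl | rfl | rfl | rfl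
    exacts [⟨8, by simp, 4, by norm_num⟩, ⟨8, by simp, 2, by norm_num⟩, ⟨12, by simp, 2, by norm_num⟩,
      ⟨8, by simp, 1, by norm_num⟩, ⟨12, by simp, 1, by norm_num⟩, ⟨28, by simp, 2, by norm_num⟩,
      ⟨28, by simp, 1, by norm_num⟩]
  obtain ⟨g, hg⟩ := exists_order K hK hb
  exact ⟨g ^ d, by rw [orderOf_pow_of_dvd hd0.ne' (hg.symm ▸ hd), hg, e]⟩

/-- A copy of `Fin c` without operations. -/
def Copy (c : ℕ) : Type := Fin c

/-- The triality group ³D₄(2) is not determined by its set of element orders, not even up to finitely many groups: for K the field with 8 elements and every bound N there is a finite group of order greater than N with exactly the same set of element orders as ³D₄(2) (realised over K). -/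
theorem result {K : Type*} [Field K] [Fintype K] (hK : Fintype.card K = 8) (N : ℕ) : ∃ (H : Type) (_ : Group H) (_ : Fintype H), N < Fintype.card H ∧ Set.range (orderOf : H → ℕ) = Set.range (orderOf : Cfsg.Lie.twistedD4 K 2 → ℕ) := by
  classical
  haveI : Fact (Nat.Prime 2) := ⟨Nat.prime_two⟩
  haveI : CharP K 2 := charP_of_card_eq_prime_pow (f := 3) (by rw [hK]; norm_num)
  let H₀ := W K N ⋊[act8 hK N] ↥(twistedD4 K 2)
  haveI : Finite H₀ := Finite.of_equiv _ SemidirectProduct.equivProd.symm
  obtain ⟨c, ⟨e⟩⟩ := Finite.exists_equiv_fin H₀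
  let e' : Copy c ≃ H₀ := e.symm
  letI : Group (Copy c) := Equiv.group e'
  letI : Fintype (Copy c) := inferInstanceAs (Fintype (Fin c))
  let E : Copy c ≃* H₀ := Equiv.mulEquiv e'
  refine ⟨Copy c, inferInstance, inferInstance, ?_, ?_⟩
  · have h1 : Nat.card H₀ = c := by rw [Nat.card_congr e, Nat.card_fin]
    rw [show Fintype.card (Copy c) = c from Fintype.card_fin c, ← h1, Nat.card_congr SemidirectProduct.equivProd, Nat.card_prod]
    have h2 : 2 ^ N ≤ Nat.card (W K N) := by
      show 2 ^ N ≤ Nat.card (Fin N → I8 → K)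
      rw [Nat.card_fun, Nat.card_fun, Nat.card_eq_fintype_card (α := K), hK]
      simp only [Nat.card_eq_fintype_card, Fintype.card_fin, Fintype.card_sum]
      exact Nat.pow_le_pow_left (by norm_num) _
    calc N < 2 ^ N := Nat.lt_two_pow_self
      _ ≤ Nat.card (W K N) := h2
      _ ≤ _ := Nat.le_mul_of_pos_right _ Nat.card_pos
  · apply Set.eq_of_subset_of_subset
    · rintro _ ⟨h, rfl⟩
      rw [← E.orderOf_eq h]
      rcases orderOf_cases hK N (E h) with h1 | ⟨h1, h2⟩
      · exact ⟨_, h1.symm⟩
      · rw [h1]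
        obtain ⟨g, hg⟩ := exists_double hK h2
        exact ⟨g, hg⟩
    · rintro _ ⟨g, rfl⟩
      refine ⟨E.symm (SemidirectProduct.inr g), ?_⟩
      rw [E.symm.orderOf_eq, orderOf_injective _ SemidirectProduct.inr_injective]

end Cfsg.Agent.S3487
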