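import Cfsg.Statements.S3491
import Cfsg.Agent.Isospectral.Affine960

set_option autoImplicit false
open Cfsg

namespace Cfsg.Agent.S3491

noncomputable local instance gfFintype : Fintype (GaloisField 2 2) := Fintype.ofFinite _

/-- The alternating group of degree 6 is not determined by its set of element orders, not even up to finitely many groups: for every bound N there is a finite group of order greater than N with exactly the same set of element orders as the alternating group of degree 6. -/
theorem result (N : ℕ) : ∃ (H : Type) (_ : Group H) (_ : Fintype H), N < Fintype.card H ∧ Set.range (orderOf : H → ℕ) = Set.range (orderOf : alternatingGroup (Fin 6) → ℕ) := by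
  obtain ⟨H, i1, i2, h1, h2⟩ := Isospectral.exists_large (Affine64.hasElemNormal (F := GaloisField 2 2)) N
  refine ⟨H, i1, i2, h1, h2.trans ?_⟩
  rw [Affine64.range_eq' (by rw [← Nat.card_eq_fintype_card, GaloisField.card 2 2 (by norm_num)]; norm_num),
    A6Orders.range_eq]

end Cfsg.Agent.S3491
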