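import Cfsg.Statements.S3493
import Cfsg.Agent.ExtremelyPrim.Socle
-- import your own Cfsg.Agent.* helpers here

set_option autoImplicit false
open Cfsg

namespace Cfsg.Agent.S3493

open MulAction Subgroup ExtremelyPrim in
theorem false_of_meets {G : Type*} [Group G] [Finite G] {Ω : Type*} [Fintype Ω] [MulAction G Ω]
    [FaithfulSMul G Ω] [Nontrivial Ω] (hprim : IsPreprimitive G Ω) (hep : EPrim G Ω)
    {α : Ω} (hH : stabilizer G α ≠ ⊥) (N : Subgroup G) [N.Normal] (hN : N ≠ ⊥)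
    (hNt : ∀ x : Ω, ∃ n ∈ N, n • α = x)
    (hmeet : N ⊓ stabilizer G α ≠ ⊥) (T : Subgroup G) (hTN : T ≤ N) (hTs : IsSimpleGroup T)
    (hTna : ¬ ∀ a b : T, a * b = b * a)
    (hnorm : ∀ n ∈ N, ∀ g, cj n (cj g T) = cj g T) (hsup : N = ⨆ g, cj g T)
    (hcomm : ∀ g h, cj g T ≠ cj h T → ∀ a ∈ cj g T, ∀ b ∈ cj h T, a * b = b * a)
    (hmoved : ∃ h ∈ stabilizer G α, cj h T ≠ T) : False := by
  classical
  set H := stabilizer G α with hHdef
  set R := N ⊓ H with hR
  have hRn : H ≤ normalizer (R : Set G) := by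
    intro g hg
    rw [mem_normalizer_iff]
    intro n
    refine ⟨fun hn => ⟨‹N.Normal›.conj_mem n hn.1 g, H.mul_mem (H.mul_mem hg hn.2) (H.inv_mem hg)⟩,
      fun hn => ⟨?_, ?_⟩⟩
    · simpa [mul_assoc] using ‹N.Normal›.conj_mem _ hn.1 g⁻¹
    · simpa [mul_assoc] using H.mul_mem (H.mul_mem (H.inv_mem hg) hn.2) hg
  have hdec : ∀ g : G, ∃ n ∈ N, ∃ h ∈ H, g = n * h := fun g => by
    obtain ⟨n, hn, e⟩ := hNt (g • α)
    exact ⟨n, hn, n⁻¹ * g, by rw [hHdef, mem_stabilizer_iff, mul_smul, ← e, inv_smul_smul],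
      by group⟩
  have hcjH : ∀ g : G, ∃ h ∈ H, cj g T = cj h T := fun g => by
    obtain ⟨n, hn, h, hh, rfl⟩ := hdec g
    exact ⟨h, hh, by rw [← cj_cj, hnorm n hn]⟩
  have hTH : ¬ T ≤ H := by
    intro hle
    have hNH : N ≤ H := by
      rw [hsup]
      refine iSup_le fun g => ?_
      obtain ⟨h, hh, e⟩ := hcjH g
      rw [e]
      intro x hx
      obtain ⟨t, ht, rfl⟩ := exists_of_mem_cj hx
      exact H.mul_mem (H.mul_mem hh (hle ht)) (H.inv_mem hh)
    exact hN (le_bot_iff.mp (Core.stabilizer_normalCore_eq_bot hprim.toIsPretransitive α ▸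
      normal_le_normalCore.mpr hNH))
  have key : ∀ h ∈ H, ∀ t ∈ T, ∃ u ∈ cj h T, t * u ∈ H := by
    intro h hh t ht
    by_cases htH : t ∈ H
    · exact ⟨1, one_mem _, by rwa [mul_one]⟩
    have hβ : t⁻¹ • α ≠ α := fun e => htH ((H.inv_mem_iff).mp (mem_stabilizer_iff.mpr e))
    obtain ⟨n, hn, hnfix⟩ := transitive_of_normal hprim hep hmeet inf_le_right hRn
      (mem_orbit_stab_iff.mpr ⟨h, hh, rfl⟩ : h • t⁻¹ • α ∈ orbit (stabilizer G α) (t⁻¹ • α))
    set h' := n⁻¹ * h with hh'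
    have hh'H : h' ∈ H := H.mul_mem (H.inv_mem hn.2) hh
    have hfix : h' • t⁻¹ • α = t⁻¹ • α := by rw [hh', mul_smul, ← hnfix, inv_smul_smul]
    have hcj : cj h' T = cj h T := by rw [hh', ← cj_cj, hnorm _ (N.inv_mem hn.1)]
    refine ⟨h' * t⁻¹ * h'⁻¹, hcj ▸ conj_mem_cj (T.inv_mem ht), mem_stabilizer_iff.mpr ?_⟩
    rw [mul_smul, mul_smul, mul_smul, inv_smul_eq_iff.mpr (mem_stabilizer_iff.mp hh'H).symm, hfix,
      smul_inv_smul]
  obtain ⟨h0, hh0, hh0T⟩ := hmoved
  have hT1 : cj 1 T = T := cj_one T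
  have hcommT : ∀ g, cj g T ≠ T → ∀ b ∈ cj g T, ∀ a ∈ T, b * a = a * b := fun g hg b hb a ha =>
    hcomm g 1 (by rwa [hT1]) b hb a (by rwa [hT1])
  have hTHbot : T ⊓ H = ⊥ := by
    have hn : ((T ⊓ H).subgroupOf T).Normal := by
      refine ⟨fun s hs t => ?_⟩
      obtain ⟨u, hu, htu⟩ := key h0 hh0 t t.2
      obtain ⟨hsT, hsH⟩ := mem_subgroupOf.mp hs
      refine mem_subgroupOf.mpr ⟨(t * s * t⁻¹).2, ?_⟩
      have hus : u * (s : G) = (s : G) * u := hcommT h0 hh0T u hu _ hsT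
      have e : (t : G) * (s : G) * (t : G)⁻¹ = ((t : G) * u) * s * ((t : G) * u)⁻¹ := by
        rw [mul_inv_rev, mul_assoc (t : G) u, hus]
        group
      rw [Subgroup.coe_mul, Subgroup.coe_mul, Subgroup.coe_inv, e]
      exact H.mul_mem (H.mul_mem htu hsH) (H.inv_mem htu)
    rcases hTs.eq_bot_or_eq_top_of_normal _ hn with e | e
    · refine eq_bot_iff.mpr fun s hs => ?_
      have h1 : (⟨s, hs.1⟩ : T) ∈ (T ⊓ H).subgroupOf T := mem_subgroupOf.mpr hs
      rw [e, mem_bot, Subtype.ext_iff] at h1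
      exact mem_bot.mpr h1
    · refine absurd (fun s hs => ?_) hTH
      have h1 : (⟨s, hs⟩ : T) ∈ (T ⊓ H).subgroupOf T := by rw [e]; exact mem_top _
      exact (mem_subgroupOf.mp h1).2
  -- there are exactly two conjugates
  have htwo : ∀ g, cj g T = T ∨ cj g T = cj h0 T := by
    intro g
    obtain ⟨h, hh, e⟩ := hcjH g
    rw [e]
    by_contra! hne
    refine hTna fun a b => Subtype.ext ?_
    obtain ⟨u, hu, hau⟩ := key h0 hh0 a a.2
    obtain ⟨v, hv, hbv⟩ := key h hh b b.2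
    have huv : u * v = v * u := hcomm h0 h hne.2.symm u hu v hv
    have hub : u * (b : G) = b * u := hcommT h0 hh0T u hu _ b.2
    have hva : v * (a : G) = a * v := hcommT h hne.1 v hv _ a.2
    have h1 : ((a : G) * u) * ((b : G) * v) = (a : G) * b * (u * v) := by
      simp only [mul_assoc]
      rw [← mul_assoc u, hub, mul_assoc]
    have h2 : ((b : G) * v) * ((a : G) * u) = (b : G) * a * (u * v) := by
      simp only [mul_assoc]
      rw [← mul_assoc v, hva, huv, mul_assoc]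
    have h3 : ((a : G) * b) * ((b : G) * a)⁻¹ ∈ T ⊓ H := by
      refine ⟨T.mul_mem (T.mul_mem a.2 b.2) (T.inv_mem (T.mul_mem b.2 a.2)), ?_⟩
      have := H.mul_mem (H.mul_mem hau hbv) (H.inv_mem (H.mul_mem hbv hau))
      rw [h1, h2] at this
      simpa [mul_assoc] using this
    rw [hTHbot, mem_bot] at h3
    exact mul_inv_eq_one.mp h3
  have hsq : cj h0 (cj h0 T) = T := by
    rw [cj_cj]
    refine (htwo (h0 * h0)).resolve_right fun e => hh0T ?_
    rw [← cj_cj] at e
    exact cj_inj e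
  -- `T` is transitive
  have hother : ∀ b ∈ cj h0 T, ∃ c ∈ T, b • α = c • α := by
    intro b hb
    obtain ⟨t, ht, rfl⟩ := exists_of_mem_cj hb
    obtain ⟨u, hu, htu⟩ := key h0 hh0 t ht
    have hc : h0 * u * h0⁻¹ ∈ T := hsq.le (conj_mem_cj hu)
    refine ⟨(h0 * u * h0⁻¹)⁻¹, T.inv_mem hc, ?_⟩
    have hcomm' := hcommT h0 hh0T _ (conj_mem_cj (g := h0) ht) _ hc
    have h1 : (h0 * u * h0⁻¹) • (h0 * t * h0⁻¹) • α = α := by
      rw [← mul_smul, ← hcomm', show (h0 * t * h0⁻¹) * (h0 * u * h0⁻¹) = h0 * (t * u) * h0⁻¹ by group]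
      exact mem_stabilizer_iff.mp (H.mul_mem (H.mul_mem hh0 htu) (H.inv_mem hh0))
    exact eq_inv_smul_iff.mpr h1
  have hreg : ∀ x : Ω, ∃ t ∈ T, t • α = x := by
    intro x
    obtain ⟨n, hn, rfl⟩ := hNt x
    have hle : N ≤ T ⊔ cj h0 T := by
      rw [hsup]
      refine iSup_le fun g => ?_
      rcases htwo g with e | e <;> rw [e]
      · exact le_sup_left
      · exact le_sup_right
    have hTnorm : T ≤ normalizer ((cj h0 T : Subgroup G) : Set G) :=
      le_trans (b := centralizer ((cj h0 T : Subgroup G) : Set G))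
        (fun a ha b hb => hcommT h0 hh0T b hb a ha) (centralizer_le_normalizer _)
    have hn' : n ∈ ((T ⊔ cj h0 T : Subgroup G) : Set G) := hle hn
    rw [coe_mul_of_left_le_normalizer_right _ _ hTnorm, Set.mem_mul] at hn'
    obtain ⟨a, ha, b, hb, rfl⟩ := hn'
    obtain ⟨c, hc, e⟩ := hother b hb
    exact ⟨a * c, T.mul_mem ha hc, by rw [mul_smul, mul_smul, e]⟩
  have hfree : ∀ t ∈ T, t • α = α → t = 1 := fun t ht e => by
    have : t ∈ T ⊓ H := ⟨ht, mem_stabilizer_iff.mpr e⟩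
    rwa [hTHbot, mem_bot] at this
  have hinj : ∀ a ∈ T, ∀ b ∈ T, a • α = b • α → a = b := fun a ha b hb e => by
    have := hfree _ (T.mul_mem (T.inv_mem hb) ha) (by rw [mul_smul, e, inv_smul_smul])
    exact (inv_mul_eq_one.mp this).symm
  have hconj : ∀ h ∈ H, ∀ x : G, h • x • α = (h * x * h⁻¹) • α := fun h hh x => by
    rw [mul_smul, mul_smul, inv_smul_eq_iff.mpr (mem_stabilizer_iff.mp hh).symm]
  refine false_of_regular_simple hprim hep hH T hTs hTna hreg hfree ?_ ?_
  · intro t ht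
    obtain ⟨u, hu, htu⟩ := key h0 hh0 t ht
    refine ⟨t * u, htu, fun x hx => ?_⟩
    have hux : u * x = x * u := hcommT h0 hh0T u hu x hx
    rw [← mul_smul, show t * u * x = t * x * t⁻¹ * (t * u) by
      rw [mul_assoc, hux]
      group, mul_smul, mem_stabilizer_iff.mp htu]
  · intro h hh
    rcases eq_or_ne (cj h T) T with e | e
    · refine Or.inl fun a ha b hb a' ha' b' hb' ea eb => ?_
      rw [hconj h hh] at ea eb ⊢
      rw [← hinj _ (e.le (conj_mem_cj ha)) a' ha' ea, ← hinj _ (e.le (conj_mem_cj hb)) b' hb' eb]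
      congr 1
      group
    · refine Or.inr fun a ha b hb a' ha' b' hb' ea eb => ?_
      rw [hconj h hh] at ea eb ⊢
      have hA := conj_mem_cj (g := h) ha
      rw [show h * (a * b) * h⁻¹ = (h * a * h⁻¹) * (h * b * h⁻¹) by group, mul_smul, eb, ← mul_smul,
        hcommT h e _ hA b' hb', mul_smul, ea, ← mul_smul]


/-- An extremely primitive permutation group is of affine type or almost simple. Let a finite group G act faithfully and primitively on a finite set Ω with at least two points, in such a way that every point stabilizer acts primitively on each of its own orbits in Ω (an orbit of size one counts as primitive). Then either G has a non-trivial abelian normal subgroup whose elements other than the identity fix no point (affine type), or G has a non-abelian simple normal subgroup with trivial centralizer (almost simple). -/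
theorem result {G : Type*} [Group G] [Finite G] {Ω : Type*} [Fintype Ω] [MulAction G Ω] [FaithfulSMul G Ω] (hΩ : 2 ≤ Fintype.card Ω) (hprim : MulAction.IsPreprimitive G Ω) (hep : ∀ (α : Ω) (ω : Ω), MulAction.IsPreprimitive (MulAction.stabilizer G α) (MulAction.orbit (MulAction.stabilizer G α) ω)) :
    (∃ N : Subgroup G, N.Normal ∧ N ≠ ⊥ ∧ IsMulCommutative N ∧ ∀ ω : Ω, MulAction.stabilizer N ω = ⊥) ∨ (∃ T : Subgroup G, T.Normal ∧ IsSimpleGroup T ∧ ¬ IsMulCommutative T ∧ Subgroup.centralizer (T : Set G) = ⊥) := by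
  classical
  have : Nontrivial Ω := Fintype.one_lt_card_iff_nontrivial.mp hΩ
  obtain ⟨α⟩ : Nonempty Ω := inferInstance
  have := hprim
  have hreg : ∀ N : Subgroup G, N.Normal → N ≠ ⊥ → ∀ x : Ω, ∃ n ∈ N, n • α = x := by
    intro N hNn hN x
    have hfp : MulAction.fixedPoints N Ω ≠ .univ := fun h => hN (eq_bot_iff.mpr fun l hl =>
      Subgroup.mem_bot.mpr (eq_of_smul_eq_smul (α := Ω) fun y => by
        rw [one_smul]
        exact (h ▸ Set.mem_univ y : y ∈ MulAction.fixedPoints N Ω) ⟨l, hl⟩))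
    have := MulAction.IsQuasiPreprimitive.isPretransitive_of_normal hfp
    obtain ⟨⟨n, hn⟩, e⟩ := MulAction.exists_smul_eq N α x
    exact ⟨n, hn, e⟩
  by_cases hab : ∃ N : Subgroup G, N.Normal ∧ N ≠ ⊥ ∧ IsMulCommutative N
  · obtain ⟨N, hNn, hN, hNc⟩ := hab
    refine Or.inl ⟨N, hNn, hN, hNc, fun ω => eq_bot_iff.mpr fun n hn => Subgroup.mem_bot.mpr
      (Subtype.ext (eq_of_smul_eq_smul (α := Ω) fun x => ?_))⟩
    obtain ⟨a, ha, rfl⟩ := hreg N hNn hN x
    obtain ⟨b, hb, hbω⟩ := hreg N hNn hN ω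
    have hc : ∀ c : G, c ∈ N → (n : G) * c = c * n := fun c hc =>
      congrArg Subtype.val (hNc.1.1 n ⟨c, hc⟩)
    have hnω : (n : G) • ω = ω := MulAction.mem_stabilizer_iff.mp hn
    show (n : G) • a • α = (1 : G) • a • α
    have hα : α = b⁻¹ • ω := eq_inv_smul_iff.mpr hbω
    rw [one_smul, hα, ← mul_smul a, ← mul_smul, hc _ (N.mul_mem ha (N.inv_mem hb)), mul_smul, hnω]
  have hH : MulAction.stabilizer G α ≠ ⊥ := by
    intro e
    have hc := ExtremelyPrim.isCoatom_stab hprim α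
    rw [e] at hc
    have hnt : Nontrivial G := by
      by_contra h
      rw [not_nontrivial_iff_subsingleton] at h
      exact hc.1 (Subsingleton.elim _ _)
    obtain ⟨g, hg⟩ := exists_ne (1 : G)
    have htop : Subgroup.zpowers g = ⊤ := hc.2 _ (bot_lt_iff_ne_bot.mpr (by simpa using hg))
    refine hab ⟨⊤, inferInstance, top_ne_bot, ⟨⟨fun a b => Subtype.ext ?_⟩⟩⟩
    have hmem : ∀ c : G, c ∈ Subgroup.zpowers g := fun c => htop.ge (Subgroup.mem_top c)
    obtain ⟨i, hi⟩ := Subgroup.mem_zpowers_iff.mp (hmem (a : G))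
    obtain ⟨j, hj⟩ := Subgroup.mem_zpowers_iff.mp (hmem (b : G))
    show (a : G) * b = b * a
    rw [← hi, ← hj, ← zpow_add, ← zpow_add, add_comm]
  have hGnt : Nontrivial G := by
    obtain ⟨⟨x, hx⟩, hx1⟩ := @exists_ne _ ((Subgroup.nontrivial_iff_ne_bot _).mpr hH)
      (1 : MulAction.stabilizer G α)
    exact ⟨x, 1, fun e => hx1 (Subtype.ext e)⟩
  obtain ⟨N, hN⟩ := Core.exists_isMinNormal (G := G)
  have hNn := hN.normal
  have hNna : ¬ ∀ a ∈ N, ∀ b ∈ N, a * b = b * a := fun h =>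
    hab ⟨N, hNn, hN.ne_bot, ⟨⟨fun a b => Subtype.ext (h a a.2 b b.2)⟩⟩⟩
  obtain ⟨T, hTN, hTs, hTna, hnorm, hsup, hcomm, hdisj⟩ := ExtremelyPrim.exists_factor hN hNna
  have hNt := hreg N hNn hN.ne_bot
  by_cases hmoved : ∃ h ∈ MulAction.stabilizer G α, ExtremelyPrim.cj h T ≠ T
  · exfalso
    rcases eq_or_ne (N ⊓ MulAction.stabilizer G α) ⊥ with hfree | hmeet
    · exact ExtremelyPrim.false_of_regular_nonsimple hprim hep hH N hfree T hTN hTs hTna hcomm hdisj
        hmoved
    · exact false_of_meets hprim hep hH N hN.ne_bot hNt hmeet T hTN hTs hTna hnorm hsup hcomm hmoved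
  · push Not at hmoved
    have hNT : N = T := by
      refine le_antisymm ?_ hTN
      rw [hsup]
      refine iSup_le fun g => ?_
      obtain ⟨n, hn, e⟩ := hNt (g • α)
      have hh : n⁻¹ * g ∈ MulAction.stabilizer G α := by
        rw [MulAction.mem_stabilizer_iff, mul_smul, ← e, inv_smul_smul]
      have h1 : ExtremelyPrim.cj g T = ExtremelyPrim.cj (n⁻¹ * g) T := by
        rw [← ExtremelyPrim.cj_cj, hnorm _ (N.inv_mem hn)]
      rw [h1, hmoved _ hh]
    subst hNT
    refine Or.inr ⟨N, hNn, hTs, fun hc => hTna fun a b => hc.1.1 a b, ?_⟩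
    by_contra hC
    set C := Subgroup.centralizer (N : Set G) with hCdef
    have hcoat := ExtremelyPrim.isCoatom_stab hprim α
    have hcore := Core.stabilizer_normalCore_eq_bot hprim.toIsPretransitive α
    have hCt := hreg C inferInstance hC
    have hfree : ∀ t ∈ N, t • α = α → t = 1 := by
      intro t ht e
      refine eq_of_smul_eq_smul (α := Ω) fun x => ?_
      obtain ⟨c, hc, rfl⟩ := hCt x
      rw [one_smul, ← mul_smul, hc t ht, mul_smul, e]
    have hconj : ∀ h ∈ MulAction.stabilizer G α, ∀ x : G, h • x • α = (h * x * h⁻¹) • α :=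
      fun h hh x => by
        rw [mul_smul, mul_smul, inv_smul_eq_iff.mpr (MulAction.mem_stabilizer_iff.mp hh).symm]
    refine ExtremelyPrim.false_of_regular_simple hprim hep hH N hTs hTna hNt hfree ?_ ?_
    · intro t ht
      obtain ⟨c, hc, e⟩ := hCt (t⁻¹ • α)
      refine ⟨t * c, MulAction.mem_stabilizer_iff.mpr (by rw [mul_smul, e, smul_inv_smul]),
        fun x hx => ?_⟩
      rw [mul_smul, ← mul_smul c, ← hc x hx, mul_smul, e, ← mul_smul, ← mul_smul]
    · intro h hh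
      refine Or.inl fun a ha b hb a' ha' b' hb' ea eb => ?_
      have hinj : ∀ a ∈ N, ∀ b ∈ N, a • α = b • α → a = b := fun a ha b hb e => by
        have := hfree _ (N.mul_mem (N.inv_mem hb) ha) (by rw [mul_smul, e, inv_smul_smul])
        exact (inv_mul_eq_one.mp this).symm
      rw [hconj h hh] at ea eb ⊢
      rw [← hinj _ (hNn.conj_mem a ha h) a' ha' ea, ← hinj _ (hNn.conj_mem b hb h) b' hb' eb]
      congr 1
      group

end Cfsg.Agent.S3493
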