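import Cfsg.Statements.S3495
import Cfsg.Agent.ExtremelyPrim.Stab
-- import your own Cfsg.Agent.* helpers here

set_option autoImplicit false
open Cfsg

namespace Cfsg.Agent.S3495

/-- Let a finite group G act faithfully and primitively on a finite set Ω with non-trivial point stabilizers, each acting primitively on every one of its orbits (an extremely primitive group), and suppose G has an elementary abelian normal p-subgroup N acting regularly on Ω (affine type). Then every non-trivial subgroup M of a point stabilizer G_α that is normal in G_α has the same orbits on Ω as G_α, and normalizes no subgroup of N other than 1 and N. -/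
theorem result {G : Type*} [Group G] [Finite G] {Ω : Type*} [Fintype Ω] [MulAction G Ω] [FaithfulSMul G Ω] (hprim : MulAction.IsPreprimitive G Ω) (hH : ∀ α : Ω, MulAction.stabilizer G α ≠ ⊥) (hep : ∀ (α : Ω) (ω : Ω), MulAction.IsPreprimitive (MulAction.stabilizer G α) (MulAction.orbit (MulAction.stabilizer G α) ω))
    (N : Subgroup G) [N.Normal] (hNc : IsMulCommutative N) (p : ℕ) (hp : p.Prime) (hNp : ∀ n ∈ N, n ^ p = 1)
    (hNtr : MulAction.IsPretransitive N Ω) (hNreg : ∀ ω : Ω, MulAction.stabilizer N ω = ⊥) (α : Ω) (M : Subgroup G) (hM : M ≠ ⊥) (hMle : M ≤ MulAction.stabilizer G α)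
    (hMn : MulAction.stabilizer G α ≤ Subgroup.normalizer (M : Set G)) :
    (∀ ω : Ω, MulAction.orbit M ω = MulAction.orbit (MulAction.stabilizer G α) ω) ∧
    (∀ L : Subgroup G, L ≤ N → M ≤ Subgroup.normalizer (L : Set G) → L = ⊥ ∨ L = N) := by
  have horb : ∀ ω : Ω, MulAction.orbit M ω = MulAction.orbit (MulAction.stabilizer G α) ω := by
    intro ω
    refine Set.Subset.antisymm ?_ fun x hx => ?_
    · rintro x ⟨m, rfl⟩
      exact ExtremelyPrim.mem_orbit_stab_iff.mpr ⟨m, hMle m.2, rfl⟩
    · obtain ⟨m, hm, e⟩ := ExtremelyPrim.transitive_of_normal hprim hep hM hMle hMn hx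
      exact ⟨⟨m, hm⟩, e⟩
  refine ⟨horb, fun L hLN hML => ?_⟩
  have hinj : ∀ a ∈ N, ∀ b ∈ N, a • α = b • α → a = b := by
    intro a ha b hb e
    have h : (⟨b⁻¹ * a, mul_mem (inv_mem hb) ha⟩ : N) ∈ MulAction.stabilizer N α :=
      MulAction.mem_stabilizer_iff.mpr (show (b⁻¹ * a) • α = α by
        rw [mul_smul, e, inv_smul_smul])
    rw [hNreg α, Subgroup.mem_bot] at h
    exact (inv_mul_eq_one.mp (congrArg Subtype.val h)).symm
  have hHL : ∀ h ∈ MulAction.stabilizer G α, ∀ l ∈ L, h * l * h⁻¹ ∈ L := by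
    intro h hh l hl
    have hm : h • l • α ∈ MulAction.orbit M (l • α) := by
      rw [horb]
      exact ExtremelyPrim.mem_orbit_stab_iff.mpr ⟨h, hh, rfl⟩
    obtain ⟨⟨m, hm⟩, e⟩ := hm
    have e' : m • l • α = h • l • α := e
    have hfix : ∀ {g : G}, g ∈ MulAction.stabilizer G α → (g * l * g⁻¹) • α = g • l • α := by
      intro g hg
      rw [mul_smul, mul_smul, inv_smul_eq_iff.mpr (MulAction.mem_stabilizer_iff.mp hg).symm]
    have := hinj _ (‹N.Normal›.conj_mem l (hLN hl) h) _ (‹N.Normal›.conj_mem l (hLN hl) m)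
      (by rw [hfix hh, hfix (hMle hm), e'])
    rw [this]
    exact (Subgroup.mem_normalizer_iff.mp (hML hm) l).mp hl
  have hNL : ∀ n ∈ N, ∀ l ∈ L, n * l * n⁻¹ ∈ L := by
    intro n hn l hl
    have : n * l = l * n := congrArg Subtype.val (hNc.1.1 ⟨n, hn⟩ ⟨l, hLN hl⟩)
    rwa [this, mul_inv_cancel_right]
  have hLn : L.Normal := by
    constructor
    intro l hl g
    obtain ⟨⟨n, hn⟩, e⟩ := MulAction.exists_smul_eq N α (g • α)
    have hh : n⁻¹ * g ∈ MulAction.stabilizer G α := by
      rw [MulAction.mem_stabilizer_iff, mul_smul, ← e]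
      exact inv_smul_smul n α
    have := hNL n hn _ (hHL _ hh l hl)
    simpa [mul_assoc] using this
  rcases eq_or_ne L ⊥ with e | e
  · exact Or.inl e
  refine Or.inr (le_antisymm hLN fun n hn => ?_)
  have := hprim
  have hfp : MulAction.fixedPoints L Ω ≠ .univ := fun h => e (eq_bot_iff.mpr fun l hl =>
    Subgroup.mem_bot.mpr (eq_of_smul_eq_smul (α := Ω) fun x => by
      rw [one_smul]
      exact (h ▸ Set.mem_univ x : x ∈ MulAction.fixedPoints L Ω) ⟨l, hl⟩))
  have := MulAction.IsQuasiPreprimitive.isPretransitive_of_normal hfp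
  obtain ⟨⟨l, hl⟩, el⟩ := MulAction.exists_smul_eq L α (n • α)
  exact hinj l (hLN hl) n hn el ▸ hl

end Cfsg.Agent.S3495
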