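import Cfsg.Statements.S3496
import Cfsg.Agent.ExtremelyPrim.Semilinear
import Cfsg.Agent.S3495
import Cfsg.Agent.Core.MinimalNormal
import Cfsg.Agent.Coprime.Elementary
import Cfsg.Agent.Coprime.Generation
-- import your own Cfsg.Agent.* helpers here

set_option autoImplicit false
open Cfsg

namespace Cfsg.Agent.S3496

/-- The soluble extremely primitive groups. Let a finite solvable group G act faithfully and primitively on a finite set Ω with p ^ d points (p prime), with non-trivial point stabilizers each acting primitively on every one of its orbits. Then there is a prime q such that every orbit of a point stabilizer G_α other than {α} has exactly q points, q divides p ^ d − 1 but no p ^ i − 1 with 0 < i < d, and G_α has a normal subgroup T of order q with G_α generated by T and one further element and the order of G_α dividing q·d (so G_α is cyclic of order q, or an extension of T by a cyclic group of order dividing d). -/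
theorem result {G : Type*} [Group G] [Finite G] {Ω : Type*} [Fintype Ω] [MulAction G Ω] [FaithfulSMul G Ω] [Group.IsSolvable G] (p d : ℕ) (hp : p.Prime) (hcard : Fintype.card Ω = p ^ d)
    (hprim : MulAction.IsPreprimitive G Ω) (hH : ∀ α : Ω, MulAction.stabilizer G α ≠ ⊥) (hep : ∀ (α : Ω) (ω : Ω), MulAction.IsPreprimitive (MulAction.stabilizer G α) (MulAction.orbit (MulAction.stabilizer G α) ω)) (α : Ω) :
    ∃ q : ℕ, q.Prime ∧ (∀ ω : Ω, ω ≠ α → Nat.card (MulAction.orbit (MulAction.stabilizer G α) ω) = q) ∧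
      q ∣ p ^ d - 1 ∧ (∀ i : ℕ, 0 < i → i < d → ¬ q ∣ p ^ i - 1) ∧
      ∃ T : Subgroup G, T ≤ MulAction.stabilizer G α ∧ MulAction.stabilizer G α ≤ Subgroup.normalizer (T : Set G) ∧ Nat.card T = q ∧
        (∃ h : G, MulAction.stabilizer G α = T ⊔ Subgroup.zpowers h) ∧ Nat.card (MulAction.stabilizer G α) ∣ q * d := by
  classical
  obtain ⟨ω0, hω0⟩ := ExtremelyPrim.exists_ne_point (hH α)
  have : Nontrivial G := by
    obtain ⟨⟨x, hx⟩, hx1⟩ := Subgroup.bot_or_exists_ne_one (MulAction.stabilizer G α) |>.resolve_left (hH α) |>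
      fun ⟨x, hx, hx1⟩ => (⟨⟨x, hx⟩, hx1⟩ : ∃ y : MulAction.stabilizer G α, (y : G) ≠ 1)
    exact ⟨x, 1, hx1⟩
  obtain ⟨N, hN⟩ := Core.exists_isMinNormal (G := G)
  have hNn := hN.normal
  have hNc := hN.isMulCommutative
  have hcommN : ∀ a ∈ N, ∀ b ∈ N, a * b = b * a := fun a ha b hb =>
    congrArg Subtype.val (hNc.1.1 ⟨a, ha⟩ ⟨b, hb⟩)
  obtain ⟨p0, hp0, hNp⟩ := hN.exists_prime_pow_eq_one
  have hNt : MulAction.IsPretransitive N Ω := by
    have := hprim
    refine MulAction.IsQuasiPreprimitive.isPretransitive_of_normal fun h => hN.ne_bot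
      (eq_bot_iff.mpr fun n hn => Subgroup.mem_bot.mpr (eq_of_smul_eq_smul (α := Ω) fun x => ?_))
    rw [one_smul]
    exact (h ▸ Set.mem_univ x : x ∈ MulAction.fixedPoints N Ω) ⟨n, hn⟩
  have hNreg : ∀ ω : Ω, MulAction.stabilizer N ω = ⊥ := by
    intro ω
    refine eq_bot_iff.mpr fun n hn => Subgroup.mem_bot.mpr (Subtype.ext
      (eq_of_smul_eq_smul (α := Ω) fun x => ?_))
    obtain ⟨⟨a, ha⟩, rfl⟩ := MulAction.exists_smul_eq N ω x
    show (n : G) • a • ω = (1 : G) • a • ω
    rw [one_smul, ← mul_smul, hcommN _ n.2 a ha, mul_smul]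
    exact congrArg (a • ·) (MulAction.mem_stabilizer_iff.mp hn)
  have hinjα : ∀ a ∈ N, ∀ b ∈ N, a • α = b • α → a = b := by
    intro a ha b hb e
    have h : (⟨b⁻¹ * a, mul_mem (inv_mem hb) ha⟩ : N) ∈ MulAction.stabilizer N α :=
      MulAction.mem_stabilizer_iff.mpr (show (b⁻¹ * a) • α = α by
        rw [mul_smul, e, inv_smul_smul])
    rw [hNreg α, Subgroup.mem_bot] at h
    exact (inv_mul_eq_one.mp (congrArg Subtype.val h)).symm
  have hcardN : Nat.card N = p ^ d := by
    rw [← hcard, ← Nat.card_eq_fintype_card]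
    refine Nat.card_eq_of_bijective (fun n : N => (n : G) • α)
      ⟨fun a b e => Subtype.ext (hinjα a a.2 b b.2 e), fun x => ?_⟩
    exact MulAction.exists_smul_eq N α x
  have hd0 : 0 < d := by
    rcases Nat.eq_zero_or_pos d with rfl | h
    · exact absurd (Subgroup.eq_bot_of_card_eq N (by simpa using hcardN)) hN.ne_bot
    · exact h
  have := Fact.mk hp
  have hpp : p0 = p := by
    have := Fact.mk hp0
    obtain ⟨k, hk⟩ := IsPGroup.iff_card.mp (Core.isPGroup_of_forall_pow_eq_one hNp)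
    have : p ∣ p0 ^ k := by rw [← hk, hcardN]; exact dvd_pow_self p hd0.ne'
    exact ((Nat.prime_dvd_prime_iff_eq hp hp0).mp (hp.dvd_of_dvd_pow this)).symm
  subst hpp
  -- a minimal normal subgroup of the point stabiliser
  have : Nontrivial (MulAction.stabilizer G α) := (Subgroup.nontrivial_iff_ne_bot _).mpr (hH α)
  obtain ⟨A, hA⟩ := Core.exists_isMinNormal (G := MulAction.stabilizer G α)
  have hAn := hA.normal
  have hAc := hA.isMulCommutative
  obtain ⟨q, hq, hAq⟩ := hA.exists_prime_pow_eq_one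
  have := Fact.mk hq
  let S := MulAction.stabilizer G α
  let L : Subgroup G := A.map S.subtype
  have hLle : L ≤ S := Subgroup.map_subtype_le A
  have hLb : L ≠ ⊥ := fun e => hA.ne_bot
    ((Subgroup.map_eq_bot_iff_of_injective A S.subtype_injective).mp e)
  have hLn : S ≤ Subgroup.normalizer (L : Set G) := by
    intro g hg
    rw [Subgroup.mem_normalizer_iff]
    intro x
    constructor
    · rintro ⟨y, hy, rfl⟩
      exact ⟨⟨g, hg⟩ * y * ⟨g, hg⟩⁻¹, hAn.conj_mem y hy _, rfl⟩
    · rintro ⟨y, hy, e⟩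
      refine ⟨(⟨g, hg⟩ : S)⁻¹ * y * ⟨g, hg⟩,
        by simpa using hAn.conj_mem y hy (⟨g, hg⟩ : S)⁻¹, ?_⟩
      have e' : (y : G) = g * x * g⁻¹ := e
      show g⁻¹ * (y : G) * g = x
      rw [e']
      group
  have hLab : ∀ a ∈ L, ∀ b ∈ L, a * b = b * a := by
    rintro _ ⟨a, ha, rfl⟩ _ ⟨b, hb, rfl⟩
    exact congrArg Subtype.val (show a * b = b * a from
      congrArg Subtype.val (hAc.1.1 ⟨a, ha⟩ ⟨b, hb⟩))
  have hLea : Cfsg.IsElementaryAbelian q L := by
    refine ⟨⟨⟨fun a b => Subtype.ext (hLab a a.2 b b.2)⟩⟩, ?_⟩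
    rintro _ ⟨a, ha, rfl⟩
    show ((a : G)) ^ q = 1
    rw [← Subgroup.coe_pow, hAq a ha, Subgroup.coe_one]
  have hcardL : Nat.card L = Nat.card A := Subgroup.card_map_of_injective S.subtype_injective
  obtain ⟨e, he⟩ := Coprime.ea_card hLea
  have he0 : e ≠ 0 := fun h => hLb (Subgroup.eq_bot_of_card_eq L (by rw [he, h, pow_zero]))
  have hdvd : Nat.card L ∣ p0 ^ d - 1 := hcard ▸ ExtremelyPrim.card_dvd_pred hprim hep hLle hLn hLab
  have hpd1 : 1 ≤ p0 ^ d := Nat.one_le_pow _ _ hp.pos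
  have hqp : ¬ q ∣ p0 := fun h => by
    have h1 : q ∣ p0 ^ d - 1 := (he ▸ dvd_pow_self q he0 : q ∣ Nat.card L).trans hdvd
    have h2 : q ∣ p0 ^ d := h.trans (dvd_pow_self p0 hd0.ne')
    have := Nat.dvd_sub h2 h1
    rw [Nat.sub_sub_self hpd1] at this
    exact hq.not_dvd_one this
  have hfpf : ∀ a ∈ L, a ≠ 1 → N ⊓ Subgroup.centralizer {a} = ⊥ := by
    intro a ha ha1
    refine eq_bot_iff.mpr fun n hn => Subgroup.mem_bot.mpr ?_
    have hna : n * a = a * n := Subgroup.mem_centralizer_singleton_iff.mp hn.2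
    refine hinjα n hn.1 1 N.one_mem ?_
    rw [one_smul]
    by_contra hne
    refine ha1 (ExtremelyPrim.eq_one_of_fix hprim hep hLle hLn hLab ha hne ?_)
    rw [← mul_smul, ← hna, mul_smul, MulAction.mem_stabilizer_iff.mp (hLle ha)]
  have he1 : e = 1 := by
    by_contra h
    have h2 : q ^ 2 ≤ Nat.card L := he ▸ Nat.pow_le_pow_right hq.pos (by omega)
    have := hLea.1
    have hgen := Coprime.iSup_centralizer_eq (A := L) (K := N) (Coprime.ea_not_isCyclic hLea h2)
      (by rw [Subgroup.normalizer_eq_top]; exact le_top)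
      (by rw [he, hcardN]; exact (((Nat.coprime_primes hq hp).mpr
        fun e => hqp (e ▸ dvd_rfl)).pow e d))
    refine hN.ne_bot (le_bot_iff.mp (hgen ▸ iSup₂_le fun a ha => ?_))
    exact (hfpf a ha.1 ha.2).le
  rw [he1, pow_one] at he
  have hAcard : Nat.card A = q := hcardL ▸ he
  obtain ⟨m, hm, hgen⟩ : ∃ m : S, m ∈ A ∧ A = Subgroup.zpowers m := by
    have := isCyclic_of_prime_card hAcard
    obtain ⟨g, hg⟩ := IsCyclic.exists_generator (α := A)
    refine ⟨g, g.2, le_antisymm (fun x hx => ?_) (Subgroup.zpowers_le.mpr g.2)⟩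
    obtain ⟨k, hk⟩ := Subgroup.mem_zpowers_iff.mp (hg ⟨x, hx⟩)
    exact Subgroup.mem_zpowers_iff.mpr ⟨k, congrArg Subtype.val hk⟩
  -- the linear representation on `N`
  letI : CommGroup N := { N.toGroup with mul_comm := hNc.1.1 }
  have hz : ∀ v : Additive N, p0 • v = 0 := fun v =>
    Additive.toMul.injective (Subtype.ext (hNp _ (Additive.toMul v).2))
  letI M : Module (ZMod p0) (Additive N) := AddCommGroup.zmodModule hz
  let ρ : S → Additive N →+ Additive N := fun h =>
    { toFun := fun v => Additive.ofMul ((MulAut.conjNormal (h : G) : N ≃* N) (Additive.toMul v))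
      map_zero' := congrArg Additive.ofMul (map_one (MulAut.conjNormal (h : G) : N ≃* N))
      map_add' := fun v w => congrArg Additive.ofMul
        (map_mul (MulAut.conjNormal (h : G) : N ≃* N) (Additive.toMul v) (Additive.toMul w)) }
  have hρ : ∀ h v, ρ h v =
      Additive.ofMul ((MulAut.conjNormal (h : G) : N ≃* N) (Additive.toMul v)) := fun _ _ => rfl
  obtain ⟨hprimdiv, f, hf⟩ := @ExtremelyPrim.semilinear (Additive N) S _ _ _ _ p0 _ M d hcardN hd0 ρ
    (fun v => by rw [hρ, Subgroup.coe_one, map_one, MulAut.one_apply, ofMul_toMul])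
    (fun g h v => by rw [hρ, hρ, hρ, Subgroup.coe_mul, map_mul, MulAut.mul_apply, toMul_ofMul])
    A m hgen hAn
    (by
      intro a b hab
      have hconj : ∀ n ∈ N, (a : G) * n * (a : G)⁻¹ = (b : G) * n * (b : G)⁻¹ := fun n hn =>
        congrArg Subtype.val (Additive.ofMul.injective (hab (Additive.ofMul (⟨n, hn⟩ : N))))
      refine Subtype.ext (eq_of_smul_eq_smul (α := Ω) fun x => ?_)
      obtain ⟨⟨n, hn⟩, rfl⟩ := MulAction.exists_smul_eq N α x
      show (a : G) • n • α = (b : G) • n • α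
      have key : ∀ c : S, (c : G) • n • α = ((c : G) * n * (c : G)⁻¹) • α := fun c => by
        rw [mul_smul, mul_smul, inv_smul_eq_iff.mpr (MulAction.mem_stabilizer_iff.mp c.2).symm]
      rw [key a, key b, hconj n hn])
    (by
      intro W hW
      let L0 : Subgroup G :=
        { carrier := {x | ∃ hx : x ∈ N, Additive.ofMul (⟨x, hx⟩ : N) ∈ W}
          one_mem' := ⟨N.one_mem, W.zero_mem⟩
          mul_mem' := fun ⟨ha, ha'⟩ ⟨hb, hb'⟩ => ⟨N.mul_mem ha hb, W.add_mem ha' hb'⟩
          inv_mem' := fun ⟨ha, ha'⟩ => ⟨N.inv_mem ha, W.neg_mem ha'⟩ }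
      have hconj : ∀ x ∈ L0, (m : G) * x * (m : G)⁻¹ ∈ L0 := fun x ⟨hx, hx'⟩ =>
        ⟨hNn.conj_mem x hx _, hW _ hx'⟩
      have hmN : (m : G) ∈ Subgroup.normalizer (L0 : Set G) := by
        rw [Subgroup.mem_normalizer_iff_map_conj_eq]
        refine Subgroup.eq_of_le_of_card_ge ?_ (le_of_eq ?_)
        · rintro _ ⟨x, hx, rfl⟩
          exact hconj x hx
        · exact (Subgroup.card_map_of_injective (MulAut.conj (m : G)).injective).symm
      have hLN : L ≤ Subgroup.normalizer (L0 : Set G) := by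
        rintro _ ⟨y, hy, rfl⟩
        rw [hgen] at hy
        obtain ⟨k, rfl⟩ := Subgroup.mem_zpowers_iff.mp hy
        rw [map_zpow]
        exact zpow_mem hmN k
      have hres := (Cfsg.Agent.S3495.result hprim hH hep N hNc p0 hp hNp hNt hNreg α L hLb hLle hLn).2
        L0 (fun x hx => hx.1) hLN
      rcases hres with e | e
      · refine Or.inl (eq_bot_iff.mpr fun w hw => AddSubgroup.mem_bot.mpr ?_)
        have h1 : ((Additive.toMul w : N) : G) ∈ L0 := ⟨(Additive.toMul w).2, hw⟩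
        rw [e, Subgroup.mem_bot] at h1
        exact Additive.toMul.injective (Subtype.ext h1)
      · refine Or.inr (eq_top_iff.mpr fun w _ => ?_)
        have h1 : ((Additive.toMul w : N) : G) ∈ L0 := e.symm ▸ (Additive.toMul w).2
        obtain ⟨_, hx⟩ := h1
        exact hx)
    (by
      intro h hcomm
      obtain ⟨y, hy, ey⟩ := ExtremelyPrim.mem_of_centralises hprim hep hLb hLle hLn hLab
        (c := (h : G)) h.2 (by
          rintro _ ⟨a, ha, rfl⟩
          rw [hgen] at ha
          obtain ⟨k, rfl⟩ := Subgroup.mem_zpowers_iff.mp ha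
          exact congrArg Subtype.val ((show Commute h m from hcomm).zpow_right k).eq.symm)
      exact (Subtype.ext ey : y = h) ▸ hy)
  refine ⟨q, hq, fun ω hω => (ExtremelyPrim.card_eq_sz hprim hep hLb hLle hLn hLab hω).trans he,
    (he ▸ hdvd), fun i hi hid hdv => hprimdiv i hi hid ?_, L, hLle, hLn, he, ?_, ?_⟩
  · have h1 : 1 ≤ p0 ^ i := Nat.one_le_pow _ _ hp.pos
    obtain ⟨k, hk⟩ := hdv
    rw [show p0 ^ i = q * k + 1 by omega, pow_succ, pow_mul, hAq m hm, one_pow, one_mul]
  · obtain ⟨y, hy⟩ := IsCyclic.exists_generator (α := f.range)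
    obtain ⟨h0, hh0⟩ := y.2
    refine ⟨(h0 : G), le_antisymm (fun g hg => ?_) (sup_le hLle (Subgroup.zpowers_le.mpr h0.2))⟩
    obtain ⟨k, hk⟩ := Subgroup.mem_zpowers_iff.mp (hy ⟨f ⟨g, hg⟩, ⟨_, rfl⟩⟩)
    have hk' : f h0 ^ k = f ⟨g, hg⟩ := by
      rw [hh0]
      exact congrArg Subtype.val hk
    have hmem : (⟨g, hg⟩ : S) * (h0 ^ k)⁻¹ ∈ A := by
      rw [← hf, MonoidHom.mem_ker, map_mul, map_inv, map_zpow, hk', mul_inv_cancel]
    have := Subgroup.mul_mem_sup (show (g * ((h0 : G) ^ k)⁻¹) ∈ L from ⟨_, hmem, by simp⟩)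
      (Subgroup.zpow_mem_zpowers (h0 : G) k)
    rwa [inv_mul_cancel_right] at this
  · have : NeZero d := ⟨hd0.ne'⟩
    have h1 : Nat.card f.ker * f.ker.index = Nat.card S := Subgroup.card_mul_index _
    rw [Subgroup.index_ker, hf, hAcard] at h1
    rw [← h1]
    refine mul_dvd_mul_left q ?_
    have := Subgroup.card_subgroup_dvd_card f.range
    simpa using this

end Cfsg.Agent.S3496
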