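import Cfsg.Statements.S3497
import Cfsg.Agent.ExtremelyPrim.Stab
import Cfsg.Agent.Core.Fitting
import Mathlib
-- import your own Cfsg.Agent.* helpers here

set_option autoImplicit false
open Cfsg

namespace Cfsg.Agent.S3497

/-- Restrictions on the point stabilizer of an extremely primitive group. Let a finite group G act faithfully and primitively on a finite set Ω with point stabilizers H = G_α whose order is neither 1 nor a prime, each acting primitively on every one of its orbits. Then H has trivial center, the Fitting subgroup F(H) is an elementary abelian p-group for some prime p, and if F(H) ≠ 1 has order p ^ e then p ^ e divides the number of points minus one and H / F(H) embeds in GL_e(p) (there is a homomorphism from H to GL_e(p) with kernel exactly F(H)). -/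
theorem result {G : Type*} [Group G] [Finite G] {Ω : Type*} [Fintype Ω] [MulAction G Ω] [FaithfulSMul G Ω] (hprim : MulAction.IsPreprimitive G Ω) (hep : ∀ (α : Ω) (ω : Ω), MulAction.IsPreprimitive (MulAction.stabilizer G α) (MulAction.orbit (MulAction.stabilizer G α) ω)) (α : Ω)
    (hH1 : MulAction.stabilizer G α ≠ ⊥) (hHp : ¬ (Nat.card (MulAction.stabilizer G α)).Prime) :
    Subgroup.center (MulAction.stabilizer G α) = ⊥ ∧
    IsMulCommutative (Cfsg.fittingSubgroup (MulAction.stabilizer G α)) ∧
    ∃ p e : ℕ, p.Prime ∧ Nat.card (Cfsg.fittingSubgroup (MulAction.stabilizer G α)) = p ^ e ∧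
      (∀ x ∈ Cfsg.fittingSubgroup (MulAction.stabilizer G α), x ^ p = 1) ∧
      (Cfsg.fittingSubgroup (MulAction.stabilizer G α) ≠ ⊥ →
        p ^ e ∣ Fintype.card Ω - 1 ∧
        ∃ φ : MulAction.stabilizer G α →* GL (Fin e) (ZMod p), φ.ker = Cfsg.fittingSubgroup (MulAction.stabilizer G α)) := by
  classical
  set H := MulAction.stabilizer G α with hHdef
  have hcont : ∀ A : Subgroup H, A.Normal → IsMulCommutative A → A ≠ ⊥ →
      A = Subgroup.centralizer (A : Set H) := by
    intro A hAn hAc hA
    refine le_antisymm (Subgroup.le_centralizer A) fun c hc => ?_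
    have hmem := ExtremelyPrim.mem_of_centralises hprim hep (α := α) (L := A.map H.subtype)
      (fun e => hA ((Subgroup.map_eq_bot_iff_of_injective A H.subtype_injective).mp e))
      (Subgroup.map_subtype_le A)
      (fun g hg => by
        rw [Subgroup.mem_normalizer_iff]
        intro x
        constructor
        · rintro ⟨y, hy, rfl⟩
          exact ⟨⟨g, hg⟩ * y * ⟨g, hg⟩⁻¹, hAn.conj_mem y hy _, rfl⟩
        · rintro ⟨y, hy, e⟩
          refine ⟨(⟨g, hg⟩ : H)⁻¹ * y * ⟨g, hg⟩,
            by simpa using hAn.conj_mem y hy (⟨g, hg⟩ : H)⁻¹, ?_⟩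
          have e' : (y : G) = g * x * g⁻¹ := e
          show g⁻¹ * (y : G) * g = x
          rw [e']
          group)
      (by
        rintro _ ⟨a, ha, rfl⟩ _ ⟨b, hb, rfl⟩
        exact congrArg Subtype.val (show a * b = b * a from
          congrArg Subtype.val (hAc.1.1 ⟨a, ha⟩ ⟨b, hb⟩)))
      (c := (c : G)) c.2 (by
        rintro _ ⟨a, ha, rfl⟩
        exact congrArg Subtype.val (hc a ha))
    obtain ⟨y, hy, e⟩ := hmem
    exact (Subtype.ext e : y = c) ▸ hy
  -- trivial centre
  have hZ : Subgroup.center H = ⊥ := by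
    by_contra hne
    have hcentral : ∀ z ∈ Subgroup.center H, ∀ y : H, y * z = z * y := fun z hz y =>
      Subgroup.mem_center_iff.mp hz y
    have hZt : Subgroup.center H = ⊤ := by
      rw [hcont _ inferInstance inferInstance hne]
      exact eq_top_iff.mpr fun y _ z hz => (hcentral z hz y).symm
    have hab : ∀ a b : H, a * b = b * a := fun a b =>
      hcentral b (hZt ▸ Subgroup.mem_top b) a
    have hcyc : ∀ A : Subgroup H, A = ⊥ ∨ A = ⊤ := by
      intro A
      rcases eq_or_ne A ⊥ with e | e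
      · exact Or.inl e
      right
      rw [hcont A ⟨fun n hn g => by rwa [hab g n, mul_inv_cancel_right]⟩
        ⟨⟨fun a b => Subtype.ext (hab a b)⟩⟩ e]
      exact eq_top_iff.mpr fun y _ z _ => hab z y
    have : Nontrivial H := (Subgroup.nontrivial_iff_ne_bot _).mpr hH1
    have : IsSimpleGroup H := ⟨fun A _ => hcyc A⟩
    have : IsMulCommutative H := ⟨⟨hab⟩⟩
    open scoped IsMulCommutative in exact hHp IsSimpleGroup.prime_card
  set F := Cfsg.fittingSubgroup H with hFdef
  have hFchar : ∀ φ : H ≃* H, F.map φ.toMonoidHom = F := fun φ => Core.map_fittingSubgroup φ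
  have hFn : F.Normal := by
    constructor
    intro x hx g
    have := hFchar (MulAut.conj g)
    rw [← this]
    exact ⟨x, hx, rfl⟩
  have hFnil : Group.IsNilpotent F := Core.fittingSubgroup_isNilpotent
  -- `F` is abelian
  have hFc : IsMulCommutative F := by
    rcases eq_or_ne F ⊥ with e | e
    · refine ⟨⟨fun a b => ?_⟩⟩
      have ha : a = 1 := Subtype.ext (Subgroup.mem_bot.mp (e.le a.2))
      rw [ha, one_mul, mul_one]
    have : Nontrivial F := (Subgroup.nontrivial_iff_ne_bot _).mpr e
    set A := (Subgroup.center F).map F.subtype with hA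
    have hAc : IsMulCommutative A := by
      refine ⟨⟨?_⟩⟩
      rintro ⟨_, a, ha, rfl⟩ ⟨_, b, hb, rfl⟩
      exact Subtype.ext (congrArg (fun z : F => (z : H)) (Subgroup.mem_center_iff.mp hb a))
    have hAne : A ≠ ⊥ := fun h => by
      rw [hA, Subgroup.map_eq_bot_iff_of_injective _ F.subtype_injective] at h
      exact Group.IsNilpotent.center_ne_bot F h
    have hAn : A.Normal := inferInstance
    have hFA : F ≤ A := by
      rw [hcont A hAn hAc hAne]
      intro f hf z hz
      obtain ⟨z, hz, rfl⟩ := hz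
      exact (congrArg Subtype.val (Subgroup.mem_center_iff.mp hz ⟨f, hf⟩)).symm
    exact ⟨⟨fun a b => Subtype.ext (congrArg Subtype.val
      (hAc.1.1 ⟨a, hFA a.2⟩ ⟨b, hFA b.2⟩) :)⟩⟩
  refine ⟨hZ, hFc, ?_⟩
  rcases eq_or_ne F ⊥ with hFb | hFb
  · refine ⟨2, 0, Nat.prime_two, by rw [hFb, Subgroup.card_bot, pow_zero], fun x hx => ?_,
      fun h => absurd hFb h⟩
    rw [hFb, Subgroup.mem_bot] at hx
    rw [hx, one_pow]
  have hFcomm : ∀ a ∈ F, ∀ b ∈ F, a * b = b * a := fun a ha b hb =>
    congrArg Subtype.val (hFc.1.1 ⟨a, ha⟩ ⟨b, hb⟩)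
  obtain ⟨p, hp, hpd⟩ := Nat.exists_prime_and_dvd (fun h => hFb (Subgroup.eq_bot_of_card_eq _ h))
  have := Fact.mk hp
  let A : Subgroup H :=
    { carrier := {x | x ∈ F ∧ x ^ p = 1}
      one_mem' := ⟨F.one_mem, one_pow p⟩
      mul_mem' := fun {a b} ha hb => ⟨F.mul_mem ha.1 hb.1, by
        rw [(show Commute a b from hFcomm a ha.1 b hb.1).mul_pow, ha.2, hb.2, one_mul]⟩
      inv_mem' := fun {a} ha => ⟨F.inv_mem ha.1, by rw [inv_pow, ha.2, inv_one]⟩ }
  have hA : A = F := by
    have hAn : A.Normal := ⟨fun x hx g => ⟨hFn.conj_mem x hx.1 g, by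
      rw [conj_pow, hx.2, mul_one, mul_inv_cancel]⟩⟩
    have hAc : IsMulCommutative A := ⟨⟨fun a b => Subtype.ext (hFcomm a a.2.1 b b.2.1)⟩⟩
    have hAne : A ≠ ⊥ := by
      obtain ⟨x, hx⟩ := exists_prime_orderOf_dvd_card' (G := F) p hpd
      intro h
      have hm : (x : H) ∈ A := ⟨x.2, by
        rw [← Subgroup.coe_pow, ← hx, pow_orderOf_eq_one, Subgroup.coe_one]⟩
      rw [h, Subgroup.mem_bot] at hm
      rw [show x = 1 from Subtype.ext hm, orderOf_one] at hx
      exact hp.one_lt.ne hx
    refine le_antisymm (fun x hx => hx.1) ?_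
    rw [hcont A hAn hAc hAne]
    exact fun f hf a ha => hFcomm a ha.1 f hf
  have hexp : ∀ x ∈ F, x ^ p = 1 := fun x hx => (hA ▸ hx : x ∈ A).2
  have hpg : IsPGroup p F := fun x => ⟨1, Subtype.ext (by
    rw [pow_one, Subgroup.coe_pow, hexp x x.2, Subgroup.coe_one])⟩
  obtain ⟨e, he⟩ := IsPGroup.iff_card.mp hpg
  refine ⟨p, e, hp, he, hexp, fun _ => ⟨?_, ?_⟩⟩
  · rw [← he, ← Subgroup.card_map_of_injective H.subtype_injective]
    refine ExtremelyPrim.card_dvd_pred hprim hep (α := α) (Subgroup.map_subtype_le F)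
      (fun g hg => ?_) ?_
    · rw [Subgroup.mem_normalizer_iff_map_conj_eq, Subgroup.map_map]
      conv_rhs => rw [← hFchar (MulAut.conj ⟨g, hg⟩), Subgroup.map_map]
      rfl
    · rintro _ ⟨a, ha, rfl⟩ _ ⟨b, hb, rfl⟩
      exact congrArg Subtype.val (hFcomm a ha b hb)
  · letI : CommGroup F := { F.toGroup with mul_comm := hFc.1.1 }
    have hz : ∀ v : Additive F, p • v = 0 := fun v =>
      Additive.toMul.injective (Subtype.ext (hexp _ (Additive.toMul v).2))
    letI M : Module (ZMod p) (Additive F) := AddCommGroup.zmodModule hz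
    let ρ : H → Additive F →+ Additive F := fun h =>
      { toFun := fun v => Additive.ofMul ((MulAut.conjNormal h : F ≃* F) (Additive.toMul v))
        map_zero' := congrArg Additive.ofMul (map_one (MulAut.conjNormal h : F ≃* F))
        map_add' := fun v w => congrArg Additive.ofMul
          (map_mul (MulAut.conjNormal h : F ≃* F) (Additive.toMul v) (Additive.toMul w)) }
    have hρ : ∀ h v, ρ h v =
        Additive.ofMul ((MulAut.conjNormal h : F ≃* F) (Additive.toMul v)) := fun _ _ => rfl
    obtain ⟨φ, hφ⟩ := @ExtremelyPrim.exists_GL H (Additive F) _ _ _ p _ M e he ρ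
      (fun v => by rw [hρ, map_one, MulAut.one_apply, ofMul_toMul])
      (fun g h v => by rw [hρ, hρ, hρ, map_mul, MulAut.mul_apply, toMul_ofMul])
    refine ⟨φ, ?_⟩
    ext h
    rw [MonoidHom.mem_ker, hφ]
    constructor
    · intro hψ
      rw [hcont F hFn hFc hFb]
      intro f hf
      have h4 : Additive.ofMul (MulAut.conjNormal h (⟨f, hf⟩ : F)) = Additive.ofMul (⟨f, hf⟩ : F) :=
        hψ (Additive.ofMul (⟨f, hf⟩ : F))
      have h5 : h * f * h⁻¹ = f := congrArg Subtype.val (Additive.ofMul.injective h4)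
      exact (mul_inv_eq_iff_eq_mul.mp h5).symm
    · intro hh v
      rw [hρ]
      refine (congrArg Additive.ofMul (Subtype.ext ?_)).trans (ofMul_toMul v)
      rw [MulAut.conjNormal_apply, hFcomm h hh _ (Additive.toMul v).2, mul_inv_cancel_right]

end Cfsg.Agent.S3497
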