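import Cfsg.Statements.S3498
import Cfsg.Agent.Fusion.FixedPointFree
import Mathlib.GroupTheory.Transfer
-- import your own Cfsg.Agent.* helpers here

set_option autoImplicit false
open Cfsg

namespace Cfsg.Agent.S3498

/-- A maximal subgroup of a finite almost simple group does not have prime order. Here G is almost simple in the sense that it has a non-abelian simple normal subgroup T with trivial centralizer. -/
theorem result {G : Type*} [Group G] [Finite G] (T : Subgroup G) [T.Normal] (hT : IsSimpleGroup T) (hTc : ¬ IsMulCommutative T)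
    (hC : Subgroup.centralizer (T : Set G) = ⊥) (H : Subgroup G) (hmax : IsCoatom H) : ¬ (Nat.card H).Prime := by
  intro hp
  have : Fact (Nat.card H).Prime := ⟨hp⟩
  have : IsSimpleGroup T := hT
  have hHb : H ≠ ⊥ := fun e => by rw [e, Subgroup.card_bot] at hp; exact Nat.not_prime_one hp
  have hHc : IsMulCommutative H := by
    have := isCyclic_of_prime_card (α := H) rfl
    infer_instance
  obtain ⟨h, hh⟩ := (isCyclic_of_prime_card (α := H) rfl).exists_generator
  have hNH : Subgroup.normalizer (H : Set G) ≠ ⊤ → Subgroup.normalizer (H : Set G) = H := fun hne =>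
    ((hmax.le_iff).mp Subgroup.le_normalizer).elim (fun e => absurd e hne) id
  by_cases hHT : H ≤ T
  · -- then `T = G` and `H` is a self-normalising Sylow subgroup of prime order
    have hT' : T = ⊤ := (hmax.le_iff.mp hHT).resolve_right fun e => hTc (e ▸ hHc)
    have hG : IsSimpleGroup G := by
      rw [← Subgroup.topEquiv.isSimpleGroup_congr]
      exact hT' ▸ hT
    have hNe : Subgroup.normalizer (H : Set G) ≠ ⊤ := fun e => by
      have : H.Normal := Subgroup.normalizer_eq_top_iff.mp e
      exact (hG.eq_bot_or_eq_top_of_normal H this).elim hHb hmax.1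
    have hpg : IsPGroup (Nat.card H) H := IsPGroup.of_card (pow_one _).symm
    obtain ⟨P, hP⟩ := hpg.exists_le_sylow
    have hPH : (P : Subgroup G) = H := by
      refine (hmax.le_iff.mp hP).resolve_left fun e => hTc ?_
      have hGp : IsPGroup (Nat.card H) G :=
        (e ▸ P.2 : IsPGroup (Nat.card H) (⊤ : Subgroup G)).of_equiv Subgroup.topEquiv
      have := hGp.isNilpotent
      have hcomm : IsMulCommutative G :=
        ⟨⟨fun a b => IsSimpleGroup.comm_iff_isSolvable.mpr inferInstance a b⟩⟩
      exact ⟨⟨fun a b => Subtype.ext (hcomm.1.1 a.1 b.1)⟩⟩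
    have hle : Subgroup.normalizer ((P : Subgroup G) : Set G) ≤
        Subgroup.centralizer ((P : Subgroup G) : Set G) := by
      rw [hPH, hNH hNe]
      exact Subgroup.le_centralizer H
    have hc := MonoidHom.ker_transferSylow_isComplement' P hle
    rcases hG.eq_bot_or_eq_top_of_normal (MonoidHom.transferSylow P hle).ker inferInstance with
      e | e
    · rw [e, Subgroup.isComplement'_bot_left, hPH] at hc
      exact hmax.1 hc
    · rw [e, Subgroup.isComplement'_top_left, hPH] at hc
      exact hHb hc
  · have hint : T ⊓ H = ⊥ := by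
      rcases (Nat.dvd_prime hp).mp (Subgroup.card_dvd_of_le (inf_le_right : T ⊓ H ≤ H)) with e | e
      · exact Subgroup.eq_bot_of_card_eq _ e
      · exact absurd (Subgroup.eq_of_le_of_card_ge inf_le_right e.ge ▸ inf_le_left) hHT
    have hNe : Subgroup.normalizer (H : Set G) ≠ ⊤ := fun e => by
      have hHn : H.Normal := Subgroup.normalizer_eq_top_iff.mp e
      refine hHb (le_bot_iff.mp (hC ▸ fun x hx => ?_))
      intro t ht
      exact (Subgroup.commute_of_normal_of_disjoint T H inferInstance hHn
        (disjoint_iff.mpr hint) t x ht hx).eq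
    have hfix : T ⊓ Subgroup.centralizer {(h : G)} = ⊥ := by
      rw [eq_bot_iff, ← hint]
      refine le_inf inf_le_left fun t ht => ?_
      rw [← hNH hNe]
      refine Subgroup.centralizer_le_normalizer _ ?_
      intro x hx
      obtain ⟨n, hn⟩ := Subgroup.mem_zpowers_iff.mp (hh ⟨x, hx⟩)
      have hxn : x = (h : G) ^ n := (congrArg Subtype.val hn).symm.trans (by simp)
      have hc : Commute (h : G) t := ht.2 (h : G) rfl
      exact hxn ▸ (hc.zpow_left n).eq
    have := Fusion.isNilpotent_of_fpf_prime hp (L := T) (c := (h : G))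
      (congrArg Subtype.val (pow_card_eq_one' (x := h))) (Subgroup.normalizer_eq_top (H := T) ▸ Subgroup.mem_top _) hfix
    have hcomm := IsSimpleGroup.comm_iff_isSolvable (G := T) |>.mpr inferInstance
    exact hTc ⟨⟨hcomm⟩⟩

end Cfsg.Agent.S3498
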