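import Cfsg.Statements.S3501
import Mathlib
import Cfsg.Agent.ClassGraph.Split

set_option autoImplicit false
open Cfsg

namespace Cfsg.Agent.S3501

open MulAction

variable {G : Type*} [Group G] [Finite G] {Ω : Type*} [MulAction G Ω]

variable (Ω) in
/-- No fixed point. -/
def Der (g : G) : Prop := ∀ ω : Ω, g • ω ≠ ω

theorem not_all_orderOf_eq (T : Subgroup G) (hT : T ≠ ⊥)
    (hcent : ∀ t ∈ T, (∀ u ∈ T, Commute t u) → t = 1)
    (h : ∀ t ∈ T, ∀ u ∈ T, t ≠ 1 → u ≠ 1 → orderOf t = orderOf u) : False := by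
  haveI : Nontrivial T := (Subgroup.nontrivial_iff_ne_bot T).mpr hT
  obtain ⟨q, hq, hqd⟩ := Nat.exists_prime_and_dvd (n := Nat.card T)
    (by have := Finite.one_lt_card (α := T); omega)
  haveI := Fact.mk hq
  obtain ⟨x, hx⟩ := exists_prime_orderOf_dvd_card' (G := T) q hqd
  have hx1 : (x : G) ≠ 1 := fun e => hq.ne_one (by rw [← hx, Subgroup.orderOf_coe x |>.symm, e, orderOf_one])
  have hP : IsPGroup q T := fun y => ⟨1, by
    by_cases hy : (y : G) = 1
    · simp [Subtype.ext_iff, hy]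
    · rw [pow_one]
      apply orderOf_dvd_iff_pow_eq_one.mp
      rw [← Subgroup.orderOf_coe y, h y y.2 x x.2 hy hx1, Subgroup.orderOf_coe x, hx]⟩
  haveI := hP.center_nontrivial
  obtain ⟨z, hz⟩ := exists_ne (1 : Subgroup.center T)
  refine hz (Subtype.ext (Subtype.ext (hcent _ z.1.2 fun u hu => ?_)))
  exact (congrArg Subtype.val (Subgroup.mem_center_iff.mp z.2 ⟨u, hu⟩)).symm

/-- Every transitive group of degree above one has a derangement. -/
theorem exists_der [IsPretransitive G Ω] {a b : Ω} (hab : a ≠ b) : ∃ g : G, Der Ω g := by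
  have hne : stabilizer G a ≠ ⊤ := by
    intro h
    obtain ⟨g, hg⟩ := exists_smul_eq G a b
    exact hab ((mem_stabilizer_iff.mp (h.symm ▸ Subgroup.mem_top g)).symm.trans hg)
  obtain ⟨x, hx⟩ := Cfsg.Agent.ClassGraph.exists_forall_conj_notMem _ hne
  refine ⟨x, fun ω hω => ?_⟩
  obtain ⟨g, hg⟩ := exists_smul_eq G a ω
  apply hx g⁻¹
  rw [mem_stabilizer_iff, inv_inv, mul_smul, mul_smul, hg, hω, ← hg, inv_smul_smul]

theorem smul_comm_of_commute {x y : G} (h : Commute x y) (ω : Ω) : x • y • ω = y • x • ω := by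
  rw [← mul_smul, h.eq, mul_smul]

/-- A minimal normal non-abelian subgroup of composite type rules out one class of derangements. -/
theorem no_split [FaithfulSMul G Ω] {a : Ω} (N : Subgroup G)
    (hNt : ∀ ω : Ω, ∃ n ∈ N, n • a = ω)
    (hone : ∀ x y : G, Der Ω x → Der Ω y → IsConj x y)
    (𝒯 : Set (Subgroup G)) (h𝒯conj : ∀ T ∈ 𝒯, ∀ g : G, T.map (MulAut.conj g).toMonoidHom ∈ 𝒯)
    (hcomm : ∀ T ∈ 𝒯, ∀ T' ∈ 𝒯, T ≠ T' → ∀ t ∈ T, ∀ u ∈ T', Commute t u)
    (hne : ∀ T ∈ 𝒯, T ≠ ⊥) (hcent : ∀ T ∈ 𝒯, ∀ t ∈ T, (∀ u ∈ T, Commute t u) → t = 1)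
    (hN : N ≤ sSup 𝒯) (T : Subgroup G) (hT : T ∈ 𝒯) (hT2 : ∃ T' ∈ 𝒯, T' ≠ T) : False := by
  classical
  set W : Subgroup G := sSup {T' | T' ∈ 𝒯 ∧ T' ≠ T} with hW
  have hTW : ∀ t ∈ T, ∀ w ∈ W, Commute t w := by
    intro t ht w hw
    have hle : W ≤ Subgroup.centralizer ({t} : Set G) := sSup_le fun T' hT' u hu =>
      Subgroup.mem_centralizer_singleton_iff.mpr (hcomm T hT T' hT'.1 hT'.2.symm t ht u hu).eq.symm
    exact (Subgroup.mem_centralizer_singleton_iff.mp (hle hw)).symm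
  have hprod : ∀ n ∈ N, ∃ t ∈ T, ∃ w ∈ W, n = t * w := by
    intro n hn
    have hle : sSup 𝒯 ≤ T ⊔ W := sSup_le fun T' hT' => by
      by_cases h : T' = T
      · exact h ▸ le_sup_left
      · exact (le_sSup (show T' ∈ {T' | T' ∈ 𝒯 ∧ T' ≠ T} from ⟨hT', h⟩)).trans le_sup_right
    have hnorm : T ≤ Subgroup.normalizer (W : Set G) := by
      intro t ht
      rw [Subgroup.mem_normalizer_iff]
      intro x
      constructor
      · intro hx
        rwa [(hTW t ht x hx).eq, mul_inv_cancel_right]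
      · intro hx
        have h := hTW t⁻¹ (inv_mem ht) _ hx
        have h3 : x = t * x * t⁻¹ :=
          calc x = t⁻¹ * (t * x * t⁻¹) * t := by group
            _ = t * x * t⁻¹ := by rw [h.eq, inv_mul_cancel_right]
        rwa [← h3] at hx
    have h := hle (hN hn)
    rw [← SetLike.mem_coe, Subgroup.coe_mul_of_left_le_normalizer_right T W hnorm,
      Set.mem_mul] at h
    obtain ⟨t, ht, w, hw, e⟩ := h
    exact ⟨t, ht, w, hw, e.symm⟩
  have hTne := hne T hT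
  by_cases htrans : ∀ ω : Ω, ∃ t ∈ T, t • a = ω
  · -- a transitive factor is semiregular
    obtain ⟨T', hT', hne'⟩ := hT2
    have hsemi : ∀ T₁ ∈ 𝒯, ∀ T₂ ∈ 𝒯, T₁ ≠ T₂ → (∀ ω : Ω, ∃ t ∈ T₁, t • a = ω) →
        ∀ u ∈ T₂, u ≠ 1 → Der Ω u := by
      intro T₁ h₁ T₂ h₂ h12 htr u hu hu1 ω hω
      refine hu1 (eq_of_smul_eq_smul (α := Ω) fun ν => ?_)
      obtain ⟨t, ht, rfl⟩ := htr ν
      obtain ⟨t₀, ht₀, rfl⟩ := htr ω
      have e1 : u • a = a := by
        have := hω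
        rw [smul_comm_of_commute (hcomm T₂ h₂ T₁ h₁ h12.symm u hu t₀ ht₀)] at this
        exact MulAction.injective t₀ this
      rw [one_smul, smul_comm_of_commute (hcomm T₂ h₂ T₁ h₁ h12.symm u hu t ht), e1]
    have hd := hsemi T hT T' hT' hne'.symm htrans
    refine not_all_orderOf_eq T' (hne T' hT') (hcent T' hT') fun u hu v hv hu1 hv1 => ?_
    obtain ⟨g, hg⟩ := isConj_iff.mp (hone u v (hd u hu hu1) (hd v hv hv1))
    rw [← hg, ← MulAut.conj_apply, MulEquiv.orderOf_eq]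
  push Not at htrans
  obtain ⟨ω₀, hω₀⟩ := htrans
  -- an element of W moving every orbit of T
  let H₀ : Subgroup W :=
    { carrier := {w | ∃ t ∈ T, (w : G) • a = t • a}
      one_mem' := ⟨1, one_mem _, by simp⟩
      mul_mem' := by
        rintro u v ⟨t, ht, e⟩ ⟨t', ht', e'⟩
        refine ⟨t' * t, mul_mem ht' ht, ?_⟩
        rw [Subgroup.coe_mul, mul_smul, e', smul_comm_of_commute (hTW t' ht' u u.2).symm, e,
          mul_smul]
      inv_mem' := by
        rintro u ⟨t, ht, e⟩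
        refine ⟨t⁻¹, inv_mem ht, ?_⟩
        rw [Subgroup.coe_inv, inv_smul_eq_iff,
          smul_comm_of_commute (hTW t⁻¹ (inv_mem ht) u u.2).symm, e, inv_smul_smul] }
  have hH₀ : H₀ ≠ ⊤ := by
    intro h
    obtain ⟨n, hn, hna⟩ := hNt ω₀
    obtain ⟨t, ht, w, hw, rfl⟩ := hprod n hn
    obtain ⟨t', ht', e⟩ : (⟨w, hw⟩ : W) ∈ H₀ := h.symm ▸ Subgroup.mem_top _
    refine hω₀ (t * t') (mul_mem ht ht') ?_
    rw [← hna, mul_smul, mul_smul]
    exact congrArg _ e.symm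
  obtain ⟨⟨s, hs⟩, hsc⟩ := Cfsg.Agent.ClassGraph.exists_forall_conj_notMem H₀ hH₀
  have hmove : ∀ ω : Ω, ∀ t ∈ T, (t * s) • ω ≠ ω := by
    intro ω t ht hω
    obtain ⟨n, hn, hna⟩ := hNt ω
    obtain ⟨t₁, ht₁, u, hu, rfl⟩ := hprod n hn
    refine hsc (⟨u, hu⟩⁻¹) ⟨(t * t₁)⁻¹ * t₁, mul_mem (inv_mem (mul_mem ht ht₁)) ht₁, ?_⟩
    rw [← hna] at hω
    have h1 : t * s * (t₁ * u) = t * t₁ * (s * u) := by
      calc t * s * (t₁ * u) = t * (s * t₁) * u := by group
        _ = t * (t₁ * s) * u := by rw [(hTW t₁ ht₁ s hs).eq]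
        _ = _ := by group
    rw [← mul_smul, h1] at hω
    simp only [Subgroup.coe_mul, inv_inv, Subgroup.coe_inv]
    have h2 : (s * u) • a = ((t * t₁)⁻¹ * t₁) • u • a := by
      rw [← mul_smul, mul_assoc (t * t₁)⁻¹, mul_smul (t * t₁)⁻¹, ← hω, ← mul_smul,
        inv_mul_cancel_left]
    rw [mul_assoc, mul_smul, h2, smul_comm_of_commute
      (hTW _ (mul_mem (inv_mem (mul_mem ht ht₁)) ht₁) u hu), inv_smul_smul]
  obtain ⟨t, ht, ht1⟩ := (Subgroup.bot_or_exists_ne_one T).resolve_left hTne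
  let Cent : G → Set (Subgroup G) := fun x => {T' | T' ∈ 𝒯 ∧ ∀ u ∈ T', Commute x u}
  have hCconj : ∀ x y : G, IsConj x y → (Cent x).ncard ≤ (Cent y).ncard := by
    intro x y hxy
    obtain ⟨g, rfl⟩ := isConj_iff.mp hxy
    refine Set.ncard_le_ncard_of_injOn (fun T' => T'.map (MulAut.conj g).toMonoidHom)
      (fun T' hT' => ⟨h𝒯conj T' hT'.1 g, ?_⟩) (fun T₁ _ T₂ _ e =>
        Subgroup.map_injective (MulAut.conj g).injective e) (Set.toFinite _)
    rintro _ ⟨u, hu, rfl⟩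
    show g * x * g⁻¹ * (g * u * g⁻¹) = g * u * g⁻¹ * (g * x * g⁻¹)
    calc g * x * g⁻¹ * (g * u * g⁻¹) = g * (x * u) * g⁻¹ := by group
      _ = g * (u * x) * g⁻¹ := by rw [(hT'.2 u hu).eq]
      _ = g * u * g⁻¹ * (g * x * g⁻¹) := by group
  have hds : Der Ω s := fun ω => by simpa using hmove ω 1 (one_mem _)
  have hdts : Der Ω (t * s) := fun ω => hmove ω t ht
  have hlt : (Cent (t * s)).ncard < (Cent s).ncard := by
    refine Set.ncard_lt_ncard ⟨fun T' hT' => ⟨hT'.1, fun u hu => ?_⟩, fun hsub => ?_⟩ (Set.toFinite _)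
    · by_cases h : T' = T
      · exact (hTW u (h ▸ hu) s hs).symm
      · have h1 : Commute (t⁻¹ * (t * s)) u :=
          ((hcomm T hT T' hT'.1 (Ne.symm h) t ht u hu).inv_left).mul_left (hT'.2 u hu)
        rwa [inv_mul_cancel_left] at h1
    · have hTs : T ∈ Cent s := ⟨hT, fun u hu => (hTW u hu s hs).symm⟩
      refine ht1 (hcent T hT t ht fun u hu => ?_)
      have h1 : Commute (t * s * s⁻¹) u :=
        ((hsub hTs).2 u hu).mul_left (hTW u hu s hs).symm.inv_left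
      rwa [mul_inv_cancel_right] at h1
  exact absurd (hCconj s (t * s) (hone _ _ hds hdts)) (not_le.mpr hlt)

/-- All derangements conjugate in a non almost simple primitive group forces sharp 2-transitivity. -/
theorem forward [Finite Ω] [FaithfulSMul G Ω] [IsPreprimitive G Ω] [Nontrivial Ω]
    (hnas : ¬ ∃ T : Subgroup G, T.Normal ∧ IsSimpleGroup T ∧ ¬ IsMulCommutative T ∧
      Subgroup.centralizer (T : Set G) = ⊥)
    (hone : ∀ x y : G, Der Ω x → Der Ω y → IsConj x y) :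
    IsMultiplyPretransitive G Ω 2 ∧
      ∀ g : G, g ≠ 1 → ∀ a b : Ω, a ≠ b → g • a = a → g • b ≠ b := by
  classical
  obtain ⟨a, b, hab⟩ := exists_pair_ne Ω
  have htrans : ∀ M : Subgroup G, M.Normal → M ≠ ⊥ → ∀ x y : Ω, ∃ m ∈ M, m • x = y := by
    intro M hM hM1 x y
    have hfix : MulAction.fixedPoints M Ω ≠ Set.univ := by
      intro h
      refine hM1 (Subgroup.eq_bot_iff_forall _ |>.mpr fun m hm => eq_of_smul_eq_smul (α := Ω) fun ω => ?_)
      rw [one_smul]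
      exact (h.symm ▸ Set.mem_univ ω : ω ∈ MulAction.fixedPoints M Ω) ⟨m, hm⟩
    haveI := IsQuasiPreprimitive.isPretransitive_of_normal (G := G) (X := Ω) hfix
    obtain ⟨m, hm⟩ := exists_smul_eq M x y
    exact ⟨m, m.2, hm⟩
  obtain ⟨d, hd⟩ := exists_der (G := G) hab
  -- a minimal normal subgroup
  obtain ⟨N, hNmin⟩ : ∃ N : Subgroup G, Minimal (fun M : Subgroup G => M.Normal ∧ M ≠ ⊥) N := by
    refine (Set.toFinite {M : Subgroup G | M.Normal ∧ M ≠ ⊥}).exists_minimal ⟨⊤, inferInstance, ?_⟩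
    intro h
    have hd1 : d = 1 := by
      have := Subgroup.mem_top d
      rwa [h, Subgroup.mem_bot] at this
    exact hd a (by rw [hd1, one_smul])
  obtain ⟨hNn, hN1⟩ := hNmin.prop
  have hNt := htrans N hNn hN1
  -- every derangement lies in N
  have hdN : ∀ x : G, Der Ω x → x ∈ N := by
    obtain ⟨n, hn⟩ : ∃ n : N, ∀ ω : Ω, (n : G) • ω ≠ ω := by
      haveI : IsPretransitive N Ω := ⟨fun x y => by
        obtain ⟨m, hm, e⟩ := hNt x y; exact ⟨⟨m, hm⟩, e⟩⟩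
      obtain ⟨n, hn⟩ := exists_der (G := N) hab
      exact ⟨n, hn⟩
    intro x hx
    obtain ⟨g, rfl⟩ := isConj_iff.mp (hone n x hn hx)
    exact hNn.conj_mem _ n.2 g
  by_cases hreg : ∀ n ∈ N, n ≠ 1 → Der Ω n
  · -- N is regular
    have hinj : ∀ n ∈ N, ∀ n' ∈ N, n • a = n' • a → n = n' := by
      intro n hn n' hn' e
      by_contra hne
      refine hreg (n'⁻¹ * n) (mul_mem (inv_mem hn') hn)
        (fun h => hne (inv_mul_eq_one.mp h).symm) a ?_
      rw [mul_smul, e, inv_smul_smul]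
    have hconjN : ∀ n ∈ N, ∀ n' ∈ N, n ≠ 1 → n' ≠ 1 → IsConj n n' := fun n hn n' hn' h h' =>
      hone _ _ (hreg n hn h) (hreg n' hn' h')
    have habel : ∀ n ∈ N, ∀ n' ∈ N, Commute n n' := by
      obtain ⟨Z, hZ⟩ : ∃ Z : Subgroup G, Z = N ⊓ Subgroup.centralizer (N : Set G) := ⟨_, rfl⟩
      have hZn : Z.Normal := hZ ▸ inferInstance
      by_cases hZ1 : Z = ⊥
      · exfalso
        refine not_all_orderOf_eq N hN1 (fun t ht hc => ?_) fun u hu v hv hu1 hv1 => ?_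
        · have : t ∈ Z := hZ ▸ ⟨ht, Subgroup.mem_centralizer_iff.mpr fun y hy => (hc y hy).eq.symm⟩
          rwa [hZ1, Subgroup.mem_bot] at this
        · obtain ⟨g, hg⟩ := isConj_iff.mp (hconjN u hu v hv hu1 hv1)
          rw [← hg, ← MulAut.conj_apply, MulEquiv.orderOf_eq]
      · intro n hn n' hn'
        have hle : N ≤ Z := hNmin.le_of_le ⟨hZn, hZ1⟩ (hZ ▸ inf_le_left)
        exact (Subgroup.mem_centralizer_iff.mp (hZ ▸ hle hn).2 n' hn').symm
    have hstab : ∀ c₁ c₂ : Ω, c₁ ≠ a → c₂ ≠ a → ∃ h : G, h • a = a ∧ h • c₁ = c₂ := by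
      intro c₁ c₂ h1 h2
      obtain ⟨n₁, hn₁, e₁⟩ := hNt a c₁
      obtain ⟨n₂, hn₂, e₂⟩ := hNt a c₂
      obtain ⟨g, hg⟩ := isConj_iff.mp (hconjN n₁ hn₁ n₂ hn₂
        (fun h => h1 (by rw [← e₁, h, one_smul])) (fun h => h2 (by rw [← e₂, h, one_smul])))
      obtain ⟨n, hn, hng⟩ := hNt (g • a) a
      refine ⟨n * g, by rw [mul_smul, hng], ?_⟩
      have hk : n * g * n₁ * (n * g)⁻¹ = n₂ := by
        calc n * g * n₁ * (n * g)⁻¹ = n * (g * n₁ * g⁻¹) * n⁻¹ := by group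
          _ = n * n₂ * n⁻¹ := by rw [hg]
          _ = n₂ := by rw [(habel n hn n₂ hn₂).eq, mul_inv_cancel_right]
      rw [← e₁, ← e₂, ← hk, mul_smul (n * g * n₁), inv_smul_eq_iff.mpr (by rw [mul_smul, hng])]
      simp only [mul_smul]
    constructor
    · rw [is_two_pretransitive_iff]
      intro p q r s hpq hrs
      obtain ⟨n, -, hn⟩ := hNt p a
      obtain ⟨m, -, hm⟩ := hNt a r
      obtain ⟨h, ha', hh⟩ := hstab (n • q) (m⁻¹ • s)
        (fun e => hpq (MulAction.injective n (hn.trans e.symm)))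
        (fun e => hrs (by rw [inv_smul_eq_iff.mp e, hm]))
      exact ⟨m * h * n, by rw [mul_smul, mul_smul, hn, ha', hm],
        by rw [mul_smul, mul_smul, hh, smul_inv_smul]⟩
    · intro g hg1 c₁ c₂ hne hc₁ hc₂
      have hgN : g ∉ N := fun h => hreg g h hg1 c₁ hc₁
      obtain ⟨n₀, hn₀, e₀⟩ := hNt c₁ c₂
      have hcomm : g * n₀ * g⁻¹ = n₀ := by
        have h1 : (g * n₀ * g⁻¹) • c₁ = n₀ • c₁ := by
          rw [mul_smul, mul_smul, inv_smul_eq_iff.mpr hc₁.symm, e₀, hc₂]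
        by_contra hne'
        refine hreg (n₀⁻¹ * (g * n₀ * g⁻¹)) (mul_mem (inv_mem hn₀) (hNn.conj_mem _ hn₀ g))
          (fun h => hne' (inv_mul_eq_one.mp h).symm) c₁ ?_
        rw [mul_smul, h1, inv_smul_smul]
      let f : N → N := fun m => ⟨m * (g * (m : G)⁻¹ * g⁻¹), mul_mem m.2 (hNn.conj_mem _ (inv_mem m.2) g)⟩
      have hf : Function.Surjective f := by
        intro n
        have hnd : ¬ Der Ω ((n : G) * g) := fun h => hgN (by
          have := mul_mem (inv_mem n.2) (hdN _ h)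
          rwa [inv_mul_cancel_left] at this)
        simp only [Der] at hnd
        push Not at hnd
        obtain ⟨ω, hω⟩ := hnd
        obtain ⟨m, hm, rfl⟩ := hNt c₁ ω
        refine ⟨⟨m, hm⟩, Subtype.ext ?_⟩
        show m * (g * m⁻¹ * g⁻¹) = (n : G)
        by_contra hne'
        refine hreg (m⁻¹ * ((n : G) * (g * m * g⁻¹)))
          (mul_mem (inv_mem hm) (mul_mem n.2 (hNn.conj_mem _ hm g))) ?_ c₁ ?_
        · intro h
          apply hne'
          have h2 := inv_mul_eq_one.mp h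
          calc m * (g * m⁻¹ * g⁻¹) = (n : G) * (g * m * g⁻¹) * (g * m⁻¹ * g⁻¹) := by rw [← h2]
            _ = n := by group
        · rw [mul_smul, mul_smul, mul_smul, mul_smul, inv_smul_eq_iff.mpr hc₁.symm, ← mul_smul (n : G),
            hω, inv_smul_smul]
      have h10 := (Finite.injective_iff_surjective.mpr hf) (a₁ := ⟨n₀, hn₀⟩) (a₂ := 1) (Subtype.ext (by
        show n₀ * (g * n₀⁻¹ * g⁻¹) = 1 * (g * (1 : G)⁻¹ * g⁻¹)
        have h3 : g * n₀⁻¹ * g⁻¹ = n₀⁻¹ := by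
          have h4 := congrArg (·⁻¹) hcomm
          simpa [mul_assoc] using h4
        rw [h3]; simp))
      have h11 : n₀ = 1 := congrArg Subtype.val h10
      exact hne (by rw [← e₀, h11, one_smul])
  -- N is not regular: it is a product of at least two simple factors, which is impossible
  exfalso
  push Not at hreg
  obtain ⟨s, hs, hs1, hsd⟩ := hreg
  simp only [Der] at hsd
  push Not at hsd
  obtain ⟨c, hc⟩ := hsd
  have hnab : ∃ n ∈ N, ∃ n' ∈ N, ¬ Commute n n' := by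
    by_contra hcon
    push Not at hcon
    refine hs1 (eq_of_smul_eq_smul (α := Ω) fun ω => ?_)
    obtain ⟨m, hm, rfl⟩ := hNt c ω
    rw [one_smul, smul_comm_of_commute (hcon s hs m hm), hc]
  have hCN : Subgroup.centralizer (N : Set G) = ⊥ := by
    by_contra hC
    have hCn : (Subgroup.centralizer (N : Set G)).Normal := inferInstance
    refine hs1 (eq_of_smul_eq_smul (α := Ω) fun ω => ?_)
    obtain ⟨m, hm, rfl⟩ := htrans _ hCn hC c ω
    rw [one_smul, smul_comm_of_commute (Subgroup.mem_centralizer_iff.mp hm s hs), hc]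
  obtain ⟨T, hTmin⟩ : ∃ T : Subgroup G,
      Minimal (fun M : Subgroup G => M ≤ N ∧ M ≠ ⊥ ∧ ∀ n ∈ N, ∀ m ∈ M, n * m * n⁻¹ ∈ M) T :=
    (Set.toFinite {M : Subgroup G | M ≤ N ∧ M ≠ ⊥ ∧ ∀ n ∈ N, ∀ m ∈ M, n * m * n⁻¹ ∈ M}).exists_minimal
      ⟨N, le_rfl, hN1, fun n _ m hm => hNn.conj_mem m hm n⟩
  obtain ⟨hTN, hT1, hTn⟩ := hTmin.prop
  obtain ⟨𝒯, h𝒯⟩ : ∃ 𝒯 : Set (Subgroup G),
      𝒯 = Set.range fun g : G => T.map (MulAut.conj g).toMonoidHom := ⟨_, rfl⟩
  have hmemN : ∀ T' ∈ 𝒯, T' ≤ N := by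
    rw [h𝒯]
    rintro _ ⟨g, rfl⟩ _ ⟨t, ht, rfl⟩
    exact hNn.conj_mem t (hTN ht) g
  have hnormT : ∀ T' ∈ 𝒯, ∀ n ∈ N, ∀ m ∈ T', n * m * n⁻¹ ∈ T' := by
    rw [h𝒯]
    rintro _ ⟨g, rfl⟩ n hn _ ⟨t, ht, rfl⟩
    refine ⟨g⁻¹ * n * g * t * (g⁻¹ * n * g)⁻¹, hTn _ ?_ t ht, ?_⟩
    · have := hNn.conj_mem n hn g⁻¹
      rwa [inv_inv] at this
    · show g * _ * g⁻¹ = n * (g * t * g⁻¹) * n⁻¹
      group
  have hmin : ∀ T' ∈ 𝒯, ∀ M : Subgroup G, M ≤ T' → (∀ n ∈ N, ∀ m ∈ M, n * m * n⁻¹ ∈ M) →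
      M ≠ ⊥ → T' ≤ M := by
    rw [h𝒯]
    rintro _ ⟨g, rfl⟩ M hM hMn hM1
    have hle : T ≤ M.comap (MulAut.conj g).toMonoidHom := hTmin.le_of_le
      ⟨fun x hx => ?_, fun h => hM1 ?_, fun n hn m hm => ?_⟩ (fun x hx => ?_)
    · rintro _ ⟨t, ht, rfl⟩
      exact hle ht
    · obtain ⟨t, ht, e⟩ := hM hx
      exact hTN ((MulAut.conj g).injective e ▸ ht)
    · rw [eq_bot_iff]
      intro y hy
      obtain ⟨t, ht, rfl⟩ := hM hy
      have : t ∈ M.comap (MulAut.conj g).toMonoidHom := hy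
      rw [h, Subgroup.mem_bot] at this
      simp [this]
    · show g * (n * m * n⁻¹) * g⁻¹ ∈ M
      have h1 := hMn (g * n * g⁻¹) (hNn.conj_mem n hn g) (g * m * g⁻¹) hm
      convert h1 using 1
      group
    · obtain ⟨t, ht, e⟩ := hM hx
      exact (MulAut.conj g).injective e ▸ ht
  have hT𝒯 : T ∈ 𝒯 := h𝒯 ▸ ⟨1, by ext x; simp⟩
  have hne : ∀ T' ∈ 𝒯, T' ≠ ⊥ := by
    rw [h𝒯]
    rintro _ ⟨g, rfl⟩
    exact fun h => hT1 ((Subgroup.map_eq_bot_iff_of_injective _ (MulAut.conj g).injective).mp h)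
  have hcomm : ∀ T₁ ∈ 𝒯, ∀ T₂ ∈ 𝒯, T₁ ≠ T₂ → ∀ t ∈ T₁, ∀ u ∈ T₂, Commute t u := by
    intro T₁ h₁ T₂ h₂ h12 t ht u hu
    have hbot : T₁ ⊓ T₂ = ⊥ := by
      by_contra hb
      have hn : ∀ n ∈ N, ∀ m ∈ T₁ ⊓ T₂, n * m * n⁻¹ ∈ T₁ ⊓ T₂ := fun n hn m hm =>
        ⟨hnormT T₁ h₁ n hn m hm.1, hnormT T₂ h₂ n hn m hm.2⟩
      exact h12 (le_antisymm ((hmin T₁ h₁ _ inf_le_left hn hb).trans inf_le_right)
        ((hmin T₂ h₂ _ inf_le_right hn hb).trans inf_le_left))
    have hmem : t * u * t⁻¹ * u⁻¹ ∈ T₁ ⊓ T₂ := by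
      refine ⟨?_, T₂.mul_mem (hnormT T₂ h₂ t (hmemN T₁ h₁ ht) u hu) (T₂.inv_mem hu)⟩
      rw [show t * u * t⁻¹ * u⁻¹ = t * (u * t⁻¹ * u⁻¹) by group]
      exact T₁.mul_mem ht (hnormT T₁ h₁ u (hmemN T₂ h₂ hu) _ (T₁.inv_mem ht))
    rw [hbot, Subgroup.mem_bot, mul_inv_eq_one, mul_inv_eq_iff_eq_mul] at hmem
    exact hmem
  have h𝒯conj : ∀ T' ∈ 𝒯, ∀ g : G, T'.map (MulAut.conj g).toMonoidHom ∈ 𝒯 := by
    rw [h𝒯]
    rintro _ ⟨g, rfl⟩ h
    refine ⟨h * g, ?_⟩
    rw [Subgroup.map_map]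
    congr 1
    ext x
    simp [mul_assoc]
  have hNle : N ≤ sSup 𝒯 := by
    refine hNmin.le_of_le ⟨⟨fun x hx g => ?_⟩, fun h => hT1 (eq_bot_iff.mpr (h ▸ le_sSup hT𝒯))⟩
      (sSup_le hmemN)
    have hle : (sSup 𝒯).map (MulAut.conj g).toMonoidHom ≤ sSup 𝒯 := by
      rw [Subgroup.map_le_iff_le_comap]
      refine sSup_le fun T' hT' => ?_
      rw [← Subgroup.map_le_iff_le_comap]
      exact le_sSup (h𝒯conj T' hT' g)
    exact hle ⟨x, hx, rfl⟩
  have hcent : ∀ T' ∈ 𝒯, ∀ t ∈ T', (∀ u ∈ T', Commute t u) → t = 1 := by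
    intro T' hT' t ht hc
    have hle : N ≤ Subgroup.centralizer ({t} : Set G) := hNle.trans (sSup_le fun T'' hT'' u hu =>
      Subgroup.mem_centralizer_singleton_iff.mpr (by
        by_cases h : T'' = T'
        · exact (hc u (h ▸ hu)).eq.symm
        · exact (hcomm T'' hT'' T' hT' h u hu t ht).eq))
    have : t ∈ Subgroup.centralizer (N : Set G) := Subgroup.mem_centralizer_iff.mpr fun n hn =>
      Subgroup.mem_centralizer_singleton_iff.mp (hle hn)
    rwa [hCN, Subgroup.mem_bot] at this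
  by_cases hT2 : ∃ T' ∈ 𝒯, T' ≠ T
  · exact no_split N (hNt a) hone 𝒯 h𝒯conj hcomm hne hcent hNle T hT𝒯 hT2
  push Not at hT2
  have hNT : N = T := le_antisymm (hNle.trans (sSup_le fun T' hT' => (hT2 T' hT').le)) hTN
  refine hnas ⟨N, hNn, ?_, ?_, hCN⟩
  · haveI : Nontrivial N := (Subgroup.nontrivial_iff_ne_bot N).mpr hN1
    refine ⟨fun K hK => ?_⟩
    by_cases hK1 : K = ⊥
    · exact Or.inl hK1
    right
    have hle := hmin T hT𝒯 (K.map N.subtype) (hNT ▸ Subgroup.map_subtype_le K)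
      (by
        rintro n hn _ ⟨k, hk, rfl⟩
        exact ⟨⟨n, hn⟩ * k * (⟨n, hn⟩ : N)⁻¹, hK.conj_mem k hk _, rfl⟩)
      (fun h => hK1 ((Subgroup.map_eq_bot_iff_of_injective _ N.subtype_injective).mp h))
    rw [eq_top_iff]
    rintro ⟨x, hx⟩ -
    obtain ⟨k, hk, e⟩ := hle (hNT ▸ hx)
    rwa [show (⟨x, hx⟩ : N) = k from Subtype.ext e.symm]
  · intro h
    obtain ⟨n, hn, n', hn', hne'⟩ := hnab
    exact hne' (congrArg Subtype.val (h.is_comm.comm (⟨n, hn⟩ : N) ⟨n', hn'⟩))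

/-- In a sharply 2-transitive group the derangements are conjugate. -/
theorem backward [Finite Ω] [FaithfulSMul G Ω] [IsPretransitive G Ω] [Nontrivial Ω]
    (h2 : IsMultiplyPretransitive G Ω 2)
    (hsharp : ∀ g : G, g ≠ 1 → ∀ a b : Ω, a ≠ b → g • a = a → g • b ≠ b) :
    (∃ x : G, Der Ω x) ∧ ∀ x y : G, Der Ω x → Der Ω y → IsConj x y := by
  classical
  obtain ⟨a, b, hab⟩ := exists_pair_ne Ω
  refine ⟨exists_der hab, fun x y hx hy => ?_⟩
  have htwo : ∀ {p q r s : Ω}, p ≠ q → r ≠ s → ∃ g : G, g • p = r ∧ g • q = s :=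
    is_two_pretransitive_iff.mp h2
  have hn : 2 ≤ Nat.card Ω := Finite.one_lt_card
  have hH : ∀ c : Ω, Nat.card (stabilizer G c) = Nat.card Ω - 1 := by
    intro c
    obtain ⟨e, he⟩ := exists_ne c
    have hbij : Function.Bijective (fun h : stabilizer G c =>
        (⟨(h : G) • e, fun hh => he (MulAction.injective (h : G) (hh.trans (mem_stabilizer_iff.mp h.2).symm))⟩ :
          {ω : Ω // ω ≠ c})) := by
      constructor
      · intro h h' hh
        apply Subtype.ext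
        by_contra hne
        refine hsharp ((h' : G)⁻¹ * h) (fun e' => hne (inv_mul_eq_one.mp e').symm) c e he.symm ?_ ?_
        · rw [mul_smul, mem_stabilizer_iff.mp h.2, inv_smul_eq_iff, mem_stabilizer_iff.mp h'.2]
        · rw [mul_smul, inv_smul_eq_iff]
          exact congrArg Subtype.val hh
      · rintro ⟨ω, hω⟩
        obtain ⟨g, hg1, hg2⟩ := htwo he.symm (Ne.symm hω)
        exact ⟨⟨g, hg1⟩, Subtype.ext hg2⟩
    rw [Nat.card_congr (Equiv.ofBijective _ hbij)]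
    have h := Set.ncard_add_ncard_compl ({c} : Set Ω)
    rw [Set.ncard_singleton] at h
    have h' : Nat.card {ω : Ω // ω ≠ c} = ({c}ᶜ : Set Ω).ncard := by
      rw [← Nat.card_coe_set_eq]; rfl
    omega
  have hG : Nat.card G = Nat.card Ω * (Nat.card Ω - 1) := by
    rw [← hH a, ← (stabilizer G a).index_mul_card, index_stabilizer_of_transitive]
  have hS : {g : G | g ≠ 1 ∧ ¬ Der Ω g}.ncard = Nat.card Ω * (Nat.card Ω - 2) := by
    let e : (Σ c : Ω, {h : stabilizer G c // h ≠ 1}) → {g : G | g ≠ 1 ∧ ¬ Der Ω g} := fun z =>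
      ⟨(z.2.1 : G), fun h => z.2.2 (Subtype.ext h), fun h => h z.1 z.2.1.2⟩
    have he : Function.Bijective e := by
      constructor
      · rintro ⟨c, ⟨⟨h, hc⟩, h1⟩⟩ ⟨c', ⟨⟨h', hc'⟩, h1'⟩⟩ heq
        have hh : h = h' := congrArg Subtype.val heq
        subst hh
        have hcc : c = c' := by
          by_contra hne
          exact hsharp h (fun e => h1 (Subtype.ext e)) c c' hne hc hc'
        subst hcc
        rfl
      · rintro ⟨g, hg1, hgd⟩
        simp only [Der] at hgd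
        push Not at hgd
        obtain ⟨c, hc⟩ := hgd
        exact ⟨⟨c, ⟨⟨g, hc⟩, fun h => hg1 (congrArg Subtype.val h)⟩⟩, rfl⟩
    haveI : Fintype Ω := Fintype.ofFinite Ω
    rw [← Nat.card_coe_set_eq, ← Nat.card_congr (Equiv.ofBijective e he), Nat.card_sigma]
    have hfib : ∀ c : Ω, Nat.card {h : stabilizer G c // h ≠ 1} = Nat.card Ω - 2 := by
      intro c
      have h := Set.ncard_add_ncard_compl ({1} : Set (stabilizer G c))
      rw [Set.ncard_singleton, hH c] at h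
      have h' : Nat.card {h : stabilizer G c // h ≠ 1} = ({1}ᶜ : Set (stabilizer G c)).ncard := by
        rw [← Nat.card_coe_set_eq]; rfl
      omega
    simp only [hfib, Finset.sum_const, Finset.card_univ, smul_eq_mul, Nat.card_eq_fintype_card]
  have hD : {g : G | Der Ω g}.ncard = Nat.card Ω - 1 := by
    have hc : {g : G | Der Ω g}ᶜ = insert 1 {g : G | g ≠ 1 ∧ ¬ Der Ω g} := by
      ext g
      by_cases hg : g = 1
      · subst hg; simpa [Der] using (⟨a, one_smul G a⟩ : ∃ ω : Ω, (1 : G) • ω = ω)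
      · simp [hg]
    have h := Set.ncard_add_ncard_compl {g : G | Der Ω g}
    rw [hc, Set.ncard_insert_of_notMem (by simp), hS, hG] at h
    obtain ⟨k, hk⟩ : ∃ k, Nat.card Ω = k + 2 := ⟨Nat.card Ω - 2, by omega⟩
    simp only [hk, show k + 2 - 2 = k from rfl, show k + 2 - 1 = k + 1 from rfl] at h ⊢
    have : (k + 2) * (k + 1) = (k + 2) * k + (k + 2) := by ring
    omega
  have hC : Nat.card (Subgroup.centralizer ({x} : Set G)) ≤ Nat.card Ω := by
    refine Nat.card_le_card_of_injective (fun c => (c : G) • a) fun c c' h => Subtype.ext ?_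
    by_contra hne
    have hk : Commute ((c' : G)⁻¹ * c) x :=
      (Commute.inv_left (Subgroup.mem_centralizer_singleton_iff.mp c'.2)).mul_left
        (Subgroup.mem_centralizer_singleton_iff.mp c.2)
    have hka : ((c' : G)⁻¹ * c) • a = a := by
      rw [mul_smul, inv_smul_eq_iff]; exact h
    refine hsharp _ (fun e => hne (inv_mul_eq_one.mp e).symm) a (x • a) (hx a).symm hka ?_
    rw [smul_comm_of_commute hk, hka]
  have hsub : conjugatesOf x ⊆ {g : G | Der Ω g} := by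
    intro g hg ω hω
    obtain ⟨k, rfl⟩ := isConj_iff.mp hg
    apply hx (k⁻¹ • ω)
    rw [mul_smul, mul_smul] at hω
    exact smul_eq_iff_eq_inv_smul k |>.mp hω
  have hcls : (conjugatesOf x).ncard = (Subgroup.centralizer ({x} : Set G)).index := by
    have h := MulAction.index_stabilizer (ConjAct G) x
    rw [ConjAct.orbit_eq_carrier_conjClasses, ConjAct.stabilizer_eq_centralizer] at h
    exact h.symm
  have heq := Set.eq_of_subset_of_ncard_le hsub (by
    rw [hD, hcls]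
    have h := (Subgroup.centralizer ({x} : Set G)).index_mul_card
    rw [hG] at h
    refine Nat.le_of_mul_le_mul_right ?_ (show 0 < Nat.card Ω by omega)
    calc (Nat.card Ω - 1) * Nat.card Ω = Nat.card Ω * (Nat.card Ω - 1) := mul_comm _ _
      _ = _ := h.symm
      _ ≤ (Subgroup.centralizer ({x} : Set G)).index * Nat.card Ω := Nat.mul_le_mul_left _ hC)
    (Set.toFinite _)
  exact show y ∈ conjugatesOf x from heq ▸ hy

/-- Let a finite group G act faithfully and primitively on a finite set Ω with at least two points, and suppose G is not almost simple (it has no non-abelian simple normal subgroup with trivial centralizer). Then the derangements of G form a single conjugacy class if and only if G is sharply 2-transitive (2-transitive, and no non-identity element fixes two points). -/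
theorem result {G : Type*} [Group G] [Finite G] {Ω : Type*} [Fintype Ω] [MulAction G Ω] [FaithfulSMul G Ω] (hΩ : 2 ≤ Fintype.card Ω) (hprim : MulAction.IsPreprimitive G Ω) (hnas : ¬ ∃ T : Subgroup G, T.Normal ∧ IsSimpleGroup T ∧ ¬ IsMulCommutative T ∧ Subgroup.centralizer (T : Set G) = ⊥) :
    Nat.card {c : ConjClasses G // ∃ g : G, ConjClasses.mk g = c ∧ ∀ ω : Ω, g • ω ≠ ω} = 1 ↔ (MulAction.IsMultiplyPretransitive G Ω 2 ∧ ∀ g : G, g ≠ 1 → ∀ a b : Ω, a ≠ b → g • a = a → g • b ≠ b) := by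
  haveI : Nontrivial Ω := Fintype.one_lt_card_iff_nontrivial.mp (by omega)
  haveI := hprim
  constructor
  · intro h
    refine forward hnas fun x y hx hy => ?_
    obtain ⟨hsub, -⟩ := Nat.card_eq_one_iff_unique.mp h
    exact ConjClasses.mk_eq_mk_iff_isConj.mp (congrArg Subtype.val
      (hsub.elim ⟨ConjClasses.mk x, x, rfl, hx⟩ ⟨ConjClasses.mk y, y, rfl, hy⟩))
  · rintro ⟨h2, hsharp⟩
    obtain ⟨⟨x, hx⟩, hone⟩ := backward h2 hsharp
    refine Nat.card_eq_one_iff_unique.mpr ⟨⟨?_⟩, ⟨⟨ConjClasses.mk x, x, rfl, hx⟩⟩⟩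
    rintro ⟨_, u, rfl, hu⟩ ⟨_, v, rfl, hv⟩
    exact Subtype.ext (ConjClasses.mk_eq_mk_iff_isConj.mpr (hone u v hu hv))

end Cfsg.Agent.S3501
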