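import Cfsg.Statements.S3504
import Mathlib

set_option autoImplicit false
open Cfsg

namespace Cfsg.Agent.S3504

/-- A derangement of prime order `r` exists whenever `r` divides the degree. -/
theorem exists_derangement {n r : ℕ} (hr : r.Prime) (hd : r ∣ n) (hn : n ≠ 0) :
    ∃ g : Equiv.Perm (Fin n), orderOf g = r ∧ ∀ i, g i ≠ i := by
  obtain ⟨m, rfl⟩ := hd
  haveI : Fact r.Prime := ⟨hr⟩
  haveI : NeZero r := ⟨hr.ne_zero⟩
  let e : ZMod r × Fin m ≃ Fin (r * m) :=
    ((ZMod.finEquiv r).symm.toEquiv.prodCongr (Equiv.refl (Fin m))).trans finProdFinEquiv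
  let g : Equiv.Perm (Fin (r * m)) := (e.symm.trans
    ((Equiv.addRight (1 : ZMod r)).prodCongr (Equiv.refl (Fin m)))).trans e
  have happ : ∀ i, g i = e ((e.symm i).1 + 1, (e.symm i).2) := fun i => rfl
  have hne : ∀ i, g i ≠ i := by
    intro i h
    rw [happ, ← e.eq_symm_apply] at h
    have := congrArg Prod.fst h
    simp at this
  have hpow : ∀ k : ℕ, ∀ i, (g ^ k) i = e ((e.symm i).1 + k, (e.symm i).2) := by
    intro k
    induction k with
    | zero => intro i; simp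
    | succ k ih =>
      intro i
      rw [pow_succ', Equiv.Perm.mul_apply, ih, happ, e.symm_apply_apply]
      push_cast
      rw [add_assoc]
  refine ⟨g, orderOf_eq_prime (Equiv.ext fun i => by rw [hpow]; simp) ?_, hne⟩
  intro h
  exact hne ⟨0, Nat.pos_of_ne_zero hn⟩ (by rw [h]; rfl)

/-- The cycle type of a derangement of prime order. -/
theorem cycleType_derangement {n : ℕ} (g : Equiv.Perm (Fin n)) (hg : (orderOf g).Prime)
    (hne : ∀ i, g i ≠ i) :
    orderOf g ∣ n ∧ g.cycleType = Multiset.replicate (n / orderOf g) (orderOf g) := by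
  obtain ⟨k, hk⟩ := Equiv.Perm.cycleType_prime_order hg
  have hsum : g.cycleType.sum = n := by
    rw [Equiv.Perm.sum_cycleType,
      show g.support = Finset.univ from Finset.eq_univ_of_forall fun i => Equiv.Perm.mem_support.2 (hne i)]
    simp
  rw [hk, Multiset.sum_replicate, smul_eq_mul] at hsum
  refine ⟨⟨k + 1, by rw [mul_comm]; exact hsum.symm⟩, ?_⟩
  rw [hk]
  congr 1
  exact (Nat.div_eq_of_eq_mul_left hg.pos hsum.symm).symm

/-- For n ≥ 5, the fixed-point-free permutations of prime order in the symmetric group of degree n form a single conjugacy class if and only if n is a prime power. -/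
theorem result (n : ℕ) (hn : 5 ≤ n) :
    Nat.card {c : ConjClasses (Equiv.Perm (Fin n)) // ∃ g : Equiv.Perm (Fin n), ConjClasses.mk g = c ∧ (orderOf g).Prime ∧ ∀ i : Fin n, g i ≠ i} = 1 ↔ IsPrimePow n := by
  rw [isPrimePow_iff_unique_prime_dvd, Nat.card_eq_one_iff_unique]
  constructor
  · rintro ⟨hs, -⟩
    obtain ⟨p, hp, hpd⟩ := Nat.exists_prime_and_dvd (show n ≠ 1 by omega)
    refine ⟨p, ⟨hp, hpd⟩, fun q ⟨hq, hqd⟩ => ?_⟩
    obtain ⟨g, hg, hgne⟩ := exists_derangement hp hpd (by omega)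
    obtain ⟨h, hh, hhne⟩ := exists_derangement hq hqd (by omega)
    have := Subtype.ext_iff.1 (hs.elim
      ⟨ConjClasses.mk h, h, rfl, hh ▸ hq, hhne⟩ ⟨ConjClasses.mk g, g, rfl, hg ▸ hp, hgne⟩)
    obtain ⟨c, hc⟩ := isConj_iff.1 (ConjClasses.mk_eq_mk_iff_isConj.1 this)
    rw [← hh, ← hg, ← hc, ← MulAut.conj_apply, MulEquiv.orderOf_eq]
  · rintro ⟨p, ⟨hp, hpd⟩, hu⟩
    refine ⟨⟨?_⟩, ?_⟩
    · rintro ⟨_, g, rfl, hg, hgne⟩ ⟨_, h, rfl, hh, hhne⟩
      obtain ⟨hgd, hgc⟩ := cycleType_derangement g hg hgne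
      obtain ⟨hhd, hhc⟩ := cycleType_derangement h hh hhne
      have e : orderOf g = orderOf h := (hu _ ⟨hg, hgd⟩).trans (hu _ ⟨hh, hhd⟩).symm
      refine Subtype.ext (ConjClasses.mk_eq_mk_iff_isConj.2 ?_)
      rw [Equiv.Perm.isConj_iff_cycleType_eq, hgc, hhc, e]
    · obtain ⟨g, hg, hgne⟩ := exists_derangement hp hpd (by omega)
      exact ⟨⟨ConjClasses.mk g, g, rfl, hg ▸ hp, hgne⟩⟩

end Cfsg.Agent.S3504
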