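import Cfsg.Statements.S3508
import Mathlib

set_option autoImplicit false
open Cfsg

namespace Cfsg.Agent.S3508

open Polynomial in
theorem geom_eq_sub_one_pow {p : ℕ} [hp : Fact p.Prime] {A : Type*} [Ring A] [Algebra (ZMod p) A]
    (u : A) (s : ℕ) : (u - 1) ^ (p ^ s - 1) = ∑ i ∈ Finset.range (p ^ s), u ^ i := by
  have h0 : (X - 1 : (ZMod p)[X]) ^ (p ^ s - 1) = ∑ i ∈ Finset.range (p ^ s), (X : (ZMod p)[X]) ^ i := by
    refine mul_left_cancel₀ (X_sub_C_ne_zero (1 : ZMod p)) ?_
    rw [map_one, ← pow_succ', Nat.sub_add_cancel (Nat.one_le_pow _ _ hp.out.pos), mul_geom_sum,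
      sub_pow_char_pow, one_pow]
  simpa using congrArg (aeval u) h0

open Polynomial in
theorem sub_one_pow_finrank {p : ℕ} [hp : Fact p.Prime] {V : Type*} [AddCommGroup V]
    [Module (ZMod p) V] [Finite V] (u : Module.End (ZMod p) V) {s : ℕ} (hu : u ^ p ^ s = 1) :
    (u - 1) ^ Module.finrank (ZMod p) V = 0 := by
  have h0 : (u - 1) ^ p ^ s = 0 := by
    have h := congrArg (aeval u) (show (X - 1 : (ZMod p)[X]) ^ (p ^ s) = X ^ (p ^ s) - 1 by
      rw [sub_pow_char_pow, one_pow])
    simp only [map_pow, map_sub, aeval_X, map_one] at h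
    rw [h, hu, sub_self]
  have := LinearMap.aeval_self_charpoly (u - 1)
  rwa [(LinearMap.charpoly_eq_X_pow_iff _).2 fun v => ⟨p ^ s, by rw [h0]; rfl⟩, map_pow, aeval_X] at this

/-- Let a finite group G act faithfully on a set Ω with p ^ m points (p prime) and have an elementary abelian normal p-subgroup N acting regularly on Ω (so G is a group of affine transformations of an m-dimensional space over the field with p elements). If G contains an element of order p ^ r with r ≥ 1, then p ^ (r − 1) ≤ m. In particular an element of order p ^ m forces m ≤ 2, and m ≤ 1 when p is odd. -/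
theorem result {G : Type*} [Group G] [Finite G] {Ω : Type*} [Fintype Ω] [MulAction G Ω] [FaithfulSMul G Ω] (p m : ℕ) (hp : p.Prime) (hcard : Fintype.card Ω = p ^ m)
    (N : Subgroup G) [N.Normal] (hNc : IsMulCommutative N) (hNp : ∀ n ∈ N, n ^ p = 1)
    (hNtr : MulAction.IsPretransitive N Ω) (hNreg : ∀ ω : Ω, MulAction.stabilizer N ω = ⊥)
    (g : G) (r : ℕ) (hr : 1 ≤ r) (hg : orderOf g = p ^ r) :
    p ^ (r - 1) ≤ m ∧ (r = m → m ≤ 2 ∧ (2 < p → m ≤ 1)) := by
  haveI := Fact.mk hp
  haveI := hNc
  haveI := hNtr
  have key : p ^ (r - 1) ≤ m := by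
    by_contra hlt
    push Not at hlt
    set q := p ^ (r - 1) with hq
    letI : CommGroup N := { (inferInstance : Group N) with mul_comm := hNc.is_comm.comm }
    let V := Additive N
    obtain ⟨hmod⟩ : Nonempty (Module (ZMod p) (Additive N)) := ⟨AddCommGroup.zmodModule fun x =>
      Additive.toMul.injective (Subtype.ext (hNp _ (Additive.toMul x).2))⟩
    letI := hmod
    haveI : Finite (Additive N) := inferInstanceAs (Finite N)
    obtain ⟨ω⟩ : Nonempty Ω := Fintype.card_pos_iff.1 (by rw [hcard]; exact pow_pos hp.pos m)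
    have hNcard : Nat.card N = p ^ m := by
      rw [← hcard, ← Nat.card_eq_fintype_card]
      refine Nat.card_congr (Equiv.ofBijective (fun n : N => n • ω) ⟨fun a b hab => ?_, fun w => ?_⟩)
      · have : b⁻¹ * a ∈ MulAction.stabilizer N ω := by
          rw [MulAction.mem_stabilizer_iff, mul_smul]
          exact inv_smul_eq_iff.2 hab
        rw [hNreg, Subgroup.mem_bot, inv_mul_eq_one] at this
        exact this.symm
      · exact MulAction.exists_smul_eq N ω w
    have hrank : Module.finrank (ZMod p) (Additive N) = m := by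
      have := Module.natCard_eq_pow_finrank (K := ZMod p) (V := Additive N)
      rw [Nat.card_zmod, show Nat.card (Additive N) = Nat.card N from rfl, hNcard] at this
      exact (Nat.pow_right_injective hp.two_le this).symm
    obtain ⟨n, hn⟩ := MulAction.exists_smul_eq N ω (g • ω)
    set h := (n : G)⁻¹ * g with hh
    have hω : h • ω = ω := by
      rw [hh, mul_smul, ← hn]
      exact inv_smul_smul (n : G) ω
    let u : Module.End (ZMod p) (Additive N) := AddMonoidHom.toZModLinearMap p
      (MonoidHom.toAdditive (((MulAut.conjNormal g : MulAut N)).toMonoidHom))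
    have hu : ∀ (k : ℕ) (x : N), ((Additive.toMul ((u ^ k) (Additive.ofMul x)) : N) : G) =
        g ^ k * x * (g ^ k)⁻¹ := by
      intro k
      induction k with
      | zero => intro x; simp
      | succ k ih =>
        intro x
        rw [pow_succ' u, Module.End.mul_apply]
        show ((MulAut.conjNormal g (Additive.toMul ((u ^ k) (Additive.ofMul x))) : N) : G) = _
        rw [MulAut.conjNormal_apply, ih x, pow_succ' g]
        group
    have hsum : ∀ k : ℕ, g ^ k =
        ((Additive.toMul ((∑ i ∈ Finset.range k, u ^ i) (Additive.ofMul n)) : N) : G) * h ^ k := by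
      intro k
      induction k with
      | zero => simp
      | succ k ih =>
        rw [geom_sum_succ, LinearMap.add_apply, Module.End.one_apply, Module.End.mul_apply,
          toMul_add, Subgroup.coe_mul, toMul_ofMul]
        set S := (Additive.toMul ((∑ i ∈ Finset.range k, u ^ i) (Additive.ofMul n)) : N) with hS
        show g ^ (k + 1) = ((MulAut.conjNormal g S : N) : G) * (n : G) * h ^ (k + 1)
        rw [MulAut.conjNormal_apply, pow_succ' g, ih, pow_succ' h]
        generalize h ^ k = K
        rw [hh]
        group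
    have hpr : u ^ p ^ r = 1 := by
      refine LinearMap.ext fun x => Additive.toMul.injective (Subtype.ext ?_)
      have := hu (p ^ r) (Additive.toMul x)
      rw [ofMul_toMul, ← hg, pow_orderOf_eq_one, one_mul, inv_one, mul_one] at this
      rw [hg] at this
      exact this
    have hnil : ∀ k, m ≤ k → (u - 1) ^ k = 0 := fun k hk => by
      have := sub_one_pow_finrank u hpr
      rw [hrank] at this
      exact pow_eq_zero_of_le hk this
    have huq : u ^ q = 1 := by
      have h1 := geom_eq_sub_one_pow (A := Module.End (ZMod p) (Additive N)) (p := p) u (r - 1)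
      rw [hnil _ (by omega)] at h1
      have h2 := mul_geom_sum u q
      rw [← h1, mul_zero] at h2
      exact sub_eq_zero.1 h2.symm
    have hgq : g ^ q = h ^ q := by
      rw [hsum q, ← geom_eq_sub_one_pow u (r - 1), hnil _ (by omega)]
      simp
    have hcentral : ∀ x : N, h ^ q * x = x * h ^ q := fun x => by
      have := hu q x
      rw [huq, Module.End.one_apply, toMul_ofMul, eq_mul_inv_iff_mul_eq] at this
      rw [← hgq, this]
    have hωq : (h ^ q) • ω = ω := by
      have : h ∈ MulAction.stabilizer G ω := hω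
      exact pow_mem this q
    have h1 : g ^ q = 1 := by
      refine eq_of_smul_eq_smul (α := Ω) fun w => ?_
      obtain ⟨x, rfl⟩ := MulAction.exists_smul_eq N ω w
      rw [one_smul, hgq]
      show h ^ q • ((x : G) • ω) = (x : G) • ω
      rw [← mul_smul, hcentral, mul_smul, hωq]
    have := Nat.le_of_dvd (pow_pos hp.pos _) (orderOf_dvd_of_pow_eq_one h1)
    rw [hg, Nat.pow_le_pow_iff_right hp.one_lt] at this
    omega
  refine ⟨key, fun hrm => ?_⟩
  subst hrm
  have h2 : ∀ j : ℕ, j + 3 < 2 ^ (j + 2) := by
    intro j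
    induction j with
    | zero => norm_num
    | succ j ih => rw [pow_succ]; omega
  refine ⟨?_, fun hp2 => ?_⟩
  · by_contra hc
    obtain ⟨j, rfl⟩ : ∃ j, r = j + 3 := ⟨r - 3, by omega⟩
    have := (h2 j).trans_le ((Nat.pow_le_pow_left hp.two_le (j + 2)).trans key)
    omega
  · by_contra hc
    obtain ⟨j, rfl⟩ : ∃ j, r = j + 2 := ⟨r - 2, by omega⟩
    rcases j with - | j
    · simp at key; omega
    · have := (h2 j).trans_le ((Nat.pow_le_pow_left hp.two_le (j + 2)).trans key)
      omega

end Cfsg.Agent.S3508
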