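import Cfsg.Statements.S3511


set_option autoImplicit false
open Cfsg

namespace Cfsg.Agent.S3511

/-- Let a finite group G act faithfully on a set Ω. If every element of G of square-free order has a regular cycle (an orbit of the cyclic group it generates with trivial stabilizer), then every element of G has a regular cycle. -/
theorem result {G : Type*} [Group G] [Finite G] {Ω : Type*} [MulAction G Ω] [FaithfulSMul G Ω]
    (h : ∀ g : G, Squarefree (orderOf g) → ∃ ω : Ω, MulAction.stabilizer (Subgroup.zpowers g) ω = ⊥) (g : G) :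
    ∃ ω : Ω, MulAction.stabilizer (Subgroup.zpowers g) ω = ⊥ := by
  classical
  set n := orderOf g with hn
  have hn0 : 0 < n := orderOf_pos g
  set r := ∏ q ∈ n.primeFactors, q with hr
  have hrn : r ∣ n := Nat.prod_primeFactors_dvd n
  have hsq : Squarefree (orderOf (g ^ (n / r))) := by
    rw [orderOf_pow_of_dvd (Nat.div_pos (Nat.le_of_dvd hn0 hrn) (Nat.pos_of_dvd_of_pos hrn hn0)).ne'
      (Nat.div_dvd_of_dvd hrn), ← hn, Nat.div_div_self hrn hn0.ne']
    refine Finset.squarefree_prod_of_pairwise_isCoprime ?_ ?_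
    · intro a ha b hb hab
      exact (Nat.coprime_iff_isRelPrime).mp ((Nat.coprime_primes (Nat.prime_of_mem_primeFactors ha)
        (Nat.prime_of_mem_primeFactors hb)).mpr hab)
    · exact fun a ha => (Nat.prime_of_mem_primeFactors ha).squarefree
  obtain ⟨ω, hω⟩ := h _ hsq
  refine ⟨ω, ?_⟩
  by_contra hne
  obtain ⟨x, hx, hx1⟩ := (Subgroup.ne_bot_iff_exists_ne_one).mp hne |> fun ⟨x, hx⟩ =>
    (⟨x.1, x.2, fun h => hx (Subtype.ext h)⟩ : ∃ x, x ∈ MulAction.stabilizer (Subgroup.zpowers g) ω ∧ x ≠ 1)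
  have hxne : orderOf x ≠ 1 := fun h => hx1 (orderOf_eq_one_iff.mp h)
  obtain ⟨q, hq, hqd⟩ := Nat.exists_prime_and_dvd hxne
  set y := x ^ (orderOf x / q)
  have hyo : orderOf y = q := orderOf_pow_orderOf_div (orderOf_pos x).ne' hqd
  have hy : y ∈ MulAction.stabilizer (Subgroup.zpowers g) ω := pow_mem hx _
  have hqn : q ∈ n.primeFactors := by
    refine Nat.mem_primeFactors.mpr ⟨hq, ?_, hn0.ne'⟩
    refine hqd.trans ?_
    rw [hn, ← Nat.card_zpowers g]
    exact orderOf_dvd_natCard x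
  -- `y` lies in the subgroup generated by `g ^ (n / r)`
  have hmem : (y : G) ∈ Subgroup.zpowers (g ^ (n / r)) := by
    obtain ⟨j, hj⟩ := (mem_powers_iff_mem_zpowers).mpr y.2
    have hj' : g ^ j = (y : G) := hj
    rw [← hj']
    have h1 : g ^ (j * q) = 1 := by
      rw [pow_mul, hj', ← Subgroup.coe_pow, ← hyo, pow_orderOf_eq_one, Subgroup.coe_one]
    have h2 : n ∣ j * q := orderOf_dvd_of_pow_eq_one h1
    have h3 : n / r ∣ j := by
      have hqr : q ∣ r := Finset.dvd_prod_of_mem _ hqn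
      obtain ⟨u, hu⟩ := hqr
      obtain ⟨w, hw⟩ := hrn
      have hrpos : 0 < r := Nat.pos_of_dvd_of_pos ⟨w, hw⟩ hn0
      rw [hw, Nat.mul_div_cancel_left _ hrpos]
      rw [hw, hu] at h2
      have h4 : q * (u * w) ∣ q * j := by rwa [← mul_assoc, mul_comm q j]
      exact dvd_trans (Dvd.intro_left u rfl) ((Nat.mul_dvd_mul_iff_left hq.pos).mp h4)
    obtain ⟨u, hu⟩ := h3
    rw [hu, pow_mul]
    exact Subgroup.npow_mem_zpowers _ u
  have : (⟨(y : G), hmem⟩ : Subgroup.zpowers (g ^ (n / r))) ∈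
      MulAction.stabilizer (Subgroup.zpowers (g ^ (n / r))) ω := hy
  rw [hω, Subgroup.mem_bot] at this
  have hy1 : y = 1 := Subtype.ext (congrArg Subtype.val this :)
  rw [hy1, orderOf_one] at hyo
  exact hq.ne_one hyo.symm

end Cfsg.Agent.S3511
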