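import Cfsg.Statements.S3514
import Cfsg.Agent.Core.Basics

set_option autoImplicit false
open Cfsg

namespace Cfsg.Agent.S3514

theorem card_orb {M V : Type*} [Group M] [MulAction M V] (K : Subgroup M) (v : V) :
    Nat.card {u : V | ∃ k ∈ K, k • v = u} = (MulAction.stabilizer M v).relIndex K := by
  have h1 : MulAction.stabilizer K v = (MulAction.stabilizer M v).subgroupOf K := rfl
  rw [Subgroup.relIndex, ← h1, MulAction.index_stabilizer, ← Nat.card_coe_set_eq]
  congr 1
  congr 1
  ext u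
  exact ⟨fun ⟨k, hk, h⟩ => ⟨⟨k, hk⟩, h⟩, fun ⟨k, h⟩ => ⟨k, k.2, h⟩⟩

theorem relIndex_sup_eq {M : Type*} [Group M] [Finite M] (S K : Subgroup M) [K.Normal] :
    S.relIndex (S ⊔ K) = S.relIndex K := by
  have h := Cfsg.Agent.Core.card_sup_mul_card_inf S K
  have e1 := Subgroup.card_mul_index (S.subgroupOf (S ⊔ K))
  have e2 := Subgroup.card_mul_index (S.subgroupOf K)
  rw [Nat.card_congr (Subgroup.subgroupOfEquivOfLe le_sup_left).toEquiv] at e1
  rw [← Subgroup.inf_subgroupOf_right S K,
    Nat.card_congr (Subgroup.subgroupOfEquivOfLe inf_le_right).toEquiv] at e2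
  rw [Subgroup.inf_subgroupOf_right S K] at e2
  change Nat.card S * S.relIndex (S ⊔ K) = _ at e1
  change Nat.card ↥(S ⊓ K) * S.relIndex K = _ at e2
  rw [← e1, ← e2] at h
  apply Nat.eq_of_mul_eq_mul_left (Nat.mul_pos (Nat.card_pos (α := S)) (Nat.card_pos (α := ↥(S ⊓ K))))
  linear_combination h

theorem relIndex_sup_dvd {M : Type*} [Group M] [Finite M] (N H : Subgroup M)
    (hn : H ≤ Subgroup.normalizer (N : Set M)) : H.relIndex (N ⊔ H) ∣ Nat.card N := by
  have : (N.subgroupOf (N ⊔ H)).Normal :=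
    Subgroup.normal_subgroupOf_iff_le_normalizer le_sup_left |>.mpr (sup_le Subgroup.le_normalizer hn)
  have h := relIndex_sup_eq (H.subgroupOf (N ⊔ H)) (N.subgroupOf (N ⊔ H))
  rw [← Subgroup.subgroupOf_sup le_sup_right le_sup_left, sup_comm H N, Subgroup.subgroupOf_self,
    Subgroup.relIndex_top_right, Subgroup.relIndex_subgroupOf le_sup_left] at h
  change H.relIndex (N ⊔ H) = _ at h
  rw [h]
  exact (H.subgroupOf N).index_dvd_card

theorem relIndex_dvd_of_normalized {M : Type*} [Group M] [Finite M] (S : Subgroup M) {K H : Subgroup M}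
    (hKH : K ≤ H) (hn : H ≤ Subgroup.normalizer (K : Set M)) : S.relIndex K ∣ S.relIndex H := by
  have : (K.subgroupOf H).Normal := (Subgroup.normal_subgroupOf_iff_le_normalizer hKH).mpr hn
  have h1 : (S.subgroupOf H).relIndex (K.subgroupOf H) = S.relIndex K :=
    Subgroup.relIndex_subgroupOf hKH
  rw [← h1, ← relIndex_sup_eq]
  exact ⟨(S.subgroupOf H ⊔ K.subgroupOf H).index,
    (Subgroup.relIndex_mul_index le_sup_left).symm⟩

/-- Let p be a prime, V a finite vector space over the field with p elements, and H a group of linear transformations of V all of whose orbits on V have size coprime to p. (i) Every normal subgroup K of H has all its orbits on V of size coprime to p. (ii) If N is a group of linear transformations of V of order coprime to p that is normalized by H, then the group generated by N and H has all its orbits on V of size coprime to p. -/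
theorem result (p : ℕ) [Fact p.Prime] {V : Type*} [AddCommGroup V] [Module (ZMod p) V] [Finite V]
    (H : Subgroup (V ≃ₗ[ZMod p] V)) (hH : ∀ v : V, ¬ p ∣ Nat.card {u : V | ∃ h ∈ H, h v = u}) :
    (∀ K : Subgroup (V ≃ₗ[ZMod p] V), K ≤ H → H ≤ Subgroup.normalizer (K : Set (V ≃ₗ[ZMod p] V)) →
        ∀ v : V, ¬ p ∣ Nat.card {u : V | ∃ k ∈ K, k v = u}) ∧
    (∀ N : Subgroup (V ≃ₗ[ZMod p] V), ¬ p ∣ Nat.card N → H ≤ Subgroup.normalizer (N : Set (V ≃ₗ[ZMod p] V)) →
        ∀ v : V, ¬ p ∣ Nat.card {u : V | ∃ x ∈ N ⊔ H, x v = u}) := by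
  have : Finite (V ≃ₗ[ZMod p] V) := Finite.of_injective _ DFunLike.coe_injective
  refine ⟨fun K hKH hn v => ?_, fun N hN hn v => ?_⟩
  · show ¬ p ∣ Nat.card {u : V | ∃ k ∈ K, k • v = u}
    rw [card_orb]
    intro hdvd
    apply hH v
    show p ∣ Nat.card {u : V | ∃ k ∈ H, k • v = u}
    rw [card_orb]
    refine hdvd.trans ?_
    exact relIndex_dvd_of_normalized _ hKH hn
  · show ¬ p ∣ Nat.card {u : V | ∃ k ∈ N ⊔ H, k • v = u}
    rw [card_orb]
    intro hdvd
    set S := MulAction.stabilizer (V ≃ₗ[ZMod p] V) v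
    have h1 : S.relIndex (N ⊔ H) ∣ (S ⊓ H).relIndex (N ⊔ H) :=
      Subgroup.relIndex_dvd_of_le_left _ inf_le_left
    have h2 : (S ⊓ H).relIndex H * H.relIndex (N ⊔ H) = (S ⊓ H).relIndex (N ⊔ H) :=
      Subgroup.relIndex_mul_relIndex _ _ _ inf_le_right le_sup_right
    rw [Subgroup.inf_relIndex_right] at h2
    have h3 : H.relIndex (N ⊔ H) ∣ Nat.card N := relIndex_sup_dvd N H hn
    rcases (Fact.out : p.Prime).dvd_mul.mp (h2 ▸ hdvd.trans h1) with h | h
    · exact hH v (by show p ∣ Nat.card {u : V | ∃ k ∈ H, k • v = u}; rw [card_orb]; exact h)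
    · exact hN (h.trans h3)

end Cfsg.Agent.S3514
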