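import Cfsg.Statements.S3515

set_option autoImplicit false
open Cfsg

namespace Cfsg.Agent.S3515

theorem add_self_two : ∀ v : Fin 2 → ZMod 2, v + v = 0 := by decide

theorem four_points : ∀ a b c : Fin 2 → ZMod 2, a ≠ 0 → b ≠ 0 → a ≠ b → c ≠ 0 → c ≠ a → c ≠ b →
    c = a + b := by decide

/-- Every primitive affine permutation group of degree p² is 3-closed. Let p be a prime and G a group of permutations of the plane V = F_p² consisting of affine maps x ↦ Ax + b, containing all translations, and acting primitively on V. Then any permutation σ of V that agrees on every triple of points with some element of G (σ preserves every G-orbit on ordered triples) already lies in G. -/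
theorem result (p : ℕ) [Fact p.Prime] (G : Subgroup (Equiv.Perm (Fin 2 → ZMod p)))
    (haff : (G : Set (Equiv.Perm (Fin 2 → ZMod p))) ⊆ {τ : Equiv.Perm (Fin 2 → ZMod p) | ∃ (A : (Fin 2 → ZMod p) ≃ₗ[ZMod p] (Fin 2 → ZMod p)) (b : Fin 2 → ZMod p), ∀ x, τ x = A x + b})
    (htrans : ∀ b : Fin 2 → ZMod p, ∃ g ∈ G, ∀ x, g x = x + b) (hprim : MulAction.IsPreprimitive G (Fin 2 → ZMod p))
    (σ : Equiv.Perm (Fin 2 → ZMod p)) (hσ : (∀ t : Fin 3 → (Fin 2 → ZMod p), ∃ g ∈ G, ∀ i, σ (t i) = g (t i))) : σ ∈ G := by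
  classical
  set τ : (Fin 2 → ZMod p) → (Fin 2 → ZMod p) := fun x => σ x - σ 0 with hτ
  have hτ0 : τ 0 = 0 := sub_self _
  have hτinj : Function.Injective τ := fun x y h => σ.injective (sub_left_inj.1 h)
  have hloc : ∀ x y z : Fin 2 → ZMod p,
      ∃ (A : (Fin 2 → ZMod p) ≃ₗ[ZMod p] (Fin 2 → ZMod p)) (b : Fin 2 → ZMod p),
        ∃ g ∈ G, (∀ w, g w = A w + b) ∧ σ x = A x + b ∧ σ y = A y + b ∧ σ z = A z + b := by
    intro x y z
    obtain ⟨g, hg, h⟩ := hσ ![x, y, z]
    obtain ⟨A, b, hA⟩ := haff hg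
    exact ⟨A, b, g, hg, hA, (h 0).trans (hA _), (h 1).trans (hA _), (h 2).trans (hA _)⟩
  have hsmul : ∀ (a : ZMod p) x, τ (a • x) = a • τ x := by
    intro a x
    obtain ⟨A, b, g, -, -, h0, h1, h2⟩ := hloc 0 x (a • x)
    simp only [hτ, h0, h1, h2, map_zero, map_smul, zero_add, add_sub_cancel_right]
  have hadd : ∀ x y, τ (x + y) = τ x + τ y := by
    intro x y
    by_cases h2 : (2 : ZMod p) = 0
    · have hp2 : p = 2 := by
        have : ((2 : ℕ) : ZMod p) = 0 := by exact_mod_cast h2
        exact (Nat.prime_dvd_prime_iff_eq Fact.out Nat.prime_two).1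
          ((ZMod.natCast_eq_zero_iff 2 p).1 this)
      subst hp2
      by_cases hx : x = 0
      · simp [hx, hτ0]
      by_cases hy : y = 0
      · simp [hy, hτ0]
      have hxx := add_self_two
      by_cases hxy : x = y
      · simp [hxy, hxx, hτ0]
      have hne : ∀ v : Fin 2 → ZMod 2, v ≠ 0 → τ v ≠ 0 := fun v hv h => hv (hτinj (h.trans hτ0.symm))
      refine four_points _ _ _ (hne x hx) (hne y hy) (hτinj.ne hxy) (hne _ ?_) (hτinj.ne ?_)
        (hτinj.ne ?_)
      · intro h
        exact hxy (add_right_cancel (h.trans (hxx y).symm))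
      · simpa using hy
      · simpa using hx
    · obtain ⟨A, b, g, -, -, hx, hy, hz⟩ := hloc x y ((2 : ZMod p)⁻¹ • (x + y))
      have h1 : τ ((2 : ZMod p)⁻¹ • (x + y)) = (2 : ZMod p)⁻¹ • (τ x + τ y) := by
        simp only [hτ, hx, hy, hz, map_smul, map_add]
        ext i
        simp only [Pi.sub_apply, Pi.add_apply, Pi.smul_apply, smul_eq_mul]
        field_simp
        ring
      rw [hsmul] at h1
      exact smul_right_injective _ (inv_ne_zero h2) h1
  obtain ⟨A, b, g, hg, hA, h0, h1, h2⟩ := hloc 0 (Pi.single 0 1) (Pi.single 1 1)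
  have hb : σ 0 = b := by simpa using h0
  have hz : ∀ z, σ z = g z := by
    intro z
    have hdec : z = z 0 • Pi.single 0 (1 : ZMod p) + z 1 • Pi.single 1 (1 : ZMod p) := by
      funext i
      fin_cases i <;> simp
    have hsub : ∀ v, σ v = τ v + σ 0 := fun v => (sub_add_cancel _ _).symm
    have e0 : τ (Pi.single 0 1) = A (Pi.single 0 1) := by simp [hτ, h1, hb]
    have e1 : τ (Pi.single 1 1) = A (Pi.single 1 1) := by simp [hτ, h2, hb]
    rw [hA, hsub, hdec, hadd, hsmul, hsmul, e0, e1, map_add, map_smul, map_smul, hb]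
  exact (Equiv.ext hz) ▸ hg

end Cfsg.Agent.S3515
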