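import Cfsg.Statements.S3516
import Mathlib

set_option autoImplicit false
open Cfsg

namespace Cfsg.Agent.S3516

/-- A linear equiv agrees on any two vectors with one of determinant one. -/
theorem exists_det_one {F : Type*} [Field F] {V : Type*} [AddCommGroup V] [Module F V]
    [FiniteDimensional F V] (hd : 3 ≤ Module.finrank F V) (A : V ≃ₗ[F] V) (a b : V) :
    ∃ B : V ≃ₗ[F] V, LinearMap.det (B : V →ₗ[F] V) = 1 ∧ B a = A a ∧ B b = A b := by
  classical
  have hlt : Submodule.span F ({a, b} : Set V) < ⊤ := by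
    refine lt_top_iff_ne_top.2 fun h => ?_
    have h1 := finrank_span_le_card (R := F) ({a, b} : Set V)
    rw [h, finrank_top] at h1
    have h2 : ({a, b} : Set V).toFinset.card ≤ 2 := by simpa using Finset.card_le_two
    omega
  obtain ⟨x, -, hx⟩ := SetLike.exists_of_lt hlt
  obtain ⟨f, hfx, hf⟩ := Submodule.exists_dual_map_eq_bot_of_notMem hx inferInstance
  have hf0 : ∀ w ∈ Submodule.span F ({a, b} : Set V), f w = 0 := fun w hw =>
    (Submodule.mem_bot F).1 (hf ▸ Submodule.mem_map_of_mem hw)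
  set c := (LinearMap.det (A : V →ₗ[F] V))⁻¹ with hc
  have hA : LinearMap.det (A : V →ₗ[F] V) ≠ 0 := (LinearEquiv.isUnit_det' A).ne_zero
  set v := ((c - 1) / f x) • x with hv
  have hdet : LinearMap.det (LinearMap.transvection f v) = c := by
    rw [LinearMap.transvection.det, hv, map_smul, smul_eq_mul, div_mul_cancel₀ _ hfx]
    ring
  have hu : IsUnit (LinearMap.det (LinearMap.transvection f v)) := by
    rw [hdet]; exact (inv_ne_zero hA).isUnit
  refine ⟨(LinearMap.equivOfDetNeZero (LinearMap.transvection f v) hu.ne_zero).trans A, ?_, ?_, ?_⟩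
  · rw [show (((LinearMap.equivOfDetNeZero (LinearMap.transvection f v) hu.ne_zero).trans A : V ≃ₗ[F] V) :
        V →ₗ[F] V) = (A : V →ₗ[F] V) ∘ₗ LinearMap.transvection f v from rfl,
      LinearMap.det_comp, hdet, hc, mul_inv_cancel₀ hA]
  · show A (LinearMap.transvection f v a) = A a
    rw [LinearMap.transvection.apply, hf0 a (Submodule.subset_span (by simp)), zero_smul, add_zero]
  · show A (LinearMap.transvection f v b) = A b
    rw [LinearMap.transvection.apply, hf0 b (Submodule.subset_span (by simp)), zero_smul, add_zero]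

/-- Let p be an odd prime, d ≥ 3, and G a group of affine permutations x ↦ Ax + b of V = F_p^d containing all translations and all maps x ↦ Ax with A of determinant 1. Then the 3-closure of G is the full affine group: a permutation σ of V agrees on every triple of points with some element of G if and only if σ is an affine map. -/
theorem result (p : ℕ) [Fact p.Prime] (hp : p ≠ 2) (d : ℕ) (hd : 3 ≤ d) (G : Subgroup (Equiv.Perm (Fin d → ZMod p)))
    (haff : (G : Set (Equiv.Perm (Fin d → ZMod p))) ⊆ {τ : Equiv.Perm (Fin d → ZMod p) | ∃ (A : (Fin d → ZMod p) ≃ₗ[ZMod p] (Fin d → ZMod p)) (b : Fin d → ZMod p), ∀ x, τ x = A x + b})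
    (htrans : ∀ b : Fin d → ZMod p, ∃ g ∈ G, ∀ x, g x = x + b)
    (hsl : ∀ A : (Fin d → ZMod p) ≃ₗ[ZMod p] (Fin d → ZMod p), LinearMap.det (A : (Fin d → ZMod p) →ₗ[ZMod p] (Fin d → ZMod p)) = 1 → ∃ g ∈ G, ∀ x, g x = A x)
    (σ : Equiv.Perm (Fin d → ZMod p)) :
    (∀ t : Fin 3 → (Fin d → ZMod p), ∃ g ∈ G, ∀ i, σ (t i) = g (t i)) ↔ σ ∈ {τ : Equiv.Perm (Fin d → ZMod p) | ∃ (A : (Fin d → ZMod p) ≃ₗ[ZMod p] (Fin d → ZMod p)) (b : Fin d → ZMod p), ∀ x, τ x = A x + b} := by
  constructor
  · intro h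
    have key : ∀ (x y : Fin d → ZMod p) (c : ZMod p),
        σ ((1 - c) • x + c • y) = (1 - c) • σ x + c • σ y := by
      intro x y c
      obtain ⟨g, hg, hgs⟩ := h ![x, y, (1 - c) • x + c • y]
      obtain ⟨A, b, hA⟩ := haff hg
      have h0 := hgs 0
      have h1 := hgs 1
      have h2 := hgs 2
      simp only [Matrix.cons_val_zero, Matrix.cons_val_one, Matrix.cons_val] at h0 h1 h2
      rw [h2, h0, h1, hA, hA, hA, map_add, map_smul, map_smul]
      module
    let τ : (Fin d → ZMod p) → (Fin d → ZMod p) := fun x => σ x - σ 0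
    have hsmul : ∀ (c : ZMod p) x, τ (c • x) = c • τ x := fun c x => by
      have := key 0 x c
      rw [smul_zero, zero_add] at this
      simp only [τ, this]
      module
    have htwo : (2 : ZMod p) ≠ 0 := fun h0 => hp (((Nat.prime_dvd_prime_iff_eq Fact.out Nat.prime_two).1
      ((ZMod.natCast_eq_zero_iff 2 p).1 (by exact_mod_cast h0))))
    have hadd : ∀ x y, τ (x + y) = τ x + τ y := fun x y => by
      have hk := key x y (2⁻¹ : ZMod p)
      have e : (1 : ZMod p) - 2⁻¹ = 2⁻¹ := by field_simp; ring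
      rw [e, ← smul_add] at hk
      have h2 := hsmul (2⁻¹ : ZMod p) (x + y)
      simp only [τ] at h2 ⊢
      rw [hk] at h2
      have h3 := congrArg (fun z => (2 : ZMod p) • z) h2
      simp only [smul_sub, smul_add, smul_smul, mul_inv_cancel₀ htwo, one_smul] at h3
      linear_combination (norm := module) (-1 : ℤ) • h3
    let L : (Fin d → ZMod p) →ₗ[ZMod p] (Fin d → ZMod p) :=
      { toFun := τ, map_add' := hadd, map_smul' := hsmul }
    have hLbij : Function.Bijective L := ⟨fun x y hxy => σ.injective (sub_left_inj.1 hxy),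
      fun z => ⟨σ.symm (z + σ 0), by show σ (σ.symm (z + σ 0)) - σ 0 = z; simp⟩⟩
    exact ⟨LinearEquiv.ofBijective L hLbij, σ 0, fun x => (sub_add_cancel (σ x) (σ 0)).symm⟩
  · rintro ⟨A, b, hA⟩ t
    obtain ⟨B, hB, hB1, hB2⟩ := exists_det_one (by rwa [Module.finrank_fin_fun]) A (t 1 - t 0) (t 2 - t 0)
    obtain ⟨g, hg, hgB⟩ := hsl B hB
    obtain ⟨T, hT, hTb⟩ := htrans (A (t 0) + b - B (t 0))
    refine ⟨T * g, mul_mem hT hg, fun i => ?_⟩
    rw [Equiv.Perm.mul_apply, hgB, hTb, hA]
    rw [map_sub, map_sub] at hB1 hB2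
    fin_cases i
    · simp
    · simp only [Fin.reduceFinMk, Fin.mk_one]
      linear_combination (norm := module) (-1 : ℤ) • hB1
    · simp only [Fin.reduceFinMk]
      linear_combination (norm := module) (-1 : ℤ) • hB2

end Cfsg.Agent.S3516
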