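import Cfsg.Statements.S3517


set_option autoImplicit false
open Cfsg

namespace Cfsg.Agent.S3517

theorem indep2 {d : ℕ} {x y : Fin d → ZMod 2} (hx : x ≠ 0) (hy : y ≠ 0) (hxy : x ≠ y) :
    LinearIndependent (ZMod 2) ![x, y] := by
  rw [LinearIndependent.pair_iff]
  intro a b h
  have hc : ∀ c : ZMod 2, c = 0 ∨ c = 1 := by decide
  rcases hc a with rfl | rfl <;> rcases hc b with rfl | rfl
  · exact ⟨rfl, rfl⟩
  · simp [hy] at h
  · simp [hx] at h
  · exfalso
    apply hxy
    simp only [one_smul] at h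
    funext i
    have h' : x i + y i = 0 := congrFun h i
    exact (eq_neg_of_add_eq_zero_left h').trans (ZMod.neg_eq_self_mod_two _)

theorem exists_equiv {d : ℕ} {v w : Fin 2 → (Fin d → ZMod 2)}
    (hv : LinearIndependent (ZMod 2) v) (hw : LinearIndependent (ZMod 2) w) :
    ∃ A : (Fin d → ZMod 2) ≃ₗ[ZMod 2] (Fin d → ZMod 2), ∀ i, A (v i) = w i := by
  obtain ⟨P, hP⟩ := Submodule.exists_isCompl (Submodule.span (ZMod 2) (Set.range v))
  obtain ⟨Q, hQ⟩ := Submodule.exists_isCompl (Submodule.span (ZMod 2) (Set.range w))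
  have e1 := Submodule.finrank_add_eq_of_isCompl hP
  have e2 := Submodule.finrank_add_eq_of_isCompl hQ
  rw [finrank_span_eq_card hv] at e1
  rw [finrank_span_eq_card hw] at e2
  let e : P ≃ₗ[ZMod 2] Q := LinearEquiv.ofFinrankEq P Q (by omega)
  let f : Submodule.span (ZMod 2) (Set.range v) ≃ₗ[ZMod 2] Submodule.span (ZMod 2) (Set.range w) :=
    (Module.Basis.span hv).equiv (Module.Basis.span hw) (Equiv.refl _)
  refine ⟨((Submodule.prodEquivOfIsCompl _ _ hP).symm.trans (f.prodCongr e)).trans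
    (Submodule.prodEquivOfIsCompl _ _ hQ), fun i => ?_⟩
  have hvi : v i ∈ Submodule.span (ZMod 2) (Set.range v) := Submodule.subset_span ⟨i, rfl⟩
  simp only [LinearEquiv.trans_apply]
  have h := Submodule.prodEquivOfIsCompl_symm_apply_left _ _ hP (⟨v i, hvi⟩ : Submodule.span (ZMod 2) (Set.range v))
  rw [h]
  simp only [LinearEquiv.prodCongr_apply, map_zero, Submodule.coe_prodEquivOfIsCompl', Submodule.coe_zero, add_zero]
  have hb : (⟨v i, hvi⟩ : Submodule.span (ZMod 2) (Set.range v)) = Module.Basis.span hv i :=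
    (Module.Basis.span_apply hv i).symm
  rw [hb, Module.Basis.equiv_apply]
  exact congrArg Subtype.val (Module.Basis.span_apply hw i)

/-- For d ≥ 3, the 3-closure of the affine group AGL_d(2) acting on F_2^d is the full symmetric group: every permutation of F_2^d agrees on every ordered triple of points with some affine map (AGL_d(2) is 3-transitive). -/
theorem result (d : ℕ) (hd : 3 ≤ d) (σ : Equiv.Perm (Fin d → ZMod 2)) (t : Fin 3 → (Fin d → ZMod 2)) :
    ∃ (A : (Fin d → ZMod 2) ≃ₗ[ZMod 2] (Fin d → ZMod 2)) (b : Fin d → ZMod 2), ∀ i, σ (t i) = A (t i) + b := by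
  classical
  -- distinct triples containing the given ones
  obtain ⟨s, hs, hsub⟩ : ∃ s : Fin 3 → (Fin d → ZMod 2), Function.Injective s ∧ ∀ i, ∃ j, s j = t i := by
    have hcard : 3 ≤ Fintype.card (Fin d → ZMod 2) := by
      rw [Fintype.card_fun, ZMod.card, Fintype.card_fin]
      exact (show 3 ≤ 2 ^ 2 by norm_num).trans (Nat.pow_le_pow_right (by norm_num) (by omega))
    have h3 : (Finset.univ.image t).card ≤ 3 := Finset.card_image_le.trans (by simp)
    obtain ⟨S, hS1, -, hS3⟩ := Finset.exists_subsuperset_card_eq (Finset.subset_univ (Finset.univ.image t)) h3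
      (by simpa using hcard)
    refine ⟨fun i => ((S.equivFinOfCardEq hS3).symm i : Fin d → ZMod 2),
      fun i j h => (S.equivFinOfCardEq hS3).symm.injective (Subtype.ext h), fun i => ?_⟩
    exact ⟨S.equivFinOfCardEq hS3 ⟨t i, hS1 (Finset.mem_image_of_mem t (Finset.mem_univ i))⟩, by simp⟩
  suffices h : ∃ (A : (Fin d → ZMod 2) ≃ₗ[ZMod 2] (Fin d → ZMod 2)) (b : Fin d → ZMod 2),
      ∀ i, σ (s i) = A (s i) + b by
    obtain ⟨A, b, h⟩ := h
    refine ⟨A, b, fun i => ?_⟩
    obtain ⟨j, hj⟩ := hsub i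
    rw [← hj]; exact h j
  have hv : LinearIndependent (ZMod 2) ![s 1 - s 0, s 2 - s 0] := by
    refine indep2 (sub_ne_zero.mpr (hs.ne (by decide))) (sub_ne_zero.mpr (hs.ne (by decide))) ?_
    intro h; exact hs.ne (show (1 : Fin 3) ≠ 2 by decide) (sub_left_injective h)
  have hw : LinearIndependent (ZMod 2) ![σ (s 1) - σ (s 0), σ (s 2) - σ (s 0)] := by
    have hi : Function.Injective (σ ∘ s) := σ.injective.comp hs
    refine indep2 (sub_ne_zero.mpr (hi.ne (show (1 : Fin 3) ≠ 0 by decide)))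
      (sub_ne_zero.mpr (hi.ne (show (2 : Fin 3) ≠ 0 by decide))) ?_
    intro h; exact hi.ne (show (1 : Fin 3) ≠ 2 by decide) (sub_left_injective h)
  obtain ⟨A, hA⟩ := exists_equiv hv hw
  refine ⟨A, σ (s 0) - A (s 0), fun i => ?_⟩
  have h1 : A (s 1 - s 0) = σ (s 1) - σ (s 0) := hA 0
  have h2 : A (s 2 - s 0) = σ (s 2) - σ (s 0) := hA 1
  rw [map_sub] at h1 h2
  fin_cases i
  · simp
  · show σ (s 1) = A (s 1) + _
    linear_combination (norm := abel) (-1 : ℤ) • h1
  · show σ (s 2) = A (s 2) + _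
    linear_combination (norm := abel) (-1 : ℤ) • h2

end Cfsg.Agent.S3517
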