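import Cfsg.Statements.S3518
import Cfsg.Agent.S0675
import Mathlib

set_option autoImplicit false
open Cfsg

namespace Cfsg.Agent.S3518

variable {p : ℕ} [Fact p.Prime]

/-- A solvable permutation group of `ZMod p` containing the unit translation is affine. -/
theorem affine_of_solvable (X : Subgroup (Equiv.Perm (ZMod p))) (hsol : Group.IsSolvable X)
    (t : Equiv.Perm (ZMod p)) (ht : ∀ x, t x = x + 1) (htX : t ∈ X)
    (σ : Equiv.Perm (ZMod p)) (hσ : σ ∈ X) : σ ∈ Cfsg.affineGroup (ZMod p) := by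
  classical
  have hp : p.Prime := Fact.out
  have htr : ∀ c : ℕ, ∀ x, (t ^ c) x = x + c := by
    intro c
    induction c with
    | zero => simp
    | succ c ih => intro x; rw [pow_succ, Equiv.Perm.mul_apply, ht, ih]; push_cast; ring
  haveI : MulAction.IsPretransitive X (ZMod p) := ⟨fun x y => ⟨⟨t ^ (y - x).val, pow_mem htX _⟩, by
    show (t ^ (y - x).val) x = y
    rw [htr, ZMod.natCast_zmod_val]; ring⟩⟩
  have hcent : ∀ a : Equiv.Perm (ZMod p), a * t = t * a → ∃ c : ℕ, a = t ^ c := by
    intro a ha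
    refine ⟨(a 0).val, Equiv.ext fun x => ?_⟩
    have hstep : ∀ y, a (y + 1) = a y + 1 := fun y => by
      have := congrArg (fun e : Equiv.Perm (ZMod p) => e y) ha
      simpa [ht] using this
    have hnat : ∀ k : ℕ, a (k : ZMod p) = a 0 + k := by
      intro k
      induction k with
      | zero => simp
      | succ k ih => push_cast; rw [hstep, ih]; ring
    rw [htr, ZMod.natCast_zmod_val, ← ZMod.natCast_zmod_val x, hnat, ZMod.natCast_zmod_val, add_comm]
  have ht1 : t ≠ 1 := fun h => by
    have := ht 0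
    rw [h] at this
    simp at this
  haveI : Nontrivial X := ⟨⟨⟨t, htX⟩, 1, fun h => ht1 (congrArg Subtype.val h)⟩⟩
  have hex : ∃ n, derivedSeries X n = ⊥ := (Group.isSolvable_def X).1 hsol
  obtain ⟨m, hm⟩ : ∃ m, Nat.find hex = m + 1 := by
    refine ⟨Nat.find hex - 1, ?_⟩
    rcases Nat.eq_zero_or_pos (Nat.find hex) with h0 | h0
    · have := Nat.find_spec hex
      rw [h0, derivedSeries_zero] at this
      exact absurd this top_ne_bot
    · omega
  set A := derivedSeries X m with hA
  have hAne : A ≠ ⊥ := Nat.find_min hex (by omega)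
  have hAab : ∀ a ∈ A, ∀ b ∈ A, a * b = b * a := fun a ha b hb => by
    have h1 := Nat.find_spec hex
    rw [hm, derivedSeries_succ] at h1
    refine commutatorElement_eq_one_iff_mul_comm.1 ?_
    rw [← Subgroup.mem_bot, ← h1]
    exact Subgroup.commutator_mem_commutator ha hb
  haveI : A.Normal := derivedSeries_normal X m
  -- the translation lies in `A`
  obtain ⟨x, hx⟩ : ∃ x : ZMod p, ¬ ∀ a : A, a • x = x := by
    by_contra h
    push Not at h
    refine hAne ((Subgroup.eq_bot_iff_forall A).2 fun a ha => Subtype.ext (Equiv.ext fun y => ?_))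
    exact h y ⟨a, ha⟩
  have horb : (MulAction.orbit A x).ncard = p := by
    have hd := (MulAction.IsBlock.orbit_of_normal (N := A) x).ncard_dvd_card (MulAction.nonempty_orbit x)
    rw [Nat.card_zmod] at hd
    refine ((Nat.dvd_prime hp).1 hd).resolve_left fun h1 => hx fun a => ?_
    obtain ⟨y, hy⟩ := Set.ncard_eq_one.1 h1
    have e1 : a • x ∈ MulAction.orbit A x := MulAction.mem_orbit x a
    have e2 : x ∈ MulAction.orbit A x := MulAction.mem_orbit_self x
    rw [hy] at e1 e2
    rw [Set.mem_singleton_iff.1 e1, Set.mem_singleton_iff.1 e2]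
  have hpA : p ∣ Nat.card A := by
    have h := Subgroup.index_dvd_card (MulAction.stabilizer A x)
    rwa [Subgroup.index_eq_card, ← Nat.card_congr (MulAction.orbitEquivQuotientStabilizer A x),
      Nat.card_coe_set_eq, horb] at h
  have htA : (⟨t, htX⟩ : X) ∈ A := by
    obtain ⟨u, hu⟩ := exists_prime_orderOf_dvd_card' p hpA
    rw [← Subgroup.orderOf_coe] at hu
    have hto : orderOf (⟨t, htX⟩ : X) = p := orderOf_eq_prime (Subtype.ext (Equiv.ext fun y => by
      show (t ^ p) y = y
      rw [htr, ZMod.natCast_self, add_zero])) (fun h => ht1 (congrArg Subtype.val h))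
    have hfact : (Nat.card X).factorization p ≤ 1 := by
      have hd : Nat.card X ∣ p.factorial := by
        have := Subgroup.card_subgroup_dvd_card X
        rwa [Nat.card_perm, Nat.card_zmod] at this
      refine le_trans ((Nat.factorization_le_iff_dvd Nat.card_pos.ne' p.factorial_ne_zero).2 hd p) ?_
      rw [Nat.factorization_def _ hp, padicValNat_factorial (n := p) (b := 2)
        (by have := Nat.log_lt_iff_lt_pow (b := p) (x := 2) hp.one_lt hp.ne_zero
            exact this.2 (by nlinarith [hp.two_le])), show Finset.Ico 1 2 = {1} from rfl,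
        Finset.sum_singleton, pow_one, Nat.div_self hp.pos]
    obtain ⟨P, hP⟩ := (IsPGroup.of_card (n := 1) (G := Subgroup.zpowers (u : X))
      (by rw [Nat.card_zpowers, hu, pow_one])).exists_le_sylow
    obtain ⟨T, hT⟩ := (IsPGroup.of_card (n := 1) (G := Subgroup.zpowers (⟨t, htX⟩ : X))
      (by rw [Nat.card_zpowers, hto, pow_one])).exists_le_sylow
    have hPeq : (P : Subgroup X) = Subgroup.zpowers (u : X) := (Subgroup.eq_of_le_of_card_ge hP (by
      rw [P.card_eq_multiplicity, Nat.card_zpowers, hu]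
      calc p ^ (Nat.card X).factorization p ≤ p ^ 1 := Nat.pow_le_pow_right hp.pos hfact
        _ = p := pow_one p)).symm
    obtain ⟨g, hg⟩ := MulAction.exists_smul_eq X P T
    have hmem := hT (Subgroup.mem_zpowers _)
    rw [← hg] at hmem
    obtain ⟨w, hw, hwt⟩ := hmem
    have hwA : w ∈ A := by
      have hw' : w ∈ Subgroup.zpowers (u : X) := hPeq ▸ hw
      exact (Subgroup.zpowers_le.2 u.2) hw'
    rw [← hwt]
    exact Subgroup.Normal.conj_mem inferInstance w hwA g
  obtain ⟨c, hc⟩ : ∃ c : ℕ, σ * t * σ⁻¹ = t ^ c := by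
    have h1 : (⟨σ, hσ⟩ : X) * ⟨t, htX⟩ * (⟨σ, hσ⟩ : X)⁻¹ ∈ A := Subgroup.Normal.conj_mem inferInstance _ htA _
    exact hcent _ (congrArg Subtype.val (hAab _ h1 _ htA))
  have hstep : ∀ y, σ (y + 1) = σ y + c := fun y => by
    have := congrArg (fun e : Equiv.Perm (ZMod p) => e (σ y)) hc
    simp only [Equiv.Perm.mul_apply, Equiv.Perm.inv_def, Equiv.symm_apply_apply, ht, htr] at this
    exact this
  have hnat : ∀ k : ℕ, σ (k : ZMod p) = (c : ZMod p) * k + σ 0 := by
    intro k
    induction k with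
    | zero => simp
    | succ k ih => push_cast; rw [hstep, ih]; ring
  have hc0 : (c : ZMod p) ≠ 0 := fun h => by
    have := hnat 1
    rw [h, zero_mul, zero_add, Nat.cast_one] at this
    exact one_ne_zero (σ.injective this)
  exact ⟨Units.mk0 _ hc0, σ 0, fun y => by rw [← ZMod.natCast_zmod_val y, hnat, Units.val_mk0]⟩

/-- Closures of subgroups of the one-dimensional affine group. Let p be a prime and G a group of permutations of F_p lying in the affine group AGL₁(p) = {x ↦ ax + b, a ≠ 0} and containing all translations. (1) If G is a proper subgroup of AGL₁(p), then G is 2-closed: a permutation of F_p agreeing on every ordered pair of points with some element of G lies in G. (2) Every permutation of F_p agrees on every ordered pair with some element of AGL₁(p) (the 2-closure of AGL₁(p) is the symmetric group). (3) AGL₁(p) is 3-closed: a permutation agreeing on every ordered triple with some affine map is affine. -/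
theorem result (p : ℕ) [Fact p.Prime] (G : Subgroup (Equiv.Perm (ZMod p))) (hG : G ≤ Cfsg.affineGroup (ZMod p))
    (htrans : ∀ b : ZMod p, ∃ g ∈ G, ∀ x, g x = x + b) :
    (G ≠ Cfsg.affineGroup (ZMod p) → ∀ σ : Equiv.Perm (ZMod p), (∀ t : Fin 2 → ZMod p, ∃ g ∈ G, ∀ i, σ (t i) = g (t i)) → σ ∈ G) ∧
    (∀ σ : Equiv.Perm (ZMod p), (∀ t : Fin 2 → ZMod p, ∃ g ∈ Cfsg.affineGroup (ZMod p), ∀ i, σ (t i) = g (t i))) ∧
    (∀ σ : Equiv.Perm (ZMod p), (∀ t : Fin 3 → ZMod p, ∃ g ∈ Cfsg.affineGroup (ZMod p), ∀ i, σ (t i) = g (t i)) → σ ∈ Cfsg.affineGroup (ZMod p)) := by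
  classical
  have hp : p.Prime := Fact.out
  refine ⟨fun hne σ hσ => ?_, fun σ t => ?_, fun σ hσ => ?_⟩
  · let X : Subgroup (Equiv.Perm (ZMod p)) :=
      { carrier := {τ | ∀ t : Fin 2 → ZMod p, ∃ g ∈ G, ∀ i, τ (t i) = g (t i)}
        one_mem' := fun t => ⟨1, one_mem G, fun i => rfl⟩
        mul_mem' := fun {a b} ha hb t => by
          obtain ⟨g, hg, hgt⟩ := hb t
          obtain ⟨f, hf, hft⟩ := ha (fun i => g (t i))
          exact ⟨f * g, mul_mem hf hg, fun i => by rw [Equiv.Perm.mul_apply, Equiv.Perm.mul_apply, hgt, hft]⟩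
        inv_mem' := fun {a} ha t => by
          obtain ⟨g, hg, hgt⟩ := ha (fun i => a⁻¹ (t i))
          refine ⟨g⁻¹, inv_mem hg, fun i => ?_⟩
          have := hgt i
          rw [← Equiv.Perm.mul_apply, mul_inv_cancel, Equiv.Perm.one_apply] at this
          exact (Equiv.Perm.inv_eq_iff_eq.2 this).symm }
    obtain ⟨τ, hτG, hτ⟩ := htrans 1
    have hτX : τ ∈ X := fun t => ⟨τ, hτG, fun i => rfl⟩
    haveI : MulAction.IsPretransitive X (ZMod p) := ⟨fun x y => by
      obtain ⟨g, hg, hgx⟩ := htrans (y - x)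
      exact ⟨⟨g, fun t => ⟨g, hg, fun i => rfl⟩⟩, by show g x = y; rw [hgx]; ring⟩⟩
    have hsol : Group.IsSolvable X := by
      rcases S0675.result (α := ZMod p) (by rw [ZMod.card]; exact hp) X with h | h
      · exact h
      exfalso
      refine hne (le_antisymm hG ?_)
      rintro π ⟨a, c, hπ⟩
      obtain ⟨m, hm⟩ := (MulAction.is_two_pretransitive_iff.1 h)
        (show (0 : ZMod p) ≠ 1 from zero_ne_one) (show c ≠ (a : ZMod p) + c by simp)
      obtain ⟨g, hg, hgt⟩ := m.2 ![0, 1]
      have g0 : g 0 = c := (hgt 0).symm.trans hm.1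
      have g1 : g 1 = (a : ZMod p) + c := (hgt 1).symm.trans hm.2
      obtain ⟨a', c', hg'⟩ := hG hg
      rw [hg', mul_zero, zero_add] at g0
      rw [hg', mul_one, g0, add_left_inj] at g1
      have : π = g := Equiv.ext fun x => by rw [hπ, hg', g0, g1]
      exact this ▸ hg
    have haff := affine_of_solvable X hsol τ hτ hτX σ hσ
    obtain ⟨a, c, hac⟩ := haff
    obtain ⟨g, hg, hgt⟩ := hσ ![0, 1]
    obtain ⟨a', c', hg'⟩ := hG hg
    have e0 : c = c' := by
      have h0 := hgt 0
      rw [Matrix.cons_val_zero, hac, hg', mul_zero, zero_add, mul_zero, zero_add] at h0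
      exact h0
    have e1 : (a : ZMod p) = a' := by
      have h1 := hgt 1
      rw [Matrix.cons_val_one, Matrix.cons_val_zero, hac, hg', mul_one, mul_one, e0, add_left_inj] at h1
      exact h1
    exact (Equiv.ext fun x => by rw [hac, hg', e0, e1] : σ = g) ▸ hg
  · by_cases h : t 1 = t 0
    · refine ⟨Equiv.addRight (σ (t 0) - t 0), ⟨1, σ (t 0) - t 0, fun x => by simp⟩, fun i => ?_⟩
      fin_cases i <;> simp [h]
    · have hne : σ (t 1) - σ (t 0) ≠ 0 := sub_ne_zero.2 fun e => h (σ.injective e)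
      have hne' : t 1 - t 0 ≠ 0 := sub_ne_zero.2 h
      set a := (σ (t 1) - σ (t 0)) / (t 1 - t 0) with ha
      have ha0 : a ≠ 0 := div_ne_zero hne hne'
      refine ⟨(Equiv.mulLeft₀ a ha0).trans (Equiv.addRight (σ (t 0) - a * t 0)),
        ⟨Units.mk0 a ha0, σ (t 0) - a * t 0, fun x => rfl⟩, fun i => ?_⟩
      have key : a * (t 1 - t 0) = σ (t 1) - σ (t 0) := div_mul_cancel₀ _ hne'
      fin_cases i
      · simp
      · show σ (t 1) = a * t 1 + (σ (t 0) - a * t 0)
        linear_combination -key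
  · set a := σ 1 - σ 0 with ha
    have ha0 : a ≠ 0 := sub_ne_zero.2 fun e => one_ne_zero (σ.injective e)
    refine ⟨Units.mk0 a ha0, σ 0, fun x => ?_⟩
    obtain ⟨g, ⟨u, c, hg⟩, hgt⟩ := hσ ![0, 1, x]
    have h0 := hgt 0
    have h1 := hgt 1
    have h2 := hgt 2
    simp only [Matrix.cons_val_zero, Matrix.cons_val_one, Matrix.cons_val, hg, mul_zero, zero_add,
      mul_one] at h0 h1 h2
    rw [Units.val_mk0, ha, h0, h1, h2]
    ring

end Cfsg.Agent.S3518
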