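import Cfsg.Statements.S3521
import Cfsg.Agent.ExtPrim.Main

set_option autoImplicit false
open Cfsg

namespace Cfsg.Agent.S3521

/-- Let a finite group G that is not solvable act faithfully and primitively on a finite set with p ^ d points (p prime), with a non-trivial abelian normal subgroup acting regularly (affine type) and with non-trivial point stabilizers each acting primitively on every one of its orbits (an insoluble extremely primitive group of affine type). Then p = 2; and if moreover G is not 2-transitive, then a point stabilizer is almost simple (it has a non-abelian simple normal subgroup with trivial centralizer). -/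
theorem result {G : Type*} [Group G] [Finite G] {Ω : Type*} [Fintype Ω] [MulAction G Ω] [FaithfulSMul G Ω] (p d : ℕ) (hp : p.Prime) (hcard : Fintype.card Ω = p ^ d) (hsol : ¬ Group.IsSolvable G)
    (N : Subgroup G) [N.Normal] (hN : N ≠ ⊥) (hNc : IsMulCommutative N) (hNreg : ∀ ω : Ω, MulAction.stabilizer N ω = ⊥)
    (hprim : MulAction.IsPreprimitive G Ω) (hH : ∀ α : Ω, MulAction.stabilizer G α ≠ ⊥) (hep : ∀ (α : Ω) (ω : Ω), MulAction.IsPreprimitive (MulAction.stabilizer G α) (MulAction.orbit (MulAction.stabilizer G α) ω)) (α : Ω) :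
    p = 2 ∧ (¬ MulAction.IsMultiplyPretransitive G Ω 2 → ∃ T : Subgroup (MulAction.stabilizer G α), T.Normal ∧ IsSimpleGroup T ∧ ¬ IsMulCommutative T ∧ Subgroup.centralizer (T : Set (MulAction.stabilizer G α)) = ⊥) := by
  haveI := hprim
  haveI : Nontrivial Ω := by
    by_contra h
    rw [not_nontrivial_iff_subsingleton] at h
    refine hsol (Group.isSolvable_of_comm fun a b => ?_)
    exact eq_of_smul_eq_smul fun ω : Ω => Subsingleton.elim _ _
  -- `N` is regular
  have htrans : ∀ ω : Ω, ∃ n : N, (n : G) • α = ω := by
    intro ω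
    have hmaxα := MulAction.IsPreprimitive.isCoatom_stabilizer_of_isPreprimitive (G := G) α
    have hsup : N ⊔ MulAction.stabilizer G α = ⊤ := by
      refine hmaxα.2 _ (lt_of_le_of_ne le_sup_right fun e => hN ?_)
      have hle : N ≤ MulAction.stabilizer G α := e ▸ le_sup_left
      refine (Subgroup.eq_bot_iff_forall _).mpr fun n hn => eq_of_smul_eq_smul fun w : Ω => ?_
      obtain ⟨g, rfl⟩ := MulAction.exists_smul_eq G α w
      have h1 : g⁻¹ * n * g ∈ N := by simpa using ‹N.Normal›.conj_mem n hn g⁻¹
      have h2 : (g⁻¹ * n * g) • α = α := hle h1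
      rw [mul_smul, mul_smul, inv_smul_eq_iff] at h2
      rw [one_smul]
      exact h2
    obtain ⟨g, rfl⟩ := MulAction.exists_smul_eq G α ω
    obtain ⟨n, hn, s, hs, rfl⟩ := Subgroup.mem_sup_of_normal_left.mp
      (hsup ▸ Subgroup.mem_top g)
    exact ⟨⟨n, hn⟩, by rw [mul_smul, (hs : s • α = α)]⟩
  have hreg : Function.Bijective fun n : N => (n : G) • α := by
    refine ⟨fun a b hab => ?_, htrans⟩
    have h : b⁻¹ * a ∈ MulAction.stabilizer N α := by
      change ((b : G)⁻¹ * (a : G)) • α = α
      rw [mul_smul, inv_smul_eq_iff]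
      exact hab
    rw [hNreg α, Subgroup.mem_bot, inv_mul_eq_one] at h
    exact h.symm
  letI : CommGroup N := { (inferInstance : Group N) with mul_comm := fun a b => hNc.is_comm.comm a b }
  letI : DistribMulAction (MulAction.stabilizer G α) (Additive N) :=
    { smul := fun h v => Additive.ofMul (MulAut.conjNormal (h : G) v.toMul)
      one_smul := fun v => by
        change Additive.ofMul (MulAut.conjNormal (1 : G) v.toMul) = v
        rw [map_one]; rfl
      mul_smul := fun a b v => by
        change Additive.ofMul (MulAut.conjNormal ((a : G) * (b : G)) v.toMul) = _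
        rw [map_mul]; rfl
      smul_zero := fun h => congrArg Additive.ofMul (map_one (MulAut.conjNormal (h : G)))
      smul_add := fun h a b =>
        congrArg Additive.ofMul (map_mul (MulAut.conjNormal (h : G)) a.toMul b.toMul) }
  have hcoe : ∀ (h : MulAction.stabilizer G α) (v : Additive N),
      (((h • v).toMul : N) : G) = (h : G) * (v.toMul : G) * (h : G)⁻¹ := fun h v =>
    MulAut.conjNormal_apply _ _
  have hpt : ∀ (h : MulAction.stabilizer G α) (v : Additive N),
      (((h • v).toMul : N) : G) • α = (h : G) • ((v.toMul : G) • α) := by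
    intro h v
    rw [hcoe, mul_smul, mul_smul]
    exact congrArg _ (congrArg _ (inv_smul_eq_iff.mpr h.2.symm))
  have hfix : ∀ (h : MulAction.stabilizer G α) (v : Additive N),
      h • v = v ↔ (h : G) • ((v.toMul : G) • α) = (v.toMul : G) • α := by
    intro h v
    rw [← hpt]
    exact ⟨fun e => by rw [e], fun e => Additive.toMul.injective (hreg.1 e)⟩
  have c : ExtPrim.Ctx (MulAction.stabilizer G α) (Additive N) := by
    refine ⟨fun h hh => ?_, fun W hW => ?_, fun v hv K hK => ?_, fun hs => hsol ?_⟩
    · refine Subtype.ext (eq_of_smul_eq_smul fun ω : Ω => ?_)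
      obtain ⟨n, rfl⟩ := htrans ω
      have h1 := (hfix h (Additive.ofMul n)).mp (hh _)
      simpa using h1
    · by_cases hW0 : W = ⊥
      · exact Or.inl hW0
      refine Or.inr ?_
      let K : Subgroup G :=
        { carrier := {g | ∃ n : N, Additive.ofMul n ∈ W ∧ (n : G) = g}
          one_mem' := ⟨1, W.zero_mem, rfl⟩
          mul_mem' := by
            rintro _ _ ⟨a, ha, rfl⟩ ⟨b, hb, rfl⟩
            exact ⟨a * b, W.add_mem ha hb, rfl⟩
          inv_mem' := by
            rintro _ ⟨a, ha, rfl⟩
            exact ⟨a⁻¹, W.neg_mem ha, rfl⟩ }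
      have hKn : K.Normal := by
        refine ⟨fun x hx g => ?_⟩
        obtain ⟨n, hn, rfl⟩ := hx
        obtain ⟨m, hm⟩ := htrans (g • α)
        have hst : (m : G)⁻¹ * g ∈ MulAction.stabilizer G α := by
          change ((m : G)⁻¹ * g) • α = α
          rw [mul_smul, inv_smul_eq_iff]
          exact hm.symm
        refine ⟨_, hW ⟨_, hst⟩ (Subgroup.mem_top _) _ hn, ?_⟩
        refine (hcoe ⟨_, hst⟩ (Additive.ofMul n)).trans ?_
        change (m : G)⁻¹ * g * (n : G) * ((m : G)⁻¹ * g)⁻¹ = g * (n : G) * g⁻¹
        have hgn : g * (n : G) * g⁻¹ ∈ N := ‹N.Normal›.conj_mem _ n.2 g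
        have h1 := congrArg Subtype.val (mul_comm (⟨_, hgn⟩ : N) m)
        calc (m : G)⁻¹ * g * (n : G) * ((m : G)⁻¹ * g)⁻¹
            = (m : G)⁻¹ * (g * (n : G) * g⁻¹ * (m : G)) := by simp [mul_assoc]
          _ = (m : G)⁻¹ * ((m : G) * (g * (n : G) * g⁻¹)) := congrArg _ h1
          _ = g * (n : G) * g⁻¹ := by rw [inv_mul_cancel_left]
      have hsup : K ⊔ MulAction.stabilizer G α = ⊤ := by
        refine (MulAction.IsPreprimitive.isCoatom_stabilizer_of_isPreprimitive (G := G) α).2 _
          (lt_of_le_of_ne le_sup_right fun e => hW0 ?_)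
        refine (AddSubgroup.eq_bot_iff_forall _).mpr fun v hv => ?_
        have h1 : (v.toMul : G) ∈ MulAction.stabilizer G α :=
          e.symm ▸ Subgroup.mem_sup_left (show (v.toMul : G) ∈ K from ⟨v.toMul, hv, rfl⟩)
        exact Additive.toMul.injective (hreg.1 (h1.trans (one_smul G α).symm))
      refine eq_top_iff.mpr fun v _ => ?_
      haveI := hKn
      obtain ⟨k, ⟨n, hn, rfl⟩, s, hs, he⟩ := Subgroup.mem_sup_of_normal_left.mp
        (hsup ▸ Subgroup.mem_top (v.toMul : G))
      have h1 : (n : G) • α = (v.toMul : G) • α := by rw [← he, mul_smul, (hs : s • α = α)]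
      rw [show v = Additive.ofMul n from Additive.toMul.injective (hreg.1 h1).symm]
      exact hn
    · haveI := hep α ((v.toMul : G) • α)
      let x : MulAction.orbit (MulAction.stabilizer G α) ((v.toMul : G) • α) :=
        ⟨_, MulAction.mem_orbit_self _⟩
      have hst : MulAction.stabilizer (MulAction.stabilizer G α) v =
          MulAction.stabilizer (MulAction.stabilizer G α) x := by
        ext h
        rw [MulAction.mem_stabilizer_iff, MulAction.mem_stabilizer_iff, hfix]
        exact ⟨fun e => Subtype.ext e, fun e => congrArg Subtype.val e⟩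
      rcases subsingleton_or_nontrivial
        (MulAction.orbit (MulAction.stabilizer G α) ((v.toMul : G) • α)) with hsub | hnt
      · refine Or.inr (eq_top_iff.mpr ?_)
        rw [← show MulAction.stabilizer (MulAction.stabilizer G α) v = ⊤ from ?_]
        · exact hK
        · rw [hst]
          exact eq_top_iff.mpr fun h _ => Subsingleton.elim _ _
      · rw [hst] at hK ⊢
        exact ((MulAction.IsPreprimitive.isCoatom_stabilizer_of_isPreprimitive
          (G := MulAction.stabilizer G α) x).le_iff.mp hK).symm
    · have h1 : Group.IsSolvable N := Group.isSolvable_of_comm mul_comm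
      have hsurj : Function.Surjective
          ((QuotientGroup.mk' N).comp (MulAction.stabilizer G α).subtype) := by
        intro q
        obtain ⟨g, rfl⟩ := QuotientGroup.mk'_surjective N q
        obtain ⟨m, hm⟩ := htrans (g • α)
        have hst : (m : G)⁻¹ * g ∈ MulAction.stabilizer G α := by
          change ((m : G)⁻¹ * g) • α = α
          rw [mul_smul, inv_smul_eq_iff]
          exact hm.symm
        refine ⟨⟨_, hst⟩, ?_⟩
        change QuotientGroup.mk' N ((m : G)⁻¹ * g) = QuotientGroup.mk' N g
        rw [map_mul, map_inv, (QuotientGroup.eq_one_iff (m : G)).mpr m.2 |>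
          (fun h => (show QuotientGroup.mk' N (m : G) = 1 from h)), inv_one, one_mul]
      haveI := Group.isSolvable_of_surjective hsurj
      exact Group.isSolvable_of_ker_le_range N.subtype (QuotientGroup.mk' N) (by simp)
  haveI : Nontrivial (Additive N) := by
    haveI : Nontrivial N := N.nontrivial_iff_ne_bot.mpr hN
    infer_instance
  obtain ⟨v, hv, hvv⟩ := c.exists_double
  have hp2 : p = 2 := by
    have hord : addOrderOf v = 2 := addOrderOf_eq_prime (by rw [two_nsmul]; exact hvv) hv
    have h1 : 2 ∣ Nat.card (Additive N) := hord ▸ addOrderOf_dvd_natCard v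
    rw [Nat.card_congr Additive.toMul, Nat.card_eq_of_bijective _ hreg, Nat.card_eq_fintype_card,
      hcard] at h1
    exact ((Nat.prime_dvd_prime_iff_eq Nat.prime_two hp).mp (Nat.prime_two.dvd_of_dvd_pow h1)).symm
  refine ⟨hp2, fun _ => ExtPrim.Ctx.almost_simple c ?_⟩
  let W : AddSubgroup (Additive N) :=
    { carrier := {w | w + w = 0}
      zero_mem' := add_zero 0
      add_mem' := fun {a b} (ha : a + a = 0) (hb : b + b = 0) => by
        change a + b + (a + b) = 0
        rw [add_add_add_comm, ha, hb, add_zero]
      neg_mem' := fun {a} (ha : a + a = 0) => by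
        change -a + -a = 0
        rw [← neg_add, ha, neg_zero] }
  have hWtop : W = ⊤ := (c.irred W fun h _ w (hw : w + w = 0) => by
    change h • w + h • w = 0
    rw [← smul_add, hw, smul_zero]).resolve_left fun hb =>
      hv (AddSubgroup.mem_bot.mp (hb ▸ (hvv : v ∈ W)))
  exact fun w => (hWtop ▸ AddSubgroup.mem_top w : w ∈ W)

end Cfsg.Agent.S3521
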