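import Cfsg.Statements.S3532
import Cfsg.Agent.Spectrum.FrobeniusAffine
import Cfsg.Agent.S2475

set_option autoImplicit false
open Cfsg

namespace Cfsg.Agent.S3532

/-- Let q ≥ 4 be a prime power and L = PSL(2,q). There is a finite solvable group with the same set of element orders as L × L (so L × L is not determined by its spectrum). -/
theorem result {F : Type*} [Field F] [Fintype F] (hF : 4 ≤ Fintype.card F) :
    ∃ (H : Type) (_ : Group H) (_ : Finite H), Group.IsSolvable H ∧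
      Set.range (orderOf : H → ℕ) = Set.range (orderOf : Matrix.ProjectiveSpecialLinearGroup (Fin 2) F × Matrix.ProjectiveSpecialLinearGroup (Fin 2) F → ℕ) := by
  classical
  obtain ⟨p, hp⟩ := CharP.exists F
  haveI := Fact.mk (CharP.char_is_prime F p)
  haveI : Fact p.Prime := ⟨CharP.char_is_prime F p⟩
  obtain ⟨n, -, hq⟩ := FiniteField.card F p
  set q := Fintype.card F with hqdef
  set d := Nat.gcd 2 (q - 1) with hd
  have hspec := S2475.result p hF
  rw [← hqdef, ← hd] at hspec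
  set a := (q - 1) / d with ha
  set b := (q + 1) / d with hb
  have hp2 := (CharP.char_is_prime F p).two_le
  have hpq : p ∣ q := by rw [hq]; exact dvd_pow_self p n.pos.ne'
  obtain ⟨hd1, ha1, hb2, hpa, hab⟩ : (d = 1 ∨ d = 2) ∧ 1 ≤ a ∧ 2 ≤ b ∧ Nat.Coprime a p ∧ Nat.Coprime a b := by
    have hdd : d ∣ 2 := Nat.gcd_dvd_left _ _
    have hd1 : d = 1 ∨ d = 2 := (Nat.dvd_prime Nat.prime_two).1 hdd
    have hmod : d = 1 ∧ q % 2 = 0 ∨ d = 2 ∧ q % 2 = 1 := by
      rcases Nat.mod_two_eq_zero_or_one q with h | h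
      · left
        refine ⟨?_, h⟩
        rcases hd1 with e | e
        · exact e
        · have : 2 ∣ q - 1 := e ▸ Nat.gcd_dvd_right 2 (q - 1)
          omega
      · right
        refine ⟨Nat.dvd_antisymm hdd (Nat.dvd_gcd dvd_rfl (by omega)), h⟩
    have hA : Nat.Coprime a p := by
      refine (Nat.Coprime.symm ((CharP.char_is_prime F p).coprime_iff_not_dvd.2 fun h => ?_))
      have h1 : p ∣ q - 1 := h.trans (Nat.div_dvd_of_dvd (Nat.gcd_dvd_right 2 (q - 1)))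
      have := Nat.dvd_sub hpq h1
      rw [show q - (q - 1) = 1 by omega] at this
      exact absurd (Nat.le_of_dvd one_pos this) (by omega)
    refine ⟨hd1, ?_, ?_, hA, ?_⟩
    · rcases hmod with ⟨e, h⟩ | ⟨e, h⟩ <;> rw [ha, e] <;> omega
    · rcases hmod with ⟨e, h⟩ | ⟨e, h⟩ <;> rw [hb, e] <;> omega
    · show Nat.gcd a b = 1
      obtain ⟨g, hgg⟩ : ∃ g, g = Nat.gcd a b := ⟨_, rfl⟩
      have hg1 : g ∣ a := hgg ▸ Nat.gcd_dvd_left a b
      have hg2 : g ∣ b := hgg ▸ Nat.gcd_dvd_right a b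
      rw [← hgg]
      rcases hmod with ⟨e, h⟩ | ⟨e, h⟩
      · rw [ha, e, Nat.div_one] at hg1
        rw [hb, e, Nat.div_one] at hg2
        have h2 := Nat.dvd_sub hg2 hg1
        rw [show q + 1 - (q - 1) = 2 by omega] at h2
        rcases (Nat.dvd_prime Nat.prime_two).1 h2 with h3 | h3
        · exact h3
        · rw [h3] at hg1; omega
      · rw [ha, e] at hg1
        rw [hb, e] at hg2
        have h2 := Nat.dvd_sub hg2 hg1
        rw [show (q + 1) / 2 - (q - 1) / 2 = 1 by omega] at h2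
        exact Nat.dvd_one.1 h2
  obtain ⟨H₁, i₁, j₁, s₁, e₁⟩ := Spectrum.FrobAffine.exists_solvable ha1 hp2 hpa
  obtain ⟨H₂, i₂, j₂, s₂, e₂⟩ := Spectrum.FrobAffine.exists_solvable ha1 hb2 hab
  refine ⟨H₁ × H₂, inferInstance, inferInstance, inferInstance, ?_⟩
  have h1 : ∀ x : H₁, orderOf x ∣ p ∨ orderOf x ∣ a := fun x => e₁.subset ⟨x, rfl⟩
  have h2 : ∀ x : H₂, orderOf x ∣ b ∨ orderOf x ∣ a := fun x => e₂.subset ⟨x, rfl⟩
  have h3 : ∀ x : Matrix.ProjectiveSpecialLinearGroup (Fin 2) F,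
      orderOf x ∣ p ∨ orderOf x ∣ a ∨ orderOf x ∣ b := fun x => hspec.subset ⟨x, rfl⟩
  have g1 : ∀ m, m ∣ p ∨ m ∣ a → ∃ x : H₁, orderOf x = m := fun m hm => e₁.superset hm
  have g2 : ∀ m, m ∣ b ∨ m ∣ a → ∃ x : H₂, orderOf x = m := fun m hm => e₂.superset hm
  have g3 : ∀ m, m ∣ p ∨ m ∣ a ∨ m ∣ b → ∃ x : Matrix.ProjectiveSpecialLinearGroup (Fin 2) F,
      orderOf x = m := fun m hm => hspec.superset hm
  ext m
  simp only [Set.mem_range]
  constructor
  · rintro ⟨⟨x, y⟩, rfl⟩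
    obtain ⟨u, hu⟩ := g3 (orderOf x) (by rcases h1 x with h | h <;> simp [h])
    obtain ⟨v, hv⟩ := g3 (orderOf y) (by rcases h2 y with h | h <;> simp [h])
    exact ⟨(u, v), by rw [Prod.orderOf, Prod.orderOf, hu, hv]⟩
  · rintro ⟨⟨u, v⟩, rfl⟩
    suffices ∃ k l, (k ∣ p ∨ k ∣ a) ∧ (l ∣ b ∨ l ∣ a) ∧ Nat.lcm k l = Nat.lcm (orderOf u) (orderOf v) by
      obtain ⟨k, l, hk, hl, e⟩ := this
      obtain ⟨x, rfl⟩ := g1 k hk
      obtain ⟨y, rfl⟩ := g2 l hl
      exact ⟨(x, y), by rw [Prod.orderOf, Prod.orderOf]; exact e⟩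
    generalize orderOf u = k, orderOf v = l, h3 u = hk, h3 v = hl
    rcases hk with hk | hk | hk <;> rcases hl with hl | hl | hl
    · exact ⟨Nat.lcm k l, 1, Or.inl (Nat.lcm_dvd hk hl), Or.inl (one_dvd _), Nat.lcm_one_right _⟩
    · exact ⟨k, l, Or.inl hk, Or.inr hl, rfl⟩
    · exact ⟨k, l, Or.inl hk, Or.inl hl, rfl⟩
    · exact ⟨l, k, Or.inl hl, Or.inr hk, Nat.lcm_comm _ _⟩
    · exact ⟨k, l, Or.inr hk, Or.inr hl, rfl⟩
    · exact ⟨k, l, Or.inr hk, Or.inl hl, rfl⟩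
    · exact ⟨l, k, Or.inl hl, Or.inl hk, Nat.lcm_comm _ _⟩
    · exact ⟨l, k, Or.inr hl, Or.inl hk, Nat.lcm_comm _ _⟩
    · exact ⟨1, Nat.lcm k l, Or.inl (one_dvd _), Or.inl (Nat.lcm_dvd hk hl), Nat.lcm_one_left _⟩

end Cfsg.Agent.S3532
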