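import Cfsg.Statements.S3547
import Cfsg.Agent.Derange.Basic

set_option autoImplicit false
open Cfsg

namespace Cfsg.Agent.S3547

/-- Let G act faithfully and transitively on a finite set Ω, let D be the subgroup generated by the derangements, and let r_G and r_D be the numbers of orbits of G and of D on ordered pairs of points (the permutation ranks). Then r_D − 1 = (r_G − 1)·[G : D]. -/
theorem result {G Ω : Type*} [Group G] [Finite G] [MulAction G Ω] [FaithfulSMul G Ω] [Finite Ω]
    (htrans : MulAction.IsPretransitive G Ω) :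
    Nat.card (MulAction.orbitRel.Quotient ↥(Subgroup.closure {g : G | ∀ ω : Ω, g • ω ≠ ω}) (Ω × Ω)) - 1 =
      (Nat.card (MulAction.orbitRel.Quotient G (Ω × Ω)) - 1) * (Subgroup.closure {g : G | ∀ ω : Ω, g • ω ≠ ω}).index := by
  classical
  have := htrans
  rcases isEmpty_or_nonempty Ω with hΩ | hΩ
  · have : Subsingleton G := ⟨fun g h => eq_of_smul_eq_smul (fun ω : Ω => isEmptyElim ω)⟩
    simp [Nat.card_of_isEmpty]
  change Nat.card (MulAction.orbitRel.Quotient (Derange.dsub G Ω) (Ω × Ω)) - 1 =
    (_ - 1) * (Derange.dsub G Ω).index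
  have := Fintype.ofFinite G
  set D := Derange.dsub G Ω
  have hp : ∀ g : G, Nat.card (MulAction.fixedBy (Ω × Ω) g) =
      Nat.card (MulAction.fixedBy Ω g) * Nat.card (MulAction.fixedBy Ω g) := by
    intro g
    rw [← Nat.card_prod]
    exact Nat.card_congr
      { toFun := fun x => (⟨x.1.1, congrArg Prod.fst x.2⟩, ⟨x.1.2, congrArg Prod.snd x.2⟩)
        invFun := fun x => ⟨(x.1.1, x.2.1), Prod.ext x.1.2 x.2.2⟩
        left_inv := fun _ => rfl
        right_inv := fun _ => rfl }
  have hG := Derange.sum_fix G (Ω × Ω)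
  rw [Derange.sum_split D] at hG
  have hD : ∑ g : D, Nat.card (MulAction.fixedBy (Ω × Ω) (g : G)) =
      Nat.card (MulAction.orbitRel.Quotient D (Ω × Ω)) * Nat.card D := Derange.sum_fix D (Ω × Ω)
  rw [hD] at hG
  have hout : ∀ g ∈ Finset.univ.filter (fun g => g ∉ D),
      Nat.card (MulAction.fixedBy (Ω × Ω) g) = 1 := by
    intro g hg
    rw [hp, Derange.key.2 g (by simpa using hg)]
  rw [Finset.sum_congr rfl hout, ← Finset.card_eq_sum_ones] at hG
  have hc := Derange.card_filter_notMem D
  have hpos : 0 < Nat.card D := Nat.card_pos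
  have : Nonempty (MulAction.orbitRel.Quotient G (Ω × Ω)) :=
    ⟨Quotient.mk'' (Classical.arbitrary (Ω × Ω))⟩
  have hr : 1 ≤ Nat.card (MulAction.orbitRel.Quotient G (Ω × Ω)) := Nat.card_pos
  have hi := Subgroup.card_mul_index D
  have hi1 : 1 ≤ D.index := Nat.one_le_iff_ne_zero.mpr Subgroup.index_ne_zero_of_finite
  set rG := Nat.card (MulAction.orbitRel.Quotient G (Ω × Ω))
  set rD := Nat.card (MulAction.orbitRel.Quotient D (Ω × Ω))
  have h : Nat.card D * (rD + D.index) = Nat.card D * (rG * D.index + 1) := by nlinarith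
  have h2 := Nat.eq_of_mul_eq_mul_left hpos h
  rw [Nat.sub_mul, one_mul]
  omega

end Cfsg.Agent.S3547
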