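import Cfsg.Statements.S3548
import Cfsg.Agent.Derange.Basic

set_option autoImplicit false
open Cfsg

namespace Cfsg.Agent.S3548

/-- Let G act faithfully and transitively on a finite set with n ≥ 2 points and let D be the subgroup generated by the derangements. Then the index of D in G divides n − 1, and if it equals n − 1 then n is a prime power. -/
theorem result {G Ω : Type*} [Group G] [Finite G] [MulAction G Ω] [FaithfulSMul G Ω] [Finite Ω]
    (htrans : MulAction.IsPretransitive G Ω) (hΩ : 2 ≤ Nat.card Ω) :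
    (Subgroup.closure {g : G | ∀ ω : Ω, g • ω ≠ ω}).index ∣ Nat.card Ω - 1 ∧
    ((Subgroup.closure {g : G | ∀ ω : Ω, g • ω ≠ ω}).index = Nat.card Ω - 1 → IsPrimePow (Nat.card Ω)) := by
  have := htrans
  have : Nonempty Ω := (Nat.card_pos_iff.mp (by omega)).1
  let a : Ω := Classical.arbitrary Ω
  change (Derange.dsub G Ω).index ∣ _ ∧ ((Derange.dsub G Ω).index = _ → _)
  refine ⟨Derange.index_dvd_sub_one a, fun heq => ?_⟩
  set D := Derange.dsub G Ω
  have hDt : MulAction.IsPretransitive D Ω := Derange.dsub_pretransitive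
  have hDn : D.Normal := Derange.dsub_normal
  have horb : ∀ x y : Ω, x ≠ y → ∀ z, z ≠ x → ∃ g ∈ MulAction.stabilizer G x, g • y = z := by
    intro x y hxy z hz
    have hsub : MulAction.orbit (MulAction.stabilizer G x) y ⊆ {x}ᶜ := by
      rintro _ ⟨g, rfl⟩ h
      exact hxy (smul_left_cancel (g : G) ((show (g : G) • x = x from g.2).trans h.symm))
    have heq2 : MulAction.orbit (MulAction.stabilizer G x) y = {x}ᶜ := by
      apply Set.eq_of_subset_of_ncard_le hsub
      rw [Set.ncard_compl, Set.ncard_singleton]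
      rw [← heq]
      exact Nat.le_of_dvd ((Set.ncard_pos).mpr ⟨y, MulAction.mem_orbit_self y⟩)
        (Derange.index_dvd_orbit hxy)
    obtain ⟨g, hg⟩ := heq2.symm ▸ (Set.mem_compl_singleton_iff.mpr hz)
    exact ⟨g, g.2, hg⟩
  have hreg : ∀ d ∈ D, ∀ x : Ω, d • x = x → d = 1 := by
    intro d hd x hx
    apply eq_of_smul_eq_smul (α := Ω)
    intro y
    rw [one_smul]
    by_cases hxy : x = y
    · rw [← hxy]; exact hx
    -- the stabilizer of `y` in the stabilizer of `x` is the intersection with `D`
    set S := (MulAction.stabilizer G x)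
    have hle : MulAction.stabilizer S y ≤ D.subgroupOf S := fun s hs =>
      Derange.stabilizer_inf_le hxy ⟨s.2, hs⟩
    have hidx : (MulAction.stabilizer S y).index = (D.subgroupOf S).index := by
      rw [MulAction.index_stabilizer]
      refine le_antisymm ?_ (Nat.le_of_dvd ((Set.ncard_pos).mpr ⟨y, MulAction.mem_orbit_self y⟩)
        (by rw [← MulAction.index_stabilizer]; exact Subgroup.index_dvd_of_le hle))
      change _ ≤ D.relIndex S
      rw [Derange.relIndex_eq x, heq, ← Set.ncard_singleton x, ← Set.ncard_compl]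
      refine Set.ncard_le_ncard ?_ (Set.toFinite _)
      rintro _ ⟨g, rfl⟩ h
      exact hxy (smul_left_cancel (g : G) ((show (g : G) • x = x from g.2).trans h.symm))
    have heq3 : MulAction.stabilizer S y = D.subgroupOf S := by
      have e1 := Subgroup.card_mul_index (MulAction.stabilizer S y)
      have e2 := Subgroup.card_mul_index (D.subgroupOf S)
      rw [hidx, ← e2] at e1
      exact Subgroup.eq_of_le_of_card_ge hle
        (le_of_eq (Nat.eq_of_mul_eq_mul_right
          (Nat.pos_of_ne_zero Subgroup.index_ne_zero_of_finite) e1).symm)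
    have : (⟨d, hx⟩ : S) ∈ MulAction.stabilizer S y := by rw [heq3]; exact hd
    exact this
  -- all non-identity elements of `D` are conjugate
  have hcard : Nat.card D = Nat.card Ω := by
    have h := Derange.card_stabilizer_mul (Ω := Ω) D a
    have hb : MulAction.stabilizer D a = ⊥ :=
      (Subgroup.eq_bot_iff_forall _).mpr fun x hx => Subtype.ext (hreg x x.2 a hx)
    rw [hb, Subgroup.card_bot, one_mul] at h
    exact h.symm
  have hconj : ∀ d ∈ D, ∀ e ∈ D, d ≠ 1 → e ≠ 1 → IsConj d e := by
    intro d hd e he hd1 he1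
    obtain ⟨g, hg, hge⟩ := horb a (d • a) (fun h => hd1 (hreg d hd a h.symm)) (e • a)
      (fun h => he1 (hreg e he a h))
    refine isConj_iff.mpr ⟨g, ?_⟩
    have hm : g * d * g⁻¹ ∈ D := hDn.conj_mem d hd g
    have hg' : g⁻¹ • a = a := inv_smul_eq_iff.mpr (show g • a = a from hg).symm
    have : (e⁻¹ * (g * d * g⁻¹)) • a = a := by
      rw [mul_smul, mul_smul, mul_smul, hg', hge, inv_smul_smul]
    exact (inv_mul_eq_one.mp (hreg _ (mul_mem (inv_mem he) hm) a this)).symm
  obtain ⟨p, hp, hpd⟩ := Nat.exists_prime_and_dvd (n := Nat.card Ω) (by omega)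
  have := Fact.mk hp
  obtain ⟨x, hx⟩ := exists_prime_orderOf_dvd_card' (G := D) p (hcard ▸ hpd)
  have hpg : IsPGroup p D := by
    intro y
    refine ⟨1, ?_⟩
    rw [pow_one]
    by_cases hy : y = 1
    · simp [hy]
    have hx1 : x ≠ 1 := fun h => hp.ne_one (by rw [← hx, h, orderOf_one])
    obtain ⟨g, hg⟩ := isConj_iff.mp (hconj x x.2 y y.2 (by simpa using hx1) (by simpa using hy))
    apply Subtype.ext
    rw [Subgroup.coe_pow, ← hg, conj_pow, ← Subgroup.coe_pow, ← hx, pow_orderOf_eq_one]
    simp
  obtain ⟨k, hk⟩ := (IsPGroup.iff_card (G := D)).mp hpg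
  rw [← hcard, hk]
  refine hp.isPrimePow.pow ?_
  rintro rfl
  rw [hcard, pow_zero] at hk
  omega

end Cfsg.Agent.S3548
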