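import Cfsg.Statements.S3549
import Cfsg.Agent.Derange.Basic

set_option autoImplicit false
open Cfsg
open scoped Pointwise

namespace Cfsg.Agent.S3549

/-- Let G act faithfully, transitively but imprimitively on a finite set with n points, and let D be the subgroup generated by the derangements. Then the index of D in G is at most √n − 1. -/
theorem result {G Ω : Type*} [Group G] [Finite G] [MulAction G Ω] [FaithfulSMul G Ω] [Finite Ω]
    (htrans : MulAction.IsPretransitive G Ω) (himp : ¬ MulAction.IsPreprimitive G Ω) :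
    ((Subgroup.closure {g : G | ∀ ω : Ω, g • ω ≠ ω}).index : ℝ) ≤ Real.sqrt (Nat.card Ω) - 1 := by
  have := htrans
  change ((Derange.dsub G Ω).index : ℝ) ≤ _
  obtain ⟨B, hB, hnt⟩ : ∃ B : Set Ω, MulAction.IsBlock G B ∧ ¬ MulAction.IsTrivialBlock B := by
    by_contra h
    apply himp
    constructor
    intro B hB
    by_contra hB2
    exact h ⟨B, hB, hB2⟩
  simp only [MulAction.IsTrivialBlock, not_or] at hnt
  obtain ⟨hns, hnu⟩ := hnt
  rw [Set.not_subsingleton_iff] at hns
  obtain ⟨a, ha, b, hb, hab⟩ := hns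
  set i := (Derange.dsub G Ω).index
  have hinv : ∀ g ∈ MulAction.stabilizer G a, ∀ t ∈ B \ {a}, g • t ∈ B \ {a} := by
    intro g hg t ht
    have hga : g • a = a := hg
    have hgB : g • B = B := hB.smul_eq_of_nonempty ⟨a, ⟨a, ha, hga⟩, ha⟩
    refine ⟨hgB ▸ Set.smul_mem_smul_set ht.1, fun h => ht.2 ?_⟩
    exact smul_left_cancel g ((Set.mem_singleton_iff.mp h).trans hga.symm)
  have h1 : i ∣ B.ncard - 1 := by
    rw [← Set.ncard_diff_singleton_of_mem ha]
    exact Derange.index_dvd_ncard a _ (by simp) hinv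
  have h2 : i ∣ Nat.card Ω - 1 := Derange.index_dvd_sub_one a
  have hb2 : 2 ≤ B.ncard := (Set.one_lt_ncard).mpr ⟨a, ha, b, hb, hab⟩
  set m := Set.ncard (MulAction.orbit G B)
  have hbm : B.ncard * m = Nat.card Ω := hB.ncard_block_mul_ncard_orbit_eq ⟨a, ha⟩
  have hlt : B.ncard < Nat.card Ω := by
    rw [← Set.ncard_univ]
    exact Set.ncard_lt_ncard (Set.ssubset_univ_iff.mpr hnu)
  have hm2 : 2 ≤ m := by
    by_contra hm
    interval_cases m <;> omega
  have h3 : i ∣ m - 1 := by
    have h4 : i ∣ (B.ncard - 1) * m := h1.mul_right m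
    have h5 : (B.ncard - 1) * m = Nat.card Ω - m := by rw [Nat.sub_mul, one_mul, hbm]
    rw [h5] at h4
    have h6 : m ≤ Nat.card Ω := by rw [← hbm]; exact Nat.le_mul_of_pos_left m (by omega)
    have h7 : Nat.card Ω - 1 = (Nat.card Ω - m) + (m - 1) := by omega
    rw [h7] at h2
    exact (Nat.dvd_add_right h4).mp h2
  have hib : i + 1 ≤ B.ncard := by have := Nat.le_of_dvd (by omega) h1; omega
  have him : i + 1 ≤ m := by have := Nat.le_of_dvd (by omega) h3; omega
  have h8 : (i + 1) * (i + 1) ≤ Nat.card Ω := hbm ▸ Nat.mul_le_mul hib him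
  have h9 : ((i : ℝ) + 1) ≤ Real.sqrt (Nat.card Ω) := by
    apply Real.le_sqrt_of_sq_le
    rw [sq]; exact_mod_cast h8
  linarith

end Cfsg.Agent.S3549
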