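import Cfsg.Statements.S3554


set_option autoImplicit false
open Cfsg

namespace Cfsg.Agent.S3554

/-- Let G act faithfully and transitively on a finite set and suppose G has a non-trivial cyclic normal subgroup. Then some element of G of prime order fixes no point. -/
theorem result {G Ω : Type*} [Group G] [Finite G] [MulAction G Ω] [FaithfulSMul G Ω] [Finite Ω]
    (htrans : MulAction.IsPretransitive G Ω) (C : Subgroup G) (hC : C.Normal) (hC1 : C ≠ ⊥) (hcyc : IsCyclic ↥C) :
    ∃ g : G, (orderOf g).Prime ∧ ∀ ω : Ω, g • ω ≠ ω := by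
  have : Nontrivial C := Subgroup.nontrivial_iff_ne_bot C |>.mpr hC1
  obtain ⟨p, hp, hpd⟩ := Nat.exists_prime_and_dvd (n := Nat.card C) Finite.one_lt_card.ne'
  have := Fact.mk hp
  obtain ⟨x, hx⟩ := exists_prime_orderOf_dvd_card' (G := C) p hpd
  refine ⟨x, by rwa [Subgroup.orderOf_coe, hx], fun a ha => ?_⟩
  have hall : ∀ ω : Ω, (x : G) • ω = ω := by
    intro ω
    obtain ⟨g, rfl⟩ := htrans.exists_smul_eq a ω
    set y : C := ⟨g⁻¹ * x * g, by simpa using hC.conj_mem _ x.2 g⁻¹⟩
    have hy : y ∈ Subgroup.zpowers x := by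
      by_contra hy
      apply hy
      have hyo : orderOf y = p := by
        rw [← hx, ← Subgroup.orderOf_coe, ← Subgroup.orderOf_coe x]
        exact (MulAut.conj g⁻¹).orderOf_eq (x : G) |>.symm ▸ (by simp [y, MulAut.conj_apply])
      letI : CommGroup C := IsCyclic.commGroup
      have hk : Nat.card (powMonoidHom p : C →* C).ker = p := by
        rw [IsCyclic.card_powMonoidHom_ker]
        exact Nat.gcd_eq_right hpd
      have hle : ∀ z : C, orderOf z = p → Subgroup.zpowers z = (powMonoidHom p : C →* C).ker := fun z hz =>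
        Subgroup.eq_of_le_of_card_ge (Subgroup.zpowers_le.mpr (by
          rw [MonoidHom.mem_ker, powMonoidHom_apply, ← hz, pow_orderOf_eq_one]))
          (le_of_eq (by rw [hk, Nat.card_zpowers, hz]))
      have h1 : Subgroup.zpowers y = Subgroup.zpowers x := (hle y hyo).trans (hle x hx).symm
      exact h1 ▸ Subgroup.mem_zpowers y
    obtain ⟨k, hk⟩ := hy
    have h2 : (g⁻¹ * x * g) • a = a := by
      have : (x : G) ^ k = g⁻¹ * x * g := congrArg Subtype.val hk
      rw [← this]
      exact MulAction.mem_fixedBy_zpow ha k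
    rw [mul_smul, mul_smul, inv_smul_eq_iff] at h2
    exact h2
  have : (x : G) = 1 := eq_of_smul_eq_smul (α := Ω) (fun ω => by rw [hall ω, one_smul])
  exact hp.ne_one (by rw [← hx, ← Subgroup.orderOf_coe, this, orderOf_one])

end Cfsg.Agent.S3554
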