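import Mathlib
import Cfsg.Statements.S3555

set_option autoImplicit false
set_option linter.style.haveILetI false
open Cfsg
open scoped Pointwise

namespace Cfsg.Agent.S3555

theorem fixes_at_most_one {G Ω : Type*} [Group G] [Finite G] [MulAction G Ω] [FaithfulSMul G Ω]
    [Finite Ω] (htrans : MulAction.IsPretransitive G Ω)
    (hinv : ∀ g : G, (∀ ω : Ω, g • ω ≠ ω) → orderOf g = 2)
    {g : G} (hg : g ≠ 1) {a b : Ω} (ha : g • a = a) (hb : g • b = b) : a = b := by
  classical
  haveI := Fintype.ofFinite G
  haveI := Fintype.ofFinite Ω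
  haveI := htrans
  let f : G → ℤ := fun x => ((Finset.univ.filter fun w : Ω => x • w = w).card : ℤ)
  let n : ℤ := (Fintype.card Ω : ℤ)
  let m : ℤ := (Fintype.card G : ℤ)
  have hf : ∀ x : G, f x = ∑ w : Ω, (if x • w = w then (1 : ℤ) else 0) := fun x =>
    (Finset.sum_boole _ _).symm
  have hn : 0 < n := by
    simp only [n]
    exact_mod_cast Fintype.card_pos_iff.mpr ⟨a⟩
  have hfn : ∀ x, f x ≤ n := fun x => by
    simp only [f, n]
    exact_mod_cast Finset.card_le_univ _
  have hf0 : ∀ x, 0 ≤ f x := fun x => Int.natCast_nonneg _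
  -- the average number of fixed points is one
  have hsum : ∑ x : G, f x = m := by
    simp only [hf]
    rw [Finset.sum_comm]
    have hT : ∀ u v : Ω, (∑ x : G, if x • u = v then (1 : ℤ) else 0) =
        ∑ x : G, if x • u = u then (1 : ℤ) else 0 := by
      intro u v
      obtain ⟨k, hk⟩ := MulAction.exists_smul_eq G u v
      rw [← Equiv.sum_comp (Equiv.mulLeft k)]
      refine Finset.sum_congr rfl fun x _ => ?_
      simp only [Equiv.coe_mulLeft, mul_smul]
      conv_lhs => rw [← hk]
      simp only [smul_left_cancel_iff]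
    have htot : ∀ u : Ω, n * (∑ x : G, if x • u = u then (1 : ℤ) else 0) = m := by
      intro u
      have : ∑ v : Ω, (∑ x : G, if x • u = v then (1 : ℤ) else 0) = m := by
        rw [Finset.sum_comm]
        simp [m]
      rw [← this, Finset.sum_congr rfl fun v _ => hT u v, Finset.sum_const, nsmul_eq_mul]
      simp [n]
    apply mul_left_cancel₀ hn.ne'
    rw [Finset.mul_sum, Finset.sum_congr rfl fun u _ => htot u, Finset.sum_const, nsmul_eq_mul]
    simp [n]
  -- fixed points of squares are at most fixed pairs
  have hsq : ∑ x : G, f (x * x) ≤ ∑ x : G, f x * f x := by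
    have h1 : ∀ x : G, f (x * x) =
        ∑ u : Ω, ∑ v : Ω, (if x • u = v ∧ x • v = u then (1 : ℤ) else 0) := by
      intro x
      rw [hf]
      refine Finset.sum_congr rfl fun u _ => ?_
      rw [Finset.sum_eq_single (x • u)]
      · simp [mul_smul]
      · intro v _ hv
        rw [if_neg]
        exact fun h => hv h.1.symm
      · simp
    have h2 : ∀ x : G, f x * f x =
        ∑ u : Ω, ∑ v : Ω, (if x • u = u ∧ x • v = v then (1 : ℤ) else 0) := by
      intro x
      rw [hf, Finset.sum_mul_sum]
      refine Finset.sum_congr rfl fun u _ => Finset.sum_congr rfl fun v _ => ?_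
      by_cases h : x • u = u <;> by_cases h' : x • v = v <;> simp [h, h']
    rw [Finset.sum_congr rfl fun x _ => h1 x, Finset.sum_congr rfl fun x _ => h2 x,
      Finset.sum_comm]
    conv_rhs => rw [Finset.sum_comm]
    refine Finset.sum_le_sum fun u _ => ?_
    rw [Finset.sum_comm]
    conv_rhs => rw [Finset.sum_comm]
    refine Finset.sum_le_sum fun v _ => ?_
    by_cases hex : ∃ k : G, k • u = v ∧ k • v = u
    · obtain ⟨k, hk1, hk2⟩ := hex
      refine le_of_eq ?_
      rw [← Equiv.sum_comp (Equiv.mulLeft k)]
      refine Finset.sum_congr rfl fun x _ => ?_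
      simp only [Equiv.coe_mulLeft, mul_smul]
      have e1 : k • x • u = v ↔ x • u = u := by
        conv_lhs => rw [← hk1]
        exact smul_left_cancel_iff k
      have e2 : k • x • v = u ↔ x • v = v := by
        conv_lhs => rw [← hk2]
        exact smul_left_cancel_iff k
      simp only [e1, e2]
    · push Not at hex
      refine le_trans (le_of_eq (Finset.sum_eq_zero fun x _ => if_neg fun h => hex x h.1 h.2)) ?_
      exact Finset.sum_nonneg fun x _ => by split <;> norm_num
  -- each term is non-negative, the total is at most zero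
  have hterm : ∀ x : G, 0 ≤ (f x - 1) * (n - f x) + n * (if f x = 0 then 1 else 0) := by
    intro x
    by_cases h : f x = 0
    · rw [if_pos h, h]; linarith
    · rw [if_neg h, mul_zero, add_zero]
      have := hf0 x
      exact mul_nonneg (by omega) (by linarith [hfn x])
  have hsqle : ∀ x : G, f x + n * (if f x = 0 then 1 else 0) ≤ f (x * x) := by
    intro x
    by_cases h : f x = 0
    · rw [if_pos h, h, zero_add, mul_one]
      have hd : ∀ w : Ω, x • w ≠ w := by
        intro w hw
        have : (Finset.univ.filter fun w : Ω => x • w = w).card = 0 := by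
          simpa [f] using h
        rw [Finset.card_eq_zero] at this
        have hmem : w ∈ (Finset.univ.filter fun w : Ω => x • w = w) := by simp [hw]
        rw [this] at hmem
        simp at hmem
      have hx2 : x * x = 1 := by rw [← pow_two, ← hinv x hd, pow_orderOf_eq_one]
      rw [hx2]
      simp [f, n]
    · rw [if_neg h, mul_zero, add_zero]
      simp only [f]
      exact_mod_cast Finset.card_le_card fun w hw => by
        simp only [Finset.mem_filter, Finset.mem_univ, true_and] at hw ⊢
        rw [mul_smul, hw, hw]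
  have htotal : ∑ x : G, ((f x - 1) * (n - f x) + n * (if f x = 0 then 1 else 0)) ≤ 0 := by
    have h3 := (Finset.sum_le_sum fun x (_ : x ∈ (Finset.univ : Finset G)) => hsqle x).trans hsq
    rw [Finset.sum_add_distrib, hsum] at h3
    have h4 : ∑ x : G, (f x - 1) * (n - f x) = (n + 1) * m - ∑ x : G, f x * f x - n * m := by
      have : ∀ x : G, (f x - 1) * (n - f x) = (n + 1) * f x - f x * f x - n := fun x => by ring
      rw [Finset.sum_congr rfl fun x _ => this x, Finset.sum_sub_distrib, Finset.sum_sub_distrib,
        ← Finset.mul_sum, hsum, Finset.sum_const, nsmul_eq_mul]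
      simp [m]; ring
    rw [Finset.sum_add_distrib, h4]
    linarith
  have hzero : (f g - 1) * (n - f g) + n * (if f g = 0 then 1 else 0) = 0 :=
    (Finset.sum_eq_zero_iff_of_nonneg fun x _ => hterm x).mp
      (le_antisymm htotal (Finset.sum_nonneg fun x _ => hterm x)) g (Finset.mem_univ g)
  by_contra hab
  have h2 : 2 ≤ f g := by
    have hs : ({a, b} : Finset Ω) ⊆ Finset.univ.filter fun w : Ω => g • w = w := by
      intro w hw
      simp only [Finset.mem_insert, Finset.mem_singleton] at hw
      rcases hw with rfl | rfl <;> simp [ha, hb]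
    have := Finset.card_le_card hs
    rw [Finset.card_pair hab] at this
    simp only [f]
    exact_mod_cast this
  rw [if_neg (by omega), mul_zero, add_zero] at hzero
  rcases mul_eq_zero.mp hzero with h | h
  · omega
  · have hall : (Finset.univ.filter fun w : Ω => g • w = w) = Finset.univ := by
      apply Finset.eq_univ_of_card
      have : (((Finset.univ.filter fun w : Ω => g • w = w).card : ℕ) : ℤ) = Fintype.card Ω := by
        simp only [f, n] at h
        linarith
      exact_mod_cast this
    apply hg
    refine FaithfulSMul.eq_of_smul_eq_smul (α := Ω) fun w => ?_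
    have : w ∈ Finset.univ.filter fun w : Ω => g • w = w := by rw [hall]; simp
    simpa using this

/-- Let G act faithfully and transitively on a finite set and suppose every element of G fixing no point is an involution. Then either G is an elementary abelian 2-group, or G is a Frobenius group whose Frobenius kernel is an elementary abelian 2-group: G has a Frobenius complement H, and the elements lying in no conjugate of H, together with the identity, pairwise commute and square to the identity. -/
theorem result {G Ω : Type*} [Group G] [Finite G] [MulAction G Ω] [FaithfulSMul G Ω] [Finite Ω]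
    (htrans : MulAction.IsPretransitive G Ω) (hinv : ∀ g : G, (∀ ω : Ω, g • ω ≠ ω) → orderOf g = 2) :
    (IsMulCommutative G ∧ ∀ g : G, g ^ 2 = 1) ∨
    (∃ H : Subgroup G, Cfsg.IsFrobeniusComplement H ∧
      (∀ x ∈ Cfsg.frobeniusKernel H, x ^ 2 = 1) ∧
      ∀ x ∈ Cfsg.frobeniusKernel H, ∀ y ∈ Cfsg.frobeniusKernel H, x * y = y * x) := by
  classical
  haveI := htrans
  by_cases hreg : ∀ g : G, g ≠ 1 → ∀ w : Ω, g • w ≠ w
  · left
    have h2 : ∀ g : G, g ^ 2 = 1 := by
      intro g
      by_cases hg : g = 1
      · simp [hg]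
      · rw [← hinv g (hreg g hg), pow_orderOf_eq_one]
    refine ⟨⟨⟨fun x y => ?_⟩⟩, h2⟩
    have hi : ∀ z : G, z⁻¹ = z := fun z => inv_eq_of_mul_eq_one_right (by rw [← pow_two, h2])
    rw [← hi (x * y), mul_inv_rev, hi, hi]
  right
  push Not at hreg
  obtain ⟨g0, hg0, ω, hω⟩ := hreg
  have hone : ∀ {g : G}, g ≠ 1 → ∀ {a b : Ω}, g • a = a → g • b = b → a = b :=
    fun hg _ _ ha hb => fixes_at_most_one htrans hinv hg ha hb
  obtain ⟨H, hH⟩ : ∃ H, H = MulAction.stabilizer G ω := ⟨_, rfl⟩
  have hconj : ∀ g x : G, x ∈ MulAut.conj g • H ↔ x • (g • ω) = g • ω := by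
    intro g x
    rw [Subgroup.mem_pointwise_smul_iff_inv_smul_mem, hH, MulAction.mem_stabilizer_iff]
    simp [MulAut.smul_def, mul_smul, inv_smul_eq_iff]
  have hker : ∀ x, x ∈ Cfsg.frobeniusKernel H ↔ x = 1 ∨ ∀ w : Ω, x • w ≠ w := by
    intro x
    show (x = 1 ∨ ∀ g : G, x ∉ MulAut.conj g • H) ↔ _
    refine or_congr_right ⟨fun h w hw => ?_, fun h g hg => h _ ((hconj g x).mp hg)⟩
    obtain ⟨g, rfl⟩ := MulAction.exists_smul_eq G ω w
    exact h g ((hconj g x).mpr hw)
  have hsq : ∀ x ∈ Cfsg.frobeniusKernel H, x ^ 2 = 1 := by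
    intro x hx
    rcases (hker x).mp hx with rfl | hx
    · simp
    · rw [← hinv x hx, pow_orderOf_eq_one]
  refine ⟨H, ⟨?_, ?_, ?_⟩, hsq, ?_⟩
  · intro h
    rw [hH] at h
    exact hg0 (Subgroup.mem_bot.mp (h ▸ (MulAction.mem_stabilizer_iff.mpr hω)))
  · intro h
    apply hg0
    refine FaithfulSMul.eq_of_smul_eq_smul (α := Ω) fun w => ?_
    have hfix : ∀ k : G, k • ω = ω := fun k =>
      MulAction.mem_stabilizer_iff.mp (hH ▸ h ▸ Subgroup.mem_top k : k ∈ MulAction.stabilizer G ω)
    obtain ⟨k, rfl⟩ := MulAction.exists_smul_eq G ω w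
    rw [hfix, hfix, one_smul]
  · intro g hg
    rw [Subgroup.eq_bot_iff_forall]
    rintro x ⟨hx1, hx2⟩
    by_contra hx
    apply hg
    rw [hH, MulAction.mem_stabilizer_iff]
    exact (hone hx ((MulAction.mem_stabilizer_iff).mp (hH ▸ hx1)) ((hconj g x).mp hx2)).symm
  · intro x hx y hy
    have hx2 := hsq x hx
    have hy2 := hsq y hy
    rw [pow_two] at hx2 hy2
    by_cases hx1 : x = 1
    · simp [hx1]
    have hxd : ∀ w : Ω, x • w ≠ w := ((hker x).mp hx).resolve_left hx1
    have hxy : (x * y) * (x * y) = 1 := by
      by_cases hd : ∀ w : Ω, (x * y) • w ≠ w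
      · rw [← pow_two, ← hinv _ hd, pow_orderOf_eq_one]
      · push Not at hd
        obtain ⟨w, hw⟩ := hd
        by_cases he : x * y = 1
        · rw [he, one_mul]
        exfalso
        have hyw : y • w = x • w := by
          have := congrArg (x • ·) hw
          simp only [← mul_smul, ← mul_assoc, hx2, one_mul] at this
          exact this
        have hw2 : (x * y) • (x • w) = x • w := by
          rw [mul_smul, ← hyw, ← mul_smul y y, hy2, one_smul, hyw]
        exact hxd w (hone he hw2 hw)
    have hxi : x⁻¹ = x := inv_eq_of_mul_eq_one_right hx2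
    have hyi : y⁻¹ = y := inv_eq_of_mul_eq_one_right hy2
    calc x * y = (x * y)⁻¹ := (inv_eq_of_mul_eq_one_right hxy).symm
      _ = y * x := by rw [mul_inv_rev, hxi, hyi]

end Cfsg.Agent.S3555
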