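import Cfsg.Statements.S3557
import Cfsg.Agent.Fusion.PGroup
-- import your own Cfsg.Agent.* helpers here

set_option autoImplicit false
set_option linter.style.haveILetI false
open Cfsg

namespace Cfsg.Agent.S3557

open MulAction in
/-- In a transitive group a central element with a fixed point is trivial. -/
private theorem central_fix {G Ω : Type*} [Group G] [MulAction G Ω] {z : G}
    (hz : ∀ x : G, z * x = x * z) {b ω : Ω} (hb : z • b = b) (hω : ω ∈ orbit G b) : z • ω = ω := by
  obtain ⟨x, rfl⟩ := hω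
  show z • x • b = x • b
  rw [← mul_smul, hz, mul_smul, hb]

open MulAction in
/-- The construction, given two orbits of length `p ^ 2`. -/
private theorem build {G Ω : Type*} [Group G] [Finite G] [MulAction G Ω] [FaithfulSMul G Ω]
    [Finite Ω] {p : ℕ} [hp : Fact p.Prime] (P : Subgroup G) (hP : IsPGroup p P)
    (hcl : ∀ σ : Equiv.Perm Ω, (∀ a b : Ω, ∃ g : G, σ a = g • a ∧ σ b = g • b) →
      ∃ g : G, ∀ a : Ω, σ a = g • a)
    {z : P} (hz : ∀ x : P, z * x = x * z) (hzp : z ^ p = 1) (a b : Ω)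
    (hun : ∀ ω, ω ∈ orbit P a ∨ ω ∈ orbit P b)
    (ha : Nat.card (orbit P a) = p ^ 2) (hb : Nat.card (orbit P b) = p ^ 2)
    (hzb : z • b = b) (hza : z • a ≠ a) :
    ∃ g : G, (orderOf g).Prime ∧ ∀ ω : Ω, g • ω ≠ ω := by
  classical
  set B := orbit P b with hB
  set φ : P →* Equiv.Perm B := MulAction.toPermHom P B with hφ
  have hker : ∀ x : P, x ∈ φ.ker ↔ ∀ ω ∈ B, x • ω = ω := fun x => by
    rw [MonoidHom.mem_ker]
    refine ⟨fun h ω hω => congrArg Subtype.val (DFunLike.congr_fun h (⟨ω, hω⟩ : B)), fun h => ?_⟩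
    exact Equiv.ext fun ω => Subtype.ext (h _ ω.2)
  have hzN : z ∈ φ.ker := (hker z).2 fun ω hω => central_fix hz hzb hω
  set S := stabilizer P a
  set H := S ⊔ φ.ker
  have hS : S.index = p ^ 2 := by rw [index_stabilizer, ← ha, Nat.card_coe_set_eq]
  have hlt : S < H := lt_of_le_of_ne le_sup_left fun h => hza (h.ge (le_sup_right (a := S) hzN))
  have hHidx : H.index = 1 ∨ H.index = p := by
    have hdvd : H.index ∣ p ^ 2 := hS ▸ Subgroup.index_dvd_of_le hlt.le
    obtain ⟨k, hk, hk'⟩ := (Nat.dvd_prime_pow hp.out).1 hdvd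
    have hne : H.index ≠ S.index := fun h => absurd (Subgroup.index_strictAnti hlt) (by rw [h]; exact lt_irrefl _)
    interval_cases k
    · simp [hk']
    · exact Or.inr (by simpa using hk')
    · exact absurd (hk'.trans hS.symm) hne
  haveI hHn : H.Normal := by
    rcases hHidx with h | h
    · rw [Subgroup.index_eq_one.1 h]; infer_instance
    · refine Subgroup.normal_of_index_eq_minFac_card ?_
      obtain ⟨n, hn⟩ := IsPGroup.iff_card.1 hP
      have hdiv : p ∣ Nat.card P := h ▸ H.index_dvd_card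
      have hn0 : n ≠ 0 := fun h0 => by rw [hn, h0, pow_zero, Nat.dvd_one] at hdiv; exact hp.out.ne_one hdiv
      rw [h, hn, Nat.pow_minFac hn0, Nat.Prime.minFac_eq hp.out]
  have hHker : ¬ H ≤ φ.ker := fun hle => by
    have h1 : φ.ker ≤ stabilizer P b := fun x hx => (hker x).1 hx b (mem_orbit_self b)
    have h2 := Subgroup.index_dvd_of_le (hle.trans h1)
    rw [index_stabilizer, ← hB, ← Nat.card_coe_set_eq, hb] at h2
    rcases hHidx with h | h <;> rw [h] at h2
    · exact absurd (Nat.le_of_dvd one_pos h2) (by nlinarith [hp.out.two_le])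
    · exact absurd (Nat.le_of_dvd hp.out.pos h2) (by nlinarith [hp.out.two_le])
  let φ' := φ.rangeRestrict
  haveI := hHn.map φ' φ.rangeRestrict_surjective
  have hrange : IsPGroup p φ.range := hP.of_surjective φ' φ.rangeRestrict_surjective
  have hmap : H.map φ' ≠ ⊥ := fun h => hHker (by
    rw [Subgroup.map_eq_bot_iff, MonoidHom.ker_rangeRestrict] at h
    exact h)
  obtain ⟨⟨c, hc⟩, hc1⟩ := exists_prime_orderOf_dvd_card' (G := ↥(H.map φ' ⊓ Subgroup.center φ.range)) p (by
    haveI : Nontrivial ↥(H.map φ' ⊓ Subgroup.center φ.range) := (Subgroup.nontrivial_iff_ne_bot _).2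
      (Fusion.pGroup_inf_center_ne_bot hrange _ hmap)
    obtain ⟨n, hn0, hn⟩ := (hrange.to_subgroup (H.map φ' ⊓ Subgroup.center φ.range)).nontrivial_iff_card.1 ‹_›
    exact hn ▸ dvd_pow_self p hn0.ne')
  obtain ⟨y, hyH, rfl⟩ := hc.1
  rw [Subgroup.orderOf_mk] at hc1
  have hyc : ∀ x : P, φ' y * φ' x = φ' x * φ' y := fun x => (Subgroup.mem_center_iff.1 hc.2 (φ' x)).symm
  have hy1 : φ y ≠ 1 := fun h => by
    have : φ' y = 1 := Subtype.ext h
    rw [this, orderOf_one] at hc1
    exact hp.out.ne_one hc1.symm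
  have hyfix : ∀ ω ∈ B, y • ω ≠ ω := by
    rintro _ ⟨x₀, rfl⟩ h
    refine hy1 (Equiv.ext fun ω => ?_)
    obtain ⟨_, x, rfl⟩ := ω
    have e : φ y * φ (x * x₀⁻¹) = φ (x * x₀⁻¹) * φ y := congrArg Subtype.val (hyc _)
    have h2 := congrArg Subtype.val (DFunLike.congr_fun e (⟨x₀ • b, mem_orbit b x₀⟩ : B))
    change y • (x * x₀⁻¹) • x₀ • b = (x * x₀⁻¹) • y • x₀ • b at h2
    simp only [] at h
    rw [h, smul_smul (x * x₀⁻¹), inv_mul_cancel_right] at h2
    exact Subtype.ext h2
  have hyp : ∀ ω ∈ B, (y ^ p) • ω = ω := by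
    refine (hker _).1 ?_
    rw [MonoidHom.mem_ker, map_pow]
    exact congrArg Subtype.val (show φ' y ^ p = 1 by rw [← hc1]; exact pow_orderOf_eq_one _)
  -- the piecewise permutation
  have hBinv : ∀ (x : P) ω, ω ∈ B ↔ x • ω ∈ B := fun x ω => by
    rw [hB, ← orbit_eq_iff, ← orbit_eq_iff, orbit_smul]
  let σ : Equiv.Perm Ω :=
    { toFun := fun ω => if ω ∈ B then y • ω else ω
      invFun := fun ω => if ω ∈ B then y⁻¹ • ω else ω
      left_inv := fun ω => by
        by_cases h : ω ∈ B
        · simp [h, (hBinv y ω).1 h]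
        · simp [h]
      right_inv := fun ω => by
        by_cases h : ω ∈ B
        · simp [h, (hBinv y⁻¹ ω).1 h]
        · simp [h] }
  have hσ : ∀ ω, σ ω = if ω ∈ B then y • ω else ω := fun ω => rfl
  have key : ∀ a', a' ∉ B → ∀ b' ∈ B, ∃ g : G, g • a' = a' ∧ g • b' = y • b' := by
    intro a' ha' b' hb'
    obtain ⟨x, rfl⟩ := (hun a').resolve_right ha'
    obtain ⟨q, hq, n, hn, hqn⟩ := Subgroup.mem_sup_of_normal_right.1 (hHn.conj_mem y hyH x⁻¹)
    refine ⟨((x * q * x⁻¹ : P) : G), ?_, ?_⟩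
    · show (x * q * x⁻¹) • x • a = x • a
      rw [mul_smul, mul_smul, inv_smul_smul, mem_stabilizer_iff.1 hq]
    · show (x * q * x⁻¹) • b' = y • b'
      have h1 : y = x * (q * n) * x⁻¹ := by rw [hqn]; group
      conv_rhs => rw [h1, mul_smul, mul_smul, mul_smul,
        (hker n).1 hn _ ((hBinv x⁻¹ b').1 hb'), ← mul_smul, ← mul_smul]
  obtain ⟨g₀, hg₀⟩ := hcl σ fun u v => by
    by_cases hu : u ∈ B <;> by_cases hv : v ∈ B
    · exact ⟨y, by simp [hσ, hu, Subgroup.smul_def], by simp [hσ, hv, Subgroup.smul_def]⟩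
    · obtain ⟨g, h1, h2⟩ := key v hv u hu
      exact ⟨g, by simp [hσ, hu, h2], by simp [hσ, hv, h1]⟩
    · obtain ⟨g, h1, h2⟩ := key u hu v hv
      exact ⟨g, by simp [hσ, hu, h1], by simp [hσ, hv, h2]⟩
    · exact ⟨1, by simp [hσ, hu], by simp [hσ, hv]⟩
  have hzA : ∀ ω, ω ∉ B → z • ω ≠ ω := fun ω hω h =>
    hza (central_fix hz h (mem_orbit_symm.1 ((hun ω).resolve_right hω)))
  have hzB : ∀ ω ∈ B, z • ω = ω := fun ω hω => (hker z).1 hzN ω hω
  have hw : ∀ (n : ℕ) ω, ((z : G) * g₀) ^ n • ω = if ω ∈ B then (y ^ n) • ω else (z ^ n) • ω := by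
    intro n
    induction n with
    | zero => intro ω; split_ifs <;> simp
    | succ n ih =>
      intro ω
      rw [pow_succ, mul_smul, mul_smul, ← hg₀, hσ]
      split_ifs with h
      · rw [show (z : G) • y • ω = z • y • ω from rfl, hzB _ ((hBinv y ω).1 h), ih,
          if_pos ((hBinv y ω).1 h), pow_succ, mul_smul]
      · rw [show (z : G) • ω = z • ω from rfl, ih, if_neg fun h' => h ((hBinv z ω).2 h'), pow_succ, mul_smul]
  have hwne : ∀ ω, ((z : G) * g₀) • ω ≠ ω := fun ω => by
    have h1 := hw 1 ω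
    rw [pow_one, pow_one, pow_one] at h1
    rw [h1]
    split_ifs with h
    · exact hyfix ω h
    · exact hzA ω h
  refine ⟨(z : G) * g₀, ?_, hwne⟩
  rw [orderOf_eq_prime (p := p) (FaithfulSMul.eq_of_smul_eq_smul (α := Ω) fun ω => ?_)
    fun h => hwne b (by rw [h, one_smul])]
  · exact hp.out
  · rw [hw, one_smul, hzp]
    split_ifs with h
    · exact hyp ω h
    · exact one_smul _ ω

/-- Let G act faithfully and transitively on a finite set with 2p² points, p a prime, and suppose G is 2-closed: every permutation of the set which, on each ordered pair of points, agrees with some element of G, is itself induced by an element of G. Then some element of G of prime order fixes no point. -/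
theorem result {G Ω : Type*} [Group G] [Finite G] [MulAction G Ω] [FaithfulSMul G Ω] [Finite Ω]
    (htrans : MulAction.IsPretransitive G Ω) (p : ℕ) (hp : p.Prime) (hcard : Nat.card Ω = 2 * p ^ 2)
    (hcl : ∀ σ : Equiv.Perm Ω, (∀ a b : Ω, ∃ g : G, σ a = g • a ∧ σ b = g • b) → ∃ g : G, ∀ a : Ω, σ a = g • a) :
    ∃ g : G, (orderOf g).Prime ∧ ∀ ω : Ω, g • ω ≠ ω := by
  classical
  haveI := Fact.mk hp
  haveI := htrans
  obtain ⟨P⟩ : Nonempty (Sylow p G) := inferInstance
  have h2p : p ∣ 2 * p ^ 2 := Dvd.dvd.mul_left (dvd_pow_self p two_ne_zero) 2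
  haveI : Nonempty Ω := (Nat.card_pos_iff.1 (by rw [hcard]; have := hp.pos; positivity)).1
  -- orbit lengths
  have horb : ∀ ω : Ω, p ^ 2 ∣ Nat.card (MulAction.orbit P ω) ∧
      ∃ k, Nat.card (MulAction.orbit P ω) = p ^ k := by
    intro ω
    obtain ⟨k, hk⟩ := P.2.card_orbit ω
    refine ⟨?_, k, hk⟩
    have h1 : Nat.card G = 2 * p ^ 2 * Nat.card (MulAction.stabilizer G ω) := by
      rw [← hcard, ← MulAction.index_stabilizer_of_transitive G ω]
      exact (Subgroup.index_mul_card _).symm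
    have h2 : Nat.card (MulAction.stabilizer P ω) ∣ Nat.card (MulAction.stabilizer G ω) := by
      have e : (MulAction.stabilizer P ω).map (P : Subgroup G).subtype ≤ MulAction.stabilizer G ω := by
        rintro _ ⟨x, hx, rfl⟩
        exact hx
      have := Subgroup.card_dvd_of_le e
      rwa [Nat.card_congr ((MulAction.stabilizer P ω).equivMapOfInjective _
        (P : Subgroup G).subtype_injective).toEquiv]
    have h3 : Nat.card P = Nat.card (MulAction.orbit P ω) * Nat.card (MulAction.stabilizer P ω) := by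
      rw [← Subgroup.index_mul_card (MulAction.stabilizer P ω), MulAction.index_stabilizer,
        Nat.card_coe_set_eq]
    obtain ⟨j, -, hj⟩ := (Nat.dvd_prime_pow hp).1
      (show Nat.card (MulAction.stabilizer P ω) ∣ p ^ (Nat.card G).factorization p by
        rw [← P.card_eq_multiplicity, h3]; exact dvd_mul_left _ _)
    have h4 : p ^ (2 + j) ∣ Nat.card G := by
      rw [h1, pow_add, ← hj]
      exact mul_dvd_mul (Dvd.intro_left 2 rfl) h2
    have h5 : p ^ (2 + j) ∣ p ^ (k + j) := by
      rw [pow_add p k j, ← hk, ← hj, ← h3, P.card_eq_multiplicity]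
      exact pow_dvd_pow p ((hp.pow_dvd_iff_le_factorization Nat.card_pos.ne').1 h4)
    rw [hk]
    exact pow_dvd_pow p (by have := (Nat.pow_dvd_pow_iff_le_right hp.one_lt).1 h5; omega)
  -- a central element of order p
  have hP2 : p ∣ Nat.card P :=
    (((dvd_pow_self p two_ne_zero).trans (horb (Classical.arbitrary Ω)).1).trans
      (by rw [← Subgroup.index_mul_card (MulAction.stabilizer P (Classical.arbitrary Ω)),
            MulAction.index_stabilizer, Nat.card_coe_set_eq]; exact dvd_mul_right _ _))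
  haveI : Nontrivial P := Finite.one_lt_card_iff_nontrivial.1
    (lt_of_lt_of_le hp.one_lt (Nat.le_of_dvd Nat.card_pos hP2))
  haveI := P.2.center_nontrivial
  obtain ⟨⟨z, hzc⟩, hzo⟩ := exists_prime_orderOf_dvd_card' (G := Subgroup.center P) p (by
    obtain ⟨n, hn0, hn⟩ := (P.2.to_subgroup _).nontrivial_iff_card.1 ‹Nontrivial (Subgroup.center P)›
    exact hn ▸ dvd_pow_self p hn0.ne')
  rw [Subgroup.orderOf_mk] at hzo
  have hz : ∀ x : P, z * x = x * z := fun x => (Subgroup.mem_center_iff.1 hzc x).symm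
  have hzp : z ^ p = 1 := by have := pow_orderOf_eq_one z; rwa [hzo] at this
  have hz1 : z ≠ 1 := fun h => by rw [h, orderOf_one] at hzo; exact hp.ne_one hzo.symm
  by_cases hfix : ∃ b : Ω, z • b = b
  · obtain ⟨b, hb⟩ := hfix
    obtain ⟨a, ha⟩ : ∃ a : Ω, z • a ≠ a := by
      by_contra h
      push Not at h
      exact hz1 (Subtype.ext (FaithfulSMul.eq_of_smul_eq_smul (α := Ω) fun ω => by
        rw [OneMemClass.coe_one, one_smul]; exact h ω))
    have hab : a ∉ MulAction.orbit P b := fun h => ha (central_fix hz hb h)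
    have hdisj : Disjoint (MulAction.orbit P a) (MulAction.orbit P b) :=
      Set.disjoint_left.2 fun x hx hx' => hab (by
        rw [← MulAction.orbit_eq_iff.2 hx']; exact MulAction.mem_orbit_symm.1 hx)
    have hle := Set.ncard_le_ncard (Set.subset_univ (MulAction.orbit P a ∪ MulAction.orbit P b))
    rw [Set.ncard_union_eq hdisj, Set.ncard_univ, hcard, ← Nat.card_coe_set_eq,
      ← Nat.card_coe_set_eq] at hle
    haveI := (MulAction.nonempty_orbit (M := P) a).to_subtype
    haveI := (MulAction.nonempty_orbit (M := P) b).to_subtype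
    have ha2 := Nat.le_of_dvd Nat.card_pos (horb a).1
    have hb2 := Nat.le_of_dvd Nat.card_pos (horb b).1
    refine build (P : Subgroup G) P.2 hcl hz hzp a b (fun ω => ?_) (by omega) (by omega) hb ha
    have htop : MulAction.orbit P a ∪ MulAction.orbit P b = Set.univ :=
      Set.eq_of_subset_of_ncard_le (Set.subset_univ _) (by
        rw [Set.ncard_union_eq hdisj, Set.ncard_univ, hcard, ← Nat.card_coe_set_eq,
          ← Nat.card_coe_set_eq]
        omega)
    exact htop.ge (Set.mem_univ ω)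
  · push Not at hfix
    exact ⟨z, by rw [Subgroup.orderOf_coe, hzo]; exact hp, hfix⟩

end Cfsg.Agent.S3557
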