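import Mathlib
import Cfsg.Statements.S3560

set_option autoImplicit false
open Cfsg

namespace Cfsg.Agent.S3560
open Equiv
open scoped Pointwise

namespace Product

variable (ι : Type*) [Fintype ι] [DecidableEq ι] (A : Type*) [DecidableEq A]

/-- The permutations of `ι → A` preserving the relation "differ in exactly one coordinate". -/
def hamming : Subgroup (Perm (ι → A)) where
  carrier := {g | ∀ a b : ι → A, (∃! i, a i ≠ b i) ↔ (∃! i, g a i ≠ g b i)}
  mul_mem' := by
    intro g h hg hh a b
    exact (hh a b).trans (hg (h a) (h b))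
  one_mem' := fun a b => Iff.rfl
  inv_mem' := by
    intro g hg a b
    have := hg (g⁻¹ a) (g⁻¹ b)
    simp only [Perm.coe_inv, Equiv.apply_symm_apply] at this
    exact this.symm

variable {ι A}

theorem compPerm_mem (π : ι → Perm A) : Equiv.piCongrRight π ∈ hamming ι A := by
  intro a b
  simp [Equiv.piCongrRight]

theorem coordPerm_mem (σ : Perm ι) : Equiv.piCongrLeft' (fun _ => A) σ ∈ hamming ι A := by
  intro a b
  constructor
  · rintro ⟨i, hi, hu⟩
    refine ⟨σ i, by simpa using hi, fun j hj => ?_⟩
    rw [← hu (σ.symm j) (by simpa using hj), apply_symm_apply]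
  · rintro ⟨i, hi, hu⟩
    refine ⟨σ.symm i, by simpa using hi, fun j hj => ?_⟩
    rw [← hu (σ j) (by simpa using hj), symm_apply_apply]

/-- Componentwise permutations. -/
def comp (π : ι → Perm A) : ↥(hamming ι A) := ⟨_, compPerm_mem π⟩

theorem comp_apply (π : ι → Perm A) (a : ι → A) (i : ι) : (comp π).1 a i = π i (a i) := rfl

theorem transitive : MulAction.IsPretransitive ↥(hamming ι A) (ι → A) :=
  ⟨fun a b => ⟨comp fun i => swap (a i) (b i), funext fun i => swap_apply_left (a i) (b i)⟩⟩

theorem fullSetB (hA : ∀ x y : A, ∃ z, z ≠ x ∧ z ≠ y) (B : Set (ι → A))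
    (hB : ∀ g : ↥(hamming ι A), ∀ a ∈ B, g.1 a ∈ B → ∀ x ∈ B, g.1 x ∈ B) {a b : ι → A} (ha : a ∈ B)
    (hb : b ∈ B) (hab : a ≠ b) : B = Set.univ := by
  classical
  obtain ⟨i, hi⟩ := Function.ne_iff.1 hab
  -- one coordinate move from `a`
  obtain ⟨c, hca, hcb⟩ := hA (a i) (b i)
  let π : ι → Perm A := Function.update (fun _ => 1) i (swap (a i) c)
  have hπb : (comp π).1 b = b := by
    funext j
    rw [comp_apply]
    by_cases hj : j = i
    · subst hj; simp only [π, Function.update_self]; exact swap_apply_of_ne_of_ne (Ne.symm hi) hcb.symm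
    · simp [π, hj]
  have hac : Function.update a i c ∈ B := by
    have h1 := hB (comp π) b hb (by rw [hπb]; exact hb) a ha
    have : (comp π).1 a = Function.update a i c := by
      funext j
      rw [comp_apply]
      by_cases hj : j = i
      · subst hj; simp [π]
      · simp [π, hj]
    rwa [this] at h1
  -- all moves in coordinate `i` from `a`
  have hall : ∀ x : A, Function.update a i x ∈ B := by
    intro x
    by_cases hx : x = a i
    · subst hx; rwa [Function.update_eq_self]
    let ρ : ι → Perm A := Function.update (fun _ => 1) i (swap c x)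
    have e0 : (comp ρ).1 a = a := by
      funext j
      rw [comp_apply]
      by_cases hj : j = i
      · subst hj; simp only [ρ, Function.update_self]; exact swap_apply_of_ne_of_ne hca.symm (Ne.symm hx)
      · simp [ρ, hj]
    have h1 := hB (comp ρ) a ha (by rw [e0]; exact ha) _ hac
    have : (comp ρ).1 (Function.update a i c) = Function.update a i x := by
      funext j
      rw [comp_apply]
      by_cases hj : j = i
      · subst hj; simp [ρ]
      · simp [ρ, hj]
    rwa [this] at h1
  -- all moves in every coordinate from every element of `B`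
  have hcoord : ∀ j : ι, ∀ x : A, Function.update a j x ∈ B := by
    intro j x
    let σ : Perm ι := swap i j
    let g₁ : ↥(hamming ι A) := ⟨_, coordPerm_mem (A := A) σ⟩
    let g : ↥(hamming ι A) := comp (fun k => swap (a (σ.symm k)) (a k)) * g₁
    have hg : ∀ y : ι → A, ∀ k, g.1 y k = swap (a (σ.symm k)) (a k) (y (σ.symm k)) := fun y k => rfl
    have e0 : g.1 a = a := funext fun k => by rw [hg, swap_apply_left]
    have key := hB g a ha (by rw [e0]; exact ha)
    have h1 := key _ (hall (swap (a i) (a j) x))
    have : g.1 (Function.update a i (swap (a i) (a j) x)) = Function.update a j x := by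
      funext k
      rw [hg]
      by_cases hk : k = j
      · subst hk; simp [σ]
      · have : σ.symm k ≠ i := fun e => hk (by
          have := congrArg σ e; simpa [σ] using this)
        rw [Function.update_of_ne this, Function.update_of_ne hk, swap_apply_left]
    rwa [this] at h1
  have hstep : ∀ u ∈ B, ∀ j : ι, ∀ x : A, Function.update u j x ∈ B := by
    intro u hu j x
    let g := comp (fun k => swap (a k) (u k))
    have e0 : g.1 a = u := funext fun k => swap_apply_left (a k) (u k)
    have h1 := hB g a ha (by rw [e0]; exact hu) _ (hcoord j (swap (a j) (u j) x))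
    have : g.1 (Function.update a j (swap (a j) (u j) x)) = Function.update u j x := by
      funext k
      show swap (a k) (u k) _ = _
      by_cases hk : k = j
      · subst hk; simp
      · simp [hk]
    rwa [this] at h1
  refine Set.eq_univ_of_forall fun y => ?_
  have : ∀ s : Finset ι, (fun k => if k ∈ s then y k else a k) ∈ B := by
    intro s
    induction s using Finset.induction with
    | empty => simpa using ha
    | insert j s hj ih =>
      have := hstep _ ih j (y j)
      convert this using 1
      funext k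
      by_cases hk : k = j
      · subst hk; simp
      · simp [hk]
  simpa using this Finset.univ

theorem primitive [Nonempty ι] (hA : ∀ x y : A, ∃ z, z ≠ x ∧ z ≠ y) :
    MulAction.IsPreprimitive ↥(hamming ι A) (ι → A) := by
  haveI := transitive (ι := ι) (A := A)
  refine ⟨fun {B} hBb => ?_⟩
  rcases B.subsingleton_or_nontrivial with hs | ⟨a, ha, b, hb, hab⟩
  · exact Or.inl hs
  refine Or.inr (fullSetB hA B (fun g u hu hgu x hx => ?_) ha hb hab)
  have hmem : g • B = B := by
    by_contra hne
    exact (Set.disjoint_left.1 (hBb.disjoint_smul_of_ne hne)) ⟨u, hu, rfl⟩ hgu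
  rw [← hmem]
  exact ⟨x, hx, rfl⟩

theorem not_two_transitive {i j : ι} (hij : i ≠ j) (hA : ∀ x y : A, ∃ z, z ≠ x ∧ z ≠ y) (x₀ : A) :
    ¬ MulAction.IsMultiplyPretransitive ↥(hamming ι A) (ι → A) 2 := by
  classical
  intro h
  rw [MulAction.is_two_pretransitive_iff] at h
  obtain ⟨y, hy, -⟩ := hA x₀ x₀
  let a : ι → A := fun _ => x₀
  let b : ι → A := Function.update a i y
  let c : ι → A := Function.update b j y
  have hab : a ≠ b := fun e => hy (by have := congrFun e i; simpa [a, b] using this.symm)
  have hac : a ≠ c := fun e => hy (by have := congrFun e i; simpa [a, b, c, hij] using this.symm)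
  obtain ⟨g, hga, hgb⟩ := h hab hac
  have h1 : ∃! k, a k ≠ b k := ⟨i, by simp [a, b, Ne.symm hy], fun k hk => by
    by_contra hki; exact hk (by simp [b, hki])⟩
  have h2 := (g.2 a b).1 h1
  change g.1 a = a at hga
  change g.1 b = c at hgb
  rw [hga, hgb] at h2
  obtain ⟨k, -, hk⟩ := h2
  exact hij ((hk i (by simp [a, b, c, hij, Ne.symm hy])).trans (hk j (by simp [a, c, Ne.symm hy])).symm)

end Product


/-- Let K be a finite group isomorphic to a direct product of r ≥ 2 groups all of the same order m ≥ 3. Then K is not a B-group: there is a primitive but not doubly transitive permutation group (on some finite set) containing a regular subgroup isomorphic to K. -/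
theorem result {K : Type*} [Group K] [Finite K] {ι : Type*} [Fintype ι] (F : ι → Type*) [∀ i, Group (F i)]
    (hr : 2 ≤ Fintype.card ι) (m : ℕ) (hm : 3 ≤ m) (hcard : ∀ i, Nat.card (F i) = m) (e : K ≃* (∀ i, F i)) :
    ∃ (n : ℕ) (G R : Subgroup (Equiv.Perm (Fin n))), R ≤ G ∧ Nonempty (↥R ≃* K) ∧
      MulAction.IsPretransitive ↥R (Fin n) ∧ (∀ a : Fin n, MulAction.stabilizer ↥R a = ⊥) ∧
      MulAction.IsPreprimitive ↥G (Fin n) ∧ ¬ MulAction.IsMultiplyPretransitive ↥G (Fin n) 2 := by
  classical
  have hK : ∀ i, Nonempty (F i ≃ Fin m) := fun i => by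
    haveI : Finite (F i) := Nat.finite_of_card_ne_zero (by rw [hcard i]; omega)
    exact ⟨Finite.equivFinOfCardEq (hcard i)⟩
  let φ := fun i => Classical.choice (hK i)
  obtain ⟨θ⟩ : Nonempty ((ι → Fin m) ≃ Fin (Fintype.card (ι → Fin m))) := ⟨Fintype.equivFin _⟩
  set n := Fintype.card (ι → Fin m)
  -- the regular subgroup
  let reg : (∀ i, F i) →* Equiv.Perm (ι → Fin m) :=
    MonoidHom.mk' (fun f => Equiv.piCongrRight fun i => ((φ i).symm.trans (Equiv.mulLeft (f i))).trans (φ i))
      (fun f g => by
        apply Equiv.ext; intro a; funext i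
        simp [Equiv.piCongrRight, mul_assoc])
  let T : Equiv.Perm (ι → Fin m) →* Equiv.Perm (Fin n) := θ.permCongrHom.toMonoidHom
  have hT : ∀ g x, T g x = θ (g (θ.symm x)) := fun g x => rfl
  have hTinj : Function.Injective T := θ.permCongrHom.injective
  have hinj : Function.Injective reg := by
    intro f g h
    funext i
    have := congrFun (Equiv.congr_fun h (fun j => φ j 1)) i
    simpa [reg, Equiv.piCongrRight] using this
  let ρ : K →* Equiv.Perm (Fin n) := (T.comp reg).comp e.toMonoidHom
  have hρ : Function.Injective ρ := (hTinj.comp hinj).comp e.injective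
  haveI : Nonempty ι := Fintype.card_pos_iff.1 (by omega)
  obtain ⟨i, j, hij⟩ := Fintype.exists_pair_of_one_lt_card (α := ι) (by omega)
  have hA : ∀ x y : Fin m, ∃ z, z ≠ x ∧ z ≠ y := by
    intro x y
    have h2 : ({x, y} : Finset (Fin m)).card < (Finset.univ : Finset (Fin m)).card := by
      rw [Finset.card_univ, Fintype.card_fin]
      exact lt_of_le_of_lt Finset.card_le_two (by omega)
    obtain ⟨z, -, hz⟩ := Finset.exists_mem_notMem_of_card_lt_card h2
    simp at hz
    exact ⟨z, hz.1, hz.2⟩
  let G : Subgroup (Equiv.Perm (Fin n)) := (Product.hamming ι (Fin m)).map T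
  let eG : ↥(Product.hamming ι (Fin m)) ≃* ↥G := Subgroup.equivMapOfInjective _ T hTinj
  haveI hprim := Product.primitive (ι := ι) (A := Fin m) hA
  let f : (ι → Fin m) →ₑ[⇑eG] Fin n :=
    { toFun := θ
      map_smul' := fun g a => by
        show θ (g.1 a) = (eG g).1 (θ a)
        rw [Subgroup.coe_equivMapOfInjective_apply, hT, θ.symm_apply_apply] }
  refine ⟨n, G, ρ.range, ?_, ⟨(MonoidHom.ofInjective hρ).symm⟩, ⟨fun x y => ?_⟩, fun a => ?_, ?_, fun h => ?_⟩
  · rintro _ ⟨k, rfl⟩
    exact ⟨reg (e k), Product.compPerm_mem _, rfl⟩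
  · obtain ⟨k, hk⟩ : ∃ f : ∀ i, F i, reg f (θ.symm x) = θ.symm y :=
      ⟨fun i => (φ i).symm (θ.symm y i) * ((φ i).symm (θ.symm x i))⁻¹, by
        funext i; simp [reg, Equiv.piCongrRight]⟩
    refine ⟨⟨ρ (e.symm k), _, rfl⟩, ?_⟩
    show T (reg (e (e.symm k))) x = y
    rw [hT, e.apply_symm_apply, hk, θ.apply_symm_apply]
  · rw [eq_bot_iff]
    rintro ⟨_, k, rfl⟩ hk
    rw [MulAction.mem_stabilizer_iff] at hk
    change T (reg (e k)) a = a at hk
    rw [hT] at hk
    have h1 : reg (e k) (θ.symm a) = θ.symm a := by rw [← θ.apply_eq_iff_eq, hk, θ.apply_symm_apply]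
    have h2 : e k = 1 := funext fun i => by
      have := congrFun h1 i
      simpa [reg, Equiv.piCongrRight, Equiv.apply_eq_iff_eq_symm_apply] using this
    rw [Subgroup.mem_bot]
    apply Subtype.ext
    show ρ k = 1
    rw [show k = 1 from e.injective (h2.trans (map_one e).symm), map_one]
  · exact MulAction.IsPreprimitive.of_surjective (f := f) θ.surjective
  · haveI := h
    refine Product.not_two_transitive (A := Fin m) hij hA ⟨0, by omega⟩ ?_
    rw [MulAction.is_two_pretransitive_iff] at h ⊢
    intro a b c d hab hcd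
    obtain ⟨⟨_, g, hg, rfl⟩, h1, h2⟩ := h (θ.injective.ne hab) (θ.injective.ne hcd)
    change T g (θ a) = θ c at h1
    change T g (θ b) = θ d at h2
    rw [hT, θ.symm_apply_apply] at h1 h2
    exact ⟨⟨g, hg⟩, θ.injective h1, θ.injective h2⟩

end Cfsg.Agent.S3560
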