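import Cfsg.Statements.S3571
import Cfsg.Agent.AltDerange.Basic
import Cfsg.Agent.AltDerange.Six
import Cfsg.Agent.S2119
-- import your own Cfsg.Agent.* helpers here

set_option autoImplicit false
open Cfsg

namespace Cfsg.Agent.S3571

/-- Let G be an almost simple group whose socle is an alternating group of degree m ≥ 5 (G has a normal subgroup T isomorphic to that alternating group with trivial centralizer), acting faithfully and primitively on a finite set Ω with at least two points, and let r be the largest prime divisor of the number of points. Then G contains an element of order r fixing no point. -/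
theorem result {G Ω : Type*} [Group G] [Finite G] [MulAction G Ω] [FaithfulSMul G Ω] [Finite Ω]
    (T : Subgroup G) (hT : T.Normal) (hTc : Subgroup.centralizer (T : Set G) = ⊥) (m : ℕ) (hm : 5 ≤ m)
    (eT : ↥T ≃* ↥(alternatingGroup (Fin m))) (hprim : MulAction.IsPreprimitive G Ω) (hΩ : 2 ≤ Nat.card Ω)
    (r : ℕ) (hr : r.Prime) (hrd : r ∣ Nat.card Ω) (hmax : ∀ s : ℕ, s.Prime → s ∣ Nat.card Ω → s ≤ r) :
    ∃ g : G, orderOf g = r ∧ ∀ ω : Ω, g • ω ≠ ω := by
  classical
  have hm3 : 3 ≤ Fintype.card (Fin m) := by simp; omega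
  have hnt : Nontrivial (Fin m) := Fin.nontrivial_iff_two_le.2 (by omega)
  obtain ⟨t0, ht0⟩ : ∃ t : T, t ≠ 1 := by
    obtain ⟨σ, hσ⟩ := Cfsg.Agent.AltDerange.exists_replicate (α := Fin m) (r := 3) (q := 1)
      (by norm_num) (by simp; omega)
    have hσA := Cfsg.Agent.AltDerange.mem_alt_replicate (Or.inl rfl) hσ
    refine ⟨eT.symm ⟨σ, hσA⟩, fun h => ?_⟩
    rw [← map_one eT.symm, eT.symm.injective.eq_iff] at h
    have h' : σ = 1 := congrArg Subtype.val h
    rw [h', Equiv.Perm.cycleType_one] at hσ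
    simp at hσ
  have hfp : MulAction.fixedPoints T Ω ≠ Set.univ := fun h => ht0 (Subtype.ext
    (FaithfulSMul.eq_of_smul_eq_smul fun ω : Ω => by
      have : ω ∈ MulAction.fixedPoints T Ω := h ▸ Set.mem_univ ω
      show (t0 : G) • ω = (1 : G) • ω
      rw [one_smul]
      exact this t0))
  have htrans : MulAction.IsPretransitive T Ω :=
    MulAction.IsQuasiPreprimitive.isPretransitive_of_normal hfp
  have hΩne : Nonempty Ω := (Nat.card_pos_iff.1 (by omega)).1
  have hΩnt : Nontrivial Ω := Finite.one_lt_card_iff_nontrivial.1 hΩ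
  obtain ⟨ω₀⟩ := hΩne
  set H := MulAction.stabilizer G ω₀ with hH
  have hco : IsCoatom H := MulAction.IsPreprimitive.isCoatom_stabilizer_of_isPreprimitive (G := G) ω₀
  have hTH : ¬ T ≤ H := fun hle => hfp (Set.eq_univ_of_forall fun ω => by
    obtain ⟨s, rfl⟩ := MulAction.exists_smul_eq T ω₀ ω
    intro t
    have h1 : ((s : G)⁻¹ * (t : G) * (s : G)) • ω₀ = ω₀ :=
      hle (T.mul_mem (T.mul_mem (T.inv_mem s.2) t.2) s.2)
    rw [mul_smul, mul_smul, inv_smul_eq_iff] at h1
    exact h1)
  have hidx : (H.subgroupOf T).index = Nat.card Ω := by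
    rw [← MulAction.index_stabilizer_of_transitive T ω₀]
    rfl
  -- it is enough to find an element of `T` without conjugates in `H`
  have finish : ∀ g : T, orderOf g = r → (∀ t : T, t * g * t⁻¹ ∉ H.subgroupOf T) →
      ∃ g : G, orderOf g = r ∧ ∀ ω : Ω, g • ω ≠ ω := by
    intro g ho hg
    refine ⟨g, by rw [Subgroup.orderOf_coe, ho], fun ω hω => ?_⟩
    obtain ⟨t, ht⟩ := MulAction.exists_smul_eq T ω ω₀
    refine hg t (?_ : ((t : G) * g * (t : G)⁻¹) • ω₀ = ω₀)
    rw [mul_smul, mul_smul, ← ht]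
    show (t : G) • (g : G) • (t : G)⁻¹ • ((t : G) • ω) = (t : G) • ω
    rw [inv_smul_smul, hω]
  -- transport to the alternating group
  have transfer : ∀ H' : Subgroup (Equiv.Perm (Fin m)),
      (∀ t : T, (eT t : Equiv.Perm (Fin m)) ∈ H' ↔ (t : G) ∈ H) →
      (H'.relIndex (alternatingGroup (Fin m)) = Nat.card Ω ∧ ¬ alternatingGroup (Fin m) ≤ H') ∧
      (Cfsg.Agent.AltDerange.Deranged H' r → ∃ g : G, orderOf g = r ∧ ∀ ω : Ω, g • ω ≠ ω) := by
    intro H' hH'
    refine ⟨⟨?_, fun hle => hTH fun t ht => (hH' ⟨t, ht⟩).1 (hle (eT ⟨t, ht⟩).2)⟩, ?_⟩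
    · rw [← hidx]
      have e : H.subgroupOf T = (H'.subgroupOf (alternatingGroup (Fin m))).comap eT.toMonoidHom := by
        ext t
        exact (hH' t).symm
      rw [e, Subgroup.index_comap_of_surjective _ eT.surjective]
      rfl
    · rintro ⟨σ, hσ, ho, hc⟩
      refine finish (eT.symm ⟨σ, hσ⟩) (by rw [MulEquiv.orderOf_eq, Subgroup.orderOf_mk, ho]) ?_
      intro t ht
      have h1 := (hH' (t * eT.symm ⟨σ, hσ⟩ * t⁻¹)).2 (Subgroup.mem_subgroupOf.1 ht)
      rw [map_mul, map_mul, map_inv, MulEquiv.apply_symm_apply] at h1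
      exact hc _ (eT t).2 h1
  rcases eq_or_ne m 6 with rfl | h6
  · set H' : Subgroup (Equiv.Perm (Fin 6)) :=
      ((H.subgroupOf T).map eT.toMonoidHom).map (alternatingGroup (Fin 6)).subtype with hH'def
    have hmem : ∀ t : T, (eT t : Equiv.Perm (Fin 6)) ∈ H' ↔ (t : G) ∈ H := fun t => by
      rw [hH'def]
      exact ((Subgroup.mem_map_iff_mem (Subgroup.subtype_injective _)).trans
        (Subgroup.mem_map_iff_mem eT.injective)).trans Iff.rfl
    obtain ⟨⟨hi, hA⟩, hfin⟩ := transfer H' hmem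
    exact hfin (Cfsg.Agent.AltDerange.deranged_six hA hr (hi ▸ hrd) (fun q hq hd => hmax q hq (hi ▸ hd)))
  · let Φ : Equiv.Perm (Fin m) ≃* MulAut (alternatingGroup (Fin m)) :=
      MulEquiv.ofBijective _ (Cfsg.Agent.S2119.result m (by omega) h6)
    haveI := hT
    let ψ : G →* Equiv.Perm (Fin m) :=
      Φ.symm.toMonoidHom.comp ((MulAut.congr eT).toMonoidHom.comp MulAut.conjNormal)
    have hψT : ∀ t : T, ψ (t : G) = (eT t : Equiv.Perm (Fin m)) := fun t => by
      apply Φ.injective
      show Φ (Φ.symm _) = _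
      rw [MulEquiv.apply_symm_apply]
      refine MulEquiv.ext fun x => Subtype.ext ?_
      show ((eT (MulAut.conjNormal (t : G) (eT.symm x))) : Equiv.Perm (Fin m)) = _
      have e : MulAut.conjNormal (t : G) (eT.symm x) = t * eT.symm x * t⁻¹ := Subtype.ext (by simp)
      rw [e, map_mul, map_mul, map_inv, MulEquiv.apply_symm_apply]
      simp [Φ]
    have hψinj : Function.Injective ψ := by
      refine (injective_iff_map_eq_one ψ).2 fun g hg => ?_
      have h1 : MulAut.conjNormal (H := T) g = 1 := by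
        apply (MulAut.congr eT).injective
        apply Φ.symm.injective
        rw [map_one, map_one]
        exact hg
      have h2 : g ∈ Subgroup.centralizer (T : Set G) := by
        rw [Subgroup.mem_centralizer_iff]
        intro x hx
        have := congrArg (fun e : MulAut T => ((e ⟨x, hx⟩ : T) : G)) h1
        simp only [MulAut.conjNormal_apply, MulAut.one_apply] at this
        rw [mul_inv_eq_iff_eq_mul] at this
        exact this.symm
      rwa [hTc, Subgroup.mem_bot] at h2
    have hmem : ∀ t : T, (eT t : Equiv.Perm (Fin m)) ∈ H.map ψ ↔ (t : G) ∈ H := fun t => by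
      rw [← hψT t]
      exact Subgroup.mem_map_iff_mem hψinj
    obtain ⟨⟨hi, hA⟩, hfin⟩ := transfer _ hmem
    refine hfin (Cfsg.Agent.AltDerange.deranged_main (by simp; omega) (by simpa using h6)
      ⟨hA, ?_⟩ hr (hi ▸ hrd) (fun q hq hd => hmax q hq (hi ▸ hd)))
    intro L hL hLA σ hσ
    obtain ⟨hσL, hσA⟩ := Subgroup.mem_inf.1 hσ
    have hle : H ≤ L.comap ψ := fun g hg => hL (Subgroup.mem_map_of_mem ψ hg)
    have hne : L.comap ψ ≠ ⊤ := fun htop => hLA fun τ hτ => by
      have h1 : ψ ((eT.symm ⟨τ, hτ⟩ : T) : G) ∈ L :=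
        (htop ▸ Subgroup.mem_top _ : ((eT.symm ⟨τ, hτ⟩ : T) : G) ∈ L.comap ψ)
      rwa [hψT, MulEquiv.apply_symm_apply] at h1
    have heq : L.comap ψ = H := (hle.lt_or_eq.resolve_left fun hlt => hne (hco.2 _ hlt)).symm
    have h1 : ((eT.symm ⟨σ, hσA⟩ : T) : G) ∈ L.comap ψ := by
      rw [Subgroup.mem_comap, hψT, MulEquiv.apply_symm_apply]
      exact hσL
    rw [heq, ← hmem, MulEquiv.apply_symm_apply] at h1
    exact h1

end Cfsg.Agent.S3571
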