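import Cfsg.Statements.S3572
import Cfsg.Agent.DihedralB.Action

set_option autoImplicit false
open Cfsg

namespace Cfsg.Agent.S3572

/-- A finite primitive permutation group containing a dihedral subgroup that acts regularly (transitively with trivial point stabilizers) is doubly transitive. -/
theorem result {G Ω : Type*} [Group G] [Finite G] [MulAction G Ω] [FaithfulSMul G Ω] [Finite Ω]
    (hprim : MulAction.IsPreprimitive G Ω) (D : Subgroup G) (m : ℕ) (hD : Nonempty (↥D ≃* DihedralGroup m))
    (hDreg : MulAction.IsPretransitive ↥D Ω ∧ ∀ a : Ω, MulAction.stabilizer ↥D a = ⊥) :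
    MulAction.IsMultiplyPretransitive G Ω 2 := by
  classical
  obtain ⟨e⟩ := hD
  obtain ⟨htrans, hstab⟩ := hDreg
  rcases Nat.eq_zero_or_pos m with rfl | hpos
  · have : Finite (DihedralGroup 0) := Finite.of_equiv _ e.toEquiv
    have : Finite (ZMod 0) :=
      Finite.of_injective (fun i : ZMod 0 => DihedralGroup.r i) fun i j h => by cases h; rfl
    have : Finite ℤ := this
    exact absurd this (not_finite_iff_infinite.mpr inferInstance)
  have : NeZero m := ⟨hpos.ne'⟩
  have htwo : ∀ u v : Ω, u ≠ v → Nat.card Ω = 2 * m := by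
    intro u _ _
    have hb : Function.Bijective fun x : DihedralGroup m => (e.symm x : G) • u := by
      refine ⟨fun x y h => ?_, fun w => ?_⟩
      · have h1 : (e.symm y)⁻¹ * e.symm x ∈ MulAction.stabilizer ↥D u := by
          rw [MulAction.mem_stabilizer_iff, mul_smul]
          show (e.symm y)⁻¹ • ((e.symm x : G) • u) = u
          rw [inv_smul_eq_iff]
          exact h
        rw [hstab u, Subgroup.mem_bot, inv_mul_eq_one] at h1
        exact (e.symm.injective h1).symm
      · obtain ⟨d, hd⟩ := htrans.exists_smul_eq u w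
        exact ⟨e d, by simp only [MulEquiv.symm_apply_apply]; exact hd⟩
    rw [← Nat.card_eq_of_bijective _ hb, DihedralGroup.nat_card]
  rw [MulAction.is_two_pretransitive_iff]
  intro u v u' v' huv huv'
  rcases Nat.lt_or_ge m 2 with hlt | hm
  · -- two points
    obtain ⟨g, hg⟩ := hprim.toIsPretransitive.exists_smul_eq u u'
    refine ⟨g, hg, ?_⟩
    have hcard : Nat.card Ω = 2 := by rw [htwo u v huv]; omega
    obtain ⟨a, b, hab, huniv⟩ := Nat.card_eq_two_iff.mp hcard
    have hmem : ∀ w : Ω, w = a ∨ w = b := fun w => by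
      simpa using (huniv.symm ▸ Set.mem_univ w : w ∈ ({a, b} : Set Ω))
    have hne : g • v ≠ u' := fun h => huv (smul_left_cancel g (hg.trans h.symm))
    rcases hmem (g • v) with h1 | h1 <;> rcases hmem u' with h2 | h2 <;>
      rcases hmem v' with h3 | h3 <;> simp_all
  · have h2 := Cfsg.Agent.DihedralB.two_pretransitive_of_regular hm hprim
      (D.subtype.comp e.symm.toMonoidHom) u ?_
    · rw [MulAction.is_two_pretransitive_iff] at h2
      exact h2 huv huv'
    refine ⟨fun x y h => ?_, fun w => ?_⟩
    · have h1 : (e.symm y)⁻¹ * e.symm x ∈ MulAction.stabilizer ↥D u := by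
        rw [MulAction.mem_stabilizer_iff, mul_smul]
        show (e.symm y)⁻¹ • ((e.symm x : G) • u) = u
        rw [inv_smul_eq_iff]
        exact h
      rw [hstab u, Subgroup.mem_bot, inv_mul_eq_one] at h1
      exact (e.symm.injective h1).symm
    · obtain ⟨d, hd⟩ := htrans.exists_smul_eq u w
      exact ⟨e d, by simp only [MonoidHom.comp_apply, MulEquiv.coe_toMonoidHom,
        MulEquiv.symm_apply_apply]; exact hd⟩

end Cfsg.Agent.S3572
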