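import Cfsg.Statements.S3573
import Mathlib

set_option autoImplicit false
open Cfsg

namespace Cfsg.Agent.S3573

open Equiv.Perm

theorem image_mem {n : ℕ} {σ c : Equiv.Perm (Fin n)} (hc : c ∈ σ.cycleFactorsFinset) {x : Fin n}
    (hx : x ∈ c.support) : σ x ∈ c.support := by
  rw [← (mem_cycleFactorsFinset_iff.1 hc).2 x hx]
  exact apply_mem_support.2 hx

theorem exists_invariant {n k r : ℕ} (hr : r.Prime) (hle : k % r ≤ n % r) (hkn : k ≤ n)
    {σ : Equiv.Perm (Fin n)} (hσ : orderOf σ = r) :
    ∃ s : Finset (Fin n), s.card = k ∧ s.image σ = s := by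
  classical
  obtain ⟨j, hj⟩ := cycleType_prime_order (σ := σ) (hσ.symm ▸ hr)
  rw [hσ] at hj
  have hjc : σ.cycleFactorsFinset.card = j + 1 := by
    have := congrArg Multiset.card hj
    rwa [cycleType_def, Multiset.card_map, Multiset.card_replicate] at this
  have hsupp : ∀ c ∈ σ.cycleFactorsFinset, c.support.card = r := fun c hc => by
    have : c.support.card ∈ σ.cycleType := by
      rw [cycleType_def]; exact Multiset.mem_map_of_mem _ hc
    rw [hj] at this
    exact Multiset.eq_of_mem_replicate this
  have hS : σ.support.card = (j + 1) * r := by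
    rw [← sum_cycleType, hj, Multiset.sum_replicate, smul_eq_mul]
  set a := min (k / r) (j + 1) with ha
  obtain ⟨A, hA, hAc⟩ := Finset.exists_subset_card_eq (s := σ.cycleFactorsFinset)
    (show a ≤ _ by rw [hjc]; exact min_le_right _ _)
  set U := A.biUnion Equiv.Perm.support
  have hU : U.card = a * r := by
    rw [Finset.card_biUnion fun c hc d hd hcd =>
      ((cycleFactorsFinset_pairwise_disjoint σ) (hA hc) (hA hd) hcd).disjoint_support,
      Finset.sum_congr rfl fun c hc => hsupp c (hA hc), Finset.sum_const, hAc, smul_eq_mul]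
  have hn : σ.support.card ≤ n := σ.support.card_le_univ.trans (Fintype.card_fin n).le
  have hfree : k - a * r ≤ σ.supportᶜ.card := by
    rw [Finset.card_compl, Fintype.card_fin, hS]
    have h1 := Nat.div_add_mod k r
    have h2 := Nat.mod_lt k hr.pos
    rcases le_total (k / r) (j + 1) with h | h
    · rw [ha, min_eq_left h, mul_comm (k / r)]
      have h3 : n % r ≤ n - (j + 1) * r := by
        have h4 : (j + 1) ≤ n / r := (Nat.le_div_iff_mul_le hr.pos).2 (hS ▸ hn)
        have h5 := Nat.div_add_mod n r
        have : (j + 1) * r ≤ r * (n / r) := by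
          rw [mul_comm r]; exact Nat.mul_le_mul_right r h4
        omega
      omega
    · rw [ha, min_eq_right h]
      omega
  obtain ⟨B, hB, hBc⟩ := Finset.exists_subset_card_eq hfree
  refine ⟨U ∪ B, ?_, ?_⟩
  · rw [Finset.card_union_of_disjoint, hU, hBc]
    · have : a * r ≤ k := le_trans (Nat.mul_le_mul_right r (min_le_left _ _)) (Nat.div_mul_le_self k r)
      omega
    · rw [Finset.disjoint_left]
      intro x hx hxB
      obtain ⟨c, hc, hxc⟩ := Finset.mem_biUnion.1 hx
      exact Finset.mem_compl.1 (hB hxB) (mem_cycleFactorsFinset_support_le (hA hc) hxc)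
  · refine Finset.eq_of_subset_of_card_le ?_ (le_of_eq (Finset.card_image_of_injective _ σ.injective).symm)
    intro y hy
    obtain ⟨x, hx, rfl⟩ := Finset.mem_image.1 hy
    rcases Finset.mem_union.1 hx with hx | hx
    · obtain ⟨c, hc, hxc⟩ := Finset.mem_biUnion.1 hx
      exact Finset.mem_union_left _ (Finset.mem_biUnion.2 ⟨c, hc, image_mem (hA hc) hxc⟩)
    · rw [notMem_support.1 (Finset.mem_compl.1 (hB hx))]
      exact Finset.mem_union_right _ hx

theorem iff_mod {n k r : ℕ} (hr : r.Prime) (hkn : k ≤ n) (hrn : r ≤ n) :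
    (∀ σ : Equiv.Perm (Fin n), orderOf σ = r → ∃ s : Finset (Fin n), s.card = k ∧ s.image σ = s) ↔
      k % r ≤ n % r := by
  classical
  haveI := Fact.mk hr
  refine ⟨fun h => ?_, fun h σ hσ => exists_invariant hr h hkn hσ⟩
  obtain ⟨σ, hσ⟩ := (exists_with_cycleType_iff (Fin n) (m := Multiset.replicate (n / r) r)).2
    ⟨by rw [Multiset.sum_replicate, smul_eq_mul, Fintype.card_fin]; exact Nat.div_mul_le_self n r,
      fun a ha => Multiset.eq_of_mem_replicate ha ▸ hr.two_le⟩
  have hq : 0 < n / r := Nat.div_pos hrn hr.pos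
  have hord : orderOf σ = r := by
    rw [← lcm_cycleType, hσ]
    refine Nat.dvd_antisymm (Multiset.lcm_dvd.2 fun a ha => (Multiset.eq_of_mem_replicate ha).dvd) ?_
    exact Multiset.dvd_lcm (Multiset.mem_replicate.2 ⟨hq.ne', rfl⟩)
  obtain ⟨s, hsc, hs⟩ := h σ hord
  have hmem : ∀ x, σ x ∈ s ↔ x ∈ s := fun x => by
    conv_lhs => rw [← hs, σ.injective.mem_finset_image]
  let τ := σ.subtypePerm hmem
  have hτ : τ ^ r ^ 1 = 1 := by
    rw [pow_one, subtypePerm_pow, Equiv.Perm.ext_iff]
    intro x
    apply Subtype.ext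
    show (σ ^ r) x.1 = x.1
    rw [← hord, pow_orderOf_eq_one, one_apply]
  have hfix := card_compl_support_modEq (σ := τ) hτ
  rw [Fintype.card_coe, hsc] at hfix
  have hle : τ.supportᶜ.card ≤ σ.supportᶜ.card := by
    refine Finset.card_le_card_of_injOn Subtype.val (fun x hx => ?_) Subtype.val_injective.injOn
    simp only [Finset.coe_compl, Set.mem_compl_iff, Finset.mem_coe, mem_support, not_not] at hx ⊢
    exact congrArg Subtype.val hx
  have hσs : σ.supportᶜ.card = n % r := by
    rw [Finset.card_compl, Fintype.card_fin, ← sum_cycleType, hσ, Multiset.sum_replicate, smul_eq_mul]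
    have := Nat.div_add_mod n r
    rw [mul_comm (n / r)]
    omega
  unfold Nat.ModEq at hfix
  rw [← hfix]
  exact (Nat.mod_le _ _).trans (hle.trans hσs.le)


/-- Let 1 ≤ k with 2k < n and consider the symmetric group of degree n acting on the k-subsets of an n-set. Let r be a prime dividing the number C(n,k) of k-subsets. If r is odd, then every permutation of order r fixes some k-subset if and only if r ≤ k and the remainder of k modulo r is at most the remainder of n modulo r. If r = 2, then every involution fixes some k-subset if and only if k is even or n is odd. -/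
theorem result (n k : ℕ) (hk : 1 ≤ k) (hkn : 2 * k < n) (r : ℕ) (hr : r.Prime) (hrd : r ∣ Nat.choose n k) :
    (r ≠ 2 → ((∀ σ : Equiv.Perm (Fin n), orderOf σ = r → ∃ s : Finset (Fin n), s.card = k ∧ s.image σ = s) ↔
      (r ≤ k ∧ k % r ≤ n % r))) ∧
    (r = 2 → ((∀ σ : Equiv.Perm (Fin n), orderOf σ = 2 → ∃ s : Finset (Fin n), s.card = k ∧ s.image σ = s) ↔
      (Even k ∨ Odd n))) := by
  haveI := Fact.mk hr
  have hrn : r ≤ n := by
    by_contra h
    push Not at h
    refine absurd hrd (fun hd => ?_)
    have h1 : n.choose k ∣ n.factorial := ⟨k.factorial * (n - k).factorial, by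
      rw [← mul_assoc, Nat.choose_mul_factorial_mul_factorial (by omega)]⟩
    exact absurd ((hr.dvd_factorial).1 (hd.trans h1)) (by omega)
  have hiff := iff_mod (n := n) (k := k) hr (by omega) hrn
  refine ⟨fun _ => hiff.trans ⟨fun h => ⟨?_, h⟩, fun h => h.2⟩, fun h2 => ?_⟩
  · by_contra hlt
    push Not at hlt
    have h1 : n.choose k ≡ (n % r).choose (k % r) * (n / r).choose (k / r) [MOD r] :=
      Choose.choose_modEq_choose_mod_mul_choose_div_nat
    rw [Nat.div_eq_of_lt hlt, Nat.choose_zero_right, mul_one] at h1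
    have h2 : r ∣ (n % r).choose (k % r) := by
      rw [Nat.dvd_iff_mod_eq_zero] at hrd ⊢
      rw [← h1, hrd]
    have h3 : (n % r).choose (k % r) ∣ (n % r).factorial := ⟨(k % r).factorial * (n % r - k % r).factorial, by
      rw [← mul_assoc, Nat.choose_mul_factorial_mul_factorial h]⟩
    exact absurd ((hr.dvd_factorial).1 (h2.trans h3)) (not_le.2 (Nat.mod_lt n hr.pos))
  · subst h2
    rw [hiff, Nat.even_iff, Nat.odd_iff]
    omega

end Cfsg.Agent.S3573
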