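import Mathlib
import Cfsg.Statements.S3575

set_option autoImplicit false
open Cfsg

namespace Cfsg.Agent.S3575

/-! ### The standard rotation -/

def rho (N r z : ℕ) : ℕ := if z < N then z / r * r + (z % r + 1) % r else z

theorem rho_div {N r z : ℕ} (hr : 0 < r) (h : z < N) : rho N r z / r = z / r := by
  rw [rho, if_pos h, Nat.add_comm, Nat.add_mul_div_right _ _ hr,
    Nat.div_eq_of_lt (Nat.mod_lt _ hr), Nat.zero_add]

theorem rho_mod {N r z : ℕ} (h : z < N) : rho N r z % r = (z % r + 1) % r := by
  rw [rho, if_pos h, Nat.add_comm, Nat.add_mul_mod_self_right, Nat.mod_mod]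

theorem rho_lt {N r z : ℕ} (hr : 0 < r) (hN : r ∣ N) (h : z < N) : rho N r z < N := by
  obtain ⟨d, rfl⟩ := hN
  have h1 : z / r < d := (Nat.div_lt_iff_lt_mul hr).mpr (by rwa [Nat.mul_comm])
  have h2 : (z % r + 1) % r < r := Nat.mod_lt _ hr
  rw [rho, if_pos h]
  nlinarith

theorem rho_lt' {N r z n : ℕ} (hr : 0 < r) (hN : r ∣ N) (hn : N ≤ n) (h : z < n) :
    rho N r z < n := by
  by_cases hz : z < N
  · exact lt_of_lt_of_le (rho_lt hr hN hz) hn
  · rwa [rho, if_neg hz]

theorem rho_injective {N r : ℕ} (hr : 0 < r) (hN : r ∣ N) : Function.Injective (rho N r) := by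
  intro z w h
  by_cases hz : z < N <;> by_cases hw : w < N
  · have h1 : z / r = w / r := by rw [← rho_div hr hz, h, rho_div hr hw]
    have h2 : (z % r + 1) % r = (w % r + 1) % r := by rw [← rho_mod hz, h, rho_mod hw]
    have h3 : z % r = w % r := by
      have h4 : z % r + 1 ≡ w % r + 1 [MOD r] := h2
      have h5 := Nat.ModEq.add_right_cancel' 1 h4
      simpa [Nat.ModEq, Nat.mod_mod] using h5
    rw [← Nat.div_add_mod z r, ← Nat.div_add_mod w r, h1, h3]
  · exfalso
    have := rho_lt hr hN hz
    rw [h, rho, if_neg hw] at this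
    exact hw this
  · exfalso
    have := rho_lt hr hN hw
    rw [← h, rho, if_neg hz] at this
    exact hz this
  · simpa [rho, if_neg hz, if_neg hw] using h

theorem rho_iterate {N r : ℕ} (hr : 0 < r) (hN : r ∣ N) (k z : ℕ) :
    (rho N r)^[k] z = if z < N then z / r * r + (z % r + k) % r else z := by
  induction k with
  | zero =>
    simp only [Function.iterate_zero, id_eq, Nat.add_zero, Nat.mod_mod]
    split
    · exact (Nat.div_add_mod' z r).symm
    · rfl
  | succ k ih =>
    rw [Function.iterate_succ_apply', ih]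
    by_cases hz : z < N
    · rw [if_pos hz, if_pos hz]
      obtain ⟨d, rfl⟩ := hN
      have h1 : z / r < d := (Nat.div_lt_iff_lt_mul hr).mpr (by rwa [Nat.mul_comm])
      have h2 : (z % r + k) % r < r := Nat.mod_lt _ hr
      have h3 : z / r * r + (z % r + k) % r < r * d := by nlinarith
      rw [rho, if_pos h3, Nat.add_comm (z / r * r), Nat.add_mul_div_right _ _ hr,
        Nat.div_eq_of_lt h2, Nat.zero_add, Nat.add_mul_mod_self_right, Nat.mod_mod,
        Nat.mod_add_mod, Nat.add_assoc]
    · rw [if_neg hz, if_neg hz, rho, if_neg hz]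

theorem rho_eq_self {N r z : ℕ} (hr : 2 ≤ r) : rho N r z = z ↔ ¬ z < N := by
  constructor
  · intro h hz
    have h2 : (z % r + 1) % r = z % r := by rw [← rho_mod hz, h]
    have h3 := Nat.mod_lt z (show 0 < r by omega)
    rcases Nat.lt_or_ge (z % r + 1) r with h4 | h4
    · rw [Nat.mod_eq_of_lt h4] at h2; omega
    · rw [show z % r + 1 = r by omega, Nat.mod_self] at h2; omega
  · intro hz
    rw [rho, if_neg hz]

noncomputable def rot (N r n : ℕ) (hr : 0 < r) (hN : r ∣ N) (hn : N ≤ n) : Equiv.Perm (Fin n) :=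
  Equiv.ofBijective (fun z => ⟨rho N r z, rho_lt' hr hN hn z.2⟩)
    (Finite.injective_iff_bijective.mp fun _ _ h =>
      Fin.ext (rho_injective hr hN (congrArg Fin.val h)))

theorem rot_val (N r n : ℕ) (hr : 0 < r) (hN : r ∣ N) (hn : N ≤ n) (z : Fin n) :
    ((rot N r n hr hN hn z : Fin n) : ℕ) = rho N r z := rfl

theorem rot_pow_val (N r n : ℕ) (hr : 0 < r) (hN : r ∣ N) (hn : N ≤ n) (k : ℕ) (z : Fin n) :
    (((rot N r n hr hN hn ^ k) z : Fin n) : ℕ) = (rho N r)^[k] z := by
  induction k with
  | zero => rfl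
  | succ k ih => rw [pow_succ', Equiv.Perm.mul_apply, rot_val, ih, Function.iterate_succ_apply']

theorem rot_pow (N r n : ℕ) (hr : 0 < r) (hN : r ∣ N) (hn : N ≤ n) :
    rot N r n hr hN hn ^ r = 1 := by
  ext z
  rw [rot_pow_val, rho_iterate hr hN, Equiv.Perm.one_apply]
  split
  · rw [Nat.add_mod_right, Nat.mod_mod, Nat.div_add_mod']
  · rfl

theorem rot_support (N r n : ℕ) (hr : 2 ≤ r) (hN : r ∣ N) (hn : N ≤ n) :
    (rot N r n (by omega) hN hn).support.card = N := by
  have : (rot N r n (by omega) hN hn).support = Finset.univ.filter fun z : Fin n => (z : ℕ) < N := by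
    ext z
    rw [Equiv.Perm.mem_support, ne_eq, Fin.ext_iff, rot_val, rho_eq_self hr]
    simp
  rw [this]
  rcases Nat.lt_or_ge N n with h | h
  · exact (congrArg Finset.card (by ext z; simp [Fin.lt_def])).trans (Fin.card_Iio ⟨N, h⟩)
  · have hNn : N = n := le_antisymm hn h
    subst hNn
    rw [Finset.filter_true_of_mem fun z _ => z.2, Finset.card_univ, Fintype.card_fin]

theorem order_of_pow {α : Type*} [Fintype α] [DecidableEq α] {r : ℕ} (hr : r.Prime)
    (σ : Equiv.Perm α) (h : σ ^ r = 1) (hne : σ.support.card ≠ 0) : orderOf σ = r := by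
  haveI := Fact.mk hr
  refine orderOf_eq_prime h fun h1 => hne ?_
  rw [h1, Equiv.Perm.support_one, Finset.card_empty]

theorem conj_of_support {α : Type*} [Fintype α] [DecidableEq α] {r : ℕ} (hr : r.Prime)
    (σ τ : Equiv.Perm α) (hσ : orderOf σ = r) (hτ : orderOf τ = r)
    (h : σ.support.card = τ.support.card) : IsConj σ τ := by
  rw [Equiv.Perm.isConj_iff_cycleType_eq]
  obtain ⟨n, hn⟩ := Equiv.Perm.cycleType_prime_order (hσ.symm ▸ hr)
  obtain ⟨m, hm⟩ := Equiv.Perm.cycleType_prime_order (hτ.symm ▸ hr)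
  have h1 := Equiv.Perm.sum_cycleType σ
  have h2 := Equiv.Perm.sum_cycleType τ
  rw [hn, Multiset.sum_replicate, smul_eq_mul, hσ] at h1
  rw [hm, Multiset.sum_replicate, smul_eq_mul, hτ] at h2
  have : n + 1 = m + 1 := Nat.eq_of_mul_eq_mul_right hr.pos (h1.trans (h.trans h2.symm))
  rw [hn, hm, hσ, hτ, this]

/-- Some permutation with `c` cycles of length `r` preserves a partition. -/
def Admissible (a b r c : ℕ) : Prop :=
  ∃ j : ℕ, r * j ≤ b ∧ j * a ≤ c ∧ c ≤ j * a + (b - r * j) * (a / r)

theorem sum_min (A T : ℕ) : ∀ n : ℕ,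
    ∑ i ∈ Finset.range n, min A (T - A * i) = min (n * A) T := by
  intro n
  induction n with
  | zero => simp
  | succ n ih =>
    rw [Finset.sum_range_succ, ih, Nat.succ_mul, Nat.mul_comm A n]
    omega

/-! ### Necessity -/

theorem admissible_of_preserves (a b r : ℕ) (ha : 2 ≤ a) (hr : r.Prime) (c : ℕ)
    (σ : Equiv.Perm (Fin (a * b))) (hσ : σ ^ r = 1) (hsupp : σ.support.card = r * c)
    (f : Fin (a * b) → Fin b) (hf : ∀ j : Fin b, Nat.card {x : Fin (a * b) // f x = j} = a)
    (π : Equiv.Perm (Fin b)) (hπ : ∀ x, f (σ x) = π (f x)) : Admissible a b r c := by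
  classical
  haveI := Fact.mk hr
  have hsurj : ∀ y, ∃ x, f x = y := by
    intro y
    have hpos : 0 < Nat.card {x : Fin (a * b) // f x = y} := by rw [hf]; omega
    obtain ⟨x, hx⟩ := (Nat.card_pos_iff.mp hpos).1
    exact ⟨x, hx⟩
  have hpow : ∀ k : ℕ, ∀ x, f ((σ ^ k) x) = (π ^ k) (f x) := by
    intro k
    induction k with
    | zero => intro x; rfl
    | succ k ih =>
      intro x
      rw [pow_succ', pow_succ', Equiv.Perm.mul_apply, Equiv.Perm.mul_apply, hπ, ih]
  have hπr : π ^ r = 1 := by
    ext1 y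
    obtain ⟨x, rfl⟩ := hsurj y
    rw [← hpow, hσ]
    rfl
  obtain ⟨b', hb'⟩ : ∃ b', b' = π.supportᶜ.card := ⟨_, rfl⟩
  have hb'le : b' ≤ b := hb' ▸ (Finset.card_le_univ _).trans_eq (Fintype.card_fin b)
  have hb'mod : b' ≡ b [MOD r] := by
    have := Equiv.Perm.card_compl_support_modEq (p := r) (n := 1) (σ := π) (by rwa [pow_one])
    rwa [Fintype.card_fin, ← hb'] at this
  obtain ⟨j, hj⟩ : r ∣ b - b' := (Nat.modEq_iff_dvd' hb'le).mp hb'mod
  -- fixed points of `σ`
  have hfixsum : σ.supportᶜ.card =
      ∑ y ∈ π.supportᶜ, (σ.supportᶜ.filter fun x => f x = y).card := by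
    refine Finset.card_eq_sum_card_fiberwise fun x hx => ?_
    simp only [Finset.mem_coe, Finset.mem_compl, Equiv.Perm.mem_support, not_not] at hx ⊢
    rw [← hπ, hx]
  have hfib : ∀ y ∈ π.supportᶜ, a % r ≤ (σ.supportᶜ.filter fun x => f x = y).card ∧
      (σ.supportᶜ.filter fun x => f x = y).card ≤ a := by
    intro y hy
    simp only [Finset.mem_compl, Equiv.Perm.mem_support, not_not] at hy
    have hcard : Fintype.card {x : Fin (a * b) // f x = y} = a := by
      rw [← Nat.card_eq_fintype_card, hf]
    constructor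
    · have hinv : ∀ x, f (σ x) = y ↔ f x = y := by
        intro x
        rw [hπ]
        exact ⟨fun h => π.injective (h.trans hy.symm), fun h => by rw [h, hy]⟩
      let τ : Equiv.Perm {x : Fin (a * b) // f x = y} := σ.subtypePerm hinv
      have hτk : ∀ k : ℕ, ∀ x : {x : Fin (a * b) // f x = y},
          ((τ ^ k) x : Fin (a * b)) = (σ ^ k) x := by
        intro k
        induction k with
        | zero => intro x; rfl
        | succ k ih =>
          intro x
          rw [pow_succ', pow_succ', Equiv.Perm.mul_apply, Equiv.Perm.mul_apply, ← ih]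
          rfl
      have hτ : τ ^ r ^ 1 = 1 := by
        rw [pow_one]
        ext1 x
        apply Subtype.ext
        rw [hτk, hσ]
        rfl
      have h1 := Equiv.Perm.card_compl_support_modEq (p := r) (n := 1) (σ := τ) hτ
      rw [hcard] at h1
      have h2 : τ.supportᶜ.card = (σ.supportᶜ.filter fun x => f x = y).card := by
        refine Finset.card_bij (fun x _ => (x : Fin (a * b))) ?_ ?_ ?_
        · intro x hx
          simp only [Finset.mem_compl, Equiv.Perm.mem_support, not_not, Finset.mem_filter] at hx ⊢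
          exact ⟨congrArg Subtype.val hx, x.2⟩
        · intro x _ x' _ h
          exact Subtype.ext h
        · intro x hx
          simp only [Finset.mem_compl, Equiv.Perm.mem_support, not_not, Finset.mem_filter] at hx
          exact ⟨⟨x, hx.2⟩, by simp only [Finset.mem_compl, Equiv.Perm.mem_support, not_not]
                               exact Subtype.ext hx.1, rfl⟩
      rw [h2] at h1
      rw [← h1]
      exact Nat.mod_le _ _
    · calc (σ.supportᶜ.filter fun x => f x = y).card
          ≤ (Finset.univ.filter fun x => f x = y).card :=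
            Finset.card_le_card fun x hx => by simp_all
        _ = a := by rw [← Fintype.card_subtype]; exact hcard
  have hlow : b' * (a % r) ≤ σ.supportᶜ.card := by
    rw [hfixsum, hb']
    exact (smul_eq_mul _ _).symm.trans_le
      (Finset.card_nsmul_le_sum _ _ _ fun y hy => (hfib y hy).1)
  have hup : σ.supportᶜ.card ≤ b' * a := by
    rw [hfixsum, hb']
    exact (Finset.sum_le_card_nsmul _ _ _ fun y hy => (hfib y hy).2).trans_eq (smul_eq_mul _ _)
  have htot : σ.supportᶜ.card + r * c = a * b := by
    rw [← hsupp, Finset.card_compl_add_card, Fintype.card_fin]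
  have hb'eq : b = r * j + b' := by omega
  refine ⟨j, by omega, ?_, ?_⟩
  · subst hb'eq
    nlinarith [hr.pos]
  · have hdm := Nat.div_add_mod a r
    subst hb'eq
    rw [Nat.add_sub_cancel_left]
    have : r * c ≤ r * (j * a + b' * (a / r)) := by nlinarith
    exact Nat.le_of_mul_le_mul_left this hr.pos

/-! ### Sufficiency -/

theorem preserves_of_admissible (a b r : ℕ) (hr : r.Prime) (c : ℕ) (h : Admissible a b r c)
    (σ : Equiv.Perm (Fin (a * b))) (hσ : orderOf σ = r) (hsupp : σ.support.card = r * c) :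
    ∃ f : Fin (a * b) → Fin b, (∀ j : Fin b, Nat.card {x : Fin (a * b) // f x = j} = a) ∧
      ∃ π : Equiv.Perm (Fin b), ∀ x : Fin (a * b), f (σ x) = π (f x) := by
  classical
  obtain ⟨j, hjb, hjc, hcu⟩ := h
  obtain ⟨T, hT⟩ : ∃ T, c = j * a + T := ⟨c - j * a, by omega⟩
  obtain ⟨u, hu⟩ : ∃ u : ℕ → ℕ, u = fun x =>
      if x < r * j then 0 else min (a / r) (T - a / r * (x - r * j)) := ⟨_, rfl⟩
  have hua : ∀ x, r * u x ≤ a := by
    intro x
    have h1 : u x ≤ a / r := by
      rw [hu]; simp only
      split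
      · exact Nat.zero_le _
      · exact min_le_left _ _
    exact (Nat.mul_le_mul_left r h1).trans (Nat.mul_div_le a r)
  let e : Equiv.Perm (Fin b) := rot (r * j) r b hr.pos (dvd_mul_right r j) hjb
  let F : Fin b → Equiv.Perm (Fin a) :=
    fun x => rot (r * u x) r a hr.pos (dvd_mul_right r _) (hua x)
  let τ : Equiv.Perm (Fin b × Fin a) := Equiv.prodShear e F
  have hτ : ∀ x : Fin b × Fin a, τ x = (e x.1, F x.1 x.2) := fun x => rfl
  have hu0 : ∀ x : Fin b, (x : ℕ) < r * j → u x = 0 := fun x hx => by
    rw [hu]; exact if_pos hx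
  have hFe : ∀ x : Fin b, F (e x) = F x := by
    intro x
    by_cases hx : (x : ℕ) < r * j
    · have hlt : ((e x : Fin b) : ℕ) < r * j := rho_lt hr.pos (dvd_mul_right r j) hx
      ext z
      simp only [F, rot_val, hu0 x hx, hu0 _ hlt]
    · have : e x = x := Fin.ext (if_neg hx)
      rw [this]
  have hFek : ∀ (k : ℕ) (x : Fin b), F ((e ^ k) x) = F x := by
    intro k
    induction k with
    | zero => intro x; rfl
    | succ k ih => intro x; rw [pow_succ', Equiv.Perm.mul_apply, hFe, ih]
  have hτpow : ∀ (k : ℕ) (x : Fin b × Fin a), (τ ^ k) x = ((e ^ k) x.1, (F x.1 ^ k) x.2) := by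
    intro k
    induction k with
    | zero => intro x; rfl
    | succ k ih =>
      intro x
      rw [pow_succ', Equiv.Perm.mul_apply, ih, hτ, pow_succ', pow_succ', Equiv.Perm.mul_apply,
        Equiv.Perm.mul_apply, hFek]
  have hτr : τ ^ r = 1 := by
    ext1 x
    rw [hτpow, rot_pow, rot_pow]
    rfl
  have hτsupp : τ.support.card = r * c := by
    have h1 : τ.support.card = ∑ x : Fin b,
        (Finset.univ.filter fun y : Fin a => τ (x, y) ≠ (x, y)).card := by
      have hsig : τ.support = (Finset.univ : Finset (Fin b)).biUnion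
          fun x => (Finset.univ.filter fun y : Fin a => τ (x, y) ≠ (x, y)).image fun y => (x, y) := by
        ext ⟨x, y⟩
        simp
      rw [hsig, Finset.card_biUnion]
      · exact Finset.sum_congr rfl fun x _ =>
          Finset.card_image_of_injective _ fun y y' h => (Prod.ext_iff.mp h).2
      · intro x _ x' _ hne
        simp only [Function.onFun, Finset.disjoint_left, Finset.mem_image]
        rintro _ ⟨y, -, rfl⟩ ⟨y', -, h⟩
        exact hne (Prod.ext_iff.mp h).1.symm
    have h2 : ∀ x : Fin b, (Finset.univ.filter fun y : Fin a => τ (x, y) ≠ (x, y)).card =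
        if (x : ℕ) < r * j then a else r * u x := by
      intro x
      by_cases hx : (x : ℕ) < r * j
      · rw [if_pos hx, Finset.filter_true_of_mem, Finset.card_univ, Fintype.card_fin]
        intro y _ hy
        rw [hτ] at hy
        have h3 : rho (r * j) r x = (x : ℕ) := congrArg Fin.val (Prod.ext_iff.mp hy).1
        exact ((rho_eq_self hr.two_le).mp h3) hx
      · rw [if_neg hx, ← rot_support (r * u x) r a hr.two_le (dvd_mul_right r _) (hua x)]
        congr 1
        ext y
        have hex : e x = x := Fin.ext (if_neg hx)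
        simp [hτ, hex, F, Equiv.Perm.mem_support]
    have h3 : ∀ x, (if x < r * j then a else r * u x) =
        if x < r * j then a else r * min (a / r) (T - a / r * (x - r * j)) := by
      intro x
      by_cases hx : x < r * j
      · simp [hx]
      · simp [hu, hx]
    rw [h1, Finset.sum_congr rfl fun x _ => h2 x,
      Fin.sum_univ_eq_sum_range (fun x : ℕ => if x < r * j then a else r * u x) b,
      show b = r * j + (b - r * j) by omega, Finset.sum_range_add,
      Finset.sum_congr rfl fun x hx => if_pos (Finset.mem_range.mp hx), Finset.sum_const,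
      Finset.card_range, smul_eq_mul]
    have h4 : ∀ x ∈ Finset.range (b - r * j),
        (if r * j + x < r * j then a else r * u (r * j + x)) =
          r * min (a / r) (T - a / r * x) := by
      intro x _
      rw [h3, if_neg (by omega), Nat.add_sub_cancel_left]
    rw [Finset.sum_congr rfl h4, ← Finset.mul_sum, sum_min, min_eq_right (by omega), hT]
    ring
  let g : Fin b × Fin a ≃ Fin (a * b) := finProdFinEquiv.trans (finCongr (Nat.mul_comm b a))
  let τ' : Equiv.Perm (Fin (a * b)) := g.permCongr τ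
  have hτ'supp : τ'.support.card = r * c := by
    rw [← hτsupp]
    have : τ'.support = τ.support.map g.toEmbedding := by
      ext x
      rw [Equiv.Perm.mem_support, Finset.mem_map_equiv, Equiv.Perm.mem_support]
      exact not_congr (by simp only [τ', Equiv.permCongr_apply]; exact g.apply_eq_iff_eq_symm_apply)
    rw [this, Finset.card_map]
  have hc0 : r * c ≠ 0 := by
    rw [← hsupp]
    intro h0
    rw [Finset.card_eq_zero, Equiv.Perm.support_eq_empty_iff] at h0
    rw [h0, orderOf_one] at hσ
    exact hr.ne_one hσ.symm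
  have hτ'r : τ' ^ r = 1 := by
    have : g.permCongrHom τ = τ' := rfl
    rw [← this, ← map_pow, hτr, map_one]
  obtain ⟨k, hk⟩ := isConj_iff.mp (conj_of_support hr σ τ' hσ
    (order_of_pow hr τ' hτ'r (by rw [hτ'supp]; exact hc0)) (hsupp.trans hτ'supp.symm))
  refine ⟨fun x => (g.symm (k x)).1, fun y => ?_, e, fun x => ?_⟩
  · refine (Nat.card_congr ((k.trans g.symm).subtypeEquiv (q := fun p : Fin b × Fin a => p.1 = y)
      fun x => Iff.rfl)).trans ?_
    exact (Nat.card_congr
      { toFun := fun p => p.1.2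
        invFun := fun z => ⟨(y, z), rfl⟩
        left_inv := by rintro ⟨⟨p, q⟩, rfl⟩; rfl
        right_inv := fun z => rfl }).trans (Nat.card_fin a)
  · have h1 : k (σ x) = τ' (k x) := by rw [← hk]; simp
    show (g.symm (k (σ x))).1 = e (g.symm (k x)).1
    rw [h1]
    simp [τ', Equiv.permCongr_apply, hτ]

/-! ### The arithmetic -/

theorem admissible_iff (a b r : ℕ) (ha : 2 ≤ a) (hr : 2 ≤ r) (hab : r ≤ a * b) :
    (∀ c, 1 ≤ c → r * c ≤ a * b → Admissible a b r c) ↔
      (r ≤ a ∧ (a % r = 0 ∨ (b % r = 0 ∧ a % r = 1) ∨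
        (a % r ≠ 0 ∧ b % r ≠ 0 ∧ (b % r) * (a % r) < r ∧
          (b < r ∨ (b % r + r) * (a % r) ≤ (b % r) * a + r)))) := by
  obtain ⟨A, hA⟩ : ∃ A, A = a / r := ⟨_, rfl⟩
  obtain ⟨l, hl⟩ : ∃ l, l = a % r := ⟨_, rfl⟩
  obtain ⟨J, hJ⟩ : ∃ J, J = b / r := ⟨_, rfl⟩
  obtain ⟨k, hk⟩ : ∃ k, k = b % r := ⟨_, rfl⟩
  have haeq : a = r * A + l := by rw [hA, hl, Nat.div_add_mod]
  have hbeq : b = r * J + k := by rw [hJ, hk, Nat.div_add_mod]
  have hl' : l < r := hl ▸ Nat.mod_lt _ (by omega)
  have hk' : k < r := hk ▸ Nat.mod_lt _ (by omega)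
  rw [← hl, ← hk]
  constructor
  · intro h
    have hA1 : 1 ≤ A := by
      obtain ⟨j, hjb, hj1, hj2⟩ := h 1 le_rfl (by omega)
      rw [← hA] at hj2
      rcases Nat.eq_zero_or_pos j with rfl | hj0
      · simp at hj2
        nlinarith
      · nlinarith
    refine ⟨by nlinarith, ?_⟩
    have hkl : k * l < r := by
      by_contra hcon
      push Not at hcon
      have h1 : r * (b * A + J * l + 1) ≤ a * b := by subst haeq hbeq; nlinarith
      obtain ⟨j, hjb, hj1, hj2⟩ := h (b * A + J * l + 1) (by omega) h1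
      rw [← hA] at hj2
      have hjJ : j ≤ J := by
        by_contra hjJ
        push Not at hjJ
        have : r * (J + 1) ≤ r * j := Nat.mul_le_mul_left r hjJ
        rw [Nat.mul_succ] at this
        omega
      have h3 : j * a + (b - r * j) * A = b * A + j * l := by
        obtain ⟨d, hd⟩ : ∃ d, b = r * j + d := ⟨b - r * j, by omega⟩
        rw [hd, Nat.add_sub_cancel_left, haeq]; ring
      have h4 : j * l ≤ J * l := Nat.mul_le_mul_right l hjJ
      omega
    have hgap : J = 0 ∨ l ≤ k * A + 1 := by
      rcases Nat.eq_zero_or_pos J with hJ0 | hJ0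
      · exact Or.inl hJ0
      rcases Nat.eq_zero_or_pos l with hl0 | hl0
      · exact Or.inr (by omega)
      right
      obtain ⟨J', rfl⟩ : ∃ J', J = J' + 1 := ⟨J - 1, by omega⟩
      have h1 : r * (b * A + J' * l + 1) ≤ a * b := by subst haeq hbeq; nlinarith
      obtain ⟨j, hjb, hj1, hj2⟩ := h (b * A + J' * l + 1) (by omega) h1
      rw [← hA] at hj2
      have h3 : j * a + (b - r * j) * A = b * A + j * l := by
        obtain ⟨d, hd⟩ : ∃ d, b = r * j + d := ⟨b - r * j, by omega⟩
        rw [hd, Nat.add_sub_cancel_left, haeq]; ring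
      have hjJ : j ≤ J' + 1 := by
        by_contra hjJ
        push Not at hjJ
        have : r * (J' + 1 + 1) ≤ r * j := Nat.mul_le_mul_left r hjJ
        rw [Nat.mul_succ] at this
        omega
      have hj' : j = J' + 1 := by
        by_contra hne
        have : j * l ≤ J' * l := Nat.mul_le_mul_right l (by omega)
        omega
      subst hj'
      subst haeq hbeq
      nlinarith
    rcases Nat.eq_zero_or_pos l with hl0 | hl0
    · exact Or.inl hl0
    right
    rcases Nat.eq_zero_or_pos k with hk0 | hk0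
    · left
      refine ⟨hk0, ?_⟩
      rcases hgap with h0 | h0
      · subst h0; subst hk0
        rw [Nat.mul_zero, Nat.add_zero] at hbeq
        subst hbeq
        simp at hab
        omega
      · subst hk0; simp at h0; omega
    · right
      refine ⟨by omega, by omega, hkl, ?_⟩
      rcases hgap with h0 | h0
      · left; subst h0; simp at hbeq; omega
      · right; rw [haeq]; nlinarith
  · rintro ⟨hra, hcond⟩ c hc hcab
    have hA1 : 1 ≤ A := hA ▸ (Nat.one_le_div_iff (by omega)).mpr hra
    have hkl : k * l < r := by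
      rcases hcond with h | ⟨h, -⟩ | ⟨-, -, h, -⟩
      · rw [h]; omega
      · rw [h]; omega
      · exact h
    have hgap : J = 0 ∨ l ≤ k * A + 1 := by
      rcases hcond with h | ⟨-, h⟩ | ⟨-, -, -, h⟩
      · right; omega
      · right; omega
      · rcases h with h | h
        · left; rw [hJ]; exact Nat.div_eq_of_lt h
        · right
          rw [haeq] at h
          by_contra hcon
          push Not at hcon
          nlinarith
    have hcM : c ≤ b * A + J * l := by
      by_contra hcon
      push Not at hcon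
      have : r * (b * A + J * l + 1) ≤ r * c := Nat.mul_le_mul_left r hcon
      subst haeq hbeq
      nlinarith
    have hex : ∃ j, c ≤ b * A + j * l := ⟨J, hcM⟩
    have hjJ : Nat.find hex ≤ J := Nat.find_min' hex hcM
    have hrj : r * Nat.find hex ≤ b := by
      have := Nat.mul_le_mul_left r hjJ
      omega
    have hs := Nat.find_spec hex
    refine ⟨Nat.find hex, hrj, ?_, ?_⟩
    · rcases Nat.eq_zero_or_pos (Nat.find hex) with h0 | h0
      · rw [h0, Nat.zero_mul]; exact Nat.zero_le c
      · obtain ⟨j', hj'⟩ : ∃ j', Nat.find hex = j' + 1 := ⟨Nat.find hex - 1, by omega⟩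
        have hmin := Nat.find_min hex (m := j') (by omega)
        push Not at hmin
        rw [hj'] at hjJ ⊢
        have hJne : J ≠ 0 := by omega
        have hg := hgap.resolve_left hJne
        have h5 : r * (j' + 1) ≤ r * J := Nat.mul_le_mul_left r hjJ
        have h6 : r * (j' + 1) * A ≤ r * J * A := Nat.mul_le_mul_right A h5
        subst haeq hbeq
        nlinarith
    · rw [← hA]
      have h3 : ∀ j, r * j ≤ b → j * a + (b - r * j) * A = b * A + j * l := by
        intro j hj
        obtain ⟨d, rfl⟩ : ∃ d, b = r * j + d := ⟨b - r * j, by omega⟩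
        rw [Nat.add_sub_cancel_left, haeq]; ring
      rw [h3 _ hrj]
      exact hs

/-- Let a, b ≥ 2 and consider the symmetric group of degree a·b acting on the partitions of an (a·b)-set into b parts of size a (encoded as maps onto a b-element set all of whose fibres have a elements; a permutation fixes such a partition when it permutes the fibres). Let r be a prime dividing the number (ab)!/((a!)^b·b!) of such partitions, and let ℓ and k be the remainders of a and b modulo r. Then every permutation of order r fixes some such partition if and only if r ≤ a and one of the following holds: ℓ = 0; or k = 0 and ℓ = 1; or ℓ and k are non-zero, k·ℓ < r, and either b < r or (k + r)·ℓ ≤ k·a + r. -/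
theorem result (a b : ℕ) (ha : 2 ≤ a) (hb : 2 ≤ b) (r : ℕ) (hr : r.Prime)
    (hrd : r ∣ (a * b).factorial / (a.factorial ^ b * b.factorial)) :
    (∀ σ : Equiv.Perm (Fin (a * b)), orderOf σ = r →
        ∃ f : Fin (a * b) → Fin b, (∀ j : Fin b, Nat.card {x : Fin (a * b) // f x = j} = a) ∧
          ∃ π : Equiv.Perm (Fin b), ∀ x : Fin (a * b), f (σ x) = π (f x)) ↔
      (r ≤ a ∧ (a % r = 0 ∨ (b % r = 0 ∧ a % r = 1) ∨
        (a % r ≠ 0 ∧ b % r ≠ 0 ∧ (b % r) * (a % r) < r ∧ (b < r ∨ (b % r + r) * (a % r) ≤ (b % r) * a + r)))) := by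
  have hrab : r ≤ a * b := by
    refine (hr.dvd_factorial).mp (hrd.trans (Nat.div_dvd_of_dvd ⟨Nat.uniformBell b a, ?_⟩))
    rw [Nat.mul_comm a b, ← Nat.uniformBell_mul_eq b (by omega : a ≠ 0)]
    ring
  rw [← admissible_iff a b r ha hr.two_le hrab]
  constructor
  · intro h c hc hcab
    let σ := rot (r * c) r (a * b) hr.pos (dvd_mul_right r c) hcab
    have hs : σ.support.card = r * c := rot_support (r * c) r (a * b) hr.two_le _ hcab
    have hpow : σ ^ r = 1 := rot_pow _ _ _ _ _ _
    obtain ⟨f, hf, π, hπ⟩ := h σ (order_of_pow hr σ hpow (by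
      rw [hs]; exact Nat.mul_ne_zero hr.ne_zero (by omega)))
    exact admissible_of_preserves a b r ha hr c σ hpow hs f hf π hπ
  · intro h σ hσ
    obtain ⟨n, hn⟩ := Equiv.Perm.cycleType_prime_order (hσ.symm ▸ hr)
    have h1 := Equiv.Perm.sum_cycleType σ
    rw [hn, Multiset.sum_replicate, smul_eq_mul, hσ, Nat.mul_comm] at h1
    have h2 : σ.support.card ≤ a * b := (Finset.card_le_univ _).trans_eq (Fintype.card_fin _)
    exact preserves_of_admissible a b r hr (n + 1) (h (n + 1) (by omega) (by omega)) σ hσ h1.symm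

end Cfsg.Agent.S3575
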