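import Cfsg.Statements.S3580
import Cfsg.Agent.SylowFix.Ratio

set_option autoImplicit false
open Cfsg

namespace Cfsg.Agent.S3580

/-- Let G act faithfully and transitively on a finite set Ω, let p be an odd prime dividing the order of G and P a Sylow p-subgroup of G. Then the number of orbits of P on Ω is at most (p/(2p − 1))·(number of points). -/
theorem result {G Ω : Type*} [Group G] [Finite G] [MulAction G Ω] [FaithfulSMul G Ω] [Finite Ω]
    (htrans : MulAction.IsPretransitive G Ω) (p : ℕ) [Fact p.Prime] (hp2 : p ≠ 2) (hpG : p ∣ Nat.card G)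
    (P : Sylow p G) :
    (2 * p - 1) * Nat.card (MulAction.orbitRel.Quotient ↥(P : Subgroup G) Ω) ≤ p * Nat.card Ω := by
  classical
  rcases isEmpty_or_nonempty Ω with hΩ | ⟨⟨α⟩⟩
  · simp
  haveI := htrans
  -- transport to the coset space of a point stabilizer
  let φ : G ⧸ MulAction.stabilizer G α → Ω := MulAction.ofQuotientStabilizer G α
  have hφs : ∀ (g : G) x, φ (g • x) = g • φ x := MulAction.ofQuotientStabilizer_smul G α
  have hφi : Function.Injective φ := MulAction.injective_ofQuotientStabilizer G α
  have hφo : Function.Surjective φ := fun ω => by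
    obtain ⟨g, rfl⟩ := MulAction.exists_smul_eq G α ω
    exact ⟨g, MulAction.ofQuotientStabilizer_mk G α g⟩
  set a : G ⧸ MulAction.stabilizer G α := ((1 : G) : G ⧸ MulAction.stabilizer G α) with ha
  have htop : ∀ x, x ∈ SylowFix.orb G a := fun x => SylowFix.mem_orb.mpr (MulAction.exists_smul_eq G a x)
  have hne : SylowFix.fixers p G a ≠ Set.univ := by
    intro hu
    refine P.ne_bot_of_dvd_card hpG ((Subgroup.eq_bot_iff_forall _).mpr fun x hx => ?_)
    refine eq_of_smul_eq_smul (α := Ω) fun ω => ?_
    obtain ⟨y, rfl⟩ := hφo ω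
    obtain ⟨g, rfl⟩ := MulAction.exists_smul_eq G a y
    have hP : P ∈ SylowFix.fixers p G (g • a) := by
      rw [SylowFix.fixers_smul, hu, Set.smul_set_univ]
      trivial
    rw [← hφs, hP x hx, one_smul]
  have hfix := SylowFix.goodUpTo (p := p) (Nat.card G) G _ le_rfl P a hne
  rw [SylowFix.slack_eq] at hfix
  haveI := Fintype.ofFinite Ω
  let F : Finset Ω := Finset.univ.filter fun ω => ∀ x ∈ (P : Subgroup G), x • ω = ω
  have hF : (SylowFix.fixOrb P a).card = F.card := by
    refine Finset.card_bij (fun y _ => φ y) (fun y hy => ?_) (fun y _ z _ h => hφi h) ?_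
    · simp only [SylowFix.fixOrb, Finset.mem_filter] at hy
      simp only [F, Finset.mem_filter, Finset.mem_univ, true_and]
      exact fun x hx => by rw [← hφs, hy.2 x hx]
    · intro ω hω
      simp only [F, Finset.mem_filter, Finset.mem_univ, true_and] at hω
      obtain ⟨y, rfl⟩ := hφo ω
      refine ⟨y, Finset.mem_filter.mpr ⟨htop y, fun x hx => hφi ?_⟩, rfl⟩
      rw [hφs, hω x hx]
  have hn : (SylowFix.orb G a).card = Nat.card Ω := by
    rw [Nat.card_eq_fintype_card, ← Finset.card_univ]
    refine Finset.card_bij (fun y _ => φ y) (fun y _ => Finset.mem_univ _) (fun y _ z _ h => hφi h) ?_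
    exact fun ω _ => (hφo ω).imp fun y h => ⟨htop y, h⟩
  rw [hF, hn] at hfix
  -- orbits of `P`
  haveI : Fintype (MulAction.orbitRel.Quotient (P : Subgroup G) Ω) := Fintype.ofFinite _
  have horb : p * Nat.card (MulAction.orbitRel.Quotient (P : Subgroup G) Ω) ≤
      (p - 1) * F.card + Nat.card Ω := by
    let q : Ω → MulAction.orbitRel.Quotient (P : Subgroup G) Ω := fun ω => Quotient.mk'' ω
    have hterm : ∀ c, p ≤ (p - 1) * (F.filter fun ω => q ω = c).card +
        (Finset.univ.filter fun ω => q ω = c).card := by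
      intro c
      obtain ⟨ω, rfl⟩ := Quotient.exists_rep c
      have hmem : ω ∈ Finset.univ.filter fun ω' => q ω' = q ω := by simp
      have hcard : (Finset.univ.filter fun ω' => q ω' = q ω).card =
          Nat.card (MulAction.orbit (P : Subgroup G) ω) := by
        rw [← Nat.card_eq_finsetCard]
        refine Nat.card_congr (Equiv.subtypeEquivRight fun ω' => ?_)
        simp only [Finset.mem_filter, Finset.mem_univ, true_and, q, Quotient.eq'']
        exact MulAction.orbitRel_apply
      obtain ⟨k, hk⟩ := P.2.card_orbit ω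
      change p ≤ (p - 1) * (F.filter fun ω' => q ω' = q ω).card +
        (Finset.univ.filter fun ω' => q ω' = q ω).card
      rw [hcard, hk]
      rcases Nat.eq_zero_or_pos k with rfl | hk0
      · have hωF : ω ∈ F.filter fun ω' => q ω' = q ω := by
          simp only [F, Finset.mem_filter, Finset.mem_univ, true_and]
          refine ⟨fun x hx => ?_, trivial⟩
          rw [pow_zero, Nat.card_eq_one_iff_unique] at hk
          haveI := hk.1
          exact congrArg Subtype.val (Subsingleton.elim
            (⟨x • ω, ⟨⟨x, hx⟩, rfl⟩⟩ : MulAction.orbit (P : Subgroup G) ω)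
            ⟨ω, MulAction.mem_orbit_self ω⟩)
        have h1 : 1 ≤ (F.filter fun ω' => q ω' = q ω).card := Finset.card_pos.mpr ⟨ω, hωF⟩
        have h2 := Nat.mul_le_mul_left (p - 1) h1
        rw [pow_zero]
        omega
      · exact le_add_left (Nat.le_self_pow hk0.ne' p)
    calc p * Nat.card (MulAction.orbitRel.Quotient (P : Subgroup G) Ω)
        = ∑ _c : MulAction.orbitRel.Quotient (P : Subgroup G) Ω, p := by
          rw [Finset.sum_const, Finset.card_univ, Nat.card_eq_fintype_card, smul_eq_mul, mul_comm]
      _ ≤ ∑ c, ((p - 1) * (F.filter fun ω => q ω = c).card +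
            (Finset.univ.filter fun ω => q ω = c).card) := Finset.sum_le_sum fun c _ => hterm c
      _ = (p - 1) * F.card + Nat.card Ω := by
          rw [Finset.sum_add_distrib, ← Finset.mul_sum,
            ← Finset.card_eq_sum_card_fiberwise (fun _ _ => Finset.mem_univ _),
            ← Finset.card_eq_sum_card_fiberwise (fun _ _ => Finset.mem_univ _),
            Finset.card_univ, Nat.card_eq_fintype_card]
  have hp := (Fact.out : p.Prime).one_le
  refine Nat.le_of_mul_le_mul_left ?_ hp
  zify [hp, show 1 ≤ 2 * p by omega] at horb ⊢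
  nlinarith [mul_le_mul_of_nonneg_left horb (show (0 : ℤ) ≤ 2 * (p : ℤ) - 1 by omega),
    mul_le_mul_of_nonneg_left hfix (show (0 : ℤ) ≤ (p : ℤ) - 1 by omega)]

end Cfsg.Agent.S3580
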