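import Cfsg.Statements.S3590
import Cfsg.Agent.SpecSpEight.Witness
import Cfsg.Agent.Spectrum.SpBasic
import Cfsg.Agent.Spectrum.Orders
import Cfsg.Agent.Isospectral.Basic

set_option autoImplicit false
open Cfsg Module QuadraticMap Cfsg.Agent.Classical Cfsg.Agent.Classical.Quad Cfsg.Agent.SpecSpEight

namespace Cfsg.Agent.S3590

/-- Let F be a finite field of characteristic 2. Then PSp(8,F) is not determined by its set of element orders, not even up to finitely many groups: for every bound there is a finite group of larger order with exactly the same set of element orders as PSp(8,F). -/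
theorem result {F : Type*} [Field F] [Fintype F]
    [CharP F 2] (M : ℕ) :
    ∃ (H : Type) (_ : Group H) (_ : Fintype H), M < Fintype.card H ∧ Set.range (orderOf : H → ℕ) = Set.range (orderOf : Cfsg.PSp 4 F → ℕ) := by
  classical
  obtain ⟨ζ, hζ⟩ := exists_rootfree (F := F)
  have hab := rootfree_aniso hζ
  set Q := hyp (binForm (1 : F) ζ) 3 with hQdef
  have hn : finrank F (Sp F 3) = 2 * 4 := by
    simp only [Module.finrank_prod, Module.finrank_fin_fun, Module.finrank_self]
  have hQ : (polarBilin Q).Nondegenerate := nondeg_hyp (nondeg_binForm hab) 3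
  have hex : Nat.card F ≠ 2 ∨ finrank F (Sp F 3) ≠ 4 := Or.inr (by omega)
  have hB : ∀ u, (∀ v, polarBilin Q u v = 0) → u = 0 := fun u hu => eq_zero_of_polar hQ hu
  have hA : LinearMap.BilinForm.IsAlt (polarBilin Q) := fun x => by
    show polar Q x x = 0
    rw [polar_self', CharTwo.two_eq_zero, zero_mul]
  have hle : oG Q ≤ Alt.isoGroup (polarBilin Q) := fun g hg x y => polar_eq_of_mem hg x y
  haveI : Finite (Sp F 3) := Module.finite_of_finite F
  haveI : Finite (Sp F 3 ≃ₗ[F] Sp F 3) :=
    Finite.of_injective (fun g : Sp F 3 ≃ₗ[F] Sp F 3 => (g : Sp F 3 → Sp F 3)) DFunLike.coe_injective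
  haveI : Finite (Ext hQ hex) := Finite.of_equiv _ SemidirectProduct.equivProd.symm
  obtain ⟨φ, hφs, hφ⟩ := Spectrum.exists_psp_of_iso (n := 4) (by omega) hn hA hQ
  have hord : ∀ g, orderOf (φ g) = orderOf g := fun g => by
    refine Nat.dvd_antisymm (orderOf_map_dvd φ g) (orderOf_dvd_of_pow_eq_one ?_)
    obtain ⟨c, hc, hx⟩ := (hφ g _).1 dvd_rfl
    rw [← pow_two, sq_eq_one_iff, CharTwo.neg_eq, or_self] at hc
    refine Subtype.ext (LinearEquiv.ext fun x => ?_)
    rw [SubgroupClass.coe_pow, hx x, hc, one_smul]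
    rfl
  -- the bound for an isometry of the alternating form
  have hbound : ∀ g : Alt.isoGroup (polarBilin Q), ∃ P ∈ T8 (Fintype.card F),
      g ^ (2 ^ P.1 * P.2) = 1 ∧ (finrank F (LinearMap.ker ((g.1 : Module.End F (Sp F 3)) - 1)) ≠ 1 →
        ∀ x, ∑ i ∈ Finset.range (2 ^ P.1 * P.2), (g ^ i).1 x = 0) := by
    intro g
    have hpow : ∀ n : ℕ, ((g.1 : Module.End F (Sp F 3)) ^ n) = ((g ^ n).1 : Module.End F (Sp F 3)) := by
      intro n
      induction n with
      | zero => rfl
      | succ n ih => rw [pow_succ, pow_succ, ih]; rfl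
    obtain ⟨P, hP, h1, h2⟩ := exists_bound (polarBilin Q) hB (hn.le.trans (by norm_num)) (g := (g.1 : Module.End F (Sp F 3)))
      (g' := (g.1.symm : Module.End F (Sp F 3))) (LinearMap.ext fun x => g.1.apply_symm_apply x)
      (LinearMap.ext fun x => g.1.symm_apply_apply x) (fun u v => g.2 u v)
    refine ⟨P, hP, Subtype.ext (LinearEquiv.ext fun x => ?_), fun hne x => ?_⟩
    · rw [hpow] at h1
      exact LinearMap.congr_fun h1 x
    · have h3 := LinearMap.congr_fun (h2 hne) x
      rw [LinearMap.sum_apply, LinearMap.zero_apply] at h3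
      simpa [hpow] using h3
  have hspec : Set.range (orderOf : Ext hQ hex → ℕ) = Set.range (orderOf : Cfsg.PSp 4 F → ℕ) := by
    apply Set.Subset.antisymm
    · rintro _ ⟨h, rfl⟩
      set g : Alt.isoGroup (polarBilin Q) := ⟨h.right.1.1, hle h.right.1.2⟩ with hg
      obtain ⟨P, hP, hgp, hgs⟩ := hbound g
      have hne : finrank F (LinearMap.ker ((g.1 : Module.End F (Sp F 3)) - 1)) ≠ 1 := by
        intro h1
        have hfix : LinearMap.ker ((g.1 : Module.End F (Sp F 3)) - 1) = fixSub h.right.1 := by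
          ext x
          simp [mem_fixSub, sub_eq_zero, hg]
        have h2 : dsign h.right.1 = 1 := h.right.2
        rw [dsign, ← hfix, h1, hn] at h2
        norm_num at h2
      have hgpow : ∀ n : ℕ, (g ^ n).1 = (h.right.1 ^ n).1 := fun n => by
        rw [SubgroupClass.coe_pow, SubgroupClass.coe_pow]
      have hh : h ^ (2 ^ P.1 * P.2) = 1 := by
        refine SemidirectProduct.ext ?_ ?_
        · apply Multiplicative.toAdd.injective
          rw [(ext_pow_eq hQ hex h _).2, SemidirectProduct.one_left, toAdd_one,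
            ← hgs hne (Multiplicative.toAdd h.left)]
          exact Finset.sum_congr rfl fun i _ => by rw [hgpow]
        · rw [(ext_pow_eq hQ hex h _).1]
          refine Subtype.ext (Subtype.ext ?_)
          have e := congrArg Subtype.val hgp
          rw [hgpow] at e
          simpa using e
      obtain ⟨⟨g', hg'⟩, -⟩ := exists_wit hab hQ hex hP
      have hd : orderOf h ∣ orderOf (φ (Subgroup.inclusion hle g')) := by
        rw [hord, orderOf_injective _ (Subgroup.inclusion_injective hle)]
        exact (orderOf_dvd_of_pow_eq_one hh).trans hg'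
      obtain ⟨x, hx⟩ := Spectrum.exists_orderOf_eq_of_dvd (orderOf_pos _).ne' hd
      exact ⟨x, hx⟩
    · rintro _ ⟨y, rfl⟩
      obtain ⟨g, rfl⟩ := hφs y
      obtain ⟨P, hP, hgp, -⟩ := hbound g
      obtain ⟨-, h', hh'⟩ := exists_wit hab hQ hex hP
      have hd : orderOf (φ g) ∣ orderOf h' := by
        rw [hord]
        exact (orderOf_dvd_of_pow_eq_one hgp).trans hh'
      obtain ⟨x, hx⟩ := Spectrum.exists_orderOf_eq_of_dvd (orderOf_pos h').ne' hd
      exact ⟨x, hx⟩
  have hne : Isospectral.HasElemNormal (Ext hQ hex) := by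
    refine ⟨2, (SemidirectProduct.inl : Multiplicative (Sp F 3) →* Ext hQ hex).range, Nat.prime_two, ?_, ?_, ?_, ?_⟩
    · rw [SemidirectProduct.range_inl_eq_ker_rightHom]; infer_instance
    · rw [Ne, MonoidHom.range_eq_bot_iff]
      intro h
      have h2 : (SemidirectProduct.inl : Multiplicative (Sp F 3) →* Ext hQ hex)
          (Multiplicative.ofAdd (((0, 0), (1, 0)) : Sp F 3)) = 1 := by rw [h]; rfl
      have h3 : (((0, 0), (1, 0)) : Sp F 3) = 0 := congrArg (fun e : Ext hQ hex => Multiplicative.toAdd e.left) h2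
      exact one_ne_zero (congrArg (fun y : Sp F 3 => y.2.1) h3)
    · rintro _ ⟨u, rfl⟩ _ ⟨v, rfl⟩
      rw [← map_mul, mul_comm, map_mul]
    · rintro _ ⟨u, rfl⟩
      rw [← map_pow, pow_two]
      rw [show u * u = 1 from add_self_zero F (Multiplicative.toAdd u), map_one]
  obtain ⟨H, i1, i2, hlt, hr⟩ := Isospectral.exists_large hne M
  exact ⟨H, i1, i2, hlt, hr.trans hspec⟩

end Cfsg.Agent.S3590
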