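import Cfsg.Statements.S3592
import Cfsg.Agent.Fg24.M11.Nse
import Cfsg.Agent.Compute.Mathieu

set_option autoImplicit false
open Cfsg

namespace Cfsg.Agent.S3592

/-- The possible numbers of Sylow subgroups. -/
theorem arith11 : ∀ n ∈ Nat.divisors 720, n % 11 = 1 →
    (n * 10 ∈ [0, 1, 440, 1584, 1440] ∨ 165 ∣ n * 10) → n * 10 = 1440 := by decide +kernel

/-- The possible numbers of Sylow subgroups. -/
theorem arith5 : ∀ n ∈ Nat.divisors 1584, n % 5 = 1 →
    (n * 4 ∈ [0, 1, 440, 1584, 1440] ∨ 165 ∣ n * 4) → n * 4 = 1584 := by decide +kernel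

/-- Let M be the Mathieu group M₁₁ (order 7920). If a finite group G has the same order as M and the same set of values of the function 'number of elements of order n' (taken over the element orders n that occur), then G is isomorphic to M. -/
theorem result {G : Type*} [Group G] [Finite G]
    (hcard : Nat.card G = Nat.card ↥Cfsg.Spor.M11)
    (hnse : {c : ℕ | 0 < c ∧ ∃ n : ℕ, c = Nat.card {g : G // orderOf g = n}} =
      {c : ℕ | 0 < c ∧ ∃ n : ℕ, c = Nat.card {g : ↥Cfsg.Spor.M11 // orderOf g = n}}) :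
    Nonempty (G ≃* ↥Cfsg.Spor.M11) := by
  classical
  haveI := Cfsg.Agent.Compute.isSimpleGroup_m11
  have hM : Nat.card Cfsg.Spor.M11 = 7920 := Cfsg.Agent.Compute.card_m11
  haveI : Finite Cfsg.Spor.M11 := Nat.finite_of_card_ne_zero (by rw [hM]; norm_num)
  letI := Fintype.ofFinite Cfsg.Spor.M11
  letI := Fintype.ofFinite G
  rw [hM] at hcard
  haveI h5 : Fact (Nat.Prime 5) := ⟨by norm_num⟩
  haveI h11 : Fact (Nat.Prime 11) := ⟨by norm_num⟩
  have key : ∀ (p : ℕ) [Fact p.Prime], (p = 5 ∨ p = 11) →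
      (∀ n ∈ Nat.divisors (7920 / p), n % p = 1 →
        (n * (p - 1) ∈ [0, 1, 440, 1584, 1440] ∨ 165 ∣ n * (p - 1)) →
          n * (p - 1) = if p = 5 then 1584 else 1440) →
      Nat.card {g : G // orderOf g = p} = if p = 5 then 1584 else 1440 := by
    intro p _ hp hdec
    obtain ⟨g, hg⟩ := exists_prime_orderOf_dvd_card' (G := G) p
      (by rw [hcard]; rcases hp with rfl | rfl <;> norm_num)
    have hN := Fg24.M11.card_normalizer_zpowers hcard hp hg
    have hpN : p ∣ Nat.card
        (Subgroup.normalizer ((Subgroup.zpowers g : Subgroup G) : Set G)) := by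
      conv_lhs => rw [← hg]
      exact Subgroup.orderOf_dvd_natCard _ (Subgroup.le_normalizer (Subgroup.mem_zpowers g))
    have hdvd : Nat.card (Sylow p G) ∣ 7920 / p :=
      Nat.dvd_div_of_mul_dvd (by rw [mul_comm, ← hN]; exact mul_dvd_mul_left _ hpN)
    have hmod : Nat.card (Sylow p G) % p = 1 := by
      rw [card_sylow_modEq_one p G]; exact Nat.one_mod_eq_one.2 (Fact.out : p.Prime).ne_one
    have hmem : Nat.card {g : G // orderOf g = p} ∈
        {c : ℕ | 0 < c ∧ ∃ n : ℕ, c = Nat.card {g : G // orderOf g = n}} :=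
      ⟨Nat.card_pos_iff.2 ⟨⟨⟨g, hg⟩⟩, inferInstance⟩, p, rfl⟩
    rw [hnse] at hmem
    obtain ⟨-, n, hn⟩ := hmem
    have hc := Fg24.M11.count_cases hM n
    rw [← hn, Fg24.M11.count_prime hcard hp] at hc
    rw [Fg24.M11.count_prime hcard hp]
    exact hdec _ (Nat.mem_divisors.2 ⟨hdvd, by rcases hp with rfl | rfl <;> norm_num⟩) hmod hc
  have e5 := key 5 (Or.inl rfl) fun n hn h1 h2 => arith5 n hn h1 h2
  have e11 := key 11 (Or.inr rfl) fun n hn h1 h2 => arith11 n hn h1 h2
  rw [if_pos rfl] at e5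
  rw [if_neg (by norm_num)] at e11
  haveI : IsSimpleGroup G := Fg24.M11.simple_of_counts hcard e11 e5
  exact Fg24.M11.unique_7920 hcard hM

end Cfsg.Agent.S3592
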