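import Cfsg.Statements.S3595
import Cfsg.Agent.Fg24.M23.Ident
import Cfsg.Agent.Fg24.M23.Nse
import Cfsg.Agent.Compute.Mathieu
-- import your own Cfsg.Agent.* helpers here

set_option autoImplicit false
open Cfsg

namespace Cfsg.Agent.S3595

/-- Let M be the Mathieu group M₂₃ (order 10200960). If a finite group G has the same order as M and the same set of values of the function 'number of elements of order n' (taken over the element orders n that occur), then G is isomorphic to M. -/
theorem result {G : Type*} [Group G] [Finite G]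
    (hcard : Nat.card G = Nat.card ↥Cfsg.Spor.M23)
    (hnse : {c : ℕ | 0 < c ∧ ∃ n : ℕ, c = Nat.card {g : G // orderOf g = n}} =
      {c : ℕ | 0 < c ∧ ∃ n : ℕ, c = Nat.card {g : ↥Cfsg.Spor.M23 // orderOf g = n}}) :
    Nonempty (G ≃* ↥Cfsg.Spor.M23) := by
  have hM : Nat.card Cfsg.Spor.M23 = 10200960 := Cfsg.Agent.Compute.card_m23
  haveI := Cfsg.Agent.Compute.isSimpleGroup_m23
  haveI : Finite Cfsg.Spor.M23 := Nat.finite_of_card_ne_zero (by rw [hM]; norm_num)
  letI := Fintype.ofFinite Cfsg.Spor.M23
  letI := Fintype.ofFinite G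
  rw [hM] at hcard
  haveI : IsSimpleGroup G := Fg24.M23.simple_of_counts hcard fun n => by
    rcases Nat.eq_zero_or_pos (Nat.card {g : G // orderOf g = n}) with h | h
    · exact Or.inl h
    have hmem : Nat.card {g : G // orderOf g = n} ∈
        {c : ℕ | 0 < c ∧ ∃ n : ℕ, c = Nat.card {g : G // orderOf g = n}} := ⟨h, n, rfl⟩
    rw [hnse] at hmem
    obtain ⟨-, m, hm⟩ := hmem
    rw [hm]
    exact Fg24.M23.counts_of_simple hM m
  exact Fg24.M23.unique_ord hcard hM

end Cfsg.Agent.S3595
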