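import Cfsg.Statements.S3596
import Cfsg.Agent.S0364
import Cfsg.Agent.M24Nse.Local
import Cfsg.Agent.M24Nse.Model
import Cfsg.Agent.M24Nse.Ident

set_option autoImplicit false
open Cfsg

namespace Cfsg.Agent.S3596

/-- Let M be the Mathieu group M₂₄ (order 244823040). If a finite group G has the same order as M and the same set of values of the function 'number of elements of order n' (taken over the element orders n that occur), then G is isomorphic to M. -/
theorem result {G : Type*} [Group G] [Finite G]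
    (hcard : Nat.card G = Nat.card ↥Cfsg.M24)
    (hnse : {c : ℕ | 0 < c ∧ ∃ n : ℕ, c = Nat.card {g : G // orderOf g = n}} =
      {c : ℕ | 0 < c ∧ ∃ n : ℕ, c = Nat.card {g : ↥Cfsg.M24 // orderOf g = n}}) :
    Nonempty (G ≃* ↥Cfsg.M24) := by
  classical
  have hM : Nat.card ↥Cfsg.M24 = M24Nse.ord := Cfsg.Agent.S0364.result
  have : Finite ↥Cfsg.M24 := Nat.finite_of_card_ne_zero (by rw [hM]; norm_num [M24Nse.ord])
  have := Fintype.ofFinite G
  have := Fintype.ofFinite ↥Cfsg.M24
  have hc : ∀ n, M24Nse.Counts (Nat.card {g : G // orderOf g = n}) := by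
    intro n
    rcases Nat.eq_zero_or_pos (Nat.card {g : G // orderOf g = n}) with h | h
    · rw [h]
      exact Or.inr <| Or.inr <| Or.inr <| Or.inr <| Or.inr <| Or.inr <| Or.inr <| Or.inr <|
        Or.inr <| Or.inr <| Or.inr <| dvd_zero _
    · obtain ⟨_, k, hk⟩ := Set.ext_iff.1 hnse _ |>.1 ⟨h, n, rfl⟩
      rw [hk]
      exact M24Nse.counts_m24 k
  exact M24Nse.unique_facts (M24Nse.facts_of_counts (hcard.trans hM) hc)
    (M24Nse.facts_of_counts hM M24Nse.counts_m24)

end Cfsg.Agent.S3596
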