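import Mathlib
import Cfsg.Statements.S3599
import Cfsg.Agent.CriticalSpec.Frob

set_option autoImplicit false
open Cfsg

namespace Cfsg.Agent.S3599
open Cfsg.Agent.CriticalSpec

section

variable {s : ℕ} (p : Fin s → Fin 2 → ℕ) [hp : ∀ j i, Fact (p j i).Prime]

/-- The product group attached to a choice of orientations. -/
abbrev Grp (c : Fin s → Fin 2) : Type := ∀ j, F (p j (c j)) (p j (1 - c j))

variable {p} {c : Fin s → Fin 2}

theorem ne_of_hinj (hinj : ∀ j i j' i', p j i = p j' i' → j = j' ∧ i = i') (j : Fin s) :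
    p j (c j) ≠ p j (1 - c j) := fun h => by
  have := (hinj _ _ _ _ h).2
  revert this
  generalize c j = i
  fin_cases i <;> decide

theorem order_comp (x : Grp p c) (j : Fin s) :
    orderOf (x j) = 1 ∨ orderOf (x j) = p j 0 ∨ orderOf (x j) = p j 1 := by
  rcases orderOf_cases (x j) with h | h | h <;> rw [h] <;>
    · generalize c j = i
      fin_cases i <;> simp

theorem order_prod (hinj : ∀ j i j' i', p j i = p j' i' → j = j' ∧ i = i') (x : Grp p c) :
    orderOf x = ∏ j, orderOf (x j) := by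
  refine Nat.dvd_antisymm ?_ ?_
  · rw [orderOf_dvd_iff_pow_eq_one]
    funext j
    rw [Pi.pow_apply, Pi.one_apply, ← orderOf_dvd_iff_pow_eq_one]
    exact Finset.dvd_prod_of_mem _ (Finset.mem_univ j)
  · suffices ∀ t : Finset (Fin s), ∏ j ∈ t, orderOf (x j) ∣ orderOf x from this Finset.univ
    intro t
    induction t using Finset.induction with
    | empty => simp
    | insert a t ha ih =>
      rw [Finset.prod_insert ha]
      refine Nat.Coprime.mul_dvd_of_dvd_of_dvd (Nat.Coprime.prod_right fun b hb => ?_) ?_ ih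
      · have hab : a ≠ b := fun e => ha (e ▸ hb)
        rcases order_comp x a with h | h | h <;> rcases order_comp x b with h' | h' | h' <;> rw [h, h'] <;>
          first
            | exact Nat.coprime_one_left _
            | exact Nat.coprime_one_right _
            | exact (Nat.coprime_primes (hp _ _).out (hp _ _).out).2 fun e => hab (hinj _ _ _ _ e).1
      · exact orderOf_dvd_iff_pow_eq_one.2 (by rw [← Pi.pow_apply, pow_orderOf_eq_one, Pi.one_apply])

theorem spec (hinj : ∀ j i j' i', p j i = p j' i' → j = j' ∧ i = i') :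
    Set.range (orderOf : Grp p c → ℕ) =
      {m : ℕ | ∃ d : Fin s → ℕ, (∀ j, d j = 1 ∨ d j = p j 0 ∨ d j = p j 1) ∧ m = ∏ j, d j} := by
  ext m
  constructor
  · rintro ⟨x, rfl⟩
    exact ⟨fun j => orderOf (x j), order_comp x, order_prod hinj x⟩
  · rintro ⟨d, hd, rfl⟩
    have hx : ∀ j, ∃ y : F (p j (c j)) (p j (1 - c j)), orderOf y = d j := by
      intro j
      obtain ⟨hy, hz⟩ := exists_orderOf (q := p j (c j)) (p := p j (1 - c j)) (ne_of_hinj hinj j)
      rcases hd j with h | h | h <;> rw [h]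
      · exact ⟨1, orderOf_one⟩
      all_goals
        revert hy hz
        generalize hi : c j = i
        clear hi
        fin_cases i <;> simp <;> intro a ha b hb <;> first | exact ⟨a, ha⟩ | exact ⟨b, hb⟩
    choose x hx using hx
    exact ⟨x, (order_prod hinj x).trans (Finset.prod_congr rfl fun j _ => hx j)⟩

theorem prime_mem (j : Fin s) (i : Fin 2) :
    p j i ∈ {m : ℕ | ∃ d : Fin s → ℕ, (∀ j, d j = 1 ∨ d j = p j 0 ∨ d j = p j 1) ∧ m = ∏ j, d j} := by
  classical
  refine ⟨Function.update (fun _ => 1) j (p j i), fun j' => ?_, ?_⟩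
  · by_cases h : j' = j
    · subst h
      rw [Function.update_self]
      fin_cases i <;> simp
    · exact Or.inl (Function.update_of_ne h _ _)
  · rw [Finset.prod_update_of_mem (Finset.mem_univ j)]
    simp

/-- An element of prime order is supported on one coordinate. -/
theorem eq_single (hinj : ∀ j i j' i', p j i = p j' i' → j = j' ∧ i = i') (x : Grp p c) (j : Fin s) (i : Fin 2)
    (hx : orderOf x = p j i) : Pi.mulSingle j (x j) = x ∧ orderOf (x j) = p j i := by
  classical
  have hsupp : ∀ j', j' ≠ j → x j' = 1 := by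
    intro j' hj'
    have hd : orderOf (x j') ∣ p j i := hx ▸ order_prod hinj x ▸ Finset.dvd_prod_of_mem _ (Finset.mem_univ j')
    rcases order_comp x j' with h | h | h
    · exact orderOf_eq_one_iff.1 h
    all_goals
      rw [h] at hd
      exact absurd (hinj _ _ _ _ ((Nat.prime_dvd_prime_iff_eq (hp _ _).out (hp _ _).out).1 hd)).1 hj'
  have e : Pi.mulSingle j (x j) = x := by
    funext j'
    by_cases h : j' = j
    · subst h; rw [Pi.mulSingle_eq_same]
    · rw [Pi.mulSingle_eq_of_ne h, hsupp j' h]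
  refine ⟨e, ?_⟩
  have h := order_prod hinj x
  rw [Finset.prod_eq_single j (fun j' _ h' => by rw [hsupp j' h', orderOf_one]) (fun h' => absurd (Finset.mem_univ j) h'),
    hx] at h
  exact h.symm

theorem critical (hinj : ∀ j i j' i', p j i = p j' i' → j = j' ∧ i = i') (H : Subgroup (Grp p c)) (N : Subgroup ↥H)
    [N.Normal] (hne : H ≠ ⊤ ∨ N ≠ ⊥) :
    Set.range (orderOf : (↥H ⧸ N) → ℕ) ≠
      {m : ℕ | ∃ d : Fin s → ℕ, (∀ j, d j = 1 ∨ d j = p j 0 ∨ d j = p j 1) ∧ m = ∏ j, d j} := by
  classical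
  intro hΩ
  have hel : ∀ j i, ∃ x : Grp p c, x ∈ H ∧ orderOf (x j) = p j i ∧ Pi.mulSingle j (x j) = x := by
    intro j i
    obtain ⟨y, hy⟩ : p j i ∈ Set.range (orderOf : (↥H ⧸ N) → ℕ) := hΩ ▸ prime_mem j i
    obtain ⟨g, hg⟩ := exists_prime_orderOf_dvd_card' (G := H) (p j i)
      ((hy ▸ orderOf_dvd_natCard y).trans (Subgroup.card_quotient_dvd_card N))
    rw [← Subgroup.orderOf_coe] at hg
    obtain ⟨e, ho⟩ := eq_single hinj (g : Grp p c) j i hg
    exact ⟨g, g.2, ho, e⟩
  have hsingle : ∀ j (u : F (p j (c j)) (p j (1 - c j))), Pi.mulSingle j u ∈ H := by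
    intro j u
    obtain ⟨x, hx, hxo, hxe⟩ := hel j (1 - c j)
    obtain ⟨y, hy, hyo, hye⟩ := hel j (c j)
    have htop := eq_top (ne_of_hinj hinj j) (H.comap (MonoidHom.mulSingle (fun j => F (p j (c j)) (p j (1 - c j))) j))
      (x := x j) (y := y j) (show Pi.mulSingle j (x j) ∈ H from hxe.symm ▸ hx)
      (show Pi.mulSingle j (y j) ∈ H from hye.symm ▸ hy) hxo hyo
    exact (htop.ge (Subgroup.mem_top u) :)
  have hH : H = ⊤ := eq_top_iff.2 fun x _ => Subgroup.pi_mem_of_mulSingle_mem x fun j => hsingle j (x j)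
  subst hH
  have hN : N ≠ ⊥ := hne.resolve_left fun h => h rfl
  obtain ⟨r, hr, hrd⟩ := Nat.exists_prime_and_dvd (fun h => hN (Subgroup.card_eq_one.1 h))
  haveI := Fact.mk hr
  obtain ⟨z, hz⟩ := exists_prime_orderOf_dvd_card' (G := N) r hrd
  rw [← Subgroup.orderOf_coe, ← Subgroup.orderOf_coe] at hz
  -- the prime is one of ours
  obtain ⟨j, i, hzo⟩ : ∃ j i, orderOf (((z : (⊤ : Subgroup (Grp p c))) : Grp p c)) = p j i := by
    set x : Grp p c := ((z : (⊤ : Subgroup (Grp p c))) : Grp p c)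
    have hd : r ∣ ∏ j, orderOf (x j) := by rw [← order_prod hinj x, hz]
    obtain ⟨j, -, hj⟩ := (hr.prime.dvd_finsetProd_iff _).1 hd
    rcases order_comp x j with h | h | h <;> rw [h] at hj
    · exact absurd (Nat.dvd_one.1 hj) hr.one_lt.ne'
    · exact ⟨j, 0, by rw [hz, (Nat.prime_dvd_prime_iff_eq hr (hp _ _).out).1 hj]⟩
    · exact ⟨j, 1, by rw [hz, (Nat.prime_dvd_prime_iff_eq hr (hp _ _).out).1 hj]⟩
  obtain ⟨hze, hzoj⟩ := eq_single hinj _ j i hzo
  let ι : F (p j (c j)) (p j (1 - c j)) →* (⊤ : Subgroup (Grp p c)) :=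
    (Subgroup.topEquiv.symm.toMonoidHom).comp (MonoidHom.mulSingle (fun j => F (p j (c j)) (p j (1 - c j))) j)
  have hι : ∀ u, ((ι u : (⊤ : Subgroup (Grp p c))) : Grp p c) = Pi.mulSingle j u := fun u => rfl
  haveI : (N.comap ι).Normal := inferInstance
  have hkill : ∀ u : F (p j (c j)) (p j (1 - c j)), u ^ p j (c j) = 1 → ι u ∈ N := fun u hu => by
    refine mem_of_normal (ne_of_hinj hinj j) (N.comap ι)
      (x := (((z : (⊤ : Subgroup (Grp p c))) : Grp p c)) j) ?_ (fun h => ?_) hu
    · show ι _ ∈ N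
      have : ι ((((z : (⊤ : Subgroup (Grp p c))) : Grp p c)) j) = (z : (⊤ : Subgroup (Grp p c))) :=
        Subtype.ext ((hι _).trans hze)
      rw [this]; exact z.2
    · rw [h, orderOf_one] at hzoj; exact (hp j i).out.one_lt.ne hzoj
  -- the quotient has an element of that order
  obtain ⟨y, hy⟩ : p j (c j) ∈ Set.range (orderOf : (↥(⊤ : Subgroup (Grp p c)) ⧸ N) → ℕ) := hΩ ▸ prime_mem j (c j)
  obtain ⟨g, rfl⟩ := QuotientGroup.mk'_surjective N y
  set q := p j (c j)
  have hq : q.Prime := (hp _ _).out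
  have hqd : q ∣ orderOf g := hy ▸ orderOf_map_dvd _ g
  have hg0 : orderOf g ≠ 0 := (orderOf_pos g).ne'
  have hndvd : ¬ q ∣ orderOf g / q := by
    intro h
    have h2 : q * q ∣ orderOf g := (Nat.dvd_div_iff_mul_dvd hqd).1 h
    rw [← Subgroup.orderOf_coe, order_prod hinj] at h2
    rw [← Finset.mul_prod_erase _ _ (Finset.mem_univ j)] at h2
    have hcop : (q * q).Coprime (∏ j' ∈ Finset.univ.erase j, orderOf ((g : Grp p c) j')) := by
      refine Nat.Coprime.prod_right fun j' hj' => ?_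
      have hne' : j' ≠ j := Finset.ne_of_mem_erase hj'
      have : q.Coprime (orderOf ((g : Grp p c) j')) := by
        rcases order_comp (g : Grp p c) j' with h' | h' | h' <;> rw [h'] <;>
          first
            | exact Nat.coprime_one_right _
            | exact (Nat.coprime_primes hq (hp _ _).out).2 fun e => hne' (hinj _ _ _ _ e).1.symm
      exact Nat.Coprime.mul_left this this
    have h3 := hcop.dvd_of_dvd_mul_right h2
    rcases order_comp (g : Grp p c) j with h' | h' | h' <;> rw [h'] at h3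
    · have := Nat.dvd_one.1 h3; exact hq.one_lt.ne' (Nat.eq_one_of_mul_eq_one_left this)
    all_goals
      have h4 := (Nat.prime_dvd_prime_iff_eq hq (hp _ _).out).1 ((dvd_mul_right q q).trans h3)
      rw [← h4] at h3
      exact absurd (Nat.le_of_dvd hq.pos h3) (by nlinarith [hq.two_le])
  have hgo : orderOf (g ^ (orderOf g / q)) = q := orderOf_pow_orderOf_div hg0 hqd
  have hmem : g ^ (orderOf g / q) ∈ N := by
    rw [← Subgroup.orderOf_coe] at hgo
    obtain ⟨he, hoj⟩ := eq_single hinj _ j (c j) hgo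
    have : g ^ (orderOf g / q) = ι (((g ^ (orderOf g / q) : (⊤ : Subgroup (Grp p c))) : Grp p c) j) :=
      Subtype.ext ((hι _).trans he).symm
    rw [this]
    exact hkill _ (orderOf_dvd_iff_pow_eq_one.1 hoj.dvd)
  have h1 : (QuotientGroup.mk' N g) ^ (orderOf g / q) = 1 := by
    rw [← map_pow]; exact (QuotientGroup.eq_one_iff _).2 hmem
  exact hndvd ((dvd_of_eq hy.symm).trans (orderOf_dvd_of_pow_eq_one h1))

theorem not_iso (hinj : ∀ j i j' i', p j i = p j' i' → j = j' ∧ i = i') {c' : Fin s → Fin 2} (h : c ≠ c') :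
    ¬ Nonempty (Grp p c ≃* Grp p c') := by
  classical
  rintro ⟨e⟩
  obtain ⟨j, hj⟩ := Function.ne_iff.1 h
  have hq : p j (c j) = p j (1 - c' j) := by
    congr 1
    revert hj
    generalize c j = a
    generalize c' j = b
    fin_cases a <;> fin_cases b <;> decide
  obtain ⟨x, y, hx, hy, hxy⟩ := not_closed (q := p j (c' j)) (p := p j (1 - c' j)) (ne_of_hinj hinj j)
  replace hx : x ^ p j (c j) = 1 := (congrArg (fun n => x ^ n) hq).trans hx
  replace hy : y ^ p j (c j) = 1 := (congrArg (fun n => y ^ n) hq).trans hy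
  replace hxy : (x * y) ^ p j (c j) ≠ 1 := fun h' => hxy ((congrArg (fun n => (x * y) ^ n) hq).symm.trans h')
  set q := p j (c j)
  have hclosed : ∀ u v : Grp p c, u ^ q = 1 → v ^ q = 1 → (u * v) ^ q = 1 := by
    intro u v hu hv
    funext j'
    have hu' := congrFun hu j'
    have hv' := congrFun hv j'
    rw [Pi.pow_apply, Pi.one_apply] at hu' hv' ⊢
    by_cases hj' : j' = j
    · subst hj'
      exact commute_of_pow (ne_of_hinj hinj j') hu' hv'
    · have key : ∀ w : Grp p c, w j' ^ q = 1 → w j' = 1 := fun w hw => by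
        have hd := orderOf_dvd_of_pow_eq_one hw
        rcases order_comp w j' with h' | h' | h'
        · exact orderOf_eq_one_iff.1 h'
        all_goals
          rw [h'] at hd
          exact absurd (hinj _ _ _ _ ((Nat.prime_dvd_prime_iff_eq (hp _ _).out (hp _ _).out).1 hd)).1 hj'
      rw [Pi.mul_apply, key u hu', key v hv', one_mul, one_pow]
  have hs : ∀ w : F (p j (c' j)) (p j (1 - c' j)), w ^ q = 1 → (e.symm (Pi.mulSingle j w)) ^ q = 1 := fun w hw => by
    rw [← map_pow, ← Pi.mulSingle_pow, hw, Pi.mulSingle_one, map_one]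
  have h2 := congrArg e (hclosed _ _ (hs x hx) (hs y hy))
  rw [map_pow, map_mul, e.apply_symm_apply, e.apply_symm_apply, map_one, ← Pi.mulSingle_mul, ← Pi.mulSingle_pow,
    Pi.mulSingle_eq_one_iff] at h2
  exact hxy h2

end


/-- A finite group is critical with respect to a set Ω of natural numbers when its set of element orders is Ω while no proper section H/N (H a subgroup, N normal in H, (H, N) ≠ (whole group, 1)) has Ω as its set of element orders. Let s ≥ 1 and let p(j,0), p(j,1) (j < s) be 2s pairwise distinct primes, and let Ω be the set of all products c(0)·…·c(s−1) with each c(j) ∈ {1, p(j,0), p(j,1)}. Then there are 2^s pairwise non-isomorphic finite groups critical with respect to Ω. -/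
theorem result (s : ℕ) (hs : 1 ≤ s) (p : Fin s → Fin 2 → ℕ)
    (hp : ∀ j i, (p j i).Prime) (hinj : ∀ j i j' i', p j i = p j' i' → j = j' ∧ i = i') :
    ∃ (G : Fin (2 ^ s) → Type) (_ : ∀ a, Group (G a)) (_ : ∀ a, Fintype (G a)),
      (∀ a b, a ≠ b → ¬ Nonempty (G a ≃* G b)) ∧
      ∀ a, Set.range (orderOf : (G a) → ℕ) = {m : ℕ | ∃ c : Fin s → ℕ, (∀ j, c j = 1 ∨ c j = p j 0 ∨ c j = p j 1) ∧ m = ∏ j, c j} ∧
      ∀ (H : Subgroup (G a)) (N : Subgroup ↥H) [N.Normal], (H ≠ ⊤ ∨ N ≠ ⊥) → Set.range (orderOf : (↥H ⧸ N) → ℕ) ≠ {m : ℕ | ∃ c : Fin s → ℕ, (∀ j, c j = 1 ∨ c j = p j 0 ∨ c j = p j 1) ∧ m = ∏ j, c j} := by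
  haveI : ∀ j i, Fact (p j i).Prime := fun j i => ⟨hp j i⟩
  let e : Fin (2 ^ s) ≃ (Fin s → Fin 2) := finFunctionFinEquiv.symm
  exact ⟨fun a => Grp p (e a), fun a => inferInstance, fun a => Fintype.ofFinite _,
    fun a b hab => not_iso hinj (fun h => hab (e.injective h)),
    fun a => ⟨spec hinj, fun H N _ hne => critical hinj H N hne⟩⟩

end Cfsg.Agent.S3599
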