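import Cfsg.Statements.S3611
import Cfsg.Agent.HalfNorm.Main

set_option autoImplicit false
open Cfsg

namespace Cfsg.Agent.S3611

/-- Let G be an insoluble group acting faithfully and transitively on a finite set of prime size p, and suppose the normalizer of a Sylow p-subgroup of G has order p(p-1)/2. If p ≡ 3 (mod 4), then G is triply transitive, or for any two distinct points the stabilizer of both has exactly four orbits on the set (the two fixed points and exactly two orbits on the remaining p - 2 points). -/
theorem result {G Ω : Type*} [Group G] [Finite G] [MulAction G Ω] [FaithfulSMul G Ω] [Finite Ω]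
    (p : ℕ) (hp : p.Prime) (hΩ : Nat.card Ω = p) (htrans : MulAction.IsPretransitive G Ω)
    (hins : ¬ Group.IsSolvable G) (P : Sylow p G)
    (hN : 2 * Nat.card ↥(Subgroup.normalizer ((P : Subgroup G) : Set G)) = p * (p - 1))
    (hp3 : p % 4 = 3) :
    MulAction.IsMultiplyPretransitive G Ω 3 ∨
    ∀ α β : Ω, α ≠ β →
      Nat.card (MulAction.orbitRel.Quotient ↥(MulAction.stabilizer G α ⊓ MulAction.stabilizer G β) Ω) = 4 := by
  classical
  have : Fact p.Prime := ⟨hp⟩
  have := htrans
  have := Fintype.ofFinite Ω
  -- doubly transitive by Burnside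
  let G' := (MulAction.toPermHom G Ω).range
  let ι : G ≃* G' := MonoidHom.ofInjective MulAction.toPerm_injective
  have : MulAction.IsPretransitive G' Ω := ⟨fun a b => (MulAction.exists_smul_eq G a b).elim fun g hg => ⟨ι g, hg⟩⟩
  have h2' : MulAction.IsMultiplyPretransitive G' Ω 2 :=
    (Cfsg.Agent.S0675.result (by rwa [← Nat.card_eq_fintype_card, hΩ]) G').resolve_left
      fun h => hins (Group.isSolvable_of_isSolvable_injective (f := ι.toMonoidHom) ι.injective)
  have h2 : ∀ {a b c d : Ω}, a ≠ b → c ≠ d → ∃ g : G, g • a = c ∧ g • b = d := by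
    intro a b c d hab hcd
    obtain ⟨g, hg⟩ := (MulAction.is_two_pretransitive_iff.1 h2') hab hcd
    obtain ⟨g, rfl⟩ := ι.surjective g
    exact ⟨g, hg⟩
  by_cases htriple : ∃ a b : Ω, a ≠ b ∧ ∀ c d : Ω, c ≠ a → c ≠ b → d ≠ a → d ≠ b →
      d ∈ MulAction.orbit ↥(MulAction.stabilizer G a ⊓ MulAction.stabilizer G b) c
  · left
    obtain ⟨a, b, hab, hab1⟩ := htriple
    have key : ∀ x y : Fin 3 ↪ Ω, x 0 = a → x 1 = b → ∃ g : G, g • x = y := by
      intro x y hx0 hx1
      obtain ⟨g, hga, hgb⟩ := h2 hab (y.injective.ne (show (0 : Fin 3) ≠ 1 by decide))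
      have h1 : g⁻¹ • y 2 ≠ a := fun h => by
        rw [inv_smul_eq_iff, hga] at h
        exact absurd (y.injective h) (by decide)
      have h1' : g⁻¹ • y 2 ≠ b := fun h => by
        rw [inv_smul_eq_iff, hgb] at h
        exact absurd (y.injective h) (by decide)
      obtain ⟨s, hs⟩ := hab1 (x 2) (g⁻¹ • y 2) (fun h => absurd (x.injective (h.trans hx0.symm)) (by decide))
        (fun h => absurd (x.injective (h.trans hx1.symm)) (by decide)) h1 h1'
      refine ⟨g * s, ?_⟩
      ext i
      rw [Function.Embedding.smul_apply, mul_smul]
      fin_cases i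
      · show g • (s : G) • x 0 = y 0
        rw [hx0, s.2.1, hga]
      · show g • (s : G) • x 1 = y 1
        rw [hx1, s.2.2, hgb]
      · show g • (s : G) • x 2 = y 2
        rw [show (s : G) • x 2 = g⁻¹ • y 2 from hs, smul_inv_smul]
    refine ⟨fun x y => ?_⟩
    obtain ⟨g, hg0, hg1⟩ := h2 (x.injective.ne (show (0 : Fin 3) ≠ 1 by decide)) hab
    obtain ⟨k, hk⟩ := key (g • x) y hg0 hg1
    exact ⟨k * g, by rw [mul_smul, hk]⟩
  right
  intro α β hαβ
  push Not at htriple
  obtain ⟨c, d, hcα, hcβ, hdα, hdβ, hcd⟩ := htriple α β hαβ
  set S := MulAction.stabilizer G α ⊓ MulAction.stabilizer G β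
  have hfix : ∀ z, (z = α ∨ z = β) → ∀ w, w ∈ MulAction.orbit S z → w = z := by
    rintro z hz w ⟨g, rfl⟩
    rcases hz with rfl | rfl
    · exact g.2.1
    · exact g.2.2
  let mk : Ω → MulAction.orbitRel.Quotient S Ω := Quotient.mk''
  have hmk : ∀ z w, mk z = mk w ↔ z ∈ MulAction.orbit S w := fun z w => Quotient.eq''
  have hbij : Function.Bijective (fun i : Fin 4 => mk (![α, β, c, d] i)) := by
    refine ⟨fun i j hij => ?_, fun q => ?_⟩
    · have e1 := (hmk _ _).1 hij
      have e2 := (hmk _ _).1 hij.symm
      fin_cases i <;> fin_cases j <;> first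
        | rfl
        | exact absurd (hfix α (Or.inl rfl) _ e1) (by first | exact hαβ.symm | exact hcα | exact hdα)
        | exact absurd (hfix α (Or.inl rfl) _ e2) (by first | exact hαβ.symm | exact hcα | exact hdα)
        | exact absurd (hfix β (Or.inr rfl) _ e1) (by first | exact hcβ | exact hdβ)
        | exact absurd (hfix β (Or.inr rfl) _ e2) (by first | exact hcβ | exact hdβ)
        | exact absurd e1 hcd
        | exact absurd e2 hcd
    · induction q using Quotient.inductionOn' with
      | h z =>
        by_contra hno
        push Not at hno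
        have hz : ∀ i, z ∉ MulAction.orbit S (![α, β, c, d] i) := fun i h => hno i ((hmk _ _).2 h).symm
        refine Cfsg.Agent.HalfNorm.no_three_orbits hΩ hins P hN hαβ ![c, d, z] ?_ ?_ ?_
        · intro i
          fin_cases i
          · exact hcα
          · exact hdα
          · intro h
            have h' : z = α := h
            apply hz 0
            show z ∈ MulAction.orbit S α
            rw [h']
            exact MulAction.mem_orbit_self _
        · intro i
          fin_cases i
          · exact hcβ
          · exact hdβ
          · intro h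
            have h' : z = β := h
            apply hz 1
            show z ∈ MulAction.orbit S β
            rw [h']
            exact MulAction.mem_orbit_self _
        · intro i j hij
          have hji := MulAction.mem_orbit_symm.1 hij
          fin_cases i <;> fin_cases j <;> first
            | rfl
            | exact absurd hij hcd
            | exact absurd hji hcd
            | exact absurd hij (hz 2)
            | exact absurd hji (hz 2)
            | exact absurd hij (hz 3)
            | exact absurd hji (hz 3)
  rw [← Nat.card_congr (Equiv.ofBijective _ hbij), Nat.card_fin]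

end Cfsg.Agent.S3611
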