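import Cfsg.Statements.S3614
import Cfsg.Agent.HalfNorm.TwinPrime.Five
import Cfsg.Agent.HalfNorm.TwinPrime.Witt
-- import your own Cfsg.Agent.* helpers here

set_option autoImplicit false
open Cfsg

namespace Cfsg.Agent.S3614

/-- Let G be an insoluble group acting faithfully and transitively on a finite set of prime size p, and suppose the normalizer of a Sylow p-subgroup of G has order p(p-1)/2. If p = q + 2 = 2r + 3 > 9 or p = q + 2 = 3r + 4 > 13 with q and r prime, then G is isomorphic to the alternating group of degree p. -/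
theorem result {G Ω : Type*} [Group G] [Finite G] [MulAction G Ω] [FaithfulSMul G Ω] [Finite Ω]
    (p : ℕ) (hp : p.Prime) (hΩ : Nat.card Ω = p) (htrans : MulAction.IsPretransitive G Ω)
    (hins : ¬ Group.IsSolvable G) (P : Sylow p G)
    (hN : 2 * Nat.card ↥(Subgroup.normalizer ((P : Subgroup G) : Set G)) = p * (p - 1))
    (q r : ℕ) (hq : q.Prime) (hr : r.Prime)
    (hcases : (p = q + 2 ∧ p = 2 * r + 3 ∧ 9 < p) ∨ (p = q + 2 ∧ p = 3 * r + 4 ∧ 13 < p)) :
    Nonempty (G ≃* alternatingGroup (Fin p)) := by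
  classical
  have : Fact p.Prime := ⟨hp⟩
  have : Fact q.Prime := ⟨hq⟩
  have : Fact r.Prime := ⟨hr⟩
  have := htrans
  have := Fintype.ofFinite Ω
  obtain ⟨k, hk, hr3, hq5, hpq, hp'⟩ : ∃ k, (k = 2 ∨ k = 3) ∧ 3 < r ∧ 5 < q ∧ p = q + 2 ∧ p = k + 1 + k * r := by
    rcases hcases with ⟨h1, h2, h3⟩ | ⟨h1, h2, h3⟩
    · have : r ≠ 4 := fun h => absurd (h ▸ hr) (by decide)
      exact ⟨2, Or.inl rfl, by omega, by omega, h1, by omega⟩
    · exact ⟨3, Or.inr rfl, by omega, by omega, h1, by omega⟩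
  have hcard : Fintype.card Ω = p := by rw [← Nat.card_eq_fintype_card, hΩ]
  have h5 := Cfsg.Agent.HalfNorm.TwinPrime.five hΩ hins P hN hpq hq5
  have hle := Cfsg.Agent.HalfNorm.TwinPrime.alt_le (G := G) (Ω := Ω) hr3 hk (rfl : k + 1 = k + 1) (by omega)
    (MulAction.isMultiplyPretransitive_of_le (show k + 1 + 1 ≤ 5 by omega) (by rw [Nat.card_eq_fintype_card]; omega))
  have : Nontrivial Ω := Fintype.one_lt_card_iff_nontrivial.1 (by omega)
  have hidx : (MulAction.toPermHom G Ω).range.index = 2 := by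
    have hd := Subgroup.index_dvd_of_le hle
    rw [alternatingGroup.index_eq_two] at hd
    refine ((Nat.dvd_prime Nat.prime_two).1 hd).resolve_left fun h => ?_
    exact Cfsg.Agent.HalfNorm.TwinPrime.range_ne_top hΩ P hN (Subgroup.index_eq_one.1 h)
  exact ⟨(MonoidHom.ofInjective (f := MulAction.toPermHom G Ω) MulAction.toPerm_injective).trans
    ((MulEquiv.subgroupCongr (Equiv.Perm.eq_alternatingGroup_of_index_eq_two hidx)).trans
      (Fintype.equivFinOfCardEq hcard).altCongrHom)⟩

end Cfsg.Agent.S3614
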