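import Cfsg.Statements.S3619
import Mathlib

set_option autoImplicit false
open Cfsg

namespace Cfsg.Agent.S3619

open scoped Pointwise

theorem result {G Ω : Type*} [Group G] [Finite G] [MulAction G Ω] [FaithfulSMul G Ω] [Finite Ω]
    (hqp : ∀ N : Subgroup G, N.Normal → N ≠ ⊥ → MulAction.IsPretransitive ↥N Ω)
    (Γ : Set Ω) (hΓ1 : 1 < Γ.ncard) (hΓ2 : Γ.ncard < Nat.card Ω)
    (hJ : MulAction.IsPretransitive ↥(fixingSubgroup G Γᶜ) ↥(SubMulAction.ofFixingSubgroup G Γᶜ))
    (hJp : MulAction.IsPreprimitive ↥(fixingSubgroup G Γᶜ) ↥(SubMulAction.ofFixingSubgroup G Γᶜ)) :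
    MulAction.IsMultiplyPretransitive G Ω (Nat.card Ω - Γ.ncard + 1) := by
  set J := fixingSubgroup G Γᶜ with hJdef
  have hmem : ∀ x, x ∈ SubMulAction.ofFixingSubgroup G Γᶜ ↔ x ∈ Γ := fun x => by
    rw [SubMulAction.mem_ofFixingSubgroup_iff, Set.mem_compl_iff, not_not]
  have hmove : ∀ x ∈ Γ, ∀ y ∈ Γ, ∃ j ∈ J, j • x = y := fun x hx y hy => by
    obtain ⟨j, hj⟩ := hJ.exists_smul_eq ⟨x, (hmem x).mpr hx⟩ ⟨y, (hmem y).mpr hy⟩
    exact ⟨j, j.2, congrArg Subtype.val hj⟩
  have hout : ∀ j ∈ J, ∀ z, z ∉ Γ → j • z = z := fun j hj z hz =>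
    (mem_fixingSubgroup_iff G).mp hj z hz
  obtain ⟨x0, y0, hx0, hy0, hxy⟩ := (Set.one_lt_ncard_iff (Set.toFinite Γ)).mp hΓ1
  obtain ⟨j0, hj0, hj0x⟩ := hmove x0 hx0 y0 hy0
  have hj01 : j0 ≠ 1 := fun h => hxy (by rw [← hj0x, h, one_smul])
  have htop : (⊤ : Subgroup G) ≠ ⊥ := fun h => hj01 (Subgroup.mem_bot.mp (h ▸ Subgroup.mem_top j0))
  have htr : MulAction.IsPretransitive G Ω := ⟨fun a b => by
    obtain ⟨g, hg⟩ := (hqp ⊤ inferInstance htop).exists_smul_eq a b
    exact ⟨g, hg⟩⟩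
  have hprim : MulAction.IsPreprimitive G Ω := by
    constructor
    intro B hB
    by_contra hnt
    simp only [MulAction.IsTrivialBlock, not_or, Set.not_subsingleton_iff] at hnt
    obtain ⟨⟨b0, hb0, b1, hb1, hb01⟩, huniv⟩ := hnt
    obtain ⟨g, hg⟩ := MulAction.exists_smul_eq G b0 x0
    have hB' : MulAction.IsBlock G (g • B) := hB.translate g
    have hx0B : x0 ∈ g • B := hg ▸ Set.smul_mem_smul_set hb0
    have hΓB : Γ ⊆ g • B := by
      let i : ↥(SubMulAction.ofFixingSubgroup G Γᶜ) →ₑ[J.subtype] Ω :=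
        { toFun := Subtype.val, map_smul' := fun _ _ => rfl }
      rcases hJp.isTrivialBlock_of_isBlock (MulAction.IsBlock.preimage i hB') with hsub | htop'
      · -- `g • B` meets `Γ` only in `x0`
        exfalso
        have honly : ∀ z ∈ g • B, z ∈ Γ → z = x0 := fun z hz hzΓ =>
          congrArg Subtype.val (hsub (x := ⟨z, (hmem z).mpr hzΓ⟩) hz
            (y := ⟨x0, (hmem x0).mpr hx0⟩) hx0B)
        obtain ⟨z, hz, hzx⟩ : ∃ z ∈ g • B, z ≠ x0 := by
          by_contra! h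
          exact hb01 (MulAction.injective g ((h _ (Set.smul_mem_smul_set hb0)).trans
            (h _ (Set.smul_mem_smul_set hb1)).symm))
        have hzΓ : z ∉ Γ := fun h => hzx (honly z hz h)
        have h1 : j0 • (g • B) = g • B :=
          hB'.smul_eq_of_nonempty ⟨z, ⟨z, hz, hout j0 hj0 z hzΓ⟩, hz⟩
        have : y0 ∈ g • B := h1 ▸ ⟨x0, hx0B, hj0x⟩
        exact hxy (honly y0 this hy0).symm
      · intro z hz
        exact (Set.eq_univ_iff_forall.mp htop') ⟨z, (hmem z).mpr hz⟩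
    have hfix : ∀ j ∈ J, ∀ h : G, j • (h • B) = h • B := by
      intro j hj h
      rcases (hB.translate h).smul_eq_or_disjoint j with he | hd
      · exact he
      · have hhB : ∀ z ∈ h • B, z ∈ Γ := fun z hz => by
          by_contra hzΓ
          exact Set.disjoint_left.mp hd ⟨z, hz, hout j hj z hzΓ⟩ hz
        obtain ⟨z, hz⟩ : (h • B).Nonempty := ⟨h • b0, Set.smul_mem_smul_set hb0⟩
        have hsame : h • B = g • B := by
          rcases MulAction.IsBlock.smul_eq_smul_or_disjoint hB h g with he | hd'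
          · exact he
          · exact absurd (hΓB (hhB z hz)) (Set.disjoint_left.mp hd' hz)
        rw [hsame] at hd ⊢
        refine absurd ?_ (Set.disjoint_left.mp hd ⟨x0, hx0B, rfl⟩)
        refine hΓB ?_
        by_contra hn
        have e : j • x0 = x0 := MulAction.injective j (hout j hj (j • x0) hn)
        exact hn (show j • x0 ∈ Γ by rw [e]; exact hx0)
    let K : Subgroup G :=
      { carrier := {k | ∀ h : G, k • (h • B) = h • B}
        one_mem' := fun h => one_smul G _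
        mul_mem' := fun {a b} ha hb h => by rw [mul_smul, hb, ha]
        inv_mem' := fun {a} ha h => by conv_lhs => rw [← ha h, inv_smul_smul] }
    have hKn : K.Normal := ⟨fun k hk a h => by
      rw [mul_smul, mul_smul, ← mul_smul a⁻¹ h, hk, mul_smul, smul_inv_smul]⟩
    have hK : K ≠ ⊥ := fun h => hj01 (Subgroup.mem_bot.mp (h ▸ fun a => hfix j0 hj0 a))
    refine huniv (Set.eq_univ_of_forall fun z => ?_)
    obtain ⟨⟨k, hk⟩, hkz⟩ := (hqp K hKn hK).exists_smul_eq b0 z
    have := hk 1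
    rw [one_smul] at this
    exact this ▸ hkz ▸ Set.smul_mem_smul_set hb0
  have hn : Γᶜ.ncard = (Nat.card Ω - Γ.ncard - 1) + 1 := by
    rw [Set.ncard_compl]; omega
  have := MulAction.IsPreprimitive.isMultiplyPreprimitive hprim hn (by omega) hJp
  rw [show Nat.card Ω - Γ.ncard - 1 + 2 = Nat.card Ω - Γ.ncard + 1 by omega] at this
  exact MulAction.IsMultiplyPreprimitive.isMultiplyPretransitive ..

end Cfsg.Agent.S3619
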