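import Cfsg.Statements.S3620
import Cfsg.Agent.Marggraf.Main
import Cfsg.Agent.SymOdd.ThreeOver
-- import your own Cfsg.Agent.* helpers here

set_option autoImplicit false
open Cfsg

namespace Cfsg.Agent.S3620

open Equiv Equiv.Perm MulAction
open Cfsg.Agent.Marggraf
open Cfsg.Agent.SymOdd (cyc Full)
open scoped Pointwise commutatorElement

theorem range_primitive {G Ω : Type*} [Group G] [MulAction G Ω] (h : IsPreprimitive G Ω) :
    IsPreprimitive ↥(MulAction.toPermHom G Ω).range Ω :=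
  IsPreprimitive.of_surjective (φ := (MulAction.toPermHom G Ω).rangeRestrict)
    (f := { toFun := id, map_smul' := fun _ _ => rfl }) Function.surjective_id

/-- A normal subgroup of an even-permutation stabiliser with a short element is everything. -/
theorem kernel_big {α : Type*} [DecidableEq α] [Fintype α] {K : Subgroup (Perm α)} {B : α}
    (hKB : ∀ g ∈ K, g B = B)
    (hnorm : ∀ σ : Perm α, Perm.sign σ = 1 → σ B = B → ∀ g ∈ K, σ * g * σ⁻¹ ∈ K)
    {j : Perm α} (hj : j ∈ K) (hj1 : j ≠ 1) (hjs : j.support.card + 3 ≤ Fintype.card α)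
    {σ : Perm α} (hσ : Perm.sign σ = 1) (hσB : σ B = B) : σ ∈ K := by
  classical
  have hBj : B ∉ j.support := fun h => Perm.mem_support.mp h (hKB j hj)
  obtain ⟨a, ha⟩ : j.support.Nonempty :=
    Finset.card_pos.mp (by have := two_le_card_support_of_ne_one hj1; omega)
  obtain ⟨r, hr, r', hr', hrr⟩ := Finset.one_lt_card.mp (show 1 < ((insert B j.support)ᶜ).card by
    rw [Finset.card_compl, Finset.card_insert_of_notMem hBj]; omega)
  simp only [Finset.mem_compl, Finset.mem_insert, not_or] at hr hr'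
  have har : a ≠ r := fun e => hr.2 (e ▸ ha)
  have har' : a ≠ r' := fun e => hr'.2 (e ▸ ha)
  have hcB : ∀ {u v w : α}, B ≠ u → B ≠ v → B ≠ w → cyc u v w B = B := fun h1 h2 h3 =>
    SymOdd.cyc_apply_of_ne h1 h2 h3
  set y := cyc a r r' with hy
  have hyB : y B = B := hcB (fun e => hBj (e ▸ ha)) (Ne.symm hr.1) (Ne.symm hr'.1)
  have hys : Perm.sign y = 1 := by
    rw [hy, (SymOdd.cyc_isThreeCycle har har' hrr).sign]
  have hyS : y.support ⊆ {a, r, r'} := fun z hz => by
    by_contra h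
    simp only [Finset.mem_insert, Finset.mem_singleton, not_or] at h
    exact Perm.mem_support.mp hz (SymOdd.cyc_apply_of_ne h.1 h.2.1 h.2.2)
  have haT : a ∈ y.support := Perm.mem_support.mpr (by rw [hy, SymOdd.cyc_apply_left har har']; exact har.symm)
  have hja : j a ∉ y.support := fun h => by
    have h1 : j a ∈ j.support := Perm.apply_mem_support.mpr ha
    have h2 := hyS h
    simp only [Finset.mem_insert, Finset.mem_singleton] at h2
    rcases h2 with h2 | h2 | h2
    · exact Perm.mem_support.mp ha h2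
    · exact hr.2 (h2 ▸ h1)
    · exact hr'.2 (h2 ▸ h1)
  have hc : ⁅j, y⁆ ∈ K := by
    rw [commutatorElement_def, show j * y * j⁻¹ * y⁻¹ = j * (y * j⁻¹ * y⁻¹) by group]
    exact mul_mem hj (hnorm y hys hyB _ (inv_mem hj))
  have hI : j.support ∩ y.support ⊆ {a} := fun z hz => by
    rw [Finset.mem_inter] at hz
    have h2 := hyS hz.2
    simp only [Finset.mem_insert, Finset.mem_singleton] at h2 ⊢
    rcases h2 with rfl | rfl | rfl
    · rfl
    · exact absurd hz.1 hr.2
    · exact absurd hz.1 hr'.2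
  have h1 := Finset.card_le_card hI
  have hcard : ⁅j, y⁆.support.card ≤ 3 := by
    refine (Finset.card_le_card (support_commutator_subset j y)).trans ?_
    refine (Finset.card_union_le _ _).trans ?_
    refine (Nat.add_le_add (Finset.card_union_le _ _) le_rfl).trans ?_
    have h2 := (Finset.card_image_le (f := j) (s := (j.support ∩ y.support).filter fun z => j z ∉ y.support)).trans
      (Finset.card_filter_le _ _)
    have h3 := (Finset.card_image_le (f := y) (s := (j.support ∩ y.support).filter fun z => y z ∉ j.support)).trans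
      (Finset.card_filter_le _ _)
    simp only [Finset.card_singleton] at h1
    omega
  have hne := commutator_ne_one haT hja
  have hthree : IsThreeCycle ⁅j, y⁆ := by
    have h2 := two_le_card_support_of_ne_one hne
    refine card_support_eq_three_iff.mp (le_antisymm hcard ?_)
    by_contra h
    have hswap : (⁅j, y⁆).IsSwap := card_support_eq_two.mp (by omega)
    have h' := hswap.sign_eq
    rw [commutatorElement_def, map_mul, map_mul, map_mul, hys, map_inv, map_inv, hys] at h'
    simp at h'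
  obtain ⟨u, v, w, huv, huw, hvw, e⟩ := SymOdd.exists_cyc hthree
  rw [e] at hc
  obtain ⟨Δ, hsub, hΔ, hmax⟩ := SymOdd.exists_max (SymOdd.full_triple huv huw hvw hc)
  have hΔ3 : 3 ≤ Δ.card := by
    have := Finset.card_le_card hsub
    rwa [Finset.card_eq_three.mpr ⟨u, v, w, huv, huw, hvw, rfl⟩] at this
  have hfix : ∀ {p q s : α}, p ≠ q → p ≠ s → q ≠ s → cyc p q s ∈ K → B ≠ p := fun hpq hps _ h e => by
    have := hKB _ h
    rw [e, SymOdd.cyc_apply_left hpq hps] at this
    exact hpq this.symm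
  have hΔB : B ∉ Δ := fun h => by
    obtain ⟨p, hp, q, hq, hpq⟩ := Finset.one_lt_card.mp (show 1 < (Δ.erase B).card by
      rw [Finset.card_erase_of_mem h]; omega)
    rw [Finset.mem_erase] at hp hq
    exact hfix hp.1.symm hq.1.symm hpq (hΔ B h p hp.2 q hq.2 hp.1.symm hq.1.symm hpq) rfl
  have hΔall : ∀ z, z ≠ B → z ∈ Δ := by
    intro z hzB
    by_contra hz
    obtain ⟨d₁, hd₁, d₂, hd₂, hd⟩ := Finset.one_lt_card.mp (show 1 < Δ.card by omega)
    have n1 : d₁ ≠ z := fun e => hz (e ▸ hd₁)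
    have n2 : z ≠ d₂ := fun e => hz (e ▸ hd₂)
    set g := cyc d₁ z d₂ with hg
    have hgB : g B = B := hcB (fun e => hΔB (e ▸ hd₁)) (Ne.symm hzB) (fun e => hΔB (e ▸ hd₂))
    have hgs : Perm.sign g = 1 := by rw [hg, (SymOdd.cyc_isThreeCycle n1 hd n2).sign]
    have hf : Full K (Δ.map g.toEmbedding) := by
      intro p hp q hq s hs hpq hps hqs
      simp only [Finset.mem_map] at hp hq hs
      obtain ⟨p, hp, rfl⟩ := hp
      obtain ⟨q, hq, rfl⟩ := hq
      obtain ⟨s, hs, rfl⟩ := hs
      have := hnorm g hgs hgB _ (hΔ p hp q hq s hs (fun e => hpq (e ▸ rfl)) (fun e => hps (e ▸ rfl))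
        (fun e => hqs (e ▸ rfl)))
      rwa [SymOdd.cyc_conj] at this
    have hz' : z ∈ Δ.map g.toEmbedding :=
      Finset.mem_map.mpr ⟨d₁, hd₁, SymOdd.cyc_apply_left n1 hd⟩
    have hd' : d₁ ∈ Δ.map g.toEmbedding :=
      Finset.mem_map.mpr ⟨d₂, hd₂, SymOdd.cyc_apply_right⟩
    have e := hmax _ (SymOdd.full_union hΔ hf hΔ3 (by rwa [Finset.card_map]) ⟨d₁, hd₁, hd'⟩)
      Finset.subset_union_left
    exact hz (e ▸ Finset.mem_union_right _ hz')
  apply SymOdd.altOn_le_of_full hΔ
  have hiff : ∀ z, σ z ∈ Δ ↔ z ∈ Δ := fun z => by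
    constructor
    · intro h
      refine hΔall z fun e => hΔB ?_
      rw [e, hσB] at h
      exact h
    · intro h
      refine hΔall _ fun e => hΔB ?_
      rwa [← σ.injective (e.trans hσB.symm)]
  have hmoved : ∀ z, σ z ≠ z → z ∈ Δ := fun z hz => hΔall z fun e => hz (by rw [e, hσB])
  refine ⟨σ.subtypePerm hiff, ?_, Perm.ofSubtype_subtypePerm hiff hmoved⟩
  rw [SetLike.mem_coe, Equiv.Perm.mem_alternatingGroup]
  refine Eq.trans ?_ hσ
  convert Perm.sign_subtypePerm σ hiff hmoved


/-- Let G act faithfully on a finite set in such a way that every non-trivial normal subgroup of G is transitive (G is quasiprimitive). Let Γ be a subset with more than one point and fewer than half of the points, such that the pointwise stabilizer of the complement of Γ acts transitively on Γ. Then G induces every even permutation of the set (G is the alternating or the symmetric group). -/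
theorem result {G Ω : Type*} [Group G] [Finite G] [MulAction G Ω] [FaithfulSMul G Ω] [Fintype Ω] [DecidableEq Ω]
    (hqp : ∀ N : Subgroup G, N.Normal → N ≠ ⊥ → MulAction.IsPretransitive ↥N Ω)
    (Γ : Set Ω) (hΓ1 : 1 < Γ.ncard) (hΓ2 : 2 * Γ.ncard < Fintype.card Ω)
    (hJ : MulAction.IsPretransitive ↥(fixingSubgroup G Γᶜ) ↥(SubMulAction.ofFixingSubgroup G Γᶜ)) :
    ∀ σ : Equiv.Perm Ω, Equiv.Perm.sign σ = 1 → ∃ x : G, (MulAction.toPerm x : Equiv.Perm Ω) = σ := by
  classical
  set H := (MulAction.toPermHom G Ω).range with hH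
  suffices hA : alternatingGroup Ω ≤ H by
    intro σ hσ
    exact hA (Equiv.Perm.mem_alternatingGroup.mpr hσ)
  have hmem : ∀ z, z ∈ SubMulAction.ofFixingSubgroup G Γᶜ ↔ z ∈ Γ := fun z => by
    rw [SubMulAction.mem_ofFixingSubgroup_iff, Set.mem_compl_iff, not_not]
  have hmove : ∀ x ∈ Γ, ∀ y ∈ Γ, ∃ j ∈ fixingSubgroup G Γᶜ, j • x = y := fun x hx y hy => by
    obtain ⟨j, hj⟩ := hJ.exists_smul_eq ⟨x, (hmem x).mpr hx⟩ ⟨y, (hmem y).mpr hy⟩
    exact ⟨j, j.2, congrArg Subtype.val hj⟩
  have hout : ∀ j ∈ fixingSubgroup G Γᶜ, ∀ z, z ∉ Γ → j • z = z := fun j hj z hz =>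
    (mem_fixingSubgroup_iff G).mp hj z hz
  obtain ⟨x0, y0, hx0, hy0, hxy⟩ := (Set.one_lt_ncard_iff (Set.toFinite Γ)).mp hΓ1
  obtain ⟨j0, hj0, hj0x⟩ := hmove x0 hx0 y0 hy0
  have hj01 : j0 ≠ 1 := fun h => hxy (by rw [← hj0x, h, one_smul])
  have htr : IsPretransitive G Ω := ⟨fun a b => by
    obtain ⟨g, hg⟩ := (hqp ⊤ inferInstance
      fun h => hj01 (Subgroup.mem_bot.mp (h ▸ Subgroup.mem_top j0))).exists_smul_eq a b
    exact ⟨g, hg⟩⟩
  set Γf := Γ.toFinset with hΓf
  have hΓc : Γf.card = Γ.ncard := (Set.ncard_eq_toFinset_card' Γ).symm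
  by_cases hprim : IsPreprimitive G Ω
  · refine marggraf (range_primitive hprim) (Γ₀ := Γf) ?_ (by omega) (by omega)
    intro a ha b hb
    rw [hΓf, Set.mem_toFinset] at ha hb
    obtain ⟨j, hj, hjab⟩ := hmove a ha b hb
    refine ⟨MulAction.toPermHom G Ω j, ⟨j, rfl⟩, fun z hz => hout j hj z ?_, hjab⟩
    rwa [hΓf, Set.mem_toFinset] at hz
  exfalso
  obtain ⟨a, ha⟩ : ∃ a, a ∉ Γ := by
    by_contra h
    push Not at h
    rw [Set.eq_univ_of_forall h, Set.ncard_univ, Nat.card_eq_fintype_card] at hΓ2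
    omega
  haveI : Nontrivial Ω := ⟨⟨x0, y0, hxy⟩⟩
  have hst : ¬ IsCoatom (stabilizer G a) := fun h => hprim ((isCoatom_stabilizer_iff_preprimitive G a).mp h)
  have hne : stabilizer G a ≠ ⊤ := fun h => by
    obtain ⟨g, hg⟩ := MulAction.exists_smul_eq G a x0
    have : g ∈ stabilizer G a := h ▸ Subgroup.mem_top g
    exact ha (by rw [← this, hg]; exact hx0)
  obtain ⟨M, hM, hle⟩ := (eq_top_or_exists_le_coatom (stabilizer G a)).resolve_left hne
  have hlt : stabilizer G a < M := lt_of_le_of_ne hle fun e => hst (e ▸ hM)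
  choose c hc using fun z => MulAction.exists_smul_eq G a z
  let pr : Ω → G ⧸ M := fun z => (c z : G ⧸ M)
  have hpr : ∀ (g : G) z, pr (g • z) = g • pr z := fun g z => by
    show ((c (g • z) : G) : G ⧸ M) = ((g * c z : G) : G ⧸ M)
    refine QuotientGroup.eq.mpr (hle ?_)
    rw [mem_stabilizer_iff, mul_smul, mul_smul, hc, inv_smul_eq_iff, hc]
  have hprim' : IsPreprimitive G (G ⧸ M) := by
    haveI : Nontrivial (G ⧸ M) := by
      obtain ⟨g, hg⟩ : ∃ g, g ∉ M := not_forall.mp fun h => hM.1 (eq_top_iff.mpr fun g _ => h g)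
      exact ⟨⟨(g : G ⧸ M), ((1 : G) : G ⧸ M), fun e => hg (by simpa using QuotientGroup.eq.mp e)⟩⟩
    refine (isCoatom_stabilizer_iff_preprimitive G ((1 : G) : G ⧸ M)).mp ?_
    rwa [MulAction.stabilizer_quotient]
  haveI : Finite (G ⧸ M) := inferInstance
  letI : Fintype (G ⧸ M) := Fintype.ofFinite _
  set ψ := MulAction.toPermHom G (G ⧸ M) with hψ
  have hψinj : Function.Injective ψ := by
    rw [← MonoidHom.ker_eq_bot_iff]
    by_contra hk
    apply hM.1
    rw [eq_top_iff]
    intro g _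
    obtain ⟨⟨k, hk'⟩, hka⟩ := (hqp ψ.ker inferInstance hk).exists_smul_eq a (g • a)
    have e : pr (g • a) = pr a := by
      rw [show g • a = k • a from hka.symm, hpr]
      exact congrArg (fun σ : Perm (G ⧸ M) => σ (pr a)) hk'
    rw [hpr] at e
    have h2 := QuotientGroup.eq.mp (show ((g * c a : G) : G ⧸ M) = ((c a : G) : G ⧸ M) from e)
    have h3 : c a ∈ M := hle (hc a)
    have h4 : (g * c a) * ((g * c a)⁻¹ * c a) * (c a)⁻¹ = 1 := by group
    have h5 : (g * c a)⁻¹ ∈ M := by
      have := M.mul_mem h2 (M.inv_mem h3)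
      rwa [mul_assoc, mul_inv_cancel, mul_one] at this
    have := M.mul_mem (M.inv_mem h5) (M.inv_mem h3)
    rwa [inv_inv, mul_assoc, mul_inv_cancel, mul_one] at this
  have hjfixblock : ∀ j ∈ fixingSubgroup G Γᶜ, ∀ z, z ∉ Γ → ψ j (pr z) = pr z := fun j hj z hz => by
    show j • pr z = pr z
    rw [← hpr, hout j hj z hz]
  have hnot : ¬ ∀ z ∈ Γ, ∀ z' ∈ Γ, pr z = pr z' := by
    intro hall
    apply hj01
    apply hψinj
    rw [map_one]
    refine Perm.ext fun w => ?_
    induction w using QuotientGroup.induction_on with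
    | _ g =>
      have hw : pr (g • a) = (g : G ⧸ M) := by
        rw [hpr]
        show ((g * c a : G) : G ⧸ M) = _
        refine QuotientGroup.eq.mpr ?_
        rw [mul_inv_rev, mul_assoc, inv_mul_cancel, mul_one]
        exact M.inv_mem (hle (hc a))
      rw [← hw, Perm.one_apply]
      by_cases h : g • a ∈ Γ
      · show j0 • pr (g • a) = pr (g • a)
        rw [hall _ h x0 hx0, ← hpr, hj0x]
        exact hall _ hy0 _ hx0
      · exact hjfixblock j0 hj0 _ h
  have hsat : ∀ z ∈ Γ, ∀ z', pr z' = pr z → z' ∈ Γ := by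
    intro z hz z' he
    by_contra hz'
    refine hnot fun u hu v hv => ?_
    have key : ∀ u ∈ Γ, pr u = pr z := fun u hu => by
      obtain ⟨j, hj, rfl⟩ := hmove z hz u hu
      rw [hpr, ← he]
      exact hjfixblock j hj z' hz'
    rw [key u hu, key v hv]
  set Δ := Γf.image pr with hΔ
  have hfib : ∀ w v : G ⧸ M, (Finset.univ.filter fun z => pr z = w).card ≤
      (Finset.univ.filter fun z => pr z = v).card := fun w v => by
    obtain ⟨g, rfl⟩ := MulAction.exists_smul_eq G w v
    refine Finset.card_le_card_of_injOn (fun z => g • z) (fun z hz => ?_) (MulAction.injective g).injOn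
    simp only [Finset.mem_coe, Finset.mem_filter, Finset.mem_univ, true_and] at hz ⊢
    rw [hpr, hz]
  set b := (Finset.univ.filter fun z => pr z = pr a).card with hb
  have hfb : ∀ w, (Finset.univ.filter fun z => pr z = w).card = b := fun w =>
    le_antisymm (hfib w _) (hfib _ w)
  have hn' : Fintype.card Ω = Fintype.card (G ⧸ M) * b := by
    rw [← Finset.card_univ, Finset.card_eq_sum_card_fiberwise (f := pr) (t := Finset.univ)
      (fun z _ => Finset.mem_coe.mpr (Finset.mem_univ _)), Finset.sum_congr rfl (fun w _ => hfb w),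
      Finset.sum_const, smul_eq_mul, Finset.card_univ]
  have hk' : Γf.card = Δ.card * b := by
    rw [Finset.card_eq_sum_card_image pr Γf, ← hΔ, Finset.sum_congr rfl (fun w hw => ?_),
      Finset.sum_const, smul_eq_mul]
    rw [← hfb w]
    refine congrArg Finset.card (Finset.ext fun z => ?_)
    obtain ⟨u, hu, rfl⟩ := Finset.mem_image.mp hw
    simp only [hΓf, Finset.mem_filter, Set.mem_toFinset, Finset.mem_univ, true_and]
    exact ⟨fun h => h.2, fun h => ⟨hsat u (by simpa [hΓf] using hu) z h, h⟩⟩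
  have hbpos : 0 < b := Finset.card_pos.mpr ⟨a, by simp⟩
  have h2m : 2 * Δ.card < Fintype.card (G ⧸ M) := by
    rw [← hΓc, hk', hn', ← mul_assoc] at hΓ2
    exact Nat.lt_of_mul_lt_mul_right hΓ2
  have hΔ2 : 2 ≤ Δ.card := by
    by_contra h
    refine hnot fun z hz z' hz' => Finset.card_le_one.mp (show Δ.card ≤ 1 by omega) _ ?_ _ ?_
    · exact Finset.mem_image_of_mem _ (by simpa [hΓf] using hz)
    · exact Finset.mem_image_of_mem _ (by simpa [hΓf] using hz')
  have hΔfix : ∀ j ∈ fixingSubgroup G Γᶜ, ∀ w, w ∉ Δ → ψ j w = w := fun j hj w hw => by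
    obtain ⟨z, hz⟩ : (Finset.univ.filter fun z => pr z = w).Nonempty :=
      Finset.card_pos.mp ((hfb w).symm ▸ hbpos)
    simp only [Finset.mem_filter, Finset.mem_univ, true_and] at hz
    rw [← hz]
    refine hjfixblock j hj z fun hzΓ => hw ?_
    rw [← hz]
    exact Finset.mem_image_of_mem _ (by simpa [hΓf] using hzΓ)
  have hJS : JSet ψ.range Δ := by
    intro u hu v hv
    obtain ⟨u, hu', rfl⟩ := Finset.mem_image.mp hu
    obtain ⟨v, hv', rfl⟩ := Finset.mem_image.mp hv
    simp only [hΓf, Set.mem_toFinset] at hu' hv'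
    obtain ⟨j, hj, hjuv⟩ := hmove u hu' v hv'
    refine ⟨ψ j, ⟨j, rfl⟩, hΔfix j hj, ?_⟩
    show j • pr u = pr v
    rw [← hpr, hjuv]
  have hAlt := marggraf (range_primitive hprim') hJS hΔ2 h2m
  set B := pr a with hB
  let F : Subgroup G :=
    { carrier := {g | ∀ z, pr z = B → g • z = z}
      one_mem' := fun z _ => one_smul G z
      mul_mem' := fun {g g'} hg hg' z hz => by rw [mul_smul, hg' z hz, hg z hz]
      inv_mem' := fun {g} hg z hz => by rw [inv_smul_eq_iff, hg z hz] }
  have hKB : ∀ σ ∈ F.map ψ, σ B = B := by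
    rintro _ ⟨g, hg, rfl⟩
    show g • pr a = pr a
    rw [← hpr, hg a rfl]
  have hBΔ : B ∉ Δ := fun h => by
    obtain ⟨u, hu, he⟩ := Finset.mem_image.mp h
    exact ha (hsat u (by simpa [hΓf] using hu) a he.symm)
  have hJK : ψ j0 ∈ F.map ψ :=
    ⟨j0, fun z hz => hout j0 hj0 z fun hzΓ => ha (hsat z hzΓ a hz.symm), rfl⟩
  have hj0s : (ψ j0).support.card + 3 ≤ Fintype.card (G ⧸ M) := by
    have hsub : (ψ j0).support ⊆ Δ := fun w hw => by_contra fun h => Perm.mem_support.mp hw (hΔfix j0 hj0 w h)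
    have := Finset.card_le_card hsub
    omega
  have hnorm : ∀ σ : Perm (G ⧸ M), Perm.sign σ = 1 → σ B = B → ∀ τ ∈ F.map ψ, σ * τ * σ⁻¹ ∈ F.map ψ := by
    rintro σ hσ hσB _ ⟨g, hg, rfl⟩
    obtain ⟨s, rfl⟩ := hAlt (Equiv.Perm.mem_alternatingGroup.mpr hσ)
    refine ⟨s * g * s⁻¹, fun z hz => ?_, by rw [map_mul, map_mul, map_inv]⟩
    have : pr (s⁻¹ • z) = B := by
      rw [hpr, hz, inv_smul_eq_iff]
      exact hσB.symm
    rw [mul_smul, mul_smul, hg _ this, smul_inv_smul]
  let N₀ : Subgroup G := (alternatingGroup (G ⧸ M)).comap ψ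
  haveI : N₀.Normal := Subgroup.Normal.comap inferInstance ψ
  have hN₀ : N₀ ≠ ⊥ := by
    intro h
    have h3 : 3 ≤ Fintype.card (G ⧸ M) := by omega
    obtain ⟨u, v, w, huv, huw, hvw⟩ := Fintype.two_lt_card_iff.mp (show 2 < Fintype.card (G ⧸ M) by omega)
    have hσ : Perm.sign (cyc u v w) = 1 := (SymOdd.cyc_isThreeCycle huv huw hvw).sign
    obtain ⟨s, hs⟩ := hAlt (Equiv.Perm.mem_alternatingGroup.mpr hσ)
    have hsN : s ∈ N₀ := by
      show ψ s ∈ alternatingGroup (G ⧸ M)
      rw [hs]; exact Equiv.Perm.mem_alternatingGroup.mpr hσ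
    rw [h, Subgroup.mem_bot] at hsN
    have := congrArg (fun σ : Perm (G ⧸ M) => σ u) hs
    simp [hsN, SymOdd.cyc_apply_left huv huw] at this
    exact huv this
  obtain ⟨g, hgM, hga⟩ := SetLike.exists_of_lt hlt
  set a' := g • a with ha'
  have hpa' : pr a' = B := by
    rw [ha', hpr]
    show ((g * c a : G) : G ⧸ M) = ((c a : G) : G ⧸ M)
    refine QuotientGroup.eq.mpr ?_
    have := hle (hc a)
    exact M.mul_mem (M.inv_mem (M.mul_mem hgM this)) this
  obtain ⟨⟨s, hs⟩, hsa⟩ := (hqp N₀ inferInstance hN₀).exists_smul_eq a a'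
  have hsB : ψ s B = B := by
    show s • pr a = pr a
    rw [← hpr, show s • a = a' from hsa]
    exact hpa'
  have hsK := kernel_big hKB hnorm hJK (fun e => hj01 (hψinj (by rw [e, map_one]))) hj0s
    (Equiv.Perm.mem_alternatingGroup.mp hs) hsB
  obtain ⟨s', hs', e⟩ := hsK
  rw [hψinj e] at hs'
  exact hga (show g • a = a by rw [← ha', ← show s • a = a' from hsa]; exact hs' a rfl)

end Cfsg.Agent.S3620
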