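import Cfsg.Statements.S3626
import Cfsg.Agent.S1159
import Cfsg.Agent.ReeCube.Witness

set_option autoImplicit false
open Cfsg

namespace Cfsg.Agent.S3626

/-- Trading one factor for a group with a smaller set of orders. -/
theorem range_eq {A X : Type*} [Group A] [Group X] (P : ℕ → Prop) (h1 : P 1) (a₁ a₂ : ℕ)
    (hA : ∀ d, (∃ g : A, orderOf g = d) ↔ (P d ∨ d ∣ a₁ ∨ d ∣ a₂))
    (hX : ∀ d, (∃ x : X, orderOf x = d) ↔ P d) :
    Set.range (orderOf : A × A × X → ℕ) = Set.range (orderOf : A × A × A → ℕ) := by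
  ext d
  simp only [Set.mem_range, Prod.exists, Prod.orderOf]
  constructor
  · rintro ⟨a, b, x, rfl⟩
    obtain ⟨c, hc⟩ := (hA _).2 (Or.inl ((hX _).1 ⟨x, rfl⟩))
    exact ⟨a, b, c, by rw [hc]⟩
  · rintro ⟨a, b, c, rfl⟩
    obtain ⟨o, ho⟩ := (hX 1).2 h1
    have swap : ∀ (u v : A) (w : ℕ), P w →
        Nat.lcm (orderOf u) (Nat.lcm (orderOf v) w) = Nat.lcm (orderOf a) (Nat.lcm (orderOf b) (orderOf c)) →
        ∃ (p q : A) (r : X), Nat.lcm (orderOf p) (Nat.lcm (orderOf q) (orderOf r)) =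
          Nat.lcm (orderOf a) (Nat.lcm (orderOf b) (orderOf c)) := fun u v w hw h => by
      obtain ⟨r, hr⟩ := (hX w).2 hw
      exact ⟨u, v, r, by rw [hr, h]⟩
    rcases (hA _).1 ⟨c, rfl⟩ with hc | hc
    · exact swap a b _ hc rfl
    rcases (hA _).1 ⟨b, rfl⟩ with hb | hb
    · exact swap a c _ hb (by rw [Nat.lcm_comm (orderOf c)])
    rcases (hA _).1 ⟨a, rfl⟩ with ha | ha
    · refine swap b c _ ha ?_
      rw [Nat.lcm_comm (orderOf a), Nat.lcm_assoc]
    have pair : ∀ (u v w : A), (orderOf u ∣ a₁ ∧ orderOf v ∣ a₁ ∨ orderOf u ∣ a₂ ∧ orderOf v ∣ a₂) →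
        Nat.lcm (Nat.lcm (orderOf u) (orderOf v)) (orderOf w) =
          Nat.lcm (orderOf a) (Nat.lcm (orderOf b) (orderOf c)) →
        ∃ (p q : A) (r : X), Nat.lcm (orderOf p) (Nat.lcm (orderOf q) (orderOf r)) =
          Nat.lcm (orderOf a) (Nat.lcm (orderOf b) (orderOf c)) := fun u v w huv h => by
      obtain ⟨p, hp⟩ := (hA (Nat.lcm (orderOf u) (orderOf v))).2
        (Or.inr (huv.imp (fun h => Nat.lcm_dvd h.1 h.2) fun h => Nat.lcm_dvd h.1 h.2))
      exact ⟨p, w, o, by rw [hp, ho, Nat.lcm_one_right, h]⟩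
    have hab : Nat.lcm (Nat.lcm (orderOf a) (orderOf b)) (orderOf c) =
        Nat.lcm (orderOf a) (Nat.lcm (orderOf b) (orderOf c)) := Nat.lcm_assoc _ _ _
    have hac : Nat.lcm (Nat.lcm (orderOf a) (orderOf c)) (orderOf b) =
        Nat.lcm (orderOf a) (Nat.lcm (orderOf b) (orderOf c)) := by
      rw [Nat.lcm_assoc, Nat.lcm_comm (orderOf c)]
    have hbc : Nat.lcm (Nat.lcm (orderOf b) (orderOf c)) (orderOf a) =
        Nat.lcm (orderOf a) (Nat.lcm (orderOf b) (orderOf c)) := Nat.lcm_comm _ _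
    rcases ha with ha | ha <;> rcases hb with hb | hb <;> rcases hc with hc | hc
    · exact pair a b c (Or.inl ⟨ha, hb⟩) hab
    · exact pair a b c (Or.inl ⟨ha, hb⟩) hab
    · exact pair a c b (Or.inl ⟨ha, hc⟩) hac
    · exact pair b c a (Or.inr ⟨hb, hc⟩) hbc
    · exact pair b c a (Or.inl ⟨hb, hc⟩) hbc
    · exact pair a c b (Or.inr ⟨ha, hc⟩) hac
    · exact pair a b c (Or.inr ⟨ha, hb⟩) hab
    · exact pair a b c (Or.inr ⟨ha, hb⟩) hab

/-- Let R be the small Ree group over the field with q = 3^(2m+1) ≥ 27 elements. Then there are finite groups of arbitrarily large order with exactly the same set of element orders as R × R × R. -/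
theorem result {K : Type*} [Field K] [Fintype K] {m : ℕ} (hm : 1 ≤ m) (hK : Fintype.card K = 3 ^ (2 * m + 1)) (N : ℕ) :
    ∃ (H : Type) (_ : Group H) (_ : Fintype H), N < Fintype.card H ∧
      Set.range (orderOf : H → ℕ) = Set.range (orderOf : ↥(Cfsg.Lie.twistedG2 K (3 ^ m)) × ↥(Cfsg.Lie.twistedG2 K (3 ^ m)) × ↥(Cfsg.Lie.twistedG2 K (3 ^ m)) → ℕ) := by
  have : Fact (Nat.Prime 3) := ⟨Nat.prime_three⟩
  have : CharP K 3 := by
    obtain ⟨p, hp⟩ := CharP.exists K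
    obtain ⟨n, hpp, hn⟩ := FiniteField.card K p
    rw [hK] at hn
    have hdvd : p ∣ 3 ^ (2 * m + 1) := hn ▸ dvd_pow_self p n.ne_zero
    obtain rfl : p = 3 := (Nat.prime_dvd_prime_iff_eq hpp Nat.prime_three).1 (hpp.dvd_of_dvd_pow hdvd)
    exact hp
  have hq : Fintype.card K % 8 = 3 := by
    rw [hK, pow_succ, pow_mul, Nat.mul_mod, Nat.pow_mod]
    norm_num
  have h4 : 4 ≤ Fintype.card K := by
    rw [hK]
    exact le_trans (by norm_num) (Nat.pow_le_pow_right (show 1 ≤ 3 by norm_num) (show 3 ≤ 2 * m + 1 by omega))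
  let R : Type _ := ↥(Cfsg.Lie.twistedG2 K (3 ^ m))
  let X : Type _ := ReeCube.Ext K (N + 1)
  have : Finite R := inferInstanceAs (Finite ↥(Cfsg.Lie.twistedG2 K (3 ^ m)))
  have : Finite X := inferInstanceAs (Finite (ReeCube.Ext K (N + 1)))
  let E : Shrink.{0} (R × R × X) ≃* R × R × X := Shrink.mulEquiv
  have : Finite (Shrink.{0} (R × R × X)) := Finite.of_equiv _ E.toEquiv.symm
  letI : Fintype (Shrink.{0} (R × R × X)) := Fintype.ofFinite _
  refine ⟨Shrink.{0} (R × R × X), inferInstance, inferInstance, ?_, ?_⟩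
  · rw [← Nat.card_eq_fintype_card, Nat.card_congr (equivShrink _).symm, Nat.card_prod, Nat.card_prod,
      ← mul_assoc]
    have h1 : N < Nat.card X := (Nat.lt_succ_self N).trans (ReeCube.lt_card (K := K) (N + 1))
    exact h1.trans_le (Nat.le_mul_of_pos_left _ (Nat.mul_pos Nat.card_pos Nat.card_pos))
  · have e : Set.range (orderOf : Shrink.{0} (R × R × X) → ℕ) = Set.range (orderOf : R × R × X → ℕ) := by
      ext d
      simp only [Set.mem_range]
      constructor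
      · rintro ⟨x, rfl⟩
        exact ⟨_, MulEquiv.orderOf_eq E x⟩
      · rintro ⟨x, rfl⟩
        exact ⟨_, MulEquiv.orderOf_eq E.symm x⟩
    rw [e]
    refine range_eq (fun d => d ∣ 6 ∨ d ∣ 9 ∨ d ∣ Fintype.card K - 1 ∨ d ∣ (Fintype.card K + 1) / 2)
      (Or.inl (one_dvd _)) (3 ^ (2 * m + 1) - 3 ^ (m + 1) + 1) (3 ^ (2 * m + 1) + 3 ^ (m + 1) + 1) (fun d => ?_)
      fun d => ReeCube.orders_iff (N + 1) (Nat.le_add_left 1 N) hq h4 d
    rw [S1159.result hm hK, hK]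
    simp only [or_assoc]

end Cfsg.Agent.S3626
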