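import Cfsg.Statements.S3627
import Cfsg.Agent.JankoOne.Orders
-- import your own Cfsg.Agent.* helpers here

set_option autoImplicit false
open Cfsg

namespace Cfsg.Agent.S3627

theorem mem_range_orderOf {M : Type*} [Monoid M] {x : M} {d : ℕ} (hd : d ∣ orderOf x) (hx : orderOf x ≠ 0) :
    d ∈ Set.range (orderOf : M → ℕ) :=
  ⟨x ^ (orderOf x / d), by
    rw [orderOf_pow_of_dvd (Nat.div_ne_zero_iff.mpr ⟨fun h => hx (Nat.eq_zero_of_zero_dvd (h ▸ hd)),
      Nat.le_of_dvd (Nat.pos_of_ne_zero hx) hd⟩) (Nat.div_dvd_of_dvd hd), Nat.div_div_self hd hx]⟩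

theorem exists_prime_quot {d : ℕ} (hd : d ∣ 43890) (hne : d ≠ 43890) :
    ∃ q ∈ [2, 3, 5, 7, 11, 19], d ∣ 43890 / q := by
  obtain ⟨c, hc⟩ := hd
  have hc1 : c ≠ 1 := by rintro rfl; omega
  obtain ⟨q, hq, hqc⟩ := Nat.exists_prime_and_dvd hc1
  have hdvd : q ∣ 43890 := hqc.trans ⟨d, by rw [hc, mul_comm]⟩
  refine ⟨q, ?_, ?_⟩
  · have hmem : q ∈ Nat.primeFactorsList 43890 := (Nat.mem_primeFactorsList (by norm_num)).mpr ⟨hq, hdvd⟩
    have hp : List.Perm [2, 3, 5, 7, 11, 19] (Nat.primeFactorsList 43890) :=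
      Nat.primeFactorsList_unique (by norm_num) (by
        intro p hp
        fin_cases hp <;> norm_num)
    exact hp.mem_iff.mpr hmem
  · obtain ⟨e, rfl⟩ := hqc
    exact ⟨e, by rw [hc, show d * (q * e) = q * (d * e) by ring, Nat.mul_div_cancel_left _ hq.pos]⟩

theorem lcm_check : ∀ a ∈ [6, 10, 15, 7, 11, 19], ∀ b ∈ [6, 10, 15, 7, 11, 19],
    ∀ c ∈ [6, 10, 15, 7, 11, 19], ∀ d ∈ [6, 10, 15, 7, 11, 19],
    (Nat.lcm a (Nat.lcm b (Nat.lcm c d)) ∣ 43890) ∧ Nat.lcm a (Nat.lcm b (Nat.lcm c d)) ≠ 43890 := by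
  decide +kernel

theorem range_J1_four :
    Set.range (orderOf : ↥Cfsg.Spor.J1 × ↥Cfsg.Spor.J1 × ↥Cfsg.Spor.J1 × ↥Cfsg.Spor.J1 → ℕ) =
      {d | d ∣ 43890 ∧ d ≠ 43890} := by
  ext d
  constructor
  · rintro ⟨⟨a, b, c, e⟩, rfl⟩
    obtain ⟨na, ha, ha'⟩ := JankoOne.j1_pow a
    obtain ⟨nb, hb, hb'⟩ := JankoOne.j1_pow b
    obtain ⟨nc, hc, hc'⟩ := JankoOne.j1_pow c
    obtain ⟨ne, he, he'⟩ := JankoOne.j1_pow e
    obtain ⟨h1, h2⟩ := lcm_check na ha nb hb nc hc ne he
    have hdvd : orderOf (a, b, c, e) ∣ Nat.lcm na (Nat.lcm nb (Nat.lcm nc ne)) := by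
      rw [Prod.orderOf, Prod.orderOf, Prod.orderOf]
      exact Nat.lcm_dvd
        ((orderOf_dvd_of_pow_eq_one ha').trans (Nat.dvd_lcm_left _ _))
        ((Nat.lcm_dvd ((orderOf_dvd_of_pow_eq_one hb').trans (Nat.dvd_lcm_left _ _))
          ((Nat.lcm_dvd ((orderOf_dvd_of_pow_eq_one hc').trans (Nat.dvd_lcm_left _ _))
            ((orderOf_dvd_of_pow_eq_one he').trans (Nat.dvd_lcm_right _ _))).trans
            (Nat.dvd_lcm_right _ _))).trans (Nat.dvd_lcm_right _ _))
    refine ⟨hdvd.trans h1, fun h => h2 (Nat.dvd_antisymm h1 ?_)⟩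
    rw [← h]
    exact hdvd
  · rintro ⟨hd, hne⟩
    obtain ⟨q, hq, hdq⟩ := exists_prime_quot hd hne
    have hquad : ∀ x ∈ [6, 10, 15, 7, 11, 19], ∀ y ∈ [6, 10, 15, 7, 11, 19],
        ∀ z ∈ [6, 10, 15, 7, 11, 19], ∀ w ∈ [6, 10, 15, 7, 11, 19],
        43890 / q ∣ Nat.lcm x (Nat.lcm y (Nat.lcm z w)) →
        d ∈ Set.range (orderOf : ↥Cfsg.Spor.J1 × ↥Cfsg.Spor.J1 × ↥Cfsg.Spor.J1 × ↥Cfsg.Spor.J1 → ℕ) := by
      intro x hx y hy z hz w hw h
      obtain ⟨a, ha⟩ := JankoOne.j1_exists_order x hx
      obtain ⟨b, hb⟩ := JankoOne.j1_exists_order y hy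
      obtain ⟨c, hc⟩ := JankoOne.j1_exists_order z hz
      obtain ⟨e, he⟩ := JankoOne.j1_exists_order w hw
      refine mem_range_orderOf (x := (a, b, c, e)) ?_ ?_
      · rw [Prod.orderOf, Prod.orderOf, Prod.orderOf, ha, hb, hc, he]
        exact hdq.trans h
      · exact (orderOf_pos _).ne'
    simp only [List.mem_cons, List.not_mem_nil, or_false] at hq
    rcases hq with rfl | rfl | rfl | rfl | rfl | rfl
    · exact hquad 15 (by simp) 7 (by simp) 11 (by simp) 19 (by simp) (by decide +kernel)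
    · exact hquad 10 (by simp) 7 (by simp) 11 (by simp) 19 (by simp) (by decide +kernel)
    · exact hquad 6 (by simp) 7 (by simp) 11 (by simp) 19 (by simp) (by decide +kernel)
    · exact hquad 6 (by simp) 10 (by simp) 11 (by simp) 19 (by simp) (by decide +kernel)
    · exact hquad 6 (by simp) 10 (by simp) 7 (by simp) 19 (by simp) (by decide +kernel)
    · exact hquad 6 (by simp) 10 (by simp) 7 (by simp) 11 (by simp) (by decide +kernel)

/-- The exponents of the five characters. -/
def cexp : Fin 5 → ℕ := ![1995, 1330, 798, 570, 210]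

instance : Fact (Nat.Prime 11) := ⟨by norm_num⟩

/-- The module. -/
abbrev Mod (k : ℕ) : Type := Fin k → Fin 5 → GaloisField 11 6

/-- The action of a unit by the five characters. -/
noncomputable def act (k : ℕ) (A : Subgroup (GaloisField 11 6)ˣ) :
    A →* MulAut (Multiplicative (Mod k)) where
  toFun u :=
    { toFun := fun v => Multiplicative.ofAdd fun i r =>
        ((u : (GaloisField 11 6)ˣ) : GaloisField 11 6) ^ cexp r * v.toAdd i r
      invFun := fun v => Multiplicative.ofAdd fun i r =>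
        (((u : (GaloisField 11 6)ˣ)⁻¹ : (GaloisField 11 6)ˣ) : GaloisField 11 6) ^ cexp r * v.toAdd i r
      left_inv := fun v => Multiplicative.toAdd.injective (funext fun i => funext fun r => by
        simp only [toAdd_ofAdd, ← mul_assoc, ← mul_pow, ← Units.val_mul, inv_mul_cancel, Units.val_one,
          one_pow, one_mul])
      right_inv := fun v => Multiplicative.toAdd.injective (funext fun i => funext fun r => by
        simp only [toAdd_ofAdd, ← mul_assoc, ← mul_pow, ← Units.val_mul, mul_inv_cancel, Units.val_one,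
          one_pow, one_mul])
      map_mul' := fun v w => Multiplicative.toAdd.injective (funext fun i => funext fun r => by
        simp [mul_add]) }
  map_one' := MulEquiv.ext fun v => Multiplicative.toAdd.injective (funext fun i => funext fun r => by
    simp)
  map_mul' u w := MulEquiv.ext fun v => Multiplicative.toAdd.injective (funext fun i => funext fun r => by
    simp [mul_pow, mul_assoc])

theorem act_apply {k : ℕ} {A : Subgroup (GaloisField 11 6)ˣ} (u : A) (v : Multiplicative (Mod k))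
    (i : Fin k) (r : Fin 5) : (act k A u v).toAdd i r =
      ((u : (GaloisField 11 6)ˣ) : GaloisField 11 6) ^ cexp r * v.toAdd i r := rfl

theorem pow_left_apply {k : ℕ} {A : Subgroup (GaloisField 11 6)ˣ}
    (g : Multiplicative (Mod k) ⋊[act k A] A) (m : ℕ) (i : Fin k) (r : Fin 5) :
    ((g ^ m).left).toAdd i r = (∑ j ∈ Finset.range m,
      (((g.right : A) : (GaloisField 11 6)ˣ) : GaloisField 11 6) ^ (cexp r * j)) * g.left.toAdd i r := by
  induction m with
  | zero => simp
  | succ m ih =>
    rw [pow_succ', SemidirectProduct.mul_left]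
    simp only [toAdd_mul, Pi.add_apply, act_apply, ih]
    rw [Finset.sum_range_succ' _ m, mul_zero, pow_zero, add_mul, one_mul, add_comm]
    congr 1
    rw [← mul_assoc, Finset.mul_sum]
    congr 1
    refine Finset.sum_congr rfl fun j _ => ?_
    rw [← pow_add]
    congr 1
    ring


/-- Let J be the first Janko group. Then there are finite groups of arbitrarily large order with exactly the same set of element orders as J × J × J × J. -/
theorem result (N : ℕ) : ∃ (H : Type) (_ : Group H) (_ : Fintype H), N < Fintype.card H ∧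
      Set.range (orderOf : H → ℕ) = Set.range (orderOf : ↥Cfsg.Spor.J1 × ↥Cfsg.Spor.J1 × ↥Cfsg.Spor.J1 × ↥Cfsg.Spor.J1 → ℕ) := by
  classical
  have hK : Nat.card (GaloisField 11 6) = 11 ^ 6 := GaloisField.card 11 6 (by norm_num)
  obtain ⟨ζ, hζ⟩ : ∃ ζ : (GaloisField 11 6)ˣ, orderOf ζ = 3990 := by
    obtain ⟨g, hg⟩ := IsCyclic.exists_generator (α := (GaloisField 11 6)ˣ)
    have ho : orderOf g = 11 ^ 6 - 1 := by
      rw [orderOf_eq_card_of_forall_mem_zpowers hg, Nat.card_units, hK]
    refine ⟨g ^ ((11 ^ 6 - 1) / 3990), ?_⟩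
    rw [orderOf_pow_of_dvd (by norm_num) (by rw [ho]; norm_num), ho]
    norm_num
  let A : Subgroup (GaloisField 11 6)ˣ := Subgroup.zpowers ζ
  have hA : Nat.card A = 3990 := by rw [Nat.card_zpowers, hζ]
  let k := N + 1
  let e : (Multiplicative (Mod k) ⋊[act k A] A) ≃ Multiplicative (Mod k) × A := SemidirectProduct.equivProd
  have : Finite (Multiplicative (Mod k) ⋊[act k A] A) := Finite.of_equiv _ e.symm
  let hFin : Fintype (Multiplicative (Mod k) ⋊[act k A] A) := Fintype.ofFinite _
  refine ⟨Multiplicative (Mod k) ⋊[act k A] A, inferInstance, hFin, ?_, ?_⟩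
  · rw [← Nat.card_eq_fintype_card, Nat.card_congr e, Nat.card_prod, hA,
      show Nat.card (Multiplicative (Mod k)) = Nat.card (Mod k) from rfl]
    rw [Nat.card_fun, Nat.card_fun, hK, Nat.card_fin, Nat.card_fin]
    have h1 : N + 1 ≤ ((11 ^ 6) ^ 5) ^ (N + 1) := (Nat.lt_pow_self (by norm_num)).le
    calc N < N + 1 := Nat.lt_succ_self N
      _ ≤ ((11 ^ 6) ^ 5) ^ (N + 1) := h1
      _ ≤ ((11 ^ 6) ^ 5) ^ (N + 1) * 3990 := Nat.le_mul_of_pos_right _ (by norm_num)
  rw [range_J1_four]
  have hone : ∀ u : A, ((u : (GaloisField 11 6)ˣ) : GaloisField 11 6) ^ 3990 = 1 := fun u => by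
    rw [← Units.val_pow_eq_pow_val, ← Subgroup.coe_pow,
      show u ^ 3990 = 1 by rw [← hA]; exact pow_card_eq_one']
    rfl
  have hE : ∀ v : Multiplicative (Mod k), v ^ 11 = 1 := fun v => by
    refine Multiplicative.toAdd.injective (funext fun i => funext fun r => ?_)
    rw [toAdd_pow, toAdd_one, Pi.smul_apply, Pi.smul_apply, nsmul_eq_mul, CharP.cast_eq_zero,
      zero_mul]
    rfl
  have hvm : ∀ (g : Multiplicative (Mod k) ⋊[act k A] A) (m : ℕ), (g.right) ^ m = 1 →
      g ^ m = SemidirectProduct.inl (g ^ m).left := fun g m hm => SemidirectProduct.ext rfl (by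
    rw [SemidirectProduct.right_inl, ← hm]
    exact map_pow SemidirectProduct.rightHom g m)
  have hbig : ∀ g : Multiplicative (Mod k) ⋊[act k A] A,
      orderOf g ∣ 43890 ∧ orderOf g ≠ 43890 := by
    intro g
    set m := orderOf g.right with hm
    have hm3990 : m ∣ 3990 := hA ▸ orderOf_dvd_natCard _
    have h11 : g ^ (m * 11) = 1 := by
      rw [pow_mul, hvm g m (pow_orderOf_eq_one _), ← map_pow, hE, map_one]
    have hdvd : orderOf g ∣ m * 11 := orderOf_dvd_of_pow_eq_one h11
    refine ⟨hdvd.trans (Nat.mul_dvd_mul hm3990 dvd_rfl |>.trans (by norm_num)), fun h => ?_⟩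
    rw [h] at hdvd
    have hmeq : m = 3990 := by
      have h1 := Nat.le_of_dvd (by norm_num) hm3990
      have h2 := Nat.le_of_dvd (Nat.mul_pos (orderOf_pos _) (by norm_num)) hdvd
      omega
    have hg1 : g ^ 3990 = 1 := by
      rw [hvm g 3990 (by rw [← hmeq]; exact pow_orderOf_eq_one _)]
      refine (congrArg SemidirectProduct.inl ?_).trans (map_one _)
      refine Multiplicative.toAdd.injective (funext fun i => funext fun r => ?_)
      rw [pow_left_apply, toAdd_one]
      refine (mul_eq_zero.mpr (Or.inl ?_)).trans rfl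
      set u : GaloisField 11 6 := ((g.right : (GaloisField 11 6)ˣ) : GaloisField 11 6) with hu
      have hne : u ^ cexp r ≠ 1 := fun h' => by
        have hou : orderOf u = 3990 := by rw [hu, orderOf_units, Subgroup.orderOf_coe, ← hm, hmeq]
        have := orderOf_dvd_of_pow_eq_one h'
        rw [hou] at this
        revert this
        fin_cases r <;> simp [cexp]
      simp only [pow_mul]
      rw [geom_sum_eq hne, ← pow_mul, mul_comm, pow_mul, hone, one_pow, sub_self, zero_div]
    have := orderOf_dvd_of_pow_eq_one hg1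
    rw [h] at this
    norm_num at this
  ext d
  constructor
  · rintro ⟨g, rfl⟩
    exact hbig g
  rintro ⟨hd, hne⟩
  obtain ⟨q, hq, hdq⟩ := exists_prime_quot hd hne
  let a0 : A := ⟨ζ, Subgroup.mem_zpowers ζ⟩
  have ha0 : orderOf a0 = 3990 := by rw [← hζ, ← Subgroup.orderOf_coe]
  have hinr : ∀ u : A, orderOf (SemidirectProduct.inr u : Multiplicative (Mod k) ⋊[act k A] A) = orderOf u :=
    fun u => orderOf_injective _ SemidirectProduct.inr_injective u
  have hfix : ∀ (r : Fin 5) (s : ℕ), s ∣ 3990 → s ≠ 0 → (3990 ∣ s * cexp r) → 43890 / q = 3990 / s * 11 →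
      d ∈ Set.range (orderOf : (Multiplicative (Mod k) ⋊[act k A] A) → ℕ) := by
    intro r s hs hs0 hsr hq'
    let v : Multiplicative (Mod k) := Multiplicative.ofAdd (fun _ r' => if r' = r then 1 else 0)
    have hv : orderOf v = 11 := by
      refine orderOf_eq_prime (hE v) fun h => ?_
      have := congrFun (congrFun (congrArg Multiplicative.toAdd h) 0) r
      simp [v] at this
    let u : A := a0 ^ s
    have hu : orderOf u = 3990 / s := by rw [orderOf_pow_of_dvd hs0 (ha0.symm ▸ hs), ha0]
    have hact : act k A u v = v := by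
      refine Multiplicative.toAdd.injective (funext fun i => funext fun r' => ?_)
      rw [act_apply]
      by_cases hr : r' = r
      · subst hr
        have h1 : ((u : (GaloisField 11 6)ˣ) : GaloisField 11 6) ^ cexp r' = 1 := by
          show (((a0 ^ s : A) : (GaloisField 11 6)ˣ) : GaloisField 11 6) ^ cexp r' = 1
          rw [Subgroup.coe_pow, ← Units.val_pow_eq_pow_val, ← pow_mul,
            orderOf_dvd_iff_pow_eq_one.mp (hζ ▸ hsr : orderOf ζ ∣ s * cexp r'), Units.val_one]
        rw [h1, one_mul]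
      · simp [v, hr]
    have hc : Commute (SemidirectProduct.inl v : Multiplicative (Mod k) ⋊[act k A] A)
        (SemidirectProduct.inr u) := by
      have := SemidirectProduct.inl_aut (φ := act k A) u v
      rw [hact] at this
      exact (mul_inv_eq_iff_eq_mul.mp (by simpa using this.symm)).symm
    refine mem_range_orderOf (x := SemidirectProduct.inl v * SemidirectProduct.inr u) ?_ (orderOf_pos _).ne'
    rw [hc.orderOf_mul_eq_mul_orderOf_of_coprime]
    · rw [orderOf_injective _ SemidirectProduct.inl_injective, hv, hinr, hu, mul_comm, ← hq']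
      exact hdq
    · rw [orderOf_injective _ SemidirectProduct.inl_injective, hv, hinr, hu]
      refine ((Nat.Prime.coprime_iff_not_dvd (by norm_num)).mpr fun h => ?_)
      have := h.trans (Nat.div_dvd_of_dvd hs)
      norm_num at this
  simp only [List.mem_cons, List.not_mem_nil, or_false] at hq
  rcases hq with rfl | rfl | rfl | rfl | rfl | rfl
  · exact hfix 0 2 (by norm_num) (by norm_num) (by decide) (by norm_num)
  · exact hfix 1 3 (by norm_num) (by norm_num) (by decide) (by norm_num)
  · exact hfix 2 5 (by norm_num) (by norm_num) (by decide) (by norm_num)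
  · exact hfix 3 7 (by norm_num) (by norm_num) (by decide) (by norm_num)
  · exact mem_range_orderOf (x := SemidirectProduct.inr a0) (by rw [hinr, ha0]; simpa using hdq)
      (by rw [hinr, ha0]; norm_num)
  · exact hfix 4 19 (by norm_num) (by norm_num) (by decide) (by norm_num)

end Cfsg.Agent.S3627
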