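import Cfsg.Statements.S3633
import Cfsg.Agent.PrimeGraph.ThreePrimes

set_option autoImplicit false
open Cfsg

namespace Cfsg.Agent.S3633

theorem result {G : Type*} [Group G] [Finite G] (ρ : Finset ℕ) (hρ : 3 ≤ ρ.card) (hc : ((∀ r ∈ ρ, r.Prime ∧ r ∣ Nat.card G) ∧ (∀ r ∈ ρ, ∀ s ∈ ρ, r ≠ s → ¬ ∃ x : G, orderOf x = r * s)))
    (K : Subgroup G) [K.Normal] (hK : Group.IsSolvable ↥K) :
    (∀ r ∈ ρ, ∀ s ∈ ρ, r ∣ Nat.card ↥K → s ∣ Nat.card ↥K → r = s) ∧ ¬ Group.IsSolvable G := by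
  refine ⟨PrimeGraph.coclique_solvable_normal ρ hρ hc.1 hc.2 K hK, fun hG => ?_⟩
  have hT := PrimeGraph.coclique_solvable_normal ρ hρ hc.1 hc.2 (⊤ : Subgroup G) inferInstance
  obtain ⟨r, hr, s, hs, hne⟩ := Finset.one_lt_card.mp (show 1 < ρ.card by omega)
  exact hne (hT r hr s hs (by rw [Subgroup.card_top]; exact (hc.1 r hr).2)
    (by rw [Subgroup.card_top]; exact (hc.1 s hs).2))

end Cfsg.Agent.S3633
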