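import Cfsg.Statements.S3634
import Cfsg.Agent.PrimeGraph.ThreePrimes

set_option autoImplicit false
open Cfsg

namespace Cfsg.Agent.S3634

theorem result {G : Type*} [Group G] [Finite G] (K M : Subgroup G) [K.Normal] [M.Normal] (hKM : K ≤ M)
    (p q r : ℕ) (hp : p.Prime) (hq : q.Prime) (hr : r.Prime) (hpq : p ≠ q) (hpr : p ≠ r) (hqr : q ≠ r)
    (hpK : p ∣ Nat.card ↥K) (hqM : q ∣ Nat.card ↥M / Nat.card ↥K) (hrG : r ∣ Nat.card G / Nat.card ↥M) :
    (∃ x : G, orderOf x = p * q) ∨ (∃ x : G, orderOf x = p * r) ∨ (∃ x : G, orderOf x = q * r) := by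
  refine PrimeGraph.three_primes K M hKM p q r hp hq hr hpq hpr hqr hpK ?_ ?_
  · have h : Nat.card ↥K * K.relIndex M = Nat.card ↥M := by
      rw [← Subgroup.relIndex_bot_left, ← Subgroup.relIndex_bot_left,
        Subgroup.relIndex_mul_relIndex _ _ _ bot_le hKM]
    rwa [← h, Nat.mul_div_cancel_left _ Nat.card_pos] at hqM
  · rwa [← Subgroup.card_mul_index M, Nat.mul_div_cancel_left _ Nat.card_pos] at hrG

end Cfsg.Agent.S3634
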