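import Cfsg.Statements.S3639
import Cfsg.Agent.PrimeGraph.Extension
import Cfsg.Agent.PrimeGraph.SuzukiFixed

set_option autoImplicit false
open Cfsg

namespace Cfsg.Agent.S3639

open Matrix in
theorem result {F : Type*} [Field F] [Fintype F] {m : ℕ} (hm : 1 ≤ m) (hF : Fintype.card F = 2 ^ (2 * m + 1)) (N : ℕ) :
    ∃ (H : Type) (_ : Group H) (_ : Fintype H), N < Fintype.card H ∧ ((∀ r : ℕ, r.Prime → (r ∣ Nat.card ↥(Cfsg.Lie.Sz F (2 ^ (m + 1))) ↔ r ∣ Nat.card H)) ∧
      (∀ r s : ℕ, r.Prime → s.Prime → r ≠ s → ((∃ x : ↥(Cfsg.Lie.Sz F (2 ^ (m + 1))), orderOf x = r * s) ↔ (∃ y : H, orderOf y = r * s)))) := by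
  have : CharP F 2 := charP_of_card_eq_prime_pow hF
  have : Fact (Nat.Prime 2) := ⟨Nat.prime_two⟩
  let φ : ↥(Cfsg.Lie.Sz F (2 ^ (m + 1))) →* MulAut (Multiplicative (Fin 4 → F)) :=
    { toFun := fun g =>
        { toFun := fun x => Multiplicative.ofAdd ((g : GL (Fin 4) F).1 *ᵥ x.toAdd)
          invFun := fun x => Multiplicative.ofAdd ((g : GL (Fin 4) F).2 *ᵥ x.toAdd)
          left_inv := fun x => by simp [Matrix.mulVec_mulVec]
          right_inv := fun x => by simp [Matrix.mulVec_mulVec]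
          map_mul' := fun x y => by simp [Matrix.mulVec_add] }
      map_one' := by ext x; simp
      map_mul' := fun a b => by ext x; simp [Matrix.mulVec_mulVec] }
  refine PrimeGraph.exists_large Nat.prime_two (PrimeGraph.even_card_Sz (m + 1))
    (fun x => ⟨1, ?_⟩) φ ?_ N
  · apply Multiplicative.toAdd.injective
    rw [pow_one, toAdd_pow, two_smul, CharTwo.add_self_eq_zero, toAdd_one]
  · intro g hg hg2 v hv
    by_contra hv1
    have h1 : (g : GL (Fin 4) F) = 1 := PrimeGraph.eq_one_of_fixed g.2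
      (by rw [Subgroup.orderOf_coe]; exact hg.odd_of_ne_two hg2)
      (v := v.toAdd) (fun h => hv1 (Multiplicative.toAdd.injective (by rw [h, toAdd_one])))
      (congrArg Multiplicative.toAdd hv)
    exact hg.one_lt.ne' (by rw [orderOf_eq_one_iff]; exact Subtype.ext h1)

end Cfsg.Agent.S3639
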