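import Cfsg.Statements.S3641
import Cfsg.Agent.Fg24.Sylow17.Main

set_option autoImplicit false
open Cfsg

namespace Cfsg.Agent.S3641

/-- Let G be a finite group with trivial centre whose set of Sylow numbers (numbers of Sylow r-subgroups, r over the prime divisors of its order) is exactly {18, 136, 153}. Then G is isomorphic to PSL(2, 17) or to PGL(2, 17). -/
theorem result {G : Type*} [Group G] [Finite G] (hZ : Subgroup.center G = ⊥) (hNS : {c : ℕ | ∃ r : ℕ, r.Prime ∧ r ∣ Nat.card G ∧ c = Nat.card (Sylow r G)} = ({18, 136, 153} : Set ℕ))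
    {F : Type*} [Field F] [Fintype F] (hF : Fintype.card F = 17) :
    Nonempty (G ≃* Matrix.ProjectiveSpecialLinearGroup (Fin 2) F) ∨ Nonempty (G ≃* (GL (Fin 2) F ⧸ Subgroup.center (GL (Fin 2) F))) := by
  haveI : Fact (Nat.Prime 17) := ⟨by norm_num⟩
  let σ : ZMod 17 ≃+* F := ZMod.ringEquivOfPrime F (by norm_num) hF
  haveI : Finite (Matrix.ProjGenLinGroup (Fin 2) (ZMod 17)) :=
    Finite.of_surjective _ Matrix.ProjGenLinGroup.mk_surjective
  rcases Agent.Fg24.Sylow17.classify hZ hNS with ⟨⟨e⟩⟩ | ⟨⟨e⟩⟩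
  · refine Or.inr ?_
    have hcard : Nat.card (Matrix.ProjGenLinGroup (Fin 2) F) =
        Nat.card (Matrix.ProjGenLinGroup (Fin 2) (ZMod 17)) := by
      refine le_antisymm (Nat.card_le_card_of_injective _
        (Agent.Classical.SubfieldPSL.pglMap_injective σ.symm.toRingHom)) ?_
      haveI : Finite (Matrix.ProjGenLinGroup (Fin 2) F) :=
        Finite.of_surjective _ Matrix.ProjGenLinGroup.mk_surjective
      exact Nat.card_le_card_of_injective _ (Agent.Classical.SubfieldPSL.pglMap_injective σ.toRingHom)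
    haveI : Finite (Matrix.ProjGenLinGroup (Fin 2) F) :=
      Finite.of_surjective _ Matrix.ProjGenLinGroup.mk_surjective
    have hbij : Function.Bijective (Agent.Classical.SubfieldPSL.pglMap σ.toRingHom) :=
      (Nat.bijective_iff_injective_and_card _).2
        ⟨Agent.Classical.SubfieldPSL.pglMap_injective σ.toRingHom, hcard.symm⟩
    exact ⟨e.trans (MulEquiv.ofBijective _ hbij)⟩
  · obtain ⟨E⟩ := Agent.Classical.Small.psl_congr (n := 2) σ
    exact Or.inl ⟨e.trans E⟩

end Cfsg.Agent.S3641
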