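import Cfsg.Statements.S3660
import Cfsg.Agent.PrimeGraph.Extension

set_option autoImplicit false
open Cfsg

namespace Cfsg.Agent.S3660

open Matrix in
theorem fixed_sq {F : Type*} [Field F] [CharP F 2] (A : Matrix.SpecialLinearGroup (Fin 2) F)
    (v : Fin 2 → F) (hv : v ≠ 0) (hA : (A : Matrix (Fin 2) (Fin 2) F) *ᵥ v = v) : A ^ 2 = 1 := by
  have h2 : (2 : F) = 0 := CharTwo.two_eq_zero
  set M := (A : Matrix (Fin 2) (Fin 2) F) with hM
  have hdet : M 0 0 * M 1 1 - M 0 1 * M 1 0 = 1 := by
    have := A.2
    rwa [Matrix.det_fin_two] at this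
  have h1 : (M - 1).det = 0 :=
    Matrix.exists_mulVec_eq_zero_iff.mp ⟨v, hv, by rw [Matrix.sub_mulVec, hA, Matrix.one_mulVec, sub_self]⟩
  simp [Matrix.det_fin_two] at h1
  have htr : M 0 0 + M 1 1 = 0 := by linear_combination -h1 + hdet + h2
  apply Matrix.SpecialLinearGroup.ext
  intro i j
  rw [pow_two, Matrix.SpecialLinearGroup.coe_mul, ← hM, Matrix.SpecialLinearGroup.coe_one,
    Matrix.mul_apply, Fin.sum_univ_two]
  fin_cases i <;> fin_cases j <;> simp
  · linear_combination M 0 0 * htr - hdet - h2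
  · linear_combination M 0 1 * htr
  · linear_combination M 1 0 * htr
  · linear_combination M 1 1 * htr - hdet - h2

theorem result {F : Type*} [Field F] [Fintype F] [CharP F 2] (hF : 4 ≤ Fintype.card F) (N : ℕ) :
    ∃ (H : Type) (_ : Group H) (_ : Finite H), N < Nat.card H ∧
      ((∀ p : ℕ, p.Prime → (p ∣ Nat.card (Matrix.ProjectiveSpecialLinearGroup (Fin 2) F) ↔ p ∣ Nat.card H)) ∧
      (∀ p q : ℕ, p.Prime → q.Prime → p ≠ q → ((∃ g : (Matrix.ProjectiveSpecialLinearGroup (Fin 2) F), orderOf g = p * q) ↔ (∃ g : H, orderOf g = p * q)))) := by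
  have : Fact (Nat.Prime 2) := ⟨Nat.prime_two⟩
  have hc : Subgroup.center (Matrix.SpecialLinearGroup (Fin 2) F) = ⊥ := by
    rw [eq_bot_iff]
    intro A hA
    obtain ⟨r, hr, hA'⟩ := Matrix.SpecialLinearGroup.mem_center_iff.mp hA
    have hr1 : r = 1 := by
      rw [Fintype.card_fin] at hr
      exact sub_eq_zero.mp (pow_eq_zero_iff two_ne_zero |>.mp (show (r - 1) ^ 2 = 0 by
        linear_combination hr + (1 - r) * (CharTwo.two_eq_zero : (2 : F) = 0)))
    rw [Subgroup.mem_bot]
    apply Subtype.ext
    rw [← hA', hr1, map_one]; rfl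
  let e : Matrix.ProjectiveSpecialLinearGroup (Fin 2) F ≃* Matrix.SpecialLinearGroup (Fin 2) F :=
    (QuotientGroup.quotientMulEquivOfEq hc).trans QuotientGroup.quotientBot
  let φ : Matrix.SpecialLinearGroup (Fin 2) F →* MulAut (Multiplicative (Fin 2 → F)) :=
    { toFun := fun g =>
        { toFun := fun x => Multiplicative.ofAdd ((g : Matrix (Fin 2) (Fin 2) F).mulVec x.toAdd)
          invFun := fun x => Multiplicative.ofAdd ((↑(g⁻¹) : Matrix (Fin 2) (Fin 2) F).mulVec x.toAdd)
          left_inv := fun x => Multiplicative.toAdd.injective (by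
            simp only [toAdd_ofAdd, Matrix.mulVec_mulVec]
            rw [← Matrix.SpecialLinearGroup.coe_mul, inv_mul_cancel,
              Matrix.SpecialLinearGroup.coe_one, Matrix.one_mulVec])
          right_inv := fun x => Multiplicative.toAdd.injective (by
            simp only [toAdd_ofAdd, Matrix.mulVec_mulVec]
            rw [← Matrix.SpecialLinearGroup.coe_mul, mul_inv_cancel,
              Matrix.SpecialLinearGroup.coe_one, Matrix.one_mulVec])
          map_mul' := fun x y => Multiplicative.toAdd.injective (by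
            simp only [toAdd_ofAdd, toAdd_mul, Matrix.mulVec_add]) }
      map_one' := MulEquiv.ext fun x => Multiplicative.toAdd.injective
        (Matrix.one_mulVec (x.toAdd : Fin 2 → F))
      map_mul' := fun a b => MulEquiv.ext fun x => Multiplicative.toAdd.injective
        (Matrix.mulVec_mulVec x.toAdd (a : Matrix (Fin 2) (Fin 2) F) (b : Matrix (Fin 2) (Fin 2) F)).symm }
  have heven : 2 ∣ Nat.card (Matrix.ProjectiveSpecialLinearGroup (Fin 2) F) := by
    rw [Nat.card_congr e.toEquiv]
    let u : Matrix.SpecialLinearGroup (Fin 2) F :=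
      ⟨!![1, 1; 0, 1], by simp [Matrix.det_fin_two_of]⟩
    have : orderOf u = 2 := orderOf_eq_prime
      (by
        apply Matrix.SpecialLinearGroup.ext
        intro i j
        rw [pow_two, Matrix.SpecialLinearGroup.coe_mul]
        fin_cases i <;> fin_cases j <;>
          simp [u, Matrix.mul_apply, Fin.sum_univ_two, CharTwo.add_self_eq_zero])
      (fun h => by
        have := congrArg (fun x : Matrix.SpecialLinearGroup (Fin 2) F => (x : Matrix (Fin 2) (Fin 2) F) 0 1) h
        simp [u] at this)
    have h2 := orderOf_dvd_natCard u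
    rwa [this] at h2
  obtain ⟨H, hG, hfin, hN, hgr⟩ := PrimeGraph.exists_large Nat.prime_two heven
    (V := Multiplicative (Fin 2 → F)) (fun x => ⟨1, by
      apply Multiplicative.toAdd.injective
      rw [pow_one, toAdd_pow, two_smul, CharTwo.add_self_eq_zero, toAdd_one]⟩)
    (φ.comp e.toMonoidHom) (fun g hg hg2 v hv => by
      by_contra hv1
      have h1 := fixed_sq (e g) v.toAdd
        (fun h => hv1 (Multiplicative.toAdd.injective (by rw [h, toAdd_one])))
        (congrArg Multiplicative.toAdd hv)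
      have h3 : orderOf g ∣ 2 := orderOf_dvd_of_pow_eq_one (e.injective (by rw [map_pow, h1, map_one]))
      exact hg2 ((Nat.prime_dvd_prime_iff_eq hg Nat.prime_two).mp h3)) N
  exact ⟨H, hG, inferInstance, by rwa [Nat.card_eq_fintype_card], hgr⟩

end Cfsg.Agent.S3660
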