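import Cfsg.Statements.S3663
import Cfsg.Agent.U34.Module
import Cfsg.Agent.PrimeGraph.PartialExtension
-- import your own Cfsg.Agent.* helpers here

set_option autoImplicit false
open Cfsg

namespace Cfsg.Agent.S3663
open Cfsg.Agent.U34

/-- The prime graph of a finite group has the prime divisors of its order as vertices, two distinct primes p, q being joined when the group has an element of order pq; two groups have the same prime graph when they have the same prime divisors and the same joined pairs. Let F be the field with 16 elements and L = PSU(3,4) realised over F. There are finite groups of arbitrarily large order with the same prime graph as L. -/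
theorem result {F : Type*} [Field F] [Fintype F] (hF : Fintype.card F = 16) (N : ℕ) :
    ∃ (H : Type) (_ : Group H) (_ : Finite H), N < Nat.card H ∧
      ((∀ p : ℕ, p.Prime → (p ∣ Nat.card (Cfsg.PSU 3 F 4) ↔ p ∣ Nat.card H)) ∧
      (∀ p q : ℕ, p.Prime → q.Prime → p ≠ q → ((∃ g : (Cfsg.PSU 3 F 4), orderOf g = p * q) ↔ (∃ g : H, orderOf g = p * q)))) := by
  let e : F16 ≃+* F := FiniteField.ringEquivOfCardEq (F16.card.trans hF.symm)
  let π : PSU 3 F 4 ≃* SU 3 F16 4 := (psuEquiv hF).trans (mapSU 3 4 e).symm
  let xG : frameGroup := ⟨(suX, permutX), Subgroup.subset_closure (Set.mem_insert _ _)⟩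
  let zG : frameGroup := ⟨(suZ, permutZ), Subgroup.subset_closure (Set.mem_insert_of_mem _ rfl)⟩
  have oX : orderOf xG = 13 := by rw [← orderOf_injective toSU toSU_injective]; exact orderOf_suX
  have oZ : orderOf zG = 15 := by rw [← orderOf_injective toSU toSU_injective]; exact orderOf_suZ
  have oY : orderOf (xG * zG) = 10 := by
    rw [← orderOf_injective toSU toSU_injective, map_mul]; exact orderOf_suY
  have hG0 : Nat.card frameGroup ∣ 62400 :=
    dvd_card_suU ▸ Subgroup.card_dvd_of_injective toSU toSU_injective
  have h5 : 5 ∣ Nat.card frameGroup :=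
    (show 5 ∣ 15 by norm_num).trans (oZ ▸ orderOf_dvd_natCard zG)
  have : Nontrivial Mod :=
    ⟨⟨Multiplicative.ofAdd ⟨basisVec 0, AddSubgroup.subset_closure ⟨0, rfl⟩⟩, 1, fun h =>
      basisVec_ne_zero (congrArg (fun v : Mod => v.toAdd.1) h)⟩⟩
  have hV : IsPGroup 5 Mod := fun v => ⟨1, Multiplicative.toAdd.injective (Subtype.ext
    (funext fun k => by simp [show (5 : ZMod 5) = 0 from by decide]))⟩
  have hprimes : ∀ r : ℕ, r.Prime → r ∣ 62400 → r = 2 ∨ r = 3 ∨ r = 5 ∨ r = 13 := by
    intro r hr hd
    rw [show (62400 : ℕ) = 2 ^ 6 * 3 * 5 ^ 2 * 13 by norm_num] at hd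
    simp only [hr.dvd_mul] at hd
    have key : ∀ a : ℕ, a.Prime → ∀ n, r ∣ a ^ n → r = a := fun a ha n h =>
      (Nat.prime_dvd_prime_iff_eq hr ha).mp (hr.dvd_of_dvd_pow h)
    rcases hd with ((h | h) | h) | h
    · exact Or.inl (key 2 Nat.prime_two 6 h)
    · exact Or.inr (Or.inl (key 3 Nat.prime_three 1 (by simpa using h)))
    · exact Or.inr (Or.inr (Or.inl (key 5 (by norm_num) 2 h)))
    · exact Or.inr (Or.inr (Or.inr (key 13 (by norm_num) 1 (by simpa using h))))
  have hedge : ∀ r, r = 2 ∨ r = 3 → ∃ x : frameGroup, orderOf x = r * 5 := by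
    rintro r (rfl | rfl)
    exacts [⟨_, oY⟩, ⟨_, oZ⟩]
  obtain ⟨H, iH, fH, hN, hpi, hgr⟩ := PrimeGraph.exists_large_of_partial (by norm_num : Nat.Prime 5)
    h5 hV modAction (fun g hg hg5 hno v hv => by
      rcases hprimes _ hg ((orderOf_dvd_natCard g).trans hG0) with h | h | h | h
      · exact absurd (hedge _ (Or.inl h)) hno
      · exact absurd (hedge _ (Or.inr h)) hno
      · exact absurd h hg5
      have : Fact (Nat.Prime 13) := ⟨by norm_num⟩
      have h169 : ¬ 13 ^ 2 ∣ Nat.card frameGroup := fun h2 =>
        absurd (h2.trans hG0) (by norm_num)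
      obtain ⟨c, hc⟩ := exists_conj_zpowers h169 oX h
      let S : Subgroup frameGroup :=
        { carrier := {y | modAction y (modAction c v) = modAction c v}
          one_mem' := by simp
          mul_mem' := fun {a b} ha hb => by
            simp only [Set.mem_ofPred_eq, map_mul, MulAut.mul_apply] at *
            rw [hb, ha]
          inv_mem' := fun {a} ha => by
            simp only [Set.mem_ofPred_eq, map_inv] at *
            conv_lhs => rw [← ha]
            exact (modAction a).symm_apply_apply _ }
      have hconj : c * g * c⁻¹ ∈ S := by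
        change modAction (c * g * c⁻¹) (modAction c v) = modAction c v
        rw [← MulAut.mul_apply, ← map_mul, inv_mul_cancel_right, map_mul, MulAut.mul_apply, hv]
      have hx : modAction xG⁻¹ (modAction c v) = modAction c v :=
        S.inv_mem ((Subgroup.zpowers_le.mpr hconj) hc)
      have h0 : (modAction c v).toAdd.1 = 0 := eq_zero_of_fixed (modAction c v).toAdd.2 (by
        have h1 := congrArg (fun w : Mod => w.toAdd.1) hx
        simp only [modAction_apply, inv_inv] at h1
        exact h1)
      refine (modAction c).injective (Eq.trans ?_ (map_one _).symm)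
      exact Multiplicative.toAdd.injective (Subtype.ext h0)) N
  refine ⟨H, iH, inferInstance, by rwa [Nat.card_eq_fintype_card], ?_, ?_⟩
  · intro p hp
    rw [Nat.card_congr π.toEquiv, dvd_card_suU, ← hpi p hp]
    refine ⟨fun hd => ?_, fun hd => hd.trans hG0⟩
    rcases hprimes p hp hd with rfl | rfl | rfl | rfl
    · exact (show 2 ∣ 10 by norm_num).trans (oY ▸ orderOf_dvd_natCard _)
    · exact (show 3 ∣ 15 by norm_num).trans (oZ ▸ orderOf_dvd_natCard _)
    · exact h5
    · exact oX ▸ orderOf_dvd_natCard _
  · intro p q hp hq hpq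
    rw [← hgr p q hp hq hpq]
    constructor
    · rintro ⟨g, hg⟩
      have hu : orderOf (π g) = p * q := (π.orderOf_eq g).trans hg
      have hd : ∀ r, r ∣ p * q → r.Prime → r = 2 ∨ r = 3 ∨ r = 5 ∨ r = 13 := fun r hr hrp =>
        hprimes r hrp (dvd_card_suU ▸ hr.trans (hu ▸ orderOf_dvd_natCard _))
      have hno : ∀ r s : ℕ, r * s = p * q → r.Prime → s.Prime →
          ((s = 13 ∧ (r = 2 ∨ r = 3 ∨ r = 5)) ∨ (s = 3 ∧ r = 2)) → False := by
        intro r s hrs hr hs hc
        set u := π g
        have hur : orderOf (u ^ r) = s := by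
          rw [orderOf_pow_of_dvd hr.ne_zero (hu.trans hrs.symm ▸ dvd_mul_right r s), hu, ← hrs,
            Nat.mul_div_cancel_left _ hr.pos]
        have hus : orderOf (u ^ s) = r := by
          rw [orderOf_pow_of_dvd hs.ne_zero (hu.trans hrs.symm ▸ dvd_mul_left s r), hu, ← hrs,
            Nat.mul_div_cancel _ hs.pos]
        have h1 := eq_one_of_commute_prime hc (u ^ s) (u ^ r) hur
          (hus ▸ pow_orderOf_eq_one _) ((Commute.refl u).pow_pow s r)
        rw [h1, orderOf_one] at hus
        exact hr.one_lt.ne hus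
      rcases hd p (dvd_mul_right p q) hp with rfl | rfl | rfl | rfl <;>
        rcases hd q (dvd_mul_left q _) hq with rfl | rfl | rfl | rfl <;>
        first
          | exact absurd rfl hpq
          | exact hedge _ (Or.inl rfl)
          | exact hedge _ (Or.inr rfl)
          | (rw [mul_comm]; exact hedge _ (Or.inl rfl))
          | (rw [mul_comm]; exact hedge _ (Or.inr rfl))
          | (refine (hno _ _ rfl hp hq ?_).elim; norm_num; done)
          | (refine (hno _ _ (mul_comm _ _) hq hp ?_).elim; norm_num; done)
    · rintro ⟨x, hx⟩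
      exact ⟨π.symm (toSU x), by rw [π.symm.orderOf_eq, orderOf_injective toSU toSU_injective, hx]⟩

end Cfsg.Agent.S3663
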