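import Cfsg.Statements.S4774
-- import your own Cfsg.Agent.* helpers here

import Cfsg.Agent.GL2Rep.SLParity

set_option autoImplicit false
open Cfsg

namespace Cfsg.Agent.S4774

open Cfsg.Agent.GL2Rep Cfsg.Agent.GL2Rep.SL Matrix


/-- Let F be a finite field of odd characteristic t with q > 5 elements and let S be isomorphic to PSL(2,F) or to SL(2,F). Then the vertices of the character degree graph of S are the primes dividing q(q²−1); the prime t is adjacent to no vertex; two distinct primes dividing q² − 1 are adjacent exactly when one of them is 2, or both divide q + 1, or both divide q − 1. -/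
theorem result (F : Type*) [Field F] [Fintype F] (t : ℕ) [Fact t.Prime] [CharP F t] (ht : t ≠ 2) (q : ℕ) (hq : Fintype.card F = q) (h5 : 5 < q) {S : Type*} [Group S] [Finite S] (hS : Nonempty (S ≃* Matrix.ProjectiveSpecialLinearGroup (Fin 2) F) ∨ Nonempty (S ≃* Matrix.SpecialLinearGroup (Fin 2) F)) : Cfsg.degreePrimes S = {r : ℕ | r.Prime ∧ r ∣ q * (q ^ 2 - 1)} ∧ ∀ r s : ℕ, (Cfsg.degreeGraph S).Adj r s ↔ (r ≠ s ∧ r.Prime ∧ s.Prime ∧ r ∣ q ^ 2 - 1 ∧ s ∣ q ^ 2 - 1 ∧ (r = 2 ∨ s = 2 ∨ (r ∣ q + 1 ∧ s ∣ q + 1) ∨ (r ∣ q - 1 ∧ s ∣ q - 1))) := by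
  classical
  haveI : Fintype (GL (Fin 2) F) := Fintype.ofFinite _
  obtain ⟨π, hπ, hker⟩ : ∃ π : Matrix.SpecialLinearGroup (Fin 2) F →* S, Function.Surjective π ∧ π.ker ≤ Subgroup.center (Matrix.SpecialLinearGroup (Fin 2) F) := by
    rcases hS with ⟨⟨e⟩⟩ | ⟨⟨e⟩⟩
    · refine ⟨e.symm.toMonoidHom.comp (QuotientGroup.mk' _), e.symm.surjective.comp (QuotientGroup.mk'_surjective _), fun x hx => ?_⟩
      rw [MonoidHom.mem_ker, MonoidHom.comp_apply] at hx
      exact (QuotientGroup.eq_one_iff x).1 (e.symm.map_eq_one_iff.1 hx)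
    · refine ⟨e.symm.toMonoidHom, e.symm.surjective, fun x hx => ?_⟩
      rw [e.symm.map_eq_one_iff.1 (MonoidHom.mem_ker.1 hx)]
      exact one_mem _
  have h2 : (2 : F) ≠ 0 := fun e => ht (by
    haveI : CharP F 2 := CharTwo.of_one_ne_zero_of_two_eq_zero one_ne_zero e
    exact CharP.eq F ‹CharP F t› ‹CharP F 2›)
  obtain ⟨hd0, hd1, hd2⟩ := degrees_occur π hπ hker (Or.inr ⟨h2, hq ▸ h5⟩)
  rw [hq] at hd0 hd1 hd2
  have hodd := SL2Class.card_odd_of_two_ne_zero (F := F) h2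
  rw [hq] at hodd
  have opts : ∀ d ∈ Cfsg.charDegrees S, d = 1 ∨ d = q ∨ d ∣ q + 1 ∨ d ∣ q - 1 := by
    intro d hd
    rcases degree_options π hπ hd with h | h | h | h | ⟨-, h⟩ | ⟨-, h⟩ <;> rw [← hq]
    · exact Or.inl h
    · exact Or.inr (Or.inl h)
    · exact Or.inr (Or.inr (Or.inl (h ▸ dvd_rfl)))
    · exact Or.inr (Or.inr (Or.inr ⟨1, by omega⟩))
    · exact Or.inr (Or.inr (Or.inl ⟨2, by omega⟩))
    · exact Or.inr (Or.inr (Or.inr ⟨2, by omega⟩))
  have hfac : q ^ 2 - 1 = (q + 1) * (q - 1) := by simpa using Nat.sq_sub_sq q 1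
  obtain ⟨a, -, ha⟩ := FiniteField.card F t
  have htp : t.Prime := Fact.out
  refine ⟨?_, fun r s => ?_⟩
  · ext r
    simp only [Cfsg.degreePrimes, Set.mem_ofPred_eq, hfac]
    refine and_congr_right fun hr => ⟨?_, fun h => ?_⟩
    · rintro ⟨d, hd, hdvd⟩
      rcases opts d hd with rfl | rfl | h | h
      · exact absurd (Nat.eq_one_of_dvd_one hdvd) hr.ne_one
      · exact hdvd.mul_right _
      · exact ((hdvd.trans h).mul_right _).mul_left _
      · exact ((hdvd.trans h).mul_left _).mul_left _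
    · rcases hr.dvd_mul.1 h with h | h
      · exact ⟨q, hd0, h⟩
      · rcases hr.dvd_mul.1 h with h | h
        · exact ⟨_, hd1, h⟩
        · exact ⟨_, hd2, h⟩
  show (r ≠ s ∧ r.Prime ∧ s.Prime ∧ ∃ d ∈ Cfsg.charDegrees S, r * s ∣ d) ↔ _
  refine and_congr_right fun hne => and_congr_right fun hr => and_congr_right fun hs => ⟨?_, ?_⟩
  · rintro ⟨d, hd, hdvd⟩
    have h1 := dvd_trans (dvd_mul_right r s) hdvd
    have h2' := dvd_trans (dvd_mul_left s r) hdvd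
    rcases opts d hd with rfl | rfl | h | h
    · exact absurd (Nat.eq_one_of_dvd_one h1) hr.ne_one
    · exfalso
      rw [← hq, ha] at h1 h2'
      exact hne (((Nat.prime_dvd_prime_iff_eq hr htp).1 (hr.dvd_of_dvd_pow h1)).trans
        ((Nat.prime_dvd_prime_iff_eq hs htp).1 (hs.dvd_of_dvd_pow h2')).symm)
    · rw [hfac]
      exact ⟨(h1.trans h).mul_right _, (h2'.trans h).mul_right _, Or.inr (Or.inr (Or.inl ⟨h1.trans h, h2'.trans h⟩))⟩
    · rw [hfac]
      exact ⟨(h1.trans h).mul_left _, (h2'.trans h).mul_left _, Or.inr (Or.inr (Or.inr ⟨h1.trans h, h2'.trans h⟩))⟩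
  · rintro ⟨hr2, hs2, h⟩
    have hco := (Nat.coprime_primes hr hs).2 hne
    have e1 : 2 ∣ q + 1 := Nat.dvd_of_mod_eq_zero (by omega)
    have e2 : 2 ∣ q - 1 := Nat.dvd_of_mod_eq_zero (by omega)
    have both : (r ∣ q + 1 ∧ s ∣ q + 1) ∨ (r ∣ q - 1 ∧ s ∣ q - 1) := by
      rw [hfac, hr.dvd_mul] at hr2
      rw [hfac, hs.dvd_mul] at hs2
      rcases h with rfl | rfl | h
      · exact hs2.imp (fun h => ⟨e1, h⟩) (fun h => ⟨e2, h⟩)
      · exact hr2.imp (fun h => ⟨h, e1⟩) (fun h => ⟨h, e2⟩)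
      · exact h
    rcases both with ⟨a, b⟩ | ⟨a, b⟩
    · exact ⟨_, hd1, hco.mul_dvd_of_dvd_of_dvd a b⟩
    · exact ⟨_, hd2, hco.mul_dvd_of_dvd_of_dvd a b⟩

end Cfsg.Agent.S4774
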