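import Cfsg.Statements.S4782
import Cfsg.Agent.Palfy.Deg
import Cfsg.Agent.Char.PrimeDegrees
-- import your own Cfsg.Agent.* helpers here

set_option autoImplicit false
open Cfsg

namespace Cfsg.Agent.S4782

set_option linter.style.haveILetI false

open Cfsg.Agent.Char

universe v

/-- A non-abelian simple group whose degrees only involve `p` and `q` does not exist. -/
theorem simple_false {S : Type v} [Group S] [Finite S] [IsSimpleGroup S]
    (hna : ¬ ∀ a b : S, a * b = b * a) {p q : ℕ} (hp : p.Prime) (hq : q.Prime)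
    (hpS : p ∣ Nat.card S)
    (h : ∀ χ : IrrCharacter S, ∀ r : ℕ, r.Prime → r ∣ Cfsg.charDegree (χ : S → ℂ) → r = p ∨ r = q) :
    False := by
  classical
  have := Fintype.ofFinite S
  haveI := Fact.mk hp
  obtain ⟨P⟩ : Nonempty (Sylow p S) := inferInstance
  have hPne : (P : Subgroup S) ≠ ⊥ := P.ne_bot_of_dvd_card hpS
  have hPn : Nontrivial (P : Subgroup S) := (Subgroup.nontrivial_iff_ne_bot _).2 hPne
  obtain ⟨⟨a, ha⟩, ha1⟩ := Subgroup.ne_bot_iff_exists_ne_one.1
    (Subgroup.nontrivial_iff_ne_bot _ |>.1 P.isPGroup'.center_nontrivial)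
  have hg : (a : S) ≠ 1 := fun e => ha1 (Subtype.ext (Subtype.ext e))
  have hcl : ¬ p ∣ (Subgroup.centralizer ({(a : S)} : Set S)).index := fun hd => P.not_dvd_index
    (hd.trans (Subgroup.index_dvd_of_le fun u hu => Subgroup.mem_centralizer_singleton_iff.2
      (congrArg Subtype.val (Subgroup.mem_center_iff.1 ha ⟨u, hu⟩))))
  -- every non-trivial irreducible character is divisible by `q` or vanishes at `a`
  have hzero : ∀ χ : IrrCharacter S, (χ : S → ℂ) ≠ (fun _ => 1) → ∀ n : ℕ,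
      (χ : S → ℂ) 1 = n → ¬ q ∣ n → (χ : S → ℂ) a = 0 := by
    intro χ hne n hn hqn
    have hn0 : n ≠ 0 := fun e => IsIrr.one_ne_zero χ.2 (by rw [hn, e, Nat.cast_zero])
    have hn1 : n ≠ 1 := by
      intro e
      subst e
      rw [Nat.cast_one] at hn
      obtain ⟨f, hf⟩ := IsChar.exists_hom (IsIrr.isCharacter χ.2) hn
      rcases IsSimpleGroup.eq_bot_or_eq_top_of_normal f.ker inferInstance with hk | hk
      · refine hna fun x y => (f.ker_eq_bot_iff).1 hk ?_
        rw [map_mul, map_mul, mul_comm]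
      · refine hne (funext fun x => ?_)
        rw [congrFun hf x]
        show ((f x : ℂˣ) : ℂ) = 1
        rw [MonoidHom.mem_ker.1 (hk ▸ Subgroup.mem_top x)]
        simp
    have hpp : ∀ r : ℕ, r.Prime → r ∣ n → r = p := fun r hr hrn =>
      (h χ r hr (by rwa [Blocks.charDegree_eq hn])).resolve_right fun e => hqn (e ▸ hrn)
    refine (IsIrr.zero_or_norm_eq χ.2 (a : S) hn ?_).resolve_right (norm_ne_degree hna hn hn1 hg)
    exact Nat.coprime_of_dvd fun r hr hrn hrc => hcl (hpp r hr hrn ▸ hrc)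
  have hreg := regular_eq_sum (a : S)
  rw [if_neg hg, ← Finset.add_sum_erase _ _ (Finset.mem_univ
    (⟨fun _ => 1, isIrrCharacter_one⟩ : IrrCharacter S))] at hreg
  have hint : IsIntegral ℤ ((1 : ℂ) / q) := by
    have hq0 : (q : ℂ) ≠ 0 := Nat.cast_ne_zero.2 hq.ne_zero
    have e : (1 : ℂ) / q = -∑ χ ∈ Finset.univ.erase
        (⟨fun _ => 1, isIrrCharacter_one⟩ : IrrCharacter S),
        (χ : S → ℂ) 1 * (χ : S → ℂ) a / q := by
      rw [← Finset.sum_div, ← neg_div]
      congr 1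
      linear_combination hreg
    rw [e]
    refine (IsIntegral.sum _ fun χ hχ => ?_).neg
    obtain ⟨n, -, hn⟩ := IsIrr.degree χ.2
    by_cases hqn : q ∣ n
    · obtain ⟨c, rfl⟩ := hqn
      rw [hn, Nat.cast_mul, mul_assoc, mul_div_assoc, ← mul_div_assoc,
        mul_div_cancel_left₀ _ hq0]
      exact (isIntegral_algebraMap (R := ℤ) (x := (c : ℤ))).mul
        (IsChar.isIntegral (IsIrr.isCharacter χ.2) (a : S)) |> fun h => by simpa using h
    · rw [hzero χ (fun e => Finset.ne_of_mem_erase hχ (Subtype.ext e)) n hn hqn, mul_zero,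
        zero_div]
      exact isIntegral_zero
  exact hq.one_lt.ne' (Nat.dvd_one.1 (nat_dvd_of_isIntegral hq.ne_zero (by simpa using hint)))

theorem solvable_of_two (n : ℕ) : ∀ (G : Type v) [Group G] [Finite G], Nat.card G = n →
    ∀ p q : ℕ, p.Prime → q.Prime →
    (∀ r : ℕ, r.Prime → Palfy.DvdDeg r G → r = p ∨ r = q) → Group.IsSolvable G := by
  induction n using Nat.strong_induction_on with
  | _ n ih =>
  intro G _ _ hn p q hp hq h
  classical
  rcases subsingleton_or_nontrivial G with hs | hs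
  · exact Group.isSolvable_of_comm fun a b => Subsingleton.elim _ _
  by_cases hsimp : IsSimpleGroup G
  · by_contra hsol
    have hna : ¬ ∀ a b : G, a * b = b * a := fun hc => hsol (Group.isSolvable_of_comm hc)
    by_cases hpG : p ∣ Nat.card G
    · exact simple_false hna hp hq hpG fun χ r hr hrd => h r hr ⟨χ, hrd⟩
    by_cases hqG : q ∣ Nat.card G
    · exact simple_false hna hq hp hqG fun χ r hr hrd => (h r hr ⟨χ, hrd⟩).symm
    · obtain ⟨r, hr, hrG⟩ := Nat.exists_prime_and_dvd (n := Nat.card G) Finite.one_lt_card.ne'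
      have := Fintype.ofFinite G
      refine simple_false hna hr hr hrG fun χ s hs' hsd => ?_
      obtain ⟨d, -, hd⟩ := IsIrr.degree χ.2
      rw [Blocks.charDegree_eq hd] at hsd
      have hsG : s ∣ Nat.card G := hsd.trans (IsIrr.degree_dvd_card χ.2 hd)
      rcases h s hs' ⟨χ, by rw [Blocks.charDegree_eq hd]; exact hsd⟩ with e | e
      · exact absurd (e ▸ hsG) hpG
      · exact absurd (e ▸ hsG) hqG
  obtain ⟨N, hN, hN1, hN2⟩ : ∃ N : Subgroup G, N.Normal ∧ N ≠ ⊥ ∧ N ≠ ⊤ := by
    by_contra hno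
    push Not at hno
    exact hsimp ⟨fun N hN => or_iff_not_imp_left.2 fun h1 => hno N hN h1⟩
  haveI := hN
  have hlt1 : Nat.card N < n := hn ▸ lt_of_le_of_ne (Subgroup.card_le_card_group N)
    fun e => hN2 (Subgroup.eq_top_of_card_eq N e)
  have hlt2 : Nat.card (G ⧸ N) < n := by
    have h2 : 1 < Nat.card N := N.one_lt_card_iff_ne_bot.2 hN1
    have h3 := Subgroup.card_eq_card_quotient_mul_card_subgroup N
    have h4 : 0 < Nat.card (G ⧸ N) := Nat.card_pos
    subst hn
    nlinarith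
  haveI : Group.IsSolvable N := ih _ hlt1 N rfl p q hp hq fun r hr ⟨θ, hrd⟩ => by
    obtain ⟨d, -, hd⟩ := IsIrr.degree θ.2
    rw [Blocks.charDegree_eq hd] at hrd
    exact h r hr ((Palfy.dvdDeg_inertia N θ.2 hd).of_dvd (hrd.mul_left _))
  haveI : Group.IsSolvable (G ⧸ N) :=
    ih _ hlt2 (G ⧸ N) rfl p q hp hq fun r hr hd => h r hr (hd.of_quotient N)
  exact Group.isSolvable_of_ker_le_range N.subtype (QuotientGroup.mk' N)
    (by rw [QuotientGroup.ker_mk', Subgroup.range_subtype])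

/-- If the finite group G is not solvable, then at least three distinct primes each divide some irreducible complex character degree of G. -/
theorem result {G : Type*} [Group G] [Finite G] (hG : ¬ Group.IsSolvable G) : ∃ p q r : ℕ, p ≠ q ∧ q ≠ r ∧ p ≠ r ∧ p ∈ Cfsg.degreePrimes G ∧ q ∈ Cfsg.degreePrimes G ∧ r ∈ Cfsg.degreePrimes G := by
  have mem : ∀ r : ℕ, r.Prime → Palfy.DvdDeg r G → r ∈ Cfsg.degreePrimes G :=
    fun r hr ⟨χ, hd⟩ => ⟨hr, _, ⟨χ, rfl⟩, hd⟩
  have key : ∀ p q : ℕ, p.Prime → q.Prime →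
      ∃ r : ℕ, r.Prime ∧ Palfy.DvdDeg r G ∧ r ≠ p ∧ r ≠ q := by
    intro p q hp hq
    by_contra hno
    exact hG (solvable_of_two _ G rfl p q hp hq fun r hr hd => by
      by_contra hne
      push Not at hne
      exact hno ⟨r, hr, hd, hne.1, hne.2⟩)
  obtain ⟨a, ha, had, -, -⟩ := key 2 2 Nat.prime_two Nat.prime_two
  obtain ⟨b, hb, hbd, hba, -⟩ := key a a ha ha
  obtain ⟨c, hc, hcd, hca, hcb⟩ := key a b ha hb
  exact ⟨a, b, c, hba.symm, hcb.symm, hca.symm, mem a ha had, mem b hb hbd, mem c hc hcd⟩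

end Cfsg.Agent.S4782
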