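import Cfsg.Statements.S3670
import Cfsg.Agent.U33.Degrees
import Cfsg.Agent.U33.SolvableOrder
import Cfsg.Agent.Classical.UnitaryThreeTwo

set_option autoImplicit false
open Cfsg

namespace Cfsg.Agent.S3670

section Prep

universe u v

theorem mem_of_equiv {G : Type u} {K : Type v} [Group G] [Group K] (e : G ≃* K) {d : ℕ}
    (hd : d ∈ charDegrees K) : d ∈ charDegrees G := by
  obtain ⟨χ, hχ⟩ := hd
  refine ⟨⟨fun g => (χ : K → ℂ) (e g), (Agent.Char.isIrrCharacter_comp_equiv e).2 χ.2⟩, ?_⟩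
  rw [← hχ]
  simp [charDegree]

theorem graph_eq {G : Type u} [Group G] [Finite G] (hG : Nat.card G = 6048)
    (h6 : ∃ d ∈ charDegrees G, 6 ∣ d) (h14 : ∃ d ∈ charDegrees G, 14 ∣ d)
    (h21 : ∃ d ∈ charDegrees G, 21 ∣ d) :
    degreePrimes G = {2, 3, 7} ∧
      ∀ p q, (degreeGraph G).Adj p q ↔
        p ≠ q ∧ (p = 2 ∨ p = 3 ∨ p = 7) ∧ (q = 2 ∨ q = 3 ∨ q = 7) := by
  have hdvd : ∀ p d, p.Prime → d ∈ charDegrees G → p ∣ d → p = 2 ∨ p = 3 ∨ p = 7 := by
    rintro p d hp ⟨χ, rfl⟩ hpd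
    obtain ⟨n, -, hn⟩ := Agent.Char.IsIrr.degree χ.2
    have h := hpd.trans (Agent.Char.charDegree_eq_natCast hn ▸
      hG ▸ Agent.Char.IsIrr.degree_dvd_card χ.2 hn)
    rw [show 6048 = 2 ^ 5 * 3 ^ 3 * 7 by norm_num] at h
    rcases (Nat.Prime.dvd_mul hp).1 h with h | h
    · rcases (Nat.Prime.dvd_mul hp).1 h with h | h
      · exact Or.inl ((Nat.prime_dvd_prime_iff_eq hp Nat.prime_two).1 (hp.dvd_of_dvd_pow h))
      · exact Or.inr (Or.inl ((Nat.prime_dvd_prime_iff_eq hp Nat.prime_three).1 (hp.dvd_of_dvd_pow h)))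
    · exact Or.inr (Or.inr ((Nat.prime_dvd_prime_iff_eq hp (by norm_num)).1 h))
  obtain ⟨a, ha, ha'⟩ := h6
  obtain ⟨b, hb, hb'⟩ := h14
  obtain ⟨c, hc, hc'⟩ := h21
  refine ⟨Set.ext fun p => ⟨fun ⟨hp, d, hd, hpd⟩ => by simpa using hdvd p d hp hd hpd, ?_⟩,
    fun p q => ⟨fun ⟨hne, hp, hq, d, hd, hpq⟩ => ⟨hne, hdvd p d hp hd ((dvd_mul_right p q).trans hpq),
      hdvd q d hq hd ((dvd_mul_left q p).trans hpq)⟩, ?_⟩⟩
  · simp only [Set.mem_insert_iff, Set.mem_singleton_iff]
    rintro (rfl | rfl | rfl)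
    · exact ⟨Nat.prime_two, a, ha, (show 2 ∣ 6 by norm_num).trans ha'⟩
    · exact ⟨Nat.prime_three, a, ha, (show 3 ∣ 6 by norm_num).trans ha'⟩
    · exact ⟨by norm_num, b, hb, (show 7 ∣ 14 by norm_num).trans hb'⟩
  · rintro ⟨hne, (rfl | rfl | rfl), (rfl | rfl | rfl)⟩
    all_goals first
      | exact absurd rfl hne
      | exact ⟨hne, by norm_num, by norm_num, a, ha, ha'⟩
      | exact ⟨hne, by norm_num, by norm_num, b, hb, hb'⟩
      | exact ⟨hne, by norm_num, by norm_num, c, hc, hc'⟩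

end Prep

/-- The character degree graph of a finite group has as vertices the primes dividing some irreducible complex character degree, two distinct primes being joined when their product divides some irreducible character degree; two groups have the same character degree graph when they have the same vertices and the same joined pairs. Let F be the field with 9 elements and L = PSU(3,3) realised over F (order 6048). There is a finite solvable group of order 6048 with the same character degree graph as L; so L is not determined by its order together with its character degree graph. -/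
theorem result {F : Type*} [Field F] [Fintype F] (hF : Fintype.card F = 9) :
    ∃ (H : Type) (_ : Group H) (_ : Fintype H), Group.IsSolvable H ∧ Nat.card H = 6048 ∧ Cfsg.degreePrimes H = Cfsg.degreePrimes (Cfsg.PSU 3 F 3) ∧ Cfsg.degreeGraph H = Cfsg.degreeGraph (Cfsg.PSU 3 F 3) := by
  obtain ⟨e₀⟩ := Agent.Classical.U32.psu_congr (n := 3) (q := 3)
    (FiniteField.ringEquivOfCardEq (hF.trans Agent.U33.F9.card_eq.symm))
  let e : Cfsg.PSU 3 F 3 ≃* Agent.U33.SU9 := e₀.trans Agent.U33.psuEquiv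
  haveI : Finite Agent.U33.Affine.H :=
    Nat.finite_of_card_ne_zero (by rw [Agent.U33.Affine.card_H]; norm_num)
  have hL : Nat.card (Cfsg.PSU 3 F 3) = 6048 := (Nat.card_congr e.toEquiv).trans Agent.U33.card_SU
  haveI : Finite (Cfsg.PSU 3 F 3) := Nat.finite_of_card_ne_zero (by rw [hL]; norm_num)
  have h21 : 21 ∈ charDegrees (Cfsg.PSU 3 F 3) := mem_of_equiv e Agent.U33.exists_deg_twenty_one
  have h28 : 28 ∈ charDegrees (Cfsg.PSU 3 F 3) := mem_of_equiv e Agent.U33.exists_deg_twenty_eight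
  obtain ⟨χ, hχ⟩ := Agent.U33.exists_deg_dvd_six
  have h6 : Agent.U33.deg χ ∈ charDegrees (Cfsg.PSU 3 F 3) :=
    mem_of_equiv e (Agent.U33.deg_mem χ)
  have hH := Agent.U33.Affine.exists_deg
  obtain ⟨l1, l2⟩ := graph_eq hL ⟨_, h6, hχ⟩ ⟨28, h28, by norm_num⟩ ⟨21, h21, dvd_rfl⟩
  obtain ⟨r1, r2⟩ := graph_eq Agent.U33.Affine.card_H ⟨42, hH, by norm_num⟩ ⟨42, hH, by norm_num⟩
    ⟨42, hH, by norm_num⟩
  refine ⟨Agent.U33.Affine.H, inferInstance, Fintype.ofFinite _, Agent.U33.Affine.isSolvable,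
    Agent.U33.Affine.card_H, r1.trans l1.symm, ?_⟩
  ext p q
  rw [r2, l2]


end Cfsg.Agent.S3670
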