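import Cfsg.Statements.S3678
import Cfsg.Agent.S3660
import Cfsg.Agent.Classical.LinearBasic
-- import your own Cfsg.Agent.* helpers here

set_option autoImplicit false
open Cfsg

namespace Cfsg.Agent.S3678

open Matrix

variable {F : Type*} [Field F] [CharP F 2]

theorem exists_poly (M X : Matrix (Fin 2) (Fin 2) F) (hM : ∀ c : F, M ≠ c • 1) (h : Commute X M) :
    ∃ a b : F, X = a • 1 + b • M := by
  have e := h.eq
  have e00 := congrFun (congrFun e 0) 0
  have e01 := congrFun (congrFun e 0) 1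
  have e10 := congrFun (congrFun e 1) 0
  simp [Matrix.mul_apply, Fin.sum_univ_two] at e00 e01 e10
  by_cases h1 : M 0 1 ≠ 0
  · refine ⟨X 0 0 - X 0 1 / M 0 1 * M 0 0, X 0 1 / M 0 1, ?_⟩
    ext i j
    fin_cases i <;> fin_cases j <;> simp <;> field_simp
    · linear_combination -e00
    · linear_combination -e01
  by_cases h2 : M 1 0 ≠ 0
  · refine ⟨X 0 0 - X 1 0 / M 1 0 * M 0 0, X 1 0 / M 1 0, ?_⟩
    ext i j
    fin_cases i <;> fin_cases j <;> simp <;> field_simp
    · linear_combination e00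
    · linear_combination e10
  push Not at h1 h2
  have hd : M 0 0 - M 1 1 ≠ 0 := fun hd => hM (M 0 0) (by
    ext i j
    fin_cases i <;> fin_cases j <;> simp [h1, h2]
    linear_combination -hd)
  have x01 : X 0 1 = 0 := by
    rw [h1] at e01
    exact (mul_eq_zero.mp (show X 0 1 * (M 0 0 - M 1 1) = 0 by linear_combination -e01)).resolve_right hd
  have x10 : X 1 0 = 0 := by
    rw [h2] at e10
    exact (mul_eq_zero.mp (show X 1 0 * (M 0 0 - M 1 1) = 0 by linear_combination e10)).resolve_right hd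
  refine ⟨(M 0 0 * X 1 1 - M 1 1 * X 0 0) / (M 0 0 - M 1 1), (X 0 0 - X 1 1) / (M 0 0 - M 1 1), ?_⟩
  ext i j
  fin_cases i <;> fin_cases j <;> simp [h1, h2, x01, x10] <;> field_simp <;> ring

theorem det_poly (M : Matrix (Fin 2) (Fin 2) F) (a b : F) :
    (a • 1 + b • M).det = a ^ 2 + a * b * (M 0 0 + M 1 1) + b ^ 2 * M.det := by
  simp [Matrix.det_fin_two]
  ring

theorem sq_eq (M : Matrix (Fin 2) (Fin 2) F) (hd : M.det = 1) :
    M * M = (M 0 0 + M 1 1) • M + 1 := by
  rw [Matrix.det_fin_two] at hd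
  have h2 := (CharTwo.two_eq_zero : (2 : F) = 0)
  ext i j
  fin_cases i <;> fin_cases j <;> simp [Matrix.mul_apply, Fin.sum_univ_two]
  · linear_combination -hd + (-1 : F) * h2 + (1 : F) * h2 - h2
  · ring
  · ring
  · linear_combination -hd - h2

theorem eq_one_of_scalar (x : Matrix.SpecialLinearGroup (Fin 2) F) (c : F)
    (hc : x.1 = c • 1) : x = 1 := by
  have h := x.2
  rw [hc, Matrix.det_smul, Matrix.det_one, mul_one, Fintype.card_fin] at h
  have : c = 1 := sub_eq_zero.mp (pow_eq_zero_iff two_ne_zero |>.mp (show (c - 1) ^ 2 = 0 by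
    linear_combination h + (1 - c) * (CharTwo.two_eq_zero : (2 : F) = 0)))
  exact Subtype.ext (by rw [hc, this, one_smul]; rfl)

/-- The centraliser of an involution is a 2-group. -/
theorem commute_invol (u y : Matrix.SpecialLinearGroup (Fin 2) F) (hu : u ^ 2 = 1) (hu1 : u ≠ 1)
    (h : Commute y u) : y ^ 2 = 1 := by
  obtain ⟨a, b, hab⟩ := exists_poly u.1 y.1 (fun c hc => hu1 (eq_one_of_scalar u c hc))
    (congrArg Subtype.val h.eq)
  have hu2 : u.1 * u.1 = 1 := by rw [← pow_two]; exact congrArg Subtype.val hu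
  have ht : u.1 0 0 + u.1 1 1 = 0 := by
    by_contra ht
    have h1 := sq_eq u.1 u.2
    rw [hu2] at h1
    refine hu1 (eq_one_of_scalar u 0 ?_)
    have : (u.1 0 0 + u.1 1 1) • u.1 = 0 := by simpa using h1.symm
    rw [smul_eq_zero] at this
    simp [this.resolve_left ht]
  have hd := y.2
  rw [hab, det_poly, ht, u.2] at hd
  refine Subtype.ext ?_
  change y.1 ^ 2 = 1
  rw [hab, pow_two, add_mul, mul_add, mul_add]
  simp only [smul_mul_assoc, mul_smul_comm, one_mul, mul_one, smul_smul, hu2]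
  rw [mul_comm b a]
  have : (a * b) • u.1 + (a * b) • u.1 = 0 := by
    rw [← add_smul, CharTwo.add_self_eq_zero, zero_smul]
  calc (a * a) • (1 : Matrix (Fin 2) (Fin 2) F) + (a * b) • u.1 + ((a * b) • u.1 + (b * b) • 1)
      = ((a * b) • u.1 + (a * b) • u.1) + (a * a + b * b) • 1 := by rw [add_smul]; abel
    _ = 1 := by rw [this, zero_add]; convert one_smul F _; linear_combination hd

/-- In `SL₂(8)` the centraliser of an element of order 3 has exponent 9. -/
theorem commute_three [Fintype F] (hF : Fintype.card F = 8)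
    (B y : Matrix.SpecialLinearGroup (Fin 2) F) (hB : B ^ 3 = 1) (hB1 : B ≠ 1) (h : Commute y B) :
    y ^ 9 = 1 := by
  obtain ⟨a, b, hab⟩ := exists_poly B.1 y.1 (fun c hc => hB1 (eq_one_of_scalar B c hc))
    (congrArg Subtype.val h.eq)
  have h1 := sq_eq B.1 B.2
  set t := B.1 0 0 + B.1 1 1 with ht
  have h3 : B.1 * (B.1 * B.1) = 1 := by
    rw [← pow_two, ← pow_succ']; exact congrArg Subtype.val hB
  have hns : ∀ c : F, B.1 ≠ c • 1 := fun c hc => hB1 (eq_one_of_scalar B c hc)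
  have ht1 : t = 1 := by
    rw [h1, mul_add, mul_smul_comm, h1, mul_one, smul_add, smul_smul] at h3
    by_contra hne
    have hne2 : t * t + 1 ≠ 0 := fun h0 => hne (sub_eq_zero.mp
      (pow_eq_zero_iff two_ne_zero |>.mp (show (t - 1) ^ 2 = 0 by
        linear_combination h0 - t * (CharTwo.two_eq_zero : (2 : F) = 0))))
    refine hns ((t * t + 1)⁻¹ * (1 - t)) ?_
    have h4 : (t * t + 1) • B.1 = (1 - t) • (1 : Matrix (Fin 2) (Fin 2) F) := by
      rw [add_smul, one_smul, sub_smul, one_smul]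
      rw [eq_sub_iff_add_eq]
      exact Eq.trans (by abel) h3
    rw [mul_smul, ← h4, smul_smul, inv_mul_cancel₀ hne2, one_smul]
  rw [ht1, one_smul] at h1
  have hd := y.2
  rw [hab, det_poly, ← ht, ht1, B.2] at hd
  have hfix : ∀ c : F, c ^ 8 = c := fun c => hF ▸ FiniteField.pow_card c
  have hsq : ∀ c d : F, ∀ M : Matrix (Fin 2) (Fin 2) F,
      (c • 1 + d • M) ^ 2 = c ^ 2 • 1 + d ^ 2 • M ^ 2 := fun c d M => by
    rw [pow_two, add_mul, mul_add, mul_add]
    simp only [smul_mul_assoc, mul_smul_comm, one_mul, mul_one, smul_smul]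
    rw [mul_comm d c, ← pow_two c, ← pow_two d, ← pow_two M]
    calc c ^ 2 • (1 : Matrix (Fin 2) (Fin 2) F) + (c * d) • M + ((c * d) • M + d ^ 2 • M ^ 2)
        = ((c * d) • M + (c * d) • M) + (c ^ 2 • 1 + d ^ 2 • M ^ 2) := by abel
      _ = _ := by rw [← add_smul, CharTwo.add_self_eq_zero, zero_smul, zero_add]
  have hB8 : B.1 ^ 8 = B.1 + 1 := by
    have hB3 : B.1 ^ 3 = 1 := congrArg Subtype.val hB
    rw [show (8 : ℕ) = 3 + 3 + 2 by norm_num, pow_add, pow_add, hB3, one_mul, one_mul, pow_two, h1]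
  have h8 : y.1 ^ 8 = (a + b) • 1 + b • B.1 := by
    rw [hab, show (8 : ℕ) = 2 * 2 * 2 by norm_num, pow_mul, pow_mul, hsq, hsq, hsq, ← pow_mul, ← pow_mul,
      ← pow_mul, ← pow_mul, ← pow_mul, ← pow_mul]
    norm_num only
    rw [hfix, hfix, hB8, add_smul, smul_add]
    abel
  refine Subtype.ext ?_
  change y.1 ^ 9 = 1
  rw [pow_succ, h8, hab]
  simp only [mul_add, add_mul, smul_mul_assoc, mul_smul_comm, one_mul, mul_one, smul_smul, h1]
  rw [smul_add]
  have h2 := (CharTwo.two_eq_zero : (2 : F) = 0)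
  calc _ = (a ^ 2 + a * b + b ^ 2) • (1 : Matrix (Fin 2) (Fin 2) F) + (a * b + b ^ 2 + a * b + b ^ 2) • B.1 := by
        module
    _ = 1 := by
      rw [show a * b + b ^ 2 + a * b + b ^ 2 = 0 by linear_combination (a * b + b ^ 2) * h2, zero_smul,
        add_zero]
      convert one_smul F _
      linear_combination hd

theorem card_psl {K : Type*} [Field K] [Fintype K] {q : ℕ} (hq : Fintype.card K = q)
    (hq' : q = 7 ∨ q = 8) :
    Nat.card (Matrix.ProjectiveSpecialLinearGroup (Fin 2) K) = if q = 7 then 168 else 504 := by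
  have h1 := Classical.card_sl_mul hq 2 (by norm_num)
  have h2 := Classical.card_psl_mul (ι := Fin 2) (F := K)
  rw [Fin.prod_univ_two] at h1
  rw [Fintype.card_fin, hq] at h2
  rcases hq' with rfl | rfl <;> simp at h1 h2 ⊢ <;> omega

/-- Scalar `2 × 2` matrices. -/
def IsSc {K : Type*} [Zero K] (M : Matrix (Fin 2) (Fin 2) K) : Prop :=
  M 0 1 = 0 ∧ M 1 0 = 0 ∧ M 0 0 = M 1 1

instance {K : Type*} [Zero K] [DecidableEq K] (M : Matrix (Fin 2) (Fin 2) K) : Decidable (IsSc M) :=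
  inferInstanceAs (Decidable (_ ∧ _))

theorem check7 : ∀ A : Matrix.SpecialLinearGroup (Fin 2) (ZMod 7),
    ∀ p ∈ [(2, 3), (2, 7), (3, 7)],
      IsSc (A ^ (p.1 * p.2)).1 → IsSc (A ^ p.1).1 ∨ IsSc (A ^ p.2).1 := by
  decide +kernel

theorem mem_center_iff_entries {K : Type*} [Field K] (A : Matrix.SpecialLinearGroup (Fin 2) K) :
    A ∈ Subgroup.center _ ↔ A.1 0 1 = 0 ∧ A.1 1 0 = 0 ∧ A.1 0 0 = A.1 1 1 := by
  rw [Matrix.SpecialLinearGroup.mem_center_iff]
  constructor
  · rintro ⟨r, -, hr⟩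
    rw [← hr]
    simp
  · rintro ⟨h1, h2, h3⟩
    refine ⟨A.1 0 0, ?_, ?_⟩
    · have := A.2
      rw [Matrix.det_fin_two, h1, h2, ← h3] at this
      rw [Fintype.card_fin]
      linear_combination this
    · ext i j
      fin_cases i <;> fin_cases j <;> simp [h1, h2, h3]

theorem no_edge {S : Type*} [Group S] [Finite S] {r s : ℕ}
    (h : ∀ g : S, g ^ (r * s) = 1 → g ^ r = 1 ∨ g ^ s = 1) (hr : r.Prime) (hs : s.Prime) :
    ¬ ∃ g : S, orderOf g = r * s := by
  rintro ⟨g, hg⟩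
  rcases h g (hg ▸ pow_orderOf_eq_one g) with h1 | h1
  · have := Nat.le_of_dvd hr.pos (orderOf_dvd_of_pow_eq_one h1)
    rw [hg] at this
    nlinarith [hr.two_le, hs.two_le]
  · have := Nat.le_of_dvd hs.pos (orderOf_dvd_of_pow_eq_one h1)
    rw [hg] at this
    nlinarith [hr.two_le, hs.two_le]

theorem mem_pairs {r s : ℕ} (hr : r ∈ ({2, 3, 7} : Set ℕ)) (hs : s ∈ ({2, 3, 7} : Set ℕ))
    (hrs : r ≠ s) : (r, s) ∈ [(2, 3), (2, 7), (3, 7)] ∨ (s, r) ∈ [(2, 3), (2, 7), (3, 7)] := by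
  simp only [Set.mem_insert_iff, Set.mem_singleton_iff] at hr hs
  rcases hr with rfl | rfl | rfl <;> rcases hs with rfl | rfl | rfl <;> simp_all

theorem no_edge7 {K : Type*} [Field K] [Fintype K] (hK : Fintype.card K = 7) {r s : ℕ}
    (hr : r ∈ ({2, 3, 7} : Set ℕ)) (hs : s ∈ ({2, 3, 7} : Set ℕ)) (hrs : r ≠ s) :
    ∀ g : Matrix.ProjectiveSpecialLinearGroup (Fin 2) K, g ^ (r * s) = 1 → g ^ r = 1 ∨ g ^ s = 1 := by
  intro g hg
  obtain ⟨A, rfl⟩ := QuotientGroup.mk_surjective g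
  have : Fact (Nat.Prime 7) := ⟨by norm_num⟩
  let e : K ≃+* ZMod 7 := FiniteField.ringEquivOfCardEq (by rw [hK, ZMod.card])
  have hc : ∀ n : ℕ, ((QuotientGroup.mk A : Matrix.ProjectiveSpecialLinearGroup (Fin 2) K) ^ n = 1 ↔
      IsSc ((Matrix.SpecialLinearGroup.map (e : K →+* ZMod 7) A) ^ n).1) := fun n => by
    rw [← QuotientGroup.mk_pow, QuotientGroup.eq_one_iff, mem_center_iff_entries, ← map_pow, IsSc]
    change _ ↔ e _ = 0 ∧ e _ = 0 ∧ e _ = e _
    simp only [map_eq_zero_iff e e.injective, e.injective.eq_iff]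
  rw [hc] at hg
  rw [hc, hc]
  generalize Matrix.SpecialLinearGroup.map (e : K →+* ZMod 7) A = B at hg ⊢
  rcases mem_pairs hr hs hrs with h | h
  · exact check7 B _ h hg
  · exact (check7 B _ h (mul_comm r s ▸ hg)).symm

theorem no_edge8 [Fintype F] (hF : Fintype.card F = 8) {r s : ℕ}
    (hr : r ∈ ({2, 3, 7} : Set ℕ)) (hs : s ∈ ({2, 3, 7} : Set ℕ)) (hrs : r ≠ s) :
    ∀ g : Matrix.ProjectiveSpecialLinearGroup (Fin 2) F, g ^ (r * s) = 1 → g ^ r = 1 ∨ g ^ s = 1 := by
  intro g hg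
  obtain ⟨A, rfl⟩ := QuotientGroup.mk_surjective g
  have hc : ∀ n : ℕ, (QuotientGroup.mk A : Matrix.ProjectiveSpecialLinearGroup (Fin 2) F) ^ n = 1 ↔
      A ^ n = 1 := fun n => by
    rw [← QuotientGroup.mk_pow, QuotientGroup.eq_one_iff]
    refine ⟨fun h => ?_, fun h => h ▸ one_mem _⟩
    obtain ⟨h1, h2, h3⟩ := (mem_center_iff_entries _).mp h
    refine eq_one_of_scalar _ ((A ^ n).1 0 0) ?_
    ext i j
    fin_cases i <;> fin_cases j <;> simp [h1, h2, h3]
  rw [hc] at hg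
  rw [hc, hc]
  have key : ∀ m : ℕ, (m = 3 ∨ m = 7) → A ^ (2 * m) = 1 → A ^ 2 = 1 ∨ A ^ m = 1 := by
    intro m hm h
    by_cases hu : A ^ m = 1
    · exact Or.inr hu
    · refine Or.inl ?_
      have h4 := commute_invol (A ^ m) A (by rw [← pow_mul, mul_comm, h]) hu ((Commute.refl A).pow_right m)
      exact h4
  have key21 : A ^ (3 * 7) = 1 → A ^ 3 = 1 ∨ A ^ 7 = 1 := by
    intro h
    by_cases hB : A ^ 7 = 1
    · exact Or.inr hB
    · refine Or.inl ?_
      have h9 := commute_three hF (A ^ 7) A (by rw [← pow_mul]; exact h) hB ((Commute.refl A).pow_right 7)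
      have := pow_gcd_eq_one.mpr ⟨h9, h⟩
      simpa using this
  have main : ∀ r s : ℕ, (r, s) ∈ [(2, 3), (2, 7), (3, 7)] → A ^ (r * s) = 1 → A ^ r = 1 ∨ A ^ s = 1 := by
    intro r s h
    simp only [List.mem_cons, List.not_mem_nil, or_false, Prod.mk.injEq] at h
    rcases h with ⟨rfl, rfl⟩ | ⟨rfl, rfl⟩ | ⟨rfl, rfl⟩
    · exact key 3 (Or.inl rfl)
    · exact key 7 (Or.inr rfl)
    · exact key21
  rcases mem_pairs hr hs hrs with h | h
  · exact main r s h hg
  · exact (main s r h (mul_comm r s ▸ hg)).symm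

/-- The prime graph of a finite group has the prime divisors of its order as vertices, two distinct primes p, q being joined when the group has an element of order pq; two groups have the same prime graph when they have the same prime divisors and the same joined pairs. Let F be the field with 7 elements. There are finite groups of arbitrarily large order with the same prime graph as PSL(2,F) (the graph on {2, 3, 7} with no edges, which is also the prime graph of PSL(2,8)). -/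
theorem result {F : Type*} [Field F] [Fintype F] (hF : Fintype.card F = 7) (N : ℕ) :
    ∃ (H : Type) (_ : Group H) (_ : Finite H), N < Nat.card H ∧
      ((∀ p : ℕ, p.Prime → (p ∣ Nat.card (Matrix.ProjectiveSpecialLinearGroup (Fin 2) F) ↔ p ∣ Nat.card H)) ∧
      (∀ p q : ℕ, p.Prime → q.Prime → p ≠ q → ((∃ g : (Matrix.ProjectiveSpecialLinearGroup (Fin 2) F), orderOf g = p * q) ↔ (∃ g : H, orderOf g = p * q)))) := by
  have : Fact (Nat.Prime 2) := ⟨Nat.prime_two⟩
  let F8 := GaloisField 2 3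
  have : Fintype F8 := Fintype.ofFinite F8
  have h8 : Fintype.card F8 = 8 := by
    rw [← Nat.card_eq_fintype_card, GaloisField.card 2 3 (by norm_num)]; norm_num
  obtain ⟨H, iH, fH, hN, hpi, hgr⟩ := Cfsg.Agent.S3660.result (F := F8) (by omega) N
  have c7 : Nat.card (Matrix.ProjectiveSpecialLinearGroup (Fin 2) F) = 168 := by
    simpa using card_psl hF (Or.inl rfl)
  have c8 : Nat.card (Matrix.ProjectiveSpecialLinearGroup (Fin 2) F8) = 504 := by
    simpa using card_psl h8 (Or.inr rfl)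
  have hp : ∀ p : ℕ, p.Prime → ((p ∣ 168 ↔ p ∈ ({2, 3, 7} : Set ℕ)) ∧ (p ∣ 504 ↔ p ∈ ({2, 3, 7} : Set ℕ))) := by
    intro p hp
    have hP2 : Nat.Prime 2 := Nat.prime_two
    have hP3 : Nat.Prime 3 := Nat.prime_three
    have hP7 : Nat.Prime 7 := by norm_num
    rw [show (168 : ℕ) = 2 ^ 3 * 3 * 7 by norm_num, show (504 : ℕ) = 2 ^ 3 * 3 ^ 2 * 7 by norm_num,
      hp.dvd_mul, hp.dvd_mul, hp.dvd_mul, hp.dvd_mul]
    simp only [Set.mem_insert_iff, Set.mem_singleton_iff, Nat.prime_dvd_prime_iff_eq hp hP3,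
      Nat.prime_dvd_prime_iff_eq hp hP7]
    constructor <;> constructor <;> intro h
    · rcases h with (h | h) | h
      exacts [Or.inl ((Nat.prime_dvd_prime_iff_eq hp hP2).mp (hp.dvd_of_dvd_pow h)), Or.inr (Or.inl h), Or.inr (Or.inr h)]
    · rcases h with rfl | rfl | rfl <;> simp
    · rcases h with (h | h) | h
      exacts [Or.inl ((Nat.prime_dvd_prime_iff_eq hp hP2).mp (hp.dvd_of_dvd_pow h)),
        Or.inr (Or.inl ((Nat.prime_dvd_prime_iff_eq hp hP3).mp (hp.dvd_of_dvd_pow h))), Or.inr (Or.inr h)]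
    · rcases h with rfl | rfl | rfl <;> simp
  refine ⟨H, iH, fH, hN, ?_, ?_⟩
  · intro p hpp
    rw [← hpi p hpp, c7, c8, (hp p hpp).1, (hp p hpp).2]
  · intro p q hpp hqq hpq
    rw [← hgr p q hpp hqq hpq]
    constructor
    · rintro ⟨g, hg⟩
      have hd := hg ▸ orderOf_dvd_natCard g
      rw [c7] at hd
      exact absurd ⟨g, hg⟩ (no_edge (no_edge7 hF ((hp p hpp).1.mp ((dvd_mul_right p q).trans hd))
        ((hp q hqq).1.mp ((dvd_mul_left q p).trans hd)) hpq) hpp hqq)
    · rintro ⟨g, hg⟩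
      have hd := hg ▸ orderOf_dvd_natCard g
      rw [c8] at hd
      exact absurd ⟨g, hg⟩ (no_edge (no_edge8 h8 ((hp p hpp).2.mp ((dvd_mul_right p q).trans hd))
        ((hp q hqq).2.mp ((dvd_mul_left q p).trans hd)) hpq) hpp hqq)

end Cfsg.Agent.S3678
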