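import Cfsg.Statements.S3680
import Cfsg.Agent.S0721
import Cfsg.Agent.Core.MinimalNormal
-- import your own Cfsg.Agent.* helpers here

set_option autoImplicit false
open Cfsg

namespace Cfsg.Agent.S3680

section
variable {G Ω : Type*} [Group G] [MulAction G Ω] [FaithfulSMul G Ω]

theorem transitive_of_normal (hprim : MulAction.IsPreprimitive G Ω) (V : Subgroup G) (hV : V.Normal)
    (hne : V ≠ ⊥) : MulAction.IsPretransitive V Ω := by
  have := hprim
  refine MulAction.IsQuasiPreprimitive.isPretransitive_of_normal fun h => hne ?_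
  refine (Subgroup.eq_bot_iff_forall _).mpr fun v hv => eq_of_smul_eq_smul (α := Ω) fun x => ?_
  have hx : x ∈ MulAction.fixedPoints V Ω := by rw [h]; trivial
  rw [one_smul]
  exact hx ⟨v, hv⟩

theorem semiregular {A B : Subgroup G} (hA : MulAction.IsPretransitive A Ω)
    (hc : ∀ a ∈ A, ∀ b ∈ B, a * b = b * a) (ω : Ω) : MulAction.stabilizer B ω = ⊥ := by
  refine (Subgroup.eq_bot_iff_forall _).mpr fun b hb => Subtype.ext ?_
  refine eq_of_smul_eq_smul (α := Ω) fun x => ?_
  obtain ⟨a, ha⟩ := MulAction.exists_smul_eq A ω x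
  have hb' : (b : G) • ω = ω := hb
  rw [Subgroup.coe_one, one_smul, ← ha, Subgroup.smul_def, ← mul_smul, ← hc a a.2 b b.2, mul_smul, hb']

theorem eq_of_semireg {K A : Subgroup G} (hAK : A ≤ K) (hA : MulAction.IsPretransitive A Ω)
    {ω : Ω} (hK : MulAction.stabilizer K ω = ⊥) : K ≤ A := by
  intro k hk
  obtain ⟨a, ha⟩ := MulAction.exists_smul_eq A ω (k • ω)
  have h1 : (⟨(a : G)⁻¹ * k, mul_mem (inv_mem (hAK a.2)) hk⟩ : K) ∈ MulAction.stabilizer K ω := by
    rw [MulAction.mem_stabilizer_iff, Subgroup.smul_def, mul_smul, inv_smul_eq_iff]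
    exact ha.symm
  rw [hK, Subgroup.mem_bot] at h1
  have h2 : (a : G)⁻¹ * k = 1 := congrArg Subtype.val h1
  rw [← inv_mul_eq_one.mp h2]
  exact a.2

theorem inj_of_semireg {B : Subgroup G} {ω : Ω} (h : MulAction.stabilizer B ω = ⊥) {a b : B}
    (hab : (a : G) • ω = (b : G) • ω) : a = b := by
  have h1 : a⁻¹ * b ∈ MulAction.stabilizer B ω := by
    rw [MulAction.mem_stabilizer_iff, mul_smul, inv_smul_eq_iff]
    exact hab.symm
  rw [h, Subgroup.mem_bot, inv_mul_eq_one] at h1
  exact h1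

theorem iso_of_regular {A B : Subgroup G} (hA : MulAction.IsPretransitive A Ω)
    (hB : MulAction.IsPretransitive B Ω) (hc : ∀ a ∈ A, ∀ b ∈ B, a * b = b * a) (ω : Ω) :
    Nonempty (B ≃* A) := by
  have hsA : MulAction.stabilizer A ω = ⊥ := semiregular hB (fun b hb a ha => (hc a ha b hb).symm) ω
  have hsB : MulAction.stabilizer B ω = ⊥ := semiregular hA hc ω
  choose f hf using fun b : B => MulAction.exists_smul_eq A ω ((b : G)⁻¹ • ω)
  refine ⟨MulEquiv.ofBijective (MonoidHom.mk' f fun b c => inj_of_semireg hsA ?_) ⟨?_, ?_⟩⟩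
  · have e1 : ((f b : A) : G) • ω = (b : G)⁻¹ • ω := hf b
    have e2 : ((f c : A) : G) • ω = (c : G)⁻¹ • ω := hf c
    have e3 : ((f (b * c) : A) : G) • ω = (((b * c : B) : G))⁻¹ • ω := hf (b * c)
    rw [e3, Subgroup.coe_mul, mul_inv_rev, Subgroup.coe_mul, mul_smul, mul_smul, ← e1, e2, ← mul_smul,
      ← mul_smul, hc (f b) (f b).2 (c : G)⁻¹ (inv_mem c.2)]
  · intro b c h
    have h' : f b = f c := h
    have h1 : ((b⁻¹ : B) : G) • ω = ((c⁻¹ : B) : G) • ω := by
      simp only [Subgroup.coe_inv]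
      exact (hf b).symm.trans ((congrArg (· • ω) h').trans (hf c))
    exact inv_injective (inj_of_semireg hsB h1)
  · intro a
    obtain ⟨b, hb⟩ := MulAction.exists_smul_eq B ω ((a : G) • ω)
    refine ⟨b⁻¹, inj_of_semireg hsA ?_⟩
    show ((f b⁻¹ : A) : G) • ω = _
    have := hf b⁻¹
    rw [Subgroup.coe_inv, inv_inv] at this
    exact this.trans hb

end

/-- `(Fin m → T) × (Fin m → T) ≃* (Fin (m + m) → T)` -/
def doublePi (T : Type*) [Group T] (m : ℕ) : (Fin m → T) × (Fin m → T) ≃* (Fin (m + m) → T) :=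
  { Fin.appendEquiv m m with
    map_mul' := fun x y => funext fun i => by
      show Fin.append (x.1 * y.1) (x.2 * y.2) i = Fin.append x.1 x.2 i * Fin.append y.1 y.2 i
      refine Fin.addCases (fun j => ?_) (fun j => ?_) i
      · rw [Fin.append_left, Fin.append_left, Fin.append_left]; rfl
      · rw [Fin.append_right, Fin.append_right, Fin.append_right]; rfl }


/-- The socle of a finite primitive permutation group. Let a finite group G act faithfully and primitively on a set Ω, and let N be the subgroup generated by the minimal normal subgroups of G. Then either N is an elementary abelian p-group for some prime p and acts regularly on Ω (transitively with trivial point stabilizers), or N is isomorphic to a direct product of m ≥ 1 copies of a non-abelian simple group. -/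
theorem result {G Ω : Type*} [Group G] [Finite G] [MulAction G Ω] [FaithfulSMul G Ω] [Finite Ω]
    (hprim : MulAction.IsPreprimitive G Ω) (N : Subgroup G)
    (hN : N = sSup {V : Subgroup G | V.Normal ∧ V ≠ ⊥ ∧ ∀ M : Subgroup G, M.Normal → M ≤ V → M = ⊥ ∨ M = V}) :
    (∃ p : ℕ, p.Prime ∧ IsMulCommutative N ∧ (∀ x : N, x ^ p = 1) ∧
      MulAction.IsPretransitive N Ω ∧ ∀ ω : Ω, MulAction.stabilizer N ω = ⊥) ∨
    (∃ (T : Type) (_ : Group T) (m : ℕ), 1 ≤ m ∧ IsSimpleGroup T ∧ ¬ IsMulCommutative T ∧ Nonempty (N ≃* (Fin m → T))) := by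
  classical
  have htr : MulAction.IsPretransitive G Ω := hprim.toIsPretransitive
  set 𝒱 : Set (Subgroup G) :=
    {V : Subgroup G | V.Normal ∧ V ≠ ⊥ ∧ ∀ M : Subgroup G, M.Normal → M ≤ V → M = ⊥ ∨ M = V} with h𝒱
  by_cases hΩ : Nontrivial Ω
  swap
  · rw [not_nontrivial_iff_subsingleton] at hΩ
    have hG : ∀ g : G, g = 1 := fun g => eq_of_smul_eq_smul (α := Ω) fun x => Subsingleton.elim _ _
    have hN1 : ∀ x : N, x = 1 := fun x => Subtype.ext (hG x)
    exact Or.inl ⟨2, Nat.prime_two, ⟨⟨fun a b => by rw [hN1 a, hN1 b]⟩⟩,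
      fun x => by rw [hN1 x, one_pow], ⟨fun x y => ⟨1, Subsingleton.elim _ _⟩⟩,
      fun ω => (Subgroup.eq_bot_iff_forall _).mpr fun x _ => hN1 x⟩
  obtain ⟨ω₀⟩ : Nonempty Ω := inferInstance
  have hGnt : Nontrivial G := by
    obtain ⟨x, y, hxy⟩ := hΩ
    obtain ⟨g, hg⟩ := MulAction.exists_smul_eq G x y
    exact ⟨⟨g, 1, fun h => hxy (by rw [← hg, h, one_smul])⟩⟩
  have hmemT : ∀ V ∈ 𝒱, MulAction.IsPretransitive V Ω := fun V hV => transitive_of_normal hprim V hV.1 hV.2.1
  have hdisj : ∀ V ∈ 𝒱, ∀ W ∈ 𝒱, V ≠ W → V ⊓ W = ⊥ := fun V hV W hW hne => by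
    have := hV.1; have := hW.1
    rcases hV.2.2 (V ⊓ W) inferInstance inf_le_left with h | h
    · exact h
    · rcases hW.2.2 V hV.1 (inf_eq_left.mp h) with h' | h'
      · exact absurd h' hV.2.1
      · exact absurd h' hne
  have hcomm : ∀ V ∈ 𝒱, ∀ W ∈ 𝒱, V ≠ W → ∀ v ∈ V, ∀ w ∈ W, v * w = w * v := fun V hV W hW hne v hv w hw =>
    (Subgroup.commute_of_normal_of_disjoint V W hV.1 hW.1 (disjoint_iff.mpr (hdisj V hV W hW hne)) v w hv hw).eq
  by_cases habel : ∃ M ∈ 𝒱, IsMulCommutative M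
  · obtain ⟨M, hM, hMc⟩ := habel
    have hMc' : ∀ a ∈ M, ∀ b ∈ M, a * b = b * a := fun a ha b hb =>
      congrArg Subtype.val (hMc.is_comm.comm (⟨a, ha⟩ : M) ⟨b, hb⟩)
    have hC : MulAction.stabilizer (Subgroup.centralizer (M : Set G)) ω₀ = ⊥ :=
      semiregular (hmemT M hM) (fun a ha b hb => Subgroup.mem_centralizer_iff.mp hb a ha) ω₀
    have hCM : Subgroup.centralizer (M : Set G) ≤ M :=
      eq_of_semireg (fun a ha => Subgroup.mem_centralizer_iff.mpr fun b hb => hMc' b hb a ha) (hmemT M hM) hC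
    have honly : ∀ V ∈ 𝒱, V = M := fun V hV => by
      by_contra hne
      have hle : V ≤ M := le_trans (fun v hv => Subgroup.mem_centralizer_iff.mpr fun b hb =>
        (hcomm V hV M hM hne v hv b hb).symm) hCM
      rcases hM.2.2 V hV.1 hle with h | h
      exacts [hV.2.1 h, hne h]
    have hNM : N = M := by
      rw [hN]
      exact le_antisymm (sSup_le fun V hV => (honly V hV).le) (le_sSup hM)
    subst hNM
    have : Group.IsSolvable N := by
      exact Group.isSolvable_of_comm fun a b => hMc.is_comm.comm a b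
    obtain ⟨p, hp, hx⟩ := Core.IsMinNormal.exists_prime_pow_eq_one (N := N) ⟨hM.1, hM.2.1, hM.2.2⟩
    exact Or.inl ⟨p, hp, hMc, fun x => Subtype.ext (hx x x.2), hmemT N hM,
      fun ω => semiregular (hmemT N hM) hMc' ω⟩
  · push Not at habel
    obtain ⟨M, hM⟩ := Core.exists_isMinNormal (G := G)
    have hM' : M ∈ 𝒱 := ⟨hM.normal, hM.ne_bot, hM.eq_of_le⟩
    have := hM.normal
    obtain ⟨T, iT, m, hT, hm, ⟨e⟩⟩ := S0721.result M hM.ne_bot hM.eq_of_le
    have hTna : ¬ IsMulCommutative T := fun hc => habel M hM' ⟨⟨fun a b => e.injective (by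
      rw [map_mul, map_mul]; exact funext fun i => hc.is_comm.comm _ _)⟩⟩
    refine Or.inr ?_
    by_cases hC : ∃ V ∈ 𝒱, V ≠ M
    · obtain ⟨V, hV, hVM⟩ := hC
      have := hV.1
      have honly : ∀ W ∈ 𝒱, W ≠ M → W = V := by
        intro W hW hWM
        by_contra hne
        have hWC : W ≤ Subgroup.centralizer (M : Set G) := fun w hw => Subgroup.mem_centralizer_iff.mpr
          fun b hb => (hcomm W hW M hM' hWM w hw b hb).symm
        have hVC : V ≤ Subgroup.centralizer (M : Set G) := fun w hw => Subgroup.mem_centralizer_iff.mpr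
          fun b hb => (hcomm V hV M hM' hVM w hw b hb).symm
        have hCV : Subgroup.centralizer (M : Set G) ≤ V := eq_of_semireg hVC (hmemT V hV)
          (semiregular (hmemT M hM') (fun a ha b hb => Subgroup.mem_centralizer_iff.mp hb a ha) ω₀)
        rcases hV.2.2 W hW.1 (hWC.trans hCV) with h | h
        exacts [hW.2.1 h, hne h]
      have hNeq : N = M ⊔ V := by
        rw [hN]
        refine le_antisymm (sSup_le fun W hW => ?_) (sup_le (le_sSup hM') (le_sSup hV))
        by_cases hWM : W = M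
        · exact hWM ▸ le_sup_left
        · exact (honly W hW hWM) ▸ le_sup_right
      subst hNeq
      obtain ⟨iso⟩ := iso_of_regular (hmemT M hM') (hmemT V hV) (hcomm M hM' V hV (Ne.symm hVM)) ω₀
      obtain ⟨pe⟩ := S0721.prod_equiv_sup M V (disjoint_iff.mpr (hdisj M hM' V hV (Ne.symm hVM)))
      exact ⟨T, iT, m + m, by omega, hT, hTna,
        ⟨pe.symm.trans ((MulEquiv.prodCongr e (iso.trans e)).trans (doublePi T m))⟩⟩
    · push Not at hC
      have hNM : N = M := by
        rw [hN]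
        exact le_antisymm (sSup_le fun V hV => (hC V hV).le) (le_sSup hM')
      subst hNM
      exact ⟨T, iT, m, hm, hT, hTna, ⟨e⟩⟩

end Cfsg.Agent.S3680
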