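import Cfsg.Statements.S3681
import Mathlib

set_option autoImplicit false
open Cfsg

namespace Cfsg.Agent.S3681

open Equiv

theorem result {G Ω : Type*} [Group G] [Finite G] [MulAction G Ω] [FaithfulSMul G Ω] [Fintype Ω] [DecidableEq Ω]
    (hprim : MulAction.IsPreprimitive G Ω) (hA : ¬ alternatingGroup Ω ≤ (MulAction.toPermHom G Ω).range) :
    Nat.card G * Nat.factorial ((Fintype.card Ω + 1) / 2) ≤ Nat.factorial (Fintype.card Ω) := by
  classical
  set P := (MulAction.toPermHom G Ω).range with hP
  have hPp : MulAction.IsPreprimitive P Ω := by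
    let f : Ω →ₑ[(MulAction.toPermHom G Ω).rangeRestrict] Ω :=
      { toFun := id, map_smul' := fun _ _ => rfl }
    exact MulAction.IsPreprimitive.of_surjective (f := f) Function.surjective_id
  rw [show Nat.card G = Nat.card P from
    Nat.card_congr (MonoidHom.ofInjective MulAction.toPerm_injective).toEquiv]
  let bases : Finset (Finset Ω) :=
    Finset.univ.filter fun D => ∀ g ∈ P, (∀ x ∈ D, g x = x) → g = 1
  obtain ⟨D, hD, hmin⟩ := bases.exists_min_image Finset.card
    ⟨Finset.univ, Finset.mem_filter.mpr ⟨Finset.mem_univ _, fun g _ hg =>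
      Equiv.ext fun x => hg x (Finset.mem_univ x)⟩⟩
  have hDbase := (Finset.mem_filter.mp hD).2
  have hhalf : 2 * D.card ≤ Fintype.card Ω := by
    by_contra hlt
    have hnot : ∀ E : Finset Ω, E.card < D.card → ∃ g ∈ P, (∀ x ∈ E, g x = x) ∧ g ≠ 1 := by
      intro E hE
      by_contra! h
      exact absurd (hmin E (Finset.mem_filter.mpr ⟨Finset.mem_univ _, h⟩)) (by omega)
    obtain ⟨g, hg, hgfix, hg1⟩ := hnot Dᶜ (by rw [Finset.card_compl]; omega)
    have hgout : ∀ x, x ∉ D → g x = x := fun x hx => hgfix x (Finset.mem_compl.mpr hx)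
    obtain ⟨a, ha⟩ : ∃ a, g a ≠ a := by
      by_contra! h
      exact hg1 (Equiv.ext h)
    have haD : a ∈ D := by
      by_contra h
      exact ha (hgout a h)
    obtain ⟨h, hh, hhfix, hh1⟩ := hnot (D.erase a) (Finset.card_erase_lt_of_mem haD)
    have hhD : ∀ x ∈ D, x ≠ a → h x = x := fun x hx hxa =>
      hhfix x (Finset.mem_erase.mpr ⟨hxa, hx⟩)
    have hha : h a ≠ a := fun he => hh1 (hDbase h hh fun x hx => by
      rcases eq_or_ne x a with rfl | hxa
      · exact he
      · exact hhD x hx hxa)
    have hc : g * h * g⁻¹ * h⁻¹ ∈ P := P.mul_mem (P.mul_mem (P.mul_mem hg hh) (P.inv_mem hg)) (P.inv_mem hh)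
    have hgaD : g a ∈ D := by
      by_contra hx
      exact ha (g.injective (hgout _ hx))
    have hhaD : h a ∉ D := fun hx => hha (h.injective (hhD _ hx hha))
    have hghne : g a ≠ h a := fun he => hhaD (he ▸ hgaD)
    have hgha : g (h a) = h a := hgout _ hhaD
    have hhga : h (g a) = g a := hhD _ hgaD ha
    have happ : ∀ x, (g * h * g⁻¹ * h⁻¹) x = g (h (g.symm (h.symm x))) := fun x => rfl
    have hout : ∀ x, x ∉ D → g.symm x = x := fun x hx => g.symm_apply_eq.mpr (hgout x hx).symm
    have hpre : ∀ x, x ∈ D → g.symm x ∈ D := fun x hx => by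
      by_contra hy
      exact hy (by rwa [show g.symm x = x by rw [← hgout _ hy, g.apply_symm_apply]])
    have hpreh : h.symm a ∉ D := fun hx => by
      rcases eq_or_ne (h.symm a) a with he | he
      · exact hha (h.symm_apply_eq.mp he).symm
      · exact he ((h.apply_symm_apply a).symm.trans (hhD _ hx he)).symm
    have c1 : (g * h * g⁻¹ * h⁻¹) a = g a := by
      rw [happ, hout _ hpreh, h.apply_symm_apply]
    have c2 : (g * h * g⁻¹ * h⁻¹) (g a) = h a := by
      rw [happ, show h.symm (g a) = g a from h.symm_apply_eq.mpr hhga.symm, g.symm_apply_apply,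
        hgha]
    have c3 : (g * h * g⁻¹ * h⁻¹) (h a) = a := by
      rw [happ, h.symm_apply_apply, hhD _ (hpre a haD)
        (fun he => ha (g.symm_apply_eq.mp he).symm), g.apply_symm_apply]
    have c4 : ∀ x, x ≠ a → x ≠ g a → x ≠ h a → (g * h * g⁻¹ * h⁻¹) x = x := by
      intro x hxa hxg hxh
      rw [happ]
      by_cases hx : x ∈ D
      · rw [show h.symm x = x from h.symm_apply_eq.mpr (hhD x hx hxa).symm,
          hhD _ (hpre x hx) (fun he => hxg (g.symm_apply_eq.mp he)), g.apply_symm_apply]
      · have hy : h.symm x ∉ D := fun hy => by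
          have hya : h.symm x ≠ a := fun he => hxh (h.symm_apply_eq.mp he)
          have := hhD _ hy hya
          rw [h.apply_symm_apply] at this
          exact hx (this ▸ hy)
        rw [hout _ hy, h.apply_symm_apply, hgout x hx]
    have h3 : (g * h * g⁻¹ * h⁻¹).IsThreeCycle := by
      rw [← card_support_eq_three_iff]
      rw [show (g * h * g⁻¹ * h⁻¹).support = {a, g a, h a} by
        ext x
        simp only [Equiv.Perm.mem_support, Finset.mem_insert, Finset.mem_singleton]
        constructor
        · intro hx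
          by_contra! hne
          exact hx (c4 x hne.1 hne.2.1 hne.2.2)
        · rintro (rfl | rfl | rfl)
          · rw [c1]; exact ha
          · rw [c2]; exact hghne.symm
          · rw [c3]; exact hha.symm]
      rw [Finset.card_eq_three]
      exact ⟨a, g a, h a, ha.symm, hha.symm, hghne, rfl⟩
    exact hA (Equiv.Perm.alternatingGroup_le_of_isPreprimitive_of_isThreeCycle_mem hPp h3 hc)
  have hinj : Function.Injective fun (g : P) =>
      (⟨fun x : D => (g : Perm Ω) x, fun x y hxy => Subtype.ext ((g : Perm Ω).injective hxy)⟩ :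
        D ↪ Ω) := by
    intro p q hpq
    have : (q : Perm Ω)⁻¹ * p = 1 := hDbase _ (P.mul_mem (P.inv_mem q.2) p.2) fun x hx => by
      have hx' : (p : Perm Ω) x = (q : Perm Ω) x :=
        congrArg (fun e : D ↪ Ω => e ⟨x, hx⟩) hpq
      rw [Perm.mul_apply, hx']; exact (q : Perm Ω).symm_apply_apply x
    exact Subtype.ext (inv_mul_eq_one.mp this).symm
  have hle : Nat.card P ≤ (Fintype.card Ω).descFactorial D.card := by
    rw [← Fintype.card_coe D, ← Fintype.card_embedding_eq, ← Nat.card_eq_fintype_card]
    exact Nat.card_le_card_of_injective _ hinj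
  calc Nat.card P * Nat.factorial ((Fintype.card Ω + 1) / 2)
      ≤ (Fintype.card Ω).descFactorial D.card * Nat.factorial (Fintype.card Ω - D.card) :=
        Nat.mul_le_mul hle (Nat.factorial_le (by omega))
    _ = _ := by rw [mul_comm, Nat.factorial_mul_descFactorial (by omega)]

end Cfsg.Agent.S3681
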