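import Cfsg.Statements.S3682
import Cfsg.Agent.ThompsonWielandt.Bound

set_option autoImplicit false
open Cfsg

namespace Cfsg.Agent.S3682

/-- Wielandt's bound toward the Sims conjecture. Let a finite group G act faithfully and primitively on a set Ω, let a and b be points, and suppose the orbit of b under the stabilizer of a has length d ≥ 2. Then there are a prime p and a normal p-subgroup P of the stabilizer of a, all of whose elements fix b, such that the index of P in the stabilizer of a divides d! · ((d - 1)!)^d. -/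
theorem result {G Ω : Type*} [Group G] [Finite G] [MulAction G Ω] [FaithfulSMul G Ω] [Finite Ω]
    (hprim : MulAction.IsPreprimitive G Ω) (a b : Ω) (d : ℕ) (hd : Nat.card (MulAction.orbit (MulAction.stabilizer G a) b) = d) (h2 : 2 ≤ d) :
    ∃ p : ℕ, p.Prime ∧ ∃ P : Subgroup (MulAction.stabilizer G a), P.Normal ∧ IsPGroup p P ∧ (∀ g : P, ((g : MulAction.stabilizer G a) : G) • b = b) ∧
      P.index ∣ Nat.factorial d * (Nat.factorial (d - 1)) ^ d := by
  obtain ⟨h, hcard⟩ := ThompsonWielandt.setup_perm hprim (hd.symm ▸ h2)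
  have hidx : ((MulAction.stabilizer G b).subgroupOf (MulAction.stabilizer G a)).index = d :=
    (ThompsonWielandt.stabilizer_subgroupOf_index _ b).trans hd
  by_cases hA : ThompsonWielandt.A2 (MulAction.stabilizer G a) (MulAction.stabilizer G b) = ⊥ ∨
      ThompsonWielandt.B2 (MulAction.stabilizer G a) (MulAction.stabilizer G b) = ⊥
  · refine ⟨2, Nat.prime_two, ⊥, inferInstance, IsPGroup.of_bot, fun g => ?_, ?_⟩
    · rw [show ((g : MulAction.stabilizer G a) : G) = 1 by rw [Subgroup.mem_bot.mp g.2]; rfl, one_smul]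
    · rw [Subgroup.index_bot, ← hidx]
      exact ThompsonWielandt.card_dvd_of_A2_eq_bot hcard hA
  · push Not at hA
    obtain ⟨p, hp, hAp, -⟩ := ThompsonWielandt.main h hA.1 hA.2
    refine ⟨p, hp, (ThompsonWielandt.A2 (MulAction.stabilizer G a) (MulAction.stabilizer G b)).subgroupOf _,
      ?_, ?_, fun g => ?_, ?_⟩
    · exact (Subgroup.normal_subgroupOf_iff_le_normalizer (ThompsonWielandt.cor_le_left _ _)).mpr
        (ThompsonWielandt.le_normalizer_cor _ _)
    · exact hAp.of_equiv (Subgroup.subgroupOfEquivOfLe (ThompsonWielandt.cor_le_left _ _)).symm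
    · exact MulAction.mem_stabilizer_iff.mp
        ((ThompsonWielandt.A1_le _ _ (ThompsonWielandt.A2_le _ _ g.2).1).2)
    · rw [← hidx]
      exact ThompsonWielandt.index_A2_dvd hcard

end Cfsg.Agent.S3682
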