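import Cfsg.Statements.S3683


set_option autoImplicit false
open Cfsg

namespace Cfsg.Agent.S3683

/-- Let a finite group G act faithfully and primitively on a set Ω, and suppose the stabilizer of a point a fixes a second point b ≠ a (a suborbit of length 1 other than {a}). Then the stabilizer of a is trivial and G is cyclic of prime order. -/
theorem result {G Ω : Type*} [Group G] [Finite G] [MulAction G Ω] [FaithfulSMul G Ω] [Finite Ω]
    (hprim : MulAction.IsPreprimitive G Ω) (a b : Ω) (hab : a ≠ b) (hfix : ∀ g : G, g • a = a → g • b = b) :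
    MulAction.stabilizer G a = ⊥ ∧ IsCyclic G ∧ (Nat.card G).Prime := by
  have ht : MulAction.IsPretransitive G Ω := hprim.toIsPretransitive
  have : Nontrivial Ω := ⟨⟨a, b, hab⟩⟩
  have hmax : IsCoatom (MulAction.stabilizer G a) :=
    (MulAction.isCoatom_stabilizer_iff_preprimitive G a).mpr hprim
  obtain ⟨g, hg⟩ := MulAction.exists_smul_eq G a b
  have hle : MulAction.stabilizer G a ≤ MulAction.stabilizer G b := fun x hx => hfix x hx
  have heq : MulAction.stabilizer G a = MulAction.stabilizer G b := by
    refine (hmax.le_iff.mp hle).elim (fun h => ?_) (fun h => h.symm)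
    exfalso
    obtain ⟨x, hx⟩ := MulAction.exists_smul_eq G b a
    have : x ∈ MulAction.stabilizer G b := h ▸ Subgroup.mem_top x
    exact hab (hx.symm.trans this)
  have hgn : g ∈ Subgroup.normalizer (MulAction.stabilizer G a : Set G) := by
    rw [Subgroup.mem_normalizer_iff]
    intro x
    constructor
    · intro hx
      rw [heq]
      show (g * x * g⁻¹) • b = b
      rw [← hg, mul_smul, mul_smul, inv_smul_smul, show x • a = a from hx]
    · intro hx
      rw [heq] at hx
      have h : (g * x * g⁻¹) • b = b := hx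
      rw [← hg, mul_smul, mul_smul, inv_smul_smul] at h
      exact smul_left_cancel g h
  have hnormal : (MulAction.stabilizer G a).Normal := by
    rw [← Subgroup.normalizer_eq_top_iff]
    refine (hmax.le_iff.mp Subgroup.le_normalizer).resolve_right fun h => ?_
    rw [h] at hgn
    exact hab ((show g • a = a from hgn).symm.trans hg)
  have hbot : MulAction.stabilizer G a = ⊥ := by
    rw [Subgroup.eq_bot_iff_forall]
    intro x hx
    refine eq_of_smul_eq_smul (α := Ω) fun ω => ?_
    obtain ⟨k, rfl⟩ := MulAction.exists_smul_eq G a ω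
    have h : (k⁻¹ * x * k) • a = a := by
      have := hnormal.conj_mem x hx k⁻¹
      rwa [inv_inv] at this
    rw [mul_smul, mul_smul, inv_smul_eq_iff] at h
    rw [h, one_smul]
  rw [hbot] at hmax
  have hg1 : g ≠ 1 := fun h => hab (by rw [← hg, h, one_smul])
  have : Nontrivial G := ⟨⟨g, 1, hg1⟩⟩
  have hz : ∀ x : G, x ≠ 1 → Subgroup.zpowers x = ⊤ := fun x hx =>
    (hmax.le_iff.mp bot_le).resolve_right (Subgroup.zpowers_ne_bot.mpr hx)
  refine ⟨hbot, ⟨⟨g, fun x => Subgroup.mem_zpowers_iff.mp (by rw [hz g hg1]; exact Subgroup.mem_top x)⟩⟩, ?_⟩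
  obtain ⟨p, hp, hpd⟩ := Nat.exists_prime_and_dvd (n := Nat.card G) Finite.one_lt_card.ne'
  have := Fact.mk hp
  obtain ⟨x, hx⟩ := exists_prime_orderOf_dvd_card' (G := G) p hpd
  rw [← Subgroup.card_top (G := G), ← hz x (fun h => hp.ne_one (by rw [← hx, h, orderOf_one])),
    Nat.card_zpowers, hx]
  exact hp

end Cfsg.Agent.S3683
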