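import Cfsg.Statements.S3684
import Cfsg.Agent.S0206
import Cfsg.Agent.Invol.Pair
-- import your own Cfsg.Agent.* helpers here

set_option autoImplicit false
open Cfsg

namespace Cfsg.Agent.S3684

/-- Let a finite group G act faithfully and primitively on a set Ω, and suppose the stabilizer of a point a has an orbit of length 2. Then the stabilizer of a has order 2 and G is isomorphic to the dihedral group of order 2p for some prime p. -/
theorem result {G Ω : Type*} [Group G] [Finite G] [MulAction G Ω] [FaithfulSMul G Ω] [Finite Ω]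
    (hprim : MulAction.IsPreprimitive G Ω) (a b : Ω) (h2 : Nat.card (MulAction.orbit (MulAction.stabilizer G a) b) = 2) :
    Nat.card (MulAction.stabilizer G a) = 2 ∧ ∃ p : ℕ, p.Prime ∧ Nonempty (G ≃* DihedralGroup p) := by
  classical
  have htr : MulAction.IsPretransitive G Ω := hprim.toIsPretransitive
  have hne : a ≠ b := by
    rintro rfl
    have : MulAction.orbit (MulAction.stabilizer G a) a = {a} := by
      ext x
      simp only [MulAction.mem_orbit_iff, Set.mem_singleton_iff]
      refine ⟨fun ⟨g, hg⟩ => hg ▸ g.2, fun h => ⟨1, by rw [one_smul, h]⟩⟩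
    rw [this] at h2
    simp at h2
  have : Nontrivial Ω := ⟨⟨a, b, hne⟩⟩
  set A := MulAction.stabilizer G a with hA
  set B := MulAction.stabilizer G b with hB
  have hmax : IsCoatom A := (MulAction.isCoatom_stabilizer_iff_preprimitive G a).mpr hprim
  set D := A ⊓ B with hD
  have hDA : D.relIndex A = 2 := by
    have e1 : D.subgroupOf A = MulAction.stabilizer A b := by
      ext ⟨g, hg⟩
      simp [hD, hB, Subgroup.mem_subgroupOf, hg]
    rw [Subgroup.relIndex, e1, MulAction.index_stabilizer, ← Nat.card_coe_set_eq, h2]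
  have hcard : Nat.card A = Nat.card B := by
    obtain ⟨g, hg⟩ := MulAction.exists_smul_eq G a b
    exact Nat.card_congr (MulAction.stabilizerEquivStabilizerOfOrbitRel ⟨g⁻¹, by simp [← hg]⟩).toEquiv
  have hDB : D.relIndex B = 2 := by
    have h1 := Subgroup.relIndex_mul_relIndex (⊥ : Subgroup G) D A bot_le inf_le_left
    have h1' := Subgroup.relIndex_mul_relIndex (⊥ : Subgroup G) D B bot_le inf_le_right
    simp only [Subgroup.relIndex_bot_left] at h1 h1'
    rw [hDA, hcard, ← h1'] at h1
    exact (Nat.eq_of_mul_eq_mul_left Nat.card_pos h1).symm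
  have hAN : A ≤ Subgroup.normalizer (D : Set G) := (Subgroup.normal_subgroupOf_iff_le_normalizer inf_le_left).mp
    (Subgroup.normal_of_index_eq_two hDA)
  have hBN : B ≤ Subgroup.normalizer (D : Set G) := (Subgroup.normal_subgroupOf_iff_le_normalizer inf_le_right).mp
    (Subgroup.normal_of_index_eq_two hDB)
  have hBA : ¬ B ≤ A := by
    intro h
    have he : B = A := Subgroup.eq_of_le_of_card_ge h hcard.le
    have h1 : D = A := by rw [hD, he, inf_idem]
    rw [h1, Subgroup.relIndex_self] at hDA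
    omega
  have htop : A ⊔ B = ⊤ := hmax.2 _ (lt_of_le_of_ne le_sup_left fun h => hBA (h ▸ le_sup_right))
  have hDn : D.Normal := Subgroup.normalizer_eq_top_iff.mp
    (top_le_iff.mp (htop ▸ sup_le hAN hBN))
  have hD1 : D = ⊥ := by
    refine (Subgroup.eq_bot_iff_forall _).mpr fun g hg => eq_of_smul_eq_smul (α := Ω) fun x => ?_
    obtain ⟨h, rfl⟩ := MulAction.exists_smul_eq G a x
    have hg' : h⁻¹ * g * h ∈ D := by simpa using hDn.conj_mem g hg h⁻¹
    have : (h⁻¹ * g * h) • a = a := hg'.1
    rw [mul_assoc, mul_smul, inv_smul_eq_iff, mul_smul] at this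
    rw [this, one_smul]
  have hA2 : Nat.card A = 2 := by
    rw [hD1, Subgroup.relIndex_bot_left] at hDA
    exact hDA
  refine ⟨hA2, ?_⟩
  have hgen : ∀ C : Subgroup G, Nat.card C = 2 → ∃ s, orderOf s = 2 ∧ C = Subgroup.zpowers s := by
    intro C hC
    have : Fact (Nat.Prime 2) := ⟨Nat.prime_two⟩
    obtain ⟨⟨s, hs⟩, hs1⟩ := exists_prime_orderOf_dvd_card' 2 (dvd_of_eq hC.symm)
    have hs2 : orderOf s = 2 := (Subgroup.orderOf_mk s hs).symm.trans hs1
    refine ⟨s, hs2, (Subgroup.eq_of_le_of_card_ge (Subgroup.zpowers_le.mpr hs) ?_).symm⟩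
    rw [hC, Nat.card_zpowers, hs2]
  obtain ⟨s, hs, hAs⟩ := hgen A hA2
  obtain ⟨t, ht, hBt⟩ := hgen B (hcard ▸ hA2)
  have hst : s ≠ t := fun h => hBA (by rw [hAs, hBt, h])
  have hcl : Subgroup.closure ({s, t} : Set G) = ⊤ := by
    rw [Set.insert_eq, Subgroup.closure_union, ← Subgroup.zpowers_eq_closure, ← Subgroup.zpowers_eq_closure,
      ← hAs, ← hBt, htop]
  obtain ⟨e⟩ := Cfsg.Agent.S0206.result s t hs ht hst
  let e' : G ≃* DihedralGroup (orderOf (s * t)) :=
    (Subgroup.topEquiv.symm.trans (MulEquiv.subgroupCongr hcl.symm)).trans e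
  refine ⟨orderOf (s * t), ?_, ⟨e'⟩⟩
  set n := orderOf (s * t) with hn
  have hn1 : n ≠ 1 := fun h => hst (by
    rw [hn, orderOf_eq_one_iff] at h
    rw [eq_inv_of_mul_eq_one_left h, Cfsg.Agent.Invol.inv_eq_self ht])
  by_contra hnp
  obtain ⟨d, hdn, hd2, hdl⟩ := Nat.exists_dvd_of_not_prime2
    (by have := orderOf_pos (s * t); omega) hnp
  set u := s * (s * t) ^ (d : ℤ) with hu
  have hu2 : orderOf u = 2 := Cfsg.Agent.Invol.orderOf_self_mul_zpow hs ht d
  have hod : orderOf ((s * t) ^ d) = n / d := orderOf_pow_of_dvd (by omega) hdn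
  have hsu : s * u = (s * t) ^ d := by
    rw [hu, Cfsg.Agent.Invol.mul_mul_cancel_self hs, zpow_natCast]
  have hnd : 1 < n / d := by
    obtain ⟨k, hk⟩ := hdn
    rw [hk, Nat.mul_div_cancel_left _ (by omega)]
    by_contra hk1
    interval_cases k <;> omega
  have hsu' : s ≠ u := fun h => by
    rw [← h, Cfsg.Agent.Invol.mul_self_eq_one hs] at hsu
    rw [← hsu, orderOf_one] at hod
    omega
  obtain ⟨e2⟩ := Cfsg.Agent.S0206.result s u hs hu2 hsu'
  have hKc : Nat.card (Subgroup.closure ({s, u} : Set G)) = 2 * (n / d) := by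
    rw [Nat.card_congr e2.toEquiv, DihedralGroup.nat_card, hsu, hod]
  have hle : A ≤ Subgroup.closure ({s, u} : Set G) := by
    rw [hAs, Subgroup.zpowers_le]; exact Subgroup.subset_closure (Set.mem_insert _ _)
  rcases hle.eq_or_lt with h | h
  · rw [← h, hA2] at hKc
    omega
  · have h1 := hmax.2 _ h
    rw [h1, Subgroup.card_top, Nat.card_congr e'.toEquiv, DihedralGroup.nat_card] at hKc
    have h3 := Nat.div_lt_self (show 0 < n by omega) (show 1 < d by omega)
    omega

end Cfsg.Agent.S3684
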