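import Cfsg.Statements.S3686
import Cfsg.Agent.SubThree.Structure
import Cfsg.Agent.SubdegThree.SmallCases
import Cfsg.Agent.SubdegThree.SymFour
import Cfsg.Agent.SubdegThree.TimesTwo
import Cfsg.Agent.OrderType.Count

set_option autoImplicit false
open Cfsg

namespace Cfsg.Agent.S3686

open Subgroup MulAction

theorem five_solvable {H : Type*} [Group H] (h5 : SubThree.Five H) : Group.IsSolvable H := by
  have aux : ∀ {K : Type} [Group K], Group.IsSolvable K → (H ≃* K) → Group.IsSolvable H := by
    intro K _ hK e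
    exact Group.isSolvable_of_isSolvable_injective (f := e.toMonoidHom) e.injective
  rcases h5 with ⟨⟨e⟩⟩ | ⟨⟨e⟩⟩ | ⟨⟨e⟩⟩ | ⟨⟨e⟩⟩ | ⟨⟨e⟩⟩
  · exact aux (Group.isSolvable_of_comm mul_comm) e
  · exact aux SubdegThree.solvable_perm_three e
  · refine aux ?_ e
    let C : Subgroup (DihedralGroup 6) := Subgroup.zpowers (DihedralGroup.r 1)
    have hi : C.index = 2 := by
      have h := C.card_mul_index
      rw [Nat.card_zpowers, DihedralGroup.orderOf_r_one, DihedralGroup.nat_card] at h
      omega
    have hn : C.Normal := normal_of_index_eq_two hi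
    rw [Group.isSolvable_iff_subgroup_quotient C]
    have hcc : IsCyclic (DihedralGroup 6 ⧸ C) :=
      isCyclic_of_prime_card (p := 2) (by rw [← index_eq_card, hi])
    exact ⟨Group.isSolvable_of_comm fun x y => mul_comm' x y,
      Group.isSolvable_of_comm fun x y => (IsCyclic.isMulCommutative (α := DihedralGroup 6 ⧸ C)).is_comm.comm x y⟩
  · exact aux OrderType.s4_solvable e
  · have := OrderType.s4_solvable
    exact aux inferInstance e

theorem small_to_goal {A B C D E R : Prop} (h : A ∨ B ∨ C ∨ D ∨ E) : A ∨ B ∨ C ∨ D ∨ E ∨ R := by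
  rcases h with h | h | h | h | h
  exacts [Or.inl h, Or.inr (Or.inl h), Or.inr (Or.inr (Or.inl h)), Or.inr (Or.inr (Or.inr (Or.inl h))),
    Or.inr (Or.inr (Or.inr (Or.inr (Or.inl h))))]

/-- Let G be a finite insoluble group acting faithfully and primitively on a set Ω so that the stabilizer of a point a has an orbit of length 3. Then G is isomorphic to one of: the alternating or the symmetric group of degree 5, PGL(2, 7), PSL(2, 11), PSL(2, 13), PSL(2, p) for a prime p ≡ ±1 (mod 16), PSL(3, 3), or a group containing a normal subgroup of index 2 isomorphic to PSL(3, 3) with trivial centralizer. -/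
theorem result {G Ω : Type*} [Group G] [Finite G] [MulAction G Ω] [FaithfulSMul G Ω] [Finite Ω]
    (hsol : ¬ Group.IsSolvable G) (hprim : MulAction.IsPreprimitive G Ω) (a b : Ω) (h3 : Nat.card (MulAction.orbit (MulAction.stabilizer G a) b) = 3) :
    Nonempty (G ≃* alternatingGroup (Fin 5)) ∨ Nonempty (G ≃* Equiv.Perm (Fin 5)) ∨
      Nonempty (G ≃* GL (Fin 2) (ZMod 7) ⧸ Subgroup.center (GL (Fin 2) (ZMod 7))) ∨
      Nonempty (G ≃* Matrix.ProjectiveSpecialLinearGroup (Fin 2) (ZMod 11)) ∨
      Nonempty (G ≃* Matrix.ProjectiveSpecialLinearGroup (Fin 2) (ZMod 13)) ∨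
      (∃ p : ℕ, p.Prime ∧ (p % 16 = 1 ∨ p % 16 = 15) ∧ Nonempty (G ≃* Matrix.ProjectiveSpecialLinearGroup (Fin 2) (ZMod p))) ∨
      Nonempty (G ≃* Matrix.ProjectiveSpecialLinearGroup (Fin 3) (ZMod 3)) ∨
      (∃ N : Subgroup G, N.Normal ∧ N.index = 2 ∧ Subgroup.centralizer (N : Set G) = ⊥ ∧
        Nonempty (N ≃* Matrix.ProjectiveSpecialLinearGroup (Fin 3) (ZMod 3))) := by
  have htr : IsPretransitive G Ω := hprim.toIsPretransitive
  have h5 := SubThree.stabilizer_five hprim a b h3
  set H := stabilizer G a with hHdef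
  have hne : b ≠ a := by
    rintro rfl
    have : orbit (stabilizer G b) b = {b} := by
      ext x
      simp only [mem_orbit_iff, Set.mem_singleton_iff]
      refine ⟨fun ⟨g, hg⟩ => hg ▸ g.2, fun h => ⟨1, by rw [one_smul, h]⟩⟩
    rw [this, Nat.card_coe_set_eq, Set.ncard_singleton] at h3
    omega
  have : Nontrivial Ω := ⟨b, a, hne⟩
  have hH : IsCoatom H := IsPreprimitive.isCoatom_stabilizer_of_isPreprimitive G a
  have hHs : Group.IsSolvable H := five_solvable h5
  have hcore : ∀ N : Subgroup G, N.Normal → Group.IsSolvable N → N = ⊥ := by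
    intro N hN hNs
    by_contra hNb
    have hnle : ¬ N ≤ H := fun hle => hNb <| (eq_bot_iff_forall _).2 fun n hn => by
      refine FaithfulSMul.eq_of_smul_eq_smul (α := Ω) fun c => ?_
      obtain ⟨k, rfl⟩ := exists_smul_eq G a c
      have h1 : (k⁻¹ * n * k) • a = a := hle (by simpa using hN.conj_mem n hn k⁻¹)
      rw [mul_smul, mul_smul, inv_smul_eq_iff] at h1
      rw [one_smul, h1]
    have hsup : H ⊔ N = ⊤ := hH.2 _ (left_lt_sup.2 hnle)
    apply hsol
    rw [Group.isSolvable_iff_subgroup_quotient N]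
    refine ⟨hNs, Group.isSolvable_of_surjective (f := (QuotientGroup.mk' N).comp H.subtype) ?_⟩
    intro q
    obtain ⟨y, rfl⟩ := QuotientGroup.mk'_surjective N q
    obtain ⟨h, hh, n, hn, rfl⟩ := mem_sup_of_normal_right.1 (hsup ▸ mem_top y)
    exact ⟨⟨h, hh⟩, by simp [hn]⟩
  obtain ⟨g, hg⟩ := exists_smul_eq G a b
  have hgH : g ∉ H := fun hm => hne (hg.symm.trans hm)
  have hconj : H.map (MulAut.conj g).toMonoidHom = stabilizer G b := by
    rw [← hg, stabilizer_smul_eq_stabilizer_map_conj]
  have hD : 3 * Nat.card (H ⊓ H.map (MulAut.conj g).toMonoidHom : Subgroup G) = Nat.card H := by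
    have h1 : (stabilizer G b).subgroupOf H = stabilizer H b := rfl
    have h2 : ((stabilizer G b).subgroupOf H).index = 3 := by
      rw [h1, index_stabilizer, ← Nat.card_coe_set_eq, h3]
    have h4 := card_mul_index ((stabilizer G b).subgroupOf H)
    rw [h2, ← inf_subgroupOf_left, Nat.card_congr (subgroupOfEquivOfLe inf_le_left).toEquiv] at h4
    rw [hconj, ← h4, mul_comm]
  rcases h5 with h | h | h | ⟨⟨e⟩⟩ | ⟨⟨e⟩⟩
  · exact small_to_goal (SubdegThree.smallCases hsol H hH hcore (Or.inl h))
  · exact small_to_goal (SubdegThree.smallCases hsol H hH hcore (Or.inr (Or.inl h)))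
  · exact small_to_goal (SubdegThree.smallCases hsol H hH hcore (Or.inr (Or.inr h)))
  · have hc : Nat.card H = 24 := by
      rw [Nat.card_congr e.toEquiv, Nat.card_perm, Nat.card_fin]; rfl
    rcases SubdegThree.symFour hsol H hH hcore g hgH (by omega) e with h | h
    · exact Or.inr (Or.inr (Or.inr (Or.inr (Or.inr (Or.inl h)))))
    · exact Or.inr (Or.inr (Or.inr (Or.inr (Or.inr (Or.inr (Or.inl h))))))
  · have hc : Nat.card H = 48 := by
      rw [Nat.card_congr e.toEquiv, Nat.card_prod, Nat.card_perm, Nat.card_fin, Nat.card_congr Multiplicative.toAdd,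
        Nat.card_zmod]
      rfl
    exact Or.inr (Or.inr (Or.inr (Or.inr (Or.inr (Or.inr (Or.inr
      (SubdegThree.timesTwo hsol H hH hcore g hgH (by omega) e)))))))

end Cfsg.Agent.S3686
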