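import Cfsg.Statements.S3693
import Cfsg.Agent.ThompsonWielandt.Bound

set_option autoImplicit false
open Cfsg

namespace Cfsg.Agent.S3693

/-- Let a finite group G act faithfully and primitively on a set Ω, let a and b be points such that the orbit Δ of b under the stabilizer H of a has length d ≥ 2, and consider the permutation group induced on Δ by the elements of H fixing b. If that induced group has trivial Fitting subgroup (no non-trivial nilpotent normal subgroup), then the two-point stabilizer of a and b has trivial Fitting subgroup and the order of H divides d! · ((d - 1)!)^d. -/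
theorem result {G Ω : Type*} [Group G] [Finite G] [MulAction G Ω] [FaithfulSMul G Ω] [Finite Ω]
    (hprim : MulAction.IsPreprimitive G Ω) (a b : Ω) (d : ℕ) (hd : Nat.card (MulAction.orbit (MulAction.stabilizer G a) b) = d) (h2 : 2 ≤ d)
    (hF : Cfsg.fittingSubgroup ↥(((MulAction.stabilizer G b).subgroupOf (MulAction.stabilizer G a)).map (MulAction.toPermHom (MulAction.stabilizer G a) (MulAction.orbit (MulAction.stabilizer G a) b))) = ⊥) :
    Cfsg.fittingSubgroup ↥(MulAction.stabilizer G a ⊓ MulAction.stabilizer G b) = ⊥ ∧
      Nat.card (MulAction.stabilizer G a) ∣ Nat.factorial d * (Nat.factorial (d - 1)) ^ d := by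
  obtain ⟨h, hcard⟩ := ThompsonWielandt.setup_perm hprim (hd.symm ▸ h2)
  have hidx : ((MulAction.stabilizer G b).subgroupOf (MulAction.stabilizer G a)).index = d :=
    (ThompsonWielandt.stabilizer_subgroupOf_index _ b).trans hd
  have hU := ThompsonWielandt.fitting_inf_eq_bot h hF
  refine ⟨hU, ?_⟩
  rw [← hidx]
  refine ThompsonWielandt.card_dvd_of_A2_eq_bot hcard ?_
  by_contra hA
  push Not at hA
  obtain ⟨p, hp, hAp, -⟩ := ThompsonWielandt.main h hA.1 hA.2
  haveI := Fact.mk hp
  have hle : ThompsonWielandt.A2 (MulAction.stabilizer G a) (MulAction.stabilizer G b) ≤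
      MulAction.stabilizer G a ⊓ MulAction.stabilizer G b :=
    ((ThompsonWielandt.A2_le _ _).trans inf_le_left).trans (ThompsonWielandt.A1_le _ _)
  have := ThompsonWielandt.le_pc hle
    (ThompsonWielandt.isSubnormal_of_le_normalizer hle
      (inf_le_left.trans (ThompsonWielandt.le_normalizer_cor _ _))) hAp
  have hb : Cfsg.pCore p ↥(MulAction.stabilizer G a ⊓ MulAction.stabilizer G b) = ⊥ :=
    le_bot_iff.mp (hU ▸ Core.pCore_le_fittingSubgroup p)
  rw [ThompsonWielandt.pc, hb, Subgroup.map_bot] at this
  exact hA.1 (le_bot_iff.mp this)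

end Cfsg.Agent.S3693
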