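import Cfsg.Statements.S3696
-- import your own Cfsg.Agent.* helpers here

set_option autoImplicit false
open Cfsg

namespace Cfsg.Agent.S3696

theorem weighted {o m r s : ℕ} (hr : 1 ≤ r) (hs : 1 ≤ s) :
    o ^ r * m ^ s * (r + s) ^ (r + s) ≤ r ^ r * s ^ s * (o + m) ^ (r + s) := by
  have hr' : (0 : ℝ) < r := by exact_mod_cast hr
  have hs' : (0 : ℝ) < s := by exact_mod_cast hs
  have hk : (0 : ℝ) < (r : ℝ) + s := by linarith
  have ha : (0 : ℝ) ≤ (o : ℝ) / r := by positivity
  have hb : (0 : ℝ) ≤ (m : ℝ) / s := by positivity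
  have h := Real.geom_mean_le_arith_mean2_weighted
    (w₁ := (r : ℝ) / (r + s)) (w₂ := (s : ℝ) / (r + s)) (by positivity) (by positivity) ha hb
    (by field_simp)
  have h' := pow_le_pow_left₀ (by positivity) h (r + s)
  rw [mul_pow, ← Real.rpow_natCast (((o : ℝ) / r) ^ ((r : ℝ) / (r + s))),
    ← Real.rpow_natCast (((m : ℝ) / s) ^ ((s : ℝ) / (r + s))), ← Real.rpow_mul ha, ← Real.rpow_mul hb] at h'
  have e1 : (r : ℝ) / (r + s) * ((r + s : ℕ) : ℝ) = (r : ℕ) := by push_cast; field_simp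
  have e2 : (s : ℝ) / (r + s) * ((r + s : ℕ) : ℝ) = (s : ℕ) := by push_cast; field_simp
  have e3 : (r : ℝ) / (r + s) * ((o : ℝ) / r) + (s : ℝ) / (r + s) * ((m : ℝ) / s) = ((o : ℝ) + m) / (r + s) := by
    field_simp
  rw [e1, e2, e3, Real.rpow_natCast, Real.rpow_natCast, div_pow, div_pow, div_pow, div_mul_div_comm,
    div_le_div_iff₀ (by positivity) (by positivity)] at h'
  have h'' : (o : ℝ) ^ r * (m : ℝ) ^ s * ((r : ℝ) + s) ^ (r + s) ≤
      (r : ℝ) ^ r * (s : ℝ) ^ s * ((o : ℝ) + m) ^ (r + s) := by linarith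
  exact_mod_cast h''

theorem self_pow_le {o r p : ℕ} (hp : 2 ≤ p) (hr : 1 ≤ r) (ho : p ^ r ≤ o) : o * r ^ r ≤ o ^ r := by
  obtain ⟨t, rfl⟩ : ∃ t, r = t + 1 := ⟨r - 1, by omega⟩
  have h2 : 2 ^ (t + 1) ≤ o := (Nat.pow_le_pow_left hp _).trans ho
  rw [pow_succ' o]
  refine Nat.mul_le_mul_left _ ?_
  calc (t + 1) ^ (t + 1) ≤ (2 ^ t) ^ (t + 1) := Nat.pow_le_pow_left Nat.lt_two_pow_self _
    _ = (2 ^ (t + 1)) ^ t := by rw [← pow_mul, ← pow_mul, mul_comm]
    _ ≤ o ^ t := Nat.pow_le_pow_left h2 _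

variable {Ω : Type*} [Fintype Ω] [DecidableEq Ω]

/-- elements killed by `p` -/
def tors (A : Subgroup (Equiv.Perm Ω)) (h : ∀ x ∈ A, ∀ y ∈ A, x * y = y * x) (p : ℕ) :
    Subgroup (Equiv.Perm Ω) where
  carrier := {x | x ∈ A ∧ x ^ p = 1}
  one_mem' := ⟨one_mem _, one_pow p⟩
  mul_mem' := fun {a b} ha hb =>
    ⟨mul_mem ha.1 hb.1, by rw [Commute.mul_pow (h a ha.1 b hb.1), ha.2, hb.2, one_mul]⟩
  inv_mem' := fun {a} ha => ⟨inv_mem ha.1, by rw [inv_pow, ha.2, inv_one]⟩

theorem bound {p : ℕ} (hp : p.Prime) : ∀ n (S : Finset Ω), S.card = n →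
    ∀ (K : Subgroup (Equiv.Perm Ω)) (h : ∀ x ∈ K, ∀ y ∈ K, x * y = y * x), IsPGroup p K →
    (∀ g ∈ K, ∀ x, x ∉ S → g x = x) → ∀ k, Nat.card (tors K h p) = p ^ k →
    Nat.card K * k ^ k ≤ n ^ k := by
  classical
  intro n
  induction n using Nat.strong_induction_on with
  | _ n ih =>
    intro S hS K h hK hsupp k hk
    by_cases hk0 : k = 0
    · subst hk0
      suffices hK1 : K = ⊥ by rw [hK1]; simp
      by_contra hne
      have : Fact p.Prime := ⟨hp⟩
      have hnt : Nontrivial K := (Subgroup.nontrivial_iff_ne_bot K).mpr hne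
      obtain ⟨n', hn', hc⟩ := hK.nontrivial_iff_card.mp hnt
      obtain ⟨x, hx⟩ := exists_prime_orderOf_dvd_card' (G := K) p (hc ▸ dvd_pow_self p hn'.ne')
      have hmem : (x : Equiv.Perm Ω) ∈ tors K h p :=
        ⟨x.2, by rw [← hx, ← Subgroup.orderOf_coe]; exact pow_orderOf_eq_one _⟩
      rw [pow_zero, Subgroup.card_eq_one] at hk
      rw [hk, Subgroup.mem_bot] at hmem
      have : x = 1 := Subtype.ext hmem
      rw [this, orderOf_one] at hx
      exact hp.one_lt.ne hx
    obtain ⟨z, hz, hz1⟩ : ∃ z ∈ tors K h p, z ≠ 1 := by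
      by_contra hcon
      push Not at hcon
      rw [(Subgroup.eq_bot_iff_forall _).mpr hcon, Subgroup.card_bot] at hk
      exact hk0 ((Nat.pow_eq_one.mp hk.symm).resolve_left hp.one_lt.ne')
    obtain ⟨ω, hω⟩ : ∃ ω, z ω ≠ ω := by
      by_contra hcon
      push Not at hcon
      exact hz1 (Equiv.ext hcon)
    let K' : Subgroup (Equiv.Perm Ω) := K ⊓ MulAction.stabilizer _ ω
    let O : Finset Ω := Finset.univ.filter (fun x => ∃ g ∈ K, g ω = x)
    have hfixO : ∀ g ∈ K', ∀ x ∈ O, g x = x := by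
      intro g hg x hx
      obtain ⟨c, hc, rfl⟩ := (Finset.mem_filter.mp hx).2
      have e1 : g (c ω) = c (g ω) := DFunLike.congr_fun (h g hg.1 c hc) ω
      rw [e1, show g ω = ω from hg.2]
    have hOS : O ⊆ S := by
      intro x hx
      obtain ⟨c, hc, rfl⟩ := (Finset.mem_filter.mp hx).2
      by_contra hcS
      have h1 := hsupp z hz.1 _ hcS
      have e1 : z (c ω) = c (z ω) := DFunLike.congr_fun (h z hz.1 c hc) ω
      rw [e1] at h1
      exact hω (c.injective h1)
    have hOne : O.Nonempty := ⟨ω, Finset.mem_filter.mpr ⟨Finset.mem_univ _, 1, one_mem _, rfl⟩⟩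
    have hidx : (K'.subgroupOf K).index = O.card := by
      have e : K'.subgroupOf K = MulAction.stabilizer K ω := by
        ext ⟨g, hg⟩
        simp [K', Subgroup.mem_subgroupOf, hg]
      rw [e, MulAction.index_stabilizer, ← Set.ncard_coe_finset]
      congr 1
      ext x
      simp [O, MulAction.mem_orbit_iff, Subgroup.smul_def, Equiv.Perm.smul_def]
    have hle : K' ≤ K := inf_le_left
    have hcardK : Nat.card K = Nat.card K' * O.card := by
      rw [← hidx, ← Nat.card_congr (Subgroup.subgroupOfEquivOfLe hle).toEquiv, Subgroup.card_mul_index]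
    have h' : ∀ x ∈ K', ∀ y ∈ K', x * y = y * x := fun x hx y hy => h x hx.1 y hy.1
    have hK' : IsPGroup p K' := hK.to_le hle
    obtain ⟨k', hk'⟩ : ∃ k', Nat.card (tors K' h' p) = p ^ k' := by
      have : Fact p.Prime := ⟨hp⟩
      exact IsPGroup.iff_card.mp (hK'.to_le fun x hx => hx.1)
    have hE : tors K' h' p = tors K h p ⊓ K' := by
      ext x
      exact ⟨fun hx => ⟨⟨hx.1.1, hx.2⟩, hx.1⟩, fun hx => ⟨hx.2, hx.1.2⟩⟩
    have hlt : k' < k := by
      have h1 : tors K' h' p < tors K h p := by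
        rw [hE]
        exact inf_le_left.lt_of_ne fun he => by
          have h2 : z ∈ K' := by
            have h3 := hz
            rw [← he] at h3
            exact h3.2
          exact hω h2.2
      have h2 : Nat.card (tors K' h' p) < Nat.card (tors K h p) :=
        (Subgroup.card_le_of_le h1.le).lt_of_ne fun he => h1.ne (Subgroup.eq_of_le_of_card_ge h1.le he.ge)
      rw [hk, hk'] at h2
      exact (Nat.pow_lt_pow_iff_right hp.one_lt).mp h2
    have hpo : p ^ (k - k') ≤ O.card := by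
      have h1 : (tors K' h' p).relIndex (tors K h p) ≤ K'.relIndex K := by
        rw [hE, inf_comm, Subgroup.inf_relIndex_right]
        exact Subgroup.relIndex_le_of_le_right (fun x hx => hx.1) (Subgroup.index_ne_zero_of_finite (H := K'.subgroupOf K))
      have h2 := Subgroup.relIndex_mul_relIndex (⊥ : Subgroup (Equiv.Perm Ω)) (tors K' h' p) (tors K h p)
        bot_le (by rw [hE]; exact inf_le_left)
      rw [Subgroup.relIndex_bot_left, Subgroup.relIndex_bot_left, hk, hk'] at h2
      have h3 : (tors K' h' p).relIndex (tors K h p) = p ^ (k - k') :=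
        Nat.eq_of_mul_eq_mul_left (pow_pos hp.pos k') (by rw [h2, ← pow_add, Nat.add_sub_cancel' hlt.le])
      rw [h3] at h1
      exact h1.trans hidx.le
    have hm : (S \ O).card = n - O.card := by rw [Finset.card_sdiff_of_subset hOS, hS]
    have hon : O.card ≤ n := hS ▸ Finset.card_le_card hOS
    have hO0 : 0 < O.card := hOne.card_pos
    have hrec := ih (n - O.card) (by omega) (S \ O) hm K' h' hK' (fun g hg x hx => by
      rw [Finset.mem_sdiff, not_and_not_right] at hx
      by_cases hxS : x ∈ S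
      · exact hfixO g hg x (hx hxS)
      · exact hsupp g hg.1 x hxS) k' hk'
    have hr := self_pow_le hp.two_le (show 1 ≤ k - k' by omega) hpo
    rw [hcardK]
    rcases Nat.eq_zero_or_pos k' with hk0' | hk0'
    · subst hk0'
      simp only [pow_zero, mul_one] at hrec
      have h1 : Nat.card K' = 1 := le_antisymm hrec Nat.card_pos
      rw [h1, one_mul]
      exact hr.trans (Nat.pow_le_pow_left hon _)
    · have hw := weighted (o := O.card) (m := n - O.card) (show 1 ≤ k - k' by omega) hk0'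
      rw [Nat.sub_add_cancel hlt.le, Nat.add_sub_cancel' hon] at hw
      have hpos : 0 < (k - k') ^ (k - k') * k' ^ k' :=
        Nat.mul_pos (pow_pos (by omega) _) (pow_pos hk0' _)
      refine Nat.le_of_mul_le_mul_left ?_ hpos
      calc (k - k') ^ (k - k') * k' ^ k' * (Nat.card K' * O.card * k ^ k)
          = (O.card * (k - k') ^ (k - k')) * (Nat.card K' * k' ^ k') * k ^ k := by ring
        _ ≤ O.card ^ (k - k') * (n - O.card) ^ k' * k ^ k := by gcongr
        _ ≤ _ := hw


/-- Let p be a prime, Ω a finite set with n ≥ p elements, and A an abelian p-subgroup of the symmetric group on Ω whose elements of order dividing p number p^k (so k is the rank of A). Then |A| · k^k ≤ n^k, that is, |A| ≤ (n/k)^k. -/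
theorem result {Ω : Type*} [Fintype Ω] [DecidableEq Ω]
    (p : ℕ) (hp : p.Prime) (hn : p ≤ Fintype.card Ω) (A : Subgroup (Equiv.Perm Ω)) (hA : IsPGroup p A) (hab : IsMulCommutative A)
    (k : ℕ) (hk : Nat.card {x : A // x ^ p = 1} = p ^ k) :
    Nat.card A * k ^ k ≤ Fintype.card Ω ^ k := by
  have h : ∀ x ∈ A, ∀ y ∈ A, x * y = y * x := fun x hx y hy =>
    congrArg Subtype.val (hab.is_comm.comm (⟨x, hx⟩ : A) ⟨y, hy⟩)
  refine bound hp _ Finset.univ Finset.card_univ A h hA (fun g _ x hx => absurd (Finset.mem_univ x) hx) k ?_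
  rw [← hk]
  exact Nat.card_congr
    { toFun := fun x => ⟨⟨x.1, x.2.1⟩, Subtype.ext x.2.2⟩
      invFun := fun x => ⟨x.1.1, x.1.2, congrArg Subtype.val x.2⟩
      left_inv := fun x => rfl
      right_inv := fun x => rfl }

end Cfsg.Agent.S3696
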